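import Mathlib
import Groth.Agent.Lib.Helper13WLoc3
import Groth.Agent.Lib.Helper3HenselE
import Groth.Agent.Lib.Helper3HenselB
import Groth.Agent.Lib.Helper3WLocRetr
import Groth.Agent.S0505
import Groth.Agent.S0750
import Groth.Agent.S0677

set_option autoImplicit false
set_option linter.style.haveILetI false
set_option linter.unusedSectionVars false
open TensorProduct IsLocalRing

namespace Groth.Agent.Helper13WLoc4

universe u

/-- An integral algebra map between local rings is local. -/
theorem isLocalHom_of_isIntegral (R L : Type*) [CommRing R] [CommRing L] [IsLocalRing R]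
    [IsLocalRing L] [Algebra R L] [Algebra.IsIntegral R L] : IsLocalHom (algebraMap R L) := by
  refine ⟨fun r hr => ?_⟩
  by_contra hnu
  have h1 : r ∈ maximalIdeal R := (mem_maximalIdeal r).mpr hnu
  have h2 : (maximalIdeal L).comap (algebraMap R L) = maximalIdeal R :=
    IsLocalRing.eq_maximalIdeal (Ideal.isMaximal_comap_of_isIntegral_of_isMaximal (maximalIdeal L))
  rw [← h2] at h1
  exact ((mem_maximalIdeal _).mp h1) hr

/-- A local ring finite over a strictly henselian local ring is strictly henselian. -/
theorem isStrictlyHenselian_of_finite (R L : Type u) [CommRing R] [CommRing L] [IsLocalRing L]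
    [Algebra R L] [Module.Finite R L] (h : EtCoh.IsStrictlyHenselianLocalRing R) :
    EtCoh.IsStrictlyHenselianLocalRing L := by
  obtain ⟨hH, hS⟩ := h
  haveI := hH
  haveI := hS
  refine ⟨Groth.Agent.S0505.result R L, ?_⟩
  haveI : Algebra.IsIntegral R L := Algebra.IsIntegral.of_finite R L
  haveI : IsLocalHom (algebraMap R L) := isLocalHom_of_isIntegral R L
  haveI : Algebra.IsAlgebraic (ResidueField R) (ResidueField L) :=
    Algebra.IsAlgebraic.of_finite _ _
  exact Algebra.IsAlgebraic.isSepClosed (F := ResidueField R)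

section Local

variable {A B : Type u} [CommRing A] [CommRing B] [Algebra A B] [Module.Finite A B]
  (m : Ideal A) [hm : m.IsMaximal]

theorem disjoint_of_comap_le (q : Ideal B) (hq : q.comap (algebraMap A B) ≤ m) :
    Disjoint ((Algebra.algebraMapSubmonoid B m.primeCompl : Submonoid B) : Set B) (q : Set B) := by
  rw [Set.disjoint_left]
  rintro _ ⟨a, ha, rfl⟩ hq'
  exact ha (hq hq')

/-- the extension of a prime of `B` lying over a prime inside `m` to the localization -/
theorem map_isPrime (q : Ideal B) [hq : q.IsPrime] (hqm : q.comap (algebraMap A B) ≤ m) :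
    (q.map (algebraMap B (Localization (Algebra.algebraMapSubmonoid B m.primeCompl)))).IsPrime ∧
    (q.map (algebraMap B (Localization (Algebra.algebraMapSubmonoid B m.primeCompl)))).comap
      (algebraMap B (Localization (Algebra.algebraMapSubmonoid B m.primeCompl))) = q :=
  ⟨IsLocalization.isPrime_of_isPrime_disjoint _ _ q hq (disjoint_of_comap_le m q hqm),
    IsLocalization.under_map_of_isPrime_disjoint _ _ hq (disjoint_of_comap_le m q hqm)⟩

theorem map_liesOver (n : Ideal B) [hn : n.IsPrime] (hnm : n.comap (algebraMap A B) = m) :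
    (n.map (algebraMap B (Localization (Algebra.algebraMapSubmonoid B m.primeCompl)))).LiesOver
      (maximalIdeal (Localization.AtPrime m)) := by
  obtain ⟨hp, hc⟩ := map_isPrime m n hnm.le
  constructor
  apply le_antisymm
  · rw [← Localization.AtPrime.map_eq_maximalIdeal, Ideal.map_le_iff_le_comap, Ideal.under_def,
      Ideal.comap_comap, ← IsScalarTower.algebraMap_eq,
      IsScalarTower.algebraMap_eq A B, ← Ideal.comap_comap, hc, hnm]
  · apply IsLocalRing.le_maximalIdeal
    haveI := hp
    exact (Ideal.comap_isPrime _ _).ne_top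

/-- the idempotent isolating a maximal ideal over `m` -/
theorem exists_idem [HenselianLocalRing (Localization.AtPrime m)] (n : Ideal B) [hn : n.IsPrime]
    (hnm : n.comap (algebraMap A B) = m) :
    ∃ e : Localization (Algebra.algebraMapSubmonoid B m.primeCompl), IsIdempotentElem e ∧
      e ∉ n.map (algebraMap B (Localization (Algebra.algebraMapSubmonoid B m.primeCompl))) ∧
      Module.Finite (Localization.AtPrime m)
        (Localization (Algebra.algebraMapSubmonoid B m.primeCompl) ⧸ Ideal.span {1 - e}) ∧
      ∀ n' : Ideal B, n'.IsPrime → n'.comap (algebraMap A B) = m →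
        e ∉ n'.map (algebraMap B (Localization (Algebra.algebraMapSubmonoid B m.primeCompl))) →
        n' = n := by
  obtain ⟨hp, hc⟩ := map_isPrime m n hnm.le
  haveI := hp
  haveI := map_liesOver m n hnm
  obtain ⟨e, he, hen, hfin, huniq⟩ := Groth.Agent.Lib.Helper3.Hensel.exists_idempotent_of_quasiFiniteAt
    (R := Localization.AtPrime m)
    (n.map (algebraMap B (Localization (Algebra.algebraMapSubmonoid B m.primeCompl))))
  refine ⟨e, he, hen, hfin, ?_⟩
  intro n' hn' hn'm hen'
  obtain ⟨hp', hc'⟩ := map_isPrime m n' hn'm.le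
  have := huniq _ hp' (map_liesOver m n' hn'm) hen'
  rw [← hc, ← hc', this]

/-- **(L1)**: a prime of `B` is contained in at most one prime over `m`. -/
theorem unique_over [HenselianLocalRing (Localization.AtPrime m)] (q n₁ n₂ : Ideal B)
    [hq : q.IsPrime] [hn₁ : n₁.IsPrime] [hn₂ : n₂.IsPrime]
    (h₁ : n₁.comap (algebraMap A B) = m) (h₂ : n₂.comap (algebraMap A B) = m)
    (hq₁ : q ≤ n₁) (hq₂ : q ≤ n₂) : n₁ = n₂ := by
  obtain ⟨e, he, hen, -, huniq⟩ := exists_idem m n₁ h₁
  by_contra hne
  have he2 : e ∈ n₂.map (algebraMap B (Localization (Algebra.algebraMapSubmonoid B m.primeCompl))) := by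
    by_contra h
    exact hne (huniq n₂ hn₂ h₂ h).symm
  have hqm : q.comap (algebraMap A B) ≤ m := by
    rw [← h₁]; exact Ideal.comap_mono hq₁
  obtain ⟨hpq, -⟩ := map_isPrime m q hqm
  obtain ⟨hp2, -⟩ := map_isPrime m n₂ h₂.le
  have heq : e ∉ q.map (algebraMap B (Localization (Algebra.algebraMapSubmonoid B m.primeCompl))) :=
    fun h => hen (Ideal.map_mono hq₁ h)
  have h0 : e * (1 - e) ∈
      q.map (algebraMap B (Localization (Algebra.algebraMapSubmonoid B m.primeCompl))) := by
    rw [mul_sub, mul_one, he.eq, sub_self]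
    exact Ideal.zero_mem _
  have h1 : (1 - e) ∈
      q.map (algebraMap B (Localization (Algebra.algebraMapSubmonoid B m.primeCompl))) :=
    (hpq.mem_or_mem h0).resolve_left heq
  have h2 := Ideal.add_mem _ he2 (Ideal.map_mono hq₂ h1)
  rw [add_sub_cancel] at h2
  exact hp2.ne_top ((Ideal.eq_top_iff_one _).mpr h2)

set_option maxHeartbeats 1600000 in
/-- **(L2)**: the local ring of `B` at a maximal ideal over `m` is strictly henselian. -/
theorem isStrictlyHenselian_localization
    (hsh : EtCoh.IsStrictlyHenselianLocalRing (Localization.AtPrime m)) (n : Ideal B)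
    [hn : n.IsMaximal] (hnm : n.comap (algebraMap A B) = m) :
    EtCoh.IsStrictlyHenselianLocalRing (Localization.AtPrime n) := by
  obtain ⟨hH, hS⟩ := hsh
  haveI := hH
  haveI hnp : n.IsPrime := hn.isPrime
  obtain ⟨e, he, hen, hfin, huniq⟩ := exists_idem m n hnm
  obtain ⟨hp, hc⟩ := map_isPrime m n hnm.le
  haveI := hfin
  -- maximal ideals of `S` not containing `e` equal `N`
  have hmaxS : ∀ M₁ : Ideal (Localization (Algebra.algebraMapSubmonoid B m.primeCompl)),
      M₁.IsMaximal → e ∉ M₁ →
      M₁ = n.map (algebraMap B (Localization (Algebra.algebraMapSubmonoid B m.primeCompl))) := by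
    intro M₁ hM₁ heM
    have hM₁p := hM₁.isPrime
    have hn'p : (M₁.comap (algebraMap B
        (Localization (Algebra.algebraMapSubmonoid B m.primeCompl)))).IsPrime :=
      Ideal.comap_isPrime _ _
    have hn'm : (M₁.comap (algebraMap B
        (Localization (Algebra.algebraMapSubmonoid B m.primeCompl)))).comap (algebraMap A B) = m := by
      haveI : Algebra.IsIntegral (Localization.AtPrime m)
          (Localization (Algebra.algebraMapSubmonoid B m.primeCompl)) :=
        Algebra.IsIntegral.of_finite _ _
      have h1 : M₁.comap (algebraMap (Localization.AtPrime m)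
          (Localization (Algebra.algebraMapSubmonoid B m.primeCompl))) = maximalIdeal _ :=
        IsLocalRing.eq_maximalIdeal (Ideal.isMaximal_comap_of_isIntegral_of_isMaximal M₁)
      rw [Ideal.comap_comap, ← IsScalarTower.algebraMap_eq,
        IsScalarTower.algebraMap_eq A (Localization.AtPrime m), ← Ideal.comap_comap, h1]
      exact Localization.AtPrime.comap_maximalIdeal
    have hmap : (M₁.comap (algebraMap B
        (Localization (Algebra.algebraMapSubmonoid B m.primeCompl)))).map (algebraMap B _) = M₁ :=
      IsLocalization.map_under (Algebra.algebraMapSubmonoid B m.primeCompl) _ M₁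
    have := huniq _ hn'p hn'm (by rw [hmap]; exact heM)
    rw [← hmap, this]
  have h1e : (1 - e) ∈
      n.map (algebraMap B (Localization (Algebra.algebraMapSubmonoid B m.primeCompl))) := by
    have h0 : e * (1 - e) ∈
        n.map (algebraMap B (Localization (Algebra.algebraMapSubmonoid B m.primeCompl))) := by
      rw [mul_sub, mul_one, he.eq, sub_self]
      exact Ideal.zero_mem _
    exact (hp.mem_or_mem h0).resolve_left hen
  have hnt : Nontrivial (Localization (Algebra.algebraMapSubmonoid B m.primeCompl) ⧸
      Ideal.span {1 - e}) := by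
    apply Ideal.Quotient.nontrivial_iff.mpr
    intro htop
    apply hp.ne_top
    rw [eq_top_iff, ← htop, Ideal.span_singleton_le_iff_mem]
    exact h1e
  haveI : IsLocalRing (Localization (Algebra.algebraMapSubmonoid B m.primeCompl) ⧸
      Ideal.span {1 - e}) :=
    Groth.Agent.Lib.Helper3.Hensel.isLocalRing_quotient_one_sub e hnt
      (fun M₁ M₂ h1 h2 e1 e2 => (hmaxS M₁ h1 e1).trans (hmaxS M₂ h2 e2).symm)
  have hLsh : EtCoh.IsStrictlyHenselianLocalRing
      (Localization (Algebra.algebraMapSubmonoid B m.primeCompl) ⧸ Ideal.span {1 - e}) :=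
    isStrictlyHenselian_of_finite (Localization.AtPrime m) _ ⟨hH, hS⟩
  -- the maximal ideal of `L` pulls back to `N`
  have hmaxL : (maximalIdeal (Localization (Algebra.algebraMapSubmonoid B m.primeCompl) ⧸
      Ideal.span {1 - e})).comap (Ideal.Quotient.mk (Ideal.span {1 - e})) =
      n.map (algebraMap B (Localization (Algebra.algebraMapSubmonoid B m.primeCompl))) := by
    apply hmaxS
    · exact Ideal.comap_isMaximal_of_surjective _ Ideal.Quotient.mk_surjective
    · intro hemem
      have h1 : (1 - e) ∈ (maximalIdeal (Localization (Algebra.algebraMapSubmonoid B m.primeCompl) ⧸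
          Ideal.span {1 - e})).comap (Ideal.Quotient.mk (Ideal.span {1 - e})) := by
        rw [Ideal.mem_comap, Ideal.Quotient.eq_zero_iff_mem.mpr (Ideal.mem_span_singleton_self _)]
        exact Ideal.zero_mem _
      have h2 := Ideal.add_mem _ hemem h1
      rw [add_sub_cancel] at h2
      have hprime : ((maximalIdeal (Localization (Algebra.algebraMapSubmonoid B m.primeCompl) ⧸
          Ideal.span {1 - e})).comap (Ideal.Quotient.mk (Ideal.span {1 - e}))).IsPrime :=
        Ideal.comap_isPrime _ _
      exact hprime.ne_top ((Ideal.eq_top_iff_one _).mpr h2)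
  haveI : IsLocalization.AtPrime (Localization (Algebra.algebraMapSubmonoid B m.primeCompl) ⧸
      Ideal.span {1 - e}) n := by
    refine (isLocalization_iff _ _).mpr ⟨?_, ?_, ?_⟩
    · rintro ⟨y, hy⟩
      apply IsLocalRing.notMem_maximalIdeal.mp
      intro hmem
      apply hy
      have h1 : algebraMap B (Localization (Algebra.algebraMapSubmonoid B m.primeCompl)) y ∈
          (maximalIdeal (Localization (Algebra.algebraMapSubmonoid B m.primeCompl) ⧸
          Ideal.span {1 - e})).comap (Ideal.Quotient.mk (Ideal.span {1 - e})) := hmem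
      rw [hmaxL] at h1
      rw [← hc]
      exact h1
    · intro z
      obtain ⟨s, rfl⟩ := Ideal.Quotient.mk_surjective z
      obtain ⟨b, t, rfl⟩ := IsLocalization.exists_mk'_eq (Algebra.algebraMapSubmonoid B m.primeCompl) s
      have htn : (t : B) ∈ n.primeCompl := by
        intro htn
        exact Set.disjoint_left.mp (disjoint_of_comap_le m n hnm.le) t.2 htn
      refine ⟨(b, ⟨t, htn⟩), ?_⟩
      show Ideal.Quotient.mk _ _ * Ideal.Quotient.mk _ (algebraMap B _ (t : B)) =
        Ideal.Quotient.mk _ (algebraMap B _ b)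
      rw [← map_mul, IsLocalization.mk'_spec]
    · intro x y hxy
      have h0 : Ideal.Quotient.mk (Ideal.span {1 - e})
          (algebraMap B (Localization (Algebra.algebraMapSubmonoid B m.primeCompl)) (x - y)) = 0 := by
        rw [map_sub, map_sub, sub_eq_zero]
        exact hxy
      rw [Ideal.Quotient.eq_zero_iff_mem, Ideal.mem_span_singleton'] at h0
      obtain ⟨w, hw⟩ := h0
      have h1 : e * algebraMap B (Localization (Algebra.algebraMapSubmonoid B m.primeCompl))
          (x - y) = 0 := by
        rw [← hw]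
        calc e * (w * (1 - e)) = w * (e - e * e) := by ring
          _ = 0 := by rw [he.eq, sub_self, mul_zero]
      obtain ⟨be, se, hbe⟩ := IsLocalization.exists_mk'_eq
        (Algebra.algebraMapSubmonoid B m.primeCompl) e
      have hben : be ∉ n := by
        intro hmem
        apply hen
        rw [← hbe, IsLocalization.mk'_eq_mul_mk'_one]
        exact Ideal.mul_mem_right _ _ (Ideal.mem_map_of_mem _ hmem)
      have h2 : algebraMap B (Localization (Algebra.algebraMapSubmonoid B m.primeCompl))
          (be * (x - y)) = 0 := by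
        rw [map_mul, ← IsLocalization.mk'_spec' (M := Algebra.algebraMapSubmonoid B m.primeCompl)
          (Localization (Algebra.algebraMapSubmonoid B m.primeCompl)) be se, hbe, mul_assoc, h1,
          mul_zero]
      rw [IsLocalization.map_eq_zero_iff (Algebra.algebraMapSubmonoid B m.primeCompl)] at h2
      obtain ⟨t, ht⟩ := h2
      have htn : (t : B) ∉ n := by
        intro htn
        exact Set.disjoint_left.mp (disjoint_of_comap_le m n hnm.le) t.2 htn
      refine ⟨⟨t * be, ?_⟩, ?_⟩
      · intro hmem
        rcases hnp.mem_or_mem hmem with h | h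
        · exact htn h
        · exact hben h
      · show (t : B) * be * x = t * be * y
        rw [← sub_eq_zero, ← mul_sub, mul_assoc]
        exact ht
  exact Groth.Agent.Helper13WLoc.isStrictlyHenselian_of_ringEquiv
    (IsLocalization.algEquiv n.primeCompl _ (Localization.AtPrime n)).toRingEquiv hLsh

end Local

section Global

open Groth.Agent.Helper13WLoc Groth.Agent.Lib.Helper3.WLocRetr

variable (A B : Type u) [CommRing A] [CommRing B] [Algebra A B] [Module.Finite A B]

theorem closedPoints_eq_preimage :
    ProEtW.closedPoints (PrimeSpectrum B) =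
      PrimeSpectrum.comap (algebraMap A B) ⁻¹' ProEtW.closedPoints (PrimeSpectrum A) := by
  haveI : Algebra.IsIntegral A B := Algebra.IsIntegral.of_finite A B
  ext x
  rw [Set.mem_preimage, Groth.Agent.Helper13WLoc.mem_closedPoints_iff,
    Groth.Agent.Helper13WLoc.mem_closedPoints_iff]
  constructor
  · intro h
    haveI := h
    exact Ideal.isMaximal_comap_of_isIntegral_of_isMaximal x.asIdeal
  · intro h
    exact Ideal.isMaximal_of_isIntegral_of_isMaximal_comap x.asIdeal h

theorem isWLocal_of_finite (hwl : ProEtW.IsWLocal (PrimeSpectrum A))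
    (hH : ∀ (m : Ideal A) [m.IsMaximal], HenselianLocalRing (Localization.AtPrime m)) :
    ProEtW.IsWLocal (PrimeSpectrum B) := by
  haveI : Algebra.IsIntegral A B := Algebra.IsIntegral.of_finite A B
  refine ⟨inferInstance, ?_, ?_⟩
  · show IsClosed (ProEtW.closedPoints (PrimeSpectrum B))
    rw [closedPoints_eq_preimage A B]
    exact hwl.2.1.preimage (PrimeSpectrum.continuous_comap _)
  · intro x
    obtain ⟨n, hn, hxn⟩ := Ideal.exists_le_maximal x.asIdeal x.2.ne_top
    refine ⟨⟨n, hn.isPrime⟩, ⟨(PrimeSpectrum.isClosed_singleton_iff_isMaximal _).mpr hn,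
      (PrimeSpectrum.le_iff_specializes x ⟨n, hn.isPrime⟩).mp hxn⟩, ?_⟩
    rintro y ⟨hycl, hxy⟩
    have hy : y.asIdeal.IsMaximal := (PrimeSpectrum.isClosed_singleton_iff_isMaximal _).mp hycl
    have hxy' : x.asIdeal ≤ y.asIdeal := (PrimeSpectrum.le_iff_specializes x y).mpr hxy
    haveI hn' : (n.comap (algebraMap A B)).IsMaximal :=
      Ideal.isMaximal_comap_of_isIntegral_of_isMaximal n
    have hy' : (y.asIdeal.comap (algebraMap A B)).IsMaximal :=
      Ideal.isMaximal_comap_of_isIntegral_of_isMaximal y.asIdeal
    have huniq := (hwl.2.2 (PrimeSpectrum.comap (algebraMap A B) x)).unique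
      (y₁ := PrimeSpectrum.comap (algebraMap A B) ⟨n, hn.isPrime⟩)
      (y₂ := PrimeSpectrum.comap (algebraMap A B) y)
      ⟨(PrimeSpectrum.isClosed_singleton_iff_isMaximal _).mpr hn',
        (PrimeSpectrum.le_iff_specializes _ _).mp (Ideal.comap_mono hxn)⟩
      ⟨(PrimeSpectrum.isClosed_singleton_iff_isMaximal _).mpr hy',
        (PrimeSpectrum.le_iff_specializes _ _).mp (Ideal.comap_mono hxy')⟩
    have heq : y.asIdeal.comap (algebraMap A B) = n.comap (algebraMap A B) :=
      congrArg PrimeSpectrum.asIdeal huniq.symm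
    haveI := hH (n.comap (algebraMap A B))
    haveI := hn.isPrime
    apply PrimeSpectrum.ext
    exact unique_over (n.comap (algebraMap A B)) x.asIdeal y.asIdeal n heq rfl hxy' hxn

/-- two embeddings with the same range have homeomorphic sources -/
noncomputable def homeoOfRangeEq {X Y Z : Type*} [TopologicalSpace X] [TopologicalSpace Y]
    [TopologicalSpace Z] (f : X → Z) (g : Y → Z) (hf : Topology.IsEmbedding f)
    (hg : Topology.IsEmbedding g) (h : Set.range f = Set.range g) : X ≃ₜ Y :=
  (hf.toHomeomorph).trans ((Homeomorph.setCongr h).trans hg.toHomeomorph.symm)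

theorem exists_homeo_pi0 (R : Type u) [CommRing R] (hwl : ProEtW.IsWLocal (PrimeSpectrum R))
    (I : Ideal R)
    (hI0 : PrimeSpectrum.zeroLocus (I : Set R) = ProEtW.closedPoints (PrimeSpectrum R)) :
    Nonempty (ConnectedComponents (PrimeSpectrum R) ≃ₜ PrimeSpectrum (R ⧸ I)) ∧
      T2Space (PrimeSpectrum (R ⧸ I)) := by
  obtain ⟨T, _, _, _, _, ρ, hρ, hinj, hrange, hind⟩ := exists_closedPt_space' hwl
  have e1 : ConnectedComponents (PrimeSpectrum R) ≃ₜ T := pi0HomeoClosedPt ρ hρ hwl hinj hrange
  have hemb : Topology.IsEmbedding ρ := ⟨hind, hinj⟩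
  have hemb2 : Topology.IsEmbedding (PrimeSpectrum.comap (Ideal.Quotient.mk I)) :=
    (PrimeSpectrum.isClosedEmbedding_comap_of_surjective _ _
      Ideal.Quotient.mk_surjective).isEmbedding
  have hr2 : Set.range (PrimeSpectrum.comap (Ideal.Quotient.mk I)) = Set.range ρ := by
    rw [hrange, ← hI0, range_comap_of_surjective _ _ Ideal.Quotient.mk_surjective,
      Ideal.mk_ker]
  let e2 : PrimeSpectrum (R ⧸ I) ≃ₜ T := homeoOfRangeEq _ _ hemb2 hemb hr2
  exact ⟨⟨e1.trans e2.symm⟩, e2.symm.t2Space⟩

set_option maxHeartbeats 800000 in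
theorem extremallyDisconnected_pi0_of_finite [Algebra.FinitePresentation A B]
    (hwlA : ProEtW.IsWLocal (PrimeSpectrum A)) (hwlB : ProEtW.IsWLocal (PrimeSpectrum B))
    (hed : ExtremallyDisconnected (ConnectedComponents (PrimeSpectrum A)))
    (hsc : ∀ (m : Ideal A) [m.IsMaximal], IsSepClosed m.ResidueField) :
    ExtremallyDisconnected (ConnectedComponents (PrimeSpectrum B)) := by
  obtain ⟨I, hI, hI0⟩ := closedPoints_ideal A hwlA
  have hJ0 : PrimeSpectrum.zeroLocus ((I.map (algebraMap A B) : Ideal B) : Set B) =
      ProEtW.closedPoints (PrimeSpectrum B) := by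
    rw [closedPoints_eq_preimage A B, ← hI0]
    ext x
    rw [Set.mem_preimage, PrimeSpectrum.mem_zeroLocus, PrimeSpectrum.mem_zeroLocus,
      SetLike.coe_subset_coe, SetLike.coe_subset_coe, Ideal.map_le_iff_le_comap]
    rfl
  obtain ⟨⟨eA⟩, hT2⟩ := exists_homeo_pi0 A hwlA I hI0
  obtain ⟨⟨eB⟩, -⟩ := exists_homeo_pi0 B hwlB (I.map (algebraMap A B)) hJ0
  haveI := hT2
  haveI := hed
  haveI : ExtremallyDisconnected (PrimeSpectrum (A ⧸ I)) :=
    extremallyDisconnected_of_homeo eA.symm
  haveI : Module.Finite (A ⧸ I) (B ⧸ I.map (algebraMap A B)) :=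
    Module.Finite.equiv (Algebra.TensorProduct.quotIdealMapEquivQuotTensor B I).symm.toLinearEquiv
  haveI : Algebra.FinitePresentation (A ⧸ I) (B ⧸ I.map (algebraMap A B)) :=
    Algebra.FinitePresentation.equiv (Algebra.TensorProduct.quotIdealMapEquivQuotTensor B I).symm
  have hres : ∀ p : PrimeSpectrum (A ⧸ I), IsSepClosed p.asIdeal.ResidueField := by
    intro p
    have hmem : PrimeSpectrum.comap (Ideal.Quotient.mk I) p ∈
        ProEtW.closedPoints (PrimeSpectrum A) := by
      have h1 : Set.range (PrimeSpectrum.comap (Ideal.Quotient.mk I)) =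
          PrimeSpectrum.zeroLocus (I : Set A) := by
        rw [range_comap_of_surjective _ _ Ideal.Quotient.mk_surjective, Ideal.mk_ker]
      rw [← hI0, ← h1]
      exact Set.mem_range_self p
    haveI hmax : (p.asIdeal.comap (Ideal.Quotient.mk I)).IsMaximal :=
      (Groth.Agent.Helper13WLoc.mem_closedPoints_iff _).mp hmem
    haveI := hsc (p.asIdeal.comap (Ideal.Quotient.mk I))
    have hbij := RingHom.SurjectiveOnStalks.residueFieldMap_bijective
      (RingHom.surjectiveOnStalks_of_surjective (Ideal.Quotient.mk_surjective (I := I)))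
      (p.asIdeal.comap (Ideal.Quotient.mk I)) p.asIdeal rfl
    exact Groth.Agent.Lib.Helper3.ShQuot.isSepClosed_of_ringEquiv (RingEquiv.ofBijective _ hbij)
  haveI : ExtremallyDisconnected (PrimeSpectrum (B ⧸ I.map (algebraMap A B))) :=
    Groth.Agent.S0750.result (A ⧸ I) (B ⧸ I.map (algebraMap A B)) hres
  exact extremallyDisconnected_of_homeo eB

/-- **Stacks 0982**: finite, finitely presented algebras over w-contractible rings are
w-contractible. -/
theorem isWContractible_of_finite [Algebra.FinitePresentation A B]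
    (h : EtPBC.IsWContractible A) : EtPBC.IsWContractible B := by
  obtain ⟨hwl, hed, hsh⟩ := (Groth.Agent.S0677.result A).mp h
  have hwlB : ProEtW.IsWLocal (PrimeSpectrum B) :=
    isWLocal_of_finite A B hwl (fun m _ => (hsh m).1)
  haveI : Algebra.IsIntegral A B := Algebra.IsIntegral.of_finite A B
  refine (Groth.Agent.S0677.result B).mpr ⟨hwlB, ?_, ?_⟩
  · exact extremallyDisconnected_pi0_of_finite A B hwl hwlB hed (fun m _ => (hsh m).2)
  · intro n hn
    haveI : (n.comap (algebraMap A B)).IsMaximal :=
      Ideal.isMaximal_comap_of_isIntegral_of_isMaximal n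
    exact isStrictlyHenselian_localization (n.comap (algebraMap A B))
      (hsh (n.comap (algebraMap A B))) n rfl

end Global

end Groth.Agent.Helper13WLoc4
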