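import Mathlib
import Groth.Prelude.Def_FlatCA

/-!
# Weakly associated primes (helper library)
-/

universe u

namespace Groth.Agent.Helper13WeakAss

variable {R : Type u} [CommRing R]

theorem mem_ann_iff {M : Type u} [AddCommGroup M] [Module R M] (m : M) (a : R) :
    a ∈ (Submodule.span R {m}).annihilator ↔ a • m = 0 :=
  Submodule.mem_annihilator_span_singleton m a

theorem mem_weakAss_iff {M : Type u} [AddCommGroup M] [Module R M] (p : Ideal R) :
    p ∈ FlatCA.weakAss R M ↔ ∃ m : M, p ∈ (Submodule.span R {m}).annihilator.minimalPrimes :=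
  Iff.rfl

/-- If `p` is minimal over `I` and `I ≤ J ≤ p`, then `p` is minimal over `J`. -/
theorem minimalPrimes_of_le_of_le {I J p : Ideal R} (hp : p ∈ I.minimalPrimes) (hIJ : I ≤ J)
    (hJp : J ≤ p) : p ∈ J.minimalPrimes :=
  ⟨⟨hp.1.1, hJp⟩, fun _ hq hqp => hp.2 ⟨hq.1, hIJ.trans hq.2⟩ hqp⟩

/-- Key fact: if `p` is minimal over `I` and `x ∈ p` then `s * x ^ n ∈ I` for some `s ∉ p`. -/
theorem exists_notMem_mul_pow_mem {I p : Ideal R} (hp : p ∈ I.minimalPrimes) {x : R} (hx : x ∈ p) :
    ∃ s ∉ p, ∃ n : ℕ, s * x ^ n ∈ I := by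
  classical
  have := hp.1.1
  let T : Submonoid R := p.primeCompl ⊔ Submonoid.powers x
  by_contra hcon
  have hdisj : Disjoint (I : Set R) (T : Set R) := by
    rw [Set.disjoint_left]
    intro y hyI hyT
    obtain ⟨s, hs, t, ⟨n, rfl⟩, rfl⟩ := Submonoid.mem_sup.mp hyT
    exact hcon ⟨s, hs, n, hyI⟩
  obtain ⟨q, hq, hIq, hqT⟩ := Ideal.exists_le_prime_disjoint I T hdisj
  have hqp : q ≤ p := by
    intro y hy
    by_contra hyp
    exact Set.disjoint_left.mp hqT hy ((le_sup_left : p.primeCompl ≤ T) hyp)
  have hpq : p ≤ q := hp.2 ⟨hq, hIq⟩ hqp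
  exact Set.disjoint_left.mp hqT (hpq hx)
    ((le_sup_right : Submonoid.powers x ≤ T) (Submonoid.mem_powers x))

/-- Scalar multiplication in a localized module vanishes iff it does after clearing a denominator. -/
theorem smul_mk_eq_zero_iff {M : Type u} [AddCommGroup M] [Module R M]
    (S : Submonoid R) (a : R) (t s : S) (m : M) :
    (Localization.mk a t : Localization S) • (LocalizedModule.mk m s : LocalizedModule S M) = 0 ↔
      ∃ u : S, ((u : R) * a) • m = 0 := by
  have h0 : (0 : LocalizedModule S M) = LocalizedModule.mk 0 1 :=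
    (LocalizedModule.zero_mk 1).symm
  rw [LocalizedModule.mk_smul_mk, h0, LocalizedModule.mk_eq]
  constructor
  · rintro ⟨u, hu⟩
    refine ⟨u, ?_⟩
    simpa [mul_smul, Submonoid.smul_def] using hu
  · rintro ⟨u, hu⟩
    refine ⟨u, ?_⟩
    simpa [mul_smul, Submonoid.smul_def] using hu

theorem mk_eq_zero_iff {M : Type u} [AddCommGroup M] [Module R M]
    (S : Submonoid R) (s : S) (m : M) :
    (LocalizedModule.mk m s : LocalizedModule S M) = 0 ↔ ∃ u : S, (u : R) • m = 0 := by
  have h0 : (0 : LocalizedModule S M) = LocalizedModule.mk 0 1 :=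
    (LocalizedModule.zero_mk 1).symm
  rw [h0, LocalizedModule.mk_eq]
  constructor
  · rintro ⟨u, hu⟩
    refine ⟨u, ?_⟩
    simpa [Submonoid.smul_def] using hu
  · rintro ⟨u, hu⟩
    refine ⟨u, ?_⟩
    simpa [Submonoid.smul_def] using hu

/-- `R`-scalar multiplication on the localized module. -/
theorem smul_mk_eq_zero_iff' {M : Type u} [AddCommGroup M] [Module R M]
    (S : Submonoid R) (a : R) (s : S) (m : M) :
    a • (LocalizedModule.mk m s : LocalizedModule S M) = 0 ↔ ∃ u : S, ((u : R) * a) • m = 0 := by
  rw [LocalizedModule.smul'_mk, mk_eq_zero_iff]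
  constructor
  · rintro ⟨u, hu⟩
    exact ⟨u, by rw [mul_smul]; exact hu⟩
  · rintro ⟨u, hu⟩
    exact ⟨u, by rw [← mul_smul]; exact hu⟩

/-- The annihilator over `S⁻¹R` of `m/s` is the extension of the annihilator of `m`. -/
theorem annihilator_mk {M : Type u} [AddCommGroup M] [Module R M] (S : Submonoid R) (s : S) (m : M) :
    (Submodule.span (Localization S) {(LocalizedModule.mk m s : LocalizedModule S M)}).annihilator =
      (Submodule.span R {m}).annihilator.map (algebraMap R (Localization S)) := by
  apply le_antisymm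
  · intro y hy
    rw [Submodule.mem_annihilator_span_singleton] at hy
    induction y using Localization.induction_on with
    | H at_ =>
    obtain ⟨a, t⟩ := at_
    rw [smul_mk_eq_zero_iff] at hy
    obtain ⟨u, hu⟩ := hy
    have h1 : (u : R) * a ∈ (Submodule.span R {m}).annihilator := (mem_ann_iff m _).mpr hu
    have h3 : (Localization.mk a t : Localization S) =
        algebraMap R (Localization S) ((u : R) * a) * Localization.mk 1 (u * t) := by
      rw [← Localization.mk_one_eq_algebraMap, Localization.mk_mul, mul_one, one_mul,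
        Localization.mk_eq_mk_iff, Localization.r_iff_exists]
      exact ⟨1, by simp; ring⟩
    rw [h3]
    exact Ideal.mul_mem_right _ _ (Ideal.mem_map_of_mem _ h1)
  · rw [Ideal.map_le_iff_le_comap]
    intro a ha
    rw [Ideal.mem_comap, Submodule.mem_annihilator_span_singleton,
      ← Localization.mk_one_eq_algebraMap, smul_mk_eq_zero_iff]
    exact ⟨1, by simpa using (mem_ann_iff m a).mp ha⟩

/-- The annihilator over `R` of `m/s` is the contraction of its annihilator over `S⁻¹R`. -/
theorem annihilator_mk_restrict {M : Type u} [AddCommGroup M] [Module R M] (S : Submonoid R)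
    (x : LocalizedModule S M) :
    (Submodule.span R {x}).annihilator =
      (Submodule.span (Localization S) {x}).annihilator.comap (algebraMap R (Localization S)) := by
  ext a
  rw [Ideal.mem_comap, Submodule.mem_annihilator_span_singleton,
    Submodule.mem_annihilator_span_singleton, algebraMap_smul]

end Groth.Agent.Helper13WeakAss
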