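import Groth.Agent.Lib.Helper13KzPerm

/-!
# Chain-level Wiebe theorem, part A: iterated cones, components, subcomplex families (helper13)
-/

set_option autoImplicit false
set_option linter.unusedSimpArgs false
universe u

namespace Groth.Agent.Helper13Wiebe
open CategoryTheory CochainComplex
open Groth.Agent.Lib.Helper21 Groth.Agent.Helper13Kz Groth.Agent.Helper13KzPerm

variable {A : Type u} [CommRing A]

/-- the cone of multiplication by `a` -/
noncomputable abbrev Cn (a : A) (K : CochainComplex (ModuleCat.{u} A) ℤ) :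
    CochainComplex (ModuleCat.{u} A) ℤ := mappingCone (a • 𝟙 K)

/-- iterated cone, first element of the list outermost -/
noncomputable def T : List A → CochainComplex (ModuleCat.{u} A) ℤ →
    CochainComplex (ModuleCat.{u} A) ℤ
  | [], D => D
  | a :: l, D => Cn a (T l D)

/-- the degree shift of the all-`fst` component -/
def sh : List A → ℤ → ℤ
  | [], q => q
  | _ :: l, q => sh l (q + 1)

lemma sh_eq : ∀ (l : List A) (q : ℤ), sh l q = q + l.length
  | [], q => by simp [sh]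
  | _ :: l, q => by
    rw [sh, sh_eq l (q + 1), List.length_cons]
    push_cast
    ring

lemma sh_succ (l : List A) (q : ℤ) : sh l q + 1 = sh l (q + 1) := by
  rw [sh_eq, sh_eq]; ring

section Cone
variable (a : A) (K : CochainComplex (ModuleCat.{u} A) ℤ)

lemma cfst_d' (q : ℤ) (z : (Cn a K).X q) :
    cfst (a • 𝟙 K) (q + 1) (((Cn a K).d q (q + 1)).hom z) =
      - (K.d (q + 1) (q + 1 + 1)).hom (cfst (a • 𝟙 K) q z) := cfst_d _ q z

lemma csnd_d' (q : ℤ) (z : (Cn a K).X q) :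
    csnd (a • 𝟙 K) (q + 1) (((Cn a K).d q (q + 1)).hom z) =
      a • cfst (a • 𝟙 K) q z + (K.d q (q + 1)).hom (csnd (a • 𝟙 K) q z) := by
  rw [csnd_d, smul_id_f_apply]

lemma d_cinl (q : ℤ) (u : K.X (q + 1)) :
    ((Cn a K).d q (q + 1)).hom (cinl (a • 𝟙 K) q u) =
      cinl (a • 𝟙 K) (q + 1) (-(K.d (q + 1) (q + 1 + 1)).hom u) + cinr (a • 𝟙 K) (q + 1) (a • u) := by
  apply cone_ext
  · rw [cfst_d', cfst_cinl, map_add, cfst_cinl, cfst_cinr, add_zero]
  · rw [csnd_d', cfst_cinl, csnd_cinl, map_zero, add_zero, map_add, csnd_cinl, csnd_cinr, zero_add]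

lemma d_cinr (q : ℤ) (v : K.X q) :
    ((Cn a K).d q (q + 1)).hom (cinr (a • 𝟙 K) q v) =
      cinr (a • 𝟙 K) (q + 1) ((K.d q (q + 1)).hom v) := by
  apply cone_ext
  · rw [cfst_d', cfst_cinr, map_zero, neg_zero, cfst_cinr]
  · rw [csnd_d', cfst_cinr, smul_zero, zero_add, csnd_cinr, csnd_cinr]

end Cone

section Components
variable (D : CochainComplex (ModuleCat.{u} A) ℤ)

/-- the all-`fst` component -/
noncomputable def fstAll : ∀ (l : List A) (q : ℤ), (T l D).X q →ₗ[A] D.X (sh l q)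
  | [], _ => LinearMap.id
  | a :: l, q => fstAll l (q + 1) ∘ₗ cfst (a • 𝟙 (T l D)) q

/-- the all-`snd` component -/
noncomputable def sndAll : ∀ (l : List A) (q : ℤ), (T l D).X q →ₗ[A] D.X q
  | [], _ => LinearMap.id
  | a :: l, q => sndAll l q ∘ₗ csnd (a • 𝟙 (T l D)) q

/-- the all-`inl` inclusion -/
noncomputable def inlAll : ∀ (l : List A) (q : ℤ), D.X (sh l q) →ₗ[A] (T l D).X q
  | [], _ => LinearMap.id
  | a :: l, q => cinl (a • 𝟙 (T l D)) q ∘ₗ inlAll l (q + 1)

/-- the all-`inr` inclusion -/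
noncomputable def inrAll : ∀ (l : List A) (q : ℤ), D.X q →ₗ[A] (T l D).X q
  | [], _ => LinearMap.id
  | a :: l, q => cinr (a • 𝟙 (T l D)) q ∘ₗ inrAll l q

lemma fstAll_cons (a : A) (l : List A) (q : ℤ) (z : (T (a :: l) D).X q) :
    fstAll D (a :: l) q z = fstAll D l (q + 1) (cfst (a • 𝟙 (T l D)) q z) := rfl

lemma sndAll_cons (a : A) (l : List A) (q : ℤ) (z : (T (a :: l) D).X q) :
    sndAll D (a :: l) q z = sndAll D l q (csnd (a • 𝟙 (T l D)) q z) := rfl

lemma inlAll_cons (a : A) (l : List A) (q : ℤ) (y : D.X (sh (a :: l) q)) :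
    inlAll D (a :: l) q y = cinl (a • 𝟙 (T l D)) q (inlAll D l (q + 1) y) := rfl

lemma inrAll_cons (a : A) (l : List A) (q : ℤ) (y : D.X q) :
    inrAll D (a :: l) q y = cinr (a • 𝟙 (T l D)) q (inrAll D l q y) := rfl

lemma fstAll_inlAll : ∀ (l : List A) (q : ℤ) (y : D.X (sh l q)),
    fstAll D l q (inlAll D l q y) = y
  | [], _, _ => rfl
  | a :: l, q, y => by
    rw [fstAll_cons, inlAll_cons, cfst_cinl]
    exact fstAll_inlAll l (q + 1) y

lemma sndAll_inrAll : ∀ (l : List A) (q : ℤ) (y : D.X q),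
    sndAll D l q (inrAll D l q y) = y
  | [], _, _ => rfl
  | a :: l, q, y => by
    rw [sndAll_cons, inrAll_cons, csnd_cinr]
    exact sndAll_inrAll l q y

/-- `fstAll` is a chain map up to sign -/
lemma fstAll_d : ∀ (l : List A) (q : ℤ) (z : (T l D).X q),
    fstAll D l (q + 1) (((T l D).d q (q + 1)).hom z) =
      (-1 : A) ^ l.length • (D.d (sh l q) (sh l (q + 1))).hom (fstAll D l q z)
  | [], q, z => by
    simp only [List.length_nil, pow_zero, one_smul]
    rfl
  | a :: l, q, z => by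
    rw [fstAll_cons]
    show fstAll D l (q + 1 + 1) (cfst (a • 𝟙 (T l D)) (q + 1) (((Cn a (T l D)).d q (q + 1)).hom z)) = _
    rw [cfst_d', map_neg, fstAll_d l (q + 1), fstAll_cons, List.length_cons, pow_succ, mul_neg_one,
      neg_smul]
    rfl

/-- `inrAll` is a chain map -/
lemma inrAll_d : ∀ (l : List A) (q : ℤ) (y : D.X q),
    ((T l D).d q (q + 1)).hom (inrAll D l q y) = inrAll D l (q + 1) ((D.d q (q + 1)).hom y)
  | [], _, _ => rfl
  | a :: l, q, y => by
    rw [inrAll_cons]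
    show ((Cn a (T l D)).d q (q + 1)).hom _ = _
    rw [d_cinr, inrAll_d l q y]
    rfl

/-- `sndAll` is a chain map modulo the ideal generated by the list -/
lemma sndAll_d : ∀ (l : List A) (q : ℤ) (z : (T l D).X q),
    ∃ r ∈ (Ideal.ofList l) • (⊤ : Submodule A (D.X (q + 1))),
      sndAll D l (q + 1) (((T l D).d q (q + 1)).hom z) =
        (D.d q (q + 1)).hom (sndAll D l q z) + r
  | [], q, z => ⟨0, Submodule.zero_mem _, by rw [add_zero]; rfl⟩
  | a :: l, q, z => by
    obtain ⟨r, hr, h⟩ := sndAll_d l q (csnd (a • 𝟙 (T l D)) q z)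
    refine ⟨r + a • sndAll D l (q + 1) (cfst (a • 𝟙 (T l D)) q z), ?_, ?_⟩
    · rw [Ideal.ofList_cons]
      refine Submodule.add_mem _ (Submodule.smul_mono_left le_sup_right hr) ?_
      exact Submodule.smul_mem_smul (Submodule.mem_sup_left (Ideal.mem_span_singleton_self a)) trivial
    · rw [sndAll_cons]
      show sndAll D l (q + 1) (csnd (a • 𝟙 (T l D)) (q + 1) (((Cn a (T l D)).d q (q + 1)).hom z)) = _
      rw [csnd_d', map_add, map_smul, h, sndAll_cons]
      abel

end Components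


section Sub
variable {D : CochainComplex (ModuleCat.{u} A) ℤ}

/-- a family of submodules is stable under the differential -/
def IsSubcx (S : ∀ q : ℤ, Submodule A (D.X q)) : Prop :=
  ∀ (q : ℤ) (y : D.X q), y ∈ S q → (D.d q (q + 1)).hom y ∈ S (q + 1)

/-- a family of submodules is acyclic -/
def Acyc (S : ∀ q : ℤ, Submodule A (D.X q)) : Prop :=
  ∀ (q : ℤ) (y : D.X (q + 1)), y ∈ S (q + 1) → (D.d (q + 1) (q + 1 + 1)).hom y = 0 →
    ∃ k ∈ S q, (D.d q (q + 1)).hom k = y

/-- the family induced on the cone -/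
noncomputable def coneSub (a : A) (S : ∀ q : ℤ, Submodule A (D.X q)) (q : ℤ) :
    Submodule A ((Cn a D).X q) :=
  (S (q + 1)).comap (cfst (a • 𝟙 D) q) ⊓ (S q).comap (csnd (a • 𝟙 D) q)

lemma mem_coneSub (a : A) (S : ∀ q : ℤ, Submodule A (D.X q)) (q : ℤ) (z : (Cn a D).X q) :
    z ∈ coneSub a S q ↔ cfst (a • 𝟙 D) q z ∈ S (q + 1) ∧ csnd (a • 𝟙 D) q z ∈ S q := Iff.rfl

lemma isSubcx_coneSub (a : A) (S : ∀ q : ℤ, Submodule A (D.X q)) (hS : IsSubcx S) :
    IsSubcx (coneSub a S) := by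
  intro q z hz
  rw [mem_coneSub] at hz ⊢
  constructor
  · rw [cfst_d']
    exact Submodule.neg_mem _ (hS _ _ hz.1)
  · rw [csnd_d']
    exact Submodule.add_mem _ (Submodule.smul_mem _ _ hz.1) (hS _ _ hz.2)

lemma acyc_coneSub (a : A) (S : ∀ q : ℤ, Submodule A (D.X q)) (hA : Acyc S) :
    Acyc (coneSub a S) := by
  intro q y hy hdy
  rw [mem_coneSub] at hy
  have h1 : (D.d (q + 1 + 1) (q + 1 + 1 + 1)).hom (cfst (a • 𝟙 D) (q + 1) y) = 0 := by
    have := cfst_d' a D (q + 1) y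
    rw [hdy, map_zero] at this
    exact neg_eq_zero.1 this.symm
  obtain ⟨k1, hk1, hdk1⟩ := hA (q + 1) _ hy.1 h1
  have h2 : a • cfst (a • 𝟙 D) (q + 1) y +
      (D.d (q + 1) (q + 1 + 1)).hom (csnd (a • 𝟙 D) (q + 1) y) = 0 := by
    have := csnd_d' a D (q + 1) y
    rw [hdy, map_zero] at this
    exact this.symm
  have h3 : (D.d (q + 1) (q + 1 + 1)).hom (csnd (a • 𝟙 D) (q + 1) y + a • k1) = 0 := by
    rw [map_add, map_smul, hdk1]
    exact (add_comm _ _).trans h2
  obtain ⟨k2, hk2, hdk2⟩ := hA q _ (Submodule.add_mem _ hy.2 (Submodule.smul_mem _ _ hk1)) h3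
  refine ⟨cinl (a • 𝟙 D) q (-k1) + cinr (a • 𝟙 D) q k2, ?_, ?_⟩
  · rw [mem_coneSub, map_add, map_add, cfst_cinl, cfst_cinr, csnd_cinl, csnd_cinr, add_zero, zero_add]
    exact ⟨Submodule.neg_mem _ hk1, hk2⟩
  · apply cone_ext
    · rw [cfst_d', map_add, cfst_cinl, cfst_cinr, add_zero, map_neg, neg_neg, hdk1]
    · rw [csnd_d', map_add, map_add, cfst_cinl, cfst_cinr, csnd_cinl, csnd_cinr, add_zero, zero_add,
        hdk2, smul_neg]
      abel

/-- the family induced on the iterated cone -/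
noncomputable def TSub (S : ∀ q : ℤ, Submodule A (D.X q)) :
    ∀ (l : List A) (q : ℤ), Submodule A ((T l D).X q)
  | [] => S
  | a :: l => coneSub a (TSub S l)

lemma isSubcx_TSub (S : ∀ q : ℤ, Submodule A (D.X q)) (hS : IsSubcx S) :
    ∀ l : List A, IsSubcx (TSub S l)
  | [] => hS
  | a :: l => isSubcx_coneSub a _ (isSubcx_TSub S hS l)

lemma acyc_TSub (S : ∀ q : ℤ, Submodule A (D.X q)) (hA : Acyc S) :
    ∀ l : List A, Acyc (TSub S l)
  | [] => hA
  | a :: l => acyc_coneSub a _ (acyc_TSub S hA l)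

lemma fstAll_mem (S : ∀ q : ℤ, Submodule A (D.X q)) :
    ∀ (l : List A) (q : ℤ) (z : (T l D).X q), z ∈ TSub S l q → fstAll D l q z ∈ S (sh l q)
  | [], _, _, hz => hz
  | a :: l, q, z, hz => fstAll_mem S l (q + 1) _ hz.1

lemma sndAll_mem (S : ∀ q : ℤ, Submodule A (D.X q)) :
    ∀ (l : List A) (q : ℤ) (z : (T l D).X q), z ∈ TSub S l q → sndAll D l q z ∈ S q
  | [], _, _, hz => hz
  | a :: l, q, z, hz => sndAll_mem S l q _ hz.2

lemma inlAll_mem (S : ∀ q : ℤ, Submodule A (D.X q)) :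
    ∀ (l : List A) (q : ℤ) (y : D.X (sh l q)), y ∈ S (sh l q) → inlAll D l q y ∈ TSub S l q
  | [], _, _, hy => hy
  | a :: l, q, y, hy => by
    show _ ∈ coneSub a (TSub S l) q
    rw [mem_coneSub, inlAll_cons, cfst_cinl, csnd_cinl]
    exact ⟨inlAll_mem S l (q + 1) y hy, Submodule.zero_mem _⟩

/-- below the critical degree the induced family is everything -/
lemma TSub_eq_top (S : ∀ q : ℤ, Submodule A (D.X q)) (p0 : ℤ) (hS : ∀ p : ℤ, p < p0 → S p = ⊤) :
    ∀ (l : List A) (q : ℤ), sh l q < p0 → TSub S l q = ⊤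
  | [], q, hq => hS q hq
  | a :: l, q, hq => by
    show coneSub a (TSub S l) q = ⊤
    have h1 : TSub S l (q + 1) = ⊤ := TSub_eq_top S p0 hS l (q + 1) hq
    have h2 : TSub S l q = ⊤ := TSub_eq_top S p0 hS l q (by
      have := sh_succ l q
      have : sh l (q + 1) < p0 := hq
      omega)
    rw [coneSub, h1, h2, Submodule.comap_top, Submodule.comap_top, inf_top_eq]

/-- in the critical degree membership is tested on the all-`fst` component -/
lemma mem_TSub_iff (S : ∀ q : ℤ, Submodule A (D.X q)) (p0 : ℤ) (hS : ∀ p : ℤ, p < p0 → S p = ⊤) :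
    ∀ (l : List A) (q : ℤ), sh l q = p0 → ∀ z : (T l D).X q,
      z ∈ TSub S l q ↔ fstAll D l q z ∈ S (sh l q)
  | [], _, _, _ => Iff.rfl
  | a :: l, q, hq, z => by
    show z ∈ coneSub a (TSub S l) q ↔ _
    have h2 : TSub S l q = ⊤ := TSub_eq_top S p0 hS l q (by
      have := sh_succ l q
      have : sh l (q + 1) = p0 := hq
      omega)
    have h3 := mem_TSub_iff S p0 hS l (q + 1) hq (cfst (a • 𝟙 (T l D)) q z)
    constructor
    · intro hz
      exact h3.1 hz.1
    · intro hz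
      refine ⟨h3.2 hz, ?_⟩
      show csnd (a • 𝟙 (T l D)) q z ∈ TSub S l q
      rw [h2]
      trivial

/-- the differential of the all-`inl` inclusion of `y` lies in the induced family as soon as `dy` and
the multiples of `y` by the elements of the list lie in the family -/
lemma d_inlAll_mem (S : ∀ q : ℤ, Submodule A (D.X q)) :
    ∀ (l : List A) (q : ℤ) (y : D.X (sh l q)),
      (D.d (sh l q) (sh l (q + 1))).hom y ∈ S (sh l (q + 1)) → (∀ a ∈ l, a • y ∈ S (sh l q)) →
      ((T l D).d q (q + 1)).hom (inlAll D l q y) ∈ TSub S l (q + 1)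
  | [], _, _, h1, _ => h1
  | a :: l, q, y, h1, h2 => by
    show ((Cn a (T l D)).d q (q + 1)).hom _ ∈ coneSub a (TSub S l) (q + 1)
    rw [inlAll_cons, d_cinl, mem_coneSub, map_add, map_add, cfst_cinl, cfst_cinr, csnd_cinl,
      csnd_cinr, add_zero, zero_add]
    constructor
    · exact Submodule.neg_mem _ (d_inlAll_mem S l (q + 1) y h1
        (fun b hb => h2 b (List.mem_cons_of_mem _ hb)))
    · rw [← map_smul]
      exact inlAll_mem S l (q + 1) _ (h2 a List.mem_cons_self)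

end Sub

end Groth.Agent.Helper13Wiebe
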