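import Groth.Agent.Lib.Helper13WiebeA

/-!
# Chain-level Wiebe theorem, part B: the base complex, Koszul complexes as iterated cones,
the acyclic subcomplex of a Koszul-regular sequence (helper13)
-/

set_option autoImplicit false
set_option linter.unusedSimpArgs false
universe u

namespace Groth.Agent.Helper13Wiebe
open CategoryTheory CochainComplex
open Groth.Agent.Lib.Helper21 Groth.Agent.Helper13Kz Groth.Agent.Helper13KzPerm

variable (A : Type u) [CommRing A]

/-- the base complex: `A` in degree `0` -/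
noncomputable abbrev K0 : CochainComplex (ModuleCat.{u} A) ℤ := Koszul.koszul A ([] : List A)

lemma T_K0 : ∀ l : List A, T l (K0 A) = Koszul.koszul A l
  | [] => rfl
  | a :: l => by
    show Cn a (T l (K0 A)) = Cn a (Koszul.koszul A l)
    rw [T_K0 l]

/-- the coordinate on the base complex -/
noncomputable def toR (p : ℤ) : (K0 A).X p →ₗ[A] A :=
  if h : p = 0 then
    (HomologicalComplex.singleObjXIsoOfEq (ComplexShape.up ℤ) 0 (ModuleCat.of A A) p h).hom.hom
  else 0

/-- the inclusion of `A` into the base complex -/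
noncomputable def fromR (p : ℤ) : A →ₗ[A] (K0 A).X p :=
  if h : p = 0 then
    (HomologicalComplex.singleObjXIsoOfEq (ComplexShape.up ℤ) 0 (ModuleCat.of A A) p h).inv.hom
  else 0

lemma toR_fromR (p : ℤ) (hp : p = 0) (r : A) : toR A p (fromR A p r) = r := by
  rw [toR, fromR, dif_pos hp, dif_pos hp]
  exact congr($((HomologicalComplex.singleObjXIsoOfEq (ComplexShape.up ℤ) 0
    (ModuleCat.of A A) p hp).inv_hom_id).hom r)

lemma fromR_toR (p : ℤ) (hp : p = 0) (y : (K0 A).X p) : fromR A p (toR A p y) = y := by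
  rw [toR, fromR, dif_pos hp, dif_pos hp]
  exact congr($((HomologicalComplex.singleObjXIsoOfEq (ComplexShape.up ℤ) 0
    (ModuleCat.of A A) p hp).hom_inv_id).hom y)

lemma K0_d (p q : ℤ) : (K0 A).d p q = 0 :=
  HomologicalComplex.single_obj_d (ComplexShape.up ℤ) 0 _ p q

lemma subsingleton_K0_X (p : ℤ) (hp : p ≠ 0) : Subsingleton ((K0 A).X p) :=
  ModuleCat.subsingleton_of_isZero
    (HomologicalComplex.isZero_single_obj_X (ComplexShape.up ℤ) 0 _ p hp)

variable {A}

lemma subsingleton_T_X_pos : ∀ (l : List A) (p : ℤ), 0 < p → Subsingleton ((T l (K0 A)).X p)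
  | [], p, hp => subsingleton_K0_X A p hp.ne'
  | a :: l, p, hp => by
    have h1 := subsingleton_T_X_pos l (p + 1) (by omega)
    have h2 := subsingleton_T_X_pos l p hp
    refine ⟨fun x y => ?_⟩
    exact cone_ext (a • 𝟙 (T l (K0 A))) p (Subsingleton.elim _ _) (Subsingleton.elim _ _)

/-- the image of the differential into degree `0` is cut out by the ideal of the list (one direction) -/
lemma toR_sndAll_d_mem (l : List A) (q : ℤ) (k : (T l (K0 A)).X q) :
    toR A (q + 1) (sndAll (K0 A) l (q + 1) (((T l (K0 A)).d q (q + 1)).hom k)) ∈ Ideal.ofList l := by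
  obtain ⟨r, hr, h⟩ := sndAll_d (K0 A) l q k
  rw [h, K0_d, ModuleCat.hom_zero, LinearMap.zero_apply, zero_add]
  have h2 : toR A (q + 1) r ∈ Submodule.map (toR A (q + 1))
      ((Ideal.ofList l) • (⊤ : Submodule A ((K0 A).X (q + 1)))) := Submodule.mem_map_of_mem hr
  rw [Submodule.map_smul''] at h2
  have h3 : (Ideal.ofList l) • Submodule.map (toR A (q + 1)) ⊤ ≤ Ideal.ofList l := by
    rw [Submodule.smul_le]
    intro a ha b _
    exact Ideal.mul_mem_right _ _ ha
  exact h3 h2

/-- the image of the differential into degree `0` is cut out by the ideal of the list (other direction) -/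
lemma exists_d_eq_of_toR_mem : ∀ (l : List A) (q : ℤ), q + 1 = 0 → ∀ y : (T l (K0 A)).X (q + 1),
    toR A (q + 1) (sndAll (K0 A) l (q + 1) y) ∈ Ideal.ofList l →
      ∃ k : (T l (K0 A)).X q, ((T l (K0 A)).d q (q + 1)).hom k = y
  | [], q, hq, y, hy => by
    refine ⟨0, ?_⟩
    rw [Ideal.ofList_nil, Ideal.mem_bot] at hy
    have h0 : toR A (q + 1) y = 0 := hy
    have h1 : (y : (K0 A).X (q + 1)) = 0 := by
      have := fromR_toR A (q + 1) hq y
      rw [h0, map_zero] at this
      exact this.symm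
    rw [map_zero]
    exact h1.symm
  | a :: l, q, hq, y, hy => by
    have h1 := subsingleton_T_X_pos l (q + 1 + 1) (by omega)
    rw [Ideal.ofList_cons, Submodule.mem_sup] at hy
    obtain ⟨s, hs, i', hi', hsum⟩ := hy
    obtain ⟨r, rfl⟩ := Ideal.mem_span_singleton'.1 hs
    let y2 := csnd (a • 𝟙 (T l (K0 A))) (q + 1) y
    let w := inrAll (K0 A) l (q + 1) (fromR A (q + 1) r)
    have hw : toR A (q + 1) (sndAll (K0 A) l (q + 1) w) = r := by
      rw [sndAll_inrAll, toR_fromR A _ hq]
    have h2 : toR A (q + 1) (sndAll (K0 A) l (q + 1) (y2 - a • w)) ∈ Ideal.ofList l := by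
      rw [map_sub, map_sub, map_smul, map_smul, hw, smul_eq_mul]
      have : toR A (q + 1) (sndAll (K0 A) l (q + 1) y2) = r * a + i' := hsum.symm
      rw [this]
      have : r * a + i' - a * r = i' := by ring
      rw [this]
      exact hi'
    obtain ⟨k', hk'⟩ := exists_d_eq_of_toR_mem l q hq (y2 - a • w) h2
    refine ⟨cinr (a • 𝟙 (T l (K0 A))) q k' + cinl (a • 𝟙 (T l (K0 A))) q w, ?_⟩
    show ((Cn a (T l (K0 A))).d q (q + 1)).hom _ = _
    apply cone_ext
    · exact Subsingleton.elim _ _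
    · rw [csnd_d', map_add, map_add, cfst_cinr, cfst_cinl, csnd_cinr, csnd_cinl, zero_add, add_zero, hk']
      show a • w + (y2 - a • w) = y2
      abel

/-- the acyclic subcomplex: everything in nonzero degrees, the boundaries in degree `0` -/
noncomputable def SK (l : List A) (p : ℤ) : Submodule A ((T l (K0 A)).X p) where
  carrier := {y | p = 0 → ∀ q : ℤ, q + 1 = p → y ∈ LinearMap.range ((T l (K0 A)).d q p).hom}
  add_mem' := fun h1 h2 hp q hq => Submodule.add_mem _ (h1 hp q hq) (h2 hp q hq)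
  zero_mem' := fun _ _ _ => Submodule.zero_mem _
  smul_mem' := fun c _ h1 hp q hq => Submodule.smul_mem _ c (h1 hp q hq)

lemma mem_SK (l : List A) (p : ℤ) (y : (T l (K0 A)).X p) :
    y ∈ SK l p ↔ (p = 0 → ∀ q : ℤ, q + 1 = p → y ∈ LinearMap.range ((T l (K0 A)).d q p).hom) :=
  Iff.rfl

lemma SK_eq_top (l : List A) (p : ℤ) (hp : p ≠ 0) : SK l p = ⊤ := by
  rw [eq_top_iff]
  intro y _
  rw [mem_SK]
  intro h
  exact absurd h hp

lemma isSubcx_SK (l : List A) : IsSubcx (SK l) := by
  intro q y _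
  rw [mem_SK]
  intro _ q' hq'
  obtain rfl : q' = q := by omega
  exact ⟨y, rfl⟩

lemma mem_SK_iff (l : List A) (p : ℤ) (hp : p = 0) (y : (T l (K0 A)).X p) :
    y ∈ SK l p ↔ toR A p (sndAll (K0 A) l p y) ∈ Ideal.ofList l := by
  rw [mem_SK]
  constructor
  · intro h
    obtain ⟨q, rfl⟩ : ∃ q, p = q + 1 := ⟨p - 1, by omega⟩
    obtain ⟨k, rfl⟩ := h hp q rfl
    exact toR_sndAll_d_mem l q k
  · intro h _ q hq
    subst hq
    obtain ⟨k, hk⟩ := exists_d_eq_of_toR_mem l q hp y h
    exact ⟨k, hk⟩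

lemma acyc_SK (l : List A) (hl : LCI.IsKoszulRegularSeq A l) : Acyc (SK l) := by
  intro q y hy hdy
  by_cases h0 : q + 1 = 0
  · obtain ⟨k, hk⟩ := hy h0 q rfl
    refine ⟨k, ?_, hk⟩
    rw [SK_eq_top l q (by omega)]
    trivial
  · by_cases h1 : q = 0
    · have := subsingleton_T_X_pos l (q + 1) (by omega)
      refine ⟨0, Submodule.zero_mem _, Subsingleton.elim _ _⟩
    · have hz : Limits.IsZero ((T l (K0 A)).homology (q + 1)) := by
        rw [T_K0]
        exact hl (q + 1) h0
      have hex : (T l (K0 A)).ExactAt (q + 1) := by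
        rw [HomologicalComplex.exactAt_iff_isZero_homology]
        exact hz
      rw [HomologicalComplex.exactAt_iff' _ q (q + 1) (q + 1 + 1) (by simp) (by simp),
        ShortComplex.moduleCat_exact_iff] at hex
      obtain ⟨k, hk⟩ := hex y hdy
      refine ⟨k, ?_, hk⟩
      rw [SK_eq_top l q h1]
      trivial

end Groth.Agent.Helper13Wiebe
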