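import Groth.Agent.Lib.Helper13WiebeB

/-!
# Chain-level Wiebe theorem, part C: exchanging two blocks of cones; lifting and vanishing of cocycles
(helper13)
-/

set_option autoImplicit false
set_option linter.unusedSimpArgs false
universe u

namespace Groth.Agent.Helper13Wiebe
open CategoryTheory CochainComplex
open Groth.Agent.Lib.Helper21 Groth.Agent.Helper13Kz Groth.Agent.Helper13KzPerm

variable {A : Type u} [CommRing A]

section Swap

/-- moving a cone out of an iterated cone -/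
noncomputable def Ins (a : A) : ∀ (l : List A) (D : CochainComplex (ModuleCat.{u} A) ℤ),
    T l (Cn a D) ≅ Cn a (T l D)
  | [], _ => Iso.refl _
  | b :: l, D => coneIso (Ins a l D) b ≪≫ swapIso (T l D) b a

lemma Ins_track (a : A) : ∀ (l : List A) (D : CochainComplex (ModuleCat.{u} A) ℤ) (q : ℤ)
    (u : (T l (Cn a D)).X q),
    fstAll D l q (csnd (a • 𝟙 (T l D)) q (((Ins a l D).hom.f q).hom u)) =
      csnd (a • 𝟙 D) (sh l q) (fstAll (Cn a D) l q u)
  | [], _, _, _ => rfl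
  | b :: l, D, q, u => by
    let u' : (Cn b (T l (Cn a D))).X q := u
    let v : (Cn b (Cn a (T l D))).X q := ((mappingCone.map (b • 𝟙 (T l (Cn a D)))
      (b • 𝟙 (Cn a (T l D))) (Ins a l D).hom (Ins a l D).hom (by simp)).f q).hom u'
    have h1 : ((Ins a (b :: l) D).hom.f q).hom u = swapFun (T l D) b a q v := rfl
    have h2 : cfst (b • 𝟙 (T l D)) q (csnd (a • 𝟙 (Cn b (T l D))) q (swapFun (T l D) b a q v)) =
        csnd (a • 𝟙 (T l D)) (q + 1) (((Ins a l D).hom.f (q + 1)).hom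
          (cfst (b • 𝟙 (T l (Cn a D))) q u')) := by
      have := pc_swapFun (T l D) b a q v
      rw [pc, pb, LinearMap.comp_apply, LinearMap.comp_apply, cfst_map] at this
      exact this
    rw [h1]
    show fstAll D l (q + 1) (cfst (b • 𝟙 (T l D)) q (csnd (a • 𝟙 (Cn b (T l D))) q
      (swapFun (T l D) b a q v))) = _
    rw [h2, Ins_track a l D (q + 1)]
    rfl

/-- exchanging two blocks of cones -/
noncomputable def Xi (l : List A) : ∀ (m : List A) (D : CochainComplex (ModuleCat.{u} A) ℤ),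
    T l (T m D) ≅ T m (T l D)
  | [], _ => Iso.refl _
  | a :: m, D => Ins a l (T m D) ≪≫ coneIso (Xi l m D) a

lemma Xi_track (l : List A) : ∀ (m : List A) (D : CochainComplex (ModuleCat.{u} A) ℤ) (q : ℤ)
    (u : (T l (T m D)).X q),
    fstAll D l q (sndAll (T l D) m q (((Xi l m D).hom.f q).hom u)) =
      sndAll D m (sh l q) (fstAll (T m D) l q u)
  | [], _, _, _ => rfl
  | a :: m, D, q, u => by
    have h1 : ((Xi l (a :: m) D).hom.f q).hom u =
        ((mappingCone.map (a • 𝟙 (T l (T m D))) (a • 𝟙 (T m (T l D)))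
          (Xi l m D).hom (Xi l m D).hom (by simp)).f q).hom
          (((Ins a l (T m D)).hom.f q).hom u) := rfl
    rw [h1, sndAll_cons, csnd_map, Xi_track l m D q, Ins_track]
    rfl

end Swap


section Needs

lemma map_mem_of_mem_smul_top (I : Ideal A) {M : Type*} [AddCommGroup M] [Module A M]
    (φ : M →ₗ[A] A) (r : M) (hr : r ∈ I • (⊤ : Submodule A M)) : φ r ∈ I := by
  have h2 : φ r ∈ Submodule.map φ (I • (⊤ : Submodule A M)) := Submodule.mem_map_of_mem hr
  rw [Submodule.map_smul''] at h2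
  have h3 : I • Submodule.map φ ⊤ ≤ I := by
    rw [Submodule.smul_le]
    intro a ha b _
    exact Ideal.mul_mem_right _ _ ha
  exact h3 h2

/-- **lifting**: if `f` is Koszul-regular, every `x` with `x (g) ⊆ (f)` is, modulo `(f)`, the
`(g`-top, `f`-bottom`)` component of a cocycle of `K(g) ⊗ K(f)` (`g` outside) -/
theorem exists_cocycle_lift (lf lg : List A) (hf : LCI.IsKoszulRegularSeq A lf) (q : ℤ)
    (hq : sh lg q = 0) (x : A) (hx : ∀ b ∈ lg, b * x ∈ Ideal.ofList lf) :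
    ∃ z : (T lg (T lf (K0 A))).X q, ((T lg (T lf (K0 A))).d q (q + 1)).hom z = 0 ∧
      toR A (sh lg q) (sndAll (K0 A) lf (sh lg q) (fstAll (T lf (K0 A)) lg q z)) - x ∈
        Ideal.ofList lf := by
  let y0 : (T lf (K0 A)).X (sh lg q) := inrAll (K0 A) lf (sh lg q) (fromR A (sh lg q) x)
  have hy0 : toR A (sh lg q) (sndAll (K0 A) lf (sh lg q) y0) = x := by
    rw [sndAll_inrAll, toR_fromR A _ hq]
  have h1 : ((T lf (K0 A)).d (sh lg q) (sh lg (q + 1))).hom y0 ∈ SK lf (sh lg (q + 1)) := by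
    rw [SK_eq_top lf _ (by have := sh_succ lg q; omega)]
    trivial
  have h2 : ∀ b ∈ lg, b • y0 ∈ SK lf (sh lg q) := by
    intro b hb
    rw [mem_SK_iff lf _ hq, map_smul, map_smul, hy0]
    exact hx b hb
  have hmem := d_inlAll_mem (SK lf) lg q y0 h1 h2
  obtain ⟨k, hk, hdk⟩ := acyc_TSub (SK lf) (acyc_SK lf hf) lg q _ hmem (by
    have := (T lg (T lf (K0 A))).d_comp_d q (q + 1) (q + 1 + 1)
    exact congr($(this).hom (inlAll (T lf (K0 A)) lg q y0)))
  refine ⟨inlAll (T lf (K0 A)) lg q y0 - k, ?_, ?_⟩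
  · rw [map_sub, hdk, sub_self]
  · rw [map_sub, fstAll_inlAll, map_sub, map_sub, hy0]
    have h3 := fstAll_mem (SK lf) lg q k hk
    rw [mem_SK_iff lf _ hq] at h3
    have : x - toR A (sh lg q) (sndAll (K0 A) lf (sh lg q) (fstAll (T lf (K0 A)) lg q k)) - x =
        -toR A (sh lg q) (sndAll (K0 A) lf (sh lg q) (fstAll (T lf (K0 A)) lg q k)) := by ring
    rw [this]
    exact Submodule.neg_mem _ h3

/-- **vanishing**: if `g` is Koszul-regular, a cocycle of `K(f) ⊗ K(g)` (`f` outside) in the lowest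
`f`-degree whose `(f`-top, `g`-bottom`)` component lies in `(g)` is a coboundary -/
theorem exists_d_eq_of_cocycle (lf lg : List A) (hg : LCI.IsKoszulRegularSeq A lg) (q : ℤ)
    (hq : sh lf (q + 1) = 0) (w : (T lf (T lg (K0 A))).X (q + 1))
    (hw : ((T lf (T lg (K0 A))).d (q + 1) (q + 1 + 1)).hom w = 0)
    (hτ : toR A (sh lf (q + 1)) (sndAll (K0 A) lg (sh lf (q + 1))
      (fstAll (T lg (K0 A)) lf (q + 1) w)) ∈ Ideal.ofList lg) :
    ∃ k : (T lf (T lg (K0 A))).X q, ((T lf (T lg (K0 A))).d q (q + 1)).hom k = w := by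
  have h1 : fstAll (T lg (K0 A)) lf (q + 1) w ∈ SK lg (sh lf (q + 1)) := by
    rw [mem_SK_iff lg _ hq]
    exact hτ
  have h2 : w ∈ TSub (SK lg) lf (q + 1) := by
    rw [mem_TSub_iff (SK lg) 0 (fun p hp => SK_eq_top lg p hp.ne) lf (q + 1) hq]
    exact h1
  obtain ⟨k, -, hk⟩ := acyc_TSub (SK lg) (acyc_SK lg hg) lf q w h2 hw
  exact ⟨k, hk⟩

/-- the `(f`-bottom, `g`-top`)` component of a coboundary of `K(f) ⊗ K(g)` lies in `(f)` -/
theorem sigma_d_mem (lf lg : List A) (q : ℤ) (v : (T lf (T lg (K0 A))).X q) :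
    toR A (sh lg (q + 1)) (fstAll (K0 A) lg (q + 1) (sndAll (T lg (K0 A)) lf (q + 1)
      (((T lf (T lg (K0 A))).d q (q + 1)).hom v))) ∈ Ideal.ofList lf := by
  obtain ⟨r, hr, h⟩ := sndAll_d (T lg (K0 A)) lf q v
  rw [h, map_add, map_add, fstAll_d, K0_d, ModuleCat.hom_zero, LinearMap.zero_apply, smul_zero,
    map_zero, zero_add]
  exact map_mem_of_mem_smul_top (Ideal.ofList lf)
    (toR A (sh lg (q + 1)) ∘ₗ fstAll (K0 A) lg (q + 1)) r hr

end Needs

end Groth.Agent.Helper13Wiebe
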