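import Groth.Agent.Lib.Helper13WiebeC

/-!
# Chain-level Wiebe theorem, part D: homotopy operators on Koszul complexes and the explicit cocycle
(helper13)
-/

set_option autoImplicit false
set_option linter.unusedSimpArgs false
universe u

namespace Groth.Agent.Helper13Wiebe
open CategoryTheory CochainComplex
open Groth.Agent.Lib.Helper21 Groth.Agent.Helper13Kz Groth.Agent.Helper13KzPerm

variable {A : Type u} [CommRing A]

section Op
variable {D : CochainComplex (ModuleCat.{u} A) ℤ}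

/-- operators of degree `-1` -/
abbrev Op (D : CochainComplex (ModuleCat.{u} A) ℤ) : Type u := ∀ q : ℤ, D.X (q + 1) →ₗ[A] D.X q

/-- `θ` is a null-homotopy of multiplication by `c` -/
def IsHtpy (c : A) (θ : Op D) : Prop :=
  ∀ (q : ℤ) (z : D.X (q + 1)),
    (D.d q (q + 1)).hom (θ q z) + θ (q + 1) ((D.d (q + 1) (q + 1 + 1)).hom z) = c • z

/-- `θ` squares to zero -/
def IsSq (θ : Op D) : Prop := ∀ (q : ℤ) (z : D.X (q + 1 + 1)), θ q (θ (q + 1) z) = 0

variable (a : A)

/-- the new operator on the cone: `(x, y) ↦ (y, 0)` -/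
noncomputable def etaNew (D : CochainComplex (ModuleCat.{u} A) ℤ) : Op (Cn a D) :=
  fun q => cinl (a • 𝟙 D) q ∘ₗ csnd (a • 𝟙 D) (q + 1)

/-- extension of an operator to the cone: `(x, y) ↦ (-θ x, θ y)` -/
noncomputable def extOp (θ : Op D) : Op (Cn a D) :=
  fun q => cinl (a • 𝟙 D) q ∘ₗ (-(θ (q + 1))) ∘ₗ cfst (a • 𝟙 D) (q + 1) +
    cinr (a • 𝟙 D) q ∘ₗ θ q ∘ₗ csnd (a • 𝟙 D) (q + 1)

@[simp] lemma cfst_etaNew (q : ℤ) (z : (Cn a D).X (q + 1)) :
    cfst (a • 𝟙 D) q (etaNew a D q z) = csnd (a • 𝟙 D) (q + 1) z := by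
  simp [etaNew, cfst_cinl]

@[simp] lemma csnd_etaNew (q : ℤ) (z : (Cn a D).X (q + 1)) :
    csnd (a • 𝟙 D) q (etaNew a D q z) = 0 := by
  simp [etaNew, csnd_cinl]

@[simp] lemma cfst_extOp (θ : Op D) (q : ℤ) (z : (Cn a D).X (q + 1)) :
    cfst (a • 𝟙 D) q (extOp a θ q z) = -θ (q + 1) (cfst (a • 𝟙 D) (q + 1) z) := by
  simp [extOp, cfst_cinl, cfst_cinr]

@[simp] lemma csnd_extOp (θ : Op D) (q : ℤ) (z : (Cn a D).X (q + 1)) :
    csnd (a • 𝟙 D) q (extOp a θ q z) = θ q (csnd (a • 𝟙 D) (q + 1) z) := by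
  simp [extOp, csnd_cinl, csnd_cinr]

lemma isHtpy_etaNew : IsHtpy a (etaNew a D) := by
  intro q z
  apply cone_ext
  · rw [map_add, cfst_d', cfst_etaNew, cfst_etaNew, csnd_d', map_smul]
    abel
  · rw [map_add, csnd_d', cfst_etaNew, csnd_etaNew, csnd_etaNew, map_zero, add_zero, add_zero,
      map_smul]

lemma isHtpy_extOp (c : A) (θ : Op D) (h : IsHtpy c θ) : IsHtpy c (extOp a θ) := by
  intro q z
  apply cone_ext
  · rw [map_add, cfst_d', cfst_extOp, cfst_extOp, cfst_d', map_smul, map_neg, map_neg, neg_neg,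
      neg_neg]
    exact h (q + 1) _
  · rw [map_add, csnd_d', cfst_extOp, csnd_extOp, csnd_extOp, csnd_d', map_smul, map_add, map_smul,
      smul_neg]
    have := h q (csnd (a • 𝟙 D) (q + 1) z)
    rw [← this]
    abel

lemma etaNew_etaNew (q : ℤ) (z : (Cn a D).X (q + 1 + 1)) :
    etaNew a D q (etaNew a D (q + 1) z) = 0 := by
  apply cone_ext <;> simp

lemma etaNew_extOp (θ : Op D) (q : ℤ) (z : (Cn a D).X (q + 1 + 1)) :
    etaNew a D q (extOp a θ (q + 1) z) + extOp a θ q (etaNew a D (q + 1) z) = 0 := by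
  apply cone_ext <;> simp

lemma extOp_extOp (θ : Op D) (h : IsSq θ) (q : ℤ) (z : (Cn a D).X (q + 1 + 1)) :
    extOp a θ q (extOp a θ (q + 1) z) = 0 := by
  apply cone_ext
  · rw [cfst_extOp, cfst_extOp, map_neg, neg_neg, h, map_zero]
  · rw [csnd_extOp, csnd_extOp, h, map_zero]

lemma extOp_add (θ θ' : Op D) (q : ℤ) (z : (Cn a D).X (q + 1)) :
    extOp a (fun q => θ q + θ' q) q z = extOp a θ q z + extOp a θ' q z := by
  apply cone_ext <;> simp [add_comm]

lemma extOp_smul (c : A) (θ : Op D) (q : ℤ) (z : (Cn a D).X (q + 1)) :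
    extOp a (fun q => c • θ q) q z = c • extOp a θ q z := by
  apply cone_ext <;> simp

lemma extOp_zero (q : ℤ) (z : (Cn a D).X (q + 1)) :
    extOp a (fun _ => (0 : D.X (_ + 1) →ₗ[A] D.X _)) q z = 0 := by
  apply cone_ext <;> simp

end Op


section HFam
variable (D : CochainComplex (ModuleCat.{u} A) ℤ)

section ConsStep
variable {K : CochainComplex (ModuleCat.{u} A) ℤ} (a : A)

/-- the operator on the cone built from a scalar and an operator on the base -/
noncomputable def consOp (c0 : A) (θ : Op K) : Op (Cn a K) :=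
  fun q => c0 • etaNew a K q + extOp a θ q

lemma consOp_apply (c0 : A) (θ : Op K) (q : ℤ) (z : (Cn a K).X (q + 1)) :
    consOp a c0 θ q z = c0 • etaNew a K q z + extOp a θ q z := rfl

lemma isHtpy_consOp (c0 c : A) (θ : Op K) (h : IsHtpy c θ) :
    IsHtpy (c0 * a + c) (consOp a c0 θ) := by
  intro q z
  have h1 := isHtpy_etaNew a (D := K) q z
  have h2 := isHtpy_extOp a _ _ h q z
  rw [consOp_apply, consOp_apply, map_add, map_smul, add_smul, mul_smul, ← h1, ← h2, smul_add]
  abel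

lemma isSq_consOp (c0 : A) (θ : Op K) (h : IsSq θ) : IsSq (consOp a c0 θ) := by
  intro q z
  have h1 := etaNew_etaNew a (D := K) q z
  have h2 := etaNew_extOp a θ q z
  have h3 := extOp_extOp a _ h q z
  rw [consOp_apply, consOp_apply, map_add, map_add, map_smul, map_smul, h1, h3, smul_zero, zero_add,
    add_zero, ← smul_add, h2, smul_zero]

lemma consOp_add (c0 c1 : A) (θ θ' : Op K) (q : ℤ) (z : (Cn a K).X (q + 1)) :
    consOp a (c0 + c1) (fun q => θ q + θ' q) q z = consOp a c0 θ q z + consOp a c1 θ' q z := by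
  rw [consOp_apply, consOp_apply, consOp_apply, extOp_add, add_smul]
  abel

lemma consOp_smul (c c0 : A) (θ : Op K) (q : ℤ) (z : (Cn a K).X (q + 1)) :
    consOp a (c * c0) (fun q => c • θ q) q z = c • consOp a c0 θ q z := by
  rw [consOp_apply, consOp_apply, extOp_smul, mul_smul, smul_add]

end ConsStep

/-- the operator `∑_j v_j η_j` on the iterated cone, `η_j` the canonical null-homotopy of the `j`-th
element of the list -/
noncomputable def hFam : ∀ (l : List A) (_ : ℕ → A), Op (T l D)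
  | [], _ => fun _ => 0
  | a :: l, v => consOp a (v 0) (hFam l (fun j => v (j + 1)))

/-- `∑_j v_j l_j` -/
def dotp : List A → (ℕ → A) → A
  | [], _ => 0
  | a :: l, v => v 0 * a + dotp l (fun j => v (j + 1))

lemma isHtpy_hFam : ∀ (l : List A) (v : ℕ → A), IsHtpy (dotp l v) (hFam D l v)
  | [], _ => fun q z => by
    show (D.d q (q + 1)).hom 0 + 0 = (0 : A) • z
    rw [map_zero, zero_smul, add_zero]
    rfl
  | a :: l, v => isHtpy_consOp a _ _ _ (isHtpy_hFam l (fun j => v (j + 1)))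

lemma isSq_hFam : ∀ (l : List A) (v : ℕ → A), IsSq (hFam D l v)
  | [], _ => fun _ _ => rfl
  | a :: l, v => isSq_consOp a _ _ (isSq_hFam l (fun j => v (j + 1)))

lemma hFam_add : ∀ (l : List A) (v w : ℕ → A) (q : ℤ) (z : (T l D).X (q + 1)),
    hFam D l (v + w) q z = hFam D l v q z + hFam D l w q z
  | [], _, _, _, _ => (add_zero _).symm
  | a :: l, v, w, q, z => by
    have h2 : hFam D l (fun j => (v + w) (j + 1)) =
        fun q => hFam D l (fun j => v (j + 1)) q + hFam D l (fun j => w (j + 1)) q := by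
      funext q
      ext z
      exact hFam_add l _ _ q z
    show consOp a ((v + w) 0) (hFam D l (fun j => (v + w) (j + 1))) q z = _
    rw [h2]
    exact consOp_add a _ _ _ _ q z

lemma hFam_smul : ∀ (l : List A) (c : A) (v : ℕ → A) (q : ℤ) (z : (T l D).X (q + 1)),
    hFam D l (c • v) q z = c • hFam D l v q z
  | [], _, _, _, _ => (smul_zero _).symm
  | a :: l, c, v, q, z => by
    have h2 : hFam D l (fun j => (c • v) (j + 1)) =
        fun q => c • hFam D l (fun j => v (j + 1)) q := by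
      funext q
      ext z
      exact hFam_smul l c _ q z
    show consOp a ((c • v) 0) (hFam D l (fun j => (c • v) (j + 1))) q z = _
    rw [h2]
    exact consOp_smul a _ _ _ q z

lemma hFam_zero (l : List A) (q : ℤ) (z : (T l D).X (q + 1)) : hFam D l 0 q z = 0 := by
  have := hFam_smul D l 0 0 q z
  rw [zero_smul, zero_smul] at this
  exact this

end HFam


section Phi
variable (D : CochainComplex (ModuleCat.{u} A) ℤ)

/-- two-index operators -/
abbrev Op2 (D : CochainComplex (ModuleCat.{u} A) ℤ) : Type u := ∀ p q : ℤ, D.X p →ₗ[A] D.X q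

variable {D}

/-- the two-index version of an operator -/
noncomputable def two (θ : Op D) : Op2 D := fun p q =>
  if h : p = q + 1 then θ q ∘ₗ (D.XIsoOfEq h).hom.hom else 0

lemma two_self (θ : Op D) (q : ℤ) (y : D.X (q + 1)) : two θ (q + 1) q y = θ q y := by
  rw [two, dif_pos rfl]
  simp [HomologicalComplex.XIsoOfEq]

/-- two-index null-homotopy -/
def IsHtpy2 (c : A) (θ : Op2 D) : Prop :=
  ∀ (p1 p2 p3 : ℤ), p1 + 1 = p2 → p2 + 1 = p3 → ∀ y : D.X p2,
    (D.d p1 p2).hom (θ p2 p1 y) + θ p3 p2 ((D.d p2 p3).hom y) = c • y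

lemma isHtpy2_two (c : A) (θ : Op D) (h : IsHtpy c θ) : IsHtpy2 c (two θ) := by
  intro p1 p2 p3 h12 h23 y
  subst h12 h23
  rw [two_self, two_self]
  exact h p1 y

variable (D)

/-- the map `y ↦ ∏ (ε_i - h_i) y` into the iterated cone -/
noncomputable def Phi : ∀ (l : List A) (_ : ℕ → Op2 D) (q : ℤ), D.X (sh l q) →ₗ[A] (T l D).X q
  | [], _, _ => LinearMap.id
  | a :: l, hs, q => cinl (a • 𝟙 (T l D)) q ∘ₗ Phi l (fun i => hs (i + 1)) (q + 1) +
      (-(-1 : A) ^ l.length) • (cinr (a • 𝟙 (T l D)) q ∘ₗ Phi l (fun i => hs (i + 1)) q ∘ₗ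
        hs 0 (sh l (q + 1)) (sh l q))

lemma Phi_cons (a : A) (l : List A) (hs : ℕ → Op2 D) (q : ℤ) (y : D.X (sh (a :: l) q)) :
    Phi D (a :: l) hs q y = cinl (a • 𝟙 (T l D)) q (Phi D l (fun i => hs (i + 1)) (q + 1) y) +
      (-(-1 : A) ^ l.length) • cinr (a • 𝟙 (T l D)) q (Phi D l (fun i => hs (i + 1)) q
        (hs 0 (sh l (q + 1)) (sh l q) y)) := rfl

lemma fstAll_Phi : ∀ (l : List A) (hs : ℕ → Op2 D) (q : ℤ) (y : D.X (sh l q)),
    fstAll D l q (Phi D l hs q y) = y
  | [], _, _, _ => rfl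
  | a :: l, hs, q, y => by
    rw [fstAll_cons, Phi_cons, map_add, map_smul, cfst_cinl, cfst_cinr, smul_zero, add_zero]
    exact fstAll_Phi l _ (q + 1) y

lemma d_step (a : A) (K : CochainComplex (ModuleCat.{u} A) ℤ) (s : A) (hs : s * s = 1) (q : ℤ)
    (u1 : K.X (q + 1)) (u0 : K.X q) (w2 : K.X (q + 1 + 1)) (w1 : K.X (q + 1))
    (h1 : (K.d (q + 1) (q + 1 + 1)).hom u1 = s • w2)
    (h0 : (K.d q (q + 1)).hom u0 = s • (a • u1 - w1)) :
    ((Cn a K).d q (q + 1)).hom (cinl (a • 𝟙 K) q u1 + (-s) • cinr (a • 𝟙 K) q u0) =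
      (s * -1) • (cinl (a • 𝟙 K) (q + 1) w2 + (-s) • cinr (a • 𝟙 K) (q + 1) w1) := by
  have e1 : ∀ w : K.X (q + 1), (-s) • (s • w) = -w := by
    intro w
    rw [smul_smul, neg_mul, hs, neg_smul, one_smul]
  have e2 : ∀ w : K.X (q + 1), (s * -1) • ((-s) • w) = w := by
    intro w
    rw [smul_smul, mul_neg_one, neg_mul_neg, hs, one_smul]
  rw [map_add, map_smul, d_cinl, d_cinr, h1, h0]
  apply cone_ext
  · simp only [map_add, map_smul, map_neg, cfst_cinl, cfst_cinr, smul_zero, add_zero]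
    rw [mul_neg_one, neg_smul]
  · simp only [map_add, map_smul, map_neg, csnd_cinl, csnd_cinr, smul_zero, zero_add, neg_zero]
    rw [e1, e2]
    abel

/-- `Phi` is a chain map up to sign -/
lemma d_Phi : ∀ (l : List A) (hs : ℕ → Op2 D), (∀ i, IsHtpy2 (l.getD i 0) (hs i)) →
    ∀ (q : ℤ) (y : D.X (sh l q)),
    ((T l D).d q (q + 1)).hom (Phi D l hs q y) =
      (-1 : A) ^ l.length • Phi D l hs (q + 1) ((D.d (sh l q) (sh l (q + 1))).hom y)
  | [], _, _, _, _ => by
    simp only [List.length_nil, pow_zero, one_smul]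
    rfl
  | a :: l, hs, hh, q, y => by
    have ih := d_Phi l (fun i => hs (i + 1)) (fun i => by
      have := hh (i + 1)
      simpa using this)
    have h0 : IsHtpy2 a (hs 0) := by
      have := hh 0
      simpa using this
    let y' : D.X (sh l (q + 1)) := y
    have hy := h0 (sh l q) (sh l (q + 1)) (sh l (q + 1 + 1)) (sh_succ l q) (sh_succ l (q + 1)) y'
    have hy' : (D.d (sh l q) (sh l (q + 1))).hom (hs 0 (sh l (q + 1)) (sh l q) y') =
        a • y' - hs 0 (sh l (q + 1 + 1)) (sh l (q + 1))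
          ((D.d (sh l (q + 1)) (sh l (q + 1 + 1))).hom y') :=
      eq_sub_of_add_eq hy
    have hs2 : ((-1 : A) ^ l.length) * ((-1 : A) ^ l.length) = 1 := by
      rw [← mul_pow]; simp
    have key := d_step a (T l D) ((-1 : A) ^ l.length) hs2 q
      (Phi D l (fun i => hs (i + 1)) (q + 1) y')
      (Phi D l (fun i => hs (i + 1)) q (hs 0 (sh l (q + 1)) (sh l q) y'))
      (Phi D l (fun i => hs (i + 1)) (q + 1 + 1) ((D.d (sh l (q + 1)) (sh l (q + 1 + 1))).hom y'))
      (Phi D l (fun i => hs (i + 1)) (q + 1) (hs 0 (sh l (q + 1 + 1)) (sh l (q + 1))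
          ((D.d (sh l (q + 1)) (sh l (q + 1 + 1))).hom y')))
      (ih (q + 1) y')
      (by rw [ih q, hy', map_sub, map_smul])
    rw [List.length_cons, pow_succ]
    exact key

end Phi



section Tot
variable (D : CochainComplex (ModuleCat.{u} A) ℤ)

/-- the total module of a complex -/
abbrev Tot : Type u := ∀ q : ℤ, D.X q

/-- an operator of degree `-1` acting on the total module -/
noncomputable def tot (θ : Op D) : Tot D →ₗ[A] Tot D where
  toFun z := fun q => θ q (z (q + 1))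
  map_add' z w := by
    funext q
    exact map_add (θ q) _ _
  map_smul' c z := by
    funext q
    exact map_smul (θ q) c _

/-- a two-index operator acting on the total module -/
noncomputable def tot2 (θ : Op2 D) : Tot D →ₗ[A] Tot D where
  toFun z := fun q => θ (q + 1) q (z (q + 1))
  map_add' z w := by
    funext q
    exact map_add (θ (q + 1) q) _ _
  map_smul' c z := by
    funext q
    exact map_smul (θ (q + 1) q) c _

lemma tot_apply (θ : Op D) (z : Tot D) (q : ℤ) : tot D θ z q = θ q (z (q + 1)) := rfl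

lemma tot2_apply (θ : Op2 D) (z : Tot D) (q : ℤ) : tot2 D θ z q = θ (q + 1) q (z (q + 1)) := rfl

lemma tot2_two (θ : Op D) : tot2 D (two θ) = tot D θ := by
  ext z q
  exact two_self θ q _

/-- iterated application of two-index operators, the first one innermost -/
noncomputable def PP : ℕ → (ℕ → Op2 D) → Module.End A (Tot D)
  | 0, _ => 1
  | k + 1, hs => PP k (fun i => hs (i + 1)) * tot2 D (hs 0)

/-- the sign -/
def eps : ℕ → A
  | 0 => 1
  | k + 1 => (-(-1 : A) ^ k) * eps k

lemma isUnit_eps : ∀ k : ℕ, IsUnit (eps k : A)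
  | 0 => isUnit_one
  | k + 1 => ((isUnit_one.neg.pow k).neg).mul (isUnit_eps k)

lemma dep_congr (θ : Op2 D) (z : Tot D) (p p' q : ℤ) (h : p = p') :
    θ p q (z p) = θ p' q (z p') := by
  subst h
  rfl

lemma sndAll_Phi : ∀ (l : List A) (hs : ℕ → Op2 D) (z : Tot D) (q : ℤ),
    sndAll D l q (Phi D l hs q (z (sh l q))) = (eps l.length : A) • (PP D l.length hs z) q
  | [], _, z, q => by
    show z q = (1 : A) • z q
    rw [one_smul]
  | a :: l, hs, z, q => by
    have h1 : hs 0 (sh l (q + 1)) (sh l q) (z (sh l (q + 1))) = (tot2 D (hs 0) z) (sh l q) :=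
      (dep_congr D (hs 0) z _ _ _ (sh_succ l q)).symm
    have h2 := sndAll_Phi l (fun i => hs (i + 1)) (tot2 D (hs 0) z) q
    have h3 : sndAll D (a :: l) q (Phi D (a :: l) hs q (z (sh l (q + 1)))) =
        (-(-1 : A) ^ l.length) • sndAll D l q (Phi D l (fun i => hs (i + 1)) q
          (hs 0 (sh l (q + 1)) (sh l q) (z (sh l (q + 1))))) := by
      rw [sndAll_cons, Phi_cons, map_add, map_smul, csnd_cinl, csnd_cinr, zero_add, map_smul]
    show sndAll D (a :: l) q (Phi D (a :: l) hs q (z (sh l (q + 1)))) = _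
    rw [h3, h1, h2, smul_smul]
    rfl

lemma PP_eq_prod : ∀ (k : ℕ) (hs : ℕ → Op2 D),
    PP D k hs = (List.ofFn fun i : Fin k => tot2 D (hs (k - 1 - i))).prod
  | 0, _ => by simp [PP]
  | k + 1, hs => by
    rw [PP, PP_eq_prod k, List.ofFn_succ', List.concat_eq_append, List.prod_append,
      List.prod_singleton]
    congr 2
    · congr 1
      funext i
      have : k - 1 - (i : ℕ) + 1 = k + 1 - 1 - ((Fin.castSucc i : Fin (k + 1)) : ℕ) := by
        have := i.2
        simp only [Fin.val_castSucc]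
        omega
      rw [this]
    · have : k + 1 - 1 - ((Fin.last k : Fin (k + 1)) : ℕ) = 0 := by simp
      rw [this]

end Tot

end Groth.Agent.Helper13Wiebe
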