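import Groth.Agent.Lib.Helper13WiebeD

/-!
# Chain-level Wiebe theorem, part E: the determinant via the exterior algebra (helper13)
-/

set_option autoImplicit false
set_option linter.unusedSimpArgs false
universe u

namespace Groth.Agent.Helper13Wiebe
open CategoryTheory CochainComplex
open Groth.Agent.Lib.Helper21 Groth.Agent.Helper13Kz Groth.Agent.Helper13KzPerm

variable {A : Type u} [CommRing A]

section Basis

/-- the second inclusion on total modules -/
noncomputable def tinr (a : A) (K : CochainComplex (ModuleCat.{u} A) ℤ) :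
    Tot K →ₗ[A] Tot (Cn a K) where
  toFun z := fun q => cinr (a • 𝟙 K) q (z q)
  map_add' z w := by
    funext q
    exact map_add (cinr (a • 𝟙 K) q) _ _
  map_smul' c z := by
    funext q
    exact map_smul (cinr (a • 𝟙 K) q) c _

lemma tinr_apply (a : A) (K : CochainComplex (ModuleCat.{u} A) ℤ) (z : Tot K) (q : ℤ) :
    tinr a K z q = cinr (a • 𝟙 K) q (z q) := rfl

lemma tot_extOp_tinr (a : A) {K : CochainComplex (ModuleCat.{u} A) ℤ} (θ : Op K) (z : Tot K) :
    tot (Cn a K) (extOp a θ) (tinr a K z) = tinr a K (tot K θ z) := by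
  funext q
  rw [tot_apply, tinr_apply, tinr_apply, tot_apply]
  apply cone_ext
  · rw [cfst_extOp, cfst_cinr, cfst_cinr, map_zero, neg_zero]
  · rw [csnd_extOp, csnd_cinr, csnd_cinr]

lemma prod_extOp_tinr (a : A) {K : CochainComplex (ModuleCat.{u} A) ℤ} :
    ∀ (n : ℕ) (θ : Fin n → Op K) (z : Tot K),
    (List.ofFn fun j => tot (Cn a K) (extOp a (θ j))).prod (tinr a K z) =
      tinr a K ((List.ofFn fun j => tot K (θ j)).prod z)
  | 0, _, _ => by simp
  | n + 1, θ, z => by
    rw [List.ofFn_succ, List.prod_cons, List.ofFn_succ, List.prod_cons, Module.End.mul_apply,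
      Module.End.mul_apply, prod_extOp_tinr a n, tot_extOp_tinr]

variable (A) in
/-- the unit element of the Koszul complex as an element of the total module -/
noncomputable def oneT (l : List A) : Tot (T l (K0 A)) :=
  fun q => inrAll (K0 A) l q (fromR A q 1)

lemma oneT_cons (a : A) (l : List A) : oneT A (a :: l) = tinr a (T l (K0 A)) (oneT A l) := rfl

lemma single_succ_zero : (fun j : ℕ => (Pi.single 0 1 : ℕ → A) (j + 1)) = 0 := by
  funext j
  simp

lemma single_succ_succ (i : ℕ) :
    (fun j : ℕ => (Pi.single (i + 1) 1 : ℕ → A) (j + 1)) = Pi.single i 1 := by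
  funext j
  simp [Pi.single_apply]

lemma tot_hFam_single_zero (a : A) (l : List A) (z : Tot (T l (K0 A))) (q : ℤ) :
    tot (T (a :: l) (K0 A)) (hFam (K0 A) (a :: l) (Pi.single 0 1)) (tinr a _ z) q =
      cinl (a • 𝟙 (T l (K0 A))) q (z (q + 1)) := by
  show consOp a ((Pi.single 0 1 : ℕ → A) 0) (hFam (K0 A) l (fun j => (Pi.single 0 1 : ℕ → A) (j + 1))) q
    (cinr (a • 𝟙 (T l (K0 A))) (q + 1) (z (q + 1))) = _
  rw [single_succ_zero, consOp_apply, Pi.single_eq_same, one_smul]
  apply cone_ext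
  · rw [map_add, cfst_etaNew, cfst_extOp, csnd_cinr, cfst_cinl, cfst_cinr, hFam_zero, neg_zero,
      add_zero]
  · rw [map_add, csnd_etaNew, csnd_extOp, csnd_cinl, hFam_zero, add_zero]

lemma tot_hFam_single_succ (a : A) (l : List A) (i : ℕ) :
    tot (T (a :: l) (K0 A)) (hFam (K0 A) (a :: l) (Pi.single (i + 1) 1)) =
      tot (Cn a (T l (K0 A))) (extOp a (hFam (K0 A) l (Pi.single i 1))) := by
  ext z q
  show consOp a ((Pi.single (i + 1) 1 : ℕ → A) 0)
    (hFam (K0 A) l (fun j => (Pi.single (i + 1) 1 : ℕ → A) (j + 1))) q (z (q + 1)) = _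
  rw [single_succ_succ, consOp_apply, Pi.single_eq_of_ne (by omega), zero_smul, zero_add]
  rfl

/-- the product of the basic operators applied to the unit has all-`fst` component `1` -/
lemma fstAll_basis_prod : ∀ (l : List A) (n : ℕ), l.length = n → ∀ q : ℤ,
    fstAll (K0 A) l q (((List.ofFn fun j : Fin n =>
      tot (T l (K0 A)) (hFam (K0 A) l (Pi.single (j : ℕ) 1))).prod (oneT A l)) q) =
      fromR A (sh l q) 1
  | [], 0, _, q => by
    rw [List.ofFn_zero, List.prod_nil, Module.End.one_apply]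
    rfl
  | a :: l, n + 1, h, q => by
    have hn : l.length = n := by simpa using h
    let W : Tot (T l (K0 A)) := (List.ofFn fun j : Fin n =>
      tot (T l (K0 A)) (hFam (K0 A) l (Pi.single (j : ℕ) 1))).prod (oneT A l)
    have h1 : (List.ofFn fun j : Fin n => tot (Cn a (T l (K0 A)))
        (hFam (K0 A) (a :: l) (Pi.single ((j.succ : Fin (n + 1)) : ℕ) 1))) =
        List.ofFn fun j : Fin n =>
          tot (Cn a (T l (K0 A))) (extOp a (hFam (K0 A) l (Pi.single (j : ℕ) 1))) := by
      congr 1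
      funext j
      rw [Fin.val_succ]
      exact tot_hFam_single_succ a l j
    have h2 : ((List.ofFn fun j : Fin (n + 1) => tot (Cn a (T l (K0 A)))
        (hFam (K0 A) (a :: l) (Pi.single (j : ℕ) 1))).prod (tinr a (T l (K0 A)) (oneT A l))) q =
        cinl (a • 𝟙 (T l (K0 A))) q (W (q + 1)) := by
      rw [List.ofFn_succ, List.prod_cons, Module.End.mul_apply, h1, prod_extOp_tinr a, Fin.val_zero]
      exact tot_hFam_single_zero a l W q
    show fstAll (K0 A) l (q + 1) (cfst (a • 𝟙 (T l (K0 A))) q (((List.ofFn fun j : Fin (n + 1) =>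
      tot (Cn a (T l (K0 A))) (hFam (K0 A) (a :: l) (Pi.single (j : ℕ) 1))).prod
        (tinr a (T l (K0 A)) (oneT A l))) q)) = _
    rw [h2, cfst_cinl]
    exact fstAll_basis_prod l n hn (q + 1)

end Basis


section Ext
variable (l : List A)

/-- the operators `∑ v_j η_j` as a linear map into the endomorphisms of the total module -/
noncomputable def iotaL : (ℕ → A) →ₗ[A] Module.End A (Tot (T l (K0 A))) where
  toFun v := tot _ (hFam (K0 A) l v)
  map_add' v w := by
    ext z q
    exact hFam_add (K0 A) l v w q _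
  map_smul' c v := by
    ext z q
    exact hFam_smul (K0 A) l c v q _

lemma iotaL_apply (v : ℕ → A) : iotaL l v = tot _ (hFam (K0 A) l v) := rfl

lemma iotaL_sq (v : ℕ → A) : iotaL l v * iotaL l v = 0 := by
  ext z q
  exact isSq_hFam (K0 A) l v q _

/-- the induced algebra map from the exterior algebra -/
noncomputable def liftL : ExteriorAlgebra A (ℕ → A) →ₐ[A] Module.End A (Tot (T l (K0 A))) :=
  ExteriorAlgebra.lift A ⟨iotaL l, iotaL_sq l⟩

lemma liftL_ιMulti (n : ℕ) (v : Fin n → ℕ → A) :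
    liftL l (ExteriorAlgebra.ιMulti A n v) = (List.ofFn fun i => iotaL l (v i)).prod := by
  rw [ExteriorAlgebra.ιMulti_apply, map_list_prod, List.map_ofFn]
  congr 2
  funext i
  exact ExteriorAlgebra.lift_ι_apply A _ _ _

/-- extension by zero -/
noncomputable def ext0 (n : ℕ) : (Fin n → A) →ₗ[A] (ℕ → A) :=
  LinearMap.pi fun j => if h : j < n then LinearMap.proj ⟨j, h⟩ else 0

lemma ext0_apply_of_lt (n : ℕ) (v : Fin n → A) (j : ℕ) (h : j < n) : ext0 n v j = v ⟨j, h⟩ := by
  simp [ext0, h]

lemma ext0_apply_of_ge (n : ℕ) (v : Fin n → A) (j : ℕ) (h : n ≤ j) : ext0 n v j = 0 := by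
  simp [ext0, not_lt.2 h]

lemma ext0_single (n : ℕ) (j : Fin n) : ext0 n (Pi.single j (1 : A)) = Pi.single (j : ℕ) 1 := by
  funext i
  by_cases h : i < n
  · rw [ext0_apply_of_lt n _ i h]
    by_cases hij : i = j
    · subst hij
      simp
    · rw [Pi.single_eq_of_ne hij, Pi.single_eq_of_ne]
      intro h'
      exact hij (by rw [← h'])
  · rw [ext0_apply_of_ge n _ i (not_lt.1 h), Pi.single_eq_of_ne]
    intro h'
    exact h (h' ▸ j.2)

/-- the evaluation functional -/
noncomputable def evL (q : ℤ) : Module.End A (Tot (T l (K0 A))) →ₗ[A] A :=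
  toR A (sh l q) ∘ₗ fstAll (K0 A) l q ∘ₗ
    (LinearMap.proj q : Tot (T l (K0 A)) →ₗ[A] (T l (K0 A)).X q) ∘ₗ LinearMap.applyₗ (oneT A l)

/-- the alternating form computing the top component -/
noncomputable def FL (n : ℕ) (q : ℤ) : (Fin n → A) [⋀^Fin n]→ₗ[A] A :=
  ((evL l q).compAlternatingMap
    ((liftL l).toLinearMap.compAlternatingMap (ExteriorAlgebra.ιMulti A n))).compLinearMap (ext0 n)

lemma FL_apply (n : ℕ) (q : ℤ) (c : Fin n → Fin n → A) :
    FL l n q c = toR A (sh l q) (fstAll (K0 A) l q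
      (((List.ofFn fun i => iotaL l (ext0 n (c i))).prod (oneT A l)) q)) := by
  have : liftL l (ExteriorAlgebra.ιMulti A n (fun i => ext0 n (c i))) =
      (List.ofFn fun i => iotaL l (ext0 n (c i))).prod := liftL_ιMulti l n _
  rw [← this]
  rfl

theorem FL_eq_det (n : ℕ) (hn : l.length = n) (q : ℤ) (hq : sh l q = 0) (c : Fin n → Fin n → A) :
    FL l n q c = Matrix.det (Matrix.of c) := by
  have h := AlternatingMap.eq_smul_basis_det (Pi.basisFun A (Fin n)) (FL l n q)
  have h1 : FL l n q (Pi.basisFun A (Fin n)) = 1 := by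
    rw [FL_apply]
    have h2 : (fun i : Fin n => iotaL l (ext0 n ((Pi.basisFun A (Fin n)) i))) =
        fun j : Fin n => tot (T l (K0 A)) (hFam (K0 A) l (Pi.single (j : ℕ) 1)) := by
      funext i
      rw [Pi.basisFun_apply, ext0_single, iotaL_apply]
    rw [h2, fstAll_basis_prod l n hn q, toR_fromR A _ hq]
  rw [h, AlternatingMap.smul_apply, h1, one_smul, Pi.basisFun_det_apply]

end Ext

end Groth.Agent.Helper13Wiebe
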