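import Mathlib
import Groth.Prelude.Def_EtRam

/-!
# Valuation subrings dominating a DVR in finite separable extensions (helper14)

* `isDiscreteValuationRing_of_dominates`: a valuation subring of a finite separable extension of
  the fraction field of a DVR `A` which dominates `A` is a DVR.
* tower lemmas for ramification indices / weak unramifiedness / residue field separability.
* `dominates_iff`: domination in terms of local homomorphisms.
-/

set_option autoImplicit false
set_option linter.style.haveILetI false
set_option linter.unusedSectionVars false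
universe u

namespace Groth.Agent.Lib.Helper14EtRam

open IsLocalRing

section DVR

variable {A K L : Type u} [CommRing A] [IsDomain A] [IsDiscreteValuationRing A] [Field K]
  [Algebra A K] [IsFractionRing A K] [Field L] [Algebra K L] [FiniteDimensional K L]
  [Algebra.IsSeparable K L]

theorem isDiscreteValuationRing_of_dominates (V : ValuationSubring L)
    (h : EtRam.Dominates A ((algebraMap K L).comp (algebraMap A K)) V) :
    IsDiscreteValuationRing V := by
  letI : Algebra A L := ((algebraMap K L).comp (algebraMap A K)).toAlgebra
  haveI : IsScalarTower A K L := IsScalarTower.of_algebraMap_eq' rfl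
  letI : Algebra A V := (RingHom.codRestrict ((algebraMap K L).comp (algebraMap A K)) V h.1).toAlgebra
  haveI : IsScalarTower A V L := IsScalarTower.of_algebraMap_eq' rfl
  let C := integralClosure A L
  haveI : IsDedekindDomain C := integralClosure.isDedekindDomain A K L
  haveI : IsFractionRing C L := integralClosure.isFractionRing_of_finite_extension K L
  have hCV : ∀ c : C, (c : L) ∈ V := by
    intro c
    have hc : IsIntegral V (c : L) := IsIntegral.tower_top (R := A) c.2
    obtain ⟨y, hy⟩ := IsIntegrallyClosed.isIntegral_iff.mp hc
    rw [← hy]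
    exact y.2
  -- the inclusion `C → V`
  let ι : C →+* V := (algebraMap C L).codRestrict V.toSubring hCV
  have hι : ∀ c : C, ((ι c : V) : L) = (c : L) := fun c => rfl
  have hιinj : Function.Injective ι := fun a b hab => Subtype.ext (congrArg (fun z : V => (z : L)) hab)
  let P : Ideal C := (maximalIdeal V).comap ι
  haveI hPprime : P.IsPrime := Ideal.comap_isPrime ι (maximalIdeal V)
  obtain ⟨π, hπ⟩ := IsDiscreteValuationRing.exists_irreducible A
  have hπ0 : algebraMap A L π ≠ 0 := by
    intro h0
    have : π = 0 := by
      have hinj : Function.Injective (algebraMap A L) :=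
        (algebraMap K L).injective.comp (IsFractionRing.injective A K)
      exact hinj (h0.trans (map_zero _).symm)
    exact hπ.ne_zero this
  have hPbot : P ≠ ⊥ := by
    intro hP
    have hmem : (⟨algebraMap A L π, isIntegral_algebraMap⟩ : C) ∈ P := by
      change ι _ ∈ maximalIdeal V
      rw [V.valuation_lt_one_iff]
      exact h.2 π (by rw [hπ.maximalIdeal_eq]; exact Ideal.mem_span_singleton_self π)
    rw [hP, Ideal.mem_bot] at hmem
    exact hπ0 (congrArg Subtype.val hmem)
  -- the localization `D = C_P`, a DVR
  let D := Localization.AtPrime P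
  haveI : IsDiscreteValuationRing D :=
    IsLocalization.AtPrime.isDiscreteValuationRing_of_dedekind_domain C hPbot D
  have hunit : ∀ s : P.primeCompl, IsUnit (ι s) := by
    intro s
    by_contra hs
    exact s.2 (show ι s ∈ maximalIdeal V from hs)
  let j : D →+* V := IsLocalization.lift (M := P.primeCompl) (g := ι) hunit
  have hj : ∀ c : C, j (algebraMap C D c) = ι c := fun c => IsLocalization.lift_eq _ _
  letI : Algebra D L := (V.subtype.comp j).toAlgebra
  haveI : IsScalarTower C D L := IsScalarTower.of_algebraMap_eq' (by
    ext c
    simp only [RingHom.algebraMap_toAlgebra, RingHom.comp_apply]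
    rw [hj]
    rfl)
  haveI : IsFractionRing D L :=
    IsFractionRing.isFractionRing_of_isDomain_of_isLocalization P.primeCompl D L
  have hjinj : Function.Injective j := by
    have h1 : Function.Injective (algebraMap D L) := IsFractionRing.injective D L
    intro a b hab
    exact h1 (congrArg V.subtype hab)
  -- `j` maps the maximal ideal of `D` into the maximal ideal of `V`
  have hjmax : ∀ d : D, d ∈ maximalIdeal D → j d ∈ maximalIdeal V := by
    intro d hd
    rw [← IsLocalization.AtPrime.map_eq_maximalIdeal P D] at hd
    have : Ideal.map (algebraMap C D) P ≤ (maximalIdeal V).comap j := by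
      rw [Ideal.map_le_iff_le_comap]
      intro c hc
      change j (algebraMap C D c) ∈ maximalIdeal V
      rw [hj]
      exact hc
    exact this hd
  have hjsurj : Function.Surjective j := by
    intro x
    by_cases hx0 : (x : L) = 0
    · exact ⟨0, by rw [map_zero]; exact Subtype.ext hx0.symm⟩
    rcases ValuationRing.isInteger_or_isInteger D (x : L) with ⟨d, hd⟩ | ⟨d, hd⟩
    · exact ⟨d, Subtype.ext hd⟩
    · by_cases hdu : IsUnit d
      · obtain ⟨u, rfl⟩ := hdu
        refine ⟨((u⁻¹ : Dˣ) : D), Subtype.ext ?_⟩
        have h1 : (algebraMap D L (u : D)) * (algebraMap D L ((u⁻¹ : Dˣ) : D)) = 1 := by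
          rw [← map_mul, Units.mul_inv, map_one]
        have h2 : (x : L)⁻¹ * (x : L) = 1 := inv_mul_cancel₀ hx0
        change algebraMap D L ((u⁻¹ : Dˣ) : D) = (x : L)
        rw [hd] at h1
        calc algebraMap D L ((u⁻¹ : Dˣ) : D) = ((x : L)⁻¹ * (x : L)) * algebraMap D L ((u⁻¹ : Dˣ) : D) := by
              rw [h2, one_mul]
          _ = (x : L) * ((x : L)⁻¹ * algebraMap D L ((u⁻¹ : Dˣ) : D)) := by ring
          _ = (x : L) := by rw [h1, mul_one]
      · exfalso
        have hdm : j d ∈ maximalIdeal V := hjmax d hdu
        have h1 : j d * x = 1 := by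
          apply Subtype.ext
          change algebraMap D L d * (x : L) = 1
          rw [hd]
          exact inv_mul_cancel₀ hx0
        have : (1 : V) ∈ maximalIdeal V := h1 ▸ Ideal.mul_mem_right _ _ hdm
        exact (Ideal.ne_top_iff_one _).mp (maximalIdeal.isMaximal V).ne_top this
  exact IsDiscreteValuationRing.RingEquivClass.isDiscreteValuationRing
    (RingEquiv.ofBijective j ⟨hjinj, hjsurj⟩)


end DVR

section Tower

variable {A V W : Type u} [CommRing A] [IsDomain A] [IsDiscreteValuationRing A]
  [CommRing V] [IsDomain V] [IsDiscreteValuationRing V]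
  [CommRing W] [IsDomain W] [IsDiscreteValuationRing W]
  [Algebra A V] [Algebra V W] [Algebra A W] [IsScalarTower A V W]
  [IsLocalHom (algebraMap A V)] [IsLocalHom (algebraMap V W)] [IsLocalHom (algebraMap A W)]

omit [IsDomain A] [IsDiscreteValuationRing A] [IsDomain V] [IsDiscreteValuationRing V] in
theorem map_maximalIdeal_le {A V : Type u} [CommRing A] [IsLocalRing A] [CommRing V] [IsLocalRing V]
    [Algebra A V] [IsLocalHom (algebraMap A V)] :
    (maximalIdeal A).map (algebraMap A V) ≤ maximalIdeal V := by
  rw [Ideal.map_le_iff_le_comap]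
  intro x hx
  rw [Ideal.mem_comap, mem_maximalIdeal, mem_nonunits_iff]
  intro hu
  exact hx (isUnit_of_map_unit (algebraMap A V) x hu)

theorem ramificationIdx'_tower (hAV : Function.Injective (algebraMap A V))
    (hVW : Function.Injective (algebraMap V W)) :
    Ideal.ramificationIdx' (maximalIdeal A) (maximalIdeal W) =
      Ideal.ramificationIdx' (maximalIdeal A) (maximalIdeal V) *
        Ideal.ramificationIdx' (maximalIdeal V) (maximalIdeal W) := by
  have hAW : Function.Injective (algebraMap A W) := by
    rw [IsScalarTower.algebraMap_eq A V W]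
    exact hVW.comp hAV
  refine Ideal.ramificationIdx'_algebra_tower ?_ ?_ map_maximalIdeal_le
  · rw [Ne, Ideal.map_eq_bot_iff_of_injective hVW]
    exact IsDiscreteValuationRing.not_a_field V
  · rw [Ne, Ideal.map_eq_bot_iff_of_injective hAW]
    exact IsDiscreteValuationRing.not_a_field A

omit [Algebra V W] [Algebra A W] [IsScalarTower A V W] [IsLocalHom (algebraMap V W)]
  [IsLocalHom (algebraMap A W)] [IsDomain W] [IsDiscreteValuationRing W] [CommRing W] in
theorem weaklyUnramified_iff (hAV : Function.Injective (algebraMap A V)) :
    EtRam.IsWeaklyUnramified A V ↔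
      Ideal.ramificationIdx' (maximalIdeal A) (maximalIdeal V) = 1 := by
  unfold EtRam.IsWeaklyUnramified
  have hbot : (maximalIdeal A).map (algebraMap A V) ≠ ⊥ := by
    rw [Ne, Ideal.map_eq_bot_iff_of_injective hAV]
    exact IsDiscreteValuationRing.not_a_field A
  constructor
  · intro h
    have := Ideal.ramificationIdx'_map_self_eq_one (R := A) (S := V) (p := maximalIdeal A)
      (by rw [h]; exact (maximalIdeal.isMaximal V).ne_top) hbot
    rwa [h] at this
  · intro h
    obtain ⟨ϖ, hϖ⟩ := IsDiscreteValuationRing.exists_irreducible V
    obtain ⟨n, hn⟩ := IsDiscreteValuationRing.ideal_eq_span_pow_irreducible hbot hϖ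
    have hm : maximalIdeal V = Ideal.span {ϖ} := hϖ.maximalIdeal_eq
    have hn' : (maximalIdeal A).map (algebraMap A V) = maximalIdeal V ^ n := by
      rw [hn, hm, Ideal.span_singleton_pow]
    have hlt : ¬ (maximalIdeal A).map (algebraMap A V) ≤ maximalIdeal V ^ (n + 1) := by
      rw [hn']
      exact not_le_of_gt (Ideal.pow_succ_lt_pow (IsDiscreteValuationRing.not_a_field V) n)
    have := Ideal.ramificationIdx'_spec hn'.le hlt
    rw [h] at this
    rw [hn', ← this, pow_one]

theorem weaklyUnramified_bot (hAV : Function.Injective (algebraMap A V))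
    (hVW : Function.Injective (algebraMap V W)) (h : EtRam.IsWeaklyUnramified A W) :
    EtRam.IsWeaklyUnramified A V := by
  have hAW : Function.Injective (algebraMap A W) := by
    rw [IsScalarTower.algebraMap_eq A V W]
    exact hVW.comp hAV
  rw [weaklyUnramified_iff hAW, ramificationIdx'_tower hAV hVW] at h
  rw [weaklyUnramified_iff hAV]
  exact Nat.eq_one_of_mul_eq_one_right h

omit [IsDomain A] [IsDiscreteValuationRing A] [IsDomain V] [IsDiscreteValuationRing V]
  [IsDomain W] [IsDiscreteValuationRing W] [IsLocalHom (algebraMap A V)]
  [IsLocalHom (algebraMap V W)] [IsLocalHom (algebraMap A W)] in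
theorem weaklyUnramified_trans [IsLocalRing A] [IsLocalRing V] [IsLocalRing W]
    (h1 : EtRam.IsWeaklyUnramified A V) (h2 : EtRam.IsWeaklyUnramified V W) :
    EtRam.IsWeaklyUnramified A W := by
  unfold EtRam.IsWeaklyUnramified at *
  rw [IsScalarTower.algebraMap_eq A V W, ← Ideal.map_map, h1, h2]

theorem separable_bot
    [Algebra.IsSeparable (ResidueField A) (ResidueField W)] :
    Algebra.IsSeparable (ResidueField A) (ResidueField V) :=
  Algebra.isSeparable_tower_bot_of_isSeparable (ResidueField A) (ResidueField V) (ResidueField W)

theorem separable_trans [Algebra.IsSeparable (ResidueField A) (ResidueField V)]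
    [Algebra.IsSeparable (ResidueField V) (ResidueField W)] :
    Algebra.IsSeparable (ResidueField A) (ResidueField W) :=
  Algebra.IsSeparable.trans (ResidueField A) (ResidueField V) (ResidueField W)

end Tower


section Plumbing

variable {A : Type u} [CommRing A] [IsLocalRing A] {L : Type u} [Field L]

theorem dominates_iff (g : A →+* L) (V : ValuationSubring L) :
    EtRam.Dominates A g V ↔ ∃ h : ∀ a, g a ∈ V, IsLocalHom (RingHom.codRestrict g V h) := by
  constructor
  · rintro ⟨h1, h2⟩
    refine ⟨h1, ⟨fun a ha => ?_⟩⟩
    by_contra hna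
    have hlt := h2 a hna
    have : (RingHom.codRestrict g V h1 a) ∈ maximalIdeal V := by
      rw [V.valuation_lt_one_iff]
      exact hlt
    exact this ha
  · rintro ⟨h1, h2⟩
    refine ⟨h1, fun a ha => ?_⟩
    have : (RingHom.codRestrict g V h1 a) ∈ maximalIdeal V := by
      intro hu
      exact ha (h2.map_nonunit a hu)
    rw [V.valuation_lt_one_iff] at this
    exact this

end Plumbing

end Groth.Agent.Lib.Helper14EtRam
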