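import Mathlib
import Groth.Agent.Lib.Helper14EtRam

set_option autoImplicit false
set_option linter.style.haveILetI false
set_option linter.unusedSectionVars false
universe u

namespace Groth.Agent.Lib.Helper14Eisenstein

open IsLocalRing Polynomial

section E1

variable {A K L : Type u} [CommRing A] [IsDomain A] [IsDiscreteValuationRing A] [Field K]
  [Algebra A K] [IsFractionRing A K] [Field L] [Algebra K L] [Algebra A L] [IsScalarTower A K L]

theorem valuation_algebraMap_le_one (V : ValuationSubring L)
    (hV : EtRam.Dominates A (algebraMap A L) V) (a : A) : V.valuation (algebraMap A L a) ≤ 1 :=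
  (V.valuation_le_one_iff _).mpr (hV.1 a)

theorem valuation_algebraMap_unit (V : ValuationSubring L)
    (hV : EtRam.Dominates A (algebraMap A L) V) (u : Aˣ) :
    V.valuation (algebraMap A L (u : A)) = 1 := by
  have h1 := valuation_algebraMap_le_one V hV (u : A)
  have h2 := valuation_algebraMap_le_one V hV ((u⁻¹ : Aˣ) : A)
  have h3 : V.valuation (algebraMap A L (u : A)) * V.valuation (algebraMap A L ((u⁻¹ : Aˣ) : A))
      = 1 := by
    rw [← map_mul, ← map_mul, Units.mul_inv, map_one, map_one]
  by_contra hne
  have h4 : V.valuation (algebraMap A L (u : A)) < 1 := lt_of_le_of_ne h1 hne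
  have h5 : V.valuation (algebraMap A L (u : A)) *
      V.valuation (algebraMap A L ((u⁻¹ : Aˣ) : A)) < 1 := by
    calc _ ≤ V.valuation (algebraMap A L (u : A)) * 1 := by gcongr
      _ < 1 := by rw [mul_one]; exact h4
  exact absurd h3 (ne_of_lt h5)

/-- value of an element of `K` in terms of its `π`-adic order. -/
theorem exists_zpow_valuation (V : ValuationSubring L)
    (hV : EtRam.Dominates A (algebraMap A L) V) {π : A} (hπ : Irreducible π) {c : K} (hc : c ≠ 0) :
    ∃ l : ℤ, V.valuation (algebraMap K L c) = V.valuation (algebraMap A L π) ^ l ∧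
      (0 ≤ l → c ∈ Set.range (algebraMap A K)) := by
  obtain ⟨l, u, hlu⟩ := IsDiscreteValuationRing.exists_units_eq_smul_zpow_of_irreducible hπ hc
  refine ⟨l, ?_, ?_⟩
  · rw [hlu, Units.smul_def, Algebra.smul_def, map_mul, map_mul, map_zpow₀, map_zpow₀,
      ← IsScalarTower.algebraMap_apply, ← IsScalarTower.algebraMap_apply,
      valuation_algebraMap_unit V hV u, one_mul]
  · intro hl
    obtain ⟨k, rfl⟩ := Int.eq_ofNat_of_zero_le hl
    refine ⟨(u : A) * π ^ k, ?_⟩
    rw [hlu, Units.smul_def, Algebra.smul_def, map_mul, map_pow, zpow_natCast]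

theorem mem_iff_coeff_mem {π : A} (hπ : Irreducible π) (pb : PowerBasis K L)
    (V : ValuationSubring L) (hV : EtRam.Dominates A (algebraMap A L) V)
    (hval : V.valuation pb.gen ^ pb.dim = V.valuation (algebraMap A L π)) (y : L) :
    y ∈ V ↔ ∀ i, pb.basis.repr y i ∈ Set.range (algebraMap A K) := by
  classical
  have hinjAL : Function.Injective (algebraMap A L) := by
    rw [IsScalarTower.algebraMap_eq A K L]
    exact (algebraMap K L).injective.comp (IsFractionRing.injective A K)
  have hπL : algebraMap A L π ≠ 0 := fun h => hπ.ne_zero (hinjAL (by rw [h, map_zero]))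
  have hvπ0 : V.valuation (algebraMap A L π) ≠ 0 := (Valuation.ne_zero_iff _).mpr hπL
  have hvπ1 : V.valuation (algebraMap A L π) < 1 :=
    hV.2 π ((IsLocalRing.mem_maximalIdeal π).mpr hπ.not_isUnit)
  have hq : 0 < pb.dim := by
    rcases Nat.eq_zero_or_pos pb.dim with h0 | h0
    · rw [h0, pow_zero] at hval
      exact absurd hval.symm (ne_of_lt hvπ1)
    · exact h0
  set t := V.valuation pb.gen with ht
  have ht0 : t ≠ 0 := by
    intro h0
    rw [h0, zero_pow hq.ne'] at hval
    exact hvπ0 hval.symm
  have ht1 : t < 1 := by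
    by_contra hge
    rw [not_lt] at hge
    have : (1 : ValuationSubring.ValueGroup V) ≤ t ^ pb.dim := one_le_pow₀ hge
    rw [hval] at this
    exact absurd hvπ1 (not_lt.mpr this)
  have hgenV : pb.gen ∈ V := (V.valuation_le_one_iff _).mp ht1.le
  have hy : y = ∑ i, algebraMap K L (pb.basis.repr y i) * pb.gen ^ (i : ℕ) := by
    conv_lhs => rw [← pb.basis.sum_repr y]
    refine Finset.sum_congr rfl fun i _ => ?_
    rw [pb.basis_eq_pow, Algebra.smul_def]
  constructor
  · intro hyV i
    by_cases hci : pb.basis.repr y i = 0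
    · exact ⟨0, by rw [map_zero, hci]⟩
    -- exponents
    have hex : ∀ j, pb.basis.repr y j ≠ 0 → ∃ l : ℤ,
        V.valuation (algebraMap K L (pb.basis.repr y j) * pb.gen ^ (j : ℕ)) =
          t ^ ((pb.dim : ℤ) * l + (j : ℕ)) ∧
        (0 ≤ l → pb.basis.repr y j ∈ Set.range (algebraMap A K)) := by
      intro j hj
      obtain ⟨l, hl1, hl2⟩ := exists_zpow_valuation V hV hπ hj
      refine ⟨l, ?_, hl2⟩
      rw [map_mul, map_pow, hl1, ← hval, ← zpow_natCast, ← zpow_mul, ← zpow_natCast t (j : ℕ),
        ← zpow_add₀ ht0]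
    choose! l hl1 hl2 using hex
    let S : Finset (Fin pb.dim) := Finset.univ.filter fun j => pb.basis.repr y j ≠ 0
    have hiS : i ∈ S := by simp [S, hci]
    obtain ⟨j₀, hj₀S, hj₀max⟩ := Finset.exists_max_image S
      (fun j => V.valuation (algebraMap K L (pb.basis.repr y j) * pb.gen ^ (j : ℕ))) ⟨i, hiS⟩
    have hj₀ : pb.basis.repr y j₀ ≠ 0 := by simpa [S] using hj₀S
    have hstrict : ∀ z : ℤ, ∀ z' : ℤ, t ^ z = t ^ z' → z = z' := by
      intro z z' h
      exact zpow_right_injective₀ (lt_of_le_of_ne zero_le ht0.symm) ht1.ne h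
    have hsum : V.valuation y =
        V.valuation (algebraMap K L (pb.basis.repr y j₀) * pb.gen ^ (j₀ : ℕ)) := by
      conv_lhs => rw [hy]
      apply Valuation.map_sum_eq_of_lt _ (Finset.mem_univ j₀)
      intro j hj
      have hjne : j ≠ j₀ := by
        intro h
        simp [h] at hj
      by_cases hcj : pb.basis.repr y j = 0
      · rw [hcj, map_zero, zero_mul, map_zero, hl1 j₀ hj₀]
        exact zpow_pos (lt_of_le_of_ne zero_le ht0.symm) _
      · have hjS : j ∈ S := by simp [S, hcj]
        refine lt_of_le_of_ne (hj₀max j hjS) ?_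
        intro heq
        rw [hl1 j hcj, hl1 j₀ hj₀] at heq
        have h3 := hstrict _ _ heq
        apply hjne
        apply Fin.ext
        have hjlt := j.2
        have hj₀lt := j₀.2
        have h4 : ((j : ℕ) : ℤ) = ((j₀ : ℕ) : ℤ) := by
          have e1 : ((pb.dim : ℤ) * l j + (j : ℕ)) % (pb.dim : ℤ) = (j : ℕ) := by
            rw [Int.add_comm, Int.add_mul_emod_self_left]
            exact Int.emod_eq_of_lt (by positivity) (by exact_mod_cast hjlt)
          have e2 : ((pb.dim : ℤ) * l j₀ + (j₀ : ℕ)) % (pb.dim : ℤ) = (j₀ : ℕ) := by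
            rw [Int.add_comm, Int.add_mul_emod_self_left]
            exact Int.emod_eq_of_lt (by positivity) (by exact_mod_cast hj₀lt)
          rw [← e1, ← e2, h3]
        exact_mod_cast h4
    have hle1 : V.valuation (algebraMap K L (pb.basis.repr y i) * pb.gen ^ (i : ℕ)) ≤ 1 := by
      refine (hj₀max i hiS).trans ?_
      rw [← hsum]
      exact (V.valuation_le_one_iff _).mpr hyV
    rw [hl1 i hci] at hle1
    have hexp : 0 ≤ (pb.dim : ℤ) * l i + (i : ℕ) := by
      by_contra hneg
      rw [not_le] at hneg
      have : 1 < t ^ ((pb.dim : ℤ) * l i + (i : ℕ)) :=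
        one_lt_zpow_of_neg₀ (lt_of_le_of_ne zero_le ht0.symm) ht1 hneg
      exact absurd hle1 (not_le.mpr this)
    apply hl2 i hci
    by_contra hneg
    rw [not_le] at hneg
    have hilt : ((i : ℕ) : ℤ) < pb.dim := by exact_mod_cast i.2
    have : (pb.dim : ℤ) * l i ≤ -(pb.dim : ℤ) := by nlinarith
    linarith
  · intro hall
    rw [hy]
    refine Subring.sum_mem V.toSubring fun i _ => ?_
    obtain ⟨a, ha⟩ := hall i
    rw [← ha, ← IsScalarTower.algebraMap_apply]
    exact V.mul_mem _ _ (hV.1 a) (pow_mem hgenV _)

theorem gen_mem_of_dominates {x : L} (hint : IsIntegral A x)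
    (V : ValuationSubring L) (hV : EtRam.Dominates A (algebraMap A L) V) : x ∈ V := by
  letI iAV : Algebra A V := (RingHom.codRestrict (algebraMap A L) V hV.1).toAlgebra
  haveI : IsScalarTower A V L := IsScalarTower.of_algebraMap_eq' rfl
  have h2 : IsIntegral V x := hint.tower_top
  obtain ⟨y, hy⟩ := IsIntegrallyClosed.isIntegral_iff.mp h2
  rw [← hy]
  exact y.2

theorem valuation_one_sub {π : A} (hπ : Irreducible π) {x : L} (hint : IsIntegral A x)
    (m : ℕ) (hm : 0 < m) (V : ValuationSubring L)
    (hV : EtRam.Dominates A (algebraMap A L) V) :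
    V.valuation (1 - algebraMap A L (π ^ m) * x) = 1 := by
  have hπm : V.valuation (algebraMap A L π) < 1 :=
    hV.2 π ((IsLocalRing.mem_maximalIdeal π).mpr hπ.not_isUnit)
  have h1 : V.valuation (algebraMap A L (π ^ m) * x) < 1 := by
    rw [map_mul, map_pow, map_pow]
    calc V.valuation (algebraMap A L π) ^ m * V.valuation x
        ≤ V.valuation (algebraMap A L π) ^ m * 1 := by
          gcongr
          exact (V.valuation_le_one_iff _).mpr (gen_mem_of_dominates hint V hV)
      _ < 1 := by
          rw [mul_one]
          exact pow_lt_one₀ zero_le hπm hm.ne'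
  exact Valuation.map_one_sub_of_lt _ h1

theorem valuation_gen_pow {π : A} (hπ : Irreducible π) (pb : PowerBasis K L)
    (hint : IsIntegral A pb.gen) (m : ℕ) (hm : 0 < m)
    (hrel : pb.gen ^ pb.dim =
      algebraMap A L π * (1 - algebraMap A L (π ^ m) * pb.gen))
    (V : ValuationSubring L) (hV : EtRam.Dominates A (algebraMap A L) V) :
    V.valuation pb.gen ^ pb.dim = V.valuation (algebraMap A L π) := by
  rw [← map_pow, hrel, map_mul, valuation_one_sub hπ hint m hm V hV, mul_one]

/-- total ramification of an extension generated by a root of an "Eisenstein-like" relation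
`x ^ q = π (1 - π ^ m x)`. -/
theorem isTotallyRamified_of_relation {π : A} (hπ : Irreducible π) (pb : PowerBasis K L)
    (hint : IsIntegral A pb.gen) (m : ℕ) (hm : 0 < m)
    (hrel : pb.gen ^ pb.dim =
      algebraMap A L π * (1 - algebraMap A L (π ^ m) * pb.gen)) :
    EtRam.IsTotallyRamified A (algebraMap A L) := by
  classical
  have hgenV : ∀ (V : ValuationSubring L), EtRam.Dominates A (algebraMap A L) V → pb.gen ∈ V := by
    intro V hV
    letI iAV : Algebra A V := (RingHom.codRestrict (algebraMap A L) V hV.1).toAlgebra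
    haveI : IsScalarTower A V L := IsScalarTower.of_algebraMap_eq' rfl
    have h2 : IsIntegral V pb.gen := hint.tower_top
    obtain ⟨y, hy⟩ := IsIntegrallyClosed.isIntegral_iff.mp h2
    rw [← hy]
    exact y.2
  have hπm : ∀ (V : ValuationSubring L), EtRam.Dominates A (algebraMap A L) V →
      V.valuation (algebraMap A L π) < 1 := fun V hV =>
    hV.2 π ((IsLocalRing.mem_maximalIdeal π).mpr hπ.not_isUnit)
  have hval : ∀ (V : ValuationSubring L), EtRam.Dominates A (algebraMap A L) V →
      V.valuation pb.gen ^ pb.dim = V.valuation (algebraMap A L π) := by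
    intro V hV
    rw [← map_pow, hrel, map_mul]
    have h1 : V.valuation (algebraMap A L (π ^ m) * pb.gen) < 1 := by
      rw [map_mul, map_pow, map_pow]
      calc V.valuation (algebraMap A L π) ^ m * V.valuation pb.gen
          ≤ V.valuation (algebraMap A L π) ^ m * 1 := by
            gcongr
            exact (V.valuation_le_one_iff _).mpr (hgenV V hV)
        _ < 1 := by
            rw [mul_one]
            exact pow_lt_one₀ zero_le (hπm V hV) hm.ne'
    rw [Valuation.map_one_sub_of_lt _ h1, mul_one]
  refine ⟨?_, ?_, ?_⟩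
  · obtain ⟨V, h1, h2⟩ := IsLocalRing.exists_factor_valuationRing (algebraMap A L)
    exact ⟨V, (Groth.Agent.Lib.Helper14EtRam.dominates_iff _ V).mpr ⟨h1, h2⟩⟩
  · intro V V' hV hV'
    ext y
    change y ∈ V ↔ y ∈ V'
    rw [mem_iff_coeff_mem hπ pb V hV (hval V hV), mem_iff_coeff_mem hπ pb V' hV' (hval V' hV')]
  · intro V hV x
    obtain ⟨x, rfl⟩ := IsLocalRing.residue_surjective x
    have hcoef := (mem_iff_coeff_mem hπ pb V hV (hval V hV) (x : L)).mp x.2
    choose a ha using hcoef
    have hvπ1 := hπm V hV
    have hq : 0 < pb.dim := by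
      rcases Nat.eq_zero_or_pos pb.dim with h0 | h0
      · have := hval V hV
        rw [h0, pow_zero] at this
        exact absurd this.symm (ne_of_lt hvπ1)
      · exact h0
    have ht1 : V.valuation pb.gen < 1 := by
      by_contra hge
      rw [not_lt] at hge
      have : (1 : ValuationSubring.ValueGroup V) ≤ V.valuation pb.gen ^ pb.dim := one_le_pow₀ hge
      rw [hval V hV] at this
      exact absurd hvπ1 (not_lt.mpr this)
    refine ⟨a ⟨0, hq⟩, ?_⟩
    change IsLocalRing.residue V (RingHom.codRestrict (algebraMap A L) V hV.1 (a ⟨0, hq⟩)) =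
      IsLocalRing.residue V x
    rw [← sub_eq_zero, ← map_sub, IsLocalRing.residue_eq_zero_iff,
      ValuationSubring.valuation_lt_one_iff]
    change V.valuation (algebraMap A L (a ⟨0, hq⟩) - (x : L)) < 1
    have hy : (x : L) = ∑ i, algebraMap K L (pb.basis.repr (x : L) i) * pb.gen ^ (i : ℕ) := by
      conv_lhs => rw [← pb.basis.sum_repr (x : L)]
      refine Finset.sum_congr rfl fun i _ => ?_
      rw [pb.basis_eq_pow, Algebra.smul_def]
    rw [hy, ← Finset.add_sum_erase _ _ (Finset.mem_univ (⟨0, hq⟩ : Fin pb.dim)), ← ha,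
      ← IsScalarTower.algebraMap_apply, pow_zero, mul_one, sub_add_cancel_left, Valuation.map_neg]
    apply Valuation.map_sum_lt _ one_ne_zero
    intro i hi
    have hi0 : (i : ℕ) ≠ 0 := by
      intro h0
      apply (Finset.mem_erase.mp hi).1
      exact Fin.ext h0
    rw [map_mul, map_pow, ← ha i, ← IsScalarTower.algebraMap_apply]
    calc V.valuation (algebraMap A L (a i)) * V.valuation pb.gen ^ (i : ℕ)
        ≤ 1 * V.valuation pb.gen ^ (i : ℕ) := by
          gcongr
          exact valuation_algebraMap_le_one V hV _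
      _ < 1 := by
          rw [one_mul]
          exact pow_lt_one₀ zero_le ht1 hi0

theorem isIntegral_of_mem {π : A} (hπ : Irreducible π) (pb : PowerBasis K L)
    (hint : IsIntegral A pb.gen)
    (V : ValuationSubring L) (hV : EtRam.Dominates A (algebraMap A L) V)
    (hval : V.valuation pb.gen ^ pb.dim = V.valuation (algebraMap A L π)) {y : L} (hy : y ∈ V) :
    IsIntegral A y := by
  have hcoef := (mem_iff_coeff_mem hπ pb V hV hval y).mp hy
  have hy' : y = ∑ i, algebraMap K L (pb.basis.repr y i) * pb.gen ^ (i : ℕ) := by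
    conv_lhs => rw [← pb.basis.sum_repr y]
    refine Finset.sum_congr rfl fun i _ => ?_
    rw [pb.basis_eq_pow, Algebra.smul_def]
  rw [hy']
  refine IsIntegral.sum _ fun i _ => ?_
  obtain ⟨a, ha⟩ := hcoef i
  rw [← ha, ← IsScalarTower.algebraMap_apply]
  exact (isIntegral_algebraMap).mul (hint.pow _)

end E1

section Main

variable (A K : Type u) [CommRing A] [IsDomain A] [IsDiscreteValuationRing A] [Field K]
  [Algebra A K] [IsFractionRing A K]

/-- the Eisenstein polynomial `X ^ q + π ^ n X - π`. -/
noncomputable def eisPoly (π : A) (n q : ℕ) : A[X] := X ^ q + (C (π ^ n) * X - C π)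

theorem eisPoly_monic (π : A) (n q : ℕ) (hq : 2 ≤ q) : (eisPoly A π n q).Monic := by
  unfold eisPoly
  apply monic_X_pow_add
  refine lt_of_le_of_lt (degree_sub_le _ _) ?_
  refine max_lt ?_ ?_
  · refine lt_of_le_of_lt (degree_C_mul_X_le _) ?_
    exact_mod_cast (by omega : 1 < q)
  · refine lt_of_le_of_lt degree_C_le ?_
    exact_mod_cast (by omega : 0 < q)

theorem eisPoly_natDegree (π : A) (n q : ℕ) (hq : 2 ≤ q) : (eisPoly A π n q).natDegree = q := by
  unfold eisPoly
  have h : degree (C (π ^ n) * X - C π) < degree ((X : A[X]) ^ q) := by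
    rw [degree_X_pow]
    refine lt_of_le_of_lt (degree_sub_le _ _) ?_
    refine max_lt ?_ ?_
    · refine lt_of_le_of_lt (degree_C_mul_X_le _) ?_
      exact_mod_cast (by omega : 1 < q)
    · refine lt_of_le_of_lt degree_C_le ?_
      exact_mod_cast (by omega : 0 < q)
  rw [natDegree_add_eq_left_of_degree_lt h, natDegree_X_pow]

theorem eisPoly_irreducible (π : A) (hπ : Irreducible π) (n q : ℕ) (hn : 1 ≤ n) (hq : 2 ≤ q) :
    Irreducible (eisPoly A π n q) := by
  have hmax : maximalIdeal A = Ideal.span {π} :=
    (IsDiscreteValuationRing.irreducible_iff_uniformizer π).mp hπ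
  have hmonic := eisPoly_monic A π n q hq
  have hdeg := eisPoly_natDegree A π n q hq
  have hcoeff : ∀ i, i < q → (eisPoly A π n q).coeff i =
      (if i = 1 then π ^ n else 0) - (if i = 0 then π else 0) := by
    intro i hi
    unfold eisPoly
    rw [coeff_add, coeff_sub, coeff_X_pow, if_neg (by omega), zero_add, coeff_C_mul, coeff_X,
      coeff_C]
    congr 1
    by_cases h1 : i = 1
    · rw [if_pos h1, if_pos h1.symm, mul_one]
    · rw [if_neg h1, if_neg (Ne.symm h1), mul_zero]
  refine Polynomial.IsEisensteinAt.irreducible (𝓟 := maximalIdeal A) ?_ inferInstance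
    hmonic.isPrimitive (by rw [hdeg]; omega)
  refine ⟨?_, ?_, ?_⟩
  · rw [hmonic.leadingCoeff]
    exact fun h => (Ideal.ne_top_iff_one _).mp (maximalIdeal.isMaximal A).ne_top h
  · intro i hi
    rw [hdeg] at hi
    rw [hcoeff i hi, hmax]
    refine Ideal.sub_mem _ ?_ ?_
    · split_ifs
      · exact Ideal.pow_mem_of_mem _ (Ideal.mem_span_singleton_self π) n (by omega)
      · exact Ideal.zero_mem _
    · split_ifs
      · exact Ideal.mem_span_singleton_self π
      · exact Ideal.zero_mem _
  · rw [hcoeff 0 (by omega), if_neg (by omega), if_pos rfl, zero_sub, hmax, Ideal.span_singleton_pow,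
      Ideal.neg_mem_iff, Ideal.mem_span_singleton]
    rintro ⟨c, hc⟩
    have h1 : π * 1 = π * (π * c) := by rw [mul_one, ← mul_assoc, ← sq]; exact hc
    have h2 := mul_left_cancel₀ hπ.ne_zero h1
    exact hπ.not_isUnit (IsUnit.of_mul_eq_one _ h2.symm)

theorem exists_totallyRamified_ext (p : ℕ) (hp : p.Prime)
    [CharP (IsLocalRing.ResidueField A) p] (π : A)
    (hπ : IsLocalRing.maximalIdeal A = Ideal.span {π})
    (n : ℕ) (hn : 1 < n) (k : ℕ) :
    ∃ (L : Type u) (_ : Field L) (_ : Algebra K L) (_ : Algebra A L) (_ : IsScalarTower A K L),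
      Module.finrank K L = p ^ k ∧ Algebra.IsSeparable K L ∧
      EtRam.IsTotallyRamified A (algebraMap A L) ∧
      ∃ πB b b' : L, πB ∈ integralClosure A L ∧ b ∈ integralClosure A L ∧
        b' ∈ integralClosure A L ∧
        πB ^ (p ^ k) = algebraMap A L π + algebraMap A L π ^ n * b ∧
        πB ^ (p ^ k) = algebraMap A L π + πB ^ (n * p ^ k) * b' := by
  classical
  have hirr : Irreducible π := (IsDiscreteValuationRing.irreducible_iff_uniformizer π).mpr hπ
  rcases Nat.eq_zero_or_pos k with hk0 | hkpos
  · -- trivial extension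
    subst hk0
    refine ⟨K, inferInstance, inferInstance, inferInstance, inferInstance, ?_, inferInstance, ?_, ?_⟩
    · rw [pow_zero]
      exact Module.finrank_self K
    · have hmem : ∀ (V : ValuationSubring K), EtRam.Dominates A (algebraMap A K) V → ∀ y : K,
          y ∈ V ↔ y ∈ Set.range (algebraMap A K) := by
        intro V hV y
        constructor
        · intro hy
          by_cases hy0 : y = 0
          · exact ⟨0, by rw [map_zero, hy0]⟩
          obtain ⟨l, hl1, hl2⟩ := exists_zpow_valuation (L := K) V hV hirr hy0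
          apply hl2
          by_contra hneg
          rw [not_le] at hneg
          have hvπ1 : V.valuation (algebraMap A K π) < 1 :=
            hV.2 π ((IsLocalRing.mem_maximalIdeal π).mpr hirr.not_isUnit)
          have hvπ0 : V.valuation (algebraMap A K π) ≠ 0 := by
            rw [Valuation.ne_zero_iff]
            intro h0
            exact hirr.ne_zero (IsFractionRing.injective A K (by rw [h0, map_zero]))
          have h1 : 1 < V.valuation (algebraMap A K π) ^ l :=
            one_lt_zpow_of_neg₀ (lt_of_le_of_ne zero_le hvπ0.symm) hvπ1 hneg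
          have h2 : V.valuation y ≤ 1 := (V.valuation_le_one_iff _).mpr hy
          rw [Algebra.algebraMap_self, RingHom.id_apply] at hl1
          rw [hl1] at h2
          exact absurd h2 (not_le.mpr h1)
        · rintro ⟨a, rfl⟩
          exact hV.1 a
      refine ⟨?_, ?_, ?_⟩
      · obtain ⟨V, h1, h2⟩ := IsLocalRing.exists_factor_valuationRing (algebraMap A K)
        exact ⟨V, (Groth.Agent.Lib.Helper14EtRam.dominates_iff _ V).mpr ⟨h1, h2⟩⟩
      · intro V V' hV hV'
        ext y
        rw [hmem V hV, hmem V' hV']
      · intro V hV x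
        obtain ⟨x, rfl⟩ := IsLocalRing.residue_surjective x
        obtain ⟨a, ha⟩ := (hmem V hV (x : K)).mp x.2
        refine ⟨a, ?_⟩
        change IsLocalRing.residue V (RingHom.codRestrict (algebraMap A K) V hV.1 a) = _
        congr 1
        exact Subtype.ext ha
    · refine ⟨algebraMap A K π, 0, 0, isIntegral_algebraMap, isIntegral_zero, isIntegral_zero, ?_, ?_⟩
      · rw [pow_zero, pow_one, mul_zero, add_zero]
      · rw [pow_zero, pow_one, mul_zero, add_zero]
  · have hq2 : 2 ≤ p ^ k := by
      calc 2 ≤ p := hp.two_le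
        _ = p ^ 1 := (pow_one p).symm
        _ ≤ p ^ k := Nat.pow_le_pow_right hp.pos hkpos
    have hfA_monic := eisPoly_monic A π n (p ^ k) hq2
    have hfA_irr := eisPoly_irreducible A π hirr n (p ^ k) (by omega) hq2
    have hf_monic : ((eisPoly A π n (p ^ k)).map (algebraMap A K)).Monic := hfA_monic.map _
    have hf_irr : Irreducible ((eisPoly A π n (p ^ k)).map (algebraMap A K)) :=
      (Polynomial.Monic.irreducible_iff_irreducible_map_fraction_map hfA_monic).mp hfA_irr
    haveI : Fact (Irreducible ((eisPoly A π n (p ^ k)).map (algebraMap A K))) := ⟨hf_irr⟩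
    have hf0 : (eisPoly A π n (p ^ k)).map (algebraMap A K) ≠ 0 := hf_monic.ne_zero
    have hfdeg : ((eisPoly A π n (p ^ k)).map (algebraMap A K)).natDegree = p ^ k := by
      rw [hfA_monic.natDegree_map, eisPoly_natDegree A π n (p ^ k) hq2]
    refine ⟨AdjoinRoot ((eisPoly A π n (p ^ k)).map (algebraMap A K)), inferInstance,
      inferInstance, inferInstance, inferInstance, ?_⟩
    let pb : PowerBasis K (AdjoinRoot ((eisPoly A π n (p ^ k)).map (algebraMap A K))) :=
      AdjoinRoot.powerBasis hf0
    have hpbgen : pb.gen = AdjoinRoot.root ((eisPoly A π n (p ^ k)).map (algebraMap A K)) := rfl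
    have hpbdim : pb.dim = p ^ k := hfdeg
    have hroot : (AdjoinRoot.root ((eisPoly A π n (p ^ k)).map (algebraMap A K))) ^ (p ^ k) +
        (algebraMap A _ (π ^ n) * AdjoinRoot.root ((eisPoly A π n (p ^ k)).map (algebraMap A K)) -
          algebraMap A _ π) = 0 := by
      have h := AdjoinRoot.eval₂_root ((eisPoly A π n (p ^ k)).map (algebraMap A K))
      rw [Polynomial.eval₂_map] at h
      unfold eisPoly at h
      rw [eval₂_add, eval₂_sub, eval₂_mul, eval₂_pow, eval₂_X, eval₂_C, eval₂_C] at h
      exact h
    have hint : IsIntegral A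
        (AdjoinRoot.root ((eisPoly A π n (p ^ k)).map (algebraMap A K))) := by
      refine ⟨eisPoly A π n (p ^ k), hfA_monic, ?_⟩
      have h := AdjoinRoot.eval₂_root ((eisPoly A π n (p ^ k)).map (algebraMap A K))
      rw [Polynomial.eval₂_map] at h
      exact h
    have hpow : algebraMap A (AdjoinRoot ((eisPoly A π n (p ^ k)).map (algebraMap A K))) (π ^ n) =
        algebraMap A _ π * algebraMap A _ (π ^ (n - 1)) := by
      rw [← map_mul, ← pow_succ']
      congr 2
      omega
    have hrel : pb.gen ^ pb.dim = algebraMap A _ π * (1 - algebraMap A _ (π ^ (n - 1)) * pb.gen) := by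
      rw [hpbgen, hpbdim]
      rw [hpow] at hroot
      linear_combination hroot
    have htot := isTotallyRamified_of_relation hirr pb (hpbgen ▸ hint) (n - 1) (by omega) hrel
    refine ⟨pb.finrank.trans hpbdim, ?_, htot, ?_⟩
    · -- separability
      have hsepf : ((eisPoly A π n (p ^ k)).map (algebraMap A K)).Separable := by
        obtain ⟨c, hc⟩ := CharP.exists K
        rcases CharP.char_is_prime_or_zero K c with hcp | hc0
        · -- characteristic `c = p`
          have hcp' : c = p := by
            have h1 : ((c : ℕ) : K) = 0 := CharP.cast_eq_zero K c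
            have h2 : ((c : ℕ) : A) = 0 := by
              apply IsFractionRing.injective A K
              rw [map_natCast, map_zero, h1]
            have h3 : ((c : ℕ) : IsLocalRing.ResidueField A) = 0 := by
              rw [← map_natCast (IsLocalRing.residue A), h2, map_zero]
            have h4 : p ∣ c := (CharP.cast_eq_zero_iff (IsLocalRing.ResidueField A) p c).mp h3
            exact ((Nat.prime_dvd_prime_iff_eq hp hcp).mp h4).symm
          subst hcp'
          have hq0 : ((c ^ k : ℕ) : K) = 0 := by
            rw [Nat.cast_pow, CharP.cast_eq_zero K c, zero_pow (by omega)]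
          have hder : derivative ((eisPoly A π n (c ^ k)).map (algebraMap A K)) =
              C (algebraMap A K (π ^ n)) := by
            rw [derivative_map]
            unfold eisPoly
            rw [derivative_add, derivative_sub, derivative_X_pow, derivative_C_mul, derivative_X,
              derivative_C, mul_one, sub_zero, Polynomial.map_add, Polynomial.map_mul, map_C,
              map_C, map_natCast, hq0, map_zero, zero_mul, zero_add]
          rw [separable_def, hder]
          have ha0 : algebraMap A K (π ^ n) ≠ 0 := by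
            intro h0
            exact (pow_ne_zero n hirr.ne_zero)
              (IsFractionRing.injective A K (by rw [h0, map_zero]))
          exact ⟨0, C (algebraMap A K (π ^ n))⁻¹, by
            rw [zero_mul, zero_add, ← C_mul, inv_mul_cancel₀ ha0, C_1]⟩
        · subst hc0
          haveI : CharZero K := CharP.charP_to_charZero K
          exact hf_irr.separable
      have hx : IsSeparable K
          (AdjoinRoot.root ((eisPoly A π n (p ^ k)).map (algebraMap A K))) := by
        unfold IsSeparable
        rw [AdjoinRoot.minpoly_root hf0, hf_monic.leadingCoeff, inv_one, map_one, mul_one]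
        exact hsepf
      have h1 : Algebra.IsSeparable K (IntermediateField.adjoin K
          {AdjoinRoot.root ((eisPoly A π n (p ^ k)).map (algebraMap A K))}) :=
        (IntermediateField.isSeparable_adjoin_simple_iff_isSeparable K _).mpr hx
      have h2 : IntermediateField.adjoin K
          {AdjoinRoot.root ((eisPoly A π n (p ^ k)).map (algebraMap A K))} = ⊤ :=
        IntermediateField.adjoin_eq_top_of_algebra K _ pb.adjoin_gen_eq_top
      exact AlgEquiv.Algebra.isSeparable
        ((IntermediateField.equivOfEq h2).trans IntermediateField.topEquiv)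
    · obtain ⟨V, hV⟩ := htot.1
      have hval := valuation_gen_pow hirr pb (hpbgen ▸ hint) (n - 1) (by omega) hrel V hV
      have hvw : V.valuation (1 - algebraMap A _ (π ^ (n - 1)) *
          AdjoinRoot.root ((eisPoly A π n (p ^ k)).map (algebraMap A K))) = 1 :=
        valuation_one_sub hirr hint (n - 1) (by omega) V hV
      generalize hw : (1 - algebraMap A _ (π ^ (n - 1)) *
          AdjoinRoot.root ((eisPoly A π n (p ^ k)).map (algebraMap A K))) = w at hvw
      rw [hpbgen, hpbdim, hw] at hrel
      have hw0 : w ≠ 0 := by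
        intro h
        rw [h, map_zero] at hvw
        exact zero_ne_one hvw
      have hwinvV : w⁻¹ ∈ V := by
        rw [← V.valuation_le_one_iff, map_inv₀, hvw, inv_one]
      have hwinv_int : IsIntegral A w⁻¹ :=
        isIntegral_of_mem hirr pb (hpbgen ▸ hint) V hV hval hwinvV
      refine ⟨AdjoinRoot.root ((eisPoly A π n (p ^ k)).map (algebraMap A K)),
        -AdjoinRoot.root ((eisPoly A π n (p ^ k)).map (algebraMap A K)),
        -AdjoinRoot.root ((eisPoly A π n (p ^ k)).map (algebraMap A K)) * (w⁻¹) ^ n,
        hint, hint.neg, (hint.neg).mul (hwinv_int.pow n), ?_, ?_⟩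
      · rw [map_pow] at hroot
        linear_combination hroot
      · have e1 : (algebraMap A _ π * w) ^ n *
            (-AdjoinRoot.root ((eisPoly A π n (p ^ k)).map (algebraMap A K)) * (w⁻¹) ^ n) =
            -(algebraMap A _ π) ^ n *
              AdjoinRoot.root ((eisPoly A π n (p ^ k)).map (algebraMap A K)) := by
          rw [mul_pow, inv_pow]
          have h3 : w ^ n * (w ^ n)⁻¹ = 1 := mul_inv_cancel₀ (pow_ne_zero n hw0)
          linear_combination (-(algebraMap A _ π) ^ n *
            AdjoinRoot.root ((eisPoly A π n (p ^ k)).map (algebraMap A K))) * h3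
        rw [pow_mul', hrel, e1]
        rw [map_pow] at hroot
        linear_combination hroot - hrel

end Main

end Groth.Agent.Lib.Helper14Eisenstein
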