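import Mathlib
import Groth.Agent.Lib.Helper14EtRam

set_option autoImplicit false
set_option linter.style.haveILetI false
set_option linter.unusedSectionVars false
universe u

namespace Groth.Agent.Lib.Helper14EtSol

open IsLocalRing

/-- in a valuation ring, an element of the extension of an ideal along a ring hom is a multiple
of the image of a single element. -/
theorem exists_mul_of_mem_map {V W : Type*} [CommRing V] [CommRing W] [IsDomain W]
    [ValuationRing W] (φ : V →+* W) (I : Ideal V) {x : W} (hx : x ∈ I.map φ) :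
    ∃ v ∈ I, ∃ w : W, x = φ v * w := by
  unfold Ideal.map at hx
  induction hx using Submodule.span_induction with
  | mem x hx =>
    obtain ⟨v, hv, rfl⟩ := hx
    exact ⟨v, hv, 1, (mul_one _).symm⟩
  | zero => exact ⟨0, I.zero_mem, 0, by simp⟩
  | add x y _ _ hx hy =>
    obtain ⟨v₁, hv₁, w₁, rfl⟩ := hx
    obtain ⟨v₂, hv₂, w₂, rfl⟩ := hy
    rcases ValuationRing.dvd_total (φ v₁) (φ v₂) with ⟨c, hc⟩ | ⟨c, hc⟩
    · exact ⟨v₁, hv₁, w₁ + c * w₂, by rw [hc]; ring⟩
    · exact ⟨v₂, hv₂, c * w₁ + w₂, by rw [hc]; ring⟩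
  | smul a x _ hx =>
    obtain ⟨v, hv, w, rfl⟩ := hx
    exact ⟨v, hv, a * w, by rw [smul_eq_mul]; ring⟩

section Key

variable {K₁ M M' : Type u} [Field K₁] [Field M] [Field M']

theorem weaklyUnramified_of_comap (f : K₁ →+* M) (j : M →+* M') (W' : ValuationSubring M')
    (h : letI : Algebra (W'.comap (j.comp f)) W' := (EtRam.inclOfComap W' (j.comp f)).toAlgebra
     EtRam.IsWeaklyUnramified (W'.comap (j.comp f)) W') :
    letI : Algebra ((W'.comap j).comap f) (W'.comap j) :=
      (EtRam.inclOfComap (W'.comap j) f).toAlgebra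
    EtRam.IsWeaklyUnramified ((W'.comap j).comap f) (W'.comap j) := by
  letI a1 : Algebra (W'.comap (j.comp f)) W' := (EtRam.inclOfComap W' (j.comp f)).toAlgebra
  letI a2 : Algebra ((W'.comap j).comap f) (W'.comap j) :=
    (EtRam.inclOfComap (W'.comap j) f).toAlgebra
  change Ideal.map (EtRam.inclOfComap (W'.comap j) f) (maximalIdeal _) = maximalIdeal _
  change Ideal.map (EtRam.inclOfComap W' (j.comp f)) (maximalIdeal _) = maximalIdeal _ at h
  apply le_antisymm
  · exact ((IsLocalRing.local_hom_TFAE (EtRam.inclOfComap (W'.comap j) f)).out 0 2).mp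
      (EtRam.isLocalHom_inclOfComap (W'.comap j) f)
  · intro x hx
    have hx' : EtRam.inclOfComap W' j x ∈ maximalIdeal W' :=
      map_nonunit (EtRam.inclOfComap W' j) x hx
    rw [← h] at hx'
    obtain ⟨v, hv, w', hw'⟩ := exists_mul_of_mem_map _ _ hx'
    have hw'M : j (x : M) = j (f (v : K₁)) * (w' : M') := congrArg Subtype.val hw'
    by_cases hv0 : (v : K₁) = 0
    · have : (x : M) = 0 := by
        rw [hv0, map_zero, map_zero, zero_mul] at hw'M
        exact (map_eq_zero j).mp hw'M
      have : x = 0 := Subtype.ext this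
      rw [this]
      exact Ideal.zero_mem _
    · have hfv : f (v : K₁) ≠ 0 := (map_ne_zero f).mpr hv0
      have hjfv : j (f (v : K₁)) ≠ 0 := (map_ne_zero j).mpr hfv
      have hy : (x : M) / f (v : K₁) ∈ W'.comap j := by
        change j _ ∈ W'
        rw [map_div₀, hw'M, mul_div_cancel_left₀ _ hjfv]
        exact w'.2
      have hxeq : x = EtRam.inclOfComap (W'.comap j) f v * ⟨_, hy⟩ := by
        apply Subtype.ext
        change (x : M) = f (v : K₁) * ((x : M) / f (v : K₁))
        rw [mul_div_cancel₀ _ hfv]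
      rw [hxeq]
      exact Ideal.mul_mem_right _ _ (Ideal.mem_map_of_mem _ hv)

theorem geometricallyReduced_of_comap (f : K₁ →+* M) (j : M →+* M') (W' : ValuationSubring M')
    (h : @Algebra.IsGeometricallyReduced (ResidueField (W'.comap (j.comp f))) (ResidueField W') _ _
      (ResidueField.map (EtRam.inclOfComap W' (j.comp f))).toAlgebra) :
    @Algebra.IsGeometricallyReduced (ResidueField ((W'.comap j).comap f))
      (ResidueField (W'.comap j)) _ _
      (ResidueField.map (EtRam.inclOfComap (W'.comap j) f)).toAlgebra := by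
  letI a1 : Algebra (ResidueField ((W'.comap j).comap f)) (ResidueField W') :=
    (ResidueField.map (EtRam.inclOfComap W' (j.comp f))).toAlgebra
  letI a2 : Algebra (ResidueField ((W'.comap j).comap f)) (ResidueField (W'.comap j)) :=
    (ResidueField.map (EtRam.inclOfComap (W'.comap j) f)).toAlgebra
  haveI : Algebra.IsGeometricallyReduced (ResidueField ((W'.comap j).comap f))
    (ResidueField W') := h
  let g : ResidueField (W'.comap j) →ₐ[ResidueField ((W'.comap j).comap f)] ResidueField W' :=
    { toRingHom := ResidueField.map (EtRam.inclOfComap W' j)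
      commutes' := fun r => by
        change (ResidueField.map (EtRam.inclOfComap W' j))
          ((ResidueField.map (EtRam.inclOfComap (W'.comap j) f)) r) =
          (ResidueField.map (EtRam.inclOfComap W' (j.comp f))) r
        rw [← RingHom.comp_apply, ← ResidueField.map_comp]
        rfl }
  exact Algebra.IsGeometricallyReduced.of_injective g g.toRingHom.injective

end Key

section CE

open TensorProduct

/-- Second half of the construction of a common extension: from a ring `T` receiving `W` and `C`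
with a prime over both closed points. -/
theorem exists_common_extension_aux {M₀ M : Type u} [Field M₀] [Field M]
    (C : Type u) [CommRing C] [IsDomain C] [IsLocalRing C] [Algebra C M₀] [IsFractionRing C M₀]
    (W : ValuationSubring M) (T : Type u) [CommRing T] (α : W →+* T) (β : C →+* T)
    (hαnzd : ∀ w : W, w ≠ 0 → α w ∈ nonZeroDivisors T)
    (hβnzd : ∀ c : C, c ≠ 0 → β c ∈ nonZeroDivisors T)
    (𝔓 : Ideal T) [𝔓.IsPrime]
    (hαP : ∀ w : W, α w ∈ 𝔓 ↔ w ∈ maximalIdeal W)
    (hβP : ∀ c : C, β c ∈ 𝔓 ↔ c ∈ maximalIdeal C)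
    (hgen : ∀ (P : T → Prop), (∀ w, P (α w)) → (∀ c, P (β c)) → (∀ x y, P x → P y → P (x + y)) →
        (∀ x y, P x → P y → P (x * y)) → ∀ t, P t) :
    ∃ (M' : Type u) (_ : Field M') (j : M →+* M') (i : M₀ →+* M') (W' : ValuationSubring M')
      (ρ : T →+* M'),
      (∀ w : W, j (w : M) = ρ (α w)) ∧ (∀ c : C, i (algebraMap C M₀ c) = ρ (β c)) ∧
      W'.comap j = W ∧
      EtRam.Dominates C (i.comp (algebraMap C M₀)) W' ∧
      ∀ (P : M' → Prop), (∀ m, P (j m)) → (∀ m₀, P (i m₀)) → (∀ x y, P x → P y → P (x + y)) →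
        (∀ x y, P x → P y → P (x * y)) → (∀ x, P x → P x⁻¹) → ∀ x, P x := by
  classical
  -- a minimal prime below it
  obtain ⟨𝔮, h𝔮min, h𝔮le⟩ := Ideal.exists_minimalPrimes_le (bot_le : (⊥ : Ideal T) ≤ 𝔓)
  haveI h𝔮prime : 𝔮.IsPrime := h𝔮min.1.1
  have h𝔮disj : ∀ x : T, x ∈ 𝔮 → x ∉ nonZeroDivisors T := fun x hx =>
    notMem_nonZeroDivisors_of_mem_mem_minimalPrimes hx h𝔮min
  let ρ : T →+* FractionRing (T ⧸ 𝔮) :=
    (algebraMap (T ⧸ 𝔮) (FractionRing (T ⧸ 𝔮))).comp (Ideal.Quotient.mk 𝔮)
  have hρ0 : ∀ t : T, ρ t = 0 ↔ t ∈ 𝔮 := by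
    intro t
    change algebraMap (T ⧸ 𝔮) (FractionRing (T ⧸ 𝔮)) (Ideal.Quotient.mk 𝔮 t) = 0 ↔ _
    rw [map_eq_zero_iff _ (IsFractionRing.injective (T ⧸ 𝔮) (FractionRing (T ⧸ 𝔮))),
      Ideal.Quotient.eq_zero_iff_mem]
  have hj₀inj : Function.Injective (ρ.comp α) := by
    rw [injective_iff_map_eq_zero]
    intro w hw
    by_contra hw0
    exact h𝔮disj _ ((hρ0 _).mp hw) (hαnzd w hw0)
  have hi₀inj : Function.Injective (ρ.comp β) := by
    rw [injective_iff_map_eq_zero]
    intro c hc
    by_contra hc0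
    exact h𝔮disj _ ((hρ0 _).mp hc) (hβnzd c hc0)
  let j : M →+* FractionRing (T ⧸ 𝔮) := IsFractionRing.lift (A := W) (K := M) hj₀inj
  let i : M₀ →+* FractionRing (T ⧸ 𝔮) := IsFractionRing.lift (A := C) (K := M₀) hi₀inj
  have hj : ∀ w : W, j (w : M) = ρ (α w) := fun w =>
    IsFractionRing.lift_algebraMap hj₀inj w
  have hi : ∀ c : C, i (algebraMap C M₀ c) = ρ (β c) := fun c =>
    IsFractionRing.lift_algebraMap hi₀inj c
  -- the valuation ring
  have hunit : ∀ s : 𝔓.primeCompl, IsUnit (ρ s) := fun s => by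
    refine IsUnit.mk0 _ ?_
    intro hs
    exact s.2 (h𝔮le ((hρ0 _).mp hs))
  let f : Localization.AtPrime 𝔓 →+* FractionRing (T ⧸ 𝔮) := IsLocalization.lift hunit
  have hf : ∀ t : T, f (algebraMap T (Localization.AtPrime 𝔓) t) = ρ t := fun t =>
    IsLocalization.lift_eq _ _
  obtain ⟨W', hW'1, hW'2⟩ := IsLocalRing.exists_factor_valuationRing f
  have hρW' : ∀ t : T, ρ t ∈ W' := fun t => by
    have := hW'1 (algebraMap T (Localization.AtPrime 𝔓) t)
    rwa [hf] at this
  have hρmax : ∀ t : T, t ∈ 𝔓 ↔ (⟨ρ t, hρW' t⟩ : W') ∈ maximalIdeal W' := by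
    intro t
    rw [← IsLocalization.AtPrime.to_map_mem_maximal_iff (Localization.AtPrime 𝔓) 𝔓 t]
    have h1 : (⟨ρ t, hρW' t⟩ : W') =
        (f.codRestrict W'.toSubring hW'1) (algebraMap T (Localization.AtPrime 𝔓) t) :=
      Subtype.ext (hf t).symm
    rw [h1]
    exact (map_mem_nonunits_iff (f.codRestrict W'.toSubring hW'1) _).symm
  refine ⟨FractionRing (T ⧸ 𝔮), inferInstance, j, i, W', ρ, hj, hi, ?_, ?_, ?_⟩
  · ext x
    rw [ValuationSubring.mem_comap]
    constructor
    · intro hx
      by_contra hxW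
      have hx0 : x ≠ 0 := fun h0 => hxW (h0 ▸ zero_mem W)
      have hinvW : x⁻¹ ∈ W := (W.mem_or_inv_mem x).resolve_left hxW
      have hinvmax : (⟨x⁻¹, hinvW⟩ : W) ∈ maximalIdeal W := by
        rw [ValuationSubring.valuation_lt_one_iff]
        change W.valuation x⁻¹ < 1
        rw [map_inv₀]
        have h1 : 1 < W.valuation x := by
          rw [← not_le, ValuationSubring.valuation_le_one_iff]
          exact hxW
        exact inv_lt_one_of_one_lt₀ h1
      have h3 := (hρmax _).mp ((hαP _).mpr hinvmax)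
      have h4 : ρ (α ⟨x⁻¹, hinvW⟩) = (j x)⁻¹ := by rw [← hj, map_inv₀]
      have h5 : (⟨j x, hx⟩ : W') * ⟨ρ (α ⟨x⁻¹, hinvW⟩), hρW' _⟩ = 1 := by
        apply Subtype.ext
        change j x * ρ _ = 1
        rw [h4, mul_inv_cancel₀ ((map_ne_zero j).mpr hx0)]
      have h6 : (1 : W') ∈ maximalIdeal W' := h5 ▸ Ideal.mul_mem_left _ _ h3
      exact (Ideal.ne_top_iff_one _).mp (maximalIdeal.isMaximal W').ne_top h6
    · intro hx
      have h3 := hρW' (α ⟨x, hx⟩)
      rwa [← hj] at h3
  · rw [Groth.Agent.Lib.Helper14EtRam.dominates_iff]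
    have hiW' : ∀ c : C, (i.comp (algebraMap C M₀)) c ∈ W' := fun c => by
      change i (algebraMap C M₀ c) ∈ W'
      rw [hi]
      exact hρW' _
    refine ⟨hiW', ⟨fun c hc => ?_⟩⟩
    by_contra hnc
    have h3 := (hρmax _).mp ((hβP c).mpr hnc)
    apply h3
    convert hc using 1
    exact Subtype.ext (hi c).symm
  · intro P hPj hPi hadd hmul hinv x
    have hPρ : ∀ t : T, P (ρ t) := by
      intro t
      refine hgen (fun t => P (ρ t)) (fun w => ?_) (fun c => ?_) (fun x y hx hy => ?_)
        (fun x y hx hy => ?_) t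
      · rw [← hj]; exact hPj _
      · rw [← hi]; exact hPi _
      · rw [map_add]; exact hadd _ _ hx hy
      · rw [map_mul]; exact hmul _ _ hx hy
    obtain ⟨a, b, hb, rfl⟩ := IsFractionRing.div_surjective (A := T ⧸ 𝔮) x
    obtain ⟨a, rfl⟩ := Ideal.Quotient.mk_surjective a
    obtain ⟨b, rfl⟩ := Ideal.Quotient.mk_surjective b
    rw [div_eq_mul_inv]
    exact hmul _ _ (hPρ a) (hinv _ (hPρ b))

theorem exists_common_extension (B C L M₀ M : Type u) [CommRing B] [IsDomain B]
    [IsDiscreteValuationRing B]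
    [CommRing C] [IsDomain C] [IsLocalRing C] [Algebra B C] [IsLocalHom (algebraMap B C)]
    (hinj : Function.Injective (algebraMap B C))
    [Field L] [Field M₀] [Field M] [Algebra B L] [IsFractionRing B L] [Algebra C M₀]
    [IsFractionRing C M₀]
    [Algebra L M₀] [Algebra B M₀] [IsScalarTower B C M₀] [IsScalarTower B L M₀]
    [Algebra L M] (W : ValuationSubring M)
    (hW : EtRam.Dominates B ((algebraMap L M).comp (algebraMap B L)) W) :
    ∃ (M' : Type u) (_ : Field M') (j : M →+* M') (i : M₀ →+* M') (W' : ValuationSubring M'),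
      j.comp (algebraMap L M) = i.comp (algebraMap L M₀) ∧
      W'.comap j = W ∧
      EtRam.Dominates C (i.comp (algebraMap C M₀)) W' ∧
      ∀ (P : M' → Prop), (∀ m, P (j m)) → (∀ m₀, P (i m₀)) → (∀ x y, P x → P y → P (x + y)) →
        (∀ x y, P x → P y → P (x * y)) → (∀ x, P x → P x⁻¹) → ∀ x, P x := by
  classical
  obtain ⟨h1, h2⟩ := (Groth.Agent.Lib.Helper14EtRam.dominates_iff _ W).mp hW
  letI iBW : Algebra B W :=
    (RingHom.codRestrict ((algebraMap L M).comp (algebraMap B L)) W h1).toAlgebra
  haveI hlocBW : IsLocalHom (algebraMap B W) := h2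
  have hBWinj : Function.Injective (algebraMap B W) := by
    intro x y hxy
    have h3 : (algebraMap L M) (algebraMap B L x) = (algebraMap L M) (algebraMap B L y) :=
      congrArg Subtype.val hxy
    exact IsFractionRing.injective B L ((algebraMap L M).injective h3)
  haveI : Module.IsTorsionFree B W := Module.isTorsionFree_iff_algebraMap_injective.mpr hBWinj
  haveI : Module.IsTorsionFree B C := Module.isTorsionFree_iff_algebraMap_injective.mpr hinj
  haveI : Module.Flat B W := inferInstance
  haveI : Module.Flat B C := inferInstance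
  let α : W →+* W ⊗[B] C := Algebra.TensorProduct.includeLeftRingHom
  let β : C →+* W ⊗[B] C := (Algebra.TensorProduct.includeRight : C →ₐ[B] W ⊗[B] C).toRingHom
  have hα : ∀ w : W, α w = w ⊗ₜ[B] (1 : C) := fun w => rfl
  have hβ : ∀ c : C, β c = (1 : W) ⊗ₜ[B] c := fun c => rfl
  -- nonzerodivisors
  have hαnzd : ∀ w : W, w ≠ 0 → α w ∈ nonZeroDivisors (W ⊗[B] C) := by
    intro w hw
    have hinjw : Function.Injective (LinearMap.mulLeft B w) := fun x y hxy =>
      mul_left_cancel₀ hw hxy
    have h3 := Module.Flat.rTensor_preserves_injective_linearMap (M := C) _ hinjw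
    have h4 : ∀ x : W ⊗[B] C, (LinearMap.rTensor C (LinearMap.mulLeft B w)) x = α w * x := by
      intro x
      induction x using TensorProduct.induction_on with
      | zero => simp
      | tmul x y =>
        rw [hα, LinearMap.rTensor_tmul, Algebra.TensorProduct.tmul_mul_tmul, one_mul]
        rfl
      | add x y hx hy => rw [map_add, hx, hy, mul_add]
    rw [mem_nonZeroDivisors_iff_right]
    intro x hx
    apply h3
    rw [h4, map_zero, mul_comm]
    exact hx
  have hβnzd : ∀ c : C, c ≠ 0 → β c ∈ nonZeroDivisors (W ⊗[B] C) := by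
    intro c hc
    have hinjc : Function.Injective (LinearMap.mulLeft B c) := fun x y hxy =>
      mul_left_cancel₀ hc hxy
    have h3 := Module.Flat.lTensor_preserves_injective_linearMap (M := W) _ hinjc
    have h4 : ∀ x : W ⊗[B] C, (LinearMap.lTensor W (LinearMap.mulLeft B c)) x = β c * x := by
      intro x
      induction x using TensorProduct.induction_on with
      | zero => simp
      | tmul x y =>
        rw [hβ, LinearMap.lTensor_tmul, Algebra.TensorProduct.tmul_mul_tmul, one_mul]
        rfl
      | add x y hx hy => rw [map_add, hx, hy, mul_add]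
    rw [mem_nonZeroDivisors_iff_right]
    intro x hx
    apply h3
    rw [h4, map_zero, mul_comm]
    exact hx
  -- a prime of `T` over both closed points
  haveI : Nontrivial (ResidueField W ⊗[ResidueField B] ResidueField C) :=
    Algebra.TensorProduct.nontrivial_of_algebraMap_injective_of_isDomain
      (ResidueField B) (ResidueField W) (ResidueField C)
      (algebraMap (ResidueField B) (ResidueField W)).injective
      (algebraMap (ResidueField B) (ResidueField C)).injective
  let r1 : W →ₐ[B] ResidueField W := IsScalarTower.toAlgHom B W (ResidueField W)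
  let r2 : C →ₐ[B] ResidueField C := IsScalarTower.toAlgHom B C (ResidueField C)
  letI : TensorProduct.CompatibleSMul (ResidueField B) B (ResidueField W) (ResidueField C) :=
    TensorProduct.CompatibleSMul.isScalarTower
  let θ : W ⊗[B] C →ₐ[B] ResidueField W ⊗[ResidueField B] ResidueField C :=
    (Algebra.TensorProduct.mapOfCompatibleSMul (ResidueField B) B B (ResidueField W)
      (ResidueField C)).comp (Algebra.TensorProduct.map r1 r2)
  have hθ : ∀ (w : W) (c : C), θ (w ⊗ₜ c) = (residue W w) ⊗ₜ[ResidueField B] (residue C c) :=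
    fun w c => rfl
  obtain ⟨𝔪, h𝔪⟩ := Ideal.exists_maximal (ResidueField W ⊗[ResidueField B] ResidueField C)
  let 𝔓 : Ideal (W ⊗[B] C) := 𝔪.comap θ.toRingHom
  haveI h𝔓prime : 𝔓.IsPrime := Ideal.comap_isPrime _ _
  have hαP : ∀ w : W, α w ∈ 𝔓 ↔ w ∈ maximalIdeal W := by
    intro w
    constructor
    · intro hw
      by_contra hnw
      have hu : IsUnit w := by
        by_contra hu
        exact hnw hu
      exact h𝔓prime.ne_top (Ideal.eq_top_of_isUnit_mem _ hw (hu.map α))
    · intro hw
      change θ (α w) ∈ 𝔪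
      rw [hα, hθ, (residue_eq_zero_iff w).mpr hw, TensorProduct.zero_tmul]
      exact Ideal.zero_mem _
  have hβP : ∀ c : C, β c ∈ 𝔓 ↔ c ∈ maximalIdeal C := by
    intro c
    constructor
    · intro hc
      by_contra hnc
      have hu : IsUnit c := by
        by_contra hu
        exact hnc hu
      exact h𝔓prime.ne_top (Ideal.eq_top_of_isUnit_mem _ hc (hu.map β))
    · intro hc
      change θ (β c) ∈ 𝔪
      rw [hβ, hθ, (residue_eq_zero_iff c).mpr hc, TensorProduct.tmul_zero]
      exact Ideal.zero_mem _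
  have hgen : ∀ (P : W ⊗[B] C → Prop), (∀ w, P (α w)) → (∀ c, P (β c)) →
      (∀ x y, P x → P y → P (x + y)) → (∀ x y, P x → P y → P (x * y)) → ∀ t, P t := by
    intro P hPα hPβ hadd hmul t
    induction t using TensorProduct.induction_on with
    | zero =>
      have := hPα 0
      rwa [map_zero] at this
    | tmul x y =>
      have h3 : x ⊗ₜ[B] y = α x * β y := by
        rw [hα, hβ, Algebra.TensorProduct.tmul_mul_tmul, one_mul, mul_one]
      rw [h3]
      exact hmul _ _ (hPα x) (hPβ y)
    | add x y hx hy => exact hadd _ _ hx hy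
  obtain ⟨M', hM', j, i, W', ρ, hj, hi, hcomap, hdom, hind⟩ :=
    exists_common_extension_aux (M₀ := M₀) C W (W ⊗[B] C) α β hαnzd hβnzd 𝔓 hαP hβP hgen
  refine ⟨M', hM', j, i, W', ?_, hcomap, hdom, hind⟩
  apply IsLocalization.ringHom_ext (nonZeroDivisors B) (S := L)
  ext b
  change j (algebraMap L M (algebraMap B L b)) = i (algebraMap L M₀ (algebraMap B L b))
  have e1 : algebraMap L M (algebraMap B L b) = ((algebraMap B W b : W) : M) := rfl
  rw [e1, hj, ← IsScalarTower.algebraMap_apply B L M₀, IsScalarTower.algebraMap_apply B C M₀, hi,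
    hα, hβ]
  congr 1
  rw [Algebra.algebraMap_eq_smul_one, Algebra.algebraMap_eq_smul_one, TensorProduct.smul_tmul]

end CE

section Descend

theorem forallLocalExt_descend (B C K L M₀ K₁ : Type u)
    [CommRing B] [IsDomain B] [IsDiscreteValuationRing B]
    [CommRing C] [IsDomain C] [IsLocalRing C] [Algebra B C] [IsLocalHom (algebraMap B C)]
    (hinj : Function.Injective (algebraMap B C))
    [Field K] [Field L] [Field M₀] [Field K₁] [Algebra K L] [Algebra K M₀] [Algebra L M₀]
    [IsScalarTower K L M₀]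
    [Algebra K K₁] [FiniteDimensional K K₁]
    [Algebra B L] [IsFractionRing B L]
    [Algebra C M₀] [IsFractionRing C M₀] [Algebra B M₀]
    [IsScalarTower B C M₀] [IsScalarTower B L M₀]
    (P : ∀ (M : Type u) [Field M], ValuationSubring M → (K₁ →+* M) → Prop)
    (hP : ∀ (M M' : Type u) [Field M] [Field M'] (f : K₁ →+* M) (j : M →+* M')
      (W' : ValuationSubring M'), P M' W' (j.comp f) → P M (W'.comap j) f) :
    EtRam.ForallLocalExt C K M₀ K₁ P → EtRam.ForallLocalExt B K L K₁ P := by
  intro hC M _ _ _ _ _ _ hadj W hW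
  obtain ⟨M', _, j, i, W', hji, hcomap, hdom, hind⟩ :=
    exists_common_extension B C L M₀ M hinj W hW
  letI : Algebra M₀ M' := i.toAlgebra
  letI : Algebra K M' := (i.comp (algebraMap K M₀)).toAlgebra
  letI : Algebra K₁ M' := (j.comp (algebraMap K₁ M)).toAlgebra
  haveI : IsScalarTower K M₀ M' := IsScalarTower.of_algebraMap_eq' rfl
  haveI : IsScalarTower K K₁ M' := IsScalarTower.of_algebraMap_eq' (by
    ext k
    change i (algebraMap K M₀ k) = j (algebraMap K₁ M (algebraMap K K₁ k))
    rw [← IsScalarTower.algebraMap_apply K K₁ M, IsScalarTower.algebraMap_apply K L M,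
      IsScalarTower.algebraMap_apply K L M₀]
    exact (RingHom.congr_fun hji _).symm)
  have hadj' : Algebra.adjoin M₀ (Set.range (algebraMap K₁ M')) = ⊤ := by
    have hle : Algebra.adjoin M₀ (Set.range (algebraMap K₁ M')) ≤ integralClosure M₀ M' := by
      apply Algebra.adjoin_le
      rintro _ ⟨k, rfl⟩
      have h1 : IsIntegral K k := Algebra.IsIntegral.isIntegral k
      have h2 : IsIntegral K (algebraMap K₁ M' k) := h1.map (IsScalarTower.toAlgHom K K₁ M')
      exact h2.tower_top
    rw [eq_top_iff]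
    intro x _
    refine hind (fun x => x ∈ Algebra.adjoin M₀ (Set.range (algebraMap K₁ M'))) ?_ ?_ ?_ ?_ ?_ x
    · intro m
      have hm : m ∈ Algebra.adjoin L (Set.range (algebraMap K₁ M)) := by
        rw [hadj]
        trivial
      induction hm using Algebra.adjoin_induction with
      | mem x hx =>
        obtain ⟨k, rfl⟩ := hx
        exact Algebra.subset_adjoin ⟨k, rfl⟩
      | algebraMap l =>
        have h1 : j (algebraMap L M l) = algebraMap M₀ M' (algebraMap L M₀ l) :=
          RingHom.congr_fun hji l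
        rw [h1]
        exact Subalgebra.algebraMap_mem _ _
      | add x y _ _ hx hy =>
        rw [map_add]
        exact Subalgebra.add_mem _ hx hy
      | mul x y _ _ hx hy =>
        rw [map_mul]
        exact Subalgebra.mul_mem _ hx hy
    · intro m₀
      exact Subalgebra.algebraMap_mem _ m₀
    · intro x y hx hy
      exact Subalgebra.add_mem _ hx hy
    · intro x y hx hy
      exact Subalgebra.mul_mem _ hx hy
    · intro x hx
      exact Subalgebra.inv_mem_of_algebraic
        (Algebra.adjoin M₀ (Set.range (algebraMap K₁ M'))) (x := ⟨x, hx⟩) (hle hx).isAlgebraic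
  have hmain := hC M' hadj' W' hdom
  subst hcomap
  exact hP M M' _ j W' hmain

end Descend

end Groth.Agent.Lib.Helper14EtSol
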