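import Mathlib
import Groth.Agent.Lib.Helper14EtSol
import Groth.Agent.Lib.Helper14Eisenstein

set_option autoImplicit false
set_option linter.style.haveILetI false
set_option linter.unusedSectionVars false
universe u

namespace Groth.Agent.Lib.Helper14FSmooth

open IsLocalRing Polynomial

section VNR

/-- von Neumann regular commutative rings (elementwise form). -/
def IsVNR (R : Type*) [CommRing R] : Prop := ∀ x : R, ∃ y : R, x = x * x * y

theorem IsVNR.of_surjective {R S : Type*} [CommRing R] [CommRing S] (φ : R →+* S)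
    (hφ : Function.Surjective φ) (h : IsVNR R) : IsVNR S := by
  intro s
  obtain ⟨r, rfl⟩ := hφ s
  obtain ⟨y, hy⟩ := h r
  refine ⟨φ y, ?_⟩
  rw [← map_mul, ← map_mul, ← hy]

theorem IsVNR.isReduced {R : Type*} [CommRing R] (h : IsVNR R) : IsReduced R := by
  constructor
  intro x hx
  obtain ⟨k, hk⟩ := hx
  obtain ⟨y, hy⟩ := h x
  have key : ∀ n : ℕ, x = x ^ (n + 1) * y ^ n := by
    intro n
    induction n with
    | zero => simp
    | succ n ih =>
      calc x = x * x * y := hy
        _ = (x ^ (n + 1) * y ^ n) * x * y := by rw [← ih]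
        _ = x ^ (n + 1 + 1) * y ^ (n + 1) := by ring
  rw [key k, pow_succ, hk, zero_mul, zero_mul]

/-- a reduced ring integral over a field is von Neumann regular. -/
theorem isVNR_of_isReduced_of_isIntegral (k Θ : Type*) [Field k] [CommRing Θ] [Algebra k Θ]
    [IsReduced Θ] [Algebra.IsIntegral k Θ] : IsVNR Θ := by
  intro x
  obtain ⟨p, hpm, hpx⟩ := Algebra.IsIntegral.isIntegral (R := k) x
  have hp0 : p ≠ 0 := hpm.ne_zero
  obtain ⟨q, hpq, hq⟩ := Polynomial.exists_eq_pow_rootMultiplicity_mul_and_not_dvd p hp0 0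
  set n := rootMultiplicity 0 p with hn
  rw [C_0, sub_zero] at hpq hq
  have hc : q.coeff 0 ≠ 0 := fun h0 => hq (Polynomial.X_dvd_iff.mpr h0)
  have h1 : x ^ n * aeval x q = 0 := by
    have : aeval x p = 0 := hpx
    rw [hpq, map_mul, map_pow, aeval_X] at this
    exact this
  have h2 : x * aeval x q = 0 := by
    apply IsNilpotent.eq_zero
    refine ⟨n + 1, ?_⟩
    calc (x * aeval x q) ^ (n + 1) = (x ^ n * aeval x q) * (x * (aeval x q) ^ n) := by ring
      _ = 0 := by rw [h1, zero_mul]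
  have h3 : aeval x q = aeval x q.divX * x + algebraMap k Θ (q.coeff 0) := by
    conv_lhs => rw [← Polynomial.divX_mul_X_add q]
    rw [map_add, map_mul, aeval_X, aeval_C]
  refine ⟨-(aeval x q.divX) * algebraMap k Θ (q.coeff 0)⁻¹, ?_⟩
  have h4 : x * algebraMap k Θ (q.coeff 0) = -(x * x * aeval x q.divX) := by
    rw [h3] at h2
    linear_combination h2
  have h5 : algebraMap k Θ (q.coeff 0) * algebraMap k Θ (q.coeff 0)⁻¹ = 1 := by
    rw [← map_mul, mul_inv_cancel₀ hc, map_one]
  calc x = x * (algebraMap k Θ (q.coeff 0) * algebraMap k Θ (q.coeff 0)⁻¹) := by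
        rw [h5, mul_one]
    _ = (x * algebraMap k Θ (q.coeff 0)) * algebraMap k Θ (q.coeff 0)⁻¹ := by ring
    _ = x * x * (-(aeval x q.divX) * algebraMap k Θ (q.coeff 0)⁻¹) := by rw [h4]; ring

open TensorProduct in
theorem isVNR_tensor (k F E : Type*) [Field k] [Field F] [Algebra k F] [Algebra.IsAlgebraic k F]
    [Field E] [Algebra k E] [Algebra.IsGeometricallyReduced k E] : IsVNR (F ⊗[k] E) := by
  haveI : IsReduced (F ⊗[k] E) := inferInstance
  haveI : Algebra.IsIntegral k F := Algebra.IsAlgebraic.isIntegral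
  have e : F ⊗[k] E ≃ₐ[k] E ⊗[k] F := Algebra.TensorProduct.comm k F E
  haveI : IsReduced (E ⊗[k] F) :=
    isReduced_of_injective e.symm.toRingEquiv.toRingHom e.symm.injective
  have h1 : IsVNR (E ⊗[k] F) := isVNR_of_isReduced_of_isIntegral E (E ⊗[k] F)
  exact h1.of_surjective e.symm.toRingEquiv.toRingHom e.symm.surjective

end VNR

section Val

variable {L M Γ₀ : Type*} [Field L] [Field M] [Algebra L M]
  [LinearOrderedCommGroupWithZero Γ₀]

/-- two terms of a vanishing polynomial expression have the same valuation. -/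
theorem exists_pow_eq_zpow (v : Valuation M Γ₀) (γ : Γ₀) (hγ0 : γ ≠ 0)
    (hL : ∀ c : L, c ≠ 0 → ∃ z : ℤ, v (algebraMap L M c) = γ ^ z)
    {x : M} (hx0 : x ≠ 0) (p : L[X]) (hp0 : p ≠ 0) (hpx : aeval x p = 0) :
    ∃ n : ℕ, 1 ≤ n ∧ n ≤ p.natDegree ∧ ∃ z : ℤ, v x ^ n = γ ^ z := by
  classical
  have hvx0 : v x ≠ 0 := (Valuation.ne_zero_iff _).mpr hx0
  set t : ℕ → M := fun i => algebraMap L M (p.coeff i) * x ^ i with ht
  have hsum : ∑ i ∈ p.support, t i = 0 := by
    rw [← hpx, aeval_def, eval₂_eq_sum, Polynomial.sum_def]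
  have hne : p.support.Nonempty := Polynomial.support_nonempty.mpr hp0
  have htv : ∀ i ∈ p.support, v (t i) ≠ 0 := by
    intro i hi
    rw [Valuation.ne_zero_iff]
    refine mul_ne_zero ?_ (pow_ne_zero _ hx0)
    exact (_root_.map_ne_zero _).mpr (Polynomial.mem_support_iff.mp hi)
  -- the key step for two indices a < b
  have aux : ∀ a b : ℕ, a < b → a ∈ p.support → b ∈ p.support → v (t a) = v (t b) →
      ∃ n : ℕ, 1 ≤ n ∧ n ≤ p.natDegree ∧ ∃ z : ℤ, v x ^ n = γ ^ z := by
    intro a b hab ha hb heq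
    obtain ⟨za, hza⟩ := hL _ (Polynomial.mem_support_iff.mp ha)
    obtain ⟨zb, hzb⟩ := hL _ (Polynomial.mem_support_iff.mp hb)
    refine ⟨b - a, by omega, ?_, za - zb, ?_⟩
    · have := Polynomial.le_natDegree_of_mem_supp b hb
      omega
    · simp only [ht, map_mul, map_pow, hza, hzb] at heq
      have hb' : b = a + (b - a) := by omega
      rw [hb', pow_add, ← mul_assoc] at heq
      have hγz : γ ^ zb ≠ 0 := zpow_ne_zero _ hγ0
      have hva : v x ^ a ≠ 0 := pow_ne_zero _ hvx0
      rw [zpow_sub₀ hγ0, eq_div_iff hγz]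
      have h6 : γ ^ za * v x ^ a = (v x ^ (b - a) * γ ^ zb) * v x ^ a := by
        rw [heq]
        ac_rfl
      exact (mul_right_cancel₀ hva h6).symm
  obtain ⟨i₀, hi₀, hmax⟩ := Finset.exists_max_image p.support (fun i => v (t i)) hne
  by_cases hex : ∃ j ∈ p.support, j ≠ i₀ ∧ v (t j) = v (t i₀)
  · obtain ⟨j, hj, hji, hjv⟩ := hex
    rcases lt_or_gt_of_ne hji with h | h
    · exact aux j i₀ h hj hi₀ hjv
    · exact aux i₀ j h hi₀ hj hjv.symm
  · exfalso
    push Not at hex
    have hlt : ∀ i ∈ p.support \ {i₀}, v (t i) < v (t i₀) := by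
      intro i hi
      rw [Finset.mem_sdiff, Finset.mem_singleton] at hi
      exact lt_of_le_of_ne (hmax i hi.1) (hex i hi.1 hi.2)
    have := Valuation.map_sum_eq_of_lt v hi₀ hlt
    rw [hsum, map_zero] at this
    exact htv i₀ hi₀ this.symm

end Val

section Val2

variable {Γ₀ : Type*} [LinearOrderedCommGroupWithZero Γ₀]

theorem exists_uniformizer {K₁ : Type*} [Field K₁] (v : Valuation K₁ Γ₀) (γ : Γ₀) (hγ0 : γ ≠ 0)
    (hγ1 : γ < 1) (D : ℕ) (hD : 0 < D)
    (hpow : ∀ x : K₁, x ≠ 0 → ∃ z : ℤ, v x ^ D = γ ^ z) (x₀ : K₁) (hx₀ : x₀ ≠ 0)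
    (hx₀1 : v x₀ < 1) :
    ∃ ϖ : K₁, ϖ ≠ 0 ∧ v ϖ < 1 ∧ (∃ z₁ : ℤ, 0 < z₁ ∧ v ϖ ^ D = γ ^ z₁) ∧
      ∀ x, v x < 1 → v x ≤ v ϖ := by
  classical
  have hγpos : 0 < γ := zero_lt_iff.mpr hγ0
  have key : ∀ x : K₁, x ≠ 0 → v x < 1 → ∃ z : ℕ, 0 < z ∧ v x ^ D = γ ^ z := by
    intro x hx hx1
    obtain ⟨z, hz⟩ := hpow x hx
    have h1 : v x ^ D < 1 := pow_lt_one₀ zero_le hx1 hD.ne'
    rw [hz, zpow_lt_one_iff_right_of_lt_one₀ hγpos hγ1] at h1
    refine ⟨z.toNat, by omega, ?_⟩
    rw [hz, ← zpow_natCast, Int.toNat_of_nonneg h1.le]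
  have hP : ∃ z : ℕ, ∃ x : K₁, x ≠ 0 ∧ v x < 1 ∧ 0 < z ∧ v x ^ D = γ ^ z := by
    obtain ⟨z, hz0, hz⟩ := key x₀ hx₀ hx₀1
    exact ⟨z, x₀, hx₀, hx₀1, hz0, hz⟩
  obtain ⟨ϖ, hϖ0, hϖ1, hz₁0, hϖz⟩ := Nat.find_spec hP
  refine ⟨ϖ, hϖ0, hϖ1, ⟨(Nat.find hP : ℤ), by exact_mod_cast hz₁0, by rw [hϖz, zpow_natCast]⟩, ?_⟩
  intro x hx1
  by_cases hx : x = 0
  · rw [hx, map_zero]; exact zero_le
  obtain ⟨z, hz0, hz⟩ := key x hx hx1
  have hle : Nat.find hP ≤ z := Nat.find_min' hP ⟨x, hx, hx1, hz0, hz⟩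
  have h2 : v x ^ D ≤ v ϖ ^ D := by
    rw [hz, hϖz]
    exact (pow_le_pow_iff_right_of_lt_one₀ hγpos hγ1).mpr hle
  exact (pow_le_pow_iff_left₀ zero_le zero_le hD.ne').mp h2

theorem exists_not_le_pow (γ ϖ m : Γ₀) (hγ0 : γ ≠ 0) (hγ1 : γ < 1) (D : ℕ)
    (z₁ : ℤ) (hz₁ : 0 < z₁) (hϖ : ϖ ^ D = γ ^ z₁) (n : ℕ) (hn : 0 < n) (z : ℤ)
    (hm : m ^ n = γ ^ z) : ∃ N : ℕ, ¬ m ≤ ϖ ^ N := by
  have hγpos : 0 < γ := zero_lt_iff.mpr hγ0
  refine ⟨z.natAbs * D + 1, fun h => ?_⟩
  set N := z.natAbs * D + 1 with hN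
  have h1 : m ^ (n * D) ≤ (ϖ ^ N) ^ (n * D) := pow_le_pow_left₀ zero_le h (n * D)
  have h2 : m ^ (n * D) = γ ^ (z * D) := by
    rw [pow_mul, hm, ← zpow_natCast, ← zpow_mul]
  have h3 : (ϖ ^ N) ^ (n * D) = γ ^ (z₁ * ((N * n : ℕ) : ℤ)) := by
    rw [← pow_mul, show N * (n * D) = D * (N * n) by ring, pow_mul, hϖ, ← zpow_natCast,
      ← zpow_mul]
  rw [h2, h3, zpow_le_zpow_iff_right_of_lt_one₀ hγpos hγ1] at h1
  have h4 : (N : ℤ) ≤ z₁ * ((N * n : ℕ) : ℤ) := by
    push_cast
    have hn' : (1 : ℤ) ≤ n := by exact_mod_cast hn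
    have hN0 : (0 : ℤ) ≤ N := by positivity
    have h41 : (N : ℤ) ≤ N * n := by nlinarith
    have h42 : (0 : ℤ) ≤ N * n := by positivity
    have h43 : (1 : ℤ) ≤ z₁ := hz₁
    nlinarith
  have h5 : z * D < N := by
    rw [hN]
    push_cast
    have : z ≤ |z| := le_abs_self z
    have hD0 : (0 : ℤ) ≤ D := by positivity
    nlinarith [Int.natCast_natAbs z]
  omega

end Val2

section ResAlg

theorem residue_isAlgebraic (A K K₁ : Type u) [CommRing A] [IsDomain A]
    [IsDiscreteValuationRing A] [Field K]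
    [Algebra A K] [IsFractionRing A K] [Field K₁] [Algebra K K₁] [Algebra A K₁]
    [IsScalarTower A K K₁] [Algebra.IsAlgebraic K K₁] (V : ValuationSubring K₁) [Algebra A V]
    (hAV : ∀ a : A, ((algebraMap A V a : V) : K₁) = algebraMap A K₁ a)
    [IsLocalHom (algebraMap A V)] :
    Algebra.IsAlgebraic (ResidueField A) (ResidueField V) := by
  classical
  obtain ⟨inst⟩ : Nonempty (NormalizedGCDMonoid A) := inferInstance
  obtain ⟨π, hπ⟩ := IsDiscreteValuationRing.exists_irreducible A
  constructor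
  intro xbar
  obtain ⟨x, rfl⟩ := residue_surjective xbar
  obtain ⟨p, hp0, hpx⟩ := Algebra.IsAlgebraic.isAlgebraic (R := K) (x : K₁)
  -- clear denominators
  set p' := IsLocalization.integerNormalization (nonZeroDivisors A) p with hp'
  have hp'0 : p' ≠ 0 := by
    intro h0
    exact hp0 (IsFractionRing.integerNormalization_eq_zero_iff.mp h0)
  have hp'x : aeval (x : K₁) p' = 0 :=
    IsLocalization.integerNormalization_aeval_eq_zero (nonZeroDivisors A) p hpx
  -- primitive part
  set q := p'.primPart with hq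
  have hqprim : q.IsPrimitive := p'.isPrimitive_primPart
  have hq0 : q ≠ 0 := Polynomial.primPart_ne_zero p'
  have hqx : aeval (x : K₁) q = 0 := by
    have h1 : p' = C p'.content * q := p'.eq_C_content_mul_primPart
    rw [h1, map_mul, aeval_C] at hp'x
    rcases mul_eq_zero.mp hp'x with h | h
    · exfalso
      have hinj : Function.Injective (algebraMap A K₁) := by
        rw [IsScalarTower.algebraMap_eq A K K₁]
        exact (algebraMap K K₁).injective.comp (IsFractionRing.injective A K)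
      have : p'.content = 0 := hinj (h.trans (map_zero _).symm)
      exact hp'0 (Polynomial.content_eq_zero_iff.mp this)
    · exact h
  -- reduce
  have hqV : eval₂ (algebraMap A V) x q = 0 := by
    apply Subtype.ext
    have h1 : ((eval₂ (algebraMap A V) x q : V) : K₁) = V.subtype (eval₂ (algebraMap A V) x q) :=
      rfl
    rw [h1, Polynomial.hom_eval₂]
    have h2 : (V.subtype : V →+* K₁).comp (algebraMap A V) = algebraMap A K₁ := by
      ext a
      exact hAV a
    rw [h2]
    exact hqx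
  have hqres : q.map (residue A) ≠ 0 := by
    intro h0
    have hdvd : C π ∣ q := by
      rw [Polynomial.C_dvd_iff_dvd_coeff]
      intro i
      have h1 : residue A (q.coeff i) = 0 := by
        rw [← Polynomial.coeff_map, h0, coeff_zero]
      rw [residue_eq_zero_iff, (IsDiscreteValuationRing.irreducible_iff_uniformizer π).mp hπ,
        Ideal.mem_span_singleton] at h1
      exact h1
    exact hπ.not_isUnit (hqprim π hdvd)
  refine ⟨q.map (residue A), hqres, ?_⟩
  rw [aeval_def, eval₂_map]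
  have h3 : (algebraMap (ResidueField A) (ResidueField V)).comp (residue A) =
      (residue V).comp (algebraMap A V) := rfl
  rw [h3, ← Polynomial.hom_eval₂, hqV, map_zero]

end ResAlg

section Star

variable {M : Type u} [Field M] (W : ValuationSubring M) (R : Subring W)

/-- the inclusion of a subring of `W` into the field. -/
def incl : R →+* M := (W.subtype : W →+* M).comp R.subtype

theorem incl_injective : Function.Injective (incl W R) := by
  intro a b h
  exact Subtype.ext (Subtype.ext h)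

theorem incl_val_le (r : R) : W.valuation (incl W R r) ≤ 1 :=
  (W.valuation_le_one_iff _).mpr (r : W).2

variable {W R}

theorem star (ϖ : R) (hϖ0 : ϖ ≠ 0)
    (hvnr : ∀ r : R, ∃ y r₁ : R, r * (1 - r * y) = ϖ * r₁) :
    ∀ (N : ℕ) (r : R), r ≠ 0 → ¬ W.valuation (incl W R r) ≤ W.valuation (incl W R ϖ) ^ N →
      ∃ (k : ℕ) (s r' : R), W.valuation (incl W R s) = 1 ∧ W.valuation (incl W R r') = 1 ∧
        s * r = ϖ ^ k * r' := by
  intro N
  induction N with
  | zero =>
    intro r _ hN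
    rw [pow_zero] at hN
    exact absurd (incl_val_le W R r) hN
  | succ N ih =>
    intro r hr0 hN
    by_cases h1 : W.valuation (incl W R r) = 1
    · exact ⟨0, 1, r, by rw [map_one, map_one], h1, by rw [pow_zero]⟩
    have hlt : W.valuation (incl W R r) < 1 := lt_of_le_of_ne (incl_val_le W R r) h1
    obtain ⟨y, r₁, hy⟩ := hvnr r
    have hs : W.valuation (incl W R (1 - r * y)) = 1 := by
      rw [map_sub, map_one, map_mul]
      apply Valuation.map_one_sub_of_lt
      rw [map_mul]
      calc W.valuation (incl W R r) * W.valuation (incl W R y)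
          ≤ W.valuation (incl W R r) * 1 := by gcongr; exact incl_val_le W R y
        _ < 1 := by rw [mul_one]; exact hlt
    have hs0 : (1 - r * y : R) ≠ 0 := by
      intro h0
      rw [h0, map_zero, map_zero] at hs
      exact zero_ne_one hs
    have hr₁0 : r₁ ≠ 0 := by
      intro h0
      rw [h0, mul_zero] at hy
      rcases mul_eq_zero.mp hy with h | h
      · exact hr0 h
      · exact hs0 h
    have hval : W.valuation (incl W R r) =
        W.valuation (incl W R ϖ) * W.valuation (incl W R r₁) := by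
      have := congrArg (fun t => W.valuation (incl W R t)) hy
      simp only [map_mul, hs, mul_one] at this
      exact this
    have hN₁ : ¬ W.valuation (incl W R r₁) ≤ W.valuation (incl W R ϖ) ^ N := by
      intro hle
      apply hN
      rw [hval, pow_succ']
      gcongr
    obtain ⟨k, s₁, r', hs₁, hr', hrel⟩ := ih r₁ hr₁0 hN₁
    refine ⟨k + 1, s₁ * (1 - r * y), r', by rw [map_mul, map_mul, hs₁, hs, mul_one], hr', ?_⟩
    calc s₁ * (1 - r * y) * r = s₁ * (r * (1 - r * y)) := by ring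
      _ = s₁ * (ϖ * r₁) := by rw [hy]
      _ = ϖ * (s₁ * r₁) := by ring
      _ = ϖ * (ϖ ^ k * r') := by rw [hrel]
      _ = ϖ ^ (k + 1) * r' := by ring

theorem exists_decomp (ϖ : R) (hϖ0 : ϖ ≠ 0)
    (hvnr : ∀ r : R, ∃ y r₁ : R, r * (1 - r * y) = ϖ * r₁)
    (harch : ∀ r : R, r ≠ 0 →
      ∃ N : ℕ, ¬ W.valuation (incl W R r) ≤ W.valuation (incl W R ϖ) ^ N)
    (hfrac : ∀ m : M, ∃ r₁ r₂ : R, r₂ ≠ 0 ∧ m * incl W R r₂ = incl W R r₁)
    (m : M) (hm : m ≠ 0) :
    ∃ (k : ℤ) (a b : R), W.valuation (incl W R a) = 1 ∧ W.valuation (incl W R b) = 1 ∧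
      m * incl W R b = incl W R ϖ ^ k * incl W R a := by
  obtain ⟨r₁, r₂, hr₂, hm12⟩ := hfrac m
  have hinj := incl_injective W R
  have hr₂' : incl W R r₂ ≠ 0 := fun h => hr₂ (hinj (h.trans (map_zero _).symm))
  have hr₁ : r₁ ≠ 0 := by
    intro h0
    rw [h0, map_zero] at hm12
    rcases mul_eq_zero.mp hm12 with h | h
    · exact hm h
    · exact hr₂' h
  obtain ⟨N₁, hN₁⟩ := harch r₁ hr₁
  obtain ⟨N₂, hN₂⟩ := harch r₂ hr₂
  obtain ⟨k₁, s₁, r₁', hs₁, hr₁', h1⟩ := star ϖ hϖ0 hvnr N₁ r₁ hr₁ hN₁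
  obtain ⟨k₂, s₂, r₂', hs₂, hr₂'', h2⟩ := star ϖ hϖ0 hvnr N₂ r₂ hr₂ hN₂
  have hϖ' : incl W R ϖ ≠ 0 := fun h => hϖ0 (hinj (h.trans (map_zero _).symm))
  refine ⟨(k₁ : ℤ) - k₂, r₁' * s₂, r₂' * s₁, by rw [map_mul, map_mul, hr₁', hs₂, mul_one],
    by rw [map_mul, map_mul, hr₂'', hs₁, mul_one], ?_⟩
  have h1' := congrArg (incl W R) h1
  have h2' := congrArg (incl W R) h2
  simp only [map_mul, map_pow] at h1' h2'
  have hs₂0 : incl W R s₂ ≠ 0 := by
    intro h0
    rw [h0, map_zero] at hs₂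
    exact zero_ne_one hs₂
  rw [zpow_sub₀ hϖ', zpow_natCast, zpow_natCast, map_mul, map_mul]
  have hpk : incl W R ϖ ^ k₂ ≠ 0 := pow_ne_zero _ hϖ'
  field_simp
  -- goal: m * (r₂' * s₁) * ϖ^k₂ = ϖ^k₁ * (r₁' * s₂)
  have e1 : incl W R ϖ ^ k₂ * incl W R r₂' = incl W R s₂ * incl W R r₂ := h2'.symm
  have e2 : incl W R ϖ ^ k₁ * incl W R r₁' = incl W R s₁ * incl W R r₁ := h1'.symm
  calc _ = m * incl W R s₁ * (incl W R ϖ ^ k₂ * incl W R r₂') := by ring
    _ = m * incl W R s₁ * (incl W R s₂ * incl W R r₂) := by rw [e1]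
    _ = incl W R s₁ * incl W R s₂ * (m * incl W R r₂) := by ring
    _ = incl W R s₁ * incl W R s₂ * incl W R r₁ := by rw [hm12]
    _ = incl W R s₂ * (incl W R s₁ * incl W R r₁) := by ring
    _ = incl W R s₂ * (incl W R ϖ ^ k₁ * incl W R r₁') := by rw [e2]
    _ = _ := by ring

end Star

section Core
open TensorProduct

variable {A B K₁ M : Type u} [CommRing A] [IsLocalRing A] [CommRing B] [IsLocalRing B]
  [Algebra A B] [IsLocalHom (algebraMap A B)] [Field K₁] [Field M]
  (W : ValuationSubring M) (f : K₁ →+* M) [Algebra A (W.comap f)]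
  [IsLocalHom (algebraMap A (W.comap f))] (φB : B →+* W)

/-- the subring of `W` generated by `W ∩ K₁` and `B`. -/
def genRing : Subring W := Subring.closure (Set.range (EtRam.inclOfComap W f) ∪ Set.range φB)

/-- `W ∩ K₁ → R`. -/
def genV : W.comap f →+* genRing W f φB :=
  (EtRam.inclOfComap W f).codRestrict (genRing W f φB)
    (fun x => Subring.subset_closure (Or.inl ⟨x, rfl⟩))

/-- `B → R`. -/
def genB : B →+* genRing W f φB :=
  φB.codRestrict (genRing W f φB) (fun x => Subring.subset_closure (Or.inr ⟨x, rfl⟩))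

theorem exists_vnr_relation
    (hcompat : ∀ a : A,
      EtRam.inclOfComap W f (algebraMap A (W.comap f) a) = φB (algebraMap A B a))
    (hΘ : IsVNR (ResidueField (W.comap f) ⊗[ResidueField A] ResidueField B))
    (ϖ : W.comap f) (hϖ : ∀ x ∈ maximalIdeal (W.comap f), ∃ x', x = ϖ * x')
    (hB : ∀ b ∈ maximalIdeal B, ∃ (a : A) (b' : B), a ∈ maximalIdeal A ∧
      b = algebraMap A B a * b')
    (r : genRing W f φB) :
    ∃ y r₁ : genRing W f φB, r * (1 - r * y) = genV W f φB ϖ * r₁ := by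
  classical
  set ιV := genV W f φB with hιV
  set ιB := genB W f φB with hιB
  have hcompat' : ∀ a : A, ιV (algebraMap A (W.comap f) a) = ιB (algebraMap A B a) :=
    fun a => Subtype.ext (hcompat a)
  set I : Ideal (genRing W f φB) := Ideal.span {ιV ϖ} with hI
  have hVker : ∀ x ∈ maximalIdeal (W.comap f), (Ideal.Quotient.mk I).comp ιV x = 0 := by
    intro x hx
    obtain ⟨x', rfl⟩ := hϖ x hx
    rw [RingHom.comp_apply, map_mul, Ideal.Quotient.eq_zero_iff_mem]
    exact Ideal.mul_mem_right _ _ (Ideal.subset_span rfl)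
  have hBker : ∀ b ∈ maximalIdeal B, (Ideal.Quotient.mk I).comp ιB b = 0 := by
    intro b hb
    obtain ⟨a, b', ha, rfl⟩ := hB b hb
    have ha' : algebraMap A (W.comap f) a ∈ maximalIdeal (W.comap f) := by
      rw [mem_maximalIdeal, mem_nonunits_iff] at ha ⊢
      exact fun h => ha (isUnit_of_map_unit (algebraMap A (W.comap f)) a h)
    have h1 := hVker _ ha'
    rw [RingHom.comp_apply] at h1 ⊢
    rw [map_mul, map_mul, ← hcompat', h1, zero_mul]
  let qV : ResidueField (W.comap f) →+* (genRing W f φB) ⧸ I :=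
    Ideal.Quotient.lift (maximalIdeal (W.comap f)) ((Ideal.Quotient.mk I).comp ιV) hVker
  let qB : ResidueField B →+* (genRing W f φB) ⧸ I :=
    Ideal.Quotient.lift (maximalIdeal B) ((Ideal.Quotient.mk I).comp ιB) hBker
  have hqV : ∀ x, qV (residue _ x) = Ideal.Quotient.mk I (ιV x) := fun x => rfl
  have hqB : ∀ x, qB (residue _ x) = Ideal.Quotient.mk I (ιB x) := fun x => rfl
  letI algQ : Algebra (ResidueField A) ((genRing W f φB) ⧸ I) :=
    (qB.comp (algebraMap (ResidueField A) (ResidueField B))).toAlgebra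
  let qB' : ResidueField B →ₐ[ResidueField A] (genRing W f φB) ⧸ I :=
    { qB with commutes' := fun _ => rfl }
  let qV' : ResidueField (W.comap f) →ₐ[ResidueField A] (genRing W f φB) ⧸ I :=
    { qV with
      commutes' := by
        intro abar
        obtain ⟨a, rfl⟩ := residue_surjective abar
        change qV (residue _ (algebraMap A (W.comap f) a)) = qB (residue _ (algebraMap A B a))
        rw [hqV, hqB, hcompat'] }
  let Φ := Algebra.TensorProduct.productMap qV' qB'
  have hΦV : ∀ x, Φ (residue _ x ⊗ₜ 1) = Ideal.Quotient.mk I (ιV x) := by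
    intro x
    rw [Algebra.TensorProduct.productMap_apply_tmul, map_one, mul_one]
    exact hqV x
  have hΦB : ∀ b, Φ (1 ⊗ₜ residue _ b) = Ideal.Quotient.mk I (ιB b) := by
    intro b
    rw [Algebra.TensorProduct.productMap_apply_tmul, map_one, one_mul]
    exact hqB b
  have hsurj : Function.Surjective Φ.toRingHom := by
    intro q
    obtain ⟨⟨w, hw⟩, rfl⟩ := Ideal.Quotient.mk_surjective q
    change Ideal.Quotient.mk I ⟨w, hw⟩ ∈ Φ.toRingHom.range
    induction hw using Subring.closure_induction with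
    | mem w hw =>
      rcases hw with ⟨x, rfl⟩ | ⟨b, rfl⟩
      · exact ⟨_, hΦV x⟩
      · exact ⟨_, hΦB b⟩
    | zero => exact Subring.zero_mem _
    | one => exact Subring.one_mem _
    | add x y hx hy ihx ihy => exact Subring.add_mem _ ihx ihy
    | neg x hx ihx => exact Subring.neg_mem _ ihx
    | mul x y hx hy ihx ihy => exact Subring.mul_mem _ ihx ihy
  have hQ : IsVNR ((genRing W f φB) ⧸ I) := hΘ.of_surjective Φ.toRingHom hsurj
  obtain ⟨q, hq⟩ := hQ (Ideal.Quotient.mk I r)
  obtain ⟨y, rfl⟩ := Ideal.Quotient.mk_surjective q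
  have hmem : r * (1 - r * y) ∈ I := by
    rw [← Ideal.Quotient.eq_zero_iff_mem, map_mul, map_sub, map_one, map_mul]
    linear_combination hq
  obtain ⟨r₁, hr₁⟩ := Ideal.mem_span_singleton'.mp hmem
  exact ⟨y, r₁, (hr₁.symm.trans (mul_comm _ _))⟩

end Core

section Concl

variable {K₁ M : Type u} [Field K₁] [Field M]

theorem weaklyUnramified_of_val (W : ValuationSubring M) (f : K₁ →+* M) (ϖ : W.comap f)
    (hϖ1 : W.valuation (f ϖ) < 1) (hϖ0 : (ϖ : K₁) ≠ 0)
    (hval : ∀ m : M, m ≠ 0 → ∃ k : ℤ, W.valuation m = W.valuation (f ϖ) ^ k) :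
    letI : Algebra (W.comap f) W := (EtRam.inclOfComap W f).toAlgebra
    EtRam.IsWeaklyUnramified (W.comap f) W := by
  letI a1 : Algebra (W.comap f) W := (EtRam.inclOfComap W f).toAlgebra
  change Ideal.map (EtRam.inclOfComap W f) (maximalIdeal _) = maximalIdeal _
  apply le_antisymm
  · exact ((IsLocalRing.local_hom_TFAE (EtRam.inclOfComap W f)).out 0 2).mp
      (EtRam.isLocalHom_inclOfComap W f)
  · intro w hw
    by_cases hw0 : w = 0
    · rw [hw0]; exact Ideal.zero_mem _
    have hwM : (w : M) ≠ 0 := fun h => hw0 (Subtype.ext h)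
    have hfϖ0 : f ϖ ≠ 0 := (_root_.map_ne_zero f).mpr hϖ0
    have hγpos : 0 < W.valuation (f ϖ) := zero_lt_iff.mpr ((Valuation.ne_zero_iff _).mpr hfϖ0)
    obtain ⟨k, hk⟩ := hval (w : M) hwM
    have hw1 : W.valuation (w : M) < 1 := (W.valuation_lt_one_iff w).mp hw
    rw [hk, zpow_lt_one_iff_right_of_lt_one₀ hγpos hϖ1] at hw1
    have hmem : (w : M) / f ϖ ∈ W := by
      rw [← W.valuation_le_one_iff, map_div₀, hk, div_eq_mul_inv, ← zpow_sub_one₀ hγpos.ne',
        zpow_le_one_iff_right_of_lt_one₀ hγpos hϖ1]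
      omega
    have hϖm : ϖ ∈ maximalIdeal (W.comap f) := by
      rw [mem_maximalIdeal, mem_nonunits_iff]
      intro hu
      have hu' : IsUnit (EtRam.inclOfComap W f ϖ) := hu.map _
      rw [W.valuation_eq_one_iff] at hu'
      exact absurd hu' (ne_of_lt hϖ1)
    have hweq : w = EtRam.inclOfComap W f ϖ * ⟨_, hmem⟩ := by
      apply Subtype.ext
      change (w : M) = f ϖ * ((w : M) / f ϖ)
      rw [mul_div_cancel₀ _ hfϖ0]
    rw [hweq]
    exact Ideal.mul_mem_right _ _ (Ideal.mem_map_of_mem _ hϖm)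

end Concl

section TInv
open TensorProduct

theorem tmul_inv_mem {k Ω E : Type*} [Field k] [Field Ω] [Algebra k Ω] [Field E] [Algebra k E]
    (T : Subring (Ω ⊗[k] E)) (hT : ∀ t ∈ T, ∃ y ∈ T, t = t * t * y) (b : E) (hb : b ≠ 0)
    (h : (1 : Ω) ⊗ₜ[k] b ∈ T) : (1 : Ω) ⊗ₜ[k] b⁻¹ ∈ T := by
  obtain ⟨y, hyT, hy⟩ := hT _ h
  have hinv : ((1 : Ω) ⊗ₜ[k] b⁻¹) * ((1 : Ω) ⊗ₜ[k] b) = 1 := by
    rw [Algebra.TensorProduct.tmul_mul_tmul, mul_one, inv_mul_cancel₀ hb,
      Algebra.TensorProduct.one_def]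
  have hy1 : ((1 : Ω) ⊗ₜ[k] b) * y = 1 := by
    have h2 : ((1 : Ω) ⊗ₜ[k] b⁻¹) * ((1 : Ω) ⊗ₜ[k] b) =
        ((1 : Ω) ⊗ₜ[k] b⁻¹) * (((1 : Ω) ⊗ₜ[k] b) * ((1 : Ω) ⊗ₜ[k] b) * y) := by
      rw [← hy]
    rw [hinv, ← mul_assoc, ← mul_assoc, hinv, one_mul] at h2
    exact h2.symm
  have hyeq : y = (1 : Ω) ⊗ₜ[k] b⁻¹ := by
    calc y = (((1 : Ω) ⊗ₜ[k] b⁻¹) * ((1 : Ω) ⊗ₜ[k] b)) * y := by rw [hinv, one_mul]
      _ = _ := by rw [mul_assoc, hy1, mul_one]
  rw [← hyeq]
  exact hyT

end TInv

section GR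
open TensorProduct

variable {A B K₁ M : Type u} [CommRing A] [IsLocalRing A] [CommRing B] [IsLocalRing B]
  [Algebra A B] [IsLocalHom (algebraMap A B)] [Field K₁] [Field M]
  (W : ValuationSubring M) (f : K₁ →+* M) [Algebra A (W.comap f)]
  [IsLocalHom (algebraMap A (W.comap f))] (φB : B →+* W) [IsLocalHom φB]

set_option maxHeartbeats 1600000 in
theorem geomReduced_of_unit
    (hcompat : ∀ a : A,
      EtRam.inclOfComap W f (algebraMap A (W.comap f) a) = φB (algebraMap A B a))
    [Algebra.IsAlgebraic (ResidueField A) (ResidueField (W.comap f))]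
    [Algebra.IsGeometricallyReduced (ResidueField A) (ResidueField B)]
    (hunit : ∀ w : W, IsUnit w → ∃ a b : genRing W f φB, IsUnit (b : W) ∧ w * (b : W) = a) :
    @Algebra.IsGeometricallyReduced (ResidueField (W.comap f)) (ResidueField W) _ _
      (ResidueField.map (EtRam.inclOfComap W f)).toAlgebra := by
  classical
  letI algVW : Algebra (ResidueField (W.comap f)) (ResidueField W) :=
    (ResidueField.map (EtRam.inclOfComap W f)).toAlgebra
  rw [Algebra.isGeometricallyReduced_field_iff]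
  haveI : Algebra.IsAlgebraic (ResidueField A) (AlgebraicClosure (ResidueField (W.comap f))) :=
    Algebra.IsAlgebraic.trans (ResidueField A) (ResidueField (W.comap f))
      (AlgebraicClosure (ResidueField (W.comap f)))
  have hVNR : IsVNR (AlgebraicClosure (ResidueField (W.comap f)) ⊗[ResidueField A]
      ResidueField B) := isVNR_tensor _ _ _
  letI algAW : Algebra (ResidueField A) (ResidueField W) :=
    ((algebraMap (ResidueField (W.comap f)) (ResidueField W)).comp
      (algebraMap (ResidueField A) (ResidueField (W.comap f)))).toAlgebra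
  haveI : IsScalarTower (ResidueField A) (ResidueField (W.comap f)) (ResidueField W) :=
    IsScalarTower.of_algebraMap_eq' rfl
  let βW : ResidueField B →ₐ[ResidueField A] ResidueField W :=
    { ResidueField.map φB with
      commutes' := by
        intro abar
        obtain ⟨a, rfl⟩ := residue_surjective abar
        change residue W (φB (algebraMap A B a)) =
          residue W (EtRam.inclOfComap W f (algebraMap A (W.comap f) a))
        rw [hcompat] }
  have hβW : ∀ b : B, βW (residue B b) = residue W (φB b) := fun b => rfl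
  have hVW : ∀ x : W.comap f, algebraMap (ResidueField (W.comap f)) (ResidueField W)
      (residue _ x) = residue W (EtRam.inclOfComap W f x) := fun x => rfl
  letI : TensorProduct.CompatibleSMul (ResidueField (W.comap f)) (ResidueField A)
      (AlgebraicClosure (ResidueField (W.comap f))) (ResidueField W) :=
    TensorProduct.CompatibleSMul.isScalarTower
  let Ψ : AlgebraicClosure (ResidueField (W.comap f)) ⊗[ResidueField A] ResidueField B →ₐ[ResidueField A]
      AlgebraicClosure (ResidueField (W.comap f)) ⊗[ResidueField (W.comap f)] ResidueField W :=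
    (Algebra.TensorProduct.mapOfCompatibleSMul (ResidueField (W.comap f)) (ResidueField A)
      (ResidueField A) (AlgebraicClosure (ResidueField (W.comap f))) (ResidueField W)).comp
      (Algebra.TensorProduct.map (AlgHom.id (ResidueField A) _) βW)
  have hΨ : ∀ ω b, Ψ (ω ⊗ₜ b) = ω ⊗ₜ βW b := fun _ _ => rfl
  -- the range of Ψ
  set T := Ψ.toRingHom.range with hT
  have hTvnr : ∀ t ∈ T, ∃ y ∈ T, t = t * t * y := by
    rintro _ ⟨x, rfl⟩
    obtain ⟨y, hy⟩ := hVNR x
    refine ⟨Ψ.toRingHom y, ⟨y, rfl⟩, ?_⟩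
    rw [← map_mul, ← map_mul, ← hy]
  have claim1 : ∀ r : genRing W f φB,
      ((1 : AlgebraicClosure (ResidueField (W.comap f))) ⊗ₜ[ResidueField (W.comap f)]
        residue W (r : W)) ∈ T := by
    rintro ⟨w, hw⟩
    change ((1 : AlgebraicClosure (ResidueField (W.comap f))) ⊗ₜ[ResidueField (W.comap f)]
        residue W w) ∈ T
    induction hw using Subring.closure_induction with
    | mem w hw =>
      rcases hw with ⟨x, rfl⟩ | ⟨b, rfl⟩
      · refine ⟨(algebraMap _ _ (residue _ x)) ⊗ₜ 1, ?_⟩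
        change Ψ _ = _
        rw [hΨ, map_one, ← hVW, Algebra.algebraMap_eq_smul_one, Algebra.algebraMap_eq_smul_one,
          TensorProduct.smul_tmul]
      · refine ⟨1 ⊗ₜ residue B b, ?_⟩
        change Ψ _ = _
        rw [hΨ, hβW]
    | zero => rw [map_zero, TensorProduct.tmul_zero]; exact Subring.zero_mem _
    | one => rw [map_one]; exact Subring.one_mem _
    | add x y hx hy ihx ihy =>
      rw [map_add, TensorProduct.tmul_add]; exact Subring.add_mem _ ihx ihy
    | neg x hx ihx => rw [map_neg, TensorProduct.tmul_neg]; exact Subring.neg_mem _ ihx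
    | mul x y hx hy ihx ihy =>
      rw [map_mul]
      have := Subring.mul_mem _ ihx ihy
      rw [Algebra.TensorProduct.tmul_mul_tmul, mul_one] at this
      exact this
  have claim2 : ∀ wbar : ResidueField W,
      ((1 : AlgebraicClosure (ResidueField (W.comap f))) ⊗ₜ[ResidueField (W.comap f)] wbar) ∈ T := by
    intro wbar
    obtain ⟨w, rfl⟩ := residue_surjective wbar
    by_cases hu : IsUnit w
    · obtain ⟨a, b, hb, hab⟩ := hunit w hu
      have hbres : residue W (b : W) ≠ 0 := by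
        rw [Ne, residue_eq_zero_iff, mem_maximalIdeal, mem_nonunits_iff, not_not]
        exact hb
      have hwres : residue W w = residue W (a : W) * (residue W (b : W))⁻¹ := by
        rw [← hab, map_mul, mul_assoc, mul_inv_cancel₀ hbres, mul_one]
      have hbinv := tmul_inv_mem T hTvnr _ hbres (claim1 b)
      rw [hwres]
      have := Subring.mul_mem _ (claim1 a) hbinv
      rw [Algebra.TensorProduct.tmul_mul_tmul, mul_one] at this
      exact this
    · have : residue W w = 0 := by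
        rw [residue_eq_zero_iff, mem_maximalIdeal, mem_nonunits_iff]
        exact hu
      rw [this, TensorProduct.tmul_zero]
      exact Subring.zero_mem _
  have hsurj : Function.Surjective Ψ.toRingHom := by
    intro x
    change x ∈ T
    induction x using TensorProduct.induction_on with
    | zero => exact Subring.zero_mem _
    | tmul ω wbar =>
      have h1 : ω ⊗ₜ[ResidueField (W.comap f)] wbar =
          (ω ⊗ₜ[ResidueField (W.comap f)] (1 : ResidueField W)) * (1 ⊗ₜ wbar) := by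
        rw [Algebra.TensorProduct.tmul_mul_tmul, mul_one, one_mul]
      rw [h1]
      refine Subring.mul_mem _ ⟨ω ⊗ₜ 1, ?_⟩ (claim2 wbar)
      change Ψ _ = _
      rw [hΨ, map_one]
    | add x y hx hy => exact Subring.add_mem _ hx hy
  exact (hVNR.of_surjective Ψ.toRingHom hsurj).isReduced

end GR

section Main

variable (A B K L K₁ : Type u) [CommRing A] [IsDomain A] [IsDiscreteValuationRing A]
    [CommRing B] [IsDomain B] [IsDiscreteValuationRing B] [Algebra A B] [IsLocalHom (algebraMap A B)]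
    [Field K] [Field L] [Algebra A K] [IsFractionRing A K] [Algebra B L] [IsFractionRing B L]
    [Algebra K L] [Algebra A L] [IsScalarTower A K L] [IsScalarTower A B L]
    [Field K₁] [Algebra K K₁] [FiniteDimensional K K₁] [Algebra A K₁] [IsScalarTower A K K₁]

set_option maxHeartbeats 1600000 in
theorem core (hw : EtRam.IsWeaklyUnramified A B)
    [Algebra.IsGeometricallyReduced (ResidueField A) (ResidueField B)]
    (M : Type u) [Field M] [Algebra K M] [Algebra L M] [Algebra K₁ M] [IsScalarTower K L M]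
    [IsScalarTower K K₁ M]
    (hadj : Algebra.adjoin L (Set.range (algebraMap K₁ M)) = ⊤) (W : ValuationSubring M)
    (hW : EtRam.Dominates B ((algebraMap L M).comp (algebraMap B L)) W) :
    (letI : Algebra (W.comap (algebraMap K₁ M)) W :=
        (EtRam.inclOfComap W (algebraMap K₁ M)).toAlgebra;
      EtRam.IsWeaklyUnramified (W.comap (algebraMap K₁ M)) W) ∧
    @Algebra.IsGeometricallyReduced (ResidueField (W.comap (algebraMap K₁ M))) (ResidueField W) _ _
      (ResidueField.map (EtRam.inclOfComap W (algebraMap K₁ M))).toAlgebra := by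
  classical
  letI iBM : Algebra B M := ((algebraMap L M).comp (algebraMap B L)).toAlgebra
  haveI : IsScalarTower B L M := IsScalarTower.of_algebraMap_eq' rfl
  have hWB : EtRam.Dominates B (algebraMap B M) W := hW
  have hAM : ∀ a : A, algebraMap K₁ M (algebraMap A K₁ a) = algebraMap B M (algebraMap A B a) := by
    intro a
    rw [IsScalarTower.algebraMap_apply A K K₁, ← IsScalarTower.algebraMap_apply K K₁ M,
      IsScalarTower.algebraMap_apply K L M, ← IsScalarTower.algebraMap_apply A K L,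
      IsScalarTower.algebraMap_apply A B L, ← IsScalarTower.algebraMap_apply B L M]
  obtain ⟨π, hπ⟩ := IsDiscreteValuationRing.exists_irreducible A
  have hπB : Irreducible (algebraMap A B π) := by
    rw [IsDiscreteValuationRing.irreducible_iff_uniformizer]
    have h1 : maximalIdeal A = Ideal.span {π} :=
      (IsDiscreteValuationRing.irreducible_iff_uniformizer π).mp hπ
    have h2 : (maximalIdeal A).map (algebraMap A B) = maximalIdeal B := hw
    rw [← h2, h1, Ideal.map_span, Set.image_singleton]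
  obtain ⟨hW1, hW2⟩ := (Groth.Agent.Lib.Helper14EtRam.dominates_iff _ W).mp hWB
  have h0 : ∀ a : A, algebraMap A K₁ a ∈ W.comap (algebraMap K₁ M) := fun a => by
    rw [ValuationSubring.mem_comap, hAM]
    exact hW1 _
  have hlocA : IsLocalHom (RingHom.codRestrict (algebraMap A K₁) (W.comap (algebraMap K₁ M)) h0) := by
    have hcomp : (RingHom.codRestrict (algebraMap B M) W hW1).comp (algebraMap A B) =
        (EtRam.inclOfComap W (algebraMap K₁ M)).comp
          (RingHom.codRestrict (algebraMap A K₁) (W.comap (algebraMap K₁ M)) h0) := by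
      ext a
      exact (hAM a).symm
    haveI : IsLocalHom (RingHom.codRestrict (algebraMap B M) W hW1) := hW2
    haveI h3 : IsLocalHom ((RingHom.codRestrict (algebraMap B M) W hW1).comp (algebraMap A B)) :=
      RingHom.isLocalHom_comp _ _
    rw [hcomp] at h3
    exact isLocalHom_of_comp _ (EtRam.inclOfComap W (algebraMap K₁ M))
  letI algAV : Algebra A (W.comap (algebraMap K₁ M)) :=
    (RingHom.codRestrict (algebraMap A K₁) (W.comap (algebraMap K₁ M)) h0).toAlgebra
  haveI : IsLocalHom (algebraMap A (W.comap (algebraMap K₁ M))) := hlocA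
  let φB : B →+* W := RingHom.codRestrict (algebraMap B M) W hW1
  haveI : IsLocalHom φB := hW2
  have hcompat : ∀ a : A, EtRam.inclOfComap W (algebraMap K₁ M)
      (algebraMap A (W.comap (algebraMap K₁ M)) a) = φB (algebraMap A B a) :=
    fun a => Subtype.ext (hAM a)
  -- valuations
  set γ := W.valuation (algebraMap B M (algebraMap A B π)) with hγ
  have hπM0 : algebraMap B M (algebraMap A B π) ≠ 0 := by
    intro h0
    have h1 : algebraMap B L (algebraMap A B π) = 0 := (algebraMap L M).injective (by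
      rw [map_zero]
      exact h0)
    exact hπB.ne_zero (IsFractionRing.injective B L (by rw [h1, map_zero]))
  have hγ0 : γ ≠ 0 := (Valuation.ne_zero_iff _).mpr hπM0
  have hγ1 : γ < 1 := hWB.2 _ ((mem_maximalIdeal _).mpr hπB.not_isUnit)
  have hLval : ∀ c : L, c ≠ 0 → ∃ z : ℤ, W.valuation (algebraMap L M c) = γ ^ z := by
    intro c hc
    obtain ⟨l, hl, _⟩ := Groth.Agent.Lib.Helper14Eisenstein.exists_zpow_valuation
      (A := B) (K := L) W hWB hπB hc
    exact ⟨l, hl⟩
  have hKval : ∀ c : K, c ≠ 0 →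
      ∃ z : ℤ, (W.valuation.comap (algebraMap K₁ M)) (algebraMap K K₁ c) = γ ^ z := by
    intro c hc
    obtain ⟨z, hz⟩ := hLval (algebraMap K L c) ((_root_.map_ne_zero _).mpr hc)
    refine ⟨z, ?_⟩
    rw [Valuation.comap_apply, ← IsScalarTower.algebraMap_apply K K₁ M,
      IsScalarTower.algebraMap_apply K L M]
    exact hz
  set D := (Module.finrank K K₁).factorial with hDdef
  have hD : 0 < D := Nat.factorial_pos _
  have hpow : ∀ x : K₁, x ≠ 0 →
      ∃ z : ℤ, (W.valuation.comap (algebraMap K₁ M)) x ^ D = γ ^ z := by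
    intro x hx
    have hint : IsIntegral K x := Algebra.IsIntegral.isIntegral x
    obtain ⟨n, hn1, hnd, z, hz⟩ := exists_pow_eq_zpow (W.valuation.comap (algebraMap K₁ M)) γ hγ0
      hKval hx (minpoly K x) (minpoly.ne_zero hint) (minpoly.aeval K x)
    have hnd' : n ≤ Module.finrank K K₁ := hnd.trans (minpoly.natDegree_le x)
    obtain ⟨c, hc⟩ := Nat.dvd_factorial hn1 hnd'
    refine ⟨z * c, ?_⟩
    rw [hDdef, hc, pow_mul, hz, ← zpow_natCast, ← zpow_mul]
  have hx₀ : algebraMap A K₁ π ≠ 0 := by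
    intro h
    have := hAM π
    rw [h, map_zero] at this
    exact hπM0 this.symm
  have hx₀1 : (W.valuation.comap (algebraMap K₁ M)) (algebraMap A K₁ π) < 1 := by
    rw [Valuation.comap_apply, hAM]
    exact hγ1
  obtain ⟨ϖ₀, hϖ₀0, hϖ₀1, ⟨z₁, hz₁, hϖz⟩, hϖmax⟩ :=
    exists_uniformizer (W.valuation.comap (algebraMap K₁ M)) γ hγ0 hγ1 D hD hpow _ hx₀ hx₀1
  have hϖ₀1' : W.valuation (algebraMap K₁ M ϖ₀) < 1 := hϖ₀1
  have hϖmem : ϖ₀ ∈ W.comap (algebraMap K₁ M) := by
    rw [ValuationSubring.mem_comap, ← W.valuation_le_one_iff]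
    exact hϖ₀1'.le
  let ϖ : W.comap (algebraMap K₁ M) := ⟨ϖ₀, hϖmem⟩
  have hfϖ0 : algebraMap K₁ M ϖ₀ ≠ 0 := (_root_.map_ne_zero _).mpr hϖ₀0
  have hγϖpos : 0 < W.valuation (algebraMap K₁ M ϖ₀) :=
    zero_lt_iff.mpr ((Valuation.ne_zero_iff _).mpr hfϖ0)
  have hϖgen : ∀ x ∈ maximalIdeal (W.comap (algebraMap K₁ M)), ∃ x', x = ϖ * x' := by
    intro x hx
    have hx1 : W.valuation (algebraMap K₁ M (x : K₁)) < 1 := by
      have := map_nonunit (EtRam.inclOfComap W (algebraMap K₁ M)) x hx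
      exact (W.valuation_lt_one_iff _).mp this
    have hle : W.valuation (algebraMap K₁ M (x : K₁)) ≤ W.valuation (algebraMap K₁ M ϖ₀) :=
      hϖmax (x : K₁) hx1
    have hmem : (x : K₁) / ϖ₀ ∈ W.comap (algebraMap K₁ M) := by
      rw [ValuationSubring.mem_comap, ← W.valuation_le_one_iff, map_div₀, map_div₀]
      exact (div_le_one₀ hγϖpos).mpr hle
    refine ⟨⟨_, hmem⟩, Subtype.ext ?_⟩
    change (x : K₁) = ϖ₀ * ((x : K₁) / ϖ₀)
    rw [mul_div_cancel₀ _ hϖ₀0]
  have hB : ∀ b ∈ maximalIdeal B, ∃ (a : A) (b' : B), a ∈ maximalIdeal A ∧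
      b = algebraMap A B a * b' := by
    intro b hb
    rw [(IsDiscreteValuationRing.irreducible_iff_uniformizer _).mp hπB,
      Ideal.mem_span_singleton'] at hb
    obtain ⟨b', hb'⟩ := hb
    exact ⟨π, b', (mem_maximalIdeal _).mpr hπ.not_isUnit, by rw [← hb', mul_comm]⟩
  haveI : Algebra.IsAlgebraic (ResidueField A) (ResidueField (W.comap (algebraMap K₁ M))) :=
    residue_isAlgebraic A K K₁ (W.comap (algebraMap K₁ M)) (fun a => rfl)
  have hΘ := isVNR_tensor (ResidueField A) (ResidueField (W.comap (algebraMap K₁ M)))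
    (ResidueField B)
  have hvnr := exists_vnr_relation W (algebraMap K₁ M) φB hcompat hΘ ϖ hϖgen hB
  -- the generated ring
  have hιϖ : incl W (genRing W (algebraMap K₁ M) φB) (genV W (algebraMap K₁ M) φB ϖ) =
      algebraMap K₁ M ϖ₀ := rfl
  have hϖR0 : genV W (algebraMap K₁ M) φB ϖ ≠ 0 := by
    intro h
    have := congrArg (incl W (genRing W (algebraMap K₁ M) φB)) h
    rw [hιϖ, map_zero] at this
    exact hfϖ0 this
  have halg : ∀ m : M, IsIntegral L m := by
    have hle : Algebra.adjoin L (Set.range (algebraMap K₁ M)) ≤ integralClosure L M := by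
      apply Algebra.adjoin_le
      rintro _ ⟨k, rfl⟩
      have h1 : IsIntegral K k := Algebra.IsIntegral.isIntegral k
      have h2 : IsIntegral K (algebraMap K₁ M k) := h1.map (IsScalarTower.toAlgHom K K₁ M)
      exact h2.tower_top
    intro m
    have : m ∈ Algebra.adjoin L (Set.range (algebraMap K₁ M)) := by rw [hadj]; trivial
    exact hle this
  have harch : ∀ r : genRing W (algebraMap K₁ M) φB, r ≠ 0 → ∃ N : ℕ,
      ¬ W.valuation (incl W _ r) ≤
        W.valuation (incl W _ (genV W (algebraMap K₁ M) φB ϖ)) ^ N := by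
    intro r hr
    have hr' : incl W _ r ≠ 0 := fun h => hr (incl_injective W _ (h.trans (map_zero _).symm))
    obtain ⟨p, hpm, hpr⟩ := halg (incl W _ r)
    obtain ⟨n, hn1, _, z, hz⟩ := exists_pow_eq_zpow W.valuation γ hγ0 hLval hr' p hpm.ne_zero
      (by rw [aeval_def]; exact hpr)
    exact exists_not_le_pow γ (W.valuation (algebraMap K₁ M ϖ₀)) _ hγ0 hγ1 D z₁ hz₁ hϖz n hn1 z hz
  have hfrac : ∀ m : M, ∃ r₁ r₂ : genRing W (algebraMap K₁ M) φB, r₂ ≠ 0 ∧
      m * incl W _ r₂ = incl W _ r₁ := by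
    intro m
    have hm : m ∈ Algebra.adjoin L (Set.range (algebraMap K₁ M)) := by rw [hadj]; trivial
    induction hm using Algebra.adjoin_induction with
    | mem x hx =>
      obtain ⟨k, rfl⟩ := hx
      rcases (W.comap (algebraMap K₁ M)).mem_or_inv_mem k with hk | hk
      · exact ⟨genV W _ φB ⟨k, hk⟩, 1, one_ne_zero, by rw [map_one, mul_one]; rfl⟩
      · by_cases hk0 : k = 0
        · exact ⟨0, 1, one_ne_zero, by rw [hk0, map_zero, map_zero, zero_mul]⟩
        · refine ⟨1, genV W _ φB ⟨k⁻¹, hk⟩, ?_, ?_⟩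
          · intro h
            have := congrArg (incl W _) h
            rw [map_zero] at this
            change algebraMap K₁ M k⁻¹ = 0 at this
            exact inv_ne_zero hk0 ((map_eq_zero _).mp this)
          · change algebraMap K₁ M k * algebraMap K₁ M k⁻¹ = incl W _ 1
            rw [map_one, ← map_mul, mul_inv_cancel₀ hk0, map_one]
    | algebraMap l =>
      obtain ⟨b₁, b₂, hb₂, rfl⟩ := IsFractionRing.div_surjective (A := B) l
      have hb₂0 : b₂ ≠ 0 := nonZeroDivisors.ne_zero hb₂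
      have hb₂L : algebraMap B L b₂ ≠ 0 := by
        intro h
        exact hb₂0 (IsFractionRing.injective B L (h.trans (map_zero _).symm))
      refine ⟨genB W _ φB b₁, genB W _ φB b₂, ?_, ?_⟩
      · intro h
        have := congrArg (incl W _) h
        rw [map_zero] at this
        change algebraMap L M (algebraMap B L b₂) = 0 at this
        exact hb₂L ((map_eq_zero _).mp this)
      · change algebraMap L M (algebraMap B L b₁ / algebraMap B L b₂) *
          algebraMap L M (algebraMap B L b₂) = algebraMap L M (algebraMap B L b₁)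
        rw [← map_mul, div_mul_cancel₀ _ hb₂L]
    | add x y _ _ hx hy =>
      obtain ⟨r₁, r₂, hr₂, h1⟩ := hx
      obtain ⟨s₁, s₂, hs₂, h2⟩ := hy
      refine ⟨r₁ * s₂ + s₁ * r₂, r₂ * s₂, mul_ne_zero hr₂ hs₂, ?_⟩
      rw [map_mul, map_add, map_mul, map_mul, ← h1, ← h2]
      ring
    | mul x y _ _ hx hy =>
      obtain ⟨r₁, r₂, hr₂, h1⟩ := hx
      obtain ⟨s₁, s₂, hs₂, h2⟩ := hy
      refine ⟨r₁ * s₁, r₂ * s₂, mul_ne_zero hr₂ hs₂, ?_⟩
      rw [map_mul, map_mul, ← h1, ← h2]
      ring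
  have hdecomp := exists_decomp (genV W (algebraMap K₁ M) φB ϖ) hϖR0 hvnr harch hfrac
  have hval : ∀ m : M, m ≠ 0 →
      ∃ k : ℤ, W.valuation m = W.valuation (algebraMap K₁ M ϖ₀) ^ k := by
    intro m hm
    obtain ⟨k, a, b, ha, hb, hrel⟩ := hdecomp m hm
    refine ⟨k, ?_⟩
    have := congrArg W.valuation hrel
    rw [map_mul, map_mul, map_zpow₀, ha, hb, mul_one, mul_one, hιϖ] at this
    exact this
  have hunit : ∀ w : W, IsUnit w →
      ∃ a b : genRing W (algebraMap K₁ M) φB, IsUnit (b : W) ∧ w * (b : W) = a := by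
    intro w hw
    have hw1 : W.valuation (w : M) = 1 := (W.valuation_eq_one_iff w).mp hw
    have hwM : (w : M) ≠ 0 := by
      intro h
      rw [h, map_zero] at hw1
      exact zero_ne_one hw1
    obtain ⟨k, a, b, ha, hb, hrel⟩ := hdecomp (w : M) hwM
    have hk : k = 0 := by
      have h1 := congrArg W.valuation hrel
      rw [map_mul, map_mul, map_zpow₀, ha, hb, mul_one, mul_one, hw1, hιϖ] at h1
      rcases lt_trichotomy k 0 with h | h | h
      · have := (one_lt_zpow_iff_right_of_lt_one₀ hγϖpos hϖ₀1').mpr h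
        rw [← h1] at this
        exact absurd this (lt_irrefl _)
      · exact h
      · have := (zpow_lt_one_iff_right_of_lt_one₀ hγϖpos hϖ₀1').mpr h
        rw [← h1] at this
        exact absurd this (lt_irrefl _)
    rw [hk, zpow_zero, one_mul] at hrel
    exact ⟨a, b, (W.valuation_eq_one_iff (b : W)).mpr hb, Subtype.ext hrel⟩
  exact ⟨weaklyUnramified_of_val W (algebraMap K₁ M) ϖ hϖ₀1' hϖ₀0 hval,
    geomReduced_of_unit W (algebraMap K₁ M) φB hcompat hunit⟩

end Main

theorem main (A B K L : Type u) [CommRing A] [IsDomain A] [IsDiscreteValuationRing A]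
    [CommRing B] [IsDomain B] [IsDiscreteValuationRing B] [Algebra A B] [IsLocalHom (algebraMap A B)]
    [Field K] [Field L] [Algebra A K] [IsFractionRing A K] [Algebra B L] [IsFractionRing B L]
    [Algebra K L] [Algebra A L] [IsScalarTower A K L] [IsScalarTower A B L]
    (hw : EtRam.IsWeaklyUnramified A B)
    [Algebra.IsGeometricallyReduced (IsLocalRing.ResidueField A) (IsLocalRing.ResidueField B)]
    (K₁ : Type u) [Field K₁] [Algebra K K₁] [FiniteDimensional K K₁] :
    EtRam.IsSolution B K L K₁ := by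
  letI iAK₁ : Algebra A K₁ := ((algebraMap K K₁).comp (algebraMap A K)).toAlgebra
  haveI : IsScalarTower A K K₁ := IsScalarTower.of_algebraMap_eq' rfl
  intro M _ _ _ _ _ _ hadj W hW
  exact core A B K L K₁ hw M hadj W hW

end Groth.Agent.Lib.Helper14FSmooth
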