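import Mathlib
import Groth.Agent.Lib.Helper14FSmooth
import Groth.Agent.Lib.Helper14GeomRed

set_option autoImplicit false
set_option linter.style.haveILetI false
set_option linter.unusedSectionVars false
universe u

namespace Groth.Agent.Lib.Helper14Abhyankar

open IsLocalRing Polynomial Groth.Agent.Lib.Helper14FSmooth

section Alg

/-- `R[X]/(g)` is reduced for `R` reduced and `g` monic separable. -/
theorem isReduced_adjoinRoot_of_separable {R : Type*} [CommRing R] [IsReduced R] {g : R[X]}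
    (hgm : g.Monic) (hsep : g.Separable) : IsReduced (AdjoinRoot g) := by
  classical
  refine ⟨fun x hx => ?_⟩
  obtain ⟨h, rfl⟩ := AdjoinRoot.mk_surjective x
  set r := h %ₘ g with hr
  have hmk : AdjoinRoot.mk g h = AdjoinRoot.mk g r := by
    rw [AdjoinRoot.mk_eq_mk]
    refine ⟨h /ₘ g, ?_⟩
    have := Polynomial.modByMonic_add_div h g
    rw [hr]
    linear_combination this.symm
  rw [hmk] at hx ⊢
  obtain ⟨n, hn⟩ := hx
  rw [← map_pow, AdjoinRoot.mk_eq_zero] at hn
  suffices r = 0 by rw [this, map_zero]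
  ext i
  rw [coeff_zero]
  have hmem : r.coeff i ∈ nilradical R := by
    rw [nilradical_eq_sInf, Ideal.mem_sInf]
    intro p hp
    haveI : p.IsPrime := hp
    haveI : Nontrivial R := ⟨⟨0, 1, fun h01 => hp.ne_top (by
      rw [Ideal.eq_top_iff_one, ← h01]; exact p.zero_mem)⟩⟩
    let ψ : R →+* p.ResidueField := algebraMap R p.ResidueField
    have hgsep : (g.map ψ).Separable := hsep.map
    have hdvd : g.map ψ ∣ (r.map ψ) ^ n := by
      rw [← Polynomial.map_pow]
      exact Polynomial.map_dvd ψ hn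
    have hdvd' : g.map ψ ∣ r.map ψ := hgsep.squarefree.isRadical n _ hdvd
    have hdeg : (r.map ψ).degree < (g.map ψ).degree := by
      calc (r.map ψ).degree ≤ r.degree := Polynomial.degree_map_le
        _ < g.degree := Polynomial.degree_modByMonic_lt h hgm
        _ = (g.map ψ).degree := (hgm.degree_map ψ).symm
    have h0 : r.map ψ = 0 := Polynomial.eq_zero_of_dvd_of_degree_lt hdvd' hdeg
    have h1 : ψ (r.coeff i) = 0 := by
      rw [← Polynomial.coeff_map, h0, coeff_zero]
    exact (Ideal.algebraMap_residueField_eq_zero).mp h1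
  rw [nilradical_eq_zero] at hmem
  exact hmem

/-- `Θ[X]/(g)` is von Neumann regular for `Θ` reduced and integral over a field, `g` monic
separable. -/
theorem isVNR_adjoinRoot (k Θ : Type*) [Field k] [CommRing Θ] [Algebra k Θ] [IsReduced Θ]
    [Algebra.IsIntegral k Θ] {g : Θ[X]} (hgm : g.Monic) (hsep : g.Separable) :
    IsVNR (AdjoinRoot g) := by
  haveI : IsReduced (AdjoinRoot g) := isReduced_adjoinRoot_of_separable hgm hsep
  haveI : Module.Finite Θ (AdjoinRoot g) := hgm.finite_adjoinRoot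
  haveI : Algebra.IsIntegral Θ (AdjoinRoot g) := Algebra.IsIntegral.of_finite Θ (AdjoinRoot g)
  haveI : Algebra.IsIntegral k (AdjoinRoot g) := Algebra.IsIntegral.trans (R := k) Θ
  exact isVNR_of_isReduced_of_isIntegral k (AdjoinRoot g)

open TensorProduct in
/-- surjectivity onto `Ω ⊗ κW` from a von Neumann regular ring, and reducedness. -/
theorem isReduced_of_vnr_range {κV κW Ω S : Type*} [Field κV] [Field κW] [Algebra κV κW] [Field Ω]
    [Algebra κV Ω] [CommRing S] (hS : IsVNR S) (Ψ : S →+* Ω ⊗[κV] κW)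
    (h1 : ∀ ω : Ω, ω ⊗ₜ[κV] (1 : κW) ∈ Ψ.range) (G : Subring κW)
    (hG : ∀ x ∈ G, (1 : Ω) ⊗ₜ[κV] x ∈ Ψ.range)
    (hgen : ∀ x : κW, ∃ a ∈ G, ∃ b ∈ G, b ≠ 0 ∧ x * b = a) : IsReduced (Ω ⊗[κV] κW) := by
  have hTvnr : ∀ t ∈ Ψ.range, ∃ y ∈ Ψ.range, t = t * t * y := by
    rintro _ ⟨x, rfl⟩
    obtain ⟨y, hy⟩ := hS x
    refine ⟨Ψ y, ⟨y, rfl⟩, ?_⟩
    rw [← map_mul, ← map_mul, ← hy]
  have claim2 : ∀ x : κW, (1 : Ω) ⊗ₜ[κV] x ∈ Ψ.range := by
    intro x
    obtain ⟨a, ha, b, hb, hb0, hab⟩ := hgen x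
    have hx : x = a * b⁻¹ := by rw [← hab, mul_assoc, mul_inv_cancel₀ hb0, mul_one]
    have hbinv := tmul_inv_mem Ψ.range hTvnr b hb0 (hG b hb)
    have := Subring.mul_mem _ (hG a ha) hbinv
    rw [Algebra.TensorProduct.tmul_mul_tmul, mul_one] at this
    rw [hx]
    exact this
  have hsurj : Function.Surjective Ψ := by
    intro x
    change x ∈ Ψ.range
    induction x using TensorProduct.induction_on with
    | zero => exact Subring.zero_mem _
    | tmul ω x =>
      have h2 : ω ⊗ₜ[κV] x = (ω ⊗ₜ[κV] (1 : κW)) * ((1 : Ω) ⊗ₜ[κV] x) := by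
        rw [Algebra.TensorProduct.tmul_mul_tmul, mul_one, one_mul]
      rw [h2]
      exact Subring.mul_mem _ (h1 ω) (claim2 x)
    | add x y hx hy => exact Subring.add_mem _ hx hy
  exact (hS.of_surjective Ψ hsurj).isReduced

end Alg

section Val3

variable {Γ₀ : Type*} [LinearOrderedCommGroupWithZero Γ₀]

theorem exists_pow_of_uniformizer {K₁ : Type*} [Field K₁] (v : Valuation K₁ Γ₀) (ϖ : K₁)
    (hϖ0 : ϖ ≠ 0) (hmax : ∀ x, v x < 1 → v x ≤ v ϖ) :
    ∀ (N : ℕ) (x : K₁), x ≠ 0 → v x ≤ 1 → ¬ v x ≤ v ϖ ^ N → ∃ k : ℕ, v x = v ϖ ^ k := by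
  have hvϖ : 0 < v ϖ := zero_lt_iff.mpr ((Valuation.ne_zero_iff _).mpr hϖ0)
  intro N
  induction N with
  | zero =>
    intro x _ h1 hN
    rw [pow_zero] at hN
    exact absurd h1 hN
  | succ N ih =>
    intro x hx h1 hN
    by_cases h : v x = 1
    · exact ⟨0, by rw [h, pow_zero]⟩
    have hlt : v x < 1 := lt_of_le_of_ne h1 h
    have hle := hmax x hlt
    have hx' : x / ϖ ≠ 0 := div_ne_zero hx hϖ0
    have h1' : v (x / ϖ) ≤ 1 := by
      rw [map_div₀]
      exact (div_le_one₀ hvϖ).mpr hle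
    have hN' : ¬ v (x / ϖ) ≤ v ϖ ^ N := by
      intro hc
      apply hN
      rw [map_div₀, div_le_iff₀ hvϖ] at hc
      rw [pow_succ]
      exact hc
    obtain ⟨k, hk⟩ := ih (x / ϖ) hx' h1' hN'
    refine ⟨k + 1, ?_⟩
    rw [map_div₀, div_eq_iff hvϖ.ne'] at hk
    rw [hk, pow_succ]

end Val3

section Core2
open TensorProduct

variable {A B K₁ M : Type u} [CommRing A] [IsLocalRing A] [CommRing B] [IsLocalRing B]
  [Algebra A B] [IsLocalHom (algebraMap A B)] [Field K₁] [Field M]
  (W : ValuationSubring M) (f : K₁ →+* M) [Algebra A (W.comap f)]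
  [IsLocalHom (algebraMap A (W.comap f))] (φB : B →+* W) (yW : W)

/-- the subring of `W` generated by `W ∩ K₁`, `B` and an extra element. -/
def genRing' : Subring W :=
  Subring.closure (Set.range (EtRam.inclOfComap W f) ∪ Set.range φB ∪ {yW})

/-- `W ∩ K₁ → R'`. -/
def genV' : W.comap f →+* genRing' W f φB yW :=
  (EtRam.inclOfComap W f).codRestrict (genRing' W f φB yW)
    (fun x => Subring.subset_closure (Or.inl (Or.inl ⟨x, rfl⟩)))

/-- `B → R'`. -/
def genB' : B →+* genRing' W f φB yW :=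
  φB.codRestrict (genRing' W f φB yW) (fun x => Subring.subset_closure (Or.inl (Or.inr ⟨x, rfl⟩)))

/-- the extra element in `R'`. -/
def genY' : genRing' W f φB yW := ⟨yW, Subring.subset_closure (Or.inr rfl)⟩

set_option maxHeartbeats 1600000 in
theorem exists_vnr_relation'
    (hcompat : ∀ a : A,
      EtRam.inclOfComap W f (algebraMap A (W.comap f) a) = φB (algebraMap A B a))
    (ϖ : W.comap f) (hϖ : ∀ x ∈ maximalIdeal (W.comap f), ∃ x', x = ϖ * x')
    (hB : ∀ b ∈ maximalIdeal B, ∃ r : genRing' W f φB yW,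
      genB' W f φB yW b = genV' W f φB yW ϖ * r)
    (e : ℕ) (u₁ : W.comap f) (winv : B)
    (hrel : yW ^ e = φB winv * EtRam.inclOfComap W f u₁)
    (hS : IsVNR (AdjoinRoot (X ^ e - C ((residue B winv) ⊗ₜ[ResidueField A]
      (residue (W.comap f) u₁)) : (ResidueField B ⊗[ResidueField A]
        ResidueField (W.comap f))[X])))
    (r : genRing' W f φB yW) :
    ∃ y r₁ : genRing' W f φB yW, r * (1 - r * y) = genV' W f φB yW ϖ * r₁ := by
  classical
  set ιV := genV' W f φB yW with hιV
  set ιB := genB' W f φB yW with hιB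
  have hcompat' : ∀ a : A, ιV (algebraMap A (W.comap f) a) = ιB (algebraMap A B a) :=
    fun a => Subtype.ext (hcompat a)
  set I : Ideal (genRing' W f φB yW) := Ideal.span {ιV ϖ} with hI
  have hVker : ∀ x ∈ maximalIdeal (W.comap f), (Ideal.Quotient.mk I).comp ιV x = 0 := by
    intro x hx
    obtain ⟨x', rfl⟩ := hϖ x hx
    rw [RingHom.comp_apply, map_mul, Ideal.Quotient.eq_zero_iff_mem]
    exact Ideal.mul_mem_right _ _ (Ideal.subset_span rfl)
  have hBker : ∀ b ∈ maximalIdeal B, (Ideal.Quotient.mk I).comp ιB b = 0 := by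
    intro b hb
    obtain ⟨r, hr⟩ := hB b hb
    rw [RingHom.comp_apply, hr, Ideal.Quotient.eq_zero_iff_mem]
    exact Ideal.mul_mem_right _ _ (Ideal.subset_span rfl)
  let qV : ResidueField (W.comap f) →+* (genRing' W f φB yW) ⧸ I :=
    Ideal.Quotient.lift (maximalIdeal (W.comap f)) ((Ideal.Quotient.mk I).comp ιV) hVker
  let qB : ResidueField B →+* (genRing' W f φB yW) ⧸ I :=
    Ideal.Quotient.lift (maximalIdeal B) ((Ideal.Quotient.mk I).comp ιB) hBker
  have hqV : ∀ x, qV (residue _ x) = Ideal.Quotient.mk I (ιV x) := fun x => rfl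
  have hqB : ∀ x, qB (residue _ x) = Ideal.Quotient.mk I (ιB x) := fun x => rfl
  letI algQ : Algebra (ResidueField A) ((genRing' W f φB yW) ⧸ I) :=
    (qB.comp (algebraMap (ResidueField A) (ResidueField B))).toAlgebra
  let qB' : ResidueField B →ₐ[ResidueField A] (genRing' W f φB yW) ⧸ I :=
    { qB with commutes' := fun _ => rfl }
  let qV' : ResidueField (W.comap f) →ₐ[ResidueField A] (genRing' W f φB yW) ⧸ I :=
    { qV with
      commutes' := by
        intro abar
        obtain ⟨a, rfl⟩ := residue_surjective abar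
        change qV (residue _ (algebraMap A (W.comap f) a)) = qB (residue _ (algebraMap A B a))
        rw [hqV, hqB, hcompat'] }
  let Φ₀ := Algebra.TensorProduct.productMap qB' qV'
  have hΦV : ∀ x, Φ₀ (1 ⊗ₜ residue _ x) = Ideal.Quotient.mk I (ιV x) := by
    intro x
    rw [Algebra.TensorProduct.productMap_apply_tmul, map_one, one_mul]
    exact hqV x
  have hΦB : ∀ b, Φ₀ (residue _ b ⊗ₜ 1) = Ideal.Quotient.mk I (ιB b) := by
    intro b
    rw [Algebra.TensorProduct.productMap_apply_tmul, map_one, mul_one]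
    exact hqB b
  have hyrel : (genY' W f φB yW) ^ e = ιB winv * ιV u₁ := Subtype.ext (by
    rw [SubmonoidClass.coe_pow]
    exact hrel)
  have heval : eval₂ Φ₀.toRingHom (Ideal.Quotient.mk I (genY' W f φB yW))
      (X ^ e - C ((residue B winv) ⊗ₜ[ResidueField A] (residue (W.comap f) u₁))) = 0 := by
    rw [eval₂_sub, eval₂_pow, eval₂_X, eval₂_C, ← map_pow, hyrel, map_mul]
    have : Φ₀.toRingHom ((residue B winv) ⊗ₜ[ResidueField A] (residue (W.comap f) u₁)) =
        Ideal.Quotient.mk I (ιB winv) * Ideal.Quotient.mk I (ιV u₁) := by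
      change Φ₀ _ = _
      rw [Algebra.TensorProduct.productMap_apply_tmul]
      rfl
    rw [this, sub_self]
  let Φ := AdjoinRoot.lift Φ₀.toRingHom _ heval
  have hΦof : ∀ θ, Φ (AdjoinRoot.of _ θ) = Φ₀ θ := fun θ => AdjoinRoot.lift_of heval
  have hΦroot : Φ (AdjoinRoot.root _) = Ideal.Quotient.mk I (genY' W f φB yW) :=
    AdjoinRoot.lift_root heval
  have hsurj : Function.Surjective Φ := by
    intro q
    obtain ⟨⟨w, hw⟩, rfl⟩ := Ideal.Quotient.mk_surjective q
    change Ideal.Quotient.mk I ⟨w, hw⟩ ∈ Φ.range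
    induction hw using Subring.closure_induction with
    | mem w hw =>
      rcases hw with (⟨x, rfl⟩ | ⟨b, rfl⟩) | hy
      · exact ⟨AdjoinRoot.of _ (1 ⊗ₜ residue _ x), by rw [hΦof, hΦV]; rfl⟩
      · exact ⟨AdjoinRoot.of _ (residue _ b ⊗ₜ 1), by rw [hΦof, hΦB]; rfl⟩
      · rw [Set.mem_singleton_iff] at hy
        subst hy
        exact ⟨AdjoinRoot.root _, hΦroot⟩
    | zero => exact Subring.zero_mem _
    | one => exact Subring.one_mem _
    | add x y hx hy ihx ihy => exact Subring.add_mem _ ihx ihy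
    | neg x hx ihx => exact Subring.neg_mem _ ihx
    | mul x y hx hy ihx ihy => exact Subring.mul_mem _ ihx ihy
  have hQ : IsVNR ((genRing' W f φB yW) ⧸ I) := hS.of_surjective Φ hsurj
  obtain ⟨q, hq⟩ := hQ (Ideal.Quotient.mk I r)
  obtain ⟨y, rfl⟩ := Ideal.Quotient.mk_surjective q
  have hmem : r * (1 - r * y) ∈ I := by
    rw [← Ideal.Quotient.eq_zero_iff_mem, map_mul, map_sub, map_one, map_mul]
    linear_combination hq
  obtain ⟨r₁, hr₁⟩ := Ideal.mem_span_singleton'.mp hmem
  exact ⟨y, r₁, (hr₁.symm.trans (mul_comm _ _))⟩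

end Core2

section GR2
open TensorProduct

variable {A B K₁ M : Type u} [CommRing A] [IsLocalRing A] [CommRing B] [IsLocalRing B]
  [Algebra A B] [IsLocalHom (algebraMap A B)] [Field K₁] [Field M]
  (W : ValuationSubring M) (f : K₁ →+* M) [Algebra A (W.comap f)]
  [IsLocalHom (algebraMap A (W.comap f))] (φB : B →+* W) [IsLocalHom φB] (yW : W)

set_option maxHeartbeats 3200000 in
theorem geomReduced_of_unit'
    (hcompat : ∀ a : A,
      EtRam.inclOfComap W f (algebraMap A (W.comap f) a) = φB (algebraMap A B a))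
    (e : ℕ) (u₁ : W.comap f) (winv : B)
    (hrel : yW ^ e = φB winv * EtRam.inclOfComap W f u₁)
    (hS : IsVNR (AdjoinRoot (X ^ e - C ((residue B winv) ⊗ₜ[ResidueField A]
      (algebraMap (ResidueField (W.comap f)) (AlgebraicClosure (ResidueField (W.comap f)))
        (residue (W.comap f) u₁))) : (ResidueField B ⊗[ResidueField A]
        AlgebraicClosure (ResidueField (W.comap f)))[X])))
    (hunit : ∀ w : W, IsUnit w →
      ∃ a b : genRing' W f φB yW, IsUnit (b : W) ∧ w * (b : W) = a) :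
    @Algebra.IsGeometricallyReduced (ResidueField (W.comap f)) (ResidueField W) _ _
      (ResidueField.map (EtRam.inclOfComap W f)).toAlgebra := by
  classical
  letI algVW : Algebra (ResidueField (W.comap f)) (ResidueField W) :=
    (ResidueField.map (EtRam.inclOfComap W f)).toAlgebra
  rw [Algebra.isGeometricallyReduced_field_iff]
  letI algAW : Algebra (ResidueField A) (ResidueField W) :=
    ((algebraMap (ResidueField (W.comap f)) (ResidueField W)).comp
      (algebraMap (ResidueField A) (ResidueField (W.comap f)))).toAlgebra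
  haveI : IsScalarTower (ResidueField A) (ResidueField (W.comap f)) (ResidueField W) :=
    IsScalarTower.of_algebraMap_eq' rfl
  let βW : ResidueField B →ₐ[ResidueField A] ResidueField W :=
    { ResidueField.map φB with
      commutes' := by
        intro abar
        obtain ⟨a, rfl⟩ := residue_surjective abar
        change residue W (φB (algebraMap A B a)) =
          residue W (EtRam.inclOfComap W f (algebraMap A (W.comap f) a))
        rw [hcompat] }
  have hβW : ∀ b : B, βW (residue B b) = residue W (φB b) := fun b => rfl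
  have hVW : ∀ x : W.comap f, algebraMap (ResidueField (W.comap f)) (ResidueField W)
      (residue _ x) = residue W (EtRam.inclOfComap W f x) := fun x => rfl
  letI : TensorProduct.CompatibleSMul (ResidueField (W.comap f)) (ResidueField A)
      (AlgebraicClosure (ResidueField (W.comap f))) (ResidueField W) :=
    TensorProduct.CompatibleSMul.isScalarTower
  let Ψ₁ : AlgebraicClosure (ResidueField (W.comap f)) ⊗[ResidueField A] ResidueField B
      →ₐ[ResidueField A]
      AlgebraicClosure (ResidueField (W.comap f)) ⊗[ResidueField (W.comap f)] ResidueField W :=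
    (Algebra.TensorProduct.mapOfCompatibleSMul (ResidueField (W.comap f)) (ResidueField A)
      (ResidueField A) (AlgebraicClosure (ResidueField (W.comap f))) (ResidueField W)).comp
      (Algebra.TensorProduct.map (AlgHom.id (ResidueField A) _) βW)
  let Ψ₀ : ResidueField B ⊗[ResidueField A] AlgebraicClosure (ResidueField (W.comap f))
      →ₐ[ResidueField A]
      AlgebraicClosure (ResidueField (W.comap f)) ⊗[ResidueField (W.comap f)] ResidueField W :=
    Ψ₁.comp (Algebra.TensorProduct.comm (ResidueField A) (ResidueField B)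
      (AlgebraicClosure (ResidueField (W.comap f)))).toAlgHom
  have hΨ₀ : ∀ b ω, Ψ₀ (b ⊗ₜ ω) = ω ⊗ₜ βW b := fun _ _ => rfl
  have hyres : (residue W yW) ^ e = residue W (φB winv) *
      residue W (EtRam.inclOfComap W f u₁) := by
    rw [← map_pow, hrel, map_mul]
  have heval : eval₂ Ψ₀.toRingHom
      ((1 : AlgebraicClosure (ResidueField (W.comap f))) ⊗ₜ[ResidueField (W.comap f)]
        residue W yW)
      (X ^ e - C ((residue B winv) ⊗ₜ[ResidueField A]
        (algebraMap (ResidueField (W.comap f)) (AlgebraicClosure (ResidueField (W.comap f)))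
          (residue (W.comap f) u₁)))) = 0 := by
    rw [eval₂_sub, eval₂_pow, eval₂_X, eval₂_C]
    have h1 : Ψ₀.toRingHom ((residue B winv) ⊗ₜ[ResidueField A]
        (algebraMap (ResidueField (W.comap f)) (AlgebraicClosure (ResidueField (W.comap f)))
          (residue (W.comap f) u₁))) =
        (1 : AlgebraicClosure (ResidueField (W.comap f))) ⊗ₜ[ResidueField (W.comap f)]
          (residue W (φB winv) * residue W (EtRam.inclOfComap W f u₁)) := by
      change Ψ₀ _ = _
      rw [hΨ₀, hβW, Algebra.algebraMap_eq_smul_one, TensorProduct.smul_tmul, ← hVW,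
        Algebra.smul_def, mul_comm]
    rw [h1, Algebra.TensorProduct.tmul_pow, one_pow, hyres, sub_self]
  let Ψ := AdjoinRoot.lift Ψ₀.toRingHom _ heval
  have hΨof : ∀ θ, Ψ (AdjoinRoot.of _ θ) = Ψ₀ θ := fun θ => AdjoinRoot.lift_of heval
  have hΨroot : Ψ (AdjoinRoot.root _) =
      (1 : AlgebraicClosure (ResidueField (W.comap f))) ⊗ₜ[ResidueField (W.comap f)]
        residue W yW := AdjoinRoot.lift_root heval
  refine isReduced_of_vnr_range hS Ψ ?_ ((genRing' W f φB yW).map (residue W)) ?_ ?_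
  · intro ω
    refine ⟨AdjoinRoot.of _ (1 ⊗ₜ ω), ?_⟩
    rw [hΨof, hΨ₀, map_one]
  · rintro _ ⟨w, hw, rfl⟩
    change w ∈ Subring.closure _ at hw
    induction hw using Subring.closure_induction with
    | mem w hw =>
      rcases hw with (⟨x, rfl⟩ | ⟨b, rfl⟩) | hy
      · refine ⟨AdjoinRoot.of _ (1 ⊗ₜ (algebraMap _ _ (residue _ x))), ?_⟩
        rw [hΨof, hΨ₀, map_one, Algebra.algebraMap_eq_smul_one, TensorProduct.smul_tmul, ← hVW,
          Algebra.smul_def, mul_one]
      · refine ⟨AdjoinRoot.of _ (residue B b ⊗ₜ 1), ?_⟩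
        rw [hΨof, hΨ₀, hβW]
      · rw [Set.mem_singleton_iff] at hy
        subst hy
        exact ⟨AdjoinRoot.root _, hΨroot⟩
    | zero => rw [map_zero, TensorProduct.tmul_zero]; exact Subring.zero_mem _
    | one => rw [map_one]; exact Subring.one_mem _
    | add x y hx hy ihx ihy =>
      rw [map_add, TensorProduct.tmul_add]; exact Subring.add_mem _ ihx ihy
    | neg x hx ihx => rw [map_neg, TensorProduct.tmul_neg]; exact Subring.neg_mem _ ihx
    | mul x y hx hy ihx ihy =>
      rw [map_mul]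
      have := Subring.mul_mem _ ihx ihy
      rw [Algebra.TensorProduct.tmul_mul_tmul, mul_one] at this
      exact this
  · intro wbar
    obtain ⟨w, rfl⟩ := residue_surjective wbar
    by_cases hu : IsUnit w
    · obtain ⟨a, b, hb, hab⟩ := hunit w hu
      refine ⟨residue W (a : W), ⟨(a : W), a.2, rfl⟩, residue W (b : W), ⟨(b : W), b.2, rfl⟩,
        ?_, ?_⟩
      · rw [Ne, residue_eq_zero_iff, mem_maximalIdeal, mem_nonunits_iff, not_not]
        exact hb
      · rw [← map_mul, hab]
    · have h0 : residue W w = 0 := by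
        rw [residue_eq_zero_iff, mem_maximalIdeal, mem_nonunits_iff]
        exact hu
      exact ⟨0, Subring.zero_mem _, 1, Subring.one_mem _, one_ne_zero, by rw [h0, zero_mul]⟩

end GR2

section Kummer
open TensorProduct

theorem isVNR_kummer (k E F : Type*) [Field k] [Field E] [Field F] [Algebra k E] [Algebra k F]
    [Algebra.IsAlgebraic k F] [IsReduced (F ⊗[k] E)] (e : ℕ) (he : (e : k) ≠ 0)
    (c : E ⊗[k] F) (hc : IsUnit c) :
    IsVNR (AdjoinRoot (X ^ e - C c : (E ⊗[k] F)[X])) := by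
  haveI : IsReduced (E ⊗[k] F) :=
    isReduced_of_injective (Algebra.TensorProduct.comm k E F).toRingEquiv.toRingHom
      (Algebra.TensorProduct.comm k E F).injective
  haveI : Algebra.IsIntegral k F := Algebra.IsAlgebraic.isIntegral
  have he0 : e ≠ 0 := by
    rintro rfl
    exact he Nat.cast_zero
  have hmonic : (X ^ e - C c : (E ⊗[k] F)[X]).Monic := monic_X_pow_sub_C c he0
  have hunit : IsUnit ((e : ℕ) : E ⊗[k] F) := by
    have h1 : ((e : ℕ) : E ⊗[k] F) = algebraMap k (E ⊗[k] F) (e : k) := (map_natCast _ e).symm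
    rw [h1]
    exact (IsUnit.mk0 _ he).map _
  have hsep : (X ^ e - C c : (E ⊗[k] F)[X]).Separable := by
    have := separable_X_pow_sub_C_unit (n := e) hc.unit hunit
    rwa [IsUnit.unit_spec] at this
  exact isVNR_adjoinRoot E (E ⊗[k] F) hmonic hsep

end Kummer

section Main2
open TensorProduct

variable (A B K L K₁ : Type u) [CommRing A] [IsDomain A] [IsDiscreteValuationRing A]
    [CommRing B] [IsDomain B] [IsDiscreteValuationRing B] [Algebra A B] [IsLocalHom (algebraMap A B)]
    [Field K] [Field L] [Algebra A K] [IsFractionRing A K] [Algebra B L] [IsFractionRing B L]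
    [Algebra K L] [Algebra A L] [IsScalarTower A K L] [IsScalarTower A B L]
    [Field K₁] [Algebra K K₁] [FiniteDimensional K K₁] [Algebra A K₁] [IsScalarTower A K K₁]

set_option maxHeartbeats 6400000 in
theorem core2 (e : ℕ) (hek : (e : ResidueField A) ≠ 0)
    (hred : ∀ (F : Type u) [Field F] [Algebra (ResidueField A) F]
      [Algebra.IsAlgebraic (ResidueField A) F], IsReduced (F ⊗[ResidueField A] ResidueField B))
    (π : A) (hπ : Irreducible π) (πB : B) (hπB : Irreducible πB) (w : Bˣ)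
    (hwe : algebraMap A B π = w * πB ^ e)
    (M : Type u) [Field M] [Algebra K M] [Algebra L M] [Algebra K₁ M] [IsScalarTower K L M]
    [IsScalarTower K K₁ M]
    (hadj : Algebra.adjoin L (Set.range (algebraMap K₁ M)) = ⊤) (W : ValuationSubring M)
    (hW : EtRam.Dominates B ((algebraMap L M).comp (algebraMap B L)) W)
    (hA : ∀ a : A, algebraMap A K₁ a ∈ W.comap (algebraMap K₁ M)) :
    letI : Algebra A (W.comap (algebraMap K₁ M)) :=
      (RingHom.codRestrict (algebraMap A K₁) (W.comap (algebraMap K₁ M)) hA).toAlgebra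
    letI : Algebra (W.comap (algebraMap K₁ M)) W :=
      (EtRam.inclOfComap W (algebraMap K₁ M)).toAlgebra
    e ∣ Ideal.ramificationIdx' (maximalIdeal A) (maximalIdeal (W.comap (algebraMap K₁ M))) →
    EtRam.IsWeaklyUnramified (W.comap (algebraMap K₁ M)) W ∧
    @Algebra.IsGeometricallyReduced (ResidueField (W.comap (algebraMap K₁ M))) (ResidueField W) _ _
      (ResidueField.map (EtRam.inclOfComap W (algebraMap K₁ M))).toAlgebra := by
  classical
  have he0 : e ≠ 0 := by
    rintro rfl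
    exact hek Nat.cast_zero
  letI iBM : Algebra B M := ((algebraMap L M).comp (algebraMap B L)).toAlgebra
  haveI : IsScalarTower B L M := IsScalarTower.of_algebraMap_eq' rfl
  have hWB : EtRam.Dominates B (algebraMap B M) W := hW
  have hAM : ∀ a : A, algebraMap K₁ M (algebraMap A K₁ a) = algebraMap B M (algebraMap A B a) := by
    intro a
    rw [IsScalarTower.algebraMap_apply A K K₁, ← IsScalarTower.algebraMap_apply K K₁ M,
      IsScalarTower.algebraMap_apply K L M, ← IsScalarTower.algebraMap_apply A K L,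
      IsScalarTower.algebraMap_apply A B L, ← IsScalarTower.algebraMap_apply B L M]
  obtain ⟨hW1, hW2⟩ := (Groth.Agent.Lib.Helper14EtRam.dominates_iff _ W).mp hWB
  have hlocA : IsLocalHom (RingHom.codRestrict (algebraMap A K₁) (W.comap (algebraMap K₁ M)) hA) := by
    have hcomp : (RingHom.codRestrict (algebraMap B M) W hW1).comp (algebraMap A B) =
        (EtRam.inclOfComap W (algebraMap K₁ M)).comp
          (RingHom.codRestrict (algebraMap A K₁) (W.comap (algebraMap K₁ M)) hA) := by
      ext a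
      exact (hAM a).symm
    haveI : IsLocalHom (RingHom.codRestrict (algebraMap B M) W hW1) := hW2
    haveI h3 : IsLocalHom ((RingHom.codRestrict (algebraMap B M) W hW1).comp (algebraMap A B)) :=
      RingHom.isLocalHom_comp _ _
    rw [hcomp] at h3
    exact isLocalHom_of_comp _ (EtRam.inclOfComap W (algebraMap K₁ M))
  intro hdiv
  letI algAV : Algebra A (W.comap (algebraMap K₁ M)) :=
    (RingHom.codRestrict (algebraMap A K₁) (W.comap (algebraMap K₁ M)) hA).toAlgebra
  letI algVW : Algebra (W.comap (algebraMap K₁ M)) W :=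
    (EtRam.inclOfComap W (algebraMap K₁ M)).toAlgebra
  haveI : IsLocalHom (algebraMap A (W.comap (algebraMap K₁ M))) := hlocA
  let φB : B →+* W := RingHom.codRestrict (algebraMap B M) W hW1
  haveI : IsLocalHom φB := hW2
  have hcompat : ∀ a : A, EtRam.inclOfComap W (algebraMap K₁ M)
      (algebraMap A (W.comap (algebraMap K₁ M)) a) = φB (algebraMap A B a) :=
    fun a => Subtype.ext (hAM a)
  -- valuations
  set γ := W.valuation (algebraMap B M πB) with hγ
  have hπBM0 : algebraMap B M πB ≠ 0 := by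
    intro h0
    have h1 : algebraMap B L πB = 0 := (algebraMap L M).injective (by
      rw [map_zero]
      exact h0)
    exact hπB.ne_zero (IsFractionRing.injective B L (by rw [h1, map_zero]))
  have hγ0 : γ ≠ 0 := (Valuation.ne_zero_iff _).mpr hπBM0
  have hγpos : 0 < γ := zero_lt_iff.mpr hγ0
  have hγ1 : γ < 1 := hWB.2 _ ((mem_maximalIdeal _).mpr hπB.not_isUnit)
  have hLval : ∀ c : L, c ≠ 0 → ∃ z : ℤ, W.valuation (algebraMap L M c) = γ ^ z := by
    intro c hc
    obtain ⟨l, hl, _⟩ := Groth.Agent.Lib.Helper14Eisenstein.exists_zpow_valuation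
      (A := B) (K := L) W hWB hπB hc
    exact ⟨l, hl⟩
  have hKval : ∀ c : K, c ≠ 0 →
      ∃ z : ℤ, (W.valuation.comap (algebraMap K₁ M)) (algebraMap K K₁ c) = γ ^ z := by
    intro c hc
    obtain ⟨z, hz⟩ := hLval (algebraMap K L c) ((_root_.map_ne_zero _).mpr hc)
    refine ⟨z, ?_⟩
    rw [Valuation.comap_apply, ← IsScalarTower.algebraMap_apply K K₁ M,
      IsScalarTower.algebraMap_apply K L M]
    exact hz
  set D := (Module.finrank K K₁).factorial with hDdef
  have hD : 0 < D := Nat.factorial_pos _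
  have hpow : ∀ x : K₁, x ≠ 0 →
      ∃ z : ℤ, (W.valuation.comap (algebraMap K₁ M)) x ^ D = γ ^ z := by
    intro x hx
    have hint : IsIntegral K x := Algebra.IsIntegral.isIntegral x
    obtain ⟨n, hn1, hnd, z, hz⟩ := exists_pow_eq_zpow (W.valuation.comap (algebraMap K₁ M)) γ hγ0
      hKval hx (minpoly K x) (minpoly.ne_zero hint) (minpoly.aeval K x)
    have hnd' : n ≤ Module.finrank K K₁ := hnd.trans (minpoly.natDegree_le x)
    obtain ⟨c, hc⟩ := Nat.dvd_factorial hn1 hnd'
    refine ⟨z * c, ?_⟩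
    rw [hDdef, hc, pow_mul, hz, ← zpow_natCast, ← zpow_mul]
  have hvw : W.valuation (algebraMap B M (w : B)) = 1 :=
    Groth.Agent.Lib.Helper14Eisenstein.valuation_algebraMap_unit (A := B) W hWB w
  have hπM : algebraMap K₁ M (algebraMap A K₁ π) =
      algebraMap B M (w : B) * algebraMap B M πB ^ e := by
    rw [hAM, hwe, map_mul, map_pow]
  have hvπ : W.valuation (algebraMap K₁ M (algebraMap A K₁ π)) = γ ^ e := by
    rw [hπM, map_mul, map_pow, hvw, one_mul]
  have hx₀ : algebraMap A K₁ π ≠ 0 := by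
    intro h
    rw [h, map_zero, map_zero] at hvπ
    exact pow_ne_zero e hγ0 hvπ.symm
  have hx₀1 : (W.valuation.comap (algebraMap K₁ M)) (algebraMap A K₁ π) < 1 := by
    rw [Valuation.comap_apply, hvπ]
    exact pow_lt_one₀ zero_le hγ1 he0
  obtain ⟨ϖ₀, hϖ₀0, hϖ₀1, ⟨z₁, hz₁, hϖz⟩, hϖmax⟩ :=
    exists_uniformizer (W.valuation.comap (algebraMap K₁ M)) γ hγ0 hγ1 D hD hpow _ hx₀ hx₀1
  have hϖ₀1' : W.valuation (algebraMap K₁ M ϖ₀) < 1 := hϖ₀1
  have hϖmem : ϖ₀ ∈ W.comap (algebraMap K₁ M) := by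
    rw [ValuationSubring.mem_comap, ← W.valuation_le_one_iff]
    exact hϖ₀1'.le
  let ϖ : W.comap (algebraMap K₁ M) := ⟨ϖ₀, hϖmem⟩
  have hfϖ0 : algebraMap K₁ M ϖ₀ ≠ 0 := (_root_.map_ne_zero _).mpr hϖ₀0
  have hγϖpos : 0 < W.valuation (algebraMap K₁ M ϖ₀) :=
    zero_lt_iff.mpr ((Valuation.ne_zero_iff _).mpr hfϖ0)
  have hϖgen : ∀ x ∈ maximalIdeal (W.comap (algebraMap K₁ M)), ∃ x', x = ϖ * x' := by
    intro x hx
    have hx1 : W.valuation (algebraMap K₁ M (x : K₁)) < 1 := by
      have := map_nonunit (EtRam.inclOfComap W (algebraMap K₁ M)) x hx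
      exact (W.valuation_lt_one_iff _).mp this
    have hle : W.valuation (algebraMap K₁ M (x : K₁)) ≤ W.valuation (algebraMap K₁ M ϖ₀) :=
      hϖmax (x : K₁) hx1
    have hmem : (x : K₁) / ϖ₀ ∈ W.comap (algebraMap K₁ M) := by
      rw [ValuationSubring.mem_comap, ← W.valuation_le_one_iff, map_div₀, map_div₀]
      exact (div_le_one₀ hγϖpos).mpr hle
    refine ⟨⟨_, hmem⟩, Subtype.ext ?_⟩
    change (x : K₁) = ϖ₀ * ((x : K₁) / ϖ₀)
    rw [mul_div_cancel₀ _ hϖ₀0]
  have hϖm : ϖ ∈ maximalIdeal (W.comap (algebraMap K₁ M)) := by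
    rw [mem_maximalIdeal, mem_nonunits_iff]
    intro hu
    have hu' : IsUnit (EtRam.inclOfComap W (algebraMap K₁ M) ϖ) := hu.map _
    rw [W.valuation_eq_one_iff] at hu'
    exact absurd hu' (ne_of_lt hϖ₀1')
  -- structure of `V`
  obtain ⟨zπ, hzπ⟩ := hpow _ hx₀
  obtain ⟨N₀, hN₀⟩ := exists_not_le_pow γ
    ((W.valuation.comap (algebraMap K₁ M)) ϖ₀)
    ((W.valuation.comap (algebraMap K₁ M)) (algebraMap A K₁ π)) hγ0 hγ1 D z₁ hz₁ hϖz D hD zπ hzπ
  obtain ⟨e₁, he₁⟩ := exists_pow_of_uniformizer (W.valuation.comap (algebraMap K₁ M)) ϖ₀ hϖ₀0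
    hϖmax N₀ _ hx₀ hx₀1.le hN₀
  have he₁' : W.valuation (algebraMap K₁ M (algebraMap A K₁ π)) =
      W.valuation (algebraMap K₁ M ϖ₀) ^ e₁ := he₁
  have hu₁0 : algebraMap A K₁ π / ϖ₀ ^ e₁ ≠ 0 := div_ne_zero hx₀ (pow_ne_zero _ hϖ₀0)
  have hvu₁ : W.valuation (algebraMap K₁ M (algebraMap A K₁ π / ϖ₀ ^ e₁)) = 1 := by
    rw [map_div₀, map_div₀, map_pow, map_pow, he₁']
    exact div_self (pow_ne_zero _ hγϖpos.ne')
  have hu₁mem : algebraMap A K₁ π / ϖ₀ ^ e₁ ∈ W.comap (algebraMap K₁ M) := by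
    rw [ValuationSubring.mem_comap, ← W.valuation_le_one_iff, hvu₁]
  have hu₁invmem : (algebraMap A K₁ π / ϖ₀ ^ e₁)⁻¹ ∈ W.comap (algebraMap K₁ M) := by
    rw [ValuationSubring.mem_comap, ← W.valuation_le_one_iff, map_inv₀, map_inv₀, hvu₁, inv_one]
  let u₁ : W.comap (algebraMap K₁ M) := ⟨_, hu₁mem⟩
  have hu₁unit : IsUnit u₁ :=
    isUnit_iff_exists_inv.mpr ⟨⟨_, hu₁invmem⟩, Subtype.ext (mul_inv_cancel₀ hu₁0)⟩
  have hπV : algebraMap A (W.comap (algebraMap K₁ M)) π = ϖ ^ e₁ * u₁ := by
    apply Subtype.ext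
    change algebraMap A K₁ π = ϖ₀ ^ e₁ * (algebraMap A K₁ π / ϖ₀ ^ e₁)
    rw [mul_div_cancel₀ _ (pow_ne_zero _ hϖ₀0)]
  have hmV : maximalIdeal (W.comap (algebraMap K₁ M)) = Ideal.span {ϖ} := by
    apply le_antisymm
    · intro x hx
      obtain ⟨x', rfl⟩ := hϖgen x hx
      exact Ideal.mem_span_singleton.mpr ⟨x', rfl⟩
    · rw [Ideal.span_le, Set.singleton_subset_iff]
      exact hϖm
  have hmA : maximalIdeal A = Ideal.span {π} :=
    (IsDiscreteValuationRing.irreducible_iff_uniformizer π).mp hπ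
  have hmapV : (maximalIdeal A).map (algebraMap A (W.comap (algebraMap K₁ M))) =
      Ideal.span {ϖ ^ e₁} := by
    rw [hmA, Ideal.map_span, Set.image_singleton, hπV]
    exact Ideal.span_singleton_mul_right_unit hu₁unit _
  have hϖV0 : ϖ ≠ 0 := fun h => hϖ₀0 (congrArg Subtype.val h)
  have hram : Ideal.ramificationIdx' (maximalIdeal A)
      (maximalIdeal (W.comap (algebraMap K₁ M))) = e₁ := by
    apply Ideal.ramificationIdx'_spec
    · rw [hmapV, hmV, Ideal.span_singleton_pow]
    · rw [hmapV, hmV, Ideal.span_singleton_pow, Ideal.span_singleton_le_span_singleton]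
      rintro ⟨t, ht⟩
      have h1 : ϖ ^ e₁ * 1 = ϖ ^ e₁ * (ϖ * t) := by
        rw [mul_one, ← mul_assoc, ← pow_succ]
        exact ht
      have h2 := mul_left_cancel₀ (pow_ne_zero e₁ hϖV0) h1
      exact ((mem_maximalIdeal _).mp hϖm) (.of_mul_eq_one t h2.symm)
  rw [hram] at hdiv
  obtain ⟨c, hc⟩ := hdiv
  have he₁0 : e₁ ≠ 0 := by
    rintro rfl
    rw [pow_zero] at he₁
    exact absurd he₁ (ne_of_lt hx₀1)
  have hc0 : c ≠ 0 := by
    rintro rfl
    exact he₁0 (by rw [hc, mul_zero])
  -- the Kummer element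
  have hγc : γ = W.valuation (algebraMap K₁ M ϖ₀) ^ c := by
    have h1 : γ ^ e = (W.valuation (algebraMap K₁ M ϖ₀) ^ c) ^ e := by
      rw [← hvπ, he₁', hc, mul_comm, pow_mul]
    exact (pow_left_inj₀ zero_le zero_le he0).mp h1
  have hvy : W.valuation (algebraMap B M πB / algebraMap K₁ M ϖ₀ ^ c) = 1 := by
    rw [map_div₀, map_pow, ← hγc]
    exact div_self hγ0
  have hymem : algebraMap B M πB / algebraMap K₁ M ϖ₀ ^ c ∈ W := by
    rw [← W.valuation_le_one_iff, hvy]
  let yW : W := ⟨_, hymem⟩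
  have hwinv : algebraMap B M ((w⁻¹ : Bˣ) : B) * algebraMap B M (w : B) = 1 := by
    rw [← map_mul, Units.inv_mul, map_one]
  have hrel : yW ^ e = φB ((w⁻¹ : Bˣ) : B) * EtRam.inclOfComap W (algebraMap K₁ M) u₁ := by
    apply Subtype.ext
    change (algebraMap B M πB / algebraMap K₁ M ϖ₀ ^ c) ^ e =
      algebraMap B M ((w⁻¹ : Bˣ) : B) * algebraMap K₁ M (algebraMap A K₁ π / ϖ₀ ^ e₁)
    rw [map_div₀, hπM, map_pow, div_pow, ← pow_mul, hc, mul_comm c e]
    have hne : algebraMap K₁ M ϖ₀ ^ (e * c) ≠ 0 := pow_ne_zero _ hfϖ0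
    field_simp
    exact hwinv.symm
  -- `B`-side kernel
  have hmB : maximalIdeal B = Ideal.span {πB} :=
    (IsDiscreteValuationRing.irreducible_iff_uniformizer πB).mp hπB
  obtain ⟨c', rfl⟩ := Nat.exists_eq_succ_of_ne_zero hc0
  have hπBgen : genB' W (algebraMap K₁ M) φB yW πB =
      genV' W (algebraMap K₁ M) φB yW ϖ *
        (genY' W (algebraMap K₁ M) φB yW * genV' W (algebraMap K₁ M) φB yW ϖ ^ c') := by
    apply Subtype.ext
    apply Subtype.ext
    change algebraMap B M πB = algebraMap K₁ M ϖ₀ *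
      ((algebraMap B M πB / algebraMap K₁ M ϖ₀ ^ (c' + 1)) * algebraMap K₁ M ϖ₀ ^ c')
    have hne : algebraMap K₁ M ϖ₀ ^ (c' + 1) ≠ 0 := pow_ne_zero _ hfϖ0
    field_simp
    rw [pow_succ']
  have hB : ∀ b ∈ maximalIdeal B, ∃ r : genRing' W (algebraMap K₁ M) φB yW,
      genB' W (algebraMap K₁ M) φB yW b = genV' W (algebraMap K₁ M) φB yW ϖ * r := by
    intro b hb
    rw [hmB, Ideal.mem_span_singleton'] at hb
    obtain ⟨b', rfl⟩ := hb
    refine ⟨genB' W (algebraMap K₁ M) φB yW b' *
      (genY' W (algebraMap K₁ M) φB yW * genV' W (algebraMap K₁ M) φB yW ϖ ^ c'), ?_⟩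
    rw [map_mul, hπBgen]
    ring
  -- von Neumann regularity of the residue rings
  haveI : Algebra.IsAlgebraic (ResidueField A) (ResidueField (W.comap (algebraMap K₁ M))) :=
    residue_isAlgebraic A K K₁ (W.comap (algebraMap K₁ M)) (fun a => rfl)
  haveI hredV : IsReduced (ResidueField (W.comap (algebraMap K₁ M)) ⊗[ResidueField A]
      ResidueField B) := hred _
  obtain ⟨u₁inv, hu₁inv⟩ := isUnit_iff_exists_inv.mp hu₁unit
  have hcΘ : IsUnit ((residue B ((w⁻¹ : Bˣ) : B)) ⊗ₜ[ResidueField A]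
      (residue (W.comap (algebraMap K₁ M)) u₁)) := by
    refine isUnit_iff_exists_inv.mpr ⟨(residue B (w : B)) ⊗ₜ[ResidueField A]
      (residue (W.comap (algebraMap K₁ M)) u₁inv), ?_⟩
    rw [Algebra.TensorProduct.tmul_mul_tmul, ← map_mul, ← map_mul, Units.inv_mul, hu₁inv,
      map_one, map_one, Algebra.TensorProduct.one_def]
  have hS := isVNR_kummer (ResidueField A) (ResidueField B)
    (ResidueField (W.comap (algebraMap K₁ M))) e hek _ hcΘ
  have hvnr := exists_vnr_relation' W (algebraMap K₁ M) φB yW hcompat ϖ hϖgen hB e u₁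
    ((w⁻¹ : Bˣ) : B) hrel hS
  haveI : Algebra.IsAlgebraic (ResidueField A)
      (AlgebraicClosure (ResidueField (W.comap (algebraMap K₁ M)))) :=
    Algebra.IsAlgebraic.trans (ResidueField A) (ResidueField (W.comap (algebraMap K₁ M)))
      (AlgebraicClosure (ResidueField (W.comap (algebraMap K₁ M))))
  haveI hredΩ : IsReduced (AlgebraicClosure (ResidueField (W.comap (algebraMap K₁ M)))
      ⊗[ResidueField A] ResidueField B) := hred _
  have hcΩ : IsUnit ((residue B ((w⁻¹ : Bˣ) : B)) ⊗ₜ[ResidueField A]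
      (algebraMap (ResidueField (W.comap (algebraMap K₁ M)))
        (AlgebraicClosure (ResidueField (W.comap (algebraMap K₁ M))))
        (residue (W.comap (algebraMap K₁ M)) u₁))) := by
    refine isUnit_iff_exists_inv.mpr ⟨(residue B (w : B)) ⊗ₜ[ResidueField A]
      (algebraMap (ResidueField (W.comap (algebraMap K₁ M)))
        (AlgebraicClosure (ResidueField (W.comap (algebraMap K₁ M))))
        (residue (W.comap (algebraMap K₁ M)) u₁inv)), ?_⟩
    rw [Algebra.TensorProduct.tmul_mul_tmul, ← map_mul, ← map_mul, ← map_mul, Units.inv_mul,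
      hu₁inv, map_one, map_one, map_one, Algebra.TensorProduct.one_def]
  have hSΩ := isVNR_kummer (ResidueField A) (ResidueField B)
    (AlgebraicClosure (ResidueField (W.comap (algebraMap K₁ M)))) e hek _ hcΩ
  -- the generated ring
  have hιϖ : incl W (genRing' W (algebraMap K₁ M) φB yW) (genV' W (algebraMap K₁ M) φB yW ϖ) =
      algebraMap K₁ M ϖ₀ := rfl
  have hϖR0 : genV' W (algebraMap K₁ M) φB yW ϖ ≠ 0 := by
    intro h
    have := congrArg (incl W (genRing' W (algebraMap K₁ M) φB yW)) h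
    rw [hιϖ, map_zero] at this
    exact hfϖ0 this
  have halg : ∀ m : M, IsIntegral L m := by
    have hle : Algebra.adjoin L (Set.range (algebraMap K₁ M)) ≤ integralClosure L M := by
      apply Algebra.adjoin_le
      rintro _ ⟨k, rfl⟩
      have h1 : IsIntegral K k := Algebra.IsIntegral.isIntegral k
      have h2 : IsIntegral K (algebraMap K₁ M k) := h1.map (IsScalarTower.toAlgHom K K₁ M)
      exact h2.tower_top
    intro m
    have : m ∈ Algebra.adjoin L (Set.range (algebraMap K₁ M)) := by rw [hadj]; trivial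
    exact hle this
  have harch : ∀ r : genRing' W (algebraMap K₁ M) φB yW, r ≠ 0 → ∃ N : ℕ,
      ¬ W.valuation (incl W _ r) ≤
        W.valuation (incl W _ (genV' W (algebraMap K₁ M) φB yW ϖ)) ^ N := by
    intro r hr
    have hr' : incl W _ r ≠ 0 := fun h => hr (incl_injective W _ (h.trans (map_zero _).symm))
    obtain ⟨p, hpm, hpr⟩ := halg (incl W _ r)
    obtain ⟨n, hn1, _, z, hz⟩ := exists_pow_eq_zpow W.valuation γ hγ0 hLval hr' p hpm.ne_zero
      (by rw [aeval_def]; exact hpr)
    exact exists_not_le_pow γ (W.valuation (algebraMap K₁ M ϖ₀)) _ hγ0 hγ1 D z₁ hz₁ hϖz n hn1 z hz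
  have hfrac : ∀ m : M, ∃ r₁ r₂ : genRing' W (algebraMap K₁ M) φB yW, r₂ ≠ 0 ∧
      m * incl W _ r₂ = incl W _ r₁ := by
    intro m
    have hm : m ∈ Algebra.adjoin L (Set.range (algebraMap K₁ M)) := by rw [hadj]; trivial
    induction hm using Algebra.adjoin_induction with
    | mem x hx =>
      obtain ⟨k, rfl⟩ := hx
      rcases (W.comap (algebraMap K₁ M)).mem_or_inv_mem k with hk | hk
      · exact ⟨genV' W _ φB yW ⟨k, hk⟩, 1, one_ne_zero, by rw [map_one, mul_one]; rfl⟩
      · by_cases hk0 : k = 0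
        · exact ⟨0, 1, one_ne_zero, by rw [hk0, map_zero, map_zero, zero_mul]⟩
        · refine ⟨1, genV' W _ φB yW ⟨k⁻¹, hk⟩, ?_, ?_⟩
          · intro h
            have := congrArg (incl W _) h
            rw [map_zero] at this
            change algebraMap K₁ M k⁻¹ = 0 at this
            exact inv_ne_zero hk0 ((map_eq_zero _).mp this)
          · change algebraMap K₁ M k * algebraMap K₁ M k⁻¹ = incl W _ 1
            rw [map_one, ← map_mul, mul_inv_cancel₀ hk0, map_one]
    | algebraMap l =>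
      obtain ⟨b₁, b₂, hb₂, rfl⟩ := IsFractionRing.div_surjective (A := B) l
      have hb₂0 : b₂ ≠ 0 := nonZeroDivisors.ne_zero hb₂
      have hb₂L : algebraMap B L b₂ ≠ 0 := by
        intro h
        exact hb₂0 (IsFractionRing.injective B L (h.trans (map_zero _).symm))
      refine ⟨genB' W _ φB yW b₁, genB' W _ φB yW b₂, ?_, ?_⟩
      · intro h
        have := congrArg (incl W _) h
        rw [map_zero] at this
        change algebraMap L M (algebraMap B L b₂) = 0 at this
        exact hb₂L ((map_eq_zero _).mp this)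
      · change algebraMap L M (algebraMap B L b₁ / algebraMap B L b₂) *
          algebraMap L M (algebraMap B L b₂) = algebraMap L M (algebraMap B L b₁)
        rw [← map_mul, div_mul_cancel₀ _ hb₂L]
    | add x y _ _ hx hy =>
      obtain ⟨r₁, r₂, hr₂, h1⟩ := hx
      obtain ⟨s₁, s₂, hs₂, h2⟩ := hy
      refine ⟨r₁ * s₂ + s₁ * r₂, r₂ * s₂, mul_ne_zero hr₂ hs₂, ?_⟩
      rw [map_mul, map_add, map_mul, map_mul, ← h1, ← h2]
      ring
    | mul x y _ _ hx hy =>
      obtain ⟨r₁, r₂, hr₂, h1⟩ := hx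
      obtain ⟨s₁, s₂, hs₂, h2⟩ := hy
      refine ⟨r₁ * s₁, r₂ * s₂, mul_ne_zero hr₂ hs₂, ?_⟩
      rw [map_mul, map_mul, ← h1, ← h2]
      ring
  have hdecomp := exists_decomp (genV' W (algebraMap K₁ M) φB yW ϖ) hϖR0 hvnr harch hfrac
  have hval : ∀ m : M, m ≠ 0 →
      ∃ k : ℤ, W.valuation m = W.valuation (algebraMap K₁ M ϖ₀) ^ k := by
    intro m hm
    obtain ⟨k, a, b, ha, hb, hrel⟩ := hdecomp m hm
    refine ⟨k, ?_⟩
    have := congrArg W.valuation hrel
    rw [map_mul, map_mul, map_zpow₀, ha, hb, mul_one, mul_one, hιϖ] at this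
    exact this
  have hunit : ∀ w : W, IsUnit w →
      ∃ a b : genRing' W (algebraMap K₁ M) φB yW, IsUnit (b : W) ∧ w * (b : W) = a := by
    intro w hw
    have hw1 : W.valuation (w : M) = 1 := (W.valuation_eq_one_iff w).mp hw
    have hwM : (w : M) ≠ 0 := by
      intro h
      rw [h, map_zero] at hw1
      exact zero_ne_one hw1
    obtain ⟨k, a, b, ha, hb, hrel⟩ := hdecomp (w : M) hwM
    have hk : k = 0 := by
      have h1 := congrArg W.valuation hrel
      rw [map_mul, map_mul, map_zpow₀, ha, hb, mul_one, mul_one, hw1, hιϖ] at h1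
      rcases lt_trichotomy k 0 with h | h | h
      · have := (one_lt_zpow_iff_right_of_lt_one₀ hγϖpos hϖ₀1').mpr h
        rw [← h1] at this
        exact absurd this (lt_irrefl _)
      · exact h
      · have := (zpow_lt_one_iff_right_of_lt_one₀ hγϖpos hϖ₀1').mpr h
        rw [← h1] at this
        exact absurd this (lt_irrefl _)
    rw [hk, zpow_zero, one_mul] at hrel
    exact ⟨a, b, (W.valuation_eq_one_iff (b : W)).mpr hb, Subtype.ext hrel⟩
  exact ⟨weaklyUnramified_of_val W (algebraMap K₁ M) ϖ hϖ₀1' hϖ₀0 hval,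
    geomReduced_of_unit' W (algebraMap K₁ M) φB yW hcompat e u₁ ((w⁻¹ : Bˣ) : B) hrel hSΩ hunit⟩

end Main2

open TensorProduct in
theorem main2 (A B K L : Type u) [CommRing A] [IsDomain A] [IsDiscreteValuationRing A]
    [CommRing B] [IsDomain B] [IsDiscreteValuationRing B] [Algebra A B] [IsLocalHom (algebraMap A B)]
    (hinj : Function.Injective (algebraMap A B))
    [Field K] [Field L] [Algebra A K] [IsFractionRing A K] [Algebra B L] [IsFractionRing B L]
    [Algebra K L] [Algebra A L] [IsScalarTower A K L] [IsScalarTower A B L]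
    (htame : CharZero (IsLocalRing.ResidueField A) ∨
      ∃ p : ℕ, p.Prime ∧ CharP (IsLocalRing.ResidueField A) p ∧
        ¬ p ∣ Ideal.ramificationIdx' (IsLocalRing.maximalIdeal A) (IsLocalRing.maximalIdeal B) ∧
        Algebra.IsGeometricallyReduced (IsLocalRing.ResidueField A) (IsLocalRing.ResidueField B))
    (K₁ : Type u) [Field K₁] [Algebra K K₁] [FiniteDimensional K K₁] :
    EtRam.ForallLocalExt B K L K₁ (fun M _ W f =>
      ∀ hA : ∀ a : A, (algebraMap K K₁) (algebraMap A K a) ∈ W.comap f,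
        letI : Algebra A (W.comap f) := (RingHom.codRestrict ((algebraMap K K₁).comp (algebraMap A K)) (W.comap f) hA).toAlgebra
        letI : Algebra (W.comap f) W := (EtRam.inclOfComap W f).toAlgebra
        Ideal.ramificationIdx' (IsLocalRing.maximalIdeal A) (IsLocalRing.maximalIdeal B) ∣
          Ideal.ramificationIdx' (IsLocalRing.maximalIdeal A) (IsLocalRing.maximalIdeal (W.comap f)) →
        EtRam.IsWeaklyUnramified (W.comap f) W ∧
          @Algebra.IsGeometricallyReduced (IsLocalRing.ResidueField (W.comap f)) (IsLocalRing.ResidueField W) _ _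
            (IsLocalRing.ResidueField.map (EtRam.inclOfComap W f)).toAlgebra) := by
  letI iAK₁ : Algebra A K₁ := ((algebraMap K K₁).comp (algebraMap A K)).toAlgebra
  haveI : IsScalarTower A K K₁ := IsScalarTower.of_algebraMap_eq' rfl
  obtain ⟨π, hπ⟩ := IsDiscreteValuationRing.exists_irreducible A
  obtain ⟨πB, hπB⟩ := IsDiscreteValuationRing.exists_irreducible B
  have hπ0 : algebraMap A B π ≠ 0 := (map_ne_zero_iff _ hinj).mpr hπ.ne_zero
  obtain ⟨e, w, hwe⟩ := IsDiscreteValuationRing.eq_unit_mul_pow_irreducible hπ0 hπB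
  have hramB : Ideal.ramificationIdx' (maximalIdeal A) (maximalIdeal B) = e := by
    have hmA := (IsDiscreteValuationRing.irreducible_iff_uniformizer π).mp hπ
    have hmB := (IsDiscreteValuationRing.irreducible_iff_uniformizer πB).mp hπB
    have hmap : (maximalIdeal A).map (algebraMap A B) = Ideal.span {πB ^ e} := by
      rw [hmA, Ideal.map_span, Set.image_singleton, hwe, mul_comm]
      exact Ideal.span_singleton_mul_right_unit w.isUnit _
    apply Ideal.ramificationIdx'_spec
    · rw [hmap, hmB, Ideal.span_singleton_pow]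
    · rw [hmap, hmB, Ideal.span_singleton_pow, Ideal.span_singleton_le_span_singleton]
      rintro ⟨t, ht⟩
      have h1 : πB ^ e * 1 = πB ^ e * (πB * t) := by
        rw [mul_one, ← mul_assoc, ← pow_succ]
        exact ht
      have h2 := mul_left_cancel₀ (pow_ne_zero e hπB.ne_zero) h1
      exact hπB.not_isUnit (.of_mul_eq_one t h2.symm)
  have he0 : e ≠ 0 := by
    rintro rfl
    rw [pow_zero, mul_one] at hwe
    have hu : IsUnit (algebraMap A B π) := hwe ▸ w.isUnit
    exact hπ.not_isUnit (isUnit_of_map_unit (algebraMap A B) π hu)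
  have hek : (e : ResidueField A) ≠ 0 := by
    rcases htame with h0 | ⟨p, hp, hchar, hpe, _⟩
    · exact Nat.cast_ne_zero.mpr he0
    · rw [hramB] at hpe
      intro h
      exact hpe ((CharP.cast_eq_zero_iff _ p e).mp h)
  have hred : ∀ (F : Type u) [Field F] [Algebra (ResidueField A) F]
      [Algebra.IsAlgebraic (ResidueField A) F],
      IsReduced (F ⊗[ResidueField A] ResidueField B) := by
    intro F _ _ _
    rcases htame with h0 | ⟨p, hp, hchar, hpe, hgr⟩
    · haveI := h0
      haveI : Algebra.IsSeparable (ResidueField A) F := inferInstance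
      exact Groth.Agent.Lib.Helper14.GeomRed.isReduced_tensor_of_isSeparable
    · haveI := hgr
      infer_instance
  intro M _ _ _ _ _ _ hadj W hW hA
  rw [hramB]
  exact core2 A B K L K₁ e hek hred π hπ πB hπB w hwe M hadj W hW hA

end Groth.Agent.Lib.Helper14Abhyankar
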