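import Mathlib
import Groth.Agent.Lib.Helper14Abhyankar

set_option autoImplicit false
set_option linter.style.haveILetI false
set_option linter.unusedSectionVars false
universe u

namespace Groth.Agent.Lib.Helper14TameBC

open IsLocalRing Polynomial Groth.Agent.Lib.Helper14FSmooth Groth.Agent.Lib.Helper14Abhyankar

section Aux

theorem bezout_identities {M : Type*} [Field M] (g h : M) (hg : g ≠ 0) (hh : h ≠ 0) (a b : ℕ)
    (s t : ℤ) (hst : s * a + t * b = 1) :
    (g ^ s * h ^ t) ^ a = g * (h ^ a / g ^ b) ^ t ∧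
    (g ^ s * h ^ t) ^ b = h * (h ^ a / g ^ b) ^ (-s) := by
  have hgz : ∀ z : ℤ, g ^ z ≠ 0 := fun z => zpow_ne_zero z hg
  have hhz : ∀ z : ℤ, h ^ z ≠ 0 := fun z => zpow_ne_zero z hh
  constructor
  · have e1 : (g ^ s * h ^ t) ^ a = g ^ (s * a) * h ^ (t * a) := by
      rw [mul_pow, ← zpow_natCast (g ^ s), ← zpow_natCast (h ^ t), ← zpow_mul, ← zpow_mul]
    have e2 : g * (h ^ a / g ^ b) ^ t = g ^ (1 - b * t) * h ^ (a * t) := by
      rw [div_zpow, ← zpow_natCast h, ← zpow_natCast g, ← zpow_mul, ← zpow_mul, zpow_sub₀ hg,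
        zpow_one, div_mul_comm]
      ring
    rw [e1, e2]
    congr 2
    · linarith
    · ring
  · have e1 : (g ^ s * h ^ t) ^ b = g ^ (s * b) * h ^ (t * b) := by
      rw [mul_pow, ← zpow_natCast (g ^ s), ← zpow_natCast (h ^ t), ← zpow_mul, ← zpow_mul]
    have e2 : h * (h ^ a / g ^ b) ^ (-s) = g ^ (b * s) * h ^ (1 - a * s) := by
      rw [div_zpow, ← zpow_natCast h, ← zpow_natCast g, ← zpow_mul, ← zpow_mul, zpow_sub₀ hh,
        zpow_one, mul_neg, mul_neg, zpow_neg, zpow_neg]
      field_simp
    rw [e1, e2]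
    congr 2
    · ring
    · linarith

theorem ramificationIdx'_eq {A V : Type*} [CommRing A] [IsLocalRing A] [CommRing V] [IsDomain V]
    [IsLocalRing V] [Algebra A V] (π : A) (hπ : maximalIdeal A = Ideal.span {π}) (ϖ : V)
    (hϖ : maximalIdeal V = Ideal.span {ϖ}) (hϖ0 : ϖ ≠ 0) (e : ℕ) (u : V) (hu : IsUnit u)
    (h : algebraMap A V π = u * ϖ ^ e) :
    Ideal.ramificationIdx' (maximalIdeal A) (maximalIdeal V) = e := by
  have hmap : (maximalIdeal A).map (algebraMap A V) = Ideal.span {ϖ ^ e} := by
    rw [hπ, Ideal.map_span, Set.image_singleton, h, mul_comm]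
    exact Ideal.span_singleton_mul_right_unit hu _
  have hϖnu : ¬ IsUnit ϖ := by
    have : ϖ ∈ maximalIdeal V := by rw [hϖ]; exact Ideal.subset_span rfl
    exact (mem_maximalIdeal _).mp this
  apply Ideal.ramificationIdx'_spec
  · rw [hmap, hϖ, Ideal.span_singleton_pow]
  · rw [hmap, hϖ, Ideal.span_singleton_pow, Ideal.span_singleton_le_span_singleton]
    rintro ⟨t, ht⟩
    have h1 : ϖ ^ e * 1 = ϖ ^ e * (ϖ * t) := by
      rw [mul_one, ← mul_assoc, ← pow_succ]
      exact ht
    have h2 := mul_left_cancel₀ (pow_ne_zero e hϖ0) h1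
    exact hϖnu (.of_mul_eq_one t h2.symm)

end Aux

section Core3
open TensorProduct

variable {A B K₁ M : Type u} [CommRing A] [IsLocalRing A] [CommRing B] [IsLocalRing B]
  [Algebra A B] [IsLocalHom (algebraMap A B)] [Field K₁] [Field M]
  (W : ValuationSubring M) (f : K₁ →+* M) [Algebra A (W.comap f)]
  [IsLocalHom (algebraMap A (W.comap f))] (φB : B →+* W) (yW yiW pW : W)

/-- the subring of `W` generated by `W ∩ K₁`, `B` and three extra elements. -/
def genRing3 : Subring W :=
  Subring.closure (Set.range (EtRam.inclOfComap W f) ∪ Set.range φB ∪ {yW, yiW, pW})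

/-- `W ∩ K₁ → R''`. -/
def genV3 : W.comap f →+* genRing3 W f φB yW yiW pW :=
  (EtRam.inclOfComap W f).codRestrict (genRing3 W f φB yW yiW pW)
    (fun x => Subring.subset_closure (Or.inl (Or.inl ⟨x, rfl⟩)))

/-- `B → R''`. -/
def genB3 : B →+* genRing3 W f φB yW yiW pW :=
  φB.codRestrict (genRing3 W f φB yW yiW pW)
    (fun x => Subring.subset_closure (Or.inl (Or.inr ⟨x, rfl⟩)))

/-- the extra elements in `R''`. -/
def genY3 : genRing3 W f φB yW yiW pW :=
  ⟨yW, Subring.subset_closure (Or.inr (Or.inl rfl))⟩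

def genYi3 : genRing3 W f φB yW yiW pW :=
  ⟨yiW, Subring.subset_closure (Or.inr (Or.inr (Or.inl rfl)))⟩

def genP3 : genRing3 W f φB yW yiW pW :=
  ⟨pW, Subring.subset_closure (Or.inr (Or.inr (Or.inr rfl)))⟩

set_option maxHeartbeats 1600000 in
theorem exists_vnr_relation3
    (hcompat : ∀ a : A,
      EtRam.inclOfComap W f (algebraMap A (W.comap f) a) = φB (algebraMap A B a))
    (hV : ∀ x ∈ maximalIdeal (W.comap f), ∃ r : genRing3 W f φB yW yiW pW,
      genV3 W f φB yW yiW pW x = genP3 W f φB yW yiW pW * r)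
    (hB : ∀ b ∈ maximalIdeal B, ∃ r : genRing3 W f φB yW yiW pW,
      genB3 W f φB yW yiW pW b = genP3 W f φB yW yiW pW * r)
    (d : ℕ) (uinv : W.comap f) (w : B)
    (hrel : yW ^ d = φB w * EtRam.inclOfComap W f uinv)
    (n₀ : ℕ) (b₀ : B) (x₀ : W.comap f)
    (hyi : yiW = yW ^ n₀ * φB b₀ * EtRam.inclOfComap W f x₀)
    (hS : IsVNR (AdjoinRoot (X ^ d - C ((residue B w) ⊗ₜ[ResidueField A]
      (residue (W.comap f) uinv)) : (ResidueField B ⊗[ResidueField A]
        ResidueField (W.comap f))[X])))
    (r : genRing3 W f φB yW yiW pW) :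
    ∃ y r₁ : genRing3 W f φB yW yiW pW, r * (1 - r * y) = genP3 W f φB yW yiW pW * r₁ := by
  classical
  set ιV := genV3 W f φB yW yiW pW with hιV
  set ιB := genB3 W f φB yW yiW pW with hιB
  have hcompat' : ∀ a : A, ιV (algebraMap A (W.comap f) a) = ιB (algebraMap A B a) :=
    fun a => Subtype.ext (hcompat a)
  set I : Ideal (genRing3 W f φB yW yiW pW) := Ideal.span {genP3 W f φB yW yiW pW} with hI
  have hVker : ∀ x ∈ maximalIdeal (W.comap f), (Ideal.Quotient.mk I).comp ιV x = 0 := by
    intro x hx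
    obtain ⟨r, hr⟩ := hV x hx
    rw [RingHom.comp_apply, hr, Ideal.Quotient.eq_zero_iff_mem]
    exact Ideal.mul_mem_right _ _ (Ideal.subset_span rfl)
  have hBker : ∀ b ∈ maximalIdeal B, (Ideal.Quotient.mk I).comp ιB b = 0 := by
    intro b hb
    obtain ⟨r, hr⟩ := hB b hb
    rw [RingHom.comp_apply, hr, Ideal.Quotient.eq_zero_iff_mem]
    exact Ideal.mul_mem_right _ _ (Ideal.subset_span rfl)
  let qV : ResidueField (W.comap f) →+* (genRing3 W f φB yW yiW pW) ⧸ I :=
    Ideal.Quotient.lift (maximalIdeal (W.comap f)) ((Ideal.Quotient.mk I).comp ιV) hVker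
  let qB : ResidueField B →+* (genRing3 W f φB yW yiW pW) ⧸ I :=
    Ideal.Quotient.lift (maximalIdeal B) ((Ideal.Quotient.mk I).comp ιB) hBker
  have hqV : ∀ x, qV (residue _ x) = Ideal.Quotient.mk I (ιV x) := fun x => rfl
  have hqB : ∀ x, qB (residue _ x) = Ideal.Quotient.mk I (ιB x) := fun x => rfl
  letI algQ : Algebra (ResidueField A) ((genRing3 W f φB yW yiW pW) ⧸ I) :=
    (qB.comp (algebraMap (ResidueField A) (ResidueField B))).toAlgebra
  let qB' : ResidueField B →ₐ[ResidueField A] (genRing3 W f φB yW yiW pW) ⧸ I :=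
    { qB with commutes' := fun _ => rfl }
  let qV' : ResidueField (W.comap f) →ₐ[ResidueField A] (genRing3 W f φB yW yiW pW) ⧸ I :=
    { qV with
      commutes' := by
        intro abar
        obtain ⟨a, rfl⟩ := residue_surjective abar
        change qV (residue _ (algebraMap A (W.comap f) a)) = qB (residue _ (algebraMap A B a))
        rw [hqV, hqB, hcompat'] }
  let Φ₀ := Algebra.TensorProduct.productMap qB' qV'
  have hΦV : ∀ x, Φ₀ (1 ⊗ₜ residue _ x) = Ideal.Quotient.mk I (ιV x) := by
    intro x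
    rw [Algebra.TensorProduct.productMap_apply_tmul, map_one, one_mul]
    exact hqV x
  have hΦB : ∀ b, Φ₀ (residue _ b ⊗ₜ 1) = Ideal.Quotient.mk I (ιB b) := by
    intro b
    rw [Algebra.TensorProduct.productMap_apply_tmul, map_one, mul_one]
    exact hqB b
  have hyrel : (genY3 W f φB yW yiW pW) ^ d = ιB w * ιV uinv := Subtype.ext (by
    rw [SubmonoidClass.coe_pow]
    exact hrel)
  have hyirel : genYi3 W f φB yW yiW pW =
      (genY3 W f φB yW yiW pW) ^ n₀ * ιB b₀ * ιV x₀ := Subtype.ext (by
    rw [MulMemClass.coe_mul, MulMemClass.coe_mul, SubmonoidClass.coe_pow]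
    exact hyi)
  have heval : eval₂ Φ₀.toRingHom (Ideal.Quotient.mk I (genY3 W f φB yW yiW pW))
      (X ^ d - C ((residue B w) ⊗ₜ[ResidueField A] (residue (W.comap f) uinv))) = 0 := by
    rw [eval₂_sub, eval₂_pow, eval₂_X, eval₂_C, ← map_pow, hyrel, map_mul]
    have : Φ₀.toRingHom ((residue B w) ⊗ₜ[ResidueField A] (residue (W.comap f) uinv)) =
        Ideal.Quotient.mk I (ιB w) * Ideal.Quotient.mk I (ιV uinv) := by
      change Φ₀ _ = _
      rw [Algebra.TensorProduct.productMap_apply_tmul]
      rfl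
    rw [this, sub_self]
  let Φ := AdjoinRoot.lift Φ₀.toRingHom _ heval
  have hΦof : ∀ θ, Φ (AdjoinRoot.of _ θ) = Φ₀ θ := fun θ => AdjoinRoot.lift_of heval
  have hΦroot : Φ (AdjoinRoot.root _) = Ideal.Quotient.mk I (genY3 W f φB yW yiW pW) :=
    AdjoinRoot.lift_root heval
  have hsurj : Function.Surjective Φ := by
    intro q
    obtain ⟨⟨w', hw'⟩, rfl⟩ := Ideal.Quotient.mk_surjective q
    change Ideal.Quotient.mk I ⟨w', hw'⟩ ∈ Φ.range
    induction hw' using Subring.closure_induction with
    | mem w' hw' =>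
      rcases hw' with (⟨x, rfl⟩ | ⟨b, rfl⟩) | hy
      · exact ⟨AdjoinRoot.of _ (1 ⊗ₜ residue _ x), by rw [hΦof, hΦV]; rfl⟩
      · exact ⟨AdjoinRoot.of _ (residue _ b ⊗ₜ 1), by rw [hΦof, hΦB]; rfl⟩
      · rcases hy with hy | hy | hy
        · subst hy
          exact ⟨AdjoinRoot.root _, hΦroot⟩
        · subst hy
          refine ⟨AdjoinRoot.root _ ^ n₀ * AdjoinRoot.of _ (residue _ b₀ ⊗ₜ 1) *
            AdjoinRoot.of _ (1 ⊗ₜ residue _ x₀), ?_⟩
          rw [map_mul, map_mul, map_pow, hΦroot, hΦof, hΦof, hΦV, hΦB, ← map_pow, ← map_mul,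
            ← map_mul, ← hyirel]
          rfl
        · rw [Set.mem_singleton_iff] at hy
          subst hy
          refine ⟨0, ?_⟩
          rw [map_zero]
          symm
          rw [Ideal.Quotient.eq_zero_iff_mem]
          exact Ideal.subset_span rfl
    | zero => exact Subring.zero_mem _
    | one => exact Subring.one_mem _
    | add x y hx hy ihx ihy => exact Subring.add_mem _ ihx ihy
    | neg x hx ihx => exact Subring.neg_mem _ ihx
    | mul x y hx hy ihx ihy => exact Subring.mul_mem _ ihx ihy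
  have hQ : IsVNR ((genRing3 W f φB yW yiW pW) ⧸ I) := hS.of_surjective Φ hsurj
  obtain ⟨q, hq⟩ := hQ (Ideal.Quotient.mk I r)
  obtain ⟨y, rfl⟩ := Ideal.Quotient.mk_surjective q
  have hmem : r * (1 - r * y) ∈ I := by
    rw [← Ideal.Quotient.eq_zero_iff_mem, map_mul, map_sub, map_one, map_mul]
    linear_combination hq
  obtain ⟨r₁, hr₁⟩ := Ideal.mem_span_singleton'.mp hmem
  exact ⟨y, r₁, (hr₁.symm.trans (mul_comm _ _))⟩

end Core3

section Main3
open TensorProduct

variable (A B K L K₁ : Type u) [CommRing A] [IsDomain A] [IsDiscreteValuationRing A]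
    [CommRing B] [IsDomain B] [IsDiscreteValuationRing B] [Algebra A B] [IsLocalHom (algebraMap A B)]
    [Field K] [Field L] [Algebra A K] [IsFractionRing A K] [Algebra B L] [IsFractionRing B L]
    [Algebra K L] [Algebra A L] [IsScalarTower A K L] [IsScalarTower A B L]
    [Field K₁] [Algebra K K₁] [FiniteDimensional K K₁] [Algebra.IsSeparable K K₁]
    [Algebra A K₁] [IsScalarTower A K K₁]

set_option maxHeartbeats 6400000 in
theorem core3 (htame : EtRam.IsTamelyRamified A (algebraMap A K₁))
    (M : Type u) [Field M] [Algebra K M] [Algebra L M] [Algebra K₁ M] [IsScalarTower K L M]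
    [IsScalarTower K K₁ M]
    (hadj : Algebra.adjoin L (Set.range (algebraMap K₁ M)) = ⊤) (W : ValuationSubring M)
    (hW : EtRam.Dominates B ((algebraMap L M).comp (algebraMap B L)) W) :
    letI : Algebra B W :=
      (RingHom.codRestrict ((algebraMap L M).comp (algebraMap B L)) W hW.1).toAlgebra
    ∀ [IsLocalHom (algebraMap B W)],
      Algebra.IsSeparable (ResidueField B) (ResidueField W) ∧
      ∀ p : ℕ, p.Prime → CharP (ResidueField B) p →
        ¬ p ∣ Ideal.ramificationIdx' (maximalIdeal B) (maximalIdeal W) := by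
  classical
  letI iBM : Algebra B M := ((algebraMap L M).comp (algebraMap B L)).toAlgebra
  haveI : IsScalarTower B L M := IsScalarTower.of_algebraMap_eq' rfl
  have hWB : EtRam.Dominates B (algebraMap B M) W := hW
  have hAM : ∀ a : A, algebraMap K₁ M (algebraMap A K₁ a) = algebraMap B M (algebraMap A B a) := by
    intro a
    rw [IsScalarTower.algebraMap_apply A K K₁, ← IsScalarTower.algebraMap_apply K K₁ M,
      IsScalarTower.algebraMap_apply K L M, ← IsScalarTower.algebraMap_apply A K L,
      IsScalarTower.algebraMap_apply A B L, ← IsScalarTower.algebraMap_apply B L M]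
  obtain ⟨hW1, hW2⟩ := (Groth.Agent.Lib.Helper14EtRam.dominates_iff _ W).mp hWB
  letI algBW : Algebra B W := (RingHom.codRestrict (algebraMap B M) W hW.1).toAlgebra
  intro hlocBW
  -- `V' = W ∩ K₁` dominates `A`
  have hV₁dom : EtRam.Dominates A (algebraMap A K₁) (W.comap (algebraMap K₁ M)) := by
    rw [Groth.Agent.Lib.Helper14EtRam.dominates_iff]
    have h0 : ∀ a : A, algebraMap A K₁ a ∈ W.comap (algebraMap K₁ M) := fun a => by
      rw [ValuationSubring.mem_comap, hAM]
      exact hW1 _
    refine ⟨h0, ?_⟩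
    have hcomp : (RingHom.codRestrict (algebraMap B M) W hW1).comp (algebraMap A B) =
        (EtRam.inclOfComap W (algebraMap K₁ M)).comp
          (RingHom.codRestrict (algebraMap A K₁) (W.comap (algebraMap K₁ M)) h0) := by
      ext a
      exact (hAM a).symm
    haveI : IsLocalHom (RingHom.codRestrict (algebraMap B M) W hW1) := hW2
    haveI h3 : IsLocalHom ((RingHom.codRestrict (algebraMap B M) W hW1).comp (algebraMap A B)) :=
      RingHom.isLocalHom_comp _ _
    rw [hcomp] at h3
    exact isLocalHom_of_comp _ (EtRam.inclOfComap W (algebraMap K₁ M))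
  letI algAV : Algebra A (W.comap (algebraMap K₁ M)) :=
    (RingHom.codRestrict (algebraMap A K₁) (W.comap (algebraMap K₁ M)) hV₁dom.1).toAlgebra
  haveI hlocA : IsLocalHom (algebraMap A (W.comap (algebraMap K₁ M))) :=
    ((Groth.Agent.Lib.Helper14EtRam.dominates_iff _ _).mp hV₁dom).2
  have htV := htame (W.comap (algebraMap K₁ M)) hV₁dom
  obtain ⟨hsepV, hpV⟩ := htV
  haveI := hsepV
  haveI hdvrV : IsDiscreteValuationRing (W.comap (algebraMap K₁ M)) := by
    have h1 : (algebraMap K K₁).comp (algebraMap A K) = algebraMap A K₁ :=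
      (IsScalarTower.algebraMap_eq A K K₁).symm
    exact Groth.Agent.Lib.Helper14EtRam.isDiscreteValuationRing_of_dominates (A := A) (K := K)
      (L := K₁) _ (h1 ▸ hV₁dom)
  let φB : B →+* W := RingHom.codRestrict (algebraMap B M) W hW1
  haveI : IsLocalHom φB := hW2
  have hcompat : ∀ a : A, EtRam.inclOfComap W (algebraMap K₁ M)
      (algebraMap A (W.comap (algebraMap K₁ M)) a) = φB (algebraMap A B a) :=
    fun a => Subtype.ext (hAM a)
  -- uniformizers
  obtain ⟨π, hπ⟩ := IsDiscreteValuationRing.exists_irreducible A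
  obtain ⟨πB, hπB⟩ := IsDiscreteValuationRing.exists_irreducible B
  obtain ⟨ϖ', hϖ'⟩ := IsDiscreteValuationRing.exists_irreducible (W.comap (algebraMap K₁ M))
  have hinjAL : Function.Injective (algebraMap A L) := by
    rw [IsScalarTower.algebraMap_eq A K L]
    exact (algebraMap K L).injective.comp (IsFractionRing.injective A K)
  have hinjAB : Function.Injective (algebraMap A B) := by
    intro a b hab
    apply hinjAL
    rw [IsScalarTower.algebraMap_apply A B L, hab, ← IsScalarTower.algebraMap_apply A B L]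
  have hinjAK₁ : Function.Injective (algebraMap A K₁) := by
    rw [IsScalarTower.algebraMap_eq A K K₁]
    exact (algebraMap K K₁).injective.comp (IsFractionRing.injective A K)
  have hπ0B : algebraMap A B π ≠ 0 := (map_ne_zero_iff _ hinjAB).mpr hπ.ne_zero
  have hπ0K₁ : algebraMap A K₁ π ≠ 0 := (map_ne_zero_iff _ hinjAK₁).mpr hπ.ne_zero
  have hπ0V : algebraMap A (W.comap (algebraMap K₁ M)) π ≠ 0 := by
    intro h
    exact hπ0K₁ (congrArg Subtype.val h)
  obtain ⟨eB, w, hwe⟩ := IsDiscreteValuationRing.eq_unit_mul_pow_irreducible hπ0B hπB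
  obtain ⟨e', u', hue⟩ := IsDiscreteValuationRing.eq_unit_mul_pow_irreducible hπ0V hϖ'
  have hmA : maximalIdeal A = Ideal.span {π} :=
    (IsDiscreteValuationRing.irreducible_iff_uniformizer π).mp hπ
  have hmB : maximalIdeal B = Ideal.span {πB} :=
    (IsDiscreteValuationRing.irreducible_iff_uniformizer πB).mp hπB
  have hmV : maximalIdeal (W.comap (algebraMap K₁ M)) = Ideal.span {ϖ'} :=
    (IsDiscreteValuationRing.irreducible_iff_uniformizer ϖ').mp hϖ'
  have hramV : Ideal.ramificationIdx' (maximalIdeal A)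
      (maximalIdeal (W.comap (algebraMap K₁ M))) = e' :=
    ramificationIdx'_eq π hmA ϖ' hmV hϖ'.ne_zero e' u' u'.isUnit hue
  have he'0 : e' ≠ 0 := by
    rintro rfl
    rw [pow_zero, mul_one] at hue
    have hu : IsUnit (algebraMap A (W.comap (algebraMap K₁ M)) π) := hue ▸ u'.isUnit
    exact hπ.not_isUnit (isUnit_of_map_unit _ π hu)
  have heB0 : eB ≠ 0 := by
    rintro rfl
    rw [pow_zero, mul_one] at hwe
    have hu : IsUnit (algebraMap A B π) := hwe ▸ w.isUnit
    exact hπ.not_isUnit (isUnit_of_map_unit (algebraMap A B) π hu)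
  obtain ⟨e'', eB'', hcop, he', heB⟩ := Nat.exists_coprime e' eB
  set d := Nat.gcd e' eB with hd
  have hd0 : d ≠ 0 := by
    intro h
    rw [h, mul_zero] at he'
    exact he'0 he'
  have he''0 : e'' ≠ 0 := by
    rintro rfl
    rw [zero_mul] at he'
    exact he'0 he'
  have heB''0 : eB'' ≠ 0 := by
    rintro rfl
    rw [zero_mul] at heB
    exact heB0 heB
  obtain ⟨s, t, hst⟩ := Nat.isCoprime_iff_coprime.mpr hcop
  obtain ⟨p₀, hp₀⟩ := CharP.exists (ResidueField A)
  have hdk : (d : ResidueField A) ≠ 0 := by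
    intro h
    rw [CharP.cast_eq_zero_iff (ResidueField A) p₀] at h
    rcases CharP.char_is_prime_or_zero (ResidueField A) p₀ with hp | hp
    · exact hpV p₀ hp hp₀ (hramV ▸ (h.trans (Nat.gcd_dvd_left e' eB)))
    · rw [hp, zero_dvd_iff] at h
      exact hd0 h
  -- valuations
  set g := algebraMap B M πB with hg
  set h := algebraMap K₁ M (ϖ' : K₁) with hh
  have hg0 : g ≠ 0 := by
    intro h0
    have h1 : algebraMap B L πB = 0 := (algebraMap L M).injective (by
      rw [map_zero]
      exact h0)
    exact hπB.ne_zero (IsFractionRing.injective B L (by rw [h1, map_zero]))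
  have hh0 : h ≠ 0 := by
    rw [hh, Ne, map_eq_zero]
    intro h0
    exact hϖ'.ne_zero (Subtype.ext h0)
  set γB := W.valuation g with hγB
  set γ' := W.valuation h with hγ'
  have hγB0 : γB ≠ 0 := (Valuation.ne_zero_iff _).mpr hg0
  have hγBpos : 0 < γB := zero_lt_iff.mpr hγB0
  have hγB1 : γB < 1 := hWB.2 _ ((mem_maximalIdeal _).mpr hπB.not_isUnit)
  have hγ'0 : γ' ≠ 0 := (Valuation.ne_zero_iff _).mpr hh0
  have hvw : W.valuation (algebraMap B M (w : B)) = 1 :=
    Groth.Agent.Lib.Helper14Eisenstein.valuation_algebraMap_unit (A := B) W hWB w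
  have hvu' : W.valuation (algebraMap K₁ M ((u' : W.comap (algebraMap K₁ M)) : K₁)) = 1 := by
    have hu : IsUnit (EtRam.inclOfComap W (algebraMap K₁ M) (u' : W.comap (algebraMap K₁ M))) :=
      u'.isUnit.map _
    exact (W.valuation_eq_one_iff _).mp hu
  set P := algebraMap K₁ M (algebraMap A K₁ π) with hP
  have hP1 : P = algebraMap B M (w : B) * g ^ eB := by
    rw [hP, hAM, hwe, map_mul, map_pow]
  have hP2 : P = algebraMap K₁ M ((u' : W.comap (algebraMap K₁ M)) : K₁) * h ^ e' := by
    have := congrArg (fun x : W.comap (algebraMap K₁ M) => algebraMap K₁ M (x : K₁)) hue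
    simp only [MulMemClass.coe_mul, SubmonoidClass.coe_pow, map_mul, map_pow] at this
    exact this
  have hγ : γ' ^ e'' = γB ^ eB'' := by
    have h1 : (γ' ^ e'') ^ d = (γB ^ eB'') ^ d := by
      rw [← pow_mul, ← pow_mul, ← he', ← heB]
      have h2 := congrArg W.valuation hP1
      rw [hP2, map_mul, map_mul, map_pow, map_pow, hvw, hvu', one_mul, one_mul] at h2
      exact h2
    exact (pow_left_inj₀ zero_le zero_le hd0).mp h1
  -- the Kummer element
  set y := h ^ e'' / g ^ eB'' with hy
  have hvy : W.valuation y = 1 := by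
    rw [hy, map_div₀, map_pow, map_pow, hγ]
    exact div_self (pow_ne_zero _ hγB0)
  have hy0 : y ≠ 0 := by
    intro h0
    rw [h0, map_zero] at hvy
    exact zero_ne_one hvy
  have hymem : y ∈ W := by rw [← W.valuation_le_one_iff, hvy]
  have hyimem : y⁻¹ ∈ W := by rw [← W.valuation_le_one_iff, map_inv₀, hvy, inv_one]
  have hyz : ∀ z : ℤ, W.valuation (y ^ z) = 1 := fun z => by rw [map_zpow₀, hvy, one_zpow]
  let yW : W := ⟨y, hymem⟩
  let yiW : W := ⟨y⁻¹, hyimem⟩
  have hu'inv : algebraMap K₁ M (((u'⁻¹ : (W.comap (algebraMap K₁ M))ˣ) :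
      W.comap (algebraMap K₁ M)) : K₁) *
      algebraMap K₁ M ((u' : W.comap (algebraMap K₁ M)) : K₁) = 1 := by
    rw [← map_mul]
    have := congrArg (fun x : W.comap (algebraMap K₁ M) => (x : K₁)) u'.inv_mul
    simp only [MulMemClass.coe_mul, OneMemClass.coe_one] at this
    rw [this, map_one]
  have hwinv : algebraMap B M ((w⁻¹ : Bˣ) : B) * algebraMap B M (w : B) = 1 := by
    rw [← map_mul, Units.inv_mul, map_one]
  have hyd : y ^ d = algebraMap B M (w : B) *
      algebraMap K₁ M (((u'⁻¹ : (W.comap (algebraMap K₁ M))ˣ) :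
        W.comap (algebraMap K₁ M)) : K₁) := by
    rw [hy, div_pow, ← pow_mul, ← pow_mul, ← he', ← heB, div_eq_iff (pow_ne_zero _ hg0)]
    have h3 : algebraMap K₁ M ((u' : W.comap (algebraMap K₁ M)) : K₁) * h ^ e' =
        algebraMap B M (w : B) * g ^ eB := hP2.symm.trans hP1
    calc h ^ e' = (algebraMap K₁ M (((u'⁻¹ : (W.comap (algebraMap K₁ M))ˣ) :
          W.comap (algebraMap K₁ M)) : K₁) *
          algebraMap K₁ M ((u' : W.comap (algebraMap K₁ M)) : K₁)) * h ^ e' := by
          rw [hu'inv, one_mul]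
      _ = algebraMap K₁ M (((u'⁻¹ : (W.comap (algebraMap K₁ M))ˣ) :
          W.comap (algebraMap K₁ M)) : K₁) *
          (algebraMap K₁ M ((u' : W.comap (algebraMap K₁ M)) : K₁) * h ^ e') := by ring
      _ = _ := by rw [h3]; ring
  have hrel : yW ^ d = φB (w : B) * EtRam.inclOfComap W (algebraMap K₁ M)
      ((u'⁻¹ : (W.comap (algebraMap K₁ M))ˣ) : W.comap (algebraMap K₁ M)) :=
    Subtype.ext hyd
  -- the uniformizer of `W`
  obtain ⟨hI1, hI2⟩ := bezout_identities g h hg0 hh0 e'' eB'' s t hst
  set pM := g ^ s * h ^ t with hpM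
  have hpM0 : pM ≠ 0 := mul_ne_zero (zpow_ne_zero _ hg0) (zpow_ne_zero _ hh0)
  have hvp : W.valuation pM ^ e'' = γB := by
    rw [← map_pow, hI1, map_mul, hyz, mul_one]
  have hvp1 : W.valuation pM < 1 := by
    by_contra hcon
    rw [not_lt] at hcon
    have : 1 ≤ W.valuation pM ^ e'' := one_le_pow₀ hcon
    rw [hvp] at this
    exact absurd hγB1 (not_lt.mpr this)
  have hvppos : 0 < W.valuation pM := zero_lt_iff.mpr ((Valuation.ne_zero_iff _).mpr hpM0)
  have hpmem : pM ∈ W := by rw [← W.valuation_le_one_iff]; exact hvp1.le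
  let pW : W := ⟨pM, hpmem⟩
  -- the generated ring
  have hιP : incl W (genRing3 W (algebraMap K₁ M) φB yW yiW pW)
      (genP3 W (algebraMap K₁ M) φB yW yiW pW) = pM := rfl
  have hιY : incl W (genRing3 W (algebraMap K₁ M) φB yW yiW pW)
      (genY3 W (algebraMap K₁ M) φB yW yiW pW) = y := rfl
  have hιYi : incl W (genRing3 W (algebraMap K₁ M) φB yW yiW pW)
      (genYi3 W (algebraMap K₁ M) φB yW yiW pW) = y⁻¹ := rfl
  have hzpow : ∀ z : ℤ, ∃ r : genRing3 W (algebraMap K₁ M) φB yW yiW pW,
      incl W _ r = y ^ z := by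
    intro z
    rcases le_total 0 z with hz | hz
    · obtain ⟨n, rfl⟩ := Int.eq_ofNat_of_zero_le hz
      exact ⟨genY3 W (algebraMap K₁ M) φB yW yiW pW ^ n, by rw [map_pow, hιY, zpow_natCast]⟩
    · obtain ⟨n, hn⟩ := Int.eq_ofNat_of_zero_le (neg_nonneg.mpr hz)
      refine ⟨genYi3 W (algebraMap K₁ M) φB yW yiW pW ^ n, ?_⟩
      rw [map_pow, hιYi, inv_pow, ← zpow_natCast, ← hn, zpow_neg, inv_inv]
  have hinjR := incl_injective W (genRing3 W (algebraMap K₁ M) φB yW yiW pW)
  obtain ⟨eB₁, rfl⟩ := Nat.exists_eq_succ_of_ne_zero heB''0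
  obtain ⟨e₁, rfl⟩ := Nat.exists_eq_succ_of_ne_zero he''0
  have hV : ∀ x ∈ maximalIdeal (W.comap (algebraMap K₁ M)),
      ∃ r : genRing3 W (algebraMap K₁ M) φB yW yiW pW,
      genV3 W (algebraMap K₁ M) φB yW yiW pW x = genP3 W (algebraMap K₁ M) φB yW yiW pW * r := by
    intro x hx
    rw [hmV, Ideal.mem_span_singleton'] at hx
    obtain ⟨x', rfl⟩ := hx
    obtain ⟨ry, hry⟩ := hzpow s
    refine ⟨genP3 W (algebraMap K₁ M) φB yW yiW pW ^ eB₁ * ry *
      genV3 W (algebraMap K₁ M) φB yW yiW pW x', hinjR ?_⟩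
    have e1 : incl W _ (genV3 W (algebraMap K₁ M) φB yW yiW pW (x' * ϖ')) =
        algebraMap K₁ M (x' : K₁) * h := by
      change algebraMap K₁ M ((x' * ϖ' : W.comap (algebraMap K₁ M)) : K₁) = _
      rw [MulMemClass.coe_mul, map_mul]
    have e2 : incl W _ (genP3 W (algebraMap K₁ M) φB yW yiW pW *
        (genP3 W (algebraMap K₁ M) φB yW yiW pW ^ eB₁ * ry *
          genV3 W (algebraMap K₁ M) φB yW yiW pW x')) =
        pM * (pM ^ eB₁ * y ^ s * algebraMap K₁ M (x' : K₁)) := by
      rw [map_mul, map_mul, map_mul, map_pow, hιP, hry]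
      rfl
    rw [e1, e2]
    have k1 : pM * pM ^ eB₁ = h * y ^ (-s) := by rw [← pow_succ']; exact hI2
    have k2 : y ^ (-s) * y ^ s = 1 := by rw [← zpow_add₀ hy0, neg_add_cancel, zpow_zero]
    linear_combination (-(y ^ s * algebraMap K₁ M (x' : K₁))) * k1 -
      (h * algebraMap K₁ M (x' : K₁)) * k2
  have hB : ∀ b ∈ maximalIdeal B,
      ∃ r : genRing3 W (algebraMap K₁ M) φB yW yiW pW,
      genB3 W (algebraMap K₁ M) φB yW yiW pW b = genP3 W (algebraMap K₁ M) φB yW yiW pW * r := by
    intro b hb
    rw [hmB, Ideal.mem_span_singleton'] at hb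
    obtain ⟨b', rfl⟩ := hb
    obtain ⟨ry, hry⟩ := hzpow (-t)
    refine ⟨genP3 W (algebraMap K₁ M) φB yW yiW pW ^ e₁ * ry *
      genB3 W (algebraMap K₁ M) φB yW yiW pW b', hinjR ?_⟩
    have e1 : incl W _ (genB3 W (algebraMap K₁ M) φB yW yiW pW (b' * πB)) =
        algebraMap B M b' * g := by
      change algebraMap B M (b' * πB) = _
      rw [map_mul]
    have e2 : incl W _ (genP3 W (algebraMap K₁ M) φB yW yiW pW *
        (genP3 W (algebraMap K₁ M) φB yW yiW pW ^ e₁ * ry *
          genB3 W (algebraMap K₁ M) φB yW yiW pW b')) =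
        pM * (pM ^ e₁ * y ^ (-t) * algebraMap B M b') := by
      rw [map_mul, map_mul, map_mul, map_pow, hιP, hry]
      rfl
    rw [e1, e2]
    have k1 : pM * pM ^ e₁ = g * y ^ t := by rw [← pow_succ']; exact hI1
    have k2 : y ^ t * y ^ (-t) = 1 := by rw [← zpow_add₀ hy0, add_neg_cancel, zpow_zero]
    linear_combination (-(y ^ (-t) * algebraMap B M b')) * k1 -
      (g * algebraMap B M b') * k2
  -- von Neumann regularity
  haveI : Algebra.IsAlgebraic (ResidueField A) (ResidueField (W.comap (algebraMap K₁ M))) :=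
    Algebra.IsSeparable.isAlgebraic _ _
  haveI hredV : IsReduced (ResidueField (W.comap (algebraMap K₁ M)) ⊗[ResidueField A]
      ResidueField B) := Groth.Agent.Lib.Helper14.GeomRed.isReduced_tensor_of_isSeparable
  have hcΘ : IsUnit ((residue B (w : B)) ⊗ₜ[ResidueField A]
      (residue (W.comap (algebraMap K₁ M))
        ((u'⁻¹ : (W.comap (algebraMap K₁ M))ˣ) : W.comap (algebraMap K₁ M)))) := by
    refine isUnit_iff_exists_inv.mpr ⟨(residue B ((w⁻¹ : Bˣ) : B)) ⊗ₜ[ResidueField A]
      (residue (W.comap (algebraMap K₁ M)) (u' : W.comap (algebraMap K₁ M))), ?_⟩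
    rw [Algebra.TensorProduct.tmul_mul_tmul, ← map_mul, ← map_mul, Units.mul_inv, Units.inv_mul,
      map_one, map_one, Algebra.TensorProduct.one_def]
  have hS := isVNR_kummer (ResidueField A) (ResidueField B)
    (ResidueField (W.comap (algebraMap K₁ M))) d hdk _ hcΘ
  obtain ⟨d₁, hd₁⟩ := Nat.exists_eq_succ_of_ne_zero hd0
  have hyi : yiW = yW ^ d₁ * φB ((w⁻¹ : Bˣ) : B) *
      EtRam.inclOfComap W (algebraMap K₁ M) (u' : W.comap (algebraMap K₁ M)) := by
    apply Subtype.ext
    change y⁻¹ = y ^ d₁ * algebraMap B M ((w⁻¹ : Bˣ) : B) *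
      algebraMap K₁ M ((u' : W.comap (algebraMap K₁ M)) : K₁)
    have hd₁' : d = d₁ + 1 := hd₁
    have h4 : y ^ d₁ * y = algebraMap B M (w : B) *
        algebraMap K₁ M (((u'⁻¹ : (W.comap (algebraMap K₁ M))ˣ) :
          W.comap (algebraMap K₁ M)) : K₁) := by
      rw [← pow_succ, ← hd₁']
      exact hyd
    calc y⁻¹ = y⁻¹ * ((algebraMap B M ((w⁻¹ : Bˣ) : B) * algebraMap B M (w : B)) *
          (algebraMap K₁ M (((u'⁻¹ : (W.comap (algebraMap K₁ M))ˣ) :
            W.comap (algebraMap K₁ M)) : K₁) *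
          algebraMap K₁ M ((u' : W.comap (algebraMap K₁ M)) : K₁))) := by
          rw [hwinv, hu'inv, one_mul, mul_one]
      _ = (algebraMap B M (w : B) *
          algebraMap K₁ M (((u'⁻¹ : (W.comap (algebraMap K₁ M))ˣ) :
            W.comap (algebraMap K₁ M)) : K₁)) * y⁻¹ * algebraMap B M ((w⁻¹ : Bˣ) : B) *
          algebraMap K₁ M ((u' : W.comap (algebraMap K₁ M)) : K₁) := by ring
      _ = (y ^ d₁ * y) * y⁻¹ * algebraMap B M ((w⁻¹ : Bˣ) : B) *
          algebraMap K₁ M ((u' : W.comap (algebraMap K₁ M)) : K₁) := by rw [h4]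
      _ = _ := by rw [mul_assoc (y ^ d₁), mul_inv_cancel₀ hy0, mul_one]
  have hvnr := exists_vnr_relation3 W (algebraMap K₁ M) φB yW yiW pW hcompat hV hB d
    ((u'⁻¹ : (W.comap (algebraMap K₁ M))ˣ) : W.comap (algebraMap K₁ M)) (w : B) hrel
    d₁ ((w⁻¹ : Bˣ) : B) (u' : W.comap (algebraMap K₁ M)) hyi hS
  -- archimedean property and fractions
  have hLval : ∀ c : L, c ≠ 0 → ∃ z : ℤ, W.valuation (algebraMap L M c) = γB ^ z := by
    intro c hc
    obtain ⟨l, hl, _⟩ := Groth.Agent.Lib.Helper14Eisenstein.exists_zpow_valuation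
      (A := B) (K := L) W hWB hπB hc
    exact ⟨l, hl⟩
  have halg : ∀ m : M, IsIntegral L m := by
    have hle : Algebra.adjoin L (Set.range (algebraMap K₁ M)) ≤ integralClosure L M := by
      apply Algebra.adjoin_le
      rintro _ ⟨k, rfl⟩
      have h1 : IsIntegral K k := Algebra.IsIntegral.isIntegral k
      have h2 : IsIntegral K (algebraMap K₁ M k) := h1.map (IsScalarTower.toAlgHom K K₁ M)
      exact h2.tower_top
    intro m
    have : m ∈ Algebra.adjoin L (Set.range (algebraMap K₁ M)) := by rw [hadj]; trivial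
    exact hle this
  have hϖR0 : genP3 W (algebraMap K₁ M) φB yW yiW pW ≠ 0 := by
    intro h0
    have := congrArg (incl W (genRing3 W (algebraMap K₁ M) φB yW yiW pW)) h0
    rw [hιP, map_zero] at this
    exact hpM0 this
  have harch : ∀ r : genRing3 W (algebraMap K₁ M) φB yW yiW pW, r ≠ 0 → ∃ N : ℕ,
      ¬ W.valuation (incl W _ r) ≤
        W.valuation (incl W _ (genP3 W (algebraMap K₁ M) φB yW yiW pW)) ^ N := by
    intro r hr
    have hr' : incl W _ r ≠ 0 := fun h => hr (hinjR (h.trans (map_zero _).symm))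
    obtain ⟨p, hpm, hpr⟩ := halg (incl W _ r)
    obtain ⟨n, hn1, _, z, hz⟩ := exists_pow_eq_zpow W.valuation γB hγB0 hLval hr' p hpm.ne_zero
      (by rw [aeval_def]; exact hpr)
    exact exists_not_le_pow γB (W.valuation pM) _ hγB0 hγB1 (e₁ + 1) 1 one_pos
      (by rw [hvp, zpow_one]) n hn1 z hz
  have hfrac : ∀ m : M, ∃ r₁ r₂ : genRing3 W (algebraMap K₁ M) φB yW yiW pW, r₂ ≠ 0 ∧
      m * incl W _ r₂ = incl W _ r₁ := by
    intro m
    have hm : m ∈ Algebra.adjoin L (Set.range (algebraMap K₁ M)) := by rw [hadj]; trivial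
    induction hm using Algebra.adjoin_induction with
    | mem x hx =>
      obtain ⟨k, rfl⟩ := hx
      rcases (W.comap (algebraMap K₁ M)).mem_or_inv_mem k with hk | hk
      · exact ⟨genV3 W _ φB yW yiW pW ⟨k, hk⟩, 1, one_ne_zero, by rw [map_one, mul_one]; rfl⟩
      · by_cases hk0 : k = 0
        · exact ⟨0, 1, one_ne_zero, by rw [hk0, map_zero, map_zero, zero_mul]⟩
        · refine ⟨1, genV3 W _ φB yW yiW pW ⟨k⁻¹, hk⟩, ?_, ?_⟩
          · intro h
            have := congrArg (incl W _) h
            rw [map_zero] at this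
            change algebraMap K₁ M k⁻¹ = 0 at this
            exact inv_ne_zero hk0 ((map_eq_zero _).mp this)
          · change algebraMap K₁ M k * algebraMap K₁ M k⁻¹ = incl W _ 1
            rw [map_one, ← map_mul, mul_inv_cancel₀ hk0, map_one]
    | algebraMap l =>
      obtain ⟨b₁, b₂, hb₂, rfl⟩ := IsFractionRing.div_surjective (A := B) l
      have hb₂0 : b₂ ≠ 0 := nonZeroDivisors.ne_zero hb₂
      have hb₂L : algebraMap B L b₂ ≠ 0 := by
        intro h
        exact hb₂0 (IsFractionRing.injective B L (h.trans (map_zero _).symm))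
      refine ⟨genB3 W _ φB yW yiW pW b₁, genB3 W _ φB yW yiW pW b₂, ?_, ?_⟩
      · intro h
        have := congrArg (incl W _) h
        rw [map_zero] at this
        change algebraMap L M (algebraMap B L b₂) = 0 at this
        exact hb₂L ((map_eq_zero _).mp this)
      · change algebraMap L M (algebraMap B L b₁ / algebraMap B L b₂) *
          algebraMap L M (algebraMap B L b₂) = algebraMap L M (algebraMap B L b₁)
        rw [← map_mul, div_mul_cancel₀ _ hb₂L]
    | add x y _ _ hx hy =>
      obtain ⟨r₁, r₂, hr₂, h1⟩ := hx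
      obtain ⟨s₁, s₂, hs₂, h2⟩ := hy
      refine ⟨r₁ * s₂ + s₁ * r₂, r₂ * s₂, mul_ne_zero hr₂ hs₂, ?_⟩
      rw [map_mul, map_add, map_mul, map_mul, ← h1, ← h2]
      ring
    | mul x y _ _ hx hy =>
      obtain ⟨r₁, r₂, hr₂, h1⟩ := hx
      obtain ⟨s₁, s₂, hs₂, h2⟩ := hy
      refine ⟨r₁ * s₁, r₂ * s₂, mul_ne_zero hr₂ hs₂, ?_⟩
      rw [map_mul, map_mul, ← h1, ← h2]
      ring
  have hdecomp := exists_decomp (genP3 W (algebraMap K₁ M) φB yW yiW pW) hϖR0 hvnr harch hfrac
  have hval : ∀ m : M, m ≠ 0 → ∃ k : ℤ, W.valuation m = W.valuation pM ^ k := by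
    intro m hm
    obtain ⟨k, a, b, ha, hb, hrel⟩ := hdecomp m hm
    refine ⟨k, ?_⟩
    have := congrArg W.valuation hrel
    rw [map_mul, map_mul, map_zpow₀, ha, hb, mul_one, mul_one, hιP] at this
    exact this
  have hunit : ∀ w : W, IsUnit w →
      ∃ a b : genRing3 W (algebraMap K₁ M) φB yW yiW pW, IsUnit (b : W) ∧ w * (b : W) = a := by
    intro w hw
    have hw1 : W.valuation (w : M) = 1 := (W.valuation_eq_one_iff w).mp hw
    have hwM : (w : M) ≠ 0 := by
      intro h
      rw [h, map_zero] at hw1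
      exact zero_ne_one hw1
    obtain ⟨k, a, b, ha, hb, hrel⟩ := hdecomp (w : M) hwM
    have hk : k = 0 := by
      have h1 := congrArg W.valuation hrel
      rw [map_mul, map_mul, map_zpow₀, ha, hb, mul_one, mul_one, hw1, hιP] at h1
      rcases lt_trichotomy k 0 with h | h | h
      · have := (one_lt_zpow_iff_right_of_lt_one₀ hvppos hvp1).mpr h
        rw [← h1] at this
        exact absurd this (lt_irrefl _)
      · exact h
      · have := (zpow_lt_one_iff_right_of_lt_one₀ hvppos hvp1).mpr h
        rw [← h1] at this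
        exact absurd this (lt_irrefl _)
    rw [hk, zpow_zero, one_mul] at hrel
    exact ⟨a, b, (W.valuation_eq_one_iff (b : W)).mpr hb, Subtype.ext hrel⟩
  -- the ramification index of `B → W`
  have hmW : maximalIdeal W = Ideal.span {pW} := by
    apply le_antisymm
    · intro x hx
      by_cases hx0 : x = 0
      · rw [hx0]; exact Ideal.zero_mem _
      have hxM : (x : M) ≠ 0 := fun h => hx0 (Subtype.ext h)
      obtain ⟨k, hk⟩ := hval (x : M) hxM
      have hx1 : W.valuation (x : M) < 1 := (W.valuation_lt_one_iff x).mp hx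
      rw [hk, zpow_lt_one_iff_right_of_lt_one₀ hvppos hvp1] at hx1
      have hmem : (x : M) / pM ∈ W := by
        rw [← W.valuation_le_one_iff, map_div₀, hk, div_eq_mul_inv,
          ← zpow_sub_one₀ hvppos.ne', zpow_le_one_iff_right_of_lt_one₀ hvppos hvp1]
        omega
      rw [Ideal.mem_span_singleton]
      refine ⟨⟨_, hmem⟩, Subtype.ext ?_⟩
      change (x : M) = pM * ((x : M) / pM)
      rw [mul_div_cancel₀ _ hpM0]
    · rw [Ideal.span_le, Set.singleton_subset_iff]
      exact (W.valuation_lt_one_iff pW).mpr hvp1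
  have hpW0 : pW ≠ 0 := fun h => hpM0 (congrArg Subtype.val h)
  have hεmem : y ^ (-t) ∈ W := by rw [← W.valuation_le_one_iff, hyz]
  let ε : W := ⟨y ^ (-t), hεmem⟩
  have hεunit : IsUnit ε := (W.valuation_eq_one_iff ε).mpr (hyz (-t))
  have hπBW : algebraMap B W πB = ε * pW ^ (e₁ + 1) := by
    apply Subtype.ext
    change g = y ^ (-t) * pM ^ (e₁ + 1)
    rw [hI1, mul_comm g, ← mul_assoc, ← zpow_add₀ hy0, neg_add_cancel, zpow_zero, one_mul]
  have hramW : Ideal.ramificationIdx' (maximalIdeal B) (maximalIdeal W) = e₁ + 1 :=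
    ramificationIdx'_eq πB hmB pW hmW hpW0 (e₁ + 1) ε hεunit hπBW
  -- separability of the residue field extension
  have hsep : Algebra.IsSeparable (ResidueField B) (ResidueField W) := by
    rw [← separableClosure.eq_top_iff, eq_top_iff]
    letI algAW : Algebra (ResidueField A) (ResidueField W) :=
      ((algebraMap (ResidueField B) (ResidueField W)).comp
        (algebraMap (ResidueField A) (ResidueField B))).toAlgebra
    haveI : IsScalarTower (ResidueField A) (ResidueField B) (ResidueField W) :=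
      IsScalarTower.of_algebraMap_eq' rfl
    let αW' : ResidueField (W.comap (algebraMap K₁ M)) →ₐ[ResidueField A] ResidueField W :=
      { ResidueField.map (EtRam.inclOfComap W (algebraMap K₁ M)) with
        commutes' := by
          intro abar
          obtain ⟨a, rfl⟩ := residue_surjective abar
          change residue W (EtRam.inclOfComap W (algebraMap K₁ M)
            (algebraMap A (W.comap (algebraMap K₁ M)) a)) = residue W (φB (algebraMap A B a))
          rw [hcompat] }
    have hαW : ∀ x : W.comap (algebraMap K₁ M), αW' (residue _ x) =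
        residue W (EtRam.inclOfComap W (algebraMap K₁ M) x) := fun x => rfl
    have hβW : ∀ b : B, algebraMap (ResidueField B) (ResidueField W) (residue B b) =
        residue W (φB b) := fun b => rfl
    have hαsep : ∀ xbar : ResidueField (W.comap (algebraMap K₁ M)),
        αW' xbar ∈ separableClosure (ResidueField B) (ResidueField W) := by
      intro xbar
      rw [mem_separableClosure_iff]
      exact ((Algebra.IsSeparable.isSeparable (ResidueField A) xbar).map αW'
        αW'.toRingHom.injective).tower_top (ResidueField B)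
    have hβsep : ∀ bbar : ResidueField B, algebraMap (ResidueField B) (ResidueField W) bbar ∈
        separableClosure (ResidueField B) (ResidueField W) :=
      fun bbar => (separableClosure (ResidueField B) (ResidueField W)).algebraMap_mem bbar
    have hyunit : IsUnit yW := (W.valuation_eq_one_iff yW).mpr hvy
    have hyres0 : residue W yW ≠ 0 := by
      rw [Ne, residue_eq_zero_iff, mem_maximalIdeal, mem_nonunits_iff, not_not]
      exact hyunit
    have hysep : residue W yW ∈ separableClosure (ResidueField B) (ResidueField W) := by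
      have hyres : (residue W yW) ^ d = algebraMap (ResidueField B) (ResidueField W)
          (residue B (w : B)) * αW' (residue _
            ((u'⁻¹ : (W.comap (algebraMap K₁ M))ˣ) : W.comap (algebraMap K₁ M))) := by
        rw [← map_pow, hrel, map_mul, hβW, hαW]
      have hc'mem : algebraMap (ResidueField B) (ResidueField W)
          (residue B (w : B)) * αW' (residue _
            ((u'⁻¹ : (W.comap (algebraMap K₁ M))ˣ) : W.comap (algebraMap K₁ M))) ∈
          separableClosure (ResidueField B) (ResidueField W) := mul_mem (hβsep _) (hαsep _)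
      set c' : separableClosure (ResidueField B) (ResidueField W) := ⟨_, hc'mem⟩ with hc'
      have hc'0 : c' ≠ 0 := by
        intro h0
        have h1 : ((c' : separableClosure (ResidueField B) (ResidueField W)) :
            ResidueField W) = 0 := by rw [h0]; rfl
        rw [hc'] at h1
        change _ * _ = 0 at h1
        rw [← hyres] at h1
        exact hyres0 (pow_eq_zero_iff hd0 |>.mp h1)
      have hdW : ((d : ℕ) : ResidueField W) ≠ 0 := by
        intro h
        apply hdk
        have h1 : algebraMap (ResidueField A) (ResidueField W) (d : ResidueField A) = 0 := by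
          rw [map_natCast]
          exact h
        exact (map_eq_zero _).mp h1
      have hdSep : ((d : ℕ) : separableClosure (ResidueField B) (ResidueField W)) ≠ 0 := by
        intro h
        apply hdW
        have h1 := congrArg (algebraMap (separableClosure (ResidueField B) (ResidueField W))
          (ResidueField W)) h
        rw [map_natCast, map_zero] at h1
        exact h1
      have hpolysep : (X ^ d - C c' :
          (separableClosure (ResidueField B) (ResidueField W))[X]).Separable :=
        separable_X_pow_sub_C c' hdSep hc'0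
      have hroot : aeval (residue W yW) (X ^ d - C c' :
          (separableClosure (ResidueField B) (ResidueField W))[X]) = 0 := by
        rw [map_sub, map_pow, aeval_X, aeval_C, hyres]
        exact sub_self _
      have hsepy : IsSeparable (separableClosure (ResidueField B) (ResidueField W))
          (residue W yW) := hpolysep.of_dvd (minpoly.dvd _ _ hroot)
      rw [mem_separableClosure_iff]
      exact IsSeparable.of_algebra_isSeparable_of_isSeparable (ResidueField B) hsepy
    have hRsep : ∀ r : genRing3 W (algebraMap K₁ M) φB yW yiW pW,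
        residue W (r : W) ∈ separableClosure (ResidueField B) (ResidueField W) := by
      rintro ⟨x, hx⟩
      change residue W x ∈ _
      induction hx using Subring.closure_induction with
      | mem x hx =>
        rcases hx with (⟨v, rfl⟩ | ⟨b, rfl⟩) | hx
        · rw [← hαW]; exact hαsep _
        · rw [← hβW]; exact hβsep _
        · rcases hx with hx | hx | hx
          · subst hx; exact hysep
          · subst hx
            have h1 : residue W yiW * residue W yW = 1 := by
              rw [← map_mul]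
              have : yiW * yW = 1 := Subtype.ext (inv_mul_cancel₀ hy0)
              rw [this, map_one]
            rw [eq_inv_of_mul_eq_one_left h1]
            exact inv_mem hysep
          · rw [Set.mem_singleton_iff] at hx
            subst hx
            have : residue W pW = 0 := by
              rw [residue_eq_zero_iff]
              exact (W.valuation_lt_one_iff pW).mpr hvp1
            rw [this]
            exact zero_mem _
      | zero => rw [map_zero]; exact zero_mem _
      | one => rw [map_one]; exact one_mem _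
      | add x y hx hy ihx ihy => rw [map_add]; exact add_mem ihx ihy
      | neg x hx ihx => rw [map_neg]; exact neg_mem ihx
      | mul x y hx hy ihx ihy => rw [map_mul]; exact mul_mem ihx ihy
    intro xbar _
    obtain ⟨x, rfl⟩ := residue_surjective xbar
    by_cases hu : IsUnit x
    · obtain ⟨a, b, hb, hab⟩ := hunit x hu
      have hbres : residue W (b : W) ≠ 0 := by
        rw [Ne, residue_eq_zero_iff, mem_maximalIdeal, mem_nonunits_iff, not_not]
        exact hb
      have hxres : residue W x = residue W (a : W) / residue W (b : W) := by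
        rw [eq_div_iff hbres, ← map_mul, hab]
      rw [hxres]
      exact div_mem (hRsep a) (hRsep b)
    · have h0 : residue W x = 0 := by
        rw [residue_eq_zero_iff, mem_maximalIdeal, mem_nonunits_iff]
        exact hu
      rw [h0]
      exact zero_mem _
  refine ⟨hsep, fun p hp hchar => ?_⟩
  haveI := hchar
  have hcharA : CharP (ResidueField A) p :=
    (RingHom.charP_iff (algebraMap (ResidueField A) (ResidueField B))
      (algebraMap (ResidueField A) (ResidueField B)).injective p).mpr hchar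
  intro hdvd
  rw [hramW] at hdvd
  exact hpV p hp hcharA (hramV ▸ (he' ▸ Dvd.dvd.mul_right hdvd d))

end Main3

open TensorProduct in
theorem main3 (A B K L K' : Type u) [CommRing A] [IsDomain A]
    [IsDiscreteValuationRing A] [CommRing B] [IsDomain B] [IsDiscreteValuationRing B] [Algebra A B]
    [IsLocalHom (algebraMap A B)]
    [Field K] [Field L] [Field K'] [Algebra A K] [IsFractionRing A K] [Algebra B L] [IsFractionRing B L]
    [Algebra K L] [Algebra A L] [IsScalarTower A K L] [IsScalarTower A B L]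
    [Algebra K K'] [FiniteDimensional K K'] [Algebra.IsSeparable K K']
    (h : EtRam.IsTamelyRamified A ((algebraMap K K').comp (algebraMap A K)))
    (F : Type u) [Field F] [Algebra (K' ⊗[K] L) F] (hF : Function.Surjective (algebraMap (K' ⊗[K] L) F)) :
    EtRam.IsTamelyRamified B ((algebraMap (K' ⊗[K] L) F).comp
      ((Algebra.TensorProduct.includeRight : L →ₐ[K] K' ⊗[K] L).toRingHom.comp (algebraMap B L))) := by
  letI iAK' : Algebra A K' := ((algebraMap K K').comp (algebraMap A K)).toAlgebra
  haveI : IsScalarTower A K K' := IsScalarTower.of_algebraMap_eq' rfl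
  letI iLF : Algebra L F := ((algebraMap (K' ⊗[K] L) F).comp
    (Algebra.TensorProduct.includeRight : L →ₐ[K] K' ⊗[K] L).toRingHom).toAlgebra
  letI iK'F : Algebra K' F := ((algebraMap (K' ⊗[K] L) F).comp
    (Algebra.TensorProduct.includeLeft : K' →ₐ[K] K' ⊗[K] L).toRingHom).toAlgebra
  letI iKF : Algebra K F := ((algebraMap (K' ⊗[K] L) F).comp
    (algebraMap K (K' ⊗[K] L))).toAlgebra
  have hLF : ∀ l : L, algebraMap L F l = algebraMap (K' ⊗[K] L) F ((1 : K') ⊗ₜ[K] l) := fun l => rfl
  have hK'F : ∀ k : K', algebraMap K' F k = algebraMap (K' ⊗[K] L) F (k ⊗ₜ[K] (1 : L)) :=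
    fun k => rfl
  haveI : IsScalarTower K L F := IsScalarTower.of_algebraMap_eq' (by
    ext k
    change algebraMap (K' ⊗[K] L) F (algebraMap K (K' ⊗[K] L) k) =
      algebraMap (K' ⊗[K] L) F ((1 : K') ⊗ₜ[K] algebraMap K L k)
    congr 1
    rw [Algebra.TensorProduct.algebraMap_apply, Algebra.algebraMap_eq_smul_one,
      Algebra.algebraMap_eq_smul_one, TensorProduct.smul_tmul])
  haveI : IsScalarTower K K' F := IsScalarTower.of_algebraMap_eq' (by
    ext k
    change algebraMap (K' ⊗[K] L) F (algebraMap K (K' ⊗[K] L) k) =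
      algebraMap (K' ⊗[K] L) F (algebraMap K K' k ⊗ₜ[K] (1 : L))
    rw [Algebra.TensorProduct.algebraMap_apply])
  have hadj : Algebra.adjoin L (Set.range (algebraMap K' F)) = ⊤ := by
    rw [eq_top_iff]
    intro m hm
    clear hm
    obtain ⟨t, rfl⟩ := hF m
    induction t using TensorProduct.induction_on with
    | zero =>
      rw [map_zero]
      exact Subalgebra.zero_mem _
    | tmul k l =>
      have h1 : algebraMap (K' ⊗[K] L) F (k ⊗ₜ[K] l) = l • algebraMap K' F k := by
        rw [Algebra.smul_def, hLF, hK'F, ← map_mul, Algebra.TensorProduct.tmul_mul_tmul, one_mul,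
          mul_one]
      rw [h1]
      exact Subalgebra.smul_mem _ (Algebra.subset_adjoin (Set.mem_range_self k)) l
    | add x y hx hy =>
      rw [map_add]
      exact Subalgebra.add_mem _ hx hy
  intro W hW
  exact core3 A B K L K' h F hadj W hW

end Groth.Agent.Lib.Helper14TameBC
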