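import Mathlib
import Groth.Agent.Lib.Helper14EtRam

set_option autoImplicit false
set_option linter.style.haveILetI false
set_option linter.unusedSectionVars false
universe u

namespace Groth.Agent.Lib.Helper14EtRamB

open IsLocalRing

section G

variable {R C L : Type u} [CommRing R] [CommRing C] [IsDomain C] [Field L] [Algebra C L]
  [IsFractionRing C L] [Algebra R C] [Algebra R L] [IsScalarTower R C L]

/-- a valuation subring `V` of the fraction field of a domain `C`, containing `C` and centred
at a prime `P` with `C_P` a DVR, is (as an algebra) the localization of `C` at `P`. -/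
theorem exists_algEquiv_localization (V : ValuationSubring L) [Algebra R V]
    (hRV : ∀ r : R, ((algebraMap R V r : V) : L) = algebraMap R L r)
    (hCV : ∀ c : C, algebraMap C L c ∈ V) (P : Ideal C) [P.IsPrime]
    (hP : ∀ c : C, c ∈ P ↔ (⟨algebraMap C L c, hCV c⟩ : V) ∈ maximalIdeal V)
    [IsDiscreteValuationRing (Localization.AtPrime P)] :
    ∃ e : Localization.AtPrime P ≃ₐ[R] V,
      ∀ c : C, ((e (algebraMap C (Localization.AtPrime P) c) : V) : L) = algebraMap C L c := by
  let ι : C →+* V := (algebraMap C L).codRestrict V.toSubring hCV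
  have hι : ∀ c : C, ((ι c : V) : L) = algebraMap C L c := fun c => rfl
  let D := Localization.AtPrime P
  have hunit : ∀ s : P.primeCompl, IsUnit (ι s) := by
    intro s
    by_contra hs
    exact s.2 ((hP s).mpr hs)
  let j : D →+* V := IsLocalization.lift (M := P.primeCompl) (g := ι) hunit
  have hj : ∀ c : C, j (algebraMap C D c) = ι c := fun c => IsLocalization.lift_eq _ _
  letI : Algebra D L := (V.subtype.comp j).toAlgebra
  haveI : IsScalarTower C D L := IsScalarTower.of_algebraMap_eq' (by
    ext c
    simp only [RingHom.algebraMap_toAlgebra, RingHom.comp_apply]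
    rw [hj]
    rfl)
  haveI : IsFractionRing D L :=
    IsFractionRing.isFractionRing_of_isDomain_of_isLocalization P.primeCompl D L
  have hjinj : Function.Injective j := by
    have h1 : Function.Injective (algebraMap D L) := IsFractionRing.injective D L
    intro a b hab
    exact h1 (congrArg V.subtype hab)
  have hjmax : ∀ d : D, d ∈ maximalIdeal D → j d ∈ maximalIdeal V := by
    intro d hd
    rw [← IsLocalization.AtPrime.map_eq_maximalIdeal P D] at hd
    have : Ideal.map (algebraMap C D) P ≤ (maximalIdeal V).comap j := by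
      rw [Ideal.map_le_iff_le_comap]
      intro c hc
      change j (algebraMap C D c) ∈ maximalIdeal V
      rw [hj]
      exact (hP c).mp hc
    exact this hd
  have hjsurj : Function.Surjective j := by
    intro x
    by_cases hx0 : (x : L) = 0
    · exact ⟨0, by rw [map_zero]; exact Subtype.ext hx0.symm⟩
    rcases ValuationRing.isInteger_or_isInteger D (x : L) with ⟨d, hd⟩ | ⟨d, hd⟩
    · exact ⟨d, Subtype.ext hd⟩
    · by_cases hdu : IsUnit d
      · obtain ⟨u, rfl⟩ := hdu
        refine ⟨((u⁻¹ : Dˣ) : D), Subtype.ext ?_⟩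
        have h1 : (algebraMap D L (u : D)) * (algebraMap D L ((u⁻¹ : Dˣ) : D)) = 1 := by
          rw [← map_mul, Units.mul_inv, map_one]
        have h2 : (x : L)⁻¹ * (x : L) = 1 := inv_mul_cancel₀ hx0
        change algebraMap D L ((u⁻¹ : Dˣ) : D) = (x : L)
        rw [hd] at h1
        calc algebraMap D L ((u⁻¹ : Dˣ) : D)
            = ((x : L)⁻¹ * (x : L)) * algebraMap D L ((u⁻¹ : Dˣ) : D) := by rw [h2, one_mul]
          _ = (x : L) * ((x : L)⁻¹ * algebraMap D L ((u⁻¹ : Dˣ) : D)) := by ring
          _ = (x : L) := by rw [h1, mul_one]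
      · exfalso
        have hdm : j d ∈ maximalIdeal V := hjmax d hdu
        have h1 : j d * x = 1 := by
          apply Subtype.ext
          change algebraMap D L d * (x : L) = 1
          rw [hd]
          exact inv_mul_cancel₀ hx0
        have : (1 : V) ∈ maximalIdeal V := h1 ▸ Ideal.mul_mem_right _ _ hdm
        exact (Ideal.ne_top_iff_one _).mp (maximalIdeal.isMaximal V).ne_top this
  have hcomm : ∀ r : R, j (algebraMap R D r) = algebraMap R V r := by
    intro r
    apply Subtype.ext
    rw [IsScalarTower.algebraMap_apply R C D, hj, hι, hRV, ← IsScalarTower.algebraMap_apply]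
  refine ⟨AlgEquiv.ofRingEquiv (f := RingEquiv.ofBijective j ⟨hjinj, hjsurj⟩) hcomm, fun c => ?_⟩
  change ((j (algebraMap C D c) : V) : L) = _
  rw [hj]
  exact hι c

end G

section U1

theorem formallyUnramified_integralClosure
    (A K K' : Type u) [CommRing A] [IsDomain A] [IsDiscreteValuationRing A] [Field K]
    [Algebra A K] [IsFractionRing A K] [Field K'] [Algebra K K'] [Algebra A K']
    [IsScalarTower A K K'] [FiniteDimensional K K'] [Algebra.IsSeparable K K']
    (h : EtRam.IsUnramifiedExt A (algebraMap A K')) :
    Algebra.FormallyUnramified A (integralClosure A K') := by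
  classical
  let A' := integralClosure A K'
  haveI : IsDedekindDomain A' := integralClosure.isDedekindDomain A K K'
  haveI : Module.Finite A A' := IsIntegralClosure.finite A K K' A'
  haveI : IsFractionRing A' K' := integralClosure.isFractionRing_of_finite_extension K K'
  rw [Algebra.formallyUnramified_iff_forall]
  intro q
  haveI : q.asIdeal.IsPrime := q.2
  by_cases hq : q.asIdeal = ⊥
  · -- generic point
    haveI : Algebra.FormallyUnramified A K :=
      Algebra.FormallyUnramified.of_isLocalization (nonZeroDivisors A)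
    haveI : Algebra.FormallyUnramified K K' := Algebra.FormallyUnramified.of_isSeparable K K'
    haveI : Algebra.FormallyUnramified A K' := Algebra.FormallyUnramified.comp A K K'
    haveI : IsFractionRing A' (Localization.AtPrime q.asIdeal) := by
      have h1 : IsLocalization q.asIdeal.primeCompl (Localization.AtPrime q.asIdeal) :=
        Localization.isLocalization
      have h2 : q.asIdeal.primeCompl = nonZeroDivisors A' := by
        ext x
        rw [mem_nonZeroDivisors_iff_ne_zero]
        change x ∉ q.asIdeal ↔ _
        rw [hq, Ideal.mem_bot]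
      have h3 : ∀ (M N : Submonoid A'), M = N →
          IsLocalization M (Localization.AtPrime q.asIdeal) →
          IsLocalization N (Localization.AtPrime q.asIdeal) := by
        rintro M N rfl hM
        exact hM
      exact h3 _ _ h2 h1
    exact Algebra.FormallyUnramified.of_equiv
      ((IsLocalization.algEquiv (nonZeroDivisors A') K'
        (Localization.AtPrime q.asIdeal)).restrictScalars A)
  · let D := Localization.AtPrime q.asIdeal
    haveI : IsDiscreteValuationRing D :=
      IsLocalization.AtPrime.isDiscreteValuationRing_of_dedekind_domain A' hq D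
    have hinj' : Function.Injective (algebraMap A' K') := IsFractionRing.injective A' K'
    have hunit : ∀ s : q.asIdeal.primeCompl, IsUnit (algebraMap A' K' s) := fun s => by
      refine IsUnit.mk0 _ ?_
      intro hs
      have : (s : A') = 0 := hinj' (by rw [hs, map_zero])
      exact s.2 (this ▸ Ideal.zero_mem _)
    let f : D →+* K' := IsLocalization.lift hunit
    have hf : ∀ c : A', f (algebraMap A' D c) = algebraMap A' K' c := fun c =>
      IsLocalization.lift_eq _ _
    obtain ⟨V, hV1, hV2⟩ := IsLocalRing.exists_factor_valuationRing f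
    have hCV : ∀ c : A', algebraMap A' K' c ∈ V := fun c => by
      have := hV1 (algebraMap A' D c)
      rwa [hf] at this
    have hP : ∀ c : A', c ∈ q.asIdeal ↔
        (⟨algebraMap A' K' c, hCV c⟩ : V) ∈ maximalIdeal V := by
      intro c
      rw [← IsLocalization.AtPrime.to_map_mem_maximal_iff D q.asIdeal c]
      have h1 : (⟨algebraMap A' K' c, hCV c⟩ : V) =
          (f.codRestrict V.toSubring hV1) (algebraMap A' D c) := Subtype.ext (hf c).symm
      rw [h1]
      exact (map_mem_nonunits_iff (f.codRestrict V.toSubring hV1) _).symm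
    -- `q` lies over the maximal ideal of `A`
    have hqA : ∀ a : A, a ∈ maximalIdeal A → algebraMap A A' a ∈ q.asIdeal := by
      have hne : q.asIdeal.comap (algebraMap A A') ≠ ⊥ := fun hbot =>
        hq (Ideal.eq_bot_of_comap_eq_bot hbot)
      haveI : (q.asIdeal.comap (algebraMap A A')).IsPrime := Ideal.comap_isPrime _ _
      have hmax : (q.asIdeal.comap (algebraMap A A')).IsMaximal :=
        Ideal.IsPrime.isMaximal inferInstance hne
      have := IsLocalRing.eq_maximalIdeal hmax
      intro a ha
      rw [← this] at ha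
      exact ha
    have hgV : ∀ a : A, algebraMap A K' a ∈ V := fun a => by
      have := hCV (algebraMap A A' a)
      rwa [← IsScalarTower.algebraMap_apply] at this
    have hdom : EtRam.Dominates A (algebraMap A K') V := by
      rw [Groth.Agent.Lib.Helper14EtRam.dominates_iff]
      refine ⟨hgV, ⟨fun a ha => ?_⟩⟩
      by_contra hna
      have h1 : a ∈ maximalIdeal A := hna
      have h2 := (hP _).mp (hqA a h1)
      apply h2
      convert ha using 1
      exact Subtype.ext (IsScalarTower.algebraMap_apply A A' K' a).symm
    letI iAV : Algebra A V := (RingHom.codRestrict (algebraMap A K') V hdom.1).toAlgebra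
    haveI hloc : IsLocalHom (algebraMap A V) := by
      obtain ⟨h1, h2⟩ := (Groth.Agent.Lib.Helper14EtRam.dominates_iff _ V).mp hdom
      exact h2
    obtain ⟨hwu, hsep⟩ := h V hdom
    obtain ⟨e, -⟩ := exists_algEquiv_localization (R := A) (C := A') V (fun r => rfl) hCV
      q.asIdeal hP
    haveI : Algebra.EssFiniteType A' D := Algebra.EssFiniteType.of_isLocalization D q.asIdeal.primeCompl
    haveI : Algebra.EssFiniteType A D := Algebra.EssFiniteType.comp A A' D
    haveI : Algebra.EssFiniteType A V := (Algebra.EssFiniteType.iff_of_algEquiv e).mp inferInstance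
    haveI : Algebra.FormallyUnramified A V := Algebra.FormallyUnramified.of_map_maximalIdeal hwu
    exact Algebra.FormallyUnramified.of_equiv e.symm

end U1

section U2

theorem isUnramifiedExt_of_subalgebra
    (B F : Type u) [CommRing B] [IsDomain B] [IsDiscreteValuationRing B] [Field F] [Algebra B F]
    (hBF : Function.Injective (algebraMap B F))
    (B'' : Subalgebra B F) [Module.Finite B B''] [Algebra.FormallyUnramified B B'']
    [IsFractionRing B'' F] :
    EtRam.IsUnramifiedExt B (algebraMap B F) := by
  classical
  intro W hW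
  letI iBW : Algebra B W := (RingHom.codRestrict (algebraMap B F) W hW.1).toAlgebra
  intro hloc
  haveI : IsScalarTower B W F := IsScalarTower.of_algebraMap_eq' rfl
  haveI : Algebra.IsIntegral B B'' := Algebra.IsIntegral.of_finite B B''
  have hCW : ∀ c : B'', algebraMap B'' F c ∈ W := by
    intro c
    have h1 : IsIntegral B (algebraMap B'' F c) := (Algebra.IsIntegral.isIntegral c).algebraMap
    have h2 : IsIntegral W (algebraMap B'' F c) := h1.tower_top
    obtain ⟨y, hy⟩ := IsIntegrallyClosed.isIntegral_iff.mp h2
    rw [← hy]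
    exact y.2
  let ι : B'' →+* W := (algebraMap B'' F).codRestrict W.toSubring hCW
  let Q : Ideal B'' := (maximalIdeal W).comap ι
  haveI : Q.IsPrime := Ideal.comap_isPrime _ _
  have hP : ∀ c : B'', c ∈ Q ↔ (⟨algebraMap B'' F c, hCW c⟩ : W) ∈ maximalIdeal W :=
    fun c => Iff.rfl
  let D := Localization.AtPrime Q
  haveI : Algebra.FormallyUnramified B'' D := Algebra.FormallyUnramified.of_isLocalization Q.primeCompl
  haveI : Algebra.FormallyUnramified B D := Algebra.FormallyUnramified.comp B B'' D
  haveI : Algebra.EssFiniteType B'' D := Algebra.EssFiniteType.of_isLocalization D Q.primeCompl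
  haveI : Algebra.EssFiniteType B D := Algebra.EssFiniteType.comp B B'' D
  have hBB'' : Function.Injective (algebraMap B B'') := fun x y hxy => hBF (by
    rw [IsScalarTower.algebraMap_apply B B'' F, hxy, ← IsScalarTower.algebraMap_apply])
  have hB''D : Function.Injective (algebraMap B'' D) :=
    IsLocalization.injective D Q.primeCompl_le_nonZeroDivisors
  have hmemQ : ∀ b : B, b ∈ maximalIdeal B → algebraMap B B'' b ∈ Q := by
    intro b hb
    change ι (algebraMap B B'' b) ∈ maximalIdeal W
    have : ι (algebraMap B B'' b) = algebraMap B W b := Subtype.ext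
      (IsScalarTower.algebraMap_apply B B'' F b).symm
    rw [this]
    exact (map_mem_nonunits_iff (algebraMap B W) b).mpr hb
  haveI : IsLocalHom (algebraMap B D) := by
    refine ⟨fun b hb => ?_⟩
    by_contra hnb
    have h1 : algebraMap B B'' b ∈ Q := hmemQ b hnb
    have h2 : algebraMap B'' D (algebraMap B B'' b) ∈ maximalIdeal D :=
      (IsLocalization.AtPrime.to_map_mem_maximal_iff D Q _).mpr h1
    rw [← IsScalarTower.algebraMap_apply] at h2
    exact h2 hb
  have hmap : (maximalIdeal B).map (algebraMap B D) = maximalIdeal D :=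
    Algebra.FormallyUnramified.map_maximalIdeal
  haveI : IsNoetherianRing B'' := IsNoetherianRing.of_finite B B''
  haveI : IsNoetherianRing D := IsLocalization.isNoetherianRing Q.primeCompl D inferInstance
  haveI : IsDomain D := IsLocalization.isDomain_localization Q.primeCompl_le_nonZeroDivisors
  obtain ⟨π, hπ⟩ := IsDiscreteValuationRing.exists_irreducible B
  have hprin : (maximalIdeal D).IsPrincipal := by
    rw [← hmap, hπ.maximalIdeal_eq, Ideal.map_span, Set.image_singleton]
    exact ⟨⟨_, rfl⟩⟩
  have hnf : ¬ IsField D := by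
    rw [IsLocalRing.isField_iff_maximalIdeal_eq]
    intro hbot
    have h1 : algebraMap B D π ∈ maximalIdeal D := by
      rw [← hmap]
      exact Ideal.mem_map_of_mem _ (by rw [hπ.maximalIdeal_eq]; exact Ideal.mem_span_singleton_self π)
    rw [hbot, Ideal.mem_bot, IsScalarTower.algebraMap_apply B B'' D] at h1
    have h2 := hBB'' (hB''D (h1.trans (map_zero _).symm) |>.trans (map_zero _).symm)
    exact hπ.ne_zero h2
  haveI : IsDiscreteValuationRing D := ((IsDiscreteValuationRing.TFAE D hnf).out 0 4).mpr hprin
  obtain ⟨e, -⟩ := exists_algEquiv_localization (R := B) (C := B'') W (fun r => rfl) hCW Q hP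
  haveI : Algebra.EssFiniteType B W := (Algebra.EssFiniteType.iff_of_algEquiv e).mp inferInstance
  haveI : Algebra.FormallyUnramified B W := Algebra.FormallyUnramified.of_equiv e
  exact ⟨Algebra.FormallyUnramified.map_maximalIdeal, inferInstance⟩

end U2

section U3

open TensorProduct in
theorem isUnramifiedExt_factor_baseChange (A B K L K' : Type u) [CommRing A] [IsDomain A]
    [IsDiscreteValuationRing A] [CommRing B] [IsDomain B] [IsDiscreteValuationRing B] [Algebra A B]
    [IsLocalHom (algebraMap A B)] (hinj : Function.Injective (algebraMap A B))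
    [Field K] [Field L] [Field K'] [Algebra A K] [IsFractionRing A K] [Algebra B L] [IsFractionRing B L]
    [Algebra K L] [Algebra A L] [IsScalarTower A K L] [IsScalarTower A B L]
    [Algebra K K'] [FiniteDimensional K K'] [Algebra.IsSeparable K K']
    (h : EtRam.IsUnramifiedExt A ((algebraMap K K').comp (algebraMap A K)))
    (F : Type u) [Field F] [Algebra (K' ⊗[K] L) F] (hF : Function.Surjective (algebraMap (K' ⊗[K] L) F)) :
    EtRam.IsUnramifiedExt B ((algebraMap (K' ⊗[K] L) F).comp
      ((Algebra.TensorProduct.includeRight : L →ₐ[K] K' ⊗[K] L).toRingHom.comp (algebraMap B L))) := by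
  classical
  letI iAK' : Algebra A K' := ((algebraMap K K').comp (algebraMap A K)).toAlgebra
  haveI : IsScalarTower A K K' := IsScalarTower.of_algebraMap_eq' rfl
  haveI hA' : Algebra.FormallyUnramified A (integralClosure A K') :=
    formallyUnramified_integralClosure A K K' h
  let A' := integralClosure A K'
  haveI : Module.Finite A A' := IsIntegralClosure.finite A K K' A'
  let g : B →+* F := (algebraMap (K' ⊗[K] L) F).comp
      ((Algebra.TensorProduct.includeRight : L →ₐ[K] K' ⊗[K] L).toRingHom.comp (algebraMap B L))
  have hg : ∀ b : B, g b = algebraMap (K' ⊗[K] L) F ((1 : K') ⊗ₜ[K] algebraMap B L b) := fun b => rfl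
  letI iBF : Algebra B F := g.toAlgebra
  letI iAF : Algebra A F := (g.comp (algebraMap A B)).toAlgebra
  haveI : IsScalarTower A B F := IsScalarTower.of_algebraMap_eq' rfl
  have hBF : Function.Injective (algebraMap B F) := by
    have h1 : Function.Injective ((algebraMap (K' ⊗[K] L) F).comp
        (Algebra.TensorProduct.includeRight : L →ₐ[K] K' ⊗[K] L).toRingHom) :=
      RingHom.injective _
    exact h1.comp (IsFractionRing.injective B L)
  let φ₀ : K' →+* F := (algebraMap (K' ⊗[K] L) F).comp
      (Algebra.TensorProduct.includeLeftRingHom : K' →+* K' ⊗[K] L)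
  have hφ₀ : ∀ x : K', φ₀ x = algebraMap (K' ⊗[K] L) F (x ⊗ₜ[K] (1 : L)) := fun x => rfl
  have hmove : ∀ (a : A) (x : K') (y : L), (a • x) ⊗ₜ[K] y = x ⊗ₜ[K] (a • y) := by
    intro a x y
    rw [← IsScalarTower.algebraMap_smul K a x, ← IsScalarTower.algebraMap_smul K a y,
      TensorProduct.smul_tmul]
  let φ : A' →ₐ[A] F :=
    { toRingHom := φ₀.comp (algebraMap A' K')
      commutes' := fun a => by
        change φ₀ (algebraMap A' K' (algebraMap A A' a)) = g (algebraMap A B a)
        rw [← IsScalarTower.algebraMap_apply A A' K', hφ₀, hg,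
          ← IsScalarTower.algebraMap_apply A B L, Algebra.algebraMap_eq_smul_one a,
          Algebra.algebraMap_eq_smul_one a, hmove] }
  have hφ : ∀ x : A', φ x = algebraMap (K' ⊗[K] L) F ((x : K') ⊗ₜ[K] (1 : L)) := fun x => rfl
  let ψ : B ⊗[A] A' →ₐ[B] F :=
    Algebra.TensorProduct.lift (Algebra.ofId B F) φ (fun _ _ => Commute.all _ _)
  have hψ : ∀ (b : B) (x : A'), ψ (b ⊗ₜ x) = g b * φ x := fun b x => by
    simp only [ψ, Algebra.TensorProduct.lift_tmul]
    rfl
  let B'' : Subalgebra B F := ψ.range
  haveI : Module.Finite B B'' :=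
    Module.Finite.of_surjective ψ.rangeRestrict.toLinearMap ψ.rangeRestrict_surjective
  haveI : Algebra.FormallyUnramified B B'' :=
    Algebra.FormallyUnramified.of_surjective ψ.rangeRestrict ψ.rangeRestrict_surjective
  haveI : Algebra.IsAlgebraic A K' := IsFractionRing.comap_isAlgebraic_iff.mpr
    (inferInstance : Algebra.IsAlgebraic K K')
  have claim : ∀ w : K' ⊗[K] L, ∃ b : B, b ≠ 0 ∧ ∃ t : B ⊗[A] A',
      g b * algebraMap (K' ⊗[K] L) F w = ψ t := by
    intro w
    induction w using TensorProduct.induction_on with
    | zero => exact ⟨1, one_ne_zero, 0, by simp⟩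
    | tmul x y =>
      obtain ⟨a, ha0, hax⟩ := (Algebra.IsAlgebraic.isAlgebraic (R := A) x).exists_integral_multiple
      obtain ⟨b₁, b₂, hb₂, hb⟩ := IsFractionRing.div_surjective (A := B) y
      have hb₂0 : b₂ ≠ 0 := nonZeroDivisors.ne_zero hb₂
      have hb₂L : algebraMap B L b₂ ≠ 0 := fun h0 =>
        hb₂0 (IsFractionRing.injective B L (by rw [h0, map_zero]))
      refine ⟨algebraMap A B a * b₂, mul_ne_zero (fun h0 => ha0 (hinj (by rw [h0, map_zero]))) hb₂0,
        b₁ ⊗ₜ ⟨a • x, hax⟩, ?_⟩
      rw [hψ, hφ, hg, hg, ← map_mul, ← map_mul]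
      congr 1
      rw [Algebra.TensorProduct.tmul_mul_tmul, Algebra.TensorProduct.tmul_mul_tmul, one_mul,
        one_mul, mul_one, hmove]
      congr 1
      rw [map_mul, ← IsScalarTower.algebraMap_apply A B L, Algebra.smul_def, mul_assoc]
      congr 1
      rw [← hb]
      field_simp
    | add w₁ w₂ h₁ h₂ =>
      obtain ⟨b₁, hb₁, t₁, ht₁⟩ := h₁
      obtain ⟨b₂, hb₂, t₂, ht₂⟩ := h₂
      refine ⟨b₁ * b₂, mul_ne_zero hb₁ hb₂, b₂ • t₁ + b₁ • t₂, ?_⟩
      have e1 : ψ (b₂ • t₁ + b₁ • t₂) = g b₂ * ψ t₁ + g b₁ * ψ t₂ := by
        rw [map_add, map_smul, map_smul, Algebra.smul_def, Algebra.smul_def]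
        rfl
      rw [e1, ← ht₁, ← ht₂, map_add, map_mul]
      ring
  haveI : IsFractionRing B'' F := by
    refine IsFractionRing.of_field (R := B'') (K := F) (fun z => ?_)
    obtain ⟨w, rfl⟩ := hF z
    obtain ⟨b, hb0, t, ht⟩ := claim w
    refine ⟨⟨ψ t, t, rfl⟩, algebraMap B B'' b, ?_⟩
    have hgb : g b ≠ 0 := fun h0 => hb0 (hBF (by rw [map_zero]; exact h0))
    change _ = ψ t / g b
    rw [← ht]
    field_simp
  exact isUnramifiedExt_of_subalgebra B F hBF B''

end U3

end Groth.Agent.Lib.Helper14EtRamB
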