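import Mathlib
import Groth.Agent.Lib.Helper14EtRam
import Groth.Agent.Lib.Helper14EtRamB
import Groth.Agent.Lib.Helper14Eisenstein

set_option autoImplicit false
set_option linter.style.haveILetI false
set_option linter.unusedSectionVars false
set_option linter.unusedTactic false
universe u

namespace Groth.Agent.Lib.Helper14TotRam

open IsLocalRing Polynomial

section ValSum

variable {M : Type*} [Field M] {Γ₀ : Type*} [LinearOrderedCommGroupWithZero Γ₀]

theorem valuation_sum_pow_eq (v : Valuation M Γ₀) (x : M) (e : ℕ) (hx0 : v x ≠ 0) (hx1 : v x < 1)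
    (c : Fin e → M) (hc : ∀ i, c i ≠ 0 → ∃ z : ℤ, v (c i) = v x ^ ((e : ℤ) * z))
    (i₀ : Fin e) (hi₀ : c i₀ ≠ 0) :
    ∃ j, c j ≠ 0 ∧ v (∑ i, c i * x ^ (i : ℕ)) = v (c j * x ^ (j : ℕ)) ∧
      ∀ i, c i ≠ 0 → v (c i * x ^ (i : ℕ)) ≤ v (c j * x ^ (j : ℕ)) := by
  classical
  have hpos : (0 : Γ₀) < v x := lt_of_le_of_ne zero_le hx0.symm
  have hex : ∀ j, c j ≠ 0 → ∃ l : ℤ,
      v (c j * x ^ (j : ℕ)) = v x ^ ((e : ℤ) * l + (j : ℕ)) := by
    intro j hj
    obtain ⟨l, hl⟩ := hc j hj
    refine ⟨l, ?_⟩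
    rw [map_mul, map_pow, hl, ← zpow_natCast (v x) (j : ℕ), ← zpow_add₀ hx0]
  choose! l hl1 using hex
  let S : Finset (Fin e) := Finset.univ.filter fun j => c j ≠ 0
  have hiS : i₀ ∈ S := by simp [S, hi₀]
  obtain ⟨j₀, hj₀S, hj₀max⟩ := Finset.exists_max_image S
    (fun j => v (c j * x ^ (j : ℕ))) ⟨i₀, hiS⟩
  have hj₀ : c j₀ ≠ 0 := by simpa [S] using hj₀S
  have hstrict : ∀ z : ℤ, ∀ z' : ℤ, v x ^ z = v x ^ z' → z = z' := by
    intro z z' h
    exact zpow_right_injective₀ hpos hx1.ne h
  refine ⟨j₀, hj₀, ?_, fun i hi => hj₀max i (by simp [S, hi])⟩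
  apply Valuation.map_sum_eq_of_lt _ (Finset.mem_univ j₀)
  intro j hj
  have hjne : j ≠ j₀ := by
    intro h
    simp [h] at hj
  by_cases hcj : c j = 0
  · rw [hcj, zero_mul, map_zero, hl1 j₀ hj₀]
    exact zpow_pos hpos _
  · have hjS : j ∈ S := by simp [S, hcj]
    refine lt_of_le_of_ne (hj₀max j hjS) ?_
    intro heq
    rw [hl1 j hcj, hl1 j₀ hj₀] at heq
    have h3 := hstrict _ _ heq
    apply hjne
    apply Fin.ext
    have hjlt := j.2
    have hj₀lt := j₀.2
    have h4 : ((j : ℕ) : ℤ) = ((j₀ : ℕ) : ℤ) := by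
      have e1 : ((e : ℤ) * l j + (j : ℕ)) % (e : ℤ) = (j : ℕ) := by
        rw [Int.add_comm, Int.add_mul_emod_self_left]
        exact Int.emod_eq_of_lt (by positivity) (by exact_mod_cast hjlt)
      have e2 : ((e : ℤ) * l j₀ + (j₀ : ℕ)) % (e : ℤ) = (j₀ : ℕ) := by
        rw [Int.add_comm, Int.add_mul_emod_self_left]
        exact Int.emod_eq_of_lt (by positivity) (by exact_mod_cast hj₀lt)
      rw [← e1, ← e2, h3]
    exact_mod_cast h4

theorem sum_pow_ne_zero (v : Valuation M Γ₀) (x : M) (e : ℕ) (hx0 : v x ≠ 0) (hx1 : v x < 1)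
    (c : Fin e → M) (hc : ∀ i, c i ≠ 0 → ∃ z : ℤ, v (c i) = v x ^ ((e : ℤ) * z))
    (hsum : ∑ i, c i * x ^ (i : ℕ) = 0) : ∀ i, c i = 0 := by
  intro i₀
  by_contra hi₀
  obtain ⟨j, hj, hv, -⟩ := valuation_sum_pow_eq v x e hx0 hx1 c hc i₀ hi₀
  rw [hsum, map_zero] at hv
  have hx : x ≠ 0 := (Valuation.ne_zero_iff v).mp hx0
  exact (Valuation.ne_zero_iff v).mpr (mul_ne_zero hj (pow_ne_zero _ hx)) hv.symm

end ValSum

section LemD

/-- the valuation ring of a nonzero prime of the integral closure. -/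
theorem exists_valuationSubring_of_prime
    (A K K' : Type u) [CommRing A] [IsDomain A] [IsDiscreteValuationRing A] [Field K]
    [Algebra A K] [IsFractionRing A K] [Field K'] [Algebra K K'] [Algebra A K']
    [IsScalarTower A K K'] [FiniteDimensional K K'] [Algebra.IsSeparable K K']
    (q : Ideal (integralClosure A K')) [q.IsPrime] (hq : q ≠ ⊥) :
    ∃ V : ValuationSubring K', EtRam.Dominates A (algebraMap A K') V ∧
      ∀ x ∈ V, ∃ a s : integralClosure A K', s ∉ q ∧ x * (s : K') = (a : K') := by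
  classical
  let A' := integralClosure A K'
  haveI : IsDedekindDomain A' := integralClosure.isDedekindDomain A K K'
  haveI : Module.Finite A A' := IsIntegralClosure.finite A K K' A'
  haveI : IsFractionRing A' K' := integralClosure.isFractionRing_of_finite_extension K K'
  let D := Localization.AtPrime q
  haveI : IsDiscreteValuationRing D :=
    IsLocalization.AtPrime.isDiscreteValuationRing_of_dedekind_domain A' hq D
  have hinj' : Function.Injective (algebraMap A' K') := IsFractionRing.injective A' K'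
  have hunit : ∀ s : q.primeCompl, IsUnit (algebraMap A' K' s) := fun s => by
    refine IsUnit.mk0 _ ?_
    intro hs
    have : (s : A') = 0 := hinj' (by rw [hs, map_zero])
    exact s.2 (this ▸ Ideal.zero_mem _)
  let f : D →+* K' := IsLocalization.lift hunit
  have hf : ∀ c : A', f (algebraMap A' D c) = algebraMap A' K' c := fun c =>
    IsLocalization.lift_eq _ _
  obtain ⟨V, hV1, hV2⟩ := IsLocalRing.exists_factor_valuationRing f
  have hCV : ∀ c : A', algebraMap A' K' c ∈ V := fun c => by
    have := hV1 (algebraMap A' D c)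
    rwa [hf] at this
  have hP : ∀ c : A', c ∈ q ↔
      (⟨algebraMap A' K' c, hCV c⟩ : V) ∈ maximalIdeal V := by
    intro c
    rw [← IsLocalization.AtPrime.to_map_mem_maximal_iff D q c]
    have h1 : (⟨algebraMap A' K' c, hCV c⟩ : V) =
        (f.codRestrict V.toSubring hV1) (algebraMap A' D c) := Subtype.ext (hf c).symm
    rw [h1]
    exact (map_mem_nonunits_iff (f.codRestrict V.toSubring hV1) _).symm
  have hqA : ∀ a : A, a ∈ maximalIdeal A → algebraMap A A' a ∈ q := by
    have hne : q.comap (algebraMap A A') ≠ ⊥ := fun hbot =>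
      hq (Ideal.eq_bot_of_comap_eq_bot hbot)
    haveI : (q.comap (algebraMap A A')).IsPrime := Ideal.comap_isPrime _ _
    have hmax : (q.comap (algebraMap A A')).IsMaximal :=
      Ideal.IsPrime.isMaximal inferInstance hne
    have := IsLocalRing.eq_maximalIdeal hmax
    intro a ha
    rw [← this] at ha
    exact ha
  have hgV : ∀ a : A, algebraMap A K' a ∈ V := fun a => by
    have := hCV (algebraMap A A' a)
    rwa [← IsScalarTower.algebraMap_apply] at this
  have hdom : EtRam.Dominates A (algebraMap A K') V := by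
    rw [Groth.Agent.Lib.Helper14EtRam.dominates_iff]
    refine ⟨hgV, ⟨fun a ha => ?_⟩⟩
    by_contra hna
    have h1 : a ∈ maximalIdeal A := hna
    have h2 := (hP _).mp (hqA a h1)
    apply h2
    convert ha using 1
    exact Subtype.ext (IsScalarTower.algebraMap_apply A A' K' a).symm
  letI iAV : Algebra A V := (RingHom.codRestrict (algebraMap A K') V hdom.1).toAlgebra
  obtain ⟨e, he⟩ := Groth.Agent.Lib.Helper14EtRamB.exists_algEquiv_localization (R := A) (C := A')
    V (fun r => rfl) hCV q hP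
  refine ⟨V, hdom, fun x hx => ?_⟩
  obtain ⟨⟨a, s⟩, hd⟩ := IsLocalization.surj q.primeCompl (e.symm ⟨x, hx⟩)
  refine ⟨a, s, s.2, ?_⟩
  have h1 := congrArg (fun d => ((e d : V) : K')) hd
  simp only [map_mul, AlgEquiv.apply_symm_apply, MulMemClass.coe_mul] at h1
  rw [he, he] at h1
  exact h1

end LemD

section Stage3

variable (A K K' : Type u) [CommRing A] [IsDomain A] [IsDiscreteValuationRing A] [Field K]
    [Algebra A K] [IsFractionRing A K] [Field K'] [Algebra K K'] [Algebra A K']
    [IsScalarTower A K K'] [FiniteDimensional K K'] [Algebra.IsSeparable K K']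

include K in
/-- if `A` has a unique dominating valuation ring `V₁` in `K'`, it is the integral closure. -/
theorem isIntegral_of_mem_of_unique (V₁ : ValuationSubring K')
    (huniq : ∀ V : ValuationSubring K', EtRam.Dominates A (algebraMap A K') V → V = V₁)
    {x : K'} (hx : x ∈ V₁) : IsIntegral A x := by
  classical
  let A' := integralClosure A K'
  let I : Ideal A' :=
    { carrier := {a | IsIntegral A ((a : K') * x)}
      add_mem' := fun {a b} ha hb => by
        change IsIntegral A (((a + b : A') : K') * x)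
        rw [Subalgebra.coe_add, add_mul]
        exact IsIntegral.add ha hb
      zero_mem' := by
        change IsIntegral A (((0 : A') : K') * x)
        rw [Subalgebra.coe_zero, zero_mul]
        exact isIntegral_zero
      smul_mem' := fun c a ha => by
        change IsIntegral A (((c * a : A') : K') * x)
        rw [Subalgebra.coe_mul, mul_assoc]
        exact IsIntegral.mul c.2 ha }
  by_cases hI : I = ⊤
  · have h1 : (1 : A') ∈ I := by rw [hI]; trivial
    have h2 : IsIntegral A (((1 : A') : K') * x) := h1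
    rwa [Subalgebra.coe_one, one_mul] at h2
  · exfalso
    obtain ⟨q, hqmax, hIq⟩ := Ideal.exists_le_maximal I hI
    haveI : q.IsPrime := hqmax.isPrime
    haveI : Algebra.IsAlgebraic A K' := IsFractionRing.comap_isAlgebraic_iff.mpr
      (inferInstance : Algebra.IsAlgebraic K K')
    have hq : q ≠ ⊥ := by
      obtain ⟨a, ha0, hax⟩ :=
        (Algebra.IsAlgebraic.isAlgebraic (R := A) x).exists_integral_multiple
      have hinj : Function.Injective (algebraMap A A') := by
        intro a b hab
        have h3 : algebraMap A K' a = algebraMap A K' b := by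
          rw [IsScalarTower.algebraMap_apply A A' K', hab, ← IsScalarTower.algebraMap_apply]
        rw [IsScalarTower.algebraMap_eq A K K'] at h3
        exact IsFractionRing.injective A K ((algebraMap K K').injective h3)
      have hmem : algebraMap A A' a ∈ I := by
        change IsIntegral A (((algebraMap A A' a : A') : K') * x)
        have h3 : ((algebraMap A A' a : A') : K') = algebraMap A K' a := rfl
        rw [h3, ← Algebra.smul_def]
        exact hax
      intro hbot
      have h4 := hIq hmem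
      rw [hbot, Ideal.mem_bot] at h4
      exact ha0 (hinj (by rw [h4, map_zero]))
    obtain ⟨V, hVdom, hVmem⟩ := exists_valuationSubring_of_prime A K K' q hq
    have hVV₁ := huniq V hVdom
    obtain ⟨a, s, hs, hxs⟩ := hVmem x (hVV₁ ▸ hx)
    apply hs
    apply hIq
    change IsIntegral A ((s : K') * x)
    rw [mul_comm, hxs]
    exact a.2

include K in
theorem exists_powerBasis_of_totallyRamified {π : A} (hπ : Irreducible π)
    (ht : EtRam.IsTotallyRamified A (algebraMap A K')) :
    ∃ (pb : PowerBasis K K') (u : K'), u ≠ 0 ∧ pb.gen ^ pb.dim = algebraMap A K' π * u ∧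
      ∀ V : ValuationSubring K', EtRam.Dominates A (algebraMap A K') V →
        pb.gen ∈ V ∧ u ∈ V ∧ u⁻¹ ∈ V := by
  classical
  obtain ⟨⟨V₁, hV₁⟩, huniq', hres⟩ := ht
  have huniq : ∀ V : ValuationSubring K', EtRam.Dominates A (algebraMap A K') V → V = V₁ :=
    fun V hV => huniq' V V₁ hV hV₁
  have hV₁' : EtRam.Dominates A ((algebraMap K K').comp (algebraMap A K)) V₁ := by
    rw [← IsScalarTower.algebraMap_eq]
    exact hV₁
  haveI : IsDiscreteValuationRing V₁ :=
    Groth.Agent.Lib.Helper14EtRam.isDiscreteValuationRing_of_dominates V₁ hV₁'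
  obtain ⟨ϖ, hϖ⟩ := IsDiscreteValuationRing.exists_irreducible V₁
  have hinjAK' : Function.Injective (algebraMap A K') := by
    rw [IsScalarTower.algebraMap_eq A K K']
    exact (algebraMap K K').injective.comp (IsFractionRing.injective A K)
  have hπK' : algebraMap A K' π ≠ 0 := fun h => hπ.ne_zero (hinjAK' (by rw [h, map_zero]))
  have hp0 : (⟨algebraMap A K' π, hV₁.1 π⟩ : V₁) ≠ 0 := fun h => hπK' (congrArg Subtype.val h)
  obtain ⟨e, u', hu'⟩ := IsDiscreteValuationRing.eq_unit_mul_pow_irreducible hp0 hϖ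
  have hu'K : algebraMap A K' π = ((u' : V₁) : K') * (ϖ : K') ^ e := by
    have := congrArg Subtype.val hu'
    simpa using this
  have hvπ1 : V₁.valuation (algebraMap A K' π) < 1 :=
    hV₁.2 π ((IsLocalRing.mem_maximalIdeal π).mpr hπ.not_isUnit)
  have hvu' : V₁.valuation ((u' : V₁) : K') = 1 := (V₁.valuation_eq_one_iff _).mp u'.isUnit
  have hvϖ1 : V₁.valuation (ϖ : K') < 1 :=
    (V₁.valuation_lt_one_iff ϖ).mp ((IsLocalRing.mem_maximalIdeal ϖ).mpr hϖ.not_isUnit)
  have hϖ0 : (ϖ : K') ≠ 0 := fun h => hϖ.ne_zero (Subtype.ext h)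
  have hvϖ0 : V₁.valuation (ϖ : K') ≠ 0 := (Valuation.ne_zero_iff _).mpr hϖ0
  have hvπe : V₁.valuation (algebraMap A K' π) = V₁.valuation (ϖ : K') ^ e := by
    rw [hu'K, map_mul, map_pow, hvu', one_mul]
  have he : 0 < e := by
    rcases Nat.eq_zero_or_pos e with h0 | h0
    · rw [h0, pow_zero] at hvπe
      exact absurd hvπe (ne_of_lt hvπ1)
    · exact h0
  -- linear independence
  have hli : LinearIndependent K (fun i : Fin e => (ϖ : K') ^ (i : ℕ)) := by
    rw [Fintype.linearIndependent_iff]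
    intro g hg i
    have hsum : ∑ i, algebraMap K K' (g i) * (ϖ : K') ^ (i : ℕ) = 0 := by
      rw [← hg]
      refine Finset.sum_congr rfl fun i _ => ?_
      rw [Algebra.smul_def]
    have hall := sum_pow_ne_zero V₁.valuation (ϖ : K') e hvϖ0 hvϖ1
      (fun i => algebraMap K K' (g i)) ?_ hsum i
    · exact (map_eq_zero _).mp hall
    · intro i hi
      have hgi : g i ≠ 0 := fun h => hi (by rw [h, map_zero])
      obtain ⟨l, hl, -⟩ := Groth.Agent.Lib.Helper14Eisenstein.exists_zpow_valuation V₁ hV₁ hπ hgi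
      refine ⟨l, ?_⟩
      rw [hl, hvπe, ← zpow_natCast, ← zpow_mul]
  -- approximation
  have happrox : ∀ j : ℕ, ∀ y : V₁, ∃ (a : ℕ → A) (y' : V₁),
      (y : K') = ∑ i ∈ Finset.range j, algebraMap A K' (a i) * (ϖ : K') ^ i +
        (ϖ : K') ^ j * (y' : K') := by
    intro j
    induction j with
    | zero =>
      intro y
      exact ⟨fun _ => 0, y, by simp⟩
    | succ j ih =>
      intro y
      obtain ⟨a, y', hy⟩ := ih y
      obtain ⟨a₀, ha₀⟩ := hres V₁ hV₁ (IsLocalRing.residue V₁ y')
      have h1 : y' - (RingHom.codRestrict (algebraMap A K') V₁ hV₁.1 a₀) ∈ maximalIdeal V₁ := by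
        rw [← IsLocalRing.residue_eq_zero_iff, map_sub, sub_eq_zero]
        exact ha₀.symm
      rw [hϖ.maximalIdeal_eq, Ideal.mem_span_singleton] at h1
      obtain ⟨y'', hy''⟩ := h1
      have hy''K : (y' : K') = algebraMap A K' a₀ + (ϖ : K') * (y'' : K') := by
        have := congrArg Subtype.val hy''
        simp only [AddSubgroupClass.coe_sub, MulMemClass.coe_mul] at this
        rw [← this]
        change (y' : K') = algebraMap A K' a₀ + ((y' : K') - algebraMap A K' a₀)
        ring
      refine ⟨fun i => if i = j then a₀ else a i, y'', ?_⟩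
      rw [Finset.sum_range_succ]
      beta_reduce
      rw [if_pos rfl, hy, hy''K]
      have h2 : ∑ i ∈ Finset.range j, algebraMap A K' (if i = j then a₀ else a i) * (ϖ : K') ^ i =
          ∑ i ∈ Finset.range j, algebraMap A K' (a i) * (ϖ : K') ^ i := by
        refine Finset.sum_congr rfl fun i hi => ?_
        rw [if_neg (ne_of_lt (Finset.mem_range.mp hi))]
      rw [h2]
      ring
  have hV₁int : ∀ y : K', y ∈ V₁ → IsIntegral A y := fun y hy =>
    isIntegral_of_mem_of_unique A K K' V₁ huniq hy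
  have hintV₁ : ∀ y : K', IsIntegral A y → y ∈ V₁ := fun y hy =>
    Groth.Agent.Lib.Helper14Eisenstein.gen_mem_of_dominates hy V₁ hV₁
  have huu : ((u' : V₁) : K') * (((u'⁻¹ : V₁ˣ) : V₁) : K') = 1 := by
    have h0 : (u' : V₁) * ((u'⁻¹ : V₁ˣ) : V₁) = 1 := u'.mul_inv
    have h1 := congrArg (Subtype.val : V₁ → K') h0
    rw [MulMemClass.coe_mul] at h1
    exact h1
  haveI : Module.Finite A (integralClosure A K') :=
    IsIntegralClosure.finite A K K' (integralClosure A K')
  have hN'fg : (Subalgebra.toSubmodule (integralClosure A K')).FG :=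
    Module.Finite.iff_fg.mp (inferInstance : Module.Finite A (integralClosure A K'))
  have hNN : Subalgebra.toSubmodule (integralClosure A K') ≤
      Submodule.span A (Set.range fun i : Fin e => (ϖ : K') ^ (i : ℕ)) ⊔
        (maximalIdeal A) • Subalgebra.toSubmodule (integralClosure A K') := by
    intro y hy
    have hyV : y ∈ V₁ := hintV₁ y hy
    obtain ⟨a, y', hyeq⟩ := happrox e ⟨y, hyV⟩
    change y = _ at hyeq
    rw [hyeq]
    apply Submodule.add_mem_sup
    · refine Submodule.sum_mem _ fun i hi => ?_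
      rw [← Algebra.smul_def]
      exact Submodule.smul_mem _ _
        (Submodule.subset_span ⟨⟨i, Finset.mem_range.mp hi⟩, rfl⟩)
    · have h3 : (ϖ : K') ^ e * (y' : K') =
          π • ((((u'⁻¹ : V₁ˣ) : V₁) : K') * (y' : K')) := by
        rw [Algebra.smul_def, hu'K]
        linear_combination (-(ϖ : K') ^ e * (y' : K')) * huu
      rw [h3]
      apply Submodule.smul_mem_smul
      · exact (IsLocalRing.mem_maximalIdeal π).mpr hπ.not_isUnit
      · exact hV₁int _ (V₁.mul_mem _ _ ((u'⁻¹ : V₁ˣ) : V₁).2 y'.2)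
  have hN'N := Submodule.le_of_le_smul_of_le_jacobson_bot hN'fg
    (IsLocalRing.maximalIdeal_le_jacobson ⊥) hNN
  haveI : Algebra.IsAlgebraic A K' := IsFractionRing.comap_isAlgebraic_iff.mpr
    (inferInstance : Algebra.IsAlgebraic K K')
  have hspan : ⊤ ≤ Submodule.span K (Set.range fun i : Fin e => (ϖ : K') ^ (i : ℕ)) := by
    intro x _
    obtain ⟨a, ha0, hax⟩ := (Algebra.IsAlgebraic.isAlgebraic (R := A) x).exists_integral_multiple
    have h1 : a • x ∈ Submodule.span A (Set.range fun i : Fin e => (ϖ : K') ^ (i : ℕ)) :=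
      hN'N hax
    have h2 : a • x ∈ Submodule.span K (Set.range fun i : Fin e => (ϖ : K') ^ (i : ℕ)) :=
      (Submodule.span_le_restrictScalars A K _) h1
    have haK : algebraMap A K a ≠ 0 := fun h =>
      ha0 (IsFractionRing.injective A K (by rw [h, map_zero]))
    have h3 : x = (algebraMap A K a)⁻¹ • (a • x) := by
      rw [← IsScalarTower.algebraMap_smul K a x, smul_smul, inv_mul_cancel₀ haK, one_smul]
    rw [h3]
    exact Submodule.smul_mem _ _ h2
  let pb : PowerBasis K K' :=
    { gen := (ϖ : K')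
      dim := e
      basis := Module.Basis.mk hli hspan
      basis_eq_pow := fun i => by rw [Module.Basis.mk_apply] }
  refine ⟨pb, (((u'⁻¹ : V₁ˣ) : V₁) : K'), right_ne_zero_of_mul_eq_one huu, ?_, ?_⟩
  · change (ϖ : K') ^ e = _
    rw [hu'K]
    linear_combination (-(ϖ : K') ^ e) * huu
  · intro V hV
    rw [huniq V hV]
    refine ⟨ϖ.2, ((u'⁻¹ : V₁ˣ) : V₁).2, ?_⟩
    have h4 : (((u'⁻¹ : V₁ˣ) : V₁) : K')⁻¹ = ((u' : V₁) : K') :=
      (eq_inv_of_mul_eq_one_left huu).symm
    rw [h4]
    exact (u' : V₁).2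

end Stage3

section Stage4

variable (A B K L K₁ : Type u) [CommRing A] [IsDomain A] [IsDiscreteValuationRing A]
    [CommRing B] [IsDomain B] [IsDiscreteValuationRing B] [Algebra A B] [IsLocalHom (algebraMap A B)]
    [Field K] [Field L] [Algebra A K] [IsFractionRing A K] [Algebra B L] [IsFractionRing B L]
    [Algebra K L] [Algebra A L] [IsScalarTower A K L] [IsScalarTower A B L]
    [Field K₁] [Algebra K K₁] [Algebra A K₁] [IsScalarTower A K K₁]

theorem step (hw : EtRam.IsWeaklyUnramified A B) {π : A} (hπ : Irreducible π)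
    (pb : PowerBasis K K₁) (u : K₁) (hu0 : u ≠ 0)
    (hrel : pb.gen ^ pb.dim = algebraMap A K₁ π * u)
    (hV : ∀ V : ValuationSubring K₁, EtRam.Dominates A (algebraMap A K₁) V →
      pb.gen ∈ V ∧ u ∈ V ∧ u⁻¹ ∈ V)
    (M : Type u) [Field M] [Algebra K M] [Algebra L M] [Algebra K₁ M] [IsScalarTower K L M]
    [IsScalarTower K K₁ M]
    (hadj : Algebra.adjoin L (Set.range (algebraMap K₁ M)) = ⊤) (W : ValuationSubring M)
    (hW : EtRam.Dominates B ((algebraMap L M).comp (algebraMap B L)) W) :
    (letI : Algebra (W.comap (algebraMap K₁ M)) W :=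
        (EtRam.inclOfComap W (algebraMap K₁ M)).toAlgebra;
      EtRam.IsWeaklyUnramified (W.comap (algebraMap K₁ M)) W) ∧
    LinearIndependent L (fun i : Fin pb.dim => (algebraMap K₁ M pb.gen) ^ (i : ℕ)) := by
  classical
  letI iBM : Algebra B M := ((algebraMap L M).comp (algebraMap B L)).toAlgebra
  haveI : IsScalarTower B L M := IsScalarTower.of_algebraMap_eq' rfl
  have hWB : EtRam.Dominates B (algebraMap B M) W := hW
  -- compatibility of the maps out of `A`
  have hAM : ∀ a : A, algebraMap K₁ M (algebraMap A K₁ a) = algebraMap B M (algebraMap A B a) := by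
    intro a
    rw [IsScalarTower.algebraMap_apply A K K₁, ← IsScalarTower.algebraMap_apply K K₁ M,
      IsScalarTower.algebraMap_apply K L M, ← IsScalarTower.algebraMap_apply A K L,
      IsScalarTower.algebraMap_apply A B L, ← IsScalarTower.algebraMap_apply B L M]
  -- uniformizer of `B`
  have hπB : Irreducible (algebraMap A B π) := by
    rw [IsDiscreteValuationRing.irreducible_iff_uniformizer]
    have h1 : maximalIdeal A = Ideal.span {π} :=
      (IsDiscreteValuationRing.irreducible_iff_uniformizer π).mp hπ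
    have h2 : (maximalIdeal A).map (algebraMap A B) = maximalIdeal B := hw
    rw [← h2, h1, Ideal.map_span, Set.image_singleton]
  -- `W ∩ K₁` dominates `A`
  obtain ⟨hW1, hW2⟩ := (Groth.Agent.Lib.Helper14EtRam.dominates_iff _ W).mp hWB
  have hV₁dom : EtRam.Dominates A (algebraMap A K₁) (W.comap (algebraMap K₁ M)) := by
    rw [Groth.Agent.Lib.Helper14EtRam.dominates_iff]
    have h0 : ∀ a : A, algebraMap A K₁ a ∈ W.comap (algebraMap K₁ M) := fun a => by
      rw [ValuationSubring.mem_comap, hAM]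
      exact hW1 _
    refine ⟨h0, ?_⟩
    have hcomp : (RingHom.codRestrict (algebraMap B M) W hW1).comp (algebraMap A B) =
        (EtRam.inclOfComap W (algebraMap K₁ M)).comp
          (RingHom.codRestrict (algebraMap A K₁) (W.comap (algebraMap K₁ M)) h0) := by
      ext a
      exact (hAM a).symm
    haveI : IsLocalHom (RingHom.codRestrict (algebraMap B M) W hW1) := hW2
    haveI h3 : IsLocalHom ((RingHom.codRestrict (algebraMap B M) W hW1).comp (algebraMap A B)) :=
      RingHom.isLocalHom_comp _ _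
    rw [hcomp] at h3
    exact isLocalHom_of_comp _ (EtRam.inclOfComap W (algebraMap K₁ M))
  obtain ⟨hgenV, huV, huinvV⟩ := hV _ hV₁dom
  rw [ValuationSubring.mem_comap] at hgenV huV huinvV
  set x := algebraMap K₁ M pb.gen with hx
  have hvu : W.valuation (algebraMap K₁ M u) = 1 := by
    have h1 : W.valuation (algebraMap K₁ M u) ≤ 1 := (W.valuation_le_one_iff _).mpr huV
    have h2 : W.valuation (algebraMap K₁ M u⁻¹) ≤ 1 := (W.valuation_le_one_iff _).mpr huinvV
    rw [map_inv₀, map_inv₀] at h2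
    by_contra hne
    have h3 : W.valuation (algebraMap K₁ M u) < 1 := lt_of_le_of_ne h1 hne
    have hvu0 : W.valuation (algebraMap K₁ M u) ≠ 0 := by
      rw [Valuation.ne_zero_iff]
      exact (_root_.map_ne_zero _).mpr hu0
    have h4 : 1 < (W.valuation (algebraMap K₁ M u))⁻¹ :=
      (one_lt_inv₀ (lt_of_le_of_ne zero_le hvu0.symm)).mpr h3
    exact absurd h2 (not_le.mpr h4)
  have hvπ1 : W.valuation (algebraMap B M (algebraMap A B π)) < 1 :=
    hWB.2 _ ((IsLocalRing.mem_maximalIdeal _).mpr hπB.not_isUnit)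
  have hval : W.valuation x ^ pb.dim = W.valuation (algebraMap B M (algebraMap A B π)) := by
    rw [hx, ← map_pow, ← map_pow, hrel, map_mul, map_mul, hvu, mul_one, hAM]
  have hπM0 : algebraMap B M (algebraMap A B π) ≠ 0 := by
    intro h0
    have h1 : algebraMap B L (algebraMap A B π) = 0 := (algebraMap L M).injective (by
      rw [map_zero]
      exact h0)
    exact hπB.ne_zero (IsFractionRing.injective B L (by rw [h1, map_zero]))
  have hvπ0 : W.valuation (algebraMap B M (algebraMap A B π)) ≠ 0 :=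
    (Valuation.ne_zero_iff _).mpr hπM0
  have hdim : 0 < pb.dim := by
    rcases Nat.eq_zero_or_pos pb.dim with h0 | h0
    · rw [h0, pow_zero] at hval
      exact absurd hval.symm (ne_of_lt hvπ1)
    · exact h0
  have hvx0 : W.valuation x ≠ 0 := by
    intro h0
    rw [h0, zero_pow hdim.ne'] at hval
    exact hvπ0 hval.symm
  have hvx1 : W.valuation x < 1 := by
    by_contra hge
    rw [not_lt] at hge
    have : (1 : ValuationSubring.ValueGroup W) ≤ W.valuation x ^ pb.dim := one_le_pow₀ hge
    rw [hval] at this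
    exact absurd hvπ1 (not_lt.mpr this)
  have hcoset : ∀ l : L, l ≠ 0 → ∃ z : ℤ,
      W.valuation (algebraMap L M l) = W.valuation x ^ ((pb.dim : ℤ) * z) := by
    intro l hl
    obtain ⟨z, hz, -⟩ := Groth.Agent.Lib.Helper14Eisenstein.exists_zpow_valuation W hWB hπB hl
    exact ⟨z, by rw [hz, ← hval, ← zpow_natCast, ← zpow_mul]⟩
  have hli : LinearIndependent L (fun i : Fin pb.dim => x ^ (i : ℕ)) := by
    rw [Fintype.linearIndependent_iff]
    intro g hg i
    have hsum : ∑ i, algebraMap L M (g i) * x ^ (i : ℕ) = 0 := by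
      rw [← hg]
      refine Finset.sum_congr rfl fun i _ => ?_
      rw [Algebra.smul_def]
    have hall := sum_pow_ne_zero W.valuation x pb.dim hvx0 hvx1
      (fun i => algebraMap L M (g i)) ?_ hsum i
    · exact (map_eq_zero _).mp hall
    · intro i hi
      exact hcoset (g i) (fun h => hi (by rw [h, map_zero]))
  have hspan : ∀ m : M, m ∈ Submodule.span L (Set.range fun i : Fin pb.dim => x ^ (i : ℕ)) := by
    intro m
    have hm : m ∈ Subalgebra.toSubmodule (Algebra.adjoin L (Set.range (algebraMap K₁ M))) := by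
      rw [hadj]
      trivial
    rw [Algebra.adjoin_eq_span] at hm
    have hcl : (Submonoid.closure (Set.range (algebraMap K₁ M)) : Set M) ⊆
        Set.range (algebraMap K₁ M) := by
      have : Submonoid.closure (Set.range (algebraMap K₁ M)) ≤
          MonoidHom.mrange ((algebraMap K₁ M : K₁ →+* M) : K₁ →* M) := by
        rw [Submonoid.closure_le]
        rintro _ ⟨k, rfl⟩
        exact ⟨k, rfl⟩
      intro y hy
      obtain ⟨k, hk⟩ := this hy
      exact ⟨k, hk⟩
    refine (Submodule.span_le.mpr ?_) (Submodule.span_mono hcl hm)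
    rintro _ ⟨k, rfl⟩
    have hk : k = ∑ i, pb.basis.repr k i • pb.gen ^ (i : ℕ) := by
      conv_lhs => rw [← pb.basis.sum_repr k]
      refine Finset.sum_congr rfl fun i _ => ?_
      rw [pb.basis_eq_pow]
    rw [SetLike.mem_coe, hk, map_sum]
    refine Submodule.sum_mem _ fun i _ => ?_
    rw [Algebra.smul_def, map_mul, map_pow, ← IsScalarTower.algebraMap_apply K K₁ M,
      IsScalarTower.algebraMap_apply K L M, ← Algebra.smul_def]
    exact Submodule.smul_mem _ _ (Submodule.subset_span ⟨i, rfl⟩)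
  refine ⟨?_, hli⟩
  letI a2 : Algebra (W.comap (algebraMap K₁ M)) W :=
    (EtRam.inclOfComap W (algebraMap K₁ M)).toAlgebra
  change Ideal.map (EtRam.inclOfComap W (algebraMap K₁ M)) (maximalIdeal _) = maximalIdeal _
  apply le_antisymm
  · exact ((IsLocalRing.local_hom_TFAE (EtRam.inclOfComap W (algebraMap K₁ M))).out 0 2).mp
      (EtRam.isLocalHom_inclOfComap W _)
  · intro y hy
    by_cases hy0 : (y : M) = 0
    · have : y = 0 := Subtype.ext hy0
      rw [this]
      exact Ideal.zero_mem _
    obtain ⟨c, hc⟩ := (Submodule.mem_span_range_iff_exists_fun L).mp (hspan (y : M))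
    have hsum : (y : M) = ∑ i, algebraMap L M (c i) * x ^ (i : ℕ) := by
      rw [← hc]
      refine Finset.sum_congr rfl fun i _ => ?_
      rw [Algebra.smul_def]
    have hex : ∃ i₀, algebraMap L M (c i₀) ≠ 0 := by
      by_contra hall
      push Not at hall
      apply hy0
      rw [hsum]
      exact Finset.sum_eq_zero fun i _ => by rw [hall i, zero_mul]
    obtain ⟨i₀, hi₀⟩ := hex
    obtain ⟨j, hj, hvj, -⟩ := valuation_sum_pow_eq W.valuation x pb.dim hvx0 hvx1
      (fun i => algebraMap L M (c i))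
      (fun i hi => hcoset (c i) (fun h => hi (by rw [h, map_zero]))) i₀ hi₀
    rw [← hsum] at hvj
    obtain ⟨z, hz⟩ := hcoset (c j) (fun h => hj (by rw [h, map_zero]))
    have hvy : W.valuation (y : M) = W.valuation x ^ ((pb.dim : ℤ) * z + (j : ℕ)) := by
      rw [hvj, map_mul, map_pow, hz, ← zpow_natCast (W.valuation x) (j : ℕ), ← zpow_add₀ hvx0]
    have hvy1 : W.valuation (y : M) < 1 := (W.valuation_lt_one_iff y).mp hy
    have hpos : (0 : ValuationSubring.ValueGroup W) < W.valuation x :=
      lt_of_le_of_ne zero_le hvx0.symm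
    have hexp : 1 ≤ (pb.dim : ℤ) * z + (j : ℕ) := by
      by_contra hlt
      rw [not_le] at hlt
      have h0 : (pb.dim : ℤ) * z + (j : ℕ) ≤ 0 := by omega
      have h1 : 1 ≤ W.valuation x ^ ((pb.dim : ℤ) * z + (j : ℕ)) :=
        one_le_zpow_of_nonpos₀ hpos hvx1.le h0
      rw [← hvy] at h1
      exact absurd hvy1 (not_lt.mpr h1)
    have hle : W.valuation (y : M) ≤ W.valuation x := by
      rw [hvy]
      calc W.valuation x ^ ((pb.dim : ℤ) * z + (j : ℕ)) ≤ W.valuation x ^ (1 : ℤ) :=
            zpow_le_zpow_right_of_le_one₀ hpos hvx1.le hexp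
        _ = W.valuation x := zpow_one _
    have hx0 : x ≠ 0 := (Valuation.ne_zero_iff _).mp hvx0
    have hdiv : (y : M) / x ∈ W := by
      rw [← W.valuation_le_one_iff, map_div₀]
      exact (div_le_one₀ hpos).mpr hle
    have hgenmax : (⟨pb.gen, (ValuationSubring.mem_comap).mpr hgenV⟩ :
        W.comap (algebraMap K₁ M)) ∈ maximalIdeal (W.comap (algebraMap K₁ M)) := by
      rw [IsLocalRing.mem_maximalIdeal]
      intro hunit
      have h1 : IsUnit (EtRam.inclOfComap W (algebraMap K₁ M)
          ⟨pb.gen, (ValuationSubring.mem_comap).mpr hgenV⟩) := hunit.map _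
      have h2 : (EtRam.inclOfComap W (algebraMap K₁ M)
          ⟨pb.gen, (ValuationSubring.mem_comap).mpr hgenV⟩) ∈ maximalIdeal W := by
        rw [ValuationSubring.valuation_lt_one_iff]
        exact hvx1
      exact h2 h1
    have hyeq : y = EtRam.inclOfComap W (algebraMap K₁ M)
        ⟨pb.gen, (ValuationSubring.mem_comap).mpr hgenV⟩ * ⟨(y : M) / x, hdiv⟩ := by
      apply Subtype.ext
      change (y : M) = x * ((y : M) / x)
      rw [mul_div_cancel₀ _ hx0]
    rw [hyeq]
    exact Ideal.mul_mem_right _ _ (Ideal.mem_map_of_mem _ hgenmax)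

end Stage4

section Stage5

open TensorProduct in
theorem main (A B K L : Type u) [CommRing A] [IsDomain A] [IsDiscreteValuationRing A]
    [CommRing B] [IsDomain B] [IsDiscreteValuationRing B] [Algebra A B] [IsLocalHom (algebraMap A B)]
    [Field K] [Field L] [Algebra A K] [IsFractionRing A K] [Algebra B L] [IsFractionRing B L]
    [Algebra K L] [Algebra A L] [IsScalarTower A K L] [IsScalarTower A B L]
    (hw : EtRam.IsWeaklyUnramified A B) (K₁ : Type u) [Field K₁] [Algebra K K₁]
    [FiniteDimensional K K₁]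
    [Algebra.IsSeparable K K₁]
    (ht : EtRam.IsTotallyRamified A ((algebraMap K K₁).comp (algebraMap A K))) :
    IsField (L ⊗[K] K₁) ∧ EtRam.IsWeakSolution B K L K₁ := by
  classical
  letI iAK₁ : Algebra A K₁ := ((algebraMap K K₁).comp (algebraMap A K)).toAlgebra
  haveI : IsScalarTower A K K₁ := IsScalarTower.of_algebraMap_eq' rfl
  obtain ⟨π, hπ⟩ := IsDiscreteValuationRing.exists_irreducible A
  have ht' : EtRam.IsTotallyRamified A (algebraMap A K₁) := ht
  obtain ⟨pb, u, hu0, hrel, hV⟩ := exists_powerBasis_of_totallyRamified A K K₁ hπ ht'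
  have hws : EtRam.IsWeakSolution B K L K₁ := by
    intro M _ _ _ _ _ _ hadj W hW
    exact (step A B K L K₁ hw hπ pb u hu0 hrel hV M hadj W hW).1
  refine ⟨?_, hws⟩
  haveI : Nontrivial (L ⊗[K] K₁) :=
    Algebra.TensorProduct.nontrivial_of_algebraMap_injective_of_isDomain K L K₁
      (algebraMap K L).injective (algebraMap K K₁).injective
  obtain ⟨𝔪, h𝔪⟩ := Ideal.exists_maximal (L ⊗[K] K₁)
  letI : Field ((L ⊗[K] K₁) ⧸ 𝔪) := Ideal.Quotient.field 𝔪
  letI : Algebra K₁ ((L ⊗[K] K₁) ⧸ 𝔪) := ((Ideal.Quotient.mk 𝔪).comp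
    (Algebra.TensorProduct.includeRight : K₁ →ₐ[K] L ⊗[K] K₁).toRingHom).toAlgebra
  have hK₁M : ∀ k : K₁, algebraMap K₁ ((L ⊗[K] K₁) ⧸ 𝔪) k =
      Ideal.Quotient.mk 𝔪 ((1 : L) ⊗ₜ[K] k) := fun k => rfl
  haveI : IsScalarTower K L ((L ⊗[K] K₁) ⧸ 𝔪) := inferInstance
  haveI : IsScalarTower K K₁ ((L ⊗[K] K₁) ⧸ 𝔪) := IsScalarTower.of_algebraMap_eq' (by
    ext k
    change Ideal.Quotient.mk 𝔪 (algebraMap K (L ⊗[K] K₁) k) =
      Ideal.Quotient.mk 𝔪 ((1 : L) ⊗ₜ[K] algebraMap K K₁ k)
    congr 1
    rw [Algebra.TensorProduct.algebraMap_apply, Algebra.algebraMap_eq_smul_one,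
      Algebra.algebraMap_eq_smul_one, TensorProduct.smul_tmul])
  have hadj : Algebra.adjoin L (Set.range (algebraMap K₁ ((L ⊗[K] K₁) ⧸ 𝔪))) = ⊤ := by
    rw [eq_top_iff]
    intro m hm
    clear hm
    obtain ⟨t, rfl⟩ := Ideal.Quotient.mk_surjective m
    induction t using TensorProduct.induction_on with
    | zero =>
      rw [map_zero]
      exact Subalgebra.zero_mem _
    | tmul l k =>
      have h1 : Ideal.Quotient.mk 𝔪 (l ⊗ₜ[K] k) =
          l • algebraMap K₁ ((L ⊗[K] K₁) ⧸ 𝔪) k := by
        rw [hK₁M, ← Ideal.Quotient.mkₐ_eq_mk L, ← map_smul, TensorProduct.smul_tmul',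
          smul_eq_mul, mul_one]
      rw [h1]
      exact Subalgebra.smul_mem _ (Algebra.subset_adjoin (Set.mem_range_self k)) l
    | add x y hx hy =>
      rw [map_add]
      exact Subalgebra.add_mem _ hx hy
  obtain ⟨W, hW1, hW2⟩ := IsLocalRing.exists_factor_valuationRing
    ((algebraMap L ((L ⊗[K] K₁) ⧸ 𝔪)).comp (algebraMap B L))
  have hW : EtRam.Dominates B ((algebraMap L ((L ⊗[K] K₁) ⧸ 𝔪)).comp (algebraMap B L)) W :=
    (Groth.Agent.Lib.Helper14EtRam.dominates_iff _ W).mpr ⟨hW1, hW2⟩
  have hli := (step A B K L K₁ hw hπ pb u hu0 hrel hV _ hadj W hW).2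
  -- the quotient map is injective
  have hbot : 𝔪 = ⊥ := by
    rw [eq_bot_iff]
    intro t ht
    rw [Ideal.mem_bot]
    have h0 : Ideal.Quotient.mk 𝔪 t = 0 := Ideal.Quotient.eq_zero_iff_mem.mpr ht
    have hrepr := (Algebra.TensorProduct.basis L pb.basis).sum_repr t
    rw [← hrepr, map_sum] at h0
    have h1 : ∀ i, Ideal.Quotient.mk 𝔪
        ((Algebra.TensorProduct.basis L pb.basis).repr t i •
          (Algebra.TensorProduct.basis L pb.basis) i) =
        (Algebra.TensorProduct.basis L pb.basis).repr t i •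
          (algebraMap K₁ ((L ⊗[K] K₁) ⧸ 𝔪) pb.gen) ^ (i : ℕ) := by
      intro i
      rw [Algebra.TensorProduct.basis_apply, pb.basis_eq_pow, ← Ideal.Quotient.mkₐ_eq_mk L,
        map_smul, Ideal.Quotient.mkₐ_eq_mk, ← hK₁M, map_pow]
    simp only [h1] at h0
    have h2 := (Fintype.linearIndependent_iff.mp hli) _ h0
    rw [← hrepr]
    exact Finset.sum_eq_zero fun i _ => by rw [h2 i, zero_smul]
  rw [Ring.isField_iff_maximal_bot, ← hbot]
  exact h𝔪

end Stage5

end Groth.Agent.Lib.Helper14TotRam
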