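import Mathlib
import Groth.Agent.Lib.Helper14TameBC
import Groth.Agent.Lib.Helper14TotRam

/-! Helper14: tame ramification and Kummer extensions `K[π^{1/e}]` (S9328, S9329). -/

set_option autoImplicit false
set_option linter.style.haveILetI false
set_option linter.unusedSectionVars false
universe u

namespace Groth.Agent.Lib.Helper14TameKummer


open IsLocalRing Polynomial

section AR

variable {A : Type u} [CommRing A] [IsLocalRing A] (π : A) (e : ℕ)

theorem ar_decomp (a' : AdjoinRoot (X ^ e - C π : A[X])) :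
    ∃ (a : A) (b : AdjoinRoot (X ^ e - C π : A[X])),
      a' = AdjoinRoot.of (X ^ e - C π : A[X]) a + AdjoinRoot.root (X ^ e - C π : A[X]) * b := by
  obtain ⟨f, rfl⟩ := AdjoinRoot.mk_surjective a'
  refine ⟨f.coeff 0, AdjoinRoot.mk _ f.divX, ?_⟩
  conv_lhs => rw [← Polynomial.divX_mul_X_add f]
  rw [map_add, map_mul, AdjoinRoot.mk_X, AdjoinRoot.mk_C, add_comm, mul_comm]

theorem ar_root_pow :
    AdjoinRoot.root (X ^ e - C π : A[X]) ^ e = AdjoinRoot.of (X ^ e - C π : A[X]) π := by
  have h := AdjoinRoot.mk_self (f := (X ^ e - C π : A[X]))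
  rw [map_sub, map_pow, AdjoinRoot.mk_X, AdjoinRoot.mk_C, sub_eq_zero] at h
  exact h

/-- the character `A' → κ_A` killing the root. -/
noncomputable def arChar (he : 0 < e) (hπ : π ∈ maximalIdeal A) :
    AdjoinRoot (X ^ e - C π : A[X]) →+* ResidueField A :=
  AdjoinRoot.lift (residue A) 0 (by
    rw [eval₂_sub, eval₂_pow, eval₂_X, eval₂_C, zero_pow he.ne', zero_sub, neg_eq_zero]
    exact (residue_eq_zero_iff π).mpr hπ)

theorem arChar_of (he : 0 < e) (hπ : π ∈ maximalIdeal A) (a : A) :
    arChar π e he hπ (AdjoinRoot.of _ a) = residue A a := by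
  unfold arChar
  rw [AdjoinRoot.lift_of]

theorem arChar_root (he : 0 < e) (hπ : π ∈ maximalIdeal A) :
    arChar π e he hπ (AdjoinRoot.root _) = 0 := by
  unfold arChar
  rw [AdjoinRoot.lift_root]

theorem ar_root_not_isUnit (he : 0 < e) (hπ : π ∈ maximalIdeal A) :
    ¬ IsUnit (AdjoinRoot.root (X ^ e - C π : A[X])) := by
  intro hu
  have h := hu.map (arChar π e he hπ)
  rw [arChar_root] at h
  exact not_isUnit_zero h

theorem ar_monic (he : 0 < e) : (X ^ e - C π : A[X]).Monic :=
  monic_X_pow_sub_C π he.ne'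

theorem ar_isLocalRing (he : 0 < e) (hπ : maximalIdeal A = Ideal.span {π}) :
    IsLocalRing (AdjoinRoot (X ^ e - C π : A[X])) := by
  have hπm : π ∈ maximalIdeal A := by rw [hπ]; exact Ideal.mem_span_singleton_self π
  have hmonic := ar_monic π e he
  haveI : Module.Finite A (AdjoinRoot (X ^ e - C π : A[X])) := hmonic.finite_adjoinRoot
  haveI : Algebra.IsIntegral A (AdjoinRoot (X ^ e - C π : A[X])) := inferInstance
  set χ := arChar π e he hπm with hχ
  have hsurj : Function.Surjective χ := by
    intro x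
    obtain ⟨a, rfl⟩ := residue_surjective x
    exact ⟨AdjoinRoot.of _ a, arChar_of π e he hπm a⟩
  have hkermax : (RingHom.ker χ).IsMaximal := RingHom.ker_isMaximal_of_surjective χ hsurj
  apply IsLocalRing.of_unique_max_ideal
  refine ⟨RingHom.ker χ, hkermax, ?_⟩
  intro m hm
  have hcomap : (m.comap (algebraMap A (AdjoinRoot (X ^ e - C π : A[X])))).IsMaximal :=
    Ideal.isMaximal_comap_of_isIntegral_of_isMaximal m
  have hcomap' : m.comap (algebraMap A (AdjoinRoot (X ^ e - C π : A[X]))) = maximalIdeal A :=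
    IsLocalRing.eq_maximalIdeal hcomap
  have hπmem : AdjoinRoot.of (X ^ e - C π : A[X]) π ∈ m := by
    have : π ∈ m.comap (algebraMap A (AdjoinRoot (X ^ e - C π : A[X]))) := by
      rw [hcomap']; exact hπm
    exact this
  have hroot : AdjoinRoot.root (X ^ e - C π : A[X]) ∈ m := by
    rw [← ar_root_pow] at hπmem
    exact hm.isPrime.mem_of_pow_mem e hπmem
  have hle : RingHom.ker χ ≤ m := by
    intro x hx
    obtain ⟨a, b, rfl⟩ := ar_decomp π e x
    rw [RingHom.mem_ker, map_add, map_mul, arChar_root, zero_mul, add_zero, arChar_of,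
      residue_eq_zero_iff, hπ, Ideal.mem_span_singleton] at hx
    obtain ⟨c, rfl⟩ := hx
    rw [map_mul]
    exact m.add_mem (m.mul_mem_right _ hπmem) (m.mul_mem_right _ hroot)
  exact (hkermax.eq_of_le hm.ne_top hle).symm

theorem ar_maximalIdeal (he : 0 < e) (hπ : maximalIdeal A = Ideal.span {π})
    [IsLocalRing (AdjoinRoot (X ^ e - C π : A[X]))] :
    maximalIdeal (AdjoinRoot (X ^ e - C π : A[X])) =
      Ideal.span {AdjoinRoot.root (X ^ e - C π : A[X])} := by
  have hπm : π ∈ maximalIdeal A := by rw [hπ]; exact Ideal.mem_span_singleton_self π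
  have hroot : AdjoinRoot.root (X ^ e - C π : A[X]) ∈
      maximalIdeal (AdjoinRoot (X ^ e - C π : A[X])) :=
    (mem_maximalIdeal _).mpr (ar_root_not_isUnit π e he hπm)
  apply le_antisymm
  · intro x hx
    obtain ⟨a, b, rfl⟩ := ar_decomp π e x
    have ha : AdjoinRoot.of (X ^ e - C π : A[X]) a ∈
        maximalIdeal (AdjoinRoot (X ^ e - C π : A[X])) := by
      have := Ideal.sub_mem _ hx (Ideal.mul_mem_right b _ hroot)
      rwa [add_sub_cancel_right] at this
    have ha' : a ∈ maximalIdeal A := by
      rw [mem_maximalIdeal, mem_nonunits_iff]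
      intro hu
      exact (mem_maximalIdeal _).mp ha (hu.map _)
    rw [hπ, Ideal.mem_span_singleton] at ha'
    obtain ⟨c, rfl⟩ := ha'
    rw [Ideal.mem_span_singleton]
    refine ⟨AdjoinRoot.root _ ^ (e - 1) * AdjoinRoot.of _ c + b, ?_⟩
    rw [map_mul, ← ar_root_pow, mul_add, ← mul_assoc, ← pow_succ', Nat.sub_add_cancel he]
  · rw [Ideal.span_singleton_le_iff_mem]
    exact hroot

theorem ar_residue_surjective (he : 0 < e) (hπ : π ∈ maximalIdeal A)
    [IsLocalRing (AdjoinRoot (X ^ e - C π : A[X]))]
    (x : ResidueField (AdjoinRoot (X ^ e - C π : A[X]))) :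
    ∃ a : A, residue _ (AdjoinRoot.of (X ^ e - C π : A[X]) a) = x := by
  obtain ⟨x, rfl⟩ := residue_surjective x
  obtain ⟨a, b, rfl⟩ := ar_decomp π e x
  refine ⟨a, ?_⟩
  have hroot : AdjoinRoot.root (X ^ e - C π : A[X]) ∈
      maximalIdeal (AdjoinRoot (X ^ e - C π : A[X])) :=
    (mem_maximalIdeal _).mpr (ar_root_not_isUnit π e he hπ)
  rw [map_add, map_mul, (residue_eq_zero_iff _).mpr hroot, zero_mul, add_zero]

end AR



open IsLocalRing Polynomial Groth.Agent.Lib.Helper14Eisenstein Groth.Agent.Lib.Helper14TotRam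
  Groth.Agent.Lib.Helper14TameBC

section T0

variable {A L : Type u} [CommRing A] [IsDomain A] [IsDiscreteValuationRing A]
  [Field L] [Algebra A L]

theorem dominates_comp_eq {K : Type u} [Field K]
    [Algebra A K] [Algebra K L] [IsScalarTower A K L] (V : ValuationSubring L) (hV : EtRam.Dominates A (algebraMap A L) V) :
    EtRam.Dominates A ((algebraMap K L).comp (algebraMap A K)) V := by
  rw [← IsScalarTower.algebraMap_eq A K L]
  exact hV

/-- data attached to a valuation ring dominating `A`. -/
theorem exists_unif (K : Type u) [Field K]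
    [Algebra A K] [IsFractionRing A K] [Algebra K L] [IsScalarTower A K L]
    [FiniteDimensional K L] [Algebra.IsSeparable K L] (V : ValuationSubring L) (hV : EtRam.Dominates A (algebraMap A L) V)
    {π : A} (hπ : Irreducible π) :
    letI : Algebra A V := (RingHom.codRestrict (algebraMap A L) V hV.1).toAlgebra
    ∃ (ϖ : V) (w : Vˣ) (eV : ℕ), Irreducible ϖ ∧ eV ≠ 0 ∧
      algebraMap A V π = w * ϖ ^ eV ∧
      Ideal.ramificationIdx' (maximalIdeal A) (maximalIdeal V) = eV := by
  letI : Algebra A V := (RingHom.codRestrict (algebraMap A L) V hV.1).toAlgebra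
  haveI : IsDiscreteValuationRing V :=
    Groth.Agent.Lib.Helper14EtRam.isDiscreteValuationRing_of_dominates (K := K) V
      (dominates_comp_eq V hV)
  have hinjAL : Function.Injective (algebraMap A L) := by
    rw [IsScalarTower.algebraMap_eq A K L]
    exact (algebraMap K L).injective.comp (IsFractionRing.injective A K)
  have hinj : Function.Injective (algebraMap A V) := fun a b hab =>
    hinjAL (congrArg (fun z : V => (z : L)) hab)
  obtain ⟨ϖ, hϖ⟩ := IsDiscreteValuationRing.exists_irreducible V
  have hπ0 : algebraMap A V π ≠ 0 := (map_ne_zero_iff _ hinj).mpr hπ.ne_zero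
  obtain ⟨eV, w, hwe⟩ := IsDiscreteValuationRing.eq_unit_mul_pow_irreducible hπ0 hϖ
  have hmA := (IsDiscreteValuationRing.irreducible_iff_uniformizer π).mp hπ
  have hmV := (IsDiscreteValuationRing.irreducible_iff_uniformizer ϖ).mp hϖ
  obtain ⟨h1, h2⟩ := (Groth.Agent.Lib.Helper14EtRam.dominates_iff _ V).mp hV
  haveI : IsLocalHom (algebraMap A V) := h2
  refine ⟨ϖ, w, eV, hϖ, ?_, hwe, ramificationIdx'_eq π hmA ϖ hmV hϖ.ne_zero eV w w.isUnit hwe⟩
  rintro rfl
  rw [pow_zero, mul_one] at hwe
  have hu : IsUnit (algebraMap A V π) := hwe ▸ w.isUnit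
  exact hπ.not_isUnit (isUnit_of_map_unit (algebraMap A V) π hu)

theorem ramificationIdx'_le_finrank {K : Type u} [Field K]
    [Algebra A K] [IsFractionRing A K] [Algebra K L] [IsScalarTower A K L]
    [FiniteDimensional K L] [Algebra.IsSeparable K L] (V : ValuationSubring L)
    (hV : EtRam.Dominates A (algebraMap A L) V) :
    letI : Algebra A V := (RingHom.codRestrict (algebraMap A L) V hV.1).toAlgebra
    Ideal.ramificationIdx' (maximalIdeal A) (maximalIdeal V) ≤ Module.finrank K L := by
  classical
  letI : Algebra A V := (RingHom.codRestrict (algebraMap A L) V hV.1).toAlgebra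
  obtain ⟨π, hπ⟩ := IsDiscreteValuationRing.exists_irreducible A
  obtain ⟨ϖ, w, eV, hϖ, heV, hwe, hram⟩ := exists_unif K V hV hπ
  rw [hram]
  have hϖm : ϖ ∈ maximalIdeal V := (mem_maximalIdeal _).mpr hϖ.not_isUnit
  have hx1 : V.valuation (ϖ : L) < 1 := (V.valuation_lt_one_iff ϖ).mp hϖm
  have hx0 : V.valuation (ϖ : L) ≠ 0 := by
    rw [Valuation.ne_zero_iff]
    intro h
    exact hϖ.ne_zero (Subtype.ext h)
  have hvw : V.valuation ((w : V) : L) = 1 := (V.valuation_eq_one_iff (w : V)).mp w.isUnit
  have hvπ : V.valuation (algebraMap A L π) = V.valuation (ϖ : L) ^ eV := by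
    have h := congrArg (fun z : V => V.valuation (z : L)) hwe
    change V.valuation (algebraMap A L π) = _ at h
    rw [h]
    push_cast
    rw [map_mul, map_pow, hvw, one_mul]
  have hli : LinearIndependent K (fun i : Fin eV => (ϖ : L) ^ (i : ℕ)) := by
    rw [Fintype.linearIndependent_iff]
    intro c hc
    have := sum_pow_ne_zero V.valuation (ϖ : L) eV hx0 hx1 (fun i => algebraMap K L (c i)) ?_ ?_
    · intro i
      have h := this i
      exact (map_eq_zero _).mp h
    · intro i hi
      have hci : c i ≠ 0 := fun h => hi (by simp only [h, map_zero])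
      obtain ⟨l, hl, -⟩ := exists_zpow_valuation V hV hπ hci
      refine ⟨l, ?_⟩
      rw [hl, hvπ, ← zpow_natCast, ← zpow_mul]
    · rw [← hc]
      refine Finset.sum_congr rfl fun i _ => ?_
      rw [Algebra.smul_def]
  have := hli.fintype_card_le_finrank
  simpa using this

theorem exists_e0 (K : Type u) [Field K]
    [Algebra A K] [IsFractionRing A K] [Algebra K L] [IsScalarTower A K L]
    [FiniteDimensional K L] [Algebra.IsSeparable K L] (htame : EtRam.IsTamelyRamified A (algebraMap A L)) :
    ∃ e₀ : ℕ, 0 < e₀ ∧ (e₀ : ResidueField A) ≠ 0 ∧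
      ∀ (V : ValuationSubring L) (hV : EtRam.Dominates A (algebraMap A L) V),
        letI : Algebra A V := (RingHom.codRestrict (algebraMap A L) V hV.1).toAlgebra
        Ideal.ramificationIdx' (maximalIdeal A) (maximalIdeal V) ∣ e₀ := by
  classical
  set N := Module.finrank K L with hN
  set S : Finset ℕ := (Finset.Icc 1 N).filter (fun n => (n : ResidueField A) ≠ 0) with hS
  refine ⟨∏ n ∈ S, n, ?_, ?_, ?_⟩
  · apply Finset.prod_pos
    intro n hn
    rw [hS, Finset.mem_filter, Finset.mem_Icc] at hn
    omega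
  · rw [Nat.cast_prod, Finset.prod_ne_zero_iff]
    intro n hn
    rw [hS, Finset.mem_filter] at hn
    exact hn.2
  · intro V hV
    letI : Algebra A V := (RingHom.codRestrict (algebraMap A L) V hV.1).toAlgebra
    apply Finset.dvd_prod_of_mem
    obtain ⟨π, hπ⟩ := IsDiscreteValuationRing.exists_irreducible A
    obtain ⟨ϖ, w, eV, hϖ, heV, hwe, hram⟩ := exists_unif K V hV hπ
    have hle := ramificationIdx'_le_finrank (K := K) V hV
    obtain ⟨h1, h2⟩ := (Groth.Agent.Lib.Helper14EtRam.dominates_iff _ V).mp hV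
    haveI : IsLocalHom (algebraMap A V) := h2
    obtain ⟨-, htp⟩ := htame V hV
    rw [hS, Finset.mem_filter, Finset.mem_Icc]
    refine ⟨⟨?_, hle⟩, ?_⟩
    · rw [hram]; omega
    · obtain ⟨p, hp⟩ := CharP.exists (ResidueField A)
      rcases CharP.char_is_prime_or_zero (ResidueField A) p with hpp | hp0
      · intro h0
        rw [CharP.cast_eq_zero_iff (ResidueField A) p] at h0
        exact htp p hpp hp h0
      · subst hp0
        haveI := CharP.charP_to_charZero (ResidueField A)
        rw [hram]
        exact Nat.cast_ne_zero.mpr heV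

end T0



open IsLocalRing Polynomial Groth.Agent.Lib.Helper14Eisenstein Groth.Agent.Lib.Helper14TotRam
  Groth.Agent.Lib.Helper14TameBC

section Dom

theorem dominates_comap {A : Type u} [CommRing A] [IsLocalRing A] {L M : Type u} [Field L]
    [Field M] (g : A →+* L) (f : L →+* M) (W : ValuationSubring M)
    (h : EtRam.Dominates A (f.comp g) W) : EtRam.Dominates A g (W.comap f) := by
  obtain ⟨h1, h2⟩ := (Groth.Agent.Lib.Helper14EtRam.dominates_iff _ W).mp h
  rw [Groth.Agent.Lib.Helper14EtRam.dominates_iff]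
  have h0 : ∀ a : A, g a ∈ W.comap f := fun a => h1 a
  refine ⟨h0, ?_⟩
  have hcomp : RingHom.codRestrict (f.comp g) W h1 =
      (EtRam.inclOfComap W f).comp (RingHom.codRestrict g (W.comap f) h0) := by
    ext a
    rfl
  rw [hcomp] at h2
  exact isLocalHom_of_comp _ (EtRam.inclOfComap W f)

theorem geomReduced_of_isSeparable (k E : Type u) [Field k] [Field E] [Algebra k E]
    [Algebra.IsSeparable k E] : Algebra.IsGeometricallyReduced k E := by
  rw [Algebra.isGeometricallyReduced_field_iff]
  haveI : IsReduced (TensorProduct k E (AlgebraicClosure k)) :=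
    Groth.Agent.Lib.Helper14.GeomRed.isReduced_tensor_of_isSeparable
  exact isReduced_of_injective (Algebra.TensorProduct.comm k (AlgebraicClosure k) E)
    (Algebra.TensorProduct.comm k (AlgebraicClosure k) E).injective

end Dom

section T1
open TensorProduct

variable {A K L : Type u} [CommRing A] [IsDomain A] [IsDiscreteValuationRing A] [Field K]
  [Algebra A K] [IsFractionRing A K] [Field L] [Algebra K L] [Algebra A L] [IsScalarTower A K L]
  [FiniteDimensional K L] [Algebra.IsSeparable K L]

set_option maxHeartbeats 1600000 in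
theorem core4 (π : A) (hπ : maximalIdeal A = Ideal.span {π}) (e : ℕ)
    (hek : (e : ResidueField A) ≠ 0)
    (htame : EtRam.IsTamelyRamified A (algebraMap A L))
    (hdiv : ∀ (V : ValuationSubring L) (hV : EtRam.Dominates A (algebraMap A L) V),
      letI : Algebra A V := (RingHom.codRestrict (algebraMap A L) V hV.1).toAlgebra
      Ideal.ramificationIdx' (maximalIdeal A) (maximalIdeal V) ∣ e)
    (K₁ : Type u) [Field K₁] [Algebra K K₁] [Algebra.IsSeparable K K₁]
    (pb : PowerBasis K K₁) (hdim : pb.dim = e)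
    (hgen : pb.gen ^ e = algebraMap K K₁ (algebraMap A K π))
    (A'' : Type u) [CommRing A''] [IsLocalRing A''] (ι : A →+* A'') (θ : A'' →+* K₁)
    (hθι : ∀ a, θ (ι a) = algebraMap K K₁ (algebraMap A K a)) (z : A'') (hθz : θ z = pb.gen)
    (hzm : maximalIdeal A'' = Ideal.span {z})
    (M : Type u) [Field M] [Algebra K M] [Algebra L M] [Algebra K₁ M] [IsScalarTower K L M]
    [IsScalarTower K K₁ M]
    (hadj : Algebra.adjoin L (Set.range (algebraMap K₁ M)) = ⊤)
    (hadj' : Algebra.adjoin K₁ (Set.range (algebraMap L M)) = ⊤) :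
    EtRam.IsUnramifiedExt A'' ((algebraMap K₁ M).comp θ) := by
  classical
  have hirr : Irreducible π := (IsDiscreteValuationRing.irreducible_iff_uniformizer π).mpr hπ
  have he0 : e ≠ 0 := by rintro rfl; exact hek Nat.cast_zero
  haveI : FiniteDimensional K K₁ := pb.finite
  letI iAK₁ : Algebra A K₁ := ((algebraMap K K₁).comp (algebraMap A K)).toAlgebra
  haveI : IsScalarTower A K K₁ := IsScalarTower.of_algebraMap_eq' rfl
  letI iAM : Algebra A M := ((algebraMap K M).comp (algebraMap A K)).toAlgebra
  haveI : IsScalarTower A K M := IsScalarTower.of_algebraMap_eq' rfl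
  haveI : IsScalarTower A L M := IsScalarTower.of_algebraMap_eq' (by
    ext a
    change algebraMap K M (algebraMap A K a) = algebraMap L M (algebraMap A L a)
    rw [IsScalarTower.algebraMap_apply A K L, ← IsScalarTower.algebraMap_apply K L M])
  haveI : IsScalarTower A K₁ M := IsScalarTower.of_algebraMap_eq' (by
    ext a
    change algebraMap K M (algebraMap A K a) = algebraMap K₁ M (algebraMap K K₁ (algebraMap A K a))
    rw [← IsScalarTower.algebraMap_apply K K₁ M])
  intro W hW
  letI algA''W : Algebra A'' W :=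
    (RingHom.codRestrict ((algebraMap K₁ M).comp θ) W hW.1).toAlgebra
  intro hloc
  have hψι : ∀ a : A, algebraMap K₁ M (θ (ι a)) = algebraMap A M a := fun a => by
    rw [hθι, ← IsScalarTower.algebraMap_apply K K₁ M]
    rfl
  have hzW : W.valuation (algebraMap K₁ M pb.gen) < 1 := by
    have := hW.2 z (by rw [hzm]; exact Ideal.mem_span_singleton_self z)
    rwa [RingHom.comp_apply, hθz] at this
  have hπM : algebraMap K₁ M pb.gen ^ e = algebraMap A M π := by
    rw [← map_pow, hgen, ← IsScalarTower.algebraMap_apply K K₁ M]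
    rfl
  have hvπ : W.valuation (algebraMap A M π) < 1 := by
    rw [← hπM, map_pow]
    exact pow_lt_one₀ zero_le hzW he0
  have hWA : EtRam.Dominates A (algebraMap A M) W := by
    refine ⟨fun a => ?_, fun a ha => ?_⟩
    · rw [← hψι]
      exact hW.1 (ι a)
    · rw [hπ, Ideal.mem_span_singleton] at ha
      obtain ⟨c, rfl⟩ := ha
      rw [map_mul, map_mul]
      calc W.valuation (algebraMap A M π) * W.valuation (algebraMap A M c)
          ≤ W.valuation (algebraMap A M π) * 1 := by
            gcongr
            refine (W.valuation_le_one_iff _).mpr ?_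
            rw [← hψι]
            exact hW.1 (ι c)
        _ < 1 := by rw [mul_one]; exact hvπ
  -- `V = W ∩ L`
  have hV : EtRam.Dominates A (algebraMap A L) (W.comap (algebraMap L M)) :=
    dominates_comap (algebraMap A L) (algebraMap L M) W (by
      rw [← IsScalarTower.algebraMap_eq A L M]
      exact hWA)
  letI algAV : Algebra A (W.comap (algebraMap L M)) :=
    (RingHom.codRestrict (algebraMap A L) (W.comap (algebraMap L M)) hV.1).toAlgebra
  haveI : IsScalarTower A (W.comap (algebraMap L M)) L := IsScalarTower.of_algebraMap_eq' rfl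
  obtain ⟨hV1, hV2⟩ := (Groth.Agent.Lib.Helper14EtRam.dominates_iff _ _).mp hV
  haveI hlocAV : IsLocalHom (algebraMap A (W.comap (algebraMap L M))) := hV2
  haveI : IsDiscreteValuationRing (W.comap (algebraMap L M)) :=
    Groth.Agent.Lib.Helper14EtRam.isDiscreteValuationRing_of_dominates (K := K) _
      (dominates_comp_eq _ hV)
  have hinjAL : Function.Injective (algebraMap A L) := by
    rw [IsScalarTower.algebraMap_eq A K L]
    exact (algebraMap K L).injective.comp (IsFractionRing.injective A K)
  have hinjAV : Function.Injective (algebraMap A (W.comap (algebraMap L M))) := fun a b hab =>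
    hinjAL (congrArg (fun z : W.comap (algebraMap L M) => (z : L)) hab)
  obtain ⟨hsepV, htpV⟩ := htame _ hV
  have hdivV := hdiv _ hV
  have htame2 : CharZero (ResidueField A) ∨ ∃ p : ℕ, p.Prime ∧ CharP (ResidueField A) p ∧
      ¬ p ∣ Ideal.ramificationIdx' (maximalIdeal A) (maximalIdeal (W.comap (algebraMap L M))) ∧
      Algebra.IsGeometricallyReduced (ResidueField A)
        (ResidueField (W.comap (algebraMap L M))) := by
    obtain ⟨p, hp⟩ := CharP.exists (ResidueField A)
    rcases CharP.char_is_prime_or_zero (ResidueField A) p with hpp | hp0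
    · right
      exact ⟨p, hpp, hp, htpV p hpp hp, geomReduced_of_isSeparable _ _⟩
    · left
      subst hp0
      exact CharP.charP_to_charZero _
  have hmain := Groth.Agent.Lib.Helper14Abhyankar.main2 A (W.comap (algebraMap L M)) K L hinjAV
    htame2 K₁
  have hWV : EtRam.Dominates (W.comap (algebraMap L M))
      ((algebraMap L M).comp (algebraMap (W.comap (algebraMap L M)) L)) W := by
    rw [Groth.Agent.Lib.Helper14EtRam.dominates_iff]
    exact ⟨fun x => x.2, EtRam.isLocalHom_inclOfComap W (algebraMap L M)⟩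
  have hmain' := hmain M hadj W hWV
  -- `V₁ = W ∩ K₁`
  have hV₁ : EtRam.Dominates A (algebraMap A K₁) (W.comap (algebraMap K₁ M)) :=
    dominates_comap (algebraMap A K₁) (algebraMap K₁ M) W (by
      rw [← IsScalarTower.algebraMap_eq A K₁ M]
      exact hWA)
  have hA : ∀ a : A, (algebraMap K K₁) (algebraMap A K a) ∈ W.comap (algebraMap K₁ M) := hV₁.1
  letI algAV₁ : Algebra A (W.comap (algebraMap K₁ M)) :=
    (RingHom.codRestrict ((algebraMap K K₁).comp (algebraMap A K)) (W.comap (algebraMap K₁ M))
      hA).toAlgebra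
  haveI : IsScalarTower A (W.comap (algebraMap K₁ M)) K₁ := IsScalarTower.of_algebraMap_eq' rfl
  obtain ⟨hV₁1, hV₁2⟩ := (Groth.Agent.Lib.Helper14EtRam.dominates_iff _ _).mp hV₁
  haveI hlocAV₁ : IsLocalHom (algebraMap A (W.comap (algebraMap K₁ M))) := hV₁2
  haveI : IsDiscreteValuationRing (W.comap (algebraMap K₁ M)) :=
    Groth.Agent.Lib.Helper14EtRam.isDiscreteValuationRing_of_dominates (K := K) _
      (dominates_comp_eq _ hV₁)
  have hval : (W.comap (algebraMap K₁ M)).valuation pb.gen ^ pb.dim =
      (W.comap (algebraMap K₁ M)).valuation (algebraMap A K₁ π) := by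
    rw [hdim, ← map_pow, hgen]
    rfl
  have hθmem : ∀ a'' : A'', θ a'' ∈ W.comap (algebraMap K₁ M) := fun a'' => hW.1 a''
  -- (a) `θ` is onto `V₁`
  have hθsurj : ∀ y ∈ W.comap (algebraMap K₁ M), ∃ a'' : A'', θ a'' = y := by
    intro y hy
    have hcoef := (mem_iff_coeff_mem hirr pb _ hV₁ hval y).mp hy
    choose a ha using hcoef
    refine ⟨∑ i, ι (a i) * z ^ (i : ℕ), ?_⟩
    rw [map_sum]
    conv_rhs => rw [← pb.basis.sum_repr y]
    refine Finset.sum_congr rfl fun i _ => ?_
    rw [map_mul, map_pow, hθι, hθz, pb.basis_eq_pow, Algebra.smul_def, ha]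
  let zV : W.comap (algebraMap K₁ M) := ⟨pb.gen, hθz ▸ hθmem z⟩
  let θ' : A'' →+* W.comap (algebraMap K₁ M) := RingHom.codRestrict θ _ hθmem
  have hθ'comp : RingHom.codRestrict ((algebraMap K₁ M).comp θ) W hW.1 =
      (EtRam.inclOfComap W (algebraMap K₁ M)).comp θ' := by
    ext a
    rfl
  haveI hlocθ' : IsLocalHom θ' := by
    have h3 : IsLocalHom (RingHom.codRestrict ((algebraMap K₁ M).comp θ) W hW.1) := hloc
    rw [hθ'comp] at h3
    exact isLocalHom_of_comp _ (EtRam.inclOfComap W (algebraMap K₁ M))
  have hθ'z : θ' z = zV := Subtype.ext hθz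
  have hmV₁ : maximalIdeal (W.comap (algebraMap K₁ M)) = Ideal.span {zV} := by
    apply le_antisymm
    · intro y hy
      obtain ⟨a'', ha''⟩ := hθsurj (y : K₁) y.2
      have hy' : θ' a'' = y := Subtype.ext ha''
      have hnu : a'' ∈ maximalIdeal A'' := by
        rw [mem_maximalIdeal, mem_nonunits_iff]
        intro hu
        have := hu.map θ'
        rw [hy'] at this
        exact (mem_maximalIdeal _).mp hy this
      rw [hzm, Ideal.mem_span_singleton] at hnu
      obtain ⟨b, rfl⟩ := hnu
      rw [Ideal.mem_span_singleton]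
      exact ⟨θ' b, by rw [← hy', map_mul, hθ'z]⟩
    · rw [Ideal.span_singleton_le_iff_mem, ← hθ'z, mem_maximalIdeal, mem_nonunits_iff]
      intro hu
      have hzu : IsUnit z := isUnit_of_map_unit θ' z hu
      have hzmem : z ∈ maximalIdeal A'' := by rw [hzm]; exact Ideal.mem_span_singleton_self z
      exact (mem_maximalIdeal _).mp hzmem hzu
  have hgen0 : pb.gen ≠ 0 := by
    intro h0
    rw [h0, zero_pow he0] at hgen
    have h1 : algebraMap A K π = 0 := (map_eq_zero _).mp hgen.symm
    exact hirr.ne_zero (IsFractionRing.injective A K (by rw [h1, map_zero]))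
  have hzV0 : zV ≠ 0 := fun h => hgen0 (congrArg Subtype.val h)
  have hramV₁ : Ideal.ramificationIdx' (maximalIdeal A)
      (maximalIdeal (W.comap (algebraMap K₁ M))) = e := by
    refine ramificationIdx'_eq π hπ zV hmV₁ hzV0 e 1 isUnit_one ?_
    apply Subtype.ext
    rw [one_mul]
    change algebraMap K K₁ (algebraMap A K π) = pb.gen ^ e
    exact hgen.symm
  obtain ⟨hwu, -⟩ := hmain' hA (by rw [hramV₁]; exact hdivV)
  have hwu' : (maximalIdeal (W.comap (algebraMap K₁ M))).map
      (EtRam.inclOfComap W (algebraMap K₁ M)) = maximalIdeal W := hwu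
  constructor
  · -- weakly unramified
    change (maximalIdeal A'').map (RingHom.codRestrict ((algebraMap K₁ M).comp θ) W hW.1) =
      maximalIdeal W
    rw [hθ'comp, ← hwu', hzm, hmV₁, Ideal.map_span, Ideal.map_span, Set.image_singleton,
      Set.image_singleton, RingHom.comp_apply, hθ'z]
  · -- separable residue field extension
    have hWV₁ : EtRam.Dominates (W.comap (algebraMap K₁ M))
        ((algebraMap K₁ M).comp (algebraMap (W.comap (algebraMap K₁ M)) K₁)) W := by
      rw [Groth.Agent.Lib.Helper14EtRam.dominates_iff]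
      exact ⟨fun x => x.2, EtRam.isLocalHom_inclOfComap W (algebraMap K₁ M)⟩
    letI algV₁W : Algebra (W.comap (algebraMap K₁ M)) W :=
      (RingHom.codRestrict ((algebraMap K₁ M).comp (algebraMap (W.comap (algebraMap K₁ M)) K₁))
        W hWV₁.1).toAlgebra
    haveI hlocV₁W : IsLocalHom (algebraMap (W.comap (algebraMap K₁ M)) W) :=
      EtRam.isLocalHom_inclOfComap W (algebraMap K₁ M)
    obtain ⟨hsepW, -⟩ := core3 A (W.comap (algebraMap K₁ M)) K K₁ L htame M hadj' W hWV₁
    letI algA''V₁ : Algebra A'' (W.comap (algebraMap K₁ M)) := θ'.toAlgebra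
    haveI : IsLocalHom (algebraMap A'' (W.comap (algebraMap K₁ M))) := hlocθ'
    haveI : IsScalarTower A'' (W.comap (algebraMap K₁ M)) W := IsScalarTower.of_algebraMap_eq' (by
      ext a
      rfl)
    haveI hsep1 : Algebra.IsSeparable (ResidueField A'')
        (ResidueField (W.comap (algebraMap K₁ M))) := by
      refine ⟨fun x => ?_⟩
      obtain ⟨y, rfl⟩ := residue_surjective x
      obtain ⟨a'', ha''⟩ := hθsurj (y : K₁) y.2
      have hy' : θ' a'' = y := Subtype.ext ha''
      have : residue _ y = algebraMap (ResidueField A'')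
          (ResidueField (W.comap (algebraMap K₁ M))) (residue A'' a'') := by
        rw [← hy']
        rfl
      rw [this]
      exact isSeparable_algebraMap _
    exact Algebra.IsSeparable.trans (ResidueField A'') (ResidueField (W.comap (algebraMap K₁ M)))
      (ResidueField W)

end T1



open IsLocalRing Polynomial

section Comp
open TensorProduct

set_option maxHeartbeats 1600000 in
theorem exists_compositum (K L K₁ : Type u) [Field K] [Field L] [Field K₁] [Algebra K L]
    [Algebra K K₁] [FiniteDimensional K L] [FiniteDimensional K K₁] [Algebra.IsSeparable K L]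
    [Algebra.IsSeparable K K₁] :
    ∃ (M : Type u) (_ : Field M) (_ : Algebra K M) (_ : Algebra L M) (_ : Algebra K₁ M)
      (_ : IsScalarTower K L M) (_ : IsScalarTower K K₁ M),
      FiniteDimensional K M ∧ Algebra.IsSeparable K M ∧
      Algebra.adjoin L (Set.range (algebraMap K₁ M)) = ⊤ ∧
      Algebra.adjoin K₁ (Set.range (algebraMap L M)) = ⊤ := by
  classical
  haveI : Nontrivial (L ⊗[K] K₁) := inferInstance
  obtain ⟨m, hm⟩ := Ideal.exists_maximal (L ⊗[K] K₁)
  letI instF : Field ((L ⊗[K] K₁) ⧸ m) := Ideal.Quotient.field m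
  letI instK₁ : Algebra K₁ ((L ⊗[K] K₁) ⧸ m) := ((Ideal.Quotient.mk m).comp
    (Algebra.TensorProduct.includeRight : K₁ →ₐ[K] L ⊗[K] K₁).toRingHom).toAlgebra
  have hK₁M : ∀ k : K₁, algebraMap K₁ ((L ⊗[K] K₁) ⧸ m) k =
      Ideal.Quotient.mk m ((1 : L) ⊗ₜ[K] k) := fun k => rfl
  have hLM : ∀ l : L, algebraMap L ((L ⊗[K] K₁) ⧸ m) l =
      Ideal.Quotient.mk m (l ⊗ₜ[K] (1 : K₁)) := fun l => rfl
  have hKM : ∀ k : K, algebraMap K ((L ⊗[K] K₁) ⧸ m) k =
      Ideal.Quotient.mk m (algebraMap K L k ⊗ₜ[K] (1 : K₁)) := fun k => rfl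
  haveI tK₁ : IsScalarTower K K₁ ((L ⊗[K] K₁) ⧸ m) := IsScalarTower.of_algebraMap_eq' (by
    ext k
    rw [RingHom.comp_apply, hK₁M, hKM]
    congr 1
    rw [Algebra.algebraMap_eq_smul_one, Algebra.algebraMap_eq_smul_one, TensorProduct.smul_tmul])
  have hmul : ∀ (l : L) (k : K₁), Ideal.Quotient.mk m (l ⊗ₜ[K] k) =
      algebraMap L ((L ⊗[K] K₁) ⧸ m) l * algebraMap K₁ ((L ⊗[K] K₁) ⧸ m) k := by
    intro l k
    rw [hLM, hK₁M, ← map_mul, Algebra.TensorProduct.tmul_mul_tmul, one_mul, mul_one]
  refine ⟨(L ⊗[K] K₁) ⧸ m, instF, inferInstance, inferInstance, instK₁, inferInstance, tK₁,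
    ?_, ?_, ?_, ?_⟩
  · exact Module.Finite.of_surjective (Ideal.Quotient.mkₐ K m).toLinearMap
      (Ideal.Quotient.mkₐ_surjective K m)
  · rw [← separableClosure.eq_top_iff, eq_top_iff]
    intro x hx0
    clear hx0
    obtain ⟨t, rfl⟩ := Ideal.Quotient.mk_surjective x
    induction t using TensorProduct.induction_on with
    | zero =>
      rw [map_zero]
      exact zero_mem _
    | tmul l k =>
      rw [hmul]
      refine mul_mem ?_ ?_
      · rw [mem_separableClosure_iff]
        exact (Algebra.IsSeparable.isSeparable K l).map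
          (IsScalarTower.toAlgHom K L ((L ⊗[K] K₁) ⧸ m))
          (IsScalarTower.toAlgHom K L ((L ⊗[K] K₁) ⧸ m)).toRingHom.injective
      · rw [mem_separableClosure_iff]
        exact (Algebra.IsSeparable.isSeparable K k).map
          (IsScalarTower.toAlgHom K K₁ ((L ⊗[K] K₁) ⧸ m))
          (IsScalarTower.toAlgHom K K₁ ((L ⊗[K] K₁) ⧸ m)).toRingHom.injective
    | add x y hx hy =>
      rw [map_add]
      exact add_mem hx hy
  · rw [eq_top_iff]
    intro x hx0
    clear hx0
    obtain ⟨t, rfl⟩ := Ideal.Quotient.mk_surjective x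
    induction t using TensorProduct.induction_on with
    | zero =>
      rw [map_zero]
      exact Subalgebra.zero_mem _
    | tmul l k =>
      rw [hmul, ← Algebra.smul_def]
      exact Subalgebra.smul_mem _ (Algebra.subset_adjoin (Set.mem_range_self k)) l
    | add x y hx hy =>
      rw [map_add]
      exact Subalgebra.add_mem _ hx hy
  · rw [eq_top_iff]
    intro x hx0
    clear hx0
    obtain ⟨t, rfl⟩ := Ideal.Quotient.mk_surjective x
    induction t using TensorProduct.induction_on with
    | zero =>
      rw [map_zero]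
      exact Subalgebra.zero_mem _
    | tmul l k =>
      rw [hmul, mul_comm, ← Algebra.smul_def]
      exact Subalgebra.smul_mem _ (Algebra.subset_adjoin (Set.mem_range_self l)) k
    | add x y hx hy =>
      rw [map_add]
      exact Subalgebra.add_mem _ hx hy

end Comp




open IsLocalRing Polynomial

section T1b

variable {A K L : Type u} [CommRing A] [IsDomain A] [IsDiscreteValuationRing A] [Field K]
  [Algebra A K] [IsFractionRing A K] [Field L] [Algebra K L] [Algebra A L] [IsScalarTower A K L]
  [FiniteDimensional K L] [Algebra.IsSeparable K L]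

theorem natCast_ne_zero_of_residue (K : Type u) [Field K] [Algebra A K] [IsFractionRing A K]
    (e : ℕ) (hek : (e : ResidueField A) ≠ 0) : (e : K) ≠ 0 := by
  intro h
  apply hek
  have h2 : ((e : ℕ) : A) = 0 := by
    apply IsFractionRing.injective A K
    rw [map_natCast, map_zero, h]
  rw [← map_natCast (IsLocalRing.residue A), h2, map_zero]

theorem irreducible_X_pow_sub_C (π : A) (hπ : Irreducible π) (e : ℕ) (he : 0 < e) :
    Irreducible (X ^ e - C π : A[X]) := by
  have hmax : maximalIdeal A = Ideal.span {π} :=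
    (IsDiscreteValuationRing.irreducible_iff_uniformizer π).mp hπ
  have hmonic : (X ^ e - C π : A[X]).Monic := monic_X_pow_sub_C π he.ne'
  have hdeg : (X ^ e - C π : A[X]).natDegree = e := natDegree_X_pow_sub_C
  have hcoeff : ∀ i, i < e → (X ^ e - C π : A[X]).coeff i = - (if i = 0 then π else 0) := by
    intro i hi
    rw [coeff_sub, coeff_X_pow, if_neg (by omega), zero_sub, coeff_C]
  refine Polynomial.IsEisensteinAt.irreducible (𝓟 := maximalIdeal A) ?_ inferInstance
    hmonic.isPrimitive (by rw [hdeg]; exact he)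
  refine ⟨?_, ?_, ?_⟩
  · rw [hmonic.leadingCoeff]
    exact fun h => (Ideal.ne_top_iff_one _).mp (maximalIdeal.isMaximal A).ne_top h
  · intro i hi
    rw [hdeg] at hi
    rw [hcoeff i hi, hmax, Ideal.neg_mem_iff]
    split_ifs
    · exact Ideal.mem_span_singleton_self π
    · exact Ideal.zero_mem _
  · rw [hcoeff 0 he, if_pos rfl, hmax, Ideal.span_singleton_pow,
      Ideal.neg_mem_iff, Ideal.mem_span_singleton]
    rintro ⟨c, hc⟩
    have h1 : π * 1 = π * (π * c) := by rw [mul_one, ← mul_assoc, ← sq]; exact hc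
    have h2 := mul_left_cancel₀ hπ.ne_zero h1
    exact hπ.not_isUnit (IsUnit.of_mul_eq_one _ h2.symm)

set_option maxHeartbeats 1600000 in
theorem exists_ext (π : A) (hπ : maximalIdeal A = Ideal.span {π}) (e : ℕ)
    (hek : (e : ResidueField A) ≠ 0)
    (htame : EtRam.IsTamelyRamified A (algebraMap A L))
    (hdiv : ∀ (V : ValuationSubring L) (hV : EtRam.Dominates A (algebraMap A L) V),
      letI : Algebra A V := (RingHom.codRestrict (algebraMap A L) V hV.1).toAlgebra
      Ideal.ramificationIdx' (maximalIdeal A) (maximalIdeal V) ∣ e) :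
    ∃ (L' : Type u) (_ : Field L') (_ : Algebra K L')
      (_ : Algebra (AdjoinRoot (X ^ e - C π : A[X])) L') (_ : L →ₐ[K] L'),
      FiniteDimensional K L' ∧ Algebra.IsSeparable K L' ∧
      (algebraMap (AdjoinRoot (X ^ e - C π : A[X])) L').comp (AdjoinRoot.of (X ^ e - C π)) =
        (algebraMap K L').comp (algebraMap A K) ∧
      ∀ [IsLocalRing (AdjoinRoot (X ^ e - C π : A[X]))],
        EtRam.IsUnramifiedExt (AdjoinRoot (X ^ e - C π : A[X]))
          (algebraMap (AdjoinRoot (X ^ e - C π : A[X])) L') := by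
  classical
  have hirr : Irreducible π := (IsDiscreteValuationRing.irreducible_iff_uniformizer π).mpr hπ
  have he0 : 0 < e := Nat.pos_of_ne_zero (by rintro rfl; exact hek Nat.cast_zero)
  have hπK0 : algebraMap A K π ≠ 0 := by
    intro h0
    exact hirr.ne_zero (IsFractionRing.injective A K (by rw [h0, map_zero]))
  have hgA_monic : (X ^ e - C π : A[X]).Monic := monic_X_pow_sub_C π he0.ne'
  have hgA_irr := irreducible_X_pow_sub_C π hirr e he0
  have hmap : (X ^ e - C π : A[X]).map (algebraMap A K) = X ^ e - C (algebraMap A K π) := by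
    rw [Polynomial.map_sub, Polynomial.map_pow, map_X, map_C]
  have hgK_irr : Irreducible (X ^ e - C (algebraMap A K π) : K[X]) :=
    hmap ▸ (Polynomial.Monic.irreducible_iff_irreducible_map_fraction_map hgA_monic).mp hgA_irr
  haveI : Fact (Irreducible (X ^ e - C (algebraMap A K π) : K[X])) := ⟨hgK_irr⟩
  have hgK0 : (X ^ e - C (algebraMap A K π) : K[X]) ≠ 0 := hgK_irr.ne_zero
  have hgK_monic : (X ^ e - C (algebraMap A K π) : K[X]).Monic :=
    monic_X_pow_sub_C _ he0.ne'
  have hdeg : (X ^ e - C (algebraMap A K π) : K[X]).natDegree = e := natDegree_X_pow_sub_C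
  have heK : (e : K) ≠ 0 := natCast_ne_zero_of_residue K e hek
  have hsepf : (X ^ e - C (algebraMap A K π) : K[X]).Separable :=
    separable_X_pow_sub_C _ heK hπK0
  let pb : PowerBasis K (AdjoinRoot (X ^ e - C (algebraMap A K π) : K[X])) :=
    AdjoinRoot.powerBasis hgK0
  have hpbgen : pb.gen = AdjoinRoot.root (X ^ e - C (algebraMap A K π) : K[X]) := rfl
  have hpbdim : pb.dim = e := hdeg
  have hroot : AdjoinRoot.root (X ^ e - C (algebraMap A K π) : K[X]) ^ e =
      algebraMap K _ (algebraMap A K π) := by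
    have h := AdjoinRoot.mk_self (f := (X ^ e - C (algebraMap A K π) : K[X]))
    rw [map_sub, map_pow, AdjoinRoot.mk_X, AdjoinRoot.mk_C, sub_eq_zero] at h
    exact h
  haveI : FiniteDimensional K (AdjoinRoot (X ^ e - C (algebraMap A K π) : K[X])) := pb.finite
  haveI hsepK₁ : Algebra.IsSeparable K (AdjoinRoot (X ^ e - C (algebraMap A K π) : K[X])) := by
    have hx : IsSeparable K (AdjoinRoot.root (X ^ e - C (algebraMap A K π) : K[X])) := by
      unfold IsSeparable
      rw [AdjoinRoot.minpoly_root hgK0, hgK_monic.leadingCoeff, inv_one, map_one, mul_one]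
      exact hsepf
    have h1 : Algebra.IsSeparable K (IntermediateField.adjoin K
        {AdjoinRoot.root (X ^ e - C (algebraMap A K π) : K[X])}) :=
      (IntermediateField.isSeparable_adjoin_simple_iff_isSeparable K _).mpr hx
    have h2 : IntermediateField.adjoin K
        {AdjoinRoot.root (X ^ e - C (algebraMap A K π) : K[X])} = ⊤ :=
      IntermediateField.adjoin_eq_top_of_algebra K _ pb.adjoin_gen_eq_top
    exact AlgEquiv.Algebra.isSeparable
      ((IntermediateField.equivOfEq h2).trans IntermediateField.topEquiv)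
  obtain ⟨M, instF, instKM, instLM, instK₁M, tL, tK₁, hfin, hsepM, hadj, hadj'⟩ :=
    exists_compositum K L (AdjoinRoot (X ^ e - C (algebraMap A K π) : K[X]))
  let θ : AdjoinRoot (X ^ e - C π : A[X]) →+* AdjoinRoot (X ^ e - C (algebraMap A K π) : K[X]) :=
    AdjoinRoot.lift ((algebraMap K _).comp (algebraMap A K))
      (AdjoinRoot.root (X ^ e - C (algebraMap A K π) : K[X])) (by
        rw [eval₂_sub, eval₂_pow, eval₂_X, eval₂_C, hroot, RingHom.comp_apply, sub_self])
  have hθι : ∀ a, θ (AdjoinRoot.of _ a) = algebraMap K _ (algebraMap A K a) := fun a => by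
    change AdjoinRoot.lift _ _ _ (AdjoinRoot.of _ a) = _
    rw [AdjoinRoot.lift_of]
    rfl
  have hθz : θ (AdjoinRoot.root _) = pb.gen := by
    change AdjoinRoot.lift _ _ _ (AdjoinRoot.root _) = _
    rw [AdjoinRoot.lift_root, hpbgen]
  refine ⟨M, instF, instKM, ((algebraMap _ M).comp θ).toAlgebra, IsScalarTower.toAlgHom K L M,
    hfin, hsepM, ?_, ?_⟩
  · ext a
    change algebraMap _ M (θ (AdjoinRoot.of _ a)) = algebraMap K M (algebraMap A K a)
    rw [hθι, ← IsScalarTower.algebraMap_apply K _ M]
  · intro hlocal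
    exact core4 π hπ e hek htame hdiv _ pb hpbdim (hpbgen ▸ hroot) _ (AdjoinRoot.of _) θ hθι
      (AdjoinRoot.root _) hθz (ar_maximalIdeal π e he0 hπ) M hadj hadj'

end T1b



open IsLocalRing Polynomial Groth.Agent.Lib.Helper14Eisenstein Groth.Agent.Lib.Helper14TameBC

section T2

variable {A K L : Type u} [CommRing A] [IsDomain A] [IsDiscreteValuationRing A] [Field K]
  [Algebra A K] [IsFractionRing A K] [Field L] [Algebra K L] [Algebra A L] [IsScalarTower A K L]
  [FiniteDimensional K L] [Algebra.IsSeparable K L]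

set_option maxHeartbeats 1600000 in
theorem tame_of_ext (π : A) (hπ : maximalIdeal A = Ideal.span {π}) (e : ℕ) (he : 0 < e)
    (hek : (e : ResidueField A) ≠ 0)
    (L' : Type u) [Field L'] [Algebra K L'] [Algebra (AdjoinRoot (X ^ e - C π : A[X])) L']
    (φ : L →ₐ[K] L') [FiniteDimensional K L'] [Algebra.IsSeparable K L']
    (hcompat : (algebraMap (AdjoinRoot (X ^ e - C π : A[X])) L').comp
      (AdjoinRoot.of (X ^ e - C π)) = (algebraMap K L').comp (algebraMap A K))
    (hunr : ∀ [IsLocalRing (AdjoinRoot (X ^ e - C π : A[X]))],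
      EtRam.IsUnramifiedExt (AdjoinRoot (X ^ e - C π : A[X]))
        (algebraMap (AdjoinRoot (X ^ e - C π : A[X])) L')) :
    EtRam.IsTamelyRamified A (algebraMap A L) := by
  classical
  haveI hloc' : IsLocalRing (AdjoinRoot (X ^ e - C π : A[X])) := ar_isLocalRing π e he hπ
  have hunr' := hunr
  have hirr : Irreducible π := (IsDiscreteValuationRing.irreducible_iff_uniformizer π).mpr hπ
  have hπm : π ∈ maximalIdeal A := by rw [hπ]; exact Ideal.mem_span_singleton_self π
  have hmA' := ar_maximalIdeal π e he hπ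
  letI iLL' : Algebra L L' := φ.toRingHom.toAlgebra
  haveI : IsScalarTower K L L' := IsScalarTower.of_algebraMap_eq' (by
    ext k
    exact (φ.commutes k).symm)
  letI iAL' : Algebra A L' := ((algebraMap K L').comp (algebraMap A K)).toAlgebra
  haveI : IsScalarTower A K L' := IsScalarTower.of_algebraMap_eq' rfl
  haveI : IsScalarTower A L L' := IsScalarTower.of_algebraMap_eq' (by
    ext a
    change algebraMap K L' (algebraMap A K a) = algebraMap L L' (algebraMap A L a)
    rw [IsScalarTower.algebraMap_apply A K L, ← IsScalarTower.algebraMap_apply K L L'])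
  have hψof : ∀ a : A, algebraMap (AdjoinRoot (X ^ e - C π : A[X])) L' (AdjoinRoot.of _ a) =
      algebraMap A L' a := fun a => congr($hcompat a)
  let ψ : AdjoinRoot (X ^ e - C π : A[X]) →ₐ[A] L' :=
    { algebraMap (AdjoinRoot (X ^ e - C π : A[X])) L' with
      commutes' := fun a => hψof a }
  have hψ : ∀ x, ψ x = algebraMap (AdjoinRoot (X ^ e - C π : A[X])) L' x := fun x => rfl
  haveI : Module.Finite A (AdjoinRoot (X ^ e - C π : A[X])) :=
    (ar_monic π e he).finite_adjoinRoot
  have hzL : algebraMap (AdjoinRoot (X ^ e - C π : A[X])) L' (AdjoinRoot.root _) ^ e =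
      algebraMap A L' π := by
    rw [← map_pow, ar_root_pow, hψof]
  have hinjAL' : Function.Injective (algebraMap A L') :=
    (algebraMap K L').injective.comp (IsFractionRing.injective A K)
  intro V hV
  letI algAV : Algebra A V := (RingHom.codRestrict (algebraMap A L) V hV.1).toAlgebra
  intro hlocAV
  haveI : IsScalarTower A V L := IsScalarTower.of_algebraMap_eq' rfl
  haveI : IsDiscreteValuationRing V :=
    Groth.Agent.Lib.Helper14EtRam.isDiscreteValuationRing_of_dominates (K := K) V
      (dominates_comp_eq V hV)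
  obtain ⟨W, hW1, hW2⟩ := IsLocalRing.exists_factor_valuationRing
    ((algebraMap L L').comp V.subtype)
  letI algVW : Algebra V W := (RingHom.codRestrict ((algebraMap L L').comp V.subtype) W hW1).toAlgebra
  haveI hlocVW : IsLocalHom (algebraMap V W) := hW2
  have hAW : ∀ a : A, algebraMap A L' a ∈ W := fun a => by
    rw [IsScalarTower.algebraMap_apply A L L']
    exact hW1 ⟨_, hV.1 a⟩
  letI algAW : Algebra A W := (RingHom.codRestrict (algebraMap A L') W hAW).toAlgebra
  haveI : IsScalarTower A V W := IsScalarTower.of_algebraMap_eq' (by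
    ext a
    exact IsScalarTower.algebraMap_apply A L L' a)
  haveI hlocAW : IsLocalHom (algebraMap A W) := by
    rw [IsScalarTower.algebraMap_eq A V W]
    exact RingHom.isLocalHom_comp _ _
  have hWA : EtRam.Dominates A (algebraMap A L') W :=
    (Groth.Agent.Lib.Helper14EtRam.dominates_iff _ W).mpr ⟨hAW, hlocAW⟩
  haveI : IsDiscreteValuationRing W :=
    Groth.Agent.Lib.Helper14EtRam.isDiscreteValuationRing_of_dominates (K := K) W
      (dominates_comp_eq W hWA)
  -- `W` dominates `A'`
  have hvπ : W.valuation (algebraMap A L' π) < 1 := hWA.2 π hπm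
  have hvz : W.valuation (algebraMap (AdjoinRoot (X ^ e - C π : A[X])) L'
      (AdjoinRoot.root _)) < 1 := by
    by_contra hge
    rw [not_lt] at hge
    have h1 : (1 : ValuationSubring.ValueGroup W) ≤
        W.valuation (algebraMap (AdjoinRoot (X ^ e - C π : A[X])) L' (AdjoinRoot.root _)) ^ e :=
      one_le_pow₀ hge
    rw [← map_pow, hzL] at h1
    exact absurd hvπ (not_lt.mpr h1)
  have hA'W : ∀ a' : AdjoinRoot (X ^ e - C π : A[X]),
      algebraMap (AdjoinRoot (X ^ e - C π : A[X])) L' a' ∈ W := by
    intro a'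
    have hint : IsIntegral A (ψ a') := (Algebra.IsIntegral.isIntegral a').map ψ
    exact gen_mem_of_dominates hint W hWA
  have hWA' : EtRam.Dominates (AdjoinRoot (X ^ e - C π : A[X]))
      (algebraMap (AdjoinRoot (X ^ e - C π : A[X])) L') W := by
    refine ⟨hA'W, fun a' ha' => ?_⟩
    rw [hmA', Ideal.mem_span_singleton] at ha'
    obtain ⟨b, rfl⟩ := ha'
    rw [map_mul, map_mul]
    calc _ ≤ W.valuation (algebraMap (AdjoinRoot (X ^ e - C π : A[X])) L'
            (AdjoinRoot.root _)) * 1 := by
          gcongr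
          exact (W.valuation_le_one_iff _).mpr (hA'W b)
      _ < 1 := by rw [mul_one]; exact hvz
  letI algA'W : Algebra (AdjoinRoot (X ^ e - C π : A[X])) W :=
    (RingHom.codRestrict (algebraMap (AdjoinRoot (X ^ e - C π : A[X])) L') W hWA'.1).toAlgebra
  obtain ⟨hh1, hlocA'W'⟩ := (Groth.Agent.Lib.Helper14EtRam.dominates_iff _ W).mp hWA'
  haveI hlocA'W : IsLocalHom (algebraMap (AdjoinRoot (X ^ e - C π : A[X])) W) := hlocA'W'
  obtain ⟨hwu, hsepW⟩ := hunr' W hWA'
  -- the uniformizer of `W`
  let zW : W := ⟨algebraMap (AdjoinRoot (X ^ e - C π : A[X])) L' (AdjoinRoot.root _),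
    hA'W (AdjoinRoot.root _)⟩
  have hmW : maximalIdeal W = Ideal.span {zW} := by
    have h1 : (maximalIdeal (AdjoinRoot (X ^ e - C π : A[X]))).map
        (algebraMap (AdjoinRoot (X ^ e - C π : A[X])) W) = maximalIdeal W := hwu
    rw [← h1, hmA', Ideal.map_span, Set.image_singleton]
    rfl
  have hzW0 : zW ≠ 0 := by
    intro h0
    have h1 : algebraMap (AdjoinRoot (X ^ e - C π : A[X])) L' (AdjoinRoot.root _) = 0 :=
      congrArg Subtype.val h0
    rw [h1, zero_pow he.ne'] at hzL
    exact hirr.ne_zero (hinjAL' (by rw [← hzL, map_zero]))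
  have hramW : Ideal.ramificationIdx' (maximalIdeal A) (maximalIdeal W) = e := by
    refine ramificationIdx'_eq π hπ zW hmW hzW0 e 1 isUnit_one ?_
    apply Subtype.ext
    rw [one_mul]
    exact hzL.symm
  have hinjAL : Function.Injective (algebraMap A L) := by
    rw [IsScalarTower.algebraMap_eq A K L]
    exact (algebraMap K L).injective.comp (IsFractionRing.injective A K)
  have hinjAV : Function.Injective (algebraMap A V) := fun a b hab =>
    hinjAL (congrArg (fun z : V => (z : L)) hab)
  have hinjVW : Function.Injective (algebraMap V W) := fun a b hab => by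
    have h1 : algebraMap L L' (a : L) = algebraMap L L' (b : L) :=
      congrArg (fun z : W => (z : L')) hab
    exact Subtype.ext ((algebraMap L L').injective h1)
  have htower := Groth.Agent.Lib.Helper14EtRam.ramificationIdx'_tower (A := A) (V := V) (W := W)
    hinjAV hinjVW
  rw [hramW] at htower
  have hdvd : Ideal.ramificationIdx' (maximalIdeal A) (maximalIdeal V) ∣ e :=
    ⟨_, htower⟩
  constructor
  · -- separability
    haveI hlocAA' : IsLocalHom (algebraMap A (AdjoinRoot (X ^ e - C π : A[X]))) := by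
      constructor
      intro a ha
      by_contra hna
      have ham : a ∈ maximalIdeal A := (mem_maximalIdeal a).mpr hna
      rw [hπ, Ideal.mem_span_singleton] at ham
      obtain ⟨c, rfl⟩ := ham
      have hmem : algebraMap A (AdjoinRoot (X ^ e - C π : A[X])) (π * c) ∈
          maximalIdeal (AdjoinRoot (X ^ e - C π : A[X])) := by
        rw [map_mul, AdjoinRoot.algebraMap_eq, ← ar_root_pow, hmA']
        refine Ideal.mul_mem_right _ _ ?_
        exact Ideal.pow_mem_of_mem _ (Ideal.mem_span_singleton_self _) e he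
      exact (mem_maximalIdeal _).mp hmem ha
    haveI : IsScalarTower A (AdjoinRoot (X ^ e - C π : A[X])) W :=
      IsScalarTower.of_algebraMap_eq' (by
        ext a
        exact (hψof a).symm)
    haveI hsep1 : Algebra.IsSeparable (ResidueField A)
        (ResidueField (AdjoinRoot (X ^ e - C π : A[X]))) := by
      refine ⟨fun x => ?_⟩
      obtain ⟨a, rfl⟩ := ar_residue_surjective π e he hπm x
      have : residue _ (AdjoinRoot.of (X ^ e - C π : A[X]) a) =
          algebraMap (ResidueField A) (ResidueField (AdjoinRoot (X ^ e - C π : A[X])))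
            (residue A a) := rfl
      rw [this]
      exact isSeparable_algebraMap _
    haveI hsepAW : Algebra.IsSeparable (ResidueField A) (ResidueField W) :=
      Algebra.IsSeparable.trans (ResidueField A) (ResidueField (AdjoinRoot (X ^ e - C π : A[X])))
        (ResidueField W)
    exact Algebra.isSeparable_tower_bot_of_isSeparable (ResidueField A) (ResidueField V)
      (ResidueField W)
  · intro p hp hchar hpd
    apply hek
    rw [CharP.cast_eq_zero_iff (ResidueField A) p]
    exact hpd.trans hdvd

end T2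


end Groth.Agent.Lib.Helper14TameKummer
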