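import Mathlib
import Groth.Agent.Lib.Helper14TameKummer

/-! Helper14: Artin–Schreier extensions of the fraction field of a DVR (S7158). -/

set_option autoImplicit false
set_option linter.style.haveILetI false
set_option linter.unusedSectionVars false
universe u

namespace Groth.Agent.Lib.Helper14ASRam


open Polynomial

section Roots

theorem roots_eq_of_card {L : Type*} [Field L] (f : L[X]) (hf : f ≠ 0) (s : Finset L)
    (hs : ∀ x ∈ s, f.IsRoot x) (hcard : f.natDegree ≤ s.card) : f.roots = s.val := by
  have hle : s.val ≤ f.roots := by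
    rw [Multiset.le_iff_subset s.nodup]
    intro x hx
    exact (mem_roots hf).mpr (hs x hx)
  refine (Multiset.eq_of_le_of_card_le hle ?_).symm
  exact (card_roots' f).trans hcard

end Roots

section Poly

variable (p : ℕ) [hp : Fact p.Prime] (K : Type u) [Field K] [CharP K p] (ξ : K)

/-- the Artin–Schreier polynomial `X ^ p - X - ξ`. -/
noncomputable def asPoly : K[X] := X ^ p - X - C ξ

theorem asPoly_eq : asPoly p K ξ = X ^ p - (X + C ξ) := by
  unfold asPoly
  ring

theorem asPoly_deg_lt : (X + C ξ : K[X]).degree < (p : WithBot ℕ) := by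
  refine lt_of_le_of_lt (degree_X_add_C ξ).le ?_
  exact_mod_cast hp.out.one_lt

theorem asPoly_monic : (asPoly p K ξ).Monic := by
  rw [asPoly_eq]
  exact monic_X_pow_sub (asPoly_deg_lt p K ξ)

theorem asPoly_natDegree : (asPoly p K ξ).natDegree = p := by
  rw [asPoly_eq]
  have h : (X + C ξ : K[X]).natDegree < ((X : K[X]) ^ p).natDegree := by
    rw [natDegree_X_pow, natDegree_X_add_C]
    exact hp.out.one_lt
  rw [natDegree_sub_eq_left_of_natDegree_lt h, natDegree_X_pow]

theorem asPoly_separable : (asPoly p K ξ).Separable := by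
  rw [separable_def]
  have hder : derivative (asPoly p K ξ) = -1 := by
    unfold asPoly
    rw [derivative_sub, derivative_sub, derivative_X_pow, derivative_X, derivative_C,
      CharP.cast_eq_zero K p, map_zero, zero_mul, zero_sub, sub_zero]
  rw [hder]
  exact isCoprime_one_right.neg_right

end Poly


section Field

variable (p : ℕ) [hp : Fact p.Prime] (L : Type u) [Field L] [CharP L p]

theorem natCast_pow_char (i : ℕ) : (i : L) ^ p = (i : L) := by
  induction i with
  | zero => rw [Nat.cast_zero, zero_pow hp.out.ne_zero]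
  | succ i ih => rw [Nat.cast_succ, add_pow_char, ih, one_pow]

open scoped Classical in
/-- the `p` translates of a root. -/
noncomputable def translates (z : L) : Finset L := (Finset.range p).image (fun i : ℕ => z + (i : L))

theorem translates_card (z : L) : (translates p L z).card = p := by
  classical
  unfold translates
  rw [Finset.card_image_of_injOn, Finset.card_range]
  intro i hi j hj hij
  simp only at hij
  have h1 : (i : L) = (j : L) := add_left_cancel hij
  rw [CharP.natCast_eq_natCast L p] at h1
  rw [Finset.coe_range, Set.mem_Iio] at hi hj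
  exact Nat.ModEq.eq_of_lt_of_lt h1 hi hj

theorem translate_root (z : L) (i : ℕ) :
    (z + (i : L)) ^ p - (z + (i : L)) = z ^ p - z := by
  rw [add_pow_char, natCast_pow_char]
  ring

theorem roots_asPoly (ξ : L) (z : L) (hz : z ^ p - z = ξ) :
    (asPoly p L ξ).roots = (translates p L z).val := by
  classical
  apply roots_eq_of_card _ (asPoly_monic p L ξ).ne_zero
  · intro x hx
    unfold translates at hx
    rw [Finset.mem_image] at hx
    obtain ⟨i, -, rfl⟩ := hx
    unfold asPoly
    rw [IsRoot.def, eval_sub, eval_sub, eval_pow, eval_X, eval_C, translate_root, hz, sub_self]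
  · rw [asPoly_natDegree, translates_card]

/-- an element with `c ^ p = c` is in the prime field. -/
theorem exists_natCast_of_pow_eq (c : L) (hc : c ^ p = c) : ∃ i : ℕ, c = (i : L) := by
  classical
  have h := roots_asPoly p L 0 0 (by rw [zero_pow hp.out.ne_zero, sub_zero])
  have hcroot : c ∈ (asPoly p L 0).roots := by
    rw [mem_roots (asPoly_monic p L 0).ne_zero]
    unfold asPoly
    rw [IsRoot.def, eval_sub, eval_sub, eval_pow, eval_X, eval_C, hc, sub_self, sub_zero]
  rw [h] at hcroot
  unfold translates at hcroot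
  rw [Finset.mem_val, Finset.mem_image] at hcroot
  obtain ⟨i, -, hi⟩ := hcroot
  exact ⟨i, by rw [← hi, zero_add]⟩

end Field

section Galois

variable (p : ℕ) [hp : Fact p.Prime] (K L : Type u) [Field K] [Field L] [Algebra K L] [CharP K p]
  (ξ : K) (z : L) (hz : z ^ p - z = algebraMap K L ξ) (hgen : IntermediateField.adjoin K {z} = ⊤)

include hz in
theorem aeval_asPoly : aeval z (asPoly p K ξ) = 0 := by
  unfold asPoly
  rw [map_sub, map_sub, map_pow, aeval_X, aeval_C, hz, sub_self]

include hz in
theorem isIntegral_z : IsIntegral K z :=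
  ⟨asPoly p K ξ, asPoly_monic p K ξ, aeval_asPoly p K L ξ z hz⟩

include hz hgen in
theorem adjoin_eq_top : Algebra.adjoin K {z} = ⊤ := by
  have h := IntermediateField.adjoin_simple_toSubalgebra_of_isAlgebraic
    (isIntegral_z p K L ξ z hz).isAlgebraic
  rw [hgen] at h
  rw [← h]
  rfl

include hz hgen in
theorem isSplittingField : (asPoly p K ξ).IsSplittingField K L := by
  haveI : CharP L p := charP_of_injective_algebraMap (algebraMap K L).injective p
  have hmap : (asPoly p K ξ).map (algebraMap K L) = asPoly p L (algebraMap K L ξ) := by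
    unfold asPoly
    rw [Polynomial.map_sub, Polynomial.map_sub, Polynomial.map_pow, map_X, map_C]
  constructor
  · rw [hmap, splits_iff_card_roots, roots_asPoly p L _ z hz, asPoly_natDegree]
    exact translates_card p L z
  · rw [eq_top_iff, ← adjoin_eq_top p K L ξ z hz hgen]
    apply Algebra.adjoin_mono
    rw [Set.singleton_subset_iff, mem_rootSet]
    exact ⟨(asPoly_monic p K ξ).ne_zero, aeval_asPoly p K L ξ z hz⟩

include hz hgen in
theorem isGalois : IsGalois K L := by
  haveI := isSplittingField p K L ξ z hz hgen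
  exact IsGalois.of_separable_splitting_field (asPoly_separable p K ξ)

include hz hgen in
theorem finiteDimensional : FiniteDimensional K L := by
  haveI := isSplittingField p K L ξ z hz hgen
  exact Polynomial.IsSplittingField.finiteDimensional L (asPoly p K ξ)

include hz hgen in
theorem finrank_le : Module.finrank K L ≤ p := by
  haveI := finiteDimensional p K L ξ z hz hgen
  have h := (Field.primitive_element_iff_minpoly_natDegree_eq K z).mp hgen
  rw [← h]
  have hdvd := minpoly.dvd K z (aeval_asPoly p K L ξ z hz)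
  have := natDegree_le_of_dvd hdvd (asPoly_monic p K ξ).ne_zero
  rwa [asPoly_natDegree] at this

include hz hgen in
theorem finrank_eq_one_or : Module.finrank K L = 1 ∨ Module.finrank K L = p := by
  haveI : CharP L p := charP_of_injective_algebraMap (algebraMap K L).injective p
  haveI := isGalois p K L ξ z hz hgen
  haveI := finiteDimensional p K L ξ z hz hgen
  have hadj := adjoin_eq_top p K L ξ z hz hgen
  have hPG : IsPGroup p (L ≃ₐ[K] L) := by
    intro σ
    refine ⟨1, ?_⟩
    rw [pow_one]
    -- `σ z = z + c` with `c` in the prime field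
    have hc : (σ z - z) ^ p = σ z - z := by
      have h1 : σ z ^ p - σ z = z ^ p - z := by
        rw [← map_pow, ← map_sub, hz, AlgEquiv.commutes]
      rw [sub_pow_char]
      linear_combination h1
    obtain ⟨i, hi⟩ := exists_natCast_of_pow_eq p L _ hc
    have hσz : σ z = z + (i : L) := by rw [← hi]; ring
    have hpow : ∀ k : ℕ, (σ ^ k) z = z + (k : L) * (i : L) := by
      intro k
      induction k with
      | zero => rw [pow_zero, AlgEquiv.one_apply, Nat.cast_zero, zero_mul, add_zero]
      | succ k ih =>
        rw [pow_succ', AlgEquiv.mul_apply, ih, map_add, map_mul, map_natCast, map_natCast, hσz]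
        push_cast
        ring
    have hσp : (σ ^ p) z = z := by
      rw [hpow, CharP.cast_eq_zero L p, zero_mul, add_zero]
    apply AlgEquiv.coe_toAlgHom_injective
    apply AlgHom.ext_of_adjoin_eq_top hadj
    intro x hx
    rw [Set.mem_singleton_iff] at hx
    subst hx
    exact hσp
  obtain ⟨n, hn⟩ := (IsPGroup.iff_card (p := p)).mp hPG
  rw [IsGalois.card_aut_eq_finrank] at hn
  have hle := finrank_le p K L ξ z hz hgen
  rw [hn] at hle ⊢
  rcases n with _ | _ | n
  · left; rfl
  · right; rw [zero_add, pow_one]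
  · exfalso
    have h2 : p ^ (n + 1 + 1) = p ^ (n + 1) * p := pow_succ p (n + 1)
    have h3 : 1 < p ^ (n + 1) := Nat.one_lt_pow (by omega) hp.out.one_lt
    nlinarith [hp.out.pos]

end Galois




open Polynomial IsLocalRing

section CaseA

variable (p : ℕ) [hp : Fact p.Prime] (A K L : Type u) [CommRing A] [IsDomain A]
  [IsDiscreteValuationRing A] [Field K] [Algebra A K] [IsFractionRing A K] [Field L] [Algebra K L]
  [Algebra A L] [IsScalarTower A K L] [CharP K p]
  (ξ : K) (z : L) (hz : z ^ p - z = algebraMap K L ξ) (hgen : IntermediateField.adjoin K {z} = ⊤)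

include hz hgen in
theorem isFractionRing_adjoin : IsFractionRing (Algebra.adjoin A {z}) L := by
  have hinjAL : Function.Injective (algebraMap A L) := by
    rw [IsScalarTower.algebraMap_eq A K L]
    exact (algebraMap K L).injective.comp (IsFractionRing.injective A K)
  have key : ∀ x : L, ∃ (b : L) (s : A), b ∈ Algebra.adjoin A {z} ∧ s ≠ 0 ∧
      x * algebraMap A L s = b := by
    intro x
    have hx : x ∈ Algebra.adjoin K {z} := by
      rw [adjoin_eq_top p K L ξ z hz hgen]; trivial
    induction hx using Algebra.adjoin_induction with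
    | mem x hx =>
      rw [Set.mem_singleton_iff] at hx
      subst hx
      exact ⟨x, 1, Algebra.subset_adjoin rfl, one_ne_zero, by rw [map_one, mul_one]⟩
    | algebraMap k =>
      obtain ⟨a, s, hs, rfl⟩ := IsFractionRing.div_surjective (A := A) k
      have hs0 : s ≠ 0 := nonZeroDivisors.ne_zero hs
      refine ⟨algebraMap A L a, s, Subalgebra.algebraMap_mem _ a, hs0, ?_⟩
      rw [IsScalarTower.algebraMap_apply A K L, IsScalarTower.algebraMap_apply A K L, ← map_mul,
        div_mul_cancel₀]
      exact (map_ne_zero_iff _ (IsFractionRing.injective A K)).mpr hs0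
    | add x y _ _ hx hy =>
      obtain ⟨b, s, hb, hs, hxs⟩ := hx
      obtain ⟨b', s', hb', hs', hys⟩ := hy
      refine ⟨b * algebraMap A L s' + b' * algebraMap A L s, s * s',
        Subalgebra.add_mem _ (Subalgebra.mul_mem _ hb (Subalgebra.algebraMap_mem _ _))
          (Subalgebra.mul_mem _ hb' (Subalgebra.algebraMap_mem _ _)), mul_ne_zero hs hs', ?_⟩
      rw [map_mul, ← hxs, ← hys]
      ring
    | mul x y _ _ hx hy =>
      obtain ⟨b, s, hb, hs, hxs⟩ := hx
      obtain ⟨b', s', hb', hs', hys⟩ := hy
      refine ⟨b * b', s * s', Subalgebra.mul_mem _ hb hb', mul_ne_zero hs hs', ?_⟩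
      rw [map_mul, ← hxs, ← hys]
      ring
  apply IsFractionRing.of_field
  intro x
  obtain ⟨b, s, hb, hs, hxs⟩ := key x
  refine ⟨⟨b, hb⟩, ⟨algebraMap A L s, Subalgebra.algebraMap_mem _ s⟩, ?_⟩
  have hs' : algebraMap A L s ≠ 0 := (map_ne_zero_iff _ hinjAL).mpr hs
  change x = b / algebraMap A L s
  rw [eq_div_iff hs', hxs]

include hz in
theorem formallyUnramified_adjoin (a : A) (ha : algebraMap A K a = ξ) :
    Algebra.FormallyUnramified A (Algebra.adjoin A {z}) := by
  haveI : CharP L p := charP_of_injective_algebraMap (algebraMap K L).injective p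
  constructor
  have hD : ∀ (x : L) (hx : x ∈ Algebra.adjoin A {z}),
      KaehlerDifferential.D A (Algebra.adjoin A {z}) ⟨x, hx⟩ = 0 := by
    intro x hx
    induction hx using Algebra.adjoin_induction with
    | mem x hx =>
      rw [Set.mem_singleton_iff] at hx
      subst hx
      have hrel : (⟨x, Algebra.subset_adjoin rfl⟩ : Algebra.adjoin A {x}) ^ p -
          ⟨x, Algebra.subset_adjoin rfl⟩ = algebraMap A _ a := by
        apply Subtype.ext
        change x ^ p - x = algebraMap A L a
        rw [hz, ← ha, ← IsScalarTower.algebraMap_apply]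
      have h1 := congrArg (KaehlerDifferential.D A (Algebra.adjoin A {x})) hrel
      rw [map_sub, Derivation.leibniz_pow, Derivation.map_algebraMap] at h1
      have hp0 : (p : Algebra.adjoin A {x}) = 0 := by
        apply Subtype.ext
        change ((p : Algebra.adjoin A {x}) : L) = 0
        rw [show ((p : Algebra.adjoin A {x}) : L) = (p : L) from map_natCast (Algebra.adjoin A {x}).val p]
        exact CharP.cast_eq_zero L p
      rw [← Nat.cast_smul_eq_nsmul (Algebra.adjoin A {x}), hp0, zero_smul, zero_sub, neg_eq_zero]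
        at h1
      exact h1
    | algebraMap r => exact Derivation.map_algebraMap _ r
    | add x y hx hy ihx ihy =>
      have : (⟨x + y, Subalgebra.add_mem _ hx hy⟩ : Algebra.adjoin A {z}) = ⟨x, hx⟩ + ⟨y, hy⟩ := rfl
      rw [this, map_add, ihx, ihy, add_zero]
    | mul x y hx hy ihx ihy =>
      have : (⟨x * y, Subalgebra.mul_mem _ hx hy⟩ : Algebra.adjoin A {z}) = ⟨x, hx⟩ * ⟨y, hy⟩ := rfl
      rw [this, Derivation.leibniz, ihx, ihy, smul_zero, smul_zero, add_zero]
  have hspan := KaehlerDifferential.span_range_derivation A (Algebra.adjoin A {z})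
  have hbot : Submodule.span (Algebra.adjoin A {z})
      (Set.range (KaehlerDifferential.D A (Algebra.adjoin A {z}))) = ⊥ := by
    rw [Submodule.span_eq_bot]
    rintro _ ⟨⟨x, hx⟩, rfl⟩
    exact hD x hx
  rw [hbot] at hspan
  exact (Submodule.subsingleton_iff (Algebra.adjoin A {z})).mp
    (subsingleton_of_bot_eq_top hspan)

end CaseA



open Polynomial IsLocalRing Groth.Agent.Lib.Helper14Eisenstein Groth.Agent.Lib.Helper14TotRam

section PB

theorem exists_powerBasis_of_linearIndependent {K L : Type u} [Field K] [Field L] [Algebra K L]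
    [FiniteDimensional K L] (y : L) (q : ℕ)
    (hli : LinearIndependent K (fun i : Fin q => y ^ (i : ℕ))) (hfin : Module.finrank K L ≤ q) :
    ∃ pb : PowerBasis K L, pb.gen = y ∧ pb.dim = q := by
  classical
  have hint : IsIntegral K y := Algebra.IsIntegral.isIntegral y
  have hle : (minpoly K y).natDegree ≤ Module.finrank K L := minpoly.natDegree_le y
  have hge : q ≤ (minpoly K y).natDegree := by
    by_contra hlt
    rw [not_le] at hlt
    have h0 : aeval y (minpoly K y) = 0 := minpoly.aeval K y
    rw [aeval_eq_sum_range' hlt, ← Fin.sum_univ_eq_sum_range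
      (fun i => (minpoly K y).coeff i • y ^ i) q] at h0
    have h1 := (Fintype.linearIndependent_iff.mp hli) (fun i => (minpoly K y).coeff i) h0
      ⟨(minpoly K y).natDegree, hlt⟩
    simp only at h1
    have h2 : (minpoly K y).coeff (minpoly K y).natDegree = 1 := (minpoly.monic hint).coeff_natDegree
    rw [h2] at h1
    exact one_ne_zero h1
  have hdeg : (minpoly K y).natDegree = q := le_antisymm (hle.trans hfin) hge
  have hfr : Module.finrank K L = q := le_antisymm hfin (hdeg ▸ hle)
  have htop : IntermediateField.adjoin K {y} = ⊤ :=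
    (Field.primitive_element_iff_minpoly_natDegree_eq K y).mpr (hdeg.trans hfr.symm)
  have hadj : Algebra.adjoin K {y} = ⊤ := by
    have h := IntermediateField.adjoin_simple_toSubalgebra_of_isAlgebraic hint.isAlgebraic
    rw [htop] at h
    rw [← h]
    rfl
  exact ⟨PowerBasis.ofAdjoinEqTop hint hadj, rfl, hdeg⟩

end PB

section TR

variable {A K L : Type u} [CommRing A] [IsDomain A] [IsDiscreteValuationRing A] [Field K]
  [Algebra A K] [IsFractionRing A K] [Field L] [Algebra K L] [Algebra A L] [IsScalarTower A K L]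

/-- total ramification from a power basis whose generator has the valuation of a `dim`-th root of
the uniformizer. -/
theorem isTotallyRamified_of_hval {π : A} (hπ : Irreducible π) (pb : PowerBasis K L)
    (hval : ∀ (V : ValuationSubring L), EtRam.Dominates A (algebraMap A L) V →
      V.valuation pb.gen ^ pb.dim = V.valuation (algebraMap A L π)) :
    EtRam.IsTotallyRamified A (algebraMap A L) := by
  classical
  have hπm : ∀ (V : ValuationSubring L), EtRam.Dominates A (algebraMap A L) V →
      V.valuation (algebraMap A L π) < 1 := fun V hV =>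
    hV.2 π ((IsLocalRing.mem_maximalIdeal π).mpr hπ.not_isUnit)
  refine ⟨?_, ?_, ?_⟩
  · obtain ⟨V, h1, h2⟩ := IsLocalRing.exists_factor_valuationRing (algebraMap A L)
    exact ⟨V, (Groth.Agent.Lib.Helper14EtRam.dominates_iff _ V).mpr ⟨h1, h2⟩⟩
  · intro V V' hV hV'
    ext y
    change y ∈ V ↔ y ∈ V'
    rw [mem_iff_coeff_mem hπ pb V hV (hval V hV), mem_iff_coeff_mem hπ pb V' hV' (hval V' hV')]
  · intro V hV x
    obtain ⟨x, rfl⟩ := IsLocalRing.residue_surjective x
    have hcoef := (mem_iff_coeff_mem hπ pb V hV (hval V hV) (x : L)).mp x.2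
    choose a ha using hcoef
    have hvπ1 := hπm V hV
    have hq : 0 < pb.dim := by
      rcases Nat.eq_zero_or_pos pb.dim with h0 | h0
      · have := hval V hV
        rw [h0, pow_zero] at this
        exact absurd this.symm (ne_of_lt hvπ1)
      · exact h0
    have ht1 : V.valuation pb.gen < 1 := by
      by_contra hge
      rw [not_lt] at hge
      have : (1 : ValuationSubring.ValueGroup V) ≤ V.valuation pb.gen ^ pb.dim := one_le_pow₀ hge
      rw [hval V hV] at this
      exact absurd hvπ1 (not_lt.mpr this)
    refine ⟨a ⟨0, hq⟩, ?_⟩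
    change IsLocalRing.residue V (RingHom.codRestrict (algebraMap A L) V hV.1 (a ⟨0, hq⟩)) =
      IsLocalRing.residue V x
    rw [← sub_eq_zero, ← map_sub, IsLocalRing.residue_eq_zero_iff,
      ValuationSubring.valuation_lt_one_iff]
    change V.valuation (algebraMap A L (a ⟨0, hq⟩) - (x : L)) < 1
    have hy : (x : L) = ∑ i, algebraMap K L (pb.basis.repr (x : L) i) * pb.gen ^ (i : ℕ) := by
      conv_lhs => rw [← pb.basis.sum_repr (x : L)]
      refine Finset.sum_congr rfl fun i _ => ?_
      rw [pb.basis_eq_pow, Algebra.smul_def]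
    rw [hy, ← Finset.add_sum_erase _ _ (Finset.mem_univ (⟨0, hq⟩ : Fin pb.dim)), ← ha,
      ← IsScalarTower.algebraMap_apply, pow_zero, mul_one, sub_add_cancel_left, Valuation.map_neg]
    apply Valuation.map_sum_lt _ one_ne_zero
    intro i hi
    have hi0 : (i : ℕ) ≠ 0 := by
      intro h0
      apply (Finset.mem_erase.mp hi).1
      exact Fin.ext h0
    rw [map_mul, map_pow, ← ha i, ← IsScalarTower.algebraMap_apply]
    calc V.valuation (algebraMap A L (a i)) * V.valuation pb.gen ^ (i : ℕ)
        ≤ 1 * V.valuation pb.gen ^ (i : ℕ) := by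
          gcongr
          exact valuation_algebraMap_le_one V hV _
      _ < 1 := by
          rw [one_mul]
          exact pow_lt_one₀ zero_le ht1 hi0

/-- linear independence of the powers of an element whose `q`-th power has the valuation of the
uniformizer. -/
theorem linearIndependent_pow_of_val {π : A} (hπ : Irreducible π) (y : L) (q : ℕ)
    (V : ValuationSubring L) (hV : EtRam.Dominates A (algebraMap A L) V)
    (hval : V.valuation y ^ q = V.valuation (algebraMap A L π)) :
    LinearIndependent K (fun i : Fin q => y ^ (i : ℕ)) := by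
  classical
  have hinjAL : Function.Injective (algebraMap A L) := by
    rw [IsScalarTower.algebraMap_eq A K L]
    exact (algebraMap K L).injective.comp (IsFractionRing.injective A K)
  have hvπ1 : V.valuation (algebraMap A L π) < 1 :=
    hV.2 π ((IsLocalRing.mem_maximalIdeal π).mpr hπ.not_isUnit)
  have hvπ0 : V.valuation (algebraMap A L π) ≠ 0 := by
    rw [Valuation.ne_zero_iff]
    exact (map_ne_zero_iff _ hinjAL).mpr hπ.ne_zero
  have hq : q ≠ 0 := by
    rintro rfl
    rw [pow_zero] at hval
    exact absurd hval.symm (ne_of_lt hvπ1)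
  have hx1 : V.valuation y < 1 := by
    by_contra hge
    rw [not_lt] at hge
    have : (1 : ValuationSubring.ValueGroup V) ≤ V.valuation y ^ q := one_le_pow₀ hge
    rw [hval] at this
    exact absurd hvπ1 (not_lt.mpr this)
  have hx0 : V.valuation y ≠ 0 := by
    intro h0
    rw [h0, zero_pow hq] at hval
    exact hvπ0 hval.symm
  rw [Fintype.linearIndependent_iff]
  intro c hc
  have := sum_pow_ne_zero V.valuation y q hx0 hx1 (fun i => algebraMap K L (c i)) ?_ ?_
  · intro i
    exact (map_eq_zero _).mp (this i)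
  · intro i hi
    have hci : c i ≠ 0 := fun h => hi (by simp only [h, map_zero])
    obtain ⟨l, hl, -⟩ := exists_zpow_valuation V hV hπ hci
    refine ⟨l, ?_⟩
    rw [hl, ← hval, ← zpow_natCast, ← zpow_mul]
  · rw [← hc]
    refine Finset.sum_congr rfl fun i _ => ?_
    rw [Algebra.smul_def]

end TR




open Polynomial IsLocalRing Groth.Agent.Lib.Helper14Eisenstein Groth.Agent.Lib.Helper14TotRam

section CaseAB

variable (p : ℕ) [hp : Fact p.Prime] (A K L : Type u) [CommRing A] [IsDomain A]
  [IsDiscreteValuationRing A] [Field K] [Algebra A K] [IsFractionRing A K] [Field L] [Algebra K L]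
  [Algebra A L] [IsScalarTower A K L] [CharP K p]
  (ξ : K) (z : L) (hz : z ^ p - z = algebraMap K L ξ) (hgen : IntermediateField.adjoin K {z} = ⊤)

include hz hgen in
theorem caseA (a : A) (ha : algebraMap A K a = ξ) :
    Module.finrank K L = 1 ∨
      (EtRam.IsUnramifiedExt A (algebraMap A L) ∧ Module.finrank K L = p) := by
  rcases finrank_eq_one_or p K L ξ z hz hgen with h1 | hp'
  · exact Or.inl h1
  · refine Or.inr ⟨?_, hp'⟩
    have hinjAL : Function.Injective (algebraMap A L) := by
      rw [IsScalarTower.algebraMap_eq A K L]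
      exact (algebraMap K L).injective.comp (IsFractionRing.injective A K)
    have hint : IsIntegral A z := by
      refine ⟨X ^ p - X - C a, ?_, ?_⟩
      · have := asPoly_monic p K ξ
        have h2 : (X ^ p - X - C a : A[X]) = X ^ p - (X + C a) := by ring
        rw [h2]
        apply monic_X_pow_sub
        refine lt_of_le_of_lt (degree_X_add_C a).le ?_
        exact_mod_cast hp.out.one_lt
      · rw [eval₂_sub, eval₂_sub, eval₂_pow, eval₂_X, eval₂_C, hz, ← ha,
          ← IsScalarTower.algebraMap_apply, sub_self]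
    haveI := isFractionRing_adjoin p A K L ξ z hz hgen
    haveI := formallyUnramified_adjoin p A K L ξ z hz a ha
    haveI : Module.Finite A (Algebra.adjoin A {z}) :=
      Algebra.finite_adjoin_simple_of_isIntegral hint
    exact Groth.Agent.Lib.Helper14EtRamB.isUnramifiedExt_of_subalgebra A L hinjAL
      (Algebra.adjoin A {z})

include hz hgen in
theorem caseB (π : A) (hπ : maximalIdeal A = Ideal.span {π}) (n : ℕ) (a : Aˣ) (hn : 0 < n)
    (hpn : ¬ p ∣ n) (hξ : ξ * algebraMap A K π ^ n = algebraMap A K a) :
    EtRam.IsTotallyRamified A (algebraMap A L) ∧ Module.finrank K L = p := by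
  classical
  have hirr : Irreducible π := (IsDiscreteValuationRing.irreducible_iff_uniformizer π).mpr hπ
  haveI := finiteDimensional p K L ξ z hz hgen
  have hinjAL : Function.Injective (algebraMap A L) := by
    rw [IsScalarTower.algebraMap_eq A K L]
    exact (algebraMap K L).injective.comp (IsFractionRing.injective A K)
  have hξL : algebraMap K L ξ * algebraMap A L π ^ n = algebraMap A L a := by
    rw [IsScalarTower.algebraMap_apply A K L, IsScalarTower.algebraMap_apply A K L, ← map_pow,
      ← map_mul, hξ]
  have key : ∀ (V : ValuationSubring L), EtRam.Dominates A (algebraMap A L) V →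
      V.valuation z ^ p * V.valuation (algebraMap A L π) ^ n = 1 := by
    intro V hV
    have hvπ1 : V.valuation (algebraMap A L π) < 1 :=
      hV.2 π ((IsLocalRing.mem_maximalIdeal π).mpr hirr.not_isUnit)
    have hva : V.valuation (algebraMap A L a) = 1 := valuation_algebraMap_unit V hV a
    have h1 : V.valuation (algebraMap K L ξ) * V.valuation (algebraMap A L π) ^ n = 1 := by
      rw [← map_pow, ← map_mul, hξL, hva]
    have hπn : V.valuation (algebraMap A L π) ^ n < 1 := pow_lt_one₀ zero_le hvπ1 hn.ne'
    have hξ1 : 1 < V.valuation (algebraMap K L ξ) := by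
      by_contra hle
      rw [not_lt] at hle
      have : V.valuation (algebraMap K L ξ) * V.valuation (algebraMap A L π) ^ n < 1 := by
        calc _ ≤ 1 * V.valuation (algebraMap A L π) ^ n := by gcongr
          _ < 1 := by rw [one_mul]; exact hπn
      rw [h1] at this
      exact lt_irrefl _ this
    have hz1 : 1 < V.valuation z := by
      by_contra hle
      rw [not_lt] at hle
      have h2 : V.valuation (z ^ p - z) ≤ 1 :=
        Valuation.map_sub_le _ (by rw [map_pow]; exact pow_le_one₀ zero_le hle) hle
      rw [hz] at h2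
      exact absurd hξ1 (not_lt.mpr h2)
    have hzp : V.valuation z < V.valuation (z ^ p) := by
      rw [map_pow]
      have hp1 : p = (p - 1) + 1 := (Nat.sub_add_cancel hp.out.one_le).symm
      have h3 : 1 < V.valuation z ^ (p - 1) :=
        one_lt_pow₀ hz1 (Nat.sub_ne_zero_of_lt hp.out.one_lt)
      calc V.valuation z = 1 * V.valuation z := (one_mul _).symm
        _ < V.valuation z ^ (p - 1) * V.valuation z := by
            apply mul_lt_mul_of_pos_right h3
            exact lt_trans zero_lt_one hz1
        _ = V.valuation z ^ p := by rw [← pow_succ, ← hp1]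
    have h4 : V.valuation (z ^ p - z) = V.valuation (z ^ p) :=
      Valuation.map_sub_eq_of_lt_left _ hzp
    rw [hz, map_pow] at h4
    rw [← h4, h1]
  -- Bezout
  have hcop : Nat.Coprime p n := (Nat.Prime.coprime_iff_not_dvd hp.out).mpr hpn
  have hbez : (p : ℤ) * Nat.gcdA p n + (n : ℤ) * Nat.gcdB p n = 1 := by
    have := Nat.gcd_eq_gcd_ab p n
    rw [hcop.gcd_eq_one] at this
    exact_mod_cast this.symm
  set s := Nat.gcdA p n with hs
  set t := Nat.gcdB p n with ht
  have hvaly : ∀ (V : ValuationSubring L), EtRam.Dominates A (algebraMap A L) V →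
      V.valuation (algebraMap A L π ^ s * z ^ (-t)) ^ p = V.valuation (algebraMap A L π) := by
    intro V hV
    have hk := key V hV
    have hvπ0 : V.valuation (algebraMap A L π) ≠ 0 := by
      rw [Valuation.ne_zero_iff]
      exact (map_ne_zero_iff _ hinjAL).mpr hirr.ne_zero
    have hvz0 : V.valuation z ≠ 0 := by
      intro h0
      rw [h0, zero_pow hp.out.ne_zero, zero_mul] at hk
      exact zero_ne_one hk
    have hzp : V.valuation z ^ (p : ℤ) = V.valuation (algebraMap A L π) ^ (-(n : ℤ)) := by
      rw [zpow_natCast, zpow_neg, zpow_natCast]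
      exact eq_inv_of_mul_eq_one_left hk
    have e1 : (V.valuation (algebraMap A L π) ^ s) ^ p =
        V.valuation (algebraMap A L π) ^ (s * (p : ℤ)) := by
      rw [← zpow_natCast, ← zpow_mul]
    have e2 : (V.valuation z ^ (-t)) ^ p = V.valuation (algebraMap A L π) ^ ((n : ℤ) * t) := by
      calc (V.valuation z ^ (-t)) ^ p = (V.valuation z ^ (p : ℤ)) ^ (-t) := by
            rw [← zpow_natCast (V.valuation z ^ (-t)) p, ← zpow_mul, ← zpow_mul, mul_comm]
        _ = (V.valuation (algebraMap A L π) ^ (-(n : ℤ))) ^ (-t) := by rw [hzp]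
        _ = V.valuation (algebraMap A L π) ^ ((n : ℤ) * t) := by
            rw [← zpow_mul]
            congr 1
            ring
    rw [map_mul, map_zpow₀, map_zpow₀, mul_pow, e1, e2, ← zpow_add₀ hvπ0]
    have : s * (p : ℤ) + (n : ℤ) * t = 1 := by linarith
    rw [this, zpow_one]
  obtain ⟨V, h1, h2⟩ := IsLocalRing.exists_factor_valuationRing (algebraMap A L)
  have hV : EtRam.Dominates A (algebraMap A L) V :=
    (Groth.Agent.Lib.Helper14EtRam.dominates_iff _ V).mpr ⟨h1, h2⟩
  have hli := linearIndependent_pow_of_val (K := K) hirr _ p V hV (hvaly V hV)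
  obtain ⟨pb, hpbgen, hpbdim⟩ := exists_powerBasis_of_linearIndependent _ p hli
    (finrank_le p K L ξ z hz hgen)
  refine ⟨isTotallyRamified_of_hval hirr pb (fun V hV => ?_), ?_⟩
  · rw [hpbgen, hpbdim]
    exact hvaly V hV
  · rw [pb.finrank, hpbdim]

end CaseAB




open Polynomial IsLocalRing Groth.Agent.Lib.Helper14Eisenstein Groth.Agent.Lib.Helper14TotRam

section UB

variable {A K L : Type u} [CommRing A] [IsDomain A] [IsDiscreteValuationRing A] [Field K]
  [Algebra A K] [IsFractionRing A K] [Field L] [Algebra K L] [Algebra A L] [IsScalarTower A K L]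

theorem mem_range_of_val_le_one (V : ValuationSubring L)
    (hV : EtRam.Dominates A (algebraMap A L) V) (c : K)
    (hc : V.valuation (algebraMap K L c) ≤ 1) : c ∈ Set.range (algebraMap A K) := by
  obtain ⟨π, hπ⟩ := IsDiscreteValuationRing.exists_irreducible A
  by_cases hc0 : c = 0
  · exact ⟨0, by rw [map_zero, hc0]⟩
  obtain ⟨l, hl1, hl2⟩ := exists_zpow_valuation V hV hπ hc0
  apply hl2
  by_contra hneg
  rw [not_le] at hneg
  have hvπ1 : V.valuation (algebraMap A L π) < 1 :=
    hV.2 π ((IsLocalRing.mem_maximalIdeal π).mpr hπ.not_isUnit)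
  have hinjAL : Function.Injective (algebraMap A L) := by
    rw [IsScalarTower.algebraMap_eq A K L]
    exact (algebraMap K L).injective.comp (IsFractionRing.injective A K)
  have hvπ0 : V.valuation (algebraMap A L π) ≠ 0 := by
    rw [Valuation.ne_zero_iff]
    exact (map_ne_zero_iff _ hinjAL).mpr hπ.ne_zero
  have h1 : 1 < V.valuation (algebraMap A L π) ^ l :=
    one_lt_zpow_of_neg₀ (lt_of_le_of_ne zero_le hvπ0.symm) hvπ1 hneg
  rw [hl1] at hc
  exact absurd hc (not_le.mpr h1)

theorem mem_maximalIdeal_of_val_lt_one (V : ValuationSubring L)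
    (hV : EtRam.Dominates A (algebraMap A L) V) (a : A)
    (h : V.valuation (algebraMap A L a) < 1) : a ∈ maximalIdeal A := by
  rw [mem_maximalIdeal, mem_nonunits_iff]
  intro hu
  have := valuation_algebraMap_unit V hV hu.unit
  rw [IsUnit.unit_spec] at this
  rw [this] at h
  exact lt_irrefl _ h

/-- the "unit" hypothesis: combinations of powers of `y` with a unit coefficient have valuation 1. -/
def UnitComb (V : ValuationSubring L) (y : L) (q : ℕ) : Prop :=
  ∀ c : Fin q → A, (∃ j, IsUnit (c j)) →
    V.valuation (∑ i, algebraMap A L (c i) * y ^ (i : ℕ)) = 1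

theorem val_sum_eq (V : ValuationSubring L) (hV : EtRam.Dominates A (algebraMap A L) V) (y : L)
    (q : ℕ) (hU : UnitComb (A := A) V y q) (c : Fin q → K) (i₀ : Fin q) (hi₀ : c i₀ ≠ 0) :
    ∃ j, c j ≠ 0 ∧ V.valuation (∑ i, algebraMap K L (c i) * y ^ (i : ℕ)) =
      V.valuation (algebraMap K L (c j)) ∧
      ∀ i, V.valuation (algebraMap K L (c i)) ≤ V.valuation (algebraMap K L (c j)) := by
  classical
  obtain ⟨j, -, hjmax⟩ := Finset.exists_max_image Finset.univ
    (fun i => V.valuation (algebraMap K L (c i))) ⟨i₀, Finset.mem_univ _⟩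
  have hcj : c j ≠ 0 := by
    intro h0
    have h1 := hjmax i₀ (Finset.mem_univ _)
    rw [h0, map_zero, map_zero, le_zero_iff, Valuation.zero_iff, map_eq_zero] at h1
    exact hi₀ h1
  have hcjL : algebraMap K L (c j) ≠ 0 := (_root_.map_ne_zero _).mpr hcj
  have hvj : V.valuation (algebraMap K L (c j)) ≠ 0 := (Valuation.ne_zero_iff _).mpr hcjL
  refine ⟨j, hcj, ?_, fun i => hjmax i (Finset.mem_univ _)⟩
  have hd : ∀ i, ∃ a : A, algebraMap A K a = c i / c j := by
    intro i
    apply mem_range_of_val_le_one V hV
    rw [map_div₀, map_div₀]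
    exact (div_le_one₀ (lt_of_le_of_ne zero_le hvj.symm)).mpr (hjmax i (Finset.mem_univ _))
  choose a ha using hd
  have haj : IsUnit (a j) := by
    have : algebraMap A K (a j) = 1 := by rw [ha, div_self hcj]
    have h1 : a j = 1 := IsFractionRing.injective A K (by rw [this, map_one])
    rw [h1]
    exact isUnit_one
  have hsum : ∑ i, algebraMap K L (c i) * y ^ (i : ℕ) =
      algebraMap K L (c j) * ∑ i, algebraMap A L (a i) * y ^ (i : ℕ) := by
    rw [Finset.mul_sum]
    refine Finset.sum_congr rfl fun i _ => ?_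
    rw [IsScalarTower.algebraMap_apply A K L, ha, map_div₀, ← mul_assoc, mul_div_cancel₀ _ hcjL]
  rw [hsum, map_mul, hU a ⟨j, haj⟩, mul_one]

theorem linearIndependent_of_unitComb (V : ValuationSubring L)
    (hV : EtRam.Dominates A (algebraMap A L) V) (y : L) (q : ℕ) (hU : UnitComb (A := A) V y q) :
    LinearIndependent K (fun i : Fin q => y ^ (i : ℕ)) := by
  rw [Fintype.linearIndependent_iff]
  intro c hc i₀
  by_contra hi₀
  obtain ⟨j, hcj, hv, -⟩ := val_sum_eq V hV y q hU c i₀ hi₀
  have h0 : ∑ i, algebraMap K L (c i) * y ^ (i : ℕ) = 0 := by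
    rw [← hc]
    refine Finset.sum_congr rfl fun i _ => ?_
    rw [Algebra.smul_def]
  rw [h0, map_zero] at hv
  exact (Valuation.ne_zero_iff _).mpr ((_root_.map_ne_zero _).mpr hcj) hv.symm

theorem mem_iff_of_unitComb (pb : PowerBasis K L) (V : ValuationSubring L)
    (hV : EtRam.Dominates A (algebraMap A L) V) (hyV : pb.gen ∈ V)
    (hU : UnitComb (A := A) V pb.gen pb.dim) (x : L) :
    x ∈ V ↔ ∀ i, pb.basis.repr x i ∈ Set.range (algebraMap A K) := by
  have hx : x = ∑ i, algebraMap K L (pb.basis.repr x i) * pb.gen ^ (i : ℕ) := by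
    conv_lhs => rw [← pb.basis.sum_repr x]
    refine Finset.sum_congr rfl fun i _ => ?_
    rw [pb.basis_eq_pow, Algebra.smul_def]
  constructor
  · intro hxV i
    by_cases hi : pb.basis.repr x i = 0
    · exact ⟨0, by rw [map_zero, hi]⟩
    obtain ⟨j, hcj, hv, hmax⟩ := val_sum_eq V hV pb.gen pb.dim hU (fun i => pb.basis.repr x i) i hi
    rw [← hx] at hv
    apply mem_range_of_val_le_one V hV
    refine (hmax i).trans ?_
    rw [← hv]
    exact (V.valuation_le_one_iff _).mpr hxV
  · intro h
    rw [hx]
    refine V.sum_mem fun i _ => V.mul_mem _ _ ?_ (pow_mem hyV _)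
    obtain ⟨a, ha⟩ := h i
    rw [← ha, ← IsScalarTower.algebraMap_apply]
    exact hV.1 a

theorem coeff_mem_of_val_lt_one (pb : PowerBasis K L) (V : ValuationSubring L)
    (hV : EtRam.Dominates A (algebraMap A L) V)
    (hU : UnitComb (A := A) V pb.gen pb.dim) (x : L) (hxV : V.valuation x < 1) (i : Fin pb.dim) :
    ∃ a ∈ maximalIdeal A, algebraMap A K a = pb.basis.repr x i := by
  have hx : x = ∑ i, algebraMap K L (pb.basis.repr x i) * pb.gen ^ (i : ℕ) := by
    conv_lhs => rw [← pb.basis.sum_repr x]
    refine Finset.sum_congr rfl fun i _ => ?_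
    rw [pb.basis_eq_pow, Algebra.smul_def]
  by_cases hi : pb.basis.repr x i = 0
  · exact ⟨0, Ideal.zero_mem _, by rw [map_zero, hi]⟩
  obtain ⟨j, hcj, hv, hmax⟩ := val_sum_eq V hV pb.gen pb.dim hU (fun i => pb.basis.repr x i) i hi
  rw [← hx] at hv
  have hlt : V.valuation (algebraMap K L (pb.basis.repr x i)) < 1 := by
    refine lt_of_le_of_lt (hmax i) ?_
    rw [← hv]
    exact hxV
  obtain ⟨a, ha⟩ := mem_range_of_val_le_one V hV _ hlt.le
  refine ⟨a, ?_, ha⟩
  apply mem_maximalIdeal_of_val_lt_one V hV
  rw [IsScalarTower.algebraMap_apply A K L, ha]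
  exact hlt

end UB




open Polynomial IsLocalRing Groth.Agent.Lib.Helper14Eisenstein Groth.Agent.Lib.Helper14TotRam

section CaseC1

variable {A K L : Type u} [CommRing A] [IsDomain A] [IsDiscreteValuationRing A] [Field K]
  [Algebra A K] [IsFractionRing A K] [Field L] [Algebra K L] [Algebra A L] [IsScalarTower A K L]

set_option maxHeartbeats 1600000 in
theorem caseC_residue (p : ℕ) (hp : p.Prime) (V : ValuationSubring L)
    (hV : EtRam.Dominates A (algebraMap A L) V) (y : L) (a b : A) (hb : b ∈ maximalIdeal A)
    (hy : y ^ p - algebraMap A L b * y = algebraMap A L a)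
    (ha : ∀ r : A, residue A a ≠ residue A r ^ p) :
    letI : Algebra A V := (RingHom.codRestrict (algebraMap A L) V hV.1).toAlgebra
    ∀ [IsLocalHom (algebraMap A V)], ∃ hyV : y ∈ V,
      (residue V ⟨y, hyV⟩) ^ p = algebraMap (ResidueField A) (ResidueField V) (residue A a) ∧
      LinearIndependent (ResidueField A) (fun i : Fin p => (residue V ⟨y, hyV⟩) ^ (i : ℕ)) ∧
      UnitComb (A := A) V y p := by
  classical
  letI algAV : Algebra A V := (RingHom.codRestrict (algebraMap A L) V hV.1).toAlgebra
  intro hloc
  have hint : IsIntegral A y := by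
    refine ⟨X ^ p - (C b * X + C a), ?_, ?_⟩
    · apply monic_X_pow_sub
      refine lt_of_le_of_lt (degree_add_le _ _) (max_lt ?_ ?_)
      · refine lt_of_le_of_lt (degree_C_mul_X_le b) ?_
        exact_mod_cast hp.one_lt
      · refine lt_of_le_of_lt degree_C_le ?_
        exact_mod_cast hp.pos
    · rw [eval₂_sub, eval₂_pow, eval₂_X, eval₂_add, eval₂_mul, eval₂_C, eval₂_X, eval₂_C]
      linear_combination hy
  have hyV : y ∈ V := gen_mem_of_dominates hint V hV
  refine ⟨hyV, ?_⟩
  set yV : V := ⟨y, hyV⟩ with hyVdef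
  have hrel : yV ^ p = algebraMap A V b * yV + algebraMap A V a := by
    apply Subtype.ext
    change y ^ p = algebraMap A L b * y + algebraMap A L a
    linear_combination hy
  have hres : (residue V yV) ^ p =
      algebraMap (ResidueField A) (ResidueField V) (residue A a) := by
    rw [← map_pow, hrel, map_add, map_mul, ← ResidueField.algebraMap_residue, ← ResidueField.algebraMap_residue,
      (residue_eq_zero_iff b).mpr hb, map_zero, zero_mul, zero_add]
  have hirr : Irreducible (X ^ p - C (residue A a) : (ResidueField A)[X]) := by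
    apply X_pow_sub_C_irreducible_of_prime hp
    intro bb hbb
    obtain ⟨r, rfl⟩ := residue_surjective bb
    exact ha r hbb.symm
  have hmin : (X ^ p - C (residue A a) : (ResidueField A)[X]) =
      minpoly (ResidueField A) (residue V yV) := by
    apply minpoly.eq_of_irreducible_of_monic hirr
    · rw [map_sub, map_pow, aeval_X, aeval_C, hres, sub_self]
    · exact monic_X_pow_sub_C _ hp.ne_zero
  have hdeg : (minpoly (ResidueField A) (residue V yV)).natDegree = p := by
    rw [← hmin, natDegree_X_pow_sub_C]
  have hli : LinearIndependent (ResidueField A) (fun i : Fin p => (residue V yV) ^ (i : ℕ)) := by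
    have h := linearIndependent_pow (K := ResidueField A) (residue V yV)
    rw [hdeg] at h
    exact h
  refine ⟨hres, hli, ?_⟩
  intro c ⟨j, hj⟩
  have hmem : ∑ i, algebraMap A L (c i) * y ^ (i : ℕ) ∈ V :=
    V.sum_mem fun i _ => V.mul_mem _ _ (hV.1 _) (pow_mem hyV _)
  have hSV : (⟨_, hmem⟩ : V) = ∑ i, algebraMap A V (c i) * yV ^ (i : ℕ) := by
    apply Subtype.ext
    rw [show ((∑ i, algebraMap A V (c i) * yV ^ (i : ℕ) : V) : L) =
      V.subtype (∑ i, algebraMap A V (c i) * yV ^ (i : ℕ)) from rfl, map_sum]
    rfl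
  have hresS : residue V ⟨_, hmem⟩ ≠ 0 := by
    rw [hSV, map_sum]
    intro h0
    have h1 : ∑ i, (residue A (c i)) • (residue V yV) ^ (i : ℕ) = 0 := by
      rw [← h0]
      refine Finset.sum_congr rfl fun i _ => ?_
      rw [map_mul, map_pow, Algebra.smul_def, ResidueField.algebraMap_residue]
    have h2 := (Fintype.linearIndependent_iff.mp hli) (fun i => residue A (c i)) h1 j
    exact (residue_ne_zero_iff_isUnit (c j)).mpr hj h2
  have hunit : IsUnit (⟨_, hmem⟩ : V) := (residue_ne_zero_iff_isUnit _).mp hresS
  exact (V.valuation_eq_one_iff _).mp hunit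

end CaseC1




open Polynomial IsLocalRing Groth.Agent.Lib.Helper14Eisenstein Groth.Agent.Lib.Helper14TotRam

theorem charP_residueField' (p : ℕ) [hp : Fact p.Prime] (A K : Type u) [CommRing A] [IsDomain A]
    [IsDiscreteValuationRing A] [Field K] [Algebra A K] [IsFractionRing A K] [CharP K p] :
    CharP (ResidueField A) p := by
  have hp0 : (p : ResidueField A) = 0 := by
    have h2 : ((p : ℕ) : A) = 0 := by
      apply IsFractionRing.injective A K
      rw [map_natCast, map_zero, CharP.cast_eq_zero K p]
    rw [← map_natCast (residue A), h2, map_zero]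
  obtain ⟨q, hq⟩ := CharP.exists (ResidueField A)
  have hdvd : q ∣ p := (CharP.cast_eq_zero_iff (ResidueField A) q p).mp hp0
  rcases (Nat.dvd_prime hp.out).mp hdvd with h1 | h1
  · exfalso
    subst h1
    exact CharP.char_ne_one (ResidueField A) 1 rfl
  · rw [← h1]
    exact hq


section CaseC

variable (p : ℕ) [hp : Fact p.Prime] (A K L : Type u) [CommRing A] [IsDomain A]
  [IsDiscreteValuationRing A] [Field K] [Algebra A K] [IsFractionRing A K] [Field L] [Algebra K L]
  [Algebra A L] [IsScalarTower A K L] [CharP K p]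
  (ξ : K) (z : L) (hz : z ^ p - z = algebraMap K L ξ) (hgen : IntermediateField.adjoin K {z} = ⊤)

include hz hgen in
set_option maxHeartbeats 1600000 in
theorem caseC (π : A) (hπ : maximalIdeal A = Ideal.span {π}) (n : ℕ) (a : A) (hn : 0 < n)
    (hpn : p ∣ n) (ha : ∀ r : A, residue A a ≠ residue A r ^ p)
    (hξ : ξ * algebraMap A K π ^ n = algebraMap A K a) :
    (∃ V : ValuationSubring L, EtRam.Dominates A (algebraMap A L) V) ∧
    (∀ V V' : ValuationSubring L, EtRam.Dominates A (algebraMap A L) V →
      EtRam.Dominates A (algebraMap A L) V' → V = V') ∧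
    ∀ (V : ValuationSubring L) (h : EtRam.Dominates A (algebraMap A L) V),
      letI : Algebra A V := (RingHom.codRestrict (algebraMap A L) V h.1).toAlgebra
      ∀ [IsLocalHom (algebraMap A V)],
        EtRam.IsWeaklyUnramified A V ∧
        IsPurelyInseparable (ResidueField A) (ResidueField V) ∧
        Module.finrank (ResidueField A) (ResidueField V) = p := by
  classical
  have hirr : Irreducible π := (IsDiscreteValuationRing.irreducible_iff_uniformizer π).mpr hπ
  haveI := finiteDimensional p K L ξ z hz hgen
  haveI hcharκ : CharP (ResidueField A) p := charP_residueField' p A K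
  obtain ⟨m, rfl⟩ := hpn
  have hm : 0 < m := Nat.pos_of_mul_pos_left hn |> fun h => by
    rcases Nat.eq_zero_or_pos m with h0 | h0
    · subst h0; omega
    · exact h0
  have hξL : algebraMap K L ξ * algebraMap A L π ^ (p * m) = algebraMap A L a := by
    rw [IsScalarTower.algebraMap_apply A K L, IsScalarTower.algebraMap_apply A K L, ← map_pow,
      ← map_mul, hξ]
  have hmp : m * (p - 1) + m = p * m := by
    have : p = (p - 1) + 1 := (Nat.sub_add_cancel hp.out.one_le).symm
    nlinarith
  set y : L := algebraMap A L π ^ m * z with hydef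
  have hb : π ^ (m * (p - 1)) ∈ maximalIdeal A := by
    rw [hπ]
    refine Ideal.pow_mem_of_mem _ (Ideal.mem_span_singleton_self π) _ ?_
    exact Nat.mul_pos hm (Nat.sub_pos_of_lt hp.out.one_lt)
  have hy : y ^ p - algebraMap A L (π ^ (m * (p - 1))) * y = algebraMap A L a := by
    rw [← hξL, ← hz, hydef, map_pow, mul_pow, ← pow_mul, ← mul_assoc, ← pow_add, hmp,
      mul_comm m p]
    ring
  -- existence
  obtain ⟨V₀, h1, h2⟩ := IsLocalRing.exists_factor_valuationRing (algebraMap A L)
  have hV₀ : EtRam.Dominates A (algebraMap A L) V₀ :=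
    (Groth.Agent.Lib.Helper14EtRam.dominates_iff _ V₀).mpr ⟨h1, h2⟩
  have hdata : ∀ (V : ValuationSubring L) (hV : EtRam.Dominates A (algebraMap A L) V),
      ∃ hyV : y ∈ V, UnitComb (A := A) V y p := by
    intro V hV
    letI algAV : Algebra A V := (RingHom.codRestrict (algebraMap A L) V hV.1).toAlgebra
    obtain ⟨hh1, hh2⟩ := (Groth.Agent.Lib.Helper14EtRam.dominates_iff _ V).mp hV
    haveI : IsLocalHom (algebraMap A V) := hh2
    obtain ⟨hyV, -, -, hU⟩ := caseC_residue p hp.out V hV y a _ hb hy ha
    exact ⟨hyV, hU⟩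
  obtain ⟨hyV₀, hU₀⟩ := hdata V₀ hV₀
  have hli := linearIndependent_of_unitComb (K := K) V₀ hV₀ y p hU₀
  obtain ⟨pb, hpbgen, hpbdim⟩ := exists_powerBasis_of_linearIndependent y p hli
    (finrank_le p K L ξ z hz hgen)
  have hdata' : ∀ (V : ValuationSubring L) (hV : EtRam.Dominates A (algebraMap A L) V),
      pb.gen ∈ V ∧ UnitComb (A := A) V pb.gen pb.dim := by
    intro V hV
    obtain ⟨hyV, hU⟩ := hdata V hV
    rw [hpbgen, hpbdim]
    exact ⟨hyV, hU⟩
  refine ⟨⟨V₀, hV₀⟩, ?_, ?_⟩
  · intro V V' hV hV'
    ext x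
    change x ∈ V ↔ x ∈ V'
    rw [mem_iff_of_unitComb pb V hV (hdata' V hV).1 (hdata' V hV).2,
      mem_iff_of_unitComb pb V' hV' (hdata' V' hV').1 (hdata' V' hV').2]
  · intro V hV
    letI algAV : Algebra A V := (RingHom.codRestrict (algebraMap A L) V hV.1).toAlgebra
    intro hloc
    obtain ⟨hyV, hres, hliκ, hU⟩ := caseC_residue p hp.out V hV y a _ hb hy ha
    obtain ⟨hgV, hU'⟩ := hdata' V hV
    -- every element of `V` is a combination of powers of `y` with coefficients in `A`
    have hrepr : ∀ x : V, ∃ c : Fin p → A,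
        x = ∑ i, algebraMap A V (c i) * (⟨y, hyV⟩ : V) ^ (i : ℕ) := by
      intro x
      have hcoef := (mem_iff_of_unitComb pb V hV hgV hU' (x : L)).mp x.2
      choose c hc using hcoef
      refine ⟨fun i => c (Fin.cast hpbdim.symm i), ?_⟩
      apply Subtype.ext
      rw [show ((∑ i, algebraMap A V (c (Fin.cast hpbdim.symm i)) * (⟨y, hyV⟩ : V) ^ (i : ℕ) : V) : L)
        = V.subtype (∑ i, algebraMap A V (c (Fin.cast hpbdim.symm i)) * (⟨y, hyV⟩ : V) ^ (i : ℕ))
        from rfl, map_sum]
      conv_lhs => rw [← pb.basis.sum_repr (x : L)]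
      rw [← (Fin.castOrderIso hpbdim).symm.toEquiv.sum_comp]
      refine Finset.sum_congr rfl fun i _ => ?_
      rw [pb.basis_eq_pow, Algebra.smul_def, ← hc, ← IsScalarTower.algebraMap_apply, hpbgen]
      rfl
    have hresx : ∀ x : V, ∃ c : Fin p → A, residue V x =
        ∑ i, (residue A (c i)) • (residue V ⟨y, hyV⟩) ^ (i : ℕ) := by
      intro x
      obtain ⟨c, hc⟩ := hrepr x
      refine ⟨c, ?_⟩
      rw [hc, map_sum]
      refine Finset.sum_congr rfl fun i _ => ?_
      rw [map_mul, map_pow, Algebra.smul_def, ResidueField.algebraMap_residue]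
    refine ⟨?_, ?_, ?_⟩
    · -- weakly unramified
      change (maximalIdeal A).map (algebraMap A V) = maximalIdeal V
      rw [hπ, Ideal.map_span, Set.image_singleton]
      apply le_antisymm
      · rw [Ideal.span_singleton_le_iff_mem]
        exact map_nonunit (algebraMap A V) π
          ((IsLocalRing.mem_maximalIdeal π).mpr hirr.not_isUnit)
      · intro x hx
        have hlt : V.valuation (x : L) < 1 := (V.valuation_lt_one_iff x).mp hx
        have hcoef := coeff_mem_of_val_lt_one pb V hV hU' (x : L) hlt
        have hcoef' : ∀ i, ∃ a' : A, algebraMap A K (π * a') = pb.basis.repr (x : L) i := by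
          intro i
          obtain ⟨a₀, ha₀, ha₀'⟩ := hcoef i
          rw [hπ, Ideal.mem_span_singleton] at ha₀
          obtain ⟨a', rfl⟩ := ha₀
          exact ⟨a', ha₀'⟩
        choose a' ha' using hcoef'
        rw [Ideal.mem_span_singleton]
        refine ⟨∑ i, algebraMap A V (a' i) * (⟨pb.gen, hgV⟩ : V) ^ (i : ℕ), ?_⟩
        apply Subtype.ext
        rw [show ((algebraMap A V π * ∑ i, algebraMap A V (a' i) * (⟨pb.gen, hgV⟩ : V) ^ (i : ℕ) : V) : L)
          = V.subtype (algebraMap A V π * ∑ i, algebraMap A V (a' i) * (⟨pb.gen, hgV⟩ : V) ^ (i : ℕ))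
          from rfl, map_mul, map_sum, Finset.mul_sum]
        conv_lhs => rw [← pb.basis.sum_repr (x : L)]
        refine Finset.sum_congr rfl fun i _ => ?_
        rw [pb.basis_eq_pow, Algebra.smul_def, ← ha', ← IsScalarTower.algebraMap_apply, map_mul,
          mul_assoc]
        rfl
    · -- purely inseparable
      haveI : ExpChar (ResidueField A) p := ExpChar.prime hp.out
      haveI : CharP (ResidueField V) p :=
        charP_of_injective_algebraMap (algebraMap (ResidueField A) (ResidueField V)).injective p
      rw [isPurelyInseparable_iff_pow_mem (ResidueField A) p]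
      intro xbar
      obtain ⟨x, rfl⟩ := residue_surjective xbar
      obtain ⟨c, hc⟩ := hresx x
      refine ⟨1, ∑ i, (residue A (c i)) ^ p * (residue A a) ^ (i : ℕ), ?_⟩
      rw [pow_one, hc, sum_pow_char, map_sum]
      refine Finset.sum_congr rfl fun i _ => ?_
      rw [Algebra.smul_def, mul_pow, ← pow_mul, mul_comm (i : ℕ) p, pow_mul, hres, map_mul,
        map_pow, map_pow]
    · -- degree
      have hspan : ⊤ ≤ Submodule.span (ResidueField A)
          (Set.range (fun i : Fin p => (residue V ⟨y, hyV⟩) ^ (i : ℕ))) := by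
        intro xbar _
        obtain ⟨x, rfl⟩ := residue_surjective xbar
        obtain ⟨c, hc⟩ := hresx x
        rw [hc]
        refine Submodule.sum_mem _ fun i _ => Submodule.smul_mem _ _ ?_
        exact Submodule.subset_span ⟨i, rfl⟩
      have := Module.finrank_eq_card_basis (Module.Basis.mk hliκ hspan)
      rw [this, Fintype.card_fin]

end CaseC




open Polynomial IsLocalRing

section Red

variable (p : ℕ) [hp : Fact p.Prime] (A K : Type u) [CommRing A] [IsDomain A]
  [IsDiscreteValuationRing A] [Field K] [Algebra A K] [IsFractionRing A K] [CharP K p]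

/-- the three normal forms of an Artin–Schreier datum. -/
def NormalForm (π : A) (ξ : K) : Prop :=
  (∃ a : A, algebraMap A K a = ξ) ∨
  (∃ (n : ℕ) (a : Aˣ), 0 < n ∧ ¬ p ∣ n ∧ ξ * algebraMap A K π ^ n = algebraMap A K a) ∨
  (∃ (n : ℕ) (a : A), 0 < n ∧ p ∣ n ∧ (∀ r : A, residue A a ≠ residue A r ^ p) ∧
    ξ * algebraMap A K π ^ n = algebraMap A K a)

theorem exists_normalForm_aux (π : A) (hπ : maximalIdeal A = Ideal.span {π}) (N : ℕ) :
    ∀ ξ : K, (∃ a : A, ξ * algebraMap A K π ^ N = algebraMap A K a) →
      ∃ y : K, NormalForm p A K π (ξ - (y ^ p - y)) := by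
  classical
  have hirr : Irreducible π := (IsDiscreteValuationRing.irreducible_iff_uniformizer π).mpr hπ
  have hπK : algebraMap A K π ≠ 0 :=
    (map_ne_zero_iff _ (IsFractionRing.injective A K)).mpr hirr.ne_zero
  induction N with
  | zero =>
    rintro ξ ⟨a, ha⟩
    refine ⟨0, Or.inl ⟨a, ?_⟩⟩
    rw [pow_zero, mul_one] at ha
    rw [zero_pow hp.out.ne_zero, sub_zero, sub_zero, ha]
  | succ k ih =>
    rintro ξ ⟨a, ha⟩
    by_cases hau : IsUnit a
    · by_cases hpk : p ∣ k + 1
      · by_cases hr : ∀ r : A, residue A a ≠ residue A r ^ p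
        · refine ⟨0, Or.inr (Or.inr ⟨k + 1, a, Nat.succ_pos k, hpk, hr, ?_⟩)⟩
          rw [zero_pow hp.out.ne_zero, sub_zero, sub_zero, ha]
        · push Not at hr
          obtain ⟨r, hr⟩ := hr
          obtain ⟨m, hm⟩ := hpk
          have hm0 : 0 < m := by
            rcases Nat.eq_zero_or_pos m with h0 | h0
            · subst h0; omega
            · exact h0
          -- `a - r ^ p = π d`
          have hmem : a - r ^ p ∈ maximalIdeal A := by
            rw [← residue_eq_zero_iff, map_sub, map_pow, hr, sub_self]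
          rw [hπ, Ideal.mem_span_singleton] at hmem
          obtain ⟨d, hd⟩ := hmem
          have hmp : m * (p - 1) = (m * (p - 1) - 1) + 1 :=
            (Nat.sub_add_cancel (Nat.mul_pos hm0 (Nat.sub_pos_of_lt hp.out.one_lt))).symm
          have hpm : p * m = m * (p - 1) + m := by
            have : p = (p - 1) + 1 := (Nat.sub_add_cancel hp.out.one_le).symm
            nlinarith
          set y₀ : K := algebraMap A K r / algebraMap A K π ^ m with hy₀
          have hπm : algebraMap A K π ^ m ≠ 0 := pow_ne_zero _ hπK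
          have h1 : y₀ ^ p * algebraMap A K π ^ (k + 1) = algebraMap A K (r ^ p) := by
            rw [hm, hy₀, div_pow, ← pow_mul, mul_comm m p, map_pow,
              div_mul_cancel₀ _ (pow_ne_zero _ hπK)]
          have h2 : y₀ * algebraMap A K π ^ (k + 1) =
              algebraMap A K (r * π ^ (m * (p - 1))) := by
            rw [hm, hpm, pow_add, hy₀, map_mul, map_pow]
            field_simp
          have h3 : (ξ - (y₀ ^ p - y₀)) * algebraMap A K π ^ k =
              algebraMap A K (d + r * π ^ (m * (p - 1) - 1)) := by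
            have h4 : (ξ - (y₀ ^ p - y₀)) * algebraMap A K π ^ (k + 1) =
                algebraMap A K (π * (d + r * π ^ (m * (p - 1) - 1))) := by
              have e1 : π * (d + r * π ^ (m * (p - 1) - 1)) =
                  a - r ^ p + r * π ^ (m * (p - 1)) := by
                rw [hd]
                conv_rhs => rw [hmp, pow_succ]
                ring
              rw [e1, map_add, map_sub, ← ha, ← h1, ← h2]
              ring
            rw [pow_succ, ← mul_assoc, map_mul, mul_comm (algebraMap A K π)] at h4
            exact mul_right_cancel₀ hπK h4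
          obtain ⟨y₁, hy₁⟩ := ih _ ⟨_, h3⟩
          refine ⟨y₀ + y₁, ?_⟩
          have e2 : ξ - ((y₀ + y₁) ^ p - (y₀ + y₁)) = ξ - (y₀ ^ p - y₀) - (y₁ ^ p - y₁) := by
            rw [add_pow_char]
            ring
          rw [e2]
          exact hy₁
      · refine ⟨0, Or.inr (Or.inl ⟨k + 1, hau.unit, Nat.succ_pos k, hpk, ?_⟩)⟩
        rw [zero_pow hp.out.ne_zero, sub_zero, sub_zero, ha, IsUnit.unit_spec]
    · have hmem : a ∈ maximalIdeal A := (mem_maximalIdeal a).mpr hau
      rw [hπ, Ideal.mem_span_singleton] at hmem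
      obtain ⟨a', rfl⟩ := hmem
      apply ih
      refine ⟨a', ?_⟩
      rw [pow_succ, ← mul_assoc, map_mul, mul_comm (algebraMap A K π)] at ha
      exact mul_right_cancel₀ hπK ha

theorem exists_normalForm (π : A) (hπ : maximalIdeal A = Ideal.span {π}) (ξ : K) :
    ∃ y : K, NormalForm p A K π (ξ - (y ^ p - y)) := by
  have hirr : Irreducible π := (IsDiscreteValuationRing.irreducible_iff_uniformizer π).mpr hπ
  have hπK : algebraMap A K π ≠ 0 :=
    (map_ne_zero_iff _ (IsFractionRing.injective A K)).mpr hirr.ne_zero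
  by_cases hξ : ξ = 0
  · exact exists_normalForm_aux p A K π hπ 0 ξ ⟨0, by rw [hξ, zero_mul, map_zero]⟩
  obtain ⟨l, u, hlu⟩ := IsDiscreteValuationRing.exists_units_eq_smul_zpow_of_irreducible hirr hξ
  refine exists_normalForm_aux p A K π hπ l.natAbs ξ ?_
  rcases le_or_gt 0 l with hl | hl
  · obtain ⟨k, rfl⟩ := Int.eq_ofNat_of_zero_le hl
    refine ⟨(u : A) * π ^ k * π ^ k, ?_⟩
    rw [hlu, Units.smul_def, Algebra.smul_def, zpow_natCast, Int.natAbs_natCast, map_mul, map_mul,
      map_pow]
  · refine ⟨(u : A), ?_⟩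
    have : (l.natAbs : ℤ) = -l := by omega
    rw [hlu, Units.smul_def, Algebra.smul_def, mul_assoc, ← zpow_natCast, this,
      ← zpow_add₀ hπK, add_neg_cancel, zpow_zero, mul_one]

end Red




open Polynomial IsLocalRing

section Main

/-- case (4) of the classification. -/
def Case4 (A L : Type u) [CommRing A] [IsLocalRing A] [Field L] (g : A →+* L) (p : ℕ) : Prop :=
  (∃ V : ValuationSubring L, EtRam.Dominates A g V) ∧
    (∀ V V' : ValuationSubring L, EtRam.Dominates A g V → EtRam.Dominates A g V' → V = V') ∧
    ∀ (V : ValuationSubring L) (h : EtRam.Dominates A g V),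
      letI : Algebra A V := (RingHom.codRestrict g V h.1).toAlgebra
      ∀ [IsLocalHom (algebraMap A V)],
        EtRam.IsWeaklyUnramified A V ∧
          IsPurelyInseparable (IsLocalRing.ResidueField A) (IsLocalRing.ResidueField V) ∧
          Module.finrank (IsLocalRing.ResidueField A) (IsLocalRing.ResidueField V) = p

set_option maxHeartbeats 1600000 in
theorem main (p : ℕ) (hp : p.Prime) (A K L : Type u) [CommRing A] [IsDomain A]
    [IsDiscreteValuationRing A] [Field K] [Algebra A K] [IsFractionRing A K] [Field L] [Algebra K L]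
    [Algebra A L] [IsScalarTower A K L] [CharP K p] (π : A)
    (hπ : IsLocalRing.maximalIdeal A = Ideal.span {π})
    (ξ : K) (z : L) (hz : z ^ p - z = algebraMap K L ξ)
    (hgen : IntermediateField.adjoin K {z} = ⊤) :
    IsGalois K L ∧
      (Module.finrank K L = 1 ∨
        (EtRam.IsUnramifiedExt A (algebraMap A L) ∧ Module.finrank K L = p) ∨
        (EtRam.IsTotallyRamified A (algebraMap A L) ∧ Module.finrank K L = p) ∨
        Case4 A L (algebraMap A L) p) ∧
      ((∃ a : A, algebraMap A K a = ξ) → Module.finrank K L = 1 ∨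
        (EtRam.IsUnramifiedExt A (algebraMap A L) ∧ Module.finrank K L = p)) ∧
      (∀ (n : ℕ) (a : Aˣ), 0 < n → ¬ p ∣ n → ξ * algebraMap A K π ^ n = algebraMap A K a →
        (EtRam.IsTotallyRamified A (algebraMap A L) ∧ Module.finrank K L = p)) ∧
      (∀ (n : ℕ) (a : A), 0 < n → p ∣ n →
        (∀ r : A, IsLocalRing.residue A a ≠ IsLocalRing.residue A r ^ p) →
          ξ * algebraMap A K π ^ n = algebraMap A K a → Case4 A L (algebraMap A L) p) := by
  haveI : Fact p.Prime := ⟨hp⟩
  haveI : CharP L p := charP_of_injective_algebraMap (algebraMap K L).injective p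
  refine ⟨isGalois p K L ξ z hz hgen, ?_, fun ⟨a, ha⟩ => caseA p A K L ξ z hz hgen a ha,
    fun n a hn hpn h => caseB p A K L ξ z hz hgen π hπ n a hn hpn h,
    fun n a hn hpn hr h => caseC p A K L ξ z hz hgen π hπ n a hn hpn hr h⟩
  obtain ⟨y, hy⟩ := exists_normalForm p A K π hπ ξ
  have hz' : (z - algebraMap K L y) ^ p - (z - algebraMap K L y) =
      algebraMap K L (ξ - (y ^ p - y)) := by
    rw [sub_pow_char, map_sub, map_sub, map_pow, ← hz]
    ring
  have hgen' : IntermediateField.adjoin K {z - algebraMap K L y} = ⊤ := by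
    rw [eq_top_iff, ← hgen, IntermediateField.adjoin_simple_le_iff]
    have h1 : z - algebraMap K L y ∈ IntermediateField.adjoin K {z - algebraMap K L y} :=
      IntermediateField.mem_adjoin_simple_self K _
    have h2 : algebraMap K L y ∈ IntermediateField.adjoin K {z - algebraMap K L y} :=
      IntermediateField.algebraMap_mem _ y
    have := add_mem h1 h2
    rwa [sub_add_cancel] at this
  rcases hy with ⟨a, ha⟩ | ⟨n, a, hn, hpn, h⟩ | ⟨n, a, hn, hpn, hr, h⟩
  · rcases caseA p A K L _ _ hz' hgen' a ha with h1 | h2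
    · exact Or.inl h1
    · exact Or.inr (Or.inl h2)
  · exact Or.inr (Or.inr (Or.inl (caseB p A K L _ _ hz' hgen' π hπ n a hn hpn h)))
  · exact Or.inr (Or.inr (Or.inr (caseC p A K L _ _ hz' hgen' π hπ n a hn hpn hr h)))

end Main


end Groth.Agent.Lib.Helper14ASRam
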