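import Mathlib
import Groth.Prelude.Def_W4c5adicflatcomplDec
import Groth.Agent.Lib.Helper26Decaying
import Groth.Agent.Lib.Helper14Decaying2

/-!
# Universal property of decaying functions with values in the completion
-/

set_option autoImplicit false

open W4c5adicflatcompl

universe u v w w'

namespace Groth.Agent.Lib.Helper14.AdicUniv

open Groth.Agent.Lib.Helper14.Dec

variable {A : Type u} [CommRing A] (I : Ideal A)

/-- `Psi` as an equivalence onto the decaying functions. -/
noncomputable def PsiEquiv (Z : Type v) (M : Type w) [AddCommGroup M] [Module A M]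
    [IsAdicComplete I (AdicCompletion I M)] :
    AdicCompletion I (Z →₀ M) ≃ₗ[A] decaying I Z (AdicCompletion I M) :=
  LinearEquiv.ofBijective
    (LinearMap.codRestrict (decaying I Z (AdicCompletion I M)) (Psi I Z M) Psi_mem_decaying)
    ⟨fun x y h => Psi_injective (congrArg Subtype.val h), fun g => by
      obtain ⟨x, hx⟩ := decaying_le_range_Psi g.2
      exact ⟨x, Subtype.ext hx⟩⟩

theorem PsiEquiv_apply (Z : Type v) (M : Type w) [AddCommGroup M] [Module A M]
    [IsAdicComplete I (AdicCompletion I M)] (x : AdicCompletion I (Z →₀ M)) (z : Z) :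
    (PsiEquiv I Z M x : Z → AdicCompletion I M) z = Psi I Z M x z := rfl

theorem PsiEquiv_of_single (Z : Type v) [DecidableEq Z]
    [IsAdicComplete I (AdicCompletion I A)] (z : Z) :
    PsiEquiv I Z A (AdicCompletion.of I (Z →₀ A) (Finsupp.single z 1)) =
      single I z (1 : AdicCompletion I A) := by
  apply Subtype.ext
  funext z'
  rw [PsiEquiv_apply, coe_single]
  change AdicCompletion.map I (Finsupp.lapply (M := A) (R := A) z')
    (AdicCompletion.of I (Z →₀ A) (Finsupp.single z 1)) = _
  rw [AdicCompletion.map_of, Finsupp.lapply_apply, Finsupp.single_apply, Pi.single_apply]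
  by_cases h : z = z'
  · rw [if_pos h, if_pos h.symm]
    apply AdicCompletion.ext
    intro n
    rw [AdicCompletion.val_one]
    rfl
  · rw [if_neg h, if_neg (Ne.symm h), map_zero]

variable {I}

/-- Two linear maps out of a completion into a Hausdorff module that agree on `of` are equal. -/
theorem ext_of (hI : I.FG) {N : Type w} {M : Type w'} [AddCommGroup N] [Module A N]
    [AddCommGroup M] [Module A M] [IsHausdorff I M]
    (φ₁ φ₂ : AdicCompletion I N →ₗ[A] M)
    (h : ∀ y, φ₁ (AdicCompletion.of I N y) = φ₂ (AdicCompletion.of I N y)) : φ₁ = φ₂ := by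
  apply LinearMap.ext
  intro x
  rw [← sub_eq_zero]
  apply IsHausdorff.haus ‹IsHausdorff I M›
  intro n
  rw [SModEq.zero]
  obtain ⟨r, hr⟩ := Submodule.Quotient.mk_surjective _ (x.val n)
  have h1 : x - AdicCompletion.of I N r ∈ (I ^ n • ⊤ : Submodule A (AdicCompletion I N)) := by
    rw [AdicCompletion.pow_smul_top_eq_ker_eval hI, LinearMap.mem_ker, map_sub,
      AdicCompletion.eval_of, AdicCompletion.eval_apply, Submodule.mkQ_apply, hr, sub_self]
  have h2 : (I ^ n • ⊤ : Submodule A (AdicCompletion I N)).map (φ₁ - φ₂) ≤ I ^ n • ⊤ := by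
    rw [Submodule.map_smul'']
    exact Submodule.smul_mono le_rfl le_top
  have h3 := h2 (Submodule.mem_map_of_mem h1)
  have h4 : (φ₁ - φ₂) (x - AdicCompletion.of I N r) = φ₁ x - φ₂ x := by
    simp only [LinearMap.sub_apply, map_sub, h r]
    abel
  rwa [h4] at h3

variable (I)

/-- Universal property of decaying functions with values in the completion of a Noetherian
ring. -/
theorem existsUnique_linearMap [IsNoetherianRing A] (Z : Type v) [DecidableEq Z]
    (M : Type w) [AddCommGroup M] [Module A M] [IsAdicComplete I M] (f : Z → M) :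
    ∃! φ : decaying I Z (AdicCompletion I A) →ₗ[A] M,
      ∀ z, φ (single I z (1 : AdicCompletion I A)) = f z := by
  have hfg : I.FG := Ideal.fg_of_isNoetherianRing I
  haveI hc : IsAdicComplete I (AdicCompletion I A) := AdicCompletion.isAdicComplete hfg
  let E := PsiEquiv I Z A
  let u : (Z →₀ A) →ₗ[A] M := Finsupp.linearCombination A f
  let e : M ≃ₗ[A] AdicCompletion I M := AdicCompletion.ofLinearEquiv I M
  let φ : decaying I Z (AdicCompletion I A) →ₗ[A] M :=
    e.symm.toLinearMap ∘ₗ ((AdicCompletion.map I u).restrictScalars A) ∘ₗ E.symm.toLinearMap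
  refine ⟨φ, ?_, ?_⟩
  · intro z
    change e.symm (AdicCompletion.map I u (E.symm (single I z (1 : AdicCompletion I A)))) = f z
    rw [← PsiEquiv_of_single I Z z, LinearEquiv.symm_apply_apply, AdicCompletion.map_of,
      AdicCompletion.ofLinearEquiv_symm_of]
    simp [u]
  · intro φ' hφ'
    have h1 : φ'.comp E.toLinearMap = φ.comp E.toLinearMap := by
      apply ext_of hfg
      intro y
      induction y using Finsupp.induction_linear with
      | zero => simp
      | add y₁ y₂ h1 h2 => simp only [map_add, h1, h2]
      | single z a =>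
        have : Finsupp.single z a = a • Finsupp.single z (1 : A) := by
          rw [Finsupp.smul_single, smul_eq_mul, mul_one]
        rw [this, map_smul, map_smul, map_smul]
        congr 1
        change φ' (E _) = φ (E _)
        rw [PsiEquiv_of_single, hφ' z]
        change f z = e.symm (AdicCompletion.map I u (E.symm (single I z (1 : AdicCompletion I A))))
        rw [← PsiEquiv_of_single I Z z, LinearEquiv.symm_apply_apply, AdicCompletion.map_of,
          AdicCompletion.ofLinearEquiv_symm_of]
        simp [u]
    apply LinearMap.ext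
    intro g
    have := LinearMap.congr_fun h1 (E.symm g)
    simpa using this


variable {I} in
theorem map_mem_pow_smul_top {P : Type w} {F : Type w'} [AddCommGroup P] [Module A P]
    [AddCommGroup F] [Module A F] (i : P →ₗ[A] F) (n : ℕ) {x : P}
    (hx : x ∈ (I ^ n • ⊤ : Submodule A P)) : i x ∈ (I ^ n • ⊤ : Submodule A F) := by
  have h2 : (I ^ n • ⊤ : Submodule A P).map i ≤ I ^ n • ⊤ := by
    rw [Submodule.map_smul'']
    exact Submodule.smul_mono le_rfl le_top
  exact h2 (Submodule.mem_map_of_mem hx)

/-- A retract of an adically complete module is adically complete. -/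
theorem isAdicComplete_of_retract {P : Type w} {F : Type w'} [AddCommGroup P] [Module A P]
    [AddCommGroup F] [Module A F] [IsAdicComplete I F] (i : P →ₗ[A] F) (r : F →ₗ[A] P)
    (hri : ∀ p, r (i p) = p) : IsAdicComplete I P := by
  have hH : IsHausdorff I P := by
    refine ⟨fun x hx => ?_⟩
    have : i x = 0 := by
      apply IsHausdorff.haus (inferInstance : IsHausdorff I F)
      intro n
      have := hx n
      rw [SModEq.zero] at this ⊢
      exact map_mem_pow_smul_top i n this
    rw [← hri x, this, map_zero]
  refine { toIsHausdorff := hH, prec' := ?_ }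
  intro f hf
  obtain ⟨L, hL⟩ := IsPrecomplete.prec (inferInstance : IsPrecomplete I F)
    (f := fun n => i (f n)) (by
      intro m n hmn
      have := hf hmn
      rw [SModEq.sub_mem] at this ⊢
      rw [← map_sub]
      exact map_mem_pow_smul_top i m this)
  refine ⟨r L, fun n => ?_⟩
  have := hL n
  rw [SModEq.sub_mem] at this ⊢
  have h2 := map_mem_pow_smul_top r n this
  rwa [map_sub, hri] at h2

/-- Adically projective modules are the retracts of modules of decaying functions. -/
theorem isAdicProjective_iff [IsNoetherianRing A] (P : Type u) [AddCommGroup P] [Module A P] :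
    IsAdicProjective I P ↔
      ∃ (Z : Type u) (i : P →ₗ[A] decaying I Z (AdicCompletion I A))
        (r : decaying I Z (AdicCompletion I A) →ₗ[A] P), r ∘ₗ i = LinearMap.id := by
  classical
  have hfg : I.FG := Ideal.fg_of_isNoetherianRing I
  haveI hc : IsAdicComplete I (AdicCompletion I A) := AdicCompletion.isAdicComplete hfg
  have hdec : ∀ Z : Type u, IsAdicComplete I (decaying I Z (AdicCompletion I A)) := fun Z =>
    Groth.Agent.Lib.Helper26.isAdicComplete_decaying I Z _
  constructor
  · rintro ⟨hcomp, hlift⟩
    obtain ⟨π, hπ, -⟩ := existsUnique_linearMap I P P (fun p => p)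
    have hsurj : Function.Surjective π := fun p => ⟨single I p 1, hπ p⟩
    obtain ⟨χ, hχ⟩ := hlift (decaying I P (AdicCompletion I A)) P (hdec P) hcomp π hsurj
      LinearMap.id
    exact ⟨P, χ, π, hχ⟩
  · rintro ⟨Z, i, r, hri⟩
    have hri' : ∀ p, r (i p) = p := fun p => LinearMap.congr_fun hri p
    haveI := hdec Z
    refine ⟨isAdicComplete_of_retract I i r hri', ?_⟩
    intro M N _ _ _ _ hM hN φ hφ ψ
    choose m hm using fun z => hφ (ψ (r (single I z 1)))
    obtain ⟨χ', hχ', -⟩ := existsUnique_linearMap I Z M m
    have h2 : φ ∘ₗ χ' = ψ ∘ₗ r := by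
      obtain ⟨φ0, -, huniq⟩ := existsUnique_linearMap I Z N (fun z => ψ (r (single I z 1)))
      rw [huniq (φ ∘ₗ χ') (fun z => by rw [LinearMap.comp_apply, hχ', hm]),
        huniq (ψ ∘ₗ r) (fun z => rfl)]
    refine ⟨χ' ∘ₗ i, ?_⟩
    rw [← LinearMap.comp_assoc, h2, LinearMap.comp_assoc, hri, LinearMap.comp_id]

end Groth.Agent.Lib.Helper14.AdicUniv
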