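import Mathlib
import Groth.Prelude.Def_W4c5adicflatcomplDec
import Groth.Agent.Lib.Helper26Decaying
import Groth.Agent.Lib.Helper14Decaying2
import Groth.Agent.Lib.Helper14AdicUniv

/-!
# Completed base change of adically free modules
-/

set_option autoImplicit false

open W4c5adicflatcompl
open scoped TensorProduct

universe u v w w'

namespace Groth.Agent.Lib.Helper14.AdicBC

open Groth.Agent.Lib.Helper14.Dec Groth.Agent.Lib.Helper14.AdicUniv

section L1

variable {B : Type u} [CommRing B] (J : Ideal B)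
  {X : Type v} {X' : Type w} [AddCommGroup X] [Module B X] [AddCommGroup X'] [Module B X']

/-- A linear map that is an isomorphism modulo every power of `J` induces a bijection on
completions. -/
theorem map_bijective (u : X →ₗ[B] X')
    (ha : ∀ (n : ℕ) (x : X), u x ∈ (J ^ n • ⊤ : Submodule B X') →
      x ∈ (J ^ n • ⊤ : Submodule B X))
    (hb : ∀ (n : ℕ) (y : X'), ∃ x : X, y - u x ∈ (J ^ n • ⊤ : Submodule B X')) :
    Function.Bijective (AdicCompletion.map J u) := by
  constructor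
  · rw [← LinearMap.ker_eq_bot, LinearMap.ker_eq_bot']
    intro x hx
    apply AdicCompletion.ext
    intro n
    obtain ⟨r, hr⟩ := Submodule.Quotient.mk_surjective _ (x.val n)
    have h1 : (AdicCompletion.map J u x).val n = 0 := by rw [hx]; rfl
    rw [AdicCompletion.map_val_apply, ← hr, LinearMap.reduceModIdeal_apply] at h1
    have h2 : u r ∈ (J ^ n • ⊤ : Submodule B X') := (Submodule.Quotient.mk_eq_zero _).mp h1
    rw [AdicCompletion.val_zero_apply, ← hr, Submodule.Quotient.mk_eq_zero]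
    exact ha n r h2
  · intro y
    obtain ⟨a, rfl⟩ := AdicCompletion.mk_surjective J X' y
    choose r hr using fun n => hb n (a n)
    have hcau : ∀ n, r n ≡ r (n + 1) [SMOD (J ^ n • ⊤ : Submodule B X)] := by
      intro n
      rw [SModEq.sub_mem]
      apply ha
      have h1 : a n - a (n + 1) ∈ (J ^ n • ⊤ : Submodule B X') := by
        rw [← SModEq.sub_mem]
        exact a.2 (Nat.le_succ n)
      have h2 : a (n + 1) - u (r (n + 1)) ∈ (J ^ n • ⊤ : Submodule B X') :=
        Submodule.smul_mono (Ideal.pow_le_pow_right (Nat.le_succ n)) le_rfl (hr (n + 1))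
      have h3 : u (r n - r (n + 1)) =
          (a n - a (n + 1)) + (a (n + 1) - u (r (n + 1))) - (a n - u (r n)) := by
        rw [map_sub]; abel
      rw [h3]
      exact Submodule.sub_mem _ (Submodule.add_mem _ h1 h2) (hr n)
    refine ⟨AdicCompletion.mk J X (AdicCompletion.AdicCauchySequence.mk J X r hcau), ?_⟩
    apply AdicCompletion.ext
    intro n
    rw [AdicCompletion.map_val_apply]
    change LinearMap.reduceModIdeal (J ^ n) u (Submodule.Quotient.mk (r n)) =
      Submodule.Quotient.mk (a n)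
    rw [LinearMap.reduceModIdeal_apply]
    symm
    rw [Submodule.Quotient.eq]
    exact hr n

end L1

section L2

variable {A B : Type u} [CommRing A] [CommRing B] [Algebra A B]
  {I : Ideal A} {J : Ideal B} (hIJ : I.map (algebraMap A B) ≤ J)
  {F : Type v} {P : Type w} [AddCommGroup F] [Module A F] [AddCommGroup P] [Module A P]

include hIJ in
theorem algebraMap_mem_pow (n : ℕ) {a : A} (ha : a ∈ I ^ n) : algebraMap A B a ∈ J ^ n := by
  have h1 : (I ^ n).map (algebraMap A B) ≤ J ^ n := by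
    rw [Ideal.map_pow]
    exact Ideal.pow_right_mono hIJ n
  exact h1 (Ideal.mem_map_of_mem _ ha)

include hIJ in
theorem tmul_mem_pow_smul_top (n : ℕ) (b : B) {q : P}
    (hq : q ∈ (I ^ n • ⊤ : Submodule A P)) :
    b ⊗ₜ[A] q ∈ (J ^ n • ⊤ : Submodule B (B ⊗[A] P)) := by
  refine Submodule.smul_induction_on hq ?_ ?_
  · intro a ha q' _
    have : b ⊗ₜ[A] (a • q') = (algebraMap A B a) • (b ⊗ₜ[A] q') := by
      rw [TensorProduct.tmul_smul, algebraMap_smul]
    rw [this]
    exact Submodule.smul_mem_smul (algebraMap_mem_pow hIJ n ha) Submodule.mem_top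
  · intro q₁ q₂ h1 h2
    rw [TensorProduct.tmul_add]
    exact Submodule.add_mem _ h1 h2

theorem pow_smul_top_quotient_eq_bot {X : Type w'} [AddCommGroup X] [Module B X] (n : ℕ) :
    (J ^ n • ⊤ : Submodule B (X ⧸ (J ^ n • ⊤ : Submodule B X))) = ⊥ := by
  rw [eq_bot_iff]
  intro y hy
  refine Submodule.smul_induction_on hy ?_ ?_
  · intro b hb q _
    obtain ⟨x, rfl⟩ := Submodule.Quotient.mk_surjective _ q
    rw [Submodule.mem_bot, ← Submodule.Quotient.mk_smul, Submodule.Quotient.mk_eq_zero]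
    exact Submodule.smul_mem_smul hb Submodule.mem_top
  · intro y₁ y₂ h1 h2
    exact Submodule.add_mem _ h1 h2

include hIJ in
/-- Base change of a map that is an isomorphism modulo powers of `I` is an isomorphism modulo
powers of `J`. -/
theorem baseChange_levelwise (ι : F →ₗ[A] P) (n : ℕ)
    (σ : P →ₗ[A] F ⧸ (I ^ n • ⊤ : Submodule A F))
    (hσι : ∀ f, σ (ι f) = Submodule.Quotient.mk f)
    (hσker : LinearMap.ker σ ≤ (I ^ n • ⊤ : Submodule A P)) :
    (∀ x : B ⊗[A] F, ι.baseChange B x ∈ (J ^ n • ⊤ : Submodule B (B ⊗[A] P)) →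
      x ∈ (J ^ n • ⊤ : Submodule B (B ⊗[A] F))) ∧
    (∀ y : B ⊗[A] P, ∃ x : B ⊗[A] F,
      y - ι.baseChange B x ∈ (J ^ n • ⊤ : Submodule B (B ⊗[A] P))) := by
  -- the map `F / I^n F → (B ⊗ F) / J^n (B ⊗ F)`
  let τ0 : F →ₗ[A] (B ⊗[A] F) ⧸ (J ^ n • ⊤ : Submodule B (B ⊗[A] F)) :=
    ((Submodule.mkQ (J ^ n • ⊤ : Submodule B (B ⊗[A] F))).restrictScalars A) ∘ₗ
      (TensorProduct.mk A B F 1)
  have hτ0 : (I ^ n • ⊤ : Submodule A F) ≤ LinearMap.ker τ0 := by
    rw [Submodule.smul_le]
    intro a ha f _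
    rw [LinearMap.mem_ker]
    change Submodule.Quotient.mk ((1 : B) ⊗ₜ[A] (a • f)) = 0
    rw [Submodule.Quotient.mk_eq_zero]
    exact tmul_mem_pow_smul_top hIJ n 1 (Submodule.smul_mem_smul ha Submodule.mem_top)
  let τ : (F ⧸ (I ^ n • ⊤ : Submodule A F)) →ₗ[A]
      (B ⊗[A] F) ⧸ (J ^ n • ⊤ : Submodule B (B ⊗[A] F)) :=
    Submodule.liftQ _ τ0 hτ0
  let ρ : B ⊗[A] P →ₗ[B] (B ⊗[A] F) ⧸ (J ^ n • ⊤ : Submodule B (B ⊗[A] F)) :=
    (τ ∘ₗ σ).liftBaseChange B
  have hρu : ∀ x : B ⊗[A] F, ρ (ι.baseChange B x) = Submodule.Quotient.mk x := by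
    intro x
    induction x using TensorProduct.induction_on with
    | zero => simp
    | tmul b f =>
      rw [LinearMap.baseChange_tmul]
      change b • τ (σ (ι f)) = _
      rw [hσι]
      change b • Submodule.Quotient.mk ((1 : B) ⊗ₜ[A] f) = _
      rw [← Submodule.Quotient.mk_smul, TensorProduct.smul_tmul', smul_eq_mul, mul_one]
    | add x y hx hy => rw [map_add, map_add, hx, hy, Submodule.Quotient.mk_add]
  constructor
  · intro x hx
    have h1 := map_mem_pow_smul_top (I := J) ρ n hx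
    rw [pow_smul_top_quotient_eq_bot, Submodule.mem_bot, hρu,
      Submodule.Quotient.mk_eq_zero] at h1
    exact h1
  · intro y
    induction y using TensorProduct.induction_on with
    | zero => exact ⟨0, by simp⟩
    | tmul b p =>
      obtain ⟨f, hf⟩ := Submodule.Quotient.mk_surjective _ (σ p)
      have h1 : p - ι f ∈ LinearMap.ker σ := by
        rw [LinearMap.mem_ker, map_sub, hσι, hf, sub_self]
      refine ⟨b ⊗ₜ[A] f, ?_⟩
      rw [LinearMap.baseChange_tmul, ← TensorProduct.tmul_sub]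
      exact tmul_mem_pow_smul_top hIJ n b (hσker h1)
    | add y₁ y₂ h1 h2 =>
      obtain ⟨x₁, hx₁⟩ := h1
      obtain ⟨x₂, hx₂⟩ := h2
      refine ⟨x₁ + x₂, ?_⟩
      have : y₁ + y₂ - ι.baseChange B (x₁ + x₂) =
          (y₁ - ι.baseChange B x₁) + (y₂ - ι.baseChange B x₂) := by
        rw [map_add]; abel
      rw [this]
      exact Submodule.add_mem _ hx₁ hx₂

end L2


section main

variable {A B : Type u} [CommRing A] [CommRing B] [Algebra A B]
  [IsNoetherianRing A] [IsNoetherianRing B] (I : Ideal A) (J : Ideal B)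

theorem isAdicFree_baseChange (hIJ : I.map (algebraMap A B) ≤ J) (P : Type u) [AddCommGroup P]
    [Module A P] (hP : IsAdicFree I P) :
    IsAdicFree J (AdicCompletion J (B ⊗[A] P)) := by
  classical
  obtain ⟨Z, ⟨eP⟩⟩ := hP
  have hI : I.FG := Ideal.fg_of_isNoetherianRing I
  have hJ : J.FG := Ideal.fg_of_isNoetherianRing J
  haveI hcA : IsAdicComplete I (AdicCompletion I A) := AdicCompletion.isAdicComplete hI
  haveI hcB : IsAdicComplete J (AdicCompletion J B) := AdicCompletion.isAdicComplete hJ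
  let ε : P ≃ₗ[A] AdicCompletion I (Z →₀ A) := eP ≪≫ₗ (PsiEquiv I Z A).symm
  let ι : (Z →₀ A) →ₗ[A] P := ε.symm.toLinearMap ∘ₗ AdicCompletion.of I (Z →₀ A)
  have hlev := fun n : ℕ => baseChange_levelwise (B := B) hIJ ι n
    ((AdicCompletion.eval I (Z →₀ A) n) ∘ₗ ε.toLinearMap)
    (fun f => by
      change AdicCompletion.eval I (Z →₀ A) n (ε (ε.symm (AdicCompletion.of I (Z →₀ A) f))) = _
      rw [LinearEquiv.apply_symm_apply, AdicCompletion.eval_of]
      rfl)
    (fun x hx => by
      have h1 : ε x ∈ LinearMap.ker (AdicCompletion.eval I (Z →₀ A) n) := hx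
      rw [← AdicCompletion.pow_smul_top_eq_ker_eval hI] at h1
      have h2 := map_mem_pow_smul_top ε.symm.toLinearMap n h1
      simpa using h2)
  have hbij := map_bijective J (ι.baseChange B) (fun n => (hlev n).1) (fun n => (hlev n).2)
  let E1 : AdicCompletion J (B ⊗[A] (Z →₀ A)) ≃ₗ[B] AdicCompletion J (B ⊗[A] P) :=
    (LinearEquiv.ofBijective (AdicCompletion.map J (ι.baseChange B)) hbij).restrictScalars B
  let E2 : AdicCompletion J (B ⊗[A] (Z →₀ A)) ≃ₗ[B] AdicCompletion J (Z →₀ B) :=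
    (AdicCompletion.congr J (TensorProduct.finsuppScalarRight A B B Z)).restrictScalars B
  exact ⟨Z, ⟨E1.symm ≪≫ₗ E2 ≪≫ₗ PsiEquiv J Z B⟩⟩

end main

end Groth.Agent.Lib.Helper14.AdicBC
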