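import Groth.Agent.Lib.Helper8LocLES
import Groth.Agent.Lib.Helper8LCDepth

set_option autoImplicit false
universe u
open CategoryTheory CategoryTheory.Limits Opposite

namespace Groth.Agent.Lib.Helper8.LocLES

open Groth.Agent.Lib.Helper8.ExtLES Groth.Agent.Lib.Helper8.LC Groth.Agent.Lib.Helper8.MV
  Groth.Agent.Lib.Helper8.DF Groth.Agent.Lib.Helper8.Acyc

variable {R : Type u} [CommRing R] (b : R)

/-- `b` acts bijectively on `H^j_a(X_b)`. -/
theorem smul_bijective_H_loc (a : Ideal R) (j : ℕ) (X : Type u) [AddCommGroup X] [Module R X] :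
    Function.Bijective (fun y : (localCohomology a j).obj
      (ModuleCat.of R (LocalizedModule (Submonoid.powers b) X)) => b • y) := by
  have hu : IsUnit (algebraMap R (Module.End R (LocalizedModule (Submonoid.powers b) X)) b) :=
    IsLocalizedModule.map_units (LocalizedModule.mkLinearMap (Submonoid.powers b) X)
      ⟨b, Submonoid.mem_powers b⟩
  obtain ⟨u, hu'⟩ := hu
  have hval : u.val = LinearMap.lsmul R (LocalizedModule (Submonoid.powers b) X) b := by
    rw [hu']
    rfl
  have h1 : ∀ y, (localCohomology a j).map (ModuleCat.ofHom u.inv)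
      ((localCohomology a j).map (ModuleCat.ofHom u.val) y) = y := by
    intro y
    rw [← ModuleCat.comp_apply, ← Functor.map_comp, ← ModuleCat.ofHom_comp]
    have h0 : u.inv ∘ₗ u.val = LinearMap.id := u.inv_val
    rw [h0, ModuleCat.ofHom_id, CategoryTheory.Functor.map_id]
    rfl
  have h2 : ∀ y, (localCohomology a j).map (ModuleCat.ofHom u.val)
      ((localCohomology a j).map (ModuleCat.ofHom u.inv) y) = y := by
    intro y
    rw [← ModuleCat.comp_apply, ← Functor.map_comp, ← ModuleCat.ofHom_comp]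
    have h0 : u.val ∘ₗ u.inv = LinearMap.id := u.val_inv
    rw [h0, ModuleCat.ofHom_id, CategoryTheory.Functor.map_id]
    rfl
  have h3 : ∀ y, (localCohomology a j).map (ModuleCat.ofHom u.val) y = b • y := by
    intro y
    rw [hval]
    exact H_map_lsmul a j _ b y
  constructor
  · intro y y' h
    change b • y = b • y' at h
    rw [← h3, ← h3] at h
    have := congrArg ((localCohomology a j).map (ModuleCat.ofHom u.inv)) h
    rwa [h1, h1] at this
  · intro y
    exact ⟨(localCohomology a j).map (ModuleCat.ofHom u.inv) y, by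
      change b • _ = y
      rw [← h3, h2]⟩

theorem pow_smul_bijective_H_loc (a : Ideal R) (j : ℕ) (X : Type u) [AddCommGroup X] [Module R X]
    (n : ℕ) : Function.Bijective (fun y : (localCohomology a j).obj
      (ModuleCat.of R (LocalizedModule (Submonoid.powers b) X)) => b ^ n • y) := by
  induction n with
  | zero =>
    simp only [pow_zero, one_smul]
    exact Function.bijective_id
  | succ n ih =>
    have : (fun y : (localCohomology a j).obj
        (ModuleCat.of R (LocalizedModule (Submonoid.powers b) X)) => b ^ (n + 1) • y) =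
        (fun y => b ^ n • y) ∘ (fun y => b • y) := by
      funext y
      rw [Function.comp_apply, smul_smul, pow_succ]
    rw [this]
    exact ih.comp (smul_bijective_H_loc b a j X)

/-- Elements of `H^i_{a+Rb}` are killed by a power of `b`. -/
theorem exists_pow_smul_eq_zero (a : Ideal R) (i : ℕ) (X : ModuleCat.{u} R)
    (w : (localCohomology (a ⊔ Ideal.span {b}) i).obj X) : ∃ n : ℕ, b ^ n • w = 0 := by
  obtain ⟨n, hn⟩ := isPowerTorsion_H (a ⊔ Ideal.span {b}) i X w
  exact ⟨n, hn _ (Ideal.pow_mem_pow (Ideal.mem_sup_right (Ideal.mem_span_singleton_self b)) n)⟩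

variable [IsNoetherianRing R]

theorem les_exact (a : Ideal R) (i : ℕ) (X : ModuleCat.{u} R) :
    Function.Exact ((Dual2.HmapOfLE (le_sup_left : a ≤ a ⊔ Ideal.span {b}) i).app X).hom
      ((localCohomology a i).map (mkb b X)).hom := (les b a i X).1

theorem les_δ (a : Ideal R) (i : ℕ) (X : ModuleCat.{u} R) :
    ∃ δ : (localCohomology a i).obj (Lb b X) →ₗ[R]
        (localCohomology (a ⊔ Ideal.span {b}) (i + 1)).obj X,
      Function.Exact ((localCohomology a i).map (mkb b X)).hom δ ∧
      Function.Exact δ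
        ((Dual2.HmapOfLE (le_sup_left : a ≤ a ⊔ Ideal.span {b}) (i + 1)).app X).hom :=
  (les b a i X).2

/-- The kernel of `H^i_a(X) → H^i_a(X_b)` is the `b`-power torsion. -/
theorem d_eq_zero_iff (a : Ideal R) (i : ℕ) (X : Type u) [AddCommGroup X] [Module R X]
    (x : (localCohomology a i).obj (ModuleCat.of R X)) :
    (localCohomology a i).map (ModuleCat.ofHom
      (LocalizedModule.mkLinearMap (Submonoid.powers b) X)) x = 0 ↔ ∃ n : ℕ, b ^ n • x = 0 := by
  have hA := les_exact b a i (ModuleCat.of R X)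
  constructor
  · intro hx
    obtain ⟨w, rfl⟩ := (hA x).mp hx
    obtain ⟨n, hn⟩ := exists_pow_smul_eq_zero b a i (ModuleCat.of R X) w
    refine ⟨n, ?_⟩
    rw [← map_smul, hn, map_zero]
  · rintro ⟨n, hn⟩
    apply (pow_smul_bijective_H_loc b a i X n).1
    change b ^ n • _ = b ^ n • 0
    rw [← map_smul, hn, map_zero, smul_zero]

/-- The image of `H^i_{a+Rb}(X) → H^i_a(X)` is the `b`-power torsion. -/
theorem mem_range_p_iff (a : Ideal R) (i : ℕ) (X : Type u) [AddCommGroup X] [Module R X]
    (x : (localCohomology a i).obj (ModuleCat.of R X)) :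
    x ∈ LinearMap.range ((Dual2.HmapOfLE (le_sup_left : a ≤ a ⊔ Ideal.span {b}) i).app
      (ModuleCat.of R X)).hom ↔ ∃ n : ℕ, b ^ n • x = 0 := by
  rw [← d_eq_zero_iff]
  exact (les_exact b a i (ModuleCat.of R X) x).symm

/-- `H^i_a(X) → H^i_a(X_b)` is the localization at `b`. -/
theorem isLocalizedModule_d (a : Ideal R) (i : ℕ) (X : Type u) [AddCommGroup X] [Module R X] :
    IsLocalizedModule (Submonoid.powers b) ((localCohomology a i).map (ModuleCat.ofHom
      (LocalizedModule.mkLinearMap (Submonoid.powers b) X))).hom where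
  map_units := by
    rintro ⟨_, n, rfl⟩
    rw [Module.End.isUnit_iff]
    exact pow_smul_bijective_H_loc b a i X n
  surj := by
    intro y
    obtain ⟨δ, hδ1, hδ2⟩ := les_δ b a i (ModuleCat.of R X)
    obtain ⟨n, hn⟩ := exists_pow_smul_eq_zero b a (i + 1) (ModuleCat.of R X) (δ y)
    rw [← map_smul] at hn
    obtain ⟨x, hx⟩ := (hδ1 _).mp hn
    exact ⟨(x, ⟨b ^ n, n, rfl⟩), hx.symm⟩
  exists_of_eq := by
    intro x₁ x₂ h
    have h0 : (localCohomology a i).map (ModuleCat.ofHom
        (LocalizedModule.mkLinearMap (Submonoid.powers b) X)) (x₁ - x₂) = 0 := by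
      rw [map_sub, sub_eq_zero]
      exact h
    obtain ⟨n, hn⟩ := (d_eq_zero_iff b a i X _).mp h0
    refine ⟨⟨b ^ n, n, rfl⟩, ?_⟩
    rw [smul_sub, sub_eq_zero] at hn
    exact hn

/-- The kernel of `H^{i+1}_{a+Rb}(X) → H^{i+1}_a(X)` is the cokernel of `H^i_a(X) → H^i_a(X_b)`. -/
theorem nonempty_coker_equiv_ker (a : Ideal R) (i : ℕ) (X : Type u) [AddCommGroup X]
    [Module R X] :
    Nonempty (((localCohomology a i).obj (ModuleCat.of R (LocalizedModule (Submonoid.powers b) X)) ⧸
      LinearMap.range ((localCohomology a i).map (ModuleCat.ofHom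
        (LocalizedModule.mkLinearMap (Submonoid.powers b) X))).hom) ≃ₗ[R]
      LinearMap.ker ((Dual2.HmapOfLE (le_sup_left : a ≤ (a ⊔ Ideal.span {b})) (i + 1)).app
        (ModuleCat.of R X)).hom) := by
  obtain ⟨δ, hδ1, hδ2⟩ := les_δ b a i (ModuleCat.of R X)
  have h1 : LinearMap.ker δ = LinearMap.range ((localCohomology a i).map (ModuleCat.ofHom
      (LocalizedModule.mkLinearMap (Submonoid.powers b) X))).hom := LinearMap.exact_iff.mp hδ1
  have h2 : LinearMap.ker ((Dual2.HmapOfLE (le_sup_left : a ≤ (a ⊔ Ideal.span {b}))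
      (i + 1)).app (ModuleCat.of R X)).hom = LinearMap.range δ := LinearMap.exact_iff.mp hδ2
  exact ⟨(Submodule.quotEquivOfEq _ _ h1.symm).trans
    ((LinearMap.quotKerEquivRange δ).trans (LinearEquiv.ofEq _ _ h2.symm))⟩

/-- If `H^i_a(X_b) = 0` then `H^i_{a+Rb}(X) → H^i_a(X)` is onto. -/
theorem p_surjective_of_vanish (a : Ideal R) (i : ℕ) (X : Type u) [AddCommGroup X] [Module R X]
    (h : ∀ y : (localCohomology a i).obj
      (ModuleCat.of R (LocalizedModule (Submonoid.powers b) X)), y = 0) :
    Function.Surjective ((Dual2.HmapOfLE (le_sup_left : a ≤ a ⊔ Ideal.span {b}) i).app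
      (ModuleCat.of R X)).hom := by
  intro x
  exact (les_exact b a i (ModuleCat.of R X) x).mp (h _)

end Groth.Agent.Lib.Helper8.LocLES
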