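import Mathlib
import Groth.Agent.Lib.Helper8LocLES2

/-! # Comparison of local cohomology with respect to two ideals (helper14)

For ideals `𝔟 ≤ 𝔞` of a Noetherian ring, the map `H^i_𝔞(M) → H^i_𝔟(M)` is bijective for `i ≤ s`
as soon as `H^i_𝔭(M)` vanishes locally at `𝔭` for `i ≤ s` and all primes `𝔭 ∈ V(𝔟) ∖ V(𝔞)`. -/

set_option autoImplicit false
set_option linter.unusedVariables false
set_option linter.unusedSectionVars false
set_option linter.style.haveILetI false
set_option maxHeartbeats 400000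

universe u

open CategoryTheory CategoryTheory.Limits Opposite

namespace Groth.Agent.Lib.Helper14.Algz

open Groth.Agent.Lib.Helper8.ExtLES Groth.Agent.Lib.Helper8.LC Groth.Agent.Lib.Helper8.MV
  Groth.Agent.Lib.Helper8.LocLES

variable {R : Type u} [CommRing R]

/-- the comparison map for `I ≤ I` is the identity -/
theorem HmapOfLE_refl (I : Ideal R) (i : ℕ) (M : ModuleCat.{u} R)
    (x : (localCohomology I i).obj M) :
    ((Dual2.HmapOfLE (le_refl I) i).app M).hom x = x := by
  obtain ⟨k, y, rfl⟩ := exists_rep I i M x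
  rw [HmapOfLE_cls]
  have e : qm (le_refl I) k = 𝟙 (Xk I k) := by
    apply ModuleCat.hom_ext
    apply Submodule.linearMap_qext
    apply LinearMap.ext_ring
    rfl
  rw [e]
  have e2 : Epre i (𝟙 (Xk I k)) M = 𝟙 _ := by
    change ((Ext R (ModuleCat.{u} R) i).map (𝟙 (Xk I k)).op).app M = 𝟙 _
    rw [op_id, CategoryTheory.Functor.map_id]
    rfl
  rw [e2]
  rfl

theorem HmapOfLE_bijective_of_eq {I I' : Ideal R} (h : I ≤ I') (e : I = I') (i : ℕ)
    (M : ModuleCat.{u} R) : Function.Bijective ((Dual2.HmapOfLE h i).app M).hom := by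
  subst e
  have : (((Dual2.HmapOfLE h i).app M).hom : _ → _) = id := by
    funext x
    exact HmapOfLE_refl I i M x
  rw [this]
  exact Function.bijective_id

theorem HmapOfLE_bijective_congr {I I' I'' : Ideal R} (h : I ≤ I') (h'' : I ≤ I'') (e : I' = I'')
    (i : ℕ) (M : ModuleCat.{u} R) :
    Function.Bijective ((Dual2.HmapOfLE h i).app M).hom ↔
      Function.Bijective ((Dual2.HmapOfLE h'' i).app M).hom := by
  subst e
  exact Iff.rfl

theorem HmapOfLE_bijective_comp {I I' I'' : Ideal R} (h : I ≤ I') (h' : I' ≤ I'') (i : ℕ)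
    (M : ModuleCat.{u} R) (h1 : Function.Bijective ((Dual2.HmapOfLE h i).app M).hom)
    (h2 : Function.Bijective ((Dual2.HmapOfLE h' i).app M).hom) :
    Function.Bijective ((Dual2.HmapOfLE (h.trans h') i).app M).hom := by
  have : (((Dual2.HmapOfLE (h.trans h') i).app M).hom : _ → _) =
      (((Dual2.HmapOfLE h i).app M).hom : _ → _) ∘ (((Dual2.HmapOfLE h' i).app M).hom : _ → _) := by
    funext x
    exact (HmapOfLE_comp h h' i M x).symm
  rw [this]
  exact h1.comp h2

/-- `H^i_𝔭(M)` vanishes locally at `𝔭` for `i ≤ s` -/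
def LocVanAt (p : Ideal R) (s : ℕ) (M : Type u) [AddCommGroup M] [Module R M] : Prop :=
  ∀ i : ℕ, i ≤ s → ∀ z : (localCohomology p i).obj (ModuleCat.of R M),
    ∃ t : R, t ∉ p ∧ t • z = 0

/-- If `H^i_𝔭(M)` vanishes locally at `𝔭` for `i ≤ s` and all primes `𝔭 ∈ V(𝔠) ∩ D(b)`, then
every element of `H^i_𝔠(M)`, `i ≤ s`, is killed by a power of `b`. -/
theorem pow_torsion_of_locVan [IsNoetherianRing R] (M : Type u) [AddCommGroup M] [Module R M]
    (b : R) (s : ℕ) : ∀ c : Ideal R,
      (∀ p : Ideal R, p.IsPrime → c ≤ p → b ∉ p → LocVanAt p s M) →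
      ∀ i : ℕ, i ≤ s → ∀ z : (localCohomology c i).obj (ModuleCat.of R M),
        ∃ n : ℕ, b ^ n • z = 0 := by
  intro c
  induction c using WellFoundedGT.induction with
  | ind c ih =>
  intro hyp i hi z
  by_contra hz
  push Not at hz
  have fact1 : ∀ x : R, x ∉ c → ∀ z' : (localCohomology c i).obj (ModuleCat.of R M),
      (∀ n, b ^ n • z' ≠ 0) → ∀ m, x ^ m • z' ≠ 0 := by
    intro x hx z' hz' m hm
    have hmem := (mem_range_p_iff x c i M z').mpr ⟨m, hm⟩
    obtain ⟨w, rfl⟩ := hmem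
    have hlt : c < c ⊔ Ideal.span {x} := by
      refine lt_of_le_of_ne le_sup_left ?_
      intro heq
      apply hx
      rw [heq]
      exact Ideal.mem_sup_right (Ideal.mem_span_singleton_self x)
    obtain ⟨n, hn⟩ := ih _ hlt (fun p hp hcp hbp => hyp p hp (le_trans le_sup_left hcp) hbp) i hi w
    apply hz' n
    rw [← map_smul, hn, map_zero]
  have fact1' : ∀ x : R, x ∉ c → ∀ z' : (localCohomology c i).obj (ModuleCat.of R M),
      (∀ n, b ^ n • z' ≠ 0) → ∀ m n, b ^ n • (x ^ m • z') ≠ 0 := by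
    intro x hx z' hz' m n
    rw [smul_comm]
    refine fact1 x hx (b ^ n • z') (fun k => ?_) m
    rw [smul_smul, ← pow_add]
    exact hz' _
  obtain ⟨k, hk⟩ := isPowerTorsion_H c i (ModuleCat.of R M) z
  have hb : b ∉ c := fun hbc => hz k (hk _ (Ideal.pow_mem_pow hbc k))
  have hprime : c.IsPrime := by
    refine ⟨?_, ?_⟩
    · intro htop
      apply hz 0
      rw [pow_zero]
      exact hk 1 (by rw [htop, Ideal.top_pow]; trivial)
    · intro x y hxy
      by_contra hcon
      push Not at hcon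
      have h1 := fact1' y hcon.2 z hz k
      have h2 := fact1 x hcon.1 (y ^ k • z) h1 k
      apply h2
      rw [smul_smul, ← mul_pow]
      exact hk _ (Ideal.pow_mem_pow hxy k)
  obtain ⟨t, ht, htz⟩ := hyp c hprime le_rfl hb i hi z
  exact fact1 t ht z hz 1 (by rwa [pow_one])

/-- adding one generator: if `H^i_𝔠(M)` is `b`-power torsion for `i ≤ s` then
`H^i_{𝔠 + (b)}(M) → H^i_𝔠(M)` is bijective for `i ≤ s` -/
theorem one_step [IsNoetherianRing R] (M : Type u) [AddCommGroup M] [Module R M]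
    (b : R) (c : Ideal R) (s : ℕ)
    (htors : ∀ i : ℕ, i ≤ s → ∀ z : (localCohomology c i).obj (ModuleCat.of R M),
      ∃ n : ℕ, b ^ n • z = 0) :
    ∀ i : ℕ, i ≤ s → Function.Bijective
      ((Dual2.HmapOfLE (le_sup_left : c ≤ c ⊔ Ideal.span {b}) i).app (ModuleCat.of R M)).hom := by
  intro i hi
  constructor
  · cases i with
    | zero => exact p_zero_injective b c (ModuleCat.of R M)
    | succ j =>
      obtain ⟨δ, hδ1, hδ2⟩ := les_δ b c j (ModuleCat.of R M)
      have hzero : ∀ y : (localCohomology c j).obj (Lb b (ModuleCat.of R M)), y = 0 := by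
        intro y
        obtain ⟨⟨x, ⟨_, n, rfl⟩⟩, hx⟩ := (isLocalizedModule_d b c j M).surj y
        obtain ⟨m, hm⟩ := htors j (by omega) x
        have hdx := (d_eq_zero_iff b c j M x).mpr ⟨m, hm⟩
        have h0 : b ^ n • y = 0 := by
          have := hx
          simp only [Submonoid.smul_def] at this
          rw [this]
          exact hdx
        apply (pow_smul_bijective_H_loc b c j M n).1
        change b ^ n • y = b ^ n • 0
        rw [h0, smul_zero]
      intro w w' hww'
      have h0 : ((Dual2.HmapOfLE (le_sup_left : c ≤ c ⊔ Ideal.span {b}) (j + 1)).app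
          (ModuleCat.of R M)).hom (w - w') = 0 := by
        rw [map_sub, hww', sub_self]
      obtain ⟨y, hy⟩ := (hδ2 _).mp h0
      rw [hzero y, map_zero] at hy
      exact sub_eq_zero.mp hy.symm
  · intro x
    obtain ⟨n, hn⟩ := htors i hi x
    exact (mem_range_p_iff b c i M x).mpr ⟨n, hn⟩

/-- **Comparison theorem.** -/
theorem comparison [IsNoetherianRing R] (M : Type u) [AddCommGroup M] [Module R M] (s : ℕ)
    (𝔟 𝔞 : Ideal R) (h : 𝔟 ≤ 𝔞)
    (hyp : ∀ p : Ideal R, p.IsPrime → 𝔟 ≤ p → ¬ 𝔞 ≤ p → LocVanAt p s M) :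
    ∀ i : ℕ, i ≤ s → Function.Bijective ((Dual2.HmapOfLE h i).app (ModuleCat.of R M)).hom := by
  have key : ∀ N : Ideal R, N.FG → N ≤ 𝔞 → ∀ c : Ideal R, 𝔟 ≤ c → ∀ i : ℕ, i ≤ s →
      Function.Bijective
        ((Dual2.HmapOfLE (le_sup_left : c ≤ c ⊔ N) i).app (ModuleCat.of R M)).hom := by
    intro N hN
    refine Submodule.fg_induction (R := R) (M := R)
      (motive := fun (N : Ideal R) _ => N ≤ 𝔞 → ∀ c : Ideal R, 𝔟 ≤ c →
      ∀ i : ℕ, i ≤ s → Function.Bijective
        ((Dual2.HmapOfLE (le_sup_left : c ≤ c ⊔ N) i).app (ModuleCat.of R M)).hom) ?_ ?_ N hN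
    · intro x hx c hc i hi
      have hx𝔞 : x ∈ 𝔞 := hx (Submodule.mem_span_singleton_self x)
      have htors := pow_torsion_of_locVan M x s c
        (fun p hp hcp hxp => hyp p hp (hc.trans hcp) (fun h𝔞p => hxp (h𝔞p hx𝔞)))
      exact one_step M x c s htors i hi
    · intro N₁ N₂ _ _ h1 h2 hle c hc i hi
      have hN₁ : N₁ ≤ 𝔞 := le_sup_left.trans hle
      have hN₂ : N₂ ≤ 𝔞 := le_sup_right.trans hle
      have b1 := h1 hN₁ c hc i hi
      have b2 := h2 hN₂ (c ⊔ N₁) (hc.trans le_sup_left) i hi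
      have b3 := HmapOfLE_bijective_comp _ _ i (ModuleCat.of R M) b1 b2
      exact (HmapOfLE_bijective_congr _ _ (sup_assoc c N₁ N₂) i (ModuleCat.of R M)).mp b3
  intro i hi
  have b := key 𝔞 (IsNoetherian.noetherian 𝔞) le_rfl 𝔟 le_rfl i hi
  exact (HmapOfLE_bijective_congr _ h (sup_eq_right.mpr h) i (ModuleCat.of R M)).mp b

end Groth.Agent.Lib.Helper14.Algz
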