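import Mathlib
import Groth.Agent.Lib.Helper14HDTG

/-! # Finiteness of `H^i_T(K)` is equivalent to annihilation by an ideal with `V(J) ⊆ T`
(helper14) -/

set_option autoImplicit false
set_option linter.unusedVariables false
set_option linter.unusedSectionVars false
set_option linter.style.haveILetI false
set_option maxHeartbeats 400000

universe u

open CategoryTheory CategoryTheory.Limits Opposite DerivedCategory Pretriangulated

attribute [local instance] HasDerivedCategory.standard

namespace Groth.Agent.Lib.Helper14.HDT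

open Groth.Agent.Lib.Helper17.Hyp Groth.Agent.S14388

variable {A : Type u} [CommRing A] (T : Set (PrimeSpectrum A))

/-- every element of `FT T K` is killed by an ideal with zero locus in `T` -/
lemma torsT_FT_eq_top (K : Dual.D A) : torsT T (FT T K) = ⊤ := by
  rw [eq_top_iff]
  intro z _
  obtain ⟨X, x, rfl⟩ := exists_rep T K z
  refine ⟨X.obj, X.property, fun b hb => ?_⟩
  rw [← map_smul]
  have h1 : b • 𝟙 (ModuleCat.of A (A ⧸ X.obj)) = 0 := by
    apply ModuleCat.hom_ext
    apply LinearMap.ext
    intro q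
    obtain ⟨c, rfl⟩ := Submodule.Quotient.mk_surjective _ q
    show b • (Submodule.Quotient.mk c : A ⧸ X.obj) = 0
    rw [← Submodule.Quotient.mk_smul, Submodule.Quotient.mk_eq_zero]
    exact X.obj.mul_mem_right c hb
  have h2 : b • 𝟙 (NJ X.obj) = 0 := by
    rw [← CategoryTheory.Functor.map_id, ← Functor.map_smul, h1, Functor.map_zero]
  have h3 : b • x = 0 := by
    rw [← Category.id_comp x, ← Linear.smul_comp, h2, zero_comp]
  rw [h3, map_zero]

variable [IsNoetherianRing A]

/-- a finite `FT T K` is killed by an ideal with zero locus in `T` -/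
lemma exists_ideal_of_finite (K : Dual.D A) (h : Module.Finite A (FT T K)) :
    ∃ J : Ideal A, PrimeSpectrum.zeroLocus (J : Set A) ⊆ T ∧ ∀ x ∈ J, ∀ z : FT T K, x • z = 0 := by
  haveI : IsNoetherian A (FT T K) := isNoetherian_of_isNoetherianRing_of_finite A _
  obtain ⟨J, hJ, h0⟩ := exists_ideal_torsT T (M := FT T K)
  exact ⟨J, hJ, fun x hx z => h0 z (torsT_FT_eq_top T K ▸ Submodule.mem_top) x hx⟩

variable (hT : StableUnderSpecialization T)

include hT in
/-- the main theorem, in terms of `FT` -/
theorem finite_iff_ann (K : Dual.D A) (a : ℤ)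
    (hKa : ∀ i : ℤ, i < a → Subsingleton (Dual.HD A K i))
    (hK : ∀ i : ℤ, Module.Finite A (Dual.HD A K i)) (n : ℤ) :
    (∀ i : ℤ, i ≤ n → Module.Finite A (FT T (K⟦i⟧))) ↔
      ∃ J : Ideal A, PrimeSpectrum.zeroLocus (J : Set A) ⊆ T ∧
        ∀ i : ℤ, i ≤ n → ∀ x : A, x ∈ J → ∀ y : FT T (K⟦i⟧), x • y = 0 := by
  haveI hKGE : K.IsGE a := by
    rw [isGE_iff]
    intro i hi
    haveI := hKa i hi
    exact ModuleCat.isZero_of_subsingleton _
  constructor
  · intro hfin
    have key : ∀ k : ℕ, ∃ J : Ideal A, PrimeSpectrum.zeroLocus (J : Set A) ⊆ T ∧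
        ∀ i : ℤ, i < a + k → i ≤ n → ∀ x : A, x ∈ J → ∀ y : FT T (K⟦i⟧), x • y = 0 := by
      intro k
      induction k with
      | zero =>
        refine ⟨⊤, zeroLocus_top_subset T, fun i hi _ x _ y => ?_⟩
        haveI : (K⟦i⟧).IsGE (a - i) := tt.isGE_shift K a i (a - i) (by omega)
        haveI := subsingleton_FT_of_isGE T (K⟦i⟧) (a - i) (by
          have : i < a + 0 := by exact_mod_cast hi
          omega)
        exact Subsingleton.elim _ _
      | succ k ih =>
        obtain ⟨J, hJ, hJk⟩ := ih
        by_cases hk : a + (k : ℤ) ≤ n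
        · obtain ⟨J', hJ', hJ'k⟩ := exists_ideal_of_finite T (K⟦a + (k : ℤ)⟧) (hfin _ hk)
          refine ⟨J ⊓ J', zeroLocus_inf_subset T hJ hJ', fun i hi hin x hx y => ?_⟩
          by_cases hik : i = a + (k : ℤ)
          · subst hik
            exact hJ'k x hx.2 y
          · exact hJk i (by push_cast at hi; omega) hin x hx.1 y
        · refine ⟨J, hJ, fun i hi hin x hx y => ?_⟩
          exact hJk i (by omega) hin x hx y
    obtain ⟨J, hJ, hJk⟩ := key (n - a + 1).toNat
    refine ⟨J, hJ, fun i hi => hJk i ?_ hi⟩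
    have := Int.self_le_toNat (n - a + 1)
    omega
  · rintro ⟨J, hJ, hann⟩
    haveI hL0 : (K⟦a⟧).IsGE 0 := tt.isGE_shift K a a 0 (by omega)
    have hLfin : ∀ i : ℤ, Module.Finite A ((homologyFunctor (ModuleCat.{u} A) i).obj (K⟦a⟧)) := by
      intro i
      let e : (homologyFunctor (ModuleCat.{u} A) i).obj (K⟦a⟧) ≅
          (homologyFunctor (ModuleCat.{u} A) (a + i)).obj K :=
        ((homologyFunctor (ModuleCat.{u} A) 0).shiftIso a i (a + i) rfl).app K
      haveI := hK (a + i)
      exact Module.Finite.equiv e.symm.toLinearEquiv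
    have hannL : ∀ j : ℤ, j ≤ n - a → ∀ x ∈ J, ∀ z : FT T ((K⟦a⟧)⟦j⟧), x • z = 0 := by
      intro j hj x hx z
      have h1 := hann (a + j) (by omega) x hx (shiftEquiv T K a j (a + j) rfl z)
      rw [← map_smul] at h1
      exact (shiftEquiv T K a j (a + j) rfl).injective (h1.trans (map_zero _).symm)
    have hm : n - a < ((n - a + 1).toNat : ℤ) := by
      have := Int.self_le_toNat (n - a + 1)
      omega
    have hmain := finite_of_ann T hT (n - a + 1).toNat (K⟦a⟧) hLfin (n - a) hm J hJ hannL
    intro i hi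
    haveI := hmain (i - a) (by omega)
    exact Module.Finite.equiv (shiftEquiv T K a (i - a) i (by ring))

end Groth.Agent.Lib.Helper14.HDT
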