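import Mathlib
import Groth.Agent.Lib.Helper14HDTH

/-! # Comparison of `Dual2.HT T i M` with `colim_J Hom_{D(A)}(A/J, M[i])` (helper14) -/

set_option autoImplicit false
set_option linter.unusedVariables false
set_option linter.unusedSectionVars false
set_option linter.style.haveILetI false
set_option maxHeartbeats 400000

universe u

open CategoryTheory CategoryTheory.Limits Opposite DerivedCategory Pretriangulated
  CategoryTheory.Abelian

attribute [local instance] HasDerivedCategory.standard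

namespace Groth.Agent.Lib.Helper14.HDT

open Groth.Agent.Lib.Helper8.ExtLES Groth.Agent.Lib.Helper8.Bridge

variable {A : Type u} [CommRing A] (T : Set (PrimeSpectrum A)) (i : ℕ) (M : ModuleCat.{u} A)

/-- The diagram defining local cohomology with supports in `T`. -/
noncomputable abbrev lcDiagramT : (Dual2.IdealsIn T)ᵒᵖ ⥤ ModuleCat.{u} A ⥤ ModuleCat.{u} A :=
  localCohomology.diagram (Dual2.idealsInDiagram T) i

instance : HasColimit (lcDiagramT T i) := localCohomology.hasColimitDiagram.{u, u} _ _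

example : localCohomology.ofDiagram.{u, u} (Dual2.idealsInDiagram T) i = colimit (lcDiagramT T i) :=
  rfl

/-- `A ⧸ J` as an object. -/
noncomputable abbrev XJ (J : Ideal A) : ModuleCat.{u} A := ModuleCat.of A (A ⧸ J)

/-- The evaluated diagram. -/
noncomputable abbrev evalDiagramT : (Dual2.IdealsIn T)ᵒᵖ ⥤ ModuleCat.{u} A :=
  lcDiagramT T i ⋙ (evaluation _ _).obj M

noncomputable def evalCoconeT : Cocone (evalDiagramT T i M) :=
  ((evaluation _ _).obj M).mapCocone (colimit.cocone (lcDiagramT T i))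

noncomputable def evalIsColimitT : IsColimit (evalCoconeT T i M) :=
  isColimitOfPreserves ((evaluation _ _).obj M) (colimit.isColimit (lcDiagramT T i))

example : (evalCoconeT T i M).pt =
    (localCohomology.ofDiagram.{u, u} (Dual2.idealsInDiagram T) i).obj M := rfl
example (X : Dual2.IdealsIn T) : (evalDiagramT T i M).obj (op X) = E i (XJ X.obj) M := rfl

instance : PreservesColimitsOfShape (Dual2.IdealsIn T)ᵒᵖ (forget (ModuleCat.{u} A)) :=
  PreservesFilteredColimitsOfSize.preserves_filtered_colimits (Dual2.IdealsIn T)ᵒᵖ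

/-- The class map `Ext^i(A/J, M) ⟶ H^i_T(M)`. -/
noncomputable def clsT (X : Dual2.IdealsIn T) : E i (XJ X.obj) M ⟶
    (localCohomology.ofDiagram.{u, u} (Dual2.idealsInDiagram T) i).obj M :=
  (colimit.ι (lcDiagramT T i) (op X)).app M

theorem evalDiagramT_map {X Y : Dual2.IdealsIn T} (h : X.obj ≤ Y.obj) :
    (evalDiagramT T i M).map (homI T h).op = Epre i (qM h) M := rfl

theorem clsT_restrict {X Y : Dual2.IdealsIn T} (h : X.obj ≤ Y.obj) (x : E i (XJ Y.obj) M) :
    clsT T i M X (Epre i (qM h) M x) = clsT T i M Y x := by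
  have := (evalCoconeT T i M).w (homI T h).op
  have h2 := congrArg (fun φ => φ.hom x) this
  exact h2

theorem exists_repT (x : (localCohomology.ofDiagram.{u, u} (Dual2.idealsInDiagram T) i).obj M) :
    ∃ (X : Dual2.IdealsIn T) (y : E i (XJ X.obj) M), clsT T i M X y = x := by
  obtain ⟨j, y, hy⟩ := Concrete.isColimit_exists_rep (evalDiagramT T i M) (evalIsColimitT T i M) x
  exact ⟨j.unop, y, hy⟩

theorem clsT_eq_zero_iff {X : Dual2.IdealsIn T} (x : E i (XJ X.obj) M) :
    clsT T i M X x = 0 ↔ ∃ (Y : Dual2.IdealsIn T) (h : Y.obj ≤ X.obj), Epre i (qM h) M x = 0 := by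
  constructor
  · intro h
    have h0 : clsT T i M X x = clsT T i M X 0 := by rw [h, map_zero]
    obtain ⟨m, a, b, hab⟩ := (Concrete.isColimit_rep_eq_iff_exists (C := ModuleCat.{u} A)
      (evalDiagramT T i M) (i := op X) (j := op X) (evalIsColimitT T i M) x 0).mp h0
    have hle : m.unop.obj ≤ X.obj := le_of_homI T a.unop
    refine ⟨m.unop, hle, ?_⟩
    have ha : a = (homI T hle).op := Subsingleton.elim _ _
    rw [ha] at hab
    have hab' : (Epre i (qM hle) M).hom x = ((evalDiagramT T i M).map b).hom 0 := hab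
    rw [map_zero] at hab'
    exact hab'
  · rintro ⟨Y, h, hx⟩
    rw [← clsT_restrict T i M h, hx, map_zero]

section Compare

/-- `M[i]` in `D(A)` -/
noncomputable abbrev KM : Dual.D A :=
  ((singleFunctor (ModuleCat.{u} A) 0).obj M)⟦(i : ℤ)⟧

/-- `H^i_T(M)` -/
noncomputable abbrev HTM : ModuleCat.{u} A :=
  (localCohomology.ofDiagram.{u, u} (Dual2.idealsInDiagram T) i).obj M

/-- `Ext^i(A/J, M) ≃ Hom_{D(A)}(A/J, M[i])` -/
noncomputable def φJ (J : Ideal A) : E i (XJ J) M ≃ₗ[A] (NJ J ⟶ KM i M) :=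
  (Ψ i (XJ J) M).trans (Ext.homLinearEquiv (R := A))

lemma φJ_apply (J : Ideal A) (y : E i (XJ J) M) : φJ i M J y = (Ψ i (XJ J) M y).hom := rfl

lemma φJ_Epre {J' J : Ideal A} (h : J' ≤ J) (y : E i (XJ J) M) :
    φJ i M J' ((Epre i (qM h) M).hom y) = qD h ≫ φJ i M J y := by
  rw [φJ_apply, φJ_apply, Ψ_Epre, Ext.comp_hom, Ext.mk₀_hom, ShiftedHom.mk₀_comp]
  rfl

lemma φJ_symm_qD {J' J : Ideal A} (h : J' ≤ J) (x : NJ J ⟶ KM i M) :
    (φJ i M J').symm (qD h ≫ x) = (Epre i (qM h) M).hom ((φJ i M J).symm x) := by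
  apply (φJ i M J').injective
  rw [LinearEquiv.apply_symm_apply, φJ_Epre, LinearEquiv.apply_symm_apply]

/-- the legs of the comparison cocone -/
noncomputable def leg (X : Dual2.IdealsIn T) : (NJ X.obj ⟶ KM i M) →ₗ[A] ULift.{u + 1} (HTM T i M) :=
  ULift.moduleEquiv.symm.toLinearMap ∘ₗ (clsT T i M X).hom ∘ₗ (φJ i M X.obj).symm.toLinearMap

lemma leg_apply (X : Dual2.IdealsIn T) (x : NJ X.obj ⟶ KM i M) :
    (leg T i M X x).down = (clsT T i M X).hom ((φJ i M X.obj).symm x) := rfl

lemma leg_qD {X Y : Dual2.IdealsIn T} (h : X.obj ≤ Y.obj) (x : NJ Y.obj ⟶ KM i M) :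
    leg T i M X (qD h ≫ x) = leg T i M Y x := by
  apply ULift.ext
  rw [leg_apply, leg_apply, φJ_symm_qD]
  exact clsT_restrict T i M h _

/-- the comparison cocone -/
noncomputable def compCocone : Cocone (Fd T (KM i M)) where
  pt := ModuleCat.of A (ULift.{u + 1} (HTM T i M))
  ι :=
    { app := fun j => ModuleCat.ofHom (leg T i M j.unop)
      naturality := by
        intro j j' a
        have hle : j'.unop.obj ≤ j.unop.obj := le_of_homI T a.unop
        have ha : a = (homI T hle).op := Subsingleton.elim _ _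
        subst ha
        apply ModuleCat.hom_ext
        apply LinearMap.ext
        intro x
        exact leg_qD T i M hle x }

/-- the comparison map -/
noncomputable def Θ : FT T (KM i M) ⟶ ModuleCat.of A (ULift.{u + 1} (HTM T i M)) :=
  colimit.desc (Fd T (KM i M)) (compCocone T i M)

lemma Θ_ι (X : Dual2.IdealsIn T) (x : NJ X.obj ⟶ KM i M) :
    (Θ T i M).hom (ι T (KM i M) X x) = leg T i M X x := by
  have := colimit.ι_desc (compCocone T i M) (op X)
  exact congrArg (fun g => g.hom x) this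

lemma Θ_bijective : Function.Bijective (Θ T i M).hom := by
  constructor
  · rw [injective_iff_map_eq_zero]
    intro z hz
    obtain ⟨X, x, rfl⟩ := exists_rep T _ z
    rw [Θ_ι] at hz
    have h1 : (clsT T i M X).hom ((φJ i M X.obj).symm x) = 0 := by
      rw [← leg_apply, hz]
      rfl
    obtain ⟨Y, h, hY⟩ := (clsT_eq_zero_iff T i M _).mp h1
    have hY' : (Epre i (qM h) M).hom ((φJ i M X.obj).symm x) = 0 := hY
    rw [← φJ_symm_qD, LinearEquiv.map_eq_zero_iff] at hY'
    rw [← ι_trans T _ h, hY', map_zero]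
  · intro w
    obtain ⟨X, y, hy⟩ := exists_repT T i M w.down
    refine ⟨ι T (KM i M) X (φJ i M X.obj y), ?_⟩
    rw [Θ_ι]
    apply ULift.ext
    rw [leg_apply, LinearEquiv.symm_apply_apply]
    exact hy

/-- `colim_J Hom_{D(A)}(A/J, M[i]) ≃ H^i_T(M)` -/
noncomputable def compEquiv : FT T (KM i M) ≃ₗ[A] HTM T i M :=
  (LinearEquiv.ofBijective (Θ T i M).hom (Θ_bijective T i M)).trans ULift.moduleEquiv

end Compare

end Groth.Agent.Lib.Helper14.HDT
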