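import Mathlib
import Groth.Agent.Lib.Helper14HDTI

/-! # Change of support for local cohomology with supports (helper14)

For `Z ⊆ T` the canonical map `cs : FT Z K → FT T K`; its behaviour in the lowest degree. -/

set_option autoImplicit false
set_option linter.unusedVariables false
set_option linter.unusedSectionVars false
set_option linter.style.haveILetI false
set_option maxHeartbeats 400000

universe u

open CategoryTheory CategoryTheory.Limits Opposite DerivedCategory Pretriangulated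

attribute [local instance] HasDerivedCategory.standard

namespace Groth.Agent.Lib.Helper14.Falt

open Groth.Agent.Lib.Helper14.HDT

variable {A : Type u} [CommRing A] {Z T : Set (PrimeSpectrum A)} (hZT : Z ⊆ T)

/-- an ideal with zero locus in `Z` has zero locus in `T` -/
def incI (X : Dual2.IdealsIn Z) : Dual2.IdealsIn T := mkI T X.obj (X.property.trans hZT)

lemma incI_obj (X : Dual2.IdealsIn Z) : (incI hZT X).obj = X.obj := rfl

/-- the cocone defining the change of support map -/
noncomputable def csCocone (K : Dual.D A) : Cocone (Fd Z K) where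
  pt := FT T K
  ι :=
    { app := fun j => ModuleCat.ofHom (ι T K (incI hZT j.unop))
      naturality := by
        intro j j' a
        have hle : j'.unop.obj ≤ j.unop.obj := le_of_homI Z a.unop
        have ha : a = (homI Z hle).op := Subsingleton.elim _ _
        subst ha
        apply ModuleCat.hom_ext
        apply LinearMap.ext
        intro x
        show ι T K (incI hZT j'.unop) (qD hle ≫ x) = ι T K (incI hZT j.unop) x
        exact ι_trans T K (X := incI hZT j'.unop) (Y := incI hZT j.unop) hle x }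

/-- change of support `H_Z → H_T` for `Z ⊆ T` -/
noncomputable def cs (K : Dual.D A) : FT Z K →ₗ[A] FT T K :=
  (colimit.desc (Fd Z K) (csCocone hZT K)).hom

lemma cs_ι (K : Dual.D A) (X : Dual2.IdealsIn Z) (x : NJ X.obj ⟶ K) :
    cs hZT K (ι Z K X x) = ι T K (incI hZT X) x := by
  have := colimit.ι_desc (csCocone hZT K) (op X)
  exact congrArg (fun g => g.hom x) this

lemma cs_FTmap {K L : Dual.D A} (g : K ⟶ L) (z : FT Z K) :
    cs hZT L ((FTmap Z g).hom z) = (FTmap T g).hom (cs hZT K z) := by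
  obtain ⟨X, x, rfl⟩ := exists_rep Z K z
  rw [FTmap_ι, cs_ι, cs_ι]
  exact (FTmap_ι T g (incI hZT X) x).symm

/-- elements in the image of `cs` are `Z`-torsion -/
lemma cs_mem_torsT (K : Dual.D A) (z : FT Z K) : cs hZT K z ∈ torsT Z (FT T K) := by
  have hz : z ∈ torsT Z (FT Z K) := torsT_FT_eq_top Z K ▸ Submodule.mem_top
  obtain ⟨J, hJ, h⟩ := hz
  exact ⟨J, hJ, fun a ha => by rw [← map_smul, h a ha, map_zero]⟩

section Lowest

variable (K : Dual.D A) (a : ℤ) [K.IsGE a]

/-- in the lowest degree the change of support map is injective -/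
theorem cs_injective_lowest : Function.Injective (cs hZT (K⟦a⟧)) := by
  rw [injective_iff_map_eq_zero]
  intro z hz
  obtain ⟨X, x, rfl⟩ := exists_rep Z _ z
  rw [cs_ι] at hz
  obtain ⟨Y, h, hx⟩ := (ι_eq_zero_iff T _ (X := incI hZT X) x).mp hz
  have h1 : ev K a Y.obj (qD h ≫ x) = 0 := by rw [hx, map_zero]
  have h1' : ev K a X.obj x = 0 := (ev_qD K a (J' := Y.obj) (J := X.obj) h x).symm.trans h1
  have h2 : x = 0 := ev_injective K a X.obj (h1'.trans (map_zero _).symm)
  rw [h2, map_zero]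

/-- in the lowest degree every `Z`-torsion class comes from `H_Z` -/
theorem mem_range_cs_lowest (y : FT T (K⟦a⟧)) (hy : y ∈ torsT Z (FT T (K⟦a⟧))) :
    y ∈ LinearMap.range (cs hZT (K⟦a⟧)) := by
  obtain ⟨X, x, rfl⟩ := exists_rep T _ y
  obtain ⟨𝔟, h𝔟, hb⟩ := hy
  -- the element of `H^a(K)`
  have hm : ∀ b ∈ 𝔟, b • ev K a X.obj x = 0 := by
    intro b hbb
    have h1 := hb b hbb
    rw [← map_smul, ι_eq_zero_iff] at h1
    obtain ⟨Y, h, hx⟩ := h1
    have h2 : ev K a Y.obj (qD h ≫ (b • x)) = 0 := by rw [hx, map_zero]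
    rw [ev_qD, map_smul] at h2
    exact h2
  obtain ⟨x', hx'⟩ := exists_ev_eq K a 𝔟 (ev K a X.obj x) hm
  refine ⟨ι Z _ (mkI Z 𝔟 h𝔟) x', ?_⟩
  refine (cs_ι hZT (K⟦a⟧) (mkI Z 𝔟 h𝔟) x').trans ?_
  -- compare on `A/(X ⊓ 𝔟)`
  let W : Dual2.IdealsIn T := mkI T (X.obj ⊓ 𝔟) (zeroLocus_inf_subset T X.property (h𝔟.trans hZT))
  have hW1 : W.obj ≤ X.obj := inf_le_left
  have hW2 : W.obj ≤ (incI hZT (mkI Z 𝔟 h𝔟)).obj := inf_le_right
  have e1 := ι_trans T (K⟦a⟧) (X := W) (Y := X) hW1 x
  have e2 := ι_trans T (K⟦a⟧) (X := W) (Y := incI hZT (mkI Z 𝔟 h𝔟)) hW2 x'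
  refine e2.symm.trans (Eq.trans ?_ e1)
  congr 1
  apply ev_injective K a W.obj
  have e3 : ev K a W.obj (qD hW2 ≫ x') = ev K a 𝔟 x' := ev_qD K a (J' := W.obj) (J := 𝔟) hW2 x'
  have e4 : ev K a W.obj (qD hW1 ≫ x) = ev K a X.obj x := ev_qD K a (J' := W.obj) (J := X.obj) hW1 x
  exact e3.trans (hx'.trans e4.symm)

end Lowest

end Groth.Agent.Lib.Helper14.Falt
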