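import Mathlib
import Groth.Agent.Lib.Helper14FaltA

/-! # `T`-torsion of injective modules and vanishing of local cohomology with supports (helper14)

Over a Noetherian ring the `T`-torsion submodule of an injective module is injective; a
`T`-torsion free module embeds in a `T`-torsion free injective module; `H^k_T` of an injective
module vanishes for `k > 0`. -/

set_option autoImplicit false
set_option linter.unusedVariables false
set_option linter.unusedSectionVars false
set_option linter.style.haveILetI false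
set_option maxHeartbeats 400000

universe u

open CategoryTheory CategoryTheory.Limits Opposite DerivedCategory Pretriangulated
  CategoryTheory.Abelian

attribute [local instance] HasDerivedCategory.standard

namespace Groth.Agent.Lib.Helper14.Falt

open Groth.Agent.Lib.Helper14.HDT

variable {A : Type u} [CommRing A] (T : Set (PrimeSpectrum A))

lemma zeroLocus_pow_subset {J : Ideal A} (h : PrimeSpectrum.zeroLocus (J : Set A) ⊆ T) (n : ℕ) :
    PrimeSpectrum.zeroLocus ((J ^ n : Ideal A) : Set A) ⊆ T := by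
  induction n with
  | zero =>
    rw [pow_zero, Ideal.one_eq_top]
    exact zeroLocus_top_subset T
  | succ n ih =>
    rw [pow_succ]
    exact zeroLocus_mul_subset T ih h

/-- over a Noetherian ring, the `T`-torsion of an injective module is injective -/
theorem injective_torsT [IsNoetherianRing A] (E : Type u) [AddCommGroup E]
    [Module A E] [Module.Injective A E] : Module.Injective A (torsT T E) := by
  apply Module.Baer.injective
  intro 𝔟 g
  -- a single ideal killing the image of `g`
  haveI : IsNoetherian A 𝔟 := inferInstance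
  let g₀ : 𝔟 →ₗ[A] E := (torsT T E).subtype ∘ₗ g
  haveI : IsNoetherian A (LinearMap.range g₀) :=
    isNoetherian_of_surjective g₀.rangeRestrict (LinearMap.range_rangeRestrict g₀)
  obtain ⟨J, hJ, hJ0⟩ := exists_ideal_torsT T (M := LinearMap.range g₀)
  have hn : ∀ a ∈ J, ∀ x : 𝔟, a • g₀ x = 0 := by
    intro a ha x
    have hx : (⟨g₀ x, LinearMap.mem_range_self g₀ x⟩ : LinearMap.range g₀) ∈
        torsT T (LinearMap.range g₀) := by
      obtain ⟨J', hJ', h'⟩ := (g x).2
      exact ⟨J', hJ', fun b hb => Subtype.ext (h' b hb)⟩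
    exact congrArg Subtype.val (hJ0 _ hx a ha)
  -- Artin-Rees
  obtain ⟨c, hc⟩ := Ideal.exists_pow_inf_eq_pow_smul J (𝔟 : Submodule A A)
  set m := 1 + c with hm
  have hvan : ∀ x : 𝔟, (x : A) ∈ J ^ m → g₀ x = 0 := by
    intro x hx
    have h1 : (x : A) ∈ J ^ m • (⊤ : Submodule A A) ⊓ 𝔟 := by
      refine ⟨?_, x.2⟩
      rw [Ideal.smul_top_eq_map, Algebra.algebraMap_self, Ideal.map_id]
      exact hx
    rw [hc m (by omega)] at h1
    have h2 : m - c = 1 := by omega
    rw [h2, pow_one] at h1
    have key : ∀ z ∈ J • (J ^ c • (⊤ : Submodule A A) ⊓ 𝔟),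
        ∃ hz : z ∈ 𝔟, g₀ ⟨z, hz⟩ = 0 := by
      intro z hz
      refine Submodule.smul_induction_on hz ?_ ?_
      · intro a ha w hw
        have hw' : w ∈ 𝔟 := hw.2
        refine ⟨𝔟.smul_mem a hw', ?_⟩
        have : (⟨a • w, 𝔟.smul_mem a hw'⟩ : 𝔟) = a • ⟨w, hw'⟩ := rfl
        rw [this, map_smul]
        exact hn a ha _
      · rintro z₁ z₂ ⟨h₁, e₁⟩ ⟨h₂, e₂⟩
        refine ⟨𝔟.add_mem h₁ h₂, ?_⟩
        have : (⟨z₁ + z₂, 𝔟.add_mem h₁ h₂⟩ : 𝔟) = ⟨z₁, h₁⟩ + ⟨z₂, h₂⟩ := rfl
        rw [this, map_add, e₁, e₂, add_zero]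
    obtain ⟨hz, e⟩ := key _ h1
    exact e
  -- extend using the injectivity of `E`
  let B' : Submodule A 𝔟 := Submodule.comap 𝔟.subtype (J ^ m)
  let i : (𝔟 ⧸ B') →ₗ[A] (A ⧸ J ^ m) := Submodule.mapQ B' (J ^ m) 𝔟.subtype (le_refl _)
  have hi : Function.Injective i := by
    rw [← LinearMap.ker_eq_bot, LinearMap.ker_eq_bot']
    intro x hx
    induction x using Submodule.Quotient.induction_on with
    | H x =>
      rw [Submodule.Quotient.mk_eq_zero]
      have : i (Submodule.Quotient.mk x) = Submodule.Quotient.mk (x : A) := rfl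
      rw [this, Submodule.Quotient.mk_eq_zero] at hx
      exact hx
  have hg₀ : B' ≤ LinearMap.ker g₀ := by
    intro x hx
    rw [LinearMap.mem_ker]
    exact hvan x hx
  let gq : (𝔟 ⧸ B') →ₗ[A] E := Submodule.liftQ B' g₀ hg₀
  obtain ⟨h, hh⟩ := Module.Injective.out i hi gq
  let g₁ : A →ₗ[A] E := h ∘ₗ (J ^ m).mkQ
  have hg₁ : ∀ r : A, g₁ r ∈ torsT T E := by
    intro r
    refine ⟨J ^ m, zeroLocus_pow_subset T hJ m, fun a ha => ?_⟩
    change a • h (Submodule.Quotient.mk r) = 0
    rw [← map_smul, ← Submodule.Quotient.mk_smul]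
    have : (Submodule.Quotient.mk (a • r) : A ⧸ J ^ m) = 0 := by
      rw [Submodule.Quotient.mk_eq_zero]
      exact Ideal.mul_mem_right _ _ ha
    rw [this, map_zero]
  refine ⟨LinearMap.codRestrict (torsT T E) g₁ hg₁, ?_⟩
  intro x mem
  apply Subtype.ext
  change h (Submodule.Quotient.mk x) = (g ⟨x, mem⟩ : E)
  have h1 := hh (Submodule.Quotient.mk ⟨x, mem⟩)
  exact h1

/-- a module without `T`-torsion embeds in an injective module without `T`-torsion -/
theorem exists_torsTFree_injective [IsNoetherianRing A] (G : Type u) [AddCommGroup G] [Module A G]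
    (hG : torsT T G = ⊥) :
    ∃ (E : Type u) (_ : AddCommGroup E) (_ : Module A E) (f : G →ₗ[A] E),
      Module.Injective A E ∧ torsT T E = ⊥ ∧ Function.Injective f := by
  let Ec : ModuleCat.{u} A := Injective.under (ModuleCat.of A G)
  let ι : ModuleCat.of A G ⟶ Ec := Injective.ι (ModuleCat.of A G)
  have hι : Function.Injective ι.hom := (ModuleCat.mono_iff_injective ι).mp inferInstance
  have hEobj : Injective (ModuleCat.of A ↑Ec) := inferInstanceAs (Injective Ec)
  have hEinj : Module.Injective A Ec := Module.injective_module_of_injective_object A Ec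
  have hTinj : Module.Injective A (torsT T Ec) := injective_torsT T Ec
  -- retraction onto the torsion part
  obtain ⟨r, hr⟩ := Module.Injective.extension_property A (torsT T Ec)
    (torsT T Ec) Ec (torsT T Ec).subtype (Submodule.injective_subtype _)
    LinearMap.id
  have hr' : ∀ t : torsT T Ec, r (t : Ec) = t := fun t => LinearMap.congr_fun hr t
  -- the complementary projection
  let π : Ec →ₗ[A] Ec := LinearMap.id - (torsT T Ec).subtype ∘ₗ r
  have hπker : ∀ x : Ec, π x ∈ LinearMap.ker r := by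
    intro x
    rw [LinearMap.mem_ker]
    show r (x - ((r x : torsT T Ec) : Ec)) = 0
    rw [map_sub, hr', sub_self]
  have hπid : ∀ x : Ec, x ∈ LinearMap.ker r → π x = x := by
    intro x hx
    show x - ((r x : torsT T Ec) : Ec) = x
    rw [LinearMap.mem_ker.mp hx]; simp
  let π' : Ec →ₗ[A] LinearMap.ker r := π.codRestrict _ hπker
  refine ⟨LinearMap.ker r, inferInstance, inferInstance, π' ∘ₗ ι.hom, ?_, ?_, ?_⟩
  · -- injectivity via Baer
    apply Module.Baer.injective
    intro J φ
    obtain ⟨ψ₀, hψ₀⟩ := Module.Injective.extension_property A Ec J A J.subtype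
      (Submodule.injective_subtype _) ((LinearMap.ker r).subtype ∘ₗ φ)
    refine ⟨π' ∘ₗ ψ₀, ?_⟩
    intro x hx
    apply Subtype.ext
    have h1 : ψ₀ x = ((φ ⟨x, hx⟩ : LinearMap.ker r) : Ec) := LinearMap.congr_fun hψ₀ ⟨x, hx⟩
    show π (ψ₀ x) = _
    rw [h1]
    exact hπid _ (φ ⟨x, hx⟩).2
  · rw [eq_bot_iff]
    rintro ⟨x, hx⟩ ⟨J, hJ, hn⟩
    have hxt : x ∈ torsT T Ec := ⟨J, hJ, fun a ha => congrArg Subtype.val (hn a ha)⟩
    have h1 := hr' ⟨x, hxt⟩
    rw [LinearMap.mem_ker.mp hx] at h1
    have : x = 0 := by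
      have := congrArg Subtype.val h1
      exact this.symm
    exact (Submodule.mk_eq_zero _ _).mpr this
  · rw [injective_iff_map_eq_zero]
    intro g hg
    have h0 : π (ι.hom g) = 0 := congrArg Subtype.val hg
    have h1 : ι.hom g = ((r (ι.hom g) : torsT T Ec) : Ec) := by
      have : ι.hom g - ((r (ι.hom g) : torsT T Ec) : Ec) = 0 := h0
      exact sub_eq_zero.mp this
    obtain ⟨J, hJ, hn⟩ := (r (ι.hom g)).2
    have hg' : g ∈ torsT T G := by
      refine ⟨J, hJ, fun a ha => hι ?_⟩
      rw [map_smul, map_zero, h1]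
      exact hn a ha
    rw [hG] at hg'
    exact (Submodule.mem_bot A).mp hg'

/-- `M[0]` in `D(A)` -/
noncomputable abbrev sg (M : ModuleCat.{u} A) : Dual.D A :=
  (singleFunctor (ModuleCat.{u} A) 0).obj M

/-- the higher local cohomology of an injective module vanishes -/
theorem subsingleton_FT_single_of_injective (E : ModuleCat.{u} A) [Module.Injective A E] (k : ℕ) :
    Subsingleton (FT T ((sg E)⟦((k + 1 : ℕ) : ℤ)⟧)) := by
  apply subsingleton_FT_of_hom_eq_zero
  intro J x
  haveI : Injective E := Module.injective_object_of_injective_module (R := A) (M := E)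
  let e : Ext.{u} (ModuleCat.of A (A ⧸ J)) E (k + 1) := Ext.homEquiv.symm x
  have he : e.hom = x := Ext.homEquiv.apply_symm_apply x
  have h0 : e = 0 := Ext.eq_zero_of_injective e
  rw [← he, h0, Ext.zero_hom]

/-- the degree `0` local cohomology of a `T`-torsion free module vanishes -/
theorem subsingleton_FT_single_zero (E : ModuleCat.{u} A) (h : torsT T E = ⊥) :
    Subsingleton (FT T ((sg E)⟦(0 : ℤ)⟧)) := by
  refine ⟨fun z z' => ?_⟩
  suffices h0 : ∀ z : FT T ((sg E)⟦(0 : ℤ)⟧), z = 0 by rw [h0 z, h0 z']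
  intro z
  obtain ⟨X, x, rfl⟩ := exists_rep T _ z
  have hx : x = 0 := by
    apply ev_injective (sg E) 0 X.obj
    rw [map_zero]
    have h1 : ∀ b ∈ X.obj, b • ev (sg E) 0 X.obj x = 0 :=
      fun b hb => smul_ev_eq_zero (sg E) 0 X.obj x b hb
    -- transport to `E`
    let ε := Groth.Agent.Lib.Helper17.Hyp.e₀ E
    have h2 : ε.hom.hom (ev (sg E) 0 X.obj x) ∈ torsT T E :=
      ⟨X.obj, X.property, fun b hb => (map_smul ε.hom.hom b _).symm.trans
        ((congrArg ε.hom.hom (h1 b hb)).trans (map_zero _))⟩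
    rw [h] at h2
    have h3 : ε.hom.hom (ev (sg E) 0 X.obj x) = 0 := (Submodule.mem_bot A).mp h2
    have h4 := congrArg ε.inv.hom h3
    rw [map_zero] at h4
    have h5 : ε.inv.hom (ε.hom.hom (ev (sg E) 0 X.obj x)) = ev (sg E) 0 X.obj x := by
      have := congrArg (fun f => f.hom (ev (sg E) 0 X.obj x)) ε.hom_inv_id
      exact this
    rw [h5] at h4
    exact h4
  rw [hx, map_zero]

end Groth.Agent.Lib.Helper14.Falt
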