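import Mathlib
import Groth.Agent.Lib.Helper14FaltB

/-! # Acyclicity of torsion modules for local cohomology with supports (helper14)

Connecting isomorphisms, the quotient by the `T`-torsion, surjectivity in the lowest degree and the
vanishing of `H^k_T(N)`, `k > 0`, for an arbitrary `T`-torsion module `N` over a Noetherian ring. -/

set_option autoImplicit false
set_option linter.unusedVariables false
set_option linter.unusedSectionVars false
set_option linter.style.haveILetI false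
set_option maxHeartbeats 400000

universe u

open CategoryTheory CategoryTheory.Limits Opposite DerivedCategory Pretriangulated
  CategoryTheory.Abelian

attribute [local instance] HasDerivedCategory.standard

namespace Groth.Agent.Lib.Helper14.Falt

open Groth.Agent.Lib.Helper14.HDT Groth.Agent.Lib.Helper17.Hyp

variable {A : Type u} [CommRing A] (T : Set (PrimeSpectrum A))

section Conn

variable (S : Triangle (Dual.D A)) (hS : S ∈ distTriang (Dual.D A))

include hS in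
/-- exactness at the third term -/
theorem les_three (i : ℤ) :
    Function.Exact (FTmap T (S.mor₂⟦i⟧')).hom (FTmap T (S.mor₃⟦i⟧')).hom :=
  les_mid T S.rotate (rot_of_distTriang _ hS) i

include hS in
/-- surjectivity of the connecting map when the next term vanishes -/
theorem conn_surjective (i : ℤ) (h : Subsingleton (FT T ((S.obj₂⟦(1 : ℤ)⟧)⟦i⟧))) :
    Function.Surjective (FTmap T (S.mor₃⟦i⟧')).hom := by
  intro y
  have hex := les_mid T S.rotate.rotate (rot_of_distTriang _ (rot_of_distTriang _ hS)) i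
  exact (hex y).mp (@Subsingleton.elim _ h _ _)

include hS in
/-- injectivity of the connecting map when the previous term vanishes -/
theorem conn_injective (i : ℤ) (h : Subsingleton (FT T (S.obj₂⟦i⟧))) :
    Function.Injective (FTmap T (S.mor₃⟦i⟧')).hom := by
  rw [injective_iff_map_eq_zero]
  intro z hz
  obtain ⟨y, rfl⟩ := (les_three T S hS i z).mp hz
  rw [Subsingleton.elim y 0, map_zero]

end Conn

section Quot

variable [IsNoetherianRing A]

/-- over a Noetherian ring, an element which is multiplied into the `T`-torsion by an ideal with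
zero locus in `T` is `T`-torsion (no finiteness assumption on the module) -/
theorem mem_torsT_of_smul_mem' {M : Type*} [AddCommGroup M] [Module A M] (m : M) (J : Ideal A)
    (hJ : PrimeSpectrum.zeroLocus (J : Set A) ⊆ T) (h : ∀ a ∈ J, a • m ∈ torsT T M) :
    m ∈ torsT T M := by
  have key : ∀ J : Ideal A, J.FG → (∀ a ∈ J, a • m ∈ torsT T M) →
      ∃ J₀ : Ideal A, PrimeSpectrum.zeroLocus (J₀ : Set A) ⊆ T ∧
        ∀ a ∈ J, ∀ b ∈ J₀, b • a • m = 0 := by
    intro J hJfg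
    refine Submodule.fg_induction (R := A) (M := A) (motive := fun (J : Ideal A) _ =>
      (∀ a ∈ J, a • m ∈ torsT T M) →
      ∃ J₀ : Ideal A, PrimeSpectrum.zeroLocus (J₀ : Set A) ⊆ T ∧
        ∀ a ∈ J, ∀ b ∈ J₀, b • a • m = 0) ?_ ?_ J hJfg
    · intro a ha
      obtain ⟨J₀, hJ₀, h₀⟩ := ha a (Submodule.mem_span_singleton_self a)
      refine ⟨J₀, hJ₀, fun a' ha' b hb => ?_⟩
      obtain ⟨c, rfl⟩ := Submodule.mem_span_singleton.mp ha'
      rw [smul_eq_mul, mul_smul, smul_comm b c, h₀ b hb, smul_zero]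
    · intro J₁ J₂ _ _ ih₁ ih₂ h12
      obtain ⟨K₁, hK₁, h₁⟩ := ih₁ (fun a ha => h12 a (Submodule.mem_sup_left ha))
      obtain ⟨K₂, hK₂, h₂⟩ := ih₂ (fun a ha => h12 a (Submodule.mem_sup_right ha))
      refine ⟨K₁ ⊓ K₂, zeroLocus_inf_subset T hK₁ hK₂, fun a ha b hb => ?_⟩
      obtain ⟨a₁, ha₁, a₂, ha₂, rfl⟩ := Submodule.mem_sup.mp ha
      rw [add_smul, smul_add, h₁ a₁ ha₁ b hb.1, h₂ a₂ ha₂ b hb.2, add_zero]
  obtain ⟨J₀, hJ₀, h₀⟩ := key J (IsNoetherian.noetherian J) h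
  refine ⟨J₀ * J, zeroLocus_mul_subset T hJ₀ hJ, fun a ha => ?_⟩
  refine Submodule.mul_induction_on ha (fun b hb c hc => ?_) (fun b c hb hc => ?_)
  · rw [mul_smul]
    exact h₀ c hc b hb
  · rw [add_smul, hb, hc, add_zero]

/-- the quotient by the `T`-torsion has no `T`-torsion -/
theorem torsT_quotient_eq_bot (M : Type*) [AddCommGroup M] [Module A M] :
    torsT T (M ⧸ torsT T M) = ⊥ := by
  rw [eq_bot_iff]
  intro x hx
  induction x using Submodule.Quotient.induction_on with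
  | H m =>
    obtain ⟨J, hJ, h⟩ := hx
    rw [Submodule.mem_bot, Submodule.Quotient.mk_eq_zero]
    refine mem_torsT_of_smul_mem' T m J hJ (fun a ha => ?_)
    have := h a ha
    rwa [← Submodule.Quotient.mk_smul, Submodule.Quotient.mk_eq_zero] at this

end Quot

section Ev

/-- `ev` is compatible with maps of complexes -/
lemma ev_comp {K L : Dual.D A} (g : K ⟶ L) (a : ℤ) (J : Ideal A) (x : NJ J ⟶ K⟦a⟧) :
    ev L a J (x ≫ g⟦a⟧') = ((homologyFunctor (ModuleCat.{u} A) a).map g).hom (ev K a J x) := by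
  rw [ev_apply, ev_apply]
  have h : cmJ L a J (x ≫ g⟦a⟧') = cmJ K a J x ≫ (homologyFunctor (ModuleCat.{u} A) a).map g :=
    cm_comp (P := ModuleCat.of A (A ⧸ J)) x g
  rw [h]
  rfl

/-- naturality of `e₀` -/
lemma e₀_naturality {M M' : ModuleCat.{u} A} (g : M ⟶ M')
    (w : (homologyFunctor (ModuleCat.{u} A) 0).obj (sg M)) :
    (e₀ M').hom.hom (((homologyFunctor (ModuleCat.{u} A) 0).map
      ((singleFunctor (ModuleCat.{u} A) 0).map g)).hom w) = g.hom ((e₀ M).hom.hom w) := by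
  have h := (e₀NatIso (A := ModuleCat.{u} A)).hom.naturality g
  exact congrArg (fun φ => φ.hom w) h

/-- classes in the lowest degree are determined by their value in cohomology -/
lemma ι_eq_of_ev_eq (K : Dual.D A) (a : ℤ) [K.IsGE a] (X Y : Dual2.IdealsIn T)
    (x : NJ X.obj ⟶ K⟦a⟧) (y : NJ Y.obj ⟶ K⟦a⟧) (h : ev K a X.obj x = ev K a Y.obj y) :
    ι T (K⟦a⟧) X x = ι T (K⟦a⟧) Y y := by
  let W : Dual2.IdealsIn T := mkI T (X.obj ⊓ Y.obj) (zeroLocus_inf_subset T X.property Y.property)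
  have hW1 : W.obj ≤ X.obj := inf_le_left
  have hW2 : W.obj ≤ Y.obj := inf_le_right
  have e1 := ι_trans T (K⟦a⟧) (X := W) (Y := X) hW1 x
  have e2 := ι_trans T (K⟦a⟧) (X := W) (Y := Y) hW2 y
  refine e1.symm.trans (Eq.trans ?_ e2)
  congr 1
  apply ev_injective K a W.obj
  have e3 : ev K a W.obj (qD hW1 ≫ x) = ev K a X.obj x := ev_qD K a (J' := W.obj) (J := X.obj) hW1 x
  have e4 : ev K a W.obj (qD hW2 ≫ y) = ev K a Y.obj y := ev_qD K a (J' := W.obj) (J := Y.obj) hW2 y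
  exact e3.trans (h.trans e4.symm)

/-- the value in `M` of a degree zero class -/
noncomputable def ev₀ (M : ModuleCat.{u} A) (J : Ideal A) :
    (NJ J ⟶ (dsgl M)⟦(0 : ℤ)⟧) →ₗ[A] M :=
  (e₀ M).hom.hom ∘ₗ ev (dsgl M) 0 J

lemma ev₀_apply (M : ModuleCat.{u} A) (J : Ideal A) (x : NJ J ⟶ (dsgl M)⟦(0 : ℤ)⟧) :
    ev₀ M J x = (e₀ M).hom.hom (ev (dsgl M) 0 J x) := rfl

lemma e₀_inv_hom (M : ModuleCat.{u} A) (w : (homologyFunctor (ModuleCat.{u} A) 0).obj (dsgl M)) :
    (e₀ M).inv.hom ((e₀ M).hom.hom w) = w :=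
  congrArg (fun f => f.hom w) (e₀ M).hom_inv_id

lemma e₀_hom_inv (M : ModuleCat.{u} A) (m : M) :
    (e₀ M).hom.hom ((e₀ M).inv.hom m) = m :=
  congrArg (fun f => f.hom m) (e₀ M).inv_hom_id

instance isGE_dsgl'' (M : ModuleCat.{u} A) : (dsgl M).IsGE 0 :=
  inferInstanceAs (((singleFunctor (ModuleCat.{u} A) 0).obj M).IsGE 0)

lemma ev₀_injective (M : ModuleCat.{u} A) (J : Ideal A) : Function.Injective (ev₀ M J) := by
  intro x y h
  apply ev_injective (dsgl M) 0 J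
  have h1 := congrArg (e₀ M).inv.hom h
  rw [ev₀_apply, ev₀_apply, e₀_inv_hom, e₀_inv_hom] at h1
  exact h1

lemma smul_ev₀_eq_zero (M : ModuleCat.{u} A) (J : Ideal A) (x : NJ J ⟶ (dsgl M)⟦(0 : ℤ)⟧) (b : A)
    (hb : b ∈ J) : b • ev₀ M J x = 0 := by
  rw [ev₀_apply, ← map_smul, smul_ev_eq_zero (dsgl M) 0 J x b hb, map_zero]

lemma exists_ev₀_eq (M : ModuleCat.{u} A) (J : Ideal A) (m : M) (hm : ∀ b ∈ J, b • m = 0) :
    ∃ x : NJ J ⟶ (dsgl M)⟦(0 : ℤ)⟧, ev₀ M J x = m := by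
  obtain ⟨x, hx⟩ := exists_ev_eq (dsgl M) 0 J ((e₀ M).inv.hom m)
    (fun b hb => by rw [← map_smul, hm b hb, map_zero])
  exact ⟨x, by rw [ev₀_apply, hx, e₀_hom_inv]⟩

/-- the map induced by a module map on `M[0]`, in terms of `dsgl` -/
noncomputable def dmap {M M' : ModuleCat.{u} A} (g : M ⟶ M') : dsgl M ⟶ dsgl M' :=
  (singleFunctor (ModuleCat.{u} A) 0).map g

lemma e₀_naturality' {M M' : ModuleCat.{u} A} (g : M ⟶ M')
    (w : (homologyFunctor (ModuleCat.{u} A) 0).obj (dsgl M)) :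
    (e₀ M').hom.hom (((homologyFunctor (ModuleCat.{u} A) 0).map (dmap g)).hom w) =
      g.hom ((e₀ M).hom.hom w) := by
  have h := (e₀NatIso (A := ModuleCat.{u} A)).hom.naturality g
  exact congrArg (fun φ => φ.hom w) h

lemma ev₀_comp {M M' : ModuleCat.{u} A} (g : M ⟶ M') (J : Ideal A)
    (x : NJ J ⟶ (dsgl M)⟦(0 : ℤ)⟧) :
    ev₀ M' J (x ≫ (dmap g)⟦(0 : ℤ)⟧') = g.hom (ev₀ M J x) := by
  rw [ev₀_apply, ev₀_apply, ev_comp, e₀_naturality']

lemma ev₀_qD (M : ModuleCat.{u} A) {J' J : Ideal A} (h : J' ≤ J) (x : NJ J ⟶ (dsgl M)⟦(0 : ℤ)⟧) :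
    ev₀ M J' (qD h ≫ x) = ev₀ M J x := by
  rw [ev₀_apply, ev₀_apply, ev_qD]

/-- classes in degree `0` are determined by their value -/
lemma ι_eq_of_ev₀_eq (M : ModuleCat.{u} A) (X Y : Dual2.IdealsIn T)
    (x : NJ X.obj ⟶ (dsgl M)⟦(0 : ℤ)⟧) (y : NJ Y.obj ⟶ (dsgl M)⟦(0 : ℤ)⟧)
    (h : ev₀ M X.obj x = ev₀ M Y.obj y) :
    ι T ((dsgl M)⟦(0 : ℤ)⟧) X x = ι T ((dsgl M)⟦(0 : ℤ)⟧) Y y := by
  apply ι_eq_of_ev_eq T (dsgl M) 0 X Y x y
  have h1 := congrArg (e₀ M).inv.hom h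
  have e1 : (e₀ M).inv.hom (ev₀ M X.obj x) = ev (dsgl M) 0 X.obj x := e₀_inv_hom M _
  have e2 : (e₀ M).inv.hom (ev₀ M Y.obj y) = ev (dsgl M) 0 Y.obj y := e₀_inv_hom M _
  exact e1.symm.trans (h1.trans e2)

/-- surjectivity in degree zero -/
theorem surj_lowest {M M' : ModuleCat.{u} A} (g : M ⟶ M')
    (hlift : ∀ m' ∈ torsT T M', ∃ m ∈ torsT T M, g.hom m = m') :
    Function.Surjective (FTmap T ((dmap g)⟦(0 : ℤ)⟧')).hom := by
  intro y
  obtain ⟨X, x, rfl⟩ := exists_rep T _ y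
  have hm' : ev₀ M' X.obj x ∈ torsT T M' :=
    ⟨X.obj, X.property, fun b hb => smul_ev₀_eq_zero M' X.obj x b hb⟩
  obtain ⟨m, ⟨J₁, hJ₁, hm⟩, hgm⟩ := hlift _ hm'
  obtain ⟨x', hx'⟩ := exists_ev₀_eq M J₁ m hm
  refine ⟨ι T _ (mkI T J₁ hJ₁) x', ?_⟩
  refine (FTmap_ι T _ (mkI T J₁ hJ₁) x').trans ?_
  apply ι_eq_of_ev₀_eq T M' (mkI T J₁ hJ₁) X
  have h1 : ev₀ M' J₁ (x' ≫ (dmap g)⟦(0 : ℤ)⟧') = g.hom (ev₀ M J₁ x') := ev₀_comp g J₁ x'
  exact h1.trans ((congrArg g.hom hx').trans hgm)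

end Ev

section Acyclic

variable [IsNoetherianRing A]

lemma subsingleton_of_shiftEquiv (K : Dual.D A) (a j b : ℤ) (h : a + j = b)
    (hs : Subsingleton (FT T (K⟦b⟧))) : Subsingleton (FT T ((K⟦a⟧)⟦j⟧)) :=
  (shiftEquiv T K a j b h).toEquiv.subsingleton

lemma subsingleton_of_shiftEquiv' (K : Dual.D A) (a j b : ℤ) (h : a + j = b)
    (hs : Subsingleton (FT T ((K⟦a⟧)⟦j⟧))) : Subsingleton (FT T (K⟦b⟧)) :=
  (shiftEquiv T K a j b h).symm.toEquiv.subsingleton

/-- the higher local cohomology with supports in `T` of a `T`-torsion module vanishes -/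
theorem subsingleton_FT_single_of_torsT_eq_top (k : ℕ) : ∀ (N : ModuleCat.{u} A),
    torsT T N = ⊤ → Subsingleton (FT T ((dsgl N)⟦((k + 1 : ℕ) : ℤ)⟧)) := by
  induction k with
  | zero => ?_
  | succ k ih => ?_
  all_goals
    intro N hN
    -- an injective `T`-torsion module containing `N`
    let Ec : ModuleCat.{u} A := Injective.under N
    let ι₀ : N ⟶ Ec := Injective.ι N
    have hι : Function.Injective ι₀.hom := (ModuleCat.mono_iff_injective ι₀).mp inferInstance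
    have hEobj : Injective (ModuleCat.of A ↑Ec) := inferInstanceAs (Injective Ec)
    haveI hEinj : Module.Injective A Ec := Module.injective_module_of_injective_object A Ec
    let E' : ModuleCat.{u} A := ModuleCat.of A (torsT T Ec)
    haveI hE'inj : Module.Injective A E' := injective_torsT T Ec
    have hmem : ∀ n : N, ι₀.hom n ∈ torsT T Ec := by
      intro n
      have hn : n ∈ torsT T N := hN ▸ Submodule.mem_top
      obtain ⟨J, hJ, h⟩ := hn
      exact ⟨J, hJ, fun a ha => by rw [← map_smul, h a ha, map_zero]⟩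
    let j : N →ₗ[A] E' := LinearMap.codRestrict (torsT T Ec) ι₀.hom hmem
    have hj : Function.Injective j := fun x y hxy => hι (congrArg Subtype.val hxy)
    let Qm := E' ⧸ LinearMap.range j
    let π : E' →ₗ[A] Qm := (LinearMap.range j).mkQ
    have hπ : Function.Surjective π := Submodule.mkQ_surjective _
    have hex : Function.Exact j π := LinearMap.exact_map_mkQ_range j
    let S := ModuleCat.shortComplexOfCompEqZero j π hex.linearMap_comp_eq_zero
    have hS : S.ShortExact := ModuleCat.shortComplex_shortExact S hex hj hπ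
    have hTr := hS.singleTriangle_distinguished
    have hE'top : torsT T E' = ⊤ := by
      rw [eq_top_iff]
      rintro ⟨e, J, hJ, h⟩ -
      exact ⟨J, hJ, fun a ha => Subtype.ext (h a ha)⟩
    have hQtop : torsT T (ModuleCat.of A Qm) = ⊤ := by
      rw [eq_top_iff]
      intro q _
      obtain ⟨e, rfl⟩ := hπ q
      have he : e ∈ torsT T E' := hE'top ▸ Submodule.mem_top
      obtain ⟨J, hJ, h⟩ := he
      exact ⟨J, hJ, fun a ha => by rw [← map_smul, h a ha, map_zero]⟩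
  · -- degree one
    have h1 : Subsingleton (FT T (((hS.singleTriangle).obj₂⟦(1 : ℤ)⟧)⟦(0 : ℤ)⟧)) :=
      subsingleton_of_shiftEquiv T (dsgl E') 1 0 ((0 + 1 : ℕ) : ℤ) (by norm_num)
        (subsingleton_FT_single_of_injective T E' 0)
    have hsurj := conn_surjective T hS.singleTriangle hTr 0 h1
    have hsurj2 : Function.Surjective (FTmap T ((dmap S.g)⟦(0 : ℤ)⟧')).hom := by
      apply surj_lowest T S.g
      intro m' _
      obtain ⟨e, rfl⟩ := hπ m'
      exact ⟨e, hE'top ▸ Submodule.mem_top, rfl⟩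
    have hzero : Subsingleton (FT T (((hS.singleTriangle).obj₁⟦(1 : ℤ)⟧)⟦(0 : ℤ)⟧)) := by
      refine ⟨fun z z' => ?_⟩
      suffices h0 : ∀ z : FT T (((hS.singleTriangle).obj₁⟦(1 : ℤ)⟧)⟦(0 : ℤ)⟧), z = 0 by
        rw [h0 z, h0 z']
      intro z
      obtain ⟨y, rfl⟩ := hsurj z
      obtain ⟨w, rfl⟩ := hsurj2 y
      exact (les_three T hS.singleTriangle hTr 0 _).mpr ⟨w, rfl⟩
    exact subsingleton_of_shiftEquiv' T (dsgl N) 1 0 ((0 + 1 : ℕ) : ℤ) (by norm_num) hzero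
  · -- higher degrees
    have h1 : Subsingleton (FT T (((hS.singleTriangle).obj₂⟦(1 : ℤ)⟧)⟦((k + 1 : ℕ) : ℤ)⟧)) :=
      subsingleton_of_shiftEquiv T (dsgl E') 1 ((k + 1 : ℕ) : ℤ) ((k + 1 + 1 : ℕ) : ℤ)
        (by push_cast; ring) (subsingleton_FT_single_of_injective T E' (k + 1))
    have hsurj := conn_surjective T hS.singleTriangle hTr ((k + 1 : ℕ) : ℤ) h1
    have hQ : Subsingleton (FT T ((dsgl (ModuleCat.of A Qm))⟦((k + 1 : ℕ) : ℤ)⟧)) :=
      ih (ModuleCat.of A Qm) hQtop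
    have hzero : Subsingleton
        (FT T (((hS.singleTriangle).obj₁⟦(1 : ℤ)⟧)⟦((k + 1 : ℕ) : ℤ)⟧)) := by
      refine ⟨fun z z' => ?_⟩
      obtain ⟨y, rfl⟩ := hsurj z
      obtain ⟨y', rfl⟩ := hsurj z'
      rw [@Subsingleton.elim _ hQ y y']
    exact subsingleton_of_shiftEquiv' T (dsgl N) 1 ((k + 1 : ℕ) : ℤ) ((k + 1 + 1 : ℕ) : ℤ)
      (by push_cast; ring) hzero

end Acyclic

end Groth.Agent.Lib.Helper14.Falt
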