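import Mathlib
import Groth.Agent.Lib.Helper14FaltC

/-! # The two dévissage steps for the key lemma (helper14)

* `tors_step`: passing from `M` to `M / Γ_T(M)`;
* `inj_step`: dimension shifting along an embedding into a `T`-torsion free injective module. -/

set_option autoImplicit false
set_option linter.unusedVariables false
set_option linter.unusedSectionVars false
set_option linter.style.haveILetI false
set_option maxHeartbeats 400000

universe u

open CategoryTheory CategoryTheory.Limits Opposite DerivedCategory Pretriangulated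
  CategoryTheory.Abelian

attribute [local instance] HasDerivedCategory.standard

namespace Groth.Agent.Lib.Helper14.Falt

open Groth.Agent.Lib.Helper14.HDT Groth.Agent.Lib.Helper17.Hyp

variable {A : Type u} [CommRing A] [IsNoetherianRing A] (T : Set (PrimeSpectrum A))

section SES

variable {T}
variable {S : ShortComplex (ModuleCat.{u} A)} (hS : S.ShortExact)

/-- the connecting morphism of a short exact sequence, in `dsgl` form -/
noncomputable def sesδ : dsgl S.X₃ ⟶ (dsgl S.X₁)⟦(1 : ℤ)⟧ := hS.singleδ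

variable (T)

include hS in
theorem ses_exact_mid (j : ℤ) :
    Function.Exact (FTmap T ((dmap S.f)⟦j⟧')).hom (FTmap T ((dmap S.g)⟦j⟧')).hom :=
  les_mid T hS.singleTriangle hS.singleTriangle_distinguished j

theorem ses_exact_three (j : ℤ) :
    Function.Exact (FTmap T ((dmap S.g)⟦j⟧')).hom (FTmap T ((sesδ hS)⟦j⟧')).hom :=
  les_three T hS.singleTriangle hS.singleTriangle_distinguished j

theorem ses_conn_surjective (j : ℤ) (h : Subsingleton (FT T (((dsgl S.X₂)⟦(1 : ℤ)⟧)⟦j⟧))) :
    Function.Surjective (FTmap T ((sesδ hS)⟦j⟧')).hom :=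
  conn_surjective T hS.singleTriangle hS.singleTriangle_distinguished j h

theorem ses_conn_injective (j : ℤ) (h : Subsingleton (FT T ((dsgl S.X₂)⟦j⟧))) :
    Function.Injective (FTmap T ((sesδ hS)⟦j⟧')).hom :=
  conn_injective T hS.singleTriangle hS.singleTriangle_distinguished j h

end SES

section TorsStep

variable (M : ModuleCat.{u} A)

/-- the quotient of `M` by its `T`-torsion -/
noncomputable abbrev Mb : ModuleCat.{u} A := ModuleCat.of A (M ⧸ torsT T M)

/-- the `T`-torsion of `M` -/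
noncomputable abbrev Mt : ModuleCat.{u} A := ModuleCat.of A (torsT T M)

/-- the quotient map -/
noncomputable abbrev qT : M ⟶ Mb T M := ModuleCat.ofHom (torsT T M).mkQ

/-- the inclusion -/
noncomputable abbrev iT : Mt T M ⟶ M := ModuleCat.ofHom (torsT T M).subtype

/-- the short complex `Γ_T M → M → M/Γ_T M` -/
noncomputable abbrev torsSC : ShortComplex (ModuleCat.{u} A) :=
  ModuleCat.shortComplexOfCompEqZero (torsT T M).subtype (torsT T M).mkQ
    (LinearMap.exact_subtype_mkQ (torsT T M)).linearMap_comp_eq_zero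

lemma torsSC_shortExact : (torsSC T M).ShortExact :=
  ModuleCat.shortComplex_shortExact _ (LinearMap.exact_subtype_mkQ (torsT T M))
    (Submodule.injective_subtype _) (Submodule.mkQ_surjective _)

lemma torsT_Mt_eq_top : torsT T (Mt T M) = ⊤ := by
  rw [eq_top_iff]
  rintro ⟨e, J, hJ, h⟩ -
  exact ⟨J, hJ, fun a ha => Subtype.ext (h a ha)⟩

/-- on `H_T`, the quotient map is bijective in positive degrees -/
theorem tors_step_bijective (k : ℕ) :
    Function.Bijective (FTmap T ((dmap (qT T M))⟦((k + 1 : ℕ) : ℤ)⟧')).hom := by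
  have hS := torsSC_shortExact T M
  constructor
  · rw [injective_iff_map_eq_zero]
    intro z hz
    obtain ⟨w, rfl⟩ := (ses_exact_mid T hS ((k + 1 : ℕ) : ℤ) z).mp hz
    have hsub : Subsingleton (FT T ((dsgl (Mt T M))⟦((k + 1 : ℕ) : ℤ)⟧)) :=
      subsingleton_FT_single_of_torsT_eq_top T k (Mt T M) (torsT_Mt_eq_top T M)
    have hw : w = 0 := @Subsingleton.elim _ hsub _ _
    rw [hw, map_zero]
  · intro y
    have h1 : Subsingleton (FT T (((dsgl (Mt T M))⟦(1 : ℤ)⟧)⟦((k + 1 : ℕ) : ℤ)⟧)) :=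
      subsingleton_of_shiftEquiv T (dsgl (Mt T M)) 1 ((k + 1 : ℕ) : ℤ) ((k + 1 + 1 : ℕ) : ℤ)
        (by push_cast; ring)
        (subsingleton_FT_single_of_torsT_eq_top T (k + 1) (Mt T M) (torsT_Mt_eq_top T M))
    exact (ses_exact_three T hS ((k + 1 : ℕ) : ℤ) y).mp (@Subsingleton.elim _ h1 _ _)

variable {T} in
/-- on `H_Z`, the kernel of the quotient map is killed by any ideal killing `Γ_T(M)` -/
theorem tors_step_ker (Z : Set (PrimeSpectrum A)) (J' : Ideal A)
    (hkill : ∀ c ∈ J', ∀ x : torsT T M, c • x = 0) (j : ℤ) (z : FT Z ((dsgl M)⟦j⟧))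
    (hz : (FTmap Z ((dmap (qT T M))⟦j⟧')).hom z = 0) : ∀ c ∈ J', c • z = 0 := by
  intro c hc
  have hS := torsSC_shortExact T M
  obtain ⟨w, rfl⟩ := (ses_exact_mid Z hS j z).mp hz
  have hw : c • w = 0 := smul_FT_single_eq_zero Z (Mt T M) c (hkill c hc) 0 j w
  exact (map_smul _ c w).symm.trans ((congrArg _ hw).trans (map_zero _))

variable {T} in
/-- on `H_Z`, the cokernel of the quotient map is killed by any ideal killing `Γ_T(M)` -/
theorem tors_step_coker (Z : Set (PrimeSpectrum A)) (J' : Ideal A)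
    (hkill : ∀ c ∈ J', ∀ x : torsT T M, c • x = 0) (j : ℤ) (y : FT Z ((dsgl (Mb T M))⟦j⟧)) :
    ∀ c ∈ J', c • y ∈ LinearMap.range (FTmap Z ((dmap (qT T M))⟦j⟧')).hom := by
  intro c hc
  have hS := torsSC_shortExact T M
  apply (ses_exact_three Z hS j (c • y)).mp
  have h1 : c • 𝟙 ((dsgl (Mt T M))⟦(1 : ℤ)⟧) = 0 := by
    have h2 : c • 𝟙 (Mt T M) = 0 := by
      apply ModuleCat.hom_ext
      apply LinearMap.ext
      intro x
      exact hkill c hc x
    have h3 : c • 𝟙 (dsgl (Mt T M)) = 0 := by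
      have : (singleFunctor (ModuleCat.{u} A) 0).map (c • 𝟙 (Mt T M)) = c • 𝟙 (dsgl (Mt T M)) := by
        rw [Functor.map_smul, CategoryTheory.Functor.map_id]
        rfl
      rw [← this, h2, Functor.map_zero]
      rfl
    rw [← CategoryTheory.Functor.map_id, ← Functor.map_smul, h3, Functor.map_zero]
  have h4 := smul_FT_eq_zero_of_smul_id Z c h1 j ((FTmap Z ((sesδ hS)⟦j⟧')).hom y)
  exact (map_smul _ c y).trans h4

end TorsStep

section InjStep

/-- all local cohomology of a torsion free injective module vanishes -/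
theorem subsingleton_FT_torsFree_injective (E : ModuleCat.{u} A) [Module.Injective A E]
    (h : torsT T E = ⊥) (j : ℤ) : Subsingleton (FT T ((dsgl E)⟦j⟧)) := by
  rcases lt_trichotomy j 0 with hj | hj | hj
  · exact subsingleton_FT_shift_of_neg T (dsgl E) j hj
  · subst hj
    exact subsingleton_FT_single_zero T E h
  · obtain ⟨k, rfl⟩ : ∃ k : ℕ, j = ((k + 1 : ℕ) : ℤ) :=
      ⟨(j - 1).toNat, by push_cast; rw [Int.toNat_of_nonneg (by omega)]; ring⟩
    exact subsingleton_FT_single_of_injective T E k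

/-- dimension shifting: a `T`-torsion free module `G` admits a module `M''` whose local cohomology
with supports in any `T₀ ⊆ T` is that of `G` shifted by one -/
theorem inj_step (G : ModuleCat.{u} A) (hG : torsT T G = ⊥) :
    ∃ (M'' : ModuleCat.{u} A), ∀ n : ℕ,
      ∃ ψ : (dsgl M'')⟦(n : ℤ)⟧ ⟶ (dsgl G)⟦((n + 1 : ℕ) : ℤ)⟧,
        ∀ T₀ : Set (PrimeSpectrum A), T₀ ⊆ T → Function.Bijective (FTmap T₀ ψ).hom := by
  obtain ⟨E, _, _, f, hEinj, hEtf, hf⟩ := exists_torsTFree_injective T G hG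
  let Em : ModuleCat.{u} A := ModuleCat.of A E
  haveI : Module.Injective A Em := hEinj
  let π : E →ₗ[A] (E ⧸ LinearMap.range f) := (LinearMap.range f).mkQ
  have hex : Function.Exact f π := LinearMap.exact_map_mkQ_range f
  let S := ModuleCat.shortComplexOfCompEqZero f π hex.linearMap_comp_eq_zero
  have hS : S.ShortExact :=
    ModuleCat.shortComplex_shortExact S hex hf (Submodule.mkQ_surjective _)
  refine ⟨S.X₃, fun n => ?_⟩
  let e : (dsgl G)⟦((n + 1 : ℕ) : ℤ)⟧ ≅ ((dsgl G)⟦(1 : ℤ)⟧)⟦(n : ℤ)⟧ :=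
    (shiftFunctorAdd' (Dual.D A) 1 (n : ℤ) ((n + 1 : ℕ) : ℤ) (by push_cast; ring)).app (dsgl G)
  refine ⟨(sesδ hS)⟦(n : ℤ)⟧' ≫ e.inv, fun T₀ hT₀ => ?_⟩
  have hEtf₀ : torsT T₀ Em = ⊥ := by
    rw [eq_bot_iff, ← hEtf]
    rintro x ⟨J, hJ, h⟩
    exact ⟨J, hJ.trans hT₀, h⟩
  have h1 : Function.Bijective (FTmap T₀ ((sesδ hS)⟦(n : ℤ)⟧')).hom := by
    constructor
    · exact ses_conn_injective T₀ hS n (subsingleton_FT_torsFree_injective T₀ Em hEtf₀ n)
    · exact ses_conn_surjective T₀ hS n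
        (subsingleton_of_shiftEquiv T₀ (dsgl Em) 1 n ((n + 1 : ℕ) : ℤ) (by push_cast; ring)
          (subsingleton_FT_torsFree_injective T₀ Em hEtf₀ _))
  have h2 : Function.Bijective (FTmap T₀ e.inv).hom := FTmap_iso_bijective T₀ e.symm
  have h3 : (FTmap T₀ ((sesδ hS)⟦(n : ℤ)⟧' ≫ e.inv)).hom =
      (FTmap T₀ e.inv).hom ∘ (FTmap T₀ ((sesδ hS)⟦(n : ℤ)⟧')).hom := by
    funext z
    exact FTmap_comp T₀ _ _ z
  rw [h3]
  exact h2.comp h1

end InjStep

end Groth.Agent.Lib.Helper14.Falt
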