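import Mathlib
import Groth.Agent.Lib.Helper14FaltD

/-! # The key lemma comparing `H^n_Z(M)` with `Γ_Z(H^n_T(M))` (helper14)

For `Z ⊆ T` and an ideal `J'` killing `H^a_T(M)` for all `a < n`, the kernel of
`H^n_Z(M) → H^n_T(M)` is killed by `J'^n`, and `J'^n` multiplies the `Z`-torsion of `H^n_T(M)`
into the image.  This replaces the spectral sequence `H^a_Z(H^b_T(M)) ⇒ H^{a+b}_Z(M)`. -/

set_option autoImplicit false
set_option linter.unusedVariables false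
set_option linter.unusedSectionVars false
set_option linter.style.haveILetI false
set_option maxHeartbeats 400000

universe u

open CategoryTheory CategoryTheory.Limits Opposite DerivedCategory Pretriangulated
  CategoryTheory.Abelian

attribute [local instance] HasDerivedCategory.standard

namespace Groth.Agent.Lib.Helper14.Falt

open Groth.Agent.Lib.Helper14.HDT Groth.Agent.Lib.Helper17.Hyp

variable {A : Type u} [CommRing A] [IsNoetherianRing A] {Z T : Set (PrimeSpectrum A)} (hZT : Z ⊆ T)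

/-- an ideal killing `H^0_T(M)` kills the `T`-torsion of `M` -/
theorem kill_torsT_of_kill_H0 (M : ModuleCat.{u} A) (J' : Ideal A)
    (h : ∀ c ∈ J', ∀ y : FT T ((dsgl M)⟦(0 : ℤ)⟧), c • y = 0) :
    ∀ c ∈ J', ∀ x : torsT T M, c • x = 0 := by
  intro c hc x
  obtain ⟨J₀, hJ₀, hx⟩ := x.2
  obtain ⟨x', hx'⟩ := exists_ev₀_eq M J₀ (x : M) hx
  have h1 := h c hc (ι T _ (mkI T J₀ hJ₀) x')
  have h1' : ι T ((dsgl M)⟦(0 : ℤ)⟧) (mkI T J₀ hJ₀) (c • x') = 0 :=
    (map_smul (ι T ((dsgl M)⟦(0 : ℤ)⟧) (mkI T J₀ hJ₀)) c x').trans h1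
  obtain ⟨Y, hle, h2⟩ := (ι_eq_zero_iff T _ (X := mkI T J₀ hJ₀) (c • x')).mp h1'
  have h3 : ev₀ M Y.obj (qD hle ≫ (c • x')) = 0 := by rw [h2, map_zero]
  have h4 : ev₀ M Y.obj (qD hle ≫ (c • x')) = ev₀ M J₀ (c • x') :=
    ev₀_qD M (J' := Y.obj) (J := J₀) hle (c • x')
  rw [h4, map_smul, hx'] at h3
  exact Subtype.ext h3

/-- the statement of the key lemma in degree `n` -/
def KLP (n : ℕ) : Prop := ∀ (M : ModuleCat.{u} A) (J' : Ideal A),
  (∀ a : ℕ, a < n → ∀ c ∈ J', ∀ y : FT T ((dsgl M)⟦(a : ℤ)⟧), c • y = 0) →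
  (∀ z : FT Z ((dsgl M)⟦(n : ℤ)⟧), cs hZT _ z = 0 → ∀ c ∈ J' ^ n, c • z = 0) ∧
  (∀ y : FT T ((dsgl M)⟦(n : ℤ)⟧), y ∈ torsT Z (FT T ((dsgl M)⟦(n : ℤ)⟧)) →
     ∀ c ∈ J' ^ n, c • y ∈ LinearMap.range (cs hZT ((dsgl M)⟦(n : ℤ)⟧)))

theorem klp_zero : KLP hZT 0 := by
  intro M J' _
  haveI : (dsgl M).IsGE ((0 : ℕ) : ℤ) := by
    rw [Nat.cast_zero]
    infer_instance
  constructor
  · intro z hz c _
    have h0 : z = 0 := cs_injective_lowest hZT (dsgl M) ((0 : ℕ) : ℤ) (hz.trans (map_zero _).symm)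
    rw [h0, smul_zero]
  · intro y hy c _
    exact Submodule.smul_mem _ c (mem_range_cs_lowest hZT (dsgl M) ((0 : ℕ) : ℤ) y hy)

theorem klp_succ (n : ℕ) (ih : KLP hZT n) : KLP hZT (n + 1) := by
  intro M J' hyp
  have hkill : ∀ c ∈ J', ∀ x : torsT T M, c • x = 0 :=
    kill_torsT_of_kill_H0 M J' (hyp 0 (Nat.succ_pos n))
  have hG : torsT T (Mb T M) = ⊥ := torsT_quotient_eq_bot T M
  obtain ⟨M'', hψ⟩ := inj_step T (Mb T M) hG
  have hpT := tors_step_bijective T M n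
  obtain ⟨ψ, hψn⟩ := hψ n
  have hψT := hψn T subset_rfl
  have hψZ := hψn Z hZT
  have hyp'' : ∀ a : ℕ, a < n → ∀ c ∈ J', ∀ y : FT T ((dsgl M'')⟦(a : ℤ)⟧), c • y = 0 := by
    intro a ha c hc y
    obtain ⟨ψa, hψa⟩ := hψ a
    apply (hψa T subset_rfl).1
    rw [map_zero, map_smul]
    obtain ⟨w, hw⟩ := (tors_step_bijective T M a).2 ((FTmap T ψa).hom y)
    rw [← hw, ← map_smul, hyp (a + 1) (by omega) c hc w, map_zero]
  obtain ⟨hK'', hC''⟩ := ih M'' J' hyp''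
  constructor
  · intro z hz c hc
    rw [pow_succ] at hc
    refine Submodule.mul_induction_on hc ?_ ?_
    · intro c₁ hc₁ c₂ hc₂
      obtain ⟨z'', hz''⟩ := hψZ.2 ((FTmap Z ((dmap (qT T M))⟦((n + 1 : ℕ) : ℤ)⟧')).hom z)
      have hcs : cs hZT _ z'' = 0 := by
        apply hψT.1
        rw [map_zero, ← cs_FTmap, hz'', cs_FTmap, hz, map_zero]
      have h1 := hK'' z'' hcs c₁ hc₁
      have h2 : (FTmap Z ((dmap (qT T M))⟦((n + 1 : ℕ) : ℤ)⟧')).hom (c₁ • z) = 0 := by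
        rw [map_smul, ← hz'', ← map_smul, h1, map_zero]
      have h3 := tors_step_ker M Z J' hkill _ (c₁ • z) h2 c₂ hc₂
      rw [mul_smul, smul_comm]
      exact h3
    · intro c c' h h'
      rw [add_smul, h, h', add_zero]
  · intro y hy c hc
    rw [pow_succ] at hc
    refine Submodule.mul_induction_on hc ?_ ?_
    · intro c₁ hc₁ c₂ hc₂
      obtain ⟨y'', hy''⟩ := hψT.2 ((FTmap T ((dmap (qT T M))⟦((n + 1 : ℕ) : ℤ)⟧')).hom y)
      have hy''t : y'' ∈ torsT Z (FT T ((dsgl M'')⟦(n : ℤ)⟧)) := by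
        obtain ⟨𝔟, h𝔟, hb⟩ := hy
        refine ⟨𝔟, h𝔟, fun b hbb => hψT.1 ?_⟩
        rw [map_zero, map_smul, hy'', ← map_smul, hb b hbb, map_zero]
      obtain ⟨z'', hz''⟩ := hC'' y'' hy''t c₁ hc₁
      obtain ⟨z, hz⟩ := tors_step_coker M Z J' hkill _ ((FTmap Z ψ).hom z'') c₂ hc₂
      refine ⟨z, ?_⟩
      apply hpT.1
      rw [← cs_FTmap, hz, map_smul, cs_FTmap, hz'', map_smul, hy'', ← map_smul, ← map_smul,
        mul_smul, smul_comm]
    · intro c c' h h'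
      rw [add_smul]
      exact Submodule.add_mem _ h h'

/-- the key lemma -/
theorem klp (n : ℕ) : KLP hZT n := by
  induction n with
  | zero => exact klp_zero hZT
  | succ n ih => exact klp_succ hZT n ih

end Groth.Agent.Lib.Helper14.Falt
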