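import Mathlib
import Groth.Agent.Lib.Helper14FaltE

/-! # The torsion step for complexes (helper14)

Generic consequences of the long exact sequence of `H_Z` for a distinguished triangle, and the
passage from `L ∈ D^{≥0}` to the cone of `Γ_T(H^0 L)[0] → L`. -/

set_option autoImplicit false
set_option linter.unusedVariables false
set_option linter.unusedSectionVars false
set_option linter.style.haveILetI false
set_option maxHeartbeats 400000

universe u

open CategoryTheory CategoryTheory.Limits Opposite DerivedCategory Pretriangulated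
  CategoryTheory.Abelian

attribute [local instance] HasDerivedCategory.standard

namespace Groth.Agent.Lib.Helper14.FaltCx

open Groth.Agent.Lib.Helper14.HDT Groth.Agent.Lib.Helper17.Hyp Groth.Agent.Lib.Helper14.Falt
  Groth.Agent.S14388

variable {A : Type u} [CommRing A] (T : Set (PrimeSpectrum A))

section Tri

variable (Z : Set (PrimeSpectrum A)) (S : Triangle (Dual.D A)) (hS : S ∈ distTriang (Dual.D A))

include hS in
/-- the kernel of `H_Z(obj₂) → H_Z(obj₃)` is killed by an element killing `obj₁` -/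
theorem tri_ker (c : A) (hc : c • 𝟙 S.obj₁ = 0) (j : ℤ) (z : FT Z (S.obj₂⟦j⟧))
    (hz : (FTmap Z (S.mor₂⟦j⟧')).hom z = 0) : c • z = 0 := by
  obtain ⟨w, rfl⟩ := (les_mid Z S hS j z).mp hz
  have hw : c • w = 0 := smul_FT_eq_zero_of_smul_id Z c hc j w
  exact (map_smul _ c w).symm.trans ((congrArg _ hw).trans (map_zero _))

include hS in
/-- the cokernel of `H_Z(obj₂) → H_Z(obj₃)` is killed by an element killing `obj₁` -/
theorem tri_coker (c : A) (hc : c • 𝟙 S.obj₁ = 0) (j : ℤ) (y : FT Z (S.obj₃⟦j⟧)) :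
    c • y ∈ LinearMap.range (FTmap Z (S.mor₂⟦j⟧')).hom := by
  apply (les_three Z S hS j (c • y)).mp
  have h1 : c • 𝟙 (S.obj₁⟦(1 : ℤ)⟧) = 0 := by
    rw [← CategoryTheory.Functor.map_id, ← Functor.map_smul, hc, Functor.map_zero]
  have h4 := smul_FT_eq_zero_of_smul_id Z c h1 j ((FTmap Z (S.mor₃⟦j⟧')).hom y)
  exact (map_smul _ c y).trans h4

include hS in
/-- `H_Z(obj₂) → H_Z(obj₃)` is bijective when `H_Z(obj₁)` vanishes in the two relevant degrees -/
theorem tri_bijective (j : ℤ) (h1 : Subsingleton (FT Z (S.obj₁⟦j⟧)))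
    (h2 : Subsingleton (FT Z ((S.obj₁⟦(1 : ℤ)⟧)⟦j⟧))) :
    Function.Bijective (FTmap Z (S.mor₂⟦j⟧')).hom := by
  constructor
  · rw [injective_iff_map_eq_zero]
    intro z hz
    obtain ⟨w, rfl⟩ := (les_mid Z S hS j z).mp hz
    rw [@Subsingleton.elim _ h1 w 0, map_zero]
  · intro y
    exact (les_three Z S hS j y).mp (@Subsingleton.elim _ h2 _ _)

end Tri

section TorsStep

variable [IsNoetherianRing A]

/-- an element killing a module kills its image in `D(A)` -/
lemma smul_id_dsgl_eq_zero (P : ModuleCat.{u} A) (c : A) (h : ∀ x : P, c • x = 0) :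
    c • 𝟙 (dsgl P) = 0 := by
  have h2 : c • 𝟙 P = 0 := by
    apply ModuleCat.hom_ext
    apply LinearMap.ext
    intro x
    exact h x
  have : (singleFunctor (ModuleCat.{u} A) 0).map (c • 𝟙 P) = c • 𝟙 (dsgl P) := by
    rw [Functor.map_smul, CategoryTheory.Functor.map_id]
    rfl
  rw [← this, h2, Functor.map_zero]
  rfl

lemma torsT_PT_eq_top (L : Dual.D A) : torsT T (PT T L) = ⊤ := by
  rw [eq_top_iff]
  rintro ⟨e, J, hJ, h⟩ -
  exact ⟨J, hJ, fun a ha => Subtype.ext (h a ha)⟩

/-- **Torsion step.** For `L ∈ D^{≥0}` there is `α : L ⟶ C` with `C ∈ D^{≥0}`, `H^0(C)` without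
`T`-torsion, inducing bijections on `H^k_T` for `k > 0`, and whose kernel and cokernel on every
`H^j_Z` are killed by any ideal killing `Γ_T(H^0 L)`. -/
theorem tors_step_cx (L : Dual.D A) [L.IsGE 0] :
    ∃ (C : Dual.D A) (α : L ⟶ C), C.IsGE 0 ∧
      torsT T ((homologyFunctor (ModuleCat.{u} A) 0).obj C) = ⊥ ∧
      (∀ k : ℕ, Function.Bijective (FTmap T (α⟦((k + 1 : ℕ) : ℤ)⟧')).hom) ∧
      (∀ (Z : Set (PrimeSpectrum A)) (J' : Ideal A),
        (∀ c ∈ J', ∀ x : torsT T ((homologyFunctor (ModuleCat.{u} A) 0).obj L), c • x = 0) →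
        ∀ j : ℤ,
          (∀ z : FT Z (L⟦j⟧), (FTmap Z (α⟦j⟧')).hom z = 0 → ∀ c ∈ J', c • z = 0) ∧
          (∀ y : FT Z (C⟦j⟧), ∀ c ∈ J', c • y ∈ LinearMap.range (FTmap Z (α⟦j⟧')).hom)) := by
  obtain ⟨ξ, hξ⟩ := (bijective_c₀_of_isGE (PT T L) L).2 (inclT T L)
  have hξ' : c₀ ξ = inclT T L := hξ
  obtain ⟨C, α, β, hS⟩ := distinguished_cocone_triangle ξ
  have hmono := mono_homology_ξ T L ξ hξ'
  have hGE : C.IsGE 0 :=
    isGE_cone (Triangle.mk ξ α β) hS (inferInstanceAs ((dsgl (PT T L)).IsGE 0))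
      (inferInstanceAs (L.IsGE 0)) hmono
  refine ⟨C, α, hGE, ?_, ?_, ?_⟩
  · -- `H^0(C)` has no `T`-torsion
    rw [eq_bot_iff]
    intro c hc
    rw [Submodule.mem_bot]
    obtain ⟨J, hJ, hJc⟩ := hc
    have hepi : Epi ((homologyFunctor (ModuleCat.{u} A) 0).map α) :=
      (HomologySequence.epi_homologyMap_mor₂_iff (Triangle.mk ξ α β) hS 0 1 rfl).mpr
        ((isZero_homology_of_amp (dsgl (PT T L)) 0 1 (by omega)).eq_of_tgt _ _)
    obtain ⟨l, rfl⟩ := (ModuleCat.epi_iff_surjective _).mp hepi c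
    have hex := (HomologySequence.exact₂ (Triangle.mk ξ α β) hS 0).moduleCat_range_eq_ker
    -- elements of the kernel of `H^0(α)` are torsion
    have hkerT : ∀ l' : (homologyFunctor (ModuleCat.{u} A) 0).obj L,
        ((homologyFunctor (ModuleCat.{u} A) 0).map α).hom l' = 0 →
        l' ∈ torsT T ((homologyFunctor (ModuleCat.{u} A) 0).obj L) := by
      intro l' hl'
      have hker' : l' ∈ LinearMap.range ((homologyFunctor (ModuleCat.{u} A) 0).map ξ).hom := by
        rw [show LinearMap.range ((homologyFunctor (ModuleCat.{u} A) 0).map ξ).hom =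
          LinearMap.ker ((homologyFunctor (ModuleCat.{u} A) 0).map α).hom from hex]
        exact hl'
      obtain ⟨p', hp'⟩ := hker'
      have hp'' : (c₀ ξ).hom ((e₀ (PT T L)).hom.hom p') = l' := by
        rw [c₀_apply]
        have : (e₀ (PT T L)).inv.hom ((e₀ (PT T L)).hom.hom p') = p' :=
          congrArg (fun g => g.hom p') (e₀ (PT T L)).hom_inv_id
        rw [this]
        exact hp'
      rw [← hp'', hξ']
      exact Subtype.property _
    have hl : l ∈ torsT T ((homologyFunctor (ModuleCat.{u} A) 0).obj L) := by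
      refine mem_torsT_of_smul_mem' T l J hJ (fun a ha => hkerT _ ?_)
      rw [map_smul]
      exact hJc a ha
    -- so `l` is in the range of `H^0(ξ)`
    have hl' : (c₀ ξ).hom (⟨l, hl⟩ : torsT T ((homologyFunctor (ModuleCat.{u} A) 0).obj L)) = l := by
      rw [hξ']
      rfl
    rw [c₀_apply] at hl'
    rw [← hl']
    have hz : (homologyFunctor (ModuleCat.{u} A) 0).map ξ ≫
        (homologyFunctor (ModuleCat.{u} A) 0).map α = 0 := by
      rw [← Functor.map_comp]
      have h' : ξ ≫ α = 0 := comp_distTriang_mor_zero₁₂ _ hS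
      rw [h', Functor.map_zero]
    exact congrArg (fun g => g.hom ((e₀ (PT T L)).inv.hom ⟨l, hl⟩)) hz
  · intro k
    refine tri_bijective T (Triangle.mk ξ α β) hS ((k + 1 : ℕ) : ℤ) ?_ ?_
    · exact subsingleton_FT_single_of_torsT_eq_top T k (PT T L) (torsT_PT_eq_top T L)
    · exact subsingleton_of_shiftEquiv T (dsgl (PT T L)) 1 ((k + 1 : ℕ) : ℤ) ((k + 1 + 1 : ℕ) : ℤ)
        (by push_cast; ring)
        (subsingleton_FT_single_of_torsT_eq_top T (k + 1) (PT T L) (torsT_PT_eq_top T L))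
  · intro Z J' hkill j
    have hc0 : ∀ c ∈ J', c • 𝟙 (dsgl (PT T L)) = 0 := fun c hc =>
      smul_id_dsgl_eq_zero (PT T L) c (hkill c hc)
    exact ⟨fun z hz c hc => tri_ker Z (Triangle.mk ξ α β) hS c (hc0 c hc) j z hz,
      fun y c hc => tri_coker Z (Triangle.mk ξ α β) hS c (hc0 c hc) j y⟩

end TorsStep

end Groth.Agent.Lib.Helper14.FaltCx
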