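import Mathlib
import Groth.Agent.Lib.Helper14HDIA
import Groth.Agent.Lib.Helper10RGamG
import Groth.Agent.Lib.Helper5BiDualB
import Groth.Agent.S14388

/-! # Vanishing lemmas and truncation invariance for `colim_k Hom(A/I^k, -)` and `Hom(-, ω)`
(helper14) -/

set_option autoImplicit false
set_option linter.unusedVariables false
set_option linter.unusedSectionVars false
set_option linter.style.haveILetI false
set_option maxHeartbeats 400000

universe u

open CategoryTheory CategoryTheory.Limits Opposite DerivedCategory Pretriangulated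

attribute [local instance] HasDerivedCategory.standard

namespace Groth.Agent.Lib.Helper14.HDI

open Groth.Agent.Lib.Helper10.RGamA Groth.Agent.Lib.Helper10.RGamB Groth.Agent.S14388
open Groth.Agent.Lib.Helper1.ExtCech

variable {A : Type u} [CommRing A]

section Triangles

variable (I : Ideal A)

/-- `Hom(obj₃, Y) → Hom(obj₂, Y)` is bijective if `Hom(obj₁, Y)` and `Hom(obj₁[1], Y)` vanish -/
theorem hom_bijective_of_left_zero (T : Triangle (Dual.D A)) (hT : T ∈ distTriang (Dual.D A))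
    (Y : Dual.D A) (h1 : ∀ g : T.obj₁ ⟶ Y, g = 0) (h1' : ∀ g : T.obj₁⟦(1 : ℤ)⟧ ⟶ Y, g = 0) :
    Function.Bijective (fun g : T.obj₃ ⟶ Y => T.mor₂ ≫ g) := by
  constructor
  · intro g g' h
    have h0 : T.mor₂ ≫ (g - g') = 0 := by
      rw [Preadditive.comp_sub]
      exact sub_eq_zero.mpr h
    obtain ⟨k, hk⟩ := Triangle.yoneda_exact₃ T hT (g - g') h0
    rw [h1' k, comp_zero] at hk
    exact sub_eq_zero.mp hk
  · intro f
    obtain ⟨g, hg⟩ := Triangle.yoneda_exact₂ T hT f (h1 _)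
    exact ⟨g, hg.symm⟩

/-- `Hom(obj₂, Y) → Hom(obj₁, Y)` is bijective if `Hom(obj₃, Y)` and `Hom(obj₃[-1], Y)` vanish -/
theorem hom_bijective_of_right_zero (T : Triangle (Dual.D A)) (hT : T ∈ distTriang (Dual.D A))
    (Y : Dual.D A) (h3 : ∀ g : T.obj₃ ⟶ Y, g = 0) (h3' : ∀ g : T.obj₃⟦(-1 : ℤ)⟧ ⟶ Y, g = 0) :
    Function.Bijective (fun g : T.obj₂ ⟶ Y => T.mor₁ ≫ g) := by
  constructor
  · intro g g' h
    have h0 : T.mor₁ ≫ (g - g') = 0 := by
      rw [Preadditive.comp_sub]
      exact sub_eq_zero.mpr h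
    obtain ⟨k, hk⟩ := Triangle.yoneda_exact₂ T hT (g - g') h0
    rw [h3 k, comp_zero] at hk
    exact sub_eq_zero.mp hk
  · intro f
    have hI := inv_rot_of_distTriang T hT
    obtain ⟨g, hg⟩ := Triangle.yoneda_exact₂ T.invRotate hI f (h3' _)
    exact ⟨g, hg.symm⟩

/-- `F0(obj₂) → F0(obj₃)` is bijective if `F0(obj₁)` and `F0(obj₁[1])` vanish -/
theorem F0_bijective_of_left_zero (T : Triangle (Dual.D A)) (hT : T ∈ distTriang (Dual.D A))
    (h1 : Subsingleton (F0 I T.obj₁)) (h1' : Subsingleton (F0 I (T.obj₁⟦(1 : ℤ)⟧))) :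
    Function.Bijective (F0map I T.mor₂).hom := by
  constructor
  · rw [injective_iff_map_eq_zero]
    intro z hz
    obtain ⟨y, rfl⟩ := F0_exact I T hT z hz
    rw [Subsingleton.elim y 0, map_zero]
  · intro w
    have hR := rot_of_distTriang T hT
    exact F0_exact I T.rotate hR w (@Subsingleton.elim _ h1' _ _)

/-- `F0(obj₁) → F0(obj₂)` is bijective if `F0(obj₃)` and `F0(obj₃[-1])` vanish -/
theorem F0_bijective_of_right_zero (T : Triangle (Dual.D A)) (hT : T ∈ distTriang (Dual.D A))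
    (h3 : Subsingleton (F0 I T.obj₃)) (h3' : Subsingleton (F0 I (T.obj₃⟦(-1 : ℤ)⟧))) :
    Function.Bijective (F0map I T.mor₁).hom := by
  constructor
  · rw [injective_iff_map_eq_zero]
    intro z hz
    have hI := inv_rot_of_distTriang T hT
    obtain ⟨y, rfl⟩ := F0_exact I T.invRotate hI z hz
    have hy : y = 0 := @Subsingleton.elim _ h3' y 0
    rw [hy]
    exact map_zero (F0map I T.invRotate.mor₁).hom
  · intro w
    exact F0_exact I T hT w (@Subsingleton.elim _ h3 _ _)

end Triangles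

section Vanishing

variable (I : Ideal A)

/-- `F0` vanishes on `D^{>0}` -/
theorem subsingleton_F0_of_isGE (L : Dual.D A) (c : ℤ) (hc : 0 < c) [L.IsGE c] :
    Subsingleton (F0 I L) := by
  refine ⟨fun z z' => ?_⟩
  obtain ⟨k, x, rfl⟩ := exists_rep I L z
  obtain ⟨k', x', rfl⟩ := exists_rep I L z'
  have h1 : x = 0 := TStructure.t.zero x 0 c hc
  have h2 : x' = 0 := TStructure.t.zero x' 0 c hc
  rw [h1, h2, map_zero, map_zero]

/-- cohomological dimension of `Γ_I` on complexes of injectives: bounded by the number of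
generators -/
lemma isZero_homology_G_span_of_bound [IsNoetherianRing A] (fs : List A) {C : DRing.Cx A}
    (hC : TI C) (c : ℤ) (h : ∀ j : ℤ, c < j → IsZero (C.homology j)) :
    ∀ j : ℤ, c + fs.length < j →
      IsZero (((G (Ideal.span {x : A | x ∈ fs})).obj C).homology j) := by
  induction fs with
  | nil =>
    intro j hj
    have h0 : Ideal.span {x : A | x ∈ ([] : List A)} = ⊥ := by simp
    rw [h0]
    haveI := isIso_ιC_bot C
    exact (h j (by simpa using hj)).of_iso
      ((HomologicalComplex.homologyFunctor _ _ j).mapIso (asIso (ιC (⊥ : Ideal A) C)))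
  | cons f fs ih =>
    intro j hj
    rw [span_cons]
    have hS := sc_shortExact (Ideal.span {x : A | x ∈ fs}) f hC
    have hlen : ((f :: fs).length : ℤ) = fs.length + 1 := by simp
    have h3 : IsZero ((sc (Ideal.span {x : A | x ∈ fs}) f C).X₃.homology (j - 1)) := by
      apply isZero_homology_loc
      haveI : Subsingleton (((G (Ideal.span {x : A | x ∈ fs})).obj C).homology (j - 1)) :=
        ModuleCat.subsingleton_of_isZero (ih (j - 1) (by lia))
      exact PT_of_subsingleton f _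
    exact (hS.homology_exact₁ (j - 1) j (by simp)).isZero_of_both_zeros
      (h3.eq_of_src _ _) ((ih j (by lia)).eq_of_tgt _ _)

open Groth.Agent.Lib.Helper10.RGamG in
/-- `colim_k Hom(A/I^k, L)` vanishes for `L ∈ D^{≤ c}` with `c + (number of generators) < 0` -/
theorem subsingleton_F0_of_isLE [IsNoetherianRing A] (fs : List A) (L : Dual.D A) (c : ℤ)
    [L.IsLE c] (hc : c + fs.length < 0) :
    Subsingleton (F0 (Ideal.span {x : A | x ∈ fs}) L) := by
  obtain ⟨J, hJ, hTI, ⟨e⟩⟩ := exists_TI_model L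
  obtain ⟨E1⟩ := mainQ (Ideal.span {x : A | x ∈ fs}) J e.symm 0
  have hJ' : ∀ j : ℤ, c < j → IsZero (J.homology j) := by
    intro j hj
    have h1 : IsZero ((homologyFunctor (ModuleCat.{u} A) j).obj L) := L.isZero_of_isLE c j hj
    exact (h1.of_iso ((homologyFunctor (ModuleCat.{u} A) j).mapIso e)).of_iso
      ((homologyFunctorFactors (ModuleCat.{u} A) j).app J).symm
  have hz := isZero_homology_G_span_of_bound fs hTI c hJ' 0 hc
  haveI : Subsingleton (((G (Ideal.span {x : A | x ∈ fs})).obj J).homology 0) :=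
    ModuleCat.subsingleton_of_isZero hz
  haveI h2 : Subsingleton (Dual2.HDI A (Ideal.span {x : A | x ∈ fs}) L 0) :=
    E1.toEquiv.subsingleton_congr.mpr inferInstance
  have hb := F0map_iso_bijective (Ideal.span {x : A | x ∈ fs})
    ((shiftFunctorZero (Dual.D A) ℤ).app L)
  haveI : Subsingleton (F0 (Ideal.span {x : A | x ∈ fs}) (L⟦(0 : ℤ)⟧)) := h2
  exact hb.2.subsingleton

open Groth.Agent.Lib.Helper5.BiDual in
/-- maps from `D^{≥ c}` to a complex of injectives vanishing above `b < c` are zero -/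
theorem hom_eq_zero_of_isGE {ω : Dual.D A} (R : Res ω) (X : Dual.D A) (c : ℤ) [X.IsGE c]
    (hc : R.b < c) (g : X ⟶ ω) : g = 0 := by
  obtain ⟨X', hX', ⟨eX⟩⟩ := exists_iso_Q_obj_of_isGE X c
  obtain ⟨φ, hφ⟩ := exists_Q_map_eq (L := R.E) (eX.inv ≫ g ≫ R.e.inv)
  have hφ0 : φ = 0 := by
    refine HomologicalComplex.hom_ext _ _ fun p => ?_
    by_cases hp : p < c
    · exact (X'.isZero_of_isStrictlyGE c p hp).eq_of_src _ _
    · exact (R.van p (Or.inr (by lia))).eq_of_tgt _ _
  rw [hφ0, Functor.map_zero] at hφ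
  have h1 : g ≫ R.e.inv = 0 := (cancel_epi eX.inv).mp (hφ.symm.trans comp_zero.symm)
  exact (cancel_mono R.e.inv).mp (h1.trans zero_comp.symm)

end Vanishing

section Reduction

open Groth.Agent.Lib.Helper5.BiDual

variable [IsNoetherianRing A]

/-- reduction to a bounded truncation: both `Hom(-, ω)` and `colim_k Hom(A/I^k, -)` only depend
on a bounded truncation of `L` -/
theorem exists_bounded_model (ω : Dual.D A) (R : Res ω) (d : ℤ) [ω.IsGE d] (fs : List A)
    (L : Dual.D A)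
    (hL : ∀ i : ℤ, Module.Finite A ((homologyFunctor (ModuleCat.{u} A) i).obj L)) :
    ∃ (L' : Dual.D A) (a b : ℤ),
      (∀ i : ℤ, (i < a ∨ b < i) → IsZero ((homologyFunctor (ModuleCat.{u} A) i).obj L')) ∧
      (∀ i : ℤ, Module.Finite A ((homologyFunctor (ModuleCat.{u} A) i).obj L')) ∧
      Nonempty ((L ⟶ ω) ≃ₗ[A] (L' ⟶ ω)) ∧
      Nonempty (F0 (Ideal.span {x : A | x ∈ fs}) L ≃ₗ[A] F0 (Ideal.span {x : A | x ∈ fs}) L') := by
  obtain ⟨a, ha⟩ : ∃ a : ℤ, a = min d (-(fs.length : ℤ)) - 1 := ⟨_, rfl⟩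
  obtain ⟨b, hb⟩ : ∃ b : ℤ, b = max 0 R.b := ⟨_, rfl⟩
  have ha1 : a - 1 < d := by
    have := min_le_left d (-(fs.length : ℤ)); lia
  have ha2 : a - 1 + (fs.length : ℤ) < 0 := by
    have := min_le_right d (-(fs.length : ℤ)); lia
  have hb1 : R.b < b + 1 := by
    have := le_max_right 0 R.b; lia
  have hb2 : 0 < b + 1 := by
    have := le_max_left 0 R.b; lia
  -- first truncation
  have hT1 := tt.triangleLTGE_distinguished a L
  haveI hN : ((tt.truncLT a).obj L).IsLE (a - 1) := inferInstance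
  haveI hN1 : TStructure.t.IsLE (((tt.truncLT a).obj L)⟦(1 : ℤ)⟧) (a - 2) :=
    TStructure.t.isLE_shift ((tt.truncLT a).obj L) (a - 1) 1 (a - 2)
  have hz1 : ∀ g : (tt.truncLT a).obj L ⟶ ω, g = 0 :=
    fun g => TStructure.t.zero g (a - 1) d ha1
  have hz1' : ∀ g : ((tt.truncLT a).obj L)⟦(1 : ℤ)⟧ ⟶ ω, g = 0 :=
    fun g => TStructure.t.zero g (a - 2) d (by lia)
  have e1b := hom_bijective_of_left_zero ((tt.triangleLTGE a).obj L) hT1 ω hz1 hz1'
  have hs1 : Subsingleton (F0 (Ideal.span {x : A | x ∈ fs}) ((tt.truncLT a).obj L)) :=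
    subsingleton_F0_of_isLE fs ((tt.truncLT a).obj L) (a - 1) ha2
  have hs1' : Subsingleton (F0 (Ideal.span {x : A | x ∈ fs})
      (((tt.truncLT a).obj L)⟦(1 : ℤ)⟧)) :=
    subsingleton_F0_of_isLE fs (((tt.truncLT a).obj L)⟦(1 : ℤ)⟧) (a - 2) (by lia)
  have f1b := F0_bijective_of_left_zero (Ideal.span {x : A | x ∈ fs})
    ((tt.triangleLTGE a).obj L) hT1 hs1 hs1'
  -- second truncation
  have hT2 := tt.triangleLTGE_distinguished (b + 1) ((tt.truncGE a).obj L)
  haveI hP : ((tt.truncGE (b + 1)).obj ((tt.truncGE a).obj L)).IsGE (b + 1) := inferInstance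
  haveI hP1 : TStructure.t.IsGE
      (((tt.truncGE (b + 1)).obj ((tt.truncGE a).obj L))⟦(-1 : ℤ)⟧) (b + 2) :=
    TStructure.t.isGE_shift ((tt.truncGE (b + 1)).obj ((tt.truncGE a).obj L)) (b + 1) (-1) (b + 2)
  have hz2 : ∀ g : (tt.truncGE (b + 1)).obj ((tt.truncGE a).obj L) ⟶ ω, g = 0 :=
    fun g => hom_eq_zero_of_isGE R _ (b + 1) hb1 g
  have hz2' : ∀ g : ((tt.truncGE (b + 1)).obj ((tt.truncGE a).obj L))⟦(-1 : ℤ)⟧ ⟶ ω, g = 0 :=
    fun g => hom_eq_zero_of_isGE R _ (b + 2) (by lia) g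
  have e2b := hom_bijective_of_right_zero
    ((tt.triangleLTGE (b + 1)).obj ((tt.truncGE a).obj L)) hT2 ω hz2 hz2'
  have hs2 : Subsingleton (F0 (Ideal.span {x : A | x ∈ fs})
      ((tt.truncGE (b + 1)).obj ((tt.truncGE a).obj L))) :=
    subsingleton_F0_of_isGE _ _ (b + 1) hb2
  have hs2' : Subsingleton (F0 (Ideal.span {x : A | x ∈ fs})
      (((tt.truncGE (b + 1)).obj ((tt.truncGE a).obj L))⟦(-1 : ℤ)⟧)) :=
    subsingleton_F0_of_isGE _ _ (b + 2) (by lia)
  have f2b := F0_bijective_of_right_zero (Ideal.span {x : A | x ∈ fs})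
    ((tt.triangleLTGE (b + 1)).obj ((tt.truncGE a).obj L)) hT2 hs2 hs2'
  -- cohomology of the truncations
  have hL1 : ∀ i : ℤ, a ≤ i → Nonempty ((homologyFunctor (ModuleCat.{u} A) i).obj L ≅
      (homologyFunctor (ModuleCat.{u} A) i).obj ((tt.truncGE a).obj L)) := by
    intro i hi
    have := isIso_homology_truncGEπ a i hi L
    exact ⟨asIso ((homologyFunctor (ModuleCat.{u} A) i).map ((tt.truncGEπ a).app L))⟩
  have hL1z : ∀ i : ℤ, i < a →
      IsZero ((homologyFunctor (ModuleCat.{u} A) i).obj ((tt.truncGE a).obj L)) :=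
    fun i hi => ((tt.truncGE a).obj L).isZero_of_isGE a i hi
  have hL2 : ∀ i : ℤ, i < b + 1 → Nonempty
      ((homologyFunctor (ModuleCat.{u} A) i).obj ((tt.truncLT (b + 1)).obj ((tt.truncGE a).obj L)) ≅
      (homologyFunctor (ModuleCat.{u} A) i).obj ((tt.truncGE a).obj L)) := by
    intro i hi
    have := isIso_homology_truncLTι (b + 1) i hi ((tt.truncGE a).obj L)
    exact ⟨asIso ((homologyFunctor (ModuleCat.{u} A) i).map
      ((tt.truncLTι (b + 1)).app ((tt.truncGE a).obj L)))⟩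
  haveI hL'LE : ((tt.truncLT (b + 1)).obj ((tt.truncGE a).obj L)).IsLE b := by
    have h1 : tt.IsLE ((tt.truncLT (b + 1)).obj ((tt.truncGE a).obj L)) (b + 1 - 1) :=
      inferInstance
    have h2 : b + 1 - 1 = b := by ring
    rwa [h2] at h1
  refine ⟨(tt.truncLT (b + 1)).obj ((tt.truncGE a).obj L), a, b, ?_, ?_, ?_, ?_⟩
  · rintro i (hi | hi)
    · obtain ⟨e⟩ := hL2 i (by lia)
      exact (hL1z i hi).of_iso e
    · exact ((tt.truncLT (b + 1)).obj ((tt.truncGE a).obj L)).isZero_of_isLE b i hi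
  · intro i
    by_cases hib : b < i
    · haveI : Subsingleton ((homologyFunctor (ModuleCat.{u} A) i).obj
          ((tt.truncLT (b + 1)).obj ((tt.truncGE a).obj L))) :=
        ModuleCat.subsingleton_of_isZero
          (((tt.truncLT (b + 1)).obj ((tt.truncGE a).obj L)).isZero_of_isLE b i hib)
      infer_instance
    · obtain ⟨e2⟩ := hL2 i (by lia)
      by_cases hia : i < a
      · haveI : Subsingleton ((homologyFunctor (ModuleCat.{u} A) i).obj
            ((tt.truncLT (b + 1)).obj ((tt.truncGE a).obj L))) :=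
          ModuleCat.subsingleton_of_isZero ((hL1z i hia).of_iso e2)
        infer_instance
      · obtain ⟨e1⟩ := hL1 i (by lia)
        haveI := hL i
        exact Module.Finite.equiv (e1 ≪≫ e2.symm).toLinearEquiv
  · let E1 : (((tt.truncGE a).obj L) ⟶ ω) ≃ₗ[A] (L ⟶ ω) :=
      LinearEquiv.ofBijective (Linear.leftComp A ω ((tt.truncGEπ a).app L)) e1b
    let E2 : (((tt.truncGE a).obj L) ⟶ ω) ≃ₗ[A]
        ((tt.truncLT (b + 1)).obj ((tt.truncGE a).obj L) ⟶ ω) :=
      LinearEquiv.ofBijective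
        (Linear.leftComp A ω ((tt.truncLTι (b + 1)).app ((tt.truncGE a).obj L))) e2b
    exact ⟨E1.symm.trans E2⟩
  · let F1 := LinearEquiv.ofBijective _ f1b
    let F2 := LinearEquiv.ofBijective _ f2b
    exact ⟨F1.trans F2.symm⟩

end Reduction

end Groth.Agent.Lib.Helper14.HDI
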