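import Mathlib
import Groth.Agent.Lib.Helper14FaltCxA
import Groth.Agent.Lib.Helper14HDIH

/-! # The injective step for complexes (helper14)

For `C ∈ D^{≥0}` with `H^0(C)` without `T`-torsion there is `C'' ∈ D^{≥0}` whose local cohomology
with supports in any `T₀ ⊆ T` is that of `C` shifted by one. -/

set_option autoImplicit false
set_option linter.unusedVariables false
set_option linter.unusedSectionVars false
set_option linter.style.haveILetI false
set_option maxHeartbeats 400000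

universe u

open CategoryTheory CategoryTheory.Limits Opposite DerivedCategory Pretriangulated
  CategoryTheory.Abelian

attribute [local instance] HasDerivedCategory.standard

namespace Groth.Agent.Lib.Helper14.FaltCx

open Groth.Agent.Lib.Helper14.HDT Groth.Agent.Lib.Helper17.Hyp Groth.Agent.Lib.Helper14.Falt
  Groth.Agent.S14388 Groth.Agent.Lib.Helper5.BiDual

variable {A : Type u} [CommRing A] (T : Set (PrimeSpectrum A))

/-- an injective module in degree `0` is a bounded complex of injectives -/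
noncomputable def resSingle (Em : ModuleCat.{u} A) [Module.Injective A Em] : Res (dsgl Em) where
  E := sgl Em
  a := 0
  b := 0
  van := by
    intro i hi
    exact HomologicalComplex.isZero_single_obj_X (ComplexShape.up ℤ) 0 Em i (by omega)
  inj := by
    intro i
    haveI : Injective Em := Module.injective_object_of_injective_module (R := A) (M := Em)
    haveI : Injective ((sgl Em).X i) := by
      by_cases hi : i = 0
      · subst hi
        exact Injective.of_iso (HomologicalComplex.singleObjXSelf (ComplexShape.up ℤ) 0 Em).symm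
          inferInstance
      · exact (HomologicalComplex.isZero_single_obj_X (ComplexShape.up ℤ) 0 Em i hi).injective
    exact Module.injective_module_of_injective_object A ((sgl Em).X i)
  e := Iso.refl _

/-- maps from `D^{≥1}` to an injective module in degree `0` vanish -/
lemma hom_dsgl_injective_eq_zero (Em : ModuleCat.{u} A) [Module.Injective A Em] (X : Dual.D A)
    (c : ℤ) [X.IsGE c] (hc : 0 < c) (g : X ⟶ dsgl Em) : g = 0 :=
  Groth.Agent.Lib.Helper14.HDI.hom_eq_zero_of_isGE (resSingle Em) X c hc g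

/-- `H^0` of the image of a module map -/
lemma homology_dmap {M M' : ModuleCat.{u} A} (g : M ⟶ M') :
    (homologyFunctor (ModuleCat.{u} A) 0).map (dmap g) = (e₀ M).hom ≫ g ≫ (e₀ M').inv := by
  have h := (e₀NatIso (A := ModuleCat.{u} A)).hom.naturality g
  have h' : (homologyFunctor (ModuleCat.{u} A) 0).map (dmap g) ≫ (e₀ M').hom =
      (e₀ M).hom ≫ g := h
  rw [← Category.assoc, ← h', Category.assoc, Iso.hom_inv_id, Category.comp_id]

variable [IsNoetherianRing A]

/-- **Injective step.** -/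
theorem inj_step_cx (C : Dual.D A) [C.IsGE 0]
    (hC : torsT T ((homologyFunctor (ModuleCat.{u} A) 0).obj C) = ⊥) :
    ∃ (C'' : Dual.D A), C''.IsGE 0 ∧ ∀ n : ℕ,
      ∃ ψ : C''⟦(n : ℤ)⟧ ⟶ C⟦((n + 1 : ℕ) : ℤ)⟧,
        ∀ T₀ : Set (PrimeSpectrum A), T₀ ⊆ T → Function.Bijective (FTmap T₀ ψ).hom := by
  -- the truncation `τ_{<1} C`
  have hT1 := tt.triangleLTGE_distinguished 1 C
  set X₀ : Dual.D A := (tt.truncLT 1).obj C with hX₀
  let ι₀ : X₀ ⟶ C := (tt.truncLTι 1).app C
  haveI hLE : X₀.IsLE 0 := by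
    have h1 : tt.IsLE ((tt.truncLT 1).obj C) (1 - 1) := inferInstance
    have h2 : (1 : ℤ) - 1 = 0 := by ring
    rwa [h2] at h1
  have hisoι : ∀ i : ℤ, i < 1 → IsIso ((homologyFunctor (ModuleCat.{u} A) i).map ι₀) :=
    fun i hi => isIso_homology_truncLTι 1 i hi C
  haveI hGE : X₀.IsGE 0 := by
    rw [isGE_iff]
    intro i hi
    haveI := hisoι i (by omega)
    exact (isZero_of_isGE C 0 i hi).of_iso
      (asIso ((homologyFunctor (ModuleCat.{u} A) i).map ι₀))
  obtain ⟨Y, ⟨e⟩⟩ := exists_iso_singleFunctor_obj_of_isGE_of_isLE X₀ 0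
  let e' : X₀ ≅ dsgl Y := e
  -- `Y ≅ H^0(C)`
  haveI := hisoι 0 (by omega)
  let κ : Y ≅ (homologyFunctor (ModuleCat.{u} A) 0).obj C :=
    (e₀ Y).symm ≪≫ ((homologyFunctor (ModuleCat.{u} A) 0).mapIso e').symm ≪≫
      asIso ((homologyFunctor (ModuleCat.{u} A) 0).map ι₀)
  have hY : torsT T Y = ⊥ := by
    rw [eq_bot_iff]
    intro y hy
    rw [Submodule.mem_bot]
    obtain ⟨J, hJ, hJy⟩ := hy
    have h1 : κ.hom.hom y ∈ torsT T ((homologyFunctor (ModuleCat.{u} A) 0).obj C) :=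
      ⟨J, hJ, fun a ha => by rw [← map_smul, hJy a ha, map_zero]⟩
    rw [hC, Submodule.mem_bot] at h1
    have h2 := congrArg κ.inv.hom h1
    rw [map_zero] at h2
    have h3 : κ.inv.hom (κ.hom.hom y) = y := congrArg (fun g => g.hom y) κ.hom_inv_id
    exact h3.symm.trans h2
  obtain ⟨E, _, _, f, hEinj, hEtf, hf⟩ := exists_torsTFree_injective T Y hY
  let Em : ModuleCat.{u} A := ModuleCat.of A E
  haveI : Module.Injective A Em := hEinj
  let fm : Y ⟶ Em := ModuleCat.ofHom f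
  haveI hfm : Mono fm := (ModuleCat.mono_iff_injective fm).mpr hf
  -- extend along `ι₀`
  haveI hG1 : ((tt.truncGE 1).obj C).IsGE 1 := inferInstance
  haveI hG2 : TStructure.t.IsGE (((tt.truncGE 1).obj C)⟦(-1 : ℤ)⟧) 2 :=
    TStructure.t.isGE_shift ((tt.truncGE 1).obj C) 1 (-1) 2
  have hz3 : ∀ g : ((tt.triangleLTGE 1).obj C).obj₃ ⟶ dsgl Em, g = 0 :=
    fun g => hom_dsgl_injective_eq_zero Em ((tt.truncGE 1).obj C) 1 (by omega) g
  have hz3' : ∀ g : (((tt.triangleLTGE 1).obj C).obj₃)⟦(-1 : ℤ)⟧ ⟶ dsgl Em, g = 0 :=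
    fun g => hom_dsgl_injective_eq_zero Em (((tt.truncGE 1).obj C)⟦(-1 : ℤ)⟧) 2 (by omega) g
  have hbij := Groth.Agent.Lib.Helper14.HDI.hom_bijective_of_right_zero
    ((tt.triangleLTGE 1).obj C) hT1 (dsgl Em) hz3 hz3'
  obtain ⟨h₀, hh⟩ := hbij.2 (e'.hom ≫ dmap fm)
  obtain ⟨h, hh'⟩ : ∃ h : C ⟶ dsgl Em, ι₀ ≫ h = e'.hom ≫ dmap fm := ⟨h₀, hh⟩
  -- `H^0(h)` is a monomorphism
  have hmono : Mono ((homologyFunctor (ModuleCat.{u} A) 0).map h) := by
    have h1 : (homologyFunctor (ModuleCat.{u} A) 0).map ι₀ ≫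
        (homologyFunctor (ModuleCat.{u} A) 0).map h =
        (homologyFunctor (ModuleCat.{u} A) 0).map e'.hom ≫
          (homologyFunctor (ModuleCat.{u} A) 0).map (dmap fm) := by
      rw [← Functor.map_comp, ← Functor.map_comp, hh']
    have h2 : (homologyFunctor (ModuleCat.{u} A) 0).map h =
        inv ((homologyFunctor (ModuleCat.{u} A) 0).map ι₀) ≫
          (homologyFunctor (ModuleCat.{u} A) 0).map e'.hom ≫
          (homologyFunctor (ModuleCat.{u} A) 0).map (dmap fm) := by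
      rw [← h1, IsIso.inv_hom_id_assoc]
    rw [h2, homology_dmap]
    haveI : IsIso ((homologyFunctor (ModuleCat.{u} A) 0).map e'.hom) :=
      inferInstanceAs (IsIso ((homologyFunctor (ModuleCat.{u} A) 0).mapIso e').hom)
    infer_instance
  obtain ⟨C'', β, γ, hS⟩ := distinguished_cocone_triangle h
  have hGE'' : C''.IsGE 0 :=
    isGE_cone (Triangle.mk h β γ) hS (inferInstanceAs (C.IsGE 0))
      (inferInstanceAs ((dsgl Em).IsGE 0)) hmono
  refine ⟨C'', hGE'', fun n => ?_⟩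
  let en : C⟦((n + 1 : ℕ) : ℤ)⟧ ≅ (C⟦(1 : ℤ)⟧)⟦(n : ℤ)⟧ :=
    (shiftFunctorAdd' (Dual.D A) 1 (n : ℤ) ((n + 1 : ℕ) : ℤ) (by push_cast; ring)).app C
  refine ⟨γ⟦(n : ℤ)⟧' ≫ en.inv, fun T₀ hT₀ => ?_⟩
  have hEtf₀ : torsT T₀ Em = ⊥ := by
    rw [eq_bot_iff, ← hEtf]
    rintro x ⟨J, hJ, h⟩
    exact ⟨J, hJ.trans hT₀, h⟩
  have h1 : Function.Bijective (FTmap T₀ (γ⟦(n : ℤ)⟧')).hom := by
    constructor
    · exact conn_injective T₀ (Triangle.mk h β γ) hS n
        (subsingleton_FT_torsFree_injective T₀ Em hEtf₀ n)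
    · exact conn_surjective T₀ (Triangle.mk h β γ) hS n
        (subsingleton_of_shiftEquiv T₀ (dsgl Em) 1 n ((n + 1 : ℕ) : ℤ) (by push_cast; ring)
          (subsingleton_FT_torsFree_injective T₀ Em hEtf₀ _))
  have h2 : Function.Bijective (FTmap T₀ en.inv).hom := FTmap_iso_bijective T₀ en.symm
  have h3 : (FTmap T₀ (γ⟦(n : ℤ)⟧' ≫ en.inv)).hom =
      (FTmap T₀ en.inv).hom ∘ (FTmap T₀ (γ⟦(n : ℤ)⟧')).hom := by
    funext z
    exact FTmap_comp T₀ _ _ z
  rw [h3]
  exact h2.comp h1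

end Groth.Agent.Lib.Helper14.FaltCx
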