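import Mathlib
import Groth.Agent.Lib.Helper14FaltCxB

/-! # The key lemma for complexes (helper14)

For `Z ⊆ T`, `K ∈ D^{≥0}` and an ideal `J'` killing `H^a_T(K)` for all `a < n`, the kernel of
`H^n_Z(K) → H^n_T(K)` is killed by `J'^n`, and `J'^n` multiplies the `Z`-torsion of `H^n_T(K)`
into the image. -/

set_option autoImplicit false
set_option linter.unusedVariables false
set_option linter.unusedSectionVars false
set_option linter.style.haveILetI false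
set_option maxHeartbeats 400000

universe u

open CategoryTheory CategoryTheory.Limits Opposite DerivedCategory Pretriangulated
  CategoryTheory.Abelian

attribute [local instance] HasDerivedCategory.standard

namespace Groth.Agent.Lib.Helper14.FaltCx

open Groth.Agent.Lib.Helper14.HDT Groth.Agent.Lib.Helper17.Hyp Groth.Agent.Lib.Helper14.Falt

variable {A : Type u} [CommRing A] [IsNoetherianRing A] {Z T : Set (PrimeSpectrum A)} (hZT : Z ⊆ T)

/-- an ideal killing `H^0_T(K)` kills the `T`-torsion of `H^0(K)` -/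
theorem kill_torsT_of_kill_H0_cx (K : Dual.D A) [K.IsGE 0] (J' : Ideal A)
    (h : ∀ c ∈ J', ∀ y : FT T (K⟦(0 : ℤ)⟧), c • y = 0) :
    ∀ c ∈ J', ∀ x : torsT T ((homologyFunctor (ModuleCat.{u} A) 0).obj K), c • x = 0 := by
  intro c hc x
  obtain ⟨J₀, hJ₀, hx⟩ := x.2
  obtain ⟨x', hx'⟩ := exists_ev_eq K 0 J₀
    (x : (homologyFunctor (ModuleCat.{u} A) 0).obj K) hx
  have h1 := h c hc (ι T _ (mkI T J₀ hJ₀) x')
  have h1' : ι T (K⟦(0 : ℤ)⟧) (mkI T J₀ hJ₀) (c • x') = 0 :=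
    (map_smul (ι T (K⟦(0 : ℤ)⟧) (mkI T J₀ hJ₀)) c x').trans h1
  obtain ⟨Y, hle, h2⟩ := (ι_eq_zero_iff T _ (X := mkI T J₀ hJ₀) (c • x')).mp h1'
  have h3 : ev K 0 Y.obj (qD hle ≫ (c • x')) = 0 := by rw [h2, map_zero]
  have h4 : ev K 0 Y.obj (qD hle ≫ (c • x')) = ev K 0 J₀ (c • x') :=
    ev_qD K 0 (J' := Y.obj) (J := J₀) hle (c • x')
  rw [h4, map_smul, hx'] at h3
  exact Subtype.ext h3

/-- the statement of the key lemma in degree `n`, for complexes in `D^{≥0}` -/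
def KLPc (n : ℕ) : Prop := ∀ (K : Dual.D A) (_ : K.IsGE 0) (J' : Ideal A),
  (∀ a : ℕ, a < n → ∀ c ∈ J', ∀ y : FT T (K⟦(a : ℤ)⟧), c • y = 0) →
  (∀ z : FT Z (K⟦(n : ℤ)⟧), cs hZT _ z = 0 → ∀ c ∈ J' ^ n, c • z = 0) ∧
  (∀ y : FT T (K⟦(n : ℤ)⟧), y ∈ torsT Z (FT T (K⟦(n : ℤ)⟧)) →
     ∀ c ∈ J' ^ n, c • y ∈ LinearMap.range (cs hZT (K⟦(n : ℤ)⟧)))

theorem klpc_zero : KLPc hZT 0 := by
  intro K hK J' _
  haveI : K.IsGE ((0 : ℕ) : ℤ) := by
    rw [Nat.cast_zero]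
    exact hK
  constructor
  · intro z hz c _
    have h0 : z = 0 := cs_injective_lowest hZT K ((0 : ℕ) : ℤ) (hz.trans (map_zero _).symm)
    rw [h0, smul_zero]
  · intro y hy c _
    exact Submodule.smul_mem _ c (mem_range_cs_lowest hZT K ((0 : ℕ) : ℤ) y hy)

theorem klpc_succ (n : ℕ) (ih : KLPc hZT n) : KLPc hZT (n + 1) := by
  intro K hK J' hyp
  haveI := hK
  have hkill : ∀ c ∈ J', ∀ x : torsT T ((homologyFunctor (ModuleCat.{u} A) 0).obj K), c • x = 0 :=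
    kill_torsT_of_kill_H0_cx K J' (hyp 0 (Nat.succ_pos n))
  obtain ⟨C, α, hCGE, hCtf, hbij, hkc⟩ := tors_step_cx T K
  haveI := hCGE
  obtain ⟨C'', hC''GE, hψ⟩ := inj_step_cx T C hCtf
  have hpT := hbij n
  obtain ⟨ψ, hψn⟩ := hψ n
  have hψT := hψn T subset_rfl
  have hψZ := hψn Z hZT
  have hkcZ := hkc Z J' hkill ((n + 1 : ℕ) : ℤ)
  have hyp'' : ∀ a : ℕ, a < n → ∀ c ∈ J', ∀ y : FT T (C''⟦(a : ℤ)⟧), c • y = 0 := by
    intro a ha c hc y
    obtain ⟨ψa, hψa⟩ := hψ a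
    apply (hψa T subset_rfl).1
    rw [map_zero, map_smul]
    obtain ⟨w, hw⟩ := (hbij a).2 ((FTmap T ψa).hom y)
    rw [← hw, ← map_smul, hyp (a + 1) (by omega) c hc w, map_zero]
  obtain ⟨hK'', hC''⟩ := ih C'' hC''GE J' hyp''
  constructor
  · intro z hz c hc
    rw [pow_succ] at hc
    refine Submodule.mul_induction_on hc ?_ ?_
    · intro c₁ hc₁ c₂ hc₂
      obtain ⟨z'', hz''⟩ := hψZ.2 ((FTmap Z (α⟦((n + 1 : ℕ) : ℤ)⟧')).hom z)
      have hcs : cs hZT _ z'' = 0 := by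
        apply hψT.1
        rw [map_zero, ← cs_FTmap, hz'', cs_FTmap, hz, map_zero]
      have h1 := hK'' z'' hcs c₁ hc₁
      have h2 : (FTmap Z (α⟦((n + 1 : ℕ) : ℤ)⟧')).hom (c₁ • z) = 0 := by
        rw [map_smul, ← hz'', ← map_smul, h1, map_zero]
      have h3 := hkcZ.1 (c₁ • z) h2 c₂ hc₂
      rw [mul_smul, smul_comm]
      exact h3
    · intro c c' h h'
      rw [add_smul, h, h', add_zero]
  · intro y hy c hc
    rw [pow_succ] at hc
    refine Submodule.mul_induction_on hc ?_ ?_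
    · intro c₁ hc₁ c₂ hc₂
      obtain ⟨y'', hy''⟩ := hψT.2 ((FTmap T (α⟦((n + 1 : ℕ) : ℤ)⟧')).hom y)
      have hy''t : y'' ∈ torsT Z (FT T (C''⟦(n : ℤ)⟧)) := by
        obtain ⟨𝔟, h𝔟, hb⟩ := hy
        refine ⟨𝔟, h𝔟, fun b hbb => hψT.1 ?_⟩
        rw [map_zero, map_smul, hy'', ← map_smul, hb b hbb, map_zero]
      obtain ⟨z'', hz''⟩ := hC'' y'' hy''t c₁ hc₁
      obtain ⟨z, hz⟩ := hkcZ.2 ((FTmap Z ψ).hom z'') c₂ hc₂
      refine ⟨z, ?_⟩
      apply hpT.1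
      rw [← cs_FTmap, hz, map_smul, cs_FTmap, hz'', map_smul, hy'', ← map_smul, ← map_smul,
        mul_smul, smul_comm]
    · intro c c' h h'
      rw [add_smul]
      exact Submodule.add_mem _ h h'

/-- the key lemma for complexes -/
theorem klpc (n : ℕ) : KLPc hZT n := by
  induction n with
  | zero => exact klpc_zero hZT
  | succ n ih => exact klpc_succ hZT n ih

end Groth.Agent.Lib.Helper14.FaltCx
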