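import Mathlib
import Groth.Agent.Lib.Helper14FaltE
import Groth.Agent.S11617

/-! # Local cohomology with supports in `V(I)`, and its localization at a prime (helper14)

* `bridge`: `H^i_{V(I)} ≅ H^i_I` as functors;
* `lhs_iff`: for a prime `q`, an element `c` kills the localization at `q` of `H^i_{V(q)}(M)` iff its
  image kills `H^i_{m}(M_q)` over the local ring `A_q`. -/

set_option autoImplicit false
set_option linter.unusedVariables false
set_option linter.unusedSectionVars false
set_option linter.style.haveILetI false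
set_option maxHeartbeats 400000

universe u

open CategoryTheory CategoryTheory.Limits Opposite DerivedCategory Pretriangulated

attribute [local instance] HasDerivedCategory.standard

namespace Groth.Agent.Lib.Helper14.Falt

open Groth.Agent.Lib.Helper14.HDT Groth.Agent.Lib.Helper17.Hyp localCohomology

section Bridge

variable {A : Type u} [CommRing A] (I : Ideal A)

lemma zl_sub_iff (J : Ideal A) :
    PrimeSpectrum.zeroLocus (J : Set A) ⊆ PrimeSpectrum.zeroLocus (I : Set A) ↔ I ≤ J.radical := by
  rw [PrimeSpectrum.zeroLocus_subset_zeroLocus_iff]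

/-- the functor from ideals with zero locus in `V(I)` to ideals with radical containing `I` -/
noncomputable def toSLR : Dual2.IdealsIn (PrimeSpectrum.zeroLocus (I : Set A)) ⥤ SelfLERadical I :=
  ObjectProperty.ιOfLE fun J hJ => (zl_sub_iff I J).mp hJ

noncomputable def fromSLR :
    SelfLERadical I ⥤ Dual2.IdealsIn (PrimeSpectrum.zeroLocus (I : Set A)) :=
  ObjectProperty.ιOfLE fun J hJ => (zl_sub_iff I J).mpr hJ

noncomputable def eqvSLR :
    Dual2.IdealsIn (PrimeSpectrum.zeroLocus (I : Set A)) ≌ SelfLERadical I where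
  functor := toSLR I
  inverse := fromSLR I
  unitIso := Iso.refl _
  counitIso := Iso.refl _

instance : (toSLR I).IsEquivalence := (eqvSLR I).isEquivalence_functor

/-- local cohomology with supports in `V(I)` is local cohomology with respect to `I` -/
noncomputable def bridge [IsNoetherianRing A] (i : ℕ) :
    localCohomology.ofDiagram.{u, u}
      (Dual2.idealsInDiagram (PrimeSpectrum.zeroLocus (I : Set A))) i ≅ localCohomology I i :=
  (isoOfFinal.{u, u, u} (toSLR I) (selfLERadicalDiagram I) i) ≪≫ isoSelfLERadical I i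

/-- `H^i_{V(I)}(M) ≃ H^i_I(M)` -/
noncomputable def bridgeEquiv [IsNoetherianRing A] (i : ℕ) (M : Type u) [AddCommGroup M]
    [Module A M] : Dual2.HT (PrimeSpectrum.zeroLocus (I : Set A)) i M ≃ₗ[A] LocCoh.H I i M :=
  ((bridge I i).app (ModuleCat.of A M)).toLinearEquiv

/-- `colim_{V(J) ⊆ V(I)} Hom_D(A/J, M[i]) ≃ H^i_I(M)` -/
noncomputable def ftEquiv [IsNoetherianRing A] (i : ℕ) (M : ModuleCat.{u} A) :
    FT (PrimeSpectrum.zeroLocus (I : Set A)) ((dsgl M)⟦(i : ℤ)⟧) ≃ₗ[A]
      (localCohomology I i).obj M :=
  (compEquiv (PrimeSpectrum.zeroLocus (I : Set A)) i M).trans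
    ((bridge I i).app M).toLinearEquiv

end Bridge

section Loc

variable {A : Type u} [CommRing A]

/-- an element kills a localized module iff it kills each element up to a unit -/
lemma forall_smul_tmul_iff (S : Submonoid A) (R : Type u) [CommRing R] [Algebra A R]
    [IsLocalization S R] (X : Type u) [AddCommGroup X] [Module A X] (c : A) :
    (∀ w : TensorProduct A R X, algebraMap A R c • w = 0) ↔
      ∀ x : X, ∃ s ∈ S, (s * c) • x = 0 := by
  have key : ∀ x : X, algebraMap A R c • ((1 : R) ⊗ₜ[A] x) = (1 : R) ⊗ₜ[A] (c • x) := by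
    intro x
    rw [TensorProduct.smul_tmul', smul_eq_mul, mul_one, Algebra.algebraMap_eq_smul_one,
      TensorProduct.smul_tmul]
  constructor
  · intro h x
    have h1 := h ((1 : R) ⊗ₜ[A] x)
    rw [key] at h1
    obtain ⟨s, hs⟩ := (IsLocalizedModule.eq_zero_iff S (TensorProduct.mk A R X 1)).mp h1
    exact ⟨s.1, s.2, by rw [mul_smul]; exact hs⟩
  · intro h w
    induction w using TensorProduct.induction_on with
    | zero => exact smul_zero _
    | tmul r x =>
      obtain ⟨s, hs, hsx⟩ := h x
      have h1 : (1 : R) ⊗ₜ[A] (c • x) = 0 :=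
        (IsLocalizedModule.eq_zero_iff S (TensorProduct.mk A R X 1)).mpr
          ⟨⟨s, hs⟩, by rw [← hsx, mul_smul]; rfl⟩
      have h2 : r ⊗ₜ[A] x = r • ((1 : R) ⊗ₜ[A] x) := by
        rw [TensorProduct.smul_tmul', smul_eq_mul, mul_one]
      rw [h2, smul_comm, key, h1, smul_zero]
    | add w w' hw hw' => rw [smul_add, hw, hw', add_zero]

variable [IsNoetherianRing A]

/-- transport of annihilation along an equality of ideals -/
lemma forall_smul_H_congr {R : Type u} [CommRing R] {I J : Ideal R} (h : I = J) (i : ℕ)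
    (N : Type u) [AddCommGroup N] [Module R N] (c : R) :
    (∀ y : LocCoh.H I i N, c • y = 0) ↔ ∀ y : LocCoh.H J i N, c • y = 0 := by
  subst h
  exact Iff.rfl

/-- an element kills the localization at `q` of `H^i_{V(q)}(M)` iff its image kills
`H^i_m(M_q)` -/
theorem lhs_iff (q : Ideal A) [q.IsPrime] (c : A) (i : ℕ) (M : ModuleCat.{u} A) :
    (∀ z : FT (PrimeSpectrum.zeroLocus (q : Set A)) ((dsgl M)⟦(i : ℤ)⟧),
        ∃ s ∈ q.primeCompl, (s * c) • z = 0) ↔
      ∀ y : LocCoh.H (IsLocalRing.maximalIdeal (Localization.AtPrime q)) i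
        (TensorProduct A (Localization.AtPrime q) M),
        algebraMap A (Localization.AtPrime q) c • y = 0 := by
  obtain ⟨e⟩ := Groth.Agent.S11617.result A (Localization.AtPrime q) q M i
  rw [← forall_smul_H_congr (Localization.AtPrime.map_eq_maximalIdeal (I := q)) i _ _]
  have h1 : (∀ y : LocCoh.H (Ideal.map (algebraMap A (Localization.AtPrime q)) q) i
        (TensorProduct A (Localization.AtPrime q) M),
        algebraMap A (Localization.AtPrime q) c • y = 0) ↔
      ∀ w : TensorProduct A (Localization.AtPrime q) (LocCoh.H q i M),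
        algebraMap A (Localization.AtPrime q) c • w = 0 := by
    constructor
    · intro h w
      apply e.injective
      rw [map_smul, h, map_zero]
    · intro h y
      obtain ⟨w, rfl⟩ := e.surjective y
      rw [← map_smul, h, map_zero]
  rw [h1, forall_smul_tmul_iff q.primeCompl]
  constructor
  · intro h x
    obtain ⟨s, hs, hsx⟩ := h ((ftEquiv q i M).symm x)
    refine ⟨s, hs, ?_⟩
    apply (ftEquiv q i M).symm.injective
    rw [map_smul, hsx, map_zero]
  · intro h z
    obtain ⟨s, hs, hsx⟩ := h (ftEquiv q i M z)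
    refine ⟨s, hs, ?_⟩
    apply (ftEquiv q i M).injective
    rw [map_smul, hsx, map_zero]

end Loc

end Groth.Agent.Lib.Helper14.Falt
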