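import Mathlib
import Groth.Agent.Lib.Helper5LocDH
import Groth.Agent.Lib.Helper5LocDF

/-!
# Ext into a dualizing complex and localization at a prime (helper5)

For a dualizing complex `ω` of the Noetherian ring `A`, a prime `p` and a finite module `M`:
* `forall_eq_zero_iff_LZ`: `Hom_{D(A_p)}(M_p, ω_p[j]) = 0` iff `Hom_{D(A)}(M, ω[j])_p = 0`
  (the predicate `LZ ω p j (inD M)`);
* `isNormalized_extD_shift`: `ω_p[d]` is normalized, where `d` is the unique degree with
  `Hom(A/p, ω[d])_p ≠ 0`;
* `depth_tensor_eq_iff`: the depth of `M_p` read off from the vanishing of the `Hom(M, ω[j])_p`.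
-/

set_option autoImplicit false
universe u
open CategoryTheory CategoryTheory.Limits
attribute [local instance] HasDerivedCategory.standard

namespace Groth.Agent.Lib.Helper5.LocD

open DerivedCategory Groth.Agent.Lib.Helper1.Extend Groth.Agent.Lib.Helper5.BiDual
open Groth.Agent.Lib.Helper5.DualLocal Groth.Agent.Lib.Helper5.DualMin
open Groth.Agent.Lib.Helper5.DualDim Groth.Agent.Lib.Helper5.NormDual

variable {A : Type u} [CommRing A] [IsNoetherianRing A]

section AtPrime

variable (ω : Dual.D A) (hω : Dual.IsDualizing A ω) (p : Ideal A) [hp : p.IsPrime]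

include hω in
theorem forall_eq_zero_iff_LZ (M : Type u) [AddCommGroup M] [Module A M] [Module.Finite A M]
    (j : ℤ) :
    (∀ u : Dual.inD (Localization.AtPrime p) (TensorProduct A (Localization.AtPrime p) M) ⟶
        ((extD A (Localization.AtPrime p)).obj ω)⟦j⟧, u = 0) ↔ LZ ω p j (Dual.inD A M) := by
  obtain ⟨T⟩ := nonempty_res ω hω
  have hK : HasFPRes (Dual.inD A M) := hasFPRes_inD_of_finite M
  have hY : HasInjRes (ω⟦j⟧) := (hasInjRes_of_res T).shift j
  let e1 := extDInDIso (A := A) (B := Localization.AtPrime p) M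
  let c : (extD A (Localization.AtPrime p)).obj (ω⟦j⟧) ≅
      ((extD A (Localization.AtPrime p)).obj ω)⟦j⟧ :=
    ((extD A (Localization.AtPrime p)).commShiftIso j).app ω
  constructor
  · intro h t
    have h1 : (extD A (Localization.AtPrime p)).map t = 0 := by
      have h2 : e1.inv ≫ (extD A (Localization.AtPrime p)).map t ≫ c.hom = 0 := h _
      exact (cancel_mono c.hom).1
        (((cancel_epi e1.inv).1 (h2.trans comp_zero.symm)).trans zero_comp.symm)
    obtain ⟨s, hs, hst⟩ := LI_inj p.primeCompl (Localization.AtPrime p) hK hY t h1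
    exact ⟨s, hs, hst⟩
  · intro h u
    obtain ⟨s, hs, t, ht⟩ :=
      LI_surj p.primeCompl (Localization.AtPrime p) hK hY (e1.hom ≫ u ≫ c.inv)
    obtain ⟨s', hs', hst'⟩ := h t
    have h1 : algebraMap A (Localization.AtPrime p) (s' * s) • (e1.hom ≫ u ≫ c.inv) = 0 := by
      rw [map_mul, mul_smul, ht, ← extD_map_smul, hst', Functor.map_zero]
    have h2 : e1.hom ≫ u ≫ c.inv = 0 :=
      smul_unit_cancel p.primeCompl (Localization.AtPrime p) (s' * s)
        (p.primeCompl.mul_mem hs' hs) _ _ (h1.trans (smul_zero _).symm)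
    exact (cancel_mono c.inv).1
      (((cancel_epi e1.hom).1 (h2.trans comp_zero.symm)).trans zero_comp.symm)

/-- `A_p ⊗ A/p` is the residue field of `A_p`. -/
noncomputable def tensorQuotEquivResidue :
    TensorProduct A (Localization.AtPrime p) (A ⧸ p) ≃ₗ[Localization.AtPrime p]
      IsLocalRing.ResidueField (Localization.AtPrime p) :=
  (Algebra.TensorProduct.quotIdealMapEquivTensorQuotAux (Localization.AtPrime p) p).symm ≪≫ₗ
    Submodule.quotEquivOfEq _ _
      (IsLocalization.AtPrime.map_eq_maximalIdeal p (Localization.AtPrime p))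

include hω in
theorem forall_eq_zero_residue_iff_LZ (j : ℤ) :
    (∀ u : Dual.inD (Localization.AtPrime p)
        (IsLocalRing.ResidueField (Localization.AtPrime p)) ⟶
        ((extD A (Localization.AtPrime p)).obj ω)⟦j⟧, u = 0) ↔
      LZ ω p j (Dual.inD A (A ⧸ p)) := by
  rw [← forall_eq_zero_iff_LZ ω hω p (A ⧸ p) j]
  let e := inDIso (tensorQuotEquivResidue p)
  constructor
  · intro h u
    have h1 := h (e.inv ≫ u)
    exact (cancel_epi e.inv).1 (h1.trans comp_zero.symm)
  · intro h u
    have h1 := h (e.hom ≫ u)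
    exact (cancel_epi e.hom).1 (h1.trans comp_zero.symm)

include hω in
theorem isNormalized_extD_shift (d : ℤ)
    (hd : ∀ i : ℤ, i ≠ d → LZ ω p i (Dual.inD A (A ⧸ p))) :
    Dual.IsNormalized (Localization.AtPrime p)
      (((extD A (Localization.AtPrime p)).obj ω)⟦d⟧) := by
  intro i hi
  rw [subsingleton_iff_forall_eq_zero]
  exact (forall_eq_zero_shift_add_iff _ _ d i (d + i) rfl).mp
    ((forall_eq_zero_residue_iff_LZ ω hω p (d + i)).mpr (hd (d + i) (by lia)))

include hω in
theorem forall_eq_zero_shift_iff_LZ (d : ℤ) (M : Type u) [AddCommGroup M] [Module A M]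
    [Module.Finite A M] (j : ℤ) :
    (∀ g : Dual.inD (Localization.AtPrime p) (TensorProduct A (Localization.AtPrime p) M) ⟶
        (((extD A (Localization.AtPrime p)).obj ω)⟦d⟧)⟦j⟧, g = 0) ↔
      LZ ω p (d + j) (Dual.inD A M) :=
  (forall_eq_zero_shift_add_iff _ _ d j (d + j) rfl).symm.trans
    (forall_eq_zero_iff_LZ ω hω p M (d + j))

include hω in
theorem depth_tensor_eq_iff (d : ℤ) (hd : ∀ i : ℤ, i ≠ d → LZ ω p i (Dual.inD A (A ⧸ p)))
    (M : Type u) [AddCommGroup M] [Module A M] [Module.Finite A M]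
    [Nontrivial (TensorProduct A (Localization.AtPrime p) M)] (k : ℕ) :
    LocCoh.depth (Localization.AtPrime p) (TensorProduct A (Localization.AtPrime p) M) = k ↔
      ((∀ δ' : ℕ, δ' < k → LZ ω p (d - δ') (Dual.inD A M)) ∧
        ¬ LZ ω p (d - k) (Dual.inD A M)) := by
  have hB := isDualizing_extD p.primeCompl (Localization.AtPrime p) ω hω
  haveI := hB.isNoetherianRing
  have hB' := isDualizing_shift hB d
  have hn := isNormalized_extD_shift ω hω p d hd
  rw [depth_eq_iff _ hB' hn (TensorProduct A (Localization.AtPrime p) M) k]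
  refine and_congr (forall₂_congr fun δ' _ => ?_) (not_congr ?_)
  · rw [forall_eq_zero_shift_iff_LZ ω hω p d M, show d + -(δ' : ℤ) = d - δ' by ring]
  · rw [forall_eq_zero_shift_iff_LZ ω hω p d M, show d + -(k : ℤ) = d - k by ring]

include hω in
theorem LZ_of_gt (d : ℤ) (hd : ∀ i : ℤ, i ≠ d → LZ ω p i (Dual.inD A (A ⧸ p)))
    (M : Type u) [AddCommGroup M] [Module A M] [Module.Finite A M] (j : ℤ) (hj : d < j) :
    LZ ω p j (Dual.inD A M) := by
  have hB := isDualizing_extD p.primeCompl (Localization.AtPrime p) ω hω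
  haveI := hB.isNoetherianRing
  have hB' := isDualizing_shift hB d
  have hn := isNormalized_extD_shift ω hω p d hd
  have h1 := (forall_eq_zero_shift_iff_LZ ω hω p d M (j - d)).mp
    (fun g => vanish_pos _ hB' hn (TensorProduct A (Localization.AtPrime p) M) (j - d)
      (by lia) g)
  rwa [show d + (j - d) = j by ring] at h1

include hω in
theorem LZ_of_subsingleton (M : Type u) [AddCommGroup M] [Module A M] [Module.Finite A M]
    (h : Subsingleton (TensorProduct A (Localization.AtPrime p) M)) (j : ℤ) :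
    LZ ω p j (Dual.inD A M) := by
  refine (forall_eq_zero_iff_LZ ω hω p M j).mp fun u => ?_
  have hz : IsZero (Dual.inD (Localization.AtPrime p)
      (TensorProduct A (Localization.AtPrime p) M)) :=
    Functor.map_isZero _ (ModuleCat.isZero_of_subsingleton _)
  exact hz.eq_of_src _ _

end AtPrime

/-- membership in the support of a Hom module, in terms of `LZ`. -/
lemma mem_support_hom_iff (ω : Dual.D A) (p : PrimeSpectrum A) (X : Dual.D A) (j : ℤ) :
    p ∈ Module.support A (X ⟶ ω⟦j⟧) ↔ ¬ LZ ω p.asIdeal j X := by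
  rw [Module.mem_support_iff, ← not_subsingleton_iff_nontrivial,
    LocalizedModule.subsingleton_iff]
  rfl

end Groth.Agent.Lib.Helper5.LocD
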