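import Mathlib

/-! # Abstract diagram lemmas for the local duality induction (helper14)

* `core_step`: the "multiplication by `x`" step: given two ladders attached to
  `0 → B --x--> B → C → 0`, if the comparison is bijective in the previous degree and on `C`, and
  the modules in the current degree are `x`-power torsion, the comparison is bijective on `B`.
* `four_inj`, `four_surj`: the two four lemmas for linear maps. -/

set_option autoImplicit false
set_option linter.unusedVariables false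
set_option linter.unusedSectionVars false
set_option linter.style.haveILetI false

namespace Groth.Agent.Lib.Helper14.LDual

section Core

variable {A : Type*} [CommRing A] (x : A)
  {H0 H0' H1 H1' G0 G0' G1 G1' : Type*}
  [AddCommGroup H0] [Module A H0] [AddCommGroup H0'] [Module A H0']
  [AddCommGroup H1] [Module A H1] [AddCommGroup H1'] [Module A H1']
  [AddCommGroup G0] [Module A G0] [AddCommGroup G0'] [Module A G0']
  [AddCommGroup G1] [Module A G1] [AddCommGroup G1'] [Module A G1']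
  (πH0 : H0 →ₗ[A] H0') (δH : H0' →ₗ[A] H1) (πH1 : H1 →ₗ[A] H1')
  (πG0 : G0 →ₗ[A] G0') (δG : G0' →ₗ[A] G1) (πG1 : G1 →ₗ[A] G1')
  (ψ0 : H0 →ₗ[A] G0) (ψ0' : H0' →ₗ[A] G0') (ψ1 : H1 →ₗ[A] G1) (ψ1' : H1' →ₗ[A] G1')

theorem core_step
    (hH1 : ∀ z : H1, x • z = 0 → ∃ c, δH c = z)
    (hH2 : ∀ h : H0, δH (πH0 h) = 0)
    (hH3 : ∀ h : H1, πH1 h = 0 → ∃ h', h = x • h')
    (hG1 : ∀ g : G1, x • g = 0 → ∃ c, δG c = g)
    (hG2 : ∀ c : G0', δG c = 0 → ∃ g : G0, πG0 g = c)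
    (hG3 : ∀ g' : G1', x • g' = 0)
    (c1 : ∀ c, ψ1 (δH c) = δG (ψ0' c))
    (c2 : ∀ h, ψ0' (πH0 h) = πG0 (ψ0 h))
    (c3 : ∀ h, ψ1' (πH1 h) = πG1 (ψ1 h))
    (s0 : Function.Surjective ψ0) (b0' : Function.Bijective ψ0')
    (i1' : Function.Injective ψ1')
    (tH : ∀ z : H1, ∃ n : ℕ, x ^ n • z = 0)
    (tG : ∀ g : G1, ∃ n : ℕ, x ^ n • g = 0) :
    Function.Bijective ψ1 := by
  -- injectivity on `x`-torsion
  have inj1 : ∀ z : H1, x • z = 0 → ψ1 z = 0 → z = 0 := by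
    intro z hxz hz
    obtain ⟨c, rfl⟩ := hH1 z hxz
    rw [c1] at hz
    obtain ⟨g, hg⟩ := hG2 _ hz
    obtain ⟨h, rfl⟩ := s0 g
    rw [← c2] at hg
    have : πH0 h = c := b0'.1 hg
    rw [← this, hH2]
  have inj : ∀ (n : ℕ) (z : H1), x ^ n • z = 0 → ψ1 z = 0 → z = 0 := by
    intro n
    induction n with
    | zero =>
      intro z hz _
      rwa [pow_zero, one_smul] at hz
    | succ n ih =>
      intro z hz hψ
      have h1 : x ^ n • z = 0 := by
        apply inj1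
        · rw [← mul_smul, ← pow_succ']; exact hz
        · rw [map_smul, hψ, smul_zero]
      exact ih z h1 hψ
  -- surjectivity onto `x`-torsion
  have surj1 : ∀ g : G1, x • g = 0 → ∃ z, ψ1 z = g := by
    intro g hg
    obtain ⟨c, rfl⟩ := hG1 g hg
    obtain ⟨c', rfl⟩ := b0'.2 c
    exact ⟨δH c', c1 c'⟩
  have surj : ∀ (n : ℕ) (g : G1), x ^ n • g = 0 → ∃ z, ψ1 z = g := by
    intro n
    induction n with
    | zero =>
      intro g hg
      rw [pow_zero, one_smul] at hg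
      exact ⟨0, by rw [map_zero, hg]⟩
    | succ n ih =>
      intro g hg
      have h1 : x ^ n • (x • g) = 0 := by rw [← mul_smul, ← pow_succ]; exact hg
      obtain ⟨h, hh⟩ := ih (x • g) h1
      have h2 : πH1 h = 0 := by
        apply i1'
        rw [c3, hh, map_smul, hG3, map_zero]
      obtain ⟨h', rfl⟩ := hH3 h h2
      have h3 : x • (g - ψ1 h') = 0 := by rw [smul_sub, ← map_smul, hh, sub_self]
      obtain ⟨z, hz⟩ := surj1 _ h3
      exact ⟨z + h', by rw [map_add, hz, sub_add_cancel]⟩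
  constructor
  · rw [injective_iff_map_eq_zero]
    intro z hz
    obtain ⟨n, hn⟩ := tH z
    exact inj n z hn hz
  · intro g
    obtain ⟨n, hn⟩ := tG g
    exact surj n g hn

end Core

section Four

variable {A : Type*} [CommRing A]
  {X1 X2 X3 X4 Y1 Y2 Y3 Y4 : Type*}
  [AddCommGroup X1] [Module A X1] [AddCommGroup X2] [Module A X2]
  [AddCommGroup X3] [Module A X3] [AddCommGroup X4] [Module A X4]
  [AddCommGroup Y1] [Module A Y1] [AddCommGroup Y2] [Module A Y2]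
  [AddCommGroup Y3] [Module A Y3] [AddCommGroup Y4] [Module A Y4]
  (f1 : X1 →ₗ[A] X2) (f2 : X2 →ₗ[A] X3) (f3 : X3 →ₗ[A] X4)
  (g1 : Y1 →ₗ[A] Y2) (g2 : Y2 →ₗ[A] Y3) (g3 : Y3 →ₗ[A] Y4)
  (a1 : X1 →ₗ[A] Y1) (a2 : X2 →ₗ[A] Y2) (a3 : X3 →ₗ[A] Y3) (a4 : X4 →ₗ[A] Y4)

/-- four lemma, injectivity of the third map. -/
theorem four_inj
    (eX2 : ∀ z : X3, f3 z = 0 → ∃ y, f2 y = z)
    (eY1 : ∀ y : Y2, g2 y = 0 → ∃ w, g1 w = y)
    (zX : ∀ w : X1, f2 (f1 w) = 0)
    (c1 : ∀ w, a2 (f1 w) = g1 (a1 w)) (c2 : ∀ y, a3 (f2 y) = g2 (a2 y))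
    (c3 : ∀ z, a4 (f3 z) = g3 (a3 z))
    (s1 : Function.Surjective a1) (i2 : Function.Injective a2) (i4 : Function.Injective a4) :
    Function.Injective a3 := by
  rw [injective_iff_map_eq_zero]
  intro z hz
  have h1 : f3 z = 0 := by
    apply i4
    rw [c3, hz, map_zero, map_zero]
  obtain ⟨y, rfl⟩ := eX2 z h1
  rw [c2] at hz
  obtain ⟨w, hw⟩ := eY1 _ hz
  obtain ⟨w', rfl⟩ := s1 w
  rw [← c1] at hw
  have : f1 w' = y := i2 hw
  rw [← this, zX]

/-- four lemma, surjectivity of the second map. -/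
theorem four_surj
    (eY2 : ∀ z : Y3, g3 z = 0 → ∃ y, g2 y = z)
    (eX2 : ∀ z : X3, f3 z = 0 → ∃ y, f2 y = z)
    (eY1 : ∀ y : Y2, g2 y = 0 → ∃ w, g1 w = y)
    (zY : ∀ y : Y2, g3 (g2 y) = 0)
    (c1 : ∀ w, a2 (f1 w) = g1 (a1 w)) (c2 : ∀ y, a3 (f2 y) = g2 (a2 y))
    (c3 : ∀ z, a4 (f3 z) = g3 (a3 z))
    (s1 : Function.Surjective a1) (s3 : Function.Surjective a3) (i4 : Function.Injective a4) :
    Function.Surjective a2 := by
  intro y
  obtain ⟨z, hz⟩ := s3 (g2 y)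
  have h1 : f3 z = 0 := by
    apply i4
    rw [c3, hz, zY, map_zero]
  obtain ⟨y', rfl⟩ := eX2 z h1
  rw [c2] at hz
  have h2 : g2 (y - a2 y') = 0 := by rw [map_sub, hz, sub_self]
  obtain ⟨w, hw⟩ := eY1 _ h2
  obtain ⟨w', rfl⟩ := s1 w
  refine ⟨f1 w' + y', ?_⟩
  rw [map_add, c1, hw, sub_add_cancel]

end Four

end Groth.Agent.Lib.Helper14.LDual
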