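import Mathlib
import Groth.Prelude.Def_Wider
import Groth.Agent.Lib.Helper5DualLocal

/-! # The contravariant δ-functor `T^j(M) = Hom_{D(A)}(M, ω[j])` and its `E`-dual (helper14) -/

set_option autoImplicit false
set_option linter.unusedVariables false
set_option linter.unusedSectionVars false
set_option linter.style.haveILetI false

universe u

open CategoryTheory CategoryTheory.Limits DerivedCategory Pretriangulated

attribute [local instance] HasDerivedCategory.standard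

namespace Groth.Agent.Lib.Helper14.LDual

variable {A : Type u} [CommRing A] (ω : Dual.D A)

/-- the object of `D(A)` attached to a module -/
noncomputable abbrev sg (M : ModuleCat.{u} A) : Dual.D A :=
  (singleFunctor (ModuleCat.{u} A) 0).obj M

/-- `T^j(M) = Hom(M, ω[j])`. -/
abbrev T (j : ℤ) (M : ModuleCat.{u} A) : Type (u + 1) := sg M ⟶ ω⟦j⟧

/-- functoriality of `T` -/
noncomputable def Tmap (j : ℤ) {M N : ModuleCat.{u} A} (g : M ⟶ N) : T ω j N →ₗ[A] T ω j M :=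
  Linear.leftComp A (ω⟦j⟧) ((singleFunctor (ModuleCat.{u} A) 0).map g)

lemma Tmap_apply (j : ℤ) {M N : ModuleCat.{u} A} (g : M ⟶ N) (t : T ω j N) :
    Tmap ω j g t = (singleFunctor (ModuleCat.{u} A) 0).map g ≫ t := rfl

lemma Tmap_comp (j : ℤ) {M N P : ModuleCat.{u} A} (g : M ⟶ N) (g' : N ⟶ P) (t : T ω j P) :
    Tmap ω j (g ≫ g') t = Tmap ω j g (Tmap ω j g' t) := by
  rw [Tmap_apply, Tmap_apply, Tmap_apply, Functor.map_comp, Category.assoc]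

lemma Tmap_id (j : ℤ) {M : ModuleCat.{u} A} (t : T ω j M) : Tmap ω j (𝟙 M) t = t := by
  rw [Tmap_apply, CategoryTheory.Functor.map_id, Category.id_comp]

section LES

variable (S : ShortComplex (ModuleCat.{u} A)) (hS : S.ShortExact)

/-- the connecting map `T^j(X₁) → T^{j+1}(X₃)` -/
noncomputable def Tδ (j j' : ℤ) (h : j + 1 = j') : T ω j S.X₁ →ₗ[A] T ω j' S.X₃ where
  toFun t := ShiftedHom.comp (hS.singleδ : ShiftedHom (sg S.X₃) (sg S.X₁) (1 : ℤ)) t h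
  map_add' t t' := ShiftedHom.comp_add _ _ _ _
  map_smul' a t := ShiftedHom.comp_smul _ _ _ _

lemma Tδ_apply (j j' : ℤ) (h : j + 1 = j') (t : T ω j S.X₁) :
    Tδ ω S hS j j' h t =
      ShiftedHom.comp (hS.singleδ : ShiftedHom (sg S.X₃) (sg S.X₁) (1 : ℤ)) t h := rfl

include hS in
lemma T_exact₂ (j : ℤ) (t : T ω j S.X₂) (ht : Tmap ω j S.f t = 0) :
    ∃ s : T ω j S.X₃, Tmap ω j S.g s = t := by
  obtain ⟨s, hs⟩ := Triangle.yoneda_exact₂ _ hS.singleTriangle_distinguished t ht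
  exact ⟨s, hs.symm⟩

lemma T_exact₁ (j j' : ℤ) (h : j + 1 = j') (t : T ω j S.X₁) (ht : Tδ ω S hS j j' h t = 0) :
    ∃ s : T ω j S.X₂, Tmap ω j S.f s = t := by
  rw [Tδ_apply, ShiftedHom.comp] at ht
  have h1 : hS.singleδ ≫ t⟦(1 : ℤ)⟧' = 0 := by
    have := congrArg (fun φ => φ ≫ (shiftFunctorAdd' (Dual.D A) j 1 j' h).hom.app ω) ht
    simpa using this
  obtain ⟨s, hs⟩ :=
    Groth.Agent.Lib.Helper5.DualLocal.exists_factor_of_δ_comp_eq_zero S hS (ω⟦j⟧) t h1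
  exact ⟨s, hs.symm⟩

lemma T_exact₃ (j j' : ℤ) (h : j + 1 = j') (t : T ω j' S.X₃) (ht : Tmap ω j' S.g t = 0) :
    ∃ s : T ω j S.X₁, Tδ ω S hS j j' h s = t := by
  let t' : sg S.X₃ ⟶ (ω⟦j⟧)⟦(1 : ℤ)⟧ := t ≫ (shiftFunctorAdd' (Dual.D A) j 1 j' h).hom.app ω
  have ht' : (singleFunctor (ModuleCat.{u} A) 0).map S.g ≫ t' = 0 := by
    rw [Tmap_apply] at ht
    rw [← Category.assoc, ht, zero_comp]
  obtain ⟨k, hk⟩ :=
    Groth.Agent.Lib.Helper5.DualLocal.exists_of_g_comp_eq_zero S hS (ω⟦j⟧) t' ht'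
  refine ⟨k, ?_⟩
  rw [Tδ_apply, ShiftedHom.comp, ← Category.assoc, ← hk]
  simp [t']

include hS in
lemma Tmap_f_g (j : ℤ) (s : T ω j S.X₃) : Tmap ω j S.f (Tmap ω j S.g s) = 0 := by
  rw [← Tmap_comp, S.zero, Tmap_apply, Functor.map_zero, zero_comp]

lemma Tδ_f (j j' : ℤ) (h : j + 1 = j') (s : T ω j S.X₂) :
    Tδ ω S hS j j' h (Tmap ω j S.f s) = 0 := by
  rw [Tδ_apply, ShiftedHom.comp, Tmap_apply, Functor.map_comp, ← Category.assoc,
    ← Category.assoc, Groth.Agent.Lib.Helper5.DualLocal.δ_comp_f S hS, zero_comp, zero_comp]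

lemma Tmap_g_δ (j j' : ℤ) (h : j + 1 = j') (s : T ω j S.X₁) :
    Tmap ω j' S.g (Tδ ω S hS j j' h s) = 0 := by
  rw [Tδ_apply, ShiftedHom.comp, Tmap_apply, ← Category.assoc]
  have : (singleFunctor (ModuleCat.{u} A) 0).map S.g ≫ hS.singleδ = 0 :=
    comp_distTriang_mor_zero₂₃ _ hS.singleTriangle_distinguished
  rw [this, zero_comp]

end LES

section DualExact

variable {E : Type u} [AddCommGroup E] [Module A E]
  {T1 T2 T3 : Type*} [AddCommGroup T1] [Module A T1] [AddCommGroup T2] [Module A T2]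
  [AddCommGroup T3] [Module A T3]

/-- `Hom(-, E)` of an exact sequence is exact, for `E` injective. -/
theorem dual_exact [Module.Injective A E] (u : T1 →ₗ[A] T2) (v : T2 →ₗ[A] T3)
    (h : ∀ t, v t = 0 → ∃ s, u s = t) (φ : T2 →ₗ[A] E) (hφ : ∀ s, φ (u s) = 0) :
    ∃ χ : T3 →ₗ[A] E, ∀ t, χ (v t) = φ t := by
  have hker : LinearMap.ker v ≤ LinearMap.ker φ := by
    intro t ht
    obtain ⟨s, rfl⟩ := h t ht
    exact hφ s
  let φ' : (T2 ⧸ LinearMap.ker v) →ₗ[A] E := (LinearMap.ker v).liftQ φ hker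
  let v' : (T2 ⧸ LinearMap.ker v) →ₗ[A] T3 := (LinearMap.ker v).liftQ v le_rfl
  have hv' : Function.Injective v' := by
    rw [← LinearMap.ker_eq_bot]
    exact Submodule.ker_liftQ_eq_bot _ _ _ le_rfl
  obtain ⟨χ, hχ⟩ := Module.Injective.extension_property A E _ _ v' hv' φ'
  refine ⟨χ, fun t => ?_⟩
  have := LinearMap.congr_fun hχ (Submodule.Quotient.mk t)
  simpa [v', φ'] using this

end DualExact

section G

variable {E : Type u} [AddCommGroup E] [Module A E]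

variable (E) in
/-- `G^i(M) = Hom_A(T^{-i}(M), E)`. -/
abbrev G (i : ℕ) (M : ModuleCat.{u} A) : Type (u + 1) := T ω (-(i : ℤ)) M →ₗ[A] E

variable (E) in
/-- functoriality of `G` -/
noncomputable def Gmap (i : ℕ) {M N : ModuleCat.{u} A} (g : M ⟶ N) : G ω E i M →ₗ[A] G ω E i N :=
  LinearMap.lcomp A E (Tmap ω (-(i : ℤ)) g)

lemma Gmap_apply (i : ℕ) {M N : ModuleCat.{u} A} (g : M ⟶ N) (φ : G ω E i M) (t : T ω (-(i : ℤ)) N) :
    Gmap ω E i g φ t = φ (Tmap ω (-(i : ℤ)) g t) := rfl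

variable (S : ShortComplex (ModuleCat.{u} A)) (hS : S.ShortExact)

variable (E) in
/-- the connecting map `G^i(X₃) → G^{i+1}(X₁)` -/
noncomputable def Gδ (i : ℕ) : G ω E i S.X₃ →ₗ[A] G ω E (i + 1) S.X₁ :=
  LinearMap.lcomp A E (Tδ ω S hS (-((i + 1 : ℕ) : ℤ)) (-(i : ℤ)) (by push_cast; ring))

lemma Gδ_apply (i : ℕ) (φ : G ω E i S.X₃) (t : T ω (-((i + 1 : ℕ) : ℤ)) S.X₁) :
    Gδ ω E S hS i φ t = φ (Tδ ω S hS (-((i + 1 : ℕ) : ℤ)) (-(i : ℤ)) (by push_cast; ring) t) := rfl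

variable [Module.Injective A E]

include hS in
theorem G_exact₂ (i : ℕ) (φ : G ω E i S.X₂) (hφ : Gmap ω E i S.g φ = 0) :
    ∃ χ : G ω E i S.X₁, Gmap ω E i S.f χ = φ := by
  obtain ⟨χ, hχ⟩ := dual_exact (Tmap ω (-(i : ℤ)) S.g) (Tmap ω (-(i : ℤ)) S.f)
    (fun t ht => T_exact₂ ω S hS _ t ht) φ (fun s => LinearMap.congr_fun hφ s)
  exact ⟨χ, LinearMap.ext hχ⟩

theorem G_exact₃ (i : ℕ) (φ : G ω E i S.X₃) (hφ : Gδ ω E S hS i φ = 0) :
    ∃ χ : G ω E i S.X₂, Gmap ω E i S.g χ = φ := by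
  obtain ⟨χ, hχ⟩ := dual_exact
    (Tδ ω S hS (-((i + 1 : ℕ) : ℤ)) (-(i : ℤ)) (by push_cast; ring)) (Tmap ω (-(i : ℤ)) S.g)
    (fun t ht => T_exact₃ ω S hS _ _ _ t ht) φ (fun s => LinearMap.congr_fun hφ s)
  exact ⟨χ, LinearMap.ext hχ⟩

theorem G_exact₁ (i : ℕ) (φ : G ω E (i + 1) S.X₁) (hφ : Gmap ω E (i + 1) S.f φ = 0) :
    ∃ χ : G ω E i S.X₃, Gδ ω E S hS i χ = φ := by
  obtain ⟨χ, hχ⟩ := dual_exact (Tmap ω (-((i + 1 : ℕ) : ℤ)) S.f)
    (Tδ ω S hS (-((i + 1 : ℕ) : ℤ)) (-(i : ℤ)) (by push_cast; ring))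
    (fun t ht => T_exact₁ ω S hS _ _ _ t ht) φ (fun s => LinearMap.congr_fun hφ s)
  exact ⟨χ, LinearMap.ext hχ⟩

include hS in
theorem Gmap_g_f (i : ℕ) (φ : G ω E i S.X₁) : Gmap ω E i S.g (Gmap ω E i S.f φ) = 0 := by
  refine LinearMap.ext fun t => ?_
  rw [Gmap_apply, Gmap_apply, Tmap_f_g ω S hS, map_zero, LinearMap.zero_apply]

theorem Gδ_g (i : ℕ) (φ : G ω E i S.X₂) : Gδ ω E S hS i (Gmap ω E i S.g φ) = 0 := by
  refine LinearMap.ext fun t => ?_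
  rw [Gδ_apply, Gmap_apply, Tmap_g_δ, map_zero, LinearMap.zero_apply]

theorem Gmap_f_δ (i : ℕ) (φ : G ω E i S.X₃) : Gmap ω E (i + 1) S.f (Gδ ω E S hS i φ) = 0 := by
  refine LinearMap.ext fun t => ?_
  rw [Gmap_apply, Gδ_apply, Tδ_f, map_zero, LinearMap.zero_apply]

end G

end Groth.Agent.Lib.Helper14.LDual
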