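import Mathlib
import Groth.Agent.Lib.Helper8LC
import Groth.Agent.Lib.Helper8BridgeT4
import Groth.Agent.Lib.Helper8MV

/-! # The connecting map on local cohomology through `Abelian.Ext` (helper14)

Local cohomology `H^i_I(M) = colim_k Ext^i(R/I^k, M)` with connecting maps defined by composition
with the extension class in `Abelian.Ext` (through helper8's bridge `Ψ`), and the long exact
sequence for these connecting maps. -/

set_option autoImplicit false
set_option linter.unusedVariables false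
set_option linter.unusedSectionVars false
set_option linter.style.haveILetI false

universe u

open CategoryTheory CategoryTheory.Limits Opposite CategoryTheory.Abelian

namespace Groth.Agent.Lib.Helper14.LDual

open Groth.Agent.Lib.Helper8.ExtLES Groth.Agent.Lib.Helper8.LC Groth.Agent.Lib.Helper8.Bridge

variable {A : Type u} [CommRing A]

section Eδ

variable (S : ShortComplex (ModuleCat.{u} A)) (hS : S.ShortExact)

/-- connecting map on the old `Ext` modules through the extension class -/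
noncomputable def Eδ (X : ModuleCat.{u} A) (i : ℕ) : E i X S.X₃ →ₗ[A] E (i + 1) X S.X₁ :=
  (Ψ (i + 1) X S.X₁).symm.toLinearMap ∘ₗ
    (hS.extClass.postcompOfLinear A X (rfl : i + 1 = i + 1)) ∘ₗ (Ψ i X S.X₃).toLinearMap

lemma Ψ_Eδ (X : ModuleCat.{u} A) (i : ℕ) (z : E i X S.X₃) :
    Ψ (i + 1) X S.X₁ (Eδ S hS X i z) = (Ψ i X S.X₃ z).comp hS.extClass rfl := by
  simp [Eδ]

lemma Eδ_naturality {X X' : ModuleCat.{u} A} (φ : X' ⟶ X) (i : ℕ) (z : E i X S.X₃) :
    Eδ S hS X' i ((Epre i φ S.X₃).hom z) = (Epre (i + 1) φ S.X₁).hom (Eδ S hS X i z) := by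
  apply (Ψ (i + 1) X' S.X₁).injective
  rw [Ψ_Eδ, Ψ_Epre, Ψ_Epre, Ψ_Eδ, Ext.comp_assoc]
  lia

include hS in
lemma Eδ_exact₃ (X : ModuleCat.{u} A) (i : ℕ) (z : E i X S.X₃) (hz : Eδ S hS X i z = 0) :
    ∃ y : E i X S.X₂, (Emap i X S.g).hom y = z := by
  have h1 : (Ψ i X S.X₃ z).comp hS.extClass rfl = 0 := by
    rw [← Ψ_Eδ, hz, map_zero]
  obtain ⟨y, hy⟩ := Ext.covariant_sequence_exact₃ X hS (Ψ i X S.X₃ z) rfl h1
  refine ⟨(Ψ i X S.X₂).symm y, (Ψ i X S.X₃).injective ?_⟩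
  rw [Ψ_Emap, LinearEquiv.apply_symm_apply, hy]

lemma Eδ_exact₁ (X : ModuleCat.{u} A) (i : ℕ) (x : E (i + 1) X S.X₁)
    (hx : (Emap (i + 1) X S.f).hom x = 0) : ∃ z : E i X S.X₃, Eδ S hS X i z = x := by
  have h1 : (Ψ (i + 1) X S.X₁ x).comp (Ext.mk₀ S.f) (add_zero _) = 0 := by
    rw [← Ψ_Emap, hx, map_zero]
  obtain ⟨z, hz⟩ := Ext.covariant_sequence_exact₁ X hS (Ψ (i + 1) X S.X₁ x) h1 rfl
  refine ⟨(Ψ i X S.X₃).symm z, (Ψ (i + 1) X S.X₁).injective ?_⟩
  rw [Ψ_Eδ, LinearEquiv.apply_symm_apply, hz]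

lemma Eδ_Emap_g (X : ModuleCat.{u} A) (i : ℕ) (y : E i X S.X₂) :
    Eδ S hS X i ((Emap i X S.g).hom y) = 0 := by
  apply (Ψ (i + 1) X S.X₁).injective
  rw [Ψ_Eδ, Ψ_Emap, map_zero, Ext.comp_assoc_of_second_deg_zero, hS.comp_extClass,
    Ext.comp_zero]

lemma Emap_f_Eδ (X : ModuleCat.{u} A) (i : ℕ) (z : E i X S.X₃) :
    (Emap (i + 1) X S.f).hom (Eδ S hS X i z) = 0 := by
  apply (Ψ (i + 1) X S.X₂).injective
  rw [Ψ_Emap, Ψ_Eδ, map_zero, Ext.comp_assoc_of_third_deg_zero, hS.extClass_comp,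
    Ext.comp_zero]

end Eδ

section Hd

variable (I : Ideal A) (i : ℕ) (S : ShortComplex (ModuleCat.{u} A)) (hS : S.ShortExact)

/-- The cocone defining the connecting map. -/
noncomputable def dCocone : Cocone (evalDiagram I i S.X₃) where
  pt := (localCohomology I (i + 1)).obj S.X₁
  ι :=
    { app := fun j => ModuleCat.ofHom (Eδ S hS (Xk I j.unop.unop) i) ≫
        cls I (i + 1) S.X₁ j.unop.unop
      naturality := by
        intro j j' a
        have hle : j.unop.unop ≤ j'.unop.unop := a.unop.unop.le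
        have ha : a = (homOfLE hle).op.op := Subsingleton.elim _ _
        subst ha
        apply ModuleCat.hom_ext
        apply LinearMap.ext
        intro z
        have h1 := Eδ_naturality S hS (tr I hle) i (z : E i (Xk I j.unop.unop) S.X₃)
        have h2 := cls_restrict I (i + 1) S.X₁ hle (Eδ S hS (Xk I j.unop.unop) i z)
        exact (congrArg (cls I (i + 1) S.X₁ j'.unop.unop) h1).trans h2 }

/-- The connecting homomorphism `H^i_I(X₃) ⟶ H^{i+1}_I(X₁)` (through `Abelian.Ext`). -/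
noncomputable def Hd : (localCohomology I i).obj S.X₃ ⟶ (localCohomology I (i + 1)).obj S.X₁ :=
  (evalIsColimit I i S.X₃).desc (dCocone I i S hS)

theorem Hd_cls (k : ℕ) (z : E i (Xk I k) S.X₃) :
    (Hd I i S hS).hom (cls I i S.X₃ k z) = cls I (i + 1) S.X₁ k (Eδ S hS (Xk I k) i z) := by
  have := (evalIsColimit I i S.X₃).fac (dCocone I i S hS) (op (op k))
  have h2 := congrArg (fun ψ => ψ.hom z) this
  exact h2

theorem Hd_exact₃ (z : (localCohomology I i).obj S.X₃) (hz : (Hd I i S hS).hom z = 0) :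
    ∃ y : (localCohomology I i).obj S.X₂, ((localCohomology I i).map S.g).hom y = z := by
  obtain ⟨k, zk, rfl⟩ := exists_rep I i S.X₃ z
  rw [Hd_cls, cls_eq_zero_iff] at hz
  obtain ⟨m, hk, hm⟩ := hz
  have hm' : Eδ S hS (Xk I m) i ((Epre i (tr I hk) S.X₃).hom zk) = 0 := by
    rw [Eδ_naturality]; exact hm
  obtain ⟨ym, hym⟩ := Eδ_exact₃ S hS _ i _ hm'
  refine ⟨cls I i S.X₂ m ym, ?_⟩
  have h1 := map_cls I i S.g m ym
  refine h1.trans ?_
  have h2 : (Emap i (Xk I m) S.g) ym = (Epre i (tr I hk) S.X₃) zk := hym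
  rw [h2]
  exact cls_restrict I i S.X₃ hk zk

theorem Hd_exact₁ (x : (localCohomology I (i + 1)).obj S.X₁)
    (hx : ((localCohomology I (i + 1)).map S.f).hom x = 0) :
    ∃ z : (localCohomology I i).obj S.X₃, (Hd I i S hS).hom z = x := by
  obtain ⟨k, xk, rfl⟩ := exists_rep I (i + 1) S.X₁ x
  have hx' : cls I (i + 1) S.X₂ k (Emap (i + 1) (Xk I k) S.f xk) = 0 :=
    (map_cls I (i + 1) S.f k xk).symm.trans hx
  rw [cls_eq_zero_iff] at hx'
  obtain ⟨m, hk, hm⟩ := hx'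
  rw [Epre_Emap] at hm
  obtain ⟨zm, hzm⟩ := Eδ_exact₁ S hS _ i _ hm
  refine ⟨cls I i S.X₃ m zm, ?_⟩
  rw [Hd_cls, hzm]
  exact cls_restrict I (i + 1) S.X₁ hk xk

theorem Hd_map_g (y : (localCohomology I i).obj S.X₂) :
    (Hd I i S hS).hom (((localCohomology I i).map S.g).hom y) = 0 := by
  obtain ⟨k, yk, rfl⟩ := exists_rep I i S.X₂ y
  have h1 : ((localCohomology I i).map S.g).hom (cls I i S.X₂ k yk) =
      cls I i S.X₃ k (Emap i (Xk I k) S.g yk) := map_cls I i S.g k yk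
  rw [h1, Hd_cls]
  have h2 : Eδ S hS (Xk I k) i ((Emap i (Xk I k) S.g) yk) = 0 := Eδ_Emap_g S hS _ i yk
  rw [h2, map_zero]

theorem map_f_Hd (z : (localCohomology I i).obj S.X₃) :
    ((localCohomology I (i + 1)).map S.f).hom ((Hd I i S hS).hom z) = 0 := by
  obtain ⟨k, zk, rfl⟩ := exists_rep I i S.X₃ z
  rw [Hd_cls]
  have h1 := map_cls I (i + 1) S.f k (Eδ S hS (Xk I k) i zk)
  refine h1.trans ?_
  have h2 : (Emap (i + 1) (Xk I k) S.f) (Eδ S hS (Xk I k) i zk) = 0 := Emap_f_Eδ S hS _ i zk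
  rw [h2, map_zero]

end Hd

end Groth.Agent.Lib.Helper14.LDual
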