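import Mathlib
import Groth.Agent.Lib.Helper14LDualB
import Groth.Agent.Lib.Helper14LDualC
import Groth.Agent.Lib.Helper5DualFLB

/-! # The duality pairing `H^i_m(M) × Hom_D(M, ω[-i]) → E` (helper14) -/

set_option autoImplicit false
set_option linter.unusedVariables false
set_option linter.unusedSectionVars false
set_option linter.style.haveILetI false

universe u

open CategoryTheory CategoryTheory.Limits Opposite CategoryTheory.Abelian DerivedCategory

attribute [local instance] HasDerivedCategory.standard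

namespace Groth.Agent.Lib.Helper14.LDual

open Groth.Agent.Lib.Helper8.ExtLES Groth.Agent.Lib.Helper8.LC Groth.Agent.Lib.Helper8.Bridge
open Groth.Agent.Lib.Helper5.DualFL

variable {A : Type u} [CommRing A] [IsLocalRing A] [IsNoetherianRing A]
  (ω : Dual.D A) (hω : Dual.IsDualizing A ω) (hn : Dual.IsNormalized A ω)
  {Eh : Type u} [AddCommGroup Eh] [Module A Eh]
  (f : IsLocalRing.ResidueField A →ₗ[A] Eh) (hf : InjHull.IsInjectiveHull f)

local notation "𝔪" => IsLocalRing.maximalIdeal A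

section Pairing

variable (i : ℕ) (M : ModuleCat.{u} A)

/-- the composite `A/m^k → M[i] → ω` -/
noncomputable def cmp (k : ℕ) (x : E i (Xk 𝔪 k) M) (t : T ω (-(i : ℤ)) M) :
    Dual.inD A (A ⧸ 𝔪 ^ k) ⟶ ω :=
  ((Ψ i (Xk 𝔪 k) M x).hom.comp t (neg_add_cancel (i : ℤ))) ≫
    (shiftFunctorZero (Dual.D A) ℤ).hom.app ω

lemma cmp_add_left (k : ℕ) (x x' : E i (Xk 𝔪 k) M) (t : T ω (-(i : ℤ)) M) :
    cmp ω i M k (x + x') t = cmp ω i M k x t + cmp ω i M k x' t := by
  unfold cmp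
  rw [map_add, Ext.add_hom, ShiftedHom.add_comp, Preadditive.add_comp]

lemma cmp_smul_left (k : ℕ) (a : A) (x : E i (Xk 𝔪 k) M) (t : T ω (-(i : ℤ)) M) :
    cmp ω i M k (a • x) t = a • cmp ω i M k x t := by
  unfold cmp
  rw [map_smul, Ext.smul_hom, ShiftedHom.smul_comp, Linear.smul_comp]

lemma cmp_add_right (k : ℕ) (x : E i (Xk 𝔪 k) M) (t t' : T ω (-(i : ℤ)) M) :
    cmp ω i M k x (t + t') = cmp ω i M k x t + cmp ω i M k x t' := by
  unfold cmp
  rw [ShiftedHom.comp_add, Preadditive.add_comp]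

lemma cmp_smul_right (k : ℕ) (a : A) (x : E i (Xk 𝔪 k) M) (t : T ω (-(i : ℤ)) M) :
    cmp ω i M k x (a • t) = a • cmp ω i M k x t := by
  unfold cmp
  rw [ShiftedHom.comp_smul, Linear.smul_comp]

lemma cmp_restrict {k l : ℕ} (h : k ≤ l) (x : E i (Xk 𝔪 k) M) (t : T ω (-(i : ℤ)) M) :
    cmp ω i M l ((Epre i (tr 𝔪 h) M).hom x) t = tau ω h (cmp ω i M k x t) := by
  unfold cmp
  rw [tau_apply, Ψ_Epre, Ext.comp_hom, Ext.mk₀_hom]
  rw [ShiftedHom.comp_assoc _ _ _ _ _ (by lia), ShiftedHom.mk₀_comp, Category.assoc]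
  rfl

lemma cmp_map {N : ModuleCat.{u} A} (g : M ⟶ N) (k : ℕ) (x : E i (Xk 𝔪 k) M)
    (t : T ω (-(i : ℤ)) N) :
    cmp ω i N k ((Emap i (Xk 𝔪 k) g).hom x) t = cmp ω i M k x (Tmap ω (-(i : ℤ)) g t) := by
  unfold cmp
  rw [Ψ_Emap, Ext.comp_hom, Ext.mk₀_hom, Tmap_apply]
  rw [ShiftedHom.comp_assoc (a₂₃ := -(i : ℤ)) _ _ _ _ (by simp) (by simp), ShiftedHom.mk₀_comp]

end Pairing

section Delta

variable (i : ℕ) (S : ShortComplex (ModuleCat.{u} A)) (hS : S.ShortExact)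

lemma cmp_δ (k : ℕ) (x : E i (Xk 𝔪 k) S.X₃) (t : T ω (-((i + 1 : ℕ) : ℤ)) S.X₁) :
    cmp ω (i + 1) S.X₁ k (Eδ S hS (Xk 𝔪 k) i x) t =
      cmp ω i S.X₃ k x (Tδ ω S hS (-((i + 1 : ℕ) : ℤ)) (-(i : ℤ)) (by push_cast; ring) t) := by
  unfold cmp
  rw [Ψ_Eδ, Ext.comp_hom, ShortComplex.ShortExact.extClass_hom, Tδ_apply]
  rw [ShiftedHom.comp_assoc _ _ _ _ _ (by push_cast; ring)]

end Delta

section Psi

variable (i : ℕ) (M : ModuleCat.{u} A)

/-- the pairing at level `k`, for fixed `t` -/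
noncomputable def pr (k : ℕ) (t : T ω (-(i : ℤ)) M) : E i (Xk 𝔪 k) M →ₗ[A] Eh where
  toFun x := jseq ω hω hn f hf k (cmp ω i M k x t)
  map_add' x x' := by rw [cmp_add_left, map_add]
  map_smul' a x := by rw [cmp_smul_left, map_smul]; rfl

lemma pr_apply (k : ℕ) (t : T ω (-(i : ℤ)) M) (x : E i (Xk 𝔪 k) M) :
    pr ω hω hn f hf i M k t x = jseq ω hω hn f hf k (cmp ω i M k x t) := rfl

/-- the cocone defining the pairing with `t` -/
noncomputable def prCocone (t : T ω (-(i : ℤ)) M) : Cocone (evalDiagram 𝔪 i M) where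
  pt := ModuleCat.of A Eh
  ι :=
    { app := fun j => ModuleCat.ofHom (pr ω hω hn f hf i M j.unop.unop t)
      naturality := by
        intro j j' a
        have hle : j.unop.unop ≤ j'.unop.unop := a.unop.unop.le
        have ha : a = (homOfLE hle).op.op := Subsingleton.elim _ _
        subst ha
        apply ModuleCat.hom_ext
        apply LinearMap.ext
        intro z
        have h1 := cmp_restrict ω i M hle (z : E i (Xk 𝔪 j.unop.unop) M) t
        have h2 := jseq_le ω hω hn f hf hle (cmp ω i M j.unop.unop z t)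
        exact (congrArg (jseq ω hω hn f hf j'.unop.unop) h1).trans h2 }

/-- pairing with `t`, on local cohomology -/
noncomputable def Phi (t : T ω (-(i : ℤ)) M) :
    (localCohomology 𝔪 i).obj M ⟶ ModuleCat.of A Eh :=
  (evalIsColimit 𝔪 i M).desc (prCocone ω hω hn f hf i M t)

lemma Phi_cls (t : T ω (-(i : ℤ)) M) (k : ℕ) (x : E i (Xk 𝔪 k) M) :
    (Phi ω hω hn f hf i M t).hom (cls 𝔪 i M k x) = jseq ω hω hn f hf k (cmp ω i M k x t) := by
  have := (evalIsColimit 𝔪 i M).fac (prCocone ω hω hn f hf i M t) (op (op k))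
  have h2 := congrArg (fun ψ => ψ.hom x) this
  exact h2

/-- the duality map `H^i_m(M) → Hom_A(Hom_D(M, ω[-i]), E)` -/
noncomputable def Psi : (localCohomology 𝔪 i).obj M →ₗ[A] G ω Eh i M where
  toFun z :=
    { toFun := fun t => (Phi ω hω hn f hf i M t).hom z
      map_add' := by
        intro t t'
        obtain ⟨k, x, rfl⟩ := exists_rep 𝔪 i M z
        rw [Phi_cls, Phi_cls, Phi_cls, cmp_add_right, map_add]
      map_smul' := by
        intro a t
        obtain ⟨k, x, rfl⟩ := exists_rep 𝔪 i M z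
        rw [Phi_cls, Phi_cls, cmp_smul_right, map_smul]
        rfl }
  map_add' z z' := by
    refine LinearMap.ext fun t => ?_
    exact map_add (Phi ω hω hn f hf i M t).hom z z'
  map_smul' a z := by
    refine LinearMap.ext fun t => ?_
    exact map_smul (Phi ω hω hn f hf i M t).hom a z

lemma Psi_cls (k : ℕ) (x : E i (Xk 𝔪 k) M) (t : T ω (-(i : ℤ)) M) :
    Psi ω hω hn f hf i M (cls 𝔪 i M k x) t = jseq ω hω hn f hf k (cmp ω i M k x t) :=
  Phi_cls ω hω hn f hf i M t k x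

end Psi

section PsiNat

variable (i : ℕ)

theorem Psi_nat {M N : ModuleCat.{u} A} (g : M ⟶ N) (z : (localCohomology 𝔪 i).obj M) :
    Psi ω hω hn f hf i N (((localCohomology 𝔪 i).map g).hom z) =
      Gmap ω Eh i g (Psi ω hω hn f hf i M z) := by
  obtain ⟨k, x, rfl⟩ := exists_rep 𝔪 i M z
  refine LinearMap.ext fun t => ?_
  have h1 : ((localCohomology 𝔪 i).map g).hom (cls 𝔪 i M k x) =
      cls 𝔪 i N k (Emap i (Xk 𝔪 k) g x) := map_cls 𝔪 i g k x
  rw [h1, Psi_cls, Gmap_apply, Psi_cls]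
  exact congrArg _ (cmp_map ω i M g k x t)

theorem Psi_δ (S : ShortComplex (ModuleCat.{u} A)) (hS : S.ShortExact)
    (z : (localCohomology 𝔪 i).obj S.X₃) :
    Psi ω hω hn f hf (i + 1) S.X₁ ((Hd 𝔪 i S hS).hom z) =
      Gδ ω Eh S hS i (Psi ω hω hn f hf i S.X₃ z) := by
  obtain ⟨k, x, rfl⟩ := exists_rep 𝔪 i S.X₃ z
  refine LinearMap.ext fun t => ?_
  rw [Hd_cls, Psi_cls, Gδ_apply, Psi_cls]
  exact congrArg _ (cmp_δ ω i S hS k x t)

end PsiNat

end Groth.Agent.Lib.Helper14.LDual
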