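import Mathlib
import Groth.Agent.Lib.Helper14LDualD
import Groth.Agent.Lib.Helper8LC2
import Groth.Agent.Lib.Helper8LC3
import Groth.Agent.Lib.Helper5DualFLA
import Groth.Agent.S5155
import Groth.Agent.S0311

/-! # Local duality pairing: torsion and the residue field case (helper14) -/

set_option autoImplicit false
set_option linter.unusedVariables false
set_option linter.unusedSectionVars false
set_option linter.style.haveILetI false

universe u

open CategoryTheory CategoryTheory.Limits Opposite CategoryTheory.Abelian DerivedCategory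

attribute [local instance] HasDerivedCategory.standard

namespace Groth.Agent.Lib.Helper14.LDual

open Groth.Agent.Lib.Helper8.ExtLES Groth.Agent.Lib.Helper8.LC Groth.Agent.Lib.Helper8.Bridge
open Groth.Agent.Lib.Helper5.DualFL Groth.Agent.Lib.Helper5.NormDual

variable {A : Type u} [CommRing A] [IsLocalRing A] [IsNoetherianRing A]
  (ω : Dual.D A) (hω : Dual.IsDualizing A ω) (hn : Dual.IsNormalized A ω)
  {Eh : Type u} [AddCommGroup Eh] [Module A Eh]
  (f : IsLocalRing.ResidueField A →ₗ[A] Eh) (hf : InjHull.IsInjectiveHull f)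

local notation "𝔪" => IsLocalRing.maximalIdeal A

section Torsion

theorem H_pow_torsion (x : A) (hx : x ∈ 𝔪) (i : ℕ) (M : ModuleCat.{u} A)
    (z : (localCohomology 𝔪 i).obj M) : ∃ n : ℕ, x ^ n • z = 0 := by
  obtain ⟨n, hn'⟩ := isPowerTorsion_H 𝔪 i M z
  exact ⟨n, hn' _ (Ideal.pow_mem_pow hx n)⟩

include hω in
theorem finite_T (j : ℤ) (M : ModuleCat.{u} A) [Module.Finite A M] :
    Module.Finite A (T ω j M) :=
  finite_ext ω hω M j

include hω hf in
theorem G_pow_torsion (x : A) (hx : x ∈ 𝔪) (i : ℕ) (M : ModuleCat.{u} A) [Module.Finite A M]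
    (φ : G ω Eh i M) : ∃ n : ℕ, x ^ n • φ = 0 := by
  classical
  haveI := finite_T ω hω (-(i : ℤ)) M
  obtain ⟨s, hs⟩ := (Module.Finite.fg_top : (⊤ : Submodule A (T ω (-(i : ℤ)) M)).FG)
  have hE := Groth.Agent.S0311.result A Eh f hf
  choose N hN using fun t : T ω (-(i : ℤ)) M => hE (φ t)
  refine ⟨s.sup N, ?_⟩
  apply LinearMap.ext_on_range (v := fun t : s => (t : T ω (-(i : ℤ)) M))
  · rw [Subtype.range_coe_subtype]
    exact hs
  · rintro ⟨t, ht⟩
    rw [LinearMap.smul_apply, LinearMap.zero_apply]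
    apply hN t
    exact Ideal.pow_le_pow_right (Finset.le_sup ht) (Ideal.pow_mem_pow hx _)

end Torsion

section Residue

/-- the residue field as an object of `ModuleCat A` -/
noncomputable abbrev kk : ModuleCat.{u} A := ModuleCat.of A (IsLocalRing.ResidueField A)

lemma torsionSub_kk : DRing.torsionSub 𝔪 (IsLocalRing.ResidueField A) = ⊤ := by
  rw [eq_top_iff]
  intro x _
  refine ⟨1, fun a ha => ?_⟩
  rw [pow_one] at ha
  exact killed_residue 𝔪 le_rfl a ha x

theorem H_kk_subsingleton (i : ℕ) :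
    Subsingleton ((localCohomology 𝔪 (i + 1)).obj (kk (A := A))) := by
  refine ⟨fun a b => ?_⟩
  rw [H_succ_eq_zero_of_torsion 𝔪 i (IsLocalRing.ResidueField A) torsionSub_kk a,
    H_succ_eq_zero_of_torsion 𝔪 i (IsLocalRing.ResidueField A) torsionSub_kk b]

include hn in
theorem T_kk_subsingleton (j : ℤ) (hj : j ≠ 0) : Subsingleton (T ω j (kk (A := A))) :=
  hn j hj

include hn in
theorem G_kk_subsingleton (i : ℕ) : Subsingleton (G ω Eh (i + 1) (kk (A := A))) := by
  haveI : Subsingleton (T ω (-((i + 1 : ℕ) : ℤ)) (kk (A := A))) :=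
    T_kk_subsingleton ω hn _ (by push_cast; lia)
  refine ⟨fun φ ψ => LinearMap.ext fun t => ?_⟩
  rw [Subsingleton.elim t 0, map_zero, map_zero]

theorem isSimpleModule_H0_kk :
    IsSimpleModule A ((localCohomology 𝔪 0).obj (kk (A := A))) := by
  haveI : IsSimpleModule A (IsLocalRing.ResidueField A) := isSimpleModule_residue
  let e1 := ΦEquiv 𝔪 (kk (A := A))
  have htop : DRing.torsionSub 𝔪 (kk (A := A)) = ⊤ := torsionSub_kk
  let e2 : DRing.torsionSub 𝔪 (kk (A := A)) ≃ₗ[A] IsLocalRing.ResidueField A :=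
    (LinearEquiv.ofEq _ _ htop).trans Submodule.topEquiv
  exact IsSimpleModule.congr (e1.trans e2)

/-- `T^0(k) ≃ Hom(k, ω)` -/
noncomputable def T0Equiv (M : ModuleCat.{u} A) :
    T ω (-((0 : ℕ) : ℤ)) M ≃ₗ[A] (sg M ⟶ ω) :=
  Linear.homCongr A (Iso.refl _)
    ((shiftFunctorZero' (Dual.D A) (-((0 : ℕ) : ℤ)) (by simp)).app ω)

include hω hn in
theorem isSimpleModule_T0_kk : IsSimpleModule A (T ω (-((0 : ℕ) : ℤ)) (kk (A := A))) := by
  haveI := simple_T ω hω hn
  exact IsSimpleModule.congr (T0Equiv ω (kk (A := A)))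

include hω hn hf in
theorem isSimpleModule_G0_kk : IsSimpleModule A (G ω Eh 0 (kk (A := A))) := by
  haveI := isSimpleModule_T0_kk ω hω hn
  obtain ⟨I, hI, ⟨e⟩⟩ := isSimpleModule_iff_quot_maximal.mp
    (inferInstance : IsSimpleModule A (T ω (-((0 : ℕ) : ℤ)) (kk (A := A))))
  have hI' : I = 𝔪 := IsLocalRing.eq_maximalIdeal hI
  subst hI'
  have e' : T ω (-((0 : ℕ) : ℤ)) (kk (A := A)) ≃ₗ[A] IsLocalRing.ResidueField A := e
  haveI : IsSimpleModule A (IsLocalRing.ResidueField A →ₗ[A] Eh) :=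
    ((Groth.Agent.S5155.result A Eh).mp ⟨f, hf⟩).2.2
  exact IsSimpleModule.congr (LinearEquiv.congrLeft Eh A e')

include hω hn hf in
theorem Psi_kk_zero_bijective : Function.Bijective (Psi ω hω hn f hf 0 (kk (A := A))) := by
  haveI := isSimpleModule_H0_kk (A := A)
  haveI := isSimpleModule_G0_kk ω hω hn f hf
  refine LinearMap.bijective_of_ne_zero ?_
  intro h0
  haveI := isSimpleModule_T0_kk ω hω hn
  haveI : Nontrivial (T ω (-((0 : ℕ) : ℤ)) (kk (A := A))) := IsSimpleModule.nontrivial A _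
  obtain ⟨t₀, ht₀⟩ := exists_ne (0 : T ω (-((0 : ℕ) : ℤ)) (kk (A := A)))
  let c₀ : (A ⧸ 𝔪 ^ 1) →ₗ[A] IsLocalRing.ResidueField A :=
    rho (𝔪 ^ 1) (killed_residue _ pow_one_le) 1
  have hc₀ : Function.Bijective c₀ := by
    constructor
    · rw [injective_iff_map_eq_zero]
      intro b hb
      obtain ⟨a, rfl⟩ := Submodule.Quotient.mk_surjective _ b
      rw [rho_mk] at hb
      have h1 : IsLocalRing.residue A a = 0 := by
        rw [← hb, Algebra.smul_def, mul_one]; rfl
      rw [IsLocalRing.residue_eq_zero_iff] at h1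
      rw [Submodule.Quotient.mk_eq_zero, pow_one]
      exact h1
    · intro y
      obtain ⟨a, rfl⟩ := IsLocalRing.residue_surjective y
      refine ⟨Submodule.Quotient.mk a, ?_⟩
      rw [rho_mk, Algebra.smul_def, mul_one]; rfl
  let c : Xk 𝔪 1 ⟶ kk (A := A) := ModuleCat.ofHom c₀
  haveI : IsIso c := (ConcreteCategory.isIso_iff_bijective c).mpr hc₀
  let x : E 0 (Xk 𝔪 1) (kk (A := A)) := (Ψ 0 (Xk 𝔪 1) (kk (A := A))).symm (Ext.mk₀ c)
  have h1 : Psi ω hω hn f hf 0 (kk (A := A)) (cls 𝔪 0 (kk (A := A)) 1 x) t₀ = 0 := by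
    rw [h0]; rfl
  rw [Psi_cls] at h1
  have h2 := jseq_injective ω hω hn f hf 1 (h1.trans (map_zero _).symm)
  unfold cmp at h2
  rw [LinearEquiv.apply_symm_apply, Ext.mk₀_hom, ShiftedHom.mk₀_comp] at h2
  apply ht₀
  have h3 : (singleFunctor (ModuleCat.{u} A) 0).map c ≫ t₀ = 0 :=
    (cancel_mono ((shiftFunctorZero (Dual.D A) ℤ).hom.app ω)).mp (h2.trans zero_comp.symm)
  exact (cancel_epi ((singleFunctor (ModuleCat.{u} A) 0).map c)).mp (h3.trans comp_zero.symm)

include hω hn hf in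
theorem Psi_kk_bijective (i : ℕ) : Function.Bijective (Psi ω hω hn f hf i (kk (A := A))) := by
  cases i with
  | zero => exact Psi_kk_zero_bijective ω hω hn f hf
  | succ i =>
    haveI := H_kk_subsingleton (A := A) i
    haveI := G_kk_subsingleton ω hn (Eh := Eh) i
    exact ⟨fun a b _ => Subsingleton.elim a b, fun b => ⟨0, Subsingleton.elim _ _⟩⟩

end Residue

end Groth.Agent.Lib.Helper14.LDual
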