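import Mathlib
import Groth.Agent.Lib.Helper14LDualA
import Groth.Agent.Lib.Helper14LDualE
import Groth.Agent.Lib.Helper16LocCohLinear
import Groth.Agent.Lib.Helper5NormDual

/-! # Local duality: the induction (helper14) -/

set_option autoImplicit false
set_option linter.unusedVariables false
set_option linter.unusedSectionVars false
set_option linter.style.haveILetI false

universe u

open CategoryTheory CategoryTheory.Limits Opposite CategoryTheory.Abelian DerivedCategory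

attribute [local instance] HasDerivedCategory.standard

namespace Groth.Agent.Lib.Helper14.LDual

open Groth.Agent.Lib.Helper8.ExtLES Groth.Agent.Lib.Helper8.LC Groth.Agent.Lib.Helper8.Bridge
open Groth.Agent.Lib.Helper5.DualFL Groth.Agent.Lib.Helper5.NormDual

variable {A : Type u} [CommRing A] [IsLocalRing A] [IsNoetherianRing A]
  (ω : Dual.D A) (hω : Dual.IsDualizing A ω) (hn : Dual.IsNormalized A ω)
  {Eh : Type u} [AddCommGroup Eh] [Module A Eh]
  (f : IsLocalRing.ResidueField A →ₗ[A] Eh) (hf : InjHull.IsInjectiveHull f)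

local notation "𝔪" => IsLocalRing.maximalIdeal A

section Functoriality

lemma Gmap_comp (i : ℕ) {M N P : ModuleCat.{u} A} (g : M ⟶ N) (g' : N ⟶ P) (φ : G ω Eh i M) :
    Gmap ω Eh i (g ≫ g') φ = Gmap ω Eh i g' (Gmap ω Eh i g φ) := by
  refine LinearMap.ext fun t => ?_
  rw [Gmap_apply, Gmap_apply, Gmap_apply, Tmap_comp]

lemma Gmap_id (i : ℕ) {M : ModuleCat.{u} A} (φ : G ω Eh i M) : Gmap ω Eh i (𝟙 M) φ = φ := by
  refine LinearMap.ext fun t => ?_
  rw [Gmap_apply, Tmap_id]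

lemma Gmap_iso_bijective (i : ℕ) {M N : ModuleCat.{u} A} (e : M ≅ N) :
    Function.Bijective (Gmap ω Eh i e.hom) := by
  refine Function.bijective_iff_has_inverse.mpr ⟨Gmap ω Eh i e.inv, fun φ => ?_, fun φ => ?_⟩
  · rw [← Gmap_comp, e.hom_inv_id, Gmap_id]
  · rw [← Gmap_comp, e.inv_hom_id, Gmap_id]

lemma Hmap_iso_bijective (i : ℕ) {M N : ModuleCat.{u} A} (e : M ≅ N) :
    Function.Bijective ((localCohomology 𝔪 i).map e.hom).hom :=
  ConcreteCategory.bijective_of_isIso ((localCohomology 𝔪 i).map e.hom)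

lemma Hmap_smul (i : ℕ) (M : ModuleCat.{u} A) (a : A) (z : (localCohomology 𝔪 i).obj M) :
    ((localCohomology 𝔪 i).map (a • 𝟙 M)).hom z = a • z := by
  rw [Groth.Agent.Lib.Helper16.LocCohLinear.localCohomology_map_smul]
  rfl

lemma Tmap_smul (j : ℤ) (M : ModuleCat.{u} A) (a : A) (t : T ω j M) :
    Tmap ω j (a • 𝟙 M) t = a • t := by
  rw [Tmap_apply, Functor.map_smul, CategoryTheory.Functor.map_id, Linear.smul_comp,
    Category.id_comp]

lemma Gmap_smul (i : ℕ) (M : ModuleCat.{u} A) (a : A) (φ : G ω Eh i M) :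
    Gmap ω Eh i (a • 𝟙 M) φ = a • φ := by
  refine LinearMap.ext fun t => ?_
  rw [Gmap_apply, Tmap_smul, map_smul, LinearMap.smul_apply]

end Functoriality

/-- the duality map is bijective in all degrees -/
def P (M : ModuleCat.{u} A) : Prop := ∀ i : ℕ, Function.Bijective (Psi ω hω hn f hf i M)

theorem P_of_iso {M N : ModuleCat.{u} A} (e : M ≅ N) (h : P ω hω hn f hf M) :
    P ω hω hn f hf N := by
  intro i
  have hH := Hmap_iso_bijective (A := A) i e
  have hG := Gmap_iso_bijective ω (Eh := Eh) i e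
  constructor
  · intro z z' hz
    obtain ⟨w, rfl⟩ := hH.2 z
    obtain ⟨w', rfl⟩ := hH.2 z'
    rw [Psi_nat, Psi_nat] at hz
    rw [(h i).1 (hG.1 hz)]
  · intro φ
    obtain ⟨ψ, rfl⟩ := hG.2 φ
    obtain ⟨w, rfl⟩ := (h i).2 ψ
    exact ⟨_, Psi_nat ω hω hn f hf i e.hom w⟩

section Ext

variable (S : ShortComplex (ModuleCat.{u} A)) (hS : S.ShortExact)

include hω hn in
/-- `T^1(X) = 0` for finite `X`. -/
lemma T_pos_eq_zero (X : ModuleCat.{u} A) [Module.Finite A X] (j : ℤ) (hj : 0 < j)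
    (t : T ω j X) : t = 0 :=
  ext_pos_vanish ω hω hn ⊥ X (fun a ha m => by
    rw [(Submodule.mem_bot A).mp ha, zero_smul]) j hj t

include hω hn hS in
lemma Gmap_f_zero_injective [Module.Finite A S.X₃] :
    Function.Injective (Gmap ω Eh 0 S.f) := by
  rw [injective_iff_map_eq_zero]
  intro φ hφ
  refine LinearMap.ext fun t => ?_
  have h1 : Tδ ω S hS (-((0 : ℕ) : ℤ)) 1 (by simp) t = 0 :=
    T_pos_eq_zero ω hω hn S.X₃ 1 one_pos _
  obtain ⟨s, rfl⟩ := T_exact₁ ω S hS _ _ _ t h1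
  exact LinearMap.congr_fun hφ s

include hS in
theorem P_ext [Module.Finite A S.X₃] [Module.Injective A Eh] (h1 : P ω hω hn f hf S.X₁)
    (h3 : P ω hω hn f hf S.X₃) : P ω hω hn f hf S.X₂ := by
  intro i
  constructor
  · -- injectivity
    cases i with
    | zero =>
      rw [injective_iff_map_eq_zero]
      intro z hz
      have hz3 : ((localCohomology 𝔪 0).map S.g).hom z = 0 := by
        apply (h3 0).1
        rw [Psi_nat, hz, map_zero, map_zero]
      obtain ⟨y, rfl⟩ := H_exact₂ 𝔪 0 S hS z hz3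
      rw [Psi_nat] at hz
      have hy : Psi ω hω hn f hf 0 S.X₁ y = 0 :=
        Gmap_f_zero_injective ω hω hn S hS (hz.trans (map_zero _).symm)
      have : y = 0 := (h1 0).1 (hy.trans (map_zero _).symm)
      rw [this, map_zero]
    | succ i =>
      exact four_inj (Hd 𝔪 i S hS).hom ((localCohomology 𝔪 (i + 1)).map S.f).hom
        ((localCohomology 𝔪 (i + 1)).map S.g).hom
        (Gδ ω Eh S hS i) (Gmap ω Eh (i + 1) S.f) (Gmap ω Eh (i + 1) S.g)
        (Psi ω hω hn f hf i S.X₃) (Psi ω hω hn f hf (i + 1) S.X₁)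
        (Psi ω hω hn f hf (i + 1) S.X₂) (Psi ω hω hn f hf (i + 1) S.X₃)
        (fun z hz => H_exact₂ 𝔪 (i + 1) S hS z hz)
        (fun y hy => G_exact₁ ω S hS i y hy)
        (fun w => map_f_Hd 𝔪 i S hS w)
        (fun w => Psi_δ ω hω hn f hf i S hS w)
        (fun y => Psi_nat ω hω hn f hf (i + 1) S.f y)
        (fun z => Psi_nat ω hω hn f hf (i + 1) S.g z)
        (h3 i).2 (h1 (i + 1)).1 (h3 (i + 1)).1
  · -- surjectivity
    exact four_surj ((localCohomology 𝔪 i).map S.f).hom ((localCohomology 𝔪 i).map S.g).hom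
      (Hd 𝔪 i S hS).hom
      (Gmap ω Eh i S.f) (Gmap ω Eh i S.g) (Gδ ω Eh S hS i)
      (Psi ω hω hn f hf i S.X₁) (Psi ω hω hn f hf i S.X₂)
      (Psi ω hω hn f hf i S.X₃) (Psi ω hω hn f hf (i + 1) S.X₁)
      (fun z hz => G_exact₃ ω S hS i z hz)
      (fun z hz => Hd_exact₃ 𝔪 i S hS z hz)
      (fun y hy => G_exact₂ ω S hS i y hy)
      (fun y => Gδ_g ω S hS i y)
      (fun w => Psi_nat ω hω hn f hf i S.f w)
      (fun y => Psi_nat ω hω hn f hf i S.g y)
      (fun z => Psi_δ ω hω hn f hf i S hS z)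
      (h1 i).2 (h3 i).2 (h1 (i + 1)).1

end Ext

section Prime

/-- elements killing `M` kill `G^i(M)` -/
lemma G_smul_eq_zero (i : ℕ) (M : ModuleCat.{u} A) (a : A) (ha : ∀ m : M, a • m = 0)
    (φ : G ω Eh i M) : a • φ = 0 := by
  rw [← Gmap_smul]
  have h0 : a • 𝟙 M = 0 := ModuleCat.hom_ext (LinearMap.ext fun m => ha m)
  rw [h0]
  refine LinearMap.ext fun t => ?_
  rw [Gmap_apply, Tmap_apply, Functor.map_zero, zero_comp, map_zero]
  rfl

variable (p : Ideal A) [hp : p.IsPrime] (x : A) (hxm : x ∈ IsLocalRing.maximalIdeal A)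
  (hxp : x ∉ p)

include hxm hxp in
theorem P_step [Module.Injective A Eh]
    (hC : P ω hω hn f hf (ModuleCat.of A (A ⧸ (p ⊔ Ideal.span {x})))) :
    P ω hω hn f hf (ModuleCat.of A (A ⧸ p)) := by
  let S := mulSC p x
  have hS : S.ShortExact := mulSC_shortExact p x hxp
  have hHf : ∀ (i : ℕ) (z : (localCohomology 𝔪 i).obj S.X₁),
      ((localCohomology 𝔪 i).map S.f).hom z = x • z :=
    fun i z => Hmap_smul i (ModuleCat.of A (A ⧸ p)) x z
  have hGf : ∀ (i : ℕ) (φ : G ω Eh i S.X₁), Gmap ω Eh i S.f φ = x • φ :=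
    fun i φ => Gmap_smul ω i (ModuleCat.of A (A ⧸ p)) x φ
  have hkill : ∀ m : (ModuleCat.of A (A ⧸ (p ⊔ Ideal.span {x})) : ModuleCat.{u} A), x • m = 0 :=
    fun m => quot_killed (p ⊔ Ideal.span {x}) x
      (Ideal.mem_sup_right (Ideal.subset_span rfl)) m
  haveI : Module.Finite A (S.X₃ : ModuleCat.{u} A) :=
    inferInstanceAs (Module.Finite A (A ⧸ (p ⊔ Ideal.span {x})))
  haveI : Module.Finite A (S.X₁ : ModuleCat.{u} A) :=
    inferInstanceAs (Module.Finite A (A ⧸ p))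
  intro i
  induction i with
  | zero =>
    refine core_step x (0 : PUnit.{1} →ₗ[A] PUnit.{1})
      (0 : PUnit.{1} →ₗ[A] (localCohomology 𝔪 0).obj S.X₁)
      ((localCohomology 𝔪 0).map S.g).hom
      (0 : PUnit.{1} →ₗ[A] PUnit.{1}) (0 : PUnit.{1} →ₗ[A] G ω Eh 0 S.X₁)
      (Gmap ω Eh 0 S.g)
      (0 : PUnit.{1} →ₗ[A] PUnit.{1}) (0 : PUnit.{1} →ₗ[A] PUnit.{1})
      (Psi ω hω hn f hf 0 S.X₁) (Psi ω hω hn f hf 0 S.X₃)
      ?_ ?_ ?_ ?_ ?_ ?_ ?_ ?_ ?_ ?_ ?_ (hC 0).1 ?_ ?_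
    · intro z hz
      refine ⟨PUnit.unit, ?_⟩
      have h1 : ((localCohomology 𝔪 0).map S.f).hom z = 0 := (hHf 0 z).trans hz
      have := Groth.Agent.Lib.Helper8.MV.map_f_zero_injective S hS 𝔪
        (h1.trans (map_zero _).symm)
      rw [this]; rfl
    · intro h; rfl
    · intro h hh
      obtain ⟨y, hy⟩ := H_exact₂ 𝔪 0 S hS h hh
      refine ⟨y, ?_⟩
      rw [← hy]
      exact hHf 0 y
    · intro g hg
      refine ⟨PUnit.unit, ?_⟩
      have h1 : Gmap ω Eh 0 S.f g = 0 := (hGf 0 g).trans hg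
      have := Gmap_f_zero_injective ω hω hn S hS (h1.trans (map_zero _).symm)
      rw [this]; rfl
    · intro c _
      exact ⟨PUnit.unit, Subsingleton.elim _ _⟩
    · intro g'
      exact G_smul_eq_zero ω 0 _ x hkill g'
    · intro c
      rw [LinearMap.zero_apply, LinearMap.zero_apply, map_zero]
    · intro h
      exact Subsingleton.elim _ _
    · intro h
      exact Psi_nat ω hω hn f hf 0 S.g h
    · intro y
      exact ⟨PUnit.unit, Subsingleton.elim _ _⟩
    · exact ⟨fun a b _ => Subsingleton.elim a b, fun b => ⟨PUnit.unit, Subsingleton.elim _ _⟩⟩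
    · intro z
      exact H_pow_torsion x hxm 0 S.X₁ z
    · intro g
      exact G_pow_torsion ω hω f hf x hxm 0 S.X₁ g
  | succ i ih =>
    refine core_step x ((localCohomology 𝔪 i).map S.g).hom (Hd 𝔪 i S hS).hom
      ((localCohomology 𝔪 (i + 1)).map S.g).hom
      (Gmap ω Eh i S.g) (Gδ ω Eh S hS i) (Gmap ω Eh (i + 1) S.g)
      (Psi ω hω hn f hf i S.X₂) (Psi ω hω hn f hf i S.X₃)
      (Psi ω hω hn f hf (i + 1) S.X₁) (Psi ω hω hn f hf (i + 1) S.X₃)
      ?_ ?_ ?_ ?_ ?_ ?_ ?_ ?_ ?_ ih.2 (hC i) (hC (i + 1)).1 ?_ ?_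
    · intro z hz
      have h1 : ((localCohomology 𝔪 (i + 1)).map S.f).hom z = 0 := (hHf (i + 1) z).trans hz
      exact Hd_exact₁ 𝔪 i S hS z h1
    · intro h
      exact Hd_map_g 𝔪 i S hS h
    · intro h hh
      obtain ⟨y, hy⟩ := H_exact₂ 𝔪 (i + 1) S hS h hh
      refine ⟨y, ?_⟩
      rw [← hy]
      exact hHf (i + 1) y
    · intro g hg
      have h1 : Gmap ω Eh (i + 1) S.f g = 0 := (hGf (i + 1) g).trans hg
      exact G_exact₁ ω S hS i g h1
    · intro c hc
      exact G_exact₃ ω S hS i c hc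
    · intro g'
      exact G_smul_eq_zero ω (i + 1) _ x hkill g'
    · intro c
      exact Psi_δ ω hω hn f hf i S hS c
    · intro h
      exact Psi_nat ω hω hn f hf i S.g h
    · intro h
      exact Psi_nat ω hω hn f hf (i + 1) S.g h
    · intro z
      exact H_pow_torsion x hxm (i + 1) S.X₁ z
    · intro g
      exact G_pow_torsion ω hω f hf x hxm (i + 1) S.X₁ g

end Prime

end Groth.Agent.Lib.Helper14.LDual
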