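import Mathlib
import Groth.Agent.Lib.Helper14LDualF

/-! # Local duality: the main theorem (helper14) -/

set_option autoImplicit false
set_option linter.unusedVariables false
set_option linter.unusedSectionVars false
set_option linter.style.haveILetI false

universe u

open CategoryTheory CategoryTheory.Limits Opposite CategoryTheory.Abelian DerivedCategory

attribute [local instance] HasDerivedCategory.standard

namespace Groth.Agent.Lib.Helper14.LDual

open Groth.Agent.Lib.Helper8.ExtLES Groth.Agent.Lib.Helper8.LC Groth.Agent.Lib.Helper8.Bridge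
open Groth.Agent.Lib.Helper5.DualFL Groth.Agent.Lib.Helper5.NormDual

variable {A : Type u} [CommRing A] [IsLocalRing A] [IsNoetherianRing A]
  (ω : Dual.D A) (hω : Dual.IsDualizing A ω) (hn : Dual.IsNormalized A ω)
  {Eh : Type u} [AddCommGroup Eh] [Module A Eh]
  (f : IsLocalRing.ResidueField A →ₗ[A] Eh) (hf : InjHull.IsInjectiveHull f)

local notation "𝔪" => IsLocalRing.maximalIdeal A

lemma smul_id_eq_id_of_subsingleton (M : ModuleCat.{u} A) [Subsingleton M] :
    (0 : A) • 𝟙 M = 𝟙 M :=
  ModuleCat.hom_ext (LinearMap.ext fun m => Subsingleton.elim _ _)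

lemma H_subsingleton (i : ℕ) (M : ModuleCat.{u} A) [Subsingleton M] :
    Subsingleton ((localCohomology 𝔪 i).obj M) := by
  refine ⟨fun z z' => ?_⟩
  have h : ∀ w : (localCohomology 𝔪 i).obj M, w = 0 := by
    intro w
    have h1 := Hmap_smul (A := A) i M 0 w
    rw [smul_id_eq_id_of_subsingleton, CategoryTheory.Functor.map_id, zero_smul] at h1
    exact h1
  rw [h z, h z']

lemma G_subsingleton (i : ℕ) (M : ModuleCat.{u} A) [Subsingleton M] :
    Subsingleton (G ω Eh i M) := by
  refine ⟨fun z z' => ?_⟩
  have h : ∀ w : G ω Eh i M, w = 0 := by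
    intro w
    have h1 := Gmap_smul ω i M 0 w
    rw [smul_id_eq_id_of_subsingleton, Gmap_id, zero_smul] at h1
    exact h1
  rw [h z, h z']

theorem P_subsingleton (M : ModuleCat.{u} A) [Subsingleton M] : P ω hω hn f hf M := by
  intro i
  haveI := H_subsingleton (A := A) i M
  haveI := G_subsingleton ω (Eh := Eh) i M
  exact ⟨fun z z' _ => Subsingleton.elim _ _, fun φ => ⟨0, Subsingleton.elim _ _⟩⟩

/-- `A ⧸ 𝔪` is the residue field -/
noncomputable def kkIso : kk (A := A) ≅ ModuleCat.of A (A ⧸ IsLocalRing.maximalIdeal A) :=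
  LinearEquiv.toModuleIso
    { toFun := fun z => z
      invFun := fun z => z
      map_add' := fun _ _ => rfl
      map_smul' := fun _ _ => rfl
      left_inv := fun _ => rfl
      right_inv := fun _ => rfl }

include hf in
/-- local duality for all finite modules -/
theorem P_finite (I : Ideal A) :
    ∀ (M : Type u) [AddCommGroup M] [Module A M] [Module.Finite A M],
      (∀ a ∈ I, ∀ m : M, a • m = 0) → P ω hω hn f hf (ModuleCat.of A M) := by
  haveI : Module.Injective A Eh := hf.isInjective
  refine IsNoetherian.induction (P := fun I : Submodule A A =>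
    ∀ (M : Type u) [AddCommGroup M] [Module A M] [Module.Finite A M],
      (∀ a ∈ I, ∀ m : M, a • m = 0) → P ω hω hn f hf (ModuleCat.of A M)) ?_ I
  intro I IH M _ _ hfin
  induction hfin using IsNoetherianRing.induction_on_isQuotientEquivQuotientPrime A with
  | subsingleton N =>
    intro _
    haveI : Subsingleton (ModuleCat.of A N : ModuleCat.{u} A) := ‹Subsingleton N›
    exact P_subsingleton ω hω hn f hf _
  | quotient N p e =>
    intro hkill
    have hIp : I ≤ p.asIdeal := by
      intro a ha
      have h1 := hkill a ha (e.symm 1)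
      have h2 : a • (1 : A ⧸ p.asIdeal) = 0 := by
        have := congrArg e h1
        simpa using this
      have h3 : (Submodule.Quotient.mk (a • (1 : A)) : A ⧸ p.asIdeal) = 0 := h2
      have h4 := (Submodule.Quotient.mk_eq_zero _).mp h3
      simpa using h4
    have key : P ω hω hn f hf (ModuleCat.of A (A ⧸ p.asIdeal)) := by
      rcases eq_or_lt_of_le hIp with h | h
      · haveI := p.isPrime
        by_cases hpm : p.asIdeal = IsLocalRing.maximalIdeal A
        · have e1 : (A ⧸ IsLocalRing.maximalIdeal A) ≃ₗ[A] (A ⧸ p.asIdeal) :=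
            Submodule.quotEquivOfEq _ _ hpm.symm
          refine P_of_iso ω hω hn f hf (kkIso ≪≫ e1.toModuleIso) ?_
          exact fun i => Psi_kk_bijective ω hω hn f hf i
        · have hle : p.asIdeal ≤ IsLocalRing.maximalIdeal A :=
            IsLocalRing.le_maximalIdeal p.isPrime.ne_top
          obtain ⟨x, hxm, hxp⟩ := SetLike.exists_of_lt (lt_of_le_of_ne hle hpm)
          have hlt : I < p.asIdeal ⊔ Ideal.span {x} := by
            rw [h]
            refine lt_of_le_of_ne le_sup_left (fun h' => hxp ?_)
            rw [h']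
            exact Ideal.mem_sup_right (Ideal.subset_span rfl)
          exact P_step ω hω hn f hf p.asIdeal x hxm hxp
            (IH _ hlt (A ⧸ (p.asIdeal ⊔ Ideal.span {x})) (quot_killed _))
      · exact IH p.asIdeal h (A ⧸ p.asIdeal) (quot_killed _)
    exact P_of_iso ω hω hn f hf e.symm.toModuleIso key
  | exact N₁ N₂ N₃ f' g' hf' hg' hfg h₁ h₃ =>
    intro hkill
    have hk1 : ∀ a ∈ I, ∀ m : N₁, a • m = 0 := fun a ha m =>
      hf' (by rw [map_smul, hkill a ha, map_zero])
    have hk3 : ∀ a ∈ I, ∀ m : N₃, a • m = 0 := fun a ha m => by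
      obtain ⟨m', rfl⟩ := hg' m
      rw [← map_smul, hkill a ha, map_zero]
    let S := ModuleCat.shortComplexOfCompEqZero f' g' hfg.linearMap_comp_eq_zero
    have hS : S.ShortExact := ModuleCat.shortComplex_shortExact S hfg hf' hg'
    haveI : Module.Finite A (S.X₃ : ModuleCat.{u} A) := ‹Module.Finite A N₃›
    exact P_ext ω hω hn f hf S hS (h₁ hk1) (h₃ hk3)

include hf in
/-- **Local duality**: the duality map `H^i_𝔪(M) → Hom_A(Hom_D(M, ω[-i]), E)` is bijective for
every finite module `M` over a Noetherian local ring with normalized dualizing complex `ω`. -/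
theorem Psi_bijective (i : ℕ) (M : Type u) [AddCommGroup M] [Module A M] [Module.Finite A M] :
    Function.Bijective (Psi ω hω hn f hf i (ModuleCat.of A M)) :=
  P_finite ω hω hn f hf ⊥ M (fun a ha m => by
    rw [(Submodule.mem_bot A).mp ha, zero_smul]) i

end Groth.Agent.Lib.Helper14.LDual
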