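import Mathlib
import Groth.Agent.Lib.Helper14FaltG
import Groth.Agent.Lib.Helper5LocDI
import Groth.Agent.S1713

/-! # Local duality at a prime, with annihilators (helper14)

For a dualizing complex `ω` of the Noetherian ring `A`, a prime `q`, `d` the degree with
`Hom(A/q, ω[d])_q ≠ 0`, a finite module `M`, `c ∈ A` and `i`:
`c` kills `H^i_{V(q)}(M)_q` iff `c` kills `Hom(M, ω[d - i])_q`. -/

set_option autoImplicit false
set_option linter.unusedVariables false
set_option linter.unusedSectionVars false
set_option linter.style.haveILetI false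
set_option maxHeartbeats 400000

universe u

open CategoryTheory CategoryTheory.Limits
attribute [local instance] HasDerivedCategory.standard

namespace Groth.Agent.Lib.Helper14.Falt

open DerivedCategory Groth.Agent.Lib.Helper1.Extend Groth.Agent.Lib.Helper5.BiDual
open Groth.Agent.Lib.Helper5.DualLocal Groth.Agent.Lib.Helper5.DualMin
open Groth.Agent.Lib.Helper5.DualDim Groth.Agent.Lib.Helper5.NormDual
open Groth.Agent.Lib.Helper5.LocD
open Groth.Agent.Lib.Helper14.HDT Groth.Agent.Lib.Helper17.Hyp

variable {A : Type u} [CommRing A] [IsNoetherianRing A]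
variable (ω : Dual.D A) (hω : Dual.IsDualizing A ω) (p : Ideal A) [hp : p.IsPrime]

include hω in
/-- `c` kills `Hom_{D(A_p)}(M_p, ω_p[j])` iff it kills `Hom_{D(A)}(M, ω[j])` after localizing -/
theorem rhs_iff (M : Type u) [AddCommGroup M] [Module A M] [Module.Finite A M]
    (j : ℤ) (c : A) :
    (∀ u : Dual.inD (Localization.AtPrime p) (TensorProduct A (Localization.AtPrime p) M) ⟶
        ((extD A (Localization.AtPrime p)).obj ω)⟦j⟧,
        algebraMap A (Localization.AtPrime p) c • u = 0) ↔
      ∀ t : Dual.inD A M ⟶ ω⟦j⟧, ∃ s ∈ p.primeCompl, (s * c) • t = 0 := by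
  obtain ⟨T⟩ := nonempty_res ω hω
  have hK : HasFPRes (Dual.inD A M) := hasFPRes_inD_of_finite M
  have hY : HasInjRes (ω⟦j⟧) := (hasInjRes_of_res T).shift j
  let e1 := extDInDIso (A := A) (B := Localization.AtPrime p) M
  let cc : (extD A (Localization.AtPrime p)).obj (ω⟦j⟧) ≅
      ((extD A (Localization.AtPrime p)).obj ω)⟦j⟧ :=
    ((extD A (Localization.AtPrime p)).commShiftIso j).app ω
  constructor
  · intro h t
    have h1 : (extD A (Localization.AtPrime p)).map (c • t) = 0 := by
      have h2 : algebraMap A (Localization.AtPrime p) c •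
          (e1.inv ≫ (extD A (Localization.AtPrime p)).map t ≫ cc.hom) = 0 := h _
      rw [extD_map_smul]
      have h3 : e1.inv ≫ (algebraMap A (Localization.AtPrime p) c •
          (extD A (Localization.AtPrime p)).map t) ≫ cc.hom = 0 := by
        rw [Linear.smul_comp, Linear.comp_smul]
        exact h2
      exact (cancel_mono cc.hom).1
        (((cancel_epi e1.inv).1 (h3.trans comp_zero.symm)).trans zero_comp.symm)
    obtain ⟨s, hs, hst⟩ := LI_inj p.primeCompl (Localization.AtPrime p) hK hY (c • t) h1
    exact ⟨s, hs, by rw [mul_smul]; exact hst⟩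
  · intro h u
    obtain ⟨s, hs, t, ht⟩ :=
      LI_surj p.primeCompl (Localization.AtPrime p) hK hY (e1.hom ≫ u ≫ cc.inv)
    obtain ⟨s', hs', hst'⟩ := h t
    have h1 : algebraMap A (Localization.AtPrime p) (s' * s) •
        (algebraMap A (Localization.AtPrime p) c • (e1.hom ≫ u ≫ cc.inv)) = 0 := by
      rw [smul_comm, map_mul, mul_smul, ht, ← extD_map_smul, ← extD_map_smul, ← mul_smul,
        mul_comm c s', hst', Functor.map_zero]
    have h2 : algebraMap A (Localization.AtPrime p) c • (e1.hom ≫ u ≫ cc.inv) = 0 :=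
      smul_unit_cancel p.primeCompl (Localization.AtPrime p) (s' * s)
        (p.primeCompl.mul_mem hs' hs) _ _ (h1.trans (smul_zero _).symm)
    have h3 : e1.hom ≫ (algebraMap A (Localization.AtPrime p) c • u) ≫ cc.inv = 0 := by
      rw [Linear.smul_comp, Linear.comp_smul]
      exact h2
    exact (cancel_mono cc.inv).1
      (((cancel_epi e1.hom).1 (h3.trans comp_zero.symm)).trans zero_comp.symm)

/-- annihilation and composition of shifts -/
lemma forall_smul_shift_add_iff {B : Type u} [CommRing B] (ω' X : Dual.D B) (n j i : ℤ)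
    (h : n + j = i) (c : B) :
    (∀ g : X ⟶ ω'⟦i⟧, c • g = 0) ↔ (∀ g : X ⟶ (ω'⟦n⟧)⟦j⟧, c • g = 0) := by
  constructor
  · intro h0 g
    have h1 := h0 (g ≫ (shiftFunctorAdd' (DerivedCategory (ModuleCat.{u} B)) n j i h).inv.app ω')
    rw [← Linear.smul_comp] at h1
    exact (cancel_mono ((shiftFunctorAdd' (DerivedCategory (ModuleCat.{u} B)) n j i
      h).inv.app ω')).mp (h1.trans zero_comp.symm)
  · intro h0 g
    have h1 := h0 (g ≫ (shiftFunctorAdd' (DerivedCategory (ModuleCat.{u} B)) n j i h).hom.app ω')
    rw [← Linear.smul_comp] at h1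
    exact (cancel_mono ((shiftFunctorAdd' (DerivedCategory (ModuleCat.{u} B)) n j i
      h).hom.app ω')).mp (h1.trans zero_comp.symm)

include hω in
/-- **Local duality at a prime with annihilators.** -/
theorem lda_iff (d : ℤ) (hd : ∀ i : ℤ, i ≠ d → LZ ω p i (Dual.inD A (A ⧸ p)))
    (M : Type u) [AddCommGroup M] [Module A M] [Module.Finite A M] (i : ℕ) (c : A) :
    (∀ z : FT (PrimeSpectrum.zeroLocus (p : Set A)) ((dsgl (ModuleCat.of A M))⟦(i : ℤ)⟧),
        ∃ s ∈ p.primeCompl, (s * c) • z = 0) ↔
      ∀ t : Dual.inD A M ⟶ ω⟦d - (i : ℤ)⟧, ∃ s ∈ p.primeCompl, (s * c) • t = 0 := by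
  have hB := isDualizing_extD p.primeCompl (Localization.AtPrime p) ω hω
  haveI := hB.isNoetherianRing
  have hB' := isDualizing_shift hB d
  have hn := isNormalized_extD_shift ω hω p d hd
  have key := Groth.Agent.S1713.result (Localization.AtPrime p) _ hB' hn
    (TensorProduct A (Localization.AtPrime p) M) i
  rw [lhs_iff p c i (ModuleCat.of A M), ← rhs_iff ω hω p M (d - (i : ℤ)) c,
    forall_smul_shift_add_iff _ _ d (-(i : ℤ)) (d - (i : ℤ)) (by ring)]
  constructor
  · intro h g
    have h1 : algebraMap A (Localization.AtPrime p) c ∈ Module.annihilator (Localization.AtPrime p)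
        (LocCoh.H (IsLocalRing.maximalIdeal (Localization.AtPrime p)) i
          (TensorProduct A (Localization.AtPrime p) M)) :=
      Module.mem_annihilator.mpr h
    rw [← key] at h1
    exact Module.mem_annihilator.mp h1 g
  · intro h y
    have h1 : algebraMap A (Localization.AtPrime p) c ∈ Module.annihilator (Localization.AtPrime p)
        (Dual.inD (Localization.AtPrime p) (TensorProduct A (Localization.AtPrime p) M) ⟶
          (((extD A (Localization.AtPrime p)).obj ω)⟦d⟧)⟦(-(i : ℤ))⟧) :=
      Module.mem_annihilator.mpr h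
    rw [key] at h1
    exact Module.mem_annihilator.mp h1 y

end Groth.Agent.Lib.Helper14.Falt
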