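import Mathlib
import Groth.Agent.Lib.Helper14FaltH
import Groth.Agent.Lib.Helper14HDIA

/-! # Localization of `colim_J Hom(A/J, Y)` at a prime for complexes (helper14)

* `extDInDIso_hom_natural`: naturality of `A_p ⊗ (M[0]) ≅ (A_p ⊗ M)[0]`;
* `thetaIso p k : (A/p^k)_p[0] ≅ (A_p/m^k)[0]`, compatible with the transition maps;
* `lhs_iff_cx`: for a bounded below complex `Y`, an element `c` kills the localization at `p` of
  `colim_{V(J) ⊆ V(p)} Hom(A/J, Y)` iff its image kills `colim_k Hom(A_p/m^k, Y_p)`. -/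

set_option autoImplicit false
set_option linter.unusedVariables false
set_option linter.unusedSectionVars false
set_option linter.style.haveILetI false
set_option maxHeartbeats 400000

universe u

open CategoryTheory CategoryTheory.Limits
attribute [local instance] HasDerivedCategory.standard

namespace Groth.Agent.Lib.Helper14.FaltCx

open DerivedCategory Groth.Agent.Lib.Helper1.Extend Groth.Agent.Lib.Helper5.NormDual
open Groth.Agent.Lib.Helper5.LocD

section Nat

variable {A B : Type u} [CommRing A] [CommRing B] [Algebra A B] [Module.Flat A B]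

/-- module level naturality of `extIso` -/
lemma extIso_hom_natural {M M' : Type u} [AddCommGroup M] [Module A M] [AddCommGroup M']
    [Module A M'] (f : M →ₗ[A] M') :
    (ext A B).map (ModuleCat.ofHom f) ≫ (extIso (A := A) (B := B) M').hom =
      (extIso (A := A) (B := B) M).hom ≫ ModuleCat.ofHom (f.baseChange B) := by
  have key : ∀ y : TensorProduct A B M,
      (extIso (A := A) (B := B) M').hom.hom (((ext A B).map (ModuleCat.ofHom f)).hom
        ((extIso (A := A) (B := B) M).inv.hom y)) = f.baseChange B y := by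
    intro y
    induction y using TensorProduct.induction_on with
    | zero => simp
    | tmul b m => rfl
    | add y y' h h' => simp only [map_add, h, h']
  rw [← Iso.inv_comp_eq]
  apply ModuleCat.hom_ext
  apply LinearMap.ext
  intro y
  exact key y

/-- naturality of `extDInDIso` -/
lemma extDInDIso_hom_natural {M M' : Type u} [AddCommGroup M] [Module A M] [AddCommGroup M']
    [Module A M'] (f : M →ₗ[A] M') :
    (extD A B).map ((singleFunctor (ModuleCat.{u} A) 0).map (ModuleCat.ofHom f)) ≫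
        (extDInDIso (A := A) (B := B) M').hom =
      (extDInDIso (A := A) (B := B) M).hom ≫
        (singleFunctor (ModuleCat.{u} B) 0).map (ModuleCat.ofHom (f.baseChange B)) := by
  have nat := ((ext A B).mapDerivedCategorySingleFunctor 0).hom.naturality (ModuleCat.ofHom f)
  unfold extDInDIso mapSingleIso
  simp only [Iso.trans_hom, Functor.mapIso_hom, Iso.app_hom, Category.assoc]
  rw [← Functor.map_comp, ← extIso_hom_natural f, Functor.map_comp, ← Category.assoc,
    ← Category.assoc]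
  congr 1

end Nat

section Theta

open Groth.Agent.Lib.Helper14.HDT Groth.Agent.Lib.Helper14.HDI

variable {A : Type u} [CommRing A] (p : Ideal A) [hp : p.IsPrime]

local notation "R" => Localization.AtPrime p
local notation "𝔪" => IsLocalRing.maximalIdeal (Localization.AtPrime p)

lemma max_pow_eq (k : ℕ) : 𝔪 ^ k = (p ^ k).map (algebraMap A R) := by
  rw [Ideal.map_pow, Localization.AtPrime.map_eq_maximalIdeal]

/-- `A_p / m^k ≃ A_p ⊗ A/p^k` -/
noncomputable def lamK (k : ℕ) : (R ⧸ 𝔪 ^ k) ≃ₗ[R] TensorProduct A R (A ⧸ p ^ k) :=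
  (Submodule.quotEquivOfEq (𝔪 ^ k) ((p ^ k).map (algebraMap A R)) (max_pow_eq p k)) ≪≫ₗ
    (Algebra.TensorProduct.quotIdealMapEquivTensorQuot R (p ^ k)).toLinearEquiv

lemma lamK_mk (k : ℕ) (b : R) :
    lamK p k (Submodule.Quotient.mk b) = b ⊗ₜ[A] (1 : A ⧸ p ^ k) := rfl

/-- `(A/p^k)_p[0] ≅ (A_p/m^k)[0]` -/
noncomputable def thetaIso (k : ℕ) : (extD A R).obj (NJ (p ^ k)) ≅ Nk 𝔪 k :=
  extDInDIso (A := A) (B := R) (A ⧸ p ^ k) ≪≫ inDIso (lamK p k).symm

lemma lamK_compat {k m : ℕ} (h : k ≤ m) :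
    (lamK p m).toModuleIso.hom ≫ ModuleCat.ofHom
        ((Submodule.mapQ (p ^ m) (p ^ k) LinearMap.id
          (by simpa using Ideal.pow_le_pow_right h)).baseChange R) =
      Groth.Agent.Lib.Helper8.LC.tr 𝔪 h ≫ (lamK p k).toModuleIso.hom := by
  apply ModuleCat.hom_ext
  apply LinearMap.ext
  intro x
  obtain ⟨b, rfl⟩ := Submodule.Quotient.mk_surjective _ x
  rfl

/-- compatibility of `thetaIso` with the transition maps -/
theorem thetaIso_compat {k m : ℕ} (h : k ≤ m) :
    (extD A R).map (qD (Ideal.pow_le_pow_right h)) ≫ (thetaIso p k).hom =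
      (thetaIso p m).hom ≫ trD 𝔪 h := by
  unfold thetaIso qD qM trD inDIso
  simp only [Iso.trans_hom, Functor.mapIso_hom]
  rw [← Category.assoc, extDInDIso_hom_natural, Category.assoc, Category.assoc,
    ← Functor.map_comp, ← Functor.map_comp]
  congr 2
  rw [← cancel_epi (lamK p m).toModuleIso.hom, ← Category.assoc, lamK_compat p h]
  apply ModuleCat.hom_ext
  apply LinearMap.ext
  intro x
  simp

/-- inverse form of the compatibility -/
theorem thetaIso_compat_inv {k m : ℕ} (h : k ≤ m) :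
    trD 𝔪 h ≫ (thetaIso p k).inv =
      (thetaIso p m).inv ≫ (extD A R).map (qD (Ideal.pow_le_pow_right h)) := by
  rw [Iso.eq_inv_comp, ← Category.assoc, ← thetaIso_compat p h, Category.assoc,
    Iso.hom_inv_id, Category.comp_id]

variable [IsNoetherianRing A]

open Groth.Agent.Lib.Helper14.Falt in
/-- **Localization of local cohomology of a complex at a prime**: an element `c` kills the
localization at `p` of `colim_{V(J) ⊆ V(p)} Hom(A/J, Y)` iff it kills
`colim_k Hom(A_p/m^k, Y_p)`. -/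
theorem lhs_iff_cx (Y : Dual.D A) (hY : HasInjRes Y) (c : A) :
    (∀ z : FT (PrimeSpectrum.zeroLocus (p : Set A)) Y, ∃ s ∈ p.primeCompl, (s * c) • z = 0) ↔
      ∀ w : F0 𝔪 ((extD A R).obj Y), algebraMap A R c • w = 0 := by
  have hK : ∀ k : ℕ, HasFPRes (NJ (p ^ k)) := fun k => hasFPRes_inD_of_finite (A ⧸ p ^ k)
  have hZ : ∀ k : ℕ, PrimeSpectrum.zeroLocus ((p ^ k : Ideal A) : Set A) ⊆
      PrimeSpectrum.zeroLocus (p : Set A) := fun k => zeroLocus_pow_subset _ subset_rfl k
  constructor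
  · intro h w
    obtain ⟨k, f, rfl⟩ := Groth.Agent.Lib.Helper14.HDI.exists_rep 𝔪 _ w
    obtain ⟨s, hs, t, ht⟩ := LI_surj p.primeCompl R (hK k) hY ((thetaIso p k).hom ≫ f)
    obtain ⟨s', hs', hz⟩ := h (Groth.Agent.Lib.Helper14.HDT.ι _ Y (mkI _ (p ^ k) (hZ k)) t)
    have hz' : Groth.Agent.Lib.Helper14.HDT.ι _ Y (mkI _ (p ^ k) (hZ k)) ((s' * c) • t) = 0 :=
      (map_smul _ _ _).trans hz
    obtain ⟨X', hle, hq⟩ := (Groth.Agent.Lib.Helper14.HDT.ι_eq_zero_iff _ Y
      (X := mkI _ (p ^ k) (hZ k)) _).mp hz'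
    have hrad : p ≤ X'.obj.radical := (zl_sub_iff p X'.obj).mp X'.property
    obtain ⟨m0, hm0⟩ := Ideal.exists_pow_le_of_le_radical_of_fg hrad (IsNoetherian.noetherian p)
    have hkm : k ≤ max m0 k := le_max_right _ _
    have hm : p ^ (max m0 k) ≤ X'.obj := (Ideal.pow_le_pow_right (le_max_left _ _)).trans hm0
    have hq' : qD (Ideal.pow_le_pow_right hkm) ≫ ((s' * c) • t) = 0 := by
      have e1 : qD (Ideal.pow_le_pow_right hkm) = qD hm ≫ qD hle := (qD_trans hm hle).symm
      calc qD (Ideal.pow_le_pow_right hkm) ≫ ((s' * c) • t)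
          = (qD hm ≫ qD hle) ≫ ((s' * c) • t) := congrArg (· ≫ ((s' * c) • t)) e1
        _ = qD hm ≫ (qD hle ≫ ((s' * c) • t)) := Category.assoc _ _ _
        _ = 0 := (congrArg (qD hm ≫ ·) hq).trans comp_zero
    have h1 : (extD A R).map (qD (Ideal.pow_le_pow_right hkm)) ≫
        (extD A R).map ((s' * c) • t) = 0 := by
      rw [← Functor.map_comp, hq', Functor.map_zero]
    rw [extD_map_smul, ← ht, Linear.comp_smul, Linear.comp_smul, ← Category.assoc,
      thetaIso_compat p hkm, Category.assoc, smul_smul] at h1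
    have h2 : algebraMap A R c • ((thetaIso p (max m0 k)).hom ≫ trD 𝔪 hkm ≫ f) = 0 := by
      apply smul_unit_cancel p.primeCompl R (s' * s) (p.primeCompl.mul_mem hs' hs)
      rw [smul_zero, smul_smul, ← map_mul]
      rw [← map_mul] at h1
      have e2 : s' * s * c = s' * c * s := by ring
      rw [e2]
      exact h1
    rw [← Linear.comp_smul] at h2
    have h3 : algebraMap A R c • (trD 𝔪 hkm ≫ f) = 0 :=
      (cancel_epi (thetaIso p (max m0 k)).hom).mp (h2.trans comp_zero.symm)
    rw [← map_smul, ← Groth.Agent.Lib.Helper14.HDI.ι_trans 𝔪 _ hkm, Linear.comp_smul, h3, map_zero]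
  · intro h z
    obtain ⟨X, t, rfl⟩ := Groth.Agent.Lib.Helper14.HDT.exists_rep _ Y z
    have hrad : p ≤ X.obj.radical := (zl_sub_iff p X.obj).mp X.property
    obtain ⟨k, hk⟩ := Ideal.exists_pow_le_of_le_radical_of_fg hrad (IsNoetherian.noetherian p)
    have e0 : Groth.Agent.Lib.Helper14.HDT.ι _ Y X t =
        Groth.Agent.Lib.Helper14.HDT.ι _ Y (mkI _ (p ^ k) (hZ k)) (qD hk ≫ t) :=
      (Groth.Agent.Lib.Helper14.HDT.ι_trans _ Y (X := mkI _ (p ^ k) (hZ k)) (Y := X) hk t).symm
    rw [e0]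
    have h1 := h (Groth.Agent.Lib.Helper14.HDI.ι 𝔪 _ k
      ((thetaIso p k).inv ≫ (extD A R).map (qD hk ≫ t)))
    rw [← map_smul] at h1
    obtain ⟨m, hkm, h2⟩ := (Groth.Agent.Lib.Helper14.HDI.ι_eq_zero_iff 𝔪 _ _).mp h1
    rw [Linear.comp_smul, ← Category.assoc, thetaIso_compat_inv p hkm, Category.assoc,
      ← Functor.map_comp, ← Linear.comp_smul, ← extD_map_smul] at h2
    have h3 : (extD A R).map (c • (qD (Ideal.pow_le_pow_right hkm) ≫ qD hk ≫ t)) = 0 :=
      (cancel_epi (thetaIso p m).inv).mp (h2.trans comp_zero.symm)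
    obtain ⟨s, hs, hst⟩ := LI_inj p.primeCompl R (hK m) hY _ h3
    refine ⟨s, hs, ?_⟩
    have e3 : Groth.Agent.Lib.Helper14.HDT.ι _ Y (mkI _ (p ^ k) (hZ k)) (qD hk ≫ t) =
        Groth.Agent.Lib.Helper14.HDT.ι _ Y (mkI _ (p ^ m) (hZ m))
          (qD (Ideal.pow_le_pow_right hkm) ≫ qD hk ≫ t) :=
      (Groth.Agent.Lib.Helper14.HDT.ι_trans _ Y (X := mkI _ (p ^ m) (hZ m))
        (Y := mkI _ (p ^ k) (hZ k)) (Ideal.pow_le_pow_right hkm) (qD hk ≫ t)).symm
    rw [e3, ← map_smul, mul_smul]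
    exact (congrArg _ hst).trans (map_zero _)

end Theta

end Groth.Agent.Lib.Helper14.FaltCx
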