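import Mathlib
import Groth.Agent.Lib.Helper14HDIA
import Groth.Agent.Lib.Helper14LDualA
import Groth.Agent.Lib.Helper14LDualB

/-! # The duality map `colim_k Hom(A/m^k, K) → Hom_A(Hom_D(K, ω), E)` for complexes (helper14) -/

set_option autoImplicit false
set_option linter.unusedVariables false
set_option linter.unusedSectionVars false
set_option linter.style.haveILetI false

universe u

open CategoryTheory CategoryTheory.Limits Opposite DerivedCategory Pretriangulated

attribute [local instance] HasDerivedCategory.standard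

namespace Groth.Agent.Lib.Helper14.HDI

open Groth.Agent.Lib.Helper5.DualFL Groth.Agent.Lib.Helper14.LDual

variable {A : Type u} [CommRing A] [IsLocalRing A] [IsNoetherianRing A]
  (ω : Dual.D A) (hω : Dual.IsDualizing A ω) (hn : Dual.IsNormalized A ω)
  {Eh : Type u} [AddCommGroup Eh] [Module A Eh]
  (f : IsLocalRing.ResidueField A →ₗ[A] Eh) (hf : InjHull.IsInjectiveHull f)

local notation "𝔪" => IsLocalRing.maximalIdeal A

section G0

variable (Eh) in
/-- `G0(K) = Hom_A(Hom_{D(A)}(K, ω), E)` -/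
abbrev G0 (K : Dual.D A) : Type (u + 1) := (K ⟶ ω) →ₗ[A] Eh

variable (Eh) in
/-- covariant functoriality of `G0` -/
noncomputable def G0map {K L : Dual.D A} (g : K ⟶ L) : G0 ω Eh K →ₗ[A] G0 ω Eh L :=
  LinearMap.lcomp A Eh (Linear.leftComp A ω g)

lemma G0map_apply {K L : Dual.D A} (g : K ⟶ L) (φ : G0 ω Eh K) (t : L ⟶ ω) :
    G0map ω Eh g φ t = φ (g ≫ t) := rfl

lemma G0map_id {K : Dual.D A} (φ : G0 ω Eh K) : G0map ω Eh (𝟙 K) φ = φ := by
  refine LinearMap.ext fun t => ?_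
  rw [G0map_apply, Category.id_comp]

lemma G0map_comp {K L L' : Dual.D A} (g : K ⟶ L) (g' : L ⟶ L') (φ : G0 ω Eh K) :
    G0map ω Eh (g ≫ g') φ = G0map ω Eh g' (G0map ω Eh g φ) := by
  refine LinearMap.ext fun t => ?_
  rw [G0map_apply, G0map_apply, G0map_apply, Category.assoc]

lemma G0map_zero {K L : Dual.D A} (φ : G0 ω Eh K) : G0map ω Eh (0 : K ⟶ L) φ = 0 := by
  refine LinearMap.ext fun t => ?_
  rw [G0map_apply, zero_comp, map_zero, LinearMap.zero_apply]

lemma G0map_iso_bijective {K L : Dual.D A} (e : K ≅ L) :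
    Function.Bijective (G0map ω Eh e.hom) := by
  refine Function.bijective_iff_has_inverse.mpr ⟨G0map ω Eh e.inv, fun z => ?_, fun z => ?_⟩
  · rw [← G0map_comp, e.hom_inv_id, G0map_id]
  · rw [← G0map_comp, e.inv_hom_id, G0map_id]

lemma subsingleton_G0_of_isZero {K : Dual.D A} (hK : IsZero K) : Subsingleton (G0 ω Eh K) := by
  refine ⟨fun φ ψ => LinearMap.ext fun t => ?_⟩
  rw [hK.eq_of_src t 0, map_zero, map_zero]

/-- middle exactness of `G0` on distinguished triangles -/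
theorem G0_exact [Module.Injective A Eh] (T : Triangle (Dual.D A))
    (hT : T ∈ distTriang (Dual.D A))
    (φ : G0 ω Eh T.obj₂) (hφ : G0map ω Eh T.mor₂ φ = 0) :
    ∃ χ : G0 ω Eh T.obj₁, G0map ω Eh T.mor₁ χ = φ := by
  obtain ⟨χ, hχ⟩ := dual_exact (E := Eh) (Linear.leftComp A ω T.mor₂) (Linear.leftComp A ω T.mor₁)
    (fun t ht => by
      obtain ⟨s, hs⟩ := Triangle.yoneda_exact₂ T hT t ht
      exact ⟨s, hs.symm⟩) φ (fun s => LinearMap.congr_fun hφ s)
  exact ⟨χ, LinearMap.ext fun t => hχ t⟩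

theorem G0_comp_zero (T : Triangle (Dual.D A)) (hT : T ∈ distTriang (Dual.D A))
    (χ : G0 ω Eh T.obj₁) : G0map ω Eh T.mor₂ (G0map ω Eh T.mor₁ χ) = 0 := by
  rw [← G0map_comp, comp_distTriang_mor_zero₁₂ T hT, G0map_zero]

end G0

section Psi0

variable (K : Dual.D A)

/-- the pairing at level `k`, for fixed `t` -/
noncomputable def pr0 (k : ℕ) (t : K ⟶ ω) : (Nk 𝔪 k ⟶ K) →ₗ[A] Eh :=
  (jseq ω hω hn f hf k).comp (Linear.rightComp A (Nk 𝔪 k) t)

lemma pr0_apply (k : ℕ) (t : K ⟶ ω) (x : Nk 𝔪 k ⟶ K) :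
    pr0 ω hω hn f hf K k t x = jseq ω hω hn f hf k (x ≫ t) := rfl

/-- the cocone defining the pairing with `t` -/
noncomputable def pr0Cocone (t : K ⟶ ω) : Cocone (Fd 𝔪 K) where
  pt := ModuleCat.of A (ULift.{u + 1} Eh)
  ι :=
    { app := fun j => ModuleCat.ofHom
        (ULift.moduleEquiv.symm.toLinearMap.comp (pr0 ω hω hn f hf K j.unop.unop t))
      naturality := by
        intro j j' a
        have hle : j.unop.unop ≤ j'.unop.unop := a.unop.unop.le
        have ha : a = (homOfLE hle).op.op := Subsingleton.elim _ _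
        subst ha
        apply ModuleCat.hom_ext
        apply LinearMap.ext
        intro z
        have h2 := jseq_le ω hω hn f hf hle ((z : Nk 𝔪 j.unop.unop ⟶ K) ≫ t)
        have h3 : (trD 𝔪 hle ≫ (z : Nk 𝔪 j.unop.unop ⟶ K)) ≫ t =
            tau ω hle ((z : Nk 𝔪 j.unop.unop ⟶ K) ≫ t) := Category.assoc _ _ _
        apply ULift.ext
        exact (congrArg (jseq ω hω hn f hf j'.unop.unop) h3).trans h2 }

/-- pairing with `t` -/
noncomputable def Phi0 (t : K ⟶ ω) : F0 𝔪 K →ₗ[A] Eh :=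
  ULift.moduleEquiv.toLinearMap.comp (colimit.desc (Fd 𝔪 K) (pr0Cocone ω hω hn f hf K t)).hom

lemma Phi0_ι (t : K ⟶ ω) (k : ℕ) (x : Nk 𝔪 k ⟶ K) :
    Phi0 ω hω hn f hf K t (ι 𝔪 K k x) = jseq ω hω hn f hf k (x ≫ t) := by
  have := colimit.ι_desc (pr0Cocone ω hω hn f hf K t) (op (op k))
  have h2 := congrArg (fun ψ => (ψ.hom x).down) this
  exact h2

/-- the duality map -/
noncomputable def Psi0 : F0 𝔪 K →ₗ[A] G0 ω Eh K where
  toFun z :=
    { toFun := fun t => Phi0 ω hω hn f hf K t z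
      map_add' := by
        intro t t'
        obtain ⟨k, x, rfl⟩ := exists_rep 𝔪 K z
        rw [Phi0_ι, Phi0_ι, Phi0_ι, Preadditive.comp_add, map_add]
      map_smul' := by
        intro a t
        obtain ⟨k, x, rfl⟩ := exists_rep 𝔪 K z
        rw [Phi0_ι, Phi0_ι, Linear.comp_smul, map_smul]
        rfl }
  map_add' z z' := by
    refine LinearMap.ext fun t => ?_
    exact map_add (Phi0 ω hω hn f hf K t) z z'
  map_smul' a z := by
    refine LinearMap.ext fun t => ?_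
    exact map_smul (Phi0 ω hω hn f hf K t) a z

lemma Psi0_ι (k : ℕ) (x : Nk 𝔪 k ⟶ K) (t : K ⟶ ω) :
    Psi0 ω hω hn f hf K (ι 𝔪 K k x) t = jseq ω hω hn f hf k (x ≫ t) :=
  Phi0_ι ω hω hn f hf K t k x

variable {K} in
theorem Psi0_nat {L : Dual.D A} (g : K ⟶ L) (z : F0 𝔪 K) :
    Psi0 ω hω hn f hf L ((F0map 𝔪 g).hom z) = G0map ω Eh g (Psi0 ω hω hn f hf K z) := by
  obtain ⟨k, x, rfl⟩ := exists_rep 𝔪 K z
  refine LinearMap.ext fun t => ?_
  rw [F0map_ι, Psi0_ι, G0map_apply, Psi0_ι, Category.assoc]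

end Psi0

end Groth.Agent.Lib.Helper14.HDI
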