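import Mathlib
import Groth.Agent.Lib.Helper14HDIB
import Groth.Agent.Lib.Helper1Devissage

/-! # Five lemma for the duality map on distinguished triangles (helper14) -/

set_option autoImplicit false
set_option linter.unusedVariables false
set_option linter.unusedSectionVars false
set_option linter.style.haveILetI false

universe u

open CategoryTheory CategoryTheory.Limits Opposite DerivedCategory Pretriangulated

attribute [local instance] HasDerivedCategory.standard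

namespace Groth.Agent.Lib.Helper14.HDI

open Groth.Agent.Lib.Helper5.DualFL Groth.Agent.Lib.Helper14.LDual

variable {A : Type u} [CommRing A] [IsLocalRing A] [IsNoetherianRing A]
  (ω : Dual.D A) (hω : Dual.IsDualizing A ω) (hn : Dual.IsNormalized A ω)
  {Eh : Type u} [AddCommGroup Eh] [Module A Eh]
  (f : IsLocalRing.ResidueField A →ₗ[A] Eh) (hf : InjHull.IsInjectiveHull f)

local notation "𝔪" => IsLocalRing.maximalIdeal A

/-- the duality map is bijective at `K` -/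
def Q (K : Dual.D A) : Prop := Function.Bijective (Psi0 ω hω hn f hf K)

theorem Q_of_iso {K L : Dual.D A} (e : K ≅ L) (h : Q ω hω hn f hf K) : Q ω hω hn f hf L := by
  have hF := F0map_iso_bijective 𝔪 e
  have hG := G0map_iso_bijective (Eh := Eh) ω e
  constructor
  · intro z z' hz
    obtain ⟨y, rfl⟩ := hF.2 z
    obtain ⟨y', rfl⟩ := hF.2 z'
    rw [Psi0_nat, Psi0_nat] at hz
    rw [h.1 (hG.1 hz)]
  · intro φ
    obtain ⟨ψ, rfl⟩ := hG.2 φ
    obtain ⟨y, rfl⟩ := h.2 ψ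
    exact ⟨(F0map 𝔪 e.hom).hom y, Psi0_nat ω hω hn f hf e.hom y⟩

theorem Q_of_isZero {K : Dual.D A} (hK : IsZero K) : Q ω hω hn f hf K := by
  haveI := subsingleton_F0_of_isZero 𝔪 hK
  haveI := subsingleton_G0_of_isZero (Eh := Eh) ω hK
  exact ⟨fun _ _ _ => Subsingleton.elim _ _, fun φ => ⟨0, Subsingleton.elim _ _⟩⟩

theorem Q_five [Module.Injective A Eh] (T : Triangle (Dual.D A))
    (hT : T ∈ distTriang (Dual.D A))
    (h1 : Q ω hω hn f hf T.obj₁) (h3 : Q ω hω hn f hf T.obj₃)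
    (h1' : Q ω hω hn f hf (T.obj₁⟦(1 : ℤ)⟧)) (h3' : Q ω hω hn f hf (T.obj₃⟦(-1 : ℤ)⟧)) :
    Q ω hω hn f hf T.obj₂ := by
  have hR := rot_of_distTriang T hT
  have hI := inv_rot_of_distTriang T hT
  constructor
  · exact four_inj (F0map 𝔪 T.invRotate.mor₁).hom (F0map 𝔪 T.mor₁).hom (F0map 𝔪 T.mor₂).hom
      (G0map ω Eh T.invRotate.mor₁) (G0map ω Eh T.mor₁) (G0map ω Eh T.mor₂)
      (Psi0 ω hω hn f hf (T.obj₃⟦(-1 : ℤ)⟧)) (Psi0 ω hω hn f hf T.obj₁)
      (Psi0 ω hω hn f hf T.obj₂) (Psi0 ω hω hn f hf T.obj₃)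
      (F0_exact 𝔪 T hT)
      (G0_exact ω T.invRotate hI)
      (F0_comp_zero 𝔪 T.invRotate hI)
      (Psi0_nat ω hω hn f hf _) (Psi0_nat ω hω hn f hf _) (Psi0_nat ω hω hn f hf _)
      h3'.2 h1.1 h3.1
  · exact four_surj (F0map 𝔪 T.mor₁).hom (F0map 𝔪 T.mor₂).hom (F0map 𝔪 T.mor₃).hom
      (G0map ω Eh T.mor₁) (G0map ω Eh T.mor₂) (G0map ω Eh T.mor₃)
      (Psi0 ω hω hn f hf T.obj₁) (Psi0 ω hω hn f hf T.obj₂)
      (Psi0 ω hω hn f hf T.obj₃) (Psi0 ω hω hn f hf (T.obj₁⟦(1 : ℤ)⟧))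
      (G0_exact ω T.rotate hR)
      (F0_exact 𝔪 T.rotate hR)
      (G0_exact ω T hT)
      (G0_comp_zero ω T.rotate hR)
      (Psi0_nat ω hω hn f hf _) (Psi0_nat ω hω hn f hf _) (Psi0_nat ω hω hn f hf _)
      h1.2 h3.2 h1'.1

/-- the duality map is bijective at all shifts of `K` -/
def PP (K : Dual.D A) : Prop := ∀ n : ℤ, Q ω hω hn f hf (K⟦n⟧)

theorem PP_of_iso {K L : Dual.D A} (e : K ≅ L) (h : PP ω hω hn f hf K) : PP ω hω hn f hf L :=
  fun n => Q_of_iso ω hω hn f hf ((shiftFunctor (Dual.D A) n).mapIso e) (h n)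

theorem PP_of_isZero {K : Dual.D A} (hK : IsZero K) : PP ω hω hn f hf K :=
  fun n => Q_of_isZero ω hω hn f hf ((shiftFunctor (Dual.D A) n).map_isZero hK)

theorem PP_ext [Module.Injective A Eh] (T : Triangle (Dual.D A))
    (hT : T ∈ distTriang (Dual.D A))
    (h1 : PP ω hω hn f hf T.obj₁) (h3 : PP ω hω hn f hf T.obj₃) : PP ω hω hn f hf T.obj₂ := by
  intro n
  have hTn := Triangle.shift_distinguished T hT n
  refine Q_five ω hω hn f hf _ hTn (h1 n) (h3 n) ?_ ?_
  · exact Q_of_iso ω hω hn f hf ((shiftFunctorAdd' (Dual.D A) n 1 (n + 1) rfl).app T.obj₁)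
      (h1 (n + 1))
  · exact Q_of_iso ω hω hn f hf
      ((shiftFunctorAdd' (Dual.D A) n (-1) (n - 1) (by ring)).app T.obj₃) (h3 (n - 1))

/-- dévissage: the duality map is bijective for bounded complexes as soon as it is bijective for
the cohomology modules placed in their degrees -/
theorem PP_of_bounded [Module.Injective A Eh] (K : Dual.D A) (a b : ℤ)
    (hK : ∀ i : ℤ, (i < a ∨ b < i) → IsZero ((homologyFunctor (ModuleCat.{u} A) i).obj K))
    (hP : ∀ j : ℤ, a ≤ j → j ≤ b → PP ω hω hn f hf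
      ((singleFunctor (ModuleCat.{u} A) j).obj ((homologyFunctor (ModuleCat.{u} A) j).obj K))) :
    PP ω hω hn f hf K := by
  let P : ObjectProperty (Dual.D A) := fun K => PP ω hω hn f hf K
  haveI : P.IsClosedUnderIsomorphisms := ⟨fun e h => PP_of_iso ω hω hn f hf e h⟩
  exact Groth.Agent.Lib.Helper1.Devissage.induction_homology' P
    (fun K hK => PP_of_isZero ω hω hn f hf hK)
    (fun T hT h1 h3 => PP_ext ω hω hn f hf T hT h1 h3) K a b hK hP

end Groth.Agent.Lib.Helper14.HDI
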