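import Mathlib
import Groth.Agent.Lib.Helper14HDIC
import Groth.Agent.Lib.Helper14LDualG

/-! # The duality map for complexes: the case of a finite module in a single degree (helper14) -/

set_option autoImplicit false
set_option linter.unusedVariables false
set_option linter.unusedSectionVars false
set_option linter.style.haveILetI false

universe u

open CategoryTheory CategoryTheory.Limits Opposite CategoryTheory.Abelian DerivedCategory
  Pretriangulated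

attribute [local instance] HasDerivedCategory.standard

namespace Groth.Agent.Lib.Helper14.HDI

open Groth.Agent.Lib.Helper8.ExtLES Groth.Agent.Lib.Helper8.LC Groth.Agent.Lib.Helper8.Bridge
open Groth.Agent.Lib.Helper5.DualFL Groth.Agent.Lib.Helper14.LDual

section Theta

variable {A : Type u} [CommRing A]

/-- the shift adjunction `Hom(K, L[-n]) → Hom(K[n], L)` -/
noncomputable def θ (K L : Dual.D A) (n : ℤ) : (K ⟶ L⟦-n⟧) →ₗ[A] (K⟦n⟧ ⟶ L) where
  toFun t := t⟦n⟧' ≫ (shiftFunctorAdd' (Dual.D A) (-n) n 0 (neg_add_cancel n)).inv.app L ≫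
    (shiftFunctorZero (Dual.D A) ℤ).hom.app L
  map_add' t t' := by rw [Functor.map_add, Preadditive.add_comp]
  map_smul' a t := by rw [Functor.map_smul, Linear.smul_comp]; rfl

lemma θ_apply (K L : Dual.D A) (n : ℤ) (t : K ⟶ L⟦-n⟧) :
    θ K L n t = t⟦n⟧' ≫ (shiftFunctorAdd' (Dual.D A) (-n) n 0 (neg_add_cancel n)).inv.app L ≫
      (shiftFunctorZero (Dual.D A) ℤ).hom.app L := rfl

lemma θ_bijective (K L : Dual.D A) (n : ℤ) : Function.Bijective (θ K L n) := by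
  constructor
  · intro t t' h
    rw [θ_apply, θ_apply] at h
    have h2 : t⟦n⟧' = t'⟦n⟧' := by
      have := (cancel_mono ((shiftFunctorAdd' (Dual.D A) (-n) n 0 (neg_add_cancel n)).inv.app L ≫
        (shiftFunctorZero (Dual.D A) ℤ).hom.app L)).mp h
      exact this
    exact (shiftFunctor (Dual.D A) n).map_injective h2
  · intro s
    obtain ⟨t, ht⟩ := (shiftFunctor (Dual.D A) n).map_surjective
      (s ≫ (shiftFunctorZero (Dual.D A) ℤ).inv.app L ≫
        (shiftFunctorAdd' (Dual.D A) (-n) n 0 (neg_add_cancel n)).hom.app L)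
    refine ⟨t, ?_⟩
    rw [θ_apply, ht]
    simp

end Theta

variable {A : Type u} [CommRing A] [IsLocalRing A] [IsNoetherianRing A]
  (ω : Dual.D A) (hω : Dual.IsDualizing A ω) (hn : Dual.IsNormalized A ω)
  {Eh : Type u} [AddCommGroup Eh] [Module A Eh]
  (f : IsLocalRing.ResidueField A →ₗ[A] Eh) (hf : InjHull.IsInjectiveHull f)

local notation "𝔪" => IsLocalRing.maximalIdeal A

section Base

variable (i : ℕ) (N : ModuleCat.{u} A)

lemma cmp_eq (k : ℕ) (x : E i (Xk 𝔪 k) N) (t : T ω (-(i : ℤ)) N) :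
    cmp ω i N k x t = (Ψ i (Xk 𝔪 k) N x).hom ≫ θ (sg N) ω (i : ℤ) t := by
  unfold LDual.cmp ShiftedHom.comp
  rw [θ_apply, Category.assoc, Category.assoc]

lemma Psi_eq (k : ℕ) (x : E i (Xk 𝔪 k) N) (t : T ω (-(i : ℤ)) N) :
    Psi ω hω hn f hf i N (cls 𝔪 i N k x) t =
      Psi0 ω hω hn f hf ((sg N)⟦(i : ℤ)⟧) (ι 𝔪 _ k ((Ψ i (Xk 𝔪 k) N x).hom))
        (θ (sg N) ω (i : ℤ) t) := by
  rw [Psi_cls, Psi0_ι, cmp_eq]

lemma Ψ_hom_Epre {k l : ℕ} (h : k ≤ l) (x : E i (Xk 𝔪 k) N) :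
    (Ψ i (Xk 𝔪 l) N ((Epre i (tr 𝔪 h) N).hom x)).hom = trD 𝔪 h ≫ (Ψ i (Xk 𝔪 k) N x).hom := by
  rw [Ψ_Epre, Ext.comp_hom, Ext.mk₀_hom, ShiftedHom.mk₀_comp]
  rfl

include hf in
theorem Q_base_nonneg [Module.Finite A N] : Q ω hω hn f hf ((sg N)⟦(i : ℤ)⟧) := by
  have hbij : Function.Bijective (Psi ω hω hn f hf i N) :=
    Psi_bijective ω hω hn f hf i N
  constructor
  · rw [injective_iff_map_eq_zero]
    intro z hz
    obtain ⟨k, a, rfl⟩ := exists_rep 𝔪 _ z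
    obtain ⟨e, he⟩ := (Ext.homEquiv (X := Xk 𝔪 k) (Y := N) (n := i)).surjective a
    obtain ⟨x, rfl⟩ := (Ψ i (Xk 𝔪 k) N).surjective e
    have ha : (Ψ i (Xk 𝔪 k) N x).hom = a := he
    have h0 : Psi ω hω hn f hf i N (cls 𝔪 i N k x) = 0 := by
      refine LinearMap.ext fun t => ?_
      rw [Psi_eq, ha, hz]
      rfl
    have h1 := (injective_iff_map_eq_zero _).mp hbij.1 _ h0
    obtain ⟨l, hl, h2⟩ := (cls_eq_zero_iff 𝔪 i N x).mp h1
    rw [ι_eq_zero_iff]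
    refine ⟨l, hl, ?_⟩
    rw [← ha, ← Ψ_hom_Epre]
    have h3 : (Epre i (tr 𝔪 hl) N).hom x = 0 := h2
    rw [h3, map_zero]
    exact Ext.zero_hom (X := Xk 𝔪 l) (Y := N) (n := i)
  · intro φ
    let ψ : G ω Eh i N := φ.comp (θ (sg N) ω (i : ℤ))
    obtain ⟨z, hz⟩ := hbij.2 ψ
    obtain ⟨k, x, rfl⟩ := Groth.Agent.Lib.Helper8.LC.exists_rep 𝔪 i N z
    refine ⟨ι 𝔪 _ k ((Ψ i (Xk 𝔪 k) N x).hom), ?_⟩
    refine LinearMap.ext fun t' => ?_
    obtain ⟨t, rfl⟩ := (θ_bijective (sg N) ω (i : ℤ)).2 t'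
    rw [← Psi_eq, hz]
    rfl

include hω hn in
theorem Q_base_neg [Module.Finite A N] (m : ℤ) (hm : m < 0) :
    Q ω hω hn f hf ((sg N)⟦m⟧) := by
  have hF : Subsingleton (F0 𝔪 ((sg N)⟦m⟧)) := by
    refine ⟨fun z z' => ?_⟩
    obtain ⟨k, x, rfl⟩ := exists_rep 𝔪 _ z
    obtain ⟨k', x', rfl⟩ := exists_rep 𝔪 _ z'
    haveI : (sg N).IsGE 0 := inferInstance
    haveI : TStructure.t.IsGE ((sg N)⟦m⟧) (-m) := TStructure.t.isGE_shift (sg N) 0 m (-m)
    have h1 : x = 0 := TStructure.t.zero x 0 (-m) (by lia)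
    have h2 : x' = 0 := TStructure.t.zero x' 0 (-m) (by lia)
    rw [h1, h2, map_zero, map_zero]
  have hG : Subsingleton (G0 ω Eh ((sg N)⟦m⟧)) := by
    refine ⟨fun φ φ' => LinearMap.ext fun t' => ?_⟩
    obtain ⟨t, rfl⟩ := (θ_bijective (sg N) ω m).2 t'
    have ht : t = 0 := T_pos_eq_zero ω hω hn N (-m) (by lia) t
    rw [ht, map_zero, map_zero, map_zero]
  exact ⟨fun _ _ _ => Subsingleton.elim _ _, fun φ => ⟨0, Subsingleton.elim _ _⟩⟩

include hf in
theorem Q_base [Module.Finite A N] (m : ℤ) : Q ω hω hn f hf ((sg N)⟦m⟧) := by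
  by_cases hm : m < 0
  · exact Q_base_neg ω hω hn f hf N m hm
  · obtain ⟨i, rfl⟩ : ∃ i : ℕ, (i : ℤ) = m := ⟨m.toNat, Int.toNat_of_nonneg (by lia)⟩
    exact Q_base_nonneg ω hω hn f hf i N

include hf in
theorem PP_single [Module.Finite A N] (j : ℤ) :
    PP ω hω hn f hf ((singleFunctor (ModuleCat.{u} A) j).obj N) := by
  intro n
  have e1 : ((singleFunctor (ModuleCat.{u} A) j).obj N)⟦n⟧ ≅
      (singleFunctor (ModuleCat.{u} A) (j - n)).obj N :=
    ((singleFunctors (ModuleCat.{u} A)).shiftIso n (j - n) j (by ring)).app N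
  have e2 : (sg N)⟦n - j⟧ ≅ (singleFunctor (ModuleCat.{u} A) (j - n)).obj N :=
    ((singleFunctors (ModuleCat.{u} A)).shiftIso (n - j) (j - n) 0 (by ring)).app N
  exact Q_of_iso ω hω hn f hf (e2 ≪≫ e1.symm) (Q_base ω hω hn f hf N (n - j))

end Base

end Groth.Agent.Lib.Helper14.HDI
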