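import Mathlib
import Groth.Agent.Lib.Helper14HDID
import Groth.Agent.S0299
import Groth.Agent.S1812

/-! # Local duality for bounded complexes with finite cohomology: vanishing form (helper14) -/

set_option autoImplicit false
set_option linter.unusedVariables false
set_option linter.unusedSectionVars false
set_option linter.style.haveILetI false

universe u

open CategoryTheory CategoryTheory.Limits Opposite CategoryTheory.Abelian DerivedCategory
  Pretriangulated

attribute [local instance] HasDerivedCategory.standard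

namespace Groth.Agent.Lib.Helper14.HDI

open Groth.Agent.Lib.Helper5.DualFL Groth.Agent.Lib.Helper14.LDual

variable {A : Type u} [CommRing A] [IsLocalRing A] [IsNoetherianRing A]

local notation "𝔪" => IsLocalRing.maximalIdeal A

section Cogen

variable {Eh : Type u} [AddCommGroup Eh] [Module A Eh]
  (f : IsLocalRing.ResidueField A →ₗ[A] Eh) (hf : InjHull.IsInjectiveHull f)

include hf in
/-- the injective hull of the residue field is a cogenerator -/
theorem exists_map_ne_zero {T : Type*} [AddCommGroup T] [Module A T] (x : T) (hx : x ≠ 0) :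
    ∃ φ : T →ₗ[A] Eh, φ x ≠ 0 := by
  haveI := hf.isInjective
  let g : A →ₗ[A] T := LinearMap.toSpanSingleton A T x
  have hJ : LinearMap.ker g ≤ 𝔪 := by
    apply IsLocalRing.le_maximalIdeal
    intro htop
    have h1 : (1 : A) ∈ LinearMap.ker g := by rw [htop]; exact Submodule.mem_top
    rw [LinearMap.mem_ker, LinearMap.toSpanSingleton_apply, one_smul] at h1
    exact hx h1
  let ι' : (A ⧸ LinearMap.ker g) →ₗ[A] T := (LinearMap.ker g).liftQ g le_rfl
  have hι : Function.Injective ι' := by
    rw [← LinearMap.ker_eq_bot]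
    exact Submodule.ker_liftQ_eq_bot _ _ _ le_rfl
  let q : (A ⧸ LinearMap.ker g) →ₗ[A] IsLocalRing.ResidueField A :=
    Submodule.mapQ (LinearMap.ker g) 𝔪 LinearMap.id hJ
  obtain ⟨φ, hφ⟩ := Module.Injective.extension_property A Eh _ _ ι' hι (f.comp q)
  refine ⟨φ, ?_⟩
  have h1 : ι' (Submodule.Quotient.mk 1) = x := by
    show g 1 = x
    rw [LinearMap.toSpanSingleton_apply, one_smul]
  have h2 := LinearMap.congr_fun hφ (Submodule.Quotient.mk 1)
  rw [LinearMap.comp_apply, h1] at h2
  rw [h2, LinearMap.comp_apply]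
  intro h0
  have h3 : q (Submodule.Quotient.mk 1) = 0 := hf.injective (by rw [h0, map_zero])
  have h4 : (1 : IsLocalRing.ResidueField A) = 0 := h3
  exact one_ne_zero h4

include hf in
theorem subsingleton_of_subsingleton_dual {T : Type*} [AddCommGroup T] [Module A T]
    (h : Subsingleton (T →ₗ[A] Eh)) : Subsingleton T := by
  refine ⟨fun x y => ?_⟩
  by_contra hxy
  obtain ⟨φ, hφ⟩ := exists_map_ne_zero f hf (x - y) (sub_ne_zero.mpr hxy)
  exact hφ (by rw [Subsingleton.elim φ 0, LinearMap.zero_apply])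

end Cogen

variable (ω : Dual.D A) (hω : Dual.IsDualizing A ω) (hn : Dual.IsNormalized A ω)

include hω hn in
/-- **Local duality for complexes, vanishing form.**  For `M` bounded with finite cohomology,
`Hom(M, ω[-m]) = 0` iff `colim_k Hom(A/m^k, M[m]) = 0`. -/
theorem hom_vanishing_iff (M : Dual.D A)
    (hfin : ∀ i : ℤ, Module.Finite A (Dual.HD A M i))
    (hbd : ∃ a b : ℤ, ∀ i : ℤ, (i < a ∨ b < i) → Subsingleton (Dual.HD A M i)) (m : ℤ) :
    Subsingleton (M ⟶ ω⟦-m⟧) ↔ Subsingleton (Dual2.HDI A 𝔪 M m) := by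
  obtain ⟨Eh, _, _, f, hf⟩ := Groth.Agent.S0299.result A (IsLocalRing.ResidueField A)
  haveI := hf.isInjective
  obtain ⟨a, b, hab⟩ := hbd
  have hPP : PP ω hω hn f hf M := by
    refine PP_of_bounded ω hω hn f hf M a b (fun i hi => ?_) (fun j _ _ => ?_)
    · haveI := hab i hi
      exact ModuleCat.isZero_of_subsingleton _
    · haveI : Module.Finite A ((homologyFunctor (ModuleCat.{u} A) j).obj M) := hfin j
      exact PP_single ω hω hn f hf _ j
  have hQ := hPP m
  have h1 : Subsingleton (M ⟶ ω⟦-m⟧) ↔ Subsingleton (M⟦m⟧ ⟶ ω) :=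
    (Equiv.ofBijective _ (θ_bijective M ω m)).subsingleton_congr
  have h2 : Subsingleton (M⟦m⟧ ⟶ ω) ↔ Subsingleton (G0 ω Eh (M⟦m⟧)) := by
    constructor
    · intro h
      exact ⟨fun φ ψ => LinearMap.ext fun t => by rw [Subsingleton.elim t 0, map_zero, map_zero]⟩
    · intro h
      exact subsingleton_of_subsingleton_dual f hf h
  have h3 : Subsingleton (G0 ω Eh (M⟦m⟧)) ↔ Subsingleton (F0 𝔪 (M⟦m⟧)) :=
    (Equiv.ofBijective _ hQ).subsingleton_congr.symm
  exact h1.trans (h2.trans h3)

include hω hn in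
theorem hom_vanishing_iff_Rgamma [DRing.HasRgammaI 𝔪] (M : Dual.D A)
    (hfin : ∀ i : ℤ, Module.Finite A (Dual.HD A M i))
    (hbd : ∃ a b : ℤ, ∀ i : ℤ, (i < a ∨ b < i) → Subsingleton (Dual.HD A M i)) (m : ℤ) :
    Subsingleton (M ⟶ ω⟦-m⟧) ↔
      Subsingleton (Dual.HD A ((DRing.RgammaI 𝔪).obj M) m) := by
  obtain ⟨e⟩ := Groth.Agent.S1812.result A 𝔪 (IsNoetherian.noetherian _) M m
  exact (hom_vanishing_iff ω hω hn M hfin hbd m).trans e.toEquiv.subsingleton_congr.symm

end Groth.Agent.Lib.Helper14.HDI
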