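import Mathlib
import Groth.Agent.Lib.Helper14FaltCxD
import Groth.Agent.Lib.Helper14HDIE
import Groth.Agent.Lib.Helper5LocDD
import Groth.Agent.Lib.Helper5LocDF

/-! # Local duality at a prime with annihilators, for complexes (helper14)

* `rhs_iff_cx`: `c` kills `Hom_{D(A_p)}(K_p, ω_p[j])` iff it kills `Hom_{D(A)}(K, ω[j])_p`;
* `ann_local_iff`: over a local ring with normalized dualizing complex, `c` kills
  `Hom(L, ω[-m])` iff it kills `colim_k Hom(A/m^k, L[m])`;
* `lda_iff_cx`: `c` kills `H^i_{V(p)}(K)_p` iff it kills `Hom(K, ω[d - i])_p`. -/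

set_option autoImplicit false
set_option linter.unusedVariables false
set_option linter.unusedSectionVars false
set_option linter.style.haveILetI false
set_option maxHeartbeats 400000

universe u

open CategoryTheory CategoryTheory.Limits
attribute [local instance] HasDerivedCategory.standard

namespace Groth.Agent.Lib.Helper14.FaltCx

open DerivedCategory Groth.Agent.Lib.Helper1.Extend Groth.Agent.Lib.Helper5.BiDual
open Groth.Agent.Lib.Helper5.DualLocal Groth.Agent.Lib.Helper5.DualMin
open Groth.Agent.Lib.Helper5.DualDim Groth.Agent.Lib.Helper5.NormDual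
open Groth.Agent.Lib.Helper5.LocD
open Groth.Agent.Lib.Helper14.HDT Groth.Agent.Lib.Helper14.HDI Groth.Agent.Lib.Helper14.Falt

section RHS

variable {A : Type u} [CommRing A] [IsNoetherianRing A]
variable (ω : Dual.D A) (hω : Dual.IsDualizing A ω) (p : Ideal A) [hp : p.IsPrime]

include hω in
/-- `c` kills `Hom_{D(A_p)}(K_p, ω_p[j])` iff it kills `Hom_{D(A)}(K, ω[j])` after localizing -/
theorem rhs_iff_cx (K : Dual.D A) (hK : HasFPRes K) (j : ℤ) (c : A) :
    (∀ u : (extD A (Localization.AtPrime p)).obj K ⟶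
        ((extD A (Localization.AtPrime p)).obj ω)⟦j⟧,
        algebraMap A (Localization.AtPrime p) c • u = 0) ↔
      ∀ t : K ⟶ ω⟦j⟧, ∃ s ∈ p.primeCompl, (s * c) • t = 0 := by
  obtain ⟨T⟩ := nonempty_res ω hω
  have hY : HasInjRes (ω⟦j⟧) := (hasInjRes_of_res T).shift j
  let cc : (extD A (Localization.AtPrime p)).obj (ω⟦j⟧) ≅
      ((extD A (Localization.AtPrime p)).obj ω)⟦j⟧ :=
    ((extD A (Localization.AtPrime p)).commShiftIso j).app ω
  constructor
  · intro h t
    have h1 : (extD A (Localization.AtPrime p)).map (c • t) = 0 := by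
      have h2 : algebraMap A (Localization.AtPrime p) c •
          ((extD A (Localization.AtPrime p)).map t ≫ cc.hom) = 0 := h _
      rw [extD_map_smul]
      have h3 : (algebraMap A (Localization.AtPrime p) c •
          (extD A (Localization.AtPrime p)).map t) ≫ cc.hom = 0 := by
        rw [Linear.smul_comp]
        exact h2
      exact (cancel_mono cc.hom).1 (h3.trans zero_comp.symm)
    obtain ⟨s, hs, hst⟩ := LI_inj p.primeCompl (Localization.AtPrime p) hK hY (c • t) h1
    exact ⟨s, hs, by rw [mul_smul]; exact hst⟩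
  · intro h u
    obtain ⟨s, hs, t, ht⟩ :=
      LI_surj p.primeCompl (Localization.AtPrime p) hK hY (u ≫ cc.inv)
    obtain ⟨s', hs', hst'⟩ := h t
    have h1 : algebraMap A (Localization.AtPrime p) (s' * s) •
        (algebraMap A (Localization.AtPrime p) c • (u ≫ cc.inv)) = 0 := by
      rw [smul_comm, map_mul, mul_smul, ht, ← extD_map_smul, ← extD_map_smul, ← mul_smul,
        mul_comm c s', hst', Functor.map_zero]
    have h2 : algebraMap A (Localization.AtPrime p) c • (u ≫ cc.inv) = 0 :=
      smul_unit_cancel p.primeCompl (Localization.AtPrime p) (s' * s)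
        (p.primeCompl.mul_mem hs' hs) _ _ (h1.trans (smul_zero _).symm)
    have h3 : (algebraMap A (Localization.AtPrime p) c • u) ≫ cc.inv = 0 := by
      rw [Linear.smul_comp]
      exact h2
    exact (cancel_mono cc.inv).1 (h3.trans zero_comp.symm)

end RHS

section Local

variable {A : Type u} [CommRing A] [IsLocalRing A] [IsNoetherianRing A]
  (ω : Dual.D A) (hω : Dual.IsDualizing A ω) (hn : Dual.IsNormalized A ω)

local notation "𝔪" => IsLocalRing.maximalIdeal A

include hω hn in
/-- **Local duality for complexes, annihilator form.**  For `L` bounded with finite cohomology,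
`c` kills `Hom(L, ω[-m])` iff it kills `colim_k Hom(A/m^k, L[m])`. -/
theorem ann_local_iff (L : Dual.D A)
    (hfin : ∀ i : ℤ, Module.Finite A (Dual.HD A L i))
    (hbd : ∃ a b : ℤ, ∀ i : ℤ, (i < a ∨ b < i) → Subsingleton (Dual.HD A L i)) (m : ℤ) (c : A) :
    (∀ u : L ⟶ ω⟦-m⟧, c • u = 0) ↔ ∀ w : F0 𝔪 (L⟦m⟧), c • w = 0 := by
  obtain ⟨Eh, _, _, f, hf⟩ := Groth.Agent.S0299.result A (IsLocalRing.ResidueField A)
  haveI := hf.isInjective
  obtain ⟨a, b, hab⟩ := hbd
  have hPP : PP ω hω hn f hf L := by
    refine PP_of_bounded ω hω hn f hf L a b (fun i hi => ?_) (fun j _ _ => ?_)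
    · haveI := hab i hi
      exact ModuleCat.isZero_of_subsingleton _
    · haveI : Module.Finite A ((homologyFunctor (ModuleCat.{u} A) j).obj L) := hfin j
      exact PP_single ω hω hn f hf _ j
  have hQ : Function.Bijective (Psi0 ω hω hn f hf (L⟦m⟧)) := hPP m
  have h1 : (∀ u : L ⟶ ω⟦-m⟧, c • u = 0) ↔ ∀ v : L⟦m⟧ ⟶ ω, c • v = 0 := by
    constructor
    · intro h v
      obtain ⟨u, rfl⟩ := (θ_bijective L ω m).2 v
      rw [← map_smul, h u, map_zero]
    · intro h u
      apply (θ_bijective L ω m).1
      rw [map_smul, h, map_zero]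
  have h2 : (∀ v : L⟦m⟧ ⟶ ω, c • v = 0) ↔ ∀ φ : G0 ω Eh (L⟦m⟧), c • φ = 0 := by
    constructor
    · intro h φ
      refine LinearMap.ext fun v => ?_
      rw [LinearMap.smul_apply, ← map_smul, h v, map_zero, LinearMap.zero_apply]
    · intro h v
      by_contra hv
      obtain ⟨φ, hφ⟩ := exists_map_ne_zero f hf (c • v) hv
      apply hφ
      have h3 := LinearMap.congr_fun (h φ) v
      rw [LinearMap.smul_apply, ← map_smul, LinearMap.zero_apply] at h3
      exact h3
  have h3 : (∀ φ : G0 ω Eh (L⟦m⟧), c • φ = 0) ↔ ∀ w : F0 𝔪 (L⟦m⟧), c • w = 0 := by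
    constructor
    · intro h w
      apply hQ.1
      rw [map_smul, h, map_zero]
    · intro h φ
      obtain ⟨w, rfl⟩ := hQ.2 φ
      rw [← map_smul, h w, map_zero]
  exact h1.trans (h2.trans h3)

end Local

section LDA

variable {A : Type u} [CommRing A] [IsNoetherianRing A]
variable (ω : Dual.D A) (hω : Dual.IsDualizing A ω) (p : Ideal A) [hp : p.IsPrime]

/-- finiteness of the cohomology of a localized complex -/
lemma finite_HD_extD {B : Type u} [CommRing B] [Algebra A B] [Module.Flat A B] (K : Dual.D A)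
    (i : ℤ) (h : Module.Finite A (Dual.HD A K i)) :
    Module.Finite B (Dual.HD B ((extD A B).obj K) i) := by
  haveI := h
  haveI : Module.Finite B ((ext A B).obj ((homologyFunctor (ModuleCat.{u} A) i).obj K)) :=
    Groth.Agent.Lib.Helper1.LDer.finite_bc (algebraMap A B) _
  exact Module.Finite.equiv (homologyMapDIso (ext A B) K i).symm.toLinearEquiv

/-- vanishing of the cohomology of a localized complex -/
lemma subsingleton_HD_extD {B : Type u} [CommRing B] [Algebra A B] [Module.Flat A B]
    (K : Dual.D A) (i : ℤ) (h : Subsingleton (Dual.HD A K i)) :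
    Subsingleton (Dual.HD B ((extD A B).obj K) i) := by
  have hz : IsZero ((homologyFunctor (ModuleCat.{u} A) i).obj K) :=
    ModuleCat.isZero_of_subsingleton _
  have hz' : IsZero ((homologyFunctor (ModuleCat.{u} B) i).obj ((extD A B).obj K)) :=
    ((ext A B).map_isZero hz).of_iso (homologyMapDIso (ext A B) K i)
  exact ModuleCat.subsingleton_of_isZero hz'

include hω in
/-- **Local duality at a prime with annihilators, for bounded complexes with finite
cohomology.** -/
theorem lda_iff_cx (d : ℤ) (hd : ∀ i : ℤ, i ≠ d → LZ ω p i (Dual.inD A (A ⧸ p)))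
    (K : Dual.D A) (hfin : ∀ i : ℤ, Module.Finite A (Dual.HD A K i))
    (hbd : ∃ a b : ℤ, ∀ i : ℤ, (i < a ∨ b < i) → Subsingleton (Dual.HD A K i)) (i : ℤ) (c : A) :
    (∀ z : FT (PrimeSpectrum.zeroLocus (p : Set A)) (K⟦i⟧),
        ∃ s ∈ p.primeCompl, (s * c) • z = 0) ↔
      ∀ t : K ⟶ ω⟦d - i⟧, ∃ s ∈ p.primeCompl, (s * c) • t = 0 := by
  have hB := isDualizing_extD p.primeCompl (Localization.AtPrime p) ω hω
  haveI := hB.isNoetherianRing
  have hB' := isDualizing_shift hB d
  have hn := isNormalized_extD_shift ω hω p d hd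
  obtain ⟨a, b, hab⟩ := hbd
  have hY : HasInjRes (K⟦i⟧) :=
    (hasInjRes_of_bddBelow K a (fun j hj => hab j (Or.inl hj))).shift i
  have hKfp : HasFPRes K := hasFPRes_of_bdd_finite K ⟨b, fun j hj => hab j (Or.inr hj)⟩ hfin
  have key := ann_local_iff (((extD A (Localization.AtPrime p)).obj ω)⟦d⟧) hB' hn
    ((extD A (Localization.AtPrime p)).obj K)
    (fun j => finite_HD_extD K j (hfin j))
    ⟨a, b, fun j hj => subsingleton_HD_extD K j (hab j hj)⟩ i
    (algebraMap A (Localization.AtPrime p) c)
  rw [lhs_iff_cx p (K⟦i⟧) hY c, ← rhs_iff_cx ω hω p K hKfp (d - i) c,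
    forall_smul_shift_add_iff _ _ d (-i) (d - i) (by ring), key]
  let e : (extD A (Localization.AtPrime p)).obj (K⟦i⟧) ≅
      ((extD A (Localization.AtPrime p)).obj K)⟦i⟧ :=
    ((extD A (Localization.AtPrime p)).commShiftIso i).app K
  have hbij := F0map_iso_bijective (IsLocalRing.maximalIdeal (Localization.AtPrime p)) e
  constructor
  · intro h w
    obtain ⟨w', rfl⟩ := hbij.2 w
    rw [← map_smul, h w', map_zero]
  · intro h w
    apply hbij.1
    rw [map_smul, h, map_zero]

end LDA

end Groth.Agent.Lib.Helper14.FaltCx
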