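import Mathlib

/-! # Dimension functions on the spectrum of a Noetherian ring and lengths of chains (helper14)

For `δ : Spec A → ℤ` with `δ p = δ q + 1` whenever `q` covers `p`, the Krull dimension of the
interval `[p, q]` is `δ p - δ q`. -/

set_option autoImplicit false
set_option linter.unusedVariables false
set_option linter.unusedSectionVars false
set_option linter.style.haveILetI false

universe u

namespace Groth.Agent.Lib.Helper14.Falt

variable {A : Type u} [CommRing A] [IsNoetherianRing A]
  (δ : PrimeSpectrum A → ℤ) (h2 : ∀ p q : PrimeSpectrum A, p ⋖ q → δ p = δ q + 1)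

/-- between `p < q` there is a prime covering `p` -/
lemma exists_covBy_le (p q : PrimeSpectrum A) (hpq : p < q) :
    ∃ p' : PrimeSpectrum A, p ⋖ p' ∧ p' ≤ q := by
  let S : Set (PrimeSpectrum A) := {r | p < r ∧ r ≤ q}
  have hne : S.Nonempty := ⟨q, hpq, le_rfl⟩
  obtain ⟨q₀, hq₀, hmin⟩ := WellFounded.has_min
    (InvImage.wf (fun q : PrimeSpectrum A => q.asIdeal.height) wellFounded_lt) S hne
  refine ⟨q₀, ⟨hq₀.1, fun c hpc hcq => ?_⟩, hq₀.2⟩
  apply hmin c ⟨hpc, hcq.le.trans hq₀.2⟩
  show c.asIdeal.height < q₀.asIdeal.height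
  haveI := c.isPrime
  haveI := q₀.isPrime
  have hlt : c.asIdeal < q₀.asIdeal := hcq
  exact Ideal.height_strict_mono_of_isPrime hlt

include h2 in
/-- `δ` is strictly decreasing -/
theorem delta_lt_of_lt : ∀ (p q : PrimeSpectrum A), p < q → δ q < δ p := by
  intro p
  induction p using (InvImage.wf (fun q : PrimeSpectrum A => q.asIdeal)
    (wellFounded_gt : WellFounded ((· > ·) : Ideal A → Ideal A → Prop))).induction with
  | _ p IH =>
    intro q hpq
    obtain ⟨p', hcov, hp'q⟩ := exists_covBy_le p q hpq
    have h1 := h2 p p' hcov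
    rcases eq_or_lt_of_le hp'q with heq | hlt
    · subst heq
      omega
    · have := IH p' (show p.asIdeal < p'.asIdeal from hcov.lt) q hlt
      omega

include h2 in
theorem delta_le_of_le (p q : PrimeSpectrum A) (hpq : p ≤ q) : δ q ≤ δ p := by
  rcases eq_or_lt_of_le hpq with heq | hlt
  · subst heq
    exact le_rfl
  · exact (delta_lt_of_lt δ h2 p q hlt).le

include h2 in
/-- a saturated chain from `p` to `q` -/
theorem exists_series : ∀ (p q : PrimeSpectrum A) (hpq : p ≤ q),
    ∃ s : LTSeries (Set.Icc p q), (s.length : ℤ) = δ p - δ q ∧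
      s.head = ⟨p, le_rfl, hpq⟩ := by
  intro p
  induction p using (InvImage.wf (fun q : PrimeSpectrum A => q.asIdeal)
    (wellFounded_gt : WellFounded ((· > ·) : Ideal A → Ideal A → Prop))).induction with
  | _ p IH =>
    intro q hpq
    rcases eq_or_lt_of_le hpq with heq | hlt
    · subst heq
      refine ⟨RelSeries.singleton _ ⟨p, le_rfl, le_rfl⟩, ?_, rfl⟩
      simp
    · obtain ⟨p', hcov, hp'q⟩ := exists_covBy_le p q hlt
      obtain ⟨s', hs', hhead⟩ := IH p' (show p.asIdeal < p'.asIdeal from hcov.lt) q hp'q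
      let f : Set.Icc p' q → Set.Icc p q := fun x => ⟨x.1, hcov.lt.le.trans x.2.1, x.2.2⟩
      have hf : StrictMono f := fun x y hxy => hxy
      have hrel : (⟨p, le_rfl, hpq⟩ : Set.Icc p q) < (s'.map f hf).head := by
        rw [LTSeries.head_map, hhead]
        exact hcov.lt
      refine ⟨(s'.map f hf).cons ⟨p, le_rfl, hpq⟩ hrel, ?_, RelSeries.head_cons _ _ _⟩
      have h1 := h2 p p' hcov
      rw [RelSeries.cons_length, LTSeries.map_length]
      push_cast
      omega

include h2 in
/-- every chain in `[p, q]` has length at most `δ p - δ q` -/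
theorem length_le (p q : PrimeSpectrum A) (s : LTSeries (Set.Icc p q)) :
    (s.length : ℤ) ≤ δ p - δ q := by
  have key : ∀ (i : ℕ) (hi : i < s.length + 1),
      (i : ℤ) ≤ δ (s 0).1 - δ (s ⟨i, hi⟩).1 := by
    intro i
    induction i with
    | zero =>
      intro hi
      simp
    | succ i ih =>
      intro hi
      have h1 := ih (by omega)
      have hlt : s ⟨i, by omega⟩ < s ⟨i + 1, hi⟩ := s.strictMono (by simp [Fin.lt_def])
      have h3 := delta_lt_of_lt δ h2 _ _ (show (s ⟨i, by omega⟩).1 < (s ⟨i + 1, hi⟩).1 from hlt)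
      push_cast
      omega
  have h1 := key s.length (by omega)
  have h3 := delta_le_of_le δ h2 p (s 0).1 (s 0).2.1
  have h4 := delta_le_of_le δ h2 (s ⟨s.length, by omega⟩).1 q (s ⟨s.length, by omega⟩).2.2
  omega

include h2 in
/-- the Krull dimension of an interval of primes is the difference of the values of `δ` -/
theorem krullDim_Icc (p q : PrimeSpectrum A) (hpq : p ≤ q) :
    Order.krullDim (Set.Icc p q) = (((δ p - δ q).toNat : ℕ) : WithBot ℕ∞) := by
  have hnn : 0 ≤ δ p - δ q := by
    have := delta_le_of_le δ h2 p q hpq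
    omega
  apply le_antisymm
  · unfold Order.krullDim
    refine iSup_le fun s => ?_
    have h1 := length_le δ h2 p q s
    have h3 : s.length ≤ (δ p - δ q).toNat := by omega
    exact_mod_cast h3
  · obtain ⟨s, hs, -⟩ := exists_series δ h2 p q hpq
    have h1 : (δ p - δ q).toNat = s.length := by omega
    rw [h1]
    exact Order.LTSeries.length_le_krullDim s

end Groth.Agent.Lib.Helper14.Falt
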