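import Mathlib
import Groth.Agent.Lib.Helper14FaltF
import Groth.Agent.Lib.Helper14HDTD

/-! # Commutative algebra for the Ass-induction in Faltings' annihilator theorem (helper14) -/

set_option autoImplicit false
set_option linter.unusedVariables false
set_option linter.unusedSectionVars false
set_option linter.style.haveILetI false
set_option maxHeartbeats 400000

universe u v

namespace Groth.Agent.Lib.Helper14.Falt

open Groth.Agent.Lib.Helper14.HDT

variable {A : Type u} [CommRing A]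

/-- the kernel of the localization map at a prime -/
def locKer (P : Ideal A) [hP : P.IsPrime] (N : Type v) [AddCommGroup N] [Module A N] :
    Submodule A N where
  carrier := {y | ∃ s, s ∉ P ∧ s • y = 0}
  zero_mem' := ⟨1, fun h => hP.ne_top ((Ideal.eq_top_iff_one P).mpr h), smul_zero _⟩
  add_mem' := by
    rintro y y' ⟨s, hs, h⟩ ⟨s', hs', h'⟩
    refine ⟨s * s', fun hmem => (hP.mem_or_mem hmem).elim hs hs', ?_⟩
    rw [smul_add, mul_smul, mul_smul, h', smul_zero, add_zero, smul_comm, h, smul_zero]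
  smul_mem' := by
    rintro c y ⟨s, hs, h⟩
    exact ⟨s, hs, by rw [smul_comm, h, smul_zero]⟩

lemma mem_locKer (P : Ideal A) [hP : P.IsPrime] {N : Type v} [AddCommGroup N] [Module A N]
    (y : N) : y ∈ locKer P N ↔ ∃ s, s ∉ P ∧ s • y = 0 := Iff.rfl

variable [IsNoetherianRing A]

/-- for a minimal prime `P` over `I₀`, some `J ⊄ P` and power `P ^ n` multiply into `I₀` -/
lemma exists_pow_mul_le {I₀ P : Ideal A} (hP : P ∈ I₀.minimalPrimes) :
    ∃ (n : ℕ) (s : A), s ∉ P ∧ ∀ r ∈ P ^ n, r * s ∈ I₀ := by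
  classical
  obtain ⟨n₀, hn₀⟩ := I₀.exists_radical_pow_le_of_fg I₀.radical.fg_of_isNoetherianRing
  have hn : I₀.radical ^ (n₀ + 1) ≤ I₀ := (Ideal.pow_le_pow_right (Nat.le_succ n₀)).trans hn₀
  have h := I₀.finite_minimalPrimes_of_isNoetherianRing A
  rw [← I₀.sInf_minimalPrimes, ← h.coe_toFinset, ← h.toFinset.inf_id_eq_sInf,
    ← Finset.insert_erase (h.mem_toFinset.mpr hP), Finset.inf_insert, id_eq] at hn
  have hn' : P ^ (n₀ + 1) * ((h.toFinset.erase P).inf id) ^ (n₀ + 1) ≤ I₀ := by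
    rw [← mul_pow]
    exact (Ideal.pow_right_mono Ideal.mul_le_inf _).trans hn
  have huniq : ∀ K : Ideal A, K ≤ P → K ∈ I₀.minimalPrimes → K = P :=
    fun K hKP hK => le_antisymm hKP (hP.2 hK.1 hKP)
  have hnot : ¬ ((h.toFinset.erase P).inf id) ^ (n₀ + 1) ≤ P := by
    rw [hP.1.1.pow_le_iff (Nat.succ_ne_zero n₀), hP.1.1.inf_le']
    rintro ⟨K, hK, hKP⟩
    rw [Finset.mem_erase, h.mem_toFinset] at hK
    exact hK.1 (huniq K hKP hK.2)
  obtain ⟨s, hs, hsP⟩ := SetLike.not_le_iff_exists.mp hnot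
  exact ⟨n₀ + 1, s, hsP, fun r hr => hn' (Ideal.mul_mem_mul hr hs)⟩

section ClaimA

variable (δ : PrimeSpectrum A → ℤ) (h2 : ∀ p q : PrimeSpectrum A, p ⋖ q → δ p = δ q + 1)

include h2 in
/-- **Claim A.** If the primes annihilating multiples of `x` have `δ ≤ δ P`, then
localizing at `P` makes `x` a `P`-power torsion element. -/
theorem claimA {N : Type v} [AddCommGroup N] [Module A N] (x : N) (P : PrimeSpectrum A)
    (hass : ∀ (r : A) (P' : PrimeSpectrum A),
      P'.asIdeal = (⊥ : Submodule A N).colon {r • x} → δ P' ≤ δ P) :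
    ∃ s, s ∉ P.asIdeal ∧ ∃ k : ℕ, ∀ r ∈ P.asIdeal ^ k, r • s • x = 0 := by
  set I₀ : Ideal A := (⊥ : Submodule A N).colon {x} with hI₀
  have hmem : ∀ r : A, r ∈ I₀ ↔ r • x = 0 := fun r => by
    rw [hI₀, Submodule.mem_colon_singleton, Submodule.mem_bot]
  by_cases hle : I₀ ≤ P.asIdeal
  · obtain ⟨P₀, hP₀, hP₀P⟩ := Ideal.exists_minimalPrimes_le hle
    obtain ⟨x', hx'⟩ := Submodule.exists_eq_colon_of_mem_minimalPrimes hP₀
    -- `x'` can be taken to be a multiple of `x`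
    have hP₀prime : P₀.IsPrime := hP₀.1.1
    have hP₀' : ∃ r : A, P₀ = (⊥ : Submodule A N).colon {r • x} := by
      -- redo: minimal primes over `colon ⊥ {x}` are colons of multiples of `x`
      have hsub : ∃ x'' ∈ Submodule.span A {x}, P₀ = (⊥ : Submodule A N).colon {x''} := by
        -- work in the cyclic submodule
        let C : Submodule A N := Submodule.span A {x}
        let xc : C := ⟨x, Submodule.mem_span_singleton_self x⟩
        have hcol : (⊥ : Submodule A C).colon {xc} = I₀ := by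
          ext r
          rw [Submodule.mem_colon_singleton, Submodule.mem_bot, hmem]
          constructor
          · intro h
            exact congrArg Subtype.val h
          · intro h
            exact Subtype.ext h
        have hP₀c : P₀ ∈ ((⊥ : Submodule A C).colon {xc}).minimalPrimes := by rw [hcol]; exact hP₀
        obtain ⟨y, hy⟩ := Submodule.exists_eq_colon_of_mem_minimalPrimes hP₀c
        refine ⟨y.1, y.2, ?_⟩
        rw [hy]
        ext r
        rw [Submodule.mem_colon_singleton, Submodule.mem_bot, Submodule.mem_colon_singleton,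
          Submodule.mem_bot]
        constructor
        · intro h
          exact congrArg Subtype.val h
        · intro h
          exact Subtype.ext h
      obtain ⟨x'', hx''mem, hx''⟩ := hsub
      obtain ⟨r, rfl⟩ := Submodule.mem_span_singleton.mp hx''mem
      exact ⟨r, hx''⟩
    obtain ⟨r, hr⟩ := hP₀'
    have h1 : δ ⟨P₀, hP₀prime⟩ ≤ δ P := hass r ⟨P₀, hP₀prime⟩ hr
    have hPP : (⟨P₀, hP₀prime⟩ : PrimeSpectrum A) = P := by
      rcases eq_or_lt_of_le (show (⟨P₀, hP₀prime⟩ : PrimeSpectrum A) ≤ P from hP₀P) with h | h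
      · exact h
      · have := delta_lt_of_lt δ h2 _ _ h
        omega
    have hPmin : P.asIdeal ∈ I₀.minimalPrimes := by
      have : P.asIdeal = P₀ := by rw [← hPP]
      rw [this]
      exact hP₀
    obtain ⟨n, s, hs, hns⟩ := exists_pow_mul_le hPmin
    refine ⟨s, hs, n, fun r hr => ?_⟩
    rw [← mul_smul]
    exact (hmem _).mp (hns r hr)
  · obtain ⟨s, hs, hsP⟩ := SetLike.not_le_iff_exists.mp hle
    refine ⟨s, hsP, 0, fun r _ => ?_⟩
    rw [(hmem s).mp hs, smul_zero]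

end ClaimA

section Glue

variable (T' : Set (PrimeSpectrum A)) (hT' : StableUnderSpecialization T')

include hT' in
/-- **Gluing.** If `F` vanishes at all primes below `P` outside `T'`, then up to `T'`-torsion `F`
vanishes at `P`. -/
theorem glue {F : Type v} [AddCommGroup F] [Module A F] [IsNoetherian A F]
    (P : PrimeSpectrum A)
    (h : ∀ p : PrimeSpectrum A, p ∉ T' → p ≤ P → ∀ t : F, ∃ s, s ∉ p.asIdeal ∧ s • t = 0)
    (t : F) : ∃ s, s ∉ P.asIdeal ∧ s • t ∈ torsT T' F := by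
  by_contra hcon
  push Not at hcon
  have hle : (torsT T' F).colon {t} ≤ P.asIdeal := by
    intro s hs
    by_contra hsP
    exact hcon s hsP (Submodule.mem_colon_singleton.mp hs)
  obtain ⟨p₀, hp₀, hp₀P⟩ := Ideal.exists_minimalPrimes_le hle
  obtain ⟨t', ht'⟩ := Submodule.exists_eq_colon_of_mem_minimalPrimes hp₀
  have hp₀prime : p₀.IsPrime := hp₀.1.1
  by_cases hmem : (⟨p₀, hp₀prime⟩ : PrimeSpectrum A) ∈ T'
  · have hV : PrimeSpectrum.zeroLocus (p₀ : Set A) ⊆ T' := by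
      intro q hq
      exact hT' ((PrimeSpectrum.le_iff_specializes ⟨p₀, hp₀prime⟩ q).mp hq) hmem
    have ht'mem : t' ∈ torsT T' F := mem_torsT_of_smul_mem T' t' p₀ hV (fun a ha => by
      rw [ht'] at ha
      exact Submodule.mem_colon_singleton.mp ha)
    have : p₀ = ⊤ := by
      rw [ht', Submodule.colon_eq_top_iff_subset]
      exact Set.singleton_subset_iff.mpr ht'mem
    exact hp₀prime.ne_top this
  · obtain ⟨s, hs, hst⟩ := h ⟨p₀, hp₀prime⟩ hmem hp₀P t'
    apply hs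
    show s ∈ p₀
    rw [ht', Submodule.mem_colon_singleton, hst]
    exact Submodule.zero_mem _

end Glue

/-- a nonzero submodule contains an element with prime annihilator -/
theorem exists_prime_ann {N : Type v} [AddCommGroup N] [Module A N] (S : Submodule A N)
    (hS : S ≠ ⊥) : ∃ y ∈ S, ∃ P : PrimeSpectrum A, P.asIdeal = (⊥ : Submodule A N).colon {y} := by
  obtain ⟨y, hyS, hy0⟩ := (Submodule.ne_bot_iff S).mp hS
  have hy0' : (⟨y, hyS⟩ : S) ≠ 0 := fun h => hy0 (congrArg Subtype.val h)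
  obtain ⟨P, hP, -⟩ := exists_le_isAssociatedPrime_of_isNoetherianRing (R := A) (⟨y, hyS⟩ : S) hy0'
  obtain ⟨hprime, z, hz⟩ := isAssociatedPrime_iff.mp hP
  refine ⟨z.1, z.2, ⟨P, hprime⟩, ?_⟩
  show P = _
  rw [hz]
  ext r
  rw [Submodule.mem_colon_singleton, Submodule.mem_bot, Submodule.mem_colon_singleton,
    Submodule.mem_bot]
  constructor
  · intro h
    exact congrArg Subtype.val h
  · intro h
    exact Subtype.ext h

section Core

variable (δ : PrimeSpectrum A → ℤ) (h2 : ∀ p q : PrimeSpectrum A, p ⋖ q → δ p = δ q + 1)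

/-- the induction predicate: the annihilator primes of `𝔞 • N` have `δ ≤ n` -/
def QPa (N : Type v) [AddCommGroup N] [Module A N] (n : ℤ) (𝔞 : Ideal A) : Prop :=
  ∀ y ∈ 𝔞 • (⊤ : Submodule A N), ∀ P : PrimeSpectrum A,
    P.asIdeal = (⊥ : Submodule A N).colon {y} → δ P ≤ n

omit [IsNoetherianRing A] in
lemma mem_smul_top_of_mem_mul {N : Type v} [AddCommGroup N] [Module A N] (𝔞 𝔟 : Ideal A) {y : N}
    (hy : y ∈ (𝔞 * 𝔟) • (⊤ : Submodule A N)) : y ∈ 𝔞 • (⊤ : Submodule A N) :=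
  (Submodule.smul_mono_left (N := (⊤ : Submodule A N))
    (Ideal.mul_le_left : 𝔞 * 𝔟 ≤ 𝔞)) hy

omit [IsNoetherianRing A] in
lemma smul_top_le_of_forall {N : Type v} [AddCommGroup N] [Module A N] (𝔞 𝔟 𝔠 : Ideal A)
    (K : Submodule A N)
    (h : ∀ a ∈ 𝔞, ∀ b ∈ 𝔟, ∀ c ∈ 𝔠, ∀ x : N, (b * c) • a • x ∈ K) :
    (𝔞 * (𝔟 * 𝔠)) • (⊤ : Submodule A N) ≤ K := by
  rw [Submodule.smul_le]
  intro r hr x _
  have hle1 : 𝔞 * (𝔟 * 𝔠) ≤ K.colon {x} := by
    rw [Ideal.mul_le]
    intro a ha r' hr'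
    rw [Submodule.mem_colon_singleton]
    have hle2 : 𝔟 * 𝔠 ≤ K.colon {a • x} := by
      rw [Ideal.mul_le]
      intro b hb c hc
      rw [Submodule.mem_colon_singleton]
      exact h a ha b hb c hc x
    have h3 := hle2 hr'
    rw [Submodule.mem_colon_singleton] at h3
    rw [mul_comm, mul_smul]
    exact h3
  exact Submodule.mem_colon_singleton.mp (hle1 hr)

include h2 in
/-- the abstract induction step -/
theorem ass_core {N : Type v} [AddCommGroup N] [Module A N] (n : ℤ) (𝔞 𝔟 𝔠 : Ideal A)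
    (hQ : QPa δ N n 𝔞)
    (hmain : ∀ P : PrimeSpectrum A, δ P = n →
      (∃ y : N, P.asIdeal = (⊥ : Submodule A N).colon {y}) →
      ∀ x'' : N, (∃ k : ℕ, ∀ r ∈ P.asIdeal ^ k, r • x'' = 0) →
      ∀ b ∈ 𝔟, ∀ c ∈ 𝔠, ∃ s, s ∉ P.asIdeal ∧ s • (b * c) • x'' = 0) :
    QPa δ N (n - 1) (𝔞 * (𝔟 * 𝔠)) := by
  intro y hy P hPy
  have hyle := mem_smul_top_of_mem_mul 𝔞 (𝔟 * 𝔠) hy
  have h1' := hQ y hyle P hPy
  by_contra hlt
  have hδ : δ P = n := by omega
  haveI := P.isPrime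
  have hsub : (𝔞 * (𝔟 * 𝔠)) • (⊤ : Submodule A N) ≤ locKer P.asIdeal N := by
    refine smul_top_le_of_forall 𝔞 𝔟 𝔠 _ (fun a ha b hb c hc x => ?_)
    have hx' : a • x ∈ 𝔞 • (⊤ : Submodule A N) := Submodule.smul_mem_smul ha Submodule.mem_top
    obtain ⟨s₁, hs₁, k, hk⟩ := claimA δ h2 (a • x) P (fun r P' hP' => by
      rw [hδ]
      exact hQ (r • a • x) (Submodule.smul_mem _ r hx') P' hP')
    obtain ⟨s₂, hs₂, h⟩ := hmain P hδ ⟨y, hPy⟩ (s₁ • a • x) ⟨k, hk⟩ b hb c hc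
    refine ⟨s₂ * s₁, fun hmem => (P.isPrime.mem_or_mem hmem).elim hs₂ hs₁, ?_⟩
    have e1 : (s₂ * s₁) • (b * c) • a • x = s₂ • (b * c) • s₁ • a • x := by
      simp only [smul_smul]
      congr 1
      ring
    rw [e1, h]
  obtain ⟨s, hs, hsy⟩ := hsub hy
  apply hs
  show s ∈ P.asIdeal
  rw [hPy, Submodule.mem_colon_singleton, hsy]
  exact Submodule.zero_mem _

/-- the end of the induction -/
theorem ass_final {N : Type v} [AddCommGroup N] [Module A N] (n : ℤ) (𝔞 : Ideal A)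
    (hQ : QPa δ N n 𝔞) (hn : ∀ P : PrimeSpectrum A, n < δ P) :
    ∀ a ∈ 𝔞, ∀ x : N, a • x = 0 := by
  have hbot : 𝔞 • (⊤ : Submodule A N) = ⊥ := by
    by_contra hne
    obtain ⟨y, hy, P, hP⟩ := exists_prime_ann _ hne
    have := hQ y hy P hP
    have := hn P
    omega
  intro a ha x
  have : a • x ∈ 𝔞 • (⊤ : Submodule A N) := Submodule.smul_mem_smul ha Submodule.mem_top
  rw [hbot] at this
  exact this

include h2 in
/-- the descending induction on the values of `δ` -/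
theorem ass_induction {N : Type v} [AddCommGroup N] [Module A N] (T' : Set (PrimeSpectrum A))
    (lo hi : ℤ) (hb : ∀ P : PrimeSpectrum A, lo ≤ δ P ∧ δ P ≤ hi) (𝔟 : Ideal A)
    (h𝔟 : PrimeSpectrum.zeroLocus (𝔟 : Set A) ⊆ T')
    (hstep : ∀ n : ℤ, ∃ 𝔠 : Ideal A, PrimeSpectrum.zeroLocus (𝔠 : Set A) ⊆ T' ∧
      ∀ P : PrimeSpectrum A, δ P = n →
      (∃ y : N, P.asIdeal = (⊥ : Submodule A N).colon {y}) →
      ∀ x'' : N, (∃ k : ℕ, ∀ r ∈ P.asIdeal ^ k, r • x'' = 0) →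
      ∀ b ∈ 𝔟, ∀ c ∈ 𝔠, ∃ s, s ∉ P.asIdeal ∧ s • (b * c) • x'' = 0) :
    ∃ 𝔞 : Ideal A, PrimeSpectrum.zeroLocus (𝔞 : Set A) ⊆ T' ∧ ∀ a ∈ 𝔞, ∀ x : N, a • x = 0 := by
  have key : ∀ k : ℕ, ∃ 𝔞 : Ideal A, PrimeSpectrum.zeroLocus (𝔞 : Set A) ⊆ T' ∧
      QPa δ N (hi - k) 𝔞 := by
    intro k
    induction k with
    | zero =>
      refine ⟨⊤, zeroLocus_top_subset T', fun y _ P _ => ?_⟩
      have := (hb P).2
      simpa using this
    | succ k ih =>
      obtain ⟨𝔞, h𝔞, hQ⟩ := ih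
      obtain ⟨𝔠, h𝔠, hmain⟩ := hstep (hi - k)
      refine ⟨𝔞 * (𝔟 * 𝔠), zeroLocus_mul_subset T' h𝔞 (zeroLocus_mul_subset T' h𝔟 h𝔠), ?_⟩
      have := ass_core δ h2 (hi - k) 𝔞 𝔟 𝔠 hQ hmain
      have e : hi - ((k + 1 : ℕ) : ℤ) = hi - k - 1 := by push_cast; ring
      rw [e]
      exact this
  obtain ⟨𝔞, h𝔞, hQ⟩ := key (hi - lo + 1).toNat
  refine ⟨𝔞, h𝔞, ass_final δ _ 𝔞 hQ (fun P => ?_)⟩
  have := (hb P).1
  have := (hb P).2
  omega

end Core


end Groth.Agent.Lib.Helper14.Falt
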