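import Mathlib
import Groth.Agent.Lib.Helper5LocDI

/-!
# Supports of `Ext^{-j}(M, ω)` and depth (helper5)

`support_ext_iff`: over a Noetherian local ring with normalized dualizing complex `ω`, a prime `p`
lies in the support of one of `Hom(M, ω[-j])`, `j ≤ i`, iff `depth M_p + dim A/p ≤ i`.
-/

set_option autoImplicit false
universe u
open CategoryTheory CategoryTheory.Limits
attribute [local instance] HasDerivedCategory.standard

namespace Groth.Agent.Lib.Helper5.LocD

open DerivedCategory Groth.Agent.Lib.Helper1.Extend Groth.Agent.Lib.Helper5.BiDual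
open Groth.Agent.Lib.Helper5.DualLocal Groth.Agent.Lib.Helper5.DualMin
open Groth.Agent.Lib.Helper5.DualDim Groth.Agent.Lib.Helper5.NormDual

variable {A : Type u} [CommRing A] [IsNoetherianRing A]

/-- the dimension function of a normalized dualizing complex vanishes at the closed point. -/
lemma delta_closedPoint_eq_zero [IsLocalRing A] (ω : Dual.D A)
    (hn : Dual.IsNormalized A ω) (δ : PrimeSpectrum A → ℤ)
    (h1 : ∀ (p : PrimeSpectrum A) (i : ℤ),
      Nontrivial (LocalizedModule p.asIdeal.primeCompl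
        (Dual.inD A (A ⧸ p.asIdeal) ⟶ ω⟦i⟧)) ↔ i = -δ p) :
    δ (IsLocalRing.closedPoint A) = 0 := by
  by_contra hne
  have hnt := (h1 (IsLocalRing.closedPoint A) (-δ (IsLocalRing.closedPoint A))).mpr rfl
  have hne' : -δ (IsLocalRing.closedPoint A) ≠ 0 := by lia
  have hs : Subsingleton (Dual.inD A (A ⧸ (IsLocalRing.closedPoint A).asIdeal) ⟶
      ω⟦-δ (IsLocalRing.closedPoint A)⟧) := hn _ hne'
  exact not_subsingleton _ (inferInstance : Subsingleton (LocalizedModule
    (IsLocalRing.closedPoint A).asIdeal.primeCompl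
    (Dual.inD A (A ⧸ (IsLocalRing.closedPoint A).asIdeal) ⟶
      ω⟦-δ (IsLocalRing.closedPoint A)⟧)))

/-- `LZ` for `A/p` away from the distinguished degree. -/
lemma LZ_quot_of_ne (ω : Dual.D A) (δ : PrimeSpectrum A → ℤ)
    (h1 : ∀ (p : PrimeSpectrum A) (i : ℤ),
      Nontrivial (LocalizedModule p.asIdeal.primeCompl
        (Dual.inD A (A ⧸ p.asIdeal) ⟶ ω⟦i⟧)) ↔ i = -δ p)
    (p : PrimeSpectrum A) (i : ℤ) (hi : i ≠ -δ p) :
    LZ ω p.asIdeal i (Dual.inD A (A ⧸ p.asIdeal)) := by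
  by_contra hcon
  exact hi ((h1 p i).mp ((Module.mem_support_iff).mp ((mem_support_hom_iff ω p _ i).mpr hcon)))

theorem support_ext_iff [IsLocalRing A] (ω : Dual.D A) (hω : Dual.IsDualizing A ω)
    (hn : Dual.IsNormalized A ω) (M : Type u) [AddCommGroup M] [Module A M]
    [Module.Finite A M] (i : ℕ) (p : PrimeSpectrum A) :
    (∃ j : ℕ, j ≤ i ∧ p ∈ Module.support A (Dual.inD A M ⟶ ω⟦(-(j : ℤ))⟧)) ↔
      ((LocCoh.depth (Localization.AtPrime p.asIdeal)
        (LocalizedModule p.asIdeal.primeCompl M) : ℕ∞) : WithBot ℕ∞) +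
        ringKrullDim (A ⧸ p.asIdeal) ≤ (i : WithBot ℕ∞) := by
  obtain ⟨δ, h1, h2⟩ := Groth.Agent.Lib.Helper5.DualDim.main A ω hω
  have h0 := delta_closedPoint_eq_zero ω hn δ h1
  have hnn := delta_nonneg δ h2 h0 p
  obtain ⟨dp, hdp⟩ := Int.eq_ofNat_of_zero_le hnn
  have hdim : ringKrullDim (A ⧸ p.asIdeal) = ((dp : ℕ∞) : WithBot ℕ∞) := by
    rw [ringKrullDim_quotient_eq δ h2 h0 p, hdp]
    simp
  have hd : ∀ j : ℤ, j ≠ -(dp : ℤ) → LZ ω p.asIdeal j (Dual.inD A (A ⧸ p.asIdeal)) :=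
    fun j hj => LZ_quot_of_ne ω δ h1 p j (by rw [hdp]; exact hj)
  have hdepth : LocCoh.depth (Localization.AtPrime p.asIdeal)
      (LocalizedModule p.asIdeal.primeCompl M) =
      LocCoh.depth (Localization.AtPrime p.asIdeal)
        (TensorProduct A (Localization.AtPrime p.asIdeal) M) :=
    Groth.Agent.Lib.Helper28.idealDepth_congr
      (LocalizedModule.equivTensorProduct p.asIdeal.primeCompl M) _
  have hsupp : ∀ j : ℕ, p ∈ Module.support A (Dual.inD A M ⟶ ω⟦(-(j : ℤ))⟧) ↔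
      ¬ LZ ω p.asIdeal (-(j : ℤ)) (Dual.inD A M) := fun j => mem_support_hom_iff ω p _ _
  rw [hdepth, hdim]
  by_cases hsub : Subsingleton (TensorProduct A (Localization.AtPrime p.asIdeal) M)
  · have htop : LocCoh.depth (Localization.AtPrime p.asIdeal)
        (TensorProduct A (Localization.AtPrime p.asIdeal) M) = ⊤ :=
      Groth.Agent.Lib.Helper28.idealDepth_eq_top_of_smul_top_eq_top _ _ (Subsingleton.elim _ _)
    rw [htop]
    constructor
    · rintro ⟨j, -, hj⟩
      exact absurd (LZ_of_subsingleton ω hω p.asIdeal M hsub _) ((hsupp j).mp hj)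
    · intro h
      exfalso
      have h3 : ((⊤ : ℕ∞) : WithBot ℕ∞) + ((dp : ℕ∞) : WithBot ℕ∞) =
          (((⊤ : ℕ∞) + (dp : ℕ∞) : ℕ∞) : WithBot ℕ∞) := (WithBot.coe_add _ _).symm
      rw [h3, top_add] at h
      have h4 : ((⊤ : ℕ∞) : WithBot ℕ∞) ≤ (((i : ℕ) : ℕ∞) : WithBot ℕ∞) := h
      rw [WithBot.coe_le_coe, top_le_iff] at h4
      exact ENat.natCast_ne_top i h4
  · rw [not_subsingleton_iff_nontrivial] at hsub
    haveI := hsub
    haveI : IsNoetherianRing (Localization.AtPrime p.asIdeal) :=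
      IsLocalization.isNoetherianRing p.asIdeal.primeCompl _ inferInstance
    have hIM : IsLocalRing.maximalIdeal (Localization.AtPrime p.asIdeal) •
        (⊤ : Submodule (Localization.AtPrime p.asIdeal)
          (TensorProduct A (Localization.AtPrime p.asIdeal) M)) ≠ ⊤ :=
      Groth.Agent.Lib.Helper5.maximalIdeal_smul_top_ne_top
    have hne : LocCoh.depth (Localization.AtPrime p.asIdeal)
        (TensorProduct A (Localization.AtPrime p.asIdeal) M) ≠ ⊤ :=
      Groth.Agent.Lib.Helper28.idealDepth_ne_top hIM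
    obtain ⟨k, hk⟩ := ENat.ne_top_iff_exists.mp hne
    obtain ⟨k1, k2⟩ := (depth_tensor_eq_iff ω hω p.asIdeal (-(dp : ℤ)) hd M k).mp hk.symm
    rw [← hk]
    have hiff : (((k : ℕ∞) : WithBot ℕ∞) + ((dp : ℕ∞) : WithBot ℕ∞) ≤ (i : WithBot ℕ∞)) ↔
        k + dp ≤ i := by
      have h3 : ((k : ℕ∞) : WithBot ℕ∞) + ((dp : ℕ∞) : WithBot ℕ∞) =
          (((k + dp : ℕ) : ℕ∞) : WithBot ℕ∞) := by push_cast; rfl
      rw [h3]
      have h4 : (i : WithBot ℕ∞) = (((i : ℕ) : ℕ∞) : WithBot ℕ∞) := rfl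
      rw [h4, WithBot.coe_le_coe, Nat.cast_le]
    rw [hiff]
    constructor
    · rintro ⟨j, hji, hj⟩
      have hj' := (hsupp j).mp hj
      by_contra hlt
      have hjlt : j < k + dp := by lia
      by_cases hdj : dp ≤ j
      · apply hj'
        have := k1 (j - dp) (by lia)
        rwa [show -(dp : ℤ) - ((j - dp : ℕ) : ℤ) = -(j : ℤ) by
          rw [Nat.cast_sub hdj]; ring] at this
      · exact hj' (LZ_of_gt ω hω p.asIdeal (-(dp : ℤ)) hd M _ (by lia))
    · intro h
      refine ⟨k + dp, h, (hsupp _).mpr ?_⟩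
      rwa [show -(((k + dp : ℕ)) : ℤ) = -(dp : ℤ) - (k : ℤ) by push_cast; ring]

end Groth.Agent.Lib.Helper5.LocD
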