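import Mathlib
import Groth.Agent.Lib.Helper5LocDJ
import Groth.Agent.Lib.Helper28DepthCM

/-!
# The Cohen–Macaulay locus of a finite module (helper5)

`A` is a Noetherian ring with a dualizing complex `ω` and `M` a finite module.
* `cm_iff_LZ`: for `q ∈ Supp M`, `M_q` is Cohen–Macaulay iff `Hom(M, ω[j])_q` is nonzero for at
  most one `j`.
* `cm_locus_module`: the set of `q` with `M_q = 0` or `M_q` Cohen–Macaulay is open, and the
  Cohen–Macaulay points of `Supp M` are dense in `Supp M`.
-/

set_option autoImplicit false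
universe u
open CategoryTheory CategoryTheory.Limits
attribute [local instance] HasDerivedCategory.standard

namespace Groth.Agent.Lib.Helper5.LocD

open DerivedCategory Groth.Agent.Lib.Helper1.Extend Groth.Agent.Lib.Helper5.BiDual
open Groth.Agent.Lib.Helper5.DualLocal Groth.Agent.Lib.Helper5.DualMin
open Groth.Agent.Lib.Helper5.DualDim Groth.Agent.Lib.Helper5.NormDual

variable {A : Type u} [CommRing A] [IsNoetherianRing A]

section Delta

variable (δ : PrimeSpectrum A → ℤ)
  (h2 : ∀ p q : PrimeSpectrum A, p ⋖ q → δ p = δ q + 1)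

include h2 in
lemma delta_chain (s : LTSeries (PrimeSpectrum A)) : δ s.last + s.length ≤ δ s.head := by
  have key : ∀ (i : ℕ) (hi : i < s.length + 1),
      δ (s ⟨i, hi⟩) + (i : ℤ) ≤ δ (s ⟨0, by lia⟩) := by
    intro i
    induction i with
    | zero => intro hi; simp
    | succ k ih =>
      intro hi
      have h3 := ih (by lia)
      have hlt : s ⟨k, by lia⟩ < s ⟨k + 1, hi⟩ := s.strictMono (by simp [Fin.lt_def])
      have h4 := delta_anti δ h2 _ _ hlt
      push_cast
      lia
  have := key s.length (by lia)
  exact this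

end Delta

section Main

variable (ω : Dual.D A) (hω : Dual.IsDualizing A ω) (δ : PrimeSpectrum A → ℤ)
  (h1 : ∀ (p : PrimeSpectrum A) (i : ℤ),
    Nontrivial (LocalizedModule p.asIdeal.primeCompl
      (Dual.inD A (A ⧸ p.asIdeal) ⟶ ω⟦i⟧)) ↔ i = -δ p)
  (h2 : ∀ p q : PrimeSpectrum A, p ⋖ q → δ p = δ q + 1)
  (M : Type u) [AddCommGroup M] [Module A M] [Module.Finite A M]

lemma nontrivial_tensor_of_mem_support (q : PrimeSpectrum A) (hq : q ∈ Module.support A M) :
    Nontrivial (TensorProduct A (Localization.AtPrime q.asIdeal) M) := by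
  haveI : Nontrivial (LocalizedModule q.asIdeal.primeCompl M) := Module.mem_support_iff.mp hq
  exact (LocalizedModule.equivTensorProduct q.asIdeal.primeCompl M).injective.nontrivial

lemma supportDim_tensor_eq_height (q : PrimeSpectrum A) (hq : q ∈ Module.support A M) :
    Module.supportDim (Localization.AtPrime q.asIdeal)
      (TensorProduct A (Localization.AtPrime q.asIdeal) M) =
      ((Order.height (⟨q, hq⟩ : Module.support A M) : ℕ∞) : WithBot ℕ∞) := by
  rw [← Groth.Agent.Lib.Helper28.supportDim_localization_eq_height q.asIdeal M hq]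
  exact (Module.supportDim_eq_of_equiv
    (LocalizedModule.equivTensorProduct q.asIdeal.primeCompl M)).symm

lemma height_ne_top (q : PrimeSpectrum A) (hq : q ∈ Module.support A M) :
    Order.height (⟨q, hq⟩ : Module.support A M) ≠ ⊤ := by
  intro htop
  have h3 := supportDim_tensor_eq_height M q hq
  rw [htop] at h3
  have h4 := Module.supportDim_le_ringKrullDim (R := Localization.AtPrime q.asIdeal)
    (M := TensorProduct A (Localization.AtPrime q.asIdeal) M)
  rw [h3] at h4
  haveI : IsNoetherianRing (Localization.AtPrime q.asIdeal) :=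
    IsLocalization.isNoetherianRing q.asIdeal.primeCompl _ inferInstance
  have h5 : ringKrullDim (Localization.AtPrime q.asIdeal) < ⊤ := ringKrullDim_lt_top
  exact absurd (lt_of_le_of_lt h4 h5) (by simp)

include hω h1 in
/-- vanishing below the dimension -/
theorem LZ_of_lt_dim (q : PrimeSpectrum A) (hq : q ∈ Module.support A M) (e : ℕ)
    (he : Order.height (⟨q, hq⟩ : Module.support A M) = e) (j : ℤ) (hj : j < -δ q - e) :
    LZ ω q.asIdeal j (Dual.inD A M) := by
  have hd : ∀ i : ℤ, i ≠ -δ q → LZ ω q.asIdeal i (Dual.inD A (A ⧸ q.asIdeal)) :=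
    fun i hi => LZ_quot_of_ne ω δ h1 q i hi
  have hB := isDualizing_extD q.asIdeal.primeCompl (Localization.AtPrime q.asIdeal) ω hω
  haveI := hB.isNoetherianRing
  have hB' := isDualizing_shift hB (-δ q)
  have hn := isNormalized_extD_shift ω hω q.asIdeal (-δ q) hd
  have hdim : Module.supportDim (Localization.AtPrime q.asIdeal)
      (TensorProduct A (Localization.AtPrime q.asIdeal) M) < ((e + 1 : ℕ) : WithBot ℕ∞) := by
    rw [supportDim_tensor_eq_height M q hq, he]
    exact natCast_lt_succ e
  have h3 := (forall_eq_zero_shift_iff_LZ ω hω q.asIdeal (-δ q) M (j - -δ q)).mp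
    (fun g => vanish_above_dim _ hB' hn (TensorProduct A (Localization.AtPrime q.asIdeal) M)
      (e + 1) hdim (j - -δ q) (by push_cast; lia) g)
  rwa [show -δ q + (j - -δ q) = j by ring] at h3

include hω h1 in
/-- the depth of `M_q`, read off from `LZ` -/
theorem depth_facts (q : PrimeSpectrum A) (hq : q ∈ Module.support A M) (k : ℕ)
    (hk : LocCoh.depth (Localization.AtPrime q.asIdeal)
      (TensorProduct A (Localization.AtPrime q.asIdeal) M) = k) :
    (∀ δ' : ℕ, δ' < k → LZ ω q.asIdeal (-δ q - δ') (Dual.inD A M)) ∧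
      ¬ LZ ω q.asIdeal (-δ q - k) (Dual.inD A M) := by
  haveI := nontrivial_tensor_of_mem_support M q hq
  exact (depth_tensor_eq_iff ω hω q.asIdeal (-δ q)
    (fun i hi => LZ_quot_of_ne ω δ h1 q i hi) M k).mp hk

lemma depth_tensor_ne_top (q : PrimeSpectrum A) (hq : q ∈ Module.support A M) :
    LocCoh.depth (Localization.AtPrime q.asIdeal)
      (TensorProduct A (Localization.AtPrime q.asIdeal) M) ≠ ⊤ := by
  haveI := nontrivial_tensor_of_mem_support M q hq
  haveI : IsNoetherianRing (Localization.AtPrime q.asIdeal) :=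
    IsLocalization.isNoetherianRing q.asIdeal.primeCompl _ inferInstance
  have hIM : IsLocalRing.maximalIdeal (Localization.AtPrime q.asIdeal) •
      (⊤ : Submodule (Localization.AtPrime q.asIdeal)
        (TensorProduct A (Localization.AtPrime q.asIdeal) M)) ≠ ⊤ :=
    Groth.Agent.Lib.Helper5.maximalIdeal_smul_top_ne_top
  exact Groth.Agent.Lib.Helper28.idealDepth_ne_top hIM

include hω h1 h2 in
/-- non-vanishing at the dimension -/
theorem not_LZ_at_dim (q : PrimeSpectrum A) (hq : q ∈ Module.support A M) (e : ℕ)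
    (he : Order.height (⟨q, hq⟩ : Module.support A M) = e) :
    ¬ LZ ω q.asIdeal (-δ q - e) (Dual.inD A M) := by
  obtain ⟨s, hlast, hlen⟩ := Order.exists_series_of_height_eq_coe _ he
  -- the head of the chain is minimal in the support
  have hmin : IsMin s.head := by
    intro x hx
    by_contra hnot
    have hlt : x < s.head := lt_of_le_not_ge hx hnot
    have h3 : ((s.cons x hlt).length : ℕ∞) ≤ Order.height (s.cons x hlt).last :=
      Order.length_le_height_last
    rw [RelSeries.last_cons, hlast, he, RelSeries.cons_length, hlen] at h3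
    have h4 : e + 1 ≤ e := by exact_mod_cast h3
    lia
  have hr : (s.head).1 ∈ Module.support A M := (s.head).2
  -- depth zero at the head
  have hh0 : Order.height (⟨(s.head).1, hr⟩ : Module.support A M) = ((0 : ℕ) : ℕ∞) := by
    rw [Nat.cast_zero, Order.height_eq_zero]
    exact hmin
  haveI := nontrivial_tensor_of_mem_support M (s.head).1 hr
  haveI : IsNoetherianRing (Localization.AtPrime (s.head).1.asIdeal) :=
    IsLocalization.isNoetherianRing (s.head).1.asIdeal.primeCompl _ inferInstance
  have hdep0 : LocCoh.depth (Localization.AtPrime (s.head).1.asIdeal)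
      (TensorProduct A (Localization.AtPrime (s.head).1.asIdeal) M) = ((0 : ℕ) : ℕ∞) := by
    have h3 := Groth.Agent.Lib.Helper28.depth_le_supportDim
      (R := Localization.AtPrime (s.head).1.asIdeal)
      (M := TensorProduct A (Localization.AtPrime (s.head).1.asIdeal) M)
    rw [supportDim_tensor_eq_height M (s.head).1 hr, hh0, WithBot.coe_le_coe] at h3
    exact le_antisymm h3 bot_le
  have hnz := (depth_facts ω hω δ h1 M (s.head).1 hr 0 hdep0).2
  rw [Nat.cast_zero, sub_zero] at hnz
  -- transport to `q`
  have hle : (s.head).1 ≤ q := by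
    have h3 : s.head ≤ s.last := LTSeries.head_le_last s
    rw [hlast] at h3
    exact h3
  have hnzq : ¬ LZ ω q.asIdeal (-δ (s.head).1) (Dual.inD A M) :=
    fun h => hnz (LZ.mono hle h)
  -- the chain bounds the dimension function
  have hchain := delta_chain δ h2 (s.map Subtype.val (fun _ _ h => h))
  rw [LTSeries.last_map, LTSeries.head_map, hlast] at hchain
  have hlen' : (s.map Subtype.val (fun _ _ h => h)).length = e := hlen
  rw [hlen'] at hchain
  -- compare
  have hge : -δ q - e ≤ -δ (s.head).1 := by
    by_contra hlt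
    exact hnzq (LZ_of_lt_dim ω hω δ h1 M q hq e he _ (by lia))
  have heq : -δ (s.head).1 = -δ q - e := by
    have : δ q + (e : ℤ) ≤ δ (s.head).1 := hchain
    lia
  rwa [heq] at hnzq

include hω h1 h2 in
theorem cm_iff_LZ (q : PrimeSpectrum A) (hq : q ∈ Module.support A M) :
    LocCoh.IsCohenMacaulayModule (Localization.AtPrime q.asIdeal)
      (LocalizedModule q.asIdeal.primeCompl M) ↔
      ∃ j₀ : ℤ, ∀ j : ℤ, j ≠ j₀ → LZ ω q.asIdeal j (Dual.inD A M) := by
  obtain ⟨e, he⟩ := ENat.ne_top_iff_exists.mp (height_ne_top M q hq)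
  obtain ⟨k, hk⟩ := ENat.ne_top_iff_exists.mp (depth_tensor_ne_top M q hq)
  obtain ⟨k1, k2⟩ := depth_facts ω hω δ h1 M q hq k hk.symm
  have e2 := not_LZ_at_dim ω hω δ h1 h2 M q hq e he.symm
  have hcm : LocCoh.IsCohenMacaulayModule (Localization.AtPrime q.asIdeal)
      (LocalizedModule q.asIdeal.primeCompl M) ↔ e = k := by
    unfold LocCoh.IsCohenMacaulayModule
    rw [Groth.Agent.Lib.Helper28.supportDim_localization_eq_height q.asIdeal M hq, ← he]
    have hdepth : LocCoh.depth (Localization.AtPrime q.asIdeal)
        (LocalizedModule q.asIdeal.primeCompl M) =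
        LocCoh.depth (Localization.AtPrime q.asIdeal)
          (TensorProduct A (Localization.AtPrime q.asIdeal) M) :=
      Groth.Agent.Lib.Helper28.idealDepth_congr
        (LocalizedModule.equivTensorProduct q.asIdeal.primeCompl M) _
    rw [hdepth, ← hk]
    constructor
    · intro h
      have h3 : ((e : ℕ) : ℕ∞) = ((k : ℕ) : ℕ∞) := WithBot.coe_injective h
      exact Nat.cast_injective h3
    · intro h
      rw [h]
  rw [hcm]
  constructor
  · intro hek
    subst hek
    refine ⟨-δ q - e, fun j hj => ?_⟩
    rcases lt_trichotomy j (-δ q - e) with hlt | heq | hgt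
    · exact LZ_of_lt_dim ω hω δ h1 M q hq e he.symm j hlt
    · exact absurd heq hj
    · by_cases hjd : j ≤ -δ q
      · have h3 := k1 (-δ q - j).toNat (by lia)
        rwa [show -δ q - ((-δ q - j).toNat : ℤ) = j by
          rw [Int.toNat_of_nonneg (by lia)]; ring] at h3
      · exact LZ_of_gt ω hω q.asIdeal (-δ q) (fun i hi => LZ_quot_of_ne ω δ h1 q i hi) M j
          (by lia)
  · rintro ⟨j₀, hj₀⟩
    have h3 : -δ q - (k : ℤ) = j₀ := by
      by_contra hne
      exact k2 (hj₀ _ hne)
    have h4 : -δ q - (e : ℤ) = j₀ := by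
      by_contra hne
      exact e2 (hj₀ _ hne)
    lia

end Main

theorem cm_locus_module (hA : ∃ ω : Dual.D A, Dual.IsDualizing A ω) (M : Type u)
    [AddCommGroup M] [Module A M] [Module.Finite A M] :
    IsOpen {p : PrimeSpectrum A | Subsingleton (LocalizedModule p.asIdeal.primeCompl M) ∨
      LocCoh.IsCohenMacaulayModule (Localization.AtPrime p.asIdeal)
        (LocalizedModule p.asIdeal.primeCompl M)} ∧
    Module.support A M ⊆ closure ({p : PrimeSpectrum A |
      LocCoh.IsCohenMacaulayModule (Localization.AtPrime p.asIdeal)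
        (LocalizedModule p.asIdeal.primeCompl M)} ∩ Module.support A M) := by
  obtain ⟨ω, hω⟩ := hA
  obtain ⟨δ, h1, h2⟩ := Groth.Agent.Lib.Helper5.DualDim.main A ω hω
  obtain ⟨a, b, hab⟩ := hω.finite_injective_dimension
  have hLZout : ∀ (q : PrimeSpectrum A) (j : ℤ), (j < a ∨ b < j) →
      LZ ω q.asIdeal j (Dual.inD A M) := by
    intro q j hj t
    haveI := hab M j hj
    exact ⟨1, fun h => q.isPrime.ne_top ((Ideal.eq_top_iff_one _).mpr h),
      Subsingleton.elim _ _⟩
  constructor
  · rw [isOpen_iff_forall_mem_open]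
    intro p hp
    by_cases hpM : p ∈ Module.support A M
    · have hcm : LocCoh.IsCohenMacaulayModule (Localization.AtPrime p.asIdeal)
          (LocalizedModule p.asIdeal.primeCompl M) := by
        rcases hp with hsub | hcm
        · exact absurd hsub (not_subsingleton_iff_nontrivial.mpr (Module.mem_support_iff.mp hpM))
        · exact hcm
      obtain ⟨j₀, hj₀⟩ := (cm_iff_LZ ω hω δ h1 h2 M p hpM).mp hcm
      refine ⟨⋂ j ∈ (Finset.Icc a b).erase j₀,
        (Module.support A (Dual.inD A M ⟶ ω⟦j⟧))ᶜ, ?_, ?_, ?_⟩
      · intro q hq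
        by_cases hqM : q ∈ Module.support A M
        · right
          refine (cm_iff_LZ ω hω δ h1 h2 M q hqM).mpr ⟨j₀, fun j hj => ?_⟩
          by_cases hjab : j ∈ Finset.Icc a b
          · have h3 := Set.mem_iInter₂.1 hq j (Finset.mem_erase.2 ⟨hj, hjab⟩)
            by_contra hcon
            exact h3 ((mem_support_hom_iff ω q _ j).mpr hcon)
          · exact hLZout q j (by
              simp only [Finset.mem_Icc, not_and_or, not_le] at hjab
              exact hjab)
        · left
          exact Module.notMem_support_iff.mp hqM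
      · apply isOpen_biInter_finset
        intro j _
        haveI : Module.Finite A (Dual.inD A M ⟶ ω⟦j⟧) := finite_ext ω hω M j
        exact (Module.isClosed_support (R := A) (M := (Dual.inD A M ⟶ ω⟦j⟧))).isOpen_compl
      · refine Set.mem_iInter₂.2 fun j hj => ?_
        intro hmem
        exact (mem_support_hom_iff ω p _ j).mp hmem (hj₀ j (Finset.mem_erase.1 hj).1)
    · refine ⟨(Module.support A M)ᶜ, fun q hq => Or.inl (Module.notMem_support_iff.mp hq),
        (Module.isClosed_support (R := A) (M := M)).isOpen_compl, hpM⟩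
  · intro p hpM
    have hann : Module.annihilator A M ≤ p.asIdeal := by
      rw [Module.support_eq_zeroLocus, PrimeSpectrum.mem_zeroLocus] at hpM
      exact hpM
    obtain ⟨r, hr, hrp⟩ := Ideal.exists_minimalPrimes_le hann
    haveI hrprime : r.IsPrime := hr.1.1
    have hrM : (⟨r, hrprime⟩ : PrimeSpectrum A) ∈ Module.support A M := by
      rw [Module.support_eq_zeroLocus, PrimeSpectrum.mem_zeroLocus]
      exact hr.1.2
    have hmin : IsMin (⟨⟨r, hrprime⟩, hrM⟩ : Module.support A M) := by
      rintro ⟨x1, hx1⟩ hx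
      have hxM : Module.annihilator A M ≤ x1.asIdeal := by
        have h5 := hx1
        rw [Module.support_eq_zeroLocus, PrimeSpectrum.mem_zeroLocus] at h5
        exact h5
      exact hr.2 ⟨x1.isPrime, hxM⟩ hx
    have hh0 : Order.height (⟨⟨r, hrprime⟩, hrM⟩ : Module.support A M) = 0 :=
      Order.height_eq_zero.mpr hmin
    haveI : Nontrivial (LocalizedModule r.primeCompl M) := Module.mem_support_iff.mp hrM
    haveI : IsNoetherianRing (Localization.AtPrime r) :=
      IsLocalization.isNoetherianRing r.primeCompl _ inferInstance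
    have hcm : LocCoh.IsCohenMacaulayModule (Localization.AtPrime r)
        (LocalizedModule r.primeCompl M) := by
      unfold LocCoh.IsCohenMacaulayModule
      have h3 := Groth.Agent.Lib.Helper28.depth_le_supportDim (R := Localization.AtPrime r)
        (M := LocalizedModule r.primeCompl M)
      have h4 := Groth.Agent.Lib.Helper28.supportDim_localization_eq_height r M hrM
      rw [hh0] at h4
      rw [h4] at h3 ⊢
      rw [WithBot.coe_le_coe] at h3
      rw [le_antisymm h3 bot_le]
    have hspec : (⟨r, hrprime⟩ : PrimeSpectrum A) ⤳ p :=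
      (PrimeSpectrum.le_iff_specializes _ _).1 hrp
    have hmem : (⟨r, hrprime⟩ : PrimeSpectrum A) ∈ ({p : PrimeSpectrum A |
      LocCoh.IsCohenMacaulayModule (Localization.AtPrime p.asIdeal)
        (LocalizedModule p.asIdeal.primeCompl M)} ∩ Module.support A M) := ⟨hcm, hrM⟩
    exact closure_mono (Set.singleton_subset_iff.2 hmem) (specializes_iff_mem_closure.1 hspec)

end Groth.Agent.Lib.Helper5.LocD
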