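import Mathlib
import Groth.Agent.Lib.Helper5LocDK
import Groth.Agent.Lib.Helper5CodepthOpen

/-!
# Serre's conditions `(S_k)` via a dualizing complex (helper5)

`A` is a Noetherian ring with a dualizing complex `ω` and dimension function `δ`, `M` a finite
module, `E^j = Hom(M, ω[j])`.
* `profile`: for `q ∈ Supp M` the set of `j` with `q ∈ Supp E^j` lies in
  `[-δ q - dim M_q, -δ q - depth M_q]` and contains both end points.
* `sk_iff_codim`: `(S_k)` for `M` in terms of the sets `Supp E^i ∩ Supp E^j`.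
* `finite_depth_eq`: for `M` with `(S_k)`, finitely many `p` with `depth M_p = k < dim M_p`.
* `isOpen_sk_locus`: the `(S_k)` locus is open.
-/

set_option autoImplicit false
universe u
open CategoryTheory CategoryTheory.Limits
attribute [local instance] HasDerivedCategory.standard

namespace Groth.Agent.Lib.Helper5.LocD

open DerivedCategory Groth.Agent.Lib.Helper1.Extend Groth.Agent.Lib.Helper5.BiDual
open Groth.Agent.Lib.Helper5.DualLocal Groth.Agent.Lib.Helper5.DualMin
open Groth.Agent.Lib.Helper5.DualDim Groth.Agent.Lib.Helper5.NormDual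

section Casts

lemma natCast_le_coe_iff (n e : ℕ) :
    ((n : ℕ) : WithBot ℕ∞) ≤ (((e : ℕ) : ℕ∞) : WithBot ℕ∞) ↔ n ≤ e := by
  rw [← WithBot.coe_natCast, WithBot.coe_le_coe, Nat.cast_le]

lemma natCast_lt_coe_iff (n e : ℕ) :
    ((n : ℕ) : WithBot ℕ∞) < (((e : ℕ) : ℕ∞) : WithBot ℕ∞) ↔ n < e := by
  rw [← WithBot.coe_natCast, WithBot.coe_lt_coe, Nat.cast_lt]

lemma min_natCast_le_coe_iff (k e d : ℕ) :
    min ((k : ℕ) : WithBot ℕ∞) (((e : ℕ) : ℕ∞) : WithBot ℕ∞) ≤ (((d : ℕ) : ℕ∞) : WithBot ℕ∞) ↔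
      min k e ≤ d := by
  rw [min_le_iff, min_le_iff, natCast_le_coe_iff, WithBot.coe_le_coe, Nat.cast_le]

end Casts

section Main

variable {A : Type u} [CommRing A] [IsNoetherianRing A]
variable (ω : Dual.D A) (hω : Dual.IsDualizing A ω) (δ : PrimeSpectrum A → ℤ)
  (h1 : ∀ (p : PrimeSpectrum A) (i : ℤ),
    Nontrivial (LocalizedModule p.asIdeal.primeCompl
      (Dual.inD A (A ⧸ p.asIdeal) ⟶ ω⟦i⟧)) ↔ i = -δ p)
  (h2 : ∀ p q : PrimeSpectrum A, p ⋖ q → δ p = δ q + 1)
  (M : Type u) [AddCommGroup M] [Module A M] [Module.Finite A M]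

include hω in
lemma mem_support_of_mem_support_hom (q : PrimeSpectrum A) (j : ℤ)
    (hq : q ∈ Module.support A (Dual.inD A M ⟶ ω⟦j⟧)) : q ∈ Module.support A M := by
  by_contra hqM
  have hsub : Subsingleton (LocalizedModule q.asIdeal.primeCompl M) :=
    Module.notMem_support_iff.mp hqM
  have hsub' : Subsingleton (TensorProduct A (Localization.AtPrime q.asIdeal) M) :=
    (LocalizedModule.equivTensorProduct q.asIdeal.primeCompl M).symm.injective.subsingleton
  exact (mem_support_hom_iff ω q _ j).mp hq (LZ_of_subsingleton ω hω q.asIdeal M hsub' j)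

include hω h1 h2 in
/-- the range of degrees in which `E^j_q ≠ 0` -/
theorem profile (q : PrimeSpectrum A) (hq : q ∈ Module.support A M) :
    ∃ e d : ℕ, d ≤ e ∧
      Module.supportDim (Localization.AtPrime q.asIdeal)
        (LocalizedModule q.asIdeal.primeCompl M) = (((e : ℕ) : ℕ∞) : WithBot ℕ∞) ∧
      LocCoh.depth (Localization.AtPrime q.asIdeal)
        (LocalizedModule q.asIdeal.primeCompl M) = ((d : ℕ) : ℕ∞) ∧
      Order.height (⟨q, hq⟩ : Module.support A M) = ((e : ℕ) : ℕ∞) ∧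
      (∀ j : ℤ, q ∈ Module.support A (Dual.inD A M ⟶ ω⟦j⟧) → -δ q - e ≤ j ∧ j ≤ -δ q - d) ∧
      q ∈ Module.support A (Dual.inD A M ⟶ ω⟦-δ q - (e : ℤ)⟧) ∧
      q ∈ Module.support A (Dual.inD A M ⟶ ω⟦-δ q - (d : ℤ)⟧) := by
  obtain ⟨e, he⟩ := ENat.ne_top_iff_exists.mp (height_ne_top M q hq)
  obtain ⟨d, hd⟩ := ENat.ne_top_iff_exists.mp (depth_tensor_ne_top M q hq)
  obtain ⟨k1, k2⟩ := depth_facts ω hω δ h1 M q hq d hd.symm
  have e2 := not_LZ_at_dim ω hω δ h1 h2 M q hq e he.symm
  have hdepth : LocCoh.depth (Localization.AtPrime q.asIdeal)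
      (LocalizedModule q.asIdeal.primeCompl M) =
      LocCoh.depth (Localization.AtPrime q.asIdeal)
        (TensorProduct A (Localization.AtPrime q.asIdeal) M) :=
    Groth.Agent.Lib.Helper28.idealDepth_congr
      (LocalizedModule.equivTensorProduct q.asIdeal.primeCompl M) _
  have hsd : Module.supportDim (Localization.AtPrime q.asIdeal)
        (LocalizedModule q.asIdeal.primeCompl M) = (((e : ℕ) : ℕ∞) : WithBot ℕ∞) := by
    rw [Groth.Agent.Lib.Helper28.supportDim_localization_eq_height q.asIdeal M hq, ← he]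
  have hrange : ∀ j : ℤ, q ∈ Module.support A (Dual.inD A M ⟶ ω⟦j⟧) →
      -δ q - e ≤ j ∧ j ≤ -δ q - d := by
    intro j hj
    have hnl := (mem_support_hom_iff ω q _ j).mp hj
    constructor
    · by_contra hlt
      exact hnl (LZ_of_lt_dim ω hω δ h1 M q hq e he.symm j (by lia))
    · by_contra hgt
      apply hnl
      by_cases hjd : j ≤ -δ q
      · have h3 := k1 (-δ q - j).toNat (by lia)
        rwa [show -δ q - ((-δ q - j).toNat : ℤ) = j by
          rw [Int.toNat_of_nonneg (by lia)]; ring] at h3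
      · exact LZ_of_gt ω hω q.asIdeal (-δ q) (fun i hi => LZ_quot_of_ne ω δ h1 q i hi) M j
          (by lia)
  have hmem_e := (mem_support_hom_iff ω q _ (-δ q - (e : ℤ))).mpr e2
  have hmem_d := (mem_support_hom_iff ω q _ (-δ q - (d : ℤ))).mpr k2
  have hde : d ≤ e := by
    have := (hrange _ hmem_d).1
    lia
  exact ⟨e, d, hde, hsd, by rw [hdepth, ← hd], he.symm, hrange, hmem_e, hmem_d⟩

lemma mem_good_of_notMem_support (k : ℕ) (q : PrimeSpectrum A) (hq : q ∉ Module.support A M) :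
    q ∈ CodepthOpen.good k M := by
  haveI hsub : Subsingleton (LocalizedModule q.asIdeal.primeCompl M) :=
    Module.notMem_support_iff.mp hq
  change min (k : WithBot ℕ∞) (Module.supportDim (Localization.AtPrime q.asIdeal)
    (LocalizedModule q.asIdeal.primeCompl M)) ≤ _
  rw [Module.supportDim_eq_bot_of_subsingleton]
  simp

lemma mem_good_iff (k : ℕ) (q : PrimeSpectrum A) (e d : ℕ)
    (hsd : Module.supportDim (Localization.AtPrime q.asIdeal)
        (LocalizedModule q.asIdeal.primeCompl M) = (((e : ℕ) : ℕ∞) : WithBot ℕ∞))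
    (hdp : LocCoh.depth (Localization.AtPrime q.asIdeal)
        (LocalizedModule q.asIdeal.primeCompl M) = ((d : ℕ) : ℕ∞)) :
    q ∈ CodepthOpen.good k M ↔ min k e ≤ d := by
  change min (k : WithBot ℕ∞) (Module.supportDim (Localization.AtPrime q.asIdeal)
    (LocalizedModule q.asIdeal.primeCompl M)) ≤
      ((LocCoh.depth (Localization.AtPrime q.asIdeal)
        (LocalizedModule q.asIdeal.primeCompl M) : ℕ∞) : WithBot ℕ∞) ↔ _
  rw [hsd, hdp]
  exact min_natCast_le_coe_iff k e d

lemma hasSk_iff_good (k : ℕ) :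
    LocCoh.HasSk k A M ↔ ∀ q : PrimeSpectrum A, q ∈ CodepthOpen.good k M := by
  constructor
  · intro h q
    exact h q.asIdeal
  · intro h p hp
    exact h ⟨p, hp⟩

include hω in
/-- descent to a generic point of `Supp E^i ∩ Supp E^j` -/
theorem exists_minimal_below (q : PrimeSpectrum A) (i j : ℤ)
    (hqi : q ∈ Module.support A (Dual.inD A M ⟶ ω⟦i⟧))
    (hqj : q ∈ Module.support A (Dual.inD A M ⟶ ω⟦j⟧)) :
    ∃ y : PrimeSpectrum A, y ≤ q ∧
      y.asIdeal ∈ (Module.annihilator A (Dual.inD A M ⟶ ω⟦i⟧) ⊔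
        Module.annihilator A (Dual.inD A M ⟶ ω⟦j⟧)).minimalPrimes ∧
      y ∈ Module.support A (Dual.inD A M ⟶ ω⟦i⟧) ∧
      y ∈ Module.support A (Dual.inD A M ⟶ ω⟦j⟧) := by
  haveI := finite_ext ω hω M i
  haveI := finite_ext ω hω M j
  have hi' : Module.annihilator A (Dual.inD A M ⟶ ω⟦i⟧) ≤ q.asIdeal := by
    have h5 := hqi
    rw [Module.support_eq_zeroLocus, PrimeSpectrum.mem_zeroLocus] at h5
    exact h5
  have hj' : Module.annihilator A (Dual.inD A M ⟶ ω⟦j⟧) ≤ q.asIdeal := by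
    have h5 := hqj
    rw [Module.support_eq_zeroLocus, PrimeSpectrum.mem_zeroLocus] at h5
    exact h5
  obtain ⟨r, hr, hrq⟩ := Ideal.exists_minimalPrimes_le (sup_le hi' hj')
  haveI hrprime : r.IsPrime := hr.1.1
  refine ⟨⟨r, hrprime⟩, hrq, hr, ?_, ?_⟩
  · have h6 : Module.annihilator A (Dual.inD A M ⟶ ω⟦i⟧) ≤ r := le_trans le_sup_left hr.1.2
    rw [Module.support_eq_zeroLocus, PrimeSpectrum.mem_zeroLocus]
    exact h6
  · have h6 : Module.annihilator A (Dual.inD A M ⟶ ω⟦j⟧) ≤ r := le_trans le_sup_right hr.1.2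
    rw [Module.support_eq_zeroLocus, PrimeSpectrum.mem_zeroLocus]
    exact h6

/-- the finitely many generic points of the sets `Supp E^i ∩ Supp E^j` -/
def genPts (a b : ℤ) : Set (PrimeSpectrum A) :=
  {y | ∃ i ∈ Set.Icc a b, ∃ j ∈ Set.Icc a b,
    y.asIdeal ∈ (Module.annihilator A (Dual.inD A M ⟶ ω⟦i⟧) ⊔
      Module.annihilator A (Dual.inD A M ⟶ ω⟦j⟧)).minimalPrimes}

lemma finite_genPts (a b : ℤ) : (genPts ω M a b).Finite := by
  have hF : (⋃ i ∈ Set.Icc a b, ⋃ j ∈ Set.Icc a b,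
      (Module.annihilator A (Dual.inD A M ⟶ ω⟦i⟧) ⊔
        Module.annihilator A (Dual.inD A M ⟶ ω⟦j⟧)).minimalPrimes : Set (Ideal A)).Finite := by
    refine Set.Finite.biUnion (Set.finite_Icc a b) fun i _ => ?_
    refine Set.Finite.biUnion (Set.finite_Icc a b) fun j _ => ?_
    exact Ideal.finite_minimalPrimes_of_isNoetherianRing A _
  refine (hF.preimage (f := PrimeSpectrum.asIdeal) ?_).subset ?_
  · intro x _ y _ hxy
    exact PrimeSpectrum.ext hxy
  · rintro y ⟨i, hi, j, hj, hy⟩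
    simp only [Set.mem_preimage, Set.mem_iUnion]
    exact ⟨i, hi, j, hj, hy⟩

lemma mem_Icc_of_mem_support (a b : ℤ)
    (hab : ∀ j : ℤ, (j < a ∨ b < j) → Subsingleton (Dual.inD A M ⟶ ω⟦j⟧))
    (q : PrimeSpectrum A) (j : ℤ) (hq : q ∈ Module.support A (Dual.inD A M ⟶ ω⟦j⟧)) :
    j ∈ Set.Icc a b := by
  by_contra hcon
  rw [Set.mem_Icc, not_and_or, not_le, not_le] at hcon
  haveI := hab j hcon
  have h3 : Module.support A (Dual.inD A M ⟶ ω⟦j⟧) = ∅ := Module.support_eq_empty
  rw [h3] at hq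
  exact hq

include hω h1 h2 in
theorem sk_iff_codim (k : ℕ) :
    LocCoh.HasSk k A M ↔
      ∀ (i j : ℤ), j < i → ∀ p : PrimeSpectrum A,
        p ∈ Module.support A (Dual.inD A M ⟶ ω⟦i⟧) →
        p ∈ Module.support A (Dual.inD A M ⟶ ω⟦j⟧) →
          (((k : ℤ) + i - j).toNat : WithBot ℕ∞) ≤
            Module.supportDim (Localization.AtPrime p.asIdeal)
              (LocalizedModule p.asIdeal.primeCompl M) := by
  rw [hasSk_iff_good]
  constructor
  · intro h i j hji p hpi hpj
    have hpM := mem_support_of_mem_support_hom ω hω M p i hpi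
    obtain ⟨e, d, hde, hsd, hdp, hht, hrange, hme, hmd⟩ := profile ω hω δ h1 h2 M p hpM
    have hg := (mem_good_iff M k p e d hsd hdp).mp (h p)
    obtain ⟨hi1, hi2⟩ := hrange i hpi
    obtain ⟨hj1, hj2⟩ := hrange j hpj
    rw [hsd, natCast_le_coe_iff]
    have hdlt : d < e := by lia
    have hkd : k ≤ d := by
      rcases min_le_iff.mp hg with h | h
      · exact h
      · lia
    lia
  · intro h q
    by_cases hqM : q ∈ Module.support A M
    · obtain ⟨e, d, hde, hsd, hdp, hht, hrange, hme, hmd⟩ := profile ω hω δ h1 h2 M q hqM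
      rw [mem_good_iff M k q e d hsd hdp]
      by_cases hlt : d < e
      · have h3 := h (-δ q - d) (-δ q - e) (by lia) q hmd hme
        rw [hsd, natCast_le_coe_iff] at h3
        have h4 : k ≤ d := by lia
        exact le_trans (min_le_left _ _) h4
      · exact le_trans (min_le_right _ _) (by lia)
    · exact mem_good_of_notMem_support M k q hqM

include hω h1 h2 in
theorem finite_depth_eq (a b : ℤ)
    (hab : ∀ j : ℤ, (j < a ∨ b < j) → Subsingleton (Dual.inD A M ⟶ ω⟦j⟧))
    (k : ℕ) (hM : LocCoh.HasSk k A M) :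
    Set.Finite {p : PrimeSpectrum A |
      LocCoh.depth (Localization.AtPrime p.asIdeal) (LocalizedModule p.asIdeal.primeCompl M) = k ∧
      (k : WithBot ℕ∞) < Module.supportDim (Localization.AtPrime p.asIdeal)
        (LocalizedModule p.asIdeal.primeCompl M)} := by
  refine (finite_genPts ω M a b).subset ?_
  rintro p ⟨hpd, hpe⟩
  have hpM : p ∈ Module.support A M := by
    by_contra hcon
    haveI : Subsingleton (LocalizedModule p.asIdeal.primeCompl M) :=
      Module.notMem_support_iff.mp hcon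
    rw [Module.supportDim_eq_bot_of_subsingleton] at hpe
    exact not_lt_bot hpe
  obtain ⟨e, d, hde, hsd, hdp, hht, hrange, hme, hmd⟩ := profile ω hω δ h1 h2 M p hpM
  rw [hsd, natCast_lt_coe_iff] at hpe
  have hdk : d = k := by
    rw [hdp] at hpd
    exact_mod_cast hpd
  subst hdk
  obtain ⟨y, hyp, hymin, hyi, hyj⟩ :=
    exists_minimal_below ω hω M p (-δ p - d) (-δ p - e) hmd hme
  have hyM := mem_support_of_mem_support_hom ω hω M y _ hyi
  obtain ⟨e', d', hde', hsd', hdp', hht', hrange', hme', hmd'⟩ :=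
    profile ω hω δ h1 h2 M y hyM
  have hg := (mem_good_iff M d y e' d' hsd' hdp').mp ((hasSk_iff_good M d).mp hM y)
  obtain ⟨hi1, hi2⟩ := hrange' _ hyi
  obtain ⟨hj1, hj2⟩ := hrange' _ hyj
  have hkd : d ≤ d' := by
    rcases min_le_iff.mp hg with h | h
    · exact h
    · lia
  have hee : e ≤ e' := by lia
  have hyp_eq : y = p := by
    by_contra hne
    have hlt : (⟨y, hyM⟩ : Module.support A M) < ⟨p, hpM⟩ :=
      lt_of_le_of_ne hyp (fun h => hne (congrArg Subtype.val h))
    have h3 := Order.height_strictMono hlt (by rw [hht']; exact ENat.coe_lt_top _)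
    rw [hht, hht'] at h3
    have h4 : e' < e := by exact_mod_cast h3
    lia
  rw [← hyp_eq]
  exact ⟨-δ p - d, mem_Icc_of_mem_support ω M a b hab y _ hyi, -δ p - e,
    mem_Icc_of_mem_support ω M a b hab y _ hyj, hymin⟩

include hω h1 h2 in
theorem isOpen_sk_locus (a b : ℤ)
    (hab : ∀ j : ℤ, (j < a ∨ b < j) → Subsingleton (Dual.inD A M ⟶ ω⟦j⟧)) (k : ℕ) :
    IsOpen {p : PrimeSpectrum A | EGA4.HasSkAt k A M p.asIdeal} := by
  have heq : {p : PrimeSpectrum A | EGA4.HasSkAt k A M p.asIdeal}ᶜ =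
      ⋃ y ∈ {y ∈ genPts ω M a b | y ∉ CodepthOpen.good k M},
        PrimeSpectrum.zeroLocus (y.asIdeal : Set A) := by
    ext p
    simp only [Set.mem_compl_iff, Set.mem_setOf_eq, Set.mem_iUnion, exists_prop,
      PrimeSpectrum.mem_zeroLocus, SetLike.coe_subset_coe]
    rw [CodepthOpen.hasSkAt_iff]
    push_neg
    constructor
    · rintro ⟨q, hqp, hqg⟩
      have hqM : q ∈ Module.support A M := by
        by_contra hcon
        exact hqg (mem_good_of_notMem_support M k q hcon)
      obtain ⟨e, d, hde, hsd, hdp, hht, hrange, hme, hmd⟩ := profile ω hω δ h1 h2 M q hqM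
      rw [mem_good_iff M k q e d hsd hdp, min_le_iff, not_or, not_le, not_le] at hqg
      obtain ⟨y, hyq, hymin, hyi, hyj⟩ :=
        exists_minimal_below ω hω M q (-δ q - d) (-δ q - e) hmd hme
      have hyM := mem_support_of_mem_support_hom ω hω M y _ hyi
      obtain ⟨e', d', hde', hsd', hdp', hht', hrange', hme', hmd'⟩ :=
        profile ω hω δ h1 h2 M y hyM
      obtain ⟨hi1, hi2⟩ := hrange' _ hyi
      obtain ⟨hj1, hj2⟩ := hrange' _ hyj
      have hle : (⟨y, hyM⟩ : Module.support A M) ≤ ⟨q, hqM⟩ := hyq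
      have h3 := Order.height_mono hle
      rw [hht, hht'] at h3
      have h4 : e' ≤ e := by exact_mod_cast h3
      refine ⟨y, ⟨⟨-δ q - d, mem_Icc_of_mem_support ω M a b hab y _ hyi, -δ q - e,
        mem_Icc_of_mem_support ω M a b hab y _ hyj, hymin⟩, ?_⟩, le_trans hyq hqp⟩
      rw [mem_good_iff M k y e' d' hsd' hdp', min_le_iff, not_or, not_le, not_le]
      constructor <;> lia
    · rintro ⟨y, ⟨_, hyg⟩, hyp⟩
      exact ⟨y, hyp, hyg⟩
  rw [← isClosed_compl_iff, heq]
  exact Set.Finite.isClosed_biUnion ((finite_genPts ω M a b).subset (fun y hy => hy.1))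
    fun y _ => PrimeSpectrum.isClosed_zeroLocus _

end Main

section Final

variable (A : Type u) [CommRing A] [IsNoetherianRing A]

theorem sk_iff_codim' (ω : Dual.D A) (hω : Dual.IsDualizing A ω) (M : Type u) [AddCommGroup M]
    [Module A M] [Module.Finite A M] (k : ℕ) :
    LocCoh.HasSk k A M ↔
      ∀ (i j : ℤ), j < i → ∀ p : PrimeSpectrum A,
        p ∈ Module.support A (Dual.inD A M ⟶ ω⟦i⟧) →
        p ∈ Module.support A (Dual.inD A M ⟶ ω⟦j⟧) →
          (((k : ℤ) + i - j).toNat : WithBot ℕ∞) ≤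
            Module.supportDim (Localization.AtPrime p.asIdeal)
              (LocalizedModule p.asIdeal.primeCompl M) := by
  obtain ⟨δ, h1, h2⟩ := Groth.Agent.Lib.Helper5.DualDim.main A ω hω
  exact sk_iff_codim ω hω δ h1 h2 M k

theorem isOpen_sk_locus' (ω : Dual.D A) (hω : Dual.IsDualizing A ω) (M : Type u)
    [AddCommGroup M] [Module A M] [Module.Finite A M] (k : ℕ) :
    IsOpen {p : PrimeSpectrum A | EGA4.HasSkAt k A M p.asIdeal} := by
  obtain ⟨δ, h1, h2⟩ := Groth.Agent.Lib.Helper5.DualDim.main A ω hω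
  obtain ⟨a, b, hab⟩ := hω.finite_injective_dimension
  exact isOpen_sk_locus ω hω δ h1 h2 M a b (fun j hj => hab M j hj) k

theorem finite_depth_eq' (hA : ∃ ω : Dual.D A, Dual.IsDualizing A ω) (M : Type u)
    [AddCommGroup M] [Module A M] [Module.Finite A M] (k : ℕ) (hM : LocCoh.HasSk k A M) :
    Set.Finite {p : PrimeSpectrum A |
      LocCoh.depth (Localization.AtPrime p.asIdeal) (LocalizedModule p.asIdeal.primeCompl M) = k ∧
      (k : WithBot ℕ∞) < Module.supportDim (Localization.AtPrime p.asIdeal)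
        (LocalizedModule p.asIdeal.primeCompl M)} := by
  obtain ⟨ω, hω⟩ := hA
  obtain ⟨δ, h1, h2⟩ := Groth.Agent.Lib.Helper5.DualDim.main A ω hω
  obtain ⟨a, b, hab⟩ := hω.finite_injective_dimension
  exact finite_depth_eq ω hω δ h1 h2 M a b (fun j hj => hab M j hj) k hM

end Final

end Groth.Agent.Lib.Helper5.LocD
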