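import Mathlib
import Groth.Agent.Lib.Helper14FaltH
import Groth.Agent.Lib.Helper14FaltI
import Groth.Agent.Lib.Helper5LocDL

/-! # Faltings' annihilator theorem: from vanishing of `Ext` to annihilators (helper14) -/

set_option autoImplicit false
set_option linter.unusedVariables false
set_option linter.unusedSectionVars false
set_option linter.style.haveILetI false
set_option maxHeartbeats 400000

universe u

open CategoryTheory CategoryTheory.Limits
attribute [local instance] HasDerivedCategory.standard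

namespace Groth.Agent.Lib.Helper14.Falt

open DerivedCategory Groth.Agent.Lib.Helper1.Extend Groth.Agent.Lib.Helper5.BiDual
open Groth.Agent.Lib.Helper5.DualLocal Groth.Agent.Lib.Helper5.DualMin
open Groth.Agent.Lib.Helper5.DualDim Groth.Agent.Lib.Helper5.NormDual
open Groth.Agent.Lib.Helper5.LocD
open Groth.Agent.Lib.Helper14.HDT Groth.Agent.Lib.Helper17.Hyp

variable {A : Type u} [CommRing A] [IsNoetherianRing A]
variable (ω : Dual.D A) (hω : Dual.IsDualizing A ω) (δ : PrimeSpectrum A → ℤ)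
  (h1 : ∀ (p : PrimeSpectrum A) (i : ℤ),
    Nontrivial (LocalizedModule p.asIdeal.primeCompl
      (Dual.inD A (A ⧸ p.asIdeal) ⟶ ω⟦i⟧)) ↔ i = -δ p)
  (h2 : ∀ p q : PrimeSpectrum A, p ⋖ q → δ p = δ q + 1)

include h1 in
/-- the vanishing hypothesis of local duality at a prime -/
lemma hd_of_h1 (q : PrimeSpectrum A) (i : ℤ) (hi : i ≠ -δ q) :
    LZ ω q.asIdeal i (Dual.inD A (A ⧸ q.asIdeal)) := by
  by_contra hLZ
  have hmem := (mem_support_hom_iff ω q (Dual.inD A (A ⧸ q.asIdeal)) i).mpr hLZ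
  rw [Module.mem_support_iff] at hmem
  exact hi ((h1 q i).mp hmem)

include hω h1 in
/-- the dimension function is bounded -/
lemma delta_bounds : ∃ lo hi : ℤ, ∀ P : PrimeSpectrum A, lo ≤ δ P ∧ δ P ≤ hi := by
  obtain ⟨a, b, hab⟩ := hω.finite_injective_dimension
  refine ⟨-b, -a, fun P => ?_⟩
  have hnt := (h1 P (-δ P)).mpr rfl
  by_contra hcon
  have hsub : Subsingleton (Dual.inD A (A ⧸ P.asIdeal) ⟶ ω⟦-δ P⟧) :=
    hab (A ⧸ P.asIdeal) (-δ P) (by omega)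
  have : Subsingleton (LocalizedModule P.asIdeal.primeCompl
      (Dual.inD A (A ⧸ P.asIdeal) ⟶ ω⟦-δ P⟧)) := by
    rw [LocalizedModule.subsingleton_iff]
    intro m
    exact ⟨1, P.asIdeal.primeCompl.one_mem, by rw [Subsingleton.elim m 0, smul_zero]⟩
  exact not_subsingleton _ this

variable (M : Type u) [AddCommGroup M] [Module A M] [Module.Finite A M]
  (T T' : Set (PrimeSpectrum A)) (hT : StableUnderSpecialization T)
  (hT' : StableUnderSpecialization T')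

include hω h1 h2 hT hT' in
/-- **The inductive step of Faltings' theorem.** If `J'` kills `H^a_T(M)` for `a < i` and
`Ext^{-δ(q)-i}(M, ω)_p = 0` for `p ∉ T'`, `q ∈ T`, `p ⊆ q`, then some ideal `𝔞` with
`V(𝔞) ⊆ T'` kills `H^i_T(M)`. -/
theorem ann_step (i : ℕ) (J' : Ideal A) (hJ' : PrimeSpectrum.zeroLocus (J' : Set A) ⊆ T')
    (hkill : ∀ a : ℕ, a < i → ∀ c ∈ J',
      ∀ y : FT T ((dsgl (ModuleCat.of A M))⟦(a : ℤ)⟧), c • y = 0)
    (hcond : ∀ p q : PrimeSpectrum A, p ∉ T' → q ∈ T → p ≤ q →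
      LZ ω p.asIdeal (-δ q - (i : ℤ)) (Dual.inD A M)) :
    ∃ 𝔞 : Ideal A, PrimeSpectrum.zeroLocus (𝔞 : Set A) ⊆ T' ∧
      ∀ a ∈ 𝔞, ∀ x : FT T ((dsgl (ModuleCat.of A M))⟦(i : ℤ)⟧), a • x = 0 := by
  obtain ⟨lo, hi, hb⟩ := delta_bounds ω hω δ h1
  refine ass_induction δ h2 T' lo hi hb (J' ^ i) (zeroLocus_pow_subset T' hJ' i) (fun n => ?_)
  haveI : Module.Finite A (Dual.inD A M ⟶ ω⟦-n - (i : ℤ)⟧) := finite_ext ω hω M _
  haveI : IsNoetherian A (Dual.inD A M ⟶ ω⟦-n - (i : ℤ)⟧) :=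
    isNoetherian_of_isNoetherianRing_of_finite A _
  obtain ⟨𝔠, h𝔠, hc⟩ := exists_ideal_torsT T' (M := (Dual.inD A M ⟶ ω⟦-n - (i : ℤ)⟧))
  refine ⟨𝔠, h𝔠, ?_⟩
  intro P hδ hPy x'' hx'' b hb' c hcc
  subst hδ
  haveI := P.isPrime
  obtain ⟨y, hPy⟩ := hPy
  -- `P ∈ T`
  have hPT : P ∈ T := by
    have hy' : y ∈ torsT T (FT T ((dsgl (ModuleCat.of A M))⟦(i : ℤ)⟧)) :=
      torsT_FT_eq_top T _ ▸ Submodule.mem_top
    obtain ⟨J₀, hJ₀, hJ₀y⟩ := hy'
    apply hJ₀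
    intro a ha
    show a ∈ P.asIdeal
    rw [hPy, Submodule.mem_colon_singleton, hJ₀y a ha]
    exact Submodule.zero_mem _
  have hZT : PrimeSpectrum.zeroLocus (P.asIdeal : Set A) ⊆ T := by
    intro q hq
    exact hT ((PrimeSpectrum.le_iff_specializes P q).mp hq) hPT
  obtain ⟨k, hk⟩ := hx''
  have hx''t : x'' ∈ torsT (PrimeSpectrum.zeroLocus (P.asIdeal : Set A))
      (FT T ((dsgl (ModuleCat.of A M))⟦(i : ℤ)⟧)) :=
    ⟨P.asIdeal ^ k, zeroLocus_pow_subset _ subset_rfl k, hk⟩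
  obtain ⟨z, hz⟩ := ((klp hZT i) (ModuleCat.of A M) J' hkill).2 x'' hx''t b hb'
  have hlda := (lda_iff ω hω P.asIdeal (-δ P) (hd_of_h1 ω δ h1 P) M i c).mpr (by
    intro t
    obtain ⟨s, hs, hst⟩ := glue T' hT' P (fun p hp hpP t => hcond p P hp hPT hpP t) t
    exact ⟨s, hs, by rw [mul_comm, mul_smul]; exact hc _ hst c hcc⟩) z
  obtain ⟨s₂, hs₂, hs₂z⟩ := hlda
  refine ⟨s₂, hs₂, ?_⟩
  have e1 : s₂ • (b * c) • x'' = (s₂ * c) • b • x'' := by
    simp only [smul_smul]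
    congr 1
    ring
  rw [e1, ← hz, ← map_smul, hs₂z, map_zero]

end Groth.Agent.Lib.Helper14.Falt
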