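import Mathlib
import Groth.Agent.Lib.Helper14FaltJ

/-! # Faltings' annihilator theorem for rings with a dualizing complex (helper14) -/

set_option autoImplicit false
set_option linter.unusedVariables false
set_option linter.unusedSectionVars false
set_option linter.style.haveILetI false
set_option maxHeartbeats 400000

universe u

open CategoryTheory CategoryTheory.Limits
attribute [local instance] HasDerivedCategory.standard

namespace Groth.Agent.Lib.Helper14.Falt

open DerivedCategory Groth.Agent.Lib.Helper1.Extend Groth.Agent.Lib.Helper5.BiDual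
open Groth.Agent.Lib.Helper5.DualLocal Groth.Agent.Lib.Helper5.DualMin
open Groth.Agent.Lib.Helper5.DualDim Groth.Agent.Lib.Helper5.NormDual
open Groth.Agent.Lib.Helper5.LocD
open Groth.Agent.Lib.Helper14.HDT Groth.Agent.Lib.Helper17.Hyp

variable {A : Type u} [CommRing A] [IsNoetherianRing A]
variable (ω : Dual.D A) (hω : Dual.IsDualizing A ω) (δ : PrimeSpectrum A → ℤ)
  (h1 : ∀ (p : PrimeSpectrum A) (i : ℤ),
    Nontrivial (LocalizedModule p.asIdeal.primeCompl
      (Dual.inD A (A ⧸ p.asIdeal) ⟶ ω⟦i⟧)) ↔ i = -δ p)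
  (h2 : ∀ p q : PrimeSpectrum A, p ⋖ q → δ p = δ q + 1)
  (M : Type u) [AddCommGroup M] [Module A M] [Module.Finite A M]
  (T T' : Set (PrimeSpectrum A)) (hT : StableUnderSpecialization T)
  (hT' : StableUnderSpecialization T')

include hω h1 h2 hT hT' in
/-- the vanishing condition gives an annihilator -/
theorem forward (s : ℕ)
    (hcond : ∀ p q : PrimeSpectrum A, p ∉ T' → q ∈ T → p ≤ q → ∀ i : ℕ, i ≤ s →
      LZ ω p.asIdeal (-δ q - (i : ℤ)) (Dual.inD A M)) :
    ∃ J : Ideal A, PrimeSpectrum.zeroLocus (J : Set A) ⊆ T' ∧ ∀ i : ℕ, i ≤ s → ∀ a ∈ J,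
      ∀ x : FT T ((dsgl (ModuleCat.of A M))⟦(i : ℤ)⟧), a • x = 0 := by
  have key : ∀ m : ℕ, m ≤ s + 1 → ∃ J : Ideal A, PrimeSpectrum.zeroLocus (J : Set A) ⊆ T' ∧
      ∀ i : ℕ, i < m → ∀ a ∈ J,
        ∀ x : FT T ((dsgl (ModuleCat.of A M))⟦(i : ℤ)⟧), a • x = 0 := by
    intro m
    induction m with
    | zero =>
      intro _
      exact ⟨⊤, zeroLocus_top_subset T', fun i hi => absurd hi (Nat.not_lt_zero i)⟩
    | succ m ih =>
      intro hm
      obtain ⟨J, hJ, hkill⟩ := ih (by omega)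
      obtain ⟨𝔞, h𝔞, hkill'⟩ := ann_step ω hω δ h1 h2 M T T' hT hT' m J hJ hkill
        (fun p q hp hq hpq => hcond p q hp hq hpq m (by omega))
      refine ⟨J * 𝔞, zeroLocus_mul_subset T' hJ h𝔞, fun i hi a ha x => ?_⟩
      rcases Nat.lt_succ_iff_lt_or_eq.mp hi with hlt | heq
      · exact hkill i hlt a (Ideal.mul_le_left ha) x
      · subst heq
        exact hkill' a (Ideal.mul_le_right ha) x
  obtain ⟨J, hJ, hkill⟩ := key (s + 1) le_rfl
  exact ⟨J, hJ, fun i hi => hkill i (by omega)⟩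

include hω h1 hT in
/-- an annihilator gives the vanishing condition -/
theorem converse (s : ℕ) (J : Ideal A) (hJ : PrimeSpectrum.zeroLocus (J : Set A) ⊆ T')
    (hkill : ∀ i : ℕ, i ≤ s → ∀ a ∈ J,
      ∀ x : FT T ((dsgl (ModuleCat.of A M))⟦(i : ℤ)⟧), a • x = 0) :
    ∀ p q : PrimeSpectrum A, p ∉ T' → q ∈ T → p ≤ q → ∀ i : ℕ, i ≤ s →
      LZ ω p.asIdeal (-δ q - (i : ℤ)) (Dual.inD A M) := by
  intro p q hp hq hpq i hi
  haveI := q.isPrime
  have hZT : PrimeSpectrum.zeroLocus (q.asIdeal : Set A) ⊆ T := by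
    intro q' hq'
    exact hT ((PrimeSpectrum.le_iff_specializes q q').mp hq') hq
  -- an element of `J` outside `p`
  have hJp : ¬ J ≤ p.asIdeal := fun hle => hp (hJ hle)
  obtain ⟨c₀, hc₀, hc₀p⟩ := SetLike.not_le_iff_exists.mp hJp
  have hKL := ((klp hZT i) (ModuleCat.of A M) J
    (fun a ha c hc y => hkill a (by omega) c hc y)).1
  have hz : ∀ z : FT (PrimeSpectrum.zeroLocus (q.asIdeal : Set A))
      ((dsgl (ModuleCat.of A M))⟦(i : ℤ)⟧),
      ∃ s' ∈ q.asIdeal.primeCompl, (s' * (c₀ ^ i * c₀)) • z = 0 := by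
    intro z
    refine ⟨1, q.asIdeal.primeCompl.one_mem, ?_⟩
    have h3 : cs hZT _ (c₀ • z) = 0 := by
      rw [map_smul]
      exact hkill i hi c₀ hc₀ _
    have h4 := hKL (c₀ • z) h3 (c₀ ^ i) (Ideal.pow_mem_pow hc₀ i)
    rw [one_mul, mul_smul]
    exact h4
  have hlda := (lda_iff ω hω q.asIdeal (-δ q) (hd_of_h1 ω δ h1 q) M i (c₀ ^ i * c₀)).mp hz
  intro t
  obtain ⟨s', hs', hst⟩ := hlda t
  refine ⟨s' * (c₀ ^ i * c₀), fun hmem => ?_, hst⟩
  rcases p.isPrime.mem_or_mem hmem with h | h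
  · exact hs' (hpq h)
  · rcases p.isPrime.mem_or_mem h with h' | h'
    · exact hc₀p (p.isPrime.mem_of_pow_mem i h')
    · exact hc₀p h'

lemma cast_lt_iff (s d k : ℕ) :
    (s : WithBot ℕ∞) < ((d : ℕ∞) : WithBot ℕ∞) + ((k : ℕ) : WithBot ℕ∞) ↔ s < d + k := by
  rw [← WithBot.coe_natCast, ← WithBot.coe_natCast, ← WithBot.coe_add, WithBot.coe_lt_coe]
  exact_mod_cast Iff.rfl

lemma cast_lt_top (s k : ℕ) :
    (s : WithBot ℕ∞) < (((⊤ : ℕ∞)) : WithBot ℕ∞) + ((k : ℕ) : WithBot ℕ∞) := by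
  rw [← WithBot.coe_natCast, ← WithBot.coe_natCast, ← WithBot.coe_add, WithBot.coe_lt_coe,
    top_add]
  exact ENat.natCast_lt_top s

include hω h1 h2 in
/-- the depth condition for a pair of primes in terms of the vanishing of `Ext` -/
theorem pair_iff (s : ℕ) (p q : PrimeSpectrum A) (hpq : p ≤ q) :
    ((s : WithBot ℕ∞) < ((LocCoh.depth (Localization.AtPrime p.asIdeal)
        (LocalizedModule p.asIdeal.primeCompl M) : ℕ∞) : WithBot ℕ∞) +
        Order.krullDim (Set.Icc p q)) ↔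
      ∀ i : ℕ, i ≤ s → LZ ω p.asIdeal (-δ q - (i : ℤ)) (Dual.inD A M) := by
  rw [krullDim_Icc δ h2 p q hpq]
  have hnn : δ q ≤ δ p := delta_le_of_le δ h2 p q hpq
  set k := (δ p - δ q).toNat with hk
  have hk' : (k : ℤ) = δ p - δ q := by omega
  by_cases hsupp : p ∈ Module.support A M
  · obtain ⟨e, d, -, -, hdepth, -, hrange, -, hd⟩ := profile ω hω δ h1 h2 M p hsupp
    rw [hdepth, cast_lt_iff]
    constructor
    · intro hlt i hi
      by_contra hLZ
      have hmem := (mem_support_hom_iff ω p (Dual.inD A M) (-δ q - (i : ℤ))).mpr hLZ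
      have := (hrange _ hmem).2
      omega
    · intro h
      by_contra hlt
      have h3 := h (d + k) (by omega)
      have e1 : -δ q - ((d + k : ℕ) : ℤ) = -δ p - (d : ℤ) := by push_cast; omega
      rw [e1] at h3
      exact (mem_support_hom_iff ω p (Dual.inD A M) _).mp hd h3
  · have hsub : Subsingleton (LocalizedModule p.asIdeal.primeCompl M) :=
      Module.notMem_support_iff.mp hsupp
    have hdepth : LocCoh.depth (Localization.AtPrime p.asIdeal)
        (LocalizedModule p.asIdeal.primeCompl M) = ⊤ := by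
      unfold LocCoh.depth LocCoh.idealDepth
      rw [if_pos (Subsingleton.elim _ _)]
    rw [hdepth]
    constructor
    · intro _ i _
      by_contra hLZ
      have hmem := (mem_support_hom_iff ω p (Dual.inD A M) (-δ q - (i : ℤ))).mpr hLZ
      exact hsupp (mem_support_of_mem_support_hom ω hω M p _ hmem)
    · intro _
      exact cast_lt_top s k

include hω h1 h2 hT hT' in
/-- **Faltings' annihilator theorem** (for `colim Hom_D(A/J, M[i])`). -/
theorem faltings_FT (s : ℕ) :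
    (∃ J : Ideal A, PrimeSpectrum.zeroLocus (J : Set A) ⊆ T' ∧ ∀ i : ℕ, i ≤ s → ∀ a ∈ J,
      ∀ x : FT T ((dsgl (ModuleCat.of A M))⟦(i : ℤ)⟧), a • x = 0) ↔
    (∀ p q : PrimeSpectrum A, p ∉ T' → q ∈ T → p ≤ q →
      (s : WithBot ℕ∞) < ((LocCoh.depth (Localization.AtPrime p.asIdeal)
        (LocalizedModule p.asIdeal.primeCompl M) : ℕ∞) : WithBot ℕ∞) +
        Order.krullDim (Set.Icc p q)) := by
  constructor
  · rintro ⟨J, hJ, hkill⟩ p q hp hq hpq
    rw [pair_iff ω hω δ h1 h2 M s p q hpq]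
    exact converse ω hω δ h1 M T T' hT s J hJ hkill p q hp hq hpq
  · intro h
    exact forward ω hω δ h1 h2 M T T' hT hT' s (fun p q hp hq hpq =>
      (pair_iff ω hω δ h1 h2 M s p q hpq).mp (h p q hp hq hpq))

include hT hT' in
/-- **Faltings' annihilator theorem** (Stacks 0EFC). -/
theorem faltings (hA : ∃ ω : Dual.D A, Dual.IsDualizing A ω) (s : ℕ) :
    (∃ J : Ideal A, PrimeSpectrum.zeroLocus (J : Set A) ⊆ T' ∧ ∀ i : ℕ, i ≤ s → ∀ a ∈ J,
      ∀ x : Dual2.HT T i M, a • x = 0) ↔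
    (∀ p q : PrimeSpectrum A, p ∉ T' → q ∈ T → p ≤ q →
      (s : WithBot ℕ∞) < ((LocCoh.depth (Localization.AtPrime p.asIdeal)
        (LocalizedModule p.asIdeal.primeCompl M) : ℕ∞) : WithBot ℕ∞) +
        Order.krullDim (Set.Icc p q)) := by
  obtain ⟨ω, hω⟩ := hA
  obtain ⟨δ, h1, h2⟩ := Groth.Agent.Lib.Helper5.DualDim.main A ω hω
  rw [← faltings_FT ω hω δ h1 h2 M T T' hT hT' s]
  constructor
  · rintro ⟨J, hJ, hkill⟩
    refine ⟨J, hJ, fun i hi a ha x => ?_⟩
    apply (compEquiv T i (ModuleCat.of A M)).injective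
    refine ((compEquiv T i (ModuleCat.of A M)).map_smul a x).trans ?_
    exact (hkill i hi a ha _).trans ((compEquiv T i (ModuleCat.of A M)).map_zero).symm
  · rintro ⟨J, hJ, hkill⟩
    refine ⟨J, hJ, fun i hi a ha x => ?_⟩
    apply (compEquiv T i (ModuleCat.of A M)).symm.injective
    refine ((compEquiv T i (ModuleCat.of A M)).symm.map_smul a x).trans ?_
    exact (hkill i hi a ha _).trans ((compEquiv T i (ModuleCat.of A M)).symm.map_zero).symm

end Groth.Agent.Lib.Helper14.Falt
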