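import Mathlib
import Groth.Agent.Lib.Helper14FaltCxC
import Groth.Agent.Lib.Helper14FaltCxE
import Groth.Agent.Lib.Helper14FaltK

/-! # Faltings' annihilator theorem for bounded complexes in `D^{≥0}` (helper14) -/

set_option autoImplicit false
set_option linter.unusedVariables false
set_option linter.unusedSectionVars false
set_option linter.style.haveILetI false
set_option maxHeartbeats 400000

universe u

open CategoryTheory CategoryTheory.Limits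
attribute [local instance] HasDerivedCategory.standard

namespace Groth.Agent.Lib.Helper14.FaltCx

open DerivedCategory Groth.Agent.Lib.Helper1.Extend Groth.Agent.Lib.Helper5.BiDual
open Groth.Agent.Lib.Helper5.DualLocal Groth.Agent.Lib.Helper5.DualMin
open Groth.Agent.Lib.Helper5.DualDim Groth.Agent.Lib.Helper5.NormDual
open Groth.Agent.Lib.Helper5.LocD
open Groth.Agent.Lib.Helper14.HDT Groth.Agent.Lib.Helper17.Hyp Groth.Agent.Lib.Helper14.Falt

variable {A : Type u} [CommRing A] [IsNoetherianRing A]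
variable (ω : Dual.D A) (hω : Dual.IsDualizing A ω) (δ : PrimeSpectrum A → ℤ)
  (h1 : ∀ (p : PrimeSpectrum A) (i : ℤ),
    Nontrivial (LocalizedModule p.asIdeal.primeCompl
      (Dual.inD A (A ⧸ p.asIdeal) ⟶ ω⟦i⟧)) ↔ i = -δ p)
  (h2 : ∀ p q : PrimeSpectrum A, p ⋖ q → δ p = δ q + 1)
  (K : Dual.D A) [hK0 : K.IsGE 0] (hfin : ∀ i : ℤ, Module.Finite A (Dual.HD A K i))
  (hbd : ∃ a b : ℤ, ∀ i : ℤ, (i < a ∨ b < i) → Subsingleton (Dual.HD A K i))
  (T T' : Set (PrimeSpectrum A)) (hT : StableUnderSpecialization T)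
  (hT' : StableUnderSpecialization T')

include hω h1 h2 hT hT' hfin hbd in
/-- **The inductive step of Faltings' theorem for complexes.** -/
theorem ann_step_cx (i : ℕ) (J' : Ideal A) (hJ' : PrimeSpectrum.zeroLocus (J' : Set A) ⊆ T')
    (hkill : ∀ a : ℕ, a < i → ∀ c ∈ J', ∀ y : FT T (K⟦(a : ℤ)⟧), c • y = 0)
    (hcond : ∀ p q : PrimeSpectrum A, p ∉ T' → q ∈ T → p ≤ q →
      LZ ω p.asIdeal (-δ q - (i : ℤ)) K) :
    ∃ 𝔞 : Ideal A, PrimeSpectrum.zeroLocus (𝔞 : Set A) ⊆ T' ∧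
      ∀ a ∈ 𝔞, ∀ x : FT T (K⟦(i : ℤ)⟧), a • x = 0 := by
  obtain ⟨lo, hi, hb⟩ := delta_bounds ω hω δ h1
  refine ass_induction δ h2 T' lo hi hb (J' ^ i) (zeroLocus_pow_subset T' hJ' i) (fun n => ?_)
  haveI : Module.Finite A (K ⟶ ω⟦-n - (i : ℤ)⟧) :=
    Groth.Agent.S1746.result A K ω hfin hω.finite_cohomology
      (hasFiniteInjDim_of_isDualizing ω hω) _
  haveI : IsNoetherian A (K ⟶ ω⟦-n - (i : ℤ)⟧) :=
    isNoetherian_of_isNoetherianRing_of_finite A _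
  obtain ⟨𝔠, h𝔠, hc⟩ := exists_ideal_torsT T' (M := (K ⟶ ω⟦-n - (i : ℤ)⟧))
  refine ⟨𝔠, h𝔠, ?_⟩
  intro P hδ hPy x'' hx'' b hb' c hcc
  subst hδ
  haveI := P.isPrime
  obtain ⟨y, hPy⟩ := hPy
  -- `P ∈ T`
  have hPT : P ∈ T := by
    have hy' : y ∈ torsT T (FT T (K⟦(i : ℤ)⟧)) :=
      torsT_FT_eq_top T _ ▸ Submodule.mem_top
    obtain ⟨J₀, hJ₀, hJ₀y⟩ := hy'
    apply hJ₀
    intro a ha
    show a ∈ P.asIdeal
    rw [hPy, Submodule.mem_colon_singleton, hJ₀y a ha]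
    exact Submodule.zero_mem _
  have hZT : PrimeSpectrum.zeroLocus (P.asIdeal : Set A) ⊆ T := by
    intro q hq
    exact hT ((PrimeSpectrum.le_iff_specializes P q).mp hq) hPT
  obtain ⟨k, hk⟩ := hx''
  have hx''t : x'' ∈ torsT (PrimeSpectrum.zeroLocus (P.asIdeal : Set A))
      (FT T (K⟦(i : ℤ)⟧)) :=
    ⟨P.asIdeal ^ k, zeroLocus_pow_subset _ subset_rfl k, hk⟩
  obtain ⟨z, hz⟩ := ((klpc hZT i) K hK0 J' hkill).2 x'' hx''t b hb'
  have hlda := (lda_iff_cx ω hω P.asIdeal (-δ P) (hd_of_h1 ω δ h1 P) K hfin hbd i c).mpr (by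
    intro t
    obtain ⟨s, hs, hst⟩ := glue T' hT' P (fun p hp hpP t => hcond p P hp hPT hpP t) t
    exact ⟨s, hs, by rw [mul_comm, mul_smul]; exact hc _ hst c hcc⟩) z
  obtain ⟨s₂, hs₂, hs₂z⟩ := hlda
  refine ⟨s₂, hs₂, ?_⟩
  have e1 : s₂ • (b * c) • x'' = (s₂ * c) • b • x'' := by
    simp only [smul_smul]
    congr 1
    ring
  rw [e1, ← hz, ← map_smul, hs₂z, map_zero]

include hω h1 h2 hT hT' hfin hbd in
/-- the vanishing condition gives an annihilator -/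
theorem forward_cx (s : ℕ)
    (hcond : ∀ p q : PrimeSpectrum A, p ∉ T' → q ∈ T → p ≤ q → ∀ i : ℕ, i ≤ s →
      LZ ω p.asIdeal (-δ q - (i : ℤ)) K) :
    ∃ J : Ideal A, PrimeSpectrum.zeroLocus (J : Set A) ⊆ T' ∧ ∀ i : ℕ, i ≤ s → ∀ a ∈ J,
      ∀ x : FT T (K⟦(i : ℤ)⟧), a • x = 0 := by
  have key : ∀ m : ℕ, m ≤ s + 1 → ∃ J : Ideal A, PrimeSpectrum.zeroLocus (J : Set A) ⊆ T' ∧
      ∀ i : ℕ, i < m → ∀ a ∈ J, ∀ x : FT T (K⟦(i : ℤ)⟧), a • x = 0 := by
    intro m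
    induction m with
    | zero =>
      intro _
      exact ⟨⊤, zeroLocus_top_subset T', fun i hi => absurd hi (Nat.not_lt_zero i)⟩
    | succ m ih =>
      intro hm
      obtain ⟨J, hJ, hkill⟩ := ih (by omega)
      obtain ⟨𝔞, h𝔞, hkill'⟩ := ann_step_cx ω hω δ h1 h2 K hfin hbd T T' hT hT' m J hJ hkill
        (fun p q hp hq hpq => hcond p q hp hq hpq m (by omega))
      refine ⟨J * 𝔞, zeroLocus_mul_subset T' hJ h𝔞, fun i hi a ha x => ?_⟩
      rcases Nat.lt_succ_iff_lt_or_eq.mp hi with hlt | heq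
      · exact hkill i hlt a (Ideal.mul_le_left ha) x
      · subst heq
        exact hkill' a (Ideal.mul_le_right ha) x
  obtain ⟨J, hJ, hkill⟩ := key (s + 1) le_rfl
  exact ⟨J, hJ, fun i hi => hkill i (by omega)⟩

include hω h1 hT hfin hbd in
/-- an annihilator gives the vanishing condition -/
theorem converse_cx (s : ℕ) (J : Ideal A) (hJ : PrimeSpectrum.zeroLocus (J : Set A) ⊆ T')
    (hkill : ∀ i : ℕ, i ≤ s → ∀ a ∈ J, ∀ x : FT T (K⟦(i : ℤ)⟧), a • x = 0) :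
    ∀ p q : PrimeSpectrum A, p ∉ T' → q ∈ T → p ≤ q → ∀ i : ℕ, i ≤ s →
      LZ ω p.asIdeal (-δ q - (i : ℤ)) K := by
  intro p q hp hq hpq i hi
  haveI := q.isPrime
  have hZT : PrimeSpectrum.zeroLocus (q.asIdeal : Set A) ⊆ T := by
    intro q' hq'
    exact hT ((PrimeSpectrum.le_iff_specializes q q').mp hq') hq
  -- an element of `J` outside `p`
  have hJp : ¬ J ≤ p.asIdeal := fun hle => hp (hJ hle)
  obtain ⟨c₀, hc₀, hc₀p⟩ := SetLike.not_le_iff_exists.mp hJp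
  have hKL := ((klpc hZT i) K hK0 J
    (fun a ha c hc y => hkill a (by omega) c hc y)).1
  have hz : ∀ z : FT (PrimeSpectrum.zeroLocus (q.asIdeal : Set A)) (K⟦(i : ℤ)⟧),
      ∃ s' ∈ q.asIdeal.primeCompl, (s' * (c₀ ^ i * c₀)) • z = 0 := by
    intro z
    refine ⟨1, q.asIdeal.primeCompl.one_mem, ?_⟩
    have h3 : cs hZT _ (c₀ • z) = 0 := by
      rw [map_smul]
      exact hkill i hi c₀ hc₀ _
    have h4 := hKL (c₀ • z) h3 (c₀ ^ i) (Ideal.pow_mem_pow hc₀ i)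
    rw [one_mul, mul_smul]
    exact h4
  have hlda := (lda_iff_cx ω hω q.asIdeal (-δ q) (hd_of_h1 ω δ h1 q) K hfin hbd i
    (c₀ ^ i * c₀)).mp hz
  intro t
  obtain ⟨s', hs', hst⟩ := hlda t
  refine ⟨s' * (c₀ ^ i * c₀), fun hmem => ?_, hst⟩
  rcases p.isPrime.mem_or_mem hmem with h | h
  · exact hs' (hpq h)
  · rcases p.isPrime.mem_or_mem h with h' | h'
    · exact hc₀p (p.isPrime.mem_of_pow_mem i h')
    · exact hc₀p h'

end Groth.Agent.Lib.Helper14.FaltCx
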