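import Mathlib
import Groth.Agent.Lib.Helper14FaltCxF
import Groth.Agent.Lib.Helper14HDIH

/-! # Auxiliary results for the complex version of Faltings' theorem (helper14)

Heights in `Set.Ici p`, truncation invariance of local cohomology, shifting of the `Ext`
vanishing condition, and the translation between vanishing of local cohomology of `K_p` and
vanishing of `Hom(K, ω[j])_p`. -/

set_option autoImplicit false
set_option linter.unusedVariables false
set_option linter.unusedSectionVars false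
set_option linter.style.haveILetI false
set_option maxHeartbeats 400000

universe u

open CategoryTheory CategoryTheory.Limits
attribute [local instance] HasDerivedCategory.standard

namespace Groth.Agent.Lib.Helper14.FaltCx

open DerivedCategory Pretriangulated Groth.Agent.Lib.Helper1.Extend Groth.Agent.Lib.Helper5.BiDual
open Groth.Agent.Lib.Helper5.DualLocal Groth.Agent.Lib.Helper5.DualMin
open Groth.Agent.Lib.Helper5.DualDim Groth.Agent.Lib.Helper5.NormDual
open Groth.Agent.Lib.Helper5.LocD Groth.Agent.S14388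
open Groth.Agent.Lib.Helper14.HDT Groth.Agent.Lib.Helper14.HDI Groth.Agent.Lib.Helper14.Falt

section Height

variable {A : Type u} [CommRing A] [IsNoetherianRing A] (δ : PrimeSpectrum A → ℤ)
  (h2 : ∀ p q : PrimeSpectrum A, p ⋖ q → δ p = δ q + 1)

include h2 in
/-- the length of a chain of primes is bounded by the difference of the values of `δ` -/
theorem length_le_delta (s : LTSeries (PrimeSpectrum A)) :
    (s.length : ℤ) ≤ δ s.head - δ s.last := by
  have key : ∀ (i : ℕ) (hi : i < s.length + 1),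
      (i : ℤ) ≤ δ (s 0) - δ (s ⟨i, hi⟩) := by
    intro i
    induction i with
    | zero =>
      intro hi
      simp
    | succ i ih =>
      intro hi
      have h1 := ih (by omega)
      have hlt : s ⟨i, by omega⟩ < s ⟨i + 1, hi⟩ := s.strictMono (by simp [Fin.lt_def])
      have h3 := delta_lt_of_lt δ h2 _ _ hlt
      push_cast
      omega
  exact key s.length (by omega)

include h2 in
/-- the height of `q` in the poset of primes containing `p` -/
theorem height_Ici (p q : PrimeSpectrum A) (hpq : p ≤ q) :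
    Order.height (⟨q, hpq⟩ : Set.Ici p) = (((δ p - δ q).toNat : ℕ) : ℕ∞) := by
  have hnn : 0 ≤ δ p - δ q := by
    have := delta_le_of_le δ h2 p q hpq
    omega
  apply le_antisymm
  · rw [Order.height_le_iff]
    intro s hs
    let s' : LTSeries (PrimeSpectrum A) := s.map Subtype.val (fun _ _ h => h)
    have h1 := length_le_delta δ h2 s'
    have h3 : δ s'.head ≤ δ p := by
      have e1 : s'.head = s.head.1 := LTSeries.head_map _ _ _
      rw [e1]
      exact delta_le_of_le δ h2 p _ s.head.2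
    have h4 : δ q ≤ δ s'.last := by
      have e1 : s'.last = s.last.1 := LTSeries.last_map _ _ _
      rw [e1]
      exact delta_le_of_le δ h2 _ q hs
    have h5 : s.length ≤ (δ p - δ q).toNat := by
      have : s'.length = s.length := LTSeries.map_length _ _ _
      omega
    exact_mod_cast h5
  · obtain ⟨s, hs, -⟩ := exists_series δ h2 p q hpq
    let g : Set.Icc p q → Set.Ici p := fun x => ⟨x.1, x.2.1⟩
    have hg : StrictMono g := fun x y hxy => hxy
    have hlast : (s.map g hg).last ≤ (⟨q, hpq⟩ : Set.Ici p) := by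
      rw [LTSeries.last_map]
      exact s.last.2.2
    have h1 := Order.length_le_height hlast
    rw [LTSeries.map_length] at h1
    have h3 : (δ p - δ q).toNat = s.length := by omega
    rw [h3]
    exact h1

end Height

section Trunc

variable {A : Type u} [CommRing A]

/-- `FT(obj₁) → FT(obj₂)` is bijective if `FT(obj₃)` and `FT(obj₃[-1])` vanish -/
theorem FT_bijective_of_right_zero (T : Set (PrimeSpectrum A)) (S : Triangle (Dual.D A))
    (hS : S ∈ distTriang (Dual.D A))
    (h3 : Subsingleton (FT T S.obj₃)) (h3' : Subsingleton (FT T (S.obj₃⟦(-1 : ℤ)⟧))) :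
    Function.Bijective (FTmap T S.mor₁).hom := by
  constructor
  · rw [injective_iff_map_eq_zero]
    intro z hz
    have hI := inv_rot_of_distTriang S hS
    obtain ⟨y, rfl⟩ := FT_exact T S.invRotate hI z hz
    have hy : y = 0 := @Subsingleton.elim _ h3' y 0
    rw [hy]
    exact map_zero (FTmap T S.invRotate.mor₁).hom
  · intro w
    exact FT_exact T S hS w (@Subsingleton.elim _ h3 _ _)

/-- `FT(obj₁[i]) ≃ FT(obj₂[i])` when `obj₃ ∈ D^{≥n}` and `i < n` -/
theorem nonempty_FT_equiv (T : Set (PrimeSpectrum A)) (S : Triangle (Dual.D A))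
    (hS : S ∈ distTriang (Dual.D A)) (n i : ℤ) (hi : i < n) [hGE : S.obj₃.IsGE n] :
    Nonempty (FT T (S.obj₁⟦i⟧) ≃ₗ[A] FT T (S.obj₂⟦i⟧)) := by
  have hS' := Triangle.shift_distinguished S hS i
  haveI h1 : (S.obj₃⟦i⟧).IsGE (n - i) := tt.isGE_shift _ n i (n - i) (by omega)
  haveI h2 : ((S.obj₃⟦i⟧)⟦(-1 : ℤ)⟧).IsGE (n - i + 1) :=
    tt.isGE_shift _ (n - i) (-1) (n - i + 1) (by omega)
  have h3 := subsingleton_FT_of_isGE T (S.obj₃⟦i⟧) (n - i) (by omega)
  have h3' := subsingleton_FT_of_isGE T ((S.obj₃⟦i⟧)⟦(-1 : ℤ)⟧) (n - i + 1) (by omega)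
  exact ⟨LinearEquiv.ofBijective _ (FT_bijective_of_right_zero T _ hS' h3 h3')⟩

/-- `F0(obj₁[i]) ≃ F0(obj₂[i])` when `obj₃ ∈ D^{≥n}` and `i < n` -/
theorem nonempty_F0_equiv (I : Ideal A) (S : Triangle (Dual.D A))
    (hS : S ∈ distTriang (Dual.D A)) (n i : ℤ) (hi : i < n) [hGE : S.obj₃.IsGE n] :
    Nonempty (F0 I (S.obj₁⟦i⟧) ≃ₗ[A] F0 I (S.obj₂⟦i⟧)) := by
  have hS' := Triangle.shift_distinguished S hS i
  haveI h1 : (S.obj₃⟦i⟧).IsGE (n - i) := tt.isGE_shift _ n i (n - i) (by omega)
  haveI h2 : ((S.obj₃⟦i⟧)⟦(-1 : ℤ)⟧).IsGE (n - i + 1) :=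
    tt.isGE_shift _ (n - i) (-1) (n - i + 1) (by omega)
  have h3 := subsingleton_F0_of_isGE I (S.obj₃⟦i⟧) (n - i) (by omega)
  have h3' := subsingleton_F0_of_isGE I ((S.obj₃⟦i⟧)⟦(-1 : ℤ)⟧) (n - i + 1) (by omega)
  exact ⟨LinearEquiv.ofBijective _ (F0_bijective_of_right_zero I _ hS' h3 h3')⟩

/-- truncation invariance of `FT` -/
theorem trunc_FT_equiv (T : Set (PrimeSpectrum A)) (K : Dual.D A) (n i : ℤ) (hi : i < n) :
    Nonempty (FT T (((tt.truncLT n).obj K)⟦i⟧) ≃ₗ[A] FT T (K⟦i⟧)) := by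
  haveI : ((tt.triangleLTGE n).obj K).obj₃.IsGE n :=
    inferInstanceAs (((tt.truncGE n).obj K).IsGE n)
  exact nonempty_FT_equiv T _ (tt.triangleLTGE_distinguished n K) n i hi

end Trunc

section BaseChange

variable {A : Type u} [CommRing A] (B : Type u) [CommRing B] [Algebra A B] [Module.Flat A B]

/-- truncation invariance of `F0` after flat base change -/
theorem trunc_F0_extD_equiv (I : Ideal B) (K : Dual.D A) (n i : ℤ) (hi : i < n) :
    Nonempty (F0 I (((extD A B).obj ((tt.truncLT n).obj K))⟦i⟧) ≃ₗ[B]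
      F0 I (((extD A B).obj K)⟦i⟧)) := by
  have hS := (extD A B).map_distinguished _ (tt.triangleLTGE_distinguished n K)
  haveI h0 : ((tt.truncGE n).obj K).IsGE n := inferInstance
  haveI : ((extD A B).mapTriangle.obj ((tt.triangleLTGE n).obj K)).obj₃.IsGE n :=
    isGE_map (ext A B) ((tt.truncGE n).obj K) n h0
  exact nonempty_F0_equiv I _ hS n i hi

/-- vanishing of `F0` of a base change in low degrees -/
theorem subsingleton_F0_extD (I : Ideal B) (K : Dual.D A) (a i : ℤ) (hi : i < a) [hK : K.IsGE a] :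
    Subsingleton (F0 I (((extD A B).obj K)⟦i⟧)) := by
  haveI h0 : ((extD A B).obj K).IsGE a := isGE_map (ext A B) K a hK
  haveI h1 : (((extD A B).obj K)⟦i⟧).IsGE (a - i) := tt.isGE_shift _ a i (a - i) (by omega)
  exact subsingleton_F0_of_isGE I _ (a - i) (by omega)

/-- the derived base change functor computes the same `F0` as `extD` -/
theorem lbc_F0_equiv [DRing.HasLBaseChange (algebraMap A B)] (I : Ideal B) (K : Dual.D A)
    (i : ℤ) :
    Nonempty (F0 I (((DRing.LBaseChange (algebraMap A B)).obj K)⟦i⟧) ≃ₗ[B]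
      F0 I (((extD A B).obj K)⟦i⟧)) := by
  obtain ⟨e⟩ := lbc_iso_extD B K
  exact ⟨LinearEquiv.ofBijective _
    (F0map_iso_bijective I ((shiftFunctor (Dual.D B) i).mapIso e))⟩

end BaseChange

section Translate

variable {A : Type u} [CommRing A] [IsNoetherianRing A]
variable (ω : Dual.D A) (hω : Dual.IsDualizing A ω) (p : Ideal A) [hp : p.IsPrime]

include hω in
/-- `c` kills `colim_k Hom(A_p/m^k, K_p[i])` iff it kills `Hom(K, ω[d - i])_p` -/
theorem f0_iff_cx (d : ℤ) (hd : ∀ i : ℤ, i ≠ d → LZ ω p i (Dual.inD A (A ⧸ p)))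
    (K : Dual.D A) (hfin : ∀ i : ℤ, Module.Finite A (Dual.HD A K i))
    (hbd : ∃ a b : ℤ, ∀ i : ℤ, (i < a ∨ b < i) → Subsingleton (Dual.HD A K i)) (i : ℤ) (c : A) :
    (∀ w : F0 (IsLocalRing.maximalIdeal (Localization.AtPrime p))
        (((extD A (Localization.AtPrime p)).obj K)⟦i⟧),
        algebraMap A (Localization.AtPrime p) c • w = 0) ↔
      ∀ t : K ⟶ ω⟦d - i⟧, ∃ s ∈ p.primeCompl, (s * c) • t = 0 := by
  have hB := isDualizing_extD p.primeCompl (Localization.AtPrime p) ω hω
  haveI := hB.isNoetherianRing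
  have hB' := isDualizing_shift hB d
  have hn := isNormalized_extD_shift ω hω p d hd
  obtain ⟨a, b, hab⟩ := hbd
  have hKfp : HasFPRes K := hasFPRes_of_bdd_finite K ⟨b, fun j hj => hab j (Or.inr hj)⟩ hfin
  have key := ann_local_iff (((extD A (Localization.AtPrime p)).obj ω)⟦d⟧) hB' hn
    ((extD A (Localization.AtPrime p)).obj K)
    (fun j => finite_HD_extD K j (hfin j))
    ⟨a, b, fun j hj => subsingleton_HD_extD K j (hab j hj)⟩ i
    (algebraMap A (Localization.AtPrime p) c)
  rw [← rhs_iff_cx ω hω p K hKfp (d - i) c,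
    forall_smul_shift_add_iff _ _ d (-i) (d - i) (by ring), key]

include hω in
/-- vanishing of `colim_k Hom(A_p/m^k, K_p[i])` in terms of `Hom(K, ω[d - i])_p` -/
theorem subsingleton_F0_iff_LZ (d : ℤ) (hd : ∀ i : ℤ, i ≠ d → LZ ω p i (Dual.inD A (A ⧸ p)))
    (K : Dual.D A) (hfin : ∀ i : ℤ, Module.Finite A (Dual.HD A K i))
    (hbd : ∃ a b : ℤ, ∀ i : ℤ, (i < a ∨ b < i) → Subsingleton (Dual.HD A K i)) (i : ℤ) :
    Subsingleton (F0 (IsLocalRing.maximalIdeal (Localization.AtPrime p))
        (((extD A (Localization.AtPrime p)).obj K)⟦i⟧)) ↔ LZ ω p (d - i) K := by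
  have key := f0_iff_cx ω hω p d hd K hfin hbd i 1
  constructor
  · intro hsub t
    obtain ⟨s, hs, h⟩ := key.mp (fun w => Subsingleton.elim _ _) t
    exact ⟨s, hs, by rwa [mul_one] at h⟩
  · intro hLZ
    have h0 := key.mpr (fun t => by
      obtain ⟨s, hs, h⟩ := hLZ t
      exact ⟨s, hs, by rwa [mul_one]⟩)
    refine ⟨fun w w' => ?_⟩
    have h1 := h0 w
    have h1' := h0 w'
    rw [map_one, one_smul] at h1 h1'
    rw [h1, h1']

/-- shifting the `Ext` vanishing condition -/
theorem LZ_shift (K : Dual.D A) (j a : ℤ) : LZ ω p j K ↔ LZ ω p (j + a) (K⟦a⟧) := by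
  constructor
  · intro h t'
    obtain ⟨t, ht⟩ := (shiftFunctor (Dual.D A) a).map_surjective
      (t' ≫ (shiftFunctorAdd' (Dual.D A) j a (j + a) rfl).hom.app ω)
    obtain ⟨s, hs, hst⟩ := h t
    refine ⟨s, hs, ?_⟩
    have e1 : t' = (shiftFunctor (Dual.D A) a).map t ≫
        (shiftFunctorAdd' (Dual.D A) j a (j + a) rfl).inv.app ω := by
      rw [ht, Category.assoc, Iso.hom_inv_id_app, Category.comp_id]
    rw [e1, ← Linear.smul_comp, ← Functor.map_smul, hst, Functor.map_zero, zero_comp]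
  · intro h t
    obtain ⟨s, hs, hst⟩ := h ((shiftFunctor (Dual.D A) a).map t ≫
      (shiftFunctorAdd' (Dual.D A) j a (j + a) rfl).inv.app ω)
    refine ⟨s, hs, ?_⟩
    rw [← Linear.smul_comp, ← Functor.map_smul] at hst
    have h1 := (cancel_mono ((shiftFunctorAdd' (Dual.D A) j a (j + a) rfl).inv.app ω)).mp
      (hst.trans zero_comp.symm)
    exact (shiftFunctor (Dual.D A) a).map_injective (h1.trans (Functor.map_zero _ _ _).symm)

end Translate

end Groth.Agent.Lib.Helper14.FaltCx
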