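import Mathlib
import Groth.Agent.Lib.Helper14FaltK
import Groth.Agent.Lib.Helper14FaltCxG
import Groth.Agent.Lib.Helper14AlgzA
import Groth.Agent.Lib.Helper28LocLoc
import Groth.Prelude.Def_Formal2

/-! # Algebraization of local cohomology: depth conditions (helper14) -/

set_option autoImplicit false
set_option linter.unusedVariables false
set_option linter.unusedSectionVars false
set_option linter.style.haveILetI false
set_option maxHeartbeats 400000

universe u

open CategoryTheory CategoryTheory.Limits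
attribute [local instance] HasDerivedCategory.standard

namespace Groth.Agent.Lib.Helper14.Algz

open DerivedCategory Groth.Agent.Lib.Helper1.Extend Groth.Agent.Lib.Helper5.BiDual
open Groth.Agent.Lib.Helper5.DualLocal Groth.Agent.Lib.Helper5.DualMin
open Groth.Agent.Lib.Helper5.DualDim Groth.Agent.Lib.Helper5.NormDual
open Groth.Agent.Lib.Helper5.LocD
open Groth.Agent.Lib.Helper14.HDT Groth.Agent.Lib.Helper17.Hyp
open Groth.Agent.Lib.Helper14.Falt

lemma cast_lt_add (s k : ℕ) (D : ℕ∞) :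
    ((s : ℕ) : WithBot ℕ∞) < ((D : ℕ∞) : WithBot ℕ∞) + ((k : ℕ) : WithBot ℕ∞) ↔
      (s : ℕ∞) < D + (k : ℕ∞) := by
  rw [← WithBot.coe_natCast, ← WithBot.coe_natCast, ← WithBot.coe_add, WithBot.coe_lt_coe]

lemma cast_lt_add' (s k : ℕ) (D : ℕ∞) :
    (((s : ℕ) : ℕ∞) : WithBot ℕ∞) < ((D : ℕ∞) : WithBot ℕ∞) + ((k : ℕ) : WithBot ℕ∞) ↔
      (s : ℕ∞) < D + (k : ℕ∞) := by
  rw [← WithBot.coe_natCast k, ← WithBot.coe_add, WithBot.coe_lt_coe]

lemma cast_le_cast (k d : ℕ) :
    ((k : ℕ) : WithBot ℕ∞) ≤ (((d : ℕ) : ℕ∞) : WithBot ℕ∞) ↔ k ≤ d := by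
  rw [← WithBot.coe_natCast k, WithBot.coe_le_coe, Nat.cast_le]

variable {A : Type u} [CommRing A] [IsNoetherianRing A]

/-- the order isomorphism `V(p) ≃o [p, ∞)` -/
def zlIci (p : PrimeSpectrum A) :
    (PrimeSpectrum.zeroLocus (p.asIdeal : Set A)) ≃o (Set.Ici p) where
  toFun x := ⟨x.1, fun a ha => x.2 ha⟩
  invFun x := ⟨x.1, fun a ha => x.2 ha⟩
  left_inv _ := rfl
  right_inv _ := rfl
  map_rel_iff' := Iff.rfl

variable (ω : Dual.D A) (hω : Dual.IsDualizing A ω) (δ : PrimeSpectrum A → ℤ)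
  (h1 : ∀ (p : PrimeSpectrum A) (i : ℤ),
    Nontrivial (LocalizedModule p.asIdeal.primeCompl
      (Dual.inD A (A ⧸ p.asIdeal) ⟶ ω⟦i⟧)) ↔ i = -δ p)
  (h2 : ∀ p q : PrimeSpectrum A, p ⋖ q → δ p = δ q + 1)

include h2 in
/-- `dim (A/p)_q = δ(p) - δ(q)` -/
theorem dimBetween_eq (p q : PrimeSpectrum A) (hpq : p ≤ q) :
    Formal2.dimBetween A p.asIdeal q.asIdeal = (((δ p - δ q).toNat : ℕ) : WithBot ℕ∞) := by
  unfold Formal2.dimBetween
  rw [Groth.Agent.Lib.Helper28.ringKrullDim_localization_quotient_eq_height p.asIdeal q.asIdeal hpq]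
  have hprime : (q.asIdeal.map (Ideal.Quotient.mk p.asIdeal)).IsPrime :=
    Ideal.map_isPrime_of_surjective Ideal.Quotient.mk_surjective (by rwa [Ideal.mk_ker])
  let Q : PrimeSpectrum (A ⧸ p.asIdeal) := ⟨q.asIdeal.map (Ideal.Quotient.mk p.asIdeal), hprime⟩
  have e1 : (q.asIdeal.map (Ideal.Quotient.mk p.asIdeal)).height = Order.height Q :=
    PrimeSpectrum.height_eq_orderHeight Q
  have e2 : Order.height (p.asIdeal.primeSpectrumQuotientOrderIsoZeroLocus Q) = Order.height Q :=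
    Order.height_orderIso _ Q
  have e3 : Order.height (zlIci p (p.asIdeal.primeSpectrumQuotientOrderIsoZeroLocus Q)) =
      Order.height (p.asIdeal.primeSpectrumQuotientOrderIsoZeroLocus Q) :=
    Order.height_orderIso _ _
  have e4 : zlIci p (p.asIdeal.primeSpectrumQuotientOrderIsoZeroLocus Q) = ⟨q, hpq⟩ := by
    apply Subtype.ext
    apply PrimeSpectrum.ext
    change Ideal.comap (Ideal.Quotient.mk p.asIdeal)
      (q.asIdeal.map (Ideal.Quotient.mk p.asIdeal)) = q.asIdeal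
    rw [Ideal.comap_map_of_surjective _ Ideal.Quotient.mk_surjective, ← RingHom.ker_eq_comap_bot,
      Ideal.mk_ker]
    exact sup_eq_left.mpr hpq
  rw [e1, ← e2, ← e3, e4, Groth.Agent.Lib.Helper14.FaltCx.height_Ici δ h2 p q hpq]
  rfl

variable (M : Type u) [AddCommGroup M] [Module A M] [Module.Finite A M]

/-- the depth of the localization at a prime outside the support is `⊤` -/
lemma depth_eq_top_of_notMem_support (p : PrimeSpectrum A) (hp : p ∉ Module.support A M) :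
    LocCoh.depth (Localization.AtPrime p.asIdeal) (LocalizedModule p.asIdeal.primeCompl M) = ⊤ := by
  have hsub : Subsingleton (LocalizedModule p.asIdeal.primeCompl M) :=
    Module.notMem_support_iff.mp hp
  unfold LocCoh.depth LocCoh.idealDepth
  rw [if_pos (Subsingleton.elim _ _)]

include hω h1 h2 in
/-- if `depth M_p > s` then `H^i_p(M)` vanishes locally at `p` for `i ≤ s` -/
theorem locVanAt_of_depth (p : PrimeSpectrum A) (s : ℕ)
    (hd : (s : ℕ∞) < LocCoh.depth (Localization.AtPrime p.asIdeal)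
      (LocalizedModule p.asIdeal.primeCompl M)) : LocVanAt p.asIdeal s M := by
  intro i hi z
  have h0 : (s : WithBot ℕ∞) < ((LocCoh.depth (Localization.AtPrime p.asIdeal)
      (LocalizedModule p.asIdeal.primeCompl M) : ℕ∞) : WithBot ℕ∞) +
      Order.krullDim (Set.Icc p p) := by
    rw [krullDim_Icc δ h2 p p le_rfl, cast_lt_add]
    exact lt_of_lt_of_le hd le_self_add
  have hLZ := (pair_iff ω hω δ h1 h2 M s p p le_rfl).mp h0 i hi
  have hFT := (lda_iff ω hω p.asIdeal (-δ p) (hd_of_h1 ω δ h1 p) M i 1).mpr (fun t => by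
    obtain ⟨c, hc, hct⟩ := hLZ t
    exact ⟨c, hc, by rwa [mul_one]⟩)
  obtain ⟨t, ht, htz⟩ := hFT ((ftEquiv p.asIdeal i (ModuleCat.of A M)).symm z)
  refine ⟨t, ht, ?_⟩
  rw [mul_one] at htz
  have := congrArg (ftEquiv p.asIdeal i (ModuleCat.of A M)) htz
  rwa [map_smul, LinearEquiv.apply_symm_apply, map_zero] at this

lemma arith (s d n k1 k2 k3 : ℕ) (hk : k3 = k1 + k2) (h1 : 1 ≤ k1) (h2 : k2 ≤ d)
    (h4 : s ≤ n ∨ d + s < n + k3) : s < n + k1 := by omega

include hω h1 h2 in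
/-- the condition on pairs of primes in Faltings' theorem, from the hypotheses of the
algebraization lemma -/
theorem pair_cond (I J : Ideal A) (s d : ℕ) (T : Set (PrimeSpectrum A))
    (hT : ∀ p : PrimeSpectrum A, p ∈ T ↔
      ∀ q : PrimeSpectrum A, p ≤ q → I ≤ q.asIdeal → J ≤ q.asIdeal)
    (h3 : ∀ p : PrimeSpectrum A, ¬ I ≤ p.asIdeal → p ∈ T → ∃ q : PrimeSpectrum A, p ≤ q ∧
      J ≤ q.asIdeal ∧ I ≤ q.asIdeal ∧
      Formal2.dimBetween A p.asIdeal q.asIdeal ≤ ((d : ℕ∞) : WithBot ℕ∞))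
    (h4 : ∀ p : PrimeSpectrum A, ¬ I ≤ p.asIdeal → p ∉ T → ∀ q : PrimeSpectrum A, p ≤ q →
      J ≤ q.asIdeal → I ≤ q.asIdeal →
      (s : ℕ∞) ≤ LocCoh.depth (Localization.AtPrime p.asIdeal)
        (LocalizedModule p.asIdeal.primeCompl M) ∨
      (((d + s : ℕ) : ℕ∞) : WithBot ℕ∞) < ((LocCoh.depth (Localization.AtPrime p.asIdeal)
        (LocalizedModule p.asIdeal.primeCompl M) : ℕ∞) : WithBot ℕ∞) +
        Formal2.dimBetween A p.asIdeal q.asIdeal)
    (p q : PrimeSpectrum A) (hpI : ¬ I ≤ p.asIdeal) (hqT : q ∈ T) (hpq : p ≤ q)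
    (hp : p ∈ T → (s : ℕ∞) < LocCoh.depth (Localization.AtPrime p.asIdeal)
      (LocalizedModule p.asIdeal.primeCompl M)) :
    (s : WithBot ℕ∞) < ((LocCoh.depth (Localization.AtPrime p.asIdeal)
      (LocalizedModule p.asIdeal.primeCompl M) : ℕ∞) : WithBot ℕ∞) +
      Order.krullDim (Set.Icc p q) := by
  rw [krullDim_Icc δ h2 p q hpq, cast_lt_add]
  by_cases hpT : p ∈ T
  · exact lt_of_lt_of_le (hp hpT) le_self_add
  · have hne : p ≠ q := fun e => hpT (e ▸ hqT)
    have hlt : p < q := lt_of_le_of_ne hpq hne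
    have hδ := delta_lt_of_lt δ h2 p q hlt
    obtain ⟨q', hqq', hJq', hIq', hdim⟩ : ∃ q' : PrimeSpectrum A, q ≤ q' ∧ J ≤ q'.asIdeal ∧
        I ≤ q'.asIdeal ∧ Formal2.dimBetween A q.asIdeal q'.asIdeal ≤ ((d : ℕ∞) : WithBot ℕ∞) := by
      by_cases hIq : I ≤ q.asIdeal
      · refine ⟨q, le_rfl, (hT q).mp hqT q le_rfl hIq, hIq, ?_⟩
        rw [dimBetween_eq δ h2 q q le_rfl, cast_le_cast]
        simp
      · exact h3 q hIq hqT
    rw [dimBetween_eq δ h2 q q' hqq', cast_le_cast] at hdim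
    have h4' := h4 p hpI hpT q' (hpq.trans hqq') hJq' hIq'
    rw [dimBetween_eq δ h2 p q' (hpq.trans hqq'), cast_lt_add'] at h4'
    have hδ' := delta_le_of_le δ h2 q q' hqq'
    generalize LocCoh.depth (Localization.AtPrime p.asIdeal)
      (LocalizedModule p.asIdeal.primeCompl M) = Dp at h4' ⊢
    induction Dp using ENat.recTopCoe with
    | top => simp
    | coe n =>
      have h4'' : s ≤ n ∨ d + s < n + (δ p - δ q').toNat := by
        rcases h4' with h | h
        · left; exact_mod_cast h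
        · right; exact_mod_cast h
      have := arith s d n (δ p - δ q).toNat (δ q - δ q').toNat (δ p - δ q').toNat
        (by omega) (by omega) hdim h4''
      exact_mod_cast this

end Groth.Agent.Lib.Helper14.Algz
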