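import Mathlib
import Groth.Agent.Lib.Helper14AlgzB

/-! # Algebraization of local cohomology: the closure of the bad locus (helper14) -/

set_option autoImplicit false
set_option linter.unusedVariables false
set_option linter.unusedSectionVars false
set_option linter.style.haveILetI false
set_option maxHeartbeats 400000

universe u

open CategoryTheory CategoryTheory.Limits
attribute [local instance] HasDerivedCategory.standard

namespace Groth.Agent.Lib.Helper14.Algz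

open DerivedCategory Groth.Agent.Lib.Helper1.Extend Groth.Agent.Lib.Helper5.BiDual
open Groth.Agent.Lib.Helper5.DualLocal Groth.Agent.Lib.Helper5.DualMin
open Groth.Agent.Lib.Helper5.DualDim Groth.Agent.Lib.Helper5.NormDual
open Groth.Agent.Lib.Helper5.LocD
open Groth.Agent.Lib.Helper14.HDT Groth.Agent.Lib.Helper17.Hyp
open Groth.Agent.Lib.Helper14.Falt

variable {A : Type u} [CommRing A] [IsNoetherianRing A]

/-- density: a set `B` of primes is dense in each irreducible component of its closure -/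
theorem dens (B : Set (PrimeSpectrum A)) (p₀ : Ideal A)
    (hp₀ : p₀ ∈ (PrimeSpectrum.vanishingIdeal B).minimalPrimes) (f : A) (hf : f ∉ p₀) :
    ∃ p ∈ B, p₀ ≤ p.asIdeal ∧ f ∉ p.asIdeal := by
  classical
  haveI hprime : p₀.IsPrime := hp₀.1.1
  set 𝔞 := PrimeSpectrum.vanishingIdeal B with h𝔞
  have hfin := Ideal.finite_minimalPrimes_of_isNoetherianRing A 𝔞
  set S := hfin.toFinset.erase p₀ with hS
  have hS' : ¬ S.inf id ≤ p₀ := by
    rw [Ideal.IsPrime.inf_le' hprime]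
    rintro ⟨P, hPS, hPle⟩
    rw [hS, Finset.mem_erase, Set.Finite.mem_toFinset] at hPS
    have : p₀ ≤ P := hp₀.2 hPS.2.1 hPle
    exact hPS.1 (le_antisymm hPle this)
  obtain ⟨x, hxS, hxp⟩ := SetLike.not_le_iff_exists.mp hS'
  have hfx : f * x ∉ 𝔞 := fun h => by
    rcases hprime.mem_or_mem (hp₀.1.2 h) with h' | h'
    · exact hf h'
    · exact hxp h'
  rw [PrimeSpectrum.mem_vanishingIdeal] at hfx
  push Not at hfx
  obtain ⟨p, hpB, hfxp⟩ := hfx
  have h𝔞p : 𝔞 ≤ p.asIdeal := fun a ha => (PrimeSpectrum.mem_vanishingIdeal _ _).mp ha p hpB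
  obtain ⟨P, hP, hPp⟩ := Ideal.exists_minimalPrimes_le h𝔞p
  have hPeq : P = p₀ := by
    by_contra hne
    have hPS : P ∈ S := by
      rw [hS, Finset.mem_erase, Set.Finite.mem_toFinset]
      exact ⟨hne, hP⟩
    have : x ∈ P := (Finset.inf_le hPS : S.inf id ≤ id P) hxS
    exact hfxp (p.asIdeal.mul_mem_left f (hPp this))
  subst hPeq
  exact ⟨p, hpB, hPp, fun hfp => hfxp (p.asIdeal.mul_mem_right x hfp)⟩

variable (ω : Dual.D A) (hω : Dual.IsDualizing A ω) (δ : PrimeSpectrum A → ℤ)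
  (h1 : ∀ (p : PrimeSpectrum A) (i : ℤ),
    Nontrivial (LocalizedModule p.asIdeal.primeCompl
      (Dual.inD A (A ⧸ p.asIdeal) ⟶ ω⟦i⟧)) ↔ i = -δ p)
  (h2 : ∀ p q : PrimeSpectrum A, p ⋖ q → δ p = δ q + 1)
  (M : Type u) [AddCommGroup M] [Module A M] [Module.Finite A M]

/-- the bad locus: primes `p ∈ T ∖ V(I)` with `depth M_p ≤ s` -/
def Bset (I : Ideal A) (T : Set (PrimeSpectrum A)) (s : ℕ) : Set (PrimeSpectrum A) :=
  {p | ¬ I ≤ p.asIdeal ∧ p ∈ T ∧ LocCoh.depth (Localization.AtPrime p.asIdeal)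
    (LocalizedModule p.asIdeal.primeCompl M) ≤ (s : ℕ∞)}

include hω h1 h2 in
/-- **Claim I**: the generic points of the closure of the bad locus lie in `T` -/
theorem claimI (I J : Ideal A) (s d : ℕ) (T : Set (PrimeSpectrum A))
    (h3 : ∀ p : PrimeSpectrum A, ¬ I ≤ p.asIdeal → p ∈ T → ∃ q : PrimeSpectrum A, p ≤ q ∧
      J ≤ q.asIdeal ∧ I ≤ q.asIdeal ∧
      Formal2.dimBetween A p.asIdeal q.asIdeal ≤ ((d : ℕ∞) : WithBot ℕ∞))
    (h4 : ∀ p : PrimeSpectrum A, ¬ I ≤ p.asIdeal → p ∉ T → ∀ q : PrimeSpectrum A, p ≤ q →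
      J ≤ q.asIdeal → I ≤ q.asIdeal →
      (s : ℕ∞) ≤ LocCoh.depth (Localization.AtPrime p.asIdeal)
        (LocalizedModule p.asIdeal.primeCompl M) ∨
      (((d + s : ℕ) : ℕ∞) : WithBot ℕ∞) < ((LocCoh.depth (Localization.AtPrime p.asIdeal)
        (LocalizedModule p.asIdeal.primeCompl M) : ℕ∞) : WithBot ℕ∞) +
        Formal2.dimBetween A p.asIdeal q.asIdeal)
    (p₀ : Ideal A) (hp₀ : p₀ ∈ (PrimeSpectrum.vanishingIdeal (Bset M I T s)).minimalPrimes) :
    (⟨p₀, hp₀.1.1⟩ : PrimeSpectrum A) ∈ T := by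
  classical
  set P₀ : PrimeSpectrum A := ⟨p₀, hp₀.1.1⟩ with hP₀
  have hone : (1 : A) ∉ p₀ := fun h => hp₀.1.1.ne_top ((Ideal.eq_top_iff_one _).mpr h)
  by_contra hnT
  obtain ⟨p1, hp1B, hp1le, -⟩ := dens (Bset M I T s) p₀ hp₀ 1 hone
  have hIp₀ : ¬ I ≤ P₀.asIdeal := fun h => hp1B.1 (h.trans hp1le)
  by_cases hsupp : P₀ ∈ Module.support A M
  · obtain ⟨e₀, d₀, -, -, hdepth₀, -, hrange₀, -, hd₀⟩ := profile ω hω δ h1 h2 M P₀ hsupp
    obtain ⟨lo, hi, hbd⟩ := delta_bounds ω hω δ h1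
    have hf : ∀ n : ℕ, ∃ f : A, f ∉ p₀ ∧ ∀ j : ℤ, -δ P₀ - (d₀ : ℤ) < j →
        j ≤ -δ P₀ - (d₀ : ℤ) + (n : ℤ) → ∀ t : (Dual.inD A M ⟶ ω⟦j⟧), f • t = 0 := by
      intro n
      induction n with
      | zero =>
        refine ⟨1, hone, fun j hj1 hj2 => ?_⟩
        exfalso
        push_cast at hj2
        omega
      | succ n ih =>
        obtain ⟨f, hfp, hf⟩ := ih
        have hj₁ : ∃ j₁ : ℤ, j₁ = -δ P₀ - (d₀ : ℤ) + ((n : ℤ) + 1) := ⟨_, rfl⟩
        obtain ⟨j₁, hj₁⟩ := hj₁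
        haveI := finite_ext ω hω M j₁
        have hns : P₀ ∉ Module.support A (Dual.inD A M ⟶ ω⟦j₁⟧) := fun hmem => by
          have := (hrange₀ j₁ hmem).2
          omega
        rw [Module.mem_support_iff_of_finite] at hns
        obtain ⟨g, hgann, hgp⟩ := SetLike.not_le_iff_exists.mp hns
        refine ⟨f * g, fun h => (hp₀.1.1.mem_or_mem h).elim hfp hgp, fun j hj1 hj2 t => ?_⟩
        by_cases hjn : j ≤ -δ P₀ - (d₀ : ℤ) + (n : ℤ)
        · rw [mul_comm, mul_smul, hf j hj1 hjn t, smul_zero]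
        · have hj : j = j₁ := by
            push_cast at hj2
            omega
          subst hj
          rw [mul_smul, Module.mem_annihilator.mp hgann t, smul_zero]
    obtain ⟨f, hfp, hf⟩ := hf ((-lo) - (-δ P₀ - (d₀ : ℤ))).toNat
    obtain ⟨p, hpB, hp₀p, hfpp⟩ := dens (Bset M I T s) p₀ hp₀ f hfp
    obtain ⟨hIp, hpT, hdp⟩ := hpB
    have hpsupp : p ∈ Module.support A M := by
      by_contra hns
      rw [depth_eq_top_of_notMem_support M p hns] at hdp
      exact absurd hdp (by simp)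
    obtain ⟨e, dp, -, -, hdepth, -, hrange, -, hd⟩ := profile ω hω δ h1 h2 M p hpsupp
    rw [hdepth] at hdp
    have hdps : dp ≤ s := by exact_mod_cast hdp
    have hkey : -δ p - (dp : ℤ) ≤ -δ P₀ - (d₀ : ℤ) := by
      by_contra hlt
      push Not at hlt
      have hLZ : LZ ω p.asIdeal (-δ p - (dp : ℤ)) (Dual.inD A M) := fun t =>
        ⟨f, hfpp, hf _ hlt (by have := (hbd p).1; omega) t⟩
      exact (mem_support_hom_iff ω p _ _).mp hd hLZ
    have hle : P₀ ≤ p := hp₀p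
    have hne : P₀ ≠ p := fun e => hnT (e ▸ hpT)
    have hlt : P₀ < p := lt_of_le_of_ne hle hne
    have hδ := delta_lt_of_lt δ h2 P₀ p hlt
    obtain ⟨q', hpq', hJq', hIq', hdim⟩ := h3 p hIp hpT
    rw [dimBetween_eq δ h2 p q' hpq', cast_le_cast] at hdim
    have h4' := h4 P₀ hIp₀ hnT q' (le_trans hle hpq') hJq' hIq'
    rw [dimBetween_eq δ h2 P₀ q' (le_trans hle hpq'), cast_lt_add', hdepth₀] at h4'
    have hδ' := delta_le_of_le δ h2 p q' hpq'
    rcases h4' with h | h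
    · have : s ≤ d₀ := by exact_mod_cast h
      omega
    · have : d + s < d₀ + (δ P₀ - δ q').toNat := by exact_mod_cast h
      omega
  · rw [Module.mem_support_iff_of_finite] at hsupp
    obtain ⟨f, hfann, hfp⟩ := SetLike.not_le_iff_exists.mp hsupp
    obtain ⟨p, hpB, hp₀p, hfpp⟩ := dens (Bset M I T s) p₀ hp₀ f hfp
    have hns : p ∉ Module.support A M := by
      rw [Module.mem_support_iff_of_finite]
      exact fun hle => hfpp (hle hfann)
    have hdp := hpB.2.2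
    rw [depth_eq_top_of_notMem_support M p hns] at hdp
    exact absurd hdp (by simp)

end Groth.Agent.Lib.Helper14.Algz
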