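import Mathlib
import Groth.Agent.Lib.Helper14AlgzC
import Groth.Agent.S1727

/-! # Algebraization of local cohomology (Stacks 52.10): assembly (helper14) -/

set_option autoImplicit false
set_option linter.unusedVariables false
set_option linter.unusedSectionVars false
set_option linter.style.haveILetI false
set_option maxHeartbeats 400000

universe u

open CategoryTheory CategoryTheory.Limits
attribute [local instance] HasDerivedCategory.standard

namespace Groth.Agent.Lib.Helper14.Algz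

open DerivedCategory Groth.Agent.Lib.Helper1.Extend Groth.Agent.Lib.Helper5.BiDual
open Groth.Agent.Lib.Helper5.DualLocal Groth.Agent.Lib.Helper5.DualMin
open Groth.Agent.Lib.Helper5.DualDim Groth.Agent.Lib.Helper5.NormDual
open Groth.Agent.Lib.Helper5.LocD
open Groth.Agent.Lib.Helper14.HDT Groth.Agent.Lib.Helper17.Hyp
open Groth.Agent.Lib.Helper14.Falt

variable {A : Type u} [CommRing A] [IsNoetherianRing A]

lemma mem_zl {I : Ideal A} {q : PrimeSpectrum A} :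
    q ∈ PrimeSpectrum.zeroLocus (I : Set A) ↔ I ≤ q.asIdeal := by
  rw [PrimeSpectrum.mem_zeroLocus, SetLike.coe_subset_coe]

lemma stable_zl (I : Ideal A) :
    StableUnderSpecialization (PrimeSpectrum.zeroLocus (I : Set A)) := by
  intro x y hxy hx
  exact mem_zl.mpr (le_trans (mem_zl.mp hx) ((PrimeSpectrum.le_iff_specializes x y).mpr hxy))

variable (hdc : ∃ ω : Dual.D A, Dual.IsDualizing A ω)
  (M : Type u) [AddCommGroup M] [Module A M] [Module.Finite A M]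

include hdc in
/-- annihilation of `H^i_𝔞(M)`, `i ≤ s`, by a power of `𝔠` from the depth condition on pairs -/
theorem ann_of_pairs (𝔞 𝔠 : Ideal A) (s : ℕ)
    (hpair : ∀ p q : PrimeSpectrum A, ¬ 𝔠 ≤ p.asIdeal → 𝔞 ≤ q.asIdeal → p ≤ q →
      (s : WithBot ℕ∞) < ((LocCoh.depth (Localization.AtPrime p.asIdeal)
        (LocalizedModule p.asIdeal.primeCompl M) : ℕ∞) : WithBot ℕ∞) +
        Order.krullDim (Set.Icc p q)) :
    ∃ n : ℕ, ∀ a ∈ 𝔠 ^ n, ∀ i : ℕ, i ≤ s → ∀ x : LocCoh.H 𝔞 i M, a • x = 0 := by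
  obtain ⟨K, hK, hkill⟩ := (faltings M (PrimeSpectrum.zeroLocus (𝔞 : Set A))
    (PrimeSpectrum.zeroLocus (𝔠 : Set A)) (stable_zl 𝔞) (stable_zl 𝔠) hdc s).mpr
    (fun p q hp hq hpq => hpair p q (fun h => hp (mem_zl.mpr h)) (mem_zl.mp hq) hpq)
  have hrad : 𝔠 ≤ K.radical := (zl_sub_iff 𝔠 K).mp hK
  obtain ⟨n, hn⟩ := Ideal.exists_pow_le_of_le_radical_of_fg hrad (IsNoetherian.noetherian 𝔠)
  refine ⟨n, fun a ha i hi x => ?_⟩
  apply (bridgeEquiv 𝔞 i M).symm.injective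
  rw [map_smul, map_zero]
  exact hkill i hi a (hn ha) _

include hdc in
/-- finiteness of `H^i_𝔞(M)`, `i ≤ s`, from the depth condition on pairs -/
theorem finite_of_pairs (𝔞 : Ideal A) (s : ℕ)
    (hpair : ∀ p q : PrimeSpectrum A, ¬ 𝔞 ≤ p.asIdeal → 𝔞 ≤ q.asIdeal → p ≤ q →
      (s : WithBot ℕ∞) < ((LocCoh.depth (Localization.AtPrime p.asIdeal)
        (LocalizedModule p.asIdeal.primeCompl M) : ℕ∞) : WithBot ℕ∞) +
        Order.krullDim (Set.Icc p q)) :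
    ∀ i : ℕ, i ≤ s → Module.Finite A (LocCoh.H 𝔞 i M) := by
  have hfin := (Groth.Agent.S1727.result A hdc (PrimeSpectrum.zeroLocus (𝔞 : Set A))
    (stable_zl 𝔞) s M).mpr
    (fun p q hp hq hpq => hpair p q (fun h => hp (mem_zl.mpr h)) (mem_zl.mp hq) hpq)
  intro i hi
  haveI := hfin i hi
  exact Module.Finite.equiv (bridgeEquiv 𝔞 i M)

variable (I J : Ideal A) (s d : ℕ) (T : Set (PrimeSpectrum A))
  (hT : ∀ p : PrimeSpectrum A, p ∈ T ↔
    ∀ q : PrimeSpectrum A, p ≤ q → I ≤ q.asIdeal → J ≤ q.asIdeal)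
  (h3 : ∀ p : PrimeSpectrum A, ¬ I ≤ p.asIdeal → p ∈ T → ∃ q : PrimeSpectrum A, p ≤ q ∧
    J ≤ q.asIdeal ∧ I ≤ q.asIdeal ∧
    Formal2.dimBetween A p.asIdeal q.asIdeal ≤ ((d : ℕ∞) : WithBot ℕ∞))
  (h4 : ∀ p : PrimeSpectrum A, ¬ I ≤ p.asIdeal → p ∉ T → ∀ q : PrimeSpectrum A, p ≤ q →
    J ≤ q.asIdeal → I ≤ q.asIdeal →
    (s : ℕ∞) ≤ LocCoh.depth (Localization.AtPrime p.asIdeal)
      (LocalizedModule p.asIdeal.primeCompl M) ∨
    (((d + s : ℕ) : ℕ∞) : WithBot ℕ∞) < ((LocCoh.depth (Localization.AtPrime p.asIdeal)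
      (LocalizedModule p.asIdeal.primeCompl M) : ℕ∞) : WithBot ℕ∞) +
      Formal2.dimBetween A p.asIdeal q.asIdeal)

include hT in
lemma T_stable (p q : PrimeSpectrum A) (hpq : p ≤ q) (hp : p ∈ T) : q ∈ T := by
  rw [hT] at hp ⊢
  intro q' hqq' hIq'
  exact hp q' (le_trans hpq hqq') hIq'

include hT in
lemma mem_T_of_J_le (q : PrimeSpectrum A) (hq : J ≤ q.asIdeal) : q ∈ T := by
  rw [hT]
  intro q' hqq' _
  exact le_trans hq hqq'

include hdc hT h3 h4 in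
/-- the three conclusions of the algebraization lemma for an ideal `J₀ ≤ J` with `V(J₀) ⊆ T`
containing the bad locus -/
theorem main_abstract (J₀ : Ideal A) (hJ₀J : J₀ ≤ J)
    (hJ₀T : ∀ q : PrimeSpectrum A, J₀ ≤ q.asIdeal → q ∈ T)
    (hB : ∀ p : PrimeSpectrum A, ¬ I ≤ p.asIdeal → p ∈ T → ¬ J₀ ≤ p.asIdeal →
      (s : ℕ∞) < LocCoh.depth (Localization.AtPrime p.asIdeal)
        (LocalizedModule p.asIdeal.primeCompl M)) :
    PrimeSpectrum.zeroLocus ((J₀ : Ideal A) : Set A) ∩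
        PrimeSpectrum.zeroLocus ((I : Ideal A) : Set A) =
      PrimeSpectrum.zeroLocus ((J : Ideal A) : Set A) ∩
        PrimeSpectrum.zeroLocus ((I : Ideal A) : Set A) ∧
    (∀ (J' : Ideal A) (hJ' : J' ≤ J₀),
      PrimeSpectrum.zeroLocus ((J' : Ideal A) : Set A) ∩
          PrimeSpectrum.zeroLocus ((I : Ideal A) : Set A) =
        PrimeSpectrum.zeroLocus ((J : Ideal A) : Set A) ∩
          PrimeSpectrum.zeroLocus ((I : Ideal A) : Set A) →
      ∀ i : ℕ, i ≤ s →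
        Function.Bijective ((Dual2.HmapOfLE hJ' i).app (ModuleCat.of A M)).hom) ∧
    (∃ n : ℕ, ∀ a ∈ (J₀ * I) ^ n, ∀ i : ℕ, i ≤ s → ∀ x : LocCoh.H J₀ i M, a • x = 0) := by
  have hdc' := hdc
  obtain ⟨ω, hω⟩ := hdc'
  obtain ⟨δ, h1, h2⟩ := Groth.Agent.Lib.Helper5.DualDim.main A ω hω
  refine ⟨?_, ?_, ?_⟩
  · apply Set.Subset.antisymm
    · rintro q ⟨hq1, hq2⟩
      exact ⟨mem_zl.mpr ((hT q).mp (hJ₀T q (mem_zl.mp hq1)) q le_rfl (mem_zl.mp hq2)), hq2⟩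
    · rintro q ⟨hq1, hq2⟩
      exact ⟨mem_zl.mpr (le_trans hJ₀J (mem_zl.mp hq1)), hq2⟩
  · intro J' hJ' hzl
    refine comparison M s J' J₀ hJ' (fun p hp hJ'p hJ₀p => ?_)
    let P : PrimeSpectrum A := ⟨p, hp⟩
    have hzl' : ∀ q : PrimeSpectrum A, J' ≤ q.asIdeal → I ≤ q.asIdeal → J ≤ q.asIdeal := by
      intro q h1q h2q
      have : q ∈ PrimeSpectrum.zeroLocus ((J : Ideal A) : Set A) ∩
          PrimeSpectrum.zeroLocus ((I : Ideal A) : Set A) := by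
        rw [← hzl]
        exact ⟨mem_zl.mpr h1q, mem_zl.mpr h2q⟩
      exact mem_zl.mp this.1
    have hIP : ¬ I ≤ P.asIdeal := fun hIp => hJ₀p (le_trans hJ₀J (hzl' P hJ'p hIp))
    have hPT : P ∈ T := by
      rw [hT]
      intro q hPq hIq
      exact hzl' q (le_trans hJ'p hPq) hIq
    exact locVanAt_of_depth ω hω δ h1 h2 M P s (hB P hIP hPT hJ₀p)
  · refine ann_of_pairs hdc M J₀ (J₀ * I) s (fun p q hp hq hpq => ?_)
    have hpJ₀ : ¬ J₀ ≤ p.asIdeal := fun h => hp (le_trans Ideal.mul_le_left h)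
    have hpI : ¬ I ≤ p.asIdeal := fun h => hp (le_trans Ideal.mul_le_right h)
    exact pair_cond ω hω δ h1 h2 M I J s d T hT h3 h4 p q hpI (hJ₀T q hq) hpq
      (fun hpT => hB p hpI hpT hpJ₀)

include hdc hT h3 h4 in
/-- existence of the ideal `J₀`: `V(J₀)` is the closure of the bad locus together with `V(J)` -/
theorem exists_J₀ :
    ∃ J₀ : Ideal A, J₀ ≤ J ∧ (∀ q : PrimeSpectrum A, J₀ ≤ q.asIdeal → q ∈ T) ∧
      (∀ p : PrimeSpectrum A, ¬ I ≤ p.asIdeal → p ∈ T → ¬ J₀ ≤ p.asIdeal →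
        (s : ℕ∞) < LocCoh.depth (Localization.AtPrime p.asIdeal)
          (LocalizedModule p.asIdeal.primeCompl M)) := by
  have hdc' := hdc
  obtain ⟨ω, hω⟩ := hdc'
  obtain ⟨δ, h1, h2⟩ := Groth.Agent.Lib.Helper5.DualDim.main A ω hω
  refine ⟨PrimeSpectrum.vanishingIdeal (Bset M I T s) ⊓ J, inf_le_right, ?_, ?_⟩
  · intro q hq
    have hmul : PrimeSpectrum.vanishingIdeal (Bset M I T s) * J ≤ q.asIdeal :=
      le_trans Ideal.mul_le_inf hq
    rcases (q.isPrime.mul_le).mp hmul with h | h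
    · obtain ⟨p₀, hp₀, hp₀q⟩ := Ideal.exists_minimalPrimes_le h
      have := claimI ω hω δ h1 h2 M I J s d T h3 h4 p₀ hp₀
      exact T_stable I J T hT _ q hp₀q this
    · exact mem_T_of_J_le I J T hT q h
  · intro p hIp hpT hJ₀p
    by_contra hle
    push Not at hle
    apply hJ₀p
    have hpB : p ∈ Bset M I T s := ⟨hIp, hpT, hle⟩
    exact le_trans inf_le_left
      (fun a ha => (PrimeSpectrum.mem_vanishingIdeal _ _).mp ha p hpB)

include hdc hT h3 h4 in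
/-- finiteness of `H^i_{J₀}(M)`, `i ≤ s`, under the additional hypothesis (2') -/
theorem main_finite
    (h2' : ∀ p : PrimeSpectrum A, I ≤ p.asIdeal → ¬ J ≤ p.asIdeal → ∀ q : PrimeSpectrum A,
      p ≤ q → J ≤ q.asIdeal → I ≤ q.asIdeal →
      ((s : ℕ∞) : WithBot ℕ∞) < ((LocCoh.depth (Localization.AtPrime p.asIdeal)
        (LocalizedModule p.asIdeal.primeCompl M) : ℕ∞) : WithBot ℕ∞) +
        Formal2.dimBetween A p.asIdeal q.asIdeal)
    (J₀ : Ideal A) (hJ₀J : J₀ ≤ J)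
    (hJ₀T : ∀ q : PrimeSpectrum A, J₀ ≤ q.asIdeal → q ∈ T)
    (hB : ∀ p : PrimeSpectrum A, ¬ I ≤ p.asIdeal → p ∈ T → ¬ J₀ ≤ p.asIdeal →
      (s : ℕ∞) < LocCoh.depth (Localization.AtPrime p.asIdeal)
        (LocalizedModule p.asIdeal.primeCompl M)) :
    ∀ i : ℕ, i ≤ s → Module.Finite A (LocCoh.H J₀ i M) := by
  have hdc' := hdc
  obtain ⟨ω, hω⟩ := hdc'
  obtain ⟨δ, h1, h2⟩ := Groth.Agent.Lib.Helper5.DualDim.main A ω hω
  refine finite_of_pairs hdc M J₀ s (fun p q hp hq hpq => ?_)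
  by_cases hpI : I ≤ p.asIdeal
  · have hqT := hJ₀T q hq
    have hIq : I ≤ q.asIdeal := le_trans hpI hpq
    have hJq : J ≤ q.asIdeal := (hT q).mp hqT q le_rfl hIq
    have hJp : ¬ J ≤ p.asIdeal := fun h => hp (le_trans hJ₀J h)
    have := h2' p hpI hJp q hpq hJq hIq
    rw [dimBetween_eq δ h2 p q hpq, cast_lt_add'] at this
    rw [krullDim_Icc δ h2 p q hpq, cast_lt_add]
    exact this
  · exact pair_cond ω hω δ h1 h2 M I J s d T hT h3 h4 p q hpI (hJ₀T q hq) hpq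
      (fun hpT => hB p hpI hpT hp)

include hdc hT h3 h4 in
/-- the additional conclusions under hypothesis (6) -/
theorem main_h6
    (h6 : ∀ p : PrimeSpectrum A, ¬ I ≤ p.asIdeal → p ∈ T →
      (s : ℕ∞) < LocCoh.depth (Localization.AtPrime p.asIdeal)
        (LocalizedModule p.asIdeal.primeCompl M)) (hJJ : J ≤ J) :
    (∀ i : ℕ, i ≤ s →
      Function.Bijective ((Dual2.HmapOfLE hJJ i).app (ModuleCat.of A M)).hom ∧
      Function.Bijective
        ((Dual2.HmapOfLE (le_sup_left : J ≤ J ⊔ I) i).app (ModuleCat.of A M)).hom) ∧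
    ∃ n : ℕ, ∀ a ∈ I ^ n, ∀ i : ℕ, i ≤ s → ∀ x : LocCoh.H J i M, a • x = 0 := by
  have hdc' := hdc
  obtain ⟨ω, hω⟩ := hdc'
  obtain ⟨δ, h1, h2⟩ := Groth.Agent.Lib.Helper5.DualDim.main A ω hω
  refine ⟨fun i hi => ⟨HmapOfLE_bijective_of_eq hJJ rfl i _, ?_⟩, ?_⟩
  · refine comparison M s J (J ⊔ I) le_sup_left (fun p hp hJp hJIp => ?_) i hi
    let P : PrimeSpectrum A := ⟨p, hp⟩
    have hIP : ¬ I ≤ P.asIdeal := fun h => hJIp (sup_le hJp h)
    have hPT : P ∈ T := mem_T_of_J_le I J T hT P hJp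
    exact locVanAt_of_depth ω hω δ h1 h2 M P s (h6 P hIP hPT)
  · refine ann_of_pairs hdc M J I s (fun p q hp hq hpq => ?_)
    exact pair_cond ω hω δ h1 h2 M I J s d T hT h3 h4 p q hp (mem_T_of_J_le I J T hT q hq) hpq
      (fun hpT => h6 p hp hpT)

end Groth.Agent.Lib.Helper14.Algz
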