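import Mathlib
import Groth.Agent.Lib.Helper4DimFormulaAN
import Groth.Agent.Lib.Helper4DimFormulaAJ

/-!
# Associated points of fibre modules, part A: Chevalley semicontinuity on closed subsets (helper14)

For `f : X ⟶ Y` locally of finite type, a subset `K` of `X`, a point `x` and `n : ℕ`,
`HasGen f K x n` says that `x` has a generization `x'` in its fibre, lying in `K`, whose residue
field has transcendence degree at least `n` over `κ(f x)`.  For `K` closed this says that the local
dimension at `x` of `K ∩ f⁻¹(f x)` is at least `n`, and Chevalley's theorem makes the locus closed.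
-/

set_option autoImplicit false
set_option linter.unusedVariables false
set_option linter.unusedSectionVars false
set_option linter.style.haveILetI false
set_option maxHeartbeats 400000

universe u

open CategoryTheory Limits AlgebraicGeometry TopologicalSpace Topology

namespace Groth.Agent.Lib.Helper14.FibAssA

open Groth.Agent.Lib.Helper4.DimFormula Groth.Agent.Lib.Helper4.VarDim
  Groth.Agent.Lib.Helper4.FibDim

variable {X Y : Scheme.{u}} (f : X ⟶ Y) [LocallyOfFiniteType f]

/-- `x` has a generization in its fibre, lying in `K`, of transcendence degree at least `n`. -/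
def HasGen (K : Set X) (x : X) (n : ℕ) : Prop :=
  ∃ x' ∈ K, f.base x' = f.base x ∧ x' ⤳ x ∧ n ≤ ptTrdeg f x'

theorem HasGen.mono {K K' : Set X} (h : K ⊆ K') {x : X} {n m : ℕ} (hmn : m ≤ n)
    (hx : HasGen f K x n) : HasGen f K' x m := by
  obtain ⟨x', hx'K, h1, h2, h3⟩ := hx
  exact ⟨x', h hx'K, h1, h2, hmn.trans h3⟩

theorem HasGen.mem {K : Set X} (hK : IsClosed K) {x : X} {n : ℕ} (hx : HasGen f K x n) :
    x ∈ K := by
  obtain ⟨x', hx'K, -, h2, -⟩ := hx
  exact hK.closure_subset_iff.mpr (Set.singleton_subset_iff.mpr hx'K) h2.mem_closure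

theorem hasGen_zero_iff {K : Set X} (hK : IsClosed K) (x : X) : HasGen f K x 0 ↔ x ∈ K :=
  ⟨fun h => h.mem f hK, fun h => ⟨x, h, rfl, specializes_rfl, Nat.zero_le _⟩⟩

/-- a bound for the transcendence degrees in terms of the fibre dimension. -/
theorem HasGen.le_fibreDimAt {K : Set X} {x : X} {n : ℕ} (hx : HasGen f K x n) :
    (n : WithBot ℕ∞) ≤ FlatMor.fibreDimAt f x := by
  obtain ⟨x', -, -, h2, h3⟩ := hx
  calc (n : WithBot ℕ∞) ≤ (ptTrdeg f x' : WithBot ℕ∞) := by exact_mod_cast h3
    _ ≤ FlatMor.fibreDimAt f x' := ptTrdeg_le_fibreDimAt f x'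
    _ ≤ FlatMor.fibreDimAt f x := fibreDimAt_le_of_specializes f x' x h2

/-- **Chevalley's semicontinuity theorem on a closed subset.** -/
theorem isClosed_hasGen (K : Set X) (hK : IsClosed K) (n : ℕ) :
    IsClosed {x : X | HasGen f K x n} := by
  rcases n with _ | m
  · have : {x : X | HasGen f K x 0} = K := by
      ext x
      exact hasGen_zero_iff f hK x
    rw [this]
    exact hK
  obtain ⟨Z, ι, hι, hrange⟩ := exists_isClosedImmersion_range_eq X K hK
  have hopen := isOpen_setOf_fibreDimAt_le' (ι ≫ f) ((m : ℕ) : WithBot ℕ∞)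
  have heq : {x : X | HasGen f K x (m + 1)} =
      ι.base '' {k : Z | FlatMor.fibreDimAt (ι ≫ f) k ≤ ((m : ℕ) : WithBot ℕ∞)}ᶜ := by
    ext x
    constructor
    · rintro ⟨x', hx'K, h1, h2, h3⟩
      have hxK : x ∈ K :=
        hK.closure_subset_iff.mpr (Set.singleton_subset_iff.mpr hx'K) h2.mem_closure
      rw [← hrange] at hxK hx'K
      obtain ⟨k, rfl⟩ := hxK
      obtain ⟨k', rfl⟩ := hx'K
      refine ⟨k, ?_, rfl⟩
      have hsp : k' ⤳ k := ι.isEmbedding.isInducing.specializes_iff.mp h2
      intro hle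
      have hle : FlatMor.fibreDimAt (ι ≫ f) k ≤ ((m : ℕ) : WithBot ℕ∞) := hle
      have h4 := ptTrdeg_le_fibreDimAt (ι ≫ f) k'
      rw [ptTrdeg_comp_of_isPreimmersion ι f k'] at h4
      have h5 := (h4.trans (fibreDimAt_le_of_specializes (ι ≫ f) k' k hsp)).trans hle
      have h6 : ptTrdeg f (ι.base k') ≤ m := by exact_mod_cast h5
      omega
    · rintro ⟨k, hk, rfl⟩
      have hk' : ¬ FlatMor.fibreDimAt (ι ≫ f) k ≤ ((m : ℕ) : WithBot ℕ∞) := hk
      by_contra hcon
      apply hk'
      refine fibreDimAt_le_of_forall_maximal (ι ≫ f) k m ?_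
      intro w' hw'1 hw'2 _
      by_contra hlt
      rw [not_le] at hlt
      apply hcon
      refine ⟨ι.base w', ?_, hw'1, hw'2.map ι.continuous, ?_⟩
      · rw [← hrange]
        exact ⟨w', rfl⟩
      · rw [ptTrdeg_comp_of_isPreimmersion ι f w'] at hlt
        omega
  rw [heq]
  exact ι.isClosedEmbedding.isClosedMap _ hopen.isClosed_compl

end Groth.Agent.Lib.Helper14.FibAssA
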