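import Mathlib
import Groth.Agent.Lib.Helper14FibAssA
import Groth.Agent.S0402
import Groth.Agent.S9355

/-!
# Constructibility of the Chevalley loci of a closed constructible subset (helper14)

For `f : X ⟶ Y` locally of finite presentation and `K ⊆ X` closed and locally constructible, the
closed set `{x | HasGen f K x n}` of points `x` with `dim_x (K ∩ f⁻¹(f x)) ≥ n` is locally
constructible.
-/

set_option autoImplicit false
set_option linter.unusedVariables false
set_option linter.unusedSectionVars false
set_option linter.style.haveILetI false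
set_option maxHeartbeats 400000

universe u

open CategoryTheory Limits AlgebraicGeometry TopologicalSpace Topology
open scoped Set.Notation

namespace Groth.Agent.Lib.Helper14.ConsGenA

open Groth.Agent.Lib.Helper4.DimFormula Groth.Agent.Lib.Helper4.VarDim
  Groth.Agent.Lib.Helper4.FibDim
open Groth.Agent.Lib.Helper14.FibAssA

section Top

/-- constructibility in an open subspace, read through an open embedding onto it. -/
theorem isConstructible_range_preimage_val {A X : Type*} [TopologicalSpace A] [TopologicalSpace X]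
    (j : A → X) (hj : IsOpenEmbedding j) (s : Set X) (h : IsConstructible (j ⁻¹' s)) :
    IsConstructible ((Set.range j) ↓∩ s) := by
  let e : A ≃ₜ Set.range j := hj.isEmbedding.toHomeomorph
  have he : ∀ u : Set.range j, j (e.symm u) = u.1 := by
    intro u
    have h1 : e (e.symm u) = u := e.apply_symm_apply u
    exact congrArg Subtype.val h1
  have : (Set.range j) ↓∩ s = e.symm ⁻¹' (j ⁻¹' s) := by
    ext u
    simp only [Set.mem_preimage]
    rw [he u]
  rw [this]
  exact h.preimage_of_isOpenEmbedding e.symm.isOpenEmbedding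

/-- constructible subsets of a prime spectrum are quasi-compact. -/
theorem isCompact_of_isConstructible {R : Type*} [CommRing R] {s : Set (PrimeSpectrum R)}
    (hs : IsConstructible s) : IsCompact s := by
  obtain ⟨S, rfl⟩ := PrimeSpectrum.exists_constructibleSetData_iff.mpr hs
  unfold PrimeSpectrum.ConstructibleSetData.toSet
  refine S.finite_toSet.isCompact_biUnion fun C _ => ?_
  unfold PrimeSpectrum.BasicConstructibleSetData.toSet
  have h1 : PrimeSpectrum.zeroLocus (Set.range C.g) \ PrimeSpectrum.zeroLocus {C.f} =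
      (PrimeSpectrum.basicOpen C.f : Set (PrimeSpectrum R)) ∩
        PrimeSpectrum.zeroLocus (Set.range C.g) := by
    rw [PrimeSpectrum.basicOpen_eq_zeroLocus_compl, Set.sdiff_eq, Set.inter_comm]
  rw [h1]
  exact (PrimeSpectrum.isCompact_basicOpen C.f).inter_right (PrimeSpectrum.isClosed_zeroLocus _)

/-- a closed constructible subset of a prime spectrum is the zero locus of a finitely generated
ideal. -/
theorem exists_fg_zeroLocus_eq {R : Type*} [CommRing R] {s : Set (PrimeSpectrum R)}
    (hs : IsConstructible s) (hcl : IsClosed s) :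
    ∃ I : Ideal R, I.FG ∧ PrimeSpectrum.zeroLocus (I : Set R) = s := by
  have h1 : IsCompact sᶜ := isCompact_of_isConstructible hs.compl
  obtain ⟨I, hI, hIs⟩ := PrimeSpectrum.isCompact_isOpen_iff_ideal.mp ⟨h1, hcl.isOpen_compl⟩
  exact ⟨I, hI, compl_injective hIs⟩

end Top

variable {X Y : Scheme.{u}} (f : X ⟶ Y) [LocallyOfFiniteType f]

/-- **Chevalley loci through an immersion.** If `ι : Z ⟶ X` is a preimmersion whose range is the
trace `K ∩ U` of a closed set `K` on an open set `U`, the points of `U` with `HasGen f K x (m+1)`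
are the images of the points of `Z` where the fibre dimension of `ι ≫ f` exceeds `m`. -/
theorem hasGen_inter_eq_image {Z : Scheme.{u}} (ι : Z ⟶ X) [IsPreimmersion ι]
    [LocallyOfFiniteType ι] (K U : Set X) (hK : IsClosed K) (hU : IsOpen U)
    (hrange : Set.range ι.base = K ∩ U) (m : ℕ) :
    {x : X | HasGen f K x (m + 1)} ∩ U =
      ι.base '' {k : Z | FlatMor.fibreDimAt (ι ≫ f) k ≤ ((m : ℕ) : WithBot ℕ∞)}ᶜ := by
  ext x
  constructor
  · rintro ⟨⟨x', hx'K, h1, h2, h3⟩, hxU⟩
    have hxK : x ∈ K :=
      hK.closure_subset_iff.mpr (Set.singleton_subset_iff.mpr hx'K) h2.mem_closure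
    have hx'U : x' ∈ U := h2.mem_open hU hxU
    have hxr : x ∈ Set.range ι.base := hrange ▸ ⟨hxK, hxU⟩
    have hx'r : x' ∈ Set.range ι.base := hrange ▸ ⟨hx'K, hx'U⟩
    obtain ⟨k, rfl⟩ := hxr
    obtain ⟨k', rfl⟩ := hx'r
    refine ⟨k, ?_, rfl⟩
    have hsp : k' ⤳ k := ι.isEmbedding.isInducing.specializes_iff.mp h2
    intro hle
    have hle : FlatMor.fibreDimAt (ι ≫ f) k ≤ ((m : ℕ) : WithBot ℕ∞) := hle
    have h4 := ptTrdeg_le_fibreDimAt (ι ≫ f) k'
    rw [ptTrdeg_comp_of_isPreimmersion ι f k'] at h4
    have h5 := (h4.trans (fibreDimAt_le_of_specializes (ι ≫ f) k' k hsp)).trans hle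
    have h6 : ptTrdeg f (ι.base k') ≤ m := by exact_mod_cast h5
    omega
  · rintro ⟨k, hk, rfl⟩
    have hkr : ι.base k ∈ K ∩ U := hrange ▸ ⟨k, rfl⟩
    refine ⟨?_, hkr.2⟩
    have hk' : ¬ FlatMor.fibreDimAt (ι ≫ f) k ≤ ((m : ℕ) : WithBot ℕ∞) := hk
    by_contra hcon
    apply hk'
    refine fibreDimAt_le_of_forall_maximal (ι ≫ f) k m ?_
    intro w' hw'1 hw'2 _
    by_contra hlt
    rw [not_le] at hlt
    apply hcon
    refine ⟨ι.base w', ?_, hw'1, hw'2.map ι.continuous, ?_⟩
    · have : ι.base w' ∈ K ∩ U := hrange ▸ ⟨w', rfl⟩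
      exact this.1
    · rw [ptTrdeg_comp_of_isPreimmersion ι f w'] at hlt
      omega

section Main

variable {X Y : Scheme.{u}} (f : X ⟶ Y) [LocallyOfFinitePresentation f]

/-- **Constructibility of the Chevalley loci** of a closed locally constructible subset. -/
theorem isLocallyConstructible_hasGen (K : Set X) (hK : IsClosed K)
    (hKc : IsLocallyConstructible K) (n : ℕ) :
    IsLocallyConstructible {x : X | HasGen f K x n} := by
  rcases n with _ | m
  · have : {x : X | HasGen f K x 0} = K := by
      ext x
      exact hasGen_zero_iff f hK x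
    rw [this]
    exact hKc
  refine IsLocallyConstructible.of_isOpenCover X.affineCover.isOpenCover_opensRange fun i => ?_
  set U : X.Opens := (X.affineCover.f i).opensRange with hUdef
  have hU : IsAffineOpen U := isAffineOpen_opensRange (X.affineCover.f i)
  set j := hU.fromSpec with hj
  have hjr : Set.range j.base = (U : Set X) := hU.range_fromSpec
  -- the trace of `K` on `U` is cut out by a finitely generated ideal
  have hTc : IsConstructible (j.base ⁻¹' K) :=
    (hKc.preimage_of_isOpenEmbedding j.isOpenEmbedding).isConstructible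
  have hTcl : IsClosed (j.base ⁻¹' K) := hK.preimage j.continuous
  obtain ⟨I, hI, hIT⟩ := exists_fg_zeroLocus_eq (R := Γ(X, U)) hTc hTcl
  let φ : Γ(X, U) ⟶ CommRingCat.of (Γ(X, U) ⧸ I) := CommRingCat.ofHom (Ideal.Quotient.mk I)
  have hφs : Function.Surjective φ.hom := Ideal.Quotient.mk_surjective
  haveI : IsClosedImmersion (Spec.map φ) := IsClosedImmersion.spec_of_surjective φ hφs
  haveI : LocallyOfFinitePresentation (Spec.map φ) := by
    rw [HasRingHomProperty.Spec_iff (P := @LocallyOfFinitePresentation)]
    refine RingHom.FinitePresentation.of_surjective _ hφs ?_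
    have : RingHom.ker φ.hom = I := Ideal.mk_ker
    rw [this]
    exact hI
  set ι := Spec.map φ ≫ j with hι
  have hrq : Set.range (Spec.map φ).base = j.base ⁻¹' K := by
    rw [← hIT]
    have h1 := _root_.range_comap_of_surjective _ φ.hom hφs
    have h2 : RingHom.ker φ.hom = I := Ideal.mk_ker
    rw [h2] at h1
    exact h1
  have hrange : Set.range ι.base = K ∩ (U : Set X) := by
    rw [hι, Scheme.Hom.comp_base, TopCat.coe_comp, Set.range_comp, hrq,
      Set.image_preimage_eq_inter_range, hjr]
  have heq := hasGen_inter_eq_image f ι K (U : Set X) hK U.2 hrange m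
  have hΔ : IsConstructible {k | FlatMor.fibreDimAt (ι ≫ f) k ≤ ((m : ℕ) : WithBot ℕ∞)} :=
    (Groth.Agent.S9355.result (ι ≫ f) m).isConstructible (Groth.Agent.S0402.result (ι ≫ f) m)
  have hpre : j.base ⁻¹' {x : X | HasGen f K x (m + 1)} =
      (Spec.map φ).base '' {k | FlatMor.fibreDimAt (ι ≫ f) k ≤ ((m : ℕ) : WithBot ℕ∞)}ᶜ := by
    have h1 : j.base ⁻¹' {x : X | HasGen f K x (m + 1)} =
        j.base ⁻¹' ({x : X | HasGen f K x (m + 1)} ∩ (U : Set X)) := by
      ext p
      simp only [Set.mem_preimage, Set.mem_inter_iff]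
      constructor
      · intro h
        exact ⟨h, hjr ▸ ⟨p, rfl⟩⟩
      · exact fun h => h.1
    rw [h1, heq, hι, Scheme.Hom.comp_base, TopCat.coe_comp, Set.image_comp,
      Set.preimage_image_eq _ j.isOpenEmbedding.injective]
  have hcons : IsConstructible (j.base ⁻¹' {x : X | HasGen f K x (m + 1)}) := by
    rw [hpre]
    exact (Spec.map φ).isConstructible_image hΔ.compl
  have h2 := isConstructible_range_preimage_val j.base j.isOpenEmbedding _ hcons
  rw [hjr] at h2
  exact h2.isLocallyConstructible

end Main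

end Groth.Agent.Lib.Helper14.ConsGenA
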