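import Mathlib
import Groth.Agent.Lib.Helper4RectDepthB

/-!
# Lower semicontinuity of the rectified depth over a regular Jacobson base (helper4)

EGA IV 10.8: for `X` locally of finite type over a locally Noetherian regular Jacobson scheme `S`
with equidimensional components and `F` coherent on `X`, `x ↦ prof F_x + dim closure{x}` is lower
semicontinuous.
-/

set_option autoImplicit false
set_option linter.style.haveILetI false

universe u

open AlgebraicGeometry CategoryTheory TopologicalSpace IsLocalRing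

namespace Groth.Agent.Lib.Helper4.RectDepth

open Groth.Agent.Lib.Helper4.DimFormula Groth.Agent.Lib.Helper4.VarDim

theorem isUniversallyCatenary_of_isRegularLocalRing (R : Type u) [CommRing R]
    [IsRegularLocalRing R] : CAlg.IsUniversallyCatenary R := by
  haveI : IsRegularRing R := Groth.Agent.Lib.Helper6.SepBC.isRegularRing_of_isRegularLocalRing R
  haveI : LocCoh.IsCohenMacaulayRing R :=
    Groth.Agent.Lib.Helper28.SecFinite.isCohenMacaulayRing_of_isRegularRing R
  exact Groth.Agent.S0603.result R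

section Core

variable {X S : Scheme.{u}} [IsLocallyNoetherian S] [JacobsonSpace S]
  (h2 : ∀ s : S, CAlg.IsUniversallyCatenary (S.presheaf.stalk s))
  (h3 : ∀ S' ∈ irreducibleComponents (S : Type u), ∀ s ∈ S', IsClosed ({s} : Set S) →
    topologicalKrullDim (↥S' : Type u) = topologicalKrullDim ↥{t : S | t ∈ S' ∧ t ⤳ s})
  (g : X ⟶ S) [LocallyOfFiniteType g] (F : X.Modules) (hF : Coh.IsCoh F)

include h2 h3 g hF in
theorem exists_open_of_presentation {U : X.Opens} (hU : IsAffineOpen U) (P : Type u) [CommRing P]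
    [IsRegularRing P] (g' : Spec (CommRingCat.of P) ⟶ S) [LocallyOfFiniteType g']
    (π : P →+* Γ(X, U)) (hπ : Function.Surjective π) (x : X) (hxU : x ∈ U)
    (hxS : x ∈ CohB1.support F) (n : ℕ)
    (hx : (n : WithBot ℕ∞) ≤
      ((LocCoh.depth ↑(X.presheaf.stalk x) ↑(F.presheaf.stalk x) : ℕ∞) : WithBot ℕ∞) +
        topologicalKrullDim ↥(closure ({x} : Set X))) :
    ∃ T : Set X, T ⊆ {y : X | (n : WithBot ℕ∞) ≤
      ((LocCoh.depth ↑(X.presheaf.stalk y) ↑(F.presheaf.stalk y) : ℕ∞) : WithBot ℕ∞) +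
        topologicalKrullDim ↥(closure ({y} : Set X))} ∧ IsOpen T ∧ x ∈ T := by
  haveI : F.IsQuasicoherent := hF.1
  haveI : SheafOfModules.IsFiniteType (R := X.ringCatSheaf) F := hF.2
  haveI : IsLocallyNoetherian X := LocallyOfFiniteType.isLocallyNoetherian g
  haveI : JacobsonSpace X := LocallyOfFiniteType.jacobsonSpace g
  obtain ⟨δ, hδ1, hδ2⟩ := exists_delta_of_locallyOfFiniteType h2 h3 g
  obtain ⟨δ', hδ1', hδ2'⟩ := exists_delta_of_locallyOfFiniteType h2 h3 g'
  haveI : IsNoetherianRing Γ(X, U) := IsLocallyNoetherian.component_noetherian ⟨U, hU⟩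
  haveI : Module.Finite Γ(X, U) Γ(F, U) :=
    Groth.Agent.Lib.Helper23.FinType.finite_of_isFiniteType F hU
  letI algPB : Algebra P Γ(X, U) := π.toAlgebra
  letI modPM : Module P Γ(F, U) := Module.compHom _ π
  haveI : IsScalarTower P Γ(X, U) Γ(F, U) := ⟨fun a b z => by
    change (π a * b) • z = π a • (b • z)
    exact mul_smul _ _ _⟩
  have hπ' : Function.Surjective (algebraMap P Γ(X, U)) := hπ
  haveI : Module.Finite P Γ(X, U) := Module.Finite.of_surjective (Algebra.linearMap P Γ(X, U)) hπ'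
  haveI : Module.Finite P Γ(F, U) := Module.Finite.trans Γ(X, U) _
  -- the closed immersion
  haveI : IsClosedImmersion (Spec.map (CommRingCat.ofHom π)) :=
    IsClosedImmersion.spec_of_surjective _ hπ
  let ι₂ : (U : Scheme.{u}) ⟶ Spec (CommRingCat.of P) :=
    hU.isoSpec.hom ≫ Spec.map (CommRingCat.ofHom π)
  haveI : IsClosedImmersion ι₂ := inferInstance
  have hδeq : ∀ (y : X) (hyU : y ∈ U), δ y = δ' (ι₂.base ⟨y, hyU⟩) := fun y hyU =>
    delta_eq_delta δ hδ1 hδ2 δ' hδ1' hδ2' U.ι ι₂ ⟨y, hyU⟩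
  have hQ : ∀ (y : X) (hyU : y ∈ U),
      (show PrimeSpectrum P from ι₂.base ⟨y, hyU⟩).asIdeal =
        (hU.primeIdealOf ⟨y, hyU⟩).asIdeal.comap (algebraMap P Γ(X, U)) := fun y hyU => rfl
  have hreg' : ∀ Q : Spec (CommRingCat.of P),
      IsRegularLocalRing ↑((Spec (CommRingCat.of P)).presheaf.stalk Q) :=
    fun Q => (stalk_spec_facts P Q).1
  obtain ⟨N, hNopen, hQ₀N, hN⟩ := exists_open_stalkDim_add_delta_eq δ' hδ2' hreg'
    (ι₂.base ⟨x, hxU⟩)
  haveI := hreg' (ι₂.base ⟨x, hxU⟩)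
  obtain ⟨d₀, hd₀⟩ := exists_nat_ringKrullDim_eq
    ((Spec (CommRingCat.of P)).presheaf.stalk (ι₂.base ⟨x, hxU⟩))
  -- key formula
  have key : ∀ (y : X) (hyU : y ∈ U), ι₂.base ⟨y, hyU⟩ ∈ N → y ∈ CohB1.support F → ∃ e : ℕ,
      projectiveDimension (ModuleCat.of
        (Localization.AtPrime (show PrimeSpectrum P from ι₂.base ⟨y, hyU⟩).asIdeal)
        (LocalizedModule (show PrimeSpectrum P from ι₂.base ⟨y, hyU⟩).asIdeal.primeCompl
          Γ(F, U))) = e ∧
      ((LocCoh.depth ↑(X.presheaf.stalk y) ↑(F.presheaf.stalk y) : ℕ∞) : WithBot ℕ∞) +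
        topologicalKrullDim ↥(closure ({y} : Set X)) + (e : WithBot ℕ∞) =
          ((d₀ + δ' (ι₂.base ⟨x, hxU⟩) : ℕ) : WithBot ℕ∞) := by
    intro y hyU hyN hyS
    obtain ⟨-, hdep, hnt⟩ := stalk_vs_localization hU F y hyU
    haveI : Nontrivial (LocalizedModule (hU.primeIdealOf ⟨y, hyU⟩).asIdeal.primeCompl Γ(F, U)) :=
      hnt (not_subsingleton_iff_nontrivial.mp hyS)
    obtain ⟨e, he, hform⟩ := depth_add_projectiveDimension_eq hπ' (M := Γ(F, U))
      (hU.primeIdealOf ⟨y, hyU⟩).asIdeal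
    have hN' := hN _ hyN
    have hdim := (stalk_spec_facts P (ι₂.base ⟨y, hyU⟩)).2
    refine ⟨e, he, ?_⟩
    rw [hdep, hδ1 y, hδeq y hyU, add_right_comm, hform]
    rw [hd₀] at hN'
    rw [Nat.cast_add, ← hN', hdim]
    rfl
  obtain ⟨e₀, he₀, hform₀⟩ := key x hxU hQ₀N hxS
  have hle : n + e₀ ≤ d₀ + δ' (ι₂.base ⟨x, hxU⟩) := by
    have h := add_le_add_left hx (e₀ : WithBot ℕ∞)
    rw [hform₀] at h
    exact_mod_cast h
  set D : ℕ := d₀ + δ' (ι₂.base ⟨x, hxU⟩) with hD
  have hW'open : IsOpen {Q : PrimeSpectrum P | projectiveDimension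
      (ModuleCat.of (Localization.AtPrime Q.asIdeal)
        (LocalizedModule Q.asIdeal.primeCompl Γ(F, U))) ≤ ((D - n : ℕ) : ℕ)} :=
    Groth.Agent.S2677.result P Γ(F, U) (D - n)
  refine ⟨Subtype.val '' (ι₂.base ⁻¹' (N ∩ {Q : PrimeSpectrum P | projectiveDimension
      (ModuleCat.of (Localization.AtPrime Q.asIdeal)
        (LocalizedModule Q.asIdeal.primeCompl Γ(F, U))) ≤ ((D - n : ℕ) : ℕ)})), ?_,
    U.isOpen.isOpenMap_subtype_val _ ((hNopen.inter hW'open).preimage ι₂.continuous),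
    ⟨⟨x, hxU⟩, ⟨hQ₀N, ?_⟩, rfl⟩⟩
  · rintro _ ⟨⟨y, hyU⟩, ⟨hyN, hyW⟩, rfl⟩
    show (n : WithBot ℕ∞) ≤
      ((LocCoh.depth ↑(X.presheaf.stalk y) ↑(F.presheaf.stalk y) : ℕ∞) : WithBot ℕ∞) +
        topologicalKrullDim ↥(closure ({y} : Set X))
    by_cases hyS : y ∈ CohB1.support F
    · obtain ⟨e, he, hform⟩ := key y hyU hyN hyS
      have hyW' : projectiveDimension (ModuleCat.of
          (Localization.AtPrime (show PrimeSpectrum P from ι₂.base ⟨y, hyU⟩).asIdeal)
          (LocalizedModule (show PrimeSpectrum P from ι₂.base ⟨y, hyU⟩).asIdeal.primeCompl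
            Γ(F, U))) ≤ ((D - n : ℕ) : ℕ) := hyW
      rw [he] at hyW'
      have hem : e ≤ D - n := by exact_mod_cast hyW'
      generalize ((LocCoh.depth ↑(X.presheaf.stalk y) ↑(F.presheaf.stalk y) : ℕ∞) : WithBot ℕ∞) +
        topologicalKrullDim ↥(closure ({y} : Set X)) = z at hform ⊢
      induction z using WithBot.recBotCoe with
      | bot => simp at hform
      | coe m =>
        induction m using ENat.recTopCoe with
        | top =>
          exact_mod_cast (le_top : (n : ℕ∞) ≤ ⊤)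
        | coe k =>
          have hk : k + e = D := by exact_mod_cast hform
          have : n ≤ k := by omega
          exact_mod_cast this
    · haveI hsub : Subsingleton (F.presheaf.stalk y) := not_not.mp hyS
      rw [Groth.Agent.Lib.Helper28.depth_eq_top_of_subsingleton]
      haveI : Nonempty ↥(closure ({y} : Set X)) := ⟨⟨y, subset_closure rfl⟩⟩
      have h0 : (0 : WithBot ℕ∞) ≤ topologicalKrullDim ↥(closure ({y} : Set X)) :=
        Groth.Agent.Lib.Helper7.TopDim.topologicalKrullDim_nonneg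
      calc (n : WithBot ℕ∞) ≤ ((⊤ : ℕ∞) : WithBot ℕ∞) + 0 := by
            rw [add_zero]
            exact_mod_cast (le_top : (n : ℕ∞) ≤ ⊤)
        _ ≤ _ := by gcongr
  · show projectiveDimension (ModuleCat.of
        (Localization.AtPrime (show PrimeSpectrum P from ι₂.base ⟨x, hxU⟩).asIdeal)
        (LocalizedModule (show PrimeSpectrum P from ι₂.base ⟨x, hxU⟩).asIdeal.primeCompl
          Γ(F, U))) ≤ ((D - n : ℕ) : ℕ)
    rw [he₀]
    have : e₀ ≤ D - n := by omega
    exact_mod_cast this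

end Core

/-- EGA IV 10.8: lower semicontinuity of the rectified depth for `X` locally of finite type over a
regular Jacobson base with equidimensional components. -/
theorem isOpen_setOf_le_rectifiedDepth {X S : Scheme.{u}} [IsLocallyNoetherian S] [JacobsonSpace S]
    (hreg : ∀ s : S, IsRegularLocalRing ↑(S.presheaf.stalk s))
    (h3 : ∀ S' ∈ irreducibleComponents (S : Type u), ∀ s ∈ S', IsClosed ({s} : Set S) →
      topologicalKrullDim (↥S' : Type u) = topologicalKrullDim ↥{t : S | t ∈ S' ∧ t ⤳ s})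
    (g : X ⟶ S) [LocallyOfFiniteType g] (F : X.Modules) (hF : Coh.IsCoh F) (n : ℕ) :
    IsOpen {x : X | (n : WithBot ℕ∞) ≤
      ((LocCoh.depth ↑(X.presheaf.stalk x) ↑(F.presheaf.stalk x) : ℕ∞) : WithBot ℕ∞) +
        topologicalKrullDim ↥(closure ({x} : Set X))} := by
  have h2 : ∀ s : S, CAlg.IsUniversallyCatenary (S.presheaf.stalk s) := fun s => by
    haveI := hreg s
    exact isUniversallyCatenary_of_isRegularLocalRing _
  rw [isOpen_iff_forall_mem_open]
  intro x hx
  by_cases hxS : x ∈ CohB1.support F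
  swap
  · refine ⟨(CohB1.support F)ᶜ, ?_, (Groth.Agent.S0020.result X F hF.2).isOpen_compl, hxS⟩
    intro y hy
    haveI hsub : Subsingleton (F.presheaf.stalk y) := not_not.mp hy
    show (n : WithBot ℕ∞) ≤
      ((LocCoh.depth ↑(X.presheaf.stalk y) ↑(F.presheaf.stalk y) : ℕ∞) : WithBot ℕ∞) +
        topologicalKrullDim ↥(closure ({y} : Set X))
    rw [Groth.Agent.Lib.Helper28.depth_eq_top_of_subsingleton]
    haveI : Nonempty ↥(closure ({y} : Set X)) := ⟨⟨y, subset_closure rfl⟩⟩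
    have h0 : (0 : WithBot ℕ∞) ≤ topologicalKrullDim ↥(closure ({y} : Set X)) :=
      Groth.Agent.Lib.Helper7.TopDim.topologicalKrullDim_nonneg
    calc (n : WithBot ℕ∞) ≤ ((⊤ : ℕ∞) : WithBot ℕ∞) + 0 := by
          rw [add_zero]
          exact_mod_cast (le_top : (n : ℕ∞) ≤ ⊤)
      _ ≤ _ := by gcongr
  obtain ⟨V, hV, hsV, -⟩ := exists_isAffineOpen_mem_and_subset (U := ⊤) (x := g.base x) (by simp)
  obtain ⟨U, hU, hxU, hUV⟩ := exists_isAffineOpen_mem_and_subset (U := g ⁻¹ᵁ V) (x := x) hsV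
  haveI : IsNoetherianRing Γ(S, V) := IsLocallyNoetherian.component_noetherian ⟨V, hV⟩
  haveI : IsRegularRing Γ(S, V) := isRegularRing_sections hreg hV
  letI algRB : Algebra Γ(S, V) Γ(X, U) := (g.appLE V U hUV).hom.toAlgebra
  haveI : Algebra.FiniteType Γ(S, V) Γ(X, U) := g.finiteType_appLE hV hU hUV
  obtain ⟨m, π, hπ⟩ := Algebra.FiniteType.iff_quotient_mvPolynomial''.mp
    (inferInstance : Algebra.FiniteType Γ(S, V) Γ(X, U))
  haveI : IsRegularRing (MvPolynomial (Fin m) Γ(S, V)) :=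
    Groth.Agent.Lib.Helper6.SepBC.isRegularRing_of_formallySmooth Γ(S, V) _
  haveI : LocallyOfFiniteType (Spec.map (CommRingCat.ofHom
      (algebraMap Γ(S, V) (MvPolynomial (Fin m) Γ(S, V))))) := by
    rw [HasRingHomProperty.Spec_iff (P := @LocallyOfFiniteType)]
    exact RingHom.finiteType_algebraMap.mpr inferInstance
  obtain ⟨T, hT1, hT2, hT3⟩ := exists_open_of_presentation h2 h3 g F hF hU
    (MvPolynomial (Fin m) Γ(S, V))
    (Spec.map (CommRingCat.ofHom (algebraMap Γ(S, V) (MvPolynomial (Fin m) Γ(S, V)))) ≫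
      hV.fromSpec) π.toRingHom hπ x hxU hxS n hx
  exact ⟨T, hT1, hT2, hT3⟩

end Groth.Agent.Lib.Helper4.RectDepth
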