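import Mathlib
import Groth.Agent.Lib.Helper4DimFormulaAS
import Groth.Agent.Lib.Helper4RectDepthC
import Groth.Agent.Lib.Helper20ZClos8
import Groth.Agent.Lib.Helper28DepthCM
import Groth.Agent.Lib.Helper28DepthLoc

/-!
# Associated points of fibre modules, part B: coherent modules on schemes of finite type over a
field (helper14)

For a scheme `Z` locally of finite type over a field `k` and a coherent module `G` on `Z` we relate,
at the points of `Z`, the transcendence degree `trdegNat`, the dimension and the depth of the stalks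
of `G`, the support and the associated points of `G`.
-/

set_option autoImplicit false
set_option linter.unusedVariables false
set_option linter.unusedSectionVars false
set_option linter.style.haveILetI false
set_option maxHeartbeats 400000

universe u

open CategoryTheory Limits AlgebraicGeometry TopologicalSpace Topology

namespace Groth.Agent.Lib.Helper14.FibAssB

open Groth.Agent.Lib.Helper4.DimFormula Groth.Agent.Lib.Helper4.VarDim
  Groth.Agent.Lib.Helper4.FibDim

section FieldBase

variable (k : Type u) [Field k]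

theorem subsingleton_spec_field : Subsingleton ↥(Spec (CommRingCat.of k)) :=
  ⟨fun a b => by
    haveI := a.isPrime
    haveI := b.isPrime
    exact PrimeSpectrum.ext
      ((Ideal.eq_bot_of_prime a.asIdeal).trans (Ideal.eq_bot_of_prime b.asIdeal).symm)⟩

theorem univCatenary_stalk_spec_field (s : ↥(Spec (CommRingCat.of k))) :
    CAlg.IsUniversallyCatenary ((Spec (CommRingCat.of k)).presheaf.stalk s) := by
  haveI : IsRegularRing k := inferInstance
  haveI := (Groth.Agent.Lib.Helper4.RectDepth.stalk_spec_facts k s).1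
  exact Groth.Agent.Lib.Helper4.RectDepth.isUniversallyCatenary_of_isRegularLocalRing _

theorem equidim_spec_field :
    ∀ S' ∈ irreducibleComponents (↥(Spec (CommRingCat.of k)) : Type u), ∀ s ∈ S',
      IsClosed ({s} : Set ↥(Spec (CommRingCat.of k))) →
      topologicalKrullDim (↥S' : Type u) =
        topologicalKrullDim ↥{t : ↥(Spec (CommRingCat.of k)) | t ∈ S' ∧ t ⤳ s} := by
  intro S' _ s hs _
  haveI := subsingleton_spec_field k
  have h : S' = {t : ↥(Spec (CommRingCat.of k)) | t ∈ S' ∧ t ⤳ s} := by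
    ext t
    constructor
    · intro ht
      exact ⟨ht, by rw [Subsingleton.elim t s]⟩
    · exact fun h => h.1
  exact congrArg (fun T : Set ↥(Spec (CommRingCat.of k)) => topologicalKrullDim ↥T) h

end FieldBase

section Noeth

variable {Z : Scheme.{u}} [IsLocallyNoetherian Z] (G : Z.Modules) (hG : Coh.IsCoh G)

include hG in
/-- a point is associated to `G` iff the depth of the stalk vanishes. -/
theorem mem_ass_iff_depth_eq_zero (z : Z) :
    z ∈ AssSch.Ass G ↔ LocCoh.depth (Z.presheaf.stalk z) (G.presheaf.stalk z) = 0 := by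
  haveI : G.IsQuasicoherent := hG.1
  haveI : SheafOfModules.IsFiniteType (R := Z.ringCatSheaf) G := hG.2
  exact (Groth.Agent.Lib.Helper20.ZClosLib.depth_eq_zero_iff_isAssPoint G z).symm

include hG in
/-- the depth of the stalk at a point of the support is at most its dimension. -/
theorem depth_le_supportDim_stalk (z : Z) (hz : z ∈ CohB1.support G) :
    ((LocCoh.depth (Z.presheaf.stalk z) (G.presheaf.stalk z) : ℕ∞) : WithBot ℕ∞) ≤
      Module.supportDim (Z.presheaf.stalk z) (G.presheaf.stalk z) := by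
  obtain ⟨hfin, -⟩ := stalk_facts_of_isCoh G hG z
  haveI := hfin
  haveI : Nontrivial (G.presheaf.stalk z) := not_subsingleton_iff_nontrivial.mp hz
  exact Groth.Agent.Lib.Helper28.depth_le_supportDim

include hG in
/-- an associated point belongs to the support. -/
theorem mem_support_of_mem_ass (z : Z) (hz : z ∈ AssSch.Ass G) : z ∈ CohB1.support G := by
  intro hsub
  haveI := hsub
  have h1 := (mem_ass_iff_depth_eq_zero G hG z).mp hz
  rw [Groth.Agent.Lib.Helper28.depth_eq_top_of_subsingleton] at h1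
  exact absurd h1 (by simp)

end Noeth

section Field

variable (k : Type u) [Field k] (Z : Scheme.{u}) [Z.Over (Spec (CommRingCat.of k))]
  [LocallyOfFiniteType (Z ↘ Spec (CommRingCat.of k))]

/-- **The dimension formula** on a scheme locally of finite type over a field:
`dim O_{Z,z}/𝔭 + trdeg κ(z) = trdeg κ(σ)` for the point `σ` of the prime `𝔭` of `O_{Z,z}`. -/
theorem ringKrullDim_quotient_add_trdegNat (z : Z) (𝔭 : Ideal (Z.presheaf.stalk z))
    [h𝔭 : 𝔭.IsPrime] :
    ringKrullDim (Z.presheaf.stalk z ⧸ 𝔭) + (trdegNat k Z z : WithBot ℕ∞) =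
      (trdegNat k Z (Z.fromSpecStalk z ⟨𝔭, h𝔭⟩) : WithBot ℕ∞) := by
  haveI : IsLocallyNoetherian (Spec (CommRingCat.of k)) := inferInstance
  haveI : JacobsonSpace ↥(Spec (CommRingCat.of k)) := inferInstance
  obtain ⟨δ, hδ1, hδ2⟩ := exists_delta_of_locallyOfFiniteType (S := Spec (CommRingCat.of k))
    (univCatenary_stalk_spec_field k) (equidim_spec_field k) (Z ↘ Spec (CommRingCat.of k))
  have hδ : ∀ σ : Z, δ σ = trdegNat k Z σ := by
    intro σ
    have h1 := hδ1 σ
    rw [topologicalKrullDim_closure_singleton k Z σ] at h1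
    have h3 : ((trdegNat k Z σ : ℕ) : WithBot ℕ∞) = ((δ σ : ℕ) : WithBot ℕ∞) := h1
    exact_mod_cast h3.symm
  have h2 := hδ2 (Z.fromSpecStalk z ⟨𝔭, h𝔭⟩) z 𝔭 h𝔭 rfl
  rw [hδ z, hδ (Z.fromSpecStalk z ⟨𝔭, h𝔭⟩)] at h2
  exact h2

variable {Z} (G : Z.Modules) (hG : Coh.IsCoh G)

include hG in
/-- a point of the support generizing `z` has transcendence degree at most `dim G_z + trdeg κ(z)`. -/
theorem trdegNat_le_supportDim_add (z w : Z) (hwz : w ⤳ z) (hw : w ∈ CohB1.support G) :
    (trdegNat k Z w : WithBot ℕ∞) ≤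
      Module.supportDim (Z.presheaf.stalk z) (G.presheaf.stalk z) + (trdegNat k Z z : WithBot ℕ∞) := by
  obtain ⟨𝔭, h𝔭, hw𝔭⟩ := exists_prime_fromSpecStalk_eq hwz
  obtain ⟨hfin, hsupp⟩ := stalk_facts_of_isCoh G hG z
  have h1 : (⟨𝔭, h𝔭⟩ : PrimeSpectrum (Z.presheaf.stalk z)) ∈
      Module.support (Z.presheaf.stalk z) (G.presheaf.stalk z) :=
    (hsupp 𝔭 h𝔭).mpr (hw𝔭 ▸ hw)
  have key := ringKrullDim_quotient_add_trdegNat k Z z 𝔭
  rw [hw𝔭] at key
  rw [← key]
  have h2 : ringKrullDim (Z.presheaf.stalk z ⧸ 𝔭) ≤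
      Module.supportDim (Z.presheaf.stalk z) (G.presheaf.stalk z) := by
    have h3 := Groth.Agent.Lib.Helper28.ringKrullDim_quotient_le_supportDim
      (R := Z.presheaf.stalk z) (M := G.presheaf.stalk z) (p := ⟨𝔭, h𝔭⟩) h1
    exact h3
  exact add_le_add_left h2 _

/-- over a Noetherian local ring the dimension of a nonzero finite module is attained at a prime
of its support. -/
theorem exists_mem_support_ringKrullDim_quotient_eq {R : Type u} [CommRing R] [IsLocalRing R]
    [IsNoetherianRing R] (M : Type u) [AddCommGroup M] [Module R M] [Module.Finite R M]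
    [Nontrivial M] :
    ∃ 𝔭 : PrimeSpectrum R, 𝔭 ∈ Module.support R M ∧
      ringKrullDim (R ⧸ 𝔭.asIdeal) = Module.supportDim R M := by
  set I := Module.annihilator R M with hI
  have hne : I ≠ ⊤ := by
    intro h
    have h1 : (1 : R) ∈ I := by rw [h]; trivial
    rw [hI, Module.mem_annihilator] at h1
    obtain ⟨m, hm⟩ := exists_ne (0 : M)
    exact hm (by simpa using h1 m)
  haveI : Nontrivial (R ⧸ I) := Ideal.Quotient.nontrivial_iff.mpr hne
  haveI : IsLocalRing (R ⧸ I) :=
    IsLocalRing.of_surjective' (Ideal.Quotient.mk I) Ideal.Quotient.mk_surjective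
  obtain ⟨𝔮, h𝔮, hdim⟩ := exists_minimalPrimes_ringKrullDim_quotient_eq (R := R ⧸ I)
  haveI : 𝔮.IsPrime := h𝔮.1.1
  refine ⟨⟨𝔮.comap (Ideal.Quotient.mk I), Ideal.comap_isPrime _ _⟩, ?_, ?_⟩
  · rw [Module.support_eq_zeroLocus, PrimeSpectrum.mem_zeroLocus]
    intro a ha
    change Ideal.Quotient.mk I a ∈ 𝔮
    rw [Ideal.Quotient.eq_zero_iff_mem.mpr ha]
    exact zero_mem _
  · change ringKrullDim (R ⧸ 𝔮.comap (Ideal.Quotient.mk I)) = _
    rw [ringKrullDim_quotient_comap_of_surjective (Ideal.Quotient.mk I)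
      Ideal.Quotient.mk_surjective 𝔮, hdim, Module.supportDim_eq_ringKrullDim_quotient_annihilator]

include hG in
/-- the dimension of the stalk is attained: there is a generization of `z` in the support of
transcendence degree `dim G_z + trdeg κ(z)`. -/
theorem exists_trdegNat_eq_supportDim_add (z : Z) (hz : z ∈ CohB1.support G) :
    ∃ w : Z, w ⤳ z ∧ w ∈ CohB1.support G ∧
      (trdegNat k Z w : WithBot ℕ∞) =
        Module.supportDim (Z.presheaf.stalk z) (G.presheaf.stalk z) +
          (trdegNat k Z z : WithBot ℕ∞) := by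
  haveI : IsLocallyNoetherian Z :=
    LocallyOfFiniteType.isLocallyNoetherian (Z ↘ Spec (CommRingCat.of k))
  obtain ⟨hfin, hsupp⟩ := stalk_facts_of_isCoh G hG z
  haveI := hfin
  haveI : Nontrivial (G.presheaf.stalk z) := not_subsingleton_iff_nontrivial.mp hz
  obtain ⟨𝔭, h𝔭, hdim⟩ := exists_mem_support_ringKrullDim_quotient_eq
    (R := Z.presheaf.stalk z) (G.presheaf.stalk z)
  refine ⟨Z.fromSpecStalk z 𝔭, Groth.Agent.Lib.Helper4.DimFormula.fromSpecStalk_specializes (X := Z) z 𝔭,
    (hsupp 𝔭.asIdeal 𝔭.2).mp h𝔭, ?_⟩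
  rw [← hdim]
  exact (ringKrullDim_quotient_add_trdegNat k Z z 𝔭.asIdeal).symm


include k hG in
/-- a maximal point of the support is an associated point, and the stalk there has dimension `0`. -/
theorem mem_ass_of_maximal (w : Z) (hw : w ∈ CohB1.support G)
    (hmax : ∀ w' : Z, w' ∈ CohB1.support G → w' ⤳ w → w' = w) :
    w ∈ AssSch.Ass G ∧ Module.supportDim (Z.presheaf.stalk w) (G.presheaf.stalk w) = 0 := by
  obtain ⟨w', hw'w, hw', heq⟩ := exists_trdegNat_eq_supportDim_add k G hG w hw
  rw [hmax w' hw' hw'w] at heq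
  have hdm : Module.supportDim (Z.presheaf.stalk w) (G.presheaf.stalk w) = 0 := by
    generalize Module.supportDim (Z.presheaf.stalk w) (G.presheaf.stalk w) = D at heq
    induction D with
    | bot =>
      rw [WithBot.bot_add] at heq
      exact absurd heq (by simp)
    | coe d =>
      induction d using ENat.recTopCoe with
      | top =>
        have h2 : (((trdegNat k Z w : ℕ) : ℕ∞) : WithBot ℕ∞) =
            (((⊤ : ℕ∞) + ((trdegNat k Z w : ℕ) : ℕ∞) : ℕ∞) : WithBot ℕ∞) := by
          rw [WithBot.coe_add]; exact heq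
        have h3 := WithBot.coe_injective h2
        rw [top_add] at h3
        exact absurd h3 (ENat.natCast_ne_top _)
      | coe m =>
        have h2 : (((trdegNat k Z w : ℕ) : ℕ∞) : WithBot ℕ∞) =
            ((((m : ℕ) : ℕ∞) + ((trdegNat k Z w : ℕ) : ℕ∞) : ℕ∞) : WithBot ℕ∞) := by
          rw [WithBot.coe_add]; exact heq
        have h3 := WithBot.coe_injective h2
        have h4 : trdegNat k Z w = m + trdegNat k Z w := by exact_mod_cast h3
        have h5 : m = 0 := by omega
        rw [h5]
        rfl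
  refine ⟨?_, hdm⟩
  haveI : IsLocallyNoetherian Z :=
    LocallyOfFiniteType.isLocallyNoetherian (Z ↘ Spec (CommRingCat.of k))
  rw [mem_ass_iff_depth_eq_zero G hG w]
  have h1 := depth_le_supportDim_stalk G hG w hw
  rw [hdm] at h1
  have h2 : LocCoh.depth (Z.presheaf.stalk w) (G.presheaf.stalk w) ≤ 0 := by exact_mod_cast h1
  exact le_antisymm h2 (zero_le)

include hG in
/-- **Maximal generizations.** Every point `z` of the support has a generization `w` which is a
maximal point of the support (hence an associated point) with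
`trdeg κ(w) = dim G_z + trdeg κ(z)`. -/
theorem exists_maximal_generization (z : Z) (hz : z ∈ CohB1.support G) :
    ∃ w : Z, w ⤳ z ∧ w ∈ CohB1.support G ∧ w ∈ AssSch.Ass G ∧
      (∀ w' : Z, w' ∈ CohB1.support G → w' ⤳ w → w' = w) ∧
      (trdegNat k Z w : WithBot ℕ∞) =
        Module.supportDim (Z.presheaf.stalk z) (G.presheaf.stalk z) +
          (trdegNat k Z z : WithBot ℕ∞) := by
  obtain ⟨w, hwz, hw, heq⟩ := exists_trdegNat_eq_supportDim_add k G hG z hz
  have hmax : ∀ w' : Z, w' ∈ CohB1.support G → w' ⤳ w → w' = w := by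
    intro w' hw' hw'w
    by_contra hne
    have h1 := trdegNat_lt_of_specializes k Z w' w hw'w hne
    have h2 := trdegNat_le_supportDim_add k G hG z w' (hw'w.trans hwz) hw'
    rw [← heq] at h2
    have h3 : trdegNat k Z w' ≤ trdegNat k Z w := by exact_mod_cast h2
    omega
  exact ⟨w, hwz, hw, (mem_ass_of_maximal k G hG w hw hmax).1, hmax, heq⟩

end Field

end Groth.Agent.Lib.Helper14.FibAssB
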