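import Groth.Agent.Lib.Helper28Hull

/-!
# Kollár's hulls and husks, part 2: four-term exact sequences (helper28)

* `flat_of_exact_of_flat_of_flat`: the kernel of a surjection between flat modules is flat;
* `mem_smul_top_of_exact_of_flat`: `Tor₁(A/I, G) = 0` for flat `G`, in the form `K ∩ IE = IK`;
* `flat_localizedModule_of_flat`, `flatAt_of_flat`: a `B`-localization of an `A`-flat `B`-module
  is `A`-flat;
* `flat_localizedModule_of_exact`, `exists_smul_mem_of_exact_of_flat_localizedModule`: the local
  versions of the first two;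
* `eq_zero_of_one_le_idealDepth_of_forall_prime`: sections supported on `V(J)` of a module with
  `depth_J ≥ 1` vanish;
* `quotSMulTopMap` and the exact sequence of fibres;
* `mem_map_maximalIdeal_smul_top_of_exact_of_flat_off`: `X' ∩ mX = mX'` when `X/X'` is flat off
  `V(J)` and `depth_J (X'/mX') ≥ 1`.
-/

set_option autoImplicit false
universe u v w u' v'

namespace Groth.Agent.Lib.Helper28
open RingTheory.Sequence CategoryTheory Abelian TensorProduct
open scoped Pointwise

section FlatKer

/-- The kernel of a surjection between flat modules is flat. -/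
theorem flat_of_exact_of_flat_of_flat {A : Type u} [CommRing A] {K E G : Type v}
    [AddCommGroup K] [Module A K] [AddCommGroup E] [Module A E] [AddCommGroup G] [Module A G]
    (i : K →ₗ[A] E) (p : E →ₗ[A] G) (hi : Function.Injective i) (hp : Function.Surjective p)
    (hex : Function.Exact i p) [Module.Flat A E] [Module.Flat A G] : Module.Flat A K := by
  rw [Module.Flat.iff_lTensor_injective']
  intro I
  have h1 : Function.Injective (i.rTensor I) := by
    rw [← LinearMap.lTensor_inj_iff_rTensor_inj]
    exact LinearMap.lTensor_injective_of_exact_of_flat p hp i hi hex I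
  have h2 : Function.Injective (I.subtype.lTensor E) :=
    Module.Flat.lTensor_preserves_injective_linearMap _ I.injective_subtype
  have h3 : (i.rTensor A) ∘ₗ (I.subtype.lTensor K) = (I.subtype.lTensor E) ∘ₗ (i.rTensor I) := by
    rw [LinearMap.rTensor_comp_lTensor, LinearMap.lTensor_comp_rTensor]
  refine Function.Injective.of_comp (f := i.rTensor A) ?_
  rw [← LinearMap.coe_comp, h3]
  exact h2.comp h1

/-- `Tor₁(A/I, G) = 0` for flat `G`: in `0 → K → E → G → 0`, `K ∩ IE = IK`. -/
theorem mem_smul_top_of_exact_of_flat {A : Type u} [CommRing A] {K E G : Type v}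
    [AddCommGroup K] [Module A K] [AddCommGroup E] [Module A E] [AddCommGroup G] [Module A G]
    (i : K →ₗ[A] E) (p : E →ₗ[A] G) (hi : Function.Injective i) (hp : Function.Surjective p)
    (hex : Function.Exact i p) [Module.Flat A G] (I : Ideal A) (x : K)
    (hx : i x ∈ I • (⊤ : Submodule A E)) : x ∈ I • (⊤ : Submodule A K) := by
  have hinj : Function.Injective (i.lTensor (A ⧸ I)) :=
    LinearMap.lTensor_injective_of_exact_of_flat p hp i hi hex (A ⧸ I)
  rw [← LinearMap.ker_tensorProductMk, LinearMap.mem_ker] at hx ⊢
  apply hinj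
  rw [map_zero]
  exact hx

end FlatKer


section LocFlat

variable {A : Type u} {B : Type u} [CommRing A] [CommRing B] [Algebra A B]
  {M : Type u} [AddCommGroup M] [Module B M] [Module A M] [IsScalarTower A B M]

/-- A localization (over `B`) of an `A`-flat `B`-module is `A`-flat. -/
theorem flat_localizedModule_of_flat (S : Submonoid B) [Module.Flat A M] :
    Module.Flat A (LocalizedModule S M) := by
  rw [Module.Flat.iff_lTensor_preserves_injective_linearMap]
  intro N N' _ _ _ _ f hf
  have h0 : Function.Injective (AlgebraTensorModule.lTensor B M f) := by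
    rw [AlgebraTensorModule.coe_lTensor]
    exact Module.Flat.lTensor_preserves_injective_linearMap f hf
  have h1 := IsLocalizedModule.map_injective S
    (AlgebraTensorModule.rTensor A N (LocalizedModule.mkLinearMap S M))
    (AlgebraTensorModule.rTensor A N' (LocalizedModule.mkLinearMap S M))
    (AlgebraTensorModule.lTensor B M f) h0
  rw [IsLocalizedModule.map_lTensor] at h1
  exact h1

theorem flatAt_of_flat (q : Ideal B) [q.IsPrime] [Module.Flat A M] : FlatCA.FlatAt A q M :=
  flat_localizedModule_of_flat q.primeCompl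

end LocFlat


section LocTransfer

variable {A : Type u} {B : Type u} [CommRing A] [CommRing B] [Algebra A B]
  {M : Type u} [AddCommGroup M] [Module B M] [Module A M] [IsScalarTower A B M]

/-- Transfer of `I • ⊤` to a localization. -/
theorem mk_mem_smul_top_of_mem_map_smul_top (S : Submonoid B) (I : Ideal A) (x : M)
    (hx : x ∈ (I.map (algebraMap A B)) • (⊤ : Submodule B M)) :
    LocalizedModule.mkLinearMap S M x ∈ I • (⊤ : Submodule A (LocalizedModule S M)) := by
  have h1 : (I.map (algebraMap A B) • (⊤ : Submodule B M)).restrictScalars A =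
      I • (⊤ : Submodule A M) := by
    rw [Ideal.smul_restrictScalars, Submodule.restrictScalars_top]
  have hx' : x ∈ I • (⊤ : Submodule A M) := by
    rw [← h1]; exact hx
  refine Submodule.smul_induction_on hx' ?_ ?_
  · intro c hc y _
    have : LocalizedModule.mkLinearMap S M (c • y) = c • LocalizedModule.mkLinearMap S M y := by
      rw [LocalizedModule.mkLinearMap_apply, LocalizedModule.mkLinearMap_apply,
        LocalizedModule.smul'_mk]
    rw [this]
    exact Submodule.smul_mem_smul hc Submodule.mem_top
  · intro x y hx hy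
    rw [map_add]; exact Submodule.add_mem _ hx hy

/-- Transfer of `I • ⊤` back from a localization. -/
theorem exists_smul_mem_map_smul_top_of_mk_mem (S : Submonoid B) (I : Ideal A) (b : M)
    (hb : LocalizedModule.mkLinearMap S M b ∈ I • (⊤ : Submodule A (LocalizedModule S M))) :
    ∃ s ∈ S, s • b ∈ (I.map (algebraMap A B)) • (⊤ : Submodule B M) := by
  set f := LocalizedModule.mkLinearMap S M with hf
  set IM : Submodule B M := (I.map (algebraMap A B)) • (⊤ : Submodule B M) with hIM
  have h4 : f b ∈ (IM.localized' (Localization S) S f).restrictScalars A := by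
    refine Submodule.smul_le.mpr ?_ hb
    intro c hc y _
    induction y using LocalizedModule.induction_on with
    | h y s =>
      rw [Submodule.restrictScalars_mem, Submodule.mem_localized']
      refine ⟨c • y, ?_, s, ?_⟩
      · have : c • y = (algebraMap A B c) • y := by rw [algebraMap_smul]
        rw [this]
        exact Submodule.smul_mem_smul (Ideal.mem_map_of_mem _ hc) Submodule.mem_top
      · rw [LocalizedModule.smul'_mk, ← IsLocalizedModule.mk_eq_mk']
  rw [Submodule.restrictScalars_mem, Submodule.mem_localized'] at h4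
  obtain ⟨y, hy, s, hys⟩ := h4
  rw [← IsLocalizedModule.mk'_one S f b, IsLocalizedModule.mk'_eq_mk'_iff] at hys
  obtain ⟨t, ht⟩ := hys
  refine ⟨(t : B) * (s : B), S.mul_mem t.2 s.2, ?_⟩
  have : ((t : B) * (s : B)) • b = (t : B) • y := by
    rw [mul_smul]
    simpa [Submonoid.smul_def] using ht
  rw [this]
  exact IM.smul_mem _ hy

end LocTransfer

section LocExact

variable {A : Type u} {B : Type u} [CommRing A] [CommRing B] [Algebra A B]
  {X' X X'' : Type u} [AddCommGroup X'] [Module B X'] [Module A X'] [IsScalarTower A B X']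
  [AddCommGroup X] [Module B X] [Module A X] [IsScalarTower A B X]
  [AddCommGroup X''] [Module B X''] [Module A X''] [IsScalarTower A B X'']
  (S : Submonoid B) (i : X' →ₗ[B] X) (p : X →ₗ[B] X'')
  (hi : Function.Injective i) (hp : Function.Surjective p) (hex : Function.Exact i p)

include hi hp hex

/-- Kernels of surjections between modules which are `A`-flat after localization are `A`-flat
after localization. -/
theorem flat_localizedModule_of_exact (h2 : Module.Flat A (LocalizedModule S X))
    (h3 : Module.Flat A (LocalizedModule S X'')) : Module.Flat A (LocalizedModule S X') := by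
  set iS := IsLocalizedModule.map S (LocalizedModule.mkLinearMap S X')
    (LocalizedModule.mkLinearMap S X) i with hiS
  set pS := IsLocalizedModule.map S (LocalizedModule.mkLinearMap S X)
    (LocalizedModule.mkLinearMap S X'') p with hpS
  exact flat_of_exact_of_flat_of_flat (iS.restrictScalars A) (pS.restrictScalars A)
    (IsLocalizedModule.map_injective S _ _ i hi) (IsLocalizedModule.map_surjective S _ _ p hp)
    (LocalizedModule.map_exact S i p hex)

/-- Local `Tor₁`-vanishing: if `X''_S` is `A`-flat then `(X' ∩ I X)_S = (I X')_S`. -/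
theorem exists_smul_mem_of_exact_of_flat_localizedModule
    (h3 : Module.Flat A (LocalizedModule S X'')) (I : Ideal A) (x : X')
    (hx : i x ∈ (I.map (algebraMap A B)) • (⊤ : Submodule B X)) :
    ∃ s ∈ S, s • x ∈ (I.map (algebraMap A B)) • (⊤ : Submodule B X') := by
  set iS := IsLocalizedModule.map S (LocalizedModule.mkLinearMap S X')
    (LocalizedModule.mkLinearMap S X) i with hiS
  set pS := IsLocalizedModule.map S (LocalizedModule.mkLinearMap S X)
    (LocalizedModule.mkLinearMap S X'') p with hpS
  apply exists_smul_mem_map_smul_top_of_mk_mem S I x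
  refine mem_smul_top_of_exact_of_flat (iS.restrictScalars A) (pS.restrictScalars A)
    (IsLocalizedModule.map_injective S _ _ i hi) (IsLocalizedModule.map_surjective S _ _ p hp)
    (LocalizedModule.map_exact S i p hex) I _ ?_
  rw [LinearMap.restrictScalars_apply, hiS, IsLocalizedModule.map_apply]
  exact mk_mem_smul_top_of_mem_map_smul_top S I (i x) hx

end LocExact


section OffVJ

variable {B : Type u} [CommRing B]

/-- An element of a finite module with `depth_J ≥ 1` which vanishes locally off `V(J)` is zero. -/
theorem eq_zero_of_one_le_idealDepth_of_forall_prime {N : Type v} [AddCommGroup N] [Module B N]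
    [Module.Finite B N] (J : Ideal B) (h1 : 1 ≤ LocCoh.idealDepth J N) (x : N)
    (h : ∀ (q : Ideal B) [q.IsPrime], ¬ J ≤ q → ∃ s ∉ q, s • x = 0) : x = 0 :=
  eq_zero_of_one_le_idealDepth_of_forall_pow J h1 x
    (exists_pow_smul_eq_zero_of_forall_prime J x h)

end OffVJ

section FibreSeq

variable {B : Type u} [CommRing B] (𝔞 : Ideal B)
  {X' X X'' : Type v} [AddCommGroup X'] [Module B X'] [AddCommGroup X] [Module B X]
  [AddCommGroup X''] [Module B X'']
  (i : X' →ₗ[B] X) (p : X →ₗ[B] X'')

/-- The map induced on `X / 𝔞 X`. -/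
noncomputable def quotSMulTopMap : (X' ⧸ 𝔞 • (⊤ : Submodule B X')) →ₗ[B] (X ⧸ 𝔞 • (⊤ : Submodule B X)) :=
  Submodule.mapQ _ _ i (Submodule.smul_top_le_comap_smul_top 𝔞 i)

@[simp]
theorem quotSMulTopMap_mk (x : X') :
    quotSMulTopMap 𝔞 i (Submodule.Quotient.mk x) = Submodule.Quotient.mk (i x) := rfl

theorem quotSMulTopMap_injective
    (h : ∀ x : X', i x ∈ 𝔞 • (⊤ : Submodule B X) → x ∈ 𝔞 • (⊤ : Submodule B X')) :
    Function.Injective (quotSMulTopMap 𝔞 i) := by
  rw [injective_iff_map_eq_zero]
  intro x hx
  obtain ⟨x, rfl⟩ := Submodule.Quotient.mk_surjective _ x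
  rw [quotSMulTopMap_mk, Submodule.Quotient.mk_eq_zero] at hx
  rw [Submodule.Quotient.mk_eq_zero]
  exact h x hx

theorem quotSMulTopMap_surjective (hp : Function.Surjective p) :
    Function.Surjective (quotSMulTopMap 𝔞 p) := by
  intro y
  obtain ⟨y, rfl⟩ := Submodule.Quotient.mk_surjective _ y
  obtain ⟨x, rfl⟩ := hp y
  exact ⟨Submodule.Quotient.mk x, rfl⟩

theorem quotSMulTopMap_exact (hp : Function.Surjective p) (hex : Function.Exact i p) :
    Function.Exact (quotSMulTopMap 𝔞 i) (quotSMulTopMap 𝔞 p) := by
  intro z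
  obtain ⟨z, rfl⟩ := Submodule.Quotient.mk_surjective _ z
  rw [quotSMulTopMap_mk, Submodule.Quotient.mk_eq_zero]
  constructor
  · intro hz
    have hmap : (𝔞 • (⊤ : Submodule B X'')) = (𝔞 • (⊤ : Submodule B X)).map p := by
      rw [Submodule.map_smul'', Submodule.map_top, LinearMap.range_eq_top.mpr hp]
    rw [hmap] at hz
    obtain ⟨y, hy, hyz⟩ := hz
    have : p (z - y) = 0 := by rw [map_sub, hyz, sub_self]
    obtain ⟨w, hw⟩ := (hex _).mp this
    refine ⟨Submodule.Quotient.mk w, ?_⟩
    rw [quotSMulTopMap_mk, hw, Submodule.Quotient.eq]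
    have : z - y - z = -y := by abel
    rw [this]
    exact Submodule.neg_mem _ hy
  · rintro ⟨w, hw⟩
    obtain ⟨w, rfl⟩ := Submodule.Quotient.mk_surjective _ w
    rw [quotSMulTopMap_mk, Submodule.Quotient.eq] at hw
    have h0 : p (i w) = 0 := (hex _).mpr ⟨w, rfl⟩
    have : p z = -(p (i w - z)) := by rw [map_sub, h0]; abel
    rw [this]
    exact Submodule.neg_mem _ (Submodule.smul_top_le_comap_smul_top 𝔞 p hw)

end FibreSeq

section OffFlat

variable {A : Type u} {B : Type u} [CommRing A] [CommRing B] [IsLocalRing A] [Algebra A B]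
  [IsNoetherianRing B]
  {X' X X'' : Type u} [AddCommGroup X'] [Module B X'] [Module A X'] [IsScalarTower A B X']
  [AddCommGroup X] [Module B X] [Module A X] [IsScalarTower A B X]
  [AddCommGroup X''] [Module B X''] [Module A X''] [IsScalarTower A B X'']
  [Module.Finite B X']

omit [IsNoetherianRing B] in
/-- If `X''` is `A`-flat off `V(J)` and `depth_J (X'/mX') ≥ 1`, then `X' ∩ mX = mX'`. -/
theorem mem_map_maximalIdeal_smul_top_of_exact_of_flat_off (J : Ideal B)
    (i : X' →ₗ[B] X) (p : X →ₗ[B] X'')
    (hi : Function.Injective i) (hp : Function.Surjective p) (hex : Function.Exact i p)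
    (hU : ∀ q : PrimeSpectrum B, ¬ J ≤ q.asIdeal → FlatCA.FlatAt A q.asIdeal X'')
    (h1 : 1 ≤ LocCoh.idealDepth J (EGA4.FibMod A B X')) (x : X')
    (hx : i x ∈ EGA4.mB A B • (⊤ : Submodule B X)) :
    x ∈ EGA4.mB A B • (⊤ : Submodule B X') := by
  rw [← Submodule.Quotient.mk_eq_zero]
  refine eq_zero_of_one_le_idealDepth_of_forall_prime (N := EGA4.FibMod A B X') J h1 _ ?_
  intro q hq hJq
  obtain ⟨s, hs, hsx⟩ := exists_smul_mem_of_exact_of_flat_localizedModule q.primeCompl i p hi hp hex
    (hU ⟨q, hq⟩ hJq) (IsLocalRing.maximalIdeal A) x hx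
  refine ⟨s, hs, ?_⟩
  rw [← Submodule.Quotient.mk_smul, Submodule.Quotient.mk_eq_zero]
  exact hsx

end OffFlat


section FibAux

variable {A B : Type u} [CommRing A] [CommRing B]
    [IsNoetherianRing A] [IsNoetherianRing B] [IsLocalRing A] [IsLocalRing B] [Algebra A B]
    [IsLocalHom (algebraMap A B)] (J : Ideal B)
    {F E0 K : Type u} [AddCommGroup F] [Module B F] [Module A F] [IsScalarTower A B F] [Module.Finite B F]
    [AddCommGroup E0] [Module B E0] [Module A E0] [IsScalarTower A B E0] [Module.Finite B E0]
    [AddCommGroup K] [Module B K] [Module A K] [IsScalarTower A B K] [Module.Finite B K]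

omit [IsNoetherianRing A] [IsNoetherianRing B] [IsLocalRing B] [IsLocalHom (algebraMap A B)]
  [Module.Finite B F] [Module.Finite B E0] [Module.Finite B K] in
/-- global `Tor₁` vanishing in the `B`-submodule form -/
theorem mem_mB_smul_top_of_flat (f : F →ₗ[B] E0) (u1 : E0 →ₗ[B] K)
    (hf : Function.Injective f) (hu1 : Function.Surjective u1) (hex : Function.Exact f u1)
    [Module.Flat A K] (x : F) (hx : f x ∈ EGA4.mB A B • (⊤ : Submodule B E0)) :
    x ∈ EGA4.mB A B • (⊤ : Submodule B F) := by
  rw [mem_map_smul_top_iff (S := B)] at hx ⊢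
  exact mem_smul_top_of_exact_of_flat (f.restrictScalars A) (u1.restrictScalars A) hf hu1 hex
    (IsLocalRing.maximalIdeal A) x hx

end FibAux

end Groth.Agent.Lib.Helper28
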