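import Groth.Agent.Lib.Helper28TensorCM
import Groth.Agent.Lib.Helper5CodepthOpen
import Groth.Agent.Lib.Helper28Hull2
import Groth.Agent.Lib.Helper28DepthMore
import Groth.Agent.Lib.Helper28FibreTrans

/-
Helper28: Serre's condition (S_k) for a tensor product `F ⊗_A E` with `F` flat over `A`
(EGA IV 6.4.1): localized dimension/depth formulas, ascent from base + fibres, descent to the base.
-/

set_option autoImplicit false
universe u
open TensorProduct

namespace Groth.Agent.Lib.Helper28
open Groth.Agent.Lib.Helper5 Groth.Agent.Lib.Helper5.GenDepth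
  Groth.Agent.Lib.Helper5.CodepthOpen

section SemiLocal

variable {A B₁ : Type u} [CommRing A] [CommRing B₁] [IsNoetherianRing A] [IsNoetherianRing B₁]
  [IsLocalRing B₁] [Algebra A B₁]
  (M : Type u) [AddCommGroup M] [Module A M] [Module.Finite A M]
  (N : Type u) [AddCommGroup N] [Module B₁ N] [Module A N] [IsScalarTower A B₁ N]
  [Module.Finite B₁ N] [Module.Flat A N]

theorem tensor_formulas_semilocal (p : Ideal A) [p.IsPrime]
    (hp : (IsLocalRing.maximalIdeal B₁).comap (algebraMap A B₁) = p)
    [Nontrivial (LocalizedModule p.primeCompl M)] :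
    Module.supportDim B₁ (N ⊗[A] M) =
        Module.supportDim (Localization.AtPrime p) (LocalizedModule p.primeCompl M) +
          Module.supportDim B₁ (N ⧸ (p.map (algebraMap A B₁) • ⊤ : Submodule B₁ N)) ∧
      LocCoh.depth B₁ (N ⊗[A] M) =
        LocCoh.depth (Localization.AtPrime p) (LocalizedModule p.primeCompl M) +
          LocCoh.depth B₁ (N ⧸ (p.map (algebraMap A B₁) • ⊤ : Submodule B₁ N)) := by
  have hunits : ∀ y : p.primeCompl, IsUnit (algebraMap A B₁ y) := by
    intro y
    by_contra h
    have h1 : algebraMap A B₁ y ∈ IsLocalRing.maximalIdeal B₁ := (IsLocalRing.mem_maximalIdeal _).mpr h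
    have h2 : (y : A) ∈ p := hp.le (Ideal.mem_comap.mpr h1)
    exact y.2 h2
  let φ : Localization.AtPrime p →+* B₁ := IsLocalization.lift hunits
  let alg : Algebra (Localization.AtPrime p) B₁ := φ.toAlgebra
  have htower : IsScalarTower A (Localization.AtPrime p) B₁ :=
    IsScalarTower.of_algebraMap_eq (fun a => (IsLocalization.lift_eq hunits a).symm)
  have hideal : (IsLocalRing.maximalIdeal (Localization.AtPrime p)).map
      (algebraMap (Localization.AtPrime p) B₁) = p.map (algebraMap A B₁) := by
    rw [← Localization.AtPrime.map_eq_maximalIdeal, Ideal.map_map,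
      ← IsScalarTower.algebraMap_eq]
  have hloc : IsLocalHom (algebraMap (Localization.AtPrime p) B₁) := by
    refine ((IsLocalRing.local_hom_TFAE (algebraMap (Localization.AtPrime p) B₁)).out 2 0).mp ?_
    rw [hideal, Ideal.map_le_iff_le_comap, hp]
  let modN : Module (Localization.AtPrime p) N := Module.compHom N φ
  have ht1 : IsScalarTower (Localization.AtPrime p) B₁ N :=
    IsScalarTower.of_algebraMap_smul (fun r x => rfl)
  have ht2 : IsScalarTower A (Localization.AtPrime p) N :=
    IsScalarTower.of_algebraMap_smul (fun a x => by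
      change φ (algebraMap A (Localization.AtPrime p) a) • x = a • x
      rw [IsLocalization.lift_eq, algebraMap_smul])
  have hflat : Module.Flat (Localization.AtPrime p) N :=
    (Module.flat_iff_of_isLocalization (Localization.AtPrime p) p.primeCompl N).mpr inferInstance
  let e₁ : (Localization.AtPrime p) ⊗[A] M ≃ₗ[Localization.AtPrime p]
      LocalizedModule p.primeCompl M :=
    (IsLocalizedModule.isBaseChange p.primeCompl (Localization.AtPrime p)
      (LocalizedModule.mkLinearMap p.primeCompl M)).equiv
  let ψ : N ⊗[A] M ≃ₗ[B₁] N ⊗[Localization.AtPrime p] (LocalizedModule p.primeCompl M) :=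
    (AlgebraTensorModule.cancelBaseChange A (Localization.AtPrime p) B₁ N M).symm ≪≫ₗ
      AlgebraTensorModule.congr (LinearEquiv.refl B₁ N) e₁
  have hN : IsNoetherianRing (Localization.AtPrime p) :=
    IsLocalization.isNoetherianRing p.primeCompl _ inferInstance
  have T1 := supportDim_tensor_of_flat (A := Localization.AtPrime p) (B := B₁) N
    (LocalizedModule p.primeCompl M)
  have T2 := depth_tensor_of_flat (R := Localization.AtPrime p) (S := B₁)
    (LocalizedModule p.primeCompl M) N
  rw [hideal] at T1 T2
  refine ⟨?_, ?_⟩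
  · rw [Module.supportDim_eq_of_equiv ψ]
    exact T1
  · unfold LocCoh.depth at T2 ⊢
    rw [idealDepth_congr ψ]
    exact T2

end SemiLocal

section Loc

variable {A B : Type u} [CommRing A] [CommRing B] [IsNoetherianRing A] [IsNoetherianRing B]
  [Algebra A B]
  (E : Type u) [AddCommGroup E] [Module A E] [Module.Finite A E]
  (F : Type u) [AddCommGroup F] [Module B F] [Module A F] [IsScalarTower A B F]
  [Module.Finite B F] [Module.Flat A F] (q : Ideal B) [q.IsPrime]

/-- The localized dimension and depth formulas for `F ⊗_A E` at a prime `q` of `B`. -/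
theorem supportDim_depth_localization_tensor
    [Nontrivial (LocalizedModule (q.comap (algebraMap A B)).primeCompl E)] :
    Module.supportDim (Localization.AtPrime q) (LocalizedModule q.primeCompl (F ⊗[A] E)) =
        Module.supportDim (Localization.AtPrime (q.comap (algebraMap A B)))
          (LocalizedModule (q.comap (algebraMap A B)).primeCompl E) +
          Module.supportDim (Localization.AtPrime q) (EGA4.FibLocMod A B q F) ∧
      LocCoh.depth (Localization.AtPrime q) (LocalizedModule q.primeCompl (F ⊗[A] E)) =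
        LocCoh.depth (Localization.AtPrime (q.comap (algebraMap A B)))
          (LocalizedModule (q.comap (algebraMap A B)).primeCompl E) +
          LocCoh.depth (Localization.AtPrime q) (EGA4.FibLocMod A B q F) := by
  have hfin : Module.Finite B (F ⊗[A] E) := finite_tensorProduct_of_finite (R := A) (S := B) E
  have hflat : Module.Flat A (LocalizedModule q.primeCompl F) :=
    flat_localizedModule_of_flat q.primeCompl
  have hN : IsNoetherianRing (Localization.AtPrime q) :=
    IsLocalization.isNoetherianRing q.primeCompl _ inferInstance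
  have hp : (IsLocalRing.maximalIdeal (Localization.AtPrime q)).comap
      (algebraMap A (Localization.AtPrime q)) = q.comap (algebraMap A B) := by
    rw [IsScalarTower.algebraMap_eq A B (Localization.AtPrime q), ← Ideal.comap_comap]
    congr 1
    exact IsLocalization.AtPrime.under_maximalIdeal (Localization.AtPrime q) q
  obtain ⟨h1, h2⟩ := tensor_formulas_semilocal (A := A) (B₁ := Localization.AtPrime q) E
    (LocalizedModule q.primeCompl F) (q.comap (algebraMap A B)) hp
  obtain ⟨h3, h4⟩ := Groth.Agent.Lib.Helper5.FinDimDepth.transport_aux q (F ⊗[A] E)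
    (Localization.AtPrime q) ((LocalizedModule q.primeCompl F) ⊗[A] E)
    (AlgebraTensorModule.rTensor A E (LocalizedModule.mkLinearMap q.primeCompl F))
  rw [← h3, ← h4]
  exact ⟨h1, h2⟩

end Loc

section SkLocalTools

theorem skLocal_of_hasSk_of_isLocalRing {k : ℕ} {R : Type u} [CommRing R] [IsLocalRing R]
    [IsNoetherianRing R] (X : Type u) [AddCommGroup X] [Module R X] [Module.Finite R X]
    (h : LocCoh.HasSk k R X) :
    min (k : WithBot ℕ∞) (Module.supportDim R X) ≤ ((LocCoh.depth R X : ℕ∞) : WithBot ℕ∞) := by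
  have hloc : IsLocalization.AtPrime R (IsLocalRing.maximalIdeal R) := by
    apply IsLocalization.of_le_isUnit
    intro x hx
    by_contra hnu
    exact hx ((IsLocalRing.mem_maximalIdeal x).mpr hnu)
  have hid : IsLocalizedModule (IsLocalRing.maximalIdeal R).primeCompl (LinearMap.id : X →ₗ[R] X) :=
    isLocalizedModule_id (IsLocalRing.maximalIdeal R).primeCompl X R
  obtain ⟨h1, h2⟩ := Groth.Agent.Lib.Helper5.FinDimDepth.transport_aux (IsLocalRing.maximalIdeal R)
    X R X LinearMap.id
  rw [h1, h2]
  exact h (IsLocalRing.maximalIdeal R)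

theorem min_add_le_of_min_le {k : ℕ} {a b : WithBot ℕ∞} {s t : ℕ∞}
    (ha : min (k : WithBot ℕ∞) a ≤ ((s : ℕ∞) : WithBot ℕ∞))
    (hb : min (k : WithBot ℕ∞) b ≤ ((t : ℕ∞) : WithBot ℕ∞)) :
    min (k : WithBot ℕ∞) (a + b) ≤ (((s + t : ℕ∞)) : WithBot ℕ∞) := by
  rcases a with _ | x
  · have : (⊥ : WithBot ℕ∞) + b = ⊥ := WithBot.bot_add b
    change min (k : WithBot ℕ∞) (⊥ + b) ≤ _
    rw [this, min_bot_right]
    exact bot_le
  rcases b with _ | y
  · have : ((x : ℕ∞) : WithBot ℕ∞) + ⊥ = ⊥ := WithBot.add_bot _
    change min (k : WithBot ℕ∞) (((x : ℕ∞) : WithBot ℕ∞) + ⊥) ≤ _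
    rw [this, min_bot_right]
    exact bot_le
  change min (k : WithBot ℕ∞) ((x : ℕ∞) : WithBot ℕ∞) ≤ _ at ha
  change min (k : WithBot ℕ∞) ((y : ℕ∞) : WithBot ℕ∞) ≤ _ at hb
  change min (k : WithBot ℕ∞) (((x : ℕ∞) : WithBot ℕ∞) + ((y : ℕ∞) : WithBot ℕ∞)) ≤ _
  rw [withBot_min_natCast_le_iff] at ha hb
  rw [← WithBot.coe_add, withBot_min_natCast_le_iff]
  exact (min_natCast_add_le k x y).trans (add_le_add ha hb)

end SkLocalTools

section Fibres

variable {A B : Type u} [CommRing A] [CommRing B] [IsNoetherianRing B] [Algebra A B]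
  (F : Type u) [AddCommGroup F] [Module B F] [Module.Finite B F] (q : Ideal B) [q.IsPrime]

theorem skLocal_fibLocMod {k : ℕ}
    (h : LocCoh.HasSk k (EGA4.FibLocRing A B q) (EGA4.FibLocMod A B q F)) :
    min (k : WithBot ℕ∞) (Module.supportDim (Localization.AtPrime q) (EGA4.FibLocMod A B q F)) ≤
      ((LocCoh.depth (Localization.AtPrime q) (EGA4.FibLocMod A B q F) : ℕ∞) : WithBot ℕ∞) := by
  have hloc : IsLocalRing (EGA4.FibLocRing A B q) := isLocalRing_fibLocRing (A := A) q
  have hN : IsNoetherianRing (Localization.AtPrime q) :=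
    IsLocalization.isNoetherianRing q.primeCompl _ inferInstance
  have hfin : Module.Finite (EGA4.FibLocRing A B q) (EGA4.FibLocMod A B q F) :=
    Module.Finite.of_restrictScalars_finite (Localization.AtPrime q) _ _
  have h0 := skLocal_of_hasSk_of_isLocalRing (EGA4.FibLocMod A B q F) h
  have hlh : IsLocalHom (algebraMap (Localization.AtPrime q) (EGA4.FibLocRing A B q)) :=
    IsLocalHom.of_surjective _ Ideal.Quotient.mk_surjective
  rw [← supportDim_eq_of_surjective (B := Localization.AtPrime q) (B' := EGA4.FibLocRing A B q)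
      (EGA4.FibLocMod A B q F) Ideal.Quotient.mk_surjective,
    ← depth_eq_depth_of_isLocalHom_of_finite (A := Localization.AtPrime q)
      (B := EGA4.FibLocRing A B q) (M := EGA4.FibLocMod A B q F)] at h0
  exact h0

end Fibres

section Main

variable {A B : Type u} [CommRing A] [CommRing B] [IsNoetherianRing A] [IsNoetherianRing B]
  [Algebra A B]
  (E : Type u) [AddCommGroup E] [Module A E] [Module.Finite A E]
  (F : Type u) [AddCommGroup F] [Module B F] [Module A F] [IsScalarTower A B F]
  [Module.Finite B F] [Module.Flat A F]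

omit [IsNoetherianRing A] [IsNoetherianRing B] [Module.Finite B F] [Module.Flat A F] in
theorem nontrivial_localization_of_nontrivial_localization_tensor (q : Ideal B) [q.IsPrime]
    (h : Nontrivial (LocalizedModule q.primeCompl (F ⊗[A] E))) :
    Nontrivial (LocalizedModule (q.comap (algebraMap A B)).primeCompl E) := by
  have h1 : (⟨q, inferInstance⟩ : PrimeSpectrum B) ∈ Module.support B (F ⊗[A] E) :=
    Module.mem_support_iff.mpr h
  have h2 := Module.annihilator_le_of_mem_support h1
  have h3 : Module.annihilator A E ≤ q.comap (algebraMap A B) := by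
    rw [← Ideal.map_le_iff_le_comap]
    exact (map_annihilator_le_annihilator_tensor F E).trans h2
  have h4 : (⟨q.comap (algebraMap A B), inferInstance⟩ : PrimeSpectrum A) ∈ Module.support A E :=
    Module.mem_support_iff_of_finite.mpr h3
  exact Module.mem_support_iff.mp h4

theorem hasSkAt_tensor_of_fibres (k : ℕ)
    (hfib : ∀ (q : Ideal B) [q.IsPrime],
      LocCoh.HasSk k (EGA4.FibLocRing A B q) (EGA4.FibLocMod A B q F))
    (q : Ideal B) [q.IsPrime] (hE : EGA4.HasSkAt k A E (q.comap (algebraMap A B))) :
    EGA4.HasSkAt k B (F ⊗[A] E) q := by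
  have hfinT : Module.Finite B (F ⊗[A] E) := finite_tensorProduct_of_finite (R := A) (S := B) E
  rw [hasSkAt_iff k (F ⊗[A] E) q]
  intro q' hq'
  have := q'.2
  have hp'le : q'.asIdeal.comap (algebraMap A B) ≤ q.comap (algebraMap A B) :=
    Ideal.comap_mono hq'
  have hE' := (hasSkAt_iff k E (q.comap (algebraMap A B))).mp hE
    ⟨q'.asIdeal.comap (algebraMap A B), inferInstance⟩ hp'le
  unfold good at hE' ⊢
  rw [Set.mem_ofPred_eq] at hE' ⊢
  unfold dm dep at hE' ⊢
  by_cases hnt : Nontrivial (LocalizedModule (q'.asIdeal.comap (algebraMap A B)).primeCompl E)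
  · obtain ⟨h1, h2⟩ := supportDim_depth_localization_tensor (A := A) E F q'.asIdeal
    rw [h1, h2]
    exact min_add_le_of_min_le hE' (skLocal_fibLocMod F q'.asIdeal (hfib q'.asIdeal))
  · have hsub : Subsingleton (LocalizedModule q'.asIdeal.primeCompl (F ⊗[A] E)) := by
      by_contra hcon
      rw [not_subsingleton_iff_nontrivial] at hcon
      exact hnt (nontrivial_localization_of_nontrivial_localization_tensor E F q'.asIdeal hcon)
    rw [Module.supportDim_eq_bot_of_subsingleton, min_bot_right]
    exact bot_le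

omit [IsNoetherianRing A] [Module A F] [IsScalarTower A B F] [Module.Flat A F] in
/-- At a minimal prime `q'` of the support of `F / p'F`, the fibre stalk has dimension and depth
zero. -/
theorem fibLocMod_zero_of_mem_minimalPrimes (p' : Ideal A) [p'.IsPrime] (q' : Ideal B) [q'.IsPrime]
    (hmin : q' ∈ (Module.annihilator B
      (F ⧸ (p'.map (algebraMap A B) • ⊤ : Submodule B F))).minimalPrimes)
    (hcomap : q'.comap (algebraMap A B) = p') :
    Module.supportDim (Localization.AtPrime q') (EGA4.FibLocMod A B q' F) = 0 ∧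
      LocCoh.depth (Localization.AtPrime q') (EGA4.FibLocMod A B q' F) = 0 := by
  set Q := F ⧸ (p'.map (algebraMap A B) • ⊤ : Submodule B F) with hQ
  have hass : q' ∈ associatedPrimes B Q :=
    Module.associatedPrimes.minimalPrimes_annihilator_subset_associatedPrimes B Q hmin
  have hsupp : (⟨q', inferInstance⟩ : PrimeSpectrum B) ∈ Module.support B Q :=
    Module.mem_support_iff_of_finite.mpr hmin.1.2
  have h1 := (supportDim_localization_eq_zero_iff (M := Q) q' hsupp).mpr hmin
  have h2 := (depth_localization_eq_zero_iff (M := Q) q').mpr hass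
  obtain ⟨h3, h4⟩ := Groth.Agent.Lib.Helper5.FinDimDepth.transport_aux q' Q
    (Localization.AtPrime q')
    (LocalizedModule q'.primeCompl F ⧸ (p'.map (algebraMap A B) • ⊤ : Submodule B F).localized'
      (Localization.AtPrime q') q'.primeCompl (LocalizedModule.mkLinearMap q'.primeCompl F))
    ((p'.map (algebraMap A B) • ⊤ : Submodule B F).toLocalizedQuotient'
      (Localization.AtPrime q') q'.primeCompl (LocalizedModule.mkLinearMap q'.primeCompl F))
  have hsub : (p'.map (algebraMap A B) • ⊤ : Submodule B F).localized'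
      (Localization.AtPrime q') q'.primeCompl (LocalizedModule.mkLinearMap q'.primeCompl F) =
      ((q'.comap (algebraMap A B)).map (algebraMap A (Localization.AtPrime q')) •
        (⊤ : Submodule (Localization.AtPrime q') (LocalizedModule q'.primeCompl F))) := by
    rw [localized'_smul_top q'.primeCompl (Localization.AtPrime q')
      (LocalizedModule.mkLinearMap q'.primeCompl F), Ideal.map_map,
      ← IsScalarTower.algebraMap_eq, hcomap]
  let e := Submodule.quotEquivOfEq _ _ hsub
  refine ⟨?_, ?_⟩
  · rw [← Module.supportDim_eq_of_equiv e, h4, h1]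
  · unfold LocCoh.depth at h3 h2 ⊢
    rw [← idealDepth_congr e, h3, h2]

/-- `(S_k)` descends along a module flat over the base. -/
theorem hasSkAt_base_of_hasSkAt_tensor (k : ℕ) (q : PrimeSpectrum B)
    (hq : q ∈ Module.support B F) (h : EGA4.HasSkAt k B (F ⊗[A] E) q.asIdeal) :
    EGA4.HasSkAt k A E (q.asIdeal.comap (algebraMap A B)) := by
  have hfinT : Module.Finite B (F ⊗[A] E) := finite_tensorProduct_of_finite (R := A) (S := B) E
  rw [hasSkAt_iff k E _]
  intro p' hp'
  have hp'p := p'.2
  unfold good
  rw [Set.mem_ofPred_eq]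
  unfold dm dep
  by_cases hnt : Nontrivial (LocalizedModule p'.asIdeal.primeCompl E)
  swap
  · rw [not_nontrivial_iff_subsingleton] at hnt
    rw [Module.supportDim_eq_bot_of_subsingleton, min_bot_right]
    exact bot_le
  have hqQ : q ∈ Module.support B (F ⧸ (p'.asIdeal.map (algebraMap A B) • ⊤ : Submodule B F)) := by
    rw [Module.support_quotient]
    refine ⟨hq, ?_⟩
    rw [PrimeSpectrum.mem_zeroLocus, SetLike.coe_subset_coe, Ideal.map_le_iff_le_comap]
    exact hp'
  set Q := F ⧸ (p'.asIdeal.map (algebraMap A B) • ⊤ : Submodule B F) with hQ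
  have hann : Module.annihilator B Q ≤ q.asIdeal := Module.annihilator_le_of_mem_support hqQ
  obtain ⟨q', hq'min, hq'le⟩ := Ideal.exists_minimalPrimes_le hann
  have hq'p : q'.IsPrime := hq'min.1.1
  have hq'ass : q' ∈ associatedPrimes B Q :=
    Module.associatedPrimes.minimalPrimes_annihilator_subset_associatedPrimes B Q hq'min
  let e' : Q ≃ₗ[B] F ⊗[A] (A ⧸ p'.asIdeal) :=
    (Submodule.quotEquivOfEq _ _ (ker_tmulOne (B := B) F p'.asIdeal).symm) ≪≫ₗ
      ((tmulOne (B := B) F p'.asIdeal).quotKerEquivOfSurjective (tmulOne_surjective F p'.asIdeal))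
  have hq'ass' : q' ∈ associatedPrimes B (F ⊗[A] (A ⧸ p'.asIdeal)) := by
    rw [← LinearEquiv.AssociatedPrimes.eq e']
    exact hq'ass
  have hcomap : q'.comap (algebraMap A B) = p'.asIdeal :=
    comap_eq_of_mem_associatedPrimes_tensor_quotient F p'.asIdeal q' hq'ass'
  have hgood := (hasSkAt_iff k (F ⊗[A] E) q.asIdeal).mp h ⟨q', hq'p⟩ hq'le
  unfold good at hgood
  rw [Set.mem_ofPred_eq] at hgood
  unfold dm dep at hgood
  have hnt' : Nontrivial (LocalizedModule (q'.comap (algebraMap A B)).primeCompl E) := by
    have h1 : (⟨p'.asIdeal, hp'p⟩ : PrimeSpectrum A) ∈ Module.support A E :=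
      Module.mem_support_iff.mpr hnt
    have h2 : (⟨q'.comap (algebraMap A B), inferInstance⟩ : PrimeSpectrum A) ∈
        Module.support A E := by
      have : (⟨q'.comap (algebraMap A B), inferInstance⟩ : PrimeSpectrum A) = ⟨p'.asIdeal, hp'p⟩ :=
        PrimeSpectrum.ext hcomap
      rw [this]
      exact h1
    exact Module.mem_support_iff.mp h2
  obtain ⟨f1, f2⟩ := supportDim_depth_localization_tensor (A := A) E F q'
  obtain ⟨z1, z2⟩ := fibLocMod_zero_of_mem_minimalPrimes F p'.asIdeal q' hq'min hcomap
  rw [f1, f2, z1, z2, add_zero, add_zero] at hgood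
  exact (Groth.Agent.Lib.Helper5.SkEmb.sk_congr E hcomap k).mp hgood

end Main

end Groth.Agent.Lib.Helper28
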