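import Mathlib
import Groth.Agent.Lib.Helper28TensorSk
import Groth.Agent.Lib.Helper28FibreTrans
import Groth.Agent.Lib.Helper28FibLoc
import Groth.Agent.Lib.Helper5TensorFieldsCM
import Groth.Agent.Lib.Helper5CodepthOpen

/-!
# Fibre codepth of modules, part A: invariance under flat maps with Cohen–Macaulay fibres (helper14)

* `CdAt n Q N`: the localization of `N` at the prime `Q` has codepth at most `n`.
* `cdAt_tensor_iff_of_cm_fibre`: for a flat map `C₁ → C₂` of Noetherian rings and a prime `Q` of `C₂`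
  whose fibre local ring is Cohen–Macaulay, `C₂ ⊗ N` has codepth `≤ n` at `Q` iff `N` has codepth
  `≤ n` at `Q ∩ C₁`.
* `cdAt_pushout_field_iff`: the case of a base change along a field extension `L₁ → L₂` of a
  finite type `L₁`-algebra.
-/

set_option autoImplicit false
set_option linter.unusedVariables false
set_option linter.unusedSectionVars false
set_option linter.style.haveILetI false
set_option maxHeartbeats 400000

universe u

open TensorProduct

namespace Groth.Agent.Lib.Helper14.FibModA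

open Groth.Agent.Lib.Helper28 Groth.Agent.Lib.Helper5.GenDepth Groth.Agent.Lib.Helper5

/-- The localization of `N` at `Q` has codepth at most `n`. -/
def CdAt (n : ℕ) {C : Type u} [CommRing C] (Q : Ideal C) [Q.IsPrime] (N : Type u)
    [AddCommGroup N] [Module C N] : Prop :=
  dm Q N ≤ ((dep Q N : ℕ∞) : WithBot ℕ∞) + n

theorem cdAt_congr (n : ℕ) {C : Type u} [CommRing C] [IsNoetherianRing C] (Q : Ideal C)
    [Q.IsPrime] {N N' : Type u} [AddCommGroup N] [Module C N] [AddCommGroup N'] [Module C N']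
    [Module.Finite C N] (e : N ≃ₗ[C] N') : CdAt n Q N ↔ CdAt n Q N' := by
  obtain ⟨h1, h2⟩ := dep_dm_congr Q e
  unfold CdAt
  rw [h1, h2]

theorem cdAt_congr_ideal (n : ℕ) {C : Type u} [CommRing C] {Q Q' : Ideal C}
    [Q.IsPrime] [Q'.IsPrime] (h : Q = Q') (N : Type u) [AddCommGroup N] [Module C N] :
    CdAt n Q N ↔ CdAt n Q' N := by
  subst h
  exact Iff.rfl

theorem cdAt_of_subsingleton (n : ℕ) {C : Type u} [CommRing C] (Q : Ideal C) [Q.IsPrime]
    (N : Type u) [AddCommGroup N] [Module C N]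
    [Subsingleton (LocalizedModule Q.primeCompl N)] : CdAt n Q N := by
  unfold CdAt
  have h0 : dm Q N = ⊥ := Module.supportDim_eq_bot_of_subsingleton _ _
  rw [h0]
  exact bot_le

section Flat

variable {C₁ C₂ : Type u} [CommRing C₁] [CommRing C₂] [IsNoetherianRing C₁] [IsNoetherianRing C₂]
  [Algebra C₁ C₂] [Module.Flat C₁ C₂]
  (N : Type u) [AddCommGroup N] [Module C₁ N] [Module.Finite C₁ N] (Q : Ideal C₂) [Q.IsPrime]

/-- the fibre local ring, as a module over the local ring, has equal dimension and depth when it is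
Cohen–Macaulay. -/
theorem fibLocMod_self_cm (hcm : LocCoh.IsCohenMacaulayLocalRing (EGA4.FibLocRing C₁ C₂ Q)) :
    Module.supportDim (Localization.AtPrime Q) (EGA4.FibLocMod C₁ C₂ Q C₂) =
      ((LocCoh.depth (Localization.AtPrime Q) (EGA4.FibLocMod C₁ C₂ Q C₂) : ℕ∞) : WithBot ℕ∞) ∧
    LocCoh.depth (Localization.AtPrime Q) (EGA4.FibLocMod C₁ C₂ Q C₂) ≠ ⊤ := by
  haveI hN : IsNoetherianRing (Localization.AtPrime Q) :=
    IsLocalization.isNoetherianRing Q.primeCompl _ inferInstance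
  haveI hloc : IsLocalRing (EGA4.FibLocRing C₁ C₂ Q) := hcm.toIsLocalRing
  haveI hNF : IsNoetherianRing (EGA4.FibLocRing C₁ C₂ Q) := hcm.toIsNoetherian
  have hlh : IsLocalHom (algebraMap (Localization.AtPrime Q) (EGA4.FibLocRing C₁ C₂ Q)) :=
    IsLocalHom.of_surjective _ Ideal.Quotient.mk_surjective
  have e := fibLocModSelfEquiv (A := C₁) Q
  have h1 : Module.supportDim (Localization.AtPrime Q) (EGA4.FibLocMod C₁ C₂ Q C₂) =
      Module.supportDim (Localization.AtPrime Q) (EGA4.FibLocRing C₁ C₂ Q) :=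
    Module.supportDim_eq_of_equiv e
  have h2 : LocCoh.depth (Localization.AtPrime Q) (EGA4.FibLocMod C₁ C₂ Q C₂) =
      LocCoh.depth (Localization.AtPrime Q) (EGA4.FibLocRing C₁ C₂ Q) :=
    idealDepth_congr e _
  have h3 := supportDim_eq_of_surjective (B := Localization.AtPrime Q)
    (B' := EGA4.FibLocRing C₁ C₂ Q) (EGA4.FibLocRing C₁ C₂ Q) Ideal.Quotient.mk_surjective
  have h4 := depth_eq_depth_of_isLocalHom_of_finite (A := Localization.AtPrime Q)
    (B := EGA4.FibLocRing C₁ C₂ Q) (M := EGA4.FibLocRing C₁ C₂ Q)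
  have h5 := hcm.supportDim_eq_depth
  refine ⟨?_, ?_⟩
  · rw [h1, h2, h3, h4]
    exact h5
  · rw [h2, h4]
    exact Groth.Agent.Lib.Helper5.depth_ne_top

theorem cdAt_tensor_iff_of_cm_fibre
    (hcm : LocCoh.IsCohenMacaulayLocalRing (EGA4.FibLocRing C₁ C₂ Q)) (n : ℕ) :
    CdAt n Q (C₂ ⊗[C₁] N) ↔ CdAt n (Q.comap (algebraMap C₁ C₂)) N := by
  by_cases hnt : Nontrivial (LocalizedModule (Q.comap (algebraMap C₁ C₂)).primeCompl N)
  · haveI := hnt
    obtain ⟨hd, hp⟩ := supportDim_depth_localization_tensor (A := C₁) (B := C₂) N C₂ Q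
    obtain ⟨hδ, hδtop⟩ := fibLocMod_self_cm Q hcm
    unfold CdAt dm dep
    rw [hd, hp, hδ]
    obtain ⟨δ, hδ'⟩ := ENat.ne_top_iff_exists.mp hδtop
    rw [← hδ']
    have hne : Module.supportDim (Localization.AtPrime (Q.comap (algebraMap C₁ C₂)))
        (LocalizedModule (Q.comap (algebraMap C₁ C₂)).primeCompl N) ≠ ⊥ :=
      Module.supportDim_ne_bot_of_nontrivial _ _
    obtain ⟨a, ha⟩ := WithBot.ne_bot_iff_exists.mp hne
    rw [← ha]
    have hn : ((n : ℕ) : WithBot ℕ∞) = (((n : ℕ) : ℕ∞) : WithBot ℕ∞) := rfl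
    rw [hn, ← WithBot.coe_add, ← WithBot.coe_add, ← WithBot.coe_add, WithBot.coe_le_coe,
      WithBot.coe_le_coe]
    set b := LocCoh.depth (Localization.AtPrime (Q.comap (algebraMap C₁ C₂)))
      (LocalizedModule (Q.comap (algebraMap C₁ C₂)).primeCompl N)
    have h1 : b + (δ : ℕ∞) + (n : ℕ∞) = (b + n) + (δ : ℕ∞) := by ring
    rw [h1]
    exact ENat.add_le_add_iff_right (ENat.natCast_ne_top δ)
  · rw [not_nontrivial_iff_subsingleton] at hnt
    haveI := hnt
    haveI : Subsingleton (LocalizedModule Q.primeCompl (C₂ ⊗[C₁] N)) := by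
      by_contra hcon
      rw [not_subsingleton_iff_nontrivial] at hcon
      haveI := hcon
      have hh := nontrivial_localization_of_nontrivial_localization_tensor (A := C₁) (B := C₂) N C₂ Q
      exact (not_subsingleton_iff_nontrivial.mpr (hh hcon)) hnt
    exact ⟨fun _ => cdAt_of_subsingleton n _ N, fun _ => cdAt_of_subsingleton n Q _⟩

end Flat

section Field

theorem finiteType_pushout (L₁ L₂ C₁ C₂ : Type u) [Field L₁] [Field L₂] [Algebra L₁ L₂]
    [CommRing C₁] [CommRing C₂] [Algebra L₁ C₁] [Algebra L₂ C₂] [Algebra C₁ C₂] [Algebra L₁ C₂]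
    [IsScalarTower L₁ C₁ C₂] [IsScalarTower L₁ L₂ C₂] [Algebra.IsPushout L₁ L₂ C₁ C₂]
    [Algebra.FiniteType L₁ C₁] : Algebra.FiniteType L₂ C₂ :=
  (inferInstance : Algebra.FiniteType L₂ (L₂ ⊗[L₁] C₁)).equiv (Algebra.IsPushout.equiv L₁ L₂ C₁ C₂)

theorem isNoetherianRing_pushout (L₁ L₂ C₁ C₂ : Type u) [Field L₁] [Field L₂] [Algebra L₁ L₂]
    [CommRing C₁] [CommRing C₂] [Algebra L₁ C₁] [Algebra L₂ C₂] [Algebra C₁ C₂] [Algebra L₁ C₂]
    [IsScalarTower L₁ C₁ C₂] [IsScalarTower L₁ L₂ C₂] [Algebra.IsPushout L₁ L₂ C₁ C₂]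
    [Algebra.FiniteType L₁ C₁] : IsNoetherianRing C₂ :=
  haveI := finiteType_pushout L₁ L₂ C₁ C₂
  Algebra.FiniteType.isNoetherianRing L₂ C₂

theorem flat_pushout (L₁ L₂ C₁ C₂ : Type u) [Field L₁] [Field L₂] [Algebra L₁ L₂]
    [CommRing C₁] [CommRing C₂] [Algebra L₁ C₁] [Algebra L₂ C₂] [Algebra C₁ C₂] [Algebra L₁ C₂]
    [IsScalarTower L₁ C₁ C₂] [IsScalarTower L₁ L₂ C₂] [Algebra.IsPushout L₁ L₂ C₁ C₂] :
    Module.Flat C₁ C₂ := by
  have h : Algebra.IsPushout L₁ C₁ L₂ C₂ := Algebra.IsPushout.symm inferInstance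
  exact Module.Flat.isBaseChange L₁ C₁ L₂ C₂ h.out

theorem cm_fibre_pushout (L₁ L₂ C₁ C₂ : Type u) [Field L₁] [Field L₂] [Algebra L₁ L₂]
    [CommRing C₁] [CommRing C₂] [Algebra L₁ C₁] [Algebra L₂ C₂] [Algebra C₁ C₂] [Algebra L₁ C₂]
    [IsScalarTower L₁ C₁ C₂] [IsScalarTower L₁ L₂ C₂] [Algebra.IsPushout L₁ L₂ C₁ C₂]
    [Algebra.FiniteType L₁ C₁] (Q : Ideal C₂) [Q.IsPrime] :
    LocCoh.IsCohenMacaulayLocalRing (EGA4.FibLocRing C₁ C₂ Q) := by
  haveI : IsNoetherianRing C₁ := Algebra.FiniteType.isNoetherianRing L₁ C₁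
  haveI := isNoetherianRing_pushout L₁ L₂ C₁ C₂
  refine (forall_isCohenMacaulayRing_fiber_iff (A := C₁) (B := C₂)).mp ?_ Q
  intro p hp
  haveI : Algebra.EssFiniteType L₁ p.ResidueField :=
    Algebra.EssFiniteType.comp L₁ C₁ p.ResidueField
  haveI := Groth.Agent.Lib.Helper5.TensorFieldsCM.cm_tensor_left L₁ p.ResidueField L₂
  let e1 : p.ResidueField ⊗[L₁] L₂ ≃+* L₂ ⊗[L₁] p.ResidueField :=
    (Algebra.TensorProduct.comm L₁ p.ResidueField L₂).toRingEquiv
  let e2 : C₂ ⊗[C₁] p.ResidueField ≃+* L₂ ⊗[L₁] p.ResidueField :=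
    (Algebra.IsPushout.cancelBaseChangeAlg L₁ L₂ C₁ C₂ p.ResidueField).toRingEquiv
  let e3 : C₂ ⊗[C₁] p.ResidueField ≃+* p.ResidueField ⊗[C₁] C₂ :=
    (Algebra.TensorProduct.comm C₁ C₂ p.ResidueField).toRingEquiv
  exact isCohenMacaulayRing_of_ringEquiv (e1.trans (e2.symm.trans e3))

/-- **Invariance of the codepth under base field extension.** -/
theorem cdAt_pushout_field_iff (L₁ L₂ C₁ C₂ : Type u) [Field L₁] [Field L₂] [Algebra L₁ L₂]
    [CommRing C₁] [CommRing C₂] [Algebra L₁ C₁] [Algebra L₂ C₂] [Algebra C₁ C₂] [Algebra L₁ C₂]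
    [IsScalarTower L₁ C₁ C₂] [IsScalarTower L₁ L₂ C₂] [Algebra.IsPushout L₁ L₂ C₁ C₂]
    [Algebra.FiniteType L₁ C₁] (N : Type u) [AddCommGroup N] [Module C₁ N] [Module.Finite C₁ N]
    (Q : Ideal C₂) [Q.IsPrime] (n : ℕ) :
    CdAt n Q (C₂ ⊗[C₁] N) ↔ CdAt n (Q.comap (algebraMap C₁ C₂)) N := by
  haveI : IsNoetherianRing C₁ := Algebra.FiniteType.isNoetherianRing L₁ C₁
  haveI := isNoetherianRing_pushout L₁ L₂ C₁ C₂
  haveI := flat_pushout L₁ L₂ C₁ C₂
  exact cdAt_tensor_iff_of_cm_fibre N Q (cm_fibre_pushout L₁ L₂ C₁ C₂ Q) n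

end Field

end Groth.Agent.Lib.Helper14.FibModA
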