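import Mathlib
import Groth.Agent.Lib.Helper14FibModA

/-!
# Fibre codepth of modules, part B: charts (helper14)

A *chart* of an algebra `A → B` is a field `L` over `A` together with a pushout `C = L ⊗_A B`.
For a `B`-module `M` and a prime `Q` of `C` the value of the chart is `CdAt n Q (C ⊗[B] M)`.

* `cdAt_chart_comp`: the value is unchanged when passing to a bigger chart.
-/

set_option autoImplicit false
set_option linter.unusedVariables false
set_option linter.unusedSectionVars false
set_option linter.style.haveILetI false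
set_option maxHeartbeats 400000

universe u

open TensorProduct

namespace Groth.Agent.Lib.Helper14.FibModB

open Groth.Agent.Lib.Helper14.FibModA
open Groth.Agent.Lib.Helper28 Groth.Agent.Lib.Helper5.GenDepth Groth.Agent.Lib.Helper5

/-- a pushout of a finite type algebra is of finite type. -/
theorem finiteType_of_isPushout (A L B C : Type u) [CommRing A] [CommRing L] [CommRing B]
    [CommRing C] [Algebra A L] [Algebra A B] [Algebra A C] [Algebra B C] [Algebra L C]
    [IsScalarTower A B C] [IsScalarTower A L C] [Algebra.IsPushout A L B C]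
    [Algebra.FiniteType A B] : Algebra.FiniteType L C :=
  (inferInstance : Algebra.FiniteType L (L ⊗[A] B)).equiv (Algebra.IsPushout.equiv A L B C)

/-- **Comparison of two charts**, the second dominating the first. -/
theorem cdAt_chart_comp {A B : Type u} [CommRing A] [CommRing B] [Algebra A B]
    [Algebra.FiniteType A B]
    (M : Type u) [AddCommGroup M] [Module B M] [Module.Finite B M]
    (L₁ C₁ L₂ C₂ : Type u) [Field L₁] [Field L₂] [CommRing C₁] [CommRing C₂]
    [Algebra A L₁] [Algebra A L₂] [Algebra L₁ L₂] [IsScalarTower A L₁ L₂]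
    [Algebra A C₁] [Algebra B C₁] [Algebra L₁ C₁] [IsScalarTower A B C₁] [IsScalarTower A L₁ C₁]
    [Algebra.IsPushout A L₁ B C₁]
    [Algebra A C₂] [Algebra B C₂] [Algebra L₂ C₂] [IsScalarTower A B C₂] [IsScalarTower A L₂ C₂]
    [Algebra.IsPushout A L₂ B C₂]
    [Algebra C₁ C₂] [Algebra L₁ C₂] [IsScalarTower L₁ L₂ C₂] [IsScalarTower L₁ C₁ C₂]
    [IsScalarTower A C₁ C₂] [IsScalarTower B C₁ C₂]
    (Q : Ideal C₂) [Q.IsPrime] (n : ℕ) :
    CdAt n Q (C₂ ⊗[B] M) ↔ CdAt n (Q.comap (algebraMap C₁ C₂)) (C₁ ⊗[B] M) := by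
  haveI hpo : Algebra.IsPushout L₁ L₂ C₁ C₂ :=
    (Algebra.IsPushout.comp_iff A L₁ B C₁).mp inferInstance
  haveI hft : Algebra.FiniteType L₁ C₁ := finiteType_of_isPushout A L₁ B C₁
  haveI : IsNoetherianRing C₂ := isNoetherianRing_pushout L₁ L₂ C₁ C₂
  have key := cdAt_pushout_field_iff L₁ L₂ C₁ C₂ (C₁ ⊗[B] M) Q n
  rw [← key]
  exact (cdAt_congr n Q (AlgebraTensorModule.cancelBaseChange B C₁ C₂ C₂ M)).symm

section Canonical

attribute [local instance] Algebra.TensorProduct.rightAlgebra

variable {A B : Type u} [CommRing A] [CommRing B] [Algebra A B]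

/-- primes of the fibre ring are determined by their contraction. -/
theorem fiber_prime_ext (p : Ideal A) [p.IsPrime] (Q Q' : Ideal (p.Fiber B)) [hQ : Q.IsPrime]
    [hQ' : Q'.IsPrime]
    (h : Q.comap (algebraMap B (p.Fiber B)) = Q'.comap (algebraMap B (p.Fiber B))) : Q = Q' := by
  let P : PrimeSpectrum A := ⟨p, inferInstance⟩
  have h1 : (PrimeSpectrum.preimageEquivFiber A B P).symm ⟨Q, hQ⟩ =
      (PrimeSpectrum.preimageEquivFiber A B P).symm ⟨Q', hQ'⟩ := by
    apply Subtype.ext
    apply PrimeSpectrum.ext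
    exact h
  have h2 := (PrimeSpectrum.preimageEquivFiber A B P).symm.injective h1
  exact congrArg PrimeSpectrum.asIdeal h2

/-- existence of a prime of the fibre ring over a given prime. -/
theorem exists_fiber_prime (q : Ideal B) [q.IsPrime] :
    ∃ (Q : Ideal ((q.comap (algebraMap A B)).Fiber B)) (_ : Q.IsPrime),
      Q.comap (algebraMap B ((q.comap (algebraMap A B)).Fiber B)) = q := by
  obtain ⟨Q, hQ, h⟩ := exists_prime_fiber_comap_eq (A := A) q
  exact ⟨Q, hQ, h.symm⟩

/-- the canonical prime of the fibre ring over `q`. -/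
noncomputable def Qcan (q : Ideal B) [q.IsPrime] : Ideal ((q.comap (algebraMap A B)).Fiber B) :=
  (exists_fiber_prime (A := A) q).choose

instance Qcan_isPrime (q : Ideal B) [q.IsPrime] : (Qcan (A := A) q).IsPrime :=
  (exists_fiber_prime (A := A) q).choose_spec.choose

theorem Qcan_comap (q : Ideal B) [q.IsPrime] :
    (Qcan (A := A) q).comap (algebraMap B ((q.comap (algebraMap A B)).Fiber B)) = q :=
  (exists_fiber_prime (A := A) q).choose_spec.choose_spec

/-- **The fibre codepth condition**: the fibre of `M` through `q` has codepth at most `n` at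
`q`. -/
def FibCd (n : ℕ) (A : Type u) {B : Type u} [CommRing A] [CommRing B] [Algebra A B]
    (M : Type u) [AddCommGroup M] [Module B M] (q : Ideal B) [q.IsPrime] : Prop :=
  CdAt n (Qcan (A := A) q) (((q.comap (algebraMap A B)).Fiber B) ⊗[B] M)

/-- the kernel of `A → L` for a chart through `q`. -/
theorem algebraMap_field_eq_zero_iff {L C : Type u} [Field L] [CommRing C] [Algebra A L]
    [Algebra A C] [Algebra B C] [Algebra L C] [IsScalarTower A B C] [IsScalarTower A L C]
    (Q : Ideal C) [Q.IsPrime] (a : A) :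
    algebraMap A L a = 0 ↔ a ∈ (Q.comap (algebraMap B C)).comap (algebraMap A B) := by
  rw [Ideal.mem_comap, Ideal.mem_comap, ← IsScalarTower.algebraMap_apply A B C,
    IsScalarTower.algebraMap_apply A L C]
  constructor
  · intro h
    rw [h, map_zero]
    exact zero_mem _
  · intro h
    by_contra hne
    have hu : IsUnit (algebraMap L C (algebraMap A L a)) := (IsUnit.mk0 _ hne).map _
    exact ‹Q.IsPrime›.ne_top (Ideal.eq_top_of_isUnit_mem _ h hu)

/-- **Any chart through `q` computes the fibre codepth condition.** -/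
theorem cdAt_chart_iff_fibCd [Algebra.FiniteType A B]
    (M : Type u) [AddCommGroup M] [Module B M] [Module.Finite B M]
    (L C : Type u) [Field L] [CommRing C] [Algebra A L]
    [Algebra A C] [Algebra B C] [Algebra L C] [IsScalarTower A B C] [IsScalarTower A L C]
    [Algebra.IsPushout A L B C] (Q : Ideal C) [Q.IsPrime] (q : Ideal B) [q.IsPrime]
    (hq : Q.comap (algebraMap B C) = q) (n : ℕ) :
    CdAt n Q (C ⊗[B] M) ↔ FibCd n A M q := by
  subst hq
  set p : Ideal A := (Q.comap (algebraMap B C)).comap (algebraMap A B) with hp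
  -- the residue field maps to `L`
  have hf₁ : p ≤ RingHom.ker (algebraMap A L) := fun a ha =>
    (RingHom.mem_ker).mpr ((algebraMap_field_eq_zero_iff (B := B) Q a).mpr ha)
  have hf₂ : p.primeCompl ≤ (IsUnit.submonoid L).comap (algebraMap A L) := by
    intro a ha
    rw [Submonoid.mem_comap, IsUnit.mem_submonoid_iff]
    exact IsUnit.mk0 _ (fun h0 => ha ((algebraMap_field_eq_zero_iff (B := B) Q a).mp h0))
  let φ : p.ResidueField →+* L := Ideal.ResidueField.lift p (algebraMap A L) hf₁ hf₂
  have hφ : ∀ a : A, φ (algebraMap A p.ResidueField a) = algebraMap A L a :=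
    fun a => Ideal.ResidueField.lift_algebraMap p (algebraMap A L) hf₁ hf₂ a
  letI algκL : Algebra p.ResidueField L := φ.toAlgebra
  haveI tAκL : IsScalarTower A p.ResidueField L :=
    IsScalarTower.of_algebraMap_eq (fun a => (hφ a).symm)
  letI algκC : Algebra p.ResidueField C := ((algebraMap L C).comp φ).toAlgebra
  haveI tκLC : IsScalarTower p.ResidueField L C := IsScalarTower.of_algebraMap_eq (fun k => rfl)
  haveI tAκC : IsScalarTower A p.ResidueField C := by
    refine IsScalarTower.of_algebraMap_eq (fun a => ?_)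
    change algebraMap A C a = algebraMap L C (φ (algebraMap A p.ResidueField a))
    rw [hφ, ← IsScalarTower.algebraMap_apply]
  -- the fibre ring maps to `C`
  let ψ : p.Fiber B →ₐ[A] C :=
    Algebra.TensorProduct.lift (IsScalarTower.toAlgHom A p.ResidueField C)
      (IsScalarTower.toAlgHom A B C) (fun _ _ => Commute.all _ _)
  letI algC₀C : Algebra (p.Fiber B) C := ψ.toRingHom.toAlgebra
  have hψ : ∀ x : p.Fiber B, algebraMap (p.Fiber B) C x = ψ x := fun x => rfl
  haveI tκC₀C : IsScalarTower p.ResidueField (p.Fiber B) C := by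
    refine IsScalarTower.of_algebraMap_eq (R := p.ResidueField) (S := p.Fiber B) (A := C)
      (fun k => ?_)
    rw [hψ, Algebra.TensorProduct.algebraMap_apply, Algebra.TensorProduct.lift_tmul, map_one,
      mul_one]
    rfl
  haveI tAC₀C : IsScalarTower A (p.Fiber B) C := by
    refine IsScalarTower.of_algebraMap_eq (R := A) (S := p.Fiber B) (A := C) (fun a => ?_)
    rw [hψ, AlgHom.commutes]
  haveI tBC₀C : IsScalarTower B (p.Fiber B) C := by
    refine IsScalarTower.of_algebraMap_eq (R := B) (S := p.Fiber B) (A := C) (fun b => ?_)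
    rw [hψ]
    change algebraMap B C b = ψ ((1 : p.ResidueField) ⊗ₜ[A] b)
    rw [Algebra.TensorProduct.lift_tmul, map_one, one_mul]
    rfl
  have key := cdAt_chart_comp (A := A) (B := B) M p.ResidueField (p.Fiber B) L C Q n
  rw [key]
  unfold FibCd
  apply cdAt_congr_ideal
  apply fiber_prime_ext
  rw [Qcan_comap, Ideal.comap_comap, ← IsScalarTower.algebraMap_eq]

/-- **Base change invariance of the fibre codepth condition.** -/
theorem fibCd_baseChange {A' B' : Type u} [CommRing A'] [CommRing B'] [Algebra A A']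
    [Algebra A' B'] [Algebra B B'] [Algebra A B'] [IsScalarTower A A' B'] [IsScalarTower A B B']
    [Algebra.IsPushout A A' B B'] [Algebra.FiniteType A B]
    (M : Type u) [AddCommGroup M] [Module B M] [Module.Finite B M]
    (M' : Type u) [AddCommGroup M'] [Module B' M'] [Module B M'] [IsScalarTower B B' M']
    (g : M →ₗ[B] M') (hg : IsBaseChange B' g) (q' : Ideal B') [q'.IsPrime] (n : ℕ) :
    FibCd n A' M' q' ↔ FibCd n A M (q'.comap (algebraMap B B')) := by
  set p' : Ideal A' := q'.comap (algebraMap A' B') with hp'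
  haveI hftA' : Algebra.FiniteType A' B' := finiteType_of_isPushout A A' B B'
  letI algBC' : Algebra B (p'.Fiber B') :=
    ((algebraMap B' (p'.Fiber B')).comp (algebraMap B B')).toAlgebra
  haveI tBB'C' : IsScalarTower B B' (p'.Fiber B') := IsScalarTower.of_algebraMap_eq (fun b => rfl)
  haveI tABC' : IsScalarTower A B (p'.Fiber B') := by
    refine IsScalarTower.of_algebraMap_eq (R := A) (S := B) (A := p'.Fiber B') (fun a => ?_)
    change algebraMap A (p'.Fiber B') a =
      algebraMap B' (p'.Fiber B') (algebraMap B B' (algebraMap A B a))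
    rw [← IsScalarTower.algebraMap_apply A B B', IsScalarTower.algebraMap_apply A A' B',
      ← IsScalarTower.algebraMap_apply A' B' (p'.Fiber B'),
      ← IsScalarTower.algebraMap_apply A A' (p'.Fiber B')]
  haveI tAB'C' : IsScalarTower A B' (p'.Fiber B') := by
    refine IsScalarTower.of_algebraMap_eq (R := A) (S := B') (A := p'.Fiber B') (fun a => ?_)
    rw [IsScalarTower.algebraMap_apply A A' B',
      ← IsScalarTower.algebraMap_apply A' B' (p'.Fiber B'),
      ← IsScalarTower.algebraMap_apply A A' (p'.Fiber B')]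
  haveI hpo : Algebra.IsPushout A p'.ResidueField B (p'.Fiber B') :=
    (Algebra.IsPushout.comp_iff A A' B B').mpr inferInstance
  have key := cdAt_chart_iff_fibCd (A := A) (B := B) M p'.ResidueField (p'.Fiber B')
    (Qcan (A := A') q') (q'.comap (algebraMap B B')) (by
      rw [IsScalarTower.algebraMap_eq B B' (p'.Fiber B'), ← Ideal.comap_comap, Qcan_comap]) n
  rw [← key]
  unfold FibCd
  haveI : IsNoetherianRing (p'.Fiber B') :=
    haveI := finiteType_of_isPushout A' p'.ResidueField B' (p'.Fiber B')
    Algebra.FiniteType.isNoetherianRing p'.ResidueField (p'.Fiber B')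
  let e1 : (p'.Fiber B') ⊗[B'] (B' ⊗[B] M) ≃ₗ[p'.Fiber B'] (p'.Fiber B') ⊗[B] M :=
    AlgebraTensorModule.cancelBaseChange B B' (p'.Fiber B') (p'.Fiber B') M
  let e2 : (p'.Fiber B') ⊗[B'] (B' ⊗[B] M) ≃ₗ[p'.Fiber B'] (p'.Fiber B') ⊗[B'] M' :=
    AlgebraTensorModule.congr (LinearEquiv.refl (p'.Fiber B') (p'.Fiber B')) hg.equiv
  exact (cdAt_congr n _ (e1.symm.trans e2)).symm

/-- the locus of primes at which the fibre of `M` has codepth at most `n`. -/
def FL (n : ℕ) (A : Type u) {B : Type u} [CommRing A] [CommRing B] [Algebra A B]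
    (M : Type u) [AddCommGroup M] [Module B M] : Set (PrimeSpectrum B) :=
  {q | FibCd n A M q.asIdeal}

theorem mem_FL_iff (n : ℕ) (M : Type u) [AddCommGroup M] [Module B M] (q : PrimeSpectrum B) :
    q ∈ FL n A M ↔ FibCd n A M q.asIdeal := Iff.rfl

/-- base change invariance, as a statement about loci. -/
theorem FL_baseChange {A' B' : Type u} [CommRing A'] [CommRing B'] [Algebra A A']
    [Algebra A' B'] [Algebra B B'] [Algebra A B'] [IsScalarTower A A' B'] [IsScalarTower A B B']
    [Algebra.IsPushout A A' B B'] [Algebra.FiniteType A B]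
    (M : Type u) [AddCommGroup M] [Module B M] [Module.Finite B M]
    (M' : Type u) [AddCommGroup M'] [Module B' M'] [Module B M'] [IsScalarTower B B' M']
    (g : M →ₗ[B] M') (hg : IsBaseChange B' g) (n : ℕ) :
    FL n A' M' = PrimeSpectrum.comap (algebraMap B B') ⁻¹' FL n A M := by
  ext q'
  exact fibCd_baseChange M M' g hg q'.asIdeal n

end Canonical

end Groth.Agent.Lib.Helper14.FibModB
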