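import Groth.Agent.Lib.Helper28FibBC4

/-!
# Base change of fibre depth, part 5 (helper28): `J`-depth of fibre stalks
-/

set_option autoImplicit false
universe u v w

namespace Groth.Agent.Lib.Helper28.FibBC
open TensorProduct RingTheory.Sequence
open scoped Pointwise

section FibQuot

variable {A B : Type u} [CommRing A] [CommRing B] [IsNoetherianRing B] [Algebra A B]
  (q : Ideal B) [q.IsPrime] (X : Type u) [AddCommGroup X] [Module B X] [Module.Finite B X]

/-- The stalk at `q` of `X / p X` is the fibre stalk `X_q / p X_q`. -/
noncomputable def fibLocModEquivLocalizedQuot :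
    EGA4.FibLocMod A B q X ≃ₗ[Localization.AtPrime q]
      LocalizedModule q.primeCompl
        (X ⧸ (((q.comap (algebraMap A B)).map (algebraMap A B)) • (⊤ : Submodule B X))) :=
  Submodule.quotEquivOfEq _ _ (by
    rw [Submodule.localized, Submodule.localized'_smul, Ideal.localized'_eq_map,
      Submodule.localized'_top, Ideal.map_map, ← IsScalarTower.algebraMap_eq]) ≪≫ₗ
    localizedQuotientEquiv q.primeCompl
      (((q.comap (algebraMap A B)).map (algebraMap A B)) • (⊤ : Submodule B X))

/-- The `J`-depth of `X / p X` bounds the `J`-depth of the fibre stalk at `q` from below. -/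
theorem idealDepth_quot_le_idealDepth_fibLocMod (J : Ideal B) :
    LocCoh.idealDepth J
      (X ⧸ (((q.comap (algebraMap A B)).map (algebraMap A B)) • (⊤ : Submodule B X))) ≤
    LocCoh.idealDepth (J.map (algebraMap B (EGA4.FibLocRing A B q))) (EGA4.FibLocMod A B q X) := by
  refine (idealDepth_le_of_isLocalizedModule q.primeCompl (Localization.AtPrime q)
    (LocalizedModule.mkLinearMap q.primeCompl _) J).trans ?_
  rw [← idealDepth_congr (fibLocModEquivLocalizedQuot (A := A) q X)]
  haveI hfin : Module.Finite (EGA4.FibLocRing A B q) (EGA4.FibLocMod A B q X) :=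
    Module.Finite.of_restrictScalars_finite (Localization.AtPrime q) _ _
  rw [idealDepth_restrictScalars_eq_idealDepth_map (B := EGA4.FibLocRing A B q)
    (J.map (algebraMap B (Localization.AtPrime q))) (EGA4.FibLocMod A B q X),
    Ideal.map_map, ← IsScalarTower.algebraMap_eq]

end FibQuot

section FibProj

variable {A B : Type u} [CommRing A] [CommRing B] [IsNoetherianRing B] [Algebra A B]
  (q : Ideal B) [q.IsPrime] (E : Type u) [AddCommGroup E] [Module B E] [Module.Finite B E]
  [Module.Projective B E]

/-- The fibre stalk of a finite projective module is a base change to the fibre ring. -/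
theorem isBaseChange_fibLocMod (X : Type u) [AddCommGroup X] [Module B X] :
    IsBaseChange (EGA4.FibLocRing A B q)
      (((((q.comap (algebraMap A B)).map (algebraMap A (Localization.AtPrime q))) •
        (⊤ : Submodule (Localization.AtPrime q) (LocalizedModule q.primeCompl X))).mkQ).restrictScalars B
        ∘ₗ LocalizedModule.mkLinearMap q.primeCompl X) :=
  IsBaseChange.comp
    (IsLocalizedModule.isBaseChange q.primeCompl (Localization.AtPrime q)
      (LocalizedModule.mkLinearMap q.primeCompl X))
    (isBaseChange_mkQ _)

instance projective_fibLocMod : Module.Projective (EGA4.FibLocRing A B q) (EGA4.FibLocMod A B q E) :=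
  Module.Projective.of_equiv (isBaseChange_fibLocMod (A := A) q E).equiv

theorem two_le_idealDepth_fibLocMod_of_projective (I : Ideal (EGA4.FibLocRing A B q))
    (h : 2 ≤ LocCoh.idealDepth I (EGA4.FibLocRing A B q)) :
    2 ≤ LocCoh.idealDepth I (EGA4.FibLocMod A B q E) := by
  haveI hfin : Module.Finite (EGA4.FibLocRing A B q) (EGA4.FibLocMod A B q E) :=
    Module.Finite.of_restrictScalars_finite (Localization.AtPrime q) _ _
  exact two_le_idealDepth_of_isReflexive I _ h

theorem one_le_idealDepth_fibLocMod_of_projective (I : Ideal (EGA4.FibLocRing A B q))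
    (h : 1 ≤ LocCoh.idealDepth I (EGA4.FibLocRing A B q)) :
    1 ≤ LocCoh.idealDepth I (EGA4.FibLocMod A B q E) := by
  haveI hfin : Module.Finite (EGA4.FibLocRing A B q) (EGA4.FibLocMod A B q E) :=
    Module.Finite.of_restrictScalars_finite (Localization.AtPrime q) _ _
  exact one_le_idealDepth_of_isReflexive I _ h

end FibProj

end Groth.Agent.Lib.Helper28.FibBC
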