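import Mathlib
import Groth.Agent.Lib.Helper14FibModB
import Groth.Agent.Lib.Helper28FibBC5

/-!
# Fibre codepth of modules, part C: the fibre local ring is a localization of the fibre ring
(helper14)

For an algebra `A → B` and a prime `q` of `B` over `p`, the fibre local ring `B_q / p B_q` is the
localization of the fibre ring `κ(p) ⊗_A B` at the prime corresponding to `q`; the fibre stalk
`M_q / p M_q` is the corresponding localized module.  Hence `FibCd` can be read off the fibre stalk.
-/

set_option autoImplicit false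
set_option linter.unusedVariables false
set_option linter.unusedSectionVars false
set_option linter.style.haveILetI false
set_option maxHeartbeats 400000

universe u

open TensorProduct

namespace Groth.Agent.Lib.Helper14.FibModC

open Groth.Agent.Lib.Helper14.FibModA Groth.Agent.Lib.Helper14.FibModB
open Groth.Agent.Lib.Helper28 Groth.Agent.Lib.Helper5.GenDepth Groth.Agent.Lib.Helper5

attribute [local instance] Algebra.TensorProduct.rightAlgebra

variable {A B : Type u} [CommRing A] [CommRing B] [Algebra A B] (q : Ideal B) [q.IsPrime]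

theorem algebraMap_fibLocRing_eq_zero (a : A) (ha : a ∈ q.comap (algebraMap A B)) :
    algebraMap A (EGA4.FibLocRing A B q) a = 0 := by
  rw [IsScalarTower.algebraMap_apply A (Localization.AtPrime q) (EGA4.FibLocRing A B q)]
  exact Ideal.Quotient.eq_zero_iff_mem.mpr (Ideal.mem_map_of_mem _ ha)

theorem isUnit_algebraMap_fibLocRing (b : B) (hb : b ∉ q) :
    IsUnit (algebraMap B (EGA4.FibLocRing A B q) b) := by
  rw [IsScalarTower.algebraMap_apply B (Localization.AtPrime q) (EGA4.FibLocRing A B q)]
  exact (IsLocalization.map_units (Localization.AtPrime q) (⟨b, hb⟩ : q.primeCompl)).map _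

/-- the residue field of `p = q ∩ A` maps to the fibre local ring. -/
noncomputable def kappaToFib :
    (q.comap (algebraMap A B)).ResidueField →ₐ[A] EGA4.FibLocRing A B q :=
  Ideal.ResidueField.liftₐ (q.comap (algebraMap A B)) (Algebra.ofId A (EGA4.FibLocRing A B q))
    (fun a ha => (RingHom.mem_ker).mpr (algebraMap_fibLocRing_eq_zero q a ha))
    (fun a ha => by
      rw [Submonoid.mem_comap, IsUnit.mem_submonoid_iff]
      change IsUnit (algebraMap A (EGA4.FibLocRing A B q) a)
      rw [IsScalarTower.algebraMap_apply A B (EGA4.FibLocRing A B q)]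
      exact isUnit_algebraMap_fibLocRing q _ ha)

/-- the fibre ring maps to the fibre local ring. -/
noncomputable def fiberToFib :
    (q.comap (algebraMap A B)).Fiber B →ₐ[A] EGA4.FibLocRing A B q :=
  Algebra.TensorProduct.lift (kappaToFib q) (IsScalarTower.toAlgHom A B (EGA4.FibLocRing A B q))
    (fun _ _ => Commute.all _ _)

theorem fiberToFib_tmul (k : (q.comap (algebraMap A B)).ResidueField) (b : B) :
    fiberToFib q (k ⊗ₜ[A] b) = kappaToFib q k * algebraMap B (EGA4.FibLocRing A B q) b := by
  unfold fiberToFib
  rw [Algebra.TensorProduct.lift_tmul]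
  rfl

theorem fiberToFib_algebraMap (b : B) :
    fiberToFib q (algebraMap B ((q.comap (algebraMap A B)).Fiber B) b) =
      algebraMap B (EGA4.FibLocRing A B q) b := by
  change fiberToFib q ((1 : (q.comap (algebraMap A B)).ResidueField) ⊗ₜ[A] b) = _
  rw [fiberToFib_tmul, map_one, one_mul]

theorem comap_algebraMap_maximalIdeal_fibLocRing
    [IsLocalRing (EGA4.FibLocRing A B q)] :
    (IsLocalRing.maximalIdeal (EGA4.FibLocRing A B q)).comap
      (algebraMap B (EGA4.FibLocRing A B q)) = q := by
  have hlh : IsLocalHom (algebraMap (Localization.AtPrime q) (EGA4.FibLocRing A B q)) :=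
    IsLocalHom.of_surjective _ Ideal.Quotient.mk_surjective
  rw [IsScalarTower.algebraMap_eq B (Localization.AtPrime q) (EGA4.FibLocRing A B q),
    ← Ideal.comap_comap, IsLocalRing.maximalIdeal_comap]
  exact IsLocalization.AtPrime.under_maximalIdeal (Localization.AtPrime q) q

theorem comap_fiberToFib_maximalIdeal [IsLocalRing (EGA4.FibLocRing A B q)] :
    (IsLocalRing.maximalIdeal (EGA4.FibLocRing A B q)).comap (fiberToFib q).toRingHom =
      Qcan (A := A) q := by
  haveI : ((IsLocalRing.maximalIdeal (EGA4.FibLocRing A B q)).comap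
      (fiberToFib q).toRingHom).IsPrime := Ideal.comap_isPrime _ _
  apply fiber_prime_ext
  rw [Qcan_comap, Ideal.comap_comap]
  have h : (fiberToFib q).toRingHom.comp (algebraMap B ((q.comap (algebraMap A B)).Fiber B)) =
      algebraMap B (EGA4.FibLocRing A B q) := RingHom.ext (fun b => fiberToFib_algebraMap q b)
  rw [h]
  exact comap_algebraMap_maximalIdeal_fibLocRing q

/-- elements of `pB` die in the fibre ring. -/
theorem one_tmul_eq_zero_of_mem (x : B) (hx : x ∈ (q.comap (algebraMap A B)).map (algebraMap A B)) :
    (1 : (q.comap (algebraMap A B)).ResidueField) ⊗ₜ[A] x = 0 := by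
  rw [Ideal.map] at hx
  induction hx using Submodule.span_induction with
  | mem x hx =>
    obtain ⟨a, ha, rfl⟩ := hx
    rw [Algebra.algebraMap_eq_smul_one, ← TensorProduct.smul_tmul, Algebra.smul_def, mul_one,
      Ideal.algebraMap_residueField_eq_zero.mpr ha, TensorProduct.zero_tmul]
  | zero => exact TensorProduct.tmul_zero _ _
  | add x y _ _ hx hy => rw [TensorProduct.tmul_add, hx, hy, add_zero]
  | smul b x _ hx =>
    rw [smul_eq_mul]
    have : (1 : (q.comap (algebraMap A B)).ResidueField) ⊗ₜ[A] (b * x) =
        ((1 : (q.comap (algebraMap A B)).ResidueField) ⊗ₜ[A] b) *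
          ((1 : (q.comap (algebraMap A B)).ResidueField) ⊗ₜ[A] x) := by
      rw [Algebra.TensorProduct.tmul_mul_tmul, one_mul]
    rw [this, hx, mul_zero]

theorem exists_mul_eq_zero_of_fiberToFib_eq_zero
    (z : (q.comap (algebraMap A B)).Fiber B) (hz : fiberToFib q z = 0) :
    ∃ c : (q.comap (algebraMap A B)).Fiber B, c ∉ Qcan (A := A) q ∧ c * z = 0 := by
  obtain ⟨r, hr, s, e⟩ := Ideal.Fiber.exists_smul_eq_one_tmul (q.comap (algebraMap A B)) z
  have h1 : algebraMap B (EGA4.FibLocRing A B q) s = 0 := by
    rw [← fiberToFib_algebraMap q s]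
    change fiberToFib q ((1 : (q.comap (algebraMap A B)).ResidueField) ⊗ₜ[A] s) = 0
    rw [← e, map_smul, hz, smul_zero]
  rw [IsScalarTower.algebraMap_apply B (Localization.AtPrime q) (EGA4.FibLocRing A B q)] at h1
  have h2 : algebraMap B (Localization.AtPrime q) s ∈
      ((q.comap (algebraMap A B)).map (algebraMap A B)).map
        (algebraMap B (Localization.AtPrime q)) := by
    rw [Ideal.map_map, ← IsScalarTower.algebraMap_eq]
    exact Ideal.Quotient.eq_zero_iff_mem.mp h1
  rw [IsLocalization.mem_map_algebraMap_iff q.primeCompl] at h2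
  obtain ⟨⟨i, t⟩, hit⟩ := h2
  rw [← map_mul] at hit
  obtain ⟨t', ht'⟩ := (IsLocalization.eq_iff_exists q.primeCompl (Localization.AtPrime q)).mp hit
  have hu : (t' : B) * (t : B) ∉ q := fun h =>
    (‹q.IsPrime›.mem_or_mem h).elim t'.2 t.2
  have hus : ((t' : B) * (t : B)) * s ∈ (q.comap (algebraMap A B)).map (algebraMap A B) := by
    have : ((t' : B) * (t : B)) * s = (t' : B) * (s * (t : B)) := by ring
    rw [this, ht']
    exact Ideal.mul_mem_left _ _ i.2
  refine ⟨algebraMap A _ r * algebraMap B ((q.comap (algebraMap A B)).Fiber B)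
    ((t' : B) * (t : B)), ?_, ?_⟩
  · intro hmem
    rcases (Qcan_isPrime (A := A) q).mem_or_mem hmem with h | h
    · apply hr
      have h' : algebraMap B ((q.comap (algebraMap A B)).Fiber B) (algebraMap A B r) ∈
          Qcan (A := A) q := by
        rw [← IsScalarTower.algebraMap_apply]
        exact h
      have h'' : algebraMap A B r ∈ (Qcan (A := A) q).comap
          (algebraMap B ((q.comap (algebraMap A B)).Fiber B)) := h'
      rw [Qcan_comap] at h''
      exact h''
    · apply hu
      have h'' : (t' : B) * (t : B) ∈ (Qcan (A := A) q).comap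
          (algebraMap B ((q.comap (algebraMap A B)).Fiber B)) := h
      rw [Qcan_comap] at h''
      exact h''
  · have hrz : algebraMap A ((q.comap (algebraMap A B)).Fiber B) r * z =
        (1 : (q.comap (algebraMap A B)).ResidueField) ⊗ₜ[A] s := by
      rw [← e, Algebra.smul_def]
    calc algebraMap A ((q.comap (algebraMap A B)).Fiber B) r *
          algebraMap B ((q.comap (algebraMap A B)).Fiber B) ((t' : B) * (t : B)) * z
        = algebraMap B ((q.comap (algebraMap A B)).Fiber B) ((t' : B) * (t : B)) *
          (algebraMap A ((q.comap (algebraMap A B)).Fiber B) r * z) := by ring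
      _ = ((1 : (q.comap (algebraMap A B)).ResidueField) ⊗ₜ[A] ((t' : B) * (t : B))) *
          ((1 : (q.comap (algebraMap A B)).ResidueField) ⊗ₜ[A] s) := by rw [hrz]; rfl
      _ = 0 := by
        rw [Algebra.TensorProduct.tmul_mul_tmul, one_mul]
        exact one_tmul_eq_zero_of_mem q _ hus

/-- the algebra structure of the fibre local ring over the fibre ring. -/
@[reducible] noncomputable def algFiberFib :
    Algebra ((q.comap (algebraMap A B)).Fiber B) (EGA4.FibLocRing A B q) :=
  (fiberToFib q).toRingHom.toAlgebra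

/-- **The fibre local ring is the localization of the fibre ring at the canonical prime.** -/
theorem isLocalization_fibLocRing :
    letI := algFiberFib (A := A) q
    IsLocalization.AtPrime (EGA4.FibLocRing A B q) (Qcan (A := A) q) := by
  letI := algFiberFib (A := A) q
  haveI hloc : IsLocalRing (EGA4.FibLocRing A B q) := isLocalRing_fibLocRing (A := A) q
  have halg : ∀ x, algebraMap ((q.comap (algebraMap A B)).Fiber B) (EGA4.FibLocRing A B q) x =
      fiberToFib q x := fun x => rfl
  refine (isLocalization_iff _ _).mpr ⟨?_, ?_, ?_⟩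
  · rintro ⟨y, hy⟩
    rw [halg]
    by_contra hnu
    apply hy
    have h1 : fiberToFib q y ∈ IsLocalRing.maximalIdeal (EGA4.FibLocRing A B q) :=
      (IsLocalRing.mem_maximalIdeal _).mpr hnu
    have h2 : y ∈ (IsLocalRing.maximalIdeal (EGA4.FibLocRing A B q)).comap
        (fiberToFib q).toRingHom := h1
    rw [comap_fiberToFib_maximalIdeal] at h2
    exact h2
  · intro z
    obtain ⟨r, rfl⟩ := Ideal.Quotient.mk_surjective z
    obtain ⟨⟨b, t⟩, h⟩ := IsLocalization.surj q.primeCompl r
    have ht : algebraMap B ((q.comap (algebraMap A B)).Fiber B) (t : B) ∉ Qcan (A := A) q := by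
      intro hmem
      have h'' : (t : B) ∈ (Qcan (A := A) q).comap
          (algebraMap B ((q.comap (algebraMap A B)).Fiber B)) := hmem
      rw [Qcan_comap] at h''
      exact t.2 h''
    refine ⟨⟨algebraMap B _ b, ⟨algebraMap B _ (t : B), ht⟩⟩, ?_⟩
    change Ideal.Quotient.mk _ r * algebraMap _ (EGA4.FibLocRing A B q) (algebraMap B _ (t : B)) =
      algebraMap _ (EGA4.FibLocRing A B q) (algebraMap B _ b)
    rw [halg, halg, fiberToFib_algebraMap, fiberToFib_algebraMap,
      IsScalarTower.algebraMap_apply B (Localization.AtPrime q) (EGA4.FibLocRing A B q),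
      IsScalarTower.algebraMap_apply B (Localization.AtPrime q) (EGA4.FibLocRing A B q)]
    change Ideal.Quotient.mk _ r * Ideal.Quotient.mk _ (algebraMap B (Localization.AtPrime q) t) =
      Ideal.Quotient.mk _ (algebraMap B (Localization.AtPrime q) b)
    rw [← map_mul, h]
  · intro x y hxy
    rw [halg, halg] at hxy
    have hz : fiberToFib q (x - y) = 0 := by rw [map_sub, hxy, sub_self]
    obtain ⟨c, hc, hcz⟩ := exists_mul_eq_zero_of_fiberToFib_eq_zero q (x - y) hz
    refine ⟨⟨c, hc⟩, ?_⟩
    change c * x = c * y
    rw [mul_sub, sub_eq_zero] at hcz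
    exact hcz

/-- the fibre stalk is the base change of the module to the fibre local ring. -/
theorem isBaseChange_fibLocMod' (X : Type u) [AddCommGroup X] [Module B X] :
    IsBaseChange (EGA4.FibLocRing A B q)
      (((((q.comap (algebraMap A B)).map (algebraMap A (Localization.AtPrime q))) •
        (⊤ : Submodule (Localization.AtPrime q)
          (LocalizedModule q.primeCompl X))).mkQ).restrictScalars B
        ∘ₗ LocalizedModule.mkLinearMap q.primeCompl X) :=
  IsBaseChange.comp
    (IsLocalizedModule.isBaseChange q.primeCompl (Localization.AtPrime q)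
      (LocalizedModule.mkLinearMap q.primeCompl X))
    (Groth.Agent.Lib.Helper28.FibBC.isBaseChange_mkQ _)

/-- **The fibre codepth condition, read off the fibre stalk.** -/
theorem fibCd_iff_fibLocMod [Algebra.FiniteType A B]
    (M : Type u) [AddCommGroup M] [Module B M] [Module.Finite B M] (n : ℕ) :
    haveI := isLocalRing_fibLocRing (A := A) q
    FibCd n A M q ↔
      Module.supportDim (EGA4.FibLocRing A B q) (EGA4.FibLocMod A B q M) ≤
        ((LocCoh.depth (EGA4.FibLocRing A B q) (EGA4.FibLocMod A B q M) : ℕ∞) : WithBot ℕ∞) + n := by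
  haveI hloc : IsLocalRing (EGA4.FibLocRing A B q) := isLocalRing_fibLocRing (A := A) q
  letI algC₀R := algFiberFib (A := A) q
  haveI hlocz : IsLocalization.AtPrime (EGA4.FibLocRing A B q) (Qcan (A := A) q) :=
    isLocalization_fibLocRing (A := A) q
  have halg : ∀ x, algebraMap ((q.comap (algebraMap A B)).Fiber B) (EGA4.FibLocRing A B q) x =
      fiberToFib q x := fun x => rfl
  haveI hNC₀ : IsNoetherianRing ((q.comap (algebraMap A B)).Fiber B) :=
    haveI := finiteType_of_isPushout A (q.comap (algebraMap A B)).ResidueField B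
      ((q.comap (algebraMap A B)).Fiber B)
    Algebra.FiniteType.isNoetherianRing (q.comap (algebraMap A B)).ResidueField _
  haveI tBC₀R : IsScalarTower B ((q.comap (algebraMap A B)).Fiber B) (EGA4.FibLocRing A B q) := by
    refine IsScalarTower.of_algebraMap_eq (R := B) (S := (q.comap (algebraMap A B)).Fiber B)
      (A := EGA4.FibLocRing A B q) (fun b => ?_)
    rw [halg, fiberToFib_algebraMap]
  letI mC₀X : Module ((q.comap (algebraMap A B)).Fiber B) (EGA4.FibLocMod A B q M) :=
    Module.compHom (EGA4.FibLocMod A B q M)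
      (algebraMap ((q.comap (algebraMap A B)).Fiber B) (EGA4.FibLocRing A B q))
  haveI tC₀RX : IsScalarTower ((q.comap (algebraMap A B)).Fiber B) (EGA4.FibLocRing A B q)
      (EGA4.FibLocMod A B q M) :=
    ⟨fun c r x => by
      change (c • r) • x = algebraMap _ (EGA4.FibLocRing A B q) c • (r • x)
      rw [Algebra.smul_def, mul_smul]⟩
  haveI tBC₀X : IsScalarTower B ((q.comap (algebraMap A B)).Fiber B) (EGA4.FibLocMod A B q M) :=
    IsScalarTower.of_algebraMap_smul (fun b x => by
      change algebraMap ((q.comap (algebraMap A B)).Fiber B) (EGA4.FibLocRing A B q)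
        (algebraMap B ((q.comap (algebraMap A B)).Fiber B) b) • x = b • x
      rw [← IsScalarTower.algebraMap_apply B ((q.comap (algebraMap A B)).Fiber B)
        (EGA4.FibLocRing A B q), algebraMap_smul])
  have hg₀ := isBaseChange_fibLocMod' (A := A) q M
  set g₀ : M →ₗ[B] EGA4.FibLocMod A B q M :=
    ((((q.comap (algebraMap A B)).map (algebraMap A (Localization.AtPrime q))) •
        (⊤ : Submodule (Localization.AtPrime q)
          (LocalizedModule q.primeCompl M))).mkQ).restrictScalars B
        ∘ₗ LocalizedModule.mkLinearMap q.primeCompl M with hg₀def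
  have hbc₀ := TensorProduct.isBaseChange B M ((q.comap (algebraMap A B)).Fiber B)
  let f2 : ((q.comap (algebraMap A B)).Fiber B) ⊗[B] M →ₗ[(q.comap (algebraMap A B)).Fiber B]
      EGA4.FibLocMod A B q M := hbc₀.lift g₀
  have hf2 : IsBaseChange (EGA4.FibLocRing A B q) f2 := by
    apply IsBaseChange.of_comp hbc₀
    have : (f2.restrictScalars B) ∘ₗ (TensorProduct.mk B ((q.comap (algebraMap A B)).Fiber B) M 1) =
        g₀ := hbc₀.lift_comp g₀
    rw [this]
    exact hg₀
  haveI hlm : IsLocalizedModule (Qcan (A := A) q).primeCompl f2 :=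
    (isLocalizedModule_iff_isBaseChange (Qcan (A := A) q).primeCompl (EGA4.FibLocRing A B q)
      f2).mpr hf2
  obtain ⟨h1, h2⟩ := Groth.Agent.Lib.Helper5.FinDimDepth.transport_aux (Qcan (A := A) q)
    (((q.comap (algebraMap A B)).Fiber B) ⊗[B] M) (EGA4.FibLocRing A B q)
    (EGA4.FibLocMod A B q M) f2
  unfold FibCd CdAt dm dep
  rw [h1, h2]

end Groth.Agent.Lib.Helper14.FibModC
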