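import Mathlib
import Groth.Agent.Lib.Helper14FibModC
import Groth.Agent.Lib.Helper5RelCMOpen
import Groth.Agent.Lib.Helper5FibCodepthConstr

/-!
# Fibre codepth of modules, part D: the Noetherian case (helper14)

For `A → B` of finite type with `A` Noetherian, `M` a finite `B`-module flat over `A`:

* `fibCd_iff_loc`: the fibre codepth condition read off `M_q / p M_q` over `B_q`;
* `fibCd_iff_cdAt_tensor`: comparison with the codepth of `M ⊗_A E` at `q` for a finite `A`-module
  `E` which is Cohen–Macaulay at `p = q ∩ A`;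
* `fibCd_generization`: the fibre codepth locus is stable under generization;
* `isOpen_FL_int`: it is open when `A` is of finite type over `ℤ`.
-/

set_option autoImplicit false
set_option linter.unusedVariables false
set_option linter.unusedSectionVars false
set_option linter.style.haveILetI false
set_option maxHeartbeats 400000

universe u

open TensorProduct Topology

namespace Groth.Agent.Lib.Helper14.FibModD

open Groth.Agent.Lib.Helper14.FibModA Groth.Agent.Lib.Helper14.FibModB
  Groth.Agent.Lib.Helper14.FibModC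
open Groth.Agent.Lib.Helper28 Groth.Agent.Lib.Helper5.GenDepth Groth.Agent.Lib.Helper5

attribute [local instance] Algebra.TensorProduct.rightAlgebra

theorem arith_cancel (k : ℕ) (δ : WithBot ℕ∞) (ε : ℕ∞) (n : ℕ) :
    (((k : ℕ∞) : WithBot ℕ∞)) + δ ≤ ((((k : ℕ∞) + ε : ℕ∞)) : WithBot ℕ∞) + (n : WithBot ℕ∞) ↔
      δ ≤ ((ε : ℕ∞) : WithBot ℕ∞) + (n : WithBot ℕ∞) := by
  have hn : ((n : ℕ) : WithBot ℕ∞) = (((n : ℕ) : ℕ∞) : WithBot ℕ∞) := rfl
  induction δ using WithBot.recBotCoe with
  | bot => simp
  | coe d =>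
    rw [hn, ← WithBot.coe_add, ← WithBot.coe_add, ← WithBot.coe_add, WithBot.coe_le_coe,
      WithBot.coe_le_coe, add_assoc]
    exact ENat.add_le_add_iff_left (ENat.natCast_ne_top k)

section Noeth

variable {A B : Type u} [CommRing A] [CommRing B] [Algebra A B] [IsNoetherianRing B]
  [Algebra.FiniteType A B]
  (M : Type u) [AddCommGroup M] [Module B M] [Module.Finite B M] (q : Ideal B) [q.IsPrime]

/-- the fibre codepth condition, read off `M_q / p M_q` over `B_q`. -/
theorem fibCd_iff_loc (n : ℕ) :
    FibCd n A M q ↔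
      Module.supportDim (Localization.AtPrime q) (EGA4.FibLocMod A B q M) ≤
        ((LocCoh.depth (Localization.AtPrime q) (EGA4.FibLocMod A B q M) : ℕ∞) : WithBot ℕ∞) + n := by
  have hloc : IsLocalRing (EGA4.FibLocRing A B q) := isLocalRing_fibLocRing (A := A) q
  have hN : IsNoetherianRing (Localization.AtPrime q) :=
    IsLocalization.isNoetherianRing q.primeCompl _ inferInstance
  have hfin : Module.Finite (EGA4.FibLocRing A B q) (EGA4.FibLocMod A B q M) :=
    Module.Finite.of_restrictScalars_finite (Localization.AtPrime q) _ _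
  have hlh : IsLocalHom (algebraMap (Localization.AtPrime q) (EGA4.FibLocRing A B q)) :=
    IsLocalHom.of_surjective _ Ideal.Quotient.mk_surjective
  rw [fibCd_iff_fibLocMod q M n,
    ← supportDim_eq_of_surjective (B := Localization.AtPrime q) (B' := EGA4.FibLocRing A B q)
      (EGA4.FibLocMod A B q M) Ideal.Quotient.mk_surjective,
    ← depth_eq_depth_of_isLocalHom_of_finite (A := Localization.AtPrime q)
      (B := EGA4.FibLocRing A B q) (M := EGA4.FibLocMod A B q M)]

variable [IsNoetherianRing A] [Module A M] [IsScalarTower A B M] [Module.Flat A M]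
  (E : Type u) [AddCommGroup E] [Module A E] [Module.Finite A E]

/-- comparison of the fibre codepth with the codepth of `M ⊗_A E` when `E` is Cohen–Macaulay at
`p = q ∩ A`. -/
theorem fibCd_iff_cdAt_tensor (n : ℕ)
    [Nontrivial (LocalizedModule (q.comap (algebraMap A B)).primeCompl E)]
    (hcm : dm (q.comap (algebraMap A B)) E =
      ((dep (q.comap (algebraMap A B)) E : ℕ∞) : WithBot ℕ∞)) :
    FibCd n A M q ↔ CdAt n q (M ⊗[A] E) := by
  obtain ⟨hd, hp⟩ := supportDim_depth_localization_tensor (A := A) (B := B) E M q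
  have hNp : IsNoetherianRing (Localization.AtPrime (q.comap (algebraMap A B))) :=
    IsLocalization.isNoetherianRing (q.comap (algebraMap A B)).primeCompl _ inferInstance
  have htop : dep (q.comap (algebraMap A B)) E ≠ ⊤ := Groth.Agent.Lib.Helper5.depth_ne_top
  obtain ⟨k, hk⟩ := ENat.ne_top_iff_exists.mp htop
  rw [fibCd_iff_loc M q n]
  unfold CdAt
  unfold dm dep at hcm
  unfold dep at hk
  unfold dm dep
  rw [hd, hp, hcm, ← hk]
  exact (arith_cancel k _ _ n).symm

omit [Algebra.FiniteType A B] [IsNoetherianRing B] [Module.Finite B M] [IsNoetherianRing A]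
  [Module A M] [IsScalarTower A B M] [Module.Flat A M] in
theorem fibCd_congr_ideal (n : ℕ) {q q' : Ideal B} [q.IsPrime] [q'.IsPrime] (h : q = q') :
    FibCd n A M q ↔ FibCd n A M q' := by
  subst h
  exact Iff.rfl

/-- over a Cohen–Macaulay base, the fibre codepth is the codepth. -/
theorem fibCd_iff_cdAt_of_cm [hCM : LocCoh.IsCohenMacaulayRing A] (n : ℕ) :
    FibCd n A M q ↔ CdAt n q M := by
  have hsupp := Groth.Agent.Lib.Helper5.CodepthOpen.mem_support_self (q.comap (algebraMap A B))
  haveI : Nontrivial (LocalizedModule (q.comap (algebraMap A B)).primeCompl A) :=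
    Module.mem_support_iff.mp hsupp
  obtain ⟨h1, h2⟩ := Groth.Agent.Lib.Helper5.CodepthOpen.dep_dm_self (q.comap (algebraMap A B))
  have hcm : dm (q.comap (algebraMap A B)) A =
      ((dep (q.comap (algebraMap A B)) A : ℕ∞) : WithBot ℕ∞) := by
    rw [h1, h2]
    exact (hCM.isCohenMacaulayLocalRing_localization (q.comap (algebraMap A B))).supportDim_eq_depth
  rw [fibCd_iff_cdAt_tensor M q A n hcm]
  exact (cdAt_congr n q (AlgebraTensorModule.rid A B M).symm).symm

end Noeth

section Generization

variable {A B : Type u} [CommRing A] [CommRing B] [Algebra A B] [IsNoetherianRing A]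
  [IsNoetherianRing B] [Algebra.FiniteType A B]
  (M : Type u) [AddCommGroup M] [Module B M] [Module.Finite B M]
  [Module A M] [IsScalarTower A B M] [Module.Flat A M]

/-- the key step: a morphism `Spec D → Spec B` over `A` from a Cohen–Macaulay scheme transports
the fibre codepth condition along generizations in `Spec D`. -/
theorem fibCd_of_section {D : Type u} [CommRing D] [Algebra A D]
    [hCM : LocCoh.IsCohenMacaulayRing D] (ψ : B →ₐ[A] D) (P₀ P₁ : Ideal D) [P₀.IsPrime]
    [P₁.IsPrime] (hle : P₀ ≤ P₁) (n : ℕ) (h₁ : FibCd n A M (P₁.comap ψ.toRingHom)) :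
    FibCd n A M (P₀.comap ψ.toRingHom) := by
  haveI : IsNoetherianRing D := hCM.toIsNoetherian
  haveI hft' : Algebra.FiniteType D (D ⊗[A] B) := finiteType_of_isPushout A D B (D ⊗[A] B)
  haveI hN' : IsNoetherianRing (D ⊗[A] B) := Algebra.FiniteType.isNoetherianRing D (D ⊗[A] B)
  have hg := TensorProduct.isBaseChange B M (D ⊗[A] B)
  haveI hflat' : Module.Flat D ((D ⊗[A] B) ⊗[B] M) :=
    Module.Flat.of_linearEquiv (Algebra.IsPushout.cancelBaseChange A D B (D ⊗[A] B) M)
  -- the section
  let σ : D ⊗[A] B →ₐ[D] D :=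
    Algebra.TensorProduct.lift (Algebra.ofId D D) ψ (fun _ _ => Commute.all _ _)
  have hσ : ∀ b : B, σ (algebraMap B (D ⊗[A] B) b) = ψ b := fun b => by
    change σ (1 ⊗ₜ[A] b) = _
    simp [σ]
  have hcomp : σ.toRingHom.comp (algebraMap B (D ⊗[A] B)) = ψ.toRingHom := RingHom.ext hσ
  have hc : ∀ P : Ideal D, (P.comap σ.toRingHom).comap (algebraMap B (D ⊗[A] B)) =
      P.comap ψ.toRingHom := fun P => by
    rw [Ideal.comap_comap, hcomp]
  have hA := (fibCd_baseChange (A := A) (A' := D) (B := B) (B' := D ⊗[A] B) M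
    ((D ⊗[A] B) ⊗[B] M) _ hg (P₁.comap σ.toRingHom) n).mpr
    ((fibCd_congr_ideal M n (hc P₁)).mpr h₁)
  have hB := (fibCd_iff_cdAt_of_cm (A := D) ((D ⊗[A] B) ⊗[B] M) _ n).mp hA
  have hC : CdAt n (P₀.comap σ.toRingHom) ((D ⊗[A] B) ⊗[B] M) :=
    Groth.Agent.Lib.Helper5.CodepthOpen.codepth_generization _ n (Ideal.comap_mono hle) hB
  have hD := (fibCd_iff_cdAt_of_cm (A := D) ((D ⊗[A] B) ⊗[B] M) _ n).mpr hC
  have hE := (fibCd_baseChange (A := A) (A' := D) (B := B) (B' := D ⊗[A] B) M
    ((D ⊗[A] B) ⊗[B] M) _ hg (P₀.comap σ.toRingHom) n).mp hD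
  exact (fibCd_congr_ideal M n (hc P₀)).mp hE

theorem fibCd_step (n : ℕ) (Q' : Ideal B) [hQ' : Q'.IsPrime] (p : Ideal (B ⧸ Q')) [hp : p.IsPrime]
    (hht : p.height ≤ 1) (h₁ : FibCd n A M (p.comap (Ideal.Quotient.mk Q'))) :
    FibCd n A M Q' := by
  haveI : IsDomain (B ⧸ Q') := Ideal.Quotient.isDomain Q'
  haveI : IsDomain (Localization.AtPrime p) :=
    IsLocalization.isDomain_localization
      (le_nonZeroDivisors_of_noZeroDivisors (fun h0 => h0 (zero_mem p)))
  haveI : IsNoetherianRing (Localization.AtPrime p) :=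
    IsLocalization.isNoetherianRing p.primeCompl _ inferInstance
  have hdim : ringKrullDim (Localization.AtPrime p) ≤ 1 := by
    rw [IsLocalization.AtPrime.ringKrullDim_eq_height p (Localization.AtPrime p)]
    exact_mod_cast hht
  haveI hCM : LocCoh.IsCohenMacaulayRing (Localization.AtPrime p) :=
    Groth.Agent.Lib.Helper5.RelCMOpen.isCohenMacaulayRing_of_isDomain_of_dim_le_one _ hdim
  haveI hbot : (⊥ : Ideal (Localization.AtPrime p)).IsPrime := Ideal.isPrime_bot
  have hc : (IsLocalRing.maximalIdeal (Localization.AtPrime p)).comap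
      (IsScalarTower.toAlgHom A B (Localization.AtPrime p)).toRingHom =
      p.comap (Ideal.Quotient.mk Q') := by
    change (IsLocalRing.maximalIdeal (Localization.AtPrime p)).comap
      (algebraMap B (Localization.AtPrime p)) = _
    rw [IsScalarTower.algebraMap_eq B (B ⧸ Q') (Localization.AtPrime p), ← Ideal.comap_comap]
    exact congrArg (Ideal.comap (Ideal.Quotient.mk Q'))
      (IsLocalization.AtPrime.under_maximalIdeal (Localization.AtPrime p) p)
  have hη : (⊥ : Ideal (Localization.AtPrime p)).comap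
      (IsScalarTower.toAlgHom A B (Localization.AtPrime p)).toRingHom = Q' := by
    change (⊥ : Ideal (Localization.AtPrime p)).comap
      (algebraMap B (Localization.AtPrime p)) = _
    rw [IsScalarTower.algebraMap_eq B (B ⧸ Q') (Localization.AtPrime p),
      ← Ideal.comap_comap, Ideal.comap_bot_of_injective _
        (IsLocalization.injective (M := p.primeCompl) (Localization.AtPrime p)
          (le_nonZeroDivisors_of_noZeroDivisors (fun h0 => h0 (zero_mem p))))]
    change Ideal.comap (Ideal.Quotient.mk Q') ⊥ = Q'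
    rw [← RingHom.ker_eq_comap_bot, Ideal.mk_ker]
  have key := fibCd_of_section M (IsScalarTower.toAlgHom A B (Localization.AtPrime p)) ⊥
    (IsLocalRing.maximalIdeal (Localization.AtPrime p)) bot_le n
    ((fibCd_congr_ideal M n hc).mpr h₁)
  exact (fibCd_congr_ideal M n hη).mp key

theorem fibCd_generization (n : ℕ) (q : Ideal B) [q.IsPrime] (hq : FibCd n A M q) :
    ∀ (I : Ideal B) [I.IsPrime], I ≤ q → FibCd n A M I := by
  intro I
  induction I using WellFoundedGT.induction with
  | ind I IH =>
    intro hI hle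
    by_cases heq : I = q
    · exact (fibCd_congr_ideal M n heq).mpr hq
    · have hlt : I < q := lt_of_le_of_ne hle heq
      obtain ⟨p, hp, hht, hlt', hle'⟩ :=
        Groth.Agent.Lib.Helper5.RelCMOpen.exists_prime_height_le_one hlt
      haveI := hp
      have h₁ : FibCd n A M (p.comap (Ideal.Quotient.mk I)) := IH _ hlt' hle'
      exact fibCd_step M n I p hht h₁

end Generization

section Int

open Groth.Agent.Lib.Helper5.CodepthOpen Groth.Agent.Lib.Helper5.FibCodepthConstr
  Groth.Agent.Lib.Helper5.LocusGeneric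

variable {A B : Type u} [CommRing A] [CommRing B] [Algebra A B] [Algebra.FiniteType A B]
  (M : Type u) [AddCommGroup M] [Module B M] [Module.Finite B M]
  [Module A M] [IsScalarTower A B M] [Module.Flat A M]

theorem isConstructible_FL (hA : Algebra.FiniteType ℤ A) (n : ℕ) :
    IsConstructible (FL (B := B) n A M) := by
  haveI : IsNoetherianRing A := Algebra.FiniteType.isNoetherianRing ℤ A
  haveI : IsNoetherianRing B := Algebra.FiniteType.isNoetherianRing A B
  have hcmuA : CMU A := cmu_of_finiteType_int A hA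
  have hB : Algebra.FiniteType ℤ B := Algebra.FiniteType.trans hA inferInstance
  have hcmuB : CMU B := cmu_of_finiteType_int B hB
  refine isConstructible_of_forall_irreducible (PrimeSpectrum.comap (algebraMap A B))
    (FL (B := B) n A M) ?_
  intro Z hZc hZi
  have hprime : (PrimeSpectrum.vanishingIdeal Z).IsPrime :=
    (PrimeSpectrum.isIrreducible_iff_vanishingIdeal_isPrime).mp hZi
  have hZ : Z = PrimeSpectrum.zeroLocus (PrimeSpectrum.vanishingIdeal Z : Set A) := by
    rw [PrimeSpectrum.zeroLocus_vanishingIdeal_eq_closure, hZc.closure_eq]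
  set p := PrimeSpectrum.vanishingIdeal Z with hp
  obtain ⟨f, hfp, hf⟩ := hcmuA p
  refine ⟨PrimeSpectrum.basicOpen f, (PrimeSpectrum.basicOpen f).isOpen,
    ⟨⟨p, hprime⟩, ?_, hfp⟩, ?_⟩
  · rw [hZ]
    exact fun x hx => hx
  haveI hfinT : Module.Finite B (M ⊗[A] (A ⧸ p)) :=
    finite_tensorProduct_of_finite (R := A) (S := B) (A ⧸ p)
  have hW := isOpen_codepth_le hcmuB (M ⊗[A] (A ⧸ p)) n
  have hcont : Continuous (PrimeSpectrum.comap (algebraMap A B)) :=
    PrimeSpectrum.continuous_comap (algebraMap A B)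
  have heq : FL (B := B) n A M ∩ PrimeSpectrum.comap (algebraMap A B) ⁻¹'
      (Z ∩ (PrimeSpectrum.basicOpen f : Set (PrimeSpectrum A))) =
      (PrimeSpectrum.comap (algebraMap A B) ⁻¹' Z ∩ PrimeSpectrum.comap (algebraMap A B) ⁻¹'
        (PrimeSpectrum.basicOpen f : Set (PrimeSpectrum A))) ∩
      {q : PrimeSpectrum B | dm q.asIdeal (M ⊗[A] (A ⧸ p)) ≤
        ((dep q.asIdeal (M ⊗[A] (A ⧸ p)) : ℕ∞) : WithBot ℕ∞) + n} := by
    ext q
    simp only [Set.mem_inter_iff, Set.mem_preimage, Set.mem_ofPred_eq]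
    constructor
    · rintro ⟨hq, hqZ, hqf⟩
      refine ⟨⟨hqZ, hqf⟩, ?_⟩
      have hle : p ≤ q.asIdeal.comap (algebraMap A B) := by
        rw [hZ] at hqZ
        exact hqZ
      haveI : Nontrivial (LocalizedModule (q.asIdeal.comap (algebraMap A B)).primeCompl (A ⧸ p)) :=
        Module.mem_support_iff.mp (mem_support_quotient p _ hle)
      exact (fibCd_iff_cdAt_tensor M q.asIdeal (A ⧸ p) n (hf _ hle hqf)).mp hq
    · rintro ⟨⟨hqZ, hqf⟩, hq⟩
      refine ⟨?_, hqZ, hqf⟩
      have hle : p ≤ q.asIdeal.comap (algebraMap A B) := by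
        rw [hZ] at hqZ
        exact hqZ
      haveI : Nontrivial (LocalizedModule (q.asIdeal.comap (algebraMap A B)).primeCompl (A ⧸ p)) :=
        Module.mem_support_iff.mp (mem_support_quotient p _ hle)
      exact (fibCd_iff_cdAt_tensor M q.asIdeal (A ⧸ p) n (hf _ hle hqf)).mpr hq
  rw [heq]
  refine ((?_ : IsConstructible _).inter ?_).inter ?_
  · rw [← isConstructible_compl]
    exact (hZc.preimage hcont).isOpen_compl.isConstructible_of_noetherianSpace
  · exact ((PrimeSpectrum.basicOpen f).isOpen.preimage hcont).isConstructible_of_noetherianSpace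
  · exact hW.isConstructible_of_noetherianSpace

/-- **Openness of the fibre codepth locus, base of finite type over `ℤ`.** -/
theorem isOpen_FL_int (hA : Algebra.FiniteType ℤ A) (n : ℕ) : IsOpen (FL (B := B) n A M) := by
  haveI : IsNoetherianRing A := Algebra.FiniteType.isNoetherianRing ℤ A
  haveI : IsNoetherianRing B := Algebra.FiniteType.isNoetherianRing A B
  refine PrimeSpectrum.isOpen_of_stableUnderGeneralization_of_isConstructible ?_
    (isConstructible_FL (A := A) (B := B) M hA n)
  intro x x' hsp hx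
  haveI := x.2
  haveI := x'.2
  exact fibCd_generization (A := A) (B := B) M n x.asIdeal hx x'.asIdeal
    ((PrimeSpectrum.le_iff_specializes x' x).mpr hsp)

end Int

end Groth.Agent.Lib.Helper14.FibModD
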