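import Mathlib
import Groth.Agent.Lib.Helper14FibModD
import Groth.Agent.Lib.Helper3FlatModelMod

/-!
# Fibre codepth of modules, part E: openness over an arbitrary base (helper14)

`isOpen_FL`: for `B` a finitely presented `A`-algebra and `M` a finitely presented `B`-module flat
over `A`, the locus of primes `q` of `B` at which the fibre of `M` through `q` has codepth at most
`n` is open in `Spec B` (EGA IV 12.1.1 (i), module form), by Noetherian approximation.
-/

set_option autoImplicit false
set_option linter.unusedVariables false
set_option linter.unusedSectionVars false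
set_option linter.style.haveILetI false
set_option maxHeartbeats 400000

universe u

open TensorProduct Topology

namespace Groth.Agent.Lib.Helper14.FibModE

open Groth.Agent.Lib.Helper14.FibModA Groth.Agent.Lib.Helper14.FibModB
  Groth.Agent.Lib.Helper14.FibModC Groth.Agent.Lib.Helper14.FibModD

theorem isOpen_FL {A B : Type u} [CommRing A] [CommRing B] [Algebra A B]
    [Algebra.FinitePresentation A B]
    (M : Type u) [AddCommGroup M] [Module B M] [Module A M] [IsScalarTower A B M]
    [Module.FinitePresentation B M] [Module.Flat A M] (n : ℕ) :
    IsOpen (FL (B := B) n A M) := by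
  obtain ⟨R₀, i1, i2, S₀, i3, i4, i5, i6, i7, i8, M₀, i9, i10, i11, i12, i13, i14, f, hR₀, hS₀,
    hM₀fin, hM₀flat, hpush, hbc⟩ :=
    Groth.Agent.Lib.Helper3.FlatModelMod.exists_flat_module_model A B M
  rw [FL_baseChange (A := R₀) (A' := A) (B := S₀) (B' := B) M₀ M f hbc n]
  exact (isOpen_FL_int (A := R₀) (B := S₀) M₀ hR₀ n).preimage (PrimeSpectrum.continuous_comap _)

end Groth.Agent.Lib.Helper14.FibModE
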