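import Mathlib
import Groth.Agent.Lib.Helper14FibModE
import Groth.Agent.Lib.Helper2PullbackSec3
import Groth.Agent.Lib.Helper2FPAff
import Groth.Agent.Lib.Helper18Strict6
import Groth.Agent.Lib.Helper10FibStalk

/-!
# Fibre codepth of modules, part F: translation to schemes (helper14)

For `f : X ⟶ Y`, a quasi-coherent module `F` on `X`, a point `s` of `Y` and a point `z` of the fibre
`X_s`, `GeomCd f k F s z` says that the stalk at `z` of the restriction of `F` to `X_s` has codepth at
most `k`.  On an affine chart `U ⊆ f⁻¹ V` this is the ring-level condition `FibCd`.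
-/

set_option autoImplicit false
set_option linter.unusedVariables false
set_option linter.unusedSectionVars false
set_option linter.style.haveILetI false
set_option maxHeartbeats 400000

universe u

open CategoryTheory Limits AlgebraicGeometry TopologicalSpace Opposite TensorProduct

namespace Groth.Agent.Lib.Helper14.FibModF

open Groth.Agent.Lib.Helper14.FibModA Groth.Agent.Lib.Helper14.FibModB
  Groth.Agent.Lib.Helper14.FibModC Groth.Agent.Lib.Helper14.FibModD
  Groth.Agent.Lib.Helper14.FibModE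
open Groth.Agent.Lib.Helper2.FlatOver Groth.Agent.Lib.Helper2.PullbackSec
open Groth.Agent.Lib.Helper5.GenDepth Groth.Agent.Lib.Helper5

/-- the chart lemma with a ring `L` that is a field. -/
theorem cdAt_chart_iff_fibCd_of_isField {A B : Type u} [CommRing A] [CommRing B] [Algebra A B]
    [Algebra.FiniteType A B]
    (M : Type u) [AddCommGroup M] [Module B M] [Module.Finite B M]
    (L C : Type u) [CommRing L] (hL : IsField L) [CommRing C] [Algebra A L]
    [Algebra A C] [Algebra B C] [Algebra L C] [IsScalarTower A B C] [IsScalarTower A L C]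
    [Algebra.IsPushout A L B C] (Q : Ideal C) [Q.IsPrime] (q : Ideal B) [q.IsPrime]
    (hq : Q.comap (algebraMap B C) = q) (n : ℕ) :
    CdAt n Q (C ⊗[B] M) ↔ FibCd n A M q := by
  letI := hL.toField
  exact cdAt_chart_iff_fibCd M L C Q q hq n

theorem isNoetherianRing_of_isField_chart {A B : Type u} [CommRing A] [CommRing B] [Algebra A B]
    [Algebra.FiniteType A B]
    (L C : Type u) [CommRing L] (hL : IsField L) [CommRing C] [Algebra A L]
    [Algebra A C] [Algebra B C] [Algebra L C] [IsScalarTower A B C] [IsScalarTower A L C]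
    [Algebra.IsPushout A L B C] : IsNoetherianRing C := by
  letI := hL.toField
  haveI := finiteType_of_isPushout A L B C
  exact Algebra.FiniteType.isNoetherianRing L C

section cartesian

variable {X S X' S' : Scheme.{u}} {f : X ⟶ S} {f' : X' ⟶ S'} {g' : X' ⟶ X} {g : S' ⟶ S}

/-- In a cartesian square whose new base is (locally) the spectrum of a field, the codepth of the
pulled back module at a point is the fibre codepth of the original module at the image point. -/
theorem stalk_pullback_facts (hc : IsPullback g' f' f g) (F : X.Modules) [F.IsQuasicoherent]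
    {V : S.Opens} {V' : S'.Opens} {U : X.Opens} (eV' : V' ≤ g ⁻¹ᵁ V) (eU : U ≤ f ⁻¹ᵁ V)
    (hV : IsAffineOpen V) (hV' : IsAffineOpen V') (hU : IsAffineOpen U)
    (hL : IsField Γ(S', V'))
    (hft : (f.appLE V U eU).hom.FiniteType) (hfin : Module.Finite Γ(X, U) Γ(F, U))
    (x' : X') (hx'U : g'.base x' ∈ U) (hx'V : f'.base x' ∈ V') (k : ℕ) :
    letI : Algebra Γ(S, V) Γ(X, U) := (f.appLE V U eU).hom.toAlgebra
    IsNoetherianRing (X'.presheaf.stalk x') ∧
    Module.Finite (X'.presheaf.stalk x') (((Scheme.Modules.pullback g').obj F).presheaf.stalk x') ∧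
    ((Module.supportDim (X'.presheaf.stalk x')
        (((Scheme.Modules.pullback g').obj F).presheaf.stalk x') ≤
      ((LocCoh.depth (X'.presheaf.stalk x')
        (((Scheme.Modules.pullback g').obj F).presheaf.stalk x') : ℕ∞) : WithBot ℕ∞) + k) ↔
    FibCd k Γ(S, V) Γ(F, U) (hU.primeIdealOf ⟨g'.base x', hx'U⟩).asIdeal) := by
  set H := (Scheme.Modules.pullback g').obj F with hH
  haveI : H.IsQuasicoherent := isQuasicoherent_pullback g' F
  set U' : X'.Opens := g' ⁻¹ᵁ U ⊓ f' ⁻¹ᵁ V' with hU'def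
  have hU' : IsAffineOpen U' := isAffineOpen_inf_preimage hc eV' eU hV hV' hU
  have e1 : U' ≤ g' ⁻¹ᵁ U := inf_le_left
  have e2 : U' ≤ f' ⁻¹ᵁ V' := inf_le_right
  have hx' : x' ∈ U' := ⟨hx'U, hx'V⟩
  -- ring structures
  letI aAB : Algebra Γ(S, V) Γ(X, U) := (f.appLE V U eU).hom.toAlgebra
  letI aAA' : Algebra Γ(S, V) Γ(S', V') := (g.appLE V V' eV').hom.toAlgebra
  letI aBB' : Algebra Γ(X, U) Γ(X', U') := (g'.appLE U U' e1).hom.toAlgebra
  letI aA'B' : Algebra Γ(S', V') Γ(X', U') := (f'.appLE V' U' e2).hom.toAlgebra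
  letI aAB' : Algebra Γ(S, V) Γ(X', U') :=
    ((g'.appLE U U' e1).hom.comp (f.appLE V U eU).hom).toAlgebra
  haveI tABB' : IsScalarTower Γ(S, V) Γ(X, U) Γ(X', U') :=
    IsScalarTower.of_algebraMap_eq (fun a => rfl)
  haveI tAA'B' : IsScalarTower Γ(S, V) Γ(S', V') Γ(X', U') := by
    refine IsScalarTower.of_algebraMap_eq (fun a => ?_)
    change (g'.appLE U U' e1).hom ((f.appLE V U eU).hom a) =
      (f'.appLE V' U' e2).hom ((g.appLE V V' eV').hom a)
    have h1 := Scheme.Hom.appLE_comp_appLE g' f V U U' eU e1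
    have h2 := Scheme.Hom.appLE_comp_appLE f' g V V' U' eV' e2
    have h3 : (f.appLE V U eU ≫ g'.appLE U U' e1) = (g.appLE V V' eV' ≫ f'.appLE V' U' e2) := by
      rw [h1, h2]
      congr 1
      exact hc.w
    exact congrArg (fun φ => φ.hom a) h3
  haveI hPO : Algebra.IsPushout Γ(S, V) Γ(S', V') Γ(X, U) Γ(X', U') :=
    algebra_isPushout hc eV' eU hV hV' hU e1 e2
  haveI hftA : Algebra.FiniteType Γ(S, V) Γ(X, U) := hft
  haveI hNC : IsNoetherianRing Γ(X', U') :=
    isNoetherianRing_of_isField_chart (A := Γ(S, V)) (B := Γ(X, U)) Γ(S', V') Γ(X', U') hL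
  -- sections of the pullback
  obtain ⟨T⟩ := nonempty_sections_linearEquiv g' F hU' hU e1
  haveI hfinH : Module.Finite Γ(X', U') Γ(H, U') := Module.Finite.equiv T
  -- the stalk
  letI aB'R' : Algebra Γ(X', U') (X'.presheaf.stalk x') :=
    X'.presheaf.algebra_section_stalk ⟨x', hx'⟩
  haveI lR' := hU'.isLocalization_stalk ⟨x', hx'⟩
  letI mB'Q : Module Γ(X', U') (H.presheaf.stalk x') := moduleStalkSections H U' x' hx'
  haveI q1 : IsScalarTower Γ(X', U') (X'.presheaf.stalk x') (H.presheaf.stalk x') :=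
    IsScalarTower.of_algebraMap_smul (fun b n => rfl)
  haveI i2 := isLocalizedModule_germ hU' H x' hx'
  obtain ⟨h1, h2⟩ := FinDimDepth.transport_aux (hU'.primeIdealOf ⟨x', hx'⟩).asIdeal Γ(H, U')
    (X'.presheaf.stalk x') (H.presheaf.stalk x') (germₗ H U' x' hx')
  have hq : (hU'.primeIdealOf ⟨x', hx'⟩).asIdeal.comap (algebraMap Γ(X, U) Γ(X', U')) =
      (hU.primeIdealOf ⟨g'.base x', hx'U⟩).asIdeal :=
    congrArg PrimeSpectrum.asIdeal (IsAffineOpen.comap_primeIdealOf_appLE U hU U' hU' e1 hx')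
  refine ⟨IsLocalization.isNoetherianRing (hU'.primeIdealOf ⟨x', hx'⟩).asIdeal.primeCompl _ hNC,
    Module.Finite.of_isLocalizedModule (hU'.primeIdealOf ⟨x', hx'⟩).asIdeal.primeCompl
      (germₗ H U' x' hx'), ?_⟩
  rw [← cdAt_chart_iff_fibCd_of_isField Γ(F, U) Γ(S', V') Γ(X', U') hL
    (hU'.primeIdealOf ⟨x', hx'⟩).asIdeal _ hq k,
    ← cdAt_congr k (hU'.primeIdealOf ⟨x', hx'⟩).asIdeal T.symm]
  unfold CdAt dm dep
  rw [h1, h2]

end cartesian

variable {X Y : Scheme.{u}} (f : X ⟶ Y)

/-- the stalk at `z` of the restriction of `F` to the fibre `X_s` has codepth at most `k`. -/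
def GeomCd (k : ℕ) (F : X.Modules) (s : Y) (z : ↥(f.fiber s)) : Prop :=
  Module.supportDim ((f.fiber s).presheaf.stalk z)
      (((Scheme.Modules.pullback (f.fiberι s)).obj F).presheaf.stalk z) ≤
    ((LocCoh.depth ((f.fiber s).presheaf.stalk z)
      (((Scheme.Modules.pullback (f.fiberι s)).obj F).presheaf.stalk z) : ℕ∞) : WithBot ℕ∞) + k

theorem isField_ΓSpec_residueField (s : Y) : IsField Γ(Spec (Y.residueField s), ⊤) :=
  MulEquiv.isField (Field.toIsField (Y.residueField s))
    (Scheme.ΓSpecIso (Y.residueField s)).commRingCatIsoToRingEquiv.toMulEquiv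

theorem fiber_isPullback (s : Y) :
    IsPullback (f.fiberι s) (f.fiberToSpecResidueField s) f (Y.fromSpecResidueField s) :=
  IsPullback.of_hasPullback f (Y.fromSpecResidueField s)

theorem fiber_facts (F : X.Modules) [F.IsQuasicoherent] {U : X.Opens} (hU : IsAffineOpen U)
    {V : Y.Opens} (hV : IsAffineOpen V) (eU : U ≤ f ⁻¹ᵁ V)
    (hft : (f.appLE V U eU).hom.FiniteType) (hfin : Module.Finite Γ(X, U) Γ(F, U))
    (s : Y) (z : ↥(f.fiber s)) (hz : (f.fiberι s).base z ∈ U) (k : ℕ) :
    letI : Algebra Γ(Y, V) Γ(X, U) := (f.appLE V U eU).hom.toAlgebra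
    IsNoetherianRing ((f.fiber s).presheaf.stalk z) ∧
    Module.Finite ((f.fiber s).presheaf.stalk z)
      (((Scheme.Modules.pullback (f.fiberι s)).obj F).presheaf.stalk z) ∧
    (GeomCd f k F s z ↔
      FibCd k Γ(Y, V) Γ(F, U) (hU.primeIdealOf ⟨(f.fiberι s).base z, hz⟩).asIdeal) := by
  have hfs : f.base ((f.fiberι s).base z) = s :=
    Groth.Agent.Lib.Helper10.FibStalk.fiberι_apply_eq f s z
  have hsV : s ∈ V := hfs ▸ eU hz
  have eV' : (⊤ : (Spec (Y.residueField s)).Opens) ≤ (Y.fromSpecResidueField s) ⁻¹ᵁ V := by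
    intro t _
    change (Y.fromSpecResidueField s).base t ∈ V
    rw [Scheme.fromSpecResidueField_apply]
    exact hsV
  exact stalk_pullback_facts (fiber_isPullback f s) F eV' eU hV (isAffineOpen_top _) hU
    (isField_ΓSpec_residueField s) hft hfin z hz trivial k

section Main

variable [LocallyOfFinitePresentation f] (F : X.Modules) (hF : CohB1.IsFP F)
  (hflat : FlatMod.IsFlatOver f F)

include hF hflat in
/-- On an affine chart the geometric fibre codepth condition is the preimage of an open subset of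
the spectrum. -/
theorem exists_chart (x : X) (k : ℕ) :
    ∃ (U : X.Opens) (hU : IsAffineOpen U) (W : Set (PrimeSpectrum Γ(X, U))), x ∈ U ∧ IsOpen W ∧
      ∀ (s : Y) (z : ↥(f.fiber s)) (hz : (f.fiberι s).base z ∈ U),
        IsNoetherianRing ((f.fiber s).presheaf.stalk z) ∧
        Module.Finite ((f.fiber s).presheaf.stalk z)
          (((Scheme.Modules.pullback (f.fiberι s)).obj F).presheaf.stalk z) ∧
        (GeomCd f k F s z ↔ hU.primeIdealOf ⟨(f.fiberι s).base z, hz⟩ ∈ W) := by
  haveI : F.IsQuasicoherent := Groth.Agent.Helper18Strict.isQCoh_of_isFP F hF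
  haveI : SheafOfModules.IsFinitePresentation (R := X.ringCatSheaf) F := hF
  obtain ⟨U, V, hU, hV, hxU, eU⟩ := exists_affine_nhds f x
  letI aAB : Algebra Γ(Y, V) Γ(X, U) := (f.appLE V U eU).hom.toAlgebra
  have hfp : (f.appLE V U eU).hom.FinitePresentation :=
    HasRingHomProperty.appLE @LocallyOfFinitePresentation f inferInstance ⟨V, hV⟩ ⟨U, hU⟩ eU
  haveI hfpA : Algebra.FinitePresentation Γ(Y, V) Γ(X, U) := hfp
  have hft : (f.appLE V U eU).hom.FiniteType := RingHom.FiniteType.of_finitePresentation hfp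
  haveI hMfp : Module.FinitePresentation Γ(X, U) Γ(F, U) :=
    Groth.Agent.Lib.Helper2.FPAff.finitePresentation_sections F hU
  have hfin : Module.Finite Γ(X, U) Γ(F, U) := inferInstance
  letI mAM : Module Γ(Y, V) Γ(F, U) := Module.compHom Γ(F, U) (f.appLE V U eU).hom
  haveI tABM : IsScalarTower Γ(Y, V) Γ(X, U) Γ(F, U) := by
    refine ⟨fun a b m => ?_⟩
    change ((f.appLE V U eU).hom a * b) • m = (f.appLE V U eU).hom a • (b • m)
    rw [mul_smul]
  haveI hflatM : Module.Flat Γ(Y, V) Γ(F, U) :=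
    flat_sections_of_isFlatOverAt f F hU hV eU (fun x _ => hflat x)
  refine ⟨U, hU, FL (B := Γ(X, U)) k Γ(Y, V) Γ(F, U), hxU,
    isOpen_FL (A := Γ(Y, V)) (B := Γ(X, U)) Γ(F, U) k, fun s z hz => ?_⟩
  exact fiber_facts f F hU hV eU hft hfin s z hz k

include hF hflat in
/-- **EGA IV 12.1.1 (i), module form**: the fibre codepth is upper semicontinuous on `X`. -/
theorem isOpen_geomCd (k : ℕ) : IsOpen {x : X | GeomCd f k F (f.base x) (f.asFiber x)} := by
  rw [isOpen_iff_forall_mem_open]
  intro x hx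
  obtain ⟨U, hU, W, hxU, hW, hchart⟩ := exists_chart f F hF hflat x k
  refine ⟨hU.fromSpec.base '' W, ?_, hU.fromSpec.isOpenEmbedding.isOpenMap _ hW, ?_⟩
  · rintro _ ⟨q, hq, rfl⟩
    have hx₁ : hU.fromSpec.base q ∈ U := Groth.Agent.Lib.Helper2.QCoh.fromSpec_mem hU q
    have hz : (f.fiberι (f.base (hU.fromSpec.base q))).base (f.asFiber (hU.fromSpec.base q)) ∈ U := by
      rw [f.fiberι_asFiber]
      exact hx₁
    apply ((hchart _ _ hz).2.2).mpr
    have h1 : (⟨_, hz⟩ : U) = ⟨hU.fromSpec.base q, hx₁⟩ := Subtype.ext (f.fiberι_asFiber _)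
    rw [h1]
    have h3 : hU.primeIdealOf ⟨hU.fromSpec.base q, hx₁⟩ = q :=
      Groth.Agent.Lib.Helper2.QCoh.primeIdealOf_fromSpec hU q
    rw [h3]
    exact hq
  · refine ⟨hU.primeIdealOf ⟨x, hxU⟩, ?_, hU.fromSpec_primeIdealOf ⟨x, hxU⟩⟩
    have hz : (f.fiberι (f.base x)).base (f.asFiber x) ∈ U := by
      rw [f.fiberι_asFiber]
      exact hxU
    have h2 := ((hchart _ _ hz).2.2).mp hx
    have h1 : (⟨_, hz⟩ : U) = ⟨x, hxU⟩ := Subtype.ext (f.fiberι_asFiber _)
    rw [h1] at h2
    exact h2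

include hF hflat in
/-- the fibre codepth condition at a point of a fibre only depends on its image in `X`. -/
theorem geomCd_iff_asFiber (k : ℕ) (s : Y) (z : ↥(f.fiber s)) :
    GeomCd f k F s z ↔
      GeomCd f k F (f.base ((f.fiberι s).base z)) (f.asFiber ((f.fiberι s).base z)) := by
  obtain ⟨U, hU, W, hxU, hW, hchart⟩ := exists_chart f F hF hflat ((f.fiberι s).base z) k
  have hz' : (f.fiberι (f.base ((f.fiberι s).base z))).base
      (f.asFiber ((f.fiberι s).base z)) ∈ U := by
    rw [f.fiberι_asFiber]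
    exact hxU
  rw [(hchart s z hxU).2.2, (hchart _ _ hz').2.2]
  have h1 : (⟨_, hz'⟩ : U) = ⟨(f.fiberι s).base z, hxU⟩ := Subtype.ext (f.fiberι_asFiber _)
  rw [h1]

include hF hflat in
/-- "zero or Cohen–Macaulay" is codepth `≤ 0`. -/
theorem cm_or_zero_iff (s : Y) (z : ↥(f.fiber s)) :
    (Subsingleton (((Scheme.Modules.pullback (f.fiberι s)).obj F).presheaf.stalk z) ∨
      LocCoh.IsCohenMacaulayModule ((f.fiber s).presheaf.stalk z)
        (((Scheme.Modules.pullback (f.fiberι s)).obj F).presheaf.stalk z)) ↔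
      GeomCd f 0 F s z := by
  obtain ⟨U, hU, W, hxU, hW, hchart⟩ := exists_chart f F hF hflat ((f.fiberι s).base z) 0
  obtain ⟨hN, hfin, -⟩ := hchart s z hxU
  unfold GeomCd LocCoh.IsCohenMacaulayModule
  rw [Nat.cast_zero, add_zero]
  constructor
  · rintro (h | h)
    · rw [Module.supportDim_eq_bot_of_subsingleton]
      exact bot_le
    · exact h.le
  · intro h
    by_cases hs : Subsingleton (((Scheme.Modules.pullback (f.fiberι s)).obj F).presheaf.stalk z)
    · exact Or.inl hs
    · rw [not_subsingleton_iff_nontrivial] at hs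
      exact Or.inr (le_antisymm h Groth.Agent.Lib.Helper28.depth_le_supportDim)

include hF hflat in
/-- **EGA IV 12.1.1, proper form**: for `f` closed, the locus of points of `Y` whose whole fibre has
codepth at most `k` is open. -/
theorem isOpen_forall_geomCd (hcl : IsClosedMap f.base) (k : ℕ) :
    IsOpen {y : Y | ∀ z : ↥(f.fiber y), GeomCd f k F y z} := by
  rw [← isClosed_compl_iff]
  have heq : {y : Y | ∀ z : ↥(f.fiber y), GeomCd f k F y z}ᶜ =
      f.base '' {x : X | GeomCd f k F (f.base x) (f.asFiber x)}ᶜ := by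
    ext y
    simp only [Set.mem_compl_iff, Set.mem_ofPred_eq, not_forall, Set.mem_image]
    constructor
    · rintro ⟨z, hz⟩
      refine ⟨(f.fiberι y).base z, ?_, Groth.Agent.Lib.Helper10.FibStalk.fiberι_apply_eq f y z⟩
      rwa [← geomCd_iff_asFiber f F hF hflat k y z]
    · rintro ⟨x, hx, rfl⟩
      exact ⟨f.asFiber x, hx⟩
  rw [heq]
  exact hcl _ (isOpen_geomCd f F hF hflat k).isClosed_compl

end Main

end Groth.Agent.Lib.Helper14.FibModF
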