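import Mathlib
import Groth.Agent.Lib.Helper14FibModE
import Groth.Agent.Lib.Helper14LocalDimB

/-!
# Rectified depth of fibre modules, part A: invariance under base field extension (helper14)

* `height_add_dim_tensor`: for `S` of finite type over a field `k`, a field extension `K/k` and a
  prime `qK` of `S ⊗[k] K` over `q`: `ht (qK / q(S ⊗ K)) + dim (S ⊗ K)/qK = dim S/q`.
-/

set_option autoImplicit false
set_option linter.unusedVariables false
set_option linter.unusedSectionVars false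
set_option linter.style.haveILetI false
set_option maxHeartbeats 400000

universe u

open TensorProduct

namespace Groth.Agent.Lib.Helper14.FibRhoA

open Groth.Agent.Lib.Helper14.FibModA Groth.Agent.Lib.Helper14.FibModB
open Groth.Agent.Lib.Helper28 Groth.Agent.Lib.Helper5.GenDepth Groth.Agent.Lib.Helper5
open Groth.Agent.Lib.Helper14.LocalDim

attribute [local instance] Algebra.TensorProduct.rightAlgebra

section Literal

variable {k S : Type u} [Field k] [CommRing S] [Algebra k S] [Algebra.FiniteType k S]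
  (K : Type u) [Field K] [Algebra k K]

include k in
theorem height_add_dim_tensor (qK : Ideal (S ⊗[k] K)) [qK.IsPrime] :
    ((qK.map (Ideal.Quotient.mk ((qK.comap (algebraMap S (S ⊗[k] K))).map
        (algebraMap S (S ⊗[k] K))))).height : WithBot ℕ∞) +
      ringKrullDim ((S ⊗[k] K) ⧸ qK) =
    ringKrullDim (S ⧸ qK.comap (algebraMap S (S ⊗[k] K))) := by
  set q := qK.comap (algebraMap S (S ⊗[k] K)) with hq
  haveI : q.IsPrime := Ideal.comap_isPrime _ _
  set I := q.map (algebraMap S (S ⊗[k] K)) with hI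
  have hIqK : I ≤ qK := Ideal.map_comap_le
  set π := Algebra.TensorProduct.map (Ideal.Quotient.mkₐ k q) (AlgHom.id k K) with hπ
  have hπsurj : Function.Surjective π :=
    Algebra.TensorProduct.map_surjective _ _ (Ideal.Quotient.mkₐ_surjective k q)
      Function.surjective_id
  have hker : RingHom.ker π = I := by
    rw [hπ, Algebra.TensorProduct.rTensor_ker _ (Ideal.Quotient.mkₐ_surjective k q)]
    have h1 : RingHom.ker (Ideal.Quotient.mkₐ k q) = q := by
      ext x
      rw [RingHom.mem_ker, Ideal.Quotient.mkₐ_eq_mk, Ideal.Quotient.eq_zero_iff_mem]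
    rw [h1]
    rfl
  have hkerle : RingHom.ker π ≤ qK := hker ▸ hIqK
  set Q' : Ideal ((S ⧸ q) ⊗[k] K) := qK.map π with hQ'
  haveI hQ'prime : Q'.IsPrime := Ideal.map_isPrime_of_surjective hπsurj hkerle
  have hcomapQ' : Q'.comap π = qK := by
    rw [hQ', Ideal.comap_map_of_surjective π hπsurj, ← RingHom.ker_eq_comap_bot]
    exact sup_eq_left.mpr hkerle
  have hbot : Q'.comap (algebraMap (S ⧸ q) ((S ⧸ q) ⊗[k] K)) = ⊥ := by
    rw [eq_bot_iff]
    intro x hx
    obtain ⟨y, rfl⟩ := Ideal.Quotient.mk_surjective x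
    rw [Ideal.mem_comap] at hx
    have h1 : algebraMap (S ⧸ q) ((S ⧸ q) ⊗[k] K) (Ideal.Quotient.mk q y) =
        π (algebraMap S (S ⊗[k] K) y) := by
      rw [hπ, Algebra.TensorProduct.algebraMap_apply, Algebra.TensorProduct.algebraMap_apply,
        Algebra.TensorProduct.map_tmul]
      rfl
    rw [h1, ← Ideal.mem_comap, hcomapQ'] at hx
    have hy : y ∈ q := hx
    rw [Ideal.mem_bot, Ideal.Quotient.eq_zero_iff_mem]
    exact hy
  haveI hbotprime : (⊥ : Ideal (S ⧸ q)).IsPrime := Ideal.isPrime_bot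
  obtain ⟨n, e, hn, he, -, he'⟩ := exists_dims (k := k) (⊥ : Ideal (S ⧸ q))
  obtain ⟨n', e', hn', he1, -, he1'⟩ := exists_dims (k := K) Q'
  have h1 := localDim_eq (k := k) (⊥ : Ideal (S ⧸ q)) n e hn he he'
  have h2 := localDim_eq (k := K) Q' n' e' hn' he1 he1'
  have h3 := localDim_tensor_eq (k := k) K (⊥ : Ideal (S ⧸ q)) Q' hbot
  rw [h1, h2] at h3
  have hn0 : n = 0 := by
    have : (⊥ : Ideal (S ⧸ q)).height = 0 := by
      rw [Ideal.height_bot]
    rw [this] at hn
    exact_mod_cast hn.symm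
  -- identify the three terms
  have t1 : ringKrullDim (S ⧸ q) = (e : WithBot ℕ∞) := by
    rw [← he]
    exact (ringKrullDim_eq_of_ringEquiv (RingEquiv.quotientBot (S ⧸ q))).symm
  -- the quotient by `qK`
  set φ : S ⊗[k] K →+* ((S ⧸ q) ⊗[k] K) ⧸ Q' := (Ideal.Quotient.mk Q').comp π.toRingHom with hφ
  have hφsurj : Function.Surjective φ := Ideal.Quotient.mk_surjective.comp hπsurj
  have hφker : RingHom.ker φ = qK := by
    rw [hφ, ← RingHom.comap_ker, Ideal.mk_ker]
    exact hcomapQ'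
  have t2 : ringKrullDim ((S ⊗[k] K) ⧸ qK) = (e' : WithBot ℕ∞) := by
    rw [← he1]
    exact ringKrullDim_eq_of_ringEquiv
      ((Ideal.quotEquivOfEq hφker.symm).trans (RingHom.quotientKerEquivOfSurjective hφsurj))
  -- the height
  have hπker' : RingHom.ker π.toRingHom = I := hker
  let ψ : ((S ⊗[k] K) ⧸ I) ≃+* (S ⧸ q) ⊗[k] K :=
    (Ideal.quotEquivOfEq hπker'.symm).trans (RingHom.quotientKerEquivOfSurjective hπsurj)
  have hψ : ∀ x : S ⊗[k] K, ψ (Ideal.Quotient.mk I x) = π x := fun x => rfl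
  have t3 : (qK.map (Ideal.Quotient.mk I)).height = (n' : ℕ∞) := by
    rw [← hn', ← RingEquiv.height_comap ψ Q']
    congr 1
    ext x
    obtain ⟨y, rfl⟩ := Ideal.Quotient.mk_surjective x
    rw [Ideal.mem_comap, hψ]
    have hR : π y ∈ Q' ↔ y ∈ qK := by
      rw [← hcomapQ', Ideal.mem_comap]
    rw [hR]
    constructor
    · intro h
      rw [Ideal.mem_map_iff_of_surjective _ Ideal.Quotient.mk_surjective] at h
      obtain ⟨z, hz, hzy⟩ := h
      have : z - y ∈ I := by
        rw [← Ideal.Quotient.eq_zero_iff_mem, map_sub, hzy, sub_self]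
      have hy : y = z - (z - y) := by ring
      rw [hy]
      exact qK.sub_mem hz (hIqK this)
    · intro h
      exact Ideal.mem_map_of_mem _ h
  rw [t1, t2, t3]
  rw [hn0] at h3
  have h4 : ((n' + e' : ℕ) : WithBot ℕ∞) = ((0 + e : ℕ) : WithBot ℕ∞) := h3
  have h5 : n' + e' = 0 + e := by exact_mod_cast h4
  have h6 : ((n' : ℕ∞) : WithBot ℕ∞) + (e' : WithBot ℕ∞) = ((n' + e' : ℕ) : WithBot ℕ∞) := by
    push_cast
    rfl
  rw [h6, h5, zero_add]

end Literal

section Abstract

variable (L₁ L₂ C₁ C₂ : Type u) [Field L₁] [Field L₂] [Algebra L₁ L₂]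
  [CommRing C₁] [CommRing C₂] [Algebra L₁ C₁] [Algebra L₂ C₂] [Algebra C₁ C₂] [Algebra L₁ C₂]
  [IsScalarTower L₁ C₁ C₂] [IsScalarTower L₁ L₂ C₂] [Algebra.IsPushout L₁ L₂ C₁ C₂]
  [Algebra.FiniteType L₁ C₁] (Q : Ideal C₂) [Q.IsPrime]

include L₁ L₂ in
/-- the dimension of the fibre local ring of a base field extension. -/
theorem dim_fibLocRing_add_dim_quotient :
    ringKrullDim (EGA4.FibLocRing C₁ C₂ Q) + ringKrullDim (C₂ ⧸ Q) =
      ringKrullDim (C₁ ⧸ Q.comap (algebraMap C₁ C₂)) := by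
  haveI hsymm : Algebra.IsPushout L₁ C₁ L₂ C₂ := Algebra.IsPushout.symm inferInstance
  let e : C₁ ⊗[L₁] L₂ ≃ₐ[C₁] C₂ := Algebra.IsPushout.equiv L₁ C₁ L₂ C₂
  set q := Q.comap (algebraMap C₁ C₂) with hq
  set qT : Ideal (C₁ ⊗[L₁] L₂) := Q.comap e.toRingEquiv.toRingHom with hqT
  haveI : qT.IsPrime := Ideal.comap_isPrime _ _
  have hqTq : qT.comap (algebraMap C₁ (C₁ ⊗[L₁] L₂)) = q := by
    rw [hqT, hq, Ideal.comap_comap]
    congr 1
    ext x
    exact e.commutes x
  have key := height_add_dim_tensor (k := L₁) (S := C₁) L₂ qT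
  rw [hqTq] at key
  rw [← key]
  -- the two ideals
  set I_T : Ideal (C₁ ⊗[L₁] L₂) := q.map (algebraMap C₁ (C₁ ⊗[L₁] L₂)) with hIT
  set I₂ : Ideal C₂ := q.map (algebraMap C₁ C₂) with hI₂
  have hI₂Q : I₂ ≤ Q := Ideal.map_comap_le
  have hIe : I₂ = I_T.map (e.toRingEquiv : C₁ ⊗[L₁] L₂ →+* C₂) := by
    rw [hIT, Ideal.map_map, hI₂]
    congr 1
    ext x
    exact (e.commutes x).symm
  have hQe : Q = qT.map (e.toRingEquiv : C₁ ⊗[L₁] L₂ →+* C₂) := by
    rw [hqT]
    exact (Ideal.map_comap_of_surjective _ e.toRingEquiv.surjective Q).symm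
  -- dimension of the quotients
  have t2 : ringKrullDim ((C₁ ⊗[L₁] L₂) ⧸ qT) = ringKrullDim (C₂ ⧸ Q) :=
    ringKrullDim_eq_of_ringEquiv (Ideal.quotientEquiv qT Q e.toRingEquiv hQe)
  -- the fibre local ring
  have hideal : I₂.map (algebraMap C₂ (Localization.AtPrime Q)) =
      q.map (algebraMap C₁ (Localization.AtPrime Q)) := by
    rw [hI₂, Ideal.map_map, ← IsScalarTower.algebraMap_eq]
  have t1 : ringKrullDim (EGA4.FibLocRing C₁ C₂ Q) =
      ((Q.map (Ideal.Quotient.mk I₂)).height : WithBot ℕ∞) := by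
    rw [← ringKrullDim_localization_quotient_eq_height I₂ Q hI₂Q]
    exact ringKrullDim_eq_of_ringEquiv (Ideal.quotEquivOfEq hideal.symm)
  -- the heights
  let ē : ((C₁ ⊗[L₁] L₂) ⧸ I_T) ≃+* (C₂ ⧸ I₂) := Ideal.quotientEquiv I_T I₂ e.toRingEquiv hIe
  have t3 : (Q.map (Ideal.Quotient.mk I₂)).height = (qT.map (Ideal.Quotient.mk I_T)).height := by
    rw [← RingEquiv.height_comap ē (Q.map (Ideal.Quotient.mk I₂))]
    congr 1
    ext x
    obtain ⟨y, rfl⟩ := Ideal.Quotient.mk_surjective x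
    rw [Ideal.mem_comap]
    have hē : ē (Ideal.Quotient.mk I_T y) = Ideal.Quotient.mk I₂ (e y) := rfl
    rw [hē]
    have hA : ∀ (z : C₂), Ideal.Quotient.mk I₂ z ∈ Q.map (Ideal.Quotient.mk I₂) ↔ z ∈ Q := by
      intro z
      constructor
      · intro h
        rw [Ideal.mem_map_iff_of_surjective _ Ideal.Quotient.mk_surjective] at h
        obtain ⟨w, hw, hwz⟩ := h
        have : w - z ∈ I₂ := by
          rw [← Ideal.Quotient.eq_zero_iff_mem, map_sub, hwz, sub_self]
        have hz : z = w - (w - z) := by ring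
        rw [hz]
        exact Q.sub_mem hw (hI₂Q this)
      · intro h
        exact Ideal.mem_map_of_mem _ h
    have hITqT : I_T ≤ qT := by
      rw [hIT, ← hqTq]
      exact Ideal.map_comap_le
    have hB : ∀ (z : C₁ ⊗[L₁] L₂), Ideal.Quotient.mk I_T z ∈ qT.map (Ideal.Quotient.mk I_T) ↔
        z ∈ qT := by
      intro z
      constructor
      · intro h
        rw [Ideal.mem_map_iff_of_surjective _ Ideal.Quotient.mk_surjective] at h
        obtain ⟨w, hw, hwz⟩ := h
        have : w - z ∈ I_T := by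
          rw [← Ideal.Quotient.eq_zero_iff_mem, map_sub, hwz, sub_self]
        have hz : z = w - (w - z) := by ring
        rw [hz]
        exact qT.sub_mem hw (hITqT this)
      · intro h
        exact Ideal.mem_map_of_mem _ h
    rw [hA, hB]
    rfl
  rw [t1, t3, t2]

end Abstract

section Rho

/-- the rectified depth of `N` at the prime `Q`: the depth of `N_Q` plus the dimension of `C/Q`. -/
noncomputable def RhoAt {C : Type u} [CommRing C] (Q : Ideal C) [Q.IsPrime] (N : Type u)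
    [AddCommGroup N] [Module C N] : WithBot ℕ∞ :=
  ((dep Q N : ℕ∞) : WithBot ℕ∞) + ringKrullDim (C ⧸ Q)

theorem rhoAt_congr {C : Type u} [CommRing C] [IsNoetherianRing C] (Q : Ideal C)
    [Q.IsPrime] {N N' : Type u} [AddCommGroup N] [Module C N] [AddCommGroup N'] [Module C N']
    [Module.Finite C N] (e : N ≃ₗ[C] N') : RhoAt Q N = RhoAt Q N' := by
  obtain ⟨h1, h2⟩ := dep_dm_congr Q e
  unfold RhoAt
  rw [h1]

theorem rhoAt_congr_ideal {C : Type u} [CommRing C] {Q Q' : Ideal C}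
    [Q.IsPrime] [Q'.IsPrime] (h : Q = Q') (N : Type u) [AddCommGroup N] [Module C N] :
    RhoAt Q N = RhoAt Q' N := by
  subst h
  rfl

theorem ringKrullDim_quotient_ne_bot {C : Type u} [CommRing C] (Q : Ideal C) [hQ : Q.IsPrime] :
    ringKrullDim (C ⧸ Q) ≠ ⊥ := by
  haveI : Nontrivial (C ⧸ Q) := Ideal.Quotient.nontrivial_iff.mpr hQ.ne_top
  intro h
  have h0 := ringKrullDim_nonneg_of_nontrivial (R := C ⧸ Q)
  rw [h] at h0
  exact absurd h0 (by simp)

theorem coe_top_add {x : WithBot ℕ∞} (hx : x ≠ ⊥) :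
    (((⊤ : ℕ∞) : WithBot ℕ∞)) + x = ((⊤ : ℕ∞) : WithBot ℕ∞) := by
  obtain ⟨a, rfl⟩ := WithBot.ne_bot_iff_exists.mp hx
  rw [← WithBot.coe_add, top_add]

theorem rhoAt_of_subsingleton {C : Type u} [CommRing C] (Q : Ideal C) [Q.IsPrime] (N : Type u)
    [AddCommGroup N] [Module C N] [Subsingleton (LocalizedModule Q.primeCompl N)] :
    RhoAt Q N = ((⊤ : ℕ∞) : WithBot ℕ∞) := by
  unfold RhoAt dep
  rw [depth_eq_top_of_subsingleton]
  exact coe_top_add (ringKrullDim_quotient_ne_bot Q)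

/-- **Invariance of the rectified depth under base field extension.** -/
theorem rhoAt_pushout_field (L₁ L₂ C₁ C₂ : Type u) [Field L₁] [Field L₂] [Algebra L₁ L₂]
    [CommRing C₁] [CommRing C₂] [Algebra L₁ C₁] [Algebra L₂ C₂] [Algebra C₁ C₂] [Algebra L₁ C₂]
    [IsScalarTower L₁ C₁ C₂] [IsScalarTower L₁ L₂ C₂] [Algebra.IsPushout L₁ L₂ C₁ C₂]
    [Algebra.FiniteType L₁ C₁] (N : Type u) [AddCommGroup N] [Module C₁ N] [Module.Finite C₁ N]
    (Q : Ideal C₂) [Q.IsPrime] :
    RhoAt Q (C₂ ⊗[C₁] N) = RhoAt (Q.comap (algebraMap C₁ C₂)) N := by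
  haveI : IsNoetherianRing C₁ := Algebra.FiniteType.isNoetherianRing L₁ C₁
  haveI := isNoetherianRing_pushout L₁ L₂ C₁ C₂
  haveI := flat_pushout L₁ L₂ C₁ C₂
  have hcm := cm_fibre_pushout L₁ L₂ C₁ C₂ Q
  have hdim := dim_fibLocRing_add_dim_quotient L₁ L₂ C₁ C₂ Q
  by_cases hnt : Nontrivial (LocalizedModule (Q.comap (algebraMap C₁ C₂)).primeCompl N)
  · haveI := hnt
    obtain ⟨hd, hp⟩ := supportDim_depth_localization_tensor (A := C₁) (B := C₂) N C₂ Q
    obtain ⟨hδ, hδtop⟩ := fibLocMod_self_cm Q hcm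
    haveI hN : IsNoetherianRing (Localization.AtPrime Q) :=
      IsLocalization.isNoetherianRing Q.primeCompl _ inferInstance
    have hsd : Module.supportDim (Localization.AtPrime Q) (EGA4.FibLocMod C₁ C₂ Q C₂) =
        ringKrullDim (EGA4.FibLocRing C₁ C₂ Q) := by
      rw [Module.supportDim_eq_of_equiv (fibLocModSelfEquiv (A := C₁) Q),
        supportDim_eq_of_surjective (B := Localization.AtPrime Q)
          (B' := EGA4.FibLocRing C₁ C₂ Q) (EGA4.FibLocRing C₁ C₂ Q) Ideal.Quotient.mk_surjective,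
        Module.supportDim_self_eq_ringKrullDim]
    unfold RhoAt dep
    rw [hp, WithBot.coe_add, add_assoc, ← hδ, hsd, hdim]
  · rw [not_nontrivial_iff_subsingleton] at hnt
    haveI := hnt
    haveI : Subsingleton (LocalizedModule Q.primeCompl (C₂ ⊗[C₁] N)) := by
      by_contra hcon
      rw [not_subsingleton_iff_nontrivial] at hcon
      haveI := hcon
      have hh := nontrivial_localization_of_nontrivial_localization_tensor (A := C₁) (B := C₂) N C₂ Q
      exact (not_subsingleton_iff_nontrivial.mpr (hh hcon)) hnt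
    rw [rhoAt_of_subsingleton, rhoAt_of_subsingleton]

end Rho

end Groth.Agent.Lib.Helper14.FibRhoA
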