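import Mathlib
import Groth.Agent.Lib.Helper14FibRhoA

/-!
# Rectified depth of fibre modules, part B: charts (helper14)

* `Rho A M q`: the rectified depth at `q` of the fibre of the `B`-module `M` through `q`.
* `rhoAt_chart_eq_rho`: any chart through `q` computes it.
* `rho_baseChange`: invariance under base change.
-/

set_option autoImplicit false
set_option linter.unusedVariables false
set_option linter.unusedSectionVars false
set_option linter.style.haveILetI false
set_option maxHeartbeats 400000

universe u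

open TensorProduct

namespace Groth.Agent.Lib.Helper14.FibRhoB

open Groth.Agent.Lib.Helper14.FibModA Groth.Agent.Lib.Helper14.FibModB
  Groth.Agent.Lib.Helper14.FibRhoA
open Groth.Agent.Lib.Helper28 Groth.Agent.Lib.Helper5.GenDepth Groth.Agent.Lib.Helper5

/-- **Comparison of two charts**, the second dominating the first. -/
theorem rhoAt_chart_comp {A B : Type u} [CommRing A] [CommRing B] [Algebra A B]
    [Algebra.FiniteType A B]
    (M : Type u) [AddCommGroup M] [Module B M] [Module.Finite B M]
    (L₁ C₁ L₂ C₂ : Type u) [Field L₁] [Field L₂] [CommRing C₁] [CommRing C₂]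
    [Algebra A L₁] [Algebra A L₂] [Algebra L₁ L₂] [IsScalarTower A L₁ L₂]
    [Algebra A C₁] [Algebra B C₁] [Algebra L₁ C₁] [IsScalarTower A B C₁] [IsScalarTower A L₁ C₁]
    [Algebra.IsPushout A L₁ B C₁]
    [Algebra A C₂] [Algebra B C₂] [Algebra L₂ C₂] [IsScalarTower A B C₂] [IsScalarTower A L₂ C₂]
    [Algebra.IsPushout A L₂ B C₂]
    [Algebra C₁ C₂] [Algebra L₁ C₂] [IsScalarTower L₁ L₂ C₂] [IsScalarTower L₁ C₁ C₂]
    [IsScalarTower A C₁ C₂] [IsScalarTower B C₁ C₂]
    (Q : Ideal C₂) [Q.IsPrime] :
    RhoAt Q (C₂ ⊗[B] M) = RhoAt (Q.comap (algebraMap C₁ C₂)) (C₁ ⊗[B] M) := by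
  haveI hpo : Algebra.IsPushout L₁ L₂ C₁ C₂ :=
    (Algebra.IsPushout.comp_iff A L₁ B C₁).mp inferInstance
  haveI hft : Algebra.FiniteType L₁ C₁ := finiteType_of_isPushout A L₁ B C₁
  haveI : IsNoetherianRing C₂ := isNoetherianRing_pushout L₁ L₂ C₁ C₂
  have key := rhoAt_pushout_field L₁ L₂ C₁ C₂ (C₁ ⊗[B] M) Q
  rw [← key]
  exact (rhoAt_congr Q (AlgebraTensorModule.cancelBaseChange B C₁ C₂ C₂ M)).symm

section Canonical

attribute [local instance] Algebra.TensorProduct.rightAlgebra

variable {A B : Type u} [CommRing A] [CommRing B] [Algebra A B]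

/-- **The rectified depth of the fibre** of `M` through `q`, at `q`. -/
noncomputable def Rho (A : Type u) {B : Type u} [CommRing A] [CommRing B] [Algebra A B]
    (M : Type u) [AddCommGroup M] [Module B M] (q : Ideal B) [q.IsPrime] : WithBot ℕ∞ :=
  RhoAt (Qcan (A := A) q) (((q.comap (algebraMap A B)).Fiber B) ⊗[B] M)

theorem rho_congr_ideal (M : Type u) [AddCommGroup M] [Module B M] {q q' : Ideal B} [q.IsPrime]
    [q'.IsPrime] (h : q = q') : Rho A M q = Rho A M q' := by
  subst h
  rfl

/-- **Any chart through `q` computes the rectified depth of the fibre.** -/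
theorem rhoAt_chart_eq_rho [Algebra.FiniteType A B]
    (M : Type u) [AddCommGroup M] [Module B M] [Module.Finite B M]
    (L C : Type u) [Field L] [CommRing C] [Algebra A L]
    [Algebra A C] [Algebra B C] [Algebra L C] [IsScalarTower A B C] [IsScalarTower A L C]
    [Algebra.IsPushout A L B C] (Q : Ideal C) [Q.IsPrime] (q : Ideal B) [q.IsPrime]
    (hq : Q.comap (algebraMap B C) = q) :
    RhoAt Q (C ⊗[B] M) = Rho A M q := by
  subst hq
  set p : Ideal A := (Q.comap (algebraMap B C)).comap (algebraMap A B) with hp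
  -- the residue field maps to `L`
  have hf₁ : p ≤ RingHom.ker (algebraMap A L) := fun a ha =>
    (RingHom.mem_ker).mpr ((algebraMap_field_eq_zero_iff (B := B) Q a).mpr ha)
  have hf₂ : p.primeCompl ≤ (IsUnit.submonoid L).comap (algebraMap A L) := by
    intro a ha
    rw [Submonoid.mem_comap, IsUnit.mem_submonoid_iff]
    exact IsUnit.mk0 _ (fun h0 => ha ((algebraMap_field_eq_zero_iff (B := B) Q a).mp h0))
  let φ : p.ResidueField →+* L := Ideal.ResidueField.lift p (algebraMap A L) hf₁ hf₂
  have hφ : ∀ a : A, φ (algebraMap A p.ResidueField a) = algebraMap A L a :=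
    fun a => Ideal.ResidueField.lift_algebraMap p (algebraMap A L) hf₁ hf₂ a
  letI algκL : Algebra p.ResidueField L := φ.toAlgebra
  haveI tAκL : IsScalarTower A p.ResidueField L :=
    IsScalarTower.of_algebraMap_eq (fun a => (hφ a).symm)
  letI algκC : Algebra p.ResidueField C := ((algebraMap L C).comp φ).toAlgebra
  haveI tκLC : IsScalarTower p.ResidueField L C := IsScalarTower.of_algebraMap_eq (fun k => rfl)
  haveI tAκC : IsScalarTower A p.ResidueField C := by
    refine IsScalarTower.of_algebraMap_eq (fun a => ?_)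
    change algebraMap A C a = algebraMap L C (φ (algebraMap A p.ResidueField a))
    rw [hφ, ← IsScalarTower.algebraMap_apply]
  -- the fibre ring maps to `C`
  let ψ : p.Fiber B →ₐ[A] C :=
    Algebra.TensorProduct.lift (IsScalarTower.toAlgHom A p.ResidueField C)
      (IsScalarTower.toAlgHom A B C) (fun _ _ => Commute.all _ _)
  letI algC₀C : Algebra (p.Fiber B) C := ψ.toRingHom.toAlgebra
  have hψ : ∀ x : p.Fiber B, algebraMap (p.Fiber B) C x = ψ x := fun x => rfl
  haveI tκC₀C : IsScalarTower p.ResidueField (p.Fiber B) C := by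
    refine IsScalarTower.of_algebraMap_eq (R := p.ResidueField) (S := p.Fiber B) (A := C)
      (fun k => ?_)
    rw [hψ, Algebra.TensorProduct.algebraMap_apply, Algebra.TensorProduct.lift_tmul, map_one,
      mul_one]
    rfl
  haveI tAC₀C : IsScalarTower A (p.Fiber B) C := by
    refine IsScalarTower.of_algebraMap_eq (R := A) (S := p.Fiber B) (A := C) (fun a => ?_)
    rw [hψ, AlgHom.commutes]
  haveI tBC₀C : IsScalarTower B (p.Fiber B) C := by
    refine IsScalarTower.of_algebraMap_eq (R := B) (S := p.Fiber B) (A := C) (fun b => ?_)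
    rw [hψ]
    change algebraMap B C b = ψ ((1 : p.ResidueField) ⊗ₜ[A] b)
    rw [Algebra.TensorProduct.lift_tmul, map_one, one_mul]
    rfl
  have key := rhoAt_chart_comp (A := A) (B := B) M p.ResidueField (p.Fiber B) L C Q
  rw [key]
  unfold Rho
  apply rhoAt_congr_ideal
  apply fiber_prime_ext
  rw [Qcan_comap, Ideal.comap_comap, ← IsScalarTower.algebraMap_eq]

/-- the chart lemma with a ring `L` that is a field. -/
theorem rhoAt_chart_eq_rho_of_isField [Algebra.FiniteType A B]
    (M : Type u) [AddCommGroup M] [Module B M] [Module.Finite B M]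
    (L C : Type u) [CommRing L] (hL : IsField L) [CommRing C] [Algebra A L]
    [Algebra A C] [Algebra B C] [Algebra L C] [IsScalarTower A B C] [IsScalarTower A L C]
    [Algebra.IsPushout A L B C] (Q : Ideal C) [Q.IsPrime] (q : Ideal B) [q.IsPrime]
    (hq : Q.comap (algebraMap B C) = q) :
    RhoAt Q (C ⊗[B] M) = Rho A M q := by
  letI := hL.toField
  exact rhoAt_chart_eq_rho M L C Q q hq

/-- **Base change invariance of the rectified depth of the fibres.** -/
theorem rho_baseChange {A' B' : Type u} [CommRing A'] [CommRing B'] [Algebra A A']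
    [Algebra A' B'] [Algebra B B'] [Algebra A B'] [IsScalarTower A A' B'] [IsScalarTower A B B']
    [Algebra.IsPushout A A' B B'] [Algebra.FiniteType A B]
    (M : Type u) [AddCommGroup M] [Module B M] [Module.Finite B M]
    (M' : Type u) [AddCommGroup M'] [Module B' M'] [Module B M'] [IsScalarTower B B' M']
    (g : M →ₗ[B] M') (hg : IsBaseChange B' g) (q' : Ideal B') [q'.IsPrime] :
    Rho A' M' q' = Rho A M (q'.comap (algebraMap B B')) := by
  set p' : Ideal A' := q'.comap (algebraMap A' B') with hp'
  haveI hftA' : Algebra.FiniteType A' B' := finiteType_of_isPushout A A' B B'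
  letI algBC' : Algebra B (p'.Fiber B') :=
    ((algebraMap B' (p'.Fiber B')).comp (algebraMap B B')).toAlgebra
  haveI tBB'C' : IsScalarTower B B' (p'.Fiber B') := IsScalarTower.of_algebraMap_eq (fun b => rfl)
  haveI tABC' : IsScalarTower A B (p'.Fiber B') := by
    refine IsScalarTower.of_algebraMap_eq (R := A) (S := B) (A := p'.Fiber B') (fun a => ?_)
    change algebraMap A (p'.Fiber B') a =
      algebraMap B' (p'.Fiber B') (algebraMap B B' (algebraMap A B a))
    rw [← IsScalarTower.algebraMap_apply A B B', IsScalarTower.algebraMap_apply A A' B',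
      ← IsScalarTower.algebraMap_apply A' B' (p'.Fiber B'),
      ← IsScalarTower.algebraMap_apply A A' (p'.Fiber B')]
  haveI tAB'C' : IsScalarTower A B' (p'.Fiber B') := by
    refine IsScalarTower.of_algebraMap_eq (R := A) (S := B') (A := p'.Fiber B') (fun a => ?_)
    rw [IsScalarTower.algebraMap_apply A A' B',
      ← IsScalarTower.algebraMap_apply A' B' (p'.Fiber B'),
      ← IsScalarTower.algebraMap_apply A A' (p'.Fiber B')]
  haveI hpo : Algebra.IsPushout A p'.ResidueField B (p'.Fiber B') :=
    (Algebra.IsPushout.comp_iff A A' B B').mpr inferInstance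
  have key := rhoAt_chart_eq_rho (A := A) (B := B) M p'.ResidueField (p'.Fiber B')
    (Qcan (A := A') q') (q'.comap (algebraMap B B')) (by
      rw [IsScalarTower.algebraMap_eq B B' (p'.Fiber B'), ← Ideal.comap_comap, Qcan_comap])
  rw [← key]
  unfold Rho
  haveI : IsNoetherianRing (p'.Fiber B') :=
    haveI := finiteType_of_isPushout A' p'.ResidueField B' (p'.Fiber B')
    Algebra.FiniteType.isNoetherianRing p'.ResidueField (p'.Fiber B')
  let e1 : (p'.Fiber B') ⊗[B'] (B' ⊗[B] M) ≃ₗ[p'.Fiber B'] (p'.Fiber B') ⊗[B] M :=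
    AlgebraTensorModule.cancelBaseChange B B' (p'.Fiber B') (p'.Fiber B') M
  let e2 : (p'.Fiber B') ⊗[B'] (B' ⊗[B] M) ≃ₗ[p'.Fiber B'] (p'.Fiber B') ⊗[B'] M' :=
    AlgebraTensorModule.congr (LinearEquiv.refl (p'.Fiber B') (p'.Fiber B')) hg.equiv
  exact (rhoAt_congr _ (e1.symm.trans e2)).symm

end Canonical

end Groth.Agent.Lib.Helper14.FibRhoB
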