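import Mathlib
import Groth.Agent.Lib.Helper14FibRhoB
import Groth.Agent.Lib.Helper14FibModD
import Groth.Agent.Lib.Helper4DimFormulaG
import Groth.Agent.Lib.Helper28SkLift

/-!
# Rectified depth of fibre modules, part C: the Noetherian case (helper14)

For `A → B` of finite type, `B` Noetherian, `M` a finite `B`-module and `q` a prime of `B` over `p`:

* `dep_Qcan_eq`: the depth of the fibre module at `q` is the depth of `M_q / p M_q` over `B_q`;
* `ringKrullDim_quotient_Qcan`: the dimension of the closure of `q` in its fibre is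
  `trdeg (A/p) (B/q)`;
* `dep_eq_add_of_flat`: `depth M_q = depth A_p + depth (M_q / p M_q)` when `M` is `A`-flat;
* `dep_le_dep_add_height`: `depth M_s ≤ depth M_p + ht (s/p)`.
-/

set_option autoImplicit false
set_option linter.unusedVariables false
set_option linter.unusedSectionVars false
set_option linter.style.haveILetI false
set_option maxHeartbeats 400000

universe u

open TensorProduct

namespace Groth.Agent.Lib.Helper14.FibRhoC

open Groth.Agent.Lib.Helper14.FibModA Groth.Agent.Lib.Helper14.FibModB
  Groth.Agent.Lib.Helper14.FibModC Groth.Agent.Lib.Helper14.FibRhoA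
  Groth.Agent.Lib.Helper14.FibRhoB
open Groth.Agent.Lib.Helper28 Groth.Agent.Lib.Helper5.GenDepth Groth.Agent.Lib.Helper5

attribute [local instance] Algebra.TensorProduct.rightAlgebra

section Abstract

set_option maxSynthPendingDepth 3 in
/-- the dimension of `C/Q` for a chart `C` which is "a localization of a quotient" of `B`. -/
theorem ringKrullDim_quotient_eq_trdeg {A B : Type u} [CommRing A] [CommRing B] [Algebra A B]
    (K C : Type u) [Field K] [CommRing C] [Algebra K C] [Algebra.FiniteType K C]
    [Algebra A K] [Algebra A C] [Algebra B C] [IsScalarTower A K C] [IsScalarTower A B C]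
    (hK : ∀ z : K, ∃ a s : A, z = algebraMap A K a / algebraMap A K s)
    (hC : ∀ c : C, ∃ r : A, algebraMap A K r ≠ 0 ∧ ∃ s : B, r • c = algebraMap B C s)
    (Q : Ideal C) [Q.IsPrime] (q : Ideal B) [q.IsPrime] (hq : Q.comap (algebraMap B C) = q)
    (n : ℕ) (hn : Algebra.trdeg (A ⧸ q.under A) (B ⧸ q) = n) :
    ringKrullDim (C ⧸ Q) = n := by
  obtain ⟨n', e, -, he, htr, -⟩ :=
    Groth.Agent.Lib.Helper14.LocalDim.exists_dims (k := K) (S := C) Q
  have hKC : ∀ k : K, algebraMap K C k ∈ Q ↔ k = 0 := by
    intro k
    constructor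
    · intro h
      by_contra hne
      exact ‹Q.IsPrime›.ne_top (Ideal.eq_top_of_isUnit_mem _ h ((IsUnit.mk0 k hne).map _))
    · rintro rfl
      rw [map_zero]
      exact zero_mem _
  have hp : ∀ a : A, a ∈ q.under A ↔ algebraMap A K a = 0 := by
    intro a
    rw [← hKC, ← IsScalarTower.algebraMap_apply, IsScalarTower.algebraMap_apply A B C,
      Ideal.under_def, Ideal.mem_comap, ← hq, Ideal.mem_comap]
  have hsc : ∀ k : K, algebraMap C Q.ResidueField (algebraMap K C k) =
      algebraMap K Q.ResidueField k := by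
    intro k
    rw [IsScalarTower.algebraMap_apply K (Localization.AtPrime Q) Q.ResidueField,
      IsScalarTower.algebraMap_apply C (Localization.AtPrime Q) Q.ResidueField,
      ← IsScalarTower.algebraMap_apply K C (Localization.AtPrime Q)]
  have key := Groth.Agent.Lib.Helper4.DimFormula.trdeg_eq_trdeg_quotient (A := A) (B := B)
    (K := K) (L := Q.ResidueField) (algebraMap A K)
    ((algebraMap C Q.ResidueField).comp (algebraMap B C))
    ?_ (q.under A) q hp ?_ hK ?_
  · rw [he]
    have h3 : Algebra.trdeg (A ⧸ q.under A) (B ⧸ q) = (e : Cardinal.{u}) := key.symm.trans htr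
    rw [hn] at h3
    have h2 : n = e := by exact_mod_cast h3
    rw [h2]
  · intro a
    rw [RingHom.comp_apply, ← IsScalarTower.algebraMap_apply A B C,
      IsScalarTower.algebraMap_apply A K C, hsc]
  · intro b
    rw [RingHom.comp_apply, Ideal.algebraMap_residueField_eq_zero, ← Ideal.mem_comap, hq]
  · intro z
    obtain ⟨x, y, hy, rfl⟩ :=
      IsFractionRing.div_surjective (A := C ⧸ Q) z
    obtain ⟨c, rfl⟩ := Ideal.Quotient.mk_surjective x
    obtain ⟨c', rfl⟩ := Ideal.Quotient.mk_surjective y
    obtain ⟨r, hr, s, e1⟩ := hC c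
    obtain ⟨r', hr', s', e2⟩ := hC c'
    have hev : ∀ (r₀ : A) (c₀ : C) (s₀ : B), algebraMap A K r₀ ≠ 0 → r₀ • c₀ = algebraMap B C s₀ →
        algebraMap C Q.ResidueField c₀ =
          ((algebraMap C Q.ResidueField).comp (algebraMap B C)) s₀ /
            ((algebraMap C Q.ResidueField).comp (algebraMap B C)) (algebraMap A B r₀) := by
      intro r₀ c₀ s₀ hr₀ e₀
      have hne : ((algebraMap C Q.ResidueField).comp (algebraMap B C)) (algebraMap A B r₀) ≠ 0 := by
        rw [RingHom.comp_apply, ← IsScalarTower.algebraMap_apply A B C,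
          IsScalarTower.algebraMap_apply A K C, hsc]
        exact fun h => hr₀ ((map_eq_zero _).mp h)
      rw [eq_div_iff hne, RingHom.comp_apply, RingHom.comp_apply, ← map_mul, ← e₀,
        ← IsScalarTower.algebraMap_apply A B C, Algebra.smul_def, mul_comm]
    refine ⟨s * algebraMap A B r', algebraMap A B r * s', ?_⟩
    have h1 : algebraMap (C ⧸ Q) Q.ResidueField (Ideal.Quotient.mk Q c) =
        algebraMap C Q.ResidueField c := rfl
    have h2 : algebraMap (C ⧸ Q) Q.ResidueField (Ideal.Quotient.mk Q c') =
        algebraMap C Q.ResidueField c' := rfl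
    rw [h1, h2, hev r c s hr e1, hev r' c' s' hr' e2, div_div_div_eq, map_mul, map_mul]

end Abstract

section Noeth

variable {A B : Type u} [CommRing A] [CommRing B] [Algebra A B] [IsNoetherianRing B]
  [Algebra.FiniteType A B]
  (M : Type u) [AddCommGroup M] [Module B M] [Module.Finite B M] (q : Ideal B) [q.IsPrime]

/-- the depth of the fibre module at the canonical prime, read off `M_q / p M_q` over `B_q`. -/
theorem dep_Qcan_eq :
    dep (Qcan (A := A) q) (((q.comap (algebraMap A B)).Fiber B) ⊗[B] M) =
      LocCoh.depth (Localization.AtPrime q) (EGA4.FibLocMod A B q M) := by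
  haveI hloc : IsLocalRing (EGA4.FibLocRing A B q) := isLocalRing_fibLocRing (A := A) q
  letI algC₀R := algFiberFib (A := A) q
  haveI hlocz : IsLocalization.AtPrime (EGA4.FibLocRing A B q) (Qcan (A := A) q) :=
    isLocalization_fibLocRing (A := A) q
  have halg : ∀ x, algebraMap ((q.comap (algebraMap A B)).Fiber B) (EGA4.FibLocRing A B q) x =
      fiberToFib q x := fun x => rfl
  haveI hNC₀ : IsNoetherianRing ((q.comap (algebraMap A B)).Fiber B) :=
    haveI := finiteType_of_isPushout A (q.comap (algebraMap A B)).ResidueField B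
      ((q.comap (algebraMap A B)).Fiber B)
    Algebra.FiniteType.isNoetherianRing (q.comap (algebraMap A B)).ResidueField _
  haveI tBC₀R : IsScalarTower B ((q.comap (algebraMap A B)).Fiber B) (EGA4.FibLocRing A B q) := by
    refine IsScalarTower.of_algebraMap_eq (R := B) (S := (q.comap (algebraMap A B)).Fiber B)
      (A := EGA4.FibLocRing A B q) (fun b => ?_)
    rw [halg, fiberToFib_algebraMap]
  letI mC₀X : Module ((q.comap (algebraMap A B)).Fiber B) (EGA4.FibLocMod A B q M) :=
    Module.compHom (EGA4.FibLocMod A B q M)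
      (algebraMap ((q.comap (algebraMap A B)).Fiber B) (EGA4.FibLocRing A B q))
  haveI tC₀RX : IsScalarTower ((q.comap (algebraMap A B)).Fiber B) (EGA4.FibLocRing A B q)
      (EGA4.FibLocMod A B q M) :=
    ⟨fun c r x => by
      change (c • r) • x = algebraMap _ (EGA4.FibLocRing A B q) c • (r • x)
      rw [Algebra.smul_def, mul_smul]⟩
  haveI tBC₀X : IsScalarTower B ((q.comap (algebraMap A B)).Fiber B) (EGA4.FibLocMod A B q M) :=
    IsScalarTower.of_algebraMap_smul (fun b x => by
      change algebraMap ((q.comap (algebraMap A B)).Fiber B) (EGA4.FibLocRing A B q)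
        (algebraMap B ((q.comap (algebraMap A B)).Fiber B) b) • x = b • x
      rw [← IsScalarTower.algebraMap_apply B ((q.comap (algebraMap A B)).Fiber B)
        (EGA4.FibLocRing A B q), algebraMap_smul])
  have hg₀ := isBaseChange_fibLocMod' (A := A) q M
  set g₀ : M →ₗ[B] EGA4.FibLocMod A B q M :=
    ((((q.comap (algebraMap A B)).map (algebraMap A (Localization.AtPrime q))) •
        (⊤ : Submodule (Localization.AtPrime q)
          (LocalizedModule q.primeCompl M))).mkQ).restrictScalars B
        ∘ₗ LocalizedModule.mkLinearMap q.primeCompl M with hg₀def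
  have hbc₀ := TensorProduct.isBaseChange B M ((q.comap (algebraMap A B)).Fiber B)
  let f2 : ((q.comap (algebraMap A B)).Fiber B) ⊗[B] M →ₗ[(q.comap (algebraMap A B)).Fiber B]
      EGA4.FibLocMod A B q M := hbc₀.lift g₀
  have hf2 : IsBaseChange (EGA4.FibLocRing A B q) f2 := by
    apply IsBaseChange.of_comp hbc₀
    have : (f2.restrictScalars B) ∘ₗ (TensorProduct.mk B ((q.comap (algebraMap A B)).Fiber B) M 1) =
        g₀ := hbc₀.lift_comp g₀
    rw [this]
    exact hg₀
  haveI hlm : IsLocalizedModule (Qcan (A := A) q).primeCompl f2 :=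
    (isLocalizedModule_iff_isBaseChange (Qcan (A := A) q).primeCompl (EGA4.FibLocRing A B q)
      f2).mpr hf2
  obtain ⟨h1, h2⟩ := Groth.Agent.Lib.Helper5.FinDimDepth.transport_aux (Qcan (A := A) q)
    (((q.comap (algebraMap A B)).Fiber B) ⊗[B] M) (EGA4.FibLocRing A B q)
    (EGA4.FibLocMod A B q M) f2
  have hN : IsNoetherianRing (Localization.AtPrime q) :=
    IsLocalization.isNoetherianRing q.primeCompl _ inferInstance
  have hfin : Module.Finite (EGA4.FibLocRing A B q) (EGA4.FibLocMod A B q M) :=
    Module.Finite.of_restrictScalars_finite (Localization.AtPrime q) _ _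
  have hlh : IsLocalHom (algebraMap (Localization.AtPrime q) (EGA4.FibLocRing A B q)) :=
    IsLocalHom.of_surjective _ Ideal.Quotient.mk_surjective
  unfold dep
  rw [← h1, ← depth_eq_depth_of_isLocalHom_of_finite (A := Localization.AtPrime q)
      (B := EGA4.FibLocRing A B q) (M := EGA4.FibLocMod A B q M)]

/-- the rectified depth in terms of the fibre stalk and the dimension term. -/
theorem rho_eq :
    Rho A M q = ((LocCoh.depth (Localization.AtPrime q) (EGA4.FibLocMod A B q M) : ℕ∞) :
      WithBot ℕ∞) + ringKrullDim (((q.comap (algebraMap A B)).Fiber B) ⧸ Qcan (A := A) q) := by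
  unfold Rho RhoAt
  rw [dep_Qcan_eq]

omit [IsNoetherianRing B] in
/-- the dimension of the closure of `q` in its fibre is the transcendence degree of `B/q` over
`A/p`. -/
theorem ringKrullDim_quotient_Qcan (n : ℕ)
    (hn : Algebra.trdeg (A ⧸ q.under A) (B ⧸ q) = n) :
    ringKrullDim (((q.comap (algebraMap A B)).Fiber B) ⧸ Qcan (A := A) q) = n := by
  set p : Ideal A := q.comap (algebraMap A B) with hp
  haveI hft : Algebra.FiniteType p.ResidueField (p.Fiber B) :=
    finiteType_of_isPushout A p.ResidueField B (p.Fiber B)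
  refine ringKrullDim_quotient_eq_trdeg (A := A) (B := B) p.ResidueField (p.Fiber B) ?_ ?_
    (Qcan (A := A) q) q (Qcan_comap q) n hn
  · intro z
    obtain ⟨x, y, hy, rfl⟩ := IsFractionRing.div_surjective (A := A ⧸ p) z
    obtain ⟨a, rfl⟩ := Ideal.Quotient.mk_surjective x
    obtain ⟨s, rfl⟩ := Ideal.Quotient.mk_surjective y
    exact ⟨a, s, rfl⟩
  · intro c
    obtain ⟨r, hr, s, e1⟩ := Ideal.Fiber.exists_smul_eq_one_tmul p c
    refine ⟨r, fun h => hr (Ideal.algebraMap_residueField_eq_zero.mp h), s, ?_⟩
    rw [e1]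
    rfl

omit [IsNoetherianRing B] [Module.Finite B M] in
theorem exists_trdeg_eq [IsNoetherianRing A] :
    ∃ n : ℕ, Algebra.trdeg (A ⧸ q.under A) (B ⧸ q) = n := by
  haveI : IsDomain (A ⧸ q.under A) := Ideal.Quotient.isDomain _
  haveI : Algebra.FiniteType (A ⧸ q.under A) (B ⧸ q) :=
    Algebra.FiniteType.of_restrictScalars_finiteType A (A ⧸ q.under A) (B ⧸ q)
  have h := trdeg_lt_aleph0_of_finiteType (R := A ⧸ q.under A) (S := B ⧸ q)
  obtain ⟨n, hn⟩ := Cardinal.lt_aleph0.mp h
  exact ⟨n, hn⟩

variable [IsNoetherianRing A] [Module A M] [IsScalarTower A B M] [Module.Flat A M]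

/-- `depth M_q = depth A_p + depth (M_q / p M_q)` for an `A`-flat module. -/
theorem dep_eq_add_of_flat :
    dep q M = dep (q.comap (algebraMap A B)) A +
      LocCoh.depth (Localization.AtPrime q) (EGA4.FibLocMod A B q M) := by
  have hsupp := Groth.Agent.Lib.Helper5.CodepthOpen.mem_support_self (q.comap (algebraMap A B))
  haveI : Nontrivial (LocalizedModule (q.comap (algebraMap A B)).primeCompl A) :=
    Module.mem_support_iff.mp hsupp
  obtain ⟨hd, hp⟩ := supportDim_depth_localization_tensor (A := A) (B := B) A M q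
  obtain ⟨h1, h2⟩ := dep_dm_congr q (AlgebraTensorModule.rid A B M).symm
  rw [h1]
  exact hp

end Noeth

section DepthIneq

variable {R : Type u} [CommRing R] [IsNoetherianRing R]
  (M : Type u) [AddCommGroup M] [Module R M] [Module.Finite R M]

/-- For primes `p ≤ s`: `depth M_s ≤ depth M_p + ht (s/p)`. -/
theorem dep_le_dep_add_height (p s : Ideal R) [p.IsPrime] [s.IsPrime] (hps : p ≤ s) :
    dep s M ≤ dep p M + (s.map (Ideal.Quotient.mk p)).height := by
  by_cases hnt : Nontrivial (LocalizedModule s.primeCompl M)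
  · haveI := hnt
    haveI hN : IsNoetherianRing (Localization.AtPrime s) :=
      IsLocalization.isNoetherianRing s.primeCompl _ inferInstance
    set Rs := Localization.AtPrime s with hRs
    set I : Ideal Rs := p.map (algebraMap R Rs) with hI
    have hIm : I ≤ IsLocalRing.maximalIdeal Rs := by
      rw [← Localization.AtPrime.map_eq_maximalIdeal]
      exact Ideal.map_mono hps
    have hIM : I • (⊤ : Submodule Rs (LocalizedModule s.primeCompl M)) ≠ ⊤ :=
      smul_top_ne_top_of_le_maximalIdeal hIm
    obtain ⟨n, hn⟩ := ENat.ne_top_iff_exists.mp (idealDepth_ne_top hIM)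
    have G1 := depth_le_idealDepth_add_supportDim_quotient I hIm n
      (LocalizedModule s.primeCompl M) hn.symm
    have h1 : LocCoh.idealDepth I (LocalizedModule s.primeCompl M) ≤ dep p M :=
      idealDepth_map_localization_le_depth_localization p s M hps
    have h2 : Module.supportDim Rs ((LocalizedModule s.primeCompl M) ⧸
        (I • ⊤ : Submodule Rs (LocalizedModule s.primeCompl M))) ≤
        (((s.map (Ideal.Quotient.mk p)).height : ℕ∞) : WithBot ℕ∞) := by
      rw [← ringKrullDim_localization_quotient_eq_height p s hps]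
      exact supportDim_quotient_smul_top_le_ringKrullDim_quotient I
    have h3 := G1.trans (add_le_add (WithBot.coe_le_coe.mpr h1) h2)
    rw [← WithBot.coe_add, WithBot.coe_le_coe] at h3
    exact h3
  · rw [not_nontrivial_iff_subsingleton] at hnt
    haveI := hnt
    -- then `M_p` vanishes as well
    haveI : Subsingleton (LocalizedModule p.primeCompl M) := by
      by_contra hcon
      rw [not_subsingleton_iff_nontrivial] at hcon
      have hp' : (⟨p, inferInstance⟩ : PrimeSpectrum R) ∈ Module.support R M :=
        Module.mem_support_iff.mpr hcon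
      have hs' : (⟨s, inferInstance⟩ : PrimeSpectrum R) ∈ Module.support R M :=
        Module.mem_support_mono (show (⟨p, inferInstance⟩ : PrimeSpectrum R) ≤ ⟨s, inferInstance⟩
          from hps) hp'
      exact (not_subsingleton_iff_nontrivial.mpr (Module.mem_support_iff.mp hs')) hnt
    unfold dep
    rw [depth_eq_top_of_subsingleton (M := LocalizedModule p.primeCompl M), top_add]
    exact le_top

end DepthIneq

end Groth.Agent.Lib.Helper14.FibRhoC
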