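import Mathlib
import Groth.Agent.Lib.Helper14FibRhoC

/-!
# Rectified depth of fibre modules, part D: generization (helper14)

For `A → B` of finite type with `A`, `B` Noetherian and `M` a finite `B`-module flat over `A`, the
rectified depth of the fibres of `M` does not decrease under generization in `Spec B`.
-/

set_option autoImplicit false
set_option linter.unusedVariables false
set_option linter.unusedSectionVars false
set_option linter.style.haveILetI false
set_option maxHeartbeats 400000

universe u

open TensorProduct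

namespace Groth.Agent.Lib.Helper14.FibRhoD

open Groth.Agent.Lib.Helper14.FibModA Groth.Agent.Lib.Helper14.FibModB
  Groth.Agent.Lib.Helper14.FibModC Groth.Agent.Lib.Helper14.FibRhoA
  Groth.Agent.Lib.Helper14.FibRhoB Groth.Agent.Lib.Helper14.FibRhoC
open Groth.Agent.Lib.Helper28 Groth.Agent.Lib.Helper5.GenDepth Groth.Agent.Lib.Helper5

attribute [local instance] Algebra.TensorProduct.rightAlgebra

section CM

/-- in a Cohen–Macaulay ring, the depth of the local ring at a prime is its height. -/
theorem dep_self_eq_height {D : Type u} [CommRing D] [hCM : LocCoh.IsCohenMacaulayRing D]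
    (P : Ideal D) [P.IsPrime] : dep P D = P.height := by
  haveI : IsNoetherianRing D := hCM.toIsNoetherian
  obtain ⟨h1, h2⟩ := Groth.Agent.Lib.Helper5.CodepthOpen.dep_dm_self P
  have h3 := (hCM.isCohenMacaulayLocalRing_localization P).supportDim_eq_depth
  rw [Module.supportDim_self_eq_ringKrullDim,
    IsLocalization.AtPrime.ringKrullDim_eq_height P (Localization.AtPrime P)] at h3
  rw [h1]
  exact (WithBot.coe_injective h3).symm

end CM

section Rational

variable {D B' : Type u} [CommRing D] [CommRing B'] [Algebra D B']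
  [IsNoetherianRing B'] [Algebra.FiniteType D B']
  (M' : Type u) [AddCommGroup M'] [Module B' M'] [Module.Finite B' M']
  [Module D M'] [IsScalarTower D B' M'] [Module.Flat D M']

/-- at a point which is rational in its fibre, over a Cohen–Macaulay base: the rectified depth of
the fibre plus the height of the base point is the depth of the module. -/
theorem rho_add_height_of_section [hCM : LocCoh.IsCohenMacaulayRing D]
    (σ : B' →ₐ[D] D) (P : Ideal D) [P.IsPrime] :
    Rho D M' (P.comap σ.toRingHom) + ((P.height : ℕ∞) : WithBot ℕ∞) =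
      ((dep (P.comap σ.toRingHom) M' : ℕ∞) : WithBot ℕ∞) := by
  haveI : IsNoetherianRing D := hCM.toIsNoetherian
  set z : Ideal B' := P.comap σ.toRingHom with hz
  have hσ : ∀ d : D, σ (algebraMap D B' d) = d := fun d => by
    rw [σ.commutes]
    rfl
  have hzP : z.comap (algebraMap D B') = P := by
    rw [hz, Ideal.comap_comap]
    have : σ.toRingHom.comp (algebraMap D B') = RingHom.id D := RingHom.ext hσ
    rw [this, Ideal.comap_id]
  -- the residue extension is trivial
  have hsurj : Function.Surjective (algebraMap (D ⧸ z.under D) (B' ⧸ z)) := by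
    intro x
    obtain ⟨b, rfl⟩ := Ideal.Quotient.mk_surjective x
    refine ⟨Ideal.Quotient.mk _ (σ b), ?_⟩
    rw [Ideal.Quotient.algebraMap_mk_of_liesOver, Ideal.Quotient.eq, hz, Ideal.mem_comap]
    change σ (algebraMap D B' (σ b) - b) ∈ P
    rw [map_sub, hσ, sub_self]
    exact zero_mem _
  haveI : Algebra.IsIntegral (D ⧸ z.under D) (B' ⧸ z) :=
    Algebra.isIntegral_of_surjective hsurj
  haveI : Nontrivial (D ⧸ z.under D) :=
    Ideal.Quotient.nontrivial_iff.mpr (Ideal.IsPrime.ne_top inferInstance)
  haveI : Algebra.IsAlgebraic (D ⧸ z.under D) (B' ⧸ z) := Algebra.IsIntegral.isAlgebraic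
  have htr : Algebra.trdeg (D ⧸ z.under D) (B' ⧸ z) = ((0 : ℕ) : Cardinal.{u}) := by
    rw [trdeg_eq_zero]
    simp
  have hdim := ringKrullDim_quotient_Qcan (A := D) (B := B') z 0 htr
  have hrho := rho_eq (A := D) (B := B') M' z
  rw [hdim] at hrho
  have hflat := dep_eq_add_of_flat (A := D) (B := B') M' z
  have hht : (z.comap (algebraMap D B')).height = P.height := by rw [hzP]
  rw [dep_self_eq_height, hht] at hflat
  rw [hrho, hflat]
  push_cast
  rw [add_zero, add_comm]

end Rational

section Arith

theorem withBot_add_nat_le_cancel {a b : WithBot ℕ∞} {h : ℕ∞} (hh : h ≠ ⊤)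
    (hab : a + ((h : ℕ∞) : WithBot ℕ∞) ≤ b + ((h : ℕ∞) : WithBot ℕ∞)) : a ≤ b := by
  induction a using WithBot.recBotCoe with
  | bot => exact bot_le
  | coe x =>
    induction b using WithBot.recBotCoe with
    | bot =>
      rw [WithBot.bot_add] at hab
      rw [← WithBot.coe_add] at hab
      exact absurd hab (by simp)
    | coe y =>
      rw [← WithBot.coe_add, ← WithBot.coe_add, WithBot.coe_le_coe] at hab
      rw [WithBot.coe_le_coe]
      exact (ENat.add_le_add_iff_right hh).mp hab

theorem height_map_mk_comap_of_surjective {R D : Type u} [CommRing R] [CommRing D] (σ : R →+* D)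
    (hσ : Function.Surjective σ) (I : Ideal R) (hI : I = RingHom.ker σ) (P : Ideal D) [P.IsPrime] :
    ((P.comap σ).map (Ideal.Quotient.mk I)).height = P.height := by
  subst hI
  let e : (R ⧸ RingHom.ker σ) ≃+* D := RingHom.quotientKerEquivOfSurjective hσ
  rw [← RingEquiv.height_comap e P]
  congr 1
  ext x
  obtain ⟨y, rfl⟩ := Ideal.Quotient.mk_surjective x
  rw [Ideal.mem_comap]
  have he : e (Ideal.Quotient.mk _ y) = σ y := rfl
  rw [he]
  constructor
  · intro h
    rw [Ideal.mem_map_iff_of_surjective _ Ideal.Quotient.mk_surjective] at h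
    obtain ⟨w, hw, hwy⟩ := h
    have h1 : w - y ∈ RingHom.ker σ := by
      rw [← Ideal.Quotient.eq_zero_iff_mem, map_sub, hwy, sub_self]
    have h2 : σ w = σ y := by
      rw [RingHom.mem_ker, map_sub, sub_eq_zero] at h1
      exact h1
    rw [← h2]
    exact hw
  · intro h
    exact Ideal.mem_map_of_mem _ (show y ∈ P.comap σ from h)

end Arith

section Generization

variable {A B : Type u} [CommRing A] [CommRing B] [Algebra A B] [IsNoetherianRing A]
  [IsNoetherianRing B] [Algebra.FiniteType A B]
  (M : Type u) [AddCommGroup M] [Module B M] [Module.Finite B M]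
  [Module A M] [IsScalarTower A B M] [Module.Flat A M]

/-- the key step: a morphism `Spec D → Spec B` over `A` from an integral Cohen–Macaulay scheme
compares the rectified depths at the images of a point and of the generic point. -/
theorem rho_of_section {D : Type u} [CommRing D] [IsDomain D] [Algebra A D]
    [hCM : LocCoh.IsCohenMacaulayRing D] (ψ : B →ₐ[A] D) (P₁ : Ideal D) [P₁.IsPrime] :
    haveI : (⊥ : Ideal D).IsPrime := Ideal.isPrime_bot
    Rho A M (P₁.comap ψ.toRingHom) ≤ Rho A M ((⊥ : Ideal D).comap ψ.toRingHom) := by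
  haveI hbot : (⊥ : Ideal D).IsPrime := Ideal.isPrime_bot
  haveI : IsNoetherianRing D := hCM.toIsNoetherian
  haveI hft' : Algebra.FiniteType D (D ⊗[A] B) := finiteType_of_isPushout A D B (D ⊗[A] B)
  haveI hN' : IsNoetherianRing (D ⊗[A] B) := Algebra.FiniteType.isNoetherianRing D (D ⊗[A] B)
  have hg := TensorProduct.isBaseChange B M (D ⊗[A] B)
  haveI hflat' : Module.Flat D ((D ⊗[A] B) ⊗[B] M) :=
    Module.Flat.of_linearEquiv (Algebra.IsPushout.cancelBaseChange A D B (D ⊗[A] B) M)
  -- the section
  let σ : D ⊗[A] B →ₐ[D] D :=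
    Algebra.TensorProduct.lift (Algebra.ofId D D) ψ (fun _ _ => Commute.all _ _)
  have hσ : ∀ b : B, σ (algebraMap B (D ⊗[A] B) b) = ψ b := fun b => by
    change σ (1 ⊗ₜ[A] b) = _
    simp [σ]
  have hσD : ∀ d : D, σ (algebraMap D (D ⊗[A] B) d) = d := fun d => by
    rw [σ.commutes]
    rfl
  have hσsurj : Function.Surjective σ.toRingHom := fun d => ⟨algebraMap D _ d, hσD d⟩
  have hcomp : σ.toRingHom.comp (algebraMap B (D ⊗[A] B)) = ψ.toRingHom := RingHom.ext hσ
  have hc : ∀ P : Ideal D, (P.comap σ.toRingHom).comap (algebraMap B (D ⊗[A] B)) =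
      P.comap ψ.toRingHom := fun P => by
    rw [Ideal.comap_comap, hcomp]
  have hA₁ := rho_baseChange (A := A) (A' := D) (B := B) (B' := D ⊗[A] B) M
    ((D ⊗[A] B) ⊗[B] M) _ hg (P₁.comap σ.toRingHom)
  have hA₀ := rho_baseChange (A := A) (A' := D) (B := B) (B' := D ⊗[A] B) M
    ((D ⊗[A] B) ⊗[B] M) _ hg ((⊥ : Ideal D).comap σ.toRingHom)
  rw [← rho_congr_ideal M (hc P₁), ← rho_congr_ideal M (hc ⊥), ← hA₁, ← hA₀]
  have e₁ := rho_add_height_of_section (D := D) (B' := D ⊗[A] B) ((D ⊗[A] B) ⊗[B] M) σ P₁
  have e₀ := rho_add_height_of_section (D := D) (B' := D ⊗[A] B) ((D ⊗[A] B) ⊗[B] M) σ ⊥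
  rw [Ideal.height_bot] at e₀
  have hineq := dep_le_dep_add_height ((D ⊗[A] B) ⊗[B] M) ((⊥ : Ideal D).comap σ.toRingHom)
    (P₁.comap σ.toRingHom) (Ideal.comap_mono bot_le)
  rw [height_map_mk_comap_of_surjective σ.toRingHom hσsurj _ (RingHom.ker_eq_comap_bot _).symm P₁]
    at hineq
  have hfin : P₁.height ≠ ⊤ := Ideal.height_ne_top_of_isPrime
  apply withBot_add_nat_le_cancel hfin
  rw [e₁]
  have e₀' : Rho D ((D ⊗[A] B) ⊗[B] M) ((⊥ : Ideal D).comap σ.toRingHom) =
      ((dep ((⊥ : Ideal D).comap σ.toRingHom) ((D ⊗[A] B) ⊗[B] M) : ℕ∞) : WithBot ℕ∞) := by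
    rw [← e₀]
    simp
  rw [e₀', ← WithBot.coe_add, WithBot.coe_le_coe]
  exact hineq

theorem rho_step (Q' : Ideal B) [hQ' : Q'.IsPrime] (p : Ideal (B ⧸ Q')) [hp : p.IsPrime]
    (hht : p.height ≤ 1) :
    Rho A M (p.comap (Ideal.Quotient.mk Q')) ≤ Rho A M Q' := by
  haveI : IsDomain (B ⧸ Q') := Ideal.Quotient.isDomain Q'
  haveI : IsDomain (Localization.AtPrime p) :=
    IsLocalization.isDomain_localization
      (le_nonZeroDivisors_of_noZeroDivisors (fun h0 => h0 (zero_mem p)))
  haveI : IsNoetherianRing (Localization.AtPrime p) :=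
    IsLocalization.isNoetherianRing p.primeCompl _ inferInstance
  have hdim : ringKrullDim (Localization.AtPrime p) ≤ 1 := by
    rw [IsLocalization.AtPrime.ringKrullDim_eq_height p (Localization.AtPrime p)]
    exact_mod_cast hht
  haveI hCM : LocCoh.IsCohenMacaulayRing (Localization.AtPrime p) :=
    Groth.Agent.Lib.Helper5.RelCMOpen.isCohenMacaulayRing_of_isDomain_of_dim_le_one _ hdim
  haveI hbot : (⊥ : Ideal (Localization.AtPrime p)).IsPrime := Ideal.isPrime_bot
  have hc : (IsLocalRing.maximalIdeal (Localization.AtPrime p)).comap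
      (IsScalarTower.toAlgHom A B (Localization.AtPrime p)).toRingHom =
      p.comap (Ideal.Quotient.mk Q') := by
    change (IsLocalRing.maximalIdeal (Localization.AtPrime p)).comap
      (algebraMap B (Localization.AtPrime p)) = _
    rw [IsScalarTower.algebraMap_eq B (B ⧸ Q') (Localization.AtPrime p), ← Ideal.comap_comap]
    exact congrArg (Ideal.comap (Ideal.Quotient.mk Q'))
      (IsLocalization.AtPrime.under_maximalIdeal (Localization.AtPrime p) p)
  have hη : (⊥ : Ideal (Localization.AtPrime p)).comap
      (IsScalarTower.toAlgHom A B (Localization.AtPrime p)).toRingHom = Q' := by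
    change (⊥ : Ideal (Localization.AtPrime p)).comap
      (algebraMap B (Localization.AtPrime p)) = _
    rw [IsScalarTower.algebraMap_eq B (B ⧸ Q') (Localization.AtPrime p),
      ← Ideal.comap_comap, Ideal.comap_bot_of_injective _
        (IsLocalization.injective (M := p.primeCompl) (Localization.AtPrime p)
          (le_nonZeroDivisors_of_noZeroDivisors (fun h0 => h0 (zero_mem p))))]
    change Ideal.comap (Ideal.Quotient.mk Q') ⊥ = Q'
    rw [← RingHom.ker_eq_comap_bot, Ideal.mk_ker]
  have key := rho_of_section M (IsScalarTower.toAlgHom A B (Localization.AtPrime p))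
    (IsLocalRing.maximalIdeal (Localization.AtPrime p))
  rw [rho_congr_ideal M hc, rho_congr_ideal M hη] at key
  exact key

/-- **The rectified depth of the fibres does not decrease under generization.** -/
theorem rho_generization (q : Ideal B) [q.IsPrime] :
    ∀ (I : Ideal B) [I.IsPrime], I ≤ q → Rho A M q ≤ Rho A M I := by
  intro I
  induction I using WellFoundedGT.induction with
  | ind I IH =>
    intro hI hle
    by_cases heq : I = q
    · exact le_of_eq (rho_congr_ideal M heq).symm
    · have hlt : I < q := lt_of_le_of_ne hle heq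
      obtain ⟨p, hp, hht, hlt', hle'⟩ :=
        Groth.Agent.Lib.Helper5.RelCMOpen.exists_prime_height_le_one hlt
      haveI := hp
      have h₁ : Rho A M q ≤ Rho A M (p.comap (Ideal.Quotient.mk I)) := IH _ hlt' hle'
      exact h₁.trans (rho_step M I p hht)

end Generization

end Groth.Agent.Lib.Helper14.FibRhoD
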