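import Mathlib
import Groth.Agent.Lib.Helper4DimFormulaP
import Groth.Agent.Lib.Helper28Catenary

/-!
# The dimension formula (with equality) implies universally catenary (helper4)

EGA IV 5.6.1 c) ⇒ b).
-/

set_option autoImplicit false
set_option linter.style.haveILetI false

universe u

namespace Groth.Agent.Lib.Helper4.DimFormula

open Groth.Agent.Helper13Cat

/-- The dimension formula with equality for all domains of finite type over the quotient domains of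
`A`. -/
def HDF (A : Type u) [CommRing A] : Prop :=
  ∀ (P : Ideal A) [P.IsPrime] (S : Type u) [CommRing S] [IsDomain S] [Algebra (A ⧸ P) S]
    [FaithfulSMul (A ⧸ P) S] [Algebra.FiniteType (A ⧸ P) S] (p : Ideal (A ⧸ P)) [p.IsPrime]
    (q : Ideal S) [q.IsPrime] [q.LiesOver p],
    (q.height : Cardinal.{u}) + Algebra.trdeg ((A ⧸ P) ⧸ p) (S ⧸ q) =
      (p.height : Cardinal.{u}) + Algebra.trdeg (A ⧸ P) S

theorem height_map_add_eq_of_hdf (A : Type u) [CommRing A] [IsNoetherianRing A] (hdf : HDF A)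
    (B : Type u) [CommRing B] [Algebra A B]
    [Algebra.FiniteType A B] (p : Ideal A) [p.IsPrime] (q : Ideal B)
    [q.IsPrime] [q.LiesOver p] (P : Ideal B) [P.IsPrime] (hPq : P ≤ q) (n E : ℕ)
    (hn : Algebra.trdeg (A ⧸ p) (B ⧸ q) = n)
    (hE : Algebra.trdeg (A ⧸ P.under A) (B ⧸ P) = E) :
    (q.map (Ideal.Quotient.mk P)).height + n =
      (p.map (Ideal.Quotient.mk (P.under A))).height + E := by
  have hP₀ : P.under A ≤ p := by
    rw [Ideal.LiesOver.over (p := p) (P := q)]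
    exact Ideal.comap_mono hPq
  haveI : (q.map (Ideal.Quotient.mk P)).IsPrime := Ideal.isPrime_map_quotientMk_of_isPrime hPq
  haveI : (p.map (Ideal.Quotient.mk (P.under A))).IsPrime :=
    Ideal.isPrime_map_quotientMk_of_isPrime hP₀
  haveI := liesOver_map_mk (P.under A) p P q hPq hP₀
  haveI : Algebra.FiniteType (A ⧸ P.under A) (B ⧸ P) :=
    Algebra.FiniteType.of_restrictScalars_finiteType A (A ⧸ P.under A) (B ⧸ P)
  have h0 := hdf (P.under A) (B ⧸ P)
    (p.map (Ideal.Quotient.mk (P.under A))) (q.map (Ideal.Quotient.mk P))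
  rw [trdeg_doubleQuot (P.under A) p P q hPq hP₀, hn, hE] at h0
  exact_mod_cast h0

theorem height_map_mk_bot {S : Type*} [CommRing S] (q : Ideal S) :
    (q.map (Ideal.Quotient.mk (⊥ : Ideal S))).height = q.height := by
  have h := RingEquiv.height_map (RingEquiv.quotientBot S).symm q
  rw [← h]
  congr 1

theorem exists_trdeg_eq_nat (A : Type u) [CommRing A] (B : Type u) [CommRing B] [Algebra A B]
    [Algebra.FiniteType A B] (p : Ideal A) [p.IsPrime] (q : Ideal B) [q.IsPrime] [q.LiesOver p] :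
    ∃ n : ℕ, Algebra.trdeg (A ⧸ p) (B ⧸ q) = n := by
  haveI : Algebra.FiniteType (A ⧸ p) (B ⧸ q) :=
    Algebra.FiniteType.of_restrictScalars_finiteType A (A ⧸ p) (B ⧸ q)
  have := trdeg_lt_aleph0_of_finiteType (R := A ⧸ p) (S := B ⧸ q)
  obtain ⟨n, hn⟩ := Cardinal.lt_aleph0.mp this
  exact ⟨n, hn⟩

/-- In a catenary Noetherian ring, heights of quotients are additive. -/
theorem height_map_mk_add (A : Type u) [CommRing A] [IsNoetherianRing A] (hcat : CAlg.IsCatenary A)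
    (P₀ p₁ p₂ : Ideal A) [P₀.IsPrime] [p₁.IsPrime] [p₂.IsPrime] (h01 : P₀ ≤ p₁) (h12 : p₁ ≤ p₂) :
    (p₂.map (Ideal.Quotient.mk P₀)).height =
      (p₁.map (Ideal.Quotient.mk P₀)).height + (p₂.map (Ideal.Quotient.mk p₁)).height := by
  have hD : CAlg.IsCatenary (A ⧸ P₀) :=
    isCatenary_of_surjective (Ideal.Quotient.mk P₀) Ideal.Quotient.mk_surjective hcat
  haveI : (p₂.map (Ideal.Quotient.mk p₁)).IsPrime := Ideal.isPrime_map_quotientMk_of_isPrime h12
  have h := height_comap_eq_of_isCatenary hD (Ideal.Quotient.factor h01)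
    (Ideal.Quotient.factor_surjective h01) (p₂.map (Ideal.Quotient.mk p₁))
  rw [Ideal.Quotient.factor_ker] at h
  rw [← h]
  congr 1
  ext x
  obtain ⟨a, rfl⟩ := Ideal.Quotient.mk_surjective x
  rw [Ideal.mem_comap, Ideal.Quotient.factor_mk, Ideal.mem_quotient_iff_mem h12,
    Ideal.mem_quotient_iff_mem (h01.trans h12)]

theorem height_step_of_hdf (A : Type u) [CommRing A] [IsNoetherianRing A]
    (hcat : CAlg.IsCatenary A) (hdf : HDF A)
    (S : Type u) [CommRing S] [IsDomain S] [Algebra A S] [Algebra.FiniteType A S]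
    {𝔮₁ 𝔮₂ : PrimeSpectrum S} (h : 𝔮₁ ⋖ 𝔮₂) :
    𝔮₂.asIdeal.height = 𝔮₁.asIdeal.height + 1 := by
  haveI : IsNoetherianRing S := Algebra.FiniteType.isNoetherianRing A S
  haveI hbot : (⊥ : Ideal S).IsPrime := Ideal.isPrime_bot
  have h12 : 𝔮₁.asIdeal ≤ 𝔮₂.asIdeal := h.1.le
  set p₁ : Ideal A := 𝔮₁.asIdeal.under A with hp₁
  set p₂ : Ideal A := 𝔮₂.asIdeal.under A with hp₂
  set P₀ : Ideal A := (⊥ : Ideal S).under A with hP₀
  have h01 : P₀ ≤ p₁ := Ideal.comap_mono bot_le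
  have hp12 : p₁ ≤ p₂ := Ideal.comap_mono h12
  obtain ⟨t₀, ht₀⟩ := exists_trdeg_eq_nat A S P₀ ⊥
  obtain ⟨t₁, ht₁⟩ := exists_trdeg_eq_nat A S p₁ 𝔮₁.asIdeal
  obtain ⟨t₂, ht₂⟩ := exists_trdeg_eq_nat A S p₂ 𝔮₂.asIdeal
  have e1 := height_map_add_eq_of_hdf A hdf S p₂ 𝔮₂.asIdeal ⊥ bot_le t₂ t₀ ht₂ ht₀
  have e2 := height_map_add_eq_of_hdf A hdf S p₁ 𝔮₁.asIdeal ⊥ bot_le t₁ t₀ ht₁ ht₀
  have e3 := height_map_add_eq_of_hdf A hdf S p₂ 𝔮₂.asIdeal 𝔮₁.asIdeal h12 t₂ t₁ ht₂ ht₁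
  rw [height_map_mk_bot] at e1 e2
  rw [Groth.Agent.Lib.Helper28.height_map_mk_eq_one_of_covBy h] at e3
  have e4 := height_map_mk_add A hcat P₀ p₁ p₂ h01 hp12
  haveI : (p₂.map (Ideal.Quotient.mk P₀)).IsPrime :=
    Ideal.isPrime_map_quotientMk_of_isPrime (h01.trans hp12)
  haveI : (p₁.map (Ideal.Quotient.mk P₀)).IsPrime := Ideal.isPrime_map_quotientMk_of_isPrime h01
  haveI : (p₂.map (Ideal.Quotient.mk p₁)).IsPrime := Ideal.isPrime_map_quotientMk_of_isPrime hp12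
  obtain ⟨a₂, ha₂⟩ : ∃ a : ℕ, (a : ℕ∞) = 𝔮₂.asIdeal.height :=
    ENat.ne_top_iff_exists.mp Ideal.height_ne_top_of_isPrime
  obtain ⟨a₁, ha₁⟩ : ∃ a : ℕ, (a : ℕ∞) = 𝔮₁.asIdeal.height :=
    ENat.ne_top_iff_exists.mp Ideal.height_ne_top_of_isPrime
  obtain ⟨b₂, hb₂⟩ : ∃ a : ℕ, (a : ℕ∞) = (p₂.map (Ideal.Quotient.mk P₀)).height :=
    ENat.ne_top_iff_exists.mp Ideal.height_ne_top_of_isPrime
  obtain ⟨b₁, hb₁⟩ : ∃ a : ℕ, (a : ℕ∞) = (p₁.map (Ideal.Quotient.mk P₀)).height :=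
    ENat.ne_top_iff_exists.mp Ideal.height_ne_top_of_isPrime
  obtain ⟨c, hc⟩ : ∃ a : ℕ, (a : ℕ∞) = (p₂.map (Ideal.Quotient.mk p₁)).height :=
    ENat.ne_top_iff_exists.mp Ideal.height_ne_top_of_isPrime
  rw [← ha₂, ← hb₂] at e1
  rw [← ha₁, ← hb₁] at e2
  rw [← hc] at e3
  rw [← hb₂, ← hb₁, ← hc] at e4
  rw [← ha₂, ← ha₁]
  have e1' : a₂ + t₂ = b₂ + t₀ := by exact_mod_cast e1
  have e2' : a₁ + t₁ = b₁ + t₀ := by exact_mod_cast e2
  have e3' : 1 + t₂ = c + t₁ := by exact_mod_cast e3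
  have e4' : b₂ = b₁ + c := by exact_mod_cast e4
  have : a₂ = a₁ + 1 := by omega
  exact_mod_cast this

theorem isUniversallyCatenary_of_hdf (A : Type u) [CommRing A] [IsNoetherianRing A]
    (hcat : CAlg.IsCatenary A) (hdf : HDF A) : CAlg.IsUniversallyCatenary A := by
  refine ⟨inferInstance, fun B _ _ hB => ?_⟩
  haveI := hB
  haveI : IsNoetherianRing B := Algebra.FiniteType.isNoetherianRing A B
  apply isCatenary_of_cover
  intro Q₀ Q hQ
  haveI : Algebra.FiniteType A (B ⧸ Q₀.asIdeal) :=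
    Algebra.FiniteType.of_surjective (Ideal.Quotient.mkₐ A Q₀.asIdeal)
      (Ideal.Quotient.mkₐ_surjective A Q₀.asIdeal)
  refine ⟨B ⧸ Q₀.asIdeal, inferInstance,
    embOfIsEmbedding (Ideal.Quotient.mk Q₀.asIdeal)
      (PrimeSpectrum.isClosedEmbedding_comap_of_surjective _ _
        Ideal.Quotient.mk_surjective).isEmbedding,
    ordConnected_range_surjective _ Ideal.Quotient.mk_surjective, ?_, ?_, ?_⟩
  · exact Groth.Agent.Lib.Helper28.isCatenary_of_height_step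
      (fun hcov => height_step_of_hdf A hcat hdf (B ⧸ Q₀.asIdeal) hcov)
  · exact (mem_range_surjective_iff _ Ideal.Quotient.mk_surjective _).mpr
      (by rw [Ideal.mk_ker])
  · exact (mem_range_surjective_iff _ Ideal.Quotient.mk_surjective _).mpr
      (by rw [Ideal.mk_ker]; exact hQ)

end Groth.Agent.Lib.Helper4.DimFormula
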