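import Mathlib
import Groth.Agent.Lib.Helper14FibRhoD
import Groth.Agent.Lib.Helper4DimFormulaV
import Groth.Agent.S9126
import Groth.Agent.S0603

/-!
# Rectified depth of fibre modules, part E: generic constancy, flat case (helper14)

For a domain `A` of finite type over `ℤ`, `B` of finite type over `A`, `M` a finite `B`-module flat
over `A` and a prime `q₁` of `B` over the generic point of `A`: the rectified depth of the fibres of
`M` is constant on a neighbourhood of `q₁` in `V(q₁)`.
-/

set_option autoImplicit false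
set_option linter.unusedVariables false
set_option linter.unusedSectionVars false
set_option linter.style.haveILetI false
set_option maxHeartbeats 400000

universe u

open TensorProduct

namespace Groth.Agent.Lib.Helper14.FibRhoE

open Groth.Agent.Lib.Helper14.FibModA Groth.Agent.Lib.Helper14.FibModB
  Groth.Agent.Lib.Helper14.FibModC Groth.Agent.Lib.Helper14.FibRhoA
  Groth.Agent.Lib.Helper14.FibRhoB Groth.Agent.Lib.Helper14.FibRhoC
  Groth.Agent.Lib.Helper14.FibRhoD
open Groth.Agent.Lib.Helper28 Groth.Agent.Lib.Helper5.GenDepth Groth.Agent.Lib.Helper5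
  Groth.Agent.Lib.Helper5.CodepthOpen Groth.Agent.Lib.Helper5.FibCodepthConstr

attribute [local instance] Algebra.TensorProduct.rightAlgebra

section UC

/-- a ring of finite type over `ℤ` is universally catenary. -/
theorem uc_of_finiteType_int (A : Type u) [CommRing A] [Algebra ℤ A]
    (hA : Algebra.FiniteType ℤ A) : CAlg.IsUniversallyCatenary A := by
  obtain ⟨n, φ, hφ⟩ := Algebra.FiniteType.iff_quotient_mvPolynomial''.mp hA
  haveI : IsRegularRing (ULift.{u} (MvPolynomial (Fin n) ℤ)) :=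
    IsRegularRing.of_ringEquiv (ULift.ringEquiv (R := MvPolynomial (Fin n) ℤ)).symm
  letI : Algebra (ULift.{u} (MvPolynomial (Fin n) ℤ)) A :=
    (φ.toRingHom.comp (ULift.ringEquiv (R := MvPolynomial (Fin n) ℤ)).toRingHom).toAlgebra
  have hs : Function.Surjective (algebraMap (ULift.{u} (MvPolynomial (Fin n) ℤ)) A) :=
    hφ.comp (ULift.ringEquiv (R := MvPolynomial (Fin n) ℤ)).surjective
  haveI := isCohenMacaulayRing_of_isRegularRing (ULift.{u} (MvPolynomial (Fin n) ℤ))
  have hUC := Groth.Agent.S0603.result (ULift.{u} (MvPolynomial (Fin n) ℤ))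
  haveI : Algebra.FiniteType (ULift.{u} (MvPolynomial (Fin n) ℤ)) A :=
    Algebra.FiniteType.of_surjective (Algebra.ofId _ A) hs
  exact Groth.Agent.S9126.result _ A hUC

end UC

section Heights

variable {B : Type u} [CommRing B] [IsNoetherianRing B]

/-- where `B/q₁` is Cohen–Macaulay at `q`, its depth at `q` is the height of `q/q₁`. -/
theorem dep_quotient_eq_height (q₁ q : Ideal B) [q₁.IsPrime] [q.IsPrime] (hle : q₁ ≤ q)
    (h : dm q (B ⧸ q₁) = ((dep q (B ⧸ q₁) : ℕ∞) : WithBot ℕ∞)) :
    dep q (B ⧸ q₁) = (q.map (Ideal.Quotient.mk q₁)).height := by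
  haveI hq' : (q.map (Ideal.Quotient.mk q₁)).IsPrime :=
    Ideal.isPrime_map_quotientMk_of_isPrime hle
  have hc : (q.map (Ideal.Quotient.mk q₁)).comap (algebraMap B (B ⧸ q₁)) = q :=
    by
    change (q.map (Ideal.Quotient.mk q₁)).comap (Ideal.Quotient.mk q₁) = q
    rw [Ideal.comap_map_of_surjective _ Ideal.Quotient.mk_surjective, ← RingHom.ker_eq_comap_bot,
      Ideal.mk_ker, sup_eq_left.mpr hle]
  obtain ⟨t1, t2⟩ := transfer_quot q₁ (q.map (Ideal.Quotient.mk q₁))
  obtain ⟨c1, c2⟩ := dep_dm_congr_ideal hc (B ⧸ q₁)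
  obtain ⟨s1, s2⟩ := dep_dm_self (q.map (Ideal.Quotient.mk q₁))
  rw [← c2, t2, s2, Module.supportDim_self_eq_ringKrullDim,
    IsLocalization.AtPrime.ringKrullDim_eq_height (q.map (Ideal.Quotient.mk q₁))
      (Localization.AtPrime (q.map (Ideal.Quotient.mk q₁)))] at h
  exact (WithBot.coe_injective h).symm

theorem dep_self_eq_height_of_cm [IsDomain B] (p : Ideal B) [p.IsPrime]
    (h : haveI : (⊥ : Ideal B).IsPrime := Ideal.isPrime_bot
      dm p (B ⧸ (⊥ : Ideal B)) = ((dep p (B ⧸ (⊥ : Ideal B)) : ℕ∞) : WithBot ℕ∞)) :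
    dep p B = p.height := by
  haveI : (⊥ : Ideal B).IsPrime := Ideal.isPrime_bot
  have h1 := dep_quotient_eq_height ⊥ p bot_le h
  rw [Groth.Agent.Lib.Helper4.DimFormula.height_map_mk_bot] at h1
  obtain ⟨c1, c2⟩ := dep_dm_congr p (Submodule.quotEquivOfEqBot (⊥ : Submodule B B) rfl)
  rw [← h1]
  exact c1.symm

end Heights

section GenericFlat

theorem height_map_mk_of_eq_bot {A : Type u} [CommRing A] (p I : Ideal A) (hI : I = ⊥) :
    (p.map (Ideal.Quotient.mk I)).height = p.height := by
  subst hI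
  exact Groth.Agent.Lib.Helper4.DimFormula.height_map_mk_bot p

theorem enat_arith {h ε ε₁ k n n₁ : ℕ∞} (hh : h ≠ ⊤) (E1 : h + ε = ε₁ + k)
    (E2 : k + n = h + n₁) : ε + n = ε₁ + n₁ := by
  have h3 : h + (ε + n) = h + (ε₁ + n₁) := by
    calc h + (ε + n) = (h + ε) + n := (add_assoc _ _ _).symm
      _ = (ε₁ + k) + n := by rw [E1]
      _ = ε₁ + (k + n) := add_assoc _ _ _
      _ = ε₁ + (h + n₁) := by rw [E2]
      _ = h + (ε₁ + n₁) := by ring
  exact ENat.add_right_injective_of_ne_top hh h3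

variable {A B : Type u} [CommRing A] [IsDomain A] [CommRing B] [Algebra A B]
  [Algebra.FiniteType A B]
  (M : Type u) [AddCommGroup M] [Module B M] [Module.Finite B M]
  [Module A M] [IsScalarTower A B M] [Module.Flat A M]

/-- the rectified depth of the fibre is `⊤` outside the support. -/
theorem rho_eq_top_of_notMem_support [IsNoetherianRing B] (q : Ideal B) [hq : q.IsPrime]
    (h : (⟨q, hq⟩ : PrimeSpectrum B) ∉ Module.support B M) :
    Rho A M q = ((⊤ : ℕ∞) : WithBot ℕ∞) := by
  haveI : Subsingleton (LocalizedModule q.primeCompl M) := Module.notMem_support_iff.mp h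
  haveI : Subsingleton (EGA4.FibLocMod A B q M) := by
    unfold EGA4.FibLocMod
    infer_instance
  rw [rho_eq, depth_eq_top_of_subsingleton]
  exact coe_top_add (ringKrullDim_quotient_ne_bot _)

/-- **Generic constancy of the rectified depth of the fibres**, flat case over a domain. -/
theorem rho_const_flat (hA : Algebra.FiniteType ℤ A) (q₁ : Ideal B) [hq₁p : q₁.IsPrime]
    (hq₁ : q₁.under A = ⊥) :
    ∃ g : B, g ∉ q₁ ∧ ∀ (q : Ideal B) [q.IsPrime], q₁ ≤ q → g ∉ q → Rho A M q = Rho A M q₁ := by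
  haveI : IsNoetherianRing A := Algebra.FiniteType.isNoetherianRing ℤ A
  haveI : IsNoetherianRing B := Algebra.FiniteType.isNoetherianRing A B
  have hcmuA : CMU A := cmu_of_finiteType_int A hA
  have hB : Algebra.FiniteType ℤ B := Algebra.FiniteType.trans hA inferInstance
  have hcmuB : CMU B := cmu_of_finiteType_int B hB
  have hUC : CAlg.IsUniversallyCatenary A := uc_of_finiteType_int A hA
  by_cases hsupp : (⟨q₁, hq₁p⟩ : PrimeSpectrum B) ∈ Module.support B M
  · obtain ⟨g₁, hg₁, hP⟩ := P_all q₁ M hsupp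
    obtain ⟨g₂, hg₂, hCMB⟩ := hcmuB q₁
    haveI hbotp : (⊥ : Ideal A).IsPrime := Ideal.isPrime_bot
    obtain ⟨f, hf, hCMA⟩ := hcmuA (⊥ : Ideal A)
    have hfq₁ : algebraMap A B f ∉ q₁ := fun h => hf (hq₁ ▸ (show f ∈ q₁.under A from h))
    refine ⟨g₁ * g₂ * algebraMap A B f, ?_, ?_⟩
    · intro h
      rcases hq₁p.mem_or_mem h with h | h
      · rcases hq₁p.mem_or_mem h with h | h
        · exact hg₁ h
        · exact hg₂ h
      · exact hfq₁ h
    intro q hqp hle hg
    have hg₁q : g₁ ∉ q := fun h => hg (Ideal.mul_mem_right _ _ (Ideal.mul_mem_right _ _ h))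
    have hg₂q : g₂ ∉ q := fun h => hg (Ideal.mul_mem_right _ _ (Ideal.mul_mem_left _ _ h))
    have hfq : f ∉ q.under A := fun h => hg (Ideal.mul_mem_left _ _ h)
    -- (i), (ii)
    obtain ⟨hP1, -⟩ := hP q hle hg₁q
    have hii := dep_quotient_eq_height q₁ q hle (hCMB q hle hg₂q)
    -- (iii)
    have hflat := dep_eq_add_of_flat (A := A) (B := B) M q
    have hflat₁ := dep_eq_add_of_flat (A := A) (B := B) M q₁
    -- (iv)
    have hiv : dep (q.comap (algebraMap A B)) A = (q.comap (algebraMap A B)).height :=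
      dep_self_eq_height_of_cm (q.comap (algebraMap A B))
        (hCMA (q.comap (algebraMap A B)) bot_le hfq)
    have hiv₁ : dep (q₁.comap (algebraMap A B)) A = 0 := by
      have hfq₁' : f ∉ q₁.comap (algebraMap A B) := fun h => hfq₁ h
      rw [dep_self_eq_height_of_cm (q₁.comap (algebraMap A B))
        (hCMA (q₁.comap (algebraMap A B)) bot_le hfq₁')]
      have : (q₁.comap (algebraMap A B)).height = (⊥ : Ideal A).height := by
        rw [← Ideal.under_def, hq₁]
      rw [this, Ideal.height_bot]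
    -- (v)
    obtain ⟨n, hn⟩ := exists_trdeg_eq (A := A) (B := B) q
    obtain ⟨n₁, hn₁⟩ := exists_trdeg_eq (A := A) (B := B) q₁
    have hUCp : CAlg.IsUniversallyCatenary (Localization.AtPrime (q.under A)) :=
      Groth.Agent.S9126.result A _ hUC
    have hdf := Groth.Agent.Lib.Helper4.DimFormula.height_map_add_eq A B (q.under A) q q₁ hle hUCp
      n n₁ hn hn₁
    rw [height_map_mk_of_eq_bot (q.under A) (q₁.under A) hq₁] at hdf
    -- assemble
    rw [Ideal.under_def] at hdf
    rw [hiv] at hflat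
    rw [hiv₁, zero_add] at hflat₁
    have E1 : (q.comap (algebraMap A B)).height + LocCoh.depth (Localization.AtPrime q) (EGA4.FibLocMod A B q M) =
        LocCoh.depth (Localization.AtPrime q₁) (EGA4.FibLocMod A B q₁ M) +
          (q.map (Ideal.Quotient.mk q₁)).height := by
      rw [← hflat, hP1, hflat₁, hii]
    have hfin : (q.comap (algebraMap A B)).height ≠ ⊤ := Ideal.height_ne_top_of_isPrime
    have key := enat_arith hfin E1 hdf
    rw [rho_eq, rho_eq, ringKrullDim_quotient_Qcan q n hn, ringKrullDim_quotient_Qcan q₁ n₁ hn₁]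
    have c1 : ((n : ℕ) : WithBot ℕ∞) = (((n : ℕ) : ℕ∞) : WithBot ℕ∞) := rfl
    have c2 : ((n₁ : ℕ) : WithBot ℕ∞) = (((n₁ : ℕ) : ℕ∞) : WithBot ℕ∞) := rfl
    rw [c1, c2, ← WithBot.coe_add, ← WithBot.coe_add, key]
  · -- outside the support
    have hclosed : IsClosed (Module.support B M) := by
      rw [Module.support_eq_zeroLocus]
      exact PrimeSpectrum.isClosed_zeroLocus _
    rw [Module.support_eq_zeroLocus, PrimeSpectrum.mem_zeroLocus, Set.not_subset] at hsupp
    obtain ⟨g, hgann, hgq₁⟩ := hsupp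
    refine ⟨g, hgq₁, fun q hqp hle hgq => ?_⟩
    have h1 : (⟨q, hqp⟩ : PrimeSpectrum B) ∉ Module.support B M := by
      rw [Module.support_eq_zeroLocus, PrimeSpectrum.mem_zeroLocus, Set.not_subset]
      exact ⟨g, hgann, hgq⟩
    have h2 : (⟨q₁, hq₁p⟩ : PrimeSpectrum B) ∉ Module.support B M := by
      rw [Module.support_eq_zeroLocus, PrimeSpectrum.mem_zeroLocus, Set.not_subset]
      exact ⟨g, hgann, hgq₁⟩
    rw [rho_eq_top_of_notMem_support M q h1, rho_eq_top_of_notMem_support M q₁ h2]

end GenericFlat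

end Groth.Agent.Lib.Helper14.FibRhoE
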