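import Mathlib
import Groth.Agent.Lib.Helper14FibRhoE
import Groth.Agent.Lib.Helper2GenFree

/-!
# Rectified depth of fibre modules, part F: generic constancy, general case (helper14)

For `A` of finite type over `ℤ`, `B` of finite type over `A`, `M` a finite `B`-module and a prime
`q₁` of `B`: the rectified depth of the fibres of `M` is constant on a neighbourhood of `q₁` in
`V(q₁)`.  We reduce to the flat case over a domain by base change to `(A/p₁)_f` (generic freeness).
-/

set_option autoImplicit false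
set_option linter.unusedVariables false
set_option linter.unusedSectionVars false
set_option linter.style.haveILetI false
set_option maxHeartbeats 400000

universe u

open TensorProduct

namespace Groth.Agent.Lib.Helper14.FibRhoF

open Groth.Agent.Lib.Helper14.FibModA Groth.Agent.Lib.Helper14.FibModB
  Groth.Agent.Lib.Helper14.FibModC Groth.Agent.Lib.Helper14.FibRhoA
  Groth.Agent.Lib.Helper14.FibRhoB Groth.Agent.Lib.Helper14.FibRhoC
  Groth.Agent.Lib.Helper14.FibRhoD Groth.Agent.Lib.Helper14.FibRhoE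
open Groth.Agent.Lib.Helper28 Groth.Agent.Lib.Helper5.GenDepth Groth.Agent.Lib.Helper5

attribute [local instance] Algebra.TensorProduct.rightAlgebra

section BaseChangeStep

variable {A B : Type u} [CommRing A] [CommRing B] [Algebra A B]
  (p₁ : Ideal A) (ft : A)
  (D : Type u) [CommRing D] [Algebra (A ⧸ p₁) D] [IsLocalization.Away (Ideal.Quotient.mk p₁ ft) D]
  [Algebra A D] [IsScalarTower A (A ⧸ p₁) D]

include p₁ in
/-- `B → D ⊗ B` is surjective up to powers of `ft`. -/
theorem exists_pow_mul_eq (x : D ⊗[A] B) :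
    ∃ (k : ℕ) (b : B), (algebraMap A (D ⊗[A] B) ft) ^ k * x = algebraMap B (D ⊗[A] B) b := by
  induction x using TensorProduct.induction_on with
  | zero => exact ⟨0, 0, by simp⟩
  | tmul d b =>
    obtain ⟨k, a₁, h⟩ := IsLocalization.Away.surj (Ideal.Quotient.mk p₁ ft) d
    obtain ⟨a, rfl⟩ := Ideal.Quotient.mk_surjective a₁
    have h1 : algebraMap (A ⧸ p₁) D (Ideal.Quotient.mk p₁ ft) = algebraMap A D ft := by
      rw [IsScalarTower.algebraMap_apply A (A ⧸ p₁) D]
      rfl
    have h2 : algebraMap (A ⧸ p₁) D (Ideal.Quotient.mk p₁ a) = algebraMap A D a := by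
      rw [IsScalarTower.algebraMap_apply A (A ⧸ p₁) D]
      rfl
    rw [h1, h2] at h
    refine ⟨k, a • b, ?_⟩
    rw [Algebra.TensorProduct.algebraMap_apply, Algebra.TensorProduct.tmul_pow, one_pow,
      Algebra.TensorProduct.tmul_mul_tmul, one_mul, mul_comm, h, Algebra.algebraMap_eq_smul_one,
      TensorProduct.smul_tmul]
    rfl
  | add x y hx hy =>
    obtain ⟨k, b, hb⟩ := hx
    obtain ⟨l, c, hc⟩ := hy
    refine ⟨k + l, (algebraMap A B ft) ^ l * b + (algebraMap A B ft) ^ k * c, ?_⟩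
    have hu : algebraMap A (D ⊗[A] B) ft = algebraMap B (D ⊗[A] B) (algebraMap A B ft) :=
      IsScalarTower.algebraMap_apply A B (D ⊗[A] B) ft
    rw [map_add, map_mul, map_mul, map_pow, map_pow, ← hu, ← hb, ← hc]
    ring

variable (q : Ideal B) [q.IsPrime]

/-- the map `D → κ(q)` for a prime `q` of `B` over `V(p₁) ∩ D(ft)`. -/
noncomputable def toKappa (hp : p₁ ≤ q.under A) (hf : algebraMap A B ft ∉ q) :
    D →ₐ[A] q.ResidueField :=
  have h0 : ∀ a ∈ p₁, algebraMap A q.ResidueField a = 0 := fun a ha => by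
    rw [IsScalarTower.algebraMap_apply A B q.ResidueField, Ideal.algebraMap_residueField_eq_zero]
    exact hp ha
  have hu : IsUnit ((Ideal.Quotient.lift p₁ (algebraMap A q.ResidueField) h0)
      (Ideal.Quotient.mk p₁ ft)) := by
    rw [Ideal.Quotient.lift_mk]
    apply IsUnit.mk0
    rw [IsScalarTower.algebraMap_apply A B q.ResidueField, Ne,
      Ideal.algebraMap_residueField_eq_zero]
    exact hf
  { (IsLocalization.Away.lift (Ideal.Quotient.mk p₁ ft) hu) with
    commutes' := fun a => by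
      change IsLocalization.Away.lift (Ideal.Quotient.mk p₁ ft) hu (algebraMap A D a) = _
      rw [IsScalarTower.algebraMap_apply A (A ⧸ p₁) D, IsLocalization.Away.lift_eq]
      rfl }

/-- the map `D ⊗ B → κ(q)`. -/
noncomputable def chi (hp : p₁ ≤ q.under A) (hf : algebraMap A B ft ∉ q) :
    D ⊗[A] B →ₐ[A] q.ResidueField :=
  Algebra.TensorProduct.lift (toKappa p₁ ft D q hp hf)
    (IsScalarTower.toAlgHom A B q.ResidueField) (fun _ _ => Commute.all _ _)

theorem chi_algebraMap (hp : p₁ ≤ q.under A) (hf : algebraMap A B ft ∉ q) (b : B) :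
    chi p₁ ft D q hp hf (algebraMap B (D ⊗[A] B) b) = algebraMap B q.ResidueField b := by
  change chi p₁ ft D q hp hf ((1 : D) ⊗ₜ[A] b) = _
  unfold chi
  rw [Algebra.TensorProduct.lift_tmul, map_one, one_mul]
  rfl

/-- the prime of `D ⊗ B` over `q`. -/
noncomputable def primeOver (hp : p₁ ≤ q.under A) (hf : algebraMap A B ft ∉ q) :
    Ideal (D ⊗[A] B) :=
  RingHom.ker (chi p₁ ft D q hp hf).toRingHom

theorem primeOver_isPrime (hp : p₁ ≤ q.under A) (hf : algebraMap A B ft ∉ q) :
    (primeOver p₁ ft D q hp hf).IsPrime :=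
  RingHom.ker_isPrime _

theorem mem_primeOver (hp : p₁ ≤ q.under A) (hf : algebraMap A B ft ∉ q) (x : D ⊗[A] B) :
    x ∈ primeOver p₁ ft D q hp hf ↔ chi p₁ ft D q hp hf x = 0 := Iff.rfl

theorem algebraMap_mem_primeOver (hp : p₁ ≤ q.under A) (hf : algebraMap A B ft ∉ q) (b : B) :
    algebraMap B (D ⊗[A] B) b ∈ primeOver p₁ ft D q hp hf ↔ b ∈ q := by
  rw [mem_primeOver, chi_algebraMap, Ideal.algebraMap_residueField_eq_zero]

theorem primeOver_comap (hp : p₁ ≤ q.under A) (hf : algebraMap A B ft ∉ q) :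
    (primeOver p₁ ft D q hp hf).comap (algebraMap B (D ⊗[A] B)) = q := by
  ext b
  rw [Ideal.mem_comap, algebraMap_mem_primeOver]

theorem algebraMap_ft_notMem_primeOver (hp : p₁ ≤ q.under A) (hf : algebraMap A B ft ∉ q) :
    algebraMap A (D ⊗[A] B) ft ∉ primeOver p₁ ft D q hp hf := by
  rw [IsScalarTower.algebraMap_apply A B (D ⊗[A] B), algebraMap_mem_primeOver]
  exact hf

include p₁ in
theorem primeOver_mono (q₁ : Ideal B) [q₁.IsPrime] (hp₁ : p₁ ≤ q₁.under A)
    (hf₁ : algebraMap A B ft ∉ q₁) (hp : p₁ ≤ q.under A) (hf : algebraMap A B ft ∉ q)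
    (hle : q₁ ≤ q) : primeOver p₁ ft D q₁ hp₁ hf₁ ≤ primeOver p₁ ft D q hp hf := by
  intro x hx
  haveI := primeOver_isPrime p₁ ft D q₁ hp₁ hf₁
  haveI := primeOver_isPrime p₁ ft D q hp hf
  obtain ⟨k, b, hb⟩ := exists_pow_mul_eq p₁ ft D x
  have h1 : algebraMap B (D ⊗[A] B) b ∈ primeOver p₁ ft D q₁ hp₁ hf₁ := by
    rw [← hb]
    exact Ideal.mul_mem_left _ _ hx
  rw [algebraMap_mem_primeOver] at h1
  have h2 : algebraMap B (D ⊗[A] B) b ∈ primeOver p₁ ft D q hp hf := by
    rw [algebraMap_mem_primeOver]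
    exact hle h1
  rw [← hb] at h2
  rcases (primeOver_isPrime p₁ ft D q hp hf).mem_or_mem h2 with h | h
  · exact absurd ((primeOver_isPrime p₁ ft D q hp hf).mem_of_pow_mem k h)
      (algebraMap_ft_notMem_primeOver p₁ ft D q hp hf)
  · exact h

include p₁ in
theorem primeOver_under (hq : q.under A = p₁) (hf : algebraMap A B ft ∉ q) :
    (primeOver p₁ ft D q (le_of_eq hq.symm) hf).under D = ⊥ := by
  rw [eq_bot_iff]
  intro d hd
  rw [Ideal.under_def, Ideal.mem_comap, mem_primeOver] at hd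
  have h1 : chi p₁ ft D q (le_of_eq hq.symm) hf (algebraMap D (D ⊗[A] B) d) =
      toKappa p₁ ft D q (le_of_eq hq.symm) hf d := by
    rw [Algebra.TensorProduct.algebraMap_apply]
    unfold chi
    rw [Algebra.TensorProduct.lift_tmul, map_one, mul_one]
    rfl
  obtain ⟨k, a₁, h⟩ := IsLocalization.Away.surj (Ideal.Quotient.mk p₁ ft) d
  obtain ⟨a, rfl⟩ := Ideal.Quotient.mk_surjective a₁
  have h2 := congrArg (toKappa p₁ ft D q (le_of_eq hq.symm) hf) h
  rw [map_mul, ← h1, hd, zero_mul] at h2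
  have h3 : toKappa p₁ ft D q (le_of_eq hq.symm) hf
      (algebraMap (A ⧸ p₁) D (Ideal.Quotient.mk p₁ a)) = algebraMap A q.ResidueField a := by
    have := (toKappa p₁ ft D q (le_of_eq hq.symm) hf).commutes a
    rwa [IsScalarTower.algebraMap_apply A (A ⧸ p₁) D] at this
  rw [h3, IsScalarTower.algebraMap_apply A B q.ResidueField] at h2
  have h4 : a ∈ p₁ := by
    rw [← hq]
    have h4' : algebraMap A B a ∈ q := Ideal.algebraMap_residueField_eq_zero.mp h2.symm
    exact h4'
  have h5 : Ideal.Quotient.mk p₁ a = 0 := Ideal.Quotient.eq_zero_iff_mem.mpr h4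
  rw [h5, map_zero] at h
  have hu : IsUnit (algebraMap (A ⧸ p₁) D (Ideal.Quotient.mk p₁ ft)) :=
    IsLocalization.Away.algebraMap_isUnit _
  exact (hu.pow k).mul_left_eq_zero.mp h

end BaseChangeStep

section General

variable {A B : Type u} [CommRing A] [CommRing B] [Algebra A B] [Algebra.FiniteType A B]
  (M : Type u) [AddCommGroup M] [Module B M] [Module.Finite B M]
  [Module A M] [IsScalarTower A B M]

/-- the base change step. -/
theorem rho_const_aux (q₁ : Ideal B) [hq₁p : q₁.IsPrime] (ft : A) (hft : algebraMap A B ft ∉ q₁)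
    (D : Type u) [CommRing D] [IsDomain D] [Algebra (A ⧸ q₁.under A) D]
    [IsLocalization.Away (Ideal.Quotient.mk (q₁.under A) ft) D]
    [Algebra A D] [IsScalarTower A (A ⧸ q₁.under A) D] (hD : Algebra.FiniteType ℤ D)
    [Module.Flat D ((D ⊗[A] B) ⊗[B] M)] :
    ∃ g : B, g ∉ q₁ ∧ ∀ (q : Ideal B) [q.IsPrime], q₁ ≤ q → g ∉ q → Rho A M q = Rho A M q₁ := by
  haveI hft' : Algebra.FiniteType D (D ⊗[A] B) := finiteType_of_isPushout A D B (D ⊗[A] B)
  have hg := TensorProduct.isBaseChange B M (D ⊗[A] B)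
  haveI hprime₁ := primeOver_isPrime (q₁.under A) ft D q₁ le_rfl hft
  have hunder := primeOver_under (q₁.under A) ft D q₁ rfl hft
  obtain ⟨g'', hg''₁, hconst⟩ := rho_const_flat (A := D) (B := D ⊗[A] B) ((D ⊗[A] B) ⊗[B] M) hD
    (primeOver (q₁.under A) ft D q₁ le_rfl hft) hunder
  obtain ⟨k, b, hb⟩ := exists_pow_mul_eq (q₁.under A) ft D g''
  have hbq₁ : b ∉ q₁ := by
    intro h
    have h1 : algebraMap B (D ⊗[A] B) b ∈ primeOver (q₁.under A) ft D q₁ le_rfl hft :=
      (algebraMap_mem_primeOver (q₁.under A) ft D q₁ le_rfl hft b).mpr h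
    rw [← hb] at h1
    rcases hprime₁.mem_or_mem h1 with h2 | h2
    · exact algebraMap_ft_notMem_primeOver (q₁.under A) ft D q₁ le_rfl hft
        (hprime₁.mem_of_pow_mem k h2)
    · exact hg''₁ h2
  refine ⟨b * algebraMap A B ft, ?_, ?_⟩
  · intro h
    rcases hq₁p.mem_or_mem h with h | h
    · exact hbq₁ h
    · exact hft h
  intro q hqp hle hgq
  have hbq : b ∉ q := fun h => hgq (Ideal.mul_mem_right _ _ h)
  have hfq : algebraMap A B ft ∉ q := fun h => hgq (Ideal.mul_mem_left _ _ h)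
  have hpq : q₁.under A ≤ q.under A := Ideal.comap_mono hle
  haveI hprime := primeOver_isPrime (q₁.under A) ft D q hpq hfq
  have hmono := primeOver_mono (q₁.under A) ft D q q₁ le_rfl hft hpq hfq hle
  have hg''q : g'' ∉ primeOver (q₁.under A) ft D q hpq hfq := by
    intro h
    have h1 : algebraMap B (D ⊗[A] B) b ∈ primeOver (q₁.under A) ft D q hpq hfq := by
      rw [← hb]
      exact Ideal.mul_mem_left _ _ h
    exact hbq ((algebraMap_mem_primeOver (q₁.under A) ft D q hpq hfq b).mp h1)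
  have key := hconst (primeOver (q₁.under A) ft D q hpq hfq) hmono hg''q
  have e := rho_baseChange (A := A) (A' := D) (B := B) (B' := D ⊗[A] B) M
    ((D ⊗[A] B) ⊗[B] M) _ hg (primeOver (q₁.under A) ft D q hpq hfq)
  have e₁ := rho_baseChange (A := A) (A' := D) (B := B) (B' := D ⊗[A] B) M
    ((D ⊗[A] B) ⊗[B] M) _ hg (primeOver (q₁.under A) ft D q₁ le_rfl hft)
  rw [rho_congr_ideal M (primeOver_comap (q₁.under A) ft D q hpq hfq)] at e
  rw [rho_congr_ideal M (primeOver_comap (q₁.under A) ft D q₁ le_rfl hft)] at e₁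
  rw [← e, ← e₁, key]

/-- **Generic constancy of the rectified depth of the fibres.** -/
theorem rho_const (hA : Algebra.FiniteType ℤ A) (q₁ : Ideal B) [hq₁p : q₁.IsPrime] :
    ∃ g : B, g ∉ q₁ ∧ ∀ (q : Ideal B) [q.IsPrime], q₁ ≤ q → g ∉ q → Rho A M q = Rho A M q₁ := by
  haveI hp₁p : (q₁.under A).IsPrime := inferInstance
  haveI : IsNoetherianRing A := Algebra.FiniteType.isNoetherianRing ℤ A
  haveI : IsNoetherianRing B := Algebra.FiniteType.isNoetherianRing A B
  haveI : IsDomain (A ⧸ q₁.under A) := Ideal.Quotient.isDomain _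
  have hA₁ : Algebra.FiniteType ℤ (A ⧸ q₁.under A) :=
    Algebra.FiniteType.of_surjective (Ideal.Quotient.mkₐ ℤ (q₁.under A))
      (Ideal.Quotient.mkₐ_surjective ℤ (q₁.under A))
  haveI : Algebra.FiniteType (A ⧸ q₁.under A) ((A ⧸ q₁.under A) ⊗[A] B) :=
    finiteType_of_isPushout A (A ⧸ q₁.under A) B ((A ⧸ q₁.under A) ⊗[A] B)
  -- generic freeness
  obtain ⟨f, hf0, -, hfree, -, -⟩ :=
    Groth.Agent.Lib.Helper2.GenFree.exists_freeAway (A ⧸ q₁.under A)
      ((A ⧸ q₁.under A) ⊗[A] B) (((A ⧸ q₁.under A) ⊗[A] B) ⊗[B] M)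
  obtain ⟨ft, rfl⟩ := Ideal.Quotient.mk_surjective f
  have hft : ft ∉ q₁.under A := fun h => hf0 (Ideal.Quotient.eq_zero_iff_mem.mpr h)
  have hftq₁ : algebraMap A B ft ∉ q₁ := hft
  haveI : IsDomain (Localization.Away (Ideal.Quotient.mk (q₁.under A) ft)) :=
    IsLocalization.isDomain_localization (powers_le_nonZeroDivisors_of_noZeroDivisors hf0)
  haveI hfp1 : Algebra.FinitePresentation (A ⧸ q₁.under A)
      (Localization.Away (Ideal.Quotient.mk (q₁.under A) ft)) :=
    IsLocalization.Away.finitePresentation (Ideal.Quotient.mk (q₁.under A) ft)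
  have hft1 : Algebra.FiniteType (A ⧸ q₁.under A)
      (Localization.Away (Ideal.Quotient.mk (q₁.under A) ft)) := inferInstance
  have hD0 : Algebra.FiniteType ℤ (Localization.Away (Ideal.Quotient.mk (q₁.under A) ft)) :=
    Algebra.FiniteType.trans hA₁ hft1
  have hD : @Algebra.FiniteType ℤ (Localization.Away (Ideal.Quotient.mk (q₁.under A) ft)) _ _
      (Ring.toIntAlgebra _) := by
    have e : Ring.toIntAlgebra (Localization.Away (Ideal.Quotient.mk (q₁.under A) ft)) =
        (inferInstance : Algebra ℤ (Localization.Away (Ideal.Quotient.mk (q₁.under A) ft))) :=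
      Subsingleton.elim _ _
    rw [e]
    exact hD0
  -- flatness
  haveI hfreeD : Module.Free (Localization.Away (Ideal.Quotient.mk (q₁.under A) ft))
      (Localization.Away (Ideal.Quotient.mk (q₁.under A) ft) ⊗[A ⧸ q₁.under A]
        (((A ⧸ q₁.under A) ⊗[A] B) ⊗[B] M)) :=
    hfree.free (Localization.Away (Ideal.Quotient.mk (q₁.under A) ft))
      (TensorProduct.mk (A ⧸ q₁.under A) (Localization.Away (Ideal.Quotient.mk (q₁.under A) ft))
        (((A ⧸ q₁.under A) ⊗[A] B) ⊗[B] M) 1)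
  haveI hflatD : Module.Flat (Localization.Away (Ideal.Quotient.mk (q₁.under A) ft))
      ((Localization.Away (Ideal.Quotient.mk (q₁.under A) ft) ⊗[A] B) ⊗[B] M) := by
    let e1 := Algebra.IsPushout.cancelBaseChange A
      (Localization.Away (Ideal.Quotient.mk (q₁.under A) ft)) B
      (Localization.Away (Ideal.Quotient.mk (q₁.under A) ft) ⊗[A] B) M
    let e2 := AlgebraTensorModule.cancelBaseChange A (A ⧸ q₁.under A)
      (Localization.Away (Ideal.Quotient.mk (q₁.under A) ft))
      (Localization.Away (Ideal.Quotient.mk (q₁.under A) ft)) M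
    let e3 := Algebra.IsPushout.cancelBaseChange A (A ⧸ q₁.under A) B
      ((A ⧸ q₁.under A) ⊗[A] B) M
    let e4 := AlgebraTensorModule.congr
      (LinearEquiv.refl (Localization.Away (Ideal.Quotient.mk (q₁.under A) ft))
        (Localization.Away (Ideal.Quotient.mk (q₁.under A) ft))) e3
    exact Module.Flat.of_linearEquiv (e1.trans (e2.symm.trans e4.symm))
  exact rho_const_aux M q₁ ft hftq₁ (Localization.Away (Ideal.Quotient.mk (q₁.under A) ft)) hD

end General

end Groth.Agent.Lib.Helper14.FibRhoF
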