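import Mathlib
import Groth.Agent.Lib.Helper3FlatModelMod
/-!
# Noetherian approximation of a finitely presented module over a finitely presented algebra
(no flatness) — helper3.  Variant of `Helper3FlatModelMod` without the flatness hypothesis.
-/
set_option autoImplicit false
set_option linter.style.haveILetI false

universe u

namespace Groth.Agent.Lib.Helper3.ModelMod

open TensorProduct MvPolynomial Groth.Agent.Lib.Helper3.FlatLoc Groth.Agent.Lib.Helper3.FlatDesc
  Groth.Agent.Lib.Helper3.FlatOpen Groth.Agent.Lib.Helper3.FlatModelMod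

section Assemble

attribute [local instance] MvPolynomial.algebraMvPolynomial

variable {Λ A R S : Type u} [CommRing Λ] [CommRing A] [CommRing R] [CommRing S]
  [Algebra Λ A] [Algebra Λ R] [Algebra A R] [IsScalarTower Λ A R] [Algebra R S] [Algebra A S]
  [IsScalarTower A R S]
  {n r : ℕ} (P : Algebra.Presentation R S (Fin n) (Fin r)) [P.HasCoeffs A]
  {ι κ : Type} [Fintype ι] [DecidableEq ι] [Fintype κ] (w : κ → ι → MvPolynomial (Fin n) Λ)
  (M : Type u) [AddCommGroup M] [Module S M] [Module R M] [IsScalarTower R S M]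

theorem exists_of_model'
    (htors : ∀ (j : Fin r) (x : ι → MvPolynomial (Fin n) A),
      P.relationOfHasCoeffs A j • x ∈ KT w (MvPolynomial (Fin n) A))
    (e : ((ι → MvPolynomial (Fin n) R) ⧸ KT w (MvPolynomial (Fin n) R)) ≃ₗ[R] M)
    (he : ∀ (p : MvPolynomial (Fin n) R) x, e (p • x) = (MvPolynomial.aeval P.val p : S) • e x) :
    ∃ (S₀ : Type u) (_ : CommRing S₀) (_ : Algebra A S₀) (_ : Algebra S₀ S)
      (_ : IsScalarTower A S₀ S) (M₀ : Type u) (_ : AddCommGroup M₀) (_ : Module S₀ M₀)
      (_ : Module A M₀) (_ : IsScalarTower A S₀ M₀) (_ : Module S₀ M) (_ : IsScalarTower S₀ S M)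
      (f : M₀ →ₗ[S₀] M),
      Algebra.FiniteType A S₀ ∧ Module.Finite S₀ M₀ ∧
        Algebra.IsPushout A R S₀ S ∧ IsBaseChange S f := by
  classical
  let PA := MvPolynomial (Fin n) A
  let PR := MvPolynomial (Fin n) R
  let I : Ideal PA := Ideal.span (Set.range (P.relationOfHasCoeffs A))
  let M₀ := (ι → PA) ⧸ KT w PA
  have hM : Module.IsTorsionBySet PA M₀ (I : Set PA) := by
    rw [← Module.isTorsionBySet_iff_is_torsion_by_span]
    rintro x ⟨_, ⟨j, rfl⟩⟩
    obtain ⟨x, rfl⟩ := Submodule.Quotient.mk_surjective _ x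
    change P.relationOfHasCoeffs A j • Submodule.Quotient.mk x = 0
    rw [← Submodule.Quotient.mk_smul, Submodule.Quotient.mk_eq_zero]
    exact htors j x
  letI modS₀M₀ : Module (P.ModelOfHasCoeffs A) M₀ := hM.module
  have hmk_smul : ∀ (p : PA) (x : M₀), (Ideal.Quotient.mk I p : P.ModelOfHasCoeffs A) • x = p • x :=
    fun p x => rfl
  haveI towPA : IsScalarTower PA (P.ModelOfHasCoeffs A) M₀ := hM.isScalarTower
  haveI towA : IsScalarTower A (P.ModelOfHasCoeffs A) M₀ := hM.isScalarTower
  -- the algebra structure `S₀ → S`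
  let ψ : PA →ₐ[A] S := MvPolynomial.aeval P.val
  have hkill : ∀ a ∈ I, ψ.toRingHom a = 0 := by
    intro a ha
    have hle : I ≤ RingHom.ker ψ.toRingHom := by
      rw [Ideal.span_le]
      rintro _ ⟨j, rfl⟩
      exact P.aeval_val_relationOfHasCoeffs A j
    exact hle ha
  letI algS₀S : Algebra (P.ModelOfHasCoeffs A) S := (Ideal.Quotient.lift I ψ.toRingHom hkill).toAlgebra
  have hcompat : ∀ y : PA, algebraMap (P.ModelOfHasCoeffs A) S (Ideal.Quotient.mk _ y) =
      MvPolynomial.aeval P.val y := fun y => rfl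
  haveI towS : IsScalarTower A (P.ModelOfHasCoeffs A) S := by
    refine ⟨fun a s₀ s => ?_⟩
    obtain ⟨p, rfl⟩ := Ideal.Quotient.mk_surjective s₀
    change algebraMap (P.ModelOfHasCoeffs A) S (Ideal.Quotient.mk I (a • p)) * s =
      a • (algebraMap (P.ModelOfHasCoeffs A) S (Ideal.Quotient.mk I p) * s)
    rw [hcompat, hcompat, map_smul, smul_mul_assoc]
  haveI hpush : Algebra.IsPushout A R (P.ModelOfHasCoeffs A) S :=
    isPushout_modelOfHasCoeffs P A hcompat
  -- module structures on `M`
  letI modS₀M : Module (P.ModelOfHasCoeffs A) M :=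
    Module.compHom M (algebraMap (P.ModelOfHasCoeffs A) S)
  haveI towS₀SM : IsScalarTower (P.ModelOfHasCoeffs A) S M := ⟨fun s₀ s m => by
    change (algebraMap (P.ModelOfHasCoeffs A) S s₀ * s) • m =
      algebraMap (P.ModelOfHasCoeffs A) S s₀ • (s • m)
    rw [mul_smul]⟩
  letI modAM : Module A M := Module.compHom M (algebraMap A R)
  haveI towARM : IsScalarTower A R M := ⟨fun a r m => by
    change (a • r) • m = algebraMap A R a • (r • m)
    rw [Algebra.smul_def, mul_smul]⟩
  haveI towAS₀M : IsScalarTower A (P.ModelOfHasCoeffs A) M := ⟨fun a s₀ m => by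
    obtain ⟨p, rfl⟩ := Ideal.Quotient.mk_surjective s₀
    change algebraMap (P.ModelOfHasCoeffs A) S (Ideal.Quotient.mk I (a • p)) • m =
      algebraMap A R a • (algebraMap (P.ModelOfHasCoeffs A) S (Ideal.Quotient.mk I p) • m)
    rw [hcompat, hcompat, map_smul, Algebra.smul_def, mul_smul,
      IsScalarTower.algebraMap_apply A R S, algebraMap_smul]⟩
  -- the comparison map
  haveI := isScalarTower_mvPolynomial (σ := Fin n) Λ A R
  have hb : IsBaseChange R ((Mmap w PA PR).restrictScalars A) :=
    isBaseChange_restrictScalars_of_isPushout _ (isBaseChange_Mmap w _ _)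
  let f₀ : M₀ →ₗ[A] M := (e.restrictScalars A).toLinearMap ∘ₗ (Mmap w PA PR).restrictScalars A
  have hf₀ : ∀ (p : PA) (x : M₀), f₀ (p • x) = (MvPolynomial.aeval P.val p : S) • f₀ x := by
    intro p x
    change e (Mmap w PA PR (p • x)) = _ • e (Mmap w PA PR x)
    rw [map_smul, ← algebraMap_smul PR p (Mmap w PA PR x), he, MvPolynomial.algebraMap_def,
      MvPolynomial.aeval_map_algebraMap]
  let f : M₀ →ₗ[P.ModelOfHasCoeffs A] M :=
    { toFun := f₀
      map_add' := f₀.map_add
      map_smul' := by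
        intro s₀ x
        obtain ⟨p, rfl⟩ := Ideal.Quotient.mk_surjective s₀
        rw [hmk_smul, hf₀]
        rfl }
  have hfb : IsBaseChange R (f.restrictScalars A) := by
    refine IsBaseChange.of_equiv (hb.equiv ≪≫ₗ e) fun x => ?_
    rw [LinearEquiv.trans_apply, IsBaseChange.equiv_tmul, one_smul]
    rfl
  have hbc : IsBaseChange S f := isBaseChange_of_isPushout f hfb
  haveI : Module.Finite PA M₀ := inferInstance
  haveI : Module.Finite (P.ModelOfHasCoeffs A) M₀ :=
    Module.Finite.of_restrictScalars_finite PA (P.ModelOfHasCoeffs A) M₀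
  exact ⟨P.ModelOfHasCoeffs A, inferInstance, inferInstance, algS₀S, towS, M₀, inferInstance,
    modS₀M₀, inferInstance, towA, modS₀M, towS₀SM, f, inferInstance, inferInstance, hpush, hbc⟩

end Assemble

section Main

attribute [local instance] MvPolynomial.algebraMvPolynomial

/-- **Noetherian approximation of a finitely presented module over a finitely presented
algebra**, for a given presentation. -/
theorem exists_module_model_aux (R : Type u) [CommRing R]
    (S : Type u) [CommRing S] [Algebra R S] {n r : ℕ} (P : Algebra.Presentation R S (Fin n) (Fin r))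
    (M : Type u) [AddCommGroup M] [Module S M] [Module R M] [IsScalarTower R S M]
    [Module.FinitePresentation S M] :
    ∃ (R₀ : Type u) (_ : CommRing R₀) (_ : Algebra R₀ R) (S₀ : Type u) (_ : CommRing S₀)
      (_ : Algebra R₀ S₀) (_ : Algebra S₀ S) (_ : Algebra R₀ S) (_ : IsScalarTower R₀ R S)
      (_ : IsScalarTower R₀ S₀ S) (M₀ : Type u) (_ : AddCommGroup M₀) (_ : Module S₀ M₀)
      (_ : Module R₀ M₀) (_ : IsScalarTower R₀ S₀ M₀) (_ : Module S₀ M) (_ : IsScalarTower S₀ S M)
      (f : M₀ →ₗ[S₀] M),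
      Algebra.FiniteType ℤ R₀ ∧ Algebra.FiniteType R₀ S₀ ∧ Module.Finite S₀ M₀ ∧
        Algebra.IsPushout R₀ R S₀ S ∧ IsBaseChange S f := by
  classical
  let φ : MvPolynomial (Fin n) R →ₐ[R] S := MvPolynomial.aeval P.val
  have hφsurj : Function.Surjective φ := P.aeval_val_surjective
  have hφker : RingHom.ker φ.toRingHom = Ideal.span (Set.range P.relation) := by
    rw [P.span_range_relation_eq_ker]
    ext x
    rw [RingHom.mem_ker]
    change _ ↔ algebraMap P.Ring S x = 0
    rw [Algebra.Generators.algebraMap_apply]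
    rfl
  letI algPS : Algebra (MvPolynomial (Fin n) R) S := φ.toRingHom.toAlgebra
  haveI : IsScalarTower R (MvPolynomial (Fin n) R) S :=
    .of_algebraMap_eq' φ.comp_algebraMap.symm
  letI modPM : Module (MvPolynomial (Fin n) R) M := Module.compHom M φ.toRingHom
  haveI : IsScalarTower (MvPolynomial (Fin n) R) S M :=
    ⟨fun p s m => by
      change (φ p * s) • m = φ p • (s • m)
      rw [mul_smul]⟩
  haveI : IsScalarTower R (MvPolynomial (Fin n) R) M :=
    ⟨fun r p m => by
      change φ (r • p) • m = r • (φ p • m)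
      rw [map_smul, smul_assoc]⟩
  haveI : Module.FinitePresentation (MvPolynomial (Fin n) R) S := by
    refine Module.finitePresentation_of_surjective
      (Algebra.linearMap (MvPolynomial (Fin n) R) S) hφsurj ?_
    have : LinearMap.ker (Algebra.linearMap (MvPolynomial (Fin n) R) S) =
        (RingHom.ker φ.toRingHom).restrictScalars _ := by
      ext x; rfl
    rw [this, hφker]
    exact ⟨Finset.univ.image P.relation, by simp⟩
  haveI : Module.FinitePresentation (MvPolynomial (Fin n) R) M :=
    Module.FinitePresentation.trans (MvPolynomial (Fin n) R) M S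
  obtain ⟨k, m, Λ, hΛ, w, relΛ, hrelΛ, ⟨e⟩⟩ := exists_model_equiv' (M := M) P.relation
  haveI : Algebra.FiniteType ℤ Λ := (Subalgebra.fg_iff_finiteType Λ).1 hΛ
  haveI : IsNoetherianRing Λ := Algebra.FiniteType.isNoetherianRing ℤ Λ
  -- the relations act by zero on the model over `R`
  have hzero : ∀ (j : Fin r) (x : Fin k → MvPolynomial (Fin n) R),
      algebraMap (MvPolynomial (Fin n) Λ) (MvPolynomial (Fin n) R) (relΛ j) • x ∈
        KT w (MvPolynomial (Fin n) R) := by
    intro j x
    rw [← Submodule.Quotient.mk_eq_zero, Submodule.Quotient.mk_smul]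
    apply e.injective
    rw [map_smul, map_zero, MvPolynomial.algebraMap_def]
    change φ (MvPolynomial.map (algebraMap Λ R) (relΛ j)) • e (Submodule.Quotient.mk x) = (0 : M)
    rw [hrelΛ]
    have : φ (P.relation j) = 0 := P.aeval_val_relation j
    rw [this, zero_smul]
  have hKT : KT (wAug w relΛ) (MvPolynomial (Fin n) R) = KT w (MvPolynomial (Fin n) R) :=
    KT_wAug_eq w relΛ _ hzero
  let e₂ : ((Fin k → MvPolynomial (Fin n) R) ⧸ KT (wAug w relΛ) (MvPolynomial (Fin n) R)) ≃ₗ[
      MvPolynomial (Fin n) R] M := (Submodule.quotEquivOfEq _ _ hKT) ≪≫ₗ e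
  obtain ⟨A, hAfg⟩ : ∃ A : Subalgebra Λ R, A.FG := ⟨⊥, Subalgebra.fg_bot⟩
  haveI hcΛ : P.HasCoeffs Λ := by
    refine ⟨?_⟩
    intro c hc
    rw [Algebra.Presentation.coeffs, Set.mem_iUnion] at hc
    obtain ⟨j, hj⟩ := hc
    have hmem : P.relation j ∈ Set.range (MvPolynomial.map (algebraMap Λ R)) := ⟨relΛ j, hrelΛ j⟩
    rw [MvPolynomial.mem_range_map_iff_coeffs_subset] at hmem
    exact hmem hj
  haveI hcA : P.HasCoeffs A := Algebra.Presentation.HasCoeffs.of_isScalarTower Λ
  haveI : Algebra.FiniteType Λ A := (Subalgebra.fg_iff_finiteType A).mp hAfg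
  have hrelA : ∀ j, MvPolynomial.map (algebraMap Λ A) (relΛ j) = P.relationOfHasCoeffs A j := by
    intro j
    apply MvPolynomial.map_injective (algebraMap A R) Subtype.val_injective
    rw [MvPolynomial.map_map, P.map_relationOfHasCoeffs A j]
    exact hrelΛ j
  have htors : ∀ (j : Fin r) (x : Fin k → MvPolynomial (Fin n) A),
      P.relationOfHasCoeffs A j • x ∈ KT (wAug w relΛ) (MvPolynomial (Fin n) A) := by
    intro j x
    rw [← hrelA j]
    exact smul_mem_KT_wAug w relΛ (MvPolynomial (Fin n) A) j x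
  obtain ⟨S₀, i1, i2, i3, i4, M₀, i5, i6, i7, i8, i9, i10, f, h1, h2, h4, h5⟩ :=
    exists_of_model' P (wAug w relΛ) M htors (e₂.restrictScalars R)
      (fun p x => e₂.map_smul p x)
  exact ⟨A, inferInstance, inferInstance, S₀, i1, i2, i3, inferInstance, inferInstance, i4, M₀, i5,
    i6, i7, i8, i9, i10, f, Algebra.FiniteType.trans (S := Λ) inferInstance inferInstance, h1, h2,
    h4, h5⟩

/-- **Noetherian approximation of a finitely presented module over a finitely presented
algebra.** -/
theorem exists_module_model (R : Type u) [CommRing R]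
    (S : Type u) [CommRing S] [Algebra R S] [Algebra.FinitePresentation R S]
    (M : Type u) [AddCommGroup M] [Module S M] [Module R M] [IsScalarTower R S M]
    [Module.FinitePresentation S M] :
    ∃ (R₀ : Type u) (_ : CommRing R₀) (_ : Algebra R₀ R) (S₀ : Type u) (_ : CommRing S₀)
      (_ : Algebra R₀ S₀) (_ : Algebra S₀ S) (_ : Algebra R₀ S) (_ : IsScalarTower R₀ R S)
      (_ : IsScalarTower R₀ S₀ S) (M₀ : Type u) (_ : AddCommGroup M₀) (_ : Module S₀ M₀)
      (_ : Module R₀ M₀) (_ : IsScalarTower R₀ S₀ M₀) (_ : Module S₀ M) (_ : IsScalarTower S₀ S M)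
      (f : M₀ →ₗ[S₀] M),
      Algebra.FiniteType ℤ R₀ ∧ Algebra.FiniteType R₀ S₀ ∧ Module.Finite S₀ M₀ ∧
        Algebra.IsPushout R₀ R S₀ S ∧ IsBaseChange S f :=
  exists_module_model_aux R S (Algebra.Presentation.ofFinitePresentation R S) M

end Main

end Groth.Agent.Lib.Helper3.ModelMod
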