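import Mathlib
import Groth.Agent.Lib.Helper14FibRhoF
import Groth.Agent.Lib.Helper3FlatModelMod
import Groth.Agent.Lib.Helper3ModelMod

/-!
# Rectified depth of fibre modules, part G: constructibility and openness (helper14)

* `isConstructible_RL`: for `B` a finitely presented `A`-algebra and `M` a finitely presented
  `B`-module, every locus defined by a condition on the rectified depth of the fibres of `M` is
  constructible in `Spec B`.
* `isOpen_RL_le`: when moreover `M` is flat over `A`, the locus where the rectified depth of the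
  fibres is at least `n` is open.
-/

set_option autoImplicit false
set_option linter.unusedVariables false
set_option linter.unusedSectionVars false
set_option linter.style.haveILetI false
set_option maxHeartbeats 400000

universe u

open TensorProduct Topology

namespace Groth.Agent.Lib.Helper14.FibRhoG

open Groth.Agent.Lib.Helper14.FibModA Groth.Agent.Lib.Helper14.FibModB
  Groth.Agent.Lib.Helper14.FibModC Groth.Agent.Lib.Helper14.FibRhoA
  Groth.Agent.Lib.Helper14.FibRhoB Groth.Agent.Lib.Helper14.FibRhoC
  Groth.Agent.Lib.Helper14.FibRhoD Groth.Agent.Lib.Helper14.FibRhoE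
  Groth.Agent.Lib.Helper14.FibRhoF
open Groth.Agent.Lib.Helper5.LocusGeneric

/-- the locus of primes `q` at which the rectified depth of the fibre of `M` satisfies `P`. -/
def RL (P : WithBot ℕ∞ → Prop) (A : Type u) {B : Type u} [CommRing A] [CommRing B] [Algebra A B]
    (M : Type u) [AddCommGroup M] [Module B M] : Set (PrimeSpectrum B) :=
  {q | P (Rho A M q.asIdeal)}

theorem RL_baseChange (P : WithBot ℕ∞ → Prop) {A B A' B' : Type u} [CommRing A] [CommRing B]
    [Algebra A B] [CommRing A'] [CommRing B'] [Algebra A A']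
    [Algebra A' B'] [Algebra B B'] [Algebra A B'] [IsScalarTower A A' B'] [IsScalarTower A B B']
    [Algebra.IsPushout A A' B B'] [Algebra.FiniteType A B]
    (M : Type u) [AddCommGroup M] [Module B M] [Module.Finite B M]
    (M' : Type u) [AddCommGroup M'] [Module B' M'] [Module B M'] [IsScalarTower B B' M']
    (g : M →ₗ[B] M') (hg : IsBaseChange B' g) :
    RL P A' M' = PrimeSpectrum.comap (algebraMap B B') ⁻¹' RL P A M := by
  ext q'
  change P (Rho A' M' q'.asIdeal) ↔ P (Rho A M (q'.asIdeal.comap (algebraMap B B')))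
  rw [rho_baseChange (A := A) (A' := A') (B := B) (B' := B') M M' g hg q'.asIdeal]

section Int

variable {A B : Type u} [CommRing A] [CommRing B] [Algebra A B] [Algebra.FiniteType A B]
  (M : Type u) [AddCommGroup M] [Module B M] [Module.Finite B M]
  [Module A M] [IsScalarTower A B M]

theorem isConstructible_RL_int (hA : Algebra.FiniteType ℤ A) (P : WithBot ℕ∞ → Prop) :
    IsConstructible (RL (B := B) P A M) := by
  haveI : IsNoetherianRing A := Algebra.FiniteType.isNoetherianRing ℤ A
  haveI : IsNoetherianRing B := Algebra.FiniteType.isNoetherianRing A B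
  refine isConstructible_of_forall_irreducible (id : PrimeSpectrum B → PrimeSpectrum B)
    (RL (B := B) P A M) ?_
  intro Z hZc hZi
  have hprime : (PrimeSpectrum.vanishingIdeal Z).IsPrime :=
    (PrimeSpectrum.isIrreducible_iff_vanishingIdeal_isPrime).mp hZi
  have hZ : Z = PrimeSpectrum.zeroLocus (PrimeSpectrum.vanishingIdeal Z : Set B) := by
    rw [PrimeSpectrum.zeroLocus_vanishingIdeal_eq_closure, hZc.closure_eq]
  set q₁ := PrimeSpectrum.vanishingIdeal Z with hq₁
  obtain ⟨g, hg, hconst⟩ := rho_const (A := A) (B := B) M hA q₁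
  refine ⟨PrimeSpectrum.basicOpen g, (PrimeSpectrum.basicOpen g).isOpen,
    ⟨⟨q₁, hprime⟩, ?_, hg⟩, ?_⟩
  · rw [hZ]
    exact fun x hx => hx
  have hZU : IsConstructible (Z ∩ (PrimeSpectrum.basicOpen g : Set (PrimeSpectrum B))) := by
    refine (?_ : IsConstructible Z).inter ?_
    · rw [← isConstructible_compl]
      exact hZc.isOpen_compl.isConstructible_of_noetherianSpace
    · exact (PrimeSpectrum.basicOpen g).isOpen.isConstructible_of_noetherianSpace
  have hval : ∀ q : PrimeSpectrum B, q ∈ Z ∩ (PrimeSpectrum.basicOpen g : Set (PrimeSpectrum B)) →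
      Rho A M q.asIdeal = Rho A M q₁ := by
    rintro q ⟨hqZ, hqg⟩
    haveI := q.2
    have hle : q₁ ≤ q.asIdeal := by
      rw [hZ] at hqZ
      exact hqZ
    exact hconst q.asIdeal hle hqg
  by_cases hP : P (Rho A M q₁)
  · have heq : RL (B := B) P A M ∩ id ⁻¹' (Z ∩ (PrimeSpectrum.basicOpen g : Set (PrimeSpectrum B))) =
        Z ∩ (PrimeSpectrum.basicOpen g : Set (PrimeSpectrum B)) := by
      ext q
      simp only [Set.mem_inter_iff, Set.preimage_id]
      constructor
      · rintro ⟨-, h⟩
        exact h
      · intro h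
        refine ⟨?_, h⟩
        change P (Rho A M q.asIdeal)
        rw [hval q h]
        exact hP
    rw [heq]
    exact hZU
  · have heq : RL (B := B) P A M ∩ id ⁻¹' (Z ∩ (PrimeSpectrum.basicOpen g : Set (PrimeSpectrum B))) =
        ∅ := by
      ext q
      simp only [Set.mem_inter_iff, Set.preimage_id, Set.mem_empty_iff_false, iff_false]
      rintro ⟨h1, h⟩
      apply hP
      rw [← hval q h]
      exact h1
    rw [heq]
    exact IsConstructible.empty

variable [Module.Flat A M]

/-- **Openness of the locus where the rectified depth of the fibres is at least `n`**, base of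
finite type over `ℤ`. -/
theorem isOpen_RL_le_int (hA : Algebra.FiniteType ℤ A) (n : WithBot ℕ∞) :
    IsOpen (RL (B := B) (fun r => n ≤ r) A M) := by
  haveI : IsNoetherianRing A := Algebra.FiniteType.isNoetherianRing ℤ A
  haveI : IsNoetherianRing B := Algebra.FiniteType.isNoetherianRing A B
  refine PrimeSpectrum.isOpen_of_stableUnderGeneralization_of_isConstructible ?_
    (isConstructible_RL_int (A := A) (B := B) M hA _)
  intro x x' hsp hx
  haveI := x.2
  haveI := x'.2
  have hle := rho_generization (A := A) (B := B) M x.asIdeal x'.asIdeal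
    ((PrimeSpectrum.le_iff_specializes x' x).mpr hsp)
  exact le_trans hx hle

end Int

section General

variable {A B : Type u} [CommRing A] [CommRing B] [Algebra A B]
  [Algebra.FinitePresentation A B]
  (M : Type u) [AddCommGroup M] [Module B M] [Module A M] [IsScalarTower A B M]
  [Module.FinitePresentation B M]

theorem isOpen_RL_le [Module.Flat A M] (n : WithBot ℕ∞) :
    IsOpen (RL (B := B) (fun r => n ≤ r) A M) := by
  obtain ⟨R₀, i1, i2, S₀, i3, i4, i5, i6, i7, i8, M₀, i9, i10, i11, i12, i13, i14, f, hR₀, hS₀,
    hM₀fin, hM₀flat, hpush, hbc⟩ :=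
    Groth.Agent.Lib.Helper3.FlatModelMod.exists_flat_module_model A B M
  rw [RL_baseChange _ (A := R₀) (A' := A) (B := S₀) (B' := B) M₀ M f hbc]
  exact (isOpen_RL_le_int (A := R₀) (B := S₀) M₀ hR₀ n).preimage (PrimeSpectrum.continuous_comap _)

/-- the model statement for constructibility: the locus is the preimage of a constructible locus
over a base of finite type over `ℤ`. -/
theorem exists_model_RL (P : WithBot ℕ∞ → Prop) :
    ∃ (S₀ : Type u) (_ : CommRing S₀) (φ : S₀ →+* B) (E : Set (PrimeSpectrum S₀)),
      IsConstructible E ∧ RL (B := B) P A M = PrimeSpectrum.comap φ ⁻¹' E := by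
  obtain ⟨R₀, i1, i2, S₀, i3, i4, i5, i6, i7, i8, M₀, i9, i10, i11, i12, i13, i14, f, hR₀, hS₀,
    hM₀fin, hpush, hbc⟩ :=
    Groth.Agent.Lib.Helper3.ModelMod.exists_module_model A B M
  refine ⟨S₀, i3, algebraMap S₀ B, RL (B := S₀) P R₀ M₀,
    isConstructible_RL_int (A := R₀) (B := S₀) M₀ hR₀ P, ?_⟩
  exact RL_baseChange P (A := R₀) (A' := A) (B := S₀) (B' := B) M₀ M f hbc

end General

end Groth.Agent.Lib.Helper14.FibRhoG
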