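import Mathlib
import Groth.Agent.Lib.Helper4TensorDim

set_option autoImplicit false
universe u
open TensorProduct

namespace Groth.Agent.Lib.Helper6.EquiDim

section General

/-- base change of an injective linear map with flat source along an extension of domains is
injective -/
theorem lTensor_injective_of_domain {A B : Type*} [CommRing A] [IsDomain A] [CommRing B]
    [IsDomain B] [Algebra A B] (hAB : Function.Injective (algebraMap A B))
    {M N : Type*} [AddCommGroup M] [Module A M] [AddCommGroup N] [Module A N] [Module.Flat A M]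
    (φ : M →ₗ[A] N) (hφ : Function.Injective φ) : Function.Injective (φ.lTensor B) := by
  let E := FractionRing B
  have hAE : Function.Injective (algebraMap A E) := by
    rw [IsScalarTower.algebraMap_eq A B E]
    exact (IsFractionRing.injective B E).comp hAB
  haveI : FaithfulSMul A E := (faithfulSMul_iff_algebraMap_injective A E).mpr hAE
  haveI : Module.Flat A E := by
    letI : Algebra (FractionRing A) E := FractionRing.liftAlgebra A E
    haveI : IsScalarTower A (FractionRing A) E := FractionRing.isScalarTower_liftAlgebra A E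
    exact Module.Flat.trans A (FractionRing A) E
  let ι : B →ₗ[A] E := (IsScalarTower.toAlgHom A B E).toLinearMap
  have hι : Function.Injective ι := IsFractionRing.injective B E
  have h1 : Function.Injective (ι.rTensor M) :=
    Module.Flat.rTensor_preserves_injective_linearMap ι hι
  have h2 : Function.Injective (φ.lTensor E) :=
    Module.Flat.lTensor_preserves_injective_linearMap φ hφ
  have hc : ∀ u, (φ.lTensor E) (ι.rTensor M u) = (ι.rTensor N) (φ.lTensor B u) := by
    intro u
    rw [← LinearMap.comp_apply, ← LinearMap.comp_apply, LinearMap.lTensor_comp_rTensor,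
      LinearMap.rTensor_comp_lTensor]
  intro x y hxy
  apply h1
  apply h2
  rw [hc, hc, hxy]

end General

section Field

variable (k : Type u) [Field k] (B : Type u) [CommRing B] [IsDomain B] [Algebra k B]
  (K : Type u) [Field K] [Algebra k K]

/-- `P ⊗ K` is a domain for a polynomial ring `P` -/
theorem isDomain_mvPolynomial_tensor (s : ℕ) : IsDomain (MvPolynomial (Fin s) k ⊗[k] K) := by
  let e : MvPolynomial (Fin s) k ⊗[k] K ≃+* MvPolynomial (Fin s) K :=
    ((Algebra.TensorProduct.comm k (MvPolynomial (Fin s) k) K).toRingEquiv).trans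
      (MvPolynomial.algebraTensorAlgEquiv k K).toRingEquiv
  exact e.toMulEquiv.isDomain _

theorem ringKrullDim_mvPolynomial_tensor (s : ℕ) :
    ringKrullDim (MvPolynomial (Fin s) k ⊗[k] K) = (s : WithBot ℕ∞) := by
  let e : MvPolynomial (Fin s) k ⊗[k] K ≃+* MvPolynomial (Fin s) K :=
    ((Algebra.TensorProduct.comm k (MvPolynomial (Fin s) k) K).toRingEquiv).trans
      (MvPolynomial.algebraTensorAlgEquiv k K).toRingEquiv
  rw [ringKrullDim_eq_of_ringEquiv e, MvPolynomial.ringKrullDim_of_isNoetherianRing,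
    ringKrullDim_eq_zero_of_field]
  simp

variable {k B K}

/-- nonzero elements of `P ⊗ K` are nonzerodivisors on `B ⊗ K`, for a polynomial ring `P`
embedded in the domain `B` -/
theorem map_mem_nonZeroDivisors (s : ℕ) (g : MvPolynomial (Fin s) k →ₐ[k] B)
    (hinj : Function.Injective g) (F : MvPolynomial (Fin s) k ⊗[k] K) (hF : F ≠ 0) :
    Algebra.TensorProduct.map g (AlgHom.id k K) F ∈ nonZeroDivisors (B ⊗[k] K) := by
  letI algg : Algebra (MvPolynomial (Fin s) k) B := g.toRingHom.toAlgebra
  haveI : IsScalarTower k (MvPolynomial (Fin s) k) B :=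
    IsScalarTower.of_algebraMap_eq fun c => (g.commutes c).symm
  haveI := isDomain_mvPolynomial_tensor k K s
  let μ : MvPolynomial (Fin s) k ⊗[k] K →ₗ[MvPolynomial (Fin s) k] MvPolynomial (Fin s) k ⊗[k] K :=
    LinearMap.mulLeft (MvPolynomial (Fin s) k) F
  have hμ : Function.Injective μ := fun a b hab => mul_left_cancel₀ hF hab
  have hL := lTensor_injective_of_domain (A := MvPolynomial (Fin s) k) (B := B) hinj μ hμ
  let e := Algebra.TensorProduct.cancelBaseChange k (MvPolynomial (Fin s) k)
    (MvPolynomial (Fin s) k) B K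
  -- `e (1 ⊗ F') = G F'`
  have he : ∀ F' : MvPolynomial (Fin s) k ⊗[k] K, e ((1 : B) ⊗ₜ[MvPolynomial (Fin s) k] F') =
      Algebra.TensorProduct.map g (AlgHom.id k K) F' := by
    intro F'
    induction F' using TensorProduct.induction_on with
    | zero => simp
    | tmul p c =>
      rw [Algebra.TensorProduct.cancelBaseChange_tmul, Algebra.TensorProduct.map_tmul]
      congr 1
      rw [Algebra.smul_def, mul_one]
      rfl
    | add x y hx hy => rw [TensorProduct.tmul_add, map_add, map_add, hx, hy]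
  -- `lTensor μ` is multiplication by `1 ⊗ F`
  have hmul : μ.lTensor B =
      LinearMap.mulLeft (MvPolynomial (Fin s) k) ((1 : B) ⊗ₜ[MvPolynomial (Fin s) k] F) := by
    apply TensorProduct.ext'
    intro b m
    change b ⊗ₜ[MvPolynomial (Fin s) k] (F * m) =
      ((1 : B) ⊗ₜ[MvPolynomial (Fin s) k] F) * (b ⊗ₜ[MvPolynomial (Fin s) k] m)
    rw [Algebra.TensorProduct.tmul_mul_tmul, one_mul]
  rw [mem_nonZeroDivisors_iff_right]
  intro r hr
  obtain ⟨x, rfl⟩ := e.surjective r
  have h0 : μ.lTensor B x = 0 := by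
    apply e.injective
    rw [hmul, LinearMap.mulLeft_apply, map_mul, he, mul_comm, hr, map_zero]
  have : x = 0 := hL (by rw [h0, map_zero])
  rw [this, map_zero]

variable (k B K)

/-- equidimensionality of `B ⊗ K`: for a finite type `k`-domain `B` and a minimal prime `Q` of
`B ⊗_k K`, `dim (B ⊗ K)/Q = dim B` -/
theorem ringKrullDim_quotient_minimalPrime [Algebra.FiniteType k B] (Q : Ideal (B ⊗[k] K))
    (hQ : Q ∈ minimalPrimes (B ⊗[k] K)) :
    ringKrullDim ((B ⊗[k] K) ⧸ Q) = ringKrullDim B := by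
  obtain ⟨s, g, hinj, hint⟩ := exists_integral_inj_algHom_of_fg k B
  rw [Groth.Agent.Lib.Helper4.TensorDim.ringKrullDim_eq_of_integral_injective k B s g hinj hint]
  let P := MvPolynomial (Fin s) k
  let G : P ⊗[k] K →ₐ[k] B ⊗[k] K := Algebra.TensorProduct.map g (AlgHom.id k K)
  haveI hQp : Q.IsPrime := hQ.1.1
  letI algG : Algebra (P ⊗[k] K) (B ⊗[k] K) := G.toRingHom.toAlgebra
  letI algg : Algebra P B := g.toRingHom.toAlgebra
  have hhinj : Function.Injective (algebraMap (P ⊗[k] K) ((B ⊗[k] K) ⧸ Q)) := by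
    rw [injective_iff_map_eq_zero]
    intro F hF
    by_contra hne
    have h1 := map_mem_nonZeroDivisors s g hinj F hne
    have h2 : G F ∈ Q := Ideal.Quotient.eq_zero_iff_mem.mp hF
    exact (Ideal.disjoint_nonZeroDivisors_of_mem_minimalPrimes hQ).le_bot ⟨h2, h1⟩
  have hGint : Algebra.IsIntegral (P ⊗[k] K) (B ⊗[k] K) := by
    constructor
    intro z
    induction z using TensorProduct.induction_on with
    | zero => exact isIntegral_zero
    | tmul x y =>
      have h1 : IsIntegral (P ⊗[k] K) ((x ⊗ₜ[k] (1 : K)) : B ⊗[k] K) := by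
        have hx : IsIntegral P x := hint x
        have := IsIntegral.map_of_comp_eq (R := P) (S := B) (T := P ⊗[k] K) (U := B ⊗[k] K)
          (Algebra.TensorProduct.includeLeftRingHom (R := k) (A := P) (B := K))
          (Algebra.TensorProduct.includeLeftRingHom (R := k) (A := B) (B := K))
          (RingHom.ext fun p => by
            change G (p ⊗ₜ[k] 1) = (g p) ⊗ₜ[k] 1
            simp [G]) hx
        exact this
      have h2 : IsIntegral (P ⊗[k] K) (((1 : B) ⊗ₜ[k] y) : B ⊗[k] K) := by
        have : ((1 : B) ⊗ₜ[k] y : B ⊗[k] K) =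
            algebraMap (P ⊗[k] K) (B ⊗[k] K) ((1 : P) ⊗ₜ[k] y) := by
          change _ = G ((1 : P) ⊗ₜ[k] y)
          simp [G]
        rw [this]
        exact isIntegral_algebraMap
      have h3 : (x ⊗ₜ[k] y : B ⊗[k] K) = (x ⊗ₜ[k] (1 : K)) * ((1 : B) ⊗ₜ[k] y) := by
        rw [Algebra.TensorProduct.tmul_mul_tmul, mul_one, one_mul]
      rw [h3]
      exact h1.mul h2
    | add x y hx hy => exact hx.add hy
  haveI : Algebra.IsIntegral (P ⊗[k] K) ((B ⊗[k] K) ⧸ Q) :=
    Algebra.IsIntegral.trans (B ⊗[k] K)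
  rw [Groth.Agent.Lib.Helper5.ringKrullDim_eq_of_isIntegral_of_injective (P ⊗[k] K)
    ((B ⊗[k] K) ⧸ Q) hhinj, ringKrullDim_mvPolynomial_tensor]

/-- a prime `Q` of `R ⊗ K` which is minimal among the primes over the prime `z` of the finite
type `k`-algebra `R`: `dim (R ⊗ K)/Q = dim R/z` -/
theorem ringKrullDim_quotient_of_minimal_over (R : Type u) [CommRing R] [Algebra k R]
    [Algebra.FiniteType k R] (z : Ideal R) [z.IsPrime] (Q : Ideal (R ⊗[k] K)) [Q.IsPrime]
    (hQz : Q.comap (Algebra.TensorProduct.includeLeftRingHom) = z)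
    (hmin : ∀ Q' : Ideal (R ⊗[k] K), Q'.IsPrime → Q' ≤ Q →
      Q'.comap (Algebra.TensorProduct.includeLeftRingHom) = z → Q' = Q) :
    ringKrullDim ((R ⊗[k] K) ⧸ Q) = ringKrullDim (R ⧸ z) := by
  let ψ : R ⊗[k] K →ₐ[k] (R ⧸ z) ⊗[k] K :=
    Algebra.TensorProduct.map (Ideal.Quotient.mkₐ k z) (AlgHom.id k K)
  have hmk : Function.Surjective (Ideal.Quotient.mkₐ k z) := Ideal.Quotient.mkₐ_surjective k z
  have hψ : Function.Surjective ψ :=
    Algebra.TensorProduct.map_surjective _ _ hmk Function.surjective_id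
  have hker : RingHom.ker ψ =
      z.map (Algebra.TensorProduct.includeLeft : R →ₐ[k] R ⊗[k] K) := by
    have := Algebra.TensorProduct.rTensor_ker (R := k) (S := k) (C := K)
      (Ideal.Quotient.mkₐ k z) hmk
    have hk : RingHom.ker (Ideal.Quotient.mkₐ k z) = z := by
      ext a
      rw [RingHom.mem_ker, Ideal.Quotient.mkₐ_eq_mk, Ideal.Quotient.eq_zero_iff_mem]
    rw [hk] at this
    exact this
  have hzle : ∀ P : Ideal (R ⊗[k] K),
      z ≤ P.comap (Algebra.TensorProduct.includeLeftRingHom) → RingHom.ker ψ ≤ P := by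
    intro P hP
    rw [hker]
    exact Ideal.map_le_iff_le_comap.mpr hP
  have hkerQ : RingHom.ker ψ ≤ Q := hzle Q hQz.ge
  let Qb : Ideal ((R ⧸ z) ⊗[k] K) := Q.map ψ
  haveI hQbp : Qb.IsPrime := Ideal.map_isPrime_of_surjective hψ hkerQ
  have hcomap : Qb.comap ψ = Q := by
    rw [Ideal.comap_map_of_surjective' ψ hψ]
    exact sup_eq_left.mpr hkerQ
  -- `Qb` is a minimal prime
  have hQbmin : Qb ∈ minimalPrimes ((R ⧸ z) ⊗[k] K) := by
    refine ⟨⟨hQbp, bot_le⟩, ?_⟩
    rintro Pb ⟨hPbp, -⟩ hle
    haveI := hPbp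
    let P : Ideal (R ⊗[k] K) := Pb.comap ψ
    haveI : P.IsPrime := Ideal.comap_isPrime _ _
    have hPQ : P ≤ Q := hcomap ▸ Ideal.comap_mono hle
    have hPz : P.comap (Algebra.TensorProduct.includeLeftRingHom) = z := by
      apply le_antisymm
      · rw [← hQz]
        exact Ideal.comap_mono hPQ
      · intro a ha
        change ψ (a ⊗ₜ[k] (1 : K)) ∈ Pb
        have : ψ (a ⊗ₜ[k] (1 : K)) = 0 := by
          change (Ideal.Quotient.mkₐ k z a) ⊗ₜ[k] (1 : K) = 0
          rw [Ideal.Quotient.mkₐ_eq_mk, Ideal.Quotient.eq_zero_iff_mem.mpr ha,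
            TensorProduct.zero_tmul]
        rw [this]
        exact Pb.zero_mem
    have hPeq : P = Q := hmin P inferInstance hPQ hPz
    have : Pb = Qb := by
      rw [← Ideal.map_comap_of_surjective ψ hψ Pb]
      change P.map ψ = Q.map ψ
      rw [hPeq]
    exact this.ge
  rw [← ringKrullDim_quotient_minimalPrime k (R ⧸ z) K Qb hQbmin]
  let θ : (R ⊗[k] K) ⧸ Q →+* ((R ⧸ z) ⊗[k] K) ⧸ Qb :=
    Ideal.quotientMap Qb ψ.toRingHom hcomap.ge
  have hθinj : Function.Injective θ := Ideal.quotientMap_injective' hcomap.le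
  have hθsurj : Function.Surjective θ := Ideal.quotientMap_surjective hψ
  exact ringKrullDim_eq_of_ringEquiv (RingEquiv.ofBijective θ ⟨hθinj, hθsurj⟩)

end Field

end Groth.Agent.Lib.Helper6.EquiDim
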