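import Mathlib
import Groth.Prelude.Def_Curv2
import Groth.Agent.Lib.Helper6SepCl
import Groth.Agent.Lib.Helper6BcBridge
import Groth.Agent.Lib.Helper14GeomIrr

set_option autoImplicit false
universe u
open CategoryTheory CategoryTheory.Limits AlgebraicGeometry TensorProduct

namespace Groth.Agent.Lib.Helper6.SepCl

open Groth.Agent.Lib.Helper6.BcBridge

/-- a space covered by preirreducible opens any two of which meet is preirreducible -/
theorem preirreducibleSpace_of_cover {T : Type*} [TopologicalSpace T]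
    (h : ∀ x y : T, ∃ W1 W2 : Set T, IsOpen W1 ∧ IsOpen W2 ∧ IsPreirreducible W1 ∧
      IsPreirreducible W2 ∧ x ∈ W1 ∧ y ∈ W2 ∧ (W1 ∩ W2).Nonempty) :
    PreirreducibleSpace T := by
  refine ⟨fun u v hu hv hxu hyv => ?_⟩
  obtain ⟨x, -, hxu⟩ := hxu
  obtain ⟨y, -, hyv⟩ := hyv
  obtain ⟨W1, W2, hW1, hW2, hp1, hp2, hx, hy, hne⟩ := h x y
  obtain ⟨a, ha1, hau, ha2⟩ := hp1 u W2 hu hW2 ⟨x, hx, hxu⟩ hne
  obtain ⟨b, hb2, ⟨hbu, hb1⟩, hbv⟩ :=
    hp2 (u ∩ W1) v (hu.inter hW1) hv ⟨a, ha2, hau, ha1⟩ ⟨y, hy, hyv⟩
  exact ⟨b, trivial, hbu, hbv⟩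

section Scheme

variable (k : Type u) [Field k] (X : Scheme.{u}) [X.Over (Spec (CommRingCat.of k))]

theorem bcFst_surjective (K : Type u) [Field K] [Algebra k K] :
    Function.Surjective (Curv2.bcFst k X K) := by
  haveI : Surjective (Spec.map (CommRingCat.ofHom (algebraMap k K))) := by
    rw [surjective_iff]
    intro y
    exact ⟨IsLocalRing.closedPoint K, Subsingleton.elim _ _⟩
  exact (Curv2.bcFst k X K).surjective

/-- the chart of `X_K` over an affine chart of `X` is irreducible as soon as `X_K` is -/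
theorem isPrime_nilradical_of_irreducibleSpace_bc (K : Type u) [Field K] [Algebra k K]
    [IrreducibleSpace (Curv2.bc k X K)]
    {R : Type u} [CommRing R] [Algebra k R] [Nontrivial R]
    (ι : Spec (CommRingCat.of R) ⟶ X) [IsOpenImmersion ι]
    (hι : ι ≫ (X ↘ Spec (CommRingCat.of k)) = Spec.map (CommRingCat.ofHom (algebraMap k R))) :
    (nilradical (K ⊗[k] R)).IsPrime := by
  haveI : Nontrivial (K ⊗[k] R) :=
    (Algebra.TensorProduct.includeRight_injective (R := k) (A := K) (B := R)
      (algebraMap k K).injective).nontrivial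
  haveI : Nonempty (Spec (CommRingCat.of (K ⊗[k] R))) :=
    (inferInstance : Nonempty (PrimeSpectrum (K ⊗[k] R)))
  haveI : IrreducibleSpace (Spec (CommRingCat.of (K ⊗[k] R))) :=
    (chartMap' k X K ι hι).isOpenEmbedding.irreducibleSpace
  have h2 : IrreducibleSpace (PrimeSpectrum (K ⊗[k] R)) :=
    (inferInstance : IrreducibleSpace (Spec (CommRingCat.of (K ⊗[k] R))))
  exact PrimeSpectrum.irreducibleSpace_iff_isPrime_nilradical.mp h2

theorem irreducibleSpace_bc_sepClosure
    (h : ∀ (k' : Type u) [Field k'] [Algebra k k'] [FiniteDimensional k k']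
      [Algebra.IsSeparable k k'], IrreducibleSpace (Curv2.bc k X k')) :
    IrreducibleSpace (Curv2.bc k X (SeparableClosure k)) := by
  haveI h0 : IrreducibleSpace (Curv2.bc k X k) := h k
  haveI hX : IrreducibleSpace X :=
    irreducibleSpace_of_surjective (Curv2.bcFst k X k).continuous (bcFst_surjective k X k)
  have hchart : ∀ {R : Type u} [CommRing R] [Algebra k R] [Nontrivial R]
      (ι : Spec (CommRingCat.of R) ⟶ X) [IsOpenImmersion ι]
      (hι : ι ≫ (X ↘ Spec (CommRingCat.of k)) = Spec.map (CommRingCat.ofHom (algebraMap k R))),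
      IsPreirreducible (Set.range (chartMap' k X (SeparableClosure k) ι hι)) := by
    intro R _ _ _ ι _ hι
    have hprime : (nilradical (SeparableClosure k ⊗[k] R)).IsPrime :=
      Groth.Agent.Lib.Helper14.GeomIrr.isPrime_nilradical_sepClosure (k := k) (R := R)
        fun k' _ _ _ _ => by
          haveI := h k'
          exact isPrime_nilradical_of_irreducibleSpace_bc k X k' ι hι
    haveI : IrreducibleSpace (PrimeSpectrum (SeparableClosure k ⊗[k] R)) :=
      PrimeSpectrum.irreducibleSpace_iff_isPrime_nilradical.mpr hprime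
    haveI : IrreducibleSpace (Spec (CommRingCat.of (SeparableClosure k ⊗[k] R))) :=
      (inferInstance : IrreducibleSpace (PrimeSpectrum (SeparableClosure k ⊗[k] R)))
    rw [← Set.image_univ]
    exact (PreirreducibleSpace.isPreirreducible_univ).image _
      (chartMap' k X (SeparableClosure k) ι hι).continuous.continuousOn
  haveI : PreirreducibleSpace (Curv2.bc k X (SeparableClosure k)) := by
    apply preirreducibleSpace_of_cover
    intro x y
    obtain ⟨R, _, _, ιR, _, hιR, zR, hzR⟩ :=
      exists_chart k X (Curv2.bcFst k X (SeparableClosure k) x)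
    obtain ⟨S, _, _, ιS, _, hιS, zS, hzS⟩ :=
      exists_chart k X (Curv2.bcFst k X (SeparableClosure k) y)
    haveI : Nontrivial R := zR.nontrivial
    haveI : Nontrivial S := zS.nontrivial
    refine ⟨Set.range (chartMap' k X (SeparableClosure k) ιR hιR),
      Set.range (chartMap' k X (SeparableClosure k) ιS hιS),
      (chartMap' k X (SeparableClosure k) ιR hιR).isOpenEmbedding.isOpen_range,
      (chartMap' k X (SeparableClosure k) ιS hιS).isOpenEmbedding.isOpen_range,
      hchart ιR hιR, hchart ιS hιS, ?_, ?_, ?_⟩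
    · rw [range_chartMap']
      exact ⟨zR, hzR⟩
    · rw [range_chartMap']
      exact ⟨zS, hzS⟩
    · rw [range_chartMap', range_chartMap', ← Set.preimage_inter]
      obtain ⟨w, hw⟩ := nonempty_preirreducible_inter (X := X)
        ιR.isOpenEmbedding.isOpen_range ιS.isOpenEmbedding.isOpen_range
        ⟨_, zR, rfl⟩ ⟨_, zS, rfl⟩
      obtain ⟨w', rfl⟩ := bcFst_surjective k X (SeparableClosure k) w
      exact ⟨w', hw⟩
  haveI : Nonempty (Curv2.bc k X (SeparableClosure k)) := by
    obtain ⟨x⟩ := (inferInstance : Nonempty X)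
    obtain ⟨x', -⟩ := bcFst_surjective k X (SeparableClosure k) x
    exact ⟨x'⟩
  exact IrreducibleSpace.mk inferInstance

theorem geometricallyIrreducible_of_forall_finite_separable
    (h : ∀ (k' : Type u) [Field k'] [Algebra k k'] [FiniteDimensional k k']
      [Algebra.IsSeparable k k'], IrreducibleSpace (Curv2.bc k X k')) :
    GeometricallyIrreducible (X ↘ (Spec (CommRingCat.of k))) := by
  haveI := irreducibleSpace_bc_sepClosure k X h
  exact geometricallyIrreducible_of_sepClosure k X

end Scheme

end Groth.Agent.Lib.Helper6.SepCl
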