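import Mathlib
import Groth.Prelude.Def_Curv2
import Groth.Agent.Lib.Helper6SepCl
import Groth.Agent.Lib.Helper6SepCl3
import Groth.Agent.Lib.Helper6BcBridge
import Groth.Agent.Lib.Helper14GeomIrr

set_option autoImplicit false
universe u
open CategoryTheory CategoryTheory.Limits AlgebraicGeometry TensorProduct

namespace Groth.Agent.Lib.Helper6.FinLevel

open Groth.Agent.Lib.Helper6.BcBridge Groth.Agent.Lib.Helper6.SepCl

section Closed

variable (k : Type u) [Field k] (X : Scheme.{u}) [X.Over (Spec (CommRingCat.of k))]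
  (K : Type u) [Field K] [Algebra k K]

instance [Algebra.IsAlgebraic k K] : IsIntegralHom (Curv2.bcFst k X K) := by
  haveI : IsIntegralHom (Spec.map (CommRingCat.ofHom (algebraMap k K))) := by
    rw [IsIntegralHom.SpecMap_iff]
    exact Algebra.IsIntegral.isIntegral (R := k) (A := K)
  unfold Curv2.bcFst
  infer_instance

theorem isClosedMap_bcFst [Algebra.IsAlgebraic k K] : IsClosedMap (Curv2.bcFst k X K) :=
  (Curv2.bcFst k X K).isClosedMap

end Closed

section Functorial

variable (k : Type u) [Field k] (T X : Scheme.{u}) [T.Over (Spec (CommRingCat.of k))]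
  [X.Over (Spec (CommRingCat.of k))] (f : T ⟶ X) [f.IsOver (Spec (CommRingCat.of k))]
  (K : Type u) [Field K] [Algebra k K]

/-- base change of a `k`-morphism -/
noncomputable def bcMap : Curv2.bc k T K ⟶ Curv2.bc k X K :=
  pullback.map (T ↘ Spec (CommRingCat.of k)) (Spec.map (CommRingCat.ofHom (algebraMap k K)))
    (X ↘ Spec (CommRingCat.of k)) (Spec.map (CommRingCat.ofHom (algebraMap k K)))
    f (𝟙 _) (𝟙 _) (by rw [Category.comp_id, CategoryTheory.comp_over]) (by simp)

theorem bcMap_fst : bcMap k T X f K ≫ Curv2.bcFst k X K = Curv2.bcFst k T K ≫ f := by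
  unfold bcMap
  rw [pullback.lift_fst]

theorem bcMap_snd : bcMap k T X f K ≫ Curv2.bcSnd k X K = Curv2.bcSnd k T K := by
  unfold bcMap
  rw [pullback.lift_snd, Category.comp_id]

theorem isPullback_bcMap :
    IsPullback (bcMap k T X f K) (Curv2.bcFst k T K) (Curv2.bcFst k X K) f := by
  have hR : IsPullback (Curv2.bcSnd k X K) (Curv2.bcFst k X K)
      (Spec.map (CommRingCat.ofHom (algebraMap k K))) (X ↘ Spec (CommRingCat.of k)) :=
    (IsPullback.of_hasPullback _ _).flip
  have hB : IsPullback (Curv2.bcSnd k T K) (Curv2.bcFst k T K)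
      (Spec.map (CommRingCat.ofHom (algebraMap k K))) (T ↘ Spec (CommRingCat.of k)) :=
    (IsPullback.of_hasPullback _ _).flip
  refine IsPullback.of_right ?_ (bcMap_fst k T X f K) hR
  rw [bcMap_snd, CategoryTheory.comp_over]
  exact hB

/-- every point of `X_K` over `f t` is in the image of `T_K` -/
theorem exists_bcMap_eq (t : T) (w : Curv2.bc k X K) (hw : Curv2.bcFst k X K w = f t) :
    ∃ t' : Curv2.bc k T K, bcMap k T X f K t' = w := by
  obtain ⟨p, hp1, hp2⟩ := Scheme.Pullback.exists_preimage_pullback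
    (f := Curv2.bcFst k X K) (g := f) w t hw
  have sq := isPullback_bcMap k T X f K
  refine ⟨sq.isoPullback.inv p, ?_⟩
  rw [← Scheme.Hom.comp_apply, sq.isoPullback_inv_fst]
  exact hp1

include f in
/-- a connected `k`-scheme receiving a morphism from a scheme with `T_K` connected has `X_K`
connected, for `K/k` algebraic -/
theorem connectedSpace_bc_of_connected_over [Algebra.IsAlgebraic k K]
    [ConnectedSpace (Curv2.bc k T K)] [ConnectedSpace X] : ConnectedSpace (Curv2.bc k X K) := by
  obtain ⟨t'₀⟩ := (inferInstance : Nonempty (Curv2.bc k T K))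
  let t₀ : T := Curv2.bcFst k T K t'₀
  have himg : _root_.IsPreconnected (Set.range (bcMap k T X f K)) :=
    isPreconnected_range (bcMap k T X f K).continuous
  -- any clopen containing the image is everything
  have key : ∀ U : Set (Curv2.bc k X K), IsClopen U → Set.range (bcMap k T X f K) ⊆ U →
      U = Set.univ := by
    intro U hU hsub
    have hV : IsClopen ((Curv2.bcFst k X K) '' Uᶜ) :=
      ⟨isClosedMap_bcFst k X K _ hU.compl.isClosed, isOpenMap_bcFst k X K _ hU.compl.isOpen⟩
    rcases isClopen_iff.mp hV with h0 | h1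
    · rw [Set.image_eq_empty] at h0
      exact Set.compl_empty_iff.mp h0
    · exfalso
      have hx : f t₀ ∈ (Curv2.bcFst k X K) '' Uᶜ := h1 ▸ Set.mem_univ _
      obtain ⟨v, hv, hvx⟩ := hx
      obtain ⟨t', ht'⟩ := exists_bcMap_eq k T X f K t₀ v hvx
      exact hv (hsub ⟨t', ht'⟩)
  haveI : Nonempty (Curv2.bc k X K) := ⟨bcMap k T X f K t'₀⟩
  haveI : PreconnectedSpace (Curv2.bc k X K) := by
    rw [preconnectedSpace_iff_clopen]
    intro U hU
    by_cases hne : (Set.range (bcMap k T X f K) ∩ U).Nonempty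
    · right
      exact key U hU (himg.subset_isClopen hU hne)
    · left
      have hne' : (Set.range (bcMap k T X f K) ∩ Uᶜ).Nonempty :=
        ⟨bcMap k T X f K t'₀, ⟨t'₀, rfl⟩, fun hmem => hne ⟨_, ⟨t'₀, rfl⟩, hmem⟩⟩
      have := key Uᶜ hU.compl (himg.subset_isClopen hU.compl hne')
      exact Set.compl_univ_iff.mp this
  exact ConnectedSpace.mk inferInstance

end Functorial

section ChartSnd

variable (k : Type u) [Field k] (X : Scheme.{u}) [X.Over (Spec (CommRingCat.of k))]
  (K : Type u) [Field K] [Algebra k K]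
  {R : Type u} [CommRing R] [Algebra k R] (ι : Spec (CommRingCat.of R) ⟶ X) [IsOpenImmersion ι]
  (hι : ι ≫ (X ↘ Spec (CommRingCat.of k)) = Spec.map (CommRingCat.ofHom (algebraMap k R)))

omit [IsOpenImmersion ι] in
theorem chartMap_snd :
    chartMap k X K ι hι ≫ Curv2.bcSnd k X K =
      Spec.map (CommRingCat.ofHom
        (Algebra.TensorProduct.includeRight : K →ₐ[k] R ⊗[k] K).toRingHom) := by
  unfold chartMap
  rw [Category.assoc, pullback.lift_snd, Category.comp_id, pullbackSpecIso_inv_snd]
  rfl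

omit [IsOpenImmersion ι] in
theorem chartMap'_snd :
    chartMap' k X K ι hι ≫ Curv2.bcSnd k X K =
      Spec.map (CommRingCat.ofHom
        (Algebra.TensorProduct.includeLeftRingHom : K →+* K ⊗[k] R)) := by
  unfold chartMap'
  rw [Category.assoc, chartMap_snd, ← Spec.map_comp]
  congr 1

end ChartSnd

section Tower

variable (k : Type u) [Field k] (X : Scheme.{u}) [X.Over (Spec (CommRingCat.of k))]
  (E : Type u) [Field E] [Algebra k E] (K : Type u) [Field K] [Algebra E K]
  [Algebra k K] [IsScalarTower k E K]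

theorem bcTower_snd :
    bcTower k X E K ≫ Curv2.bcSnd k X E =
      Curv2.bcSnd k X K ≫ Spec.map (CommRingCat.ofHom (algebraMap E K)) := by
  letI : (Curv2.bc k X E).Over (Spec (CommRingCat.of E)) := ⟨Curv2.bcSnd k X E⟩
  unfold bcTower
  have h1 : Curv2.bcFst E (Curv2.bc k X E) K ≫ Curv2.bcSnd k X E =
      Curv2.bcSnd E (Curv2.bc k X E) K ≫ Spec.map (CommRingCat.ofHom (algebraMap E K)) :=
    pullback.condition
  rw [Category.assoc, h1, ← bcBcIso_hom_snd k X E K, ← Category.assoc, ← Category.assoc,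
    Iso.inv_hom_id, Category.id_comp]

theorem isOpenMap_bcTower : IsOpenMap (bcTower k X E K) := by
  letI : (Curv2.bc k X E).Over (Spec (CommRingCat.of E)) := ⟨Curv2.bcSnd k X E⟩
  unfold bcTower
  rw [Scheme.Hom.comp_base, TopCat.coe_comp]
  exact (isOpenMap_bcFst E (Curv2.bc k X E) K).comp
    (bcBcIso k X E K).inv.homeomorph.isOpenMap

theorem isClosedMap_bcTower [Algebra.IsAlgebraic E K] : IsClosedMap (bcTower k X E K) := by
  letI : (Curv2.bc k X E).Over (Spec (CommRingCat.of E)) := ⟨Curv2.bcSnd k X E⟩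
  unfold bcTower
  rw [Scheme.Hom.comp_base, TopCat.coe_comp]
  exact (isClosedMap_bcFst E (Curv2.bc k X E) K).comp
    (bcBcIso k X E K).inv.homeomorph.isClosedMap

variable {R : Type u} [CommRing R] [Algebra k R] (ι : Spec (CommRingCat.of R) ⟶ X)
  [IsOpenImmersion ι]
  (hι : ι ≫ (X ↘ Spec (CommRingCat.of k)) = Spec.map (CommRingCat.ofHom (algebraMap k R)))

/-- the map `E ⊗ R → K ⊗ R` -/
noncomputable def tmap : E ⊗[k] R →ₐ[k] K ⊗[k] R :=
  Algebra.TensorProduct.map (IsScalarTower.toAlgHom k E K) (AlgHom.id k R)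

omit [IsOpenImmersion ι] in
theorem chartMap'_bcTower :
    chartMap' k X K ι hι ≫ bcTower k X E K =
      Spec.map (CommRingCat.ofHom (tmap k E K (R := R)).toRingHom) ≫ chartMap' k X E ι hι := by
  apply pullback.hom_ext
  · rw [Category.assoc, Category.assoc]
    change _ ≫ bcTower k X E K ≫ Curv2.bcFst k X E = _ ≫ _ ≫ Curv2.bcFst k X E
    rw [bcTower_fst, chartMap'_fst, chartMap'_fst, ← Category.assoc, ← Spec.map_comp]
    congr 2
    ext r
    simp [tmap]
  · rw [Category.assoc, Category.assoc]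
    change _ ≫ bcTower k X E K ≫ Curv2.bcSnd k X E = _ ≫ _ ≫ Curv2.bcSnd k X E
    rw [bcTower_snd, ← Category.assoc, chartMap'_snd, chartMap'_snd, ← Spec.map_comp,
      ← Spec.map_comp]
    congr 1

end Tower

section FiniteLevel

variable (k : Type u) [Field k] (X : Scheme.{u}) [X.Over (Spec (CommRingCat.of k))]
  (K : Type u) [Field K] [Algebra k K] [Algebra.IsAlgebraic k K]

omit [Algebra.IsAlgebraic k K] in
theorem bcTower_chartMap' (E : Type u) [Field E] [Algebra k E] [Algebra E K] [IsScalarTower k E K]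
    {R : Type u} [CommRing R] [Algebra k R] (ι : Spec (CommRingCat.of R) ⟶ X)
    (hι : ι ≫ (X ↘ Spec (CommRingCat.of k)) = Spec.map (CommRingCat.ofHom (algebraMap k R)))
    (Q : PrimeSpectrum (K ⊗[k] R)) :
    bcTower k X E K (chartMap' k X K ι hι Q) =
      chartMap' k X E ι hι (PrimeSpectrum.comap (tmap k E K (R := R)).toRingHom Q) := by
  rw [← Scheme.Hom.comp_apply, chartMap'_bcTower]
  rfl

/-- the topology of `X_K`, `K/k` algebraic, comes from the finite levels -/
theorem exists_finite_level_nhds (u : Curv2.bc k X K) (U : Set (Curv2.bc k X K))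
    (hU : IsOpen U) (hu : u ∈ U) :
    ∃ E : IntermediateField k K, FiniteDimensional k E ∧ ∃ N : Set (Curv2.bc k X E), IsOpen N ∧
      bcTower k X E K u ∈ N ∧ (bcTower k X E K) ⁻¹' N ⊆ U := by
  obtain ⟨R, _, _, ι, _, hι, z, hz⟩ := exists_chart k X (Curv2.bcFst k X K u)
  have hu' : u ∈ Set.range (chartMap' k X K ι hι) := by
    rw [range_chartMap']
    exact ⟨z, hz⟩
  obtain ⟨Q, rfl⟩ := hu'
  have hV : IsOpen ((chartMap' k X K ι hι) ⁻¹' U) :=
    hU.preimage (chartMap' k X K ι hι).continuous
  obtain ⟨_, ⟨f, rfl⟩, hQf, hfV⟩ :=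
    PrimeSpectrum.isTopologicalBasis_basic_opens.exists_subset_of_mem_open
      (show Q ∈ (chartMap' k X K ι hι) ⁻¹' U from hu) hV
  obtain ⟨E, hE, f', hf'⟩ :=
    Groth.Agent.Lib.Helper14.GeomIrr.exists_finite_intermediateField (k := k) (L := K) (S := R) f
  have hf'' : tmap k E K (R := R) f' = f := hf'
  have hmem : ∀ Q' : PrimeSpectrum (K ⊗[k] R),
      PrimeSpectrum.comap (tmap k E K (R := R)).toRingHom Q' ∈
        (PrimeSpectrum.basicOpen f' : Set (PrimeSpectrum (E ⊗[k] R))) ↔
      Q' ∈ (PrimeSpectrum.basicOpen f : Set (PrimeSpectrum (K ⊗[k] R))) := by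
    intro Q'
    change f' ∉ (PrimeSpectrum.comap (tmap k E K (R := R)).toRingHom Q').asIdeal ↔ f ∉ Q'.asIdeal
    rw [← hf'']
    rfl
  refine ⟨E, hE, (chartMap' k X E ι hι) ''
    (PrimeSpectrum.basicOpen f' : Set (PrimeSpectrum (E ⊗[k] R))), ?_, ?_, ?_⟩
  · exact (chartMap' k X E ι hι).isOpenEmbedding.isOpenMap _ (PrimeSpectrum.basicOpen f').isOpen
  · rw [bcTower_chartMap']
    exact ⟨_, (hmem Q).mpr hQf, rfl⟩
  · intro w hw
    obtain ⟨P, hP, hPw⟩ := hw
    have hw' : w ∈ Set.range (chartMap' k X K ι hι) := by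
      rw [range_chartMap']
      have h1 : Curv2.bcFst k X K w = Curv2.bcFst k X E (bcTower k X E K w) := by
        rw [← Scheme.Hom.comp_apply, bcTower_fst]
      rw [Set.mem_preimage, h1, ← hPw, bcFst_chartMap']
      exact ⟨_, rfl⟩
    obtain ⟨Q', rfl⟩ := hw'
    rw [bcTower_chartMap'] at hPw
    have hPQ : P = PrimeSpectrum.comap (tmap k E K (R := R)).toRingHom Q' :=
      (chartMap' k X E ι hι).isOpenEmbedding.injective hPw
    apply hfV
    rw [← hmem, ← hPQ]
    exact hP

/-- connectedness of `X_K` from the finite levels -/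
theorem connectedSpace_bc_of_forall_finite
    (h : ∀ E : IntermediateField k K, FiniteDimensional k E → ConnectedSpace (Curv2.bc k X E)) :
    ConnectedSpace (Curv2.bc k X K) := by
  haveI h0 : ConnectedSpace (Curv2.bc k X (⊥ : IntermediateField k K)) := h ⊥ inferInstance
  haveI : Nonempty (Curv2.bc k X K) := by
    obtain ⟨x0⟩ := (inferInstance : Nonempty (Curv2.bc k X (⊥ : IntermediateField k K)))
    obtain ⟨x', -⟩ := bcFst_surjective k X K (Curv2.bcFst k X _ x0)
    exact ⟨x'⟩
  haveI : PreconnectedSpace (Curv2.bc k X K) := by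
    rw [preconnectedSpace_iff_clopen]
    intro U hU
    by_contra hcon
    rw [not_or] at hcon
    obtain ⟨hne, hnu⟩ := hcon
    obtain ⟨u, hu⟩ := Set.nonempty_iff_ne_empty.mpr hne
    obtain ⟨v, hv⟩ := (Set.ne_univ_iff_exists_notMem U).mp hnu
    obtain ⟨E, hE, N, hN, huN, hNU⟩ := exists_finite_level_nhds k X K u U hU.isOpen hu
    haveI := h E hE
    have hV : IsClopen ((bcTower k X E K) '' Uᶜ) :=
      ⟨isClosedMap_bcTower k X E K _ hU.compl.isClosed,
        isOpenMap_bcTower k X E K _ hU.compl.isOpen⟩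
    rcases isClopen_iff.mp hV with h0 | h1
    · rw [Set.image_eq_empty] at h0
      exact (h0 ▸ hv : v ∈ (∅ : Set _))
    · have hx : bcTower k X E K u ∈ (bcTower k X E K) '' Uᶜ := h1 ▸ Set.mem_univ _
      obtain ⟨v', hv', hvx⟩ := hx
      exact hv' (hNU (by rw [Set.mem_preimage, hvx]; exact huN))
  exact ConnectedSpace.mk inferInstance

end FiniteLevel

section Main

variable (k : Type u) [Field k] (X : Scheme.{u}) [X.Over (Spec (CommRingCat.of k))]

theorem geometricallyConnected_of_forall_finite_separable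
    (h : ∀ (k' : Type u) [Field k'] [Algebra k k'] [FiniteDimensional k k']
      [Algebra.IsSeparable k k'], ConnectedSpace (Curv2.bc k X k')) :
    GeometricallyConnected (X ↘ (Spec (CommRingCat.of k))) := by
  haveI : ConnectedSpace (Curv2.bc k X (SeparableClosure k)) := by
    apply connectedSpace_bc_of_forall_finite
    intro E hE
    haveI : Algebra.IsSeparable k E := Algebra.isSeparable_tower_bot_of_isSeparable k E
      (SeparableClosure k)
    exact h E
  exact geometricallyConnected_of_sepClosure k X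

theorem geometricallyConnected_iff_forall_finite_separable :
    GeometricallyConnected (X ↘ (Spec (CommRingCat.of k))) ↔
      ∀ (k' : Type u) [Field k'] [Algebra k k'] [FiniteDimensional k k']
        [Algebra.IsSeparable k k'], ConnectedSpace ↥(Curv2.bc k X k') := by
  constructor
  · intro h k' _ _ _ _
    rw [geometricallyConnected_iff, geometrically_iff_of_commRing_of_isClosedUnderIsomorphisms] at h
    exact h k'
  · exact geometricallyConnected_of_forall_finite_separable k X

end Main

end Groth.Agent.Lib.Helper6.FinLevel
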