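import Mathlib
import Groth.Prelude.Def_Curv2
import Groth.Agent.Lib.Helper6SepCl
import Groth.Agent.Lib.Helper6SepCl3
import Groth.Agent.Lib.Helper6SepCl2
import Groth.Agent.Lib.Helper6FinLevel
import Groth.Agent.Lib.Helper6BcBridge
import Groth.Agent.Lib.Helper14GalPrimes

set_option autoImplicit false
universe u
open CategoryTheory CategoryTheory.Limits AlgebraicGeometry TensorProduct

namespace Groth.Agent.Lib.Helper6.GalAct

open Groth.Agent.Lib.Helper6.BcBridge Groth.Agent.Lib.Helper6.SepCl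
  Groth.Agent.Lib.Helper6.FinLevel

section Ring

variable (k R K : Type u) [Field k] [CommRing R] [Algebra k R] [Field K] [Algebra k K]

/-- `id ⊗ σ` on `R ⊗ K` -/
noncomputable def rmap (σ : K ≃ₐ[k] K) : R ⊗[k] K →ₐ[k] R ⊗[k] K :=
  Algebra.TensorProduct.map (AlgHom.id k R) (σ : K →ₐ[k] K)

/-- `R ⊗ K → K ⊗ κ(p)` -/
noncomputable def toFib (p : Ideal R) [p.IsPrime] : R ⊗[k] K →ₐ[k] K ⊗[k] p.ResidueField :=
  (Algebra.TensorProduct.comm k p.ResidueField K).toAlgHom.comp
    (Algebra.TensorProduct.map (IsScalarTower.toAlgHom k R p.ResidueField) (AlgHom.id k K))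

theorem toFib_rmap (p : Ideal R) [p.IsPrime] (σ : K ≃ₐ[k] K) (x : R ⊗[k] K) :
    toFib k R K p (rmap k R K σ x) =
      Algebra.TensorProduct.map (σ : K →ₐ[k] K) (AlgHom.id k p.ResidueField) (toFib k R K p x) := by
  induction x using TensorProduct.induction_on with
  | zero => simp
  | tmul r c => simp [toFib, rmap]
  | add x y hx hy => simp only [map_add, hx, hy]

/-- every prime of `R ⊗ K` over `p` comes from a prime of `K ⊗ κ(p)` -/
theorem exists_comap_toFib (p : Ideal R) [p.IsPrime] (Q : Ideal (R ⊗[k] K)) [Q.IsPrime]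
    (hQ : Q.comap (Algebra.TensorProduct.includeLeftRingHom) = p) :
    ∃ (P : Ideal (K ⊗[k] p.ResidueField)) (_ : P.IsPrime), Q = P.comap (toFib k R K p) := by
  let pp : PrimeSpectrum R := ⟨p, inferInstance⟩
  let q : PrimeSpectrum.comap (algebraMap R (R ⊗[k] K)) ⁻¹' {pp} :=
    ⟨⟨Q, inferInstance⟩, PrimeSpectrum.ext hQ⟩
  let P0 := PrimeSpectrum.preimageEquivFiber R (R ⊗[k] K) pp q
  have hP0 : (PrimeSpectrum.preimageEquivFiber R (R ⊗[k] K) pp).symm P0 = q :=
    (PrimeSpectrum.preimageEquivFiber R (R ⊗[k] K) pp).symm_apply_apply q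
  have hQ0 : Q = P0.asIdeal.comap
      (Algebra.TensorProduct.includeRight :
        R ⊗[k] K →ₐ[R] p.ResidueField ⊗[R] (R ⊗[k] K)).toRingHom := by
    have := congrArg (fun z => z.1.asIdeal) hP0
    exact this.symm
  let e1 : p.ResidueField ⊗[R] (R ⊗[k] K) ≃ₐ[R] p.ResidueField ⊗[k] K :=
    Algebra.TensorProduct.cancelBaseChange k R R p.ResidueField K
  let e2 : p.ResidueField ⊗[k] K ≃ₐ[k] K ⊗[k] p.ResidueField :=
    Algebra.TensorProduct.comm k p.ResidueField K
  let e : p.ResidueField ⊗[R] (R ⊗[k] K) ≃+* K ⊗[k] p.ResidueField :=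
    e1.toRingEquiv.trans e2.toRingEquiv
  refine ⟨P0.asIdeal.comap e.symm.toRingHom, inferInstance, ?_⟩
  rw [hQ0]
  ext x
  simp only [Ideal.mem_comap]
  have hx : e.symm.toRingHom (toFib k R K p x) =
      (Algebra.TensorProduct.includeRight :
        R ⊗[k] K →ₐ[R] p.ResidueField ⊗[R] (R ⊗[k] K)).toRingHom x := by
    rw [RingEquiv.toRingHom_eq_coe, RingHom.coe_coe, RingEquiv.symm_apply_eq]
    induction x using TensorProduct.induction_on with
    | zero => simp
    | tmul r c =>
      simp [e, e1, e2, toFib, Algebra.TensorProduct.cancelBaseChange_tmul]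
      rw [Algebra.smul_def, mul_one]
    | add x y hx hy => simp only [map_add, hx, hy]
  rw [hx]

/-- the Galois group acts transitively on the primes of `R ⊗ K` over a given prime of `R` -/
theorem exists_algEquiv_comap_eq [Normal k K]
    (Q Q' : Ideal (R ⊗[k] K)) [Q.IsPrime] [Q'.IsPrime]
    (h : Q.comap (Algebra.TensorProduct.includeLeftRingHom) =
      Q'.comap (Algebra.TensorProduct.includeLeftRingHom)) :
    ∃ σ : K ≃ₐ[k] K, Q' = Q.comap (rmap k R K σ) := by
  let p : Ideal R := Q.comap (Algebra.TensorProduct.includeLeftRingHom)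
  haveI : p.IsPrime := Ideal.comap_isPrime _ _
  obtain ⟨P, hP, hQP⟩ := exists_comap_toFib k R K p Q rfl
  obtain ⟨P', hP', hQP'⟩ := exists_comap_toFib k R K p Q' h.symm
  obtain ⟨σ, hσ⟩ := Groth.Agent.Lib.Helper14.GalPrimes.exists_algEquiv_comap_eq
    (k := k) (K := p.ResidueField) (E := K) P P'
  refine ⟨σ, ?_⟩
  rw [hQP', hσ, hQP]
  ext x
  simp only [Ideal.mem_comap]
  rw [toFib_rmap]

end Ring

section Scheme

variable (k : Type u) [Field k] (X : Scheme.{u}) [X.Over (Spec (CommRingCat.of k))]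
  (K : Type u) [Field K] [Algebra k K]

theorem galAct_fst (σ : K ≃ₐ[k] K) :
    Curv2.galAct k X K σ ≫ Curv2.bcFst k X K = Curv2.bcFst k X K := by
  unfold Curv2.galAct
  rw [pullback.lift_fst, Category.comp_id]

theorem galAct_snd (σ : K ≃ₐ[k] K) :
    Curv2.galAct k X K σ ≫ Curv2.bcSnd k X K =
      Curv2.bcSnd k X K ≫ Spec.map (CommRingCat.ofHom (σ : K →ₐ[k] K).toRingHom) := by
  unfold Curv2.galAct
  rw [pullback.lift_snd]

theorem galAct_fst_apply (σ : K ≃ₐ[k] K) (w : Curv2.bc k X K) :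
    Curv2.bcFst k X K (Curv2.galAct k X K σ w) = Curv2.bcFst k X K w := by
  rw [← Scheme.Hom.comp_apply, galAct_fst]

theorem galAct_symm_comp (σ : K ≃ₐ[k] K) :
    Curv2.galAct k X K σ.symm ≫ Curv2.galAct k X K σ = 𝟙 _ := by
  apply pullback.hom_ext
  · rw [Category.assoc]
    change _ ≫ Curv2.galAct k X K σ ≫ Curv2.bcFst k X K = _ ≫ Curv2.bcFst k X K
    rw [galAct_fst, Category.id_comp]
    exact galAct_fst k X K σ.symm
  · rw [Category.assoc]
    change _ ≫ Curv2.galAct k X K σ ≫ Curv2.bcSnd k X K = _ ≫ Curv2.bcSnd k X K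
    rw [galAct_snd, ← Category.assoc, galAct_snd, Category.assoc, ← Spec.map_comp,
      Category.id_comp]
    have : (CommRingCat.ofHom (σ : K →ₐ[k] K).toRingHom ≫
        CommRingCat.ofHom (σ.symm : K →ₐ[k] K).toRingHom) = 𝟙 _ := by
      ext x
      simp
    rw [this, Spec.map_id, Category.comp_id]

theorem galAct_comp_symm (σ : K ≃ₐ[k] K) :
    Curv2.galAct k X K σ ≫ Curv2.galAct k X K σ.symm = 𝟙 _ := by
  have := galAct_symm_comp k X K σ.symm
  rwa [AlgEquiv.symm_symm] at this

theorem galAct_symm_apply (σ : K ≃ₐ[k] K) (w : Curv2.bc k X K) :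
    Curv2.galAct k X K σ (Curv2.galAct k X K σ.symm w) = w := by
  rw [← Scheme.Hom.comp_apply, galAct_symm_comp]
  rfl

theorem galAct_apply_symm (σ : K ≃ₐ[k] K) (w : Curv2.bc k X K) :
    Curv2.galAct k X K σ.symm (Curv2.galAct k X K σ w) = w := by
  rw [← Scheme.Hom.comp_apply, galAct_comp_symm]
  rfl

/-- the homeomorphism underlying the Galois action -/
noncomputable def galHomeo (σ : K ≃ₐ[k] K) : Curv2.bc k X K ≃ₜ Curv2.bc k X K where
  toFun := Curv2.galAct k X K σ
  invFun := Curv2.galAct k X K σ.symm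
  left_inv := galAct_apply_symm k X K σ
  right_inv := galAct_symm_apply k X K σ
  continuous_toFun := (Curv2.galAct k X K σ).continuous
  continuous_invFun := (Curv2.galAct k X K σ.symm).continuous

variable {R : Type u} [CommRing R] [Algebra k R] (ι : Spec (CommRingCat.of R) ⟶ X)
  [IsOpenImmersion ι]
  (hι : ι ≫ (X ↘ Spec (CommRingCat.of k)) = Spec.map (CommRingCat.ofHom (algebraMap k R)))

omit [IsOpenImmersion ι] in
theorem chartMap_galAct (σ : K ≃ₐ[k] K) :
    chartMap k X K ι hι ≫ Curv2.galAct k X K σ =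
      Spec.map (CommRingCat.ofHom (rmap k R K σ).toRingHom) ≫ chartMap k X K ι hι := by
  apply pullback.hom_ext
  · rw [Category.assoc, Category.assoc]
    change _ ≫ Curv2.galAct k X K σ ≫ Curv2.bcFst k X K = _ ≫ _ ≫ Curv2.bcFst k X K
    rw [galAct_fst, chartMap_fst, ← Category.assoc, ← Spec.map_comp]
    congr 2
    ext r
    simp [rmap]
  · rw [Category.assoc, Category.assoc]
    change _ ≫ Curv2.galAct k X K σ ≫ Curv2.bcSnd k X K = _ ≫ _ ≫ Curv2.bcSnd k X K
    rw [galAct_snd, ← Category.assoc, chartMap_snd, ← Spec.map_comp, ← Spec.map_comp]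
    congr 1

omit [IsOpenImmersion ι] in
theorem galAct_chartMap_apply (σ : K ≃ₐ[k] K) (Q : PrimeSpectrum (R ⊗[k] K)) :
    Curv2.galAct k X K σ (chartMap k X K ι hι Q) =
      chartMap k X K ι hι (PrimeSpectrum.comap (rmap k R K σ).toRingHom Q) := by
  rw [← Scheme.Hom.comp_apply, chartMap_galAct]
  rfl

/-- **transitivity**: the Galois group acts transitively on the fibres of `X_K → X` -/
theorem exists_galAct_eq [Normal k K] (w w' : Curv2.bc k X K)
    (h : Curv2.bcFst k X K w = Curv2.bcFst k X K w') :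
    ∃ σ : K ≃ₐ[k] K, Curv2.galAct k X K σ w = w' := by
  obtain ⟨R, _, _, ι, _, hι, z, hz⟩ := exists_chart k X (Curv2.bcFst k X K w)
  have hw : w ∈ Set.range (chartMap k X K ι hι) := by
    rw [range_chartMap]
    exact ⟨z, hz⟩
  have hw' : w' ∈ Set.range (chartMap k X K ι hι) := by
    rw [range_chartMap]
    exact ⟨z, hz.trans h⟩
  obtain ⟨Q, rfl⟩ := hw
  obtain ⟨Q', rfl⟩ := hw'
  rw [bcFst_chartMap, bcFst_chartMap] at h
  have h' := ι.isOpenEmbedding.injective h
  have h'' : Q.asIdeal.comap (Algebra.TensorProduct.includeLeftRingHom) =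
      Q'.asIdeal.comap (Algebra.TensorProduct.includeLeftRingHom) :=
    congrArg PrimeSpectrum.asIdeal h'
  obtain ⟨σ, hσ⟩ := exists_algEquiv_comap_eq k R K Q.asIdeal Q'.asIdeal h''
  refine ⟨σ, ?_⟩
  rw [galAct_chartMap_apply]
  congr 1
  exact PrimeSpectrum.ext hσ.symm

end Scheme

section Main

variable (k : Type u) [Field k] (X : Scheme.{u}) [X.Over (Spec (CommRingCat.of k))]
  (K : Type u) [Field K] [Algebra k K]

theorem galAct_image_preimage (σ : K ≃ₐ[k] K) (T : Set X) :
    (Curv2.galAct k X K σ) '' ((Curv2.bcFst k X K) ⁻¹' T) = (Curv2.bcFst k X K) ⁻¹' T := by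
  apply Set.Subset.antisymm
  · rintro _ ⟨w, hw, rfl⟩
    change Curv2.bcFst k X K (Curv2.galAct k X K σ w) ∈ T
    rw [galAct_fst_apply]
    exact hw
  · intro w hw
    refine ⟨Curv2.galAct k X K σ.symm w, ?_, galAct_symm_apply k X K σ w⟩
    change Curv2.bcFst k X K (Curv2.galAct k X K σ.symm w) ∈ T
    rw [galAct_fst_apply]
    exact hw

/-- a closed Galois-stable subset of `X_K` is the preimage of its (closed) image -/
theorem preimage_image_eq_of_invariant [IsGalois k K] (T' : Set (Curv2.bc k X K))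
    (hinv : ∀ σ : K ≃ₐ[k] K, (Curv2.galAct k X K σ) '' T' = T') :
    (Curv2.bcFst k X K) ⁻¹' ((Curv2.bcFst k X K) '' T') = T' := by
  apply Set.Subset.antisymm
  · rintro w ⟨t', ht', hw⟩
    obtain ⟨σ, hσ⟩ := exists_galAct_eq k X K t' w hw
    rw [← hinv σ]
    exact ⟨t', ht', hσ⟩
  · exact Set.subset_preimage_image _ _

theorem exists_isClosed_preimage_eq [IsGalois k K] (T' : Set (Curv2.bc k X K))
    (hT' : IsClosed T')
    (hinv : ∀ σ : K ≃ₐ[k] K, (Curv2.galAct k X K σ) '' T' = T') :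
    ∃ T : Set X, IsClosed T ∧ (Curv2.bcFst k X K) ⁻¹' T = T' :=
  ⟨(Curv2.bcFst k X K) '' T', isClosedMap_bcFst k X K _ hT',
    preimage_image_eq_of_invariant k X K T' hinv⟩

/-- image of the closure of a point under `X_K → X`, `K/k` algebraic -/
theorem image_closure_singleton [Algebra.IsAlgebraic k K] (ξ : Curv2.bc k X K) :
    (Curv2.bcFst k X K) '' closure {ξ} = closure {Curv2.bcFst k X K ξ} := by
  rw [← (isClosedMap_bcFst k X K).closure_image_eq_of_continuous
    (Curv2.bcFst k X K).continuous, Set.image_singleton]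

/-- irreducible components of `X_K` with the same image are Galois conjugate -/
theorem exists_galAct_image_eq [IsGalois k K] (Z' Z'' : Set (Curv2.bc k X K))
    (hZ' : Z' ∈ irreducibleComponents (Curv2.bc k X K))
    (hZ'' : Z'' ∈ irreducibleComponents (Curv2.bc k X K))
    (h : (Curv2.bcFst k X K) '' Z' = (Curv2.bcFst k X K) '' Z'') :
    ∃ σ : K ≃ₐ[k] K, (Curv2.galAct k X K σ) '' Z' = Z'' := by
  obtain ⟨ξ', hξ'⟩ := QuasiSober.sober hZ'.1 (isClosed_of_mem_irreducibleComponents _ hZ')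
  obtain ⟨ξ'', hξ''⟩ := QuasiSober.sober hZ''.1 (isClosed_of_mem_irreducibleComponents _ hZ'')
  rw [← hξ'.def, ← hξ''.def, image_closure_singleton, image_closure_singleton] at h
  have heq : Curv2.bcFst k X K ξ' = Curv2.bcFst k X K ξ'' :=
    (isGenericPoint_def.mpr h : IsGenericPoint _ (closure {Curv2.bcFst k X K ξ''})).eq
      isGenericPoint_closure
  obtain ⟨σ, hσ⟩ := exists_galAct_eq k X K ξ' ξ'' heq
  refine ⟨σ, ?_⟩
  rw [← hξ'.def, ← hξ''.def]
  have := (galHomeo k X K σ).image_closure {ξ'}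
  rw [Set.image_singleton] at this
  change (galHomeo k X K σ) '' closure {ξ'} = _
  rw [this]
  congr 2

theorem image_galAct_image (σ : K ≃ₐ[k] K) (Z : Set (Curv2.bc k X K)) :
    (Curv2.bcFst k X K) '' ((Curv2.galAct k X K σ) '' Z) = (Curv2.bcFst k X K) '' Z := by
  rw [Set.image_image]
  congr 1
  ext w
  simp only [galAct_fst_apply]

instance : Flat (Curv2.bcFst k X K) := by
  unfold Curv2.bcFst
  infer_instance

/-- the image of an irreducible component of `X_K` (`K/k` algebraic) is an irreducible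
component of `X` -/
theorem image_mem_irreducibleComponents [Algebra.IsAlgebraic k K] (Z : Set (Curv2.bc k X K))
    (hZ : Z ∈ irreducibleComponents (Curv2.bc k X K)) :
    (Curv2.bcFst k X K) '' Z ∈ irreducibleComponents X := by
  obtain ⟨ξ, hξ⟩ := QuasiSober.sober hZ.1 (isClosed_of_mem_irreducibleComponents _ hZ)
  have himg : (Curv2.bcFst k X K) '' Z = closure {Curv2.bcFst k X K ξ} := by
    rw [← hξ.def, image_closure_singleton]
  rw [himg]
  refine ⟨isIrreducible_singleton.closure, fun S hS hle => ?_⟩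
  obtain ⟨η, hη⟩ := QuasiSober.sober hS.closure isClosed_closure
  have hspec : η ⤳ Curv2.bcFst k X K ξ := by
    rw [specializes_iff_mem_closure, hη.def]
    exact subset_closure (hle (subset_closure rfl))
  obtain ⟨ξ₁, hξ₁, hξ₁η⟩ := (Flat.generalizingMap (Curv2.bcFst k X K)) hspec
  have hcl : Z ≤ closure {ξ₁} := by
    rw [← hξ.def]
    exact closure_minimal (Set.singleton_subset_iff.mpr hξ₁.mem_closure) isClosed_closure
  have hZeq : closure {ξ₁} = Z :=
    le_antisymm (hZ.2 isIrreducible_singleton.closure hcl) hcl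
  have hξeq : ξ₁ = ξ := (isGenericPoint_def.mpr hZeq : IsGenericPoint ξ₁ Z).eq hξ
  rw [hξeq] at hξ₁η
  calc S ⊆ closure S := subset_closure
    _ = closure {η} := hη.def.symm
    _ = closure {Curv2.bcFst k X K ξ} := by rw [hξ₁η]

/-- subset version: `F` separably closed with the preimage of `T` in `X_F` irreducible, `Ω` a
common extension of `F` and `K`: the preimage of `T` in `X_K` is irreducible -/
theorem isIrreducible_preimage_of_common (F : Type u) [Field F] [Algebra k F] [IsSepClosed F]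
    (T : Set X) (h : IsIrreducible ((Curv2.bcFst k X F) ⁻¹' T))
    (K : Type u) [Field K] [Algebra k K] (Ω : Type u) [Field Ω] [Algebra k Ω] [Algebra F Ω]
    [Algebra K Ω] [IsScalarTower k F Ω] [IsScalarTower k K Ω] :
    IsIrreducible ((Curv2.bcFst k X K) ⁻¹' T) := by
  letI : (Curv2.bc k X F).Over (Spec (CommRingCat.of F)) := ⟨Curv2.bcSnd k X F⟩
  have h1 : IsIrreducible ((Curv2.bcFst F (Curv2.bc k X F) Ω) ⁻¹'
      ((Curv2.bcFst k X F) ⁻¹' T)) := isIrreducible_preimage_bcFst F (Curv2.bc k X F) Ω h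
  have h2 : IsIrreducible ((Curv2.bcFst k X Ω) ⁻¹' T) := by
    have heq : (bcBcIso k X F Ω).hom '' ((Curv2.bcFst F (Curv2.bc k X F) Ω) ⁻¹'
        ((Curv2.bcFst k X F) ⁻¹' T)) = (Curv2.bcFst k X Ω) ⁻¹' T := by
      have hpre : (Curv2.bcFst F (Curv2.bc k X F) Ω) ⁻¹' ((Curv2.bcFst k X F) ⁻¹' T) =
          (bcBcIso k X F Ω).hom ⁻¹' ((Curv2.bcFst k X Ω) ⁻¹' T) := by
        ext w
        simp only [Set.mem_preimage]
        rw [← Scheme.Hom.comp_apply, ← Scheme.Hom.comp_apply, bcBcIso_hom_fst]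
      rw [hpre, Set.image_preimage_eq _ (bcBcIso k X F Ω).hom.surjective]
    rw [← heq]
    exact h1.image _ (bcBcIso k X F Ω).hom.continuous.continuousOn
  have h3 : (bcTower k X K Ω) '' ((Curv2.bcFst k X Ω) ⁻¹' T) = (Curv2.bcFst k X K) ⁻¹' T := by
    have hpre : (Curv2.bcFst k X Ω) ⁻¹' T = (bcTower k X K Ω) ⁻¹' ((Curv2.bcFst k X K) ⁻¹' T) := by
      ext w
      simp only [Set.mem_preimage]
      rw [← Scheme.Hom.comp_apply, bcTower_fst]
    rw [hpre, Set.image_preimage_eq _ (bcTower_surjective k X K Ω)]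
  rw [← h3]
  exact h2.image _ (bcTower k X K Ω).continuous.continuousOn

/-- Galois-stable irreducible components of `X_{k^s}` are the preimages of geometrically
irreducible irreducible components of `X` -/
theorem invariant_iff_preimage (Z : Set (Curv2.bc k X (SeparableClosure k)))
    (hZ : Z ∈ irreducibleComponents (Curv2.bc k X (SeparableClosure k))) :
    (∀ σ : SeparableClosure k ≃ₐ[k] SeparableClosure k,
      (Curv2.galAct k X (SeparableClosure k) σ) '' Z = Z) ↔
    ∃ T ∈ irreducibleComponents X, (Curv2.bcFst k X (SeparableClosure k)) ⁻¹' T = Z ∧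
      ∀ (K : Type u) [Field K] [Algebra k K], IsIrreducible ((Curv2.bcFst k X K) ⁻¹' T) := by
  constructor
  · intro hinv
    refine ⟨(Curv2.bcFst k X (SeparableClosure k)) '' Z,
      image_mem_irreducibleComponents k X (SeparableClosure k) Z hZ,
      preimage_image_eq_of_invariant k X (SeparableClosure k) Z hinv, ?_⟩
    intro K _ _
    obtain ⟨Ω, _, _, _, _, _, _⟩ := exists_common k K
    refine isIrreducible_preimage_of_common k X (SeparableClosure k) _ ?_ K Ω
    rw [preimage_image_eq_of_invariant k X (SeparableClosure k) Z hinv]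
    exact hZ.1
  · rintro ⟨T, -, rfl, -⟩ σ
    exact galAct_image_preimage k X (SeparableClosure k) σ T

end Main

end Groth.Agent.Lib.Helper6.GalAct
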