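import Mathlib
import Groth.Agent.Lib.Helper6GalAct
import Groth.Agent.Lib.Helper14GeomIrrB

set_option autoImplicit false
universe u
open TensorProduct

namespace Groth.Agent.Lib.Helper6.FibCount

open Groth.Agent.Lib.Helper6.GalAct

section Card

/-- (after helper2, `Helper2BddFib.card_primeSpectrum_le`) a finite-dimensional algebra over a
field has at most `dim` primes -/
theorem card_primeSpectrum_le (K : Type*) [Field K] (B : Type*) [CommRing B] [Algebra K B]
    [Module.Finite K B] :
    Finite (PrimeSpectrum B) ∧ Nat.card (PrimeSpectrum B) ≤ Module.finrank K B := by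
  have hart : IsArtinianRing B := IsArtinianRing.of_finite K B
  have hfin : Finite (PrimeSpectrum B) := inferInstance
  refine ⟨hfin, ?_⟩
  have := Fintype.ofFinite (PrimeSpectrum B)
  rw [Nat.card_eq_fintype_card]
  let I : PrimeSpectrum B → Ideal B := fun p => p.asIdeal
  have hcop : Pairwise (fun p q : PrimeSpectrum B => IsCoprime (I p) (I q)) := by
    intro p q hpq
    have hp : (I p).IsMaximal := IsArtinianRing.isMaximal_of_isPrime (I p)
    have hq : (I q).IsMaximal := IsArtinianRing.isMaximal_of_isPrime (I q)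
    rw [Ideal.isCoprime_iff_sup_eq]
    exact Ideal.IsMaximal.coprime_of_ne hp hq (fun h => hpq (PrimeSpectrum.ext h))
  let φ : B →ₗ[K] (∀ p : PrimeSpectrum B, B ⧸ I p) :=
    LinearMap.pi fun p => (Ideal.Quotient.mkₐ K (I p)).toLinearMap
  have hφ : Function.Surjective φ := by
    intro y
    obtain ⟨x, hx⟩ := Ideal.quotientInfToPiQuotient_surj hcop y
    obtain ⟨b, rfl⟩ := Ideal.Quotient.mk_surjective x
    refine ⟨b, ?_⟩
    rw [← hx]
    rfl
  have h1 := LinearMap.finrank_le_finrank_of_surjective hφ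
  rw [Module.finrank_pi_fintype] at h1
  refine le_trans ?_ h1
  calc Fintype.card (PrimeSpectrum B) = ∑ _p : PrimeSpectrum B, 1 := by simp
    _ ≤ ∑ p : PrimeSpectrum B, Module.finrank K (B ⧸ I p) := by
        apply Finset.sum_le_sum
        intro p _
        have : Nontrivial (B ⧸ I p) := Ideal.Quotient.nontrivial_iff.mpr p.isPrime.ne_top
        exact Module.finrank_pos

end Card

section Unique

variable (k₀ K L : Type u) [Field k₀] [Field K] [Algebra k₀ K] [Field L] [Algebra k₀ L]

/-- `k₀` separably closed in `K`, `L/k₀` algebraic: `K ⊗ L` has exactly one prime -/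
theorem prime_unique (h : ∀ α : K, IsSeparable k₀ α → α ∈ Set.range (algebraMap k₀ K))
    [Algebra.IsAlgebraic k₀ L] (P P' : Ideal (K ⊗[k₀] L)) [P.IsPrime] [P'.IsPrime] : P = P' := by
  have hN0 : (nilradical (L ⊗[k₀] K)).IsPrime :=
    Groth.Agent.Lib.Helper14.GeomIrr.geomIrr_of_forall_isSeparable_mem h L
  have hN : (nilradical (K ⊗[k₀] L)).IsPrime :=
    Groth.Agent.Lib.Helper14.GeomIrr.isPrime_nilradical_of_ringEquiv
      (Algebra.TensorProduct.comm k₀ K L).toRingEquiv hN0
  haveI : Algebra.IsIntegral k₀ L := inferInstance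
  haveI : Algebra.IsIntegral K (K ⊗[k₀] L) := inferInstance
  have key : ∀ (Q : Ideal (K ⊗[k₀] L)) [Q.IsPrime], Q = nilradical (K ⊗[k₀] L) := by
    intro Q hQ
    have hle : nilradical (K ⊗[k₀] L) ≤ Q := nilradical_le_prime Q
    by_contra hne
    have hlt : nilradical (K ⊗[k₀] L) < Q := lt_of_le_of_ne hle (fun h => hne h.symm)
    haveI := hN
    have h1 := Ideal.IsIntegral.comap_lt_comap (R := K) hlt
    have h2 : Q.comap (algebraMap K (K ⊗[k₀] L)) = ⊥ :=
      ((Ideal.eq_bot_or_top _).resolve_right (Ideal.comap_ne_top _ hQ.ne_top))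
    rw [h2] at h1
    exact not_lt_bot h1
  rw [key P, key P']

end Unique

section Inj

variable (k k' κ F : Type u) [Field k] [Field k'] [Algebra k k'] [Field κ] [Algebra k' κ]
  [Field F] [Algebra k F] [Algebra.IsAlgebraic k F]

/-- primes of `(k' ⊗ F) ⊗_{k'} κ` are determined by their contractions to `k' ⊗ F`,
`k'` separably closed in `κ` -/
theorem prime_eq_of_comap_eq
    (hsc : ∀ α : κ, IsSeparable k' α → α ∈ Set.range (algebraMap k' κ))
    (Q Q' : Ideal ((k' ⊗[k] F) ⊗[k'] κ)) [Q.IsPrime] [Q'.IsPrime]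
    (h : Q.comap (Algebra.TensorProduct.includeLeftRingHom) =
      Q'.comap (Algebra.TensorProduct.includeLeftRingHom)) : Q = Q' := by
  let R := k' ⊗[k] F
  let p : Ideal R := Q.comap (Algebra.TensorProduct.includeLeftRingHom)
  haveI : p.IsPrime := Ideal.comap_isPrime _ _
  obtain ⟨P, hP, hQP⟩ := exists_comap_toFib k' R κ p Q rfl
  obtain ⟨P', hP', hQP'⟩ := exists_comap_toFib k' R κ p Q' h.symm
  haveI : Algebra.IsIntegral k F := inferInstance
  haveI : Algebra.IsIntegral k' R := inferInstance
  haveI : Algebra.IsIntegral k' (R ⧸ p) := inferInstance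
  haveI : Algebra.IsAlgebraic k' (R ⧸ p) := inferInstance
  haveI : Algebra.IsAlgebraic k' p.ResidueField :=
    Algebra.IsAlgebraic.trans k' (R ⧸ p) p.ResidueField
  have := prime_unique k' κ p.ResidueField hsc P P'
  rw [hQP, hQP', this]

variable [Algebra k κ] [IsScalarTower k k' κ]

/-- `(k' ⊗ F) ⊗_{k'} κ ≃ κ ⊗ F` -/
noncomputable def towerEquiv : ((k' ⊗[k] F) ⊗[k'] κ) ≃+* κ ⊗[k] F :=
  (Algebra.TensorProduct.comm k' (k' ⊗[k] F) κ).toRingEquiv.trans
    (Algebra.TensorProduct.cancelBaseChange k k' k' κ F).toRingEquiv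

/-- `k' ⊗ F → κ ⊗ F` -/
noncomputable def jmap : k' ⊗[k] F →ₐ[k] κ ⊗[k] F :=
  Algebra.TensorProduct.map (IsScalarTower.toAlgHom k k' κ) (AlgHom.id k F)

omit [Algebra.IsAlgebraic k F] in
theorem towerEquiv_includeLeft (x : k' ⊗[k] F) :
    towerEquiv k k' κ F (Algebra.TensorProduct.includeLeftRingHom x) = jmap k k' κ F x := by
  induction x using TensorProduct.induction_on with
  | zero => simp
  | tmul s b =>
    simp [towerEquiv, jmap, Algebra.TensorProduct.cancelBaseChange_tmul]
    rw [Algebra.smul_def, mul_one]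
  | add x y hx hy => simp only [map_add, hx, hy]

/-- `Spec (κ ⊗ F) → Spec (k' ⊗ F)` is injective, `k'` separably closed in `κ`, `F/k`
algebraic -/
theorem comap_jmap_injective
    (hsc : ∀ α : κ, IsSeparable k' α → α ∈ Set.range (algebraMap k' κ)) :
    Function.Injective (PrimeSpectrum.comap (jmap k k' κ F).toRingHom) := by
  intro P P' hPP'
  let e := towerEquiv k k' κ F
  have hQ : (P.asIdeal.comap e.toRingHom).comap Algebra.TensorProduct.includeLeftRingHom =
      (P'.asIdeal.comap e.toRingHom).comap Algebra.TensorProduct.includeLeftRingHom := by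
    have h1 : ∀ I : Ideal (κ ⊗[k] F),
        (I.comap e.toRingHom).comap Algebra.TensorProduct.includeLeftRingHom =
          I.comap (jmap k k' κ F).toRingHom := by
      intro I
      ext x
      simp only [Ideal.mem_comap]
      have := towerEquiv_includeLeft k k' κ F x
      change e (Algebra.TensorProduct.includeLeftRingHom x) ∈ I ↔ jmap k k' κ F x ∈ I
      rw [this]
    rw [h1, h1]
    exact congrArg PrimeSpectrum.asIdeal hPP'
  have := prime_eq_of_comap_eq k k' κ F hsc _ _ hQ
  apply PrimeSpectrum.ext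
  have h2 := congrArg (Ideal.comap e.symm.toRingHom) this
  rw [Ideal.comap_comap, Ideal.comap_comap] at h2
  have h3 : e.toRingHom.comp e.symm.toRingHom = RingHom.id _ := by
    apply RingHom.ext
    intro x
    exact e.apply_symm_apply x
  rw [h3, Ideal.comap_id, Ideal.comap_id] at h2
  exact h2

/-- `κ ⊗ F` has at most `[k' : k]` primes -/
theorem card_primeSpectrum_tensor_le
    (hsc : ∀ α : κ, IsSeparable k' α → α ∈ Set.range (algebraMap k' κ))
    [FiniteDimensional k k'] :
    Finite (PrimeSpectrum (κ ⊗[k] F)) ∧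
      Nat.card (PrimeSpectrum (κ ⊗[k] F)) ≤ Module.finrank k k' := by
  obtain ⟨hfin, hcard⟩ := card_primeSpectrum_le F (F ⊗[k] k')
  rw [Module.finrank_baseChange] at hcard
  let c : PrimeSpectrum (k' ⊗[k] F) → PrimeSpectrum (F ⊗[k] k') :=
    PrimeSpectrum.comap (Algebra.TensorProduct.comm k F k').toAlgHom.toRingHom
  have hc : Function.Injective c :=
    PrimeSpectrum.comap_injective_of_surjective _ (Algebra.TensorProduct.comm k F k').surjective
  have hinj : Function.Injective (c ∘ PrimeSpectrum.comap (jmap k k' κ F).toRingHom) :=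
    hc.comp (comap_jmap_injective k k' κ F hsc)
  haveI := hfin
  refine ⟨Finite.of_injective _ hinj, ?_⟩
  exact (Nat.card_le_card_of_injective _ hinj).trans hcard

end Inj

end Groth.Agent.Lib.Helper6.FibCount
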