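import Mathlib
import Groth.Agent.Lib.Helper20ResFld

set_option autoImplicit false
universe u

open CategoryTheory CategoryTheory.Limits AlgebraicGeometry

namespace Groth.Agent.Lib.Helper20.ResFld

/-- residue field map with a propositional base point -/
noncomputable def resMap {X S : Scheme.{u}} (f : X ⟶ S) {x : X} {s : S} (h : f x = s) :
    S.residueField s ⟶ X.residueField x :=
  (S.residueFieldCongr h).inv ≫ f.residueFieldMap x

theorem resMap_rfl {X S : Scheme.{u}} (f : X ⟶ S) (x : X) :
    resMap f (rfl : f x = f x) = f.residueFieldMap x := by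
  simp [resMap]

theorem resMap_comp {X Y S : Scheme.{u}} (f : X ⟶ Y) (g : Y ⟶ S) {x : X} {y : Y} {s : S}
    (hx : f x = y) (hy : g y = s) (h : (f ≫ g) x = s) :
    resMap (f ≫ g) h = resMap g hy ≫ resMap f hx := by
  subst hx
  subst hy
  simp [resMap, Scheme.residueFieldMap_comp]

theorem resMap_congr {X S : Scheme.{u}} {f f' : X ⟶ S} (e : f = f') {x : X} {s : S}
    (h : f x = s) (h' : f' x = s) : resMap f h = resMap f' h' := by
  subst e
  rfl

theorem resMap_pullback {X Y S : Scheme.{u}} {f : X ⟶ S} {g : Y ⟶ S} (w : ↑(pullback f g))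
    {x : X} {y : Y} {s : S} (h1 : pullback.fst f g w = x) (h2 : pullback.snd f g w = y)
    (hx : f x = s) (hy : g y = s) :
    resMap f hx ≫ resMap (pullback.fst f g) h1 = resMap g hy ≫ resMap (pullback.snd f g) h2 := by
  have e1 : (pullback.fst f g ≫ f) w = s := by rw [Scheme.Hom.comp_apply, h1, hx]
  have e2 : (pullback.snd f g ≫ g) w = s := by rw [Scheme.Hom.comp_apply, h2, hy]
  rw [← resMap_comp _ _ h1 hx e1, ← resMap_comp _ _ h2 hy e2]
  exact resMap_congr pullback.condition _ _

theorem resMap_injective {X S : Scheme.{u}} (f : X ⟶ S) {x : X} {s : S} (h : f x = s) :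
    Function.Injective (resMap f h) := (resMap f h).hom.injective

theorem resMap_bijective {X S : Scheme.{u}} (f : X ⟶ S) {x : X} {s : S} (h : f x = s)
    (hb : Function.Bijective (f.residueFieldMap x)) : Function.Bijective (resMap f h) := by
  subst h
  rwa [resMap_rfl]

/-- Generation lemma in `resMap` form. -/
theorem subfield_eq_top' {X Y S : Scheme.{u}} {f : X ⟶ S} {g : Y ⟶ S} (w : ↑(pullback f g))
    {x : X} {y : Y} (h1 : pullback.fst f g w = x) (h2 : pullback.snd f g w = y)
    (F : Subfield ((pullback f g).residueField w))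
    (hF1 : ∀ a, resMap (pullback.fst f g) h1 a ∈ F)
    (hF2 : ∀ b, resMap (pullback.snd f g) h2 b ∈ F) : F = ⊤ := by
  subst h1
  subst h2
  rw [resMap_rfl] at hF1 hF2
  exact subfield_eq_top w F hF1 hF2

/-- purely inseparable ring homomorphisms of fields, in elementary form -/
def PInsep {K L : Type*} [Field K] [Field L] (φ : K →+* L) : Prop :=
  ∀ y : L, ∃ n : ℕ, y ^ (ringExpChar K ^ n) ∈ φ.range

theorem pInsep_iff {K L : Type*} [Field K] [Field L] (φ : K →+* L) :
    PInsep φ ↔ (letI := φ.toAlgebra; IsPurelyInseparable K L) := by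
  let _ : Algebra K L := φ.toAlgebra
  exact (isPurelyInseparable_iff_pow_mem K (ringExpChar K)).symm

/-- Criterion for pure inseparability of `κ(y) → κ(w)` for a point `w` of a fibre product. -/
theorem pInsep_snd {X Y S : Scheme.{u}} {f : X ⟶ S} {g : Y ⟶ S} (w : ↑(pullback f g))
    {x : X} {y : Y} (h1 : pullback.fst f g w = x) (h2 : pullback.snd f g w = y)
    (H : ∀ a : X.residueField x, ∃ n : ℕ,
      (resMap (pullback.fst f g) h1 a) ^ (ringExpChar (Y.residueField y) ^ n) ∈
        (resMap (pullback.snd f g) h2).hom.range) :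
    PInsep (resMap (pullback.snd f g) h2).hom := by
  let _ : Algebra (Y.residueField y) ((pullback f g).residueField w) :=
    (resMap (pullback.snd f g) h2).hom.toAlgebra
  have hF : (perfectClosure (Y.residueField y) ((pullback f g).residueField w)).toSubfield = ⊤ := by
    apply subfield_eq_top' w h1 h2
    · intro a
      exact H a
    · intro b
      exact ⟨0, b, by simp; rfl⟩
  intro z
  have : z ∈ (perfectClosure (Y.residueField y) ((pullback f g).residueField w)).toSubfield := by
    rw [hF]; trivial
  exact this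

end Groth.Agent.Lib.Helper20.ResFld

namespace Groth.Agent.Lib.Helper20.ResFld

open IsLocalRing in
theorem finite_residueField_of_quasiFinite {R B : Type*} [CommRing R] [CommRing B]
    [IsLocalRing R] [IsLocalRing B] [Algebra R B] [IsLocalHom (algebraMap R B)]
    [Algebra.QuasiFinite R B] : Module.Finite (ResidueField R) (ResidueField B) := by
  have h1 : Algebra.QuasiFinite R (ResidueField B) :=
    .of_surjective_algHom (IsScalarTower.toAlgHom R B (ResidueField B)) residue_surjective
  have h2 : Algebra.QuasiFinite (ResidueField R) (ResidueField B) := .of_restrictScalars R _ _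
  exact .of_quasiFinite

theorem finite_residueFieldMap_of_quasiFiniteAt {X S : Scheme.{u}} (f : X ⟶ S) (x : X)
    (hx : f.QuasiFiniteAt x) : (f.residueFieldMap x).hom.Finite := by
  algebraize [(f.stalkMap x).hom]
  have : IsLocalHom (algebraMap (S.presheaf.stalk (f x)) (X.presheaf.stalk x)) :=
    inferInstanceAs <| IsLocalHom (f.stalkMap x).hom
  have hq : Algebra.QuasiFinite (S.presheaf.stalk (f x)) (X.presheaf.stalk x) := by
    rw [← RingHom.quasiFinite_algebraMap, RingHom.algebraMap_toAlgebra]
    exact hx
  have h := finite_residueField_of_quasiFinite (R := S.presheaf.stalk (f x))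
    (B := X.presheaf.stalk x)
  have halg : (f.residueFieldMap x).hom.toAlgebra =
      (inferInstance : Algebra (IsLocalRing.ResidueField (S.presheaf.stalk (f x)))
        (IsLocalRing.ResidueField (X.presheaf.stalk x))) := by
    refine Algebra.algebra_ext _ _ fun y ↦ ?_
    obtain ⟨y, rfl⟩ := IsLocalRing.residue_surjective y
    rfl
  change @Module.Finite (S.residueField (f x)) (X.residueField x) _ _
    (f.residueFieldMap x).hom.toAlgebra.toModule
  rw [halg]
  exact h

theorem finite_resMap_of_quasiFiniteAt {X S : Scheme.{u}} (f : X ⟶ S) {x : X} {s : S}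
    (h : f x = s) (hx : f.QuasiFiniteAt x) : (resMap f h).hom.Finite := by
  subst h
  rw [resMap_rfl]
  exact finite_residueFieldMap_of_quasiFiniteAt f x hx

end Groth.Agent.Lib.Helper20.ResFld

namespace Groth.Agent.Lib.Helper20.ResFld

theorem PInsep.of_comm {K L K' L' : Type*} [Field K] [Field L] [Field K'] [Field L']
    {φ : K →+* L} {φ' : K' →+* L'} (α : K →+* K') (β : L →+* L')
    (hβ : Function.Surjective β) (h : β.comp φ = φ'.comp α) (H : PInsep φ) : PInsep φ' := by
  intro y'
  obtain ⟨y, rfl⟩ := hβ y'
  obtain ⟨n, a, ha⟩ := H y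
  have : ExpChar K' (ringExpChar K) := expChar_of_injective_ringHom α.injective _
  rw [ringExpChar.eq K' (ringExpChar K)]
  refine ⟨n, α a, ?_⟩
  rw [← map_pow, ← ha]
  exact (congr($h a)).symm

theorem finite_of_comm {K L K' L' : Type*} [Field K] [Field L] [Field K'] [Field L']
    {φ : K →+* L} {φ' : K' →+* L'} (α : K →+* K') (β : L →+* L')
    (hβ : Function.Surjective β) (h : β.comp φ = φ'.comp α) (H : φ.Finite) : φ'.Finite := by
  have h1 : (β.comp φ).Finite := (RingHom.Finite.of_surjective β hβ).comp H |> fun h => by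
    simpa using h
  rw [h] at h1
  exact RingHom.Finite.of_comp_finite h1

end Groth.Agent.Lib.Helper20.ResFld
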