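import Mathlib
import Groth.Prelude.Def_MoreMor
import Groth.Agent.Lib.Helper20ResMap

set_option autoImplicit false
universe u

namespace Groth.Agent.Lib.Helper2.Weight

open AlgebraicGeometry CategoryTheory Limits IsLocalRing

/-- separable degree of the residue field extension at `x`. -/
noncomputable def sd {U V : Scheme.{u}} (π : U ⟶ V) (x : U) : ℕ :=
  letI := (π.residueFieldMap x).hom.toAlgebra
  Field.finSepDegree (V.residueField (π x)) (U.residueField x)

theorem fibreIntegral_eq {U V : Scheme.{u}} (π : U ⟶ V) (w : U → ℤ) (v : V) :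
    MoreMor.fibreIntegral π w v = ∑ᶠ x : {x : U // π x = v}, w x.1 * (sd π x.1 : ℤ) := rfl

/-- every morphism from the spectrum of a field through `z` factors through `Spec κ(z)`. -/
theorem exists_factor {K : Type u} [Field K] {X : Scheme.{u}} (s : Spec (.of K) ⟶ X) (z : X)
    (hz : s (closedPoint K) = z) :
    ∃ φ : X.residueField z ⟶ .of K, s = Spec.map φ ≫ X.fromSpecResidueField z := by
  subst hz
  exact ⟨_, (Scheme.descResidueField_stalkClosedPointTo_fromSpecResidueField K X s).symm⟩

theorem eq_closedPoint {K : Type u} [Field K] (t : Spec (.of K)) : t = closedPoint K :=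
  haveI : Subsingleton (PrimeSpectrum K) := inferInstance
  Subsingleton.elim (α := PrimeSpectrum K) _ _

section L
variable {Ω : Type u} [Field Ω] [IsAlgClosed Ω] {P : Scheme.{u}} (q : P ⟶ Spec (.of Ω))
  [LocallyQuasiFinite q]

/-- the structure map `Ω → κ(z)`. -/
noncomputable def iota (z : P) : CommRingCat.of Ω ⟶ P.residueField z :=
  Spec.preimage (P.fromSpecResidueField z ≫ q)

omit [IsAlgClosed Ω] [LocallyQuasiFinite q] in
theorem iota_spec (z : P) : Spec.map (iota q z) = P.fromSpecResidueField z ≫ q :=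
  Spec.map_preimage _

theorem iota_bijective (z : P) : Function.Bijective (iota q z).hom := by
  have h1 : LocallyQuasiFinite (Spec.map (iota q z)) := by
    rw [iota_spec]; infer_instance
  rw [HasRingHomProperty.Spec_iff (P := @LocallyQuasiFinite)] at h1
  algebraize [(iota q z).hom]
  have h2 : Algebra.QuasiFinite Ω (P.residueField z) := by
    rw [← RingHom.quasiFinite_algebraMap, RingHom.algebraMap_toAlgebra]
    exact h1
  have h3 : Module.Finite Ω (P.residueField z) := .of_quasiFinite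
  have : Algebra.IsIntegral Ω (P.residueField z) := inferInstance
  exact IsAlgClosed.algebraMap_bijective_of_isIntegral (k := Ω) (K := P.residueField z)

/-- sections of `q` through the same point agree. -/
theorem section_unique (s₁ s₂ : Spec (.of Ω) ⟶ P) (h₁ : s₁ ≫ q = 𝟙 _) (h₂ : s₂ ≫ q = 𝟙 _)
    (h : s₁ (closedPoint Ω) = s₂ (closedPoint Ω)) : s₁ = s₂ := by
  obtain ⟨z, hz⟩ : ∃ z, s₂ (closedPoint Ω) = z := ⟨_, rfl⟩
  obtain ⟨φ₁, rfl⟩ := exists_factor s₁ z (h.trans hz)
  obtain ⟨φ₂, rfl⟩ := exists_factor s₂ z hz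
  have e₁ : iota q z ≫ φ₁ = 𝟙 _ := by
    apply Spec.map_injective
    rw [Spec.map_comp, iota_spec, ← Category.assoc, h₁, Spec.map_id]
  have e₂ : iota q z ≫ φ₂ = 𝟙 _ := by
    apply Spec.map_injective
    rw [Spec.map_comp, iota_spec, ← Category.assoc, h₂, Spec.map_id]
  have : φ₁ = φ₂ := by
    ext t
    obtain ⟨r, rfl⟩ := (iota_bijective q z).2 t
    have a₁ := congrArg (fun f => f.hom r) e₁
    have a₂ := congrArg (fun f => f.hom r) e₂
    simp only [CommRingCat.hom_comp, RingHom.coe_comp, Function.comp_apply] at a₁ a₂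
    rw [a₁, a₂]
  rw [this]

/-- every point lies on a section. -/
theorem exists_section (z : P) : ∃ s : Spec (.of Ω) ⟶ P, s ≫ q = 𝟙 _ ∧ s (closedPoint Ω) = z := by
  let e := RingEquiv.ofBijective (iota q z).hom (iota_bijective q z)
  let φ : P.residueField z ⟶ .of Ω := CommRingCat.ofHom e.symm.toRingHom
  have hφ : iota q z ≫ φ = 𝟙 _ := by
    ext r
    exact e.symm_apply_apply r
  refine ⟨Spec.map φ ≫ P.fromSpecResidueField z, ?_, ?_⟩
  · rw [Category.assoc, ← iota_spec, ← Spec.map_comp, hφ, Spec.map_id]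
  · rw [Scheme.Hom.comp_apply, Scheme.fromSpecResidueField_apply]

end L

section C
variable {U V : Scheme.{u}} (π : U ⟶ V) {Ω : Type u} [Field Ω]
  (a : Spec (.of Ω) ⟶ V) (x : U) (θ : V.residueField (π x) ⟶ .of Ω)
  (hθ : Spec.map θ ≫ V.fromSpecResidueField (π x) = a)

include hθ in
theorem compat (φ : U.residueField x ⟶ .of Ω) (hφ : π.residueFieldMap x ≫ φ = θ) :
    (Spec.map φ ≫ U.fromSpecResidueField x) ≫ π = 𝟙 _ ≫ a := by
  rw [Category.id_comp, Category.assoc, ← Scheme.Hom.SpecMap_residueFieldMap_fromSpecResidueField,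
    ← Category.assoc, ← Spec.map_comp, hφ, hθ]

include hθ in
theorem compat_conv (φ : U.residueField x ⟶ .of Ω)
    (h : (Spec.map φ ≫ U.fromSpecResidueField x) ≫ π = a) : π.residueFieldMap x ≫ φ = θ := by
  rw [Category.assoc, ← Scheme.Hom.SpecMap_residueFieldMap_fromSpecResidueField,
    ← Category.assoc, ← Spec.map_comp, ← hθ, cancel_mono] at h
  exact Spec.map_injective h

/-- the section of the geometric fibre attached to an embedding. -/
noncomputable def sec (φ : U.residueField x ⟶ .of Ω) (hφ : π.residueFieldMap x ≫ φ = θ) :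
    Spec (.of Ω) ⟶ pullback π a :=
  pullback.lift (Spec.map φ ≫ U.fromSpecResidueField x) (𝟙 _) (compat π a x θ hθ φ hφ)

theorem sec_fst_apply (φ : U.residueField x ⟶ .of Ω) (hφ : π.residueFieldMap x ≫ φ = θ) :
    pullback.fst π a (sec π a x θ hθ φ hφ (closedPoint Ω)) = x := by
  rw [← Scheme.Hom.comp_apply, sec, pullback.lift_fst, Scheme.Hom.comp_apply,
    Scheme.fromSpecResidueField_apply]

variable [IsAlgClosed Ω] [LocallyQuasiFinite π]

theorem bij : Function.Bijective
    (fun φ : {φ : U.residueField x ⟶ .of Ω // π.residueFieldMap x ≫ φ = θ} =>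
      (⟨sec π a x θ hθ φ.1 φ.2 (closedPoint Ω), sec_fst_apply π a x θ hθ φ.1 φ.2⟩ :
        {z : ↥(pullback π a) // pullback.fst π a z = x})) := by
  constructor
  · rintro ⟨φ₁, h₁⟩ ⟨φ₂, h₂⟩ h
    have h' : sec π a x θ hθ φ₁ h₁ (closedPoint Ω) = sec π a x θ hθ φ₂ h₂ (closedPoint Ω) :=
      congrArg Subtype.val h
    have hs := section_unique (pullback.snd π a) _ _ (pullback.lift_snd _ _ _)
      (pullback.lift_snd _ _ _) h'
    have := congrArg (fun s => s ≫ pullback.fst π a) hs
    simp only [pullback.lift_fst, cancel_mono] at this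
    exact Subtype.ext (Spec.map_injective this)
  · rintro ⟨z, hz⟩
    obtain ⟨s, hs1, hs2⟩ := exists_section (pullback.snd π a) z
    obtain ⟨φ, hφ⟩ := exists_factor (s ≫ pullback.fst π a) x
      (by rw [Scheme.Hom.comp_apply, hs2, hz])
    have hφ' : π.residueFieldMap x ≫ φ = θ := by
      apply compat_conv π a x θ hθ
      rw [← hφ, Category.assoc, pullback.condition, ← Category.assoc, hs1, Category.id_comp]
    refine ⟨⟨φ, hφ'⟩, Subtype.ext ?_⟩
    have : sec π a x θ hθ φ hφ' = s := by
      apply pullback.hom_ext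
      · rw [sec, pullback.lift_fst, hφ]
      · rw [sec, pullback.lift_snd, hs1]
    change sec π a x θ hθ φ hφ' (closedPoint Ω) = z
    rw [this, hs2]

end C

section C2
variable {U V : Scheme.{u}} (π : U ⟶ V) [LocallyQuasiFinite π] {Ω : Type u} [Field Ω]
  [IsAlgClosed Ω] (a : Spec (.of Ω) ⟶ V)

theorem finite_residue (x : U) :
    letI := (π.residueFieldMap x).hom.toAlgebra
    Module.Finite (V.residueField (π x)) (U.residueField x) := by
  letI := (π.residueFieldMap x).hom.toAlgebra
  have h := Groth.Agent.Lib.Helper20.ResFld.finite_residueFieldMap_of_quasiFiniteAt π x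
    (π.quasiFiniteAt x)
  exact h

theorem sd_ne_zero (x : U) : sd π x ≠ 0 := by
  letI := (π.residueFieldMap x).hom.toAlgebra
  haveI := finite_residue π x
  unfold sd
  exact NeZero.ne _

theorem card_fibre_eq_sd (x : U) (hx : π x = a (closedPoint Ω)) :
    Nat.card {z : ↥(pullback π a) // pullback.fst π a z = x} = sd π x := by
  obtain ⟨θ, hθ⟩ := exists_factor a (π x) hx.symm
  rw [← Nat.card_eq_of_bijective _ (bij π a x θ hθ.symm)]
  letI := (π.residueFieldMap x).hom.toAlgebra
  letI := θ.hom.toAlgebra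
  haveI := finite_residue π x
  unfold sd
  rw [Field.finSepDegree_eq_of_isAlgClosed (V.residueField (π x)) (U.residueField x) Ω]
  refine Nat.card_congr ?_
  refine ⟨fun φ => AlgHom.mk φ.1.hom (fun r => congrArg (fun f => f.hom r) φ.2),
    fun f => ⟨CommRingCat.ofHom f.toRingHom, ?_⟩, fun φ => rfl, fun f => rfl⟩
  ext r
  exact f.commutes r

theorem finite_fibre (x : U) : Finite {z : ↥(pullback π a) // pullback.fst π a z = x} := by
  by_cases hx : π x = a (closedPoint Ω)
  · apply Nat.finite_of_card_ne_zero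
    rw [card_fibre_eq_sd π a x hx]
    exact sd_ne_zero π x
  · have : IsEmpty {z : ↥(pullback π a) // pullback.fst π a z = x} := by
      refine ⟨fun ⟨z, hz⟩ => hx ?_⟩
      rw [← hz, ← Scheme.Hom.comp_apply, pullback.condition, Scheme.Hom.comp_apply,
        eq_closedPoint (pullback.snd π a z)]
    infer_instance

end C2

section G
variable {U V : Scheme.{u}} (π : U ⟶ V) [LocallyQuasiFinite π] {Ω : Type u} [Field Ω]
  [IsAlgClosed Ω] (a : Spec (.of Ω) ⟶ V)

omit [LocallyQuasiFinite π] [IsAlgClosed Ω] in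
theorem fst_mem_fibre (z : ↥(pullback π a)) : π (pullback.fst π a z) = a (closedPoint Ω) := by
  rw [← Scheme.Hom.comp_apply, pullback.condition, Scheme.Hom.comp_apply,
    eq_closedPoint (pullback.snd π a z)]

theorem finite_geomFibre (hfin : (π ⁻¹' {a (closedPoint Ω)}).Finite) :
    Finite ↥(pullback π a) := by
  haveI : Finite {x : U // π x = a (closedPoint Ω)} := hfin.to_subtype
  let ρ : ↥(pullback π a) → {x : U // π x = a (closedPoint Ω)} :=
    fun z => ⟨pullback.fst π a z, fst_mem_fibre π a z⟩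
  haveI hfib : ∀ x : {x : U // π x = a (closedPoint Ω)}, Finite {z // ρ z = x} := fun x => by
    have := finite_fibre π a x.1
    refine Finite.of_equiv {z : ↥(pullback π a) // pullback.fst π a z = x.1}
      (Equiv.subtypeEquivRight (fun z => ?_))
    simp only [ρ, Subtype.ext_iff]
  exact Finite.of_equiv _ (Equiv.sigmaFiberEquiv ρ)

theorem fibreIntegral_eq_geom (w : U → ℤ) (hfin : (π ⁻¹' {a (closedPoint Ω)}).Finite) :
    MoreMor.fibreIntegral π w (a (closedPoint Ω)) =
      ∑ᶠ z : ↥(pullback π a), w (pullback.fst π a z) := by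
  classical
  haveI : Finite {x : U // π x = a (closedPoint Ω)} := hfin.to_subtype
  let ρ : ↥(pullback π a) → {x : U // π x = a (closedPoint Ω)} :=
    fun z => ⟨pullback.fst π a z, fst_mem_fibre π a z⟩
  haveI hfib : ∀ x : {x : U // π x = a (closedPoint Ω)}, Finite {z // ρ z = x} := fun x => by
    have := finite_fibre π a x.1
    refine Finite.of_equiv {z : ↥(pullback π a) // pullback.fst π a z = x.1}
      (Equiv.subtypeEquivRight (fun z => ?_))
    simp only [ρ, Subtype.ext_iff]
  haveI := finite_geomFibre π a hfin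
  letI := Fintype.ofFinite {x : U // π x = a (closedPoint Ω)}
  letI := Fintype.ofFinite ↥(pullback π a)
  letI := fun x => Fintype.ofFinite {z // ρ z = x}
  rw [fibreIntegral_eq, finsum_eq_sum_of_fintype, finsum_eq_sum_of_fintype,
    ← (Equiv.sigmaFiberEquiv ρ).sum_comp, Fintype.sum_sigma]
  refine Fintype.sum_congr _ _ (fun x => ?_)
  have h1 : ∀ z : {z // ρ z = x}, w (pullback.fst π a ((Equiv.sigmaFiberEquiv ρ) ⟨x, z⟩)) =
      w x.1 := fun z => by
    have := congrArg Subtype.val z.2
    exact congrArg w this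
  rw [Fintype.sum_congr _ _ h1, Finset.sum_const, Finset.card_univ, nsmul_eq_mul, mul_comm]
  congr 2
  rw [← card_fibre_eq_sd π a x.1 x.2, ← Nat.card_eq_fintype_card]
  refine Nat.card_congr (Equiv.subtypeEquivRight (fun z => ?_))
  simp only [ρ, Subtype.ext_iff]

end G

/-- a geometric point over `v`. -/
noncomputable def geomPt {V : Scheme.{u}} (v : V) :
    Spec (.of (AlgebraicClosure (V.residueField v))) ⟶ V :=
  Spec.map (CommRingCat.ofHom (algebraMap (V.residueField v)
    (AlgebraicClosure (V.residueField v)))) ≫ V.fromSpecResidueField v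

theorem geomPt_apply {V : Scheme.{u}} (v : V) (t) : geomPt v t = v := by
  rw [geomPt, Scheme.Hom.comp_apply, Scheme.fromSpecResidueField_apply]

theorem fibreIntegral_baseChange {U V U' V' : Scheme.{u}} (π : U ⟶ V) [LocallyQuasiFinite π]
    (hfin : ∀ v : V, (π ⁻¹' {v}).Finite)
    (π' : U' ⟶ V') (h : U' ⟶ U) (g : V' ⟶ V) (hc : IsPullback h π' π g) (w : U → ℤ) (v' : V') :
    MoreMor.fibreIntegral π' (w ∘ h) v' = MoreMor.fibreIntegral π w (g v') ∧
      (π' ⁻¹' {v'}).Finite := by
  haveI : LocallyQuasiFinite π' := MorphismProperty.of_isPullback (P := @LocallyQuasiFinite) hc ‹_›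
  let Ω := AlgebraicClosure (V'.residueField v')
  let a' : Spec (.of Ω) ⟶ V' := geomPt v'
  have hv' : a' (closedPoint Ω) = v' := geomPt_apply v' _
  have hv : (a' ≫ g) (closedPoint Ω) = g v' := by rw [Scheme.Hom.comp_apply, hv']
  have hpb : IsPullback (pullback.fst π' a' ≫ h) (pullback.snd π' a') π (a' ≫ g) :=
    (IsPullback.of_hasPullback π' a').paste_horiz hc
  let e := hpb.isoPullback
  have he1 : e.hom ≫ pullback.fst π (a' ≫ g) = pullback.fst π' a' ≫ h := hpb.isoPullback_hom_fst
  have hfinP : Finite ↥(pullback π (a' ≫ g)) :=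
    finite_geomFibre π (a' ≫ g) (by rw [hv]; exact hfin _)
  have hfinP' : Finite ↥(pullback π' a') := Finite.of_equiv _ e.hom.homeomorph.toEquiv.symm
  have hfin' : (π' ⁻¹' {v'}).Finite := by
    have hr : Set.range a' = {v'} := by
      ext t
      constructor
      · rintro ⟨s, rfl⟩
        exact geomPt_apply v' s
      · rintro rfl
        exact ⟨closedPoint Ω, hv'⟩
    rw [← hr, ← Scheme.Pullback.range_fst]
    exact Set.finite_range _
  refine ⟨?_, hfin'⟩
  have e1 : MoreMor.fibreIntegral π' (w ∘ h) v' =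
      MoreMor.fibreIntegral π' (w ∘ h) (a' (closedPoint Ω)) := congrArg _ hv'.symm
  have e2 : MoreMor.fibreIntegral π w (g v') =
      MoreMor.fibreIntegral π w ((a' ≫ g) (closedPoint Ω)) := congrArg _ hv.symm
  rw [e1, e2, fibreIntegral_eq_geom π' a' (w ∘ h) (by rw [hv']; exact hfin'),
    fibreIntegral_eq_geom π (a' ≫ g) w (by rw [hv]; exact hfin _),
    ← finsum_comp_equiv e.hom.homeomorph.toEquiv]
  refine finsum_congr (fun z => ?_)
  change w (h (pullback.fst π' a' z)) = w (pullback.fst π (a' ≫ g) (e.hom z))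
  rw [← Scheme.Hom.comp_apply, ← Scheme.Hom.comp_apply, he1]

/-- separable degree is unchanged by precomposition with a morphism inducing an isomorphism
of residue fields (e.g. an open immersion). -/
theorem sd_comp_of_bijective {U₀ P V : Scheme.{u}} (j : U₀ ⟶ P) (p : P ⟶ V) (x : U₀)
    (hj : Function.Bijective (j.residueFieldMap x)) : sd (j ≫ p) x = sd p (j x) := by
  unfold sd
  letI := (p.residueFieldMap (j x)).hom.toAlgebra
  letI : Algebra (V.residueField (p (j x))) (U₀.residueField x) :=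
    ((j ≫ p).residueFieldMap x).hom.toAlgebra
  let e : P.residueField (j x) ≃+* U₀.residueField x :=
    RingEquiv.ofBijective (j.residueFieldMap x).hom hj
  have hcomm : ∀ r : V.residueField (p (j x)),
      e (algebraMap _ (P.residueField (j x)) r) = algebraMap _ (U₀.residueField x) r := by
    intro r
    change (j.residueFieldMap x).hom ((p.residueFieldMap (j x)).hom r) =
      ((j ≫ p).residueFieldMap x).hom r
    rw [Scheme.residueFieldMap_comp]
    rfl
  let e' : P.residueField (j x) ≃ₐ[V.residueField (p (j x))] U₀.residueField x :=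
    { e with commutes' := hcomm }
  exact (Field.finSepDegree_eq_of_equiv (V.residueField (p (j x))) (P.residueField (j x))
    (U₀.residueField x) e').symm

theorem sd_comp_openImmersion {U₀ P V : Scheme.{u}} (j : U₀ ⟶ P) [IsOpenImmersion j] (p : P ⟶ V)
    (x : U₀) : sd (j ≫ p) x = sd p (j x) :=
  sd_comp_of_bijective j p x (ConcreteCategory.bijective_of_isIso _)

/-- set-based fibre integral. -/
noncomputable def fI {P V : Scheme.{u}} (p : P ⟶ V) (w' : P → ℤ) (A : Set P) (v : V) : ℤ :=
  ∑ᶠ x ∈ {x | p x = v} ∩ A, w' x * (sd p x : ℤ)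

theorem fibreIntegral_openImmersion {U₀ P V : Scheme.{u}} (j : U₀ ⟶ P) [IsOpenImmersion j]
    (p : P ⟶ V) (w' : P → ℤ) (v : V) :
    MoreMor.fibreIntegral (j ≫ p) (w' ∘ j) v = fI p w' (Set.range j) v := by
  rw [fibreIntegral_eq, fI]
  have h1 : ({x | p x = v} ∩ Set.range j) = j '' {x | (j ≫ p) x = v} := by
    ext y
    constructor
    · rintro ⟨hy, x, rfl⟩
      exact ⟨x, hy, rfl⟩
    · rintro ⟨x, hx, rfl⟩
      exact ⟨hx, x, rfl⟩
  rw [h1, finsum_mem_image (j.isOpenEmbedding.injective.injOn),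
    ← finsum_set_coe_eq_finsum_mem]
  refine finsum_congr (fun x => ?_)
  change w' (j x.1) * _ = _
  rw [sd_comp_openImmersion]

theorem fibreIntegral_opens {P V : Scheme.{u}} (A : P.Opens) (p : P ⟶ V) (w' : P → ℤ) (v : V) :
    MoreMor.fibreIntegral (A.ι ≫ p) (fun u => w' (A.ι u)) v = fI p w' A v := by
  have := fibreIntegral_openImmersion A.ι p w' v
  rw [Scheme.Opens.range_ι] at this
  exact this

theorem fI_congr_set {P V : Scheme.{u}} (p : P ⟶ V) (w' : P → ℤ) (A B : Set P) (v : V)
    (h : {x | p x = v} ∩ A = {x | p x = v} ∩ B) : fI p w' A v = fI p w' B v := by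
  rw [fI, fI, h]

theorem fI_union {P V : Scheme.{u}} (p : P ⟶ V) (w' : P → ℤ) (A B : Set P) (v : V)
    (hA : ({x | p x = v} ∩ A).Finite) (hB : ({x | p x = v} ∩ B).Finite)
    (hd : Disjoint ({x | p x = v} ∩ A) ({x | p x = v} ∩ B)) :
    fI p w' (A ∪ B) v = fI p w' A v + fI p w' B v := by
  rw [fI, fI, fI, Set.inter_union_distrib_left, finsum_mem_union hd hA hB]

theorem fI_empty {P V : Scheme.{u}} (p : P ⟶ V) (w' : P → ℤ) (v : V) : fI p w' ∅ v = 0 := by
  simp [fI]

theorem fI_baseChange {P P' V V' : Scheme.{u}} (p : P ⟶ V) (p' : P' ⟶ V') (h : P' ⟶ P)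
    (g : V' ⟶ V) (hc : IsPullback h p' p g) (A : P.Opens) [IsFinite (A.ι ≫ p)] (w' : P → ℤ)
    (v' : V') : fI p' (w' ∘ h) (h ⁻¹ᵁ A) v' = fI p w' A (g v') := by
  have hsq : IsPullback (h ∣_ A) ((h ⁻¹ᵁ A).ι ≫ p') (A.ι ≫ p) g :=
    (isPullback_morphismRestrict h A).paste_vert hc
  have K1 := (fibreIntegral_baseChange (A.ι ≫ p)
    (fun v => Scheme.Hom.finite_preimage_singleton (A.ι ≫ p) v) ((h ⁻¹ᵁ A).ι ≫ p') (h ∣_ A) g hsq
    (fun u => w' (A.ι u)) v').1
  rw [← fibreIntegral_opens, ← fibreIntegral_opens, ← K1]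
  congr 1
  funext u
  change w' (h ((h ⁻¹ᵁ A).ι u)) = w' (A.ι ((h ∣_ A) u))
  rw [← Scheme.Hom.comp_apply, ← Scheme.Hom.comp_apply, morphismRestrict_ι]

end Groth.Agent.Lib.Helper2.Weight
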