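import Mathlib
import Groth.Agent.Lib.Helper20EtFinPart2
import Groth.Agent.Lib.Helper20EtSectionsCI

set_option autoImplicit false
set_option linter.unusedSectionVars false
universe u

open CategoryTheory CategoryTheory.Limits AlgebraicGeometry

namespace Groth.Agent.Lib.Helper20.EtSections

variable {X S : Scheme.{u}} (f : X ⟶ S)

/-- An open of `X_U`, finite over `U`, whose points over `u` are exactly those mapping to `t`. -/
def FinPartData {U : Scheme.{u}} (g : U ⟶ S) (u : U) (t : X) : Prop :=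
  ∃ V : (pullback f g).Opens, IsFinite (V.ι ≫ pullback.snd f g) ∧
    ∀ w : ↥(pullback f g), pullback.snd f g w = u → (w ∈ V ↔ pullback.fst f g w = t)

theorem isFinite_preimage_bcMap {U U' : Scheme.{u}} (g : U ⟶ S) (h : U' ⟶ U)
    (V : (pullback f g).Opens) [IsFinite (V.ι ≫ pullback.snd f g)] :
    IsFinite (((bcMap f g h) ⁻¹ᵁ V).ι ≫ pullback.snd f (h ≫ g)) :=
  MorphismProperty.of_isPullback (P := @IsFinite)
    ((isPullback_morphismRestrict (bcMap f g h) V).paste_vert (isPullback_bcMap f g h)) ‹_›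

variable {f}

theorem FinPartData.baseChange {U U' : Scheme.{u}} {g : U ⟶ S} {u : U} {t : X}
    (hd : FinPartData f g u t) (h : U' ⟶ U) (u' : U') (hu' : h u' = u) :
    FinPartData f (h ≫ g) u' t := by
  obtain ⟨V, hV1, hV2⟩ := hd
  refine ⟨(bcMap f g h) ⁻¹ᵁ V, isFinite_preimage_bcMap f g h V, ?_⟩
  intro w hw
  have := hV2 (bcMap f g h w) (by rw [bcMap_snd_apply, hw, hu'])
  rw [bcMap_fst_apply] at this
  exact this

variable (f) in
/-- Elementary étale neighbourhood of `s` over which all points of `T` have finite parts. -/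
def HasFinParts (s : S) (T : Set X) : Prop :=
  ∃ (U : Scheme.{u}) (g : U ⟶ S) (u : U), Etale g ∧ g u = s ∧
    Function.Bijective (g.residueFieldMap u) ∧ ∀ t ∈ T, FinPartData f g u t

theorem hasFinParts_empty (s : S) : HasFinParts f s ∅ := by
  refine ⟨S, 𝟙 S, s, inferInstance, rfl, ?_, ?_⟩
  · rw [Scheme.residueFieldMap_id]
    exact Function.bijective_id
  · intro t ht; exact ht.elim

theorem HasFinParts.union {s : S} {T₁ T₂ : Set X} (h₁ : HasFinParts f s T₁)
    (h₂ : HasFinParts f s T₂) : HasFinParts f s (T₁ ∪ T₂) := by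
  obtain ⟨U₁, g₁, u₁, hg₁, hu₁, hb₁, d₁⟩ := h₁
  obtain ⟨U₂, g₂, u₂, hg₂, hu₂, hb₂, d₂⟩ := h₂
  obtain ⟨u, hu1, hu2⟩ := Scheme.Pullback.exists_preimage_pullback (f := g₁) (g := g₂) u₁ u₂
    (hu₁.trans hu₂.symm)
  refine ⟨pullback g₁ g₂, pullback.fst g₁ g₂ ≫ g₁, u, inferInstance, ?_, ?_, ?_⟩
  · rw [Scheme.Hom.comp_apply, hu1, hu₁]
  · apply Groth.Agent.Lib.Helper20.ResFld.bijective_residueFieldMap_comp
    · apply Groth.Agent.Lib.Helper20.ResFld.bijective_fst_residueFieldMap
      rw [hu2]; exact hb₂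
    · rw [hu1]; exact hb₁
  · rintro t (ht | ht)
    · exact (d₁ t ht).baseChange (pullback.fst g₁ g₂) u hu1
    · have := (d₂ t ht).baseChange (pullback.snd g₁ g₂) u hu2
      rw [← pullback.condition] at this
      exact this

theorem hasFinParts_singleton [LocallyOfFiniteType f] (x : X) (hx : f.QuasiFiniteAt x) :
    HasFinParts f (f x) {x} := by
  obtain ⟨U, g, u, hg, hu, hbij, V, hVfin, hV⟩ :=
    Groth.Agent.Lib.Helper20.EtSplit.exists_etale_finite_part' f (rfl : f x = f x) hx
  refine ⟨U, g, u, hg, hu, hbij, ?_⟩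
  rintro t rfl
  exact ⟨V, hVfin, hV⟩

theorem hasFinParts_of_finite [LocallyOfFiniteType f] (s : S) (T : Set X) (hT : T.Finite)
    (h : ∀ t ∈ T, f t = s ∧ f.QuasiFiniteAt t) : HasFinParts f s T := by
  induction T, hT using Set.Finite.induction_on with
  | empty => exact hasFinParts_empty s
  | @insert a T' ha hT' ih =>
    have ih' := ih (fun t ht => h t (Set.mem_insert_of_mem a ht))
    obtain ⟨hfa, hqa⟩ := h a (Set.mem_insert a T')
    have h1 : HasFinParts f s {a} := by
      rw [← hfa]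
      exact hasFinParts_singleton a hqa
    have := h1.union ih'
    rwa [Set.singleton_union] at this

end Groth.Agent.Lib.Helper20.EtSections
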