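import Mathlib
import Groth.Agent.Lib.Helper20ResFld

set_option autoImplicit false
universe u

open CategoryTheory CategoryTheory.Limits AlgebraicGeometry

namespace Groth.Agent.Lib.Helper20.ResFld

set_option backward.isDefEq.respectTransparency false in
/-- Compatibility of residue field maps for `Spec A₁ ⟶ Spec A ⟶ S`. -/
theorem residueFieldMap_SpecMap_comp {S : Scheme.{u}} {A A₁ : CommRingCat.{u}} (j : Spec A ⟶ S)
    (φ : A ⟶ A₁) (s : S) (u : PrimeSpectrum A₁) (p : PrimeSpectrum A)
    (hpu : p.asIdeal = u.asIdeal.comap φ.hom) (hjp : j p = s) (hu : (Spec.map φ ≫ j) u = s) :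
    (S.residueFieldCongr hu).inv ≫ (Spec.map φ ≫ j).residueFieldMap u ≫
        (Scheme.Spec.residueFieldIso A₁ u).hom =
      ((S.residueFieldCongr hjp).inv ≫ j.residueFieldMap p ≫
        (Scheme.Spec.residueFieldIso A p).hom) ≫
        CommRingCat.ofHom (Ideal.ResidueField.map p.asIdeal u.asIdeal φ.hom hpu) := by
  obtain rfl : p = u.comap φ.hom := PrimeSpectrum.ext hpu
  rw [Scheme.residueFieldMap_comp]
  simp only [Category.assoc]
  rw [residueFieldMap_SpecMap φ u]
  rfl

end Groth.Agent.Lib.Helper20.ResFld
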