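import Mathlib
import Groth.Agent.Lib.Helper20ResFldK
import Groth.Agent.Lib.Helper20EtResExt

set_option autoImplicit false
universe u

open CategoryTheory CategoryTheory.Limits AlgebraicGeometry

namespace Groth.Agent.Lib.Helper20.EtResExt

set_option backward.isDefEq.respectTransparency false in
/-- Scheme version: realise a finite separable extension of `κ(s)` by an étale neighbourhood.
Output in terms of ring homs. -/
theorem exists_etale_nbhd_residueField_equiv (S : Scheme.{u}) (s : S) (k : Type u) [Field k]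
    [Algebra (S.residueField s) k] [FiniteDimensional (S.residueField s) k]
    [Algebra.IsSeparable (S.residueField s) k] :
    ∃ (U : Scheme.{u}) (g : U ⟶ S) (u : U) (hu : g u = s), Etale g ∧
      ∃ e : U.residueField u ≃+* k, (e : U.residueField u →+* k).comp
        ((S.residueFieldCongr hu).inv ≫ g.residueFieldMap u).hom =
          algebraMap (S.residueField s) k := by
  obtain ⟨_, ⟨W, hW, rfl⟩, hsW, -⟩ := S.isBasis_affineOpens.exists_subset_of_mem_open
    (Set.mem_univ s) isOpen_univ
  let j := hW.fromSpec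
  let p : PrimeSpectrum Γ(S, W) := hW.primeIdealOf ⟨s, hsW⟩
  have hjp : j p = s := hW.fromSpec_primeIdealOf ⟨s, hsW⟩
  let ε : S.residueField s ⟶ .of p.asIdeal.ResidueField :=
    (S.residueFieldCongr hjp).inv ≫ j.residueFieldMap p ≫
      (Scheme.Spec.residueFieldIso Γ(S, W) p).hom
  have hε : IsIso ε := inferInstance
  let εe : S.residueField s ≃+* p.asIdeal.ResidueField := (asIso ε).commRingCatIsoToRingEquiv
  let _ : Algebra p.asIdeal.ResidueField k :=
    ((algebraMap (S.residueField s) k).comp εe.symm.toRingHom).toAlgebra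
  have hcomm : (algebraMap p.asIdeal.ResidueField k).comp εe.toRingHom =
      (RingEquiv.refl k).toRingHom.comp (algebraMap (S.residueField s) k) := by
    ext x
    change algebraMap (S.residueField s) k (εe.symm (εe x)) = _
    rw [RingEquiv.symm_apply_apply]
    rfl
  have hfd : FiniteDimensional p.asIdeal.ResidueField k :=
    Module.Finite.of_equiv_equiv εe (RingEquiv.refl k) hcomm
  have hsep : Algebra.IsSeparable p.asIdeal.ResidueField k :=
    Algebra.IsSeparable.of_equiv_equiv εe (RingEquiv.refl k) hcomm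
  obtain ⟨A₁, _, _, _, p₁, _, hp₁, e, he⟩ := exists_etale_residueField_equiv p.asIdeal k
  let φ : Γ(S, W) ⟶ .of A₁ := CommRingCat.ofHom (algebraMap Γ(S, W) A₁)
  have hφ : φ.hom.Etale := RingHom.etale_algebraMap.mpr ‹_›
  have : Etale (Spec.map φ) := HasRingHomProperty.Spec_iff.mpr hφ
  let u : PrimeSpectrum A₁ := ⟨p₁, ‹_›⟩
  have hpu : p.asIdeal = u.asIdeal.comap φ.hom := hp₁
  have hu : (Spec.map φ ≫ j) u = s := by
    rw [Scheme.Hom.comp_apply]
    have : Spec.map φ u = p := PrimeSpectrum.ext hp₁.symm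
    rw [this, hjp]
  have hK := Groth.Agent.Lib.Helper20.ResFld.residueFieldMap_SpecMap_comp j φ s u p hpu hjp hu
  let ι₁ := (Scheme.Spec.residueFieldIso (.of A₁) u).commRingCatIsoToRingEquiv
  refine ⟨Spec (.of A₁), Spec.map φ ≫ j, u, hu, inferInstance, ι₁.trans e, ?_⟩
  ext x
  have h1 := congr($hK x)
  change e (ι₁ (((S.residueFieldCongr hu).inv ≫ (Spec.map φ ≫ j).residueFieldMap u) x)) = _
  change (Scheme.Spec.residueFieldIso (.of A₁) u).hom
    (((S.residueFieldCongr hu).inv ≫ (Spec.map φ ≫ j).residueFieldMap u) x) =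
    Ideal.ResidueField.map p.asIdeal p₁ (algebraMap Γ(S, W) A₁) hp₁ (ε x) at h1
  change e ((Scheme.Spec.residueFieldIso (.of A₁) u).hom
    (((S.residueFieldCongr hu).inv ≫ (Spec.map φ ≫ j).residueFieldMap u) x)) = _
  rw [h1]
  have h2 := congr($he (ε x))
  change e (Ideal.ResidueField.map p.asIdeal p₁ (algebraMap Γ(S, W) A₁) hp₁ (ε x)) =
    algebraMap p.asIdeal.ResidueField k (ε x) at h2
  rw [h2]
  change algebraMap (S.residueField s) k (εe.symm (εe x)) = _
  rw [RingEquiv.symm_apply_apply]

end Groth.Agent.Lib.Helper20.EtResExt
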