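import Mathlib

set_option autoImplicit false
universe u

open Polynomial IntermediateField

namespace Groth.Agent.Lib.Helper20.FieldSplit

/-- Given finitely many finite extensions `K i / k`, there is a finite separable (Galois) `L / k`
such that in any common overfield, the image of `K i` is purely inseparable over the image of `L`,
in the sense that `q`-power iterates land in the image of `L`. -/
theorem exists_finite_separable_splitting (k : Type u) [Field k] {ι : Type*} [Finite ι]
    (K : ι → Type u) [∀ i, Field (K i)] [∀ i, Algebra k (K i)]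
    [∀ i, FiniteDimensional k (K i)] :
    ∃ (L : Type u) (_ : Field L) (_ : Algebra k L), FiniteDimensional k L ∧
      Algebra.IsSeparable k L ∧
      ∀ (i : ι) (Ω : Type u) [Field Ω] [Algebra k Ω] (σ : K i →ₐ[k] Ω) (τ : L →ₐ[k] Ω) (y : K i),
        ∃ n : ℕ, σ y ^ (ringExpChar k ^ n) ∈ τ.range := by
  let Ωb := AlgebraicClosure k
  let E : ∀ i, IntermediateField k (K i) := fun i => separableClosure k (K i)
  let N : ι → IntermediateField k Ωb := fun i => normalClosure k (E i) Ωb
  let L : IntermediateField k Ωb := ⨆ i, N i
  have hLnormal : Normal k L := IntermediateField.normal_iSup k Ωb N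
  have hNsep : ∀ i, Algebra.IsSeparable k (N i) := by
    intro i
    change Algebra.IsSeparable k (normalClosure k (E i) Ωb)
    rw [normalClosure_def]
    have : ∀ f : E i →ₐ[k] Ωb, Algebra.IsSeparable k f.fieldRange := fun f =>
      AlgEquiv.Algebra.isSeparable (AlgEquiv.ofInjectiveField f)
    exact IntermediateField.isSeparable_iSup k Ωb
  have hLsep : Algebra.IsSeparable k L := IntermediateField.isSeparable_iSup k Ωb
  have hLfin : FiniteDimensional k L := IntermediateField.finiteDimensional_iSup_of_finite
  refine ⟨L, inferInstance, inferInstance, hLfin, hLsep, ?_⟩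
  intro i Ω _ _ σ τ y
  have hq : ExpChar k (ringExpChar k) := inferInstance
  have hqE : ExpChar (E i) (ringExpChar k) := expChar_of_injective_algebraMap
    (algebraMap k (E i)).injective _
  obtain ⟨n, z, hz⟩ := IsPurelyInseparable.pow_mem (E i) (ringExpChar k) y
  refine ⟨n, ?_⟩
  rw [← map_pow, ← hz]
  -- `z ∈ E i`; embed into `L`
  let j : E i →ₐ[k] Ωb := IsAlgClosed.lift
  have hjL : j z ∈ L := by
    have h1 : j z ∈ N i := (AlgHom.fieldRange_le_normalClosure j) ⟨z, rfl⟩
    exact (le_iSup N i) h1
  let z' : L := ⟨j z, hjL⟩
  have hmin : minpoly k z' = minpoly k z := by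
    have h1 : minpoly k (z' : Ωb) = minpoly k z' := (minpoly.algebraMap_eq
      (algebraMap L Ωb).injective z')
    have h2 : minpoly k (j z) = minpoly k z := minpoly.algHom_eq j j.injective z
    rw [← h1]
    exact h2
  have hsplit : ((minpoly k z).map (algebraMap k L)).Splits := by
    rw [← hmin]
    exact Normal.splits hLnormal z'
  have hroot : σ (algebraMap (E i) (K i) z) ∈ (minpoly k z).rootSet Ω := by
    rw [mem_rootSet]
    refine ⟨minpoly.ne_zero (Algebra.IsIntegral.isIntegral z), ?_⟩
    have : σ (algebraMap (E i) (K i) z) = (σ.comp (E i).val) z := rfl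
    rw [this, aeval_algHom_apply, minpoly.aeval, map_zero]
  rw [← hsplit.image_rootSet τ] at hroot
  obtain ⟨r, -, hr⟩ := hroot
  exact ⟨r, hr⟩

end Groth.Agent.Lib.Helper20.FieldSplit
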