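import Mathlib
import Groth.Agent.Lib.Helper20ResMap
import Groth.Agent.Lib.Helper20FieldSplit
import Groth.Agent.Lib.Helper20EtResExtSch
import Groth.Agent.Lib.Helper20EtFinParts

set_option autoImplicit false
universe u

open CategoryTheory CategoryTheory.Limits AlgebraicGeometry

namespace Groth.Agent.Lib.Helper20.EtSections

open Groth.Agent.Lib.Helper20.ResFld

/-- hom-based version of the splitting-field lemma -/
theorem exists_finite_separable_splitting' (k : Type u) [Field k] {ι : Type*} [Finite ι]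
    (K : ι → Type u) [∀ i, Field (K i)] (j : ∀ i, k →+* K i) (hj : ∀ i, (j i).Finite) :
    ∃ (L : Type u) (_ : Field L) (_ : Algebra k L), FiniteDimensional k L ∧
      Algebra.IsSeparable k L ∧
      ∀ (i : ι) (Ω : Type u) [Field Ω] (σ : K i →+* Ω) (τ : L →+* Ω),
        σ.comp (j i) = τ.comp (algebraMap k L) →
        ∀ y : K i, ∃ n : ℕ, σ y ^ (ringExpChar k ^ n) ∈ τ.range := by
  let _ : ∀ i, Algebra k (K i) := fun i => (j i).toAlgebra
  have : ∀ i, FiniteDimensional k (K i) := fun i => hj i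
  obtain ⟨L, hL1, hL2, hfd, hsep, H⟩ :=
    Groth.Agent.Lib.Helper20.FieldSplit.exists_finite_separable_splitting k K
  refine ⟨L, hL1, hL2, hfd, hsep, ?_⟩
  intro i Ω _ σ τ hστ y
  let _ : Algebra k Ω := (τ.comp (algebraMap k L)).toAlgebra
  let σ' : K i →ₐ[k] Ω := { σ with commutes' := fun r => congr($hστ r) }
  let τ' : L →ₐ[k] Ω := { τ with commutes' := fun r => rfl }
  obtain ⟨n, r, hr⟩ := H i Ω σ' τ' y
  exact ⟨n, r, hr⟩

theorem pInsep_of_splitting {X S U U_L : Scheme.{u}} (f : X ⟶ S) (g_L : U_L ⟶ S) (h : U ⟶ U_L)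
    (g : U ⟶ S) (hg : g = h ≫ g_L)
    (s : S) (u_L : U_L) (hL : g_L u_L = s) (u : U) (hu : h u = u_L)
    {L : Type u} [Field L] [Algebra (S.residueField s) L] (e : U_L.residueField u_L ≃+* L)
    (he : (e : U_L.residueField u_L →+* L).comp (resMap g_L hL).hom = algebraMap _ L)
    (w : ↑(pullback f g)) (h2 : pullback.snd f g w = u) {x : X} (h1 : pullback.fst f g w = x)
    (hx : f x = s)
    (H : ∀ (Ω : Type u) [Field Ω] (σ : X.residueField x →+* Ω) (τ : L →+* Ω),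
      σ.comp (resMap f hx).hom = τ.comp (algebraMap _ L) →
      ∀ y, ∃ n : ℕ, σ y ^ (ringExpChar (S.residueField s) ^ n) ∈ τ.range) :
    PInsep (resMap (pullback.snd f g) h2).hom := by
  subst hg
  apply pInsep_snd w h1 h2
  intro a
  have hgu : (h ≫ g_L) u = s := by rw [Scheme.Hom.comp_apply, hu, hL]
  let τ : L →+* (pullback f (h ≫ g_L)).residueField w :=
    ((resMap (pullback.snd f (h ≫ g_L)) h2).hom.comp (resMap h hu).hom).comp
      (e.symm : L →+* U_L.residueField u_L)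
  have hτ : (resMap (pullback.fst f (h ≫ g_L)) h1).hom.comp (resMap f hx).hom =
      τ.comp (algebraMap _ L) := by
    have h3 := resMap_pullback w h1 h2 hx hgu
    rw [resMap_comp h g_L hu hL hgu] at h3
    ext r
    have h4 := congr($h3 r)
    simp only [CommRingCat.comp_apply] at h4
    change (resMap (pullback.fst f (h ≫ g_L)) h1) ((resMap f hx) r) =
      (resMap (pullback.snd f (h ≫ g_L)) h2) ((resMap h hu) (e.symm (algebraMap _ L r)))
    rw [h4, ← he]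
    change _ = (resMap (pullback.snd f (h ≫ g_L)) h2) ((resMap h hu) (e.symm (e ((resMap g_L hL) r))))
    rw [RingEquiv.symm_apply_apply]
  obtain ⟨n, r, hr⟩ := H _ (resMap (pullback.fst f (h ≫ g_L)) h1).hom τ hτ a
  have hq : ringExpChar (U.residueField u) = ringExpChar (S.residueField s) := by
    have : ExpChar (U.residueField u) (ringExpChar (S.residueField s)) :=
      expChar_of_injective_ringHom (resMap (h ≫ g_L) hgu).hom.injective _
    exact ringExpChar.eq _ _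
  rw [hq]
  exact ⟨n, (resMap h hu) (e.symm r), hr⟩

theorem quasiFiniteAt_of_mem_of_isFinite {Y U : Scheme.{u}} (p : Y ⟶ U) (V : Y.Opens)
    [IsFinite (V.ι ≫ p)] (w : Y) (hw : w ∈ V) : p.QuasiFiniteAt w := by
  obtain ⟨w', rfl⟩ : w ∈ Set.range V.ι := by rw [Scheme.Opens.range_ι]; exact hw
  rw [← Scheme.Hom.quasiFiniteAt_comp_iff_of_isOpenImmersion]
  exact Scheme.Hom.quasiFiniteAt _ _

theorem exists_etale_split {X S : Scheme.{u}} (f : X ⟶ S) [LocallyOfFiniteType f] (s : S)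
    (T : Set X) (hT : T.Finite) (hTs : ∀ t ∈ T, f t = s ∧ f.QuasiFiniteAt t) :
    ∃ (U : Scheme.{u}) (g : U ⟶ S) (u : U), Etale g ∧ g u = s ∧
      {w : ↥(pullback f g) | pullback.snd f g w = u ∧ pullback.fst f g w ∈ T}.Finite ∧
      ∀ w : ↥(pullback f g), pullback.snd f g w = u → pullback.fst f g w ∈ T →
        (∃ V : (pullback f g).Opens, w ∈ V ∧ IsFinite (V.ι ≫ pullback.snd f g) ∧
          ∀ w' : ↥(pullback f g), w' ∈ V → pullback.snd f g w' = u → w' = w) ∧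
        PInsep ((pullback.snd f g).residueFieldMap w).hom ∧
        ((pullback.snd f g).residueFieldMap w).hom.Finite := by
  have hTfin : Finite T := hT.to_subtype
  obtain ⟨L, _, _, hfd, hsep, HL⟩ := exists_finite_separable_splitting' (S.residueField s)
    (fun t : T => X.residueField t.1) (fun t => (resMap f (hTs t.1 t.2).1).hom)
    (fun t => finite_resMap_of_quasiFiniteAt f _ (hTs t.1 t.2).2)
  obtain ⟨U_L, g_L, u_L, hL, hgL, e, he⟩ :=
    Groth.Agent.Lib.Helper20.EtResExt.exists_etale_nbhd_residueField_equiv S s L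
  obtain ⟨U₀, g₀, u₀, hg₀, hu₀, hb₀, d₀⟩ := hasFinParts_of_finite (f := f) s T hT hTs
  obtain ⟨u₁, hu1L, hu10⟩ := Scheme.Pullback.exists_preimage_pullback (f := g_L) (g := g₀)
    u_L u₀ (hL.trans hu₀.symm)
  have hG₁ : (pullback.fst g_L g₀ ≫ g_L) u₁ = s := by rw [Scheme.Hom.comp_apply, hu1L, hL]
  have d₁ : ∀ t ∈ T, FinPartData f (pullback.fst g_L g₀ ≫ g_L) u₁ t := by
    intro t ht
    have := (d₀ t ht).baseChange (pullback.snd g_L g₀) u₁ hu10
    rwa [← pullback.condition] at this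
  have hF₁sub : ∀ w : ↥(pullback f (pullback.fst g_L g₀ ≫ g_L)),
      pullback.snd f (pullback.fst g_L g₀ ≫ g_L) w = u₁ →
      pullback.fst f (pullback.fst g_L g₀ ≫ g_L) w ∈ T →
      ∃ V : (pullback f (pullback.fst g_L g₀ ≫ g_L)).Opens,
        IsFinite (V.ι ≫ pullback.snd f (pullback.fst g_L g₀ ≫ g_L)) ∧ w ∈ V := by
    intro w hw1 hw2
    obtain ⟨V, hV1, hV2⟩ := d₁ _ hw2
    exact ⟨V, hV1, (hV2 w hw1).mpr rfl⟩
  have hF₁fin : {w : ↥(pullback f (pullback.fst g_L g₀ ≫ g_L)) |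
      pullback.snd f (pullback.fst g_L g₀ ≫ g_L) w = u₁ ∧
      pullback.fst f (pullback.fst g_L g₀ ≫ g_L) w ∈ T}.Finite := by
    choose! V hV1 hV2 using d₁
    have hfinT : ∀ t ∈ T, ((V t : Set ↥(pullback f (pullback.fst g_L g₀ ≫ g_L))) ∩
        pullback.snd f (pullback.fst g_L g₀ ≫ g_L) ⁻¹' {u₁}).Finite := by
      intro t ht
      have := hV1 t ht
      have hfin := Scheme.Hom.finite_preimage_singleton
        ((V t).ι ≫ pullback.snd f (pullback.fst g_L g₀ ≫ g_L)) u₁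
      apply (hfin.image (V t).ι).subset
      rintro w ⟨hwV, hw1⟩
      obtain ⟨w', rfl⟩ : w ∈ Set.range (V t).ι := by rw [Scheme.Opens.range_ι]; exact hwV
      exact ⟨w', hw1, rfl⟩
    apply (hT.biUnion hfinT).subset
    rintro w ⟨hw1, hw2⟩
    exact Set.mem_biUnion hw2 ⟨(hV2 _ hw2 w hw1).mpr rfl, hw1⟩
  have hlft : LocallyOfFiniteType (pullback.snd f (pullback.fst g_L g₀ ≫ g_L)) :=
    MorphismProperty.of_isPullback (P := @LocallyOfFiniteType)
      (IsPullback.of_hasPullback f (pullback.fst g_L g₀ ≫ g_L)) ‹_›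
  obtain ⟨U₂, g₂, u₂, hg₂, hu₂, hb₂, d₂⟩ :=
    hasFinParts_of_finite (f := pullback.snd f (pullback.fst g_L g₀ ≫ g_L)) u₁ _ hF₁fin (by
      rintro w ⟨hw1, hw2⟩
      obtain ⟨V, hVfin, hwV⟩ := hF₁sub w hw1 hw2
      exact ⟨hw1, quasiFiniteAt_of_mem_of_isFinite _ V w hwV⟩)
  have hgu : (g₂ ≫ pullback.fst g_L g₀ ≫ g_L) u₂ = s := by
    rw [Scheme.Hom.comp_apply, hu₂, hG₁]
  have sq := isPullback_bcMap f (pullback.fst g_L g₀ ≫ g_L) g₂
  have hθ1 : sq.isoPullback.hom ≫ pullback.fst _ g₂ = bcMap f (pullback.fst g_L g₀ ≫ g_L) g₂ :=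
    sq.isoPullback_hom_fst
  have hθ2 : sq.isoPullback.hom ≫ pullback.snd _ g₂ =
      pullback.snd f (g₂ ≫ pullback.fst g_L g₀ ≫ g_L) := sq.isoPullback_hom_snd
  have hkey : ∀ w : ↥(pullback f (g₂ ≫ pullback.fst g_L g₀ ≫ g_L)),
      pullback.snd f (g₂ ≫ pullback.fst g_L g₀ ≫ g_L) w = u₂ →
      pullback.fst f (g₂ ≫ pullback.fst g_L g₀ ≫ g_L) w ∈ T →
      pullback.snd f (pullback.fst g_L g₀ ≫ g_L) (bcMap f (pullback.fst g_L g₀ ≫ g_L) g₂ w) = u₁ ∧
      pullback.fst f (pullback.fst g_L g₀ ≫ g_L) (bcMap f (pullback.fst g_L g₀ ≫ g_L) g₂ w) ∈ T := by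
    intro w h1 h2
    refine ⟨by rw [bcMap_snd_apply, h1, hu₂], by rw [bcMap_fst_apply]; exact h2⟩
  have hinj : ∀ w w' : ↥(pullback f (g₂ ≫ pullback.fst g_L g₀ ≫ g_L)),
      pullback.snd f (g₂ ≫ pullback.fst g_L g₀ ≫ g_L) w = u₂ →
      pullback.snd f (g₂ ≫ pullback.fst g_L g₀ ≫ g_L) w' = u₂ →
      bcMap f (pullback.fst g_L g₀ ≫ g_L) g₂ w = bcMap f (pullback.fst g_L g₀ ≫ g_L) g₂ w' →
      w = w' := by
    intro w w' h1 h1' h2
    apply sq.isoPullback.hom.homeomorph.injective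
    apply eq_of_fst_eq_of_snd_eq (sq.isoPullback.hom w) (sq.isoPullback.hom w')
    · rw [← Scheme.Hom.comp_apply, ← Scheme.Hom.comp_apply, hθ1, h2]
    · rw [← Scheme.Hom.comp_apply, ← Scheme.Hom.comp_apply, hθ2, h1, h1']
    · have e3 : pullback.snd (pullback.snd f (pullback.fst g_L g₀ ≫ g_L)) g₂
          (sq.isoPullback.hom w') = u₂ := by
        rw [← Scheme.Hom.comp_apply, hθ2, h1']
      rw [e3]
      exact hb₂
  refine ⟨U₂, g₂ ≫ pullback.fst g_L g₀ ≫ g_L, u₂, inferInstance, hgu, ?_, ?_⟩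
  · apply Set.Finite.of_finite_image (f := bcMap f (pullback.fst g_L g₀ ≫ g_L) g₂)
      (hF₁fin.subset ?_) ?_
    · rintro _ ⟨w, ⟨h1, h2⟩, rfl⟩
      exact hkey w h1 h2
    · intro w hw w' hw' h
      exact hinj w w' hw.1 hw'.1 h
  · intro w hw1 hw2
    obtain ⟨V, hVfin, hV⟩ := d₂ _ (hkey w hw1 hw2)
    have hwV : w ∈ sq.isoPullback.hom ⁻¹ᵁ V := by
      change sq.isoPullback.hom w ∈ V
      rw [hV _ (by rw [← Scheme.Hom.comp_apply, hθ2, hw1]), ← Scheme.Hom.comp_apply, hθ1]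
    have hV'fin : IsFinite ((sq.isoPullback.hom ⁻¹ᵁ V).ι ≫
        pullback.snd f (g₂ ≫ pullback.fst g_L g₀ ≫ g_L)) := by
      have h5 : (sq.isoPullback.hom ⁻¹ᵁ V).ι ≫
          pullback.snd f (g₂ ≫ pullback.fst g_L g₀ ≫ g_L) =
          (sq.isoPullback.hom ∣_ V) ≫ V.ι ≫ pullback.snd _ g₂ := by
        rw [morphismRestrict_ι_assoc, hθ2]
      rw [h5]
      infer_instance
    refine ⟨⟨sq.isoPullback.hom ⁻¹ᵁ V, hwV, hV'fin, ?_⟩, ?_, ?_⟩
    · intro w' hw'V hw'1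
      apply hinj w' w hw'1 hw1
      have h3 : sq.isoPullback.hom w' ∈ V := hw'V
      rw [hV _ (by rw [← Scheme.Hom.comp_apply, hθ2, hw'1]), ← Scheme.Hom.comp_apply, hθ1] at h3
      exact h3
    · have hP := pInsep_of_splitting f g_L (g₂ ≫ pullback.fst g_L g₀)
        (g₂ ≫ pullback.fst g_L g₀ ≫ g_L) (by rw [Category.assoc]) s u_L hL u₂
        (by rw [Scheme.Hom.comp_apply, hu₂, hu1L]) e he w hw1 rfl (hTs _ hw2).1
        (HL ⟨_, hw2⟩)
      subst hw1
      rwa [resMap_rfl] at hP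
    · exact finite_residueFieldMap_of_quasiFiniteAt _ w
        (quasiFiniteAt_of_mem_of_isFinite _ (sq.isoPullback.hom ⁻¹ᵁ V) w hwV)

end Groth.Agent.Lib.Helper20.EtSections
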