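import Mathlib

set_option autoImplicit false
universe u

open CategoryTheory CategoryTheory.Limits AlgebraicGeometry

namespace Groth.Agent.Lib.Helper20.FinUnion

theorem isFinite_sup_of_isClosed {Y U : Scheme.{u}} (p : Y ⟶ U) (V₁ V₂ : Y.Opens)
    (h₁ : IsClosed (V₁ : Set Y)) [IsFinite (V₁.ι ≫ p)] [IsFinite (V₂.ι ≫ p)] :
    IsFinite ((V₁ ⊔ V₂).ι ≫ p) := by
  let V₂' : Y.Opens := ⟨(V₂ : Set Y) ∩ (V₁ : Set Y)ᶜ, V₂.2.inter h₁.isOpen_compl⟩
  have hle1 : V₁ ≤ V₁ ⊔ V₂ := le_sup_left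
  have hle2 : V₂' ≤ V₁ ⊔ V₂ := fun y hy => Or.inr hy.1
  have hle3 : V₂' ≤ V₂ := fun y hy => hy.1
  have hcompl : IsCompl (Y.homOfLE hle1).opensRange (Y.homOfLE hle2).opensRange := by
    rw [Scheme.opensRange_homOfLE, Scheme.opensRange_homOfLE, isCompl_iff, disjoint_iff,
      codisjoint_iff]
    constructor
    · ext y
      simp only [TopologicalSpace.Opens.coe_inf, Set.mem_inter_iff, SetLike.mem_coe,
        TopologicalSpace.Opens.coe_bot, Set.mem_empty_iff_false, iff_false, not_and]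
      intro hy1 hy2
      exact hy2.2 hy1
    · ext y
      simp only [TopologicalSpace.Opens.coe_sup, Set.mem_union, SetLike.mem_coe,
        TopologicalSpace.Opens.coe_top, Set.mem_univ, iff_true]
      by_cases hy : (V₁ ⊔ V₂).ι y ∈ V₁
      · exact Or.inl hy
      · right
        have hy' : (V₁ ⊔ V₂).ι y ∈ V₁ ⊔ V₂ := by
          have : (V₁ ⊔ V₂).ι y ∈ Set.range (V₁ ⊔ V₂).ι := ⟨y, rfl⟩
          rwa [Scheme.Opens.range_ι] at this
        rcases hy' with h | h
        · exact absurd h hy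
        · exact ⟨h, hy⟩
  obtain ⟨hc⟩ := nonempty_isColimit_binaryCofanMk_of_isCompl _ _ hcompl
  have hfin2 : IsFinite (V₂'.ι ≫ p) := by
    have hci : IsClosedImmersion (Y.homOfLE hle3) := by
      apply IsClosedImmersion.of_isPreimmersion
      have : Set.range (Y.homOfLE hle3) = V₂.ι ⁻¹' ((V₁ : Set Y)ᶜ) := by
        have h := congr(($(Scheme.opensRange_homOfLE (X := Y) hle3) : Set V₂))
        rw [Scheme.Hom.coe_opensRange] at h
        rw [h]
        ext y
        simp only [TopologicalSpace.Opens.map_coe, Set.mem_preimage, SetLike.mem_coe,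
          Set.mem_compl_iff]
        constructor
        · intro hy; exact hy.2
        · intro hy
          refine ⟨?_, hy⟩
          have : V₂.ι y ∈ Set.range V₂.ι := ⟨y, rfl⟩
          rwa [Scheme.Opens.range_ι] at this
      rw [this]
      have hc1 : IsClosed ((V₁ : Set Y)ᶜ) := by
        have : IsOpen (V₁ : Set Y) := V₁.2
        exact this.isClosed_compl
      exact hc1.preimage V₂.ι.continuous
    rw [← Y.homOfLE_ι hle3, Category.assoc]
    infer_instance
  let e : V₁.toScheme ⨿ V₂'.toScheme ≅ (V₁ ⊔ V₂).toScheme :=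
    (colimit.isColimit _).coconePointUniqueUpToIso hc
  have he1 : coprod.inl ≫ e.hom = Y.homOfLE hle1 :=
    (colimit.isColimit _).comp_coconePointUniqueUpToIso_hom hc ⟨WalkingPair.left⟩
  have he2 : coprod.inr ≫ e.hom = Y.homOfLE hle2 :=
    (colimit.isColimit _).comp_coconePointUniqueUpToIso_hom hc ⟨WalkingPair.right⟩
  have he : e.hom ≫ (V₁ ⊔ V₂).ι ≫ p = coprod.desc (V₁.ι ≫ p) (V₂'.ι ≫ p) := by
    apply coprod.hom_ext
    · rw [← Category.assoc, he1, coprod.inl_desc, ← Category.assoc, Scheme.homOfLE_ι]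
    · rw [← Category.assoc, he2, coprod.inr_desc, ← Category.assoc, Scheme.homOfLE_ι]
  have h3 : IsFinite (e.hom ≫ (V₁ ⊔ V₂).ι ≫ p) := by rw [he]; infer_instance
  have h4 : (V₁ ⊔ V₂).ι ≫ p = e.inv ≫ (e.hom ≫ (V₁ ⊔ V₂).ι ≫ p) := by
    rw [Iso.inv_hom_id_assoc]
  rw [h4]
  infer_instance

theorem isFinite_finsetSup_of_isClosed {Y U : Scheme.{u}} (p : Y ⟶ U) {K : Type*}
    (V : K → Y.Opens) (hc : ∀ k, IsClosed (V k : Set Y)) (hf : ∀ k, IsFinite ((V k).ι ≫ p))
    (s : Finset K) : IsFinite ((s.sup V).ι ≫ p) ∧ IsClosed ((s.sup V : Y.Opens) : Set Y) := by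
  classical
  induction s using Finset.induction_on with
  | empty =>
    rw [Finset.sup_empty]
    have : IsEmpty ((⊥ : Y.Opens) : Scheme.{u}) := ⟨fun x => x.2⟩
    exact ⟨inferInstance, by simp⟩
  | insert a s ha ih =>
    rw [Finset.sup_insert]
    have := hf a
    have := ih.1
    refine ⟨isFinite_sup_of_isClosed p (V a) (s.sup V) (hc a), ?_⟩
    rw [TopologicalSpace.Opens.coe_sup]
    exact (hc a).union ih.2

theorem isFinite_iSup_of_isClosed {Y U : Scheme.{u}} (p : Y ⟶ U) {K : Type*} [Finite K]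
    (V : K → Y.Opens) (hc : ∀ k, IsClosed (V k : Set Y)) (hf : ∀ k, IsFinite ((V k).ι ≫ p)) :
    IsFinite ((⨆ k, V k).ι ≫ p) ∧ IsClosed ((⨆ k, V k : Y.Opens) : Set Y) := by
  have := Fintype.ofFinite K
  have h := isFinite_finsetSup_of_isClosed p V hc hf Finset.univ
  rwa [Finset.sup_univ_eq_iSup] at h

/-- An open of `Y`, finite over `U`, is closed when `Y ⟶ U` is separated. -/
theorem isClosed_of_isFinite {Y U : Scheme.{u}} (p : Y ⟶ U) [IsSeparated p] (V : Y.Opens)
    [IsFinite (V.ι ≫ p)] : IsClosed (V : Set Y) := by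
  have : IsFinite V.ι := IsFinite.of_comp _ p
  have := V.ι.isClosedMap.isClosed_range
  rwa [Scheme.Opens.range_ι] at this

end Groth.Agent.Lib.Helper20.FinUnion
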