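import Mathlib
import Groth.Agent.Lib.Helper20EtSplitPI
import Groth.Agent.Lib.Helper20FinUnion

set_option autoImplicit false
set_option linter.unusedSectionVars false
universe u

open CategoryTheory CategoryTheory.Limits AlgebraicGeometry
open Groth.Agent.Lib.Helper20.ResFld

namespace Groth.Agent.Lib.Helper20.EtSections

/-- the image in `U` of the intersection of a finite-over-`U` open with a closed set is closed -/
theorem isClosed_image_inter {Y U : Scheme.{u}} (p : Y ⟶ U) (V : Y.Opens)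
    [IsFinite (V.ι ≫ p)] (C : Set Y) (hC : IsClosed C) :
    IsClosed (p '' ((V : Set Y) ∩ C)) := by
  have h1 : p '' ((V : Set Y) ∩ C) = (V.ι ≫ p) '' (V.ι ⁻¹' C) := by
    ext y
    constructor
    · rintro ⟨z, ⟨hzV, hzC⟩, rfl⟩
      obtain ⟨z', rfl⟩ : z ∈ Set.range V.ι := by rw [Scheme.Opens.range_ι]; exact hzV
      exact ⟨z', hzC, rfl⟩
    · rintro ⟨z', hz', rfl⟩
      refine ⟨V.ι z', ⟨?_, hz'⟩, rfl⟩
      have : V.ι z' ∈ Set.range V.ι := ⟨z', rfl⟩
      rwa [Scheme.Opens.range_ι] at this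
  rw [h1]
  exact (V.ι ≫ p).isClosedMap _ (hC.preimage V.ι.continuous)

theorem bcMap_isOpenImmersion {X S U U' : Scheme.{u}} (f : X ⟶ S) (g : U ⟶ S) (h : U' ⟶ U)
    [IsOpenImmersion h] : IsOpenImmersion (bcMap f g h) :=
  MorphismProperty.of_isPullback (P := @IsOpenImmersion) (isPullback_bcMap f g h).flip ‹_›

/-- transport of pure inseparability / finiteness of the residue field extension of
`X_U ⟶ U` along an open immersion `U' ⟶ U`. -/
theorem pInsep_finite_bcMap {X S U U' : Scheme.{u}} (f : X ⟶ S) (g : U ⟶ S) (h : U' ⟶ U)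
    [IsOpenImmersion h] (w : ↥(pullback f (h ≫ g)))
    (H1 : PInsep ((pullback.snd f g).residueFieldMap (bcMap f g h w)).hom)
    (H2 : ((pullback.snd f g).residueFieldMap (bcMap f g h w)).hom.Finite) :
    PInsep ((pullback.snd f (h ≫ g)).residueFieldMap w).hom ∧
      ((pullback.snd f (h ≫ g)).residueFieldMap w).hom.Finite := by
  have := bcMap_isOpenImmersion f g h
  have hy : h (pullback.snd f (h ≫ g) w) = pullback.snd f g (bcMap f g h w) :=
    (bcMap_snd_apply f g h w).symm
  have hcomm : ((bcMap f g h).residueFieldMap w).hom.comp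
      ((pullback.snd f g).residueFieldMap (bcMap f g h w)).hom =
      ((pullback.snd f (h ≫ g)).residueFieldMap w).hom.comp (resMap h hy).hom := by
    have ha : (bcMap f g h ≫ pullback.snd f g) w = pullback.snd f g (bcMap f g h w) :=
      Scheme.Hom.comp_apply _ _ _
    have hb : (pullback.snd f (h ≫ g) ≫ h) w = pullback.snd f g (bcMap f g h w) :=
      (Scheme.Hom.comp_apply _ _ _).trans hy
    have e1 : resMap (bcMap f g h ≫ pullback.snd f g) ha =
        resMap (pullback.snd f (h ≫ g) ≫ h) hb :=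
      resMap_congr (bcMap_snd f g h) _ _
    have e2 := resMap_comp (bcMap f g h) (pullback.snd f g)
      (rfl : bcMap f g h w = bcMap f g h w) rfl ha
    have e3 := resMap_comp (pullback.snd f (h ≫ g)) h
      (rfl : pullback.snd f (h ≫ g) w = _) hy hb
    rw [e2, e3, resMap_rfl, resMap_rfl, resMap_rfl] at e1
    have := congrArg (fun φ => φ.hom) e1
    simpa using this
  have hβ : Function.Surjective ((bcMap f g h).residueFieldMap w).hom :=
    (bijective_residueFieldMap_of_isOpenImmersion (bcMap f g h) w).2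
  exact ⟨PInsep.of_comm _ _ hβ hcomm H1, finite_of_comm _ _ hβ hcomm H2⟩

/-- Separated version of `exists_etale_split`: the finite parts can be taken clopen and pairwise
disjoint. -/
theorem exists_etale_split_clopen {X S : Scheme.{u}} (f : X ⟶ S) [LocallyOfFiniteType f]
    [IsSeparated f] (s : S)
    (T : Set X) (hT : T.Finite) (hTs : ∀ t ∈ T, f t = s ∧ f.QuasiFiniteAt t) :
    ∃ (U : Scheme.{u}) (g : U ⟶ S) (u : U), Etale g ∧ g u = s ∧
      {w : ↥(pullback f g) | pullback.snd f g w = u ∧ pullback.fst f g w ∈ T}.Finite ∧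
      ∃ V : ↥(pullback f g) → (pullback f g).Opens,
      (∀ w w' : ↥(pullback f g), pullback.snd f g w = u → pullback.fst f g w ∈ T →
        pullback.snd f g w' = u → pullback.fst f g w' ∈ T →
        ((V w : Set ↥(pullback f g)) ∩ V w').Nonempty → w = w') ∧
      ∀ w : ↥(pullback f g), pullback.snd f g w = u → pullback.fst f g w ∈ T →
        w ∈ V w ∧ IsClopen (V w : Set ↥(pullback f g)) ∧
        IsFinite ((V w).ι ≫ pullback.snd f g) ∧
        (∀ w' : ↥(pullback f g), w' ∈ V w → pullback.snd f g w' = u → w' = w) ∧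
        PInsep ((pullback.snd f g).residueFieldMap w).hom ∧
        ((pullback.snd f g).residueFieldMap w).hom.Finite := by
  obtain ⟨U, g, u, hg, hu, hFfin, H⟩ := exists_etale_split f s T hT hTs
  have H1 : ∀ w : ↥(pullback f g), pullback.snd f g w = u → pullback.fst f g w ∈ T →
      ∃ V : (pullback f g).Opens, w ∈ V ∧ IsFinite (V.ι ≫ pullback.snd f g) ∧
        ∀ w' : ↥(pullback f g), w' ∈ V → pullback.snd f g w' = u → w' = w :=
    fun w a b => (H w a b).1
  choose! V hV1 hV2 hV3 using H1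
  have hsep : IsSeparated (pullback.snd f g) :=
    MorphismProperty.of_isPullback (P := @IsSeparated) (IsPullback.of_hasPullback f g) ‹_›
  have hVclosed : ∀ w : ↥(pullback f g), pullback.snd f g w = u → pullback.fst f g w ∈ T →
      IsClosed (V w : Set ↥(pullback f g)) := by
    intro w a b
    have := hV2 w a b
    exact Groth.Agent.Lib.Helper20.FinUnion.isClosed_of_isFinite (pullback.snd f g) (V w)
  set F : Set ↥(pullback f g) := {w | pullback.snd f g w = u ∧ pullback.fst f g w ∈ T} with hF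
  have hZclosed : ∀ w ∈ F, ∀ w' ∈ F, IsClosed (pullback.snd f g ''
      ((V w : Set ↥(pullback f g)) ∩ V w')) := by
    intro w hw w' hw'
    have := hV2 w hw.1 hw.2
    exact isClosed_image_inter (pullback.snd f g) (V w) _ (hVclosed w' hw'.1 hw'.2)
  have hclosed : IsClosed (⋃ w ∈ F, ⋃ w' ∈ F, ⋃ (_ : w ≠ w'), pullback.snd f g ''
      ((V w : Set ↥(pullback f g)) ∩ V w')) := by
    apply hFfin.isClosed_biUnion
    intro w hw
    apply hFfin.isClosed_biUnion
    intro w' hw'
    by_cases hww' : w = w'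
    · simp [hww']
    · simp only [ne_eq, hww', not_false_eq_true, Set.iUnion_true]
      exact hZclosed w hw w' hw'
  let U' : U.Opens := ⟨_, hclosed.isOpen_compl⟩
  have huU' : u ∈ U' := by
    change u ∉ _
    simp only [Set.mem_iUnion, not_exists]
    rintro w hw w' hw' hww' ⟨z, ⟨hz1, hz2⟩, hzu⟩
    exact hww' ((hV3 w hw.1 hw.2 z hz1 hzu).symm.trans (hV3 w' hw'.1 hw'.2 z hz2 hzu))
  have hur : u ∈ Set.range U'.ι := by rw [Scheme.Opens.range_ι]; exact huU'
  obtain ⟨u', hu'⟩ := hur
  have hmoi := bcMap_isOpenImmersion f g U'.ι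
  have hminj : Function.Injective (bcMap f g U'.ι) :=
    (bcMap f g U'.ι).isOpenEmbedding.injective
  have hmF : ∀ w : ↥(pullback f (U'.ι ≫ g)), pullback.snd f (U'.ι ≫ g) w = u' →
      pullback.fst f (U'.ι ≫ g) w ∈ T → bcMap f g U'.ι w ∈ F := by
    intro w h1 h2
    exact ⟨by rw [bcMap_snd_apply, h1, hu'], by rw [bcMap_fst_apply]; exact h2⟩
  refine ⟨U', U'.ι ≫ g, u', inferInstance, by rw [Scheme.Hom.comp_apply, hu', hu], ?_,
    fun w => (bcMap f g U'.ι) ⁻¹ᵁ V (bcMap f g U'.ι w), ?_, ?_⟩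
  · apply Set.Finite.of_finite_image (f := bcMap f g U'.ι) (hFfin.subset ?_) hminj.injOn
    rintro _ ⟨w, ⟨h1, h2⟩, rfl⟩
    exact hmF w h1 h2
  · rintro w w' h1 h2 h1' h2' ⟨z, hz1, hz2⟩
    apply hminj
    by_contra hne
    have hz1' : bcMap f g U'.ι z ∈ V (bcMap f g U'.ι w) := hz1
    have hz2' : bcMap f g U'.ι z ∈ V (bcMap f g U'.ι w') := hz2
    have hy : pullback.snd f g (bcMap f g U'.ι z) ∈ U' := by
      rw [bcMap_snd_apply]
      have : U'.ι (pullback.snd f (U'.ι ≫ g) z) ∈ Set.range U'.ι := ⟨_, rfl⟩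
      rwa [Scheme.Opens.range_ι] at this
    apply hy
    simp only [Set.mem_iUnion]
    exact ⟨_, hmF w h1 h2, _, hmF w' h1' h2', hne, _, ⟨hz1', hz2'⟩, rfl⟩
  · intro w h1 h2
    have hmw := hmF w h1 h2
    refine ⟨hV1 _ hmw.1 hmw.2, ?_, ?_, ?_, ?_⟩
    · have hc : IsClopen (V (bcMap f g U'.ι w) : Set ↥(pullback f g)) :=
        ⟨hVclosed _ hmw.1 hmw.2, (V (bcMap f g U'.ι w)).isOpen⟩
      exact hc.preimage (bcMap f g U'.ι).continuous
    · have := hV2 _ hmw.1 hmw.2
      exact isFinite_preimage_bcMap f g U'.ι (V (bcMap f g U'.ι w))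
    · intro z hz hzu
      apply hminj
      have hz' : bcMap f g U'.ι z ∈ V (bcMap f g U'.ι w) := hz
      exact hV3 _ hmw.1 hmw.2 _ hz' (by rw [bcMap_snd_apply, hzu, hu'])
    · exact pInsep_finite_bcMap f g U'.ι w (H _ hmw.1 hmw.2).2.1 (H _ hmw.1 hmw.2).2.2

end Groth.Agent.Lib.Helper20.EtSections
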