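import Mathlib
import Groth.Prelude.Def_MoreMor
import Groth.Agent.Lib.Helper2Weight
import Groth.Agent.Lib.Helper20EtSplitClopen
import Groth.Agent.Lib.Helper12Descent

set_option autoImplicit false
universe u

namespace Groth.Agent.Lib.Helper2.Weight

open AlgebraicGeometry CategoryTheory Limits IsLocalRing

/-- relative closedness: an open finite over `N` inside an open separated over `N`. -/
theorem exists_closed_of_finite_le {T B : Scheme.{u}} (p : T ⟶ B) (N : B.Opens) (Z W : T.Opens)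
    [IsFinite (Z.ι ≫ p)] [IsSeparated (W.ι ≫ p)] (hle : (Z : Set T) ∩ p ⁻¹' N ⊆ W) :
    ∃ C : Set T, IsClosed C ∧ (Z : Set T) ∩ p ⁻¹' N = (W : Set T) ∩ p ⁻¹' N ∩ C := by
  let Z₁ := (Z.ι ≫ p) ⁻¹ᵁ N
  let W₁ := (W.ι ≫ p) ⁻¹ᵁ N
  let eZ : (Z₁ : Scheme.{u}) ⟶ T := Z₁.ι ≫ Z.ι
  let eW : (W₁ : Scheme.{u}) ⟶ T := W₁.ι ≫ W.ι
  have hrZ : Set.range eZ = (Z : Set T) ∩ p ⁻¹' N := by
    ext x
    constructor
    · rintro ⟨y, rfl⟩
      refine ⟨?_, ?_⟩
      · have : Z.ι (Z₁.ι y) ∈ Set.range Z.ι := ⟨_, rfl⟩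
        rw [Scheme.Opens.range_ι] at this
        exact this
      · have : Z₁.ι y ∈ Set.range Z₁.ι := ⟨_, rfl⟩
        rw [Scheme.Opens.range_ι] at this
        exact this
    · rintro ⟨hx1, hx2⟩
      obtain ⟨y, rfl⟩ : x ∈ Set.range Z.ι := by rw [Scheme.Opens.range_ι]; exact hx1
      have : y ∈ Set.range Z₁.ι := by rw [Scheme.Opens.range_ι]; exact hx2
      obtain ⟨y', rfl⟩ := this
      exact ⟨y', rfl⟩
  have hrW : Set.range eW = (W : Set T) ∩ p ⁻¹' N := by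
    ext x
    constructor
    · rintro ⟨y, rfl⟩
      refine ⟨?_, ?_⟩
      · have : W.ι (W₁.ι y) ∈ Set.range W.ι := ⟨_, rfl⟩
        rw [Scheme.Opens.range_ι] at this
        exact this
      · have : W₁.ι y ∈ Set.range W₁.ι := ⟨_, rfl⟩
        rw [Scheme.Opens.range_ι] at this
        exact this
    · rintro ⟨hx1, hx2⟩
      obtain ⟨y, rfl⟩ : x ∈ Set.range W.ι := by rw [Scheme.Opens.range_ι]; exact hx1
      have : y ∈ Set.range W₁.ι := by rw [Scheme.Opens.range_ι]; exact hx2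
      obtain ⟨y', rfl⟩ := this
      exact ⟨y', rfl⟩
  have hsub : Set.range eZ ⊆ Set.range eW := by
    rw [hrZ, hrW]
    exact fun x hx => ⟨hle hx, hx.2⟩
  let j₁ : (Z₁ : Scheme.{u}) ⟶ W₁ := IsOpenImmersion.lift eW eZ hsub
  have hj₁ : j₁ ≫ eW = eZ := IsOpenImmersion.lift_fac _ _ _
  have hq : j₁ ≫ ((W.ι ≫ p) ∣_ N) = (Z.ι ≫ p) ∣_ N := by
    rw [← cancel_mono N.ι, Category.assoc, morphismRestrict_ι, morphismRestrict_ι,
      ← Category.assoc, ← Category.assoc]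
    exact congrArg (· ≫ p) hj₁
  have hfin : IsFinite j₁ := by
    refine MorphismProperty.of_postcomp (W := @IsFinite) (W' := @IsSeparated) j₁
      ((W.ι ≫ p) ∣_ N) inferInstance ?_
    rw [hq]
    infer_instance
  have hcl : IsClosed (Set.range j₁) := j₁.isClosedMap.isClosed_range
  refine ⟨closure ((Z : Set T) ∩ p ⁻¹' N), isClosed_closure, ?_⟩
  apply Set.Subset.antisymm
  · exact fun x hx => ⟨⟨hle hx, hx.2⟩, subset_closure hx⟩
  · rintro x ⟨hx1, hx2⟩
    rw [← hrW] at hx1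
    obtain ⟨y, rfl⟩ := hx1
    have hR : (Z : Set T) ∩ p ⁻¹' N = eW '' (Set.range j₁) := by
      rw [← hrZ, ← hj₁, Scheme.Hom.comp_base, TopCat.coe_comp, Set.range_comp]
    rw [hR] at hx2 ⊢
    have : y ∈ closure (Set.range j₁) := by
      rw [eW.isOpenEmbedding.isInducing.closure_eq_preimage_closure_image]
      exact hx2
    rw [hcl.closure_eq] at this
    exact ⟨y, this, rfl⟩

open Groth.Agent.Lib.Helper20.EtSections

/-- Decomposition of a finite open near a point of the base into given finite opens, each having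
at most one point over the base point. -/
theorem decomposition {T B : Scheme.{u}} (p : T ⟶ B) (W : T.Opens) [IsFinite (W.ι ≫ p)]
    {ι : Type*} [Finite ι] (Z : ι → T.Opens) [hZ : ∀ i, IsFinite ((Z i).ι ≫ p)] (b₀ : B)
    (h1 : ∀ i, ∀ x y, x ∈ Z i → y ∈ Z i → p x = b₀ → p y = b₀ → x = y)
    (h2 : ∀ x ∈ W, p x = b₀ → ∃ i, x ∈ Z i)
    (h3 : ∀ i j x, x ∈ Z i → x ∈ Z j → p x = b₀ → i = j) :
    ∃ (J : Set ι) (N : B.Opens), b₀ ∈ N ∧ ∀ b ∈ N,
      (∀ x ∈ W, p x = b → ∃ i ∈ J, x ∈ Z i) ∧ (∀ i ∈ J, ∀ x ∈ Z i, p x = b → x ∈ W) ∧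
      (∀ i ∈ J, ∀ j ∈ J, ∀ x, x ∈ Z i → x ∈ Z j → p x = b → i = j) := by
  classical
  let J : Set ι := {i | ∃ x, x ∈ Z i ∧ x ∈ W ∧ p x = b₀}
  have hJfin : J.Finite := Set.toFinite J
  -- first shrinking
  let C₁ : Set B := p '' ((W : Set T) ∩ (⋃ i ∈ J, (Z i : Set T))ᶜ)
  have hC₁ : IsClosed C₁ := isClosed_image_inter p W _
    (isOpen_biUnion (fun i _ => (Z i).2)).isClosed_compl
  let C₂ : ι → Set B := fun i => p '' ((Z i : Set T) ∩ (W : Set T)ᶜ)
  have hC₂ : ∀ i, IsClosed (C₂ i) := fun i => isClosed_image_inter p (Z i) _ W.2.isClosed_compl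
  have hb₁ : b₀ ∉ C₁ := by
    rintro ⟨x, ⟨hxW, hxn⟩, hx⟩
    obtain ⟨i, hi⟩ := h2 x hxW hx
    exact hxn (Set.mem_biUnion (show i ∈ J from ⟨x, hi, hxW, hx⟩) hi)
  have hb₂ : ∀ i ∈ J, b₀ ∉ C₂ i := by
    rintro i ⟨y, hyZ, hyW, hy⟩ ⟨x, ⟨hxZ, hxn⟩, hx⟩
    exact hxn (h1 i x y hxZ hyZ hx hy ▸ hyW)
  let N₁ : B.Opens := ⟨(C₁ ∪ ⋃ i ∈ J, C₂ i)ᶜ,
    (hC₁.union (hJfin.isClosed_biUnion (fun i _ => hC₂ i))).isOpen_compl⟩
  have hbN₁ : b₀ ∈ N₁ := by
    change b₀ ∉ _
    rintro (h | h)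
    · exact hb₁ h
    · obtain ⟨i, hi, hb⟩ := Set.mem_iUnion₂.mp h
      exact hb₂ i hi hb
  have hN₁a : ∀ b ∈ N₁, ∀ x ∈ W, p x = b → ∃ i ∈ J, x ∈ Z i := by
    intro b hb x hxW hx
    by_contra hcon
    apply hb
    left
    refine ⟨x, ⟨hxW, ?_⟩, hx⟩
    intro hmem
    obtain ⟨i, hi, hxi⟩ := Set.mem_iUnion₂.mp hmem
    exact hcon ⟨i, hi, hxi⟩
  have hN₁b : ∀ b ∈ N₁, ∀ i ∈ J, ∀ x ∈ Z i, p x = b → x ∈ W := by
    intro b hb i hi x hxZ hx
    by_contra hcon
    apply hb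
    right
    exact Set.mem_biUnion hi ⟨x, ⟨hxZ, hcon⟩, hx⟩
  -- relative closedness
  have hle : ∀ i ∈ J, ((Z i : T.Opens) : Set T) ∩ p ⁻¹' N₁ ⊆ W := by
    rintro i hi x ⟨hxZ, hxN⟩
    exact hN₁b (p x) hxN i hi x hxZ rfl
  have hex : ∀ i, ∃ C : Set T, IsClosed C ∧ (i ∈ J →
      ((Z i : T.Opens) : Set T) ∩ p ⁻¹' N₁ = (W : Set T) ∩ p ⁻¹' N₁ ∩ C) := by
    intro i
    by_cases hi : i ∈ J
    · obtain ⟨C, hC, hCe⟩ := exists_closed_of_finite_le p N₁ (Z i) W (hle i hi)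
      exact ⟨C, hC, fun _ => hCe⟩
    · exact ⟨∅, isClosed_empty, fun h => absurd h hi⟩
  choose C hC hCe using hex
  let C₃ : ι → ι → Set B := fun i j => p '' ((W : Set T) ∩ (C i ∩ C j))
  have hC₃ : ∀ i j, IsClosed (C₃ i j) := fun i j =>
    isClosed_image_inter p W _ ((hC i).inter (hC j))
  have hmemZ : ∀ i ∈ J, ∀ x, x ∈ W → p x ∈ N₁ → x ∈ C i → x ∈ Z i := by
    intro i hi x hxW hxN hxC
    have : x ∈ (W : Set T) ∩ p ⁻¹' N₁ ∩ C i := ⟨⟨hxW, hxN⟩, hxC⟩
    rw [← hCe i hi] at this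
    exact this.1
  have hmemC : ∀ i ∈ J, ∀ x, x ∈ Z i → p x ∈ N₁ → x ∈ W ∧ x ∈ C i := by
    intro i hi x hxZ hxN
    have : x ∈ ((Z i : T.Opens) : Set T) ∩ p ⁻¹' N₁ := ⟨hxZ, hxN⟩
    rw [hCe i hi] at this
    exact ⟨this.1.1, this.2⟩
  let D : Set B := ⋃ i ∈ J, ⋃ j ∈ J, ⋃ (_ : i ≠ j), C₃ i j
  have hD : IsClosed D := by
    refine hJfin.isClosed_biUnion (fun i _ => hJfin.isClosed_biUnion (fun j _ => ?_))
    by_cases hij : i = j
    · simp [hij]
    · simp only [ne_eq, hij, not_false_eq_true, Set.iUnion_true]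
      exact hC₃ i j
  have hbD : b₀ ∉ D := by
    intro h
    obtain ⟨i, hi, h⟩ := Set.mem_iUnion₂.mp h
    obtain ⟨j, hj, h⟩ := Set.mem_iUnion₂.mp h
    obtain ⟨hij, ⟨x, ⟨hxW, hxi, hxj⟩, hx⟩⟩ := Set.mem_iUnion.mp h
    have hxN : p x ∈ N₁ := hx ▸ hbN₁
    exact hij (h3 i j x (hmemZ i hi x hxW hxN hxi) (hmemZ j hj x hxW hxN hxj) hx)
  refine ⟨J, ⟨(N₁ : Set B) ∩ Dᶜ, N₁.2.inter hD.isOpen_compl⟩, ⟨hbN₁, hbD⟩, ?_⟩
  rintro b ⟨hbN, hbD'⟩
  refine ⟨hN₁a b hbN, hN₁b b hbN, ?_⟩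
  intro i hi j hj x hxi hxj hx
  by_contra hij
  apply hbD'
  have hxN : p x ∈ N₁ := hx ▸ hbN
  obtain ⟨hxW, hxCi⟩ := hmemC i hi x hxi hxN
  obtain ⟨-, hxCj⟩ := hmemC j hj x hxj hxN
  refine Set.mem_biUnion hi (Set.mem_biUnion hj (Set.mem_iUnion.mpr ⟨hij, ?_⟩))
  exact ⟨x, ⟨hxW, hxCi, hxCj⟩, hx⟩

theorem finite_fibre_inter_opens {T B : Scheme.{u}} (p : T ⟶ B) (Z : T.Opens)
    [IsFinite (Z.ι ≫ p)] (b : B) : ({x | p x = b} ∩ (Z : Set T)).Finite := by
  have h := Scheme.Hom.finite_preimage_singleton (Z.ι ≫ p) b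
  refine (h.image Z.ι).subset ?_
  rintro x ⟨hx, hxZ⟩
  obtain ⟨y, rfl⟩ : x ∈ Set.range Z.ι := by rw [Scheme.Opens.range_ι]; exact hxZ
  exact ⟨y, hx, rfl⟩

theorem fI_decomp {T B : Scheme.{u}} (p : T ⟶ B) (w' : T → ℤ) (W : Set T) {ι : Type*}
    (J : Set ι) (hJ : J.Finite) (Z : ι → Set T) (b : B)
    (hfin : ∀ i ∈ J, ({x | p x = b} ∩ Z i).Finite)
    (ha : ∀ x ∈ W, p x = b → ∃ i ∈ J, x ∈ Z i) (hb : ∀ i ∈ J, ∀ x ∈ Z i, p x = b → x ∈ W)
    (hc : ∀ i ∈ J, ∀ j ∈ J, ∀ x, x ∈ Z i → x ∈ Z j → p x = b → i = j) :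
    fI p w' W b = ∑ᶠ i ∈ J, fI p w' (Z i) b := by
  have hset : {x | p x = b} ∩ W = ⋃ i ∈ J, ({x | p x = b} ∩ Z i) := by
    ext x
    simp only [Set.mem_inter_iff, Set.mem_setOf_eq, Set.mem_iUnion, exists_prop]
    constructor
    · rintro ⟨hx, hxW⟩
      obtain ⟨i, hi, hxi⟩ := ha x hxW hx
      exact ⟨i, hi, hx, hxi⟩
    · rintro ⟨i, hi, hx, hxi⟩
      exact ⟨hx, hb i hi x hxi hx⟩
  have hdis : J.PairwiseDisjoint (fun i => {x | p x = b} ∩ Z i) := by
    intro i hi j hj hij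
    rw [Function.onFun, Set.disjoint_left]
    rintro x ⟨hx, hxi⟩ ⟨-, hxj⟩
    exact hij (hc i hi j hj x hxi hxj hx)
  unfold fI
  rw [hset, finsum_mem_biUnion hdis hJ hfin]

/-- (PI): over a point with separable degree one there is at most one point of a base change
with given image in the new base. -/
theorem eq_of_sd_eq_one {P P' V V' : Scheme.{u}} (p : P ⟶ V) [LocallyQuasiFinite p]
    (p' : P' ⟶ V') (h : P' ⟶ P) (g : V' ⟶ V) (hc : IsPullback h p' p g) (z : P)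
    (hz : sd p z = 1) (x₁ x₂ : P') (h₁ : h x₁ = z) (h₂ : h x₂ = z) (hp : p' x₁ = p' x₂) :
    x₁ = x₂ := by
  let b := p' x₁
  let Ω := AlgebraicClosure (V'.residueField b)
  let a' : Spec (.of Ω) ⟶ V' := geomPt b
  have hv' : a' (closedPoint Ω) = b := geomPt_apply b _
  have hpb : IsPullback (pullback.fst p' a' ≫ h) (pullback.snd p' a') p (a' ≫ g) :=
    (IsPullback.of_hasPullback p' a').paste_horiz hc
  let e := hpb.isoPullback
  have he1 : e.hom ≫ pullback.fst p (a' ≫ g) = pullback.fst p' a' ≫ h := hpb.isoPullback_hom_fst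
  obtain ⟨y₁, hy₁, -⟩ := Scheme.Pullback.exists_preimage_pullback (f := p') (g := a') x₁
    (closedPoint Ω) hv'.symm
  obtain ⟨y₂, hy₂, -⟩ := Scheme.Pullback.exists_preimage_pullback (f := p') (g := a') x₂
    (closedPoint Ω) (hp.symm.trans hv'.symm)
  have hpz : p z = (a' ≫ g) (closedPoint Ω) := by
    rw [Scheme.Hom.comp_apply, hv', ← h₁, ← Scheme.Hom.comp_apply, ← Scheme.Hom.comp_apply,
      hc.w]
  have hcard := card_fibre_eq_sd p (a' ≫ g) z hpz
  rw [hz, Nat.card_eq_one_iff_unique] at hcard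
  haveI := hcard.1
  have hm₁ : pullback.fst p (a' ≫ g) (e.hom y₁) = z := by
    rw [← Scheme.Hom.comp_apply, he1, Scheme.Hom.comp_apply, hy₁, h₁]
  have hm₂ : pullback.fst p (a' ≫ g) (e.hom y₂) = z := by
    rw [← Scheme.Hom.comp_apply, he1, Scheme.Hom.comp_apply, hy₂, h₂]
  have : (⟨e.hom y₁, hm₁⟩ : {z' : ↥(pullback p (a' ≫ g)) // pullback.fst p (a' ≫ g) z' = z}) =
      ⟨e.hom y₂, hm₂⟩ := Subsingleton.elim _ _
  have hy : y₁ = y₂ := e.hom.homeomorph.injective (congrArg Subtype.val this)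
  rw [← hy₁, ← hy₂, hy]

/-- separable degree one from pure inseparability. -/
theorem sd_eq_one_of_pInsep {P V : Scheme.{u}} (p : P ⟶ V) (z : P)
    (hz : Groth.Agent.Lib.Helper20.ResFld.PInsep (p.residueFieldMap z).hom) : sd p z = 1 := by
  rw [Groth.Agent.Lib.Helper20.ResFld.pInsep_iff] at hz
  unfold sd
  letI := (p.residueFieldMap z).hom.toAlgebra
  exact IsPurelyInseparable.finSepDegree_eq_one _ _

/-- (L): for a weighting, fibre integrals over opens finite over the base are locally constant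
after arbitrary base change. -/
theorem isLocallyConstant_fI {X Y : Scheme.{u}} (f : X ⟶ Y) [LocallyQuasiFinite f]
    [LocallyOfFiniteType f] (w : X → ℤ) (hw : MoreMor.IsWeighting f w) {T B : Scheme.{u}}
    (m : T ⟶ X) (p : T ⟶ B) (q : B ⟶ Y) (hc : IsPullback m p f q) (W : T.Opens)
    [IsFinite (W.ι ≫ p)] : IsLocallyConstant (fI p (w ∘ m) W) := by
  classical
  rw [IsLocallyConstant.iff_exists_open]
  intro b₀
  let S₀ : Set T := {x | p x = b₀} ∩ W
  have hS₀ : S₀.Finite := finite_fibre_inter_opens p W b₀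
  let Tset : Set X := m '' S₀
  have hTfin : Tset.Finite := hS₀.image _
  have hTs : ∀ t ∈ Tset, f t = q b₀ ∧ f.QuasiFiniteAt t := by
    rintro t ⟨x, ⟨hx, -⟩, rfl⟩
    refine ⟨?_, f.quasiFiniteAt _⟩
    have hx' : p x = b₀ := hx
    rw [← Scheme.Hom.comp_apply, hc.w, Scheme.Hom.comp_apply, hx']
  obtain ⟨V, gV, v, hgV, hv, hW₀fin, H⟩ := exists_etale_split f (q b₀) Tset hTfin hTs
  haveI := hgV
  obtain ⟨b'', hb1, hb2⟩ := Scheme.Pullback.exists_preimage_pullback (f := q) (g := gV) b₀ v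
    hv.symm
  set p₁ := pullback.fst q gV with hp₁
  set p₂ := pullback.snd q gV with hp₂
  set m₁ := pullback.fst p p₁ with hm₁
  set p'' := pullback.snd p p₁ with hp''
  set fstV := pullback.fst f gV with hfstV
  set sndV := pullback.snd f gV with hsndV
  have hcomm : (m₁ ≫ m) ≫ f = (p'' ≫ p₂) ≫ gV := by
    rw [Category.assoc, hc.w, ← Category.assoc, pullback.condition, Category.assoc,
      pullback.condition, Category.assoc]
  let m₂ : pullback p p₁ ⟶ pullback f gV := pullback.lift (m₁ ≫ m) (p'' ≫ p₂) hcomm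
  have hm₂f : m₂ ≫ fstV = m₁ ≫ m := pullback.lift_fst _ _ _
  have hm₂s : m₂ ≫ sndV = p'' ≫ p₂ := pullback.lift_snd _ _ _
  have hsq₁ : IsPullback m₁ p'' p p₁ := IsPullback.of_hasPullback p _
  have hbig : IsPullback (m₂ ≫ fstV) p'' f (p₂ ≫ gV) := by
    have := hsq₁.paste_horiz hc
    rw [hm₂f, ← pullback.condition]
    exact this
  have hsq₂ : IsPullback m₂ p'' sndV p₂ :=
    IsPullback.of_right hbig hm₂s (IsPullback.of_hasPullback f gV)
  haveI : LocallyQuasiFinite sndV :=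
    MorphismProperty.of_isPullback (P := @LocallyQuasiFinite) (IsPullback.of_hasPullback f gV) ‹_›
  let W'' : (pullback p p₁).Opens := m₁ ⁻¹ᵁ W
  haveI hW''fin : IsFinite (W''.ι ≫ p'') :=
    MorphismProperty.of_isPullback (P := @IsFinite)
      ((isPullback_morphismRestrict m₁ W).paste_vert hsq₁) ‹_›
  let ι : Type u := {z : ↥(pullback f gV) // sndV z = v ∧ fstV z ∈ Tset}
  haveI : Finite ι := hW₀fin.to_subtype
  have H1 : ∀ i : ι, ∃ Vz : (pullback f gV).Opens, i.1 ∈ Vz ∧ IsFinite (Vz.ι ≫ sndV) ∧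
      ∀ w' : ↥(pullback f gV), w' ∈ Vz → sndV w' = v → w' = i.1 :=
    fun i => (H i.1 i.2.1 i.2.2).1
  choose Uz hUz1 hUz2 hUz3 using H1
  haveI := hUz2
  have hsd : ∀ i : ι, sd sndV i.1 = 1 := fun i =>
    sd_eq_one_of_pInsep _ _ (H i.1 i.2.1 i.2.2).2.1
  let Z : ι → (pullback p p₁).Opens := fun i => m₂ ⁻¹ᵁ (Uz i)
  haveI hZfin : ∀ i, IsFinite ((Z i).ι ≫ p'') := fun i =>
    MorphismProperty.of_isPullback (P := @IsFinite)
      ((isPullback_morphismRestrict m₂ (Uz i)).paste_vert hsq₂) (hUz2 i)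
  have hkey : ∀ i x, x ∈ Z i → p'' x = b'' → m₂ x = i.1 := by
    intro i x hx hpx
    apply hUz3 i _ hx
    rw [← Scheme.Hom.comp_apply, hm₂s, Scheme.Hom.comp_apply, hpx, hb2]
  have h1 : ∀ i, ∀ x y, x ∈ Z i → y ∈ Z i → p'' x = b'' → p'' y = b'' → x = y := by
    intro i x y hx hy hpx hpy
    exact eq_of_sd_eq_one sndV p'' m₂ p₂ hsq₂ i.1 (hsd i) x y (hkey i x hx hpx) (hkey i y hy hpy)
      (hpx.trans hpy.symm)
  have h2 : ∀ x ∈ W'', p'' x = b'' → ∃ i, x ∈ Z i := by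
    intro x hx hpx
    have hx1 : m₁ x ∈ W := hx
    have hx2 : p (m₁ x) = b₀ := by
      rw [← Scheme.Hom.comp_apply, hsq₁.w, Scheme.Hom.comp_apply, hpx, hb1]
    have hz1 : sndV (m₂ x) = v := by
      rw [← Scheme.Hom.comp_apply, hm₂s, Scheme.Hom.comp_apply, hpx, hb2]
    have hz2 : fstV (m₂ x) ∈ Tset := by
      refine ⟨m₁ x, ⟨hx2, hx1⟩, ?_⟩
      rw [← Scheme.Hom.comp_apply, ← hm₂f, Scheme.Hom.comp_apply]
    exact ⟨⟨m₂ x, hz1, hz2⟩, hUz1 ⟨m₂ x, hz1, hz2⟩⟩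
  have h3 : ∀ i j x, x ∈ Z i → x ∈ Z j → p'' x = b'' → i = j := by
    intro i j x hxi hxj hpx
    exact Subtype.ext ((hkey i x hxi hpx).symm.trans (hkey j x hxj hpx))
  obtain ⟨J, N, hbN, HN⟩ := decomposition p'' W'' Z b'' h1 h2 h3
  let G : ι → V → ℤ := fun i => fI sndV (w ∘ fstV) (Uz i)
  have hG : ∀ i, IsLocallyConstant (G i) := by
    intro i
    have h := hw V gV (Uz i) (hUz2 i)
    have e : G i = MoreMor.fibreIntegral ((Uz i).ι ≫ sndV) (fun u => w (fstV ((Uz i).ι u))) :=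
      funext fun v' => (fibreIntegral_opens (Uz i) sndV (w ∘ fstV) v').symm
    rw [e]
    exact h
  have hwe : (w ∘ m) ∘ m₁ = (w ∘ fstV) ∘ m₂ := by
    funext x
    change w (m (m₁ x)) = w (fstV (m₂ x))
    rw [← Scheme.Hom.comp_apply, ← Scheme.Hom.comp_apply, hm₂f]
  have hform : ∀ b' ∈ N, fI p (w ∘ m) W (p₁ b') = ∑ᶠ i ∈ J, G i (p₂ b') := by
    intro b' hb'
    rw [← fI_baseChange p p'' m₁ p₁ hsq₁ W (w ∘ m) b']
    rw [fI_decomp p'' _ (W'' : Set _) J (Set.toFinite J) (fun i => ((Z i : (pullback p p₁).Opens) : Set _))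
      b' (fun i _ => finite_fibre_inter_opens p'' (Z i) b') (HN b' hb').1 (HN b' hb').2.1
      (HN b' hb').2.2]
    refine finsum_mem_congr rfl (fun i _ => ?_)
    rw [hwe]
    exact fI_baseChange sndV p'' m₂ p₂ hsq₂ (Uz i) (w ∘ fstV) b'
  let O : ι → Set ↥(pullback q gV) := fun i => {b | G i (p₂ b) = G i (p₂ b'')}
  have hO : ∀ i, IsOpen (O i) := fun i =>
    ((hG i).comp_continuous p₂.continuous).isOpen_fiber _
  let N' : Set ↥(pullback q gV) := (N : Set _) ∩ ⋂ i, O i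
  have hN' : IsOpen N' := N.2.inter (isOpen_iInter_of_finite hO)
  have hbN' : b'' ∈ N' := ⟨hbN, Set.mem_iInter.mpr (fun i => rfl)⟩
  refine ⟨p₁ '' N', p₁.isOpenMap _ hN', ⟨b'', hbN', hb1⟩, ?_⟩
  rintro _ ⟨b', ⟨hb'N, hb'O⟩, rfl⟩
  rw [← hb1, hform b' hb'N, hform b'' hbN]
  refine finsum_mem_congr rfl (fun i _ => ?_)
  exact Set.mem_iInter.mp hb'O i

/-- the defining property of a weighting, phrased with `fI`. -/
theorem isLocallyConstant_fI_etale {X Y : Scheme.{u}} (f : X ⟶ Y) (w : X → ℤ)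
    (hw : MoreMor.IsWeighting f w) {V : Scheme.{u}} (gV : V ⟶ Y) [Etale gV]
    (Uz : (pullback f gV).Opens) [hfin : IsFinite (Uz.ι ≫ pullback.snd f gV)] :
    IsLocallyConstant (fI (pullback.snd f gV) (w ∘ pullback.fst f gV) Uz) := by
  have h := hw V gV Uz hfin
  have e : fI (pullback.snd f gV) (w ∘ pullback.fst f gV) Uz =
      MoreMor.fibreIntegral (Uz.ι ≫ pullback.snd f gV)
        (fun u => w (pullback.fst f gV (Uz.ι u))) :=
    funext fun v' => (fibreIntegral_opens Uz (pullback.snd f gV) (w ∘ pullback.fst f gV) v').symm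
  rw [e]
  exact h

/-- a single term of a fibre integral of a positive function is bounded by the integral. -/
theorem le_fI {P V : Scheme.{u}} (p : P ⟶ V) [LocallyQuasiFinite p] (w' : P → ℤ)
    (hpos : ∀ x, 0 < w' x) (A : Set P) (v : V) (hfin : ({x | p x = v} ∩ A).Finite) (x : P)
    (hxA : x ∈ A) (hx : p x = v) : w' x ≤ fI p w' A v := by
  classical
  unfold fI
  rw [finsum_mem_eq_finite_toFinset_sum _ hfin]
  have hmem : x ∈ hfin.toFinset := by
    rw [Set.Finite.mem_toFinset]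
    exact ⟨hx, hxA⟩
  have hnn : ∀ i ∈ hfin.toFinset, 0 ≤ w' i * (sd p i : ℤ) := fun i _ =>
    mul_nonneg (hpos i).le (Int.natCast_nonneg _)
  refine le_trans ?_ (Finset.single_le_sum hnn hmem)
  have h1 : (1 : ℤ) ≤ (sd p x : ℤ) := by
    have := sd_ne_zero p x
    omega
  nlinarith [hpos x]

/-- the fibre integral of a positive function over a nonempty finite fibre part is positive. -/
theorem exists_mem_of_fI_pos {P V : Scheme.{u}} (p : P ⟶ V) (w' : P → ℤ) (A : Set P) (v : V)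
    (h : fI p w' A v ≠ 0) : ∃ x ∈ A, p x = v := by
  by_contra hcon
  apply h
  have : {x | p x = v} ∩ A = ∅ := by
    ext x
    simp only [Set.mem_inter_iff, Set.mem_setOf_eq, Set.mem_empty_iff_false, iff_false, not_and]
    intro hx hxA
    exact hcon ⟨x, hxA, hx⟩
  rw [fI, this, finsum_mem_empty]

theorem exists_local_structure {X Y : Scheme.{u}} (f : X ⟶ Y) [LocallyQuasiFinite f]
    [LocallyOfFiniteType f] (x : X) :
    ∃ (V : Scheme.{u}) (gV : V ⟶ Y) (v : V) (z : ↥(pullback f gV))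
      (Uz : (pullback f gV).Opens), Etale gV ∧ gV v = f x ∧ pullback.fst f gV z = x ∧
      pullback.snd f gV z = v ∧ z ∈ Uz ∧ IsFinite (Uz.ι ≫ pullback.snd f gV) ∧
      (∀ w' ∈ Uz, pullback.snd f gV w' = v → w' = z) ∧ sd (pullback.snd f gV) z = 1 ∧
      ∀ w : X → ℤ, fI (pullback.snd f gV) (w ∘ pullback.fst f gV) Uz v = w x := by
  obtain ⟨V, gV, v, hgV, hv, -, H⟩ := exists_etale_split f (f x) {x} (Set.finite_singleton x)
    (by rintro t rfl; exact ⟨rfl, f.quasiFiniteAt _⟩)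
  obtain ⟨z, hz1, hz2⟩ := Scheme.Pullback.exists_preimage_pullback (f := f) (g := gV) x v hv.symm
  obtain ⟨⟨Uz, hzU, hfin, huniq⟩, hPI, -⟩ := H z hz2 (by rw [hz1]; rfl)
  have hsd := sd_eq_one_of_pInsep _ _ hPI
  refine ⟨V, gV, v, z, Uz, hgV, hv, hz1, hz2, hzU, hfin, huniq, hsd, ?_⟩
  intro w
  have hset : {x' | pullback.snd f gV x' = v} ∩ (Uz : Set ↥(pullback f gV)) = {z} := by
    ext x'
    constructor
    · rintro ⟨h1, h2⟩
      exact huniq x' h2 h1
    · rintro rfl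
      exact ⟨hz2, hzU⟩
  rw [fI, hset, finsum_mem_singleton, hsd, Function.comp_apply, hz1]
  simp

/-- a weighting restricts to open subschemes of the source. -/
theorem isWeighting_opens {X Y : Scheme.{u}} (f : X ⟶ Y) (w : X → ℤ)
    (hw : MoreMor.IsWeighting f w) (U : X.Opens) : MoreMor.IsWeighting (U.ι ≫ f) (w ∘ U.ι) := by
  intro V g _ U' hfin
  let j : pullback (U.ι ≫ f) g ⟶ pullback f g :=
    pullback.map (U.ι ≫ f) g f g U.ι (𝟙 V) (𝟙 Y) (by simp) (by simp)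
  have hjf : j ≫ pullback.fst f g = pullback.fst (U.ι ≫ f) g ≫ U.ι := pullback.lift_fst _ _ _
  have hjs : j ≫ pullback.snd f g = pullback.snd (U.ι ≫ f) g := by
    have : j ≫ pullback.snd f g = pullback.snd (U.ι ≫ f) g ≫ 𝟙 V := pullback.lift_snd _ _ _
    rw [Category.comp_id] at this
    exact this
  have hbig : IsPullback (j ≫ pullback.snd f g) (pullback.fst (U.ι ≫ f) g) g (U.ι ≫ f) := by
    rw [hjs]
    exact (IsPullback.of_hasPullback (U.ι ≫ f) g).flip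
  have hleft : IsPullback j (pullback.fst (U.ι ≫ f) g) (pullback.fst f g) U.ι :=
    IsPullback.of_right hbig hjf (IsPullback.of_hasPullback f g).flip
  haveI : IsOpenImmersion j :=
    MorphismProperty.of_isPullback (P := @IsOpenImmersion) hleft.flip inferInstance
  let U'' : (pullback f g).Opens := (U'.ι ≫ j).opensRange
  let e : (U' : Scheme.{u}) ≅ U'' := (U'.ι ≫ j).isoOpensRange
  have he : e.hom ≫ U''.ι = U'.ι ≫ j := (U'.ι ≫ j).isoOpensRange_hom_ι
  have hfin'' : IsFinite (U''.ι ≫ pullback.snd f g) := by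
    have h1 : U''.ι ≫ pullback.snd f g = e.inv ≫ (U'.ι ≫ pullback.snd (U.ι ≫ f) g) := by
      rw [← hjs, ← Category.assoc U'.ι, ← he, Category.assoc, e.inv_hom_id_assoc]
    rw [h1]
    haveI := hfin
    infer_instance
  have h := hw V g U'' hfin''
  have e1 : MoreMor.fibreIntegral (U''.ι ≫ pullback.snd f g)
      (fun u => w (pullback.fst f g (U''.ι u))) =
      MoreMor.fibreIntegral (U'.ι ≫ pullback.snd (U.ι ≫ f) g)
        (fun u => (w ∘ U.ι) (pullback.fst (U.ι ≫ f) g (U'.ι u))) := by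
    funext v'
    have h0 := fibreIntegral_opens U'' (pullback.snd f g) (w ∘ pullback.fst f g) v'
    refine h0.trans ?_
    have h2 := fibreIntegral_openImmersion (U'.ι ≫ j) (pullback.snd f g) (w ∘ pullback.fst f g) v'
    rw [Category.assoc, hjs] at h2
    change _ = fI (pullback.snd f g) (w ∘ pullback.fst f g) (U'' : Set _) v' at h2
    rw [← h2]
    congr 1
    funext u
    change w (pullback.fst f g ((U'.ι ≫ j) u)) = w (U.ι (pullback.fst (U.ι ≫ f) g (U'.ι u)))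
    rw [← Scheme.Hom.comp_apply, Category.assoc, hjf, ← Scheme.Hom.comp_apply,
      ← Scheme.Hom.comp_apply]
  rw [← e1]
  exact h

/-- a locally quasi-finite morphism with a positive weighting is an open map. -/
theorem isOpenMap_of_pos {X Y : Scheme.{u}} (f : X ⟶ Y) [LocallyQuasiFinite f]
    [LocallyOfFiniteType f] (w : X → ℤ) (hw : MoreMor.IsWeighting f w) (hpos : ∀ x, 0 < w x) :
    IsOpenMap f := by
  intro U₀ hU₀
  let U : X.Opens := ⟨U₀, hU₀⟩
  rw [isOpen_iff_mem_nhds]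
  rintro _ ⟨x, hx, rfl⟩
  obtain ⟨x₀, rfl⟩ : x ∈ Set.range U.ι := by rw [Scheme.Opens.range_ι]; exact hx
  have hwU := isWeighting_opens f w hw U
  obtain ⟨V, gV, v, z, Uz, hgV, hv, hz1, hz2, hzU, hfin, huniq, hsd, hGv⟩ :=
    exists_local_structure (U.ι ≫ f) x₀
  haveI := hgV
  haveI := hfin
  have hG := isLocallyConstant_fI_etale (U.ι ≫ f) (w ∘ U.ι) hwU gV Uz
  let N : Set V := {v' | fI (pullback.snd (U.ι ≫ f) gV)
    ((w ∘ U.ι) ∘ pullback.fst (U.ι ≫ f) gV) Uz v' = (w ∘ U.ι) x₀}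
  have hN : IsOpen N := hG.isOpen_fiber _
  have hvN : v ∈ N := hGv (w ∘ U.ι)
  have hopen : IsOpen (gV '' N) := gV.isOpenMap _ hN
  refine Filter.mem_of_superset (hopen.mem_nhds ⟨v, hvN, hv⟩) ?_
  rintro _ ⟨v', hv', rfl⟩
  have hne : fI (pullback.snd (U.ι ≫ f) gV) ((w ∘ U.ι) ∘ pullback.fst (U.ι ≫ f) gV) Uz v' ≠ 0 := by
    have : fI (pullback.snd (U.ι ≫ f) gV) ((w ∘ U.ι) ∘ pullback.fst (U.ι ≫ f) gV) Uz v' =
      (w ∘ U.ι) x₀ := hv'
    rw [this]
    exact (hpos _).ne'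
  obtain ⟨z', -, hz'⟩ := exists_mem_of_fI_pos _ _ _ _ hne
  refine ⟨U.ι (pullback.fst (U.ι ≫ f) gV z'), ?_, ?_⟩
  · have : U.ι (pullback.fst (U.ι ≫ f) gV z') ∈ Set.range U.ι := ⟨_, rfl⟩
    rw [Scheme.Opens.range_ι] at this
    exact this
  · rw [← hz', ← Scheme.Hom.comp_apply, ← Scheme.Hom.comp_apply, ← Scheme.Hom.comp_apply,
      pullback.condition]

theorem fibreIntegral_eq_fI_univ {P V : Scheme.{u}} (p : P ⟶ V) (w' : P → ℤ) (v : V) :
    MoreMor.fibreIntegral p w' v = fI p w' Set.univ v := by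
  rw [fibreIntegral_eq, fI, Set.inter_univ]
  exact finsum_set_coe_eq_finsum_mem (s := {x | p x = v}) (f := fun x => w' x * (sd p x : ℤ))

theorem fI_mono_of_nonneg {P V : Scheme.{u}} (p : P ⟶ V) (w' : P → ℤ) (hpos : ∀ x, 0 ≤ w' x)
    (A B : Set P) (hAB : A ⊆ B) (v : V) (hfin : ({x | p x = v} ∩ B).Finite) :
    fI p w' A v ≤ fI p w' B v := by
  classical
  have hfinA : ({x | p x = v} ∩ A).Finite :=
    hfin.subset (Set.inter_subset_inter_right _ hAB)
  unfold fI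
  rw [finsum_mem_eq_finite_toFinset_sum _ hfin, finsum_mem_eq_finite_toFinset_sum _ hfinA]
  apply Finset.sum_le_sum_of_subset_of_nonneg
  · intro x hx
    rw [Set.Finite.mem_toFinset] at hx ⊢
    exact ⟨hx.1, hAB hx.2⟩
  · intro i _ _
    exact mul_nonneg (hpos i) (Int.natCast_nonneg _)

/-- Local lower bound: near a point `y` with finite fibre, after an étale base change the fibre
integral of a positive weighting is bounded below by its value at `y`. -/
theorem exists_etale_nhd_le {X Y : Scheme.{u}} (f : X ⟶ Y) [LocallyQuasiFinite f]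
    [LocallyOfFiniteType f] [IsSeparated f] (hfin : ∀ y : Y, (f ⁻¹' {y}).Finite)
    (w : X → ℤ) (hw : MoreMor.IsWeighting f w) (hpos : ∀ x, 0 < w x) (y : Y) :
    ∃ N : Set Y, IsOpen N ∧ y ∈ N ∧
      ∀ y' ∈ N, MoreMor.fibreIntegral f w y ≤ MoreMor.fibreIntegral f w y' := by
  classical
  obtain ⟨V, gV, v, hgV, hv, hW₀fin, Vz, hdisj, H⟩ := exists_etale_split_clopen f y (f ⁻¹' {y})
    (hfin y) (fun t ht => ⟨ht, f.quasiFiniteAt _⟩)
  haveI := hgV
  set fstV := pullback.fst f gV with hfstV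
  set sndV := pullback.snd f gV with hsndV
  let ι : Type u := {z : ↥(pullback f gV) // sndV z = v ∧ fstV z ∈ f ⁻¹' {y}}
  haveI : Finite ι := hW₀fin.to_subtype
  haveI hVfin : ∀ i : ι, IsFinite ((Vz i.1).ι ≫ sndV) := fun i => (H i.1 i.2.1 i.2.2).2.2.1
  let G : ι → V → ℤ := fun i => fI sndV (w ∘ fstV) (Vz i.1)
  have hG : ∀ i, IsLocallyConstant (G i) := fun i =>
    isLocallyConstant_fI_etale f w hw gV (Vz i.1)
  let A : Set ↥(pullback f gV) := ⋃ i : ι, (Vz i.1 : Set _)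
  have hbc : ∀ v' : V, MoreMor.fibreIntegral f w (gV v') = fI sndV (w ∘ fstV) Set.univ v' ∧
      ({x | sndV x = v'} ∩ Set.univ).Finite := by
    intro v'
    have h := fibreIntegral_baseChange f hfin sndV fstV gV (IsPullback.of_hasPullback f gV) w v'
    refine ⟨?_, ?_⟩
    · rw [← h.1, fibreIntegral_eq_fI_univ]
    · rw [Set.inter_univ]
      exact h.2
  have hdecomp : ∀ v' : V, fI sndV (w ∘ fstV) A v' = ∑ᶠ i ∈ (Set.univ : Set ι), G i v' := by
    intro v'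
    refine fI_decomp sndV (w ∘ fstV) A Set.univ Set.finite_univ (fun i : ι => (Vz i.1 : Set _)) v'
      (fun i _ => finite_fibre_inter_opens sndV (Vz i.1) v') ?_ ?_ ?_
    · intro x hx _
      obtain ⟨i, hi⟩ := Set.mem_iUnion.mp hx
      exact ⟨i, Set.mem_univ _, hi⟩
    · intro i _ x hx _
      exact Set.mem_iUnion.mpr ⟨i, hx⟩
    · intro i _ j _ x hxi hxj _
      exact Subtype.ext (hdisj i.1 j.1 i.2.1 i.2.2 j.2.1 j.2.2 ⟨x, hxi, hxj⟩)
  have hle : ∀ v' : V, ∑ᶠ i ∈ (Set.univ : Set ι), G i v' ≤ MoreMor.fibreIntegral f w (gV v') := by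
    intro v'
    rw [(hbc v').1, ← hdecomp v']
    exact fI_mono_of_nonneg sndV (w ∘ fstV) (fun x => (hpos _).le) A Set.univ (Set.subset_univ _) v'
      (hbc v').2
  have heq : ∑ᶠ i ∈ (Set.univ : Set ι), G i v = MoreMor.fibreIntegral f w (gV v) := by
    rw [(hbc v).1, ← hdecomp v]
    apply fI_congr_set
    ext x
    simp only [Set.mem_inter_iff, Set.mem_setOf_eq, Set.mem_univ, and_true]
    constructor
    · exact fun h => h.1
    · intro hx
      refine ⟨hx, ?_⟩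
      have hxT : fstV x ∈ f ⁻¹' {y} := by
        change f (fstV x) = y
        rw [← Scheme.Hom.comp_apply, pullback.condition, Scheme.Hom.comp_apply, hx, hv]
      exact Set.mem_iUnion.mpr ⟨⟨x, hx, hxT⟩, (H x hx hxT).1⟩
  let O : ι → Set V := fun i => {v' | G i v' = G i v}
  have hO : ∀ i, IsOpen (O i) := fun i => (hG i).isOpen_fiber _
  let N' : Set V := ⋂ i, O i
  have hN' : IsOpen N' := isOpen_iInter_of_finite hO
  have hvN' : v ∈ N' := Set.mem_iInter.mpr (fun i => rfl)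
  refine ⟨gV '' N', gV.isOpenMap _ hN', ⟨v, hvN', hv⟩, ?_⟩
  rintro _ ⟨v', hv', rfl⟩
  rw [← hv, ← heq]
  refine le_trans (le_of_eq ?_) (hle v')
  refine finsum_mem_congr rfl (fun i _ => ?_)
  exact (Set.mem_iInter.mp hv' i).symm

/-- finiteness can be checked étale locally on the target. -/
theorem isFinite_of_etale_local {X Y : Scheme.{u}} (f : X ⟶ Y)
    (H : ∀ y : Y, ∃ (V : Scheme.{u}) (g : V ⟶ Y), Etale g ∧ y ∈ Set.range g ∧
      IsFinite (pullback.snd f g)) : IsFinite f := by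
  choose V g hg hy hfin using H
  let G : (∐ V) ⟶ Y := Sigma.desc g
  have hιG : ∀ y, Sigma.ι V y ≫ G = g y := fun y => Sigma.ι_desc _ _
  have hG : Etale G := by
    refine IsZariskiLocalAtSource.of_openCover (P := @Etale) (sigmaOpenCover V) (fun y => ?_)
    change Etale (Sigma.ι V y ≫ G)
    rw [hιG]
    exact hg y
  have hGs : Surjective G := ⟨fun y => by
    obtain ⟨v, hv⟩ := hy y
    exact ⟨Sigma.ι V y v, by rw [← Scheme.Hom.comp_apply, hιG, hv]⟩⟩
  have hfinG : IsFinite (pullback.snd f G) := by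
    refine IsZariskiLocalAtTarget.of_openCover (P := @IsFinite) (sigmaOpenCover V) (fun y => ?_)
    change IsFinite (pullback.snd (pullback.snd f G) (Sigma.ι V y))
    have hp : IsPullback (pullback.fst (pullback.snd f G) (Sigma.ι V y) ≫ pullback.fst f G)
        (pullback.snd (pullback.snd f G) (Sigma.ι V y)) f (Sigma.ι V y ≫ G) :=
      (IsPullback.of_hasPullback (pullback.snd f G) (Sigma.ι V y)).paste_horiz
        (IsPullback.of_hasPullback f G)
    rw [hιG] at hp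
    rw [← hp.isoPullback_hom_snd]
    haveI := hfin y
    infer_instance
  haveI := Groth.Agent.Lib.Helper12.descendsAlong_isFinite.{u}
  exact MorphismProperty.of_pullback_snd_of_descendsAlong (P := @IsFinite)
    (Q := @Surjective ⊓ @Flat ⊓ @LocallyOfFinitePresentation) ⟨⟨hGs, inferInstance⟩, inferInstance⟩
    hfinG

/-- Near a point where the fibre integral of a positive weighting is maximal, the morphism
becomes finite after an étale base change. -/
theorem exists_etale_nhd_finite {X Y : Scheme.{u}} (f : X ⟶ Y) [LocallyQuasiFinite f]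
    [LocallyOfFiniteType f] [IsSeparated f] (hfin : ∀ y : Y, (f ⁻¹' {y}).Finite)
    (w : X → ℤ) (hw : MoreMor.IsWeighting f w) (hpos : ∀ x, 0 < w x) (y : Y)
    (hmaxy : ∀ y', MoreMor.fibreIntegral f w y' ≤ MoreMor.fibreIntegral f w y) :
    ∃ (V' : Scheme.{u}) (g' : V' ⟶ Y), Etale g' ∧ y ∈ Set.range g' ∧
      IsFinite (pullback.snd f g') := by
  classical
  obtain ⟨V, gV, v, hgV, hv, hW₀fin, Vz, hdisj, H⟩ := exists_etale_split_clopen f y (f ⁻¹' {y})
    (hfin y) (fun t ht => ⟨ht, f.quasiFiniteAt _⟩)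
  haveI := hgV
  set fstV := pullback.fst f gV with hfstV
  set sndV := pullback.snd f gV with hsndV
  haveI : LocallyQuasiFinite sndV :=
    MorphismProperty.of_isPullback (P := @LocallyQuasiFinite) (IsPullback.of_hasPullback f gV) ‹_›
  let ι : Type u := {z : ↥(pullback f gV) // sndV z = v ∧ fstV z ∈ f ⁻¹' {y}}
  haveI : Finite ι := hW₀fin.to_subtype
  haveI hVfin : ∀ i : ι, IsFinite ((Vz i.1).ι ≫ sndV) := fun i => (H i.1 i.2.1 i.2.2).2.2.1
  let G : ι → V → ℤ := fun i => fI sndV (w ∘ fstV) (Vz i.1)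
  have hG : ∀ i, IsLocallyConstant (G i) := fun i =>
    isLocallyConstant_fI_etale f w hw gV (Vz i.1)
  let Aop : (pullback f gV).Opens := ⨆ i : ι, Vz i.1
  have hfinA : IsFinite (Aop.ι ≫ sndV) :=
    (Groth.Agent.Lib.Helper20.FinUnion.isFinite_iSup_of_isClosed sndV (fun i : ι => Vz i.1)
      (fun i => (H i.1 i.2.1 i.2.2).2.1.isClosed) hVfin).1
  let A : Set ↥(pullback f gV) := ⋃ i : ι, (Vz i.1 : Set _)
  have hAop : (Aop : Set ↥(pullback f gV)) = A := TopologicalSpace.Opens.coe_iSup _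
  have hbc : ∀ v' : V, MoreMor.fibreIntegral f w (gV v') = fI sndV (w ∘ fstV) Set.univ v' ∧
      ({x | sndV x = v'} ∩ Set.univ).Finite := by
    intro v'
    have h := fibreIntegral_baseChange f hfin sndV fstV gV (IsPullback.of_hasPullback f gV) w v'
    refine ⟨?_, ?_⟩
    · rw [← h.1, fibreIntegral_eq_fI_univ]
    · rw [Set.inter_univ]
      exact h.2
  have hdecomp : ∀ v' : V, fI sndV (w ∘ fstV) A v' = ∑ᶠ i ∈ (Set.univ : Set ι), G i v' := by
    intro v'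
    refine fI_decomp sndV (w ∘ fstV) A Set.univ Set.finite_univ (fun i : ι => (Vz i.1 : Set _)) v'
      (fun i _ => finite_fibre_inter_opens sndV (Vz i.1) v') ?_ ?_ ?_
    · intro x hx _
      obtain ⟨i, hi⟩ := Set.mem_iUnion.mp hx
      exact ⟨i, Set.mem_univ _, hi⟩
    · intro i _ x hx _
      exact Set.mem_iUnion.mpr ⟨i, hx⟩
    · intro i _ j _ x hxi hxj _
      exact Subtype.ext (hdisj i.1 j.1 i.2.1 i.2.2 j.2.1 j.2.2 ⟨x, hxi, hxj⟩)
  have heq : ∑ᶠ i ∈ (Set.univ : Set ι), G i v = MoreMor.fibreIntegral f w (gV v) := by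
    rw [(hbc v).1, ← hdecomp v]
    apply fI_congr_set
    ext x
    simp only [Set.mem_inter_iff, Set.mem_setOf_eq, Set.mem_univ, and_true]
    constructor
    · exact fun h => h.1
    · intro hx
      refine ⟨hx, ?_⟩
      have hxT : fstV x ∈ f ⁻¹' {y} := by
        change f (fstV x) = y
        rw [← Scheme.Hom.comp_apply, pullback.condition, Scheme.Hom.comp_apply, hx, hv]
      exact Set.mem_iUnion.mpr ⟨⟨x, hx, hxT⟩, (H x hx hxT).1⟩
  let O : ι → Set V := fun i => {v' | G i v' = G i v}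
  have hO : ∀ i, IsOpen (O i) := fun i => (hG i).isOpen_fiber _
  let N' : Set V := ⋂ i, O i
  have hN' : IsOpen N' := isOpen_iInter_of_finite hO
  have hvN' : v ∈ N' := Set.mem_iInter.mpr (fun i => rfl)
  have hAconst : ∀ v' ∈ N', fI sndV (w ∘ fstV) A v' = MoreMor.fibreIntegral f w y := by
    intro v' hv'
    rw [← hv, ← heq, hdecomp v']
    refine finsum_mem_congr rfl (fun i _ => ?_)
    exact Set.mem_iInter.mp hv' i
  have key : ∀ v' ∈ N', ∀ x, sndV x = v' → x ∈ A := by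
    intro v' hv' x hx
    by_contra hxA
    have hfinU := (hbc v').2
    have hsplit : fI sndV (w ∘ fstV) (A ∪ Aᶜ) v' =
        fI sndV (w ∘ fstV) A v' + fI sndV (w ∘ fstV) Aᶜ v' := by
      apply fI_union
      · exact hfinU.subset (Set.inter_subset_inter_right _ (Set.subset_univ _))
      · exact hfinU.subset (Set.inter_subset_inter_right _ (Set.subset_univ _))
      · rw [Set.disjoint_left]
        rintro t ⟨-, ht1⟩ ⟨-, ht2⟩
        exact ht2 ht1
    rw [Set.union_compl_self, ← (hbc v').1, hAconst v' hv'] at hsplit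
    have hle := le_fI sndV (w ∘ fstV) (fun t => hpos _) Aᶜ v'
      (hfinU.subset (Set.inter_subset_inter_right _ (Set.subset_univ _))) x hxA hx
    have hposx : 0 < (w ∘ fstV) x := hpos _
    have := hmaxy (gV v')
    omega
  let NV : V.Opens := ⟨N', hN'⟩
  refine ⟨NV, NV.ι ≫ gV, inferInstance, ⟨(⟨v, hvN'⟩ : NV), ?_⟩, ?_⟩
  · rw [Scheme.Hom.comp_apply]
    exact hv
  · let k : pullback f (NV.ι ≫ gV) ⟶ pullback f gV :=
      pullback.lift (pullback.fst f (NV.ι ≫ gV)) (pullback.snd f (NV.ι ≫ gV) ≫ NV.ι)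
        (by rw [pullback.condition, Category.assoc])
    have hkf : k ≫ fstV = pullback.fst f (NV.ι ≫ gV) := pullback.lift_fst _ _ _
    have hks : k ≫ sndV = pullback.snd f (NV.ι ≫ gV) ≫ NV.ι := pullback.lift_snd _ _ _
    have hbig : IsPullback (k ≫ fstV) (pullback.snd f (NV.ι ≫ gV)) f (NV.ι ≫ gV) := by
      rw [hkf]
      exact IsPullback.of_hasPullback f _
    have hP1 : IsPullback k (pullback.snd f (NV.ι ≫ gV)) sndV NV.ι :=
      IsPullback.of_right hbig hks (IsPullback.of_hasPullback f gV)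
    haveI : IsOpenImmersion k :=
      MorphismProperty.of_isPullback (P := @IsOpenImmersion) hP1.flip inferInstance
    have hrange : Set.range k ⊆ Set.range Aop.ι := by
      rintro _ ⟨x, rfl⟩
      rw [Scheme.Opens.range_ι, hAop]
      refine key (sndV (k x)) ?_ (k x) rfl
      rw [← Scheme.Hom.comp_apply, hks, Scheme.Hom.comp_apply]
      exact (pullback.snd f (NV.ι ≫ gV) x).2
    let k' : pullback f (NV.ι ≫ gV) ⟶ Aop := IsOpenImmersion.lift Aop.ι k hrange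
    have hk' : k' ≫ Aop.ι = k := IsOpenImmersion.lift_fac _ _ _
    have htop : IsPullback k' (𝟙 _) Aop.ι k :=
      IsPullback.of_vert_isIso_mono ⟨by rw [hk', Category.id_comp]⟩
    have hfull := htop.paste_vert hP1
    rw [Category.id_comp] at hfull
    exact MorphismProperty.of_isPullback (P := @IsFinite) hfull hfinA

end Groth.Agent.Lib.Helper2.Weight
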