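import Mathlib
import Groth.Prelude.Def_MoreMor
import Groth.Agent.Lib.Helper2Weight
import Groth.Agent.Lib.Helper2Weight2

set_option autoImplicit false
universe u

namespace Groth.Agent.Lib.Helper2.Weight

open AlgebraicGeometry CategoryTheory Limits IsLocalRing
open Groth.Agent.Lib.Helper20.EtSections

/-- multiplicativity of separable degrees of residue field extensions in a composition. -/
theorem sd_comp {T Y' B : Scheme.{u}} (φ : T ⟶ Y') (γ : Y' ⟶ B) [LocallyQuasiFinite φ] (x : T) :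
    sd (φ ≫ γ) x = sd γ (φ x) * sd φ x := by
  unfold sd
  letI a1 : Algebra (B.residueField (γ (φ x))) (Y'.residueField (φ x)) :=
    (γ.residueFieldMap (φ x)).hom.toAlgebra
  letI a2 : Algebra (Y'.residueField (φ x)) (T.residueField x) :=
    (φ.residueFieldMap x).hom.toAlgebra
  letI a3 : Algebra (B.residueField (γ (φ x))) (T.residueField x) :=
    ((φ ≫ γ).residueFieldMap x).hom.toAlgebra
  haveI : IsScalarTower (B.residueField (γ (φ x))) (Y'.residueField (φ x)) (T.residueField x) := by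
    refine IsScalarTower.of_algebraMap_eq (fun r => ?_)
    change ((φ ≫ γ).residueFieldMap x).hom r =
      (φ.residueFieldMap x).hom ((γ.residueFieldMap (φ x)).hom r)
    rw [Scheme.residueFieldMap_comp]
    rfl
  haveI : Module.Finite (Y'.residueField (φ x)) (T.residueField x) := finite_residue φ x
  exact (Field.finSepDegree_mul_finSepDegree_of_isAlgebraic (B.residueField (γ (φ x)))
    (Y'.residueField (φ x)) (T.residueField x)).symm

/-- transitivity of fibre integrals along a composition. -/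
theorem fI_comp {T Y' B : Scheme.{u}} (φ : T ⟶ Y') (γ : Y' ⟶ B) [LocallyQuasiFinite φ]
    (a : T → ℤ) (c : Y' → ℤ) (W : Set T) (D : Set Y') (b : B)
    (hfin : ({x | (φ ≫ γ) x = b} ∩ W).Finite)
    (hm : ∀ x ∈ W, (φ ≫ γ) x = b → φ x ∈ D) :
    fI (φ ≫ γ) (fun x => a x * c (φ x)) W b = fI γ (fun y => c y * fI φ a W y) D b := by
  classical
  set F := hfin.toFinset with hF
  have hFmem : ∀ x, x ∈ F ↔ (φ ≫ γ) x = b ∧ x ∈ W := fun x => by
    rw [hF, Set.Finite.mem_toFinset]; rfl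
  have hL : fI (φ ≫ γ) (fun x => a x * c (φ x)) W b =
      ∑ x ∈ F, a x * c (φ x) * (sd (φ ≫ γ) x : ℤ) := by
    unfold fI
    rw [finsum_mem_eq_finite_toFinset_sum _ hfin]
  have hinner : ∀ y, γ y = b → fI φ a W y = ∑ x ∈ F with φ x = y, a x * (sd φ x : ℤ) := by
    intro y hy
    unfold fI
    have hset : {x | φ x = y} ∩ W = ↑(F.filter (fun x => φ x = y)) := by
      ext x
      simp only [Set.mem_inter_iff, Set.mem_setOf_eq, Finset.coe_filter, hFmem]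
      constructor
      · rintro ⟨h1, h2⟩
        refine ⟨⟨?_, h2⟩, h1⟩
        rw [Scheme.Hom.comp_apply, h1, hy]
      · rintro ⟨⟨-, h2⟩, h1⟩
        exact ⟨h1, h2⟩
    rw [hset, finsum_mem_coe_finset]
  have hR : fI γ (fun y => c y * fI φ a W y) D b =
      ∑ y ∈ F.image φ, c y * fI φ a W y * (sd γ y : ℤ) := by
    change ∑ᶠ y ∈ {y | γ y = b} ∩ D, (c y * fI φ a W y) * (sd γ y : ℤ) = _
    apply finsum_mem_eq_sum_of_inter_support_eq
    ext y
    simp only [Set.mem_inter_iff, Set.mem_setOf_eq, Function.mem_support, Finset.coe_image,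
      Set.mem_image, Finset.mem_coe]
    constructor
    · rintro ⟨⟨hy, hyD⟩, hne⟩
      refine ⟨?_, hne⟩
      have hne' : fI φ a W y ≠ 0 := by
        intro h0
        apply hne
        rw [h0, mul_zero, zero_mul]
      obtain ⟨x, hxW, hx⟩ := exists_mem_of_fI_pos φ a W y hne'
      refine ⟨x, (hFmem x).mpr ⟨?_, hxW⟩, hx⟩
      rw [Scheme.Hom.comp_apply, hx, hy]
    · rintro ⟨⟨x, hxF, rfl⟩, hne⟩
      obtain ⟨h1, h2⟩ := (hFmem x).mp hxF
      exact ⟨⟨h1, hm x h2 h1⟩, hne⟩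
  rw [hL, hR]
  have hsum : ∀ y ∈ F.image φ, c y * fI φ a W y * (sd γ y : ℤ) =
      ∑ x ∈ F with φ x = y, a x * c (φ x) * (sd (φ ≫ γ) x : ℤ) := by
    intro y hy
    obtain ⟨x₀, hx₀, rfl⟩ := Finset.mem_image.mp hy
    have hγ : γ (φ x₀) = b := ((hFmem x₀).mp hx₀).1
    rw [hinner _ hγ, Finset.mul_sum, Finset.sum_mul]
    refine Finset.sum_congr rfl (fun x hx => ?_)
    have hxy : φ x = φ x₀ := (Finset.mem_filter.mp hx).2
    rw [sd_comp, hxy]
    push_cast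
    ring
  rw [Finset.sum_congr rfl hsum]
  exact (Finset.sum_fiberwise_of_maps_to (fun x hx => Finset.mem_image_of_mem φ hx) _).symm

/-- pointwise version of `fibreIntegral_baseChange`: only the fibre over `g v'` needs to be
finite. -/
theorem fibreIntegral_baseChange' {U V U' V' : Scheme.{u}} (π : U ⟶ V) [LocallyQuasiFinite π]
    (π' : U' ⟶ V') (h : U' ⟶ U) (g : V' ⟶ V) (hc : IsPullback h π' π g) (w : U → ℤ) (v' : V')
    (hfin : (π ⁻¹' {g v'}).Finite) :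
    MoreMor.fibreIntegral π' (w ∘ h) v' = MoreMor.fibreIntegral π w (g v') ∧
      (π' ⁻¹' {v'}).Finite := by
  haveI : LocallyQuasiFinite π' := MorphismProperty.of_isPullback (P := @LocallyQuasiFinite) hc ‹_›
  let Ω := AlgebraicClosure (V'.residueField v')
  let a' : Spec (.of Ω) ⟶ V' := geomPt v'
  have hv' : a' (closedPoint Ω) = v' := geomPt_apply v' _
  have hv : (a' ≫ g) (closedPoint Ω) = g v' := by rw [Scheme.Hom.comp_apply, hv']
  have hpb : IsPullback (pullback.fst π' a' ≫ h) (pullback.snd π' a') π (a' ≫ g) :=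
    (IsPullback.of_hasPullback π' a').paste_horiz hc
  let e := hpb.isoPullback
  have he1 : e.hom ≫ pullback.fst π (a' ≫ g) = pullback.fst π' a' ≫ h := hpb.isoPullback_hom_fst
  have hfinP : Finite ↥(pullback π (a' ≫ g)) :=
    finite_geomFibre π (a' ≫ g) (by rw [hv]; exact hfin)
  have hfinP' : Finite ↥(pullback π' a') := Finite.of_equiv _ e.hom.homeomorph.toEquiv.symm
  have hfin' : (π' ⁻¹' {v'}).Finite := by
    have hr : Set.range a' = {v'} := by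
      ext t
      constructor
      · rintro ⟨s, rfl⟩
        exact geomPt_apply v' s
      · rintro rfl
        exact ⟨closedPoint Ω, hv'⟩
    rw [← hr, ← Scheme.Pullback.range_fst]
    exact Set.finite_range _
  refine ⟨?_, hfin'⟩
  have e1 : MoreMor.fibreIntegral π' (w ∘ h) v' =
      MoreMor.fibreIntegral π' (w ∘ h) (a' (closedPoint Ω)) := congrArg _ hv'.symm
  have e2 : MoreMor.fibreIntegral π w (g v') =
      MoreMor.fibreIntegral π w ((a' ≫ g) (closedPoint Ω)) := congrArg _ hv.symm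
  rw [e1, e2, fibreIntegral_eq_geom π' a' (w ∘ h) (by rw [hv']; exact hfin'),
    fibreIntegral_eq_geom π (a' ≫ g) w (by rw [hv]; exact hfin),
    ← finsum_comp_equiv e.hom.homeomorph.toEquiv]
  refine finsum_congr (fun z => ?_)
  change w (h (pullback.fst π' a' z)) = w (pullback.fst π (a' ≫ g) (e.hom z))
  rw [← Scheme.Hom.comp_apply, ← Scheme.Hom.comp_apply, he1]

/-- pointwise version of `fI_baseChange`. -/
theorem fI_baseChange' {P P' V V' : Scheme.{u}} (p : P ⟶ V) [LocallyQuasiFinite p] (p' : P' ⟶ V')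
    (h : P' ⟶ P) (g : V' ⟶ V) (hc : IsPullback h p' p g) (A : P.Opens) (w' : P → ℤ)
    (v' : V') (hfin : ({x | p x = g v'} ∩ (A : Set P)).Finite) :
    fI p' (w' ∘ h) (h ⁻¹ᵁ A) v' = fI p w' A (g v') := by
  have hsq : IsPullback (h ∣_ A) ((h ⁻¹ᵁ A).ι ≫ p') (A.ι ≫ p) g :=
    (isPullback_morphismRestrict h A).paste_vert hc
  have hfin' : ((A.ι ≫ p) ⁻¹' {g v'}).Finite := by
    refine Set.Finite.of_finite_image (f := A.ι) (hfin.subset ?_)
      A.ι.isOpenEmbedding.injective.injOn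
    rintro _ ⟨x, hx, rfl⟩
    refine ⟨hx, ?_⟩
    have : A.ι x ∈ Set.range A.ι := ⟨x, rfl⟩
    rw [Scheme.Opens.range_ι] at this
    exact this
  have K1 := (fibreIntegral_baseChange' (A.ι ≫ p) ((h ⁻¹ᵁ A).ι ≫ p') (h ∣_ A) g hsq
    (fun u => w' (A.ι u)) v' hfin').1
  rw [← fibreIntegral_opens, ← fibreIntegral_opens, ← K1]
  congr 1
  funext u
  change w' (h ((h ⁻¹ᵁ A).ι u)) = w' (A.ι ((h ∣_ A) u))
  rw [← Scheme.Hom.comp_apply, ← Scheme.Hom.comp_apply, morphismRestrict_ι]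

/-- (L⁺⁺): local constancy of fibre integrals along an open `W` which is finite over an open `D`
of the base. -/
theorem isLocallyConstant_fI_over_opens {X Y : Scheme.{u}} (f : X ⟶ Y) [LocallyQuasiFinite f]
    [LocallyOfFiniteType f] (w : X → ℤ) (hw : MoreMor.IsWeighting f w) {T B : Scheme.{u}}
    (m : T ⟶ X) (p : T ⟶ B) (q : B ⟶ Y) (hc : IsPullback m p f q) (W : T.Opens) (D : B.Opens)
    (α : (W : Scheme.{u}) ⟶ D) (hα : α ≫ D.ι = W.ι ≫ p) [IsFinite α] :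
    IsLocallyConstant (fun y' : ↥(D : Scheme.{u}) => fI p (w ∘ m) W (D.ι y')) := by
  haveI : LocallyQuasiFinite p := MorphismProperty.of_isPullback (P := @LocallyQuasiFinite) hc ‹_›
  let s : (W : Scheme.{u}) ⟶ pullback p D.ι := pullback.lift W.ι α hα.symm
  have hs1 : s ≫ pullback.fst p D.ι = W.ι := pullback.lift_fst _ _ _
  have hs2 : s ≫ pullback.snd p D.ι = α := pullback.lift_snd _ _ _
  haveI : IsOpenImmersion s := by
    haveI : IsOpenImmersion (s ≫ pullback.fst p D.ι) := by rw [hs1]; infer_instance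
    exact IsOpenImmersion.of_comp s (pullback.fst p D.ι)
  have hsq : IsPullback (pullback.fst p D.ι ≫ m) (pullback.snd p D.ι) f (D.ι ≫ q) :=
    (IsPullback.of_hasPullback p D.ι).paste_horiz hc
  have hE : (pullback.fst p D.ι) ⁻¹ᵁ W = s.opensRange := by
    ext x
    constructor
    · intro hx
      have hx' : pullback.fst p D.ι x ∈ W := hx
      obtain ⟨w₀, hw₀⟩ : pullback.fst p D.ι x ∈ Set.range W.ι := by
        rw [Scheme.Opens.range_ι]; exact hx'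
      refine ⟨w₀, ?_⟩
      apply (pullback.fst p D.ι).isOpenEmbedding.injective
      rw [← Scheme.Hom.comp_apply, hs1, hw₀]
    · rintro ⟨w₀, rfl⟩
      change pullback.fst p D.ι (s w₀) ∈ W
      rw [← Scheme.Hom.comp_apply, hs1]
      have : W.ι w₀ ∈ Set.range W.ι := ⟨w₀, rfl⟩
      rw [Scheme.Opens.range_ι] at this
      exact this
  haveI hfinE : IsFinite (s.opensRange.ι ≫ pullback.snd p D.ι) := by
    have h1 : s.opensRange.ι ≫ pullback.snd p D.ι = s.isoOpensRange.inv ≫ α := by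
      have h0 : s.opensRange.ι = s.isoOpensRange.inv ≫ s :=
        ((Iso.inv_comp_eq _).mpr s.isoOpensRange_hom_ι.symm).symm
      rw [h0, Category.assoc, hs2]
    rw [h1]
    infer_instance
  have hL := isLocallyConstant_fI f w hw (pullback.fst p D.ι ≫ m) (pullback.snd p D.ι) (D.ι ≫ q)
    hsq s.opensRange
  have e : (fun y' : ↥(D : Scheme.{u}) => fI p (w ∘ m) W (D.ι y')) =
      fI (pullback.snd p D.ι) (w ∘ ⇑(pullback.fst p D.ι ≫ m)) s.opensRange := by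
    funext y'
    rw [← hE]
    refine (fI_baseChange' p (pullback.snd p D.ι) (pullback.fst p D.ι) D.ι
      (IsPullback.of_hasPullback p D.ι) W (w ∘ m) y' ?_).symm
    have hfib := Scheme.Hom.finite_preimage_singleton α y'
    refine (hfib.image W.ι).subset ?_
    rintro x ⟨hx, hxW⟩
    obtain ⟨w₀, rfl⟩ : x ∈ Set.range W.ι := by rw [Scheme.Opens.range_ι]; exact hxW
    refine ⟨w₀, ?_, rfl⟩
    apply D.ι.isOpenEmbedding.injective
    rw [← Scheme.Hom.comp_apply, hα]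
    exact hx
  rw [e]
  exact hL

theorem fI_mul_const {P V : Scheme.{u}} (p : P ⟶ V) (a : P → ℤ) (c : ℤ) (A : Set P) (v : V) :
    fI p (fun y => a y * c) A v = c * fI p a A v := by
  unfold fI
  rw [mul_finsum_mem]
  refine finsum_mem_congr rfl (fun y _ => ?_)
  ring

/-- data for a composition `X ⟶ Y ⟶ Z` base changed to `B`. -/
structure CompData {X Y Z : Scheme.{u}} (f : X ⟶ Y) (g : Y ⟶ Z) (B : Scheme.{u}) where
  T : Scheme.{u}
  YB : Scheme.{u}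
  φ : T ⟶ YB
  γ : YB ⟶ B
  mT : T ⟶ X
  mY : YB ⟶ Y
  q : B ⟶ Z
  sq1 : IsPullback mT φ f mY
  sq2 : IsPullback mY γ g q

namespace CompData

variable {X Y Z : Scheme.{u}} {f : X ⟶ Y} {g : Y ⟶ Z} {B : Scheme.{u}} (D : CompData f g B)

/-- the total morphism. -/
abbrev p : D.T ⟶ B := D.φ ≫ D.γ

/-- the product weight. -/
def wT (wf : X → ℤ) (wg : Y → ℤ) : D.T → ℤ := fun t => wf (D.mT t) * wg (D.mY (D.φ t))

section bc
variable {B' : Scheme.{u}} (π : B' ⟶ B)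

noncomputable def bcφ : pullback D.p π ⟶ pullback D.γ π :=
  pullback.lift (pullback.fst D.p π ≫ D.φ) (pullback.snd D.p π)
    (by rw [Category.assoc]; exact pullback.condition)

theorem bcφ_fst : D.bcφ π ≫ pullback.fst D.γ π = pullback.fst D.p π ≫ D.φ :=
  pullback.lift_fst _ _ _

theorem bcφ_snd : D.bcφ π ≫ pullback.snd D.γ π = pullback.snd D.p π :=
  pullback.lift_snd _ _ _

theorem isPullback_bcφ :
    IsPullback (pullback.fst D.p π) (D.bcφ π) D.φ (pullback.fst D.γ π) := by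
  refine IsPullback.of_bot ?_ (D.bcφ_fst π).symm (IsPullback.of_hasPullback D.γ π)
  rw [bcφ_snd]
  exact IsPullback.of_hasPullback D.p π

/-- base change of the data along `π`. -/
noncomputable def bc : CompData f g B' where
  T := pullback D.p π
  YB := pullback D.γ π
  φ := D.bcφ π
  γ := pullback.snd D.γ π
  mT := pullback.fst D.p π ≫ D.mT
  mY := pullback.fst D.γ π ≫ D.mY
  q := π ≫ D.q
  sq1 := (D.isPullback_bcφ π).paste_horiz D.sq1
  sq2 := (IsPullback.of_hasPullback D.γ π).paste_horiz D.sq2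

theorem bc_sqT : IsPullback (pullback.fst D.p π) (D.bc π).p D.p π := by
  change IsPullback (pullback.fst D.p π) (D.bcφ π ≫ pullback.snd D.γ π) D.p π
  rw [bcφ_snd]
  exact IsPullback.of_hasPullback _ _

theorem wT_bc (wf : X → ℤ) (wg : Y → ℤ) :
    (D.bc π).wT wf wg = D.wT wf wg ∘ (pullback.fst D.p π) := by
  funext x
  change wf ((pullback.fst D.p π ≫ D.mT) x) * wg ((pullback.fst D.γ π ≫ D.mY) (D.bcφ π x)) =
    wf (D.mT (pullback.fst D.p π x)) * wg (D.mY (D.φ (pullback.fst D.p π x)))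
  rw [Scheme.Hom.comp_apply, Scheme.Hom.comp_apply, ← Scheme.Hom.comp_apply (D.bcφ π), bcφ_fst,
    Scheme.Hom.comp_apply]

end bc

/-- local constancy at a point of the fibre integral of the product weight. -/
def LCat (wf : X → ℤ) (wg : Y → ℤ) (W : D.T.Opens) (b : B) : Prop :=
  ∃ O : Set B, IsOpen O ∧ b ∈ O ∧
    ∀ b' ∈ O, fI D.p (D.wT wf wg) W b' = fI D.p (D.wT wf wg) W b

theorem lcat_of_bc {B' : Scheme.{u}} (π : B' ⟶ B) [Etale π] (wf : X → ℤ) (wg : Y → ℤ)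
    (W : D.T.Opens) [IsFinite (W.ι ≫ D.p)] (b' : B')
    (h : (D.bc π).LCat wf wg ((pullback.fst D.p π) ⁻¹ᵁ W) b') : D.LCat wf wg W (π b') := by
  obtain ⟨O, hO, hbO, hconst⟩ := h
  refine ⟨π '' O, π.isOpenMap _ hO, ⟨b', hbO, rfl⟩, ?_⟩
  rintro _ ⟨b'', hb'', rfl⟩
  have e := fun b => fI_baseChange D.p (D.bc π).p (pullback.fst D.p π) π (D.bc_sqT π) W
    (D.wT wf wg) b
  rw [← e b'', ← e b']
  have h3 := hconst b'' hb''
  rw [D.wT_bc π wf wg] at h3
  exact h3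

end CompData

namespace CompData

variable {X Y Z : Scheme.{u}} {f : X ⟶ Y} {g : Y ⟶ Z} {B : Scheme.{u}} (D : CompData f g B)

/-- (FIN): the final step, once everything is split. -/
theorem lcat_of_split [LocallyQuasiFinite f] [LocallyOfFiniteType f] [LocallyQuasiFinite g]
    [LocallyOfFiniteType g] (wf : X → ℤ) (wg : Y → ℤ) (hf : MoreMor.IsWeighting f wf)
    (hg : MoreMor.IsWeighting g wg) (W : D.T.Opens) [IsFinite (W.ι ≫ D.p)] (b₀ : B)
    {I : Type*} [Finite I] (Wt : I → D.T.Opens) (Dz : I → D.YB.Opens)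
    [hWt : ∀ i, IsFinite ((Wt i).ι ≫ D.p)] [hDz : ∀ i, IsFinite ((Dz i).ι ≫ D.γ)]
    (u1 : ∀ i, ∀ x y, x ∈ Wt i → y ∈ Wt i → D.p x = b₀ → D.p y = b₀ → x = y)
    (u2 : ∀ x ∈ W, D.p x = b₀ → ∃ i, x ∈ Wt i)
    (u3 : ∀ i j x, x ∈ Wt i → x ∈ Wt j → D.p x = b₀ → i = j)
    (v1 : ∀ i, ∀ y y', y ∈ Dz i → y' ∈ Dz i → D.γ y = b₀ → D.γ y' = b₀ → y = y')
    (hm : ∀ i x, x ∈ Wt i → D.φ x ∈ Dz i) : D.LCat wf wg W b₀ := by
  classical
  haveI : LocallyQuasiFinite D.φ :=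
    MorphismProperty.of_isPullback (P := @LocallyQuasiFinite) D.sq1 ‹_›
  obtain ⟨J, N, hbN, HN⟩ := decomposition D.p W Wt b₀ u1 u2 u3
  let A : I → D.YB → ℤ := fun i y => fI D.φ (wf ∘ D.mT) (Wt i) y
  have hα : ∀ i, ∃ α : ((Wt i : D.T.Opens) : Scheme.{u}) ⟶ ((Dz i : D.YB.Opens) : Scheme.{u}),
      α ≫ (Dz i).ι = (Wt i).ι ≫ D.φ ∧ IsFinite α := by
    intro i
    have hrange : Set.range ((Wt i).ι ≫ D.φ) ⊆ Set.range (Dz i).ι := by
      rintro _ ⟨x, rfl⟩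
      rw [Scheme.Opens.range_ι]
      apply hm i
      have : (Wt i).ι x ∈ Set.range (Wt i).ι := ⟨x, rfl⟩
      rw [Scheme.Opens.range_ι] at this
      exact this
    have h1 : IsOpenImmersion.lift (Dz i).ι ((Wt i).ι ≫ D.φ) hrange ≫ (Dz i).ι =
        (Wt i).ι ≫ D.φ := IsOpenImmersion.lift_fac _ _ _
    refine ⟨IsOpenImmersion.lift (Dz i).ι ((Wt i).ι ≫ D.φ) hrange, h1, ?_⟩
    refine MorphismProperty.of_postcomp (W := @IsFinite) (W' := @IsSeparated) _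
      ((Dz i).ι ≫ D.γ) inferInstance ?_
    rw [← Category.assoc, h1, Category.assoc]
    exact hWt i
  have hALC : ∀ i, IsLocallyConstant
      (fun y' : ↥((Dz i : D.YB.Opens) : Scheme.{u}) => A i ((Dz i).ι y')) := by
    intro i
    obtain ⟨α, h1, h2⟩ := hα i
    haveI := h2
    exact isLocallyConstant_fI_over_opens f wf hf D.mT D.φ D.mY D.sq1 (Wt i) (Dz i) α h1
  let c : I → ℤ := fun i => if h : ∃ y, y ∈ Dz i ∧ D.γ y = b₀ then A i h.choose else 0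
  have hc : ∀ i y, y ∈ Dz i → D.γ y = b₀ → A i y = c i := by
    intro i y hy hyb
    have h : ∃ y, y ∈ Dz i ∧ D.γ y = b₀ := ⟨y, hy, hyb⟩
    simp only [c, dif_pos h]
    rw [v1 i y h.choose hy h.choose_spec.1 hyb h.choose_spec.2]
  have hNi : ∀ i, ∃ Ni : Set B, IsOpen Ni ∧ b₀ ∈ Ni ∧
      ∀ y, y ∈ Dz i → D.γ y ∈ Ni → A i y = c i := by
    intro i
    let K : Set ↥((Dz i : D.YB.Opens) : Scheme.{u}) := {y' | A i ((Dz i).ι y') ≠ c i}
    have hK : IsClosed K := by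
      have : K = ((fun y' => A i ((Dz i).ι y')) ⁻¹' {c i})ᶜ := rfl
      rw [this]
      exact ((hALC i).isOpen_fiber _).isClosed_compl
    have hcl : IsClosed (((Dz i).ι ≫ D.γ) '' K) := ((Dz i).ι ≫ D.γ).isClosedMap _ hK
    refine ⟨(((Dz i).ι ≫ D.γ) '' K)ᶜ, hcl.isOpen_compl, ?_, ?_⟩
    · rintro ⟨y', hy'K, hy'b⟩
      apply hy'K
      refine hc i _ ?_ hy'b
      have : (Dz i).ι y' ∈ Set.range (Dz i).ι := ⟨y', rfl⟩
      rw [Scheme.Opens.range_ι] at this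
      exact this
    · intro y hy hyN
      by_contra hne
      apply hyN
      obtain ⟨y', rfl⟩ : y ∈ Set.range (Dz i).ι := by rw [Scheme.Opens.range_ι]; exact hy
      exact ⟨y', hne, rfl⟩
  choose Ni hNi1 hNi2 hNi3 using hNi
  let G : I → B → ℤ := fun i => fI D.γ (wg ∘ D.mY) (Dz i)
  have hG : ∀ i, IsLocallyConstant (G i) := fun i =>
    isLocallyConstant_fI g wg hg D.mY D.γ D.q D.sq2 (Dz i)
  have hform : ∀ i, ∀ b ∈ Ni i, fI D.p (D.wT wf wg) (Wt i) b = c i * G i b := by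
    intro i b hb
    have h1 := fI_comp D.φ D.γ (wf ∘ D.mT) (wg ∘ D.mY) (Wt i : Set _) (Dz i : Set _) b
      (finite_fibre_inter_opens D.p (Wt i) b) (fun x hx _ => hm i x hx)
    refine h1.trans ?_
    have h2 : fI D.γ (fun y => (wg ∘ D.mY) y * fI D.φ (wf ∘ D.mT) (Wt i) y) (Dz i) b =
        fI D.γ (fun y => (wg ∘ D.mY) y * c i) (Dz i) b := by
      refine finsum_mem_congr rfl (fun y hy => ?_)
      have hAy : fI D.φ (wf ∘ D.mT) (Wt i) y = c i := hNi3 i y hy.2 (by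
        have : D.γ y = b := hy.1
        rw [this]; exact hb)
      change (wg ∘ D.mY) y * fI D.φ (wf ∘ D.mT) (Wt i) y * (sd D.γ y : ℤ) =
        (wg ∘ D.mY) y * c i * (sd D.γ y : ℤ)
      rw [hAy]
    rw [h2]
    exact fI_mul_const D.γ (wg ∘ D.mY) (c i) (Dz i) b
  let O : I → Set B := fun i => {b | G i b = G i b₀}
  have hO : ∀ i, IsOpen (O i) := fun i => (hG i).isOpen_fiber _
  let N' : Set B := (N : Set B) ∩ (⋂ i, Ni i) ∩ ⋂ i, O i
  have hN' : IsOpen N' := (N.2.inter (isOpen_iInter_of_finite hNi1)).inter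
    (isOpen_iInter_of_finite hO)
  have hbN' : b₀ ∈ N' := ⟨⟨hbN, Set.mem_iInter.mpr hNi2⟩, Set.mem_iInter.mpr (fun i => rfl)⟩
  have hdec : ∀ b ∈ N', fI D.p (D.wT wf wg) W b = ∑ᶠ i ∈ J, c i * G i b := by
    rintro b ⟨⟨hb1, hb2⟩, -⟩
    rw [fI_decomp D.p _ (W : Set _) J (Set.toFinite J) (fun i => ((Wt i : D.T.Opens) : Set _)) b
      (fun i _ => finite_fibre_inter_opens D.p (Wt i) b) (HN b hb1).1 (HN b hb1).2.1
      (HN b hb1).2.2]
    refine finsum_mem_congr rfl (fun i _ => ?_)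
    exact hform i b (Set.mem_iInter.mp hb2 i)
  refine ⟨N', hN', hbN', ?_⟩
  intro b hb
  rw [hdec b hb, hdec b₀ hbN']
  refine finsum_mem_congr rfl (fun i _ => ?_)
  have : G i b = G i b₀ := Set.mem_iInter.mp hb.2 i
  rw [this]

end CompData

namespace CompData

variable {X Y Z : Scheme.{u}} {f : X ⟶ Y} {g : Y ⟶ Z} {B : Scheme.{u}} (D : CompData f g B)

theorem lqf_γ [LocallyQuasiFinite g] : LocallyQuasiFinite D.γ :=
  MorphismProperty.of_isPullback (P := @LocallyQuasiFinite) D.sq2 ‹_›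

theorem lft_γ [LocallyOfFiniteType g] : LocallyOfFiniteType D.γ :=
  MorphismProperty.of_isPullback (P := @LocallyOfFiniteType) D.sq2 ‹_›

theorem lqf_φ [LocallyQuasiFinite f] : LocallyQuasiFinite D.φ :=
  MorphismProperty.of_isPullback (P := @LocallyQuasiFinite) D.sq1 ‹_›

theorem lft_φ [LocallyOfFiniteType f] : LocallyOfFiniteType D.φ :=
  MorphismProperty.of_isPullback (P := @LocallyOfFiniteType) D.sq1 ‹_›

theorem lqf_p [LocallyQuasiFinite f] [LocallyQuasiFinite g] : LocallyQuasiFinite D.p := by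
  haveI := D.lqf_γ
  haveI := D.lqf_φ
  infer_instance

theorem lft_p [LocallyOfFiniteType f] [LocallyOfFiniteType g] : LocallyOfFiniteType D.p := by
  haveI := D.lft_γ
  haveI := D.lft_φ
  infer_instance

theorem isFinite_bc {B' : Scheme.{u}} (π : B' ⟶ B) (W : D.T.Opens) [IsFinite (W.ι ≫ D.p)] :
    IsFinite (((pullback.fst D.p π) ⁻¹ᵁ W).ι ≫ (D.bc π).p) :=
  MorphismProperty.of_isPullback (P := @IsFinite)
    ((isPullback_morphismRestrict (pullback.fst D.p π) W).paste_vert (D.bc_sqT π)) ‹_›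

theorem isFinite_bcY {B' : Scheme.{u}} (π : B' ⟶ B) (Dz : D.YB.Opens) [IsFinite (Dz.ι ≫ D.γ)] :
    IsFinite (((pullback.fst D.γ π) ⁻¹ᵁ Dz).ι ≫ (D.bc π).γ) :=
  MorphismProperty.of_isPullback (P := @IsFinite)
    ((isPullback_morphismRestrict (pullback.fst D.γ π) Dz).paste_vert
      (IsPullback.of_hasPullback D.γ π)) ‹_›

theorem bc_p_apply {B' : Scheme.{u}} (π : B' ⟶ B) (x : ↥(D.bc π).T) :
    (D.bc π).p x = pullback.snd D.p π x := by
  change (D.bcφ π ≫ pullback.snd D.γ π) x = _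
  rw [bcφ_snd]

theorem bc_p_comm {B' : Scheme.{u}} (π : B' ⟶ B) (x : ↥(D.bc π).T) :
    D.p (pullback.fst D.p π x) = π ((D.bc π).p x) := by
  rw [bc_p_apply, ← Scheme.Hom.comp_apply, ← Scheme.Hom.comp_apply, pullback.condition]

theorem bc_γ_comm {B' : Scheme.{u}} (π : B' ⟶ B) (y : ↥(D.bc π).YB) :
    D.γ (pullback.fst D.γ π y) = π ((D.bc π).γ y) := by
  change _ = π (pullback.snd D.γ π y)
  rw [← Scheme.Hom.comp_apply, ← Scheme.Hom.comp_apply, pullback.condition]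

theorem bc_φ_comm {B' : Scheme.{u}} (π : B' ⟶ B) (x : ↥(D.bc π).T) :
    pullback.fst D.γ π ((D.bc π).φ x) = D.φ (pullback.fst D.p π x) := by
  change pullback.fst D.γ π (D.bcφ π x) = _
  rw [← Scheme.Hom.comp_apply, bcφ_fst, Scheme.Hom.comp_apply]

end CompData

namespace CompData

variable {X Y Z : Scheme.{u}} {f : X ⟶ Y} {g : Y ⟶ Z} {B : Scheme.{u}} (D : CompData f g B)

/-- (L3): as `lcat_of_split`, but the compatibility `φ(Wt i) ⊆ Dz i` is only required over the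
base point. -/
theorem lcat_of_split' [LocallyQuasiFinite f] [LocallyOfFiniteType f] [LocallyQuasiFinite g]
    [LocallyOfFiniteType g] (wf : X → ℤ) (wg : Y → ℤ) (hf : MoreMor.IsWeighting f wf)
    (hg : MoreMor.IsWeighting g wg) (W : D.T.Opens) [IsFinite (W.ι ≫ D.p)] (b₀ : B)
    {I : Type*} [Finite I] (Wt : I → D.T.Opens) (Dz : I → D.YB.Opens)
    [hWt : ∀ i, IsFinite ((Wt i).ι ≫ D.p)] [hDz : ∀ i, IsFinite ((Dz i).ι ≫ D.γ)]
    (u1 : ∀ i, ∀ x y, x ∈ Wt i → y ∈ Wt i → D.p x = b₀ → D.p y = b₀ → x = y)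
    (u2 : ∀ x ∈ W, D.p x = b₀ → ∃ i, x ∈ Wt i)
    (u3 : ∀ i j x, x ∈ Wt i → x ∈ Wt j → D.p x = b₀ → i = j)
    (v1 : ∀ i, ∀ y y', y ∈ Dz i → y' ∈ Dz i → D.γ y = b₀ → D.γ y' = b₀ → y = y')
    (hm0 : ∀ i x, x ∈ Wt i → D.p x = b₀ → D.φ x ∈ Dz i) : D.LCat wf wg W b₀ := by
  classical
  let C : I → Set B := fun i => D.p '' ((Wt i : Set D.T) ∩ (D.φ ⁻¹' (Dz i : Set D.YB))ᶜ)
  have hC : ∀ i, IsClosed (C i) := fun i =>
    isClosed_image_inter D.p (Wt i) _ ((Dz i).2.preimage D.φ.continuous).isClosed_compl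
  have hbC : ∀ i, b₀ ∉ C i := by
    rintro i ⟨x, ⟨hxW, hxn⟩, hx⟩
    exact hxn (hm0 i x hxW hx)
  let Na : B.Opens := ⟨(⋃ i, C i)ᶜ, (isClosed_iUnion_of_finite hC).isOpen_compl⟩
  have hbNa : b₀ ∈ Na := by
    change b₀ ∉ ⋃ i, C i
    rw [Set.mem_iUnion]
    rintro ⟨i, hi⟩
    exact hbC i hi
  let b₃ : ↥(Na : Scheme.{u}) := ⟨b₀, hbNa⟩
  have hb₃ : Na.ι b₃ = b₀ := rfl
  rw [← hb₃]
  apply D.lcat_of_bc Na.ι
  let W₃ : (D.bc Na.ι).T.Opens := (pullback.fst D.p Na.ι) ⁻¹ᵁ W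
  haveI hW₃fin : IsFinite (W₃.ι ≫ (D.bc Na.ι).p) := D.isFinite_bc Na.ι W
  change (D.bc Na.ι).LCat wf wg W₃ b₃
  let Wt3 : I → (D.bc Na.ι).T.Opens := fun i => (pullback.fst D.p Na.ι) ⁻¹ᵁ (Wt i)
  let Dz3 : I → (D.bc Na.ι).YB.Opens := fun i => (pullback.fst D.γ Na.ι) ⁻¹ᵁ (Dz i)
  haveI hWt3 : ∀ i, IsFinite ((Wt3 i).ι ≫ (D.bc Na.ι).p) := fun i => D.isFinite_bc Na.ι (Wt i)
  haveI hDz3 : ∀ i, IsFinite ((Dz3 i).ι ≫ (D.bc Na.ι).γ) := fun i => D.isFinite_bcY Na.ι (Dz i)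
  have hinjT : Function.Injective (pullback.fst D.p Na.ι) :=
    (pullback.fst D.p Na.ι).isOpenEmbedding.injective
  have hinjY : Function.Injective (pullback.fst D.γ Na.ι) :=
    (pullback.fst D.γ Na.ι).isOpenEmbedding.injective
  have hpt : ∀ x : ↥(D.bc Na.ι).T, (D.bc Na.ι).p x = b₃ → D.p (pullback.fst D.p Na.ι x) = b₀ := by
    intro x hx
    rw [D.bc_p_comm Na.ι x, hx, hb₃]
  have hpy : ∀ y : ↥(D.bc Na.ι).YB, (D.bc Na.ι).γ y = b₃ →
      D.γ (pullback.fst D.γ Na.ι y) = b₀ := by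
    intro y hy
    rw [D.bc_γ_comm Na.ι y, hy, hb₃]
  refine (D.bc Na.ι).lcat_of_split wf wg hf hg W₃ b₃ Wt3 Dz3 ?_ ?_ ?_ ?_ ?_
  · intro i x y hx hy hpx hpy'
    exact hinjT (u1 i _ _ hx hy (hpt x hpx) (hpt y hpy'))
  · intro x hx hpx
    exact u2 _ hx (hpt x hpx)
  · intro i j x hxi hxj hpx
    exact u3 i j _ hxi hxj (hpt x hpx)
  · intro i y y' hy hy' hpy1 hpy2
    exact hinjY (v1 i _ _ hy hy' (hpy y hpy1) (hpy y' hpy2))
  · intro i x hx
    change pullback.fst D.γ Na.ι ((D.bc Na.ι).φ x) ∈ Dz i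
    rw [D.bc_φ_comm Na.ι x]
    by_contra hcon
    have hmem : D.p (pullback.fst D.p Na.ι x) ∈ Na := by
      rw [D.bc_p_comm Na.ι x]
      exact ((D.bc Na.ι).p x).2
    apply hmem
    exact Set.mem_iUnion.mpr ⟨i, _, ⟨hx, hcon⟩, rfl⟩

end CompData

namespace CompData

variable {X Y Z : Scheme.{u}} {f : X ⟶ Y} {g : Y ⟶ Z} {B : Scheme.{u}} (D : CompData f g B)

/-- (L2): local constancy once the `Y`-level is split at the base point. -/
theorem lcat_of_splitY [LocallyQuasiFinite f] [LocallyOfFiniteType f] [LocallyQuasiFinite g]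
    [LocallyOfFiniteType g] (wf : X → ℤ) (wg : Y → ℤ) (hf : MoreMor.IsWeighting f wf)
    (hg : MoreMor.IsWeighting g wg) (W : D.T.Opens) [IsFinite (W.ι ≫ D.p)] (b₀ : B)
    {I₁ : Type*} (Dz₁ : I₁ → D.YB.Opens) [hDz₁ : ∀ i, IsFinite ((Dz₁ i).ι ≫ D.γ)]
    (pt : I₁ → D.YB) (hpt1 : ∀ i, pt i ∈ Dz₁ i)
    (hpt3 : ∀ i y, y ∈ Dz₁ i → D.γ y = b₀ → y = pt i) (hpt4 : ∀ i, sd D.γ (pt i) = 1)
    (c1 : ∀ x ∈ W, D.p x = b₀ → ∃ i, D.φ x = pt i) : D.LCat wf wg W b₀ := by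
  classical
  haveI := D.lqf_p
  haveI := D.lft_p
  haveI := D.lqf_γ
  let S₁ : Set D.T := {x | D.p x = b₀} ∩ W
  have hS₁ : S₁.Finite := finite_fibre_inter_opens D.p W b₀
  obtain ⟨B₂, π₂, b₂, hπ₂, hb₂, hJ₂fin, H₂⟩ := exists_etale_split D.p b₀ S₁ hS₁
    (fun t ht => ⟨ht.1, D.p.quasiFiniteAt _⟩)
  haveI := hπ₂
  rw [← hb₂]
  apply D.lcat_of_bc π₂
  let W₂ : (D.bc π₂).T.Opens := (pullback.fst D.p π₂) ⁻¹ᵁ W
  haveI hW₂fin : IsFinite (W₂.ι ≫ (D.bc π₂).p) := D.isFinite_bc π₂ W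
  change (D.bc π₂).LCat wf wg W₂ b₂
  let I : Type u := {t : ↥(pullback D.p π₂) // pullback.snd D.p π₂ t = b₂ ∧
    pullback.fst D.p π₂ t ∈ S₁}
  haveI : Finite I := hJ₂fin.to_subtype
  have H₂' : ∀ i : I, ∃ V : (pullback D.p π₂).Opens, i.1 ∈ V ∧
      IsFinite (V.ι ≫ pullback.snd D.p π₂) ∧
      ∀ w' : ↥(pullback D.p π₂), w' ∈ V → pullback.snd D.p π₂ w' = b₂ → w' = i.1 :=
    fun i => (H₂ i.1 i.2.1 i.2.2).1
  choose Wt0 hWt1 hWt2 hWt3 using H₂'
  let Wt : I → (D.bc π₂).T.Opens := Wt0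
  have hpeq : (D.bc π₂).p = pullback.snd D.p π₂ := D.bcφ_snd π₂
  haveI hWtfin : ∀ i, IsFinite ((Wt i).ι ≫ (D.bc π₂).p) := fun i => by
    rw [hpeq]
    exact hWt2 i
  have hidx : ∀ t : I, ∃ i₁ : I₁, D.φ (pullback.fst D.p π₂ t.1) = pt i₁ :=
    fun t => c1 _ t.2.2.2 t.2.2.1
  choose idx hidx using hidx
  let Dz' : I → (D.bc π₂).YB.Opens := fun t => (pullback.fst D.γ π₂) ⁻¹ᵁ (Dz₁ (idx t))
  haveI hDz'fin : ∀ t, IsFinite ((Dz' t).ι ≫ (D.bc π₂).γ) := fun t =>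
    D.isFinite_bcY π₂ (Dz₁ (idx t))
  have hsnd : ∀ x : ↥(D.bc π₂).T, (D.bc π₂).p x = b₂ → pullback.snd D.p π₂ x = b₂ := by
    intro x hx
    rw [← D.bc_p_apply π₂ x, hx]
  refine (D.bc π₂).lcat_of_split' wf wg hf hg W₂ b₂ Wt Dz' ?_ ?_ ?_ ?_ ?_
  · intro i x y hx hy hpx hpy
    rw [hWt3 i x hx (hsnd x hpx), hWt3 i y hy (hsnd y hpy)]
  · intro x hx hpx
    have hxS : pullback.fst D.p π₂ x ∈ S₁ := by
      refine ⟨?_, hx⟩
      change D.p (pullback.fst D.p π₂ x) = b₀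
      rw [D.bc_p_comm π₂ x, hpx, hb₂]
    exact ⟨⟨x, hsnd x hpx, hxS⟩, hWt1 ⟨x, hsnd x hpx, hxS⟩⟩
  · intro i j x hxi hxj hpx
    exact Subtype.ext ((hWt3 i x hxi (hsnd x hpx)).symm.trans (hWt3 j x hxj (hsnd x hpx)))
  · intro t y y' hy hy' hpy hpy'
    have h1 : pullback.fst D.γ π₂ y = pt (idx t) := by
      apply hpt3 _ _ hy
      have h0 := D.bc_γ_comm π₂ y
      rw [hpy, hb₂] at h0
      exact h0
    have h2 : pullback.fst D.γ π₂ y' = pt (idx t) := by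
      apply hpt3 _ _ hy'
      have h0 := D.bc_γ_comm π₂ y'
      rw [hpy', hb₂] at h0
      exact h0
    exact eq_of_sd_eq_one D.γ (D.bc π₂).γ (pullback.fst D.γ π₂) π₂
      (IsPullback.of_hasPullback D.γ π₂) (pt (idx t)) (hpt4 _) y y' h1 h2 (hpy.trans hpy'.symm)
  · intro t x hx hpx
    have hxt : x = t.1 := hWt3 t x hx (hsnd x hpx)
    change pullback.fst D.γ π₂ ((D.bc π₂).φ x) ∈ Dz₁ (idx t)
    rw [D.bc_φ_comm π₂ x, hxt, hidx t]
    exact hpt1 _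

end CompData

namespace CompData

variable {X Y Z : Scheme.{u}} {f : X ⟶ Y} {g : Y ⟶ Z} {B : Scheme.{u}} (D : CompData f g B)

/-- Main theorem for compositions: local constancy at every point. -/
theorem lcat [LocallyQuasiFinite f] [LocallyOfFiniteType f] [LocallyQuasiFinite g]
    [LocallyOfFiniteType g] (wf : X → ℤ) (wg : Y → ℤ) (hf : MoreMor.IsWeighting f wf)
    (hg : MoreMor.IsWeighting g wg) (W : D.T.Opens) [IsFinite (W.ι ≫ D.p)] (b₀ : B) :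
    D.LCat wf wg W b₀ := by
  classical
  haveI := D.lqf_γ
  haveI := D.lft_γ
  let S₀ : Set D.T := {x | D.p x = b₀} ∩ W
  have hS₀ : S₀.Finite := finite_fibre_inter_opens D.p W b₀
  let T₀ : Set D.YB := D.φ '' S₀
  have hT₀s : ∀ t ∈ T₀, D.γ t = b₀ ∧ D.γ.QuasiFiniteAt t := by
    rintro _ ⟨x, ⟨hx, -⟩, rfl⟩
    exact ⟨hx, D.γ.quasiFiniteAt _⟩
  obtain ⟨B₁, π₁, b₁, hπ₁, hb₁, hJ₁fin, H₁⟩ := exists_etale_split D.γ b₀ T₀ (hS₀.image _) hT₀s
  haveI := hπ₁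
  rw [← hb₁]
  apply D.lcat_of_bc π₁
  let W₁ : (D.bc π₁).T.Opens := (pullback.fst D.p π₁) ⁻¹ᵁ W
  haveI hW₁fin : IsFinite (W₁.ι ≫ (D.bc π₁).p) := D.isFinite_bc π₁ W
  change (D.bc π₁).LCat wf wg W₁ b₁
  let I₁ : Type u := {z : ↥(pullback D.γ π₁) // pullback.snd D.γ π₁ z = b₁ ∧
    pullback.fst D.γ π₁ z ∈ T₀}
  have H₁' : ∀ i : I₁, ∃ V : (pullback D.γ π₁).Opens, i.1 ∈ V ∧
      IsFinite (V.ι ≫ pullback.snd D.γ π₁) ∧
      ∀ w' : ↥(pullback D.γ π₁), w' ∈ V → pullback.snd D.γ π₁ w' = b₁ → w' = i.1 :=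
    fun i => (H₁ i.1 i.2.1 i.2.2).1
  choose Dz0 h1 h2 h3 using H₁'
  let Dz₁ : I₁ → (D.bc π₁).YB.Opens := Dz0
  refine (D.bc π₁).lcat_of_splitY wf wg hf hg W₁ b₁ Dz₁ (hDz₁ := h2) (fun i => i.1) h1
    (fun i y hy hyb => h3 i y hy hyb)
    (fun i => sd_eq_one_of_pInsep _ _ (H₁ i.1 i.2.1 i.2.2).2.1) ?_
  intro x hx hpx
  have hz1 : pullback.snd D.γ π₁ ((D.bc π₁).φ x) = b₁ := hpx
  have hz2 : pullback.fst D.γ π₁ ((D.bc π₁).φ x) ∈ T₀ := by
    rw [D.bc_φ_comm π₁ x]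
    refine ⟨pullback.fst D.p π₁ x, ⟨?_, hx⟩, rfl⟩
    change D.p (pullback.fst D.p π₁ x) = b₀
    rw [D.bc_p_comm π₁ x, hpx, hb₁]
  exact ⟨⟨_, hz1, hz2⟩, rfl⟩

end CompData

end Groth.Agent.Lib.Helper2.Weight
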