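import Mathlib
import Groth.Prelude.Def_MoreMor
import Groth.Agent.Lib.Helper2Weight
import Groth.Agent.Lib.Helper2Weight2
import Groth.Agent.Lib.Helper2Weight3

set_option autoImplicit false
universe u

namespace Groth.Agent.Lib.Helper2.Weight

open AlgebraicGeometry CategoryTheory Limits IsLocalRing
open Groth.Agent.Lib.Helper20.EtSections

/-- the spectrum of a purely inseparable field extension is universally injective. -/
theorem universallyInjective_SpecMap_of_isPurelyInseparable (K L : Type u) [Field K] [Field L]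
    [Algebra K L] [IsPurelyInseparable K L] :
    UniversallyInjective (Spec.map (CommRingCat.ofHom (algebraMap K L))) := by
  have h := (tfae_universallyInjective (Spec.map (CommRingCat.ofHom (algebraMap K L)))).out 0 1
  rw [h]
  intro F _ g₁ g₂ hg
  obtain ⟨ψ₁, rfl⟩ := Spec.map_surjective g₁
  obtain ⟨ψ₂, rfl⟩ := Spec.map_surjective g₂
  have hg' : Spec.map (CommRingCat.ofHom (algebraMap K L) ≫ ψ₁) =
      Spec.map (CommRingCat.ofHom (algebraMap K L) ≫ ψ₂) := by
    rw [Spec.map_comp, Spec.map_comp]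
    exact hg
  have h2 := Spec.map_injective hg'
  have h3 : ψ₁.hom.comp (algebraMap K L) = ψ₂.hom.comp (algebraMap K L) := by
    have := congrArg CommRingCat.Hom.hom h2
    exact this
  have h4 := IsPurelyInseparable.injective_comp_algebraMap K L F h3
  exact congrArg Spec.map (CommRingCat.hom_ext h4)

/-- the geometric number of points of the fibre as a sum of separable degrees. -/
noncomputable def ng {X Y : Scheme.{u}} (f : X ⟶ Y) (y : Y) : ℕ :=
  ∑ᶠ x : {x : X // f x = y}, sd f x.1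

theorem fibreIntegral_one {X Y : Scheme.{u}} (f : X ⟶ Y) (y : Y) (hfin : (f ⁻¹' {y}).Finite) :
    MoreMor.fibreIntegral f (fun _ => 1) y = (ng f y : ℤ) := by
  haveI : Finite {x : X // f x = y} := hfin.to_subtype
  letI := Fintype.ofFinite {x : X // f x = y}
  rw [fibreIntegral_eq, ng, finsum_eq_sum_of_fintype, finsum_eq_sum_of_fintype]
  push_cast
  refine Finset.sum_congr rfl (fun x _ => ?_)
  rw [one_mul]

theorem card_cc_of_discrete' (Z : Type*) [TopologicalSpace Z] [DiscreteTopology Z] :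
    ENat.card (ConnectedComponents Z) = ENat.card Z := by
  symm
  apply ENat.card_congr
  refine Equiv.ofBijective ConnectedComponents.mk ⟨?_, ConnectedComponents.surjective_coe⟩
  intro a b hab
  rw [ConnectedComponents.coe_eq_coe] at hab
  rw [connectedComponent_eq_singleton, connectedComponent_eq_singleton] at hab
  exact Set.singleton_injective hab

/-- (N): the number of geometric connected components of a finite discrete fibre is the sum of
the separable degrees. -/
theorem nGeomConnComp_eq {X Y : Scheme.{u}} (f : X ⟶ Y) [LocallyQuasiFinite f]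
    [LocallyOfFiniteType f] (y : Y) (hfin : (f ⁻¹' {y}).Finite) :
    MoreMor.nGeomConnComp f y = (ng f y : ℕ∞) := by
  -- discreteness of the geometric fibre
  have hq1 : LocallyQuasiFinite (f.fiberToSpecResidueField y) := by
    unfold Scheme.Hom.fiberToSpecResidueField
    exact MorphismProperty.pullback_snd (P := @LocallyQuasiFinite) f _ inferInstance
  let Ωs := SeparableClosure (Y.residueField y)
  let p : MoreMor.geomFiber f y ⟶ Spec (CommRingCat.of Ωs) := pullback.snd _ _
  have hq2 : LocallyQuasiFinite p :=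
    MorphismProperty.pullback_snd (P := @LocallyQuasiFinite) _ _ hq1
  have hsub : Subsingleton ↥(Spec (CommRingCat.of Ωs)) :=
    inferInstanceAs (Subsingleton (PrimeSpectrum Ωs))
  have hne : Nonempty ↥(Spec (CommRingCat.of Ωs)) :=
    inferInstanceAs (Nonempty (PrimeSpectrum Ωs))
  obtain ⟨pt⟩ := hne
  have hdisc := p.isDiscrete_preimage_singleton pt
  have hu : p ⁻¹' {pt} = Set.univ := by
    ext z
    simp only [Set.mem_preimage, Set.mem_singleton_iff, Set.mem_univ, iff_true]
    exact Subsingleton.elim _ _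
  rw [hu, isDiscrete_univ_iff] at hdisc
  unfold MoreMor.nGeomConnComp
  rw [card_cc_of_discrete']
  -- comparison with the pullback along the geometric point
  let φs : CommRingCat.of (Y.residueField y) ⟶ CommRingCat.of Ωs :=
    CommRingCat.ofHom (algebraMap (Y.residueField y) Ωs)
  let as : Spec (CommRingCat.of Ωs) ⟶ Y := Spec.map φs ≫ Y.fromSpecResidueField y
  let e : MoreMor.geomFiber f y ≅ pullback f as :=
    pullbackLeftPullbackSndIso f (Y.fromSpecResidueField y) (Spec.map φs)
  rw [ENat.card_congr e.hom.homeomorph.toEquiv]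
  -- algebraic closure
  let Ωb := AlgebraicClosure Ωs
  let b : Spec (CommRingCat.of Ωb) ⟶ Spec (CommRingCat.of Ωs) :=
    Spec.map (CommRingCat.ofHom (algebraMap Ωs Ωb))
  haveI hb : UniversallyInjective b := universallyInjective_SpecMap_of_isPurelyInseparable Ωs Ωb
  haveI hbs : Surjective b := by
    refine ⟨fun t => ⟨closedPoint Ωb, ?_⟩⟩
    exact Subsingleton.elim _ _
  let e2 : pullback (pullback.snd f as) b ≅ pullback f (b ≫ as) :=
    pullbackLeftPullbackSndIso f as b
  have hbij : Function.Bijective (pullback.fst (pullback.snd f as) b) :=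
    haveI : UniversallyInjective (pullback.fst (pullback.snd f as) b) :=
      MorphismProperty.pullback_fst (P := @UniversallyInjective) _ _ hb
    ⟨(pullback.fst (pullback.snd f as) b).injective, (pullback.fst (pullback.snd f as) b).surjective⟩
  rw [← ENat.card_congr (Equiv.ofBijective _ hbij), ENat.card_congr e2.hom.homeomorph.toEquiv]
  -- count
  have hy : (b ≫ as) (closedPoint Ωb) = y := by
    rw [Scheme.Hom.comp_apply, Scheme.Hom.comp_apply, Scheme.fromSpecResidueField_apply]
  have hfin' : (f ⁻¹' {(b ≫ as) (closedPoint Ωb)}).Finite := by rw [hy]; exact hfin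
  haveI := finite_geomFibre f (b ≫ as) hfin'
  have h1 := fibreIntegral_eq_geom f (b ≫ as) (fun _ => 1) hfin'
  letI := Fintype.ofFinite ↥(pullback f (b ≫ as))
  rw [hy, fibreIntegral_one f y hfin, finsum_eq_sum_of_fintype, Finset.sum_const, Finset.card_univ,
    nsmul_eq_mul, mul_one] at h1
  have h2 : ng f y = Fintype.card ↥(pullback f (b ≫ as)) := by exact_mod_cast h1
  rw [h2, ENat.card_eq_coe_fintype_card]

/-- (TAIL): if over an open `N'` of `V` all points of the base change lie in a finite open,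
then the base change to `N'` is finite. -/
theorem isFinite_restrict_of_subset {X Y V : Scheme.{u}} (f : X ⟶ Y) (gV : V ⟶ Y)
    (Aop : (pullback f gV).Opens) [hfinA : IsFinite (Aop.ι ≫ pullback.snd f gV)] (NV : V.Opens)
    (key : ∀ x : ↥(pullback f gV), pullback.snd f gV x ∈ NV → x ∈ Aop) :
    IsFinite (pullback.snd f (NV.ι ≫ gV)) := by
  let k : pullback f (NV.ι ≫ gV) ⟶ pullback f gV :=
    pullback.lift (pullback.fst f (NV.ι ≫ gV)) (pullback.snd f (NV.ι ≫ gV) ≫ NV.ι)
      (by rw [pullback.condition, Category.assoc])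
  have hkf : k ≫ pullback.fst f gV = pullback.fst f (NV.ι ≫ gV) := pullback.lift_fst _ _ _
  have hks : k ≫ pullback.snd f gV = pullback.snd f (NV.ι ≫ gV) ≫ NV.ι := pullback.lift_snd _ _ _
  have hbig : IsPullback (k ≫ pullback.fst f gV) (pullback.snd f (NV.ι ≫ gV)) f (NV.ι ≫ gV) := by
    rw [hkf]
    exact IsPullback.of_hasPullback f _
  have hP1 : IsPullback k (pullback.snd f (NV.ι ≫ gV)) (pullback.snd f gV) NV.ι :=
    IsPullback.of_right hbig hks (IsPullback.of_hasPullback f gV)
  haveI : IsOpenImmersion k :=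
    MorphismProperty.of_isPullback (P := @IsOpenImmersion) hP1.flip inferInstance
  have hrange : Set.range k ⊆ Set.range Aop.ι := by
    rintro _ ⟨x, rfl⟩
    rw [Scheme.Opens.range_ι]
    apply key
    rw [← Scheme.Hom.comp_apply, hks, Scheme.Hom.comp_apply]
    exact (pullback.snd f (NV.ι ≫ gV) x).2
  let k' : pullback f (NV.ι ≫ gV) ⟶ Aop := IsOpenImmersion.lift Aop.ι k hrange
  have hk' : k' ≫ Aop.ι = k := IsOpenImmersion.lift_fac _ _ _
  have htop : IsPullback k' (𝟙 _) Aop.ι k :=
    IsPullback.of_vert_isIso_mono ⟨by rw [hk', Category.id_comp]⟩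
  have hfull := htop.paste_vert hP1
  rw [Category.id_comp] at hfull
  exact MorphismProperty.of_isPullback (P := @IsFinite) hfull hfinA

/-- (CORE) for the number of geometric points. -/
theorem exists_etale_core_ng {X Y : Scheme.{u}} (f : X ⟶ Y) [LocallyQuasiFinite f]
    [LocallyOfFiniteType f] [IsSeparated f] (hfin : ∀ y : Y, (f ⁻¹' {y}).Finite) (y : Y)
    (hopen : ∀ (V : Scheme.{u}) (gV : V ⟶ Y) [Etale gV] (z : ↥(pullback f gV)),
      f (pullback.fst f gV z) = y → ∀ U ∈ nhds z,
        (pullback.snd f gV) '' U ∈ nhds (pullback.snd f gV z)) :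
    ∃ (V : Scheme.{u}) (gV : V ⟶ Y) (v : V) (Aop : (pullback f gV).Opens) (N : V.Opens),
      Etale gV ∧ gV v = y ∧ v ∈ N ∧ IsFinite (Aop.ι ≫ pullback.snd f gV) ∧
      (∀ v' ∈ N, (ng f y : ℤ) ≤ fI (pullback.snd f gV) (fun _ => 1) Aop v') ∧
      (∀ v' : V, (ng f (gV v') : ℤ) = fI (pullback.snd f gV) (fun _ => 1) Set.univ v' ∧
        ({x | pullback.snd f gV x = v'} ∩ Set.univ).Finite) := by
  classical
  obtain ⟨V, gV, v, hgV, hv, hW₀fin, Vz, hdisj, H⟩ := exists_etale_split_clopen f y (f ⁻¹' {y})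
    (hfin y) (fun t ht => ⟨ht, f.quasiFiniteAt _⟩)
  haveI := hgV
  set fstV := pullback.fst f gV with hfstV
  set sndV := pullback.snd f gV with hsndV
  haveI : LocallyQuasiFinite sndV :=
    MorphismProperty.of_isPullback (P := @LocallyQuasiFinite) (IsPullback.of_hasPullback f gV) ‹_›
  let ι : Type u := {z : ↥(pullback f gV) // sndV z = v ∧ fstV z ∈ f ⁻¹' {y}}
  haveI : Finite ι := hW₀fin.to_subtype
  haveI hVfin : ∀ i : ι, IsFinite ((Vz i.1).ι ≫ sndV) := fun i => (H i.1 i.2.1 i.2.2).2.2.1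
  let G : ι → V → ℤ := fun i => fI sndV (fun _ => 1) (Vz i.1)
  let Aop : (pullback f gV).Opens := ⨆ i : ι, Vz i.1
  have hfinA : IsFinite (Aop.ι ≫ sndV) :=
    (Groth.Agent.Lib.Helper20.FinUnion.isFinite_iSup_of_isClosed sndV (fun i : ι => Vz i.1)
      (fun i => (H i.1 i.2.1 i.2.2).2.1.isClosed) hVfin).1
  let A : Set ↥(pullback f gV) := ⋃ i : ι, (Vz i.1 : Set _)
  have hAop : (Aop : Set ↥(pullback f gV)) = A := TopologicalSpace.Opens.coe_iSup _
  have hbc : ∀ v' : V, (ng f (gV v') : ℤ) = fI sndV (fun _ => 1) Set.univ v' ∧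
      ({x | sndV x = v'} ∩ Set.univ).Finite := by
    intro v'
    have h := fibreIntegral_baseChange f hfin sndV fstV gV (IsPullback.of_hasPullback f gV)
      (fun _ => 1) v'
    refine ⟨?_, ?_⟩
    · rw [← fibreIntegral_one f (gV v') (hfin _), ← h.1, fibreIntegral_eq_fI_univ]
      rfl
    · rw [Set.inter_univ]
      exact h.2
  have hdecomp : ∀ v' : V, fI sndV (fun _ => 1) A v' = ∑ᶠ i ∈ (Set.univ : Set ι), G i v' := by
    intro v'
    refine fI_decomp sndV (fun _ => 1) A Set.univ Set.finite_univ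
      (fun i : ι => (Vz i.1 : Set _)) v'
      (fun i _ => finite_fibre_inter_opens sndV (Vz i.1) v') ?_ ?_ ?_
    · intro x hx _
      obtain ⟨i, hi⟩ := Set.mem_iUnion.mp hx
      exact ⟨i, Set.mem_univ _, hi⟩
    · intro i _ x hx _
      exact Set.mem_iUnion.mpr ⟨i, hx⟩
    · intro i _ j _ x hxi hxj _
      exact Subtype.ext (hdisj i.1 j.1 i.2.1 i.2.2 j.2.1 j.2.2 ⟨x, hxi, hxj⟩)
  have heq : ∑ᶠ i ∈ (Set.univ : Set ι), G i v = (ng f y : ℤ) := by
    rw [← hv, (hbc v).1, ← hdecomp v]
    apply fI_congr_set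
    ext x
    simp only [Set.mem_inter_iff, Set.mem_setOf_eq, Set.mem_univ, and_true]
    constructor
    · exact fun h => h.1
    · intro hx
      refine ⟨hx, ?_⟩
      have hxT : fstV x ∈ f ⁻¹' {y} := by
        change f (fstV x) = y
        rw [← Scheme.Hom.comp_apply, pullback.condition, Scheme.Hom.comp_apply, hx, hv]
      exact Set.mem_iUnion.mpr ⟨⟨x, hx, hxT⟩, (H x hx hxT).1⟩
  -- each G i equals one at v
  have hGv : ∀ i : ι, G i v = 1 := by
    intro i
    have hset : {x' | sndV x' = v} ∩ (Vz i.1 : Set ↥(pullback f gV)) = {i.1} := by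
      ext x'
      constructor
      · rintro ⟨h1, h2⟩
        exact (H i.1 i.2.1 i.2.2).2.2.2.1 x' h2 h1
      · rintro rfl
        exact ⟨i.2.1, (H i.1 i.2.1 i.2.2).1⟩
    have hsd := sd_eq_one_of_pInsep sndV i.1 (H i.1 i.2.1 i.2.2).2.2.2.2.1
    change fI sndV (fun _ => 1) (Vz i.1) v = 1
    rw [fI, hset, finsum_mem_singleton, hsd]
    simp
  -- openness: each Vz i surjects onto a neighbourhood of v
  have hnh : ∀ i : ι, sndV '' (Vz i.1 : Set ↥(pullback f gV)) ∈ nhds v := by
    intro i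
    have hz : f (fstV i.1) = y := i.2.2
    have := hopen V gV i.1 hz (Vz i.1 : Set _) ((Vz i.1).2.mem_nhds (H i.1 i.2.1 i.2.2).1)
    rw [i.2.1] at this
    exact this
  have hN0 : (⋂ i : ι, sndV '' (Vz i.1 : Set ↥(pullback f gV))) ∈ nhds v :=
    (Filter.iInter_mem).mpr hnh
  obtain ⟨N, hNsub, hNopen, hvN⟩ := mem_nhds_iff.mp hN0
  refine ⟨V, gV, v, Aop, ⟨N, hNopen⟩, hgV, hv, hvN, hfinA, ?_, hbc⟩
  intro v' hv'
  rw [hAop, hdecomp v', ← heq]
  have hle : ∀ i : ι, G i v ≤ G i v' := by
    intro i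
    rw [hGv i]
    obtain ⟨x, hxV, hx⟩ := Set.mem_iInter.mp (hNsub hv') i
    exact le_fI sndV (fun _ => 1) (fun _ => one_pos) (Vz i.1 : Set _) v'
      (finite_fibre_inter_opens sndV (Vz i.1) v') x hxV hx
  letI := Fintype.ofFinite ι
  rw [finsum_mem_univ, finsum_mem_univ, finsum_eq_sum_of_fintype, finsum_eq_sum_of_fintype]
  exact Finset.sum_le_sum (fun i _ => hle i)

/-- (G1): lower semicontinuity of the geometric number of points at `y`. -/
theorem exists_nhd_ng_le {X Y : Scheme.{u}} (f : X ⟶ Y) [LocallyQuasiFinite f]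
    [LocallyOfFiniteType f] [IsSeparated f] (hfin : ∀ y : Y, (f ⁻¹' {y}).Finite) (y : Y)
    (hopen : ∀ (V : Scheme.{u}) (gV : V ⟶ Y) [Etale gV] (z : ↥(pullback f gV)),
      f (pullback.fst f gV z) = y → ∀ U ∈ nhds z,
        (pullback.snd f gV) '' U ∈ nhds (pullback.snd f gV z)) :
    ∃ N : Set Y, IsOpen N ∧ y ∈ N ∧ ∀ y' ∈ N, ng f y ≤ ng f y' := by
  obtain ⟨V, gV, v, Aop, N, hgV, hv, hvN, hfinA, hle, hbc⟩ := exists_etale_core_ng f hfin y hopen
  haveI := hgV
  refine ⟨gV '' (N : Set V), gV.isOpenMap _ N.2, ⟨v, hvN, hv⟩, ?_⟩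
  rintro _ ⟨v', hv', rfl⟩
  have h1 := hle v' hv'
  have h2 := fI_mono_of_nonneg (pullback.snd f gV) (fun _ => 1) (fun _ => zero_le_one)
    (Aop : Set _) Set.univ (Set.subset_univ _) v' (hbc v').2
  rw [← (hbc v').1] at h2
  exact_mod_cast h1.trans h2

/-- (G2): if the geometric number of points does not exceed its value at `y` near `y`, the
morphism is finite after an étale base change around `y`. -/
theorem exists_etale_nhd_finite_of_ng_le {X Y : Scheme.{u}} (f : X ⟶ Y) [LocallyQuasiFinite f]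
    [LocallyOfFiniteType f] [IsSeparated f] (hfin : ∀ y : Y, (f ⁻¹' {y}).Finite) (y : Y)
    (hopen : ∀ (V : Scheme.{u}) (gV : V ⟶ Y) [Etale gV] (z : ↥(pullback f gV)),
      f (pullback.fst f gV z) = y → ∀ U ∈ nhds z,
        (pullback.snd f gV) '' U ∈ nhds (pullback.snd f gV z))
    (hc : ∃ N₀ ∈ nhds y, ∀ y' ∈ N₀, ng f y' ≤ ng f y) :
    ∃ (V' : Scheme.{u}) (g' : V' ⟶ Y), Etale g' ∧ y ∈ Set.range g' ∧
      IsFinite (pullback.snd f g') := by
  obtain ⟨V, gV, v, Aop, N, hgV, hv, hvN, hfinA, hle, hbc⟩ := exists_etale_core_ng f hfin y hopen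
  haveI := hgV
  haveI := hfinA
  haveI : LocallyQuasiFinite (pullback.snd f gV) :=
    MorphismProperty.of_isPullback (P := @LocallyQuasiFinite) (IsPullback.of_hasPullback f gV) ‹_›
  obtain ⟨N₀, hN₀, hN₀le⟩ := hc
  obtain ⟨N₁, hN₁sub, hN₁open, hyN₁⟩ := mem_nhds_iff.mp hN₀
  let N₃ : V.Opens := ⟨(N : Set V) ∩ gV ⁻¹' N₁, N.2.inter (hN₁open.preimage gV.continuous)⟩
  have hvN₃ : v ∈ N₃ := ⟨hvN, by rw [Set.mem_preimage, hv]; exact hyN₁⟩
  have key : ∀ x : ↥(pullback f gV), pullback.snd f gV x ∈ N₃ → x ∈ Aop := by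
    intro x hx
    by_contra hxA
    set v' := pullback.snd f gV x with hv'
    have hfinU := (hbc v').2
    have hsplit : fI (pullback.snd f gV) (fun _ => 1) ((Aop : Set _) ∪ (Aop : Set _)ᶜ) v' =
        fI (pullback.snd f gV) (fun _ => 1) (Aop : Set _) v' +
        fI (pullback.snd f gV) (fun _ => 1) (Aop : Set _)ᶜ v' := by
      apply fI_union
      · exact hfinU.subset (Set.inter_subset_inter_right _ (Set.subset_univ _))
      · exact hfinU.subset (Set.inter_subset_inter_right _ (Set.subset_univ _))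
      · rw [Set.disjoint_left]
        rintro t ⟨-, ht1⟩ ⟨-, ht2⟩
        exact ht2 ht1
    rw [Set.union_compl_self, ← (hbc v').1] at hsplit
    have h1 := hle v' hx.1
    have h2 := le_fI (pullback.snd f gV) (fun _ => 1) (fun _ => one_pos) (Aop : Set _)ᶜ v'
      (hfinU.subset (Set.inter_subset_inter_right _ (Set.subset_univ _))) x hxA rfl
    have h3 : ng f (gV v') ≤ ng f y := hN₀le _ (hN₁sub hx.2)
    have h3' : (ng f (gV v') : ℤ) ≤ (ng f y : ℤ) := by exact_mod_cast h3
    omega
  refine ⟨N₃, N₃.ι ≫ gV, inferInstance, ⟨(⟨v, hvN₃⟩ : N₃), ?_⟩, ?_⟩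
  · rw [Scheme.Hom.comp_apply]
    exact hv
  · exact isFinite_restrict_of_subset f gV Aop N₃ key

/-- (F'): finiteness after an étale base change gives finiteness over the image. -/
theorem isFinite_restrict_range {X Y V : Scheme.{u}} (f : X ⟶ Y) (g : V ⟶ Y) [Etale g]
    [hfin : IsFinite (pullback.snd f g)] :
    IsFinite (f ∣_ (⟨Set.range g, g.isOpenMap.isOpen_range⟩ : Y.Opens)) := by
  set U : Y.Opens := ⟨Set.range g, g.isOpenMap.isOpen_range⟩ with hU
  have hrange : Set.range g ⊆ Set.range U.ι := by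
    rw [Scheme.Opens.range_ι]
    exact subset_rfl
  let g' : V ⟶ U := IsOpenImmersion.lift U.ι g hrange
  have hg' : g' ≫ U.ι = g := IsOpenImmersion.lift_fac _ _ _
  haveI : Etale g' := by
    refine MorphismProperty.of_postcomp (W := @Etale) (W' := @IsOpenImmersion) g' U.ι
      inferInstance ?_
    rw [hg']
    infer_instance
  haveI : Surjective g' := by
    refine ⟨fun u => ?_⟩
    have hu : U.ι u ∈ Set.range U.ι := ⟨u, rfl⟩
    rw [Scheme.Opens.range_ι] at hu
    obtain ⟨v, hv⟩ := hu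
    refine ⟨v, ?_⟩
    apply U.ι.isOpenEmbedding.injective
    rw [← Scheme.Hom.comp_apply, hg', hv]
  have hp : IsPullback (pullback.fst (f ∣_ U) g' ≫ (f ⁻¹ᵁ U).ι) (pullback.snd (f ∣_ U) g') f
      (g' ≫ U.ι) :=
    (IsPullback.of_hasPullback (f ∣_ U) g').paste_horiz (isPullback_morphismRestrict f U).flip
  rw [hg'] at hp
  have hfin' : IsFinite (pullback.snd (f ∣_ U) g') := by
    rw [← hp.isoPullback_hom_snd]
    infer_instance
  haveI := Groth.Agent.Lib.Helper12.descendsAlong_isFinite.{u}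
  exact MorphismProperty.of_pullback_snd_of_descendsAlong (P := @IsFinite)
    (Q := @Surjective ⊓ @Flat ⊓ @LocallyOfFinitePresentation) ⟨⟨inferInstance, inferInstance⟩,
      inferInstance⟩ hfin'

end Groth.Agent.Lib.Helper2.Weight
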