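import Mathlib
import Groth.Prelude.Def_Curv2
import Groth.Agent.Lib.Helper6GalAct

set_option autoImplicit false
universe u
open CategoryTheory CategoryTheory.Limits AlgebraicGeometry TensorProduct

namespace Groth.Agent.Lib.Helper6.GalAct

open Groth.Agent.Lib.Helper6.BcBridge Groth.Agent.Lib.Helper6.SepCl
  Groth.Agent.Lib.Helper6.FinLevel

section Stab

variable (k : Type u) [Field k] (X : Scheme.{u}) [X.Over (Spec (CommRingCat.of k))]
  (K : Type u) [Field K] [Algebra k K]

/-- an automorphism fixing `E` commutes with the projection to level `E` -/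
theorem galAct_bcTower (E : Type u) [Field E] [Algebra k E] [Algebra E K] [IsScalarTower k E K]
    (σ : K ≃ₐ[k] K) (hσ : ∀ a : E, σ (algebraMap E K a) = algebraMap E K a) :
    Curv2.galAct k X K σ ≫ bcTower k X E K = bcTower k X E K := by
  apply pullback.hom_ext
  · rw [Category.assoc]
    change _ ≫ bcTower k X E K ≫ Curv2.bcFst k X E = bcTower k X E K ≫ Curv2.bcFst k X E
    rw [bcTower_fst, galAct_fst]
  · rw [Category.assoc]
    change _ ≫ bcTower k X E K ≫ Curv2.bcSnd k X E = bcTower k X E K ≫ Curv2.bcSnd k X E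
    rw [bcTower_snd, ← Category.assoc, galAct_snd, Category.assoc, ← Spec.map_comp]
    congr 2
    ext a
    exact hσ a

theorem galAct_bcTower_apply (E : Type u) [Field E] [Algebra k E] [Algebra E K]
    [IsScalarTower k E K] (σ : K ≃ₐ[k] K)
    (hσ : ∀ a : E, σ (algebraMap E K a) = algebraMap E K a) (w : Curv2.bc k X K) :
    bcTower k X E K (Curv2.galAct k X K σ w) = bcTower k X E K w := by
  rw [← Scheme.Hom.comp_apply, galAct_bcTower k X K E σ hσ]

/-- a quasi-compact open of `X_K` (`K/k` algebraic) is stable under the automorphisms fixing a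
suitable finite subextension -/
theorem exists_finite_stabilizer [Algebra.IsAlgebraic k K] (V : Set (Curv2.bc k X K))
    (hV : IsOpen V) (hVc : IsCompact V) :
    ∃ E : IntermediateField k K, FiniteDimensional k E ∧
      ∀ σ : K ≃ₐ[k] K, (∀ a : K, a ∈ E → σ a = a) → (Curv2.galAct k X K σ) '' V = V := by
  classical
  choose! E hE N hN hvN hNV using fun v (hv : v ∈ V) => exists_finite_level_nhds k X K v V hV hv
  let U : V → Set (Curv2.bc k X K) := fun v => (bcTower k X (E v) K) ⁻¹' (N v)
  have hUo : ∀ v : V, IsOpen (U v) := fun v =>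
    (hN v v.2).preimage (bcTower k X (E v) K).continuous
  have hcov : V ⊆ ⋃ v : V, U v := fun v hv => Set.mem_iUnion.mpr ⟨⟨v, hv⟩, hvN v hv⟩
  obtain ⟨t, ht⟩ := hVc.elim_finite_subcover U hUo hcov
  let F : IntermediateField k K := ⨆ v ∈ t, E (v : Curv2.bc k X K)
  have hF : FiniteDimensional k F :=
    IntermediateField.finiteDimensional_iSup_of_finset' fun v _ => hE v v.2
  have hle : ∀ v ∈ t, E (v : Curv2.bc k X K) ≤ F := fun v hv =>
    le_iSup₂_of_le v hv le_rfl
  have hsub : ∀ σ : K ≃ₐ[k] K, (∀ a : K, a ∈ F → σ a = a) →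
      (Curv2.galAct k X K σ) '' V ⊆ V := by
    rintro σ hσ _ ⟨w, hw, rfl⟩
    obtain ⟨v, hvt, hwv⟩ := Set.mem_iUnion₂.mp (ht hw)
    apply hNV v v.2
    change bcTower k X (E v) K (Curv2.galAct k X K σ w) ∈ N v
    rw [galAct_bcTower_apply k X K (E v) σ (fun a => hσ _ (hle v hvt a.2))]
    exact hwv
  refine ⟨F, hF, fun σ hσ => Set.Subset.antisymm (hsub σ hσ) ?_⟩
  intro w hw
  have hσ' : ∀ a : K, a ∈ F → σ.symm a = a := fun a ha => by
    rw [AlgEquiv.symm_apply_eq, hσ a ha]
  exact ⟨Curv2.galAct k X K σ.symm w, hsub σ.symm hσ' ⟨w, hw, rfl⟩, galAct_symm_apply k X K σ w⟩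

end Stab

end Groth.Agent.Lib.Helper6.GalAct
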