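import Mathlib
import Groth.Prelude.Def_Curv2
import Groth.Agent.Lib.Helper6GalAct2

set_option autoImplicit false
universe u
open CategoryTheory CategoryTheory.Limits AlgebraicGeometry TensorProduct

namespace Groth.Agent.Lib.Helper6.IrrComp

open Groth.Agent.Lib.Helper6.BcBridge Groth.Agent.Lib.Helper6.SepCl
  Groth.Agent.Lib.Helper6.FinLevel Groth.Agent.Lib.Helper6.GalAct

section General

variable {Y X : Scheme.{u}} (f : Y ⟶ X)

/-- flat morphism with closed underlying map: the image of an irreducible component is an
irreducible component -/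
theorem image_mem_irreducibleComponents_of_flat [Flat f] (hf : IsClosedMap f) (Z : Set Y)
    (hZ : Z ∈ irreducibleComponents Y) : f '' Z ∈ irreducibleComponents X := by
  obtain ⟨ξ, hξ⟩ := QuasiSober.sober hZ.1 (isClosed_of_mem_irreducibleComponents _ hZ)
  have himg : f '' Z = closure {f ξ} := by
    rw [← hξ.def, ← hf.closure_image_eq_of_continuous f.continuous, Set.image_singleton]
  rw [himg]
  refine ⟨isIrreducible_singleton.closure, fun S hS hle => ?_⟩
  obtain ⟨η, hη⟩ := QuasiSober.sober hS.closure isClosed_closure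
  have hspec : η ⤳ f ξ := by
    rw [specializes_iff_mem_closure, hη.def]
    exact subset_closure (hle (subset_closure rfl))
  obtain ⟨ξ₁, hξ₁, hξ₁η⟩ := (Flat.generalizingMap f) hspec
  have hcl : Z ≤ closure {ξ₁} := by
    rw [← hξ.def]
    exact closure_minimal (Set.singleton_subset_iff.mpr hξ₁.mem_closure) isClosed_closure
  have hZeq : closure {ξ₁} = Z :=
    le_antisymm (hZ.2 isIrreducible_singleton.closure hcl) hcl
  have hξeq : ξ₁ = ξ := (isGenericPoint_def.mpr hZeq : IsGenericPoint ξ₁ Z).eq hξ
  rw [hξeq] at hξ₁η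
  calc S ⊆ closure S := subset_closure
    _ = closure {η} := hη.def.symm
    _ = closure {f ξ} := by rw [hξ₁η]

/-- flat, closed, surjective: every irreducible component of the target is the image of one of
the source -/
theorem exists_image_eq_of_flat [Flat f] (hf : IsClosedMap f) (hs : Function.Surjective f)
    (Z : Set X) (hZ : Z ∈ irreducibleComponents X) :
    ∃ T ∈ irreducibleComponents Y, f '' T = Z := by
  obtain ⟨η, hη⟩ := QuasiSober.sober hZ.1 (isClosed_of_mem_irreducibleComponents _ hZ)
  obtain ⟨w, hw⟩ := hs η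
  refine ⟨irreducibleComponent w, irreducibleComponent_mem_irreducibleComponents w, ?_⟩
  have hT := image_mem_irreducibleComponents_of_flat f hf _
    (irreducibleComponent_mem_irreducibleComponents w)
  have hle : Z ≤ f '' irreducibleComponent w := by
    rw [← hη.def]
    refine closure_minimal ?_ (isClosed_of_mem_irreducibleComponents _ hT)
    rw [Set.singleton_subset_iff]
    exact ⟨w, mem_irreducibleComponent, hw⟩
  exact le_antisymm (hZ.2 hT.1 hle) hle

/-- surjective map with irreducible preimages of irreducible sets: the image of an irreducible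
component is an irreducible component -/
theorem image_mem_irreducibleComponents_of_preimage (hs : Function.Surjective f)
    (hp : ∀ W : Set X, IsIrreducible W → IsIrreducible (f ⁻¹' W)) (T : Set Y)
    (hT : T ∈ irreducibleComponents Y) : f '' T ∈ irreducibleComponents X := by
  have hirr : IsIrreducible (f '' T) := hT.1.image _ f.continuous.continuousOn
  have key : ∀ W : Set X, IsIrreducible W → f '' T ≤ W → f ⁻¹' W = T := by
    intro W hW hle
    have h1 : T ≤ f ⁻¹' W := fun t ht => hle ⟨t, ht, rfl⟩
    exact le_antisymm (hT.2 (hp W hW) h1) h1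
  refine ⟨hirr, fun W hW hle => ?_⟩
  rw [← key W hW hle, Set.image_preimage_eq _ hs]

end General

section Main

variable (k : Type u) [Field k] (X : Scheme.{u}) [X.Over (Spec (CommRingCat.of k))]

/-- common extension of the separable closure and any `K`, algebraic over `K` -/
theorem exists_common' (K : Type u) [Field K] [Algebra k K] :
    ∃ (Ω : Type u) (_ : Field Ω) (_ : Algebra k Ω) (_ : Algebra (SeparableClosure k) Ω)
      (_ : Algebra K Ω), IsScalarTower k (SeparableClosure k) Ω ∧ IsScalarTower k K Ω ∧
      Algebra.IsAlgebraic K Ω := by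
  let Ω := AlgebraicClosure K
  let φ : SeparableClosure k →ₐ[k] Ω := IsAlgClosed.lift
  letI : Algebra (SeparableClosure k) Ω := φ.toRingHom.toAlgebra
  refine ⟨Ω, inferInstance, inferInstance, inferInstance, inferInstance, ?_, inferInstance,
    inferInstance⟩
  exact IsScalarTower.of_algebraMap_eq fun x => (φ.commutes x).symm

instance flat_bcTower (E K : Type u) [Field E] [Algebra k E] [Field K] [Algebra k K]
    [Algebra E K] [IsScalarTower k E K] : Flat (bcTower k X E K) := by
  letI : (Curv2.bc k X E).Over (Spec (CommRingCat.of E)) := ⟨Curv2.bcSnd k X E⟩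
  unfold bcTower
  infer_instance

/-- preimages of irreducible sets under `X_Ω → X_F`, `F` separably closed -/
theorem isIrreducible_preimage_bcTower (F Ω : Type u) [Field F] [Algebra k F] [IsSepClosed F]
    [Field Ω] [Algebra k Ω] [Algebra F Ω] [IsScalarTower k F Ω] (W : Set (Curv2.bc k X F))
    (hW : IsIrreducible W) : IsIrreducible ((bcTower k X F Ω) ⁻¹' W) := by
  letI : (Curv2.bc k X F).Over (Spec (CommRingCat.of F)) := ⟨Curv2.bcSnd k X F⟩
  have h1 : IsIrreducible ((Curv2.bcFst F (Curv2.bc k X F) Ω) ⁻¹' W) :=
    isIrreducible_preimage_bcFst F (Curv2.bc k X F) Ω hW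
  have heq : (bcBcIso k X F Ω).hom '' ((Curv2.bcFst F (Curv2.bc k X F) Ω) ⁻¹' W) =
      (bcTower k X F Ω) ⁻¹' W := by
    have hpre : (Curv2.bcFst F (Curv2.bc k X F) Ω) ⁻¹' W =
        (bcBcIso k X F Ω).hom ⁻¹' ((bcTower k X F Ω) ⁻¹' W) := by
      ext w
      simp only [Set.mem_preimage]
      rw [← Scheme.Hom.comp_apply]
      unfold bcTower
      rw [Iso.hom_inv_id_assoc]
    rw [hpre, Set.image_preimage_eq _ (bcBcIso k X F Ω).hom.surjective]
  rw [← heq]
  exact h1.image _ (bcBcIso k X F Ω).hom.continuous.continuousOn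

theorem image_mem_irreducibleComponents' (K : Type u) [Field K] [Algebra k K]
    (T : Set (Curv2.bc k X K)) (hT : T ∈ irreducibleComponents (Curv2.bc k X K)) :
    (Curv2.bcFst k X K) '' T ∈ irreducibleComponents X := by
  obtain ⟨Ω, _, _, _, _, _, _, _⟩ := exists_common' k K
  obtain ⟨T'', hT'', hT''T⟩ := exists_image_eq_of_flat (bcTower k X K Ω)
    (isClosedMap_bcTower k X K Ω) (bcTower_surjective k X K Ω) T hT
  have hW := image_mem_irreducibleComponents_of_preimage (bcTower k X (SeparableClosure k) Ω)
    (bcTower_surjective k X (SeparableClosure k) Ω)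
    (isIrreducible_preimage_bcTower k X (SeparableClosure k) Ω) T'' hT''
  have hZ := image_mem_irreducibleComponents k X (SeparableClosure k) _ hW
  have e1 : (Curv2.bcFst k X K) '' T = (Curv2.bcFst k X Ω) '' T'' := by
    rw [← hT''T, ← Set.image_comp]
    congr 1
    ext w
    rw [Function.comp_apply, ← Scheme.Hom.comp_apply, bcTower_fst]
  have e2 : (Curv2.bcFst k X (SeparableClosure k)) '' ((bcTower k X (SeparableClosure k) Ω) '' T'')
      = (Curv2.bcFst k X Ω) '' T'' := by
    rw [← Set.image_comp]
    congr 1
    ext w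
    rw [Function.comp_apply, ← Scheme.Hom.comp_apply, bcTower_fst]
  rw [e1, ← e2]
  exact hZ

theorem exists_image_eq' (K : Type u) [Field K] [Algebra k K]
    (Z : Set X) (hZ : Z ∈ irreducibleComponents X) :
    ∃ T ∈ irreducibleComponents (Curv2.bc k X K), (Curv2.bcFst k X K) '' T = Z := by
  obtain ⟨η, hη⟩ := QuasiSober.sober hZ.1 (isClosed_of_mem_irreducibleComponents _ hZ)
  obtain ⟨w, hw⟩ := bcFst_surjective k X K η
  refine ⟨irreducibleComponent w, irreducibleComponent_mem_irreducibleComponents w, ?_⟩
  have hT := image_mem_irreducibleComponents' k X K _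
    (irreducibleComponent_mem_irreducibleComponents w)
  have hle : Z ≤ (Curv2.bcFst k X K) '' irreducibleComponent w := by
    rw [← hη.def]
    refine closure_minimal ?_ (isClosed_of_mem_irreducibleComponents _ hT)
    rw [Set.singleton_subset_iff]
    exact ⟨w, mem_irreducibleComponent, hw⟩
  exact le_antisymm (hZ.2 hT.1 hle) hle

end Main

end Groth.Agent.Lib.Helper6.IrrComp
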