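import Mathlib

set_option autoImplicit false
universe u v w

namespace Groth.Agent.Lib.Helper6.ProConn

open Set Topology

section H6

variable {Z X : Type*} [TopologicalSpace Z] [TopologicalSpace X]

/-- open and closed map to a connected space with one finite fibre: components are open -/
theorem isOpen_connectedComponent_of_finite_fiber [ConnectedSpace X] {r : Z → X}
    (ho : IsOpenMap r) (hc : IsClosedMap r) {x₀ : X} (hx₀ : (r ⁻¹' {x₀}).Finite) (z : Z) :
    IsOpen (connectedComponent z) := by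
  haveI : Finite (ConnectedComponents Z) :=
    ho.finite_connectedComponents_of_finite_preimage_singleton_of_connectedSpace hc hx₀
  haveI : DiscreteTopology (ConnectedComponents Z) := inferInstance
  exact ConnectedComponents.discreteTopology_iff.mp inferInstance z

end H6

section Main

variable {X : Type u} {Y : Type v} [TopologicalSpace X] [TopologicalSpace Y]
  {I : Type w} [Preorder I] [IsDirected I (· ≤ ·)] [Nonempty I]
  {Z : I → Type v} [∀ i, TopologicalSpace (Z i)]

/-- the hypotheses on a pro-system of open closed surjections -/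
structure Hyp (p : Y → X) (q : ∀ i, Y → Z i) (r : ∀ i, Z i → X) : Prop where
  p_open : IsOpenMap p
  p_closed : IsClosedMap p
  q_cont : ∀ i, Continuous (q i)
  q_open : ∀ i, IsOpenMap (q i)
  q_closed : ∀ i, IsClosedMap (q i)
  q_surj : ∀ i, Function.Surjective (q i)
  fac : ∀ i y, r i (q i y) = p y
  mono : ∀ i j, i ≤ j → ∀ a b, q j a = q j b → q i a = q i b
  nhds : ∀ (u : Y) (U : Set Y), IsOpen U → u ∈ U →
    ∃ i, ∃ N : Set (Z i), IsOpen N ∧ q i u ∈ N ∧ q i ⁻¹' N ⊆ U
  fib : ∀ x, IsCompact (p ⁻¹' {x})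
  qfib : ∀ i (z : Z i), IsCompact (q i ⁻¹' {z})
  comp_open : ∀ i (z : Z i), IsOpen (connectedComponent z)

variable {p : Y → X} {q : ∀ i, Y → Z i} {r : ∀ i, Z i → X} (H : Hyp p q r)

include H

omit [IsDirected I (· ≤ ·)] [Nonempty I] in
theorem exists_trans (i j : I) (h : i ≤ j) :
    ∃ g : Z j → Z i, Continuous g ∧ IsOpenMap g ∧ IsClosedMap g ∧ ∀ a, g (q j a) = q i a := by
  let g : Z j → Z i := fun z => q i (Function.surjInv (H.q_surj j) z)
  have hg : ∀ a, g (q j a) = q i a := fun a =>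
    H.mono i j h _ _ (Function.surjInv_eq (H.q_surj j) (q j a))
  have hgq : g ∘ q j = q i := funext hg
  have hquot : IsQuotientMap (q j) :=
    (H.q_open j).isQuotientMap (H.q_cont j) (H.q_surj j)
  refine ⟨g, ?_, ?_, ?_, hg⟩
  · rw [hquot.continuous_iff, hgq]
    exact H.q_cont i
  · intro O hO
    have : g '' O = q i '' (q j ⁻¹' O) := by
      ext z
      constructor
      · rintro ⟨w, hw, rfl⟩
        obtain ⟨a, rfl⟩ := H.q_surj j w
        exact ⟨a, hw, (hg a).symm⟩
      · rintro ⟨a, ha, rfl⟩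
        exact ⟨q j a, ha, hg a⟩
    rw [this]
    exact H.q_open i _ (hO.preimage (H.q_cont j))
  · intro O hO
    have : g '' O = q i '' (q j ⁻¹' O) := by
      ext z
      constructor
      · rintro ⟨w, hw, rfl⟩
        obtain ⟨a, rfl⟩ := H.q_surj j w
        exact ⟨a, hw, (hg a).symm⟩
      · rintro ⟨a, ha, rfl⟩
        exact ⟨q j a, ha, hg a⟩
    rw [this]
    exact H.q_closed i _ (hO.preimage (H.q_cont j))

/-- the finite level clopen neighbourhoods of the pro-component -/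
def T (q : ∀ i, Y → Z i) (y : Y) (i : I) : Set Y := q i ⁻¹' connectedComponent (q i y)

omit [IsDirected I (· ≤ ·)] [Nonempty I] in
theorem isClopen_T (y : Y) (i : I) : IsClopen (T q y i) :=
  ⟨isClosed_connectedComponent.preimage (H.q_cont i),
    (H.comp_open i _).preimage (H.q_cont i)⟩

omit [IsDirected I (· ≤ ·)] [Nonempty I] in
theorem T_mono (y : Y) {i j : I} (h : i ≤ j) : T q y j ⊆ T q y i := by
  obtain ⟨g, hg, -, -, hgq⟩ := exists_trans H i j h
  intro t ht
  change q i t ∈ connectedComponent (q i y)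
  rw [← hgq t, ← hgq y]
  exact hg.image_connectedComponent_subset (q j y) ⟨q j t, ht, rfl⟩

omit [IsDirected I (· ≤ ·)] [Nonempty I] in
theorem image_T (y : Y) {i j : I} (h : i ≤ j) :
    q i '' T q y j = connectedComponent (q i y) := by
  obtain ⟨g, hg, hgo, hgc, hgq⟩ := exists_trans H i j h
  have h1 : q i '' T q y j = g '' connectedComponent (q j y) := by
    ext z
    constructor
    · rintro ⟨t, ht, rfl⟩
      exact ⟨q j t, ht, hgq t⟩
    · rintro ⟨w, hw, rfl⟩
      obtain ⟨a, rfl⟩ := H.q_surj j w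
      exact ⟨a, hw, (hgq a).symm⟩
  rw [h1]
  apply le_antisymm
  · rw [← hgq y]
    exact hg.image_connectedComponent_subset (q j y)
  · have hcl : IsClopen (g '' connectedComponent (q j y)) :=
      ⟨hgc _ isClosed_connectedComponent, hgo _ (H.comp_open j _)⟩
    apply hcl.connectedComponent_subset
    exact ⟨q j y, mem_connectedComponent, hgq y⟩

/-- the pro-component -/
def Q (q : ∀ i, Y → Z i) (y : Y) : Set Y := ⋂ i, T q y i

omit [IsDirected I (· ≤ ·)] [Nonempty I] in
theorem isClosed_Q (y : Y) : IsClosed (Q q y) :=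
  isClosed_iInter fun i => (isClopen_T H y i).1

omit [IsDirected I (· ≤ ·)] [Nonempty I] [Preorder I] [TopologicalSpace Y] H in
theorem mem_Q (y : Y) : y ∈ Q q y :=
  mem_iInter.mpr fun _ => mem_connectedComponent

omit [IsDirected I (· ≤ ·)] [Nonempty I] in
theorem connectedComponent_subset_Q (y : Y) : connectedComponent y ⊆ Q q y := by
  intro t ht
  refine mem_iInter.mpr fun i => ?_
  exact (H.q_cont i).image_connectedComponent_subset y ⟨t, ht, rfl⟩

theorem image_Q (y : Y) (i : I) : q i '' Q q y = connectedComponent (q i y) := by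
  classical
  apply le_antisymm
  · rintro _ ⟨t, ht, rfl⟩
    exact mem_iInter.mp ht i
  · intro c hc
    have hne : (q i ⁻¹' {c} ∩ ⋂ j, T q y j).Nonempty := by
      apply (H.qfib i c).inter_iInter_nonempty _ (fun j => (isClopen_T H y j).1)
      intro s
      obtain ⟨m, hm⟩ := (insert i s).exists_le
      have him : i ≤ m := hm i (Finset.mem_insert_self i s)
      have hc' : c ∈ q i '' T q y m := by
        rw [image_T H y him]
        exact hc
      obtain ⟨a, ha, hac⟩ := hc'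
      refine ⟨a, hac, ?_⟩
      refine mem_iInter₂.mpr fun j hj => ?_
      exact T_mono H y (hm j (Finset.mem_insert_of_mem hj)) ha
    obtain ⟨a, hac, ha⟩ := hne
    exact ⟨a, ha, hac⟩

/-- separation of a fibre of a closed set from a disjoint closed set at a finite level -/
theorem exists_sat_nhds (A B : Set Y) (hA : IsClosed A) (hB : IsClosed B)
    (hAB : Disjoint A B) (x : X) (i₀ : I) :
    ∃ j, i₀ ≤ j ∧ ∃ S : Set Y, IsOpen S ∧ (∀ a b, a ∈ S → q j a = q j b → b ∈ S) ∧
      A ∩ p ⁻¹' {x} ⊆ S ∧ Disjoint S B := by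
  classical
  have hcomp : IsCompact (A ∩ p ⁻¹' {x}) := (H.fib x).inter_left hA
  have h : ∀ a : Y, ∃ i, ∃ N : Set (Z i), IsOpen N ∧
      (a ∈ A ∩ p ⁻¹' {x} → q i a ∈ N ∧ q i ⁻¹' N ⊆ Bᶜ) := by
    intro a
    by_cases ha : a ∈ A ∩ p ⁻¹' {x}
    · obtain ⟨i, N, hN, haN, hNB⟩ := H.nhds a Bᶜ hB.isOpen_compl
        (fun hb => (Set.disjoint_left.mp hAB ha.1 hb))
      exact ⟨i, N, hN, fun _ => ⟨haN, hNB⟩⟩
    · exact ⟨i₀, ∅, isOpen_empty, fun h => (ha h).elim⟩
  choose i N hN hN' using h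
  obtain ⟨t, ht, htc⟩ := hcomp.elim_nhds_subcover (fun a => q (i a) ⁻¹' N a) (fun a ha =>
    ((hN a).preimage (H.q_cont (i a))).mem_nhds (hN' a ha).1)
  obtain ⟨j, hj⟩ := (insert i₀ (t.image i)).exists_le
  refine ⟨j, hj i₀ (Finset.mem_insert_self _ _), ⋃ a ∈ t, q (i a) ⁻¹' N a, ?_, ?_, htc, ?_⟩
  · exact isOpen_biUnion fun a _ => (hN a).preimage (H.q_cont (i a))
  · intro a b ha hab
    obtain ⟨c, hc, hac⟩ := mem_iUnion₂.mp ha
    refine mem_iUnion₂.mpr ⟨c, hc, ?_⟩
    have hle : i c ≤ j := hj _ (Finset.mem_insert_of_mem (Finset.mem_image_of_mem i hc))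
    change q (i c) b ∈ N c
    rw [← H.mono (i c) j hle a b hab]
    exact hac
  · rw [Set.disjoint_left]
    intro a ha hb
    obtain ⟨c, hc, hac⟩ := mem_iUnion₂.mp ha
    exact (hN' c (ht c hc)).2 hac hb

theorem isPreconnected_Q [PreconnectedSpace X] (y : Y) : IsPreconnected (Q q y) := by
  rw [isPreconnected_closed_iff]
  intro t t' ht ht' hQ hQt hQt'
  by_contra hcon
  rw [Set.not_nonempty_iff_eq_empty] at hcon
  set A := Q q y ∩ t with hAdef
  set B := Q q y ∩ t' with hBdef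
  have hA : IsClosed A := (isClosed_Q H y).inter ht
  have hB : IsClosed B := (isClosed_Q H y).inter ht'
  have hAB : Disjoint A B := by
    rw [Set.disjoint_iff_inter_eq_empty]
    rw [← hcon]
    ext z
    simp only [hAdef, hBdef, mem_inter_iff]
    tauto
  have hQAB : ∀ z ∈ Q q y, z ∈ A ∨ z ∈ B := by
    intro z hz
    rcases hQ hz with h | h
    · exact Or.inl ⟨hz, h⟩
    · exact Or.inr ⟨hz, h⟩
  have hAQ : A ⊆ Q q y := inter_subset_left
  have hBQ : B ⊆ Q q y := inter_subset_left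
  -- bad sets
  let Bad : I → Set X := fun i => p '' (A ∩ q i ⁻¹' (q i '' B))
  have hBad_closed : ∀ i, IsClosed (Bad i) := fun i =>
    H.p_closed _ (hA.inter ((H.q_closed i _ hB).preimage (H.q_cont i)))
  have claim1 : ∀ x, ∃ i, x ∉ Bad i := by
    intro x
    obtain ⟨i₀⟩ := (inferInstance : Nonempty I)
    obtain ⟨j, -, S, -, hSsat, hAS, hSB⟩ := exists_sat_nhds H A B hA hB hAB x i₀
    refine ⟨j, ?_⟩
    rintro ⟨a, ⟨haA, b, hbB, hab⟩, hax⟩
    have haS : a ∈ S := hAS ⟨haA, hax⟩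
    have hbS : b ∈ S := hSsat a b haS hab.symm
    exact Set.disjoint_left.mp hSB hbS hbB
  have claim2 : ∀ i, IsOpen (Bad i) := by
    intro i
    rw [isOpen_iff_forall_mem_open]
    rintro x ⟨a, ⟨haA, b, hbB, hab⟩, hax⟩
    have hbx : p b = x := by rw [← H.fac i, hab, H.fac i, hax]
    obtain ⟨j₁, hij₁, SA, hSAo, hSAsat, hASA, hSAB⟩ := exists_sat_nhds H A B hA hB hAB x i
    obtain ⟨j, hj₁j, SB, hSBo, hSBsat, hBSB, hSBA⟩ :=
      exists_sat_nhds H B A hB hA hAB.symm x j₁
    have hij : i ≤ j := hij₁.trans hj₁j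
    have hSAsat' : ∀ a b, a ∈ SA → q j a = q j b → b ∈ SA := fun a b ha hab =>
      hSAsat a b ha (H.mono j₁ j hj₁j a b hab)
    have haSA : a ∈ SA := hASA ⟨haA, hax⟩
    have hbSB : b ∈ SB := hBSB ⟨hbB, hbx⟩
    have haT : a ∈ T q y j := mem_iInter.mp (hAQ haA) j
    have hbT : b ∈ T q y j := mem_iInter.mp (hBQ hbB) j
    refine ⟨p '' ((SA ∩ T q y j) ∩ q i ⁻¹' (q i '' (SB ∩ T q y j))), ?_, ?_, ?_⟩
    · rintro _ ⟨a', ⟨⟨ha'S, ha'T⟩, b', ⟨hb'S, hb'T⟩, hab'⟩, rfl⟩
      have h1 : q j a' ∈ q j '' Q q y := by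
        rw [image_Q H y j]
        exact ha'T
      obtain ⟨a'', ha''Q, ha''⟩ := h1
      have h2 : q j b' ∈ q j '' Q q y := by
        rw [image_Q H y j]
        exact hb'T
      obtain ⟨b'', hb''Q, hb''⟩ := h2
      have ha''S : a'' ∈ SA := hSAsat' a' a'' ha'S ha''.symm
      have hb''S : b'' ∈ SB := hSBsat b' b'' hb'S hb''.symm
      have ha''A : a'' ∈ A := (hQAB a'' ha''Q).resolve_right
        (fun h => Set.disjoint_left.mp hSAB ha''S h)
      have hb''B : b'' ∈ B := (hQAB b'' hb''Q).resolve_left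
        (fun h => Set.disjoint_left.mp hSBA hb''S h)
      refine ⟨a'', ⟨ha''A, b'', hb''B, ?_⟩, ?_⟩
      · rw [H.mono i j hij _ _ hb'', hab', H.mono i j hij _ _ ha'']
      · rw [← H.fac i, H.mono i j hij _ _ ha'', H.fac i]
    · apply H.p_open
      exact (hSAo.inter (isClopen_T H y j).2).inter
        ((H.q_open i _ (hSBo.inter (isClopen_T H y j).2)).preimage (H.q_cont i))
    · exact ⟨a, ⟨⟨haSA, haT⟩, b, ⟨hbSB, hbT⟩, hab⟩, hax⟩
  obtain ⟨i, hi⟩ := claim1 (p y)
  have hempty : Bad i = ∅ :=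
    (isClopen_iff.mp ⟨hBad_closed i, claim2 i⟩).resolve_right
      (fun h => hi (h ▸ mem_univ _))
  have hdisj : Disjoint (q i '' A) (q i '' B) := by
    rw [Set.disjoint_left]
    rintro _ ⟨a, haA, rfl⟩ ⟨b, hbB, hab⟩
    have : p a ∈ Bad i := ⟨a, ⟨haA, b, hbB, hab⟩, rfl⟩
    rw [hempty] at this
    exact this
  have hC : IsPreconnected (connectedComponent (q i y)) := isPreconnected_connectedComponent
  rw [isPreconnected_closed_iff] at hC
  obtain ⟨a0, ha0Q, ha0t⟩ := hQt
  obtain ⟨b0, hb0Q, hb0t⟩ := hQt'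
  have hcover : connectedComponent (q i y) ⊆ q i '' A ∪ q i '' B := by
    rw [← image_Q H y i]
    rintro _ ⟨z, hz, rfl⟩
    rcases hQAB z hz with h | h
    · exact Or.inl ⟨z, h, rfl⟩
    · exact Or.inr ⟨z, h, rfl⟩
  obtain ⟨c, -, hcA, hcB⟩ := hC _ _ (H.q_closed i _ hA) (H.q_closed i _ hB) hcover
    ⟨q i a0, mem_iInter.mp ha0Q i, ⟨a0, ⟨ha0Q, ha0t⟩, rfl⟩⟩
    ⟨q i b0, mem_iInter.mp hb0Q i, ⟨b0, ⟨hb0Q, hb0t⟩, rfl⟩⟩
  exact Set.disjoint_left.mp hdisj hcA hcB

/-- every connected component of the limit surjects onto the connected base -/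
theorem image_connectedComponent_eq_univ [ConnectedSpace X] (y : Y) :
    p '' connectedComponent y = Set.univ := by
  have hQW : Q q y ⊆ connectedComponent y :=
    (isPreconnected_Q H y).subset_connectedComponent (mem_Q y)
  obtain ⟨i⟩ := (inferInstance : Nonempty I)
  have hclopen : IsClopen (p '' T q y i) :=
    ⟨H.p_closed _ (isClopen_T H y i).1, H.p_open _ (isClopen_T H y i).2⟩
  have huniv : p '' T q y i = Set.univ :=
    (isClopen_iff.mp hclopen).resolve_left
      (Set.Nonempty.ne_empty ⟨p y, y, mem_connectedComponent, rfl⟩)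
  apply Set.eq_univ_of_univ_subset
  rw [← huniv]
  rintro _ ⟨t, ht, rfl⟩
  have h1 : q i t ∈ q i '' Q q y := by
    rw [image_Q H y i]
    exact ht
  obtain ⟨t', ht'Q, ht'⟩ := h1
  refine ⟨t', hQW ht'Q, ?_⟩
  rw [← H.fac i, ht', H.fac i]

end Main

end Groth.Agent.Lib.Helper6.ProConn
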