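import Mathlib
import Groth.Prelude.Def_Curv2
import Groth.Agent.Lib.Helper6IrrComp
import Groth.Agent.Lib.Helper6ProConn

set_option autoImplicit false
universe u
open CategoryTheory CategoryTheory.Limits AlgebraicGeometry TensorProduct

namespace Groth.Agent.Lib.Helper6.ConnComp

open Groth.Agent.Lib.Helper6.BcBridge Groth.Agent.Lib.Helper6.SepCl
  Groth.Agent.Lib.Helper6.FinLevel Groth.Agent.Lib.Helper6.GalAct
  Groth.Agent.Lib.Helper6.IrrComp Groth.Agent.Lib.Helper6.ProConn

section Tower

variable (k : Type u) [Field k] (X : Scheme.{u}) [X.Over (Spec (CommRingCat.of k))]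
  (E E' K : Type u) [Field E] [Algebra k E] [Field E'] [Algebra k E'] [Algebra E E']
  [IsScalarTower k E E'] [Field K] [Algebra k K] [Algebra E K] [Algebra E' K]
  [IsScalarTower k E K] [IsScalarTower k E' K] [IsScalarTower E E' K]

theorem bcTower_comp : bcTower k X E' K ≫ bcTower k X E E' = bcTower k X E K := by
  apply pullback.hom_ext
  · rw [Category.assoc]
    change _ ≫ bcTower k X E E' ≫ Curv2.bcFst k X E = bcTower k X E K ≫ Curv2.bcFst k X E
    rw [bcTower_fst, bcTower_fst, bcTower_fst]
  · rw [Category.assoc]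
    change _ ≫ bcTower k X E E' ≫ Curv2.bcSnd k X E = bcTower k X E K ≫ Curv2.bcSnd k X E
    rw [bcTower_snd, ← Category.assoc, bcTower_snd, bcTower_snd, Category.assoc, ← Spec.map_comp]
    congr 2
    ext a
    exact (IsScalarTower.algebraMap_apply E E' K a).symm

end Tower

section Alg

variable (k : Type u) [Field k] (X : Scheme.{u}) [X.Over (Spec (CommRingCat.of k))]
  (K : Type u) [Field K] [Algebra k K]

instance quasiCompact_bcTower (E : Type u) [Field E] [Algebra k E] [Algebra E K]
    [IsScalarTower k E K] [Algebra.IsAlgebraic E K] : QuasiCompact (bcTower k X E K) := by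
  letI : (Curv2.bc k X E).Over (Spec (CommRingCat.of E)) := ⟨Curv2.bcSnd k X E⟩
  unfold bcTower
  infer_instance

instance isFinite_bcFst [FiniteDimensional k K] : IsFinite (Curv2.bcFst k X K) := by
  haveI : IsFinite (Spec.map (CommRingCat.ofHom (algebraMap k K))) := by
    rw [IsFinite.SpecMap_iff]
    exact RingHom.finite_algebraMap.mpr inferInstance
  unfold Curv2.bcFst
  infer_instance

end Alg

section HypInst

variable (k : Type u) [Field k] (X : Scheme.{u}) [X.Over (Spec (CommRingCat.of k))]
  (K : Type u) [Field K] [Algebra k K]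

/-- finite levels -/
abbrev Lev := {E : IntermediateField k K // FiniteDimensional k E}

instance : Nonempty (Lev k K) := ⟨⟨⊥, inferInstance⟩⟩

instance : IsDirected (Lev k K) (· ≤ ·) := ⟨fun E₁ E₂ => by
  haveI := E₁.2
  haveI := E₂.2
  exact ⟨⟨E₁.1 ⊔ E₂.1, inferInstance⟩, (le_sup_left : E₁.1 ≤ E₁.1 ⊔ E₂.1),
    (le_sup_right : E₂.1 ≤ E₁.1 ⊔ E₂.1)⟩⟩

theorem bcTower_mono [Algebra.IsAlgebraic k K] (E E' : IntermediateField k K) (h : E ≤ E')
    (a b : Curv2.bc k X K) (hab : bcTower k X E' K a = bcTower k X E' K b) :
    bcTower k X E K a = bcTower k X E K b := by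
  letI : Algebra E E' := (IntermediateField.inclusion h).toRingHom.toAlgebra
  haveI : IsScalarTower k E E' := IsScalarTower.of_algebraMap_eq (fun x => by
    exact ((IntermediateField.inclusion h).commutes x).symm)
  haveI : IsScalarTower E E' K := IsScalarTower.of_algebraMap_eq (fun x => rfl)
  rw [← bcTower_comp k X E E' K, Scheme.Hom.comp_apply, Scheme.Hom.comp_apply, hab]

theorem hyp [Algebra.IsAlgebraic k K] [ConnectedSpace X] :
    Hyp (I := Lev k K) (Z := fun E => ↥(Curv2.bc k X E.1)) (p := ⇑(Curv2.bcFst k X K))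
      (q := fun E => ⇑(bcTower k X E.1 K)) (r := fun E => ⇑(Curv2.bcFst k X E.1)) where
  p_open := isOpenMap_bcFst k X K
  p_closed := isClosedMap_bcFst k X K
  q_cont := fun E => (bcTower k X E.1 K).continuous
  q_open := fun E => isOpenMap_bcTower k X E.1 K
  q_closed := fun E => isClosedMap_bcTower k X E.1 K
  q_surj := fun E => bcTower_surjective k X E.1 K
  fac := fun E y => by
    rw [← Scheme.Hom.comp_apply, bcTower_fst]
  mono := fun E E' h a b hab => bcTower_mono k X K E.1 E'.1 h a b hab
  nhds := fun u U hU hu => by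
    obtain ⟨E, hE, N, hN, huN, hNU⟩ := exists_finite_level_nhds k X K u U hU hu
    exact ⟨⟨E, hE⟩, N, hN, huN, hNU⟩
  fib := fun x => (Curv2.bcFst k X K).isCompact_preimage_singleton x
  qfib := fun E z => (bcTower k X E.1 K).isCompact_preimage_singleton z
  comp_open := fun E z => by
    haveI := E.2
    obtain ⟨x₀⟩ := (inferInstance : Nonempty X)
    exact isOpen_connectedComponent_of_finite_fiber (isOpenMap_bcFst k X E.1)
      (isClosedMap_bcFst k X E.1) (x₀ := x₀)
      ((Curv2.bcFst k X E.1).finite_preimage_singleton x₀) z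

/-- `K/k` algebraic, `X` connected: every connected component of `X_K` surjects onto `X` -/
theorem image_connectedComponent_eq_univ_of_algebraic [Algebra.IsAlgebraic k K]
    [ConnectedSpace X] (y : Curv2.bc k X K) :
    (Curv2.bcFst k X K) '' connectedComponent y = Set.univ :=
  image_connectedComponent_eq_univ (hyp k X K) y

end HypInst

section Reductions

variable (k : Type u) [Field k] (X : Scheme.{u}) [X.Over (Spec (CommRingCat.of k))]
  (K : Type u) [Field K] [Algebra k K]

/-- `K/k` algebraic, `X` arbitrary -/
theorem image_connectedComponent_of_algebraic [Algebra.IsAlgebraic k K] (y : Curv2.bc k X K) :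
    (Curv2.bcFst k X K) '' connectedComponent y =
      connectedComponent (Curv2.bcFst k X K y) := by
  apply le_antisymm
  · exact (Curv2.bcFst k X K).continuous.image_connectedComponent_subset y
  · intro c hc
    let Zc : TopologicalSpace.Closeds X :=
      ⟨connectedComponent (Curv2.bcFst k X K y), isClosed_connectedComponent⟩
    let T : Scheme.{u} := (Scheme.IdealSheafData.vanishingIdeal Zc).subscheme
    let ι : T ⟶ X := (Scheme.IdealSheafData.vanishingIdeal Zc).subschemeι
    have hrange : Set.range ι = connectedComponent (Curv2.bcFst k X K y) := by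
      rw [Scheme.IdealSheafData.range_subschemeι,
        Scheme.IdealSheafData.coe_support_vanishingIdeal]
      rfl
    letI : T.Over (Spec (CommRingCat.of k)) := ⟨ι ≫ (X ↘ Spec (CommRingCat.of k))⟩
    haveI : ι.IsOver (Spec (CommRingCat.of k)) := ⟨rfl⟩
    haveI : ConnectedSpace T := by
      have hpre : _root_.IsPreconnected (Set.univ : Set T) := by
        rw [← ι.isEmbedding.isInducing.isPreconnected_image, Set.image_univ, hrange]
        exact isPreconnected_connectedComponent
      haveI : PreconnectedSpace T := ⟨hpre⟩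
      have hy : Curv2.bcFst k X K y ∈ Set.range ι := by
        rw [hrange]
        exact mem_connectedComponent
      obtain ⟨t, -⟩ := hy
      haveI : Nonempty T := ⟨t⟩
      exact ConnectedSpace.mk inferInstance
    have hy : Curv2.bcFst k X K y ∈ Set.range ι := by
      rw [hrange]
      exact mem_connectedComponent
    obtain ⟨t₀, ht₀⟩ := hy
    obtain ⟨t'₀, ht'₀⟩ := exists_bcMap_eq k T X ι K t₀ y ht₀.symm
    have hc' : c ∈ Set.range ι := by
      rw [hrange]
      exact hc
    obtain ⟨t, rfl⟩ := hc'
    have hT := image_connectedComponent_eq_univ_of_algebraic k T K t'₀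
    have ht : t ∈ (Curv2.bcFst k T K) '' connectedComponent t'₀ := hT ▸ Set.mem_univ t
    obtain ⟨t', ht', rfl⟩ := ht
    refine ⟨bcMap k T X ι K t', ?_, ?_⟩
    · rw [← ht'₀]
      exact (bcMap k T X ι K).continuous.image_connectedComponent_subset t'₀ ⟨t', ht', rfl⟩
    · rw [← Scheme.Hom.comp_apply, bcMap_fst, Scheme.Hom.comp_apply]

/-- preimages of connected sets under `X_Ω → X_F`, `F` separably closed -/
theorem isConnected_preimage_bcTower (F Ω : Type u) [Field F] [Algebra k F] [IsSepClosed F]
    [Field Ω] [Algebra k Ω] [Algebra F Ω] [IsScalarTower k F Ω] (W : Set (Curv2.bc k X F))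
    (hW : _root_.IsConnected W) : _root_.IsConnected ((bcTower k X F Ω) ⁻¹' W) := by
  letI : (Curv2.bc k X F).Over (Spec (CommRingCat.of F)) := ⟨Curv2.bcSnd k X F⟩
  have h1 : _root_.IsConnected ((Curv2.bcFst F (Curv2.bc k X F) Ω) ⁻¹' W) :=
    isConnected_preimage_bcFst F (Curv2.bc k X F) Ω hW
  have heq : (bcBcIso k X F Ω).hom '' ((Curv2.bcFst F (Curv2.bc k X F) Ω) ⁻¹' W) =
      (bcTower k X F Ω) ⁻¹' W := by
    have hpre : (Curv2.bcFst F (Curv2.bc k X F) Ω) ⁻¹' W =
        (bcBcIso k X F Ω).hom ⁻¹' ((bcTower k X F Ω) ⁻¹' W) := by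
      ext w
      simp only [Set.mem_preimage]
      rw [← Scheme.Hom.comp_apply]
      unfold bcTower
      rw [Iso.hom_inv_id_assoc]
    rw [hpre, Set.image_preimage_eq _ (bcBcIso k X F Ω).hom.surjective]
  rw [← heq]
  exact h1.image _ (bcBcIso k X F Ω).hom.continuous.continuousOn

/-- the image of a connected component of `X_K` is a connected component of `X` -/
theorem image_connectedComponent (x' : Curv2.bc k X K) :
    (Curv2.bcFst k X K) '' connectedComponent x' =
      connectedComponent (Curv2.bcFst k X K x') := by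
  apply le_antisymm
  · exact (Curv2.bcFst k X K).continuous.image_connectedComponent_subset x'
  · obtain ⟨Ω, _, _, _, _, _, _, _⟩ := exists_common' k K
    obtain ⟨x'', hx''⟩ := bcTower_surjective k X K Ω x'
    have h2 : (bcTower k X (SeparableClosure k) Ω) '' connectedComponent x'' =
        connectedComponent (bcTower k X (SeparableClosure k) Ω x'') := by
      apply le_antisymm
      · exact (bcTower k X (SeparableClosure k) Ω).continuous.image_connectedComponent_subset x''
      · intro c hc
        obtain ⟨w, rfl⟩ := bcTower_surjective k X (SeparableClosure k) Ω c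
        have hconn := isConnected_preimage_bcTower k X (SeparableClosure k) Ω _
          (isConnected_connectedComponent (x := bcTower k X (SeparableClosure k) Ω x''))
        have hsub := hconn.isPreconnected.subset_connectedComponent
          (x := x'') (show bcTower k X (SeparableClosure k) Ω x'' ∈ _ from mem_connectedComponent)
        exact ⟨w, hsub hc, rfl⟩
    have h3 := image_connectedComponent_of_algebraic k X (SeparableClosure k)
      (bcTower k X (SeparableClosure k) Ω x'')
    have h4 : Curv2.bcFst k X (SeparableClosure k) (bcTower k X (SeparableClosure k) Ω x'') =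
        Curv2.bcFst k X K x' := by
      rw [← hx'', ← Scheme.Hom.comp_apply, ← Scheme.Hom.comp_apply, bcTower_fst, bcTower_fst]
    rw [← h4, ← h3, ← h2]
    rintro _ ⟨_, ⟨w, hw, rfl⟩, rfl⟩
    refine ⟨bcTower k X K Ω w, ?_, ?_⟩
    · rw [← hx'']
      exact (bcTower k X K Ω).continuous.image_connectedComponent_subset x'' ⟨w, hw, rfl⟩
    · rw [← Scheme.Hom.comp_apply, ← Scheme.Hom.comp_apply, bcTower_fst, bcTower_fst]

end Reductions

end Groth.Agent.Lib.Helper6.ConnComp
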