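import Mathlib
import Groth.Prelude.Def_Curv2
import Groth.Agent.Lib.Helper6ConnComp

set_option autoImplicit false
universe u
open CategoryTheory CategoryTheory.Limits AlgebraicGeometry TensorProduct

namespace Groth.Agent.Lib.Helper6.ConnComp

open Groth.Agent.Lib.Helper6.BcBridge Groth.Agent.Lib.Helper6.SepCl
  Groth.Agent.Lib.Helper6.FinLevel Groth.Agent.Lib.Helper6.GalAct
  Groth.Agent.Lib.Helper6.IrrComp Groth.Agent.Lib.Helper6.ProConn

section Common

variable (k : Type u) [Field k] (X : Scheme.{u}) [X.Over (Spec (CommRingCat.of k))]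

/-- subset version: `F` separably closed with the preimage of `T` in `X_F` connected, `Ω` a
common extension of `F` and `K`: the preimage of `T` in `X_K` is connected -/
theorem isConnected_preimage_of_common (F : Type u) [Field F] [Algebra k F] [IsSepClosed F]
    (T : Set X) (h : _root_.IsConnected ((Curv2.bcFst k X F) ⁻¹' T))
    (K : Type u) [Field K] [Algebra k K] (Ω : Type u) [Field Ω] [Algebra k Ω] [Algebra F Ω]
    [Algebra K Ω] [IsScalarTower k F Ω] [IsScalarTower k K Ω] :
    _root_.IsConnected ((Curv2.bcFst k X K) ⁻¹' T) := by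
  have h2 : _root_.IsConnected ((Curv2.bcFst k X Ω) ⁻¹' T) := by
    have heq : (bcTower k X F Ω) ⁻¹' ((Curv2.bcFst k X F) ⁻¹' T) = (Curv2.bcFst k X Ω) ⁻¹' T := by
      ext w
      simp only [Set.mem_preimage]
      rw [← Scheme.Hom.comp_apply, bcTower_fst]
    rw [← heq]
    exact isConnected_preimage_bcTower k X F Ω _ h
  have h3 : (bcTower k X K Ω) '' ((Curv2.bcFst k X Ω) ⁻¹' T) = (Curv2.bcFst k X K) ⁻¹' T := by
    have hpre : (Curv2.bcFst k X Ω) ⁻¹' T = (bcTower k X K Ω) ⁻¹' ((Curv2.bcFst k X K) ⁻¹' T) := by
      ext w
      simp only [Set.mem_preimage]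
      rw [← Scheme.Hom.comp_apply, bcTower_fst]
    rw [hpre, Set.image_preimage_eq _ (bcTower_surjective k X K Ω)]
  rw [← h3]
  exact h2.image _ (bcTower k X K Ω).continuous.continuousOn

/-- the preimage of `T` in `X_{k^s}` connected: then the preimage in every `X_K` is -/
theorem isConnected_preimage_of_sepClosure (T : Set X)
    (h : _root_.IsConnected ((Curv2.bcFst k X (SeparableClosure k)) ⁻¹' T))
    (K : Type u) [Field K] [Algebra k K] :
    _root_.IsConnected ((Curv2.bcFst k X K) ⁻¹' T) := by
  obtain ⟨Ω, _, _, _, _, _, _⟩ := exists_common k K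
  exact isConnected_preimage_of_common k X (SeparableClosure k) T h K Ω

/-- Galois-stable connected components of `X_{k^s}` are the preimages of geometrically connected
connected components of `X` -/
theorem invariant_iff_preimage (t : Curv2.bc k X (SeparableClosure k)) :
    (∀ σ : SeparableClosure k ≃ₐ[k] SeparableClosure k,
        (Curv2.galAct k X (SeparableClosure k) σ) '' connectedComponent t =
          connectedComponent t) ↔
      ((Curv2.bcFst k X (SeparableClosure k)) ⁻¹'
          connectedComponent (Curv2.bcFst k X (SeparableClosure k) t) = connectedComponent t ∧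
        ∀ (K : Type u) [Field K] [Algebra k K],
          _root_.IsConnected ((Curv2.bcFst k X K) ⁻¹'
            connectedComponent (Curv2.bcFst k X (SeparableClosure k) t))) := by
  constructor
  · intro hinv
    have h1 : (Curv2.bcFst k X (SeparableClosure k)) ⁻¹'
        connectedComponent (Curv2.bcFst k X (SeparableClosure k) t) = connectedComponent t := by
      rw [← image_connectedComponent k X (SeparableClosure k) t]
      exact preimage_image_eq_of_invariant k X (SeparableClosure k) _ hinv
    refine ⟨h1, fun K _ _ => ?_⟩
    apply isConnected_preimage_of_sepClosure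
    rw [h1]
    exact isConnected_connectedComponent
  · rintro ⟨h1, -⟩ σ
    rw [← h1]
    exact galAct_image_preimage k X (SeparableClosure k) σ _

end Common

end Groth.Agent.Lib.Helper6.ConnComp
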