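import Mathlib
import Groth.Prelude.Def_Curv2
import Groth.Prelude.Def_FDesc
import Groth.Agent.Lib.Helper6ConnComp2

set_option autoImplicit false
universe u
open CategoryTheory CategoryTheory.Limits AlgebraicGeometry TensorProduct

namespace Groth.Agent.Lib.Helper6.ConnComp

open Groth.Agent.Lib.Helper6.BcBridge Groth.Agent.Lib.Helper6.SepCl
  Groth.Agent.Lib.Helper6.FinLevel Groth.Agent.Lib.Helper6.GalAct
  Groth.Agent.Lib.Helper6.IrrComp Groth.Agent.Lib.Helper6.ProConn

section GeomConn

variable (k : Type u) [Field k] (X : Scheme.{u}) [X.Over (Spec (CommRingCat.of k))]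

/-- if the preimage of `T` in `X_{k^s}` is connected and `x ∈ T`, the connected component of `x`
is geometrically connected -/
theorem isConnected_preimage_connectedComponent (T : Set X)
    (hT : _root_.IsConnected ((Curv2.bcFst k X (SeparableClosure k)) ⁻¹' T))
    (x : X) (hx : x ∈ T) (K : Type u) [Field K] [Algebra k K] :
    _root_.IsConnected ((Curv2.bcFst k X K) ⁻¹' connectedComponent x) := by
  obtain ⟨x', rfl⟩ := bcFst_surjective k X (SeparableClosure k) x
  have hx'D : x' ∈ (Curv2.bcFst k X (SeparableClosure k)) ⁻¹' T := hx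
  have hDW : (Curv2.bcFst k X (SeparableClosure k)) ⁻¹' T ⊆ connectedComponent x' :=
    hT.isPreconnected.subset_connectedComponent hx'D
  have hsub : ∀ σ : SeparableClosure k ≃ₐ[k] SeparableClosure k,
      (Curv2.galAct k X (SeparableClosure k) σ) '' connectedComponent x' ⊆
        connectedComponent x' := by
    intro σ
    have h1 : Curv2.galAct k X (SeparableClosure k) σ x' ∈ connectedComponent x' := by
      apply hDW
      change Curv2.bcFst k X _ (Curv2.galAct k X _ σ x') ∈ T
      rw [galAct_fst_apply]
      exact hx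
    exact ((Curv2.galAct k X (SeparableClosure k) σ).continuous.image_connectedComponent_subset
      x').trans (connectedComponent_eq h1).symm.le
  have hinv : ∀ σ : SeparableClosure k ≃ₐ[k] SeparableClosure k,
      (Curv2.galAct k X (SeparableClosure k) σ) '' connectedComponent x' =
        connectedComponent x' := by
    intro σ
    apply le_antisymm (hsub σ)
    intro w hw
    refine ⟨Curv2.galAct k X (SeparableClosure k) σ.symm w, hsub σ.symm ⟨w, hw, rfl⟩, ?_⟩
    exact galAct_symm_apply k X (SeparableClosure k) σ w
  exact ((invariant_iff_preimage k X x').mp hinv).2 K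

/-- the preimage of the range of a `k`-morphism from `Y` with `Y_F` connected is connected -/
theorem isConnected_preimage_range (Y : Scheme.{u}) [Y.Over (Spec (CommRingCat.of k))]
    (h : Y ⟶ X) [h.IsOver (Spec (CommRingCat.of k))] (F : Type u) [Field F] [Algebra k F]
    [ConnectedSpace (Curv2.bc k Y F)] :
    _root_.IsConnected ((Curv2.bcFst k X F) ⁻¹' Set.range h) := by
  have heq : (Curv2.bcFst k X F) ⁻¹' Set.range h = Set.range (bcMap k Y X h F) := by
    ext w
    constructor
    · rintro ⟨t, ht⟩
      obtain ⟨t', ht'⟩ := exists_bcMap_eq k Y X h F t w ht.symm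
      exact ⟨t', ht'⟩
    · rintro ⟨t', rfl⟩
      refine ⟨Curv2.bcFst k Y F t', ?_⟩
      rw [← Scheme.Hom.comp_apply, ← Scheme.Hom.comp_apply, bcMap_fst]
  rw [heq]
  exact isConnected_range (bcMap k Y X h F).continuous

theorem connectedSpace_bc_of_geometricallyConnected
    [GeometricallyConnected (X ↘ Spec (CommRingCat.of k))] (F : Type u) [Field F] [Algebra k F] :
    ConnectedSpace (Curv2.bc k X F) := by
  have h : GeometricallyConnected (X ↘ Spec (CommRingCat.of k)) := inferInstance
  rw [geometricallyConnected_iff, geometrically_iff_of_commRing_of_isClosedUnderIsomorphisms] at h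
  exact h F

end GeomConn

section Card

variable (k : Type u) [Field k] (X : Scheme.{u}) [X.Over (Spec (CommRingCat.of k))]

/-- a common extension field of two extensions of `k` -/
theorem exists_common_ext (K Ω : Type u) [Field K] [Algebra k K] [Field Ω] [Algebra k Ω] :
    ∃ (L : Type u) (_ : Field L) (_ : Algebra k L) (_ : Algebra K L) (_ : Algebra Ω L),
      IsScalarTower k K L ∧ IsScalarTower k Ω L := by
  haveI : Nontrivial (K ⊗[k] Ω) := inferInstance
  obtain ⟨m, hm⟩ := Ideal.exists_maximal (K ⊗[k] Ω)
  letI : Field ((K ⊗[k] Ω) ⧸ m) := Ideal.Quotient.field m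
  letI iK : Algebra K ((K ⊗[k] Ω) ⧸ m) := ((Ideal.Quotient.mk m).comp
    (Algebra.TensorProduct.includeLeft (R := k) (S := k) (A := K) (B := Ω)).toRingHom).toAlgebra
  letI iΩ : Algebra Ω ((K ⊗[k] Ω) ⧸ m) := ((Ideal.Quotient.mk m).comp
    (Algebra.TensorProduct.includeRight (R := k) (A := K) (B := Ω)).toRingHom).toAlgebra
  refine ⟨(K ⊗[k] Ω) ⧸ m, inferInstance, inferInstance, iK, iΩ, ?_, ?_⟩
  · apply IsScalarTower.of_algebraMap_eq
    intro x
    change Ideal.Quotient.mk m (algebraMap k (K ⊗[k] Ω) x) =
      Ideal.Quotient.mk m ((algebraMap k K x) ⊗ₜ 1)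
    rw [Algebra.TensorProduct.algebraMap_apply]
  · apply IsScalarTower.of_algebraMap_eq
    intro x
    change Ideal.Quotient.mk m (algebraMap k (K ⊗[k] Ω) x) =
      Ideal.Quotient.mk m (1 ⊗ₜ (algebraMap k Ω x))
    rw [Algebra.TensorProduct.algebraMap_apply, Algebra.algebraMap_eq_smul_one,
      Algebra.algebraMap_eq_smul_one, TensorProduct.smul_tmul]

/-- the number of connected components of `X_K` is at most that of `X_Ω`, `Ω` separably closed -/
theorem card_connectedComponents_le (K Ω : Type u) [Field K] [Algebra k K] [Field Ω] [Algebra k Ω]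
    [IsSepClosed Ω] :
    Cardinal.mk (_root_.ConnectedComponents (Curv2.bc k X K)) ≤
      Cardinal.mk (_root_.ConnectedComponents (Curv2.bc k X Ω)) := by
  obtain ⟨L, _, _, _, _, _, _⟩ := exists_common_ext k K Ω
  have hsurj : Function.Surjective
      (Continuous.connectedComponentsMap (bcTower k X K L).continuous) := by
    intro c
    obtain ⟨x, rfl⟩ := ConnectedComponents.surjective_coe c
    obtain ⟨w, rfl⟩ := bcTower_surjective k X K L x
    exact ⟨ConnectedComponents.mk w, rfl⟩
  have hinj : Function.Injective
      (Continuous.connectedComponentsMap (bcTower k X Ω L).continuous) := by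
    intro a b hab
    obtain ⟨a, rfl⟩ := ConnectedComponents.surjective_coe a
    obtain ⟨b, rfl⟩ := ConnectedComponents.surjective_coe b
    have hab' : bcTower k X Ω L a ∈ connectedComponent (bcTower k X Ω L b) :=
      ConnectedComponents.coe_eq_coe'.mp hab
    have hconn := isConnected_preimage_bcTower k X Ω L _
      (isConnected_connectedComponent (x := bcTower k X Ω L b))
    have hsub := hconn.isPreconnected.subset_connectedComponent
      (x := b) (show bcTower k X Ω L b ∈ _ from mem_connectedComponent)
    exact ConnectedComponents.coe_eq_coe'.mpr (hsub hab')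
  exact (Cardinal.mk_le_of_surjective hsurj).trans (Cardinal.mk_le_of_injective hinj)

end Card

end Groth.Agent.Lib.Helper6.ConnComp
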