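import Mathlib
import Groth.Prelude.Def_Curv2
import Groth.Agent.Lib.Helper6ConnComp3

set_option autoImplicit false
universe u
open CategoryTheory CategoryTheory.Limits AlgebraicGeometry TensorProduct

namespace Groth.Agent.Lib.Helper6.UniqComp

open Groth.Agent.Lib.Helper6.BcBridge Groth.Agent.Lib.Helper6.SepCl
  Groth.Agent.Lib.Helper6.FinLevel Groth.Agent.Lib.Helper6.GalAct
  Groth.Agent.Lib.Helper6.IrrComp Groth.Agent.Lib.Helper6.ConnComp

section General

variable {Y X : Scheme.{u}} (f : Y ⟶ X)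

theorem preimage_image_eq_of_preimage
    (hp : ∀ W : Set X, IsIrreducible W → IsIrreducible (f ⁻¹' W)) (T : Set Y)
    (hT : T ∈ irreducibleComponents Y) : f ⁻¹' (f '' T) = T :=
  le_antisymm (hT.2 (hp _ (hT.1.image f f.continuous.continuousOn))
    (Set.subset_preimage_image f T)) (Set.subset_preimage_image f T)

theorem preimage_mem_irreducibleComponents (hs : Function.Surjective f)
    (hp : ∀ W : Set X, IsIrreducible W → IsIrreducible (f ⁻¹' W)) (D : Set X)
    (hD : D ∈ irreducibleComponents X) : f ⁻¹' D ∈ irreducibleComponents Y := by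
  refine ⟨hp D hD.1, fun E hE hle => ?_⟩
  have h1 : D ≤ f '' E := by
    rw [← Set.image_preimage_eq D hs]
    exact Set.image_mono hle
  have h2 : f '' E ≤ D := hD.2 (hE.image f f.continuous.continuousOn) h1
  exact fun e he => h2 ⟨e, he, rfl⟩

end General

section Main

variable (k : Type u) [Field k] (X : Scheme.{u}) [X.Over (Spec (CommRingCat.of k))]
  (K : Type u) [Field K] [Algebra k K] [IsAlgClosed K]

theorem preimage_image_eq_of_unique (Z : Set X) (C' : Set (Curv2.bc k X K))
    (hC' : C' ∈ irreducibleComponents (Curv2.bc k X K))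
    (huniq : ∀ D ∈ irreducibleComponents (Curv2.bc k X K),
      (Curv2.bcFst k X K) ⁻¹' Z ⊆ D ↔ D = C') :
    (Curv2.bcFst k X K) ⁻¹' ((Curv2.bcFst k X K) '' C') = C' := by
  let F := algebraicClosure k K
  haveI : IsAlgClosed F := IsAlgClosure.isAlgClosed k
  haveI : Normal k F := IsAlgClosure.normal k F
  have hs := bcTower_surjective k X F K
  have hp := isIrreducible_preimage_bcTower k X F K
  have hfac : ∀ w, Curv2.bcFst k X F (bcTower k X F K w) = Curv2.bcFst k X K w := by
    intro w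
    rw [← Scheme.Hom.comp_apply, bcTower_fst]
  have hCbar : (bcTower k X F K) '' C' ∈ irreducibleComponents (Curv2.bc k X F) :=
    image_mem_irreducibleComponents_of_preimage (bcTower k X F K) hs hp C' hC'
  have hC'eq : (bcTower k X F K) ⁻¹' ((bcTower k X F K) '' C') = C' :=
    preimage_image_eq_of_preimage (bcTower k X F K) hp C' hC'
  have hZC' : (Curv2.bcFst k X K) ⁻¹' Z ⊆ C' := (huniq C' hC').mpr rfl
  have hZbar : (Curv2.bcFst k X F) ⁻¹' Z ⊆ (bcTower k X F K) '' C' := by
    intro wb hwb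
    obtain ⟨w, rfl⟩ := hs wb
    refine ⟨w, hZC' ?_, rfl⟩
    change Curv2.bcFst k X K w ∈ Z
    rw [← hfac]
    exact hwb
  have huniqbar : ∀ Db ∈ irreducibleComponents (Curv2.bc k X F),
      (Curv2.bcFst k X F) ⁻¹' Z ⊆ Db → Db = (bcTower k X F K) '' C' := by
    intro Db hDb hle
    have h1 := preimage_mem_irreducibleComponents (bcTower k X F K) hs hp Db hDb
    have h2 : (Curv2.bcFst k X K) ⁻¹' Z ⊆ (bcTower k X F K) ⁻¹' Db := by
      intro w hw
      apply hle
      change Curv2.bcFst k X F (bcTower k X F K w) ∈ Z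
      rw [hfac]
      exact hw
    have h3 := (huniq _ h1).mp h2
    rw [← hC'eq] at h3
    exact (Set.preimage_injective.mpr hs) h3
  have hsub : ∀ σ : F ≃ₐ[k] F,
      (Curv2.galAct k X F σ) '' ((bcTower k X F K) '' C') ⊆ (bcTower k X F K) '' C' := by
    intro σ
    have hirr : IsIrreducible ((Curv2.galAct k X F σ) '' ((bcTower k X F K) '' C')) :=
      hCbar.1.image _ (Curv2.galAct k X F σ).continuous.continuousOn
    obtain ⟨Db, hDb, hle⟩ := exists_mem_irreducibleComponents_subset_of_isIrreducible _ hirr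
    have hZD : (Curv2.bcFst k X F) ⁻¹' Z ⊆ Db := by
      rw [← galAct_image_preimage k X F σ Z]
      exact (Set.image_mono hZbar).trans hle
    exact hle.trans (huniqbar Db hDb hZD).le
  have hinv : ∀ σ : F ≃ₐ[k] F,
      (Curv2.galAct k X F σ) '' ((bcTower k X F K) '' C') = (bcTower k X F K) '' C' := by
    intro σ
    apply le_antisymm (hsub σ)
    intro w hw
    exact ⟨Curv2.galAct k X F σ.symm w, hsub σ.symm ⟨w, hw, rfl⟩, galAct_symm_apply k X F σ w⟩
  apply Set.Subset.antisymm
  · rintro w ⟨c', hc', hw⟩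
    rw [← hC'eq]
    change bcTower k X F K w ∈ (bcTower k X F K) '' C'
    have h1 : Curv2.bcFst k X F (bcTower k X F K c') = Curv2.bcFst k X F (bcTower k X F K w) := by
      rw [hfac, hfac, hw]
    obtain ⟨σ, hσ⟩ := exists_galAct_eq k X F _ _ h1
    rw [← hinv σ]
    exact ⟨_, ⟨c', hc', rfl⟩, hσ⟩
  · exact Set.subset_preimage_image _ _

theorem unique_component (Z : Set X) (C' : Set (Curv2.bc k X K))
    (hC' : C' ∈ irreducibleComponents (Curv2.bc k X K))
    (huniq : ∀ D ∈ irreducibleComponents (Curv2.bc k X K),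
      (Curv2.bcFst k X K) ⁻¹' Z ⊆ D ↔ D = C') :
    (Curv2.bcFst k X K) ⁻¹' ((Curv2.bcFst k X K) '' C') = C' ∧
    (Curv2.bcFst k X K) '' C' ∈ irreducibleComponents X ∧
    Z ⊆ (Curv2.bcFst k X K) '' C' ∧
    (∀ (L : Type u) [Field L] [Algebra k L],
      IsIrreducible ((Curv2.bcFst k X L) ⁻¹' ((Curv2.bcFst k X K) '' C'))) ∧
    ((∀ D ∈ irreducibleComponents (Curv2.bc k X K),
        (D ∩ (Curv2.bcFst k X K) ⁻¹' Z).Nonempty → D = C') →
      ∀ D ∈ irreducibleComponents X, (D ∩ Z).Nonempty → D = (Curv2.bcFst k X K) '' C') := by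
  have h1 := preimage_image_eq_of_unique k X K Z C' hC' huniq
  refine ⟨h1, image_mem_irreducibleComponents' k X K C' hC', ?_, ?_, ?_⟩
  · intro z hz
    obtain ⟨w, rfl⟩ := bcFst_surjective k X K z
    exact ⟨w, (huniq C' hC').mpr rfl hz, rfl⟩
  · intro L _ _
    obtain ⟨Ω, _, _, _, _, _, _⟩ := exists_common_ext k K L
    apply isIrreducible_preimage_of_common k X K _ _ L Ω
    rw [h1]
    exact hC'.1
  · intro hmeet D hD ⟨z, hzD, hzZ⟩
    obtain ⟨D', hD', rfl⟩ := exists_image_eq' k X K D hD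
    obtain ⟨d', hd', rfl⟩ := hzD
    rw [hmeet D' hD' ⟨d', hd', hzZ⟩]

end Main

end Groth.Agent.Lib.Helper6.UniqComp
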