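import Mathlib
import Groth.Prelude.Def_Curv2
import Groth.Agent.Lib.Helper6UniqComp

set_option autoImplicit false
universe u
open CategoryTheory CategoryTheory.Limits AlgebraicGeometry TensorProduct

namespace Groth.Agent.Lib.Helper6.SepComp

open Groth.Agent.Lib.Helper6.BcBridge Groth.Agent.Lib.Helper6.SepCl
  Groth.Agent.Lib.Helper6.FinLevel Groth.Agent.Lib.Helper6.GalAct
  Groth.Agent.Lib.Helper6.IrrComp Groth.Agent.Lib.Helper6.ConnComp

section Main

variable (k : Type u) [Field k] (X : Scheme.{u}) [X.Over (Spec (CommRingCat.of k))]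
  (K : Type u) [Field K] [Algebra k K]

/-- the Galois action permutes the irreducible components -/
theorem galAct_image_mem_irreducibleComponents (σ : K ≃ₐ[k] K) (T' : Set (Curv2.bc k X K))
    (hT' : T' ∈ irreducibleComponents (Curv2.bc k X K)) :
    (Curv2.galAct k X K σ) '' T' ∈ irreducibleComponents (Curv2.bc k X K) := by
  refine ⟨hT'.1.image _ (Curv2.galAct k X K σ).continuous.continuousOn, fun E hE hle => ?_⟩
  have h1 : T' ≤ (Curv2.galAct k X K σ.symm) '' E := by
    intro t ht
    exact ⟨Curv2.galAct k X K σ t, hle ⟨t, ht, rfl⟩, galAct_apply_symm k X K σ t⟩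
  have h2 := hT'.2 (hE.image _ (Curv2.galAct k X K σ.symm).continuous.continuousOn) h1
  intro e he
  exact ⟨Curv2.galAct k X K σ.symm e, h2 ⟨e, he, rfl⟩, galAct_symm_apply k X K σ e⟩

theorem image_eq_of_image_subset [Algebra.IsAlgebraic k K] (T : Set X)
    (hT : T ∈ irreducibleComponents X) (T' : Set (Curv2.bc k X K))
    (hT' : T' ∈ irreducibleComponents (Curv2.bc k X K))
    (hle : (Curv2.bcFst k X K) '' T' ⊆ T) : (Curv2.bcFst k X K) '' T' = T :=
  le_antisymm hle ((image_mem_irreducibleComponents k X K T' hT').2 hT.1 hle)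

instance locallyOfFiniteType_bcSnd [LocallyOfFiniteType (X ↘ Spec (CommRingCat.of k))] :
    LocallyOfFiniteType (Curv2.bcSnd k X K) := by
  unfold Curv2.bcSnd
  infer_instance

theorem isLocallyNoetherian_bc [LocallyOfFiniteType (X ↘ Spec (CommRingCat.of k))] :
    IsLocallyNoetherian (Curv2.bc k X K) :=
  LocallyOfFiniteType.isLocallyNoetherian (Curv2.bcSnd k X K)

/-- finitely many irreducible components of `X_K` over a given one of `X`
(`X` locally of finite type, `K/k` algebraic) -/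
theorem finite_components_over [Algebra.IsAlgebraic k K]
    [LocallyOfFiniteType (X ↘ Spec (CommRingCat.of k))] (T : Set X)
    (hT : T ∈ irreducibleComponents X) :
    {T' : Set (Curv2.bc k X K) | T' ∈ irreducibleComponents (Curv2.bc k X K) ∧
      (Curv2.bcFst k X K) '' T' ⊆ T}.Finite := by
  obtain ⟨η, hη⟩ := hT.1.1
  obtain ⟨_, ⟨U, hU, rfl⟩, hηU, -⟩ :=
    X.isBasis_affineOpens.exists_subset_of_mem_open (Set.mem_univ η) isOpen_univ
  let V : (Curv2.bc k X K).Opens := (Curv2.bcFst k X K) ⁻¹ᵁ U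
  have hV : IsAffineOpen V := hU.preimage (Curv2.bcFst k X K)
  haveI := isLocallyNoetherian_bc k X K
  haveI : IsNoetherianRing Γ(Curv2.bc k X K, V) :=
    IsLocallyNoetherian.component_noetherian ⟨V, hV⟩
  haveI : TopologicalSpace.NoetherianSpace V := noetherianSpace_of_isAffineOpen V hV
  have hfin : (irreducibleComponents V).Finite :=
    TopologicalSpace.NoetherianSpace.finite_irreducibleComponents
  have hemb : Topology.IsOpenEmbedding (Subtype.val : V → Curv2.bc k X K) :=
    V.isOpenEmbedding'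
  have hmeet : ∀ T' ∈ {T' : Set (Curv2.bc k X K) |
      T' ∈ irreducibleComponents (Curv2.bc k X K) ∧ (Curv2.bcFst k X K) '' T' ⊆ T},
      ((Subtype.val : V → Curv2.bc k X K) ⁻¹' T').Nonempty := by
    rintro T' ⟨hT', hle⟩
    have heq := image_eq_of_image_subset k X K T hT T' hT' hle
    have : η ∈ (Curv2.bcFst k X K) '' T' := heq ▸ hη
    obtain ⟨t, ht, htη⟩ := this
    exact ⟨⟨t, by change Curv2.bcFst k X K t ∈ U; rw [htη]; exact hηU⟩, ht⟩
  refine Set.Finite.of_injOn (f := fun T' => (Subtype.val : V → Curv2.bc k X K) ⁻¹' T')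
    (t := irreducibleComponents V) ?_ ?_ hfin
  · rintro T' hT'
    obtain ⟨v, hv⟩ := hmeet T' hT'
    exact preimage_mem_irreducibleComponents hT'.1 hemb ⟨v.1, hv, v, rfl⟩
  · intro T' hT' T'' hT'' heq
    have h1 := closure_image_preimage_of_isPreirreducible (Subtype.val : V → Curv2.bc k X K)
      hemb.isOpenMap T' (hmeet T' hT') hT'.1.1.2 (isClosed_of_mem_irreducibleComponents _ hT'.1)
    have h2 := closure_image_preimage_of_isPreirreducible (Subtype.val : V → Curv2.bc k X K)
      hemb.isOpenMap T'' (hmeet T'' hT'') hT''.1.1.2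
      (isClosed_of_mem_irreducibleComponents _ hT''.1)
    have heq' : (Subtype.val : V → Curv2.bc k X K) ⁻¹' T' =
      (Subtype.val : V → Curv2.bc k X K) ⁻¹' T'' := heq
    rw [← h1, ← h2, heq']

/-- the preimage of an irreducible component is the union of the components above it -/
theorem preimage_eq_sUnion [Normal k K] (T : Set X) (hT : T ∈ irreducibleComponents X) :
    (Curv2.bcFst k X K) ⁻¹' T = ⋃₀ {T' : Set (Curv2.bc k X K) |
      T' ∈ irreducibleComponents (Curv2.bc k X K) ∧ (Curv2.bcFst k X K) '' T' ⊆ T} := by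
  apply Set.Subset.antisymm
  · intro w hw
    obtain ⟨T'₀, hT'₀, himg⟩ := exists_image_eq' k X K T hT
    have hw' : Curv2.bcFst k X K w ∈ (Curv2.bcFst k X K) '' T'₀ := himg ▸ hw
    obtain ⟨t, ht, htw⟩ := hw'
    obtain ⟨σ, hσ⟩ := exists_galAct_eq k X K t w htw
    refine ⟨(Curv2.galAct k X K σ) '' T'₀,
      ⟨galAct_image_mem_irreducibleComponents k X K σ T'₀ hT'₀, ?_⟩, ⟨t, ht, hσ⟩⟩
    rintro _ ⟨_, ⟨t', ht', rfl⟩, rfl⟩
    rw [galAct_fst_apply, ← himg]
    exact ⟨t', ht', rfl⟩
  · rintro w ⟨T', ⟨-, hle⟩, hw⟩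
    exact hle ⟨w, hw, rfl⟩

end Main

end Groth.Agent.Lib.Helper6.SepComp
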