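import Mathlib
import Groth.Prelude.Def_Curv2
import Groth.Prelude.Def_FDesc
import Groth.Agent.Lib.Helper6SepComp
import Groth.Agent.Lib.Helper2GeomPts

set_option autoImplicit false
universe u
open CategoryTheory CategoryTheory.Limits AlgebraicGeometry TensorProduct

namespace Groth.Agent.Lib.Helper6.PInsepPts

open Groth.Agent.Lib.Helper6.BcBridge Groth.Agent.Lib.Helper6.SepCl
  Groth.Agent.Lib.Helper6.FinLevel Groth.Agent.Lib.Helper6.GalAct
  Groth.Agent.Lib.Helper6.IrrComp Groth.Agent.Lib.Helper6.ConnComp
  Groth.Agent.Lib.Helper6.SepComp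

section Fibre

variable (k : Type u) [Field k] (X : Scheme.{u}) [X.Over (Spec (CommRingCat.of k))]
  (K : Type u) [Field K] [Algebra k K]

/-- the fibre of `X_K → X` over a point with purely inseparable residue field has at most one
point -/
theorem eq_of_isPurelyInseparable (x : X) (φ : k →+* X.residueField x)
    (hφ : Spec.map (CommRingCat.ofHom φ) =
      X.fromSpecResidueField x ≫ (X ↘ Spec (CommRingCat.of k)))
    (hP : letI := φ.toAlgebra; IsPurelyInseparable k (X.residueField x))
    (w w' : Curv2.bc k X K) (hw : Curv2.bcFst k X K w = x) (hw' : Curv2.bcFst k X K w' = x) :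
    w = w' := by
  letI := φ.toAlgebra
  haveI : IsPurelyInseparable k (X.residueField x) := hP
  haveI hui : UniversallyInjective (Spec.map (CommRingCat.ofHom φ)) :=
    Groth.Agent.Lib.Helper2.Weight.universallyInjective_SpecMap_of_isPurelyInseparable k
      (X.residueField x)
  let g := Spec.map (CommRingCat.ofHom (algebraMap k K))
  let ι := X.fromSpecResidueField x
  haveI : UniversallyInjective (ι ≫ (X ↘ Spec (CommRingCat.of k))) := hφ ▸ hui
  have hsub : Subsingleton ↥(pullback (ι ≫ (X ↘ Spec (CommRingCat.of k))) g) := by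
    haveI : UniversallyInjective (pullback.snd (ι ≫ (X ↘ Spec (CommRingCat.of k))) g) :=
      MorphismProperty.pullback_snd (P := @UniversallyInjective) _ _ inferInstance
    have hinj : Function.Injective (pullback.snd (ι ≫ (X ↘ Spec (CommRingCat.of k))) g) :=
      (pullback.snd (ι ≫ (X ↘ Spec (CommRingCat.of k))) g).injective
    haveI : Subsingleton ↥(Spec (CommRingCat.of K)) :=
      inferInstanceAs (Subsingleton (PrimeSpectrum K))
    exact hinj.subsingleton
  have hsub' : Subsingleton ↥(pullback ι (Curv2.bcFst k X K)) := by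
    let e := pullbackRightPullbackFstIso (X ↘ Spec (CommRingCat.of k)) g ι
    exact (e.hom.homeomorph.injective).subsingleton
  let a : Spec (X.residueField x) := IsLocalRing.closedPoint (X.residueField x)
  have ha : ι a = x := X.fromSpecResidueField_apply x a
  obtain ⟨z, -, hz⟩ := Scheme.Pullback.exists_preimage_pullback (f := ι)
    (g := Curv2.bcFst k X K) a w (ha.trans hw.symm)
  obtain ⟨z', -, hz'⟩ := Scheme.Pullback.exists_preimage_pullback (f := ι)
    (g := Curv2.bcFst k X K) a w' (ha.trans hw'.symm)
  rw [← hz, ← hz', Subsingleton.elim z z']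

end Fibre

section Main

variable (k : Type u) [Field k] (X : Scheme.{u}) [X.Over (Spec (CommRingCat.of k))]

/-- a point of a component of `X_{k^s}` over the generic point of the irreducible `X` is the
generic point of that component -/
theorem closure_eq_of_over_generic [IrreducibleSpace X]
    (T' : Set (Curv2.bc k X (SeparableClosure k)))
    (hT' : T' ∈ irreducibleComponents (Curv2.bc k X (SeparableClosure k)))
    (y' : Curv2.bc k X (SeparableClosure k)) (hy' : y' ∈ T')
    (hy : Curv2.bcFst k X (SeparableClosure k) y' = genericPoint X) : closure {y'} = T' := by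
  obtain ⟨ξ', hξ'⟩ := QuasiSober.sober hT'.1 (isClosed_of_mem_irreducibleComponents _ hT')
  have huniv : (Set.univ : Set X) ∈ irreducibleComponents X := by
    rw [irreducibleComponents_eq_singleton]
    rfl
  have himg := image_eq_of_image_subset k X (SeparableClosure k) Set.univ huniv T' hT'
    (Set.subset_univ _)
  have hpξ : Curv2.bcFst k X (SeparableClosure k) ξ' = genericPoint X := by
    have h1 : IsGenericPoint (Curv2.bcFst k X (SeparableClosure k) ξ') Set.univ := by
      rw [isGenericPoint_def, ← himg, ← hξ'.def, image_closure_singleton]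
    exact h1.eq (genericPoint_spec X)
  obtain ⟨σ, hσ⟩ := exists_galAct_eq k X (SeparableClosure k) ξ' y' (hpξ.trans hy.symm)
  have hcomp := galAct_image_mem_irreducibleComponents k X (SeparableClosure k) σ T' hT'
  have hcl : (Curv2.galAct k X (SeparableClosure k) σ) '' T' = closure {y'} := by
    rw [← hξ'.def, ← hσ]
    exact ((galHomeo k X (SeparableClosure k) σ).image_closure {ξ'}).trans
      (by rw [Set.image_singleton]; rfl)
  have hle : closure {y'} ≤ T' :=
    closure_minimal (Set.singleton_subset_iff.mpr hy') (isClosed_of_mem_irreducibleComponents _ hT')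
  rw [← hcl] at hle ⊢
  exact le_antisymm hle (hcomp.2 hT'.1 hle)

theorem exists_closed_nowhereDense [LocallyOfFiniteType (X ↘ Spec (CommRingCat.of k))]
    [IrreducibleSpace X] (h : ¬ GeometricallyIrreducible (X ↘ Spec (CommRingCat.of k))) :
    ∃ Y : Set X, IsClosed Y ∧ interior Y = ∅ ∧ ∀ x : X,
      (∀ w w' : Curv2.bc k X (SeparableClosure k),
        Curv2.bcFst k X (SeparableClosure k) w = x →
        Curv2.bcFst k X (SeparableClosure k) w' = x → w = w') → x ∈ Y := by
  classical
  have hnot : ¬ IrreducibleSpace (Curv2.bc k X (SeparableClosure k)) := fun hirr =>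
    h (geometricallyIrreducible_of_sepClosure k X)
  have huniv : (Set.univ : Set X) ∈ irreducibleComponents X := by
    rw [irreducibleComponents_eq_singleton]
    rfl
  have hfin : (irreducibleComponents (Curv2.bc k X (SeparableClosure k))).Finite := by
    have := finite_components_over k X (SeparableClosure k) Set.univ huniv
    refine this.subset ?_
    intro T' hT'
    exact ⟨hT', Set.subset_univ _⟩
  let comps := irreducibleComponents (Curv2.bc k X (SeparableClosure k))
  let idx : Set (Set (Curv2.bc k X (SeparableClosure k)) × Set (Curv2.bc k X (SeparableClosure k))) :=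
    {q | q.1 ∈ comps ∧ q.2 ∈ comps ∧ q.1 ≠ q.2}
  have hidx : idx.Finite := (hfin.prod hfin).subset (fun q hq => ⟨hq.1, hq.2.1⟩)
  let Y' : Set (Curv2.bc k X (SeparableClosure k)) := ⋃ q ∈ idx, q.1 ∩ q.2
  have hY' : IsClosed Y' := hidx.isClosed_biUnion fun q hq =>
    (isClosed_of_mem_irreducibleComponents _ hq.1).inter
      (isClosed_of_mem_irreducibleComponents _ hq.2.1)
  refine ⟨(Curv2.bcFst k X (SeparableClosure k)) '' Y',
    isClosedMap_bcFst k X (SeparableClosure k) _ hY', ?_, ?_⟩
  · by_contra hne
    have hne' : (interior ((Curv2.bcFst k X (SeparableClosure k)) '' Y')).Nonempty :=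
      Set.nonempty_iff_ne_empty.mpr hne
    have hη : genericPoint X ∈ interior ((Curv2.bcFst k X (SeparableClosure k)) '' Y') := by
      rw [(genericPoint_spec X).mem_open_set_iff isOpen_interior]
      obtain ⟨o, ho⟩ := hne'
      exact ⟨o, Set.mem_univ _, ho⟩
    obtain ⟨y', hy'Y, hy'⟩ := interior_subset hη
    obtain ⟨q, hq, hy'q⟩ := Set.mem_iUnion₂.mp hy'Y
    have h1 := closure_eq_of_over_generic k X q.1 hq.1 y' hy'q.1 hy'
    have h2 := closure_eq_of_over_generic k X q.2 hq.2.1 y' hy'q.2 hy'
    exact hq.2.2 (h1.symm.trans h2)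
  · intro x hx
    obtain ⟨x', hx'⟩ := bcFst_surjective k X (SeparableClosure k) x
    have hT1 := irreducibleComponent_mem_irreducibleComponents x'
    have hex : ∃ T2 ∈ comps, T2 ≠ irreducibleComponent x' := by
      by_contra hcon
      rw [not_exists] at hcon
      apply hnot
      have hall : ∀ T2 ∈ comps, T2 = irreducibleComponent x' := fun T2 hT2 => by
        by_contra hne
        exact hcon T2 ⟨hT2, hne⟩
      have huniv' : (Set.univ : Set (Curv2.bc k X (SeparableClosure k))) =
          irreducibleComponent x' := by
        rw [← sUnion_irreducibleComponents]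
        apply Set.Subset.antisymm
        · rintro w ⟨T2, hT2, hw⟩
          exact hall T2 hT2 ▸ hw
        · exact fun w hw => ⟨_, hT1, hw⟩
      haveI : Nonempty (Curv2.bc k X (SeparableClosure k)) := ⟨x'⟩
      haveI : PreirreducibleSpace (Curv2.bc k X (SeparableClosure k)) :=
        ⟨by rw [huniv']; exact isIrreducible_irreducibleComponent.isPreirreducible⟩
      exact ⟨inferInstance⟩
    obtain ⟨T2, hT2, hne⟩ := hex
    obtain ⟨σ, hσ⟩ := exists_galAct_image_eq k X (SeparableClosure k) (irreducibleComponent x') T2
      hT1 hT2 (by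
        rw [image_eq_of_image_subset k X (SeparableClosure k) Set.univ huniv _ hT1
          (Set.subset_univ _), image_eq_of_image_subset k X (SeparableClosure k) Set.univ huniv
          _ hT2 (Set.subset_univ _)])
    have hfix : Curv2.galAct k X (SeparableClosure k) σ x' = x' :=
      hx _ _ (by rw [galAct_fst_apply, hx']) hx'
    have hx'T2 : x' ∈ T2 := by
      rw [← hσ]
      exact ⟨x', mem_irreducibleComponent, hfix⟩
    refine ⟨x', ?_, hx'⟩
    exact Set.mem_iUnion₂.mpr ⟨(irreducibleComponent x', T2), ⟨hT1, hT2, hne.symm⟩,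
      mem_irreducibleComponent, hx'T2⟩

end Main

end Groth.Agent.Lib.Helper6.PInsepPts
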