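import Mathlib
import Groth.Prelude.Def_Curv2
import Groth.Agent.Lib.Helper6PInsepPts

set_option autoImplicit false
universe u
open CategoryTheory CategoryTheory.Limits AlgebraicGeometry TensorProduct

namespace Groth.Agent.Lib.Helper6.RelGal

open Groth.Agent.Lib.Helper6.BcBridge Groth.Agent.Lib.Helper6.SepCl
  Groth.Agent.Lib.Helper6.FinLevel Groth.Agent.Lib.Helper6.GalAct
  Groth.Agent.Lib.Helper6.IrrComp Groth.Agent.Lib.Helper6.ConnComp
  Groth.Agent.Lib.Helper6.SepComp

section Rel

variable (k : Type u) [Field k] (X : Scheme.{u}) [X.Over (Spec (CommRingCat.of k))]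
  (E K : Type u) [Field E] [Algebra k E] [Field K] [Algebra k K] [Algebra E K]
  [IsScalarTower k E K]

/-- the Galois action over `E` on `(X_E)_K` corresponds to the action over `k` on `X_K` -/
theorem bcBcIso_galAct (τ : K ≃ₐ[E] K) :
    letI : (Curv2.bc k X E).Over (Spec (CommRingCat.of E)) := ⟨Curv2.bcSnd k X E⟩
    Curv2.galAct E (Curv2.bc k X E) K τ ≫ (bcBcIso k X E K).hom =
      (bcBcIso k X E K).hom ≫ Curv2.galAct k X K (τ.restrictScalars k) := by
  letI : (Curv2.bc k X E).Over (Spec (CommRingCat.of E)) := ⟨Curv2.bcSnd k X E⟩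
  apply pullback.hom_ext
  · rw [Category.assoc, Category.assoc]
    change _ ≫ _ ≫ Curv2.bcFst k X K = _ ≫ _ ≫ Curv2.bcFst k X K
    rw [galAct_fst, bcBcIso_hom_fst, ← Category.assoc, galAct_fst]
  · rw [Category.assoc, Category.assoc]
    change _ ≫ _ ≫ Curv2.bcSnd k X K = _ ≫ _ ≫ Curv2.bcSnd k X K
    rw [galAct_snd, bcBcIso_hom_snd, galAct_snd, ← Category.assoc, bcBcIso_hom_snd]
    rfl

/-- transitivity of the automorphisms fixing `E` on the fibres of `X_K → X_E` -/
theorem exists_galAct_eq_of_bcTower [Normal E K] (w w' : Curv2.bc k X K)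
    (h : bcTower k X E K w = bcTower k X E K w') :
    ∃ σ : K ≃ₐ[k] K, (∀ a : E, σ (algebraMap E K a) = algebraMap E K a) ∧
      Curv2.galAct k X K σ w = w' := by
  letI : (Curv2.bc k X E).Over (Spec (CommRingCat.of E)) := ⟨Curv2.bcSnd k X E⟩
  have h' : Curv2.bcFst E (Curv2.bc k X E) K ((bcBcIso k X E K).inv w) =
      Curv2.bcFst E (Curv2.bc k X E) K ((bcBcIso k X E K).inv w') := by
    rw [← Scheme.Hom.comp_apply, ← Scheme.Hom.comp_apply]
    exact h
  obtain ⟨τ, hτ⟩ := exists_galAct_eq E (Curv2.bc k X E) K _ _ h'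
  refine ⟨τ.restrictScalars k, fun a => τ.commutes a, ?_⟩
  have hw : w = (bcBcIso k X E K).hom ((bcBcIso k X E K).inv w) := by
    rw [← Scheme.Hom.comp_apply, Iso.inv_hom_id]
    rfl
  have hw' : w' = (bcBcIso k X E K).hom ((bcBcIso k X E K).inv w') := by
    rw [← Scheme.Hom.comp_apply, Iso.inv_hom_id]
    rfl
  rw [hw, ← Scheme.Hom.comp_apply, ← bcBcIso_galAct, Scheme.Hom.comp_apply, hτ, ← hw']

end Rel

section Stab

variable (k : Type u) [Field k] (X : Scheme.{u}) [X.Over (Spec (CommRingCat.of k))]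
  (K : Type u) [Field K] [Algebra k K] [Algebra.IsAlgebraic k K]

/-- finitely many irreducible components: all are stable under the automorphisms fixing a
suitable finite level -/
theorem exists_finite_level_stabilizer
    (hfin : (irreducibleComponents (Curv2.bc k X K)).Finite) :
    ∃ E : IntermediateField k K, FiniteDimensional k E ∧
      ∀ σ : K ≃ₐ[k] K, (∀ a : K, a ∈ E → σ a = a) →
        ∀ T' ∈ irreducibleComponents (Curv2.bc k X K), (Curv2.galAct k X K σ) '' T' = T' := by
  classical
  have hone : ∀ T' ∈ irreducibleComponents (Curv2.bc k X K),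
      ∃ E : IntermediateField k K, FiniteDimensional k E ∧
        ∀ σ : K ≃ₐ[k] K, (∀ a : K, a ∈ E → σ a = a) → (Curv2.galAct k X K σ) '' T' = T' := by
    intro T' hT'
    obtain ⟨ξ', hξ'⟩ := QuasiSober.sober hT'.1 (isClosed_of_mem_irreducibleComponents _ hT')
    let O : Set (Curv2.bc k X K) := (⋃₀ (irreducibleComponents (Curv2.bc k X K) \ {T'}))ᶜ
    have hO : IsOpen O := by
      rw [isOpen_compl_iff, Set.sUnion_eq_biUnion]
      exact (hfin.subset Set.diff_subset).isClosed_biUnion
        (fun T'' hT'' => isClosed_of_mem_irreducibleComponents _ hT''.1)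
    have hξO : ξ' ∈ O := by
      rintro ⟨T'', ⟨hT'', hne⟩, hξT''⟩
      apply hne
      have hle : T' ≤ T'' := by
        rw [← hξ'.def]
        exact closure_minimal (Set.singleton_subset_iff.mpr hξT'')
          (isClosed_of_mem_irreducibleComponents _ hT'')
      exact (le_antisymm (hT'.2 hT''.1 hle) hle)
    obtain ⟨E, hE, N, hN, hξN, hNO⟩ := exists_finite_level_nhds k X K ξ' O hO hξO
    refine ⟨E, hE, fun σ hσ => ?_⟩
    have hcomp := galAct_image_mem_irreducibleComponents k X K σ T' hT'
    by_contra hne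
    have hmem : Curv2.galAct k X K σ ξ' ∈ O := by
      apply hNO
      change bcTower k X E K (Curv2.galAct k X K σ ξ') ∈ N
      rw [galAct_bcTower_apply k X K E σ (fun a => hσ _ a.2)]
      exact hξN
    exact hmem ⟨_, ⟨hcomp, hne⟩, ξ', hξ'.mem, rfl⟩
  choose! E hE hEσ using hone
  let F : IntermediateField k K := ⨆ T' ∈ hfin.toFinset, E T'
  have hF : FiniteDimensional k F :=
    IntermediateField.finiteDimensional_iSup_of_finset' fun T' hT' =>
      hE T' (hfin.mem_toFinset.mp hT')
  refine ⟨F, hF, fun σ hσ T' hT' => hEσ T' hT' σ (fun a ha => hσ a ?_)⟩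
  exact (le_iSup₂_of_le T' (hfin.mem_toFinset.mpr hT') le_rfl : E T' ≤ F) ha

end Stab

section Emb

theorem irreducibleSpace_of_isInducing {A B : Type*} [TopologicalSpace A] [TopologicalSpace B]
    (e : A → B) (he : Topology.IsInducing e) (h : IsIrreducible (Set.range e)) :
    IrreducibleSpace A := by
  obtain ⟨_, a, rfl⟩ := h.1
  haveI : Nonempty A := ⟨a⟩
  haveI : PreirreducibleSpace A := by
    refine ⟨?_⟩
    rintro u v hu hv ⟨x, -, hx⟩ ⟨y, -, hy⟩
    obtain ⟨u', hu', rfl⟩ := he.isOpen_iff.mp hu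
    obtain ⟨v', hv', rfl⟩ := he.isOpen_iff.mp hv
    obtain ⟨_, ⟨z, rfl⟩, hzu, hzv⟩ := h.2 u' v' hu' hv' ⟨e x, ⟨x, rfl⟩, hx⟩ ⟨e y, ⟨y, rfl⟩, hy⟩
    exact ⟨z, Set.mem_univ _, hzu, hzv⟩
  exact ⟨inferInstance⟩

end Emb

section Main

variable (k : Type u) [Field k] (X : Scheme.{u}) [X.Over (Spec (CommRingCat.of k))]

/-- a closed subscheme `Z` of the `E`-scheme `Y` whose preimage in `Y_F` (`F` separably closed) is
irreducible is geometrically irreducible over `E` -/
theorem geometricallyIrreducible_of_preimage (E : Type u) [Field E] (Y : Scheme.{u})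
    [Y.Over (Spec (CommRingCat.of E))] (Z : Scheme.{u}) (ι : Z ⟶ Y) [IsClosedImmersion ι]
    (F : Type u) [Field F] [Algebra E F] [IsSepClosed F]
    (h : IsIrreducible ((Curv2.bcFst E Y F) ⁻¹' Set.range ι)) :
    GeometricallyIrreducible (ι ≫ (Y ↘ Spec (CommRingCat.of E))) := by
  letI : Z.Over (Spec (CommRingCat.of E)) := ⟨ι ≫ (Y ↘ Spec (CommRingCat.of E))⟩
  haveI : ι.IsOver (Spec (CommRingCat.of E)) := ⟨rfl⟩
  haveI : IsClosedImmersion (bcMap E Z Y ι F) :=
    MorphismProperty.of_isPullback (P := @IsClosedImmersion) (isPullback_bcMap E Z Y ι F).flip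
      inferInstance
  have hrange : Set.range (bcMap E Z Y ι F) = (Curv2.bcFst E Y F) ⁻¹' Set.range ι := by
    ext w
    constructor
    · rintro ⟨t', rfl⟩
      refine ⟨Curv2.bcFst E Z F t', ?_⟩
      rw [← Scheme.Hom.comp_apply, ← Scheme.Hom.comp_apply, bcMap_fst]
    · rintro ⟨t, ht⟩
      obtain ⟨t', ht'⟩ := exists_bcMap_eq E Z Y ι F t w ht.symm
      exact ⟨t', ht'⟩
  haveI : IrreducibleSpace (Curv2.bc E Z F) :=
    irreducibleSpace_of_isInducing (bcMap E Z Y ι F) (bcMap E Z Y ι F).isEmbedding.isInducing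
      (hrange ▸ h)
  change GeometricallyIrreducible (Z ↘ Spec (CommRingCat.of E))
  rw [geometricallyIrreducible_iff, geometrically_iff_of_commRing_of_isClosedUnderIsomorphisms]
  intro K _ _
  obtain ⟨Ω, _, _, _, _, _, _⟩ := exists_common_ext E F K
  exact irreducibleSpace_bc_of_common E Z F K Ω

theorem finite_irreducibleComponents_bc [LocallyOfFiniteType (X ↘ Spec (CommRingCat.of k))]
    (hirr : (irreducibleComponents X).Finite) (K : Type u) [Field K] [Algebra k K]
    [Algebra.IsAlgebraic k K] : (irreducibleComponents (Curv2.bc k X K)).Finite := by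
  have h1 : (⋃ T ∈ irreducibleComponents X, {T' : Set (Curv2.bc k X K) |
      T' ∈ irreducibleComponents (Curv2.bc k X K) ∧ (Curv2.bcFst k X K) '' T' ⊆ T}).Finite :=
    hirr.biUnion fun T hT => finite_components_over k X K T hT
  refine h1.subset fun T' hT' => ?_
  exact Set.mem_iUnion₂.mpr ⟨_, image_mem_irreducibleComponents k X K T' hT', hT', le_rfl⟩

theorem exists_finite_separable_geomIrr [LocallyOfFiniteType (X ↘ Spec (CommRingCat.of k))]
    (hirr : (irreducibleComponents X).Finite) :
    ∃ (k' : Type u) (_ : Field k') (_ : Algebra k k'), FiniteDimensional k k' ∧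
      Algebra.IsSeparable k k' ∧
      ∀ (T : Set (Curv2.bc k X k')) (hT : T ∈ irreducibleComponents (Curv2.bc k X k')),
        GeometricallyIrreducible
          ((Scheme.IdealSheafData.vanishingIdeal
            ⟨T, isClosed_of_mem_irreducibleComponents T hT⟩).subschemeι ≫
            Curv2.bcSnd k X k') := by
  have hfinF := finite_irreducibleComponents_bc k X hirr (SeparableClosure k)
  obtain ⟨E, hE, hstab⟩ := exists_finite_level_stabilizer k X (SeparableClosure k) hfinF
  haveI : Algebra.IsSeparable k E :=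
    Algebra.isSeparable_tower_bot_of_isSeparable k E (SeparableClosure k)
  refine ⟨E, inferInstance, inferInstance, hE, inferInstance, fun T hT => ?_⟩
  letI : (Curv2.bc k X E).Over (Spec (CommRingCat.of E)) := ⟨Curv2.bcSnd k X E⟩
  haveI : Algebra.IsAlgebraic E (SeparableClosure k) :=
    Algebra.IsAlgebraic.tower_top (K := k) E
  haveI : Normal E (SeparableClosure k) := Normal.tower_top_of_normal k E (SeparableClosure k)
  obtain ⟨T', hT', hTT'⟩ := exists_image_eq_of_flat (bcTower k X E (SeparableClosure k))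
    (isClosedMap_bcTower k X E (SeparableClosure k))
    (bcTower_surjective k X E (SeparableClosure k)) T hT
  have hpre : (bcTower k X E (SeparableClosure k)) ⁻¹' T = T' := by
    apply Set.Subset.antisymm
    · intro w hw
      have hw' : bcTower k X E (SeparableClosure k) w ∈
          (bcTower k X E (SeparableClosure k)) '' T' := hTT' ▸ hw
      obtain ⟨t', ht', htw⟩ := hw'
      obtain ⟨σ, hσE, hσ⟩ := exists_galAct_eq_of_bcTower k X E (SeparableClosure k) t' w htw
      rw [← hstab σ (fun a ha => hσE ⟨a, ha⟩) T' hT']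
      exact ⟨t', ht', hσ⟩
    · rw [← hTT']
      exact Set.subset_preimage_image _ _
  apply geometricallyIrreducible_of_preimage E (Curv2.bc k X E) _ _ (SeparableClosure k)
  rw [Scheme.IdealSheafData.range_subschemeι, Scheme.IdealSheafData.coe_support_vanishingIdeal]
  change IsIrreducible ((Curv2.bcFst E (Curv2.bc k X E) (SeparableClosure k)) ⁻¹' T)
  have heq : (bcBcIso k X E (SeparableClosure k)).inv ''
      ((bcTower k X E (SeparableClosure k)) ⁻¹' T) =
      (Curv2.bcFst E (Curv2.bc k X E) (SeparableClosure k)) ⁻¹' T := by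
    have hpre' : (bcTower k X E (SeparableClosure k)) ⁻¹' T =
        (bcBcIso k X E (SeparableClosure k)).inv ⁻¹'
          ((Curv2.bcFst E (Curv2.bc k X E) (SeparableClosure k)) ⁻¹' T) := by
      ext w
      simp only [Set.mem_preimage]
      rw [← Scheme.Hom.comp_apply]
      rfl
    rw [hpre', Set.image_preimage_eq _ (bcBcIso k X E (SeparableClosure k)).inv.surjective]
  rw [← heq, hpre]
  exact hT'.1.image _ (bcBcIso k X E (SeparableClosure k)).inv.continuous.continuousOn

end Main

end Groth.Agent.Lib.Helper6.RelGal
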