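import Mathlib
import Groth.Prelude.Def_Curv2
import Groth.Agent.Lib.Helper6RelGal
import Groth.Agent.Lib.Helper6FibCount

set_option autoImplicit false
universe u
open CategoryTheory CategoryTheory.Limits AlgebraicGeometry TensorProduct

namespace Groth.Agent.Lib.Helper6.FibCount

open Groth.Agent.Lib.Helper6.BcBridge Groth.Agent.Lib.Helper6.SepCl
  Groth.Agent.Lib.Helper6.FinLevel Groth.Agent.Lib.Helper6.GalAct

section Scheme

variable (k : Type u) [Field k] (X : Scheme.{u}) [X.Over (Spec (CommRingCat.of k))]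
  (F : Type u) [Field F] [Algebra k F]

/-- the fibre of `X_F → X` over `x` is covered by `Spec (κ(x) ⊗ F)` -/
theorem exists_map_fibre (x : X) (φ : k →+* X.residueField x)
    (hφ : Spec.map (CommRingCat.ofHom φ) =
      X.fromSpecResidueField x ≫ (X ↘ Spec (CommRingCat.of k))) :
    letI := φ.toAlgebra
    ∃ Ψ : PrimeSpectrum ((X.residueField x) ⊗[k] F) → Curv2.bc k X F,
      (Curv2.bcFst k X F) ⁻¹' {x} ⊆ Set.range Ψ := by
  letI := φ.toAlgebra
  let g := Spec.map (CommRingCat.ofHom (algebraMap k F))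
  let ι := X.fromSpecResidueField x
  let e1 := pullbackRightPullbackFstIso (X ↘ Spec (CommRingCat.of k)) g ι
  have hφ' : Spec.map (CommRingCat.ofHom (algebraMap k (X.residueField x))) =
      ι ≫ (X ↘ Spec (CommRingCat.of k)) := hφ
  let e2 : pullback (ι ≫ (X ↘ Spec (CommRingCat.of k))) g ≅
      pullback (Spec.map (CommRingCat.ofHom (algebraMap k (X.residueField x)))) g :=
    pullback.congrHom hφ'.symm rfl
  let e3 := pullbackSpecIso k (X.residueField x) F
  let a : Spec (X.residueField x) := IsLocalRing.closedPoint (X.residueField x)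
  have ha : ι a = x := X.fromSpecResidueField_apply x a
  refine ⟨fun P => pullback.snd ι (Curv2.bcFst k X F) (e1.inv (e2.inv (e3.inv P))), ?_⟩
  intro w hw
  obtain ⟨z, -, hz⟩ := Scheme.Pullback.exists_preimage_pullback (f := ι)
    (g := Curv2.bcFst k X F) a w (ha.trans hw.symm)
  refine ⟨e3.hom (e2.hom (e1.hom z)), ?_⟩
  change pullback.snd ι (Curv2.bcFst k X F) (e1.inv (e2.inv (e3.inv (e3.hom (e2.hom (e1.hom z)))))) = w
  have hid : ∀ {A B : Scheme.{u}} (e : A ≅ B) (z : A), e.inv (e.hom z) = z := fun e z => by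
    rw [← Scheme.Hom.comp_apply, e.hom_inv_id]
    rfl
  rw [hid e3, hid e2, hid e1]
  exact hz

/-- the number of points of `X_F` over `x` is at most `[k' : k]`, `k'` the separable closure of
`k` in `κ(x)`, for `F/k` algebraic -/
theorem fibre_card_le [Algebra.IsAlgebraic k F] (x : X) (φ : k →+* X.residueField x)
    (hφ : Spec.map (CommRingCat.ofHom φ) =
      X.fromSpecResidueField x ≫ (X ↘ Spec (CommRingCat.of k)))
    (hfd : letI := φ.toAlgebra; FiniteDimensional k (separableClosure k (X.residueField x))) :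
    ((Curv2.bcFst k X F) ⁻¹' {x}).Finite ∧
      ((Curv2.bcFst k X F) ⁻¹' {x}).ncard ≤
        (letI := φ.toAlgebra; Module.finrank k (separableClosure k (X.residueField x))) := by
  letI := φ.toAlgebra
  haveI := hfd
  obtain ⟨Ψ, hΨ⟩ := exists_map_fibre k X F x φ hφ
  obtain ⟨hfin, hcard⟩ := card_primeSpectrum_tensor_le k (separableClosure k (X.residueField x))
    (X.residueField x) F (fun α hα => by
      have h1 : IsSeparable k α := IsSeparable.of_algebra_isSeparable_of_isSeparable k hα
      exact ⟨⟨α, mem_separableClosure_iff.mpr h1⟩, rfl⟩)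
  haveI := hfin
  refine ⟨(Set.finite_range Ψ).subset hΨ, ?_⟩
  calc ((Curv2.bcFst k X F) ⁻¹' {x}).ncard ≤ (Set.range Ψ).ncard :=
        Set.ncard_le_ncard hΨ (Set.finite_range Ψ)
    _ ≤ Nat.card (PrimeSpectrum ((X.residueField x) ⊗[k] F)) := by
        rw [← Set.image_univ, ← Set.ncard_univ]
        exact Set.ncard_image_le Set.finite_univ
    _ ≤ _ := hcard

end Scheme

end Groth.Agent.Lib.Helper6.FibCount
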