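import Mathlib
import Groth.Prelude.Def_Curv2
import Groth.Prelude.Def_FDesc
import Groth.Agent.Lib.Helper6FibCount2

set_option autoImplicit false
universe u
open CategoryTheory CategoryTheory.Limits AlgebraicGeometry TensorProduct

namespace Groth.Agent.Lib.Helper6.GeomComp

open Groth.Agent.Lib.Helper6.BcBridge Groth.Agent.Lib.Helper6.SepCl
  Groth.Agent.Lib.Helper6.FinLevel Groth.Agent.Lib.Helper6.GalAct
  Groth.Agent.Lib.Helper6.IrrComp Groth.Agent.Lib.Helper6.ConnComp
  Groth.Agent.Lib.Helper6.SepComp Groth.Agent.Lib.Helper6.RelGal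
  Groth.Agent.Lib.Helper6.FibCount

section ResProp

variable (k : Type u) [Field k] (X : Scheme.{u}) [X.Over (Spec (CommRingCat.of k))]

/-- the canonical map `k → κ(x)` in the form used by `FBase.ResidueFieldProp` -/
theorem exists_resHom (x : X) : ∃ φ : k →+* X.residueField x,
    Spec.map (CommRingCat.ofHom φ) =
      X.fromSpecResidueField x ≫ (X ↘ Spec (CommRingCat.of k)) := by
  refine ⟨(Spec.preimage (X.fromSpecResidueField x ≫ (X ↘ Spec (CommRingCat.of k)))).hom, ?_⟩
  rw [CommRingCat.ofHom_hom, Spec.map_preimage]

/-- two such maps agree -/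
theorem resHom_unique (x : X) (φ φ' : k →+* X.residueField x)
    (hφ : Spec.map (CommRingCat.ofHom φ) =
      X.fromSpecResidueField x ≫ (X ↘ Spec (CommRingCat.of k)))
    (hφ' : Spec.map (CommRingCat.ofHom φ') =
      X.fromSpecResidueField x ≫ (X ↘ Spec (CommRingCat.of k))) : φ = φ' := by
  have := Spec.map_injective (hφ.trans hφ'.symm)
  exact congrArg CommRingCat.Hom.hom this

end ResProp

section Conn

variable (k : Type u) [Field k] (X : Scheme.{u}) [X.Over (Spec (CommRingCat.of k))]

/-- `X` connected with a point `x` whose residue field has finite separable closure `k'` of `k`: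
`X_Ω` has at most `[k' : k]` connected components -/
theorem card_connectedComponents_le_finrank [ConnectedSpace X] (Ω : Type u) [Field Ω] [Algebra k Ω]
    (x : X) (φ : k →+* X.residueField x)
    (hφ : Spec.map (CommRingCat.ofHom φ) =
      X.fromSpecResidueField x ≫ (X ↘ Spec (CommRingCat.of k)))
    (hfd : letI := φ.toAlgebra; FiniteDimensional k (separableClosure k (X.residueField x))) :
    Finite (_root_.ConnectedComponents (Curv2.bc k X Ω)) ∧
      Nat.card (_root_.ConnectedComponents (Curv2.bc k X Ω)) ≤
        (letI := φ.toAlgebra; Module.finrank k (separableClosure k (X.residueField x))) := by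
  obtain ⟨hfin, hcard⟩ := fibre_card_le k X (SeparableClosure k) x φ hφ hfd
  let S := (Curv2.bcFst k X (SeparableClosure k)) ⁻¹' {x}
  let m : S → _root_.ConnectedComponents (Curv2.bc k X (SeparableClosure k)) :=
    fun w => ConnectedComponents.mk w.1
  have hm : Function.Surjective m := by
    intro c
    obtain ⟨w, rfl⟩ := ConnectedComponents.surjective_coe c
    have himg := image_connectedComponent k X (SeparableClosure k) w
    have hx : x ∈ (Curv2.bcFst k X (SeparableClosure k)) '' connectedComponent w := by
      rw [himg, PreconnectedSpace.connectedComponent_eq_univ]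
      exact Set.mem_univ x
    obtain ⟨w', hw', hw'x⟩ := hx
    exact ⟨⟨w', hw'x⟩, ConnectedComponents.coe_eq_coe'.mpr hw'⟩
  haveI : Finite S := hfin.to_subtype
  haveI hfinF : Finite (_root_.ConnectedComponents (Curv2.bc k X (SeparableClosure k))) :=
    Finite.of_surjective m hm
  have hcardF : Nat.card (_root_.ConnectedComponents (Curv2.bc k X (SeparableClosure k))) ≤
      (Curv2.bcFst k X (SeparableClosure k) ⁻¹' {x}).ncard := by
    rw [← Nat.card_coe_set_eq]
    exact Nat.card_le_card_of_surjective m hm
  have hle := card_connectedComponents_le k X Ω (SeparableClosure k)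
  have hlt : Cardinal.mk (_root_.ConnectedComponents (Curv2.bc k X (SeparableClosure k))) <
      Cardinal.aleph0 := Cardinal.lt_aleph0_iff_finite.mpr hfinF
  refine ⟨Cardinal.lt_aleph0_iff_finite.mp (hle.trans_lt hlt), ?_⟩
  exact (Cardinal.toNat_le_toNat hle hlt).trans (hcardF.trans hcard)

end Conn

end Groth.Agent.Lib.Helper6.GeomComp
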