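import Mathlib
import Groth.Prelude.Def_Curv2
import Groth.Prelude.Def_FDesc
import Groth.Agent.Lib.Helper6GeomComp

set_option autoImplicit false
universe u
open CategoryTheory CategoryTheory.Limits AlgebraicGeometry TensorProduct

namespace Groth.Agent.Lib.Helper6.GeomComp

open Groth.Agent.Lib.Helper6.BcBridge Groth.Agent.Lib.Helper6.SepCl
  Groth.Agent.Lib.Helper6.FinLevel Groth.Agent.Lib.Helper6.GalAct
  Groth.Agent.Lib.Helper6.IrrComp Groth.Agent.Lib.Helper6.ConnComp
  Groth.Agent.Lib.Helper6.SepComp Groth.Agent.Lib.Helper6.RelGal
  Groth.Agent.Lib.Helper6.FibCount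

section Irr

variable (k : Type u) [Field k] (X : Scheme.{u}) [X.Over (Spec (CommRingCat.of k))]

/-- finitely many components of `X_{k^s}`: a finite separable level `E` at which the preimage in
`(X_E)_{k^s}` of every component of `X_E` is irreducible -/
theorem exists_finite_level_preimage_irreducible
    (hfinF : (irreducibleComponents (Curv2.bc k X (SeparableClosure k))).Finite) :
    ∃ E : IntermediateField k (SeparableClosure k), FiniteDimensional k E ∧
      letI : (Curv2.bc k X E).Over (Spec (CommRingCat.of E)) := ⟨Curv2.bcSnd k X E⟩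
      ∀ T ∈ irreducibleComponents (Curv2.bc k X E),
        IsIrreducible ((Curv2.bcFst E (Curv2.bc k X E) (SeparableClosure k)) ⁻¹' T) := by
  obtain ⟨E, hE, hstab⟩ := exists_finite_level_stabilizer k X (SeparableClosure k) hfinF
  refine ⟨E, hE, ?_⟩
  letI : (Curv2.bc k X E).Over (Spec (CommRingCat.of E)) := ⟨Curv2.bcSnd k X E⟩
  intro T hT
  haveI : Algebra.IsAlgebraic E (SeparableClosure k) :=
    Algebra.IsAlgebraic.tower_top (K := k) E
  haveI : Normal E (SeparableClosure k) := Normal.tower_top_of_normal k E (SeparableClosure k)
  obtain ⟨T', hT', hTT'⟩ := exists_image_eq_of_flat (bcTower k X E (SeparableClosure k))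
    (isClosedMap_bcTower k X E (SeparableClosure k))
    (bcTower_surjective k X E (SeparableClosure k)) T hT
  have hpre : (bcTower k X E (SeparableClosure k)) ⁻¹' T = T' := by
    apply Set.Subset.antisymm
    · intro w hw
      have hw' : bcTower k X E (SeparableClosure k) w ∈
          (bcTower k X E (SeparableClosure k)) '' T' := hTT' ▸ hw
      obtain ⟨t', ht', htw⟩ := hw'
      obtain ⟨σ, hσE, hσ⟩ := exists_galAct_eq_of_bcTower k X E (SeparableClosure k) t' w htw
      rw [← hstab σ (fun a ha => hσE ⟨a, ha⟩) T' hT']
      exact ⟨t', ht', hσ⟩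
    · rw [← hTT']
      exact Set.subset_preimage_image _ _
  have heq : (bcBcIso k X E (SeparableClosure k)).inv ''
      ((bcTower k X E (SeparableClosure k)) ⁻¹' T) =
      (Curv2.bcFst E (Curv2.bc k X E) (SeparableClosure k)) ⁻¹' T := by
    have hpre' : (bcTower k X E (SeparableClosure k)) ⁻¹' T =
        (bcBcIso k X E (SeparableClosure k)).inv ⁻¹'
          ((Curv2.bcFst E (Curv2.bc k X E) (SeparableClosure k)) ⁻¹' T) := by
      ext w
      simp only [Set.mem_preimage]
      rw [← Scheme.Hom.comp_apply]
      rfl
    rw [hpre', Set.image_preimage_eq _ (bcBcIso k X E (SeparableClosure k)).inv.surjective]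
  rw [← heq, hpre]
  exact hT'.1.image _ (bcBcIso k X E (SeparableClosure k)).inv.continuous.continuousOn

/-- finiteness of the set of components of `X_{k^s}` from the generic points -/
theorem finite_irreducibleComponents_of_fibres (hfin : (irreducibleComponents X).Finite)
    (hx : ∀ (Z : Set X) (hZ : Z ∈ irreducibleComponents X),
      ((Curv2.bcFst k X (SeparableClosure k)) ⁻¹' {hZ.1.genericPoint}).Finite) :
    (irreducibleComponents (Curv2.bc k X (SeparableClosure k))).Finite := by
  classical
  let S : Set (Curv2.bc k X (SeparableClosure k)) :=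
    ⋃ Z ∈ irreducibleComponents X, {w | ∃ hZ : Z ∈ irreducibleComponents X,
      Curv2.bcFst k X (SeparableClosure k) w = hZ.1.genericPoint}
  have hS : S.Finite := by
    refine hfin.biUnion fun Z hZ => ?_
    refine (hx Z hZ).subset ?_
    rintro w ⟨_, hw⟩
    exact hw
  refine (hS.image (fun w => closure {w})).subset ?_
  intro T' hT'
  obtain ⟨ξ', hξ'⟩ := QuasiSober.sober hT'.1 (isClosed_of_mem_irreducibleComponents _ hT')
  refine ⟨ξ', ?_, hξ'.def⟩
  have hT := image_mem_irreducibleComponents k X (SeparableClosure k) T' hT'
  refine Set.mem_iUnion₂.mpr ⟨_, hT, hT, ?_⟩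
  have h1 : IsGenericPoint (Curv2.bcFst k X (SeparableClosure k) ξ')
      ((Curv2.bcFst k X (SeparableClosure k)) '' T') := by
    rw [isGenericPoint_def, ← hξ'.def, image_closure_singleton]
  have h2 : IsGenericPoint hT.1.genericPoint ((Curv2.bcFst k X (SeparableClosure k)) '' T') := by
    have := hT.1.isGenericPoint_genericPoint_closure
    rwa [(isClosed_of_mem_irreducibleComponents _ hT).closure_eq] at this
  exact h1.eq h2

/-- finitely many components whose generic points have finite separable closure of `k` in
their residue fields: after a finite separable extension all components are geometrically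
irreducible -/
theorem exists_finite_separable_components_geomIrr (hfin : (irreducibleComponents X).Finite)
    (hx : ∀ (Z : Set X) (hZ : Z ∈ irreducibleComponents X),
      ∃ φ : k →+* X.residueField hZ.1.genericPoint,
        Spec.map (CommRingCat.ofHom φ) =
          X.fromSpecResidueField hZ.1.genericPoint ≫ (X ↘ Spec (CommRingCat.of k)) ∧
        (letI := φ.toAlgebra
         FiniteDimensional k (separableClosure k (X.residueField hZ.1.genericPoint)))) :
    ∃ (L : Type u) (_ : Field L) (_ : Algebra k L), FiniteDimensional k L ∧
      Algebra.IsSeparable k L ∧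
      letI : (Curv2.bc k X L).Over (Spec (CommRingCat.of L)) := ⟨Curv2.bcSnd k X L⟩
      ∀ (K : Type u) [Field K] [Algebra L K] (Z' : Set (Curv2.bc k X L)),
        Z' ∈ irreducibleComponents (Curv2.bc k X L) →
        IsIrreducible ((Curv2.bcFst L (Curv2.bc k X L) K) ⁻¹' Z') := by
  have hfinF := finite_irreducibleComponents_of_fibres k X hfin (fun Z hZ => by
    obtain ⟨φ, hφ, hfd⟩ := hx Z hZ
    exact (fibre_card_le k X (SeparableClosure k) _ φ hφ hfd).1)
  obtain ⟨E, hE, hirr⟩ := exists_finite_level_preimage_irreducible k X hfinF
  haveI : Algebra.IsSeparable k E :=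
    Algebra.isSeparable_tower_bot_of_isSeparable k E (SeparableClosure k)
  refine ⟨E, inferInstance, inferInstance, hE, inferInstance, ?_⟩
  intro K _ _ Z' hZ'
  letI : (Curv2.bc k X E).Over (Spec (CommRingCat.of E)) := ⟨Curv2.bcSnd k X E⟩
  obtain ⟨Ω, _, _, _, _, _, _⟩ := exists_common_ext E (SeparableClosure k) K
  exact isIrreducible_preimage_of_common E (Curv2.bc k X E) (SeparableClosure k) Z'
    (hirr Z' hZ') K Ω

end Irr

section Conn

theorem iso_image_connectedComponent {A B : Scheme.{u}} (e : A ≅ B) (a : A) :
    e.hom '' connectedComponent a = connectedComponent (e.hom a) := by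
  apply le_antisymm
  · exact e.hom.continuous.image_connectedComponent_subset a
  · intro b hb
    have h1 := e.inv.continuous.image_connectedComponent_subset (e.hom a) ⟨b, hb, rfl⟩
    have h2 : e.inv (e.hom a) = a := by
      rw [← Scheme.Hom.comp_apply, e.hom_inv_id]
      rfl
    rw [h2] at h1
    refine ⟨e.inv b, h1, ?_⟩
    rw [← Scheme.Hom.comp_apply, e.inv_hom_id]
    rfl

variable (k : Type u) [Field k] (X : Scheme.{u}) [X.Over (Spec (CommRingCat.of k))]

/-- relative version of the image of a connected component -/
theorem bcTower_image_connectedComponent (E K : Type u) [Field E] [Algebra k E] [Field K]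
    [Algebra k K] [Algebra E K] [IsScalarTower k E K] (w : Curv2.bc k X K) :
    (bcTower k X E K) '' connectedComponent w = connectedComponent (bcTower k X E K w) := by
  letI : (Curv2.bc k X E).Over (Spec (CommRingCat.of E)) := ⟨Curv2.bcSnd k X E⟩
  have h1 := image_connectedComponent E (Curv2.bc k X E) K ((bcBcIso k X E K).inv w)
  have h2 := iso_image_connectedComponent (bcBcIso k X E K).symm w
  have h3 : ∀ v, Curv2.bcFst E (Curv2.bc k X E) K ((bcBcIso k X E K).inv v) =
      bcTower k X E K v := fun v => by
    rw [← Scheme.Hom.comp_apply]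
    rfl
  rw [← h3 w, ← h1]
  change _ = _ '' connectedComponent ((bcBcIso k X E K).symm.hom w)
  rw [← h2, ← Set.image_comp]
  apply Set.image_congr
  intro v _
  exact (h3 v).symm

/-- finitely many connected components of `X_K`, `K/k` algebraic: all are stable under the
automorphisms fixing a suitable finite level -/
theorem exists_finite_level_stabilizer_conn (K : Type u) [Field K] [Algebra k K]
    [Algebra.IsAlgebraic k K] [Finite (_root_.ConnectedComponents (Curv2.bc k X K))] :
    ∃ E : IntermediateField k K, FiniteDimensional k E ∧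
      ∀ σ : K ≃ₐ[k] K, (∀ a : K, a ∈ E → σ a = a) →
        ∀ w : Curv2.bc k X K, (Curv2.galAct k X K σ) '' connectedComponent w =
          connectedComponent w := by
  classical
  haveI : DiscreteTopology (_root_.ConnectedComponents (Curv2.bc k X K)) := inferInstance
  have hopen : ∀ w : Curv2.bc k X K, IsOpen (connectedComponent w) :=
    ConnectedComponents.discreteTopology_iff.mp inferInstance
  have hone : ∀ w : Curv2.bc k X K, ∃ E : IntermediateField k K, FiniteDimensional k E ∧
      ∀ σ : K ≃ₐ[k] K, (∀ a : K, a ∈ E → σ a = a) →
        (Curv2.galAct k X K σ) '' connectedComponent w ⊆ connectedComponent w := by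
    intro w
    obtain ⟨E, hE, N, hN, hwN, hNW⟩ := exists_finite_level_nhds k X K w _ (hopen w)
      mem_connectedComponent
    refine ⟨E, hE, fun σ hσ => ?_⟩
    have h1 : Curv2.galAct k X K σ w ∈ connectedComponent w := by
      apply hNW
      change bcTower k X E K (Curv2.galAct k X K σ w) ∈ N
      rw [galAct_bcTower_apply k X K E σ (fun a => hσ _ a.2)]
      exact hwN
    exact ((Curv2.galAct k X K σ).continuous.image_connectedComponent_subset w).trans
      (connectedComponent_eq h1).symm.le
  choose E hE hEσ using hone
  haveI := Fintype.ofFinite (_root_.ConnectedComponents (Curv2.bc k X K))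
  let r : _root_.ConnectedComponents (Curv2.bc k X K) → Curv2.bc k X K := fun c => c.out
  let F : IntermediateField k K := ⨆ c ∈ (Finset.univ : Finset
    (_root_.ConnectedComponents (Curv2.bc k X K))), E (r c)
  have hF : FiniteDimensional k F :=
    IntermediateField.finiteDimensional_iSup_of_finset' fun c _ => hE (r c)
  have hsub : ∀ σ : K ≃ₐ[k] K, (∀ a : K, a ∈ F → σ a = a) →
      ∀ w : Curv2.bc k X K, (Curv2.galAct k X K σ) '' connectedComponent w ⊆
        connectedComponent w := by
    intro σ hσ w
    have hw : connectedComponent w = connectedComponent (r (ConnectedComponents.mk w)) := by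
      have : ConnectedComponents.mk (r (ConnectedComponents.mk w)) = ConnectedComponents.mk w :=
        Quotient.out_eq _
      exact (ConnectedComponents.coe_eq_coe.mp this).symm
    rw [hw]
    refine hEσ _ σ (fun a ha => hσ a ?_)
    exact (le_iSup₂_of_le (ConnectedComponents.mk w) (Finset.mem_univ _) le_rfl :
      E (r (ConnectedComponents.mk w)) ≤ F) ha
  refine ⟨F, hF, fun σ hσ w => le_antisymm (hsub σ hσ w) ?_⟩
  intro v hv
  have hσ' : ∀ a : K, a ∈ F → σ.symm a = a := fun a ha => by
    rw [AlgEquiv.symm_apply_eq, hσ a ha]
  exact ⟨Curv2.galAct k X K σ.symm v, hsub σ.symm hσ' w ⟨v, hv, rfl⟩,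
    galAct_symm_apply k X K σ v⟩

/-- finitely many connected components, each with a point whose residue field has finite
separable closure of `k`: after a finite separable extension all connected components are
geometrically connected -/
theorem exists_finite_separable_components_geomConn [Finite (_root_.ConnectedComponents X)]
    (hx : ∀ c : _root_.ConnectedComponents X, ∃ x : X, ConnectedComponents.mk x = c ∧
      ∃ φ : k →+* X.residueField x,
        Spec.map (CommRingCat.ofHom φ) =
          X.fromSpecResidueField x ≫ (X ↘ Spec (CommRingCat.of k)) ∧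
        (letI := φ.toAlgebra
         FiniteDimensional k (separableClosure k (X.residueField x)))) :
    ∃ (L : Type u) (_ : Field L) (_ : Algebra k L), FiniteDimensional k L ∧
      Algebra.IsSeparable k L ∧
      letI : (Curv2.bc k X L).Over (Spec (CommRingCat.of L)) := ⟨Curv2.bcSnd k X L⟩
      ∀ (K : Type u) [Field K] [Algebra L K] (x' : Curv2.bc k X L),
        _root_.IsConnected ((Curv2.bcFst L (Curv2.bc k X L) K) ⁻¹' connectedComponent x') := by
  choose xc hxc φ hφ hfd using hx
  -- step 1
  let S : Set (Curv2.bc k X (SeparableClosure k)) :=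
    ⋃ c, (Curv2.bcFst k X (SeparableClosure k)) ⁻¹' {xc c}
  have hS : S.Finite := Set.finite_iUnion fun c =>
    (fibre_card_le k X (SeparableClosure k) (xc c) (φ c) (hφ c) (hfd c)).1
  let m : S → _root_.ConnectedComponents (Curv2.bc k X (SeparableClosure k)) :=
    fun w => ConnectedComponents.mk w.1
  have hm : Function.Surjective m := by
    intro c
    obtain ⟨w, rfl⟩ := ConnectedComponents.surjective_coe c
    have himg := image_connectedComponent k X (SeparableClosure k) w
    let c0 : _root_.ConnectedComponents X :=
      ConnectedComponents.mk (Curv2.bcFst k X (SeparableClosure k) w)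
    have hx0 : xc c0 ∈ connectedComponent (Curv2.bcFst k X (SeparableClosure k) w) :=
      ConnectedComponents.coe_eq_coe'.mp (hxc c0)
    rw [← himg] at hx0
    obtain ⟨w', hw', hw'x⟩ := hx0
    exact ⟨⟨w', Set.mem_iUnion.mpr ⟨c0, hw'x⟩⟩, ConnectedComponents.coe_eq_coe'.mpr hw'⟩
  haveI : Finite S := hS.to_subtype
  haveI hfinF : Finite (_root_.ConnectedComponents (Curv2.bc k X (SeparableClosure k))) :=
    Finite.of_surjective m hm
  -- step 2
  obtain ⟨E, hE, hstab⟩ := exists_finite_level_stabilizer_conn k X (SeparableClosure k)
  haveI : Algebra.IsSeparable k E :=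
    Algebra.isSeparable_tower_bot_of_isSeparable k E (SeparableClosure k)
  refine ⟨E, inferInstance, inferInstance, hE, inferInstance, ?_⟩
  intro K _ _ x'
  letI : (Curv2.bc k X E).Over (Spec (CommRingCat.of E)) := ⟨Curv2.bcSnd k X E⟩
  haveI : Algebra.IsAlgebraic E (SeparableClosure k) :=
    Algebra.IsAlgebraic.tower_top (K := k) E
  haveI : Normal E (SeparableClosure k) := Normal.tower_top_of_normal k E (SeparableClosure k)
  -- step 3
  obtain ⟨w, rfl⟩ := bcTower_surjective k X E (SeparableClosure k) x'
  have himg := bcTower_image_connectedComponent k X E (SeparableClosure k) w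
  have hpre : (bcTower k X E (SeparableClosure k)) ⁻¹'
      connectedComponent (bcTower k X E (SeparableClosure k) w) = connectedComponent w := by
    apply Set.Subset.antisymm
    · intro v hv
      have hv' : bcTower k X E (SeparableClosure k) v ∈
          (bcTower k X E (SeparableClosure k)) '' connectedComponent w := himg ▸ hv
      obtain ⟨w', hw', hw'v⟩ := hv'
      obtain ⟨σ, hσE, hσ⟩ := exists_galAct_eq_of_bcTower k X E (SeparableClosure k) w' v hw'v
      rw [← hstab σ (fun a ha => hσE ⟨a, ha⟩) w]
      exact ⟨w', hw', hσ⟩
    · rw [← himg]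
      exact Set.subset_preimage_image _ _
  have heq : (bcBcIso k X E (SeparableClosure k)).inv ''
      ((bcTower k X E (SeparableClosure k)) ⁻¹'
        connectedComponent (bcTower k X E (SeparableClosure k) w)) =
      (Curv2.bcFst E (Curv2.bc k X E) (SeparableClosure k)) ⁻¹'
        connectedComponent (bcTower k X E (SeparableClosure k) w) := by
    have hpre' : (bcTower k X E (SeparableClosure k)) ⁻¹'
        connectedComponent (bcTower k X E (SeparableClosure k) w) =
        (bcBcIso k X E (SeparableClosure k)).inv ⁻¹'
          ((Curv2.bcFst E (Curv2.bc k X E) (SeparableClosure k)) ⁻¹'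
            connectedComponent (bcTower k X E (SeparableClosure k) w)) := by
      ext v
      simp only [Set.mem_preimage]
      rw [← Scheme.Hom.comp_apply]
      rfl
    rw [hpre', Set.image_preimage_eq _ (bcBcIso k X E (SeparableClosure k)).inv.surjective]
  have hconn : _root_.IsConnected ((Curv2.bcFst E (Curv2.bc k X E) (SeparableClosure k)) ⁻¹'
      connectedComponent (bcTower k X E (SeparableClosure k) w)) := by
    rw [← heq, hpre]
    exact isConnected_connectedComponent.image _
      (bcBcIso k X E (SeparableClosure k)).inv.continuous.continuousOn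
  -- step 4
  obtain ⟨Ω, _, _, _, _, _, _⟩ := exists_common_ext E (SeparableClosure k) K
  exact isConnected_preimage_of_common E (Curv2.bc k X E) (SeparableClosure k) _ hconn K Ω

end Conn

end Groth.Agent.Lib.Helper6.GeomComp
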