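import Mathlib
import Groth.Prelude.Def_Curv2
import Groth.Agent.Lib.Helper6GeomComp2

set_option autoImplicit false
universe u
open CategoryTheory CategoryTheory.Limits AlgebraicGeometry TensorProduct

namespace Groth.Agent.Lib.Helper6.GeomComp

open Groth.Agent.Lib.Helper6.BcBridge Groth.Agent.Lib.Helper6.SepCl
  Groth.Agent.Lib.Helper6.FinLevel Groth.Agent.Lib.Helper6.GalAct
  Groth.Agent.Lib.Helper6.IrrComp Groth.Agent.Lib.Helper6.ConnComp
  Groth.Agent.Lib.Helper6.SepComp Groth.Agent.Lib.Helper6.RelGal
  Groth.Agent.Lib.Helper6.FibCount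

section ResMap

variable (k : Type u) [Field k] (X : Scheme.{u}) [X.Over (Spec (CommRingCat.of k))]

/-- `Curv2.resMap` is the canonical map `k → κ(x)` -/
theorem specMap_resMap (x : X) :
    Spec.map (CommRingCat.ofHom (Curv2.resMap k X x)) =
      X.fromSpecResidueField x ≫ (X ↘ Spec (CommRingCat.of k)) := by
  have hψ : CommRingCat.ofHom (Curv2.resMap k X x) =
      (Scheme.ΓSpecIso (CommRingCat.of k)).inv ≫ (X ↘ Spec (CommRingCat.of k)).appTop ≫
        X.presheaf.germ ⊤ x trivial ≫ X.residue x := rfl
  rw [hψ]
  apply ext_of_isAffine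
  rw [← cancel_mono (Scheme.ΓSpecIso (X.residueField x)).hom, Scheme.ΓSpecIso_naturality]
  unfold Scheme.fromSpecResidueField
  rw [Scheme.Hom.comp_appTop, Scheme.Hom.comp_appTop, Scheme.fromSpecStalk_appTop]
  simp only [Category.assoc]
  rw [Scheme.ΓSpecIso_naturality]
  simp

end ResMap

section GenFibre

variable (k : Type u) [Field k] (X : Scheme.{u}) [X.Over (Spec (CommRingCat.of k))]
  (K : Type u) [Field K] [Algebra k K]

/-- `X` and `X_K` irreducible: the generic fibre `Spec (κ(ξ) ⊗ K)` is irreducible -/
theorem isPrime_nilradical_generic [IrreducibleSpace X] [IrreducibleSpace (Curv2.bc k X K)]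
    (φ : k →+* X.residueField (genericPoint X))
    (hφ : Spec.map (CommRingCat.ofHom φ) =
      X.fromSpecResidueField (genericPoint X) ≫ (X ↘ Spec (CommRingCat.of k))) :
    letI := φ.toAlgebra
    (nilradical ((X.residueField (genericPoint X)) ⊗[k] K)).IsPrime := by
  letI := φ.toAlgebra
  let ξ := genericPoint X
  let g := Spec.map (CommRingCat.ofHom (algebraMap k K))
  let ι := X.fromSpecResidueField ξ
  -- the generic fibre is irreducible
  have hξ' : Curv2.bcFst k X K (genericPoint (Curv2.bc k X K)) = ξ := by
    have h1 : IsGenericPoint (Curv2.bcFst k X K (genericPoint (Curv2.bc k X K))) Set.univ := by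
      rw [isGenericPoint_def, Set.eq_univ_iff_forall]
      intro x
      obtain ⟨w, rfl⟩ := bcFst_surjective k X K x
      have hw : w ∈ closure {genericPoint (Curv2.bc k X K)} := by
        rw [(genericPoint_spec (Curv2.bc k X K)).def]
        exact Set.mem_univ w
      have := image_closure_subset_closure_image (Curv2.bcFst k X K).continuous ⟨w, hw, rfl⟩
      rwa [Set.image_singleton] at this
    exact h1.eq (genericPoint_spec X)
  have hirr : IsIrreducible ((Curv2.bcFst k X K) ⁻¹' {ξ}) := by
    refine ⟨⟨_, hξ'⟩, ?_⟩
    rintro U V hU hV ⟨u, -, hu⟩ ⟨v, -, hv⟩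
    refine ⟨genericPoint (Curv2.bc k X K), hξ', ?_, ?_⟩
    · rw [(genericPoint_spec (Curv2.bc k X K)).mem_open_set_iff hU]
      exact ⟨u, Set.mem_univ _, hu⟩
    · rw [(genericPoint_spec (Curv2.bc k X K)).mem_open_set_iff hV]
      exact ⟨v, Set.mem_univ _, hv⟩
  have hrange : Set.range (pullback.snd ι (Curv2.bcFst k X K)) =
      (Curv2.bcFst k X K) ⁻¹' {ξ} := by
    rw [Scheme.Pullback.range_snd, Scheme.range_fromSpecResidueField]
  haveI : IrreducibleSpace ↥(pullback ι (Curv2.bcFst k X K)) :=
    irreducibleSpace_of_isInducing (pullback.snd ι (Curv2.bcFst k X K))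
      (pullback.snd ι (Curv2.bcFst k X K)).isEmbedding.isInducing (hrange ▸ hirr)
  let e1 := pullbackRightPullbackFstIso (X ↘ Spec (CommRingCat.of k)) g ι
  have hφ' : Spec.map (CommRingCat.ofHom (algebraMap k (X.residueField ξ))) =
      ι ≫ (X ↘ Spec (CommRingCat.of k)) := hφ
  let e2 : pullback (ι ≫ (X ↘ Spec (CommRingCat.of k))) g ≅
      pullback (Spec.map (CommRingCat.ofHom (algebraMap k (X.residueField ξ)))) g :=
    pullback.congrHom hφ'.symm rfl
  let e3 := pullbackSpecIso k (X.residueField ξ) K
  let e := e1 ≪≫ e2 ≪≫ e3
  have h3 : IrreducibleSpace ↥(Spec (CommRingCat.of ((X.residueField ξ) ⊗[k] K))) :=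
    irreducibleSpace_of_surjective e.hom.continuous e.hom.surjective
  exact PrimeSpectrum.irreducibleSpace_iff_isPrime_nilradical.mp h3

end GenFibre

section S1540

attribute [local instance] Curv2.resAlgebra

variable (k : Type u) [Field k] (X : Scheme.{u}) [X.Over (Spec (CommRingCat.of k))]

theorem geometricallyIrreducible_iff_sepClosed_generic [IrreducibleSpace X] :
    GeometricallyIrreducible (X ↘ Spec (CommRingCat.of k)) ↔
      ∀ a : X.residueField (genericPoint X), IsSeparable k a →
        a ∈ Set.range (algebraMap k (X.residueField (genericPoint X))) := by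
  constructor
  · intro h a ha
    apply Groth.Agent.Lib.Helper14.GeomIrr.mem_range_of_isSeparable_of_geomIrr _ a ha
    intro k' _ _
    rw [geometricallyIrreducible_iff,
      geometrically_iff_of_commRing_of_isClosedUnderIsomorphisms] at h
    haveI : IrreducibleSpace (Curv2.bc k X k') := h k'
    have h1 := isPrime_nilradical_generic k X k' (Curv2.resMap k X (genericPoint X))
      (specMap_resMap k X (genericPoint X))
    exact Groth.Agent.Lib.Helper14.GeomIrr.isPrime_nilradical_of_ringEquiv
      (Algebra.TensorProduct.comm k k' (X.residueField (genericPoint X))).toRingEquiv h1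
  · intro h
    have hbot : separableClosure k (X.residueField (genericPoint X)) = ⊥ := by
      rw [eq_bot_iff]
      intro a ha
      rw [IntermediateField.mem_bot]
      exact h a (mem_separableClosure_iff.mp ha)
    have hfd : FiniteDimensional k (separableClosure k (X.residueField (genericPoint X))) := by
      rw [hbot]
      infer_instance
    obtain ⟨hfin, hcard⟩ := fibre_card_le k X (SeparableClosure k) (genericPoint X)
      (Curv2.resMap k X (genericPoint X)) (specMap_resMap k X (genericPoint X)) hfd
    have hone : ((Curv2.bcFst k X (SeparableClosure k)) ⁻¹' {genericPoint X}).ncard ≤ 1 := by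
      refine hcard.trans ?_
      change Module.finrank k (separableClosure k (X.residueField (genericPoint X))) ≤ 1
      rw [hbot, IntermediateField.finrank_bot]
    have hsub : ∀ w w' : Curv2.bc k X (SeparableClosure k),
        Curv2.bcFst k X (SeparableClosure k) w = genericPoint X →
        Curv2.bcFst k X (SeparableClosure k) w' = genericPoint X → w = w' := by
      intro w w' hw hw'
      exact (Set.ncard_le_one_iff hfin).mp hone hw hw'
    -- all components of `X_{k^s}` agree
    have huniv : (Set.univ : Set X) ∈ irreducibleComponents X := by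
      rw [irreducibleComponents_eq_singleton]
      rfl
    have hgen : ∀ T' ∈ irreducibleComponents (Curv2.bc k X (SeparableClosure k)),
        ∃ ξ', IsGenericPoint ξ' T' ∧
          Curv2.bcFst k X (SeparableClosure k) ξ' = genericPoint X := by
      intro T' hT'
      obtain ⟨ξ', hξ'⟩ := QuasiSober.sober hT'.1 (isClosed_of_mem_irreducibleComponents _ hT')
      refine ⟨ξ', hξ', ?_⟩
      have himg := image_eq_of_image_subset k X (SeparableClosure k) Set.univ huniv T' hT'
        (Set.subset_univ _)
      have h1 : IsGenericPoint (Curv2.bcFst k X (SeparableClosure k) ξ') Set.univ := by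
        rw [isGenericPoint_def, ← himg, ← hξ'.def, image_closure_singleton]
      exact h1.eq (genericPoint_spec X)
    obtain ⟨x0⟩ := (inferInstance : Nonempty X)
    obtain ⟨w0, -⟩ := bcFst_surjective k X (SeparableClosure k) x0
    have hT0 := irreducibleComponent_mem_irreducibleComponents w0
    have hall : ∀ T' ∈ irreducibleComponents (Curv2.bc k X (SeparableClosure k)),
        T' = irreducibleComponent w0 := by
      intro T' hT'
      obtain ⟨ξ', hξ', hpξ'⟩ := hgen T' hT'
      obtain ⟨ξ0, hξ0, hpξ0⟩ := hgen _ hT0
      rw [← hξ'.def, ← hξ0.def, hsub ξ' ξ0 hpξ' hpξ0]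
    have huniv' : (Set.univ : Set (Curv2.bc k X (SeparableClosure k))) =
        irreducibleComponent w0 := by
      rw [← sUnion_irreducibleComponents]
      apply Set.Subset.antisymm
      · rintro w ⟨T2, hT2, hw⟩
        exact hall T2 hT2 ▸ hw
      · exact fun w hw => ⟨_, hT0, hw⟩
    haveI : Nonempty (Curv2.bc k X (SeparableClosure k)) := ⟨w0⟩
    haveI : PreirreducibleSpace (Curv2.bc k X (SeparableClosure k)) :=
      ⟨by rw [huniv']; exact isIrreducible_irreducibleComponent.isPreirreducible⟩
    haveI : IrreducibleSpace (Curv2.bc k X (SeparableClosure k)) := ⟨inferInstance⟩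
    exact geometricallyIrreducible_of_sepClosure k X

theorem geometricallyConnected_of_point [ConnectedSpace X] (x : X)
    (hx : ∀ a : X.residueField x, (Curv2.resMap k X x).IsIntegralElem a →
      a ∈ (Curv2.resMap k X x).range) :
    GeometricallyConnected (X ↘ Spec (CommRingCat.of k)) := by
  have hbot : separableClosure k (X.residueField x) = ⊥ := by
    rw [eq_bot_iff]
    intro a ha
    rw [IntermediateField.mem_bot]
    have hsep : IsSeparable k a := mem_separableClosure_iff.mp ha
    have hint : IsIntegral k a := hsep.isIntegral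
    obtain ⟨c, hc⟩ := hx a hint
    exact ⟨c, hc⟩
  have hfd : FiniteDimensional k (separableClosure k (X.residueField x)) := by
    rw [hbot]
    infer_instance
  obtain ⟨hfin, hcard⟩ := card_connectedComponents_le_finrank k X (SeparableClosure k) x
    (Curv2.resMap k X x) (specMap_resMap k X x) hfd
  have hone : Nat.card (_root_.ConnectedComponents (Curv2.bc k X (SeparableClosure k))) ≤ 1 := by
    refine hcard.trans ?_
    change Module.finrank k (separableClosure k (X.residueField x)) ≤ 1
    rw [hbot, IntermediateField.finrank_bot]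
  haveI := hfin
  haveI : Subsingleton (_root_.ConnectedComponents (Curv2.bc k X (SeparableClosure k))) :=
    Finite.card_le_one_iff_subsingleton.mp hone
  obtain ⟨x0⟩ := (inferInstance : Nonempty X)
  obtain ⟨w0, -⟩ := bcFst_surjective k X (SeparableClosure k) x0
  haveI : Nonempty (Curv2.bc k X (SeparableClosure k)) := ⟨w0⟩
  haveI : PreconnectedSpace (Curv2.bc k X (SeparableClosure k)) := by
    refine ⟨?_⟩
    have huniv : (Set.univ : Set (Curv2.bc k X (SeparableClosure k))) = connectedComponent w0 := by
      apply Set.Subset.antisymm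
      · intro w _
        exact ConnectedComponents.coe_eq_coe'.mp (Subsingleton.elim _ _)
      · exact Set.subset_univ _
    rw [huniv]
    exact isPreconnected_connectedComponent
  haveI : ConnectedSpace (Curv2.bc k X (SeparableClosure k)) := ConnectedSpace.mk inferInstance
  exact geometricallyConnected_of_sepClosure k X

end S1540

end Groth.Agent.Lib.Helper6.GeomComp
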