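import Mathlib
import Groth.Prelude.Def_Curv2
import Groth.Prelude.Def_Pi1
import Groth.Agent.Lib.Helper6GeomComp3
import Groth.Agent.Lib.Helper4EtNormalSch

set_option autoImplicit false
universe u
open CategoryTheory CategoryTheory.Limits AlgebraicGeometry TensorProduct

namespace Groth.Agent.Lib.Helper6.Var1

open Groth.Agent.Lib.Helper6.BcBridge Groth.Agent.Lib.Helper6.SepCl
  Groth.Agent.Lib.Helper6.FinLevel Groth.Agent.Lib.Helper6.GalAct
  Groth.Agent.Lib.Helper6.IrrComp Groth.Agent.Lib.Helper6.ConnComp
  Groth.Agent.Lib.Helper6.SepComp Groth.Agent.Lib.Helper6.RelGal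
  Groth.Agent.Lib.Helper6.FibCount Groth.Agent.Lib.Helper6.GeomComp

section S7595

variable (k : Type u) [Field k] (X : Scheme.{u}) [X.Over (Spec (CommRingCat.of k))]
  (K : Type u) [Field K] [Algebra k K]

instance flat_bcFst : Flat (Curv2.bcFst k X K) := by
  unfold Curv2.bcFst
  infer_instance

/-- the preimage of a component of `X` in `X_K` is the union of the components of `X_K`
contained in it (arbitrary `K/k`) -/
theorem preimage_eq_sUnion_subset (T : Set X) (hT : T ∈ irreducibleComponents X) :
    (Curv2.bcFst k X K) ⁻¹' T = ⋃₀ {Z : Set (Curv2.bc k X K) |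
      Z ∈ irreducibleComponents (Curv2.bc k X K) ∧ Z ⊆ (Curv2.bcFst k X K) ⁻¹' T} := by
  apply Set.Subset.antisymm
  · intro w hw
    obtain ⟨η, hη⟩ := QuasiSober.sober hT.1 (isClosed_of_mem_irreducibleComponents _ hT)
    have hspec : η ⤳ Curv2.bcFst k X K w := by
      rw [specializes_iff_mem_closure, hη.def]
      exact hw
    obtain ⟨w', hw', hw'η⟩ := (Flat.generalizingMap (Curv2.bcFst k X K)) hspec
    refine ⟨irreducibleComponent w', ⟨irreducibleComponent_mem_irreducibleComponents w', ?_⟩, ?_⟩
    · have hcomp := image_mem_irreducibleComponents' k X K _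
        (irreducibleComponent_mem_irreducibleComponents w')
      have hle : T ≤ (Curv2.bcFst k X K) '' irreducibleComponent w' := by
        rw [← hη.def]
        refine closure_minimal ?_ (isClosed_of_mem_irreducibleComponents _ hcomp)
        rw [Set.singleton_subset_iff]
        exact ⟨w', mem_irreducibleComponent, hw'η⟩
      have heq : (Curv2.bcFst k X K) '' irreducibleComponent w' = T :=
        le_antisymm (hT.2 hcomp.1 hle) hle
      intro z hz
      change Curv2.bcFst k X K z ∈ T
      rw [← heq]
      exact ⟨z, hz, rfl⟩
    · have : closure {w'} ⊆ irreducibleComponent w' :=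
        closure_minimal (Set.singleton_subset_iff.mpr mem_irreducibleComponent)
          isClosed_irreducibleComponent
      exact this (specializes_iff_mem_closure.mp hw')
  · rintro w ⟨Z, ⟨-, hZ⟩, hw⟩
    exact hZ hw

end S7595

section S7603

variable (k : Type u) [Field k] (X : Scheme.{u}) [X.Over (Spec (CommRingCat.of k))]

theorem geometricallyConnected_iff_geometricallyIrreducible_of_normal
    [IsProper (X ↘ Spec (CommRingCat.of k))]
    (hX : ∀ (K : Type u) [Field K] [Algebra k K], Pi1.IsNormalScheme (Curv2.bc k X K)) :
    GeometricallyConnected (X ↘ Spec (CommRingCat.of k)) ↔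
      GeometricallyIrreducible (X ↘ Spec (CommRingCat.of k)) := by
  constructor
  · intro h
    rw [geometricallyIrreducible_iff, geometrically_iff_of_commRing_of_isClosedUnderIsomorphisms]
    intro K _ _
    rw [geometricallyConnected_iff,
      geometrically_iff_of_commRing_of_isClosedUnderIsomorphisms] at h
    haveI : ConnectedSpace (Curv2.bc k X K) := h K
    haveI : IsLocallyNoetherian (Curv2.bc k X K) := isLocallyNoetherian_bc k X K
    haveI : CompactSpace (Curv2.bc k X K) := by
      unfold Curv2.bc
      infer_instance
    haveI : IsNoetherian (Curv2.bc k X K) := {}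
    have hfin : (irreducibleComponents (Curv2.bc k X K)).Finite :=
      TopologicalSpace.NoetherianSpace.finite_irreducibleComponents
    exact Groth.Agent.Lib.Helper4.EtNormalSch.irreducibleSpace_of_connected
      (fun t => (hX K t).1) hfin
  · intro h
    exact geometricallyConnected_of_geometricallyIrreducible _

end S7603

end Groth.Agent.Lib.Helper6.Var1
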