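import Mathlib
import Groth.Prelude.Def_Curv2
import Groth.Prelude.Def_FDesc
import Groth.Agent.Lib.Helper6EquiDim
import Groth.Agent.Lib.Helper6Var1
import Groth.Agent.Lib.Helper4VarDim8

set_option autoImplicit false
universe u
open CategoryTheory CategoryTheory.Limits AlgebraicGeometry TensorProduct

namespace Groth.Agent.Lib.Helper6.EquiDim

open Groth.Agent.Lib.Helper6.BcBridge Groth.Agent.Lib.Helper6.SepCl
  Groth.Agent.Lib.Helper6.FinLevel Groth.Agent.Lib.Helper6.GalAct
  Groth.Agent.Lib.Helper6.IrrComp Groth.Agent.Lib.Helper6.ConnComp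
  Groth.Agent.Lib.Helper6.SepComp Groth.Agent.Lib.Helper4.VarDim

section Chart

/-- dimension of a quotient of a ring as the dimension of the closure of the point -/
theorem topologicalKrullDim_closure_primeSpectrum {S : Type u} [CommRing S] (q : PrimeSpectrum S) :
    topologicalKrullDim (closure ({q} : Set (PrimeSpectrum S))) = ringKrullDim (S ⧸ q.asIdeal) := by
  rw [PrimeSpectrum.closure_singleton]
  have hsurj : Function.Surjective (Ideal.Quotient.mk q.asIdeal) := Ideal.Quotient.mk_surjective
  have hemb := (PrimeSpectrum.isClosedEmbedding_comap_of_surjective (S ⧸ q.asIdeal)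
    (Ideal.Quotient.mk q.asIdeal) hsurj).isEmbedding
  have hrange : Set.range (PrimeSpectrum.comap (Ideal.Quotient.mk q.asIdeal)) =
      PrimeSpectrum.zeroLocus (q.asIdeal : Set S) := by
    rw [range_comap_of_surjective _ _ hsurj, Ideal.mk_ker]
  rw [← PrimeSpectrum.topologicalKrullDim_eq_ringKrullDim, ← hrange]
  exact (IsHomeomorph.topologicalKrullDim_eq _ hemb.toHomeomorph.isHomeomorph).symm

/-- the dimension of the closure of a point of a scheme locally of finite type over a field,
computed in an affine chart -/
theorem topologicalKrullDim_closure_chart (F : Type u) [Field F] (Y : Scheme.{u})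
    [Y.Over (Spec (CommRingCat.of F))] [LocallyOfFiniteType (Y ↘ Spec (CommRingCat.of F))]
    {S : Type u} [CommRing S]
    (j : Spec (CommRingCat.of S) ⟶ Y) [IsOpenImmersion j] (q : PrimeSpectrum S) :
    topologicalKrullDim (closure ({j q} : Set Y)) = ringKrullDim (S ⧸ q.asIdeal) := by
  rw [← topologicalKrullDim_closure_primeSpectrum q]
  let q' : ↥(Spec (CommRingCat.of S)) := q
  change topologicalKrullDim (closure ({j q'} : Set Y)) = topologicalKrullDim (closure ({q'} : Set _))
  let T : Set Y := closure {j q'} ∩ Set.range j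
  have hT : IsLocallyClosed T :=
    isClosed_closure.isLocallyClosed.inter j.isOpenEmbedding.isOpen_range.isLocallyClosed
  have h1 := topologicalKrullDim_closure_singleton F Y (j q')
  have h2 : topologicalKrullDim T = ((trdegNat F Y (j q') : ℕ) : WithBot ℕ∞) := by
    rw [topologicalKrullDim_eq_iSup_trdegNat_of_isLocallyClosed F Y T hT]
    apply le_antisymm
    · refine iSup_le fun t => ?_
      exact_mod_cast trdegNat_le_of_specializes F Y (j q') t
        (specializes_iff_mem_closure.mpr t.2.1)
    · exact le_iSup_of_le (⟨j q', subset_closure rfl, ⟨q', rfl⟩⟩ : T) le_rfl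
  have h3 : T = j '' closure ({q'} : Set ↥(Spec (CommRingCat.of S))) := by
    have := j.isOpenEmbedding.isInducing.closure_eq_preimage_closure_image
      ({q'} : Set ↥(Spec (CommRingCat.of S)))
    rw [this, Set.image_preimage_eq_inter_range, Set.image_singleton]
  have h4 : topologicalKrullDim (j '' closure ({q'} : Set ↥(Spec (CommRingCat.of S)))) =
      topologicalKrullDim (closure ({q'} : Set ↥(Spec (CommRingCat.of S)))) :=
    (IsHomeomorph.topologicalKrullDim_eq _
      (j.isOpenEmbedding.isEmbedding.homeomorphImage _).isHomeomorph).symm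
  rw [h1, ← h2, h3, h4]

end Chart

section Main

variable (k : Type u) [Field k] (X : Scheme.{u}) [X.Over (Spec (CommRingCat.of k))]
  [LocallyOfFiniteType (X ↘ Spec (CommRingCat.of k))] (K : Type u) [Field K] [Algebra k K]

theorem finiteType_chart
    {R : Type u} [CommRing R] [Algebra k R] (ι : Spec (CommRingCat.of R) ⟶ X)
    [IsOpenImmersion ι]
    (hι : ι ≫ (X ↘ Spec (CommRingCat.of k)) = Spec.map (CommRingCat.ofHom (algebraMap k R))) :
    Algebra.FiniteType k R := by
  haveI : LocallyOfFiniteType (Spec.map (CommRingCat.ofHom (algebraMap k R))) := by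
    rw [← hι]
    infer_instance
  have h := (HasRingHomProperty.Spec_iff (P := @LocallyOfFiniteType)).mp this
  exact RingHom.finiteType_algebraMap.mp h

/-- a maximal point of a fibre of `X_K → X` has closure of the same dimension as the closure of
its image -/
theorem topologicalKrullDim_closure_eq_of_maximal (w : Curv2.bc k X K)
    (hw : ∀ w' : Curv2.bc k X K, w' ⤳ w →
      Curv2.bcFst k X K w' = Curv2.bcFst k X K w → w' = w) :
    topologicalKrullDim (closure ({w} : Set (Curv2.bc k X K))) =
      topologicalKrullDim (closure ({Curv2.bcFst k X K w} : Set X)) := by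
  obtain ⟨R, _, _, ι, _, hι, z, hz⟩ := exists_chart k X (Curv2.bcFst k X K w)
  haveI := finiteType_chart k X ι hι
  have hwr : w ∈ Set.range (chartMap k X K ι hι) := by
    rw [range_chartMap]
    exact ⟨z, hz⟩
  obtain ⟨Q, hQ⟩ := hwr
  have hQz : PrimeSpectrum.comap (Algebra.TensorProduct.includeLeftRingHom) Q = z := by
    have h1 := bcFst_chartMap k X K ι hι Q
    rw [hQ, ← hz] at h1
    exact (ι.isOpenEmbedding.injective h1).symm
  letI : (Curv2.bc k X K).Over (Spec (CommRingCat.of K)) := ⟨Curv2.bcSnd k X K⟩
  haveI : LocallyOfFiniteType ((Curv2.bc k X K) ↘ Spec (CommRingCat.of K)) :=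
    locallyOfFiniteType_bcSnd k X K
  have e1 := topologicalKrullDim_closure_chart K (Curv2.bc k X K) (chartMap k X K ι hι) Q
  have e2 := topologicalKrullDim_closure_chart k X ι z
  rw [hQ] at e1
  rw [hz] at e2
  rw [e1, e2]
  apply ringKrullDim_quotient_of_minimal_over k K R z.asIdeal Q.asIdeal
    (congrArg PrimeSpectrum.asIdeal hQz)
  intro Q' hQ'p hle hQ'z
  let Q'' : PrimeSpectrum (R ⊗[k] K) := ⟨Q', hQ'p⟩
  have hspec : Q'' ⤳ Q := (PrimeSpectrum.le_iff_specializes Q'' Q).mp hle
  have hspec' : chartMap k X K ι hι Q'' ⤳ w := by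
    rw [← hQ]
    exact hspec.map (chartMap k X K ι hι).continuous
  have hfst : Curv2.bcFst k X K (chartMap k X K ι hι Q'') = Curv2.bcFst k X K w := by
    rw [bcFst_chartMap, ← hz]
    congr 1
    exact PrimeSpectrum.ext hQ'z
  have := hw _ hspec' hfst
  rw [← hQ] at this
  have h2 := (chartMap k X K ι hι).isOpenEmbedding.injective this
  exact congrArg PrimeSpectrum.asIdeal h2

/-- a component of `X_K` has the dimension of the closure of the image of its generic point -/
theorem topologicalKrullDim_component (T' : Set (Curv2.bc k X K))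
    (hT' : T' ∈ irreducibleComponents (Curv2.bc k X K)) :
    (Curv2.bcFst k X K) '' T' ∈ irreducibleComponents X ∧
      topologicalKrullDim T' = topologicalKrullDim ((Curv2.bcFst k X K) '' T') := by
  have hcomp := image_mem_irreducibleComponents' k X K T' hT'
  refine ⟨hcomp, ?_⟩
  obtain ⟨w, hw⟩ := QuasiSober.sober hT'.1 (isClosed_of_mem_irreducibleComponents _ hT')
  have himg : (Curv2.bcFst k X K) '' T' = closure {Curv2.bcFst k X K w} := by
    apply Set.Subset.antisymm
    · rw [← hw.def]
      have := image_closure_subset_closure_image (s := {w}) (Curv2.bcFst k X K).continuous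
      rwa [Set.image_singleton] at this
    · refine closure_minimal ?_ (isClosed_of_mem_irreducibleComponents _ hcomp)
      rw [Set.singleton_subset_iff]
      exact ⟨w, hw.mem, rfl⟩
  rw [himg, ← hw.def]
  apply topologicalKrullDim_closure_eq_of_maximal
  intro w' hspec _
  have hcl : T' ≤ closure {w'} := by
    rw [← hw.def]
    exact closure_minimal (Set.singleton_subset_iff.mpr (specializes_iff_mem_closure.mp hspec))
      isClosed_closure
  have heq : closure {w'} = T' :=
    le_antisymm (hT'.2 isIrreducible_singleton.closure hcl) hcl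
  exact (isGenericPoint_def.mpr heq : IsGenericPoint w' T').eq hw

/-- the dimensions of the components of `X_K` are those of the components of `X` -/
theorem image_topologicalKrullDim_irreducibleComponents :
    (fun Z : Set (Curv2.bc k X K) => topologicalKrullDim Z) ''
        irreducibleComponents (Curv2.bc k X K) =
      (fun Z : Set X => topologicalKrullDim Z) '' irreducibleComponents X := by
  apply Set.Subset.antisymm
  · rintro _ ⟨T', hT', rfl⟩
    obtain ⟨h1, h2⟩ := topologicalKrullDim_component k X K T' hT'
    exact ⟨_, h1, h2.symm⟩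
  · rintro _ ⟨T, hT, rfl⟩
    obtain ⟨T', hT', himg⟩ := exists_image_eq' k X K T hT
    obtain ⟨-, h2⟩ := topologicalKrullDim_component k X K T' hT'
    refine ⟨T', hT', ?_⟩
    change topologicalKrullDim T' = topologicalKrullDim T
    rw [h2, himg]

/-- every irreducible component of the inverse image in `X_K` of an irreducible closed subset `Z`
of `X` has the dimension of `Z` -/
theorem topologicalKrullDim_component_preimage (Z : Set X) (hZc : IsClosed Z)
    (hZi : IsIrreducible Z)
    (W : Set ↥((Curv2.bcFst k X K) ⁻¹' Z))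
    (hW : W ∈ irreducibleComponents ↥((Curv2.bcFst k X K) ⁻¹' Z)) :
    topologicalKrullDim W = topologicalKrullDim Z := by
  have hPc : IsClosed ((Curv2.bcFst k X K) ⁻¹' Z) := hZc.preimage (Curv2.bcFst k X K).continuous
  have hWc : IsClosed W := isClosed_of_mem_irreducibleComponents _ hW
  have hW₀c : IsClosed (Subtype.val '' W : Set (Curv2.bc k X K)) :=
    hPc.isClosedEmbedding_subtypeVal.isClosedMap _ hWc
  have hW₀i : IsIrreducible (Subtype.val '' W : Set (Curv2.bc k X K)) :=
    hW.1.image _ continuous_subtype_val.continuousOn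
  have hdim : topologicalKrullDim W = topologicalKrullDim (Subtype.val '' W : Set (Curv2.bc k X K)) :=
    IsHomeomorph.topologicalKrullDim_eq _
      (Topology.IsEmbedding.subtypeVal.homeomorphImage W).isHomeomorph
  obtain ⟨w, hw⟩ := QuasiSober.sober hW₀i hW₀c
  obtain ⟨ζ, hζ⟩ := QuasiSober.sober hZi hZc
  have hwP : w ∈ (Curv2.bcFst k X K) ⁻¹' Z := by
    obtain ⟨p, -, hp⟩ := hw.mem
    rw [← hp]
    exact p.2
  -- key: generalisations of `w` lying over `Z` are equal to `w`
  have key : ∀ w' : Curv2.bc k X K, w' ⤳ w → Curv2.bcFst k X K w' ∈ Z → w' = w := by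
    intro w' hspec hw'Z
    let p' : ↥((Curv2.bcFst k X K) ⁻¹' Z) := ⟨w', hw'Z⟩
    have hcl : closure ({p'} : Set ↥((Curv2.bcFst k X K) ⁻¹' Z)) =
        Subtype.val ⁻¹' closure ({w'} : Set (Curv2.bc k X K)) := by
      rw [Topology.IsInducing.subtypeVal.closure_eq_preimage_closure_image, Set.image_singleton]
    have hle : W ≤ closure ({p'} : Set ↥((Curv2.bcFst k X K) ⁻¹' Z)) := by
      intro p hp
      rw [hcl]
      change p.1 ∈ closure {w'}
      have h1 : p.1 ∈ closure ({w} : Set (Curv2.bc k X K)) := by
        rw [hw.def]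
        exact ⟨p, hp, rfl⟩
      exact (closure_minimal (Set.singleton_subset_iff.mpr
        (specializes_iff_mem_closure.mp hspec)) isClosed_closure) h1
    have hge := hW.2 isIrreducible_singleton.closure hle
    have hp'W : p' ∈ W := hge (subset_closure rfl)
    have h2 : w' ∈ closure ({w} : Set (Curv2.bc k X K)) := by
      rw [hw.def]
      exact ⟨p', hp'W, rfl⟩
    exact ((specializes_iff_mem_closure.mpr h2).antisymm hspec).symm.eq
  have hπw : Curv2.bcFst k X K w = ζ := by
    have hspec : ζ ⤳ Curv2.bcFst k X K w := by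
      rw [specializes_iff_mem_closure, hζ.def]
      exact hwP
    obtain ⟨w', hw', hw'ζ⟩ := (Flat.generalizingMap (Curv2.bcFst k X K)) hspec
    have : w' = w := key w' hw' (by rw [hw'ζ]; exact hζ.mem)
    rw [← this, hw'ζ]
  rw [hdim, ← hw.def, ← hζ.def, ← hπw]
  apply topologicalKrullDim_closure_eq_of_maximal
  intro w' hspec hfst
  exact key w' hspec (by rw [hfst]; exact hwP)

end Main

end Groth.Agent.Lib.Helper6.EquiDim
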