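import Mathlib
import Groth.Agent.Lib.Helper14FibRhoG
import Groth.Agent.Lib.Helper14FibModF
import Groth.Agent.Lib.Helper6EquiDim2
import Groth.Agent.Lib.Helper4VarDim10

/-!
# Rectified depth of fibre modules, part H: translation to schemes (helper14)

For `f : X ⟶ Y` locally of finite type, a quasi-coherent module `F` on `X`, a point `s` of `Y` and a
point `z` of the fibre `X_s`, `GeomRho f F s z` is the rectified depth at `z` of the restriction of
`F` to `X_s`.  On an affine chart `U ⊆ f⁻¹ V` this is the ring-level quantity `Rho`.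
-/

set_option autoImplicit false
set_option linter.unusedVariables false
set_option linter.unusedSectionVars false
set_option linter.style.haveILetI false
set_option maxHeartbeats 400000

universe u

open CategoryTheory Limits AlgebraicGeometry TopologicalSpace Opposite TensorProduct Topology

namespace Groth.Agent.Lib.Helper14.FibRhoH

open Groth.Agent.Lib.Helper14.FibModA Groth.Agent.Lib.Helper14.FibModB
  Groth.Agent.Lib.Helper14.FibModF
  Groth.Agent.Lib.Helper14.FibRhoA Groth.Agent.Lib.Helper14.FibRhoB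
  Groth.Agent.Lib.Helper14.FibRhoG
open Groth.Agent.Lib.Helper2.FlatOver Groth.Agent.Lib.Helper2.PullbackSec
open Groth.Agent.Lib.Helper5.GenDepth Groth.Agent.Lib.Helper5

section cartesian

variable {X S X' S' : Scheme.{u}} {f : X ⟶ S} {f' : X' ⟶ S'} {g' : X' ⟶ X} {g : S' ⟶ S}

/-- In a cartesian square whose new base is (locally) the spectrum of a field, the rectified depth
of the pulled back module at a point is the rectified depth of the fibre of the original module at
the image point. -/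
theorem stalk_pullback_rho (hc : IsPullback g' f' f g) (F : X.Modules) [F.IsQuasicoherent]
    {V : S.Opens} {V' : S'.Opens} {U : X.Opens} (eV' : V' ≤ g ⁻¹ᵁ V) (eU : U ≤ f ⁻¹ᵁ V)
    (hV : IsAffineOpen V) (hV' : IsAffineOpen V') (hU : IsAffineOpen U)
    (hL : IsField Γ(S', V'))
    (hft : (f.appLE V U eU).hom.FiniteType) (hfin : Module.Finite Γ(X, U) Γ(F, U))
    (x' : X') (hx'U : g'.base x' ∈ U) (hx'V : f'.base x' ∈ V')
    (hdim : ∀ (U' : X'.Opens) (hU' : IsAffineOpen U') (hx : x' ∈ U'),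
      topologicalKrullDim ↥(closure ({x'} : Set X')) =
        ringKrullDim (Γ(X', U') ⧸ (hU'.primeIdealOf ⟨x', hx⟩).asIdeal)) :
    letI : Algebra Γ(S, V) Γ(X, U) := (f.appLE V U eU).hom.toAlgebra
    ((LocCoh.depth (X'.presheaf.stalk x')
        (((Scheme.Modules.pullback g').obj F).presheaf.stalk x') : ℕ∞) : WithBot ℕ∞) +
      topologicalKrullDim ↥(closure ({x'} : Set X')) =
    Rho Γ(S, V) Γ(F, U) (hU.primeIdealOf ⟨g'.base x', hx'U⟩).asIdeal := by
  set H := (Scheme.Modules.pullback g').obj F with hH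
  haveI : H.IsQuasicoherent := isQuasicoherent_pullback g' F
  set U' : X'.Opens := g' ⁻¹ᵁ U ⊓ f' ⁻¹ᵁ V' with hU'def
  have hU' : IsAffineOpen U' := isAffineOpen_inf_preimage hc eV' eU hV hV' hU
  have e1 : U' ≤ g' ⁻¹ᵁ U := inf_le_left
  have e2 : U' ≤ f' ⁻¹ᵁ V' := inf_le_right
  have hx' : x' ∈ U' := ⟨hx'U, hx'V⟩
  -- ring structures
  letI aAB : Algebra Γ(S, V) Γ(X, U) := (f.appLE V U eU).hom.toAlgebra
  letI aAA' : Algebra Γ(S, V) Γ(S', V') := (g.appLE V V' eV').hom.toAlgebra
  letI aBB' : Algebra Γ(X, U) Γ(X', U') := (g'.appLE U U' e1).hom.toAlgebra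
  letI aA'B' : Algebra Γ(S', V') Γ(X', U') := (f'.appLE V' U' e2).hom.toAlgebra
  letI aAB' : Algebra Γ(S, V) Γ(X', U') :=
    ((g'.appLE U U' e1).hom.comp (f.appLE V U eU).hom).toAlgebra
  haveI tABB' : IsScalarTower Γ(S, V) Γ(X, U) Γ(X', U') :=
    IsScalarTower.of_algebraMap_eq (fun a => rfl)
  haveI tAA'B' : IsScalarTower Γ(S, V) Γ(S', V') Γ(X', U') := by
    refine IsScalarTower.of_algebraMap_eq (fun a => ?_)
    change (g'.appLE U U' e1).hom ((f.appLE V U eU).hom a) =
      (f'.appLE V' U' e2).hom ((g.appLE V V' eV').hom a)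
    have h1 := Scheme.Hom.appLE_comp_appLE g' f V U U' eU e1
    have h2 := Scheme.Hom.appLE_comp_appLE f' g V V' U' eV' e2
    have h3 : (f.appLE V U eU ≫ g'.appLE U U' e1) = (g.appLE V V' eV' ≫ f'.appLE V' U' e2) := by
      rw [h1, h2]
      congr 1
      exact hc.w
    exact congrArg (fun φ => φ.hom a) h3
  haveI hPO : Algebra.IsPushout Γ(S, V) Γ(S', V') Γ(X, U) Γ(X', U') :=
    algebra_isPushout hc eV' eU hV hV' hU e1 e2
  haveI hftA : Algebra.FiniteType Γ(S, V) Γ(X, U) := hft
  haveI hNC : IsNoetherianRing Γ(X', U') :=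
    isNoetherianRing_of_isField_chart (A := Γ(S, V)) (B := Γ(X, U)) Γ(S', V') Γ(X', U') hL
  -- sections of the pullback
  obtain ⟨T⟩ := nonempty_sections_linearEquiv g' F hU' hU e1
  haveI hfinH : Module.Finite Γ(X', U') Γ(H, U') := Module.Finite.equiv T
  -- the stalk
  letI aB'R' : Algebra Γ(X', U') (X'.presheaf.stalk x') :=
    X'.presheaf.algebra_section_stalk ⟨x', hx'⟩
  haveI lR' := hU'.isLocalization_stalk ⟨x', hx'⟩
  letI mB'Q : Module Γ(X', U') (H.presheaf.stalk x') := moduleStalkSections H U' x' hx'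
  haveI q1 : IsScalarTower Γ(X', U') (X'.presheaf.stalk x') (H.presheaf.stalk x') :=
    IsScalarTower.of_algebraMap_smul (fun b n => rfl)
  haveI i2 := isLocalizedModule_germ hU' H x' hx'
  obtain ⟨h1, h2⟩ := FinDimDepth.transport_aux (hU'.primeIdealOf ⟨x', hx'⟩).asIdeal Γ(H, U')
    (X'.presheaf.stalk x') (H.presheaf.stalk x') (germₗ H U' x' hx')
  have hq : (hU'.primeIdealOf ⟨x', hx'⟩).asIdeal.comap (algebraMap Γ(X, U) Γ(X', U')) =
      (hU.primeIdealOf ⟨g'.base x', hx'U⟩).asIdeal :=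
    congrArg PrimeSpectrum.asIdeal (IsAffineOpen.comap_primeIdealOf_appLE U hU U' hU' e1 hx')
  rw [hdim U' hU' hx', ← rhoAt_chart_eq_rho_of_isField Γ(F, U) Γ(S', V') Γ(X', U') hL
    (hU'.primeIdealOf ⟨x', hx'⟩).asIdeal _ hq,
    ← rhoAt_congr (hU'.primeIdealOf ⟨x', hx'⟩).asIdeal T.symm]
  unfold RhoAt dep
  rw [h1]

end cartesian

variable {X Y : Scheme.{u}} (f : X ⟶ Y)

/-- the rectified depth at `z` of the restriction of `F` to the fibre `X_s`. -/
noncomputable def GeomRho (F : X.Modules) (s : Y) (z : ↥(f.fiber s)) : WithBot ℕ∞ :=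
  ((LocCoh.depth ((f.fiber s).presheaf.stalk z)
      (((Scheme.Modules.pullback (f.fiberι s)).obj F).presheaf.stalk z) : ℕ∞) : WithBot ℕ∞) +
    topologicalKrullDim ↥(closure ({z} : Set ↥(f.fiber s)))

theorem fiber_rho [LocallyOfFiniteType f] (F : X.Modules) [F.IsQuasicoherent] {U : X.Opens}
    (hU : IsAffineOpen U)
    {V : Y.Opens} (hV : IsAffineOpen V) (eU : U ≤ f ⁻¹ᵁ V)
    (hft : (f.appLE V U eU).hom.FiniteType) (hfin : Module.Finite Γ(X, U) Γ(F, U))
    (s : Y) (z : ↥(f.fiber s)) (hz : (f.fiberι s).base z ∈ U) :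
    letI : Algebra Γ(Y, V) Γ(X, U) := (f.appLE V U eU).hom.toAlgebra
    GeomRho f F s z =
      Rho Γ(Y, V) Γ(F, U) (hU.primeIdealOf ⟨(f.fiberι s).base z, hz⟩).asIdeal := by
  have hfs : f.base ((f.fiberι s).base z) = s :=
    Groth.Agent.Lib.Helper10.FibStalk.fiberι_apply_eq f s z
  have hsV : s ∈ V := hfs ▸ eU hz
  have eV' : (⊤ : (Spec (Y.residueField s)).Opens) ≤ (Y.fromSpecResidueField s) ⁻¹ᵁ V := by
    intro t _
    change (Y.fromSpecResidueField s).base t ∈ V
    rw [Scheme.fromSpecResidueField_apply]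
    exact hsV
  refine stalk_pullback_rho (fiber_isPullback f s) F eV' eU hV (isAffineOpen_top _) hU
    (isField_ΓSpec_residueField s) hft hfin z hz trivial ?_
  intro U' hU' hx
  letI : (f.fiber s).Over (Spec (CommRingCat.of (Y.residueField s))) :=
    ⟨f.fiberToSpecResidueField s⟩
  haveI : LocallyOfFiniteType ((f.fiber s) ↘ Spec (CommRingCat.of (Y.residueField s))) :=
    Groth.Agent.Lib.Helper4.VarDim.locallyOfFiniteType_fiberToSpecResidueField f s
  have key := Groth.Agent.Lib.Helper6.EquiDim.topologicalKrullDim_closure_chart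
    (Y.residueField s) (f.fiber s) (S := Γ(f.fiber s, U')) hU'.fromSpec
    (hU'.primeIdealOf ⟨z, hx⟩)
  rw [← key]
  have h1 : hU'.fromSpec.base (hU'.primeIdealOf ⟨z, hx⟩) = z := hU'.fromSpec_primeIdealOf ⟨z, hx⟩
  rw [h1]

theorem isConstructible_comap_preimage {R S : Type u} [CommRing R] [CommRing S] (φ : R →+* S)
    {E : Set (PrimeSpectrum R)} (hE : IsConstructible E) :
    IsConstructible (PrimeSpectrum.comap φ ⁻¹' E) :=
  (Spec.map (CommRingCat.ofHom φ)).isConstructible_preimage hE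

section Main

variable [LocallyOfFinitePresentation f] (F : X.Modules) (hF : CohB1.IsFP F)

include hF in
/-- On an affine chart the rectified depth of the fibres is a function on the spectrum whose level
sets are constructible, and whose superlevel sets are open in the flat case. -/
theorem exists_chart_rho (x : X) :
    ∃ (U : X.Opens) (hU : IsAffineOpen U) (val : PrimeSpectrum Γ(X, U) → WithBot ℕ∞), x ∈ U ∧
      (∀ P : WithBot ℕ∞ → Prop, IsConstructible {q | P (val q)}) ∧
      (FlatMod.IsFlatOver f F → ∀ n : WithBot ℕ∞, IsOpen {q | n ≤ val q}) ∧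
      ∀ (s : Y) (z : ↥(f.fiber s)) (hz : (f.fiberι s).base z ∈ U),
        GeomRho f F s z = val (hU.primeIdealOf ⟨(f.fiberι s).base z, hz⟩) := by
  haveI : F.IsQuasicoherent := Groth.Agent.Helper18Strict.isQCoh_of_isFP F hF
  haveI : SheafOfModules.IsFinitePresentation (R := X.ringCatSheaf) F := hF
  obtain ⟨U, V, hU, hV, hxU, eU⟩ := exists_affine_nhds f x
  letI aAB : Algebra Γ(Y, V) Γ(X, U) := (f.appLE V U eU).hom.toAlgebra
  have hfp : (f.appLE V U eU).hom.FinitePresentation :=
    HasRingHomProperty.appLE @LocallyOfFinitePresentation f inferInstance ⟨V, hV⟩ ⟨U, hU⟩ eU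
  haveI hfpA : Algebra.FinitePresentation Γ(Y, V) Γ(X, U) := hfp
  have hft : (f.appLE V U eU).hom.FiniteType := RingHom.FiniteType.of_finitePresentation hfp
  haveI hMfp : Module.FinitePresentation Γ(X, U) Γ(F, U) :=
    Groth.Agent.Lib.Helper2.FPAff.finitePresentation_sections F hU
  have hfin : Module.Finite Γ(X, U) Γ(F, U) := inferInstance
  letI mAM : Module Γ(Y, V) Γ(F, U) := Module.compHom Γ(F, U) (f.appLE V U eU).hom
  haveI tABM : IsScalarTower Γ(Y, V) Γ(X, U) Γ(F, U) := by
    refine ⟨fun a b m => ?_⟩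
    change ((f.appLE V U eU).hom a * b) • m = (f.appLE V U eU).hom a • (b • m)
    rw [mul_smul]
  refine ⟨U, hU, fun q => Rho Γ(Y, V) Γ(F, U) q.asIdeal, hxU, ?_, ?_, fun s z hz => ?_⟩
  · intro P
    obtain ⟨S₀, i, φ, E, hE, heq⟩ := exists_model_RL (A := Γ(Y, V)) (B := Γ(X, U)) Γ(F, U) P
    have h1 := isConstructible_comap_preimage φ hE
    rw [← heq] at h1
    exact h1
  · intro hflat n
    haveI hflatM : Module.Flat Γ(Y, V) Γ(F, U) :=
      flat_sections_of_isFlatOverAt f F hU hV eU (fun x _ => hflat x)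
    exact isOpen_RL_le (A := Γ(Y, V)) (B := Γ(X, U)) Γ(F, U) n
  · exact fiber_rho f F hU hV eU hft hfin s z hz

include hF in
/-- the rectified depth at a point of a fibre only depends on its image in `X`. -/
theorem geomRho_eq_asFiber (s : Y) (z : ↥(f.fiber s)) :
    GeomRho f F s z =
      GeomRho f F (f.base ((f.fiberι s).base z)) (f.asFiber ((f.fiberι s).base z)) := by
  obtain ⟨U, hU, val, hxU, -, -, hchart⟩ := exists_chart_rho f F hF ((f.fiberι s).base z)
  have hz' : (f.fiberι (f.base ((f.fiberι s).base z))).base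
      (f.asFiber ((f.fiberι s).base z)) ∈ U := by
    rw [f.fiberι_asFiber]
    exact hxU
  rw [hchart s z hxU, hchart _ _ hz']
  have h1 : (⟨_, hz'⟩ : U) = ⟨(f.fiberι s).base z, hxU⟩ := Subtype.ext (f.fiberι_asFiber _)
  rw [h1]

include hF in
/-- **Local constructibility of the loci defined by the rectified depth of the fibres.** -/
theorem isLocallyConstructible_geomRho (P : WithBot ℕ∞ → Prop) :
    Topology.IsLocallyConstructible {x : X | P (GeomRho f F (f.base x) (f.asFiber x))} := by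
  intro x
  obtain ⟨U, hU, val, hxU, hcons, -, hchart⟩ := exists_chart_rho f F hF x
  refine ⟨U, U.2.mem_nhds hxU, U.2, ?_⟩
  have h0 := hU.isoSpec.hom.isConstructible_preimage (hcons P)
  have heq : (Subtype.val : U → X) ⁻¹' {x : X | P (GeomRho f F (f.base x) (f.asFiber x))} =
      hU.isoSpec.hom.base ⁻¹' {q | P (val q)} := by
    ext u
    have hz : (f.fiberι (f.base u.1)).base (f.asFiber u.1) ∈ U := by
      rw [f.fiberι_asFiber]
      exact u.2
    have h1 : (⟨_, hz⟩ : U) = u := Subtype.ext (f.fiberι_asFiber _)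
    change P (GeomRho f F (f.base u.1) (f.asFiber u.1)) ↔ P (val (hU.isoSpec.hom.base u))
    rw [hchart _ _ hz, h1]
    rfl
  exact (congrArg IsConstructible heq).mpr h0

include hF in
/-- **Lower semicontinuity of the rectified depth of the fibres of a flat module.** -/
theorem isOpen_le_geomRho (hflat : FlatMod.IsFlatOver f F) (n : WithBot ℕ∞) :
    IsOpen {x : X | n ≤ GeomRho f F (f.base x) (f.asFiber x)} := by
  rw [isOpen_iff_forall_mem_open]
  intro x hx
  obtain ⟨U, hU, val, hxU, -, hopen, hchart⟩ := exists_chart_rho f F hF x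
  have hW := hopen hflat n
  refine ⟨hU.fromSpec.base '' {q | n ≤ val q}, ?_, hU.fromSpec.isOpenEmbedding.isOpenMap _ hW, ?_⟩
  · rintro _ ⟨q, hq, rfl⟩
    have hx₁ : hU.fromSpec.base q ∈ U := Groth.Agent.Lib.Helper2.QCoh.fromSpec_mem hU q
    have hz : (f.fiberι (f.base (hU.fromSpec.base q))).base (f.asFiber (hU.fromSpec.base q)) ∈ U := by
      rw [f.fiberι_asFiber]
      exact hx₁
    change n ≤ GeomRho f F _ _
    rw [hchart _ _ hz]
    have h1 : (⟨_, hz⟩ : U) = ⟨hU.fromSpec.base q, hx₁⟩ := Subtype.ext (f.fiberι_asFiber _)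
    rw [h1]
    have h3 : hU.primeIdealOf ⟨hU.fromSpec.base q, hx₁⟩ = q :=
      Groth.Agent.Lib.Helper2.QCoh.primeIdealOf_fromSpec hU q
    rw [h3]
    exact hq
  · refine ⟨hU.primeIdealOf ⟨x, hxU⟩, ?_, hU.fromSpec_primeIdealOf ⟨x, hxU⟩⟩
    have hz : (f.fiberι (f.base x)).base (f.asFiber x) ∈ U := by
      rw [f.fiberι_asFiber]
      exact hxU
    have h2 : n ≤ GeomRho f F (f.base x) (f.asFiber x) := hx
    rw [hchart _ _ hz] at h2
    have h1 : (⟨_, hz⟩ : U) = ⟨x, hxU⟩ := Subtype.ext (f.fiberι_asFiber _)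
    rw [h1] at h2
    exact h2

include hF in
/-- proper form: for `f` closed, the locus of points of `Y` over which the rectified depth of the
fibre is everywhere at least `n` is open. -/
theorem isOpen_forall_le_geomRho (hflat : FlatMod.IsFlatOver f F) (hcl : IsClosedMap f.base)
    (n : WithBot ℕ∞) :
    IsOpen {y : Y | ∀ z : ↥(f.fiber y), n ≤ GeomRho f F y z} := by
  rw [← isClosed_compl_iff]
  have heq : {y : Y | ∀ z : ↥(f.fiber y), n ≤ GeomRho f F y z}ᶜ =
      f.base '' {x : X | n ≤ GeomRho f F (f.base x) (f.asFiber x)}ᶜ := by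
    ext y
    simp only [Set.mem_compl_iff, Set.mem_ofPred_eq, not_forall, Set.mem_image]
    constructor
    · rintro ⟨z, hz⟩
      refine ⟨(f.fiberι y).base z, ?_, Groth.Agent.Lib.Helper10.FibStalk.fiberι_apply_eq f y z⟩
      rwa [← geomRho_eq_asFiber f F hF y z]
    · rintro ⟨x, hx, rfl⟩
      exact ⟨f.asFiber x, hx⟩
  rw [heq]
  exact hcl _ (isOpen_le_geomRho f F hF hflat n).isClosed_compl

end Main

end Groth.Agent.Lib.Helper14.FibRhoH
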