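import Mathlib
import Groth.Agent.Lib.Helper14FibAssA
import Groth.Agent.Lib.Helper14FibAssB
import Groth.Agent.Lib.Helper14FibRhoH
import Groth.Agent.Lib.Helper18Strict6
import Groth.Agent.Lib.Helper20PullbackAff
import Groth.Agent.S0020

/-!
# Associated points of fibre modules, part C: the associated points of the fibres through the
rectified depth (helper14)

For `f : X ⟶ Y` locally of finite presentation and a finitely presented module `F` on `X`, the
associated points of dimension `m` of a fibre `F_y` are exactly the points of transcendence degree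
`m` of the fibre of the set `K_m = {ρ ≤ m}`, where `ρ` is the rectified depth of the fibres; the
embedded ones are those of `L_m = K_m ∩ {dim_x Supp F_y ≥ m + 1}`.
-/

set_option autoImplicit false
set_option linter.unusedVariables false
set_option linter.unusedSectionVars false
set_option linter.style.haveILetI false
set_option maxHeartbeats 400000

universe u

open CategoryTheory Limits AlgebraicGeometry TopologicalSpace Topology

namespace Groth.Agent.Lib.Helper14.FibAssC

open Groth.Agent.Lib.Helper4.DimFormula Groth.Agent.Lib.Helper4.VarDim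
  Groth.Agent.Lib.Helper4.FibDim
open Groth.Agent.Lib.Helper14.FibAssA Groth.Agent.Lib.Helper14.FibAssB
  Groth.Agent.Lib.Helper14.FibRhoH

variable {X Y : Scheme.{u}} (f : X ⟶ Y)

section Basic

variable [LocallyOfFiniteType f]

/-- the transcendence degree over `κ(y)` of the residue field of a point of the fibre `X_y`. -/
noncomputable def fdl (y : Y) (w : ↥(f.fiber y)) : ℕ := ptTrdeg f ((f.fiberι y).base w)

theorem trdegNat_fiber (y : Y) (w : ↥(f.fiber y)) :
    letI : (f.fiber y).Over (Spec (CommRingCat.of (Y.residueField y))) :=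
      ⟨f.fiberToSpecResidueField y⟩
    trdegNat (Y.residueField y) (f.fiber y) w = fdl f y w :=
  trdegNat_eq_ptTrdeg f y w

theorem dim_closure_eq_fdl (y : Y) (w : ↥(f.fiber y)) :
    topologicalKrullDim ↥(closure ({w} : Set ↥(f.fiber y))) = (fdl f y w : WithBot ℕ∞) := by
  letI : (f.fiber y).Over (Spec (CommRingCat.of (Y.residueField y))) :=
    ⟨f.fiberToSpecResidueField y⟩
  haveI : LocallyOfFiniteType ((f.fiber y) ↘ Spec (CommRingCat.of (Y.residueField y))) :=
    locallyOfFiniteType_fiberToSpecResidueField f _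
  rw [topologicalKrullDim_closure_singleton (Y.residueField y) (f.fiber y) w, trdegNat_fiber]

theorem fdl_le_of_specializes (y : Y) (w w' : ↥(f.fiber y)) (h : w' ⤳ w) :
    fdl f y w ≤ fdl f y w' := by
  letI : (f.fiber y).Over (Spec (CommRingCat.of (Y.residueField y))) :=
    ⟨f.fiberToSpecResidueField y⟩
  haveI : LocallyOfFiniteType ((f.fiber y) ↘ Spec (CommRingCat.of (Y.residueField y))) :=
    locallyOfFiniteType_fiberToSpecResidueField f _
  rw [← trdegNat_fiber, ← trdegNat_fiber]
  exact trdegNat_le_of_specializes (Y.residueField y) (f.fiber y) w' w h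

theorem fdl_lt_of_specializes (y : Y) (w w' : ↥(f.fiber y)) (h : w' ⤳ w) (hne : w' ≠ w) :
    fdl f y w < fdl f y w' := by
  letI : (f.fiber y).Over (Spec (CommRingCat.of (Y.residueField y))) :=
    ⟨f.fiberToSpecResidueField y⟩
  haveI : LocallyOfFiniteType ((f.fiber y) ↘ Spec (CommRingCat.of (Y.residueField y))) :=
    locallyOfFiniteType_fiberToSpecResidueField f _
  rw [← trdegNat_fiber, ← trdegNat_fiber]
  exact trdegNat_lt_of_specializes (Y.residueField y) (f.fiber y) w' w h hne

theorem base_fiberι (y : Y) (w : ↥(f.fiber y)) : f.base ((f.fiberι y).base w) = y :=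
  Groth.Agent.Lib.Helper10.FibStalk.fiberι_apply_eq f y w

/-- `HasGen` at a point of a fibre, in terms of the fibre. -/
theorem hasGen_fiberι_iff (K : Set X) (y : Y) (z : ↥(f.fiber y)) (n : ℕ) :
    HasGen f K ((f.fiberι y).base z) n ↔
      ∃ w : ↥(f.fiber y), (f.fiberι y).base w ∈ K ∧ w ⤳ z ∧ n ≤ fdl f y w := by
  constructor
  · rintro ⟨x', hx'K, h1, h2, h3⟩
    have hy : f.base x' = y := h1.trans (base_fiberι f y z)
    have hr : x' ∈ Set.range (f.fiberι y).base := by
      rw [f.range_fiberι]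
      exact hy
    obtain ⟨w, rfl⟩ := hr
    exact ⟨w, hx'K, (f.fiberι y).isEmbedding.isInducing.specializes_iff.mp h2, h3⟩
  · rintro ⟨w, hwK, hwz, hn⟩
    exact ⟨_, hwK, (base_fiberι f y w).trans (base_fiberι f y z).symm,
      hwz.map (f.fiberι y).continuous, hn⟩

theorem isLocallyNoetherian_fiber (y : Y) : IsLocallyNoetherian (f.fiber y) := by
  haveI : IsLocallyNoetherian (Spec (Y.residueField y)) := inferInstance
  exact LocallyOfFiniteType.isLocallyNoetherian (f.fiberToSpecResidueField y)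

end Basic

section Module

variable [LocallyOfFinitePresentation f] (F : X.Modules) (hF : CohB1.IsFP F)

/-- the restriction of `F` to the fibre `X_y`. -/
noncomputable abbrev fibMod (y : Y) : (f.fiber y).Modules :=
  (Scheme.Modules.pullback (f.fiberι y)).obj F

include hF in
theorem isCoh_fibMod (y : Y) : Coh.IsCoh (fibMod f F y) := by
  have h := Groth.Agent.Helper18Strict.isFP_pullback (f.fiberι y) F hF
  exact ⟨Groth.Agent.Helper18Strict.isQCoh_of_isFP _ h,
    Groth.Agent.Helper18Strict.isFT_of_isFP _ h⟩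

include hF in
theorem isCoh_of_isFP : Coh.IsCoh F :=
  ⟨Groth.Agent.Helper18Strict.isQCoh_of_isFP _ hF, Groth.Agent.Helper18Strict.isFT_of_isFP _ hF⟩

include hF in
theorem mem_support_fibMod_iff (y : Y) (w : ↥(f.fiber y)) :
    w ∈ CohB1.support (fibMod f F y) ↔ (f.fiberι y).base w ∈ CohB1.support F := by
  haveI : F.IsQuasicoherent := Groth.Agent.Helper18Strict.isQCoh_of_isFP _ hF
  haveI : SheafOfModules.IsFiniteType (R := X.ringCatSheaf) F :=
    Groth.Agent.Helper18Strict.isFT_of_isFP _ hF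
  change ¬ Subsingleton _ ↔ ¬ Subsingleton _
  rw [Groth.Agent.Lib.Helper20.PullbackAff.subsingleton_stalk_pullback_iff (f.fiberι y) F w]

theorem geomRho_eq (y : Y) (w : ↥(f.fiber y)) :
    GeomRho f F y w =
      ((LocCoh.depth ((f.fiber y).presheaf.stalk w) ((fibMod f F y).presheaf.stalk w) : ℕ∞) :
        WithBot ℕ∞) + (fdl f y w : WithBot ℕ∞) := by
  unfold GeomRho
  rw [dim_closure_eq_fdl]

/-- the closed set `K_m = {ρ ≤ m}`. -/
def Kset (m : ℕ) : Set X :=
  {x | ¬ (((m + 1 : ℕ) : WithBot ℕ∞) ≤ GeomRho f F (f.base x) (f.asFiber x))}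

include hF in
theorem isClosed_Kset (hflat : FlatMod.IsFlatOver f F) (m : ℕ) : IsClosed (Kset f F m) :=
  (isOpen_le_geomRho f F hF hflat ((m + 1 : ℕ) : WithBot ℕ∞)).isClosed_compl

include hF in
theorem fiberι_mem_Kset_iff (y : Y) (w : ↥(f.fiber y)) (m : ℕ) :
    (f.fiberι y).base w ∈ Kset f F m ↔ ¬ (((m + 1 : ℕ) : WithBot ℕ∞) ≤ GeomRho f F y w) := by
  unfold Kset
  rw [Set.mem_ofPred_eq, ← geomRho_eq_asFiber f F hF y w]

/-- arithmetic of the rectified depth. -/
theorem rho_arith (d : ℕ∞) (a m : ℕ) :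
    (¬ (((m + 1 : ℕ) : WithBot ℕ∞) ≤ ((d : ℕ∞) : WithBot ℕ∞) + ((a : ℕ) : WithBot ℕ∞)) ∧ m ≤ a) ↔
      (d = 0 ∧ a = m) := by
  have h1 : ((a : ℕ) : WithBot ℕ∞) = (((a : ℕ) : ℕ∞) : WithBot ℕ∞) := rfl
  have h2 : (((m + 1 : ℕ) : ℕ) : WithBot ℕ∞) = (((m + 1 : ℕ) : ℕ∞) : WithBot ℕ∞) := rfl
  rw [h1, h2, ← WithBot.coe_add, WithBot.coe_le_coe]
  induction d using ENat.recTopCoe with
  | top =>
    rw [top_add]
    simp
  | coe n =>
    have h3 : (((m + 1 : ℕ) : ℕ∞) ≤ ((n : ℕ) : ℕ∞) + ((a : ℕ) : ℕ∞)) ↔ m + 1 ≤ n + a := by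
      rw [← Nat.cast_add, Nat.cast_le]
    rw [h3]
    constructor
    · rintro ⟨h4, h5⟩
      have h6 : n = 0 := by omega
      refine ⟨by rw [h6]; rfl, by omega⟩
    · rintro ⟨h4, h5⟩
      have h6 : n = 0 := by exact_mod_cast h4
      omega

include hF in
/-- **Associated points of the fibres of dimension `m`.** -/
theorem hasGen_Kset_iff (y : Y) (z : ↥(f.fiber y)) (m : ℕ) :
    HasGen f (Kset f F m) ((f.fiberι y).base z) m ↔
      ∃ w ∈ AssSch.Ass (fibMod f F y), z ∈ closure ({w} : Set ↥(f.fiber y)) ∧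
        topologicalKrullDim ↥(closure ({w} : Set ↥(f.fiber y))) = (m : WithBot ℕ∞) := by
  haveI := isLocallyNoetherian_fiber f y
  have hG := isCoh_fibMod f F hF y
  rw [hasGen_fiberι_iff]
  constructor
  · rintro ⟨w, hwK, hwz, hm⟩
    rw [fiberι_mem_Kset_iff f F hF, geomRho_eq] at hwK
    obtain ⟨hd, ha⟩ := (rho_arith _ _ _).mp ⟨hwK, hm⟩
    refine ⟨w, (mem_ass_iff_depth_eq_zero _ hG w).mpr hd, hwz.mem_closure, ?_⟩
    rw [dim_closure_eq_fdl, ha]
  · rintro ⟨w, hw, hzw, hdim⟩
    have hd := (mem_ass_iff_depth_eq_zero _ hG w).mp hw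
    rw [dim_closure_eq_fdl] at hdim
    have ha : fdl f y w = m := by exact_mod_cast hdim
    have h1 := (rho_arith (LocCoh.depth ((f.fiber y).presheaf.stalk w)
      ((fibMod f F y).presheaf.stalk w)) (fdl f y w) m).mpr ⟨hd, ha⟩
    refine ⟨w, ?_, specializes_iff_mem_closure.mpr hzw, h1.2⟩
    rw [fiberι_mem_Kset_iff f F hF, geomRho_eq]
    exact h1.1

/-- the closed set `L_m = K_m ∩ {dim_x Supp F_{f x} ≥ m + 1}`. -/
def Lset (m : ℕ) : Set X :=
  Kset f F m ∩ {x | HasGen f (CohB1.support F) x (m + 1)}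

include hF in
theorem isClosed_Lset (hflat : FlatMod.IsFlatOver f F) (m : ℕ) : IsClosed (Lset f F m) :=
  (isClosed_Kset f F hF hflat m).inter
    (isClosed_hasGen f _ (Groth.Agent.S0020.result X F
      (Groth.Agent.Helper18Strict.isFT_of_isFP _ hF)) (m + 1))

include hF in
/-- every point of the support of a fibre has a generization which is an associated point, of
transcendence degree at least as large. -/
theorem exists_ass_generization (y : Y) (w : ↥(f.fiber y))
    (hw : w ∈ CohB1.support (fibMod f F y)) :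
    ∃ w' ∈ AssSch.Ass (fibMod f F y), w' ⤳ w ∧ fdl f y w ≤ fdl f y w' ∧
      (∀ w'' : ↥(f.fiber y), w'' ∈ CohB1.support (fibMod f F y) → w'' ⤳ w' → w'' = w') := by
  letI : (f.fiber y).Over (Spec (CommRingCat.of (Y.residueField y))) :=
    ⟨f.fiberToSpecResidueField y⟩
  haveI : LocallyOfFiniteType ((f.fiber y) ↘ Spec (CommRingCat.of (Y.residueField y))) :=
    locallyOfFiniteType_fiberToSpecResidueField f _
  obtain ⟨w', hw'w, -, hass, hmax, -⟩ :=
    exists_maximal_generization (Y.residueField y) (fibMod f F y) (isCoh_fibMod f F hF y) w hw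
  exact ⟨w', hass, hw'w, fdl_le_of_specializes f y w w' hw'w, hmax⟩

include hF in
/-- **Embedded associated points of the fibres of dimension `m`.** -/
theorem hasGen_Lset_iff (y : Y) (z : ↥(f.fiber y)) (m : ℕ) :
    HasGen f (Lset f F m) ((f.fiberι y).base z) m ↔
      ∃ w ∈ AssSch.Ass (fibMod f F y), z ∈ closure ({w} : Set ↥(f.fiber y)) ∧
        topologicalKrullDim ↥(closure ({w} : Set ↥(f.fiber y))) = (m : WithBot ℕ∞) ∧
        ∃ w' ∈ AssSch.Ass (fibMod f F y), w ∈ closure ({w'} : Set ↥(f.fiber y)) ∧ w' ≠ w := by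
  haveI := isLocallyNoetherian_fiber f y
  have hG := isCoh_fibMod f F hF y
  constructor
  · intro h
    obtain ⟨w, hwL, hwz, hm⟩ := (hasGen_fiberι_iff f _ y z m).mp h
    obtain ⟨hwK, hwS⟩ := hwL
    -- `w` is an associated point of dimension `m`
    have hK' := hwK
    rw [fiberι_mem_Kset_iff f F hF, geomRho_eq] at hK'
    obtain ⟨hd, ha⟩ := (rho_arith _ _ _).mp ⟨hK', hm⟩
    refine ⟨w, (mem_ass_iff_depth_eq_zero _ hG w).mpr hd, hwz.mem_closure, ?_, ?_⟩
    · rw [dim_closure_eq_fdl, ha]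
    obtain ⟨w'', hw''S, hw''w, hw''m⟩ := (hasGen_fiberι_iff f _ y w (m + 1)).mp hwS
    have hw''S' : w'' ∈ CohB1.support (fibMod f F y) :=
      (mem_support_fibMod_iff f F hF y w'').mpr hw''S
    obtain ⟨w', hw'ass, hw'w'', hle, -⟩ := exists_ass_generization f F hF y w'' hw''S'
    refine ⟨w', hw'ass, (hw'w''.trans hw''w).mem_closure, ?_⟩
    rintro rfl
    omega
  · rintro ⟨w, hw, hzw, hdim, w', hw', hww', hne⟩
    have hd := (mem_ass_iff_depth_eq_zero _ hG w).mp hw
    rw [dim_closure_eq_fdl] at hdim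
    have ha : fdl f y w = m := by exact_mod_cast hdim
    have h1 := (rho_arith (LocCoh.depth ((f.fiber y).presheaf.stalk w)
      ((fibMod f F y).presheaf.stalk w)) (fdl f y w) m).mpr ⟨hd, ha⟩
    rw [hasGen_fiberι_iff]
    refine ⟨w, ⟨?_, ?_⟩, specializes_iff_mem_closure.mpr hzw, h1.2⟩
    · rw [fiberι_mem_Kset_iff f F hF, geomRho_eq]
      exact h1.1
    · change HasGen f (CohB1.support F) ((f.fiberι y).base w) (m + 1)
      rw [hasGen_fiberι_iff]
      have hsp : w' ⤳ w := specializes_iff_mem_closure.mpr hww'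
      refine ⟨w', (mem_support_fibMod_iff f F hF y w').mp (mem_support_of_mem_ass _ hG w' hw'),
        hsp, ?_⟩
      have := fdl_lt_of_specializes f y w w' hsp hne
      omega

end Module

end Groth.Agent.Lib.Helper14.FibAssC
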