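import Groth.Agent.Lib.Helper4FibDimF

/-!
# Fibre dimension (part G): semicontinuity on the base for proper morphisms

* `localDim_fiber_eq`: local dimension of the scheme-theoretic fibre `f.fiber s` at `x'` is
  `fibLD f (f.fiberι s x')`.
* `isOpen_setOf_fibreDimAt_le'`: `{x | fibreDimAt f x ≤ c}` is open for every `c : WithBot ℕ∞`.
* `topologicalKrullDim_fiber_le_iff`: `dim X_s ≤ c ↔ ∀ x, f x = s → fibreDimAt f x ≤ c`.
* `isOpen_setOf_dim_fiber_le`: for `f` closed and locally of finite type, `{s | dim X_s ≤ c}` is open.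
-/

set_option autoImplicit false
set_option linter.style.haveILetI false
universe u

open TensorProduct PrimeSpectrum TopologicalSpace Topology AlgebraicGeometry CategoryTheory

namespace Groth.Agent.Lib.Helper4.FibDim

variable {X S : Scheme.{u}} (f : X ⟶ S)

theorem localDim_fiber_eq (s : S) (x' : f.fiber s) :
    FlatMor.localDim (f.fiber s) x' = fibLD f (f.fiberι s x') := by
  rw [localDim_eq_of_homeomorph (f.fiberHomeo s) x']
  unfold fibLD
  have hs : f (f.fiberι s x') = s := (f.fiberHomeo s x').2
  have h : (f : X → S) ⁻¹' {s} = (f : X → S) ⁻¹' {f (f.fiberι s x')} := by rw [hs]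
  exact localDim_congr_set h (f.fiberι s x') (f.fiberHomeo s x').2

theorem isOpen_setOf_fibreDimAt_le' [LocallyOfFiniteType f] (c : WithBot ℕ∞) :
    IsOpen {x : X | FlatMor.fibreDimAt f x ≤ c} := by
  induction c using WithBot.recBotCoe with
  | bot =>
    convert isOpen_empty
    ext x
    simp only [Set.mem_ofPred_eq, Set.mem_empty_iff_false, iff_false, le_bot_iff]
    intro h
    have := Groth.Agent.Lib.Helper7.TopDim.localDim_nonneg (f.asFiber x)
    unfold FlatMor.fibreDimAt at h
    rw [h] at this
    exact absurd this (by simp)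
  | coe c =>
    induction c using ENat.recTopCoe with
    | top =>
      convert isOpen_univ
      ext x
      simp only [Set.mem_ofPred_eq, Set.mem_univ, iff_true]
      exact le_top
    | coe n => exact isOpen_setOf_fibreDimAt_le f n

theorem topologicalKrullDim_fiber_le_iff (s : S) (c : WithBot ℕ∞) :
    topologicalKrullDim (f.fiber s) ≤ c ↔ ∀ x : X, f x = s → FlatMor.fibreDimAt f x ≤ c := by
  constructor
  · intro h x hx
    subst hx
    exact (Groth.Agent.Lib.Helper7.TopDim.localDim_le_dim (f.asFiber x)).trans h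
  · intro h
    rw [Groth.Agent.Lib.Helper7.TopDim.topologicalKrullDim_eq_iSup_localDim]
    refine iSup_le fun x' => ?_
    rw [localDim_fiber_eq, ← fibreDimAt_eq_fibLD]
    exact h _ (f.fiberHomeo s x').2

theorem isOpen_setOf_dim_fiber_le [LocallyOfFiniteType f] (hf : IsClosedMap f) (c : WithBot ℕ∞) :
    IsOpen {s : S | topologicalKrullDim (f.fiber s) ≤ c} := by
  rw [← isClosed_compl_iff]
  have h : {s : S | topologicalKrullDim (f.fiber s) ≤ c}ᶜ =
      f '' {x : X | FlatMor.fibreDimAt f x ≤ c}ᶜ := by
    ext s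
    simp only [Set.mem_compl_iff, Set.mem_ofPred_eq, Set.mem_image,
      topologicalKrullDim_fiber_le_iff, not_forall]
    constructor
    · rintro ⟨x, hx, h⟩
      exact ⟨x, h, hx⟩
    · rintro ⟨x, h, hx⟩
      exact ⟨x, hx, h⟩
  rw [h]
  exact hf _ (isOpen_setOf_fibreDimAt_le' f c).isClosed_compl

end Groth.Agent.Lib.Helper4.FibDim
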