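import Mathlib
import Groth.Agent.Lib.Helper14FibAssC
import Groth.Agent.Lib.Helper3DimCons
import Groth.Agent.S0403

/-!
# Associated points of fibre modules, part D: openness of the loci defined by the dimensions of the
associated points of the fibres (helper14)

EGA IV 12.1.1 (i), (ii) and 12.2.1 (i): for `F` finitely presented and `f`-flat, the set of `x` such
that the associated points of `F_{f x}` through `x` have dimension in `Φ`, and the set of `x` lying
on no embedded associated cycle of `F_{f x}`, are open in `X`; for `f` proper the corresponding sets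
of `y` are open in `Y`.
-/

set_option autoImplicit false
set_option linter.unusedVariables false
set_option linter.unusedSectionVars false
set_option linter.style.haveILetI false
set_option maxHeartbeats 400000

universe u

open CategoryTheory Limits AlgebraicGeometry TopologicalSpace Topology

namespace Groth.Agent.Lib.Helper14.FibAssD

open Groth.Agent.Lib.Helper4.DimFormula Groth.Agent.Lib.Helper4.VarDim
  Groth.Agent.Lib.Helper4.FibDim
open Groth.Agent.Lib.Helper14.FibAssA Groth.Agent.Lib.Helper14.FibAssB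
  Groth.Agent.Lib.Helper14.FibAssC Groth.Agent.Lib.Helper14.FibRhoH

variable {X Y : Scheme.{u}} (f : X ⟶ Y)

section LocFin

variable [LocallyOfFiniteType f]

theorem exists_nat_fibreDimAt_le (x : X) : ∃ N : ℕ, FlatMor.fibreDimAt f x ≤ (N : WithBot ℕ∞) := by
  obtain ⟨b, hb⟩ := exists_ringKrullDim_stalk_asFiber_eq_nat f x
  refine ⟨b + ptTrdeg f x, ?_⟩
  rw [fibreDimAt_eq_stalk_add_ptTrdeg, hb]
  push_cast
  exact le_rfl

open Classical in
/-- a family of closed sets `C m` whose points have fibre dimension at least `m` is locally finite: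
the set of points avoiding a given subfamily is open. -/
theorem isOpen_forall_notMem (C : ℕ → Set X) (hC : ∀ m, IsClosed (C m))
    (hb : ∀ m x, x ∈ C m → (m : WithBot ℕ∞) ≤ FlatMor.fibreDimAt f x) (I : Set ℕ) :
    IsOpen {x : X | ∀ m ∈ I, x ∉ C m} := by
  rw [isOpen_iff_forall_mem_open]
  intro x₀ hx₀
  obtain ⟨N, hN⟩ := exists_nat_fibreDimAt_le f x₀
  have hW := isOpen_setOf_fibreDimAt_le' f ((N : ℕ) : WithBot ℕ∞)
  have hD : IsClosed (⋃ m ∈ Finset.range (N + 1), (if m ∈ I then C m else ∅)) := by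
    refine Set.Finite.isClosed_biUnion (Finset.finite_toSet _) ?_
    intro m _
    split_ifs
    · exact hC m
    · exact isClosed_empty
  refine ⟨{x | FlatMor.fibreDimAt f x ≤ ((N : ℕ) : WithBot ℕ∞)} ∩
    (⋃ m ∈ Finset.range (N + 1), (if m ∈ I then C m else ∅))ᶜ, ?_, hW.inter hD.isOpen_compl, ?_⟩
  · rintro x ⟨hx1, hx2⟩ m hmI hxC
    have hx1' : FlatMor.fibreDimAt f x ≤ ((N : ℕ) : WithBot ℕ∞) := hx1
    have h1 := (hb m x hxC).trans hx1'
    have h2 : m ≤ N := by exact_mod_cast h1
    apply hx2
    simp only [Set.mem_iUnion]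
    refine ⟨m, Finset.mem_coe.mpr (Finset.mem_range.mpr (by omega)), ?_⟩
    rw [if_pos hmI]
    exact hxC
  · refine ⟨hN, ?_⟩
    simp only [Set.mem_compl_iff, Set.mem_iUnion, not_exists]
    intro m _ hm
    by_cases hmI : m ∈ I
    · rw [if_pos hmI] at hm
      exact hx₀ m hmI hm
    · rw [if_neg hmI] at hm
      exact hm

open Classical in
/-- the same on the base of a proper morphism. -/
theorem isOpen_forall_notMem_image [IsProper f] (C : ℕ → Set X) (hC : ∀ m, IsClosed (C m))
    (hb : ∀ m x, x ∈ C m → (m : WithBot ℕ∞) ≤ FlatMor.fibreDimAt f x) (I : Set ℕ) :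
    IsOpen {y : Y | ∀ m ∈ I, y ∉ f.base '' C m} := by
  rw [isOpen_iff_forall_mem_open]
  intro y₀ hy₀
  have hlt := Groth.Agent.Lib.Helper3.DimCons.fibre_dim_lt_top f y₀
  obtain ⟨N, hN⟩ : ∃ N : ℕ, topologicalKrullDim ↥(f.fiber y₀) ≤ (N : WithBot ℕ∞) := by
    generalize topologicalKrullDim ↥(f.fiber y₀) = D at hlt
    induction D with
    | bot => exact ⟨0, bot_le⟩
    | coe d =>
      induction d using ENat.recTopCoe with
      | top => exact absurd hlt (lt_irrefl _)
      | coe n => exact ⟨n, le_rfl⟩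
  have hW := Groth.Agent.S0403.result f ((N : ℕ) : WithBot ℕ∞)
  have hcl : ∀ m, IsClosed (f.base '' C m) := fun m => f.isClosedMap _ (hC m)
  have hD : IsClosed (⋃ m ∈ Finset.range (N + 1), (if m ∈ I then f.base '' C m else ∅)) := by
    refine Set.Finite.isClosed_biUnion (Finset.finite_toSet _) ?_
    intro m _
    split_ifs
    · exact hcl m
    · exact isClosed_empty
  refine ⟨{y | topologicalKrullDim ↥(f.fiber y) ≤ ((N : ℕ) : WithBot ℕ∞)} ∩
    (⋃ m ∈ Finset.range (N + 1), (if m ∈ I then f.base '' C m else ∅))ᶜ, ?_,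
    hW.inter hD.isOpen_compl, ?_⟩
  · rintro y ⟨hy1, hy2⟩ m hmI ⟨x, hxC, rfl⟩
    have hy1' : topologicalKrullDim ↥(f.fiber (f.base x)) ≤ ((N : ℕ) : WithBot ℕ∞) := hy1
    have h0 : FlatMor.fibreDimAt f x ≤ topologicalKrullDim ↥(f.fiber (f.base x)) :=
      Groth.Agent.Lib.Helper7.TopDim.localDim_le_dim _
    have h1 := ((hb m x hxC).trans h0).trans hy1'
    have h2 : m ≤ N := by exact_mod_cast h1
    apply hy2
    simp only [Set.mem_iUnion]
    refine ⟨m, Finset.mem_coe.mpr (Finset.mem_range.mpr (by omega)), ?_⟩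
    rw [if_pos hmI]
    exact ⟨x, hxC, rfl⟩
  · refine ⟨hN, ?_⟩
    simp only [Set.mem_compl_iff, Set.mem_iUnion, not_exists]
    intro m _ hm
    by_cases hmI : m ∈ I
    · rw [if_pos hmI] at hm
      exact hy₀ m hmI hm
    · rw [if_neg hmI] at hm
      exact hm

end LocFin

section Main

variable [LocallyOfFinitePresentation f] (F : X.Modules) (hF : CohB1.IsFP F)
  (hflat : FlatMod.IsFlatOver f F)

/-- the closed set of points lying on the closure of an associated point of dimension `m` of their
fibre. -/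
def Cset (m : ℕ) : Set X := {x | HasGen f (Kset f F m) x m}

/-- the closed set of points lying on the closure of an embedded associated point of dimension `m`
of their fibre. -/
def Eset (m : ℕ) : Set X := {x | HasGen f (Lset f F m) x m}

include hF hflat in
theorem isClosed_Cset (m : ℕ) : IsClosed (Cset f F m) :=
  isClosed_hasGen f _ (isClosed_Kset f F hF hflat m) m

include hF hflat in
theorem isClosed_Eset (m : ℕ) : IsClosed (Eset f F m) :=
  isClosed_hasGen f _ (isClosed_Lset f F hF hflat m) m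

theorem le_fibreDimAt_of_mem_Cset (m : ℕ) (x : X) (hx : x ∈ Cset f F m) :
    (m : WithBot ℕ∞) ≤ FlatMor.fibreDimAt f x :=
  HasGen.le_fibreDimAt f hx

theorem le_fibreDimAt_of_mem_Eset (m : ℕ) (x : X) (hx : x ∈ Eset f F m) :
    (m : WithBot ℕ∞) ≤ FlatMor.fibreDimAt f x :=
  HasGen.le_fibreDimAt f hx

include hF in
theorem mem_Cset_iff (x : X) (m : ℕ) :
    x ∈ Cset f F m ↔
      ∃ w ∈ AssSch.Ass (fibMod f F (f.base x)),
        f.asFiber x ∈ closure ({w} : Set ↥(f.fiber (f.base x))) ∧
        topologicalKrullDim ↥(closure ({w} : Set ↥(f.fiber (f.base x)))) = (m : WithBot ℕ∞) := by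
  rw [← hasGen_Kset_iff f F hF (f.base x) (f.asFiber x) m, f.fiberι_asFiber x]
  rfl

include hF in
theorem mem_Eset_iff (x : X) (m : ℕ) :
    x ∈ Eset f F m ↔
      ∃ w ∈ AssSch.Ass (fibMod f F (f.base x)),
        f.asFiber x ∈ closure ({w} : Set ↥(f.fiber (f.base x))) ∧
        topologicalKrullDim ↥(closure ({w} : Set ↥(f.fiber (f.base x)))) = (m : WithBot ℕ∞) ∧
        ∃ w' ∈ AssSch.Ass (fibMod f F (f.base x)),
          w ∈ closure ({w'} : Set ↥(f.fiber (f.base x))) ∧ w' ≠ w := by
  rw [← hasGen_Lset_iff f F hF (f.base x) (f.asFiber x) m, f.fiberι_asFiber x]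
  rfl

include hF in
theorem fiberι_mem_Cset (y : Y) (w : ↥(f.fiber y)) (hw : w ∈ AssSch.Ass (fibMod f F y)) :
    (f.fiberι y).base w ∈ Cset f F (fdl f y w) := by
  change HasGen f (Kset f F (fdl f y w)) ((f.fiberι y).base w) (fdl f y w)
  rw [hasGen_Kset_iff f F hF]
  exact ⟨w, hw, subset_closure rfl, dim_closure_eq_fdl f y w⟩

include hF in
theorem fiberι_mem_Eset (y : Y) (w w' : ↥(f.fiber y)) (hw : w ∈ AssSch.Ass (fibMod f F y))
    (hw' : w' ∈ AssSch.Ass (fibMod f F y)) (hsp : w' ⤳ w) (hne : w' ≠ w) :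
    (f.fiberι y).base w ∈ Eset f F (fdl f y w) := by
  change HasGen f (Lset f F (fdl f y w)) ((f.fiberι y).base w) (fdl f y w)
  rw [hasGen_Lset_iff f F hF]
  exact ⟨w, hw, subset_closure rfl, dim_closure_eq_fdl f y w, w', hw', hsp.mem_closure, hne⟩

include hF hflat in
/-- **EGA IV 12.1.1 (i)**: the set of points `x` such that every associated point of the fibre
through `x` specializing to `x` has dimension in `Φ` is open. -/
theorem isOpen_assDims_through (Φ : Finset ℕ) :
    IsOpen {x : X | ∀ z ∈ AssSch.Ass (fibMod f F (f.base x)),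
      f.asFiber x ∈ closure ({z} : Set ↥(f.fiber (f.base x))) →
      ∃ n ∈ Φ, topologicalKrullDim ↥(closure ({z} : Set ↥(f.fiber (f.base x)))) =
        (n : WithBot ℕ∞)} := by
  have h := isOpen_forall_notMem f (Cset f F) (isClosed_Cset f F hF hflat)
    (le_fibreDimAt_of_mem_Cset f F) {m | m ∉ Φ}
  convert h using 1
  ext x
  constructor
  · intro hx m hm hxC
    obtain ⟨w, hw, hzw, hdim⟩ := (mem_Cset_iff f F hF x m).mp hxC
    obtain ⟨n, hn, hdim'⟩ := hx w hw hzw
    rw [hdim] at hdim'
    have : m = n := by exact_mod_cast hdim'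
    exact hm (this ▸ hn)
  · intro hx w hw hzw
    by_contra hcon
    push Not at hcon
    refine hx (fdl f (f.base x) w) ?_ ((mem_Cset_iff f F hF x _).mpr
      ⟨w, hw, hzw, dim_closure_eq_fdl f _ w⟩)
    intro hmem
    exact hcon _ hmem (dim_closure_eq_fdl f _ w)

include hF hflat in
/-- **EGA IV 12.1.1 (ii)**: the set of points lying on no embedded associated cycle of their fibre
is open. -/
theorem isOpen_not_embedded_through :
    IsOpen {x : X | ∀ z ∈ AssSch.Ass (fibMod f F (f.base x)),
      f.asFiber x ∈ closure ({z} : Set ↥(f.fiber (f.base x))) →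
      ∀ z' ∈ AssSch.Ass (fibMod f F (f.base x)),
        z ∈ closure ({z'} : Set ↥(f.fiber (f.base x))) → z' = z} := by
  have h := isOpen_forall_notMem f (Eset f F) (isClosed_Eset f F hF hflat)
    (le_fibreDimAt_of_mem_Eset f F) Set.univ
  convert h using 1
  ext x
  constructor
  · intro hx m _ hxE
    obtain ⟨w, hw, hzw, -, w', hw', hww', hne⟩ := (mem_Eset_iff f F hF x m).mp hxE
    exact hne (hx w hw hzw w' hw' hww')
  · intro hx w hw hzw w' hw' hww'
    by_contra hne
    exact hx (fdl f (f.base x) w) trivial ((mem_Eset_iff f F hF x _).mpr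
      ⟨w, hw, hzw, dim_closure_eq_fdl f _ w, w', hw', hww', hne⟩)

include hF hflat in
/-- **EGA IV 12.2.1 (i)**: for `f` proper, the set of `y` such that all the associated points of
`F_y` have dimension in `Φ` is open. -/
theorem isOpen_assDims [IsProper f] (Φ : Finset ℕ) :
    IsOpen {y : Y | ∀ z ∈ AssSch.Ass (fibMod f F y), ∃ n ∈ Φ,
      topologicalKrullDim ↥(closure ({z} : Set ↥(f.fiber y))) = (n : WithBot ℕ∞)} := by
  have h := isOpen_forall_notMem_image f (Cset f F) (isClosed_Cset f F hF hflat)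
    (le_fibreDimAt_of_mem_Cset f F) {m | m ∉ Φ}
  convert h using 1
  ext y
  constructor
  · rintro hy m hm ⟨x, hxC, rfl⟩
    obtain ⟨w, hw, -, hdim⟩ := (mem_Cset_iff f F hF x m).mp hxC
    obtain ⟨n, hn, hdim'⟩ := hy w hw
    rw [hdim] at hdim'
    have : m = n := by exact_mod_cast hdim'
    exact hm (this ▸ hn)
  · intro hy w hw
    by_contra hcon
    push Not at hcon
    refine hy (fdl f y w) ?_ ⟨_, fiberι_mem_Cset f F hF y w hw, base_fiberι f y w⟩
    intro hmem
    exact hcon _ hmem (dim_closure_eq_fdl f _ w)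

include hF hflat in
/-- for `f` proper, the set of `y` such that `F_y` has no embedded associated points is open. -/
theorem isOpen_noEmbedded [IsProper f] :
    IsOpen {y : Y | AssSch.NoEmbedded (fibMod f F y)} := by
  have h := isOpen_forall_notMem_image f (Eset f F) (isClosed_Eset f F hF hflat)
    (le_fibreDimAt_of_mem_Eset f F) Set.univ
  convert h using 1
  ext y
  constructor
  · rintro hy m _ ⟨x, hxE, rfl⟩
    obtain ⟨w, hw, -, -, w', hw', hww', hne⟩ := (mem_Eset_iff f F hF x m).mp hxE
    exact hne (hy w hw w' hw' (specializes_iff_mem_closure.mpr hww')).symm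
  · intro hy w hw w' hw' hsp
    by_contra hne
    exact hy (fdl f y w) trivial
      ⟨_, fiberι_mem_Eset f F hF y w w' hw hw' hsp (fun h => hne h.symm), base_fiberι f y w⟩

end Main

end Groth.Agent.Lib.Helper14.FibAssD
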