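import Mathlib
import Groth.Agent.Lib.Helper14ConsGenA
import Groth.Agent.Lib.Helper14FibAssD

/-!
# Locally constructible subsets of schemes: complements, local finiteness, retrocompactness
(helper14)
-/

set_option autoImplicit false
set_option linter.unusedVariables false
set_option linter.unusedSectionVars false
set_option linter.style.haveILetI false
set_option maxHeartbeats 400000

universe u

open CategoryTheory Limits AlgebraicGeometry TopologicalSpace Topology
open scoped Set.Notation

namespace Groth.Agent.Lib.Helper14.ConsGenB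

open Groth.Agent.Lib.Helper4.DimFormula Groth.Agent.Lib.Helper4.VarDim
  Groth.Agent.Lib.Helper4.FibDim
open Groth.Agent.Lib.Helper14.FibAssA Groth.Agent.Lib.Helper14.ConsGenA
  Groth.Agent.Lib.Helper14.FibAssD

section Top

variable {α : Type*} [TopologicalSpace α]

theorem isLocallyConstructible_compl {s : Set α} (hs : IsLocallyConstructible s) :
    IsLocallyConstructible sᶜ := by
  intro x
  obtain ⟨U, hxU, hU, H⟩ := hs x
  refine ⟨U, hxU, hU, ?_⟩
  have : U ↓∩ sᶜ = (U ↓∩ s)ᶜ := rfl
  rw [this]
  exact H.compl

theorem isLocallyConstructible_sdiff {s t : Set α} (hs : IsLocallyConstructible s)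
    (ht : IsLocallyConstructible t) : IsLocallyConstructible (s \ t) := by
  rw [Set.sdiff_eq]
  exact hs.inter (isLocallyConstructible_compl ht)

/-- two embeddings with the same range pull back the same subsets to constructible subsets. -/
theorem isConstructible_preimage_of_range_eq {A B : Type*} [TopologicalSpace A]
    [TopologicalSpace B] (g₁ : A → α) (g₂ : B → α) (h₁ : IsEmbedding g₁) (h₂ : IsEmbedding g₂)
    (hr : Set.range g₁ = Set.range g₂) (s : Set α) (h : IsConstructible (g₂ ⁻¹' s)) :
    IsConstructible (g₁ ⁻¹' s) := by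
  let e₁ : A ≃ₜ Set.range g₁ := h₁.toHomeomorph
  let e₂ : B ≃ₜ Set.range g₂ := h₂.toHomeomorph
  let e : A ≃ₜ B := (e₁.trans (Homeomorph.setCongr hr)).trans e₂.symm
  have he : ∀ a : A, g₂ (e a) = g₁ a := by
    intro a
    have h3 : e₂ (e a) = (Homeomorph.setCongr hr) (e₁ a) := e₂.apply_symm_apply _
    have h4 := congrArg Subtype.val h3
    exact h4
  have : g₁ ⁻¹' s = e ⁻¹' (g₂ ⁻¹' s) := by
    ext a
    simp only [Set.mem_preimage]
    rw [he a]
  rw [this]
  exact h.preimage_of_isOpenEmbedding e.isOpenEmbedding

end Top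

section Sch

variable {X : Scheme.{u}}

/-- a locally constructible subset of a scheme meets every affine open in a constructible set of
its spectrum. -/
theorem isConstructible_fromSpec_preimage {s : Set X} (hs : IsLocallyConstructible s)
    {U : X.Opens} (hU : IsAffineOpen U) : IsConstructible (hU.fromSpec.base ⁻¹' s) :=
  (hs.preimage_of_isOpenEmbedding hU.fromSpec.isOpenEmbedding).isConstructible

/-- a locally constructible subset of a scheme is retrocompact. -/
theorem isRetrocompact_of_isLocallyConstructible {s : Set X} (hs : IsLocallyConstructible s) :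
    IsRetrocompact s := by
  intro W hWc hWo
  obtain ⟨S, hS, rfl⟩ := isCompact_and_isOpen_iff_finite_and_eq_biUnion_affineOpens.mp ⟨hWc, hWo⟩
  rw [Set.inter_iUnion₂]
  refine hS.isCompact_biUnion fun U _ => ?_
  have h1 := isCompact_of_isConstructible (R := Γ(X, U.1))
    (isConstructible_fromSpec_preimage hs U.2)
  have h2 := h1.image U.2.fromSpec.continuous
  have h3 : U.2.fromSpec.base '' (U.2.fromSpec.base ⁻¹' s) = s ∩ (U.1 : Set X) := by
    rw [Set.image_preimage_eq_inter_range, U.2.range_fromSpec]
  rw [← h3]
  exact h2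

end Sch

section Fib

variable {X Y : Scheme.{u}} (f : X ⟶ Y) [LocallyOfFinitePresentation f]

theorem isLocallyConstructible_setOf_fibreDimAt_le (N : ℕ) :
    IsLocallyConstructible {x : X | FlatMor.fibreDimAt f x ≤ ((N : ℕ) : WithBot ℕ∞)} :=
  (Groth.Agent.S9355.result f N).isLocallyConstructible (Groth.Agent.S0402.result f N)

open Classical in
/-- a family of locally constructible sets `C m` whose points have fibre dimension at least `m`
is locally finite: the set of points avoiding a given subfamily is locally constructible. -/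
theorem isLocallyConstructible_forall_notMem (C : ℕ → Set X)
    (hC : ∀ m, IsLocallyConstructible (C m))
    (hb : ∀ m x, x ∈ C m → (m : WithBot ℕ∞) ≤ FlatMor.fibreDimAt f x) (I : Set ℕ) :
    IsLocallyConstructible {x : X | ∀ m ∈ I, x ∉ C m} := by
  let Uc : ℕ → X.Opens := fun N =>
    ⟨{x : X | FlatMor.fibreDimAt f x ≤ ((N : ℕ) : WithBot ℕ∞)}, Groth.Agent.S0402.result f N⟩
  have hcov : IsOpenCover Uc := by
    rw [IsOpenCover, eq_top_iff]
    intro x _
    obtain ⟨N, hN⟩ := exists_nat_fibreDimAt_le f x
    exact Opens.mem_iSup.mpr ⟨N, hN⟩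
  refine IsLocallyConstructible.of_isOpenCover' hcov fun N => ?_
  have heq : {x : X | ∀ m ∈ I, x ∉ C m} ∩ (Uc N : Set X) =
      (⋂ m ∈ (Finset.range (N + 1) : Set ℕ), (if m ∈ I then (C m)ᶜ else Set.univ)) ∩
        (Uc N : Set X) := by
    ext x
    simp only [Set.mem_inter_iff, Set.mem_ofPred_eq, Set.mem_iInter]
    constructor
    · rintro ⟨h1, h2⟩
      refine ⟨fun m _ => ?_, h2⟩
      by_cases hmI : m ∈ I
      · rw [if_pos hmI]
        exact h1 m hmI
      · rw [if_neg hmI]
        trivial
    · rintro ⟨h1, h2⟩
      refine ⟨fun m hmI hxC => ?_, h2⟩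
      have h2' : FlatMor.fibreDimAt f x ≤ ((N : ℕ) : WithBot ℕ∞) := h2
      have h3 := (hb m x hxC).trans h2'
      have h4 : m ≤ N := by exact_mod_cast h3
      have h5 := h1 m (Finset.mem_coe.mpr (Finset.mem_range.mpr (by omega)))
      rw [if_pos hmI] at h5
      exact h5 hxC
  rw [heq]
  refine IsLocallyConstructible.inter ?_ (isLocallyConstructible_setOf_fibreDimAt_le f N)
  have hfin : ∀ (T : Finset ℕ), IsLocallyConstructible
      (⋂ m ∈ (T : Set ℕ), (if m ∈ I then (C m)ᶜ else Set.univ)) := by
    intro T
    induction T using Finset.induction_on with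
    | empty =>
      simp only [Finset.coe_empty, Set.mem_empty_iff_false, Set.iInter_of_empty, Set.iInter_univ]
      exact IsLocallyConstructible.univ
    | insert a T ha ih =>
      rw [Finset.coe_insert, Set.biInter_insert]
      refine IsLocallyConstructible.inter ?_ ih
      split_ifs
      · exact isLocallyConstructible_compl (hC a)
      · exact IsLocallyConstructible.univ
  exact hfin _

end Fib

end Groth.Agent.Lib.Helper14.ConsGenB
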