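import Mathlib
import Groth.Agent.Lib.Helper14ConsGenB

/-!
# Constructibility on the base of the fibrewise dimension of a constructible subset (helper14)

For `f : X ⟶ Y` of finite presentation and `K ⊆ X` locally constructible, the set `D_n(K)` of
points `y` of `Y` such that `K ∩ f⁻¹(y)` contains a point whose residue field has transcendence
degree at least `n` over `κ(y)` (i.e. `dim (K ∩ f⁻¹(y)) ≥ n`) is locally constructible in `Y`.
-/

set_option autoImplicit false
set_option linter.unusedVariables false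
set_option linter.unusedSectionVars false
set_option linter.style.haveILetI false
set_option maxHeartbeats 400000

universe u

open CategoryTheory Limits AlgebraicGeometry TopologicalSpace Topology
open scoped Set.Notation

namespace Groth.Agent.Lib.Helper14.ConsGenC

open Groth.Agent.Lib.Helper4.DimFormula Groth.Agent.Lib.Helper4.VarDim
  Groth.Agent.Lib.Helper4.FibDim
open Groth.Agent.Lib.Helper14.FibAssA Groth.Agent.Lib.Helper14.ConsGenA
  Groth.Agent.Lib.Helper14.ConsGenB

variable {X Y : Scheme.{u}}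

/-- `D_n(K)`: the points of the base over which `K` contains a point of transcendence degree at
least `n`. -/
def DimImage (f : X ⟶ Y) [LocallyOfFiniteType f] (K : Set X) (n : ℕ) : Set Y :=
  {y | ∃ x ∈ K, f.base x = y ∧ n ≤ ptTrdeg f x}

theorem ptTrdeg_congr {f g : X ⟶ Y} [LocallyOfFiniteType f] [LocallyOfFiniteType g] (h : f = g)
    (x : X) : ptTrdeg f x = ptTrdeg g x := by
  subst h
  rfl

section Basic

variable (f : X ⟶ Y) [LocallyOfFiniteType f]

theorem dimImage_union (K₁ K₂ : Set X) (n : ℕ) :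
    DimImage f (K₁ ∪ K₂) n = DimImage f K₁ n ∪ DimImage f K₂ n := by
  ext y
  constructor
  · rintro ⟨x, hx | hx, h1, h2⟩
    · exact Or.inl ⟨x, hx, h1, h2⟩
    · exact Or.inr ⟨x, hx, h1, h2⟩
  · rintro (⟨x, hx, h1, h2⟩ | ⟨x, hx, h1, h2⟩)
    · exact ⟨x, Or.inl hx, h1, h2⟩
    · exact ⟨x, Or.inr hx, h1, h2⟩

theorem dimImage_mono {K₁ K₂ : Set X} (h : K₁ ⊆ K₂) (n : ℕ) :
    DimImage f K₁ n ⊆ DimImage f K₂ n := by
  rintro y ⟨x, hx, h1, h2⟩
  exact ⟨x, h hx, h1, h2⟩

theorem dimImage_eq_image_hasGen (K : Set X) (n : ℕ) :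
    DimImage f K n = f.base '' {x | HasGen f K x n} := by
  ext y
  constructor
  · rintro ⟨x, hx, h1, h2⟩
    exact ⟨x, ⟨x, hx, rfl, specializes_rfl, h2⟩, h1⟩
  · rintro ⟨x, ⟨x', hx', h1, -, h2⟩, rfl⟩
    exact ⟨x', hx', h1, h2⟩

/-- restriction of the source along a preimmersion. -/
theorem dimImage_comp_of_isPreimmersion {Z : Scheme.{u}} (ι : Z ⟶ X) [IsPreimmersion ι]
    [LocallyOfFiniteType ι] (K : Set X) (n : ℕ) :
    DimImage (ι ≫ f) (ι.base ⁻¹' K) n = DimImage f (K ∩ Set.range ι.base) n := by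
  ext y
  constructor
  · rintro ⟨z, hz, h1, h2⟩
    rw [ptTrdeg_comp_of_isPreimmersion ι f z] at h2
    exact ⟨ι.base z, ⟨hz, z, rfl⟩, h1, h2⟩
  · rintro ⟨x, ⟨hx, z, rfl⟩, h1, h2⟩
    refine ⟨z, hx, h1, ?_⟩
    rw [ptTrdeg_comp_of_isPreimmersion ι f z]
    exact h2

end Basic

section Restrict

variable (f : X ⟶ Y) [LocallyOfFiniteType f]

theorem ptTrdeg_morphismRestrict (V : Y.Opens) (x : ↥(f ⁻¹ᵁ V)) :
    ptTrdeg (f ∣_ V) x = ptTrdeg f ((f ⁻¹ᵁ V).ι.base x) := by
  have h1 := ptTrdeg_congr (morphismRestrict_ι f V) x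
  rw [ptTrdeg_comp (f ∣_ V) V.ι x, ptTrdeg_eq_zero_of_isPreimmersion V.ι, zero_add,
    ptTrdeg_comp_of_isPreimmersion (f ⁻¹ᵁ V).ι f x] at h1
  exact h1

/-- restriction over an open subset of the base. -/
theorem dimImage_morphismRestrict (V : Y.Opens) (K : Set X) (n : ℕ) :
    DimImage (f ∣_ V) ((f ⁻¹ᵁ V).ι.base ⁻¹' K) n = (V : Set Y) ↓∩ DimImage f K n := by
  ext y
  constructor
  · rintro ⟨x, hx, h1, h2⟩
    have h2' : n ≤ ptTrdeg f ((f ⁻¹ᵁ V).ι.base x) := (ptTrdeg_morphismRestrict f V x) ▸ h2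
    refine ⟨(f ⁻¹ᵁ V).ι.base x, hx, ?_, h2'⟩
    have h3 : V.ι.base ((f ∣_ V).base x) = f.base ((f ⁻¹ᵁ V).ι.base x) :=
      congrArg (fun g : (f ⁻¹ᵁ V).toScheme ⟶ Y => g.base x) (morphismRestrict_ι f V)
    rw [← h3, h1]
    rfl
  · rintro ⟨x, hx, h1, h2⟩
    have hxV : x ∈ f ⁻¹ᵁ V := by
      change f.base x ∈ V
      rw [h1]
      exact y.2
    refine ⟨⟨x, hxV⟩, hx, ?_, ?_⟩
    · have h3 : V.ι.base ((f ∣_ V).base ⟨x, hxV⟩) = f.base ((f ⁻¹ᵁ V).ι.base ⟨x, hxV⟩) :=
        congrArg (fun g : (f ⁻¹ᵁ V).toScheme ⟶ Y => g.base ⟨x, hxV⟩) (morphismRestrict_ι f V)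
      apply Subtype.ext
      refine Eq.trans h3 ?_
      exact h1
    · exact (ptTrdeg_morphismRestrict f V ⟨x, hxV⟩).symm ▸ h2

end Restrict

section Main

/-- closed case: `D_n(K)` is the image of the Chevalley locus of `K`. -/
theorem isLocallyConstructible_dimImage_of_isClosed (g : X ⟶ Y) [LocallyOfFinitePresentation g]
    [QuasiCompact g] (K : Set X) (hK : IsClosed K) (hKc : IsLocallyConstructible K) (n : ℕ) :
    IsLocallyConstructible (DimImage g K n) := by
  rw [dimImage_eq_image_hasGen]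
  exact g.isLocallyConstructible_image (isLocallyConstructible_hasGen g K hK hKc n)

/-- the case of an affine base. -/
theorem isLocallyConstructible_dimImage_of_isAffine (f : X ⟶ Y) [LocallyOfFinitePresentation f]
    [IsAffine Y] [CompactSpace X] [QuasiSeparatedSpace X] (K : Set X) (hK : IsConstructible K)
    (n : ℕ) : IsLocallyConstructible (DimImage f K n) := by
  haveI : Nonempty X.affineOpens := ⟨⟨⊥, isAffineOpen_bot X⟩⟩
  have hbasis : IsTopologicalBasis (Set.range (fun U : X.affineOpens => (U.1 : Set X))) := by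
    have h := X.isBasis_affineOpens
    unfold Opens.IsBasis at h
    convert h using 1
    ext s
    constructor
    · rintro ⟨U, rfl⟩
      exact ⟨U.1, U.2, rfl⟩
    · rintro ⟨U, hU, rfl⟩
      exact ⟨⟨U, hU⟩, rfl⟩
  induction K, hK using IsConstructible.induction_of_isTopologicalBasis
      (fun U : X.affineOpens => (U.1 : Set X)) hbasis with
  | isCompact_basis U => exact U.2.isCompact
  | sdiff U s hs =>
    set K : Set X := (U.1 : Set X) \ ⋃ j ∈ s, (j.1 : Set X) with hKdef
    have hKcons : IsConstructible K :=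
      (U.2.isCompact.isConstructible U.1.2).sdiff
        (.biUnion hs fun j _ => j.2.isCompact.isConstructible j.1.2)
    haveI : IsAffine U.1.toScheme := U.2
    haveI : QuasiCompact (U.1.ι ≫ f) := quasiCompact_of_compactSpace _
    have h1 := dimImage_comp_of_isPreimmersion f U.1.ι K n
    have h2 : K ∩ Set.range U.1.ι.base = K := by
      rw [Set.inter_eq_left, Scheme.Opens.range_ι]
      exact Set.sdiff_subset
    rw [h2] at h1
    rw [← h1]
    refine isLocallyConstructible_dimImage_of_isClosed (U.1.ι ≫ f) _ ?_ ?_ n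
    · have h3 : U.1.ι.base ⁻¹' K = (U.1.ι.base ⁻¹' (⋃ j ∈ s, (j.1 : Set X)))ᶜ := by
        ext u
        simp only [hKdef, Set.mem_preimage, Set.mem_sdiff, Set.mem_compl_iff]
        constructor
        · exact fun h => h.2
        · intro h
          refine ⟨?_, h⟩
          have : U.1.ι.base u ∈ Set.range U.1.ι.base := ⟨u, rfl⟩
          rw [Scheme.Opens.range_ι] at this
          exact this
      rw [h3]
      refine IsOpen.isClosed_compl ?_
      refine IsOpen.preimage U.1.ι.continuous ?_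
      exact isOpen_biUnion fun j _ => j.1.2
    · exact hKcons.isLocallyConstructible.preimage_of_isOpenEmbedding U.1.ι.isOpenEmbedding
  | union s hs t ht Hs Ht =>
    rw [dimImage_union]
    exact Hs.union Ht

/-- **Constructibility of `D_n(K)`** for a morphism of finite presentation. -/
theorem isLocallyConstructible_dimImage (f : X ⟶ Y) [LocallyOfFinitePresentation f]
    [QuasiCompact f] [QuasiSeparated f] (K : Set X) (hK : IsLocallyConstructible K) (n : ℕ) :
    IsLocallyConstructible (DimImage f K n) := by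
  refine IsLocallyConstructible.of_isOpenCover Y.affineCover.isOpenCover_opensRange fun i => ?_
  set V : Y.Opens := (Y.affineCover.f i).opensRange with hVdef
  have hV : IsAffineOpen V := isAffineOpen_opensRange (Y.affineCover.f i)
  haveI : IsAffine V.toScheme := hV
  haveI : CompactSpace (f ⁻¹ᵁ V).toScheme :=
    isCompact_iff_compactSpace.mp (f.isCompact_preimage hV.isCompact)
  haveI : QuasiSeparatedSpace (f ⁻¹ᵁ V).toScheme :=
    quasiSeparatedSpace_of_quasiSeparated (f ∣_ V)
  rw [← dimImage_morphismRestrict f V K n]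
  refine isLocallyConstructible_dimImage_of_isAffine (f ∣_ V) _ ?_ n
  exact (hK.preimage_of_isOpenEmbedding (f ⁻¹ᵁ V).ι.isOpenEmbedding).isConstructible

end Main

end Groth.Agent.Lib.Helper14.ConsGenC
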