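import Mathlib.LinearAlgebra.Matrix.Determinant.Basic
import Mathlib.LinearAlgebra.Matrix.Adjugate
import Mathlib.LinearAlgebra.Matrix.Block
import Mathlib.LinearAlgebra.Multilinear.Basic
import Mathlib.RingTheory.Ideal.Operations
import Mathlib.RingTheory.Ideal.Basic

/-!
# Helper25Minors: determinantal ideals of a relation module and direct summands (helper25)

`det_submatrix_mul_eq_sum` (weak Cauchy–Binet), `MultilinearMap.map_mem_of_span`,
`rowMinor`, `minorIdeal`, `exists_retraction_of_minorIdeal` (if the `(p+1)`-minors of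
`K ⊆ Rⁿ` vanish and the `p`-minors generate the unit ideal, `K` is a direct summand),
`exists_retraction_of_minorIdeal_trivial`.
-/

set_option autoImplicit false
universe u v w w'

namespace Groth.Agent.Lib.Helper25

open Matrix

section CauchyBinet

variable {R : Type u} [CommRing R] {p n : ℕ}

/-- Weak Cauchy–Binet: the minors of `Y * Z` are combinations of the minors of `Y`. -/
theorem det_submatrix_mul_eq_sum (Y : Matrix (Fin p) (Fin n) R) (Z : Matrix (Fin n) (Fin n) R)
    (σ : Fin p → Fin n) :
    ((Y * Z).submatrix id σ).det =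
      ∑ τ : Fin p → Fin n, (∏ t, Z (τ t) (σ t)) * (Y.submatrix id τ).det := by
  rw [← Matrix.det_transpose]
  have h1 : ((Y * Z).submatrix id σ)ᵀ =
      Matrix.of (fun t : Fin p => ∑ j : Fin n, Z j (σ t) • (fun s : Fin p => Y s j)) := by
    ext t s
    simp only [Matrix.transpose_apply, Matrix.submatrix_apply, id_eq, Matrix.mul_apply,
      Matrix.of_apply, Finset.sum_apply, Pi.smul_apply, smul_eq_mul]
    exact Finset.sum_congr rfl (fun j _ => mul_comm _ _)
  rw [h1]
  have h2 := (Matrix.detRowAlternating (R := R) (n := Fin p)).toMultilinearMap.map_sum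
    (fun (t : Fin p) (j : Fin n) => Z j (σ t) • (fun s : Fin p => Y s j))
  change Matrix.detRowAlternating (R := R) (n := Fin p)
    (fun t : Fin p => ∑ j : Fin n, Z j (σ t) • (fun s : Fin p => Y s j)) = _
  erw [h2]
  refine Finset.sum_congr rfl (fun τ _ => ?_)
  have h3 := (Matrix.detRowAlternating (R := R) (n := Fin p)).toMultilinearMap.map_smul_univ
    (fun t : Fin p => Z (τ t) (σ t)) (fun (t : Fin p) => (fun s : Fin p => Y s (τ t)))
  erw [h3]
  rw [smul_eq_mul]
  congr 1
  change Matrix.det (Matrix.of (fun (t : Fin p) (s : Fin p) => Y s (τ t))) = _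
  rw [← Matrix.det_transpose]
  rfl

end CauchyBinet

section MultiSpan

variable {R : Type u} [CommSemiring R] {ι : Type v} [Fintype ι] [DecidableEq ι]
  {E : Type w} [AddCommMonoid E] [Module R E] {F : Type w'} [AddCommMonoid F] [Module R F]

/-- A multilinear map sends tuples in the span of `G` into a submodule `S` as soon as it does
so for tuples in `G`. -/
theorem MultilinearMap.map_mem_of_span (f : MultilinearMap R (fun _ : ι => E) F)
    (S : Submodule R F) (G : Set E) (hG : ∀ g : ι → E, (∀ i, g i ∈ G) → f g ∈ S)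
    (v : ι → E) (hv : ∀ i, v i ∈ Submodule.span R G) : f v ∈ S := by
  classical
  have key : ∀ (s : Finset ι) (v : ι → E), (∀ i ∈ s, v i ∈ Submodule.span R G) →
      (∀ i, i ∉ s → v i ∈ G) → f v ∈ S := by
    intro s
    induction s using Finset.induction_on with
    | empty =>
      intro v _ h2
      exact hG v (fun i => h2 i (Finset.notMem_empty i))
    | insert i₀ s hi₀ ih =>
      intro v h1 h2
      have hmem : v i₀ ∈ Submodule.span R G := h1 i₀ (Finset.mem_insert_self i₀ s)
      have hP : ∀ x ∈ Submodule.span R G, f (Function.update v i₀ x) ∈ S := by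
        intro x hx
        induction hx using Submodule.span_induction with
        | mem x hx =>
          apply ih
          · intro i hi
            have hne : i ≠ i₀ := fun h => hi₀ (h ▸ hi)
            rw [Function.update_of_ne hne]
            exact h1 i (Finset.mem_insert_of_mem hi)
          · intro i hi
            by_cases hii : i = i₀
            · subst hii
              rw [Function.update_self]
              exact hx
            · rw [Function.update_of_ne hii]
              exact h2 i (fun h => by
                rcases Finset.mem_insert.mp h with h | h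
                · exact hii h
                · exact hi h)
        | zero => rw [f.map_update_zero]; exact Submodule.zero_mem _
        | add x y _ _ hx hy => rw [f.map_update_add]; exact Submodule.add_mem _ hx hy
        | smul c x _ hx => rw [f.map_update_smul]; exact Submodule.smul_mem _ c hx
      have := hP (v i₀) hmem
      rwa [Function.update_eq_self] at this
  exact key Finset.univ v (fun i _ => hv i) (fun i hi => absurd (Finset.mem_univ i) hi)

end MultiSpan

section Summand

variable {R : Type u} [CommRing R] {n : ℕ}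

/-- The `p × p` minor of the rows `c` at the columns `σ`. -/
def rowMinor {p : ℕ} (c : Fin p → (Fin n → R)) (σ : Fin p → Fin n) : R :=
  (Matrix.of (fun s t => c s (σ t))).det

/-- The ideal generated by the `p × p` minors of matrices with rows in `K`. -/
def minorIdeal (K : Submodule R (Fin n → R)) (p : ℕ) : Ideal R :=
  Ideal.span {x | ∃ (c : Fin p → (Fin n → R)) (σ : Fin p → Fin n), (∀ s, c s ∈ K) ∧
    x = rowMinor c σ}

theorem minorIdeal_zero (K : Submodule R (Fin n → R)) : minorIdeal K 0 = ⊤ := by
  rw [Ideal.eq_top_iff_one]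
  apply Ideal.subset_span
  refine ⟨fun s => s.elim0, fun s => s.elim0, fun s => s.elim0, ?_⟩
  simp [rowMinor]

theorem minorIdeal_succ_self (K : Submodule R (Fin n → R)) : minorIdeal K (n + 1) = ⊥ := by
  rw [eq_bot_iff, minorIdeal, Ideal.span_le]
  rintro x ⟨c, σ, -, rfl⟩
  rw [SetLike.mem_coe, Ideal.mem_bot]
  -- `σ` is not injective
  obtain ⟨t₁, t₂, hne, heq⟩ := Fintype.exists_ne_map_eq_of_card_lt σ (by simp)
  unfold rowMinor
  apply Matrix.det_zero_of_column_eq hne
  intro s
  simp [heq]

end Summand

section Summand2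

variable {R : Type u} [CommRing R] {n : ℕ}

/-- Laplace expansion of a bordered minor whose new row vanishes at the old columns. -/
theorem rowMinor_cons_of_comp_eq_zero {p : ℕ} (c : Fin p → (Fin n → R)) (σ : Fin p → Fin n)
    (w : Fin n → R) (j : Fin n) (hw : ∀ t, w (σ t) = 0) :
    rowMinor (Fin.cons w c : Fin (p + 1) → (Fin n → R)) (Fin.cons j σ : Fin (p + 1) → Fin n) =
      w j * rowMinor c σ := by
  unfold rowMinor
  rw [Matrix.det_succ_row_zero, Fin.sum_univ_succ]
  have h0 : ∀ t : Fin p, (Matrix.of (fun (s : Fin (p + 1)) (t : Fin (p + 1)) =>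
      (Fin.cons w c : Fin (p + 1) → (Fin n → R)) s
        ((Fin.cons j σ : Fin (p + 1) → Fin n) t))) 0 t.succ = 0 := by
    intro t
    simp [hw]
  rw [Finset.sum_eq_zero (fun t _ => by rw [h0 t]; simp), add_zero]
  have h1 : (Matrix.of (fun (s : Fin (p + 1)) (t : Fin (p + 1)) =>
      (Fin.cons w c : Fin (p + 1) → (Fin n → R)) s
        ((Fin.cons j σ : Fin (p + 1) → Fin n) t))).submatrix Fin.succ (Fin.succAbove 0) =
      Matrix.of (fun s t => c s (σ t)) := by
    ext s t
    simp
  rw [h1]
  simp

/-- The partial retraction attached to `p` rows and `p` columns. -/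
noncomputable def minorRetr {p : ℕ} (c : Fin p → (Fin n → R)) (σ : Fin p → Fin n) :
    (Fin n → R) →ₗ[R] (Fin n → R) :=
  ∑ s, (∑ t, (Matrix.adjugate (Matrix.of (fun s t => c s (σ t)))) t s •
    (LinearMap.proj (σ t) : (Fin n → R) →ₗ[R] R)).smulRight (c s)

theorem minorRetr_apply {p : ℕ} (c : Fin p → (Fin n → R)) (σ : Fin p → Fin n) (v : Fin n → R) :
    minorRetr c σ v =
      ∑ s, (∑ t, (Matrix.adjugate (Matrix.of (fun s t => c s (σ t)))) t s * v (σ t)) • c s := by
  simp [minorRetr, LinearMap.sum_apply]

theorem minorRetr_mem {p : ℕ} (K : Submodule R (Fin n → R)) (c : Fin p → (Fin n → R))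
    (hc : ∀ s, c s ∈ K) (σ : Fin p → Fin n) (v : Fin n → R) : minorRetr c σ v ∈ K := by
  rw [minorRetr_apply]
  exact Submodule.sum_mem _ (fun s _ => Submodule.smul_mem _ _ (hc s))

theorem minorRetr_apply_col {p : ℕ} (c : Fin p → (Fin n → R)) (σ : Fin p → Fin n)
    (v : Fin n → R) (t' : Fin p) :
    minorRetr c σ v (σ t') = rowMinor c σ * v (σ t') := by
  rw [minorRetr_apply]
  simp only [Finset.sum_apply, Pi.smul_apply, smul_eq_mul]
  have hadj := Matrix.adjugate_mul (Matrix.of (fun s t => c s (σ t)))
  -- swap the sums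
  calc ∑ s, (∑ t, (Matrix.adjugate (Matrix.of (fun s t => c s (σ t)))) t s * v (σ t)) * c s (σ t')
      = ∑ t, v (σ t) * ∑ s, (Matrix.adjugate (Matrix.of (fun s t => c s (σ t)))) t s *
          (Matrix.of (fun s t => c s (σ t))) s t' := by
        simp only [Finset.sum_mul, Finset.mul_sum]
        rw [Finset.sum_comm]
        refine Finset.sum_congr rfl (fun t _ => Finset.sum_congr rfl (fun s _ => ?_))
        simp only [Matrix.of_apply]
        ring
    _ = ∑ t, v (σ t) * ((Matrix.adjugate (Matrix.of (fun s t => c s (σ t)))) *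
          (Matrix.of (fun s t => c s (σ t)))) t t' := by
        simp only [Matrix.mul_apply]
    _ = rowMinor c σ * v (σ t') := by
        rw [hadj]
        simp only [Matrix.smul_apply, Matrix.one_apply, smul_eq_mul, mul_ite, mul_one, mul_zero]
        rw [Finset.sum_eq_single t']
        · simp [rowMinor, mul_comm]
        · intro t _ ht
          simp [ht]
        · intro h
          exact absurd (Finset.mem_univ t') h

/-- On `K`, the partial retraction is the identity up to the factor `d²`. -/
theorem minorRetr_smul_eq {p : ℕ} (K : Submodule R (Fin n → R))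
    (h2 : minorIdeal K (p + 1) = ⊥) (c : Fin p → (Fin n → R))
    (hc : ∀ s, c s ∈ K) (σ : Fin p → Fin n) (x : Fin n → R) (hx : x ∈ K) :
    rowMinor c σ • minorRetr c σ x = rowMinor c σ • rowMinor c σ • x := by
  set d := rowMinor c σ with hd
  set w : Fin n → R := d • x - minorRetr c σ x with hw
  have hwK : w ∈ K := Submodule.sub_mem _ (Submodule.smul_mem _ _ hx) (minorRetr_mem K c hc σ x)
  have hwσ : ∀ t, w (σ t) = 0 := by
    intro t
    rw [hw, Pi.sub_apply, Pi.smul_apply, minorRetr_apply_col, smul_eq_mul, sub_self]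
  have hzero : ∀ j, w j * d = 0 := by
    intro j
    rw [hd, ← rowMinor_cons_of_comp_eq_zero c σ w j hwσ, ← Ideal.mem_bot, ← h2]
    apply Ideal.subset_span
    refine ⟨Fin.cons w c, Fin.cons j σ, ?_, rfl⟩
    intro s
    refine Fin.cases ?_ (fun s' => ?_) s
    · simpa using hwK
    · simpa using hc s'
  have : d • w = 0 := by
    funext j
    rw [Pi.smul_apply, smul_eq_mul, mul_comm, hzero, Pi.zero_apply]
  rw [hw, smul_sub, sub_eq_zero] at this
  exact this.symm

/-- If the `(p+1)`-minors of `K` vanish and the `p`-minors generate the unit ideal, then `K` is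
a direct summand of `Rⁿ`. -/
theorem exists_retraction_of_minorIdeal {p : ℕ} (K : Submodule R (Fin n → R))
    (h1 : minorIdeal K p = ⊤) (h2 : minorIdeal K (p + 1) = ⊥) :
    ∃ r : (Fin n → R) →ₗ[R] (Fin n → R), (∀ v, r v ∈ K) ∧ ∀ x ∈ K, r x = x := by
  classical
  have hsq := Ideal.span_pow_eq_top _ h1 2
  have h1mem : (1 : R) ∈ Ideal.span ((fun x => x ^ 2) '' {x | ∃ (c : Fin p → (Fin n → R))
      (σ : Fin p → Fin n), (∀ s, c s ∈ K) ∧ x = rowMinor c σ}) := by
    rw [hsq]; trivial
  obtain ⟨N, f, g, hfg⟩ := Submodule.mem_span_set'.mp h1mem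
  have hg : ∀ i : Fin N, ∃ (c : Fin p → (Fin n → R)) (σ : Fin p → Fin n), (∀ s, c s ∈ K) ∧
      (g i : R) = rowMinor c σ ^ 2 := by
    intro i
    obtain ⟨y, ⟨c, σ, hc, rfl⟩, hy⟩ := (g i).2
    exact ⟨c, σ, hc, hy.symm⟩
  choose c σ hc hgi using hg
  refine ⟨∑ i, (f i * rowMinor (c i) (σ i)) • minorRetr (c i) (σ i), ?_, ?_⟩
  · intro v
    rw [LinearMap.sum_apply]
    refine Submodule.sum_mem _ (fun i _ => ?_)
    rw [LinearMap.smul_apply]
    exact Submodule.smul_mem _ _ (minorRetr_mem K (c i) (hc i) (σ i) v)
  · intro x hx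
    rw [LinearMap.sum_apply]
    have : ∀ i, ((f i * rowMinor (c i) (σ i)) • minorRetr (c i) (σ i)) x =
        (f i • (g i : R)) • x := by
      intro i
      rw [LinearMap.smul_apply, mul_smul, minorRetr_smul_eq K h2 (c i) (hc i) (σ i) x hx,
        hgi i, smul_smul, smul_smul, smul_eq_mul]
      congr 1
      ring
    rw [Finset.sum_congr rfl (fun i _ => this i), ← Finset.sum_smul, hfg, one_smul]

/-- If every minor ideal of `K` is trivial, then `K` is a direct summand of `Rⁿ`. -/
theorem exists_retraction_of_minorIdeal_trivial (K : Submodule R (Fin n → R))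
    (h : ∀ p, minorIdeal K p = ⊥ ∨ minorIdeal K p = ⊤) :
    ∃ r : (Fin n → R) →ₗ[R] (Fin n → R), (∀ v, r v ∈ K) ∧ ∀ x ∈ K, r x = x := by
  classical
  have hex : ∃ p, minorIdeal K (p + 1) = ⊥ := ⟨n, minorIdeal_succ_self K⟩
  have hp := Nat.find_spec hex
  rcases Nat.eq_zero_or_pos (Nat.find hex) with h0 | hpos
  · rw [h0] at hp
    exact exists_retraction_of_minorIdeal (p := 0) K (minorIdeal_zero K) hp
  · obtain ⟨q, hq⟩ : ∃ q, Nat.find hex = q + 1 := ⟨Nat.find hex - 1, by omega⟩
    have hmin : ¬ minorIdeal K (q + 1) = ⊥ := Nat.find_min hex (by omega)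
    have htop : minorIdeal K (q + 1) = ⊤ := (h (q + 1)).resolve_left hmin
    rw [hq] at hp
    exact exists_retraction_of_minorIdeal (p := q + 1) K htop hp

end Summand2

end Groth.Agent.Lib.Helper25
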