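import Mathlib
import Groth.Agent.Lib.Helper14FibAssC
import Groth.Agent.Lib.Helper2FPAff
import Groth.Agent.S6284
import Groth.Agent.S6285

/-!
# Associated points of fibre modules, part E: the support of a flat finitely presented module has
open image (helper14)

* `exists_mem_support_comap_eq`: going down for the support of a finite module over a local
  algebra which is flat over the base.
* `exists_generization_support`: for an `f`-flat coherent module `F`, generizations in `Y` of `f x`
  lift to generizations of `x` in the support of `F`.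
* `isOpen_image_support_inter`: for `F` finitely presented and `f`-flat, `f (Supp F ∩ O)` is open
  for every open `O`.
-/

set_option autoImplicit false
set_option linter.unusedVariables false
set_option linter.unusedSectionVars false
set_option linter.style.haveILetI false
set_option maxHeartbeats 400000

universe u

open CategoryTheory Limits AlgebraicGeometry TopologicalSpace Topology TensorProduct

namespace Groth.Agent.Lib.Helper14.FibAssE

open Groth.Agent.Lib.Helper4.DimFormula Groth.Agent.Lib.Helper4.VarDim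

section Ring

/-- **Going down for supports of flat modules.** -/
theorem exists_mem_support_comap_eq {R S : Type u} [CommRing R] [CommRing S] [IsLocalRing R]
    [IsLocalRing S] (φ : R →+* S) [IsLocalHom φ] (N : Type u) [AddCommGroup N] [Module S N]
    [Module.Finite S N] [Nontrivial N]
    (hflat : @Module.Flat R N _ _ (Module.compHom N φ)) (𝔭 : Ideal R) [h𝔭 : 𝔭.IsPrime] :
    ∃ 𝔮 : PrimeSpectrum S, 𝔮 ∈ Module.support S N ∧ 𝔮.asIdeal.comap φ = 𝔭 := by
  letI : Algebra R S := φ.toAlgebra
  letI : Module R N := Module.compHom N φ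
  haveI : IsScalarTower R S N := IsScalarTower.of_algebraMap_smul fun r n => rfl
  haveI : Module.Flat R N := hflat
  haveI : Module.FaithfullyFlat R N := by
    refine ⟨fun m hm htop => ?_⟩
    have hm' : m = IsLocalRing.maximalIdeal R := IsLocalRing.eq_maximalIdeal hm
    have h1 : (IsLocalRing.maximalIdeal S) • (⊤ : Submodule S N) = ⊤ := by
      rw [eq_top_iff]
      intro n _
      have hn : n ∈ (m • (⊤ : Submodule R N)) := by rw [htop]; trivial
      refine Submodule.smul_induction_on hn ?_ ?_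
      · intro r hr n' _
        have h2 : r • n' = φ r • n' := rfl
        rw [h2]
        refine Submodule.smul_mem_smul ?_ trivial
        rw [hm'] at hr
        exact map_nonunit φ r hr
      · intro a b ha hb
        exact add_mem ha hb
    have h2 : (⊤ : Submodule S N) = ⊥ :=
      Submodule.eq_bot_of_le_smul_of_le_jacobson_bot (IsLocalRing.maximalIdeal S) ⊤
        Module.Finite.fg_top (by rw [h1]) (IsLocalRing.maximalIdeal_le_jacobson _)
    exact top_ne_bot h2
  set κ := 𝔭.ResidueField with hκ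
  haveI : Nontrivial (N ⊗[R] κ) := Module.FaithfullyFlat.lTensor_nontrivial R N κ
  set S' := S ⊗[R] κ with hS'
  let e1 : S' ⊗[S] N ≃ₗ[S] N ⊗[S] S' := TensorProduct.comm S S' N
  let e2 : N ⊗[S] S' ≃ₗ[S] N ⊗[R] κ := TensorProduct.AlgebraTensorModule.cancelBaseChange R S S N κ
  haveI : Nontrivial (S' ⊗[S] N) := (e1.trans e2).toEquiv.nontrivial
  obtain ⟨𝔔, h𝔔⟩ := Module.nonempty_support_of_nontrivial (R := S') (M := S' ⊗[S] N)
  rw [Groth.Agent.S6284.result (R := S) (R' := S') N] at h𝔔
  refine ⟨PrimeSpectrum.comap (algebraMap S S') 𝔔, h𝔔, ?_⟩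
  have key : ∀ r : R, (algebraMap S S') (φ r) = (1 : S) ⊗ₜ[R] (algebraMap R κ r) := by
    intro r
    rw [Algebra.TensorProduct.algebraMap_apply]
    have h3 : (algebraMap S S) (φ r) = r • (1 : S) := by
      rw [Algebra.smul_def, mul_one]
      rfl
    rw [h3, TensorProduct.smul_tmul, Algebra.algebraMap_eq_smul_one]
  ext r
  change (algebraMap S S') (φ r) ∈ 𝔔.asIdeal ↔ r ∈ 𝔭
  rw [key]
  constructor
  · intro hmem
    by_contra hr
    have hu : algebraMap R κ r ≠ 0 := by
      rw [Ne, Ideal.algebraMap_residueField_eq_zero]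
      exact hr
    have h4 : ((1 : S) ⊗ₜ[R] (algebraMap R κ r)) * ((1 : S) ⊗ₜ[R] (algebraMap R κ r)⁻¹) =
        (1 : S') := by
      rw [Algebra.TensorProduct.tmul_mul_tmul, mul_one, mul_inv_cancel₀ hu]
      rfl
    have h5 : (1 : S') ∈ 𝔔.asIdeal := by
      rw [← h4]
      exact Ideal.mul_mem_right _ _ hmem
    exact 𝔔.isPrime.ne_top ((Ideal.eq_top_iff_one _).mpr h5)
  · intro hr
    rw [Ideal.algebraMap_residueField_eq_zero.mpr hr, TensorProduct.tmul_zero]
    exact zero_mem _

end Ring

section Scheme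

variable {X Y : Scheme.{u}} (f : X ⟶ Y)

/-- for an `f`-flat coherent module, generizations of `f x` lift to generizations of `x` in the
support. -/
theorem exists_generization_support (F : X.Modules) (hF : Coh.IsCoh F) (x : X)
    (hx : x ∈ CohB1.support F) (hfl : FlatMod.IsFlatOverAt f F x) (y' : Y)
    (hy' : y' ⤳ f.base x) :
    ∃ x' : X, x' ∈ CohB1.support F ∧ x' ⤳ x ∧ f.base x' = y' := by
  obtain ⟨𝔭, h𝔭, rfl⟩ := exists_prime_fromSpecStalk_eq hy'
  obtain ⟨hfin, hsupp⟩ := stalk_facts_of_isCoh F hF x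
  haveI := hfin
  haveI : Nontrivial (F.presheaf.stalk x) := not_subsingleton_iff_nontrivial.mp hx
  obtain ⟨𝔮, h𝔮, hcomap⟩ := exists_mem_support_comap_eq (f.stalkMap x).hom
    (F.presheaf.stalk x) hfl 𝔭
  refine ⟨X.fromSpecStalk x 𝔮, (hsupp 𝔮.asIdeal 𝔮.2).mp h𝔮,
    Groth.Agent.Lib.Helper4.DimFormula.fromSpecStalk_specializes (X := X) x 𝔮, ?_⟩
  haveI := 𝔮.2
  have h1 := fromSpecStalk_comap_stalkMap f x 𝔮.asIdeal
  rw [← h1]
  congr 1
  exact PrimeSpectrum.ext hcomap

variable [LocallyOfFinitePresentation f] (F : X.Modules) (hF : CohB1.IsFP F)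
  (hflat : FlatMod.IsFlatOver f F)

include hF hflat in
/-- **The support of a flat finitely presented module has open image.** -/
theorem isOpen_image_support_inter (O : Set X) (hO : IsOpen O) :
    IsOpen (f.base '' (CohB1.support F ∩ O)) := by
  haveI : F.IsQuasicoherent := Groth.Agent.Helper18Strict.isQCoh_of_isFP F hF
  haveI : SheafOfModules.IsFinitePresentation (R := X.ringCatSheaf) F := hF
  have hcoh : Coh.IsCoh F := Groth.Agent.Lib.Helper14.FibAssC.isCoh_of_isFP F hF
  rw [isOpen_iff_forall_mem_open]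
  rintro _ ⟨x₀, ⟨hx₀S, hx₀O⟩, rfl⟩
  obtain ⟨V, hV, hyV, -⟩ :=
    exists_isAffineOpen_mem_and_subset (x := f.base x₀) (U := ⊤) trivial
  obtain ⟨U, hU, hxU, hUle⟩ := exists_isAffineOpen_mem_and_subset (x := x₀)
    (U := f ⁻¹ᵁ V ⊓ ⟨O, hO⟩) ⟨hyV, hx₀O⟩
  have e : U ≤ f ⁻¹ᵁ V := hUle.trans inf_le_left
  have hUO : (U : Set X) ⊆ O := fun x hx => (hUle hx).2
  have hfp : (f.appLE V U e).hom.FinitePresentation :=
    HasRingHomProperty.appLE @LocallyOfFinitePresentation f inferInstance ⟨V, hV⟩ ⟨U, hU⟩ e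
  haveI hMfp : Module.FinitePresentation Γ(X, U) Γ(F, U) :=
    Groth.Agent.Lib.Helper2.FPAff.finitePresentation_sections F hU
  haveI hfin : Module.Finite Γ(X, U) Γ(F, U) := inferInstance
  set T : Set (PrimeSpectrum Γ(X, U)) := Module.support Γ(X, U) Γ(F, U) with hT
  -- `T` is constructible
  have hTc : IsConstructible T := by
    obtain ⟨h1, h2⟩ := Groth.Agent.S6285.result Γ(X, U) Γ(F, U)
    have h3 : IsConstructible Tᶜ := h2.isConstructible h1.isOpen_compl
    simpa using h3.compl
  have himc : IsConstructible (PrimeSpectrum.comap (f.appLE V U e).hom '' T) :=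
    PrimeSpectrum.isConstructible_comap_image hfp hTc
  -- points of `U` in the support
  have hsuppU : ∀ (x : X) (hx : x ∈ U), x ∈ CohB1.support F ↔ hU.primeIdealOf ⟨x, hx⟩ ∈ T := by
    intro x hx
    have := Groth.Agent.Lib.Helper20.FittSheaf.subsingleton_stalk_iff_notMem_support F hU x hx
    change ¬ Subsingleton _ ↔ _
    rw [this, not_not]
  have hcompat : ∀ q : PrimeSpectrum Γ(X, U),
      f.base (hU.fromSpec.base q) =
        hV.fromSpec.base (PrimeSpectrum.comap (f.appLE V U e).hom q) := by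
    intro q
    have h1 := IsAffineOpen.SpecMap_appLE_fromSpec f hV hU e
    have h2 := congrArg (fun g => g.base q) h1
    exact h2.symm
  -- stability under generization
  have hgen : StableUnderGeneralization (PrimeSpectrum.comap (f.appLE V U e).hom '' T) := by
    rintro _ p' hp' ⟨q, hq, rfl⟩
    have hxU' : hU.fromSpec.base q ∈ U := fromSpec_mem hU q
    have hq' : hU.primeIdealOf ⟨hU.fromSpec.base q, hxU'⟩ = q := primeIdealOf_fromSpec hU q hxU'
    have hxS : hU.fromSpec.base q ∈ CohB1.support F := by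
      rw [hsuppU _ hxU', hq']
      exact hq
    have hsp : hV.fromSpec.base p' ⤳ f.base (hU.fromSpec.base q) := by
      rw [hcompat q]
      exact hp'.map hV.fromSpec.continuous
    obtain ⟨x', hx'S, hx'x, hfx'⟩ := exists_generization_support f F hcoh _ hxS
      (hflat _) _ hsp
    have hx'U : x' ∈ U := hx'x.mem_open U.2 hxU'
    refine ⟨hU.primeIdealOf ⟨x', hx'U⟩, (hsuppU x' hx'U).mp hx'S, ?_⟩
    rw [IsAffineOpen.comap_primeIdealOf_appLE V hV U hU e hx'U]
    have h3 : (⟨f.base x', e hx'U⟩ : V) = ⟨hV.fromSpec.base p', fromSpec_mem hV p'⟩ :=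
      Subtype.ext hfx'
    rw [h3]
    exact primeIdealOf_fromSpec hV p' _
  have hopen := PrimeSpectrum.isOpen_of_stableUnderGeneralization_of_isConstructible hgen himc
  refine ⟨hV.fromSpec.base '' (PrimeSpectrum.comap (f.appLE V U e).hom '' T), ?_,
    hV.fromSpec.isOpenEmbedding.isOpenMap _ hopen, ?_⟩
  · rintro _ ⟨_, ⟨q, hq, rfl⟩, rfl⟩
    have hxU' : hU.fromSpec.base q ∈ U := fromSpec_mem hU q
    have hq' : hU.primeIdealOf ⟨hU.fromSpec.base q, hxU'⟩ = q := primeIdealOf_fromSpec hU q hxU'
    refine ⟨hU.fromSpec.base q, ⟨?_, hUO hxU'⟩, hcompat q⟩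
    rw [hsuppU _ hxU', hq']
    exact hq
  · refine ⟨PrimeSpectrum.comap (f.appLE V U e).hom (hU.primeIdealOf ⟨x₀, hxU⟩),
      ⟨_, (hsuppU x₀ hxU).mp hx₀S, rfl⟩, ?_⟩
    rw [← hcompat, hU.fromSpec_primeIdealOf ⟨x₀, hxU⟩]

end Scheme

end Groth.Agent.Lib.Helper14.FibAssE
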