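import Mathlib
import Groth.Agent.Lib.Helper14FibAssD
import Groth.Agent.Lib.Helper14FibAssE

/-!
# Associated points of fibre modules, part F: the irreducible components of the supports of the
fibres (helper14)

EGA IV 12.2.1 (ii), (iii), (iv): for `f` proper of finite presentation and `F` finitely presented
and `f`-flat, openness of loci defined by the dimensions of the irreducible components of
`Supp F_y`, and local constancy of `dim Supp F_y`.
-/

set_option autoImplicit false
set_option linter.unusedVariables false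
set_option linter.unusedSectionVars false
set_option linter.style.haveILetI false
set_option maxHeartbeats 400000

universe u

open CategoryTheory Limits AlgebraicGeometry TopologicalSpace Topology

namespace Groth.Agent.Lib.Helper14.FibAssF

open Groth.Agent.Lib.Helper4.DimFormula Groth.Agent.Lib.Helper4.VarDim
  Groth.Agent.Lib.Helper4.FibDim
open Groth.Agent.Lib.Helper14.FibAssA Groth.Agent.Lib.Helper14.FibAssB
  Groth.Agent.Lib.Helper14.FibAssC Groth.Agent.Lib.Helper14.FibAssD
  Groth.Agent.Lib.Helper14.FibAssE Groth.Agent.Lib.Helper14.FibRhoH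

section Top

variable {α : Type*} [TopologicalSpace α]

theorem dim_closure_subtype (T : Set α) (hT : IsClosed T) (w : ↥T) :
    topologicalKrullDim ↥(closure ({w} : Set ↥T)) =
      topologicalKrullDim ↥(closure ({w.1} : Set α)) := by
  have e := (Topology.IsEmbedding.subtypeVal (p := (· ∈ T))).homeomorphImage (closure {w})
  have h : (Subtype.val : ↥T → α) '' closure {w} = closure {w.1} := by
    rw [← hT.isClosedEmbedding_subtypeVal.closure_image_eq, Set.image_singleton]
  rw [dim_homeomorph e, h]

/-- the irreducible components of a closed subset of a quasi-sober `T₀` space correspond to its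
maximal points. -/
theorem exists_irreducibleComponent_iff [QuasiSober α] [T0Space α] (T : Set α) (hT : IsClosed T)
    (P : WithBot ℕ∞ → Prop) :
    (∃ Z ∈ irreducibleComponents ↥T, P (topologicalKrullDim ↥Z)) ↔
      ∃ w ∈ T, (∀ w' ∈ T, w' ⤳ w → w' = w) ∧
        P (topologicalKrullDim ↥(closure ({w} : Set α))) := by
  haveI : QuasiSober ↥T := quasiSober_of_isLocallyClosed T hT.isLocallyClosed
  constructor
  · rintro ⟨Z, hZ, hP⟩
    obtain ⟨w, hw⟩ := QuasiSober.sober hZ.1 (isClosed_of_mem_irreducibleComponents Z hZ)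
    have hZw : closure ({w} : Set ↥T) = Z := hw.def
    refine ⟨w.1, w.2, ?_, ?_⟩
    · intro w' hw' hsp
      have h1 : (⟨w', hw'⟩ : ↥T) ⤳ w :=
        Topology.IsInducing.subtypeVal.specializes_iff.mp hsp
      have h2 := eq_of_specializes_generic w ⟨w', hw'⟩ (hZw ▸ hZ) h1
      exact congrArg Subtype.val h2
    · rw [← dim_closure_subtype T hT w, hZw]
      exact hP
  · rintro ⟨w, hw, hmax, hP⟩
    have hmax' : ∀ y : ↥T, y ⤳ (⟨w, hw⟩ : ↥T) → y = ⟨w, hw⟩ := by
      intro y hy
      exact Subtype.ext (hmax y.1 y.2 (hy.map continuous_subtype_val))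
    refine ⟨closure {⟨w, hw⟩}, mem_irreducibleComponents_of_forall_specializes _ hmax', ?_⟩
    rw [dim_closure_subtype T hT ⟨w, hw⟩]
    exact hP

end Top

variable {X Y : Scheme.{u}} (f : X ⟶ Y)

section Main

variable [LocallyOfFinitePresentation f] (F : X.Modules) (hF : CohB1.IsFP F)

/-- the support of the fibre module, in the form used in the statements. -/
theorem setOf_nontrivial_eq_support (y : Y) :
    {z : ↥(f.fiber y) | Nontrivial ((fibMod f F y).presheaf.stalk z)} =
      CohB1.support (fibMod f F y) := by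
  ext z
  exact not_subsingleton_iff_nontrivial.symm

include hF in
theorem isClosed_support_fibMod (y : Y) : IsClosed (CohB1.support (fibMod f F y)) :=
  Groth.Agent.S0020.result _ _ (isCoh_fibMod f F hF y).2

include hF in
theorem isClosed_support : IsClosed (CohB1.support F) :=
  Groth.Agent.S0020.result _ _ (isCoh_of_isFP F hF).2

/-- `y`-maximal points of the support of dimension `n`. -/
def IsMaxPt (y : Y) (w : ↥(f.fiber y)) (n : ℕ) : Prop :=
  w ∈ CohB1.support (fibMod f F y) ∧
    (∀ w' ∈ CohB1.support (fibMod f F y), w' ⤳ w → w' = w) ∧ fdl f y w = n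

include hF in
/-- irreducible components of `Supp F_y` of dimension `n` correspond to maximal points. -/
theorem exists_component_iff (y : Y) (n : ℕ) :
    (∃ Z ∈ irreducibleComponents
        ↥{z : ↥(f.fiber y) | Nontrivial ((fibMod f F y).presheaf.stalk z)},
      topologicalKrullDim ↥Z = (n : WithBot ℕ∞)) ↔ ∃ w : ↥(f.fiber y), IsMaxPt f F y w n := by
  rw [setOf_nontrivial_eq_support]
  rw [exists_irreducibleComponent_iff (CohB1.support (fibMod f F y))
    (isClosed_support_fibMod f F hF y) (fun d => d = (n : WithBot ℕ∞))]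
  constructor
  · rintro ⟨w, hw, hmax, hd⟩
    rw [dim_closure_eq_fdl] at hd
    exact ⟨w, hw, hmax, by exact_mod_cast hd⟩
  · rintro ⟨w, hw, hmax, hd⟩
    refine ⟨w, hw, hmax, ?_⟩
    rw [dim_closure_eq_fdl, hd]

/-- the open subset of `X` used to detect components of dimension `n`. -/
def Oset (n : ℕ) : Set X :=
  {x | ((n : ℕ) : WithBot ℕ∞) ≤ GeomRho f F (f.base x) (f.asFiber x)} ∩
    {x | HasGen f (CohB1.support F) x (n + 1)}ᶜ

include hF in
theorem isOpen_Oset (hflat : FlatMod.IsFlatOver f F) (n : ℕ) : IsOpen (Oset f F n) :=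
  (isOpen_le_geomRho f F hF hflat _).inter
    (isClosed_hasGen f _ (isClosed_support F hF) _).isOpen_compl

include hF in
theorem exists_isMaxPt_iff (y : Y) (n : ℕ) :
    (∃ w : ↥(f.fiber y), IsMaxPt f F y w n) ↔
      y ∈ f.base '' (CohB1.support F ∩ Oset f F n) := by
  letI : (f.fiber y).Over (Spec (CommRingCat.of (Y.residueField y))) :=
    ⟨f.fiberToSpecResidueField y⟩
  haveI : LocallyOfFiniteType ((f.fiber y) ↘ Spec (CommRingCat.of (Y.residueField y))) :=
    locallyOfFiniteType_fiberToSpecResidueField f _
  haveI : IsLocallyNoetherian (f.fiber y) := isLocallyNoetherian_fiber f y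
  constructor
  · rintro ⟨w, hw, hmax, hd⟩
    refine ⟨(f.fiberι y).base w, ⟨(mem_support_fibMod_iff f F hF y w).mp hw, ?_, ?_⟩,
      base_fiberι f y w⟩
    · -- `n ≤ ρ`
      have hy : f.base ((f.fiberι y).base w) = y := base_fiberι f y w
      change ((n : ℕ) : WithBot ℕ∞) ≤ GeomRho f F (f.base ((f.fiberι y).base w))
        (f.asFiber ((f.fiberι y).base w))
      have key : ∀ (y' : Y) (hy' : y' = y) (w'' : ↥(f.fiber y'))
          (hw'' : (f.fiberι y').base w'' = (f.fiberι y).base w),
          ((n : ℕ) : WithBot ℕ∞) ≤ GeomRho f F y' w'' := by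
        rintro y' rfl w'' hw''
        have : w'' = w := (f.fiberι y').isEmbedding.injective hw''
        rw [this, geomRho_eq, hd]
        exact le_add_of_nonneg_left (WithBot.coe_nonneg.mpr zero_le)
      exact key _ hy _ (f.fiberι_asFiber _)
    · -- no generization of larger dimension
      intro hgen
      obtain ⟨w', hw'K, hw'w, hle⟩ := (hasGen_fiberι_iff f _ y w (n + 1)).mp hgen
      have := hmax w' ((mem_support_fibMod_iff f F hF y w').mpr hw'K) hw'w
      rw [this, hd] at hle
      omega
  · rintro ⟨x, ⟨hxS, hxρ, hxG⟩, rfl⟩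
    set z := f.asFiber x with hz
    have hzx : (f.fiberι (f.base x)).base z = x := f.fiberι_asFiber x
    have hzS : z ∈ CohB1.support (fibMod f F (f.base x)) :=
      (mem_support_fibMod_iff f F hF _ z).mpr (hzx.symm ▸ hxS)
    obtain ⟨w, hwz, hwS, -, hmax, heq⟩ := exists_maximal_generization (Y.residueField (f.base x))
      (fibMod f F (f.base x)) (isCoh_fibMod f F hF _) z hzS
    refine ⟨w, hwS, hmax, ?_⟩
    rw [trdegNat_fiber, trdegNat_fiber] at heq
    -- upper bound
    have h1 : fdl f (f.base x) w ≤ n := by
      by_contra hcon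
      apply hxG
      rw [← hzx]
      exact (hasGen_fiberι_iff f _ _ z (n + 1)).mpr
        ⟨w, (mem_support_fibMod_iff f F hF _ w).mp hwS, hwz, by omega⟩
    -- lower bound
    have h2 : ((n : ℕ) : WithBot ℕ∞) ≤ (fdl f (f.base x) w : WithBot ℕ∞) := by
      have h3 : ((n : ℕ) : WithBot ℕ∞) ≤ GeomRho f F (f.base x) z := hxρ
      rw [geomRho_eq] at h3
      rw [heq]
      refine h3.trans ?_
      gcongr
      exact depth_le_supportDim_stalk (fibMod f F (f.base x)) (isCoh_fibMod f F hF _) z hzS
    have h4 : n ≤ fdl f (f.base x) w := by exact_mod_cast h2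
    omega

include hF in
/-- **EGA IV 12.2.1 (ii)**. -/
theorem isOpen_componentDims_supset [IsProper f] (hflat : FlatMod.IsFlatOver f F) (Φ : Finset ℕ) :
    IsOpen {y : Y | ∀ n ∈ Φ, ∃ Z ∈ irreducibleComponents
        ↥{z : ↥(f.fiber y) | Nontrivial ((fibMod f F y).presheaf.stalk z)},
      topologicalKrullDim ↥Z = (n : WithBot ℕ∞)} := by
  have h : {y : Y | ∀ n ∈ Φ, ∃ Z ∈ irreducibleComponents
        ↥{z : ↥(f.fiber y) | Nontrivial ((fibMod f F y).presheaf.stalk z)},
      topologicalKrullDim ↥Z = (n : WithBot ℕ∞)} =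
      ⋂ n ∈ Φ, f.base '' (CohB1.support F ∩ Oset f F n) := by
    ext y
    simp only [Set.mem_ofPred_eq, Set.mem_iInter]
    refine forall₂_congr fun n hn => ?_
    rw [exists_component_iff f F hF y n, exists_isMaxPt_iff f F hF y n]
  rw [h]
  exact isOpen_biInter_finset fun n _ =>
    isOpen_image_support_inter f F hF hflat _ (isOpen_Oset f F hF hflat n)

include hF in
/-- a maximal point of the support of `F_y` is an associated point. -/
theorem IsMaxPt.mem_ass {y : Y} {w : ↥(f.fiber y)} {n : ℕ} (h : IsMaxPt f F y w n) :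
    w ∈ AssSch.Ass (fibMod f F y) := by
  letI : (f.fiber y).Over (Spec (CommRingCat.of (Y.residueField y))) :=
    ⟨f.fiberToSpecResidueField y⟩
  haveI : LocallyOfFiniteType ((f.fiber y) ↘ Spec (CommRingCat.of (Y.residueField y))) :=
    locallyOfFiniteType_fiberToSpecResidueField f _
  exact (mem_ass_of_maximal (Y.residueField y) (fibMod f F y) (isCoh_fibMod f F hF y) w h.1 h.2.1).1

include hF in
/-- **EGA IV 12.2.1 (iii)**. -/
theorem isOpen_noEmbedded_componentDims_eq [IsProper f] (hflat : FlatMod.IsFlatOver f F)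
    (Φ : Finset ℕ) :
    IsOpen {y : Y | AssSch.NoEmbedded ((Scheme.Modules.pullback (f.fiberι y)).obj F) ∧
      (fun Z : Set ↥{z : ↥(f.fiber y) | Nontrivial (((Scheme.Modules.pullback (f.fiberι y)).obj F).presheaf.stalk z)} => topologicalKrullDim ↥Z) '' irreducibleComponents ↥{z : ↥(f.fiber y) | Nontrivial (((Scheme.Modules.pullback (f.fiberι y)).obj F).presheaf.stalk z)} =
        (fun n : ℕ => (n : WithBot ℕ∞)) '' (Φ : Set ℕ)} := by
  have h1 := isOpen_noEmbedded f F hF hflat
  have h2 := isOpen_componentDims_supset f F hF hflat Φ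
  have h3 := isOpen_assDims f F hF hflat Φ
  convert (h1.inter h2).inter h3 using 1
  ext y
  letI : (f.fiber y).Over (Spec (CommRingCat.of (Y.residueField y))) :=
    ⟨f.fiberToSpecResidueField y⟩
  haveI : LocallyOfFiniteType ((f.fiber y) ↘ Spec (CommRingCat.of (Y.residueField y))) :=
    locallyOfFiniteType_fiberToSpecResidueField f _
  haveI : IsLocallyNoetherian (f.fiber y) := isLocallyNoetherian_fiber f y
  have hcoh := isCoh_fibMod f F hF y
  constructor
  · rintro ⟨hNE, heq⟩
    refine ⟨⟨hNE, ?_⟩, ?_⟩
    · intro n hn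
      have h4 : ((n : ℕ) : WithBot ℕ∞) ∈ (fun n : ℕ => (n : WithBot ℕ∞)) '' (Φ : Set ℕ) :=
        ⟨n, hn, rfl⟩
      rw [← heq] at h4
      obtain ⟨Z, hZ, hd⟩ := h4
      exact ⟨Z, hZ, hd⟩
    · intro z hz
      have hzS := mem_support_of_mem_ass (fibMod f F y) hcoh z hz
      obtain ⟨w, hwz, hwS, hwA, hmax, -⟩ := exists_maximal_generization (Y.residueField y)
        (fibMod f F y) hcoh z hzS
      have hzw : z = w := hNE z hz w hwA hwz
      have hM : IsMaxPt f F y z (fdl f y z) := ⟨hzS, hzw ▸ hmax, rfl⟩
      obtain ⟨Z, hZ, hd⟩ := (exists_component_iff f F hF y _).mpr ⟨z, hM⟩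
      have h4 : ((fdl f y z : ℕ) : WithBot ℕ∞) ∈
          (fun n : ℕ => (n : WithBot ℕ∞)) '' (Φ : Set ℕ) := by
        rw [← heq]
        exact ⟨Z, hZ, hd⟩
      obtain ⟨n, hn, hnd⟩ := h4
      exact ⟨n, hn, by rw [dim_closure_eq_fdl]; exact hnd.symm⟩
  · rintro ⟨⟨hNE, hsup⟩, hass⟩
    refine ⟨hNE, Set.Subset.antisymm ?_ ?_⟩
    · rintro _ ⟨Z, hZ, rfl⟩
      obtain ⟨D, hD⟩ : ∃ D, topologicalKrullDim ↥Z = D := ⟨_, rfl⟩
      have h5 : ∃ Z' ∈ irreducibleComponents
          ↥{z : ↥(f.fiber y) | Nontrivial ((fibMod f F y).presheaf.stalk z)},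
          (fun d => d = D) (topologicalKrullDim ↥Z') := ⟨Z, hZ, hD⟩
      change topologicalKrullDim ↥Z ∈ _
      rw [hD]
      clear hD hZ Z
      rw [setOf_nontrivial_eq_support] at h5
      obtain ⟨w, hw, hmax, hd⟩ := (exists_irreducibleComponent_iff (CohB1.support (fibMod f F y))
        (isClosed_support_fibMod f F hF y) (fun d => d = D)).mp h5
      have hwA := (mem_ass_of_maximal (Y.residueField y) (fibMod f F y) hcoh w hw hmax).1
      obtain ⟨n, hn, hnd⟩ := hass w hwA
      exact ⟨n, hn, hnd.symm.trans hd⟩
    · rintro _ ⟨n, hn, rfl⟩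
      obtain ⟨Z, hZ, hd⟩ := hsup n hn
      exact ⟨Z, hZ, hd⟩

section LocConst

include hF in
/-- `n ≤ dim Supp F_y` iff some point of the support has dimension at least `n`. -/
theorem le_dim_support_iff (y : Y) (n : ℕ) :
    ((n : ℕ) : WithBot ℕ∞) ≤ topologicalKrullDim ↥(CohB1.support (fibMod f F y)) ↔
      ∃ w ∈ CohB1.support (fibMod f F y), n ≤ fdl f y w := by
  letI : (f.fiber y).Over (Spec (CommRingCat.of (Y.residueField y))) :=
    ⟨f.fiberToSpecResidueField y⟩
  haveI : LocallyOfFiniteType ((f.fiber y) ↘ Spec (CommRingCat.of (Y.residueField y))) :=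
    locallyOfFiniteType_fiberToSpecResidueField f _
  have hcl := isClosed_support_fibMod f F hF y
  haveI : QuasiSober ↥(CohB1.support (fibMod f F y)) :=
    quasiSober_of_isLocallyClosed _ hcl.isLocallyClosed
  constructor
  · intro h
    by_contra hcon
    push Not at hcon
    cases n with
    | zero =>
      obtain hemp | ⟨w, hw⟩ := (CohB1.support (fibMod f F y)).eq_empty_or_nonempty
      · have h1 := topologicalKrullDim_le_of_forall_trdegNat_le (Y.residueField y) (f.fiber y)
          (CohB1.support (fibMod f F y)) ⊥ (fun t ht => by rw [hemp] at ht; exact absurd ht (by simp))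
        have h2 := h.trans h1
        simp at h2
      · exact absurd (hcon w hw) (by omega)
    | succ m =>
      have h1 := topologicalKrullDim_le_of_forall_trdegNat_le (Y.residueField y) (f.fiber y)
        (CohB1.support (fibMod f F y)) ((m : ℕ) : WithBot ℕ∞) (fun t ht => by
          have := hcon t ht
          rw [trdegNat_fiber]
          have h2 : fdl f y t ≤ m := by omega
          exact_mod_cast h2)
      have h2 := h.trans h1
      have h3 : m + 1 ≤ m := by exact_mod_cast h2
      omega
  · rintro ⟨w, hw, hn⟩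
    have h1 := trdegNat_le_topologicalKrullDim_of_isLocallyClosed (Y.residueField y) (f.fiber y)
      _ hcl.isLocallyClosed w hw
    rw [trdegNat_fiber] at h1
    refine le_trans ?_ h1
    exact_mod_cast hn

include hF in
theorem setOf_le_dim_support_eq_image (n : ℕ) :
    {y : Y | ((n : ℕ) : WithBot ℕ∞) ≤ topologicalKrullDim ↥(CohB1.support (fibMod f F y))} =
      f.base '' {x | HasGen f (CohB1.support F) x n} := by
  ext y
  simp only [Set.mem_ofPred_eq]
  rw [le_dim_support_iff f F hF y n]
  constructor
  · rintro ⟨w, hw, hn⟩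
    refine ⟨(f.fiberι y).base w, ?_, base_fiberι f y w⟩
    exact ⟨_, (mem_support_fibMod_iff f F hF y w).mp hw, rfl, specializes_rfl, hn⟩
  · rintro ⟨x, hx, rfl⟩
    have hzx : (f.fiberι (f.base x)).base (f.asFiber x) = x := f.fiberι_asFiber x
    rw [Set.mem_ofPred_eq, ← hzx] at hx
    obtain ⟨w, hwK, -, hn⟩ := (hasGen_fiberι_iff f _ _ _ n).mp hx
    exact ⟨w, (mem_support_fibMod_iff f F hF _ w).mpr hwK, hn⟩

include hF in
theorem dim_support_lt_top [QuasiCompact f] (y : Y) :
    topologicalKrullDim ↥(CohB1.support (fibMod f F y)) < ⊤ :=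
  lt_of_le_of_lt (topologicalKrullDim_subspace_le _ _)
    (Groth.Agent.Lib.Helper3.DimCons.fibre_dim_lt_top f y)

include hF in
theorem setOf_le_dim_support_eq_iUnion [QuasiCompact f] (n : ℕ) :
    {y : Y | ((n : ℕ) : WithBot ℕ∞) ≤ topologicalKrullDim ↥(CohB1.support (fibMod f F y))} =
      ⋃ m ∈ {m : ℕ | n ≤ m}, f.base '' (CohB1.support F ∩ Oset f F m) := by
  ext y
  simp only [Set.mem_ofPred_eq, Set.mem_iUnion]
  constructor
  · intro h
    have hlt := dim_support_lt_top f F hF y
    generalize hD : topologicalKrullDim ↥(CohB1.support (fibMod f F y)) = D at h hlt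
    induction D with
    | bot => simp at h
    | coe d =>
      induction d using ENat.recTopCoe with
      | top => exact absurd hlt (lt_irrefl _)
      | coe m =>
        have hnm : n ≤ m := by exact_mod_cast h
        refine ⟨m, hnm, ?_⟩
        rw [← exists_isMaxPt_iff f F hF y m]
        obtain ⟨w, hw, hmw⟩ := (le_dim_support_iff f F hF y m).mp (by rw [hD]; exact le_rfl)
        have hub : ∀ w' ∈ CohB1.support (fibMod f F y), fdl f y w' ≤ m := by
          intro w' hw'
          have h1 := (le_dim_support_iff f F hF y (fdl f y w')).mpr ⟨w', hw', le_rfl⟩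
          rw [hD] at h1
          exact_mod_cast h1
        refine ⟨w, hw, ?_, le_antisymm (hub w hw) hmw⟩
        intro w' hw' hsp
        by_contra hne
        have h1 := fdl_lt_of_specializes f y w w' hsp hne
        have h2 := hub w' hw'
        omega
  · rintro ⟨m, hnm, hy⟩
    rw [← exists_isMaxPt_iff f F hF y m] at hy
    obtain ⟨w, hw, -, hd⟩ := hy
    exact (le_dim_support_iff f F hF y n).mpr ⟨w, hw, by omega⟩

include hF in
/-- **EGA IV 12.2.1 (iv)**: `y ↦ dim Supp F_y` is locally constant. -/
theorem isLocallyConstant_dim_support [IsProper f] (hflat : FlatMod.IsFlatOver f F) :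
    IsLocallyConstant (fun y : Y => topologicalKrullDim
      ↥{z : ↥(f.fiber y) | Nontrivial (((Scheme.Modules.pullback (f.fiberι y)).obj F).presheaf.stalk z)}) := by
  have hfun : (fun y : Y => topologicalKrullDim
      ↥{z : ↥(f.fiber y) | Nontrivial (((Scheme.Modules.pullback (f.fiberι y)).obj F).presheaf.stalk z)}) =
      fun y : Y => topologicalKrullDim ↥(CohB1.support (fibMod f F y)) := by
    funext y
    rw [setOf_nontrivial_eq_support]
  rw [hfun]
  have hopen : ∀ n : ℕ, IsOpen {y : Y | ((n : ℕ) : WithBot ℕ∞) ≤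
      topologicalKrullDim ↥(CohB1.support (fibMod f F y))} := by
    intro n
    rw [setOf_le_dim_support_eq_iUnion f F hF n]
    exact isOpen_biUnion fun m _ =>
      isOpen_image_support_inter f F hF hflat _ (isOpen_Oset f F hF hflat m)
  have hclosed : ∀ n : ℕ, IsClosed {y : Y | ((n : ℕ) : WithBot ℕ∞) ≤
      topologicalKrullDim ↥(CohB1.support (fibMod f F y))} := by
    intro n
    rw [setOf_le_dim_support_eq_image f F hF n]
    exact f.isClosedMap _ (isClosed_hasGen f _ (isClosed_support F hF) n)
  rw [IsLocallyConstant.iff_isOpen_fiber]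
  intro d
  induction d with
  | bot =>
    convert (hclosed 0).isOpen_compl using 1
    ext y
    simp only [Set.mem_preimage, Set.mem_singleton_iff, Set.mem_compl_iff, Set.mem_ofPred_eq]
    constructor
    · intro h
      rw [h]
      simp
    · intro h
      by_contra hne
      apply h
      generalize topologicalKrullDim ↥(CohB1.support (fibMod f F y)) = D at hne ⊢
      induction D with
      | bot => exact absurd rfl hne
      | coe e => exact WithBot.coe_le_coe.mpr zero_le
  | coe d =>
    induction d using ENat.recTopCoe with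
    | top =>
      convert isOpen_empty using 1
      ext y
      simp only [Set.mem_preimage, Set.mem_singleton_iff, Set.mem_empty_iff_false, iff_false]
      exact (dim_support_lt_top f F hF y).ne
    | coe n =>
      convert (hopen n).inter (hclosed (n + 1)).isOpen_compl using 1
      ext y
      simp only [Set.mem_preimage, Set.mem_singleton_iff, Set.mem_inter_iff, Set.mem_compl_iff,
        Set.mem_ofPred_eq]
      generalize topologicalKrullDim ↥(CohB1.support (fibMod f F y)) = D
      induction D with
      | bot => simp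
      | coe e =>
        induction e using ENat.recTopCoe with
        | top =>
          constructor
          · intro h
            exact absurd (WithBot.coe_injective h) (ENat.top_ne_natCast _)
          · rintro ⟨-, h⟩
            exact absurd le_top h
        | coe m =>
          constructor
          · intro h
            have : m = n := by exact_mod_cast h
            subst this
            refine ⟨le_rfl, ?_⟩
            intro h2
            have : m + 1 ≤ m := by exact_mod_cast h2
            omega
          · rintro ⟨h1, h2⟩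
            have h3 : n ≤ m := by exact_mod_cast h1
            have h4 : ¬ (n + 1 ≤ m) := by
              intro h5
              apply h2
              exact_mod_cast h5
            have : m = n := by omega
            rw [this]

end LocConst

end Main

end Groth.Agent.Lib.Helper14.FibAssF
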