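import Mathlib
import Groth.Agent.Lib.Helper4RectDepthC
import Groth.Agent.Lib.Helper28LocLoc
import Groth.Agent.Lib.Helper28DepthCM
import Groth.Agent.Lib.Helper28SkLift

/-!
# Depth and generization (helper4)

* `depth_localization_le_add` : for primes `p ≤ s` of a Noetherian ring and a finite module `M` with
  `M_p ≠ 0`: `depth M_s ≤ depth M_p + dim (R_s / p R_s)`.
* `depth_stalk_le_of_fromSpecStalk` : scheme version.
-/

set_option autoImplicit false
set_option linter.style.haveILetI false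

universe u

open AlgebraicGeometry CategoryTheory TopologicalSpace IsLocalRing

namespace Groth.Agent.Lib.Helper4.RectDepth

open Groth.Agent.Lib.Helper4.DimFormula Groth.Agent.Lib.Helper4.VarDim Groth.Agent.Lib.Helper28

section Ring

variable {R : Type u} [CommRing R] [IsNoetherianRing R] (p s : Ideal R) [p.IsPrime] [s.IsPrime]
  (M : Type u) [AddCommGroup M] [Module R M] [Module.Finite R M]

theorem depth_localization_le_add (hps : p ≤ s)
    [hnt : Nontrivial (LocalizedModule p.primeCompl M)] :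
    ((LocCoh.depth (Localization.AtPrime s) (LocalizedModule s.primeCompl M) : ℕ∞) :
        WithBot ℕ∞) ≤
      ((LocCoh.depth (Localization.AtPrime p) (LocalizedModule p.primeCompl M) : ℕ∞) :
        WithBot ℕ∞) +
        ringKrullDim (Localization.AtPrime s ⧸ p.map (algebraMap R (Localization.AtPrime s))) := by
  have hpS : (⟨p, inferInstance⟩ : PrimeSpectrum R) ∈ Module.support R M :=
    Module.mem_support_iff.mpr hnt
  have hsS : (⟨s, inferInstance⟩ : PrimeSpectrum R) ∈ Module.support R M :=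
    Module.mem_support_mono (p := ⟨p, inferInstance⟩) (q := ⟨s, inferInstance⟩) hps hpS
  haveI : Nontrivial (LocalizedModule s.primeCompl M) := Module.mem_support_iff.mp hsS
  set Rs := Localization.AtPrime s with hRs
  set I : Ideal Rs := p.map (algebraMap R Rs) with hI
  have hIm : I ≤ IsLocalRing.maximalIdeal Rs := by
    rw [← Localization.AtPrime.map_eq_maximalIdeal]
    exact Ideal.map_mono hps
  have hIM : I • (⊤ : Submodule Rs (LocalizedModule s.primeCompl M)) ≠ ⊤ :=
    smul_top_ne_top_of_le_maximalIdeal hIm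
  obtain ⟨n, hn⟩ := ENat.ne_top_iff_exists.mp (idealDepth_ne_top hIM)
  have G1 := depth_le_idealDepth_add_supportDim_quotient I hIm n
    (LocalizedModule s.primeCompl M) hn.symm
  have h1 : LocCoh.idealDepth I (LocalizedModule s.primeCompl M) ≤
      LocCoh.depth (Localization.AtPrime p) (LocalizedModule p.primeCompl M) :=
    idealDepth_map_localization_le_depth_localization p s M hps
  have h2 : Module.supportDim Rs (LocalizedModule s.primeCompl M ⧸
      (I • ⊤ : Submodule Rs (LocalizedModule s.primeCompl M))) ≤ ringKrullDim (Rs ⧸ I) :=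
    supportDim_quotient_smul_top_le_ringKrullDim_quotient I
  exact G1.trans (add_le_add (WithBot.coe_le_coe.mpr h1) h2)

end Ring

section Sch

variable {X : Scheme.{u}} [IsLocallyNoetherian X] (F : X.Modules) (hF : Coh.IsCoh F)

include hF in
/-- Depth and generization: if `x = fromSpecStalk x' 𝔭` lies in the support of the coherent module
`F`, then `prof F_{x'} ≤ prof F_x + dim O_{x'}/𝔭`. -/
theorem depth_stalk_le_of_fromSpecStalk (x' : X) (𝔭 : Ideal (X.presheaf.stalk x'))
    [h𝔭 : 𝔭.IsPrime] (hxS : X.fromSpecStalk x' ⟨𝔭, h𝔭⟩ ∈ CohB1.support F) :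
    ((LocCoh.depth ↑(X.presheaf.stalk x') ↑(F.presheaf.stalk x') : ℕ∞) : WithBot ℕ∞) ≤
      ((LocCoh.depth ↑(X.presheaf.stalk (X.fromSpecStalk x' ⟨𝔭, h𝔭⟩))
        ↑(F.presheaf.stalk (X.fromSpecStalk x' ⟨𝔭, h𝔭⟩)) : ℕ∞) : WithBot ℕ∞) +
        ringKrullDim (X.presheaf.stalk x' ⧸ 𝔭) := by
  haveI : F.IsQuasicoherent := hF.1
  haveI : SheafOfModules.IsFiniteType (R := X.ringCatSheaf) F := hF.2
  obtain ⟨U, hU, hxU, -⟩ := exists_isAffineOpen_mem_and_subset (U := ⊤) (x := x') (by simp)
  haveI : IsNoetherianRing Γ(X, U) := IsLocallyNoetherian.component_noetherian ⟨U, hU⟩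
  haveI : Module.Finite Γ(X, U) Γ(F, U) :=
    Groth.Agent.Lib.Helper23.FinType.finite_of_isFiniteType F hU
  set q : Ideal Γ(X, U) := (hU.primeIdealOf ⟨x', hxU⟩).asIdeal with hq
  haveI := hU.isLocalization_stalk ⟨x', hxU⟩
  letI algX := X.presheaf.algebra_section_stalk (U := U) ⟨x', hxU⟩
  set P : Ideal Γ(X, U) := 𝔭.under Γ(X, U) with hPdef
  haveI : P.IsPrime := Ideal.comap_isPrime _ _
  have hPq : P ≤ q := by
    intro b hb
    by_contra hbq
    have hu : IsUnit (algebraMap Γ(X, U) (X.presheaf.stalk x') b) :=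
      IsLocalization.map_units (X.presheaf.stalk x') (⟨b, hbq⟩ : q.primeCompl)
    exact h𝔭.ne_top (Ideal.eq_top_of_isUnit_mem _ hb hu)
  have hmapP : P.map (algebraMap Γ(X, U) (X.presheaf.stalk x')) = 𝔭 :=
    IsLocalization.map_under q.primeCompl (X.presheaf.stalk x') 𝔭
  have hξeq : X.fromSpecStalk x' ⟨𝔭, h𝔭⟩ = hU.fromSpec ⟨P, inferInstance⟩ := by
    rw [← hU.fromSpecStalk_eq_fromSpecStalk hxU]
    rfl
  rw [hξeq] at hxS ⊢
  set ξ : X := hU.fromSpec ⟨P, inferInstance⟩ with hξ
  have hξU : ξ ∈ U := fromSpec_mem hU _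
  have hPξ : hU.primeIdealOf ⟨ξ, hξU⟩ = ⟨P, inferInstance⟩ := primeIdealOf_fromSpec hU _ hξU
  obtain ⟨-, hdep', -⟩ := stalk_vs_localization hU F x' hxU
  obtain ⟨-, hdepξ, hntξ⟩ := stalk_vs_localization hU F ξ hξU
  rw [hPξ] at hdepξ hntξ
  haveI : Nontrivial (LocalizedModule P.primeCompl Γ(F, U)) :=
    hntξ (not_subsingleton_iff_nontrivial.mp hxS)
  have hD := depth_localization_le_add P q Γ(F, U) hPq
  rw [hdep', hdepξ]
  refine hD.trans (le_of_eq ?_)
  congr 1
  let e : Localization.AtPrime q ≃ₐ[Γ(X, U)] X.presheaf.stalk x' :=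
    IsLocalization.algEquiv q.primeCompl _ _
  refine ringKrullDim_eq_of_ringEquiv (Ideal.quotientEquiv _ _ e.toRingEquiv ?_)
  rw [← hmapP]
  change _ = Ideal.map (e : Localization.AtPrime q →+* X.presheaf.stalk x') _
  rw [Ideal.map_map]
  congr 1
  ext b
  simp

end Sch

end Groth.Agent.Lib.Helper4.RectDepth
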