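import Mathlib
import Groth.Agent.Lib.Helper14FibAssF
import Groth.Agent.Lib.Helper5FinDimDepth
import Groth.Agent.Lib.Helper4DimFormulaAW
import Groth.Agent.Lib.Helper4RectDepthD

/-!
# Associated points of fibre modules, part G: Serre's condition and equidimensionality of the
stalks in terms of generizations (helper14)
-/

set_option autoImplicit false
set_option linter.unusedVariables false
set_option linter.unusedSectionVars false
set_option linter.style.haveILetI false
set_option maxHeartbeats 400000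

universe u

open CategoryTheory Limits AlgebraicGeometry TopologicalSpace Topology

namespace Groth.Agent.Lib.Helper14.FibAssG

open Groth.Agent.Lib.Helper4.DimFormula Groth.Agent.Lib.Helper4.VarDim
  Groth.Agent.Lib.Helper4.FibDim
open Groth.Agent.Lib.Helper14.FibAssA Groth.Agent.Lib.Helper14.FibAssB
  Groth.Agent.Lib.Helper14.FibAssC Groth.Agent.Lib.Helper14.FibAssD
  Groth.Agent.Lib.Helper14.FibAssE Groth.Agent.Lib.Helper14.FibAssF
  Groth.Agent.Lib.Helper14.FibRhoH

section Ring

/-- depth and dimension of a localization of a localization. -/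
theorem depth_supportDim_localization {B : Type u} [CommRing B] [IsNoetherianRing B]
    (T : Submonoid B) (S : Type u) [CommRing S] [Algebra B S] [IsLocalization T S]
    (M : Type u) [AddCommGroup M] [Module B M] [Module.Finite B M]
    (M' : Type u) [AddCommGroup M'] [Module B M'] [Module S M'] [IsScalarTower B S M']
    (g : M →ₗ[B] M') [IsLocalizedModule T g] (Q : Ideal S) [hQ : Q.IsPrime] :
    LocCoh.depth (Localization.AtPrime Q) (LocalizedModule Q.primeCompl M') =
      LocCoh.depth (Localization.AtPrime (Q.comap (algebraMap B S)))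
        (LocalizedModule (Q.comap (algebraMap B S)).primeCompl M) ∧
    Module.supportDim (Localization.AtPrime Q) (LocalizedModule Q.primeCompl M') =
      Module.supportDim (Localization.AtPrime (Q.comap (algebraMap B S)))
        (LocalizedModule (Q.comap (algebraMap B S)).primeCompl M) := by
  have h1 : IsBaseChange S g := IsLocalizedModule.isBaseChange T S g
  have h2 : IsBaseChange (Localization.AtPrime Q) (LocalizedModule.mkLinearMap Q.primeCompl M') :=
    IsLocalizedModule.isBaseChange Q.primeCompl (Localization.AtPrime Q) _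
  have h3 := IsBaseChange.comp h1 h2
  haveI : IsLocalization.AtPrime (Localization.AtPrime Q) (Q.comap (algebraMap B S)) :=
    IsLocalization.isLocalization_isLocalization_atPrime_isLocalization T
      (Localization.AtPrime Q) Q
  haveI h4 : IsLocalizedModule (Q.comap (algebraMap B S)).primeCompl
      (((LocalizedModule.mkLinearMap Q.primeCompl M').restrictScalars B).comp g) :=
    (isLocalizedModule_iff_isBaseChange (Q.comap (algebraMap B S)).primeCompl
      (Localization.AtPrime Q) _).mpr h3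
  exact Groth.Agent.Lib.Helper5.FinDimDepth.transport_aux (Q.comap (algebraMap B S)) M
    (Localization.AtPrime Q) (LocalizedModule Q.primeCompl M')
    (((LocalizedModule.mkLinearMap Q.primeCompl M').restrictScalars B).comp g)

theorem depth_supportDim_congr {A : Type u} [CommRing A] (M : Type u) [AddCommGroup M] [Module A M]
    {q1 q2 : Ideal A} [q1.IsPrime] [q2.IsPrime] (h : q1 = q2) :
    LocCoh.depth (Localization.AtPrime q1) (LocalizedModule q1.primeCompl M) =
      LocCoh.depth (Localization.AtPrime q2) (LocalizedModule q2.primeCompl M) ∧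
    Module.supportDim (Localization.AtPrime q1) (LocalizedModule q1.primeCompl M) =
      Module.supportDim (Localization.AtPrime q2) (LocalizedModule q2.primeCompl M) := by
  subst h
  exact ⟨rfl, rfl⟩

end Ring

section Sch

open Groth.Agent.Lib.Helper2.FlatOver

variable {Z : Scheme.{u}} [IsLocallyNoetherian Z] (G : Z.Modules) (hG : Coh.IsCoh G)

include hG in
/-- depth and dimension of a stalk, computed on an affine open. -/
theorem depth_supportDim_stalk_eq_localization {U : Z.Opens} (hU : IsAffineOpen U) (x : Z)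
    (hxU : x ∈ U) :
    haveI : IsNoetherianRing Γ(Z, U) := IsLocallyNoetherian.component_noetherian ⟨U, hU⟩
    LocCoh.depth (Z.presheaf.stalk x) (G.presheaf.stalk x) =
      LocCoh.depth (Localization.AtPrime (hU.primeIdealOf ⟨x, hxU⟩).asIdeal)
        (LocalizedModule (hU.primeIdealOf ⟨x, hxU⟩).asIdeal.primeCompl Γ(G, U)) ∧
    Module.supportDim (Z.presheaf.stalk x) (G.presheaf.stalk x) =
      Module.supportDim (Localization.AtPrime (hU.primeIdealOf ⟨x, hxU⟩).asIdeal)
        (LocalizedModule (hU.primeIdealOf ⟨x, hxU⟩).asIdeal.primeCompl Γ(G, U)) := by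
  haveI : G.IsQuasicoherent := hG.1
  haveI : SheafOfModules.IsFiniteType (R := Z.ringCatSheaf) G := hG.2
  haveI : IsNoetherianRing Γ(Z, U) := IsLocallyNoetherian.component_noetherian ⟨U, hU⟩
  haveI : Module.Finite Γ(Z, U) Γ(G, U) :=
    Groth.Agent.Lib.Helper23.FinType.finite_of_isFiniteType G hU
  haveI := hU.isLocalization_stalk ⟨x, hxU⟩
  letI algZ := Z.presheaf.algebra_section_stalk (U := U) ⟨x, hxU⟩
  letI := moduleStalkSections G U x hxU
  haveI : IsScalarTower Γ(Z, U) (Z.presheaf.stalk x) (G.presheaf.stalk x) := ⟨fun a b m => by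
    change ((Z.presheaf.germ U x hxU).hom a * b) • m = (Z.presheaf.germ U x hxU).hom a • (b • m)
    exact mul_smul _ _ _⟩
  haveI := isLocalizedModule_germ hU G x hxU
  exact Groth.Agent.Lib.Helper5.FinDimDepth.transport_aux (hU.primeIdealOf ⟨x, hxU⟩).asIdeal
    Γ(G, U) (Z.presheaf.stalk x) (G.presheaf.stalk x) (germₗ G U x hxU)

include hG in
/-- **Stalks at generizations.** For a prime `𝔭` of `O_{Z,z}` with point `w`, the localization of
`G_z` at `𝔭` has the same depth and dimension as `G_w`. -/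
theorem depth_supportDim_fromSpecStalk (z : Z) (𝔭 : Ideal (Z.presheaf.stalk z))
    [h𝔭 : 𝔭.IsPrime] :
    LocCoh.depth (Localization.AtPrime 𝔭) (LocalizedModule 𝔭.primeCompl (G.presheaf.stalk z)) =
      LocCoh.depth (Z.presheaf.stalk (Z.fromSpecStalk z ⟨𝔭, h𝔭⟩))
        (G.presheaf.stalk (Z.fromSpecStalk z ⟨𝔭, h𝔭⟩)) ∧
    Module.supportDim (Localization.AtPrime 𝔭)
        (LocalizedModule 𝔭.primeCompl (G.presheaf.stalk z)) =
      Module.supportDim (Z.presheaf.stalk (Z.fromSpecStalk z ⟨𝔭, h𝔭⟩))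
        (G.presheaf.stalk (Z.fromSpecStalk z ⟨𝔭, h𝔭⟩)) := by
  haveI : G.IsQuasicoherent := hG.1
  haveI : SheafOfModules.IsFiniteType (R := Z.ringCatSheaf) G := hG.2
  obtain ⟨U, hU, hzU, -⟩ := exists_isAffineOpen_mem_and_subset (U := ⊤) (x := z) (by simp)
  haveI : IsNoetherianRing Γ(Z, U) := IsLocallyNoetherian.component_noetherian ⟨U, hU⟩
  haveI : Module.Finite Γ(Z, U) Γ(G, U) :=
    Groth.Agent.Lib.Helper23.FinType.finite_of_isFiniteType G hU
  set q : Ideal Γ(Z, U) := (hU.primeIdealOf ⟨z, hzU⟩).asIdeal with hq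
  haveI := hU.isLocalization_stalk ⟨z, hzU⟩
  letI algZ := Z.presheaf.algebra_section_stalk (U := U) ⟨z, hzU⟩
  letI := moduleStalkSections G U z hzU
  haveI : IsScalarTower Γ(Z, U) (Z.presheaf.stalk z) (G.presheaf.stalk z) := ⟨fun a b m => by
    change ((Z.presheaf.germ U z hzU).hom a * b) • m = (Z.presheaf.germ U z hzU).hom a • (b • m)
    exact mul_smul _ _ _⟩
  haveI := isLocalizedModule_germ hU G z hzU
  obtain ⟨h1, h2⟩ := depth_supportDim_localization q.primeCompl (Z.presheaf.stalk z) Γ(G, U)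
    (G.presheaf.stalk z) (germₗ G U z hzU) 𝔭
  set P : Ideal Γ(Z, U) := 𝔭.comap (algebraMap Γ(Z, U) (Z.presheaf.stalk z)) with hPdef
  have hξeq : Z.fromSpecStalk z ⟨𝔭, h𝔭⟩ = hU.fromSpec ⟨P, inferInstance⟩ := by
    rw [← hU.fromSpecStalk_eq_fromSpecStalk hzU]
    rfl
  have hξU : Z.fromSpecStalk z ⟨𝔭, h𝔭⟩ ∈ U := hξeq ▸ fromSpec_mem hU _
  have hPξ : (hU.primeIdealOf ⟨Z.fromSpecStalk z ⟨𝔭, h𝔭⟩, hξU⟩).asIdeal = P := by
    have h5 : hU.primeIdealOf ⟨Z.fromSpecStalk z ⟨𝔭, h𝔭⟩, hξU⟩ = ⟨P, inferInstance⟩ := by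
      have h6 : (⟨Z.fromSpecStalk z ⟨𝔭, h𝔭⟩, hξU⟩ : U) =
          ⟨hU.fromSpec ⟨P, inferInstance⟩, fromSpec_mem hU _⟩ := Subtype.ext hξeq
      rw [h6]
      exact primeIdealOf_fromSpec hU _ _
    rw [h5]
  obtain ⟨h3, h4⟩ := depth_supportDim_stalk_eq_localization G hG hU _ hξU
  obtain ⟨h7, h8⟩ := depth_supportDim_congr Γ(G, U) hPξ
  exact ⟨h1.trans (h7.symm.trans h3.symm), h2.trans (h8.symm.trans h4.symm)⟩

include hG in
/-- **Serre's condition at a stalk**, in terms of the generizations of the point. -/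
theorem hasSk_stalk_iff (k : ℕ) (z : Z) :
    LocCoh.HasSk k (Z.presheaf.stalk z) (G.presheaf.stalk z) ↔
      ∀ w : Z, w ⤳ z →
        min (k : WithBot ℕ∞) (Module.supportDim (Z.presheaf.stalk w) (G.presheaf.stalk w)) ≤
          ((LocCoh.depth (Z.presheaf.stalk w) (G.presheaf.stalk w) : ℕ∞) : WithBot ℕ∞) := by
  constructor
  · intro h w hwz
    obtain ⟨𝔭, h𝔭, rfl⟩ := exists_prime_fromSpecStalk_eq hwz
    obtain ⟨h1, h2⟩ := depth_supportDim_fromSpecStalk G hG z 𝔭
    rw [← h1, ← h2]
    exact h 𝔭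
  · intro h 𝔭 h𝔭
    obtain ⟨h1, h2⟩ := depth_supportDim_fromSpecStalk G hG z 𝔭
    rw [h1, h2]
    exact h _ (fromSpecStalk_specializes (X := Z) z ⟨𝔭, h𝔭⟩)

end Sch

section Field

variable (k : Type u) [Field k] {Z : Scheme.{u}} [Z.Over (Spec (CommRingCat.of k))]
  [LocallyOfFiniteType (Z ↘ Spec (CommRingCat.of k))] (G : Z.Modules) (hG : Coh.IsCoh G)

include hG in
/-- **Equidimensionality of a stalk**, in terms of the maximal points of the support generizing the
point. -/
theorem isEquidimModule_stalk_iff (z : Z) :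
    EGA4.IsEquidimModule (Z.presheaf.stalk z) (G.presheaf.stalk z) ↔
      ∀ w ∈ CohB1.support G, w ⤳ z → (∀ w' ∈ CohB1.support G, w' ⤳ w → w' = w) →
        (trdegNat k Z w : WithBot ℕ∞) =
          Module.supportDim (Z.presheaf.stalk z) (G.presheaf.stalk z) +
            (trdegNat k Z z : WithBot ℕ∞) := by
  obtain ⟨hfin, hsupp⟩ := stalk_facts_of_isCoh G hG z
  haveI := hfin
  have hmin : ∀ (𝔭 : Ideal (Z.presheaf.stalk z)) (h𝔭 : 𝔭.IsPrime),
      𝔭 ∈ (Module.annihilator (Z.presheaf.stalk z) (G.presheaf.stalk z)).minimalPrimes ↔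
      (Z.fromSpecStalk z ⟨𝔭, h𝔭⟩ ∈ CohB1.support G ∧ ∀ w' ∈ CohB1.support G,
        w' ⤳ Z.fromSpecStalk z ⟨𝔭, h𝔭⟩ → w' = Z.fromSpecStalk z ⟨𝔭, h𝔭⟩) := by
    intro 𝔭 h𝔭
    constructor
    · intro hm
      have h1 : (⟨𝔭, h𝔭⟩ : PrimeSpectrum (Z.presheaf.stalk z)) ∈
          Module.support (Z.presheaf.stalk z) (G.presheaf.stalk z) :=
        Module.mem_support_iff_of_finite.mpr hm.1.2
      refine ⟨(hsupp 𝔭 h𝔭).mp h1, ?_⟩
      intro w' hw' hsp
      obtain ⟨𝔮, h𝔮, rfl⟩ := exists_prime_fromSpecStalk_eq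
        (hsp.trans (fromSpecStalk_specializes (X := Z) z ⟨𝔭, h𝔭⟩))
      have hle : 𝔮 ≤ 𝔭 := (Groth.Agent.Lib.Helper4.DimFormula.fromSpecStalk_specializes_iff (X := Z) z 𝔮 𝔭).mp hsp
      have h2 : Module.annihilator (Z.presheaf.stalk z) (G.presheaf.stalk z) ≤ 𝔮 :=
        Module.mem_support_iff_of_finite.mp ((hsupp 𝔮 h𝔮).mpr hw')
      have : 𝔮 = 𝔭 := le_antisymm hle (hm.2 ⟨h𝔮, h2⟩ hle)
      subst this
      rfl
    · rintro ⟨hS, hmax⟩
      have h1 : Module.annihilator (Z.presheaf.stalk z) (G.presheaf.stalk z) ≤ 𝔭 :=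
        Module.mem_support_iff_of_finite.mp ((hsupp 𝔭 h𝔭).mpr hS)
      refine ⟨⟨h𝔭, h1⟩, fun 𝔮 h𝔮 hle => ?_⟩
      haveI := h𝔮.1
      have h2 : Z.fromSpecStalk z ⟨𝔮, h𝔮.1⟩ ∈ CohB1.support G :=
        (hsupp 𝔮 h𝔮.1).mp (Module.mem_support_iff_of_finite.mpr h𝔮.2)
      have := hmax _ h2 ((Groth.Agent.Lib.Helper4.DimFormula.fromSpecStalk_specializes_iff (X := Z) z 𝔮 𝔭).mpr hle)
      exact (fromSpecStalk_injective (X := Z) z 𝔮 𝔭 this).ge
  constructor
  · intro hE w hwS hwz hmax
    obtain ⟨𝔭, h𝔭, rfl⟩ := exists_prime_fromSpecStalk_eq hwz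
    have hm := (hmin 𝔭 h𝔭).mpr ⟨hwS, hmax⟩
    have h1 := hE 𝔭 hm
    have h2 := ringKrullDim_quotient_add_trdegNat k Z z 𝔭
    rw [← h2, h1]
  · intro h 𝔭 hm
    haveI h𝔭 := hm.1.1
    obtain ⟨hS, hmax⟩ := (hmin 𝔭 h𝔭).mp hm
    have h1 := h _ hS (fromSpecStalk_specializes (X := Z) z ⟨𝔭, h𝔭⟩) hmax
    have h2 := ringKrullDim_quotient_add_trdegNat k Z z 𝔭
    rw [← h2] at h1
    exact ENat.WithBot.add_natCast_cancel.mp h1

end Field

section Arith

/-- arithmetic of Serre's condition: `¬ (min k s ≤ d)` in terms of `ρ = d + a` and `σ = s + a`. -/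
theorem sk_arith (d : ℕ∞) (s : WithBot ℕ∞) (a k : ℕ) :
    ¬ (min (k : WithBot ℕ∞) s ≤ ((d : ℕ∞) : WithBot ℕ∞)) ↔
      ∃ m : ℕ, ¬ (((m + 1 : ℕ) : WithBot ℕ∞) ≤ ((d : ℕ∞) : WithBot ℕ∞) + ((a : ℕ) : WithBot ℕ∞)) ∧
        ((m + 1 : ℕ) : WithBot ℕ∞) ≤ s + ((a : ℕ) : WithBot ℕ∞) ∧ m + 1 - k ≤ a := by
  constructor
  · intro h
    rw [min_le_iff, not_or] at h
    obtain ⟨h1, h2⟩ := h
    induction d using ENat.recTopCoe with
    | top => exact absurd le_top h1
    | coe d₀ =>
      have h1' : d₀ < k := by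
        by_contra hcon
        apply h1
        have : k ≤ d₀ := by omega
        exact_mod_cast this
      refine ⟨d₀ + a, ?_, ?_, by omega⟩
      · intro hcon
        have : d₀ + a + 1 ≤ d₀ + a := by exact_mod_cast hcon
        omega
      · induction s with
        | bot => exact absurd bot_le h2
        | coe s' =>
          induction s' using ENat.recTopCoe with
          | top =>
            have : ((⊤ : ℕ∞) : WithBot ℕ∞) + ((a : ℕ) : WithBot ℕ∞) = ⊤ := by
              have h : ((a : ℕ) : WithBot ℕ∞) = ((a : ℕ∞) : WithBot ℕ∞) := rfl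
              rw [h, ← WithBot.coe_add, top_add]
              rfl
            rw [this]
            exact le_top
          | coe s₀ =>
            have h3 : d₀ < s₀ := by
              by_contra hcon
              apply h2
              have : s₀ ≤ d₀ := by omega
              exact_mod_cast this
            have : d₀ + a + 1 ≤ s₀ + a := by omega
            exact_mod_cast this
  · rintro ⟨m, h1, h2, h3⟩ h
    apply h1
    rw [min_le_iff] at h
    rcases h with h | h
    · have h4 : m + 1 ≤ k + a := by omega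
      calc ((m + 1 : ℕ) : WithBot ℕ∞) ≤ ((k + a : ℕ) : WithBot ℕ∞) := by exact_mod_cast h4
        _ = (k : WithBot ℕ∞) + ((a : ℕ) : WithBot ℕ∞) := by push_cast; rfl
        _ ≤ _ := add_le_add_left h _
    · exact h2.trans (add_le_add_left h _)

end Arith

variable {X Y : Scheme.{u}} (f : X ⟶ Y)

section Main

variable [LocallyOfFinitePresentation f] (F : X.Modules) (hF : CohB1.IsFP F)

/-- the pointwise inequality of Serre's condition on a fibre. -/
def SkPt (k : ℕ) (y : Y) (w : ↥(f.fiber y)) : Prop :=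
  min (k : WithBot ℕ∞) (Module.supportDim ((f.fiber y).presheaf.stalk w)
      ((fibMod f F y).presheaf.stalk w)) ≤
    ((LocCoh.depth ((f.fiber y).presheaf.stalk w) ((fibMod f F y).presheaf.stalk w) : ℕ∞) :
      WithBot ℕ∞)

/-- the condition of the statements at a point of a fibre. -/
def GoodAt (k : ℕ) (y : Y) (z : ↥(f.fiber y)) : Prop :=
  EGA4.IsEquidimModule ((f.fiber y).presheaf.stalk z) ((fibMod f F y).presheaf.stalk z) ∧
    LocCoh.HasSk k ((f.fiber y).presheaf.stalk z) ((fibMod f F y).presheaf.stalk z)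

theorem hasGen_iff_asFiber (K : Set X) (x : X) (n : ℕ) :
    HasGen f K x n ↔ ∃ w : ↥(f.fiber (f.base x)), (f.fiberι (f.base x)).base w ∈ K ∧
      w ⤳ f.asFiber x ∧ n ≤ fdl f (f.base x) w := by
  rw [← hasGen_fiberι_iff f K (f.base x) (f.asFiber x) n, f.fiberι_asFiber x]

include hF in
/-- `dim_w Supp F_y ≥ n` in terms of the dimension of the stalk. -/
theorem hasGen_support_iff (y : Y) (w : ↥(f.fiber y)) (n : ℕ) :
    HasGen f (CohB1.support F) ((f.fiberι y).base w) n ↔
      w ∈ CohB1.support (fibMod f F y) ∧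
        ((n : ℕ) : WithBot ℕ∞) ≤ Module.supportDim ((f.fiber y).presheaf.stalk w)
          ((fibMod f F y).presheaf.stalk w) + ((fdl f y w : ℕ) : WithBot ℕ∞) := by
  letI : (f.fiber y).Over (Spec (CommRingCat.of (Y.residueField y))) :=
    ⟨f.fiberToSpecResidueField y⟩
  haveI : LocallyOfFiniteType ((f.fiber y) ↘ Spec (CommRingCat.of (Y.residueField y))) :=
    locallyOfFiniteType_fiberToSpecResidueField f _
  have hcoh := isCoh_fibMod f F hF y
  rw [hasGen_fiberι_iff]
  constructor
  · rintro ⟨w', hw'K, hw'w, hn⟩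
    have hw'S : w' ∈ CohB1.support (fibMod f F y) := (mem_support_fibMod_iff f F hF y w').mpr hw'K
    have hwS : w ∈ CohB1.support (fibMod f F y) :=
      hw'w.mem_closed (isClosed_support_fibMod f F hF y) hw'S
    refine ⟨hwS, ?_⟩
    have h1 := trdegNat_le_supportDim_add (Y.residueField y) (fibMod f F y) hcoh w w' hw'w hw'S
    rw [trdegNat_fiber, trdegNat_fiber] at h1
    refine le_trans ?_ h1
    exact_mod_cast hn
  · rintro ⟨hwS, hn⟩
    obtain ⟨w', hw'w, hw'S, heq⟩ :=
      exists_trdegNat_eq_supportDim_add (Y.residueField y) (fibMod f F y) hcoh w hwS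
    rw [trdegNat_fiber, trdegNat_fiber] at heq
    refine ⟨w', (mem_support_fibMod_iff f F hF y w').mp hw'S, hw'w, ?_⟩
    rw [← heq] at hn
    exact_mod_cast hn

include hF in
/-- failure of the pointwise `(S_k)` inequality in terms of the closed sets `L_m`. -/
theorem not_skPt_iff (k : ℕ) (y : Y) (w : ↥(f.fiber y)) :
    ¬ SkPt f F k y w ↔ ∃ m : ℕ, (f.fiberι y).base w ∈ Lset f F m ∧ m + 1 - k ≤ fdl f y w := by
  unfold SkPt
  rw [sk_arith _ _ (fdl f y w) k]
  refine exists_congr fun m => ?_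
  unfold Lset
  rw [Set.mem_inter_iff, fiberι_mem_Kset_iff f F hF, geomRho_eq, Set.mem_ofPred_eq,
    hasGen_support_iff f F hF y w (m + 1)]
  constructor
  · rintro ⟨h1, h2, h3⟩
    refine ⟨⟨h1, ?_, h2⟩, h3⟩
    intro hsub
    haveI := hsub
    rw [Module.supportDim_eq_bot_of_subsingleton, WithBot.bot_add] at h2
    simp at h2
  · rintro ⟨⟨h1, -, h2⟩, h3⟩
    exact ⟨h1, h2, h3⟩

section Open

/-- the closed sets whose union is the locus where `(S_k)` fails. -/
def Nset (k m : ℕ) : Set X := {x | HasGen f (Lset f F m) x (m + 1 - k)}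

include hF in
theorem isClosed_Nset (hflat : FlatMod.IsFlatOver f F) (k m : ℕ) : IsClosed (Nset f F k m) :=
  isClosed_hasGen f _ (isClosed_Lset f F hF hflat m) _

theorem le_fibreDimAt_of_mem_Nset (k m : ℕ) (x : X) (hx : x ∈ Nset f F k m) :
    (m : WithBot ℕ∞) ≤ FlatMor.fibreDimAt f x := by
  obtain ⟨x', hx'L, -, hsp, -⟩ := hx
  have h1 : HasGen f (CohB1.support F) x' (m + 1) := hx'L.2
  have h2 := HasGen.le_fibreDimAt f h1
  have h3 := fibreDimAt_le_of_specializes f x' x hsp
  refine le_trans ?_ (h2.trans h3)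
  exact_mod_cast Nat.le_succ m

include hF in
theorem hasSk_iff_forall_notMem_Nset (k : ℕ) (x : X) :
    LocCoh.HasSk k ((f.fiber (f.base x)).presheaf.stalk (f.asFiber x))
        ((fibMod f F (f.base x)).presheaf.stalk (f.asFiber x)) ↔
      ∀ m : ℕ, x ∉ Nset f F k m := by
  haveI := isLocallyNoetherian_fiber f (f.base x)
  rw [hasSk_stalk_iff (fibMod f F (f.base x)) (isCoh_fibMod f F hF _) k (f.asFiber x)]
  constructor
  · intro h m hxN
    obtain ⟨w, hwL, hwz, hn⟩ := (hasGen_iff_asFiber f _ x _).mp hxN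
    exact (not_skPt_iff f F hF k _ w).mpr ⟨m, hwL, hn⟩ (h w hwz)
  · intro h w hwz
    by_contra hcon
    obtain ⟨m, hwL, hn⟩ := (not_skPt_iff f F hF k _ w).mp hcon
    exact h m ((hasGen_iff_asFiber f _ x _).mpr ⟨w, hwL, hwz, hn⟩)

include hF in
/-- the locus where the fibre module satisfies `(S_k)` is open. -/
theorem isOpen_hasSk (hflat : FlatMod.IsFlatOver f F) (k : ℕ) :
    IsOpen {x : X | LocCoh.HasSk k ((f.fiber (f.base x)).presheaf.stalk (f.asFiber x))
      ((fibMod f F (f.base x)).presheaf.stalk (f.asFiber x))} := by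
  have h := isOpen_forall_notMem f (Nset f F k) (isClosed_Nset f F hF hflat k)
    (le_fibreDimAt_of_mem_Nset f F k) Set.univ
  convert h using 1
  ext x
  rw [Set.mem_ofPred_eq, hasSk_iff_forall_notMem_Nset f F hF k x]
  simp

include hF in
theorem isEquidimModule_iff (y : Y) (z : ↥(f.fiber y)) :
    EGA4.IsEquidimModule ((f.fiber y).presheaf.stalk z) ((fibMod f F y).presheaf.stalk z) ↔
      ∀ w ∈ CohB1.support (fibMod f F y), w ⤳ z →
        (∀ w' ∈ CohB1.support (fibMod f F y), w' ⤳ w → w' = w) →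
        ((fdl f y w : ℕ) : WithBot ℕ∞) =
          Module.supportDim ((f.fiber y).presheaf.stalk z) ((fibMod f F y).presheaf.stalk z) +
            ((fdl f y z : ℕ) : WithBot ℕ∞) := by
  letI : (f.fiber y).Over (Spec (CommRingCat.of (Y.residueField y))) :=
    ⟨f.fiberToSpecResidueField y⟩
  haveI : LocallyOfFiniteType ((f.fiber y) ↘ Spec (CommRingCat.of (Y.residueField y))) :=
    locallyOfFiniteType_fiberToSpecResidueField f _
  rw [isEquidimModule_stalk_iff (Y.residueField y) (fibMod f F y) (isCoh_fibMod f F hF y) z]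
  refine forall_congr' fun w => ?_
  rw [trdegNat_fiber, trdegNat_fiber]

include hF in
/-- **EGA IV 12.1.1 (vi)** (for `k ≥ 1`): the locus where the fibre module is equidimensional and
`(S_k)` is open. -/
theorem isOpen_goodAt (hflat : FlatMod.IsFlatOver f F) (k : ℕ) (hk : 1 ≤ k) :
    IsOpen {x : X | GoodAt f F k (f.base x) (f.asFiber x)} := by
  rw [isOpen_iff_forall_mem_open]
  rintro x₀ ⟨hE, hS⟩
  by_cases hx₀ : x₀ ∈ CohB1.support F
  · have hz₀S : f.asFiber x₀ ∈ CohB1.support (fibMod f F (f.base x₀)) := by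
      rw [mem_support_fibMod_iff f F hF, f.fiberι_asFiber x₀]
      exact hx₀
    letI : (f.fiber (f.base x₀)).Over (Spec (CommRingCat.of (Y.residueField (f.base x₀)))) :=
      ⟨f.fiberToSpecResidueField (f.base x₀)⟩
    haveI : LocallyOfFiniteType
        ((f.fiber (f.base x₀)) ↘ Spec (CommRingCat.of (Y.residueField (f.base x₀)))) :=
      locallyOfFiniteType_fiberToSpecResidueField f _
    haveI := isLocallyNoetherian_fiber f (f.base x₀)
    have hcoh := isCoh_fibMod f F hF (f.base x₀)
    obtain ⟨w₀, hw₀z, hw₀S, -, hw₀max, hw₀eq⟩ :=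
      exists_maximal_generization (Y.residueField (f.base x₀)) (fibMod f F (f.base x₀)) hcoh
        (f.asFiber x₀) hz₀S
    rw [trdegNat_fiber, trdegNat_fiber] at hw₀eq
    set n := fdl f (f.base x₀) w₀ with hn
    have hO1 := isOpen_hasSk f F hF hflat k
    have hO2 := (isClosed_hasGen f _ (isClosed_support F hF) (n + 1)).isOpen_compl
    have hO3 := isOpen_forall_notMem f (Cset f F) (isClosed_Cset f F hF hflat)
      (le_fibreDimAt_of_mem_Cset f F) {m | m < n}
    refine ⟨_, ?_, (hO1.inter hO2).inter hO3, ⟨⟨hS, ?_⟩, ?_⟩⟩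
    · rintro x ⟨⟨hxS, hxG⟩, hxC⟩
      refine ⟨?_, hxS⟩
      rw [isEquidimModule_iff f F hF]
      intro w hwS hwz hwmax
      letI : (f.fiber (f.base x)).Over (Spec (CommRingCat.of (Y.residueField (f.base x)))) :=
        ⟨f.fiberToSpecResidueField (f.base x)⟩
      haveI : LocallyOfFiniteType
          ((f.fiber (f.base x)) ↘ Spec (CommRingCat.of (Y.residueField (f.base x)))) :=
        locallyOfFiniteType_fiberToSpecResidueField f _
      have hcoh' := isCoh_fibMod f F hF (f.base x)
      have hzS : f.asFiber x ∈ CohB1.support (fibMod f F (f.base x)) :=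
        hwz.mem_closed (isClosed_support_fibMod f F hF _) hwS
      obtain ⟨w₁, hw₁z, hw₁S, -, hw₁max, hw₁eq⟩ :=
        exists_maximal_generization (Y.residueField (f.base x)) (fibMod f F (f.base x)) hcoh'
          (f.asFiber x) hzS
      rw [trdegNat_fiber, trdegNat_fiber] at hw₁eq
      have key : ∀ w ∈ CohB1.support (fibMod f F (f.base x)), w ⤳ f.asFiber x →
          (∀ w' ∈ CohB1.support (fibMod f F (f.base x)), w' ⤳ w → w' = w) →
          fdl f (f.base x) w = n := by
        intro w hwS hwz hwmax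
        have h1 : fdl f (f.base x) w ≤ n := by
          by_contra hcon
          apply hxG
          exact (hasGen_iff_asFiber f _ x (n + 1)).mpr
            ⟨w, (mem_support_fibMod_iff f F hF _ w).mp hwS, hwz, by omega⟩
        have h2 : ¬ fdl f (f.base x) w < n := by
          intro hlt
          apply hxC (fdl f (f.base x) w) hlt
          rw [mem_Cset_iff f F hF]
          exact ⟨w, (mem_ass_of_maximal (Y.residueField (f.base x)) (fibMod f F (f.base x)) hcoh'
            w hwS hwmax).1, hwz.mem_closure, dim_closure_eq_fdl f _ w⟩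
        omega
      rw [key w hwS hwz hwmax, ← key w₁ hw₁S hw₁z hw₁max]
      exact hw₁eq
    · intro hgen
      obtain ⟨w', hw'K, hw'z, hn'⟩ := (hasGen_iff_asFiber f _ x₀ (n + 1)).mp hgen
      have hw'S : w' ∈ CohB1.support (fibMod f F (f.base x₀)) :=
        (mem_support_fibMod_iff f F hF _ w').mpr hw'K
      have h1 := trdegNat_le_supportDim_add (Y.residueField (f.base x₀)) (fibMod f F (f.base x₀))
        hcoh (f.asFiber x₀) w' hw'z hw'S
      rw [trdegNat_fiber, trdegNat_fiber, ← hw₀eq] at h1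
      have h2 : fdl f (f.base x₀) w' ≤ n := by exact_mod_cast h1
      omega
    · intro m hm hxC
      have hm' : m < n := hm
      rw [mem_Cset_iff f F hF] at hxC
      obtain ⟨w, hwA, hzw, hdim⟩ := hxC
      rw [dim_closure_eq_fdl] at hdim
      have ha : fdl f (f.base x₀) w = m := by exact_mod_cast hdim
      have hwz : w ⤳ f.asFiber x₀ := specializes_iff_mem_closure.mpr hzw
      have hwS := mem_support_of_mem_ass (fibMod f F (f.base x₀)) hcoh w hwA
      have hsk := (hasSk_stalk_iff (fibMod f F (f.base x₀)) hcoh k (f.asFiber x₀)).mp hS w hwz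
      have hd0 := (mem_ass_iff_depth_eq_zero (fibMod f F (f.base x₀)) hcoh w).mp hwA
      rw [hd0, min_le_iff] at hsk
      have hs0 : Module.supportDim ((f.fiber (f.base x₀)).presheaf.stalk w)
          ((fibMod f F (f.base x₀)).presheaf.stalk w) ≤ 0 := by
        rcases hsk with h | h
        · exfalso
          have : k ≤ 0 := by exact_mod_cast h
          omega
        · exact h
      have hwmax : ∀ w' ∈ CohB1.support (fibMod f F (f.base x₀)), w' ⤳ w → w' = w := by
        intro w' hw'S hsp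
        by_contra hne
        have h1 := fdl_lt_of_specializes f (f.base x₀) w w' hsp hne
        have h2 := trdegNat_le_supportDim_add (Y.residueField (f.base x₀))
          (fibMod f F (f.base x₀)) hcoh w w' hsp hw'S
        rw [trdegNat_fiber, trdegNat_fiber] at h2
        have h3 : ((fdl f (f.base x₀) w' : ℕ) : WithBot ℕ∞) ≤
            0 + ((fdl f (f.base x₀) w : ℕ) : WithBot ℕ∞) := h2.trans (add_le_add_left hs0 _)
        rw [zero_add] at h3
        have h4 : fdl f (f.base x₀) w' ≤ fdl f (f.base x₀) w := by exact_mod_cast h3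
        omega
      have h5 := (isEquidimModule_iff f F hF _ _).mp hE w hwS hwz hwmax
      rw [← hw₀eq] at h5
      have h6 : fdl f (f.base x₀) w = n := by exact_mod_cast h5
      omega
  · refine ⟨(CohB1.support F)ᶜ, ?_, (isClosed_support F hF).isOpen_compl, hx₀⟩
    intro x hx
    have hz : f.asFiber x ∉ CohB1.support (fibMod f F (f.base x)) := by
      rw [mem_support_fibMod_iff f F hF, f.fiberι_asFiber x]
      exact hx
    constructor
    · rw [isEquidimModule_iff f F hF]
      intro w hwS hwz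
      exact absurd (hwz.mem_closed (isClosed_support_fibMod f F hF _) hwS) hz
    · rw [hasSk_iff_forall_notMem_Nset f F hF]
      intro m hxN
      have h1 : x ∈ Lset f F m := HasGen.mem f (isClosed_Lset f F hF hflat m) hxN
      exact hx (HasGen.mem f (isClosed_support F hF) h1.2)

include hF in
/-- **EGA IV 12.2.1 (vi)** (for `k ≥ 1`), proper case. -/
theorem isOpen_forall_goodAt [IsProper f] (hflat : FlatMod.IsFlatOver f F) (k : ℕ) (hk : 1 ≤ k) :
    IsOpen {y : Y | ∀ z : ↥(f.fiber y), GoodAt f F k y z} := by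
  have hcl : IsClosed (f.base '' {x : X | GoodAt f F k (f.base x) (f.asFiber x)}ᶜ) :=
    f.isClosedMap _ (isOpen_goodAt f F hF hflat k hk).isClosed_compl
  convert hcl.isOpen_compl using 1
  ext y
  simp only [Set.mem_ofPred_eq, Set.mem_compl_iff, Set.mem_image, not_exists, not_and]
  constructor
  · rintro h x hx rfl
    exact hx (h _)
  · intro h z
    have key : ∀ (y' : Y) (hy' : y' = y) (z' : ↥(f.fiber y'))
        (hz' : (f.fiberι y').base z' = (f.fiberι y).base z),
        GoodAt f F k y' z' → GoodAt f F k y z := by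
      rintro y' rfl z' hz' hg
      have : z' = z := (f.fiberι y').isEmbedding.injective hz'
      rw [← this]
      exact hg
    by_contra hcon
    refine h ((f.fiberι y).base z) ?_ (base_fiberι f y z)
    intro hg
    exact hcon (key _ (base_fiberι f y z) _ (f.fiberι_asFiber _) hg)

end Open

end Main

end Groth.Agent.Lib.Helper14.FibAssG
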