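import Mathlib
import Groth.Agent.Lib.Helper14FibAssG

/-!
# The depth of the fibre modules along a closed subset (helper14)

For `f : X ⟶ S` locally of finite presentation, `F` finitely presented and `f`-flat and `Y ⊆ X`
closed, the set of points of `Y` where the fibrewise depth of `F` along `Y` is at least `n` is open
in `Y` (EGA IV 12.3.4-like statement).
-/

set_option autoImplicit false
set_option linter.unusedVariables false
set_option linter.unusedSectionVars false
set_option linter.style.haveILetI false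
set_option maxHeartbeats 400000

universe u

open CategoryTheory Limits AlgebraicGeometry TopologicalSpace Topology

namespace Groth.Agent.Lib.Helper14.FibDepthAlongA

open Groth.Agent.Lib.Helper4.DimFormula Groth.Agent.Lib.Helper4.VarDim
  Groth.Agent.Lib.Helper4.FibDim
open Groth.Agent.Lib.Helper14.FibAssA Groth.Agent.Lib.Helper14.FibAssB
  Groth.Agent.Lib.Helper14.FibAssC Groth.Agent.Lib.Helper14.FibAssD
  Groth.Agent.Lib.Helper14.FibAssE Groth.Agent.Lib.Helper14.FibAssF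
  Groth.Agent.Lib.Helper14.FibAssG Groth.Agent.Lib.Helper14.FibRhoH

section Arith

theorem depth_arith (d : ℕ∞) (a n : ℕ) :
    ¬ (((n + 1 : ℕ) : ℕ∞) ≤ d) ↔
      ∃ j : ℕ, ¬ (((j + n + 1 : ℕ) : WithBot ℕ∞) ≤ ((d : ℕ∞) : WithBot ℕ∞) + ((a : ℕ) : WithBot ℕ∞)) ∧
        j ≤ a := by
  have h1 : ((a : ℕ) : WithBot ℕ∞) = (((a : ℕ) : ℕ∞) : WithBot ℕ∞) := rfl
  constructor
  · intro h
    induction d using ENat.recTopCoe with
    | top => exact absurd le_top h
    | coe d₀ =>
      have h2 : ¬ (n + 1 ≤ d₀) := by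
        intro hcon
        apply h
        exact_mod_cast hcon
      refine ⟨a, ?_, le_rfl⟩
      intro hcon
      have : a + n + 1 ≤ d₀ + a := by exact_mod_cast hcon
      omega
  · rintro ⟨j, h2, h3⟩ h
    apply h2
    have h4 : j + n + 1 ≤ (n + 1) + a := by omega
    calc ((j + n + 1 : ℕ) : WithBot ℕ∞) ≤ (((n + 1) + a : ℕ) : WithBot ℕ∞) := by exact_mod_cast h4
      _ = (((n + 1 : ℕ) : ℕ∞) : WithBot ℕ∞) + ((a : ℕ) : WithBot ℕ∞) := by push_cast; rfl
      _ ≤ _ := add_le_add_left (WithBot.coe_le_coe.mpr h) _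

end Arith

variable {X S : Scheme.{u}} (f : X ⟶ S) [LocallyOfFinitePresentation f] (F : X.Modules)
  (hF : CohB1.IsFP F)

/-- `fdl` at the point of the fibre attached to `x`. -/
theorem fdl_asFiber (x : X) : fdl f (f.base x) (f.asFiber x) = ptTrdeg f x := by
  unfold fdl
  rw [f.fiberι_asFiber x]

/-- failure of `n + 1 ≤ fiberDepth` at a point in terms of the sets `K_m`. -/
theorem not_le_fiberDepth_iff (n : ℕ) (z : X) :
    ¬ (((n + 1 : ℕ) : ℕ∞) ≤ CInt.fiberDepth f F z) ↔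
      ∃ j : ℕ, z ∈ Kset f F (j + n) ∧ j ≤ ptTrdeg f z := by
  unfold CInt.fiberDepth
  rw [depth_arith _ (ptTrdeg f z) n]
  refine exists_congr fun j => ?_
  unfold Kset
  rw [Set.mem_ofPred_eq, geomRho_eq, fdl_asFiber]

/-- the closed sets whose union is the locus where the depth along `Y` is at most `n`. -/
def Dset (Y : Set X) (n j : ℕ) : Set X := {x | HasGen f (Kset f F (j + n) ∩ Y) x j}

include hF in
theorem isClosed_Dset (hflat : FlatMod.IsFlatOver f F) (Y : Set X) (hY : IsClosed Y) (n j : ℕ) :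
    IsClosed (Dset f F Y n j) :=
  isClosed_hasGen f _ ((isClosed_Kset f F hF hflat _).inter hY) _

theorem le_fibreDimAt_of_mem_Dset (Y : Set X) (n j : ℕ) (x : X) (hx : x ∈ Dset f F Y n j) :
    (j : WithBot ℕ∞) ≤ FlatMor.fibreDimAt f x :=
  HasGen.le_fibreDimAt f hx

theorem le_fiberDepthAlong_iff (Y : Set X) (n : ℕ) (y : X) :
    ((n + 1 : ℕ) : ℕ∞) ≤ CInt.fiberDepthAlong f F Y y ↔ ∀ j : ℕ, y ∉ Dset f F Y n j := by
  unfold CInt.fiberDepthAlong
  rw [le_iInf_iff]
  constructor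
  · rintro h j ⟨z, ⟨hzK, hzY⟩, hfz, hzy, hj⟩
    exact (not_le_fiberDepth_iff f F n z).mpr ⟨j, hzK, hj⟩ (h ⟨z, hzY, hzy, hfz⟩)
  · rintro h ⟨z, hzY, hzy, hfz⟩
    by_contra hcon
    obtain ⟨j, hzK, hj⟩ := (not_le_fiberDepth_iff f F n z).mp hcon
    exact h j ⟨z, ⟨hzK, hzY⟩, hfz, hzy, hj⟩

include hF in
/-- **Openness of the locus where the fibrewise depth along `Y` is at least `n`.** -/
theorem exists_open_fiberDepthAlong_ge (hflat : FlatMod.IsFlatOver f F) (Y : Closeds ↥X) (n : ℕ) :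
    ∃ U : X.Opens, ∀ y : ↥X, y ∈ Y →
      (y ∈ U ↔ (n : ℕ∞) ≤ CInt.fiberDepthAlong f F (Y : Set ↥X) y) := by
  rcases n with _ | n
  · exact ⟨⊤, fun y _ => ⟨fun _ => by simp, fun _ => trivial⟩⟩
  · have h := isOpen_forall_notMem f (Dset f F (Y : Set X) n)
      (isClosed_Dset f F hF hflat (Y : Set X) Y.isClosed n)
      (le_fibreDimAt_of_mem_Dset f F (Y : Set X) n) Set.univ
    refine ⟨⟨_, h⟩, fun y _ => ?_⟩
    rw [le_fiberDepthAlong_iff f F (Y : Set X) n y]
    change (∀ m ∈ Set.univ, y ∉ Dset f F (Y : Set X) n m) ↔ _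
    simp

end Groth.Agent.Lib.Helper14.FibDepthAlongA
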