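import Mathlib
import Groth.Agent.Lib.Helper14FibDepthAlongA
import Groth.Agent.Lib.Helper14ConsGenB

/-!
# Constructibility of the depth of the fibre modules along a closed constructible subset
(helper14)
-/

set_option autoImplicit false
set_option linter.unusedVariables false
set_option linter.unusedSectionVars false
set_option linter.style.haveILetI false
set_option maxHeartbeats 400000

universe u

open CategoryTheory Limits AlgebraicGeometry TopologicalSpace Topology
open scoped Set.Notation

namespace Groth.Agent.Lib.Helper14.FibDepthAlongB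

open Groth.Agent.Lib.Helper4.DimFormula Groth.Agent.Lib.Helper4.VarDim
  Groth.Agent.Lib.Helper4.FibDim
open Groth.Agent.Lib.Helper14.FibAssA Groth.Agent.Lib.Helper14.FibAssB
  Groth.Agent.Lib.Helper14.FibAssC Groth.Agent.Lib.Helper14.FibAssD
  Groth.Agent.Lib.Helper14.FibAssE Groth.Agent.Lib.Helper14.FibAssF
  Groth.Agent.Lib.Helper14.FibAssG Groth.Agent.Lib.Helper14.FibRhoH
  Groth.Agent.Lib.Helper14.FibDepthAlongA Groth.Agent.Lib.Helper14.ConsGenA
  Groth.Agent.Lib.Helper14.ConsGenB

section Sch

variable {X : Scheme.{u}}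

/-- a locally constructible subset of a scheme traces a constructible subset on every affine
open. -/
theorem isConstructible_affine_preimage_val {s : Set X} (hs : IsLocallyConstructible s)
    {U : X.Opens} (hU : IsAffineOpen U) : IsConstructible ((U : Set X) ↓∩ s) := by
  have h1 := isConstructible_fromSpec_preimage hs hU
  have h2 := isConstructible_range_preimage_val hU.fromSpec.base hU.fromSpec.isOpenEmbedding _ h1
  rw [hU.range_fromSpec] at h2
  exact h2

/-- the trace of a locally constructible set on a closed locally constructible subset of an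
affine open, read in the subspace topology of the closed subset. -/
theorem isConstructible_closed_affine_preimage {s : Set X} (hs : IsLocallyConstructible s)
    (Y : Set X) (hY : IsClosed Y) (hYc : IsLocallyConstructible Y)
    {U : X.Opens} (hU : IsAffineOpen U)
    (V : Opens ↥Y) (hV : (V : Set ↥Y) = Subtype.val ⁻¹' (U : Set X)) :
    IsConstructible {v : ↥V | v.1.1 ∈ s} := by
  have hvU : ∀ v : ↥V, v.1.1 ∈ (U : Set X) := by
    intro v
    have : v.1 ∈ (V : Set ↥Y) := v.2
    rw [hV] at this
    exact this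
  let ι' : ↥V → ↥(U : Set X) := fun v => ⟨v.1.1, hvU v⟩
  have hcont : Continuous ι' :=
    Continuous.subtype_mk (continuous_subtype_val.comp continuous_subtype_val) _
  have hemb : IsEmbedding ι' := by
    have h1 : IsEmbedding (fun v : ↥V => v.1.1) :=
      (IsEmbedding.subtypeVal (p := fun x : X => x ∈ Y)).comp
        (IsEmbedding.subtypeVal (p := fun y : ↥Y => y ∈ V))
    exact IsEmbedding.of_comp (g := (Subtype.val : ↥(U : Set X) → X)) hcont
      continuous_subtype_val h1
  have hrange : Set.range ι' = (U : Set X) ↓∩ Y := by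
    ext u
    constructor
    · rintro ⟨v, rfl⟩
      exact v.1.2
    · intro hu
      have huY : u.1 ∈ Y := hu
      have huV : (⟨u.1, huY⟩ : ↥Y) ∈ (V : Set ↥Y) := by
        rw [hV]
        exact u.2
      exact ⟨⟨⟨u.1, huY⟩, huV⟩, rfl⟩
  have hcl : IsClosedEmbedding ι' := by
    refine ⟨hemb, ?_⟩
    rw [hrange]
    exact hY.preimage continuous_subtype_val
  have hcompl : IsCompact (Set.range ι')ᶜ := by
    rw [hrange, Subtype.isCompact_iff]
    have h1 : (Subtype.val : ↥(U : Set X) → X) '' ((U : Set X) ↓∩ Y)ᶜ = Yᶜ ∩ (U : Set X) := by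
      ext x
      constructor
      · rintro ⟨u, hu, rfl⟩
        exact ⟨hu, u.2⟩
      · rintro ⟨hx1, hx2⟩
        exact ⟨⟨x, hx2⟩, hx1, rfl⟩
    rw [h1]
    exact isRetrocompact_of_isLocallyConstructible (isLocallyConstructible_compl hYc)
      hU.isCompact U.2
  have h3 := (isConstructible_affine_preimage_val hs hU).preimage_of_isClosedEmbedding hcl hcompl
  exact h3

end Sch

variable {X S : Scheme.{u}} (f : X ⟶ S) [LocallyOfFinitePresentation f] (F : X.Modules)
  (hF : CohB1.IsFP F)

include hF in
theorem isLocallyConstructible_Kset (m : ℕ) : IsLocallyConstructible (Kset f F m) :=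
  isLocallyConstructible_geomRho f F hF (fun r => ¬ (((m + 1 : ℕ) : WithBot ℕ∞) ≤ r))

include hF in
theorem isLocallyConstructible_Dset (hflat : FlatMod.IsFlatOver f F) (Y : Set X) (hY : IsClosed Y)
    (hYc : IsLocallyConstructible Y) (n j : ℕ) :
    IsLocallyConstructible (Dset f F Y n j) :=
  isLocallyConstructible_hasGen f _ ((isClosed_Kset f F hF hflat _).inter hY)
    ((isLocallyConstructible_Kset f F hF _).inter hYc) j

include hF in
/-- the locus of `Y` where the fibrewise depth along `Y` is at least `n` is locally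
constructible. -/
theorem isLocallyConstructible_fiberDepthAlong_ge (hflat : FlatMod.IsFlatOver f F) (Y : Set X)
    (hY : IsClosed Y) (hYc : IsLocallyConstructible Y) (n : ℕ) :
    IsLocallyConstructible {y : X | y ∈ Y ∧ (n : ℕ∞) ≤ CInt.fiberDepthAlong f F Y y} := by
  rcases n with _ | n
  · have : {y : X | y ∈ Y ∧ ((0 : ℕ) : ℕ∞) ≤ CInt.fiberDepthAlong f F Y y} = Y := by
      ext y
      simp
    rw [this]
    exact hYc
  · have h := isLocallyConstructible_forall_notMem f (Dset f F Y n)
      (isLocallyConstructible_Dset f F hF hflat Y hY hYc n)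
      (le_fibreDimAt_of_mem_Dset f F Y n) Set.univ
    have : {y : X | y ∈ Y ∧ ((n + 1 : ℕ) : ℕ∞) ≤ CInt.fiberDepthAlong f F Y y} =
        Y ∩ {x : X | ∀ m ∈ Set.univ, x ∉ Dset f F Y n m} := by
      ext y
      simp only [Set.mem_ofPred_eq, Set.mem_inter_iff]
      rw [le_fiberDepthAlong_iff f F Y n y]
      simp
    rw [this]
    exact hYc.inter h

include hF in
/-- a finite fibrewise depth is bounded by the fibre dimension. -/
theorem fiberDepth_add_le (z : X) (hz : CInt.fiberDepth f F z ≠ ⊤) :
    ((CInt.fiberDepth f F z : ℕ∞) : WithBot ℕ∞) + (ptTrdeg f z : WithBot ℕ∞) ≤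
      FlatMor.fibreDimAt f z := by
  haveI : IsLocallyNoetherian (f.fiber (f.base z)) := isLocallyNoetherian_fiber f (f.base z)
  have hsupp : f.asFiber z ∈ CohB1.support (fibMod f F (f.base z)) := by
    intro hsub
    apply hz
    haveI := hsub
    exact Groth.Agent.Lib.Helper28.depth_eq_top_of_subsingleton
  have h1 := depth_le_supportDim_stalk (fibMod f F (f.base z)) (isCoh_fibMod f F hF (f.base z))
    (f.asFiber z) hsupp
  have h2 : Module.supportDim ((f.fiber (f.base z)).presheaf.stalk (f.asFiber z))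
      ((fibMod f F (f.base z)).presheaf.stalk (f.asFiber z)) ≤
      ringKrullDim ((f.fiber (f.base z)).presheaf.stalk (f.asFiber z)) :=
    Module.supportDim_le_ringKrullDim _ _
  rw [fibreDimAt_eq_stalk_add_ptTrdeg]
  exact add_le_add_left (h1.trans h2) _

include hF in
/-- over the open set where the fibre dimension is at most `N`, the depth along `Y` is either
at most `N` or infinite. -/
theorem fiberDepthAlong_eq_top_of_le (Y : Set X) (N : ℕ) (y : X)
    (hy : FlatMor.fibreDimAt f y ≤ ((N : ℕ) : WithBot ℕ∞))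
    (h : ((N + 1 : ℕ) : ℕ∞) ≤ CInt.fiberDepthAlong f F Y y) :
    CInt.fiberDepthAlong f F Y y = ⊤ := by
  unfold CInt.fiberDepthAlong at h ⊢
  rw [iInf_eq_top]
  rintro ⟨z, hzY, hzy, hfz⟩
  by_contra hne
  have h1 := fiberDepth_add_le f F hF z hne
  have h2 := fibreDimAt_le_of_specializes f z y hzy
  have h3 : ((N + 1 : ℕ) : ℕ∞) ≤ CInt.fiberDepth f F z :=
    h.trans (iInf_le (fun z : {z : X // z ∈ Y ∧ z ⤳ y ∧ f.base z = f.base y} =>
      CInt.fiberDepth f F z.1) ⟨z, hzY, hzy, hfz⟩)
  obtain ⟨d, hd⟩ := ENat.ne_top_iff_exists.mp hne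
  have hd' : CInt.fiberDepth f F z = (d : ℕ∞) := hd.symm
  rw [hd'] at h1 h3
  have h4 := (h1.trans h2).trans hy
  have h5 : d + ptTrdeg f z ≤ N := by exact_mod_cast h4
  have h6 : N + 1 ≤ d := by exact_mod_cast h3
  omega

include hF in
/-- **Local constructibility of the depth along `Y` as a function on `Y`.** -/
theorem exists_opens_fiberDepthAlong (hflat : FlatMod.IsFlatOver f F) (Y : Closeds ↥X)
    (hYc : IsLocallyConstructible (Y : Set ↥X)) (y₀ : ↥(Y : Set ↥X)) :
    ∃ V : Opens ↥(Y : Set ↥X), y₀ ∈ V ∧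
      ((fun y : ↥(Y : Set ↥X) => CInt.fiberDepthAlong f F (Y : Set ↥X) y.1) ''
        (V : Set ↥(Y : Set ↥X))).Finite ∧
      ∀ t : ℕ∞, IsConstructible
        {v : ↥V | CInt.fiberDepthAlong f F (Y : Set ↥X) v.1.1 = t} := by
  obtain ⟨N, hN⟩ := exists_nat_fibreDimAt_le f y₀.1
  let U₀ : X.Opens :=
    ⟨{x : X | FlatMor.fibreDimAt f x ≤ ((N : ℕ) : WithBot ℕ∞)}, Groth.Agent.S0402.result f N⟩
  have hy₀U₀ : y₀.1 ∈ U₀ := hN
  obtain ⟨U, hU, hyU, hUsub⟩ := Opens.isBasis_iff_nbhd.mp X.isBasis_affineOpens hy₀U₀
  have hU : IsAffineOpen U := hU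
  let V : Opens ↥(Y : Set ↥X) :=
    ⟨Subtype.val ⁻¹' (U : Set X), U.2.preimage continuous_subtype_val⟩
  have hVdef : (V : Set ↥(Y : Set ↥X)) = Subtype.val ⁻¹' (U : Set X) := rfl
  have hbound : ∀ y : ↥(Y : Set ↥X), y ∈ V →
      FlatMor.fibreDimAt f y.1 ≤ ((N : ℕ) : WithBot ℕ∞) := fun y hy => hUsub hy
  set W : ℕ → Set X := fun n =>
    {y : X | y ∈ (Y : Set X) ∧ (n : ℕ∞) ≤ CInt.fiberDepthAlong f F (Y : Set ↥X) y} with hW
  have hWc : ∀ n, IsLocallyConstructible (W n) := fun n =>
    isLocallyConstructible_fiberDepthAlong_ge f F hF hflat (Y : Set X) Y.isClosed hYc n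
  refine ⟨V, hyU, ?_, ?_⟩
  · refine Set.Finite.subset (((Finset.range (N + 1)).finite_toSet.image
      (fun k : ℕ => (k : ℕ∞))).union (Set.finite_singleton ⊤)) ?_
    rintro t ⟨y, hyV, rfl⟩
    by_cases htop : CInt.fiberDepthAlong f F (Y : Set ↥X) y.1 = ⊤
    · right
      exact htop
    · left
      obtain ⟨d, hd⟩ := ENat.ne_top_iff_exists.mp htop
      refine ⟨d, ?_, hd⟩
      rw [Finset.mem_coe, Finset.mem_range]
      by_contra hcon
      apply htop
      refine fiberDepthAlong_eq_top_of_le f F hF (Y : Set X) N y.1 (hbound y hyV) ?_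
      rw [← hd]
      have : N + 1 ≤ d := by omega
      exact_mod_cast this
  · intro t
    induction t using ENat.recTopCoe with
    | top =>
      have heq : {v : ↥V | CInt.fiberDepthAlong f F (Y : Set ↥X) v.1.1 = ⊤} =
          {v : ↥V | v.1.1 ∈ W (N + 1)} := by
        ext v
        simp only [Set.mem_ofPred_eq, hW]
        constructor
        · intro h
          refine ⟨v.1.2, ?_⟩
          rw [h]
          exact le_top
        · rintro ⟨_, h⟩
          exact fiberDepthAlong_eq_top_of_le f F hF (Y : Set X) N v.1.1 (hbound v.1 v.2) h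
      rw [heq]
      exact isConstructible_closed_affine_preimage (hWc (N + 1)) (Y : Set X) Y.isClosed hYc hU V
        hVdef
    | coe k =>
      have heq : {v : ↥V | CInt.fiberDepthAlong f F (Y : Set ↥X) v.1.1 = (k : ℕ∞)} =
          {v : ↥V | v.1.1 ∈ W k \ W (k + 1)} := by
        ext v
        simp only [Set.mem_ofPred_eq, hW, Set.mem_sdiff, not_and]
        constructor
        · intro h
          refine ⟨⟨v.1.2, h.ge⟩, fun _ hcon => ?_⟩
          rw [h] at hcon
          have : k + 1 ≤ k := by exact_mod_cast hcon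
          omega
        · rintro ⟨⟨_, h1⟩, h2⟩
          have h3 := h2 v.1.2
          refine le_antisymm ?_ h1
          by_contra hcon
          rw [not_le] at hcon
          apply h3
          have := Order.add_one_le_of_lt hcon
          exact_mod_cast this
      rw [heq]
      exact isConstructible_closed_affine_preimage
        (isLocallyConstructible_sdiff (hWc k) (hWc (k + 1))) (Y : Set X) Y.isClosed hYc hU V hVdef

end Groth.Agent.Lib.Helper14.FibDepthAlongB
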