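import Mathlib
import Groth.Prelude.Def_CurvBase
import Groth.Agent.Lib.Helper2FlatOver
import Groth.Agent.Lib.Helper2Ass

/-!
# Associated points of quasi-coherent modules via affine opens (helper23)

* `isAssPoint_iff_mem_associatedPrimes`: on an affine open `U` with Noetherian ring of sections, a point
  `x ∈ U` is an associated point of the quasi-coherent module `F` iff the prime of `x` is an associated
  prime of the `Γ(X,U)`-module `Γ(F,U)`.
-/

set_option autoImplicit false
universe u
open CategoryTheory Limits AlgebraicGeometry TopologicalSpace Opposite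

namespace Groth.Agent.Lib.Helper23.AssAffine

open Groth.Agent.Lib.Helper2.FlatOver

variable {X : Scheme.{u}}

theorem isAssPoint_iff_mem_associatedPrimes {U : X.Opens} (hU : IsAffineOpen U)
    [IsNoetherianRing Γ(X, U)] (F : X.Modules) [F.IsQuasicoherent] (x : X) (hx : x ∈ U) :
    Curv2.IsAssPoint F x ↔
      (hU.primeIdealOf ⟨x, hx⟩).asIdeal ∈ associatedPrimes Γ(X, U) Γ(F, U) := by
  letI alg : Algebra Γ(X, U) (X.presheaf.stalk x) := X.presheaf.algebra_section_stalk ⟨x, hx⟩
  letI := moduleStalkSections F U x hx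
  haveI loc : IsLocalization.AtPrime (X.presheaf.stalk x) (hU.primeIdealOf ⟨x, hx⟩).asIdeal :=
    hU.isLocalization_stalk ⟨x, hx⟩
  haveI := isLocalizedModule_germ hU F x hx
  haveI : IsScalarTower Γ(X, U) (X.presheaf.stalk x) (F.presheaf.stalk x) := by
    refine ⟨fun r a y => ?_⟩
    change (X.presheaf.germ U x hx r * a) • y = X.presheaf.germ U x hx r • (a • y)
    rw [mul_smul]
  have key := Module.associatedPrimes.preimage_comap_associatedPrimes_eq_associatedPrimes_of_isLocalizedModule
    (hU.primeIdealOf ⟨x, hx⟩).asIdeal.primeCompl (X.presheaf.stalk x) (germₗ F U x hx)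
  have hc : (IsLocalRing.maximalIdeal (X.presheaf.stalk x)).comap
      (algebraMap Γ(X, U) (X.presheaf.stalk x)) = (hU.primeIdealOf ⟨x, hx⟩).asIdeal :=
    IsLocalization.AtPrime.comap_maximalIdeal _ _
  have h1 : Curv2.IsAssPoint F x ↔ IsLocalRing.maximalIdeal (X.presheaf.stalk x) ∈
      associatedPrimes (X.presheaf.stalk x) (F.presheaf.stalk x) := Iff.rfl
  rw [h1, ← key, Set.mem_preimage, hc]

end Groth.Agent.Lib.Helper23.AssAffine
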