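import Mathlib

set_option autoImplicit false
universe u
open TensorProduct

namespace Groth.Agent.Lib.Helper26.TensFlat

section
variable {C A : Type u} [CommRing C] [CommRing A] [Algebra C A]
  {M N : Type u} [AddCommGroup M] [Module A M] [Module C M] [IsScalarTower C A M]
  [AddCommGroup N] [Module A N] [Module C N] [IsScalarTower C A N]

open TensorProduct.AlgebraTensorModule in
theorem assoc_square {P' P : Type u} [AddCommMonoid P'] [Module C P'] [AddCommMonoid P] [Module C P]
    (f : P' →ₗ[C] P) (t : (M ⊗[A] N) ⊗[C] P') :
    (assoc C A A M N P) (LinearMap.lTensor (M ⊗[A] N) f t) =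
      LinearMap.lTensor M (AlgebraTensorModule.lTensor A N f) (assoc C A A M N P' t) := by
  induction t using TensorProduct.induction_on with
  | zero => simp
  | add a b ha hb => simp only [map_add, ha, hb]
  | tmul mn p =>
    induction mn using TensorProduct.induction_on with
    | zero => simp
    | add a b ha hb =>
      simp only [add_tmul, map_add, ha, hb]
    | tmul m n => simp

theorem flat_tensor [Module.Flat A M] [Module.Flat C N] : Module.Flat C (M ⊗[A] N) := by
  rw [Module.Flat.iff_lTensor_injectiveₛ]
  intro P _ _ Q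
  have h1 : Function.Injective (AlgebraTensorModule.lTensor A N Q.subtype) := by
    have := Module.Flat.lTensor_preserves_injective_linearMap (M := N) Q.subtype
      Subtype.val_injective
    exact this
  have h2 := Module.Flat.lTensor_preserves_injective_linearMap (M := M)
    (AlgebraTensorModule.lTensor A N Q.subtype) h1
  intro a b hab
  apply (AlgebraTensorModule.assoc C A A M N Q).injective
  apply h2
  rw [← assoc_square, ← assoc_square, hab]

theorem flat_of_flat_tensor [Module.FaithfullyFlat A M] (h : Module.Flat C (M ⊗[A] N)) :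
    Module.Flat C N := by
  rw [Module.Flat.iff_lTensor_injectiveₛ]
  intro P _ _ Q
  have h0 := Module.Flat.lTensor_preserves_injective_linearMap (M := M ⊗[A] N) Q.subtype
    Subtype.val_injective
  have h1 : Function.Injective (AlgebraTensorModule.lTensor A N Q.subtype) := by
    rw [← Module.FaithfullyFlat.lTensor_injective_iff_injective A M]
    intro a b hab
    obtain ⟨a, rfl⟩ := (AlgebraTensorModule.assoc C A A M N Q).surjective a
    obtain ⟨b, rfl⟩ := (AlgebraTensorModule.assoc C A A M N Q).surjective b
    rw [← assoc_square, ← assoc_square] at hab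
    rw [h0 ((AlgebraTensorModule.assoc C A A M N P).injective hab)]
  exact h1

theorem smul_top_ne_top_of_tensor (I : Ideal C)
    (h : I • (⊤ : Submodule C (M ⊗[A] N)) ≠ ⊤) : I • (⊤ : Submodule C N) ≠ ⊤ := by
  intro hN
  apply h
  rw [eq_top_iff]
  intro z _
  induction z using TensorProduct.induction_on with
  | zero => exact zero_mem _
  | add a b ha hb => exact add_mem (ha trivial) (hb trivial)
  | tmul m n =>
    have hn : n ∈ I • (⊤ : Submodule C N) := by rw [hN]; trivial
    refine Submodule.smul_induction_on hn (fun c hc n' _ => ?_) (fun a b ha hb => ?_)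
    · rw [TensorProduct.tmul_smul]
      exact Submodule.smul_mem_smul hc trivial
    · rw [TensorProduct.tmul_add]
      exact add_mem ha hb

theorem smul_top_ne_top_tensor [Module.FaithfullyFlat A M] (I : Ideal C)
    (h : I • (⊤ : Submodule C N) ≠ ⊤) : I • (⊤ : Submodule C (M ⊗[A] N)) ≠ ⊤ := by
  let K : Submodule A N := (I.map (algebraMap C A)) • ⊤
  have hK : K ≠ ⊤ := by
    intro hK
    apply h
    have e := Ideal.smul_restrictScalars (R := C) (S := A) I (⊤ : Submodule A N)
    have h1 : (I • (⊤ : Submodule C N)) = K.restrictScalars C := by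
      rw [e]
      rfl
    rw [h1, hK]
    rfl
  haveI : Nontrivial (N ⧸ K) := Submodule.Quotient.nontrivial_iff.2 hK
  haveI : Nontrivial (M ⊗[A] (N ⧸ K)) := Module.FaithfullyFlat.lTensor_nontrivial A M (N ⧸ K)
  intro hT
  have hsurj : Function.Surjective (LinearMap.lTensor M K.mkQ) :=
    LinearMap.lTensor_surjective M K.mkQ_surjective
  have hkill : ∀ (c : C), c ∈ I → ∀ w : M ⊗[A] (N ⧸ K), (algebraMap C A c) • w = 0 := by
    intro c hc w
    induction w using TensorProduct.induction_on with
    | zero => simp
    | add a b ha hb => rw [smul_add, ha, hb, add_zero]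
    | tmul m n =>
      obtain ⟨n, rfl⟩ := K.mkQ_surjective n
      rw [TensorProduct.smul_tmul', TensorProduct.smul_tmul, ← map_smul]
      have : algebraMap C A c • n ∈ K :=
        Submodule.smul_mem_smul (Ideal.mem_map_of_mem _ hc) trivial
      rw [Submodule.mkQ_apply, (Submodule.Quotient.mk_eq_zero K).2 this, TensorProduct.tmul_zero]
  have hzero : ∀ z : M ⊗[A] N, LinearMap.lTensor M K.mkQ z = 0 := by
    intro z
    have hz : z ∈ I • (⊤ : Submodule C (M ⊗[A] N)) := by rw [hT]; trivial
    refine Submodule.smul_induction_on hz (fun c hc z' _ => ?_) (fun a b ha hb => ?_)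
    · rw [← algebraMap_smul A c z', map_smul]
      exact hkill c hc _
    · rw [map_add, ha, hb, add_zero]
  obtain ⟨w, hw⟩ := exists_ne (0 : M ⊗[A] (N ⧸ K))
  obtain ⟨z, rfl⟩ := hsurj w
  exact hw (hzero z)

end

end Groth.Agent.Lib.Helper26.TensFlat
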