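import Mathlib
import Groth.Agent.Lib.Helper1StalkTensorB
import Groth.Agent.Lib.Helper26StalkBC
import Groth.Agent.Lib.Helper26TensFlat
import Groth.Agent.Lib.Helper2PullbackSec3
import Groth.Agent.Lib.Helper2FFComp
set_option backward.isDefEq.respectTransparency.types false

set_option autoImplicit false
universe u
open CategoryTheory AlgebraicGeometry Limits TensorProduct IsLocalRing MonoidalCategory
open Groth.Agent.Lib.Helper1.StalkTensor Groth.Agent.Lib.Helper26.StalkBC
  Groth.Agent.Lib.Helper26.TensFlat Groth.Agent.Lib.Helper2.PullbackSec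

namespace Groth.Agent.Lib.Helper26.TensStalk

variable {X : Scheme.{u}}

/-- the stalk of `A ⊗ B` is the tensor product of the stalks, linearly over `O_{X,x}`. -/
noncomputable def tensorStalk (A B : X.Modules) (x : X) :
    ((CohB1.tensorMod A B).presheaf.stalk x : Type u) ≃ₗ[(X.presheaf.stalk x : Type u)]
      (A.presheaf.stalk x : Type u) ⊗[(X.presheaf.stalk x : Type u)] (B.presheaf.stalk x : Type u) :=
  (LinearEquiv.ofBijective (smₗ (etaX (toPM A ⊗ toPM B)) x)
    (sm_etaX_bijective (toPM A ⊗ toPM B) x)).symm.trans (αLin (toPM A) (toPM B) x)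

section proj

variable {X' Y' : Scheme.{u}} (q : X' ⟶ Y') (P : X'.Modules) (G' : Y'.Modules) [G'.IsQuasicoherent]
  (x' : X')

/-- **stalk projection formula**: the stalk of `P ⊗ q^*G'` at `x'` is `P_{x'} ⊗_{O_{Y',q x'}} G'_{q x'}`. -/
theorem exists_stalk_tensor_equiv :
    letI aA'B' : Algebra (Y'.presheaf.stalk (q x')) (X'.presheaf.stalk x') :=
      (q.stalkMap x').hom.toAlgebra
    letI mA'M' := FlatMod.moduleStalkOver q P x'
    haveI : IsScalarTower (Y'.presheaf.stalk (q x')) (X'.presheaf.stalk x')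
        (P.presheaf.stalk x') := IsScalarTower.of_algebraMap_smul (fun _ _ => rfl)
    ∃ (e : ((CohB1.tensorMod P ((Scheme.Modules.pullback q).obj G')).presheaf.stalk x' : Type u) ≃+
        (P.presheaf.stalk x' : Type u) ⊗[(Y'.presheaf.stalk (q x') : Type u)]
          (G'.presheaf.stalk (q x') : Type u)),
      ∀ (b : (X'.presheaf.stalk x' : Type u)) t, e (b • t) = b • e t := by
  letI aA'B' : Algebra (Y'.presheaf.stalk (q x')) (X'.presheaf.stalk x') :=
    (q.stalkMap x').hom.toAlgebra
  letI mA'M' := FlatMod.moduleStalkOver q P x'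
  letI mA'N' := FlatMod.moduleStalkOver q ((Scheme.Modules.pullback q).obj G') x'
  haveI : IsScalarTower (Y'.presheaf.stalk (q x')) (X'.presheaf.stalk x')
      (P.presheaf.stalk x') := IsScalarTower.of_algebraMap_smul (fun _ _ => rfl)
  obtain ⟨hT, hbc⟩ := isBaseChange_stalkUnit q G' x'
  let e1 := hbc.equiv
  let e2 := TensorProduct.AlgebraTensorModule.cancelBaseChange
    (Y'.presheaf.stalk (q x')) (X'.presheaf.stalk x') (X'.presheaf.stalk x')
    (P.presheaf.stalk x') (G'.presheaf.stalk (q x'))
  let e3 := TensorProduct.congr (LinearEquiv.refl (X'.presheaf.stalk x')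
    (P.presheaf.stalk x')) e1.symm
  let τ := tensorStalk P ((Scheme.Modules.pullback q).obj G') x'
  refine ⟨((τ.trans e3).trans e2).toAddEquiv, fun b t => ?_⟩
  exact map_smul ((τ.trans e3).trans e2) b t

variable {Z : Scheme.{u}} (h : Y' ⟶ Z)

theorem smul_tensor_compat {C A' B' M' N : Type u} [CommRing C] [CommRing A'] [CommRing B']
    [Algebra C A'] [Algebra A' B'] [AddCommGroup M'] [Module B' M'] [Module A' M']
    [IsScalarTower A' B' M'] [Module C M'] [IsScalarTower C A' M'] [AddCommGroup N] [Module A' N]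
    (c : C) (z : M' ⊗[A'] N) :
    c • z = (algebraMap A' B' (algebraMap C A' c)) • z := by
  induction z using TensorProduct.induction_on with
  | zero => simp
  | add a b ha hb => rw [smul_add, smul_add, ha, hb]
  | tmul m n =>
    rw [TensorProduct.smul_tmul', TensorProduct.smul_tmul', algebraMap_smul, algebraMap_smul]

theorem faithfullyFlat_of_local {A M : Type*} [CommRing A] [IsLocalRing A] [AddCommGroup M]
    [Module A M] [Module.Flat A M] (h : maximalIdeal A • (⊤ : Submodule A M) ≠ ⊤) :
    Module.FaithfullyFlat A M :=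
  { ‹Module.Flat A M› with
    submodule_ne_top := fun m hm => by rw [IsLocalRing.eq_maximalIdeal hm]; exact h }

theorem smul_top_eq_top_iff_of_equiv {C T T' : Type*} [CommRing C] [AddCommGroup T] [Module C T]
    [AddCommGroup T'] [Module C T'] (e : T ≃+ T') (he : ∀ (c : C) t, e (c • t) = c • e t)
    (I : Ideal C) : I • (⊤ : Submodule C T) = ⊤ ↔ I • (⊤ : Submodule C T') = ⊤ := by
  let e' : T ≃ₗ[C] T' := { e with map_smul' := he }
  constructor
  · intro h
    have := congrArg (Submodule.map e'.toLinearMap) h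
    rwa [Submodule.map_smul'', Submodule.map_top, LinearMap.range_eq_top.2 e'.surjective] at this
  · intro h
    have := congrArg (Submodule.map e'.symm.toLinearMap) h
    rwa [Submodule.map_smul'', Submodule.map_top, LinearMap.range_eq_top.2 e'.symm.surjective]
      at this

/-- the stalk projection formula, linear over the local ring of `Z`. -/
theorem exists_stalk_tensor_equiv_over :
    letI aA'B' : Algebra (Y'.presheaf.stalk (q x')) (X'.presheaf.stalk x') :=
      (q.stalkMap x').hom.toAlgebra
    letI mA'M' := FlatMod.moduleStalkOver q P x'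
    haveI : IsScalarTower (Y'.presheaf.stalk (q x')) (X'.presheaf.stalk x')
        (P.presheaf.stalk x') := IsScalarTower.of_algebraMap_smul (fun _ _ => rfl)
    letI aCA' : Algebra (Z.presheaf.stalk (h (q x'))) (Y'.presheaf.stalk (q x')) :=
      (h.stalkMap (q x')).hom.toAlgebra
    letI mCM' : Module (Z.presheaf.stalk (h (q x'))) (P.presheaf.stalk x') :=
      Module.compHom _ (algebraMap (Z.presheaf.stalk (h (q x'))) (Y'.presheaf.stalk (q x')))
    haveI : IsScalarTower (Z.presheaf.stalk (h (q x'))) (Y'.presheaf.stalk (q x'))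
        (P.presheaf.stalk x') := IsScalarTower.of_algebraMap_smul (fun _ _ => rfl)
    letI mT : Module (Z.presheaf.stalk (h (q x')))
        ((CohB1.tensorMod P ((Scheme.Modules.pullback q).obj G')).presheaf.stalk x') :=
      FlatMod.moduleStalkOver (q ≫ h) (CohB1.tensorMod P ((Scheme.Modules.pullback q).obj G')) x'
    ∃ (e : ((CohB1.tensorMod P ((Scheme.Modules.pullback q).obj G')).presheaf.stalk x' : Type u) ≃+
        (P.presheaf.stalk x' : Type u) ⊗[(Y'.presheaf.stalk (q x') : Type u)]
          (G'.presheaf.stalk (q x') : Type u)),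
      ∀ (c : (Z.presheaf.stalk (h (q x')) : Type u)) t, e (c • t) = c • e t := by
  letI aA'B' : Algebra (Y'.presheaf.stalk (q x')) (X'.presheaf.stalk x') :=
    (q.stalkMap x').hom.toAlgebra
  letI mA'M' := FlatMod.moduleStalkOver q P x'
  haveI : IsScalarTower (Y'.presheaf.stalk (q x')) (X'.presheaf.stalk x')
      (P.presheaf.stalk x') := IsScalarTower.of_algebraMap_smul (fun _ _ => rfl)
  obtain ⟨e, he⟩ := exists_stalk_tensor_equiv q P G' x'
  letI aCA' : Algebra (Z.presheaf.stalk (h (q x'))) (Y'.presheaf.stalk (q x')) :=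
    (h.stalkMap (q x')).hom.toAlgebra
  letI mCM' : Module (Z.presheaf.stalk (h (q x'))) (P.presheaf.stalk x') :=
    Module.compHom _ (algebraMap (Z.presheaf.stalk (h (q x'))) (Y'.presheaf.stalk (q x')))
  haveI : IsScalarTower (Z.presheaf.stalk (h (q x'))) (Y'.presheaf.stalk (q x'))
      (P.presheaf.stalk x') := IsScalarTower.of_algebraMap_smul (fun _ _ => rfl)
  refine ⟨e, fun c t => ?_⟩
  change e ((((q ≫ h).stalkMap x').hom c) • t) = _
  rw [he]
  have h2 := smul_tensor_compat (C := (Z.presheaf.stalk (h (q x')) : Type u))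
    (A' := (Y'.presheaf.stalk (q x') : Type u)) (B' := (X'.presheaf.stalk x' : Type u))
    (M' := (P.presheaf.stalk x' : Type u)) (N := (G'.presheaf.stalk (q x') : Type u)) c (e t)
  rw [h2, Scheme.Hom.stalkMap_comp]
  rfl

/-- `P` flat over `Y'` at `x'` and `G'` flat over `Z` at `q x'` imply `P ⊗ q^*G'` flat over `Z` at `x'`. -/
theorem isFlatOverAt_tensor (hP : FlatMod.IsFlatOverAt q P x')
    (hG : FlatMod.IsFlatOverAt h G' (q x')) :
    FlatMod.IsFlatOverAt (q ≫ h) (CohB1.tensorMod P ((Scheme.Modules.pullback q).obj G')) x' := by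
  letI aA'B' : Algebra (Y'.presheaf.stalk (q x')) (X'.presheaf.stalk x') :=
    (q.stalkMap x').hom.toAlgebra
  letI mA'M' := FlatMod.moduleStalkOver q P x'
  haveI : IsScalarTower (Y'.presheaf.stalk (q x')) (X'.presheaf.stalk x')
      (P.presheaf.stalk x') := IsScalarTower.of_algebraMap_smul (fun _ _ => rfl)
  letI aCA' : Algebra (Z.presheaf.stalk (h (q x'))) (Y'.presheaf.stalk (q x')) :=
    (h.stalkMap (q x')).hom.toAlgebra
  letI mCN := FlatMod.moduleStalkOver h G' (q x')
  haveI : IsScalarTower (Z.presheaf.stalk (h (q x'))) (Y'.presheaf.stalk (q x'))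
      (G'.presheaf.stalk (q x')) := IsScalarTower.of_algebraMap_smul (fun _ _ => rfl)
  letI mCM' : Module (Z.presheaf.stalk (h (q x'))) (P.presheaf.stalk x') :=
    Module.compHom _ (algebraMap (Z.presheaf.stalk (h (q x'))) (Y'.presheaf.stalk (q x')))
  haveI : IsScalarTower (Z.presheaf.stalk (h (q x'))) (Y'.presheaf.stalk (q x'))
      (P.presheaf.stalk x') := IsScalarTower.of_algebraMap_smul (fun _ _ => rfl)
  letI mT : Module (Z.presheaf.stalk (h (q x')))
      ((CohB1.tensorMod P ((Scheme.Modules.pullback q).obj G')).presheaf.stalk x') :=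
    FlatMod.moduleStalkOver (q ≫ h) (CohB1.tensorMod P ((Scheme.Modules.pullback q).obj G')) x'
  obtain ⟨e, he⟩ := exists_stalk_tensor_equiv_over q P G' x' h
  haveI : Module.Flat (Y'.presheaf.stalk (q x')) (P.presheaf.stalk x') := hP
  haveI : Module.Flat (Z.presheaf.stalk (h (q x'))) (G'.presheaf.stalk (q x')) := hG
  have key : Module.Flat (Z.presheaf.stalk (h (q x')))
      ((P.presheaf.stalk x' : Type u) ⊗[(Y'.presheaf.stalk (q x') : Type u)]
        (G'.presheaf.stalk (q x') : Type u)) := flat_tensor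
  let e' : ((CohB1.tensorMod P ((Scheme.Modules.pullback q).obj G')).presheaf.stalk x' : Type u)
      ≃ₗ[(Z.presheaf.stalk (h (q x')) : Type u)]
      (P.presheaf.stalk x' : Type u) ⊗[(Y'.presheaf.stalk (q x') : Type u)]
        (G'.presheaf.stalk (q x') : Type u) := { e with map_smul' := he }
  have goal : Module.Flat (Z.presheaf.stalk (h (q x')))
      ((CohB1.tensorMod P ((Scheme.Modules.pullback q).obj G')).presheaf.stalk x') :=
    Module.Flat.of_linearEquiv e'
  exact goal

/-- converse: if `P` is flat over `Y'` at `x'` with nonzero fibre and `P ⊗ q^*G'` is flat over `Z` at `x'`, then `G'`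
is flat over `Z` at `q x'`. -/
theorem isFlatOverAt_of_tensor (hP : FlatMod.IsFlatOverAt q P x')
    (hne : letI := FlatMod.moduleStalkOver q P x'
      maximalIdeal (Y'.presheaf.stalk (q x')) •
        (⊤ : Submodule (Y'.presheaf.stalk (q x')) (P.presheaf.stalk x')) ≠ ⊤)
    (hT : FlatMod.IsFlatOverAt (q ≫ h)
      (CohB1.tensorMod P ((Scheme.Modules.pullback q).obj G')) x') :
    FlatMod.IsFlatOverAt h G' (q x') := by
  letI aA'B' : Algebra (Y'.presheaf.stalk (q x')) (X'.presheaf.stalk x') :=
    (q.stalkMap x').hom.toAlgebra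
  letI mA'M' := FlatMod.moduleStalkOver q P x'
  haveI : IsScalarTower (Y'.presheaf.stalk (q x')) (X'.presheaf.stalk x')
      (P.presheaf.stalk x') := IsScalarTower.of_algebraMap_smul (fun _ _ => rfl)
  letI aCA' : Algebra (Z.presheaf.stalk (h (q x'))) (Y'.presheaf.stalk (q x')) :=
    (h.stalkMap (q x')).hom.toAlgebra
  letI mCN := FlatMod.moduleStalkOver h G' (q x')
  haveI : IsScalarTower (Z.presheaf.stalk (h (q x'))) (Y'.presheaf.stalk (q x'))
      (G'.presheaf.stalk (q x')) := IsScalarTower.of_algebraMap_smul (fun _ _ => rfl)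
  letI mCM' : Module (Z.presheaf.stalk (h (q x'))) (P.presheaf.stalk x') :=
    Module.compHom _ (algebraMap (Z.presheaf.stalk (h (q x'))) (Y'.presheaf.stalk (q x')))
  haveI : IsScalarTower (Z.presheaf.stalk (h (q x'))) (Y'.presheaf.stalk (q x'))
      (P.presheaf.stalk x') := IsScalarTower.of_algebraMap_smul (fun _ _ => rfl)
  letI mT : Module (Z.presheaf.stalk (h (q x')))
      ((CohB1.tensorMod P ((Scheme.Modules.pullback q).obj G')).presheaf.stalk x') :=
    FlatMod.moduleStalkOver (q ≫ h) (CohB1.tensorMod P ((Scheme.Modules.pullback q).obj G')) x'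
  obtain ⟨e, he⟩ := exists_stalk_tensor_equiv_over q P G' x' h
  haveI : Module.Flat (Y'.presheaf.stalk (q x')) (P.presheaf.stalk x') := hP
  haveI : Module.FaithfullyFlat (Y'.presheaf.stalk (q x')) (P.presheaf.stalk x') :=
    faithfullyFlat_of_local hne
  haveI hT' : Module.Flat (Z.presheaf.stalk (h (q x')))
      ((CohB1.tensorMod P ((Scheme.Modules.pullback q).obj G')).presheaf.stalk x') := hT
  let e' : ((CohB1.tensorMod P ((Scheme.Modules.pullback q).obj G')).presheaf.stalk x' : Type u)
      ≃ₗ[(Z.presheaf.stalk (h (q x')) : Type u)]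
      (P.presheaf.stalk x' : Type u) ⊗[(Y'.presheaf.stalk (q x') : Type u)]
        (G'.presheaf.stalk (q x') : Type u) := { e with map_smul' := he }
  have key : Module.Flat (Z.presheaf.stalk (h (q x')))
      ((P.presheaf.stalk x' : Type u) ⊗[(Y'.presheaf.stalk (q x') : Type u)]
        (G'.presheaf.stalk (q x') : Type u)) := Module.Flat.of_linearEquiv e'.symm
  exact flat_of_flat_tensor (A := (Y'.presheaf.stalk (q x') : Type u))
    (M := (P.presheaf.stalk x' : Type u)) key

/-- nonvanishing of the fibre of `P ⊗ q^*G'` from that of `P` (flat) and `G'`. -/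
theorem smul_top_ne_top_tensorMod (hP : FlatMod.IsFlatOverAt q P x')
    (hne : letI := FlatMod.moduleStalkOver q P x'
      maximalIdeal (Y'.presheaf.stalk (q x')) •
        (⊤ : Submodule (Y'.presheaf.stalk (q x')) (P.presheaf.stalk x')) ≠ ⊤)
    (hN : letI := FlatMod.moduleStalkOver h G' (q x')
      maximalIdeal (Z.presheaf.stalk (h (q x'))) •
        (⊤ : Submodule (Z.presheaf.stalk (h (q x'))) (G'.presheaf.stalk (q x'))) ≠ ⊤) :
    letI := FlatMod.moduleStalkOver (q ≫ h)
      (CohB1.tensorMod P ((Scheme.Modules.pullback q).obj G')) x'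
    maximalIdeal (Z.presheaf.stalk ((q ≫ h) x')) •
      (⊤ : Submodule (Z.presheaf.stalk ((q ≫ h) x'))
        ((CohB1.tensorMod P ((Scheme.Modules.pullback q).obj G')).presheaf.stalk x')) ≠ ⊤ := by
  letI aA'B' : Algebra (Y'.presheaf.stalk (q x')) (X'.presheaf.stalk x') :=
    (q.stalkMap x').hom.toAlgebra
  letI mA'M' := FlatMod.moduleStalkOver q P x'
  haveI : IsScalarTower (Y'.presheaf.stalk (q x')) (X'.presheaf.stalk x')
      (P.presheaf.stalk x') := IsScalarTower.of_algebraMap_smul (fun _ _ => rfl)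
  letI aCA' : Algebra (Z.presheaf.stalk (h (q x'))) (Y'.presheaf.stalk (q x')) :=
    (h.stalkMap (q x')).hom.toAlgebra
  letI mCN := FlatMod.moduleStalkOver h G' (q x')
  haveI : IsScalarTower (Z.presheaf.stalk (h (q x'))) (Y'.presheaf.stalk (q x'))
      (G'.presheaf.stalk (q x')) := IsScalarTower.of_algebraMap_smul (fun _ _ => rfl)
  letI mCM' : Module (Z.presheaf.stalk (h (q x'))) (P.presheaf.stalk x') :=
    Module.compHom _ (algebraMap (Z.presheaf.stalk (h (q x'))) (Y'.presheaf.stalk (q x')))
  haveI : IsScalarTower (Z.presheaf.stalk (h (q x'))) (Y'.presheaf.stalk (q x'))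
      (P.presheaf.stalk x') := IsScalarTower.of_algebraMap_smul (fun _ _ => rfl)
  letI mT : Module (Z.presheaf.stalk (h (q x')))
      ((CohB1.tensorMod P ((Scheme.Modules.pullback q).obj G')).presheaf.stalk x') :=
    FlatMod.moduleStalkOver (q ≫ h) (CohB1.tensorMod P ((Scheme.Modules.pullback q).obj G')) x'
  obtain ⟨e, he⟩ := exists_stalk_tensor_equiv_over q P G' x' h
  haveI : Module.Flat (Y'.presheaf.stalk (q x')) (P.presheaf.stalk x') := hP
  haveI : Module.FaithfullyFlat (Y'.presheaf.stalk (q x')) (P.presheaf.stalk x') :=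
    faithfullyFlat_of_local hne
  have key := smul_top_ne_top_tensor (A := (Y'.presheaf.stalk (q x') : Type u))
    (M := (P.presheaf.stalk x' : Type u)) (maximalIdeal (Z.presheaf.stalk (h (q x')))) hN
  have goal : maximalIdeal (Z.presheaf.stalk (h (q x'))) •
      (⊤ : Submodule (Z.presheaf.stalk (h (q x')))
        ((CohB1.tensorMod P ((Scheme.Modules.pullback q).obj G')).presheaf.stalk x')) ≠ ⊤ := by
    intro h0
    exact key ((smul_top_eq_top_iff_of_equiv e he _).1 h0)
  exact goal

/-- nonvanishing of the fibre of `G'` from that of `P ⊗ q^*G'`. -/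
theorem smul_top_ne_top_of_tensorMod
    (hT : letI := FlatMod.moduleStalkOver (q ≫ h) (CohB1.tensorMod P ((Scheme.Modules.pullback q).obj G')) x'
      maximalIdeal (Z.presheaf.stalk ((q ≫ h) x')) •
        (⊤ : Submodule (Z.presheaf.stalk ((q ≫ h) x'))
          ((CohB1.tensorMod P ((Scheme.Modules.pullback q).obj G')).presheaf.stalk x')) ≠ ⊤) :
    letI := FlatMod.moduleStalkOver h G' (q x')
    maximalIdeal (Z.presheaf.stalk (h (q x'))) •
      (⊤ : Submodule (Z.presheaf.stalk (h (q x'))) (G'.presheaf.stalk (q x'))) ≠ ⊤ := by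
  letI aA'B' : Algebra (Y'.presheaf.stalk (q x')) (X'.presheaf.stalk x') :=
    (q.stalkMap x').hom.toAlgebra
  letI mA'M' := FlatMod.moduleStalkOver q P x'
  haveI : IsScalarTower (Y'.presheaf.stalk (q x')) (X'.presheaf.stalk x')
      (P.presheaf.stalk x') := IsScalarTower.of_algebraMap_smul (fun _ _ => rfl)
  letI aCA' : Algebra (Z.presheaf.stalk (h (q x'))) (Y'.presheaf.stalk (q x')) :=
    (h.stalkMap (q x')).hom.toAlgebra
  letI mCN := FlatMod.moduleStalkOver h G' (q x')
  haveI : IsScalarTower (Z.presheaf.stalk (h (q x'))) (Y'.presheaf.stalk (q x'))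
      (G'.presheaf.stalk (q x')) := IsScalarTower.of_algebraMap_smul (fun _ _ => rfl)
  letI mCM' : Module (Z.presheaf.stalk (h (q x'))) (P.presheaf.stalk x') :=
    Module.compHom _ (algebraMap (Z.presheaf.stalk (h (q x'))) (Y'.presheaf.stalk (q x')))
  haveI : IsScalarTower (Z.presheaf.stalk (h (q x'))) (Y'.presheaf.stalk (q x'))
      (P.presheaf.stalk x') := IsScalarTower.of_algebraMap_smul (fun _ _ => rfl)
  letI mT : Module (Z.presheaf.stalk (h (q x')))
      ((CohB1.tensorMod P ((Scheme.Modules.pullback q).obj G')).presheaf.stalk x') :=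
    FlatMod.moduleStalkOver (q ≫ h) (CohB1.tensorMod P ((Scheme.Modules.pullback q).obj G')) x'
  obtain ⟨e, he⟩ := exists_stalk_tensor_equiv_over q P G' x' h
  have hT' : maximalIdeal (Z.presheaf.stalk (h (q x'))) •
      (⊤ : Submodule (Z.presheaf.stalk (h (q x')))
        ((CohB1.tensorMod P ((Scheme.Modules.pullback q).obj G')).presheaf.stalk x')) ≠ ⊤ := hT
  refine smul_top_ne_top_of_tensor (A := (Y'.presheaf.stalk (q x') : Type u))
    (M := (P.presheaf.stalk x' : Type u)) (maximalIdeal (Z.presheaf.stalk (h (q x')))) ?_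
  intro h0
  exact hT' ((smul_top_eq_top_iff_of_equiv e he _).2 h0)

end proj

end Groth.Agent.Lib.Helper26.TensStalk
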