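import Mathlib

/-!
# Associated primes of `F ⊗_A E` for `F` flat over `A` (helper7)

Pure algebra behind EGA IV 3.3.1 (Bourbaki AC IV §2.6 Thm 2), in the local form used for
associated points on schemes.  `A → B` is a local homomorphism of local rings, `F` a `B`-module flat
over `A`, `E` an `A`-module; `F ⊗[A] E` is a `B`-module through `F`.

* `isAssociatedPrime_maximalIdeal_iff`: over a Noetherian local ring, `m ∈ Ass N` iff some nonzero
  element of `N` is killed by `m`.
* `mem_range_lTensor_torsionBySet`: `(F ⊗ E)[I] = F ⊗ E[I]` for `F` flat and `I` finitely generated.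
* `associatedPrimes_tensor_quotient_subset`: `p ∈ Ass_A E ⇒ Ass_B(F ⊗ A/p) ⊆ Ass_B(F ⊗ E)`.
* `maximalIdeal_mem_associatedPrimes_tensor_iff`: `m_B ∈ Ass_B(F ⊗ E) ↔ m_A ∈ Ass_A E ∧ m_B ∈ Ass_B(F ⊗ k)`.
* `exists_mem_associatedPrimes_comap_eq`: for `F` finite nonzero over `B` and `p ∈ Ass_A E` there is
  `Q ∈ Ass_B(F ⊗ E)` lying over `p`.
* `isSimpleModule_of_tensor`, `nonempty_tensor_equiv_of_isSimpleModule`: length-one transfer.
* `nonempty_fibre_equiv`, `maximalIdeal_mem_associatedPrimes_fibre_iff`, `length_fibre`: for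
  `B' = B / m_A B`, the `B'`-module `B' ⊗_B F` versus the `B`-module `F ⊗_A k`.
-/

set_option autoImplicit false
set_option linter.style.haveILetI false
set_option linter.unusedSectionVars false
set_option linter.overlappingInstances false
open TensorProduct IsLocalRing

namespace Groth.Agent.Lib.Helper7.AssTensorFlat

section socle
variable {R : Type*} [CommRing R] [IsLocalRing R] {N : Type*} [AddCommGroup N] [Module R N]

theorem isAssociatedPrime_maximalIdeal_of_exists (ξ : N) (hξ : ξ ≠ 0)
    (h : ∀ r ∈ maximalIdeal R, r • ξ = 0) : IsAssociatedPrime (maximalIdeal R) N := by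
  refine ⟨inferInstance, ξ, ?_⟩
  have h1 : (⊥ : Submodule R N).colon {ξ} = maximalIdeal R := by
    apply le_antisymm
    · apply IsLocalRing.le_maximalIdeal
      intro htop
      have h1 : (1 : R) ∈ (⊥ : Submodule R N).colon {ξ} := htop ▸ Submodule.mem_top
      rw [Submodule.mem_colon_singleton] at h1
      simp at h1
      exact hξ h1
    · intro r hr
      rw [Submodule.mem_colon_singleton]
      simpa using h r hr
  rw [h1, Ideal.IsPrime.radical inferInstance]

theorem exists_of_isAssociatedPrime_maximalIdeal [IsNoetherianRing R]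
    (h : IsAssociatedPrime (maximalIdeal R) N) :
    ∃ ξ : N, ξ ≠ 0 ∧ ∀ r ∈ maximalIdeal R, r • ξ = 0 := by
  rw [isAssociatedPrime_iff] at h
  obtain ⟨_, ξ, hξ⟩ := h
  refine ⟨ξ, ?_, fun r hr => ?_⟩
  · rintro rfl
    have : (1 : R) ∈ (⊥ : Submodule R N).colon {(0 : N)} := by
      rw [Submodule.mem_colon_singleton]; simp
    rw [← hξ] at this
    exact (maximalIdeal.isMaximal R).ne_top ((Ideal.eq_top_iff_one _).2 this)
  · have : r ∈ (⊥ : Submodule R N).colon {ξ} := hξ ▸ hr
    simpa [Submodule.mem_colon_singleton] using this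

theorem isAssociatedPrime_maximalIdeal_iff [IsNoetherianRing R] :
    IsAssociatedPrime (maximalIdeal R) N ↔
      ∃ ξ : N, ξ ≠ 0 ∧ ∀ r ∈ maximalIdeal R, r • ξ = 0 :=
  ⟨exists_of_isAssociatedPrime_maximalIdeal, fun ⟨ξ, h1, h2⟩ =>
    isAssociatedPrime_maximalIdeal_of_exists ξ h1 h2⟩

end socle

section torsion
variable {A : Type*} [CommRing A] (F E : Type*) [AddCommGroup F] [Module A F] [Module.Flat A F]
  [AddCommGroup E] [Module A E]

open Classical in
theorem mem_range_lTensor_torsionBySet (I : Ideal A) (hI : I.FG) (ξ : F ⊗[A] E)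
    (h : ∀ a ∈ I, a • ξ = 0) :
    ξ ∈ LinearMap.range ((Submodule.torsionBySet A E (I : Set A)).subtype.lTensor F) := by
  obtain ⟨s, hs⟩ := hI
  let ψ : E →ₗ[A] (s → E) := LinearMap.pi (fun i => (i : A) • LinearMap.id)
  have hex : Function.Exact (Submodule.torsionBySet A E (I : Set A)).subtype ψ := by
    intro e
    constructor
    · intro he
      refine ⟨⟨e, ?_⟩, rfl⟩
      rw [Submodule.mem_torsionBySet_iff]
      rintro ⟨a, ha⟩
      change a • e = 0
      rw [← hs] at ha
      refine Submodule.span_induction (p := fun a _ => a • e = 0) ?_ ?_ ?_ ?_ ha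
      · intro x hx
        have := congrFun he ⟨x, hx⟩
        simpa [ψ] using this
      · simp
      · intro x y _ _ hx hy; rw [add_smul, hx, hy, add_zero]
      · intro c x _ hx; rw [smul_eq_mul, mul_smul, hx, smul_zero]
    · rintro ⟨⟨e', he'⟩, rfl⟩
      ext i
      rw [Submodule.mem_torsionBySet_iff] at he'
      have := he' ⟨(i : A), hs ▸ Ideal.subset_span i.2⟩
      simpa [ψ] using this
  have hex' := Module.Flat.lTensor_exact F hex
  apply (hex' ξ).1
  apply (TensorProduct.piRight A A F (fun _ : s => E)).injective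
  rw [map_zero]
  ext i
  have key : ∀ ζ : F ⊗[A] E,
      (TensorProduct.piRight A A F (fun _ : s => E)) ((ψ.lTensor F) ζ) i = (i : A) • ζ := by
    intro ζ
    induction ζ using TensorProduct.induction_on with
    | zero => simp
    | tmul x y => simp [ψ, TensorProduct.tmul_smul]
    | add a b ha hb => simp only [map_add, Pi.add_apply, ha, hb, smul_add]
  rw [key]
  exact h _ (hs ▸ Ideal.subset_span i.2)

end torsion

section main
variable {A B : Type*} [CommRing A] [CommRing B] [Algebra A B]
  [IsLocalRing A] [IsLocalRing B] [IsLocalHom (algebraMap A B)]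
  (F : Type*) [AddCommGroup F] [Module A F] [Module B F] [IsScalarTower A B F] [Module.Flat A F]
  (E : Type*) [AddCommGroup E] [Module A E]

/-- `A/p ↪ E` gives `Ass_B(F ⊗ A/p) ⊆ Ass_B(F ⊗ E)` for `F` flat over `A`. -/
theorem associatedPrimes_tensor_quotient_subset [IsNoetherianRing A] (p : Ideal A)
    (hp : p ∈ associatedPrimes A E) :
    associatedPrimes B (F ⊗[A] (A ⧸ p)) ⊆ associatedPrimes B (F ⊗[A] E) := by
  obtain ⟨_, ψ, hψ⟩ := (isAssociatedPrime_iff_exists_injective_linearMap p E).1 hp
  refine associatedPrimes.subset_of_injective (f := AlgebraTensorModule.lTensor B F ψ) ?_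
  rw [AlgebraTensorModule.coe_lTensor]
  exact Module.Flat.lTensor_preserves_injective_linearMap ψ hψ

theorem algebraMap_mem_maximalIdeal (a : A) (ha : a ∈ maximalIdeal A) :
    algebraMap A B a ∈ maximalIdeal B := by
  rw [mem_maximalIdeal, mem_nonunits_iff] at ha ⊢
  exact fun hu => ha (isUnit_of_map_unit (algebraMap A B) a hu)

/-- socle elements of `F ⊗ E` come from socle elements of `E` and of `F ⊗ k`. -/
theorem exists_socle_of_tensor [IsNoetherianRing A] (ξ : F ⊗[A] E) (hξ : ξ ≠ 0)
    (h : ∀ b ∈ maximalIdeal B, b • ξ = 0) :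
    (∃ e : E, e ≠ 0 ∧ ∀ a ∈ maximalIdeal A, a • e = 0) ∧
      ∃ η : F ⊗[A] (A ⧸ maximalIdeal A), η ≠ 0 ∧ ∀ b ∈ maximalIdeal B, b • η = 0 := by
  classical
  have hA : ∀ a ∈ maximalIdeal A, a • ξ = 0 := fun a ha => by
    rw [← algebraMap_smul B a ξ]
    exact h _ (algebraMap_mem_maximalIdeal a ha)
  set N₀ := Submodule.torsionBySet A E (maximalIdeal A : Set A) with hN₀
  obtain ⟨ξ', hξ'⟩ : ξ ∈ LinearMap.range (N₀.subtype.lTensor F) :=
    mem_range_lTensor_torsionBySet F E (maximalIdeal A) (IsNoetherian.noetherian _) ξ hA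
  have hinj : Function.Injective (N₀.subtype.lTensor F) :=
    Module.Flat.lTensor_preserves_injective_linearMap _ N₀.injective_subtype
  have hξ'0 : ξ' ≠ 0 := by
    intro h0
    apply hξ
    rw [← hξ', h0, map_zero]
  have hξ'soc : ∀ b ∈ maximalIdeal B, b • ξ' = 0 := by
    intro b hb
    apply hinj
    have h1 : (N₀.subtype.lTensor F) (b • ξ') = b • (N₀.subtype.lTensor F) ξ' :=
      map_smul (AlgebraTensorModule.lTensor B F N₀.subtype) b ξ'
    rw [h1, hξ', h b hb, map_zero]
  constructor
  · have hnt : Nontrivial N₀ := by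
      by_contra hn
      rw [not_nontrivial_iff_subsingleton] at hn
      exact hξ'0 (Subsingleton.elim _ _)
    obtain ⟨e, he⟩ := exists_ne (0 : N₀)
    refine ⟨e.1, fun h0 => he (Subtype.ext h0), fun a ha => ?_⟩
    have h3 : (e : E) ∈ Submodule.torsionBySet A E (maximalIdeal A : Set A) := e.2
    rw [Submodule.mem_torsionBySet_iff] at h3
    exact h3 ⟨a, ha⟩
  · -- N₀ is a k-vector space
    letI : Field (A ⧸ maximalIdeal A) := Ideal.Quotient.field _
    let b := Module.Free.chooseBasis (A ⧸ maximalIdeal A) N₀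
    let e : N₀ ≃ₗ[A] (Module.Free.ChooseBasisIndex (A ⧸ maximalIdeal A) N₀ →₀ A ⧸ maximalIdeal A) :=
      b.repr.restrictScalars A
    let Φ : F ⊗[A] N₀ ≃ₗ[B] (Module.Free.ChooseBasisIndex (A ⧸ maximalIdeal A) N₀ →₀
        F ⊗[A] (A ⧸ maximalIdeal A)) :=
      (AlgebraTensorModule.congr (LinearEquiv.refl B F) e).trans
        (TensorProduct.finsuppRight A B F (A ⧸ maximalIdeal A) _)
    have hv : Φ ξ' ≠ 0 := fun h0 => hξ'0 (Φ.injective (by rw [h0, map_zero]))
    obtain ⟨i, hi⟩ : ∃ i, Φ ξ' i ≠ 0 := by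
      by_contra hcon
      push_neg at hcon
      exact hv (Finsupp.ext hcon)
    refine ⟨Φ ξ' i, hi, fun c hc => ?_⟩
    have : c • Φ ξ' = 0 := by rw [← map_smul, hξ'soc c hc, map_zero]
    have h2 := congrArg (fun v => v i) this
    simpa using h2

/-- Nakayama: `m_A F ≠ F` for a nonzero finite `B`-module. -/
theorem smul_top_ne_top [Module.Finite B F] [Nontrivial F] :
    maximalIdeal A • (⊤ : Submodule A F) ≠ ⊤ := by
  intro htop
  have h1 : maximalIdeal B • (⊤ : Submodule B F) = ⊤ := by
    rw [eq_top_iff]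
    intro f _
    have hf : f ∈ maximalIdeal A • (⊤ : Submodule A F) := by rw [htop]; exact Submodule.mem_top
    refine Submodule.smul_induction_on hf ?_ ?_
    · intro a ha x _
      rw [← algebraMap_smul B a x]
      exact Submodule.smul_mem_smul (algebraMap_mem_maximalIdeal a ha) Submodule.mem_top
    · intro x y hx hy
      exact add_mem hx hy
  have h2 : (⊤ : Submodule B F) = ⊥ :=
    Submodule.eq_bot_of_le_smul_of_le_jacobson_bot (maximalIdeal B) ⊤ Module.Finite.fg_top
      h1.ge (maximalIdeal_le_jacobson _)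
  exact top_ne_bot h2

theorem faithfullyFlat [Module.Finite B F] [Nontrivial F] : Module.FaithfullyFlat A F :=
  { ‹Module.Flat A F› with
    submodule_ne_top := fun m hm => by
      rw [IsLocalRing.eq_maximalIdeal hm]; exact smul_top_ne_top (B := B) F }

/-- going down for associated primes of `F ⊗ E`. -/
theorem exists_mem_associatedPrimes_comap_eq [IsNoetherianRing A] [IsNoetherianRing B]
    [Module.Finite B F] [Nontrivial F] (p : Ideal A) (hp : p ∈ associatedPrimes A E) :
    ∃ Q ∈ associatedPrimes B (F ⊗[A] E), Q.comap (algebraMap A B) = p := by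
  haveI hpp : p.IsPrime := hp.isPrime
  haveI ff : Module.FaithfullyFlat A F := faithfullyFlat (B := B) F
  haveI : Nontrivial (A ⧸ p) := Ideal.Quotient.nontrivial_iff.2 hpp.ne_top
  haveI : Nontrivial (F ⊗[A] (A ⧸ p)) :=
    (Module.FaithfullyFlat.nontrivial_tensorProduct_iff_right A F).2 inferInstance
  obtain ⟨Q, hQ⟩ := associatedPrimes.nonempty B (F ⊗[A] (A ⧸ p))
  refine ⟨Q, associatedPrimes_tensor_quotient_subset F E p hp hQ, ?_⟩
  ext a
  rw [Ideal.mem_comap]
  constructor
  · intro ha
    by_contra hap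
    obtain ⟨_, ξ, hξ⟩ := (isAssociatedPrime_iff (M := F ⊗[A] (A ⧸ p))).1 hQ
    have h1 : algebraMap A B a • ξ = 0 := by
      have : algebraMap A B a ∈ (⊥ : Submodule B (F ⊗[A] (A ⧸ p))).colon {ξ} := hξ ▸ ha
      simpa [Submodule.mem_colon_singleton] using this
    rw [algebraMap_smul] at h1
    -- multiplication by `a` on `A/p` is injective
    let μ : (A ⧸ p) →ₗ[A] (A ⧸ p) := a • LinearMap.id
    have hμ : Function.Injective μ := by
      rw [← LinearMap.ker_eq_bot, LinearMap.ker_eq_bot']
      intro c hc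
      obtain ⟨c, rfl⟩ := Ideal.Quotient.mk_surjective c
      have : Ideal.Quotient.mk p (a * c) = 0 := by
        simpa [μ, Algebra.smul_def] using hc
      rw [Ideal.Quotient.eq_zero_iff_mem] at this ⊢
      exact (hpp.mem_or_mem this).resolve_left hap
    have hμ' := Module.Flat.lTensor_preserves_injective_linearMap (M := F) μ hμ
    have h2 : (μ.lTensor F) ξ = a • ξ := by
      simp [μ, LinearMap.lTensor_smul]
    have h3 : ξ = 0 := hμ' (by rw [h2, h1, map_zero])
    -- but ξ ≠ 0 since Q ≠ ⊤
    have : (1 : B) ∈ (⊥ : Submodule B (F ⊗[A] (A ⧸ p))).colon {ξ} := by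
      rw [Submodule.mem_colon_singleton, h3]; simp
    rw [← hξ] at this
    exact hQ.isPrime.ne_top ((Ideal.eq_top_iff_one _).2 this)
  · intro ha
    apply hQ.annihilator_le
    rw [Submodule.mem_annihilator]
    rintro t -
    induction t using TensorProduct.induction_on with
    | zero => simp
    | tmul x c =>
      obtain ⟨c, rfl⟩ := Ideal.Quotient.mk_surjective c
      rw [algebraMap_smul, TensorProduct.smul_tmul', TensorProduct.smul_tmul]
      have : a • (Ideal.Quotient.mk p c) = 0 := by
        rw [Algebra.smul_def, Ideal.Quotient.algebraMap_eq, ← map_mul,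
          Ideal.Quotient.eq_zero_iff_mem]
        exact p.mul_mem_right _ ha
      rw [this, tmul_zero]
    | add x y hx hy => rw [smul_add, hx, hy, add_zero]

/-- **Main local theorem** (Bourbaki AC IV §2.6 Thm 2, EGA IV 3.3.1, local form). -/
theorem maximalIdeal_mem_associatedPrimes_tensor_iff [IsNoetherianRing A] [IsNoetherianRing B] :
    maximalIdeal B ∈ associatedPrimes B (F ⊗[A] E) ↔
      maximalIdeal A ∈ associatedPrimes A E ∧
        maximalIdeal B ∈ associatedPrimes B (F ⊗[A] (A ⧸ maximalIdeal A)) := by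
  constructor
  · intro h
    obtain ⟨ξ, hξ, hs⟩ := isAssociatedPrime_maximalIdeal_iff.1 h
    obtain ⟨⟨e, he, hes⟩, ⟨η, hη, hηs⟩⟩ := exists_socle_of_tensor F E ξ hξ hs
    exact ⟨isAssociatedPrime_maximalIdeal_iff.2 ⟨e, he, hes⟩,
      isAssociatedPrime_maximalIdeal_iff.2 ⟨η, hη, hηs⟩⟩
  · rintro ⟨h1, h2⟩
    exact associatedPrimes_tensor_quotient_subset F E _ h1 h2

omit [IsLocalRing A] [IsLocalRing B] [IsLocalHom (algebraMap A B)] in
/-- if `F ⊗ E` is a simple `B`-module and `F` is faithfully flat then `E` is simple. -/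
theorem isSimpleModule_of_tensor [Module.FaithfullyFlat A F]
    (h : IsSimpleModule B (F ⊗[A] E)) : IsSimpleModule A E := by
  haveI : Nontrivial (F ⊗[A] E) := IsSimpleModule.nontrivial B _
  haveI : Nontrivial E := (Module.FaithfullyFlat.nontrivial_tensorProduct_iff_right A F).1 inferInstance
  haveI : Nontrivial (Submodule A E) := (Submodule.nontrivial_iff A).2 inferInstance
  refine { toIsSimpleOrder := { eq_bot_or_eq_top := fun E' => ?_ } }
  let S : Submodule B (F ⊗[A] E) := LinearMap.range (AlgebraTensorModule.lTensor B F E'.subtype)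
  rcases eq_bot_or_eq_top S with hS | hS
  · left
    have hinj : Function.Injective (E'.subtype.lTensor F) :=
      Module.Flat.lTensor_preserves_injective_linearMap _ E'.injective_subtype
    have hsub : Subsingleton (F ⊗[A] E') := by
      refine ⟨fun x y => hinj ?_⟩
      have hx : (AlgebraTensorModule.lTensor B F E'.subtype) x ∈ S := ⟨x, rfl⟩
      have hy : (AlgebraTensorModule.lTensor B F E'.subtype) y ∈ S := ⟨y, rfl⟩
      rw [hS, Submodule.mem_bot] at hx hy
      exact hx.trans hy.symm
    have := (Module.FaithfullyFlat.subsingleton_tensorProduct_iff_right A F).1 hsub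
    exact Submodule.subsingleton_iff_eq_bot.1 this
  · right
    have hsurj : Function.Surjective (E'.subtype.lTensor F) := by
      intro t
      have : t ∈ S := hS ▸ Submodule.mem_top
      exact this
    rw [Module.FaithfullyFlat.lTensor_surjective_iff_surjective] at hsurj
    rw [eq_top_iff]
    intro e _
    obtain ⟨e', rfl⟩ := hsurj e
    exact e'.2

omit [IsLocalRing B] [IsLocalHom (algebraMap A B)] [Module.Flat A F] in
/-- over a local ring, a module of length one tensored with `F` is `F ⊗ k`. -/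
theorem nonempty_tensor_equiv_of_isSimpleModule (h : IsSimpleModule A E) :
    Nonempty (F ⊗[A] E ≃ₗ[B] F ⊗[A] (A ⧸ maximalIdeal A)) := by
  obtain ⟨m, hm, ⟨e⟩⟩ := isSimpleModule_iff_quot_maximal.1 h
  rw [IsLocalRing.eq_maximalIdeal hm] at e
  exact ⟨AlgebraTensorModule.congr (LinearEquiv.refl B F) e⟩

end main

section surj
variable {B B' : Type*} [CommRing B] [CommRing B'] [Algebra B B'] [IsLocalRing B] [IsLocalRing B']
  (hsurj : Function.Surjective (algebraMap B B'))
  (N : Type*) [AddCommGroup N] [Module B N] [Module B' N] [IsScalarTower B B' N]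

include hsurj in
theorem algebraMap_mem_maximalIdeal_of_surjective (r : B) (hr : r ∈ maximalIdeal B) :
    algebraMap B B' r ∈ maximalIdeal B' := by
  rw [mem_maximalIdeal, mem_nonunits_iff]
  intro hu
  obtain ⟨s', hs'⟩ := hu.exists_right_inv
  obtain ⟨s, rfl⟩ := hsurj s'
  have h1 : algebraMap B B' (r * s - 1) = 0 := by rw [map_sub, map_mul, hs', map_one, sub_self]
  have h2 : IsUnit (r * s - 1) := by
    have : r * s ∈ maximalIdeal B := Ideal.mul_mem_right _ _ hr
    have h3 : IsUnit (1 - r * s) := by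
      by_contra hcon
      have h4 : 1 - r * s ∈ maximalIdeal B := (mem_maximalIdeal _).2 hcon
      have h5 : (1 : B) ∈ maximalIdeal B := by
        have := add_mem h4 this
        simpa using this
      exact (maximalIdeal.isMaximal B).ne_top ((Ideal.eq_top_iff_one _).2 h5)
    have : r * s - 1 = -(1 - r * s) := by ring
    rw [this]; exact h3.neg
  have h6 := h2.map (algebraMap B B')
  rw [h1] at h6
  exact not_isUnit_zero h6

include hsurj in
theorem isAssociatedPrime_maximalIdeal_iff_of_surjective [IsNoetherianRing B] :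
    IsAssociatedPrime (maximalIdeal B') N ↔ IsAssociatedPrime (maximalIdeal B) N := by
  haveI : IsNoetherianRing B' := isNoetherianRing_of_surjective B B' (algebraMap B B') hsurj
  rw [isAssociatedPrime_maximalIdeal_iff, isAssociatedPrime_maximalIdeal_iff]
  constructor
  · rintro ⟨ξ, hξ, h⟩
    refine ⟨ξ, hξ, fun r hr => ?_⟩
    rw [← algebraMap_smul B' r ξ]
    exact h _ (algebraMap_mem_maximalIdeal_of_surjective hsurj r hr)
  · rintro ⟨ξ, hξ, h⟩
    refine ⟨ξ, hξ, fun r' hr' => ?_⟩
    obtain ⟨r, rfl⟩ := hsurj r'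
    rw [algebraMap_smul]
    apply h
    rw [mem_maximalIdeal, mem_nonunits_iff] at hr' ⊢
    exact fun hu => hr' (hu.map _)

end surj

section fibre
variable {A B B' : Type*} [CommRing A] [CommRing B] [CommRing B'] [Algebra A B] [Algebra B B']
  [IsLocalRing A]
  (F : Type*) [AddCommGroup F] [Module A F] [Module B F] [IsScalarTower A B F]
  (hsurj : Function.Surjective (algebraMap B B'))
  (hker : RingHom.ker (algebraMap B B') = (maximalIdeal A).map (algebraMap A B))

include hsurj hker in
/-- `B' ⊗_B F ≅ F ⊗_A k` as `B`-modules when `B' = B / m_A B`. -/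
theorem nonempty_fibre_equiv :
    Nonempty (B' ⊗[B] F ≃ₗ[B] F ⊗[A] (A ⧸ maximalIdeal A)) := by
  let e0 : (B ⧸ RingHom.ker (Algebra.ofId B B')) ≃ₐ[B] B' :=
    Ideal.quotientKerAlgEquivOfSurjective (f := Algebra.ofId B B') hsurj
  have hk : RingHom.ker (Algebra.ofId B B') = (maximalIdeal A).map (algebraMap A B) := hker
  let e1 : (B ⧸ (maximalIdeal A).map (algebraMap A B)) ≃ₐ[B] B' :=
    (Ideal.quotientEquivAlgOfEq B hk.symm).trans e0
  let e2 : (B ⧸ (maximalIdeal A).map (algebraMap A B)) ≃ₐ[B] B ⊗[A] (A ⧸ maximalIdeal A) :=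
    Algebra.TensorProduct.quotIdealMapEquivTensorQuot B (maximalIdeal A)
  let e3 : B' ≃ₗ[B] B ⊗[A] (A ⧸ maximalIdeal A) := (e1.symm.trans e2).toLinearEquiv
  exact ⟨((TensorProduct.congr e3 (LinearEquiv.refl B F)).trans
    (TensorProduct.comm B _ _)).trans
    (AlgebraTensorModule.cancelBaseChange A B B F (A ⧸ maximalIdeal A))⟩

include hsurj hker in
theorem maximalIdeal_mem_associatedPrimes_fibre_iff [IsLocalRing B] [IsLocalRing B']
    [IsNoetherianRing B] :
    maximalIdeal B' ∈ associatedPrimes B' (B' ⊗[B] F) ↔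
      maximalIdeal B ∈ associatedPrimes B (F ⊗[A] (A ⧸ maximalIdeal A)) := by
  obtain ⟨e⟩ := nonempty_fibre_equiv F hsurj hker
  rw [AssociatedPrimes.mem_iff, AssociatedPrimes.mem_iff,
    isAssociatedPrime_maximalIdeal_iff_of_surjective hsurj (B' ⊗[B] F), e.isAssociatedPrime_iff]

include hsurj hker in
theorem length_fibre :
    Module.length B' (B' ⊗[B] F) = Module.length B (F ⊗[A] (A ⧸ maximalIdeal A)) := by
  obtain ⟨e⟩ := nonempty_fibre_equiv F hsurj hker
  rw [← Module.length_eq_of_surjective hsurj, e.length_eq]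

end fibre

end Groth.Agent.Lib.Helper7.AssTensorFlat
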