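import Mathlib
import Groth.Prelude.Def_CurvBase
import Groth.Agent.Lib.Helper2FlatOver
import Groth.Agent.Lib.Helper23AssAffine
import Groth.Agent.Lib.Helper26TensStalk
import Groth.Agent.Lib.Helper26FibFlatSch
import Groth.Agent.Lib.Helper23TensorQCoh
import Groth.Agent.Lib.Helper7AssTensorFlat

/-!
# Associated points of `f^*E ⊗ F` for `F` flat over the base (helper7; EGA IV 3.3.1)

`f : X ⟶ Y` a morphism of locally Noetherian schemes, `E` quasi-coherent on `Y`, `F` on `X` flat over `Y`.

* `isAssPoint_fromSpecStalk_iff`: a prime `Q` of `O_{X,x}` is associated to `M_x` iff the generization of `x`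
  defined by `Q` is an associated point of the quasi-coherent `M`.
* `nonempty_stalk_tensor_pullback_equiv`: `(f^*E ⊗ F)_x ≃ F_x ⊗_{O_{Y,f x}} E_{f x}`.
* `FibAssAt f F x`, `fibLenAt f F x`: associatedness / length of the fibre module at `x`, in stalk form;
  `isAssPoint_fibre_iff`, `length_fibre_stalk` compare with the pullback of `F` to the scheme-theoretic fibre.
* `isAssPoint_tensor_pullback_iff`: `x ∈ Ass(f^*E ⊗ F) ↔ f x ∈ Ass E ∧ FibAssAt f F x`.
* `exists_isAssPoint_tensor_specializes`: going down for associated points of `f^*E ⊗ F`.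
* `length_stalk_tensor_of_length_eq_one`, `length_eq_one_of_length_stalk_tensor`.
-/

set_option autoImplicit false
set_option linter.style.haveILetI false
set_option linter.unusedVariables false
universe u
open CategoryTheory Limits AlgebraicGeometry TopologicalSpace Opposite IsLocalRing TensorProduct

namespace Groth.Agent.Lib.Helper7.AssTensorFlatSch

open Groth.Agent.Lib.Helper2.FlatOver Groth.Agent.Lib.Helper26.TensStalk Groth.Agent.Lib.Helper7.AssTensorFlat
  Groth.Agent.Lib.Helper26.FibFlatSch Groth.Agent.Lib.Helper2.PullbackSec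
  Groth.Agent.Lib.Helper2.FibreCrit

section LA
variable {X : Scheme.{u}}

/-- **associated points and localization**: for a quasi-coherent `M` on a locally Noetherian `X`, a prime `Q` of the
local ring `O_{X,x}` is associated to the stalk `M_x` iff the corresponding generization of `x` is an associated
point of `M`. -/
theorem isAssPoint_fromSpecStalk_iff [IsLocallyNoetherian X] (M : X.Modules) [M.IsQuasicoherent] (x : X)
    (Q : Spec (X.presheaf.stalk x)) :
    Curv2.IsAssPoint M (X.fromSpecStalk x Q) ↔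
      Q.asIdeal ∈ associatedPrimes (X.presheaf.stalk x) (M.presheaf.stalk x) := by
  obtain ⟨_, ⟨U, hU : IsAffineOpen U, rfl⟩, hxU, -⟩ :=
    X.isBasis_affineOpens.exists_subset_of_mem_open (Set.mem_univ x) isOpen_univ
  haveI : IsNoetherianRing Γ(X, U) := IsLocallyNoetherian.component_noetherian ⟨U, hU⟩
  letI alg : Algebra Γ(X, U) (X.presheaf.stalk x) := X.presheaf.algebra_section_stalk ⟨x, hxU⟩
  letI := moduleStalkSections M U x hxU
  haveI loc : IsLocalization.AtPrime (X.presheaf.stalk x) (hU.primeIdealOf ⟨x, hxU⟩).asIdeal :=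
    hU.isLocalization_stalk ⟨x, hxU⟩
  haveI := isLocalizedModule_germ hU M x hxU
  haveI : IsScalarTower Γ(X, U) (X.presheaf.stalk x) (M.presheaf.stalk x) := by
    refine ⟨fun r a y => ?_⟩
    change (X.presheaf.germ U x hxU r * a) • y = X.presheaf.germ U x hxU r • (a • y)
    rw [mul_smul]
  have key := Module.associatedPrimes.preimage_comap_associatedPrimes_eq_associatedPrimes_of_isLocalizedModule
    (hU.primeIdealOf ⟨x, hxU⟩).asIdeal.primeCompl (X.presheaf.stalk x) (germₗ M U x hxU)
  -- the point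
  have hpt : X.fromSpecStalk x Q = hU.fromSpec (Spec.map (X.presheaf.germ U x hxU) Q) := by
    rw [← hU.fromSpecStalk_eq_fromSpecStalk hxU]
    rfl
  have hmem : X.fromSpecStalk x Q ∈ U := by
    rw [hpt]
    have : hU.fromSpec (Spec.map (X.presheaf.germ U x hxU) Q) ∈ Set.range hU.fromSpec := ⟨_, rfl⟩
    rw [hU.range_fromSpec] at this
    exact this
  rw [Groth.Agent.Lib.Helper23.AssAffine.isAssPoint_iff_mem_associatedPrimes hU M _ hmem, ← key,
    Set.mem_preimage]
  have hprime : hU.primeIdealOf ⟨X.fromSpecStalk x Q, hmem⟩ = Spec.map (X.presheaf.germ U x hxU) Q := by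
    apply hU.fromSpec.isOpenEmbedding.injective
    rw [hU.fromSpec_primeIdealOf]
    exact hpt
  rw [hprime]
  rfl

end LA

variable {X Y : Scheme.{u}}

/-- the stalk of `f^*E ⊗ F` at `x` is `F_x ⊗_{O_{Y,f x}} E_{f x}`, linearly over `O_{X,x}`. -/
theorem nonempty_stalk_tensor_pullback_equiv (f : X ⟶ Y) (E : Y.Modules) [E.IsQuasicoherent]
    (F : X.Modules) (x : X) :
    letI aAB : Algebra (Y.presheaf.stalk (f x)) (X.presheaf.stalk x) := (f.stalkMap x).hom.toAlgebra
    letI mAF := FlatMod.moduleStalkOver f F x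
    haveI : IsScalarTower (Y.presheaf.stalk (f x)) (X.presheaf.stalk x) (F.presheaf.stalk x) :=
      IsScalarTower.of_algebraMap_smul (fun _ _ => rfl)
    Nonempty (((CohB1.tensorMod ((Scheme.Modules.pullback f).obj E) F).presheaf.stalk x : Type u)
      ≃ₗ[(X.presheaf.stalk x : Type u)]
        (F.presheaf.stalk x : Type u) ⊗[(Y.presheaf.stalk (f x) : Type u)]
          (E.presheaf.stalk (f x) : Type u)) := by
  letI aAB : Algebra (Y.presheaf.stalk (f x)) (X.presheaf.stalk x) := (f.stalkMap x).hom.toAlgebra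
  letI mAF := FlatMod.moduleStalkOver f F x
  haveI : IsScalarTower (Y.presheaf.stalk (f x)) (X.presheaf.stalk x) (F.presheaf.stalk x) :=
    IsScalarTower.of_algebraMap_smul (fun _ _ => rfl)
  obtain ⟨e, he⟩ := exists_stalk_tensor_equiv f F E x
  let e' : ((CohB1.tensorMod F ((Scheme.Modules.pullback f).obj E)).presheaf.stalk x : Type u)
      ≃ₗ[(X.presheaf.stalk x : Type u)]
        (F.presheaf.stalk x : Type u) ⊗[(Y.presheaf.stalk (f x) : Type u)]
          (E.presheaf.stalk (f x) : Type u) := { e with map_smul' := he }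
  let τ1 := tensorStalk ((Scheme.Modules.pullback f).obj E) F x
  let τ2 := tensorStalk F ((Scheme.Modules.pullback f).obj E) x
  exact ⟨((τ1.trans (TensorProduct.comm _ _ _)).trans τ2.symm).trans e'⟩

/-- `x` is an associated point of the restriction of `F` to the fibre through `x`, in stalk form:
`m_x ∈ Ass(F_x ⊗_{O_{Y,f x}} κ(f x))`. -/
def FibAssAt (f : X ⟶ Y) (F : X.Modules) (x : X) : Prop :=
  letI aAB : Algebra (Y.presheaf.stalk (f x)) (X.presheaf.stalk x) := (f.stalkMap x).hom.toAlgebra
  letI mAF := FlatMod.moduleStalkOver f F x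
  haveI : IsScalarTower (Y.presheaf.stalk (f x)) (X.presheaf.stalk x) (F.presheaf.stalk x) :=
    IsScalarTower.of_algebraMap_smul (fun _ _ => rfl)
  maximalIdeal (X.presheaf.stalk x) ∈ associatedPrimes (X.presheaf.stalk x)
    ((F.presheaf.stalk x : Type u) ⊗[(Y.presheaf.stalk (f x) : Type u)]
      ((Y.presheaf.stalk (f x) : Type u) ⧸ maximalIdeal (Y.presheaf.stalk (f x))))

/-- length of the stalk of the fibre module, in stalk form. -/
noncomputable def fibLenAt (f : X ⟶ Y) (F : X.Modules) (x : X) : ℕ∞ :=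
  letI aAB : Algebra (Y.presheaf.stalk (f x)) (X.presheaf.stalk x) := (f.stalkMap x).hom.toAlgebra
  letI mAF := FlatMod.moduleStalkOver f F x
  haveI : IsScalarTower (Y.presheaf.stalk (f x)) (X.presheaf.stalk x) (F.presheaf.stalk x) :=
    IsScalarTower.of_algebraMap_smul (fun _ _ => rfl)
  Module.length (X.presheaf.stalk x)
    ((F.presheaf.stalk x : Type u) ⊗[(Y.presheaf.stalk (f x) : Type u)]
      ((Y.presheaf.stalk (f x) : Type u) ⧸ maximalIdeal (Y.presheaf.stalk (f x))))

/-- **EGA IV 3.3.1, pointwise**: `x ∈ Ass(f^*E ⊗ F)` iff `f x ∈ Ass E` and `x` is associated to `F` on its fibre. -/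
theorem isAssPoint_tensor_pullback_iff [IsLocallyNoetherian X] [IsLocallyNoetherian Y] (f : X ⟶ Y)
    (E : Y.Modules) [E.IsQuasicoherent] (F : X.Modules) (x : X) (hfl : FlatMod.IsFlatOverAt f F x) :
    Curv2.IsAssPoint (CohB1.tensorMod ((Scheme.Modules.pullback f).obj E) F) x ↔
      Curv2.IsAssPoint E (f x) ∧ FibAssAt f F x := by
  letI aAB : Algebra (Y.presheaf.stalk (f x)) (X.presheaf.stalk x) := (f.stalkMap x).hom.toAlgebra
  letI mAF := FlatMod.moduleStalkOver f F x
  haveI : IsScalarTower (Y.presheaf.stalk (f x)) (X.presheaf.stalk x) (F.presheaf.stalk x) :=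
    IsScalarTower.of_algebraMap_smul (fun _ _ => rfl)
  haveI : IsLocalHom (algebraMap (Y.presheaf.stalk (f x)) (X.presheaf.stalk x)) :=
    inferInstanceAs (IsLocalHom (f.stalkMap x).hom)
  haveI : Module.Flat (Y.presheaf.stalk (f x)) (F.presheaf.stalk x) := hfl
  obtain ⟨e⟩ := nonempty_stalk_tensor_pullback_equiv f E F x
  have h1 : Curv2.IsAssPoint (CohB1.tensorMod ((Scheme.Modules.pullback f).obj E) F) x ↔
      maximalIdeal (X.presheaf.stalk x) ∈ associatedPrimes (X.presheaf.stalk x)
        ((F.presheaf.stalk x : Type u) ⊗[(Y.presheaf.stalk (f x) : Type u)]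
          (E.presheaf.stalk (f x) : Type u)) := e.isAssociatedPrime_iff
  rw [h1, maximalIdeal_mem_associatedPrimes_tensor_iff]
  rfl

/-- associated points of the restriction of `F` to a fibre, in terms of stalks on `X`. -/
theorem isAssPoint_fibre_iff [IsLocallyNoetherian X] (f : X ⟶ Y) (F : X.Modules) [F.IsQuasicoherent]
    (y : Y) (z : f.fiber y) :
    Curv2.IsAssPoint ((Scheme.Modules.pullback (f.fiberι y)).obj F) z ↔
      FibAssAt f F (f.fiberι y z) := by
  letI aAB : Algebra (Y.presheaf.stalk (f (f.fiberι y z))) (X.presheaf.stalk (f.fiberι y z)) :=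
    (f.stalkMap (f.fiberι y z)).hom.toAlgebra
  letI aBB' : Algebra (X.presheaf.stalk (f.fiberι y z)) ((f.fiber y).presheaf.stalk z) :=
    ((f.fiberι y).stalkMap z).hom.toAlgebra
  letI mAF := FlatMod.moduleStalkOver f F (f.fiberι y z)
  haveI : IsScalarTower (Y.presheaf.stalk (f (f.fiberι y z))) (X.presheaf.stalk (f.fiberι y z))
      (F.presheaf.stalk (f.fiberι y z)) := IsScalarTower.of_algebraMap_smul (fun _ _ => rfl)
  obtain ⟨T⟩ := nonempty_stalk_linearEquiv (f.fiberι y) F z
  have hsurj : Function.Surjective (algebraMap (X.presheaf.stalk (f.fiberι y z))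
      ((f.fiber y).presheaf.stalk z)) := (f.fiberι y).stalkMap_surjective z
  have hker : RingHom.ker (algebraMap (X.presheaf.stalk (f.fiberι y z))
      ((f.fiber y).presheaf.stalk z)) =
      (maximalIdeal (Y.presheaf.stalk (f (f.fiberι y z)))).map
        (algebraMap (Y.presheaf.stalk (f (f.fiberι y z))) (X.presheaf.stalk (f.fiberι y z))) :=
    ker_stalkMap_fiberι f y z
  have h1 : Curv2.IsAssPoint ((Scheme.Modules.pullback (f.fiberι y)).obj F) z ↔
      maximalIdeal ((f.fiber y).presheaf.stalk z) ∈ associatedPrimes ((f.fiber y).presheaf.stalk z)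
        (((f.fiber y).presheaf.stalk z : Type u) ⊗[(X.presheaf.stalk (f.fiberι y z) : Type u)]
          (F.presheaf.stalk (f.fiberι y z) : Type u)) := T.symm.isAssociatedPrime_iff
  rw [h1, maximalIdeal_mem_associatedPrimes_fibre_iff (F.presheaf.stalk (f.fiberι y z)) hsurj hker]
  rfl

theorem length_fibre_stalk [IsLocallyNoetherian X] (f : X ⟶ Y) (F : X.Modules) [F.IsQuasicoherent]
    (y : Y) (z : f.fiber y) :
    Module.length ((f.fiber y).presheaf.stalk z)
      (((Scheme.Modules.pullback (f.fiberι y)).obj F).presheaf.stalk z) =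
      fibLenAt f F (f.fiberι y z) := by
  letI aAB : Algebra (Y.presheaf.stalk (f (f.fiberι y z))) (X.presheaf.stalk (f.fiberι y z)) :=
    (f.stalkMap (f.fiberι y z)).hom.toAlgebra
  letI aBB' : Algebra (X.presheaf.stalk (f.fiberι y z)) ((f.fiber y).presheaf.stalk z) :=
    ((f.fiberι y).stalkMap z).hom.toAlgebra
  letI mAF := FlatMod.moduleStalkOver f F (f.fiberι y z)
  haveI : IsScalarTower (Y.presheaf.stalk (f (f.fiberι y z))) (X.presheaf.stalk (f.fiberι y z))
      (F.presheaf.stalk (f.fiberι y z)) := IsScalarTower.of_algebraMap_smul (fun _ _ => rfl)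
  obtain ⟨T⟩ := nonempty_stalk_linearEquiv (f.fiberι y) F z
  have hsurj : Function.Surjective (algebraMap (X.presheaf.stalk (f.fiberι y z))
      ((f.fiber y).presheaf.stalk z)) := (f.fiberι y).stalkMap_surjective z
  have hker : RingHom.ker (algebraMap (X.presheaf.stalk (f.fiberι y z))
      ((f.fiber y).presheaf.stalk z)) =
      (maximalIdeal (Y.presheaf.stalk (f (f.fiberι y z)))).map
        (algebraMap (Y.presheaf.stalk (f (f.fiberι y z))) (X.presheaf.stalk (f.fiberι y z))) :=
    ker_stalkMap_fiberι f y z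
  rw [← T.length_eq, length_fibre (F.presheaf.stalk (f.fiberι y z)) hsurj hker]
  rfl

/-- if `E_{f x}` has length one, the stalk of `f^*E ⊗ F` at `x` has the length of the fibre stalk of `F`. -/
theorem length_stalk_tensor_of_length_eq_one (f : X ⟶ Y) (E : Y.Modules) [E.IsQuasicoherent]
    (F : X.Modules) (x : X)
    (h1 : Module.length (Y.presheaf.stalk (f x)) (E.presheaf.stalk (f x)) = 1) :
    Module.length (X.presheaf.stalk x)
      ((CohB1.tensorMod ((Scheme.Modules.pullback f).obj E) F).presheaf.stalk x) = fibLenAt f F x := by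
  letI aAB : Algebra (Y.presheaf.stalk (f x)) (X.presheaf.stalk x) := (f.stalkMap x).hom.toAlgebra
  letI mAF := FlatMod.moduleStalkOver f F x
  haveI : IsScalarTower (Y.presheaf.stalk (f x)) (X.presheaf.stalk x) (F.presheaf.stalk x) :=
    IsScalarTower.of_algebraMap_smul (fun _ _ => rfl)
  obtain ⟨e⟩ := nonempty_stalk_tensor_pullback_equiv f E F x
  obtain ⟨e2⟩ := nonempty_tensor_equiv_of_isSimpleModule (B := X.presheaf.stalk x)
    (F.presheaf.stalk x) (E.presheaf.stalk (f x)) (Module.length_eq_one_iff.1 h1)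
  rw [e.length_eq, e2.length_eq]
  rfl

/-- if the stalk of `f^*E ⊗ F` at `x` has length one and `F_x ≠ 0` then `E_{f x}` has length one. -/
theorem length_eq_one_of_length_stalk_tensor (f : X ⟶ Y) (E : Y.Modules) [E.IsQuasicoherent]
    (F : X.Modules) [F.IsQuasicoherent] [SheafOfModules.IsFiniteType (R := X.ringCatSheaf) F] (x : X)
    (hfl : FlatMod.IsFlatOverAt f F x) (hne : Nontrivial (F.presheaf.stalk x))
    (h1 : Module.length (X.presheaf.stalk x)
      ((CohB1.tensorMod ((Scheme.Modules.pullback f).obj E) F).presheaf.stalk x) = 1) :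
    Module.length (Y.presheaf.stalk (f x)) (E.presheaf.stalk (f x)) = 1 := by
  letI aAB : Algebra (Y.presheaf.stalk (f x)) (X.presheaf.stalk x) := (f.stalkMap x).hom.toAlgebra
  letI mAF := FlatMod.moduleStalkOver f F x
  haveI : IsScalarTower (Y.presheaf.stalk (f x)) (X.presheaf.stalk x) (F.presheaf.stalk x) :=
    IsScalarTower.of_algebraMap_smul (fun _ _ => rfl)
  haveI : IsLocalHom (algebraMap (Y.presheaf.stalk (f x)) (X.presheaf.stalk x)) :=
    inferInstanceAs (IsLocalHom (f.stalkMap x).hom)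
  haveI : Module.Flat (Y.presheaf.stalk (f x)) (F.presheaf.stalk x) := hfl
  haveI := finite_stalk F x
  haveI : Module.FaithfullyFlat (Y.presheaf.stalk (f x)) (F.presheaf.stalk x) :=
    faithfullyFlat (B := X.presheaf.stalk x) (F.presheaf.stalk x)
  obtain ⟨e⟩ := nonempty_stalk_tensor_pullback_equiv f E F x
  rw [e.length_eq, Module.length_eq_one_iff] at h1
  exact Module.length_eq_one_iff.2
    (isSimpleModule_of_tensor (B := X.presheaf.stalk x) (F.presheaf.stalk x) (E.presheaf.stalk (f x)) h1)

/-- **going down** for associated points of `f^*E ⊗ F`. -/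
theorem exists_isAssPoint_tensor_specializes [IsLocallyNoetherian X] [IsLocallyNoetherian Y] (f : X ⟶ Y)
    (E : Y.Modules) [E.IsQuasicoherent]
    (F : X.Modules) [F.IsQuasicoherent] [SheafOfModules.IsFiniteType (R := X.ringCatSheaf) F] (x : X)
    (hfl : FlatMod.IsFlatOverAt f F x) (hne : Nontrivial (F.presheaf.stalk x))
    (y' : Y) (hy' : y' ⤳ f x) (hass : Curv2.IsAssPoint E y') :
    ∃ x' : X, x' ⤳ x ∧ f x' = y' ∧
      Curv2.IsAssPoint (CohB1.tensorMod ((Scheme.Modules.pullback f).obj E) F) x' := by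
  letI aAB : Algebra (Y.presheaf.stalk (f x)) (X.presheaf.stalk x) := (f.stalkMap x).hom.toAlgebra
  letI mAF := FlatMod.moduleStalkOver f F x
  haveI : IsScalarTower (Y.presheaf.stalk (f x)) (X.presheaf.stalk x) (F.presheaf.stalk x) :=
    IsScalarTower.of_algebraMap_smul (fun _ _ => rfl)
  haveI : IsLocalHom (algebraMap (Y.presheaf.stalk (f x)) (X.presheaf.stalk x)) :=
    inferInstanceAs (IsLocalHom (f.stalkMap x).hom)
  haveI : Module.Flat (Y.presheaf.stalk (f x)) (F.presheaf.stalk x) := hfl
  haveI := finite_stalk F x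
  haveI : (CohB1.tensorMod ((Scheme.Modules.pullback f).obj E) F).IsQuasicoherent := by
    haveI := isQuasicoherent_pullback f E
    exact Groth.Agent.Lib.Helper23.TensorQCoh.isQuasicoherent_tensorMod _ _
  obtain ⟨p', hp'⟩ : y' ∈ Set.range (Y.fromSpecStalk (f x)) := by
    rw [Scheme.range_fromSpecStalk]; exact hy'
  subst hp'
  have h1 : p'.asIdeal ∈ associatedPrimes (Y.presheaf.stalk (f x)) (E.presheaf.stalk (f x)) :=
    (isAssPoint_fromSpecStalk_iff E (f x) p').1 hass
  obtain ⟨Q, hQ, hQp⟩ := exists_mem_associatedPrimes_comap_eq (B := X.presheaf.stalk x)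
    (F.presheaf.stalk x) (E.presheaf.stalk (f x)) p'.asIdeal h1
  haveI hQprime : Q.IsPrime := hQ.isPrime
  obtain ⟨e⟩ := nonempty_stalk_tensor_pullback_equiv f E F x
  have hQ' : Q ∈ associatedPrimes (X.presheaf.stalk x)
      ((CohB1.tensorMod ((Scheme.Modules.pullback f).obj E) F).presheaf.stalk x) :=
    e.symm.isAssociatedPrime_iff.1 hQ
  let q : Spec (X.presheaf.stalk x) := ⟨Q, hQprime⟩
  refine ⟨X.fromSpecStalk x q, ?_, ?_, ?_⟩
  · have : X.fromSpecStalk x q ∈ Set.range (X.fromSpecStalk x) := ⟨_, rfl⟩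
    rw [Scheme.range_fromSpecStalk] at this
    exact this
  · have h2 := Scheme.SpecMap_stalkMap_fromSpecStalk (f := f) (x := x)
    have h3 : f (X.fromSpecStalk x q) =
        Y.fromSpecStalk (f x) (Spec.map (f.stalkMap x) q) := by
      rw [← Scheme.Hom.comp_apply, ← Scheme.Hom.comp_apply, h2]
    rw [h3]
    congr 1
    exact PrimeSpectrum.ext hQp
  · exact (isAssPoint_fromSpecStalk_iff _ x q).2 hQ'

/-- an associated point of `f^*E ⊗ F` lies in the support of `F`. -/
theorem nontrivial_stalk_of_isAssPoint_tensor (f : X ⟶ Y) (E : Y.Modules) [E.IsQuasicoherent]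
    (F : X.Modules) (x : X)
    (h : Curv2.IsAssPoint (CohB1.tensorMod ((Scheme.Modules.pullback f).obj E) F) x) :
    Nontrivial (F.presheaf.stalk x) := by
  letI aAB : Algebra (Y.presheaf.stalk (f x)) (X.presheaf.stalk x) := (f.stalkMap x).hom.toAlgebra
  letI mAF := FlatMod.moduleStalkOver f F x
  haveI : IsScalarTower (Y.presheaf.stalk (f x)) (X.presheaf.stalk x) (F.presheaf.stalk x) :=
    IsScalarTower.of_algebraMap_smul (fun _ _ => rfl)
  obtain ⟨e⟩ := nonempty_stalk_tensor_pullback_equiv f E F x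
  by_contra hn
  rw [not_nontrivial_iff_subsingleton] at hn
  have h2 : IsAssociatedPrime (maximalIdeal (X.presheaf.stalk x))
      ((F.presheaf.stalk x : Type u) ⊗[(Y.presheaf.stalk (f x) : Type u)]
        (E.presheaf.stalk (f x) : Type u)) := e.isAssociatedPrime_iff.1 h
  exact not_isAssociatedPrime_of_subsingleton h2

end Groth.Agent.Lib.Helper7.AssTensorFlatSch
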