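import Mathlib

set_option autoImplicit false
universe u
open TensorProduct

namespace Groth.Agent.Lib.Helper6.NoEmb

section Abs

/-- elements of an associated prime of a ring are zero divisors -/
theorem not_mem_nonZeroDivisors_of_mem_associatedPrimes {S : Type*} [CommRing S] {q : Ideal S}
    (hq : q ∈ associatedPrimes S S) {r : S} (hr : r ∈ q) : r ∉ nonZeroDivisors S := by
  obtain ⟨hp, x, hx⟩ := hq
  intro hnz
  have hx0 : x ≠ 0 := by
    rintro rfl
    apply hp.ne_top
    rw [hx, eq_top_iff]
    intro a _
    apply Ideal.le_radical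
    rw [Submodule.mem_colon_singleton]
    simp
  rw [hx] at hr
  obtain ⟨n, hn⟩ := hr
  rw [Submodule.mem_colon_singleton, Submodule.mem_bot, smul_eq_mul] at hn
  have h2 : r ^ n ∈ nonZeroDivisors S := pow_mem hnz n
  exact hx0 ((mem_nonZeroDivisors_iff_right.mp h2) x (by rw [mul_comm]; exact hn))

/-- an integral torsion-free algebra over a domain has no embedded primes -/
theorem associatedPrimes_subset_minimalPrimes_of_integral (R S : Type*) [CommRing R] [IsDomain R]
    [CommRing S] [Algebra R S] [Algebra.IsIntegral R S]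
    (h : ∀ r : R, r ≠ 0 → algebraMap R S r ∈ nonZeroDivisors S) :
    associatedPrimes S S ⊆ minimalPrimes S := by
  intro q hq
  haveI hqp : q.IsPrime := hq.1
  have hcomap : q.comap (algebraMap R S) = ⊥ := by
    rw [eq_bot_iff]
    intro r hr
    rw [Ideal.mem_bot]
    by_contra hr0
    exact not_mem_nonZeroDivisors_of_mem_associatedPrimes hq (Ideal.mem_comap.mp hr) (h r hr0)
  obtain ⟨p, hp, hpq⟩ := Ideal.exists_minimalPrimes_le (bot_le : (⊥ : Ideal S) ≤ q)
  haveI hpp : p.IsPrime := hp.1.1
  by_cases hpq' : p = q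
  · rw [← hpq']; exact hp
  · exfalso
    have hlt : p < q := lt_of_le_of_ne hpq hpq'
    obtain ⟨x, hxq, hxp⟩ := SetLike.exists_of_lt hlt
    have := Ideal.comap_lt_comap_of_integral_mem_sdiff (R := R) hpq ⟨hxq, hxp⟩
      (Algebra.IsIntegral.isIntegral x)
    rw [hcomap] at this
    exact not_lt_bot this

/-- absence of embedded primes descends from a localization at nonzerodivisors -/
theorem associatedPrimes_subset_minimalPrimes_of_isLocalization {R : Type*} [CommRing R]
    (M : Submonoid R) (hM : M ≤ nonZeroDivisors R) (R' : Type*) [CommRing R'] [Algebra R R']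
    [IsLocalization M R'] (h : associatedPrimes R' R' ⊆ minimalPrimes R') :
    associatedPrimes R R ⊆ minimalPrimes R := by
  intro q hq
  haveI hqp : q.IsPrime := hq.1
  have hdisj : Disjoint (M : Set R) (q : Set R) := by
    rw [Set.disjoint_left]
    intro r hrM hrq
    exact not_mem_nonZeroDivisors_of_mem_associatedPrimes hq hrq (hM hrM)
  have hcm : (q.map (algebraMap R R')).comap (algebraMap R R') = q :=
    IsLocalization.comap_map_of_isPrime_disjoint M R' hqp hdisj
  haveI hq'p : (q.map (algebraMap R R')).IsPrime :=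
    IsLocalization.isPrime_of_isPrime_disjoint M R' q hqp hdisj
  have hq' : q.map (algebraMap R R') ∈ associatedPrimes R' R' := by
    apply Module.associatedPrimes.mem_associatedPrimes_of_comap_mem_associatedPrimes_of_isLocalizedModule
      M (Algebra.linearMap R R')
    rw [hcm]
    exact hq
  have hmin := h hq'
  refine ⟨⟨hqp, bot_le⟩, ?_⟩
  rintro p ⟨hpp, -⟩ hpq
  have hdisjp : Disjoint (M : Set R) (p : Set R) :=
    Set.disjoint_of_subset_right hpq hdisj
  haveI hp'p : (p.map (algebraMap R R')).IsPrime :=
    IsLocalization.isPrime_of_isPrime_disjoint M R' p hpp hdisjp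
  have h1 : q.map (algebraMap R R') ≤ p.map (algebraMap R R') :=
    hmin.2 ⟨hp'p, bot_le⟩ (Ideal.map_mono hpq)
  have h2 := Ideal.comap_mono (f := algebraMap R R') h1
  rw [hcm] at h2
  have hcmp : (p.map (algebraMap R R')).comap (algebraMap R R') = p :=
    IsLocalization.comap_map_of_isPrime_disjoint M R' hpp hdisjp
  rw [hcmp] at h2
  exact h2

end Abs

end Groth.Agent.Lib.Helper6.NoEmb
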