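import Mathlib
import Groth.Agent.Lib.Helper6EquiDim
import Groth.Agent.Lib.Helper6NoEmb1

set_option autoImplicit false
universe u
open TensorProduct

namespace Groth.Agent.Lib.Helper6.NoEmb

open Groth.Agent.Lib.Helper6.EquiDim

section Gen

variable {k : Type u} [Field k]

/-- nonzero elements of the domain `P ⊗ C` are nonzerodivisors on `B ⊗ C`, for an extension of
domains `P ⊆ B` -/
theorem map_mem_nonZeroDivisors_general (P B C : Type u) [CommRing P] [IsDomain P] [Algebra k P]
    [CommRing B] [IsDomain B] [Algebra k B] [CommRing C] [Algebra k C] [IsDomain (P ⊗[k] C)]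
    (g : P →ₐ[k] B) (hinj : Function.Injective g) (F : P ⊗[k] C) (hF : F ≠ 0) :
    Algebra.TensorProduct.map g (AlgHom.id k C) F ∈ nonZeroDivisors (B ⊗[k] C) := by
  letI algg : Algebra P B := g.toRingHom.toAlgebra
  haveI : IsScalarTower k P B :=
    IsScalarTower.of_algebraMap_eq fun c => (g.commutes c).symm
  let μ : P ⊗[k] C →ₗ[P] P ⊗[k] C := LinearMap.mulLeft P F
  have hμ : Function.Injective μ := fun a b hab => mul_left_cancel₀ hF hab
  have hL := lTensor_injective_of_domain (A := P) (B := B) hinj μ hμ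
  let e := Algebra.TensorProduct.cancelBaseChange k P P B C
  have he : ∀ F' : P ⊗[k] C, e ((1 : B) ⊗ₜ[P] F') =
      Algebra.TensorProduct.map g (AlgHom.id k C) F' := by
    intro F'
    induction F' using TensorProduct.induction_on with
    | zero => simp
    | tmul p c =>
      rw [Algebra.TensorProduct.cancelBaseChange_tmul, Algebra.TensorProduct.map_tmul]
      congr 1
      rw [Algebra.smul_def, mul_one]
      rfl
    | add x y hx hy => rw [TensorProduct.tmul_add, map_add, map_add, hx, hy]
  have hmul : μ.lTensor B = LinearMap.mulLeft P ((1 : B) ⊗ₜ[P] F) := by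
    apply TensorProduct.ext'
    intro b m
    change b ⊗ₜ[P] (F * m) = ((1 : B) ⊗ₜ[P] F) * (b ⊗ₜ[P] m)
    rw [Algebra.TensorProduct.tmul_mul_tmul, one_mul]
  rw [mem_nonZeroDivisors_iff_right]
  intro r hr
  obtain ⟨x, rfl⟩ := e.surjective r
  have h0 : μ.lTensor B x = 0 := by
    apply e.injective
    rw [hmul, LinearMap.mulLeft_apply, map_mul, he, mul_comm, hr, map_zero]
  have : x = 0 := hL (by rw [h0, map_zero])
  rw [this, map_zero]

/-- `Frac(k[T]) ⊗ L` is a domain -/
theorem isDomain_fractionRing_mvPolynomial_tensor (ι : Type u) (L : Type u) [CommRing L]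
    [IsDomain L] [Algebra k L] :
    IsDomain (FractionRing (MvPolynomial ι k) ⊗[k] L) := by
  let e : MvPolynomial ι k ⊗[k] L ≃+* MvPolynomial ι L :=
    ((Algebra.TensorProduct.comm k (MvPolynomial ι k) L).toRingEquiv).trans
      (MvPolynomial.algebraTensorAlgEquiv k L).toRingEquiv
  haveI : IsDomain (MvPolynomial ι k ⊗[k] L) := e.toMulEquiv.isDomain _
  -- `(P ⊗ L) ⊗[P] Frac P` is a localization of the domain `P ⊗ L`
  haveI hloc : IsLocalization (Algebra.algebraMapSubmonoid (MvPolynomial ι k ⊗[k] L)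
      (nonZeroDivisors (MvPolynomial ι k)))
      ((MvPolynomial ι k ⊗[k] L) ⊗[MvPolynomial ι k] FractionRing (MvPolynomial ι k)) :=
    IsLocalization.tensor _ _
  have hle : Algebra.algebraMapSubmonoid (MvPolynomial ι k ⊗[k] L)
      (nonZeroDivisors (MvPolynomial ι k)) ≤ nonZeroDivisors (MvPolynomial ι k ⊗[k] L) := by
    rintro _ ⟨p, hp, rfl⟩
    have hp0 : p ≠ 0 := nonZeroDivisors.ne_zero hp
    rw [mem_nonZeroDivisors_iff_ne_zero]
    intro h0
    apply hp0
    have hinj : Function.Injective (algebraMap (MvPolynomial ι k) (MvPolynomial ι k ⊗[k] L)) :=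
      Algebra.TensorProduct.includeLeft_injective (S := MvPolynomial ι k)
        (FaithfulSMul.algebraMap_injective k L)
    exact hinj (by rw [h0, map_zero])
  haveI : IsDomain ((MvPolynomial ι k ⊗[k] L) ⊗[MvPolynomial ι k]
      FractionRing (MvPolynomial ι k)) :=
    IsLocalization.isDomain_of_le_nonZeroDivisors
      ((MvPolynomial ι k ⊗[k] L) ⊗[MvPolynomial ι k] FractionRing (MvPolynomial ι k)) hle
  let e2 : (MvPolynomial ι k ⊗[k] L) ⊗[MvPolynomial ι k] FractionRing (MvPolynomial ι k) ≃+*
      FractionRing (MvPolynomial ι k) ⊗[k] L :=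
    ((Algebra.TensorProduct.comm (MvPolynomial ι k) (MvPolynomial ι k ⊗[k] L)
      (FractionRing (MvPolynomial ι k))).toRingEquiv).trans
    (Algebra.TensorProduct.cancelBaseChange k (MvPolynomial ι k) (MvPolynomial ι k)
      (FractionRing (MvPolynomial ι k)) L).toRingEquiv
  exact e2.symm.toMulEquiv.isDomain
    ((MvPolynomial ι k ⊗[k] L) ⊗[MvPolynomial ι k] FractionRing (MvPolynomial ι k))

/-- the tensor product of two field extensions has no embedded primes -/
theorem associatedPrimes_subset_minimalPrimes_field (K L : Type u) [Field K] [Field L]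
    [Algebra k K] [Algebra k L] :
    associatedPrimes (K ⊗[k] L) (K ⊗[k] L) ⊆ minimalPrimes (K ⊗[k] L) := by
  obtain ⟨ι, x, hx⟩ := exists_isTranscendenceBasis' k K
  let F := IntermediateField.adjoin k (Set.range x)
  haveI : Algebra.IsAlgebraic F K := hx.isAlgebraic_field
  haveI : Algebra.IsIntegral F K := Algebra.IsAlgebraic.isIntegral
  haveI : IsDomain (F ⊗[k] L) := by
    haveI := isDomain_fractionRing_mvPolynomial_tensor (k := k) ι L
    let e : FractionRing (MvPolynomial ι k) ⊗[k] L ≃ₐ[k] F ⊗[k] L :=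
      Algebra.TensorProduct.congr hx.1.aevalEquivField AlgEquiv.refl
    exact e.symm.toMulEquiv.isDomain (FractionRing (MvPolynomial ι k) ⊗[k] L)
  let φ : F ⊗[k] L →ₐ[k] K ⊗[k] L :=
    Algebra.TensorProduct.map (IsScalarTower.toAlgHom k F K) (AlgHom.id k L)
  letI : Algebra (F ⊗[k] L) (K ⊗[k] L) := φ.toRingHom.toAlgebra
  haveI : Algebra.IsIntegral (F ⊗[k] L) (K ⊗[k] L) := by
    constructor
    intro z
    induction z using TensorProduct.induction_on with
    | zero => exact isIntegral_zero
    | tmul a b =>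
      have h1 : IsIntegral (F ⊗[k] L) ((a ⊗ₜ[k] (1 : L)) : K ⊗[k] L) := by
        have ha : IsIntegral F a := Algebra.IsIntegral.isIntegral a
        exact IsIntegral.map_of_comp_eq (R := F) (S := K) (T := F ⊗[k] L) (U := K ⊗[k] L)
          (Algebra.TensorProduct.includeLeftRingHom (R := k) (A := F) (B := L))
          (Algebra.TensorProduct.includeLeftRingHom (R := k) (A := K) (B := L))
          (RingHom.ext fun p => by
            change φ (p ⊗ₜ[k] 1) = (algebraMap F K p) ⊗ₜ[k] 1
            simp [φ]) ha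
      have h2 : IsIntegral (F ⊗[k] L) (((1 : K) ⊗ₜ[k] b) : K ⊗[k] L) := by
        have h : φ ((1 : F) ⊗ₜ[k] b) = ((1 : K) ⊗ₜ[k] b : K ⊗[k] L) := by simp [φ]
        rw [← h]
        exact isIntegral_algebraMap (R := F ⊗[k] L) (A := K ⊗[k] L) (x := (1 : F) ⊗ₜ[k] b)
      have h3 : (a ⊗ₜ[k] b : K ⊗[k] L) = (a ⊗ₜ[k] (1 : L)) * ((1 : K) ⊗ₜ[k] b) := by
        rw [Algebra.TensorProduct.tmul_mul_tmul, mul_one, one_mul]
      rw [h3]
      exact h1.mul h2
    | add a b ha hb => exact ha.add hb
  apply associatedPrimes_subset_minimalPrimes_of_integral (F ⊗[k] L) (K ⊗[k] L)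
  intro r hr
  exact map_mem_nonZeroDivisors_general F K L (IsScalarTower.toAlgHom k F K)
    (FaithfulSMul.algebraMap_injective F K) r hr

end Gen

end Groth.Agent.Lib.Helper6.NoEmb
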