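import Mathlib
import Groth.Agent.Lib.Helper6NoEmb2

set_option autoImplicit false
universe u
open TensorProduct

namespace Groth.Agent.Lib.Helper6.NoEmb

section Dom

variable {k : Type u} [Field k] (A B : Type u) [CommRing A] [IsDomain A] [Algebra k A]
  [CommRing B] [IsDomain B] [Algebra k B]

omit [IsDomain B] in
theorem tmul_one_mem_nonZeroDivisors (a : A) (ha : a ≠ 0) :
    (a ⊗ₜ[k] (1 : B)) ∈ nonZeroDivisors (A ⊗[k] B) := by
  let μ : A →ₗ[k] A := LinearMap.mulLeft k a
  have hμ : Function.Injective μ := fun x y hxy => mul_left_cancel₀ ha hxy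
  have h1 : Function.Injective (μ.rTensor B) :=
    Module.Flat.rTensor_preserves_injective_linearMap μ hμ
  have h2 : ∀ z : A ⊗[k] B, μ.rTensor B z = (a ⊗ₜ[k] (1 : B)) * z := by
    intro z
    induction z using TensorProduct.induction_on with
    | zero => simp
    | tmul x y =>
      rw [LinearMap.rTensor_tmul, Algebra.TensorProduct.tmul_mul_tmul, one_mul]
      rfl
    | add x y hx hy => rw [map_add, hx, hy, mul_add]
  rw [mem_nonZeroDivisors_iff_right]
  intro z hz
  apply h1
  rw [h2, map_zero, mul_comm, hz]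

omit [IsDomain A] in
theorem one_tmul_mem_nonZeroDivisors (b : B) (hb : b ≠ 0) :
    ((1 : A) ⊗ₜ[k] b) ∈ nonZeroDivisors (A ⊗[k] B) := by
  let μ : B →ₗ[k] B := LinearMap.mulLeft k b
  have hμ : Function.Injective μ := fun x y hxy => mul_left_cancel₀ hb hxy
  have h1 : Function.Injective (μ.lTensor A) :=
    Module.Flat.lTensor_preserves_injective_linearMap μ hμ
  have h2 : ∀ z : A ⊗[k] B, μ.lTensor A z = ((1 : A) ⊗ₜ[k] b) * z := by
    intro z
    induction z using TensorProduct.induction_on with
    | zero => simp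
    | tmul x y =>
      rw [LinearMap.lTensor_tmul, Algebra.TensorProduct.tmul_mul_tmul, one_mul]
      rfl
    | add x y hx hy => rw [map_add, hx, hy, mul_add]
  rw [mem_nonZeroDivisors_iff_right]
  intro z hz
  apply h1
  rw [h2, map_zero, mul_comm, hz]

/-- the tensor product of two domains over a field has no embedded primes -/
theorem associatedPrimes_subset_minimalPrimes_domain :
    associatedPrimes (A ⊗[k] B) (A ⊗[k] B) ⊆ minimalPrimes (A ⊗[k] B) := by
  -- first localize `A`
  let φ₁ : A ⊗[k] B →ₐ[k] FractionRing A ⊗[k] B :=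
    Algebra.TensorProduct.map (IsScalarTower.toAlgHom k A (FractionRing A)) (AlgHom.id k B)
  letI alg₁ : Algebra (A ⊗[k] B) (FractionRing A ⊗[k] B) := φ₁.toRingHom.toAlgebra
  haveI : IsScalarTower A (A ⊗[k] B) (FractionRing A ⊗[k] B) :=
    IsScalarTower.of_algebraMap_eq fun a => by
      change (algebraMap A (FractionRing A) a) ⊗ₜ[k] (1 : B) = φ₁ (a ⊗ₜ[k] 1)
      simp [φ₁]
  haveI loc₁ : IsLocalization (Algebra.algebraMapSubmonoid (A ⊗[k] B) (nonZeroDivisors A))
      (FractionRing A ⊗[k] B) :=
    IsLocalization.tensorProduct_tensorProduct k B (nonZeroDivisors A) (FractionRing A)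
      (RingHom.ext fun b => by
        change φ₁ ((1 : A) ⊗ₜ[k] b) = (1 : FractionRing A) ⊗ₜ[k] b
        simp [φ₁])
  refine associatedPrimes_subset_minimalPrimes_of_isLocalization
    (Algebra.algebraMapSubmonoid (A ⊗[k] B) (nonZeroDivisors A)) ?_ (FractionRing A ⊗[k] B) ?_
  · rintro _ ⟨a, ha, rfl⟩
    exact tmul_one_mem_nonZeroDivisors A B a (nonZeroDivisors.ne_zero ha)
  -- then localize `B`
  let φ₂ : FractionRing A ⊗[k] B →ₐ[k] FractionRing A ⊗[k] FractionRing B :=
    Algebra.TensorProduct.map (AlgHom.id k (FractionRing A))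
      (IsScalarTower.toAlgHom k B (FractionRing B))
  letI alg₂ : Algebra (FractionRing A ⊗[k] B) (FractionRing A ⊗[k] FractionRing B) :=
    φ₂.toRingHom.toAlgebra
  haveI : IsScalarTower (FractionRing A) (FractionRing A ⊗[k] B)
      (FractionRing A ⊗[k] FractionRing B) :=
    IsScalarTower.of_algebraMap_eq (R := FractionRing A) (S := FractionRing A ⊗[k] B)
      (A := FractionRing A ⊗[k] FractionRing B) fun a => by
      change a ⊗ₜ[k] (1 : FractionRing B) = φ₂ (a ⊗ₜ[k] 1)
      simp [φ₂]
  haveI loc₂ : IsLocalization ((nonZeroDivisors B).map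
      (Algebra.TensorProduct.includeRight (R := k) (A := FractionRing A)))
      (FractionRing A ⊗[k] FractionRing B) :=
    IsLocalization.tensorProduct_tensorProduct_right k (FractionRing A) (nonZeroDivisors B)
      (FractionRing B)
      (RingHom.ext fun b => by
        change φ₂ ((1 : FractionRing A) ⊗ₜ[k] b) =
          (1 : FractionRing A) ⊗ₜ[k] (algebraMap B (FractionRing B) b)
        simp [φ₂])
  refine associatedPrimes_subset_minimalPrimes_of_isLocalization
    ((nonZeroDivisors B).map (Algebra.TensorProduct.includeRight (R := k) (A := FractionRing A)))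
    ?_ (FractionRing A ⊗[k] FractionRing B) ?_
  · rintro _ ⟨b, hb, rfl⟩
    exact one_tmul_mem_nonZeroDivisors (FractionRing A) B b (nonZeroDivisors.ne_zero hb)
  · exact associatedPrimes_subset_minimalPrimes_field (FractionRing A) (FractionRing B)

end Dom

end Groth.Agent.Lib.Helper6.NoEmb
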