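import Mathlib
import Groth.Prelude.Def_Curv2
import Groth.Prelude.Def_FDesc
import Groth.Agent.Lib.Helper6NoEmb3
import Groth.Agent.Lib.Helper6BcBridge
import Groth.Agent.Lib.Helper23UnitStalk

set_option autoImplicit false
universe u
open CategoryTheory CategoryTheory.Limits AlgebraicGeometry TensorProduct

namespace Groth.Agent.Lib.Helper6.NoEmb

open Groth.Agent.Lib.Helper6.BcBridge

section Transfer

/-- being an associated prime of the ring itself, for the maximal ideal of a local ring, is
invariant under ring isomorphisms -/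
theorem isAssociatedPrime_maximalIdeal_of_ringEquiv {R R' : Type*} [CommRing R] [CommRing R']
    [IsLocalRing R] [IsLocalRing R'] (e : R ≃+* R')
    (h : IsAssociatedPrime (IsLocalRing.maximalIdeal R) R) :
    IsAssociatedPrime (IsLocalRing.maximalIdeal R') R' := by
  obtain ⟨-, x, hx⟩ := h
  refine ⟨inferInstance, e x, ?_⟩
  ext r'
  have h1 : r' ∈ IsLocalRing.maximalIdeal R' ↔ e.symm r' ∈ IsLocalRing.maximalIdeal R := by
    rw [IsLocalRing.mem_maximalIdeal, IsLocalRing.mem_maximalIdeal, mem_nonunits_iff,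
      mem_nonunits_iff, not_iff_not]
    exact (isUnit_map_iff e.symm r').symm
  rw [h1, hx, Ideal.mem_radical_iff, Ideal.mem_radical_iff]
  refine exists_congr fun n => ?_
  rw [Submodule.mem_colon_singleton, Submodule.mem_colon_singleton, Submodule.mem_bot,
    Submodule.mem_bot, smul_eq_mul, smul_eq_mul]
  constructor
  · intro h2
    have := congrArg e h2
    rwa [map_mul, map_pow, e.apply_symm_apply, map_zero] at this
  · intro h2
    apply e.injective
    rw [map_mul, map_pow, e.apply_symm_apply, map_zero]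
    exact h2

/-- if the maximal ideal of the localization at `Q` is associated, `Q` is associated -/
theorem mem_associatedPrimes_of_atPrime {R : Type*} [CommRing R] [IsNoetherianRing R]
    (Q : Ideal R) [Q.IsPrime]
    (h : IsAssociatedPrime (IsLocalRing.maximalIdeal (Localization.AtPrime Q))
      (Localization.AtPrime Q)) : Q ∈ associatedPrimes R R := by
  have := Module.associatedPrimes.comap_mem_associatedPrimes_of_mem_associatedPrimes_of_isLocalizedModule_of_fg
    Q.primeCompl (Algebra.linearMap R (Localization.AtPrime Q))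
    (IsLocalRing.maximalIdeal (Localization.AtPrime Q)) h
    ((isNoetherianRing_iff_ideal_fg R).mp ‹_› _)
  have h2 : Ideal.comap (algebraMap R (Localization.AtPrime Q))
      (IsLocalRing.maximalIdeal (Localization.AtPrime Q)) = Q :=
    Localization.AtPrime.under_maximalIdeal
  rwa [h2] at this

end Transfer

section Scheme

variable {k : Type u} [Field k] {X Y : Scheme.{u}} (f : X ⟶ Spec (CommRingCat.of k))
  (g : Y ⟶ Spec (CommRingCat.of k)) [IsIntegral X] [IsIntegral Y]
  [IsLocallyNoetherian (pullback f g)]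

theorem noEmbedded_structureModule_prod :
    AssSch.NoEmbedded (Coh.structureModule (pullback f g)) := by
  intro x hx y hy hyx
  have hx' := (Groth.Agent.Lib.Helper23.UnitStalk.isAssPoint_structureModule_iff x).mp hx
  have hy' := (Groth.Agent.Lib.Helper23.UnitStalk.isAssPoint_structureModule_iff y).mp hy
  letI : X.Over (Spec (CommRingCat.of k)) := ⟨f⟩
  letI : Y.Over (Spec (CommRingCat.of k)) := ⟨g⟩
  obtain ⟨A, _, _, ι, _, hι, z, hz⟩ := exists_chart k X (pullback.fst f g x)
  obtain ⟨B, _, _, ι', _, hι', z', hz'⟩ := exists_chart k Y (pullback.snd f g x)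
  haveI : Nonempty ↥(Spec (CommRingCat.of A)) := ⟨z⟩
  haveI : Nonempty ↥(Spec (CommRingCat.of B)) := ⟨z'⟩
  haveI : IsDomain A :=
    (affine_isIntegral_iff (CommRingCat.of A)).mp (isIntegral_of_isOpenImmersion ι)
  haveI : IsDomain B :=
    (affine_isIntegral_iff (CommRingCat.of B)).mp (isIntegral_of_isOpenImmersion ι')
  have hι₀ : ι ≫ f = Spec.map (CommRingCat.ofHom (algebraMap k A)) := hι
  have hι'₀ : ι' ≫ g = Spec.map (CommRingCat.ofHom (algebraMap k B)) := hι'
  let j : Spec (CommRingCat.of (A ⊗[k] B)) ⟶ pullback f g :=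
    (pullbackSpecIso k A B).inv ≫
      pullback.map (Spec.map (CommRingCat.ofHom (algebraMap k A)))
        (Spec.map (CommRingCat.ofHom (algebraMap k B))) f g ι ι' (𝟙 _)
        (by rw [Category.comp_id, hι₀]) (by rw [Category.comp_id, hι'₀])
  haveI : IsOpenImmersion j := by
    dsimp only [j]
    infer_instance
  have hrange : x ∈ Set.range j := by
    dsimp only [j]
    rw [Scheme.Hom.comp_base, TopCat.coe_comp, Set.range_comp, Set.range_eq_univ.mpr,
      Set.image_univ, Scheme.Pullback.range_map]
    · exact ⟨⟨z, hz⟩, ⟨z', hz'⟩⟩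
    · exact (pullbackSpecIso k A B).inv.surjective
  obtain ⟨Q, rfl⟩ := hrange
  obtain ⟨Q', rfl⟩ := hyx.mem_open j.isOpenEmbedding.isOpen_range ⟨Q, rfl⟩
  haveI : IsLocallyNoetherian (Spec (CommRingCat.of (A ⊗[k] B))) :=
    isLocallyNoetherian_of_isOpenImmersion j
  haveI : IsNoetherianRing (A ⊗[k] B) :=
    (isLocallyNoetherian_Spec (R := CommRingCat.of (A ⊗[k] B))).mp inferInstance
  have hQ : Q.asIdeal ∈ associatedPrimes (A ⊗[k] B) (A ⊗[k] B) :=
    mem_associatedPrimes_of_atPrime Q.asIdeal
      (isAssociatedPrime_maximalIdeal_of_ringEquiv (stalkEquivSpec j Q) hx')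
  have hQ' : Q'.asIdeal ∈ associatedPrimes (A ⊗[k] B) (A ⊗[k] B) :=
    mem_associatedPrimes_of_atPrime Q'.asIdeal
      (isAssociatedPrime_maximalIdeal_of_ringEquiv (stalkEquivSpec j Q') hy')
  have hminQ := associatedPrimes_subset_minimalPrimes_domain A B hQ
  have hminQ' := associatedPrimes_subset_minimalPrimes_domain A B hQ'
  have hspec : Q' ⤳ Q := j.isOpenEmbedding.isInducing.specializes_iff.mp hyx
  have hle : Q'.asIdeal ≤ Q.asIdeal := (PrimeSpectrum.le_iff_specializes Q' Q).mpr hspec
  have hge : Q.asIdeal ≤ Q'.asIdeal := hminQ.2 ⟨Q'.2, bot_le⟩ hle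
  have : Q = Q' := PrimeSpectrum.ext (le_antisymm hge hle)
  rw [this]

end Scheme

end Groth.Agent.Lib.Helper6.NoEmb
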