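import Mathlib
import Groth.Agent.Lib.Helper6NoEmb4

set_option autoImplicit false
set_option linter.style.haveILetI false
universe u
open CategoryTheory CategoryTheory.Limits AlgebraicGeometry TensorProduct IsLocalRing

namespace Groth.Agent.Lib.Helper7.NoEmbBC

open Groth.Agent.Lib.Helper6.NoEmb

section Ring

/-- in an integral torsion-free algebra over a domain, a prime consisting of zero divisors is minimal -/
theorem mem_minimalPrimes_of_integral (R S : Type*) [CommRing R] [IsDomain R]
    [CommRing S] [Algebra R S] [Algebra.IsIntegral R S]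
    (h : ∀ r : R, r ≠ 0 → algebraMap R S r ∈ nonZeroDivisors S)
    (q : Ideal S) [hqp : q.IsPrime] (hq : ∀ r ∈ q, r ∉ nonZeroDivisors S) :
    q ∈ minimalPrimes S := by
  have hcomap : q.comap (algebraMap R S) = ⊥ := by
    rw [eq_bot_iff]
    intro r hr
    rw [Ideal.mem_bot]
    by_contra hr0
    exact hq _ (Ideal.mem_comap.mp hr) (h r hr0)
  obtain ⟨p, hp, hpq⟩ := Ideal.exists_minimalPrimes_le (bot_le : (⊥ : Ideal S) ≤ q)
  haveI hpp : p.IsPrime := hp.1.1
  by_cases hpq' : p = q
  · rw [← hpq']; exact hp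
  · exfalso
    have hlt : p < q := lt_of_le_of_ne hpq hpq'
    obtain ⟨x, hxq, hxp⟩ := SetLike.exists_of_lt hlt
    have := Ideal.comap_lt_comap_of_integral_mem_sdiff (R := R) hpq ⟨hxq, hxp⟩
      (Algebra.IsIntegral.isIntegral x)
    rw [hcomap] at this
    exact not_lt_bot this

variable {k : Type u} [Field k]

/-- in the tensor product of two field extensions, a prime consisting of zero divisors is minimal -/
theorem mem_minimalPrimes_field (K L : Type u) [Field K] [Field L]
    [Algebra k K] [Algebra k L] (q : Ideal (K ⊗[k] L)) [q.IsPrime]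
    (hq : ∀ r ∈ q, r ∉ nonZeroDivisors (K ⊗[k] L)) :
    q ∈ minimalPrimes (K ⊗[k] L) := by
  obtain ⟨ι, x, hx⟩ := exists_isTranscendenceBasis' k K
  let F := IntermediateField.adjoin k (Set.range x)
  haveI : Algebra.IsAlgebraic F K := hx.isAlgebraic_field
  haveI : Algebra.IsIntegral F K := Algebra.IsAlgebraic.isIntegral
  haveI : IsDomain (F ⊗[k] L) := by
    haveI := isDomain_fractionRing_mvPolynomial_tensor (k := k) ι L
    let e : FractionRing (MvPolynomial ι k) ⊗[k] L ≃ₐ[k] F ⊗[k] L :=
      Algebra.TensorProduct.congr hx.1.aevalEquivField AlgEquiv.refl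
    exact e.symm.toMulEquiv.isDomain (FractionRing (MvPolynomial ι k) ⊗[k] L)
  let φ : F ⊗[k] L →ₐ[k] K ⊗[k] L :=
    Algebra.TensorProduct.map (IsScalarTower.toAlgHom k F K) (AlgHom.id k L)
  letI : Algebra (F ⊗[k] L) (K ⊗[k] L) := φ.toRingHom.toAlgebra
  haveI : Algebra.IsIntegral (F ⊗[k] L) (K ⊗[k] L) := by
    constructor
    intro z
    induction z using TensorProduct.induction_on with
    | zero => exact isIntegral_zero
    | tmul a b =>
      have h1 : IsIntegral (F ⊗[k] L) ((a ⊗ₜ[k] (1 : L)) : K ⊗[k] L) := by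
        have ha : IsIntegral F a := Algebra.IsIntegral.isIntegral a
        exact IsIntegral.map_of_comp_eq (R := F) (S := K) (T := F ⊗[k] L) (U := K ⊗[k] L)
          (Algebra.TensorProduct.includeLeftRingHom (R := k) (A := F) (B := L))
          (Algebra.TensorProduct.includeLeftRingHom (R := k) (A := K) (B := L))
          (RingHom.ext fun p => by
            change φ (p ⊗ₜ[k] 1) = (algebraMap F K p) ⊗ₜ[k] 1
            simp [φ]) ha
      have h2 : IsIntegral (F ⊗[k] L) (((1 : K) ⊗ₜ[k] b) : K ⊗[k] L) := by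
        have h : φ ((1 : F) ⊗ₜ[k] b) = ((1 : K) ⊗ₜ[k] b : K ⊗[k] L) := by simp [φ]
        rw [← h]
        exact isIntegral_algebraMap (R := F ⊗[k] L) (A := K ⊗[k] L) (x := (1 : F) ⊗ₜ[k] b)
      have h3 : (a ⊗ₜ[k] b : K ⊗[k] L) = (a ⊗ₜ[k] (1 : L)) * ((1 : K) ⊗ₜ[k] b) := by
        rw [Algebra.TensorProduct.tmul_mul_tmul, mul_one, one_mul]
      rw [h3]
      exact h1.mul h2
    | add a b ha hb => exact ha.add hb
  apply mem_minimalPrimes_of_integral (F ⊗[k] L) (K ⊗[k] L) _ q hq
  intro r hr
  exact map_mem_nonZeroDivisors_general F K L (IsScalarTower.toAlgHom k F K)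
    (FaithfulSMul.algebraMap_injective F K) r hr

/-- if the maximal ideal of `R_Q` is associated to `R_Q`, then `Q` consists of zero divisors -/
theorem not_mem_nonZeroDivisors_of_atPrime {R : Type*} [CommRing R] (Q : Ideal R) [Q.IsPrime]
    (h : IsAssociatedPrime (maximalIdeal (Localization.AtPrime Q)) (Localization.AtPrime Q))
    (r : R) (hr : r ∈ Q) : r ∉ nonZeroDivisors R := by
  intro hnz
  have h1 : algebraMap R (Localization.AtPrime Q) r ∈ maximalIdeal (Localization.AtPrime Q) :=
    (IsLocalization.AtPrime.to_map_mem_maximal_iff (Localization.AtPrime Q) Q r).2 hr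
  have h2 : algebraMap R (Localization.AtPrime Q) r ∈ nonZeroDivisors (Localization.AtPrime Q) :=
    IsLocalization.map_nonZeroDivisors_le Q.primeCompl (Localization.AtPrime Q)
      (Submonoid.mem_map_of_mem _ hnz)
  exact not_mem_nonZeroDivisors_of_mem_associatedPrimes h h1 h2

/-- no embedded primes between points of `Spec (K ⊗ L)`, stated with the local rings. -/
theorem eq_of_le_of_isAssociatedPrime_atPrime (K L : Type u) [Field K] [Field L]
    [Algebra k K] [Algebra k L] (Q Q' : Ideal (K ⊗[k] L)) [Q.IsPrime] [Q'.IsPrime]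
    (hle : Q' ≤ Q)
    (h : IsAssociatedPrime (maximalIdeal (Localization.AtPrime Q)) (Localization.AtPrime Q)) :
    Q = Q' := by
  have hmin := mem_minimalPrimes_field K L Q (not_mem_nonZeroDivisors_of_atPrime Q h)
  exact le_antisymm (hmin.2 ⟨inferInstance, bot_le⟩ hle) hle

end Ring

end Groth.Agent.Lib.Helper7.NoEmbBC
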