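import Mathlib
import Groth.Agent.Lib.Helper7NoEmbBC1

set_option autoImplicit false
set_option linter.style.haveILetI false
universe u
open CategoryTheory CategoryTheory.Limits AlgebraicGeometry TensorProduct IsLocalRing

namespace Groth.Agent.Lib.Helper7.NoEmbBC

open Groth.Agent.Lib.Helper6.NoEmb Groth.Agent.Lib.Helper6.BcBridge Groth.Agent.Lib.Helper23.UnitStalk

section Fibre

variable {k K : Type u} [Field k] [Field K] [Algebra k K]

/-- a scheme isomorphic to `Spec (κ ⊗_k K)` has no embedded points -/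
theorem noEmbedded_structureModule_of_iso {W : Scheme.{u}} (κ : Type u) [Field κ] [Algebra k κ]
    (j : Spec (CommRingCat.of (κ ⊗[k] K)) ≅ W) : AssSch.NoEmbedded (Coh.structureModule W) := by
  intro w hw w' hw' hspec
  have hw1 := (isAssPoint_structureModule_iff w).mp hw
  obtain ⟨Q, rfl⟩ : ∃ Q, j.hom Q = w := ⟨j.inv w, Scheme.hom_inv_apply j.symm w⟩
  obtain ⟨Q', rfl⟩ : ∃ Q', j.hom Q' = w' := ⟨j.inv w', Scheme.hom_inv_apply j.symm w'⟩
  have hQ := isAssociatedPrime_maximalIdeal_of_ringEquiv (stalkEquivSpec j.hom Q) hw1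
  have hsp : Q' ⤳ Q := j.hom.isOpenEmbedding.isInducing.specializes_iff.mp hspec
  have hle : Q'.asIdeal ≤ Q.asIdeal := (PrimeSpectrum.le_iff_specializes Q' Q).mpr hsp
  haveI : Q.asIdeal.IsPrime := Q.isPrime
  haveI : Q'.asIdeal.IsPrime := Q'.isPrime
  have := eq_of_le_of_isAssociatedPrime_atPrime κ K Q.asIdeal Q'.asIdeal hle hQ
  have h2 : Q = Q' := PrimeSpectrum.ext this
  rw [h2]

variable {X : Scheme.{u}} (f : X ⟶ Spec (CommRingCat.of k))

/-- the fibre of `X_K → X` over `x` is `Spec (κ(x) ⊗_k K)` -/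
theorem exists_iso_fibre (x : X) :
    ∃ (κ : Type u) (_ : Field κ) (_ : Algebra k κ),
      Nonempty (Spec (CommRingCat.of (κ ⊗[k] K)) ≅
        (pullback.fst f (Spec.map (CommRingCat.ofHom (algebraMap k K)))).fiber x) := by
  let ι := X.fromSpecResidueField x
  let φ : CommRingCat.of k ⟶ X.residueField x := Spec.preimage (ι ≫ f)
  letI : Algebra k (X.residueField x) := φ.hom.toAlgebra
  refine ⟨X.residueField x, inferInstance, inferInstance, ⟨?_⟩⟩
  have h1 : ι ≫ f = Spec.map (CommRingCat.ofHom (algebraMap k (X.residueField x))) :=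
    (Spec.map_preimage _).symm
  exact (pullbackSpecIso k (X.residueField x) K).symm ≪≫ pullback.congrHom h1.symm rfl ≪≫
    (pullbackRightPullbackFstIso f (Spec.map (CommRingCat.ofHom (algebraMap k K))) ι).symm ≪≫
    pullbackSymmetry _ _

theorem noEmbedded_structureModule_fibre (x : X) :
    AssSch.NoEmbedded (Coh.structureModule
      ((pullback.fst f (Spec.map (CommRingCat.ofHom (algebraMap k K)))).fiber x)) := by
  obtain ⟨κ, _, _, ⟨j⟩⟩ := exists_iso_fibre (K := K) f x
  exact noEmbedded_structureModule_of_iso κ j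

end Fibre

end Groth.Agent.Lib.Helper7.NoEmbBC
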