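import Mathlib
import Groth.Agent.Lib.Helper7NoEmbBC2

set_option autoImplicit false
set_option linter.style.haveILetI false
universe u
open CategoryTheory CategoryTheory.Limits AlgebraicGeometry TensorProduct IsLocalRing

namespace Groth.Agent.Lib.Helper7.FibreBC

section FB

variable {X S X' S' : Scheme.{u}} {f : X ⟶ S} {f' : X' ⟶ S'} {g' : X' ⟶ X} {g : S' ⟶ S}

/-- outer pasted square: the fibre of `g'` over `x` is `Spec κ(x) ×_S S'`. -/
theorem isPullback_outer (hc : IsPullback g' f' f g) (x : X) :
    IsPullback (g'.fiberι x ≫ f') (g'.fiberToSpecResidueField x) g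
      (Spec.map (f.residueFieldMap x) ≫ S.fromSpecResidueField (f x)) := by
  have hA : IsPullback (g'.fiberι x) (g'.fiberToSpecResidueField x) g'
      (X.fromSpecResidueField x) := IsPullback.of_hasPullback g' (X.fromSpecResidueField x)
  have := hA.paste_horiz hc.flip
  rwa [← Scheme.Hom.SpecMap_residueFieldMap_fromSpecResidueField] at this

/-- the map from the fibre of `g'` over `x` to the fibre of `g` over `f x`. -/
noncomputable def fibreMap (hc : IsPullback g' f' f g) (x : X) : g'.fiber x ⟶ g.fiber (f x) :=
  (IsPullback.of_hasPullback g (S.fromSpecResidueField (f x))).lift (g'.fiberι x ≫ f')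
    (g'.fiberToSpecResidueField x ≫ Spec.map (f.residueFieldMap x))
    (by rw [(isPullback_outer hc x).w, Category.assoc])

theorem fibreMap_fiberι (hc : IsPullback g' f' f g) (x : X) :
    fibreMap hc x ≫ g.fiberι (f x) = g'.fiberι x ≫ f' :=
  (IsPullback.of_hasPullback g (S.fromSpecResidueField (f x))).lift_fst _ _ _

theorem isPullback_fibreMap (hc : IsPullback g' f' f g) (x : X) :
    IsPullback (fibreMap hc x) (g'.fiberToSpecResidueField x) (g.fiberToSpecResidueField (f x))
      (Spec.map (f.residueFieldMap x)) :=
  IsPullback.of_right' (isPullback_outer hc x)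
    (IsPullback.of_hasPullback g (S.fromSpecResidueField (f x)))

instance flat_SpecMap_residueFieldMap (x : X) : Flat (Spec.map (f.residueFieldMap x)) := by
  rw [Flat.SpecMap_iff]
  letI := (f.residueFieldMap x).hom.toAlgebra
  change Module.Flat _ _
  infer_instance

theorem flat_fibreMap (hc : IsPullback g' f' f g) (x : X) : Flat (fibreMap hc x) :=
  MorphismProperty.of_isPullback (isPullback_fibreMap hc x).flip inferInstance

theorem fibreMap_apply (hc : IsPullback g' f' f g) (x : X) (z : g'.fiber x) :
    g.fiberι (f x) (fibreMap hc x z) = f' (g'.fiberι x z) := by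
  rw [← Scheme.Hom.comp_apply, fibreMap_fiberι, Scheme.Hom.comp_apply]

end FB

end Groth.Agent.Lib.Helper7.FibreBC
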