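import Mathlib
import Groth.Agent.Lib.Helper7NoEmbBC2
import Groth.Agent.Lib.Helper7FibreBC1

set_option autoImplicit false
set_option linter.style.haveILetI false
universe u
open CategoryTheory CategoryTheory.Limits AlgebraicGeometry TensorProduct IsLocalRing

namespace Groth.Agent.Lib.Helper7.FibreBC

open Groth.Agent.Lib.Helper7.NoEmbBC

section FIB2

variable {X S X' S' : Scheme.{u}} {f : X ⟶ S} {f' : X' ⟶ S'} {g' : X' ⟶ X} {g : S' ⟶ S}

/-- the fibres of the map between fibres are spectra of tensor products of fields, hence
have no embedded points. -/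
theorem noEmbedded_fiber_fibreMap (hc : IsPullback g' f' f g) (x : X) (y : g.fiber (f x)) :
    AssSch.NoEmbedded (Coh.structureModule ((fibreMap hc x).fiber y)) := by
  have hA : IsPullback ((fibreMap hc x).fiberι y) ((fibreMap hc x).fiberToSpecResidueField y)
      (fibreMap hc x) ((g.fiber (f x)).fromSpecResidueField y) :=
    IsPullback.of_hasPullback _ _
  have hP := hA.paste_horiz (isPullback_fibreMap hc x).flip
  let φ : S.residueField (f x) ⟶ X.residueField x := f.residueFieldMap x
  let ψ : S.residueField (f x) ⟶ (g.fiber (f x)).residueField y :=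
    Spec.preimage ((g.fiber (f x)).fromSpecResidueField y ≫ g.fiberToSpecResidueField (f x))
  letI a1 : Algebra (S.residueField (f x)) (X.residueField x) := φ.hom.toAlgebra
  letI a2 : Algebra (S.residueField (f x)) ((g.fiber (f x)).residueField y) := ψ.hom.toAlgebra
  have h1 : Spec.map φ =
      Spec.map (CommRingCat.ofHom (algebraMap (S.residueField (f x)) (X.residueField x))) := rfl
  have h2 : (g.fiber (f x)).fromSpecResidueField y ≫ g.fiberToSpecResidueField (f x) =
      Spec.map (CommRingCat.ofHom (algebraMap (S.residueField (f x))
        ((g.fiber (f x)).residueField y))) := (Spec.map_preimage _).symm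
  let j : Spec (CommRingCat.of ((X.residueField x) ⊗[S.residueField (f x)]
      ((g.fiber (f x)).residueField y))) ≅ (fibreMap hc x).fiber y :=
    (pullbackSpecIso (S.residueField (f x)) (X.residueField x)
      ((g.fiber (f x)).residueField y)).symm ≪≫ pullback.congrHom h1.symm h2.symm ≪≫
      hP.isoPullback.symm
  exact noEmbedded_structureModule_of_iso (k := S.residueField (f x))
    (K := (g.fiber (f x)).residueField y) (X.residueField x) j

end FIB2

end Groth.Agent.Lib.Helper7.FibreBC
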