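import Mathlib
import Groth.Agent.Lib.Helper4NormDelta
import Groth.Agent.Lib.Helper23Extend

/-!
# Exactness of stalks of `O_X`-modules, linear form (helper23)

Complements helper4's `stalkLin` (`Lib/Helper4NormDelta`):
* `stalkLin_injective` : monomorphisms are injective on stalks
* `stalkLin_exact` : a short exact sequence of modules is exact on stalks (`Function.Exact`)
-/

set_option autoImplicit false
universe u
open CategoryTheory AlgebraicGeometry

namespace Groth.Agent.Lib.Helper23.StalkLin

open Groth.Agent.Lib.Helper4.NormDelta Groth.Agent.Lib.Helper23.Extend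

theorem stalkLin_injective {X : Scheme.{u}} {F G : X.Modules} (φ : F ⟶ G) [Mono φ] (x : X) :
    Function.Injective (stalkLin φ x) := by
  rw [injective_iff_map_eq_zero]
  intro y hy
  obtain ⟨V, hxV, t, rfl⟩ := F.presheaf.exists_germ_eq y
  rw [stalkLin_germ] at hy
  have h0 : G.presheaf.germ V x hxV (Scheme.Modules.Hom.app φ V t) = G.presheaf.germ V x hxV 0 := by
    rw [hy, map_zero]
  obtain ⟨W, hxW, i₁, i₂, hW⟩ := G.presheaf.germ_eq x hxV hxV _ 0 h0
  rw [map_zero, ← app_map] at hW
  have h1 : F.presheaf.map i₁.op t = 0 := injective_app_of_mono φ W (hW.trans (map_zero _).symm)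
  rw [← TopCat.Presheaf.germ_res_apply F.presheaf i₁ x hxW t, h1, map_zero]

theorem stalkLin_exact {X : Scheme.{u}} (S : ShortComplex X.Modules) (hS : S.ShortExact) (x : X) :
    Function.Exact (stalkLin S.f x) (stalkLin S.g x) := by
  intro y
  constructor
  · intro hy
    obtain ⟨W, hxW, s, rfl⟩ := exists_germ_of_stalkLin_eq_zero S hS x y hy
    exact ⟨S.X₁.presheaf.germ W x hxW s, stalkLin_germ S.f x W hxW s⟩
  · rintro ⟨z, rfl⟩
    obtain ⟨V, hxV, t, rfl⟩ := S.X₁.presheaf.exists_germ_eq z
    rw [stalkLin_germ, stalkLin_germ]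
    have h0 : (S.f ≫ S.g).app V t = 0 := by
      rw [S.zero]; rfl
    have h1 : S.g.app V (S.f.app V t) = 0 := h0
    rw [h1, map_zero]

end Groth.Agent.Lib.Helper23.StalkLin
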