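import Mathlib
import Groth.Agent.Lib.Helper7NoEmbBC1
import Groth.Agent.Lib.Helper23FinType2
import Groth.Agent.Lib.Helper20OmegaAff
import Groth.Agent.Lib.Helper2FlatOver
import Groth.Agent.Lib.Helper23StalkLin
import Groth.Agent.Lib.Helper23PB
import Groth.Agent.Lib.Helper23TensorUnit

set_option autoImplicit false
set_option linter.style.haveILetI false
universe u
open CategoryTheory CategoryTheory.Limits AlgebraicGeometry TensorProduct IsLocalRing

namespace Groth.Agent.Lib.Helper7.NoEmbBC

open Groth.Agent.Lib.Helper23.UnitStalk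

section Descent

variable {k K : Type u} [Field k] [Field K] [Algebra k K]

theorem isNoetherianRing_of_tensor (A : Type u) [CommRing A] [Algebra k A]
    (h : IsNoetherianRing (A ⊗[k] K)) : IsNoetherianRing A := by
  haveI : Module.FaithfullyFlat A (A ⊗[k] K) := inferInstance
  have h2 : IsNoetherian (A ⊗[k] K) ((A ⊗[k] K) ⊗[A] A) :=
    isNoetherian_of_linearEquiv
      (TensorProduct.AlgebraTensorModule.rid A (A ⊗[k] K) (A ⊗[k] K)).symm
  exact Submodule.IsNoetherian.of_isNoetherian_tensorProduct_of_faithfullyFlat h2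

variable {X : Scheme.{u}} (f : X ⟶ Spec (CommRingCat.of k))

theorem isLocallyNoetherian_of_baseChange
    [IsLocallyNoetherian (pullback f (Spec.map (CommRingCat.ofHom (algebraMap k K))))] :
    IsLocallyNoetherian X := by
  haveI : ∀ i, IsAffine (X.affineOpenCover.openCover.X i) := fun i =>
    inferInstanceAs (IsAffine (Spec _))
  rw [isLocallyNoetherian_iff_of_affine_openCover X.affineOpenCover.openCover]
  intro i
  let R : Type u := X.affineOpenCover.X i
  let ι : Spec (CommRingCat.of R) ⟶ X := X.affineOpenCover.openCover.f i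
  haveI : IsOpenImmersion ι := inferInstanceAs (IsOpenImmersion (X.affineOpenCover.openCover.f i))
  let φ : CommRingCat.of k ⟶ CommRingCat.of R := Spec.preimage (ι ≫ f)
  letI : Algebra k R := φ.hom.toAlgebra
  have hι : ι ≫ f = Spec.map (CommRingCat.ofHom (algebraMap k R)) := (Spec.map_preimage _).symm
  let j : Spec (CommRingCat.of (R ⊗[k] K)) ⟶
      pullback f (Spec.map (CommRingCat.ofHom (algebraMap k K))) :=
    (pullbackSpecIso k R K).inv ≫
      pullback.map (Spec.map (CommRingCat.ofHom (algebraMap k R)))
        (Spec.map (CommRingCat.ofHom (algebraMap k K))) f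
        (Spec.map (CommRingCat.ofHom (algebraMap k K))) ι (𝟙 _) (𝟙 _)
        (by rw [Category.comp_id, hι]) (by rw [Category.comp_id, Category.id_comp])
  haveI : IsOpenImmersion j := by
    dsimp only [j]
    infer_instance
  haveI : IsLocallyNoetherian (Spec (CommRingCat.of (R ⊗[k] K))) :=
    isLocallyNoetherian_of_isOpenImmersion j
  haveI : IsNoetherianRing (R ⊗[k] K) :=
    (isLocallyNoetherian_Spec (R := CommRingCat.of (R ⊗[k] K))).mp inferInstance
  haveI : IsNoetherianRing R := isNoetherianRing_of_tensor (k := k) (K := K) R this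
  haveI : IsLocallyNoetherian (Spec (CommRingCat.of R)) :=
    (isLocallyNoetherian_Spec (R := CommRingCat.of R)).mpr inferInstance
  exact IsLocallyNoetherian.component_noetherian (X := Spec (CommRingCat.of R))
    ⟨⊤, isAffineOpen_top _⟩

end Descent

section Flat

theorem isFlatOver_structureModule {X S : Scheme.{u}} (f : X ⟶ S) [Flat f] :
    FlatMod.IsFlatOver f (Coh.structureModule X) := by
  intro x
  letI aAB : Algebra (S.presheaf.stalk (f x)) (X.presheaf.stalk x) := (f.stalkMap x).hom.toAlgebra
  letI mAF := FlatMod.moduleStalkOver f (Coh.structureModule X) x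
  haveI : IsScalarTower (S.presheaf.stalk (f x)) (X.presheaf.stalk x)
      ((Coh.structureModule X).presheaf.stalk x) :=
    IsScalarTower.of_algebraMap_smul (fun _ _ => rfl)
  haveI hfl : Module.Flat (S.presheaf.stalk (f x)) (X.presheaf.stalk x) := Flat.stalkMap f x
  exact Module.Flat.of_linearEquiv
    ((unitStalkEquiv x).symm.restrictScalars (S.presheaf.stalk (f x)))

theorem isCoh_structureModule (P : Scheme.{u}) : Coh.IsCoh (Coh.structureModule P) := by
  haveI : (Coh.structureModule P).IsQuasicoherent := inferInstance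
  refine ⟨inferInstance, ?_⟩
  rw [Groth.Agent.Lib.Helper23.FinType.isFiniteType_iff_forall_affine]
  intro U hU
  exact inferInstanceAs (Module.Finite Γ(P, U) Γ(P, U))

end Flat

section Iso

open Groth.Agent.Lib.Helper4.NormDelta Groth.Agent.Lib.Helper23.StalkLin

theorem ass_eq_of_iso {X : Scheme.{u}} {A B : X.Modules} (e : A ≅ B) : AssSch.Ass A = AssSch.Ass B :=
  Set.Subset.antisymm
    (fun x hx => IsAssociatedPrime.map_of_injective (stalkLin e.hom x) hx (stalkLin_injective e.hom x))
    (fun x hx => IsAssociatedPrime.map_of_injective (stalkLin e.inv x) hx (stalkLin_injective e.inv x))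

theorem noEmbedded_iff_of_iso {X : Scheme.{u}} {A B : X.Modules} (e : A ≅ B) :
    AssSch.NoEmbedded A ↔ AssSch.NoEmbedded B := by
  unfold AssSch.NoEmbedded
  rw [ass_eq_of_iso e]

/-- `f^* O_Y ⊗ O_X ≅ O_X`. -/
noncomputable def tensorPullbackUnitIso {X Y : Scheme.{u}} (f : X ⟶ Y) :
    CohB1.tensorMod ((Scheme.Modules.pullback f).obj (Coh.structureModule Y)) (Coh.structureModule X) ≅
      Coh.structureModule X :=
  Groth.Agent.Lib.Helper23.TensorUnit.tensorUnitIso _ ≪≫ Groth.Agent.Lib.Helper23.PB.pullbackUnitIso f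

end Iso

end Groth.Agent.Lib.Helper7.NoEmbBC
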