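import Mathlib
import Groth.Agent.Lib.Helper7AssTensorFlatSch
import Groth.Agent.Lib.Helper7NoEmbBC3
import Groth.Agent.Lib.Helper7FibreBC2

set_option autoImplicit false
set_option linter.style.haveILetI false
set_option linter.unusedVariables false
universe u
open CategoryTheory CategoryTheory.Limits AlgebraicGeometry TensorProduct IsLocalRing

namespace Groth.Agent.Lib.Helper7.FibreBC

open Groth.Agent.Lib.Helper2.FlatOver Groth.Agent.Lib.Helper26.TensStalk Groth.Agent.Lib.Helper7.AssTensorFlat
  Groth.Agent.Lib.Helper26.FibFlatSch Groth.Agent.Lib.Helper2.PullbackSec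
  Groth.Agent.Lib.Helper2.FibreCrit Groth.Agent.Lib.Helper7.AssTensorFlatSch
  Groth.Agent.Lib.Helper7.NoEmbBC

section Variants

variable {X Y : Scheme.{u}}

/-- variant of `isAssPoint_tensor_pullback_iff` assuming only that the two local rings are Noetherian. -/
theorem isAssPoint_tensor_pullback_iff' (f : X ⟶ Y)
    (E : Y.Modules) [E.IsQuasicoherent] (F : X.Modules) (x : X)
    [IsNoetherianRing (X.presheaf.stalk x)] [IsNoetherianRing (Y.presheaf.stalk (f x))]
    (hfl : FlatMod.IsFlatOverAt f F x) :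
    Curv2.IsAssPoint (CohB1.tensorMod ((Scheme.Modules.pullback f).obj E) F) x ↔
      Curv2.IsAssPoint E (f x) ∧ FibAssAt f F x := by
  letI aAB : Algebra (Y.presheaf.stalk (f x)) (X.presheaf.stalk x) := (f.stalkMap x).hom.toAlgebra
  letI mAF := FlatMod.moduleStalkOver f F x
  haveI : IsScalarTower (Y.presheaf.stalk (f x)) (X.presheaf.stalk x) (F.presheaf.stalk x) :=
    IsScalarTower.of_algebraMap_smul (fun _ _ => rfl)
  haveI : IsLocalHom (algebraMap (Y.presheaf.stalk (f x)) (X.presheaf.stalk x)) :=
    inferInstanceAs (IsLocalHom (f.stalkMap x).hom)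
  haveI : Module.Flat (Y.presheaf.stalk (f x)) (F.presheaf.stalk x) := hfl
  obtain ⟨e⟩ := nonempty_stalk_tensor_pullback_equiv f E F x
  have h1 : Curv2.IsAssPoint (CohB1.tensorMod ((Scheme.Modules.pullback f).obj E) F) x ↔
      maximalIdeal (X.presheaf.stalk x) ∈ associatedPrimes (X.presheaf.stalk x)
        ((F.presheaf.stalk x : Type u) ⊗[(Y.presheaf.stalk (f x) : Type u)]
          (E.presheaf.stalk (f x) : Type u)) := e.isAssociatedPrime_iff
  rw [h1, maximalIdeal_mem_associatedPrimes_tensor_iff]
  rfl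

/-- variant of `isAssPoint_fibre_iff` assuming only that the local ring is Noetherian. -/
theorem isAssPoint_fibre_iff' (f : X ⟶ Y) (F : X.Modules) [F.IsQuasicoherent]
    (y : Y) (z : f.fiber y) [IsNoetherianRing (X.presheaf.stalk (f.fiberι y z))] :
    Curv2.IsAssPoint ((Scheme.Modules.pullback (f.fiberι y)).obj F) z ↔
      FibAssAt f F (f.fiberι y z) := by
  letI aAB : Algebra (Y.presheaf.stalk (f (f.fiberι y z))) (X.presheaf.stalk (f.fiberι y z)) :=
    (f.stalkMap (f.fiberι y z)).hom.toAlgebra
  letI aBB' : Algebra (X.presheaf.stalk (f.fiberι y z)) ((f.fiber y).presheaf.stalk z) :=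
    ((f.fiberι y).stalkMap z).hom.toAlgebra
  letI mAF := FlatMod.moduleStalkOver f F (f.fiberι y z)
  haveI : IsScalarTower (Y.presheaf.stalk (f (f.fiberι y z))) (X.presheaf.stalk (f.fiberι y z))
      (F.presheaf.stalk (f.fiberι y z)) := IsScalarTower.of_algebraMap_smul (fun _ _ => rfl)
  obtain ⟨T⟩ := nonempty_stalk_linearEquiv (f.fiberι y) F z
  have hsurj : Function.Surjective (algebraMap (X.presheaf.stalk (f.fiberι y z))
      ((f.fiber y).presheaf.stalk z)) := (f.fiberι y).stalkMap_surjective z
  have hker : RingHom.ker (algebraMap (X.presheaf.stalk (f.fiberι y z))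
      ((f.fiber y).presheaf.stalk z)) =
      (maximalIdeal (Y.presheaf.stalk (f (f.fiberι y z)))).map
        (algebraMap (Y.presheaf.stalk (f (f.fiberι y z))) (X.presheaf.stalk (f.fiberι y z))) :=
    ker_stalkMap_fiberι f y z
  have h1 : Curv2.IsAssPoint ((Scheme.Modules.pullback (f.fiberι y)).obj F) z ↔
      maximalIdeal ((f.fiber y).presheaf.stalk z) ∈ associatedPrimes ((f.fiber y).presheaf.stalk z)
        (((f.fiber y).presheaf.stalk z : Type u) ⊗[(X.presheaf.stalk (f.fiberι y z) : Type u)]
          (F.presheaf.stalk (f.fiberι y z) : Type u)) := T.symm.isAssociatedPrime_iff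
  rw [h1, maximalIdeal_mem_associatedPrimes_fibre_iff (F.presheaf.stalk (f.fiberι y z)) hsurj hker]
  rfl

/-- local rings of a fibre are Noetherian when the local ring of the ambient scheme is. -/
theorem isNoetherianRing_stalk_fiber (f : X ⟶ Y) (y : Y) (z : f.fiber y)
    [IsNoetherianRing (X.presheaf.stalk (f.fiberι y z))] :
    IsNoetherianRing ((f.fiber y).presheaf.stalk z) :=
  isNoetherianRing_of_surjective _ _ ((f.fiberι y).stalkMap z).hom
    ((f.fiberι y).stalkMap_surjective z)

theorem isAssPoint_iff_of_iso {A B : X.Modules} (e : A ≅ B) (x : X) :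
    Curv2.IsAssPoint A x ↔ Curv2.IsAssPoint B x :=
  Set.ext_iff.1 (ass_eq_of_iso e) x

end Variants

section K1

variable {X S X' S' : Scheme.{u}} {f : X ⟶ S} {f' : X' ⟶ S'} {g' : X' ⟶ X} {g : S' ⟶ S}

/-- the comparison of the two pullbacks of `G` to the fibre of `g'`. -/
noncomputable def fibrePullbackIso (hc : IsPullback g' f' f g) (G : S'.Modules) (x : X) :
    (Scheme.Modules.pullback (g'.fiberι x)).obj ((Scheme.Modules.pullback f').obj G) ≅
      CohB1.tensorMod ((Scheme.Modules.pullback (fibreMap hc x)).obj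
        ((Scheme.Modules.pullback (g.fiberι (f x))).obj G)) (Coh.structureModule (g'.fiber x)) :=
  (Scheme.Modules.pullbackComp (g'.fiberι x) f').app G ≪≫
    (Scheme.Modules.pullbackCongr (fibreMap_fiberι hc x).symm).app G ≪≫
    ((Scheme.Modules.pullbackComp (fibreMap hc x) (g.fiberι (f x))).app G).symm ≪≫
    (Groth.Agent.Lib.Helper23.TensorUnit.tensorUnitIso _).symm

/-- **EGA IV 3.3.6, key step**: associated points of `f'^*G` on a fibre of `g'`. -/
theorem isAssPoint_fibre_pullback_iff (hc : IsPullback g' f' f g) [IsLocallyNoetherian X']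
    [IsLocallyNoetherian S'] (G : S'.Modules) [G.IsQuasicoherent] (x : X) (z : g'.fiber x) :
    Curv2.IsAssPoint ((Scheme.Modules.pullback (g'.fiberι x)).obj
        ((Scheme.Modules.pullback f').obj G)) z ↔
      Curv2.IsAssPoint ((Scheme.Modules.pullback (g.fiberι (f x))).obj G) (fibreMap hc x z) ∧
        FibAssAt (fibreMap hc x) (Coh.structureModule (g'.fiber x)) z := by
  haveI : Flat (fibreMap hc x) := flat_fibreMap hc x
  haveI : ((Scheme.Modules.pullback (g.fiberι (f x))).obj G).IsQuasicoherent :=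
    isQuasicoherent_pullback _ G
  haveI : IsNoetherianRing ((g'.fiber x).presheaf.stalk z) := isNoetherianRing_stalk_fiber g' x z
  haveI : IsNoetherianRing ((g.fiber (f x)).presheaf.stalk (fibreMap hc x z)) :=
    isNoetherianRing_stalk_fiber g (f x) _
  rw [isAssPoint_iff_of_iso (fibrePullbackIso hc G x)]
  exact isAssPoint_tensor_pullback_iff' (fibreMap hc x) _ _ z
    (isFlatOver_structureModule (fibreMap hc x) z)

end K1

end Groth.Agent.Lib.Helper7.FibreBC
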