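import Mathlib
import Groth.Agent.Lib.Helper7FibreBC3

set_option autoImplicit false
set_option linter.style.haveILetI false
set_option linter.unusedVariables false
universe u
open CategoryTheory CategoryTheory.Limits AlgebraicGeometry TensorProduct IsLocalRing

namespace Groth.Agent.Lib.Helper7.FibreBC

section C1

theorem isPullback_comp_mono {C : Type*} [Category C] {P X Y W Z : C} {fst : P ⟶ X} {snd : P ⟶ Y}
    {f : X ⟶ W} {g : Y ⟶ W} (h : IsPullback fst snd f g) (i : W ⟶ Z) [Mono i] :
    IsPullback fst snd (f ≫ i) (g ≫ i) := by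
  have t : IsPullback (𝟙 X) f (f ≫ i) i := IsPullback.of_horiz_isIso_mono ⟨by simp⟩
  have := h.paste_horiz t
  rwa [Category.comp_id] at this

lemma isIso_residueFieldMap_of_surjectiveOnStalks {X Y : Scheme.{u}} (f : X ⟶ Y)
    [SurjectiveOnStalks f] (x : X) : IsIso (f.residueFieldMap x) := by
  rw [ConcreteCategory.isIso_iff_bijective]
  refine ⟨RingHom.injective _, fun b => ?_⟩
  obtain ⟨b', rfl⟩ := IsLocalRing.residue_surjective b
  obtain ⟨a', rfl⟩ := f.stalkMap_surjective x b'
  refine ⟨IsLocalRing.residue _ a', ?_⟩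
  exact IsLocalRing.ResidueField.map_residue (f.stalkMap x).hom a'

variable {X S X' S' : Scheme.{u}} {f : X ⟶ S} {f' : X' ⟶ S'} {g' : X' ⟶ X} {g : S' ⟶ S}

/-- the fibre of the map between fibres is `Spec κ(x) ×_S Spec κ(y)`. -/
theorem isPullback_fiber_fibreMap (hc : IsPullback g' f' f g) (x : X) (y' : g.fiber (f x)) :
    IsPullback ((fibreMap hc x).fiberι y' ≫ g'.fiberToSpecResidueField x)
      ((fibreMap hc x).fiberToSpecResidueField y' ≫
        Spec.map ((g.fiberι (f x)).residueFieldMap y'))
      (X.fromSpecResidueField x ≫ f)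
      (S'.fromSpecResidueField (g.fiberι (f x) y') ≫ g) := by
  have hA : IsPullback ((fibreMap hc x).fiberι y') ((fibreMap hc x).fiberToSpecResidueField y')
      (fibreMap hc x) ((g.fiber (f x)).fromSpecResidueField y') :=
    IsPullback.of_hasPullback _ _
  have hP := hA.paste_horiz (isPullback_fibreMap hc x).flip
  haveI : IsIso ((g.fiberι (f x)).residueFieldMap y') :=
    isIso_residueFieldMap_of_surjectiveOnStalks _ _
  haveI : IsIso (Spec.map ((g.fiberι (f x)).residueFieldMap y')) := inferInstance
  -- replace `Spec κ(y')` by `Spec κ(y)`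
  have t : IsPullback ((g.fiber (f x)).fromSpecResidueField y' ≫ g.fiberToSpecResidueField (f x))
      (Spec.map ((g.fiberι (f x)).residueFieldMap y')) (𝟙 _)
      (inv (Spec.map ((g.fiberι (f x)).residueFieldMap y')) ≫
        (g.fiber (f x)).fromSpecResidueField y' ≫ g.fiberToSpecResidueField (f x)) :=
    IsPullback.of_vert_isIso ⟨by simp⟩
  have hQ := hP.paste_vert t
  rw [Category.comp_id] at hQ
  have hR := isPullback_comp_mono hQ (S.fromSpecResidueField (f x))
  have e1 : Spec.map (f.residueFieldMap x) ≫ S.fromSpecResidueField (f x) =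
      X.fromSpecResidueField x ≫ f := Scheme.Hom.SpecMap_residueFieldMap_fromSpecResidueField f x
  have e2 : (inv (Spec.map ((g.fiberι (f x)).residueFieldMap y')) ≫
        (g.fiber (f x)).fromSpecResidueField y' ≫ g.fiberToSpecResidueField (f x)) ≫
        S.fromSpecResidueField (f x) =
      S'.fromSpecResidueField (g.fiberι (f x) y') ≫ g := by
    rw [Category.assoc, Category.assoc, ← Scheme.Hom.fiber_fac, IsIso.inv_comp_eq,
      ← Scheme.Hom.SpecMap_residueFieldMap_fromSpecResidueField_assoc]
  rw [e1, e2] at hR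
  exact hR

/-- the comparison isomorphism, compatible with the maps to `X'`. -/
theorem exists_iso_fiber_fibreMap (hc : IsPullback g' f' f g) (x : X) (y' : g.fiber (f x)) :
    ∃ θ : (fibreMap hc x).fiber y' ≅
        pullback (X.fromSpecResidueField x ≫ f) (S'.fromSpecResidueField (g.fiberι (f x) y') ≫ g),
      ∀ m : pullback (X.fromSpecResidueField x ≫ f)
          (S'.fromSpecResidueField (g.fiberι (f x) y') ≫ g) ⟶ X',
        m ≫ g' = pullback.fst _ _ ≫ X.fromSpecResidueField x →
        m ≫ f' = pullback.snd _ _ ≫ S'.fromSpecResidueField (g.fiberι (f x) y') →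
        θ.hom ≫ m = (fibreMap hc x).fiberι y' ≫ g'.fiberι x := by
  have hI := isPullback_fiber_fibreMap hc x y'
  refine ⟨hI.isoPullback, fun m hm1 hm2 => ?_⟩
  apply hc.hom_ext
  · rw [Category.assoc, hm1, ← Category.assoc, IsPullback.isoPullback_hom_fst, Category.assoc,
      Category.assoc, Scheme.Hom.fiber_fac]
  · rw [Category.assoc, hm2, ← Category.assoc, IsPullback.isoPullback_hom_snd, Category.assoc,
      Category.assoc, Scheme.Hom.SpecMap_residueFieldMap_fromSpecResidueField,
      ← Scheme.Hom.fiber_fac_assoc, fibreMap_fiberι]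

end C1

end Groth.Agent.Lib.Helper7.FibreBC
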