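import Mathlib
import Groth.Agent.Lib.Helper7FibreBC4

set_option autoImplicit false
set_option linter.style.haveILetI false
set_option linter.unusedVariables false
universe u
open CategoryTheory CategoryTheory.Limits AlgebraicGeometry TensorProduct IsLocalRing

namespace Groth.Agent.Lib.Helper7.RelAssBC

open Groth.Agent.Lib.Helper2.FlatOver Groth.Agent.Lib.Helper26.TensStalk Groth.Agent.Lib.Helper7.AssTensorFlat
  Groth.Agent.Lib.Helper26.FibFlatSch Groth.Agent.Lib.Helper2.PullbackSec
  Groth.Agent.Lib.Helper2.FibreCrit Groth.Agent.Lib.Helper7.AssTensorFlatSch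
  Groth.Agent.Lib.Helper7.NoEmbBC Groth.Agent.Lib.Helper7.FibreBC
  Groth.Agent.Lib.Helper23.UnitStalk Groth.Agent.Lib.Helper6.NoEmb Groth.Agent.Lib.Helper6.BcBridge

section Ring

/-- in a zero-dimensional local ring the maximal ideal is associated -/
theorem isAssociatedPrime_maximalIdeal_of_krullDimLE_zero (S : Type*) [CommRing S] [IsLocalRing S]
    [Ring.KrullDimLE 0 S] : IsAssociatedPrime (maximalIdeal S) S := by
  refine ⟨inferInstance, 1, ?_⟩
  have h0 : (⊥ : Submodule S S).colon {(1 : S)} = ⊥ := by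
    ext r
    rw [Submodule.mem_colon_singleton, Submodule.mem_bot, smul_eq_mul, mul_one]
    rfl
  rw [h0, ← Ring.KrullDimLE.nilradical_eq_maximalIdeal S]
  rfl

variable {k : Type u} [Field k]

/-- in `K ⊗_k L`, the maximal ideal of the local ring at `Q` is associated iff `Q` is minimal -/
theorem isAssociatedPrime_atPrime_iff (K L : Type u) [Field K] [Field L]
    [Algebra k K] [Algebra k L] (Q : Ideal (K ⊗[k] L)) [Q.IsPrime] :
    IsAssociatedPrime (maximalIdeal (Localization.AtPrime Q)) (Localization.AtPrime Q) ↔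
      Q ∈ minimalPrimes (K ⊗[k] L) := by
  constructor
  · intro h
    exact mem_minimalPrimes_field K L Q (not_mem_nonZeroDivisors_of_atPrime Q h)
  · intro h
    haveI : Ring.KrullDimLE 0 (Localization.AtPrime Q) := .of_isLocalization Q h _
    exact isAssociatedPrime_maximalIdeal_of_krullDimLE_zero _

end Ring

section Sch

variable {k K L : Type u} [Field k] [Field K] [Field L] [Algebra k K] [Algebra k L]

/-- on a scheme isomorphic to `Spec (K ⊗_k L)` the associated points of the structure sheaf are the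
points which are maximal under generization -/
theorem isAssPoint_structureModule_iff_of_iso {W : Scheme.{u}}
    (j : Spec (CommRingCat.of (K ⊗[k] L)) ≅ W) (v : W) :
    Curv2.IsAssPoint (Coh.structureModule W) v ↔ ∀ v' : W, v' ⤳ v → v' = v := by
  obtain ⟨Q, rfl⟩ : ∃ Q, j.hom Q = v := ⟨j.inv v, Scheme.hom_inv_apply j.symm v⟩
  haveI : Q.asIdeal.IsPrime := Q.isPrime
  rw [isAssPoint_structureModule_iff]
  have h1 : IsAssociatedPrime (maximalIdeal (W.presheaf.stalk (j.hom Q))) (W.presheaf.stalk (j.hom Q)) ↔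
      IsAssociatedPrime (maximalIdeal (Localization.AtPrime Q.asIdeal))
        (Localization.AtPrime Q.asIdeal) :=
    ⟨isAssociatedPrime_maximalIdeal_of_ringEquiv (stalkEquivSpec j.hom Q),
      isAssociatedPrime_maximalIdeal_of_ringEquiv (stalkEquivSpec j.hom Q).symm⟩
  rw [h1, isAssociatedPrime_atPrime_iff]
  constructor
  · intro hmin v' hv'
    obtain ⟨Q', rfl⟩ : ∃ Q', j.hom Q' = v' := ⟨j.inv v', Scheme.hom_inv_apply j.symm v'⟩
    haveI : Q'.asIdeal.IsPrime := Q'.isPrime
    have hsp : Q' ⤳ Q := j.hom.isOpenEmbedding.isInducing.specializes_iff.mp hv'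
    have hle : Q'.asIdeal ≤ Q.asIdeal := (PrimeSpectrum.le_iff_specializes Q' Q).mpr hsp
    have : Q = Q' := PrimeSpectrum.ext (le_antisymm (hmin.2 ⟨inferInstance, bot_le⟩ hle) hle)
    rw [this]
  · intro h
    refine ⟨⟨inferInstance, bot_le⟩, ?_⟩
    rintro P ⟨hP, -⟩ hPQ
    have hsp : (⟨P, hP⟩ : PrimeSpectrum (K ⊗[k] L)) ⤳ Q :=
      (PrimeSpectrum.le_iff_specializes ⟨P, hP⟩ Q).mp hPQ
    have h2 := h (j.hom ⟨P, hP⟩) (hsp.map j.hom.continuous)
    have h3 : (⟨P, hP⟩ : PrimeSpectrum (K ⊗[k] L)) = Q :=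
      j.hom.isOpenEmbedding.injective h2
    rw [← h3]

end Sch

theorem fiberι_mem' {A B : Scheme.{u}} (φ : A ⟶ B) (b : B) (a : φ.fiber b) : φ (φ.fiberι b a) = b := by
  have : φ.fiberι b a ∈ Set.range (φ.fiberι b) := ⟨a, rfl⟩
  rw [Scheme.Hom.range_fiberι] at this
  exact this

section Main

variable {X S X' S' : Scheme.{u}} {f : X ⟶ S} {f' : X' ⟶ S'} {g' : X' ⟶ X} {g : S' ⟶ S}

theorem exists_iso_spec_fiber_fibreMap (hc : IsPullback g' f' f g) (x : X) (y : g.fiber (f x)) :
    ∃ (k K L : Type u) (_ : Field k) (_ : Field K) (_ : Field L) (_ : Algebra k K)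
      (_ : Algebra k L),
      Nonempty (Spec (CommRingCat.of (K ⊗[k] L)) ≅ (fibreMap hc x).fiber y) := by
  have hA : IsPullback ((fibreMap hc x).fiberι y) ((fibreMap hc x).fiberToSpecResidueField y)
      (fibreMap hc x) ((g.fiber (f x)).fromSpecResidueField y) :=
    IsPullback.of_hasPullback _ _
  have hP := hA.paste_horiz (isPullback_fibreMap hc x).flip
  let φ : S.residueField (f x) ⟶ X.residueField x := f.residueFieldMap x
  let ψ : S.residueField (f x) ⟶ (g.fiber (f x)).residueField y :=
    Spec.preimage ((g.fiber (f x)).fromSpecResidueField y ≫ g.fiberToSpecResidueField (f x))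
  letI a1 : Algebra (S.residueField (f x)) (X.residueField x) := φ.hom.toAlgebra
  letI a2 : Algebra (S.residueField (f x)) ((g.fiber (f x)).residueField y) := ψ.hom.toAlgebra
  have h1 : Spec.map φ =
      Spec.map (CommRingCat.ofHom (algebraMap (S.residueField (f x)) (X.residueField x))) := rfl
  have h2 : (g.fiber (f x)).fromSpecResidueField y ≫ g.fiberToSpecResidueField (f x) =
      Spec.map (CommRingCat.ofHom (algebraMap (S.residueField (f x))
        ((g.fiber (f x)).residueField y))) := (Spec.map_preimage _).symm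
  let j : Spec (CommRingCat.of ((X.residueField x) ⊗[S.residueField (f x)]
      ((g.fiber (f x)).residueField y))) ≅ (fibreMap hc x).fiber y :=
    (pullbackSpecIso (S.residueField (f x)) (X.residueField x)
      ((g.fiber (f x)).residueField y)).symm ≪≫ pullback.congrHom h1.symm h2.symm ≪≫
      hP.isoPullback.symm
  exact ⟨S.residueField (f x), X.residueField x, (g.fiber (f x)).residueField y, inferInstance,
    inferInstance, inferInstance, a1, a2, ⟨j⟩⟩

theorem isAssPoint_fiber_fibreMap_iff (hc : IsPullback g' f' f g) (x : X) (y : g.fiber (f x))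
    (v : (fibreMap hc x).fiber y) :
    Curv2.IsAssPoint (Coh.structureModule ((fibreMap hc x).fiber y)) v ↔
      ∀ v' : (fibreMap hc x).fiber y, v' ⤳ v → v' = v := by
  obtain ⟨k, K, L, _, _, _, _, _, ⟨j⟩⟩ := exists_iso_spec_fiber_fibreMap hc x y
  exact isAssPoint_structureModule_iff_of_iso j v

/-- variant of `isAssPoint_fibre_pullback_iff` with Noetherian hypotheses on the fibres only. -/
theorem isAssPoint_fibre_pullback_iff' (hc : IsPullback g' f' f g)
    (G : S'.Modules) [G.IsQuasicoherent] (x : X) (z : g'.fiber x)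
    [IsNoetherianRing ((g'.fiber x).presheaf.stalk z)]
    [IsNoetherianRing ((g.fiber (f x)).presheaf.stalk (fibreMap hc x z))] :
    Curv2.IsAssPoint ((Scheme.Modules.pullback (g'.fiberι x)).obj
        ((Scheme.Modules.pullback f').obj G)) z ↔
      Curv2.IsAssPoint ((Scheme.Modules.pullback (g.fiberι (f x))).obj G) (fibreMap hc x z) ∧
        FibAssAt (fibreMap hc x) (Coh.structureModule (g'.fiber x)) z := by
  haveI : Flat (fibreMap hc x) := flat_fibreMap hc x
  haveI : ((Scheme.Modules.pullback (g.fiberι (f x))).obj G).IsQuasicoherent :=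
    isQuasicoherent_pullback _ G
  rw [isAssPoint_iff_of_iso (fibrePullbackIso hc G x)]
  exact isAssPoint_tensor_pullback_iff' (fibreMap hc x) _ _ z
    (isFlatOver_structureModule (fibreMap hc x) z)

/-- **relative assassin and base change** (general cartesian square, Noetherian fibres). -/
theorem isAssPoint_fibre_pullback_iff_maximal (hc : IsPullback g' f' f g)
    (G : S'.Modules) [G.IsQuasicoherent] (x : X)
    (hW : ∀ z : g'.fiber x, IsNoetherianRing ((g'.fiber x).presheaf.stalk z))
    (hV : ∀ y : g.fiber (f x), IsNoetherianRing ((g.fiber (f x)).presheaf.stalk y))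
    (z : g'.fiber x) :
    Curv2.IsAssPoint ((Scheme.Modules.pullback (g'.fiberι x)).obj
        ((Scheme.Modules.pullback f').obj G)) z ↔
      Curv2.IsAssPoint ((Scheme.Modules.pullback (g.fiberι (f x))).obj G) (fibreMap hc x z) ∧
        ∀ z' : g'.fiber x, fibreMap hc x z' = fibreMap hc x z → z' ⤳ z → z' = z := by
  haveI := hW z
  haveI := hV (fibreMap hc x z)
  rw [isAssPoint_fibre_pullback_iff' hc G x z]
  refine and_congr_right fun _ => ?_
  obtain ⟨v, hv⟩ : z ∈ Set.range ((fibreMap hc x).fiberι (fibreMap hc x z)) := by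
    rw [Scheme.Hom.range_fiberι]; rfl
  haveI := hW ((fibreMap hc x).fiberι (fibreMap hc x z) v)
  have h1 : FibAssAt (fibreMap hc x) (Coh.structureModule (g'.fiber x)) z ↔
      Curv2.IsAssPoint (Coh.structureModule ((fibreMap hc x).fiber (fibreMap hc x z))) v := by
    rw [← isAssPoint_iff_of_iso (Groth.Agent.Lib.Helper23.PB.pullbackUnitIso
      ((fibreMap hc x).fiberι (fibreMap hc x z))), isAssPoint_fibre_iff', hv]
  rw [h1, isAssPoint_fiber_fibreMap_iff]
  constructor
  · intro h z' hz' hsp
    obtain ⟨v', hv'⟩ : z' ∈ Set.range ((fibreMap hc x).fiberι (fibreMap hc x z)) := by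
      rw [Scheme.Hom.range_fiberι]; exact hz'
    have hspv : v' ⤳ v := by
      rw [← ((fibreMap hc x).fiberι (fibreMap hc x z)).isEmbedding.toIsInducing.specializes_iff,
        hv, hv']
      exact hsp
    rw [← hv, ← hv', h v' hspv]
  · intro h v' hspv
    have h3 := hspv.map ((fibreMap hc x).fiberι (fibreMap hc x z)).continuous
    rw [hv] at h3
    have h2 := h ((fibreMap hc x).fiberι (fibreMap hc x z) v') (fiberι_mem' _ _ _) h3
    apply ((fibreMap hc x).fiberι (fibreMap hc x z)).isEmbedding.injective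
    rw [h2]
    exact hv.symm

theorem isAssPoint_fibre_congr {A B : Scheme.{u}} (φ : A ⟶ B) (F : A.Modules) {s₁ s₂ : B}
    (hs : s₁ = s₂) (a₁ : φ.fiber s₁) (a₂ : φ.fiber s₂) (ha : φ.fiberι s₁ a₁ = φ.fiberι s₂ a₂) :
    Curv2.IsAssPoint ((Scheme.Modules.pullback (φ.fiberι s₁)).obj F) a₁ ↔
      Curv2.IsAssPoint ((Scheme.Modules.pullback (φ.fiberι s₂)).obj F) a₂ := by
  subst hs
  have : a₁ = a₂ := (φ.fiberι s₁).isEmbedding.injective ha
  rw [this]

end Main

end Groth.Agent.Lib.Helper7.RelAssBC
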