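import Mathlib
import Groth.Agent.Lib.Helper14ConsGenC
import Groth.Agent.Lib.Helper14FibDepthAlongB
import Groth.Agent.S9780

/-!
# Constructibility on the base of properties of the associated points of the fibre modules
(helper14)

EGA IV 9.8-type statements: for `f : X ⟶ Y` of finite presentation and `F` of finite presentation,
the sets of points `y` of `Y` where the set of dimensions of the associated points of `F_y`
(resp. of the components of `Supp F_y`) is a given finite set, or where `F_y` has no embedded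
associated points, are locally constructible.
-/

set_option autoImplicit false
set_option linter.unusedVariables false
set_option linter.unusedSectionVars false
set_option linter.style.haveILetI false
set_option maxHeartbeats 400000

universe u

open CategoryTheory Limits AlgebraicGeometry TopologicalSpace Topology
open scoped Set.Notation

namespace Groth.Agent.Lib.Helper14.ConsGenD

open Groth.Agent.Lib.Helper4.DimFormula Groth.Agent.Lib.Helper4.VarDim
  Groth.Agent.Lib.Helper4.FibDim
open Groth.Agent.Lib.Helper14.FibAssA Groth.Agent.Lib.Helper14.FibAssB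
  Groth.Agent.Lib.Helper14.FibAssC Groth.Agent.Lib.Helper14.FibAssD
  Groth.Agent.Lib.Helper14.FibAssE Groth.Agent.Lib.Helper14.FibAssF
  Groth.Agent.Lib.Helper14.FibAssG Groth.Agent.Lib.Helper14.FibRhoH
  Groth.Agent.Lib.Helper14.FibDepthAlongA Groth.Agent.Lib.Helper14.FibDepthAlongB
  Groth.Agent.Lib.Helper14.ConsGenA Groth.Agent.Lib.Helper14.ConsGenB
  Groth.Agent.Lib.Helper14.ConsGenC

section Arith

theorem image_cast_eq_iff (A : Set (WithBot ℕ∞))
    (hA : ∀ a ∈ A, ∃ n : ℕ, a = (n : WithBot ℕ∞)) (Φ : Finset ℕ) :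
    A = (fun n : ℕ => (n : WithBot ℕ∞)) '' (Φ : Set ℕ) ↔
      ∀ n : ℕ, ((n : WithBot ℕ∞) ∈ A ↔ n ∈ Φ) := by
  constructor
  · intro h n
    rw [h]
    constructor
    · rintro ⟨k, hk, e⟩
      have e' : (k : WithBot ℕ∞) = (n : WithBot ℕ∞) := e
      have : k = n := by exact_mod_cast e'
      exact this ▸ hk
    · intro hn
      exact ⟨n, hn, rfl⟩
  · intro h
    ext a
    constructor
    · intro ha
      obtain ⟨n, rfl⟩ := hA a ha
      exact ⟨n, (h n).mp ha, rfl⟩
    · rintro ⟨n, hn, rfl⟩
      exact (h n).mpr hn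

end Arith

variable {X Y : Scheme.{u}} (f : X ⟶ Y)

section Base

variable [LocallyOfFiniteType f]

/-- fibre dimensions are bounded on quasi-compact subsets. -/
theorem exists_nat_forall_fibreDimAt_le (C : Set X) (hC : IsCompact C) :
    ∃ N : ℕ, ∀ x ∈ C, FlatMor.fibreDimAt f x ≤ ((N : ℕ) : WithBot ℕ∞) := by
  obtain ⟨N, hN⟩ := hC.elim_directed_cover
    (fun N : ℕ => {x : X | FlatMor.fibreDimAt f x ≤ ((N : ℕ) : WithBot ℕ∞)})
    (fun N => isOpen_setOf_fibreDimAt_le' f _)
    (by
      intro x _
      obtain ⟨N, hN⟩ := exists_nat_fibreDimAt_le f x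
      exact Set.mem_iUnion.mpr ⟨N, hN⟩)
    (by
      refine Monotone.directed_le ?_
      intro a b hab x hx
      have hx' : FlatMor.fibreDimAt f x ≤ ((a : ℕ) : WithBot ℕ∞) := hx
      exact hx'.trans (by exact_mod_cast hab))
  exact ⟨N, fun x hx => hN hx⟩

open Classical in
/-- **Local finiteness on the base**: a family of locally constructible subsets `D m` of the base,
whose points have fibres of dimension at least `m`, is locally finite. -/
theorem isLocallyConstructible_forall_notMem_base [QuasiCompact f] (D : ℕ → Set Y)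
    (hD : ∀ m, IsLocallyConstructible (D m))
    (hb : ∀ m y, y ∈ D m → ∃ x : X, f.base x = y ∧ (m : WithBot ℕ∞) ≤ FlatMor.fibreDimAt f x)
    (I : Set ℕ) :
    IsLocallyConstructible {y : Y | ∀ m ∈ I, y ∉ D m} := by
  refine IsLocallyConstructible.of_isOpenCover Y.affineCover.isOpenCover_opensRange fun i => ?_
  set V : Y.Opens := (Y.affineCover.f i).opensRange with hVdef
  have hV : IsAffineOpen V := isAffineOpen_opensRange (Y.affineCover.f i)
  obtain ⟨N, hN⟩ := exists_nat_forall_fibreDimAt_le f _ (f.isCompact_preimage hV.isCompact)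
  have hfin : ∀ (T : Finset ℕ), IsLocallyConstructible
      (⋂ m ∈ (T : Set ℕ), (if m ∈ I then (D m)ᶜ else Set.univ)) := by
    intro T
    induction T using Finset.induction_on with
    | empty =>
      simp only [Finset.coe_empty, Set.mem_empty_iff_false, Set.iInter_of_empty, Set.iInter_univ]
      exact IsLocallyConstructible.univ
    | insert a T ha ih =>
      rw [Finset.coe_insert, Set.biInter_insert]
      refine IsLocallyConstructible.inter ?_ ih
      split_ifs
      · exact isLocallyConstructible_compl (hD a)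
      · exact IsLocallyConstructible.univ
  have heq : (V : Set Y) ↓∩ {y : Y | ∀ m ∈ I, y ∉ D m} =
      (V : Set Y) ↓∩ (⋂ m ∈ ((Finset.range (N + 1) : Finset ℕ) : Set ℕ),
        (if m ∈ I then (D m)ᶜ else Set.univ)) := by
    ext y
    simp only [Set.mem_preimage, Set.mem_ofPred_eq, Set.mem_iInter]
    constructor
    · intro h1 m _
      by_cases hmI : m ∈ I
      · rw [if_pos hmI]
        exact h1 m hmI
      · rw [if_neg hmI]
        trivial
    · intro h1 m hmI hyD
      obtain ⟨x, hxy, hx⟩ := hb m y.1 hyD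
      have hxV : x ∈ f.base ⁻¹' (V : Set Y) := by
        change f.base x ∈ V
        rw [hxy]
        exact y.2
      have h3 := hx.trans (hN x hxV)
      have h4 : m ≤ N := by exact_mod_cast h3
      have h5 := h1 m (Finset.mem_coe.mpr (Finset.mem_range.mpr (by omega)))
      rw [if_pos hmI] at h5
      exact h5 hyD
  rw [heq]
  exact (hfin _).preimage_of_isOpenEmbedding V.2.isOpenEmbedding_subtypeVal

/-- the set of points of the base over which the set of `m` with `y ∈ D m` is exactly `Φ`. -/
theorem isLocallyConstructible_setOf_forall_iff [QuasiCompact f] (D : ℕ → Set Y)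
    (hD : ∀ m, IsLocallyConstructible (D m))
    (hb : ∀ m y, y ∈ D m → ∃ x : X, f.base x = y ∧ (m : WithBot ℕ∞) ≤ FlatMor.fibreDimAt f x)
    (Φ : Finset ℕ) :
    IsLocallyConstructible {y : Y | ∀ m : ℕ, (y ∈ D m ↔ m ∈ Φ)} := by
  have h1 : IsLocallyConstructible (⋂ m ∈ (Φ : Set ℕ), D m) := by
    have hfin : ∀ (T : Finset ℕ), IsLocallyConstructible (⋂ m ∈ (T : Set ℕ), D m) := by
      intro T
      induction T using Finset.induction_on with
      | empty =>
        simp only [Finset.coe_empty, Set.mem_empty_iff_false, Set.iInter_of_empty,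
          Set.iInter_univ]
        exact IsLocallyConstructible.univ
      | insert a T ha ih =>
        rw [Finset.coe_insert, Set.biInter_insert]
        exact (hD a).inter ih
    exact hfin Φ
  have h2 := isLocallyConstructible_forall_notMem_base f D hD hb {m | m ∉ Φ}
  have heq : {y : Y | ∀ m : ℕ, (y ∈ D m ↔ m ∈ Φ)} =
      (⋂ m ∈ (Φ : Set ℕ), D m) ∩ {y : Y | ∀ m ∈ {m | m ∉ Φ}, y ∉ D m} := by
    ext y
    simp only [Set.mem_ofPred_eq, Set.mem_inter_iff, Set.mem_iInter, Finset.mem_coe]
    constructor
    · intro h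
      exact ⟨fun m hm => (h m).mpr hm, fun m hm hyD => hm ((h m).mp hyD)⟩
    · rintro ⟨h3, h4⟩ m
      exact ⟨fun hyD => by_contra fun hm => h4 m hm hyD, fun hm => h3 m hm⟩
  rw [heq]
  exact h1.inter h2

end Base

section Module

variable [LocallyOfFinitePresentation f] (F : X.Modules) (hF : CohB1.IsFP F)

include hF in
/-- the support of `F` is the locus where the rectified depth of the fibre module is finite. -/
theorem mem_support_iff_geomRho_ne_top (x : X) :
    x ∈ CohB1.support F ↔
      GeomRho f F (f.base x) (f.asFiber x) ≠ (((⊤ : ℕ∞) : ℕ∞) : WithBot ℕ∞) := by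
  haveI := isLocallyNoetherian_fiber f (f.base x)
  have hmem : f.asFiber x ∈ CohB1.support (fibMod f F (f.base x)) ↔ x ∈ CohB1.support F := by
    rw [mem_support_fibMod_iff f F hF, f.fiberι_asFiber]
  rw [geomRho_eq, fdl_asFiber]
  have harith : ∀ d : ℕ∞, ((d : ℕ∞) : WithBot ℕ∞) + ((ptTrdeg f x : ℕ) : WithBot ℕ∞) ≠
      (((⊤ : ℕ∞) : ℕ∞) : WithBot ℕ∞) ↔ d ≠ ⊤ := by
    intro d
    have h1 : ((ptTrdeg f x : ℕ) : WithBot ℕ∞) = (((ptTrdeg f x : ℕ) : ℕ∞) : WithBot ℕ∞) := rfl
    rw [h1, ← WithBot.coe_add, Ne, WithBot.coe_eq_coe, ENat.add_eq_top]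
    simp
  rw [harith]
  constructor
  · intro hx
    have hz := hmem.mpr hx
    have h1 := depth_le_supportDim_stalk (fibMod f F (f.base x)) (isCoh_fibMod f F hF (f.base x))
      (f.asFiber x) hz
    have h2 : Module.supportDim ((f.fiber (f.base x)).presheaf.stalk (f.asFiber x))
        ((fibMod f F (f.base x)).presheaf.stalk (f.asFiber x)) ≤
        ringKrullDim ((f.fiber (f.base x)).presheaf.stalk (f.asFiber x)) :=
      Module.supportDim_le_ringKrullDim _ _
    obtain ⟨b, hb⟩ := exists_ringKrullDim_stalk_asFiber_eq_nat f x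
    have h3 := (h1.trans h2).trans hb.le
    intro hcon
    rw [hcon] at h3
    have h4 : ((b : ℕ) : WithBot ℕ∞) = (((b : ℕ) : ℕ∞) : WithBot ℕ∞) := rfl
    rw [h4, WithBot.coe_le_coe, top_le_iff] at h3
    exact ENat.natCast_ne_top b h3
  · intro hd
    rw [← hmem]
    intro hsub
    apply hd
    haveI := hsub
    exact Groth.Agent.Lib.Helper28.depth_eq_top_of_subsingleton

include hF in
theorem isLocallyConstructible_support : IsLocallyConstructible (CohB1.support F) := by
  have h := isLocallyConstructible_geomRho (𝟙 X) F hF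
    (fun r => r ≠ (((⊤ : ℕ∞) : ℕ∞) : WithBot ℕ∞))
  convert h using 1
  ext x
  exact mem_support_iff_geomRho_ne_top (𝟙 X) F hF x

include hF in
theorem isLocallyConstructible_hasGen_support (n : ℕ) :
    IsLocallyConstructible {x : X | HasGen f (CohB1.support F) x n} :=
  isLocallyConstructible_hasGen f _ (isClosed_support F hF)
    (isLocallyConstructible_support F hF) n

include hF in
theorem isLocallyConstructible_Lset (m : ℕ) : IsLocallyConstructible (Lset f F m) :=
  (isLocallyConstructible_Kset f F hF m).inter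
    (isLocallyConstructible_hasGen_support f F hF (m + 1))

include hF in
theorem isLocallyConstructible_Oset (n : ℕ) : IsLocallyConstructible (Oset f F n) :=
  (isLocallyConstructible_geomRho f F hF (fun r => ((n : ℕ) : WithBot ℕ∞) ≤ r)).inter
    (isLocallyConstructible_compl (isLocallyConstructible_hasGen_support f F hF (n + 1)))

/-! ### Dimensions of the associated points -/

include hF in
/-- `m` is the dimension of an associated point of `F_y` iff `y ∈ D_m(K_m)`. -/
theorem mem_dimImage_Kset_iff (y : Y) (m : ℕ) :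
    y ∈ DimImage f (Kset f F m) m ↔
      ∃ w ∈ AssSch.Ass (fibMod f F y),
        topologicalKrullDim ↥(closure ({w} : Set ↥(f.fiber y))) = (m : WithBot ℕ∞) := by
  rw [dimImage_eq_image_hasGen]
  constructor
  · rintro ⟨x, hx, rfl⟩
    have hx' : HasGen f (Kset f F m) x m := hx
    rw [← f.fiberι_asFiber x, hasGen_Kset_iff f F hF] at hx'
    obtain ⟨w, hw, -, hd⟩ := hx'
    exact ⟨w, hw, hd⟩
  · rintro ⟨w, hw, hd⟩
    refine ⟨(f.fiberι y).base w, ?_, base_fiberι f y w⟩
    change HasGen f (Kset f F m) ((f.fiberι y).base w) m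
    rw [hasGen_Kset_iff f F hF]
    exact ⟨w, hw, subset_closure rfl, hd⟩

include hF in
theorem exists_of_mem_dimImage (K : Set X) (m : ℕ) (y : Y) (hy : y ∈ DimImage f K m) :
    ∃ x : X, f.base x = y ∧ (m : WithBot ℕ∞) ≤ FlatMor.fibreDimAt f x := by
  obtain ⟨x, -, h1, h2⟩ := hy
  refine ⟨x, h1, ?_⟩
  calc (m : WithBot ℕ∞) ≤ (ptTrdeg f x : WithBot ℕ∞) := by exact_mod_cast h2
    _ ≤ FlatMor.fibreDimAt f x := ptTrdeg_le_fibreDimAt f x

include hF in
/-- **EGA IV 9.8.3-like**: the set of dimensions of the associated points of the fibre modules is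
a locally constructible function on the base. -/
theorem isLocallyConstructible_assDims_eq [QuasiCompact f] [QuasiSeparated f] (Φ : Finset ℕ) :
    IsLocallyConstructible {s : Y |
      (fun z : ↥(f.fiber s) => topologicalKrullDim ↥(closure ({z} : Set ↥(f.fiber s)))) ''
          AssSch.Ass ((Scheme.Modules.pullback (f.fiberι s)).obj F) =
        (fun n : ℕ => (n : WithBot ℕ∞)) '' (Φ : Set ℕ)} := by
  have h := isLocallyConstructible_setOf_forall_iff f (fun m => DimImage f (Kset f F m) m)
    (fun m => isLocallyConstructible_dimImage f _ (isLocallyConstructible_Kset f F hF m) m)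
    (fun m y hy => exists_of_mem_dimImage f F hF _ m y hy) Φ
  convert h using 1
  ext s
  simp only [Set.mem_ofPred_eq]
  rw [image_cast_eq_iff]
  · refine forall_congr' fun m => ?_
    refine iff_congr ?_ Iff.rfl
    rw [mem_dimImage_Kset_iff f F hF s m]
    constructor
    · rintro ⟨w, hw, hd⟩
      exact ⟨w, hw, hd⟩
    · rintro ⟨w, hw, hd⟩
      exact ⟨w, hw, hd⟩
  · rintro _ ⟨w, -, rfl⟩
    exact ⟨fdl f s w, dim_closure_eq_fdl f s w⟩

/-! ### Dimensions of the components of the support -/

include hF in
theorem exists_component_support_iff (y : Y) (n : ℕ) :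
    (∃ Z ∈ irreducibleComponents ↥(CohB1.support (fibMod f F y)),
      topologicalKrullDim ↥Z = (n : WithBot ℕ∞)) ↔
      y ∈ f.base '' (CohB1.support F ∩ Oset f F n) := by
  rw [← exists_isMaxPt_iff f F hF y n]
  rw [exists_irreducibleComponent_iff (CohB1.support (fibMod f F y))
    (isClosed_support_fibMod f F hF y) (fun d => d = (n : WithBot ℕ∞))]
  constructor
  · rintro ⟨w, hw, hmax, hd⟩
    rw [dim_closure_eq_fdl] at hd
    exact ⟨w, hw, hmax, by exact_mod_cast hd⟩
  · rintro ⟨w, hw, hmax, hd⟩
    refine ⟨w, hw, hmax, ?_⟩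
    rw [dim_closure_eq_fdl, hd]

include hF in
/-- **EGA IV 9.8.3-like**: the set of dimensions of the irreducible components of the supports of
the fibre modules is a locally constructible function on the base. -/
theorem isLocallyConstructible_componentDims_eq [QuasiCompact f] (Φ : Finset ℕ) :
    IsLocallyConstructible {s : Y |
      (fun Z : Set ↥(CohB1.support ((Scheme.Modules.pullback (f.fiberι s)).obj F)) =>
          topologicalKrullDim ↥Z) ''
          irreducibleComponents ↥(CohB1.support ((Scheme.Modules.pullback (f.fiberι s)).obj F)) =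
        (fun n : ℕ => (n : WithBot ℕ∞)) '' (Φ : Set ℕ)} := by
  have h := isLocallyConstructible_setOf_forall_iff f
    (fun n => f.base '' (CohB1.support F ∩ Oset f F n))
    (fun n => f.isLocallyConstructible_image
      ((isLocallyConstructible_support F hF).inter (isLocallyConstructible_Oset f F hF n)))
    (fun n y hy => by
      obtain ⟨w, -, -, hd⟩ := (exists_isMaxPt_iff f F hF y n).mpr hy
      refine ⟨(f.fiberι y).base w, base_fiberι f y w, ?_⟩
      have h1 := ptTrdeg_le_fibreDimAt f ((f.fiberι y).base w)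
      have h2 : ptTrdeg f ((f.fiberι y).base w) = n := hd
      rw [h2] at h1
      exact h1) Φ
  convert h using 1
  ext s
  simp only [Set.mem_ofPred_eq]
  rw [image_cast_eq_iff]
  · refine forall_congr' fun n => ?_
    refine iff_congr ?_ Iff.rfl
    rw [← exists_component_support_iff f F hF s n]
    constructor
    · rintro ⟨Z, hZ, hd⟩
      exact ⟨Z, hZ, hd⟩
    · rintro ⟨Z, hZ, hd⟩
      exact ⟨Z, hZ, hd⟩
  · rintro _ ⟨Z, hZ, rfl⟩
    obtain ⟨D, hD⟩ : ∃ D, topologicalKrullDim ↥Z = D := ⟨_, rfl⟩
    have h5 : ∃ Z' ∈ irreducibleComponents ↥(CohB1.support (fibMod f F s)),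
        (fun d => d = D) (topologicalKrullDim ↥Z') := ⟨Z, hZ, hD⟩
    obtain ⟨w, hw, hmax, hd⟩ := (exists_irreducibleComponent_iff (CohB1.support (fibMod f F s))
      (isClosed_support_fibMod f F hF s) (fun d => d = D)).mp h5
    refine ⟨fdl f s w, ?_⟩
    change topologicalKrullDim ↥Z = _
    rw [hD, ← dim_closure_eq_fdl f s w]
    exact hd.symm

/-! ### Embedded associated points -/

include hF in
theorem noEmbedded_iff (y : Y) :
    AssSch.NoEmbedded (fibMod f F y) ↔ ∀ m : ℕ, y ∉ DimImage f (Lset f F m) m := by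
  constructor
  · rintro hy m hyD
    rw [dimImage_eq_image_hasGen] at hyD
    obtain ⟨x, hxE, rfl⟩ := hyD
    obtain ⟨w, hw, -, -, w', hw', hww', hne⟩ := (mem_Eset_iff f F hF x m).mp hxE
    exact hne (hy w hw w' hw' (specializes_iff_mem_closure.mpr hww')).symm
  · intro hy w hw w' hw' hsp
    by_contra hne
    refine hy (fdl f y w) ?_
    rw [dimImage_eq_image_hasGen]
    exact ⟨_, fiberι_mem_Eset f F hF y w w' hw hw' hsp (fun h => hne h.symm), base_fiberι f y w⟩

include hF in
/-- **EGA IV 9.8.x-like**: the set of points of the base whose fibre module has no embedded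
associated points is locally constructible. -/
theorem isLocallyConstructible_noEmbedded [QuasiCompact f] [QuasiSeparated f] :
    IsLocallyConstructible
      {s : Y | AssSch.NoEmbedded ((Scheme.Modules.pullback (f.fiberι s)).obj F)} := by
  have h := isLocallyConstructible_forall_notMem_base f (fun m => DimImage f (Lset f F m) m)
    (fun m => isLocallyConstructible_dimImage f _ (isLocallyConstructible_Lset f F hF m) m)
    (fun m y hy => exists_of_mem_dimImage f F hF _ m y hy) Set.univ
  convert h using 1
  ext s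
  change AssSch.NoEmbedded (fibMod f F s) ↔ _
  rw [noEmbedded_iff f F hF s]
  simp

/-! ### The relative assassin -/

include hF in
theorem mem_relAss_iff_mem_Kset (x : X) :
    x ∈ MoreMor.relAss f F ↔ x ∈ Kset f F (ptTrdeg f x) := by
  haveI : F.IsQuasicoherent := Groth.Agent.Helper18Strict.isQCoh_of_isFP _ hF
  haveI := isLocallyNoetherian_fiber f (f.base x)
  have h1 := Groth.Agent.S9780.mem_relAss_iff f F (f.base x) (f.asFiber x)
  rw [f.fiberι_asFiber x] at h1
  have h2 := mem_ass_iff_depth_eq_zero (fibMod f F (f.base x)) (isCoh_fibMod f F hF (f.base x))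
    (f.asFiber x)
  have h3 : x ∈ MoreMor.relAss f F ↔
      LocCoh.depth ((f.fiber (f.base x)).presheaf.stalk (f.asFiber x))
        ((fibMod f F (f.base x)).presheaf.stalk (f.asFiber x)) = 0 := h1.trans h2
  rw [h3]
  unfold Kset
  rw [Set.mem_ofPred_eq, geomRho_eq, fdl_asFiber]
  have h4 := rho_arith (LocCoh.depth ((f.fiber (f.base x)).presheaf.stalk (f.asFiber x))
        ((fibMod f F (f.base x)).presheaf.stalk (f.asFiber x))) (ptTrdeg f x) (ptTrdeg f x)
  constructor
  · intro hd
    exact (h4.mpr ⟨hd, rfl⟩).1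
  · intro hK
    exact (h4.mp ⟨hK, le_rfl⟩).1

include hF in
theorem forall_relAss_iff (U : Set X) (y : Y) :
    (∀ x ∈ MoreMor.relAss f F, f.base x = y → x ∈ U) ↔
      ∀ m : ℕ, y ∉ DimImage f (Kset f F m \ U) m := by
  constructor
  · rintro h m ⟨x, ⟨hxK, hxU⟩, hfx, hm⟩
    apply hxU
    refine h x ?_ hfx
    rw [mem_relAss_iff_mem_Kset f F hF x]
    have hxK' := hxK
    unfold Kset at hxK'
    rw [Set.mem_ofPred_eq, geomRho_eq, fdl_asFiber] at hxK'
    have h4 := (rho_arith _ _ _).mp ⟨hxK', hm⟩
    rw [h4.2]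
    exact hxK
  · intro h x hx hfx
    by_contra hxU
    rw [mem_relAss_iff_mem_Kset f F hF x] at hx
    exact h (ptTrdeg f x) ⟨x, ⟨hx, hxU⟩, hfx, le_rfl⟩

include hF in
/-- **Constructibility of the locus where the relative assassin lies in a retrocompact open.** -/
theorem isLocallyConstructible_relAss_subset [QuasiCompact f] [QuasiSeparated f] (U : X.Opens)
    [QuasiCompact (U.ι ≫ f)] :
    IsLocallyConstructible {y : Y | ∀ x ∈ MoreMor.relAss f F, f.base x = y → x ∈ U} := by
  haveI : QuasiCompact U.ι := QuasiCompact.of_comp U.ι f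
  have hUr : IsRetrocompact (U : Set X) := by
    have h0 : QuasiCompact U.ι := inferInstance
    have h1 := quasiCompact_iff_isSpectralMap.mp h0
    exact IsRetrocompact_iff_isSpectralMap_subtypeVal.mpr h1
  have hUc : IsLocallyConstructible (U : Set X) := hUr.isLocallyConstructible U.2
  have h := isLocallyConstructible_forall_notMem_base f
    (fun m => DimImage f (Kset f F m \ (U : Set X)) m)
    (fun m => isLocallyConstructible_dimImage f _
      (isLocallyConstructible_sdiff (isLocallyConstructible_Kset f F hF m) hUc) m)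
    (fun m y hy => exists_of_mem_dimImage f F hF _ m y hy) Set.univ
  convert h using 1
  ext y
  rw [Set.mem_ofPred_eq]
  refine (forall_relAss_iff f F hF (U : Set X) y).trans ?_
  simp

end Module

end Groth.Agent.Lib.Helper14.ConsGenD
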