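import Mathlib
import Groth.Agent.Lib.Helper14ConsGenD
import Groth.Agent.Lib.Helper3DimCons
import Groth.Agent.S1576

/-!
# Associated points of the fibres near a point of the base (helper14)

EGA IV 9.8.3-like: for `f : X ⟶ Y` of finite presentation, `F` of finite presentation and a point
`η` of `Y` such that `F_η` has finitely many associated points with locally constructible closures
in `X`, the set of points `s` of `Y` such that the associated points of `F_s` are exactly the maximal
points of the traces on `X_s` of the closures of the associated points of `F_η` (with the expected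
incidence properties) is locally constructible and contains `η`.
-/

set_option autoImplicit false
set_option linter.unusedVariables false
set_option linter.unusedSectionVars false
set_option linter.style.haveILetI false
set_option maxHeartbeats 400000

universe u

open CategoryTheory Limits AlgebraicGeometry TopologicalSpace Topology
open scoped Set.Notation

namespace Groth.Agent.Lib.Helper14.AssGenA

open Groth.Agent.Lib.Helper4.DimFormula Groth.Agent.Lib.Helper4.VarDim
  Groth.Agent.Lib.Helper4.FibDim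
open Groth.Agent.Lib.Helper14.FibAssA Groth.Agent.Lib.Helper14.FibAssB
  Groth.Agent.Lib.Helper14.FibAssC Groth.Agent.Lib.Helper14.FibAssD
  Groth.Agent.Lib.Helper14.FibAssE Groth.Agent.Lib.Helper14.FibAssF
  Groth.Agent.Lib.Helper14.FibAssG Groth.Agent.Lib.Helper14.FibRhoH
  Groth.Agent.Lib.Helper14.FibDepthAlongA Groth.Agent.Lib.Helper14.FibDepthAlongB
  Groth.Agent.Lib.Helper14.ConsGenA Groth.Agent.Lib.Helper14.ConsGenB
  Groth.Agent.Lib.Helper14.ConsGenC Groth.Agent.Lib.Helper14.ConsGenD

variable {X Y : Scheme.{u}} (f : X ⟶ Y)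

section Top

variable [LocallyOfFiniteType f]

/-- `x` is a maximal point of the trace of `K` on the fibre through `x`. -/
def MaxIn (K : Set X) (x : X) : Prop :=
  x ∈ K ∧ ∀ x' ∈ K, f.base x' = f.base x → x' ⤳ x → x' = x

theorem ptTrdeg_lt_of_specializes (x x' : X) (h : x' ⤳ x) (hf : f.base x' = f.base x)
    (hne : x' ≠ x) : ptTrdeg f x < ptTrdeg f x' := by
  have hr : x ∈ Set.range (f.fiberι (f.base x)).base := by
    rw [f.range_fiberι]
    rfl
  have hr' : x' ∈ Set.range (f.fiberι (f.base x)).base := by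
    rw [f.range_fiberι]
    exact hf
  obtain ⟨z, hz⟩ := hr
  obtain ⟨z', hz'⟩ := hr'
  have hsp : z' ⤳ z := by
    apply (f.fiberι (f.base x)).isEmbedding.isInducing.specializes_iff.mp
    rw [hz, hz']
    exact h
  have hne' : z' ≠ z := by
    rintro rfl
    exact hne (hz'.symm.trans hz)
  have h1 := fdl_lt_of_specializes f (f.base x) z z' hsp hne'
  unfold fdl at h1
  rw [hz, hz'] at h1
  exact h1

theorem maxIn_iff (K : Set X) (x : X) (m : ℕ) :
    (MaxIn f K x ∧ ptTrdeg f x = m) ↔
      (x ∈ K ∧ ¬ HasGen f K x (m + 1) ∧ m ≤ ptTrdeg f x) := by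
  constructor
  · rintro ⟨⟨hxK, hmax⟩, hm⟩
    refine ⟨hxK, ?_, hm.ge⟩
    rintro ⟨x', hx'K, h1, h2, h3⟩
    have := hmax x' hx'K h1 h2
    rw [this] at h3
    omega
  · rintro ⟨hxK, hng, hm⟩
    have hm' : ptTrdeg f x = m := by
      by_contra hne
      apply hng
      exact ⟨x, hxK, rfl, specializes_rfl, by omega⟩
    refine ⟨⟨hxK, ?_⟩, hm'⟩
    intro x' hx'K h1 h2
    by_contra hne
    have h3 := ptTrdeg_lt_of_specializes f x x' h2 h1 hne
    apply hng
    exact ⟨x', hx'K, h1, h2, by omega⟩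

theorem exists_maxIn_generization (K : Set X) (x : X) (hx : x ∈ K) :
    ∃ x' ∈ K, f.base x' = f.base x ∧ x' ⤳ x ∧ MaxIn f K x' := by
  classical
  obtain ⟨N, hN⟩ := exists_nat_fibreDimAt_le f x
  have hbd : ∀ n, HasGen f K x n → n ≤ N := by
    intro n hn
    have h1 := (HasGen.le_fibreDimAt f hn).trans hN
    exact_mod_cast h1
  have h0 : HasGen f K x 0 := ⟨x, hx, rfl, specializes_rfl, Nat.zero_le _⟩
  set n₀ := Nat.findGreatest (fun n => HasGen f K x n) N with hn₀
  have hn₀P : HasGen f K x n₀ := Nat.findGreatest_spec (P := fun n => HasGen f K x n)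
    (Nat.zero_le N) h0
  have hn₀max : ∀ n, HasGen f K x n → n ≤ n₀ := fun n hn =>
    Nat.le_findGreatest (hbd n hn) hn
  obtain ⟨x', hx'K, h1, h2, h3⟩ := hn₀P
  refine ⟨x', hx'K, h1, h2, hx'K, ?_⟩
  intro x'' hx''K h4 h5
  by_contra hne
  have h6 := ptTrdeg_lt_of_specializes f x' x'' h5 h4 hne
  have h7 := hn₀max (ptTrdeg f x'') ⟨x'', hx''K, h4.trans h1, h5.trans h2, le_rfl⟩
  omega

/-- the maximal points of the trace of `K` on the fibre over `s`, as a subset of the fibre. -/
def Mset (s : Y) (K : Set X) : Set ↥(f.fiber s) :=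
  {z | z ∈ (f.fiberι s).base ⁻¹' K ∧ ∀ z' ∈ (f.fiberι s).base ⁻¹' K, z' ⤳ z → z' = z}

theorem mem_Mset_iff (s : Y) (K : Set X) (z : ↥(f.fiber s)) :
    z ∈ Mset f s K ↔ MaxIn f K ((f.fiberι s).base z) := by
  constructor
  · rintro ⟨hzK, hmax⟩
    refine ⟨hzK, ?_⟩
    intro x' hx'K h1 h2
    have hr' : x' ∈ Set.range (f.fiberι s).base := by
      rw [f.range_fiberι]
      exact h1.trans (base_fiberι f s z)
    obtain ⟨z', rfl⟩ := hr'
    have hsp : z' ⤳ z := (f.fiberι s).isEmbedding.isInducing.specializes_iff.mp h2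
    rw [hmax z' hx'K hsp]
  · rintro ⟨hzK, hmax⟩
    refine ⟨hzK, ?_⟩
    intro z' hz'K hsp
    have h1 := hmax _ hz'K ((base_fiberι f s z').trans (base_fiberι f s z).symm)
      (hsp.map (f.fiberι s).continuous)
    exact (f.fiberι s).isEmbedding.injective h1

/-- on the fibre over `η`, the closure of a point `w` of that fibre has `w` as its only maximal
point. -/
theorem maxIn_closure_iff (η : Y) (w z : ↥(f.fiber η)) :
    MaxIn f (closure {(f.fiberι η).base w}) ((f.fiberι η).base z) ↔ z = w := by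
  constructor
  · rintro ⟨hzK, hmax⟩
    have h1 : (f.fiberι η).base w ⤳ (f.fiberι η).base z := specializes_iff_mem_closure.mpr hzK
    have h2 := hmax _ (subset_closure rfl)
      ((base_fiberι f η w).trans (base_fiberι f η z).symm) h1
    exact ((f.fiberι η).isEmbedding.injective h2).symm
  · rintro rfl
    refine ⟨subset_closure rfl, ?_⟩
    intro x' hx'K _ h2
    have h3 : (f.fiberι η).base z ⤳ x' := specializes_iff_mem_closure.mpr hx'K
    exact (h2.antisymm h3).eq

theorem mem_closure_fiberι_iff (η : Y) (w z : ↥(f.fiber η)) :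
    (f.fiberι η).base z ∈ closure {(f.fiberι η).base w} ↔ w ⤳ z := by
  rw [← specializes_iff_mem_closure]
  exact (f.fiberι η).isEmbedding.isInducing.specializes_iff

end Top

section Module

variable [LocallyOfFinitePresentation f] (F : X.Modules) (hF : CohB1.IsFP F)

/-- the points of `K` which are not in the closure (in their fibre) of a point of `K` of
transcendence degree `> m`. -/
def Wset (K : Set X) (m : ℕ) : Set X := K \ {x | HasGen f K x (m + 1)}

theorem isLocallyConstructible_Wset (K : Set X) (hK : IsClosed K)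
    (hKc : IsLocallyConstructible K) (m : ℕ) : IsLocallyConstructible (Wset f K m) :=
  isLocallyConstructible_sdiff hKc (isLocallyConstructible_hasGen f K hK hKc (m + 1))

theorem mem_Wset_iff (K : Set X) (x : X) (m : ℕ) (hm : m ≤ ptTrdeg f x) :
    x ∈ Wset f K m ↔ MaxIn f K x ∧ ptTrdeg f x = m := by
  rw [maxIn_iff]
  unfold Wset
  constructor
  · rintro ⟨h1, h2⟩
    exact ⟨h1, h2, hm⟩
  · rintro ⟨h1, h2, -⟩
    exact ⟨h1, h2⟩

include hF in
theorem mem_Kset_iff_relAss (x : X) (m : ℕ) (hm : m ≤ ptTrdeg f x) :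
    x ∈ Kset f F m ↔ x ∈ MoreMor.relAss f F ∧ ptTrdeg f x = m := by
  rw [mem_relAss_iff_mem_Kset f F hF x]
  constructor
  · intro hxK
    have hxK' := hxK
    unfold Kset at hxK'
    rw [Set.mem_ofPred_eq, geomRho_eq, fdl_asFiber] at hxK'
    have h4 := (rho_arith _ _ _).mp ⟨hxK', hm⟩
    refine ⟨?_, h4.2⟩
    rw [h4.2]
    exact hxK
  · rintro ⟨h1, h2⟩
    rw [← h2]
    exact h1

include hF in
theorem mem_ass_fibMod_iff (s : Y) (z : ↥(f.fiber s)) :
    z ∈ AssSch.Ass (fibMod f F s) ↔ (f.fiberι s).base z ∈ MoreMor.relAss f F := by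
  haveI : F.IsQuasicoherent := Groth.Agent.Helper18Strict.isQCoh_of_isFP _ hF
  exact (Groth.Agent.S9780.mem_relAss_iff f F s z).symm

variable (η : Y)

/-- the closure in `X` of a point of the fibre over `η`. -/
def Zc (w : ↥(f.fiber η)) : Set X := closure {(f.fiberι η).base w}

theorem isClosed_Zc (w : ↥(f.fiber η)) : IsClosed (Zc f η w) := isClosed_closure

def Uset (m : ℕ) : Set X := ⋃ w ∈ AssSch.Ass (fibMod f F η), Wset f (Zc f η w) m

def P3 : Set (↥(f.fiber η) × ↥(f.fiber η)) :=
  {p | p.1 ∈ AssSch.Ass (fibMod f F η) ∧ p.2 ∈ AssSch.Ass (fibMod f F η) ∧ p.1 ≠ p.2}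

def P4 : Set (↥(f.fiber η) × ↥(f.fiber η)) :=
  {p | p.1 ∈ AssSch.Ass (fibMod f F η) ∧ p.2 ∈ AssSch.Ass (fibMod f F η) ∧ p.2 ≠ p.1 ∧
    ∀ y ∈ AssSch.Ass (fibMod f F η), y ⤳ p.1 → y = p.1}

/-- the points of `X` of transcendence degree `≥ m` in this set witness a failure of the expected
description of the associated points of their fibre. -/
def Bad (m : ℕ) : Set X :=
  (Kset f F m \ Uset f F η m) ∪ (Uset f F η m \ Kset f F m) ∪
    (⋃ p ∈ P3 f F η, Wset f (Zc f η p.1) m ∩ Wset f (Zc f η p.2) m) ∪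
    (⋃ p ∈ P4 f F η, Wset f (Zc f η p.1) m ∩ Zc f η p.2)

include hF in
theorem isLocallyConstructible_Bad (hI : (AssSch.Ass (fibMod f F η)).Finite)
    (hZ : ∀ w ∈ AssSch.Ass (fibMod f F η), IsLocallyConstructible (Zc f η w)) (m : ℕ) :
    IsLocallyConstructible (Bad f F η m) := by
  have hW : ∀ w ∈ AssSch.Ass (fibMod f F η), IsLocallyConstructible (Wset f (Zc f η w) m) :=
    fun w hw => isLocallyConstructible_Wset f _ (isClosed_Zc f η w) (hZ w hw) m
  have hU : IsLocallyConstructible (Uset f F η m) := IsLocallyConstructible.biUnion hI hW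
  have hK := isLocallyConstructible_Kset f F hF m
  have hP3 : (P3 f F η).Finite := (hI.prod hI).subset fun p hp => ⟨hp.1, hp.2.1⟩
  have hP4 : (P4 f F η).Finite := (hI.prod hI).subset fun p hp => ⟨hp.1, hp.2.1⟩
  refine ((((isLocallyConstructible_sdiff hK hU).union (isLocallyConstructible_sdiff hU hK)).union
    ?_).union ?_)
  · exact IsLocallyConstructible.biUnion hP3 fun p hp => (hW p.1 hp.1).inter (hW p.2 hp.2.1)
  · exact IsLocallyConstructible.biUnion hP4 fun p hp => (hW p.1 hp.1).inter (hZ p.2 hp.2.1)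

include hF in
/-- the generic point is good. -/
theorem eta_notMem_dimImage_Bad (m : ℕ) : η ∉ DimImage f (Bad f F η m) m := by
  rintro ⟨x, hxB, hfx, hm⟩
  have hr : x ∈ Set.range (f.fiberι η).base := by
    rw [f.range_fiberι]
    exact hfx
  obtain ⟨z, rfl⟩ := hr
  have hzI_of : (f.fiberι η).base z ∈ MoreMor.relAss f F → z ∈ AssSch.Ass (fibMod f F η) :=
    (mem_ass_fibMod_iff f F hF η z).mpr
  have hW_of : ∀ w, (f.fiberι η).base z ∈ Wset f (Zc f η w) m → z = w ∧
      ptTrdeg f ((f.fiberι η).base z) = m := by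
    intro w hw
    obtain ⟨h1, h2⟩ := (mem_Wset_iff f _ _ m hm).mp hw
    exact ⟨(maxIn_closure_iff f η w z).mp h1, h2⟩
  rcases hxB with ((h | h) | h) | h
  · obtain ⟨hK, hU⟩ := h
    obtain ⟨hrel, htr⟩ := (mem_Kset_iff_relAss f F hF _ m hm).mp hK
    apply hU
    refine Set.mem_biUnion (hzI_of hrel) ?_
    exact (mem_Wset_iff f _ _ m hm).mpr ⟨(maxIn_closure_iff f η z z).mpr rfl, htr⟩
  · obtain ⟨hU, hK⟩ := h
    obtain ⟨w, hwI, hxW⟩ := Set.mem_iUnion₂.mp hU
    obtain ⟨rfl, htr⟩ := hW_of w hxW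
    apply hK
    exact (mem_Kset_iff_relAss f F hF _ m hm).mpr
      ⟨(mem_ass_fibMod_iff f F hF η z).mp hwI, htr⟩
  · obtain ⟨p, hp, hx1, hx2⟩ := Set.mem_iUnion₂.mp h
    have h1 := (hW_of p.1 hx1).1
    have h2 := (hW_of p.2 hx2).1
    exact hp.2.2 (h1.symm.trans h2)
  · obtain ⟨p, hp, hx1, hx2⟩ := Set.mem_iUnion₂.mp h
    have h1 := (hW_of p.1 hx1).1
    have h2 : p.2 ⤳ z := (mem_closure_fiberι_iff f η p.2 z).mp hx2
    rw [h1] at h2
    exact hp.2.2.1 (hp.2.2.2 p.2 hp.2.1 h2)

include hF in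
/-- the description of the associated points of the fibre over a good point. -/
theorem ass_fibre_of_good (s : Y) (hs : ∀ m : ℕ, s ∉ DimImage f (Bad f F η m) m) :
    (AssSch.Ass (fibMod f F s) =
        ⋃ x ∈ AssSch.Ass (fibMod f F η), Mset f s (closure {(f.fiberι η).base x})) ∧
      (∀ x ∈ AssSch.Ass (fibMod f F η), ∀ x' ∈ AssSch.Ass (fibMod f F η), x ≠ x' →
        Disjoint (Mset f s (closure {(f.fiberι η).base x}))
          (Mset f s (closure {(f.fiberι η).base x'}))) ∧
      (∀ x ∈ AssSch.Ass (fibMod f F η), ∀ z ∈ Mset f s (closure {(f.fiberι η).base x}),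
        ((∀ y ∈ AssSch.Ass (fibMod f F s), y ⤳ z → y = z) ↔
          (∀ y ∈ AssSch.Ass (fibMod f F η), y ⤳ x → y = x))) := by
  have hnb : ∀ z : ↥(f.fiber s), (f.fiberι s).base z ∉ Bad f F η (fdl f s z) := by
    intro z hz
    exact hs _ ⟨_, hz, base_fiberι f s z, le_rfl⟩
  -- basic translations
  have hMW : ∀ (w : ↥(f.fiber η)) (z : ↥(f.fiber s)),
      z ∈ Mset f s (closure {(f.fiberι η).base w}) ↔
        (f.fiberι s).base z ∈ Wset f (Zc f η w) (fdl f s z) := by
    intro w z
    rw [mem_Mset_iff, mem_Wset_iff f (Zc f η w) ((f.fiberι s).base z) (fdl f s z)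
      (show fdl f s z ≤ ptTrdeg f ((f.fiberι s).base z) from le_rfl)]
    exact ⟨fun h => ⟨h, rfl⟩, fun h => h.1⟩
  have hAK : ∀ z : ↥(f.fiber s), z ∈ AssSch.Ass (fibMod f F s) ↔
      (f.fiberι s).base z ∈ Kset f F (fdl f s z) := by
    intro z
    rw [mem_ass_fibMod_iff f F hF s z, mem_Kset_iff_relAss f F hF ((f.fiberι s).base z)
      (fdl f s z) (show fdl f s z ≤ ptTrdeg f ((f.fiberι s).base z) from le_rfl)]
    exact ⟨fun h => ⟨h, rfl⟩, fun h => h.1⟩
  -- (a)
  have ha : AssSch.Ass (fibMod f F s) =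
      ⋃ x ∈ AssSch.Ass (fibMod f F η), Mset f s (closure {(f.fiberι η).base x}) := by
    ext z
    constructor
    · intro hz
      have hK := (hAK z).mp hz
      by_contra hcon
      apply hnb z
      refine Or.inl (Or.inl (Or.inl ⟨hK, ?_⟩))
      intro hU
      obtain ⟨w, hwI, hxW⟩ := Set.mem_iUnion₂.mp hU
      exact hcon (Set.mem_biUnion hwI ((hMW w z).mpr hxW))
    · intro hz
      obtain ⟨w, hwI, hzM⟩ := Set.mem_iUnion₂.mp hz
      have hxW := (hMW w z).mp hzM
      rw [hAK z]
      by_contra hK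
      apply hnb z
      exact Or.inl (Or.inl (Or.inr ⟨Set.mem_biUnion hwI hxW, hK⟩))
  -- (b)
  have hb : ∀ x ∈ AssSch.Ass (fibMod f F η), ∀ x' ∈ AssSch.Ass (fibMod f F η), x ≠ x' →
      Disjoint (Mset f s (closure {(f.fiberι η).base x}))
        (Mset f s (closure {(f.fiberι η).base x'})) := by
    intro w hw w' hw' hne
    rw [Set.disjoint_left]
    intro z hz hz'
    apply hnb z
    refine Or.inl (Or.inr ?_)
    exact Set.mem_biUnion (show ((w, w') : _ × _) ∈ P3 f F η from ⟨hw, hw', hne⟩)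
      ⟨(hMW w z).mp hz, (hMW w' z).mp hz'⟩
  refine ⟨ha, hb, ?_⟩
  -- (c)
  intro w hw z hz
  constructor
  · intro hzmax w' hw' hw'w
    by_contra hne
    have hxw : (f.fiberι η).base w ∈ Zc f η w' := (mem_closure_fiberι_iff f η w' w).mpr hw'w
    have hsub : Zc f η w ⊆ Zc f η w' :=
      (isClosed_Zc f η w').closure_subset_iff.mpr (Set.singleton_subset_iff.mpr hxw)
    have hzZ : (f.fiberι s).base z ∈ Zc f η w' := hsub hz.1
    obtain ⟨x', hx'K, h1, h2, h3⟩ := exists_maxIn_generization f (Zc f η w') _ hzZ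
    have hr' : x' ∈ Set.range (f.fiberι s).base := by
      rw [f.range_fiberι]
      exact h1.trans (base_fiberι f s z)
    obtain ⟨y, rfl⟩ := hr'
    have hyz : y ⤳ z := (f.fiberι s).isEmbedding.isInducing.specializes_iff.mp h2
    have hyM : y ∈ Mset f s (closure {(f.fiberι η).base w'}) := (mem_Mset_iff f s _ y).mpr h3
    have hyA : y ∈ AssSch.Ass (fibMod f F s) := by
      rw [ha]
      exact Set.mem_biUnion hw' hyM
    have hyz' : y = z := hzmax y hyA hyz
    rw [hyz'] at hyM
    exact (Set.disjoint_left.mp (hb w hw w' hw' (fun h => hne h.symm))) hz hyM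
  · intro hwmax y hy hyz
    rw [ha] at hy
    obtain ⟨w', hw'I, hyM⟩ := Set.mem_iUnion₂.mp hy
    by_cases hww' : w' = w
    · subst hww'
      exact hz.2 y hyM.1 hyz
    · exfalso
      apply hnb z
      refine Or.inr ?_
      refine Set.mem_biUnion (show ((w, w') : _ × _) ∈ P4 f F η from ⟨hw, hw'I, hww', hwmax⟩) ?_
      refine ⟨(hMW w z).mp hz, ?_⟩
      have h1 : (f.fiberι s).base y ∈ Zc f η w' := hyM.1
      exact (hyz.map (f.fiberι s).continuous).mem_closed (isClosed_Zc f η w') h1

include hF in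
/-- **EGA IV 9.8.3-like**, constructible form. -/
theorem exists_isLocallyConstructible_good [QuasiCompact f] [QuasiSeparated f]
    (hI : (AssSch.Ass (fibMod f F η)).Finite)
    (hZ : ∀ w ∈ AssSch.Ass (fibMod f F η),
      IsLocallyConstructible (closure {(f.fiberι η).base w})) :
    ∃ E : Set Y, IsLocallyConstructible E ∧ η ∈ E ∧ ∀ s ∈ E,
      (AssSch.Ass (fibMod f F s) =
        ⋃ x ∈ AssSch.Ass (fibMod f F η), Mset f s (closure {(f.fiberι η).base x})) ∧
      (∀ x ∈ AssSch.Ass (fibMod f F η), ∀ x' ∈ AssSch.Ass (fibMod f F η), x ≠ x' →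
        Disjoint (Mset f s (closure {(f.fiberι η).base x}))
          (Mset f s (closure {(f.fiberι η).base x'}))) ∧
      (∀ x ∈ AssSch.Ass (fibMod f F η), ∀ z ∈ Mset f s (closure {(f.fiberι η).base x}),
        ((∀ y ∈ AssSch.Ass (fibMod f F s), y ⤳ z → y = z) ↔
          (∀ y ∈ AssSch.Ass (fibMod f F η), y ⤳ x → y = x))) := by
  refine ⟨{s : Y | ∀ m ∈ (Set.univ : Set ℕ), s ∉ DimImage f (Bad f F η m) m}, ?_, ?_, ?_⟩
  · exact isLocallyConstructible_forall_notMem_base f (fun m => DimImage f (Bad f F η m) m)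
      (fun m => isLocallyConstructible_dimImage f _
        (isLocallyConstructible_Bad f F hF η hI hZ m) m)
      (fun m y hy => exists_of_mem_dimImage f F hF _ m y hy) Set.univ
  · intro m _
    exact eta_notMem_dimImage_Bad f F hF η m
  · intro s hs
    exact ass_fibre_of_good f F hF η s (fun m => hs m trivial)

end Module

section Noeth

theorem isLocallyConstructible_of_isClosed_noetherianSpace {α : Type*} [TopologicalSpace α]
    [NoetherianSpace α] {K : Set α} (hK : IsClosed K) : IsLocallyConstructible K := by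
  have h1 : IsRetrocompact Kᶜ := fun _ _ _ => NoetherianSpace.isCompact _
  have h2 : IsConstructible Kᶜ := h1.isConstructible hK.isOpen_compl
  exact h2.of_compl.isLocallyConstructible

/-- **EGA IV 9.8.3** over an integral Noetherian base. -/
theorem exists_opens_genericPoint {X S : Scheme.{u}} [IsIntegral S] [IsNoetherian S]
    (f : X ⟶ S) [LocallyOfFiniteType f] [QuasiCompact f] (F : X.Modules) (hF : CohB1.IsFP F) :
    ∃ U : S.Opens, genericPoint S ∈ U ∧ ∀ s ∈ U,
      (AssSch.Ass ((Scheme.Modules.pullback (f.fiberι s)).obj F) =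
        ⋃ x ∈ AssSch.Ass ((Scheme.Modules.pullback (f.fiberι (genericPoint S))).obj F),
          Mset f s (closure {(f.fiberι (genericPoint S)).base x})) ∧
      (∀ x ∈ AssSch.Ass ((Scheme.Modules.pullback (f.fiberι (genericPoint S))).obj F),
        ∀ x' ∈ AssSch.Ass ((Scheme.Modules.pullback (f.fiberι (genericPoint S))).obj F), x ≠ x' →
        Disjoint (Mset f s (closure {(f.fiberι (genericPoint S)).base x}))
          (Mset f s (closure {(f.fiberι (genericPoint S)).base x'}))) ∧
      (∀ x ∈ AssSch.Ass ((Scheme.Modules.pullback (f.fiberι (genericPoint S))).obj F),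
        ∀ z ∈ Mset f s (closure {(f.fiberι (genericPoint S)).base x}),
        ((∀ y ∈ AssSch.Ass ((Scheme.Modules.pullback (f.fiberι s)).obj F), y ⤳ z → y = z) ↔
          (∀ y ∈ AssSch.Ass ((Scheme.Modules.pullback (f.fiberι (genericPoint S))).obj F),
            y ⤳ x → y = x))) := by
  haveI : LocallyOfFinitePresentation f := inferInstance
  haveI : IsLocallyNoetherian X := LocallyOfFiniteType.isLocallyNoetherian f
  haveI : QuasiSeparated f := by
    haveI : QuasiSeparated (f ≫ Limits.terminal.from S) := by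
      rw [Limits.terminal.comp_from]
      exact (quasiSeparatedSpace_iff_quasiSeparated X).mp inferInstance
    exact QuasiSeparated.of_comp f (Limits.terminal.from S)
  haveI : CompactSpace X := QuasiCompact.compactSpace_of_compactSpace f
  haveI : IsNoetherian X := {}
  haveI : NoetherianSpace X := inferInstance
  set η := genericPoint S with hη
  haveI : IsLocallyNoetherian (f.fiber η) := isLocallyNoetherian_fiber f η
  haveI : CompactSpace ↥(f.fiber η) := by
    change CompactSpace ↥(pullback f (S.fromSpecResidueField η))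
    infer_instance
  have hI : (AssSch.Ass (fibMod f F η)).Finite := by
    have h := Groth.Agent.S1576.result (f.fiber η) (fibMod f F η) (isCoh_fibMod f F hF η) ⊤
      (by simpa using isCompact_univ)
    refine h.subset ?_
    intro x hx
    exact ⟨trivial, hx⟩
  obtain ⟨E, hE, hηE, hgood⟩ := exists_isLocallyConstructible_good f F hF η hI
    (fun w _ => isLocallyConstructible_of_isClosed_noetherianSpace isClosed_closure)
  have hc := hE.isConstructible
  have hint := Groth.Agent.Lib.Helper3.DimCons.genericPoint_mem_interior hc hηE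
  exact ⟨⟨interior E, isOpen_interior⟩, hint, fun s hs => hgood s (interior_subset hs)⟩

end Noeth

end Groth.Agent.Lib.Helper14.AssGenA
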