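import Mathlib.LinearAlgebra.TensorProduct.Tower
import Mathlib.LinearAlgebra.TensorProduct.RightExactness

/-! Helper14: lemmas on `Submodule.baseChange`. -/

namespace Groth.Agent.Lib.Helper14.BC

open TensorProduct

universe u

variable {R : Type u} [CommRing R] (S : Type u) [CommRing S] [Algebra R S]
variable {M : Type u} [AddCommGroup M] [Module R M]

theorem baseChange_eq_span' (p : Submodule R M) :
    p.baseChange S = Submodule.span S ((TensorProduct.mk R S M 1) '' (p : Set M)) := by
  rw [Submodule.baseChange_eq_span]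
  rfl

theorem mk_mem_baseChange {p : Submodule R M} {m : M} (hm : m ∈ p) :
    TensorProduct.mk R S M 1 m ∈ p.baseChange S :=
  Submodule.tmul_mem_baseChange_of_mem 1 hm

theorem baseChange_le_iff (p : Submodule R M) (q : Submodule S (S ⊗[R] M)) :
    p.baseChange S ≤ q ↔ ∀ m ∈ p, TensorProduct.mk R S M 1 m ∈ q := by
  rw [baseChange_eq_span', Submodule.span_le]
  constructor
  · intro h m hm
    exact h ⟨m, hm, rfl⟩
  · rintro h _ ⟨m, hm, rfl⟩
    exact h m hm

theorem baseChange_iSup {η : Sort*} (p : η → Submodule R M) :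
    (⨆ a, p a).baseChange S = ⨆ a, (p a).baseChange S := by
  apply le_antisymm
  · rw [baseChange_le_iff]
    intro m hm
    have hle : (⨆ a, p a) ≤ ((⨆ a, (p a).baseChange S).restrictScalars R).comap
        (TensorProduct.mk R S M 1) := by
      apply iSup_le
      intro a m hm
      show TensorProduct.mk R S M 1 m ∈ ⨆ a, (p a).baseChange S
      exact (le_iSup (fun a => (p a).baseChange S) a) (mk_mem_baseChange S hm)
    exact hle hm
  · apply iSup_le
    intro a
    exact Submodule.baseChange_mono S (le_iSup p a)

theorem baseChange_sup (p q : Submodule R M) :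
    (p ⊔ q).baseChange S = p.baseChange S ⊔ q.baseChange S := by
  apply le_antisymm
  · rw [baseChange_le_iff]
    intro m hm
    have hle : (p ⊔ q) ≤ ((p.baseChange S ⊔ q.baseChange S).restrictScalars R).comap
        (TensorProduct.mk R S M 1) := by
      apply sup_le
      · intro m hm
        exact Submodule.mem_sup_left (mk_mem_baseChange S hm)
      · intro m hm
        exact Submodule.mem_sup_right (mk_mem_baseChange S hm)
    exact hle hm
  · exact sup_le (Submodule.baseChange_mono S le_sup_left) (Submodule.baseChange_mono S le_sup_right)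

theorem map_baseChange {M' : Type u} [AddCommGroup M'] [Module R M'] (f : M →ₗ[R] M')
    (p : Submodule R M) :
    (p.baseChange S).map (f.baseChange S) = (p.map f).baseChange S := by
  rw [baseChange_eq_span', baseChange_eq_span', Submodule.map_span]
  congr 1
  ext x
  constructor
  · rintro ⟨_, ⟨m, hm, rfl⟩, rfl⟩
    exact ⟨f m, ⟨m, hm, rfl⟩, rfl⟩
  · rintro ⟨_, ⟨m, hm, rfl⟩, rfl⟩
    exact ⟨_, ⟨m, hm, rfl⟩, rfl⟩

theorem ker_baseChange_mkQ (N : Submodule R M) :
    LinearMap.ker (N.mkQ.baseChange S) = N.baseChange S := by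
  ext x
  rw [LinearMap.mem_ker]
  have hex := lTensor_exact S (LinearMap.exact_subtype_mkQ N) N.mkQ_surjective
  have := hex x
  constructor
  · intro hx
    obtain ⟨y, hy⟩ := this.mp hx
    exact ⟨y, hy⟩
  · rintro ⟨y, hy⟩
    exact this.mpr ⟨y, hy⟩

end Groth.Agent.Lib.Helper14.BC
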