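import Mathlib

/-!
# Field extensions of bounded degree have finite separable degree (helper14)
-/

set_option autoImplicit false
universe u

namespace Groth.Agent.Lib.Helper14.BddDeg

open IntermediateField in
/-- a separable algebraic extension in which all elements have degree `≤ d` is finite -/
theorem finiteDimensional_of_forall_natDegree_le {k E : Type*} [Field k] [Field E] [Algebra k E]
    [Algebra.IsSeparable k E] (d : ℕ) (h : ∀ x : E, (minpoly k x).natDegree ≤ d) :
    FiniteDimensional k E := by
  classical
  have hr : Module.rank k E ≤ d := by
    apply rank_le
    intro s hs
    set L := IntermediateField.adjoin k (s : Set E) with hL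
    have : Finite ((s : Set E)) := s.finite_toSet.to_subtype
    have : FiniteDimensional k L :=
      IntermediateField.finiteDimensional_adjoin (fun x _ => Algebra.IsIntegral.isIntegral x)
    have : Algebra.IsSeparable k L := Algebra.isSeparable_tower_bot_of_isSeparable k L E
    obtain ⟨α, hα⟩ := Field.exists_primitive_element k L
    have h1 : Module.finrank k L ≤ d := by
      have e1 : Module.finrank k L = Module.finrank k k⟮α⟯ := by
        rw [hα, IntermediateField.finrank_top']
      rw [e1, IntermediateField.adjoin.finrank (Algebra.IsIntegral.isIntegral α),
        IntermediateField.minpoly_eq]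
      exact h _
    let f : s → L := fun i => ⟨i.1, IntermediateField.subset_adjoin k _ i.2⟩
    have hf : LinearIndependent k f := by
      apply LinearIndependent.of_comp L.val.toLinearMap
      exact hs
    have := hf.fintype_card_le_finrank
    rw [Fintype.card_coe] at this
    exact this.trans h1
  rw [FiniteDimensional, ← Module.rank_lt_aleph0_iff]
  exact lt_of_le_of_lt hr Cardinal.natCast_lt_aleph0

/-- an algebraic extension in which all elements have degree `≤ d` has finitely many embeddings
into an algebraic closure -/
theorem finite_emb_of_forall_natDegree_le {k K : Type*} [Field k] [Field K] [Algebra k K]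
    [Algebra.IsAlgebraic k K] (d : ℕ) (h : ∀ x : K, (minpoly k x).natDegree ≤ d) :
    Finite (Field.Emb k K) := by
  set E := separableClosure k K with hE
  have : Algebra.IsSeparable k E := separableClosure.isSeparable k K
  have : FiniteDimensional k E := by
    apply finiteDimensional_of_forall_natDegree_le d
    intro x
    rw [IntermediateField.minpoly_eq]
    exact h _
  have : IsPurelyInseparable E K := separableClosure.isPurelyInseparable k K
  have : Finite (Field.Emb k E) := Nat.finite_of_card_ne_zero (NeZero.ne (Field.finSepDegree k E))
  have : Finite (Field.Emb E K) := by
    apply Nat.finite_of_card_ne_zero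
    have := IsPurelyInseparable.finSepDegree_eq_one E K
    unfold Field.finSepDegree at this
    omega
  exact Finite.of_equiv _ (Field.embProdEmbOfIsAlgebraic k E K)

end Groth.Agent.Lib.Helper14.BddDeg
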