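import Mathlib
import Groth.Agent.Lib.Helper4DimFormulaE

/-! # Heights in `[p, ∞)` under finite ring maps (helper14) -/

set_option autoImplicit false
set_option linter.unusedVariables false
set_option linter.unusedSectionVars false
set_option linter.style.haveILetI false
set_option maxHeartbeats 400000

universe u

namespace Groth.Agent.Lib.Helper14.Cutoff

section Single

variable {A : Type u} [CommRing A]

/-- the order isomorphism `V(p) ≃o [p, ∞)` -/
def zlIci' (p : PrimeSpectrum A) :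
    (PrimeSpectrum.zeroLocus (p.asIdeal : Set A)) ≃o (Set.Ici p) where
  toFun x := ⟨x.1, fun a ha => x.2 ha⟩
  invFun x := ⟨x.1, fun a ha => x.2 ha⟩
  left_inv _ := rfl
  right_inv _ := rfl
  map_rel_iff' := Iff.rfl

theorem isPrime_map_mk (p q : PrimeSpectrum A) (hpq : p ≤ q) :
    (q.asIdeal.map (Ideal.Quotient.mk p.asIdeal)).IsPrime :=
  Ideal.map_isPrime_of_surjective Ideal.Quotient.mk_surjective (by rwa [Ideal.mk_ker])

/-- the height of `q/p` in `A/p` is the height of `q` in `[p, ∞)` -/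
theorem height_map_mk_eq (p q : PrimeSpectrum A) (hpq : p ≤ q) :
    (q.asIdeal.map (Ideal.Quotient.mk p.asIdeal)).height =
      Order.height (⟨q, hpq⟩ : Set.Ici p) := by
  have hprime := isPrime_map_mk p q hpq
  let Q : PrimeSpectrum (A ⧸ p.asIdeal) := ⟨q.asIdeal.map (Ideal.Quotient.mk p.asIdeal), hprime⟩
  have e1 : (q.asIdeal.map (Ideal.Quotient.mk p.asIdeal)).height = Order.height Q :=
    PrimeSpectrum.height_eq_orderHeight Q
  have e2 : Order.height (p.asIdeal.primeSpectrumQuotientOrderIsoZeroLocus Q) = Order.height Q :=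
    Order.height_orderIso _ Q
  have e3 : Order.height (zlIci' p (p.asIdeal.primeSpectrumQuotientOrderIsoZeroLocus Q)) =
      Order.height (p.asIdeal.primeSpectrumQuotientOrderIsoZeroLocus Q) :=
    Order.height_orderIso _ _
  have e4 : zlIci' p (p.asIdeal.primeSpectrumQuotientOrderIsoZeroLocus Q) = ⟨q, hpq⟩ := by
    apply Subtype.ext
    apply PrimeSpectrum.ext
    change Ideal.comap (Ideal.Quotient.mk p.asIdeal)
      (q.asIdeal.map (Ideal.Quotient.mk p.asIdeal)) = q.asIdeal
    rw [Ideal.comap_map_of_surjective _ Ideal.Quotient.mk_surjective, ← RingHom.ker_eq_comap_bot,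
      Ideal.mk_ker]
    exact sup_eq_left.mpr hpq
  rw [e1, ← e2, ← e3, e4]

end Single

section Pair

variable {A B : Type u} [CommRing A] [CommRing B] [Algebra A B]

/-- contraction of primes -/
noncomputable abbrev ctr (P : PrimeSpectrum B) : PrimeSpectrum A :=
  PrimeSpectrum.comap (algebraMap A B) P

theorem ctr_mono {P Q : PrimeSpectrum B} (h : P ≤ Q) : (ctr P : PrimeSpectrum A) ≤ ctr Q :=
  Ideal.comap_mono h

/-- incomparability: heights in `[P, ∞)` do not exceed heights in `[p, ∞)` -/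
theorem height_Ici_le_of_integral [Algebra.IsIntegral A B] (P Q : PrimeSpectrum B) (hPQ : P ≤ Q) :
    Order.height (⟨Q, hPQ⟩ : Set.Ici P) ≤
      Order.height (⟨ctr Q, ctr_mono hPQ⟩ : Set.Ici (ctr P : PrimeSpectrum A)) := by
  let f : Set.Ici P → Set.Ici (ctr P : PrimeSpectrum A) := fun x => ⟨ctr x.1, ctr_mono x.2⟩
  have hf : StrictMono f := by
    intro x y hxy
    have h1 : x.1.asIdeal < y.1.asIdeal := hxy
    haveI := x.1.isPrime
    exact Ideal.IsIntegral.comap_lt_comap (R := A) h1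
  exact Order.height_le_height_apply_of_strictMono f hf ⟨Q, hPQ⟩

/-- the dimension formula for finite extensions of a universally catenary ring -/
theorem height_Ici_ge_of_finite [Module.Finite A B] (hA : CAlg.IsUniversallyCatenary A)
    (P Q : PrimeSpectrum B) (hPQ : P ≤ Q) :
    Order.height (⟨ctr Q, ctr_mono hPQ⟩ : Set.Ici (ctr P : PrimeSpectrum A)) ≤
      Order.height (⟨Q, hPQ⟩ : Set.Ici P) := by
  let p : PrimeSpectrum A := ctr P
  let q : PrimeSpectrum A := ctr Q
  have hpq : p ≤ q := ctr_mono hPQ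
  haveI hPp : P.asIdeal.LiesOver p.asIdeal := ⟨rfl⟩
  haveI : p.asIdeal.IsPrime := p.isPrime
  haveI : P.asIdeal.IsPrime := P.isPrime
  haveI hInt : Algebra.IsIntegral A B := Algebra.IsIntegral.of_finite A B
  -- universally catenary quotient
  have hR : CAlg.IsUniversallyCatenary (A ⧸ p.asIdeal) := by
    obtain ⟨hN, hcat⟩ := hA
    refine ⟨inferInstance, fun S _ _ hS => ?_⟩
    letI : Algebra A S := ((algebraMap (A ⧸ p.asIdeal) S).comp (Ideal.Quotient.mk p.asIdeal)).toAlgebra
    haveI : IsScalarTower A (A ⧸ p.asIdeal) S := IsScalarTower.of_algebraMap_eq (fun x => rfl)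
    haveI : Algebra.FiniteType A (A ⧸ p.asIdeal) :=
      Algebra.FiniteType.of_surjective (Algebra.ofId A (A ⧸ p.asIdeal)) Ideal.Quotient.mk_surjective
    exact hcat S (Algebra.FiniteType.trans (inferInstance : Algebra.FiniteType A (A ⧸ p.asIdeal)) hS)
  have hprime𝔭 := isPrime_map_mk p q hpq
  have hprime𝔮 := isPrime_map_mk P Q hPQ
  haveI hlies : (Q.asIdeal.map (Ideal.Quotient.mk P.asIdeal)).LiesOver
      (q.asIdeal.map (Ideal.Quotient.mk p.asIdeal)) := by
    constructor
    ext x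
    obtain ⟨a, rfl⟩ := Ideal.Quotient.mk_surjective x
    rw [Ideal.mem_quotient_iff_mem hpq, Ideal.under_def, Ideal.mem_comap,
      Ideal.Quotient.algebraMap_mk_of_liesOver, Ideal.mem_quotient_iff_mem hPQ]
    rfl
  have key := Groth.Agent.Lib.Helper4.DimFormula.height_add_trdeg_eq (A ⧸ p.asIdeal) hR
    (B ⧸ P.asIdeal) (q.asIdeal.map (Ideal.Quotient.mk p.asIdeal))
    (Q.asIdeal.map (Ideal.Quotient.mk P.asIdeal))
  haveI i1 : Algebra.IsIntegral (A ⧸ p.asIdeal) (B ⧸ P.asIdeal) :=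
    Ideal.Quotient.algebra_isIntegral_of_liesOver P.asIdeal p.asIdeal
  haveI i2 : Algebra.IsIntegral ((A ⧸ p.asIdeal) ⧸ q.asIdeal.map (Ideal.Quotient.mk p.asIdeal))
      ((B ⧸ P.asIdeal) ⧸ Q.asIdeal.map (Ideal.Quotient.mk P.asIdeal)) :=
    Ideal.Quotient.algebra_isIntegral_of_liesOver _ _
  haveI n1 : Nontrivial (A ⧸ p.asIdeal) := Ideal.Quotient.nontrivial_iff.mpr p.isPrime.ne_top
  haveI n2 : Nontrivial ((A ⧸ p.asIdeal) ⧸ q.asIdeal.map (Ideal.Quotient.mk p.asIdeal)) :=
    Ideal.Quotient.nontrivial_iff.mpr hprime𝔭.ne_top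
  have a1 : Algebra.IsAlgebraic (A ⧸ p.asIdeal) (B ⧸ P.asIdeal) := Algebra.IsIntegral.isAlgebraic
  have a2 : Algebra.IsAlgebraic ((A ⧸ p.asIdeal) ⧸ q.asIdeal.map (Ideal.Quotient.mk p.asIdeal))
      ((B ⧸ P.asIdeal) ⧸ Q.asIdeal.map (Ideal.Quotient.mk P.asIdeal)) :=
    Algebra.IsIntegral.isAlgebraic
  rw [@trdeg_eq_zero _ _ _ _ _ a2, @trdeg_eq_zero _ _ _ _ _ a1, add_zero, add_zero] at key
  have key' : (Q.asIdeal.map (Ideal.Quotient.mk P.asIdeal)).height =
      (q.asIdeal.map (Ideal.Quotient.mk p.asIdeal)).height := by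
    exact_mod_cast key
  rw [← height_map_mk_eq p q hpq, ← height_map_mk_eq P Q hPQ, key']

end Pair

end Groth.Agent.Lib.Helper14.Cutoff
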