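import Groth.Agent.Lib.Helper28RatliffD

/-!
# Helper28RatliffE: Ratliff's theorem — a universally catenary Noetherian local ring is formally catenary
-/

set_option autoImplicit false
set_option linter.unusedSectionVars false
universe u

namespace Groth.Agent.Lib.Helper28.Ratliff

open IsLocalRing

section E

/-- The inductive hypothesis in Ratliff's theorem. -/
def Claim (d : ℕ) : Prop :=
  ∀ (B : Type u) [CommRing B] [IsDomain B] [IsNoetherianRing B] [IsLocalRing B],
    CAlg.IsUniversallyCatenary B → ∀ q ∈ minimalPrimes (AdicCompletion (maximalIdeal B) B),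
      ringKrullDim (AdicCompletion (maximalIdeal B) B ⧸ q) = d → ringKrullDim B = d

variable (A : Type u) [CommRing A] [IsDomain A] [IsNoetherianRing A] [IsLocalRing A]

local notation "Ahat" => AdicCompletion (maximalIdeal A) A

theorem claim_zero : Claim.{u} 0 := by
  intro B _ _ _ _ hUC q hq hqd
  have hqp : q.IsPrime := hq.1.1
  have hNS : IsNoetherianRing (AdicCompletion (maximalIdeal B) B) :=
    Groth.Agent.Lib.Helper19.isNoetherianRing_adicCompletion _
  -- q is maximal
  have hK : Ring.KrullDimLE 0 (AdicCompletion (maximalIdeal B) B ⧸ q) := by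
    rw [Ring.krullDimLE_iff, hqd]
  have hbm : (⊥ : Ideal (AdicCompletion (maximalIdeal B) B ⧸ q)).IsMaximal :=
    Ideal.IsPrime.isMaximal' inferInstance
  have hqm : q.IsMaximal := (Ideal.bot_quotient_isMaximal_iff q).mp hbm
  have hqe : q = maximalIdeal (AdicCompletion (maximalIdeal B) B) :=
    IsLocalRing.eq_maximalIdeal hqm
  have hht : (maximalIdeal (AdicCompletion (maximalIdeal B) B)).height = 0 := by
    rw [← hqe]
    exact Ideal.height_eq_zero_iff.mpr hq
  rw [← Groth.Agent.Lib.Helper19.ringKrullDim_adicCompletion_maximalIdeal,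
    ← IsLocalRing.maximalIdeal_height_eq_ringKrullDim, hht]
  rfl

theorem ringKrullDim_quotient_le_ringKrullDim_adicCompletion (q : Ideal Ahat) :
    ringKrullDim (Ahat ⧸ q) ≤ ringKrullDim A := by
  rw [← Groth.Agent.Lib.Helper19.ringKrullDim_adicCompletion_maximalIdeal A]
  exact ringKrullDim_quotient_le q

theorem claim_one : Claim.{u} 1 := by
  intro B _ _ _ _ hUC q hq hqd
  have h1 := ringKrullDim_quotient_le_ringKrullDim_adicCompletion B q
  rw [hqd] at h1
  obtain ⟨n, hn⟩ := exists_nat_ringKrullDim B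
  by_cases h2 : (2 : WithBot ℕ∞) ≤ ringKrullDim B
  · exact absurd hqd (ringKrullDim_quotient_minimalPrime_ne_one B hUC h2 q hq)
  · rw [hn] at h1 h2 ⊢
    have h1' : 1 ≤ n := by exact_mod_cast h1
    have h2' : ¬ 2 ≤ n := by exact_mod_cast h2
    have : n = 1 := by omega
    rw [this]

theorem claim_succ (d : ℕ) (hd : 1 ≤ d) (IH : Claim.{u} d) : Claim.{u} (d + 1) := by
  intro A _ _ _ _ hUC q hq hqd
  have hqp : q.IsPrime := hq.1.1
  have hNS : IsNoetherianRing (AdicCompletion (maximalIdeal A) A) :=
    Groth.Agent.Lib.Helper19.isNoetherianRing_adicCompletion _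
  have hcatS : CAlg.IsCatenary (AdicCompletion (maximalIdeal A) A) :=
    Groth.Agent.Lib.Helper28.isCatenary_adicCompletion A
  have hcatA : CAlg.IsCatenary A := hUC.2 A inferInstance
  obtain ⟨n, hn⟩ := exists_nat_ringKrullDim A
  have hle := ringKrullDim_quotient_le_ringKrullDim_adicCompletion A q
  rw [hqd, hn] at hle
  have hle' : d + 1 ≤ n := by exact_mod_cast hle
  -- the maximal ideal is nonzero
  have hm : maximalIdeal A ≠ ⊥ := by
    intro h0
    have hf : IsField A := IsLocalRing.isField_iff_maximalIdeal_eq.mpr h0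
    have := ringKrullDim_eq_zero_of_isField hf
    rw [hn] at this
    have : n = 0 := by exact_mod_cast this
    omega
  obtain ⟨a, b, hab, ha, hb⟩ := exists_ideals_of_mem_minimalPrimes hq
  -- the bad primes
  set T : Set (Ideal (AdicCompletion (maximalIdeal A) A)) :=
    {P | P ∈ (q ⊔ b).minimalPrimes ∧ P ≠ maximalIdeal (AdicCompletion (maximalIdeal A) A)} with hT
  have hTfin : T.Finite :=
    (Ideal.finite_minimalPrimes_of_isNoetherianRing _ (q ⊔ b)).subset (fun P hP => hP.1)
  obtain ⟨x, hxm, hx0, hxT⟩ := exists_mem_maximalIdeal_forall_notMem A hm T hTfin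
    (fun P hP => hP.1.1.1) (fun P hP => hP.2)
  set xh := algebraMap A (AdicCompletion (maximalIdeal A) A) x with hxh
  have hxq : xh ∉ q := algebraMap_notMem_of_mem_minimalPrimes A q hq x hx0
  have hxhm : xh ∈ maximalIdeal (AdicCompletion (maximalIdeal A) A) := by
    rw [AdicCompletion.maximalIdeal_eq_map]
    exact Ideal.mem_map_of_mem _ hxm
  have hsup : q ⊔ Ideal.span {xh} ≤ maximalIdeal (AdicCompletion (maximalIdeal A) A) :=
    sup_le (IsLocalRing.le_maximalIdeal hqp.ne_top)
      ((Ideal.span_singleton_le_iff_mem _).mpr hxhm)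
  obtain ⟨q', hq', hq'm⟩ := Ideal.exists_minimalPrimes_le hsup
  have hq'p : q'.IsPrime := hq'.1.1
  have hqq' : q ≤ q' := le_sup_left.trans hq'.1.2
  have hxq' : xh ∈ q' := hq'.1.2 (Ideal.mem_sup_right (Ideal.mem_span_singleton_self _))
  have hqlt : q < q' := lt_of_le_of_ne hqq' (fun e => hxq (e ▸ hxq'))
  -- covering
  have hcov : (⟨q, hqp⟩ : PrimeSpectrum (AdicCompletion (maximalIdeal A) A)) ⋖ ⟨q', hq'p⟩ := by
    refine ⟨hqlt, ?_⟩
    intro P h1 h2
    have hPp : P.asIdeal.IsPrime := P.2
    have := eq_of_lt_of_le_of_mem_minimalPrimes_sup_span hq' (P := P.asIdeal) h1 h2.le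
    exact h2.ne (PrimeSpectrum.ext this)
  have hdim' : ringKrullDim (AdicCompletion (maximalIdeal A) A ⧸ q') = d := by
    have h1 := Groth.Agent.Lib.Helper28.ringKrullDim_quotient_eq_add_one_of_covBy hcatS hcov
    change ringKrullDim (AdicCompletion (maximalIdeal A) A ⧸ q) =
      ringKrullDim (AdicCompletion (maximalIdeal A) A ⧸ q') + 1 at h1
    have hNq' : Nontrivial (AdicCompletion (maximalIdeal A) A ⧸ q') :=
      Ideal.Quotient.nontrivial_iff.mpr hq'p.ne_top
    obtain ⟨k, hk⟩ := exists_nat_ringKrullDim (AdicCompletion (maximalIdeal A) A ⧸ q')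
    rw [hqd, hk] at h1
    rw [hk]
    have : d + 1 = k + 1 := by exact_mod_cast h1
    have : k = d := by omega
    rw [this]
  -- q' is not the maximal ideal
  have hq'ne : q' ≠ maximalIdeal (AdicCompletion (maximalIdeal A) A) := by
    intro e
    have hf : IsField (AdicCompletion (maximalIdeal A) A ⧸ q') := by
      rw [e]
      exact (Ideal.Quotient.maximal_ideal_iff_isField_quotient _).mp inferInstance
    have := ringKrullDim_eq_zero_of_isField hf
    rw [hdim'] at this
    have : d = 0 := by exact_mod_cast this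
    omega
  -- b is not contained in q'
  have hbq' : ¬ b ≤ q' := by
    intro hbq'
    obtain ⟨P, hP, hPq'⟩ := Ideal.exists_minimalPrimes_le (sup_le hqq' hbq')
    have hPp : P.IsPrime := hP.1.1
    have hqP : q < P := by
      refine lt_of_le_of_ne (le_sup_left.trans hP.1.2) (fun e => hb ?_)
      rw [e]
      exact le_sup_right.trans hP.1.2
    have hPe := eq_of_lt_of_le_of_mem_minimalPrimes_sup_span hq' hqP hPq'
    have hPT : P ∈ T := ⟨hP, by rw [hPe]; exact hq'ne⟩
    exact hxT P hPT (hPe ▸ hxq')
  -- all primes below q' contain q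
  have hall : ∀ P : Ideal (AdicCompletion (maximalIdeal A) A), P.IsPrime → P ≤ q' → q ≤ P := by
    intro P hPp hPq'
    apply ha P hPp
    have hbP : ¬ b ≤ P := fun h => hbq' (h.trans hPq')
    obtain ⟨z, hzb, hzP⟩ := SetLike.not_le_iff_exists.mp hbP
    intro y hy
    have hyz : y * z ∈ a ⊓ b := ⟨Ideal.mul_mem_right _ _ hy, Ideal.mul_mem_left _ _ hzb⟩
    rw [hab, Ideal.mem_bot] at hyz
    rcases hPp.mem_or_mem (hyz ▸ P.zero_mem : y * z ∈ P) with h | h
    · exact h
    · exact absurd h hzP
  -- the height of q' is at most one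
  have hht : q'.height ≤ 1 := by
    rw [← Nat.cast_one, Ideal.height_le_iff]
    intro P hPp hPlt
    have hqP := hall P hPp hPlt.le
    by_cases e : q = P
    · rw [← e, Ideal.height_eq_zero_iff.mpr hq, Nat.cast_one]
      exact zero_lt_one
    · exfalso
      have := eq_of_lt_of_le_of_mem_minimalPrimes_sup_span hq' (lt_of_le_of_ne hqP e) hPlt.le
      exact hPlt.ne this
  -- the contraction
  set p' : Ideal A := q'.comap (algebraMap A (AdicCompletion (maximalIdeal A) A)) with hp'
  have hp'p : p'.IsPrime := Ideal.comap_isPrime _ _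
  have hxp' : x ∈ p' := hxq'
  have hp'0 : p' ≠ ⊥ := fun e => hx0 (by rw [e] at hxp'; exact hxp')
  have h1p' : 1 ≤ p'.height := Groth.Agent.Lib.Helper4.DimFormula.one_le_height_of_ne_bot p' hp'0
  have hlo : q'.LiesOver p' := ⟨rfl⟩
  have hgd := Ideal.height_eq_height_add_of_liesOver_of_hasGoingDown p' q'
  rw [hgd] at hht
  have hp'1 : p'.height = 1 := le_antisymm (le_self_add.trans hht) h1p'
  rw [hp'1] at hht
  have hr0 : (q'.map (Ideal.Quotient.mk (p'.map
      (algebraMap A (AdicCompletion (maximalIdeal A) A))))).height = 0 := by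
    have h2 : (1 : ℕ∞) + (q'.map (Ideal.Quotient.mk (p'.map
      (algebraMap A (AdicCompletion (maximalIdeal A) A))))).height ≤ 1 + 0 := by
      rw [add_zero]; exact hht
    have h3 := (ENat.add_le_add_iff_left (by simp : (1 : ℕ∞) ≠ ⊤)).mp h2
    exact le_antisymm h3 (zero_le)
  have hle2 : p'.map (algebraMap A (AdicCompletion (maximalIdeal A) A)) ≤ q' :=
    Ideal.map_comap_le
  have hmp : (q'.map (Ideal.Quotient.mk (p'.map
      (algebraMap A (AdicCompletion (maximalIdeal A) A))))).IsPrime :=
    Ideal.map_isPrime_of_surjective Ideal.Quotient.mk_surjective (by rwa [Ideal.mk_ker])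
  have hmin : q'.map (Ideal.Quotient.mk (p'.map
      (algebraMap A (AdicCompletion (maximalIdeal A) A)))) ∈
      minimalPrimes (AdicCompletion (maximalIdeal A) A ⧸ p'.map
      (algebraMap A (AdicCompletion (maximalIdeal A) A))) := Ideal.height_eq_zero_iff.mp hr0
  obtain ⟨e⟩ := exists_ringEquiv_quotient_adicCompletion A p'
  obtain ⟨q'', hq''min, ⟨e2⟩⟩ := exists_minimalPrime_of_ringEquiv e _ hmin
  have e3 := DoubleQuot.quotQuotEquivQuotOfLE hle2
  have hUCB : CAlg.IsUniversallyCatenary (A ⧸ p') := Groth.Agent.S9126.result A (A ⧸ p') hUC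
  have hdimB : ringKrullDim (AdicCompletion (maximalIdeal (A ⧸ p')) (A ⧸ p') ⧸ q'') = d := by
    rw [← ringKrullDim_eq_of_ringEquiv e2, ringKrullDim_eq_of_ringEquiv e3, hdim']
  have hB := IH (A ⧸ p') hUCB q'' hq''min hdimB
  have hform := Groth.Agent.Lib.Helper28.height_add_ringKrullDim_quotient_eq_of_isEquidim
    (Groth.Agent.Lib.Helper28.isEquidim_of_isDomain A) hcatA p'
  rw [hB, hp'1, hn] at hform
  rw [hn]
  have : 1 + d = n := by exact_mod_cast hform
  have : n = d + 1 := by omega
  rw [this]

theorem claim_all (d : ℕ) : Claim.{u} d := by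
  induction d with
  | zero => exact claim_zero
  | succ d ih =>
    rcases Nat.eq_zero_or_pos d with rfl | hd
    · exact claim_one
    · exact claim_succ d hd ih

/-- **Ratliff's theorem**: the completion of a universally catenary Noetherian local domain is
equidimensional. -/
theorem isEquidim_adicCompletion_of_isUniversallyCatenary (hUC : CAlg.IsUniversallyCatenary A) :
    EGA4.IsEquidim Ahat := by
  intro q hq
  have hqp : q.IsPrime := hq.1.1
  have hNS : IsNoetherianRing (AdicCompletion (maximalIdeal A) A) :=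
    Groth.Agent.Lib.Helper19.isNoetherianRing_adicCompletion _
  have hNq : Nontrivial (AdicCompletion (maximalIdeal A) A ⧸ q) :=
    Ideal.Quotient.nontrivial_iff.mpr hqp.ne_top
  obtain ⟨d, hd⟩ := exists_nat_ringKrullDim (AdicCompletion (maximalIdeal A) A ⧸ q)
  rw [Groth.Agent.Lib.Helper19.ringKrullDim_adicCompletion_maximalIdeal A, hd]
  exact (claim_all d A hUC q hq hd).symm

/-- A universally catenary Noetherian local ring is formally catenary. -/
theorem isFormallyCatenary_of_isUniversallyCatenary (R : Type u) [CommRing R] [IsLocalRing R]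
    [IsNoetherianRing R] (hR : CAlg.IsUniversallyCatenary R) : EGA4.IsFormallyCatenary R := by
  intro p hp
  exact isEquidim_adicCompletion_of_isUniversallyCatenary (R ⧸ p)
    (Groth.Agent.S9126.result R (R ⧸ p) hR)

end E

end Groth.Agent.Lib.Helper28.Ratliff
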