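import Mathlib
import Groth.Agent.Lib.Helper28TensorSk
import Groth.Agent.Lib.Helper28FibLoc
import Groth.Agent.Lib.Helper28FlatNormal
import Groth.Agent.Lib.Helper28ComplCat
import Groth.Agent.Lib.Helper28RatliffE
import Groth.Agent.Lib.Helper28LocLoc
import Groth.Agent.Lib.Helper28FormalEquidimLoc
import Groth.Agent.Lib.Helper13Cat
import Groth.Agent.Lib.Helper14CutoffA

/-! # Depth and height formulas for the completion of a local ring (helper14)

* `depth_localization_tensor`: `depth (B ⊗ M)_Q = depth M_P + depth (B_Q / P B_Q)` for flat `A → B`;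
* `depth_localization_adicCompletion`: the same for the completion of a finite module;
* `height_add_dim_quotient`: `ht(Q/P) + dim R/Q = dim R/P` in a catenary local ring;
* `dim_fibLocRing_add_dim_quotient`: for a universally catenary local ring `A` and a prime `P` of
  its completion over `p`: `dim (Â_P/pÂ_P) + dim Â/P = dim A/p`. -/

set_option autoImplicit false
set_option linter.unusedVariables false
set_option linter.unusedSectionVars false
set_option linter.style.haveILetI false
set_option maxHeartbeats 400000

universe u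

namespace Groth.Agent.Lib.Helper14.CplCut

open TensorProduct Groth.Agent.Lib.Helper28

section DepthFormula

variable {A B : Type u} [CommRing A] [CommRing B] [IsNoetherianRing A] [IsNoetherianRing B]
  [Algebra A B] [Module.Flat A B]
  (M : Type u) [AddCommGroup M] [Module A M] [Module.Finite A M] (Q : Ideal B) [Q.IsPrime]

theorem depth_fibLocMod_self [IsLocalRing (EGA4.FibLocRing A B Q)] :
    LocCoh.depth (Localization.AtPrime Q) (EGA4.FibLocMod A B Q B) =
      LocCoh.depth (EGA4.FibLocRing A B Q) (EGA4.FibLocRing A B Q) := by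
  rw [depth_quotient_self_eq]
  exact idealDepth_congr (fibLocModSelfEquiv (A := A) Q) _

theorem depth_localization_tensor [IsLocalRing (EGA4.FibLocRing A B Q)] :
    LocCoh.depth (Localization.AtPrime Q) (LocalizedModule Q.primeCompl (B ⊗[A] M)) =
      LocCoh.depth (Localization.AtPrime (Q.comap (algebraMap A B)))
        (LocalizedModule (Q.comap (algebraMap A B)).primeCompl M) +
      LocCoh.depth (EGA4.FibLocRing A B Q) (EGA4.FibLocRing A B Q) := by
  by_cases hnt : Nontrivial (LocalizedModule (Q.comap (algebraMap A B)).primeCompl M)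
  · rw [(supportDim_depth_localization_tensor (A := A) M B Q).2, depth_fibLocMod_self]
  · have hsub : Subsingleton (LocalizedModule Q.primeCompl (B ⊗[A] M)) := by
      by_contra hcon
      rw [not_subsingleton_iff_nontrivial] at hcon
      exact hnt (nontrivial_localization_of_nontrivial_localization_tensor M B Q hcon)
    rw [not_nontrivial_iff_subsingleton] at hnt
    rw [depth_eq_top_of_subsingleton, depth_eq_top_of_subsingleton, top_add]

end DepthFormula

section Compl

variable (A : Type u) [CommRing A] [IsLocalRing A] [IsNoetherianRing A]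
  (M : Type u) [AddCommGroup M] [Module A M] [Module.Finite A M]

/-- the depth formula for the localizations of the completion of a finite module -/
theorem depth_localization_adicCompletion
    [IsNoetherianRing (AdicCompletion (IsLocalRing.maximalIdeal A) A)]
    (P : Ideal (AdicCompletion (IsLocalRing.maximalIdeal A) A)) [P.IsPrime]
    [IsLocalRing (EGA4.FibLocRing A (AdicCompletion (IsLocalRing.maximalIdeal A) A) P)] :
    LocCoh.depth (Localization.AtPrime P)
        (LocalizedModule P.primeCompl (AdicCompletion (IsLocalRing.maximalIdeal A) M)) =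
      LocCoh.depth
        (Localization.AtPrime
          (P.comap (algebraMap A (AdicCompletion (IsLocalRing.maximalIdeal A) A))))
        (LocalizedModule
          (P.comap (algebraMap A (AdicCompletion (IsLocalRing.maximalIdeal A) A))).primeCompl M) +
      LocCoh.depth (EGA4.FibLocRing A (AdicCompletion (IsLocalRing.maximalIdeal A) A) P)
        (EGA4.FibLocRing A (AdicCompletion (IsLocalRing.maximalIdeal A) A) P) := by
  rw [← depth_localization_tensor M P]
  let e := AdicCompletion.ofTensorProductEquivOfFiniteNoetherian (IsLocalRing.maximalIdeal A) M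
  let f2 : (AdicCompletion (IsLocalRing.maximalIdeal A) A ⊗[A] M)
      →ₗ[AdicCompletion (IsLocalRing.maximalIdeal A) A]
      LocalizedModule P.primeCompl (AdicCompletion (IsLocalRing.maximalIdeal A) M) :=
    (LocalizedModule.mkLinearMap P.primeCompl
      (AdicCompletion (IsLocalRing.maximalIdeal A) M)) ∘ₗ e.toLinearMap
  have hloc : IsLocalizedModule P.primeCompl f2 :=
    IsLocalizedModule.of_linearEquiv_right P.primeCompl
      (LocalizedModule.mkLinearMap P.primeCompl
        (AdicCompletion (IsLocalRing.maximalIdeal A) M)) e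
  exact (Groth.Agent.Lib.Helper5.FinDimDepth.transport_aux P
    (AdicCompletion (IsLocalRing.maximalIdeal A) A ⊗[A] M) (Localization.AtPrime P)
    (LocalizedModule P.primeCompl (AdicCompletion (IsLocalRing.maximalIdeal A) M)) f2).1

end Compl

section Heights

/-- in a catenary Noetherian local ring: `ht(Q/P) + dim R/Q = dim R/P` -/
theorem height_add_dim_quotient {R : Type u} [CommRing R] [IsLocalRing R] [IsNoetherianRing R]
    (hc : CAlg.IsCatenary R) (P Q : Ideal R) [hP : P.IsPrime] [hQ : Q.IsPrime] (hPQ : P ≤ Q) :
    (((Q.map (Ideal.Quotient.mk P)).height : ℕ∞) : WithBot ℕ∞) + ringKrullDim (R ⧸ Q) =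
      ringKrullDim (R ⧸ P) := by
  have hnt : Nontrivial (R ⧸ P) := Ideal.Quotient.nontrivial_iff.mpr hP.ne_top
  have hloc : IsLocalRing (R ⧸ P) := Groth.Agent.Lib.Helper5.isLocalRing_quotient hP.ne_top
  have hdom : IsDomain (R ⧸ P) := Ideal.Quotient.isDomain P
  have hcat : CAlg.IsCatenary (R ⧸ P) :=
    Groth.Agent.Helper13Cat.isCatenary_of_surjective (Ideal.Quotient.mk P)
      Ideal.Quotient.mk_surjective hc
  have heq : EGA4.IsEquidim (R ⧸ P) := isEquidim_of_isDomain _
  have hprime : (Q.map (Ideal.Quotient.mk P)).IsPrime :=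
    Ideal.map_isPrime_of_surjective Ideal.Quotient.mk_surjective (by rwa [Ideal.mk_ker])
  have h := height_add_ringKrullDim_quotient_eq_of_isEquidim heq hcat
    (Q.map (Ideal.Quotient.mk P))
  rw [ringKrullDim_quotient_quotient] at h
  have hcm : (Q.map (Ideal.Quotient.mk P)).comap (Ideal.Quotient.mk P) = Q := by
    rw [Ideal.comap_map_of_surjective _ Ideal.Quotient.mk_surjective, ← RingHom.ker_eq_comap_bot,
      Ideal.mk_ker]
    exact sup_eq_left.mpr hPQ
  rw [ringKrullDim_eq_of_ringEquiv (Ideal.quotEquivOfEq hcm)] at h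
  exact h

variable (A : Type u) [CommRing A] [IsLocalRing A] [IsNoetherianRing A]

/-- for a universally catenary Noetherian local ring `A` and a prime `P` of its completion over
`p`: `dim (Â_P / p Â_P) + dim Â/P = dim A/p` -/
theorem dim_fibLocRing_add_dim_quotient (hA : CAlg.IsUniversallyCatenary A)
    (P : Ideal (AdicCompletion (IsLocalRing.maximalIdeal A) A)) [hP : P.IsPrime] :
    ringKrullDim (EGA4.FibLocRing A (AdicCompletion (IsLocalRing.maximalIdeal A) A) P) +
        ringKrullDim (AdicCompletion (IsLocalRing.maximalIdeal A) A ⧸ P) =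
      ringKrullDim (A ⧸ P.comap (algebraMap A (AdicCompletion (IsLocalRing.maximalIdeal A) A))) := by
  have hN : IsNoetherianRing (AdicCompletion (IsLocalRing.maximalIdeal A) A) :=
    Groth.Agent.Lib.Helper19.isNoetherianRing_adicCompletion _
  have hlh := isLocalHom_algebraMap_adicCompletion A
  have hcat := isCatenary_adicCompletion A
  have h0 := ringKrullDim_fibRing_adicCompletion A
  set p : Ideal A := P.comap (algebraMap A (AdicCompletion (IsLocalRing.maximalIdeal A) A))
    with hp
  have hpp : p.IsPrime := Ideal.comap_isPrime _ _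
  set 𝔞 : Ideal (AdicCompletion (IsLocalRing.maximalIdeal A) A) :=
    p.map (algebraMap A (AdicCompletion (IsLocalRing.maximalIdeal A) A)) with h𝔞
  have h𝔞P : 𝔞 ≤ P := Ideal.map_comap_le
  have h𝔞top : 𝔞 ≠ ⊤ := map_ne_top_of_isLocalHom p hpp.ne_top
  have hloc1 : IsLocalRing (AdicCompletion (IsLocalRing.maximalIdeal A) A ⧸ 𝔞) :=
    Groth.Agent.Lib.Helper5.isLocalRing_quotient h𝔞top
  have hcat1 : CAlg.IsCatenary (AdicCompletion (IsLocalRing.maximalIdeal A) A ⧸ 𝔞) :=
    Groth.Agent.Helper13Cat.isCatenary_of_surjective (Ideal.Quotient.mk 𝔞)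
      Ideal.Quotient.mk_surjective hcat
  have heq1 : EGA4.IsEquidim (AdicCompletion (IsLocalRing.maximalIdeal A) A ⧸ 𝔞) := by
    have hfc := Ratliff.isFormallyCatenary_of_isUniversallyCatenary A hA p
    unfold EGA4.IsFormallyEquidim at hfc
    obtain ⟨e, -⟩ := exists_ringEquiv_adicCompletion_quotient (IsLocalRing.maximalIdeal A) p
    rw [Groth.Agent.Lib.Helper5.maximalIdeal_quotient_eq_map] at hfc
    exact isEquidim_of_ringEquiv e.symm hfc
  have hprime : (P.map (Ideal.Quotient.mk 𝔞)).IsPrime :=
    Ideal.map_isPrime_of_surjective Ideal.Quotient.mk_surjective (by rwa [Ideal.mk_ker])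
  have h := height_add_ringKrullDim_quotient_eq_of_isEquidim heq1 hcat1
    (P.map (Ideal.Quotient.mk 𝔞))
  rw [ringKrullDim_quotient_quotient] at h
  have hcm : (P.map (Ideal.Quotient.mk 𝔞)).comap (Ideal.Quotient.mk 𝔞) = P := by
    rw [Ideal.comap_map_of_surjective _ Ideal.Quotient.mk_surjective, ← RingHom.ker_eq_comap_bot,
      Ideal.mk_ker]
    exact sup_eq_left.mpr h𝔞P
  rw [ringKrullDim_eq_of_ringEquiv (Ideal.quotEquivOfEq hcm),
    ringKrullDim_quotient_map_eq_add p hpp.ne_top, h0, zero_add] at h
  rw [← h]
  congr 1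
  have hid : p.map (algebraMap A (Localization.AtPrime P)) =
      𝔞.map (algebraMap (AdicCompletion (IsLocalRing.maximalIdeal A) A)
        (Localization.AtPrime P)) := by
    rw [h𝔞, Ideal.map_map, ← IsScalarTower.algebraMap_eq]
  rw [← ringKrullDim_localization_quotient_eq_height 𝔞 P h𝔞P]
  exact ringKrullDim_eq_of_ringEquiv (Ideal.quotEquivOfEq hid)

end Heights

end Groth.Agent.Lib.Helper14.CplCut
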