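import Mathlib
import Groth.Agent.Lib.Helper5NormDual

/-!
# A Bass type criterion over a Noetherian local ring (helper5)

Let `A` be a Noetherian local ring with residue field `κ` and `K` an object of `D(A)` such that
`Hom(M[0], K[i])` is a finite module for every finite module `M`.  If `Hom(κ[0], K[i]) = 0` for all
`i > b` then `Hom(M[0], K[i]) = 0` for all finite modules `M` and all `i > b` (`vanish`).
-/

set_option autoImplicit false
universe u
open CategoryTheory CategoryTheory.Limits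
attribute [local instance] HasDerivedCategory.standard

namespace Groth.Agent.Lib.Helper5.Bass

open DerivedCategory Pretriangulated Groth.Agent.Lib.Helper5.NormDual

variable {A : Type u} [CommRing A] [IsNoetherianRing A] [IsLocalRing A] (K : Dual.D A) (b : ℤ)
  (hfinK : ∀ (M : Type u) [AddCommGroup M] [Module A M] [Module.Finite A M] (i : ℤ),
    Module.Finite A (Dual.inD A M ⟶ K⟦i⟧))
  (hk : ∀ i : ℤ, b < i → Subsingleton (Dual.inD A (IsLocalRing.ResidueField A) ⟶ K⟦i⟧))

include hfinK hk in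
lemma prime_case (q : Ideal A) [hq : q.IsPrime]
    (IH : ∀ J : Ideal A, q < J → ∀ (M : Type u) [AddCommGroup M] [Module A M] [Module.Finite A M],
      (∀ a ∈ J, ∀ m : M, a • m = 0) → ∀ i : ℤ, b < i → ∀ g : Dual.inD A M ⟶ K⟦i⟧, g = 0)
    (i : ℤ) (hi : b < i) (g : Dual.inD A (A ⧸ q) ⟶ K⟦i⟧) : g = 0 := by
  by_cases hqm : q = IsLocalRing.maximalIdeal A
  · have hsub := hk i hi
    let e : (A ⧸ q) ≃ₗ[A] IsLocalRing.ResidueField A := Submodule.quotEquivOfEq _ _ hqm
    have : (inDIso e).inv ≫ g = 0 := Subsingleton.elim _ _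
    rw [← cancel_epi (inDIso e).inv, this, comp_zero]
  · have hlt : q < IsLocalRing.maximalIdeal A :=
      lt_of_le_of_ne (IsLocalRing.le_maximalIdeal hq.ne_top) hqm
    obtain ⟨x, hxm, hxq⟩ := SetLike.exists_of_lt hlt
    have hqJ : q < q ⊔ Ideal.span {x} := by
      refine lt_of_le_of_ne le_sup_left ?_
      intro h
      apply hxq
      rw [h]
      exact Ideal.mem_sup_right (Ideal.subset_span rfl)
    have hS : (mulSC q x).ShortExact := mulSC_shortExact q x hxq
    haveI hfinE : Module.Finite A (Dual.inD A (A ⧸ q) ⟶ K⟦i⟧) := hfinK (A ⧸ q) i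
    have h3 : ∀ g' : (singleFunctor (ModuleCat.{u} A) 0).obj (mulSC q x).X₃ ⟶
        (K⟦i⟧)⟦(1 : ℤ)⟧, g' = 0 := by
      intro g'
      have := IH _ hqJ (A ⧸ (q ⊔ Ideal.span {x})) (quot_killed _) (i + 1) (by omega)
        (g' ≫ (shiftFunctorAdd' (DerivedCategory (ModuleCat.{u} A)) i 1 (i + 1) rfl).inv.app K)
      exact (cancel_mono ((shiftFunctorAdd' (DerivedCategory (ModuleCat.{u} A)) i 1 (i + 1)
        rfl).inv.app K)).mp (this.trans zero_comp.symm)
    have hsurj : ∀ e : (Dual.inD A (A ⧸ q) ⟶ K⟦i⟧), ∃ e', e = x • e' := by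
      intro e
      obtain ⟨e4, he'⟩ := exists_factor_of_shortExact (mulSC q x) hS (K⟦i⟧) h3 e
      obtain ⟨e', rfl⟩ : ∃ e3 : Dual.inD A (A ⧸ q) ⟶ K⟦i⟧, e3 = e4 := ⟨e4, rfl⟩
      refine ⟨e', ?_⟩
      rw [he']
      show (singleFunctor (ModuleCat.{u} A) 0).map (x • 𝟙 (ModuleCat.of A (A ⧸ q))) ≫ e' = _
      rw [Functor.map_smul, CategoryTheory.Functor.map_id, Linear.smul_comp, Category.id_comp]
    haveI := subsingleton_of_smul_surjective x hxm hsurj
    exact Subsingleton.elim _ _

include hfinK hk in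
theorem vanish (I : Ideal A) :
    ∀ (M : Type u) [AddCommGroup M] [Module A M] [Module.Finite A M],
      (∀ a ∈ I, ∀ m : M, a • m = 0) → ∀ i : ℤ, b < i → ∀ g : Dual.inD A M ⟶ K⟦i⟧, g = 0 := by
  refine IsNoetherian.induction (P := fun I : Submodule A A =>
    ∀ (M : Type u) [AddCommGroup M] [Module A M] [Module.Finite A M],
      (∀ a ∈ I, ∀ m : M, a • m = 0) → ∀ i : ℤ, b < i → ∀ g : Dual.inD A M ⟶ K⟦i⟧, g = 0) ?_ I
  intro I IH M _ _ hfin
  induction hfin using IsNoetherianRing.induction_on_isQuotientEquivQuotientPrime A with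
  | subsingleton N =>
    intro _ i _ g
    have hz : IsZero (Dual.inD A N) :=
      Functor.map_isZero _ (ModuleCat.isZero_of_subsingleton _)
    exact hz.eq_of_src _ _
  | quotient N p e =>
    intro hkill i hi g
    have hIp : I ≤ p.asIdeal := by
      intro a ha
      have h1 := hkill a ha (e.symm 1)
      have h2 : a • (1 : A ⧸ p.asIdeal) = 0 := by
        have := congrArg e h1
        simpa using this
      have h3 : (Submodule.Quotient.mk (a • (1 : A)) : A ⧸ p.asIdeal) = 0 := h2
      have h4 := (Submodule.Quotient.mk_eq_zero _).mp h3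
      simpa using h4
    have key : ∀ g' : Dual.inD A (A ⧸ p.asIdeal) ⟶ K⟦i⟧, g' = 0 := by
      intro g'
      rcases eq_or_lt_of_le hIp with h | h
      · haveI := p.isPrime
        exact prime_case K b hfinK hk p.asIdeal (fun J hJ => IH J (h ▸ hJ)) i hi g'
      · exact IH p.asIdeal h (A ⧸ p.asIdeal) (quot_killed _) i hi g'
    have := key ((inDIso e).inv ≫ g)
    rw [← cancel_epi (inDIso e).inv, this, comp_zero]
  | exact N₁ N₂ N₃ f g hf hg hfg h₁ h₃ =>
    intro hkill i hi g'
    have hk1 : ∀ a ∈ I, ∀ m : N₁, a • m = 0 := fun a ha m =>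
      hf (by rw [map_smul, hkill a ha, map_zero])
    have hk3 : ∀ a ∈ I, ∀ m : N₃, a • m = 0 := fun a ha m => by
      obtain ⟨m', rfl⟩ := hg m
      rw [← map_smul, hkill a ha, map_zero]
    let S := ModuleCat.shortComplexOfCompEqZero f g hfg.linearMap_comp_eq_zero
    have hS : S.ShortExact := ModuleCat.shortComplex_shortExact S hfg hf hg
    exact eq_zero_of_shortExact S hS _ (h₁ hk1 i hi) (h₃ hk3 i hi) g'

include hfinK hk in
theorem vanish' (M : Type u) [AddCommGroup M] [Module A M] [Module.Finite A M] (i : ℤ)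
    (hi : b < i) (g : Dual.inD A M ⟶ K⟦i⟧) : g = 0 :=
  vanish K b hfinK hk ⊥ M
    (by intro a ha m; rw [(Submodule.mem_bot A).mp ha, zero_smul]) i hi g

end Groth.Agent.Lib.Helper5.Bass
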