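import Mathlib
import Groth.Agent.Lib.Helper5LocDC

/-!
# Flat base change of Hom, part A (helper5)

Generic comparison map `tmap F hF X Y : B ⊗[A] (X ⟶ Y) →+ (F X ⟶ F Y)`, `b ⊗ g ↦ b • F g`, for a
functor `F` from an `A`-linear category to a `B`-linear category which is semilinear along
`A → B`.  For `F = extendScalars` on modules it is bijective when the source is finite free
(`gam_bijective`).
-/

set_option autoImplicit false
universe u v w v' w'
open CategoryTheory CategoryTheory.Limits

namespace Groth.Agent.Lib.Helper5.HomBC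

open TensorProduct

section Generic

variable {A B : Type u} [CommRing A] [CommRing B] [Algebra A B]
  {𝒞 : Type w} [Category.{v} 𝒞] [Preadditive 𝒞] [Linear A 𝒞]
  {𝒟 : Type w'} [Category.{v'} 𝒟] [Preadditive 𝒟] [Linear B 𝒟]
  (F : 𝒞 ⥤ 𝒟) [F.Additive]
  (hF : ∀ (a : A) (X Y : 𝒞) (g : X ⟶ Y), F.map (a • g) = algebraMap A B a • F.map g)

/-- the comparison map `b ⊗ g ↦ b • F g`. -/
noncomputable def tmap (X Y : 𝒞) : B ⊗[A] (X ⟶ Y) →+ (F.obj X ⟶ F.obj Y) :=
  TensorProduct.liftAddHom
    { toFun := fun b =>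
        { toFun := fun g => b • F.map g
          map_zero' := by rw [Functor.map_zero, smul_zero]
          map_add' := fun g g' => by rw [Functor.map_add, smul_add] }
      map_zero' := AddMonoidHom.ext fun g => zero_smul _ _
      map_add' := fun b b' => AddMonoidHom.ext fun g => add_smul _ _ _ }
    (fun r b g => by
      show (r • b) • F.map g = b • F.map (r • g)
      rw [hF, smul_smul, Algebra.smul_def, mul_comm])

lemma tmap_tmul (X Y : 𝒞) (b : B) (g : X ⟶ Y) :
    tmap F hF X Y (b ⊗ₜ[A] g) = b • F.map g := rfl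

lemma tmap_precomp {X' X : 𝒞} (Y : 𝒞) (u : X' ⟶ X) (x : B ⊗[A] (X ⟶ Y)) :
    tmap F hF X' Y (LinearMap.lTensor B (Linear.leftComp A Y u) x) =
      F.map u ≫ tmap F hF X Y x := by
  induction x using TensorProduct.induction_on with
  | zero => rw [map_zero, map_zero, map_zero, comp_zero]
  | tmul b g =>
    rw [LinearMap.lTensor_tmul, tmap_tmul, tmap_tmul, Linear.leftComp_apply, Functor.map_comp,
      Linear.comp_smul]
  | add x y hx hy => rw [map_add, map_add, hx, hy, map_add, Preadditive.comp_add]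

lemma tmap_postcomp (X : 𝒞) {Y Y' : 𝒞} (v : Y ⟶ Y') (x : B ⊗[A] (X ⟶ Y)) :
    tmap F hF X Y' (LinearMap.lTensor B (Linear.rightComp A X v) x) =
      tmap F hF X Y x ≫ F.map v := by
  induction x using TensorProduct.induction_on with
  | zero => rw [map_zero, map_zero, map_zero, zero_comp]
  | tmul b g =>
    rw [LinearMap.lTensor_tmul, tmap_tmul, tmap_tmul, Linear.rightComp_apply, Functor.map_comp,
      Linear.smul_comp]
  | add x y hx hy => rw [map_add, map_add, hx, hy, map_add, Preadditive.add_comp]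

/-- conjugation `t ↦ eX.hom ≫ t ≫ eY.inv` as a linear map. -/
noncomputable def conj {X X' Y Y' : 𝒞} (eX : X ≅ X') (eY : Y ≅ Y') :
    (X' ⟶ Y') →ₗ[A] (X ⟶ Y) :=
  (Linear.leftComp A Y eX.hom).comp (Linear.rightComp A X' eY.inv)

lemma conj_apply {X X' Y Y' : 𝒞} (eX : X ≅ X') (eY : Y ≅ Y') (t : X' ⟶ Y') :
    conj (A := A) eX eY t = eX.hom ≫ t ≫ eY.inv := rfl

lemma conj_conj {X X' Y Y' : 𝒞} (eX : X ≅ X') (eY : Y ≅ Y') :
    (conj (A := A) eX.symm eY.symm).comp (conj (A := A) eX eY) = LinearMap.id := by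
  apply LinearMap.ext
  intro t
  rw [LinearMap.comp_apply, conj_apply, conj_apply, LinearMap.id_apply]
  simp

lemma tmap_conj {X X' Y Y' : 𝒞} (eX : X ≅ X') (eY : Y ≅ Y') (x : B ⊗[A] (X' ⟶ Y')) :
    tmap F hF X Y (LinearMap.lTensor B (conj (A := A) eX eY) x) =
      F.map eX.hom ≫ tmap F hF X' Y' x ≫ F.map eY.inv := by
  unfold conj
  rw [LinearMap.lTensor_comp_apply, tmap_precomp, tmap_postcomp]

theorem tmap_bijective_of_iso {X X' Y Y' : 𝒞} (eX : X ≅ X') (eY : Y ≅ Y')
    (h : Function.Bijective (tmap F hF X Y)) : Function.Bijective (tmap F hF X' Y') := by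
  have hid : ∀ x : B ⊗[A] (X' ⟶ Y'),
      LinearMap.lTensor B (conj (A := A) eX.symm eY.symm)
        (LinearMap.lTensor B (conj (A := A) eX eY) x) = x := by
    intro x
    rw [← LinearMap.lTensor_comp_apply, conj_conj, LinearMap.lTensor_id, LinearMap.id_apply]
  constructor
  · intro x₁ x₂ h12
    have h1 : tmap F hF X Y (LinearMap.lTensor B (conj (A := A) eX eY) x₁) =
        tmap F hF X Y (LinearMap.lTensor B (conj (A := A) eX eY) x₂) := by
      rw [tmap_conj, tmap_conj, h12]
    have h2 := h.1 h1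
    rw [← hid x₁, ← hid x₂, h2]
  · intro u'
    obtain ⟨x, hx⟩ := h.2 (F.map eX.hom ≫ u' ≫ F.map eY.inv)
    refine ⟨LinearMap.lTensor B (conj (A := A) eX.symm eY.symm) x, ?_⟩
    rw [tmap_conj, hx]
    simp only [Iso.symm_hom, Iso.symm_inv, Category.assoc, ← Functor.map_comp, Iso.inv_hom_id,
      CategoryTheory.Functor.map_id, Category.comp_id]
    rw [← Functor.map_comp_assoc, Iso.inv_hom_id, CategoryTheory.Functor.map_id, Category.id_comp]

end Generic

section Mod

open Groth.Agent.Lib.Helper1.Extend Groth.Agent.Lib.Helper5.LocD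

variable {A : Type u} [CommRing A] (B : Type u) [CommRing B] [Algebra A B]

lemma ext_smul' (a : A) (X Y : ModuleCat.{u} A) (g : X ⟶ Y) :
    (ext A B).map (a • g) = algebraMap A B a • (ext A B).map g := ext_map_smul B a g

/-- the comparison map for modules. -/
noncomputable def gam (M N : ModuleCat.{u} A) :
    B ⊗[A] (M ⟶ N) →+ ((ext A B).obj M ⟶ (ext A B).obj N) :=
  tmap (A := A) (B := B) (𝒞 := ModuleCat.{u} A) (𝒟 := ModuleCat.{u} B) (ext A B) (by
    intro a X Y g
    exact ext_map_smul B a g) M N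

lemma gam_tmul (M N : ModuleCat.{u} A) (b : B) (g : M ⟶ N) :
    gam B M N (b ⊗ₜ[A] g) = b • (ext A B).map g := rfl

/-- `g' ↦ (m ↦ g' (1 ⊗ m))`, additive. -/
noncomputable def adjAdd (M N : ModuleCat.{u} A) :
    ((ext A B).obj M ⟶ (ext A B).obj N) →+ (M →ₗ[A] B ⊗[A] N) where
  toFun g' := adjMap B g'
  map_zero' := by
    apply LinearMap.ext
    intro m
    rw [adjMap_apply, ModuleCat.hom_zero, LinearMap.zero_apply, map_zero, LinearMap.zero_apply]
  map_add' g₁ g₂ := by
    apply LinearMap.ext
    intro m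
    rw [LinearMap.add_apply, adjMap_apply, adjMap_apply, adjMap_apply, ModuleCat.hom_add,
      LinearMap.add_apply, map_add]

lemma adjAdd_injective (M N : ModuleCat.{u} A) : Function.Injective (adjAdd B M N) := by
  intro g₁ g₂ h
  apply hom_ext_oneT B
  intro m
  have h1 := LinearMap.congr_fun h m
  exact (extEquiv (A := A) (B := B) N).injective h1

/-- `g ↦ g.hom` as a linear map for the categorical module structure. -/
noncomputable def homL (M N : ModuleCat.{u} A) : (M ⟶ N) →ₗ[A] (M →ₗ[A] N) where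
  toFun g := g.hom
  map_add' _ _ := rfl
  map_smul' _ _ := rfl

/-- the inverse of `homL`. -/
noncomputable def homL' (M N : ModuleCat.{u} A) : (M →ₗ[A] N) →ₗ[A] (M ⟶ N) where
  toFun f := ModuleCat.ofHom f
  map_add' _ _ := rfl
  map_smul' _ _ := rfl

lemma homL'_homL (M N : ModuleCat.{u} A) : (homL' M N).comp (homL M N) = LinearMap.id := by
  apply LinearMap.ext
  intro g
  rfl

lemma homL_homL' (M N : ModuleCat.{u} A) : (homL M N).comp (homL' M N) = LinearMap.id := by
  apply LinearMap.ext
  intro g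
  rfl

lemma adjAdd_gam (M N : ModuleCat.{u} A) (x : B ⊗[A] (M ⟶ N)) :
    adjAdd B M N (gam B M N x) =
      IsBaseChange.linearMapRightBaseChangeHom B M (TensorProduct.mk A B N 1)
        (LinearMap.lTensor B (homL M N) x) := by
  induction x using TensorProduct.induction_on with
  | zero => rw [map_zero, map_zero, map_zero, map_zero]
  | tmul b g =>
    apply LinearMap.ext
    intro m
    have h1 : (b • (ext A B).map g).hom (oneT B M m) = b • ((ext A B).map g).hom (oneT B M m) :=
      rfl
    have h2 : adjAdd B M N (gam B M N (b ⊗ₜ[A] g)) m =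
        extEquiv (A := A) (B := B) N ((b • (ext A B).map g).hom (oneT B M m)) := rfl
    rw [h2, h1, map_smul, map_oneT, extEquiv_oneT, LinearMap.lTensor_tmul]
    rfl
  | add x y hx hy => rw [map_add, map_add, hx, hy, map_add, map_add]

theorem gam_bijective (M N : ModuleCat.{u} A) [Module.Finite A M] [Module.Free A M] :
    Function.Bijective (gam B M N) := by
  have he2 : Function.Bijective
      (IsBaseChange.linearMapRightBaseChangeHom B M (TensorProduct.mk A B N 1)) :=
    (IsBaseChange.linearMapRightBaseChangeEquiv M (TensorProduct.isBaseChange A N B)).bijective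
  have he1 : Function.Bijective (LinearMap.lTensor B (homL M N)) := by
    constructor
    · intro x y hxy
      have h := congrArg (LinearMap.lTensor B (homL' M N)) hxy
      rwa [← LinearMap.lTensor_comp_apply, ← LinearMap.lTensor_comp_apply, homL'_homL,
        LinearMap.lTensor_id, LinearMap.id_apply, LinearMap.id_apply] at h
    · intro y
      refine ⟨LinearMap.lTensor B (homL' M N) y, ?_⟩
      rw [← LinearMap.lTensor_comp_apply, homL_homL', LinearMap.lTensor_id, LinearMap.id_apply]
  constructor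
  · intro x y hxy
    have h := congrArg (adjAdd B M N) hxy
    rw [adjAdd_gam, adjAdd_gam] at h
    exact he1.1 (he2.1 h)
  · intro u
    obtain ⟨y, hy⟩ := he2.2 (adjAdd B M N u)
    obtain ⟨x, hx⟩ := he1.2 y
    refine ⟨x, adjAdd_injective B M N ?_⟩
    rw [adjAdd_gam, hx, hy]

end Mod

end Groth.Agent.Lib.Helper5.HomBC
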