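import Mathlib
import Groth.Agent.Lib.Helper5HomBCA

/-!
# Flat base change of Hom, part B: cochains (helper5)

For complexes `P` (bounded above) and `E` (bounded below) of `A`-modules, the comparison map
`bet n : B ⊗[A] Cochain P E n →+ Cochain P_B E_B n` is injective (surjective) as soon as the
module level comparison maps `gam` are.
-/

set_option autoImplicit false
universe u
open CategoryTheory CategoryTheory.Limits

namespace Groth.Agent.Lib.Helper5.HomBC

open TensorProduct CochainComplex HomComplex Groth.Agent.Lib.Helper1.Extend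
  Groth.Agent.Lib.Helper5.LocD

section OneRing

variable {R : Type u} [CommRing R] (P E : CochainComplex (ModuleCat.{u} R) ℤ)

/-- evaluation of cochains, as a linear map. -/
noncomputable def piv {n : ℤ} (p q : ℤ) (hpq : p + n = q) :
    Cochain P E n →ₗ[R] (P.X p ⟶ E.X q) where
  toFun z := z.v p q hpq
  map_add' z z' := Cochain.add_v z z' p q hpq
  map_smul' a z := Cochain.smul_v a z p q hpq

lemma piv_apply {n : ℤ} (p q : ℤ) (hpq : p + n = q) (z : Cochain P E n) :
    piv P E p q hpq z = z.v p q hpq := rfl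

lemma single_add' (p n : ℤ) (f g : P.X p ⟶ E.X (p + n)) :
    Cochain.single (f + g) n = Cochain.single f n + Cochain.single g n := by
  refine Cochain.ext _ _ (fun p' q' hpq' => ?_)
  by_cases hp : p' = p
  · subst hp
    obtain rfl : q' = p' + n := hpq'.symm
    rw [Cochain.add_v, Cochain.single_v, Cochain.single_v, Cochain.single_v]
  · rw [Cochain.add_v, Cochain.single_v_eq_zero _ _ _ _ _ hp,
      Cochain.single_v_eq_zero _ _ _ _ _ hp, Cochain.single_v_eq_zero _ _ _ _ _ hp, add_zero]

lemma single_smul' (p n : ℤ) (r : R) (f : P.X p ⟶ E.X (p + n)) :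
    Cochain.single (r • f) n = r • Cochain.single f n := by
  refine Cochain.ext _ _ (fun p' q' hpq' => ?_)
  by_cases hp : p' = p
  · subst hp
    obtain rfl : q' = p' + n := hpq'.symm
    rw [Cochain.smul_v, Cochain.single_v, Cochain.single_v]
  · rw [Cochain.smul_v, Cochain.single_v_eq_zero _ _ _ _ _ hp,
      Cochain.single_v_eq_zero _ _ _ _ _ hp, smul_zero]

/-- the cochain with a single nonzero component, as a linear map. -/
noncomputable def sing (p n : ℤ) : (P.X p ⟶ E.X (p + n)) →ₗ[R] Cochain P E n where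
  toFun f := Cochain.single f n
  map_add' f g := single_add' P E p n f g
  map_smul' r f := single_smul' P E p n r f

lemma sing_apply (p n : ℤ) (f : P.X p ⟶ E.X (p + n)) :
    sing P E p n f = Cochain.single f n := rfl

lemma piv_sing_self (p n : ℤ) (f : P.X p ⟶ E.X (p + n)) :
    piv P E p (p + n) rfl (sing P E p n f) = f := Cochain.single_v f n rfl

lemma piv_sing_ne (p p' n : ℤ) (f : P.X p' ⟶ E.X (p' + n)) (h : p ≠ p') :
    piv P E p (p + n) rfl (sing P E p' n f) = 0 :=
  Cochain.single_v_eq_zero f n p (p + n) rfl h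

lemma cochain_eq_sum (bP a : ℤ) (hP : ∀ i : ℤ, bP < i → IsZero (P.X i))
    (hE : ∀ i : ℤ, i < a → IsZero (E.X i)) (n : ℤ) (z : Cochain P E n) :
    z = ∑ p ∈ Finset.Icc (a - n) bP, sing P E p n (z.v p (p + n) rfl) := by
  refine Cochain.ext _ _ (fun p q hpq => ?_)
  subst hpq
  show z.v p (p + n) rfl = piv P E p (p + n) rfl
    (∑ p' ∈ Finset.Icc (a - n) bP, sing P E p' n (z.v p' (p' + n) rfl))
  rw [map_sum]
  by_cases hp : p ∈ Finset.Icc (a - n) bP
  · rw [Finset.sum_eq_single p
      (fun p' _ hne => piv_sing_ne P E p p' n _ (Ne.symm hne))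
      (fun h => absurd hp h)]
    exact (piv_sing_self P E p n _).symm
  · rw [Finset.sum_eq_zero (fun p' hp' => piv_sing_ne P E p p' n _
      (fun h => hp (by rw [h]; exact hp')))]
    have hz : IsZero (P.X p) ∨ IsZero (E.X (p + n)) := by
      by_cases h1 : bP < p
      · exact Or.inl (hP p h1)
      · refine Or.inr (hE _ ?_)
        simp only [Finset.mem_Icc, not_and_or, not_le] at hp
        lia
    rcases hz with hz | hz
    · exact hz.eq_of_src _ _
    · exact hz.eq_of_tgt _ _

lemma id_eq_sum (bP a : ℤ) (hP : ∀ i : ℤ, bP < i → IsZero (P.X i))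
    (hE : ∀ i : ℤ, i < a → IsZero (E.X i)) (n : ℤ) :
    (LinearMap.id : Cochain P E n →ₗ[R] Cochain P E n) =
      ∑ p ∈ Finset.Icc (a - n) bP, (sing P E p n).comp (piv P E p (p + n) rfl) := by
  apply LinearMap.ext
  intro z
  rw [LinearMap.id_apply, LinearMap.sum_apply]
  exact cochain_eq_sum P E bP a hP hE n z

lemma map_single' {R' : Type u} [CommRing R'] (Φ : ModuleCat.{u} R ⥤ ModuleCat.{u} R')
    [Φ.Additive] (p n : ℤ) (f : P.X p ⟶ E.X (p + n)) :
    (Cochain.single f n).map Φ =
      Cochain.single (K := (Φ.mapHomologicalComplex (ComplexShape.up ℤ)).obj P)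
        (L := (Φ.mapHomologicalComplex (ComplexShape.up ℤ)).obj E) (p := p) (q := p + n)
        (Φ.map f) n := by
  refine Cochain.ext _ _ (fun p' q' hpq' => ?_)
  by_cases hp : p' = p
  · subst hp
    obtain rfl : q' = p' + n := hpq'.symm
    rw [Cochain.map_v, Cochain.single_v, Cochain.single_v]
  · rw [Cochain.map_v, Cochain.single_v_eq_zero _ _ _ _ _ hp,
      Cochain.single_v_eq_zero _ _ _ _ _ hp, Functor.map_zero]
    rfl

end OneRing

section TwoRings

variable {A : Type u} [CommRing A] (B : Type u) [CommRing B] [Algebra A B]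
  (P E : CochainComplex (ModuleCat.{u} A) ℤ)

/-- the comparison map on cochains, `b ⊗ z ↦ b • z_B`. -/
noncomputable def bet (n : ℤ) :
    B ⊗[A] Cochain P E n →+ Cochain ((eCx B).obj P) ((eCx B).obj E) n :=
  TensorProduct.liftAddHom
    { toFun := fun b =>
        { toFun := fun z => b • z.map (ext A B)
          map_zero' := by rw [Cochain.map_zero, smul_zero]
          map_add' := fun z z' => by rw [Cochain.map_add, smul_add] }
      map_zero' := AddMonoidHom.ext fun z => zero_smul _ _
      map_add' := fun b b' => AddMonoidHom.ext fun z => add_smul _ _ _ }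
    (fun r b z => by
      show (r • b) • z.map (ext A B) = b • (r • z).map (ext A B)
      rw [cochain_map_smul, smul_smul, Algebra.smul_def, mul_comm])

lemma bet_tmul (n : ℤ) (b : B) (z : Cochain P E n) :
    bet B P E n (b ⊗ₜ[A] z) = b • z.map (ext A B) := rfl

lemma bet_δ (n m : ℤ) (x : B ⊗[A] Cochain P E n) :
    δ n m (bet B P E n x) = bet B P E m (LinearMap.lTensor B (δ_hom A P E n m) x) := by
  induction x using TensorProduct.induction_on with
  | zero => rw [map_zero, δ_zero, map_zero, map_zero]
  | tmul b z =>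
    rw [LinearMap.lTensor_tmul, bet_tmul, bet_tmul, δ_smul, δ_map]
    rfl
  | add x y hx hy => rw [map_add, δ_add, hx, hy, map_add, map_add]

lemma bet_v (n p q : ℤ) (hpq : p + n = q) (x : B ⊗[A] Cochain P E n) :
    (bet B P E n x).v p q hpq =
      gam B (P.X p) (E.X q) (LinearMap.lTensor B (piv P E p q hpq) x) := by
  induction x using TensorProduct.induction_on with
  | zero =>
    rw [map_zero, Cochain.zero_v, map_zero, map_zero]
    rfl
  | tmul b z =>
    rw [LinearMap.lTensor_tmul, bet_tmul, gam_tmul, Cochain.smul_v, Cochain.map_v]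
    rfl
  | add x y hx hy =>
    rw [map_add, Cochain.add_v, hx, hy, map_add, map_add]
    rfl

/-- `sing` for the base changed complexes, with source type spelled via `ext`. -/
noncomputable def singB (p n : ℤ) :
    ((ext A B).obj (P.X p) ⟶ (ext A B).obj (E.X (p + n))) →ₗ[B]
      Cochain ((eCx B).obj P) ((eCx B).obj E) n :=
  sing ((eCx B).obj P) ((eCx B).obj E) p n

lemma bet_sing (p n : ℤ) (y : B ⊗[A] (P.X p ⟶ E.X (p + n))) :
    bet B P E n (LinearMap.lTensor B (sing P E p n) y) =
      singB B P E p n (gam B (P.X p) (E.X (p + n)) y) := by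
  induction y using TensorProduct.induction_on with
  | zero => rw [map_zero, map_zero, map_zero, map_zero]
  | tmul b g =>
    rw [LinearMap.lTensor_tmul, bet_tmul, gam_tmul, map_smul]
    congr 1
    exact map_single' P E (ext A B) p n g
  | add x y hx hy => rw [map_add, map_add, hx, hy, map_add, map_add]

theorem bet_injective (bP a : ℤ) (hP : ∀ i : ℤ, bP < i → IsZero (P.X i))
    (hE : ∀ i : ℤ, i < a → IsZero (E.X i))
    (hγ : ∀ p q : ℤ, Function.Injective (gam B (P.X p) (E.X q))) (n : ℤ) :
    Function.Injective (bet B P E n) := by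
  rw [injective_iff_map_eq_zero]
  intro x hx
  have h1 : ∀ p : ℤ, LinearMap.lTensor B (piv P E p (p + n) rfl) x = 0 := fun p =>
    hγ _ _ (by
      rw [← bet_v, hx, Cochain.zero_v, map_zero]
      rfl)
  have h2 : x = LinearMap.lTensor B LinearMap.id x := by
    rw [LinearMap.lTensor_id, LinearMap.id_apply]
  have h3 : LinearMap.lTensor B (∑ p ∈ Finset.Icc (a - n) bP,
      (sing P E p n).comp (piv P E p (p + n) rfl)) =
      ∑ p ∈ Finset.Icc (a - n) bP,
        LinearMap.lTensor B ((sing P E p n).comp (piv P E p (p + n) rfl)) := by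
    simp only [← LinearMap.coe_lTensorHom, map_sum]
  rw [h2, id_eq_sum P E bP a hP hE n, h3, LinearMap.sum_apply]
  refine Finset.sum_eq_zero (fun p _ => ?_)
  rw [LinearMap.lTensor_comp_apply, h1, map_zero]

theorem bet_surjective (bP a : ℤ) (hP : ∀ i : ℤ, bP < i → IsZero (P.X i))
    (hE : ∀ i : ℤ, i < a → IsZero (E.X i))
    (hγ : ∀ p q : ℤ, Function.Surjective (gam B (P.X p) (E.X q))) (n : ℤ) :
    Function.Surjective (bet B P E n) := by
  intro z'
  have hP' : ∀ i : ℤ, bP < i → IsZero (((eCx B).obj P).X i) := fun i hi =>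
    (ext A B).map_isZero (hP i hi)
  have hE' : ∀ i : ℤ, i < a → IsZero (((eCx B).obj E).X i) := fun i hi =>
    (ext A B).map_isZero (hE i hi)
  choose y hy using fun p : ℤ => hγ p (p + n) (z'.v p (p + n) rfl)
  refine ⟨∑ p ∈ Finset.Icc (a - n) bP, LinearMap.lTensor B (sing P E p n) (y p), ?_⟩
  rw [map_sum]
  refine Eq.trans ?_ (cochain_eq_sum ((eCx B).obj P) ((eCx B).obj E) bP a hP' hE' n z').symm
  refine Finset.sum_congr rfl (fun p _ => ?_)
  rw [bet_sing, hy]
  rfl

end TwoRings

end Groth.Agent.Lib.Helper5.HomBC
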