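import Mathlib
import Groth.Agent.Lib.Helper5HomBCB

/-!
# Flat base change of Hom in the derived category (helper5)

`A → B` flat, `extD A B : D(A) ⥤ D(B)` the induced functor.  For `K` pseudo-coherent (represented
by a bounded above complex of finite free modules) and `Y` represented by a bounded below complex
the comparison map `bc B K Y : B ⊗[A] Hom(K, Y) →+ Hom(K_B, Y_B)`, `b ⊗ t ↦ b • t_B`, is
bijective (`bc_bijective`).
-/

set_option autoImplicit false
universe u
open CategoryTheory CategoryTheory.Limits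
attribute [local instance] HasDerivedCategory.standard

namespace Groth.Agent.Lib.Helper5.HomBC

open TensorProduct CochainComplex HomComplex DerivedCategory Groth.Agent.Lib.Helper1.Extend
  Groth.Agent.Lib.Helper5.LocD

section OneRing

variable {R : Type u} [CommRing R]

lemma exists_Q_map_eq' {K L : CochainComplex (ModuleCat.{u} R) ℤ} [K.IsKProjective]
    (y : Q.obj K ⟶ Q.obj L) : ∃ g : K ⟶ L, Q.map g = y := by
  obtain ⟨g', hg'⟩ := (CochainComplex.IsKProjective.Qh_map_bijective K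
    ((HomotopyCategory.quotient _ _).obj L)).surjective
      ((quotientCompQhIso (ModuleCat.{u} R)).hom.app K ≫ y ≫
        (quotientCompQhIso (ModuleCat.{u} R)).inv.app L)
  obtain ⟨g, rfl⟩ := (HomotopyCategory.quotient _ _).map_surjective g'
  refine ⟨g, ?_⟩
  have h1 := quotientCompQhIso_hom_naturality g
  rw [hg'] at h1
  simp only [Category.assoc, Iso.inv_hom_id_app, Category.comp_id] at h1
  exact ((cancel_epi ((quotientCompQhIso (ModuleCat.{u} R)).hom.app K)).1 h1).symm

lemma homotopy_of_Q_map_eq' {K L : CochainComplex (ModuleCat.{u} R) ℤ} [K.IsKProjective]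
    (f g : K ⟶ L) (h : Q.map f = Q.map g) : Nonempty (Homotopy f g) := by
  have h' : Qh.map ((HomotopyCategory.quotient _ _).map f) =
      Qh.map ((HomotopyCategory.quotient _ _).map g) := h
  exact ⟨HomotopyCategory.homotopyOfEq _ _
    ((CochainComplex.IsKProjective.Qh_map_bijective K _).injective h')⟩

lemma isKProjective_of_bddAbove (P : CochainComplex (ModuleCat.{u} R) ℤ) (b : ℤ)
    (h : ∀ i : ℤ, b < i → IsZero (P.X i)) (hproj : ∀ i : ℤ, Module.Projective R (P.X i)) :
    P.IsKProjective := by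
  haveI : P.IsStrictlyLE b := by
    rw [CochainComplex.isStrictlyLE_iff]
    exact h
  haveI : ∀ n : ℤ, Projective (P.X n) := fun n => by
    haveI := hproj n
    infer_instance
  exact CochainComplex.isKProjective_of_projective P b

variable (P E : CochainComplex (ModuleCat.{u} R) ℤ)

/-- degree zero cocycles, as a submodule. -/
noncomputable def Z0 : Submodule R (Cochain P E 0) := LinearMap.ker (δ_hom R P E 0 1)

lemma mem_Z0 (z : Cochain P E 0) : z ∈ Z0 P E ↔ δ 0 1 z = 0 := LinearMap.mem_ker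

/-- the chain map of a cocycle. -/
noncomputable def chainOf (z : Z0 P E) : P ⟶ E :=
  Cocycle.homOf (Cocycle.mk z.1 1 (zero_add 1) ((mem_Z0 P E z.1).1 z.2))

lemma ofHom_chainOf (z : Z0 P E) : Cochain.ofHom (chainOf P E z) = z.1 :=
  Cocycle.cochain_ofHom_homOf_eq_coe _

lemma chainOf_eq (z : Z0 P E) (f : P ⟶ E) (h : Cochain.ofHom f = z.1) : chainOf P E z = f :=
  Cochain.ofHom_injective ((ofHom_chainOf P E z).trans h.symm)

/-- the class of a cocycle in the derived category. -/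
noncomputable def qZ : Z0 P E →ₗ[R] (Q.obj P ⟶ Q.obj E) where
  toFun z := Q.map (chainOf P E z)
  map_add' z z' := by
    rw [← Functor.map_add]
    congr 1
  map_smul' r z := by
    rw [RingHom.id_apply, ← Functor.map_smul]
    congr 1

lemma qZ_apply (z : Z0 P E) : qZ P E z = Q.map (chainOf P E z) := rfl

lemma qZ_surjective [P.IsKProjective] : Function.Surjective (qZ P E) := by
  intro t
  obtain ⟨f, hf⟩ := exists_Q_map_eq' t
  refine ⟨⟨Cochain.ofHom f, (mem_Z0 P E _).2 (δ_ofHom f)⟩, ?_⟩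
  rw [qZ_apply, chainOf_eq P E _ f rfl, hf]

lemma exists_of_qZ_eq_zero [P.IsKProjective] (z : Z0 P E) (h : qZ P E z = 0) :
    ∃ w : Cochain P E (-1), δ (-1) 0 w = z.1 := by
  have h0 : Q.map (chainOf P E z) = Q.map 0 := h.trans (Functor.map_zero _ _ _).symm
  obtain ⟨ho⟩ := homotopy_of_Q_map_eq' _ _ h0
  obtain ⟨w, hw⟩ := Cochain.equivHomotopy _ _ ho
  rw [Cochain.ofHom_zero, add_zero, ofHom_chainOf] at hw
  exact ⟨w, hw.symm⟩

/-- the coboundary map into cocycles. -/
noncomputable def dZ : Cochain P E (-1) →ₗ[R] Z0 P E :=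
  LinearMap.codRestrict (Z0 P E) (δ_hom R P E (-1) 0)
    (fun w => (mem_Z0 P E _).2 (δ_δ (-1) 0 1 w))

lemma dZ_coe (w : Cochain P E (-1)) : (dZ P E w).1 = δ (-1) 0 w := rfl

lemma subtype_comp_dZ : (Z0 P E).subtype.comp (dZ P E) = δ_hom R P E (-1) 0 :=
  LinearMap.subtype_comp_codRestrict _ _ _

lemma qZ_dZ (w : Cochain P E (-1)) : qZ P E (dZ P E w) = 0 := by
  have ho : Homotopy (chainOf P E (dZ P E w)) 0 :=
    (Cochain.equivHomotopy _ _).symm ⟨w, by
      rw [Cochain.ofHom_zero, add_zero, ofHom_chainOf]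
      rfl⟩
  exact (Q_map_eq_of_homotopy _ ho).trans (Functor.map_zero _ _ _)

lemma qZ_comp_dZ : (qZ P E).comp (dZ P E) = 0 :=
  LinearMap.ext (fun w => qZ_dZ P E w)

lemma δ_comp_subtype : (δ_hom R P E 0 1).comp (Z0 P E).subtype = 0 := by
  apply LinearMap.ext
  intro z
  exact (mem_Z0 P E z.1).1 z.2

lemma exact_subtype_δ : Function.Exact (Z0 P E).subtype (δ_hom R P E 0 1) := by
  intro z
  constructor
  · intro hz
    exact ⟨⟨z, (mem_Z0 P E z).2 hz⟩, rfl⟩
  · rintro ⟨z0, rfl⟩
    exact (mem_Z0 P E z0.1).1 z0.2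

end OneRing

section TwoRings

variable {A : Type u} [CommRing A] (B : Type u) [CommRing B] [Algebra A B] [Module.Flat A B]
  (P E : CochainComplex (ModuleCat.{u} A) ℤ)

/-- the comparison map on cocycles. -/
noncomputable def betZ : B ⊗[A] Z0 P E →+ Z0 ((eCx B).obj P) ((eCx B).obj E) :=
  AddMonoidHom.codRestrict
    ((bet B P E 0).comp (LinearMap.lTensor B (Z0 P E).subtype).toAddMonoidHom)
    (Z0 ((eCx B).obj P) ((eCx B).obj E))
    (fun x => by
      rw [mem_Z0]
      show δ 0 1 (bet B P E 0 (LinearMap.lTensor B (Z0 P E).subtype x)) = 0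
      rw [bet_δ, ← LinearMap.lTensor_comp_apply, δ_comp_subtype, LinearMap.lTensor_zero,
        LinearMap.zero_apply, map_zero])

lemma betZ_coe (x : B ⊗[A] Z0 P E) :
    (betZ B P E x).1 = bet B P E 0 (LinearMap.lTensor B (Z0 P E).subtype x) := rfl

/-- the derived comparison map `b ⊗ t ↦ b • t_B`. -/
noncomputable def bc (K Y : Dual.D A) :
    B ⊗[A] (K ⟶ Y) →+ ((extD A B).obj K ⟶ (extD A B).obj Y) :=
  tmap (A := A) (B := B) (𝒞 := Dual.D A) (𝒟 := Dual.D B) (extD A B) (by
    intro a X Y g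
    exact extD_map_smul B a g) K Y

lemma bc_tmul (K Y : Dual.D A) (b : B) (t : K ⟶ Y) :
    bc B K Y (b ⊗ₜ[A] t) = b • (extD A B).map t := rfl

lemma star (w : B ⊗[A] Z0 P E) :
    (mapQIso (ext A B) P).inv ≫ bc B (Q.obj P) (Q.obj E) (LinearMap.lTensor B (qZ P E) w) ≫
      (mapQIso (ext A B) E).hom = qZ ((eCx B).obj P) ((eCx B).obj E) (betZ B P E w) := by
  induction w using TensorProduct.induction_on with
  | zero => rw [map_zero, map_zero, map_zero, map_zero, zero_comp, comp_zero]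
  | tmul b z =>
    rw [LinearMap.lTensor_tmul, bc_tmul, Linear.smul_comp, Linear.comp_smul]
    have h1 := mapQ_naturality B (chainOf P E z)
    have h2 : (mapQIso (ext A B) P).inv ≫ (extD A B).map (qZ P E z) ≫
        (mapQIso (ext A B) E).hom = Q.map ((eCx B).map (chainOf P E z)) := by
      rw [qZ_apply, h1, Iso.inv_hom_id_assoc]
    rw [h2, ← Functor.map_smul, qZ_apply]
    congr 1
  | add x y hx hy =>
    rw [map_add, map_add, map_add, map_add, Preadditive.add_comp, Preadditive.comp_add, hx, hy]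

theorem bcQ_bijective (bP a : ℤ) (hP : ∀ i : ℤ, bP < i → IsZero (P.X i))
    (hff : ∀ i : ℤ, Module.Finite A (P.X i) ∧ Module.Free A (P.X i))
    (hE : ∀ i : ℤ, i < a → IsZero (E.X i)) :
    Function.Bijective (bc B (Q.obj P) (Q.obj E)) := by
  haveI : P.IsKProjective := isKProjective_of_bddAbove P bP hP (fun i => by
    haveI := (hff i).2
    infer_instance)
  haveI : ((eCx B).obj P).IsKProjective := isKProjective_of_bddAbove _ bP
    (fun i hi => (ext A B).map_isZero (hP i hi))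
    (fun i => by
      have h := FF_ext (A := A) (B := B) (P.X i) ⟨(hff i).1, (hff i).2⟩
      haveI : Module.Free B ((ext A B).obj (P.X i)) := h.2
      exact (inferInstance : Module.Projective B ((ext A B).obj (P.X i))))
  have hγ : ∀ p q : ℤ, Function.Bijective (gam B (P.X p) (E.X q)) := fun p q => by
    haveI := (hff p).1
    haveI := (hff p).2
    exact gam_bijective B _ _
  have hβi : ∀ n : ℤ, Function.Injective (bet B P E n) := fun n =>
    bet_injective B P E bP a hP hE (fun p q => (hγ p q).1) n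
  have hβs : ∀ n : ℤ, Function.Surjective (bet B P E n) := fun n =>
    bet_surjective B P E bP a hP hE (fun p q => (hγ p q).2) n
  have hZs : Function.Surjective (betZ B P E) := by
    intro z'
    obtain ⟨w, hw⟩ := hβs 0 z'.1
    have h1 : LinearMap.lTensor B (δ_hom A P E 0 1) w = 0 := by
      apply hβi 1
      rw [← bet_δ, hw, map_zero]
      exact (mem_Z0 _ _ z'.1).1 z'.2
    have hex : Function.Exact (LinearMap.lTensor B (Z0 P E).subtype)
        (LinearMap.lTensor B (δ_hom A P E 0 1)) :=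
      Module.Flat.lTensor_exact B (exact_subtype_δ P E)
    obtain ⟨w₀, hw₀⟩ := (hex w).1 h1
    refine ⟨w₀, Subtype.ext ?_⟩
    rw [betZ_coe, hw₀, hw]
  constructor
  · rw [injective_iff_map_eq_zero]
    intro x hx
    obtain ⟨w₀, rfl⟩ := LinearMap.lTensor_surjective B (qZ_surjective P E) x
    have h1 : qZ _ _ (betZ B P E w₀) = 0 := by
      rw [← star, hx, zero_comp, comp_zero]
    obtain ⟨h', hh'⟩ := exists_of_qZ_eq_zero _ _ _ h1
    obtain ⟨v, rfl⟩ := hβs (-1) h'
    have h2 : LinearMap.lTensor B (Z0 P E).subtype w₀ =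
        LinearMap.lTensor B (δ_hom A P E (-1) 0) v := by
      apply hβi 0
      rw [← bet_δ, hh', betZ_coe]
    have h3 : w₀ = LinearMap.lTensor B (dZ P E) v := by
      apply Module.Flat.lTensor_preserves_injective_linearMap (M := B) (Z0 P E).subtype
        (Z0 P E).injective_subtype
      rw [h2, ← LinearMap.lTensor_comp_apply, subtype_comp_dZ]
    rw [h3, ← LinearMap.lTensor_comp_apply, qZ_comp_dZ, LinearMap.lTensor_zero,
      LinearMap.zero_apply]
  · intro u'
    obtain ⟨z', hz'⟩ := qZ_surjective ((eCx B).obj P) ((eCx B).obj E)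
      ((mapQIso (ext A B) P).inv ≫ u' ≫ (mapQIso (ext A B) E).hom)
    obtain ⟨w₀, hw₀⟩ := hZs z'
    refine ⟨LinearMap.lTensor B (qZ P E) w₀, ?_⟩
    have h := star B P E w₀
    rw [hw₀, hz'] at h
    have h5 := (cancel_epi (mapQIso (ext A B) P).inv).1 h
    exact (cancel_mono (mapQIso (ext A B) E).hom).1 h5

/-- `Y` is represented by a bounded below complex. -/
def HasBBRes (Y : Dual.D A) : Prop :=
  ∃ (E : CochainComplex (ModuleCat.{u} A) ℤ) (a : ℤ), (∀ i : ℤ, i < a → IsZero (E.X i)) ∧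
    Nonempty (Q.obj E ≅ Y)

theorem bc_bijective {K Y : Dual.D A} (hK : DRing.IsPseudoCoherent' A K) (hY : HasBBRes Y) :
    Function.Bijective (bc B K Y) := by
  obtain ⟨P, bP, hP, hff, ⟨eK⟩⟩ := hK
  obtain ⟨E, a, hE, ⟨eY⟩⟩ := hY
  exact tmap_bijective_of_iso _ _ eK eY (bcQ_bijective B P E bP a hP hff hE)

lemma HasBBRes.of_iso {Y Y' : Dual.D A} (e : Y ≅ Y') (h : HasBBRes Y) : HasBBRes Y' := by
  obtain ⟨E, a, hE, ⟨e'⟩⟩ := h
  exact ⟨E, a, hE, ⟨e' ≪≫ e⟩⟩

lemma HasBBRes.shift {Y : Dual.D A} (h : HasBBRes Y) (n : ℤ) : HasBBRes (Y⟦n⟧) := by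
  obtain ⟨E, a, hE, ⟨e⟩⟩ := h
  exact ⟨E⟦n⟧, a - n, fun i hi => hE (i + n) (by lia),
    ⟨(Q.commShiftIso n).app E ≪≫ (CategoryTheory.shiftFunctor (Dual.D A) n).mapIso e⟩⟩

lemma hasBBRes_of_isGE (Y : Dual.D A) (a : ℤ) [Y.IsGE a] : HasBBRes Y := by
  obtain ⟨E, hE, ⟨e⟩⟩ := DerivedCategory.exists_iso_Q_obj_of_isGE Y a
  exact ⟨E, a, fun i hi => E.isZero_of_isStrictlyGE a i hi, ⟨e.symm⟩⟩

lemma hasBBRes_of_hasInjRes {Y : Dual.D A} (h : HasInjRes Y) : HasBBRes Y := by
  obtain ⟨E, a, hE, -, he⟩ := h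
  exact ⟨E, a, hE, he⟩

end TwoRings

end Groth.Agent.Lib.Helper5.HomBC
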