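import Mathlib
import Groth.Agent.Lib.Helper5HomBCC
import Groth.Agent.Lib.Helper5LocDD

/-!
# Consequences of flat base change of Hom (helper5)

Ascent and descent of vanishing of `Hom` and of bijectivity of `A → End(K)` along a flat
(faithfully flat) ring map, and faithfully flat descent of dualizing complexes
(`isDualizing_of_extD`).
-/

set_option autoImplicit false
universe u
open CategoryTheory CategoryTheory.Limits
attribute [local instance] HasDerivedCategory.standard

namespace Groth.Agent.Lib.Helper5.HomBC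

open TensorProduct DerivedCategory Groth.Agent.Lib.Helper1.Extend Groth.Agent.Lib.Helper5.LocD
  Groth.Agent.Lib.Helper5.BiDual

lemma subsingleton_hom_of_isos {C : Type*} [Category C] {X X' Y Y' : C} (eX : X ≅ X')
    (eY : Y ≅ Y') (h : Subsingleton (X ⟶ Y)) : Subsingleton (X' ⟶ Y') :=
  ⟨fun u v => by
    have h1 : eX.hom ≫ u ≫ eY.inv = eX.hom ≫ v ≫ eY.inv := Subsingleton.elim _ _
    exact (cancel_mono eY.inv).1 ((cancel_epi eX.hom).1 h1)⟩

section PC

variable {A : Type u} [CommRing A]

lemma pc'_of_bdd_finite [IsNoetherianRing A] (K : Dual.D A)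
    (hb : ∃ b : ℤ, ∀ i : ℤ, b < i → Subsingleton (Dual.HD A K i))
    (hfin : ∀ i : ℤ, Module.Finite A (Dual.HD A K i)) : DRing.IsPseudoCoherent' A K :=
  Groth.Agent.Lib.Helper1.PCTower.isPseudoCoherent'_of_forall K fun m =>
    ((Groth.Agent.S6942.result A m K A).1).2 ⟨hb, fun i _ => hfin i⟩

lemma pc'_inD_of_finite [IsNoetherianRing A] (M : Type u) [AddCommGroup M] [Module A M]
    [Module.Finite A M] : DRing.IsPseudoCoherent' A (Dual.inD A M) :=
  ((Groth.Agent.S6942.result A 0 (Dual.inD A M) M).2).2 inferInstance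

lemma pc'_of_isDualizing (ω : Dual.D A) (hω : Dual.IsDualizing A ω) :
    DRing.IsPseudoCoherent' A ω := by
  haveI := hω.isNoetherianRing
  obtain ⟨T⟩ := nonempty_res ω hω
  exact pc'_of_bdd_finite ω ⟨T.b, fun i hi => subsingleton_HD_of_res T i (Or.inr hi)⟩
    hω.finite_cohomology

lemma hasBBRes_of_isDualizing (ω : Dual.D A) (hω : Dual.IsDualizing A ω) : HasBBRes ω := by
  obtain ⟨T⟩ := nonempty_res ω hω
  exact hasBBRes_of_hasInjRes (hasInjRes_of_res T)

end PC

section Flat

variable {A : Type u} [CommRing A] (B : Type u) [CommRing B] [Algebra A B] [Module.Flat A B]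

/-- ascent of vanishing of `Hom` along a flat map. -/
theorem subsingleton_hom_extD {K Y : Dual.D A} (hK : DRing.IsPseudoCoherent' A K)
    (hY : HasBBRes Y) (h : Subsingleton (K ⟶ Y)) :
    Subsingleton ((extD A B).obj K ⟶ (extD A B).obj Y) := by
  have h0 : ∀ x : B ⊗[A] (K ⟶ Y), x = 0 := by
    intro x
    induction x using TensorProduct.induction_on with
    | zero => rfl
    | tmul b t => rw [Subsingleton.elim t 0, TensorProduct.tmul_zero]
    | add x y hx hy => rw [hx, hy, add_zero]
  refine ⟨fun u v => ?_⟩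
  obtain ⟨x, rfl⟩ := (bc_bijective B hK hY).2 u
  obtain ⟨y, rfl⟩ := (bc_bijective B hK hY).2 v
  rw [h0 x, h0 y]

/-- the map `a ↦ a • 𝟙 K`, linear. -/
noncomputable def toEndL (K : Dual.D A) : A →ₗ[A] (K ⟶ K) :=
  LinearMap.toSpanSingleton A (K ⟶ K) (𝟙 K)

lemma toEndL_apply (K : Dual.D A) (a : A) : toEndL K a = a • 𝟙 K := rfl

lemma bc_toEndL (K : Dual.D A) (x : B ⊗[A] A) :
    bc B K K (LinearMap.lTensor B (toEndL K) x) =
      (TensorProduct.rid A B x) • 𝟙 ((extD A B).obj K) := by
  induction x using TensorProduct.induction_on with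
  | zero => rw [map_zero, map_zero, map_zero, zero_smul]
  | tmul b a =>
    rw [LinearMap.lTensor_tmul, bc_tmul, toEndL_apply, TensorProduct.rid_tmul, extD_map_smul,
      CategoryTheory.Functor.map_id, smul_smul, Algebra.smul_def, mul_comm]
  | add x y hx hy => rw [map_add, map_add, hx, hy, map_add, add_smul]

/-- ascent of `A ≃ End(K)` along a flat map. -/
theorem toEnd_bijective_extD {K : Dual.D A} (hK : DRing.IsPseudoCoherent' A K)
    (hY : HasBBRes K) (h : Function.Bijective (fun a : A => a • 𝟙 K)) :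
    Function.Bijective (fun b : B => b • 𝟙 ((extD A B).obj K)) := by
  have h1 : Function.Bijective (LinearMap.lTensor B (toEndL K)) :=
    ((LinearEquiv.ofBijective (toEndL K) h).lTensor B).bijective
  have h2 := (bc_bijective B hK hY).comp h1
  have h3 : (fun b : B => b • 𝟙 ((extD A B).obj K)) =
      (⇑(bc B K K) ∘ ⇑(LinearMap.lTensor B (toEndL K))) ∘ ⇑(TensorProduct.rid A B).symm := by
    funext b
    rw [Function.comp_apply, Function.comp_apply, bc_toEndL, LinearEquiv.apply_symm_apply]
  rw [h3]
  exact h2.comp (TensorProduct.rid A B).symm.bijective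

end Flat

section FFlat

variable {A : Type u} [CommRing A] (B : Type u) [CommRing B] [Algebra A B]
  [Module.FaithfullyFlat A B]

/-- descent of vanishing of `Hom` along a faithfully flat map. -/
theorem subsingleton_hom_of_extD {K Y : Dual.D A} (hK : DRing.IsPseudoCoherent' A K)
    (hY : HasBBRes Y) (h : Subsingleton ((extD A B).obj K ⟶ (extD A B).obj Y)) :
    Subsingleton (K ⟶ Y) := by
  haveI : Subsingleton (B ⊗[A] (K ⟶ Y)) := (bc_bijective B hK hY).1.subsingleton
  exact Module.FaithfullyFlat.lTensor_reflects_triviality A B (K ⟶ Y)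

/-- descent of `A ≃ End(K)` along a faithfully flat map. -/
theorem toEnd_bijective_of_extD {K : Dual.D A} (hK : DRing.IsPseudoCoherent' A K)
    (hY : HasBBRes K) (h : Function.Bijective (fun b : B => b • 𝟙 ((extD A B).obj K))) :
    Function.Bijective (fun a : A => a • 𝟙 K) := by
  have h3 : ⇑(bc B K K) ∘ ⇑(LinearMap.lTensor B (toEndL K)) =
      (fun b : B => b • 𝟙 ((extD A B).obj K)) ∘ ⇑(TensorProduct.rid A B) := by
    funext x
    rw [Function.comp_apply, Function.comp_apply, bc_toEndL]
  have h4 : Function.Bijective (⇑(bc B K K) ∘ ⇑(LinearMap.lTensor B (toEndL K))) := by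
    rw [h3]
    exact h.comp (TensorProduct.rid A B).bijective
  have h5 : Function.Bijective (LinearMap.lTensor B (toEndL K)) :=
    (Function.Bijective.of_comp_iff' (bc_bijective B hK hY) _).1 h4
  exact (Module.FaithfullyFlat.lTensor_bijective_iff_bijective A B (toEndL K)).1 h5

lemma isGE_of_extD (X : Dual.D A) (n : ℤ) (h : ((extD A B).obj X).IsGE n) : X.IsGE n := by
  rw [DerivedCategory.isGE_iff] at h ⊢
  intro i hi
  exact isZero_of_isZero_ext _ ((h i hi).of_iso (homologyMapDIso (ext A B) X i).symm)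

/-- faithfully flat descent of dualizing complexes. -/
theorem isDualizing_of_extD [IsNoetherianRing A] (K : Dual.D A)
    (hB : Dual.IsDualizing B ((extD A B).obj K)) : Dual.IsDualizing A K := by
  obtain ⟨T⟩ := nonempty_res _ hB
  have hle : K.IsLE T.b := isLE_of_extD (B := B) K T.b (by
    rw [DerivedCategory.isLE_iff]
    intro i hi
    haveI := subsingleton_HD_of_res T i (Or.inr hi)
    exact ModuleCat.isZero_of_subsingleton _)
  have hge : K.IsGE T.a := isGE_of_extD B K T.a (by
    rw [DerivedCategory.isGE_iff]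
    intro i hi
    haveI := subsingleton_HD_of_res T i (Or.inl hi)
    exact ModuleCat.isZero_of_subsingleton _)
  have hfin : ∀ i : ℤ, Module.Finite A (Dual.HD A K i) := fun i =>
    finite_homology_of_extD K i (hB.finite_cohomology i)
  have hpc : DRing.IsPseudoCoherent' A K := pc'_of_bdd_finite K
    ⟨T.b, fun i hi => ModuleCat.subsingleton_of_isZero
      ((DerivedCategory.isLE_iff K T.b).1 hle i hi)⟩ hfin
  have hbb : HasBBRes K := hasBBRes_of_isGE K T.a
  obtain ⟨a, b, hab⟩ := hB.finite_injective_dimension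
  refine ⟨inferInstance, ⟨a, b, ?_⟩, hfin, ?_, ?_⟩
  · refine ((Groth.Agent.S6965.result A K a b).out 2 1).1 ?_
    intro I i hi
    refine subsingleton_hom_of_extD B (pc'_inD_of_finite (A ⧸ I)) (hbb.shift i) ?_
    exact subsingleton_hom_of_isos (extDInDIso (A := A) (B := B) (A ⧸ I)).symm
      (((extD A B).commShiftIso i).app K).symm (hab (TensorProduct A B (A ⧸ I)) i hi)
  · exact toEnd_bijective_of_extD B hpc hbb hB.toEnd_bijective
  · intro i hi
    refine subsingleton_hom_of_extD B hpc (hbb.shift i) ?_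
    exact subsingleton_hom_of_isos (Iso.refl _) (((extD A B).commShiftIso i).app K).symm
      (hB.ext_self_subsingleton i hi)

end FFlat

end Groth.Agent.Lib.Helper5.HomBC
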