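import Mathlib
import Groth.Agent.Lib.Helper5BassA
import Groth.Agent.Lib.Helper5HomBCD
import Groth.Agent.Lib.Helper5LocDF
import Groth.Agent.Lib.Helper1HomFinite

/-!
# A global Bass type criterion for finite injective dimension (helper5)

`finInjDim_of_maximal`: let `B` be a Noetherian ring and `K` in `D^b_coh(B)`.  If
`Hom((B/q)[0], K[i]) = 0` for all maximal ideals `q` and all `i > b`, then `Hom(M[0], K[i]) = 0`
for all modules `M` and all `i > b` (and all `i < a₀` if `K` lives in degrees `≥ a₀`).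
-/

set_option autoImplicit false
universe u
open CategoryTheory CategoryTheory.Limits
attribute [local instance] HasDerivedCategory.standard

namespace Groth.Agent.Lib.Helper5.Bass

open DerivedCategory Pretriangulated TensorProduct Groth.Agent.Lib.Helper5.NormDual
  Groth.Agent.Lib.Helper1.Extend Groth.Agent.Lib.Helper5.LocD Groth.Agent.Lib.Helper5.HomBC
  Groth.Agent.S14388

section OneRing

variable {R : Type u} [CommRing R]

/-- `Hom(M[0], Y[i])` is finite for `Y` in `D^b_coh`. -/
lemma finite_hom_inD_shift [IsNoetherianRing R] (Y : Dual.D R) (a c : ℤ)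
    (hlo : ∀ j : ℤ, j < a → Subsingleton (Dual.HD R Y j))
    (hhi : ∀ j : ℤ, c < j → Subsingleton (Dual.HD R Y j))
    (hfin : ∀ j : ℤ, Module.Finite R (Dual.HD R Y j))
    (M : Type u) [AddCommGroup M] [Module R M] [Module.Finite R M] (i : ℤ) :
    Module.Finite R (Dual.inD R M ⟶ Y⟦i⟧) := by
  refine Groth.Agent.Lib.Helper1.HomFinite.finite_hom_of_bounded (Dual.inD R M) (Y⟦i⟧) 0 0 ?_
    (finite_HD_inD M) (a - i) (c - i) ?_ ?_
  · intro j hj
    rcases hj with hj | hj
    · exact isZero_of_isGE _ 0 j hj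
    · exact isZero_of_isLE _ 0 j hj
  · intro j hj
    let e : (homologyFunctor (ModuleCat.{u} R) j).obj (Y⟦i⟧) ≅
        (homologyFunctor (ModuleCat.{u} R) (i + j)).obj Y :=
      ((homologyFunctor (ModuleCat.{u} R) 0).shiftIso i j (i + j) rfl).app Y
    have hz : IsZero ((homologyFunctor (ModuleCat.{u} R) (i + j)).obj Y) := by
      rcases hj with hj | hj
      · haveI := hlo (i + j) (by lia)
        exact ModuleCat.isZero_of_subsingleton _
      · haveI := hhi (i + j) (by lia)
        exact ModuleCat.isZero_of_subsingleton _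
    exact hz.of_iso e
  · intro j
    have h1 : Module.Finite R ↑((homologyFunctor (ModuleCat.{u} R) (i + j)).obj Y) :=
      hfin (i + j)
    let e : (homologyFunctor (ModuleCat.{u} R) j).obj (Y⟦i⟧) ≅
        (homologyFunctor (ModuleCat.{u} R) (i + j)).obj Y :=
      ((homologyFunctor (ModuleCat.{u} R) 0).shiftIso i j (i + j) rfl).app Y
    exact Module.Finite.equiv e.symm.toLinearEquiv

lemma eq_zero_below (Y : Dual.D R) (a₀ : ℤ) (hbdd : ∀ i : ℤ, i < a₀ → Subsingleton (Dual.HD R Y i))
    (M : Type u) [AddCommGroup M] [Module R M] (i : ℤ) (hi : i < a₀)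
    (t : Dual.inD R M ⟶ Y⟦i⟧) : t = 0 := by
  haveI : Y.IsGE a₀ := by
    rw [DerivedCategory.isGE_iff]
    intro j hj
    haveI := hbdd j hj
    exact ModuleCat.isZero_of_subsingleton _
  have h1 : (Y⟦i⟧).IsGE (a₀ - i) := tt.isGE_shift Y a₀ i (a₀ - i) (by omega)
  exact tt.zero_of_isLE_of_isGE t 0 (a₀ - i) (by omega) inferInstance h1

end OneRing

section TwoRings

variable {A : Type u} [CommRing A] (B : Type u) [CommRing B] [Algebra A B] [Module.Flat A B]

lemma subsingleton_HD_extD (X : Dual.D A) (j : ℤ) (h : Subsingleton (Dual.HD A X j)) :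
    Subsingleton (Dual.HD B ((extD A B).obj X) j) := by
  have hz : IsZero ((homologyFunctor (ModuleCat.{u} A) j).obj X) :=
    ModuleCat.isZero_of_subsingleton _
  exact ModuleCat.subsingleton_of_isZero
    (((ext A B).map_isZero hz).of_iso (homologyMapDIso (ext A B) X j))

lemma finite_HD_extD (X : Dual.D A) (j : ℤ) (h : Module.Finite A (Dual.HD A X j)) :
    Module.Finite B (Dual.HD B ((extD A B).obj X) j) := by
  haveI : Module.Finite B ((ext A B).obj ((homologyFunctor (ModuleCat.{u} A) j).obj X)) :=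
    Groth.Agent.Lib.Helper1.LDer.finite_bc (algebraMap A B) _
  exact Module.Finite.equiv (homologyMapDIso (ext A B) X j).symm.toLinearEquiv

/-- ascent of vanishing to `B ⧸ pB`. -/
lemma subsingleton_hom_quot_map [IsNoetherianRing A] (p : Ideal A) (Y : Dual.D A)
    (hY : HasBBRes Y) (h : Subsingleton (Dual.inD A (A ⧸ p) ⟶ Y)) :
    Subsingleton (Dual.inD B (B ⧸ p.map (algebraMap A B)) ⟶ (extD A B).obj Y) := by
  have h1 := subsingleton_hom_extD B (pc'_inD_of_finite (A ⧸ p)) hY h
  exact subsingleton_hom_of_isos ((extDInDIso (A := A) (B := B) (A ⧸ p)) ≪≫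
    inDIso (Algebra.TensorProduct.quotIdealMapEquivTensorQuot B p).toLinearEquiv.symm)
    (Iso.refl _) h1

end TwoRings

section Global

variable {B : Type u} [CommRing B] [IsNoetherianRing B] (K : Dual.D B)
  (a₀ : ℤ) (hbdd : ∀ i : ℤ, i < a₀ → Subsingleton (Dual.HD B K i))
  (c₀ : ℤ) (hbdd' : ∀ i : ℤ, c₀ < i → Subsingleton (Dual.HD B K i))
  (hfin : ∀ i : ℤ, Module.Finite B (Dual.HD B K i))
  (b : ℤ) (hmax : ∀ q : Ideal B, q.IsMaximal → ∀ i : ℤ, b < i →
    Subsingleton (Dual.inD B (B ⧸ q) ⟶ K⟦i⟧))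

include hbdd hbdd' hfin hmax in
lemma extD_map_eq_zero_of_maximal (q : Ideal B) [hq : q.IsMaximal] (J : Ideal B) (i : ℤ)
    (hi : b < i) (t : Dual.inD B (B ⧸ J) ⟶ K⟦i⟧) :
    (extD B (Localization.AtPrime q)).map t = 0 := by
  haveI : IsNoetherianRing (Localization.AtPrime q) :=
    IsLocalization.isNoetherianRing q.primeCompl _ inferInstance
  have hbb : HasBBRes K := hasBBRes_of_hasInjRes (hasInjRes_of_bddBelow K a₀ hbdd)
  have hfinK : ∀ (M : Type u) [AddCommGroup M] [Module (Localization.AtPrime q) M]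
      [Module.Finite (Localization.AtPrime q) M] (i : ℤ),
      Module.Finite (Localization.AtPrime q)
        (Dual.inD (Localization.AtPrime q) M ⟶ ((extD B (Localization.AtPrime q)).obj K)⟦i⟧) :=
    fun M _ _ _ i => finite_hom_inD_shift _ a₀ c₀
      (fun j hj => subsingleton_HD_extD _ K j (hbdd j hj))
      (fun j hj => subsingleton_HD_extD _ K j (hbdd' j hj))
      (fun j => finite_HD_extD _ K j (hfin j)) M i
  have hk : ∀ i : ℤ, b < i → Subsingleton
      (Dual.inD (Localization.AtPrime q) (IsLocalRing.ResidueField (Localization.AtPrime q)) ⟶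
        ((extD B (Localization.AtPrime q)).obj K)⟦i⟧) := by
    intro i hi
    have h1 := subsingleton_hom_quot_map (Localization.AtPrime q) q (K⟦i⟧) (hbb.shift i)
      (hmax q hq i hi)
    exact subsingleton_hom_of_isos
      (inDIso (Submodule.quotEquivOfEq _ _
        (IsLocalization.AtPrime.map_eq_maximalIdeal q (Localization.AtPrime q))))
      (((extD B (Localization.AtPrime q)).commShiftIso i).app K) h1
  have h0 := vanish' _ b hfinK hk (Localization.AtPrime q ⊗[B] (B ⧸ J)) i hi
    ((extDInDIso (A := B) (B := Localization.AtPrime q) (B ⧸ J)).inv ≫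
      (extD B (Localization.AtPrime q)).map t ≫
      ((extD B (Localization.AtPrime q)).commShiftIso i).hom.app K)
  rw [← cancel_epi (extDInDIso (A := B) (B := Localization.AtPrime q) (B ⧸ J)).inv,
    ← cancel_mono (((extD B (Localization.AtPrime q)).commShiftIso i).hom.app K),
    Category.assoc, h0, comp_zero, zero_comp]

include hbdd hbdd' hfin hmax in
/-- a global Bass type criterion. -/
theorem finInjDim_of_maximal :
    ∀ (M : Type u) [AddCommGroup M] [Module B M] (i : ℤ),
      (i < a₀ ∨ b < i) → Subsingleton (Dual.inD B M ⟶ K⟦i⟧) := by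
  refine ((Groth.Agent.S6965.result B K a₀ b).out 2 1).mp ?_
  intro J i hi
  suffices h0 : ∀ t : Dual.inD B (B ⧸ J) ⟶ K⟦i⟧, t = 0 from
    ⟨fun s t => by rw [h0 s, h0 t]⟩
  intro t
  rcases hi with hi | hi
  · exact eq_zero_below K a₀ hbdd (B ⧸ J) i hi t
  · refine eq_zero_of_cover
      (fun m : {m : Ideal B // m.IsMaximal} => (haveI := m.2.isPrime; m.1.primeCompl))
      cover_maximal (hasFPRes_inD_of_finite (B ⧸ J))
      ((hasInjRes_of_bddBelow K a₀ hbdd).shift i) t ?_
    intro m
    haveI := m.2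
    exact extD_map_eq_zero_of_maximal K a₀ hbdd c₀ hbdd' hfin b hmax m.1 J i hi t

end Global

end Groth.Agent.Lib.Helper5.Bass
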