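import Mathlib
import Groth.Agent.Lib.Helper5BassB

/-!
# Dualizing complexes under flat base change with trivial closed fibres (helper5)

`isDualizing_extD_of_maximal`: let `A → B` be a flat map of Noetherian rings such that every
maximal ideal of `B` is of the form `pB`.  Then the base change of a dualizing complex of `A` is a
dualizing complex of `B`.
-/

set_option autoImplicit false
universe u
open CategoryTheory CategoryTheory.Limits
attribute [local instance] HasDerivedCategory.standard

namespace Groth.Agent.Lib.Helper5.FlatDual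

open DerivedCategory Pretriangulated TensorProduct Groth.Agent.Lib.Helper5.NormDual
  Groth.Agent.Lib.Helper1.Extend Groth.Agent.Lib.Helper5.LocD Groth.Agent.Lib.Helper5.HomBC
  Groth.Agent.Lib.Helper5.Bass Groth.Agent.Lib.Helper5.BiDual

variable {A : Type u} [CommRing A] (B : Type u) [CommRing B] [Algebra A B] [Module.Flat A B]

theorem isDualizing_extD_of_maximal [IsNoetherianRing B] (ω : Dual.D A)
    (hω : Dual.IsDualizing A ω)
    (hq : ∀ q : Ideal B, q.IsMaximal → ∃ p : Ideal A, p.map (algebraMap A B) = q) :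
    Dual.IsDualizing B ((extD A B).obj ω) := by
  haveI := hω.isNoetherianRing
  obtain ⟨T⟩ := nonempty_res ω hω
  have hpc := pc'_of_isDualizing ω hω
  have hbb := hasBBRes_of_isDualizing ω hω
  obtain ⟨a, b, hab⟩ := hω.finite_injective_dimension
  have hlo : ∀ i : ℤ, i < T.a → Subsingleton (Dual.HD B ((extD A B).obj ω) i) := fun i hi =>
    subsingleton_HD_extD B ω i (subsingleton_HD_of_res T i (Or.inl hi))
  have hhi : ∀ i : ℤ, T.b < i → Subsingleton (Dual.HD B ((extD A B).obj ω) i) := fun i hi =>
    subsingleton_HD_extD B ω i (subsingleton_HD_of_res T i (Or.inr hi))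
  have hfin : ∀ i : ℤ, Module.Finite B (Dual.HD B ((extD A B).obj ω) i) := fun i =>
    finite_HD_extD B ω i (hω.finite_cohomology i)
  have hmax : ∀ q : Ideal B, q.IsMaximal → ∀ i : ℤ, b < i →
      Subsingleton (Dual.inD B (B ⧸ q) ⟶ ((extD A B).obj ω)⟦i⟧) := by
    intro q hqm i hi
    obtain ⟨p, rfl⟩ := hq q hqm
    have h1 := subsingleton_hom_quot_map B p (ω⟦i⟧) (hbb.shift i) (hab (A ⧸ p) i (Or.inr hi))
    exact subsingleton_hom_of_isos (Iso.refl _) (((extD A B).commShiftIso i).app ω) h1
  refine ⟨inferInstance, ⟨T.a, b, finInjDim_of_maximal _ T.a hlo T.b hhi hfin b hmax⟩, hfin,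
    ?_, ?_⟩
  · exact toEnd_bijective_extD B hpc hbb hω.toEnd_bijective
  · intro i hi
    have h1 := subsingleton_hom_extD B hpc (hbb.shift i) (hω.ext_self_subsingleton i hi)
    exact subsingleton_hom_of_isos (Iso.refl _) (((extD A B).commShiftIso i).app ω) h1

theorem isNormalized_extD [IsLocalRing A] [IsLocalRing B]
    (hm : (IsLocalRing.maximalIdeal A).map (algebraMap A B) = IsLocalRing.maximalIdeal B)
    (ω : Dual.D A) (hω : Dual.IsDualizing A ω) (hn : Dual.IsNormalized A ω) :
    Dual.IsNormalized B ((extD A B).obj ω) := by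
  haveI := hω.isNoetherianRing
  intro i hi
  have hbb := hasBBRes_of_isDualizing ω hω
  have h0 : Subsingleton (Dual.inD A (A ⧸ IsLocalRing.maximalIdeal A) ⟶ ω⟦i⟧) :=
    subsingleton_hom_of_isos (inDIso (Submodule.quotEquivOfEq _ _ rfl :
      (A ⧸ IsLocalRing.maximalIdeal A) ≃ₗ[A] IsLocalRing.ResidueField A)).symm (Iso.refl _)
      (hn i hi)
  have h1 := subsingleton_hom_quot_map B (IsLocalRing.maximalIdeal A) (ω⟦i⟧) (hbb.shift i) h0
  exact subsingleton_hom_of_isos (inDIso (Submodule.quotEquivOfEq _ _ hm :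
      (B ⧸ (IsLocalRing.maximalIdeal A).map (algebraMap A B)) ≃ₗ[B] IsLocalRing.ResidueField B))
    (((extD A B).commShiftIso i).app ω) h1

/-- maximal ideals of `B` are extended from `A` when `A → B/IB` is onto and `IB ⊆ rad B`. -/
lemma exists_map_eq_of_quot_surj (I : Ideal A)
    (hs : Function.Surjective ((Ideal.Quotient.mk (I.map (algebraMap A B))).comp
      (algebraMap A B)))
    (hJ : I.map (algebraMap A B) ≤ (⊥ : Ideal B).jacobson) (q : Ideal B) (hqm : q.IsMaximal) :
    ∃ p : Ideal A, p.map (algebraMap A B) = q := by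
  have hIq : I.map (algebraMap A B) ≤ q := hJ.trans (sInf_le ⟨bot_le, hqm⟩)
  refine ⟨q.comap (algebraMap A B), le_antisymm Ideal.map_comap_le ?_⟩
  intro y hy
  obtain ⟨a, ha⟩ := hs (Ideal.Quotient.mk _ y)
  have h1 : algebraMap A B a - y ∈ I.map (algebraMap A B) := by
    rw [← Ideal.Quotient.eq]
    exact ha
  have h2 : algebraMap A B a ∈ q := by
    have h3 : algebraMap A B a = (algebraMap A B a - y) + y := by ring
    rw [h3]
    exact q.add_mem (hIq h1) hy
  have h4 : I.map (algebraMap A B) ≤ (q.comap (algebraMap A B)).map (algebraMap A B) :=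
    Ideal.map_mono (Ideal.map_le_iff_le_comap.1 hIq)
  have h5 : y = algebraMap A B a - (algebraMap A B a - y) := by ring
  rw [h5]
  exact Ideal.sub_mem _ (Ideal.mem_map_of_mem _ (Ideal.mem_comap.2 h2)) (h4 h1)

theorem isDualizing_extD_of_quot_surj [IsNoetherianRing B] (I : Ideal A)
    (hs : Function.Surjective ((Ideal.Quotient.mk (I.map (algebraMap A B))).comp
      (algebraMap A B)))
    (hJ : I.map (algebraMap A B) ≤ (⊥ : Ideal B).jacobson)
    (ω : Dual.D A) (hω : Dual.IsDualizing A ω) :
    Dual.IsDualizing B ((extD A B).obj ω) :=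
  isDualizing_extD_of_maximal B ω hω (exists_map_eq_of_quot_surj B I hs hJ)

end Groth.Agent.Lib.Helper5.FlatDual
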