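import Mathlib
import Groth.Agent.Lib.Helper14FaltK
import Groth.Agent.Lib.Helper5FlatDual

/-! # Supports of `Hom(K, ω[n])` under flat base change (helper14) -/

set_option autoImplicit false
set_option linter.unusedVariables false
set_option linter.unusedSectionVars false
set_option linter.style.haveILetI false
set_option maxHeartbeats 400000

universe u

open CategoryTheory CategoryTheory.Limits
attribute [local instance] HasDerivedCategory.standard

namespace Groth.Agent.Lib.Helper14.CplDepth

open DerivedCategory TensorProduct Groth.Agent.Lib.Helper1.Extend Groth.Agent.Lib.Helper5.LocD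
  Groth.Agent.Lib.Helper5.HomBC Groth.Agent.Lib.Helper5.DualDim

section LZ

variable {A : Type u} [CommRing A] (B : Type u) [CommRing B] [Algebra A B] [Module.Flat A B]

/-- an element `s' ⊗ t` of `B ⊗ H` vanishes only if `s'` lies in the extension of the annihilator
of `t` -/
lemma mem_map_ann_of_tmul_eq_zero {H : Type*} [AddCommGroup H] [Module A H] (t : H) (s' : B)
    (h : s' ⊗ₜ[A] t = (0 : B ⊗[A] H)) :
    s' ∈ Ideal.map (algebraMap A B) (LinearMap.ker (LinearMap.toSpanSingleton A H t) : Ideal A) := by
  set J : Ideal A := LinearMap.ker (LinearMap.toSpanSingleton A H t) with hJ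
  let f : (A ⧸ J) →ₗ[A] H := Submodule.liftQ J (LinearMap.toSpanSingleton A H t) le_rfl
  have hf : Function.Injective f := by
    rw [← LinearMap.ker_eq_bot]
    exact Submodule.ker_liftQ_eq_bot _ _ _ le_rfl
  have hf' : Function.Injective (LinearMap.lTensor B f) :=
    Module.Flat.lTensor_preserves_injective_linearMap f hf
  have h1 : LinearMap.lTensor B f (s' ⊗ₜ[A] (Submodule.Quotient.mk 1 : A ⧸ J)) = 0 := by
    rw [LinearMap.lTensor_tmul]
    have : f (Submodule.Quotient.mk 1) = t := by
      show LinearMap.toSpanSingleton A H t 1 = t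
      rw [LinearMap.toSpanSingleton_apply, one_smul]
    rw [this]
    exact h
  have h2 : s' ⊗ₜ[A] (Submodule.Quotient.mk 1 : A ⧸ J) = 0 := hf' (h1.trans (map_zero _).symm)
  have h3 : Algebra.TensorProduct.quotIdealMapEquivTensorQuot B J
      (Ideal.Quotient.mk (J.map (algebraMap A B)) s') = 0 := by
    rw [Algebra.TensorProduct.quotIdealMapEquivTensorQuot_mk]
    exact h2
  have h4 : Ideal.Quotient.mk (J.map (algebraMap A B)) s' = 0 :=
    (Algebra.TensorProduct.quotIdealMapEquivTensorQuot B J).injective (h3.trans (map_zero _).symm)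
  exact Ideal.Quotient.eq_zero_iff_mem.mp h4

/-- the support of `Hom(K, ω[n])` under flat base change: transfer of `LZ` -/
theorem LZ_extD_iff (ω K : Dual.D A) (hK : DRing.IsPseudoCoherent' A K) (hω : HasBBRes ω)
    (P : Ideal B) [P.IsPrime] (n : ℤ) :
    LZ ((extD A B).obj ω) P n ((extD A B).obj K) ↔ LZ ω (P.comap (algebraMap A B)) n K := by
  let c := ((extD A B).commShiftIso n).app ω
  have hbij := bc_bijective B hK (hω.shift n)
  constructor
  · intro h t
    obtain ⟨s', hs', hs'u⟩ := h ((extD A B).map t ≫ c.hom)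
    have h1 : s' • (extD A B).map t = 0 := by
      rw [← Linear.smul_comp] at hs'u
      exact (cancel_mono c.hom).mp (hs'u.trans zero_comp.symm)
    have h2 : bc B K (ω⟦n⟧) (s' ⊗ₜ[A] t) = 0 := by
      rw [bc_tmul]
      exact h1
    have h3 : s' ⊗ₜ[A] t = (0 : B ⊗[A] (K ⟶ ω⟦n⟧)) := hbij.1 (h2.trans (map_zero _).symm)
    have h4 := mem_map_ann_of_tmul_eq_zero B t s' h3
    by_contra hcon
    apply hs'
    have hle : LinearMap.ker (LinearMap.toSpanSingleton A (K ⟶ ω⟦n⟧) t) ≤
        P.comap (algebraMap A B) := by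
      intro s hs
      by_contra hsP
      exact hcon ⟨s, hsP, by
        have := LinearMap.mem_ker.mp hs
        rwa [LinearMap.toSpanSingleton_apply] at this⟩
    exact (Ideal.map_le_iff_le_comap.mpr hle) h4
  · intro h u
    obtain ⟨x, hx⟩ := hbij.2 (u ≫ c.inv)
    have key : ∀ x : B ⊗[A] (K ⟶ ω⟦n⟧), ∃ s : A, s ∉ P.comap (algebraMap A B) ∧
        algebraMap A B s • bc B K (ω⟦n⟧) x = 0 := by
      intro x
      induction x using TensorProduct.induction_on with
      | zero =>
        refine ⟨1, fun h1 => ?_, by rw [map_zero, smul_zero]⟩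
        exact (Ideal.IsPrime.ne_top inferInstance) ((Ideal.eq_top_iff_one _).mpr h1)
      | tmul b t =>
        obtain ⟨s, hs, hst⟩ := h t
        refine ⟨s, hs, ?_⟩
        rw [bc_tmul, smul_comm, ← extD_map_smul, hst, Functor.map_zero, smul_zero]
      | add x y hx hy =>
        obtain ⟨s₁, hs₁, h1⟩ := hx
        obtain ⟨s₂, hs₂, h2⟩ := hy
        refine ⟨s₁ * s₂, fun hmem => ?_, ?_⟩
        · rcases Ideal.IsPrime.mem_or_mem inferInstance hmem with h' | h'
          · exact hs₁ h'
          · exact hs₂ h'
        · rw [map_add, smul_add, map_mul, mul_smul, mul_smul, h2, smul_zero, smul_comm, h1,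
            smul_zero, add_zero]
    obtain ⟨s, hs, hsx⟩ := key x
    refine ⟨algebraMap A B s, hs, ?_⟩
    rw [hx] at hsx
    have h1 : algebraMap A B s • u = (algebraMap A B s • (u ≫ c.inv)) ≫ c.hom := by
      rw [Linear.smul_comp, Category.assoc, Iso.inv_hom_id, Category.comp_id]
    rw [h1, hsx, zero_comp]

end LZ

end Groth.Agent.Lib.Helper14.CplDepth
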