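import Mathlib
import Groth.Agent.Lib.Helper14CplDepthA
import Groth.Agent.Lib.Helper14CplCutA
import Groth.Agent.Lib.Helper28IAdicLocal
import Groth.Agent.S0543

/-! # Depth and dimension under `I`-adic completion, for rings with a dualizing complex (helper14)

Let `A` be a Noetherian ring with a dualizing complex, `A'` its `I`-adic completion, `p' ⊆ q'` primes
of `A'` with `I A' ⊆ q'`, lying over `p ⊆ q`. Then `depth M_p ≤ depth M'_{p'}` and
`depth M'_{p'} + dim [p', q'] = depth M_p + dim [p, q]`. -/

set_option autoImplicit false
set_option linter.unusedVariables false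
set_option linter.unusedSectionVars false
set_option linter.style.haveILetI false
set_option maxHeartbeats 400000

universe u

open CategoryTheory CategoryTheory.Limits
attribute [local instance] HasDerivedCategory.standard

namespace Groth.Agent.Lib.Helper14.CplDepth

open DerivedCategory TensorProduct Groth.Agent.Lib.Helper1.Extend Groth.Agent.Lib.Helper5.LocD
  Groth.Agent.Lib.Helper5.HomBC Groth.Agent.Lib.Helper5.DualDim Groth.Agent.Lib.Helper5.NormDual
  Groth.Agent.Lib.Helper28

section Aux

lemma eq_of_forall_nat_lt_iff (x y : ℕ∞) (h : ∀ s : ℕ, (s : ℕ∞) < x ↔ (s : ℕ∞) < y) : x = y := by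
  by_contra hne
  rcases lt_or_gt_of_ne hne with hlt | hlt
  · obtain ⟨n, rfl⟩ := ENat.ne_top_iff_exists.mp hlt.ne_top
    exact lt_irrefl _ ((h n).mpr hlt)
  · obtain ⟨n, rfl⟩ := ENat.ne_top_iff_exists.mp hlt.ne_top
    exact lt_irrefl _ ((h n).mp hlt)

variable {A : Type u} [CommRing A] [IsNoetherianRing A]

lemma nontrivial_iff_not_LZ (ω : Dual.D A) (p : PrimeSpectrum A) (X : Dual.D A) (j : ℤ) :
    Nontrivial (LocalizedModule p.asIdeal.primeCompl (X ⟶ ω⟦j⟧)) ↔ ¬ LZ ω p.asIdeal j X := by
  rw [← Module.mem_support_iff]
  exact mem_support_hom_iff ω p X j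

end Aux

section Main

variable {A : Type u} [CommRing A] [IsNoetherianRing A] (I : Ideal A)
  (M : Type u) [AddCommGroup M] [Module A M] [Module.Finite A M]

/-- the base change of a dualizing complex to the `I`-adic completion is dualizing -/
theorem isDualizing_extD_adicCompletion (ω : Dual.D A) (hω : Dual.IsDualizing A ω) :
    Dual.IsDualizing (AdicCompletion I A) ((extD A (AdicCompletion I A)).obj ω) := by
  haveI : IsNoetherianRing (AdicCompletion I A) := Groth.Agent.S0543.result A I
  have fg : I.FG := I.fg_of_isNoetherianRing
  have hs : Function.Surjective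
      ((Ideal.Quotient.mk (I.map (algebraMap A (AdicCompletion I A)))).comp
        (algebraMap A (AdicCompletion I A))) := by
    intro z
    obtain ⟨y, rfl⟩ := Ideal.Quotient.mk_surjective z
    obtain ⟨a, ha⟩ := Ideal.Quotient.mk_surjective (AdicCompletion.evalOneₐ I y)
    refine ⟨a, ?_⟩
    rw [RingHom.comp_apply, Ideal.Quotient.eq, ← AdicCompletion.ker_evalOneₐ_eq_map I fg,
      RingHom.mem_ker, map_sub, sub_eq_zero]
    have h1 : (AdicCompletion.evalOneₐ I) (algebraMap A (AdicCompletion I A) a) =
        Ideal.Quotient.mk I a := by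
      rw [AlgHom.commutes]
      rfl
    exact h1.trans ha
  have hJ : I.map (algebraMap A (AdicCompletion I A)) ≤
      (⊥ : Ideal (AdicCompletion I A)).jacobson := by
    haveI := AdicCompletion.isAdicComplete_self I fg
    exact IsAdicComplete.le_jacobson_bot _
  exact Groth.Agent.Lib.Helper5.FlatDual.isDualizing_extD_of_quot_surj (AdicCompletion I A) I hs hJ
    ω hω

/-- the depth formula for the localizations of the `I`-adic completion of a finite module -/
theorem depth_localization_adicCompletion_ideal [IsNoetherianRing (AdicCompletion I A)]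
    (P : Ideal (AdicCompletion I A)) [P.IsPrime]
    [IsLocalRing (EGA4.FibLocRing A (AdicCompletion I A) P)] :
    LocCoh.depth (Localization.AtPrime P)
        (LocalizedModule P.primeCompl (AdicCompletion I M)) =
      LocCoh.depth (Localization.AtPrime (P.comap (algebraMap A (AdicCompletion I A))))
        (LocalizedModule (P.comap (algebraMap A (AdicCompletion I A))).primeCompl M) +
      LocCoh.depth (EGA4.FibLocRing A (AdicCompletion I A) P)
        (EGA4.FibLocRing A (AdicCompletion I A) P) := by
  rw [← Groth.Agent.Lib.Helper14.CplCut.depth_localization_tensor M P]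
  let e := AdicCompletion.ofTensorProductEquivOfFiniteNoetherian I M
  let f2 : (AdicCompletion I A ⊗[A] M) →ₗ[AdicCompletion I A]
      LocalizedModule P.primeCompl (AdicCompletion I M) :=
    (LocalizedModule.mkLinearMap P.primeCompl (AdicCompletion I M)) ∘ₗ e.toLinearMap
  have hloc : IsLocalizedModule P.primeCompl f2 :=
    IsLocalizedModule.of_linearEquiv_right P.primeCompl
      (LocalizedModule.mkLinearMap P.primeCompl (AdicCompletion I M)) e
  exact (Groth.Agent.Lib.Helper5.FinDimDepth.transport_aux P
    (AdicCompletion I A ⊗[A] M) (Localization.AtPrime P)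
    (LocalizedModule P.primeCompl (AdicCompletion I M)) f2).1

/-- the depth can only go up under `I`-adic completion -/
theorem depth_le_depth_adicCompletion (p' : PrimeSpectrum (AdicCompletion I A)) :
    LocCoh.depth (Localization.AtPrime (p'.asIdeal.comap (algebraMap A (AdicCompletion I A))))
        (LocalizedModule (p'.asIdeal.comap (algebraMap A (AdicCompletion I A))).primeCompl M) ≤
      LocCoh.depth (Localization.AtPrime p'.asIdeal)
        (LocalizedModule p'.asIdeal.primeCompl (AdicCompletion I M)) := by
  haveI : IsNoetherianRing (AdicCompletion I A) := Groth.Agent.S0543.result A I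
  haveI := isLocalRing_fibLocRing (A := A) (B := AdicCompletion I A) p'.asIdeal
  rw [depth_localization_adicCompletion_ideal I M p'.asIdeal]
  exact le_self_add

end Main

end Groth.Agent.Lib.Helper14.CplDepth
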