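import Mathlib
import Groth.Agent.Lib.Helper14CplDepthB

/-! # Depth plus dimension under `I`-adic completion (helper14) -/

set_option autoImplicit false
set_option linter.unusedVariables false
set_option linter.unusedSectionVars false
set_option linter.style.haveILetI false
set_option maxHeartbeats 400000

universe u

open CategoryTheory CategoryTheory.Limits
attribute [local instance] HasDerivedCategory.standard

namespace Groth.Agent.Lib.Helper14.CplDepth

open DerivedCategory TensorProduct Groth.Agent.Lib.Helper1.Extend Groth.Agent.Lib.Helper5.LocD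
  Groth.Agent.Lib.Helper5.HomBC Groth.Agent.Lib.Helper5.DualDim Groth.Agent.Lib.Helper5.NormDual
  Groth.Agent.Lib.Helper28 Groth.Agent.Lib.Helper14.Falt

section Main

variable {A : Type u} [CommRing A] [IsNoetherianRing A] (I : Ideal A)
  (M : Type u) [AddCommGroup M] [Module A M] [Module.Finite A M]

theorem depth_add_krullDim_adicCompletion (hA : ∃ ω : Dual.D A, Dual.IsDualizing A ω)
    (p' q' : PrimeSpectrum (AdicCompletion I A)) (hpq : p' ≤ q')
    (hq : I.map (algebraMap A (AdicCompletion I A)) ≤ q'.asIdeal) :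
    ((LocCoh.depth (Localization.AtPrime p'.asIdeal)
        (LocalizedModule p'.asIdeal.primeCompl (AdicCompletion I M)) : ℕ∞) : WithBot ℕ∞) +
        Order.krullDim (Set.Icc p' q') =
      ((LocCoh.depth
        (Localization.AtPrime (PrimeSpectrum.comap (algebraMap A (AdicCompletion I A)) p').asIdeal)
        (LocalizedModule
          (PrimeSpectrum.comap (algebraMap A (AdicCompletion I A)) p').asIdeal.primeCompl M) :
          ℕ∞) : WithBot ℕ∞) +
        Order.krullDim (Set.Icc (PrimeSpectrum.comap (algebraMap A (AdicCompletion I A)) p')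
          (PrimeSpectrum.comap (algebraMap A (AdicCompletion I A)) q')) := by
  haveI hN' : IsNoetherianRing (AdicCompletion I A) := Groth.Agent.S0543.result A I
  obtain ⟨ω, hω⟩ := hA
  have hω' := isDualizing_extD_adicCompletion I ω hω
  obtain ⟨δ, h1, h2⟩ := Groth.Agent.Lib.Helper5.DualDim.main A ω hω
  obtain ⟨δ', h1', h2'⟩ := Groth.Agent.Lib.Helper5.DualDim.main (AdicCompletion I A) _ hω'
  have hbb := hasBBRes_of_isDualizing ω hω
  haveI : Module.Finite (AdicCompletion I A) (AdicCompletion I M) :=
    Module.Finite.equiv (AdicCompletion.ofTensorProductEquivOfFiniteNoetherian I M)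
  set p := PrimeSpectrum.comap (algebraMap A (AdicCompletion I A)) p' with hp
  set q := PrimeSpectrum.comap (algebraMap A (AdicCompletion I A)) q' with hq0
  have hpq0 : p ≤ q := Ideal.comap_mono hpq
  -- transfer of the supports
  have hLZM : ∀ n : ℤ, LZ ((extD A (AdicCompletion I A)).obj ω) p'.asIdeal n
      (Dual.inD (AdicCompletion I A) (AdicCompletion I M)) ↔
      LZ ω p.asIdeal n (Dual.inD A M) := by
    intro n
    have h := LZ_extD_iff (AdicCompletion I A) ω (Dual.inD A M) (pc'_inD_of_finite M) hbb
      p'.asIdeal n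
    let e : (extD A (AdicCompletion I A)).obj (Dual.inD A M) ≅
        Dual.inD (AdicCompletion I A) (AdicCompletion I M) :=
      extDInDIso M ≪≫ inDIso (AdicCompletion.ofTensorProductEquivOfFiniteNoetherian I M)
    exact ⟨fun h' => h.mp (h'.of_iso e.symm), fun h' => (h.mpr h').of_iso e⟩
  -- the dimension functions agree at `q'`
  have hqmap : q.asIdeal.map (algebraMap A (AdicCompletion I A)) = q'.asIdeal :=
    map_comap_eq_of_map_le I q'.asIdeal hq
  have hLZq : ∀ n : ℤ, LZ ((extD A (AdicCompletion I A)).obj ω) q'.asIdeal n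
      (Dual.inD (AdicCompletion I A) (AdicCompletion I A ⧸ q'.asIdeal)) ↔
      LZ ω q.asIdeal n (Dual.inD A (A ⧸ q.asIdeal)) := by
    intro n
    have h := LZ_extD_iff (AdicCompletion I A) ω (Dual.inD A (A ⧸ q.asIdeal))
      (pc'_inD_of_finite (A ⧸ q.asIdeal)) hbb q'.asIdeal n
    let e : (extD A (AdicCompletion I A)).obj (Dual.inD A (A ⧸ q.asIdeal)) ≅
        Dual.inD (AdicCompletion I A) (AdicCompletion I A ⧸ q'.asIdeal) :=
      extDInDIso (A := A) (B := AdicCompletion I A) (A ⧸ q.asIdeal) ≪≫
        inDIso (Algebra.TensorProduct.quotIdealMapEquivTensorQuot (AdicCompletion I A)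
          q.asIdeal).toLinearEquiv.symm ≪≫
        inDIso (Submodule.quotEquivOfEq _ _ hqmap)
    exact ⟨fun h' => h.mp (h'.of_iso e.symm), fun h' => (h.mpr h').of_iso e⟩
  have hδ : δ' q' = δ q := by
    have hn' := (h1' q' (-δ' q')).mpr rfl
    rw [nontrivial_iff_not_LZ, hLZq, ← nontrivial_iff_not_LZ] at hn'
    have := (h1 q (-δ' q')).mp hn'
    omega
  -- both sides as natural numbers
  have key : ∀ s : ℕ,
      ((s : WithBot ℕ∞) < ((LocCoh.depth (Localization.AtPrime p'.asIdeal)
        (LocalizedModule p'.asIdeal.primeCompl (AdicCompletion I M)) : ℕ∞) : WithBot ℕ∞) +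
        Order.krullDim (Set.Icc p' q')) ↔
      ((s : WithBot ℕ∞) < ((LocCoh.depth (Localization.AtPrime p.asIdeal)
        (LocalizedModule p.asIdeal.primeCompl M) : ℕ∞) : WithBot ℕ∞) +
        Order.krullDim (Set.Icc p q)) := by
    intro s
    rw [pair_iff _ hω' δ' h1' h2' (AdicCompletion I M) s p' q' hpq,
      pair_iff ω hω δ h1 h2 M s p q hpq0]
    refine forall_congr' fun i => forall_congr' fun _ => ?_
    rw [hδ]
    exact hLZM _
  rw [krullDim_Icc δ' h2' p' q' hpq, krullDim_Icc δ h2 p q hpq0] at key ⊢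
  rw [← WithBot.coe_natCast, ← WithBot.coe_natCast, ← WithBot.coe_add, ← WithBot.coe_add] at key ⊢
  congr 1
  apply eq_of_forall_nat_lt_iff
  intro s
  have := key s
  rw [← WithBot.coe_natCast, WithBot.coe_lt_coe, WithBot.coe_lt_coe] at this
  exact this

end Main

end Groth.Agent.Lib.Helper14.CplDepth
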