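import Mathlib
import Groth.Agent.Lib.Helper14CplCutA
import Groth.Agent.Lib.Helper28FibreTrans
import Groth.Agent.Lib.Helper28FormalFibres
import Groth.Agent.Lib.Helper28DepthFlat3

/-! # The cutoff invariant under completion (helper14)

For a universally catenary Noetherian local ring `A`, primes `P' ≤ Q'` of the completion lying over
`p ≤ q`:  `ht(Q'/P') + dim F_{P'} = ht(q/p) + dim F_{Q'}`, where `F` denotes the local rings of the
formal fibres.  Combined with the depth formula this compares the cutoff invariants of `A` and `Â`. -/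

set_option autoImplicit false
set_option linter.unusedVariables false
set_option linter.unusedSectionVars false
set_option linter.style.haveILetI false
set_option maxHeartbeats 400000

universe u

namespace Groth.Agent.Lib.Helper14.CplCut

open TensorProduct Groth.Agent.Lib.Helper28

section Formula

variable (A : Type u) [CommRing A] [IsLocalRing A] [IsNoetherianRing A]

theorem isCatenary_of_isUniversallyCatenary (hA : CAlg.IsUniversallyCatenary A) :
    CAlg.IsCatenary A :=
  hA.2 A inferInstance

/-- the height formula for the completion of a universally catenary local ring -/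
theorem height_formula (hA : CAlg.IsUniversallyCatenary A)
    (P' Q' : Ideal (AdicCompletion (IsLocalRing.maximalIdeal A) A)) [hP' : P'.IsPrime]
    [hQ' : Q'.IsPrime] (hPQ : P' ≤ Q')
    [IsLocalRing (EGA4.FibLocRing A (AdicCompletion (IsLocalRing.maximalIdeal A) A) P')]
    [IsLocalRing (EGA4.FibLocRing A (AdicCompletion (IsLocalRing.maximalIdeal A) A) Q')] :
    (Q'.map (Ideal.Quotient.mk P')).height +
        (IsLocalRing.maximalIdeal
          (EGA4.FibLocRing A (AdicCompletion (IsLocalRing.maximalIdeal A) A) P')).height =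
      ((Q'.comap (algebraMap A (AdicCompletion (IsLocalRing.maximalIdeal A) A))).map
          (Ideal.Quotient.mk
            (P'.comap (algebraMap A (AdicCompletion (IsLocalRing.maximalIdeal A) A))))).height +
        (IsLocalRing.maximalIdeal
          (EGA4.FibLocRing A (AdicCompletion (IsLocalRing.maximalIdeal A) A) Q')).height := by
  have hN : IsNoetherianRing (AdicCompletion (IsLocalRing.maximalIdeal A) A) :=
    Groth.Agent.Lib.Helper19.isNoetherianRing_adicCompletion _
  have hcat' := isCatenary_adicCompletion A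
  have hcat := isCatenary_of_isUniversallyCatenary A hA
  have hpp : (P'.comap (algebraMap A (AdicCompletion (IsLocalRing.maximalIdeal A) A))).IsPrime :=
    Ideal.comap_isPrime _ _
  have hqp : (Q'.comap (algebraMap A (AdicCompletion (IsLocalRing.maximalIdeal A) A))).IsPrime :=
    Ideal.comap_isPrime _ _
  have hpq : P'.comap (algebraMap A (AdicCompletion (IsLocalRing.maximalIdeal A) A)) ≤
      Q'.comap (algebraMap A (AdicCompletion (IsLocalRing.maximalIdeal A) A)) :=
    Ideal.comap_mono hPQ
  have E1 := height_add_dim_quotient hcat' P' Q' hPQ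
  have E2 := height_add_dim_quotient hcat _ _ hpq
  have E3 := dim_fibLocRing_add_dim_quotient A hA P'
  have E4 := dim_fibLocRing_add_dim_quotient A hA Q'
  have hlocQ : IsLocalRing (AdicCompletion (IsLocalRing.maximalIdeal A) A ⧸ Q') :=
    Groth.Agent.Lib.Helper5.isLocalRing_quotient hQ'.ne_top
  obtain ⟨d, hd⟩ := exists_nat_ringKrullDim_eq
    (AdicCompletion (IsLocalRing.maximalIdeal A) A ⧸ Q')
  rw [← IsLocalRing.maximalIdeal_height_eq_ringKrullDim] at E3 E4
  rw [hd] at E1 E4
  apply WithBot.coe_injective
  apply Groth.Agent.S9297.withBot_enat_add_left_cancel d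
  rw [WithBot.coe_add, WithBot.coe_add]
  calc ((d : ℕ∞) : WithBot ℕ∞) + (((Q'.map (Ideal.Quotient.mk P')).height : ℕ∞) +
        ((IsLocalRing.maximalIdeal
          (EGA4.FibLocRing A (AdicCompletion (IsLocalRing.maximalIdeal A) A) P')).height : ℕ∞))
      = ((IsLocalRing.maximalIdeal
          (EGA4.FibLocRing A (AdicCompletion (IsLocalRing.maximalIdeal A) A) P')).height : ℕ∞) +
        ((((Q'.map (Ideal.Quotient.mk P')).height : ℕ∞) : WithBot ℕ∞) + ((d : ℕ∞) : WithBot ℕ∞)) := by
        abel
    _ = _ := by rw [E1, E3, ← E2, ← E4]; abel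

end Formula

section Pair

variable (A : Type u) [CommRing A] [IsLocalRing A] [IsNoetherianRing A]
  (M : Type u) [AddCommGroup M] [Module A M] [Module.Finite A M]

/-- the formulas for a pair of primes `P' ≤ Q'` of the completion, with the invariants of the
formal fibres packaged as extended natural numbers -/
theorem pair_formulas (hA : CAlg.IsUniversallyCatenary A)
    (P' Q' : PrimeSpectrum (AdicCompletion (IsLocalRing.maximalIdeal A) A)) (hPQ : P' ≤ Q')
    (hpq : PrimeSpectrum.comap (algebraMap A (AdicCompletion (IsLocalRing.maximalIdeal A) A)) P' ≤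
      PrimeSpectrum.comap (algebraMap A (AdicCompletion (IsLocalRing.maximalIdeal A) A)) Q') :
    ∃ dF hFP hFQ : ℕ∞,
      LocCoh.depth (Localization.AtPrime P'.asIdeal)
          (LocalizedModule P'.asIdeal.primeCompl
            (AdicCompletion (IsLocalRing.maximalIdeal A) M)) =
        LocCoh.depth
          (Localization.AtPrime (PrimeSpectrum.comap
            (algebraMap A (AdicCompletion (IsLocalRing.maximalIdeal A) A)) P').asIdeal)
          (LocalizedModule (PrimeSpectrum.comap
            (algebraMap A (AdicCompletion (IsLocalRing.maximalIdeal A) A)) P').asIdeal.primeCompl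
            M) + dF ∧
      Order.height (⟨Q', hPQ⟩ : Set.Ici P') + hFP =
        Order.height (⟨PrimeSpectrum.comap
          (algebraMap A (AdicCompletion (IsLocalRing.maximalIdeal A) A)) Q', hpq⟩ :
          Set.Ici (PrimeSpectrum.comap
            (algebraMap A (AdicCompletion (IsLocalRing.maximalIdeal A) A)) P')) + hFQ ∧
      (∀ n : ℕ, EGA4.HasSnFormalFibres n A → min (n : ℕ∞) hFP ≤ dF) ∧
      (P'.asIdeal ∈ ((PrimeSpectrum.comap
          (algebraMap A (AdicCompletion (IsLocalRing.maximalIdeal A) A)) P').asIdeal.map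
          (algebraMap A (AdicCompletion (IsLocalRing.maximalIdeal A) A))).minimalPrimes →
        hFP = 0 ∧ dF = 0) ∧
      (Q'.asIdeal ∈ ((PrimeSpectrum.comap
          (algebraMap A (AdicCompletion (IsLocalRing.maximalIdeal A) A)) Q').asIdeal.map
          (algebraMap A (AdicCompletion (IsLocalRing.maximalIdeal A) A))).minimalPrimes →
        hFQ = 0) := by
  have hN : IsNoetherianRing (AdicCompletion (IsLocalRing.maximalIdeal A) A) :=
    Groth.Agent.Lib.Helper19.isNoetherianRing_adicCompletion _
  have hlP : IsLocalRing (EGA4.FibLocRing A (AdicCompletion (IsLocalRing.maximalIdeal A) A)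
      P'.asIdeal) := isLocalRing_fibLocRing (A := A) P'.asIdeal
  have hlQ : IsLocalRing (EGA4.FibLocRing A (AdicCompletion (IsLocalRing.maximalIdeal A) A)
      Q'.asIdeal) := isLocalRing_fibLocRing (A := A) Q'.asIdeal
  refine ⟨LocCoh.depth (EGA4.FibLocRing A (AdicCompletion (IsLocalRing.maximalIdeal A) A)
      P'.asIdeal) (EGA4.FibLocRing A (AdicCompletion (IsLocalRing.maximalIdeal A) A) P'.asIdeal),
    (IsLocalRing.maximalIdeal (EGA4.FibLocRing A (AdicCompletion (IsLocalRing.maximalIdeal A) A)
      P'.asIdeal)).height,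
    (IsLocalRing.maximalIdeal (EGA4.FibLocRing A (AdicCompletion (IsLocalRing.maximalIdeal A) A)
      Q'.asIdeal)).height, ?_, ?_, ?_, ?_, ?_⟩
  · exact depth_localization_adicCompletion A M P'.asIdeal
  · rw [← Groth.Agent.Lib.Helper14.Cutoff.height_map_mk_eq P' Q' hPQ,
      ← Groth.Agent.Lib.Helper14.Cutoff.height_map_mk_eq _ _ hpq]
    exact height_formula A hA P'.asIdeal Q'.asIdeal hPQ
  · intro n hSn
    have h1 : ∀ (q : Ideal (AdicCompletion (IsLocalRing.maximalIdeal A) A)) [q.IsPrime],
        SnLocalRing n (EGA4.FibLocRing A (AdicCompletion (IsLocalRing.maximalIdeal A) A) q) :=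
      (forall_hasSk_fiber_iff (A := A) (B := AdicCompletion (IsLocalRing.maximalIdeal A) A) n).mp
        hSn
    have h2 := h1 P'.asIdeal
    have hNF : IsNoetherianRing (EGA4.FibLocRing A
        (AdicCompletion (IsLocalRing.maximalIdeal A) A) P'.asIdeal) := h2.2.1
    exact (snLocalRing_iff n _).mp h2
  · intro hmin
    exact fibLocRing_zero_of_mem_minimalPrimes (B := A)
      (C := AdicCompletion (IsLocalRing.maximalIdeal A) A) _ P'.asIdeal hmin
  · intro hmin
    exact (fibLocRing_zero_of_mem_minimalPrimes (B := A)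
      (C := AdicCompletion (IsLocalRing.maximalIdeal A) A) _ Q'.asIdeal hmin).1

end Pair

section Main

variable (A : Type u) [CommRing A] [IsLocalRing A] [IsNoetherianRing A]
  (M : Type u) [AddCommGroup M] [Module A M] [Module.Finite A M]

/-- the cutoff of the completion is at most the cutoff -/
theorem cutoff_adicCompletion_le (hA : CAlg.IsUniversallyCatenary A) (I : Ideal A) :
    Dual2.cutoff (AdicCompletion (IsLocalRing.maximalIdeal A) A)
        (I.map (algebraMap A (AdicCompletion (IsLocalRing.maximalIdeal A) A)))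
        (AdicCompletion (IsLocalRing.maximalIdeal A) M) ≤ Dual2.cutoff A I M := by
  have hN : IsNoetherianRing (AdicCompletion (IsLocalRing.maximalIdeal A) A) :=
    Groth.Agent.Lib.Helper19.isNoetherianRing_adicCompletion _
  have hlh := isLocalHom_algebraMap_adicCompletion A
  unfold Dual2.cutoff
  refine le_iInf fun p => le_iInf fun q => le_iInf fun hpq => le_iInf fun hIp => le_iInf fun hIq => ?_
  have hqtop : q.asIdeal.map (algebraMap A (AdicCompletion (IsLocalRing.maximalIdeal A) A)) ≠ ⊤ :=
    map_ne_top_of_isLocalHom q.asIdeal q.2.ne_top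
  obtain ⟨Q'i, hQ'min, -⟩ := Ideal.exists_minimalPrimes_le
    (I := q.asIdeal.map (algebraMap A (AdicCompletion (IsLocalRing.maximalIdeal A) A)))
    (J := IsLocalRing.maximalIdeal (AdicCompletion (IsLocalRing.maximalIdeal A) A))
    (IsLocalRing.le_maximalIdeal hqtop)
  have hQ'prime : Q'i.IsPrime := hQ'min.1.1
  have hpQ' : p.asIdeal.map (algebraMap A (AdicCompletion (IsLocalRing.maximalIdeal A) A)) ≤ Q'i :=
    (Ideal.map_mono hpq).trans hQ'min.1.2
  obtain ⟨P'i, hP'min, hP'Q'⟩ := Ideal.exists_minimalPrimes_le hpQ'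
  have hP'prime : P'i.IsPrime := hP'min.1.1
  have hq' : Q'i.comap (algebraMap A (AdicCompletion (IsLocalRing.maximalIdeal A) A)) = q.asIdeal :=
    under_eq_of_mem_minimalPrimes_map q.asIdeal Q'i hQ'min
  have hp' : P'i.comap (algebraMap A (AdicCompletion (IsLocalRing.maximalIdeal A) A)) = p.asIdeal :=
    under_eq_of_mem_minimalPrimes_map p.asIdeal P'i hP'min
  set P' : PrimeSpectrum (AdicCompletion (IsLocalRing.maximalIdeal A) A) := ⟨P'i, hP'prime⟩
  set Q' : PrimeSpectrum (AdicCompletion (IsLocalRing.maximalIdeal A) A) := ⟨Q'i, hQ'prime⟩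
  have hp : p = PrimeSpectrum.comap
      (algebraMap A (AdicCompletion (IsLocalRing.maximalIdeal A) A)) P' :=
    PrimeSpectrum.ext hp'.symm
  have hq : q = PrimeSpectrum.comap
      (algebraMap A (AdicCompletion (IsLocalRing.maximalIdeal A) A)) Q' :=
    PrimeSpectrum.ext hq'.symm
  subst hp
  subst hq
  have hPQ : P' ≤ Q' := hP'Q'
  have hIP' : ¬ I.map (algebraMap A (AdicCompletion (IsLocalRing.maximalIdeal A) A)) ≤
      P'.asIdeal := fun h => hIp (Ideal.map_le_iff_le_comap.mp h)
  have hIQ' : I.map (algebraMap A (AdicCompletion (IsLocalRing.maximalIdeal A) A)) ≤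
      Q'.asIdeal := Ideal.map_le_iff_le_comap.mpr hIq
  obtain ⟨dF, hFP, hFQ, h1, h2, -, h4, h5⟩ := pair_formulas A M hA P' Q' hPQ hpq
  obtain ⟨h41, h42⟩ := h4 hP'min
  have h51 := h5 hQ'min
  refine iInf_le_of_le P' (iInf_le_of_le Q' (iInf_le_of_le hPQ (iInf_le_of_le hIP'
    (iInf_le_of_le hIQ' ?_))))
  rw [h41, h51, add_zero, add_zero] at h2
  rw [h42, add_zero] at h1
  rw [h1, h2]

/-- if the formal fibres satisfy `(S_n)`, the cutoff of the completion is at least the minimum of
`n + 1` and the cutoff -/
theorem min_le_cutoff_adicCompletion (hA : CAlg.IsUniversallyCatenary A) (I : Ideal A) (n : ℕ)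
    (hSn : EGA4.HasSnFormalFibres n A) :
    min ((n : ℕ∞) + 1) (Dual2.cutoff A I M) ≤
      Dual2.cutoff (AdicCompletion (IsLocalRing.maximalIdeal A) A)
        (I.map (algebraMap A (AdicCompletion (IsLocalRing.maximalIdeal A) A)))
        (AdicCompletion (IsLocalRing.maximalIdeal A) M) := by
  refine le_iInf fun P' => le_iInf fun Q' => le_iInf fun hPQ => le_iInf fun hIP' =>
    le_iInf fun hIQ' => ?_
  have hpq : PrimeSpectrum.comap (algebraMap A (AdicCompletion (IsLocalRing.maximalIdeal A) A)) P' ≤
      PrimeSpectrum.comap (algebraMap A (AdicCompletion (IsLocalRing.maximalIdeal A) A)) Q' :=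
    Ideal.comap_mono hPQ
  obtain ⟨dF, hFP, hFQ, h1, h2, h3, -, -⟩ := pair_formulas A M hA P' Q' hPQ hpq
  have hIp : ¬ I ≤ (PrimeSpectrum.comap
      (algebraMap A (AdicCompletion (IsLocalRing.maximalIdeal A) A)) P').asIdeal :=
    fun h => hIP' (Ideal.map_le_iff_le_comap.mpr h)
  have hIq : I ≤ (PrimeSpectrum.comap
      (algebraMap A (AdicCompletion (IsLocalRing.maximalIdeal A) A)) Q').asIdeal :=
    Ideal.map_le_iff_le_comap.mp hIQ'
  have hcut : Dual2.cutoff A I M ≤
      LocCoh.depth
          (Localization.AtPrime (PrimeSpectrum.comap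
            (algebraMap A (AdicCompletion (IsLocalRing.maximalIdeal A) A)) P').asIdeal)
          (LocalizedModule (PrimeSpectrum.comap
            (algebraMap A (AdicCompletion (IsLocalRing.maximalIdeal A) A)) P').asIdeal.primeCompl
            M) +
        Order.height (⟨PrimeSpectrum.comap
          (algebraMap A (AdicCompletion (IsLocalRing.maximalIdeal A) A)) Q', hpq⟩ :
          Set.Ici (PrimeSpectrum.comap
            (algebraMap A (AdicCompletion (IsLocalRing.maximalIdeal A) A)) P')) :=
    iInf_le_of_le _ (iInf_le_of_le _ (iInf_le_of_le hpq (iInf_le_of_le hIp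
      (iInf_le_of_le hIq le_rfl))))
  have hne : P' ≠ Q' := by
    rintro rfl
    exact hIP' hIQ'
  have hone : 1 ≤ Order.height (⟨Q', hPQ⟩ : Set.Ici P') := by
    rw [Order.one_le_iff_ne_zero, Order.height_ne_zero]
    intro hmin
    have h := hmin (b := (⟨P', Set.mem_Ici.mpr le_rfl⟩ : Set.Ici P')) hPQ
    exact hne (le_antisymm hPQ h)
  rw [h1]
  rcases min_le_iff.mp (h3 n hSn) with h | h
  · refine (min_le_left _ _).trans ?_
    calc (n : ℕ∞) + 1 ≤ dF + Order.height (⟨Q', hPQ⟩ : Set.Ici P') := add_le_add h hone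
      _ ≤ _ := by
        rw [add_assoc]
        exact le_add_self
  · refine (min_le_right _ _).trans (hcut.trans ?_)
    calc _ ≤ LocCoh.depth
          (Localization.AtPrime (PrimeSpectrum.comap
            (algebraMap A (AdicCompletion (IsLocalRing.maximalIdeal A) A)) P').asIdeal)
          (LocalizedModule (PrimeSpectrum.comap
            (algebraMap A (AdicCompletion (IsLocalRing.maximalIdeal A) A)) P').asIdeal.primeCompl
            M) + (Order.height (⟨PrimeSpectrum.comap
          (algebraMap A (AdicCompletion (IsLocalRing.maximalIdeal A) A)) Q', hpq⟩ :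
          Set.Ici (PrimeSpectrum.comap
            (algebraMap A (AdicCompletion (IsLocalRing.maximalIdeal A) A)) P')) + hFQ) := by
          gcongr
          exact le_self_add
      _ = _ + (Order.height (⟨Q', hPQ⟩ : Set.Ici P') + hFP) := by rw [h2]
      _ ≤ _ + (Order.height (⟨Q', hPQ⟩ : Set.Ici P') + dF) := by gcongr
      _ = _ := by
        rw [add_comm (Order.height (⟨Q', hPQ⟩ : Set.Ici P')) dF, add_assoc]

end Main

end Groth.Agent.Lib.Helper14.CplCut
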