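import Mathlib
import Groth.Agent.S1727
import Groth.Agent.Lib.Helper14FaltCxG
import Groth.Agent.Lib.Helper14FaltG

/-! # Finiteness of local cohomology below the cutoff, for rings with a dualizing complex (helper14)

* `finite_H_of_lt_cutoff`: `H^i_I(M)` is finite for `i < s_{A,I}(M)`;
* `lt_cutoff_of_finite`: if `H^i_I(M)` is finite for all `i ≤ s` then `s < s_{A,I}(M)`. -/

set_option autoImplicit false
set_option linter.unusedVariables false
set_option linter.unusedSectionVars false
set_option linter.style.haveILetI false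
set_option maxHeartbeats 400000

universe u

open CategoryTheory

attribute [local instance] HasDerivedCategory.standard

namespace Groth.Agent.Lib.Helper14.HFin

variable {A : Type u} [CommRing A] [IsNoetherianRing A]

/-- over a ring with a dualizing complex, the dimension of an interval of primes is a height -/
theorem krullDim_Icc_eq_height (hA : ∃ ω : Dual.D A, Dual.IsDualizing A ω)
    (p q : PrimeSpectrum A) (hpq : p ≤ q) :
    Order.krullDim (Set.Icc p q) =
      ((Order.height (⟨q, hpq⟩ : Set.Ici p) : ℕ∞) : WithBot ℕ∞) := by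
  obtain ⟨ω, hω⟩ := hA
  obtain ⟨δ, h1, h2⟩ := Groth.Agent.Lib.Helper5.DualDim.main A ω hω
  rw [Groth.Agent.Lib.Helper14.Falt.krullDim_Icc δ h2 p q hpq,
    Groth.Agent.Lib.Helper14.FaltCx.height_Ici δ h2 p q hpq]
  rfl

lemma mem_zeroLocus_iff (I : Ideal A) (p : PrimeSpectrum A) :
    p ∈ PrimeSpectrum.zeroLocus (I : Set A) ↔ I ≤ p.asIdeal := by
  rw [PrimeSpectrum.mem_zeroLocus, SetLike.coe_subset_coe]

lemma stable_zeroLocus (I : Ideal A) :
    StableUnderSpecialization (PrimeSpectrum.zeroLocus (I : Set A)) :=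
  (PrimeSpectrum.isClosed_zeroLocus _).stableUnderSpecialization

variable (hA : ∃ ω : Dual.D A, Dual.IsDualizing A ω) (I : Ideal A)
  (M : Type u) [AddCommGroup M] [Module A M] [Module.Finite A M]

include hA in
/-- the criterion of S1727 in terms of `H^i_I` and heights -/
theorem finite_iff (s : ℕ) :
    (∀ i : ℕ, i ≤ s → Module.Finite A (LocCoh.H I i M)) ↔
      ∀ (p q : PrimeSpectrum A) (hpq : p ≤ q), ¬ I ≤ p.asIdeal → I ≤ q.asIdeal →
        (s : ℕ∞) < LocCoh.depth (Localization.AtPrime p.asIdeal)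
          (LocalizedModule p.asIdeal.primeCompl M) + Order.height (⟨q, hpq⟩ : Set.Ici p) := by
  have key := Groth.Agent.S1727.result A hA (PrimeSpectrum.zeroLocus (I : Set A))
    (stable_zeroLocus I) s M
  have e1 : (∀ i : ℕ, i ≤ s → Module.Finite A (LocCoh.H I i M)) ↔
      ∀ i : ℕ, i ≤ s → Module.Finite A (Dual2.HT (PrimeSpectrum.zeroLocus (I : Set A)) i M) := by
    refine forall_congr' fun i => forall_congr' fun _ => ?_
    exact ⟨fun h => Module.Finite.equiv (Groth.Agent.Lib.Helper14.Falt.bridgeEquiv I i M).symm,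
      fun h => Module.Finite.equiv (Groth.Agent.Lib.Helper14.Falt.bridgeEquiv I i M)⟩
  rw [e1, key]
  constructor
  · intro h p q hpq hIp hIq
    have h1 := h p q (fun hp => hIp ((mem_zeroLocus_iff I p).mp hp))
      ((mem_zeroLocus_iff I q).mpr hIq) hpq
    rw [krullDim_Icc_eq_height hA p q hpq, ← WithBot.coe_add] at h1
    exact WithBot.coe_lt_coe.mp h1
  · intro h p q hp hq hpq
    have h1 := h p q hpq (fun hIp => hp ((mem_zeroLocus_iff I p).mpr hIp))
      ((mem_zeroLocus_iff I q).mp hq)
    rw [krullDim_Icc_eq_height hA p q hpq, ← WithBot.coe_add]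
    exact WithBot.coe_lt_coe.mpr h1

include hA in
theorem finite_H_of_lt_cutoff (i : ℕ) (hi : (i : ℕ∞) < Dual2.cutoff A I M) :
    Module.Finite A (LocCoh.H I i M) := by
  refine (finite_iff hA I M i).mpr ?_ i le_rfl
  intro p q hpq hIp hIq
  refine lt_of_lt_of_le hi ?_
  exact iInf_le_of_le p (iInf_le_of_le q (iInf_le_of_le hpq (iInf_le_of_le hIp
    (iInf_le_of_le hIq le_rfl))))

include hA in
theorem lt_cutoff_of_finite (s : ℕ) (h : ∀ i : ℕ, i ≤ s → Module.Finite A (LocCoh.H I i M)) :
    (s : ℕ∞) < Dual2.cutoff A I M := by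
  have h1 := (finite_iff hA I M s).mp h
  have h2 : ((s : ℕ∞) + 1) ≤ Dual2.cutoff A I M := by
    refine le_iInf fun p => le_iInf fun q => le_iInf fun hpq => le_iInf fun hIp =>
      le_iInf fun hIq => ?_
    exact Order.add_one_le_of_lt (h1 p q hpq hIp hIq)
  exact lt_of_lt_of_le ENat.natCast_lt_succ h2

end Groth.Agent.Lib.Helper14.HFin
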