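import Groth.Agent.Lib.Helper19FlatResExtA
import Groth.Agent.Lib.Helper19Restricted2
import Mathlib.RingTheory.TensorProduct.Quotient
import Mathlib.RingTheory.RingHom.Flat

/-!
# Flat local extensions of complete local rings with prescribed residue field (helper19)

EGA 0_III 10.3.1 for complete Noetherian local rings, via Cohen's structure theorem: if `R` is a
quotient of `Λ[[T]]` with `Λ` a Cohen ring for the residue field `k`, and `Λ'` is a Cohen ring for
`K ⊇ k`, then `R ⊗_{Λ[[T]]} Λ'[[T]]` is a complete Noetherian local flat `R`-algebra with residue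
field `K`, unramified over `R`.
-/

set_option autoImplicit false
set_option linter.style.haveILetI false
set_option linter.unusedSectionVars false
universe u

namespace Groth.Agent.Lib.Helper19.FlatResExt

open IsLocalRing MvPowerSeries Groth.Agent.Lib.Helper19.CohenStructure

/-- base change of a flat algebra to a quotient -/
theorem flat_quotient_map {P P' : Type u} [CommRing P] [CommRing P'] [Algebra P P']
    [Module.Flat P P'] (I : Ideal P) :
    Module.Flat (P ⧸ I) (P' ⧸ I.map (algebraMap P P')) :=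
  Module.Flat.of_linearEquiv
    (Algebra.TensorProduct.quotIdealMapEquivQuotTensor P' I).toLinearEquiv

/-- a surjection from a local ring onto a nontrivial ring maps the maximal ideal onto the maximal
ideal -/
theorem map_maximalIdeal_of_surjective {P R : Type*} [CommRing P] [IsLocalRing P] [CommRing R]
    [IsLocalRing R] (f : P →+* R) (hf : Function.Surjective f) :
    (maximalIdeal P).map f = maximalIdeal R := by
  have hunit : ∀ g : P, IsUnit (f g) → IsUnit g := by
    intro g hg
    obtain ⟨r, hr⟩ := hg.exists_right_inv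
    obtain ⟨h, rfl⟩ := hf r
    by_contra hgu
    have h1 : g * h ∈ maximalIdeal P := Ideal.mul_mem_right _ _ ((mem_maximalIdeal g).2 hgu)
    have h2 : IsUnit (1 - g * h) := by
      by_contra hnu
      have h3 : 1 - g * h ∈ maximalIdeal P := (mem_maximalIdeal _).2 hnu
      have : (1 : P) ∈ maximalIdeal P := by
        have := Ideal.add_mem _ h3 h1
        rwa [sub_add_cancel] at this
      exact (Ideal.ne_top_iff_one _).1 (IsLocalRing.maximalIdeal.isMaximal P).ne_top this
    have h4 : f (1 - g * h) = 0 := by rw [map_sub, map_one, map_mul, hr, sub_self]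
    have := h2.map f
    rw [h4] at this
    exact not_isUnit_zero this
  apply le_antisymm
  · rw [Ideal.map_le_iff_le_comap]
    intro g hg
    rw [Ideal.mem_comap, mem_maximalIdeal, mem_nonunits_iff]
    exact fun h => (mem_maximalIdeal g).1 hg (hunit g h)
  · intro r hr
    obtain ⟨g, rfl⟩ := hf r
    apply Ideal.mem_map_of_mem
    rw [mem_maximalIdeal, mem_nonunits_iff]
    exact fun h => (mem_maximalIdeal _).1 hr (h.map f)

section ps

variable {Λ Λ' : Type u} [CommRing Λ] [IsLocalRing Λ] [CommRing Λ'] [IsLocalRing Λ']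
  [Algebra Λ Λ'] (n : ℕ)

/-- if `𝔪_Λ Λ' = 𝔪_Λ'` then the same holds for the power series rings -/
theorem map_maximalIdeal_mvPowerSeries
    (hmap : (maximalIdeal Λ).map (algebraMap Λ Λ') = maximalIdeal Λ') :
    (maximalIdeal (MvPowerSeries (Fin n) Λ)).map
      (algebraMap (MvPowerSeries (Fin n) Λ) (MvPowerSeries (Fin n) Λ')) =
      maximalIdeal (MvPowerSeries (Fin n) Λ') := by
  have hC : ∀ c : Λ, algebraMap (MvPowerSeries (Fin n) Λ) (MvPowerSeries (Fin n) Λ')
      (C c) = C (algebraMap Λ Λ' c) := by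
    intro c
    rw [MvPowerSeries.algebraMap_apply'', MvPowerSeries.map_C]
  have hX : ∀ s : Fin n, algebraMap (MvPowerSeries (Fin n) Λ) (MvPowerSeries (Fin n) Λ')
      (X s) = X s := by
    intro s
    rw [MvPowerSeries.algebraMap_apply'', MvPowerSeries.map_X]
  apply le_antisymm
  · rw [Ideal.map_le_iff_le_comap]
    intro g hg
    rw [Ideal.mem_comap, maximalIdeal_eq_coeffIdeal, mem_coeffIdeal_one,
      MvPowerSeries.algebraMap_apply'', MvPowerSeries.constantCoeff_map, ← hmap]
    rw [maximalIdeal_eq_coeffIdeal, mem_coeffIdeal_one] at hg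
    exact Ideal.mem_map_of_mem _ hg
  · intro g hg
    rw [maximalIdeal_eq_coeffIdeal, mem_coeffIdeal_one, ← hmap] at hg
    have h1 : g - C (constantCoeff g) ∈ varsIdeal (Fin n) Λ' ^ 1 := by
      apply mem_varsIdeal_pow_of_coeff_eq_zero
      intro α hα
      have hα0 : α = 0 := by
        rw [Nat.lt_one_iff] at hα
        exact (Finsupp.degree_eq_zero_iff α).1 hα
      rw [hα0, map_sub, coeff_zero_eq_constantCoeff_apply, coeff_zero_eq_constantCoeff_apply,
        constantCoeff_C, sub_self]
    rw [pow_one] at h1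
    have h2 : varsIdeal (Fin n) Λ' ≤ (maximalIdeal (MvPowerSeries (Fin n) Λ)).map
        (algebraMap (MvPowerSeries (Fin n) Λ) (MvPowerSeries (Fin n) Λ')) := by
      rw [varsIdeal, Ideal.span_le]
      rintro _ ⟨s, rfl⟩
      rw [← hX s]
      apply Ideal.mem_map_of_mem
      rw [maximalIdeal_eq_coeffIdeal]
      exact X_mem_coeffIdeal_one _ s
    have h3 : C (constantCoeff g) ∈ (maximalIdeal (MvPowerSeries (Fin n) Λ)).map
        (algebraMap (MvPowerSeries (Fin n) Λ) (MvPowerSeries (Fin n) Λ')) := by
      have hle : (maximalIdeal Λ).map (algebraMap Λ Λ') ≤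
          ((maximalIdeal (MvPowerSeries (Fin n) Λ)).map
            (algebraMap (MvPowerSeries (Fin n) Λ) (MvPowerSeries (Fin n) Λ'))).comap
              (C : Λ' →+* MvPowerSeries (Fin n) Λ') := by
        rw [Ideal.map_le_iff_le_comap]
        intro c hc
        rw [Ideal.mem_comap, Ideal.mem_comap, ← hC]
        apply Ideal.mem_map_of_mem
        rw [maximalIdeal_eq_coeffIdeal, mem_coeffIdeal_one, constantCoeff_C]
        exact hc
      exact hle hg
    have := Ideal.add_mem _ (h2 h1) h3
    rwa [sub_add_cancel] at this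

end ps

/-- **EGA 0_III 10.3.1 for complete local rings**: a complete Noetherian local ring `R` with a
homomorphism `κ : R → K` to a field with kernel `𝔪_R` has a complete Noetherian local flat
algebra `B` with `𝔪_R B = 𝔪_B` and `B / 𝔪_B = K` compatibly with `κ`. -/
theorem exists_flat_complete_local_of_complete (R : Type u) [CommRing R] [IsLocalRing R]
    [IsNoetherianRing R] [IsAdicComplete (maximalIdeal R) R] (K : Type u) [Field K]
    (κ : R →+* K) (hκ : RingHom.ker κ = maximalIdeal R) :
    ∃ (B : Type u) (_ : CommRing B) (_ : IsLocalRing B) (_ : IsNoetherianRing B)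
      (_ : Algebra R B),
      IsAdicComplete (maximalIdeal B) B ∧ Module.Flat R B ∧
      (maximalIdeal R).map (algebraMap R B) = maximalIdeal B ∧
      ∃ ρ : B →+* K, Function.Surjective ρ ∧ RingHom.ker ρ = maximalIdeal B ∧
        ∀ r, ρ (algebraMap R B r) = κ r := by
  -- coefficient ring of `R`
  obtain ⟨Λ, i1, i2, i3, φ, hΛE, -, hloc, hres⟩ := exists_coefficientRing' R
  -- Cohen ring for `K`
  obtain ⟨Λ', j1, j2, j3, hΛ'E, ⟨ε⟩⟩ := exists_isCohenRingEGA_residueField K
  -- the map on residue fields
  have hκΛ : ∀ x ∈ maximalIdeal Λ, (κ.comp φ) x = 0 := by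
    intro x hx
    have := hloc x hx
    rw [← hκ, RingHom.mem_ker] at this
    exact this
  let e₁ : ResidueField Λ →+* K := Ideal.Quotient.lift (maximalIdeal Λ) (κ.comp φ) hκΛ
  have he₁ : ∀ x, e₁ (residue Λ x) = κ (φ x) := fun x => rfl
  let e : ResidueField Λ →+* ResidueField Λ' := (ε.symm : K →+* ResidueField Λ').comp e₁
  obtain ⟨ψ, hψ⟩ := exists_ringHom_of_isCohenRingEGA hΛE e
  have hψ' : ∀ x, ε (residue Λ' (ψ x)) = κ (φ x) := by
    intro x
    rw [hψ]
    change ε (ε.symm (e₁ (residue Λ x))) = _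
    rw [RingEquiv.apply_symm_apply, he₁]
  letI : Algebra Λ Λ' := ψ.toAlgebra
  have halg : ∀ x, algebraMap Λ Λ' x = ψ x := fun x => rfl
  haveI : IsLocalHom (algebraMap Λ Λ') := by
    refine ⟨fun x hx => ?_⟩
    rw [← residue_ne_zero_iff_isUnit] at hx ⊢
    intro h0
    apply hx
    rw [halg, hψ, h0, map_zero]
  obtain ⟨hflat, hmapΛ⟩ := flat_and_map_maximalIdeal_of_isCohenRingEGA hΛE hΛ'E
  obtain ⟨hdom, hpid⟩ := isDomain_and_isPrincipalIdealRing_of_isCohenRingEGA hΛE
  obtain ⟨hdom', hpid'⟩ := isDomain_and_isPrincipalIdealRing_of_isCohenRingEGA hΛ'E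
  haveI : IsNoetherianRing Λ := inferInstance
  haveI : IsNoetherianRing Λ' := inferInstance
  -- the presentation of `R`
  obtain ⟨n, a, ha⟩ := Submodule.fg_iff_exists_fin_generating_family.1
    (IsNoetherian.noetherian (maximalIdeal R))
  letI : Algebra Λ R := φ.toAlgebra
  obtain ⟨ev, hev⟩ := exists_surjective_algHom_mvPowerSeries (Λ := Λ) (A := R) n a ha hloc hres
  let P := MvPowerSeries (Fin n) Λ
  let P' := MvPowerSeries (Fin n) Λ'
  haveI : Module.Flat P P' := flat_mvPowerSeries n
  have hmapP : (maximalIdeal P).map (algebraMap P P') = maximalIdeal P' :=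
    map_maximalIdeal_mvPowerSeries n hmapΛ
  have hevm : (maximalIdeal P).map (ev : P →+* R) = maximalIdeal R :=
    map_maximalIdeal_of_surjective (ev : P →+* R) hev
  have hC : ∀ l : Λ, ev (C l) = φ l := by
    intro l
    have h2 : (C l : MvPowerSeries (Fin n) Λ) = algebraMap Λ (MvPowerSeries (Fin n) Λ) l := by
      rw [MvPowerSeries.algebraMap_apply, Algebra.algebraMap_self, RingHom.id_apply]
    rw [h2]
    exact ev.commutes l
  -- `κ ∘ ev` only depends on the constant coefficient
  have hκev : ∀ g : P, κ (ev g) = κ (φ (constantCoeff g)) := by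
    intro g
    have h1 : g - C (constantCoeff g) ∈ maximalIdeal P := by
      rw [maximalIdeal_eq_coeffIdeal, mem_coeffIdeal_one, map_sub, constantCoeff_C, sub_self]
      exact zero_mem _
    have h2 : (ev : P →+* R) (g - C (constantCoeff g)) ∈ maximalIdeal R := by
      rw [← hevm]
      exact Ideal.mem_map_of_mem _ h1
    rw [← hκ, RingHom.mem_ker] at h2
    have h3 : κ (ev g - ev (C (constantCoeff g))) = 0 := by
      rw [← map_sub]
      exact h2
    rw [map_sub, sub_eq_zero, hC] at h3
    exact h3
  -- the residue map of `P'`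
  let ρ₀ : P' →+* K := (ε : ResidueField Λ' →+* K).comp ((residue Λ').comp constantCoeff)
  have hρ₀ : ∀ g : P', ρ₀ g = ε (residue Λ' (constantCoeff g)) := fun g => rfl
  have hρ₀map : ∀ g : P, ρ₀ (algebraMap P P' g) = κ (ev g) := by
    intro g
    rw [hρ₀, MvPowerSeries.algebraMap_apply'', MvPowerSeries.constantCoeff_map, halg, hψ', hκev]
  have hρ₀ker : RingHom.ker ρ₀ = maximalIdeal P' := by
    ext g
    rw [RingHom.mem_ker, hρ₀, maximalIdeal_eq_coeffIdeal, mem_coeffIdeal_one,
      map_eq_zero_iff _ ε.injective, residue_eq_zero_iff]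
  have hρ₀surj : Function.Surjective ρ₀ := by
    intro y
    obtain ⟨z, hz⟩ := residue_surjective (ε.symm y)
    refine ⟨C z, ?_⟩
    rw [hρ₀, constantCoeff_C, hz, RingEquiv.apply_symm_apply]
  -- the ring `B`
  let I : Ideal P := RingHom.ker (ev : P →+* R)
  let J : Ideal P' := I.map (algebraMap P P')
  have hJ : J ≤ RingHom.ker ρ₀ := by
    rw [Ideal.map_le_iff_le_comap]
    intro g hg
    rw [Ideal.mem_comap, RingHom.mem_ker, hρ₀map]
    have : ev g = 0 := hg
    rw [this, map_zero]
  let B := P' ⧸ J
  let ρ : B →+* K := Ideal.Quotient.lift J ρ₀ hJ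
  have hρ : ∀ g : P', ρ (Ideal.Quotient.mk J g) = ρ₀ g := fun g => rfl
  have hρsurj : Function.Surjective ρ := by
    intro y
    obtain ⟨g, rfl⟩ := hρ₀surj y
    exact ⟨Ideal.Quotient.mk J g, rfl⟩
  haveI : Nontrivial B := by
    refine Ideal.Quotient.nontrivial_iff.2 fun h => ?_
    have h1 : (1 : P') ∈ RingHom.ker ρ₀ := hJ (h ▸ Submodule.mem_top)
    rw [RingHom.mem_ker, map_one] at h1
    exact one_ne_zero h1
  haveI : IsLocalRing B := IsLocalRing.of_surjective' (Ideal.Quotient.mk J)
    Ideal.Quotient.mk_surjective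
  have hρker : RingHom.ker ρ = maximalIdeal B := by
    haveI : (RingHom.ker ρ).IsMaximal := RingHom.ker_isMaximal_of_surjective ρ hρsurj
    exact IsLocalRing.eq_maximalIdeal inferInstance
  have hmB : maximalIdeal B = (maximalIdeal P').map (Ideal.Quotient.mk J) := by
    rw [← hρker, ← hρ₀ker]
    exact Ideal.ker_quotient_lift ρ₀ hJ
  -- the structure map
  let θ : R →+* B := RingHom.liftOfSurjective (ev : P →+* R) hev
    ⟨(Ideal.Quotient.mk J).comp (algebraMap P P'), by
      intro g hg
      rw [RingHom.mem_ker, RingHom.comp_apply, Ideal.Quotient.eq_zero_iff_mem]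
      exact Ideal.mem_map_of_mem _ hg⟩
  have hθ : ∀ g : P, θ (ev g) = Ideal.Quotient.mk J (algebraMap P P' g) := by
    intro g
    exact RingHom.liftOfRightInverse_comp_apply _ _ _ _ g
  have hθcomp : θ.comp (ev : P →+* R) = (Ideal.Quotient.mk J).comp (algebraMap P P') :=
    RingHom.ext hθ
  letI : Algebra R B := θ.toAlgebra
  have halgB : ∀ r, algebraMap R B r = θ r := fun r => rfl
  -- flatness
  have hflatB : Module.Flat R B := by
    haveI : Module.Flat (P ⧸ I) (P' ⧸ J) := flat_quotient_map I
    let ι : R ≃+* P ⧸ I := (RingHom.quotientKerEquivOfSurjective hev).symm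
    have hι : ∀ g : P, ι (ev g) = Ideal.Quotient.mk I g := by
      intro g
      change (RingHom.quotientKerEquivOfSurjective hev).symm (ev g) = _
      rw [RingEquiv.symm_apply_eq]
      rfl
    have h1 : (algebraMap (P ⧸ I) (P' ⧸ J)).Flat := RingHom.flat_algebraMap_iff.2 inferInstance
    have h2 : (ι : R →+* P ⧸ I).Flat := RingHom.Flat.of_bijective ι.bijective
    have h3 : θ = (algebraMap (P ⧸ I) (P' ⧸ J)).comp (ι : R →+* P ⧸ I) := by
      ext r
      obtain ⟨g, rfl⟩ := hev r
      rw [hθ, RingHom.comp_apply]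
      change _ = algebraMap (P ⧸ I) (P' ⧸ J) (ι (ev g))
      rw [hι]
      rfl
    have h4 : θ.Flat := h3 ▸ RingHom.Flat.comp h2 h1
    exact RingHom.flat_algebraMap_iff.1 h4
  -- maximal ideals
  have hmapB : (maximalIdeal R).map (algebraMap R B) = maximalIdeal B := by
    change (maximalIdeal R).map θ = maximalIdeal B
    rw [hmB, ← hmapP, ← hevm, Ideal.map_map, Ideal.map_map, hθcomp]
  -- completeness
  have hcomplB : IsAdicComplete (maximalIdeal B) B := by
    haveI : IsAdicComplete (maximalIdeal P') P' := isAdicComplete_mvPowerSeries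
    rw [hmB]
    exact isAdicComplete_quotient_of_isNoetherianRing P' (maximalIdeal P') J
  refine ⟨B, inferInstance, inferInstance, inferInstance, inferInstance, hcomplB, hflatB, hmapB,
    ρ, hρsurj, hρker, fun r => ?_⟩
  obtain ⟨g, rfl⟩ := hev r
  rw [halgB, hθ, hρ, hρ₀map]

end Groth.Agent.Lib.Helper19.FlatResExt
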