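import Mathlib
import Groth.Agent.Lib.Helper19ComplTwo
import Groth.Agent.Lib.Helper19Restricted2
import Groth.Agent.Lib.Helper14SysLim

/-!
# Rig-closed primes of an adically complete Noetherian ring (helper14)
-/

set_option autoImplicit false
universe u

namespace Groth.Agent.Lib.Helper14.RigClosed

section A
variable {C : Type u} [CommRing C] [IsDomain C] [IsNoetherianRing C]

/-- In a Noetherian domain, if all nonzero primes contain a fixed nonzero ideal then the dimension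
is at most one. -/
theorem krullDimLE_one_of_forall_le (J : Ideal C) (hJ0 : J ≠ ⊥)
    (h : ∀ P : Ideal C, P.IsPrime → P ≠ ⊥ → J ≤ P) : Ring.KrullDimLE 1 C := by
  refine Ring.krullDimLE_one_iff_of_noZeroDivisors.mpr fun P hP0 hP => ?_
  by_contra hPmax
  obtain ⟨M, hM, hPM⟩ := Ideal.exists_le_maximal P hP.ne_top
  haveI := hM.isPrime
  have hlt : P < M := lt_of_le_of_ne hPM (fun e => hPmax (e ▸ hM))
  -- height of M is at least 2
  have hP1 : 1 ≤ P.height := by
    rw [Order.one_le_iff_pos, pos_iff_ne_zero, Ne, Ideal.height_eq_zero_iff_eq_bot]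
    exact hP0
  have hM2 : 2 ≤ M.height := by
    have := Ideal.height_add_one_le_of_lt_of_isPrime hlt
    calc (2 : ℕ∞) = 1 + 1 := by norm_num
      _ ≤ P.height + 1 := by gcongr
      _ ≤ M.height := this
  obtain ⟨x, hxJ, hx0⟩ : ∃ x ∈ J, x ≠ 0 := by
    by_contra hcon
    push Not at hcon
    exact hJ0 ((Submodule.eq_bot_iff _).mpr hcon)
  have hxM : x ∈ M := h M inferInstance (fun e => hP0 (le_bot_iff.mp (e ▸ hPM))) hxJ
  set S := (Ideal.span {x}).minimalPrimes with hS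
  have hSfin : S.Finite := Ideal.finite_minimalPrimes_of_isNoetherianRing C _
  have hSht : ∀ Q ∈ S, Q.height ≤ 1 := fun Q hQ =>
    Ideal.height_le_one_of_isPrincipal_of_mem_minimalPrimes (Ideal.span {x}) Q hQ
  have hnot : ¬ ((M : Set C) ⊆ ⋃ Q ∈ S, (Q : Set C)) := by
    rw [Ideal.subset_union_prime_finite hSfin ⊥ ⊥ (fun Q hQ _ _ => hQ.isPrime)]
    rintro ⟨Q, hQ, hMQ⟩
    have := (Ideal.height_mono hMQ).trans (hSht Q hQ)
    exact absurd (hM2.trans this) (by norm_num)
  obtain ⟨y, hyM, hyS⟩ := Set.not_subset.mp hnot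
  have hyS' : ∀ Q ∈ S, y ∉ Q := fun Q hQ hyQ => hyS (Set.mem_biUnion hQ hyQ)
  obtain ⟨P'', hP''min, hP''M⟩ := Ideal.exists_minimalPrimes_le
    (show Ideal.span {y} ≤ M from (Ideal.span_singleton_le_iff_mem M).mpr hyM)
  haveI := hP''min.isPrime
  have hyP'' : y ∈ P'' := hP''min.1.2 (Ideal.mem_span_singleton_self y)
  have hP''ht : P''.height ≤ 1 :=
    Ideal.height_le_one_of_isPrincipal_of_mem_minimalPrimes (Ideal.span {y}) P'' hP''min
  have hy0 : y ≠ 0 := by
    rintro rfl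
    obtain ⟨Q, hQ⟩ := Ideal.nonempty_minimalPrimes
      (show Ideal.span {x} ≠ ⊤ from fun e => hM.ne_top
        (top_le_iff.mp (e ▸ (Ideal.span_singleton_le_iff_mem M).mpr hxM)))
    exact hyS' Q hQ (zero_mem _)
  have hP''0 : P'' ≠ ⊥ := fun e => hy0 (by simpa [e] using hyP'')
  have hxP'' : x ∈ P'' := h P'' inferInstance hP''0 hxJ
  obtain ⟨Q, hQ, hQP''⟩ := Ideal.exists_minimalPrimes_le
    (show Ideal.span {x} ≤ P'' from (Ideal.span_singleton_le_iff_mem P'').mpr hxP'')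
  haveI := hQ.isPrime
  rcases eq_or_lt_of_le hQP'' with e | hlt'
  · exact hyS' Q hQ (e ▸ hyP'')
  · have h1 := Ideal.height_add_one_le_of_lt_of_isPrime hlt'
    have h2 : Q.height = 0 := by
      have h3 : Q.height + 1 ≤ 1 := h1.trans hP''ht
      have h4 : Q.height ≠ ⊤ := Ideal.height_ne_top hQ.isPrime.ne_top
      revert h3 h4
      generalize Q.height = n
      intro h3 h4
      induction n with
      | top => exact absurd rfl h4
      | coe n =>
        norm_cast at h3 ⊢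
        omega
    rw [Ideal.height_eq_zero_iff_eq_bot] at h2
    have : x ∈ Q := hQ.1.2 (Ideal.mem_span_singleton_self x)
    rw [h2, Ideal.mem_bot] at this
    exact hx0 this

end A

section B
open Polynomial

variable {C : Type u} [CommRing C] [IsDomain C] [IsNoetherianRing C]

theorem isArtinianRing_quotient [Ring.KrullDimLE 1 C] (J : Ideal C) (hJ0 : J ≠ ⊥) :
    IsArtinianRing (C ⧸ J) := by
  rw [isArtinianRing_iff_krullDimLE_zero, Ring.krullDimLE_zero_iff]
  intro P hP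
  have h1 : (P.comap (Ideal.Quotient.mk J)).IsPrime := inferInstance
  have h2 : J ≤ P.comap (Ideal.Quotient.mk J) := by
    intro x hx
    rw [Ideal.mem_comap, Ideal.Quotient.eq_zero_iff_mem.mpr hx]
    exact zero_mem _
  have h3 : P.comap (Ideal.Quotient.mk J) ≠ ⊥ := fun e => hJ0 (le_bot_iff.mp (e ▸ h2))
  have h4 : (P.comap (Ideal.Quotient.mk J)).IsMaximal := h1.isMaximal_of_ne_bot h3
  have h5 := Ideal.map_comap_of_surjective (Ideal.Quotient.mk J) Ideal.Quotient.mk_surjective P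
  rw [← h5]
  exact Ideal.IsMaximal.map_of_surjective_of_ker_le Ideal.Quotient.mk_surjective
    (by rw [Ideal.mk_ker]; exact h2)

/-- a `J`-adically complete Noetherian domain of dimension `≤ 1` (`J ≠ 0`) is local. -/
theorem isMaximal_unique [Ring.KrullDimLE 1 C] (J : Ideal C) (hJ0 : J ≠ ⊥) [IsAdicComplete J C]
    (m₁ m₂ : Ideal C) (h₁ : m₁.IsMaximal) (h₂ : m₂.IsMaximal) : m₁ = m₂ := by
  by_contra hne
  have hJ : J ≤ Ideal.jacobson ⊥ := IsAdicComplete.le_jacobson_bot J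
  have hJm : ∀ m : Ideal C, m.IsMaximal → J ≤ m := fun m hm =>
    hJ.trans (sInf_le ⟨bot_le, hm⟩)
  haveI := isArtinianRing_quotient J hJ0
  have hmap : ∀ m : Ideal C, m.IsMaximal → (m.map (Ideal.Quotient.mk J)).IsMaximal := fun m hm =>
    Ideal.IsMaximal.map_of_surjective_of_ker_le Ideal.Quotient.mk_surjective
      (by rw [Ideal.mk_ker]; exact hJm m hm)
  have hcomap : ∀ m : Ideal C, m.IsMaximal →
      (m.map (Ideal.Quotient.mk J)).comap (Ideal.Quotient.mk J) = m := fun m hm => by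
    rw [Ideal.comap_map_of_surjective _ Ideal.Quotient.mk_surjective, ← RingHom.ker_eq_comap_bot,
      Ideal.mk_ker, sup_eq_left.mpr (hJm m hm)]
  haveI := (hmap m₁ h₁).isPrime
  obtain ⟨r, hr1, hridem, hr2⟩ :=
    IsArtinianRing.exists_not_mem_forall_mem_of_ne (m₁.map (Ideal.Quotient.mk J))
  have hr2' : r ∈ m₂.map (Ideal.Quotient.mk J) := by
    refine hr2 _ (hmap m₂ h₂).isPrime ?_
    intro e
    apply hne
    rw [← hcomap m₁ h₁, ← hcomap m₂ h₂, e]
  obtain ⟨a₀, rfl⟩ := Ideal.Quotient.mk_surjective r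
  -- lift the idempotent
  have hmon : (X ^ 2 - X : C[X]).Monic := by
    apply Polynomial.monic_X_pow_sub
    simp
  have heval : (X ^ 2 - X : C[X]).eval a₀ ∈ J := by
    rw [← Ideal.Quotient.eq_zero_iff_mem]
    simp only [eval_sub, eval_pow, eval_X, map_sub, map_pow]
    have := hridem.eq
    rw [sub_eq_zero, pow_two]
    exact this
  have hder : IsUnit (Ideal.Quotient.mk J ((X ^ 2 - X : C[X]).derivative.eval a₀)) := by
    have h1 : (X ^ 2 - X : C[X]).derivative.eval a₀ = 2 * a₀ - 1 := by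
      simp
      left; norm_num
    rw [h1]
    have h2 : Ideal.Quotient.mk J (2 * a₀ - 1) * Ideal.Quotient.mk J (2 * a₀ - 1) = 1 := by
      have := hridem.eq
      simp only [map_sub, map_mul, map_ofNat, map_one]
      linear_combination 4 * this
    exact IsUnit.of_mul_eq_one _ h2
  obtain ⟨e, he, hea⟩ := HenselianRing.is_henselian (I := J) _ hmon a₀ heval hder
  have he' : e * e = e := by
    have : e ^ 2 - e = 0 := by simpa [IsRoot] using he
    rw [← sub_eq_zero, ← this]; ring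
  rcases (IsIdempotentElem.iff_eq_zero_or_one (p := e)).mp he' with h0 | h1
  · apply hr1
    have : a₀ ∈ J := by
      have := J.neg_mem hea
      rwa [h0, zero_sub, neg_neg] at this
    rw [Ideal.Quotient.eq_zero_iff_mem.mpr this]
    exact zero_mem _
  · have h3 : a₀ ∈ m₂ := by
      have := Ideal.mem_comap.mpr hr2'
      rwa [hcomap m₂ h₂] at this
    have h4 : 1 - a₀ ∈ m₂ := hJm m₂ h₂ (h1 ▸ hea)
    exact h₂.ne_top ((Ideal.eq_top_iff_one _).mpr (by simpa using m₂.add_mem h4 h3))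

end B

section C
variable {C : Type u} [CommRing C] [IsNoetherianRing C]

/-- a Noetherian `J`-adically complete ring is complete for the radical of `J`. -/
theorem isAdicComplete_radical (J : Ideal C) [IsAdicComplete J C] :
    IsAdicComplete J.radical C := by
  have hJ : J ≤ Ideal.jacobson ⊥ := IsAdicComplete.le_jacobson_bot J
  have hrad : J.radical ≤ Ideal.jacobson ⊥ := by
    calc J.radical ≤ J.jacobson := Ideal.radical_le_jacobson
      _ ≤ (Ideal.jacobson ⊥).jacobson := Ideal.jacobson_mono hJ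
      _ = Ideal.jacobson ⊥ := Ideal.jacobson_idem
  obtain ⟨k, hk⟩ := Ideal.exists_radical_pow_le_of_fg J (IsNoetherian.noetherian _)
  refine Groth.Agent.Lib.Helper19.isAdicComplete_of_forall_quotient_pow J J.radical hrad fun n => ?_
  have h0 : (J.radical ^ (k * n) • ⊤ : Submodule C (C ⧸ J ^ n)) = ⊥ := by
    rw [eq_bot_iff, Submodule.smul_le]
    intro r hr m _
    obtain ⟨a, rfl⟩ := Ideal.Quotient.mk_surjective m
    rw [Submodule.mem_bot]
    change Ideal.Quotient.mk (J ^ n) (r * a) = 0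
    rw [Ideal.Quotient.eq_zero_iff_mem]
    apply Ideal.mul_mem_right
    have : J.radical ^ (k * n) ≤ J ^ n := by
      rw [pow_mul]
      exact Ideal.pow_right_mono hk n
    exact this hr
  exact (Groth.Agent.Lib.Helper14.SysLim.isAdicComplete_of_pow_smul_top_eq_bot
    (I := J.radical) (k * n) h0).toIsPrecomplete

end C

section main
variable (A : Type u) [CommRing A] [IsNoetherianRing A] (I : Ideal A) [IsAdicComplete I A]
  (q : PrimeSpectrum A)

theorem map_eq_bot_iff : I.map (Ideal.Quotient.mk q.asIdeal) = ⊥ ↔ I ≤ q.asIdeal := by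
  rw [Ideal.map_eq_bot_iff_le_ker, Ideal.mk_ker]

theorem le_of_isMaximal_quotient (m : Ideal (A ⧸ q.asIdeal)) (hm : m.IsMaximal) :
    I.map (Ideal.Quotient.mk q.asIdeal) ≤ m := by
  haveI : IsAdicComplete (I.map (Ideal.Quotient.mk q.asIdeal)) (A ⧸ q.asIdeal) :=
    Groth.Agent.Lib.Helper19.isAdicComplete_quotient_of_isNoetherianRing A I q.asIdeal
  exact (IsAdicComplete.le_jacobson_bot _).trans (sInf_le ⟨bot_le, hm⟩)

theorem one_to_five
    (h : ¬ I ≤ q.asIdeal ∧ ∀ q' : PrimeSpectrum A, q ≤ q' → ¬ I ≤ q'.asIdeal → q' = q) :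
    ringKrullDim (A ⧸ q.asIdeal) = 1 ∧ ¬ I ≤ q.asIdeal := by
  refine ⟨?_, h.1⟩
  have hJ0 : I.map (Ideal.Quotient.mk q.asIdeal) ≠ ⊥ := fun e => h.1 ((map_eq_bot_iff A I q).mp e)
  have h1 : Ring.KrullDimLE 1 (A ⧸ q.asIdeal) := by
    refine krullDimLE_one_of_forall_le _ hJ0 fun P hP hP0 => ?_
    rw [Ideal.map_le_iff_le_comap]
    by_contra hcon
    have hq' := h.2 ⟨P.comap (Ideal.Quotient.mk q.asIdeal), inferInstance⟩ (by
      change q.asIdeal ≤ P.comap (Ideal.Quotient.mk q.asIdeal)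
      intro x hx
      rw [Ideal.mem_comap, Ideal.Quotient.eq_zero_iff_mem.mpr hx]
      exact zero_mem _) hcon
    apply hP0
    have h2 : P.comap (Ideal.Quotient.mk q.asIdeal) = q.asIdeal := congrArg PrimeSpectrum.asIdeal hq'
    rw [← Ideal.map_comap_of_surjective (Ideal.Quotient.mk q.asIdeal) Ideal.Quotient.mk_surjective P,
      h2, Ideal.map_quotient_self]
  have h0 : ¬ ringKrullDim (A ⧸ q.asIdeal) ≤ 0 := by
    intro h0
    have : Ring.KrullDimLE 0 (A ⧸ q.asIdeal) := Ring.krullDimLE_iff.mpr h0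
    have hf : IsField (A ⧸ q.asIdeal) := Ring.KrullDimLE.isField_of_isDomain
    have hmax : (⊥ : Ideal (A ⧸ q.asIdeal)).IsMaximal := Ring.isField_iff_maximal_bot.mp hf
    exact hJ0 (le_bot_iff.mp (le_of_isMaximal_quotient A I q ⊥ hmax))
  rw [Ring.krullDimLE_iff] at h1
  exact le_antisymm h1 (Order.succ_le_of_lt (lt_of_not_ge h0))

theorem five_to_one (h : ringKrullDim (A ⧸ q.asIdeal) = 1 ∧ ¬ I ≤ q.asIdeal) :
    ¬ I ≤ q.asIdeal ∧ ∀ q' : PrimeSpectrum A, q ≤ q' → ¬ I ≤ q'.asIdeal → q' = q := by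
  refine ⟨h.2, fun q' hqq' hIq' => ?_⟩
  by_contra hne
  haveI : Ring.KrullDimLE 1 (A ⧸ q.asIdeal) := Ring.krullDimLE_iff.mpr (by rw [h.1]; rfl)
  have hqq'' : q.asIdeal ≤ q'.asIdeal := hqq'
  have hP : (q'.asIdeal.map (Ideal.Quotient.mk q.asIdeal)).IsPrime :=
    Ideal.map_isPrime_of_surjective Ideal.Quotient.mk_surjective (by rwa [Ideal.mk_ker])
  have hP0 : q'.asIdeal.map (Ideal.Quotient.mk q.asIdeal) ≠ ⊥ := by
    intro e
    rw [Ideal.map_eq_bot_iff_le_ker, Ideal.mk_ker] at e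
    exact hne (PrimeSpectrum.ext (le_antisymm e hqq''))
  have hmax := hP.isMaximal_of_ne_bot hP0
  have h1 := le_of_isMaximal_quotient A I q _ hmax
  rw [Ideal.map_le_iff_le_comap, Ideal.comap_map_of_surjective _ Ideal.Quotient.mk_surjective,
    ← RingHom.ker_eq_comap_bot, Ideal.mk_ker, sup_eq_left.mpr hqq''] at h1
  exact hIq' h1

theorem five_to_eight (h : ringKrullDim (A ⧸ q.asIdeal) = 1 ∧ ¬ I ≤ q.asIdeal) :
    ringKrullDim (A ⧸ q.asIdeal) = 1 ∧
      (∀ m : Ideal (A ⧸ q.asIdeal), m.IsMaximal →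
        m = (I.map (Ideal.Quotient.mk q.asIdeal)).radical) ∧
      IsAdicComplete (I.map (Ideal.Quotient.mk q.asIdeal)).radical (A ⧸ q.asIdeal) := by
  haveI : Ring.KrullDimLE 1 (A ⧸ q.asIdeal) := Ring.krullDimLE_iff.mpr (by rw [h.1]; rfl)
  haveI : IsAdicComplete (I.map (Ideal.Quotient.mk q.asIdeal)) (A ⧸ q.asIdeal) :=
    Groth.Agent.Lib.Helper19.isAdicComplete_quotient_of_isNoetherianRing A I q.asIdeal
  have hJ0 : I.map (Ideal.Quotient.mk q.asIdeal) ≠ ⊥ := fun e => h.2 ((map_eq_bot_iff A I q).mp e)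
  refine ⟨h.1, fun m hm => ?_, isAdicComplete_radical _⟩
  rw [Ideal.radical_eq_sInf]
  apply le_antisymm
  · refine le_sInf fun P ⟨hJP, hP⟩ => ?_
    have hP0 : P ≠ ⊥ := fun e => hJ0 (le_bot_iff.mp (e ▸ hJP))
    have hPmax := hP.isMaximal_of_ne_bot hP0
    exact (isMaximal_unique _ hJ0 m P hm hPmax).le
  · exact sInf_le ⟨le_of_isMaximal_quotient A I q m hm, hm.isPrime⟩

theorem eight_to_five
    (h : ringKrullDim (A ⧸ q.asIdeal) = 1 ∧
      (∀ m : Ideal (A ⧸ q.asIdeal), m.IsMaximal →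
        m = (I.map (Ideal.Quotient.mk q.asIdeal)).radical) ∧
      IsAdicComplete (I.map (Ideal.Quotient.mk q.asIdeal)).radical (A ⧸ q.asIdeal)) :
    ringKrullDim (A ⧸ q.asIdeal) = 1 ∧ ¬ I ≤ q.asIdeal := by
  refine ⟨h.1, fun hIq => ?_⟩
  have h0 : I.map (Ideal.Quotient.mk q.asIdeal) = ⊥ := (map_eq_bot_iff A I q).mpr hIq
  obtain ⟨m, hm⟩ := Ideal.exists_maximal (A ⧸ q.asIdeal)
  have h1 := h.2.1 m hm
  rw [h0, Ideal.radical_bot_of_isReduced] at h1
  have hf : IsField (A ⧸ q.asIdeal) := Ring.isField_iff_maximal_bot.mpr (h1 ▸ hm)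
  have := ringKrullDim_eq_zero_of_isField hf
  rw [h.1] at this
  exact one_ne_zero this

end main

end Groth.Agent.Lib.Helper14.RigClosed
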