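import Mathlib
import Groth.Agent.Lib.Helper19ComplFlatLocal
import Groth.Agent.Lib.Helper19ComplTwo

/-!
# Unramified / étale local homomorphisms and the induced map on completions (helper19)
-/

set_option autoImplicit false
set_option linter.style.haveILetI false
set_option linter.unusedSectionVars false
universe u

namespace Groth.Agent.Lib.Helper19.ComplUnram

open IsLocalRing

/-- complete Nakayama: a Hausdorff module over a precomplete ring generated modulo `I` by
finitely many elements is finite -/
theorem finite_of_span_sup_smul_top_eq_top {R : Type*} {M : Type*} [CommRing R] [AddCommGroup M]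
    [Module R M] (I : Ideal R) [IsPrecomplete I R] [IsHausdorff I M] {r : ℕ} (g : Fin r → M)
    (hg : Submodule.span R (Set.range g) ⊔ I • (⊤ : Submodule R M) = ⊤) : Module.Finite R M := by
  let φ : (Fin r → R) →ₗ[R] M := Fintype.linearCombination R g
  haveI : IsPrecomplete I (Fin r → R) := isPrecomplete_pi_module I R
  have hφ : Function.Surjective φ := by
    apply surjective_of_mkQ_comp_surjective (I := I)
    intro y
    obtain ⟨x, rfl⟩ := Submodule.mkQ_surjective _ y
    have hx : x ∈ Submodule.span R (Set.range g) ⊔ I • (⊤ : Submodule R M) := by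
      rw [hg]; trivial
    obtain ⟨u, hu, v, hv, rfl⟩ := Submodule.mem_sup.mp hx
    obtain ⟨c, hc⟩ := (Submodule.mem_span_range_iff_exists_fun R).mp hu
    refine ⟨c, ?_⟩
    rw [LinearMap.comp_apply, Submodule.mkQ_apply, Submodule.mkQ_apply, Submodule.Quotient.eq]
    have h1 : φ c = u := by
      simp only [φ, Fintype.linearCombination_apply]
      exact hc
    rw [h1]
    have h2 : u - (u + v) = -v := by abel
    rw [h2]
    exact Submodule.neg_mem _ hv
  exact Module.Finite.of_surjective φ hφ

section

variable (A B : Type u) [CommRing A] [CommRing B] [IsLocalRing A] [IsLocalRing B]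
  [IsNoetherianRing A] [IsNoetherianRing B] [Algebra A B] [IsLocalHom (algebraMap A B)]
  (ψ : AdicCompletion (maximalIdeal A) A →+* AdicCompletion (maximalIdeal B) B)
  (hψ : ψ.comp (algebraMap A (AdicCompletion (maximalIdeal A) A)) =
      (algebraMap B (AdicCompletion (maximalIdeal B) B)).comp (algebraMap A B))

include hψ

theorem map_maximalIdeal_completion_le :
    (maximalIdeal (AdicCompletion (maximalIdeal A) A)).map ψ ≤
      maximalIdeal (AdicCompletion (maximalIdeal B) B) := by
  rw [AdicCompletion.maximalIdeal_eq_map, Ideal.map_map, hψ, ← Ideal.map_map,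
    AdicCompletion.maximalIdeal_eq_map]
  apply Ideal.map_mono
  exact ((IsLocalRing.local_hom_TFAE (algebraMap A B)).out 0 2 rfl rfl).mp ‹_›

theorem isLocalHom_completion_map : IsLocalHom ψ :=
  ((IsLocalRing.local_hom_TFAE ψ).out 0 2 rfl rfl).mpr (map_maximalIdeal_completion_le A B ψ hψ)

theorem map_maximalIdeal_completion_eq
    (hm : (maximalIdeal A).map (algebraMap A B) = maximalIdeal B) :
    (maximalIdeal (AdicCompletion (maximalIdeal A) A)).map ψ =
      maximalIdeal (AdicCompletion (maximalIdeal B) B) := by
  rw [AdicCompletion.maximalIdeal_eq_map, Ideal.map_map, hψ, ← Ideal.map_map,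
    AdicCompletion.maximalIdeal_eq_map, hm]

theorem map_maximalIdeal_eq_of_completion
    (h : (maximalIdeal (AdicCompletion (maximalIdeal A) A)).map ψ =
      maximalIdeal (AdicCompletion (maximalIdeal B) B)) :
    (maximalIdeal A).map (algebraMap A B) = maximalIdeal B := by
  haveI : Module.FaithfullyFlat B (AdicCompletion (maximalIdeal B) B) :=
    faithfullyFlat_adicCompletion_of_le_jacobson B (maximalIdeal B)
      (IsLocalRing.maximalIdeal_le_jacobson ⊥)
  have h1 : ((maximalIdeal A).map (algebraMap A B)).map
      (algebraMap B (AdicCompletion (maximalIdeal B) B)) =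
      (maximalIdeal B).map (algebraMap B (AdicCompletion (maximalIdeal B) B)) := by
    rw [Ideal.map_map, ← hψ, ← Ideal.map_map, ← AdicCompletion.maximalIdeal_eq_map,
      ← AdicCompletion.maximalIdeal_eq_map]
    exact h
  rw [← Ideal.comap_map_eq_self_of_faithfullyFlat (B := AdicCompletion (maximalIdeal B) B)
    ((maximalIdeal A).map (algebraMap A B)), h1,
    Ideal.comap_map_eq_self_of_faithfullyFlat]

/-- the square of residue fields -/
theorem residueField_square [IsLocalHom ψ] :
    (ResidueField.map ψ).comp
        (ResidueField.map (algebraMap A (AdicCompletion (maximalIdeal A) A))) =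
      (ResidueField.map (algebraMap B (AdicCompletion (maximalIdeal B) B))).comp
        (ResidueField.map (algebraMap A B)) := by
  apply RingHom.ext
  intro x
  obtain ⟨a, rfl⟩ := IsLocalRing.residue_surjective x
  simp only [RingHom.comp_apply, ResidueField.map_residue]
  exact congrArg _ (congrArg (fun f => f a) hψ)

/-- if `𝔪_A B = 𝔪_B` and the residue field extension is finite then `B̂` is a finite `Â`-module -/
theorem finite_completion (hm : (maximalIdeal A).map (algebraMap A B) = maximalIdeal B)
    [Module.Finite (ResidueField A) (ResidueField B)] :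
    letI := ψ.toAlgebra
    Module.Finite (AdicCompletion (maximalIdeal A) A) (AdicCompletion (maximalIdeal B) B) := by
  letI := ψ.toAlgebra
  obtain ⟨r, g0, hg0⟩ := Module.Finite.exists_fin (R := ResidueField A) (M := ResidueField B)
  choose g hg using fun i => IsLocalRing.residue_surjective (g0 i)
  have hmB := map_maximalIdeal_completion_eq A B ψ hψ hm
  have hψ' : ∀ a : A, ψ (algebraMap A (AdicCompletion (maximalIdeal A) A) a) =
      algebraMap B (AdicCompletion (maximalIdeal B) B) (algebraMap A B a) :=
    fun a => congrArg (fun f => f a) hψ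
  haveI : IsHausdorff (maximalIdeal (AdicCompletion (maximalIdeal A) A))
      (AdicCompletion (maximalIdeal B) B) := by
    apply (IsHausdorff.map_algebraMap_iff (S := AdicCompletion (maximalIdeal B) B)).mp
    change IsHausdorff ((maximalIdeal (AdicCompletion (maximalIdeal A) A)).map ψ) _
    rw [hmB]
    infer_instance
  have hmem : ∀ z : AdicCompletion (maximalIdeal B) B,
      z ∈ maximalIdeal (AdicCompletion (maximalIdeal B) B) →
      z ∈ (maximalIdeal (AdicCompletion (maximalIdeal A) A)) •
        (⊤ : Submodule (AdicCompletion (maximalIdeal A) A) (AdicCompletion (maximalIdeal B) B)) := by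
    intro z hz
    rw [Ideal.smul_top_eq_map, Submodule.restrictScalars_mem]
    change z ∈ (maximalIdeal (AdicCompletion (maximalIdeal A) A)).map ψ
    rw [hmB]
    exact hz
  apply finite_of_span_sup_smul_top_eq_top (maximalIdeal (AdicCompletion (maximalIdeal A) A))
    (fun i => algebraMap B (AdicCompletion (maximalIdeal B) B) (g i))
  rw [eq_top_iff]
  intro y _
  obtain ⟨b, hb⟩ := exists_sub_of_mem_map_pow (maximalIdeal B) (IsNoetherian.noetherian _) 1 y
  rw [pow_one, ← AdicCompletion.maximalIdeal_eq_map] at hb
  have hb0 : IsLocalRing.residue B b ∈ Submodule.span (ResidueField A) (Set.range g0) := by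
    rw [hg0]; trivial
  obtain ⟨c0, hc0⟩ := (Submodule.mem_span_range_iff_exists_fun (ResidueField A)).mp hb0
  choose c hc using fun i => IsLocalRing.residue_surjective (c0 i)
  have hbm : b - ∑ i, algebraMap A B (c i) * g i ∈ maximalIdeal B := by
    rw [← IsLocalRing.residue_eq_zero_iff, map_sub, map_sum, ← hc0, sub_eq_zero]
    apply Finset.sum_congr rfl
    intro i _
    rw [map_mul, hg, ← hc, Algebra.smul_def]
    rfl
  have hy : y = (∑ i, algebraMap A (AdicCompletion (maximalIdeal A) A) (c i) •
      algebraMap B (AdicCompletion (maximalIdeal B) B) (g i)) +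
      ((y - algebraMap B (AdicCompletion (maximalIdeal B) B) b) +
        algebraMap B (AdicCompletion (maximalIdeal B) B)
          (b - ∑ i, algebraMap A B (c i) * g i)) := by
    have h1 : ∀ i, algebraMap A (AdicCompletion (maximalIdeal A) A) (c i) •
        algebraMap B (AdicCompletion (maximalIdeal B) B) (g i) =
        algebraMap B (AdicCompletion (maximalIdeal B) B) (algebraMap A B (c i) * g i) := by
      intro i
      rw [Algebra.smul_def, map_mul]
      congr 1
      exact hψ' (c i)
    rw [Finset.sum_congr rfl (fun i _ => h1 i), ← map_sum, map_sub]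
    ring
  rw [hy]
  apply Submodule.add_mem_sup
  · apply Submodule.sum_mem
    intro i _
    exact Submodule.smul_mem _ _ (Submodule.subset_span ⟨i, rfl⟩)
  · apply hmem
    apply Ideal.add_mem _ hb
    rw [AdicCompletion.maximalIdeal_eq_map]
    exact Ideal.mem_map_of_mem _ hbm

/-- **EGA IV 17.? / Stacks**: a local homomorphism of Noetherian local rings is unramified iff the
induced map of completions is unramified -/
theorem unramified_iff_completion :
    ((maximalIdeal A).map (algebraMap A B) = maximalIdeal B ∧
        Module.Finite (ResidueField A) (ResidueField B) ∧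
        Algebra.IsSeparable (ResidueField A) (ResidueField B)) ↔
      (ψ.FiniteType ∧ ψ.FormallyUnramified) := by
  letI := ψ.toAlgebra
  haveI hloc : IsLocalHom ψ := isLocalHom_completion_map A B ψ hψ
  haveI : IsLocalHom (algebraMap (AdicCompletion (maximalIdeal A) A)
    (AdicCompletion (maximalIdeal B) B)) := hloc
  let eA : ResidueField A ≃+* ResidueField (AdicCompletion (maximalIdeal A) A) :=
    RingEquiv.ofBijective _ (AdicCompletion.residueField_map_bijective (R := A))
  let eB : ResidueField B ≃+* ResidueField (AdicCompletion (maximalIdeal B) B) :=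
    RingEquiv.ofBijective _ (AdicCompletion.residueField_map_bijective (R := B))
  have he : (algebraMap (ResidueField (AdicCompletion (maximalIdeal A) A))
      (ResidueField (AdicCompletion (maximalIdeal B) B))).comp (eA : _ →+* _) =
      (eB : _ →+* _).comp (algebraMap (ResidueField A) (ResidueField B)) :=
    residueField_square A B ψ hψ
  have he' : (algebraMap (ResidueField A) (ResidueField B)).comp (eA.symm : _ →+* _) =
      (eB.symm : _ →+* _).comp (algebraMap (ResidueField (AdicCompletion (maximalIdeal A) A))
      (ResidueField (AdicCompletion (maximalIdeal B) B))) := by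
    apply RingHom.ext
    intro x
    apply eB.injective
    have h1 := congrArg (fun f => f (eA.symm x)) he
    simp only [RingHom.comp_apply, RingHom.coe_coe, RingEquiv.apply_symm_apply] at h1 ⊢
    exact h1.symm
  constructor
  · rintro ⟨hm, hfin, hsep⟩
    have hmB := map_maximalIdeal_completion_eq A B ψ hψ hm
    haveI : Module.Finite (AdicCompletion (maximalIdeal A) A)
        (AdicCompletion (maximalIdeal B) B) := finite_completion A B ψ hψ hm
    refine ⟨?_, ?_⟩
    · change Algebra.FiniteType (AdicCompletion (maximalIdeal A) A)
        (AdicCompletion (maximalIdeal B) B)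
      infer_instance
    · change Algebra.FormallyUnramified (AdicCompletion (maximalIdeal A) A)
        (AdicCompletion (maximalIdeal B) B)
      haveI : Algebra.IsSeparable (ResidueField (AdicCompletion (maximalIdeal A) A))
          (ResidueField (AdicCompletion (maximalIdeal B) B)) :=
        Algebra.IsSeparable.of_equiv_equiv eA eB he
      exact Algebra.FormallyUnramified.of_map_maximalIdeal hmB
  · rintro ⟨hft, hunr⟩
    haveI : Algebra.FiniteType (AdicCompletion (maximalIdeal A) A)
        (AdicCompletion (maximalIdeal B) B) := hft
    haveI : Algebra.FormallyUnramified (AdicCompletion (maximalIdeal A) A)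
        (AdicCompletion (maximalIdeal B) B) := hunr
    have hmB : (maximalIdeal (AdicCompletion (maximalIdeal A) A)).map
        (algebraMap (AdicCompletion (maximalIdeal A) A) (AdicCompletion (maximalIdeal B) B)) =
        maximalIdeal (AdicCompletion (maximalIdeal B) B) :=
      Algebra.FormallyUnramified.map_maximalIdeal
    exact ⟨map_maximalIdeal_eq_of_completion A B ψ hψ hmB,
      Module.Finite.of_equiv_equiv eA.symm eB.symm he',
      Algebra.IsSeparable.of_equiv_equiv eA.symm eB.symm he'⟩

/-- a local homomorphism of Noetherian local rings is étale iff the induced map of completions is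
étale -/
theorem etale_iff_completion :
    (Module.Flat A B ∧ (maximalIdeal A).map (algebraMap A B) = maximalIdeal B ∧
        Module.Finite (ResidueField A) (ResidueField B) ∧
        Algebra.IsSeparable (ResidueField A) (ResidueField B)) ↔ ψ.Etale := by
  haveI : IsNoetherianRing (AdicCompletion (maximalIdeal A) A) :=
    isNoetherianRing_adicCompletion _
  constructor
  · rintro ⟨hflat, hrest⟩
    obtain ⟨hft, hunr⟩ := (unramified_iff_completion A B ψ hψ).mp hrest
    have hfl : ψ.Flat := (completion_map_flat_iff_flat A B ψ hψ).mpr
      (RingHom.flat_algebraMap_iff.mpr hflat)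
    letI := ψ.toAlgebra
    change Algebra.Etale (AdicCompletion (maximalIdeal A) A) (AdicCompletion (maximalIdeal B) B)
    haveI : Algebra.FiniteType (AdicCompletion (maximalIdeal A) A)
        (AdicCompletion (maximalIdeal B) B) := hft
    haveI : Algebra.FormallyUnramified (AdicCompletion (maximalIdeal A) A)
        (AdicCompletion (maximalIdeal B) B) := hunr
    haveI : Module.Flat (AdicCompletion (maximalIdeal A) A)
        (AdicCompletion (maximalIdeal B) B) := hfl
    haveI : Algebra.FinitePresentation (AdicCompletion (maximalIdeal A) A)
        (AdicCompletion (maximalIdeal B) B) :=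
      Algebra.FinitePresentation.of_finiteType.mp inferInstance
    exact Algebra.Etale.of_formallyUnramified_of_flat
  · intro h
    have h1 : ψ.FiniteType ∧ ψ.FormallyUnramified := by
      letI := ψ.toAlgebra
      haveI : Algebra.Etale (AdicCompletion (maximalIdeal A) A)
        (AdicCompletion (maximalIdeal B) B) := h
      refine ⟨?_, ?_⟩
      · change Algebra.FiniteType (AdicCompletion (maximalIdeal A) A)
          (AdicCompletion (maximalIdeal B) B)
        infer_instance
      · change Algebra.FormallyUnramified (AdicCompletion (maximalIdeal A) A)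
          (AdicCompletion (maximalIdeal B) B)
        infer_instance
    have h2 : ψ.Flat := by
      letI := ψ.toAlgebra
      haveI : Algebra.Etale (AdicCompletion (maximalIdeal A) A)
        (AdicCompletion (maximalIdeal B) B) := h
      change Module.Flat (AdicCompletion (maximalIdeal A) A) (AdicCompletion (maximalIdeal B) B)
      infer_instance
    exact ⟨RingHom.flat_algebraMap_iff.mp ((completion_map_flat_iff_flat A B ψ hψ).mp h2),
      (unramified_iff_completion A B ψ hψ).mpr h1⟩

/-- if the map of completions is étale then `B̂` is free of finite positive rank over `Â` -/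
theorem free_of_etale_completion (h : ψ.Etale) :
    letI := ψ.toAlgebra
    ∃ n : ℕ, 0 < n ∧ Nonempty ((Fin n → AdicCompletion (maximalIdeal A) A)
      ≃ₗ[AdicCompletion (maximalIdeal A) A] AdicCompletion (maximalIdeal B) B) := by
  obtain ⟨hflat, hm, hfin, hsep⟩ := (etale_iff_completion A B ψ hψ).mpr h
  have hfl : ψ.Flat := (completion_map_flat_iff_flat A B ψ hψ).mpr
    (RingHom.flat_algebraMap_iff.mpr hflat)
  letI := ψ.toAlgebra
  haveI : Module.Finite (AdicCompletion (maximalIdeal A) A)
      (AdicCompletion (maximalIdeal B) B) := finite_completion A B ψ hψ hm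
  haveI : Module.Flat (AdicCompletion (maximalIdeal A) A)
      (AdicCompletion (maximalIdeal B) B) := hfl
  haveI : Module.Free (AdicCompletion (maximalIdeal A) A)
      (AdicCompletion (maximalIdeal B) B) := Module.free_of_flat_of_isLocalRing
  let b := Module.finBasis (AdicCompletion (maximalIdeal A) A) (AdicCompletion (maximalIdeal B) B)
  refine ⟨_, ?_, ⟨b.equivFun.symm⟩⟩
  apply Nat.pos_of_ne_zero
  intro h0
  haveI : IsEmpty (Fin (Module.finrank (AdicCompletion (maximalIdeal A) A)
      (AdicCompletion (maximalIdeal B) B))) := by
    rw [h0]; infer_instance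
  have : Subsingleton (AdicCompletion (maximalIdeal B) B) := b.equivFun.toEquiv.subsingleton
  exact not_subsingleton _ this

end

end Groth.Agent.Lib.Helper19.ComplUnram
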