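import Mathlib
import Groth.Agent.Lib.Helper14RigClosed
import Groth.Agent.Lib.Helper19ComplUnram
import Groth.Agent.Lib.Helper5IntDim

/-!
# Rig-closed primes along adic morphisms topologically of finite type (helper14)
-/

set_option autoImplicit false
set_option linter.style.haveILetI false
universe u

namespace Groth.Agent.Lib.Helper14.RigClosed2

section Artin
variable (A : Type u) [CommRing A] (R : Type u) [CommRing R] [Algebra A R] [IsArtinianRing R]

/-- An Artinian `A`-algebra all of whose residue fields are finite over `A` is finite over `A`. -/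
theorem finite_of_isArtinianRing (h : ∀ m : Ideal R, m.IsMaximal → Module.Finite A (R ⧸ m)) :
    Module.Finite A R := by
  have key : ∀ (M : Type u) [AddCommGroup M] [Module R M] (_ : Module.Finite R M),
      ∀ (_ : Module A M) (_ : IsScalarTower A R M), Module.Finite A M := by
    intro M _ _ hM
    induction hM using IsNoetherianRing.induction_on_isQuotientEquivQuotientPrime R with
    | subsingleton N =>
      intro _ _
      infer_instance
    | quotient N p f =>
      intro _ _
      haveI : p.asIdeal.IsMaximal := IsArtinianRing.isMaximal_of_isPrime p.asIdeal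
      haveI := h p.asIdeal inferInstance
      exact Module.Finite.equiv (f.restrictScalars A).symm
    | exact N₁ N₂ N₃ f g hf hg hfg h₁ h₃ =>
      intro _ _
      letI : Module A N₁ := Module.compHom N₁ (algebraMap A R)
      letI : Module A N₃ := Module.compHom N₃ (algebraMap A R)
      haveI : IsScalarTower A R N₁ := ⟨fun a r x => by
        change ((a • r) • x) = (algebraMap A R a) • (r • x)
        rw [Algebra.smul_def, mul_smul]⟩
      haveI : IsScalarTower A R N₃ := ⟨fun a r x => by
        change ((a • r) • x) = (algebraMap A R a) • (r • x)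
        rw [Algebra.smul_def, mul_smul]⟩
      have h₁' := h₁ inferInstance inferInstance
      have h₃' := h₃ inferInstance inferInstance
      refine ⟨Submodule.fg_of_fg_map_of_fg_inf_ker (g.restrictScalars A) ?_ ?_⟩
      · rw [Submodule.map_top, LinearMap.range_eq_top.mpr
          (show Function.Surjective (g.restrictScalars A) from hg)]
        exact h₃'.fg_top
      · rw [top_inf_eq]
        have : LinearMap.ker (g.restrictScalars A) = LinearMap.range (f.restrictScalars A) := by
          ext x
          exact hfg x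
        rw [this, ← Submodule.map_top]
        exact h₁'.fg_top.map _
  exact key R inferInstance inferInstance inferInstance

end Artin

section Hausdorff
variable (A : Type u) [CommRing A] (I : Ideal A) (C : Type u) [CommRing C] [Algebra A C]

/-- If the ring `C` is Hausdorff for the `IC`-adic topology, then the `A`-module `C` is
`I`-adically Hausdorff. -/
theorem isHausdorff_of_map [IsHausdorff (I.map (algebraMap A C)) C] : IsHausdorff I C := by
  refine ⟨fun x hx => ?_⟩
  apply IsHausdorff.haus (I := I.map (algebraMap A C)) ‹_› x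
  intro n
  have h1 := hx n
  rw [SModEq.zero] at h1 ⊢
  rw [Ideal.smul_top_eq_map, Submodule.restrictScalars_mem, Ideal.map_pow] at h1
  rw [smul_eq_mul, Ideal.mul_top]
  exact h1

end Hausdorff

section main
variable (A : Type u) [CommRing A] [IsNoetherianRing A] (I : Ideal A) [IsAdicComplete I A]
  (B : Type u) [CommRing B] [Algebra A B] [IsNoetherianRing B]
  [IsAdicComplete (I.map (algebraMap A B)) B]

theorem map_le_of_isMaximal (m : Ideal B) (hm : m.IsMaximal) : I.map (algebraMap A B) ≤ m :=
  (IsAdicComplete.le_jacobson_bot _).trans (sInf_le ⟨bot_le, hm⟩)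

omit [IsNoetherianRing A] [IsAdicComplete I A] [IsNoetherianRing B]
  [IsAdicComplete (I.map (algebraMap A B)) B] in
theorem finiteType_quotient (hft : Algebra.FiniteType A (B ⧸ (I.map (algebraMap A B))))
    (m : Ideal B) (hJm : I.map (algebraMap A B) ≤ m) : Algebra.FiniteType A (B ⧸ m) :=
  Algebra.FiniteType.of_surjective (Ideal.Quotient.factorₐ A hJm)
    (Ideal.Quotient.factor_surjective hJm)

/-- A residue field of `B` whose prime in `A` has Jacobson quotient is finite over `A`. -/
theorem finite_quotient_of_isJacobsonRing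
    (hft : Algebra.FiniteType A (B ⧸ (I.map (algebraMap A B))))
    (m : Ideal B) (hm : m.IsMaximal) (hJ : IsJacobsonRing (A ⧸ m.comap (algebraMap A B))) :
    Module.Finite A (B ⧸ m) := by
  letI : Field (B ⧸ m) := Ideal.Quotient.field m
  haveI : Algebra.FiniteType A (B ⧸ m) :=
    finiteType_quotient A I B hft m (map_le_of_isMaximal A I B m hm)
  haveI : Algebra.FiniteType (A ⧸ m.comap (algebraMap A B)) (B ⧸ m) :=
    Algebra.FiniteType.of_restrictScalars_finiteType A _ _
  haveI : Module.Finite (A ⧸ m.comap (algebraMap A B)) (B ⧸ m) :=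
    finite_of_finite_type_of_isJacobsonRing _ _
  exact Module.Finite.trans (A ⧸ m.comap (algebraMap A B)) (B ⧸ m)

variable (q : PrimeSpectrum B)

/-- (1) ⇒ (3) -/
theorem finite_quotient_of_forall_maximal
    (hq : ¬ (I.map (algebraMap A B)) ≤ q.asIdeal ∧ ∀ y : PrimeSpectrum B, q ≤ y →
      ¬ (I.map (algebraMap A B)) ≤ y.asIdeal → y = q)
    (h1 : ∀ m : Ideal B, m.IsMaximal → q.asIdeal ≤ m → Module.Finite A (B ⧸ m)) :
    Module.Finite A (B ⧸ q.asIdeal) := by
  obtain ⟨hdim, hJq⟩ := RigClosed.one_to_five B (I.map (algebraMap A B)) q hq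
  haveI : Ring.KrullDimLE 1 (B ⧸ q.asIdeal) := Ring.krullDimLE_iff.mpr (by rw [hdim]; rfl)
  set J' : Ideal (B ⧸ q.asIdeal) := (I.map (algebraMap A B)).map (Ideal.Quotient.mk q.asIdeal)
    with hJ'
  have hJ0 : J' ≠ ⊥ := fun e => hJq ((RigClosed.map_eq_bot_iff B _ q).mp e)
  have hJ'map : J' = I.map (algebraMap A (B ⧸ q.asIdeal)) := by
    rw [hJ', Ideal.map_map]; rfl
  haveI : IsArtinianRing ((B ⧸ q.asIdeal) ⧸ J') := RigClosed.isArtinianRing_quotient J' hJ0
  -- the Artinian quotient is finite over `A`
  haveI hfin : Module.Finite A ((B ⧸ q.asIdeal) ⧸ J') := by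
    apply finite_of_isArtinianRing
    intro m' hm'
    let φ : B →ₐ[A] ((B ⧸ q.asIdeal) ⧸ J') ⧸ m' :=
      (Ideal.Quotient.mkₐ A m').comp ((Ideal.Quotient.mkₐ A J').comp (Ideal.Quotient.mkₐ A q.asIdeal))
    have hφ : Function.Surjective φ :=
      (Ideal.Quotient.mkₐ_surjective A m').comp
        ((Ideal.Quotient.mkₐ_surjective A J').comp (Ideal.Quotient.mkₐ_surjective A q.asIdeal))
    set mB : Ideal B := (m'.comap (Ideal.Quotient.mk J')).comap (Ideal.Quotient.mk q.asIdeal)
      with hmB
    have hmax1 : (m'.comap (Ideal.Quotient.mk J')).IsMaximal :=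
      Ideal.comap_isMaximal_of_surjective _ Ideal.Quotient.mk_surjective
    have hmax : mB.IsMaximal :=
      Ideal.comap_isMaximal_of_surjective _ Ideal.Quotient.mk_surjective
    have hle : q.asIdeal ≤ mB := by
      intro x hx
      rw [hmB, Ideal.mem_comap, Ideal.Quotient.eq_zero_iff_mem.mpr hx]
      exact zero_mem _
    haveI := h1 _ hmax hle
    let ψ : (B ⧸ mB) →ₐ[A] ((B ⧸ q.asIdeal) ⧸ J') ⧸ m' :=
      Ideal.Quotient.liftₐ _ φ (fun a ha => by
        change Ideal.Quotient.mk m' (Ideal.Quotient.mk J' (Ideal.Quotient.mk q.asIdeal a)) = 0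
        rw [Ideal.Quotient.eq_zero_iff_mem]
        exact ha)
    have hψ : Function.Surjective ψ := by
      intro y
      obtain ⟨b, rfl⟩ := hφ y
      exact ⟨Ideal.Quotient.mk _ b, rfl⟩
    exact Module.Finite.of_surjective ψ.toLinearMap hψ
  obtain ⟨r, s, hs⟩ := Module.Finite.exists_fin (R := A) (M := (B ⧸ q.asIdeal) ⧸ J')
  choose g hg using fun i => Ideal.Quotient.mk_surjective (I := J') (s i)
  haveI : IsAdicComplete J' (B ⧸ q.asIdeal) :=
    Groth.Agent.Lib.Helper19.isAdicComplete_quotient_of_isNoetherianRing B _ q.asIdeal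
  haveI : IsHausdorff (I.map (algebraMap A (B ⧸ q.asIdeal))) (B ⧸ q.asIdeal) := by
    rw [← hJ'map]; infer_instance
  haveI : IsHausdorff I (B ⧸ q.asIdeal) := isHausdorff_of_map A I (B ⧸ q.asIdeal)
  refine Groth.Agent.Lib.Helper19.ComplUnram.finite_of_span_sup_smul_top_eq_top I g ?_
  rw [eq_top_iff]
  intro x _
  have hx : Ideal.Quotient.mk J' x ∈ Submodule.span A (Set.range s) := by rw [hs]; trivial
  obtain ⟨c, hc⟩ := (Submodule.mem_span_range_iff_exists_fun A).mp hx
  have hx2 : x - ∑ i, c i • g i ∈ J' := by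
    rw [← Ideal.Quotient.eq, ← hc, map_sum]
    refine Finset.sum_congr rfl fun i _ => ?_
    rw [← hg i]
    rfl
  have hx3 : x - ∑ i, c i • g i ∈ I • (⊤ : Submodule A (B ⧸ q.asIdeal)) := by
    rw [Ideal.smul_top_eq_map, Submodule.restrictScalars_mem, ← hJ'map]
    exact hx2
  have : x = ∑ i, c i • g i + (x - ∑ i, c i • g i) := by abel
  rw [this]
  refine Submodule.add_mem_sup ?_ hx3
  exact Submodule.sum_mem _ fun i _ =>
    Submodule.smul_mem _ _ (Submodule.subset_span ⟨i, rfl⟩)

omit [IsNoetherianRing B] [IsAdicComplete (I.map (algebraMap A B)) B] in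
theorem ker_algebraMap_quotient :
    RingHom.ker (algebraMap A (B ⧸ q.asIdeal)) =
      (PrimeSpectrum.comap (algebraMap A B) q).asIdeal := by
  ext x
  rw [RingHom.mem_ker]
  change Ideal.Quotient.mk q.asIdeal (algebraMap A B x) = 0 ↔ x ∈ q.asIdeal.comap (algebraMap A B)
  rw [Ideal.Quotient.eq_zero_iff_mem, Ideal.mem_comap]

/-- (3) ⇒ (2) -/
theorem rigClosed_comap_of_finite
    (hq : ¬ (I.map (algebraMap A B)) ≤ q.asIdeal ∧ ∀ y : PrimeSpectrum B, q ≤ y →
      ¬ (I.map (algebraMap A B)) ≤ y.asIdeal → y = q)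
    (h3 : Module.Finite A (B ⧸ q.asIdeal)) :
    ¬ I ≤ (PrimeSpectrum.comap (algebraMap A B) q).asIdeal ∧ ∀ y : PrimeSpectrum A,
      (PrimeSpectrum.comap (algebraMap A B) q) ≤ y → ¬ I ≤ y.asIdeal →
        y = (PrimeSpectrum.comap (algebraMap A B) q) := by
  obtain ⟨hdim, hJq⟩ := RigClosed.one_to_five B (I.map (algebraMap A B)) q hq
  apply RigClosed.five_to_one A I
  constructor
  · have hint : (algebraMap A (B ⧸ q.asIdeal)).IsIntegral :=
      RingHom.Finite.to_isIntegral (RingHom.finite_algebraMap.mpr h3)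
    have := Groth.Agent.Lib.Helper5.ringKrullDim_eq_ringKrullDim_quotient_ker_of_isIntegral
      (algebraMap A (B ⧸ q.asIdeal)) hint
    rw [ker_algebraMap_quotient, hdim] at this
    exact this.symm
  · intro hI
    apply hJq
    rw [Ideal.map_le_iff_le_comap]
    exact hI

/-- (2) ⇒ (1) -/
theorem finite_quotient_of_rigClosed_comap
    (hft : Algebra.FiniteType A (B ⧸ (I.map (algebraMap A B))))
    (h2 : ¬ I ≤ (PrimeSpectrum.comap (algebraMap A B) q).asIdeal ∧ ∀ y : PrimeSpectrum A,
      (PrimeSpectrum.comap (algebraMap A B) q) ≤ y → ¬ I ≤ y.asIdeal →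
        y = (PrimeSpectrum.comap (algebraMap A B) q))
    (m : Ideal B) (hm : m.IsMaximal) (hqm : q.asIdeal ≤ m) : Module.Finite A (B ⧸ m) := by
  apply finite_quotient_of_isJacobsonRing A I B hft m hm
  haveI := hm.isPrime
  set n : Ideal A := m.comap (algebraMap A B) with hn
  have hIn : I ≤ n := by
    rw [hn, ← Ideal.map_le_iff_le_comap]
    exact map_le_of_isMaximal A I B m hm
  have hpn : (PrimeSpectrum.comap (algebraMap A B) q) ≤ (⟨n, inferInstance⟩ : PrimeSpectrum A) := by
    change q.asIdeal.comap (algebraMap A B) ≤ m.comap (algebraMap A B)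
    exact Ideal.comap_mono hqm
  have hnmax : n.IsMaximal := by
    obtain ⟨hdim, hIp⟩ := RigClosed.one_to_five A I _ h2
    set p : PrimeSpectrum A := PrimeSpectrum.comap (algebraMap A B) q with hp
    haveI : Ring.KrullDimLE 1 (A ⧸ p.asIdeal) := Ring.krullDimLE_iff.mpr (by rw [hdim]; rfl)
    have hpn' : p.asIdeal ≤ n := hpn
    have hP : (n.map (Ideal.Quotient.mk p.asIdeal)).IsPrime :=
      Ideal.map_isPrime_of_surjective Ideal.Quotient.mk_surjective (by rwa [Ideal.mk_ker])
    have hP0 : n.map (Ideal.Quotient.mk p.asIdeal) ≠ ⊥ := by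
      intro e
      rw [Ideal.map_eq_bot_iff_le_ker, Ideal.mk_ker] at e
      exact hIp (hIn.trans e)
    have hPmax := hP.isMaximal_of_ne_bot hP0
    have hcomap : (n.map (Ideal.Quotient.mk p.asIdeal)).comap (Ideal.Quotient.mk p.asIdeal) = n := by
      rw [Ideal.comap_map_of_surjective _ Ideal.Quotient.mk_surjective, ← RingHom.ker_eq_comap_bot,
        Ideal.mk_ker, sup_eq_left.mpr hpn']
    rw [← hcomap]
    exact Ideal.comap_isMaximal_of_surjective _ Ideal.Quotient.mk_surjective
  letI : Field (A ⧸ n) := Ideal.Quotient.field n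
  infer_instance

end main

end Groth.Agent.Lib.Helper14.RigClosed2
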