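import Mathlib
import Groth.Agent.Lib.Helper28FibreTrans
import Groth.Agent.Lib.Helper28FGDim
import Groth.Agent.Lib.Helper28PolyCM

/-!
# Helper28CMFib1: basic tools for Cohen–Macaulay fibres

* `isCohenMacaulayRing_of_isCohenMacaulayLocalRing`: a CM local ring is a CM ring;
* `isCohenMacaulayLocalRing_localization_of_le`: CM-ness of `B_{r'}` passes to `B_r`, `r ≤ r'`;
* `isCohenMacaulayRing_fiber_iff`: pointwise description of CM-ness of a fibre ring by the fibre
  local rings;
* `ringKrullDim_le_one_of_forall_mem`: a Noetherian domain in which a nonzero element lies in all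
  nonzero primes has dimension `≤ 1`.
-/

set_option autoImplicit false
universe u

namespace Groth.Agent.Lib.Helper28.CMFib
open Groth.Agent.Lib.Helper28 IsLocalRing

section Loc

/-- A Cohen–Macaulay local ring is a Cohen–Macaulay ring. -/
theorem isCohenMacaulayRing_of_isCohenMacaulayLocalRing (R : Type u) [CommRing R]
    [hR : LocCoh.IsCohenMacaulayLocalRing R] : LocCoh.IsCohenMacaulayRing R := by
  refine { isCohenMacaulayLocalRing_localization := fun p hp => ?_ }
  have hN : IsNoetherianRing (Localization.AtPrime p) :=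
    IsLocalization.isNoetherianRing p.primeCompl _ inferInstance
  have hM : LocCoh.IsCohenMacaulayModule R R := hR.supportDim_eq_depth
  have hsupp : (⟨p, hp⟩ : PrimeSpectrum R) ∈ Module.support R R := by
    rw [support_self_eq_univ]; trivial
  have h := isCohenMacaulayModule_localization hM ⟨p, hp⟩ hsupp
  unfold LocCoh.IsCohenMacaulayModule at h
  refine { supportDim_eq_depth := ?_ }
  rw [← depth_localizedModule_self p, ← h]

/-- Cohen–Macaulayness of `B_{r'}` passes to `B_r` for `r ≤ r'`. -/
theorem isCohenMacaulayLocalRing_localization_of_le {B : Type u} [CommRing B]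
    (r r' : Ideal B) [r.IsPrime] [r'.IsPrime] (h : r ≤ r')
    (hCM : LocCoh.IsCohenMacaulayLocalRing (Localization.AtPrime r')) :
    LocCoh.IsCohenMacaulayLocalRing (Localization.AtPrime r) := by
  have h1 : LocCoh.IsCohenMacaulayRing (Localization.AtPrime r') :=
    isCohenMacaulayRing_of_isCohenMacaulayLocalRing _
  refine isCohenMacaulayLocalRing_atPrime_of_isLocalization r'.primeCompl
    (Localization.AtPrime r') r ?_
  rw [Set.disjoint_left]
  intro x hx hxr
  exact hx (h hxr)

end Loc


section Pointwise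
variable {A B : Type u} [CommRing A] [CommRing B] [Algebra A B] [IsNoetherianRing B]

theorem isCohenMacaulayRing_fiber_iff (p : Ideal A) [p.IsPrime] :
    LocCoh.IsCohenMacaulayRing (p.Fiber B) ↔
      ∀ (q : Ideal B) [q.IsPrime], q.comap (algebraMap A B) = p →
        LocCoh.IsCohenMacaulayLocalRing (EGA4.FibLocRing A B q) := by
  have hN : IsNoetherianRing (p.Fiber B) := isNoetherianRing_fiber p
  have key : ∀ (R S : Type u) [CommRing R] [CommRing S], (R ≃+* S) →
      LocCoh.IsCohenMacaulayLocalRing R → LocCoh.IsCohenMacaulayLocalRing S :=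
    fun R S _ _ e h => isCohenMacaulayLocalRing_of_ringEquiv e
  constructor
  · intro h q hq hqp
    subst hqp
    obtain ⟨Q, hQ, hqQ⟩ := exists_prime_fiber_comap_eq (A := A) q
    obtain ⟨e⟩ := nonempty_localization_fiber_equiv (q.comap (algebraMap A B)) Q q hqQ
    exact key _ _ e (h.isCohenMacaulayLocalRing_localization Q)
  · intro h
    refine { isCohenMacaulayLocalRing_localization := fun Q hQ => ?_ }
    have hr : (Q.comap (Algebra.TensorProduct.includeRight : B →ₐ[A] p.Fiber B)).IsPrime :=
      Ideal.comap_isPrime _ _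
    obtain ⟨e⟩ := nonempty_localization_fiber_equiv p Q _ rfl
    exact key _ _ e.symm (h _ (comap_includeRight_comap p Q))

end Pointwise

theorem ringKrullDim_le_one_of_forall_mem (D : Type u) [CommRing D] [IsDomain D]
    [IsNoetherianRing D] (f : D) (hf : f ≠ 0)
    (h : ∀ (q : Ideal D) [q.IsPrime], q ≠ ⊥ → f ∈ q) : ringKrullDim D ≤ 1 := by
  rw [ringKrullDim_le_iff_height_le]
  intro q hq
  by_cases hq0 : q = ⊥
  · subst hq0
    rw [Ideal.height_bot]
    exact zero_le_one
  have hfq : f ∈ q := h q hq0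
  have hfin : (Ideal.span {f}).minimalPrimes.Finite :=
    Ideal.finite_minimalPrimes_of_isNoetherianRing D _
  obtain ⟨q0, hq0min, hq0q⟩ := Ideal.exists_minimalPrimes_le (I := Ideal.span {f}) (J := q)
    (by rwa [Ideal.span_singleton_le_iff_mem])
  have hht0 : q0.height ≤ 1 :=
    Ideal.height_le_one_of_isPrincipal_of_mem_minimalPrimes _ q0 hq0min
  suffices hs : q = q0 by
    rw [hs]
    exact_mod_cast hht0
  by_contra hne
  have hnot : ¬ ((q : Set D) ⊆ ⋃ i ∈ (hfin.toFinset : Set (Ideal D)), (i : Set D)) := by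
    intro hsub
    rw [Ideal.subset_union_prime (R := D) (s := hfin.toFinset) (f := fun i => i) ⊥ ⊥
      (fun i hi _ _ => ((Set.Finite.mem_toFinset hfin).mp hi).1.1)] at hsub
    obtain ⟨i, hi, hqi⟩ := hsub
    have hi' := (Set.Finite.mem_toFinset hfin).mp hi
    have h1 : i ≤ q0 := hi'.2 hq0min.1 (hq0q.trans hqi)
    exact hne (le_antisymm (hqi.trans h1) hq0q)
  rw [Set.not_subset] at hnot
  obtain ⟨g, hgq, hgn⟩ := hnot
  have hgn' : ∀ i ∈ (Ideal.span {f}).minimalPrimes, g ∉ i := by
    intro i hi hgi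
    apply hgn
    simp only [Set.mem_iUnion]
    exact ⟨i, (Set.Finite.mem_toFinset hfin).mpr hi, hgi⟩
  have hg0 : g ≠ 0 := by
    rintro rfl
    exact hgn' q0 hq0min (zero_mem _)
  obtain ⟨q1, hq1min, hq1q⟩ := Ideal.exists_minimalPrimes_le (I := Ideal.span {g}) (J := q)
    (by rwa [Ideal.span_singleton_le_iff_mem])
  have hq1p : q1.IsPrime := hq1min.1.1
  have hht1 : q1.height ≤ 1 :=
    Ideal.height_le_one_of_isPrincipal_of_mem_minimalPrimes _ q1 hq1min
  have hgq1 : g ∈ q1 := hq1min.1.2 (Ideal.mem_span_singleton_self g)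
  have hq1ne : q1 ≠ ⊥ := by
    intro hb
    rw [hb] at hgq1
    exact hg0 hgq1
  have hfq1 : f ∈ q1 := h q1 hq1ne
  obtain ⟨qj, hqjmin, hqjq1⟩ := Ideal.exists_minimalPrimes_le (I := Ideal.span {f}) (J := q1)
    (by rwa [Ideal.span_singleton_le_iff_mem])
  have hqjp : qj.IsPrime := hqjmin.1.1
  have hfqj : f ∈ qj := hqjmin.1.2 (Ideal.mem_span_singleton_self f)
  have hqjne : qj ≠ ⊥ := by
    intro hb
    rw [hb] at hfqj
    exact hf hfqj
  have hqj1 : qj = q1 := by
    by_contra hne'
    have hlt : qj < q1 := lt_of_le_of_ne hqjq1 hne'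
    have h1 : qj.height < q1.height := Ideal.height_strict_mono_of_isPrime hlt
    have h2 : (⊥ : Ideal D).height < qj.height :=
      Ideal.height_strict_mono_of_isPrime (bot_lt_iff_ne_bot.mpr hqjne)
    rw [Ideal.height_bot] at h2
    have h3 : qj.height < 1 := lt_of_lt_of_le h1 hht1
    rw [Order.lt_one_iff] at h3
    rw [h3] at h2
    exact lt_irrefl _ h2
  exact hgn' qj hqjmin (hqj1 ▸ hgq1)


end Groth.Agent.Lib.Helper28.CMFib
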