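import Mathlib
import Groth.Agent.Lib.Helper28CMFib1
import Groth.Agent.Lib.Helper19Normalization
import Groth.Agent.Lib.Helper14RigClosed2
import Groth.Agent.Lib.Helper5RLR

/-!
# Helper28CMFib2: finiteness of one-dimensional local domains over complete local rings

* `ResFin A B`: the residue field of `B` is a finitely generated `A`-module (elementwise form);
* `finite_of_ringKrullDim_le_one`: a Noetherian local domain `D` of dimension `≤ 1` over a
  complete Noetherian local ring `A` (local homomorphism, `𝔪_A D ≠ 0`, finite residue extension)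
  is a finite `A`-module.
-/

set_option autoImplicit false
universe u

namespace Groth.Agent.Lib.Helper28.CMFib
open Groth.Agent.Lib.Helper28 IsLocalRing

/-- The residue field of the local ring `B` is generated, as an `A`-module, by finitely many
elements: `B = ∑ A b_l + 𝔪_B`. -/
def ResFin (A B : Type u) [CommRing A] [CommRing B] [IsLocalRing B] [Algebra A B] : Prop :=
  ∃ (s : ℕ) (b : Fin s → B), ∀ x : B, ∃ c : Fin s → A, x - ∑ l, c l • b l ∈ maximalIdeal B

theorem finite_of_ringKrullDim_le_one (A D : Type u) [CommRing A] [IsNoetherianRing A]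
    [IsLocalRing A] [IsAdicComplete (maximalIdeal A) A] [CommRing D] [IsDomain D]
    [IsNoetherianRing D] [IsLocalRing D] [Algebra A D] [IsLocalHom (algebraMap A D)]
    (hres : ResFin A D) (hdim : ringKrullDim D ≤ 1)
    (a : A) (ha : a ∈ maximalIdeal A) (ha0 : algebraMap A D a ≠ 0) : Module.Finite A D := by
  set J : Ideal D := (maximalIdeal A).map (algebraMap A D) with hJ
  have hloc0 : IsLocalHom (algebraMap A D) := inferInstance
  have hJle : J ≤ maximalIdeal D :=
    ((IsLocalRing.local_hom_TFAE (algebraMap A D)).out 0 2).mp hloc0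
  have hJne : J ≠ ⊤ := fun h =>
    (IsLocalRing.maximalIdeal.isMaximal D).ne_top (top_le_iff.mp (h ▸ hJle))
  have hnt : Nontrivial (D ⧸ J) := Ideal.Quotient.nontrivial_iff.mpr hJne
  have hloc : IsLocalRing (D ⧸ J) :=
    IsLocalRing.of_surjective' (Ideal.Quotient.mk J) Ideal.Quotient.mk_surjective
  have hK1 : Ring.KrullDimLE 1 D := Ring.krullDimLE_iff.mpr (by exact_mod_cast hdim)
  have hK0 : Ring.KrullDimLE 0 (D ⧸ J) := by
    rw [Ring.krullDimLE_zero_iff]
    intro P hP
    have hcp : (P.comap (Ideal.Quotient.mk J)).IsPrime := Ideal.comap_isPrime _ _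
    have hne : P.comap (Ideal.Quotient.mk J) ≠ ⊥ := by
      intro hb
      have h1 : algebraMap A D a ∈ P.comap (Ideal.Quotient.mk J) := by
        rw [Ideal.mem_comap, Ideal.Quotient.eq_zero_iff_mem.mpr (Ideal.mem_map_of_mem _ ha)]
        exact zero_mem _
      rw [hb] at h1
      exact ha0 h1
    have hmax : (P.comap (Ideal.Quotient.mk J)).IsMaximal := hcp.isMaximal_of_ne_bot hne
    have hP' : (P.comap (Ideal.Quotient.mk J)).map (Ideal.Quotient.mk J) = P :=
      Ideal.map_comap_of_surjective _ Ideal.Quotient.mk_surjective P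
    rcases Ideal.map_eq_top_or_isMaximal_of_surjective (Ideal.Quotient.mk J)
      Ideal.Quotient.mk_surjective hmax with h | h
    · rw [hP'] at h
      exact absurd h hP.ne_top
    · rwa [hP'] at h
  have hArt : IsArtinianRing (D ⧸ J) := isArtinianRing_iff_krullDimLE_zero.mpr hK0
  obtain ⟨s, b, hb⟩ := hres
  have hfin1 : Module.Finite A (D ⧸ J) :=
    Groth.Agent.Lib.Helper19.Normalization.finite_of_isArtinianRing_of_residue
      (fun l => Ideal.Quotient.mk J (b l)) (by
      intro r
      obtain ⟨x, rfl⟩ := Ideal.Quotient.mk_surjective r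
      obtain ⟨c, hc⟩ := hb x
      refine ⟨c, ?_⟩
      have h1 : Ideal.Quotient.mk J x - ∑ l, c l • Ideal.Quotient.mk J (b l) =
          Ideal.Quotient.mk J (x - ∑ l, c l • b l) := by
        rw [map_sub, map_sum]
        congr 1
      rw [h1, Groth.Agent.Lib.Helper5.maximalIdeal_quotient_eq_map]
      exact Ideal.mem_map_of_mem _ hc)
  have hH : IsHausdorff (maximalIdeal A) D := by
    have h1 : IsHausdorff ((maximalIdeal A).map (algebraMap A D)) D :=
      IsHausdorff.of_le_jacobson _ D (hJle.trans (maximalIdeal_le_jacobson _))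
    exact Groth.Agent.Lib.Helper14.RigClosed2.isHausdorff_of_map A (maximalIdeal A) D
  have hfin2 : Module.Finite A (D ⧸ (maximalIdeal A • ⊤ : Submodule A D)) := by
    let e : (D ⧸ (maximalIdeal A • ⊤ : Submodule A D)) ≃ₗ[A] (D ⧸ J) :=
      Submodule.quotEquivOfEq _ _ (Ideal.smul_top_eq_map (maximalIdeal A)) ≪≫ₗ
        Submodule.Quotient.restrictScalarsEquiv A J
    exact Module.Finite.equiv e.symm
  exact Groth.Agent.Lib.Helper19.Normalization.finite_of_finite_quotient_of_isAdicComplete
    (maximalIdeal A) hfin2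


theorem resFin_quotient (A B : Type u) [CommRing A] [CommRing B] [IsLocalRing B] [Algebra A B]
    (I : Ideal B) [IsLocalRing (B ⧸ I)] (h : ResFin A B) : ResFin A (B ⧸ I) := by
  obtain ⟨s, b, hb⟩ := h
  refine ⟨s, fun l => Ideal.Quotient.mk I (b l), fun r => ?_⟩
  obtain ⟨x, rfl⟩ := Ideal.Quotient.mk_surjective r
  obtain ⟨c, hc⟩ := hb x
  refine ⟨c, ?_⟩
  have h1 : Ideal.Quotient.mk I x - ∑ l, c l • Ideal.Quotient.mk I (b l) =
      Ideal.Quotient.mk I (x - ∑ l, c l • b l) := by
    rw [map_sub, map_sum]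
    congr 1
  rw [h1, Groth.Agent.Lib.Helper5.maximalIdeal_quotient_eq_map]
  exact Ideal.mem_map_of_mem _ hc

theorem resFin_of_tower (A A' B : Type u) [CommRing A] [CommRing A'] [CommRing B] [IsLocalRing B]
    [Algebra A A'] [Algebra A' B] [Algebra A B] [IsScalarTower A A' B] (h : ResFin A B) :
    ResFin A' B := by
  obtain ⟨s, b, hb⟩ := h
  refine ⟨s, b, fun x => ?_⟩
  obtain ⟨c, hc⟩ := hb x
  refine ⟨fun l => algebraMap A A' (c l), ?_⟩
  simp only [algebraMap_smul]
  exact hc

end Groth.Agent.Lib.Helper28.CMFib
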