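import Mathlib
import Groth.Agent.Lib.Helper28CMFib2
import Groth.Agent.Lib.Helper5CMLocusOpen
import Groth.Agent.Lib.Helper5RelCMOpen
import Groth.Agent.Lib.Helper5GrpCM
import Groth.Agent.Lib.Helper5IntDim

/-!
# Helper28CMFib3: the generic fibre of a flat local algebra over a complete local domain

`cm_generic_fibre`: `A` a complete Noetherian local domain, `A → B` a flat local homomorphism of
Noetherian local rings with finite residue field extension; if the fibres over all nonzero primes
and the closed fibre are Cohen–Macaulay, so is the generic fibre.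
-/

set_option autoImplicit false
universe u

namespace Groth.Agent.Lib.Helper28.CMFib
open Groth.Agent.Lib.Helper28 IsLocalRing
  Groth.Agent.Lib.Helper5.CMLocusOpen Groth.Agent.Lib.Helper5.CodepthOpen

/-- The CM locus of a complete local ring is open. -/
theorem isOpen_cm_locus_of_isAdicComplete (A : Type u) [CommRing A] [IsNoetherianRing A]
    [IsLocalRing A] [IsAdicComplete (maximalIdeal A) A] :
    IsOpen {p : PrimeSpectrum A |
      LocCoh.IsCohenMacaulayLocalRing (Localization.AtPrime p.asIdeal)} := by
  obtain ⟨W, _, hreg, hCMW, f, hf⟩ := exists_surjective_of_isCohenMacaulayRing_of_isAdicComplete A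
  let _ := f.toAlgebra
  have hcmu : CMU A := cmu_of_surjective (R := W) hf cmu_of_isCohenMacaulayRing
  exact isOpen_cm_locus hcmu

/-- Generic Cohen–Macaulayness of a complete local domain. -/
theorem exists_ne_zero_forall_cm (A : Type u) [CommRing A] [IsDomain A] [IsNoetherianRing A]
    [IsLocalRing A] [IsAdicComplete (maximalIdeal A) A] :
    ∃ f : A, f ≠ 0 ∧ ∀ (P : Ideal A) [P.IsPrime], f ∉ P →
      LocCoh.IsCohenMacaulayLocalRing (Localization.AtPrime P) := by
  have hopen := isOpen_cm_locus_of_isAdicComplete A
  have hbot : (⟨⊥, Ideal.isPrime_bot⟩ : PrimeSpectrum A) ∈ {p : PrimeSpectrum A |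
      LocCoh.IsCohenMacaulayLocalRing (Localization.AtPrime p.asIdeal)} := by
    have : (⊥ : Ideal A) ∈ minimalPrimes A := by
      rw [IsDomain.minimalPrimes_eq_singleton_bot]; rfl
    exact Groth.Agent.Lib.Helper5.GrpCM.cm_localization_of_mem_minimalPrimes ⊥ this
  obtain ⟨v, ⟨f, rfl⟩, hfv, hvU⟩ :=
    PrimeSpectrum.isTopologicalBasis_basic_opens.exists_subset_of_mem_open hbot hopen
  refine ⟨f, ?_, fun P hP hfP => ?_⟩
  · intro h0
    apply hfv
    change f ∈ (⊥ : Ideal A)
    rw [h0]; exact zero_mem _
  · exact hvU (show (⟨P, hP⟩ : PrimeSpectrum A) ∈ (PrimeSpectrum.basicOpen f : Set _) from hfP)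

section Step
variable (A B : Type u) [CommRing A] [CommRing B] [IsNoetherianRing A] [IsNoetherianRing B]
  [Algebra A B] [Module.Flat A B]

theorem cm_localization_of_cm_fiber (r' : Ideal B) [r'.IsPrime]
    (hA : LocCoh.IsCohenMacaulayLocalRing (Localization.AtPrime (r'.comap (algebraMap A B))))
    (hF : LocCoh.IsCohenMacaulayRing ((r'.comap (algebraMap A B)).Fiber B)) :
    LocCoh.IsCohenMacaulayLocalRing (Localization.AtPrime r') :=
  (cm_iff_of_cm_fibre r' ((isCohenMacaulayRing_fiber_iff _).mp hF r' rfl)).mpr hA

end Step

theorem cm_fiber_congr {A B : Type u} [CommRing A] [CommRing B] [Algebra A B]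
    (P Q : Ideal A) [P.IsPrime] [Q.IsPrime] (h : P = Q)
    (hP : LocCoh.IsCohenMacaulayRing (P.Fiber B)) : LocCoh.IsCohenMacaulayRing (Q.Fiber B) := by
  subst h
  exact hP

section DomainCase
variable (A B : Type u) [CommRing A] [CommRing B] [IsDomain A] [IsNoetherianRing A]
  [IsNoetherianRing B] [IsLocalRing A] [IsLocalRing B] [Algebra A B] [IsLocalHom (algebraMap A B)]
  [Module.Flat A B] [IsAdicComplete (maximalIdeal A) A]

theorem cm_localization_of_comap_eq_bot (hres : ResFin A B)
    (hcl : LocCoh.IsCohenMacaulayRing ((maximalIdeal A).Fiber B))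
    (hind : ∀ (P : Ideal A) [P.IsPrime], P ≠ ⊥ → LocCoh.IsCohenMacaulayRing (P.Fiber B))
    (r : Ideal B) [hr : r.IsPrime] (hr0 : r.comap (algebraMap A B) = ⊥) :
    LocCoh.IsCohenMacaulayLocalRing (Localization.AtPrime r) := by
  have hmB : (maximalIdeal B).comap (algebraMap A B) = maximalIdeal A :=
    IsLocalRing.maximalIdeal_comap (algebraMap A B)
  by_cases hdimA : ringKrullDim A ≤ 1
  · have hCMA : LocCoh.IsCohenMacaulayRing A :=
      Groth.Agent.Lib.Helper5.RelCMOpen.isCohenMacaulayRing_of_isDomain_of_dim_le_one A hdimA
    have h1 : LocCoh.IsCohenMacaulayLocalRing (Localization.AtPrime (maximalIdeal B)) := by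
      apply cm_localization_of_cm_fiber A B (maximalIdeal B)
      · exact hCMA.isCohenMacaulayLocalRing_localization _
      · exact cm_fiber_congr _ _ hmB.symm hcl
    exact isCohenMacaulayLocalRing_localization_of_le r (maximalIdeal B)
      (le_maximalIdeal hr.ne_top) h1
  · obtain ⟨f, hf0, hf⟩ := exists_ne_zero_forall_cm A
    have key : ∀ (r : Ideal B), ∀ [r.IsPrime], r.comap (algebraMap A B) = ⊥ →
        LocCoh.IsCohenMacaulayLocalRing (Localization.AtPrime r) := by
      intro r
      induction r using WellFoundedGT.induction with
      | ind r IH =>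
        intro hr hr0
        by_cases hex : ∃ r' : Ideal B, r'.IsPrime ∧ r < r' ∧ algebraMap A B f ∉ r'
        · obtain ⟨r', hr', hlt, hfr'⟩ := hex
          have hfP : f ∉ r'.comap (algebraMap A B) := hfr'
          have hAP := hf (r'.comap (algebraMap A B)) hfP
          have h1 : LocCoh.IsCohenMacaulayLocalRing (Localization.AtPrime r') := by
            by_cases hP0 : r'.comap (algebraMap A B) = ⊥
            · exact IH r' hlt hP0
            · exact cm_localization_of_cm_fiber A B r' hAP (hind _ hP0)
          exact isCohenMacaulayLocalRing_localization_of_le r r' hlt.le h1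
        · exfalso
          push Not at hex
          apply hdimA
          have hD1 : ringKrullDim (B ⧸ r) ≤ 1 := by
            apply ringKrullDim_le_one_of_forall_mem (B ⧸ r)
              (Ideal.Quotient.mk r (algebraMap A B f))
            · intro h0
              rw [Ideal.Quotient.eq_zero_iff_mem] at h0
              have h1 : f ∈ r.comap (algebraMap A B) := h0
              rw [hr0] at h1
              exact hf0 h1
            · intro q hq hq0
              have hcq : (q.comap (Ideal.Quotient.mk r)).IsPrime := Ideal.comap_isPrime _ _
              have hlt : r < q.comap (Ideal.Quotient.mk r) := by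
                refine lt_of_le_of_ne ?_ ?_
                · intro x hx
                  rw [Ideal.mem_comap, Ideal.Quotient.eq_zero_iff_mem.mpr hx]
                  exact zero_mem _
                · intro heq
                  apply hq0
                  rw [eq_bot_iff]
                  intro y hy
                  obtain ⟨x, rfl⟩ := Ideal.Quotient.mk_surjective y
                  have h1 : x ∈ q.comap (Ideal.Quotient.mk r) := hy
                  rw [← heq] at h1
                  rw [Ideal.mem_bot]
                  exact Ideal.Quotient.eq_zero_iff_mem.mpr h1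
              exact hex _ hcq hlt
          by_cases hm0 : maximalIdeal A = ⊥
          · have hfld : IsField A := IsLocalRing.isField_iff_maximalIdeal_eq.mpr hm0
            rw [ringKrullDim_eq_zero_of_isField hfld]
            exact zero_le_one
          obtain ⟨a, ha, ha0⟩ : ∃ a ∈ maximalIdeal A, a ≠ 0 := by
            by_contra hcon
            push Not at hcon
            apply hm0
            rw [eq_bot_iff]
            intro x hx
            rw [Ideal.mem_bot]
            exact hcon x hx
          have hlocD : IsLocalRing (B ⧸ r) :=
            IsLocalRing.of_surjective' (Ideal.Quotient.mk r) Ideal.Quotient.mk_surjective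
          have hlh : IsLocalHom (Ideal.Quotient.mk r) :=
            IsLocalHom.of_surjective _ Ideal.Quotient.mk_surjective
          have hlhD : IsLocalHom (algebraMap A (B ⧸ r)) :=
            RingHom.isLocalHom_comp (Ideal.Quotient.mk r) (algebraMap A B)
          have hinj : Function.Injective (algebraMap A (B ⧸ r)) := by
            rw [injective_iff_map_eq_zero]
            intro x hx
            have hx' : Ideal.Quotient.mk r (algebraMap A B x) = 0 := hx
            have h1 : x ∈ r.comap (algebraMap A B) := by
              rw [Ideal.mem_comap]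
              exact Ideal.Quotient.eq_zero_iff_mem.mp hx'
            rw [hr0] at h1
            exact h1
          have hresD : ResFin A (B ⧸ r) := resFin_quotient A B r hres
          have hfinD : Module.Finite A (B ⧸ r) :=
            finite_of_ringKrullDim_le_one A (B ⧸ r) hresD hD1 a ha
              (fun h => ha0 (hinj (by rw [h, map_zero])))
          have hint : Algebra.IsIntegral A (B ⧸ r) := Algebra.IsIntegral.of_finite A _
          rw [← Groth.Agent.Lib.Helper5.ringKrullDim_eq_of_isIntegral_of_injective A (B ⧸ r) hinj]
          exact hD1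
    exact key r hr0


theorem cm_generic_fibre (hres : ResFin A B)
    (hcl : LocCoh.IsCohenMacaulayRing ((maximalIdeal A).Fiber B))
    (hind : ∀ (P : Ideal A) [P.IsPrime], P ≠ ⊥ → LocCoh.IsCohenMacaulayRing (P.Fiber B)) :
    LocCoh.IsCohenMacaulayRing ((⊥ : Ideal A).Fiber B) := by
  have key : ∀ (R S : Type u) [CommRing R] [CommRing S], (R ≃+* S) →
      LocCoh.IsCohenMacaulayLocalRing R → LocCoh.IsCohenMacaulayLocalRing S :=
    fun R S _ _ e h => isCohenMacaulayLocalRing_of_ringEquiv e
  rw [isCohenMacaulayRing_fiber_iff]
  intro q hq hq0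
  have h1 := cm_localization_of_comap_eq_bot A B hres hcl hind q hq0
  have hI : (q.comap (algebraMap A B)).map (algebraMap A (Localization.AtPrime q)) = ⊥ := by
    rw [hq0, Ideal.map_bot]
  exact key _ _ ((Ideal.quotEquivOfEq hI).trans (RingEquiv.quotientBot _)).symm h1

end DomainCase

end Groth.Agent.Lib.Helper28.CMFib
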