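import Mathlib
import Groth.Agent.Lib.Helper28CMFib3
import Groth.Agent.Lib.Helper28GeomFibre5
import Groth.Agent.Lib.Helper28ComplNagata
import Groth.Agent.Lib.Helper19FlatResExtB

/-!
# Helper28CMFib4: Cohen–Macaulay fibres over a complete local ring (EGA IV 7.5.1 for CM)

`isCohenMacaulayRing_fiber_of_isAdicComplete`: over a complete Noetherian local ring `A`, a flat
local `A`-algebra `B` (Noetherian local, finite residue field extension) whose closed fibre is
Cohen–Macaulay has all its fibres Cohen–Macaulay.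
-/

set_option autoImplicit false
universe u

namespace Groth.Agent.Lib.Helper28.CMFib
open Groth.Agent.Lib.Helper28 IsLocalRing TensorProduct

section Core
variable (A B : Type u) [CommRing A] [CommRing B] [IsNoetherianRing A] [IsNoetherianRing B]
  [IsLocalRing A] [IsLocalRing B] [Algebra A B] [IsLocalHom (algebraMap A B)] [Module.Flat A B]
  [IsAdicComplete (maximalIdeal A) A]

theorem cm_equiv (T T' : Type u) [CommRing T] [CommRing T'] (e : T ≃+* T')
    (h : LocCoh.IsCohenMacaulayRing T) : LocCoh.IsCohenMacaulayRing T' :=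
  isCohenMacaulayRing_of_ringEquiv e

theorem not_cm_equiv (T T' : Type u) [CommRing T] [CommRing T'] (e : T ≃+* T')
    (h : ¬ LocCoh.IsCohenMacaulayRing T) : ¬ LocCoh.IsCohenMacaulayRing T' :=
  fun h' => h (cm_equiv T' T e.symm h')

/-- The inductive step: if the fibres over all primes strictly containing `p` and the closed
fibre are Cohen–Macaulay, so is the fibre over `p`. -/
theorem cm_fiber_of_forall_lt (hres : ResFin A B)
    (hcl : LocCoh.IsCohenMacaulayRing ((maximalIdeal A).Fiber B)) (p : Ideal A) [hp : p.IsPrime]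
    (IH : ∀ (P : Ideal A) [P.IsPrime], p < P → LocCoh.IsCohenMacaulayRing (P.Fiber B)) :
    LocCoh.IsCohenMacaulayRing (p.Fiber B) := by
  have hlocAB : IsLocalHom (algebraMap A B) := inferInstance
  have hpB : p.map (algebraMap A B) ≠ ⊤ := by
    intro h
    have h1 : p.map (algebraMap A B) ≤ maximalIdeal B :=
      (Ideal.map_mono (le_maximalIdeal hp.ne_top)).trans
        (IsLocalRing.map_maximalIdeal_le (algebraMap A B))
    rw [h] at h1
    exact (IsLocalRing.maximalIdeal.isMaximal B).ne_top (top_le_iff.mp h1)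
  have hntB : Nontrivial (B ⧸ p.map (algebraMap A B)) := Ideal.Quotient.nontrivial_iff.mpr hpB
  have hlocA' : IsLocalRing (A ⧸ p) :=
    IsLocalRing.of_surjective' (Ideal.Quotient.mk p) Ideal.Quotient.mk_surjective
  have hlocB' : IsLocalRing (B ⧸ p.map (algebraMap A B)) :=
    IsLocalRing.of_surjective' (Ideal.Quotient.mk _) Ideal.Quotient.mk_surjective
  have hdom : IsDomain (A ⧸ p) := Ideal.Quotient.isDomain p
  have hflat : Module.Flat (A ⧸ p) (B ⧸ p.map (algebraMap A B)) :=
    Groth.Agent.Lib.Helper19.FlatResExt.flat_quotient_map p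
  have hcomp : IsAdicComplete (maximalIdeal (A ⧸ p)) (A ⧸ p) := isAdicComplete_quotient_local p
  have hlh1 : IsLocalHom (Ideal.Quotient.mk p) :=
    IsLocalHom.of_surjective _ Ideal.Quotient.mk_surjective
  have hlh2 : IsLocalHom (Ideal.Quotient.mk (p.map (algebraMap A B))) :=
    IsLocalHom.of_surjective _ Ideal.Quotient.mk_surjective
  have hlh3 : IsLocalHom (algebraMap A (B ⧸ p.map (algebraMap A B))) :=
    RingHom.isLocalHom_comp (Ideal.Quotient.mk (p.map (algebraMap A B))) (algebraMap A B)
  have hlh : IsLocalHom (algebraMap (A ⧸ p) (B ⧸ p.map (algebraMap A B))) := by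
    refine ⟨fun y hy => ?_⟩
    obtain ⟨x, rfl⟩ := Ideal.Quotient.mk_surjective y
    have h1 : IsUnit (algebraMap A (B ⧸ p.map (algebraMap A B)) x) := by
      rw [IsScalarTower.algebraMap_apply A (A ⧸ p) (B ⧸ p.map (algebraMap A B))]
      exact hy
    have h2 : IsUnit x := IsLocalHom.map_nonunit x h1
    exact h2.map _
  have hres' : ResFin (A ⧸ p) (B ⧸ p.map (algebraMap A B)) :=
    resFin_of_tower A (A ⧸ p) _ (resFin_quotient A B _ hres)
  let e : (A ⧸ p) ⊗[A] B ≃ₐ[A ⧸ p] (B ⧸ p.map (algebraMap A B)) :=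
    (Algebra.TensorProduct.quotIdealMapEquivQuotTensor B p).symm
  have hsurj : (algebraMap A (A ⧸ p)).SurjectiveOnStalks :=
    RingHom.surjectiveOnStalks_of_surjective Ideal.Quotient.mk_surjective
  have tr1 : ∀ (P' : Ideal (A ⧸ p)) [P'.IsPrime],
      LocCoh.IsCohenMacaulayRing ((P'.under A).Fiber B) →
        LocCoh.IsCohenMacaulayRing (P'.Fiber (B ⧸ p.map (algebraMap A B))) := fun P' _ h =>
    cm_equiv _ _ (fiberCongr e P')
      (fiber_tensorProduct_of_property_of_surjectiveOnStalks hsurj
        (fun T _ => LocCoh.IsCohenMacaulayRing T) cm_equiv P' h)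
  have tr2 : ∀ (P' : Ideal (A ⧸ p)) [P'.IsPrime],
      LocCoh.IsCohenMacaulayRing (P'.Fiber (B ⧸ p.map (algebraMap A B))) →
        LocCoh.IsCohenMacaulayRing ((P'.under A).Fiber B) := by
    intro P' _ h
    by_contra hn
    exact (fiber_tensorProduct_of_property_of_surjectiveOnStalks hsurj
      (fun T _ => ¬ LocCoh.IsCohenMacaulayRing T) not_cm_equiv P' hn)
      (cm_equiv _ _ (fiberCongr e P').symm h)
  have hmax : (maximalIdeal (A ⧸ p)).under A = maximalIdeal A :=
    IsLocalRing.maximalIdeal_comap (Ideal.Quotient.mk p)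
  have hcl' : LocCoh.IsCohenMacaulayRing
      ((maximalIdeal (A ⧸ p)).Fiber (B ⧸ p.map (algebraMap A B))) :=
    tr1 _ (cm_fiber_congr _ _ hmax.symm hcl)
  have hbot : (⊥ : Ideal (A ⧸ p)).under A = p := by
    rw [Ideal.under_def]
    change Ideal.comap (Ideal.Quotient.mk p) ⊥ = p
    rw [← RingHom.ker_eq_comap_bot, Ideal.mk_ker]
  have hind' : ∀ (P' : Ideal (A ⧸ p)) [P'.IsPrime], P' ≠ ⊥ →
      LocCoh.IsCohenMacaulayRing (P'.Fiber (B ⧸ p.map (algebraMap A B))) := by
    intro P' _ hP'
    apply tr1 P'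
    apply IH
    refine lt_of_le_of_ne ?_ ?_
    · exact (le_of_eq hbot.symm).trans (Ideal.comap_mono bot_le)
    · intro heq
      apply hP'
      have h1 : (⊥ : Ideal (A ⧸ p)).under A = P'.under A := hbot.trans heq
      exact (Ideal.comap_injective_of_surjective (Ideal.Quotient.mk p)
        Ideal.Quotient.mk_surjective h1).symm
  have hgen := cm_generic_fibre (A ⧸ p) (B ⧸ p.map (algebraMap A B)) hres' hcl' hind'
  exact cm_fiber_congr _ _ hbot (tr2 ⊥ hgen)

/-- **Core**: over a complete Noetherian local ring `A`, a flat local `A`-algebra `B` (Noetherian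
local, finite residue extension) whose closed fibre is Cohen–Macaulay has all fibres
Cohen–Macaulay. -/
theorem isCohenMacaulayRing_fiber_of_isAdicComplete (hres : ResFin A B)
    (hcl : LocCoh.IsCohenMacaulayRing ((maximalIdeal A).Fiber B)) (p : Ideal A) [hp : p.IsPrime] :
    LocCoh.IsCohenMacaulayRing (p.Fiber B) := by
  have key : ∀ (p : Ideal A), ∀ [p.IsPrime], LocCoh.IsCohenMacaulayRing (p.Fiber B) := by
    intro p
    induction p using WellFoundedGT.induction with
    | ind p IH =>
      intro hp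
      exact cm_fiber_of_forall_lt A B hres hcl p (fun P _ hlt => IH P hlt)
  exact key p

end Core


end Groth.Agent.Lib.Helper28.CMFib
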