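import Mathlib
import Groth.Agent.Lib.Helper28GeomRed1

set_option autoImplicit false
set_option linter.unusedSectionVars false
set_option linter.style.haveILetI false
set_option linter.deprecated false
universe u
open Polynomial IsLocalRing TensorProduct

namespace Groth.Agent.Lib.Helper28.GeomRed

section Basics

variable (R : Type u) [CommRing R] (S : Type u) [CommRing S] [Algebra R S]
  (R₁ : Type u) [CommRing R₁] [Algebra R R₁]

theorem isNoetherianRing_tensor_of_finite [IsNoetherianRing S] [Module.Finite R R₁] :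
    IsNoetherianRing (R₁ ⊗[R] S) := by
  have h1 : IsNoetherianRing (S ⊗[R] R₁) := Algebra.FiniteType.isNoetherianRing S (S ⊗[R] R₁)
  exact isNoetherianRing_of_ringEquiv _ (Algebra.TensorProduct.comm R S R₁).toRingEquiv

theorem includeRight_isIntegral [Module.Finite R R₁] :
    (Algebra.TensorProduct.includeRight (R := R) (A := R₁) (B := S)).toRingHom.IsIntegral := by
  have h1 : (algebraMap S (S ⊗[R] R₁)).IsIntegral :=
    algebraMap_isIntegral_iff.mpr (Algebra.IsIntegral.of_finite S (S ⊗[R] R₁))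
  have h2 : ((Algebra.TensorProduct.comm R S R₁).toRingEquiv.toRingHom).IsIntegral :=
    RingHom.isIntegral_of_surjective _ (Algebra.TensorProduct.comm R S R₁).surjective
  have h3 := RingHom.IsIntegral.trans _ _ h1 h2
  have h4 : ((Algebra.TensorProduct.comm R S R₁).toRingEquiv.toRingHom).comp
      (algebraMap S (S ⊗[R] R₁)) =
      (Algebra.TensorProduct.includeRight (R := R) (A := R₁) (B := S)).toRingHom := by
    ext x
    simp [Algebra.TensorProduct.algebraMap_apply]
  rwa [h4] at h3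

theorem algebraMap_mem_jacobson [IsLocalRing R] [IsLocalRing R₁] [Module.Finite R R₁]
    (hrad : (maximalIdeal R).map (algebraMap R S) ≤ Ideal.jacobson ⊥)
    (t : R₁) (ht : t ∈ maximalIdeal R₁) :
    algebraMap R₁ (R₁ ⊗[R] S) t ∈ Ideal.jacobson (⊥ : Ideal (R₁ ⊗[R] S)) := by
  rw [Ideal.jacobson, Ideal.mem_sInf]
  rintro M ⟨-, hM⟩
  haveI := hM
  have hcm : (M.comap (Algebra.TensorProduct.includeRight (R := R) (A := R₁) (B := S)).toRingHom).IsMaximal :=
    Ideal.isMaximal_comap_of_isIntegral_of_isMaximal' _ (includeRight_isIntegral R S R₁) M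
  have h1 : (maximalIdeal R).map (algebraMap R S) ≤
      M.comap (Algebra.TensorProduct.includeRight (R := R) (A := R₁) (B := S)).toRingHom :=
    hrad.trans (sInf_le ⟨bot_le, hcm⟩)
  have h2 : maximalIdeal R ≤ M.comap (algebraMap R (R₁ ⊗[R] S)) := by
    intro r hr
    have h3 := h1 (Ideal.mem_map_of_mem _ hr)
    rw [Ideal.mem_comap] at h3 ⊢
    have h4 : (Algebra.TensorProduct.includeRight (R := R) (A := R₁) (B := S)).toRingHom
        (algebraMap R S r) = algebraMap R (R₁ ⊗[R] S) r := by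
      change (Algebra.TensorProduct.includeRight (R := R) (A := R₁) (B := S)) (algebraMap R S r) = _
      rw [AlgHom.commutes]
    rwa [h4] at h3
  have h5 : M.comap (algebraMap R (R₁ ⊗[R] S)) = maximalIdeal R :=
    ((IsLocalRing.maximalIdeal.isMaximal R).eq_of_le
      (Ideal.comap_ne_top _ hM.ne_top) h2).symm
  have h6 : ((M.comap (algebraMap R₁ (R₁ ⊗[R] S))).comap (algebraMap R R₁)) = maximalIdeal R := by
    rw [Ideal.comap_comap, ← IsScalarTower.algebraMap_eq, h5]
  haveI : Algebra.IsIntegral R R₁ := Algebra.IsIntegral.of_finite R R₁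
  have h7 : (M.comap (algebraMap R₁ (R₁ ⊗[R] S))).IsMaximal :=
    Ideal.isMaximal_of_isIntegral_of_isMaximal_comap _ (h6 ▸ IsLocalRing.maximalIdeal.isMaximal R)
  have h8 := IsLocalRing.eq_maximalIdeal h7
  have h9 : t ∈ M.comap (algebraMap R₁ (R₁ ⊗[R] S)) := h8 ▸ ht
  exact h9

theorem algebraMap_mem_nonZeroDivisors [IsDomain R₁] [Module.Flat R S] (t : R₁) (ht : t ≠ 0) :
    algebraMap R₁ (R₁ ⊗[R] S) t ∈ nonZeroDivisors (R₁ ⊗[R] S) := by
  have h1 : IsSMulRegular (R₁ ⊗[R] S) t :=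
    Module.Flat.isSMulRegular_of_nonZeroDivisors (mem_nonZeroDivisors_of_ne_zero ht)
  rw [mem_nonZeroDivisors_iff_right]
  intro x hx
  apply h1
  change t • x = t • (0 : R₁ ⊗[R] S)
  rw [smul_zero, Algebra.smul_def, mul_comm]
  exact hx

theorem isReduced_tensor_residueField (Q : Ideal R₁) [Q.IsPrime]
    (h : IsReduced ((R₁ ⧸ Q) ⊗[R] S)) :
    IsReduced ((R₁ ⊗[R] S) ⊗[R₁] IsLocalRing.ResidueField (Localization.AtPrime Q)) := by
  have h1 : IsReduced (Q.ResidueField ⊗[R] S) :=
    isReduced_tensor_of_isLocalization R S (R₁ ⧸ Q) Q.ResidueField (nonZeroDivisors (R₁ ⧸ Q)) h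
  let e1 : (R₁ ⊗[R] S) ⊗[R₁] Q.ResidueField ≃ₐ[R₁] Q.ResidueField ⊗[R₁] (R₁ ⊗[R] S) :=
    Algebra.TensorProduct.comm R₁ (R₁ ⊗[R] S) Q.ResidueField
  let e2 : Q.ResidueField ⊗[R₁] (R₁ ⊗[R] S) ≃ₐ[Q.ResidueField] Q.ResidueField ⊗[R] S :=
    Algebra.TensorProduct.cancelBaseChange R R₁ Q.ResidueField Q.ResidueField S
  exact isReduced_of_injective (e2.toRingEquiv.toRingHom.comp e1.toRingEquiv.toRingHom)
    (e2.injective.comp e1.injective)

end Basics

end Groth.Agent.Lib.Helper28.GeomRed
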