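import Mathlib
import Groth.Agent.Lib.Helper28GeomRed2
import Groth.Agent.Lib.Helper28AUNormal
import Groth.Agent.Lib.Helper28ComplNagata
import Groth.Agent.Lib.Helper14Japanese

set_option autoImplicit false
set_option linter.unusedSectionVars false
set_option linter.style.haveILetI false
set_option linter.deprecated false
universe u
open Polynomial IsLocalRing TensorProduct

namespace Groth.Agent.Lib.Helper28.GeomRed

theorem scaleRoots_X_pow {T : Type*} [CommRing T] (n : ℕ) (s : T) :
    (X ^ n : T[X]).scaleRoots s = X ^ n := by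
  ext i
  rw [coeff_scaleRoots, coeff_X_pow]
  split_ifs with h
  · subst h
    have : (X ^ i : T[X]).natDegree - i = 0 :=
      Nat.sub_eq_zero_of_le (natDegree_X_pow_le i)
    rw [this, pow_zero, mul_one]
  · rw [zero_mul]

/-- an integral extension of domains: a nonzero element of an ideal gives a nonzero element
of the contraction. -/
theorem exists_algebraMap_mem_ne_zero (R R₁ : Type u) [CommRing R] [CommRing R₁] [IsDomain R₁]
    [Algebra R R₁] [Algebra.IsIntegral R R₁] (Q : Ideal R₁) (t : R₁) (ht : t ∈ Q) (ht0 : t ≠ 0) :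
    ∃ r : R, algebraMap R R₁ r ∈ Q ∧ algebraMap R R₁ r ≠ 0 := by
  have hint : IsIntegral (⊥ : Subalgebra R R₁) t := (Algebra.IsIntegral.isIntegral (R := R) t).tower_top
  have h1 := Ideal.comap_ne_bot_of_integral_mem (R := (⊥ : Subalgebra R R₁)) ht0 ht hint
  obtain ⟨y, hy, hy0⟩ := Submodule.exists_mem_ne_zero_of_ne_bot h1
  obtain ⟨r, hr⟩ := Algebra.mem_bot.mp y.2
  refine ⟨r, ?_, ?_⟩
  · rw [hr]; exact hy
  · rw [hr]
    intro h0
    exact hy0 (Subtype.ext h0)

theorem map_id_right_injective_of_flat {A B M₁ M₂ : Type*} [CommRing A] [CommRing B] [Algebra A B]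
    [CommRing M₁] [CommRing M₂] [Algebra A M₁] [Algebra A M₂] [Module.Flat A B]
    (f : M₁ →ₐ[A] M₂) (hf : Function.Injective f) :
    Function.Injective (Algebra.TensorProduct.map f (AlgHom.id A B)) := by
  have h1 : Function.Injective (LinearMap.rTensor B f.toLinearMap) :=
    Module.Flat.rTensor_preserves_injective_linearMap _ hf
  have h3 : ∀ y, Algebra.TensorProduct.map f (AlgHom.id A B) y =
      LinearMap.rTensor B f.toLinearMap y := by
    intro y
    induction y using TensorProduct.induction_on with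
    | zero => simp
    | tmul a b => simp
    | add a b ha hb => rw [map_add, map_add, ha, hb]
  intro x y hxy
  apply h1
  rw [← h3, ← h3, hxy]

section Main

variable (R : Type u) [CommRing R] [IsNoetherianRing R] [IsLocalRing R]
  [IsAdicComplete (maximalIdeal R) R]
  (S : Type u) [CommRing S] [IsNoetherianRing S] [Algebra R S] [Module.Flat R S]

open WeakKrull in
theorem isReduced_tensor_of_isIntegrallyClosed
    (hrad : (maximalIdeal R).map (algebraMap R S) ≤ Ideal.jacobson ⊥)
    (h0 : ∀ (F : Type u) [Field F] [Algebra R F] [Module.Finite R F], IsReduced (F ⊗[R] S))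
    (R₁ : Type u) [CommRing R₁] [IsDomain R₁] [IsIntegrallyClosed R₁] [Algebra R R₁]
    [Module.Finite R R₁]
    (IH : ∀ (R₂ : Type u) [CommRing R₂] [IsDomain R₂] [Algebra R R₂] [Module.Finite R R₂],
      RingHom.ker (algebraMap R R₁) < RingHom.ker (algebraMap R R₂) → IsReduced (R₂ ⊗[R] S)) :
    IsReduced (R₁ ⊗[R] S) := by
  haveI := henselianLocalRing_of_isAdicComplete R
  haveI : IsLocalRing R₁ := isLocalRing_of_finite_of_isDomain R R₁
  haveI : IsNoetherianRing R₁ := IsNoetherianRing.of_finite R R₁
  haveI : Algebra.IsIntegral R R₁ := Algebra.IsIntegral.of_finite R R₁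
  by_cases hm : maximalIdeal R₁ = ⊥
  · have hf : IsField R₁ := IsLocalRing.isField_iff_maximalIdeal_eq.mpr hm
    letI := hf.toField
    exact h0 R₁
  · obtain ⟨t, ht, ht0⟩ : ∃ t ∈ maximalIdeal R₁, t ≠ 0 :=
      Submodule.exists_mem_ne_zero_of_ne_bot hm
    haveI := isNoetherianRing_tensor_of_finite R S R₁
    refine isReduced_of_forall_isNilpotent_dvd (R₁ ⊗[R] S) (algebraMap R₁ _ t)
      (algebraMap_mem_nonZeroDivisors R S R₁ t ht0) (algebraMap_mem_jacobson R S R₁ hrad t ht) ?_
    have hgood : SGood R₁ (R₁ ⊗[R] S) t R₁ := by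
      refine sGood_of_isIntegrallyClosed' t R₁ ht0 (fun Q _ hQ => ?_)
      apply isReduced_tensor_residueField R S R₁ Q
      have htQ : t ∈ Q := by
        have h1 : Module.annihilator R₁ (R₁ ⧸ Ideal.span {algebraMap R₁ R₁ t}) ≤ Q := by
          have := IsAssociatedPrime.annihilator_le ((AssociatedPrimes.mem_iff).mp hQ)
          rwa [Submodule.annihilator_top] at this
        apply h1
        rw [Ideal.annihilator_quotient]
        exact Ideal.mem_span_singleton_self _
      obtain ⟨r, hrQ, hr0⟩ := exists_algebraMap_mem_ne_zero R R₁ Q t htQ ht0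
      apply IH (R₁ ⧸ Q)
      rw [SetLike.lt_iff_le_and_exists]
      refine ⟨?_, r, ?_, ?_⟩
      · intro x hx
        rw [RingHom.mem_ker] at hx ⊢
        rw [IsScalarTower.algebraMap_apply R R₁ (R₁ ⧸ Q), hx, map_zero]
      · rw [RingHom.mem_ker, IsScalarTower.algebraMap_apply R R₁ (R₁ ⧸ Q),
          Ideal.Quotient.algebraMap_eq, Ideal.Quotient.eq_zero_iff_mem]
        exact hrQ
      · rw [RingHom.mem_ker]
        exact hr0
    intro x hx
    obtain ⟨n, hn⟩ := hx
    have h1 := hgood (x ⊗ₜ 1) (X ^ n) (monic_X_pow n) (by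
      rw [scaleRoots_X_pow, eval_pow, eval_X, Algebra.TensorProduct.tmul_pow, hn, one_pow,
        TensorProduct.zero_tmul])
    have h2 := map_dvd (Algebra.TensorProduct.rid R₁ R₁ (R₁ ⊗[R] S)) h1
    rwa [AlgEquiv.commutes, Algebra.TensorProduct.rid_tmul, one_smul] at h2

theorem isReduced_tensor_of_finite_of_isDomain
    (hrad : (maximalIdeal R).map (algebraMap R S) ≤ Ideal.jacobson ⊥)
    (h0 : ∀ (F : Type u) [Field F] [Algebra R F] [Module.Finite R F], IsReduced (F ⊗[R] S))
    (R₂ : Type u) [CommRing R₂] [IsDomain R₂] [Algebra R R₂] [Module.Finite R R₂] :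
    IsReduced (R₂ ⊗[R] S) := by
  suffices H : ∀ (p : Ideal R) (R₂ : Type u) [CommRing R₂] [IsDomain R₂] [Algebra R R₂]
      [Module.Finite R R₂], RingHom.ker (algebraMap R R₂) = p → IsReduced (R₂ ⊗[R] S) from
    H _ R₂ rfl
  intro p
  induction p using IsNoetherian.induction with
  | hgt p IH =>
    intro R₂ _ _ _ _ hker
    have hNag : CAlg.IsNagata R := isNagata_of_isAdicComplete_local R
    have hNag2 : CAlg.IsNagata R₂ := isNagata_of_finite R R₂ hNag
    have hN2 := isN2_of_isNagata_of_isDomain R₂ hNag2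
    haveI hN1 : Module.Finite R₂ (integralClosure R₂ (FractionRing R₂)) :=
      Groth.Agent.Lib.Helper14.IsN2.isN1 hN2
    haveI : Module.Finite R (integralClosure R₂ (FractionRing R₂)) :=
      Module.Finite.trans R₂ _
    have hinj : Function.Injective (algebraMap R₂ (integralClosure R₂ (FractionRing R₂))) := by
      intro x y hxy
      have := congrArg (algebraMap (integralClosure R₂ (FractionRing R₂)) (FractionRing R₂)) hxy
      rw [← IsScalarTower.algebraMap_apply, ← IsScalarTower.algebraMap_apply] at this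
      exact IsFractionRing.injective R₂ (FractionRing R₂) this
    have hker3 : RingHom.ker (algebraMap R (integralClosure R₂ (FractionRing R₂))) = p := by
      rw [← hker]
      ext x
      rw [RingHom.mem_ker, RingHom.mem_ker,
        IsScalarTower.algebraMap_apply R R₂ (integralClosure R₂ (FractionRing R₂)),
        map_eq_zero_iff _ hinj]
    haveI : IsIntegrallyClosed (integralClosure R₂ (FractionRing R₂)) :=
      integralClosure.isIntegrallyClosedOfFiniteExtension (FractionRing R₂)
    have h3 : IsReduced ((integralClosure R₂ (FractionRing R₂)) ⊗[R] S) :=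
      isReduced_tensor_of_isIntegrallyClosed R S hrad h0 _
        (fun R₄ _ _ _ _ hlt => IH _ (hker3 ▸ hlt) R₄ rfl)
    have hinj2 := map_id_right_injective_of_flat (A := R) (B := S)
      (IsScalarTower.toAlgHom R R₂ (integralClosure R₂ (FractionRing R₂))) hinj
    exact isReduced_of_injective _ hinj2

end Main

end Groth.Agent.Lib.Helper28.GeomRed
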