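import Mathlib
import Groth.Agent.Lib.Helper28GeomRed3
import Groth.Agent.Lib.Helper28GeomFibre3
import Groth.Agent.Lib.Helper28GeomFibre5

set_option autoImplicit false
set_option linter.unusedSectionVars false
set_option linter.style.haveILetI false
set_option linter.deprecated false
universe u
open Polynomial IsLocalRing TensorProduct

namespace Groth.Agent.Lib.Helper28.GeomRed

section Fibres

variable (R : Type u) [CommRing R] [IsNoetherianRing R] [IsLocalRing R]
  [IsAdicComplete (maximalIdeal R) R]
  (S : Type u) [CommRing S] [IsNoetherianRing S] [Algebra R S] [Module.Flat R S]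

/-- **Theorem C (reduced case)**: over a complete local ring, if the closed fibre of a flat
Noetherian algebra (with `𝔪 S ⊆ rad S`) is geometrically reduced, so are all fibres. -/
theorem isReduced_tensor_of_finite_residueField
    (hrad : (maximalIdeal R).map (algebraMap R S) ≤ Ideal.jacobson ⊥)
    (h0 : ∀ (F : Type u) [Field F] [Algebra R F] [Module.Finite R F], IsReduced (F ⊗[R] S))
    (p : Ideal R) [p.IsPrime] (F : Type u) [Field F] [Algebra p.ResidueField F]
    [Module.Finite p.ResidueField F] [Algebra R F] [IsScalarTower R p.ResidueField F] :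
    IsReduced (F ⊗[R] S) := by
  letI : Algebra (R ⧸ p) F :=
    ((algebraMap p.ResidueField F).comp (algebraMap (R ⧸ p) p.ResidueField)).toAlgebra
  haveI : IsScalarTower (R ⧸ p) p.ResidueField F := IsScalarTower.of_algebraMap_eq' rfl
  haveI : IsScalarTower R (R ⧸ p) F := by
    refine IsScalarTower.of_algebraMap_eq fun x => ?_
    rw [IsScalarTower.algebraMap_apply R p.ResidueField F,
      IsScalarTower.algebraMap_apply (R ⧸ p) p.ResidueField F,
      ← IsScalarTower.algebraMap_apply R (R ⧸ p) p.ResidueField]
  have hNag : CAlg.IsNagata R := isNagata_of_isAdicComplete_local R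
  have hN2 : CAlg.IsN2 (R ⧸ p) := hNag.2 p
  haveI hfin : Module.Finite (R ⧸ p) (integralClosure (R ⧸ p) F) :=
    Groth.Agent.Lib.Helper14.IsN2.finite hN2 p.ResidueField F
  haveI : Module.Finite R (integralClosure (R ⧸ p) F) := Module.Finite.trans (R ⧸ p) _
  haveI : IsFractionRing (integralClosure (R ⧸ p) F) F :=
    integralClosure.isFractionRing_of_finite_extension p.ResidueField F
  have h1 : IsReduced ((integralClosure (R ⧸ p) F) ⊗[R] S) :=
    isReduced_tensor_of_finite_of_isDomain R S hrad h0 _
  exact isReduced_tensor_of_isLocalization R S (integralClosure (R ⧸ p) F) F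
    (nonZeroDivisors (integralClosure (R ⧸ p) F)) h1

theorem isGeometricallyReduced_fiber
    (hrad : (maximalIdeal R).map (algebraMap R S) ≤ Ideal.jacobson ⊥)
    (h0 : ∀ (F : Type u) [Field F] [Algebra R F] [Module.Finite R F], IsReduced (F ⊗[R] S))
    (p : Ideal R) [p.IsPrime] : Algebra.IsGeometricallyReduced p.ResidueField (p.Fiber S) := by
  apply isGeometricallyReduced_of_forall_finite
  intro F _ _ hfin
  letI : Algebra R F := ((algebraMap p.ResidueField F).comp (algebraMap R p.ResidueField)).toAlgebra
  haveI : IsScalarTower R p.ResidueField F := IsScalarTower.of_algebraMap_eq' rfl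
  have h1 : IsReduced (F ⊗[R] S) := isReduced_tensor_of_finite_residueField R S hrad h0 p F
  have h2 : IsReduced (S ⊗[R] F) :=
    isReduced_of_injective (Algebra.TensorProduct.comm R S F) (AlgEquiv.injective _)
  exact isReduced_of_injective (tensorFiberEquiv R S p F).symm (RingEquiv.injective _)

end Fibres

section ClosedFibre

/-- the closed-fibre hypothesis, from Mathlib's geometric reducedness of the closed fibre. -/
theorem isReduced_tensor_of_closedFibre (A B : Type u) [CommRing A] [IsLocalRing A] [CommRing B]
    [Algebra A B]
    (h : Algebra.IsGeometricallyReduced (maximalIdeal A).ResidueField ((maximalIdeal A).Fiber B))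
    (F : Type u) [Field F] [Algebra A F] [Module.Finite A F] : IsReduced (F ⊗[A] B) := by
  haveI : Algebra.IsIntegral A F := Algebra.IsIntegral.of_finite A F
  have hker : RingHom.ker (algebraMap A F) = maximalIdeal A := by
    have h1 : ((⊥ : Ideal F).comap (algebraMap A F)).IsMaximal :=
      Ideal.isMaximal_comap_of_isIntegral_of_isMaximal (R := A) (⊥ : Ideal F)
    exact IsLocalRing.eq_maximalIdeal h1
  let φ : (maximalIdeal A).ResidueField →+* F :=
    Ideal.ResidueField.lift (maximalIdeal A) (algebraMap A F) hker.ge (by
      intro x hx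
      have hx' : IsUnit x := by
        by_contra hnu
        exact hx ((IsLocalRing.mem_maximalIdeal x).mpr hnu)
      exact hx'.map (algebraMap A F))
  letI : Algebra (maximalIdeal A).ResidueField F := φ.toAlgebra
  haveI : IsScalarTower A (maximalIdeal A).ResidueField F :=
    IsScalarTower.of_algebraMap_eq fun x =>
      (Ideal.ResidueField.lift_algebraMap (maximalIdeal A) (algebraMap A F) _ _ x).symm
  haveI : Module.Finite (maximalIdeal A).ResidueField F :=
    Module.Finite.of_restrictScalars_finite A _ F
  haveI : Algebra.IsAlgebraic (maximalIdeal A).ResidueField F := Algebra.IsAlgebraic.of_finite _ _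
  have h1 : IsReduced (F ⊗[(maximalIdeal A).ResidueField] ((maximalIdeal A).Fiber B)) :=
    inferInstance
  have h2 : IsReduced (B ⊗[A] F) :=
    isReduced_of_injective (tensorFiberEquiv A B (maximalIdeal A) F) (RingEquiv.injective _)
  exact isReduced_of_injective (Algebra.TensorProduct.comm A F B) (AlgEquiv.injective _)

end ClosedFibre

end Groth.Agent.Lib.Helper28.GeomRed
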