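import Mathlib
import Groth.Agent.Lib.Helper28GeomRed4
import Groth.Agent.Lib.Helper28IAdicLocal

set_option autoImplicit false
set_option linter.unusedSectionVars false
set_option linter.style.haveILetI false
set_option linter.deprecated false
universe u
open Polynomial IsLocalRing TensorProduct

namespace Groth.Agent.Lib.Helper28.GeomRed

section Compat

variable {A A' : Type u} [CommRing A] [CommRing A'] [Algebra A A'] (I : Ideal A)
  (hdense : ∀ x : A', ∃ a : A, x - algebraMap A A' a ∈ I.map (algebraMap A A'))
  (F : Type u) [CommRing F] [Algebra A' F] [Algebra A F] [IsScalarTower A A' F]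
  (hF : I.map (algebraMap A A') ≤ RingHom.ker (algebraMap A' F))

include hdense hF in
theorem exists_smul_eq_of_dense (r : A') (f : F) : ∃ a : A, r • f = a • f ∧
    r - algebraMap A A' a ∈ I.map (algebraMap A A') := by
  obtain ⟨a, ha⟩ := hdense r
  refine ⟨a, ?_, ha⟩
  have h1 : algebraMap A' F (r - algebraMap A A' a) = 0 := hF ha
  rw [map_sub, sub_eq_zero] at h1
  rw [Algebra.smul_def, Algebra.smul_def, IsScalarTower.algebraMap_apply A A' F, h1]

include hdense hF in
theorem compatibleSMul_of_dense (M : Type u) [AddCommGroup M] [Module A' M] [Module A M]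
    [IsScalarTower A A' M] : TensorProduct.CompatibleSMul A A' F M := by
  refine ⟨fun r f m => ?_⟩
  have key : ∀ j ∈ I.map (algebraMap A A'), ∀ m : M, f ⊗ₜ[A] (j • m) = 0 := by
    intro j hj
    induction hj using Submodule.span_induction with
    | mem x hx =>
      obtain ⟨i, hi, rfl⟩ := hx
      intro m
      rw [algebraMap_smul, ← TensorProduct.smul_tmul]
      have h0 : i • f = 0 := by
        have := hF (Ideal.mem_map_of_mem _ hi)
        rw [RingHom.mem_ker] at this
        rw [Algebra.smul_def, IsScalarTower.algebraMap_apply A A' F, this, zero_mul]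
      rw [h0, zero_tmul]
    | zero => intro m; rw [zero_smul, tmul_zero]
    | add x y _ _ hx hy => intro m; rw [add_smul, tmul_add, hx, hy, add_zero]
    | smul c x _ hx => intro m; rw [smul_eq_mul, mul_comm, mul_smul]; exact hx (c • m)
  obtain ⟨a, h1, ha⟩ := exists_smul_eq_of_dense I hdense F hF r f
  have h2 : r • m = a • m + (r - algebraMap A A' a) • m := by
    rw [sub_smul, algebraMap_smul]; abel
  rw [h1, h2, tmul_add, key _ ha, add_zero, TensorProduct.smul_tmul]

include hdense hF in
theorem finite_of_dense [Module.Finite A' F] : Module.Finite A F := by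
  obtain ⟨s, hs⟩ := Module.Finite.fg_top (R := A') (M := F)
  refine ⟨⟨s, ?_⟩⟩
  rw [eq_top_iff]
  intro x _
  have hx : x ∈ Submodule.span A' (s : Set F) := hs ▸ Submodule.mem_top
  induction hx using Submodule.span_induction with
  | mem x h => exact Submodule.subset_span h
  | zero => exact zero_mem _
  | add x y _ _ hx hy => exact add_mem (hx trivial) (hy trivial)
  | smul r x _ hx =>
    obtain ⟨a, ha, -⟩ := exists_smul_eq_of_dense I hdense F hF r x
    rw [ha]
    exact Submodule.smul_mem _ a (hx trivial)

end Compat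

section Cpl

variable (A : Type u) [CommRing A] [IsNoetherianRing A] [IsLocalRing A]

/-- the closed fibre hypothesis for `Â → B'` from that of `A → B'`. -/
theorem isReduced_tensor_cpl_of_closedFibre (B' : Type u) [CommRing B'] [Algebra A B']
    [Algebra (EGA4.Cpl A) B'] [IsScalarTower A (EGA4.Cpl A) B']
    (h : Algebra.IsGeometricallyReduced (maximalIdeal A).ResidueField ((maximalIdeal A).Fiber B'))
    (F : Type u) [Field F] [Algebra (EGA4.Cpl A) F] [Module.Finite (EGA4.Cpl A) F] :
    IsReduced (F ⊗[EGA4.Cpl A] B') := by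
  letI : Algebra A F := ((algebraMap (EGA4.Cpl A) F).comp (algebraMap A (EGA4.Cpl A))).toAlgebra
  haveI : IsScalarTower A (EGA4.Cpl A) F := IsScalarTower.of_algebraMap_eq' rfl
  haveI : Algebra.IsIntegral (EGA4.Cpl A) F := Algebra.IsIntegral.of_finite _ F
  have hmax : (RingHom.ker (algebraMap (EGA4.Cpl A) F)).IsMaximal :=
    Ideal.isMaximal_comap_of_isIntegral_of_isMaximal (R := EGA4.Cpl A) (⊥ : Ideal F)
  have hF : (maximalIdeal A).map (algebraMap A (EGA4.Cpl A)) ≤
      RingHom.ker (algebraMap (EGA4.Cpl A) F) :=
    map_le_of_isMaximal_adicCompletion (maximalIdeal A) _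
  have hdense := exists_sub_mem_map_adicCompletion (A := A) (maximalIdeal A)
  haveI : Module.Finite A F := finite_of_dense (maximalIdeal A) hdense F hF
  have h1 : IsReduced (F ⊗[A] B') := isReduced_tensor_of_closedFibre A B' h F
  haveI : TensorProduct.CompatibleSMul A (EGA4.Cpl A) F B' :=
    compatibleSMul_of_dense (maximalIdeal A) hdense F hF B'
  let e : F ⊗[EGA4.Cpl A] B' ≃ₐ[F] F ⊗[A] B' :=
    Algebra.TensorProduct.equivOfCompatibleSMul A (EGA4.Cpl A) F F B'
  exact isReduced_of_injective e e.injective

end Cpl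

section Red

theorem red_equiv (R S : Type u) [CommRing R] [CommRing S] (e : R ≃+* S) (h : IsReduced R) :
    IsReduced S :=
  isReduced_of_injective e.symm e.symm.injective

theorem red_desc (R' T : Type u) [CommRing R'] [CommRing T] [Algebra R' T]
      [Module.FaithfullyFlat R' T] [IsNoetherianRing R'] [IsNoetherianRing T]
      (h : IsReduced T) : IsReduced R' :=
  isReduced_of_injective (algebraMap R' T) (FaithfulSMul.algebraMap_injective R' T)

theorem red_asc_gen {R S A : Type u} [CommRing R] [CommRing S] [CommRing A] [Algebra R S]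
    [Algebra R A] [Module.Flat R S] [Algebra.QuasiFinite R A] [IsNoetherianRing A]
    [IsNoetherianRing (A ⊗[R] S)]
    (hS : ∀ (q : Ideal R) [q.IsPrime], Algebra.IsGeometricallyReduced q.ResidueField (q.Fiber S))
    (h : IsReduced A) : IsReduced (A ⊗[R] S) := by
  refine isReduced_of_flat_of_forall_isReduced_fiber (A := A) (B := A ⊗[R] S) (fun P _ => ?_)
  have h1 := tensor_fiber_tensorProduct_of_property (R := R) (S := S) (A := A)
    (fun T _ => IsReduced T) red_equiv
    P P.ResidueField (fun k' _ _ hk' => by
      have := hS (P.under R)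
      have : Algebra.IsAlgebraic (P.under R).ResidueField k' :=
        Algebra.IsAlgebraic.of_finite _ _
      infer_instance)
  exact isReduced_of_injective
    (Algebra.TensorProduct.lid P.ResidueField (P.Fiber (A ⊗[R] S))).symm
    (AlgEquiv.injective _)

end Red

section Final

variable (A B : Type u) [CommRing A] [CommRing B]
    [IsNoetherianRing A] [IsNoetherianRing B] [IsLocalRing A] [IsLocalRing B] [Algebra A B]
    [IsLocalHom (algebraMap A B)] [Module.Flat A B]

/-- EGA IV 7.x: flat local `A → B`, formal fibres of `A` geometrically reduced, closed fibre of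
`A → B̂` geometrically reduced: all fibres of `A → B` are geometrically reduced. -/
theorem isGeometricallyReduced_fiber_of_cpl_closedFibre
    (hA : EGA4.HasGeomReducedFormalFibres A)
    (h : Algebra.IsGeometricallyReduced (IsLocalRing.maximalIdeal A).ResidueField
      ((IsLocalRing.maximalIdeal A).Fiber (EGA4.Cpl B)))
    (p : Ideal A) [p.IsPrime] : Algebra.IsGeometricallyReduced p.ResidueField (p.Fiber B) := by
  obtain ⟨alg, htower, hloc, hflat⟩ := exists_algebra_adicCompletion_of_isLocalHom A B
  haveI hfl : Module.Flat (EGA4.Cpl A) (EGA4.Cpl B) := hflat inferInstance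
  haveI := isAdicComplete_maximalIdeal_adicCompletion A
  have hrad : (maximalIdeal (EGA4.Cpl A)).map (algebraMap (EGA4.Cpl A) (EGA4.Cpl B)) ≤
      Ideal.jacobson ⊥ := by
    rw [IsLocalRing.jacobson_eq_maximalIdeal ⊥ bot_ne_top]
    exact ((IsLocalRing.local_hom_TFAE (algebraMap (EGA4.Cpl A) (EGA4.Cpl B))).out 0 2).mp hloc
  have hfib : ∀ (P : Ideal (EGA4.Cpl A)) [P.IsPrime],
      Algebra.IsGeometricallyReduced P.ResidueField (P.Fiber (EGA4.Cpl B)) := fun P _ =>
    isGeometricallyReduced_fiber (EGA4.Cpl A) (EGA4.Cpl B) hrad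
      (fun F _ _ _ => isReduced_tensor_cpl_of_closedFibre A (EGA4.Cpl B) h F) P
  apply isGeometricallyReduced_of_forall_finite
  intro k' _ _ hfin
  have hN1 : IsNoetherianRing (p.Fiber B) := isNoetherianRing_fiber p
  have hN2 : IsNoetherianRing (p.Fiber (EGA4.Cpl B)) := isNoetherianRing_fiber p
  have hN3 : IsNoetherianRing (p.Fiber (EGA4.Cpl A)) := isNoetherianRing_fiber p
  have h0 : IsReduced (k' ⊗[p.ResidueField] (p.Fiber (EGA4.Cpl A))) := by
    have := hA p
    have : Algebra.IsAlgebraic p.ResidueField k' := Algebra.IsAlgebraic.of_finite _ _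
    infer_instance
  have h1 : IsReduced (k' ⊗[p.ResidueField] (p.Fiber (EGA4.Cpl B))) :=
    tensor_fiber_comp_of_property A (EGA4.Cpl A) (EGA4.Cpl B) p k' (fun T _ => IsReduced T)
      red_equiv (fun R' _ _ _ _ _ hR' => red_asc_gen hfib hR') h0
  haveI : Module.FaithfullyFlat B (EGA4.Cpl B) := faithfullyFlat_adicCompletion B
  exact tensor_fiber_descent_of_property A B (EGA4.Cpl B) p k' (fun T _ => IsReduced T)
    red_equiv red_desc h1

end Final

end Groth.Agent.Lib.Helper28.GeomRed
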