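import Mathlib
import Groth.Agent.Lib.Helper28CMFib4
import Groth.Agent.Lib.Helper28GeomRed5
import Groth.Agent.Lib.Helper5TensorFieldsCM

/-!
# Helper28CMFib5: Cohen–Macaulay fibres of flat local homomorphisms (EGA IV 7.5.2 for CM)

`cm_fibres_of_cpl_closedFibre`: `A → B` a flat local homomorphism of Noetherian local rings with
finite residue field extension; if the formal fibres of `A` are CM and the closed fibre of
`A → B̂` is CM, then all fibres of `A → B` are CM.
-/

set_option autoImplicit false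
universe u

namespace Groth.Agent.Lib.Helper28.CMFib
open Groth.Agent.Lib.Helper28 IsLocalRing TensorProduct

section ResFin

theorem resFin_of_finite_residueField (A B : Type u) [CommRing A] [CommRing B] [IsLocalRing A]
    [IsLocalRing B] [Algebra A B] [IsLocalHom (algebraMap A B)]
    [Module.Finite (ResidueField A) (ResidueField B)] : ResFin A B := by
  obtain ⟨s, g, hg⟩ := Module.Finite.exists_fin (R := ResidueField A) (M := ResidueField B)
  choose b hb using fun l => IsLocalRing.residue_surjective (g l)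
  refine ⟨s, b, fun x => ?_⟩
  have hx : residue B x ∈ Submodule.span (ResidueField A) (Set.range g) := by
    rw [hg]; trivial
  obtain ⟨c', hc'⟩ := (Submodule.mem_span_range_iff_exists_fun _).mp hx
  choose c hc using fun l => IsLocalRing.residue_surjective (c' l)
  refine ⟨c, ?_⟩
  rw [← IsLocalRing.residue_eq_zero_iff, map_sub, map_sum, sub_eq_zero, ← hc']
  refine Finset.sum_congr rfl fun l _ => ?_
  rw [Algebra.smul_def (c l) (b l), map_mul, hb, ← hc, Algebra.smul_def]
  rfl

theorem resFin_cpl (A B : Type u) [CommRing A] [CommRing B] [IsNoetherianRing A]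
    [IsNoetherianRing B] [IsLocalRing A] [IsLocalRing B] [Algebra A B]
    [Algebra (EGA4.Cpl A) (EGA4.Cpl B)] [IsScalarTower A (EGA4.Cpl A) (EGA4.Cpl B)]
    (h : ResFin A B) : ResFin (EGA4.Cpl A) (EGA4.Cpl B) := by
  obtain ⟨s, b, hb⟩ := h
  have hloc := isLocalHom_algebraMap_adicCompletion B
  refine ⟨s, fun l => algebraMap B (EGA4.Cpl B) (b l), fun xh => ?_⟩
  obtain ⟨x, hx⟩ := exists_sub_mem_map_adicCompletion (A := B) (maximalIdeal B) xh
  obtain ⟨c, hc⟩ := hb x
  refine ⟨fun l => algebraMap A (EGA4.Cpl A) (c l), ?_⟩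
  have h1 : xh - algebraMap B (EGA4.Cpl B) x ∈ maximalIdeal (EGA4.Cpl B) :=
    (IsLocalRing.map_maximalIdeal_le (algebraMap B (EGA4.Cpl B))) hx
  have h2 : algebraMap B (EGA4.Cpl B) (x - ∑ l, c l • b l) ∈ maximalIdeal (EGA4.Cpl B) :=
    (IsLocalRing.map_maximalIdeal_le (algebraMap B (EGA4.Cpl B))) (Ideal.mem_map_of_mem _ hc)
  have h3 : ∑ l, algebraMap A (EGA4.Cpl A) (c l) • algebraMap B (EGA4.Cpl B) (b l) =
      algebraMap B (EGA4.Cpl B) (∑ l, c l • b l) := by
    rw [map_sum]
    refine Finset.sum_congr rfl fun l _ => ?_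
    rw [algebraMap_smul, Algebra.smul_def, Algebra.smul_def, map_mul,
      IsScalarTower.algebraMap_apply A B (EGA4.Cpl B)]
  rw [h3]
  have h4 : xh - algebraMap B (EGA4.Cpl B) (∑ l, c l • b l) =
      (xh - algebraMap B (EGA4.Cpl B) x) + algebraMap B (EGA4.Cpl B) (x - ∑ l, c l • b l) := by
    rw [map_sub]; ring
  rw [h4]
  exact Ideal.add_mem _ h1 h2

end ResFin

section Closed

theorem cm_closedFibre_cpl (A C : Type u) [CommRing A] [IsNoetherianRing A] [IsLocalRing A]
    [CommRing C] [IsNoetherianRing C] [Algebra A C] [Algebra (EGA4.Cpl A) C]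
    [IsScalarTower A (EGA4.Cpl A) C]
    (h : LocCoh.IsCohenMacaulayRing ((maximalIdeal A).Fiber C)) :
    LocCoh.IsCohenMacaulayRing ((maximalIdeal (EGA4.Cpl A)).Fiber C) := by
  have key : ∀ (R S : Type u) [CommRing R] [CommRing S], (R ≃+* S) →
      LocCoh.IsCohenMacaulayLocalRing R → LocCoh.IsCohenMacaulayLocalRing S :=
    fun R S _ _ e h => isCohenMacaulayLocalRing_of_ringEquiv e
  have hloc := isLocalHom_algebraMap_adicCompletion A
  rw [isCohenMacaulayRing_fiber_iff] at h ⊢
  intro q hq hqm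
  have hqA : q.comap (algebraMap A C) = maximalIdeal A := by
    rw [IsScalarTower.algebraMap_eq A (EGA4.Cpl A) C, ← Ideal.comap_comap, hqm]
    exact IsLocalRing.maximalIdeal_comap (algebraMap A (EGA4.Cpl A))
  have h1 := h q hqA
  have htower : IsScalarTower A (EGA4.Cpl A) (Localization.AtPrime q) :=
    IsScalarTower.of_algebraMap_eq (fun a => by
      rw [IsScalarTower.algebraMap_apply A C (Localization.AtPrime q),
        IsScalarTower.algebraMap_apply (EGA4.Cpl A) C (Localization.AtPrime q),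
        ← IsScalarTower.algebraMap_apply A (EGA4.Cpl A) C])
  have hI : (q.comap (algebraMap A C)).map (algebraMap A (Localization.AtPrime q)) =
      (q.comap (algebraMap (EGA4.Cpl A) C)).map
        (algebraMap (EGA4.Cpl A) (Localization.AtPrime q)) := by
    rw [hqA, hqm, AdicCompletion.maximalIdeal_eq_map, Ideal.map_map,
      ← IsScalarTower.algebraMap_eq]
  exact key _ _ (Ideal.quotEquivOfEq hI) h1

end Closed

section Geom

theorem cm_tensor_of_finite (k R K : Type u) [Field k] [CommRing R] [Algebra k R] [Field K]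
    [Algebra k K] [Module.Finite k K] (h : LocCoh.IsCohenMacaulayRing R) :
    LocCoh.IsCohenMacaulayRing (K ⊗[k] R) := by
  have h1 : LocCoh.IsCohenMacaulayRing (R ⊗[k] K) :=
    Groth.Agent.Lib.Helper5.TensorFieldsCM.isCohenMacaulayRing_of_finite_flat R (R ⊗[k] K)
  exact isCohenMacaulayRing_of_ringEquiv (Algebra.TensorProduct.comm k R K).toRingEquiv

end Geom


section Final

variable (A B : Type u) [CommRing A] [CommRing B]
    [IsNoetherianRing A] [IsNoetherianRing B] [IsLocalRing A] [IsLocalRing B] [Algebra A B]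
    [IsLocalHom (algebraMap A B)] [Module.Flat A B]

theorem cm_fibres_of_cpl_closedFibre (hres : ResFin A B) (hA : EGA4.HasCMFormalFibres A)
    (h : LocCoh.IsCohenMacaulayRing ((maximalIdeal A).Fiber (EGA4.Cpl B)))
    (p : Ideal A) [p.IsPrime] : LocCoh.IsCohenMacaulayRing (p.Fiber B) := by
  obtain ⟨alg, htower, hloc, hflat⟩ := exists_algebra_adicCompletion_of_isLocalHom A B
  have hfl : Module.Flat (EGA4.Cpl A) (EGA4.Cpl B) := hflat inferInstance
  have hcomp := isAdicComplete_maximalIdeal_adicCompletion A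
  have hcl : LocCoh.IsCohenMacaulayRing ((maximalIdeal (EGA4.Cpl A)).Fiber (EGA4.Cpl B)) :=
    cm_closedFibre_cpl A (EGA4.Cpl B) h
  have hres' : ResFin (EGA4.Cpl A) (EGA4.Cpl B) := resFin_cpl A B hres
  have hfib : ∀ (P : Ideal (EGA4.Cpl A)) [P.IsPrime],
      LocCoh.IsCohenMacaulayRing (P.Fiber (EGA4.Cpl B)) := fun P _ =>
    isCohenMacaulayRing_fiber_of_isAdicComplete (EGA4.Cpl A) (EGA4.Cpl B) hres' hcl P
  have hffA : Module.FaithfullyFlat A (EGA4.Cpl A) := faithfullyFlat_adicCompletion A
  have h1 := isCohenMacaulayRing_fiber_comp A (EGA4.Cpl A) (EGA4.Cpl B) hA hfib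
  have hffB : Module.FaithfullyFlat B (EGA4.Cpl B) := faithfullyFlat_adicCompletion B
  have hflAB : Module.Flat A (EGA4.Cpl B) := h1.1
  exact (isCohenMacaulayRing_fiber_descent A B (EGA4.Cpl B) h1.2).2 p

end Final

end Groth.Agent.Lib.Helper28.CMFib
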