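import Mathlib
import Groth.Agent.Lib.Helper28CMFib5
import Groth.Agent.Lib.Helper5FlatCMFibres
import Groth.Agent.Lib.Helper7PolyGRing2
import Groth.Agent.Lib.Helper7ExcLoc
import Groth.Agent.Lib.Helper7PsGRing
import Groth.Agent.S4744

/-!
# Helper28CMFib6: Cohen–Macaulay formal fibres pass to local rings essentially of finite type

* `cm_tensor_of_essFiniteType`: CM algebras over a field stay CM after f.g. field base change;
* `nonempty_fibLocRing_localization_equiv`: fibre local rings of `B → M⁻¹T`;
* `isGRing_of_essFiniteType`;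
* `hasCMFormalFibres_of_essFiniteType` (EGA IV 7.4.4 for the property Cohen–Macaulay).
-/

set_option autoImplicit false
universe u

namespace Groth.Agent.Lib.Helper28.CMFib
open Groth.Agent.Lib.Helper28 IsLocalRing TensorProduct

/-- A Cohen–Macaulay algebra over a field stays Cohen–Macaulay after base change to a finitely
generated field extension. -/
theorem cm_tensor_of_essFiniteType (k F K : Type u) [Field k] [CommRing F] [Algebra k F] [Field K]
    [Algebra k K] [Algebra.EssFiniteType k K] (hF : LocCoh.IsCohenMacaulayRing F) :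
    LocCoh.IsCohenMacaulayRing (F ⊗[k] K) := by
  have hN : IsNoetherianRing (F ⊗[k] K) := Algebra.EssFiniteType.isNoetherianRing F _
  refine { isCohenMacaulayLocalRing_localization := fun Q hQ => ?_ }
  have hFib := Groth.Agent.Lib.Helper5.FlatCMFibres.cm_fibres_baseChange_field k F K
    (Or.inr inferInstance) Q
  have hloc : IsLocalRing (EGA4.FibLocRing F (F ⊗[k] K) Q) := hFib.toIsLocalRing
  refine isCohenMacaulayLocalRing_localization_of_fibLocRing (A := F) Q
    (hF.isCohenMacaulayLocalRing_localization _) ?_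
  have h1 := hFib.supportDim_eq_depth
  rwa [Module.supportDim_self_eq_ringKrullDim] at h1

section FibLoc

variable (B T : Type u) [CommRing B] [CommRing T] [Algebra B T] (M : Submonoid T)
  (S : Type u) [CommRing S] [Algebra T S] [IsLocalization M S] [Algebra B S] [IsScalarTower B T S]

include M in
/-- The fibre local rings of `B → M⁻¹T` are fibre local rings of `B → T`. -/
theorem nonempty_fibLocRing_localization_equiv (Q : Ideal S) [Q.IsPrime] :
    Nonempty (EGA4.FibLocRing B T (Q.comap (algebraMap T S)) ≃+* EGA4.FibLocRing B S Q) := by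
  have hloc : IsLocalization.AtPrime (Localization.AtPrime Q) (Q.comap (algebraMap T S)) :=
    IsLocalization.isLocalization_isLocalization_atPrime_isLocalization M _ Q
  have htow : IsScalarTower B T (Localization.AtPrime Q) :=
    IsScalarTower.of_algebraMap_eq (fun b => by
      rw [IsScalarTower.algebraMap_apply B S (Localization.AtPrime Q),
        IsScalarTower.algebraMap_apply T S (Localization.AtPrime Q),
        ← IsScalarTower.algebraMap_apply B T S])
  let e : Localization.AtPrime (Q.comap (algebraMap T S)) ≃ₐ[T] Localization.AtPrime Q :=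
    IsLocalization.algEquiv (Q.comap (algebraMap T S)).primeCompl _ _
  have hcomap : (Q.comap (algebraMap T S)).comap (algebraMap B T) = Q.comap (algebraMap B S) := by
    rw [Ideal.comap_comap, ← IsScalarTower.algebraMap_eq]
  refine ⟨Ideal.quotientEquiv _ _ e.toRingEquiv ?_⟩
  rw [hcomap]
  change _ = Ideal.map (e : Localization.AtPrime (Q.comap (algebraMap T S)) →+*
    Localization.AtPrime Q) _
  rw [Ideal.map_map]
  congr 1
  ext b
  rw [RingHom.comp_apply]
  rw [IsScalarTower.algebraMap_apply B T (Localization.AtPrime (Q.comap (algebraMap T S))),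
    IsScalarTower.algebraMap_apply B T (Localization.AtPrime Q)]
  exact (e.commutes _).symm

end FibLoc

/-- An algebra essentially of finite type over a G-ring is a G-ring. -/
theorem isGRing_of_essFiniteType (R : Type u) [CommRing R] (hR : CAlg.IsGRing R) (S : Type u)
    [CommRing S] [Algebra R S] [Algebra.EssFiniteType R S] : CAlg.IsGRing S := by
  have h1 : CAlg.IsGRing (Algebra.EssFiniteType.subalgebra R S) :=
    Groth.Agent.Lib.Helper7.PolyGRing2.isGRing_of_finiteType R hR _
  have h2 := Groth.Agent.Lib.Helper7.ExcLoc.isGRing_localization _ h1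
    (Algebra.EssFiniteType.submonoid R S)
  exact Groth.Agent.Lib.Helper7.PolyGRing2.isGRing_of_ringEquiv
    (IsLocalization.algEquiv (Algebra.EssFiniteType.submonoid R S)
      (Localization (Algebra.EssFiniteType.submonoid R S)) S).toRingEquiv h2

/-- **EGA IV 7.4.4 for Cohen–Macaulay**: Cohen–Macaulay formal fibres pass to local rings
essentially of finite type. -/
theorem hasCMFormalFibres_of_essFiniteType (A : Type u) [CommRing A] [IsNoetherianRing A]
    [IsLocalRing A] (hA : EGA4.HasCMFormalFibres A) (B : Type u) [CommRing B] [IsNoetherianRing B]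
    [IsLocalRing B] [Algebra A B] [Algebra.EssFiniteType A B] : EGA4.HasCMFormalFibres B := by
  have key : ∀ (R S : Type u) [CommRing R] [CommRing S], (R ≃+* S) →
      LocCoh.IsCohenMacaulayLocalRing R → LocCoh.IsCohenMacaulayLocalRing S :=
    fun R S _ _ e h => isCohenMacaulayLocalRing_of_ringEquiv e
  have hcomp := isAdicComplete_maximalIdeal_adicCompletion A
  have hGA : CAlg.IsGRing (EGA4.Cpl A) :=
    Groth.Agent.Lib.Helper7.PsGRing.isGRing_of_isAdicComplete_local (EGA4.Cpl A)
  have hGT' : CAlg.IsGRing (EGA4.Cpl A ⊗[A] B) := isGRing_of_essFiniteType (EGA4.Cpl A) hGA _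
  have hGT : CAlg.IsGRing (B ⊗[A] EGA4.Cpl A) :=
    Groth.Agent.Lib.Helper7.PolyGRing2.isGRing_of_ringEquiv
      (Algebra.TensorProduct.comm A (EGA4.Cpl A) B).toRingEquiv hGT'
  have hNT : IsNoetherianRing (B ⊗[A] EGA4.Cpl A) := hGT.1
  have hffA : Module.FaithfullyFlat A (EGA4.Cpl A) := faithfullyFlat_adicCompletion A
  have hffT : Module.FaithfullyFlat B (B ⊗[A] EGA4.Cpl A) := inferInstance
  have hfibT : ∀ (Q : Ideal B) [Q.IsPrime],
      LocCoh.IsCohenMacaulayRing (Q.Fiber (B ⊗[A] EGA4.Cpl A)) := by
    intro Q _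
    let P := Q.under A
    let _ := Localization.AtPrime.algebraOfLiesOver P Q
    let e : Q.Fiber (B ⊗[A] EGA4.Cpl A) ≃ₐ[Q.ResidueField]
        Q.ResidueField ⊗[P.ResidueField] (P.Fiber (EGA4.Cpl A)) :=
      (Algebra.TensorProduct.cancelBaseChange _ _ _ _ _).trans
        (Algebra.TensorProduct.cancelBaseChange _ _ _ _ _).symm
    have hess : Algebra.EssFiniteType P.ResidueField Q.ResidueField := inferInstance
    have h1 : LocCoh.IsCohenMacaulayRing
        ((P.Fiber (EGA4.Cpl A)) ⊗[P.ResidueField] Q.ResidueField) :=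
      cm_tensor_of_essFiniteType _ _ _ (hA P)
    exact cm_equiv _ _ ((Algebra.TensorProduct.comm P.ResidueField (P.Fiber (EGA4.Cpl A))
      Q.ResidueField).toRingEquiv.trans e.symm.toRingEquiv) h1
  obtain ⟨N, hN⟩ := PrimeSpectrum.comap_surjective_of_faithfullyFlat (A := B)
    (B := B ⊗[A] EGA4.Cpl A) ⟨maximalIdeal B, inferInstance⟩
  have hn : N.asIdeal.comap (algebraMap B (B ⊗[A] EGA4.Cpl A)) = maximalIdeal B :=
    congrArg PrimeSpectrum.asIdeal hN
  have hNTn : IsNoetherianRing (Localization.AtPrime N.asIdeal) :=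
    IsLocalization.isNoetherianRing N.asIdeal.primeCompl _ inferInstance
  have hflat : Module.Flat B (Localization.AtPrime N.asIdeal) :=
    Module.Flat.trans B (B ⊗[A] EGA4.Cpl A) _
  have hloc : IsLocalHom (algebraMap B (Localization.AtPrime N.asIdeal)) := by
    apply ((IsLocalRing.local_hom_TFAE (algebraMap B (Localization.AtPrime N.asIdeal))).out 0 3).mpr
    intro b hb
    rw [Ideal.mem_comap, IsScalarTower.algebraMap_apply B (B ⊗[A] EGA4.Cpl A)
      (Localization.AtPrime N.asIdeal), IsLocalization.AtPrime.to_map_mem_maximal_iff _ N.asIdeal]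
    rw [← hn] at hb
    exact hb
  have hfibTn : ∀ (Q : Ideal B) [Q.IsPrime],
      LocCoh.IsCohenMacaulayRing (Q.Fiber (Localization.AtPrime N.asIdeal)) := by
    rw [forall_isCohenMacaulayRing_fiber_iff] at hfibT
    have h2 : ∀ (Q'' : Ideal (Localization.AtPrime N.asIdeal)) [Q''.IsPrime],
        LocCoh.IsCohenMacaulayLocalRing
          (EGA4.FibLocRing B (Localization.AtPrime N.asIdeal) Q'') := by
      intro Q'' _
      obtain ⟨e⟩ := nonempty_fibLocRing_localization_equiv B (B ⊗[A] EGA4.Cpl A)
        N.asIdeal.primeCompl (Localization.AtPrime N.asIdeal) Q''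
      exact key _ _ e (hfibT _)
    intro Q hQ
    exact (forall_isCohenMacaulayRing_fiber_iff (A := B)
      (B := Localization.AtPrime N.asIdeal)).mpr h2 Q
  exact Groth.Agent.S4744.result B (Localization.AtPrime N.asIdeal) hfibTn (hGT.2 N.asIdeal)

end Groth.Agent.Lib.Helper28.CMFib
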