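import Mathlib
import Groth.Agent.Lib.Helper28CMFib6
import Groth.Agent.Lib.Helper5TensorSk

/-!
# Helper28SFC1: `(S_n)` formal fibres pass to local rings essentially of finite type

* `hasSk_of_isCohenMacaulayRing`, `hasSk_tensor_of_essFiniteType`;
* `hasSnFormalFibres_of_hasSk_fibres_of_isRegularHom` (`(S_n)` analogue of S4744);
* `hasSnFormalFibres_of_essFiniteType` (EGA IV 7.4.4 for `(S_n)`).
-/

set_option autoImplicit false
universe u

namespace Groth.Agent.Lib.Helper28.SFC
open Groth.Agent.Lib.Helper28 IsLocalRing Groth.Agent.Lib.Helper28.CMFib TensorProduct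

/-- A Cohen–Macaulay ring satisfies `(S_n)` for all `n`. -/
theorem hasSk_of_isCohenMacaulayRing (n : ℕ) (R : Type u) [CommRing R]
    (h : LocCoh.IsCohenMacaulayRing R) : LocCoh.HasSk n R R := by
  have hN : IsNoetherianRing R := inferInstance
  rw [hasSk_self_iff_enat]
  intro p hp
  have h1 := (Groth.Agent.Lib.Helper5.CMLocusOpen.cm_iff_height_eq_depth p).mp
    (h.isCohenMacaulayLocalRing_localization p)
  rw [← h1]
  exact min_le_right _ _

/-- `(S_n)` is stable under base change to a finitely generated field extension. -/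
theorem hasSk_tensor_of_essFiniteType (n : ℕ) (k F K : Type u) [Field k] [CommRing F]
    [Algebra k F] [IsNoetherianRing F] [Field K] [Algebra k K] [Algebra.EssFiniteType k K]
    (hF : LocCoh.HasSk n F F) :
    ∃ (_ : IsNoetherianRing (F ⊗[k] K)), LocCoh.HasSk n (F ⊗[k] K) (F ⊗[k] K) := by
  have hN : IsNoetherianRing (F ⊗[k] K) := Algebra.EssFiniteType.isNoetherianRing F _
  exact ⟨hN, Groth.Agent.Lib.Helper5.TensorSk.hasSk_baseChange_field k F K
    (Or.inr inferInstance) n hF⟩

/-- `(S_n)` analogue of S4744: descent of `(S_n)` formal fibres along a flat local homomorphism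
with `(S_n)` fibres into a local ring with regular completion map. -/
theorem hasSnFormalFibres_of_hasSk_fibres_of_isRegularHom (n : ℕ) (A A' : Type u) [CommRing A]
    [CommRing A'] [IsNoetherianRing A] [IsNoetherianRing A'] [IsLocalRing A] [IsLocalRing A']
    [Algebra A A'] [IsLocalHom (algebraMap A A')] [Module.Flat A A']
    (hf : ∀ (p : Ideal A) [p.IsPrime], LocCoh.HasSk n (p.Fiber A') (p.Fiber A'))
    (hA' : CAlg.IsRegularHom A' (EGA4.Cpl A')) : EGA4.HasSnFormalFibres n A := by
  obtain ⟨alg, htower, hloc, hflat⟩ := exists_algebra_adicCompletion_of_isLocalHom A A'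
  have hfl := hflat inferInstance
  have hff : Module.FaithfullyFlat (EGA4.Cpl A) (EGA4.Cpl A') :=
    Module.FaithfullyFlat.of_flat_of_isLocalHom
  have h1 : ∀ (q : Ideal A') [q.IsPrime],
      LocCoh.HasSk n (q.Fiber (EGA4.Cpl A')) (q.Fiber (EGA4.Cpl A')) := by
    intro q _
    obtain ⟨hN, hreg⟩ := hA'.2 q
    have h2 := hreg q.ResidueField (Module.Finite.self _)
    have h3 : IsRegularRing (q.Fiber (EGA4.Cpl A')) :=
      IsRegularRing.of_ringEquiv (R := TensorProduct q.ResidueField q.ResidueField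
        (q.Fiber (EGA4.Cpl A')))
        (Algebra.TensorProduct.lid q.ResidueField (q.Fiber (EGA4.Cpl A'))).toRingEquiv
    exact hasSk_of_isCohenMacaulayRing n _
      ⟨fun P _ => Groth.Agent.Lib.Helper5.isCohenMacaulayLocalRing_of_isRegularLocalRing _⟩
  have h2 := hasSk_fiber_comp A A' (EGA4.Cpl A') n hf h1
  have := h2.1
  exact (hasSk_fiber_descent A (EGA4.Cpl A) (EGA4.Cpl A') n h2.2).2

/-- **EGA IV 7.4.4 for `(S_n)`**: `(S_n)` formal fibres pass to local rings essentially of finite
type. -/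
theorem hasSnFormalFibres_of_essFiniteType (n : ℕ) (A : Type u) [CommRing A] [IsNoetherianRing A]
    [IsLocalRing A] (hA : EGA4.HasSnFormalFibres n A) (B : Type u) [CommRing B]
    [IsNoetherianRing B] [IsLocalRing B] [Algebra A B] [Algebra.EssFiniteType A B] :
    EGA4.HasSnFormalFibres n B := by
  have hcomp := isAdicComplete_maximalIdeal_adicCompletion A
  have hNA : IsNoetherianRing (EGA4.Cpl A) :=
    Groth.Agent.Lib.Helper19.isNoetherianRing_adicCompletion _
  have hGA : CAlg.IsGRing (EGA4.Cpl A) :=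
    Groth.Agent.Lib.Helper7.PsGRing.isGRing_of_isAdicComplete_local (EGA4.Cpl A)
  have hGT' : CAlg.IsGRing (EGA4.Cpl A ⊗[A] B) := isGRing_of_essFiniteType (EGA4.Cpl A) hGA _
  have hGT : CAlg.IsGRing (B ⊗[A] EGA4.Cpl A) :=
    Groth.Agent.Lib.Helper7.PolyGRing2.isGRing_of_ringEquiv
      (Algebra.TensorProduct.comm A (EGA4.Cpl A) B).toRingEquiv hGT'
  have hNT : IsNoetherianRing (B ⊗[A] EGA4.Cpl A) := hGT.1
  have hffA : Module.FaithfullyFlat A (EGA4.Cpl A) := faithfullyFlat_adicCompletion A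
  have hffT : Module.FaithfullyFlat B (B ⊗[A] EGA4.Cpl A) := inferInstance
  have hfibT : ∀ (Q : Ideal B) [Q.IsPrime],
      LocCoh.HasSk n (Q.Fiber (B ⊗[A] EGA4.Cpl A)) (Q.Fiber (B ⊗[A] EGA4.Cpl A)) := by
    intro Q _
    let P := Q.under A
    let _ := Localization.AtPrime.algebraOfLiesOver P Q
    let e : Q.Fiber (B ⊗[A] EGA4.Cpl A) ≃ₐ[Q.ResidueField]
        Q.ResidueField ⊗[P.ResidueField] (P.Fiber (EGA4.Cpl A)) :=
      (Algebra.TensorProduct.cancelBaseChange _ _ _ _ _).trans
        (Algebra.TensorProduct.cancelBaseChange _ _ _ _ _).symm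
    have hess : Algebra.EssFiniteType P.ResidueField Q.ResidueField := inferInstance
    have hN1 : IsNoetherianRing (P.Fiber (EGA4.Cpl A)) := isNoetherianRing_fiber P
    have hN3 : IsNoetherianRing (Q.Fiber (B ⊗[A] EGA4.Cpl A)) := isNoetherianRing_fiber Q
    obtain ⟨hN2, h1⟩ := hasSk_tensor_of_essFiniteType n P.ResidueField
      (P.Fiber (EGA4.Cpl A)) Q.ResidueField (hA P)
    exact Groth.Agent.Lib.Helper5.TensorSk.hasSk_self_of_ringEquiv
      ((Algebra.TensorProduct.comm P.ResidueField (P.Fiber (EGA4.Cpl A))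
        Q.ResidueField).toRingEquiv.trans e.symm.toRingEquiv) n h1
  obtain ⟨N, hN⟩ := PrimeSpectrum.comap_surjective_of_faithfullyFlat (A := B)
    (B := B ⊗[A] EGA4.Cpl A) ⟨maximalIdeal B, inferInstance⟩
  have hn : N.asIdeal.comap (algebraMap B (B ⊗[A] EGA4.Cpl A)) = maximalIdeal B :=
    congrArg PrimeSpectrum.asIdeal hN
  have hNTn : IsNoetherianRing (Localization.AtPrime N.asIdeal) :=
    IsLocalization.isNoetherianRing N.asIdeal.primeCompl _ inferInstance
  have hflat : Module.Flat B (Localization.AtPrime N.asIdeal) :=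
    Module.Flat.trans B (B ⊗[A] EGA4.Cpl A) _
  have hloc : IsLocalHom (algebraMap B (Localization.AtPrime N.asIdeal)) := by
    apply ((IsLocalRing.local_hom_TFAE (algebraMap B (Localization.AtPrime N.asIdeal))).out 0 3).mpr
    intro b hb
    rw [Ideal.mem_comap, IsScalarTower.algebraMap_apply B (B ⊗[A] EGA4.Cpl A)
      (Localization.AtPrime N.asIdeal), IsLocalization.AtPrime.to_map_mem_maximal_iff _ N.asIdeal]
    rw [← hn] at hb
    exact hb
  have hfibTn : ∀ (Q : Ideal B) [Q.IsPrime],
      LocCoh.HasSk n (Q.Fiber (Localization.AtPrime N.asIdeal))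
        (Q.Fiber (Localization.AtPrime N.asIdeal)) := by
    rw [forall_hasSk_fiber_iff] at hfibT
    have h2 : ∀ (Q'' : Ideal (Localization.AtPrime N.asIdeal)) [Q''.IsPrime],
        SnLocalRing n (EGA4.FibLocRing B (Localization.AtPrime N.asIdeal) Q'') := by
      intro Q'' _
      obtain ⟨e⟩ := nonempty_fibLocRing_localization_equiv B (B ⊗[A] EGA4.Cpl A)
        N.asIdeal.primeCompl (Localization.AtPrime N.asIdeal) Q''
      exact snLocalRing_of_ringEquiv n _ _ e (hfibT _)
    intro Q hQ
    exact (forall_hasSk_fiber_iff (A := B) (B := Localization.AtPrime N.asIdeal) n).mpr h2 Q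
  exact hasSnFormalFibres_of_hasSk_fibres_of_isRegularHom n B (Localization.AtPrime N.asIdeal)
    hfibTn (hGT.2 N.asIdeal)

end Groth.Agent.Lib.Helper28.SFC
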