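import Mathlib
import Groth.Agent.Lib.Helper14HFinA
import Groth.Agent.Lib.Helper14CplCutB
import Groth.Agent.Lib.Helper28SFC1
import Groth.Agent.S0376
import Groth.Agent.S11617

/-! # Finiteness of local cohomology below the cutoff: the local case (helper14)

For a universally catenary Noetherian local ring with Cohen–Macaulay formal fibres:
`finite_H_of_lt_cutoff_local` and `lt_cutoff_of_finite_local`, by passing to the completion. -/

set_option autoImplicit false
set_option linter.unusedVariables false
set_option linter.unusedSectionVars false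
set_option linter.style.haveILetI false
set_option maxHeartbeats 400000

universe u

open CategoryTheory TensorProduct

attribute [local instance] HasDerivedCategory.standard

namespace Groth.Agent.Lib.Helper14.HFin

open Groth.Agent.Lib.Helper28 Groth.Agent.Lib.Helper14.CplCut

section Local

variable (A : Type u) [CommRing A] [IsLocalRing A] [IsNoetherianRing A]
  (hA : CAlg.IsUniversallyCatenary A) (hF : EGA4.HasCMFormalFibres A) (I : Ideal A)
  (M : Type u) [AddCommGroup M] [Module A M] [Module.Finite A M]

include hF in
theorem hasSn_of_hasCM (n : ℕ) : EGA4.HasSnFormalFibres n A := fun p _ =>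
  SFC.hasSk_of_isCohenMacaulayRing n _ (hF p)

include hA hF in
theorem cutoff_adicCompletion_eq :
    Dual2.cutoff (AdicCompletion (IsLocalRing.maximalIdeal A) A)
        (I.map (algebraMap A (AdicCompletion (IsLocalRing.maximalIdeal A) A)))
        (AdicCompletion (IsLocalRing.maximalIdeal A) M) = Dual2.cutoff A I M := by
  apply le_antisymm (cutoff_adicCompletion_le A M hA I)
  by_cases htop : Dual2.cutoff A I M = ⊤
  · rw [htop, top_le_iff, ENat.eq_top_iff_forall_ge]
    intro n
    have h := min_le_cutoff_adicCompletion A M hA I n (hasSn_of_hasCM A hF n)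
    rw [htop, min_eq_left le_top] at h
    exact le_self_add.trans h
  · obtain ⟨n, hn⟩ := ENat.ne_top_iff_exists.mp htop
    have h := min_le_cutoff_adicCompletion A M hA I n (hasSn_of_hasCM A hF n)
    rw [← hn, min_eq_right le_self_add] at h
    rw [← hn]
    exact h

theorem finite_adicCompletion :
    Module.Finite (AdicCompletion (IsLocalRing.maximalIdeal A) A)
      (AdicCompletion (IsLocalRing.maximalIdeal A) M) :=
  Module.Finite.equiv
    (AdicCompletion.ofTensorProductEquivOfFiniteNoetherian (IsLocalRing.maximalIdeal A) M)

/-- finiteness of local cohomology can be tested after completion -/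
theorem finite_H_adicCompletion_iff (i : ℕ) :
    Module.Finite (AdicCompletion (IsLocalRing.maximalIdeal A) A)
        (LocCoh.H (I.map (algebraMap A (AdicCompletion (IsLocalRing.maximalIdeal A) A))) i
          (AdicCompletion (IsLocalRing.maximalIdeal A) M)) ↔
      Module.Finite A (LocCoh.H I i M) := by
  have hN : IsNoetherianRing (AdicCompletion (IsLocalRing.maximalIdeal A) A) :=
    Groth.Agent.Lib.Helper19.isNoetherianRing_adicCompletion _
  have hff := faithfullyFlat_adicCompletion A
  obtain ⟨e1⟩ := Groth.Agent.S11617.result A (AdicCompletion (IsLocalRing.maximalIdeal A) A) I M i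
  let e0 := AdicCompletion.ofTensorProductEquivOfFiniteNoetherian (IsLocalRing.maximalIdeal A) M
  let e2 : LocCoh.H (I.map (algebraMap A (AdicCompletion (IsLocalRing.maximalIdeal A) A))) i
      (AdicCompletion (IsLocalRing.maximalIdeal A) A ⊗[A] M) ≃ₗ[AdicCompletion
        (IsLocalRing.maximalIdeal A) A]
      LocCoh.H (I.map (algebraMap A (AdicCompletion (IsLocalRing.maximalIdeal A) A))) i
        (AdicCompletion (IsLocalRing.maximalIdeal A) M) :=
    ((localCohomology (I.map (algebraMap A (AdicCompletion (IsLocalRing.maximalIdeal A) A)))
      i).mapIso e0.toModuleIso).toLinearEquiv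
  constructor
  · intro h
    have h1 : Module.Finite (AdicCompletion (IsLocalRing.maximalIdeal A) A)
        (AdicCompletion (IsLocalRing.maximalIdeal A) A ⊗[A] LocCoh.H I i M) :=
      Module.Finite.equiv (e1.trans e2).symm
    exact Module.Finite.of_finite_tensorProduct_of_faithfullyFlat
      (AdicCompletion (IsLocalRing.maximalIdeal A) A)
  · intro h
    have h1 : Module.Finite (AdicCompletion (IsLocalRing.maximalIdeal A) A)
        (AdicCompletion (IsLocalRing.maximalIdeal A) A ⊗[A] LocCoh.H I i M) := inferInstance
    exact Module.Finite.equiv (e1.trans e2)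

include hA hF in
theorem finite_H_of_lt_cutoff_local (i : ℕ) (hi : (i : ℕ∞) < Dual2.cutoff A I M) :
    Module.Finite A (LocCoh.H I i M) := by
  have hN : IsNoetherianRing (AdicCompletion (IsLocalRing.maximalIdeal A) A) :=
    Groth.Agent.Lib.Helper19.isNoetherianRing_adicCompletion _
  have hc := isAdicComplete_maximalIdeal_adicCompletion A
  have hdc := Groth.Agent.S0376.result (AdicCompletion (IsLocalRing.maximalIdeal A) A)
  have hfin := finite_adicCompletion A M
  rw [← finite_H_adicCompletion_iff]
  refine finite_H_of_lt_cutoff hdc _ _ i ?_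
  rw [cutoff_adicCompletion_eq A hA hF]
  exact hi

include hA hF in
theorem lt_cutoff_of_finite_local (s : ℕ)
    (h : ∀ i : ℕ, i ≤ s → Module.Finite A (LocCoh.H I i M)) :
    (s : ℕ∞) < Dual2.cutoff A I M := by
  have hN : IsNoetherianRing (AdicCompletion (IsLocalRing.maximalIdeal A) A) :=
    Groth.Agent.Lib.Helper19.isNoetherianRing_adicCompletion _
  have hc := isAdicComplete_maximalIdeal_adicCompletion A
  have hdc := Groth.Agent.S0376.result (AdicCompletion (IsLocalRing.maximalIdeal A) A)
  have hfin := finite_adicCompletion A M
  rw [← cutoff_adicCompletion_eq A hA hF]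
  exact lt_cutoff_of_finite hdc _ _ s (fun i hi => (finite_H_adicCompletion_iff A I M i).mpr (h i hi))

end Local

end Groth.Agent.Lib.Helper14.HFin
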