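import Mathlib
import Groth.Agent.Lib.Helper14HFinB
import Groth.Agent.Lib.Helper29AdjDepthLoc

/-! # The cutoff `s_{A,I}(M)` under localization at a prime (helper14) -/

set_option autoImplicit false
set_option linter.unusedVariables false
set_option linter.unusedSectionVars false
set_option linter.style.haveILetI false
set_option maxHeartbeats 400000

universe u

open CategoryTheory TensorProduct

namespace Groth.Agent.Lib.Helper14.HFin

section LocCut

variable {A : Type u} [CommRing A] [IsNoetherianRing A] (𝔮 : Ideal A) [𝔮.IsPrime]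
  (M : Type u) [AddCommGroup M] [Module A M] [Module.Finite A M]

/-- a prime of `A_𝔮` contracts to a prime disjoint from the complement of `𝔮` -/
lemma disjoint_comap (Q' : PrimeSpectrum (Localization.AtPrime 𝔮)) :
    Disjoint (𝔮.primeCompl : Set A)
      ((PrimeSpectrum.comap (algebraMap A (Localization.AtPrime 𝔮)) Q').asIdeal : Set A) := by
  rw [Set.disjoint_left]
  intro s hs hsQ
  have hu : IsUnit (algebraMap A (Localization.AtPrime 𝔮) s) :=
    IsLocalization.map_units (Localization.AtPrime 𝔮) (⟨s, hs⟩ : 𝔮.primeCompl)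
  exact Q'.2.ne_top (Ideal.eq_top_of_isUnit_mem _ hsQ hu)

lemma map_comap_eq (Q' : PrimeSpectrum (Localization.AtPrime 𝔮)) :
    ((PrimeSpectrum.comap (algebraMap A (Localization.AtPrime 𝔮)) Q').asIdeal).map
      (algebraMap A (Localization.AtPrime 𝔮)) = Q'.asIdeal :=
  IsLocalization.map_under 𝔮.primeCompl _ Q'.asIdeal

/-- heights in `Spec A_𝔮` above a prime agree with the heights of the contractions -/
theorem height_comap_eq (P' Q' : PrimeSpectrum (Localization.AtPrime 𝔮)) (h : P' ≤ Q')
    (hpq : PrimeSpectrum.comap (algebraMap A (Localization.AtPrime 𝔮)) P' ≤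
      PrimeSpectrum.comap (algebraMap A (Localization.AtPrime 𝔮)) Q') :
    Order.height (⟨PrimeSpectrum.comap (algebraMap A (Localization.AtPrime 𝔮)) Q', hpq⟩ :
      Set.Ici (PrimeSpectrum.comap (algebraMap A (Localization.AtPrime 𝔮)) P')) =
    Order.height (⟨Q', h⟩ : Set.Ici P') := by
  have e : ((Order.height (⟨PrimeSpectrum.comap (algebraMap A (Localization.AtPrime 𝔮)) Q', hpq⟩ :
      Set.Ici (PrimeSpectrum.comap (algebraMap A (Localization.AtPrime 𝔮)) P')) : ℕ∞) :
        WithBot ℕ∞) = ((Order.height (⟨Q', h⟩ : Set.Ici P') : ℕ∞) : WithBot ℕ∞) := by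
    rw [Order.height_eq_krullDim_Iic, Order.height_eq_krullDim_Iic]
    apply le_antisymm
    · -- extension of primes
      have hdisj : ∀ r : PrimeSpectrum A,
          r ≤ PrimeSpectrum.comap (algebraMap A (Localization.AtPrime 𝔮)) Q' →
          Disjoint (𝔮.primeCompl : Set A) (r.asIdeal : Set A) := fun r hr =>
        (disjoint_comap 𝔮 Q').mono_right hr
      let g : Set.Iic (⟨PrimeSpectrum.comap (algebraMap A (Localization.AtPrime 𝔮)) Q', hpq⟩ :
          Set.Ici (PrimeSpectrum.comap (algebraMap A (Localization.AtPrime 𝔮)) P')) →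
          Set.Iic (⟨Q', h⟩ : Set.Ici P') := fun r =>
        ⟨⟨⟨r.1.1.asIdeal.map (algebraMap A (Localization.AtPrime 𝔮)),
          IsLocalization.isPrime_of_isPrime_disjoint 𝔮.primeCompl _ _ r.1.1.2
            (hdisj r.1.1 r.2)⟩, by
            show P'.asIdeal ≤ _
            rw [← map_comap_eq 𝔮 P']
            exact Ideal.map_mono r.1.2⟩, by
            show Ideal.map _ _ ≤ Q'.asIdeal
            rw [← map_comap_eq 𝔮 Q']
            exact Ideal.map_mono r.2⟩
      refine Order.krullDim_le_of_strictMono g ?_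
      intro r₁ r₂ hlt
      have hle : r₁.1.1.asIdeal ≤ r₂.1.1.asIdeal := hlt.le
      refine lt_of_le_of_ne (Ideal.map_mono hle : Ideal.map _ _ ≤ Ideal.map _ _) ?_
      intro heq
      have heq' : r₁.1.1.asIdeal.map (algebraMap A (Localization.AtPrime 𝔮)) =
          r₂.1.1.asIdeal.map (algebraMap A (Localization.AtPrime 𝔮)) := by
        have := congrArg (fun x : Set.Iic (⟨Q', h⟩ : Set.Ici P') => x.1.1.asIdeal) heq
        exact this
      have h1 := IsLocalization.under_map_of_isPrime_disjoint 𝔮.primeCompl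
        (Localization.AtPrime 𝔮) r₁.1.1.2 (hdisj r₁.1.1 r₁.2)
      have h2 := IsLocalization.under_map_of_isPrime_disjoint 𝔮.primeCompl
        (Localization.AtPrime 𝔮) r₂.1.1.2 (hdisj r₂.1.1 r₂.2)
      have h3 : r₁.1.1.asIdeal = r₂.1.1.asIdeal := by rw [← h1, ← h2, heq']
      exact hlt.ne (Subtype.ext (Subtype.ext (PrimeSpectrum.ext h3)))
    · let f : Set.Iic (⟨Q', h⟩ : Set.Ici P') →
          Set.Iic (⟨PrimeSpectrum.comap (algebraMap A (Localization.AtPrime 𝔮)) Q', hpq⟩ :
          Set.Ici (PrimeSpectrum.comap (algebraMap A (Localization.AtPrime 𝔮)) P')) := fun r =>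
        ⟨⟨PrimeSpectrum.comap (algebraMap A (Localization.AtPrime 𝔮)) r.1.1,
          Ideal.comap_mono (show P'.asIdeal ≤ r.1.1.asIdeal from r.1.2)⟩,
          Ideal.comap_mono (show r.1.1.asIdeal ≤ Q'.asIdeal from r.2)⟩
      refine Order.krullDim_le_of_strictMono f ?_
      intro r₁ r₂ hlt
      have hle : r₁.1.1.asIdeal ≤ r₂.1.1.asIdeal := hlt.le
      refine lt_of_le_of_ne (Ideal.comap_mono hle : Ideal.comap _ _ ≤ Ideal.comap _ _) ?_
      intro heq
      have heq' : (PrimeSpectrum.comap (algebraMap A (Localization.AtPrime 𝔮)) r₁.1.1).asIdeal =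
          (PrimeSpectrum.comap (algebraMap A (Localization.AtPrime 𝔮)) r₂.1.1).asIdeal := by
        have := congrArg (fun x : Set.Iic (⟨PrimeSpectrum.comap
          (algebraMap A (Localization.AtPrime 𝔮)) Q', hpq⟩ : Set.Ici (PrimeSpectrum.comap
          (algebraMap A (Localization.AtPrime 𝔮)) P')) => x.1.1.asIdeal) heq
        exact this
      have h3 : r₁.1.1.asIdeal = r₂.1.1.asIdeal := by
        rw [← map_comap_eq 𝔮 r₁.1.1, ← map_comap_eq 𝔮 r₂.1.1, heq']
      exact hlt.ne (Subtype.ext (Subtype.ext (PrimeSpectrum.ext h3)))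
  exact_mod_cast e

/-- depths at a prime of `A_𝔮` agree with the depths at the contraction -/
theorem depth_comap_eq (P' : PrimeSpectrum (Localization.AtPrime 𝔮)) :
    LocCoh.depth (Localization.AtPrime
        (PrimeSpectrum.comap (algebraMap A (Localization.AtPrime 𝔮)) P').asIdeal)
      (LocalizedModule (PrimeSpectrum.comap (algebraMap A (Localization.AtPrime 𝔮))
        P').asIdeal.primeCompl M) =
    LocCoh.depth (Localization.AtPrime P'.asIdeal)
      (LocalizedModule P'.asIdeal.primeCompl (LocalizedModule 𝔮.primeCompl M)) :=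
  Groth.Agent.Lib.Helper29AdjDepthLoc.depth_localization_eq_of_localization 𝔮.primeCompl M
    P'.asIdeal _ rfl

/-- the cutoff can only go up under localization at a prime -/
theorem cutoff_le_localization (I : Ideal A) :
    Dual2.cutoff A I M ≤ Dual2.cutoff (Localization.AtPrime 𝔮)
      (I.map (algebraMap A (Localization.AtPrime 𝔮))) (LocalizedModule 𝔮.primeCompl M) := by
  refine le_iInf fun P' => le_iInf fun Q' => le_iInf fun hPQ => le_iInf fun hIP' =>
    le_iInf fun hIQ' => ?_
  have hpq : PrimeSpectrum.comap (algebraMap A (Localization.AtPrime 𝔮)) P' ≤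
      PrimeSpectrum.comap (algebraMap A (Localization.AtPrime 𝔮)) Q' := Ideal.comap_mono hPQ
  have hIp : ¬ I ≤ (PrimeSpectrum.comap (algebraMap A (Localization.AtPrime 𝔮)) P').asIdeal :=
    fun h => hIP' (Ideal.map_le_iff_le_comap.mpr h)
  have hIq : I ≤ (PrimeSpectrum.comap (algebraMap A (Localization.AtPrime 𝔮)) Q').asIdeal :=
    Ideal.map_le_iff_le_comap.mp hIQ'
  rw [← depth_comap_eq 𝔮 M P', ← height_comap_eq 𝔮 P' Q' hPQ hpq]
  exact iInf_le_of_le _ (iInf_le_of_le _ (iInf_le_of_le hpq (iInf_le_of_le hIp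
    (iInf_le_of_le hIq le_rfl))))

end LocCut

section LocCut2

variable {A : Type u} [CommRing A] [IsNoetherianRing A]
  (M : Type u) [AddCommGroup M] [Module A M] [Module.Finite A M]

/-- the cutoff of the localization at `q` is bounded by each term `(p, q)` -/
theorem cutoff_localization_le (I : Ideal A) (p q : PrimeSpectrum A) (hpq : p ≤ q)
    (hIp : ¬ I ≤ p.asIdeal) (hIq : I ≤ q.asIdeal) :
    Dual2.cutoff (Localization.AtPrime q.asIdeal)
      (I.map (algebraMap A (Localization.AtPrime q.asIdeal)))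
      (LocalizedModule q.asIdeal.primeCompl M) ≤
    LocCoh.depth (Localization.AtPrime p.asIdeal) (LocalizedModule p.asIdeal.primeCompl M) +
      Order.height (⟨q, hpq⟩ : Set.Ici p) := by
  have hdq : Disjoint (q.asIdeal.primeCompl : Set A) (q.asIdeal : Set A) := by
    rw [Set.disjoint_left]
    intro s hs hsq
    exact hs hsq
  have hdp : Disjoint (q.asIdeal.primeCompl : Set A) (p.asIdeal : Set A) :=
    hdq.mono_right hpq
  obtain ⟨P', hP'⟩ : ∃ P' : PrimeSpectrum (Localization.AtPrime q.asIdeal),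
      P'.asIdeal = p.asIdeal.map (algebraMap A (Localization.AtPrime q.asIdeal)) :=
    ⟨⟨p.asIdeal.map (algebraMap A (Localization.AtPrime q.asIdeal)),
      IsLocalization.isPrime_of_isPrime_disjoint q.asIdeal.primeCompl _ _ p.2 hdp⟩, rfl⟩
  obtain ⟨Q', hQ'⟩ : ∃ Q' : PrimeSpectrum (Localization.AtPrime q.asIdeal),
      Q'.asIdeal = q.asIdeal.map (algebraMap A (Localization.AtPrime q.asIdeal)) :=
    ⟨⟨q.asIdeal.map (algebraMap A (Localization.AtPrime q.asIdeal)),
      IsLocalization.isPrime_of_isPrime_disjoint q.asIdeal.primeCompl _ _ q.2 hdq⟩, rfl⟩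
  have hp : p = PrimeSpectrum.comap (algebraMap A (Localization.AtPrime q.asIdeal)) P' := by
    refine PrimeSpectrum.ext ?_
    show p.asIdeal = P'.asIdeal.comap _
    rw [hP']
    exact (IsLocalization.under_map_of_isPrime_disjoint q.asIdeal.primeCompl
      (Localization.AtPrime q.asIdeal) p.2 hdp).symm
  have hq : q = PrimeSpectrum.comap (algebraMap A (Localization.AtPrime q.asIdeal)) Q' := by
    refine PrimeSpectrum.ext ?_
    show q.asIdeal = Q'.asIdeal.comap _
    rw [hQ']
    exact (IsLocalization.under_map_of_isPrime_disjoint q.asIdeal.primeCompl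
      (Localization.AtPrime q.asIdeal) q.2 hdq).symm
  have hPQ : P' ≤ Q' := by
    show P'.asIdeal ≤ Q'.asIdeal
    rw [hP', hQ']
    exact Ideal.map_mono hpq
  have hIP' : ¬ I.map (algebraMap A (Localization.AtPrime q.asIdeal)) ≤ P'.asIdeal := by
    intro h
    apply hIp
    have h1 := Ideal.map_le_iff_le_comap.mp h
    have h2 := congrArg PrimeSpectrum.asIdeal hp
    rw [h2]
    exact h1
  have hIQ' : I.map (algebraMap A (Localization.AtPrime q.asIdeal)) ≤ Q'.asIdeal := by
    rw [hQ']
    exact Ideal.map_mono hIq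
  refine iInf_le_of_le P' (iInf_le_of_le Q' (iInf_le_of_le hPQ (iInf_le_of_le hIP'
    (iInf_le_of_le hIQ' ?_))))
  have key : ∀ (p' q' : PrimeSpectrum A) (hpq' : p' ≤ q')
      (_ : p' = PrimeSpectrum.comap (algebraMap A (Localization.AtPrime q.asIdeal)) P')
      (_ : q' = PrimeSpectrum.comap (algebraMap A (Localization.AtPrime q.asIdeal)) Q'),
      LocCoh.depth (Localization.AtPrime P'.asIdeal)
        (LocalizedModule P'.asIdeal.primeCompl (LocalizedModule q.asIdeal.primeCompl M)) +
        Order.height (⟨Q', hPQ⟩ : Set.Ici P') =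
      LocCoh.depth (Localization.AtPrime p'.asIdeal)
        (LocalizedModule p'.asIdeal.primeCompl M) +
        Order.height (⟨q', hpq'⟩ : Set.Ici p') := by
    intro p' q' hpq' h1 h2
    subst h1
    subst h2
    rw [← depth_comap_eq q.asIdeal M P', ← height_comap_eq q.asIdeal P' Q' hPQ hpq']
  exact le_of_eq (key p q hpq hp hq)

end LocCut2

end Groth.Agent.Lib.Helper14.HFin
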