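import Groth.Agent.S11670

/-! # Faltings' connectedness bound with cohomological dimension (helper29)

* `cdLE_map_alg`: `cd(IR') ≤ cd(I)` for any Noetherian `R`-algebra `R'`;
* `height_le_of_cdLE`: a minimal prime of `I` has height at most `cd(I)`;
* `conn_cd`: for a complete Noetherian local ring `R` and a proper ideal `a` with `cd(a) ≤ k`,
  `min(c(R)+1, sdim R) ≤ c(R/a) + k + 1`. -/

set_option autoImplicit false
set_option linter.style.haveILetI false
set_option linter.unusedSectionVars false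
universe u
open IsLocalRing

namespace Groth.Agent.Lib.Helper29.ConnCd
open Groth.Agent.Lib.Helper29.HLVT Groth.Agent.Lib.Helper8.Cd Groth.Agent.Lib.Helper8.Acyc
  Groth.Agent.S11668 Groth.Agent.Lib.Helper29.Conn Groth.Agent.S11670

section General

variable {R : Type u} [CommRing R] [IsNoetherianRing R]

theorem cdLE_map_alg (R' : Type u) [CommRing R'] [IsNoetherianRing R'] [Algebra R R']
    (I : Ideal R) (k : ℕ) (hk : LocCoh.CdLE R I k) :
    LocCoh.CdLE R' (I.map (algebraMap R R')) k := by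
  intro M _ _ j hj
  letI : Module R M := Module.compHom M (algebraMap R R')
  haveI : IsScalarTower R R' M := IsScalarTower.of_algebraMap_smul (fun _ _ => rfl)
  obtain ⟨φ, -⟩ := Groth.Agent.S11614.result R R' I M j
  have := hk M j hj
  exact φ.toEquiv.subsingleton

/-- A minimal prime of `I` has height at most `cd(I)`. -/
theorem height_le_of_cdLE (I P : Ideal R) (hP : P ∈ I.minimalPrimes) (k : ℕ)
    (hk : LocCoh.CdLE R I k) : P.height ≤ (k : ℕ∞) := by
  haveI : P.IsPrime := hP.1.1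
  have hcd := cdLE_map_alg (Localization.AtPrime P) I k hk
  have hdimB : ringKrullDim (Localization.AtPrime P) = P.height :=
    IsLocalization.AtPrime.ringKrullDim_eq_height P (Localization.AtPrime P)
  obtain ⟨n, hn⟩ : ∃ n : ℕ, P.height = n :=
    ⟨P.height.toNat, (ENat.coe_toNat (Ideal.height_ne_top (by
      exact hP.1.1.ne_top))).symm⟩
  have hmapP : P.map (algebraMap R (Localization.AtPrime P)) =
      maximalIdeal (Localization.AtPrime P) := Localization.AtPrime.map_eq_maximalIdeal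
  have hIle : I.map (algebraMap R (Localization.AtPrime P)) ≤
      maximalIdeal (Localization.AtPrime P) := by
    rw [← hmapP]; exact Ideal.map_mono hP.1.2
  have hI : I.map (algebraMap R (Localization.AtPrime P)) ≠ ⊤ := fun h =>
    (Ideal.IsPrime.ne_top (inferInstance : (maximalIdeal (Localization.AtPrime P)).IsPrime))
      (top_le_iff.mp (h ▸ hIle))
  obtain ⟨D, hD⟩ := exists_nat_dim_quot _ hI
  have hD0 : D = 0 := by
    by_contra hne
    have hpos : 0 < ringKrullDim (Localization.AtPrime P ⧸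
        I.map (algebraMap R (Localization.AtPrime P))) := by
      rw [hD]; exact_mod_cast Nat.pos_of_ne_zero hne
    obtain ⟨Q, hQ, hle, hQm⟩ := (pos_dim_iff _).mp hpos
    apply hQm
    have hQc : (Q.comap (algebraMap R (Localization.AtPrime P))) ≤ P := by
      have := IsLocalRing.le_maximalIdeal hQ.ne_top
      have h2 := Ideal.comap_mono (f := algebraMap R (Localization.AtPrime P)) this
      exact h2.trans (le_of_eq (Localization.AtPrime.comap_maximalIdeal (I := P)))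
    have hIQ : I ≤ Q.comap (algebraMap R (Localization.AtPrime P)) :=
      Ideal.map_le_iff_le_comap.mp hle
    have hPQ : P ≤ Q.comap (algebraMap R (Localization.AtPrime P)) :=
      hP.2 ⟨Ideal.comap_isPrime _ _, hIQ⟩ hQc
    apply le_antisymm (IsLocalRing.le_maximalIdeal hQ.ne_top)
    rw [← hmapP]
    exact Ideal.map_le_iff_le_comap.mpr hPQ
  subst hD0
  have := dim_le_cd_add (R := Localization.AtPrime P) n (by rw [hdimB, hn]; rfl) 0 _ k 0 hI hD
    le_rfl ((bound_iff_cdLE _ _).mpr hcd)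
  rw [hn]
  exact_mod_cast this

end General

section Complete

variable (R : Type u) [CommRing R] [IsNoetherianRing R] [IsLocalRing R]
  [IsAdicComplete (maximalIdeal R) R]

theorem dim_le_of_minimal_over (a : Ideal R) (k : ℕ) (hk : LocCoh.CdLE R a k) (𝔭 : Ideal R)
    (h𝔭 : 𝔭 ∈ a.minimalPrimes) (p : Ideal R) [p.IsPrime] (hp : p ≤ 𝔭) :
    ringKrullDim (R ⧸ p) ≤ ringKrullDim (R ⧸ 𝔭) + (k : WithBot ℕ∞) := by
  classical
  haveI : 𝔭.IsPrime := h𝔭.1.1
  haveI : IsAdicComplete (maximalIdeal (R ⧸ p)) (R ⧸ p) :=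
    (Groth.Agent.Lib.Helper18ComplProd.isAdicComplete_of_finite R (R ⧸ p)).2
  have hker : RingHom.ker (Ideal.Quotient.mk p) ≤ 𝔭 := by rw [Ideal.mk_ker]; exact hp
  haveI hprime : (𝔭.map (Ideal.Quotient.mk p)).IsPrime :=
    Ideal.map_isPrime_of_surjective Ideal.Quotient.mk_surjective hker
  have hcomap : (𝔭.map (Ideal.Quotient.mk p)).comap (Ideal.Quotient.mk p) = 𝔭 := by
    rw [Ideal.comap_map_of_surjective _ Ideal.Quotient.mk_surjective, ← RingHom.ker_eq_comap_bot]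
    exact sup_eq_left.mpr hker
  have hmin : 𝔭.map (Ideal.Quotient.mk p) ∈ (a.map (Ideal.Quotient.mk p)).minimalPrimes := by
    refine ⟨⟨hprime, Ideal.map_mono h𝔭.1.2⟩, ?_⟩
    rintro Q' ⟨hQ'p, hQ'le⟩ hQ'𝔭
    have h1 : a ≤ Q'.comap (Ideal.Quotient.mk p) :=
      Ideal.map_le_iff_le_comap.mp hQ'le
    have h2 : Q'.comap (Ideal.Quotient.mk p) ≤ 𝔭 := by
      rw [← hcomap]
      exact Ideal.comap_mono hQ'𝔭
    have h3 : 𝔭 ≤ Q'.comap (Ideal.Quotient.mk p) :=
      h𝔭.2 ⟨Ideal.comap_isPrime _ _, h1⟩ h2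
    rw [← Ideal.map_comap_of_surjective _ Ideal.Quotient.mk_surjective Q']
    exact Ideal.map_mono h3
  have hht := height_le_of_cdLE _ _ hmin k (cdLE_map p a k hk)
  have hform := dim_formula_domain (R ⧸ p) (𝔭.map (Ideal.Quotient.mk p))
  rw [dim_quot_map, sup_eq_right.mpr hp] at hform
  rw [← hform, add_comm]
  gcongr
  exact_mod_cast hht

theorem subdim_le_of_le_cd (a : Ideal R) (k : ℕ) (hk : LocCoh.CdLE R a k) (c : Ideal R)
    (𝔭 : Ideal R) (h𝔭 : 𝔭 ∈ a.minimalPrimes) (hc : c ≤ 𝔭) :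
    LocCoh.subdim (PrimeSpectrum R) ≤ ringKrullDim (R ⧸ c) + (k : WithBot ℕ∞) := by
  haveI : 𝔭.IsPrime := h𝔭.1.1
  obtain ⟨p, hp, hp𝔭⟩ := Ideal.exists_minimalPrimes_le (I := ⊥) (J := 𝔭) bot_le
  haveI : p.IsPrime := hp.1.1
  refine (subdim_le R p hp).trans ((dim_le_of_minimal_over R a k hk 𝔭 h𝔭 p hp𝔭).trans ?_)
  gcongr
  exact dim_quot_mono hc

theorem lemmaX_cd (a : Ideal R) (k : ℕ) (hk : LocCoh.CdLE R a k)
    (c d : Ideal R) (hc : c ≠ ⊤) (hd : d ≠ ⊤)
    (hcd : (c ⊓ d).radical = a.radical)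
    (hc' : ∃ 𝔭 ∈ a.minimalPrimes, c ≤ 𝔭) (hd' : ∃ 𝔭 ∈ a.minimalPrimes, d ≤ 𝔭) :
    min (LocCoh.connDim (PrimeSpectrum R) + 1) (LocCoh.subdim (PrimeSpectrum R)) ≤
      ringKrullDim (R ⧸ (c ⊔ d)) + (k : WithBot ℕ∞) + 1 := by
  have hk' : LocCoh.CdLE R (c ⊓ d) k := cdLE_of_radical_eq hcd _ hk
  by_cases h : ringKrullDim (R ⧸ (c ⊔ d)) < min (ringKrullDim (R ⧸ c)) (ringKrullDim (R ⧸ d))
  · exact Groth.Agent.S11669.result R c d hc hd h k hk'
  · rw [lt_min_iff, not_and_or, not_lt, not_lt] at h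
    refine (min_le_right _ _).trans ?_
    refine le_trans ?_ (le_add_of_nonneg_right zero_le_one)
    rcases h with h | h
    · obtain ⟨𝔭, h𝔭, hle⟩ := hc'
      refine (subdim_le_of_le_cd R a k hk c 𝔭 h𝔭 hle).trans ?_
      gcongr
    · obtain ⟨𝔭, h𝔭, hle⟩ := hd'
      refine (subdim_le_of_le_cd R a k hk d 𝔭 h𝔭 hle).trans ?_
      gcongr

/-- Faltings' connectedness bound, cohomological-dimension form: for a complete Noetherian local
ring `R` and a proper ideal `a` with `cd(a) ≤ k`, `min(c(R)+1, sdim R) ≤ c(R/a) + k + 1`. -/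
theorem conn_cd (a : Ideal R) (ha : a ≠ ⊤) (k : ℕ) (hk : LocCoh.CdLE R a k) :
    min (LocCoh.connDim (PrimeSpectrum R) + 1) (LocCoh.subdim (PrimeSpectrum R)) ≤
      LocCoh.connDim (PrimeSpectrum (R ⧸ a)) + (k : WithBot ℕ∞) + 1 := by
  classical
  open Groth.Agent.Lib.Helper29.Conn Groth.Agent.Lib.Helper8.Conn in
  haveI : Nontrivial (R ⧸ a) := Ideal.Quotient.nontrivial_iff.mpr ha
  obtain ⟨Z, hZc, hZn, hZ⟩ := exists_connDim_eq (PrimeSpectrum (R ⧸ a))
  obtain ⟨A, B, hA, hB, hAne, hBne, hAB, hsub⟩ := exists_pair_of_not_isConnected_compl hZc hZn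
  rw [hZ]
  have hfin : (minimalPrimes (R ⧸ a)).Finite := minimalPrimes.finite_of_isNoetherianRing _
  have hcompEq : ∀ C ∈ irreducibleComponents (PrimeSpectrum (R ⧸ a)),
      ∃ q ∈ minimalPrimes (R ⧸ a), C = PrimeSpectrum.zeroLocus (q : Set (R ⧸ a)) := by
    intro C hC
    rw [← PrimeSpectrum.zeroLocus_minimalPrimes] at hC
    obtain ⟨q, hq, rfl⟩ := hC
    exact ⟨q, hq, rfl⟩
  have hcompMem : ∀ q ∈ minimalPrimes (R ⧸ a), PrimeSpectrum.zeroLocus (q : Set (R ⧸ a)) ∈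
      irreducibleComponents (PrimeSpectrum (R ⧸ a)) := by
    intro q hq
    rw [← PrimeSpectrum.zeroLocus_minimalPrimes]
    exact ⟨q, hq, rfl⟩
  let A' : Finset (Ideal (R ⧸ a)) :=
    hfin.toFinset.filter (fun q => PrimeSpectrum.zeroLocus (q : Set (R ⧸ a)) ∈ A)
  let B' : Finset (Ideal (R ⧸ a)) :=
    hfin.toFinset.filter (fun q => PrimeSpectrum.zeroLocus (q : Set (R ⧸ a)) ∈ B)
  have hA' : ∀ q, q ∈ A' ↔ q ∈ minimalPrimes (R ⧸ a) ∧
      PrimeSpectrum.zeroLocus (q : Set (R ⧸ a)) ∈ A := by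
    intro q
    simp only [A', Finset.mem_filter, Set.Finite.mem_toFinset]
  have hB' : ∀ q, q ∈ B' ↔ q ∈ minimalPrimes (R ⧸ a) ∧
      PrimeSpectrum.zeroLocus (q : Set (R ⧸ a)) ∈ B := by
    intro q
    simp only [B', Finset.mem_filter, Set.Finite.mem_toFinset]
  obtain ⟨qA, hqA⟩ : ∃ q, q ∈ A' := by
    obtain ⟨C, hC⟩ := hAne
    obtain ⟨q, hq, rfl⟩ := hcompEq C (hA hC)
    exact ⟨q, (hA' q).mpr ⟨hq, hC⟩⟩
  obtain ⟨qB, hqB⟩ : ∃ q, q ∈ B' := by
    obtain ⟨C, hC⟩ := hBne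
    obtain ⟨q, hq, rfl⟩ := hcompEq C (hB hC)
    exact ⟨q, (hB' q).mpr ⟨hq, hC⟩⟩
  let cbar : Ideal (R ⧸ a) := A'.inf id
  let dbar : Ideal (R ⧸ a) := B'.inf id
  have hV : PrimeSpectrum.zeroLocus ((cbar ⊔ dbar : Ideal (R ⧸ a)) : Set (R ⧸ a)) ⊆
      ⋃₀ A ∩ ⋃₀ B := by
    intro x hx
    rw [PrimeSpectrum.mem_zeroLocus] at hx
    have hx' : cbar ⊔ dbar ≤ x.asIdeal := hx
    obtain ⟨q, hq, hqx⟩ := (Ideal.IsPrime.inf_le' x.2).mp (le_sup_left.trans hx')
    obtain ⟨q', hq', hq'x⟩ := (Ideal.IsPrime.inf_le' x.2).mp (le_sup_right.trans hx')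
    exact ⟨⟨_, ((hA' q).mp hq).2, hqx⟩, ⟨_, ((hB' q').mp hq').2, hq'x⟩⟩
  have h2 : ringKrullDim ((R ⧸ a) ⧸ (cbar ⊔ dbar)) ≤ topologicalKrullDim Z := by
    rw [← Groth.Agent.S11680.dim_zeroLocus]
    exact dim_mono (hV.trans hsub)
  -- pull back to `R`
  have hsurj : Function.Surjective (Ideal.Quotient.mk a) := Ideal.Quotient.mk_surjective
  have hcmap : (cbar.comap (Ideal.Quotient.mk a)).map (Ideal.Quotient.mk a) = cbar :=
    Ideal.map_comap_of_surjective _ hsurj _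
  have hdmap : (dbar.comap (Ideal.Quotient.mk a)).map (Ideal.Quotient.mk a) = dbar :=
    Ideal.map_comap_of_surjective _ hsurj _
  have hale : ∀ J : Ideal (R ⧸ a), a ≤ J.comap (Ideal.Quotient.mk a) := by
    intro J
    conv_lhs => rw [← Ideal.mk_ker (I := a)]
    exact Ideal.comap_mono bot_le
  have hdim : ringKrullDim ((R ⧸ a) ⧸ (cbar ⊔ dbar)) =
      ringKrullDim (R ⧸ (cbar.comap (Ideal.Quotient.mk a) ⊔ dbar.comap (Ideal.Quotient.mk a))) := by
    conv_lhs => rw [← hcmap, ← hdmap, ← Ideal.map_sup]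
    rw [dim_quot_map, sup_eq_right.mpr ((hale cbar).trans le_sup_left)]
  have hminEq : a.minimalPrimes =
      Ideal.comap (Ideal.Quotient.mk a) '' minimalPrimes (R ⧸ a) := by
    have := Ideal.comap_minimalPrimes_eq_of_surjective hsurj (⊥ : Ideal (R ⧸ a))
    rwa [← RingHom.ker_eq_comap_bot, Ideal.mk_ker] at this
  have hqAmin := ((hA' qA).mp hqA).1
  have hqBmin := ((hB' qB).mp hqB).1
  have hcle : cbar ≤ qA := Finset.inf_le (f := id) hqA
  have hdle : dbar ≤ qB := Finset.inf_le (f := id) hqB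
  have hc' : ∃ 𝔭 ∈ a.minimalPrimes, cbar.comap (Ideal.Quotient.mk a) ≤ 𝔭 :=
    ⟨qA.comap (Ideal.Quotient.mk a), by rw [hminEq]; exact ⟨qA, hqAmin, rfl⟩,
      Ideal.comap_mono hcle⟩
  have hd' : ∃ 𝔭 ∈ a.minimalPrimes, dbar.comap (Ideal.Quotient.mk a) ≤ 𝔭 :=
    ⟨qB.comap (Ideal.Quotient.mk a), by rw [hminEq]; exact ⟨qB, hqBmin, rfl⟩,
      Ideal.comap_mono hdle⟩
  have hc : cbar.comap (Ideal.Quotient.mk a) ≠ ⊤ := by
    obtain ⟨𝔭, h𝔭, hle⟩ := hc'
    exact fun h => h𝔭.1.1.ne_top (top_le_iff.mp (h ▸ hle))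
  have hd : dbar.comap (Ideal.Quotient.mk a) ≠ ⊤ := by
    obtain ⟨𝔭, h𝔭, hle⟩ := hd'
    exact fun h => h𝔭.1.1.ne_top (top_le_iff.mp (h ▸ hle))
  have hcd : (cbar.comap (Ideal.Quotient.mk a) ⊓ dbar.comap (Ideal.Quotient.mk a)).radical =
      a.radical := by
    apply le_antisymm
    · rw [Ideal.radical_le_radical_iff, ← Ideal.sInf_minimalPrimes]
      refine le_sInf ?_
      intro 𝔭 h𝔭
      rw [hminEq] at h𝔭
      obtain ⟨q, hq, rfl⟩ := h𝔭
      have hqmem : PrimeSpectrum.zeroLocus (q : Set (R ⧸ a)) ∈ A ∪ B := by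
        rw [hAB]; exact hcompMem q hq
      rcases hqmem with h | h
      · exact inf_le_left.trans (Ideal.comap_mono (Finset.inf_le (f := id) ((hA' q).mpr ⟨hq, h⟩)))
      · exact inf_le_right.trans (Ideal.comap_mono (Finset.inf_le (f := id) ((hB' q).mpr ⟨hq, h⟩)))
    · exact Ideal.radical_mono (le_inf (hale cbar) (hale dbar))
  have hX := lemmaX_cd R a k hk _ _ hc hd hcd hc' hd'
  refine hX.trans ?_
  rw [← hdim]
  gcongr

end Complete

end Groth.Agent.Lib.Helper29.ConnCd
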