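import Mathlib
import Groth.Agent.Lib.Helper14CplDepthC
import Groth.Agent.Lib.Helper14HFinC
import Groth.Agent.Lib.Helper14AlgzB
import Groth.Agent.Lib.Helper29ConnCd

/-! # Bootstrap: the depth condition on the completions of the local rings (helper14) -/

set_option autoImplicit false
set_option linter.unusedVariables false
set_option linter.unusedSectionVars false
set_option linter.style.haveILetI false
set_option maxHeartbeats 400000

universe u

open CategoryTheory CategoryTheory.Limits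
attribute [local instance] HasDerivedCategory.standard

namespace Groth.Agent.Lib.Helper14.Boot

open Groth.Agent.Lib.Helper14.CplDepth Groth.Agent.Lib.Helper14.HFin Groth.Agent.Lib.Helper28

section Dim

variable {B : Type u} [CommRing B] [IsNoetherianRing B]

/-- if every prime containing `p'` and `𝔟` is maximal, the dimension of `[p', q']` is bounded by
the cohomological dimension of `𝔟` -/
theorem krullDim_Icc_le_of_cdLE (hdc : ∃ ω : Dual.D B, Dual.IsDualizing B ω) (𝔟 : Ideal B) (d : ℕ)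
    (hcd : LocCoh.CdLE B 𝔟 d) (p' q' : PrimeSpectrum B) (hpq : p' ≤ q') (h𝔟 : 𝔟 ≤ q'.asIdeal)
    (hmax : ∀ Q : PrimeSpectrum B, p' ≤ Q → 𝔟 ≤ Q.asIdeal → Q.asIdeal.IsMaximal) :
    Order.krullDim (Set.Icc p' q') ≤ ((d : ℕ) : WithBot ℕ∞) := by
  rw [krullDim_Icc_eq_height hdc p' q' hpq, ← Groth.Agent.Lib.Helper14.Cutoff.height_map_mk_eq p' q' hpq]
  have hprime := Groth.Agent.Lib.Helper14.Cutoff.isPrime_map_mk p' q' hpq
  have hcd' : LocCoh.CdLE (B ⧸ p'.asIdeal) (𝔟.map (Ideal.Quotient.mk p'.asIdeal)) d :=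
    Groth.Agent.Lib.Helper29.Conn.cdLE_map p'.asIdeal 𝔟 d hcd
  have hcomap : (q'.asIdeal.map (Ideal.Quotient.mk p'.asIdeal)).comap
      (Ideal.Quotient.mk p'.asIdeal) = q'.asIdeal := by
    rw [Ideal.comap_map_of_surjective _ Ideal.Quotient.mk_surjective, ← RingHom.ker_eq_comap_bot,
      Ideal.mk_ker]
    exact sup_eq_left.mpr hpq
  have hmin : q'.asIdeal.map (Ideal.Quotient.mk p'.asIdeal) ∈
      (𝔟.map (Ideal.Quotient.mk p'.asIdeal)).minimalPrimes := by
    refine ⟨⟨hprime, Ideal.map_mono h𝔟⟩, ?_⟩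
    rintro Q ⟨hQp, hQle⟩ hQq
    have h1 : 𝔟 ≤ Q.comap (Ideal.Quotient.mk p'.asIdeal) := Ideal.map_le_iff_le_comap.mp hQle
    have h2 : p'.asIdeal ≤ Q.comap (Ideal.Quotient.mk p'.asIdeal) := by
      intro x hx
      rw [Ideal.mem_comap, Ideal.Quotient.eq_zero_iff_mem.mpr hx]
      exact Q.zero_mem
    have h3 : (Q.comap (Ideal.Quotient.mk p'.asIdeal)).IsMaximal :=
      hmax ⟨Q.comap (Ideal.Quotient.mk p'.asIdeal), Ideal.comap_isPrime _ _⟩ h2 h1
    have h4 : Q.comap (Ideal.Quotient.mk p'.asIdeal) ≤ q'.asIdeal := by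
      rw [← hcomap]
      exact Ideal.comap_mono hQq
    have h5 : Q.comap (Ideal.Quotient.mk p'.asIdeal) = q'.asIdeal :=
      h3.eq_of_le q'.2.ne_top h4
    rw [← Ideal.map_comap_of_surjective _ Ideal.Quotient.mk_surjective Q, h5]
  have h := Groth.Agent.Lib.Helper29.ConnCd.height_le_of_cdLE _ _ hmin d hcd'
  exact_mod_cast h

end Dim

end Groth.Agent.Lib.Helper14.Boot
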