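import Mathlib
import Groth.Agent.Lib.Helper14BootA

set_option autoImplicit false
set_option linter.unusedVariables false
set_option linter.unusedSectionVars false
set_option linter.style.haveILetI false
set_option maxHeartbeats 400000

universe u

open CategoryTheory CategoryTheory.Limits
attribute [local instance] HasDerivedCategory.standard

namespace Groth.Agent.Lib.Helper14.Boot

open Groth.Agent.Lib.Helper14.CplDepth Groth.Agent.Lib.Helper14.HFin Groth.Agent.Lib.Helper28

section Local

variable {R : Type u} [CommRing R] [IsNoetherianRing R] [IsLocalRing R] (J : Ideal R)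

/-- a maximal ideal of the `J`-adic completion of a local ring lies over the maximal ideal -/
theorem comap_eq_maximalIdeal_of_isMaximal (Q : Ideal (AdicCompletion J R)) [hQ : Q.IsMaximal] :
    Q.comap (algebraMap R (AdicCompletion J R)) = IsLocalRing.maximalIdeal R := by
  have hJQ : J.map (algebraMap R (AdicCompletion J R)) ≤ Q :=
    map_le_of_isMaximal_adicCompletion J Q
  have hprime : (Q.comap (algebraMap R (AdicCompletion J R))).IsPrime :=
    Ideal.comap_isPrime _ _
  apply le_antisymm (IsLocalRing.le_maximalIdeal hprime.ne_top)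
  intro x hx
  by_contra hxQ
  have hxQ' : algebraMap R (AdicCompletion J R) x ∉ Q := hxQ
  obtain ⟨y, z, hz, hyz⟩ := hQ.exists_inv hxQ'
  obtain ⟨a, ha⟩ := exists_sub_mem_map_adicCompletion J y
  -- `1 - x a` is a unit of `R` whose image lies in `Q`
  have hu : IsUnit (1 - x * a) := by
    have h1 : x * a ∈ IsLocalRing.maximalIdeal R := Ideal.mul_mem_right _ _ hx
    have h2 : 1 - x * a ∉ IsLocalRing.maximalIdeal R := by
      intro h3
      have := Ideal.add_mem _ h3 h1
      rw [sub_add_cancel] at this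
      exact (Ideal.ne_top_iff_one _).mp (IsLocalRing.maximalIdeal.isMaximal R).ne_top this
    by_contra hnu
    exact h2 ((IsLocalRing.mem_maximalIdeal _).mpr hnu)
  have hmem : algebraMap R (AdicCompletion J R) (1 - x * a) ∈ Q := by
    have e : algebraMap R (AdicCompletion J R) (1 - x * a) =
        z + algebraMap R (AdicCompletion J R) x * (y - algebraMap R (AdicCompletion J R) a) := by
      rw [map_sub, map_one, map_mul, ← hyz]
      ring
    rw [e]
    exact Q.add_mem hz (Q.mul_mem_left _ (hJQ ha))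
  exact hQ.ne_top (Ideal.eq_top_of_isUnit_mem _ hmem (hu.map _))

end Local

section Aux

lemma height_congr {X : Type*} [Preorder X] (p q₁ q₂ : X) (h : q₁ = q₂) (h1 : p ≤ q₁)
    (h2 : p ≤ q₂) :
    Order.height (⟨q₁, h1⟩ : Set.Ici p) = Order.height (⟨q₂, h2⟩ : Set.Ici p) := by
  subst h
  rfl

lemma lt_of_add_lt (d s : ℕ) (x : ℕ∞)
    (h : (((d + s : ℕ) : ℕ∞) : WithBot ℕ∞) < ((x : ℕ∞) : WithBot ℕ∞) + ((d : ℕ) : WithBot ℕ∞)) :
    (s : ℕ∞) < x := by
  rw [← WithBot.coe_natCast, ← WithBot.coe_add, WithBot.coe_lt_coe] at h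
  by_cases hx : x = ⊤
  · rw [hx]
    exact ENat.natCast_lt_top s
  · obtain ⟨n, rfl⟩ := ENat.ne_top_iff_exists.mp hx
    have h' : d + s < n + d := by exact_mod_cast h
    exact_mod_cast (by omega : s < n)

end Aux

section MainS

variable {A : Type u} [CommRing A] [IsNoetherianRing A] (I : Ideal A) (q : PrimeSpectrum A)

local notation "Rq" => Localization.AtPrime q.asIdeal
local notation "Jq" => Ideal.map (algebraMap A (Localization.AtPrime q.asIdeal)) I
local notation "Rq'" => AdicCompletion (Ideal.map (algebraMap A (Localization.AtPrime q.asIdeal)) I)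
  (Localization.AtPrime q.asIdeal)

/-- the term `depth + dim` of a pair of primes of `A_q`, in terms of `A` -/
theorem dimBetween_eq_krullDim_localization (hdc : ∃ ω : Dual.D A, Dual.IsDualizing A ω)
    (pR qR : PrimeSpectrum Rq) (hpqR : pR ≤ qR)
    (hqq : PrimeSpectrum.comap (algebraMap A Rq) qR = q) :
    Formal2.dimBetween A (PrimeSpectrum.comap (algebraMap A Rq) pR).asIdeal q.asIdeal =
      Order.krullDim (Set.Icc pR qR) := by
  haveI hNR : IsNoetherianRing Rq :=
    IsLocalization.isNoetherianRing q.asIdeal.primeCompl _ inferInstance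
  obtain ⟨ω, hω⟩ := hdc
  have hdcA : ∃ ω : Dual.D A, Dual.IsDualizing A ω := ⟨ω, hω⟩
  have hdcR : ∃ ωR : Dual.D Rq, Dual.IsDualizing Rq ωR :=
    ⟨_, Groth.Agent.Lib.Helper5.LocD.isDualizing_extD q.asIdeal.primeCompl Rq ω hω⟩
  obtain ⟨δ, h1, h2⟩ := Groth.Agent.Lib.Helper5.DualDim.main A ω hω
  have hpq' : PrimeSpectrum.comap (algebraMap A Rq) pR ≤
      PrimeSpectrum.comap (algebraMap A Rq) qR := Ideal.comap_mono hpqR
  have hpq : PrimeSpectrum.comap (algebraMap A Rq) pR ≤ q := hpq'.trans (le_of_eq hqq)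
  rw [Groth.Agent.Lib.Helper14.Algz.dimBetween_eq δ h2 _ q hpq,
    ← Groth.Agent.Lib.Helper14.Falt.krullDim_Icc δ h2 _ q hpq,
    krullDim_Icc_eq_height hdcA _ q hpq, krullDim_Icc_eq_height hdcR pR qR hpqR,
    ← height_comap_eq q.asIdeal pR qR hpqR hpq',
    height_congr _ _ _ hqq.symm hpq hpq']

end MainS

end Groth.Agent.Lib.Helper14.Boot
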