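import Mathlib
import Groth.Agent.Lib.Helper14BootB

/-! # Bootstrap: the depth condition on the completions of the local rings, main statement
(helper14) -/

set_option autoImplicit false
set_option linter.unusedVariables false
set_option linter.unusedSectionVars false
set_option linter.style.haveILetI false
set_option maxHeartbeats 400000

universe u

open CategoryTheory CategoryTheory.Limits
attribute [local instance] HasDerivedCategory.standard

namespace Groth.Agent.Lib.Helper14.Boot

open Groth.Agent.Lib.Helper14.CplDepth Groth.Agent.Lib.Helper14.HFin Groth.Agent.Lib.Helper28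

section MainS

variable {A : Type u} [CommRing A] [IsNoetherianRing A] (I : Ideal A) (q : PrimeSpectrum A)
  (M : Type u) [AddCommGroup M] [Module A M] [Module.Finite A M]

local notation "Rq" => Localization.AtPrime q.asIdeal
local notation "Jq" => Ideal.map (algebraMap A (Localization.AtPrime q.asIdeal)) I
local notation "Rq'" => AdicCompletion (Ideal.map (algebraMap A (Localization.AtPrime q.asIdeal)) I)
  (Localization.AtPrime q.asIdeal)

theorem depth_condition_completion (hdc : ∃ ω : Dual.D A, Dual.IsDualizing A ω) (d : ℕ)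
    (hcd : LocCoh.CdLE A I d) (s : ℕ)
    (hc : ∀ p : PrimeSpectrum A, p ≤ q → ¬ I ≤ p.asIdeal →
      (s : ℕ∞) < LocCoh.depth (Localization.AtPrime p.asIdeal)
        (LocalizedModule p.asIdeal.primeCompl M) ∨
      (((d + s : ℕ) : ℕ∞) : WithBot ℕ∞) <
        ((LocCoh.depth (Localization.AtPrime p.asIdeal)
          (LocalizedModule p.asIdeal.primeCompl M) : ℕ∞) : WithBot ℕ∞) +
          Formal2.dimBetween A p.asIdeal q.asIdeal)
    (p' : PrimeSpectrum Rq') (hIp' : ¬ I.map (algebraMap A Rq') ≤ p'.asIdeal)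
    (hmax : ∀ q' : PrimeSpectrum Rq', p' ≤ q' → I.map (algebraMap A Rq') ≤ q'.asIdeal →
      q'.asIdeal.IsMaximal) :
    (s : ℕ∞) < LocCoh.depth (Localization.AtPrime p'.asIdeal)
      (LocalizedModule p'.asIdeal.primeCompl
        (AdicCompletion Jq (LocalizedModule q.asIdeal.primeCompl M))) := by
  classical
  haveI hNR : IsNoetherianRing Rq :=
    IsLocalization.isNoetherianRing q.asIdeal.primeCompl _ inferInstance
  haveI hNR' : IsNoetherianRing Rq' := Groth.Agent.S0543.result Rq Jq
  obtain ⟨ω, hω⟩ := hdc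
  have hdcA : ∃ ω : Dual.D A, Dual.IsDualizing A ω := ⟨ω, hω⟩
  have hdcR : ∃ ωR : Dual.D Rq, Dual.IsDualizing Rq ωR :=
    ⟨_, Groth.Agent.Lib.Helper5.LocD.isDualizing_extD q.asIdeal.primeCompl Rq ω hω⟩
  have hdcR' : ∃ ω' : Dual.D Rq', Dual.IsDualizing Rq' ω' := by
    obtain ⟨ωR, hωR⟩ := hdcR
    exact ⟨_, isDualizing_extD_adicCompletion Jq ωR hωR⟩
  haveI : Module.Finite Rq (LocalizedModule q.asIdeal.primeCompl M) :=
    Module.Finite.of_isLocalizedModule q.asIdeal.primeCompl
      (LocalizedModule.mkLinearMap q.asIdeal.primeCompl M)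
  haveI : IsScalarTower A Rq Rq' := IsScalarTower.of_algebraMap_eq (fun a => rfl)
  have hJmap : I.map (algebraMap A Rq') = Ideal.map (algebraMap Rq Rq') Jq := by
    rw [Ideal.map_map, ← IsScalarTower.algebraMap_eq]
  -- a maximal ideal above `p'`
  obtain ⟨Q', hQ'max, hp'Q'⟩ := Ideal.exists_le_maximal p'.asIdeal p'.2.ne_top
  let q' : PrimeSpectrum Rq' := ⟨Q', hQ'max.isPrime⟩
  have hJq' : Ideal.map (algebraMap Rq Rq') Jq ≤ q'.asIdeal :=
    map_le_of_isMaximal_adicCompletion Jq Q'
  have hpq' : p' ≤ q' := hp'Q'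
  have hle := depth_le_depth_adicCompletion Jq (LocalizedModule q.asIdeal.primeCompl M) p'
  have heq := depth_add_krullDim_adicCompletion Jq (LocalizedModule q.asIdeal.primeCompl M) hdcR
    p' q' hpq' hJq'
  have hdim : Order.krullDim (Set.Icc p' q') ≤ ((d : ℕ) : WithBot ℕ∞) :=
    krullDim_Icc_le_of_cdLE hdcR' (I.map (algebraMap A Rq')) d
      (Groth.Agent.Lib.Helper29.ConnCd.cdLE_map_alg Rq' I d hcd) p' q' hpq' (hJmap ▸ hJq') hmax
  -- contractions
  have hpqR : PrimeSpectrum.comap (algebraMap Rq Rq') p' ≤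
      PrimeSpectrum.comap (algebraMap Rq Rq') q' := Ideal.comap_mono hpq'
  have hqRmax : (PrimeSpectrum.comap (algebraMap Rq Rq') q').asIdeal =
      IsLocalRing.maximalIdeal Rq := comap_eq_maximalIdeal_of_isMaximal Jq Q'
  have hqq : PrimeSpectrum.comap (algebraMap A Rq) (PrimeSpectrum.comap (algebraMap Rq Rq') q') =
      q := by
    apply PrimeSpectrum.ext
    show (PrimeSpectrum.comap (algebraMap Rq Rq') q').asIdeal.comap (algebraMap A Rq) = q.asIdeal
    rw [hqRmax]
    exact IsLocalization.AtPrime.under_maximalIdeal Rq q.asIdeal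
  have hpq : PrimeSpectrum.comap (algebraMap A Rq) (PrimeSpectrum.comap (algebraMap Rq Rq') p') ≤
      q :=
    (show PrimeSpectrum.comap (algebraMap A Rq) (PrimeSpectrum.comap (algebraMap Rq Rq') p') ≤
      PrimeSpectrum.comap (algebraMap A Rq) (PrimeSpectrum.comap (algebraMap Rq Rq') q') from
      Ideal.comap_mono hpqR).trans (le_of_eq hqq)
  have hIp : ¬ I ≤ (PrimeSpectrum.comap (algebraMap A Rq)
      (PrimeSpectrum.comap (algebraMap Rq Rq') p')).asIdeal := by
    intro h
    apply hIp'
    rw [Ideal.map_le_iff_le_comap]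
    intro x hx
    exact h hx
  have hdepth := depth_comap_eq q.asIdeal M (PrimeSpectrum.comap (algebraMap Rq Rq') p')
  have hkd := dimBetween_eq_krullDim_localization q hdcA
    (PrimeSpectrum.comap (algebraMap Rq Rq') p') (PrimeSpectrum.comap (algebraMap Rq Rq') q')
    hpqR hqq
  rcases hc _ hpq hIp with h | h
  · rw [hdepth] at h
    exact lt_of_lt_of_le h hle
  · rw [hdepth, hkd, ← heq] at h
    refine lt_of_add_lt d s _ (lt_of_lt_of_le h ?_)
    gcongr

end MainS

end Groth.Agent.Lib.Helper14.Boot
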