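import Mathlib
import Groth.Agent.Lib.Helper14BootC
import Groth.Agent.Lib.Helper29ConnCd

/-! # Bootstrap: condition (4) passes to the `I`-adic completion (helper14) -/

set_option autoImplicit false
set_option linter.unusedVariables false
set_option linter.unusedSectionVars false
set_option linter.style.haveILetI false
set_option maxHeartbeats 400000

universe u

open CategoryTheory CategoryTheory.Limits
attribute [local instance] HasDerivedCategory.standard

namespace Groth.Agent.Lib.Helper14.Boot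

open Groth.Agent.Lib.Helper14.CplDepth Groth.Agent.Lib.Helper14.HFin Groth.Agent.Lib.Helper28

section Four

variable {A : Type u} [CommRing A] [IsNoetherianRing A] (I : Ideal A)
  (M : Type u) [AddCommGroup M] [Module A M] [Module.Finite A M]

/-- `dim (A/p)_q` is the Krull dimension of the interval `[p, q]` when `A` has a dualizing
complex -/
theorem dimBetween_eq_krullDim_Icc (hdc : ∃ ω : Dual.D A, Dual.IsDualizing A ω)
    (p q : PrimeSpectrum A) (hpq : p ≤ q) :
    Formal2.dimBetween A p.asIdeal q.asIdeal = Order.krullDim (Set.Icc p q) := by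
  obtain ⟨ω, hω⟩ := hdc
  obtain ⟨δ, h1, h2⟩ := Groth.Agent.Lib.Helper5.DualDim.main A ω hω
  rw [Groth.Agent.Lib.Helper14.Algz.dimBetween_eq δ h2 p q hpq,
    ← Groth.Agent.Lib.Helper14.Falt.krullDim_Icc δ h2 p q hpq]

/-- the completion has a dualizing complex -/
theorem exists_isDualizing_adicCompletion (hdc : ∃ ω : Dual.D A, Dual.IsDualizing A ω) :
    ∃ ω' : Dual.D (AdicCompletion I A), Dual.IsDualizing (AdicCompletion I A) ω' := by
  obtain ⟨ω, hω⟩ := hdc
  exact ⟨_, isDualizing_extD_adicCompletion I ω hω⟩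

/-- condition (4) of the bootstrap passes to the `I`-adic completion -/
theorem condition_four_adicCompletion (hdc : ∃ ω : Dual.D A, Dual.IsDualizing A ω) (d s : ℕ)
    (T : Set (PrimeSpectrum A))
    (h4 : ∀ p r q : PrimeSpectrum A, p ≤ r → r ≤ q → ¬ I ≤ p.asIdeal → I ≤ r.asIdeal → r ∉ T →
      q ∈ T →
      (s : ℕ∞) ≤ LocCoh.depth (Localization.AtPrime p.asIdeal)
        (LocalizedModule p.asIdeal.primeCompl M) ∨
      ((d + s : ℕ) : WithBot ℕ∞) <
        (LocCoh.depth (Localization.AtPrime p.asIdeal)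
          (LocalizedModule p.asIdeal.primeCompl M) : WithBot ℕ∞) +
          Formal2.dimBetween A p.asIdeal q.asIdeal)
    (p r q : PrimeSpectrum (AdicCompletion I A)) (hpr : p ≤ r) (hrq : r ≤ q)
    (hIp : ¬ (I.map (algebraMap A (AdicCompletion I A))) ≤ p.asIdeal)
    (hIr : (I.map (algebraMap A (AdicCompletion I A))) ≤ r.asIdeal)
    (hrT : r ∉ ((PrimeSpectrum.comap (algebraMap A (AdicCompletion I A))) ⁻¹' T))
    (hqT : q ∈ ((PrimeSpectrum.comap (algebraMap A (AdicCompletion I A))) ⁻¹' T)) :
    (s : ℕ∞) ≤ LocCoh.depth (Localization.AtPrime p.asIdeal)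
        (LocalizedModule p.asIdeal.primeCompl (AdicCompletion I M)) ∨
      ((d + s : ℕ) : WithBot ℕ∞) <
        (LocCoh.depth (Localization.AtPrime p.asIdeal)
          (LocalizedModule p.asIdeal.primeCompl (AdicCompletion I M)) : WithBot ℕ∞) +
          Formal2.dimBetween (AdicCompletion I A) p.asIdeal q.asIdeal := by
  haveI hN' : IsNoetherianRing (AdicCompletion I A) := Groth.Agent.S0543.result A I
  have hdc' := exists_isDualizing_adicCompletion I hdc
  have hpq : p ≤ q := hpr.trans hrq
  have hIq : I.map (algebraMap A (AdicCompletion I A)) ≤ q.asIdeal := hIr.trans hrq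
  set p₀ := PrimeSpectrum.comap (algebraMap A (AdicCompletion I A)) p with hp₀
  set r₀ := PrimeSpectrum.comap (algebraMap A (AdicCompletion I A)) r with hr₀
  set q₀ := PrimeSpectrum.comap (algebraMap A (AdicCompletion I A)) q with hq₀
  have hpr₀ : p₀ ≤ r₀ := Ideal.comap_mono hpr
  have hrq₀ : r₀ ≤ q₀ := Ideal.comap_mono hrq
  have hIp₀ : ¬ I ≤ p₀.asIdeal := fun h => hIp (Ideal.map_le_iff_le_comap.mpr h)
  have hIr₀ : I ≤ r₀.asIdeal := Ideal.map_le_iff_le_comap.mp hIr
  have h1 := depth_le_depth_adicCompletion I M p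
  have h2 := depth_add_krullDim_adicCompletion I M hdc p q hpq hIq
  rcases h4 p₀ r₀ q₀ hpr₀ hrq₀ hIp₀ hIr₀ hrT hqT with h | h
  · left
    exact h.trans h1
  · right
    rw [dimBetween_eq_krullDim_Icc hdc' p q hpq, h2]
    rw [dimBetween_eq_krullDim_Icc hdc p₀ q₀ (hpr₀.trans hrq₀)] at h
    exact h

end Four

end Groth.Agent.Lib.Helper14.Boot
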