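import Mathlib
import Groth.Agent.Lib.Helper14BootD

/-! # Bootstrap: transport of depths of localizations along semilinear isomorphisms (helper14) -/

set_option autoImplicit false
set_option linter.unusedVariables false
set_option linter.unusedSectionVars false
set_option linter.style.haveILetI false
set_option maxHeartbeats 400000

universe u

namespace Groth.Agent.Lib.Helper14.Boot

section Semilinear

variable {R R' : Type u} [CommRing R] [CommRing R'] [IsNoetherianRing R] (e : R ≃+* R')
  (N N' : Type u) [AddCommGroup N] [Module R N] [Module.Finite R N] [AddCommGroup N']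
  [Module R' N'] (ψ : N ≃+ N') (hψ : ∀ (r : R) (n : N), ψ (r • n) = e r • ψ n)

include hψ in
/-- the depths of the localizations of two modules over isomorphic rings, related by a
semilinear isomorphism, at corresponding primes, agree -/
theorem depth_localization_eq_of_semilinear (P' : Ideal R') [P'.IsPrime] (P : Ideal R)
    [P.IsPrime] (hP : P = P'.comap (e : R →+* R')) :
    LocCoh.depth (Localization.AtPrime P) (LocalizedModule P.primeCompl N) =
      LocCoh.depth (Localization.AtPrime P') (LocalizedModule P'.primeCompl N') := by
  subst hP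
  letI algRS : Algebra R (Localization.AtPrime P') :=
    ((algebraMap R' (Localization.AtPrime P')).comp (e : R →+* R')).toAlgebra
  have halg : ∀ r : R, algebraMap R (Localization.AtPrime P') r =
      algebraMap R' (Localization.AtPrime P') (e r) := fun r => rfl
  have hmem : ∀ r : R, r ∈ (P'.comap (e : R →+* R')).primeCompl ↔ e r ∈ P'.primeCompl :=
    fun r => Iff.rfl
  haveI hloc : IsLocalization.AtPrime (Localization.AtPrime P') (P'.comap (e : R →+* R')) := by
    refine (isLocalization_iff _ _).mpr ⟨?_, ?_, ?_⟩
    · intro y
      rw [halg]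
      exact IsLocalization.map_units (Localization.AtPrime P')
        (⟨e y, (hmem y).mp y.2⟩ : P'.primeCompl)
    · intro z
      obtain ⟨⟨x, s⟩, hx⟩ := IsLocalization.surj P'.primeCompl z
      refine ⟨⟨e.symm x, ⟨e.symm s, ?_⟩⟩, ?_⟩
      · rw [hmem, RingEquiv.apply_symm_apply]
        exact s.2
      · change z * algebraMap R (Localization.AtPrime P') (e.symm s) =
          algebraMap R (Localization.AtPrime P') (e.symm x)
        rw [halg, halg, RingEquiv.apply_symm_apply, RingEquiv.apply_symm_apply]
        exact hx
    · intro x y hxy
      rw [halg, halg] at hxy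
      obtain ⟨c, hc⟩ := (IsLocalization.eq_iff_exists P'.primeCompl _).mp hxy
      refine ⟨⟨e.symm c, ?_⟩, ?_⟩
      · rw [hmem, RingEquiv.apply_symm_apply]
        exact c.2
      · apply e.injective
        change e (e.symm c * x) = e (e.symm c * y)
        rw [map_mul, map_mul, RingEquiv.apply_symm_apply]
        exact hc
  letI modRN2 : Module R (LocalizedModule P'.primeCompl N') :=
    Module.compHom _ (algebraMap R (Localization.AtPrime P'))
  have hsmul : ∀ (r : R) (y : LocalizedModule P'.primeCompl N'),
      r • y = algebraMap R' (Localization.AtPrime P') (e r) • y := fun r y => rfl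
  have hsmul' : ∀ (r : R) (y : LocalizedModule P'.primeCompl N'), r • y = e r • y := by
    intro r y
    rw [hsmul, algebraMap_smul]
  haveI htower : IsScalarTower R (Localization.AtPrime P') (LocalizedModule P'.primeCompl N') :=
    ⟨fun r c n => by
      change (r • c) • n = algebraMap R (Localization.AtPrime P') r • (c • n)
      rw [Algebra.smul_def, mul_smul]⟩
  let f2 : N →ₗ[R] LocalizedModule P'.primeCompl N' :=
    { toFun := fun n => LocalizedModule.mkLinearMap P'.primeCompl N' (ψ n)
      map_add' := fun a b => by rw [map_add, map_add]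
      map_smul' := fun r n => by
        rw [hψ, LinearMap.map_smul, RingHom.id_apply, hsmul'] }
  have hf2 : ∀ n : N, f2 n = LocalizedModule.mkLinearMap P'.primeCompl N' (ψ n) := fun n => rfl
  haveI hlm : IsLocalizedModule (P'.comap (e : R →+* R')).primeCompl f2 := by
    refine ⟨?_, ?_, ?_⟩
    · intro x
      rw [Module.End.isUnit_iff]
      have hu : IsUnit (algebraMap R' (Localization.AtPrime P') (e x)) :=
        IsLocalization.map_units (Localization.AtPrime P')
          (⟨e x, (hmem x).mp x.2⟩ : P'.primeCompl)
      obtain ⟨u, hu⟩ := hu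
      refine Function.bijective_iff_has_inverse.mpr ⟨fun y => (↑u⁻¹ : Localization.AtPrime P') • y,
        ?_, ?_⟩
      · intro y
        change (↑u⁻¹ : Localization.AtPrime P') • ((x : R) • y) = y
        rw [hsmul, ← hu, smul_smul, Units.inv_mul, one_smul]
      · intro y
        change (x : R) • ((↑u⁻¹ : Localization.AtPrime P') • y) = y
        rw [hsmul, ← hu, smul_smul, Units.mul_inv, one_smul]
    · intro y
      obtain ⟨⟨n', s'⟩, hn'⟩ := IsLocalizedModule.surj P'.primeCompl
        (LocalizedModule.mkLinearMap P'.primeCompl N') y
      refine ⟨⟨ψ.symm n', ⟨e.symm s', ?_⟩⟩, ?_⟩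
      · rw [hmem, RingEquiv.apply_symm_apply]
        exact s'.2
      · change (e.symm (s' : R')) • y = f2 (ψ.symm n')
        rw [hf2, AddEquiv.apply_symm_apply, hsmul', RingEquiv.apply_symm_apply]
        exact hn'
    · intro x₁ x₂ h12
      rw [hf2, hf2] at h12
      obtain ⟨c, hc⟩ := (IsLocalizedModule.eq_iff_exists P'.primeCompl
        (LocalizedModule.mkLinearMap P'.primeCompl N')).mp h12
      refine ⟨⟨e.symm c, ?_⟩, ?_⟩
      · rw [hmem, RingEquiv.apply_symm_apply]
        exact c.2
      · apply ψ.injective
        change ψ (e.symm (c : R') • x₁) = ψ (e.symm (c : R') • x₂)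
        rw [hψ, hψ, RingEquiv.apply_symm_apply]
        exact hc
  exact ((Groth.Agent.Lib.Helper5.FinDimDepth.transport_aux (P'.comap (e : R →+* R')) N
    (Localization.AtPrime P') (LocalizedModule P'.primeCompl N') f2).1).symm

end Semilinear

end Groth.Agent.Lib.Helper14.Boot
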