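import Mathlib

/-!
# Completion of `J M` is `J M̂` (helper19)
-/

set_option autoImplicit false
universe u

open TensorProduct

namespace Groth.Agent.Lib.Helper19

variable (A : Type u) [CommRing A] (I : Ideal A)
variable (M : Type u) [AddCommGroup M] [Module A M]

/-- `AdicCompletion.map` of multiplication by a scalar is multiplication by that scalar. -/
theorem adicCompletion_map_smul_id (j : A) (x : AdicCompletion I M) :
    AdicCompletion.map I (j • (LinearMap.id : M →ₗ[A] M)) x = j • x := by
  apply AdicCompletion.ext
  intro n
  rw [AdicCompletion.map_val_apply, AdicCompletion.val_smul]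
  obtain ⟨m, hm⟩ := Submodule.Quotient.mk_surjective _ (x.val n)
  rw [← hm, LinearMap.reduceModIdeal_apply]
  simp only [LinearMap.smul_apply, LinearMap.id_apply, Submodule.Quotient.mk_smul]
  rw [hm]
  rfl

theorem adicCompletion_map_smul_top [IsNoetherianRing A] (J : Ideal A) [Module.Finite A M] :
    Function.Injective (AdicCompletion.map I (J • (⊤ : Submodule A M)).subtype) ∧
      LinearMap.range (AdicCompletion.map I (J • (⊤ : Submodule A M)).subtype) =
        (J.map (algebraMap A (AdicCompletion I A))) •
          (⊤ : Submodule (AdicCompletion I A) (AdicCompletion I M)) := by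
  refine ⟨AdicCompletion.map_injective I (Submodule.injective_subtype _), ?_⟩
  apply le_antisymm
  · rintro y ⟨z, rfl⟩
    obtain ⟨t, rfl⟩ := AdicCompletion.ofTensorProduct_surjective_of_finite I
      (↥(J • (⊤ : Submodule A M))) z
    have hnat := LinearMap.congr_fun (AdicCompletion.ofTensorProduct_naturality I
      (J • (⊤ : Submodule A M)).subtype) t
    simp only [LinearMap.comp_apply] at hnat
    rw [hnat]
    clear hnat
    induction t using TensorProduct.induction_on with
    | zero => simp
    | tmul r w =>
      simp only [AlgebraTensorModule.map_tmul, LinearMap.id_apply, Submodule.subtype_apply,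
        AdicCompletion.ofTensorProduct_tmul]
      apply Submodule.smul_mem
      obtain ⟨w, hw⟩ := w
      simp only
      refine Submodule.smul_induction_on hw (fun j hj m _ => ?_) (fun w₁ w₂ h₁ h₂ => ?_)
      · have : AdicCompletion.of I M (j • m) =
            algebraMap A (AdicCompletion I A) j • AdicCompletion.of I M m := by
          rw [map_smul, algebraMap_smul]
        rw [this]
        exact Submodule.smul_mem_smul (Ideal.mem_map_of_mem _ hj) Submodule.mem_top
      · rw [map_add]
        exact Submodule.add_mem _ h₁ h₂
    | add t₁ t₂ h₁ h₂ =>
      rw [map_add, map_add]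
      exact Submodule.add_mem _ h₁ h₂
  · rw [Submodule.smul_le]
    intro r hr x _
    have hle : J.map (algebraMap A (AdicCompletion I A)) ≤
        (LinearMap.range (AdicCompletion.map I (J • (⊤ : Submodule A M)).subtype)).colon
          Set.univ := by
      rw [Ideal.map_le_iff_le_comap]
      intro j hj
      rw [Ideal.mem_comap, Submodule.mem_colon]
      intro x _
      let μ : M →ₗ[A] (J • (⊤ : Submodule A M) : Submodule A M) :=
        LinearMap.codRestrict _ (j • (LinearMap.id : M →ₗ[A] M))
          (fun m => Submodule.smul_mem_smul hj Submodule.mem_top)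
      refine ⟨AdicCompletion.map I μ x, ?_⟩
      rw [AdicCompletion.map_comp_apply]
      have : (J • (⊤ : Submodule A M)).subtype ∘ₗ μ = j • (LinearMap.id : M →ₗ[A] M) := by
        ext m; rfl
      rw [this, adicCompletion_map_smul_id, algebraMap_smul]
    exact Submodule.mem_colon.mp (hle hr) x (Set.mem_univ x)

end Groth.Agent.Lib.Helper19
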