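import Mathlib
import Groth.Agent.Lib.Helper19ComplSub
import Groth.Agent.Lib.Helper19Restricted2

/-!
# Completed principal localization modulo a prime (helper14)
-/

set_option autoImplicit false
set_option linter.style.haveILetI false
universe u

namespace Groth.Agent.Lib.Helper14.ComplLoc

section transfer
variable {R : Type*} [CommRing R] (I : Ideal R) {M N : Type*} [AddCommGroup M] [Module R M]
  [AddCommGroup N] [Module R N]

theorem isAdicComplete_of_linearEquiv (e : M ≃ₗ[R] N) [IsAdicComplete I M] :
    IsAdicComplete I N := by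
  rw [← AdicCompletion.of_bijective_iff]
  have : ⇑(AdicCompletion.of I N) =
      (AdicCompletion.congr I e) ∘ (AdicCompletion.of I M) ∘ e.symm := by
    ext x
    simp only [Function.comp_apply, AdicCompletion.congr_apply, AdicCompletion.map_of,
      LinearEquiv.coe_coe, LinearEquiv.apply_symm_apply]
  rw [this]
  exact (AdicCompletion.congr I e).bijective.comp
    ((AdicCompletion.of_bijective I M).comp e.symm.bijective)

end transfer

section loc
variable (A : Type u) [CommRing A] (p : Ideal A) [p.IsPrime] (f : A)

theorem bijective_algebraMap_quotient (hf : IsUnit (Ideal.Quotient.mk p f)) :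
    Function.Bijective (algebraMap (A ⧸ p)
      (Localization.Away f ⧸ p.map (algebraMap A (Localization.Away f)))) := by
  have hunits : Algebra.algebraMapSubmonoid (A ⧸ p) (Submonoid.powers f) ≤
      IsUnit.submonoid (A ⧸ p) := by
    rintro _ ⟨_, ⟨n, rfl⟩, rfl⟩
    rw [IsUnit.mem_submonoid_iff, map_pow]
    exact hf.pow n
  let e := IsLocalization.atUnits (A ⧸ p) _
    (S := Localization.Away f ⧸ p.map (algebraMap A (Localization.Away f))) hunits
  have : ⇑(algebraMap (A ⧸ p)
      (Localization.Away f ⧸ p.map (algebraMap A (Localization.Away f)))) = e := by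
    ext x
    exact (e.commutes x).symm
  rw [this]
  exact e.bijective

end loc

section main
variable (A : Type u) [CommRing A] [IsNoetherianRing A] (I : Ideal A) [IsAdicComplete I A]
  (p : Ideal A) [p.IsPrime] (f : A)

local notation "L" => Localization.Away f
local notation "J" => Ideal.map (algebraMap A (Localization.Away f)) I
local notation "pL" => Ideal.map (algebraMap A (Localization.Away f)) p
local notation "C" =>
  AdicCompletion (Ideal.map (algebraMap A (Localization.Away f)) I) (Localization.Away f)

theorem isAdicComplete_quotient_loc (hf : IsUnit (Ideal.Quotient.mk p f)) :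
    IsAdicComplete J (L ⧸ pL) := by
  haveI h1 : IsAdicComplete (I.map (Ideal.Quotient.mk p)) (A ⧸ p) :=
    Groth.Agent.Lib.Helper19.isAdicComplete_quotient_of_isNoetherianRing A I p
  haveI h2 : IsAdicComplete I (A ⧸ p) :=
    (IsAdicComplete.map_algebraMap_iff (S := A ⧸ p) I (A ⧸ p)).mp h1
  let e : (A ⧸ p) ≃ₗ[A] (L ⧸ pL) :=
    LinearEquiv.ofBijective ((Algebra.linearMap (A ⧸ p) (L ⧸ pL)).restrictScalars A)
      (bijective_algebraMap_quotient A p f hf)
  haveI h3 : IsAdicComplete I (L ⧸ pL) := isAdicComplete_of_linearEquiv I e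
  exact (IsAdicComplete.map_algebraMap_iff (S := L) I (L ⧸ pL)).mpr h3

theorem ker_map_mkQ (c : C) :
    AdicCompletion.map J (Submodule.mkQ pL) c = 0 ↔ c ∈ p.map (algebraMap A C) := by
  have hex : Function.Exact (pL • (⊤ : Submodule L L)).subtype (Submodule.mkQ pL) := by
    intro x
    rw [Submodule.mkQ_apply, Submodule.Quotient.mk_eq_zero, ← LinearMap.coe_range, SetLike.mem_coe,
      Submodule.range_subtype, smul_eq_mul, Ideal.mul_top]
  have h1 := AdicCompletion.map_exact (I := J) (Submodule.injective_subtype _) hex
    (Submodule.mkQ_surjective _)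
  have h2 := (Groth.Agent.Lib.Helper19.adicCompletion_map_smul_top L J L pL).2
  have h3 : Ideal.map (algebraMap L C) pL = p.map (algebraMap A C) := by
    rw [Ideal.map_map]
    rfl
  rw [h1 c, ← LinearMap.coe_range, SetLike.mem_coe, h2, ← h3]
  exact Eq.to_iff (congrArg (fun S : Ideal C => c ∈ S) (Ideal.mul_top (Ideal.map (algebraMap L C) pL)))

theorem main (hf : IsUnit (Ideal.Quotient.mk p f)) :
    (p.map (algebraMap A C)).IsPrime ∧
      Function.Bijective (Ideal.quotientMap (p.map (algebraMap A C)) (algebraMap A C)
        Ideal.le_comap_map) := by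
  have hker := ker_map_mkQ A I p f
  have hψsurj : Function.Surjective (AdicCompletion.map J (Submodule.mkQ pL)) :=
    AdicCompletion.map_surjective J (Submodule.mkQ_surjective _)
  haveI := isAdicComplete_quotient_loc A I p f hf
  have hof : Function.Bijective (AdicCompletion.of J (L ⧸ pL)) := AdicCompletion.of_bijective J _
  have hθ : ∀ a : A, AdicCompletion.map J (Submodule.mkQ pL) (algebraMap A C a) =
      AdicCompletion.of J (L ⧸ pL) (algebraMap (A ⧸ p) (L ⧸ pL) (Ideal.Quotient.mk p a)) :=
    fun a => rfl
  have hbij := bijective_algebraMap_quotient A p f hf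
  have hB : Function.Bijective (Ideal.quotientMap (p.map (algebraMap A C)) (algebraMap A C)
      Ideal.le_comap_map) := by
    constructor
    · rw [injective_iff_map_eq_zero]
      intro x hx
      obtain ⟨a, rfl⟩ := Ideal.Quotient.mk_surjective x
      rw [Ideal.quotientMap_mk, Ideal.Quotient.eq_zero_iff_mem, ← hker, hθ] at hx
      have h1 := hof.1 (hx.trans (map_zero _).symm)
      exact hbij.1 (h1.trans (map_zero _).symm)
    · intro y
      obtain ⟨c, rfl⟩ := Ideal.Quotient.mk_surjective y
      obtain ⟨n, hn⟩ := hof.2 (AdicCompletion.map J (Submodule.mkQ pL) c)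
      obtain ⟨x, rfl⟩ := hbij.2 n
      obtain ⟨a, rfl⟩ := Ideal.Quotient.mk_surjective x
      refine ⟨Ideal.Quotient.mk p a, ?_⟩
      rw [Ideal.quotientMap_mk, Ideal.Quotient.eq, ← hker, map_sub, hθ, hn, sub_self]
  refine ⟨?_, hB⟩
  rw [← Ideal.Quotient.isDomain_iff_prime]
  exact MulEquiv.isDomain (A ⧸ p) (RingEquiv.ofBijective _ hB).symm.toMulEquiv

end main

end Groth.Agent.Lib.Helper14.ComplLoc
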