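import Mathlib
import Groth.Agent.Lib.Helper14RigClosed2

/-!
# Rig-closed primes along flat adic morphisms (helper14)
-/

set_option autoImplicit false
set_option linter.style.haveILetI false
universe u

namespace Groth.Agent.Lib.Helper14.RigClosed3

section A
variable (A : Type u) [CommRing A] [IsNoetherianRing A] (I : Ideal A) [IsAdicComplete I A]

/-- A prime containing `I` and a rig-closed prime is maximal. -/
theorem isMaximal_of_rigClosed_le (p : PrimeSpectrum A)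
    (hp : ¬ I ≤ p.asIdeal ∧ ∀ y : PrimeSpectrum A, p ≤ y → ¬ I ≤ y.asIdeal → y = p)
    (n : Ideal A) [n.IsPrime] (hpn : p.asIdeal ≤ n) (hIn : I ≤ n) : n.IsMaximal := by
  obtain ⟨hdim, hIp⟩ := RigClosed.one_to_five A I p hp
  haveI : Ring.KrullDimLE 1 (A ⧸ p.asIdeal) := Ring.krullDimLE_iff.mpr (by rw [hdim]; rfl)
  have hP : (n.map (Ideal.Quotient.mk p.asIdeal)).IsPrime :=
    Ideal.map_isPrime_of_surjective Ideal.Quotient.mk_surjective (by rwa [Ideal.mk_ker])
  have hP0 : n.map (Ideal.Quotient.mk p.asIdeal) ≠ ⊥ := by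
    intro e
    rw [Ideal.map_eq_bot_iff_le_ker, Ideal.mk_ker] at e
    exact hIp (hIn.trans e)
  have hPmax := hP.isMaximal_of_ne_bot hP0
  have hcomap : (n.map (Ideal.Quotient.mk p.asIdeal)).comap (Ideal.Quotient.mk p.asIdeal) = n := by
    rw [Ideal.comap_map_of_surjective _ Ideal.Quotient.mk_surjective, ← RingHom.ker_eq_comap_bot,
      Ideal.mk_ker, sup_eq_left.mpr hpn]
  rw [← hcomap]
  exact Ideal.comap_isMaximal_of_surjective _ Ideal.Quotient.mk_surjective

end A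

section B
variable (B : Type u) [CommRing B] [IsNoetherianRing B] (J : Ideal B)

/-- Every prime not containing `J` lies under a rig-closed prime. -/
theorem exists_rigClosed_ge (q₀ : PrimeSpectrum B) (h0 : ¬ J ≤ q₀.asIdeal) :
    ∃ q : PrimeSpectrum B, q₀ ≤ q ∧ ¬ J ≤ q.asIdeal ∧
      ∀ y : PrimeSpectrum B, q ≤ y → ¬ J ≤ y.asIdeal → y = q := by
  let S : Set (Ideal B) := {y | y.IsPrime ∧ q₀.asIdeal ≤ y ∧ ¬ J ≤ y}
  have hne : S.Nonempty := ⟨q₀.asIdeal, q₀.isPrime, le_rfl, h0⟩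
  obtain ⟨q, ⟨hqp, hq0, hJq⟩, hmax⟩ :=
    (IsWellFounded.wf : WellFounded ((· > ·) : Ideal B → Ideal B → Prop)).has_min S hne
  refine ⟨⟨q, hqp⟩, hq0, hJq, fun y hqy hJy => ?_⟩
  have hyS : y.asIdeal ∈ S := ⟨y.isPrime, hq0.trans hqy, hJy⟩
  have hnot := hmax y.asIdeal hyS
  have hle : q ≤ y.asIdeal := hqy
  apply PrimeSpectrum.ext
  by_contra hne'
  exact hnot (lt_of_le_of_ne hle (fun e => hne' e.symm))

end B

section main
variable (A : Type u) [CommRing A] [IsNoetherianRing A] (I : Ideal A) [IsAdicComplete I A]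
  (B : Type u) [CommRing B] [Algebra A B] [IsNoetherianRing B]
  [IsAdicComplete (I.map (algebraMap A B)) B]

theorem exists_rigClosed_over_iff [Module.Flat A B] (p : PrimeSpectrum A)
    (hp : ¬ I ≤ p.asIdeal ∧ ∀ y : PrimeSpectrum A, p ≤ y → ¬ I ≤ y.asIdeal → y = p) :
    (∃ Q : PrimeSpectrum B, (I.map (algebraMap A B)) ≤ Q.asIdeal ∧
      p.asIdeal ≤ (PrimeSpectrum.comap (algebraMap A B) Q).asIdeal ∧
      (PrimeSpectrum.comap (algebraMap A B) Q).asIdeal.IsMaximal) ↔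
    (∃ q : PrimeSpectrum B, (¬ (I.map (algebraMap A B)) ≤ q.asIdeal ∧
      ∀ y : PrimeSpectrum B, q ≤ y → ¬ (I.map (algebraMap A B)) ≤ y.asIdeal → y = q) ∧
      PrimeSpectrum.comap (algebraMap A B) q = p) := by
  constructor
  · rintro ⟨Q, hJQ, hpQ, -⟩
    haveI := Q.isPrime
    haveI := p.isPrime
    haveI : Q.asIdeal.LiesOver (Q.asIdeal.under A) := ⟨rfl⟩
    obtain ⟨P, hPQ, hPprime, hPover⟩ :=
      Ideal.exists_ideal_le_liesOver_of_le (p := p.asIdeal) (q := Q.asIdeal.under A) Q.asIdeal hpQ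
    have hPp : P.comap (algebraMap A B) = p.asIdeal := (hPover.over).symm
    have hJP : ¬ (I.map (algebraMap A B)) ≤ P := by
      intro h
      rw [Ideal.map_le_iff_le_comap, hPp] at h
      exact hp.1 h
    obtain ⟨q, hq0, hJq, hqmax⟩ := exists_rigClosed_ge B (I.map (algebraMap A B)) ⟨P, hPprime⟩ hJP
    refine ⟨q, ⟨hJq, hqmax⟩, ?_⟩
    apply hp.2
    · change p.asIdeal ≤ q.asIdeal.comap (algebraMap A B)
      rw [← hPp]
      exact Ideal.comap_mono hq0
    · intro h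
      apply hJq
      rw [Ideal.map_le_iff_le_comap]
      exact h
  · rintro ⟨q, hq, rfl⟩
    obtain ⟨m, hm, hqm⟩ := Ideal.exists_le_maximal q.asIdeal q.isPrime.ne_top
    haveI := hm.isPrime
    have hJm := RigClosed2.map_le_of_isMaximal A I B m hm
    have hpm : (PrimeSpectrum.comap (algebraMap A B) q).asIdeal ≤ m.comap (algebraMap A B) :=
      Ideal.comap_mono hqm
    refine ⟨⟨m, hm.isPrime⟩, hJm, hpm, ?_⟩
    exact isMaximal_of_rigClosed_le A I _ hp (m.comap (algebraMap A B)) hpm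
      (by rw [← Ideal.map_le_iff_le_comap]; exact hJm)

end main

end Groth.Agent.Lib.Helper14.RigClosed3
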