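import Mathlib
import Groth.Agent.Lib.Helper14RigClosed3
import Groth.Agent.Lib.Helper14ComplLoc
import Groth.Agent.Lib.Helper19ComplNoeth

/-!
# Rig-closed primes and completed principal localizations (helper14)
-/

set_option autoImplicit false
set_option linter.style.haveILetI false
universe u

namespace Groth.Agent.Lib.Helper14.RigClosed5

open Groth.Agent.Lib.Helper14

section G
variable (A : Type u) [CommRing A] (κ : Type u) [Field κ] [Algebra A κ] [Algebra.FiniteType A κ]

/-- generic Nullstellensatz: a field of finite type over `A` is integral over `A[1/f]` for some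
`f` with nonzero image. -/
theorem exists_forall_isIntegral_mul (s : Finset κ) :
    ∃ f : A, algebraMap A κ f ≠ 0 ∧ ∀ x ∈ s, IsIntegral A (algebraMap A κ f * x) := by
  classical
  let n : Ideal A := RingHom.ker (algebraMap A κ)
  letI : Algebra (A ⧸ n) κ := (RingHom.kerLift (algebraMap A κ)).toAlgebra
  haveI : IsScalarTower A (A ⧸ n) κ := IsScalarTower.of_algebraMap_eq (fun x => rfl)
  have hinj : Function.Injective (algebraMap (A ⧸ n) κ) := RingHom.kerLift_injective _
  haveI : n.IsPrime := RingHom.ker_isPrime _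
  haveI : IsDomain (A ⧸ n) := (Ideal.Quotient.isDomain_iff_prime n).mpr inferInstance
  letI : Algebra (FractionRing (A ⧸ n)) κ := (IsFractionRing.lift hinj).toAlgebra
  haveI : IsScalarTower (A ⧸ n) (FractionRing (A ⧸ n)) κ :=
    IsScalarTower.of_algebraMap_eq (fun x => (IsFractionRing.lift_algebraMap hinj x).symm)
  haveI : Algebra.FiniteType (A ⧸ n) κ := Algebra.FiniteType.of_restrictScalars_finiteType A _ κ
  haveI : Algebra.FiniteType (FractionRing (A ⧸ n)) κ :=
    Algebra.FiniteType.of_restrictScalars_finiteType (A ⧸ n) _ κ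
  haveI : Module.Finite (FractionRing (A ⧸ n)) κ := finite_of_finite_type_of_isJacobsonRing _ κ
  have halg : ∀ x : κ, IsAlgebraic (A ⧸ n) x := fun x =>
    (IsFractionRing.isAlgebraic_iff (A ⧸ n) (FractionRing (A ⧸ n)) κ).mpr
      (Algebra.IsAlgebraic.isAlgebraic x)
  haveI : Algebra.IsIntegral A (A ⧸ n) :=
    Algebra.isIntegral_of_surjective Ideal.Quotient.mk_surjective
  induction s using Finset.induction_on with
  | empty => exact ⟨1, by simp, by simp⟩
  | insert a s ha ih =>
    obtain ⟨f, hf0, hf⟩ := ih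
    obtain ⟨y, hy0, hy⟩ := (halg a).exists_integral_multiple
    obtain ⟨g, rfl⟩ := Ideal.Quotient.mk_surjective y
    have hg0 : algebraMap A κ g ≠ 0 := by
      intro h
      apply hy0
      rw [Ideal.Quotient.eq_zero_iff_mem]
      exact h
    refine ⟨f * g, ?_, ?_⟩
    · rw [map_mul]; exact mul_ne_zero hf0 hg0
    · intro x hx
      rcases Finset.mem_insert.mp hx with rfl | hx
      · have h1 : IsIntegral A (algebraMap A κ g * x) := by
          refine isIntegral_trans (R := A) (A := A ⧸ n) _ ?_
          rw [Algebra.smul_def] at hy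
          exact hy
        rw [map_mul, mul_assoc]
        exact isIntegral_algebraMap.mul h1
      · rw [map_mul, mul_comm (algebraMap A κ f), mul_assoc]
        exact isIntegral_algebraMap.mul (hf x hx)

end G

section H
variable (A : Type u) [CommRing A] (R : Type u) [CommRing R] [Algebra A R]
  (K : Type u) [CommRing K] [Algebra A K] [Algebra R K] [IsScalarTower A R K]

theorem isIntegral_of_adjoin_eq_top (f : A) (hf : IsUnit (algebraMap A R f)) (t : Set K)
    (ht : Algebra.adjoin A t = ⊤) (hint : ∀ x ∈ t, IsIntegral A (algebraMap A K f * x)) :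
    Algebra.IsIntegral R K := by
  obtain ⟨u, hu⟩ := hf
  have h1 : ∀ x ∈ t, IsIntegral R x := by
    intro x hx
    have h2 : IsIntegral R (algebraMap A K f * x) := (hint x hx).tower_top
    have h3 : x = algebraMap R K (↑u⁻¹ : R) * (algebraMap A K f * x) := by
      rw [IsScalarTower.algebraMap_apply A R K, ← hu, ← mul_assoc, ← map_mul, Units.inv_mul,
        map_one, one_mul]
    rw [h3]
    exact isIntegral_algebraMap.mul h2
  have h4 : Algebra.adjoin A t ≤ (integralClosure R K).restrictScalars A :=
    Algebra.adjoin_le fun x hx => h1 x hx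
  refine ⟨fun x => ?_⟩
  have : x ∈ Algebra.adjoin A t := by rw [ht]; trivial
  exact h4 this

end H

section uniq
variable (B : Type u) [CommRing B] [IsNoetherianRing B] (J : Ideal B) [IsAdicComplete J B]
  (q : PrimeSpectrum B)

theorem unique_maximal_over
    (hq : ¬ J ≤ q.asIdeal ∧ ∀ y : PrimeSpectrum B, q ≤ y → ¬ J ≤ y.asIdeal → y = q)
    (m₁ m₂ : Ideal B) (h₁ : m₁.IsMaximal) (h₂ : m₂.IsMaximal) (hq₁ : q.asIdeal ≤ m₁)
    (hq₂ : q.asIdeal ≤ m₂) : m₁ = m₂ := by
  obtain ⟨hdim, hJq⟩ := RigClosed.one_to_five B J q hq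
  haveI : Ring.KrullDimLE 1 (B ⧸ q.asIdeal) := Ring.krullDimLE_iff.mpr (by rw [hdim]; rfl)
  have hJ0 : J.map (Ideal.Quotient.mk q.asIdeal) ≠ ⊥ :=
    fun e => hJq ((RigClosed.map_eq_bot_iff B J q).mp e)
  haveI : IsAdicComplete (J.map (Ideal.Quotient.mk q.asIdeal)) (B ⧸ q.asIdeal) :=
    Groth.Agent.Lib.Helper19.isAdicComplete_quotient_of_isNoetherianRing B J q.asIdeal
  have hmap : ∀ m : Ideal B, m.IsMaximal → q.asIdeal ≤ m →
      (m.map (Ideal.Quotient.mk q.asIdeal)).IsMaximal := fun m hm hqm =>
    Ideal.IsMaximal.map_of_surjective_of_ker_le Ideal.Quotient.mk_surjective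
      (by rw [Ideal.mk_ker]; exact hqm)
  have hcomap : ∀ m : Ideal B, q.asIdeal ≤ m →
      (m.map (Ideal.Quotient.mk q.asIdeal)).comap (Ideal.Quotient.mk q.asIdeal) = m :=
    fun m hqm => by
      rw [Ideal.comap_map_of_surjective _ Ideal.Quotient.mk_surjective,
        ← RingHom.ker_eq_comap_bot, Ideal.mk_ker, sup_eq_left.mpr hqm]
  have := RigClosed.isMaximal_unique _ hJ0 _ _ (hmap m₁ h₁ hq₁) (hmap m₂ h₂ hq₂)
  rw [← hcomap m₁ hq₁, ← hcomap m₂ hq₂, this]

theorem isUnit_mk_of_notMem
    (hq : ¬ J ≤ q.asIdeal ∧ ∀ y : PrimeSpectrum B, q ≤ y → ¬ J ≤ y.asIdeal → y = q)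
    (m : Ideal B) (hm : m.IsMaximal) (hqm : q.asIdeal ≤ m) (g : B) (hg : g ∉ m) :
    IsUnit (Ideal.Quotient.mk q.asIdeal g) := by
  by_contra hnu
  obtain ⟨M, hM, hgM⟩ := exists_max_ideal_of_mem_nonunits hnu
  have hM' : (M.comap (Ideal.Quotient.mk q.asIdeal)).IsMaximal :=
    Ideal.comap_isMaximal_of_surjective _ Ideal.Quotient.mk_surjective
  have hqM : q.asIdeal ≤ M.comap (Ideal.Quotient.mk q.asIdeal) := by
    intro x hx
    rw [Ideal.mem_comap, Ideal.Quotient.eq_zero_iff_mem.mpr hx]
    exact zero_mem _
  have := unique_maximal_over B J q hq _ _ hM' hm hqM hqm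
  apply hg
  rw [← this]
  exact hgM

end uniq

section Ch
variable (R : Type u) [CommRing R] (K : Ideal R) (r : R)

/-- completed principal localization -/
abbrev Ch : Type u :=
  AdicCompletion (K.map (algebraMap R (Localization.Away r))) (Localization.Away r)

theorem isNoetherianRing_Ch [IsNoetherianRing R] : IsNoetherianRing (Ch R K r) :=
  Groth.Agent.Lib.Helper19.isNoetherianRing_adicCompletion _

theorem map_algebraMap_Ch :
    K.map (algebraMap R (Ch R K r)) =
      (K.map (algebraMap R (Localization.Away r))).map (algebraMap (Localization.Away r) (Ch R K r)) := by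
  rw [Ideal.map_map]
  rfl

theorem isAdicComplete_Ch [IsNoetherianRing R] :
    IsAdicComplete (K.map (algebraMap R (Ch R K r))) (Ch R K r) := by
  rw [map_algebraMap_Ch]
  exact AdicCompletion.isAdicComplete_self _ (IsNoetherian.noetherian _)

theorem isUnit_algebraMap_Ch : IsUnit (algebraMap R (Ch R K r) r) := by
  have : algebraMap R (Ch R K r) r =
      algebraMap (Localization.Away r) (Ch R K r) (algebraMap R (Localization.Away r) r) := rfl
  rw [this]
  exact (IsLocalization.Away.algebraMap_isUnit r).map _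

end Ch

section main
variable (A : Type u) [CommRing A] [IsNoetherianRing A] (I : Ideal A) [IsAdicComplete I A]
  (B : Type u) [CommRing B] [Algebra A B] [IsNoetherianRing B]
  [IsAdicComplete (I.map (algebraMap A B)) B]

section core
variable (f : A)

local notation "J" => Ideal.map (algebraMap A B) I
local notation "gg" => algebraMap A B f

theorem core (q : PrimeSpectrum B)
    (hq : (¬ J ≤ q.asIdeal ∧ ∀ y : PrimeSpectrum B, q ≤ y → ¬ J ≤ y.asIdeal → y = q))
    (m : Ideal B) (hm : m.IsMaximal) (hqm : q.asIdeal ≤ m)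
    (hftm : Algebra.FiniteType A (B ⧸ m)) (s : Finset (B ⧸ m))
    (hs : Algebra.adjoin A (s : Set (B ⧸ m)) = ⊤)
    (hfint : ∀ x ∈ s, IsIntegral A (algebraMap A (B ⧸ m) f * x))
    (hunit : IsUnit (Ideal.Quotient.mk q.asIdeal gg))
    (ψ : Ch A I f →+* Ch B J gg)
    (hψ : ψ.comp (algebraMap (Localization.Away f) (Ch A I f)) =
      (algebraMap (Localization.Away gg) (Ch B J gg)).comp
        (Localization.awayMap (algebraMap A B) f)) :
    ((q.asIdeal.map (algebraMap B (Ch B J gg))).comap ψ).IsPrime ∧
    ¬ (I.map (algebraMap A (Ch A I f))) ≤ ((q.asIdeal.map (algebraMap B (Ch B J gg))).comap ψ) ∧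
    ∀ y : PrimeSpectrum (Ch A I f),
      ((q.asIdeal.map (algebraMap B (Ch B J gg))).comap ψ) ≤ y.asIdeal →
      ¬ (I.map (algebraMap A (Ch A I f))) ≤ y.asIdeal →
      y.asIdeal = ((q.asIdeal.map (algebraMap B (Ch B J gg))).comap ψ) := by
  haveI := q.isPrime
  -- facts on the completed localizations
  haveI : IsNoetherianRing (Ch A I f) := isNoetherianRing_Ch A I f
  haveI : IsNoetherianRing (Ch B J gg) := isNoetherianRing_Ch B J gg
  haveI : IsAdicComplete (I.map (algebraMap A (Ch A I f))) (Ch A I f) := isAdicComplete_Ch A I f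
  haveI hcB : IsAdicComplete (Ideal.map (algebraMap B (Ch B J gg)) J) (Ch B J gg) :=
    isAdicComplete_Ch B J gg
  obtain ⟨hqh, hbij⟩ := ComplLoc.main B J q.asIdeal gg hunit
  -- algebra structure through ψ
  letI : Algebra (Ch A I f) (Ch B J gg) := ψ.toAlgebra
  have hcomp : ψ.comp (algebraMap A (Ch A I f)) = algebraMap A (Ch B J gg) := by
    have h1 : algebraMap A (Ch A I f) =
        (algebraMap (Localization.Away f) (Ch A I f)).comp (algebraMap A (Localization.Away f)) := rfl
    have h2 : algebraMap A (Ch B J gg) =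
        (algebraMap (Localization.Away gg) (Ch B J gg)).comp
          ((algebraMap B (Localization.Away gg)).comp (algebraMap A B)) := rfl
    rw [h1, ← RingHom.comp_assoc, hψ, RingHom.comp_assoc, h2]
    congr 1
    exact IsLocalization.map_comp _
  haveI : IsScalarTower A (Ch A I f) (Ch B J gg) :=
    IsScalarTower.of_algebraMap_eq fun x => (RingHom.congr_fun hcomp x).symm
  have hmapJ : (I.map (algebraMap A (Ch A I f))).map (algebraMap (Ch A I f) (Ch B J gg)) =
      Ideal.map (algebraMap B (Ch B J gg)) J := by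
    have e1 : (I.map (algebraMap A (Ch A I f))).map (algebraMap (Ch A I f) (Ch B J gg)) =
        I.map (algebraMap A (Ch B J gg)) :=
      (Ideal.map_map _ _).trans (by rw [← IsScalarTower.algebraMap_eq])
    have e2 : Ideal.map (algebraMap B (Ch B J gg)) J = I.map (algebraMap A (Ch B J gg)) :=
      (Ideal.map_map (algebraMap A B) (algebraMap B (Ch B J gg))).trans rfl
    rw [e1, e2]
  haveI : IsAdicComplete ((I.map (algebraMap A (Ch A I f))).map
      (algebraMap (Ch A I f) (Ch B J gg))) (Ch B J gg) := by
    rw [hmapJ]; exact hcB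
  -- `q̂` is rig-closed
  obtain ⟨hdim, hJq⟩ := RigClosed.one_to_five B J q hq
  have hqhrc := RigClosed.five_to_one (Ch B J gg)
    ((I.map (algebraMap A (Ch A I f))).map (algebraMap (Ch A I f) (Ch B J gg)))
    ⟨q.asIdeal.map (algebraMap B (Ch B J gg)), hqh⟩ ⟨by
      rw [← hdim]
      exact (ringKrullDim_eq_of_ringEquiv (RingEquiv.ofBijective _ hbij)).symm, by
      rw [hmapJ]
      intro h
      apply hJq
      intro j hj
      have h1 : algebraMap B (Ch B J gg) j ∈ q.asIdeal.map (algebraMap B (Ch B J gg)) :=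
        h (Ideal.mem_map_of_mem _ hj)
      have h2 : Ideal.quotientMap (q.asIdeal.map (algebraMap B (Ch B J gg)))
          (algebraMap B (Ch B J gg)) Ideal.le_comap_map (Ideal.Quotient.mk q.asIdeal j) = 0 := by
        rw [Ideal.quotientMap_mk, Ideal.Quotient.eq_zero_iff_mem]
        exact h1
      have h3 := hbij.1 (h2.trans (map_zero _).symm)
      exact Ideal.Quotient.eq_zero_iff_mem.mp h3⟩
  -- residue fields are finite over `Â_f`
  have h1 : ∀ mh : Ideal (Ch B J gg), mh.IsMaximal →
      q.asIdeal.map (algebraMap B (Ch B J gg)) ≤ mh →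
      Module.Finite (Ch A I f) (Ch B J gg ⧸ mh) := by
    intro mh hmh hqmh
    letI : Field (Ch B J gg ⧸ mh) := Ideal.Quotient.field mh
    let θ : B →ₐ[A] (Ch B J gg ⧸ mh) :=
      (Ideal.Quotient.mkₐ A mh).comp (IsScalarTower.toAlgHom A B (Ch B J gg))
    have hθsurj : Function.Surjective θ := by
      intro y
      obtain ⟨c, rfl⟩ := Ideal.Quotient.mk_surjective y
      obtain ⟨x, hx⟩ := hbij.2 (Ideal.Quotient.mk _ c)
      obtain ⟨b, rfl⟩ := Ideal.Quotient.mk_surjective x
      refine ⟨b, ?_⟩
      rw [Ideal.quotientMap_mk, Ideal.Quotient.eq] at hx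
      change Ideal.Quotient.mk mh (algebraMap B _ b) = Ideal.Quotient.mk mh c
      rw [Ideal.Quotient.eq]
      exact hqmh hx
    have hker : (RingHom.ker θ.toRingHom).IsMaximal :=
      RingHom.ker_isMaximal_of_surjective θ.toRingHom hθsurj
    have hqker : q.asIdeal ≤ RingHom.ker θ.toRingHom := by
      intro b hb
      rw [RingHom.mem_ker]
      change Ideal.Quotient.mk mh (algebraMap B _ b) = 0
      rw [Ideal.Quotient.eq_zero_iff_mem]
      exact hqmh (Ideal.mem_map_of_mem _ hb)
    have hkerm : RingHom.ker θ.toRingHom = m :=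
      unique_maximal_over B J q hq _ _ hker hm hqker hqm
    let θ' : (B ⧸ m) →ₐ[A] (Ch B J gg ⧸ mh) :=
      Ideal.Quotient.liftₐ m θ (fun a ha => by rw [← hkerm] at ha; exact ha)
    have hθ'surj : Function.Surjective θ' := by
      intro y
      obtain ⟨b, rfl⟩ := hθsurj y
      exact ⟨Ideal.Quotient.mk m b, rfl⟩
    haveI : Algebra.FiniteType A (Ch B J gg ⧸ mh) := Algebra.FiniteType.of_surjective θ' hθ'surj
    haveI : Algebra.FiniteType (Ch A I f) (Ch B J gg ⧸ mh) :=
      Algebra.FiniteType.of_restrictScalars_finiteType A _ _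
    haveI : Algebra.IsIntegral (Ch A I f) (Ch B J gg ⧸ mh) := by
      refine isIntegral_of_adjoin_eq_top A (Ch A I f) _ f (isUnit_algebraMap_Ch A I f)
        (θ' '' (s : Set (B ⧸ m))) ?_ ?_
      · rw [← AlgHom.map_adjoin, hs, Algebra.map_top, AlgHom.range_eq_top]
        exact hθ'surj
      · rintro _ ⟨x, hx, rfl⟩
        have := (hfint x hx).map θ'
        rwa [map_mul, AlgHom.commutes] at this
    exact Algebra.IsIntegral.finite
  have h3 := RigClosed2.finite_quotient_of_forall_maximal (Ch A I f)
    (I.map (algebraMap A (Ch A I f))) (Ch B J gg)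
    ⟨q.asIdeal.map (algebraMap B (Ch B J gg)), hqh⟩ hqhrc h1
  have hconcl := RigClosed2.rigClosed_comap_of_finite (Ch A I f) _ (Ch B J gg)
    ⟨q.asIdeal.map (algebraMap B (Ch B J gg)), hqh⟩ hqhrc h3
  refine ⟨Ideal.IsPrime.comap ψ, hconcl.1, fun y hy hIy => ?_⟩
  exact congrArg PrimeSpectrum.asIdeal (hconcl.2 y hy hIy)

end core

theorem main (hft : Algebra.FiniteType A (B ⧸ (I.map (algebraMap A B)))) (q : PrimeSpectrum B)
    (hq : (¬ (I.map (algebraMap A B)) ≤ q.asIdeal ∧ ∀ y : PrimeSpectrum B, q ≤ y →
      ¬ (I.map (algebraMap A B)) ≤ y.asIdeal → y = q)) :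
    ∃ f : A, IsUnit (Ideal.Quotient.mk q.asIdeal (algebraMap A B f)) ∧
      ∀ ψ : (AdicCompletion (I.map (algebraMap A (Localization.Away f))) (Localization.Away f)) →+*
        (AdicCompletion ((I.map (algebraMap A B)).map
          (algebraMap B (Localization.Away (algebraMap A B f))))
          (Localization.Away (algebraMap A B f))),
        ψ.comp (algebraMap (Localization.Away f)
          (AdicCompletion (I.map (algebraMap A (Localization.Away f))) (Localization.Away f))) =
        (algebraMap (Localization.Away (algebraMap A B f))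
          (AdicCompletion ((I.map (algebraMap A B)).map
            (algebraMap B (Localization.Away (algebraMap A B f))))
            (Localization.Away (algebraMap A B f)))).comp
          (Localization.awayMap (algebraMap A B) f) →
        (((q.asIdeal.map (algebraMap B (AdicCompletion ((I.map (algebraMap A B)).map
          (algebraMap B (Localization.Away (algebraMap A B f))))
          (Localization.Away (algebraMap A B f))))).comap ψ).IsPrime ∧
        ¬ (I.map (algebraMap A (AdicCompletion (I.map (algebraMap A (Localization.Away f)))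
          (Localization.Away f)))) ≤
          ((q.asIdeal.map (algebraMap B (AdicCompletion ((I.map (algebraMap A B)).map
            (algebraMap B (Localization.Away (algebraMap A B f))))
            (Localization.Away (algebraMap A B f))))).comap ψ) ∧
        ∀ y : PrimeSpectrum (AdicCompletion (I.map (algebraMap A (Localization.Away f)))
          (Localization.Away f)),
          ((q.asIdeal.map (algebraMap B (AdicCompletion ((I.map (algebraMap A B)).map
            (algebraMap B (Localization.Away (algebraMap A B f))))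
            (Localization.Away (algebraMap A B f))))).comap ψ) ≤ y.asIdeal →
          ¬ (I.map (algebraMap A (AdicCompletion (I.map (algebraMap A (Localization.Away f)))
            (Localization.Away f)))) ≤ y.asIdeal →
          y.asIdeal = ((q.asIdeal.map (algebraMap B (AdicCompletion ((I.map (algebraMap A B)).map
            (algebraMap B (Localization.Away (algebraMap A B f))))
            (Localization.Away (algebraMap A B f))))).comap ψ)) := by
  classical
  set J : Ideal B := I.map (algebraMap A B) with hJ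
  obtain ⟨m, hm, hqm⟩ := Ideal.exists_le_maximal q.asIdeal q.isPrime.ne_top
  have hJm : J ≤ m := RigClosed2.map_le_of_isMaximal A I B m hm
  letI : Field (B ⧸ m) := Ideal.Quotient.field m
  haveI : Algebra.FiniteType A (B ⧸ m) := RigClosed2.finiteType_quotient A I B hft m hJm
  obtain ⟨s, hs⟩ := (Algebra.FiniteType.out : (⊤ : Subalgebra A (B ⧸ m)).FG)
  obtain ⟨f, hf0, hfint⟩ := exists_forall_isIntegral_mul A (B ⧸ m) s
  have hfm : algebraMap A B f ∉ m := by
    intro h
    apply hf0
    change Ideal.Quotient.mk m (algebraMap A B f) = 0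
    rw [Ideal.Quotient.eq_zero_iff_mem]
    exact h
  have hunit : IsUnit (Ideal.Quotient.mk q.asIdeal (algebraMap A B f)) :=
    isUnit_mk_of_notMem B J q hq m hm hqm _ hfm
  refine ⟨f, hunit, ?_⟩
  intro ψ hψ
  exact core A I B f q hq m hm hqm inferInstance s hs hfint hunit ψ hψ

end main

end Groth.Agent.Lib.Helper14.RigClosed5
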