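import Mathlib
import Groth.Agent.Lib.Helper14RigClosed5
import Groth.Agent.Lib.Helper5LocalFlat3

/-!
# Naively rig-flat implies rig-flat over a Jacobson base (helper14)

Stacks-style: for an adic, topologically finite type map `A → B` of adic Noetherian rings with
`A/I` Jacobson, flatness of `B_q` over `A` at rig-closed primes `q` implies flatness of
`(B_{f})_{q'}` over `A_{f}` at rig-closed primes `q'` of the completed localization.
-/

set_option autoImplicit false
set_option linter.unusedVariables false
set_option linter.unusedSectionVars false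
set_option linter.style.haveILetI false
universe u

namespace Groth.Agent.Lib.Helper14.RigFlat


open TensorProduct

section quot
variable {R R' : Type u} [CommRing R] [CommRing R'] [Algebra R R'] (P : Ideal R)
  (S : Type u) [AddCommGroup S] [Module R S] [Module R' S] [IsScalarTower R R' S]

theorem tmul_smul_eq_zero (x : R' ⧸ P.map (algebraMap R R')) (d : R')
    (hd : d ∈ P.map (algebraMap R R')) (s : S) :
    x ⊗ₜ[R] (d • s) = 0 := by
  revert s
  refine Submodule.span_induction (p := fun d _ => ∀ s : S, x ⊗ₜ[R] (d • s) = 0)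
    ?_ ?_ ?_ ?_ hd
  · rintro _ ⟨p, hp, rfl⟩ s
    rw [algebraMap_smul, ← TensorProduct.smul_tmul]
    have : p • x = 0 := by
      obtain ⟨y, rfl⟩ := Ideal.Quotient.mk_surjective x
      rw [Algebra.smul_def]
      change Ideal.Quotient.mk _ (algebraMap R R' p) * _ = 0
      rw [Ideal.Quotient.eq_zero_iff_mem.mpr (Ideal.mem_map_of_mem _ hp), zero_mul]
    rw [this, TensorProduct.zero_tmul]
  · intro s; rw [zero_smul, TensorProduct.tmul_zero]
  · intro a b _ _ ha hb s
    rw [add_smul, TensorProduct.tmul_add, ha, hb, add_zero]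
  · intro t a _ ha s
    rw [smul_eq_mul, mul_comm, mul_smul]
    exact ha _

theorem compatibleSMul
    (hs : ∀ x : R', ∃ a : R, x - algebraMap R R' a ∈ P.map (algebraMap R R')) :
    TensorProduct.CompatibleSMul R R' (R' ⧸ P.map (algebraMap R R')) S := by
  refine ⟨fun r' x s => ?_⟩
  obtain ⟨a, ha⟩ := hs r'
  have h1 : r' • x = a • x := by
    obtain ⟨y, rfl⟩ := Ideal.Quotient.mk_surjective x
    rw [Algebra.smul_def, Algebra.smul_def]
    change Ideal.Quotient.mk _ r' * _ = Ideal.Quotient.mk _ (algebraMap R R' a) * _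
    rw [(Ideal.Quotient.eq).mpr ha]
  have h2 : r' • s = a • s + (r' - algebraMap R R' a) • s := by
    rw [sub_smul, algebraMap_smul]; abel
  rw [h1, h2, TensorProduct.tmul_add, tmul_smul_eq_zero P S x _ ha, add_zero,
    TensorProduct.smul_tmul]

theorem flat_quotient_tensor
    (hs : ∀ x : R', ∃ a : R, x - algebraMap R R' a ∈ P.map (algebraMap R R'))
    [Module.Flat R S] :
    Module.Flat (R' ⧸ P.map (algebraMap R R')) ((R' ⧸ P.map (algebraMap R R')) ⊗[R'] S) := by
  haveI := compatibleSMul P S hs
  exact Module.Flat.of_linearEquiv (TensorProduct.equivOfCompatibleSMul R R'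
    (R' ⧸ P.map (algebraMap R R')) (R' ⧸ P.map (algebraMap R R')) S)

end quot

section local_crit
variable {A B : Type u} [CommRing A] [CommRing B] [Algebra A B]
  (M : Type u) [AddCommGroup M] [Module B M] [Module A M] [IsScalarTower A B M]

theorem flat_of_flat_baseChange_pow [IsNoetherianRing A] [IsNoetherianRing B]
    [Module.Finite B M] (I : Ideal A) (hI : I.map (algebraMap A B) ≤ (⊥ : Ideal B).jacobson)
    (h : ∀ n : ℕ, 0 < n → Module.Flat (A ⧸ I ^ n) ((A ⧸ I ^ n) ⊗[A] M)) :
    Module.Flat A M := by
  rw [Module.Flat.iff_lTensor_injective']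
  intro J
  rw [injective_iff_map_eq_zero]
  intro z hz
  obtain ⟨⟨r, hr⟩, hrz⟩ :=
    Groth.Agent.Lib.Helper5.exists_smul_eq_self_of_lTensor_eq_zero (B := B) M I h J z hz
  have hu : IsUnit (1 - r) := by
    have := (Ideal.mem_jacobson_bot.mp (hI hr)) (-1)
    have e : r * -1 + 1 = 1 - r := by ring
    rwa [e] at this
  have h0 : (1 - r) • z = 0 := by
    rw [sub_smul, one_smul]
    exact sub_eq_zero.mpr hrz.symm
  have := congrArg (fun w => (hu.unit⁻¹ : Bˣ) • w) h0
  simpa [Units.smul_def, smul_smul] using this

end local_crit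


open Groth.Agent.Lib.Helper14 Groth.Agent.Lib.Helper14.RigClosed5

section loc
variable (A : Type u) [CommRing A] (p : Ideal A) (f : A)

theorem bijective_algebraMap_quotient (hf : IsUnit (Ideal.Quotient.mk p f)) :
    Function.Bijective (algebraMap (A ⧸ p)
      (Localization.Away f ⧸ p.map (algebraMap A (Localization.Away f)))) := by
  have hunits : Algebra.algebraMapSubmonoid (A ⧸ p) (Submonoid.powers f) ≤
      IsUnit.submonoid (A ⧸ p) := by
    rintro _ ⟨_, ⟨n, rfl⟩, rfl⟩
    rw [IsUnit.mem_submonoid_iff, map_pow]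
    exact hf.pow n
  let e := IsLocalization.atUnits (A ⧸ p) _
    (S := Localization.Away f ⧸ p.map (algebraMap A (Localization.Away f))) hunits
  have : ⇑(algebraMap (A ⧸ p)
      (Localization.Away f ⧸ p.map (algebraMap A (Localization.Away f)))) = e := by
    ext x
    exact (e.commutes x).symm
  rw [this]
  exact e.bijective

end loc

section complloc
variable (A : Type u) [CommRing A] [IsNoetherianRing A] (I : Ideal A) [IsAdicComplete I A]
  (p : Ideal A) (f : A)

local notation "L" => Localization.Away f
local notation "J" => Ideal.map (algebraMap A (Localization.Away f)) I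
local notation "pL" => Ideal.map (algebraMap A (Localization.Away f)) p
local notation "C" =>
  AdicCompletion (Ideal.map (algebraMap A (Localization.Away f)) I) (Localization.Away f)

theorem isAdicComplete_quotient_loc (hf : IsUnit (Ideal.Quotient.mk p f)) :
    IsAdicComplete J (L ⧸ pL) := by
  haveI h1 : IsAdicComplete (I.map (Ideal.Quotient.mk p)) (A ⧸ p) :=
    Groth.Agent.Lib.Helper19.isAdicComplete_quotient_of_isNoetherianRing A I p
  haveI h2 : IsAdicComplete I (A ⧸ p) :=
    (IsAdicComplete.map_algebraMap_iff (S := A ⧸ p) I (A ⧸ p)).mp h1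
  let e : (A ⧸ p) ≃ₗ[A] (L ⧸ pL) :=
    LinearEquiv.ofBijective ((Algebra.linearMap (A ⧸ p) (L ⧸ pL)).restrictScalars A)
      (bijective_algebraMap_quotient A p f hf)
  haveI h3 : IsAdicComplete I (L ⧸ pL) := ComplLoc.isAdicComplete_of_linearEquiv I e
  exact (IsAdicComplete.map_algebraMap_iff (S := L) I (L ⧸ pL)).mpr h3

theorem ker_map_mkQ (c : C) :
    AdicCompletion.map J (Submodule.mkQ pL) c = 0 ↔ c ∈ p.map (algebraMap A C) := by
  have hex : Function.Exact (pL • (⊤ : Submodule L L)).subtype (Submodule.mkQ pL) := by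
    intro x
    rw [Submodule.mkQ_apply, Submodule.Quotient.mk_eq_zero, ← LinearMap.coe_range, SetLike.mem_coe,
      Submodule.range_subtype, smul_eq_mul, Ideal.mul_top]
  have h1 := AdicCompletion.map_exact (I := J) (Submodule.injective_subtype _) hex
    (Submodule.mkQ_surjective _)
  have h2 := (Groth.Agent.Lib.Helper19.adicCompletion_map_smul_top L J L pL).2
  have h3 : Ideal.map (algebraMap L C) pL = p.map (algebraMap A C) := by
    rw [Ideal.map_map]
    rfl
  rw [h1 c, ← LinearMap.coe_range, SetLike.mem_coe, h2, ← h3]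
  exact Eq.to_iff (congrArg (fun S : Ideal C => c ∈ S) (Ideal.mul_top (Ideal.map (algebraMap L C) pL)))

/-- `A → Â_f / p Â_f` is surjective when `f` is a unit modulo `p`. -/
theorem exists_sub_mem_map (hf : IsUnit (Ideal.Quotient.mk p f)) (c : C) :
    ∃ a : A, c - algebraMap A C a ∈ p.map (algebraMap A C) := by
  have hker := ker_map_mkQ A I p f
  haveI := isAdicComplete_quotient_loc A I p f hf
  have hof : Function.Bijective (AdicCompletion.of J (L ⧸ pL)) := AdicCompletion.of_bijective J _
  have hθ : ∀ a : A, AdicCompletion.map J (Submodule.mkQ pL) (algebraMap A C a) =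
      AdicCompletion.of J (L ⧸ pL) (algebraMap (A ⧸ p) (L ⧸ pL) (Ideal.Quotient.mk p a)) :=
    fun a => rfl
  have hbij := bijective_algebraMap_quotient A p f hf
  obtain ⟨n, hn⟩ := hof.2 (AdicCompletion.map J (Submodule.mkQ pL) c)
  obtain ⟨x, rfl⟩ := hbij.2 n
  obtain ⟨a, rfl⟩ := Ideal.Quotient.mk_surjective x
  refine ⟨a, ?_⟩
  rw [← hker, map_sub, hθ, hn, sub_self]

end complloc

section unitpow
variable {A : Type u} [CommRing A] (p : Ideal A) (f : A)

theorem isUnit_mk_pow (hf : IsUnit (Ideal.Quotient.mk p f)) (n : ℕ) :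
    IsUnit (Ideal.Quotient.mk (p ^ n) f) := by
  obtain ⟨u, hu⟩ := hf.exists_right_inv
  obtain ⟨h, rfl⟩ := Ideal.Quotient.mk_surjective u
  rw [← map_mul, ← map_one (Ideal.Quotient.mk p), Ideal.Quotient.eq] at hu
  -- `(f h - 1)^n ∈ p^n`
  have h1 : (f * h - 1) ^ n ∈ p ^ n := Ideal.pow_mem_pow hu n
  have h2 : (f * h) ∣ (1 - (1 - f * h) ^ n) := by
    have := sub_dvd_pow_sub_pow (1 : A) (1 - f * h) n
    rwa [one_pow, sub_sub_cancel] at this
  obtain ⟨c, hc⟩ := h2
  rw [isUnit_iff_exists_inv]
  refine ⟨Ideal.Quotient.mk _ (h * c), ?_⟩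
  rw [← map_mul, ← map_one (Ideal.Quotient.mk (p ^ n)), Ideal.Quotient.eq]
  have e : f * (h * c) - 1 = - (1 - f * h) ^ n := by
    rw [← mul_assoc, ← hc]; ring
  rw [e]
  have h3 : (1 - f * h) ^ n = (-1) ^ n * (f * h - 1) ^ n := by
    rw [← mul_pow]; congr 1; ring
  rw [h3]
  exact (p ^ n).neg_mem (Ideal.mul_mem_left _ _ h1)

end unitpow



section Ch
variable (R : Type u) [CommRing R] [IsNoetherianRing R] (K : Ideal R) (r : R)

theorem exists_sub_mem_Ch (c : Ch R K r) :
    ∃ x : Localization.Away r, c - algebraMap (Localization.Away r) (Ch R K r) x ∈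
      K.map (algebraMap R (Ch R K r)) := by
  obtain ⟨x, hx⟩ := Ideal.Quotient.mk_surjective
    (AdicCompletion.evalOneₐ (K.map (algebraMap R (Localization.Away r))) c)
  refine ⟨x, ?_⟩
  have hker := AdicCompletion.ker_evalOneₐ_eq_map
    (I := (K.map (algebraMap R (Localization.Away r))))
    (IsNoetherian.noetherian (K.map (algebraMap R (Localization.Away r))))
  rw [map_algebraMap_Ch, ← hker, RingHom.mem_ker, map_sub, sub_eq_zero]
  change AdicCompletion.evalOneₐ _ c = AdicCompletion.evalOneₐ _ (AdicCompletion.of _ _ x)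
  rw [AdicCompletion.evalOneₐ_of, hx]

variable (A : Type u) [CommRing A] [Algebra A R]

theorem finiteType_quotient_Ch (hft : Algebra.FiniteType A (R ⧸ K)) :
    Algebra.FiniteType A (Ch R K r ⧸ K.map (algebraMap R (Ch R K r))) := by
  haveI : IsScalarTower A (R ⧸ K) (Ch R K r ⧸ K.map (algebraMap R (Ch R K r))) :=
    IsScalarTower.of_algebraMap_eq fun x => rfl
  haveI : Algebra.FiniteType (R ⧸ K) (Ch R K r ⧸ K.map (algebraMap R (Ch R K r))) := by
    let t : Ch R K r ⧸ K.map (algebraMap R (Ch R K r)) :=
      Ideal.Quotient.mk _ (algebraMap (Localization.Away r) (Ch R K r)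
        (IsLocalization.Away.invSelf r))
    refine ⟨⟨{t}, ?_⟩⟩
    rw [Finset.coe_singleton, eq_top_iff]
    rintro y -
    obtain ⟨c, rfl⟩ := Ideal.Quotient.mk_surjective y
    obtain ⟨x, hx⟩ := exists_sub_mem_Ch R K r c
    obtain ⟨n, b, hb⟩ := IsLocalization.Away.surj r x
    have hx' : x = algebraMap R (Localization.Away r) b * (IsLocalization.Away.invSelf r) ^ n := by
      rw [← hb, mul_assoc, ← mul_pow, IsLocalization.Away.mul_invSelf, one_pow, mul_one]
    have e : Ideal.Quotient.mk (K.map (algebraMap R (Ch R K r))) c =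
        algebraMap (R ⧸ K) _ (Ideal.Quotient.mk K b) * t ^ n := by
      rw [(Ideal.Quotient.eq).mpr hx, hx', map_mul, map_pow, map_mul, map_pow]
      rfl
    rw [e]
    exact Subalgebra.mul_mem _ (Subalgebra.algebraMap_mem _ _)
      (Subalgebra.pow_mem _ (Algebra.subset_adjoin (Set.mem_singleton t)) n)
  exact Algebra.FiniteType.trans hft inferInstance

end Ch


section main
variable (A : Type u) [CommRing A] [IsNoetherianRing A] (I : Ideal A) [IsAdicComplete I A]
  (B : Type u) [CommRing B] [Algebra A B] [IsNoetherianRing B]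
  [IsAdicComplete (I.map (algebraMap A B)) B]

local notation "J" => Ideal.map (algebraMap A B) I

theorem main (hft : Algebra.FiniteType A (B ⧸ J)) (hJ : IsJacobsonRing (A ⧸ I))
    (hnaive : ∀ q : PrimeSpectrum B, (¬ J ≤ q.asIdeal ∧ ∀ y : PrimeSpectrum B, q ≤ y →
      ¬ J ≤ y.asIdeal → y = q) → (algebraMap A (Localization.AtPrime q.asIdeal)).Flat)
    (f : A) (ψ : Ch A I f →+* Ch B J (algebraMap A B f))
    (hψ : ψ.comp (algebraMap (Localization.Away f) (Ch A I f)) =
      (algebraMap (Localization.Away (algebraMap A B f)) (Ch B J (algebraMap A B f))).comp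
        (Localization.awayMap (algebraMap A B) f))
    (q' : PrimeSpectrum (Ch B J (algebraMap A B f)))
    (hq' : ¬ ((Ideal.map (algebraMap B (Localization.Away (algebraMap A B f))) J).map
        (algebraMap (Localization.Away (algebraMap A B f)) (Ch B J (algebraMap A B f)))) ≤ q'.asIdeal ∧
      ∀ y : PrimeSpectrum (Ch B J (algebraMap A B f)), q' ≤ y →
        ¬ ((Ideal.map (algebraMap B (Localization.Away (algebraMap A B f))) J).map
          (algebraMap (Localization.Away (algebraMap A B f)) (Ch B J (algebraMap A B f)))) ≤ y.asIdeal →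
        y = q') :
    ((algebraMap (Ch B J (algebraMap A B f)) (Localization.AtPrime q'.asIdeal)).comp ψ).Flat := by
  classical
  haveI := q'.isPrime
  haveI : IsNoetherianRing (Ch A I f) := isNoetherianRing_Ch A I f
  haveI : IsNoetherianRing (Ch B J (algebraMap A B f)) := isNoetherianRing_Ch B J (algebraMap A B f)
  haveI : IsAdicComplete (I.map (algebraMap A (Ch A I f))) (Ch A I f) := isAdicComplete_Ch A I f
  haveI hcB : IsAdicComplete (Ideal.map (algebraMap B (Ch B J (algebraMap A B f))) J)
      (Ch B J (algebraMap A B f)) := isAdicComplete_Ch B J (algebraMap A B f)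
  letI : Algebra (Ch A I f) (Ch B J (algebraMap A B f)) := ψ.toAlgebra
  have hcomp : ψ.comp (algebraMap A (Ch A I f)) = algebraMap A (Ch B J (algebraMap A B f)) := by
    have h1 : algebraMap A (Ch A I f) =
        (algebraMap (Localization.Away f) (Ch A I f)).comp (algebraMap A (Localization.Away f)) := rfl
    have h2 : algebraMap A (Ch B J (algebraMap A B f)) =
        (algebraMap (Localization.Away (algebraMap A B f)) (Ch B J (algebraMap A B f))).comp
          ((algebraMap B (Localization.Away (algebraMap A B f))).comp (algebraMap A B)) := rfl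
    rw [h1, ← RingHom.comp_assoc, hψ, RingHom.comp_assoc, h2]
    congr 1
    exact IsLocalization.map_comp _
  haveI : IsScalarTower A (Ch A I f) (Ch B J (algebraMap A B f)) :=
    IsScalarTower.of_algebraMap_eq fun x => (RingHom.congr_fun hcomp x).symm
  have hK1 : (Ideal.map (algebraMap B (Localization.Away (algebraMap A B f))) J).map
      (algebraMap (Localization.Away (algebraMap A B f)) (Ch B J (algebraMap A B f))) =
      Ideal.map (algebraMap B (Ch B J (algebraMap A B f))) J :=
    (map_algebraMap_Ch B J (algebraMap A B f)).symm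
  have hK2 : Ideal.map (algebraMap B (Ch B J (algebraMap A B f))) J =
      I.map (algebraMap A (Ch B J (algebraMap A B f))) :=
    (Ideal.map_map (algebraMap A B) (algebraMap B (Ch B J (algebraMap A B f)))).trans rfl
  haveI hcA : IsAdicComplete (I.map (algebraMap A (Ch B J (algebraMap A B f))))
      (Ch B J (algebraMap A B f)) := by rw [← hK2]; exact hcB
  rw [hK1] at hq'
  have hq'A : ¬ I.map (algebraMap A (Ch B J (algebraMap A B f))) ≤ q'.asIdeal ∧
      ∀ y : PrimeSpectrum (Ch B J (algebraMap A B f)), q' ≤ y →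
        ¬ I.map (algebraMap A (Ch B J (algebraMap A B f))) ≤ y.asIdeal → y = q' := by
    rw [← hK2]; exact hq'
  have hftC : Algebra.FiniteType A (Ch B J (algebraMap A B f) ⧸
      I.map (algebraMap A (Ch B J (algebraMap A B f)))) := by
    have := finiteType_quotient_Ch B J (algebraMap A B f) A hft
    rw [hK2] at this
    exact this
  have hfinres : ∀ m : Ideal (Ch B J (algebraMap A B f)), m.IsMaximal →
      Module.Finite A (Ch B J (algebraMap A B f) ⧸ m) := by
    intro m hm
    apply RigClosed2.finite_quotient_of_isJacobsonRing A I _ hftC m hm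
    have hIm : I ≤ m.comap (algebraMap A (Ch B J (algebraMap A B f))) :=
      Ideal.map_le_iff_le_comap.mp (RigClosed2.map_le_of_isMaximal A I _ m hm)
    exact isJacobsonRing_of_surjective
      ⟨Ideal.Quotient.factor hIm, Ideal.Quotient.factor_surjective hIm⟩
  have h3 : Module.Finite A (Ch B J (algebraMap A B f) ⧸ q'.asIdeal) :=
    RigClosed2.finite_quotient_of_forall_maximal A I _ q' hq'A (fun m hm _ => hfinres m hm)
  have h3B : Module.Finite B (Ch B J (algebraMap A B f) ⧸ q'.asIdeal) :=
    Module.Finite.of_restrictScalars_finite A B _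
  have hq := RigClosed2.rigClosed_comap_of_finite B J _ q' hq' h3B
  have hp := RigClosed2.rigClosed_comap_of_finite A I _ q' hq'A h3
  have hflatq := hnaive _ hq
  -- `f` is a unit modulo `p`
  have hfunit : IsUnit (Ideal.Quotient.mk
      (PrimeSpectrum.comap (algebraMap A (Ch B J (algebraMap A B f))) q').asIdeal f) := by
    obtain ⟨m', hm', hq'm'⟩ := Ideal.exists_le_maximal q'.asIdeal q'.isPrime.ne_top
    haveI := hm'.isPrime
    have hn : (m'.comap (algebraMap A (Ch B J (algebraMap A B f)))).IsMaximal :=
      RigClosed3.isMaximal_of_rigClosed_le A I _ hp _ (Ideal.comap_mono hq'm')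
        (Ideal.map_le_iff_le_comap.mp (RigClosed2.map_le_of_isMaximal A I _ m' hm'))
    refine isUnit_mk_of_notMem A I _ hp _ hn (Ideal.comap_mono hq'm') f ?_
    intro hfm
    have hu : IsUnit (algebraMap A (Ch B J (algebraMap A B f)) f) :=
      isUnit_algebraMap_Ch B J (algebraMap A B f)
    exact hm'.ne_top (Ideal.eq_top_of_isUnit_mem _ hfm hu)
  -- `B → B̂` is flat
  have hBflat : (algebraMap B (Ch B J (algebraMap A B f))).Flat := by
    rw [RingHom.flat_algebraMap_iff]
    haveI : Module.Flat B (Localization.Away (algebraMap A B f)) :=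
      IsLocalization.flat _ (Submonoid.powers (algebraMap A B f))
    exact Module.Flat.trans B (Localization.Away (algebraMap A B f)) (Ch B J (algebraMap A B f))
  have hloc := RingHom.Flat.localRingHom hBflat q'.asIdeal
    (PrimeSpectrum.comap (algebraMap B (Ch B J (algebraMap A B f))) q').asIdeal rfl
  have hAS : (algebraMap A (Localization.AtPrime q'.asIdeal)).Flat := by
    have h := hflatq.comp hloc
    convert h using 1
    ext a
    have e1 := Localization.localRingHom_to_map
      (I := (PrimeSpectrum.comap (algebraMap B (Ch B J (algebraMap A B f))) q').asIdeal) q'.asIdeal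
      (algebraMap B (Ch B J (algebraMap A B f))) rfl (algebraMap A B a)
    calc algebraMap A (Localization.AtPrime q'.asIdeal) a
        = algebraMap (Ch B J (algebraMap A B f)) (Localization.AtPrime q'.asIdeal)
            (algebraMap A (Ch B J (algebraMap A B f)) a) :=
          IsScalarTower.algebraMap_apply A (Ch B J (algebraMap A B f)) _ a
      _ = algebraMap (Ch B J (algebraMap A B f)) (Localization.AtPrime q'.asIdeal)
            (algebraMap B (Ch B J (algebraMap A B f)) (algebraMap A B a)) := rfl
      _ = _ := e1.symm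
      _ = _ := by
          rw [RingHom.comp_apply]
          rfl
  haveI : Module.Flat A (Localization.AtPrime q'.asIdeal) := RingHom.flat_algebraMap_iff.mp hAS
  haveI : IsScalarTower A (Ch A I f) (Localization.AtPrime q'.asIdeal) :=
    IsScalarTower.of_algebraMap_eq fun a => by
      rw [IsScalarTower.algebraMap_apply A (Ch B J (algebraMap A B f)) (Localization.AtPrime q'.asIdeal),
        IsScalarTower.algebraMap_apply (Ch A I f) (Ch B J (algebraMap A B f))
          (Localization.AtPrime q'.asIdeal),
        ← IsScalarTower.algebraMap_apply A (Ch A I f) (Ch B J (algebraMap A B f))]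
  have hgoal : (algebraMap (Ch B J (algebraMap A B f)) (Localization.AtPrime q'.asIdeal)).comp ψ =
      algebraMap (Ch A I f) (Localization.AtPrime q'.asIdeal) :=
    (IsScalarTower.algebraMap_eq (Ch A I f) (Ch B J (algebraMap A B f))
      (Localization.AtPrime q'.asIdeal)).symm
  rw [hgoal, RingHom.flat_algebraMap_iff]
  apply flat_of_flat_baseChange_pow (A := Ch A I f) (B := Localization.AtPrime q'.asIdeal)
    (Localization.AtPrime q'.asIdeal)
    ((PrimeSpectrum.comap (algebraMap A (Ch B J (algebraMap A B f))) q').asIdeal.map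
      (algebraMap A (Ch A I f)))
  · rw [IsLocalRing.jacobson_eq_maximalIdeal ⊥ bot_ne_top, Ideal.map_le_iff_le_comap,
      Ideal.map_le_iff_le_comap]
    intro a ha
    rw [Ideal.mem_comap, Ideal.mem_comap,
      ← IsScalarTower.algebraMap_apply A (Ch A I f) (Localization.AtPrime q'.asIdeal),
      IsScalarTower.algebraMap_apply A (Ch B J (algebraMap A B f)) (Localization.AtPrime q'.asIdeal),
      IsLocalization.AtPrime.to_map_mem_maximal_iff (Localization.AtPrime q'.asIdeal) q'.asIdeal]
    exact ha
  · intro n hn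
    rw [← Ideal.map_pow]
    exact flat_quotient_tensor
      ((PrimeSpectrum.comap (algebraMap A (Ch B J (algebraMap A B f))) q').asIdeal ^ n)
      (Localization.AtPrime q'.asIdeal)
      (fun x => exists_sub_mem_map A I _ f (isUnit_mk_pow _ f hfunit n) x)

end main
end Groth.Agent.Lib.Helper14.RigFlat
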