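import Mathlib
import Groth.Agent.Lib.Helper14RigFlat
import Groth.Agent.Lib.Helper19ComplFlatMap

set_option autoImplicit false
set_option linter.unusedVariables false
set_option linter.unusedSectionVars false
set_option linter.style.haveILetI false
universe u

namespace Groth.Agent.Lib.Helper14.RigFlatComp

open Groth.Agent.Lib.Helper14 Groth.Agent.Lib.Helper14.RigClosed5

section complMap
variable {S T : Type u} [CommRing S] [CommRing T] (I : Ideal S) (K : Ideal T) (g : S →+* T)

theorem complMap_comp_algebraMap (h : I.map g ≤ K) :
    (FSch.complMap I K g h).comp (algebraMap S (AdicCompletion I S)) =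
      (algebraMap T (AdicCompletion K T)).comp g := by
  refine RingHom.ext fun s => ?_
  apply AdicCompletion.ext_evalₐ
  intro n
  rw [RingHom.comp_apply, RingHom.comp_apply, Groth.Agent.Lib.Helper19.evalₐ_complMap,
    AdicCompletion.algebraMap_apply, AdicCompletion.evalₐ_of, AdicCompletion.algebraMap_apply,
    AdicCompletion.evalₐ_of, Ideal.quotientMap_mk]
  rfl

theorem ringHom_ext_of_comp (hI : I.FG) (h : I.map g ≤ K)
    (φ₁ φ₂ : AdicCompletion I S →+* AdicCompletion K T)
    (h₁ : φ₁.comp (algebraMap S (AdicCompletion I S)) = (algebraMap T (AdicCompletion K T)).comp g)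
    (h₂ : φ₂.comp (algebraMap S (AdicCompletion I S)) = (algebraMap T (AdicCompletion K T)).comp g) :
    φ₁ = φ₂ := by
  have key : ∀ (φ : AdicCompletion I S →+* AdicCompletion K T),
      φ.comp (algebraMap S (AdicCompletion I S)) = (algebraMap T (AdicCompletion K T)).comp g →
      ∀ (n : ℕ) (y : AdicCompletion I S), y ∈ (I.map (algebraMap S (AdicCompletion I S))) ^ n →
        AdicCompletion.evalₐ K n (φ y) = 0 := by
    intro φ hφ n y hy
    apply Groth.Agent.Lib.Helper19.evalₐ_eq_zero_of_mem_map_pow
    have h1 : φ y ∈ ((I.map (algebraMap S (AdicCompletion I S))) ^ n).map φ :=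
      Ideal.mem_map_of_mem _ hy
    rw [Ideal.map_pow, Ideal.map_map, hφ, ← Ideal.map_map] at h1
    exact Ideal.pow_right_mono (Ideal.map_mono h) n h1
  refine RingHom.ext fun x => ?_
  apply AdicCompletion.ext_evalₐ
  intro n
  obtain ⟨s, hs⟩ := Groth.Agent.Lib.Helper19.exists_sub_of_mem_map_pow I hI n x
  have e : x = (x - algebraMap S (AdicCompletion I S) s) + algebraMap S (AdicCompletion I S) s := by
    ring
  rw [e, map_add, map_add, map_add, map_add, key φ₁ h₁ n _ hs, key φ₂ h₂ n _ hs]
  congr 2
  exact (RingHom.congr_fun h₁ s).trans (RingHom.congr_fun h₂ s).symm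

end complMap

/-- rig-closed primes (shorthand; unfolds reducibly) -/
abbrev RC {R : Type u} [CommRing R] (K : Ideal R) (q : PrimeSpectrum R) : Prop :=
  ¬ K ≤ q.asIdeal ∧ ∀ y : PrimeSpectrum R, q ≤ y → ¬ K ≤ y.asIdeal → y = q

section main
variable (A : Type u) [CommRing A] [IsNoetherianRing A] (I : Ideal A)
  (B : Type u) [CommRing B] [Algebra A B] [IsNoetherianRing B]
  (C : Type u) [CommRing C] [Algebra A C] [Algebra B C] [IsScalarTower A B C] [IsNoetherianRing C]

set_option maxHeartbeats 1600000 in
theorem main'
    (hAB : ∀ f : A, ∀ ψf : Ch A I f →+* Ch B (I.map (algebraMap A B)) (algebraMap A B f),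
      ψf.comp (algebraMap (Localization.Away f) (Ch A I f)) =
        (algebraMap (Localization.Away (algebraMap A B f))
          (Ch B (I.map (algebraMap A B)) (algebraMap A B f))).comp
          (Localization.awayMap (algebraMap A B) f) →
      ∀ qf : PrimeSpectrum (Ch B (I.map (algebraMap A B)) (algebraMap A B f)),
        RC (((I.map (algebraMap A B)).map
          (algebraMap B (Localization.Away (algebraMap A B f)))).map
          (algebraMap (Localization.Away (algebraMap A B f))
            (Ch B (I.map (algebraMap A B)) (algebraMap A B f)))) qf →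
        ((algebraMap (Ch B (I.map (algebraMap A B)) (algebraMap A B f))
          (Localization.AtPrime qf.asIdeal)).comp ψf).Flat)
    (hBC : ∀ g : B, ∀ ψg : Ch B (I.map (algebraMap A B)) g →+*
        Ch C ((I.map (algebraMap A B)).map (algebraMap B C)) (algebraMap B C g),
      ψg.comp (algebraMap (Localization.Away g) (Ch B (I.map (algebraMap A B)) g)) =
        (algebraMap (Localization.Away (algebraMap B C g))
          (Ch C ((I.map (algebraMap A B)).map (algebraMap B C)) (algebraMap B C g))).comp
          (Localization.awayMap (algebraMap B C) g) →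
      ∀ qg : PrimeSpectrum (Ch C ((I.map (algebraMap A B)).map (algebraMap B C)) (algebraMap B C g)),
        RC ((((I.map (algebraMap A B)).map (algebraMap B C)).map
          (algebraMap C (Localization.Away (algebraMap B C g)))).map
          (algebraMap (Localization.Away (algebraMap B C g))
            (Ch C ((I.map (algebraMap A B)).map (algebraMap B C)) (algebraMap B C g)))) qg →
        ((algebraMap (Ch C ((I.map (algebraMap A B)).map (algebraMap B C)) (algebraMap B C g))
          (Localization.AtPrime qg.asIdeal)).comp ψg).Flat)
    (e : A) (c : C) (hc : algebraMap B C (algebraMap A B e) = c)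
    (K : Ideal C) (hK : (I.map (algebraMap A B)).map (algebraMap B C) = K)
    (θ : Localization.Away e →+* Localization.Away c)
    (hθ : θ.comp (algebraMap A (Localization.Away e)) =
      (algebraMap C (Localization.Away c)).comp (algebraMap A C))
    (ψe : Ch A I e →+* Ch C K c)
    (hψe : ψe.comp (algebraMap (Localization.Away e) (Ch A I e)) =
      (algebraMap (Localization.Away c) (Ch C K c)).comp θ)
    (qe : PrimeSpectrum (Ch C K c))
    (hqe : RC ((K.map (algebraMap C (Localization.Away c))).map
        (algebraMap (Localization.Away c) (Ch C K c))) qe) :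
    ((algebraMap (Ch C K c) (Localization.AtPrime qe.asIdeal)).comp ψe).Flat := by
  subst hc hK
  haveI := qe.isPrime
  -- the canonical maps of completed localizations
  have hle_AB : (I.map (algebraMap A (Localization.Away e))).map
      (Localization.awayMap (algebraMap A B) e) ≤
      (I.map (algebraMap A B)).map (algebraMap B (Localization.Away (algebraMap A B e))) := by
    have h1 : (Localization.awayMap (algebraMap A B) e).comp (algebraMap A (Localization.Away e)) =
        (algebraMap B (Localization.Away (algebraMap A B e))).comp (algebraMap A B) :=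
      IsLocalization.map_comp _
    rw [Ideal.map_map, Ideal.map_map, h1]
  have hle_BC : ((I.map (algebraMap A B)).map
      (algebraMap B (Localization.Away (algebraMap A B e)))).map
      (Localization.awayMap (algebraMap B C) (algebraMap A B e)) ≤
      ((I.map (algebraMap A B)).map (algebraMap B C)).map
        (algebraMap C (Localization.Away (algebraMap B C (algebraMap A B e)))) := by
    have h2 : (Localization.awayMap (algebraMap B C) (algebraMap A B e)).comp
        (algebraMap B (Localization.Away (algebraMap A B e))) =
        (algebraMap C (Localization.Away (algebraMap B C (algebraMap A B e)))).comp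
          (algebraMap B C) :=
      IsLocalization.map_comp _
    rw [Ideal.map_map (algebraMap B (Localization.Away (algebraMap A B e))), h2,
      ← Ideal.map_map (algebraMap B C)]
  obtain ⟨ψAB, hψAB⟩ : ∃ ψ : Ch A I e →+* Ch B (I.map (algebraMap A B)) (algebraMap A B e),
      ψ = FSch.complMap _ _ (Localization.awayMap (algebraMap A B) e) hle_AB := ⟨_, rfl⟩
  obtain ⟨ψBC, hψBC⟩ : ∃ ψ : Ch B (I.map (algebraMap A B)) (algebraMap A B e) →+*
      Ch C ((I.map (algebraMap A B)).map (algebraMap B C)) (algebraMap B C (algebraMap A B e)),
      ψ = FSch.complMap _ _ (Localization.awayMap (algebraMap B C) (algebraMap A B e)) hle_BC :=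
    ⟨_, rfl⟩
  have hAB' : ψAB.comp (algebraMap (Localization.Away e) (Ch A I e)) =
      (algebraMap (Localization.Away (algebraMap A B e))
        (Ch B (I.map (algebraMap A B)) (algebraMap A B e))).comp
        (Localization.awayMap (algebraMap A B) e) := by
    rw [hψAB]; exact complMap_comp_algebraMap _ _ _ hle_AB
  have hBC' : ψBC.comp (algebraMap (Localization.Away (algebraMap A B e))
        (Ch B (I.map (algebraMap A B)) (algebraMap A B e))) =
      (algebraMap (Localization.Away (algebraMap B C (algebraMap A B e)))
        (Ch C ((I.map (algebraMap A B)).map (algebraMap B C))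
          (algebraMap B C (algebraMap A B e)))).comp
        (Localization.awayMap (algebraMap B C) (algebraMap A B e)) := by
    rw [hψBC]; exact complMap_comp_algebraMap _ _ _ hle_BC
  have hθ' : θ = (Localization.awayMap (algebraMap B C) (algebraMap A B e)).comp
      (Localization.awayMap (algebraMap A B) e) := by
    apply IsLocalization.ringHom_ext (Submonoid.powers e)
    have h1 : (Localization.awayMap (algebraMap A B) e).comp (algebraMap A (Localization.Away e)) =
        (algebraMap B (Localization.Away (algebraMap A B e))).comp (algebraMap A B) :=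
      IsLocalization.map_comp _
    have h2 : (Localization.awayMap (algebraMap B C) (algebraMap A B e)).comp
        (algebraMap B (Localization.Away (algebraMap A B e))) =
        (algebraMap C (Localization.Away (algebraMap B C (algebraMap A B e)))).comp
          (algebraMap B C) :=
      IsLocalization.map_comp _
    rw [hθ, RingHom.comp_assoc, h1, ← RingHom.comp_assoc, h2, RingHom.comp_assoc,
      ← IsScalarTower.algebraMap_eq A B C]
  have hψ : ψe = ψBC.comp ψAB := by
    refine ringHom_ext_of_comp _ _ θ (IsNoetherian.noetherian _) ?_ ψe _ hψe ?_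
    · rw [hθ', ← Ideal.map_map]
      exact (Ideal.map_mono hle_AB).trans hle_BC
    · rw [RingHom.comp_assoc, hAB', ← RingHom.comp_assoc, hBC', RingHom.comp_assoc, hθ']
  have hflat_BC := hBC (algebraMap A B e) ψBC hBC' qe hqe
  -- the prime of `B̂` below `qe`
  have hKC : ((I.map (algebraMap A B)).map
      (algebraMap B (Localization.Away (algebraMap A B e)))).map
      (algebraMap (Localization.Away (algebraMap A B e))
        (Ch B (I.map (algebraMap A B)) (algebraMap A B e))) ≤
      qe.asIdeal.comap ψBC →
      (((I.map (algebraMap A B)).map (algebraMap B C)).map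
        (algebraMap C (Localization.Away (algebraMap B C (algebraMap A B e))))).map
        (algebraMap (Localization.Away (algebraMap B C (algebraMap A B e)))
          (Ch C ((I.map (algebraMap A B)).map (algebraMap B C))
            (algebraMap B C (algebraMap A B e)))) ≤ qe.asIdeal := by
    intro hle
    have h2 : (Localization.awayMap (algebraMap B C) (algebraMap A B e)).comp
        (algebraMap B (Localization.Away (algebraMap A B e))) =
        (algebraMap C (Localization.Away (algebraMap B C (algebraMap A B e)))).comp
          (algebraMap B C) :=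
      IsLocalization.map_comp _
    rw [← Ideal.map_le_iff_le_comap,
      Ideal.map_map (algebraMap (Localization.Away (algebraMap A B e))
        (Ch B (I.map (algebraMap A B)) (algebraMap A B e))) ψBC, hBC',
      ← Ideal.map_map (Localization.awayMap (algebraMap B C) (algebraMap A B e)),
      Ideal.map_map (algebraMap B (Localization.Away (algebraMap A B e)))
        (Localization.awayMap (algebraMap B C) (algebraMap A B e)), h2,
      ← Ideal.map_map (algebraMap B C)] at hle
    exact hle
  haveI : IsNoetherianRing (Ch B (I.map (algebraMap A B)) (algebraMap A B e)) :=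
    isNoetherianRing_Ch B _ _
  obtain ⟨qB, hpqB, hqB⟩ := RigClosed3.exists_rigClosed_ge
    (Ch B (I.map (algebraMap A B)) (algebraMap A B e))
    (((I.map (algebraMap A B)).map
      (algebraMap B (Localization.Away (algebraMap A B e)))).map
      (algebraMap (Localization.Away (algebraMap A B e))
        (Ch B (I.map (algebraMap A B)) (algebraMap A B e))))
    ⟨qe.asIdeal.comap ψBC, inferInstance⟩ (fun hle => hqe.1 (hKC hle))
  have hflat_AB := hAB e ψAB hAB' qB hqB
  haveI := qB.isPrime
  letI algBT : Algebra (Ch B (I.map (algebraMap A B)) (algebraMap A B e))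
      (Localization.AtPrime qe.asIdeal) :=
    ((algebraMap (Ch C ((I.map (algebraMap A B)).map (algebraMap B C))
      (algebraMap B C (algebraMap A B e))) (Localization.AtPrime qe.asIdeal)).comp ψBC).toAlgebra
  letI algAL : Algebra (Ch A I e) (Localization.AtPrime qB.asIdeal) :=
    ((algebraMap (Ch B (I.map (algebraMap A B)) (algebraMap A B e))
      (Localization.AtPrime qB.asIdeal)).comp ψAB).toAlgebra
  letI algAT : Algebra (Ch A I e) (Localization.AtPrime qe.asIdeal) :=
    ((algebraMap (Ch C ((I.map (algebraMap A B)).map (algebraMap B C))
      (algebraMap B C (algebraMap A B e))) (Localization.AtPrime qe.asIdeal)).comp ψe).toAlgebra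
  have hunits : ∀ y : qB.asIdeal.primeCompl,
      IsUnit (algebraMap (Ch B (I.map (algebraMap A B)) (algebraMap A B e))
        (Localization.AtPrime qe.asIdeal) y) := by
    intro y
    have hy : ψBC y ∈ qe.asIdeal.primeCompl := fun hmem => y.2 (hpqB hmem)
    exact IsLocalization.map_units (Localization.AtPrime qe.asIdeal) ⟨ψBC y, hy⟩
  letI algLT : Algebra (Localization.AtPrime qB.asIdeal) (Localization.AtPrime qe.asIdeal) :=
    (IsLocalization.lift hunits).toAlgebra
  haveI : IsScalarTower (Ch B (I.map (algebraMap A B)) (algebraMap A B e))
      (Localization.AtPrime qB.asIdeal) (Localization.AtPrime qe.asIdeal) :=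
    IsScalarTower.of_algebraMap_eq fun b => (IsLocalization.lift_eq hunits b).symm
  haveI : IsScalarTower (Ch A I e)
      (Localization.AtPrime qB.asIdeal) (Localization.AtPrime qe.asIdeal) :=
    IsScalarTower.of_algebraMap_eq fun a => by
      change algebraMap _ (Localization.AtPrime qe.asIdeal) (ψe a) =
        IsLocalization.lift hunits (algebraMap _ (Localization.AtPrime qB.asIdeal) (ψAB a))
      rw [IsLocalization.lift_eq, hψ]
      rfl
  haveI hBT : Module.Flat (Ch B (I.map (algebraMap A B)) (algebraMap A B e))
      (Localization.AtPrime qe.asIdeal) := hflat_BC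
  haveI hLT : Module.Flat (Localization.AtPrime qB.asIdeal) (Localization.AtPrime qe.asIdeal) :=
    (Module.flat_iff_of_isLocalization (Localization.AtPrime qB.asIdeal)
      qB.asIdeal.primeCompl (Localization.AtPrime qe.asIdeal)).mpr hBT
  haveI hAL : Module.Flat (Ch A I e) (Localization.AtPrime qB.asIdeal) := hflat_AB
  exact Module.Flat.trans (Ch A I e) (Localization.AtPrime qB.asIdeal)
    (Localization.AtPrime qe.asIdeal)

end main

end Groth.Agent.Lib.Helper14.RigFlatComp
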