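import Mathlib
import Groth.Agent.Lib.Helper14RigFlatComp
import Groth.Agent.Lib.Helper19ComplFlatMap

/-!
# Isomorphisms of adic completions from levelwise bijections (helper14)
-/

set_option autoImplicit false
set_option linter.unusedVariables false
set_option linter.unusedSectionVars false
set_option linter.style.haveILetI false
universe u

namespace Groth.Agent.Lib.Helper14.ComplEquiv

section ring
variable {S T : Type u} [CommRing S] [CommRing T] (I : Ideal S) (K : Ideal T) (g : S →+* T)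
  (h : I.map g ≤ K)

theorem complMap_injective (hinj : ∀ n, ∀ s : S, g s ∈ K ^ n → s ∈ I ^ n) :
    Function.Injective (FSch.complMap I K g h) := by
  rw [injective_iff_map_eq_zero]
  intro x hx
  apply AdicCompletion.ext_evalₐ
  intro n
  have h1 := congrArg (AdicCompletion.evalₐ K n) hx
  rw [Groth.Agent.Lib.Helper19.evalₐ_complMap, map_zero] at h1
  obtain ⟨s, hs⟩ := Ideal.Quotient.mk_surjective (AdicCompletion.evalₐ I n x)
  rw [← hs, Ideal.quotientMap_mk, Ideal.Quotient.eq_zero_iff_mem] at h1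
  rw [← hs, map_zero, Ideal.Quotient.eq_zero_iff_mem]
  exact hinj n s h1

theorem complMap_surjective (hinj : ∀ n, ∀ s : S, g s ∈ K ^ n → s ∈ I ^ n)
    (hsurj : ∀ n, ∀ t : T, ∃ s : S, t - g s ∈ K ^ n) :
    Function.Surjective (FSch.complMap I K g h) := by
  intro y
  obtain ⟨tseq, rfl⟩ := AdicCompletion.mk_surjective K T y
  choose s hs using fun n => hsurj n (tseq n)
  have hcau : ∀ n, s n ≡ s (n + 1) [SMOD (I ^ n • ⊤ : Submodule S S)] := by
    intro n
    rw [SModEq.sub_mem, smul_eq_mul, Ideal.mul_top]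
    apply hinj n
    have h1 : tseq n - tseq (n + 1) ∈ K ^ n := by
      have := tseq.2 (Nat.le_succ n)
      rw [SModEq.sub_mem, smul_eq_mul, Ideal.mul_top] at this
      exact this
    have h2 : tseq (n + 1) - g (s (n + 1)) ∈ K ^ n :=
      Ideal.pow_le_pow_right (Nat.le_succ n) (hs (n + 1))
    have e : g (s n - s (n + 1)) =
        (tseq n - tseq (n + 1)) + (tseq (n + 1) - g (s (n + 1))) - (tseq n - g (s n)) := by
      rw [map_sub]; ring
    rw [e]
    exact (K ^ n).sub_mem ((K ^ n).add_mem h1 h2) (hs n)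
  refine ⟨AdicCompletion.mk I S (AdicCompletion.AdicCauchySequence.mk I S s hcau), ?_⟩
  apply AdicCompletion.ext_evalₐ
  intro n
  rw [Groth.Agent.Lib.Helper19.evalₐ_complMap, AdicCompletion.evalₐ_mk, AdicCompletion.evalₐ_mk,
    Ideal.quotientMap_mk, Ideal.Quotient.eq]
  have := hs n
  rw [← neg_sub]
  exact (K ^ n).neg_mem this

end ring

section alg
variable {A : Type u} [CommRing A] (I : Ideal A) {R S : Type u} [CommRing R] [CommRing S]
  [Algebra A R] [Algebra A S]

/-- levelwise surjectivity and injectivity of an algebra map modulo powers of `I`. -/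
def LevelBij (ρ : R →ₐ[A] S) : Prop :=
  (∀ n, ∀ s : S, ∃ r : R, s - ρ r ∈ (I.map (algebraMap A S)) ^ n) ∧
    (∀ n, ∀ r : R, ρ r ∈ (I.map (algebraMap A S)) ^ n → r ∈ (I.map (algebraMap A R)) ^ n)

theorem map_le (ρ : R →ₐ[A] S) :
    (I.map (algebraMap A R)).map ρ.toRingHom ≤ I.map (algebraMap A S) := by
  rw [Ideal.map_map]
  have : ρ.toRingHom.comp (algebraMap A R) = algebraMap A S := ρ.comp_algebraMap
  rw [this]

theorem nonempty_algEquiv_of_levelBij (ρ : R →ₐ[A] S) (hρ : LevelBij I ρ) :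
    Nonempty (AdicCompletion (I.map (algebraMap A R)) R ≃ₐ[A]
      AdicCompletion (I.map (algebraMap A S)) S) := by
  have hbij : Function.Bijective (FSch.complMap (I.map (algebraMap A R)) (I.map (algebraMap A S))
      ρ.toRingHom (map_le I ρ)) :=
    ⟨complMap_injective _ _ _ _ hρ.2, complMap_surjective _ _ _ _ hρ.2 hρ.1⟩
  refine ⟨AlgEquiv.ofBijective (AlgHom.mk (FSch.complMap (I.map (algebraMap A R))
    (I.map (algebraMap A S)) ρ.toRingHom (map_le I ρ)) ?_) hbij⟩
  intro a
  rw [AdicCompletion.algebraMap_apply, AdicCompletion.algebraMap_apply]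
  have := RingHom.congr_fun (Groth.Agent.Lib.Helper14.RigFlatComp.complMap_comp_algebraMap
    (I.map (algebraMap A R)) (I.map (algebraMap A S)) ρ.toRingHom (map_le I ρ)) (algebraMap A R a)
  rw [RingHom.comp_apply, RingHom.comp_apply, AdicCompletion.algebraMap_apply,
    AdicCompletion.algebraMap_apply, Algebra.algebraMap_self, Algebra.algebraMap_self,
    RingHom.id_apply, RingHom.id_apply] at this
  refine this.trans ?_
  congr 1
  exact ρ.commutes a

/-- Passing to quotients by corresponding ideals preserves levelwise bijectivity. -/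
theorem levelBij_quotient (ρ : R →ₐ[A] S) (hρ : LevelBij I ρ) (J' : Ideal R) (J : Ideal S)
    (hJ : J = J'.map ρ.toRingHom) (hle : J' ≤ J.comap ρ) :
    LevelBij I (Ideal.quotientMapₐ J ρ hle) := by
  have hmapS : ∀ n, (I.map (algebraMap A (S ⧸ J))) ^ n =
      ((I.map (algebraMap A S)) ^ n).map (Ideal.Quotient.mk J) := by
    intro n
    rw [Ideal.map_pow, Ideal.map_map]
    rfl
  have hmapR : ∀ n, (I.map (algebraMap A (R ⧸ J'))) ^ n =
      ((I.map (algebraMap A R)) ^ n).map (Ideal.Quotient.mk J') := by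
    intro n
    rw [Ideal.map_pow, Ideal.map_map]
    rfl
  refine ⟨?_, ?_⟩
  · intro n t
    obtain ⟨s, rfl⟩ := Ideal.Quotient.mk_surjective t
    obtain ⟨r, hr⟩ := hρ.1 n s
    refine ⟨Ideal.Quotient.mk J' r, ?_⟩
    rw [hmapS]
    have : Ideal.Quotient.mk J s - Ideal.quotientMapₐ J ρ hle (Ideal.Quotient.mk J' r) =
        Ideal.Quotient.mk J (s - ρ r) := by
      rw [map_sub]; rfl
    rw [this]
    exact Ideal.mem_map_of_mem _ hr
  · intro n b hb
    obtain ⟨r, rfl⟩ := Ideal.Quotient.mk_surjective b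
    rw [hmapS] at hb
    rw [hmapR]
    have hb' : Ideal.Quotient.mk J (ρ r) ∈
        ((I.map (algebraMap A S)) ^ n).map (Ideal.Quotient.mk J) := hb
    -- ρ r ∈ L + J
    have h1 : ρ r ∈ ((I.map (algebraMap A S)) ^ n) ⊔ J := by
      have := Ideal.mem_comap.mpr hb'
      rw [Ideal.comap_map_of_surjective _ Ideal.Quotient.mk_surjective] at this
      rw [← RingHom.ker_eq_comap_bot, Ideal.mk_ker] at this
      exact this
    obtain ⟨t, ht, y, hy, hty⟩ := Submodule.mem_sup.mp h1
    -- approximate y ∈ J by an element of J'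
    have key : ∀ y ∈ J, ∃ c ∈ J', y - ρ c ∈ (I.map (algebraMap A S)) ^ n := by
      intro y hy
      rw [hJ] at hy
      refine Submodule.span_induction (p := fun y _ => ∃ c ∈ J', y - ρ c ∈
        (I.map (algebraMap A S)) ^ n) ?_ ?_ ?_ ?_ hy
      · rintro _ ⟨c, hc, rfl⟩
        exact ⟨c, hc, by
          change ρ c - ρ c ∈ _
          rw [sub_self]; exact Ideal.zero_mem _⟩
      · exact ⟨0, J'.zero_mem, by rw [map_zero, sub_zero]; exact Ideal.zero_mem _⟩
      · rintro y₁ y₂ _ _ ⟨c₁, hc₁, h₁⟩ ⟨c₂, hc₂, h₂⟩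
        refine ⟨c₁ + c₂, J'.add_mem hc₁ hc₂, ?_⟩
        have e : y₁ + y₂ - ρ (c₁ + c₂) = (y₁ - ρ c₁) + (y₂ - ρ c₂) := by rw [map_add]; ring
        rw [e]
        exact Ideal.add_mem _ h₁ h₂
      · rintro a y _ ⟨c, hc, h₁⟩
        obtain ⟨ca, hca⟩ := hρ.1 n a
        refine ⟨ca * c, J'.mul_mem_left _ hc, ?_⟩
        have e : a • y - ρ (ca * c) = a * (y - ρ c) + (a - ρ ca) * ρ c := by
          rw [map_mul, smul_eq_mul]; ring
        rw [e]
        exact Ideal.add_mem _ (Ideal.mul_mem_left _ _ h₁) (Ideal.mul_mem_right _ _ hca)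
    obtain ⟨c, hc, hyc⟩ := key y hy
    have h2 : ρ (r - c) ∈ (I.map (algebraMap A S)) ^ n := by
      have e : ρ (r - c) = t + (y - ρ c) := by rw [map_sub, ← hty]; ring
      rw [e]
      exact Ideal.add_mem _ ht hyc
    have h3 := hρ.2 n _ h2
    have e : Ideal.Quotient.mk J' r = Ideal.Quotient.mk J' (r - c) := by
      rw [map_sub, Ideal.Quotient.eq_zero_iff_mem.mpr hc, sub_zero]
    rw [e]
    exact Ideal.mem_map_of_mem _ h3

end alg

end Groth.Agent.Lib.Helper14.ComplEquiv
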