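import Mathlib
import Groth.Agent.Lib.Helper14BootE
import Groth.Agent.Lib.Helper14ComplEquiv
import Groth.Agent.Lib.Helper28IAdicLocal

/-! # Bootstrap: `A_{q₀} → Â_q` is bijective modulo powers of `I` (helper14) -/

set_option autoImplicit false
set_option linter.unusedVariables false
set_option linter.unusedSectionVars false
set_option linter.style.haveILetI false
set_option maxHeartbeats 400000

universe u

namespace Groth.Agent.Lib.Helper14.Boot

open Groth.Agent.Lib.Helper28 Groth.Agent.Lib.Helper14.ComplEquiv

section Level

variable {A : Type u} [CommRing A] [IsNoetherianRing A] (I : Ideal A)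

/-- elements of the completion are congruent to elements of `A` modulo `I^n Â` -/
theorem exists_sub_mem_map_pow_adicCompletion (n : ℕ) (x : AdicCompletion I A) :
    ∃ a : A, x - algebraMap A (AdicCompletion I A) a ∈
      (I ^ n).map (algebraMap A (AdicCompletion I A)) := by
  obtain ⟨a, ha⟩ := exists_sub_of_mem_pow_smul_top I (IsNoetherian.noetherian _) n x
  refine ⟨a, ?_⟩
  rw [← Submodule.restrictScalars_mem A, ← Ideal.smul_top_eq_map]
  exact ha

variable (q : Ideal (AdicCompletion I A)) [hqp : q.IsPrime]
  [alg : Algebra (Localization.AtPrime (q.comap (algebraMap A (AdicCompletion I A))))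
    (Localization.AtPrime q)]
  [hloc : IsLocalHom (algebraMap (Localization.AtPrime (q.comap (algebraMap A (AdicCompletion I A))))
    (Localization.AtPrime q))]
  [hflat : Module.Flat (Localization.AtPrime (q.comap (algebraMap A (AdicCompletion I A))))
    (Localization.AtPrime q)]
  [htower : IsScalarTower A (Localization.AtPrime (q.comap (algebraMap A (AdicCompletion I A))))
    (Localization.AtPrime q)]

theorem levelBij_localization_adicCompletion
    (hq : I.map (algebraMap A (AdicCompletion I A)) ≤ q) :
    LevelBij I (IsScalarTower.toAlgHom A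
      (Localization.AtPrime (q.comap (algebraMap A (AdicCompletion I A))))
      (Localization.AtPrime q)) := by
  set m := q.comap (algebraMap A (AdicCompletion I A)) with hm
  have hpowL' : ∀ n : ℕ, (I.map (algebraMap A (Localization.AtPrime q))) ^ n =
      ((I ^ n).map (algebraMap A (AdicCompletion I A))).map
        (algebraMap (AdicCompletion I A) (Localization.AtPrime q)) := by
    intro n
    rw [Ideal.map_map, ← IsScalarTower.algebraMap_eq, Ideal.map_pow]
  refine ⟨?_, ?_⟩
  · intro n b
    obtain ⟨⟨x, s⟩, rfl⟩ := IsLocalization.mk'_surjective q.primeCompl b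
    obtain ⟨a₁, ha₁⟩ := exists_sub_mem_map_pow_adicCompletion I n x
    obtain ⟨a₂, ha₂⟩ := exists_sub_mem_map_pow_adicCompletion I (n + 1) (s : AdicCompletion I A)
    have hle1 : (I ^ (n + 1)).map (algebraMap A (AdicCompletion I A)) ≤ q :=
      (Ideal.map_mono (Ideal.pow_le_self (Nat.succ_ne_zero n))).trans hq
    have hle2 : (I ^ (n + 1)).map (algebraMap A (AdicCompletion I A)) ≤
        (I ^ n).map (algebraMap A (AdicCompletion I A)) :=
      Ideal.map_mono (Ideal.pow_le_pow_right (Nat.le_succ n))
    have ha₂m : a₂ ∈ m.primeCompl := by
      intro hmem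
      have h3 : algebraMap A (AdicCompletion I A) a₂ ∈ q := hmem
      have := q.add_mem (hle1 ha₂) h3
      rw [sub_add_cancel] at this
      exact s.2 this
    refine ⟨IsLocalization.mk' _ a₁ ⟨a₂, ha₂m⟩, ?_⟩
    have hu1 : IsUnit (algebraMap (AdicCompletion I A) (Localization.AtPrime q) s) :=
      IsLocalization.map_units _ s
    have ha₂n : algebraMap A (AdicCompletion I A) a₂ ∈ q.primeCompl := ha₂m
    have hu2 : IsUnit (algebraMap (AdicCompletion I A) (Localization.AtPrime q)
        (algebraMap A (AdicCompletion I A) a₂)) :=
      IsLocalization.map_units _ (⟨_, ha₂n⟩ : q.primeCompl)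
    rw [← Ideal.unit_mul_mem_iff_mem _ (hu1.mul hu2)]
    have e1 : IsLocalization.mk' (Localization.AtPrime q) x s *
        algebraMap (AdicCompletion I A) (Localization.AtPrime q) s =
        algebraMap (AdicCompletion I A) (Localization.AtPrime q) x := IsLocalization.mk'_spec _ x s
    have e2 : algebraMap (Localization.AtPrime m) (Localization.AtPrime q)
        (IsLocalization.mk' (Localization.AtPrime m) a₁ (⟨a₂, ha₂m⟩ : m.primeCompl)) *
        algebraMap (AdicCompletion I A) (Localization.AtPrime q)
          (algebraMap A (AdicCompletion I A) a₂) =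
        algebraMap (AdicCompletion I A) (Localization.AtPrime q)
          (algebraMap A (AdicCompletion I A) a₁) := by
      rw [← IsScalarTower.algebraMap_apply A (AdicCompletion I A) (Localization.AtPrime q),
        ← IsScalarTower.algebraMap_apply A (AdicCompletion I A) (Localization.AtPrime q),
        IsScalarTower.algebraMap_apply A (Localization.AtPrime m) (Localization.AtPrime q),
        IsScalarTower.algebraMap_apply A (Localization.AtPrime m) (Localization.AtPrime q),
        ← map_mul]
      congr 1
      exact IsLocalization.mk'_spec _ a₁ (⟨a₂, ha₂m⟩ : m.primeCompl)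
    have e3 : algebraMap (AdicCompletion I A) (Localization.AtPrime q) s *
        algebraMap (AdicCompletion I A) (Localization.AtPrime q)
          (algebraMap A (AdicCompletion I A) a₂) *
        (IsLocalization.mk' (Localization.AtPrime q) x s -
          (IsScalarTower.toAlgHom A (Localization.AtPrime m) (Localization.AtPrime q))
            (IsLocalization.mk' (Localization.AtPrime m) a₁ (⟨a₂, ha₂m⟩ : m.primeCompl))) =
        algebraMap (AdicCompletion I A) (Localization.AtPrime q)
          ((x - algebraMap A (AdicCompletion I A) a₁) * algebraMap A (AdicCompletion I A) a₂ -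
            algebraMap A (AdicCompletion I A) a₁ *
              ((s : AdicCompletion I A) - algebraMap A (AdicCompletion I A) a₂)) := by
      rw [IsScalarTower.coe_toAlgHom', map_sub, map_mul, map_mul, map_sub, map_sub, ← e1, ← e2]
      ring
    rw [e3, hpowL']
    apply Ideal.mem_map_of_mem
    exact Ideal.sub_mem _ (Ideal.mul_mem_right _ _ ha₁) (Ideal.mul_mem_left _ _ (hle2 ha₂))
  · intro n r hr
    haveI : Module.FaithfullyFlat (Localization.AtPrime m) (Localization.AtPrime q) :=
      Module.FaithfullyFlat.of_flat_of_isLocalHom
    have hmap : (I.map (algebraMap A (Localization.AtPrime q))) ^ n =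
        ((I.map (algebraMap A (Localization.AtPrime m))) ^ n).map
          (algebraMap (Localization.AtPrime m) (Localization.AtPrime q)) := by
      rw [Ideal.map_pow, Ideal.map_map, ← IsScalarTower.algebraMap_eq]
    rw [← Ideal.comap_map_eq_self_of_faithfullyFlat (B := Localization.AtPrime q)
      ((I.map (algebraMap A (Localization.AtPrime m))) ^ n), Ideal.mem_comap, ← hmap]
    exact hr

end Level

end Groth.Agent.Lib.Helper14.Boot
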