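import Mathlib
import Groth.Agent.Lib.Helper14BootF

/-! # Bootstrap: condition (6) passes to the `I`-adic completion (helper14) -/

set_option autoImplicit false
set_option linter.unusedVariables false
set_option linter.unusedSectionVars false
set_option linter.style.haveILetI false
set_option maxHeartbeats 400000

universe u

namespace Groth.Agent.Lib.Helper14.Boot

open Groth.Agent.Lib.Helper28 Groth.Agent.Lib.Helper14.ComplEquiv TensorProduct

section Transfer

variable {R R' : Type u} [CommRing R] [CommRing R'] [IsNoetherianRing R] (e : R ≃+* R')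
  (N N' : Type u) [AddCommGroup N] [Module R N] [Module.Finite R N] [AddCommGroup N']
  [Module R' N'] (ψ : N ≃+ N') (hψ : ∀ (r : R) (n : N), ψ (r • n) = e r • ψ n)

include hψ in
/-- transfer of the depth condition (6) along a semilinear isomorphism -/
theorem transfer_condition (K : Ideal R) (K' : Ideal R') (hK : K' = K.map (e : R →+* R')) (s : ℕ)
    (h : ∀ p : PrimeSpectrum R, ¬ K ≤ p.asIdeal →
      (∀ q : PrimeSpectrum R, p ≤ q → K ≤ q.asIdeal → q.asIdeal.IsMaximal) →
      (s : ℕ∞) < LocCoh.depth (Localization.AtPrime p.asIdeal)
        (LocalizedModule p.asIdeal.primeCompl N)) :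
    ∀ p' : PrimeSpectrum R', ¬ K' ≤ p'.asIdeal →
      (∀ q' : PrimeSpectrum R', p' ≤ q' → K' ≤ q'.asIdeal → q'.asIdeal.IsMaximal) →
      (s : ℕ∞) < LocCoh.depth (Localization.AtPrime p'.asIdeal)
        (LocalizedModule p'.asIdeal.primeCompl N') := by
  intro p' h1 h2
  subst hK
  obtain ⟨p, hp⟩ : ∃ p : PrimeSpectrum R, p.asIdeal = p'.asIdeal.comap (e : R →+* R') :=
    ⟨⟨p'.asIdeal.comap (e : R →+* R'), Ideal.comap_isPrime _ _⟩, rfl⟩
  have hd := depth_localization_eq_of_semilinear e N N' ψ hψ p'.asIdeal p.asIdeal hp
  rw [← hd]
  apply h p
  · intro hKp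
    apply h1
    rw [Ideal.map_le_iff_le_comap]
    exact hKp.trans (le_of_eq hp)
  · intro q hpq hKq
    obtain ⟨q', hq'⟩ : ∃ q' : PrimeSpectrum R',
        q'.asIdeal = q.asIdeal.comap (e.symm : R' →+* R) :=
      ⟨⟨q.asIdeal.comap (e.symm : R' →+* R), Ideal.comap_isPrime _ _⟩, rfl⟩
    have hq : q.asIdeal = q'.asIdeal.comap (e : R →+* R') := by
      rw [hq', Ideal.comap_comap]
      ext x
      simp
    have hpq' : p' ≤ q' := by
      intro x hx
      change x ∈ q'.asIdeal
      rw [hq', Ideal.mem_comap]
      apply hpq
      change _ ∈ p.asIdeal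
      rw [hp, Ideal.mem_comap]
      simpa using hx
    have hKq' : K.map (e : R →+* R') ≤ q'.asIdeal := by
      rw [Ideal.map_le_iff_le_comap, ← hq]
      exact hKq
    haveI := h2 q' hpq' hKq'
    rw [hq]
    exact Ideal.comap_isMaximal_of_surjective (e : R →+* R') e.surjective

end Transfer

section Base

variable (A : Type u) [CommRing A] [IsNoetherianRing A] (q : Ideal A) [q.IsPrime]
  (J : Ideal (Localization.AtPrime q))
  (M : Type u) [AddCommGroup M] [Module A M] [Module.Finite A M]

/-- the completion of the localization of a finite module is a base change -/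
noncomputable def complLocEquiv :
    AdicCompletion J (LocalizedModule q.primeCompl M) ≃ₗ[AdicCompletion J (Localization.AtPrime q)]
      (AdicCompletion J (Localization.AtPrime q)) ⊗[A] M :=
  (AdicCompletion.ofTensorProductEquivOfFiniteNoetherian J
      (LocalizedModule q.primeCompl M)).symm ≪≫ₗ
    (TensorProduct.AlgebraTensorModule.congr
      (LinearEquiv.refl (AdicCompletion J (Localization.AtPrime q))
        (AdicCompletion J (Localization.AtPrime q)))
      (LocalizedModule.equivTensorProduct q.primeCompl M)) ≪≫ₗ
    (TensorProduct.AlgebraTensorModule.cancelBaseChange A (Localization.AtPrime q)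
      (AdicCompletion J (Localization.AtPrime q)) (AdicCompletion J (Localization.AtPrime q)) M)

theorem finite_adicCompletion_localizedModule :
    Module.Finite (AdicCompletion J (Localization.AtPrime q))
      (AdicCompletion J (LocalizedModule q.primeCompl M)) :=
  Module.Finite.equiv (AdicCompletion.ofTensorProductEquivOfFiniteNoetherian J
      (LocalizedModule q.primeCompl M))

end Base

section Main

variable {A : Type u} [CommRing A] [IsNoetherianRing A] (I : Ideal A)
  (M : Type u) [AddCommGroup M] [Module A M] [Module.Finite A M]

/-- semilinearity of the base change of an algebra isomorphism -/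
theorem congr_smul {C C' : Type u} [CommRing C] [CommRing C'] [Algebra A C] [Algebra A C']
    (Φ : C ≃ₐ[A] C') (c : C) (y : C ⊗[A] M) :
    TensorProduct.congr Φ.toLinearEquiv (LinearEquiv.refl A M) (c • y) =
      Φ c • TensorProduct.congr Φ.toLinearEquiv (LinearEquiv.refl A M) y := by
  induction y using TensorProduct.induction_on with
  | zero => rw [smul_zero, map_zero, smul_zero]
  | tmul x m =>
    rw [TensorProduct.smul_tmul', TensorProduct.congr_tmul, TensorProduct.congr_tmul,
      TensorProduct.smul_tmul']
    congr 1
    change Φ (c * x) = Φ c * Φ x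
    rw [map_mul]
  | add x y hx hy => rw [smul_add, map_add, map_add, smul_add, hx, hy]

variable (q : Ideal (AdicCompletion I A)) [hqp : q.IsPrime]
  [alg : Algebra (Localization.AtPrime (q.comap (algebraMap A (AdicCompletion I A))))
    (Localization.AtPrime q)]
  [hloc : IsLocalHom (algebraMap (Localization.AtPrime (q.comap (algebraMap A (AdicCompletion I A))))
    (Localization.AtPrime q))]
  [hflat : Module.Flat (Localization.AtPrime (q.comap (algebraMap A (AdicCompletion I A))))
    (Localization.AtPrime q)]
  [htower : IsScalarTower A (Localization.AtPrime (q.comap (algebraMap A (AdicCompletion I A))))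
    (Localization.AtPrime q)]

theorem condition_six_aux (hIq : I.map (algebraMap A (AdicCompletion I A)) ≤ q)
    (J' : Ideal (Localization.AtPrime q))
    (hJ' : J' = I.map (algebraMap A (Localization.AtPrime q))) (s : ℕ)
    (h6 : ∀ p' : PrimeSpectrum (AdicCompletion
        (I.map (algebraMap A (Localization.AtPrime (q.comap (algebraMap A (AdicCompletion I A))))))
        (Localization.AtPrime (q.comap (algebraMap A (AdicCompletion I A))))),
      ¬ (I.map (algebraMap A (AdicCompletion
        (I.map (algebraMap A (Localization.AtPrime (q.comap (algebraMap A (AdicCompletion I A))))))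
        (Localization.AtPrime (q.comap (algebraMap A (AdicCompletion I A))))))) ≤ p'.asIdeal →
      (∀ q' : PrimeSpectrum (AdicCompletion
        (I.map (algebraMap A (Localization.AtPrime (q.comap (algebraMap A (AdicCompletion I A))))))
        (Localization.AtPrime (q.comap (algebraMap A (AdicCompletion I A))))), p' ≤ q' →
        (I.map (algebraMap A (AdicCompletion
        (I.map (algebraMap A (Localization.AtPrime (q.comap (algebraMap A (AdicCompletion I A))))))
        (Localization.AtPrime (q.comap (algebraMap A (AdicCompletion I A))))))) ≤ q'.asIdeal →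
        q'.asIdeal.IsMaximal) →
      (s : ℕ∞) < LocCoh.depth (Localization.AtPrime p'.asIdeal)
        (LocalizedModule p'.asIdeal.primeCompl (AdicCompletion
          (I.map (algebraMap A
            (Localization.AtPrime (q.comap (algebraMap A (AdicCompletion I A))))))
          (LocalizedModule (q.comap (algebraMap A (AdicCompletion I A))).primeCompl M)))) :
    ∀ p' : PrimeSpectrum (AdicCompletion J' (Localization.AtPrime q)),
      ¬ ((I.map (algebraMap A (AdicCompletion I A))).map
        (algebraMap (AdicCompletion I A) (AdicCompletion J' (Localization.AtPrime q)))) ≤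
          p'.asIdeal →
      (∀ q' : PrimeSpectrum (AdicCompletion J' (Localization.AtPrime q)), p' ≤ q' →
        ((I.map (algebraMap A (AdicCompletion I A))).map
          (algebraMap (AdicCompletion I A) (AdicCompletion J' (Localization.AtPrime q)))) ≤
            q'.asIdeal → q'.asIdeal.IsMaximal) →
      (s : ℕ∞) < LocCoh.depth (Localization.AtPrime p'.asIdeal)
        (LocalizedModule p'.asIdeal.primeCompl (AdicCompletion J'
          (LocalizedModule q.primeCompl (AdicCompletion I M)))) := by
  subst hJ'
  obtain ⟨Φ⟩ := nonempty_algEquiv_of_levelBij I _ (levelBij_localization_adicCompletion I q hIq)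
  haveI hNA' : IsNoetherianRing (AdicCompletion I A) := Groth.Agent.S0543.result A I
  haveI hfinM' : Module.Finite (AdicCompletion I A) (AdicCompletion I M) :=
    Module.Finite.equiv (AdicCompletion.ofTensorProductEquivOfFiniteNoetherian I M)
  haveI hNC : IsNoetherianRing (AdicCompletion
      (I.map (algebraMap A (Localization.AtPrime (q.comap (algebraMap A (AdicCompletion I A))))))
      (Localization.AtPrime (q.comap (algebraMap A (AdicCompletion I A))))) :=
    Groth.Agent.S0543.result _ _
  haveI hfinX := finite_adicCompletion_localizedModule A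
    (q.comap (algebraMap A (AdicCompletion I A)))
    (I.map (algebraMap A (Localization.AtPrime (q.comap (algebraMap A (AdicCompletion I A)))))) M
  haveI htow' : IsScalarTower A (AdicCompletion I A)
      (AdicCompletion (I.map (algebraMap A (Localization.AtPrime q))) (Localization.AtPrime q)) :=
    IsScalarTower.of_algebraMap_eq (fun a => by
      rw [AdicCompletion.algebraMap_apply, AdicCompletion.algebraMap_apply,
        ← IsScalarTower.algebraMap_apply A (AdicCompletion I A) (Localization.AtPrime q)])
  let e₁ := complLocEquiv A (q.comap (algebraMap A (AdicCompletion I A)))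
    (I.map (algebraMap A (Localization.AtPrime (q.comap (algebraMap A (AdicCompletion I A)))))) M
  let e₂ := TensorProduct.congr Φ.toLinearEquiv (LinearEquiv.refl A M)
  let e₃ := (complLocEquiv (AdicCompletion I A) q (I.map (algebraMap A (Localization.AtPrime q)))
      (AdicCompletion I M)) ≪≫ₗ
    (TensorProduct.AlgebraTensorModule.congr
      (LinearEquiv.refl
        (AdicCompletion (I.map (algebraMap A (Localization.AtPrime q))) (Localization.AtPrime q))
        (AdicCompletion (I.map (algebraMap A (Localization.AtPrime q))) (Localization.AtPrime q)))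
      (AdicCompletion.ofTensorProductEquivOfFiniteNoetherian I M).symm) ≪≫ₗ
    (TensorProduct.AlgebraTensorModule.cancelBaseChange A (AdicCompletion I A)
      (AdicCompletion (I.map (algebraMap A (Localization.AtPrime q))) (Localization.AtPrime q))
      (AdicCompletion (I.map (algebraMap A (Localization.AtPrime q))) (Localization.AtPrime q)) M)
  let ψ := e₁.toAddEquiv.trans (e₂.toAddEquiv.trans e₃.symm.toAddEquiv)
  have hψ : ∀ (c : AdicCompletion
      (I.map (algebraMap A (Localization.AtPrime (q.comap (algebraMap A (AdicCompletion I A))))))
      (Localization.AtPrime (q.comap (algebraMap A (AdicCompletion I A)))))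
      (x : AdicCompletion
        (I.map (algebraMap A (Localization.AtPrime (q.comap (algebraMap A (AdicCompletion I A))))))
        (LocalizedModule (q.comap (algebraMap A (AdicCompletion I A))).primeCompl M)),
      ψ (c • x) = Φ.toRingEquiv c • ψ x := by
    intro c x
    change e₃.symm (e₂ (e₁ (c • x))) = Φ c • e₃.symm (e₂ (e₁ x))
    have h1 : e₁ (c • x) = c • e₁ x := e₁.map_smul c x
    have h2 : e₂ (c • e₁ x) = Φ c • e₂ (e₁ x) := congr_smul M Φ c (e₁ x)
    have h3 : e₃.symm (Φ c • e₂ (e₁ x)) = Φ c • e₃.symm (e₂ (e₁ x)) :=
      e₃.symm.map_smul (Φ c) (e₂ (e₁ x))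
    rw [h1, h2, h3]
  refine transfer_condition Φ.toRingEquiv _ _ ψ hψ _ _ ?_ s h6
  rw [Ideal.map_map, ← IsScalarTower.algebraMap_eq, Ideal.map_map]
  congr 1
  refine RingHom.ext fun a => ?_
  change _ = Φ (algebraMap A _ a)
  rw [Φ.commutes]

end Main

section Final

variable {A : Type u} [CommRing A] [IsNoetherianRing A] (I : Ideal A)
  (M : Type u) [AddCommGroup M] [Module A M] [Module.Finite A M]

/-- condition (6) of the bootstrap passes to the `I`-adic completion -/
theorem condition_six_adicCompletion (q : Ideal (AdicCompletion I A)) [hqp : q.IsPrime]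
    (hIq : I.map (algebraMap A (AdicCompletion I A)) ≤ q) (q₀ : Ideal A) [hq₀p : q₀.IsPrime]
    (hq₀ : q₀ = q.comap (algebraMap A (AdicCompletion I A))) (s : ℕ)
    (h6 : ∀ p' : PrimeSpectrum (AdicCompletion
        (I.map (algebraMap A (Localization.AtPrime q₀))) (Localization.AtPrime q₀)),
      ¬ (I.map (algebraMap A (AdicCompletion
        (I.map (algebraMap A (Localization.AtPrime q₀))) (Localization.AtPrime q₀)))) ≤
          p'.asIdeal →
      (∀ q' : PrimeSpectrum (AdicCompletion
        (I.map (algebraMap A (Localization.AtPrime q₀))) (Localization.AtPrime q₀)), p' ≤ q' →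
        (I.map (algebraMap A (AdicCompletion
          (I.map (algebraMap A (Localization.AtPrime q₀))) (Localization.AtPrime q₀)))) ≤
            q'.asIdeal → q'.asIdeal.IsMaximal) →
      (s : ℕ∞) < LocCoh.depth (Localization.AtPrime p'.asIdeal)
        (LocalizedModule p'.asIdeal.primeCompl (AdicCompletion
          (I.map (algebraMap A (Localization.AtPrime q₀)))
          (LocalizedModule q₀.primeCompl M)))) :
    ∀ p' : PrimeSpectrum (AdicCompletion ((I.map (algebraMap A (AdicCompletion I A))).map
        (algebraMap (AdicCompletion I A) (Localization.AtPrime q))) (Localization.AtPrime q)),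
      ¬ ((I.map (algebraMap A (AdicCompletion I A))).map
        (algebraMap (AdicCompletion I A) (AdicCompletion
          ((I.map (algebraMap A (AdicCompletion I A))).map
            (algebraMap (AdicCompletion I A) (Localization.AtPrime q)))
          (Localization.AtPrime q)))) ≤ p'.asIdeal →
      (∀ q' : PrimeSpectrum (AdicCompletion ((I.map (algebraMap A (AdicCompletion I A))).map
        (algebraMap (AdicCompletion I A) (Localization.AtPrime q))) (Localization.AtPrime q)),
        p' ≤ q' →
        ((I.map (algebraMap A (AdicCompletion I A))).map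
          (algebraMap (AdicCompletion I A) (AdicCompletion
            ((I.map (algebraMap A (AdicCompletion I A))).map
              (algebraMap (AdicCompletion I A) (Localization.AtPrime q)))
            (Localization.AtPrime q)))) ≤ q'.asIdeal → q'.asIdeal.IsMaximal) →
      (s : ℕ∞) < LocCoh.depth (Localization.AtPrime p'.asIdeal)
        (LocalizedModule p'.asIdeal.primeCompl (AdicCompletion
          ((I.map (algebraMap A (AdicCompletion I A))).map
            (algebraMap (AdicCompletion I A) (Localization.AtPrime q)))
          (LocalizedModule q.primeCompl (AdicCompletion I M)))) := by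
  subst hq₀
  obtain ⟨alg, hloc, hflat, htower⟩ :=
    exists_algebra_localization_flat' (A := A) (B := AdicCompletion I A) q
  refine condition_six_aux I M q hIq _ ?_ s h6
  rw [Ideal.map_map, ← IsScalarTower.algebraMap_eq]

end Final

end Groth.Agent.Lib.Helper14.Boot
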