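import Mathlib
import Groth.Agent.Lib.Helper14InvLim
import Groth.Agent.Lib.Helper18ComplProd
import Groth.Agent.Lib.Helper14RigFlat

/-!
# Flatness for "completed tensor product" squares (helper14)

Abstract part of the proof that rig-flatness is stable under completed tensor product base change:
for a square `A₁ → B₁, R → S` such that `B₁ ⊗ R → S` is dense and closed for the `𝔞`-adic topology,
`(R/𝔭) ⊗ B₁ ≅ S/𝔭S` when `R/𝔭` is finite over `A₁`, and flatness of `S_q` over `R` follows from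
flatness of `(B₁)_r` over `A₁` by the local criterion.
-/

set_option autoImplicit false
set_option linter.unusedVariables false
set_option linter.unusedSectionVars false
set_option linter.style.haveILetI false
universe u

namespace Groth.Agent.Lib.Helper14.CTPFlat

open TensorProduct

section lift
variable {A P Q Z : Type u} [CommRing A] [CommRing P] [CommRing Q] [CommRing Z]
  [Algebra A P] [Algebra A Q]

/-- ring-hom level lift out of a tensor product -/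
noncomputable def tensorLift (φ₁ : P →+* Z) (φ₂ : Q →+* Z)
    (h : φ₁.comp (algebraMap A P) = φ₂.comp (algebraMap A Q)) : P ⊗[A] Q →+* Z :=
  letI : Algebra A Z := (φ₁.comp (algebraMap A P)).toAlgebra
  (Algebra.TensorProduct.lift (⟨φ₁, fun a => rfl⟩ : P →ₐ[A] Z)
    (⟨φ₂, fun a => (RingHom.congr_fun h a).symm⟩ : Q →ₐ[A] Z)
    (fun _ _ => mul_comm _ _)).toRingHom

@[simp]
theorem tensorLift_tmul (φ₁ : P →+* Z) (φ₂ : Q →+* Z)
    (h : φ₁.comp (algebraMap A P) = φ₂.comp (algebraMap A Q)) (p : P) (q : Q) :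
    tensorLift φ₁ φ₂ h (p ⊗ₜ[A] q) = φ₁ p * φ₂ q := by
  letI : Algebra A Z := (φ₁.comp (algebraMap A P)).toAlgebra
  exact Algebra.TensorProduct.lift_tmul _ _ _ _ _

theorem ringHom_ext_tensor (α β : P ⊗[A] Q →+* Z)
    (h1 : ∀ p, α (p ⊗ₜ 1) = β (p ⊗ₜ 1)) (h2 : ∀ q, α (1 ⊗ₜ q) = β (1 ⊗ₜ q)) : α = β := by
  refine RingHom.ext fun t => ?_
  induction t using TensorProduct.induction_on with
  | zero => simp
  | tmul p q =>
    have : p ⊗ₜ[A] q = (p ⊗ₜ 1) * (1 ⊗ₜ q) := by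
      rw [Algebra.TensorProduct.tmul_mul_tmul, mul_one, one_mul]
    rw [this, map_mul, map_mul, h1, h2]
  | add x y hx hy => rw [map_add, map_add, hx, hy]

end lift
section loc
variable (R₀ P P' Q : Type u) [CommRing R₀] [CommRing P] [CommRing P'] [CommRing Q]
  [Algebra R₀ P] [Algebra R₀ P'] [Algebra P P'] [IsScalarTower R₀ P P'] [Algebra R₀ Q]

/-- `P ⊗ Q → P' ⊗ Q` as an algebra -/
noncomputable abbrev tensorAlg : Algebra (P ⊗[R₀] Q) (P' ⊗[R₀] Q) :=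
  (Algebra.TensorProduct.map (IsScalarTower.toAlgHom R₀ P P') (AlgHom.id R₀ Q)).toRingHom.toAlgebra

theorem tensorAlg_tmul (p : P) (q : Q) :
    letI := tensorAlg R₀ P P' Q
    algebraMap (P ⊗[R₀] Q) (P' ⊗[R₀] Q) (p ⊗ₜ q) = (algebraMap P P' p) ⊗ₜ q := by
  letI := tensorAlg R₀ P P' Q
  change (Algebra.TensorProduct.map (IsScalarTower.toAlgHom R₀ P P') (AlgHom.id R₀ Q)) (p ⊗ₜ q) = _
  rw [Algebra.TensorProduct.map_tmul]
  rfl

theorem isLocalization_tensor (𝔖 : Submonoid P) [IsLocalization 𝔖 P'] :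
    letI := tensorAlg R₀ P P' Q
    IsLocalization (Algebra.algebraMapSubmonoid (P ⊗[R₀] Q) 𝔖) (P' ⊗[R₀] Q) := by
  letI := tensorAlg R₀ P P' Q
  haveI : IsScalarTower P (P ⊗[R₀] Q) (P' ⊗[R₀] Q) := IsScalarTower.of_algebraMap_eq fun x => by
    rw [Algebra.TensorProduct.algebraMap_apply, Algebra.TensorProduct.algebraMap_apply,
      tensorAlg_tmul]
    rfl
  have H0 : (algebraMap (P ⊗[R₀] Q) (P' ⊗[R₀] Q)).comp
      Algebra.TensorProduct.includeRight.toRingHom =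
      Algebra.TensorProduct.includeRight.toRingHom := by
    ext q
    change algebraMap (P ⊗[R₀] Q) (P' ⊗[R₀] Q) (1 ⊗ₜ q) = 1 ⊗ₜ q
    rw [tensorAlg_tmul, map_one]
  have H := @Algebra.IsPushout.tensorProduct_tensorProduct R₀ Q P P' _ _ _ _ _ _ _ _ _
    (tensorAlg R₀ P P' Q) this H0
  rw [Algebra.isLocalization_iff_isPushout 𝔖 P']
  exact H.symm

end loc
section locbij
variable {M' N'' T : Type u} [CommRing M'] [CommRing N''] [CommRing T]
  [Algebra N'' T] [Algebra M' T]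

theorem isLocalization_of_bijective (ν : M' →+* N'') (hν : Function.Bijective ν)
    (hcomp : algebraMap M' T = (algebraMap N'' T).comp ν)
    (𝔐 : Submonoid N'') [IsLocalization 𝔐 T] : IsLocalization (𝔐.comap ν) T := by
  rw [isLocalization_iff]
  refine ⟨?_, ?_, ?_⟩
  · rintro ⟨y, hy⟩
    rw [hcomp]
    exact IsLocalization.map_units T ⟨ν y, hy⟩
  · intro z
    obtain ⟨⟨n, m⟩, h⟩ := IsLocalization.surj 𝔐 z
    obtain ⟨x, rfl⟩ := hν.2 n
    obtain ⟨y, hy⟩ := hν.2 (m : N'')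
    have hym : y ∈ 𝔐.comap ν := by
      rw [Submonoid.mem_comap, hy]; exact m.2
    refine ⟨⟨x, ⟨y, hym⟩⟩, ?_⟩
    rw [hcomp]
    change z * algebraMap N'' T (ν y) = algebraMap N'' T (ν x)
    rw [hy]
    exact h
  · intro x y hxy
    rw [hcomp] at hxy
    obtain ⟨c, hc⟩ := IsLocalization.exists_of_eq (M := 𝔐) hxy
    obtain ⟨c', hc'⟩ := hν.2 (c : N'')
    have hcm : c' ∈ 𝔐.comap ν := by
      rw [Submonoid.mem_comap, hc']; exact c.2
    refine ⟨⟨c', hcm⟩, hν.1 ?_⟩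
    change ν (c' * x) = ν (c' * y)
    rw [map_mul, map_mul, hc']
    exact hc

end locbij
section complete
variable {B₁ : Type u} [CommRing B₁] [IsNoetherianRing B₁] (J : Ideal B₁) [IsAdicComplete J B₁]

theorem isAdicComplete_of_finite (M : Type u) [AddCommGroup M] [Module B₁ M]
    [Module.Finite B₁ M] : IsAdicComplete J M := by
  haveI hH : IsHausdorff J M := IsHausdorff.of_le_jacobson J M (IsAdicComplete.le_jacobson_bot J)
  haveI hP : IsPrecomplete J M := by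
    obtain ⟨n, f, hf⟩ := Module.Finite.exists_fin' B₁ M
    haveI := Groth.Agent.Lib.Helper14.isPrecomplete_pi J n
    exact Groth.Agent.Lib.Helper18ComplProd.isPrecomplete_of_surjective J f hf
  exact { toIsHausdorff := hH, toIsPrecomplete := hP }

end complete

section smultop
variable {A₁ T M : Type u} [CommRing A₁] [CommRing T] [Algebra A₁ T] [AddCommGroup M] [Module A₁ M]

theorem map_mem_smul_top (𝔟 : Ideal A₁) (f : T →ₗ[A₁] M) (x : T)
    (hx : x ∈ 𝔟.map (algebraMap A₁ T)) : f x ∈ 𝔟 • (⊤ : Submodule A₁ M) := by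
  have h1 : x ∈ 𝔟 • (⊤ : Submodule A₁ T) := by
    rw [Ideal.smul_top_eq_map, Submodule.restrictScalars_mem]
    exact hx
  have h2 : f x ∈ Submodule.map f (𝔟 • (⊤ : Submodule A₁ T)) := Submodule.mem_map_of_mem h1
  rw [Submodule.map_smul''] at h2
  exact Submodule.smul_mono le_rfl le_top h2

end smultop

section KT
variable {A₁ B₁ R S : Type u} [CommRing A₁] [CommRing B₁] [CommRing R] [CommRing S]
  [Algebra A₁ B₁] [Algebra A₁ R] [Algebra A₁ S] [Algebra R S] [IsScalarTower A₁ R S]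
  (β : B₁ →+* S) (hβ : β.comp (algebraMap A₁ B₁) = algebraMap A₁ S)

include hβ in
theorem hcomm : β.comp (algebraMap A₁ B₁) = (algebraMap R S).comp (algebraMap A₁ R) :=
  hβ.trans (IsScalarTower.algebraMap_eq A₁ R S)

include hβ in
theorem nu_compat (𝔭 : Ideal R) :
    ((Algebra.TensorProduct.includeLeftRingHom : S →+* S ⊗[R] (R ⧸ 𝔭)).comp β).comp
      (algebraMap A₁ B₁) =
    ((Algebra.TensorProduct.includeRight : (R ⧸ 𝔭) →ₐ[R] S ⊗[R] (R ⧸ 𝔭)).toRingHom).comp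
      (algebraMap A₁ (R ⧸ 𝔭)) := by
  refine RingHom.ext fun a => ?_
  have h1 : β (algebraMap A₁ B₁ a) = algebraMap R S (algebraMap A₁ R a) :=
    RingHom.congr_fun (hcomm β hβ) a
  change (β (algebraMap A₁ B₁ a)) ⊗ₜ[R] (1 : R ⧸ 𝔭) =
    (1 : S) ⊗ₜ[R] (algebraMap A₁ (R ⧸ 𝔭) a)
  rw [h1, Algebra.algebraMap_eq_smul_one, TensorProduct.smul_tmul,
    IsScalarTower.algebraMap_apply A₁ R (R ⧸ 𝔭), Algebra.algebraMap_eq_smul_one (algebraMap A₁ R a)]

/-- `B₁ ⊗ (R/𝔭) → S ⊗_R (R/𝔭)` -/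
noncomputable def nu (𝔭 : Ideal R) : B₁ ⊗[A₁] (R ⧸ 𝔭) →+* S ⊗[R] (R ⧸ 𝔭) :=
  tensorLift ((Algebra.TensorProduct.includeLeftRingHom : S →+* S ⊗[R] (R ⧸ 𝔭)).comp β)
    ((Algebra.TensorProduct.includeRight : (R ⧸ 𝔭) →ₐ[R] S ⊗[R] (R ⧸ 𝔭)).toRingHom)
    (nu_compat β hβ 𝔭)

theorem nu_tmul (𝔭 : Ideal R) (b : B₁) (x : R ⧸ 𝔭) :
    nu β hβ 𝔭 (b ⊗ₜ x) = (β b) ⊗ₜ[R] x := by
  rw [nu, tensorLift_tmul]
  change (β b ⊗ₜ[R] (1 : R ⧸ 𝔭)) * ((1 : S) ⊗ₜ[R] x) = _
  rw [Algebra.TensorProduct.tmul_mul_tmul, mul_one, one_mul]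

/-- `B₁ ⊗ R → S` -/
noncomputable def mu : B₁ ⊗[A₁] R →+* S := tensorLift β (algebraMap R S) (hcomm β hβ)

/-- `B₁ ⊗ R → B₁ ⊗ R/𝔭` -/
noncomputable def pi (𝔭 : Ideal R) : B₁ ⊗[A₁] R →ₐ[A₁] B₁ ⊗[A₁] (R ⧸ 𝔭) :=
  Algebra.TensorProduct.map (AlgHom.id A₁ B₁) (Ideal.Quotient.mkₐ A₁ 𝔭)

theorem pi_surjective (𝔭 : Ideal R) : Function.Surjective (pi (A₁ := A₁) (B₁ := B₁) 𝔭) := by
  intro m
  induction m using TensorProduct.induction_on with
  | zero => exact ⟨0, map_zero _⟩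
  | tmul b x =>
    obtain ⟨r, rfl⟩ := Ideal.Quotient.mk_surjective x
    exact ⟨b ⊗ₜ r, by rw [pi, Algebra.TensorProduct.map_tmul]; rfl⟩
  | add x y hx hy =>
    obtain ⟨x', rfl⟩ := hx
    obtain ⟨y', rfl⟩ := hy
    exact ⟨x' + y', map_add _ _ _⟩

theorem nu_pi (𝔭 : Ideal R) (t : B₁ ⊗[A₁] R) :
    nu β hβ 𝔭 (pi 𝔭 t) = (mu β hβ t) ⊗ₜ[R] (1 : R ⧸ 𝔭) := by
  induction t using TensorProduct.induction_on with
  | zero => simp
  | tmul b x =>
    rw [pi, Algebra.TensorProduct.map_tmul, mu, tensorLift_tmul]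
    change nu β hβ 𝔭 (b ⊗ₜ (Ideal.Quotient.mk 𝔭 x)) = _
    rw [nu_tmul, mul_comm, ← Algebra.smul_def, TensorProduct.smul_tmul]
    congr 1
    rw [Algebra.smul_def, mul_one]
    rfl
  | add x y hx hy => rw [map_add, map_add, hx, hy, map_add, TensorProduct.add_tmul]

theorem exists_tmul_one (𝔭 : Ideal R) (z : S ⊗[R] (R ⧸ 𝔭)) : ∃ s : S, z = s ⊗ₜ 1 := by
  induction z using TensorProduct.induction_on with
  | zero => exact ⟨0, (TensorProduct.zero_tmul _ _).symm⟩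
  | tmul s x =>
    obtain ⟨r, rfl⟩ := Ideal.Quotient.mk_surjective x
    refine ⟨r • s, ?_⟩
    rw [TensorProduct.smul_tmul]
    congr 1
    rw [Algebra.smul_def, mul_one]
    rfl
  | add x y hx hy =>
    obtain ⟨s, rfl⟩ := hx
    obtain ⟨s', rfl⟩ := hy
    exact ⟨s + s', (TensorProduct.add_tmul _ _ _).symm⟩

theorem tmul_one_eq_zero_iff (𝔭 : Ideal R) (s : S) :
    s ⊗ₜ[R] (1 : R ⧸ 𝔭) = 0 ↔ s ∈ 𝔭.map (algebraMap R S) := by
  rw [← (TensorProduct.tensorQuotEquivQuotSMul S 𝔭).map_eq_zero_iff,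
    ← map_one (Ideal.Quotient.mk 𝔭), TensorProduct.tensorQuotEquivQuotSMul_tmul_mk, one_smul,
    Submodule.Quotient.mk_eq_zero, Ideal.smul_top_eq_map, Submodule.restrictScalars_mem]

variable [IsNoetherianRing B₁] [IsNoetherianRing S]
  (𝔞 : Ideal A₁) [IsAdicComplete (𝔞.map (algebraMap A₁ B₁)) B₁]
  [IsAdicComplete (𝔞.map (algebraMap A₁ S)) S]

omit [IsNoetherianRing B₁] [IsNoetherianRing S] [IsAdicComplete (𝔞.map (algebraMap A₁ B₁)) B₁]
  [IsAdicComplete (𝔞.map (algebraMap A₁ S)) S] in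
/-- approximation of elements of `𝔭 S` -/
theorem exists_approx (𝔭 : Ideal R) (k : ℕ)
    (hdense : ∀ s : S, ∃ t : B₁ ⊗[A₁] R, s - mu β hβ t ∈ (𝔞.map (algebraMap A₁ S)) ^ k)
    (x : S) (hx : x ∈ 𝔭.map (algebraMap R S)) :
    ∃ t' : B₁ ⊗[A₁] R, pi 𝔭 t' = 0 ∧ x - mu β hβ t' ∈ (𝔞.map (algebraMap A₁ S)) ^ k := by
  refine Submodule.span_induction (p := fun x _ => ∃ t' : B₁ ⊗[A₁] R, pi 𝔭 t' = 0 ∧
    x - mu β hβ t' ∈ (𝔞.map (algebraMap A₁ S)) ^ k) ?_ ?_ ?_ ?_ hx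
  · rintro _ ⟨p, hp, rfl⟩
    refine ⟨1 ⊗ₜ p, ?_, ?_⟩
    · rw [pi, Algebra.TensorProduct.map_tmul]
      change (1 : B₁) ⊗ₜ (Ideal.Quotient.mk 𝔭 p) = 0
      rw [Ideal.Quotient.eq_zero_iff_mem.mpr hp, TensorProduct.tmul_zero]
    · rw [mu, tensorLift_tmul, map_one, one_mul, sub_self]; exact zero_mem _
  · exact ⟨0, map_zero _, by simp⟩
  · rintro a b _ _ ⟨ta, hta0, hta⟩ ⟨tb, htb0, htb⟩
    refine ⟨ta + tb, by rw [map_add, hta0, htb0, add_zero], ?_⟩
    rw [map_add]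
    have := Ideal.add_mem _ hta htb
    convert this using 1
    ring
  · rintro s a _ ⟨ta, hta0, hta⟩
    obtain ⟨ts, hts⟩ := hdense s
    refine ⟨ts * ta, by rw [map_mul, hta0, mul_zero], ?_⟩
    rw [smul_eq_mul, map_mul]
    have : s * a - mu β hβ ts * mu β hβ ta =
        (s - mu β hβ ts) * a + mu β hβ ts * (a - mu β hβ ta) := by ring
    rw [this]
    exact Ideal.add_mem _ (Ideal.mul_mem_right _ _ hts) (Ideal.mul_mem_left _ _ hta)

theorem nu_bijective (𝔭 : Ideal R) [Module.Finite A₁ (R ⧸ 𝔭)]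
    (hdense : ∀ k, ∀ s : S, ∃ t : B₁ ⊗[A₁] R, s - mu β hβ t ∈ (𝔞.map (algebraMap A₁ S)) ^ k)
    (hclosed : ∀ k, ∀ t : B₁ ⊗[A₁] R, mu β hβ t ∈ (𝔞.map (algebraMap A₁ S)) ^ k →
      t ∈ (𝔞.map (algebraMap A₁ (B₁ ⊗[A₁] R))) ^ k) :
    Function.Bijective (nu β hβ 𝔭) := by
  haveI : Module.Finite B₁ (B₁ ⊗[A₁] (R ⧸ 𝔭)) := inferInstance
  haveI hM1 : IsAdicComplete (𝔞.map (algebraMap A₁ B₁)) (B₁ ⊗[A₁] (R ⧸ 𝔭)) :=
    isAdicComplete_of_finite _ _
  haveI hM : IsAdicComplete 𝔞 (B₁ ⊗[A₁] (R ⧸ 𝔭)) :=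
    (IsAdicComplete.map_algebraMap_iff (S := B₁) 𝔞 _).mp hM1
  haveI : Module.Finite S (S ⊗[R] (R ⧸ 𝔭)) := inferInstance
  haveI hN1 : IsHausdorff (𝔞.map (algebraMap A₁ S)) (S ⊗[R] (R ⧸ 𝔭)) :=
    IsHausdorff.of_le_jacobson _ _ (IsAdicComplete.le_jacobson_bot _)
  haveI hN : IsHausdorff 𝔞 (S ⊗[R] (R ⧸ 𝔭)) :=
    (IsHausdorff.map_algebraMap_iff (S := S)).mp hN1
  constructor
  · rw [injective_iff_map_eq_zero]
    intro m hm
    obtain ⟨t, rfl⟩ := pi_surjective 𝔭 m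
    rw [nu_pi, tmul_one_eq_zero_iff] at hm
    apply IsHausdorff.haus' (I := 𝔞)
    intro k
    rw [SModEq.zero]
    obtain ⟨t', ht'0, ht'⟩ := exists_approx β hβ 𝔞 𝔭 k (hdense k) _ hm
    rw [← map_sub] at ht'
    have h1 := hclosed k _ ht'
    have h2 : pi 𝔭 t = pi 𝔭 (t - t') := by rw [map_sub, ht'0, sub_zero]
    rw [h2]
    rw [← Ideal.map_pow] at h1
    exact map_mem_smul_top (𝔞 ^ k) (pi (A₁ := A₁) (B₁ := B₁) 𝔭).toLinearMap _ h1
  · have hnuA : ∀ a : A₁, nu β hβ 𝔭 (algebraMap A₁ (B₁ ⊗[A₁] (R ⧸ 𝔭)) a) =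
        algebraMap A₁ (S ⊗[R] (R ⧸ 𝔭)) a := by
      intro a
      rw [Algebra.TensorProduct.algebraMap_apply, nu_tmul, Algebra.TensorProduct.algebraMap_apply]
      congr 1
      exact RingHom.congr_fun hβ a
    let νl : B₁ ⊗[A₁] (R ⧸ 𝔭) →ₗ[A₁] S ⊗[R] (R ⧸ 𝔭) :=
      { toFun := nu β hβ 𝔭
        map_add' := map_add _
        map_smul' := fun a m => by
          have e1 : a • m = algebraMap A₁ (B₁ ⊗[A₁] (R ⧸ 𝔭)) a * m := Algebra.smul_def a m
          have e2 : a • (nu β hβ 𝔭 m) = algebraMap A₁ (S ⊗[R] (R ⧸ 𝔭)) a * nu β hβ 𝔭 m :=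
            Algebra.smul_def (A := S ⊗[R] (R ⧸ 𝔭)) a (nu β hβ 𝔭 m)
          rw [e1, map_mul, hnuA, RingHom.id_apply, e2] }
    have hs : Function.Surjective νl := by
      apply surjective_of_mkQ_comp_surjective (I := 𝔞)
      intro z
      obtain ⟨n, rfl⟩ := Submodule.mkQ_surjective _ z
      obtain ⟨s, rfl⟩ := exists_tmul_one 𝔭 n
      obtain ⟨t, ht⟩ := hdense 1 s
      refine ⟨pi 𝔭 t, ?_⟩
      change Submodule.mkQ _ (nu β hβ 𝔭 (pi 𝔭 t)) = _
      rw [nu_pi, Submodule.mkQ_apply, Submodule.mkQ_apply, Submodule.Quotient.eq,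
        ← TensorProduct.sub_tmul]
      rw [pow_one] at ht
      have h3 := map_mem_smul_top 𝔞
        (Algebra.TensorProduct.includeLeft (S := A₁) (R := R) (A := S) (B := R ⧸ 𝔭)).toLinearMap
        _ ht
      have h4 : (mu β hβ t - s) ⊗ₜ[R] (1 : R ⧸ 𝔭) = - ((s - mu β hβ t) ⊗ₜ[R] (1 : R ⧸ 𝔭)) := by
        rw [← TensorProduct.neg_tmul, neg_sub]
      rw [h4]
      exact Submodule.neg_mem _ h3
    exact hs

end KT

section right
attribute [local instance] Algebra.TensorProduct.rightAlgebra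

theorem flat_of_isLocalization_tensor
    {A₁ B₁ Rb : Type u} [CommRing A₁] [CommRing B₁] [CommRing Rb] [Algebra A₁ B₁] [Algebra A₁ Rb]
    (r : Ideal B₁) [r.IsPrime] [Module.Flat A₁ (Localization.AtPrime r)]
    (T : Type u) [CommRing T] [Algebra (B₁ ⊗[A₁] Rb) T] (𝔐 : Submonoid (B₁ ⊗[A₁] Rb))
    [IsLocalization 𝔐 T]
    (h𝔐 : Algebra.algebraMapSubmonoid (B₁ ⊗[A₁] Rb) r.primeCompl ≤ 𝔐)
    [Algebra Rb T] [IsScalarTower Rb (B₁ ⊗[A₁] Rb) T] :
    Module.Flat Rb T := by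
  letI algMW := tensorAlg A₁ B₁ (Localization.AtPrime r) Rb
  haveI locW : IsLocalization (Algebra.algebraMapSubmonoid (B₁ ⊗[A₁] Rb) r.primeCompl)
      (Localization.AtPrime r ⊗[A₁] Rb) := isLocalization_tensor A₁ B₁ _ Rb r.primeCompl
  have hunits : ∀ y : Algebra.algebraMapSubmonoid (B₁ ⊗[A₁] Rb) r.primeCompl,
      IsUnit (algebraMap (B₁ ⊗[A₁] Rb) T y) := fun y =>
    IsLocalization.map_units T ⟨(y : B₁ ⊗[A₁] Rb), h𝔐 y.2⟩
  letI algWT : Algebra (Localization.AtPrime r ⊗[A₁] Rb) T :=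
    (IsLocalization.lift (S := Localization.AtPrime r ⊗[A₁] Rb) hunits).toAlgebra
  haveI tw1 : IsScalarTower (B₁ ⊗[A₁] Rb) (Localization.AtPrime r ⊗[A₁] Rb) T :=
    IsScalarTower.of_algebraMap_eq fun x => (IsLocalization.lift_eq hunits x).symm
  haveI locT := IsLocalization.isLocalization_of_submonoid_le (Localization.AtPrime r ⊗[A₁] Rb) T
    (Algebra.algebraMapSubmonoid (B₁ ⊗[A₁] Rb) r.primeCompl) 𝔐 h𝔐
  haveI flatWT : Module.Flat (Localization.AtPrime r ⊗[A₁] Rb) T :=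
    IsLocalization.flat T (𝔐.map (algebraMap (B₁ ⊗[A₁] Rb) (Localization.AtPrime r ⊗[A₁] Rb)))
  haveI flatRW : Module.Flat Rb (Localization.AtPrime r ⊗[A₁] Rb) := by
    have hpo : Algebra.IsPushout A₁ Rb (Localization.AtPrime r) (Localization.AtPrime r ⊗[A₁] Rb) :=
      TensorProduct.isPushout'
    exact Module.Flat.isBaseChange A₁ Rb (Localization.AtPrime r) _ hpo.out
  haveI tw2 : IsScalarTower Rb (Localization.AtPrime r ⊗[A₁] Rb) T :=
    IsScalarTower.of_algebraMap_eq fun x => by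
      have h1 : algebraMap Rb (Localization.AtPrime r ⊗[A₁] Rb) x =
          algebraMap (B₁ ⊗[A₁] Rb) (Localization.AtPrime r ⊗[A₁] Rb)
            (algebraMap Rb (B₁ ⊗[A₁] Rb) x) := by
        rw [Algebra.TensorProduct.right_algebraMap_apply,
          Algebra.TensorProduct.right_algebraMap_apply, tensorAlg_tmul, map_one]
      rw [h1, ← IsScalarTower.algebraMap_apply (B₁ ⊗[A₁] Rb) (Localization.AtPrime r ⊗[A₁] Rb) T,
        ← IsScalarTower.algebraMap_apply Rb (B₁ ⊗[A₁] Rb) T]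
  exact Module.Flat.trans Rb (Localization.AtPrime r ⊗[A₁] Rb) T


end right

section right2
attribute [local instance] Algebra.TensorProduct.rightAlgebra

/-- `Q ⊗ T ≃ T ⊗ Q`, linear over `Q` (right algebra structure on the target). -/
noncomputable def commEquiv (R T Q : Type u) [CommRing R] [CommRing T] [CommRing Q]
    [Algebra R T] [Algebra R Q] : (Q ⊗[R] T) ≃ₗ[Q] (T ⊗[R] Q) :=
  { TensorProduct.comm R Q T with
    map_smul' := fun x z => by
      change TensorProduct.comm R Q T (x • z) = x • TensorProduct.comm R Q T z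
      induction z using TensorProduct.induction_on with
      | zero => simp
      | tmul y t =>
        have e : x • (t ⊗ₜ[R] y) = algebraMap Q (T ⊗[R] Q) x * (t ⊗ₜ[R] y) :=
          Algebra.smul_def _ _
        rw [TensorProduct.smul_tmul', TensorProduct.comm_tmul, TensorProduct.comm_tmul, e,
          Algebra.TensorProduct.right_algebraMap_apply,
          Algebra.TensorProduct.tmul_mul_tmul, one_mul, smul_eq_mul]
      | add a b ha hb => rw [smul_add, map_add, ha, hb, map_add, smul_add] }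

variable {A₁ B₁ R S : Type u} [CommRing A₁] [CommRing B₁] [CommRing R] [CommRing S]
  [Algebra A₁ B₁] [Algebra A₁ R] [Algebra A₁ S] [Algebra R S] [IsScalarTower A₁ R S]
  (β : B₁ →+* S) (hβ : β.comp (algebraMap A₁ B₁) = algebraMap A₁ S)
  [IsNoetherianRing B₁] [IsNoetherianRing S] [IsNoetherianRing R]
  (𝔞 : Ideal A₁) [IsAdicComplete (𝔞.map (algebraMap A₁ B₁)) B₁]
  [IsAdicComplete (𝔞.map (algebraMap A₁ S)) S]

set_option maxHeartbeats 1600000 in
theorem flat_localization_of_ctp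
    (hdense : ∀ k, ∀ s : S, ∃ t : B₁ ⊗[A₁] R, s - mu β hβ t ∈ (𝔞.map (algebraMap A₁ S)) ^ k)
    (hclosed : ∀ k, ∀ t : B₁ ⊗[A₁] R, mu β hβ t ∈ (𝔞.map (algebraMap A₁ S)) ^ k →
      t ∈ (𝔞.map (algebraMap A₁ (B₁ ⊗[A₁] R))) ^ k)
    (P : Ideal R) (hfin : ∀ n, Module.Finite A₁ (R ⧸ P ^ n))
    (q : Ideal S) [q.IsPrime] (hPq : P.map (algebraMap R S) ≤ q)
    [(q.comap β).IsPrime]
    (hflat : Module.Flat A₁ (Localization.AtPrime (q.comap β))) :
    Module.Flat R (Localization.AtPrime q) := by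
  apply Groth.Agent.Lib.Helper14.RigFlat.flat_of_flat_baseChange_pow (A := R)
    (B := Localization.AtPrime q) (Localization.AtPrime q) P
  · rw [IsLocalRing.jacobson_eq_maximalIdeal ⊥ bot_ne_top, Ideal.map_le_iff_le_comap]
    intro a ha
    rw [Ideal.mem_comap, IsScalarTower.algebraMap_apply R S (Localization.AtPrime q),
      IsLocalization.AtPrime.to_map_mem_maximal_iff (Localization.AtPrime q) q]
    exact hPq (Ideal.mem_map_of_mem _ ha)
  · intro n hn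
    haveI := hfin n
    have hν := nu_bijective β hβ 𝔞 (P ^ n) hdense hclosed
    letI algNT := tensorAlg R S (Localization.AtPrime q) (R ⧸ P ^ n)
    haveI locNT : IsLocalization
        (Algebra.algebraMapSubmonoid (S ⊗[R] (R ⧸ P ^ n)) q.primeCompl)
        (Localization.AtPrime q ⊗[R] (R ⧸ P ^ n)) :=
      isLocalization_tensor R S (Localization.AtPrime q) (R ⧸ P ^ n) q.primeCompl
    letI algMT : Algebra (B₁ ⊗[A₁] (R ⧸ P ^ n)) (Localization.AtPrime q ⊗[R] (R ⧸ P ^ n)) :=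
      ((algebraMap (S ⊗[R] (R ⧸ P ^ n)) (Localization.AtPrime q ⊗[R] (R ⧸ P ^ n))).comp
        (nu β hβ (P ^ n))).toAlgebra
    haveI locMT : IsLocalization
        ((Algebra.algebraMapSubmonoid (S ⊗[R] (R ⧸ P ^ n)) q.primeCompl).comap (nu β hβ (P ^ n)))
        (Localization.AtPrime q ⊗[R] (R ⧸ P ^ n)) :=
      isLocalization_of_bijective (nu β hβ (P ^ n)) hν rfl _
    haveI tower : IsScalarTower (R ⧸ P ^ n) (B₁ ⊗[A₁] (R ⧸ P ^ n))
        (Localization.AtPrime q ⊗[R] (R ⧸ P ^ n)) :=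
      IsScalarTower.of_algebraMap_eq fun x => by
        change _ = algebraMap (S ⊗[R] (R ⧸ P ^ n)) (Localization.AtPrime q ⊗[R] (R ⧸ P ^ n))
          (nu β hβ (P ^ n) (algebraMap (R ⧸ P ^ n) (B₁ ⊗[A₁] (R ⧸ P ^ n)) x))
        rw [Algebra.TensorProduct.right_algebraMap_apply,
          Algebra.TensorProduct.right_algebraMap_apply, nu_tmul, map_one, tensorAlg_tmul, map_one]
    have h𝔐 : Algebra.algebraMapSubmonoid (B₁ ⊗[A₁] (R ⧸ P ^ n)) (q.comap β).primeCompl ≤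
        (Algebra.algebraMapSubmonoid (S ⊗[R] (R ⧸ P ^ n)) q.primeCompl).comap
          (nu β hβ (P ^ n)) := by
      rintro _ ⟨b, hb, rfl⟩
      rw [Submonoid.mem_comap, Algebra.TensorProduct.algebraMap_apply, nu_tmul]
      refine ⟨β b, hb, ?_⟩
      rw [Algebra.TensorProduct.algebraMap_apply]
      rfl
    haveI hflatT : Module.Flat (R ⧸ P ^ n) (Localization.AtPrime q ⊗[R] (R ⧸ P ^ n)) :=
      flat_of_isLocalization_tensor (q.comap β) _ _ h𝔐
    exact Module.Flat.of_linearEquiv (commEquiv R (Localization.AtPrime q) (R ⧸ P ^ n))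

end right2

end Groth.Agent.Lib.Helper14.CTPFlat
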