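import Mathlib
import Groth.Agent.Lib.Helper14RigClosed3

/-!
# Rig-closed primes: the étale-mod-I case (helper14)
-/

set_option autoImplicit false
set_option linter.style.haveILetI false
universe u

namespace Groth.Agent.Lib.Helper14.RigClosed4

open Groth.Agent.Lib.Helper14

section step1
variable (A : Type u) [CommRing A] [IsNoetherianRing A] (I : Ideal A) [IsAdicComplete I A]
  (B : Type u) [CommRing B] [Algebra A B] [IsNoetherianRing B]
  [IsAdicComplete (I.map (algebraMap A B)) B]

omit [IsNoetherianRing A] [IsAdicComplete I A] [IsNoetherianRing B]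
  [IsAdicComplete (I.map (algebraMap A B)) B] in
theorem formallyUnramified_quotient
    [Algebra.FormallyUnramified (A ⧸ I) (B ⧸ (I.map (algebraMap A B)))] (K : Ideal B)
    (hK : I.map (algebraMap A B) ≤ K) : Algebra.FormallyUnramified A (B ⧸ K) := by
  haveI : Algebra.FormallyUnramified A (A ⧸ I) := Algebra.FormallyUnramified.quotient I
  haveI : Algebra.FormallyUnramified A (B ⧸ (I.map (algebraMap A B))) :=
    Algebra.FormallyUnramified.comp A (A ⧸ I) _
  exact Algebra.FormallyUnramified.of_surjective (Ideal.Quotient.factorₐ A hK)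
    (Ideal.Quotient.factor_surjective hK)

omit [IsNoetherianRing A] [IsAdicComplete I A] [IsNoetherianRing B]
  [IsAdicComplete (I.map (algebraMap A B)) B] in
/-- Step 1a -/
theorem finite_quotient_map_maximal
    (hft : Algebra.FiniteType A (B ⧸ (I.map (algebraMap A B))))
    [Algebra.FormallyUnramified (A ⧸ I) (B ⧸ (I.map (algebraMap A B)))]
    (n : Ideal A) (hn : n.IsMaximal) (hIn : I ≤ n) :
    Module.Finite A (B ⧸ n.map (algebraMap A B)) := by
  have hJn : I.map (algebraMap A B) ≤ n.map (algebraMap A B) := Ideal.map_mono hIn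
  haveI := formallyUnramified_quotient A I B _ hJn
  letI : Field (A ⧸ n) := Ideal.Quotient.field n
  haveI : Algebra.FiniteType A (B ⧸ n.map (algebraMap A B)) :=
    RigClosed2.finiteType_quotient A I B hft _ hJn
  haveI : Algebra.FiniteType (A ⧸ n) (B ⧸ n.map (algebraMap A B)) :=
    Algebra.FiniteType.of_restrictScalars_finiteType A _ _
  haveI : Algebra.FormallyUnramified (A ⧸ n) (B ⧸ n.map (algebraMap A B)) :=
    Algebra.FormallyUnramified.of_restrictScalars A _ _
  haveI : Module.Finite (A ⧸ n) (B ⧸ n.map (algebraMap A B)) :=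
    Algebra.FormallyUnramified.finite_of_free _ _
  exact Module.Finite.trans (A ⧸ n) _

/-- Step 1b -/
theorem isMaximal_and_finite_of_le
    (hft : Algebra.FiniteType A (B ⧸ (I.map (algebraMap A B))))
    [Algebra.FormallyUnramified (A ⧸ I) (B ⧸ (I.map (algebraMap A B)))]
    (p : PrimeSpectrum A)
    (hp : ¬ I ≤ p.asIdeal ∧ ∀ y : PrimeSpectrum A, p ≤ y → ¬ I ≤ y.asIdeal → y = p)
    (Q : Ideal B) [Q.IsPrime] (hpQ : p.asIdeal.map (algebraMap A B) ≤ Q)
    (hJQ : I.map (algebraMap A B) ≤ Q) : Q.IsMaximal ∧ Module.Finite A (B ⧸ Q) := by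
  set n : Ideal A := Q.comap (algebraMap A B) with hn
  have hpn : p.asIdeal ≤ n := Ideal.map_le_iff_le_comap.mp hpQ
  have hIn : I ≤ n := Ideal.map_le_iff_le_comap.mp hJQ
  have hnmax : n.IsMaximal := RigClosed3.isMaximal_of_rigClosed_le A I p hp n hpn hIn
  have hnQ : n.map (algebraMap A B) ≤ Q := Ideal.map_comap_le
  haveI hfin1 := finite_quotient_map_maximal A I B hft n hnmax hIn
  have hfin : Module.Finite A (B ⧸ Q) :=
    Module.Finite.of_surjective (Ideal.Quotient.factorₐ A hnQ).toLinearMap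
      (Ideal.Quotient.factor_surjective hnQ)
  refine ⟨?_, hfin⟩
  letI : Field (A ⧸ n) := Ideal.Quotient.field n
  haveI : Module.Finite (A ⧸ n) (B ⧸ Q) := Module.Finite.of_restrictScalars_finite A _ _
  haveI : Algebra.IsIntegral (A ⧸ n) (B ⧸ Q) := Algebra.IsIntegral.of_finite _ _
  exact Ideal.Quotient.maximal_of_isField Q
    (isField_of_isIntegral_of_isField' (Field.toIsField (A ⧸ n)))

/-- Step 1c -/
theorem finite_quotient_sup
    (hft : Algebra.FiniteType A (B ⧸ (I.map (algebraMap A B))))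
    [Algebra.FormallyUnramified (A ⧸ I) (B ⧸ (I.map (algebraMap A B)))]
    (p : PrimeSpectrum A)
    (hp : ¬ I ≤ p.asIdeal ∧ ∀ y : PrimeSpectrum A, p ≤ y → ¬ I ≤ y.asIdeal → y = p) :
    Module.Finite A (B ⧸ (p.asIdeal.map (algebraMap A B) ⊔ I.map (algebraMap A B))) := by
  set K : Ideal B := p.asIdeal.map (algebraMap A B) ⊔ I.map (algebraMap A B) with hK
  have hcomap : ∀ P : Ideal (B ⧸ K), P.IsPrime →
      (P.comap (Ideal.Quotient.mk K)).IsMaximal ∧
        Module.Finite A (B ⧸ P.comap (Ideal.Quotient.mk K)) := by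
    intro P hP
    have hKP : K ≤ P.comap (Ideal.Quotient.mk K) := by
      intro x hx
      rw [Ideal.mem_comap, Ideal.Quotient.eq_zero_iff_mem.mpr hx]
      exact zero_mem _
    exact isMaximal_and_finite_of_le A I B hft p hp _ (le_sup_left.trans hKP)
      (le_sup_right.trans hKP)
  haveI : IsArtinianRing (B ⧸ K) := by
    rw [isArtinianRing_iff_krullDimLE_zero, Ring.krullDimLE_zero_iff]
    intro P hP
    have h5 := Ideal.map_comap_of_surjective (Ideal.Quotient.mk K) Ideal.Quotient.mk_surjective P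
    rw [← h5]
    haveI := (hcomap P hP).1
    refine Ideal.IsMaximal.map_of_surjective_of_ker_le Ideal.Quotient.mk_surjective ?_
    rw [Ideal.mk_ker]
    intro x hx
    rw [Ideal.mem_comap, Ideal.Quotient.eq_zero_iff_mem.mpr hx]
    exact zero_mem _
  apply RigClosed2.finite_of_isArtinianRing
  intro m' hm'
  haveI := (hcomap m' hm'.isPrime).2
  let φ : B →ₐ[A] (B ⧸ K) ⧸ m' := (Ideal.Quotient.mkₐ A m').comp (Ideal.Quotient.mkₐ A K)
  have hφ : Function.Surjective φ :=
    (Ideal.Quotient.mkₐ_surjective A m').comp (Ideal.Quotient.mkₐ_surjective A K)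
  let ψ : (B ⧸ m'.comap (Ideal.Quotient.mk K)) →ₐ[A] (B ⧸ K) ⧸ m' :=
    Ideal.Quotient.liftₐ _ φ (fun a ha => by
      change Ideal.Quotient.mk m' (Ideal.Quotient.mk K a) = 0
      rw [Ideal.Quotient.eq_zero_iff_mem]
      exact ha)
  have hψ : Function.Surjective ψ := by
    intro y
    obtain ⟨b, rfl⟩ := hφ y
    exact ⟨Ideal.Quotient.mk _ b, rfl⟩
  exact Module.Finite.of_surjective ψ.toLinearMap hψ

/-- Step 1d: complete Nakayama for quotients of `B`. -/
theorem finite_quotient_of_finite_quotient_sup (K₀ : Ideal B)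
    (h : Module.Finite A (B ⧸ (K₀ ⊔ I.map (algebraMap A B)))) : Module.Finite A (B ⧸ K₀) := by
  set J : Ideal B := I.map (algebraMap A B) with hJ
  obtain ⟨r, s, hs⟩ := Module.Finite.exists_fin (R := A) (M := B ⧸ (K₀ ⊔ J))
  choose b hb using fun i => Ideal.Quotient.mk_surjective (I := K₀ ⊔ J) (s i)
  haveI : IsAdicComplete (J.map (Ideal.Quotient.mk K₀)) (B ⧸ K₀) :=
    Groth.Agent.Lib.Helper19.isAdicComplete_quotient_of_isNoetherianRing B J K₀
  have hJ'map : J.map (Ideal.Quotient.mk K₀) = I.map (algebraMap A (B ⧸ K₀)) := by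
    rw [hJ, Ideal.map_map]; rfl
  haveI : IsHausdorff (I.map (algebraMap A (B ⧸ K₀))) (B ⧸ K₀) := by
    rw [← hJ'map]; infer_instance
  haveI : IsHausdorff I (B ⧸ K₀) := RigClosed2.isHausdorff_of_map A I (B ⧸ K₀)
  refine Groth.Agent.Lib.Helper19.ComplUnram.finite_of_span_sup_smul_top_eq_top I
    (fun i => Ideal.Quotient.mk K₀ (b i)) ?_
  rw [eq_top_iff]
  intro x _
  obtain ⟨x, rfl⟩ := Ideal.Quotient.mk_surjective x
  have hx : Ideal.Quotient.mk (K₀ ⊔ J) x ∈ Submodule.span A (Set.range s) := by rw [hs]; trivial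
  obtain ⟨c, hc⟩ := (Submodule.mem_span_range_iff_exists_fun A).mp hx
  have hx2 : x - ∑ i, c i • b i ∈ K₀ ⊔ J := by
    rw [← Ideal.Quotient.eq, ← hc, map_sum]
    refine Finset.sum_congr rfl fun i _ => ?_
    rw [← hb i]
    rfl
  obtain ⟨k, hk, j, hj, hkj⟩ := Submodule.mem_sup.mp hx2
  have hx3 : Ideal.Quotient.mk K₀ j ∈ I • (⊤ : Submodule A (B ⧸ K₀)) := by
    rw [Ideal.smul_top_eq_map, Submodule.restrictScalars_mem, ← hJ'map]
    exact Ideal.mem_map_of_mem _ hj
  have : Ideal.Quotient.mk K₀ x =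
      ∑ i, c i • Ideal.Quotient.mk K₀ (b i) + Ideal.Quotient.mk K₀ j := by
    have h1 : x = ∑ i, c i • b i + (k + j) := by rw [hkj]; abel
    conv_lhs => rw [h1]
    rw [map_add, map_add, Ideal.Quotient.eq_zero_iff_mem.mpr hk, zero_add, map_sum]
    rfl
  rw [this]
  refine Submodule.add_mem_sup ?_ hx3
  exact Submodule.sum_mem _ fun i _ =>
    Submodule.smul_mem _ _ (Submodule.subset_span ⟨i, rfl⟩)

end step1

section step2
open TensorProduct

variable (A : Type u) [CommRing A] (I : Ideal A) (B' : Type u) [CommRing B'] [Algebra A B']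

/-- If `B'` is of finite type over `A`, `IB'` lies in the Jacobson radical and `B'/IB'` is formally
unramified over `A`, then `B'` is formally unramified over `A`. -/
theorem formallyUnramified_of_quotient [Algebra.FiniteType A B'] (I' : Ideal B')
    (hI' : I' = I.map (algebraMap A B'))
    (hjac : I' ≤ (⊥ : Ideal B').jacobson)
    [Algebra.FormallyUnramified A (B' ⧸ I')] :
    Algebra.FormallyUnramified A B' := by
  constructor
  have hsub : Subsingleton ((B' ⧸ I') ⊗[B'] Ω[B'⁄A]) := by
    refine subsingleton_of_forall_eq 0 fun x ↦ ?_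
    obtain ⟨x, rfl⟩ := (KaehlerDifferential.exact_kerCotangentToTensor_mapBaseChange A B'
      (B' ⧸ I') Ideal.Quotient.mk_surjective x).mp (Subsingleton.elim _ _)
    obtain ⟨⟨x, hx⟩, rfl⟩ := Ideal.toCotangent_surjective _ x
    simp only [KaehlerDifferential.kerCotangentToTensor_toCotangent]
    replace hx : x ∈ I' := by simpa using hx
    rw [hI'] at hx
    induction hx using Submodule.span_induction with
    | zero => simp
    | mem x h => obtain ⟨x, hx, rfl⟩ := h; simp
    | add x y hx hy _ _ => simp [*, TensorProduct.tmul_add]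
    | smul a x hx _ =>
      have : Ideal.Quotient.mk I' x = 0 := Ideal.Quotient.eq_zero_iff_mem.mpr (hI' ▸ hx)
      simp [*, TensorProduct.tmul_add, TensorProduct.smul_tmul', ← Algebra.algebraMap_eq_smul_one]
  have hsub2 : Subsingleton (Ω[B'⁄A] ⧸ (I' • ⊤ : Submodule B' Ω[B'⁄A])) :=
    (TensorProduct.quotTensorEquivQuotSMul Ω[B'⁄A] I').symm.toEquiv.subsingleton
  have htop : (I' • ⊤ : Submodule B' Ω[B'⁄A]) = ⊤ := Submodule.Quotient.subsingleton_iff.mp hsub2
  have hbot : (⊤ : Submodule B' Ω[B'⁄A]) = ⊥ :=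
    Submodule.eq_bot_of_le_smul_of_le_jacobson_bot I' ⊤ Module.Finite.fg_top (le_of_eq htop.symm) hjac
  exact (Submodule.subsingleton_iff B').mp (subsingleton_of_bot_eq_top hbot.symm)

end step2

section step3
variable (A : Type u) [CommRing A] [IsNoetherianRing A] (I : Ideal A) [IsAdicComplete I A]
  (B : Type u) [CommRing B] [Algebra A B] [IsNoetherianRing B]
  [IsAdicComplete (I.map (algebraMap A B)) B]

theorem formallyUnramified_quotient_map
    (hft : Algebra.FiniteType A (B ⧸ (I.map (algebraMap A B))))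
    [Algebra.FormallyUnramified (A ⧸ I) (B ⧸ (I.map (algebraMap A B)))]
    (p : PrimeSpectrum A)
    (hp : ¬ I ≤ p.asIdeal ∧ ∀ y : PrimeSpectrum A, p ≤ y → ¬ I ≤ y.asIdeal → y = p) :
    Module.Finite A (B ⧸ p.asIdeal.map (algebraMap A B)) ∧
      Algebra.FormallyUnramified A (B ⧸ p.asIdeal.map (algebraMap A B)) := by
  set pB : Ideal B := p.asIdeal.map (algebraMap A B) with hpB
  set J : Ideal B := I.map (algebraMap A B) with hJ
  have hfinR1 := finite_quotient_sup A I B hft p hp
  haveI hfinB' : Module.Finite A (B ⧸ pB) := finite_quotient_of_finite_quotient_sup A I B pB hfinR1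
  refine ⟨hfinB', ?_⟩
  haveI : IsAdicComplete (J.map (Ideal.Quotient.mk pB)) (B ⧸ pB) :=
    Groth.Agent.Lib.Helper19.isAdicComplete_quotient_of_isNoetherianRing B J pB
  have hJ'map : J.map (Ideal.Quotient.mk pB) = I.map (algebraMap A (B ⧸ pB)) := by
    rw [hJ, Ideal.map_map]; rfl
  have hjac : J.map (Ideal.Quotient.mk pB) ≤ (⊥ : Ideal (B ⧸ pB)).jacobson :=
    IsAdicComplete.le_jacobson_bot _
  haveI : Algebra.FormallyUnramified A (B ⧸ (pB ⊔ J)) :=
    formallyUnramified_quotient A I B (pB ⊔ J) le_sup_right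
  haveI : Algebra.FormallyUnramified A ((B ⧸ pB) ⧸ J.map (Ideal.Quotient.mk pB)) :=
    Algebra.FormallyUnramified.of_equiv (DoubleQuot.quotQuotEquivQuotSupₐ A pB J).symm
  exact formallyUnramified_of_quotient A I (B ⧸ pB) _ hJ'map hjac

theorem map_map_eq_maximalIdeal
    (hft : Algebra.FiniteType A (B ⧸ (I.map (algebraMap A B))))
    [Algebra.FormallyUnramified (A ⧸ I) (B ⧸ (I.map (algebraMap A B)))]
    (q : PrimeSpectrum B)
    (hp : ¬ I ≤ (PrimeSpectrum.comap (algebraMap A B) q).asIdeal ∧ ∀ y : PrimeSpectrum A,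
      (PrimeSpectrum.comap (algebraMap A B) q) ≤ y → ¬ I ≤ y.asIdeal →
        y = (PrimeSpectrum.comap (algebraMap A B) q)) :
    ((PrimeSpectrum.comap (algebraMap A B) q).asIdeal.map (algebraMap A B)).map
      (algebraMap B (Localization.AtPrime q.asIdeal)) =
      IsLocalRing.maximalIdeal (Localization.AtPrime q.asIdeal) := by
  set p : PrimeSpectrum A := PrimeSpectrum.comap (algebraMap A B) q with hpdef
  set pB : Ideal B := p.asIdeal.map (algebraMap A B) with hpB
  have hpBq : pB ≤ q.asIdeal := Ideal.map_comap_le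
  obtain ⟨hfin, hunr⟩ := formallyUnramified_quotient_map A I B hft p hp
  haveI := hfin
  haveI := hunr
  apply le_antisymm
  · rw [← Localization.AtPrime.map_eq_maximalIdeal]
    exact Ideal.map_mono hpBq
  -- the prime `q' = q/pB` of `B' = B/pB`
  have hq' : (q.asIdeal.map (Ideal.Quotient.mk pB)).IsPrime :=
    Ideal.map_isPrime_of_surjective Ideal.Quotient.mk_surjective (by rwa [Ideal.mk_ker])
  set q' : Ideal (B ⧸ pB) := q.asIdeal.map (Ideal.Quotient.mk pB) with hq'def
  have hcomapq' : q'.comap (Ideal.Quotient.mk pB) = q.asIdeal := by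
    rw [hq'def, Ideal.comap_map_of_surjective _ Ideal.Quotient.mk_surjective,
      ← RingHom.ker_eq_comap_bot, Ideal.mk_ker, sup_eq_left.mpr hpBq]
  haveI : q'.LiesOver p.asIdeal := ⟨by
    change p.asIdeal = q'.comap (algebraMap A (B ⧸ pB))
    have : algebraMap A (B ⧸ pB) = (Ideal.Quotient.mk pB).comp (algebraMap A B) := rfl
    rw [this, ← Ideal.comap_comap, hcomapq']
    rfl⟩
  letI := Localization.AtPrime.algebraOfLiesOver p.asIdeal q'
  haveI : Algebra.IsUnramifiedAt A q' :=
    Algebra.FormallyUnramified.comp A (B ⧸ pB) (Localization.AtPrime q')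
  have hmax := ((Algebra.isUnramifiedAt_iff_map_eq A p.asIdeal q').mp inferInstance).2
  have hbot : IsLocalRing.maximalIdeal (Localization.AtPrime q') = ⊥ := by
    rw [← hmax, IsScalarTower.algebraMap_eq A (B ⧸ pB) (Localization.AtPrime q'), ← Ideal.map_map]
    have : p.asIdeal.map (algebraMap A (B ⧸ pB)) = ⊥ := by
      rw [Ideal.map_eq_bot_iff_le_ker]
      intro a ha
      rw [RingHom.mem_ker]
      change Ideal.Quotient.mk pB (algebraMap A B a) = 0
      rw [Ideal.Quotient.eq_zero_iff_mem]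
      exact Ideal.mem_map_of_mem _ ha
    rw [this, Ideal.map_bot]
  -- transfer to `B_q`
  intro x hx
  obtain ⟨b, s, rfl⟩ := IsLocalization.exists_mk'_eq q.asIdeal.primeCompl x
  rw [IsLocalization.AtPrime.mk'_mem_maximal_iff (Localization.AtPrime q.asIdeal) q.asIdeal] at hx
  have h1 : algebraMap (B ⧸ pB) (Localization.AtPrime q') (Ideal.Quotient.mk pB b) = 0 := by
    have : algebraMap (B ⧸ pB) (Localization.AtPrime q') (Ideal.Quotient.mk pB b) ∈
        IsLocalRing.maximalIdeal (Localization.AtPrime q') := by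
      rw [IsLocalization.AtPrime.to_map_mem_maximal_iff (Localization.AtPrime q') q']
      exact Ideal.mem_map_of_mem _ hx
    rw [hbot] at this
    exact this
  obtain ⟨⟨t', ht'⟩, ht'b⟩ := (IsLocalization.map_eq_zero_iff q'.primeCompl _ _).mp h1
  obtain ⟨t, rfl⟩ := Ideal.Quotient.mk_surjective t'
  have htq : t ∉ q.asIdeal := fun h => ht' (Ideal.mem_map_of_mem _ h)
  have htb : t * b ∈ pB := by
    rw [← Ideal.Quotient.eq_zero_iff_mem, map_mul]
    exact ht'b
  have hunit : IsUnit (algebraMap B (Localization.AtPrime q.asIdeal) t) :=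
    IsLocalization.map_units (Localization.AtPrime q.asIdeal) (⟨t, htq⟩ : q.asIdeal.primeCompl)
  have h2 : algebraMap B (Localization.AtPrime q.asIdeal) b ∈
      pB.map (algebraMap B (Localization.AtPrime q.asIdeal)) := by
    have h3 := Ideal.mem_map_of_mem (algebraMap B (Localization.AtPrime q.asIdeal)) htb
    rw [map_mul] at h3
    exact (Ideal.unit_mul_mem_iff_mem _ hunit).mp h3
  rw [IsLocalization.mk'_eq_mul_mk'_one]
  exact Ideal.mul_mem_right _ _ h2

end step3

end Groth.Agent.Lib.Helper14.RigClosed4
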