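import Mathlib
import Groth.Agent.Lib.Helper14RigFlatComp
import Groth.Agent.Lib.Helper19ComplFlatMap

set_option autoImplicit false
set_option linter.unusedVariables false
set_option linter.unusedSectionVars false
set_option linter.style.haveILetI false
universe u

namespace Groth.Agent.Lib.Helper14.RigFlatDesc

open Groth.Agent.Lib.Helper14 Groth.Agent.Lib.Helper14.RigClosed5
open Groth.Agent.Lib.Helper14.RigFlat Groth.Agent.Lib.Helper14.RigFlatComp

section awayflat
variable {R R' : Type u} [CommRing R] [CommRing R'] [Algebra R R'] (r : R) (r' : R')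
  (θ : Localization.Away r →+* Localization.Away r')
  (hθ : θ.comp (algebraMap R (Localization.Away r)) =
    (algebraMap R' (Localization.Away r')).comp (algebraMap R R'))

include hθ in
theorem flat_away [Module.Flat R R'] : θ.Flat := by
  letI : Algebra (Localization.Away r) (Localization.Away r') := θ.toAlgebra
  haveI : IsScalarTower R (Localization.Away r) (Localization.Away r') :=
    IsScalarTower.of_algebraMap_eq fun x => by
      rw [IsScalarTower.algebraMap_apply R R' (Localization.Away r')]
      exact (RingHom.congr_fun hθ x).symm
  haveI : Module.Flat R (Localization.Away r') := Module.Flat.trans R R' _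
  exact (Module.flat_iff_of_isLocalization (Localization.Away r) (Submonoid.powers r)
    (Localization.Away r')).mpr inferInstance

include hθ in
theorem map_map_away (K : Ideal R) :
    (K.map (algebraMap R (Localization.Away r))).map θ =
      (K.map (algebraMap R R')).map (algebraMap R' (Localization.Away r')) := by
  rw [Ideal.map_map, hθ, ← Ideal.map_map]

end awayflat



section primeover
variable {R R' : Type u} [CommRing R] [CommRing R'] [Algebra R R'] [IsNoetherianRing R]
  [IsNoetherianRing R'] (K : Ideal R) (K' : Ideal R') (r : R) (r' : R')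
  (hr : algebraMap R R' r = r')
  (hKK' : K' ≤ K.map (algebraMap R R'))
  (θ : Localization.Away r →+* Localization.Away r')
  (hθ : θ.comp (algebraMap R (Localization.Away r)) =
    (algebraMap R' (Localization.Away r')).comp (algebraMap R R'))
  (hK : (K.map (algebraMap R (Localization.Away r))).map θ ≤
    K'.map (algebraMap R' (Localization.Away r')))

include hr hKK' hθ in
theorem exists_prime_over
    (hsurj : Function.Surjective (PrimeSpectrum.comap (algebraMap R R')))
    (m : Ideal (Ch R K r)) [m.IsPrime] (hKm : K.map (algebraMap R (Ch R K r)) ≤ m) :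
    ∃ Q : PrimeSpectrum (Ch R' K' r'), m ≤ Q.asIdeal.comap (FSch.complMap _ _ θ hK) := by
  -- the prime of `R` below `m` and a prime of `R'` above it
  obtain ⟨Q₀, hQ₀⟩ := hsurj ⟨m.comap (algebraMap R (Ch R K r)), inferInstance⟩
  have hQ₀' : Q₀.asIdeal.comap (algebraMap R R') = m.comap (algebraMap R (Ch R K r)) :=
    congrArg PrimeSpectrum.asIdeal hQ₀
  have hmem : ∀ b : R, algebraMap R (Ch R K r) b ∈ m → algebraMap R R' b ∈ Q₀.asIdeal := by
    intro b hb
    have : b ∈ Q₀.asIdeal.comap (algebraMap R R') := by rw [hQ₀']; exact hb
    exact this
  have hKQ₀ : K.map (algebraMap R R') ≤ Q₀.asIdeal := by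
    rw [Ideal.map_le_iff_le_comap]
    intro a ha
    exact hmem a (hKm (Ideal.mem_map_of_mem _ ha))
  have hr'Q₀ : r' ∉ Q₀.asIdeal := by
    intro h
    have h1 : r ∈ Q₀.asIdeal.comap (algebraMap R R') := by rw [Ideal.mem_comap, hr]; exact h
    rw [hQ₀'] at h1
    have hu : IsUnit (algebraMap R (Ch R K r) r) := isUnit_algebraMap_Ch R K r
    exact (‹m.IsPrime›).ne_top (Ideal.eq_top_of_isUnit_mem _ h1 hu)
  have hdisj : Disjoint (Submonoid.powers r' : Set R') (Q₀.asIdeal : Set R') := by
    rw [Set.disjoint_left]
    rintro _ ⟨n, rfl⟩ hn
    exact hr'Q₀ (Q₀.isPrime.mem_of_pow_mem n hn)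
  haveI hQL : (Q₀.asIdeal.map (algebraMap R' (Localization.Away r'))).IsPrime :=
    IsLocalization.isPrime_of_isPrime_disjoint (Submonoid.powers r') _ _ Q₀.isPrime hdisj
  have hle : K'.map (algebraMap R' (Localization.Away r')) ≤
      Q₀.asIdeal.map (algebraMap R' (Localization.Away r')) :=
    Ideal.map_mono (hKK'.trans hKQ₀)
  -- the ring map to the domain
  let χ : Ch R' K' r' →+*
      (Localization.Away r' ⧸ Q₀.asIdeal.map (algebraMap R' (Localization.Away r'))) :=
    (Ideal.Quotient.factor hle).comp
      (AdicCompletion.evalOneₐ (K'.map (algebraMap R' (Localization.Away r')))).toRingHom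
  have hχ : ∀ z : Localization.Away r',
      χ (algebraMap (Localization.Away r') (Ch R' K' r') z) = Ideal.Quotient.mk _ z := by
    intro z
    change Ideal.Quotient.factor hle (AdicCompletion.evalOneₐ _ (AdicCompletion.of _ _ z)) = _
    rw [AdicCompletion.evalOneₐ_of, Ideal.Quotient.factor_mk]
  refine ⟨⟨RingHom.ker χ, RingHom.ker_isPrime χ⟩, ?_⟩
  have hβ := complMap_comp_algebraMap (K.map (algebraMap R (Localization.Away r)))
    (K'.map (algebraMap R' (Localization.Away r'))) θ hK
  intro x hx
  rw [Ideal.mem_comap]
  change FSch.complMap _ _ θ hK x ∈ RingHom.ker χ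
  rw [RingHom.mem_ker]
  obtain ⟨y, hy⟩ := exists_sub_mem_Ch R K r x
  -- the `K`-part dies
  have hkill : ∀ k ∈ K.map (algebraMap R (Ch R K r)), χ (FSch.complMap _ _ θ hK k) = 0 := by
    intro k hk
    have h1 : K.map (algebraMap R (Ch R K r)) ≤
        (RingHom.ker χ).comap (FSch.complMap _ _ θ hK) := by
      rw [Ideal.map_le_iff_le_comap]
      intro a ha
      rw [Ideal.mem_comap, Ideal.mem_comap, RingHom.mem_ker]
      have e1 : FSch.complMap _ _ θ hK (algebraMap R (Ch R K r) a) =
          algebraMap (Localization.Away r') (Ch R' K' r')
            (algebraMap R' (Localization.Away r') (algebraMap R R' a)) := by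
        have := RingHom.congr_fun hβ (algebraMap R (Localization.Away r) a)
        rw [RingHom.comp_apply, RingHom.comp_apply] at this
        have h2 := RingHom.congr_fun hθ a
        rw [RingHom.comp_apply, RingHom.comp_apply] at h2
        rw [← h2]
        exact this
      rw [e1, hχ, Ideal.Quotient.eq_zero_iff_mem]
      exact Ideal.mem_map_of_mem _ (hKQ₀ (Ideal.mem_map_of_mem _ ha))
    exact h1 hk
  have hym : algebraMap (Localization.Away r) (Ch R K r) y ∈ m := by
    have : algebraMap (Localization.Away r) (Ch R K r) y =
        x - (x - algebraMap (Localization.Away r) (Ch R K r) y) := by ring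
    rw [this]
    exact m.sub_mem hx (hKm hy)
  -- the `y`-part dies
  have hyz : χ (FSch.complMap _ _ θ hK (algebraMap (Localization.Away r) (Ch R K r) y)) = 0 := by
    have e1 := RingHom.congr_fun hβ y
    rw [RingHom.comp_apply, RingHom.comp_apply] at e1
    rw [e1, hχ, Ideal.Quotient.eq_zero_iff_mem]
    obtain ⟨n, b, hb⟩ := IsLocalization.Away.surj r y
    have hbm : algebraMap R (Ch R K r) b ∈ m := by
      have : algebraMap R (Ch R K r) b =
          algebraMap (Localization.Away r) (Ch R K r) y *
            algebraMap (Localization.Away r) (Ch R K r)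
              (algebraMap R (Localization.Away r) r) ^ n := by
        rw [← map_pow, ← map_mul, hb]
        rfl
      rw [this]
      exact Ideal.mul_mem_right _ _ hym
    have h3 : θ y * (algebraMap R' (Localization.Away r') r') ^ n ∈
        Q₀.asIdeal.map (algebraMap R' (Localization.Away r')) := by
      have h4 : θ (algebraMap R (Localization.Away r) r) =
          algebraMap R' (Localization.Away r') r' := by
        have := RingHom.congr_fun hθ r
        rw [RingHom.comp_apply, RingHom.comp_apply, hr] at this
        exact this
      have h5 : θ (algebraMap R (Localization.Away r) b) =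
          algebraMap R' (Localization.Away r') (algebraMap R R' b) := by
        have := RingHom.congr_fun hθ b
        rw [RingHom.comp_apply, RingHom.comp_apply] at this
        exact this
      rw [← h4, ← map_pow, ← map_mul, hb, h5]
      exact Ideal.mem_map_of_mem _ (hmem b hbm)
    rcases hQL.mem_or_mem h3 with h | h
    · exact h
    · exfalso
      have hu : IsUnit ((algebraMap R' (Localization.Away r') r') ^ n) :=
        (IsLocalization.Away.algebraMap_isUnit r').pow n
      exact hQL.ne_top (Ideal.eq_top_of_isUnit_mem _ h hu)
  have hx' : x = (x - algebraMap (Localization.Away r) (Ch R K r) y) +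
      algebraMap (Localization.Away r) (Ch R K r) y := by ring
  rw [hx', map_add, map_add, hkill _ hy, hyz, add_zero]

end primeover


section main
variable (A : Type u) [CommRing A] [IsNoetherianRing A] (I : Ideal A)
  (B : Type u) [CommRing B] [Algebra A B] [IsNoetherianRing B]
  (A' : Type u) [CommRing A'] [Algebra A A'] [IsNoetherianRing A']
  (B' : Type u) [CommRing B'] [Algebra A B'] [Algebra B B'] [Algebra A' B']
  [IsScalarTower A B B'] [IsScalarTower A A' B'] [IsNoetherianRing B']
  [Module.Flat A A'] [Module.FaithfullyFlat B B']

set_option maxHeartbeats 1600000 in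
theorem main
    (hA'B' : ∀ f' : A', ∀ ψf' : Ch A' (I.map (algebraMap A A')) f' →+*
        Ch B' ((I.map (algebraMap A A')).map (algebraMap A' B')) (algebraMap A' B' f'),
      ψf'.comp (algebraMap (Localization.Away f') (Ch A' (I.map (algebraMap A A')) f')) =
        (algebraMap (Localization.Away (algebraMap A' B' f'))
          (Ch B' ((I.map (algebraMap A A')).map (algebraMap A' B')) (algebraMap A' B' f'))).comp
          (Localization.awayMap (algebraMap A' B') f') →
      ∀ qf' : PrimeSpectrum
          (Ch B' ((I.map (algebraMap A A')).map (algebraMap A' B')) (algebraMap A' B' f')),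
        RC ((((I.map (algebraMap A A')).map (algebraMap A' B')).map
          (algebraMap B' (Localization.Away (algebraMap A' B' f')))).map
          (algebraMap (Localization.Away (algebraMap A' B' f'))
            (Ch B' ((I.map (algebraMap A A')).map (algebraMap A' B')) (algebraMap A' B' f')))) qf' →
        ((algebraMap (Ch B' ((I.map (algebraMap A A')).map (algebraMap A' B')) (algebraMap A' B' f'))
          (Localization.AtPrime qf'.asIdeal)).comp ψf').Flat)
    (f : A) (ψ : Ch A I f →+* Ch B (I.map (algebraMap A B)) (algebraMap A B f))
    (hψ : ψ.comp (algebraMap (Localization.Away f) (Ch A I f)) =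
      (algebraMap (Localization.Away (algebraMap A B f))
        (Ch B (I.map (algebraMap A B)) (algebraMap A B f))).comp
        (Localization.awayMap (algebraMap A B) f))
    (q : PrimeSpectrum (Ch B (I.map (algebraMap A B)) (algebraMap A B f)))
    (hq : RC (((I.map (algebraMap A B)).map
        (algebraMap B (Localization.Away (algebraMap A B f)))).map
        (algebraMap (Localization.Away (algebraMap A B f))
          (Ch B (I.map (algebraMap A B)) (algebraMap A B f)))) q) :
    ((algebraMap (Ch B (I.map (algebraMap A B)) (algebraMap A B f))
      (Localization.AtPrime q.asIdeal)).comp ψ).Flat := by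
  haveI := q.isPrime
  have hgg' : algebraMap B B' (algebraMap A B f) = algebraMap A' B' (algebraMap A A' f) := by
    rw [← IsScalarTower.algebraMap_apply A B B', ← IsScalarTower.algebraMap_apply A A' B']
  have hpow : Submonoid.powers (algebraMap A B f) ≤
      (Submonoid.powers (algebraMap A' B' (algebraMap A A' f))).comap (algebraMap B B') := by
    rintro _ ⟨n, rfl⟩
    rw [Submonoid.mem_comap, map_pow, hgg']
    exact ⟨n, rfl⟩
  obtain ⟨θB, hθB⟩ : ∃ θ : Localization.Away (algebraMap A B f) →+*
      Localization.Away (algebraMap A' B' (algebraMap A A' f)),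
      θ.comp (algebraMap B (Localization.Away (algebraMap A B f))) =
        (algebraMap B' (Localization.Away (algebraMap A' B' (algebraMap A A' f)))).comp
          (algebraMap B B') :=
    ⟨IsLocalization.map (Localization.Away (algebraMap A' B' (algebraMap A A' f)))
      (algebraMap B B') hpow, IsLocalization.map_comp _⟩
  have hθA : (Localization.awayMap (algebraMap A A') f).comp (algebraMap A (Localization.Away f)) =
      (algebraMap A' (Localization.Away (algebraMap A A' f))).comp (algebraMap A A') :=
    IsLocalization.map_comp _
  have hθ' : (Localization.awayMap (algebraMap A' B') (algebraMap A A' f)).comp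
      (algebraMap A' (Localization.Away (algebraMap A A' f))) =
      (algebraMap B' (Localization.Away (algebraMap A' B' (algebraMap A A' f)))).comp
        (algebraMap A' B') :=
    IsLocalization.map_comp _
  have hθAB : (Localization.awayMap (algebraMap A B) f).comp (algebraMap A (Localization.Away f)) =
      (algebraMap B (Localization.Away (algebraMap A B f))).comp (algebraMap A B) :=
    IsLocalization.map_comp _
  have hJJ'' : (I.map (algebraMap A B)).map (algebraMap B B') =
      (I.map (algebraMap A A')).map (algebraMap A' B') := by
    rw [Ideal.map_map, Ideal.map_map, ← IsScalarTower.algebraMap_eq, ← IsScalarTower.algebraMap_eq]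
  have heqA := map_map_away f (algebraMap A A' f) (Localization.awayMap (algebraMap A A') f) hθA I
  have heqB : ((I.map (algebraMap A B)).map
      (algebraMap B (Localization.Away (algebraMap A B f)))).map θB =
      ((I.map (algebraMap A A')).map (algebraMap A' B')).map
        (algebraMap B' (Localization.Away (algebraMap A' B' (algebraMap A A' f)))) := by
    rw [map_map_away (algebraMap A B f) (algebraMap A' B' (algebraMap A A' f)) θB hθB, hJJ'']
  have heq' := map_map_away (algebraMap A A' f) (algebraMap A' B' (algebraMap A A' f))
    (Localization.awayMap (algebraMap A' B') (algebraMap A A' f)) hθ' (I.map (algebraMap A A'))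
  obtain ⟨α, hαdef⟩ : ∃ α : Ch A I f →+* Ch A' (I.map (algebraMap A A')) (algebraMap A A' f),
      α = FSch.complMap _ _ (Localization.awayMap (algebraMap A A') f) heqA.le := ⟨_, rfl⟩
  obtain ⟨β, hβdef⟩ : ∃ β : Ch B (I.map (algebraMap A B)) (algebraMap A B f) →+*
      Ch B' ((I.map (algebraMap A A')).map (algebraMap A' B')) (algebraMap A' B' (algebraMap A A' f)),
      β = FSch.complMap _ _ θB heqB.le := ⟨_, rfl⟩
  obtain ⟨ψ', hψ'def⟩ : ∃ ψ' : Ch A' (I.map (algebraMap A A')) (algebraMap A A' f) →+*
      Ch B' ((I.map (algebraMap A A')).map (algebraMap A' B')) (algebraMap A' B' (algebraMap A A' f)),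
      ψ' = FSch.complMap _ _ (Localization.awayMap (algebraMap A' B') (algebraMap A A' f)) heq'.le :=
    ⟨_, rfl⟩
  have hα : α.comp (algebraMap (Localization.Away f) (Ch A I f)) =
      (algebraMap (Localization.Away (algebraMap A A' f))
        (Ch A' (I.map (algebraMap A A')) (algebraMap A A' f))).comp
        (Localization.awayMap (algebraMap A A') f) := by
    rw [hαdef]; exact complMap_comp_algebraMap _ _ _ _
  have hβ : β.comp (algebraMap (Localization.Away (algebraMap A B f))
        (Ch B (I.map (algebraMap A B)) (algebraMap A B f))) =
      (algebraMap (Localization.Away (algebraMap A' B' (algebraMap A A' f)))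
        (Ch B' ((I.map (algebraMap A A')).map (algebraMap A' B'))
          (algebraMap A' B' (algebraMap A A' f)))).comp θB := by
    rw [hβdef]; exact complMap_comp_algebraMap _ _ _ _
  have hψ' : ψ'.comp (algebraMap (Localization.Away (algebraMap A A' f))
        (Ch A' (I.map (algebraMap A A')) (algebraMap A A' f))) =
      (algebraMap (Localization.Away (algebraMap A' B' (algebraMap A A' f)))
        (Ch B' ((I.map (algebraMap A A')).map (algebraMap A' B'))
          (algebraMap A' B' (algebraMap A A' f)))).comp
        (Localization.awayMap (algebraMap A' B') (algebraMap A A' f)) := by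
    rw [hψ'def]; exact complMap_comp_algebraMap _ _ _ _
  -- the two composites `A_f → B'_{g'}` agree
  have hsq : θB.comp (Localization.awayMap (algebraMap A B) f) =
      (Localization.awayMap (algebraMap A' B') (algebraMap A A' f)).comp
        (Localization.awayMap (algebraMap A A') f) := by
    apply IsLocalization.ringHom_ext (Submonoid.powers f)
    have hL : (θB.comp (Localization.awayMap (algebraMap A B) f)).comp
        (algebraMap A (Localization.Away f)) =
        (algebraMap B' (Localization.Away (algebraMap A' B' (algebraMap A A' f)))).comp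
          (algebraMap A B') := by
      rw [RingHom.comp_assoc, hθAB, ← RingHom.comp_assoc, hθB, RingHom.comp_assoc,
        ← IsScalarTower.algebraMap_eq A B B']
    have hR : ((Localization.awayMap (algebraMap A' B') (algebraMap A A' f)).comp
        (Localization.awayMap (algebraMap A A') f)).comp (algebraMap A (Localization.Away f)) =
        (algebraMap B' (Localization.Away (algebraMap A' B' (algebraMap A A' f)))).comp
          (algebraMap A B') := by
      rw [RingHom.comp_assoc, hθA, ← RingHom.comp_assoc, hθ', RingHom.comp_assoc,
        ← IsScalarTower.algebraMap_eq A A' B']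
    exact hL.trans hR.symm
  have hcomm : β.comp ψ = ψ'.comp α := by
    refine ringHom_ext_of_comp _ _ (θB.comp (Localization.awayMap (algebraMap A B) f))
      (IsNoetherian.noetherian _) ?_ _ _ ?_ ?_
    · rw [hsq, ← Ideal.map_map, heqA, heq']
    · rw [RingHom.comp_assoc, hψ, ← RingHom.comp_assoc, hβ, RingHom.comp_assoc]
    · rw [RingHom.comp_assoc, hα, ← RingHom.comp_assoc, hψ', RingHom.comp_assoc, hsq]
  have hαflat : α.Flat := by
    rw [hαdef]
    exact Groth.Agent.Lib.Helper19.complMap_flat _ _ _
      (flat_away f (algebraMap A A' f) _ hθA) heqA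
  have hβflat : β.Flat := by
    rw [hβdef]
    exact Groth.Agent.Lib.Helper19.complMap_flat _ _ _
      (flat_away (algebraMap A B f) (algebraMap A' B' (algebraMap A A' f)) θB hθB) heqB
  -- a prime of `B̂'` over a maximal ideal containing `q`
  obtain ⟨m, hm, hqm⟩ := Ideal.exists_le_maximal q.asIdeal q.isPrime.ne_top
  haveI := hm.isPrime
  haveI : IsNoetherianRing (Ch B (I.map (algebraMap A B)) (algebraMap A B f)) :=
    isNoetherianRing_Ch B _ _
  haveI : IsNoetherianRing (Ch B' ((I.map (algebraMap A A')).map (algebraMap A' B'))
      (algebraMap A' B' (algebraMap A A' f))) := isNoetherianRing_Ch B' _ _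
  haveI hcB : IsAdicComplete ((I.map (algebraMap A B)).map
      (algebraMap B (Ch B (I.map (algebraMap A B)) (algebraMap A B f))))
      (Ch B (I.map (algebraMap A B)) (algebraMap A B f)) := isAdicComplete_Ch B _ _
  have hKm : (I.map (algebraMap A B)).map
      (algebraMap B (Ch B (I.map (algebraMap A B)) (algebraMap A B f))) ≤ m :=
    (IsAdicComplete.le_jacobson_bot _).trans (sInf_le ⟨bot_le, hm⟩)
  obtain ⟨Q, hQ⟩ := exists_prime_over (I.map (algebraMap A B))
    ((I.map (algebraMap A A')).map (algebraMap A' B')) (algebraMap A B f)
    (algebraMap A' B' (algebraMap A A' f)) hgg' hJJ''.ge θB hθB heqB.le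
    PrimeSpectrum.comap_surjective_of_faithfullyFlat m hKm
  rw [← hβdef] at hQ
  -- the ideals of definition
  have hK1 := map_algebraMap_Ch B (I.map (algebraMap A B)) (algebraMap A B f)
  have hKβ : (((I.map (algebraMap A B)).map
      (algebraMap B (Localization.Away (algebraMap A B f)))).map
      (algebraMap (Localization.Away (algebraMap A B f))
        (Ch B (I.map (algebraMap A B)) (algebraMap A B f)))).map β =
      (((I.map (algebraMap A A')).map (algebraMap A' B')).map
        (algebraMap B' (Localization.Away (algebraMap A' B' (algebraMap A A' f))))).map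
        (algebraMap (Localization.Away (algebraMap A' B' (algebraMap A A' f)))
          (Ch B' ((I.map (algebraMap A A')).map (algebraMap A' B'))
            (algebraMap A' B' (algebraMap A A' f)))) := by
    rw [Ideal.map_map (algebraMap (Localization.Away (algebraMap A B f))
        (Ch B (I.map (algebraMap A B)) (algebraMap A B f))) β, hβ, ← Ideal.map_map θB, heqB]
  letI algβ : Algebra (Ch B (I.map (algebraMap A B)) (algebraMap A B f))
      (Ch B' ((I.map (algebraMap A A')).map (algebraMap A' B'))
        (algebraMap A' B' (algebraMap A A' f))) := β.toAlgebra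
  haveI : Module.Flat (Ch B (I.map (algebraMap A B)) (algebraMap A B f))
      (Ch B' ((I.map (algebraMap A A')).map (algebraMap A' B'))
        (algebraMap A' B' (algebraMap A A' f))) := hβflat
  haveI hcB2 : IsAdicComplete (((I.map (algebraMap A B)).map
      (algebraMap B (Localization.Away (algebraMap A B f)))).map
      (algebraMap (Localization.Away (algebraMap A B f))
        (Ch B (I.map (algebraMap A B)) (algebraMap A B f))))
      (Ch B (I.map (algebraMap A B)) (algebraMap A B f)) :=
    AdicCompletion.isAdicComplete_self _ (IsNoetherian.noetherian _)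
  haveI hcB' : IsAdicComplete ((((I.map (algebraMap A B)).map
      (algebraMap B (Localization.Away (algebraMap A B f)))).map
      (algebraMap (Localization.Away (algebraMap A B f))
        (Ch B (I.map (algebraMap A B)) (algebraMap A B f)))).map
      (algebraMap (Ch B (I.map (algebraMap A B)) (algebraMap A B f))
        (Ch B' ((I.map (algebraMap A A')).map (algebraMap A' B'))
          (algebraMap A' B' (algebraMap A A' f)))))
      (Ch B' ((I.map (algebraMap A A')).map (algebraMap A' B'))
        (algebraMap A' B' (algebraMap A A' f))) := by
    change IsAdicComplete ((((I.map (algebraMap A B)).map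
      (algebraMap B (Localization.Away (algebraMap A B f)))).map
      (algebraMap (Localization.Away (algebraMap A B f))
        (Ch B (I.map (algebraMap A B)) (algebraMap A B f)))).map β) _
    rw [hKβ]
    exact AdicCompletion.isAdicComplete_self _ (IsNoetherian.noetherian _)
  have hcomapQ : (PrimeSpectrum.comap (algebraMap (Ch B (I.map (algebraMap A B)) (algebraMap A B f))
        (Ch B' ((I.map (algebraMap A A')).map (algebraMap A' B'))
          (algebraMap A' B' (algebraMap A A' f)))) Q).asIdeal = m :=
    (hm.eq_of_le (Ideal.IsPrime.ne_top inferInstance) hQ).symm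
  obtain ⟨q', hq', hq'q⟩ := (RigClosed3.exists_rigClosed_over_iff
    (Ch B (I.map (algebraMap A B)) (algebraMap A B f))
    (((I.map (algebraMap A B)).map
      (algebraMap B (Localization.Away (algebraMap A B f)))).map
      (algebraMap (Localization.Away (algebraMap A B f))
        (Ch B (I.map (algebraMap A B)) (algebraMap A B f))))
    (Ch B' ((I.map (algebraMap A A')).map (algebraMap A' B'))
      (algebraMap A' B' (algebraMap A A' f))) q hq).mp
    ⟨Q, by
      rw [Ideal.map_le_iff_le_comap]
      refine le_trans ?_ hQ
      rw [← hK1]; exact hKm, by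
      rw [hcomapQ]; exact hqm, by
      rw [hcomapQ]; exact hm⟩
  haveI := q'.isPrime
  have hq'K : RC ((((I.map (algebraMap A A')).map (algebraMap A' B')).map
      (algebraMap B' (Localization.Away (algebraMap A' B' (algebraMap A A' f))))).map
      (algebraMap (Localization.Away (algebraMap A' B' (algebraMap A A' f)))
        (Ch B' ((I.map (algebraMap A A')).map (algebraMap A' B'))
          (algebraMap A' B' (algebraMap A A' f))))) q' := by
    rw [← hKβ]; exact hq'
  have hflat' := hA'B' (algebraMap A A' f) ψ' hψ' q' hq'K
  have h1 := hαflat.comp hflat'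
  have hcomap : q.asIdeal = q'.asIdeal.comap β := (congrArg PrimeSpectrum.asIdeal hq'q).symm
  have hlr := RingHom.Flat.localRingHom hβflat q'.asIdeal q.asIdeal hcomap
  have e : ((algebraMap (Ch B' ((I.map (algebraMap A A')).map (algebraMap A' B'))
        (algebraMap A' B' (algebraMap A A' f))) (Localization.AtPrime q'.asIdeal)).comp ψ').comp α =
      (Localization.localRingHom q.asIdeal q'.asIdeal β hcomap).comp
        ((algebraMap (Ch B (I.map (algebraMap A B)) (algebraMap A B f))
          (Localization.AtPrime q.asIdeal)).comp ψ) := by
    rw [RingHom.comp_assoc, ← hcomm, ← RingHom.comp_assoc, ← RingHom.comp_assoc]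
    congr 1
    refine RingHom.ext fun b => ?_
    exact (Localization.localRingHom_to_map (I := q.asIdeal) q'.asIdeal β hcomap b).symm
  rw [e] at h1
  letI algT : Algebra (Ch A I f) (Localization.AtPrime q.asIdeal) :=
    ((algebraMap (Ch B (I.map (algebraMap A B)) (algebraMap A B f))
      (Localization.AtPrime q.asIdeal)).comp ψ).toAlgebra
  letI algTT' : Algebra (Localization.AtPrime q.asIdeal) (Localization.AtPrime q'.asIdeal) :=
    (Localization.localRingHom q.asIdeal q'.asIdeal β hcomap).toAlgebra
  letI algAT' : Algebra (Ch A I f) (Localization.AtPrime q'.asIdeal) :=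
    ((Localization.localRingHom q.asIdeal q'.asIdeal β hcomap).comp
      ((algebraMap (Ch B (I.map (algebraMap A B)) (algebraMap A B f))
        (Localization.AtPrime q.asIdeal)).comp ψ)).toAlgebra
  haveI : IsScalarTower (Ch A I f) (Localization.AtPrime q.asIdeal)
      (Localization.AtPrime q'.asIdeal) := IsScalarTower.of_algebraMap_eq fun _ => rfl
  haveI : Module.Flat (Localization.AtPrime q.asIdeal) (Localization.AtPrime q'.asIdeal) := hlr
  haveI : IsLocalHom (algebraMap (Localization.AtPrime q.asIdeal)
      (Localization.AtPrime q'.asIdeal)) :=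
    Localization.isLocalHom_localRingHom q.asIdeal q'.asIdeal β hcomap
  haveI : Module.FaithfullyFlat (Localization.AtPrime q.asIdeal)
      (Localization.AtPrime q'.asIdeal) := Module.FaithfullyFlat.of_flat_of_isLocalHom
  haveI : Module.Flat (Ch A I f) (Localization.AtPrime q'.asIdeal) := h1
  exact Groth.Agent.Lib.Helper5.flat_of_faithfullyFlat_of_flat (R := Ch A I f)
    (S := Localization.AtPrime q.asIdeal) (Localization.AtPrime q'.asIdeal)

end main

end Groth.Agent.Lib.Helper14.RigFlatDesc
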