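import Mathlib
import Groth.Agent.Lib.Helper14RigFlatDesc
import Groth.Agent.Lib.Helper14RigClosed4

set_option autoImplicit false
set_option linter.unusedVariables false
set_option linter.unusedSectionVars false
set_option linter.style.haveILetI false
universe u

namespace Groth.Agent.Lib.Helper14.RigFlatEt

open Groth.Agent.Lib.Helper14 Groth.Agent.Lib.Helper14.RigClosed5
open Groth.Agent.Lib.Helper14.RigFlat Groth.Agent.Lib.Helper14.RigFlatComp
open Groth.Agent.Lib.Helper14.RigFlatDesc


section G
variable {A₁ B₁ B₂ : Type u} [CommRing A₁] [CommRing B₁] [CommRing B₂] [IsNoetherianRing B₁]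

/-- If `A₁ → B₁` is flat at all rig-closed primes, it is flat at all primes not containing `K`,
also after a flat extension `B₁ → B₂`. -/
theorem flat_comp_of_rigFlat (K : Ideal B₁) (ψ₁ : A₁ →+* B₁)
    (h : ∀ qf : PrimeSpectrum B₁, RC K qf →
      ((algebraMap B₁ (Localization.AtPrime qf.asIdeal)).comp ψ₁).Flat)
    (β : B₁ →+* B₂) (hβ : β.Flat) (q : Ideal B₂) [q.IsPrime] (hq : ¬ K ≤ q.comap β) :
    ((algebraMap B₂ (Localization.AtPrime q)).comp (β.comp ψ₁)).Flat := by
  obtain ⟨qB, hpqB, hqB⟩ := RigClosed3.exists_rigClosed_ge B₁ K ⟨q.comap β, inferInstance⟩ hq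
  have hflat_AB := h qB hqB
  haveI := qB.isPrime
  letI algBT : Algebra B₁ (Localization.AtPrime q) :=
    ((algebraMap B₂ (Localization.AtPrime q)).comp β).toAlgebra
  letI algAL : Algebra A₁ (Localization.AtPrime qB.asIdeal) :=
    ((algebraMap B₁ (Localization.AtPrime qB.asIdeal)).comp ψ₁).toAlgebra
  letI algAT : Algebra A₁ (Localization.AtPrime q) :=
    ((algebraMap B₂ (Localization.AtPrime q)).comp (β.comp ψ₁)).toAlgebra
  have hunits : ∀ y : qB.asIdeal.primeCompl,
      IsUnit (algebraMap B₁ (Localization.AtPrime q) y) := by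
    intro y
    have hy : β y ∈ q.primeCompl := fun hmem => y.2 (hpqB hmem)
    exact IsLocalization.map_units (Localization.AtPrime q) ⟨β y, hy⟩
  letI algLT : Algebra (Localization.AtPrime qB.asIdeal) (Localization.AtPrime q) :=
    (IsLocalization.lift hunits).toAlgebra
  haveI : IsScalarTower B₁ (Localization.AtPrime qB.asIdeal) (Localization.AtPrime q) :=
    IsScalarTower.of_algebraMap_eq fun b => (IsLocalization.lift_eq hunits b).symm
  haveI : IsScalarTower A₁ (Localization.AtPrime qB.asIdeal) (Localization.AtPrime q) :=
    IsScalarTower.of_algebraMap_eq fun a => by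
      change algebraMap B₂ (Localization.AtPrime q) (β (ψ₁ a)) =
        IsLocalization.lift hunits (algebraMap _ (Localization.AtPrime qB.asIdeal) (ψ₁ a))
      rw [IsLocalization.lift_eq]
      rfl
  haveI hBT : Module.Flat B₁ (Localization.AtPrime q) := by
    have h2 : (algebraMap B₂ (Localization.AtPrime q)).Flat :=
      RingHom.flat_algebraMap_iff.mpr (IsLocalization.flat _ q.primeCompl)
    exact hβ.comp h2
  haveI hLT : Module.Flat (Localization.AtPrime qB.asIdeal) (Localization.AtPrime q) :=
    (Module.flat_iff_of_isLocalization (Localization.AtPrime qB.asIdeal)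
      qB.asIdeal.primeCompl (Localization.AtPrime q)).mpr hBT
  haveI hAL : Module.Flat A₁ (Localization.AtPrime qB.asIdeal) := hflat_AB
  exact Module.Flat.trans A₁ (Localization.AtPrime qB.asIdeal) (Localization.AtPrime q)

end G



section core
variable (R : Type u) [CommRing R] [IsNoetherianRing R] (𝔞 : Ideal R) [IsAdicComplete 𝔞 R]
  (R' : Type u) [CommRing R'] [Algebra R R'] [IsNoetherianRing R']
  [IsAdicComplete (𝔞.map (algebraMap R R')) R']

theorem flat_of_rigClosed_comap
    (hft : Algebra.FiniteType R (R' ⧸ 𝔞.map (algebraMap R R')))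
    [Algebra.FormallyUnramified (R ⧸ 𝔞) (R' ⧸ 𝔞.map (algebraMap R R'))]
    (T : Type u) [CommRing T] [IsLocalRing T] [IsNoetherianRing T] (φ : R' →+* T)
    (hp : RC 𝔞 (PrimeSpectrum.comap (algebraMap R R')
      ⟨(IsLocalRing.maximalIdeal T).comap φ, inferInstance⟩))
    (hflat : (φ.comp (algebraMap R R')).Flat) : φ.Flat := by
  obtain ⟨p', hp'⟩ : ∃ p' : PrimeSpectrum R',
      p' = ⟨(IsLocalRing.maximalIdeal T).comap φ, inferInstance⟩ := ⟨_, rfl⟩
  rw [← hp'] at hp
  have hp'a : p'.asIdeal = (IsLocalRing.maximalIdeal T).comap φ := by rw [hp']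
  haveI := p'.isPrime
  have hmax := RigClosed4.map_map_eq_maximalIdeal R 𝔞 R' hft p' hp
  -- algebra structures
  letI algR'T : Algebra R' T := φ.toAlgebra
  letI algRT : Algebra R T := (φ.comp (algebraMap R R')).toAlgebra
  haveI : IsScalarTower R R' T := IsScalarTower.of_algebraMap_eq fun _ => rfl
  have hunits : ∀ y : p'.asIdeal.primeCompl, IsUnit (algebraMap R' T y) := by
    intro y
    have hy : φ y ∉ IsLocalRing.maximalIdeal T :=
      fun h => y.2 ((SetLike.ext_iff.mp hp'a (y : R')).mpr h)
    exact IsLocalRing.notMem_maximalIdeal.mp hy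
  letI algLT : Algebra (Localization.AtPrime p'.asIdeal) T := (IsLocalization.lift hunits).toAlgebra
  haveI : IsScalarTower R' (Localization.AtPrime p'.asIdeal) T :=
    IsScalarTower.of_algebraMap_eq fun b => (IsLocalization.lift_eq hunits b).symm
  haveI : IsScalarTower R (Localization.AtPrime p'.asIdeal) T :=
    IsScalarTower.of_algebraMap_eq fun a => by
      rw [IsScalarTower.algebraMap_apply R R' (Localization.AtPrime p'.asIdeal),
        ← IsScalarTower.algebraMap_apply R' (Localization.AtPrime p'.asIdeal) T,
        ← IsScalarTower.algebraMap_apply R R' T]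
  haveI : Module.Flat R T := hflat
  -- the ideal
  have hI : (PrimeSpectrum.comap (algebraMap R R') p').asIdeal.map
      (algebraMap R (Localization.AtPrime p'.asIdeal)) =
      IsLocalRing.maximalIdeal (Localization.AtPrime p'.asIdeal) := by
    rw [← hmax, Ideal.map_map, ← IsScalarTower.algebraMap_eq]
  haveI hImax : ((PrimeSpectrum.comap (algebraMap R R') p').asIdeal.map
      (algebraMap R (Localization.AtPrime p'.asIdeal))).IsMaximal := by
    rw [hI]; infer_instance
  have hLT : Module.Flat (Localization.AtPrime p'.asIdeal) T := by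
    apply Groth.Agent.Lib.Helper5.flat_of_lTensor_ideal_injective (A := Localization.AtPrime p'.asIdeal)
      (B := T) T ((PrimeSpectrum.comap (algebraMap R R') p').asIdeal.map
        (algebraMap R (Localization.AtPrime p'.asIdeal)))
    · rw [IsLocalRing.jacobson_eq_maximalIdeal ⊥ bot_ne_top, Ideal.map_map,
        ← IsScalarTower.algebraMap_eq, Ideal.map_le_iff_le_comap]
      intro a ha
      rw [Ideal.mem_comap]
      have : algebraMap R R' a ∈ p'.asIdeal := ha
      rw [hp'a] at this
      exact this
    · exact Groth.Agent.Lib.Helper5.lTensor_map_subtype_injective_of_flat (R := R)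
        (S := Localization.AtPrime p'.asIdeal) T _
    · intro K
      letI : Field (Localization.AtPrime p'.asIdeal ⧸
          (PrimeSpectrum.comap (algebraMap R R') p').asIdeal.map
            (algebraMap R (Localization.AtPrime p'.asIdeal))) := Ideal.Quotient.field _
      haveI : Module.Free (Localization.AtPrime p'.asIdeal ⧸
          (PrimeSpectrum.comap (algebraMap R R') p').asIdeal.map
            (algebraMap R (Localization.AtPrime p'.asIdeal)))
          (TensorProduct (Localization.AtPrime p'.asIdeal) (Localization.AtPrime p'.asIdeal ⧸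
          (PrimeSpectrum.comap (algebraMap R R') p').asIdeal.map
            (algebraMap R (Localization.AtPrime p'.asIdeal))) T) := Module.Free.of_divisionRing _ _
      exact Groth.Agent.Lib.Helper5.lTensor_restrictScalars_subtype_injective_of_flat_baseChange _
        Module.Flat.of_free K
  change Module.Flat R' T
  exact Module.Flat.trans R' (Localization.AtPrime p'.asIdeal) T

end core



section U
variable (R : Type u) [CommRing R] [IsNoetherianRing R] (K : Ideal R) (r : R)

theorem isLocalization_quotient_Ch :
    IsLocalization (Submonoid.powers (Ideal.Quotient.mk K r))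
      (Ch R K r ⧸ K.map (algebraMap R (Ch R K r))) := by
  rw [isLocalization_iff]
  refine ⟨?_, ?_, ?_⟩
  · rintro ⟨_, n, rfl⟩
    change IsUnit (algebraMap (R ⧸ K) (Ch R K r ⧸ K.map (algebraMap R (Ch R K r)))
      ((Ideal.Quotient.mk K r) ^ n))
    rw [map_pow]
    apply IsUnit.pow
    change IsUnit (Ideal.Quotient.mk _ (algebraMap R (Ch R K r) r))
    exact (isUnit_algebraMap_Ch R K r).map _
  · intro z
    obtain ⟨c, rfl⟩ := Ideal.Quotient.mk_surjective z
    obtain ⟨x, hx⟩ := exists_sub_mem_Ch R K r c
    obtain ⟨n, b, hb⟩ := IsLocalization.Away.surj r x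
    refine ⟨⟨Ideal.Quotient.mk K b, ⟨(Ideal.Quotient.mk K r) ^ n, n, rfl⟩⟩, ?_⟩
    change Ideal.Quotient.mk _ c * algebraMap (R ⧸ K) _ ((Ideal.Quotient.mk K r) ^ n) =
      algebraMap (R ⧸ K) _ (Ideal.Quotient.mk K b)
    rw [(Ideal.Quotient.eq).mpr hx, map_pow]
    change Ideal.Quotient.mk _ (algebraMap (Localization.Away r) (Ch R K r) x) *
      (Ideal.Quotient.mk _ (algebraMap R (Ch R K r) r)) ^ n =
      Ideal.Quotient.mk _ (algebraMap R (Ch R K r) b)
    rw [← map_pow, ← map_mul]
    congr 1
    have : algebraMap R (Ch R K r) b =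
        algebraMap (Localization.Away r) (Ch R K r) (algebraMap R (Localization.Away r) b) := rfl
    rw [this, ← hb, map_mul, map_pow]
    rfl
  · intro x y hxy
    obtain ⟨a, rfl⟩ := Ideal.Quotient.mk_surjective x
    obtain ⟨b, rfl⟩ := Ideal.Quotient.mk_surjective y
    change Ideal.Quotient.mk _ (algebraMap R (Ch R K r) a) =
      Ideal.Quotient.mk _ (algebraMap R (Ch R K r) b) at hxy
    rw [Ideal.Quotient.eq, ← map_sub, map_algebraMap_Ch] at hxy
    have hker := AdicCompletion.ker_evalOneₐ_eq_map
      (I := (K.map (algebraMap R (Localization.Away r))))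
      (IsNoetherian.noetherian (K.map (algebraMap R (Localization.Away r))))
    rw [← hker, RingHom.mem_ker] at hxy
    have h1 : AdicCompletion.evalOneₐ (K.map (algebraMap R (Localization.Away r)))
        (algebraMap R (Ch R K r) (a - b)) =
        Ideal.Quotient.mk _ (algebraMap R (Localization.Away r) (a - b)) := by
      change AdicCompletion.evalOneₐ _ (AdicCompletion.of _ _ _) = _
      rw [AdicCompletion.evalOneₐ_of]
    change AdicCompletion.evalOneₐ (K.map (algebraMap R (Localization.Away r)))
        (algebraMap R (Ch R K r) (a - b)) = 0 at hxy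
    rw [h1, Ideal.Quotient.eq_zero_iff_mem,
      IsLocalization.algebraMap_mem_map_algebraMap_iff (Submonoid.powers r)] at hxy
    obtain ⟨m, ⟨n, rfl⟩, hm⟩ := hxy
    refine ⟨⟨(Ideal.Quotient.mk K r) ^ n, n, rfl⟩, ?_⟩
    change (Ideal.Quotient.mk K r) ^ n * Ideal.Quotient.mk K a =
      (Ideal.Quotient.mk K r) ^ n * Ideal.Quotient.mk K b
    rw [← map_pow, ← map_mul, ← map_mul, Ideal.Quotient.eq, ← mul_sub]
    exact hm

variable (A : Type u) [CommRing A] [Algebra A R]

theorem formallyUnramified_quotient_Ch [Algebra.FormallyUnramified A (R ⧸ K)] :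
    Algebra.FormallyUnramified A (Ch R K r ⧸ K.map (algebraMap R (Ch R K r))) := by
  haveI : IsScalarTower A (R ⧸ K) (Ch R K r ⧸ K.map (algebraMap R (Ch R K r))) :=
    IsScalarTower.of_algebraMap_eq fun x => rfl
  haveI := isLocalization_quotient_Ch R K r
  haveI : Algebra.FormallyUnramified (R ⧸ K) (Ch R K r ⧸ K.map (algebraMap R (Ch R K r))) :=
    Algebra.FormallyUnramified.of_isLocalization (Submonoid.powers (Ideal.Quotient.mk K r))
  exact Algebra.FormallyUnramified.comp A (R ⧸ K) _

end U



section chmaps
variable (A : Type u) [CommRing A] (I : Ideal A) (f : A)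
  (P : Type u) [CommRing P] [Algebra A P]

/-- completed localization of an `A`-algebra at the image of `f` -/
abbrev ChP : Type u := Ch P (I.map (algebraMap A P)) (algebraMap A P f)

theorem awayMap_comp :
    (Localization.awayMap (algebraMap A P) f).comp (algebraMap A (Localization.Away f)) =
      (algebraMap P (Localization.Away (algebraMap A P f))).comp (algebraMap A P) :=
  IsLocalization.map_comp _

theorem map_base_eq :
    (I.map (algebraMap A (Localization.Away f))).map (Localization.awayMap (algebraMap A P) f) =
      (I.map (algebraMap A P)).map (algebraMap P (Localization.Away (algebraMap A P f))) :=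
  map_map_away f (algebraMap A P f) _ (awayMap_comp A f P) I

/-- `A_{f} → P_{f}` -/
noncomputable def chBase : Ch A I f →+* ChP A I f P :=
  FSch.complMap _ _ (Localization.awayMap (algebraMap A P) f) (map_base_eq A I f P).le

theorem chBase_comp :
    (chBase A I f P).comp (algebraMap (Localization.Away f) (Ch A I f)) =
      (algebraMap (Localization.Away (algebraMap A P f)) (ChP A I f P)).comp
        (Localization.awayMap (algebraMap A P) f) :=
  complMap_comp_algebraMap _ _ _ _

variable (P' : Type u) [CommRing P'] [Algebra A P'] [Algebra P P'] [IsScalarTower A P P']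

theorem powers_le :
    Submonoid.powers (algebraMap A P f) ≤
      (Submonoid.powers (algebraMap A P' f)).comap (algebraMap P P') := by
  rintro _ ⟨n, rfl⟩
  rw [Submonoid.mem_comap, map_pow, ← IsScalarTower.algebraMap_apply A P P']
  exact ⟨n, rfl⟩

/-- `P_f → P'_f` -/
noncomputable def awayMapP :
    Localization.Away (algebraMap A P f) →+* Localization.Away (algebraMap A P' f) :=
  IsLocalization.map (Localization.Away (algebraMap A P' f)) (algebraMap P P')
    (powers_le A f P P')

theorem awayMapP_comp :
    (awayMapP A f P P').comp (algebraMap P (Localization.Away (algebraMap A P f))) =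
      (algebraMap P' (Localization.Away (algebraMap A P' f))).comp (algebraMap P P') :=
  IsLocalization.map_comp _

theorem awayMapP_comp_awayMap :
    (awayMapP A f P P').comp (Localization.awayMap (algebraMap A P) f) =
      Localization.awayMap (algebraMap A P') f := by
  apply IsLocalization.ringHom_ext (Submonoid.powers f)
  rw [RingHom.comp_assoc, awayMap_comp, ← RingHom.comp_assoc, awayMapP_comp, RingHom.comp_assoc,
    ← IsScalarTower.algebraMap_eq A P P', awayMap_comp]

theorem map_P_eq :
    ((I.map (algebraMap A P)).map (algebraMap P (Localization.Away (algebraMap A P f)))).map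
        (awayMapP A f P P') =
      (I.map (algebraMap A P')).map (algebraMap P' (Localization.Away (algebraMap A P' f))) := by
  rw [map_map_away (algebraMap A P f) (algebraMap A P' f) _ (awayMapP_comp A f P P'),
    Ideal.map_map (algebraMap A P) (algebraMap P P'), ← IsScalarTower.algebraMap_eq A P P']

/-- `P_{f} → P'_{f}` -/
noncomputable def chMap : ChP A I f P →+* ChP A I f P' :=
  FSch.complMap _ _ (awayMapP A f P P') (map_P_eq A I f P P').le

theorem chMap_comp :
    (chMap A I f P P').comp
        (algebraMap (Localization.Away (algebraMap A P f)) (ChP A I f P)) =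
      (algebraMap (Localization.Away (algebraMap A P' f)) (ChP A I f P')).comp
        (awayMapP A f P P') :=
  complMap_comp_algebraMap _ _ _ _

theorem chMap_comp_algebraMap :
    (chMap A I f P P').comp (algebraMap P (ChP A I f P)) =
      (algebraMap P' (ChP A I f P')).comp (algebraMap P P') := by
  have h1 : algebraMap P (ChP A I f P) =
      (algebraMap (Localization.Away (algebraMap A P f)) (ChP A I f P)).comp
        (algebraMap P (Localization.Away (algebraMap A P f))) := rfl
  have h2 : algebraMap P' (ChP A I f P') =
      (algebraMap (Localization.Away (algebraMap A P' f)) (ChP A I f P')).comp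
        (algebraMap P' (Localization.Away (algebraMap A P' f))) := rfl
  rw [h1, ← RingHom.comp_assoc, chMap_comp, RingHom.comp_assoc, awayMapP_comp, h2,
    RingHom.comp_assoc]

theorem chMap_comp_chBase [IsNoetherianRing A] :
    (chMap A I f P P').comp (chBase A I f P) = chBase A I f P' := by
  refine ringHom_ext_of_comp _ _ (Localization.awayMap (algebraMap A P') f)
    (IsNoetherian.noetherian _) (map_base_eq A I f P').le _ _ ?_ (chBase_comp A I f P')
  rw [RingHom.comp_assoc, chBase_comp, ← RingHom.comp_assoc, chMap_comp, RingHom.comp_assoc,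
    awayMapP_comp_awayMap]

theorem chMap_flat [IsNoetherianRing P] [IsNoetherianRing P'] [Module.Flat P P'] :
    (chMap A I f P P').Flat :=
  Groth.Agent.Lib.Helper19.complMap_flat _ _ _
    (flat_away (algebraMap A P f) (algebraMap A P' f) _ (awayMapP_comp A f P P'))
    (map_P_eq A I f P P')

theorem flat_algebraMap_ChP [IsNoetherianRing P] :
    (algebraMap P (ChP A I f P)).Flat := by
  rw [RingHom.flat_algebraMap_iff]
  haveI : Module.Flat P (Localization.Away (algebraMap A P f)) :=
    IsLocalization.flat _ (Submonoid.powers (algebraMap A P f))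
  exact Module.Flat.trans P (Localization.Away (algebraMap A P f)) (ChP A I f P)

end chmaps


section step2
variable (A : Type u) [CommRing A] [IsNoetherianRing A] (I : Ideal A) [IsAdicComplete I A] (f : A)
  (B : Type u) [CommRing B] [Algebra A B] [IsNoetherianRing B]
  (X : Type u) [CommRing X] [Algebra A X] [IsNoetherianRing X]
  (Y : Type u) [CommRing Y] [Algebra A Y] [IsNoetherianRing Y]
  [Algebra B Y] [IsScalarTower A B Y] [Algebra X Y] [IsScalarTower A X Y]
  [Module.Flat B Y]

theorem chBase_comp_algebraMap (P : Type u) [CommRing P] [Algebra A P] :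
    (chBase A I f P).comp (algebraMap A (Ch A I f)) = algebraMap A (ChP A I f P) := by
  have h1 : algebraMap A (Ch A I f) =
      (algebraMap (Localization.Away f) (Ch A I f)).comp (algebraMap A (Localization.Away f)) := rfl
  have h2 : algebraMap A (ChP A I f P) =
      (algebraMap (Localization.Away (algebraMap A P f)) (ChP A I f P)).comp
        ((algebraMap P (Localization.Away (algebraMap A P f))).comp (algebraMap A P)) := rfl
  rw [h1, ← RingHom.comp_assoc, chBase_comp, RingHom.comp_assoc, awayMap_comp, h2]

set_option maxHeartbeats 1600000 in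
theorem step2
    (hAB : ∀ ψf : Ch A I f →+* ChP A I f B,
      ψf.comp (algebraMap (Localization.Away f) (Ch A I f)) =
        (algebraMap (Localization.Away (algebraMap A B f)) (ChP A I f B)).comp
          (Localization.awayMap (algebraMap A B) f) →
      ∀ qf : PrimeSpectrum (ChP A I f B),
        RC (((I.map (algebraMap A B)).map
          (algebraMap B (Localization.Away (algebraMap A B f)))).map
          (algebraMap (Localization.Away (algebraMap A B f)) (ChP A I f B))) qf →
        ((algebraMap (ChP A I f B) (Localization.AtPrime qf.asIdeal)).comp ψf).Flat)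
    (hftX : Algebra.FiniteType A (X ⧸ I.map (algebraMap A X)))
    [Algebra.FormallyUnramified A (X ⧸ I.map (algebraMap A X))]
    (q₁ : PrimeSpectrum (ChP A I f Y))
    (hp : RC (I.map (algebraMap A (Ch A I f))) (PrimeSpectrum.comap (chBase A I f Y) q₁)) :
    ((algebraMap (ChP A I f Y) (Localization.AtPrime q₁.asIdeal)).comp (chMap A I f X Y)).Flat := by
  haveI := q₁.isPrime
  haveI : IsNoetherianRing (Ch A I f) := isNoetherianRing_Ch A I f
  haveI : IsNoetherianRing (ChP A I f X) := isNoetherianRing_Ch X _ _
  haveI : IsNoetherianRing (ChP A I f Y) := isNoetherianRing_Ch Y _ _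
  haveI : IsNoetherianRing (ChP A I f B) := isNoetherianRing_Ch B _ _
  haveI : IsAdicComplete (I.map (algebraMap A (Ch A I f))) (Ch A I f) := isAdicComplete_Ch A I f
  letI algA₁X₁ : Algebra (Ch A I f) (ChP A I f X) := (chBase A I f X).toAlgebra
  haveI : IsScalarTower A (Ch A I f) (ChP A I f X) :=
    IsScalarTower.of_algebraMap_eq fun x =>
      (RingHom.congr_fun (chBase_comp_algebraMap A I f X) x).symm
  have hKX : (I.map (algebraMap A (Ch A I f))).map (algebraMap (Ch A I f) (ChP A I f X)) =
      (I.map (algebraMap A X)).map (algebraMap X (ChP A I f X)) := by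
    rw [Ideal.map_map (algebraMap A (Ch A I f)) (algebraMap (Ch A I f) (ChP A I f X)),
      ← IsScalarTower.algebraMap_eq A (Ch A I f) (ChP A I f X),
      Ideal.map_map (algebraMap A X) (algebraMap X (ChP A I f X))]
    rfl
  haveI : IsAdicComplete ((I.map (algebraMap A (Ch A I f))).map
      (algebraMap (Ch A I f) (ChP A I f X))) (ChP A I f X) := by
    rw [hKX]; exact isAdicComplete_Ch X _ _
  have hft₁ : Algebra.FiniteType (Ch A I f) (ChP A I f X ⧸
      (I.map (algebraMap A (Ch A I f))).map (algebraMap (Ch A I f) (ChP A I f X))) := by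
    rw [hKX]
    haveI := finiteType_quotient_Ch X (I.map (algebraMap A X)) (algebraMap A X f) A hftX
    exact Algebra.FiniteType.of_restrictScalars_finiteType A (Ch A I f) _
  haveI hfu₁ : Algebra.FormallyUnramified (Ch A I f ⧸ I.map (algebraMap A (Ch A I f)))
      (ChP A I f X ⧸ (I.map (algebraMap A (Ch A I f))).map
        (algebraMap (Ch A I f) (ChP A I f X))) := by
    haveI h0 : Algebra.FormallyUnramified A (ChP A I f X ⧸
        (I.map (algebraMap A X)).map (algebraMap X (ChP A I f X))) :=
      formallyUnramified_quotient_Ch X _ _ A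
    haveI h1 : Algebra.FormallyUnramified A (ChP A I f X ⧸
        (I.map (algebraMap A (Ch A I f))).map (algebraMap (Ch A I f) (ChP A I f X))) := by
      rw [hKX]; exact h0
    haveI h2 : Algebra.FormallyUnramified (Ch A I f) (ChP A I f X ⧸
        (I.map (algebraMap A (Ch A I f))).map (algebraMap (Ch A I f) (ChP A I f X))) :=
      Algebra.FormallyUnramified.of_restrictScalars A _ _
    exact Algebra.FormallyUnramified.of_restrictScalars (Ch A I f) _ _
  refine flat_of_rigClosed_comap (Ch A I f) (I.map (algebraMap A (Ch A I f))) (ChP A I f X) hft₁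
    (Localization.AtPrime q₁.asIdeal)
    ((algebraMap (ChP A I f Y) (Localization.AtPrime q₁.asIdeal)).comp (chMap A I f X Y)) ?_ ?_
  · convert hp using 1
    apply PrimeSpectrum.ext
    change ((IsLocalRing.maximalIdeal (Localization.AtPrime q₁.asIdeal)).comap
      ((algebraMap (ChP A I f Y) (Localization.AtPrime q₁.asIdeal)).comp
        (chMap A I f X Y))).comap (chBase A I f X) = q₁.asIdeal.comap (chBase A I f Y)
    have h4 : Ideal.comap (algebraMap (ChP A I f Y) (Localization.AtPrime q₁.asIdeal))
        (IsLocalRing.maximalIdeal (Localization.AtPrime q₁.asIdeal)) = q₁.asIdeal :=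
      IsLocalization.AtPrime.under_maximalIdeal (Localization.AtPrime q₁.asIdeal) q₁.asIdeal
    rw [← Ideal.comap_comap, h4, Ideal.comap_comap, chMap_comp_chBase]
  · have e : ((algebraMap (ChP A I f Y) (Localization.AtPrime q₁.asIdeal)).comp
        (chMap A I f X Y)).comp (algebraMap (Ch A I f) (ChP A I f X)) =
        (algebraMap (ChP A I f Y) (Localization.AtPrime q₁.asIdeal)).comp
          ((chMap A I f B Y).comp (chBase A I f B)) := by
      change ((algebraMap (ChP A I f Y) (Localization.AtPrime q₁.asIdeal)).comp
        (chMap A I f X Y)).comp (chBase A I f X) = _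
      rw [RingHom.comp_assoc, chMap_comp_chBase, chMap_comp_chBase]
    rw [e]
    refine flat_comp_of_rigFlat _ (chBase A I f B) (hAB (chBase A I f B) (chBase_comp A I f B))
      (chMap A I f B Y) (chMap_flat A I f B Y) q₁.asIdeal ?_
    intro hK
    apply hp.1
    rw [Ideal.map_le_iff_le_comap]
    intro a ha
    change chBase A I f Y (algebraMap A (Ch A I f) a) ∈ q₁.asIdeal
    rw [← chMap_comp_chBase A I f B Y]
    have h3 : chBase A I f B (algebraMap A (Ch A I f) a) = algebraMap A (ChP A I f B) a :=
      RingHom.congr_fun (chBase_comp_algebraMap A I f B) a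
    rw [RingHom.comp_apply, h3]
    apply hK
    exact Ideal.mem_map_of_mem _ (Ideal.mem_map_of_mem _ (Ideal.mem_map_of_mem _ ha))

end step2

section ft
variable (A : Type u) [CommRing A] (I : Ideal A)
  (A' : Type u) [CommRing A'] [Algebra A A']
  (B' : Type u) [CommRing B'] [Algebra A B'] [Algebra A' B'] [IsScalarTower A A' B']

theorem finiteType_quotient_trans
    (hftA' : Algebra.FiniteType A (A' ⧸ I.map (algebraMap A A')))
    (hftB'A' : Algebra.FiniteType A' (B' ⧸ (I.map (algebraMap A A')).map (algebraMap A' B'))) :
    Algebra.FiniteType A (B' ⧸ (I.map (algebraMap A A')).map (algebraMap A' B')) := by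
  haveI : IsScalarTower A (A' ⧸ I.map (algebraMap A A'))
      (B' ⧸ (I.map (algebraMap A A')).map (algebraMap A' B')) :=
    IsScalarTower.of_algebraMap_eq fun x => by
      change Ideal.Quotient.mk _ (algebraMap A B' x) =
        Ideal.Quotient.mk _ (algebraMap A' B' (algebraMap A A' x))
      rw [← IsScalarTower.algebraMap_apply A A' B']
  haveI : Algebra.FiniteType (A' ⧸ I.map (algebraMap A A'))
      (B' ⧸ (I.map (algebraMap A A')).map (algebraMap A' B')) :=
    Algebra.FiniteType.of_restrictScalars_finiteType A' _ _
  exact Algebra.FiniteType.trans hftA' inferInstance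

end ft

section main
variable (A : Type u) [CommRing A] [IsNoetherianRing A] (I : Ideal A) [IsAdicComplete I A]
  (B : Type u) [CommRing B] [Algebra A B] [IsNoetherianRing B]
  (A' : Type u) [CommRing A'] [Algebra A A'] [IsNoetherianRing A']
  (B' : Type u) [CommRing B'] [Algebra A B'] [Algebra B B'] [Algebra A' B']
  [IsScalarTower A B B'] [IsScalarTower A A' B'] [IsNoetherianRing B']
  [Module.Flat B B']
  [Algebra.FormallyUnramified (A ⧸ I) (A' ⧸ I.map (algebraMap A A'))]

set_option maxHeartbeats 3200000 in
theorem main
    (hftA' : Algebra.FiniteType A (A' ⧸ I.map (algebraMap A A')))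
    (hftB'A' : Algebra.FiniteType A' (B' ⧸ I.map (algebraMap A B')))
    (hAB : ∀ f : A, ∀ ψf : Ch A I f →+* Ch B (I.map (algebraMap A B)) (algebraMap A B f),
      ψf.comp (algebraMap (Localization.Away f) (Ch A I f)) =
        (algebraMap (Localization.Away (algebraMap A B f))
          (Ch B (I.map (algebraMap A B)) (algebraMap A B f))).comp
          (Localization.awayMap (algebraMap A B) f) →
      ∀ qf : PrimeSpectrum (Ch B (I.map (algebraMap A B)) (algebraMap A B f)),
        RC (((I.map (algebraMap A B)).map
          (algebraMap B (Localization.Away (algebraMap A B f)))).map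
          (algebraMap (Localization.Away (algebraMap A B f))
            (Ch B (I.map (algebraMap A B)) (algebraMap A B f)))) qf →
        ((algebraMap (Ch B (I.map (algebraMap A B)) (algebraMap A B f))
          (Localization.AtPrime qf.asIdeal)).comp ψf).Flat)
    (f' : A') (ψ' : Ch A' (I.map (algebraMap A A')) f' →+*
      Ch B' ((I.map (algebraMap A A')).map (algebraMap A' B')) (algebraMap A' B' f'))
    (hψ' : ψ'.comp (algebraMap (Localization.Away f') (Ch A' (I.map (algebraMap A A')) f')) =
      (algebraMap (Localization.Away (algebraMap A' B' f'))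
        (Ch B' ((I.map (algebraMap A A')).map (algebraMap A' B')) (algebraMap A' B' f'))).comp
        (Localization.awayMap (algebraMap A' B') f'))
    (q' : PrimeSpectrum (Ch B' ((I.map (algebraMap A A')).map (algebraMap A' B'))
      (algebraMap A' B' f')))
    (hq' : RC ((((I.map (algebraMap A A')).map (algebraMap A' B')).map
        (algebraMap B' (Localization.Away (algebraMap A' B' f')))).map
        (algebraMap (Localization.Away (algebraMap A' B' f'))
          (Ch B' ((I.map (algebraMap A A')).map (algebraMap A' B')) (algebraMap A' B' f')))) q') :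
    ((algebraMap (Ch B' ((I.map (algebraMap A A')).map (algebraMap A' B')) (algebraMap A' B' f'))
      (Localization.AtPrime q'.asIdeal)).comp ψ').Flat := by
  haveI := q'.isPrime
  haveI : IsNoetherianRing (Ch A' (I.map (algebraMap A A')) f') := isNoetherianRing_Ch A' _ _
  haveI : IsNoetherianRing (Ch B' ((I.map (algebraMap A A')).map (algebraMap A' B'))
      (algebraMap A' B' f')) := isNoetherianRing_Ch B' _ _
  letI algXY : Algebra (Ch A' (I.map (algebraMap A A')) f')
      (Ch B' ((I.map (algebraMap A A')).map (algebraMap A' B')) (algebraMap A' B' f')) :=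
    ψ'.toAlgebra
  have hcompXY : ψ'.comp (algebraMap A (Ch A' (I.map (algebraMap A A')) f')) =
      algebraMap A (Ch B' ((I.map (algebraMap A A')).map (algebraMap A' B'))
        (algebraMap A' B' f')) := by
    have h1 : algebraMap A (Ch A' (I.map (algebraMap A A')) f') =
        (algebraMap (Localization.Away f') (Ch A' (I.map (algebraMap A A')) f')).comp
          ((algebraMap A' (Localization.Away f')).comp (algebraMap A A')) := rfl
    have h2 : algebraMap A (Ch B' ((I.map (algebraMap A A')).map (algebraMap A' B'))
        (algebraMap A' B' f')) =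
        (algebraMap (Localization.Away (algebraMap A' B' f'))
          (Ch B' ((I.map (algebraMap A A')).map (algebraMap A' B')) (algebraMap A' B' f'))).comp
          ((algebraMap B' (Localization.Away (algebraMap A' B' f'))).comp (algebraMap A B')) := rfl
    have h3 : (Localization.awayMap (algebraMap A' B') f').comp
        (algebraMap A' (Localization.Away f')) =
        (algebraMap B' (Localization.Away (algebraMap A' B' f'))).comp (algebraMap A' B') :=
      IsLocalization.map_comp _
    rw [h1, ← RingHom.comp_assoc, hψ', RingHom.comp_assoc,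
      ← RingHom.comp_assoc (algebraMap A A') (algebraMap A' (Localization.Away f'))
        (Localization.awayMap (algebraMap A' B') f'),
      h3, RingHom.comp_assoc, ← IsScalarTower.algebraMap_eq A A' B', h2]
  haveI towerAXY : IsScalarTower A (Ch A' (I.map (algebraMap A A')) f')
      (Ch B' ((I.map (algebraMap A A')).map (algebraMap A' B')) (algebraMap A' B' f')) :=
    IsScalarTower.of_algebraMap_eq fun x => (RingHom.congr_fun hcompXY x).symm
  haveI towerABY : IsScalarTower A B
      (Ch B' ((I.map (algebraMap A A')).map (algebraMap A' B')) (algebraMap A' B' f')) :=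
    IsScalarTower.of_algebraMap_eq fun x => by
      change algebraMap (Localization.Away (algebraMap A' B' f')) _
          (algebraMap B' (Localization.Away (algebraMap A' B' f')) (algebraMap A B' x)) =
        algebraMap (Localization.Away (algebraMap A' B' f')) _
          (algebraMap B' (Localization.Away (algebraMap A' B' f'))
            (algebraMap B B' (algebraMap A B x)))
      rw [← IsScalarTower.algebraMap_apply A B B']
  haveI flatBY : Module.Flat B (Ch B' ((I.map (algebraMap A A')).map (algebraMap A' B'))
      (algebraMap A' B' f')) := by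
    haveI : Module.Flat B' (Localization.Away (algebraMap A' B' f')) :=
      IsLocalization.flat _ (Submonoid.powers (algebraMap A' B' f'))
    haveI : Module.Flat B' (Ch B' ((I.map (algebraMap A A')).map (algebraMap A' B'))
        (algebraMap A' B' f')) :=
      Module.Flat.trans B' (Localization.Away (algebraMap A' B' f')) _
    exact Module.Flat.trans B B' _
  -- ideals of definition of `Y = B'_{f'}`
  have hKY1 := map_algebraMap_Ch B' ((I.map (algebraMap A A')).map (algebraMap A' B'))
    (algebraMap A' B' f')
  have hJ'' : (I.map (algebraMap A A')).map (algebraMap A' B') = I.map (algebraMap A B') := by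
    rw [Ideal.map_map, ← IsScalarTower.algebraMap_eq]
  have hKY2 : ((I.map (algebraMap A A')).map (algebraMap A' B')).map
      (algebraMap B' (Ch B' ((I.map (algebraMap A A')).map (algebraMap A' B'))
        (algebraMap A' B' f'))) =
      I.map (algebraMap A (Ch B' ((I.map (algebraMap A A')).map (algebraMap A' B'))
        (algebraMap A' B' f'))) := by
    rw [Ideal.map_map (algebraMap A' B') (algebraMap B' (Ch B' ((I.map (algebraMap A A')).map
      (algebraMap A' B')) (algebraMap A' B' f'))),
      Ideal.map_map (algebraMap A A') ((algebraMap B' (Ch B' ((I.map (algebraMap A A')).map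
        (algebraMap A' B')) (algebraMap A' B' f'))).comp (algebraMap A' B'))]
    have e : ((algebraMap B' (Ch B' ((I.map (algebraMap A A')).map
        (algebraMap A' B')) (algebraMap A' B' f'))).comp (algebraMap A' B')).comp
        (algebraMap A A') = algebraMap A (Ch B' ((I.map (algebraMap A A')).map
        (algebraMap A' B')) (algebraMap A' B' f')) := by
      rw [RingHom.comp_assoc, ← IsScalarTower.algebraMap_eq A A' B']
      rfl
    rw [e]
  haveI hcY : IsAdicComplete (I.map (algebraMap A (Ch B' ((I.map (algebraMap A A')).map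
      (algebraMap A' B')) (algebraMap A' B' f'))))
      (Ch B' ((I.map (algebraMap A A')).map (algebraMap A' B')) (algebraMap A' B' f')) := by
    rw [← hKY2]; exact isAdicComplete_Ch B' _ _
  have hq'A : RC (I.map (algebraMap A (Ch B' ((I.map (algebraMap A A')).map
      (algebraMap A' B')) (algebraMap A' B' f')))) q' := by
    rw [← hKY2, hKY1]; exact hq'
  have hftY : Algebra.FiniteType A (Ch B' ((I.map (algebraMap A A')).map (algebraMap A' B'))
      (algebraMap A' B' f') ⧸ I.map (algebraMap A (Ch B' ((I.map (algebraMap A A')).map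
      (algebraMap A' B')) (algebraMap A' B' f')))) := by
    have h1 : Algebra.FiniteType A' (B' ⧸ (I.map (algebraMap A A')).map (algebraMap A' B')) := by
      rw [hJ'']; exact hftB'A'
    have h2 := finiteType_quotient_trans A I A' B' hftA' h1
    have h3 := finiteType_quotient_Ch B' ((I.map (algebraMap A A')).map (algebraMap A' B'))
      (algebraMap A' B' f') A h2
    rw [hKY2] at h3
    exact h3
  -- S8840
  obtain ⟨f, hfunit, hS⟩ := RigClosed5.main A I (Ch B' ((I.map (algebraMap A A')).map
    (algebraMap A' B')) (algebraMap A' B' f')) hftY q' hq'A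
  have hS' := hS (chBase A I f (Ch B' ((I.map (algebraMap A A')).map
    (algebraMap A' B')) (algebraMap A' B' f'))) (chBase_comp A I f _)
  obtain ⟨hq₁prime, hbij⟩ := ComplLoc.main (Ch B' ((I.map (algebraMap A A')).map
    (algebraMap A' B')) (algebraMap A' B' f')) (I.map (algebraMap A (Ch B' ((I.map
    (algebraMap A A')).map (algebraMap A' B')) (algebraMap A' B' f')))) q'.asIdeal
    (algebraMap A (Ch B' ((I.map (algebraMap A A')).map (algebraMap A' B'))
      (algebraMap A' B' f')) f) hfunit
  -- notation-free names: `X = A'_{f'}`, `Y = B'_{f'}`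
  obtain ⟨q₁, hq₁⟩ : ∃ q₁ : PrimeSpectrum (ChP A I f (Ch B' ((I.map (algebraMap A A')).map
      (algebraMap A' B')) (algebraMap A' B' f'))),
      q₁.asIdeal = q'.asIdeal.map (algebraMap (Ch B' ((I.map (algebraMap A A')).map
        (algebraMap A' B')) (algebraMap A' B' f')) (ChP A I f (Ch B' ((I.map
        (algebraMap A A')).map (algebraMap A' B')) (algebraMap A' B' f')))) :=
    ⟨⟨_, hq₁prime⟩, rfl⟩
  have hp : RC (I.map (algebraMap A (Ch A I f))) (PrimeSpectrum.comap (chBase A I f
      (Ch B' ((I.map (algebraMap A A')).map (algebraMap A' B')) (algebraMap A' B' f'))) q₁) := by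
    refine ⟨?_, fun y hy hIy => ?_⟩
    · change ¬ _ ≤ q₁.asIdeal.comap _
      rw [hq₁]; exact hS'.2.1
    · apply PrimeSpectrum.ext
      change y.asIdeal = q₁.asIdeal.comap _
      rw [hq₁]
      refine hS'.2.2 y ?_ hIy
      have : q₁.asIdeal.comap (chBase A I f (Ch B' ((I.map (algebraMap A A')).map
          (algebraMap A' B')) (algebraMap A' B' f'))) ≤ y.asIdeal := hy
      rw [hq₁] at this
      exact this
  -- hypotheses on `X`
  haveI : Algebra.FormallyUnramified A (A' ⧸ I.map (algebraMap A A')) :=
    RigClosed4.formallyUnramified_quotient A I A' _ le_rfl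
  have hKX : (I.map (algebraMap A A')).map
      (algebraMap A' (Ch A' (I.map (algebraMap A A')) f')) =
      I.map (algebraMap A (Ch A' (I.map (algebraMap A A')) f')) := by
    rw [Ideal.map_map (algebraMap A A') (algebraMap A' (Ch A' (I.map (algebraMap A A')) f'))]
    rfl
  have hftX : Algebra.FiniteType A (Ch A' (I.map (algebraMap A A')) f' ⧸
      I.map (algebraMap A (Ch A' (I.map (algebraMap A A')) f'))) := by
    have h3 := finiteType_quotient_Ch A' (I.map (algebraMap A A')) f' A hftA'
    rw [hKX] at h3
    exact h3
  haveI hfuX : Algebra.FormallyUnramified A (Ch A' (I.map (algebraMap A A')) f' ⧸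
      I.map (algebraMap A (Ch A' (I.map (algebraMap A A')) f'))) := by
    have h3 := formallyUnramified_quotient_Ch A' (I.map (algebraMap A A')) f' A
    rw [hKX] at h3
    exact h3
  have h2 := step2 A I f B (Ch A' (I.map (algebraMap A A')) f')
    (Ch B' ((I.map (algebraMap A A')).map (algebraMap A' B')) (algebraMap A' B' f'))
    (hAB f) hftX q₁ hp
  haveI := q₁.isPrime
  have hγ := flat_algebraMap_ChP A I f (Ch B' ((I.map (algebraMap A A')).map (algebraMap A' B')) (algebraMap A' B' f'))
  have hcomap : q'.asIdeal = q₁.asIdeal.comap (algebraMap (Ch B' ((I.map (algebraMap A A')).map (algebraMap A' B')) (algebraMap A' B' f')) (ChP A I f (Ch B' ((I.map (algebraMap A A')).map (algebraMap A' B')) (algebraMap A' B' f')))) := by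
    rw [hq₁]
    apply le_antisymm Ideal.le_comap_map
    intro x hx
    rw [Ideal.mem_comap] at hx
    have h0 : Ideal.quotientMap (q'.asIdeal.map (algebraMap (Ch B' ((I.map (algebraMap A A')).map (algebraMap A' B')) (algebraMap A' B' f')) (ChP A I f (Ch B' ((I.map (algebraMap A A')).map (algebraMap A' B')) (algebraMap A' B' f')))))
        (algebraMap (Ch B' ((I.map (algebraMap A A')).map (algebraMap A' B')) (algebraMap A' B' f')) (ChP A I f (Ch B' ((I.map (algebraMap A A')).map (algebraMap A' B')) (algebraMap A' B' f')))) Ideal.le_comap_map (Ideal.Quotient.mk q'.asIdeal x) = 0 := by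
      rw [Ideal.quotientMap_mk, Ideal.Quotient.eq_zero_iff_mem]; exact hx
    have := hbij.1 (h0.trans (map_zero _).symm)
    exact Ideal.Quotient.eq_zero_iff_mem.mp this
  have hlr := RingHom.Flat.localRingHom hγ q₁.asIdeal q'.asIdeal hcomap
  have hX := flat_algebraMap_ChP A I f (Ch A' (I.map (algebraMap A A')) f')
  have h3 := hX.comp h2
  have e : ((algebraMap (ChP A I f (Ch B' ((I.map (algebraMap A A')).map (algebraMap A' B')) (algebraMap A' B' f'))) (Localization.AtPrime q₁.asIdeal)).comp
      (chMap A I f (Ch A' (I.map (algebraMap A A')) f') (Ch B' ((I.map (algebraMap A A')).map (algebraMap A' B')) (algebraMap A' B' f')))).comp (algebraMap (Ch A' (I.map (algebraMap A A')) f') (ChP A I f (Ch A' (I.map (algebraMap A A')) f'))) =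
      (Localization.localRingHom q'.asIdeal q₁.asIdeal (algebraMap (Ch B' ((I.map (algebraMap A A')).map (algebraMap A' B')) (algebraMap A' B' f')) (ChP A I f (Ch B' ((I.map (algebraMap A A')).map (algebraMap A' B')) (algebraMap A' B' f')))) hcomap).comp
        ((algebraMap (Ch B' ((I.map (algebraMap A A')).map (algebraMap A' B')) (algebraMap A' B' f')) (Localization.AtPrime q'.asIdeal)).comp ψ') := by
    rw [RingHom.comp_assoc, chMap_comp_algebraMap, ← RingHom.comp_assoc, ← RingHom.comp_assoc]
    congr 1
    refine RingHom.ext fun b => ?_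
    exact (Localization.localRingHom_to_map (I := q'.asIdeal) q₁.asIdeal _ hcomap b).symm
  rw [e] at h3
  letI algTT' : Algebra (Localization.AtPrime q'.asIdeal) (Localization.AtPrime q₁.asIdeal) :=
    (Localization.localRingHom q'.asIdeal q₁.asIdeal (algebraMap (Ch B' ((I.map (algebraMap A A')).map (algebraMap A' B')) (algebraMap A' B' f')) (ChP A I f (Ch B' ((I.map (algebraMap A A')).map (algebraMap A' B')) (algebraMap A' B' f')))) hcomap).toAlgebra
  have hgoal : (algebraMap (Ch B' ((I.map (algebraMap A A')).map (algebraMap A' B')) (algebraMap A' B' f')) (Localization.AtPrime q'.asIdeal)).comp ψ' =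
      algebraMap (Ch A' (I.map (algebraMap A A')) f') (Localization.AtPrime q'.asIdeal) :=
    (IsScalarTower.algebraMap_eq (Ch A' (I.map (algebraMap A A')) f') (Ch B' ((I.map (algebraMap A A')).map (algebraMap A' B')) (algebraMap A' B' f')) (Localization.AtPrime q'.asIdeal)).symm
  have e2 : (Localization.localRingHom q'.asIdeal q₁.asIdeal (algebraMap (Ch B' ((I.map (algebraMap A A')).map (algebraMap A' B')) (algebraMap A' B' f')) (ChP A I f (Ch B' ((I.map (algebraMap A A')).map (algebraMap A' B')) (algebraMap A' B' f'))))
      hcomap).comp ((algebraMap (Ch B' ((I.map (algebraMap A A')).map (algebraMap A' B')) (algebraMap A' B' f')) (Localization.AtPrime q'.asIdeal)).comp ψ') =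
      algebraMap (Ch A' (I.map (algebraMap A A')) f') (Localization.AtPrime q₁.asIdeal) := by
    refine RingHom.ext fun x => ?_
    rw [RingHom.comp_apply, RingHom.comp_apply,
      Localization.localRingHom_to_map (I := q'.asIdeal) q₁.asIdeal _ hcomap,
      IsScalarTower.algebraMap_apply (Ch A' (I.map (algebraMap A A')) f') (ChP A I f (Ch B' ((I.map (algebraMap A A')).map (algebraMap A' B')) (algebraMap A' B' f'))) (Localization.AtPrime q₁.asIdeal)]
    rfl
  rw [e2] at h3
  haveI : IsScalarTower (Ch A' (I.map (algebraMap A A')) f') (Localization.AtPrime q'.asIdeal)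
      (Localization.AtPrime q₁.asIdeal) := IsScalarTower.of_algebraMap_eq fun x => by
    rw [← e2, ← hgoal]
    rfl
  haveI : Module.Flat (Localization.AtPrime q'.asIdeal) (Localization.AtPrime q₁.asIdeal) := hlr
  haveI : IsLocalHom (algebraMap (Localization.AtPrime q'.asIdeal)
      (Localization.AtPrime q₁.asIdeal)) :=
    Localization.isLocalHom_localRingHom q'.asIdeal q₁.asIdeal _ hcomap
  haveI : Module.FaithfullyFlat (Localization.AtPrime q'.asIdeal)
      (Localization.AtPrime q₁.asIdeal) := Module.FaithfullyFlat.of_flat_of_isLocalHom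
  haveI : Module.Flat (Ch A' (I.map (algebraMap A A')) f') (Localization.AtPrime q₁.asIdeal) := RingHom.flat_algebraMap_iff.mp h3
  rw [hgoal, RingHom.flat_algebraMap_iff]
  exact Groth.Agent.Lib.Helper5.flat_of_faithfullyFlat_of_flat (R := (Ch A' (I.map (algebraMap A A')) f'))
    (S := Localization.AtPrime q'.asIdeal) (Localization.AtPrime q₁.asIdeal)

end main
end Groth.Agent.Lib.Helper14.RigFlatEt
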