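import Mathlib
import Groth.Agent.Lib.Helper14CTPFlat
import Groth.Agent.Lib.Helper14RigFlatEt

/-!
# Completed tensor product squares and completed localizations (helper14)

`CTP I β ξ hc` says that `Y` with `β : B → Y`, `ξ : X → Y` is a completed tensor product of `B` and
`X` over `A` for the `I`-adic topology (density and a retraction modulo every power of `I`).
It holds for the adic completion of `C ⊗ B`, and is stable under completed principal localization and
under base change to a completed principal localization of the base.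
-/

set_option autoImplicit false
set_option linter.unusedVariables false
set_option linter.unusedSectionVars false
set_option linter.style.haveILetI false
universe u

namespace Groth.Agent.Lib.Helper14.CTPAdic

open TensorProduct Groth.Agent.Lib.Helper14.CTPFlat Groth.Agent.Lib.Helper14.RigClosed5

section G1
variable {R : Type u} [CommRing R] (K : Ideal R)

theorem ker_evalₐ (hK : K.FG) (k : ℕ) :
    RingHom.ker (AdicCompletion.evalₐ K k).toRingHom =
      (K.map (algebraMap R (AdicCompletion K R))) ^ k := by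
  ext x
  trans x ∈ LinearMap.ker (AdicCompletion.eval K R k)
  · have eq : K ^ k * ⊤ = K ^ k := Ideal.mul_top _
    have hinj : Function.Injective (Ideal.Quotient.factor (le_of_eq eq)) := by
      rw [RingHom.injective_iff_ker_eq_bot, Ideal.Quotient.factor_ker]
      exact Ideal.map_mk_eq_bot_of_le (le_of_eq eq.symm)
    rw [RingHom.mem_ker, LinearMap.mem_ker]
    change AdicCompletion.evalₐ K k x = 0 ↔ _
    rw [← AdicCompletion.factor_eval_eq_evalₐ K x (le_of_eq eq)]
    exact map_eq_zero_iff _ hinj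
  · rw [← AdicCompletion.pow_smul_top_eq_ker_eval hK, ← Ideal.map_pow, Ideal.smul_top_eq_map,
      Submodule.restrictScalars_mem]

theorem exists_sub_mem_pow (hK : K.FG) (k : ℕ) (c : AdicCompletion K R) :
    ∃ x : R, c - algebraMap R (AdicCompletion K R) x ∈
      (K.map (algebraMap R (AdicCompletion K R))) ^ k := by
  obtain ⟨x, hx⟩ := Ideal.Quotient.mk_surjective (AdicCompletion.evalₐ K k c)
  refine ⟨x, ?_⟩
  rw [← ker_evalₐ K hK k, RingHom.mem_ker, map_sub, sub_eq_zero]
  change AdicCompletion.evalₐ K k c = AdicCompletion.evalₐ K k (AdicCompletion.of K R x)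
  rw [AdicCompletion.evalₐ_of, hx]

variable {Z : Type u} [CommRing Z]

/-- lift a ring map killing `K^k` to the completion -/
noncomputable def liftQ (k : ℕ) (φ : R →+* Z) (hφ : K ^ k ≤ RingHom.ker φ) :
    AdicCompletion K R →+* Z :=
  (Ideal.Quotient.lift (K ^ k) φ (fun a ha => hφ ha)).comp (AdicCompletion.evalₐ K k).toRingHom

theorem liftQ_algebraMap (k : ℕ) (φ : R →+* Z) (hφ : K ^ k ≤ RingHom.ker φ) (x : R) :
    liftQ K k φ hφ (algebraMap R (AdicCompletion K R) x) = φ x := by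
  change Ideal.Quotient.lift (K ^ k) φ (fun a ha => hφ ha)
    (AdicCompletion.evalₐ K k (AdicCompletion.of K R x)) = _
  rw [AdicCompletion.evalₐ_of]
  exact Ideal.Quotient.lift_mk _ _ _

theorem ringHom_ext_compl (hK : K.FG) (k : ℕ) (α β : AdicCompletion K R →+* Z)
    (h : α.comp (algebraMap R (AdicCompletion K R)) = β.comp (algebraMap R (AdicCompletion K R)))
    (hk : K ^ k ≤ RingHom.ker (α.comp (algebraMap R (AdicCompletion K R)))) : α = β := by
  have hα : (K.map (algebraMap R (AdicCompletion K R))) ^ k ≤ RingHom.ker α := by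
    rw [← Ideal.map_pow, Ideal.map_le_iff_le_comap]
    intro a ha
    exact hk ha
  have hβ : (K.map (algebraMap R (AdicCompletion K R))) ^ k ≤ RingHom.ker β := by
    rw [← Ideal.map_pow, Ideal.map_le_iff_le_comap]
    intro a ha
    have := hk ha
    rw [h] at this
    exact this
  refine RingHom.ext fun c => ?_
  obtain ⟨x, hx⟩ := exists_sub_mem_pow K hK k c
  have e : c = algebraMap R (AdicCompletion K R) x + (c - algebraMap R (AdicCompletion K R) x) := by
    ring
  rw [e, map_add, map_add, (RingHom.mem_ker).mp (hα hx), (RingHom.mem_ker).mp (hβ hx)]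
  congr 1
  exact RingHom.congr_fun h x

theorem subring_eq_top_compl (hK : K.FG) (k : ℕ) (𝔇 : Subring (AdicCompletion K R))
    (h1 : ∀ x : R, algebraMap R (AdicCompletion K R) x ∈ 𝔇)
    (h2 : ∀ e ∈ (K.map (algebraMap R (AdicCompletion K R))) ^ k, e ∈ 𝔇) (c : AdicCompletion K R) :
    c ∈ 𝔇 := by
  obtain ⟨x, hx⟩ := exists_sub_mem_pow K hK k c
  have e : c = algebraMap R (AdicCompletion K R) x + (c - algebraMap R (AdicCompletion K R) x) := by
    ring
  rw [e]
  exact 𝔇.add_mem (h1 x) (h2 _ hx)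

end G1
section G2
variable (R : Type u) [CommRing R] (K : Ideal R) (r : R)

theorem exists_sub_mem_pow_Ch (hK : K.FG) (k : ℕ) (c : Ch R K r) :
    ∃ x : Localization.Away r, c - algebraMap (Localization.Away r) (Ch R K r) x ∈
      (K.map (algebraMap R (Ch R K r))) ^ k := by
  rw [map_algebraMap_Ch]
  exact exists_sub_mem_pow _ (hK.map _) k c

variable {Z : Type u} [CommRing Z]

/-- lift a ring map killing `K^k` and inverting `r` to the completed localization -/
noncomputable def liftQCh (k : ℕ) (φ : R →+* Z) (hr : IsUnit (φ r))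
    (hφ : K ^ k ≤ RingHom.ker φ) : Ch R K r →+* Z :=
  liftQ (K.map (algebraMap R (Localization.Away r))) k (IsLocalization.Away.lift r hr) (by
    rw [← Ideal.map_pow, Ideal.map_le_iff_le_comap]
    intro a ha
    rw [Ideal.mem_comap, RingHom.mem_ker, IsLocalization.Away.lift_eq]
    exact hφ ha)

theorem liftQCh_algebraMap (k : ℕ) (φ : R →+* Z) (hr : IsUnit (φ r))
    (hφ : K ^ k ≤ RingHom.ker φ) (x : R) :
    liftQCh R K r k φ hr hφ (algebraMap R (Ch R K r) x) = φ x := by
  have : algebraMap R (Ch R K r) x =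
      algebraMap (Localization.Away r) (Ch R K r) (algebraMap R (Localization.Away r) x) := rfl
  rw [this, liftQCh, liftQ_algebraMap, IsLocalization.Away.lift_eq]

theorem ringHom_ext_Ch (hK : K.FG) (k : ℕ) (α β : Ch R K r →+* Z)
    (h : α.comp (algebraMap R (Ch R K r)) = β.comp (algebraMap R (Ch R K r)))
    (hk : K ^ k ≤ RingHom.ker (α.comp (algebraMap R (Ch R K r)))) : α = β := by
  apply ringHom_ext_compl _ (hK.map _) k
  · apply IsLocalization.ringHom_ext (Submonoid.powers r)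
    rw [RingHom.comp_assoc, RingHom.comp_assoc]
    exact h
  · rw [← Ideal.map_pow, Ideal.map_le_iff_le_comap]
    intro a ha
    exact hk ha

theorem subring_eq_top_Ch (hK : K.FG) (k : ℕ) (𝔇 : Subring (Ch R K r))
    (h1 : ∀ x : R, algebraMap R (Ch R K r) x ∈ 𝔇)
    (h2 : ∀ e ∈ (K.map (algebraMap R (Ch R K r))) ^ k, e ∈ 𝔇)
    (h3 : ∃ v ∈ 𝔇, v * algebraMap R (Ch R K r) r = 1) (c : Ch R K r) : c ∈ 𝔇 := by
  obtain ⟨v, hv, hvr⟩ := h3
  refine subring_eq_top_compl _ (hK.map _) k 𝔇 ?_ ?_ c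
  · intro x
    obtain ⟨m, a, hm⟩ := IsLocalization.Away.surj r x
    have e1 : algebraMap (Localization.Away r) (Ch R K r) x * (algebraMap R (Ch R K r) r) ^ m =
        algebraMap R (Ch R K r) a := by
      have : algebraMap R (Ch R K r) a =
          algebraMap (Localization.Away r) (Ch R K r) (algebraMap R (Localization.Away r) a) := rfl
      rw [this, ← hm, map_mul, map_pow]
      rfl
    have e2 : (algebraMap R (Ch R K r) r) ^ m * v ^ m = 1 := by
      rw [← mul_pow, mul_comm, hvr, one_pow]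
    have e3 : algebraMap (Localization.Away r) (Ch R K r) x = algebraMap R (Ch R K r) a * v ^ m := by
      rw [← e1, mul_assoc, e2, mul_one]
    rw [e3]
    exact 𝔇.mul_mem (h1 a) (𝔇.pow_mem hv m)
  · rw [← map_algebraMap_Ch]
    exact h2

end G2

section QT
variable (A B X : Type u) [CommRing A] [CommRing B] [CommRing X] [Algebra A B] [Algebra A X]
  (I : Ideal A) (k : ℕ)

/-- the truncation `(B ⊗ X)/I^k` (a `def`, to keep instance search cheap) -/
def QT : Type u := (B ⊗[A] X) ⧸ (I.map (algebraMap A (B ⊗[A] X))) ^ k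

noncomputable instance : CommRing (QT A B X I k) :=
  Ideal.Quotient.commRing ((I.map (algebraMap A (B ⊗[A] X))) ^ k)

/-- the quotient map -/
noncomputable def QT.mk : B ⊗[A] X →+* QT A B X I k :=
  Ideal.Quotient.mk ((I.map (algebraMap A (B ⊗[A] X))) ^ k)

variable {A B X I k}

theorem QT.mk_eq_zero_iff (t : B ⊗[A] X) :
    QT.mk A B X I k t = 0 ↔ t ∈ (I.map (algebraMap A (B ⊗[A] X))) ^ k :=
  Ideal.Quotient.eq_zero_iff_mem

theorem QT.mk_algebraMap_eq_zero (a : A) (ha : a ∈ I ^ k) :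
    QT.mk A B X I k (algebraMap A (B ⊗[A] X) a) = 0 := by
  rw [QT.mk_eq_zero_iff, ← Ideal.map_pow]
  exact Ideal.mem_map_of_mem _ ha

/-- lifting out of the truncation -/
noncomputable def QT.lift {Z : Type u} [CommRing Z] (f : B ⊗[A] X →+* Z)
    (hf : (I.map (algebraMap A (B ⊗[A] X))) ^ k ≤ RingHom.ker f) : QT A B X I k →+* Z :=
  Ideal.Quotient.lift ((I.map (algebraMap A (B ⊗[A] X))) ^ k) f (fun a ha => hf ha)

theorem QT.lift_mk {Z : Type u} [CommRing Z] (f : B ⊗[A] X →+* Z)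
    (hf : (I.map (algebraMap A (B ⊗[A] X))) ^ k ≤ RingHom.ker f) (t : B ⊗[A] X) :
    QT.lift f hf (QT.mk A B X I k t) = f t :=
  Ideal.Quotient.lift_mk _ _ _

end QT

section CTPdef
variable {A B X Y : Type u} [CommRing A] [CommRing B] [CommRing X] [CommRing Y]
  [Algebra A B] [Algebra A X]

/-- `Y` is a "completed tensor product" of `B` and `X` over `A` for the `I`-adic topology. -/
def CTP (I : Ideal A) (β : B →+* Y) (ξ : X →+* Y)
    (hc : β.comp (algebraMap A B) = ξ.comp (algebraMap A X)) : Prop :=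
  ∀ k : ℕ, (∀ y : Y, ∃ t : B ⊗[A] X,
      y - tensorLift β ξ hc t ∈ (I.map (β.comp (algebraMap A B))) ^ k) ∧
    ∃ ρ : Y →+* QT A B X I k, ∀ t, ρ (tensorLift β ξ hc t) = QT.mk A B X I k t

theorem tensorLift_algebraMap (β : B →+* Y) (ξ : X →+* Y)
    (hc : β.comp (algebraMap A B) = ξ.comp (algebraMap A X)) (a : A) :
    tensorLift β ξ hc (algebraMap A (B ⊗[A] X) a) = β (algebraMap A B a) := by
  rw [Algebra.TensorProduct.algebraMap_apply, tensorLift_tmul, map_one, mul_one]

theorem CTP.closed {I : Ideal A} {β : B →+* Y} {ξ : X →+* Y}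
    {hc : β.comp (algebraMap A B) = ξ.comp (algebraMap A X)} (h : CTP I β ξ hc) (k : ℕ)
    (t : B ⊗[A] X) (ht : tensorLift β ξ hc t ∈ (I.map (β.comp (algebraMap A B))) ^ k) :
    t ∈ (I.map (algebraMap A (B ⊗[A] X))) ^ k := by
  obtain ⟨-, ρ, hρ⟩ := h k
  have hker : (I.map (β.comp (algebraMap A B))) ^ k ≤ RingHom.ker ρ := by
    rw [← Ideal.map_pow, Ideal.map_le_iff_le_comap]
    intro a ha
    rw [Ideal.mem_comap, RingHom.mem_ker, RingHom.comp_apply, ← tensorLift_algebraMap β ξ hc, hρ]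
    exact QT.mk_algebraMap_eq_zero a ha
  have := hker ht
  rw [RingHom.mem_ker, hρ, QT.mk_eq_zero_iff] at this
  exact this

end CTPdef

section P1
variable (A : Type u) [CommRing A] (I : Ideal A) (B C : Type u) [CommRing B] [CommRing C]
  [Algebra A B] [Algebra A C]

/-- the ideal of definition of `C ⊗ B` -/
abbrev KE : @Ideal (C ⊗[A] B) (@CommSemiring.toSemiring _ (@CommRing.toCommSemiring _
    Algebra.TensorProduct.instCommRing)) :=
  (I.map (algebraMap A C)).map (algebraMap C (C ⊗[A] B))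

/-- the completed tensor product -/
abbrev DD : Type u := AdicCompletion (KE A I B C) (C ⊗[A] B)

theorem KE_eq : KE A I B C = I.map (algebraMap A (C ⊗[A] B)) := by
  rw [KE, Ideal.map_map, ← IsScalarTower.algebraMap_eq]

/-- `B → D` -/
noncomputable def betaD : B →+* DD A I B C :=
  (algebraMap (C ⊗[A] B) (DD A I B C)).comp
    (Algebra.TensorProduct.includeRight : B →ₐ[A] C ⊗[A] B).toRingHom

theorem betaD_comp :
    (betaD A I B C).comp (algebraMap A B) = (algebraMap C (DD A I B C)).comp (algebraMap A C) := by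
  refine RingHom.ext fun a => ?_
  change algebraMap (C ⊗[A] B) (DD A I B C) ((1 : C) ⊗ₜ[A] (algebraMap A B a)) =
    algebraMap (C ⊗[A] B) (DD A I B C) ((algebraMap A C a) ⊗ₜ[A] (1 : B))
  congr 1
  rw [Algebra.algebraMap_eq_smul_one, Algebra.algebraMap_eq_smul_one, TensorProduct.smul_tmul]

theorem betaD_comp' :
    (betaD A I B C).comp (algebraMap A B) = algebraMap A (DD A I B C) := by
  rw [betaD_comp]; rfl

theorem tensorLift_comm (e : C ⊗[A] B) :
    tensorLift (betaD A I B C) (algebraMap C (DD A I B C)) (betaD_comp A I B C)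
      (Algebra.TensorProduct.comm A C B e) = algebraMap (C ⊗[A] B) (DD A I B C) e := by
  induction e using TensorProduct.induction_on with
  | zero => simp
  | tmul c b =>
    rw [Algebra.TensorProduct.comm_tmul, tensorLift_tmul]
    change algebraMap (C ⊗[A] B) (DD A I B C) ((1 : C) ⊗ₜ[A] b) *
      algebraMap (C ⊗[A] B) (DD A I B C) (c ⊗ₜ[A] (1 : B)) = _
    rw [← map_mul, Algebra.TensorProduct.tmul_mul_tmul, one_mul, mul_one]
  | add x y hx hy => rw [map_add, map_add, hx, hy, map_add]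

theorem ctp_base (hI : I.FG) :
    CTP I (betaD A I B C) (algebraMap C (DD A I B C)) (betaD_comp A I B C) := by
  intro k
  have hKfg : (KE A I B C).FG := (hI.map _).map _
  have hideal : I.map ((betaD A I B C).comp (algebraMap A B)) =
      (KE A I B C).map (algebraMap (C ⊗[A] B) (DD A I B C)) := by
    rw [betaD_comp']
    have h1 : (KE A I B C).map (algebraMap (C ⊗[A] B) (DD A I B C)) =
        (I.map (algebraMap A (C ⊗[A] B))).map (algebraMap (C ⊗[A] B) (DD A I B C)) :=
      congrArg (fun K : Ideal (C ⊗[A] B) => K.map (algebraMap (C ⊗[A] B) (DD A I B C)))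
        (KE_eq A I B C)
    rw [h1, Ideal.map_map]
    rfl
  constructor
  · intro d
    obtain ⟨e, he⟩ := exists_sub_mem_pow (KE A I B C) hKfg k d
    refine ⟨Algebra.TensorProduct.comm A C B e, ?_⟩
    rw [tensorLift_comm, hideal]
    exact he
  · have hφ : (KE A I B C) ^ k ≤ RingHom.ker
        ((QT.mk A B C I k).comp
          (Algebra.TensorProduct.comm A C B : C ⊗[A] B →ₐ[A] B ⊗[A] C).toRingHom) := by
      have h1 : (KE A I B C) ^ k = (I.map (algebraMap A (C ⊗[A] B))) ^ k :=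
        congrArg (fun K : Ideal (C ⊗[A] B) => K ^ k) (KE_eq A I B C)
      rw [h1, ← Ideal.map_pow, Ideal.map_le_iff_le_comap]
      intro a ha
      rw [Ideal.mem_comap, RingHom.mem_ker, RingHom.comp_apply]
      change QT.mk A B C I k ((Algebra.TensorProduct.comm A C B)
        (algebraMap A (C ⊗[A] B) a)) = 0
      rw [AlgEquiv.commutes]
      exact QT.mk_algebraMap_eq_zero a ha
    refine ⟨liftQ (KE A I B C) k _ hφ, fun t => ?_⟩
    obtain ⟨e, rfl⟩ := (Algebra.TensorProduct.comm A C B).surjective t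
    rw [tensorLift_comm, liftQ_algebraMap]
    rfl

end P1

section P2
variable {A B X Y : Type u} [CommRing A] [CommRing B] [CommRing X] [CommRing Y]
  [Algebra A B] [Algebra A X] [Algebra A Y] (I : Ideal A)
  (β : B →+* Y) (ξ : X →+* Y) (hc : β.comp (algebraMap A B) = ξ.comp (algebraMap A X))
  (hβA : β.comp (algebraMap A B) = algebraMap A Y)
  (h : X) (KX : Ideal X) (hKX : KX = I.map (algebraMap A X))
  (KY : Ideal Y) (hKY : KY = I.map (algebraMap A Y)) (h' : Y) (hh' : h' = ξ h)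
  (ψ : Ch X KX h →+* Ch Y KY h')
  (hψ : ψ.comp (algebraMap X (Ch X KX h)) = (algebraMap Y (Ch Y KY h')).comp ξ)

/-- `B ⊗ X → B ⊗ X'` -/
noncomputable def tauCh : B ⊗[A] X →+* B ⊗[A] (Ch X KX h) :=
  tensorLift (Algebra.TensorProduct.includeLeftRingHom)
    ((Algebra.TensorProduct.includeRight : Ch X KX h →ₐ[A] B ⊗[A] (Ch X KX h)).toRingHom.comp
      (algebraMap X (Ch X KX h))) (by
    refine RingHom.ext fun a => ?_
    change (algebraMap A B a) ⊗ₜ[A] (1 : Ch X KX h) =
      (1 : B) ⊗ₜ[A] (algebraMap A (Ch X KX h) a)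
    rw [Algebra.algebraMap_eq_smul_one, Algebra.algebraMap_eq_smul_one, TensorProduct.smul_tmul])

theorem tauCh_tmul (b : B) (x : X) :
    tauCh h KX (A := A) (B := B) (b ⊗ₜ x) = b ⊗ₜ (algebraMap X (Ch X KX h) x) := by
  rw [tauCh, tensorLift_tmul]
  change (b ⊗ₜ[A] (1 : Ch X KX h)) * ((1 : B) ⊗ₜ[A] (algebraMap X (Ch X KX h) x)) = _
  rw [Algebra.TensorProduct.tmul_mul_tmul, mul_one, one_mul]

theorem tauCh_algebraMap (a : A) :
    tauCh h KX (A := A) (B := B) (algebraMap A (B ⊗[A] X) a) =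
      algebraMap A (B ⊗[A] (Ch X KX h)) a := by
  rw [Algebra.TensorProduct.algebraMap_apply, tauCh_tmul, map_one,
    Algebra.TensorProduct.algebraMap_apply]

include hβA hKY in
theorem ideal_Ch_eq :
    I.map (((algebraMap Y (Ch Y KY h')).comp β).comp (algebraMap A B)) =
      KY.map (algebraMap Y (Ch Y KY h')) := by
  have h1 : KY.map (algebraMap Y (Ch Y KY h')) =
      (I.map (algebraMap A Y)).map (algebraMap Y (Ch Y KY h')) :=
    congrArg (fun K : Ideal Y => K.map (algebraMap Y (Ch Y KY h'))) hKY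
  rw [RingHom.comp_assoc, hβA, h1, Ideal.map_map]

include hψ in
theorem tensorLift_tauCh
    (hc' : ((algebraMap Y (Ch Y KY h')).comp β).comp (algebraMap A B) =
      ψ.comp (algebraMap A (Ch X KX h))) (t : B ⊗[A] X) :
    tensorLift ((algebraMap Y (Ch Y KY h')).comp β) ψ hc' (tauCh h KX t) =
      algebraMap Y (Ch Y KY h') (tensorLift β ξ hc t) := by
  induction t using TensorProduct.induction_on with
  | zero => simp
  | tmul b x =>
    rw [tauCh_tmul, tensorLift_tmul, tensorLift_tmul, map_mul]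
    congr 1
    exact RingHom.congr_fun hψ x
  | add x y hx hy => rw [map_add, map_add, hx, hy, map_add, map_add]


include hβA hKX hKY hh' hψ hc in
/-- abstract form of the retraction on a completed localization -/
theorem exists_retract_Ch (hI : I.FG)
    (hc' : ((algebraMap Y (Ch Y KY h')).comp β).comp (algebraMap A B) =
      ψ.comp (algebraMap A (Ch X KX h)))
    {Z : Type u} [CommRing Z] (k : ℕ) (φ : Y →+* Z) (ιB : B →+* Z) (ιX : Ch X KX h →+* Z)
    (ha : ∀ b, φ (β b) = ιB b) (hb : ∀ x, φ (ξ x) = ιX (algebraMap X (Ch X KX h) x))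
    (hk : I ^ k ≤ RingHom.ker (φ.comp (algebraMap A Y)))
    (hcZ : ιB.comp (algebraMap A B) = ιX.comp (algebraMap A (Ch X KX h))) :
    ∃ ρ' : Ch Y KY h' →+* Z, ∀ t,
      ρ' (tensorLift ((algebraMap Y (Ch Y KY h')).comp β) ψ hc' t) = tensorLift ιB ιX hcZ t := by
  have hKXfg : KX.FG := by rw [hKX]; exact hI.map _
  have hr : IsUnit (φ h') := by
    rw [hh', hb]
    exact (isUnit_algebraMap_Ch X KX h).map ιX
  have hφK : KY ^ k ≤ RingHom.ker φ := by
    have h2 : KY ^ k = (I.map (algebraMap A Y)) ^ k := congrArg (fun K : Ideal Y => K ^ k) hKY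
    rw [h2, ← Ideal.map_pow, Ideal.map_le_iff_le_comap]
    intro a ha
    exact hk ha
  refine ⟨liftQCh Y KY h' k φ hr hφK, ?_⟩
  have hagree : ∀ x : X, liftQCh Y KY h' k φ hr hφK (ψ (algebraMap X (Ch X KX h) x)) =
      ιX (algebraMap X (Ch X KX h) x) := by
    intro x
    have := RingHom.congr_fun hψ x
    rw [RingHom.comp_apply, RingHom.comp_apply] at this
    rw [this, liftQCh_algebraMap, hb]
  have hX : (liftQCh Y KY h' k φ hr hφK).comp ψ = ιX := by
    apply ringHom_ext_Ch X KX h hKXfg k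
    · refine RingHom.ext fun x => ?_
      rw [RingHom.comp_apply, RingHom.comp_apply, hagree]
      rfl
    · have h2 : KX ^ k = (I.map (algebraMap A X)) ^ k := congrArg (fun K : Ideal X => K ^ k) hKX
      rw [h2, ← Ideal.map_pow, Ideal.map_le_iff_le_comap]
      intro a ha
      rw [Ideal.mem_comap, RingHom.mem_ker, RingHom.comp_apply, RingHom.comp_apply, hagree]
      have e1 : ιX (algebraMap X (Ch X KX h) (algebraMap A X a)) = φ (ξ (algebraMap A X a)) :=
        (hb _).symm
      have e2 : ξ (algebraMap A X a) = algebraMap A Y a := by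
        have := RingHom.congr_fun hc a
        rw [RingHom.comp_apply, RingHom.comp_apply] at this
        rw [← this]
        exact RingHom.congr_fun hβA a
      rw [e1, e2]
      exact hk ha
  have key : (liftQCh Y KY h' k φ hr hφK).comp
      (tensorLift ((algebraMap Y (Ch Y KY h')).comp β) ψ hc') = tensorLift ιB ιX hcZ := by
    apply ringHom_ext_tensor
    · intro b
      rw [RingHom.comp_apply, tensorLift_tmul, map_one, mul_one, RingHom.comp_apply,
        liftQCh_algebraMap, ha, tensorLift_tmul, map_one, mul_one]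
    · intro x'
      rw [RingHom.comp_apply, tensorLift_tmul, map_one, one_mul, tensorLift_tmul, map_one, one_mul]
      exact RingHom.congr_fun hX x'
  intro t
  exact RingHom.congr_fun key t


set_option maxHeartbeats 1600000 in
include hβA hKX hKY hh' hψ in
theorem ctp_Ch (hI : I.FG) (hctp : CTP I β ξ hc)
    (hc' : ((algebraMap Y (Ch Y KY h')).comp β).comp (algebraMap A B) =
      ψ.comp (algebraMap A (Ch X KX h))) :
    CTP I ((algebraMap Y (Ch Y KY h')).comp β) ψ hc' := by
  intro k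
  obtain ⟨hd, ρ, hρ⟩ := hctp k
  have hKYfg : KY.FG := by rw [hKY]; exact hI.map _
  have hid := ideal_Ch_eq I β hβA KY hKY h'
  obtain ⟨u, hu⟩ := (isUnit_algebraMap_Ch X KX h).exists_left_inv
  constructor
  · -- density
    intro y
    let J' : Ideal (Ch Y KY h') := I.map (((algebraMap Y (Ch Y KY h')).comp β).comp (algebraMap A B))
    let 𝔇 : Subring (Ch Y KY h') :=
      (RingHom.range ((Ideal.Quotient.mk (J' ^ k)).comp
        (tensorLift ((algebraMap Y (Ch Y KY h')).comp β) ψ hc'))).comap (Ideal.Quotient.mk (J' ^ k))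
    have hmem : ∀ z : Ch Y KY h', z ∈ 𝔇 ↔ ∃ t : B ⊗[A] (Ch X KX h),
        z - tensorLift ((algebraMap Y (Ch Y KY h')).comp β) ψ hc' t ∈ J' ^ k := by
      intro z
      change (∃ t, Ideal.Quotient.mk (J' ^ k) (tensorLift _ ψ hc' t) = Ideal.Quotient.mk (J' ^ k) z) ↔ _
      refine exists_congr fun t => ?_
      rw [eq_comm, Ideal.Quotient.eq]
    rw [← hmem]
    refine subring_eq_top_Ch Y KY h' hKYfg k 𝔇 ?_ ?_ ?_ y
    · intro y₀
      obtain ⟨t, ht⟩ := hd y₀
      rw [hmem]
      refine ⟨tauCh h KX t, ?_⟩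
      rw [tensorLift_tauCh β ξ hc h KX KY h' ψ hψ hc', ← map_sub]
      change _ ∈ (I.map _) ^ k
      rw [hid, ← Ideal.map_pow]
      apply Ideal.mem_map_of_mem
      rw [hβA] at ht
      have h2 : KY ^ k = (I.map (algebraMap A Y)) ^ k := congrArg (fun K : Ideal Y => K ^ k) hKY
      rw [h2]
      exact ht
    · intro e he
      rw [hmem]
      refine ⟨0, ?_⟩
      rw [map_zero, sub_zero]
      change _ ∈ (I.map _) ^ k
      rw [hid]
      exact he
    · refine ⟨ψ u, ?_, ?_⟩
      · rw [hmem]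
        refine ⟨1 ⊗ₜ u, ?_⟩
        rw [tensorLift_tmul, map_one, one_mul, sub_self]
        exact zero_mem _
      · have e0 : algebraMap Y (Ch Y KY h') h' = algebraMap Y (Ch Y KY h') (ξ h) :=
          congrArg (algebraMap Y (Ch Y KY h')) hh'
        have : algebraMap Y (Ch Y KY h') (ξ h) = ψ (algebraMap X (Ch X KX h) h) :=
          (RingHom.congr_fun hψ h).symm
        rw [e0, this, ← map_mul, hu, map_one]
  · -- retraction
    have hτker : (I.map (algebraMap A (B ⊗[A] X))) ^ k ≤ RingHom.ker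
        ((QT.mk A B (Ch X KX h) I k).comp (tauCh h KX)) := by
      rw [← Ideal.map_pow, Ideal.map_le_iff_le_comap]
      intro a ha
      rw [Ideal.mem_comap, RingHom.mem_ker, RingHom.comp_apply, tauCh_algebraMap]
      exact QT.mk_algebraMap_eq_zero a ha
    obtain ⟨φ, hφdef⟩ : ∃ φ : Y →+* QT A B (Ch X KX h) I k,
        ∀ y, φ y = QT.lift _ hτker (ρ y) := ⟨(QT.lift _ hτker).comp ρ, fun y => rfl⟩
    have hφμ : ∀ t, φ (tensorLift β ξ hc t) = QT.mk A B (Ch X KX h) I k (tauCh h KX t) := by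
      intro t
      rw [hφdef, hρ, QT.lift_mk]
      rfl
    obtain ⟨ιB, hιB⟩ : ∃ ιB : B →+* QT A B (Ch X KX h) I k,
        ∀ b, ιB b = QT.mk A B (Ch X KX h) I k (b ⊗ₜ[A] (1 : Ch X KX h)) :=
      ⟨(QT.mk A B (Ch X KX h) I k).comp Algebra.TensorProduct.includeLeftRingHom, fun b => rfl⟩
    obtain ⟨ιX, hιX⟩ : ∃ ιX : Ch X KX h →+* QT A B (Ch X KX h) I k,
        ∀ x, ιX x = QT.mk A B (Ch X KX h) I k ((1 : B) ⊗ₜ[A] x) :=
      ⟨(QT.mk A B (Ch X KX h) I k).comp (Algebra.TensorProduct.includeRight :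
        Ch X KX h →ₐ[A] B ⊗[A] (Ch X KX h)).toRingHom, fun x => rfl⟩
    have hφξ : ∀ x, φ (ξ x) = ιX (algebraMap X (Ch X KX h) x) := by
      intro x
      have := hφμ (1 ⊗ₜ x)
      rw [tensorLift_tmul, map_one, one_mul, tauCh_tmul] at this
      rw [this, hιX]
    have hφβ : ∀ b, φ (β b) = ιB b := by
      intro b
      have := hφμ (b ⊗ₜ 1)
      rw [tensorLift_tmul, map_one, mul_one, tauCh_tmul, map_one] at this
      rw [this, hιB]
    have hk : I ^ k ≤ RingHom.ker (φ.comp (algebraMap A Y)) := by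
      intro a ha
      rw [RingHom.mem_ker, RingHom.comp_apply]
      have e : algebraMap A Y a = β (algebraMap A B a) := (RingHom.congr_fun hβA a).symm
      rw [e, hφβ, hιB, ← Algebra.TensorProduct.algebraMap_apply]
      exact QT.mk_algebraMap_eq_zero a ha
    have hcZ : ιB.comp (algebraMap A B) = ιX.comp (algebraMap A (Ch X KX h)) := by
      refine RingHom.ext fun a => ?_
      rw [RingHom.comp_apply, RingHom.comp_apply, hιB, hιX, Algebra.algebraMap_eq_smul_one,
        Algebra.algebraMap_eq_smul_one, TensorProduct.smul_tmul]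
    obtain ⟨ρ', hρ'⟩ := exists_retract_Ch I β ξ hc hβA h KX hKX KY hKY h' hh' ψ hψ hI hc' k φ
      ιB ιX hφβ hφξ hk hcZ
    refine ⟨ρ', fun t => ?_⟩
    rw [hρ']
    have key : tensorLift ιB ιX hcZ = QT.mk A B (Ch X KX h) I k := by
      apply ringHom_ext_tensor
      · intro b
        rw [tensorLift_tmul, map_one, mul_one, hιB]
      · intro x
        rw [tensorLift_tmul, map_one, one_mul, hιX]
    rw [key]

end P2

section P4
variable {A A₁ B X₁ Y₁ : Type u} [CommRing A] [CommRing A₁] [CommRing B] [CommRing X₁]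
  [CommRing Y₁]
  [Algebra A A₁] [Algebra A B] [Algebra A X₁] [Algebra A₁ X₁] [IsScalarTower A A₁ X₁]
  (I : Ideal A) (KB : Ideal B) (hKB : KB = I.map (algebraMap A B)) (b₀ : B)
  [Algebra A₁ (Ch B KB b₀)] [IsScalarTower A A₁ (Ch B KB b₀)]
  (β₁ : Ch B KB b₀ →+* Y₁) (ξ : X₁ →+* Y₁)
  (hc₁ : β₁.comp (algebraMap A₁ (Ch B KB b₀)) = ξ.comp (algebraMap A₁ X₁))
  (hc : (β₁.comp (algebraMap B (Ch B KB b₀))).comp (algebraMap A B) = ξ.comp (algebraMap A X₁))

/-- `B ⊗[A] X₁ → B₁ ⊗[A₁] X₁` -/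
noncomputable def sigmaBC : B ⊗[A] X₁ →+* (Ch B KB b₀) ⊗[A₁] X₁ :=
  tensorLift ((Algebra.TensorProduct.includeLeftRingHom).comp (algebraMap B (Ch B KB b₀)))
    (Algebra.TensorProduct.includeRight : X₁ →ₐ[A₁] (Ch B KB b₀) ⊗[A₁] X₁).toRingHom (by
    refine RingHom.ext fun a => ?_
    change (algebraMap A (Ch B KB b₀) a) ⊗ₜ[A₁] (1 : X₁) =
      (1 : Ch B KB b₀) ⊗ₜ[A₁] (algebraMap A X₁ a)
    rw [IsScalarTower.algebraMap_apply A A₁ (Ch B KB b₀), IsScalarTower.algebraMap_apply A A₁ X₁,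
      Algebra.algebraMap_eq_smul_one, Algebra.algebraMap_eq_smul_one (algebraMap A A₁ a),
      TensorProduct.smul_tmul])

theorem sigmaBC_tmul (b : B) (x : X₁) :
    sigmaBC (A := A) (A₁ := A₁) KB b₀ (b ⊗ₜ x) = (algebraMap B (Ch B KB b₀) b) ⊗ₜ[A₁] x := by
  rw [sigmaBC, tensorLift_tmul]
  change ((algebraMap B (Ch B KB b₀) b) ⊗ₜ[A₁] (1 : X₁)) * ((1 : Ch B KB b₀) ⊗ₜ[A₁] x) = _
  rw [Algebra.TensorProduct.tmul_mul_tmul, mul_one, one_mul]

theorem sigmaBC_algebraMap (a : A) :
    sigmaBC (A := A) (A₁ := A₁) (X₁ := X₁) KB b₀ (algebraMap A (B ⊗[A] X₁) a) =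
      algebraMap A₁ ((Ch B KB b₀) ⊗[A₁] X₁) (algebraMap A A₁ a) := by
  rw [Algebra.TensorProduct.algebraMap_apply, sigmaBC_tmul,
    Algebra.TensorProduct.algebraMap_apply, ← IsScalarTower.algebraMap_apply A A₁ (Ch B KB b₀)]
  rfl

theorem tensorLift_sigmaBC (t : B ⊗[A] X₁) :
    tensorLift β₁ ξ hc₁ (sigmaBC KB b₀ t) =
      tensorLift (β₁.comp (algebraMap B (Ch B KB b₀))) ξ hc t := by
  induction t using TensorProduct.induction_on with
  | zero => simp
  | tmul b x => rw [sigmaBC_tmul, tensorLift_tmul, tensorLift_tmul]; rfl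
  | add x y hx hy => rw [map_add, map_add, hx, hy, map_add]

theorem ideal_BC_eq :
    (I.map (algebraMap A A₁)).map (β₁.comp (algebraMap A₁ (Ch B KB b₀))) =
      I.map ((β₁.comp (algebraMap B (Ch B KB b₀))).comp (algebraMap A B)) := by
  rw [Ideal.map_map, RingHom.comp_assoc, ← IsScalarTower.algebraMap_eq A A₁ (Ch B KB b₀)]
  rfl

include hKB in
theorem retract_BC (hI : I.FG) {Z : Type u} [CommRing Z] (k : ℕ) (ρ : Y₁ →+* Z)
    (ιB : Ch B KB b₀ →+* Z) (ιX : X₁ →+* Z)
    (ha : ∀ b, ρ (β₁ (algebraMap B (Ch B KB b₀) b)) = ιB (algebraMap B (Ch B KB b₀) b))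
    (hb : ∀ x, ρ (ξ x) = ιX x)
    (hk : I ^ k ≤ RingHom.ker (ιB.comp (algebraMap A (Ch B KB b₀))))
    (hcZ : ιB.comp (algebraMap A₁ (Ch B KB b₀)) = ιX.comp (algebraMap A₁ X₁))
    (t : (Ch B KB b₀) ⊗[A₁] X₁) :
    ρ (tensorLift β₁ ξ hc₁ t) = tensorLift ιB ιX hcZ t := by
  have hKBfg : KB.FG := by rw [hKB]; exact hI.map _
  have hB : ρ.comp β₁ = ιB := by
    apply ringHom_ext_Ch B KB b₀ hKBfg k
    · refine RingHom.ext fun b => ?_
      rw [RingHom.comp_apply, RingHom.comp_apply, RingHom.comp_apply, ha]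
    · have h2 : KB ^ k = (I.map (algebraMap A B)) ^ k := congrArg (fun K : Ideal B => K ^ k) hKB
      rw [h2, ← Ideal.map_pow, Ideal.map_le_iff_le_comap]
      intro a haI
      rw [Ideal.mem_comap, RingHom.mem_ker, RingHom.comp_apply, RingHom.comp_apply, ha]
      exact hk haI
  have key : ρ.comp (tensorLift β₁ ξ hc₁) = tensorLift ιB ιX hcZ := by
    apply ringHom_ext_tensor
    · intro b
      rw [RingHom.comp_apply, tensorLift_tmul, map_one, mul_one, tensorLift_tmul, map_one, mul_one]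
      exact RingHom.congr_fun hB b
    · intro x
      rw [RingHom.comp_apply, tensorLift_tmul, map_one, one_mul, tensorLift_tmul, map_one, one_mul,
        hb]
  exact RingHom.congr_fun key t

set_option maxHeartbeats 1600000 in
include hKB in
theorem ctp_baseChange (hI : I.FG)
    (hctp : CTP I (β₁.comp (algebraMap B (Ch B KB b₀))) ξ hc) :
    CTP (I.map (algebraMap A A₁)) β₁ ξ hc₁ := by
  intro k
  obtain ⟨hd, ρ, hρ⟩ := hctp k
  constructor
  · intro y
    obtain ⟨t, ht⟩ := hd y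
    refine ⟨sigmaBC KB b₀ t, ?_⟩
    rw [tensorLift_sigmaBC KB b₀ β₁ ξ hc₁ hc, ideal_BC_eq]
    exact ht
  · have hσker : (I.map (algebraMap A (B ⊗[A] X₁))) ^ k ≤ RingHom.ker
        ((QT.mk A₁ (Ch B KB b₀) X₁ (I.map (algebraMap A A₁)) k).comp (sigmaBC KB b₀)) := by
      rw [← Ideal.map_pow, Ideal.map_le_iff_le_comap]
      intro a ha
      rw [Ideal.mem_comap, RingHom.mem_ker, RingHom.comp_apply, sigmaBC_algebraMap]
      apply QT.mk_algebraMap_eq_zero
      rw [← Ideal.map_pow]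
      exact Ideal.mem_map_of_mem _ ha
    obtain ⟨ρ₁, hρ₁def⟩ : ∃ ρ₁ : Y₁ →+* QT A₁ (Ch B KB b₀) X₁ (I.map (algebraMap A A₁)) k,
        ∀ y, ρ₁ y = QT.lift _ hσker (ρ y) := ⟨(QT.lift _ hσker).comp ρ, fun y => rfl⟩
    have hρ₁μ : ∀ t, ρ₁ (tensorLift (β₁.comp (algebraMap B (Ch B KB b₀))) ξ hc t) =
        QT.mk A₁ (Ch B KB b₀) X₁ (I.map (algebraMap A A₁)) k (sigmaBC KB b₀ t) := by
      intro t
      rw [hρ₁def, hρ, QT.lift_mk]
      rfl
    obtain ⟨ιB, hιB⟩ : ∃ ιB : Ch B KB b₀ →+* QT A₁ (Ch B KB b₀) X₁ (I.map (algebraMap A A₁)) k,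
        ∀ b, ιB b = QT.mk A₁ (Ch B KB b₀) X₁ (I.map (algebraMap A A₁)) k (b ⊗ₜ[A₁] (1 : X₁)) :=
      ⟨(QT.mk A₁ (Ch B KB b₀) X₁ (I.map (algebraMap A A₁)) k).comp
        Algebra.TensorProduct.includeLeftRingHom, fun b => rfl⟩
    obtain ⟨ιX, hιX⟩ : ∃ ιX : X₁ →+* QT A₁ (Ch B KB b₀) X₁ (I.map (algebraMap A A₁)) k,
        ∀ x, ιX x = QT.mk A₁ (Ch B KB b₀) X₁ (I.map (algebraMap A A₁)) k
          ((1 : Ch B KB b₀) ⊗ₜ[A₁] x) :=
      ⟨(QT.mk A₁ (Ch B KB b₀) X₁ (I.map (algebraMap A A₁)) k).comp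
        (Algebra.TensorProduct.includeRight : X₁ →ₐ[A₁] (Ch B KB b₀) ⊗[A₁] X₁).toRingHom,
        fun x => rfl⟩
    have ha : ∀ b, ρ₁ (β₁ (algebraMap B (Ch B KB b₀) b)) = ιB (algebraMap B (Ch B KB b₀) b) := by
      intro b
      have := hρ₁μ (b ⊗ₜ 1)
      rw [tensorLift_tmul, map_one, mul_one, sigmaBC_tmul] at this
      rw [hιB, ← this]
      rfl
    have hb : ∀ x, ρ₁ (ξ x) = ιX x := by
      intro x
      have := hρ₁μ (1 ⊗ₜ x)
      rw [tensorLift_tmul, map_one, one_mul, sigmaBC_tmul, map_one] at this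
      rw [hιX, ← this]
    have hk : I ^ k ≤ RingHom.ker (ιB.comp (algebraMap A (Ch B KB b₀))) := by
      intro a haI
      rw [RingHom.mem_ker, RingHom.comp_apply, hιB,
        IsScalarTower.algebraMap_apply A A₁ (Ch B KB b₀), ← Algebra.TensorProduct.algebraMap_apply]
      apply QT.mk_algebraMap_eq_zero
      rw [← Ideal.map_pow]
      exact Ideal.mem_map_of_mem _ haI
    have hcZ : ιB.comp (algebraMap A₁ (Ch B KB b₀)) = ιX.comp (algebraMap A₁ X₁) := by
      refine RingHom.ext fun a => ?_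
      rw [RingHom.comp_apply, RingHom.comp_apply, hιB, hιX, Algebra.algebraMap_eq_smul_one,
        Algebra.algebraMap_eq_smul_one (A := X₁), TensorProduct.smul_tmul]
    refine ⟨ρ₁, fun t => ?_⟩
    rw [retract_BC I KB hKB b₀ β₁ ξ hc₁ hI k ρ₁ ιB ιX ha hb hk hcZ t]
    have key : tensorLift ιB ιX hcZ = QT.mk A₁ (Ch B KB b₀) X₁ (I.map (algebraMap A A₁)) k := by
      apply ringHom_ext_tensor
      · intro b
        rw [tensorLift_tmul, map_one, mul_one, hιB]
      · intro x
        rw [tensorLift_tmul, map_one, one_mul, hιX]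
    rw [key]

end P4

end Groth.Agent.Lib.Helper14.CTPAdic
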