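import Mathlib
import Groth.Agent.Lib.Helper14CTPAdic
import Groth.Agent.Lib.Helper19Restricted2

/-!
# Rig-flatness is stable under completed tensor product base change (helper14)

Assembly: reduction to a rig-closed prime whose contraction to a completed localization of the base
is rig-closed (S8840), identification of the completed localizations of the completed tensor product
as completed tensor products, and the abstract flatness theorem of `Helper14CTPFlat`.
-/

set_option autoImplicit false
set_option linter.unusedVariables false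
set_option linter.unusedSectionVars false
set_option linter.style.haveILetI false
universe u

namespace Groth.Agent.Lib.Helper14.CTPRig

open TensorProduct Groth.Agent.Lib.Helper14.CTPFlat Groth.Agent.Lib.Helper14.RigClosed5
  Groth.Agent.Lib.Helper14.CTPAdic Groth.Agent.Lib.Helper14.RigFlat
  Groth.Agent.Lib.Helper14.RigFlatComp Groth.Agent.Lib.Helper14.RigFlatDesc
  Groth.Agent.Lib.Helper14.RigFlatEt Groth.Agent.Lib.Helper14

section finpow
variable {A₁ R : Type u} [CommRing A₁] [CommRing R] [Algebra A₁ R] [IsNoetherianRing R]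

theorem finite_quotient_pow (P : Ideal R) [Module.Finite A₁ (R ⧸ P)] (n : ℕ) :
    Module.Finite A₁ (R ⧸ P ^ n) := by
  induction n with
  | zero =>
    haveI : Subsingleton (R ⧸ P ^ 0) := by
      rw [pow_zero, Ideal.one_eq_top]
      exact Ideal.Quotient.subsingleton_iff.mpr rfl
    infer_instance
  | succ n ih =>
    haveI := ih
    obtain ⟨m, y, hy⟩ := Submodule.fg_iff_exists_fin_generating_family.mp
      (IsNoetherian.noetherian (P ^ n))
    have hyP : ∀ j, y j ∈ P ^ n := fun j => by
      rw [← hy]; exact Submodule.subset_span ⟨j, rfl⟩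
    have hker : ∀ j, P ≤ LinearMap.ker
        (LinearMap.toSpanSingleton R (R ⧸ P ^ (n + 1)) (Ideal.Quotient.mk _ (y j))) := by
      intro j p hp
      rw [LinearMap.mem_ker, LinearMap.toSpanSingleton_apply]
      change p • Ideal.Quotient.mk (P ^ (n + 1)) (y j) = 0
      rw [Algebra.smul_def]
      change Ideal.Quotient.mk (P ^ (n + 1)) p * Ideal.Quotient.mk (P ^ (n + 1)) (y j) = 0
      rw [← map_mul, Ideal.Quotient.eq_zero_iff_mem, pow_succ']
      exact Ideal.mul_mem_mul hp (hyP j)
    let g : Fin m → ((R ⧸ P) →ₗ[R] (R ⧸ P ^ (n + 1))) := fun j =>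
      Submodule.liftQ P _ (hker j)
    have hg : ∀ j (r : R), g j (Ideal.Quotient.mk P r) = Ideal.Quotient.mk _ (r * y j) := by
      intro j r
      change LinearMap.toSpanSingleton R (R ⧸ P ^ (n + 1)) (Ideal.Quotient.mk _ (y j)) r = _
      rw [LinearMap.toSpanSingleton_apply, Algebra.smul_def, map_mul]
      rfl
    let f : (Fin m → R ⧸ P) →ₗ[A₁] (R ⧸ P ^ (n + 1)) :=
      ∑ j, ((g j).restrictScalars A₁).comp (LinearMap.proj j)
    have hf : ∀ v, f v = ∑ j, g j (v j) := by
      intro v
      simp [f]
    let π : (R ⧸ P ^ (n + 1)) →ₗ[A₁] (R ⧸ P ^ n) :=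
      (Ideal.Quotient.factorₐ A₁ (Ideal.pow_le_pow_right n.le_succ)).toLinearMap
    have hπ : ∀ r : R, π (Ideal.Quotient.mk _ r) = Ideal.Quotient.mk _ r := fun r => rfl
    have hexact : Function.Exact f π := by
      intro z
      constructor
      · intro hz
        obtain ⟨r, rfl⟩ := Ideal.Quotient.mk_surjective z
        rw [hπ, Ideal.Quotient.eq_zero_iff_mem, ← hy] at hz
        obtain ⟨c, hc⟩ := (Submodule.mem_span_range_iff_exists_fun R).mp hz
        refine ⟨fun j => Ideal.Quotient.mk P (c j), ?_⟩
        rw [hf, ← hc, map_sum]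
        refine Finset.sum_congr rfl fun j _ => ?_
        rw [hg]
        rfl
      · rintro ⟨v, rfl⟩
        rw [hf, map_sum]
        refine Finset.sum_eq_zero fun j _ => ?_
        obtain ⟨r, hr⟩ := Ideal.Quotient.mk_surjective (v j)
        rw [← hr, hg, hπ, Ideal.Quotient.eq_zero_iff_mem]
        exact Ideal.mul_mem_left _ _ (hyP j)
    have hsurj : Function.Surjective π :=
      Ideal.Quotient.factor_surjective (Ideal.pow_le_pow_right n.le_succ)
    exact Module.Finite.of_exact hexact hsurj

end finpow

section skeleton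
variable (A : Type u) [CommRing A] [IsNoetherianRing A] (I : Ideal A) [IsAdicComplete I A]
  (X Y : Type u) [CommRing X] [CommRing Y] [Algebra A X] [Algebra A Y] [Algebra X Y]
  [IsScalarTower A X Y] [IsNoetherianRing X] [IsNoetherianRing Y]
  [IsAdicComplete (I.map (algebraMap A Y)) Y]

set_option maxHeartbeats 3200000 in
theorem flat_of_forall_Ch
    (hftY : Algebra.FiniteType A (Y ⧸ I.map (algebraMap A Y)))
    (q' : PrimeSpectrum Y) (hq' : RC (I.map (algebraMap A Y)) q')
    (H : ∀ f : A, IsUnit (Ideal.Quotient.mk q'.asIdeal (algebraMap A Y f)) →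
      ∀ q₁ : PrimeSpectrum (ChP A I f Y),
      q₁.asIdeal = q'.asIdeal.map (algebraMap Y (ChP A I f Y)) →
      RC (I.map (algebraMap A (Ch A I f))) (PrimeSpectrum.comap (chBase A I f Y) q₁) →
      ((algebraMap (ChP A I f Y) (Localization.AtPrime q₁.asIdeal)).comp
        (chMap A I f X Y)).Flat) :
    (algebraMap X (Localization.AtPrime q'.asIdeal)).Flat := by
  haveI := q'.isPrime
  obtain ⟨f, hfunit, hS⟩ := RigClosed5.main A I Y hftY q' hq'
  have hS' := hS (chBase A I f Y) (chBase_comp A I f Y)
  obtain ⟨hq₁prime, hbij⟩ := ComplLoc.main Y (I.map (algebraMap A Y)) q'.asIdeal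
    (algebraMap A Y f) hfunit
  obtain ⟨q₁, hq₁⟩ : ∃ q₁ : PrimeSpectrum (ChP A I f Y),
      q₁.asIdeal = q'.asIdeal.map (algebraMap Y (ChP A I f Y)) := ⟨⟨_, hq₁prime⟩, rfl⟩
  have hp : RC (I.map (algebraMap A (Ch A I f))) (PrimeSpectrum.comap (chBase A I f Y) q₁) := by
    refine ⟨?_, fun y hy hIy => ?_⟩
    · change ¬ _ ≤ q₁.asIdeal.comap _
      rw [hq₁]; exact hS'.2.1
    · apply PrimeSpectrum.ext
      change y.asIdeal = q₁.asIdeal.comap _
      rw [hq₁]
      refine hS'.2.2 y ?_ hIy
      have : q₁.asIdeal.comap (chBase A I f Y) ≤ y.asIdeal := hy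
      rw [hq₁] at this
      exact this
  have h2 := H f hfunit q₁ hq₁ hp
  haveI := q₁.isPrime
  have hγ := flat_algebraMap_ChP A I f Y
  have hcomap : q'.asIdeal = q₁.asIdeal.comap (algebraMap Y (ChP A I f Y)) := by
    rw [hq₁]
    apply le_antisymm Ideal.le_comap_map
    intro x hx
    rw [Ideal.mem_comap] at hx
    have h0 : Ideal.quotientMap (q'.asIdeal.map (algebraMap Y (ChP A I f Y)))
        (algebraMap Y (ChP A I f Y)) Ideal.le_comap_map (Ideal.Quotient.mk q'.asIdeal x) = 0 := by
      rw [Ideal.quotientMap_mk, Ideal.Quotient.eq_zero_iff_mem]; exact hx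
    have := hbij.1 (h0.trans (map_zero _).symm)
    exact Ideal.Quotient.eq_zero_iff_mem.mp this
  have hlr := RingHom.Flat.localRingHom hγ q₁.asIdeal q'.asIdeal hcomap
  have hX := flat_algebraMap_ChP A I f X
  have h3 := hX.comp h2
  have e : ((algebraMap (ChP A I f Y) (Localization.AtPrime q₁.asIdeal)).comp
      (chMap A I f X Y)).comp (algebraMap X (ChP A I f X)) =
      (Localization.localRingHom q'.asIdeal q₁.asIdeal (algebraMap Y (ChP A I f Y)) hcomap).comp
        ((algebraMap Y (Localization.AtPrime q'.asIdeal)).comp (algebraMap X Y)) := by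
    rw [RingHom.comp_assoc, chMap_comp_algebraMap, ← RingHom.comp_assoc, ← RingHom.comp_assoc]
    congr 1
    refine RingHom.ext fun b => ?_
    exact (Localization.localRingHom_to_map (I := q'.asIdeal) q₁.asIdeal _ hcomap b).symm
  rw [e] at h3
  letI algTT' : Algebra (Localization.AtPrime q'.asIdeal) (Localization.AtPrime q₁.asIdeal) :=
    (Localization.localRingHom q'.asIdeal q₁.asIdeal (algebraMap Y (ChP A I f Y)) hcomap).toAlgebra
  have e2 : (Localization.localRingHom q'.asIdeal q₁.asIdeal (algebraMap Y (ChP A I f Y))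
      hcomap).comp ((algebraMap Y (Localization.AtPrime q'.asIdeal)).comp (algebraMap X Y)) =
      algebraMap X (Localization.AtPrime q₁.asIdeal) := by
    refine RingHom.ext fun x => ?_
    rw [RingHom.comp_apply, RingHom.comp_apply,
      Localization.localRingHom_to_map (I := q'.asIdeal) q₁.asIdeal _ hcomap,
      IsScalarTower.algebraMap_apply X (ChP A I f Y) (Localization.AtPrime q₁.asIdeal)]
    rfl
  rw [e2] at h3
  haveI : IsScalarTower X (Localization.AtPrime q'.asIdeal) (Localization.AtPrime q₁.asIdeal) :=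
    IsScalarTower.of_algebraMap_eq fun x => by
      rw [← e2, IsScalarTower.algebraMap_apply X Y (Localization.AtPrime q'.asIdeal)]
      rfl
  haveI : Module.Flat (Localization.AtPrime q'.asIdeal) (Localization.AtPrime q₁.asIdeal) := hlr
  haveI : IsLocalHom (algebraMap (Localization.AtPrime q'.asIdeal)
      (Localization.AtPrime q₁.asIdeal)) :=
    Localization.isLocalHom_localRingHom q'.asIdeal q₁.asIdeal _ hcomap
  haveI : Module.FaithfullyFlat (Localization.AtPrime q'.asIdeal)
      (Localization.AtPrime q₁.asIdeal) := Module.FaithfullyFlat.of_flat_of_isLocalHom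
  haveI : Module.Flat X (Localization.AtPrime q₁.asIdeal) := RingHom.flat_algebraMap_iff.mp h3
  rw [RingHom.flat_algebraMap_iff]
  exact Groth.Agent.Lib.Helper5.flat_of_faithfullyFlat_of_flat (R := X)
    (S := Localization.AtPrime q'.asIdeal) (Localization.AtPrime q₁.asIdeal)

end skeleton

section congr
variable {A B X Y : Type u} [CommRing A] [CommRing B] [CommRing X] [CommRing Y]
  [Algebra A B] [Algebra A X]

theorem CTP.congr {I : Ideal A} {β β' : B →+* Y} {ξ ξ' : X →+* Y}
    {hc : β.comp (algebraMap A B) = ξ.comp (algebraMap A X)}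
    (h : CTP I β ξ hc) (hβ : β = β') (hξ : ξ = ξ')
    (hc' : β'.comp (algebraMap A B) = ξ'.comp (algebraMap A X)) : CTP I β' ξ' hc' := by
  subst hβ hξ
  exact h

end congr

section step
variable (A : Type u) [CommRing A] [IsNoetherianRing A] (I : Ideal A) [IsAdicComplete I A] (f : A)
  (B : Type u) [CommRing B] [Algebra A B] [IsNoetherianRing B]
  (X Y : Type u) [CommRing X] [CommRing Y] [Algebra A X] [Algebra A Y] [Algebra X Y]
  [IsScalarTower A X Y] [Algebra B Y] [IsScalarTower A B Y]
  [IsNoetherianRing X] [IsNoetherianRing Y] [IsAdicComplete (I.map (algebraMap A Y)) Y]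

theorem hcXY : (algebraMap B Y).comp (algebraMap A B) = (algebraMap X Y).comp (algebraMap A X) := by
  rw [← IsScalarTower.algebraMap_eq A B Y, ← IsScalarTower.algebraMap_eq A X Y]

/-- the completed localization of a completed tensor product square is one -/
theorem ctp_ChP (hctp : CTP I (algebraMap B Y) (algebraMap X Y) (hcXY A B X Y)) :
    letI algA₁B₁ : Algebra (Ch A I f) (ChP A I f B) := (chBase A I f B).toAlgebra
    letI algA₁X₁ : Algebra (Ch A I f) (ChP A I f X) := (chBase A I f X).toAlgebra
    ∀ hc₁ : (chMap A I f B Y).comp (algebraMap (Ch A I f) (ChP A I f B)) =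
      (chMap A I f X Y).comp (algebraMap (Ch A I f) (ChP A I f X)),
    CTP (I.map (algebraMap A (Ch A I f))) (chMap A I f B Y) (chMap A I f X Y) hc₁ := by
  letI algA₁B₁ : Algebra (Ch A I f) (ChP A I f B) := (chBase A I f B).toAlgebra
  letI algA₁X₁ : Algebra (Ch A I f) (ChP A I f X) := (chBase A I f X).toAlgebra
  intro hc₁
  haveI : IsScalarTower A (Ch A I f) (ChP A I f B) :=
    IsScalarTower.of_algebraMap_eq fun x =>
      (RingHom.congr_fun (chBase_comp_algebraMap A I f B) x).symm
  haveI : IsScalarTower A (Ch A I f) (ChP A I f X) :=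
    IsScalarTower.of_algebraMap_eq fun x =>
      (RingHom.congr_fun (chBase_comp_algebraMap A I f X) x).symm
  have hI : I.FG := IsNoetherian.noetherian I
  have hc' : ((algebraMap Y (ChP A I f Y)).comp (algebraMap B Y)).comp (algebraMap A B) =
      (chMap A I f X Y).comp (algebraMap A (ChP A I f X)) := by
    have h1 : algebraMap A (ChP A I f X) = (algebraMap X (ChP A I f X)).comp (algebraMap A X) := rfl
    rw [h1, ← RingHom.comp_assoc, chMap_comp_algebraMap, RingHom.comp_assoc, RingHom.comp_assoc,
      hcXY A B X Y]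
  have h1 := ctp_Ch I (algebraMap B Y) (algebraMap X Y) (hcXY A B X Y)
    (IsScalarTower.algebraMap_eq A B Y).symm (algebraMap A X f) (I.map (algebraMap A X)) rfl
    (I.map (algebraMap A Y)) rfl (algebraMap A Y f) (IsScalarTower.algebraMap_apply A X Y f)
    (chMap A I f X Y) (chMap_comp_algebraMap A I f X Y) hI hctp hc'
  have hβeq : (algebraMap Y (ChP A I f Y)).comp (algebraMap B Y) =
      (chMap A I f B Y).comp (algebraMap B (ChP A I f B)) :=
    (chMap_comp_algebraMap A I f B Y).symm
  have hc'' : ((chMap A I f B Y).comp (algebraMap B (ChP A I f B))).comp (algebraMap A B) =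
      (chMap A I f X Y).comp (algebraMap A (ChP A I f X)) := by
    rw [← hβeq]; exact hc'
  have h2 := CTP.congr h1 hβeq rfl hc''
  exact ctp_baseChange I (I.map (algebraMap A B)) rfl (algebraMap A B f) (chMap A I f B Y)
    (chMap A I f X Y) hc₁ hc'' hI h2

set_option maxHeartbeats 3200000 in
theorem step2'
    (hAB : ∀ ψf : Ch A I f →+* ChP A I f B,
      ψf.comp (algebraMap (Localization.Away f) (Ch A I f)) =
        (algebraMap (Localization.Away (algebraMap A B f)) (ChP A I f B)).comp
          (Localization.awayMap (algebraMap A B) f) →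
      ∀ qf : PrimeSpectrum (ChP A I f B),
        RC (((I.map (algebraMap A B)).map
          (algebraMap B (Localization.Away (algebraMap A B f)))).map
          (algebraMap (Localization.Away (algebraMap A B f)) (ChP A I f B))) qf →
        ((algebraMap (ChP A I f B) (Localization.AtPrime qf.asIdeal)).comp ψf).Flat)
    (hftY : Algebra.FiniteType A (Y ⧸ I.map (algebraMap A Y)))
    (hctp : CTP I (algebraMap B Y) (algebraMap X Y) (hcXY A B X Y))
    (q' : PrimeSpectrum Y) (hq' : RC (I.map (algebraMap A Y)) q')
    (hfunit : IsUnit (Ideal.Quotient.mk q'.asIdeal (algebraMap A Y f)))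
    (q₁ : PrimeSpectrum (ChP A I f Y))
    (hq₁ : q₁.asIdeal = q'.asIdeal.map (algebraMap Y (ChP A I f Y)))
    (hp : RC (I.map (algebraMap A (Ch A I f))) (PrimeSpectrum.comap (chBase A I f Y) q₁)) :
    ((algebraMap (ChP A I f Y) (Localization.AtPrime q₁.asIdeal)).comp
      (chMap A I f X Y)).Flat := by
  haveI := q₁.isPrime
  haveI := q'.isPrime
  haveI : IsNoetherianRing (Ch A I f) := isNoetherianRing_Ch A I f
  haveI : IsNoetherianRing (ChP A I f X) := isNoetherianRing_Ch X _ _
  haveI : IsNoetherianRing (ChP A I f Y) := isNoetherianRing_Ch Y _ _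
  haveI : IsNoetherianRing (ChP A I f B) := isNoetherianRing_Ch B _ _
  haveI : IsAdicComplete (I.map (algebraMap A (Ch A I f))) (Ch A I f) := isAdicComplete_Ch A I f
  letI algA₁B₁ : Algebra (Ch A I f) (ChP A I f B) := (chBase A I f B).toAlgebra
  letI algA₁X₁ : Algebra (Ch A I f) (ChP A I f X) := (chBase A I f X).toAlgebra
  letI algA₁Y₁ : Algebra (Ch A I f) (ChP A I f Y) := (chBase A I f Y).toAlgebra
  letI algX₁Y₁ : Algebra (ChP A I f X) (ChP A I f Y) := (chMap A I f X Y).toAlgebra
  haveI twB : IsScalarTower A (Ch A I f) (ChP A I f B) :=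
    IsScalarTower.of_algebraMap_eq fun x =>
      (RingHom.congr_fun (chBase_comp_algebraMap A I f B) x).symm
  haveI twY : IsScalarTower A (Ch A I f) (ChP A I f Y) :=
    IsScalarTower.of_algebraMap_eq fun x =>
      (RingHom.congr_fun (chBase_comp_algebraMap A I f Y) x).symm
  haveI twXY : IsScalarTower (Ch A I f) (ChP A I f X) (ChP A I f Y) :=
    IsScalarTower.of_algebraMap_eq fun x =>
      (RingHom.congr_fun (chMap_comp_chBase A I f X Y) x).symm
  have hβ : (chMap A I f B Y).comp (algebraMap (Ch A I f) (ChP A I f B)) =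
      algebraMap (Ch A I f) (ChP A I f Y) := chMap_comp_chBase A I f B Y
  -- ideals of definition
  have hKB : (I.map (algebraMap A (Ch A I f))).map (algebraMap (Ch A I f) (ChP A I f B)) =
      (I.map (algebraMap A B)).map (algebraMap B (ChP A I f B)) := by
    rw [Ideal.map_map (algebraMap A (Ch A I f)) (algebraMap (Ch A I f) (ChP A I f B)),
      ← IsScalarTower.algebraMap_eq A (Ch A I f) (ChP A I f B),
      Ideal.map_map (algebraMap A B) (algebraMap B (ChP A I f B))]
    rfl
  have hKY : (I.map (algebraMap A (Ch A I f))).map (algebraMap (Ch A I f) (ChP A I f Y)) =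
      (I.map (algebraMap A Y)).map (algebraMap Y (ChP A I f Y)) := by
    rw [Ideal.map_map (algebraMap A (Ch A I f)) (algebraMap (Ch A I f) (ChP A I f Y)),
      ← IsScalarTower.algebraMap_eq A (Ch A I f) (ChP A I f Y),
      Ideal.map_map (algebraMap A Y) (algebraMap Y (ChP A I f Y))]
    rfl
  haveI cB : IsAdicComplete ((I.map (algebraMap A (Ch A I f))).map
      (algebraMap (Ch A I f) (ChP A I f B))) (ChP A I f B) := by
    rw [hKB]; exact isAdicComplete_Ch B _ _
  haveI cY : IsAdicComplete ((I.map (algebraMap A (Ch A I f))).map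
      (algebraMap (Ch A I f) (ChP A I f Y))) (ChP A I f Y) := by
    rw [hKY]; exact isAdicComplete_Ch Y _ _
  have hft₁ : Algebra.FiniteType (Ch A I f) (ChP A I f Y ⧸
      (I.map (algebraMap A (Ch A I f))).map (algebraMap (Ch A I f) (ChP A I f Y))) := by
    rw [hKY]
    haveI := finiteType_quotient_Ch Y (I.map (algebraMap A Y)) (algebraMap A Y f) A hftY
    exact Algebra.FiniteType.of_restrictScalars_finiteType A (Ch A I f) _
  -- `q₁` is rig-closed
  obtain ⟨hq₁prime, hbij⟩ := ComplLoc.main Y (I.map (algebraMap A Y)) q'.asIdeal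
    (algebraMap A Y f) hfunit
  obtain ⟨hdim, hJq⟩ := RigClosed.one_to_five Y (I.map (algebraMap A Y)) q' hq'
  have hq₁rc : RC ((I.map (algebraMap A (Ch A I f))).map
      (algebraMap (Ch A I f) (ChP A I f Y))) q₁ := by
    apply RigClosed.five_to_one (ChP A I f Y)
    constructor
    · rw [← hdim, hq₁]
      exact (ringKrullDim_eq_of_ringEquiv (RingEquiv.ofBijective _ hbij)).symm
    · intro hle
      apply hp.1
      rw [Ideal.map_le_iff_le_comap] at hle
      exact hle
  have hfinY : Module.Finite (Ch A I f) (ChP A I f Y ⧸ q₁.asIdeal) :=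
    RigClosed2.finite_quotient_of_forall_maximal (Ch A I f) (I.map (algebraMap A (Ch A I f)))
      (ChP A I f Y) q₁ hq₁rc (fun m hm hqm =>
        RigClosed2.finite_quotient_of_rigClosed_comap (Ch A I f) (I.map (algebraMap A (Ch A I f)))
          (ChP A I f Y) q₁ hft₁ hp m hm hqm)
  -- finiteness on the `X`-side
  obtain ⟨P, hPdef⟩ : ∃ P : Ideal (ChP A I f X),
      P = q₁.asIdeal.comap (algebraMap (ChP A I f X) (ChP A I f Y)) := ⟨_, rfl⟩
  haveI : IsNoetherian (Ch A I f) (ChP A I f Y ⧸ q₁.asIdeal) :=
    isNoetherian_of_isNoetherianRing_of_finite _ _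
  haveI hfinX : Module.Finite (Ch A I f) (ChP A I f X ⧸ P) := by
    rw [hPdef]
    let g : (ChP A I f X ⧸ q₁.asIdeal.comap (algebraMap (ChP A I f X) (ChP A I f Y))) →ₐ[Ch A I f]
        (ChP A I f Y ⧸ q₁.asIdeal) :=
      Ideal.quotientMapₐ q₁.asIdeal
        (IsScalarTower.toAlgHom (Ch A I f) (ChP A I f X) (ChP A I f Y)) le_rfl
    have hg : Function.Injective g := by
      have : Function.Injective (Ideal.quotientMap q₁.asIdeal
          (algebraMap (ChP A I f X) (ChP A I f Y)) le_rfl) := Ideal.quotientMap_injective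
      exact this
    exact Module.Finite.of_injective g.toLinearMap hg
  have hfin : ∀ n, Module.Finite (Ch A I f) (ChP A I f X ⧸ P ^ n) :=
    fun n => finite_quotient_pow P n
  -- the completed tensor product structure
  have hc₁ : (chMap A I f B Y).comp (algebraMap (Ch A I f) (ChP A I f B)) =
      (chMap A I f X Y).comp (algebraMap (Ch A I f) (ChP A I f X)) := by
    rw [hβ]; exact (chMap_comp_chBase A I f X Y).symm
  have hctp₁ := ctp_ChP A I f B X Y hctp hc₁
  have hdense : ∀ k, ∀ s : ChP A I f Y, ∃ t : (ChP A I f B) ⊗[Ch A I f] (ChP A I f X),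
      s - mu (chMap A I f B Y) hβ t ∈
        ((I.map (algebraMap A (Ch A I f))).map (algebraMap (Ch A I f) (ChP A I f Y))) ^ k := by
    intro k s
    obtain ⟨t, ht⟩ := (hctp₁ k).1 s
    refine ⟨t, ?_⟩
    rw [hβ] at ht
    exact ht
  have hclosed : ∀ k, ∀ t : (ChP A I f B) ⊗[Ch A I f] (ChP A I f X),
      mu (chMap A I f B Y) hβ t ∈
        ((I.map (algebraMap A (Ch A I f))).map (algebraMap (Ch A I f) (ChP A I f Y))) ^ k →
      t ∈ ((I.map (algebraMap A (Ch A I f))).map
        (algebraMap (Ch A I f) ((ChP A I f B) ⊗[Ch A I f] (ChP A I f X)))) ^ k := by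
    intro k t ht
    apply hctp₁.closed k t
    rw [hβ]
    exact ht
  -- flatness of `B₁` at the contraction
  have hr : ¬ (((I.map (algebraMap A B)).map
      (algebraMap B (Localization.Away (algebraMap A B f)))).map
      (algebraMap (Localization.Away (algebraMap A B f)) (ChP A I f B))) ≤
      (q₁.asIdeal.comap (chMap A I f B Y)).comap (RingHom.id (ChP A I f B)) := by
    intro hK
    apply hp.1
    rw [Ideal.map_le_iff_le_comap]
    intro a ha
    change chBase A I f Y (algebraMap A (Ch A I f) a) ∈ q₁.asIdeal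
    rw [← chMap_comp_chBase A I f B Y]
    have h3 : chBase A I f B (algebraMap A (Ch A I f) a) = algebraMap A (ChP A I f B) a :=
      RingHom.congr_fun (chBase_comp_algebraMap A I f B) a
    rw [RingHom.comp_apply, h3]
    apply hK
    exact Ideal.mem_map_of_mem _ (Ideal.mem_map_of_mem _ (Ideal.mem_map_of_mem _ ha))
  have hflatB0 := flat_comp_of_rigFlat _ (chBase A I f B)
    (hAB (chBase A I f B) (chBase_comp A I f B)) (RingHom.id (ChP A I f B)) (RingHom.Flat.id _)
    (q₁.asIdeal.comap (chMap A I f B Y)) hr
  have hflatB : Module.Flat (Ch A I f)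
      (Localization.AtPrime (q₁.asIdeal.comap (chMap A I f B Y))) := by
    rw [RingHom.id_comp] at hflatB0
    exact RingHom.flat_algebraMap_iff.mp hflatB0
  have hFT := flat_localization_of_ctp (chMap A I f B Y) hβ (I.map (algebraMap A (Ch A I f)))
    hdense hclosed P hfin q₁.asIdeal (by rw [hPdef]; exact Ideal.map_comap_le) hflatB
  have hgoal : (algebraMap (ChP A I f Y) (Localization.AtPrime q₁.asIdeal)).comp
      (chMap A I f X Y) = algebraMap (ChP A I f X) (Localization.AtPrime q₁.asIdeal) :=
    (IsScalarTower.algebraMap_eq (ChP A I f X) (ChP A I f Y)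
      (Localization.AtPrime q₁.asIdeal)).symm
  rw [hgoal, RingHom.flat_algebraMap_iff]
  exact hFT

end step

section Dsetup
variable (A : Type u) [CommRing A] (I : Ideal A)
  (B C : Type u) [CommRing B] [CommRing C] [Algebra A B] [Algebra A C]

theorem map_KC_eq : (I.map (algebraMap A C)).map (algebraMap C (DD A I B C)) =
    (KE A I B C).map (algebraMap (C ⊗[A] B) (DD A I B C)) := by
  change _ = ((I.map (algebraMap A C)).map (algebraMap C (C ⊗[A] B))).map
    (algebraMap (C ⊗[A] B) (DD A I B C))
  rw [Ideal.map_map (algebraMap C (C ⊗[A] B)) (algebraMap (C ⊗[A] B) (DD A I B C))]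
  rfl

theorem map_KC_eq' : (I.map (algebraMap A C)).map (algebraMap C (DD A I B C)) =
    I.map (algebraMap A (DD A I B C)) := by
  rw [Ideal.map_map]
  rfl

theorem isAdicComplete_DD (hI : I.FG) :
    IsAdicComplete ((I.map (algebraMap A C)).map (algebraMap C (DD A I B C))) (DD A I B C) := by
  rw [map_KC_eq]
  exact AdicCompletion.isAdicComplete_self _ ((hI.map _).map _)

/-- `B → D` as an `A`-algebra map -/
noncomputable def betaDₐ : B →ₐ[A] DD A I B C :=
  { betaD A I B C with
    commutes' := fun a => RingHom.congr_fun (betaD_comp' A I B C) a }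

theorem finiteType_quotient_DD (hI : I.FG)
    (hft : Algebra.FiniteType A (B ⧸ I.map (algebraMap A B))) :
    Algebra.FiniteType C
      (DD A I B C ⧸ (I.map (algebraMap A C)).map (algebraMap C (DD A I B C))) := by
  have hkill : ∀ b : B, b ∈ I.map (algebraMap A B) →
      ((Ideal.Quotient.mkₐ A ((I.map (algebraMap A C)).map (algebraMap C (DD A I B C)))).comp
        (betaDₐ A I B C)) b = 0 := by
    intro b hb
    change Ideal.Quotient.mk _ (betaD A I B C b) = 0
    rw [Ideal.Quotient.eq_zero_iff_mem, map_KC_eq']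
    have : I.map (algebraMap A B) ≤ (I.map (algebraMap A (DD A I B C))).comap (betaD A I B C) := by
      rw [Ideal.map_le_iff_le_comap]
      intro a ha
      rw [Ideal.mem_comap, Ideal.mem_comap]
      have := RingHom.congr_fun (betaD_comp' A I B C) a
      rw [RingHom.comp_apply] at this
      rw [this]
      exact Ideal.mem_map_of_mem _ ha
    exact this hb
  let g : (B ⧸ I.map (algebraMap A B)) →ₐ[A]
      (DD A I B C ⧸ (I.map (algebraMap A C)).map (algebraMap C (DD A I B C))) :=
    Ideal.Quotient.liftₐ (I.map (algebraMap A B)) _ hkill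
  let θ : C ⊗[A] (B ⧸ I.map (algebraMap A B)) →ₐ[C]
      (DD A I B C ⧸ (I.map (algebraMap A C)).map (algebraMap C (DD A I B C))) :=
    Algebra.TensorProduct.productLeftAlgHom (Algebra.ofId C _) g
  haveI : Algebra.FiniteType C (C ⊗[A] (B ⧸ I.map (algebraMap A B))) := inferInstance
  refine Algebra.FiniteType.of_surjective θ ?_
  have key : ∀ e : C ⊗[A] B, ∃ a, θ a = Ideal.Quotient.mk
      ((I.map (algebraMap A C)).map (algebraMap C (DD A I B C)))
      (algebraMap (C ⊗[A] B) (DD A I B C) e) := by
    intro e
    induction e using TensorProduct.induction_on with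
    | zero => exact ⟨0, by simp⟩
    | tmul c b =>
      refine ⟨c ⊗ₜ (Ideal.Quotient.mk _ b), ?_⟩
      change (Algebra.ofId C _ c) * g (Ideal.Quotient.mk _ b) = _
      have h1 : g (Ideal.Quotient.mk _ b) = Ideal.Quotient.mk _ (betaD A I B C b) := rfl
      have h2 : Algebra.ofId C (DD A I B C ⧸ (I.map (algebraMap A C)).map
          (algebraMap C (DD A I B C))) c = Ideal.Quotient.mk _ (algebraMap C (DD A I B C) c) := rfl
      rw [h1, h2, ← map_mul]
      congr 1
      change algebraMap (C ⊗[A] B) (DD A I B C) (c ⊗ₜ[A] (1 : B)) *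
        algebraMap (C ⊗[A] B) (DD A I B C) ((1 : C) ⊗ₜ[A] b) = _
      rw [← map_mul, Algebra.TensorProduct.tmul_mul_tmul, mul_one, one_mul]
    | add x y hx hy =>
      obtain ⟨x', hx'⟩ := hx
      obtain ⟨y', hy'⟩ := hy
      exact ⟨x' + y', by rw [map_add, hx', hy', map_add, map_add]⟩
  intro z
  obtain ⟨d, rfl⟩ := Ideal.Quotient.mk_surjective z
  obtain ⟨e, he⟩ := exists_sub_mem_pow (KE A I B C) ((hI.map _).map _) 1 d
  rw [pow_one, ← map_KC_eq] at he
  have hd : Ideal.Quotient.mk ((I.map (algebraMap A C)).map (algebraMap C (DD A I B C))) d =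
      Ideal.Quotient.mk _ (algebraMap (C ⊗[A] B) (DD A I B C) e) := by
    rw [Ideal.Quotient.eq]; exact he
  rw [hd]
  exact key e

end Dsetup

section main
variable (A : Type u) [CommRing A] [IsNoetherianRing A] (I : Ideal A) [IsAdicComplete I A]
  (B : Type u) [CommRing B] [Algebra A B] [IsNoetherianRing B]
  (C : Type u) [CommRing C] [Algebra A C] [IsNoetherianRing C]

/-- `C_{h}` -/
abbrev XX (h : C) : Type u := Ch C (I.map (algebraMap A C)) h

/-- `D_{h}` -/
abbrev YY (h : C) : Type u :=
  AdicCompletion (((I.map (algebraMap A C)).map (algebraMap C (DD A I B C))).map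
    (algebraMap (DD A I B C) (Localization.Away (algebraMap C (DD A I B C) h))))
    (Localization.Away (algebraMap C (DD A I B C) h))

set_option maxHeartbeats 3200000 in
theorem main (hft : Algebra.FiniteType A (B ⧸ I.map (algebraMap A B)))
    (hAB : ∀ f : A, ∀ ψf : Ch A I f →+* Ch B (I.map (algebraMap A B)) (algebraMap A B f),
      ψf.comp (algebraMap (Localization.Away f) (Ch A I f)) =
        (algebraMap (Localization.Away (algebraMap A B f))
          (Ch B (I.map (algebraMap A B)) (algebraMap A B f))).comp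
          (Localization.awayMap (algebraMap A B) f) →
      ∀ qf : PrimeSpectrum (Ch B (I.map (algebraMap A B)) (algebraMap A B f)),
        RC (((I.map (algebraMap A B)).map
          (algebraMap B (Localization.Away (algebraMap A B f)))).map
          (algebraMap (Localization.Away (algebraMap A B f))
            (Ch B (I.map (algebraMap A B)) (algebraMap A B f)))) qf →
        ((algebraMap (Ch B (I.map (algebraMap A B)) (algebraMap A B f))
          (Localization.AtPrime qf.asIdeal)).comp ψf).Flat)
    (hftC : Algebra.FiniteType A (C ⧸ I.map (algebraMap A C)))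
    (h : C) (ψh : XX A I C h →+* YY A I B C h)
    (hψh : ψh.comp (algebraMap (Localization.Away h) (XX A I C h)) =
      (algebraMap (Localization.Away (algebraMap C (DD A I B C) h)) (YY A I B C h)).comp
        (Localization.awayMap (algebraMap C (DD A I B C)) h))
    (qh : PrimeSpectrum (YY A I B C h))
    (hqh : RC ((((I.map (algebraMap A C)).map (algebraMap C (DD A I B C))).map
        (algebraMap (DD A I B C) (Localization.Away (algebraMap C (DD A I B C) h)))).map
        (algebraMap (Localization.Away (algebraMap C (DD A I B C) h)) (YY A I B C h))) qh) :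
    ((algebraMap (YY A I B C h) (Localization.AtPrime qh.asIdeal)).comp ψh).Flat := by
  have hI : I.FG := IsNoetherian.noetherian I
  haveI cD := isAdicComplete_DD A I B C hI
  have hftD := finiteType_quotient_DD A I B C hI hft
  haveI nD : IsNoetherianRing (DD A I B C) :=
    Groth.Agent.Lib.Helper19.isNoetherianRing_of_isAdicComplete_of_finiteType C
      (I.map (algebraMap A C)) (DD A I B C) hftD
  haveI := qh.isPrime
  haveI nX : IsNoetherianRing (XX A I C h) := isNoetherianRing_Ch C _ _
  haveI nY : IsNoetherianRing (YY A I B C h) := isNoetherianRing_Ch (DD A I B C) _ _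
  haveI twACD : IsScalarTower A C (DD A I B C) := IsScalarTower.of_algebraMap_eq fun a => rfl
  letI algXY : Algebra (XX A I C h) (YY A I B C h) := ψh.toAlgebra
  have hcompC : ψh.comp (algebraMap C (XX A I C h)) =
      (algebraMap (DD A I B C) (YY A I B C h)).comp (algebraMap C (DD A I B C)) := by
    have h1 : algebraMap C (XX A I C h) =
        (algebraMap (Localization.Away h) (XX A I C h)).comp
          (algebraMap C (Localization.Away h)) := rfl
    have h2 : algebraMap (DD A I B C) (YY A I B C h) =
        (algebraMap (Localization.Away (algebraMap C (DD A I B C) h)) (YY A I B C h)).comp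
          (algebraMap (DD A I B C) (Localization.Away (algebraMap C (DD A I B C) h))) := rfl
    have h3 : (Localization.awayMap (algebraMap C (DD A I B C)) h).comp
        (algebraMap C (Localization.Away h)) =
        (algebraMap (DD A I B C) (Localization.Away (algebraMap C (DD A I B C) h))).comp
          (algebraMap C (DD A I B C)) := IsLocalization.map_comp _
    rw [h1, ← RingHom.comp_assoc, hψh, RingHom.comp_assoc, h3, h2, RingHom.comp_assoc]
  have hcompXY : ψh.comp (algebraMap A (XX A I C h)) = algebraMap A (YY A I B C h) := by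
    have h1 : algebraMap A (XX A I C h) =
        (algebraMap C (XX A I C h)).comp (algebraMap A C) := rfl
    have h2 : algebraMap A (YY A I B C h) =
        ((algebraMap (DD A I B C) (YY A I B C h)).comp (algebraMap C (DD A I B C))).comp
          (algebraMap A C) := rfl
    rw [h1, ← RingHom.comp_assoc, hcompC, h2]
  haveI towerAXY : IsScalarTower A (XX A I C h) (YY A I B C h) :=
    IsScalarTower.of_algebraMap_eq fun x => (RingHom.congr_fun hcompXY x).symm
  letI algBD : Algebra B (DD A I B C) := (betaD A I B C).toAlgebra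
  haveI towerABD : IsScalarTower A B (DD A I B C) :=
    IsScalarTower.of_algebraMap_eq fun a => (RingHom.congr_fun (betaD_comp' A I B C) a).symm
  have hBY : (algebraMap (DD A I B C) (YY A I B C h)).comp (betaD A I B C) =
      algebraMap B (YY A I B C h) := rfl
  haveI towerABY : IsScalarTower A B (YY A I B C h) :=
    IsScalarTower.of_algebraMap_eq fun a => by
      rw [← hBY, RingHom.comp_apply]
      have := RingHom.congr_fun (betaD_comp' A I B C) a
      rw [RingHom.comp_apply] at this
      rw [this]
      rfl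
  -- ideals of definition of `Y`
  have hKY1 := map_algebraMap_Ch (DD A I B C)
    ((I.map (algebraMap A C)).map (algebraMap C (DD A I B C))) (algebraMap C (DD A I B C) h)
  have hKY2 : ((I.map (algebraMap A C)).map (algebraMap C (DD A I B C))).map
      (algebraMap (DD A I B C) (YY A I B C h)) = I.map (algebraMap A (YY A I B C h)) := by
    rw [Ideal.map_map (algebraMap C (DD A I B C)) (algebraMap (DD A I B C) (YY A I B C h)),
      Ideal.map_map (algebraMap A C)
        ((algebraMap (DD A I B C) (YY A I B C h)).comp (algebraMap C (DD A I B C)))]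
    rfl
  haveI cY : IsAdicComplete (I.map (algebraMap A (YY A I B C h))) (YY A I B C h) := by
    rw [← hKY2]; exact isAdicComplete_Ch (DD A I B C) _ _
  have hqhA : RC (I.map (algebraMap A (YY A I B C h))) qh := by
    rw [← hKY2, hKY1]; exact hqh
  have hftY : Algebra.FiniteType A (YY A I B C h ⧸ I.map (algebraMap A (YY A I B C h))) := by
    have h2 := finiteType_quotient_trans A I C (DD A I B C) hftC hftD
    have h3 := finiteType_quotient_Ch (DD A I B C)
      ((I.map (algebraMap A C)).map (algebraMap C (DD A I B C))) (algebraMap C (DD A I B C) h) A h2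
    rw [hKY2] at h3
    exact h3
  -- the completed tensor product structure on `(X, Y)`
  have h0 := ctp_base A I B C hI
  have hc' : ((algebraMap (DD A I B C) (YY A I B C h)).comp (betaD A I B C)).comp
      (algebraMap A B) = ψh.comp (algebraMap A (XX A I C h)) := by
    rw [hcompXY, hBY, ← IsScalarTower.algebraMap_eq A B (YY A I B C h)]
  have h1 := ctp_Ch I (betaD A I B C) (algebraMap C (DD A I B C)) (betaD_comp A I B C)
    (betaD_comp' A I B C) h (I.map (algebraMap A C)) rfl
    ((I.map (algebraMap A C)).map (algebraMap C (DD A I B C))) (map_KC_eq' A I B C)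
    (algebraMap C (DD A I B C) h) rfl ψh hcompC hI h0 hc'
  have hctpXY : CTP I (algebraMap B (YY A I B C h))
      (algebraMap (XX A I C h) (YY A I B C h)) (hcXY A B (XX A I C h) (YY A I B C h)) :=
    CTP.congr h1 hBY rfl _
  have hmain := flat_of_forall_Ch A I (XX A I C h) (YY A I B C h) hftY qh hqhA
    (fun f hfunit q₁ hq₁ hp => step2' A I f B (XX A I C h) (YY A I B C h) (hAB f) hftY hctpXY
      qh hqhA hfunit q₁ hq₁ hp)
  have hgoal : (algebraMap (YY A I B C h) (Localization.AtPrime qh.asIdeal)).comp ψh =
      algebraMap (XX A I C h) (Localization.AtPrime qh.asIdeal) :=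
    (IsScalarTower.algebraMap_eq (XX A I C h) (YY A I B C h)
      (Localization.AtPrime qh.asIdeal)).symm
  rw [hgoal]
  exact hmain

end main

end Groth.Agent.Lib.Helper14.CTPRig
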