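import Mathlib
import Groth.Prelude
import Groth.Agent.Lib.Helper28IAdicLocal
import Groth.Agent.Lib.Helper28GeomRed1
import Groth.Agent.Lib.Helper19ComplDim
import Groth.Agent.Lib.Helper7QE
import Groth.Agent.S2670
import Groth.Agent.S2646

/-!
# The completion of a unibranch local domain with geometrically normal formal fibres (helper7)
-/

set_option autoImplicit false
set_option linter.style.haveILetI false
universe u

namespace Groth.Agent.Lib.Helper7.CplDom

open Groth CAlg IsLocalRing TensorProduct

theorem isNormalRing_of_isIntegrallyClosed (R : Type u) [CommRing R] [IsDomain R]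
    [IsIntegrallyClosed R] : EGA4.IsNormalRing R := by
  intro p _
  have hM : p.primeCompl ≤ nonZeroDivisors R :=
    le_nonZeroDivisors_of_noZeroDivisors (fun h => h (zero_mem p))
  haveI : IsDomain (Localization.AtPrime p) := IsLocalization.isDomain_localization hM
  exact ⟨inferInstance, isIntegrallyClosed_of_isLocalization (Localization.AtPrime p) p.primeCompl hM⟩

theorem isDomain_of_isNormalRing_of_isLocalRing (T : Type u) [CommRing T] [IsLocalRing T]
    (h : EGA4.IsNormalRing T) : IsDomain T := by
  haveI := (h (maximalIdeal T)).1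
  let e : T ≃ₐ[T] (Localization.AtPrime (maximalIdeal T)) :=
    IsLocalization.atUnits T (maximalIdeal T).primeCompl (fun x ↦ by simpa using! fun a ↦ a)
  exact e.toRingEquiv.toMulEquiv.isDomain _

variable (A : Type u) [CommRing A] [IsNoetherianRing A] [IsLocalRing A]

theorem isNormalHom_cpl (hA : EGA4.HasGeomNormalFormalFibres A) :
    EGA4.IsNormalHom A (EGA4.Cpl A) :=
  ⟨inferInstance, hA⟩

/-- If `A'` is a local `A`-algebra, integral over `A`, then `Â ⊗_A A'` is local. -/
theorem isLocalRing_cpl_tensor (A' : Type u) [CommRing A'] [IsLocalRing A'] [Algebra A A']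
    [Algebra.IsIntegral A A'] [Nontrivial (EGA4.Cpl A ⊗[A] A')] :
    IsLocalRing (EGA4.Cpl A ⊗[A] A') := by
  -- every element is congruent to an element of `A'` modulo `m' T`
  have hsurj : ∀ t : EGA4.Cpl A ⊗[A] A', ∃ r' : A',
      t - (1 : EGA4.Cpl A) ⊗ₜ[A] r' ∈
        (maximalIdeal A').map (Algebra.TensorProduct.includeRight :
          A' →ₐ[A] EGA4.Cpl A ⊗[A] A').toRingHom := by
    intro t
    induction t using TensorProduct.induction_on with
    | zero => exact ⟨0, by simp⟩
    | tmul c s =>
      obtain ⟨a, ha⟩ := Groth.Agent.Lib.Helper28.exists_sub_mem_map_adicCompletion (maximalIdeal A) c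
      refine ⟨a • s, ?_⟩
      have e2 : c ⊗ₜ[A] s - (1 : EGA4.Cpl A) ⊗ₜ[A] (a • s) =
          ((c - algebraMap A _ a) ⊗ₜ[A] (1 : A')) * ((1 : EGA4.Cpl A) ⊗ₜ[A] s) := by
        rw [Algebra.TensorProduct.tmul_mul_tmul, mul_one, one_mul, TensorProduct.sub_tmul,
          ← TensorProduct.smul_tmul, Algebra.algebraMap_eq_smul_one]
      rw [e2]
      apply Ideal.mul_mem_right
      -- elements of `m Â ⊗ 1` lie in `m' T`
      have hle : (maximalIdeal A).map (algebraMap A (EGA4.Cpl A)) ≤
          ((maximalIdeal A').map (Algebra.TensorProduct.includeRight :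
            A' →ₐ[A] EGA4.Cpl A ⊗[A] A').toRingHom).comap
          (Algebra.TensorProduct.includeLeft : EGA4.Cpl A →ₐ[A] EGA4.Cpl A ⊗[A] A').toRingHom := by
        rw [Ideal.map_le_iff_le_comap]
        intro x hx
        rw [Ideal.mem_comap, Ideal.mem_comap]
        have h1 : (Algebra.TensorProduct.includeLeft :
            EGA4.Cpl A →ₐ[A] EGA4.Cpl A ⊗[A] A').toRingHom (algebraMap A (EGA4.Cpl A) x) =
            (Algebra.TensorProduct.includeRight : A' →ₐ[A] EGA4.Cpl A ⊗[A] A').toRingHom
              (algebraMap A A' x) := by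
          change (algebraMap A (EGA4.Cpl A) x) ⊗ₜ[A] (1 : A') =
            (1 : EGA4.Cpl A) ⊗ₜ[A] (algebraMap A A' x)
          rw [Algebra.algebraMap_eq_smul_one, Algebra.algebraMap_eq_smul_one,
            TensorProduct.smul_tmul]
        rw [h1]
        apply Ideal.mem_map_of_mem
        have hcm : (maximalIdeal A').comap (algebraMap A A') = maximalIdeal A :=
          IsLocalRing.eq_maximalIdeal
            (Ideal.isMaximal_comap_of_isIntegral_of_isMaximal (R := A) (maximalIdeal A'))
        rw [← hcm] at hx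
        exact hx
      exact hle ha
    | add x y hx hy =>
      obtain ⟨r1, h1⟩ := hx
      obtain ⟨r2, h2⟩ := hy
      refine ⟨r1 + r2, ?_⟩
      have : x + y - (1 : EGA4.Cpl A) ⊗ₜ[A] (r1 + r2) =
          (x - (1 : EGA4.Cpl A) ⊗ₜ[A] r1) + (y - (1 : EGA4.Cpl A) ⊗ₜ[A] r2) := by
        rw [TensorProduct.tmul_add]; ring
      rw [this]
      exact Ideal.add_mem _ h1 h2
  have hcm : (maximalIdeal A').comap (algebraMap A A') = maximalIdeal A :=
    IsLocalRing.eq_maximalIdeal
      (Ideal.isMaximal_comap_of_isIntegral_of_isMaximal (R := A) (maximalIdeal A'))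
  -- the contraction of a maximal ideal of `T` to `A'` is the maximal ideal
  have hcomap : ∀ M : Ideal (EGA4.Cpl A ⊗[A] A'), M.IsMaximal →
      M.comap (Algebra.TensorProduct.includeRight :
        A' →ₐ[A] EGA4.Cpl A ⊗[A] A').toRingHom = maximalIdeal A' := by
    intro M hM
    haveI := hM
    set n' := M.comap (Algebra.TensorProduct.includeRight :
        A' →ₐ[A] EGA4.Cpl A ⊗[A] A').toRingHom with hn'
    haveI : n'.IsPrime := Ideal.comap_isPrime _ _
    have hMC : (M.comap (algebraMap (EGA4.Cpl A) (EGA4.Cpl A ⊗[A] A'))).IsMaximal :=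
      Ideal.isMaximal_comap_of_isIntegral_of_isMaximal (R := EGA4.Cpl A) M
    have hMC' := IsLocalRing.eq_maximalIdeal hMC
    have hle : maximalIdeal A ≤ n'.comap (algebraMap A A') := by
      intro x hx
      rw [Ideal.mem_comap, hn', Ideal.mem_comap]
      have h1 : (Algebra.TensorProduct.includeRight : A' →ₐ[A] EGA4.Cpl A ⊗[A] A').toRingHom
          (algebraMap A A' x) =
          algebraMap (EGA4.Cpl A) (EGA4.Cpl A ⊗[A] A') (algebraMap A (EGA4.Cpl A) x) := by
        change (1 : EGA4.Cpl A) ⊗ₜ[A] (algebraMap A A' x) =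
          (algebraMap A (EGA4.Cpl A) x) ⊗ₜ[A] (1 : A')
        rw [Algebra.algebraMap_eq_smul_one, Algebra.algebraMap_eq_smul_one,
          TensorProduct.smul_tmul]
      rw [h1, ← Ideal.mem_comap, hMC', AdicCompletion.maximalIdeal_eq_map]
      exact Ideal.mem_map_of_mem _ hx
    have heq : n'.comap (algebraMap A A') = maximalIdeal A :=
      ((IsLocalRing.maximalIdeal.isMaximal A).eq_of_le (Ideal.IsPrime.ne_top inferInstance)
        hle).symm
    have hmax : n'.IsMaximal := by
      apply Ideal.isMaximal_of_isIntegral_of_isMaximal_comap (R := A) n'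
      rw [heq]; infer_instance
    exact IsLocalRing.eq_maximalIdeal hmax
  have hsub : ∀ M1 M2 : Ideal (EGA4.Cpl A ⊗[A] A'), M1.IsMaximal → M2.IsMaximal → M1 ≤ M2 := by
    intro M1 M2 h1 h2 t ht
    obtain ⟨r', hr'⟩ := hsurj t
    have hm1 : (maximalIdeal A').map (Algebra.TensorProduct.includeRight :
        A' →ₐ[A] EGA4.Cpl A ⊗[A] A').toRingHom ≤ M1 := by
      rw [Ideal.map_le_iff_le_comap, hcomap M1 h1]
    have hm2 : (maximalIdeal A').map (Algebra.TensorProduct.includeRight :
        A' →ₐ[A] EGA4.Cpl A ⊗[A] A').toRingHom ≤ M2 := by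
      rw [Ideal.map_le_iff_le_comap, hcomap M2 h2]
    have h3 : (1 : EGA4.Cpl A) ⊗ₜ[A] r' ∈ M1 := by
      have := M1.sub_mem ht (hm1 hr')
      rwa [sub_sub_cancel] at this
    have h4 : r' ∈ maximalIdeal A' := by
      rw [← hcomap M1 h1]
      exact h3
    have h5 : (1 : EGA4.Cpl A) ⊗ₜ[A] r' ∈ M2 := hm2 (Ideal.mem_map_of_mem _ h4)
    have := M2.add_mem (hm2 hr') h5
    rwa [sub_add_cancel] at this
  obtain ⟨M0, hM0⟩ := Ideal.exists_maximal (EGA4.Cpl A ⊗[A] A')
  exact IsLocalRing.of_unique_max_ideal
    ⟨M0, hM0, fun M hM => le_antisymm (hsub M M0 hM hM0) (hsub M0 M hM0 hM)⟩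

/-- **Core**: a Noetherian local domain with geometrically normal formal fibres whose normalization
is local has an integral completion. -/
theorem isDomain_cpl_of_isLocalRing_integralClosure [IsDomain A]
    (hA : EGA4.HasGeomNormalFormalFibres A)
    [IsLocalRing (integralClosure A (FractionRing A))] : IsDomain (EGA4.Cpl A) := by
  haveI hfin : Module.Finite A (integralClosure A (FractionRing A)) :=
    (Groth.Agent.S2646.result A hA).2
  haveI : IsIntegrallyClosed (integralClosure A (FractionRing A)) :=
    integralClosure.isIntegrallyClosedOfFiniteExtension (FractionRing A)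
  haveI : IsNoetherianRing (EGA4.Cpl A) :=
    Groth.Agent.Lib.Helper19.isNoetherianRing_adicCompletion _
  have hT : EGA4.IsNormalRing (EGA4.Cpl A ⊗[A] integralClosure A (FractionRing A)) :=
    Groth.Agent.S2670.result A (EGA4.Cpl A) (isNormalHom_cpl A hA) _
      (isNormalRing_of_isIntegrallyClosed _)
  have hinjA : Function.Injective (algebraMap A (integralClosure A (FractionRing A))) := by
    intro x y hxy
    apply IsFractionRing.injective A (FractionRing A)
    exact congrArg Subtype.val hxy
  have hinj : Function.Injective (Algebra.TensorProduct.includeLeft :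
      EGA4.Cpl A →ₐ[A] EGA4.Cpl A ⊗[A] integralClosure A (FractionRing A)) :=
    Algebra.TensorProduct.includeLeft_injective hinjA
  haveI : Nontrivial (EGA4.Cpl A ⊗[A] integralClosure A (FractionRing A)) :=
    hinj.nontrivial
  haveI : IsLocalRing (EGA4.Cpl A ⊗[A] integralClosure A (FractionRing A)) :=
    isLocalRing_cpl_tensor A _
  haveI : IsDomain (EGA4.Cpl A ⊗[A] integralClosure A (FractionRing A)) :=
    isDomain_of_isNormalRing_of_isLocalRing _ hT
  exact Function.Injective.isDomain (Algebra.TensorProduct.includeLeft :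
      EGA4.Cpl A →ₐ[A] EGA4.Cpl A ⊗[A] integralClosure A (FractionRing A)) hinj

/-- A Noetherian henselian local domain with geometrically normal formal fibres has an integral
completion. -/
theorem isDomain_cpl_of_henselian (A : Type u) [CommRing A] [IsNoetherianRing A]
    [HenselianLocalRing A] [IsDomain A] (hA : EGA4.HasGeomNormalFormalFibres A) :
    IsDomain (EGA4.Cpl A) := by
  haveI hfin : Module.Finite A (integralClosure A (FractionRing A)) :=
    (Groth.Agent.S2646.result A hA).2
  haveI : IsLocalRing (integralClosure A (FractionRing A)) :=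
    Groth.Agent.Lib.Helper28.GeomRed.isLocalRing_of_finite_of_isDomain A _
  exact isDomain_cpl_of_isLocalRing_integralClosure A hA

end Groth.Agent.Lib.Helper7.CplDom
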