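import Groth.Agent.Lib.Helper8Cd

set_option autoImplicit false
universe u
open CategoryTheory CategoryTheory.Limits Opposite Pointwise

/-! Faltings-type finiteness: `H^i_I(M)` finite for `i ≤ n` iff killed by a power of `I`. -/

namespace Groth.Agent.Lib.Helper8.Fal

open Groth.Agent.Lib.Helper8.ExtLES Groth.Agent.Lib.Helper8.LC Groth.Agent.Lib.Helper8.MV
  Groth.Agent.Lib.Helper8.GV Groth.Agent.Lib.Helper8.Acyc Groth.Agent.Lib.Helper8.DT

variable {R : Type u} [CommRing R] (I : Ideal R)

/-- `I^k` kills `H^i_I(M)`. -/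
def Kills (k i : ℕ) (M : Type u) [AddCommGroup M] [Module R M] : Prop :=
  ∀ a ∈ I ^ k, ∀ x : LocCoh.H I i M, a • x = 0

theorem kills_mono {k k' : ℕ} (h : k ≤ k') (i : ℕ) (M : Type u) [AddCommGroup M] [Module R M]
    (hk : Kills I k i M) : Kills I k' i M :=
  fun a ha x => hk a (Ideal.pow_le_pow_right h ha) x

theorem exists_kills_of_finite (i : ℕ) (M : Type u) [AddCommGroup M] [Module R M]
    [Module.Finite R (LocCoh.H I i M)] : ∃ k, Kills I k i M := by
  obtain ⟨s, hs⟩ := exists_pow_kills_of_fg (I := I) (M := LocCoh.H I i M) ⊤ Module.Finite.fg_top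
    (fun x _ => isPowerTorsion_H I i (ModuleCat.of R M) x)
  exact ⟨s, fun a ha x => hs a ha x trivial⟩

theorem exists_kills_of_finite_le (n : ℕ) (M : Type u) [AddCommGroup M] [Module R M]
    (h : ∀ i : ℕ, i ≤ n → Module.Finite R (LocCoh.H I i M)) :
    ∃ k, ∀ i : ℕ, i ≤ n → Kills I k i M := by
  induction n with
  | zero =>
    have := h 0 le_rfl
    obtain ⟨k, hk⟩ := exists_kills_of_finite I 0 M
    exact ⟨k, fun i hi => by rw [Nat.le_zero.mp hi]; exact hk⟩
  | succ n ih =>
    obtain ⟨k, hk⟩ := ih (fun i hi => h i (Nat.le_succ_of_le hi))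
    have := h (n + 1) le_rfl
    obtain ⟨k', hk'⟩ := exists_kills_of_finite I (n + 1) M
    refine ⟨max k k', fun i hi => ?_⟩
    rcases Nat.eq_or_lt_of_le hi with heq | hlt
    · rw [heq]
      exact kills_mono I (le_max_right k k') _ M hk'
    · exact kills_mono I (le_max_left k k') _ M (hk i (Nat.lt_succ_iff.mp hlt))

theorem H_zero_eq_zero_of_torsionSub_eq_bot (M : Type u) [AddCommGroup M] [Module R M]
    (h : DRing.torsionSub I M = ⊥) (y : LocCoh.H I 0 M) : y = 0 := by
  apply Φ_injective I (ModuleCat.of R M)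
  have h1 := Φ_mem_torsionSub I (ModuleCat.of R M) y
  rw [h, Submodule.mem_bot] at h1
  rw [h1, map_zero]

variable [IsNoetherianRing R]

theorem finite_H_zero (M : Type u) [AddCommGroup M] [Module R M] [Module.Finite R M] :
    Module.Finite R (LocCoh.H I 0 M) := by
  have : IsNoetherian R M := isNoetherian_of_isNoetherianRing_of_finite R M
  exact Module.Finite.equiv (ΦEquiv I (ModuleCat.of R M)).symm

/-- The torsion-free step. -/
theorem finite_of_kills_torsionFree (n : ℕ)
    (ih : ∀ (N : Type u) [AddCommGroup N] [Module R N] [Module.Finite R N],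
      (∃ k, ∀ i : ℕ, i ≤ n → Kills I k i N) → ∀ i : ℕ, i ≤ n → Module.Finite R (LocCoh.H I i N))
    (M : Type u) [AddCommGroup M] [Module R M] [Module.Finite R M]
    (htf : DRing.torsionSub I M = ⊥) (k : ℕ) (hk : ∀ i : ℕ, i ≤ n + 1 → Kills I k i M)
    (j : ℕ) (hj : j ≤ n + 1) : Module.Finite R (LocCoh.H I j M) := by
  obtain ⟨x, hxI, hreg⟩ := Groth.Agent.S11610.result R R I M (by
    rw [Algebra.algebraMap_self, Ideal.map_id]
    exact htf)
  rw [Algebra.algebraMap_self, RingHom.id_apply] at hreg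
  have hrI : x ^ k ∈ I ^ k := Ideal.pow_mem_pow hxI k
  have hrreg : IsSMulRegular M (x ^ k) := hreg.pow k
  have hex := LinearMap.exact_lsmul_mkQ_smul_top (R := R) M (x ^ k)
  have hS := Sfg_shortExact (LinearMap.lsmul R M (x ^ k))
    ((x ^ k) • (⊤ : Submodule R M)).mkQ hrreg (Submodule.mkQ_surjective _) hex
  -- `I^(k+k)` kills `H^i(M/rM)` for `i ≤ n`
  have hkN : ∀ i : ℕ, i ≤ n → Kills I (k + k) i (QuotSMulTop (x ^ k) M) := by
    intro i hi c hc y
    rw [pow_add] at hc
    refine Submodule.mul_induction_on hc ?_ ?_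
    · intro a ha b hb
      have h1 : Hδ I i _ hS (b • y) = 0 := by
        rw [map_smul]
        exact hk (i + 1) (by omega) b hb _
      obtain ⟨z, hz⟩ := H_exact₃ I i _ hS (b • y) h1
      rw [mul_smul, ← hz, ← map_smul, hk i (by omega) a ha z, map_zero]
    · intro a b ha hb
      rw [add_smul, ha, hb, add_zero]
  have hfinN := ih (QuotSMulTop (x ^ k) M) ⟨k + k, hkN⟩
  rcases Nat.eq_zero_or_pos j with rfl | hpos
  · exact finite_H_zero I M
  · obtain ⟨j', rfl⟩ : ∃ j', j = j' + 1 := ⟨j - 1, by omega⟩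
    have hfin := hfinN j' (by omega)
    refine Module.Finite.of_surjective (Hδ I j' _ hS).hom ?_
    intro w
    refine H_exact₁ I j' _ hS w ?_
    change (localCohomology I (j' + 1)).map
      (ModuleCat.ofHom (LinearMap.lsmul R M (x ^ k))) w = 0
    rw [H_map_lsmul]
    exact hk (j' + 1) hj _ hrI w

theorem finite_of_kills (n : ℕ) : ∀ (M : Type u) [AddCommGroup M] [Module R M]
    [Module.Finite R M], (∃ k, ∀ i : ℕ, i ≤ n → Kills I k i M) →
    ∀ i : ℕ, i ≤ n → Module.Finite R (LocCoh.H I i M) := by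
  induction n with
  | zero =>
    intro M _ _ _ _ i hi
    rw [Nat.le_zero.mp hi]
    exact finite_H_zero I M
  | succ n ih =>
    intro M _ _ _ ⟨k, hk⟩ i hi
    have hbij := fun j (hj : 0 < j) => Groth.Agent.S11589.result R I M j hj
    have htf := Groth.Agent.S0817.torsionSub_quotient_eq_bot I M
    have hk' : ∀ j : ℕ, j ≤ n + 1 → Kills I k j (M ⧸ DRing.torsionSub I M) := by
      intro j hj a ha y
      rcases Nat.eq_zero_or_pos j with rfl | hpos
      · rw [H_zero_eq_zero_of_torsionSub_eq_bot I _ htf y, smul_zero]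
      · obtain ⟨x, rfl⟩ := (hbij j hpos).2 y
        have h1 := hk j hj a ha x
        change a • ((localCohomology I j).map
          (ModuleCat.ofHom (DRing.torsionSub I M).mkQ)) x = 0
        rw [← map_smul, h1, map_zero]
    rcases Nat.eq_zero_or_pos i with rfl | hpos
    · exact finite_H_zero I M
    · have hfin' := finite_of_kills_torsionFree I n ih (M ⧸ DRing.torsionSub I M) htf k hk' i hi
      exact Module.Finite.equiv (LinearEquiv.ofBijective _ (hbij i hpos)).symm

end Groth.Agent.Lib.Helper8.Fal
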