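import Mathlib
import Groth.Prelude.Def_W4bk5brsh7111920

set_option autoImplicit false

namespace Groth.Agent.Lib.Helper8.Conn

open Set TopologicalSpace Topology

variable {T : Type*} [TopologicalSpace T]

theorem dim_mono {S S' : Set T} (h : S ⊆ S') :
    topologicalKrullDim S ≤ topologicalKrullDim S' :=
  (Topology.IsEmbedding.inclusion h).isInducing.topologicalKrullDim_le

theorem isClosed_sUnion_of_finite {S : Set (Set T)} (hS : S.Finite) (h : ∀ s ∈ S, IsClosed s) :
    IsClosed (⋃₀ S) := by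
  rw [Set.sUnion_eq_biUnion]
  exact hS.isClosed_biUnion h

theorem not_isConnected_compl_inter {X1 X2 : Set T} (h1 : IsClosed X1) (h2 : IsClosed X2)
    (hu : X1 ∪ X2 = univ) (hn1 : X1ᶜ.Nonempty) (hn2 : X2ᶜ.Nonempty) :
    ¬ IsConnected (X1 ∩ X2)ᶜ := by
  rintro ⟨-, hpre⟩
  have e1 : ((X1 ∩ X2)ᶜ ∩ X1ᶜ).Nonempty := by
    obtain ⟨y, hy⟩ := hn1; exact ⟨y, fun h => hy h.1, hy⟩
  have e2 : ((X1 ∩ X2)ᶜ ∩ X2ᶜ).Nonempty := by
    obtain ⟨y, hy⟩ := hn2; exact ⟨y, fun h => hy h.2, hy⟩
  obtain ⟨x, hx⟩ := hpre X1ᶜ X2ᶜ h1.isOpen_compl h2.isOpen_compl (by rw [compl_inter]) e1 e2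
  have : x ∈ X1 ∪ X2 := hu ▸ mem_univ x
  rcases this with h | h
  exacts [hx.2.1 h, hx.2.2 h]

theorem exists_proper_closed_of_component [NoetherianSpace T] {C : Set T}
    (hC : C ∈ irreducibleComponents T) (hne : C ≠ univ) :
    ∃ Z, IsClosed Z ∧ Z ⊆ C ∧ Z ≠ C ∧ ¬ IsConnected Zᶜ := by
  have hfin : (irreducibleComponents T).Finite := NoetherianSpace.finite_irreducibleComponents
  have hfin' : (irreducibleComponents T \ {C}).Finite := hfin.subset sdiff_subset
  have hDclosed : IsClosed (⋃₀ (irreducibleComponents T \ {C})) :=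
    isClosed_sUnion_of_finite hfin' fun s hs => isClosed_of_mem_irreducibleComponents s hs.1
  have hCclosed : IsClosed C := isClosed_of_mem_irreducibleComponents C hC
  have hCD : C ∪ ⋃₀ (irreducibleComponents T \ {C}) = univ := by
    apply Set.eq_univ_of_forall
    intro x
    have hx : x ∈ ⋃₀ irreducibleComponents T := by
      rw [sUnion_irreducibleComponents]; exact mem_univ x
    obtain ⟨C', hC', hxC'⟩ := hx
    by_cases hCC : C' = C
    · left; rw [← hCC]; exact hxC'
    · right; exact ⟨C', ⟨hC', hCC⟩, hxC'⟩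
  have hn1 : Cᶜ.Nonempty := Set.nonempty_compl.mpr hne
  have hn2 : (⋃₀ (irreducibleComponents T \ {C}))ᶜ.Nonempty := by
    rw [Set.nonempty_compl]
    intro hD
    have := mem_of_subset_sUnion_irreducibleComponents C hC _ hfin' sdiff_subset
      (by rw [hD]; exact subset_univ _)
    exact this.2 rfl
  refine ⟨C ∩ ⋃₀ (irreducibleComponents T \ {C}), hCclosed.inter hDclosed, inter_subset_left, ?_,
    not_isConnected_compl_inter hCclosed hDclosed hCD hn1 hn2⟩
  intro hEq
  have hsub : C ⊆ ⋃₀ (irreducibleComponents T \ {C}) := by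
    intro x hx
    have hx' : x ∈ C ∩ ⋃₀ (irreducibleComponents T \ {C}) := by rw [hEq]; exact hx
    exact hx'.2
  have := mem_of_subset_sUnion_irreducibleComponents C hC _ hfin' sdiff_subset hsub
  exact this.2 rfl

theorem connDim_le_of {Z : Set T} (hZ : IsClosed Z) (h : ¬ IsConnected Zᶜ) :
    LocCoh.connDim T ≤ topologicalKrullDim Z :=
  iInf₂_le Z ⟨hZ, h⟩

theorem connDim_le_component [NoetherianSpace T] {C : Set T}
    (hC : C ∈ irreducibleComponents T) : LocCoh.connDim T ≤ topologicalKrullDim C := by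
  by_cases hne : C = univ
  · subst hne
    apply connDim_le_of isClosed_univ
    rw [compl_univ]
    exact fun h => h.1.ne_empty rfl
  · obtain ⟨Z, hZ, hZC, -, hconn⟩ := exists_proper_closed_of_component hC hne
    exact (connDim_le_of hZ hconn).trans (dim_mono hZC)

theorem connDim_le_inter_unions [NoetherianSpace T] {A B : Set (Set T)}
    (hA : A ⊆ irreducibleComponents T) (hB : B ⊆ irreducibleComponents T)
    (hAne : A.Nonempty) (hBne : B.Nonempty) (hAB : A ∪ B = irreducibleComponents T) :
    LocCoh.connDim T ≤ topologicalKrullDim ↥(⋃₀ A ∩ ⋃₀ B) := by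
  have hfin : (irreducibleComponents T).Finite := NoetherianSpace.finite_irreducibleComponents
  have hAc : IsClosed (⋃₀ A) := isClosed_sUnion_of_finite (hfin.subset hA)
    fun s hs => isClosed_of_mem_irreducibleComponents s (hA hs)
  have hBc : IsClosed (⋃₀ B) := isClosed_sUnion_of_finite (hfin.subset hB)
    fun s hs => isClosed_of_mem_irreducibleComponents s (hB hs)
  have hU : ⋃₀ A ∪ ⋃₀ B = univ := by
    rw [← sUnion_union, hAB, sUnion_irreducibleComponents]
  by_cases h1 : (⋃₀ A)ᶜ.Nonempty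
  · by_cases h2 : (⋃₀ B)ᶜ.Nonempty
    · exact connDim_le_of (hAc.inter hBc) (not_isConnected_compl_inter hAc hBc hU h1 h2)
    · rw [Set.not_nonempty_iff_eq_empty, compl_empty_iff] at h2
      obtain ⟨C, hCA⟩ := hAne
      exact (connDim_le_component (hA hCA)).trans
        (dim_mono (subset_inter (subset_sUnion_of_mem hCA) (h2 ▸ subset_univ _)))
  · rw [Set.not_nonempty_iff_eq_empty, compl_empty_iff] at h1
    obtain ⟨C, hCB⟩ := hBne
    exact (connDim_le_component (hB hCB)).trans
      (dim_mono (subset_inter (h1 ▸ subset_univ _) (subset_sUnion_of_mem hCB)))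

theorem exists_pair_of_not_isConnected_compl [Nonempty T] {Z : Set T} (hZc : IsClosed Z)
    (hZn : ¬ IsConnected Zᶜ) :
    ∃ A B : Set (Set T), A ⊆ irreducibleComponents T ∧ B ⊆ irreducibleComponents T ∧
      A.Nonempty ∧ B.Nonempty ∧ A ∪ B = irreducibleComponents T ∧ ⋃₀ A ∩ ⋃₀ B ⊆ Z := by
  by_cases hne : Zᶜ.Nonempty
  · have hnp : ¬ IsPreconnected Zᶜ := fun h => hZn ⟨hne, h⟩
    rw [IsPreconnected] at hnp
    push Not at hnp
    obtain ⟨u, v, hu, hv, huv, hnu, hnv, hemp0⟩ := hnp
    have hemp : ¬ (Zᶜ ∩ (u ∩ v)).Nonempty := by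
      rw [hemp0]; exact Set.not_nonempty_empty
    have hdich : ∀ C ∈ irreducibleComponents T, C ∩ Zᶜ ⊆ u ∨ C ∩ Zᶜ ⊆ v := by
      intro C hC
      by_contra hcon
      push Not at hcon
      obtain ⟨h1, h2⟩ := hcon
      rw [Set.not_subset] at h1 h2
      obtain ⟨x, hx, hxu⟩ := h1
      obtain ⟨y, hy, hyv⟩ := h2
      have hxv : x ∈ v := (huv hx.2).resolve_left hxu
      have hyu : y ∈ u := (huv hy.2).resolve_right hyv
      obtain ⟨z, hz⟩ := hC.1.2 (Zᶜ ∩ u) (Zᶜ ∩ v) (hZc.isOpen_compl.inter hu)
        (hZc.isOpen_compl.inter hv) ⟨y, hy.1, hy.2, hyu⟩ ⟨x, hx.1, hx.2, hxv⟩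
      exact hemp ⟨z, hz.2.1.1, hz.2.1.2, hz.2.2.2⟩
    refine ⟨{C | C ∈ irreducibleComponents T ∧ C ∩ Zᶜ ⊆ u},
      {C | C ∈ irreducibleComponents T ∧ C ∩ Zᶜ ⊆ v}, fun C hC => hC.1, fun C hC => hC.1,
      ?_, ?_, ?_, ?_⟩
    · obtain ⟨x, hxZ, hxu⟩ := hnu
      refine ⟨irreducibleComponent x, irreducibleComponent_mem_irreducibleComponents x, ?_⟩
      rcases hdich _ (irreducibleComponent_mem_irreducibleComponents x) with h | h
      · exact h
      · exact absurd ⟨x, hxZ, hxu, h ⟨mem_irreducibleComponent, hxZ⟩⟩ hemp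
    · obtain ⟨x, hxZ, hxv⟩ := hnv
      refine ⟨irreducibleComponent x, irreducibleComponent_mem_irreducibleComponents x, ?_⟩
      rcases hdich _ (irreducibleComponent_mem_irreducibleComponents x) with h | h
      · exact absurd ⟨x, hxZ, h ⟨mem_irreducibleComponent, hxZ⟩, hxv⟩ hemp
      · exact h
    · ext C
      constructor
      · rintro (h | h)
        exacts [h.1, h.1]
      · intro hC
        rcases hdich C hC with h | h
        exacts [Or.inl ⟨hC, h⟩, Or.inr ⟨hC, h⟩]
    · rintro x ⟨⟨C1, hC1, hx1⟩, ⟨C2, hC2, hx2⟩⟩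
      by_contra hxZ
      exact hemp ⟨x, hxZ, hC1.2 ⟨hx1, hxZ⟩, hC2.2 ⟨hx2, hxZ⟩⟩
  · rw [Set.not_nonempty_iff_eq_empty, compl_empty_iff] at hne
    have hcne : (irreducibleComponents T).Nonempty := by
      obtain ⟨x⟩ := ‹Nonempty T›
      exact ⟨_, irreducibleComponent_mem_irreducibleComponents x⟩
    exact ⟨irreducibleComponents T, irreducibleComponents T, subset_rfl, subset_rfl, hcne, hcne,
      union_self _, hne ▸ subset_univ _⟩

theorem connDim_eq_iInf [NoetherianSpace T] [Nonempty T] :
    LocCoh.connDim T = ⨅ (A : Set (Set T)) (B : Set (Set T))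
      (_ : A ⊆ irreducibleComponents T ∧ B ⊆ irreducibleComponents T ∧ A.Nonempty ∧ B.Nonempty ∧
        A ∪ B = irreducibleComponents T), topologicalKrullDim ↥(⋃₀ A ∩ ⋃₀ B) := by
  apply le_antisymm
  · refine le_iInf fun A => le_iInf fun B => le_iInf fun h => ?_
    obtain ⟨hA, hB, hAne, hBne, hAB⟩ := h
    exact connDim_le_inter_unions hA hB hAne hBne hAB
  · refine le_iInf₂ fun Z hZ => ?_
    obtain ⟨A, B, hA, hB, hAne, hBne, hAB, hsub⟩ := exists_pair_of_not_isConnected_compl hZ.1 hZ.2
    exact iInf_le_of_le A (iInf_le_of_le B (iInf_le_of_le ⟨hA, hB, hAne, hBne, hAB⟩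
      (dim_mono hsub)))



theorem dim_add_one_le_of_proper_closed {C Z : Set T} (hC : IsIrreducible C) (hZ : IsClosed Z)
    (hZC : Z ⊆ C) (hne : Z ≠ C) (hZne : Z.Nonempty) :
    topologicalKrullDim Z + 1 ≤ topologicalKrullDim C := by
  have : Nonempty (IrreducibleCloseds Z) := by
    obtain ⟨z, hz⟩ := hZne
    exact ⟨⟨closure {⟨z, hz⟩}, isIrreducible_singleton.closure, isClosed_closure⟩⟩
  have : IrreducibleSpace C := Subtype.irreducibleSpace hC
  unfold topologicalKrullDim
  rw [← Order.krullDim_WithTop]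
  let top : IrreducibleCloseds C :=
    ⟨univ, IrreducibleSpace.isIrreducible_univ C, isClosed_univ⟩
  let g : WithTop (IrreducibleCloseds Z) → IrreducibleCloseds C := fun a =>
    a.recTopCoe top (IrreducibleCloseds.map (inclusion hZC) (continuous_inclusion hZC))
  apply Order.krullDim_le_of_strictMono g
  rw [WithTop.strictMono_iff]
  refine ⟨?_, ?_⟩
  · exact IrreducibleCloseds.map_strictMono_of_isInducing
      (Topology.IsEmbedding.inclusion hZC).isInducing
  · intro a
    have hsub : ∃ c : C, (c : T) ∉ Z := by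
      by_contra hcon
      push Not at hcon
      exact hne (subset_antisymm hZC fun x hx => hcon ⟨x, hx⟩)
    obtain ⟨c, hc⟩ := hsub
    have hclosed : IsClosed {c : C | (c : T) ∈ Z} := hZ.preimage continuous_subtype_val
    have hle : ((IrreducibleCloseds.map (inclusion hZC) (continuous_inclusion hZC) a :
        IrreducibleCloseds C) : Set C) ⊆ {c : C | (c : T) ∈ Z} := by
      rw [IrreducibleCloseds.coe_map]
      apply closure_minimal _ hclosed
      rintro _ ⟨z, -, rfl⟩
      exact z.2
    apply lt_of_le_of_ne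
    · intro x _
      exact mem_univ x
    · intro hEq
      have : c ∈ ((IrreducibleCloseds.map (inclusion hZC) (continuous_inclusion hZC) a :
        IrreducibleCloseds C) : Set C) := by
        have h2 : (g (a : WithTop (IrreducibleCloseds Z)) : Set C) = (g ⊤ : Set C) := by
          rw [hEq]
        show c ∈ (g (a : WithTop (IrreducibleCloseds Z)) : Set C)
        rw [h2]
        exact mem_univ c
      exact hc (hle this)

theorem dim_lt_of_proper_closed {C Z : Set T} (hC : IsIrreducible C) (hZ : IsClosed Z)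
    (hZC : Z ⊆ C) (hne : Z ≠ C) (hfin : topologicalKrullDim C < ⊤) :
    topologicalKrullDim Z < topologicalKrullDim C := by
  have : IrreducibleSpace C := Subtype.irreducibleSpace hC
  have : Nonempty (IrreducibleCloseds C) :=
    ⟨⟨univ, IrreducibleSpace.isIrreducible_univ C, isClosed_univ⟩⟩
  have hnonneg : (0 : WithBot ℕ∞) ≤ topologicalKrullDim C := Order.krullDim_nonneg
  rcases Z.eq_empty_or_nonempty with rfl | hZne
  · have : IsEmpty (IrreducibleCloseds (∅ : Set T)) :=
      ⟨fun s => by obtain ⟨x, -⟩ := s.isIrreducible.nonempty; exact x.2⟩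
    have : topologicalKrullDim (∅ : Set T) = ⊥ := Order.krullDim_eq_bot
    rw [this]
    exact lt_of_lt_of_le (WithBot.bot_lt_coe 0) hnonneg
  · have h1 := dim_add_one_le_of_proper_closed hC hZ hZC hne hZne
    by_contra hcon
    push Not at hcon
    have h2 : topologicalKrullDim C + 1 ≤ topologicalKrullDim C :=
      (add_le_add_left hcon 1).trans h1
    revert h2 hfin hnonneg
    generalize topologicalKrullDim C = d
    intro hfin hnonneg h2
    cases d with
    | bot => exact absurd hnonneg (by simp)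
    | coe n =>
      have hn : n ≠ ⊤ := by
        rintro rfl
        exact absurd hfin (by simp)
      have h3 : n + 1 ≤ n := by exact_mod_cast h2
      rw [ENat.add_one_le_iff hn] at h3
      exact lt_irrefl _ h3

theorem connDim_le_subdim [NoetherianSpace T] : LocCoh.connDim T ≤ LocCoh.subdim T :=
  le_iInf₂ fun _ hC => connDim_le_component hC

theorem connDim_eq_subdim_iff [NoetherianSpace T] [Nonempty T]
    (hfin : topologicalKrullDim T < ⊤) :
    LocCoh.connDim T = LocCoh.subdim T ↔ IrreducibleSpace T := by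
  constructor
  · intro heq
    by_contra hirr
    have hfinC : (irreducibleComponents T).Finite := NoetherianSpace.finite_irreducibleComponents
    have hcne : (irreducibleComponents T).Nonempty := by
      obtain ⟨x⟩ := ‹Nonempty T›
      exact ⟨_, irreducibleComponent_mem_irreducibleComponents x⟩
    obtain ⟨C, hC, hmin⟩ := Set.exists_min_image _ (fun C : Set T => topologicalKrullDim C)
      hfinC hcne
    have hsub : LocCoh.subdim T = topologicalKrullDim C :=
      le_antisymm (iInf₂_le C hC) (le_iInf₂ hmin)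
    have hne : C ≠ univ := by
      rintro rfl
      exact hirr ((irreducibleSpace_def T).mpr hC.1)
    obtain ⟨Z, hZ, hZC, hZne, hconn⟩ := exists_proper_closed_of_component hC hne
    have hCfin : topologicalKrullDim C < ⊤ :=
      lt_of_le_of_lt (topologicalKrullDim_subspace_le T C) hfin
    have h1 := dim_lt_of_proper_closed hC.1 hZ hZC hZne hCfin
    have h2 := connDim_le_of hZ hconn
    rw [heq, hsub] at h2
    exact absurd (lt_of_le_of_lt h2 h1) (lt_irrefl _)
  · intro hirr
    apply le_antisymm connDim_le_subdim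
    refine le_iInf₂ fun Z hZ => ?_
    have hZu : Z = univ := by
      by_contra hne
      have hne' : Zᶜ.Nonempty := Set.nonempty_compl.mpr hne
      apply hZ.2
      have hpre : IsPreirreducible Zᶜ :=
        (IrreducibleSpace.isIrreducible_univ T).isPreirreducible.open_subset
          hZ.1.isOpen_compl (subset_univ _)
      exact ⟨hne', hpre.isPreconnected⟩
    subst hZu
    exact iInf₂_le univ (by rw [irreducibleComponents_eq_singleton]; rfl)

end Groth.Agent.Lib.Helper8.Conn
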