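import Groth.Agent.S11668
import Groth.Agent.S11680
import Groth.Agent.Lib.Helper8Conn

/-! # Connectedness results à la Brodmann–Sharp ch. 19 (helper29): shared lemmas

* `dim_le_cd_add`: `dim R ≤ cd(I) + dim R/I` for a Noetherian local ring;
* chain lemmas on `dim R/I` (`dim_quot_mono`, `dim_inf_sup_le`, `exists_minimalPrime_dim_ge`);
* transfer to quotient rings (`dim_quot_map`, `cdLE_map`, `cdLE_of_radical_eq`). -/

set_option autoImplicit false
set_option linter.style.haveILetI false
set_option linter.unusedSectionVars false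
universe u
open CategoryTheory CategoryTheory.Abelian IsLocalRing

namespace Groth.Agent.Lib.Helper29.Conn
open Groth.Agent.Lib.Helper29.HLVT Groth.Agent.Lib.Helper8.Cd Groth.Agent.Lib.Helper8.Acyc
  Groth.Agent.S11668

section Chains

variable {R : Type u} [CommRing R]

/-- Transport a chain of primes containing `I` to a chain of primes containing `I'`, when the head
contains `I'`. -/
def transport {I : Ideal R} (l : LTSeries (PrimeSpectrum.zeroLocus (R := R) (I : Set R)))
    (I' : Ideal R) (h : I' ≤ l.head.1.asIdeal) :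
    LTSeries (PrimeSpectrum.zeroLocus (R := R) (I' : Set R)) where
  length := l.length
  toFun i := ⟨(l i).1, fun x hx => (LTSeries.head_le l i : l.head.1.asIdeal ≤ (l i).1.asIdeal) (h hx)⟩
  step i := l.step i

theorem length_le_dim {I : Ideal R} (l : LTSeries (PrimeSpectrum.zeroLocus (R := R) (I : Set R)))
    (I' : Ideal R) (h : I' ≤ l.head.1.asIdeal) :
    (l.length : WithBot ℕ∞) ≤ ringKrullDim (R ⧸ I') := by
  rw [ringKrullDim_quotient]
  exact Order.LTSeries.length_le_krullDim (transport l I' h)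

theorem dim_quot_mono {I J : Ideal R} (h : I ≤ J) :
    ringKrullDim (R ⧸ J) ≤ ringKrullDim (R ⧸ I) := by
  rw [ringKrullDim_quotient J]
  unfold Order.krullDim
  refine iSup_le fun l => ?_
  exact length_le_dim l I (fun x hx => l.head.2 (h hx))

/-- `V((a ∩ b) + r) = V(a + r) ∪ V(b + r)` on the level of dimensions. -/
theorem dim_inf_sup_le (a b r : Ideal R) :
    ringKrullDim (R ⧸ ((a ⊓ b) ⊔ r)) ≤
      max (ringKrullDim (R ⧸ (a ⊔ r))) (ringKrullDim (R ⧸ (b ⊔ r))) := by
  rw [ringKrullDim_quotient ((a ⊓ b) ⊔ r)]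
  unfold Order.krullDim
  refine iSup_le fun l => ?_
  have hle : (a ⊓ b) ⊔ r ≤ l.head.1.asIdeal := l.head.2
  rcases (Ideal.IsPrime.inf_le l.head.1.2).mp (le_sup_left.trans hle) with h | h
  · exact (length_le_dim l (a ⊔ r) (sup_le h (le_sup_right.trans hle))).trans (le_max_left _ _)
  · exact (length_le_dim l (b ⊔ r) (sup_le h (le_sup_right.trans hle))).trans (le_max_right _ _)

/-- Some minimal prime of `J` realises the dimension of `R/(a + J)`. -/
theorem exists_minimalPrime_dim_ge (a J : Ideal R) (D : ℕ)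
    (hD : ringKrullDim (R ⧸ (a ⊔ J)) = D) :
    ∃ p ∈ J.minimalPrimes, (D : WithBot ℕ∞) ≤ ringKrullDim (R ⧸ (a ⊔ p)) := by
  have h1 : (D : WithBot ℕ∞) ≤ ringKrullDim (R ⧸ (a ⊔ J)) := le_of_eq hD.symm
  rw [ringKrullDim_quotient, Order.le_krullDim_iff] at h1
  obtain ⟨l, hl⟩ := h1
  have hle : a ⊔ J ≤ l.head.1.asIdeal := l.head.2
  obtain ⟨p, hp, hpl⟩ := Ideal.exists_minimalPrimes_le (le_sup_right.trans hle)
  refine ⟨p, hp, ?_⟩
  rw [← hl]
  exact length_le_dim l (a ⊔ p) (sup_le (le_sup_left.trans hle) hpl)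

end Chains

section General

variable {R : Type u} [CommRing R] [IsNoetherianRing R] [IsLocalRing R]

/-- `dim R ≤ cd(I) + dim R/I`. -/
theorem dim_le_cd_add (n : ℕ) (hn : ringKrullDim R = n) : ∀ (c : ℕ) (I : Ideal R) (k D : ℕ),
    I ≠ ⊤ → ringKrullDim (R ⧸ I) = D → D ≤ c → Bound I k → n ≤ k + D := by
  intro c
  induction c with
  | zero =>
    intro I k D hI hD hDc hk
    obtain rfl : D = 0 := by omega
    have hIm : I ≤ maximalIdeal R := IsLocalRing.le_maximalIdeal hI
    have hrad : I.radical = (maximalIdeal R).radical := by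
      apply radical_eq_of_forall R _ hIm
      intro Q hQ hle
      by_contra hQm
      have := (pos_dim_iff I).mpr ⟨Q, hQ, hle, hQm⟩
      rw [hD] at this
      exact absurd this (lt_irrefl _)
    by_contra hcon
    have h4 : Subsingleton (LocCoh.H I n R) :=
      ⟨fun y z => by rw [hk R n (by omega) y, hk R n (by omega) z]⟩
    have h5 := subsingleton_of_radical_eq hrad.symm n R h4
    have hNV : Nontrivial (LocCoh.H (maximalIdeal R) n R) :=
      Groth.Agent.Lib.Helper8.NV.nonvanishing R R n
        (by rw [Module.supportDim_self_eq_ringKrullDim, hn])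
    exact not_subsingleton _ h5
  | succ c ih =>
    intro I k D hI hD hDc hk
    by_cases hDc' : D ≤ c
    · exact ih I k D hI hD hDc' hk
    classical
    have hIm : I ≤ maximalIdeal R := IsLocalRing.le_maximalIdeal hI
    have hmnot : maximalIdeal R ∉ I.minimalPrimes := by
      intro hmin
      have hpos : 0 < ringKrullDim (R ⧸ I) := by
        rw [hD]
        exact_mod_cast (by omega : 0 < D)
      obtain ⟨P, hP, hle, hPm⟩ := (pos_dim_iff I).mp hpos
      exact hPm (le_antisymm (IsLocalRing.le_maximalIdeal hP.ne_top)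
        (hmin.2 ⟨hP, hle⟩ (IsLocalRing.le_maximalIdeal hP.ne_top)))
    have hfin : (I.minimalPrimes).Finite := Ideal.finite_minimalPrimes_of_isNoetherianRing R I
    obtain ⟨x, hxm, hx⟩ : ∃ x ∈ maximalIdeal R, ∀ p ∈ I.minimalPrimes, x ∉ p := by
      by_contra hcon
      push_neg at hcon
      have hsub : (maximalIdeal R : Set R) ⊆
          ⋃ Q ∈ (hfin.toFinset : Set (Ideal R)), (Q : Set R) := by
        intro y hy
        obtain ⟨Q, hQ, hyQ⟩ := hcon y hy
        exact Set.mem_biUnion (by simpa using hQ) hyQ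
      obtain ⟨Q, hQ, hmQ⟩ := (Ideal.subset_union_prime (s := hfin.toFinset)
        (f := fun Q => Q) ⊤ ⊤ (fun Q hQ _ _ => by
          rw [Set.Finite.mem_toFinset] at hQ
          exact hQ.1.1)).mp hsub
      rw [Set.Finite.mem_toFinset] at hQ
      have : Q = maximalIdeal R :=
        le_antisymm (IsLocalRing.le_maximalIdeal hQ.1.1.ne_top) hmQ
      exact hmnot (this ▸ hQ)
    have hsm : Ideal.span {x} ≤ maximalIdeal R := (Ideal.span_singleton_le_iff_mem _).mpr hxm
    have hI' : I ⊔ Ideal.span {x} ≠ ⊤ := fun h =>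
      (Ideal.IsPrime.ne_top (inferInstance : (maximalIdeal R).IsPrime))
        (top_le_iff.mp (h ▸ sup_le hIm hsm))
    obtain ⟨D', hD'⟩ := exists_nat_dim_quot _ hI'
    have hdrop : D' + 1 ≤ D := by
      have := dim_drop I x hx
      rw [hD', hD] at this
      exact_mod_cast this
    have := ih _ (k + 1) D' hI' hD' (by omega) (bound_sup_singleton I x k hk)
    omega

end General

section Quot

variable {R : Type u} [CommRing R]

theorem dim_quot_map (r I : Ideal R) :
    ringKrullDim ((R ⧸ r) ⧸ I.map (Ideal.Quotient.mk r)) = ringKrullDim (R ⧸ (r ⊔ I)) :=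
  ringKrullDim_eq_of_ringEquiv (DoubleQuot.quotQuotEquivQuotSup r I)

theorem cdLE_map [IsNoetherianRing R] (r I : Ideal R) (k : ℕ) (hk : LocCoh.CdLE R I k) :
    LocCoh.CdLE (R ⧸ r) (I.map (Ideal.Quotient.mk r)) k := by
  intro M _ _ j hj
  letI : Module R M := Module.compHom M (Ideal.Quotient.mk r)
  haveI : IsScalarTower R (R ⧸ r) M := IsScalarTower.of_algebraMap_smul (fun _ _ => rfl)
  obtain ⟨φ, -⟩ := Groth.Agent.S11614.result R (R ⧸ r) I M j
  have := hk M j hj
  exact φ.toEquiv.subsingleton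

theorem cdLE_of_radical_eq [IsNoetherianRing R] {I J : Ideal R} (h : I.radical = J.radical)
    (k : ℕ) (hk : LocCoh.CdLE R J k) : LocCoh.CdLE R I k := by
  intro M _ _ j hj
  exact subsingleton_of_radical_eq h j M (hk M j hj)

end Quot

end Groth.Agent.Lib.Helper29.Conn
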