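import Groth.Agent.Lib.Helper8KoszSheaf

/-!
# Helper8KoszFlasque

Flasqueness of `M~` on `Spec A` (Noetherian space) versus vanishing of the colimit Koszul
cohomology `T^1`; vanishing of `T^1` for all lists implies vanishing of all `T^i`, `i > 0`.
-/

set_option autoImplicit false

namespace Groth.Agent.Lib.Helper8KoszFlasque

open CategoryTheory CategoryTheory.Limits AlgebraicGeometry TopologicalSpace Opposite CohIII
open Groth.Agent.Lib.Helper21
open Groth.Agent.Lib.Helper6 Groth.Agent.Lib.Helper8KoszDT Groth.Agent.Lib.Helper8KoszLim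
open Groth.Agent.Lib.Helper8KoszSheaf

universe u

section Alg

variable {A : Type u} [CommRing A]

lemma TL_cons_subsingleton (M : ModuleCat.{u} A) (f : A) (fs : List A) (j : ℤ)
    (h0 : Subsingleton (TL M fs j)) (h1 : Subsingleton (TL M fs (j + 1))) :
    Subsingleton (TL M (f :: fs) j) := by
  have key : ∀ z : TL M (f :: fs) j, z = 0 := by
    intro z
    obtain ⟨n, c, rfl⟩ := Module.DirectLimit.exists_of z
    have e1 : Module.DirectLimit.of A ℕ (fun n : ℕ => (Kp M fs n).homology (j + 1))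
        (fun n m h => Tr M fs (j + 1) n m h) n (δc M f fs n j (j + 1) rfl c) = 0 :=
      Subsingleton.elim _ _
    obtain ⟨m, hnm, hm⟩ := Module.DirectLimit.of.zero_exact e1
    have hm' : Tr M fs (j + 1) n m hnm (δc M f fs n j (j + 1) rfl c) = 0 := hm
    rw [← δc_Tr] at hm'
    obtain ⟨d, hd⟩ := exists_ic_of_δc _ f fs m j (j + 1) rfl _ hm'
    have e2 : Module.DirectLimit.of A ℕ (fun n : ℕ => (Kp M fs n).homology j)
        (fun n m h => Tr M fs j n m h) m d = 0 :=
      Subsingleton.elim _ _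
    obtain ⟨m', hmm', hd'⟩ := Module.DirectLimit.of.zero_exact e2
    have hd'' : Tr M fs j m m' hmm' d = 0 := hd'
    have hfin : Tr M (f :: fs) j n m' (hnm.trans hmm') c = 0 := by
      rw [← Tr_comp M (f :: fs) j n m m' hnm hmm', ← hd, Tr_ic, hd'', smul_zero, map_zero]
    rw [← Module.DirectLimit.of_f (hij := hnm.trans hmm')]
    rw [hfin, map_zero]
  exact ⟨fun a b => (key a).trans (key b).symm⟩

/-- vanishing of `T^1` for all lists gives vanishing of all higher `T^i` -/
theorem TL_subsingleton_of_one (M : ModuleCat.{u} A)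
    (h1 : ∀ fs : List A, Subsingleton (TL M fs (-((fs.length : ℕ) : ℤ) + 1))) :
    ∀ (fs : List A) (j : ℤ), -((fs.length : ℕ) : ℤ) < j → Subsingleton (TL M fs j)
  | [], j, hj => by
    apply TL_subsingleton_of_level
    intro n
    simp only [List.length_nil, Nat.cast_zero, neg_zero] at hj
    exact ModuleCat.subsingleton_of_isZero (isZero_homology_of_isZero_X _ j
      (HomologicalComplex.isZero_single_obj_X (ComplexShape.up ℤ) 0 M j hj.ne'))
  | f :: fs, j, hj => by
    by_cases hj2 : j = -(((f :: fs).length : ℕ) : ℤ) + 1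
    · rw [hj2]
      exact h1 (f :: fs)
    · simp only [List.length_cons, Nat.cast_add, Nat.cast_one] at hj hj2
      have hj3 : -((fs.length : ℕ) : ℤ) < j := by omega
      exact TL_cons_subsingleton M f fs j (TL_subsingleton_of_one M h1 fs j hj3)
        (TL_subsingleton_of_one M h1 fs (j + 1) (by omega))

end Alg

section Flasque

variable {X : Scheme.{u}} (F : X.Modules)

lemma isFlasque_iff : TopCat.Sheaf.IsFlasque (Coh.toAb F) ↔
    ∀ W : X.Opens, Function.Surjective (res F (le_top : W ≤ ⊤)) := by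
  constructor
  · intro h W
    have := h.epi (homOfLE (le_top : W ≤ ⊤)).op
    exact (AddCommGrpCat.epi_iff_surjective _).mp this
  · intro h
    refine ⟨fun {U V} i => ?_⟩
    rw [AddCommGrpCat.epi_iff_surjective]
    intro t
    obtain ⟨s, hs⟩ := h V.unop t
    refine ⟨res F (le_top : U.unop ≤ ⊤) s, ?_⟩
    have e : (homOfLE (le_top : V.unop ≤ ⊤)).op = (homOfLE (le_top : U.unop ≤ ⊤)).op ≫ i :=
      Subsingleton.elim _ _
    rw [← hs]
    show _ = F.presheaf.map (homOfLE (le_top : V.unop ≤ ⊤)).op s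
    rw [e, F.presheaf.map_comp]
    rfl

end Flasque

section Spec

variable (A : Type u) [CommRing A]

/-- the ring map `A → Γ(Spec A, ⊤)` -/
noncomputable def φA : A →+* Γ(Spec (CommRingCat.of A), ⊤) :=
  (Scheme.ΓSpecIso (CommRingCat.of A)).inv.hom

/-- `M ≃ Γ(Spec A, M~)` -/
noncomputable def ρS (M : ModuleCat.{u} A) :
    M ≃ₗ[A] Sec (tilde (R := CommRingCat.of A) M) (φA A) ⊤ :=
  LinearEquiv.ofBijective
    { toFun := fun x => (tilde.toOpen (R := CommRingCat.of A) M ⊤).hom x
      map_add' := fun x y => map_add _ x y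
      map_smul' := fun r x => (tilde.toOpen (R := CommRingCat.of A) M ⊤).hom.map_smul r x }
    (by
      have : IsIso (tilde.toOpen (R := CommRingCat.of A) M ⊤) :=
        tilde.isIso_toOpen_top (R := CommRingCat.of A) (M := M)
      exact ConcreteCategory.bijective_of_isIso (tilde.toOpen (R := CommRingCat.of A) M ⊤))

theorem surjective_iff (M : ModuleCat.{u} A) (fs : List A) (j : ℤ)
    (hj : -((fs.length : ℕ) : ℤ) + 1 = j) :
    Function.Surjective (res (tilde (R := CommRingCat.of A) M)
      (le_top : UU (φA A) fs ≤ ⊤)) ↔ Subsingleton (TL M fs j) := by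
  obtain ⟨e⟩ := nonempty_coker (tilde (R := CommRingCat.of A) M) (φA A) fs (ρS A M) j hj
  rw [← e.toEquiv.subsingleton_congr, Submodule.Quotient.subsingleton_iff,
    LinearMap.range_eq_top]
  constructor
  · intro h t
    obtain ⟨s, hs⟩ := h t
    exact ⟨(ρS A M).symm s, by rw [rU_apply, LinearEquiv.apply_symm_apply]; exact hs⟩
  · intro h t
    obtain ⟨x, hx⟩ := h t
    exact ⟨ρS A M x, hx⟩

lemma exists_list [NoetherianSpace (PrimeSpectrum A)] (W : (Spec (CommRingCat.of A)).Opens) :
    ∃ fs : List A, W = UU (φA A) fs := by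
  have hc : IsCompact (W.1 : Set (PrimeSpectrum A)) :=
    @NoetherianSpace.isCompact (PrimeSpectrum A) _ ‹_› W.1
  obtain ⟨t, ht⟩ := PrimeSpectrum.isCompact_isOpen_iff.mp ⟨hc, W.2⟩
  refine ⟨t.toList, ?_⟩
  ext x
  have h1 : x ∈ (W.1 : Set (PrimeSpectrum A)) ↔ ∃ f ∈ t, f ∉ x.asIdeal := by
    rw [← ht]
    show ¬ ((t : Set A) ⊆ x.asIdeal) ↔ _
    rw [Set.not_subset]
    exact Iff.rfl
  have h2 : x ∈ ((UU (φA A) t.toList : (Spec (CommRingCat.of A)).Opens) : Set _) ↔
      ∃ i : Fin t.toList.length, t.toList.get i ∉ x.asIdeal := by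
    unfold UU
    rw [SetLike.mem_coe, Opens.mem_iSup]
    refine exists_congr (fun i => ?_)
    have := basicOpen_eq_of_affine (R := CommRingCat.of A) (t.toList.get i)
    show x ∈ (Spec (CommRingCat.of A)).basicOpen
      ((Scheme.ΓSpecIso (CommRingCat.of A)).inv (t.toList.get i)) ↔ _
    rw [this]
    exact PrimeSpectrum.mem_basicOpen _ _
  have h3 : (∃ f ∈ t, f ∉ x.asIdeal) ↔
      ∃ i : Fin t.toList.length, t.toList.get i ∉ x.asIdeal := by
    constructor
    · rintro ⟨f, hf, hfx⟩
      obtain ⟨i, rfl⟩ := List.mem_iff_get.mp (Finset.mem_toList.mpr hf)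
      exact ⟨i, hfx⟩
    · rintro ⟨i, hi⟩
      exact ⟨t.toList.get i, Finset.mem_toList.mp (List.get_mem _ i), hi⟩
  exact h1.trans (h3.trans h2.symm)

end Spec

end Groth.Agent.Lib.Helper8KoszFlasque
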