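import Groth.Agent.Lib.Helper8KoszLim3
import Groth.Agent.Lib.Helper8MV

/-!
# Local cohomology is the colimit of the Koszul cohomology of the powers (helper8)
-/

namespace Groth.Agent.Lib.Helper8KoszLim

open CategoryTheory CategoryTheory.Limits CochainComplex HomComplex HomotopyCategory CohIII
open Groth.Agent.Lib.Helper21 Groth.Agent.Lib.Helper8.LC Groth.Agent.Lib.Helper8.MV

universe u

section Abstract

variable {R : Type u} [CommRing R]

lemma coker_transfer {W X Y W' X' Y' : Type u} [AddCommGroup W] [Module R W]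
    [AddCommGroup X] [Module R X] [AddCommGroup Y] [Module R Y]
    [AddCommGroup W'] [Module R W'] [AddCommGroup X'] [Module R X'] [AddCommGroup Y'] [Module R Y']
    (g : W →ₗ[R] X) (δ : X →ₗ[R] Y) (hδ : Function.Surjective δ)
    (hk : LinearMap.ker δ = LinearMap.range g)
    (g' : W' →ₗ[R] X') (δ' : X' →ₗ[R] Y') (hδ' : Function.Surjective δ')
    (hk' : LinearMap.ker δ' = LinearMap.range g')
    (a : X ≃ₗ[R] X')
    (ha : Submodule.map a.toLinearMap (LinearMap.range g) = LinearMap.range g') :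
    Nonempty (Y ≃ₗ[R] Y') := by
  have e1 : (X ⧸ LinearMap.ker δ) ≃ₗ[R] Y := LinearMap.quotKerEquivOfSurjective δ hδ
  have e2 : (X' ⧸ LinearMap.ker δ') ≃ₗ[R] Y' := LinearMap.quotKerEquivOfSurjective δ' hδ'
  have e3 : (X ⧸ LinearMap.ker δ) ≃ₗ[R] (X' ⧸ LinearMap.ker δ') :=
    Submodule.Quotient.equiv _ _ a (by rw [hk, hk']; exact ha)
  exact ⟨e1.symm.trans (e3.trans e2)⟩

end Abstract

section Main

variable {A : Type u} [CommRing A] [IsNoetherianRing A] (fs : List A)

omit [IsNoetherianRing A] in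
lemma injSES_X₂_inj (M : ModuleCat.{u} A) : Module.Injective A (injSES M).X₂ :=
  @Module.injective_module_of_injective_object A ((Injective.under M : ModuleCat.{u} A) : Type u) _ _ _
    (show Injective (ModuleCat.of A ((Injective.under M : ModuleCat.{u} A) : Type u)) from
      Injective.injective_under M)

lemma TL_subsingleton (E : ModuleCat.{u} A) (hE : Module.Injective A E) (j : ℤ)
    (hj : -((fs.length : ℕ) : ℤ) < j) : Subsingleton (TL E fs j) := by
  have key : ∀ z : TL E fs j, z = 0 := by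
    intro z
    obtain ⟨n, c, rfl⟩ := Module.DirectLimit.exists_of z
    obtain ⟨m, h, hc⟩ := evZero (A := A) E hE fs j hj n c
    rw [← Module.DirectLimit.of_f (hij := h)]
    have hc' : Tr E fs j n m h c = 0 := hc
    rw [hc', map_zero]
  exact ⟨fun a b => (key a).trans (key b).symm⟩

lemma torsion_iff (M : ModuleCat.{u} A) (x : M) :
    x ∈ DRing.torsionSub (Ideal.span {a | a ∈ fs}) M ↔ ∃ n : ℕ, ∀ g ∈ fs, g ^ n • x = 0 := by
  constructor
  · rintro ⟨k, hk⟩
    refine ⟨k, fun g hg => hk _ (Ideal.pow_mem_pow (Ideal.subset_span (show g ∈ {a | a ∈ fs} from hg)) k)⟩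
  · rintro ⟨n, hn⟩
    let ann : Ideal A := LinearMap.ker (LinearMap.toSpanSingleton A M x)
    have hle : Ideal.span {a | a ∈ fs} ≤ ann.radical := by
      rw [Ideal.span_le]
      intro g hg
      refine ⟨n, ?_⟩
      show g ^ n ∈ LinearMap.ker (LinearMap.toSpanSingleton A M x)
      rw [LinearMap.mem_ker, LinearMap.toSpanSingleton_apply]
      exact hn g hg
    obtain ⟨N, hN⟩ := Ideal.exists_pow_le_of_le_radical_of_fg hle
      ((isNoetherianRing_iff_ideal_fg A).mp inferInstance _)
    refine ⟨N, fun a ha => ?_⟩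
    have := hN ha
    rw [LinearMap.mem_ker, LinearMap.toSpanSingleton_apply] at this
    exact this

lemma range_Φ_eq (M : ModuleCat.{u} A) :
    LinearMap.range (Φ (Ideal.span {a | a ∈ fs}) M).hom = LinearMap.range (ΦT M fs) := by
  ext x
  rw [ΦT_range, ← torsion_iff]
  constructor
  · rintro ⟨y, rfl⟩
    exact Φ_mem_torsionSub _ M y
  · intro hx
    obtain ⟨y, hy⟩ := exists_Φ_eq _ M x hx
    exact ⟨y, hy⟩

/-- degree zero: `H^0_I(M)` is the colimit of the bottom Koszul cohomology, compatibly with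
the embeddings in `M` -/
lemma exists_a0 (M : ModuleCat.{u} A) :
    ∃ a : ((localCohomology (Ideal.span {a | a ∈ fs}) 0).obj M) ≃ₗ[A]
      TL M fs (-((fs.length : ℕ) : ℤ)),
      ∀ x, ΦT M fs (a x) = Φ (Ideal.span {a | a ∈ fs}) M x := by
  let e1 := LinearEquiv.ofInjective (Φ (Ideal.span {a | a ∈ fs}) M).hom (Φ_injective _ M)
  let e2 := LinearEquiv.ofInjective (ΦT M fs) (ΦT_injective M fs)
  let e3 := LinearEquiv.ofEq _ _ (range_Φ_eq fs M)
  refine ⟨e1.trans (e3.trans e2.symm), fun x => ?_⟩
  have : ((e2 ((e1.trans (e3.trans e2.symm)) x) : LinearMap.range (ΦT M fs)) : M) =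
      Φ (Ideal.span {a | a ∈ fs}) M x := by
    simp only [LinearEquiv.trans_apply, LinearEquiv.apply_symm_apply]
    rfl
  exact this

theorem main : ∀ (i : ℕ) (j : ℤ), j = (i : ℤ) - ((fs.length : ℕ) : ℤ) → ∀ M : ModuleCat.{u} A,
    Nonempty (((localCohomology (Ideal.span {a | a ∈ fs}) i).obj M) ≃ₗ[A] TL M fs j)
  | 0, j, hj, M => by
    have hj' : j = -((fs.length : ℕ) : ℤ) := by
      rw [hj]
      simp
    subst hj'
    obtain ⟨a, -⟩ := exists_a0 fs M
    exact ⟨a⟩
  | i + 1, j', hj', M => by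
    let S := injSES M
    have hS : S.ShortExact := injSES_shortExact M
    have hE : Module.Injective A S.X₂ := injSES_X₂_inj M
    have hj1 : (j' - 1) + 1 = j' := by omega
    have hpos : -((fs.length : ℕ) : ℤ) < j' := by
      rw [hj']
      push_cast
      omega
    have hsurjH : Function.Surjective (Hδ (Ideal.span {a | a ∈ fs}) i S hS).hom :=
      fun x => Hδ_surjective S hS _ i x
    have hkerH : LinearMap.ker (Hδ (Ideal.span {a | a ∈ fs}) i S hS).hom =
        LinearMap.range ((localCohomology (Ideal.span {a | a ∈ fs}) i).map S.g).hom := by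
      ext z
      constructor
      · intro hz
        obtain ⟨y, hy⟩ := H_exact₃ _ i S hS z hz
        exact ⟨y, hy⟩
      · rintro ⟨y, rfl⟩
        exact Hδ_map_g _ i S hS y
    rcases Nat.eq_zero_or_pos i with rfl | hi
    · -- degree one
      have hj0 : j' - 1 = -((fs.length : ℕ) : ℤ) := by
        rw [hj']
        push_cast
        omega
      obtain ⟨aQ, haQ⟩ := exists_a0 fs S.X₃
      obtain ⟨aE, haE⟩ := exists_a0 fs S.X₂
      have key : ∀ (j : ℤ) (hj : j = -((fs.length : ℕ) : ℤ)) (h : j + 1 = j'),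
          Nonempty (((localCohomology (Ideal.span {a | a ∈ fs}) (0 + 1)).obj M) ≃ₗ[A]
            TL M fs j') := by
        intro j hj h
        subst hj
        refine coker_transfer _ _ hsurjH hkerH (TLmap S.g fs _) (δL S hS fs _ j' h)
          (δL_surjective S hS hE fs _ j' h hpos) (δL_ker S hS fs _ j' h) aQ ?_
        ext z
        constructor
        · rintro ⟨_, ⟨w, rfl⟩, rfl⟩
          obtain ⟨w', hw'⟩ : Φ (Ideal.span {a | a ∈ fs}) S.X₂ w ∈ LinearMap.range (ΦT S.X₂ fs) := by
            rw [← range_Φ_eq]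
            exact ⟨w, rfl⟩
          refine ⟨w', ?_⟩
          apply ΦT_injective S.X₃ fs
          rw [ΦT_nat, hw']
          show _ = ΦT S.X₃ fs (aQ _)
          rw [haQ, Φ_naturality]
        · rintro ⟨w', rfl⟩
          obtain ⟨w, hw⟩ : ΦT S.X₂ fs w' ∈
              LinearMap.range (Φ (Ideal.span {a | a ∈ fs}) S.X₂).hom := by
            rw [range_Φ_eq]
            exact ⟨w', rfl⟩
          refine ⟨_, ⟨w, rfl⟩, ?_⟩
          apply ΦT_injective S.X₃ fs
          rw [ΦT_nat, ← hw]
          show ΦT S.X₃ fs (aQ _) = _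
          rw [haQ, Φ_naturality]
      exact key (j' - 1) hj0 hj1
    · -- higher degrees
      obtain ⟨n, rfl⟩ : ∃ n, i = n + 1 := ⟨i - 1, by omega⟩
      obtain ⟨a⟩ := main (n + 1) (j' - 1) (by rw [hj']; push_cast; omega) S.X₃
      have hposj : -((fs.length : ℕ) : ℤ) < j' - 1 := by
        rw [hj']
        push_cast
        omega
      have _ := TL_subsingleton fs S.X₂ hE (j' - 1) hposj
      refine coker_transfer _ _ hsurjH hkerH (TLmap S.g fs _) (δL S hS fs _ j' hj1)
        (δL_surjective S hS hE fs _ j' hj1 hpos) (δL_ker S hS fs _ j' hj1) a ?_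
      have h1 : LinearMap.range ((localCohomology (Ideal.span {a | a ∈ fs}) (n + 1)).map S.g).hom
          = ⊥ := by
        rw [eq_bot_iff]
        rintro _ ⟨y, rfl⟩
        rw [H_succ_eq_zero_of_injective _ S.X₂ n y, map_zero]
        exact Submodule.zero_mem _
      have h2 : LinearMap.range (TLmap S.g fs (j' - 1)) = ⊥ := by
        rw [eq_bot_iff]
        rintro _ ⟨y, rfl⟩
        rw [Subsingleton.elim y 0, map_zero]
        exact Submodule.zero_mem _
      rw [h1, h2, Submodule.map_bot]

end Main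

end Groth.Agent.Lib.Helper8KoszLim
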