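import Groth.Agent.Lib.Helper8CdOne
import Groth.Agent.Lib.Helper8KoszLim4
import Groth.Agent.Lib.Helper8KoszFlasque
import Groth.Prelude.Def_Coh

/-!
# Helper8CdOne2

The punctured open `U = Spec A ∖ V(f_1..f_r)` is affine when `H^2_I` vanishes on all modules.
-/

set_option autoImplicit false
universe u
open CategoryTheory CategoryTheory.Limits Opposite AlgebraicGeometry TopologicalSpace

namespace Groth.Agent.Lib.Helper8.CdOne

open Groth.Agent.Lib.Helper8KoszFlasque Groth.Agent.Lib.Helper8KoszSheaf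
open Groth.Agent.Lib.Helper8KoszLim Groth.Agent.Lib.Helper6

theorem isQuasicoherent_structureModule (P : Scheme.{u}) :
    (Coh.structureModule P).IsQuasicoherent := by
  unfold Coh.structureModule
  have h : (SheafOfModules.free (R := P.ringCatSheaf) PUnit.{u+1}).IsQuasicoherent := inferInstance
  exact (SheafOfModules.isQuasicoherent P.ringCatSheaf).prop_of_iso
    (coproductUniqueIso (fun (_ : PUnit.{u+1}) ↦ SheafOfModules.unit P.ringCatSheaf)) h

variable (A : Type u) [CommRing A] (fs : List A)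

/-- the punctured open -/
abbrev UA : (Spec (CommRingCat.of A)).Opens := LocCoh.puncturedOpen A (Ideal.span {a | a ∈ fs})

/-- the ring map `A → Γ(U, ⊤)` -/
noncomputable def φU : A →+* Γ((UA A fs : Scheme.{u}), ⊤) :=
  ((UA A fs).ι.appTop).hom.comp (φA A)

lemma basicOpen_φU (f : A) :
    (UA A fs : Scheme.{u}).basicOpen (φU A fs f) =
      (UA A fs).ι ⁻¹ᵁ ((Spec (CommRingCat.of A)).basicOpen (φA A f)) :=
  (Scheme.preimage_basicOpen (UA A fs).ι (φA A f)).symm

lemma UU_eq_top : UU (φU A fs) fs = ⊤ := by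
  rw [eq_top_iff]
  intro x _
  have hx : ((UA A fs).ι x : Spec (CommRingCat.of A)) ∈ UA A fs := x.2
  have hx' : ¬ ((Ideal.span {a | a ∈ fs} : Ideal A) : Set A) ⊆
      ((UA A fs).ι x : PrimeSpectrum A).asIdeal := hx
  rw [SetLike.coe_subset_coe, Ideal.span_le, Set.not_subset] at hx'
  obtain ⟨f, hf, hfx⟩ := hx'
  obtain ⟨i, hi⟩ := List.mem_iff_get.mp hf
  show x ∈ (⨆ i : Fin fs.length, (UA A fs : Scheme.{u}).basicOpen (φU A fs (fs.get i)))
  rw [Opens.mem_iSup]
  refine ⟨i, ?_⟩
  rw [hi, basicOpen_φU]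
  show ((UA A fs).ι x : Spec (CommRingCat.of A)) ∈
    (Spec (CommRingCat.of A)).basicOpen ((Scheme.ΓSpecIso (CommRingCat.of A)).inv f)
  rw [basicOpen_eq_of_affine (R := CommRingCat.of A) f]
  exact hfx

/-- the sections of the structure module -/
abbrev BU : Type u := Sec (Coh.structureModule (UA A fs : Scheme.{u})) (φU A fs) ⊤

/-- a section of the structure module as a function -/
def toG (b : BU A fs) : Γ((UA A fs : Scheme.{u}), ⊤) := b

/-- a function as a section of the structure module -/
def ofG (a : Γ((UA A fs : Scheme.{u}), ⊤)) : BU A fs := a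

lemma resL_bijective {X : Scheme.{u}} (F : X.Modules) {R : Type u} [CommRing R]
    (φ : R →+* Γ(X, ⊤)) {V W : X.Opens} (h : V ≤ W) (e : V = W) :
    Function.Bijective (resL F φ h) := by
  subst e
  have : ∀ s, resL F φ h s = s := by
    intro s
    show F.presheaf.map (homOfLE h).op s = s
    have : (homOfLE h).op = 𝟙 (op V) := Subsingleton.elim _ _
    rw [this, F.presheaf.map_id]
    rfl
  exact ⟨fun a b hab => by rw [← this a, ← this b]; exact hab, fun b => ⟨b, this b⟩⟩

variable [IsNoetherianRing A]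

instance : CompactSpace (UA A fs : Scheme.{u}) := by
  have : NoetherianSpace (Spec (CommRingCat.of A)) :=
    inferInstanceAs (NoetherianSpace (PrimeSpectrum A))
  exact isCompact_iff_compactSpace.mp (NoetherianSpace.isCompact _)

instance : QuasiSeparatedSpace (UA A fs : Scheme.{u}) :=
  QuasiSeparatedSpace.of_isOpenEmbedding (UA A fs).ι.isOpenEmbedding

theorem H0_BU (x : (localCohomology (Ideal.span {a | a ∈ fs}) 0).obj
    (ModuleCat.of A (BU A fs))) : x = 0 := by
  have := isQuasicoherent_structureModule (UA A fs : Scheme.{u})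
  obtain ⟨e⟩ := Groth.Agent.Lib.Helper8KoszLim.main fs 0 (-((fs.length : ℕ) : ℤ)) (by simp)
    (ModuleCat.of A (BU A fs))
  obtain ⟨e'⟩ := nonempty_ker (Coh.structureModule (UA A fs : Scheme.{u})) (φU A fs) fs
    (LinearEquiv.refl A (BU A fs)) (-((fs.length : ℕ) : ℤ)) rfl
  have hinj : Function.Injective (rU (Coh.structureModule (UA A fs : Scheme.{u})) (φU A fs) fs
      (LinearEquiv.refl A (BU A fs))) :=
    (resL_bijective _ _ le_top (UU_eq_top A fs)).1
  apply e.injective
  apply e'.symm.injective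
  apply Subtype.ext
  apply hinj
  rw [LinearMap.mem_ker.mp (e'.symm (e x)).2, LinearMap.mem_ker.mp (e'.symm (e 0)).2]

theorem H1_BU (x : (localCohomology (Ideal.span {a | a ∈ fs}) 1).obj
    (ModuleCat.of A (BU A fs))) : x = 0 := by
  have := isQuasicoherent_structureModule (UA A fs : Scheme.{u})
  obtain ⟨e⟩ := Groth.Agent.Lib.Helper8KoszLim.main fs 1 (-((fs.length : ℕ) : ℤ) + 1)
    (by push_cast; ring) (ModuleCat.of A (BU A fs))
  obtain ⟨e'⟩ := nonempty_coker (Coh.structureModule (UA A fs : Scheme.{u})) (φU A fs) fs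
    (LinearEquiv.refl A (BU A fs)) (-((fs.length : ℕ) : ℤ) + 1) rfl
  have hsurj : Function.Surjective (rU (Coh.structureModule (UA A fs : Scheme.{u})) (φU A fs) fs
      (LinearEquiv.refl A (BU A fs))) :=
    (resL_bijective _ _ le_top (UU_eq_top A fs)).2
  have hsub : Subsingleton (Sec (Coh.structureModule (UA A fs : Scheme.{u})) (φU A fs)
      (UU (φU A fs) fs) ⧸ LinearMap.range (rU (Coh.structureModule (UA A fs : Scheme.{u}))
        (φU A fs) fs (LinearEquiv.refl A (BU A fs)))) := by
    rw [Submodule.Quotient.subsingleton_iff, LinearMap.range_eq_top]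
    exact hsurj
  apply e.injective
  apply e'.symm.injective
  exact Subsingleton.elim _ _

theorem span_eq_top
    (h2 : ∀ (K : Type u) [AddCommGroup K] [Module A K],
      ∀ x : (localCohomology (Ideal.span {a | a ∈ fs}) 2).obj (ModuleCat.of A K), x = 0) :
    Ideal.span ((φU A fs) '' {a | a ∈ fs}) = ⊤ := by
  have htop := smul_top_eq_top fs (BU A fs) (H0_BU A fs) (H1_BU A fs) h2
  rw [Ideal.eq_top_iff_one]
  let one : BU A fs := ofG A fs 1
  have hone : one ∈ (Ideal.span {a | a ∈ fs}) • (⊤ : Submodule A (BU A fs)) := by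
    rw [htop]
    exact Submodule.mem_top
  have key : ∀ b ∈ (Ideal.span {a | a ∈ fs}) • (⊤ : Submodule A (BU A fs)),
      toG A fs b ∈ Ideal.span ((φU A fs) '' {a | a ∈ fs}) := by
    intro b hb
    refine Submodule.smul_induction_on hb ?_ ?_
    · intro a ha b' _
      have h1 : toG A fs (a • b') = φU A fs a * toG A fs b' := by
        show ψ (φU A fs) ⊤ a • Sec.val _ (φU A fs) b' = _
        rw [ψ_top]
        rfl
      rw [h1]
      apply Ideal.mul_mem_right
      have : φU A fs a ∈ Ideal.map (φU A fs) (Ideal.span {a | a ∈ fs}) :=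
        Ideal.mem_map_of_mem _ ha
      rwa [Ideal.map_span] at this
    · intro x y hx hy
      exact Ideal.add_mem _ hx hy
  exact key one hone

theorem isAffine_UA
    (h2 : ∀ (K : Type u) [AddCommGroup K] [Module A K],
      ∀ x : (localCohomology (Ideal.span {a | a ∈ fs}) 2).obj (ModuleCat.of A K), x = 0) :
    IsAffine (UA A fs : Scheme.{u}) := by
  apply isAffine_of_isAffineOpen_basicOpen _ (span_eq_top A fs h2)
  rintro _ ⟨f, hf, rfl⟩
  rw [basicOpen_φU]
  have h1 : IsAffineOpen ((Spec (CommRingCat.of A)).basicOpen (φA A f)) :=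
    (isAffineOpen_top _).basicOpen _
  rw [← (UA A fs).ι.isAffineOpen_iff_of_isOpenImmersion]
  have h3 : (UA A fs).ι ''ᵁ ((UA A fs).ι ⁻¹ᵁ ((Spec (CommRingCat.of A)).basicOpen (φA A f))) =
      (Spec (CommRingCat.of A)).basicOpen (φA A f) := by
    rw [Scheme.Hom.image_preimage_eq_opensRange_inf, Scheme.Opens.opensRange_ι]
    apply inf_eq_right.mpr
    show (Spec (CommRingCat.of A)).basicOpen
      ((Scheme.ΓSpecIso (CommRingCat.of A)).inv f) ≤ _
    rw [basicOpen_eq_of_affine (R := CommRingCat.of A) f]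
    intro x hx hsub
    exact hx (hsub (Ideal.subset_span hf))
  rw [h3]
  exact h1

end Groth.Agent.Lib.Helper8.CdOne
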