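import Mathlib
import Groth.Agent.S0332
import Groth.Agent.S2644
import Groth.Agent.S1802
import Groth.Agent.S0318
import Groth.Agent.Lib.Helper7CplDom
import Groth.Agent.Lib.Helper7ExcDim1
import Groth.Agent.Lib.Helper7NormLoc
import Groth.Agent.Lib.Helper8Fal
import Groth.Agent.Lib.Helper28Depth
import Groth.Agent.Lib.Helper28FormalFibres
import Groth.Agent.Lib.Helper28OnePlus2
import Groth.Agent.Lib.Helper28IAdicLocal

/-! # `cd(A, I) < dim A` for an excellent normal local domain (helper14) -/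

set_option autoImplicit false
set_option linter.unusedVariables false
set_option linter.unusedSectionVars false
set_option linter.style.haveILetI false
set_option maxHeartbeats 400000

universe u

open CategoryTheory AlgebraicGeometry

namespace Groth.Agent.Lib.Helper14.CdNormal

lemma le_zero_of_not_one_le (x : WithBot ℕ∞) (h : ¬ (1 : WithBot ℕ∞) ≤ x) : x ≤ 0 := by
  rw [not_le] at h
  induction x using WithBot.recBotCoe with
  | bot => exact bot_le
  | coe n =>
    have h' : n < 1 := by exact_mod_cast h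
    have h0 : n = 0 := Order.lt_one_iff.mp h'
    rw [h0]
    rfl

section

variable (A : Type u) [CommRing A] [IsLocalRing A] [IsNoetherianRing A]

/-- the completion of an excellent normal local domain is a domain -/
theorem isDomain_cpl [IsDomain A] [IsIntegrallyClosed A] (hA : EGA4.IsExcellent A) :
    IsDomain (EGA4.Cpl A) := by
  have hG : CAlg.IsGRing A := hA.2.2.1
  have hreg := Groth.Agent.Lib.Helper7.ExcDim1.isRegularHom_cpl_of_isGRing A hG
  have hGN := Groth.Agent.Lib.Helper7.NormLoc.hasGeomNormalFormalFibres_of_isRegularHom A hreg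
  have hN : EGA4.IsNormalRing A :=
    Groth.Agent.Lib.Helper28.OnePlus.isNormalRing_of_isIntegrallyClosed A
  have hN' := (Groth.Agent.S2644.result A hGN).mp hN
  exact Groth.Agent.Lib.Helper7.CplDom.isDomain_of_isNormalRing_of_isLocalRing _ hN'

/-- a non-maximal prime over `I` from `dim A/I ≥ 1` -/
theorem exists_prime_ne_maximal (I : Ideal A) (hI : (1 : WithBot ℕ∞) ≤ ringKrullDim (A ⧸ I)) :
    ∃ q : Ideal A, q.IsPrime ∧ I ≤ q ∧ q ≠ IsLocalRing.maximalIdeal A := by
  by_contra hcon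
  push Not at hcon
  have hle : ∀ P : Ideal (A ⧸ I), I ≤ P.comap (Ideal.Quotient.mk I) := by
    intro P x hx
    rw [Ideal.mem_comap, Ideal.Quotient.eq_zero_iff_mem.mpr hx]
    exact P.zero_mem
  have h0 : Ring.KrullDimLE 0 (A ⧸ I) := by
    rw [Ring.krullDimLE_zero_iff]
    intro P hP
    obtain ⟨M', hM', hPM'⟩ := Ideal.exists_le_maximal P hP.ne_top
    have h1 := hcon (P.comap (Ideal.Quotient.mk I)) (Ideal.comap_isPrime _ _) (hle P)
    have h2 := hcon (M'.comap (Ideal.Quotient.mk I)) (Ideal.comap_isPrime _ _) (hle M')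
    have h3 : P = M' :=
      Ideal.comap_injective_of_surjective _ Ideal.Quotient.mk_surjective (h1.trans h2.symm)
    rw [h3]
    exact hM'
  have h1 : ringKrullDim (A ⧸ I) ≤ ((0 : ℕ) : WithBot ℕ∞) := Ring.krullDimLE_iff.mp h0
  have h2 := hI.trans h1
  exact absurd h2 (by norm_num)

/-- `dim Â/IÂ ≥ 1` when `dim A/I ≥ 1` -/
theorem one_le_dim_cpl_quotient (I : Ideal A) (hI : (1 : WithBot ℕ∞) ≤ ringKrullDim (A ⧸ I)) :
    (1 : WithBot ℕ∞) ≤
      ringKrullDim (EGA4.Cpl A ⧸ I.map (algebraMap A (EGA4.Cpl A))) := by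
  obtain ⟨q, hqp, hIq, hqm⟩ := exists_prime_ne_maximal A I hI
  haveI := Groth.Agent.Lib.Helper28.faithfullyFlat_adicCompletion A
  obtain ⟨Q, hQ⟩ := PrimeSpectrum.comap_surjective_of_faithfullyFlat (A := A)
    (B := EGA4.Cpl A) ⟨q, hqp⟩
  have hQq : Q.asIdeal.comap (algebraMap A (EGA4.Cpl A)) = q := congrArg PrimeSpectrum.asIdeal hQ
  have hIQ : I.map (algebraMap A (EGA4.Cpl A)) ≤ Q.asIdeal := by
    rw [Ideal.map_le_iff_le_comap, hQq]
    exact hIq
  by_contra hcon
  have h0 := le_zero_of_not_one_le _ hcon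
  have hK : Ring.KrullDimLE 0 (EGA4.Cpl A ⧸ I.map (algebraMap A (EGA4.Cpl A))) :=
    Ring.krullDimLE_iff.mpr (by exact_mod_cast h0)
  have hker : RingHom.ker (Ideal.Quotient.mk (I.map (algebraMap A (EGA4.Cpl A)))) ≤ Q.asIdeal := by
    rw [Ideal.mk_ker]
    exact hIQ
  have hprime : (Q.asIdeal.map (Ideal.Quotient.mk (I.map (algebraMap A (EGA4.Cpl A))))).IsPrime :=
    Ideal.map_isPrime_of_surjective Ideal.Quotient.mk_surjective hker
  haveI hmax := Ring.krullDimLE_zero_iff.mp hK _ hprime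
  have hcm : (Q.asIdeal.map (Ideal.Quotient.mk (I.map (algebraMap A (EGA4.Cpl A))))).comap
      (Ideal.Quotient.mk (I.map (algebraMap A (EGA4.Cpl A)))) = Q.asIdeal := by
    rw [Ideal.comap_map_of_surjective _ Ideal.Quotient.mk_surjective,
      ← RingHom.ker_eq_comap_bot]
    exact sup_eq_left.mpr hker
  have hQmax : Q.asIdeal.IsMaximal := by
    rw [← hcm]
    exact Ideal.comap_isMaximal_of_surjective _ Ideal.Quotient.mk_surjective
  have hm : (IsLocalRing.maximalIdeal A).map (algebraMap A (EGA4.Cpl A)) ≤ Q.asIdeal :=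
    Groth.Agent.Lib.Helper28.map_le_of_isMaximal_adicCompletion (IsLocalRing.maximalIdeal A)
      Q.asIdeal
  have hmq : IsLocalRing.maximalIdeal A ≤ q := by
    rw [← hQq]
    exact Ideal.map_le_iff_le_comap.mp hm
  exact hqm ((IsLocalRing.maximalIdeal.isMaximal A).eq_of_le hqp.ne_top hmq).symm

/-- part 1: vanishing of local cohomology in degrees `≥ dim A` -/
theorem subsingleton_H [IsDomain A] [IsIntegrallyClosed A] (hA : EGA4.IsExcellent A)
    (I : Ideal A) (hI : (1 : WithBot ℕ∞) ≤ ringKrullDim (A ⧸ I))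
    (M : Type u) [AddCommGroup M] [Module A M] (i : ℕ)
    (hi : ringKrullDim A ≤ (i : WithBot ℕ∞)) : Subsingleton (LocCoh.H I i M) := by
  haveI := isDomain_cpl A hA
  have h1 : ringKrullDim A ≠ ⊥ := ringKrullDim_ne_bot
  have h2 : ringKrullDim A ≠ ⊤ := ringKrullDim_ne_top
  obtain ⟨d, hd⟩ : ∃ d : ℕ, ringKrullDim A = d := by
    obtain ⟨x, hx⟩ := WithBot.ne_bot_iff_exists.mp h1
    have hxt : x ≠ ⊤ := by
      rintro rfl
      exact h2 hx.symm
    obtain ⟨n, rfl⟩ := ENat.ne_top_iff_exists.mp hxt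
    exact ⟨n, hx.symm⟩
  refine Groth.Agent.S0332.result A I d hd ?_ M i ?_
  · intro p hp _
    rw [IsDomain.minimalPrimes_eq_singleton_bot, Set.mem_singleton_iff] at hp
    subst hp
    rw [sup_bot_eq]
    exact one_le_dim_cpl_quotient A I hI
  · rw [hd] at hi
    exact_mod_cast hi

/-- `cd(A, I) > 0` for a nonzero proper ideal of a Noetherian domain -/
theorem not_cdLE_zero [IsDomain A] (I : Ideal A) (hI0 : I ≠ ⊥) (hI1 : I ≠ ⊤) :
    ¬ LocCoh.CdLE A I 0 := by
  have hIM : I • (⊤ : Submodule A A) ≠ ⊤ := by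
    rw [smul_eq_mul, Ideal.mul_top]
    exact hI1
  have hfin := Groth.Agent.Lib.Helper28.idealDepth_ne_top hIM
  obtain ⟨n, hn⟩ := ENat.ne_top_iff_exists.mp hfin
  obtain ⟨hlow, hnt⟩ := (Groth.Agent.S0318.result A I A hIM n).mp hn.symm
  have hn0 : n ≠ 0 := by
    rintro rfl
    have htors : DRing.torsionSub I A = ⊥ := by
      rw [eq_bot_iff]
      rintro m ⟨k, hk⟩
      obtain ⟨x, hxI, hx0⟩ := Submodule.exists_mem_ne_zero_of_ne_bot hI0
      have h1 := hk (x ^ k) (Ideal.pow_mem_pow hxI k)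
      rw [smul_eq_mul] at h1
      rcases mul_eq_zero.mp h1 with h2 | h2
      · exact absurd (pow_eq_zero_iff (n := k) (by
          rintro rfl
          rw [pow_zero] at h2
          exact one_ne_zero h2) |>.mp h2) hx0
      · exact h2
    have hz := Groth.Agent.Lib.Helper8.Fal.H_zero_eq_zero_of_torsionSub_eq_bot I A htors
    exact not_subsingleton _ ⟨fun a b => (hz a).trans (hz b).symm⟩
  intro hcd0
  have := hcd0 A n (Nat.pos_of_ne_zero hn0)
  exact not_subsingleton _ this

/-- part 2: the punctured open is affine in dimension two -/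
theorem isAffine_punctured [IsDomain A] [IsIntegrallyClosed A] (hA : EGA4.IsExcellent A)
    (I : Ideal A) (hI : (1 : WithBot ℕ∞) ≤ ringKrullDim (A ⧸ I)) (hdim : ringKrullDim A = 2) :
    IsAffine (↑(LocCoh.puncturedOpen A I) : Scheme.{u}) := by
  have hcd1 : LocCoh.CdLE A I 1 := fun M _ _ i hi =>
    subsingleton_H A hA I hI M i (by
      rw [hdim]
      have : (2 : ℕ) ≤ i := hi
      exact_mod_cast this)
  by_cases hI0 : I = ⊥
  · subst hI0
    haveI : IsEmpty ↥(↑(LocCoh.puncturedOpen A (⊥ : Ideal A)) : Scheme.{u}) := by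
      refine ⟨fun x => ?_⟩
      apply x.2
      change (x.1 : PrimeSpectrum A) ∈ PrimeSpectrum.zeroLocus (((⊥ : Ideal A) : Set A))
      intro a ha
      change a ∈ (x.1 : PrimeSpectrum A).asIdeal
      have ha0 : a = 0 := ha
      rw [ha0]
      exact Ideal.zero_mem _
    exact isAffine_of_isEmpty
  · have hI1 : I ≠ ⊤ := by
      rintro rfl
      haveI : Subsingleton (A ⧸ (⊤ : Ideal A)) := Ideal.Quotient.subsingleton_iff.mpr rfl
      rw [ringKrullDim_eq_bot_of_subsingleton] at hI
      exact absurd hI (by simp)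
    exact (Groth.Agent.S1802.result A I hcd1 (not_cdLE_zero A I hI0 hI1)).2

end

end Groth.Agent.Lib.Helper14.CdNormal
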