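import Groth.Agent.Lib.Helper17Tot11

/-!
# Double complexes bounded in the outer direction (helper17)

* `finSupp_of_outer_bounded`: a double complex whose columns `K.X p` vanish outside `[a, b]` has
  finite antidiagonals.
* `colToTotal`: for a double complex concentrated in outer degree `0`, the isomorphism between the
  column `K.X 0` and the total complex.
-/

set_option backward.isDefEq.respectTransparency false
set_option autoImplicit false

universe v u

open CategoryTheory CategoryTheory.Limits ZeroObject

namespace Groth.Agent.Lib.Helper17.Tot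

variable {C : Type u} [Category.{v} C] [Abelian C]

local notation "upℤ" => ComplexShape.up ℤ

lemma finSupp_of_outer_bounded (K : HomologicalComplex₂ C upℤ upℤ) (a b : ℤ)
    (h : ∀ p : ℤ, p < a ∨ b < p → IsZero (K.X p)) : FinSupp upℤ K where
  fin m := ⟨(Finset.Icc a b).image (fun p => (p, m - p)), fun p q hpq hmem => by
    by_cases hp : p < a ∨ b < p
    · exact (HomologicalComplex.eval C upℤ q).map_isZero (h p hp)
    · exfalso
      apply hmem
      rw [Finset.mem_image]
      have : p + q = m := hpq
      refine ⟨p, Finset.mem_Icc.2 ⟨by omega, by omega⟩, ?_⟩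
      ext
      · rfl
      · change m - p = q
        omega⟩

section Col

variable (S : HomologicalComplex₂ C upℤ upℤ) [FinSupp upℤ S] (hS : ∀ p : ℤ, p ≠ 0 → IsZero (S.X p))

include hS in
lemma isIso_ιTotal_zero (k : ℤ) : IsIso (S.ιTotal upℤ 0 k k (zero_add k)) := by
  apply isIso_ιTotal
  intro p q hpq hne
  have hp : p ≠ 0 := by
    intro hp
    apply hne
    have : p + q = k := hpq
    exact ⟨hp, by omega⟩
  exact (HomologicalComplex.eval C upℤ q).map_isZero (hS p hp)

/-- the chain map from the column `0` to the total complex. -/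
noncomputable def colToTotal : S.X 0 ⟶ S.total upℤ where
  f k := S.ιTotal upℤ 0 k k (zero_add k)
  comm' k k' h := by
    obtain rfl : k + 1 = k' := h
    rw [HomologicalComplex₂.total_d, Preadditive.comp_add, HomologicalComplex₂.ι_D₁,
      HomologicalComplex₂.ι_D₂,
      HomologicalComplex₂.d₂_eq S upℤ 0 (show (upℤ).Rel k (k + 1) from rfl) (k + 1) (zero_add _)]
    have h1 : S.d₁ upℤ 0 k (k + 1) = 0 := by
      rw [HomologicalComplex₂.d₁_eq' S upℤ (show (upℤ).Rel 0 1 from rfl) k (k + 1)]
      have : (S.d 0 1).f k = 0 :=
        ((HomologicalComplex.eval C upℤ k).map_isZero (hS 1 (by omega))).eq_of_tgt _ _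
      rw [this, zero_comp, smul_zero]
    have h2 : ComplexShape.ε₂ upℤ upℤ upℤ (0, k) = 1 := by
      change (0 : ℤ).negOnePow = 1
      exact Int.negOnePow_zero
    rw [h1, zero_add, h2, one_smul]

instance isIso_colToTotal_f (k : ℤ) (hS : ∀ p : ℤ, p ≠ 0 → IsZero (S.X p)) :
    IsIso ((colToTotal S hS).f k) :=
  isIso_ιTotal_zero S hS k

lemma isIso_colToTotal : IsIso (colToTotal S hS) := by
  haveI : ∀ k, IsIso ((colToTotal S hS).f k) := fun k => isIso_colToTotal_f S k hS
  exact HomologicalComplex.Hom.isIso_of_components _

end Col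

end Groth.Agent.Lib.Helper17.Tot
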