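import Groth.Agent.Lib.Helper17Tot8
import Mathlib.Algebra.Homology.TotalComplexSymmetry

/-!
# The total complex functor preserves quasi-isomorphisms: the inner direction

Using the flip of double complexes, a morphism of double complexes (integer bidegrees, finite
antidiagonals) which is a quasi-isomorphism on each column `K.X p` induces a quasi-isomorphism
on total complexes.
-/

set_option backward.isDefEq.respectTransparency false
set_option autoImplicit false

universe v u

open CategoryTheory CategoryTheory.Limits ZeroObject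

namespace Groth.Agent.Lib.Helper17.Tot

variable {C : Type u} [Category.{v} C] [Abelian C]

local notation "upℤ" => ComplexShape.up ℤ

/-- the flip has finite antidiagonals. -/
instance finSupp_flip (K : HomologicalComplex₂ C upℤ upℤ) [FinSupp upℤ K] :
    FinSupp upℤ K.flip where
  fin n := by
    obtain ⟨S, hS⟩ := FinSupp.fin (c₁₂ := upℤ) (K := K) n
    refine ⟨S.image Prod.swap, fun q p hqp hmem => hS p q ?_ ?_⟩
    · have : q + p = n := hqp
      change p + q = n
      omega
    · intro h
      exact hmem (Finset.mem_image.2 ⟨(p, q), h, rfl⟩)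

/-- the flip of a morphism. -/
abbrev flipMap {K L : HomologicalComplex₂ C upℤ upℤ} (φ : K ⟶ L) : K.flip ⟶ L.flip :=
  (HomologicalComplex₂.flipFunctor C upℤ upℤ).map φ

lemma totalFlipIso_naturality {K L : HomologicalComplex₂ C upℤ upℤ} [K.HasTotal upℤ]
    [L.HasTotal upℤ] (φ : K ⟶ L) :
    HomologicalComplex₂.total.map (flipMap φ) upℤ ≫ (L.totalFlipIso upℤ).hom =
      (K.totalFlipIso upℤ).hom ≫ HomologicalComplex₂.total.map φ upℤ := by
  ext n q p h
  rw [HomologicalComplex.comp_f, HomologicalComplex.comp_f,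
    HomologicalComplex₂.ιTotal_map_assoc, HomologicalComplex₂.ιTotal_totalFlipIso_f_hom,
    HomologicalComplex₂.ιTotal_totalFlipIso_f_hom_assoc, Linear.comp_units_smul,
    Linear.units_smul_comp, HomologicalComplex₂.ιTotal_map]
  rfl

/-- the rows of the flip are the columns. -/
noncomputable def rowFlipIso (K : HomologicalComplex₂ C upℤ upℤ) (p : ℤ) : row K.flip p ≅ K.X p :=
  HomologicalComplex.Hom.isoOfComponents (fun _ => Iso.refl _) (by
    intro i j _
    change 𝟙 _ ≫ (K.X p).d i j = (K.X p).d i j ≫ 𝟙 _
    rw [Category.id_comp, Category.comp_id])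

lemma quasiIso_rowMap_flip {K L : HomologicalComplex₂ C upℤ upℤ} (φ : K ⟶ L) (p : ℤ)
    (hφ : QuasiIso (φ.f p)) : QuasiIso (rowMap (flipMap φ) p) := by
  refine (quasiIso_iff_of_arrow_mk_iso _ _
    (Arrow.isoMk (rowFlipIso K p) (rowFlipIso L p) ?_)).2 hφ
  ext q
  change 𝟙 _ ≫ (φ.f p).f q = (φ.f p).f q ≫ 𝟙 _
  rw [Category.id_comp, Category.comp_id]

/-- **The total complex functor preserves quasi-isomorphisms** (finite antidiagonals, columns). -/
theorem quasiIso_total_map_of_cols {K L : HomologicalComplex₂ C upℤ upℤ} [FinSupp upℤ K]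
    [FinSupp upℤ L] (φ : K ⟶ L) (hφ : ∀ p, QuasiIso (φ.f p)) :
    QuasiIso (HomologicalComplex₂.total.map φ upℤ) := by
  haveI : QuasiIso (HomologicalComplex₂.total.map (flipMap φ) upℤ) :=
    quasiIso_total_map_of_rows (flipMap φ) (fun p => quasiIso_rowMap_flip φ p (hφ p))
  have e : HomologicalComplex₂.total.map φ upℤ = (K.totalFlipIso upℤ).inv ≫
      HomologicalComplex₂.total.map (flipMap φ) upℤ ≫ (L.totalFlipIso upℤ).hom := by
    rw [totalFlipIso_naturality, Iso.inv_hom_id_assoc]
  rw [e]
  infer_instance

end Groth.Agent.Lib.Helper17.Tot
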