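import Groth.Agent.Lib.Helper21AC3

/-!
# The algebraic augmented Čech complex, indexed by `ℤ` (helper21)

* `Ψ0Iso : Ψ f 0 ≅ 𝟭`.
* `Cz f : ModuleCat A ⥤ CochainComplex (ModuleCat A) ℤ`, the extension by zero of `cechAugFunctor f`;
  `CzEvalIso`, `isZero_Cz_X_neg`, `exactAt_Cz`.
* `GoodC f N`: the complex `Cz f N` is exact; closure properties.
-/

set_option autoImplicit false

namespace Groth.Agent.Lib.Helper21.AC

open CategoryTheory CategoryTheory.Limits

universe u

variable {A : Type u} [CommRing A] {I : Type u} (f : I → A)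

section Zero

/-- the empty tuple. -/
def x0 : Fin 0 → I := Fin.elim0

lemma Sub_zero_le (x : Fin 0 → I) (S : Submonoid A) : Sub f x ≤ S :=
  Submonoid.closure_le.2 (by rintro _ ⟨k, rfl⟩; exact k.elim0)

variable (N : Type u) [AddCommGroup N] [Module A N]

/-- `N → Ĉ^0(N)`. -/
noncomputable def toCX0 : N →ₗ[A] CXt f N 0 :=
  LinearMap.pi fun x => LocalizedModule.mkLinearMap (Sub f x) N

/-- `Ĉ^0(N) → N`. -/
noncomputable def ofCX0 : CXt f N 0 →ₗ[A] N :=
  (locLift (Sub_zero_le f x0 _) (LinearMap.id : N →ₗ[A] N)).comp (LinearMap.proj x0)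

lemma ofCX0_toCX0 (y : N) : ofCX0 f N (toCX0 f N y) = y :=
  locLift_mk (Sub_zero_le f x0 _) LinearMap.id y

lemma toCX0_ofCX0 (c : CXt f N 0) : toCX0 f N (ofCX0 f N c) = c := by
  funext x
  change LocalizedModule.mk (locLift (Sub_zero_le f x0 _) (LinearMap.id : N →ₗ[A] N) (c x0)) 1 = c x
  exact canon_congr f (Subsingleton.elim x0 x)
    ((LocalizedModule.mkLinearMap (Sub f x) N).comp
      (locLift (Sub_zero_le f x0 _) (LinearMap.id : N →ₗ[A] N))) LinearMap.id
    (fun z => by rw [LinearMap.comp_apply, locLift_mk]; rfl) (fun z => rfl)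
    (Sub_zero_le f x0 _) c

/-- `Ĉ^0(N) ≃ N`. -/
noncomputable def CX0Equiv : CXt f N 0 ≃ₗ[A] N :=
  LinearEquiv.ofLinear (ofCX0 f N) (toCX0 f N) (LinearMap.ext (ofCX0_toCX0 f N))
    (LinearMap.ext (toCX0_ofCX0 f N))

variable {N} in
lemma ofCX0_mapX {N' : Type u} [AddCommGroup N'] [Module A N'] (g : N →ₗ[A] N') (c : CXt f N 0) :
    ofCX0 f N' (mapX f g 0 c) = g (ofCX0 f N c) := by
  change locLift (Sub_zero_le f x0 _) (LinearMap.id : N' →ₗ[A] N') (locMap (Sub f x0) g (c x0)) =
    g (locLift (Sub_zero_le f x0 _) (LinearMap.id : N →ₗ[A] N) (c x0))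
  have : (locLift (Sub_zero_le f x0 _) (LinearMap.id : N' →ₗ[A] N')).comp (locMap (Sub f x0) g) =
      g.comp (locLift (Sub_zero_le f x0 _) (LinearMap.id : N →ₗ[A] N)) :=
    loc_hom_ext (Sub_zero_le f x0 _) (fun z => by
      rw [LinearMap.comp_apply, LinearMap.comp_apply, locMap_mk, locLift_mk, locLift_mk]; rfl)
  exact LinearMap.congr_fun this (c x0)

end Zero

/-- the degree zero term of the augmented Čech complex is the identity functor. -/
noncomputable def Ψ0Iso : Ψ f 0 ≅ 𝟭 (ModuleCat.{u} A) :=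
  NatIso.ofComponents (fun N => (CX0Equiv f N).toModuleIso) (by
    intro N N' g
    apply ModuleCat.hom_ext
    ext c : 1
    exact ofCX0_mapX f g.hom c)

/-- the augmented Čech complex functor, indexed by `ℤ`. -/
noncomputable def Cz : ModuleCat.{u} A ⥤ CochainComplex (ModuleCat.{u} A) ℤ :=
  cechAugFunctor f ⋙ ComplexShape.embeddingUpNat.extendFunctor (ModuleCat.{u} A)

instance : (Cz f).Additive := by
  unfold Cz
  infer_instance

lemma Cz_obj (N : ModuleCat.{u} A) :
    (Cz f).obj N = (cechAug f N).extend ComplexShape.embeddingUpNat := rfl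

lemma eUN (n : ℕ) : ComplexShape.embeddingUpNat.f n = (n : ℤ) := rfl

/-- the terms of `Cz` in nonnegative degrees. -/
noncomputable def CzEvalIso (n : ℕ) :
    Cz f ⋙ HomologicalComplex.eval (ModuleCat.{u} A) (ComplexShape.up ℤ) (n : ℤ) ≅ Ψ f n :=
  NatIso.ofComponents
    (fun N => ((cechAugFunctor f).obj N).extendXIso ComplexShape.embeddingUpNat (eUN n))
    (by
      intro N N' g
      change (HomologicalComplex.extendMap ((cechAugFunctor f).map g) ComplexShape.embeddingUpNat).f
        (n : ℤ) ≫ _ = _ ≫ ((cechAugFunctor f).map g).f n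
      rw [HomologicalComplex.extendMap_f _ ComplexShape.embeddingUpNat (eUN n),
        Category.assoc, Category.assoc, Iso.inv_hom_id, Category.comp_id])

lemma isZero_Cz_X_neg (N : ModuleCat.{u} A) (p : ℤ) (hp : p < 0) : IsZero (((Cz f).obj N).X p) := by
  apply HomologicalComplex.isZero_extend_X
  intro i hi
  have : (i : ℤ) = p := hi
  omega

lemma exactAt_Cz_neg (N : ModuleCat.{u} A) (p : ℤ) (hp : p < 0) : ((Cz f).obj N).ExactAt p :=
  HomologicalComplex.ExactAt.of_isZero (isZero_Cz_X_neg f N p hp)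

lemma exactAt_Cz_iff (N : ModuleCat.{u} A) (n : ℕ) :
    ((Cz f).obj N).ExactAt (n : ℤ) ↔ (cechAug f N).ExactAt n :=
  HomologicalComplex.extend_exactAt_iff (cechAug f N) ComplexShape.embeddingUpNat (eUN n)

/-- the homology of `Cz` in nonnegative degrees. -/
noncomputable def CzHomologyIso (N : ModuleCat.{u} A) (n : ℕ) :
    ((Cz f).obj N).homology (n : ℤ) ≅ (cechAug f N).homology n :=
  HomologicalComplex.extendHomologyIso (cechAug f N) ComplexShape.embeddingUpNat (eUN n)

/-- the complex `Cz f N` is exact. -/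
def GoodC (N : ModuleCat.{u} A) : Prop := ∀ p : ℤ, ((Cz f).obj N).ExactAt p

lemma goodC_of_mem_unitSub (N : ModuleCat.{u} A) (j : I) (hj : f j ∈ unitSub (A := A) N) :
    GoodC f N := by
  intro p
  by_cases hp : p < 0
  · exact exactAt_Cz_neg f N p hp
  · obtain ⟨n, rfl⟩ : ∃ n : ℕ, (n : ℤ) = p := ⟨p.toNat, Int.toNat_of_nonneg (by omega)⟩
    rw [exactAt_Cz_iff]
    exact exactAt_cechAug f j hj n

lemma goodC_of_iso {N N' : ModuleCat.{u} A} (e : N ≅ N') (h : GoodC f N) : GoodC f N' := by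
  intro p
  rw [HomologicalComplex.exactAt_iff_isZero_homology]
  have := h p
  rw [HomologicalComplex.exactAt_iff_isZero_homology] at this
  exact this.of_iso ((Cz f ⋙ HomologicalComplex.homologyFunctor _ _ p).mapIso e).symm

lemma goodC_of_isZero {N : ModuleCat.{u} A} (h : IsZero N) : GoodC f N := by
  intro p
  exact HomologicalComplex.ExactAt.of_isZero
    ((Cz f ⋙ HomologicalComplex.eval _ _ p).map_isZero h)

lemma goodC_biprod {N N' : ModuleCat.{u} A} (h : GoodC f N) (h' : GoodC f N') : GoodC f (N ⊞ N') := by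
  intro p
  rw [HomologicalComplex.exactAt_iff_isZero_homology]
  have h1 := h p
  have h2 := h' p
  rw [HomologicalComplex.exactAt_iff_isZero_homology] at h1 h2
  set F := Cz f ⋙ HomologicalComplex.homologyFunctor (ModuleCat.{u} A) (ComplexShape.up ℤ) p with hF
  change IsZero (F.obj (N ⊞ N'))
  have h1' : IsZero (F.obj N) := h1
  have h2' : IsZero (F.obj N') := h2
  rw [IsZero.iff_id_eq_zero, ← F.map_id, ← biprod.total, F.map_add, F.map_comp, F.map_comp,
    h1'.eq_of_tgt (F.map biprod.fst) 0, h2'.eq_of_tgt (F.map biprod.snd) 0, zero_comp, zero_comp,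
    add_zero]

end Groth.Agent.Lib.Helper21.AC
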