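import Groth.Agent.Lib.Helper21KC3
import Groth.Agent.Lib.Helper21AC4
import Groth.Agent.Lib.Helper17Tot9
import Groth.Agent.Lib.Helper17Tot12

/-!
# The augmented Čech complex computes the colimit of Koszul cohomologies (helper21)

Double complex argument: `Cz f` applied termwise to the shifted complex `Esh = Kinf[-r]`.
Main result: `nonempty_cechAug_homology_equiv`.
-/

set_option autoImplicit false

namespace Groth.Agent.Lib.Helper21.KCD

open CategoryTheory CategoryTheory.Limits CochainComplex HomComplex CohIII DerCA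
open Groth.Agent.Lib.Helper21 Groth.Agent.Lib.Helper21.KC Groth.Agent.Lib.Helper21.AC
open Groth.Agent.Lib.Helper17.Tot

universe u

variable {A : Type u} [CommRing A]

local notation "upℤ" => ComplexShape.up ℤ

/-- the shifted complex, in degrees `[0, r]`. -/
noncomputable def Esh (M : ModuleCat.{u} A) (fs : List A) : CochainComplex (ModuleCat.{u} A) ℤ :=
  (CategoryTheory.shiftFunctor (CochainComplex (ModuleCat.{u} A) ℤ) (-(fs.length : ℤ))).obj (Kinf M fs)

lemma Esh_X (M : ModuleCat.{u} A) (fs : List A) (q : ℤ) :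
    (Esh M fs).X q = (Kinf M fs).X (q + -(fs.length : ℤ)) := rfl

lemma isZero_Esh_X_neg (M : ModuleCat.{u} A) (fs : List A) (q : ℤ) (hq : q < 0) :
    IsZero ((Esh M fs).X q) :=
  isZero_Kinf_X_neg M fs (q + -(fs.length : ℤ)) (by omega)

lemma nonempty_Esh_X_zero_iso (M : ModuleCat.{u} A) (fs : List A) :
    Nonempty ((Esh M fs).X 0 ≅ M) := by
  obtain ⟨e⟩ := nonempty_Kinf_X_bot_iso M fs
  exact ⟨(HomologicalComplex.XIsoOfEq (Kinf M fs)
    (show (0 : ℤ) + -(fs.length : ℤ) = -(fs.length : ℤ) by omega)) ≪≫ e⟩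

/-- the homology of the shift. -/
noncomputable def EshHomologyIso (M : ModuleCat.{u} A) (fs : List A) (q j : ℤ)
    (h : q - fs.length = j) :
    (Esh M fs).homology q ≅ (Kinf M fs).homology j :=
  (CochainComplex.ShiftSequence.shiftIso (ModuleCat.{u} A) (-(fs.length : ℤ)) q j (by omega)).app
    (Kinf M fs)

variable {I : Type u} (f : I → A)

lemma pt_homology_Esh (M : ModuleCat.{u} A) (fs : List A) (hf1 : ∀ i, f i ∈ fs) (i : I) (q : ℤ)
    (y : (Esh M fs).homology q) : ∃ m : ℕ, f i ^ m • y = 0 := by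
  obtain ⟨m, hm⟩ := pt_homology_Kinf M fs (f i) (hf1 i) _
    ((EshHomologyIso M fs q _ rfl).hom.hom y)
  refine ⟨m, ?_⟩
  apply (ModuleCat.mono_iff_injective _).1
    (inferInstance : Mono (EshHomologyIso M fs q _ rfl).hom)
  rw [map_smul, hm, map_zero]

lemma goodC_Esh_X (M : ModuleCat.{u} A) (fs : List A) (hf2 : ∀ g ∈ fs, ∃ i, f i = g) (q : ℤ)
    (hq : q ≠ 0) : GoodC f ((Esh M fs).X q) := by
  refine Kinf_X_induction (GoodC f) (fun X Y e h => goodC_of_iso f e h)
    (fun X h => goodC_of_isZero f h) (fun X Y h h' => goodC_biprod f h h') M fs ?_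
    (q + -(fs.length : ℤ)) (by omega)
  intro g hg N
  obtain ⟨i, rfl⟩ := hf2 g hg
  exact goodC_of_mem_unitSub f _ i
    (le_unitSub_loc (le_refl (Submonoid.powers (f i))) N (Submonoid.mem_powers (f i)))

/-- the double complex. -/
noncomputable def DD (M : ModuleCat.{u} A) (fs : List A) :
    HomologicalComplex₂ (ModuleCat.{u} A) upℤ upℤ :=
  ((Cz f).mapHomologicalComplex upℤ).obj (Esh M fs)

lemma DD_X (M : ModuleCat.{u} A) (fs : List A) (q : ℤ) :
    (DD f M fs).X q = (Cz f).obj ((Esh M fs).X q) := rfl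

/-- for any complex `K` concentrated in nonnegative degrees, `Cz` applied termwise has finite antidiagonals. -/
lemma finSupp_map_Cz (K : CochainComplex (ModuleCat.{u} A) ℤ) (hK : ∀ q : ℤ, q < 0 → IsZero (K.X q)) :
    FinSupp upℤ (((Cz f).mapHomologicalComplex upℤ).obj K) :=
  finSupp_of_bounded_below _ 0 0 (by
    rintro p q (hp | hq)
    · exact (Cz f ⋙ HomologicalComplex.eval _ _ q).map_isZero (hK p hp)
    · exact isZero_Cz_X_neg f _ q hq)

instance (M : ModuleCat.{u} A) (fs : List A) : FinSupp upℤ (DD f M fs) :=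
  finSupp_map_Cz f _ (isZero_Esh_X_neg M fs)

lemma quasiIso_of_exact {K L : CochainComplex (ModuleCat.{u} A) ℤ} (φ : K ⟶ L)
    (hK : ∀ n, K.ExactAt n) (hL : ∀ n, L.ExactAt n) : QuasiIso φ := by
  rw [quasiIso_iff]
  intro n
  rw [quasiIsoAt_iff_exactAt φ n (hK n)]
  exact hL n

section General

variable (K : CochainComplex (ModuleCat.{u} A) ℤ) (hK0 : ∀ q : ℤ, q < 0 → IsZero (K.X q))

/-- the double complex. -/
noncomputable def DK : HomologicalComplex₂ (ModuleCat.{u} A) upℤ upℤ :=
  ((Cz f).mapHomologicalComplex upℤ).obj K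

/-- the projection to the degree zero term. -/
noncomputable def πK : K ⟶ (HomologicalComplex.single (ModuleCat.{u} A) upℤ 0).obj (K.X 0) :=
  HomologicalComplex.mkHomToSingle (𝟙 _) (by
    intro i hi
    exact (hK0 i (by have : i + 1 = 0 := hi; omega)).eq_of_src _ _)

/-- the first comparison double complex. -/
noncomputable def D₁ : HomologicalComplex₂ (ModuleCat.{u} A) upℤ upℤ :=
  ((Cz f).mapHomologicalComplex upℤ).obj
    ((HomologicalComplex.single (ModuleCat.{u} A) upℤ 0).obj (K.X 0))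

/-- the first comparison map. -/
noncomputable def φ₁ : DK f K ⟶ D₁ f K :=
  ((Cz f).mapHomologicalComplex upℤ).map (πK K hK0)

include hK0 in
lemma finSupp_DK : FinSupp upℤ (DK f K) := finSupp_map_Cz f K hK0

lemma finSupp_D₁ : FinSupp upℤ (D₁ f K) :=
  finSupp_map_Cz f _ (fun q hq =>
    HomologicalComplex.isZero_single_obj_X upℤ 0 (K.X 0) q (by omega))

lemma isZero_D₁_X (p : ℤ) (hp : p ≠ 0) : IsZero ((D₁ f K).X p) :=
  (Cz f).map_isZero (HomologicalComplex.isZero_single_obj_X upℤ 0 (K.X 0) p hp)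

lemma quasiIso_φ₁_f (hgood : ∀ q : ℤ, q ≠ 0 → GoodC f (K.X q)) (p : ℤ) :
    QuasiIso ((φ₁ f K hK0).f p) := by
  by_cases hp : p = 0
  · subst hp
    haveI : IsIso ((πK K hK0).f 0) := by
      unfold πK
      rw [HomologicalComplex.mkHomToSingle_f]
      infer_instance
    haveI : IsIso ((φ₁ f K hK0).f 0) := by
      change IsIso ((Cz f).map ((πK K hK0).f 0))
      infer_instance
    infer_instance
  · apply quasiIso_of_exact
    · exact hgood p hp
    · intro n
      exact HomologicalComplex.ExactAt.of_isZero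
        ((HomologicalComplex.eval _ _ n).map_isZero (isZero_D₁_X f K p hp))

end General

lemma eUN0 : ComplexShape.embeddingUpNat.f 0 = (0 : ℤ) := rfl

/-- the degree zero term of `Cz`, first step. -/
noncomputable def CzX0Iso' (N : ModuleCat.{u} A) : ((Cz f).obj N).X 0 ≅ (Ψ f 0).obj N :=
  ((cechAugFunctor f).obj N).extendXIso ComplexShape.embeddingUpNat eUN0

lemma CzX0Iso'_naturality {N N' : ModuleCat.{u} A} (g : N ⟶ N') :
    ((Cz f).map g).f 0 ≫ (CzX0Iso' f N').hom = (CzX0Iso' f N).hom ≫ (Ψ f 0).map g := by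
  change (HomologicalComplex.extendMap ((cechAugFunctor f).map g) ComplexShape.embeddingUpNat).f
        0 ≫ (((cechAugFunctor f).obj N').extendXIso ComplexShape.embeddingUpNat eUN0).hom =
      (((cechAugFunctor f).obj N).extendXIso ComplexShape.embeddingUpNat eUN0).hom ≫
        ((cechAugFunctor f).map g).f 0
  rw [HomologicalComplex.extendMap_f _ ComplexShape.embeddingUpNat eUN0,
    Category.assoc, Category.assoc, Iso.inv_hom_id, Category.comp_id]

/-- the degree zero term of `Cz`. -/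
noncomputable def CzX0Iso (N : ModuleCat.{u} A) : ((Cz f).obj N).X 0 ≅ N :=
  CzX0Iso' f N ≪≫ (Ψ0Iso f).app N

lemma CzX0Iso_naturality {N N' : ModuleCat.{u} A} (g : N ⟶ N') :
    ((Cz f).map g).f 0 ≫ (CzX0Iso f N').hom = (CzX0Iso f N).hom ≫ g := by
  have h2 : (Ψ f 0).map g ≫ (Ψ0Iso f).hom.app N' = (Ψ0Iso f).hom.app N ≫ g :=
    (Ψ0Iso f).hom.naturality g
  unfold CzX0Iso
  simp only [Iso.trans_hom, Iso.app_hom, Category.assoc]
  rw [← Category.assoc, CzX0Iso'_naturality, Category.assoc, h2]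

/-- the projection of `Cz` to its degree zero term. -/
noncomputable def τ : Cz f ⟶ HomologicalComplex.single (ModuleCat.{u} A) upℤ 0 where
  app N := HomologicalComplex.mkHomToSingle (CzX0Iso f N).hom (by
    intro i hi
    exact (isZero_Cz_X_neg f N i (by have : i + 1 = 0 := hi; omega)).eq_of_src _ _)
  naturality N N' g := by
    apply HomologicalComplex.to_single_hom_ext
    rw [HomologicalComplex.comp_f, HomologicalComplex.comp_f, HomologicalComplex.mkHomToSingle_f,
      HomologicalComplex.mkHomToSingle_f, HomologicalComplex.single_map_f_self,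
      ← Category.assoc, CzX0Iso_naturality]
    simp

lemma isIso_τ_app_f_zero (N : ModuleCat.{u} A) : IsIso (((τ f).app N).f 0) := by
  unfold τ
  dsimp only
  rw [HomologicalComplex.mkHomToSingle_f]
  infer_instance


section General2

variable (K : CochainComplex (ModuleCat.{u} A) ℤ) (hK0 : ∀ q : ℤ, q < 0 → IsZero (K.X q))

/-- the second comparison double complex. -/
noncomputable def D₂ : HomologicalComplex₂ (ModuleCat.{u} A) upℤ upℤ :=
  ((HomologicalComplex.single (ModuleCat.{u} A) upℤ 0).mapHomologicalComplex upℤ).obj K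

/-- the second comparison map. -/
noncomputable def φ₂ : DK f K ⟶ D₂ K :=
  (NatTrans.mapHomologicalComplex (τ f) upℤ).app K

lemma isZero_D₂_X_X (p q : ℤ) (hq : q ≠ 0) : IsZero (((D₂ K).X p).X q) :=
  HomologicalComplex.isZero_single_obj_X upℤ 0 (K.X p) q hq

include hK0 in
lemma finSupp_D₂ : FinSupp upℤ (D₂ K) :=
  finSupp_of_bounded_below _ 0 0 (by
    rintro p q (hp | hq)
    · exact (HomologicalComplex.single (ModuleCat.{u} A) upℤ 0 ⋙
        HomologicalComplex.eval _ _ q).map_isZero (hK0 p hp)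
    · exact isZero_D₂_X_X K p q (by omega))

/-- the rows of `DK`. -/
noncomputable def rowDKIso (n : ℕ) :
    row (DK f K) (n : ℤ) ≅ ((Ψ f n).mapHomologicalComplex upℤ).obj K :=
  HomologicalComplex.Hom.isoOfComponents (fun p => (CzEvalIso f n).app (K.X p)) (by
    intro i j _
    exact ((CzEvalIso f n).hom.naturality (K.d i j)).symm)

lemma exactAt_row_DK (hpt : ∀ (i : I) (q : ℤ) (y : K.homology q), ∃ m : ℕ, f i ^ m • y = 0) (n : ℕ)
    (p : ℤ) : (row (DK f K) ((n + 1 : ℕ) : ℤ)).ExactAt p := by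
  rw [HomologicalComplex.exactAt_iff_isZero_homology]
  have := exactAt_map_of_pt f K hpt n p
  rw [HomologicalComplex.exactAt_iff_isZero_homology] at this
  exact this.of_iso ((HomologicalComplex.homologyFunctor _ _ p).mapIso (rowDKIso f K (n + 1)))

lemma quasiIso_rowMap_φ₂ (hpt : ∀ (i : I) (q : ℤ) (y : K.homology q), ∃ m : ℕ, f i ^ m • y = 0)
    (q : ℤ) : QuasiIso (rowMap (φ₂ f K) q) := by
  by_cases hq : q = 0
  · subst hq
    haveI : ∀ p, IsIso ((rowMap (φ₂ f K) 0).f p) := by
      intro p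
      change IsIso (((τ f).app (K.X p)).f 0)
      exact isIso_τ_app_f_zero f _
    haveI : IsIso (rowMap (φ₂ f K) 0) := HomologicalComplex.Hom.isIso_of_components _
    infer_instance
  · apply quasiIso_of_exact
    · intro p
      by_cases hq' : q < 0
      · exact HomologicalComplex.ExactAt.of_isZero (isZero_Cz_X_neg f _ q hq')
      · obtain ⟨n, rfl⟩ : ∃ n : ℕ, ((n + 1 : ℕ) : ℤ) = q :=
          ⟨(q - 1).toNat, by push_cast; rw [Int.toNat_of_nonneg (by omega)]; omega⟩
        exact exactAt_row_DK f K hpt n p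
    · intro p
      exact HomologicalComplex.ExactAt.of_isZero (isZero_D₂_X_X K p q hq)

/-- the column of the flip of `D₂`. -/
noncomputable def D₂FlipIso : (D₂ K).flip.X 0 ≅ K :=
  HomologicalComplex.Hom.isoOfComponents
    (fun p => HomologicalComplex.singleObjXSelf upℤ 0 (K.X p)) (by
    intro i j _
    change _ = ((HomologicalComplex.single (ModuleCat.{u} A) upℤ 0).map (K.d i j)).f 0 ≫ _
    rw [HomologicalComplex.single_map_f_self, Category.assoc, Category.assoc, Iso.inv_hom_id,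
      Category.comp_id]
    rfl)

lemma isZero_D₂_flip_X (q : ℤ) (hq : q ≠ 0) : IsZero ((D₂ K).flip.X q) := by
  rw [IsZero.iff_id_eq_zero]
  refine HomologicalComplex.hom_ext _ _ (fun p => ?_)
  exact (isZero_D₂_X_X K p q hq).eq_of_src _ _

include hK0 in
theorem nonempty_homology_iso (hgood : ∀ q : ℤ, q ≠ 0 → GoodC f (K.X q))
    (hpt : ∀ (i : I) (q : ℤ) (y : K.homology q), ∃ m : ℕ, f i ^ m • y = 0) (n : ℤ) :
    Nonempty (((Cz f).obj (K.X 0)).homology n ≅ K.homology n) := by
  haveI := finSupp_DK f K hK0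
  haveI := finSupp_D₁ f K
  haveI := finSupp_D₂ K hK0
  haveI q1 : QuasiIso (HomologicalComplex₂.total.map (φ₁ f K hK0) upℤ) :=
    quasiIso_total_map_of_cols (φ₁ f K hK0) (quasiIso_φ₁_f f K hK0 hgood)
  haveI q2 : QuasiIso (HomologicalComplex₂.total.map (φ₂ f K) upℤ) :=
    quasiIso_total_map_of_rows (φ₂ f K) (quasiIso_rowMap_φ₂ f K hpt)
  have e1 := isoOfQuasiIsoAt (HomologicalComplex₂.total.map (φ₁ f K hK0) upℤ) n
  have e2 := isoOfQuasiIsoAt (HomologicalComplex₂.total.map (φ₂ f K) upℤ) n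
  haveI := isIso_colToTotal (D₁ f K) (isZero_D₁_X f K)
  have e3 := (HomologicalComplex.homologyFunctor _ _ n).mapIso
    (asIso (colToTotal (D₁ f K) (isZero_D₁_X f K)))
  have e4 : ((Cz f).obj (K.X 0)).homology n ≅ ((D₁ f K).X 0).homology n :=
    (Cz f ⋙ HomologicalComplex.homologyFunctor _ _ n).mapIso
      (HomologicalComplex.singleObjXSelf upℤ 0 (K.X 0)).symm
  haveI := isIso_colToTotal (D₂ K).flip (isZero_D₂_flip_X K)
  have e5 := (HomologicalComplex.homologyFunctor _ _ n).mapIso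
    (asIso (colToTotal (D₂ K).flip (isZero_D₂_flip_X K)))
  have e6 := (HomologicalComplex.homologyFunctor _ _ n).mapIso ((D₂ K).totalFlipIso upℤ)
  have e7 := (HomologicalComplex.homologyFunctor _ _ n).mapIso (D₂FlipIso K)
  exact ⟨e4 ≪≫ e3 ≪≫ e1.symm ≪≫ e2 ≪≫ e6.symm ≪≫ e5.symm ≪≫ e7⟩

end General2


/-- **The cohomology of the augmented Čech complex is the colimit of the Koszul cohomologies.** -/
theorem nonempty_cechAug_homology_equiv (M : ModuleCat.{u} A) (fs : List A) (hf1 : ∀ i, f i ∈ fs)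
    (hf2 : ∀ g ∈ fs, ∃ i, f i = g) (n : ℕ) :
    Nonempty ((cechAug f M).homology n ≃ₗ[A] koszulHLim fs M n) := by
  obtain ⟨e0⟩ := nonempty_Esh_X_zero_iso M fs
  obtain ⟨e1⟩ := nonempty_homology_iso f (Esh M fs) (isZero_Esh_X_neg M fs)
    (goodC_Esh_X f M fs hf2) (pt_homology_Esh f M fs hf1) (n : ℤ)
  have e2 : ((Cz f).obj M).homology (n : ℤ) ≅ ((Cz f).obj ((Esh M fs).X 0)).homology (n : ℤ) :=
    (Cz f ⋙ HomologicalComplex.homologyFunctor _ _ (n : ℤ)).mapIso e0.symm
  have e3 := EshHomologyIso M fs (n : ℤ) _ rfl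
  exact ⟨((CzHomologyIso f M n).symm ≪≫ e2 ≪≫ e1 ≪≫ e3).toLinearEquiv ≪≫ₗ
    (koszulHLimEquiv fs M n).symm⟩

end Groth.Agent.Lib.Helper21.KCD
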