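import Mathlib

/-!
# "Kernel modulo image" presentations of groups and their comparison (helper21)
-/

set_option autoImplicit false

namespace Groth.Agent.Lib.Helper21.KG

open CategoryTheory

universe u

/-- `H` is presented as the kernel of `b` modulo the image of `a`. -/
structure KMI {A B C H : Type*} [AddCommGroup A] [AddCommGroup B] [AddCommGroup C] [AddCommGroup H]
    (a : A →+ B) (b : B →+ C) where
  /-- the projection from the kernel. -/
  π : b.ker →+ H
  surj : Function.Surjective π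
  ker : ∀ y : b.ker, π y = 0 ↔ ∃ x, a x = (y : B)

section

variable {A₁ B₁ C₁ H₁ A₂ B₂ C₂ H₂ : Type*} [AddCommGroup A₁] [AddCommGroup B₁] [AddCommGroup C₁]
  [AddCommGroup H₁] [AddCommGroup A₂] [AddCommGroup B₂] [AddCommGroup C₂] [AddCommGroup H₂]
  {a : A₁ →+ B₁} {b : B₁ →+ C₁} {a' : A₂ →+ B₂} {b' : B₂ →+ C₂}

/-- comparison of two kernel-modulo-image presentations. -/
theorem KMI.nonempty_equiv (k₁ : KMI (H := H₁) a b) (k₂ : KMI (H := H₂) a' b')
    (β : B₁ →+ B₂) (hβ : Function.Injective β)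
    (hker : ∀ y, b y = 0 → b' (β y) = 0)
    (hker' : ∀ z, b' z = 0 → ∃ y, b y = 0 ∧ β y = z)
    (hr : ∀ x, ∃ x', a' x' = β (a x))
    (hr' : ∀ x', ∃ x, β (a x) = a' x') : Nonempty (H₁ ≃+ H₂) := by
  -- the induced map on kernels
  let βk : b.ker →+ b'.ker :=
    (β.comp b.ker.subtype).codRestrict b'.ker (fun y => hker y.1 y.2)
  have hβk_inj : Function.Injective βk := by
    intro y y' h
    apply Subtype.ext
    apply hβ
    exact congrArg Subtype.val h
  have hβk_surj : Function.Surjective βk := by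
    rintro ⟨z, hz⟩
    obtain ⟨y, hy, rfl⟩ := hker' z hz
    exact ⟨⟨y, hy⟩, rfl⟩
  let e : b.ker ≃+ b'.ker := AddEquiv.ofBijective βk ⟨hβk_inj, hβk_surj⟩
  have hmap : k₁.π.ker.map (e : b.ker →+ b'.ker) = k₂.π.ker := by
    ext z
    rw [AddSubgroup.mem_map, AddMonoidHom.mem_ker, k₂.ker]
    constructor
    · rintro ⟨y, hy, rfl⟩
      rw [AddMonoidHom.mem_ker, k₁.ker] at hy
      obtain ⟨x, hx⟩ := hy
      obtain ⟨x', hx'⟩ := hr x
      exact ⟨x', by rw [hx', hx]; rfl⟩
    · rintro ⟨x', hx'⟩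
      obtain ⟨x, hx⟩ := hr' x'
      have hbx : b (a x) = 0 := by
        have h1 : b' (β (a x)) = 0 := by rw [hx, hx']; exact z.2
        obtain ⟨y, hy, hy'⟩ := hker' _ h1
        rw [← hβ hy']; exact hy
      refine ⟨⟨a x, hbx⟩, ?_, ?_⟩
      · rw [AddMonoidHom.mem_ker, k₁.ker]
        exact ⟨x, rfl⟩
      · apply Subtype.ext
        change β (a x) = z
        rw [hx, hx']
  exact ⟨(QuotientAddGroup.quotientKerEquivOfSurjective k₁.π k₁.surj).symm.trans
    ((QuotientAddGroup.congr k₁.π.ker k₂.π.ker e hmap).trans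
      (QuotientAddGroup.quotientKerEquivOfSurjective k₂.π k₂.surj))⟩

/-- comparison in the case of compatible maps on all three terms. -/
theorem KMI.nonempty_equiv_of_maps (k₁ : KMI (H := H₁) a b) (k₂ : KMI (H := H₂) a' b')
    (α : A₁ →+ A₂) (β : B₁ ≃+ B₂) (γ : C₁ →+ C₂) (hα : Function.Surjective α)
    (hγ : Function.Injective γ) (h₁ : ∀ x, β (a x) = a' (α x)) (h₂ : ∀ y, γ (b y) = b' (β y)) :
    Nonempty (H₁ ≃+ H₂) := by
  refine k₁.nonempty_equiv k₂ β.toAddMonoidHom β.injective ?_ ?_ ?_ ?_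
  · intro y hy
    change b' (β y) = 0
    rw [← h₂, hy, map_zero]
  · intro z hz
    refine ⟨β.symm z, ?_, β.apply_symm_apply z⟩
    apply hγ
    rw [h₂, β.apply_symm_apply, hz, map_zero]
  · intro x
    exact ⟨α x, (h₁ x).symm⟩
  · intro x'
    obtain ⟨x, rfl⟩ := hα x'
    exact ⟨x, h₁ x⟩

end

/-- the kernel of `b` is presented by `(0, b)`. -/
def KMI.ofKer {A B C : Type*} [AddCommGroup A] [AddCommGroup B] [AddCommGroup C] (b : B →+ C) :
    KMI (H := b.ker) (0 : A →+ B) b where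
  π := AddMonoidHom.id _
  surj := Function.surjective_id
  ker y := by
    constructor
    · intro h
      refine ⟨0, ?_⟩
      have : y = 0 := h
      rw [this]; rfl
    · rintro ⟨x, hx⟩
      apply Subtype.ext
      exact hx.symm

/-- the cokernel of `a` is presented by `(a, 0)`. -/
def KMI.ofCoker {A B C : Type*} [AddCommGroup A] [AddCommGroup B] [AddCommGroup C] (a : A →+ B) :
    KMI (H := B ⧸ a.range) a (0 : B →+ C) where
  π := (QuotientAddGroup.mk' a.range).comp (AddSubgroup.subtype _)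
  surj := by
    intro z
    obtain ⟨y, rfl⟩ := QuotientAddGroup.mk'_surjective _ z
    exact ⟨⟨y, by simp⟩, rfl⟩
  ker y := by
    change (QuotientAddGroup.mk' a.range) (y : B) = 0 ↔ _
    rw [QuotientAddGroup.mk'_apply, QuotientAddGroup.eq_zero_iff]
    rfl

end Groth.Agent.Lib.Helper21.KG
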