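import Mathlib
import Groth.Agent.Lib.Helper21KG1

set_option autoImplicit false

namespace Groth.Agent.Lib.Helper21.KG

open CategoryTheory

universe u

/-- the homology of a short complex of abelian groups. -/
noncomputable def KMI.ofAb (S : ShortComplex AddCommGrpCat.{u}) :
    KMI (H := S.homology) S.f.hom S.g.hom where
  π := S.abHomologyIso.inv.hom.comp (QuotientAddGroup.mk' _)
  surj := by
    intro z
    obtain ⟨w, hw⟩ := QuotientAddGroup.mk'_surjective _ (S.abHomologyIso.hom.hom z)
    refine ⟨w, ?_⟩
    change S.abHomologyIso.inv.hom (QuotientAddGroup.mk' _ w) = z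
    rw [hw]
    exact congrArg (fun t => t.hom z) S.abHomologyIso.hom_inv_id
  ker y := by
    change S.abHomologyIso.inv.hom (QuotientAddGroup.mk' _ y) = 0 ↔ _
    have hinj : Function.Injective S.abHomologyIso.inv.hom :=
      (AddCommGrpCat.mono_iff_injective _).1 inferInstance
    rw [← map_zero S.abHomologyIso.inv.hom, hinj.eq_iff, QuotientAddGroup.mk'_apply,
      QuotientAddGroup.eq_zero_iff, AddMonoidHom.mem_range]
    constructor
    · rintro ⟨x, hx⟩
      exact ⟨x, congrArg Subtype.val hx⟩
    · rintro ⟨x, hx⟩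
      exact ⟨x, Subtype.ext hx⟩

/-- the homology of a short complex of modules. -/
noncomputable def KMI.ofModuleCat {R : Type u} [Ring R] (S : ShortComplex (ModuleCat.{u} R)) :
    KMI (H := S.homology) S.f.hom.toAddMonoidHom S.g.hom.toAddMonoidHom where
  π := S.moduleCatHomologyIso.inv.hom.toAddMonoidHom.comp
    ((LinearMap.range S.moduleCatToCycles).mkQ.toAddMonoidHom.comp
      (AddMonoidHom.mk' (fun y : S.g.hom.toAddMonoidHom.ker =>
        (⟨y.1, y.2⟩ : LinearMap.ker S.g.hom)) (fun _ _ => rfl)))
  surj := by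
    intro z
    obtain ⟨w, hw⟩ := Submodule.mkQ_surjective _ (S.moduleCatHomologyIso.hom.hom z)
    refine ⟨⟨w.1, w.2⟩, ?_⟩
    change S.moduleCatHomologyIso.inv.hom ((LinearMap.range S.moduleCatToCycles).mkQ w) = z
    rw [hw]
    exact congrArg (fun t => t.hom z) S.moduleCatHomologyIso.hom_inv_id
  ker y := by
    change S.moduleCatHomologyIso.inv.hom ((LinearMap.range S.moduleCatToCycles).mkQ
      (⟨y.1, y.2⟩ : LinearMap.ker S.g.hom)) = 0 ↔ _
    have hinj : Function.Injective S.moduleCatHomologyIso.inv.hom :=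
      (ModuleCat.mono_iff_injective _).1 inferInstance
    rw [← map_zero S.moduleCatHomologyIso.inv.hom, hinj.eq_iff, Submodule.mkQ_apply]
    refine (Submodule.Quotient.mk_eq_zero _).trans ?_
    rw [LinearMap.mem_range]
    constructor
    · rintro ⟨x, hx⟩
      exact ⟨x, congrArg Subtype.val hx⟩
    · rintro ⟨x, hx⟩
      exact ⟨x, Subtype.ext hx⟩

/-- transport along an isomorphism of the presented group. -/
def KMI.congr {A B C H H' : Type*} [AddCommGroup A] [AddCommGroup B] [AddCommGroup C]
    [AddCommGroup H] [AddCommGroup H'] {a : A →+ B} {b : B →+ C} (k : KMI (H := H) a b)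
    (e : H ≃+ H') : KMI (H := H') a b where
  π := e.toAddMonoidHom.comp k.π
  surj := e.surjective.comp k.surj
  ker y := by
    change e (k.π y) = 0 ↔ _
    rw [← map_zero e, e.injective.eq_iff]
    exact k.ker y

/-- the homology of a cochain complex of abelian groups. -/
noncomputable def KMI.ofComplexAb (K : CochainComplex AddCommGrpCat.{u} ℕ) (i j k : ℕ)
    (hi : (ComplexShape.up ℕ).prev j = i) (hk : (ComplexShape.up ℕ).next j = k) :
    KMI (H := K.homology j) (K.d i j).hom (K.d j k).hom :=
  (KMI.ofAb (K.sc' i j k)).congr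
    (K.homologyIsoSc' i j k hi hk).symm.addCommGroupIsoToAddEquiv

/-- the homology of a cochain complex of modules. -/
noncomputable def KMI.ofComplexModuleCat {R : Type u} [Ring R]
    (K : CochainComplex (ModuleCat.{u} R) ℕ) (i j k : ℕ)
    (hi : (ComplexShape.up ℕ).prev j = i) (hk : (ComplexShape.up ℕ).next j = k) :
    KMI (H := K.homology j) (K.d i j).hom.toAddMonoidHom (K.d j k).hom.toAddMonoidHom :=
  (KMI.ofModuleCat (K.sc' i j k)).congr
    (K.homologyIsoSc' i j k hi hk).symm.toLinearEquiv.toAddEquiv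

end Groth.Agent.Lib.Helper21.KG
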