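import Mathlib
import Groth.Agent.Lib.Helper21KG2
import Groth.Agent.Lib.Helper21AC4
import Groth.Agent.Lib.Helper16CechLow

set_option autoImplicit false

namespace Groth.Agent.Lib.Helper21.KG

open CategoryTheory CategoryTheory.Limits Opposite
open Groth.Agent.Lib.Helper21.AC Groth.Agent.Lib.Helper16.CechLow

universe v u₁ u

variable {C : Type u₁} [Category.{v} C] [HasFiniteProducts C] {I : Type u} (V : I → C)
  (P : Cᵒᵖ ⥤ AddCommGrpCat.{u}) {A : Type u} [CommRing A] (f : I → A)
  (N : Type u) [AddCommGroup N] [Module A N]

/-- the sections of `P` on the finite intersections are the localisations of `N`. -/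
structure LocData where
  /-- the identification of the sections with the localisations. -/
  β : ∀ {n : ℕ} (x : Fin (n + 1) → I), P.obj (op (Ux V x)) ≃+ LocalizedModule (Sub f x) N
  compat : ∀ {n : ℕ} (x : Fin (n + 2) → I) (i : Fin (n + 2))
    (s : P.obj (op (Ux V (x ∘ i.succAbove)))),
    β x (P.map (face V x i).op s) =
      locLe (Sub_comp_le f x i.succAbove) N (β (x ∘ i.succAbove) s)

variable {V P f N}

namespace LocData

variable (L : LocData V P f N)

/-- the comparison of the terms. -/
noncomputable def α (n : ℕ) : (CK V P).X n ≃+ CXt f N (n + 1) where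
  toFun c x := L.β x (pr V P n x c)
  invFun c := mkElt V P n (fun x => (L.β x).symm (c x))
  left_inv c := by
    apply elt_ext
    intro x
    change pr V P n x (mkElt V P n (fun x => (L.β x).symm (L.β x (pr V P n x c)))) = _
    rw [pr_mkElt, AddEquiv.symm_apply_apply]
  right_inv c := by
    funext x
    change L.β x (pr V P n x (mkElt V P n (fun x => (L.β x).symm (c x)))) = c x
    rw [pr_mkElt, AddEquiv.apply_symm_apply]
  map_add' c c' := by
    funext x
    change L.β x (pr V P n x (c + c')) = L.β x (pr V P n x c) + L.β x (pr V P n x c')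
    rw [map_add, map_add]

lemma α_apply (n : ℕ) (c : (CK V P).X n) (x : Fin (n + 1) → I) :
    L.α n c x = L.β x (pr V P n x c) := rfl

lemma α_d (n : ℕ) (c : (CK V P).X n) :
    L.α (n + 1) ((CK V P).d n (n + 1) c) = (dC f N (n + 1)).hom (L.α n c) := by
  funext x
  rw [α_apply, d_pr_apply, dC_apply, map_sum, Finset.sum_apply]
  refine Finset.sum_congr rfl (fun i _ => ?_)
  rw [map_zsmul, L.compat]
  rfl

/-- **Comparison of Čech cohomology with the cohomology of the augmented algebraic Čech complex**, in
positive degrees. -/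
theorem nonempty_homology_equiv (L : LocData V P f N) (q : ℕ) :
    Nonempty ((CK V P).homology (q + 1) ≃+ (cechAug f N).homology (q + 2)) := by
  have k₁ := KMI.ofComplexAb (CK V P) q (q + 1) (q + 2) (by simp) (by simp)
  have k₂ := KMI.ofComplexModuleCat (cechAug f N) (q + 1) (q + 2) (q + 3) (by simp) (by simp)
  refine k₁.nonempty_equiv_of_maps k₂ (L.α q).toAddMonoidHom (L.α (q + 1))
    (L.α (q + 2)).toAddMonoidHom (L.α q).surjective (L.α (q + 2)).injective ?_ ?_
  · intro c
    rw [cechAug_d]
    exact L.α_d q c
  · intro c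
    rw [cechAug_d]
    exact (L.α_d (q + 1) c)

end LocData

end Groth.Agent.Lib.Helper21.KG
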