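import Mathlib
import Groth.Agent.Lib.Helper21KG3
import Groth.Agent.Lib.Helper6QCohQcqs
import Groth.Prelude.Def_ega3

set_option autoImplicit false

namespace Groth.Agent.Lib.Helper21.KG

open CategoryTheory CategoryTheory.Limits Opposite AlgebraicGeometry TopologicalSpace
open Groth.Agent.Lib.Helper21.AC Groth.Agent.Lib.Helper16.CechLow Groth.Agent.Lib.Helper6

universe v u₁ u

variable {X : Scheme.{u}} (F : X.Modules)

/-- the sections of `F` over `W`, as a module over the global functions. -/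
def SecT (W : X.Opens) : Type u := Γ(F, W)

noncomputable instance (W : X.Opens) : AddCommGroup (SecT F W) :=
  inferInstanceAs (AddCommGroup Γ(F, W))

noncomputable instance (W : X.Opens) : Module Γ(X, ⊤) (SecT F W) :=
  Module.compHom Γ(F, W) (X.presheaf.map (homOfLE (le_top : W ≤ ⊤)).op).hom

/-- the identity map. -/
def SecT.of {W : X.Opens} (s : Γ(F, W)) : SecT F W := s

/-- the identity map. -/
def SecT.out {W : X.Opens} (s : SecT F W) : Γ(F, W) := s

lemma SecT.smul_def {W : X.Opens} (a : Γ(X, ⊤)) (s : SecT F W) :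
    a • s = SecT.of F (resf (le_top : W ≤ ⊤) a • SecT.out F s) := rfl

/-- restriction, as a linear map over the global functions. -/
noncomputable def resTT {W W' : X.Opens} (h : W' ≤ W) : SecT F W →ₗ[Γ(X, ⊤)] SecT F W' where
  toFun s := SecT.of F (res F h (SecT.out F s))
  map_add' s s' := map_add (F.presheaf.map (homOfLE h).op).hom s s'
  map_smul' a s := by
    change res F h (resf (le_top : W ≤ ⊤) a • SecT.out F s) =
      resf (le_top : W' ≤ ⊤) a • res F h (SecT.out F s)
    rw [res_smul, resf_resf]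

lemma resTT_apply {W W' : X.Opens} (h : W' ≤ W) (s : SecT F W) :
    resTT F h s = SecT.of F (res F h (SecT.out F s)) := rfl

lemma resTT_comp {W W' W'' : X.Opens} (h : W' ≤ W) (h' : W'' ≤ W') (s : SecT F W) :
    resTT F h' (resTT F h s) = resTT F (h'.trans h) s :=
  res_res F h h' s

/-- the module of global sections. -/
noncomputable abbrev M0 : ModuleCat.{u} Γ(X, ⊤) := ModuleCat.of Γ(X, ⊤) (F.val.obj (op ⊤))

/-- global sections, as elements of `SecT F ⊤`. -/
noncomputable def topT : M0 F →ₗ[Γ(X, ⊤)] SecT F ⊤ where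
  toFun m := m
  map_add' _ _ := rfl
  map_smul' a m := by
    have h1 : resf (le_top : (⊤ : X.Opens) ≤ ⊤) a = a := by
      have : (homOfLE (le_top : (⊤ : X.Opens) ≤ ⊤)).op = 𝟙 (op (⊤ : X.Opens)) := rfl
      change X.presheaf.map (homOfLE (le_top : (⊤ : X.Opens) ≤ ⊤)).op a = a
      rw [this, X.presheaf.map_id]
      rfl
    change (a • (m : Γ(F, ⊤)) : Γ(F, ⊤)) = resf (le_top : (⊤ : X.Opens) ≤ ⊤) a • (m : Γ(F, ⊤))
    rw [h1]

/-- the restriction of global sections. -/
noncomputable def ρ (W : X.Opens) : M0 F →ₗ[Γ(X, ⊤)] SecT F W :=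
  (resTT F (le_top : W ≤ ⊤)).comp (topT F)

lemma resTT_ρ {W W' : X.Opens} (h : W' ≤ W) (m : M0 F) : resTT F h (ρ F W m) = ρ F W' m :=
  resTT_comp F _ h _


section Loc

variable [CompactSpace X] [QuasiSeparatedSpace X] [F.IsQuasicoherent]

/-- on a quasi-compact quasi-separated scheme, the sections of a quasi-coherent module over `X_g` are the
localisation of the global sections. -/
theorem isLocalizedModule_ρ (g : Γ(X, ⊤)) (W : X.Opens) (hW : W = X.basicOpen g) :
    IsLocalizedModule (Submonoid.powers g) (ρ F W) := by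
  subst hW
  refine IsLocalizedModule.Away.mk_of_addCommGroup ?_ ?_ ?_
  · rw [Module.End.isUnit_iff]
    have hu : IsUnit (resf (le_top : X.basicOpen g ≤ ⊤) g) :=
      RingedSpace.isUnit_res_basicOpen _ g
    obtain ⟨u, hu⟩ := hu
    constructor
    · intro s s' h
      have h' : (u : Γ(X, X.basicOpen g)) • SecT.out F s = (u : Γ(X, X.basicOpen g)) • SecT.out F s' := by
        rw [hu]; exact h
      have := congrArg (fun t => ((u⁻¹ : (Γ(X, X.basicOpen g))ˣ) : Γ(X, X.basicOpen g)) • t) h'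
      simp only [smul_smul, Units.inv_mul, one_smul] at this
      exact this
    · intro s
      refine ⟨SecT.of F (((u⁻¹ : (Γ(X, X.basicOpen g))ˣ) : Γ(X, X.basicOpen g)) • SecT.out F s), ?_⟩
      change resf (le_top : X.basicOpen g ≤ ⊤) g •
        (((u⁻¹ : (Γ(X, X.basicOpen g))ˣ) : Γ(X, X.basicOpen g)) • SecT.out F s) = s
      rw [← hu, smul_smul, Units.mul_inv, one_smul]
      rfl
  · intro s
    obtain ⟨n, t, ht⟩ := exists_extension_of_isCompact_of_isQuasiSeparated F (U := ⊤)
      isCompact_univ isQuasiSeparated_univ g (SecT.out F s)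
    refine ⟨n, t, ?_⟩
    change resf (le_top : X.basicOpen g ≤ ⊤) (g ^ n) • SecT.out F s = res F le_top t
    rw [resf_pow]
    exact ht.symm
  · intro m hm
    exact exists_pow_smul_eq_zero_of_isCompact F (U := ⊤) isCompact_univ g m hm

end Loc


section SubLoc

variable {I : Type u} (f : I → Γ(X, ⊤))

lemma powers_prod_le_Sub {n : ℕ} (x : Fin n → I) :
    Submonoid.powers (∏ k, f (x k)) ≤ Sub f x := by
  rw [Submonoid.powers_le]
  exact Submonoid.prod_mem _ (fun k _ => mem_Sub f x k)

lemma exists_mul_mem_powers {n : ℕ} (x : Fin n → I) (t : Sub f x) :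
    ∃ m : Γ(X, ⊤), m * (t : Γ(X, ⊤)) ∈ Submonoid.powers (∏ k, f (x k)) := by
  obtain ⟨t, ht⟩ := t
  change ∃ m : Γ(X, ⊤), m * t ∈ Submonoid.powers (∏ k, f (x k))
  induction ht using Submonoid.closure_induction with
  | mem t ht =>
    obtain ⟨k, rfl⟩ := ht
    refine ⟨∏ j ∈ Finset.univ.erase k, f (x j), ⟨1, ?_⟩⟩
    change (∏ k, f (x k)) ^ 1 = (∏ j ∈ Finset.univ.erase k, f (x j)) * f (x k)
    rw [pow_one, mul_comm]
    exact (Finset.mul_prod_erase Finset.univ (fun j => f (x j)) (Finset.mem_univ k)).symm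
  | one => exact ⟨1, ⟨0, by simp⟩⟩
  | mul a b _ _ ha hb =>
    obtain ⟨m, p, hp⟩ := ha
    obtain ⟨m', p', hp'⟩ := hb
    refine ⟨m * m', p + p', ?_⟩
    change (∏ k, f (x k)) ^ (p + p') = m * m' * (a * b)
    have hp1 : (∏ k, f (x k)) ^ p = m * a := hp
    have hp2 : (∏ k, f (x k)) ^ p' = m' * b := hp'
    rw [pow_add, hp1, hp2]
    ring

variable [CompactSpace X] [QuasiSeparatedSpace X] [F.IsQuasicoherent]

theorem isLocalizedModule_ρ_Sub {n : ℕ} (x : Fin n → I) (W : X.Opens)
    (hW : W = X.basicOpen (∏ k, f (x k))) : IsLocalizedModule (Sub f x) (ρ F W) := by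
  haveI := isLocalizedModule_ρ F (∏ k, f (x k)) W hW
  exact IsLocalizedModule.of_exists_mul_mem (Submonoid.powers (∏ k, f (x k))) (Sub f x)
    (powers_prod_le_Sub f x) (exists_mul_mem_powers f x) (ρ F W)

end SubLoc


section Geo

variable {C : Type u₁} [Category.{v} C] [HasFiniteProducts C] {I : Type u} (V : I → C)
  (P : Cᵒᵖ ⥤ AddCommGrpCat.{u}) (f : I → Γ(X, ⊤))

/-- geometric data: the sections of `P` over the finite intersections are the sections of `F` over the
opens `X_{f (x 0) ⋯ f (x n)}`, compatibly with the restrictions. -/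
structure GeoData where
  /-- the opens. -/
  W : ∀ {n : ℕ} (_ : Fin (n + 1) → I), X.Opens
  hW : ∀ {n : ℕ} (x : Fin (n + 1) → I), W x = X.basicOpen (∏ k, f (x k))
  /-- the identification of the sections. -/
  e : ∀ {n : ℕ} (x : Fin (n + 1) → I), P.obj (op (Ux V x)) ≃+ SecT F (W x)
  compat : ∀ {n : ℕ} (x : Fin (n + 2) → I) (i : Fin (n + 2)) (h : W x ≤ W (x ∘ i.succAbove))
    (s : P.obj (op (Ux V (x ∘ i.succAbove)))),
    e x (P.map (face V x i).op s) = resTT F h (e (x ∘ i.succAbove) s)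

variable {F V P f}

lemma GeoData.le (G : GeoData F V P f) {n : ℕ} (x : Fin (n + 2) → I) (i : Fin (n + 2)) :
    G.W x ≤ G.W (x ∘ i.succAbove) := by
  rw [G.hW, G.hW, Fin.prod_univ_succAbove _ i, Scheme.basicOpen_mul]
  exact inf_le_right

variable [CompactSpace X] [QuasiSeparatedSpace X] [F.IsQuasicoherent]

/-- the identification of the sections over `W x` with the localisation. -/
noncomputable def GeoData.isoLoc (G : GeoData F V P f) {n : ℕ} (x : Fin (n + 1) → I) :
    LocalizedModule (Sub f x) (M0 F) ≃ₗ[Γ(X, ⊤)] SecT F (G.W x) :=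
  haveI := isLocalizedModule_ρ_Sub F f x (G.W x) (G.hW x)
  IsLocalizedModule.iso (Sub f x) (ρ F (G.W x))

lemma GeoData.isoLoc_symm_ρ (G : GeoData F V P f) {n : ℕ} (x : Fin (n + 1) → I) (m : M0 F) :
    (G.isoLoc x).symm (ρ F (G.W x) m) = LocalizedModule.mk m 1 := by
  haveI := isLocalizedModule_ρ_Sub F f x (G.W x) (G.hW x)
  exact IsLocalizedModule.iso_symm_apply (Sub f x) (ρ F (G.W x)) m

lemma GeoData.isoLoc_mk (G : GeoData F V P f) {n : ℕ} (x : Fin (n + 1) → I) (m : M0 F) :
    G.isoLoc x (LocalizedModule.mk m 1) = ρ F (G.W x) m := by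
  rw [← G.isoLoc_symm_ρ x m, LinearEquiv.apply_symm_apply]

lemma GeoData.isoLoc_symm_resTT (G : GeoData F V P f) {n : ℕ} (x : Fin (n + 2) → I) (i : Fin (n + 2))
    (t : SecT F (G.W (x ∘ i.succAbove))) :
    (G.isoLoc x).symm (resTT F (G.le x i) t) =
      locLe (Sub_comp_le f x i.succAbove) (M0 F) ((G.isoLoc (x ∘ i.succAbove)).symm t) := by
  haveI := isLocalizedModule_ρ_Sub F f (x ∘ i.succAbove) (G.W (x ∘ i.succAbove))
    (G.hW (x ∘ i.succAbove))
  have key : ((G.isoLoc x).symm.toLinearMap).comp (resTT F (G.le x i)) =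
      (locLe (Sub_comp_le f x i.succAbove) (M0 F)).comp
        (G.isoLoc (x ∘ i.succAbove)).symm.toLinearMap := by
    refine IsLocalizedModule.ext (Sub f (x ∘ i.succAbove)) (ρ F (G.W (x ∘ i.succAbove)))
      (fun σ => le_unitSub_loc (Sub_comp_le f x i.succAbove) (M0 F) σ.2) ?_
    ext m
    simp only [LinearMap.comp_apply, LinearEquiv.coe_coe]
    rw [resTT_ρ, G.isoLoc_symm_ρ, G.isoLoc_symm_ρ, locLe_mk]
  exact LinearMap.congr_fun key t

/-- the localisation data attached to geometric data. -/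
noncomputable def GeoData.locData (G : GeoData F V P f) : LocData V P f (M0 F) where
  β x := (G.e x).trans (G.isoLoc x).symm.toAddEquiv
  compat x i s := by
    change (G.isoLoc x).symm (G.e x (P.map (face V x i).op s)) =
      locLe (Sub_comp_le f x i.succAbove) (M0 F)
        ((G.isoLoc (x ∘ i.succAbove)).symm (G.e (x ∘ i.succAbove) s))
    rw [G.compat x i (G.le x i), G.isoLoc_symm_resTT]

end Geo

end Groth.Agent.Lib.Helper21.KG
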