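import Mathlib
import Groth.Agent.Lib.Helper21KG4

set_option autoImplicit false

namespace Groth.Agent.Lib.Helper21.KG

open CategoryTheory CategoryTheory.Limits Opposite AlgebraicGeometry TopologicalSpace
open Groth.Agent.Lib.Helper21.AC Groth.Agent.Lib.Helper16.CechLow Groth.Agent.Lib.Helper6

universe u

variable {X : Scheme.{u}}

lemma basicOpen_finset_prod {J : Type*} (s : Finset J) (g : J → Γ(X, ⊤)) :
    X.basicOpen (∏ k ∈ s, g k) = ⨅ k ∈ s, X.basicOpen (g k) := by
  classical
  induction s using Finset.induction_on with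
  | empty => simp [Scheme.basicOpen_one]
  | insert a s ha ih =>
    rw [Finset.prod_insert ha, Scheme.basicOpen_mul, ih, Finset.iInf_insert]

lemma basicOpen_prod {n : ℕ} (g : Fin n → Γ(X, ⊤)) :
    X.basicOpen (∏ k, g k) = ⨅ k, X.basicOpen (g k) := by
  rw [basicOpen_finset_prod]
  simp

/-- products in the poset of opens are infima. -/
lemma piObj_opens_eq {Y : Type u} [TopologicalSpace Y] {n : ℕ} (V' : Fin n → Opens Y) :
    (∏ᶜ V' : Opens Y) = ⨅ k, V' k := by
  apply le_antisymm
  · exact le_iInf (fun k => (Pi.π V' k).le)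
  · exact (Pi.lift (fun k => homOfLE (iInf_le V' k))).le

lemma Ux_basicOpen_eq {I : Type u} (f : I → Γ(X, ⊤)) {n : ℕ} (x : Fin (n + 1) → I) :
    Ux (fun i => X.basicOpen (f i)) x = X.basicOpen (∏ k, f (x k)) := by
  rw [basicOpen_prod]
  exact piObj_opens_eq _

/-- the geometric data for the cover by the `X_{f i}`. -/
noncomputable def geoDataX (F : X.Modules) {I : Type u} (f : I → Γ(X, ⊤)) :
    GeoData F (fun i => X.basicOpen (f i)) F.presheaf f where
  W x := Ux (fun i => X.basicOpen (f i)) x
  hW x := Ux_basicOpen_eq f x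
  e x := AddEquiv.refl _
  compat x i h s := by
    have : face (fun i => X.basicOpen (f i)) x i = homOfLE h := Subsingleton.elim _ _
    rw [this]
    rfl

end Groth.Agent.Lib.Helper21.KG
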