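import Mathlib
import Groth.Prelude.Def_CohB1
import Groth.Prelude.Def_Coh
import Groth.Agent.Lib.Helper21KCD
import Groth.Agent.Lib.Helper21KG5

/-!
# Čech cohomology for opens `X_{f_i}` carrying a partition of unity vanishes (helper14)

Uses helper21's `GeoData`/`LocData` machinery on the open subscheme `U ⊇ X_{f_i}`.
-/

set_option autoImplicit false
set_option linter.unusedVariables false
set_option linter.unusedSectionVars false
set_option linter.style.haveILetI false
set_option maxHeartbeats 400000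
universe u
open CategoryTheory CategoryTheory.Limits AlgebraicGeometry TopologicalSpace Opposite

namespace Groth.Agent.Lib.Helper14.CechPU

open Groth.Agent.Lib.Helper21.KG Groth.Agent.Lib.Helper21.KCD Groth.Agent.Lib.Helper21.AC
  Groth.Agent.Lib.Helper16.CechLow Groth.Agent.Lib.Helper21.KC CohIII

section Geo

variable {X : Scheme.{u}} {I : Type u} (f : I → Γ(X, ⊤)) (U : X.Opens)
  (hU : ∀ i, X.basicOpen (f i) ≤ U) (G : X.Modules)

/-- the functions restricted to `U`. -/
noncomputable def fU (i : I) : Γ((U : Scheme.{u}), ⊤) := U.ι.appTop.hom (f i)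

lemma prod_fU {n : ℕ} (x : Fin n → I) :
    ∏ k, fU f U (x k) = U.ι.appTop.hom (∏ k, f (x k)) := by
  unfold fU
  rw [map_prod]

include hU in
lemma image_basicOpen_prod {n : ℕ} (x : Fin (n + 1) → I) :
    U.ι ''ᵁ ((U : Scheme.{u}).basicOpen (∏ k, fU f U (x k))) = X.basicOpen (∏ k, f (x k)) := by
  rw [prod_fU, Scheme.Opens.ι_image_basicOpen, Scheme.Opens.ι_appTop]
  refine (Scheme.basicOpen_res X (∏ k, f (x k))
    (homOfLE (le_top : U.ι ''ᵁ ⊤ ≤ ⊤)).op).trans ?_
  apply inf_eq_right.mpr
  rw [Scheme.Opens.ι_image_top]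
  refine le_trans ?_ (hU (x 0))
  rw [Fin.prod_univ_succ, Scheme.basicOpen_mul]
  exact inf_le_left

include hU in
lemma image_W_eq {n : ℕ} (x : Fin (n + 1) → I) :
    U.ι ''ᵁ ((U : Scheme.{u}).basicOpen (∏ k, fU f U (x k))) =
      Ux (fun i => X.basicOpen (f i)) x :=
  (image_basicOpen_prod f U hU x).trans (Ux_basicOpen_eq f x).symm

/-- the identification of sections. -/
noncomputable def eU {n : ℕ} (x : Fin (n + 1) → I) :
    G.presheaf.obj (op (Ux (fun i => X.basicOpen (f i)) x)) ≃+
      SecT (G.restrict U.ι) ((U : Scheme.{u}).basicOpen (∏ k, fU f U (x k))) :=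
  (G.presheaf.mapIso (eqToIso (image_W_eq f U hU x)).op).addCommGroupIsoToAddEquiv

lemma eU_apply {n : ℕ} (x : Fin (n + 1) → I)
    (s : G.presheaf.obj (op (Ux (fun i => X.basicOpen (f i)) x))) :
    eU f U hU G x s = (G.presheaf.map (eqToHom (image_W_eq f U hU x)).op).hom s := rfl

omit hU in
lemma map_map_apply (P : (Opens X)ᵒᵖ ⥤ AddCommGrpCat.{u}) {A B C : (Opens X)ᵒᵖ} (a : A ⟶ B)
    (b : B ⟶ C) (c : A ⟶ C) (s : P.obj A) :
    (P.map b).hom ((P.map a).hom s) = (P.map c).hom s := by
  have h : a ≫ b = c := Quiver.Hom.unop_inj (Subsingleton.elim _ _)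
  subst h
  rw [Functor.map_comp]
  rfl

/-- the geometric data on the open subscheme `U`. -/
noncomputable def geoU :
    GeoData (G.restrict U.ι) (fun i => X.basicOpen (f i)) G.presheaf (fU f U) where
  W x := (U : Scheme.{u}).basicOpen (∏ k, fU f U (x k))
  hW x := rfl
  e x := eU f U hU G x
  compat x i h s := by
    rw [eU_apply, eU_apply]
    change (G.presheaf.map _).hom ((G.presheaf.map _).hom s) =
      (G.presheaf.map ((Scheme.Hom.opensFunctor U.ι).map (homOfLE h)).op).hom
        ((G.presheaf.map _).hom s)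
    rw [map_map_apply G.presheaf _ _
      ((eqToHom (image_W_eq f U hU x)).op.unop ≫
        (face (fun i => X.basicOpen (f i)) x i)).op s]
    exact (map_map_apply G.presheaf _ _ _ s).symm

end Geo

section Kz

variable {A : Type u} [CommRing A]

lemma subsingleton_koszul_homology (M : ModuleCat.{u} A) (xs : List A)
    (h : Ideal.span {a | a ∈ xs} = ⊤) (j : ℤ) :
    Subsingleton ((koszulCx M xs).homology j) := by
  refine ⟨fun x y => ?_⟩
  suffices h0 : ∀ z : (koszulCx M xs).homology j, z = 0 by rw [h0 x, h0 y]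
  intro z
  have h1 : (1 : A) ∈ Ideal.span {a | a ∈ xs} := by rw [h]; trivial
  have h2 : ∀ r ∈ Ideal.span {a | a ∈ xs}, r • z = 0 := by
    intro r hr
    induction hr using Submodule.span_induction with
    | mem a ha => exact smul_koszul_homology M xs a ha j z
    | zero => exact zero_smul _ _
    | add a b _ _ ha hb => rw [add_smul, ha, hb, add_zero]
    | smul c a _ ha => rw [smul_eq_mul, mul_smul, ha, smul_zero]
  have h3 := h2 1 h1
  rwa [one_smul] at h3

lemma subsingleton_koszulHLim (fs : List A) (M : ModuleCat.{u} A)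
    (h : Ideal.span {a | a ∈ fs} = ⊤) (p : ℕ) : Subsingleton (koszulHLim fs M p) := by
  have hn : ∀ n : ℕ, Subsingleton (koszulHPow fs M p n) := by
    intro n
    apply subsingleton_koszul_homology
    have h1 := Ideal.span_pow_eq_top {a | a ∈ fs} h n
    rw [← h1]
    congr 1
    ext a
    simp only [Set.mem_ofPred, List.mem_map, Set.mem_image]
  unfold koszulHLim
  refine ⟨fun x y => ?_⟩
  obtain ⟨i, a, rfl⟩ := Module.DirectLimit.exists_of x
  obtain ⟨j, b, rfl⟩ := Module.DirectLimit.exists_of y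
  haveI := hn i
  haveI := hn j
  rw [Subsingleton.elim a 0, Subsingleton.elim b 0, map_zero, map_zero]

end Kz

section Main

variable {X : Scheme.{u}}

lemma ring_map_map_apply {A B C : (Opens X)ᵒᵖ} (a : A ⟶ B) (b : B ⟶ C) (c : A ⟶ C)
    (s : X.presheaf.obj A) :
    (X.presheaf.map b).hom ((X.presheaf.map a).hom s) = (X.presheaf.map c).hom s := by
  have h : a ≫ b = c := Quiver.Hom.unop_inj (Subsingleton.elim _ _)
  subst h
  rw [Functor.map_comp]
  rfl

theorem isZero_cechH [X.IsSeparated] (n : ℕ) (f : Fin n → Γ(X, ⊤))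
    (hqc : ∀ i, IsCompact (X.basicOpen (f i) : Set X))
    (g : Fin n → Γ(X, ⨆ i, X.basicOpen (f i)))
    (hg : (Finset.univ.sum fun i => g i *
      (X.presheaf.map (homOfLE (le_top : (⨆ i, X.basicOpen (f i)) ≤ ⊤)).op).hom (f i)) = 1)
    (G : X.Modules) [G.IsQuasicoherent] (p : ℕ) (hp : 0 < p) :
    IsZero (CohB1.cechH (fun i : ULift.{u} (Fin n) => X.basicOpen (f i.down)) G p) := by
  classical
  set U : X.Opens := ⨆ i, X.basicOpen (f i) with hUdef
  let ff : ULift.{u} (Fin n) → Γ(X, ⊤) := fun i => f i.down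
  have hU : ∀ i, X.basicOpen (ff i) ≤ U := fun i => le_iSup (fun j => X.basicOpen (f j)) i.down
  have hcompact : IsCompact (U : Set X) := by
    have : (U : Set X) = ⋃ i, (X.basicOpen (f i) : Set X) := by
      rw [hUdef, Opens.coe_iSup]
    rw [this]
    exact isCompact_iUnion hqc
  haveI : CompactSpace (U : Scheme.{u}) := isCompact_iff_compactSpace.mp hcompact
  haveI : QuasiSeparatedSpace X := inferInstance
  haveI : QuasiSeparatedSpace (U : Scheme.{u}) :=
    QuasiSeparatedSpace.of_isOpenEmbedding U.ι.isOpenEmbedding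
  obtain ⟨q, rfl⟩ : ∃ q, p = q + 1 := ⟨p - 1, by omega⟩
  obtain ⟨e1⟩ := (geoU ff U hU G).locData.nonempty_homology_equiv q
  let fs : List Γ((U : Scheme.{u}), ⊤) := List.ofFn (fun i : Fin n => fU ff U ⟨i⟩)
  have hf1 : ∀ i, fU ff U i ∈ fs := by
    intro i
    rw [List.mem_ofFn]
    exact ⟨i.down, rfl⟩
  have hf2 : ∀ a ∈ fs, ∃ i, fU ff U i = a := by
    intro a ha
    rw [List.mem_ofFn] at ha
    obtain ⟨k, hk⟩ := ha
    exact ⟨⟨k⟩, hk⟩
  obtain ⟨e2⟩ := nonempty_cechAug_homology_equiv (fU ff U) (M0 (G.restrict U.ι)) fs hf1 hf2 (q + 2)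
  have hspan : Ideal.span {a | a ∈ fs} = ⊤ := by
    rw [Ideal.eq_top_iff_one]
    have h1 := congrArg (U.topIso.inv.hom) hg
    rw [map_one, map_sum] at h1
    rw [← h1]
    refine Ideal.sum_mem _ (fun i _ => ?_)
    rw [map_mul]
    apply Ideal.mul_mem_left
    apply Ideal.subset_span
    have h2 : U.topIso.inv.hom ((X.presheaf.map (homOfLE (le_top : U ≤ ⊤)).op).hom (f i)) =
        fU ff U ⟨i⟩ := by
      unfold fU
      rw [Scheme.Opens.ι_appTop, Scheme.Opens.topIso_inv]
      exact ring_map_map_apply _ _ _ _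
    rw [h2]
    exact hf1 ⟨i⟩
  haveI := subsingleton_koszulHLim fs (M0 (G.restrict U.ι)) hspan (q + 2)
  haveI : Subsingleton (CohB1.cechH (fun i : ULift.{u} (Fin n) => X.basicOpen (f i.down)) G (q + 1)) :=
    (e1.trans e2.toAddEquiv).toEquiv.subsingleton
  exact AddCommGrpCat.isZero_of_subsingleton _

end Main

end Groth.Agent.Lib.Helper14.CechPU
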