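/- helper14: Pluecker coordinates on the opposite big cell vs t-minors of the generic matrix.
   det of a matrix with unit rows = +- complementary minor (det_eq_of_unit_rows);
   CAlgX.minorIdeal is antitone in the size; span of cell minors = ideal of t-minors. -/
import Mathlib
import Groth.Prelude.Def_W4bk4grassmannianPl
import Groth.Prelude.Def_CAlgX

namespace Groth.Agent.Lib.Helper14.CellMinor

open Matrix

section general
variable {S : Type*} [CommRing S]

/-- If (after reindexing rows by `er` and columns by `ec`) the rows of `N` indexed by `α`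
are the corresponding unit vectors, then `det N` is, up to sign, the complementary minor. -/
theorem det_eq_of_unit_rows {n α β : Type*} [Fintype n] [DecidableEq n] [Fintype α]
    [DecidableEq α] [Fintype β] [DecidableEq β]
    (N : Matrix n n S) (er ec : α ⊕ β ≃ n)
    (h : ∀ (a : α) (x : α ⊕ β), N (er (Sum.inl a)) (ec x) = if x = Sum.inl a then 1 else 0) :
    ∃ ε : ℤˣ, det N = ((ε : ℤ) : S) * det (N.submatrix (er ∘ Sum.inr) (ec ∘ Sum.inr)) := by
  have h1 : N.submatrix er ec = fromBlocks 1 0 (N.submatrix (er ∘ Sum.inr) (ec ∘ Sum.inl))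
      (N.submatrix (er ∘ Sum.inr) (ec ∘ Sum.inr)) := by
    ext (a | b) (a' | b')
    · simp only [submatrix_apply, fromBlocks_apply₁₁, h, Matrix.one_apply, Sum.inl.injEq]
      simp only [eq_comm]
    · simp [h]
    · simp
    · simp
  have h2 : N.submatrix er ec = (N.submatrix id (er.symm.trans ec)).submatrix er er := by
    ext i j; simp
  have h3 : det (N.submatrix er ec) = ((Equiv.Perm.sign (er.symm.trans ec) : ℤˣ) : ℤ) * det N := by
    rw [h2, det_submatrix_equiv_self, det_permute']
  refine ⟨Equiv.Perm.sign (er.symm.trans ec), ?_⟩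
  have h4 : det (N.submatrix er ec) = det (N.submatrix (er ∘ Sum.inr) (ec ∘ Sum.inr)) := by
    rw [h1, det_fromBlocks_zero₁₂, det_one, one_mul]
  rw [← h4, h3, ← mul_assoc]
  have : (((Equiv.Perm.sign (er.symm.trans ec) : ℤˣ) : ℤ) : S) *
      (((Equiv.Perm.sign (er.symm.trans ec) : ℤˣ) : ℤ) : S) = 1 := by
    rw [← Int.cast_mul, ← Units.val_mul, Int.units_mul_self]; simp
  rw [this, one_mul]

theorem minorIdeal_succ_le {m n : Type} [Fintype m] [Fintype n] (A : Matrix m n S) (s : ℕ) :
    CAlgX.minorIdeal A (s + 1) ≤ CAlgX.minorIdeal A s := by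
  unfold CAlgX.minorIdeal
  rw [Ideal.span_le]
  rintro _ ⟨⟨f, g⟩, rfl⟩
  simp only [SetLike.mem_coe]
  rw [det_succ_row_zero]
  refine Ideal.sum_mem _ fun j _ => Ideal.mul_mem_left _ _ ?_
  refine Ideal.subset_span ⟨(f ∘ Fin.succ, g ∘ j.succAbove), ?_⟩
  rfl

theorem minorIdeal_antitone {m n : Type} [Fintype m] [Fintype n] (A : Matrix m n S) {s s' : ℕ}
    (h : s ≤ s') : CAlgX.minorIdeal A s' ≤ CAlgX.minorIdeal A s := by
  induction h with
  | refl => exact le_rfl
  | step _ ih => exact (minorIdeal_succ_le A _).trans ih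

theorem det_submatrix_mem_minorIdeal {m n : Type} [Fintype m] [Fintype n] (A : Matrix m n S)
    {s : ℕ} (f : Fin s → m) (g : Fin s → n) : det (A.submatrix f g) ∈ CAlgX.minorIdeal A s :=
  Ideal.subset_span ⟨(f, g), rfl⟩

end general

section cell
open W4bk4grassmannian
universe u
variable (K : Type u) [CommRing K] (d r : ℕ)

lemma cellMatrix_of_lt (i : Fin (d + r)) (j : Fin d) (h : i.val < d) :
    cellMatrix K d r i j = if i.val = j.val then 1 else 0 := by simp [cellMatrix, h]

lemma cellMatrix_of_not_lt (i : Fin (d + r)) (j : Fin d) (h : ¬ i.val < d) :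
    cellMatrix K d r i j = genMatrix K r d ⟨i.val - d, by have := i.isLt; omega⟩ j := by
  simp [cellMatrix, genMatrix, h]

theorem cellMinor_mem (t : ℕ) (hd : 0 < d) (ht : 0 < t) (htd : t ≤ d) (θ : Idx d (d + r))
    (hθ : d ≤ (θ.1 ⟨d - t, Nat.sub_lt hd ht⟩).val) :
    cellMinor K d r θ ∈ CAlgX.minorIdeal (genMatrix K r d) t := by
  classical
  set p : Fin d → Prop := fun i => (θ.1 i).val < d with hp
  let π : {i // p i} → Fin d := fun i => ⟨(θ.1 i.1).val, i.2⟩
  have hπ : Function.Injective π := by
    intro a b hab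
    have : (θ.1 a.1).val = (θ.1 b.1).val := congrArg (fun x : Fin d => x.val) hab
    exact Subtype.ext (θ.2.injective (Fin.ext this))
  let e : {i // p i} ≃ {j // j ∈ Set.range π} := Equiv.ofInjective π hπ
  let τ : Equiv.Perm (Fin d) := e.extendSubtype
  have hτ : ∀ a : {i // p i}, τ a.1 = π a := fun a => by
    have := Equiv.extendSubtype_apply_of_mem e a.1 a.2
    simp only [τ, this]
    rfl
  let er : {i // p i} ⊕ {i // ¬ p i} ≃ Fin d := Equiv.sumCompl p
  let ec := er.trans τ
  have hkey : ∀ (a : {i // p i}) (x : {i // p i} ⊕ {i // ¬ p i}),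
      ((cellMatrix K d r).submatrix θ.1 id) (er (Sum.inl a)) (ec x) =
        if x = Sum.inl a then 1 else 0 := by
    intro a x
    have h1 : (cellMatrix K d r).submatrix θ.1 id (er (Sum.inl a)) (ec x) =
        cellMatrix K d r (θ.1 a.1) (τ (er x)) := rfl
    rw [h1, cellMatrix_of_lt K d r _ _ a.2]
    have h2 : ((θ.1 a.1).val = (τ (er x)).val) ↔ x = Sum.inl a := by
      have h3 : (θ.1 a.1).val = (τ a.1).val := by rw [hτ a]
      rw [h3, ← Fin.ext_iff, τ.apply_eq_iff_eq]
      have h4 : a.1 = er (Sum.inl a) := rfl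
      rw [h4, er.apply_eq_iff_eq, eq_comm]
    simp only [h2]
  obtain ⟨ε, hε⟩ := det_eq_of_unit_rows ((cellMatrix K d r).submatrix θ.1 id) er ec hkey
  · unfold cellMinor
    rw [hε]
    apply Ideal.mul_mem_left
    let s := Fintype.card {i // ¬ p i}
    let es : {i // ¬ p i} ≃ Fin s := Fintype.equivFin _
    have hts : t ≤ s := by
      have hnp : ∀ k : Fin t, ¬ p ⟨d - t + k.val, by have := k.isLt; omega⟩ := by
        intro k
        have hmono := θ.2.monotone (a := ⟨d - t, Nat.sub_lt hd ht⟩)
          (b := ⟨d - t + k.val, by have := k.isLt; omega⟩) (by simp [Fin.le_def])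
        have : d ≤ (θ.1 ⟨d - t + k.val, by have := k.isLt; omega⟩).val :=
          hθ.trans (Fin.le_def.mp hmono)
        simp only [hp]
        omega
      have hinj : Function.Injective (fun k : Fin t =>
          (⟨⟨d - t + k.val, by have := k.isLt; omega⟩, hnp k⟩ : {i // ¬ p i})) := by
        intro k k' h
        have := congrArg (fun x : {i // ¬ p i} => x.1.val) h
        simp only [add_right_inj] at this
        exact Fin.ext this
      have := Fintype.card_le_of_injective _ hinj
      rwa [Fintype.card_fin] at this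
    refine minorIdeal_antitone _ hts ?_
    have hD : ((cellMatrix K d r).submatrix θ.1 id).submatrix (er ∘ Sum.inr) (ec ∘ Sum.inr) =
        ((genMatrix K r d).submatrix
          (fun k : Fin s => (⟨(θ.1 (es.symm k).1).val - d, by
            have := (θ.1 (es.symm k).1).isLt; have := (es.symm k).2; omega⟩ : Fin r))
          (fun k => τ (es.symm k).1)).submatrix es es := by
      ext i j
      simp [er, ec, cellMatrix_of_not_lt K d r _ _ i.2]
    rw [hD, det_submatrix_equiv_self]
    exact det_submatrix_mem_minorIdeal _ _ _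

theorem minor_mem_span (t : ℕ) (hd : 0 < d) (ht : 0 < t) (htd : t ≤ d)
    (f : Fin t → Fin r) (g : Fin t → Fin d) :
    det ((genMatrix K r d).submatrix f g) ∈
      Ideal.span {x : CellRing K d r | ∃ θ : Idx d (d + r),
        d ≤ (θ.1 ⟨d - t, Nat.sub_lt hd ht⟩).val ∧ x = cellMinor K d r θ} := by
  classical
  by_cases hf : Function.Injective f
  swap
  · rw [Function.Injective] at hf
    push Not at hf
    obtain ⟨a, b, hab, hne⟩ := hf
    rw [det_zero_of_row_eq hne (by ext j; simp [hab])]
    exact zero_mem _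
  by_cases hg : Function.Injective g
  swap
  · rw [Function.Injective] at hg
    push Not at hg
    obtain ⟨a, b, hab, hne⟩ := hg
    rw [det_zero_of_column_eq hne (by intro k; simp [hab])]
    exact zero_mem _
  have hcard : Fintype.card ↥(Set.range g)ᶜ = d - t := by
    rw [Fintype.card_compl_set, Fintype.card_fin, Set.card_range_of_injective hg, Fintype.card_fin]
  let ec0 : Fin (d - t) ≃ ↥(Set.range g)ᶜ := (Fintype.equivFinOfCardEq hcard).symm
  let er : Fin (d - t) ⊕ Fin t ≃ Fin d := finSumFinEquiv.trans (finCongr (Nat.sub_add_cancel htd))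
  let ec : Fin (d - t) ⊕ Fin t ≃ Fin d :=
    (Equiv.sumComm _ _).trans
      ((Equiv.sumCongr (Equiv.ofInjective g hg) ec0).trans (Equiv.Set.sumCompl (Set.range g)))
  have hecl : ∀ a, ec (Sum.inl a) = (ec0 a).1 := fun a => by simp [ec]
  have hecr : ∀ b, ec (Sum.inr b) = g b := fun b => by simp [ec]
  let F : Fin (d - t) ⊕ Fin t → Fin (d + r) :=
    Sum.elim (fun a => Fin.castAdd r (ec (Sum.inl a))) (fun b => Fin.natAdd d (f b))
  let θ' : Fin d → Fin (d + r) := fun i => F (er.symm i)
  have hFinj : Function.Injective F := by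
    apply Function.Injective.sumElim
    · intro a a' h
      have := Fin.castAdd_injective _ _ h
      simpa using this
    · intro b b' h
      exact hf (Fin.natAdd_injective _ _ h)
    · intro a b h
      have h1 := congrArg Fin.val h
      simp only [Fin.val_castAdd, Fin.val_natAdd] at h1
      have := (ec (Sum.inl a)).isLt
      omega
  have hθ'inj : Function.Injective θ' := hFinj.comp er.symm.injective
  have hkey : ∀ (a : Fin (d - t)) (x : Fin (d - t) ⊕ Fin t),
      ((cellMatrix K d r).submatrix θ' id) (er (Sum.inl a)) (ec x) =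
        if x = Sum.inl a then 1 else 0 := by
    intro a x
    have h1 : (cellMatrix K d r).submatrix θ' id (er (Sum.inl a)) (ec x) =
        cellMatrix K d r (Fin.castAdd r (ec (Sum.inl a))) (ec x) := by
      simp [θ', F]
    rw [h1, cellMatrix_of_lt K d r _ _ (by simp)]
    have h2 : ((Fin.castAdd r (ec (Sum.inl a))).val = (ec x).val) ↔ x = Sum.inl a := by
      rw [Fin.val_castAdd, ← Fin.ext_iff, ec.apply_eq_iff_eq, eq_comm]
    simp only [h2]
  obtain ⟨ε, hε⟩ := det_eq_of_unit_rows ((cellMatrix K d r).submatrix θ' id) er ec hkey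
  have hD : ((cellMatrix K d r).submatrix θ' id).submatrix (er ∘ Sum.inr) (ec ∘ Sum.inr) =
      (genMatrix K r d).submatrix f g := by
    ext b b'
    have h1 : ((cellMatrix K d r).submatrix θ' id).submatrix (er ∘ Sum.inr) (ec ∘ Sum.inr) b b' =
        cellMatrix K d r (Fin.natAdd d (f b)) (g b') := by
      simp [θ', F, hecr]
    rw [h1, cellMatrix_of_not_lt K d r _ _ (by simp)]
    simp
  rw [hD] at hε
  -- sort
  let σ : Equiv.Perm (Fin d) := Tuple.sort θ'
  have hmono : Monotone (θ' ∘ σ) := Tuple.monotone_sort θ'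
  have hsm : StrictMono (θ' ∘ σ) := hmono.strictMono_of_injective (hθ'inj.comp σ.injective)
  let θ : Idx d (d + r) := ⟨θ' ∘ σ, hsm⟩
  have hθdet : cellMinor K d r θ =
      ((Equiv.Perm.sign σ : ℤˣ) : ℤ) * det ((cellMatrix K d r).submatrix θ' id) := by
    have : (cellMatrix K d r).submatrix θ.1 id =
        ((cellMatrix K d r).submatrix θ' id).submatrix σ id := by
      ext i j; rfl
    unfold cellMinor
    rw [this, det_permute]
  have hcond : d ≤ (θ.1 ⟨d - t, Nat.sub_lt hd ht⟩).val := by
    by_contra hlt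
    push Not at hlt
    have hall : ∀ k : Fin (d - t + 1), ∃ a : Fin (d - t),
        er.symm (σ ⟨k.val, by have := k.isLt; omega⟩) = Sum.inl a := by
      intro k
      have hk : k.val < d := by have := k.isLt; omega
      have hle : θ.1 ⟨k.val, hk⟩ ≤ θ.1 ⟨d - t, Nat.sub_lt hd ht⟩ :=
        hmono (by rw [Fin.le_def]; simp only; have := k.isLt; omega)
      have hlt' : (θ' (σ ⟨k.val, hk⟩)).val < d := lt_of_le_of_lt (Fin.le_def.mp hle) hlt
      rcases hx : er.symm (σ ⟨k.val, hk⟩) with a | b
      · exact ⟨a, rfl⟩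
      · exfalso
        have h1 : θ' (σ ⟨k.val, hk⟩) = Fin.natAdd d (f b) := by simp [θ', F, hx]
        rw [h1] at hlt'
        simp at hlt'
    choose G hG using hall
    have hGinj : Function.Injective G := by
      intro k k' h
      have h1 := (hG k).trans ((congrArg Sum.inl h).trans (hG k').symm)
      have h2 := σ.injective (er.symm.injective h1)
      exact Fin.ext (by simpa using congrArg Fin.val h2)
    have := Fintype.card_le_of_injective G hGinj
    simp at this
  have hfinal : det ((genMatrix K r d).submatrix f g) =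
      (((ε : ℤ) : CellRing K d r) * (((Equiv.Perm.sign σ : ℤˣ) : ℤ) : CellRing K d r)) *
        cellMinor K d r θ := by
    rw [hθdet, hε]
    have e1 : (((ε : ℤˣ) : ℤ) : CellRing K d r) * (((ε : ℤˣ) : ℤ) : CellRing K d r) = 1 := by
      rw [← Int.cast_mul, ← Units.val_mul, Int.units_mul_self]; simp
    have e2 : (((Equiv.Perm.sign σ : ℤˣ) : ℤ) : CellRing K d r) *
        (((Equiv.Perm.sign σ : ℤˣ) : ℤ) : CellRing K d r) = 1 := by
      rw [← Int.cast_mul, ← Units.val_mul, Int.units_mul_self]; simp
    calc det ((genMatrix K r d).submatrix f g)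
        = ((((ε : ℤˣ) : ℤ) : CellRing K d r) * (((ε : ℤˣ) : ℤ) : CellRing K d r)) *
          ((((Equiv.Perm.sign σ : ℤˣ) : ℤ) : CellRing K d r) *
            (((Equiv.Perm.sign σ : ℤˣ) : ℤ) : CellRing K d r)) *
            det ((genMatrix K r d).submatrix f g) := by rw [e1, e2, one_mul, one_mul]
      _ = _ := by ring
  rw [hfinal]
  exact Ideal.mul_mem_left _ _ (Ideal.subset_span ⟨θ, hcond, rfl⟩)

theorem span_cellMinor_eq (t : ℕ) (hd : 0 < d) (ht : 0 < t) (htd : t ≤ d) :
    Ideal.span {f : CellRing K d r | ∃ θ : Idx d (d + r),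
        d ≤ (θ.1 ⟨d - t, Nat.sub_lt hd ht⟩).val ∧ f = cellMinor K d r θ} =
      CAlgX.minorIdeal (genMatrix K r d) t := by
  apply le_antisymm
  · rw [Ideal.span_le]
    rintro _ ⟨θ, hθ, rfl⟩
    exact cellMinor_mem K d r t hd ht htd θ hθ
  · unfold CAlgX.minorIdeal
    rw [Ideal.span_le]
    rintro _ ⟨⟨f, g⟩, rfl⟩
    exact minor_mem_span K d r t hd ht htd f g

end cell

end Groth.Agent.Lib.Helper14.CellMinor
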