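import Mathlib

/-! Helper14: exactness of adic completion under an Artin–Rees type condition (no Noetherian
hypothesis). -/

set_option autoImplicit false

namespace Groth.Agent.Lib.Helper14.ComplExact

variable {A : Type*} [CommRing A] (I : Ideal A)
  {M M' M'' : Type*} [AddCommGroup M] [Module A M] [AddCommGroup M'] [Module A M']
  [AddCommGroup M''] [Module A M'']

theorem mk_eq_zero_iff (a : AdicCompletion.AdicCauchySequence I M) :
    AdicCompletion.mk I M a = 0 ↔ ∀ n, a n ∈ (I ^ n • ⊤ : Submodule A M) := by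
  constructor
  · intro h n
    have h1 := congrArg (fun x => x.val n) h
    simp only [AdicCompletion.mk_apply_coe, AdicCompletion.val_zero, Pi.zero_apply,
      Submodule.mkQ_apply, Submodule.Quotient.mk_eq_zero] at h1
    exact h1
  · intro h
    ext n
    simp only [AdicCompletion.mk_apply_coe, AdicCompletion.val_zero, Pi.zero_apply,
      Submodule.mkQ_apply, Submodule.Quotient.mk_eq_zero]
    exact h n

theorem mk_eq_mk_iff (a b : AdicCompletion.AdicCauchySequence I M) :
    AdicCompletion.mk I M a = AdicCompletion.mk I M b ↔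
      ∀ n, a n - b n ∈ (I ^ n • ⊤ : Submodule A M) := by
  rw [← sub_eq_zero, ← map_sub, mk_eq_zero_iff]
  rfl

theorem map_injective_of_ar (f : M →ₗ[A] M') (hf : Function.Injective f) (B : ℕ)
    (har : ∀ n, (I ^ (n + B) • ⊤ : Submodule A M') ⊓ LinearMap.range f ≤
      Submodule.map f (I ^ n • ⊤ : Submodule A M)) :
    Function.Injective (AdicCompletion.map I f) := by
  rw [injective_iff_map_eq_zero]
  intro x hx
  obtain ⟨a, rfl⟩ := AdicCompletion.mk_surjective I M x
  rw [AdicCompletion.map_mk, mk_eq_zero_iff] at hx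
  rw [mk_eq_zero_iff]
  intro n
  have h1 : f (a (n + B)) ∈ (I ^ (n + B) • ⊤ : Submodule A M') ⊓ LinearMap.range f :=
    ⟨hx (n + B), ⟨_, rfl⟩⟩
  obtain ⟨m₀, hm₀, hfm⟩ := har n h1
  have h2 : m₀ = a (n + B) := hf hfm
  have h3 := a.property (show n ≤ n + B by omega)
  rw [SModEq.sub_mem] at h3
  have h4 : a n = (a n - a (n + B)) + a (n + B) := by abel
  rw [h4]
  exact Submodule.add_mem _ h3 (h2 ▸ hm₀)

theorem ker_map_le_range_of_ar (f : M →ₗ[A] M') (g : M' →ₗ[A] M'')
    (hf : Function.Injective f) (hg : Function.Surjective g)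
    (hfg : LinearMap.ker g ≤ LinearMap.range f) (B : ℕ)
    (har : ∀ n, (I ^ (n + B) • ⊤ : Submodule A M') ⊓ LinearMap.range f ≤
      Submodule.map f (I ^ n • ⊤ : Submodule A M)) :
    LinearMap.ker (AdicCompletion.map I g) ≤ LinearMap.range (AdicCompletion.map I f) := by
  intro y hy
  obtain ⟨b, rfl⟩ := AdicCompletion.mk_surjective I M' y
  rw [LinearMap.mem_ker, AdicCompletion.map_mk, mk_eq_zero_iff] at hy
  have hmapg : ∀ n, (I ^ n • ⊤ : Submodule A M'') =
      Submodule.map g (I ^ n • ⊤ : Submodule A M') := by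
    intro n
    rw [Submodule.map_smul'', Submodule.map_top, LinearMap.range_eq_top.mpr hg]
  have hw : ∀ n, ∃ w ∈ (I ^ n • ⊤ : Submodule A M'), g w = g (b n) := by
    intro n
    have := hy n
    rw [hmapg n] at this
    obtain ⟨w, hw, hgw⟩ := this
    exact ⟨w, hw, hgw⟩
  choose w hw hgw using hw
  have hu : ∀ n, ∃ u : M, f u = b n - w n := by
    intro n
    have : b n - w n ∈ LinearMap.ker g := by
      rw [LinearMap.mem_ker, map_sub, hgw n, sub_self]
    exact hfg this
  choose u hu using hu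
  have hstep : ∀ k, f (u (k + 1) - u k) ∈ (I ^ k • ⊤ : Submodule A M') := by
    intro k
    rw [map_sub, hu, hu]
    have h1 := b.property (show k ≤ k + 1 by omega)
    rw [SModEq.sub_mem] at h1
    have h2 : b (k + 1) - w (k + 1) - (b k - w k) = -(b k - b (k + 1)) - w (k + 1) + w k := by
      abel
    rw [h2]
    refine Submodule.add_mem _ (Submodule.sub_mem _ (Submodule.neg_mem _ h1) ?_) (hw k)
    exact Submodule.smul_mono_left (Ideal.pow_le_pow_right (Nat.le_succ k)) (hw (k + 1))
  have hcauchy : ∀ n, u (n + B) ≡ u (n + 1 + B) [SMOD (I ^ n • ⊤ : Submodule A M)] := by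
    intro n
    rw [SModEq.sub_mem]
    have h1 : f (u (n + B + 1) - u (n + B)) ∈
        (I ^ (n + B) • ⊤ : Submodule A M') ⊓ LinearMap.range f := ⟨hstep (n + B), ⟨_, rfl⟩⟩
    obtain ⟨m₀, hm₀, hfm⟩ := har n h1
    have h2 : m₀ = u (n + B + 1) - u (n + B) := hf hfm
    have h3 : u (n + B) - u (n + 1 + B) = -(u (n + B + 1) - u (n + B)) := by
      rw [show n + 1 + B = n + B + 1 by omega]
      abel
    rw [h3, ← h2]
    exact Submodule.neg_mem _ hm₀
  refine ⟨AdicCompletion.mk I M (AdicCompletion.AdicCauchySequence.mk I M (fun n => u (n + B)) hcauchy), ?_⟩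
  rw [AdicCompletion.map_mk, mk_eq_mk_iff]
  intro n
  change f (u (n + B)) - b n ∈ _
  rw [hu]
  have h1 := b.property (show n ≤ n + B by omega)
  rw [SModEq.sub_mem] at h1
  have h2 : b (n + B) - w (n + B) - b n = -(b n - b (n + B)) - w (n + B) := by abel
  rw [h2]
  refine Submodule.sub_mem _ (Submodule.neg_mem _ h1) ?_
  exact Submodule.smul_mono_left (Ideal.pow_le_pow_right (by omega)) (hw (n + B))

theorem map_comp_eq_zero (f : M →ₗ[A] M') (g : M' →ₗ[A] M'') (h : g ∘ₗ f = 0)
    (x : AdicCompletion I M) : AdicCompletion.map I g (AdicCompletion.map I f x) = 0 := by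
  have h1 := AdicCompletion.map_comp_apply I f g x
  rw [h1, h, AdicCompletion.map_zero]
  rfl

theorem map_lsmul (r : A) (x : AdicCompletion I M) :
    AdicCompletion.map I (LinearMap.lsmul A M r) x = r • x := by
  obtain ⟨a, rfl⟩ := AdicCompletion.mk_surjective I M x
  rw [AdicCompletion.map_mk, ← map_smul, mk_eq_mk_iff]
  intro n
  change r • a n - r • a n ∈ _
  rw [sub_self]
  exact Submodule.zero_mem _

/-- Elements of `(span {a})^k • ⊤`. -/
theorem mem_span_singleton_pow_smul_top (a : A) (k : ℕ) (y : M) :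
    y ∈ ((Ideal.span {a}) ^ k • ⊤ : Submodule A M) ↔ ∃ m : M, a ^ k • m = y := by
  rw [Ideal.span_singleton_pow, Submodule.ideal_span_singleton_smul,
    Submodule.mem_smul_pointwise_iff_exists]
  simp

/-- Artin–Rees type bound for multiplication by a regular element `r` on `M`, given bounded
`a`-power torsion on `M / r M` (presented as the target of a surjection `g` with kernel `r M`). -/
theorem ar_of_bounded_torsion (a r : A) (g : M →ₗ[A] M'')
    (hr : ∀ x : M, r • x = 0 → x = 0)
    (hg1 : ∀ x : M, g (r • x) = 0)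
    (hg2 : ∀ x : M, g x = 0 → ∃ z : M, r • z = x)
    (N : ℕ) (hN : ∀ x : M'', (∃ m : ℕ, a ^ m • x = 0) → a ^ N • x = 0) (n : ℕ) :
    ((Ideal.span {a}) ^ (n + N) • ⊤ : Submodule A M) ⊓
        LinearMap.range (LinearMap.lsmul A M r) ≤
      Submodule.map (LinearMap.lsmul A M r) ((Ideal.span {a}) ^ n • ⊤ : Submodule A M) := by
  rintro y ⟨hy1, m', hm'⟩
  rw [SetLike.mem_coe, mem_span_singleton_pow_smul_top] at hy1
  obtain ⟨m, hm⟩ := hy1
  rw [LinearMap.lsmul_apply] at hm'
  have h1 : a ^ (n + N) • g m = 0 := by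
    rw [← map_smul, hm, ← hm', hg1]
  have h2 : a ^ N • g m = 0 := hN _ ⟨_, h1⟩
  rw [← map_smul] at h2
  obtain ⟨m'', hm''⟩ := hg2 _ h2
  have h3 : r • (m' - a ^ n • m'') = 0 := by
    rw [smul_sub, hm', ← hm, smul_comm r, hm'', smul_smul, ← pow_add]
    exact sub_self _
  have h4 : m' = a ^ n • m'' := sub_eq_zero.mp (hr _ h3)
  refine ⟨m', ?_, hm'⟩
  rw [SetLike.mem_coe, mem_span_singleton_pow_smul_top]
  exact ⟨m'', h4.symm⟩

/-- The step: `r` regular modulo `J`, bounded `a`-power torsion modulo `J ⊔ (r)`. -/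
theorem step (a r : A) (J : Ideal A) (hr : ∀ x : A, r * x ∈ J → x ∈ J) (N : ℕ)
    (hN : ∀ x : A ⧸ (J ⊔ Ideal.span {r}), (∃ m : ℕ, a ^ m • x = 0) → a ^ N • x = 0) :
    Function.Injective (AdicCompletion.map (Ideal.span {a}) (LinearMap.lsmul A (A ⧸ J) r)) ∧
    LinearMap.ker (AdicCompletion.map (Ideal.span {a})
        (Submodule.factor (le_sup_left : J ≤ J ⊔ Ideal.span {r}))) ≤
      LinearMap.range (AdicCompletion.map (Ideal.span {a}) (LinearMap.lsmul A (A ⧸ J) r)) := by
  have hr' : ∀ x : A ⧸ J, r • x = 0 → x = 0 := by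
    intro x hx
    obtain ⟨y, rfl⟩ := Submodule.mkQ_surjective J x
    rw [← map_smul, Submodule.mkQ_apply, Submodule.Quotient.mk_eq_zero, smul_eq_mul] at hx
    rw [Submodule.mkQ_apply, Submodule.Quotient.mk_eq_zero]
    exact hr y hx
  have hg1 : ∀ x : A ⧸ J,
      Submodule.factor (le_sup_left : J ≤ J ⊔ Ideal.span {r}) (r • x) = 0 := by
    intro x
    obtain ⟨y, rfl⟩ := Submodule.mkQ_surjective J x
    rw [← map_smul, Submodule.factor_mk, Submodule.mkQ_apply, Submodule.Quotient.mk_eq_zero,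
      smul_eq_mul]
    exact Ideal.mul_mem_right _ _ (Ideal.mem_sup_right (Ideal.mem_span_singleton_self r))
  have hg2 : ∀ x : A ⧸ J,
      Submodule.factor (le_sup_left : J ≤ J ⊔ Ideal.span {r}) x = 0 → ∃ z : A ⧸ J, r • z = x := by
    intro x hx
    obtain ⟨y, rfl⟩ := Submodule.mkQ_surjective J x
    rw [Submodule.factor_mk, Submodule.mkQ_apply, Submodule.Quotient.mk_eq_zero] at hx
    obtain ⟨j, hj, t, ht, rfl⟩ := Submodule.mem_sup.mp hx
    obtain ⟨z, rfl⟩ := Ideal.mem_span_singleton'.mp ht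
    refine ⟨Submodule.mkQ J z, ?_⟩
    rw [← map_smul, Submodule.mkQ_apply, Submodule.mkQ_apply, Submodule.Quotient.eq]
    have : r • z - (j + z * r) = -j := by rw [smul_eq_mul]; ring
    rw [this]
    exact neg_mem hj
  have har := ar_of_bounded_torsion a r
    (Submodule.factor (le_sup_left : J ≤ J ⊔ Ideal.span {r})) hr' hg1 hg2 N hN
  have hinj : Function.Injective (LinearMap.lsmul A (A ⧸ J) r) := by
    rw [injective_iff_map_eq_zero]
    intro x hx
    exact hr' x hx
  refine ⟨map_injective_of_ar _ _ hinj N har, ?_⟩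
  refine ker_map_le_range_of_ar _ _ _ hinj (Submodule.factor_surjective _) ?_ N har
  intro x hx
  obtain ⟨z, hz⟩ := hg2 x hx
  exact ⟨z, hz⟩

theorem map_mkQ_algebraMap (J : Ideal A) (j : A) :
    AdicCompletion.map I J.mkQ (algebraMap A (AdicCompletion I A) j) =
      AdicCompletion.of I (A ⧸ J) (J.mkQ j) := rfl

theorem map_le_ker (J : Ideal A) :
    J.map (algebraMap A (AdicCompletion I A)) ≤ LinearMap.ker (AdicCompletion.map I J.mkQ) := by
  rw [Ideal.map_le_iff_le_comap]
  intro j hj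
  rw [Ideal.mem_comap]
  refine LinearMap.mem_ker.mpr ?_
  rw [map_mkQ_algebraMap]
  have : J.mkQ j = 0 := by
    rw [Submodule.mkQ_apply, Submodule.Quotient.mk_eq_zero]
    exact hj
  rw [this, map_zero]

theorem ker_bot : LinearMap.ker (AdicCompletion.map I (⊥ : Ideal A).mkQ) =
    (⊥ : Ideal A).map (algebraMap A (AdicCompletion I A)) := by
  rw [Ideal.map_bot]
  apply LinearMap.ker_eq_bot.mpr
  have hinj : Function.Injective (⊥ : Ideal A).mkQ := by
    rw [← LinearMap.ker_eq_bot, Submodule.ker_mkQ]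
  refine map_injective_of_ar I _ hinj 0 ?_
  intro n
  rw [Submodule.map_smul'', Submodule.map_top, Submodule.range_mkQ]
  exact inf_le_left

theorem map_smul_eq (f : M →ₗ[A] M') (r : A) (x : AdicCompletion I M) :
    AdicCompletion.map I f (algebraMap A (AdicCompletion I A) r • x) =
      AdicCompletion.map I (LinearMap.lsmul A M' r) (AdicCompletion.map I f x) := by
  rw [map_smul, map_lsmul, algebraMap_smul]

theorem map_mul_eq (f : A →ₗ[A] M') (r : A) (x : AdicCompletion I A) :
    AdicCompletion.map I f (algebraMap A (AdicCompletion I A) r * x) =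
      AdicCompletion.map I (LinearMap.lsmul A M' r) (AdicCompletion.map I f x) := by
  rw [← map_smul_eq]
  rfl

theorem ker_step (a r : A) (J : Ideal A) (hr : ∀ x : A, r * x ∈ J → x ∈ J) (N : ℕ)
    (hN : ∀ x : A ⧸ (J ⊔ Ideal.span {r}), (∃ m : ℕ, a ^ m • x = 0) → a ^ N • x = 0)
    (hJ : LinearMap.ker (AdicCompletion.map (Ideal.span {a}) J.mkQ) =
      J.map (algebraMap A (AdicCompletion (Ideal.span {a}) A))) :
    LinearMap.ker (AdicCompletion.map (Ideal.span {a}) (J ⊔ Ideal.span {r}).mkQ) =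
      (J ⊔ Ideal.span {r}).map (algebraMap A (AdicCompletion (Ideal.span {a}) A)) := by
  refine le_antisymm ?_ (map_le_ker _ _)
  obtain ⟨-, hker⟩ := step a r J hr N hN
  intro x' hx'
  rw [LinearMap.mem_ker, ← Submodule.factor_comp_mk (le_sup_left : J ≤ J ⊔ Ideal.span {r}),
    ← AdicCompletion.map_comp_apply] at hx'
  obtain ⟨y, hy⟩ := hker hx'
  obtain ⟨x, rfl⟩ := AdicCompletion.map_surjective (Ideal.span {a}) (Submodule.mkQ_surjective J) y
  rw [← map_mul_eq] at hy
  have h1 : x' - algebraMap A (AdicCompletion (Ideal.span {a}) A) r * x ∈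
      LinearMap.ker (AdicCompletion.map (Ideal.span {a}) J.mkQ) := by
    refine LinearMap.mem_ker.mpr ?_
    rw [map_sub, hy, sub_self]
  rw [hJ] at h1
  rw [Ideal.map_sup, Ideal.map_span, Set.image_singleton]
  have h2 : x' = (x' - algebraMap A (AdicCompletion (Ideal.span {a}) A) r * x) +
      x * algebraMap A (AdicCompletion (Ideal.span {a}) A) r := by
    ring
  rw [h2]
  exact Submodule.add_mem_sup h1 (Ideal.mem_span_singleton'.mpr ⟨x, rfl⟩)

theorem regular_step (a r : A) (J : Ideal A) (hr : ∀ x : A, r * x ∈ J → x ∈ J) (N : ℕ)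
    (hN : ∀ x : A ⧸ (J ⊔ Ideal.span {r}), (∃ m : ℕ, a ^ m • x = 0) → a ^ N • x = 0)
    (hJ : LinearMap.ker (AdicCompletion.map (Ideal.span {a}) J.mkQ) =
      J.map (algebraMap A (AdicCompletion (Ideal.span {a}) A)))
    (x : AdicCompletion (Ideal.span {a}) A)
    (hx : algebraMap A (AdicCompletion (Ideal.span {a}) A) r * x ∈
      J.map (algebraMap A (AdicCompletion (Ideal.span {a}) A))) :
    x ∈ J.map (algebraMap A (AdicCompletion (Ideal.span {a}) A)) := by
  obtain ⟨hinj, -⟩ := step a r J hr N hN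
  rw [← hJ] at hx ⊢
  have hx' := LinearMap.mem_ker.mp hx
  refine LinearMap.mem_ker.mpr ?_
  rw [map_mul_eq] at hx'
  exact hinj (hx'.trans (map_zero _).symm)

end Groth.Agent.Lib.Helper14.ComplExact
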