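import Groth.Prelude.Def_Found
import Groth.Prelude.Def_CAlgX
import Mathlib.LinearAlgebra.TensorProduct.Pi
import Mathlib.LinearAlgebra.TensorProduct.RightExactness

/-! Helper14: basic API for `CAlg.IsMittagLeffler` (product-injectivity definition). -/

namespace Groth.Agent.Lib.Helper14.ML

open TensorProduct

universe u

variable {R : Type u} [CommRing R]

/-- The `i`-th component of `piRightHom` is `lTensor` of the projection. -/
theorem piRightHom_apply {M : Type u} [AddCommGroup M] [Module R M] {ι : Type u} (Q : ι → Type u)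
    [∀ i, AddCommGroup (Q i)] [∀ i, Module R (Q i)] (z : M ⊗[R] (∀ i, Q i)) (i : ι) :
    TensorProduct.piRightHom R R M Q z i = (LinearMap.proj i : (∀ i, Q i) →ₗ[R] Q i).lTensor M z := by
  induction z using TensorProduct.induction_on with
  | zero => simp
  | tmul x y => simp
  | add x y hx hy => simp only [map_add, Pi.add_apply, hx, hy]

theorem piRightHom_eq_zero_iff {M : Type u} [AddCommGroup M] [Module R M] {ι : Type u}
    (Q : ι → Type u) [∀ i, AddCommGroup (Q i)] [∀ i, Module R (Q i)] (z : M ⊗[R] (∀ i, Q i)) :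
    TensorProduct.piRightHom R R M Q z = 0 ↔
      ∀ i, (LinearMap.proj i : (∀ i, Q i) →ₗ[R] Q i).lTensor M z = 0 := by
  rw [funext_iff]
  exact forall_congr' fun i => by rw [piRightHom_apply, Pi.zero_apply]

/-- Mittag-Leffler in kernel form. -/
theorem isMittagLeffler_iff {M : Type u} [AddCommGroup M] [Module R M] :
    CAlg.IsMittagLeffler R M ↔ ∀ (ι : Type u) (Q : ι → Type u) [∀ i, AddCommGroup (Q i)]
      [∀ i, Module R (Q i)] (z : M ⊗[R] (∀ i, Q i)),
      (∀ i, (LinearMap.proj i : (∀ i, Q i) →ₗ[R] Q i).lTensor M z = 0) → z = 0 := by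
  constructor
  · intro h ι Q _ _ z hz
    apply h ι Q
    rw [map_zero]
    exact (piRightHom_eq_zero_iff Q z).mpr hz
  · intro h ι Q _ _
    rw [injective_iff_map_eq_zero]
    intro z hz
    exact h ι Q z ((piRightHom_eq_zero_iff Q z).mp hz)

/-- `rTensor` and `lTensor` commute (elementwise form). -/
theorem rTensor_lTensor_comm {M M' N N' : Type u} [AddCommGroup M] [Module R M] [AddCommGroup M']
    [Module R M'] [AddCommGroup N] [Module R N] [AddCommGroup N'] [Module R N']
    (h : M →ₗ[R] M') (p : N →ₗ[R] N') (z : M ⊗[R] N) :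
    p.lTensor M' (h.rTensor N z) = h.rTensor N' (p.lTensor M z) := by
  rw [← LinearMap.comp_apply, ← LinearMap.comp_apply, LinearMap.lTensor_comp_rTensor,
    LinearMap.rTensor_comp_lTensor]

end Groth.Agent.Lib.Helper14.ML
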