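import Mathlib
import Groth.Prelude.Def_W4c5adicflatcomplDec
import Groth.Agent.Lib.Helper14AdicUniv
import Groth.Agent.Lib.Helper14SysLim
import Groth.Agent.Lib.Helper14ML

/-!
# Completion of a flat module with projective reduction is a retract of a completed free module

`exists_retract`: over a Noetherian ring `R` with an ideal `I`, if `M` is flat and `M/IM` is
projective over `R/I`, then `M^` is a retract of `(M →₀ R)^`.
-/

set_option autoImplicit false

open W4c5adicflatcompl
open scoped TensorProduct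

universe u v w

namespace Groth.Agent.Lib.Helper14.ComplRetract

open Groth.Agent.Lib.Helper14

section ev

variable {R : Type u} [CommRing R] (I : Ideal R)

/-- Reduction of a linear map modulo `I`, as an `R`-linear map. -/
noncomputable def red {N : Type v} {N' : Type w} [AddCommGroup N] [Module R N] [AddCommGroup N']
    [Module R N'] (f : N →ₗ[R] N') :
    (N ⧸ (I • ⊤ : Submodule R N)) →ₗ[R] (N' ⧸ (I • ⊤ : Submodule R N')) :=
  (f.reduceModIdeal I).restrictScalars R

theorem red_mk {N : Type v} {N' : Type w} [AddCommGroup N] [Module R N] [AddCommGroup N']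
    [Module R N'] (f : N →ₗ[R] N') (n : N) :
    red I f (Submodule.Quotient.mk n) = Submodule.Quotient.mk (f n) := rfl

/-- Evaluation of the completion modulo `I`. -/
noncomputable def ev (N : Type v) [AddCommGroup N] [Module R N] :
    AdicCompletion I N →ₗ[R] N ⧸ (I • ⊤ : Submodule R N) :=
  (Submodule.factor (le_of_eq (by rw [pow_one]) : (I ^ 1 • ⊤ : Submodule R N) ≤ I • ⊤)) ∘ₗ
    AdicCompletion.eval I N 1

theorem ev_of {N : Type v} [AddCommGroup N] [Module R N] (n : N) :
    ev I N (AdicCompletion.of I N n) = Submodule.Quotient.mk n := by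
  unfold ev
  rw [LinearMap.comp_apply, AdicCompletion.eval_of]
  rfl

theorem ev_surjective {N : Type v} [AddCommGroup N] [Module R N] :
    Function.Surjective (ev I N) := by
  intro t
  obtain ⟨n, rfl⟩ := Submodule.Quotient.mk_surjective _ t
  exact ⟨AdicCompletion.of I N n, ev_of I n⟩

theorem ev_eq_zero_iff (hI : I.FG) {N : Type v} [AddCommGroup N] [Module R N]
    (x : AdicCompletion I N) :
    ev I N x = 0 ↔ x ∈ (I • ⊤ : Submodule R (AdicCompletion I N)) := by
  have h1 : (I • ⊤ : Submodule R (AdicCompletion I N)) =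
      LinearMap.ker (AdicCompletion.eval I N 1) := by
    rw [← AdicCompletion.pow_smul_top_eq_ker_eval hI, pow_one]
  rw [h1, LinearMap.mem_ker]
  unfold ev
  rw [LinearMap.comp_apply]
  obtain ⟨a, ha⟩ := Submodule.Quotient.mk_surjective _ (AdicCompletion.eval I N 1 x)
  rw [← ha]
  have h2 : Submodule.factor (le_of_eq (by rw [pow_one]) :
      (I ^ 1 • ⊤ : Submodule R N) ≤ I • ⊤) (Submodule.Quotient.mk a) =
      Submodule.Quotient.mk a := rfl
  rw [h2, Submodule.Quotient.mk_eq_zero, Submodule.Quotient.mk_eq_zero, pow_one]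

theorem ev_map {N : Type v} {N' : Type w} [AddCommGroup N] [Module R N] [AddCommGroup N']
    [Module R N'] (f : N →ₗ[R] N') (x : AdicCompletion I N) :
    ev I N' (AdicCompletion.map I f x) = red I f (ev I N x) := by
  unfold ev
  simp only [LinearMap.comp_apply, AdicCompletion.eval_apply, AdicCompletion.map_val_apply]
  obtain ⟨a, ha⟩ := Submodule.Quotient.mk_surjective _ (x.val 1)
  rw [← ha]
  rfl

/-- An endomorphism of a complete module congruent to the identity modulo `I` is bijective. -/
theorem bijective_of_sub_mem {N : Type v} [AddCommGroup N] [Module R N] [IsAdicComplete I N]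
    (u : N →ₗ[R] N) (hu : ∀ y, u y - y ∈ (I • ⊤ : Submodule R N)) : Function.Bijective u := by
  constructor
  · rw [injective_iff_map_eq_zero]
    intro y hy
    have hn : ∀ n, y ∈ (I ^ n • ⊤ : Submodule R N) := by
      intro n
      induction n with
      | zero =>
        rw [pow_zero, Ideal.one_eq_top, Submodule.top_smul]
        trivial
      | succ n ih =>
        have h1 : (I ^ n • ⊤ : Submodule R N).map (u - LinearMap.id) ≤ I ^ (n + 1) • ⊤ := by
          rw [Submodule.map_smul'', pow_succ, Submodule.mul_smul]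
          apply Submodule.smul_mono le_rfl
          rintro _ ⟨z, -, rfl⟩
          exact hu z
        have h2 := h1 (Submodule.mem_map_of_mem ih)
        rw [LinearMap.sub_apply, hy, LinearMap.id_apply, zero_sub] at h2
        exact (Submodule.neg_mem_iff _).mp h2
    exact IsHausdorff.haus (inferInstance : IsHausdorff I N) y
      (fun n => by rw [SModEq.zero]; exact hn n)
  · apply surjective_of_mkQ_comp_surjective (I := I)
    intro t
    obtain ⟨y, rfl⟩ := Submodule.mkQ_surjective _ t
    refine ⟨y, ?_⟩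
    rw [LinearMap.comp_apply, Submodule.mkQ_apply, Submodule.mkQ_apply, Submodule.Quotient.eq]
    exact hu y

end ev

section main

variable {R : Type u} [CommRing R] [IsNoetherianRing R] (I : Ideal R)

/-- Completed free modules lift along surjections of complete modules. -/
theorem lifting_finsupp (Z : Type u) {X Y : Type u} [AddCommGroup X] [Module R X]
    [AddCommGroup Y] [Module R Y] (hX : IsAdicComplete I X) (hY : IsAdicComplete I Y)
    (φ : X →ₗ[R] Y) (hφ : Function.Surjective φ) (ψ : AdicCompletion I (Z →₀ R) →ₗ[R] Y) :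
    ∃ χ : AdicCompletion I (Z →₀ R) →ₗ[R] X, φ ∘ₗ χ = ψ := by
  have hfg : I.FG := Ideal.fg_of_isNoetherianRing I
  haveI : IsAdicComplete I (AdicCompletion I R) := AdicCompletion.isAdicComplete hfg
  have h : IsAdicProjective I (AdicCompletion I (Z →₀ R)) :=
    (AdicUniv.isAdicProjective_iff I _).mpr ⟨Z, (AdicUniv.PsiEquiv I Z R).toLinearMap,
      (AdicUniv.PsiEquiv I Z R).symm.toLinearMap, LinearMap.ext fun x => by simp⟩
  exact h.2 X Y hX hY φ hφ ψ

/-- Generic form: a flat module `M` with `M/IM` projective, presented as `F/K` where the completion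
of `F` has the lifting property against surjections of complete modules. Then `M^` is a retract
of `F^`. -/
theorem exists_retract_aux {K F M : Type u} [AddCommGroup K] [Module R K] [AddCommGroup F]
    [Module R F] [AddCommGroup M] [Module R M] [Module.Flat R M]
    [Module.Projective (R ⧸ I) (M ⧸ (I • ⊤ : Submodule R M))]
    (ι : K →ₗ[R] F) (π : F →ₗ[R] M) (hι : Function.Injective ι) (hπ : Function.Surjective π)
    (hex : Function.Exact ι π)
    (hlift : ∀ (X Y : Type u) [AddCommGroup X] [Module R X] [AddCommGroup Y] [Module R Y],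
      IsAdicComplete I X → IsAdicComplete I Y → ∀ (φ : X →ₗ[R] Y), Function.Surjective φ →
      ∀ ψ : AdicCompletion I F →ₗ[R] Y, ∃ χ : AdicCompletion I F →ₗ[R] X, φ ∘ₗ χ = ψ) :
    ∃ (σ : AdicCompletion I M →ₗ[R] AdicCompletion I F)
      (p : AdicCompletion I F →ₗ[R] AdicCompletion I M), p ∘ₗ σ = LinearMap.id := by
  classical
  have hfg : I.FG := Ideal.fg_of_isNoetherianRing I
  have hKh : IsAdicComplete I (AdicCompletion I K) := AdicCompletion.isAdicComplete hfg
  haveI hFh : IsAdicComplete I (AdicCompletion I F) := AdicCompletion.isAdicComplete hfg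
  obtain ⟨πh, hπh⟩ : ∃ πh : AdicCompletion I F →ₗ[R] AdicCompletion I M,
      ∀ x, πh x = AdicCompletion.map I π x :=
    ⟨(AdicCompletion.map I π).restrictScalars R, fun x => rfl⟩
  obtain ⟨ιh, hιh⟩ : ∃ ιh : AdicCompletion I K →ₗ[R] AdicCompletion I F,
      ∀ x, ιh x = AdicCompletion.map I ι x :=
    ⟨(AdicCompletion.map I ι).restrictScalars R, fun x => rfl⟩
  have hπι : ∀ y, πh (ιh y) = 0 := by
    intro y
    have h0 : πh ∘ₗ ιh = 0 := by
      apply AdicUniv.ext_of hfg
      intro k
      rw [LinearMap.comp_apply, hιh, hπh, AdicCompletion.map_of, AdicCompletion.map_of,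
        hex.apply_apply_eq_zero, map_zero, LinearMap.zero_apply]
    exact LinearMap.congr_fun h0 y
  -- injectivity of `K/IK → F/IF`
  have hιb : Function.Injective (red I ι) := by
    rw [injective_iff_map_eq_zero]
    intro kb hkb
    obtain ⟨k, rfl⟩ := Submodule.Quotient.mk_surjective _ kb
    rw [red_mk, Submodule.Quotient.mk_eq_zero] at hkb
    rw [Submodule.Quotient.mk_eq_zero]
    have hinj := LinearMap.lTensor_injective_of_exact_of_flat π hπ ι hι hex (R ⧸ I)
    have h1 : (1 : R ⧸ I) ⊗ₜ[R] (ι k) = 0 := by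
      apply (TensorProduct.quotTensorEquivQuotSMul F I).injective
      rw [TensorProduct.quotTensorEquivQuotSMul_mk_one_tmul, map_zero,
        Submodule.Quotient.mk_eq_zero]
      exact hkb
    have h2 : (1 : R ⧸ I) ⊗ₜ[R] k = 0 := hinj (by rw [LinearMap.lTensor_tmul, h1, map_zero])
    have h3 := congrArg (TensorProduct.quotTensorEquivQuotSMul K I) h2
    rw [TensorProduct.quotTensorEquivQuotSMul_mk_one_tmul, map_zero,
      Submodule.Quotient.mk_eq_zero] at h3
    exact h3
  -- a section modulo `I`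
  obtain ⟨sb', hsb'⟩ := Module.projective_lifting_property (π.reduceModIdeal I) LinearMap.id (by
    intro t
    obtain ⟨m, rfl⟩ := Submodule.Quotient.mk_surjective _ t
    obtain ⟨f, rfl⟩ := hπ m
    exact ⟨Submodule.Quotient.mk f, rfl⟩)
  obtain ⟨sb, hsbdef⟩ : ∃ sb : (M ⧸ (I • ⊤ : Submodule R M)) →ₗ[R]
      (F ⧸ (I • ⊤ : Submodule R F)), ∀ t, sb t = sb' t := ⟨sb'.restrictScalars R, fun t => rfl⟩
  have hsb : ∀ t, red I π (sb t) = t := fun t => by
    rw [hsbdef]
    exact LinearMap.congr_fun hsb' t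
  obtain ⟨g, hg⟩ : ∃ g : AdicCompletion I F →ₗ[R] (F ⧸ (I • ⊤ : Submodule R F)),
      ∀ x, g x = ev I F x - sb (red I π (ev I F x)) :=
    ⟨ev I F - sb ∘ₗ (red I π) ∘ₗ ev I F, fun x => rfl⟩
  obtain ⟨q, hq⟩ : ∃ q : AdicCompletion I K →ₗ[R] (F ⧸ (I • ⊤ : Submodule R F)),
      ∀ y, q y = red I ι (ev I K y) :=
    ⟨ev I F ∘ₗ ιh, fun y => by
      rw [LinearMap.comp_apply, hιh]
      exact ev_map I ι y⟩
  have hgker : ∀ x, red I π (g x) = 0 := by
    intro x
    rw [hg, map_sub, hsb, sub_self]
  have hexb : ∀ t, red I π t = 0 → ∃ k : K, t = Submodule.Quotient.mk (ι k) := by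
    intro t ht
    obtain ⟨f, rfl⟩ := Submodule.Quotient.mk_surjective _ t
    rw [red_mk, Submodule.Quotient.mk_eq_zero] at ht
    have h1 : (I • ⊤ : Submodule R M) = (I • ⊤ : Submodule R F).map π := by
      rw [Submodule.map_smul'', Submodule.map_top, LinearMap.range_eq_top.mpr hπ]
    rw [h1] at ht
    obtain ⟨f', hf', hff'⟩ := ht
    obtain ⟨k, hk⟩ := (hex (f - f')).mp (by rw [map_sub, hff', sub_self])
    refine ⟨k, ?_⟩
    rw [hk, Submodule.Quotient.eq]
    simpa using hf'
  have hgq : ∀ x, g x ∈ LinearMap.range q := by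
    intro x
    obtain ⟨k, hk⟩ := hexb (g x) (hgker x)
    refine ⟨AdicCompletion.of I K k, ?_⟩
    rw [hq, ev_of, red_mk, hk]
  have hY : IsAdicComplete I (LinearMap.range q) := by
    apply SysLim.isAdicComplete_of_pow_smul_top_eq_bot 1
    rw [pow_one, eq_bot_iff]
    intro y hy
    refine Submodule.smul_induction_on hy ?_ ?_
    · intro a ha t _
      rw [Submodule.mem_bot]
      apply Subtype.ext
      rw [Submodule.coe_smul, Submodule.coe_zero]
      obtain ⟨f, hf⟩ := Submodule.Quotient.mk_surjective _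
        (t : F ⧸ (I • ⊤ : Submodule R F))
      rw [← hf, ← Submodule.Quotient.mk_smul, Submodule.Quotient.mk_eq_zero]
      exact Submodule.smul_mem_smul ha Submodule.mem_top
    · intro a b ha hb
      exact Submodule.add_mem _ ha hb
  obtain ⟨r, hr⟩ := hlift (AdicCompletion I K) (LinearMap.range q) hKh hY q.rangeRestrict
    (LinearMap.surjective_rangeRestrict q) (g.codRestrict (LinearMap.range q) hgq)
  have hr' : ∀ x, q (r x) = g x := by
    intro x
    exact congrArg Subtype.val (LinearMap.congr_fun hr x)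
  obtain ⟨u, hudef⟩ : ∃ u : AdicCompletion I K →ₗ[R] AdicCompletion I K, ∀ y, u y = r (ιh y) :=
    ⟨r ∘ₗ ιh, fun y => rfl⟩
  have hu : ∀ y, u y - y ∈ (I • ⊤ : Submodule R (AdicCompletion I K)) := by
    intro y
    rw [← ev_eq_zero_iff I hfg, map_sub, sub_eq_zero]
    apply hιb
    rw [← hq, ← hq, hudef, hr', hg]
    have h0 : red I π (ev I F (ιh y)) = 0 := by
      have h1 := ev_map I π (ιh y)
      have h2 : AdicCompletion.map I π (ιh y) = 0 := by
        rw [← hπh]
        exact hπι y
      rw [h2, map_zero] at h1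
      exact h1.symm
    rw [h0, map_zero, sub_zero, hq, hιh]
    exact ev_map I ι y
  haveI := hKh
  obtain ⟨hui, hus⟩ := bijective_of_sub_mem I u hu
  obtain ⟨e, he⟩ : ∃ e : AdicCompletion I K ≃ₗ[R] AdicCompletion I K, ∀ y, e y = u y :=
    ⟨LinearEquiv.ofBijective u ⟨hui, hus⟩, fun y => rfl⟩
  obtain ⟨ρ, hρdef⟩ : ∃ ρ : AdicCompletion I F →ₗ[R] AdicCompletion I K,
      ∀ x, ρ x = e.symm (r x) := ⟨e.symm.toLinearMap ∘ₗ r, fun x => rfl⟩
  have hρ : ∀ y, ρ (ιh y) = y := by
    intro y
    rw [hρdef, LinearEquiv.symm_apply_eq, he, hudef]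
  obtain ⟨E, hEdef⟩ : ∃ E : AdicCompletion I F →ₗ[R] AdicCompletion I F,
      ∀ x, E x = x - ιh (ρ x) := ⟨LinearMap.id - ιh ∘ₗ ρ, fun x => rfl⟩
  have hEι : ∀ y, E (ιh y) = 0 := by
    intro y
    rw [hEdef, hρ, sub_self]
  have hπE : ∀ x, πh (E x) = πh x := by
    intro x
    rw [hEdef, map_sub, hπι, sub_zero]
  obtain ⟨E0, hE0def⟩ : ∃ E0 : F →ₗ[R] AdicCompletion I F,
      ∀ f, E0 f = E (AdicCompletion.of I F f) := ⟨E ∘ₗ AdicCompletion.of I F, fun f => rfl⟩
  have hE0 : LinearMap.ker π ≤ LinearMap.ker E0 := by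
    intro f hf
    rw [LinearMap.mem_ker] at hf ⊢
    obtain ⟨k, rfl⟩ := (hex f).mp hf
    have h1 : AdicCompletion.of I F (ι k) = ιh (AdicCompletion.of I K k) := by
      rw [hιh, AdicCompletion.map_of]
    rw [hE0def, h1, hEι]
  obtain ⟨σ₀, hσ₀⟩ : ∃ σ₀ : M →ₗ[R] AdicCompletion I F,
      ∀ f, σ₀ (π f) = E (AdicCompletion.of I F f) := by
    refine ⟨((LinearMap.ker π).liftQ E0 hE0) ∘ₗ
      (π.quotKerEquivOfSurjective hπ).symm.toLinearMap, ?_⟩
    intro f
    have h1 : (π.quotKerEquivOfSurjective hπ).symm (π f) = Submodule.Quotient.mk f := by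
      rw [LinearEquiv.symm_apply_eq]
      rfl
    rw [LinearMap.comp_apply, LinearEquiv.coe_coe, h1, Submodule.liftQ_apply, hE0def]
  obtain ⟨σ, hσ⟩ : ∃ σ : AdicCompletion I M →ₗ[R] AdicCompletion I F,
      ∀ m, σ (AdicCompletion.of I M m) = σ₀ m := by
    refine ⟨(AdicCompletion.ofLinearEquiv I (AdicCompletion I F)).symm.toLinearMap ∘ₗ
      (AdicCompletion.map I σ₀).restrictScalars R, ?_⟩
    intro m
    rw [LinearMap.comp_apply, LinearMap.restrictScalars_apply, AdicCompletion.map_of,
      LinearEquiv.coe_coe, AdicCompletion.ofLinearEquiv_symm_of]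
  refine ⟨σ, πh, ?_⟩
  apply AdicUniv.ext_of hfg
  intro m
  obtain ⟨f, rfl⟩ := hπ m
  rw [LinearMap.comp_apply, hσ, hσ₀, hπE, hπh, AdicCompletion.map_of, LinearMap.id_apply]

/-- If `M` is flat and `M/IM` is projective over `R/I`, the completion of `M` is a retract of the
completion of a free module. -/
theorem exists_retract (M : Type u) [AddCommGroup M] [Module R M] [Module.Flat R M]
    [Module.Projective (R ⧸ I) (M ⧸ (I • ⊤ : Submodule R M))] :
    ∃ (σ : AdicCompletion I M →ₗ[R] AdicCompletion I (M →₀ R))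
      (p : AdicCompletion I (M →₀ R) →ₗ[R] AdicCompletion I M), p ∘ₗ σ = LinearMap.id := by
  have hπ : Function.Surjective (Finsupp.linearCombination R (id : M → M)) :=
    Finsupp.linearCombination_id_surjective R M
  exact exists_retract_aux I
    (K := LinearMap.ker (Finsupp.linearCombination R (id : M → M))) (F := M →₀ R) (M := M)
    (LinearMap.ker (Finsupp.linearCombination R (id : M → M))).subtype
    (Finsupp.linearCombination R (id : M → M)) (Submodule.injective_subtype _) hπ
    (LinearMap.exact_subtype_ker_map (Finsupp.linearCombination R (id : M → M)))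
    (fun X Y _ _ _ _ hX hY φ hφ ψ => lifting_finsupp I M hX hY φ hφ ψ)

end main

section ml

variable {R : Type u} [CommRing R]

/-- A retract of a Mittag-Leffler module is Mittag-Leffler. -/
theorem isMittagLeffler_of_retract {M P : Type u} [AddCommGroup M] [Module R M] [AddCommGroup P]
    [Module R P] (i : M →ₗ[R] P) (r : P →ₗ[R] M) (hri : r ∘ₗ i = LinearMap.id)
    (hP : CAlg.IsMittagLeffler R P) : CAlg.IsMittagLeffler R M := by
  rw [ML.isMittagLeffler_iff] at hP ⊢
  intro ι Q _ _ z hz
  have h1 : i.rTensor (∀ j, Q j) z = 0 := by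
    apply hP ι Q
    intro j
    rw [ML.rTensor_lTensor_comm, hz j, map_zero]
  have h2 : r.rTensor (∀ j, Q j) (i.rTensor (∀ j, Q j) z) = z := by
    rw [← LinearMap.comp_apply, ← LinearMap.rTensor_comp, hri, LinearMap.rTensor_id,
      LinearMap.id_apply]
  rw [← h2, h1, map_zero]

end ml

end Groth.Agent.Lib.Helper14.ComplRetract
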