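import Mathlib
import Groth.Agent.Lib.Helper14ConsGenD
import Groth.Agent.Lib.Helper28DepthMore

/-!
# Constructibility of the loci where the fibre modules are torsion / torsion-free (helper14)

EGA IV 9.4.8-like: for `f : X ⟶ Y` of finite presentation with locally integral fibres and `F` of
finite presentation, the sets of `y` such that `F_y` is torsion (resp. torsion-free) are locally
constructible.
-/

set_option autoImplicit false
set_option linter.unusedVariables false
set_option linter.unusedSectionVars false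
set_option linter.style.haveILetI false
set_option maxHeartbeats 400000

universe u

open CategoryTheory Limits AlgebraicGeometry TopologicalSpace Topology
open scoped Set.Notation nonZeroDivisors

namespace Groth.Agent.Lib.Helper14.ConsGenE

open Groth.Agent.Lib.Helper4.DimFormula Groth.Agent.Lib.Helper4.VarDim
  Groth.Agent.Lib.Helper4.FibDim
open Groth.Agent.Lib.Helper14.FibAssA Groth.Agent.Lib.Helper14.FibAssB
  Groth.Agent.Lib.Helper14.FibAssC Groth.Agent.Lib.Helper14.FibAssD
  Groth.Agent.Lib.Helper14.FibAssE Groth.Agent.Lib.Helper14.FibAssF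
  Groth.Agent.Lib.Helper14.FibAssG Groth.Agent.Lib.Helper14.FibRhoH
  Groth.Agent.Lib.Helper14.FibDepthAlongA Groth.Agent.Lib.Helper14.FibDepthAlongB
  Groth.Agent.Lib.Helper14.ConsGenA Groth.Agent.Lib.Helper14.ConsGenB
  Groth.Agent.Lib.Helper14.ConsGenC Groth.Agent.Lib.Helper14.ConsGenD

section Alg

variable {A : Type u} [CommRing A] [IsDomain A] {M : Type u} [AddCommGroup M] [Module A M]

theorem supportDim_eq_of_torsion_ne_top [Module.Finite A M] (h : Submodule.torsion A M ≠ ⊤) :
    Module.supportDim A M = ringKrullDim A := by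
  obtain ⟨m₀, hm₀⟩ : ∃ m₀ : M, m₀ ∉ Submodule.torsion A M := by
    by_contra hcon
    push Not at hcon
    exact h (eq_top_iff.mpr fun m _ => hcon m)
  have hann : Module.annihilator A M = ⊥ := by
    rw [eq_bot_iff]
    intro a ha
    by_contra hane
    apply hm₀
    exact ⟨⟨a, mem_nonZeroDivisors_of_ne_zero hane⟩, Module.mem_annihilator.mp ha m₀⟩
  rw [Module.supportDim_eq_ringKrullDim_quotient_annihilator, hann]
  exact ringKrullDim_eq_of_ringEquiv (RingEquiv.quotientBot A)

theorem nontrivial_of_torsion_ne_top (h : Submodule.torsion A M ≠ ⊤) : Nontrivial M := by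
  by_contra hcon
  rw [not_nontrivial_iff_subsingleton] at hcon
  apply h
  rw [eq_top_iff]
  intro m _
  have : m = 0 := Subsingleton.elim _ _
  rw [this]
  exact Submodule.zero_mem _

theorem torsion_ne_top_of_isField (hA : IsField A) [Nontrivial M] :
    Submodule.torsion A M ≠ ⊤ := by
  intro h
  obtain ⟨m, hm⟩ := exists_ne (0 : M)
  have hmt : m ∈ Submodule.torsion A M := h ▸ Submodule.mem_top
  obtain ⟨a, ha⟩ := hmt
  have hane : (a : A) ≠ 0 := nonZeroDivisors.coe_ne_zero a
  obtain ⟨b, hb⟩ := hA.mul_inv_cancel hane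
  apply hm
  have ha' : (a : A) • m = 0 := ha
  have h1 : (b * (a : A)) • m = 0 := by rw [mul_smul, ha', smul_zero]
  rwa [mul_comm, hb, one_smul] at h1

theorem exists_assPrime_ne_bot [IsNoetherianRing A] (h : Submodule.torsion A M ≠ ⊥) :
    ∃ 𝔭 : Ideal A, IsAssociatedPrime 𝔭 M ∧ 𝔭 ≠ ⊥ := by
  obtain ⟨m₀, hm₀t, hm₀⟩ := Submodule.exists_mem_ne_zero_of_ne_bot h
  obtain ⟨a, ha⟩ := hm₀t
  obtain ⟨P, hP, hle⟩ := exists_le_isAssociatedPrime_of_isNoetherianRing A m₀ hm₀
  refine ⟨P, hP, ?_⟩
  intro hPbot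
  have ha' : (a : A) • m₀ = 0 := ha
  have h1 : (a : A) ∈ P := hle (Submodule.mem_colon_singleton.mpr (by simpa using ha'))
  rw [hPbot] at h1
  exact nonZeroDivisors.coe_ne_zero a ((Submodule.mem_bot A).mp h1)

theorem torsion_ne_bot_of_isAssociatedPrime [IsNoetherianRing A] {𝔭 : Ideal A}
    (h𝔭 : IsAssociatedPrime 𝔭 M) (hne : 𝔭 ≠ ⊥) : Submodule.torsion A M ≠ ⊥ := by
  obtain ⟨hprime, m₀, hm₀⟩ := isAssociatedPrime_iff.mp h𝔭
  obtain ⟨a, ha𝔭, hane⟩ := Submodule.exists_mem_ne_zero_of_ne_bot hne
  have ham : a • m₀ = 0 := by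
    rw [hm₀, Submodule.mem_colon_singleton] at ha𝔭
    simpa using ha𝔭
  have hm₀ne : m₀ ≠ 0 := by
    rintro rfl
    apply hprime.ne_top
    rw [hm₀, eq_top_iff]
    intro r _
    rw [Submodule.mem_colon_singleton]
    simp
  intro hbot
  have h1 : m₀ ∈ Submodule.torsion A M := ⟨⟨a, mem_nonZeroDivisors_of_ne_zero hane⟩, ham⟩
  rw [hbot] at h1
  exact hm₀ne ((Submodule.mem_bot A).mp h1)

end Alg

variable {X Y : Scheme.{u}} (f : X ⟶ Y)

section Fib

variable [LocallyOfFiniteType f]

/-- the fibre dimension at a point of a fibre. -/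
theorem fibreDimAt_fiberι (y : Y) (z : ↥(f.fiber y)) :
    FlatMor.fibreDimAt f ((f.fiberι y).base z) =
      ringKrullDim ((f.fiber y).presheaf.stalk z) + ((fdl f y z : ℕ) : WithBot ℕ∞) := by
  have key : ∀ (y' : Y) (hy' : y' = y) (z' : ↥(f.fiber y'))
      (hz' : (f.fiberι y').base z' = (f.fiberι y).base z),
      ringKrullDim ((f.fiber y').presheaf.stalk z') =
        ringKrullDim ((f.fiber y).presheaf.stalk z) := by
    rintro y' rfl z' hz'
    have : z' = z := (f.fiberι y').isEmbedding.injective hz'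
    rw [this]
  rw [fibreDimAt_eq_stalk_add_ptTrdeg, key _ (base_fiberι f y z) _ (f.fiberι_asFiber _)]
  rfl

theorem exists_ringKrullDim_stalk_eq_nat (y : Y) (z : ↥(f.fiber y)) :
    ∃ b : ℕ, ringKrullDim ((f.fiber y).presheaf.stalk z) = (b : WithBot ℕ∞) := by
  have key : ∀ (y' : Y) (hy' : y' = y) (z' : ↥(f.fiber y'))
      (hz' : (f.fiberι y').base z' = (f.fiberι y).base z),
      ringKrullDim ((f.fiber y').presheaf.stalk z') =
        ringKrullDim ((f.fiber y).presheaf.stalk z) := by
    rintro y' rfl z' hz'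
    have : z' = z := (f.fiberι y').isEmbedding.injective hz'
    rw [this]
  obtain ⟨b, hb⟩ := exists_ringKrullDim_stalk_asFiber_eq_nat f ((f.fiberι y).base z)
  rw [key _ (base_fiberι f y z) _ (f.fiberι_asFiber _)] at hb
  exact ⟨b, hb⟩

end Fib

section Module

variable [LocallyOfFinitePresentation f] (F : X.Modules) (hF : CohB1.IsFP F)

/-- the sets detecting non-torsion fibre modules. -/
def Tset (m : ℕ) : Set X :=
  CohB1.support F ∩ {x : X | FlatMor.fibreDimAt f x ≤ ((m : ℕ) : WithBot ℕ∞)}

/-- the sets detecting fibre modules with torsion. -/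
def TFset (m : ℕ) : Set X :=
  Kset f F m \ {x : X | FlatMor.fibreDimAt f x ≤ ((m : ℕ) : WithBot ℕ∞)}

include hF in
theorem isLocallyConstructible_Tset (m : ℕ) : IsLocallyConstructible (Tset f F m) :=
  (isLocallyConstructible_support F hF).inter (isLocallyConstructible_setOf_fibreDimAt_le f m)

include hF in
theorem isLocallyConstructible_TFset (m : ℕ) : IsLocallyConstructible (TFset f F m) :=
  isLocallyConstructible_sdiff (isLocallyConstructible_Kset f F hF m)
    (isLocallyConstructible_setOf_fibreDimAt_le f m)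

include hF in
/-- **Torsion fibre modules.** -/
theorem forall_torsion_eq_top_iff (y : Y)
    (hint : ∀ x : ↥(f.fiber y), IsDomain ((f.fiber y).presheaf.stalk x)) :
    (∀ x : ↥(f.fiber y), Submodule.torsion ((f.fiber y).presheaf.stalk x)
      ((fibMod f F y).presheaf.stalk x) = ⊤) ↔
      ∀ m : ℕ, y ∉ DimImage f (Tset f F m) m := by
  letI : (f.fiber y).Over (Spec (CommRingCat.of (Y.residueField y))) :=
    ⟨f.fiberToSpecResidueField y⟩
  haveI : LocallyOfFiniteType ((f.fiber y) ↘ Spec (CommRingCat.of (Y.residueField y))) :=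
    locallyOfFiniteType_fiberToSpecResidueField f _
  haveI : IsLocallyNoetherian (f.fiber y) := isLocallyNoetherian_fiber f y
  have hG := isCoh_fibMod f F hF y
  constructor
  · rintro h m ⟨x, ⟨hxS, hxd⟩, hfx, hm⟩
    have hr : x ∈ Set.range (f.fiberι y).base := by
      rw [f.range_fiberι]
      exact hfx
    obtain ⟨z, rfl⟩ := hr
    haveI := hint z
    have hxd' : FlatMor.fibreDimAt f ((f.fiberι y).base z) ≤ ((m : ℕ) : WithBot ℕ∞) := hxd
    rw [fibreDimAt_fiberι] at hxd'
    obtain ⟨b, hb⟩ := exists_ringKrullDim_stalk_eq_nat f y z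
    rw [hb] at hxd'
    have hm' : m ≤ fdl f y z := hm
    have h1 : b + fdl f y z ≤ m := by exact_mod_cast hxd'
    have hb0 : b = 0 := by omega
    have hdim : ringKrullDim ((f.fiber y).presheaf.stalk z) ≤ 0 := by
      rw [hb, hb0]
      rfl
    haveI : Ring.KrullDimLE 0 ((f.fiber y).presheaf.stalk z) := Ring.krullDimLE_iff.mpr hdim
    have hfield : IsField ((f.fiber y).presheaf.stalk z) := Ring.KrullDimLE.isField_of_isDomain
    have hzS : z ∈ CohB1.support (fibMod f F y) := (mem_support_fibMod_iff f F hF y z).mpr hxS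
    haveI : Nontrivial ((fibMod f F y).presheaf.stalk z) := not_subsingleton_iff_nontrivial.mp hzS
    exact torsion_ne_top_of_isField hfield (h z)
  · intro h z
    by_contra hne
    haveI := hint z
    obtain ⟨hfin, -⟩ := stalk_facts_of_isCoh (fibMod f F y) hG z
    haveI := hfin
    have hsd := supportDim_eq_of_torsion_ne_top hne
    haveI := nontrivial_of_torsion_ne_top hne
    have hzS : z ∈ CohB1.support (fibMod f F y) := not_subsingleton_iff_nontrivial.mpr ‹_›
    obtain ⟨w, hwz, hwS, -, -, heq⟩ := exists_maximal_generization (Y.residueField y)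
      (fibMod f F y) hG z hzS
    rw [trdegNat_fiber, trdegNat_fiber, hsd] at heq
    refine h (fdl f y w) ⟨(f.fiberι y).base w, ⟨(mem_support_fibMod_iff f F hF y w).mp hwS, ?_⟩,
      base_fiberι f y w, le_rfl⟩
    change FlatMor.fibreDimAt f ((f.fiberι y).base w) ≤ ((fdl f y w : ℕ) : WithBot ℕ∞)
    have h1 := fibreDimAt_le_of_specializes f _ _ (hwz.map (f.fiberι y).continuous)
    rw [fibreDimAt_fiberι f y z, ← heq] at h1
    exact h1

include hF in
/-- **Torsion-free fibre modules.** -/
theorem forall_torsion_eq_bot_iff (y : Y)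
    (hint : ∀ x : ↥(f.fiber y), IsDomain ((f.fiber y).presheaf.stalk x)) :
    (∀ x : ↥(f.fiber y), Submodule.torsion ((f.fiber y).presheaf.stalk x)
      ((fibMod f F y).presheaf.stalk x) = ⊥) ↔
      ∀ m : ℕ, y ∉ DimImage f (TFset f F m) m := by
  letI : (f.fiber y).Over (Spec (CommRingCat.of (Y.residueField y))) :=
    ⟨f.fiberToSpecResidueField y⟩
  haveI : LocallyOfFiniteType ((f.fiber y) ↘ Spec (CommRingCat.of (Y.residueField y))) :=
    locallyOfFiniteType_fiberToSpecResidueField f _
  haveI : IsLocallyNoetherian (f.fiber y) := isLocallyNoetherian_fiber f y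
  have hG := isCoh_fibMod f F hF y
  constructor
  · rintro h m ⟨x, ⟨hxK, hxd⟩, hfx, hm⟩
    have hr : x ∈ Set.range (f.fiberι y).base := by
      rw [f.range_fiberι]
      exact hfx
    obtain ⟨z, rfl⟩ := hr
    haveI := hint z
    haveI : IsNoetherianRing ((f.fiber y).presheaf.stalk z) := inferInstance
    rw [fiberι_mem_Kset_iff f F hF, geomRho_eq] at hxK
    have hm' : m ≤ fdl f y z := hm
    obtain ⟨hd, ha⟩ := (rho_arith _ _ _).mp ⟨hxK, hm'⟩
    have hass : z ∈ AssSch.Ass (fibMod f F y) := (mem_ass_iff_depth_eq_zero _ hG z).mpr hd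
    have hass' : IsAssociatedPrime (IsLocalRing.maximalIdeal ((f.fiber y).presheaf.stalk z))
        ((fibMod f F y).presheaf.stalk z) := hass
    have hmne : IsLocalRing.maximalIdeal ((f.fiber y).presheaf.stalk z) ≠ ⊥ := by
      intro hbot
      apply hxd
      change FlatMor.fibreDimAt f ((f.fiberι y).base z) ≤ ((m : ℕ) : WithBot ℕ∞)
      rw [fibreDimAt_fiberι, ha]
      have hfield := IsLocalRing.isField_iff_maximalIdeal_eq.mpr hbot
      rw [ringKrullDim_eq_zero_of_isField hfield, zero_add]
    exact torsion_ne_bot_of_isAssociatedPrime hass' hmne (h z)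
  · intro h z
    by_contra hne
    haveI := hint z
    haveI : IsNoetherianRing ((f.fiber y).presheaf.stalk z) := inferInstance
    obtain ⟨hfin, -⟩ := stalk_facts_of_isCoh (fibMod f F y) hG z
    haveI := hfin
    obtain ⟨𝔭, h𝔭ass, h𝔭ne⟩ := exists_assPrime_ne_bot hne
    haveI h𝔭 : 𝔭.IsPrime := h𝔭ass.isPrime
    haveI hbot : (⊥ : Ideal ((f.fiber y).presheaf.stalk z)).IsPrime := Ideal.isPrime_bot
    set w := (f.fiber y).fromSpecStalk z ⟨𝔭, h𝔭⟩ with hw
    set ξ := (f.fiber y).fromSpecStalk z ⟨⊥, hbot⟩ with hξ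
    have hdw : LocCoh.depth ((f.fiber y).presheaf.stalk w) ((fibMod f F y).presheaf.stalk w) = 0 := by
      rw [← (depth_supportDim_fromSpecStalk (fibMod f F y) hG z 𝔭).1]
      exact (Groth.Agent.Lib.Helper28.depth_localization_eq_zero_iff 𝔭).mpr h𝔭ass
    have hξw : ξ ⤳ w :=
      (Groth.Agent.Lib.Helper4.DimFormula.fromSpecStalk_specializes_iff (X := f.fiber y) z ⊥ 𝔭).mpr
        bot_le
    have hξne : ξ ≠ w := by
      intro heq
      exact h𝔭ne (Groth.Agent.Lib.Helper4.DimFormula.fromSpecStalk_injective (X := f.fiber y)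
        z ⊥ 𝔭 heq).symm
    have hlt := fdl_lt_of_specializes f y w ξ hξw hξne
    have h1 := (rho_arith (LocCoh.depth ((f.fiber y).presheaf.stalk w)
      ((fibMod f F y).presheaf.stalk w)) (fdl f y w) (fdl f y w)).mpr ⟨hdw, rfl⟩
    refine h (fdl f y w) ⟨(f.fiberι y).base w, ⟨?_, ?_⟩, base_fiberι f y w, le_rfl⟩
    · rw [fiberι_mem_Kset_iff f F hF, geomRho_eq]
      exact h1.1
    · intro hle
      have hle' : FlatMor.fibreDimAt f ((f.fiberι y).base w) ≤ ((fdl f y w : ℕ) : WithBot ℕ∞) := hle
      have h2 := fibreDimAt_le_of_specializes f _ _ (hξw.map (f.fiberι y).continuous)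
      have h3 := ptTrdeg_le_fibreDimAt f ((f.fiberι y).base ξ)
      have h4 := (h3.trans h2).trans hle'
      have h5 : fdl f y ξ ≤ fdl f y w := by exact_mod_cast h4
      omega

include hF in
/-- **EGA IV 9.4.8-like**: the locus of torsion fibre modules is locally constructible. -/
theorem isLocallyConstructible_torsion [QuasiCompact f] [QuasiSeparated f]
    (hint : ∀ (s : Y) (x : ↥(f.fiber s)), IsDomain ((f.fiber s).presheaf.stalk x)) :
    IsLocallyConstructible {s : Y | ∀ x : ↥(f.fiber s),
      Submodule.torsion ((f.fiber s).presheaf.stalk x)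
        (((Scheme.Modules.pullback (f.fiberι s)).obj F).presheaf.stalk x) = ⊤} := by
  have h := isLocallyConstructible_forall_notMem_base f (fun m => DimImage f (Tset f F m) m)
    (fun m => isLocallyConstructible_dimImage f _ (isLocallyConstructible_Tset f F hF m) m)
    (fun m y hy => exists_of_mem_dimImage f F hF _ m y hy) Set.univ
  convert h using 1
  ext s
  rw [Set.mem_ofPred_eq]
  refine (forall_torsion_eq_top_iff f F hF s (hint s)).trans ?_
  simp

include hF in
/-- **EGA IV 9.4.8-like**: the locus of torsion-free fibre modules is locally constructible. -/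
theorem isLocallyConstructible_torsionFree [QuasiCompact f] [QuasiSeparated f]
    (hint : ∀ (s : Y) (x : ↥(f.fiber s)), IsDomain ((f.fiber s).presheaf.stalk x)) :
    IsLocallyConstructible {s : Y | ∀ x : ↥(f.fiber s),
      Submodule.torsion ((f.fiber s).presheaf.stalk x)
        (((Scheme.Modules.pullback (f.fiberι s)).obj F).presheaf.stalk x) = ⊥} := by
  have h := isLocallyConstructible_forall_notMem_base f (fun m => DimImage f (TFset f F m) m)
    (fun m => isLocallyConstructible_dimImage f _ (isLocallyConstructible_TFset f F hF m) m)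
    (fun m y hy => exists_of_mem_dimImage f F hF _ m y hy) Set.univ
  convert h using 1
  ext s
  rw [Set.mem_ofPred_eq]
  refine (forall_torsion_eq_bot_iff f F hF s (hint s)).trans ?_
  simp

end Module

end Groth.Agent.Lib.Helper14.ConsGenE
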