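import Mathlib
import Groth.Agent.Lib.Helper14CutoffA
import Groth.Agent.Lib.Helper5FinDimDepth
import Groth.Prelude.Def_DualLC

/-! # The cutoff `s_{A,I}(M)` under finite ring maps (helper14) -/

set_option autoImplicit false
set_option linter.unusedVariables false
set_option linter.unusedSectionVars false
set_option linter.style.haveILetI false
set_option maxHeartbeats 400000

universe u

namespace Groth.Agent.Lib.Helper14.Cutoff

variable (A B : Type u) [CommRing A] [CommRing B] [Algebra A B] [IsNoetherianRing A]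
  [IsNoetherianRing B] [Module.Finite A B]

theorem cutoff_eq (hA : CAlg.IsUniversallyCatenary A) (I : Ideal A) (M : Type u)
    [AddCommGroup M] [Module B M] [Module A M] [IsScalarTower A B M] [Module.Finite B M] :
    Dual2.cutoff B (I.map (algebraMap A B)) M = Dual2.cutoff A I M := by
  haveI : Module.Finite A M := Module.Finite.trans B M
  haveI hInt : Algebra.IsIntegral A B := Algebra.IsIntegral.of_finite A B
  apply le_antisymm
  · -- `s_B ≤ s_A`
    refine le_iInf fun p => le_iInf fun q => le_iInf fun h => le_iInf fun hp => le_iInf fun hq => ?_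
    haveI : p.asIdeal.IsPrime := p.isPrime
    rw [(Groth.Agent.Lib.Helper5.FinDimDepth.main A B M p.asIdeal).2, ENat.iInf₂_add]
    refine le_iInf fun P => le_iInf fun hP => ?_
    obtain ⟨hPp, hPs⟩ := hP
    haveI : P.asIdeal.IsPrime := P.isPrime
    haveI : q.asIdeal.IsPrime := q.isPrime
    -- going up
    have hle : P.asIdeal.comap (algebraMap A B) ≤ q.asIdeal := by rw [hPp]; exact h
    obtain ⟨Q₀, hQ₀P, hQ₀prime, hQ₀q⟩ :=
      Ideal.exists_ideal_over_prime_of_isIntegral_of_isPrime q.asIdeal P.asIdeal hle
    let Q : PrimeSpectrum B := ⟨Q₀, hQ₀prime⟩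
    have hPQ : P ≤ Q := hQ₀P
    have hctrP : (ctr P : PrimeSpectrum A) = p := PrimeSpectrum.ext hPp
    have hctrQ : (ctr Q : PrimeSpectrum A) = q := PrimeSpectrum.ext hQ₀q
    have hIP : ¬ I.map (algebraMap A B) ≤ P.asIdeal := by
      intro hIP
      apply hp
      rw [← hPp]
      exact Ideal.map_le_iff_le_comap.mp hIP
    have hIQ : I.map (algebraMap A B) ≤ Q.asIdeal := by
      rw [Ideal.map_le_iff_le_comap]
      change I ≤ Q₀.comap (algebraMap A B)
      rw [hQ₀q]
      exact hq
    have h1 : Dual2.cutoff B (I.map (algebraMap A B)) M ≤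
        LocCoh.depth (Localization.AtPrime P.asIdeal) (LocalizedModule P.asIdeal.primeCompl M) +
          Order.height (⟨Q, hPQ⟩ : Set.Ici P) :=
      iInf_le_of_le P (iInf_le_of_le Q (iInf_le_of_le hPQ (iInf_le_of_le hIP (iInf_le _ hIQ))))
    refine h1.trans (add_le_add le_rfl ?_)
    have h2 := height_Ici_le_of_integral (A := A) P Q hPQ
    refine h2.trans (le_of_eq ?_)
    subst hctrP
    congr 1
    exact Subtype.ext hctrQ
  · -- `s_A ≤ s_B`
    refine le_iInf fun P => le_iInf fun Q => le_iInf fun hPQ => le_iInf fun hIP => le_iInf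
      fun hIQ => ?_
    by_cases hPs : P ∈ Module.support B M
    · let p : PrimeSpectrum A := ctr P
      let q : PrimeSpectrum A := ctr Q
      have hpq : p ≤ q := ctr_mono hPQ
      have hp : ¬ I ≤ p.asIdeal := fun hIp => hIP (Ideal.map_le_iff_le_comap.mpr hIp)
      have hq : I ≤ q.asIdeal := Ideal.map_le_iff_le_comap.mp hIQ
      have h1 : Dual2.cutoff A I M ≤
          LocCoh.depth (Localization.AtPrime p.asIdeal) (LocalizedModule p.asIdeal.primeCompl M) +
            Order.height (⟨q, hpq⟩ : Set.Ici p) :=
        iInf_le_of_le p (iInf_le_of_le q (iInf_le_of_le hpq (iInf_le_of_le hp (iInf_le _ hq))))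
      refine h1.trans (add_le_add ?_ (height_Ici_ge_of_finite hA P Q hPQ))
      haveI : p.asIdeal.IsPrime := p.isPrime
      rw [(Groth.Agent.Lib.Helper5.FinDimDepth.main A B M p.asIdeal).2]
      exact iInf₂_le P ⟨rfl, hPs⟩
    · have hsub : Subsingleton (LocalizedModule P.asIdeal.primeCompl M) :=
        Module.notMem_support_iff.mp hPs
      have htop : LocCoh.depth (Localization.AtPrime P.asIdeal)
          (LocalizedModule P.asIdeal.primeCompl M) = ⊤ := by
        unfold LocCoh.depth LocCoh.idealDepth
        rw [if_pos (Subsingleton.elim _ _)]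
      rw [htop, top_add]
      exact le_top

end Groth.Agent.Lib.Helper14.Cutoff
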