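/-
Helper14DPConv (helper14): a converse to "divided powers span Γ^d": if the residue field `κ(p)` is
finite with fewer than `d` elements and `M_p` is not cyclic, then `γ_{d-1}(m₁) γ_1(m₂)` is not in
the span of the `γ_d(m)`.

Method: for linear forms `ℓ₁,…,ℓ_d : M → K` build the algebra map
`Ψ : Γ_A(M) → K[ε₁,…,ε_d]/(εᵢ²)`, `γ_n(m) ↦ e_n(ℓ₁(m)ε₁,…,ℓ_d(m)ε_d)` (via
`DividedPowerAlgebra.lift'`), and the functional `τ` = coefficient of `ε₁⋯ε_d`.  Then
`τΨ(γ_d(m)) = ∏ ℓᵢ(m)`, which vanishes identically for a suitable choice of `d > |K|` forms, while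
`τΨ(γ_{d-1}(m₁)γ_1(m₂)) ≠ 0`.
-/
import Mathlib

set_option autoImplicit false
universe u
open scoped TensorProduct
open Polynomial

namespace Groth.Agent.Lib.Helper14.DPConv

section EE
variable {R : Type*} [CommRing R] {ι : Type*}

/-- the generating polynomial `∏ (1 + z_i X)` -/
noncomputable def EE (s : Finset ι) (z : ι → R) : R[X] := ∏ i ∈ s, (1 + C (z i) * X)

lemma EE_insert [DecidableEq ι] {s : Finset ι} {a : ι} (ha : a ∉ s) (z : ι → R) :
    EE (insert a s) z = (1 + C (z a) * X) * EE s z := by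
  rw [EE, Finset.prod_insert ha, EE]

lemma coeff_lin_mul (c : R) (e : R[X]) (n : ℕ) :
    ((1 + C c * X) * e).coeff (n + 1) = e.coeff (n + 1) + c * e.coeff n := by
  rw [add_mul, one_mul, coeff_add, mul_assoc, coeff_C_mul, coeff_X_mul]

lemma coeff_lin_mul_zero (c : R) (e : R[X]) :
    ((1 + C c * X) * e).coeff 0 = e.coeff 0 := by
  rw [add_mul, one_mul, coeff_add, mul_assoc, coeff_C_mul, coeff_X_mul_zero, mul_zero, add_zero]

lemma EE_coeff_zero (s : Finset ι) (z : ι → R) : (EE s z).coeff 0 = 1 := by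
  classical
  induction s using Finset.induction_on with
  | empty => simp [EE]
  | insert a s ha ih => rw [EE_insert ha, coeff_lin_mul_zero, ih]

lemma EE_coeff_mul (s : Finset ι) (z : ι → R) (hz : ∀ i, z i * z i = 0) :
    ∀ n p : ℕ, (EE s z).coeff n * (EE s z).coeff p =
      ((n + p).choose n : R) * (EE s z).coeff (n + p) := by
  classical
  induction s using Finset.induction_on with
  | empty =>
    intro n p
    simp only [EE, Finset.prod_empty, coeff_one]
    by_cases hn : n = 0
    · subst hn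
      simp
    · have : n + p ≠ 0 := by omega
      simp [hn]
  | insert a s ha ih =>
    intro n p
    rw [EE_insert ha]
    have h0 := EE_coeff_zero s z
    rcases n with _ | n
    · rw [coeff_lin_mul_zero, h0]
      simp
    rcases p with _ | p
    · rw [coeff_lin_mul_zero, h0]
      simp
    rw [coeff_lin_mul, coeff_lin_mul, show n + 1 + (p + 1) = (n + p + 1) + 1 by ring,
      coeff_lin_mul]
    have h1 := ih (n + 1) (p + 1)
    have h2 := ih (n + 1) p
    have h3 := ih n (p + 1)
    have hc : ((n + p + 1 + 1).choose (n + 1) : R) =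
        ((n + p + 1).choose n : R) + ((n + p + 1).choose (n + 1) : R) := by
      rw [Nat.choose_succ_succ]
      push_cast
      ring
    rw [show n + 1 + (p + 1) = n + p + 1 + 1 by ring] at h1
    rw [show n + 1 + p = n + p + 1 by ring] at h2
    rw [show n + (p + 1) = n + p + 1 by ring] at h3
    rw [hc] at h1 ⊢
    have hza := hz a
    linear_combination h1 + z a * h2 + z a * h3 +
      (EE s z).coeff n * (EE s z).coeff p * hza


lemma EE_add (s : Finset ι) (z z' : ι → R) (hz : ∀ i, z i * z' i = 0) :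
    EE s (fun i => z i + z' i) = EE s z * EE s z' := by
  rw [EE, EE, EE, ← Finset.prod_mul_distrib]
  refine Finset.prod_congr rfl (fun i _ => ?_)
  have h : C (z i) * C (z' i) = 0 := by rw [← C_mul, hz i, C_0]
  rw [C_add]
  linear_combination (-(X : R[X]) * X) * h

lemma EE_smul (s : Finset ι) (z : ι → R) (a : R) :
    EE s (fun i => a * z i) = (EE s z).comp (C a * X) := by
  rw [EE, EE, prod_comp]
  refine Finset.prod_congr rfl (fun i _ => ?_)
  simp only [add_comp, one_comp, mul_comp, C_comp, X_comp, C_mul]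
  ring

lemma EE_coeff_smul (s : Finset ι) (z : ι → R) (a : R) (n : ℕ) :
    (EE s (fun i => a * z i)).coeff n = a ^ n * (EE s z).coeff n := by
  rw [EE_smul, comp_C_mul_X_coeff, mul_comm]

lemma EE_coeff_smul' {S : Type*} [CommSemiring S] [Algebra S R] (s : Finset ι) (z : ι → R)
    (a : S) (n : ℕ) : (EE s (fun i => a • z i)).coeff n = a ^ n • (EE s z).coeff n := by
  have h := EE_coeff_smul s z (algebraMap S R a) n
  rw [← map_pow, ← Algebra.smul_def] at h
  rw [← h]
  congr 2
  funext i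
  exact Algebra.smul_def a (z i)

lemma EE_coeff_one (s : Finset ι) (z : ι → R) : (EE s z).coeff 1 = ∑ i ∈ s, z i := by
  classical
  induction s using Finset.induction_on with
  | empty => simp [EE, coeff_one]
  | insert a s ha ih =>
    rw [EE_insert ha, show (1 : ℕ) = 0 + 1 from rfl, coeff_lin_mul, zero_add, ih, EE_coeff_zero,
      Finset.sum_insert ha]
    ring

lemma EE_coeff_card (s : Finset ι) (z : ι → R) : (EE s z).coeff s.card = ∏ i ∈ s, z i := by
  have h := coeff_prod_of_natDegree_le s (fun i => (1 + C (z i) * X : R[X])) 1 (fun i _ => by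
    refine (natDegree_add_le _ _).trans ?_
    rw [natDegree_one, zero_max]
    exact (natDegree_C_mul_le _ _).trans natDegree_X_le)
  rw [mul_one] at h
  rw [EE, h]
  refine Finset.prod_congr rfl (fun i _ => ?_)
  rw [coeff_add, coeff_one, if_neg one_ne_zero, zero_add, coeff_C_mul, coeff_X_one, mul_one]

end EE

section Psi
variable {A : Type*} [CommRing A] {K : Type*} [CommRing K] [Algebra A K]
  {M : Type*} [AddCommGroup M] [Module A M] {d : ℕ} (ℓ : Fin d → M →ₗ[A] K)

/-- the target algebra `K[ε₁,…,ε_d]/(εᵢ²)` -/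
abbrev BB (K : Type*) [CommRing K] (d : ℕ) := ⨂[K] _ : Fin d, DualNumber K

/-- `ℓᵢ(m) εᵢ` -/
noncomputable def zz (i : Fin d) (m : M) : BB K d :=
  PiTensorProduct.singleAlgHom (R := K) (A := fun _ : Fin d => DualNumber K) i
    (ℓ i m • (DualNumber.eps : DualNumber K))

lemma zz_mul (i : Fin d) (m m' : M) : zz ℓ i m * zz ℓ i m' = 0 := by
  rw [zz, zz, ← map_mul, smul_mul_smul_comm, DualNumber.eps_mul_eps, smul_zero, map_zero]

lemma zz_add (i : Fin d) (u v : M) : zz ℓ i (u + v) = zz ℓ i u + zz ℓ i v := by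
  rw [zz, zz, zz, map_add, add_smul, map_add]

lemma zz_smul (i : Fin d) (r : A) (m : M) : zz ℓ i (r • m) = r • zz ℓ i m := by
  have h1 : ℓ i (r • m) • (DualNumber.eps : DualNumber K) =
      algebraMap A K r • (ℓ i m • (DualNumber.eps : DualNumber K)) := by
    rw [LinearMap.map_smul, algebraMap_smul, smul_assoc]
  rw [zz, zz, h1, map_smul, algebraMap_smul]

/-- the values `f (n, m) = e_n(ℓ₁(m)ε₁, …, ℓ_d(m)ε_d)` -/
noncomputable def ff (nm : ℕ × M) : BB K d :=
  (EE Finset.univ (fun i => zz ℓ i nm.2)).coeff nm.1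

/-- the algebra map `Γ_A(M) → K[ε]/(ε²)` -/
noncomputable def Psi : DividedPowerAlgebra A M →ₐ[A] BB K d :=
  DividedPowerAlgebra.lift' (f := ff ℓ)
    (fun m => EE_coeff_zero _ _)
    (fun n r m => by
      refine Eq.trans ?_ (EE_coeff_smul' Finset.univ (fun i => zz ℓ i m) r n)
      change (EE Finset.univ (fun i => zz ℓ i (r • m))).coeff n = _
      congr 2
      funext i
      exact zz_smul ℓ i r m)
    (fun n p m => by
      change (EE Finset.univ (fun i => zz ℓ i m)).coeff n * (EE Finset.univ (fun i => zz ℓ i m)).coeff p =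
        (n + p).choose n • (EE Finset.univ (fun i => zz ℓ i m)).coeff (n + p)
      rw [EE_coeff_mul _ _ (fun i => zz_mul ℓ i m m), nsmul_eq_mul])
    (fun n u v => by
      have h := EE_add Finset.univ (fun i => zz ℓ i u) (fun i => zz ℓ i v)
        (fun i => zz_mul ℓ i u v)
      have h2 : (fun i => zz ℓ i (u + v)) = fun i => zz ℓ i u + zz ℓ i v :=
        funext fun i => zz_add ℓ i u v
      simp only [ff]
      rw [h2, h, coeff_mul])

lemma Psi_dp (n : ℕ) (m : M) :
    Psi ℓ (DividedPowerAlgebra.dp A n m) = (EE Finset.univ (fun i => zz ℓ i m)).coeff n := by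
  rw [Psi, DividedPowerAlgebra.lift'_apply_dp]
  rfl

/-- the functional `coefficient of ε₁⋯ε_d` -/
noncomputable def tau : BB K d →ₗ[K] K :=
  PiTensorProduct.lift ((MultilinearMap.mkPiAlgebra K (Fin d) K).compLinearMap
    fun _ => (TrivSqZeroExt.sndHom K K))

lemma tau_tprod (x : Fin d → DualNumber K) :
    tau (PiTensorProduct.tprod K x) = ∏ i, (x i).snd := by
  rw [tau, PiTensorProduct.lift.tprod]
  rfl

lemma tprod_eq_prod_single (b : Fin d → DualNumber K) :
    PiTensorProduct.tprod K b =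
      ∏ i, PiTensorProduct.singleAlgHom (R := K) (A := fun _ : Fin d => DualNumber K) i (b i) := by
  simp only [PiTensorProduct.singleAlgHom_apply, MonoidHom.mulSingle_apply]
  rw [← PiTensorProduct.tprod_prod]
  exact (congrArg _ (Finset.univ_prod_mulSingle (fun j : Fin d => b j))).symm

lemma tau_prod_single (c : Fin d → K) :
    tau (∏ j, PiTensorProduct.singleAlgHom (R := K) (A := fun _ : Fin d => DualNumber K) j
      (c j • (DualNumber.eps : DualNumber K))) = ∏ j, c j := by
  rw [← tprod_eq_prod_single, tau_tprod]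
  refine Finset.prod_congr rfl (fun i _ => ?_)
  simp

lemma tau_Psi_dp (m : M) :
    tau (Psi ℓ (DividedPowerAlgebra.dp A d m)) = ∏ i, ℓ i m := by
  rw [Psi_dp]
  have h := EE_coeff_card (Finset.univ : Finset (Fin d)) (fun i => zz ℓ i m)
  rw [Finset.card_univ, Fintype.card_fin] at h
  rw [h]
  exact tau_prod_single (fun i => ℓ i m)

lemma tau_Psi_mixed (i0 : Fin d) (m1 m2 : M) (h0 : ℓ i0 m1 = 0) :
    tau (Psi ℓ (DividedPowerAlgebra.dp A (d - 1) m1 * DividedPowerAlgebra.dp A 1 m2)) =
      ℓ i0 m2 * ∏ j ∈ Finset.univ.erase i0, ℓ j m1 := by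
  classical
  rw [map_mul, Psi_dp, Psi_dp, EE_coeff_one]
  have hz0 : zz ℓ i0 m1 = 0 := by rw [zz, h0, zero_smul, map_zero]
  have hE : EE Finset.univ (fun i => zz ℓ i m1) =
      EE (Finset.univ.erase i0) (fun i => zz ℓ i m1) := by
    rw [EE, EE, ← Finset.mul_prod_erase Finset.univ _ (Finset.mem_univ i0), hz0, C_0, zero_mul,
      add_zero, one_mul]
  have hc : (Finset.univ.erase i0 : Finset (Fin d)).card = d - 1 := by
    rw [Finset.card_erase_of_mem (Finset.mem_univ _), Finset.card_univ, Fintype.card_fin]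
  rw [hE, ← hc, EE_coeff_card, Finset.mul_sum, Finset.sum_eq_single i0]
  · set c : Fin d → K := Function.update (fun j => ℓ j m1) i0 (ℓ i0 m2) with hcdef
    have h1 : (∏ j ∈ Finset.univ.erase i0, zz ℓ j m1) * zz ℓ i0 m2 =
        ∏ j, PiTensorProduct.singleAlgHom (R := K) (A := fun _ : Fin d => DualNumber K) j
          (c j • (DualNumber.eps : DualNumber K)) := by
      rw [← Finset.mul_prod_erase Finset.univ _ (Finset.mem_univ i0),
        mul_comm (∏ j ∈ Finset.univ.erase i0, zz ℓ j m1)]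
      congr 1
      · rw [hcdef, Function.update_self]
        rfl
      · refine Finset.prod_congr rfl (fun j hj => ?_)
        rw [hcdef, Function.update_of_ne (Finset.ne_of_mem_erase hj)]
        rfl
    rw [h1, tau_prod_single, ← Finset.mul_prod_erase Finset.univ _ (Finset.mem_univ i0)]
    congr 1
    · rw [hcdef, Function.update_self]
    · refine Finset.prod_congr rfl (fun j hj => ?_)
      rw [hcdef, Function.update_of_ne (Finset.ne_of_mem_erase hj)]
  · intro i _ hi
    rw [← Finset.mul_prod_erase (Finset.univ.erase i0) _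
      (Finset.mem_erase.mpr ⟨hi, Finset.mem_univ i⟩), mul_comm (zz ℓ i m1), mul_assoc,
      zz_mul, mul_zero]
  · intro h
    exact absurd (Finset.mem_univ _) h

end Psi

section Forms
variable {A : Type*} [CommRing A] {K : Type*} [Field K] [Fintype K] [Algebra A K]
  {M : Type*} [AddCommGroup M] [Module A M] {d : ℕ}

/-- the `d > |K|` linear forms `φ₂ - c φ₁` (`c ∈ K`) and `φ₁` (repeated) -/
noncomputable def forms (φ1 φ2 : M →ₗ[A] K) (i : Fin d) : M →ₗ[A] K :=
  if h : i.val < Fintype.card K then φ2 - ((Fintype.equivFin K).symm ⟨i.val, h⟩) • φ1 else φ1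

lemma prod_forms_eq_zero (hq : Fintype.card K < d) (φ1 φ2 : M →ₗ[A] K) (m : M) :
    ∏ i, forms (d := d) φ1 φ2 i m = 0 := by
  by_cases h1 : φ1 m = 0
  · refine Finset.prod_eq_zero (Finset.mem_univ (⟨Fintype.card K, hq⟩ : Fin d)) ?_
    rw [forms, dif_neg (lt_irrefl _)]
    exact h1
  · set c : K := φ2 m / φ1 m with hc
    have hlt : ((Fintype.equivFin K) c).val < d := lt_trans ((Fintype.equivFin K) c).2 hq
    refine Finset.prod_eq_zero (Finset.mem_univ (⟨((Fintype.equivFin K) c).val, hlt⟩ : Fin d)) ?_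
    rw [forms, dif_pos ((Fintype.equivFin K) c).2]
    simp only [Fin.eta, Equiv.symm_apply_apply, LinearMap.sub_apply, LinearMap.smul_apply,
      smul_eq_mul]
    rw [hc, div_mul_cancel₀ _ h1, sub_self]

lemma exists_forms (hq : Fintype.card K < d) (φ1 φ2 : M →ₗ[A] K) (m1 m2 : M)
    (h11 : φ1 m1 ≠ 0) (h21 : φ2 m1 = 0) (h22 : φ2 m2 ≠ 0) :
    ∃ (ℓ : Fin d → M →ₗ[A] K) (i0 : Fin d), (∀ m, ∏ i, ℓ i m = 0) ∧ ℓ i0 m1 = 0 ∧
      ℓ i0 m2 * ∏ j ∈ Finset.univ.erase i0, ℓ j m1 ≠ 0 := by
  classical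
  have hlt : ((Fintype.equivFin K) 0).val < d := lt_trans ((Fintype.equivFin K) 0).2 hq
  have h0 : forms (d := d) φ1 φ2 ⟨((Fintype.equivFin K) 0).val, hlt⟩ = φ2 := by
    rw [forms, dif_pos ((Fintype.equivFin K) 0).2]
    simp
  refine ⟨forms φ1 φ2, ⟨((Fintype.equivFin K) 0).val, hlt⟩, prod_forms_eq_zero hq φ1 φ2, ?_, ?_⟩
  · rw [h0, h21]
  · rw [h0]
    refine mul_ne_zero h22 (Finset.prod_ne_zero_iff.mpr (fun j hj => ?_))
    have hj' : j ≠ ⟨((Fintype.equivFin K) 0).val, hlt⟩ := Finset.ne_of_mem_erase hj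
    by_cases hjq : j.val < Fintype.card K
    · rw [forms, dif_pos hjq]
      simp only [LinearMap.sub_apply, LinearMap.smul_apply, smul_eq_mul, h21, zero_sub, ne_eq,
        neg_eq_zero]
      refine mul_ne_zero (fun hc => hj' ?_) h11
      have : (Fintype.equivFin K) 0 = ⟨j.val, hjq⟩ := by
        rw [← hc, Equiv.apply_symm_apply]
      apply Fin.ext
      simp [this]
    · rw [forms, dif_neg hjq]
      exact h11

end Forms

section Main
variable {A : Type*} [CommRing A] {K : Type*} [Field K] [Fintype K] [Algebra A K]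
  {M : Type*} [AddCommGroup M] [Module A M] {d : ℕ}

theorem notMem_span_dp (hq : Fintype.card K < d) (φ1 φ2 : M →ₗ[A] K) (m1 m2 : M)
    (h11 : φ1 m1 ≠ 0) (h21 : φ2 m1 = 0) (h22 : φ2 m2 ≠ 0) :
    DividedPowerAlgebra.dp A (d - 1) m1 * DividedPowerAlgebra.dp A 1 m2 ∉
      Submodule.span A (Set.range (DividedPowerAlgebra.dp A d : M → DividedPowerAlgebra A M)) := by
  obtain ⟨ℓ, i0, hprod, hi0, hne⟩ := exists_forms (d := d) hq φ1 φ2 m1 m2 h11 h21 h22
  intro hmem
  let Λ : DividedPowerAlgebra A M →ₗ[A] K :=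
    ((tau (K := K) (d := d)).restrictScalars A).comp (Psi ℓ).toLinearMap
  have hle : Submodule.span A (Set.range
      (DividedPowerAlgebra.dp A d : M → DividedPowerAlgebra A M)) ≤ LinearMap.ker Λ := by
    rw [Submodule.span_le]
    rintro _ ⟨m, rfl⟩
    change tau (Psi ℓ (DividedPowerAlgebra.dp A d m)) = 0
    rw [tau_Psi_dp, hprod]
  have h1 : Λ (DividedPowerAlgebra.dp A (d - 1) m1 * DividedPowerAlgebra.dp A 1 m2) = 0 :=
    hle hmem
  have h2 : Λ (DividedPowerAlgebra.dp A (d - 1) m1 * DividedPowerAlgebra.dp A 1 m2) =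
      ℓ i0 m2 * ∏ j ∈ Finset.univ.erase i0, ℓ j m1 := tau_Psi_mixed ℓ i0 m1 m2 hi0
  exact hne (h2.symm.trans h1)

end Main


section Local
variable {R : Type*} [CommRing R] [IsLocalRing R] {N : Type*} [AddCommGroup N] [Module R N]
  [Module.Finite R N]

open IsLocalRing

/-- a finite module over a local ring that is not cyclic has two "independent" residue forms -/
lemma exists_two_forms (hN : ¬ ∃ x : N, Submodule.span R {x} = ⊤) :
    ∃ (ψ1 ψ2 : N →ₗ[R] ResidueField R) (x1 x2 : N), ψ1 x1 ≠ 0 ∧ ψ2 x1 = 0 ∧ ψ2 x2 ≠ 0 := by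
  let k := ResidueField R
  let V := k ⊗[R] N
  let ι : N →ₗ[R] V := TensorProduct.mk R k N 1
  have hsurj : Function.Surjective ι := by
    rw [← LinearMap.range_eq_top, ← Submodule.map_top]
    exact map_tensorProduct_mk_eq_top.mpr rfl
  have hrank : 2 ≤ Module.finrank k V := by
    by_contra hlt
    have hle : Module.finrank k V ≤ 1 := by omega
    obtain ⟨v, hv⟩ := finrank_le_one_iff.mp hle
    obtain ⟨x, hx⟩ := hsurj v
    refine hN ⟨x, map_tensorProduct_mk_eq_top.mp ?_⟩
    rw [eq_top_iff]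
    intro w _
    obtain ⟨c, hc⟩ := hv w
    obtain ⟨r, rfl⟩ := residue_surjective c
    rw [Submodule.map_span, Set.image_singleton]
    change ι x = v at hx
    have : w = r • ι x := by
      rw [← hc, hx]
      exact (algebraMap_smul k r v).symm
    rw [this]
    exact Submodule.smul_mem _ _ (Submodule.mem_span_singleton_self _)
  let b := Module.finBasis k V
  let i0 : Fin (Module.finrank k V) := ⟨0, by omega⟩
  let i1 : Fin (Module.finrank k V) := ⟨1, by omega⟩
  have h01 : i0 ≠ i1 := by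
    intro h
    have := congrArg Fin.val h
    simp [i0, i1] at this
  obtain ⟨x1, hx1⟩ := hsurj (b i0)
  obtain ⟨x2, hx2⟩ := hsurj (b i1)
  refine ⟨((b.coord i0).restrictScalars R).comp ι, ((b.coord i1).restrictScalars R).comp ι,
    x1, x2, ?_, ?_, ?_⟩
  · change b.coord i0 (ι x1) ≠ 0
    rw [hx1, Module.Basis.coord_apply, Module.Basis.repr_self, Finsupp.single_eq_same]
    exact one_ne_zero
  · change b.coord i1 (ι x1) = 0
    rw [hx1, Module.Basis.coord_apply, Module.Basis.repr_self, Finsupp.single_eq_of_ne h01.symm]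
  · change b.coord i1 (ι x2) ≠ 0
    rw [hx2, Module.Basis.coord_apply, Module.Basis.repr_self, Finsupp.single_eq_same]
    exact one_ne_zero

end Local

section Transfer
variable {A M : Type u} [CommRing A] [AddCommGroup M] [Module A M] [Module.Finite A M]

lemma exists_forms_of_not_cyclic (p : PrimeSpectrum A)
    (hN : ¬ ∃ x : LocalizedModule p.asIdeal.primeCompl M,
      Submodule.span (Localization.AtPrime p.asIdeal) {x} = ⊤) :
    ∃ (φ1 φ2 : M →ₗ[A] p.asIdeal.ResidueField) (m1 m2 : M),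
      φ1 m1 ≠ 0 ∧ φ2 m1 = 0 ∧ φ2 m2 ≠ 0 := by
  have : Module.Finite (Localization.AtPrime p.asIdeal)
      (LocalizedModule p.asIdeal.primeCompl M) := inferInstance
  obtain ⟨ψ1, ψ2, x1, x2, h1, h2, h3⟩ := exists_two_forms hN
  obtain ⟨⟨m1, s1⟩, hm1⟩ := IsLocalizedModule.surj p.asIdeal.primeCompl
    (LocalizedModule.mkLinearMap p.asIdeal.primeCompl M) x1
  obtain ⟨⟨m2, s2⟩, hm2⟩ := IsLocalizedModule.surj p.asIdeal.primeCompl
    (LocalizedModule.mkLinearMap p.asIdeal.primeCompl M) x2
  have hs : ∀ s : p.asIdeal.primeCompl, algebraMap A p.asIdeal.ResidueField (s : A) ≠ 0 := by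
    intro s hs
    rw [Ideal.algebraMap_residueField_eq_zero] at hs
    exact s.2 hs
  have key : ∀ (ψ : LocalizedModule p.asIdeal.primeCompl M →ₗ[Localization.AtPrime p.asIdeal]
      p.asIdeal.ResidueField) (x : LocalizedModule p.asIdeal.primeCompl M) (m : M)
      (s : p.asIdeal.primeCompl), s • x = LocalizedModule.mkLinearMap p.asIdeal.primeCompl M m →
      ((ψ.restrictScalars A).comp (LocalizedModule.mkLinearMap p.asIdeal.primeCompl M)) m =
        algebraMap A p.asIdeal.ResidueField (s : A) * ψ x := by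
    intro ψ x m s h
    change ψ (LocalizedModule.mkLinearMap p.asIdeal.primeCompl M m) = _
    rw [← h, Submonoid.smul_def, ← algebraMap_smul (Localization.AtPrime p.asIdeal) (s : A) x,
      map_smul, algebraMap_smul, Algebra.smul_def]
  refine ⟨(ψ1.restrictScalars A).comp (LocalizedModule.mkLinearMap _ M),
    (ψ2.restrictScalars A).comp (LocalizedModule.mkLinearMap _ M), m1, m2, ?_, ?_, ?_⟩
  · rw [key ψ1 x1 m1 s1 hm1]
    exact mul_ne_zero (hs s1) h1
  · rw [key ψ2 x1 m1 s1 hm1, h2, mul_zero]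
  · rw [key ψ2 x2 m2 s2 hm2]
    exact mul_ne_zero (hs s2) h3

end Transfer

end Groth.Agent.Lib.Helper14.DPConv
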