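import Mathlib
import Groth.Prelude.Def_PolLaw

/-!
# `Γ^d_A(M)` is spanned by the `d`-th divided powers when `A` has enough units (helper14)

`two` (Vandermonde: `dp b m' * dp (D-b) m''` lies in the span of the `dp D m`), `prod_mem`,
`span_eq_gammaPiece`, `exists_units` (a `ℤ[T]/(P_d)`-algebra has `t` with `t^j - t^i` units).
-/

set_option autoImplicit false
universe u
open TensorProduct

namespace Groth.Agent.Lib.Helper14.DPSpan

open DividedPowerAlgebra

variable {A M : Type u} [CommRing A] [AddCommGroup M] [Module A M]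

/-- the span of the `D`-th divided powers -/
noncomputable def dpSpan (A M : Type u) [CommRing A] [AddCommGroup M] [Module A M] (D : ℕ) :
    Submodule A (DividedPowerAlgebra A M) :=
  Submodule.span A (Set.range (dp A D : M → DividedPowerAlgebra A M))

/-- two-factor case via a Vandermonde system -/
lemma two (t : A) (D : ℕ)
    (hu : ∀ i j : Fin (D + 1), i < j → IsUnit (t ^ (j : ℕ) - t ^ (i : ℕ)))
    (m' m'' : M) (b : Fin (D + 1)) :
    dp A b m' * dp A (D - b) m'' ∈ dpSpan A M D := by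
  classical
  set V : Matrix (Fin (D + 1)) (Fin (D + 1)) A := Matrix.vandermonde (fun i => t ^ (i : ℕ))
    with hV
  have hdet : IsUnit V.det := by
    rw [hV, Matrix.det_vandermonde]
    rw [IsUnit.prod_iff]
    intro i _
    rw [IsUnit.prod_iff]
    intro j hj
    exact hu i j (Finset.mem_Ioi.mp hj)
  set w : Fin (D + 1) → DividedPowerAlgebra A M := fun b => dp A b m' * dp A (D - b) m'' with hw
  set v : Fin (D + 1) → DividedPowerAlgebra A M := fun i => dp A D (t ^ (i : ℕ) • m' + m'')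
    with hv
  have hvw : ∀ i, v i = ∑ b, V i b • w b := by
    intro i
    simp only [hv, hw, hV, Matrix.vandermonde_apply]
    rw [dp_add, Finset.Nat.sum_antidiagonal_eq_sum_range_succ_mk, Finset.sum_range]
    refine Finset.sum_congr rfl (fun b _ => ?_)
    rw [dp_smul, smul_mul_assoc]
  have hinv : V⁻¹ * V = 1 := Matrix.nonsing_inv_mul V hdet
  have hwb : w b = ∑ i, (V⁻¹ b i) • v i := by
    simp_rw [hvw, Finset.smul_sum, smul_smul]
    rw [Finset.sum_comm]
    simp_rw [← Finset.sum_smul, ← Matrix.mul_apply, hinv, Matrix.one_apply]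
    simp
  show w b ∈ dpSpan A M D
  rw [hwb]
  apply Submodule.sum_mem
  intro i _
  exact Submodule.smul_mem _ _ (Submodule.subset_span ⟨_, rfl⟩)

lemma two' (t : A) (d : ℕ) (hu : ∀ i j : ℕ, i < j → j ≤ d → IsUnit (t ^ j - t ^ i))
    (d₁ d₂ : ℕ) (h : d₁ + d₂ ≤ d) (m' m'' : M) :
    dp A d₁ m' * dp A d₂ m'' ∈ dpSpan A M (d₁ + d₂) := by
  have := two t (d₁ + d₂) (fun i j hij => hu i j hij (le_trans (Nat.lt_succ_iff.mp j.2) h))
    m' m'' ⟨d₁, by omega⟩
  simpa using this

theorem prod_mem (t : A) (d : ℕ) (hu : ∀ i j : ℕ, i < j → j ≤ d → IsUnit (t ^ j - t ^ i)) :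
    ∀ (n : ℕ) (d' : ℕ), d' ≤ d → ∀ (k : Fin n → ℕ) (m : Fin n → M), ∑ i, k i = d' →
      ∏ i, dp A (k i) (m i) ∈ dpSpan A M d' := by
  intro n
  induction n with
  | zero =>
    intro d' _ k m hk
    simp only [Finset.univ_eq_empty, Finset.sum_empty, Finset.prod_empty] at hk ⊢
    rw [← hk]
    exact Submodule.subset_span ⟨0, dp_zero⟩
  | succ n ih =>
    intro d' hd' k m hk
    rw [Fin.prod_univ_castSucc]
    rw [Fin.sum_univ_castSucc] at hk
    set d₁ := ∑ i : Fin n, k i.castSucc with hd₁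
    have h1 := ih d₁ (by omega) (fun i => k i.castSucc) (fun i => m i.castSucc) rfl
    rw [← hk]
    have key : ∀ y ∈ dpSpan A M d₁, y * dp A (k (Fin.last n)) (m (Fin.last n)) ∈
        dpSpan A M (d₁ + k (Fin.last n)) := by
      intro y hy
      induction hy using Submodule.span_induction with
      | mem y hy =>
        obtain ⟨m', rfl⟩ := hy
        exact two' t d hu d₁ _ (by omega) m' _
      | zero => rw [zero_mul]; exact zero_mem _
      | add y₁ y₂ _ _ h₁ h₂ => rw [add_mul]; exact add_mem h₁ h₂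
      | smul c y _ h => rw [smul_mul_assoc]; exact Submodule.smul_mem _ c h
    exact key _ h1

theorem span_eq_gammaPiece (t : A) (d : ℕ)
    (hu : ∀ i j : ℕ, i < j → j ≤ d → IsUnit (t ^ j - t ^ i)) :
    Submodule.span A (Set.range (dp A d : M → DividedPowerAlgebra A M)) =
      PolLaw.gammaPiece A M d := by
  apply le_antisymm
  · rw [Submodule.span_le]
    rintro _ ⟨m, rfl⟩
    apply Submodule.subset_span
    exact ⟨1, fun _ => d, fun _ => m, by simp, by simp⟩
  · rw [PolLaw.gammaPiece, Submodule.span_le]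
    rintro _ ⟨n, k, m, hk, rfl⟩
    exact prod_mem t d hu n d le_rfl k m hk

open Polynomial in
theorem exists_units (d : ℕ)
    (φ : (ℤ[X] ⧸ Ideal.span {(∏ j ∈ Finset.range (d + 1), ∏ i ∈ Finset.range j,
        ((X : ℤ[X]) ^ i - X ^ j)) - 1}) →+* A) :
    ∃ t : A, ∀ i j : ℕ, i < j → j ≤ d → IsUnit (t ^ j - t ^ i) := by
  set I := Ideal.span {(∏ j ∈ Finset.range (d + 1), ∏ i ∈ Finset.range j,
        ((X : ℤ[X]) ^ i - X ^ j)) - 1} with hI
  set t : A := φ (Ideal.Quotient.mk I X) with ht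
  refine ⟨t, fun i j hij hjd => ?_⟩
  have h0 : Ideal.Quotient.mk I ((∏ j ∈ Finset.range (d + 1), ∏ i ∈ Finset.range j,
        ((X : ℤ[X]) ^ i - X ^ j)) - 1) = 0 :=
    Ideal.Quotient.eq_zero_iff_mem.mpr (Ideal.subset_span rfl)
  have h1 := congrArg φ h0
  simp only [map_sub, map_prod, map_pow, map_one, map_zero] at h1
  rw [sub_eq_zero] at h1
  have h2 : IsUnit (∏ j ∈ Finset.range (d + 1), ∏ i ∈ Finset.range j, (t ^ i - t ^ j)) := by
    rw [h1]
    exact isUnit_one
  rw [IsUnit.prod_iff] at h2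
  have h3 := h2 j (Finset.mem_range.mpr (by omega))
  rw [IsUnit.prod_iff] at h3
  have h4 := h3 i (Finset.mem_range.mpr hij)
  have : t ^ j - t ^ i = -(t ^ i - t ^ j) := by ring
  rw [this]
  exact h4.neg

end Groth.Agent.Lib.Helper14.DPSpan
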