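import Mathlib
import Groth.Prelude.Def_PolLaw
import Groth.Agent.Lib.Helper14DPSpan

/-!
# `Γ^d_A(M)` is spanned by `d`-th divided powers under a local hypothesis (helper14)

At each maximal ideal either the residue field has at least `d` elements (projective Vandermonde
with adjugate: `two_adj`, `prod_mem_of_distinct`) or the localisation of `M` is cyclic
(`prod_mem_of_cyclic`); the colon ideal of a product of divided powers is then the unit ideal
(`span_eq_gammaPiece_of_local`).
-/

set_option autoImplicit false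
universe u
open TensorProduct

namespace Groth.Agent.Lib.Helper14.DPSpanLoc

open DividedPowerAlgebra
open Groth.Agent.Lib.Helper14.DPSpan

variable {A M : Type u} [CommRing A] [AddCommGroup M] [Module A M]

/-- two-factor case with a `D × D` Vandermonde system and the point at infinity -/
lemma two_adj (D : ℕ) (a : Fin D → A) (m' m'' : M) (b : ℕ) (hb : b ≤ D) :
    (Matrix.vandermonde a).det • (dp A b m' * dp A (D - b) m'') ∈ dpSpan A M D := by
  classical
  set V : Matrix (Fin D) (Fin D) A := Matrix.vandermonde a with hV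
  have hD : dp A D m' * dp A (D - D) m'' ∈ dpSpan A M D := by
    rw [Nat.sub_self, dp_zero, mul_one]
    exact Submodule.subset_span ⟨m', rfl⟩
  rcases Nat.lt_or_ge b D with hlt | hge
  · set w : ℕ → DividedPowerAlgebra A M := fun b => dp A b m' * dp A (D - b) m'' with hw
    set u : Fin D → DividedPowerAlgebra A M :=
      fun i => dp A D (a i • m' + m'') - a i ^ D • w D with hu
    have hu_mem : ∀ i, u i ∈ dpSpan A M D := fun i =>
      Submodule.sub_mem _ (Submodule.subset_span ⟨_, rfl⟩) (Submodule.smul_mem _ _ hD)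
    have huw : ∀ i, u i = ∑ b : Fin D, V i b • w b := by
      intro i
      simp only [hu, hw, hV, Matrix.vandermonde_apply]
      rw [dp_add, Finset.Nat.sum_antidiagonal_eq_sum_range_succ_mk, Finset.sum_range_succ,
        add_sub_assoc]
      have : dp A D (a i • m') * dp A (D - D) m'' - a i ^ D • (dp A D m' * dp A (D - D) m'') = 0 := by
        rw [dp_smul, smul_mul_assoc, sub_self]
      rw [this, add_zero, Finset.sum_range]
      refine Finset.sum_congr rfl (fun b _ => ?_)
      rw [dp_smul, smul_mul_assoc]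
    have hadj : V.adjugate * V = V.det • (1 : Matrix (Fin D) (Fin D) A) := Matrix.adjugate_mul V
    have hwb : V.det • w b = ∑ i, (V.adjugate ⟨b, hlt⟩ i) • u i := by
      simp_rw [huw, Finset.smul_sum, smul_smul]
      rw [Finset.sum_comm]
      simp_rw [← Finset.sum_smul, ← Matrix.mul_apply, hadj, Matrix.smul_apply, Matrix.one_apply]
      simp
    show V.det • w b ∈ dpSpan A M D
    rw [hwb]
    apply Submodule.sum_mem
    intro i _
    exact Submodule.smul_mem _ _ (hu_mem i)
  · have : b = D := le_antisymm hb hge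
    subst this
    exact Submodule.smul_mem _ _ hD

/-- case of a large residue field: products of divided powers lie in the span up to a multiplier
outside `p` -/
theorem prod_mem_of_distinct (p : Ideal A) [p.IsPrime] (d : ℕ) (a : Fin d → A)
    (ha : ∀ i j, i ≠ j → a j - a i ∉ p) :
    ∀ (n : ℕ) (d' : ℕ), d' ≤ d → ∀ (k : Fin n → ℕ) (m : Fin n → M), ∑ i, k i = d' →
      ∃ s : A, s ∉ p ∧ s • ∏ i, dp A (k i) (m i) ∈ dpSpan A M d' := by
  intro n
  induction n with
  | zero =>
    intro d' _ k m hk
    refine ⟨1, fun h => ‹p.IsPrime›.ne_top ((Ideal.eq_top_iff_one p).mpr h), ?_⟩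
    simp only [Finset.univ_eq_empty, Finset.sum_empty, Finset.prod_empty] at hk ⊢
    rw [← hk, one_smul]
    exact Submodule.subset_span ⟨0, dp_zero⟩
  | succ n ih =>
    intro d' hd' k m hk
    rw [Fin.prod_univ_castSucc]
    rw [Fin.sum_univ_castSucc] at hk
    set d₁ := ∑ i : Fin n, k i.castSucc with hd₁
    obtain ⟨s₁, hs₁, h1⟩ := ih d₁ (by omega) (fun i => k i.castSucc) (fun i => m i.castSucc) rfl
    have hle : d' ≤ d := hd'
    set aD : Fin d' → A := fun i => a (Fin.castLE hle i) with haD
    have hdet : (Matrix.vandermonde aD).det ∉ p := by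
      rw [Matrix.det_vandermonde]
      intro hmem
      obtain ⟨i, -, hi⟩ := (Ideal.IsPrime.prod_mem_iff).mp hmem
      obtain ⟨j, hj, hij⟩ := (Ideal.IsPrime.prod_mem_iff).mp hi
      have hne : Fin.castLE hle i ≠ Fin.castLE hle j := by
        intro h
        have := Fin.castLE_injective hle h
        exact (ne_of_lt (Finset.mem_Ioi.mp hj)) this
      exact ha _ _ hne hij
    refine ⟨(Matrix.vandermonde aD).det * s₁, fun h => ?_, ?_⟩
    · rcases ‹p.IsPrime›.mem_or_mem h with h | h
      · exact hdet h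
      · exact hs₁ h
    have key : ∀ y ∈ dpSpan A M d₁, (Matrix.vandermonde aD).det •
        (y * dp A (k (Fin.last n)) (m (Fin.last n))) ∈ dpSpan A M d' := by
      intro y hy
      induction hy using Submodule.span_induction with
      | mem y hy =>
        obtain ⟨m', rfl⟩ := hy
        have := two_adj d' aD m' (m (Fin.last n)) d₁ (by omega)
        have h2 : d' - d₁ = k (Fin.last n) := by omega
        rw [h2] at this
        exact this
      | zero => rw [zero_mul, smul_zero]; exact zero_mem _
      | add y₁ y₂ _ _ h₁ h₂ => rw [add_mul, smul_add]; exact add_mem h₁ h₂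
      | smul c y _ h =>
        rw [smul_mul_assoc, smul_comm]
        exact Submodule.smul_mem _ c h
    have := key _ h1
    rw [smul_mul_assoc, smul_smul] at this
    exact this

/-- case of a cyclic localisation -/
theorem prod_mem_of_cyclic (p : Ideal A) [p.IsPrime] (m₀ : M)
    (hm₀ : ∀ m : M, ∃ σ : A, σ ∉ p ∧ ∃ α : A, σ • m = α • m₀) (d : ℕ)
    (n : ℕ) (k : Fin n → ℕ) (m : Fin n → M) (hk : ∑ i, k i = d) :
    ∃ s : A, s ∉ p ∧ s • ∏ i, dp A (k i) (m i) ∈ dpSpan A M d := by
  choose σ hσ α hα using hm₀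
  refine ⟨∏ i, σ (m i) ^ k i, fun h => ?_, ?_⟩
  · obtain ⟨i, -, hi⟩ := (Ideal.IsPrime.prod_mem_iff).mp h
    exact hσ (m i) (‹p.IsPrime›.mem_of_pow_mem _ hi)
  · have h1 : (∏ i, σ (m i) ^ k i) • ∏ i, dp A (k i) (m i) =
        ∏ i, dp A (k i) (α (m i) • m₀) := by
      rw [← Finset.prod_smul]
      refine Finset.prod_congr rfl (fun i _ => ?_)
      rw [← dp_smul, hα]
    have h2 : ∏ i, dp A (k i) (α (m i) • m₀) =
        (∏ i, α (m i) ^ k i) • ∏ i, dp A (k i) m₀ := by
      rw [← Finset.prod_smul]
      refine Finset.prod_congr rfl (fun i _ => ?_)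
      rw [dp_smul]
    rw [h1, h2, prod_dp, hk]
    apply Submodule.smul_mem
    rw [← nsmul_eq_mul]
    exact Submodule.smul_of_tower_mem _ _ (Submodule.subset_span ⟨m₀, rfl⟩)

lemma exists_distinct (p : Ideal A) [p.IsMaximal] (d : ℕ)
    (hc : (d : Cardinal) ≤ Cardinal.mk p.ResidueField) :
    ∃ a : Fin d → A, ∀ i j, i ≠ j → a j - a i ∉ p := by
  have h1 : Cardinal.mk (ULift.{u} (Fin d)) ≤ Cardinal.mk p.ResidueField := by
    rw [Cardinal.mk_fintype, Fintype.card_ulift, Fintype.card_fin]
    exact hc
  obtain ⟨f⟩ := Cardinal.le_def _ _ |>.mp h1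
  have hsurj := p.algebraMap_residueField_surjective
  choose a ha using fun i : Fin d => hsurj (f ⟨i⟩)
  refine ⟨a, fun i j hij hmem => ?_⟩
  have h2 : algebraMap A p.ResidueField (a j - a i) = 0 :=
    Ideal.algebraMap_residueField_eq_zero.mpr hmem
  rw [map_sub, ha, ha, sub_eq_zero] at h2
  have := f.injective h2
  exact hij (ULift.up_injective this).symm

lemma exists_gen_of_cyclic (p : Ideal A) [p.IsPrime] (x : LocalizedModule p.primeCompl M)
    (hx : Submodule.span (Localization.AtPrime p) {x} = ⊤) :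
    ∃ m₀ : M, ∀ m : M, ∃ σ : A, σ ∉ p ∧ ∃ α : A, σ • m = α • m₀ := by
  induction x using LocalizedModule.induction_on with
  | h m₀ s₀ =>
    refine ⟨m₀, fun m => ?_⟩
    have hm : LocalizedModule.mk m (1 : p.primeCompl) ∈
        Submodule.span (Localization.AtPrime p) {LocalizedModule.mk m₀ s₀} := by
      rw [hx]
      trivial
    obtain ⟨r, hr⟩ := Submodule.mem_span_singleton.mp hm
    obtain ⟨⟨α, s⟩, rfl⟩ := IsLocalization.mk'_surjective p.primeCompl r
    rw [← Localization.mk_eq_mk', LocalizedModule.mk_smul_mk, LocalizedModule.mk_eq] at hr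
    obtain ⟨u, hu⟩ := hr
    refine ⟨u * (s * s₀), ?_, u * α, ?_⟩
    · exact (u * (s * s₀)).2
    · simp only [one_smul, Submonoid.smul_def, Submonoid.coe_mul] at hu
      calc ((u : A) * ((s : A) * (s₀ : A))) • m = (u : A) • ((s : A) * (s₀ : A)) • m := mul_smul _ _ _
        _ = (u : A) • α • m₀ := hu.symm
        _ = ((u : A) * α) • m₀ := (mul_smul _ _ _).symm

theorem span_eq_gammaPiece_of_local (d : ℕ)
    (h : ∀ p : PrimeSpectrum A, (d : Cardinal) ≤ Cardinal.mk p.asIdeal.ResidueField ∨
      ∃ x : LocalizedModule p.asIdeal.primeCompl M,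
        Submodule.span (Localization.AtPrime p.asIdeal) {x} = ⊤) :
    Submodule.span A (Set.range (dp A d : M → DividedPowerAlgebra A M)) =
      PolLaw.gammaPiece A M d := by
  apply le_antisymm
  · rw [Submodule.span_le]
    rintro _ ⟨m, rfl⟩
    apply Submodule.subset_span
    exact ⟨1, fun _ => d, fun _ => m, by simp, by simp⟩
  · rw [PolLaw.gammaPiece, Submodule.span_le]
    rintro _ ⟨n, k, m, hk, rfl⟩
    show ∏ i, dp A (k i) (m i) ∈ dpSpan A M d
    by_contra hg
    set I : Ideal A := (dpSpan A M d).colon {∏ i, dp A (k i) (m i)} with hI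
    have hItop : I ≠ ⊤ := by
      intro h1
      apply hg
      have h2 : (1 : A) ∈ I := by
        rw [h1]
        trivial
      rw [hI, Submodule.mem_colon_singleton, one_smul] at h2
      exact h2
    obtain ⟨p, hp, hIp⟩ := Ideal.exists_le_maximal I hItop
    have hpp : p.IsPrime := hp.isPrime
    rcases h ⟨p, hpp⟩ with hc | ⟨x, hx⟩
    · obtain ⟨a, ha⟩ := exists_distinct p d hc
      obtain ⟨s, hs, hmem⟩ := prod_mem_of_distinct p d a ha n d le_rfl k m hk
      exact hs (hIp (Submodule.mem_colon_singleton.mpr hmem))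
    · obtain ⟨m₀, hm₀⟩ := exists_gen_of_cyclic p x hx
      obtain ⟨s, hs, hmem⟩ := prod_mem_of_cyclic p m₀ hm₀ d n k m hk
      exact hs (hIp (Submodule.mem_colon_singleton.mpr hmem))

end Groth.Agent.Lib.Helper14.DPSpanLoc
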