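import Mathlib
import Groth.Prelude.Def_W4c5adicflatcomplDec
import Groth.Agent.Lib.Helper14Decaying
import Groth.Agent.Lib.Helper14Decaying2
import Groth.Agent.Lib.Helper19ComplNoeth

/-!
# The adic completion of a free module over a Noetherian ring is flat
-/

set_option autoImplicit false

open W4c5adicflatcompl
open scoped TensorProduct

universe u v

namespace Groth.Agent.Lib.Helper14.Dec

variable {R : Type u} [CommRing R] (I : Ideal R) (Z : Type v)

theorem mem_pow_smul_top_completion_iff (n : ℕ) (s : AdicCompletion I R) :
    s ∈ (I ^ n • ⊤ : Submodule R (AdicCompletion I R)) ↔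
      s ∈ ((I.map (algebraMap R (AdicCompletion I R))) ^ n • ⊤ :
        Submodule (AdicCompletion I R) (AdicCompletion I R)) := by
  rw [Ideal.smul_top_eq_map, smul_eq_mul, Ideal.mul_top, Ideal.map_pow]
  rfl

theorem mem_decaying_completion_iff (g : Z → AdicCompletion I R) :
    g ∈ decaying I Z (AdicCompletion I R) ↔
      g ∈ decaying (I.map (algebraMap R (AdicCompletion I R))) Z (AdicCompletion I R) := by
  rw [mem_decaying_iff, mem_decaying_iff]
  refine forall_congr' fun n => ?_
  have : {z | g z ∉ (I ^ n • ⊤ : Submodule R (AdicCompletion I R))} =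
      {z | g z ∉ ((I.map (algebraMap R (AdicCompletion I R))) ^ n • ⊤ :
        Submodule (AdicCompletion I R) (AdicCompletion I R))} := by
    ext z
    simp only [Set.mem_ofPred_eq, mem_pow_smul_top_completion_iff]
  rw [this]

/-- The `I`-adic completion of a free module over a Noetherian ring is flat. -/
theorem flat_adicCompletion_finsupp [IsNoetherianRing R] :
    Module.Flat R (AdicCompletion I (Z →₀ R)) := by
  have hfg : I.FG := Ideal.fg_of_isNoetherianRing I
  have hcomplete : IsAdicComplete I (AdicCompletion I R) := AdicCompletion.isAdicComplete hfg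
  have hN : IsNoetherianRing (AdicCompletion I R) :=
    Groth.Agent.Lib.Helper19.isNoetherianRing_adicCompletion I
  have hJ : IsAdicComplete (I.map (algebraMap R (AdicCompletion I R))) (AdicCompletion I R) :=
    (IsAdicComplete.map_algebraMap_iff I (AdicCompletion I R)).mpr hcomplete
  have hflatS : Module.Flat (AdicCompletion I R)
      (decaying (I.map (algebraMap R (AdicCompletion I R))) Z (AdicCompletion I R)) :=
    flat_decaying
  have hflatR : Module.Flat R
      (decaying (I.map (algebraMap R (AdicCompletion I R))) Z (AdicCompletion I R)) :=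
    Module.Flat.trans R (AdicCompletion I R) _
  -- the `R`-linear identification
  let e1 : AdicCompletion I (Z →₀ R) ≃ₗ[R] LinearMap.range (Psi I Z R) :=
    LinearEquiv.ofInjective (Psi I Z R) Psi_injective
  let e2 : LinearMap.range (Psi I Z R) ≃ₗ[R] decaying I Z (AdicCompletion I R) :=
    LinearEquiv.ofEq _ _ range_Psi
  let e3 : decaying I Z (AdicCompletion I R) ≃ₗ[R]
      decaying (I.map (algebraMap R (AdicCompletion I R))) Z (AdicCompletion I R) :=
    { toFun := fun g => ⟨g.1, (mem_decaying_completion_iff I Z g.1).mp g.2⟩
      invFun := fun g => ⟨g.1, (mem_decaying_completion_iff I Z g.1).mpr g.2⟩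
      map_add' := fun _ _ => rfl
      map_smul' := fun _ _ => rfl
      left_inv := fun _ => rfl
      right_inv := fun _ => rfl }
  exact Module.Flat.of_linearEquiv ((e1.trans e2).trans e3)

end Groth.Agent.Lib.Helper14.Dec
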