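import Groth.Agent.Lib.Helper14NilProj

/-! Helper14: lifting finite projective modules along surjections.

* `Filt.exists_of_compatible`, `Filt.le_jacobson_bot`, `Filt.exists_idempotent_lift_quot`,
  `Filt.exists_idempotent_lift` : a ring `A` complete and separated for a decreasing filtration
  `K n` of ideals with `K n ≤ √(K (n+1))`: `K 0` lies in the Jacobson radical and idempotent
  matrices lift along `A → A / K 0`.
* `exists_idempotent_lift_of_nil` : idempotent matrices lift along surjections with nil kernel.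
* `exists_lift_of_idempotent_lift` : if idempotent matrices lift along the surjection `φ : A → B`,
  every finite projective `B`-module lifts to a finite projective `A`-module.
* `exists_equiv_of_lifts` : two lifts are isomorphic if `ker φ` lies in the Jacobson radical.
-/

set_option autoImplicit false
universe u v w

namespace Groth.Agent.Lib.Helper14.LiftProj

open Matrix Groth.Agent.Lib.Helper14.NilProj

section Filt

variable {A : Type u} [CommRing A] (K : ℕ → Ideal A) (hK : ∀ n, K (n + 1) ≤ K n)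
  (hsep : ∀ a : A, (∀ n, a ∈ K n) → a = 0)
  (hcomp : ∀ z : ℕ → A, (∀ n, z (n + 1) - z n ∈ K n) → ∃ x : A, ∀ n, x - z n ∈ K n)
  (hrad : ∀ n, K n ≤ (K (n + 1)).radical)

include hcomp in
theorem Filt.exists_of_compatible (y : ∀ n, A ⧸ K n)
    (hy : ∀ n, Ideal.Quotient.factor (hK n) (y (n + 1)) = y n) :
    ∃ x : A, ∀ n, Ideal.Quotient.mk (K n) x = y n := by
  choose z hz using fun n => Ideal.Quotient.mk_surjective (y n)
  have hstep : ∀ n, z (n + 1) - z n ∈ K n := by
    intro n
    rw [← Ideal.Quotient.eq, hz n, ← hy n, ← hz (n + 1), Ideal.Quotient.factor_mk]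
  obtain ⟨x, hx⟩ := hcomp z hstep
  exact ⟨x, fun n => by rw [← hz n, Ideal.Quotient.eq]; exact hx n⟩

include hK hsep hcomp hrad in
theorem Filt.le_jacobson_bot : K 0 ≤ Ideal.jacobson ⊥ := by
  intro a ha
  rw [Ideal.mem_jacobson_bot]
  intro y
  have hb : a * y ∈ K 0 := Ideal.mul_mem_right _ _ ha
  generalize a * y = b at hb
  have hnil : ∀ n, ∃ k, b ^ k ∈ K n := by
    intro n
    induction n with
    | zero => exact ⟨1, by simpa using hb⟩
    | succ n ih =>
      obtain ⟨k, hk⟩ := ih
      obtain ⟨m, hm⟩ := hrad n hk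
      exact ⟨k * m, by rw [pow_mul]; exact hm⟩
  have hunit : ∀ n, IsUnit (Ideal.Quotient.mk (K n) (b + 1)) := by
    intro n
    obtain ⟨k, hk⟩ := hnil n
    rw [map_add, map_one]
    apply IsNilpotent.isUnit_add_one
    exact ⟨k, by rw [← map_pow, Ideal.Quotient.eq_zero_iff_mem]; exact hk⟩
  let c : ∀ n, A ⧸ K n := fun n => (((hunit n).unit⁻¹ : (A ⧸ K n)ˣ) : A ⧸ K n)
  have hc : ∀ n, Ideal.Quotient.mk (K n) (b + 1) * c n = 1 := fun n => (hunit n).mul_val_inv
  have hcompat : ∀ n, Ideal.Quotient.factor (hK n) (c (n + 1)) = c n := by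
    intro n
    have h1 : Ideal.Quotient.mk (K n) (b + 1) * Ideal.Quotient.factor (hK n) (c (n + 1)) = 1 := by
      rw [← Ideal.Quotient.factor_mk (hK n), ← map_mul, hc, map_one]
    calc Ideal.Quotient.factor (hK n) (c (n + 1))
        = (c n * Ideal.Quotient.mk (K n) (b + 1)) * Ideal.Quotient.factor (hK n) (c (n + 1)) := by
          rw [mul_comm (c n), hc, one_mul]
      _ = c n := by rw [mul_assoc, h1, mul_one]
  obtain ⟨d, hd⟩ := Filt.exists_of_compatible K hK hcomp c hcompat
  have : (b + 1) * d = 1 := by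
    rw [← sub_eq_zero]
    apply hsep
    intro n
    rw [← Ideal.Quotient.eq_zero_iff_mem, map_sub, map_mul, hd, hc, map_one, sub_self]
  exact IsUnit.of_mul_eq_one _ this

include hK hsep hcomp hrad in
theorem Filt.exists_idempotent_lift_quot {r : ℕ} (E : Matrix (Fin r) (Fin r) (A ⧸ K 0))
    (hE : IsIdempotentElem E) :
    ∃ E' : Matrix (Fin r) (Fin r) A, IsIdempotentElem E' ∧
      E'.map (Ideal.Quotient.mk (K 0)) = E := by
  have hstep : ∀ n (s : {F : Matrix (Fin r) (Fin r) (A ⧸ K n) // IsIdempotentElem F}),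
      ∃ s' : {F : Matrix (Fin r) (Fin r) (A ⧸ K (n + 1)) // IsIdempotentElem F},
        s'.1.map (Ideal.Quotient.factor (hK n)) = s.1 := by
    rintro n ⟨F, hF⟩
    have hkernil : ∀ N ∈ RingHom.ker (RingHom.mapMatrix (m := Fin r)
        (Ideal.Quotient.factor (hK n))), IsNilpotent N := by
      intro N hN
      apply isNilpotent_of_forall_mem (RingHom.ker (Ideal.Quotient.factor (hK n)))
      · intro x hx
        obtain ⟨a, rfl⟩ := Ideal.Quotient.mk_surjective x
        rw [RingHom.mem_ker, Ideal.Quotient.factor_mk, Ideal.Quotient.eq_zero_iff_mem] at hx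
        obtain ⟨k, hk⟩ := hrad n hx
        exact ⟨k, by rw [← map_pow, Ideal.Quotient.eq_zero_iff_mem]; exact hk⟩
      · intro i j
        have := congrFun (congrFun (show N.map (Ideal.Quotient.factor (hK n)) = 0 from hN) i) j
        simpa using this
    have hrange : F ∈ (RingHom.mapMatrix (m := Fin r) (Ideal.Quotient.factor (hK n))).range := by
      choose c hc using fun i j => Ideal.Quotient.factor_surjective (hK n) (F i j)
      exact ⟨Matrix.of c, by ext i j; simp [hc]⟩
    obtain ⟨F', hF', hFF'⟩ := exists_isIdempotentElem_eq_of_ker_isNilpotent _ hkernil F hrange hF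
    exact ⟨⟨F', hF'⟩, hFF'⟩
  obtain ⟨sq, hsq0, hsq⟩ : ∃ sq : ∀ n, {F : Matrix (Fin r) (Fin r) (A ⧸ K n) //
      IsIdempotentElem F}, (sq 0).1 = E ∧
      ∀ n, (sq (n + 1)).1.map (Ideal.Quotient.factor (hK n)) = (sq n).1 :=
    ⟨fun n => Nat.rec ⟨E, hE⟩ (fun n s => Classical.choose (hstep n s)) n, rfl,
      fun n => Classical.choose_spec (hstep n _)⟩
  have hent : ∀ i j, ∃ x : A, ∀ n, Ideal.Quotient.mk (K n) x = (sq n).1 i j := by
    intro i j
    apply Filt.exists_of_compatible K hK hcomp (fun n => (sq n).1 i j)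
    intro n
    have := congrFun (congrFun (hsq n) i) j
    simpa using this
  choose x hx using hent
  have hmap : ∀ n, (Matrix.of x).map (Ideal.Quotient.mk (K n)) = (sq n).1 := by
    intro n
    ext i j
    simp [hx]
  refine ⟨Matrix.of x, ?_, by rw [hmap 0, hsq0]⟩
  change Matrix.of x * Matrix.of x = Matrix.of x
  rw [← sub_eq_zero]
  ext i j
  apply hsep
  intro n
  rw [← Ideal.Quotient.eq_zero_iff_mem]
  have h1 : (RingHom.mapMatrix (m := Fin r) (Ideal.Quotient.mk (K n)))
      (Matrix.of x * Matrix.of x - Matrix.of x) = 0 := by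
    rw [map_sub, map_mul]
    change (Matrix.of x).map _ * (Matrix.of x).map _ - (Matrix.of x).map _ = 0
    rw [hmap n, (sq n).2.eq, sub_self]
  exact congrFun (congrFun h1 i) j

include hK hsep hcomp hrad in
theorem Filt.exists_idempotent_lift {B : Type*} [CommRing B] (φ : A →+* B)
    (hφ : Function.Surjective φ) (hK0 : K 0 = RingHom.ker φ) {r : ℕ}
    (E : Matrix (Fin r) (Fin r) B) (hE : IsIdempotentElem E) :
    ∃ E' : Matrix (Fin r) (Fin r) A, IsIdempotentElem E' ∧ E'.map φ = E := by
  let ψ : A ⧸ K 0 →+* B := Ideal.Quotient.lift (K 0) φ (fun a ha => by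
    rw [hK0] at ha
    exact ha)
  have hψmk : ∀ a, ψ (Ideal.Quotient.mk (K 0) a) = φ a := fun a => rfl
  have hψinj : Function.Injective ψ := by
    rw [injective_iff_map_eq_zero]
    intro x hx
    obtain ⟨a, rfl⟩ := Ideal.Quotient.mk_surjective x
    rw [hψmk] at hx
    rw [Ideal.Quotient.eq_zero_iff_mem, hK0]
    exact hx
  choose c hc using fun i j => hφ (E i j)
  let E₀ : Matrix (Fin r) (Fin r) (A ⧸ K 0) := Matrix.of fun i j => Ideal.Quotient.mk (K 0) (c i j)
  have hE₀map : E₀.map ψ = E := by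
    ext i j
    simp [E₀, hψmk, hc]
  have hE₀ : IsIdempotentElem E₀ := by
    have hinj : Function.Injective (RingHom.mapMatrix (m := Fin r) ψ) := by
      intro M N hMN
      ext i j
      apply hψinj
      exact congrFun (congrFun hMN i) j
    apply hinj
    rw [map_mul]
    change E₀.map ψ * E₀.map ψ = E₀.map ψ
    rw [hE₀map]
    exact hE
  obtain ⟨E', hE', hE'E₀⟩ := Filt.exists_idempotent_lift_quot K hK hsep hcomp hrad E₀ hE₀
  refine ⟨E', hE', ?_⟩
  rw [← hE₀map, ← hE'E₀]
  ext i j
  rfl

end Filt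

section Nil

variable {A : Type u} {B : Type v} [CommRing A] [CommRing B]

theorem exists_idempotent_lift_of_nil (φ : A →+* B) (hφ : Function.Surjective φ)
    (hnil : ∀ x, φ x = 0 → IsNilpotent x) {r : ℕ}
    (E : Matrix (Fin r) (Fin r) B) (hE : IsIdempotentElem E) :
    ∃ E' : Matrix (Fin r) (Fin r) A, IsIdempotentElem E' ∧ E'.map φ = E := by
  have hkernil : ∀ N ∈ RingHom.ker (RingHom.mapMatrix (m := Fin r) φ), IsNilpotent N := by
    intro N hN
    apply isNilpotent_of_forall_mem (RingHom.ker φ) (fun x hx => hnil x hx)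
    intro i j
    have := congrFun (congrFun (show N.map φ = 0 from hN) i) j
    simpa using this
  have hrange : E ∈ (RingHom.mapMatrix (m := Fin r) φ).range := by
    choose c hc using fun i j => hφ (E i j)
    exact ⟨Matrix.of c, by ext i j; simp [hc]⟩
  exact exists_isIdempotentElem_eq_of_ker_isNilpotent _ hkernil E hrange hE

end Nil

section Lift

variable {A : Type u} {B : Type v} [CommRing A] [CommRing B]

/-- If idempotent matrices lift along the surjection `φ`, finite projective modules lift. -/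
theorem exists_lift_of_idempotent_lift (φ : A →+* B) (hφ : Function.Surjective φ)
    (P : Type w) [AddCommGroup P] [Module B P] [Module.Finite B P] [Module.Projective B P]
    (hlift : ∀ (r : ℕ) (E : Matrix (Fin r) (Fin r) B), IsIdempotentElem E →
      ∃ E' : Matrix (Fin r) (Fin r) A, IsIdempotentElem E' ∧ E'.map φ = E) :
    ∃ (r : ℕ) (P' : Submodule A (Fin r → A)) (π : P' →ₛₗ[φ] P),
      Module.Finite A P' ∧ Module.Projective A P' ∧ Function.Surjective π ∧
        LinearMap.ker π = RingHom.ker φ • (⊤ : Submodule A P') := by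
  classical
  obtain ⟨r, fb, gb, hfb, -, hfg⟩ := Module.Finite.exists_comp_eq_id_of_projective B P
  let Eb : Matrix (Fin r) (Fin r) B := LinearMap.toMatrix' (gb ∘ₗ fb)
  have hEb : IsIdempotentElem Eb := by
    change Eb * Eb = Eb
    rw [← LinearMap.toMatrix'_comp]
    congr 1
    rw [LinearMap.comp_assoc, ← LinearMap.comp_assoc fb, hfg, LinearMap.id_comp]
  obtain ⟨E, hE, hEEb⟩ := hlift r Eb hEb
  let e : (Fin r → A) →ₗ[A] (Fin r → A) := Matrix.toLin' E
  have hee : ∀ v, e (e v) = e v := by
    intro v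
    change Matrix.toLin' E (Matrix.toLin' E v) = Matrix.toLin' E v
    rw [← LinearMap.comp_apply, ← Matrix.toLin'_mul, hE.eq]
  have hmape : ∀ v, mapPi φ r (e v) = gb (fb (mapPi φ r v)) := by
    intro v
    have h1 : gb (fb (mapPi φ r v)) = Eb *ᵥ (mapPi φ r v) := by
      rw [← LinearMap.comp_apply, ← Matrix.toLin'_apply, Matrix.toLin'_toMatrix']
    rw [h1]
    ext i
    rw [mapPi_apply]
    have hev : e v = E *ᵥ v := Matrix.toLin'_apply E v
    rw [hev, RingHom.map_mulVec, hEEb]
    rfl
  have hfgapp : ∀ m, fb (gb m) = m := fun m => LinearMap.congr_fun hfg m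
  have hmapsurj : Function.Surjective (mapPi φ r) := by
    intro w
    choose v hv using fun i => hφ (w i)
    exact ⟨v, funext hv⟩
  let P' : Submodule A (Fin r → A) := LinearMap.range e
  have hP' : ∀ x : P', e x.1 = x.1 := by
    rintro ⟨_, v, rfl⟩
    exact hee v
  let π : P' →ₛₗ[φ] P :=
    { toFun := fun x => fb (mapPi φ r x.1)
      map_add' := fun x y => by
        change fb (mapPi φ r (x.1 + y.1)) = _
        rw [map_add, map_add]
      map_smul' := fun a x => by
        change fb (mapPi φ r (a • x.1)) = φ a • fb (mapPi φ r x.1)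
        rw [map_smulₛₗ, map_smul] }
  have hπ : ∀ x : P', π x = fb (mapPi φ r x.1) := fun x => rfl
  refine ⟨r, P', π, Module.Finite.range e, ?_, ?_, ?_⟩
  · refine Module.Projective.of_split P'.subtype e.rangeRestrict ?_
    ext x : 1
    apply Subtype.ext
    exact hP' x
  · intro m
    obtain ⟨v, hv⟩ := hmapsurj (gb m)
    refine ⟨⟨e v, v, rfl⟩, ?_⟩
    rw [hπ]
    change fb (mapPi φ r (e v)) = m
    rw [hmape, hv, hfgapp, hfgapp]
  · apply le_antisymm
    · intro x hx
      rw [LinearMap.mem_ker, hπ] at hx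
      have h0 : mapPi φ r x.1 = 0 := by
        rw [← hP' x, hmape, hx, map_zero]
      have hxi : ∀ i, x.1 i ∈ RingHom.ker φ := fun i => congrFun h0 i
      have hsum : x = ∑ i, x.1 i • (⟨e (Pi.single i 1), Pi.single i 1, rfl⟩ : P') := by
        apply Subtype.ext
        have h1 : x.1 = e x.1 := (hP' x).symm
        have h2 : e x.1 = ∑ i, x.1 i • e (Pi.single i 1) := by
          conv_lhs => rw [pi_eq_sum_univ' x.1]
          rw [map_sum]
          apply Finset.sum_congr rfl
          intro i _
          rw [map_smul]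
        refine (h1.trans h2).trans ?_
        rw [AddSubmonoidClass.coe_finset_sum]
        exact Finset.sum_congr rfl (fun i _ => rfl)
      rw [hsum]
      exact Submodule.sum_mem _ fun i _ => Submodule.smul_mem_smul (hxi i) Submodule.mem_top
    · rw [Submodule.smul_le]
      intro a ha x _
      rw [LinearMap.mem_ker, map_smulₛₗ, RingHom.mem_ker.mp ha, zero_smul]

/-- Lifting finite projective modules along a surjection with nil kernel. -/
theorem exists_lift_of_nil (φ : A →+* B) (hφ : Function.Surjective φ)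
    (hnil : ∀ x, φ x = 0 → IsNilpotent x)
    (P : Type w) [AddCommGroup P] [Module B P] [Module.Finite B P] [Module.Projective B P] :
    ∃ (r : ℕ) (P' : Submodule A (Fin r → A)) (π : P' →ₛₗ[φ] P),
      Module.Finite A P' ∧ Module.Projective A P' ∧ Function.Surjective π ∧
        LinearMap.ker π = RingHom.ker φ • (⊤ : Submodule A P') :=
  exists_lift_of_idempotent_lift φ hφ P
    (fun _ E hE => exists_idempotent_lift_of_nil φ hφ hnil E hE)

/-- Two lifts of a finite projective module along a surjection whose kernel lies in the Jacobson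
radical are isomorphic. -/
theorem exists_equiv_of_lifts (φ : A →+* B) (hJ : RingHom.ker φ ≤ Ideal.jacobson ⊥)
    {P : Type*} [AddCommGroup P] [Module B P]
    {P₁ : Type*} [AddCommGroup P₁] [Module A P₁] [Module.Finite A P₁] [Module.Projective A P₁]
    {P₂ : Type*} [AddCommGroup P₂] [Module A P₂] [Module.Finite A P₂] [Module.Projective A P₂]
    (π₁ : P₁ →ₛₗ[φ] P) (π₂ : P₂ →ₛₗ[φ] P) (h₁s : Function.Surjective π₁)
    (h₁k : LinearMap.ker π₁ = RingHom.ker φ • (⊤ : Submodule A P₁))
    (h₂s : Function.Surjective π₂)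
    (h₂k : LinearMap.ker π₂ = RingHom.ker φ • (⊤ : Submodule A P₂)) :
    ∃ e : P₁ ≃ₗ[A] P₂, ∀ x : P₁, π₂ (e x) = π₁ x := by
  letI : Module A P := Module.compHom P φ
  let π₁' : P₁ →ₗ[A] P :=
    { toFun := π₁
      map_add' := map_add π₁
      map_smul' := fun a x => map_smulₛₗ π₁ a x }
  let π₂' : P₂ →ₗ[A] P :=
    { toFun := π₂
      map_add' := map_add π₂
      map_smul' := fun a x => map_smulₛₗ π₂ a x }
  obtain ⟨e₀, he₀⟩ := Module.projective_lifting_property π₂' π₁' h₂s
  have he₀' : ∀ x, π₂ (e₀ x) = π₁ x := fun x => LinearMap.congr_fun he₀ x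
  have hsurj : Function.Surjective e₀ := by
    rw [← LinearMap.range_eq_top, eq_top_iff]
    apply Submodule.le_of_le_smul_of_le_jacobson_bot (I := RingHom.ker φ) Module.Finite.fg_top hJ
    intro y _
    obtain ⟨x, hx⟩ := h₁s (π₂ y)
    have h2 : y - e₀ x ∈ LinearMap.ker π₂ := by
      rw [LinearMap.mem_ker, map_sub, he₀', hx, sub_self]
    rw [h₂k] at h2
    have : y = e₀ x + (y - e₀ x) := by abel
    rw [this]
    exact Submodule.add_mem_sup ⟨x, rfl⟩ h2
  obtain ⟨s, hs⟩ := Module.projective_lifting_property e₀ LinearMap.id hsurj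
  let q : P₁ →ₗ[A] P₁ := LinearMap.id - s ∘ₗ e₀
  have hqker : ∀ x, q x ∈ LinearMap.ker e₀ := by
    intro x
    rw [LinearMap.mem_ker]
    change e₀ (x - s (e₀ x)) = 0
    rw [map_sub, ← LinearMap.comp_apply e₀ s, hs, LinearMap.id_apply, sub_self]
  have hqid : ∀ x ∈ LinearMap.ker e₀, q x = x := by
    intro x hx
    change x - s (e₀ x) = x
    rw [LinearMap.mem_ker.mp hx, map_zero, sub_zero]
  have hkerfg : (LinearMap.ker e₀).FG := by
    have : LinearMap.ker e₀ = LinearMap.range q := by
      apply le_antisymm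
      · intro x hx
        exact ⟨x, hqid x hx⟩
      · rintro _ ⟨x, rfl⟩
        exact hqker x
    rw [this, LinearMap.range_eq_map]
    exact Module.Finite.fg_top.map q
  have hkerle : LinearMap.ker e₀ ≤ RingHom.ker φ • LinearMap.ker e₀ := by
    intro x hx
    have h1 : x ∈ LinearMap.ker π₁ := by
      rw [LinearMap.mem_ker, ← he₀', LinearMap.mem_ker.mp hx, map_zero]
    rw [h₁k] at h1
    have h2 : q x ∈ Submodule.map q (RingHom.ker φ • (⊤ : Submodule A P₁)) := ⟨x, h1, rfl⟩
    rw [Submodule.map_smul'', hqid x hx] at h2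
    have h3 : Submodule.map q (⊤ : Submodule A P₁) ≤ LinearMap.ker e₀ := by
      rintro _ ⟨y, _, rfl⟩
      exact hqker y
    have h4 : RingHom.ker φ • Submodule.map q (⊤ : Submodule A P₁) ≤
        RingHom.ker φ • LinearMap.ker e₀ := smul_mono_right (RingHom.ker φ) h3
    exact h4 h2
  have hkerbot : LinearMap.ker e₀ = ⊥ :=
    Submodule.eq_bot_of_le_smul_of_le_jacobson_bot _ _ hkerfg hkerle hJ
  exact ⟨LinearEquiv.ofBijective e₀ ⟨LinearMap.ker_eq_bot.mp hkerbot, hsurj⟩, he₀'⟩

end Lift

end Groth.Agent.Lib.Helper14.LiftProj
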