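import Groth.Agent.Lib.Helper14ProjLimFilt
import Groth.Agent.Lib.Helper14LiftProj

/-! Helper14: a module separated for a complete filtration of the ring whose truncations are
finite projective is finite projective, and conversely. -/

set_option autoImplicit false
universe u v w

namespace Groth.Agent.Lib.Helper14.ProjLimSep

open Groth.Agent.Lib.Helper14.ProjLim Groth.Agent.Lib.Helper14.ProjLimFilt
open Groth.Agent.Lib.Helper14.LiftProj TensorProduct

theorem truncation_finite_projective {A : Type u} [CommRing A] (I : Ideal A) (P : Type v)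
    [AddCommGroup P] [Module A P] [Module.Finite A P] [Module.Projective A P] :
    Module.Finite (A ⧸ I) (P ⧸ (I • ⊤ : Submodule A P)) ∧
      Module.Projective (A ⧸ I) (P ⧸ (I • ⊤ : Submodule A P)) := by
  let e : (A ⧸ I) ⊗[A] P ≃ₗ[A ⧸ I] P ⧸ (I • ⊤ : Submodule A P) :=
    (quotTensorEquivQuotSMul P I).extendScalarsOfSurjective Ideal.Quotient.mk_surjective
  exact ⟨Module.Finite.equiv e, Module.Projective.of_equiv e⟩

theorem separated_of_finite_projective {A : Type u} [CommRing A] (I : ℕ → Ideal A)
    (hsep : ∀ a : A, (∀ n, a ∈ I n) → a = 0) (P : Type v)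
    [AddCommGroup P] [Module A P] [Module.Finite A P] [Module.Projective A P]
    (x : P) (hx : ∀ n, x ∈ (I n • ⊤ : Submodule A P)) : x = 0 := by
  obtain ⟨m, f, g, -, hg, -⟩ := Module.Finite.exists_comp_eq_id_of_projective A P
  apply hg
  rw [map_zero]
  apply pi_sep I hsep m
  intro n
  exact map_mem_smul_top (I n) g (hx n)

theorem finite_projective_of_truncations {A : Type u} [CommRing A] (I : ℕ → Ideal A)
    (hI : ∀ n, I (n + 1) ≤ I n)
    (hsep : ∀ a : A, (∀ n, a ∈ I n) → a = 0)
    (hcomp : ∀ z : ℕ → A, (∀ n, z (n + 1) - z n ∈ I n) → ∃ x : A, ∀ n, x - z n ∈ I n)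
    (hrad : ∀ n, I n ≤ (I (n + 1)).radical)
    (P : Type v) [AddCommGroup P] [Module A P]
    (hPsep : ∀ x : P, (∀ n, x ∈ (I n • ⊤ : Submodule A P)) → x = 0)
    (hfin : ∀ n, Module.Finite (A ⧸ I n) (P ⧸ (I n • ⊤ : Submodule A P)))
    (hproj : ∀ n, Module.Projective (A ⧸ I n) (P ⧸ (I n • ⊤ : Submodule A P))) :
    Module.Finite A P ∧ Module.Projective A P := by
  classical
  have hk : ∀ n, I n • (⊤ : Submodule A (TruncF I P n)) = ⊥ := by
    intro n
    rw [eq_bot_iff, Submodule.smul_le]
    intro a ha x _
    rw [Submodule.mem_bot]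
    exact truncF_smul_eq_zero I P n a ha x
  have hker : ∀ n, LinearMap.ker (transF I P hI n) =
      I n • (⊤ : Submodule A (TruncF I P (n + 1))) := by
    intro n
    apply le_antisymm
    · intro y hy
      obtain ⟨x, rfl⟩ := Submodule.mkQ_surjective _ y
      rw [LinearMap.mem_ker] at hy
      have hx : x ∈ (I n • ⊤ : Submodule A P) := by
        rw [← Submodule.Quotient.mk_eq_zero]
        exact hy
      exact map_mem_smul_top (I n) _ hx
    · intro y hy
      rw [LinearMap.mem_ker]
      have := map_mem_smul_top (I n) (transF I P hI n) hy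
      rw [hk n] at this
      exact (Submodule.mem_bot A).mp this
  -- the limit
  let L : Submodule A (∀ n, TruncF I P n) :=
    { carrier := {x | ∀ n, transF I P hI n (x (n + 1)) = x n}
      add_mem' := fun {x y} hx hy n => by
        change transF I P hI n (x (n + 1) + y (n + 1)) = x n + y n
        rw [map_add, hx n, hy n]
      zero_mem' := fun n => by
        change transF I P hI n 0 = 0
        exact map_zero _
      smul_mem' := fun a x hx n => by
        change transF I P hI n (a • x (n + 1)) = a • x n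
        rw [map_smul, hx n] }
  let πL : ∀ n, L →ₗ[A] TruncF I P n := fun n => (LinearMap.proj n).comp L.subtype
  have hretr : ∀ n, ∃ (m : ℕ) (i : TruncF I P n →ₗ[A] (Fin m → A ⧸ I n))
      (r : (Fin m → A ⧸ I n) →ₗ[A] TruncF I P n), r ∘ₗ i = LinearMap.id := by
    intro n
    haveI := hfin n
    haveI := hproj n
    obtain ⟨m, f, g, -, -, hfg⟩ :=
      Module.Finite.exists_comp_eq_id_of_projective (A ⧸ I n) (P ⧸ (I n • ⊤ : Submodule A P))
    refine ⟨m, g.restrictScalars A, f.restrictScalars A, ?_⟩
    apply LinearMap.ext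
    intro x
    exact LinearMap.congr_fun hfg x
  obtain ⟨h1, h2, h3⟩ := main' I hI hsep hcomp
    (fun n => (hrad n).trans Ideal.radical_le_jacobson) (TruncF I P) (transF I P hI)
    (fun n => Submodule.factor_surjective _) hk hker L πL
    (fun n => by ext x; exact x.2 n)
    (fun x hx => Subtype.ext (funext hx))
    (fun y hy => ⟨⟨y, hy⟩, fun n => rfl⟩) hretr
  -- the comparison map
  let c : P →ₗ[A] L :=
    LinearMap.codRestrict L (LinearMap.pi fun n => (I n • ⊤ : Submodule A P).mkQ) (fun x n => rfl)
  have hc : ∀ x n, (c x).1 n = (I n • ⊤ : Submodule A P).mkQ x := fun x n => rfl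
  have hcinj : Function.Injective c := by
    rw [injective_iff_map_eq_zero]
    intro x hx
    apply hPsep
    intro n
    have h := congrFun (congrArg Subtype.val hx) n
    rw [hc] at h
    rw [← Submodule.Quotient.mk_eq_zero]
    exact h
  have hJ : I 0 ≤ Ideal.jacobson ⊥ := Filt.le_jacobson_bot I hI hsep hcomp hrad
  haveI := h1
  have hcsurj : Function.Surjective c := by
    rw [← LinearMap.range_eq_top, eq_top_iff]
    apply Submodule.le_of_le_smul_of_le_jacobson_bot (I := I 0) Module.Finite.fg_top hJ
    intro y _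
    obtain ⟨x, hx⟩ := Submodule.mkQ_surjective _ (πL 0 y)
    have h4 : y - c x ∈ LinearMap.ker (πL 0) := by
      rw [LinearMap.mem_ker, map_sub, sub_eq_zero, ← hx]
      rfl
    rw [(h3 0).2] at h4
    have : y = c x + (y - c x) := by abel
    rw [this]
    exact Submodule.add_mem_sup ⟨x, rfl⟩ h4
  let ce : P ≃ₗ[A] L := LinearEquiv.ofBijective c ⟨hcinj, hcsurj⟩
  haveI := h2
  exact ⟨Module.Finite.equiv ce.symm, Module.Projective.of_equiv ce.symm⟩

end Groth.Agent.Lib.Helper14.ProjLimSep
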