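import Groth.Agent.Lib.Helper14LiftProj
import Groth.Agent.Lib.Helper14ProjLimSep

/-! Helper14: lifting a direct sum decomposition of `P / I P` to `P` (normal decompositions). -/

set_option autoImplicit false
universe u v w

namespace Groth.Agent.Lib.Helper14.Decomp

open Groth.Agent.Lib.Helper14.LiftProj Groth.Agent.Lib.Helper14.ProjLim

theorem exists_decomposition {A : Type u} [CommRing A] (I : Ideal A)
    (hJ : I ≤ Ideal.jacobson ⊥)
    (hlift : ∀ (r : ℕ) (E : Matrix (Fin r) (Fin r) (A ⧸ I)), IsIdempotentElem E →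
      ∃ E' : Matrix (Fin r) (Fin r) A, IsIdempotentElem E' ∧ E'.map (Ideal.Quotient.mk I) = E)
    (P : Type v) [AddCommGroup P] [Module A P] [Module.Finite A P] [Module.Projective A P]
    (Q C : Submodule A P) (hQC : Q ⊔ C = ⊤)
    (hQC' : Q ⊓ C = I • (⊤ : Submodule A P)) :
    ∃ L T : Submodule A P, IsCompl L T ∧ Q = L ⊔ I • T := by
  classical
  have hφ : Function.Surjective (Ideal.Quotient.mk I) := Ideal.Quotient.mk_surjective
  have hkerφ : RingHom.ker (Ideal.Quotient.mk I) = I := Ideal.mk_ker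
  obtain ⟨hPfin, hPproj⟩ := ProjLimSep.truncation_finite_projective I P
  have hsm : ∀ (a : A) (x : P ⧸ (I • ⊤ : Submodule A P)),
      Ideal.Quotient.mk I a • x = a • x := fun a x => algebraMap_smul (A ⧸ I) a x
  have hIQ : (I • ⊤ : Submodule A P) ≤ Q := by rw [← hQC']; exact inf_le_left
  have hIC : (I • ⊤ : Submodule A P) ≤ C := by rw [← hQC']; exact inf_le_right
  -- images of submodules containing `I P`
  have himg : ∀ S : Submodule A P, (I • ⊤ : Submodule A P) ≤ S →
      ∃ SB : Submodule (A ⧸ I) (P ⧸ (I • ⊤ : Submodule A P)),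
        ∀ x : P, (I • ⊤ : Submodule A P).mkQ x ∈ SB ↔ x ∈ S := by
    intro S hS
    refine ⟨{ carrier := {y | ∃ q ∈ S, (I • ⊤ : Submodule A P).mkQ q = y}
              add_mem' := ?_
              zero_mem' := ⟨0, S.zero_mem, map_zero _⟩
              smul_mem' := ?_ }, ?_⟩
    · rintro _ _ ⟨q, hq, rfl⟩ ⟨q', hq', rfl⟩
      exact ⟨q + q', S.add_mem hq hq', map_add _ _ _⟩
    · rintro b _ ⟨q, hq, rfl⟩
      obtain ⟨a, rfl⟩ := hφ b
      exact ⟨a • q, S.smul_mem a hq, by rw [map_smul, hsm]⟩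
    · intro x
      constructor
      · rintro ⟨q, hq, hqx⟩
        have h1 : q - x ∈ (I • ⊤ : Submodule A P) := by
          rw [← Submodule.Quotient.mk_eq_zero, Submodule.Quotient.mk_sub, sub_eq_zero]
          exact hqx
        have h2 : x = q - (q - x) := by abel
        rw [h2]
        exact S.sub_mem hq (hS h1)
      · intro hx
        exact ⟨x, hx, rfl⟩
  obtain ⟨QB, hmemQ⟩ := himg Q hIQ
  obtain ⟨CB, hmemC⟩ := himg C hIC
  have hdisj : ∀ y, y ∈ QB → y ∈ CB → y = 0 := by
    intro y hyQ hyC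
    obtain ⟨x, rfl⟩ := (I • ⊤ : Submodule A P).mkQ_surjective y
    rw [hmemQ] at hyQ
    rw [hmemC] at hyC
    have : x ∈ (I • ⊤ : Submodule A P) := by
      rw [← hQC']
      exact ⟨hyQ, hyC⟩
    rw [Submodule.mkQ_apply, Submodule.Quotient.mk_eq_zero]
    exact this
  have hcompl : IsCompl QB CB := by
    constructor
    · rw [Submodule.disjoint_def]
      exact hdisj
    · rw [codisjoint_iff, eq_top_iff]
      intro y _
      obtain ⟨x, rfl⟩ := (I • ⊤ : Submodule A P).mkQ_surjective y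
      have hx : x ∈ Q ⊔ C := by rw [hQC]; exact Submodule.mem_top
      obtain ⟨q, hq, c, hc, rfl⟩ := Submodule.mem_sup.mp hx
      rw [map_add]
      exact Submodule.add_mem_sup ((hmemQ q).mpr hq) ((hmemC c).mpr hc)
  -- the summands are finite projective
  have hfp : ∀ (S S' : Submodule (A ⧸ I) (P ⧸ (I • ⊤ : Submodule A P))), IsCompl S S' →
      Module.Finite (A ⧸ I) S ∧ Module.Projective (A ⧸ I) S := by
    intro S S' h
    exact ⟨Module.Finite.of_surjective _ (Submodule.projectionOnto_surjective h),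
      Module.Projective.of_split S.subtype _ (Submodule.projectionOnto_comp_subtype h)⟩
  obtain ⟨hQfin, hQproj⟩ := hfp QB CB hcompl
  obtain ⟨hCfin, hCproj⟩ := hfp CB QB hcompl.symm
  obtain ⟨r₁, L', lam, hL'fin, hL'proj, hlams, hlamk⟩ :=
    exists_lift_of_idempotent_lift (Ideal.Quotient.mk I) hφ QB hlift
  obtain ⟨r₂, T', tau, hT'fin, hT'proj, htaus, htauk⟩ :=
    exists_lift_of_idempotent_lift (Ideal.Quotient.mk I) hφ CB hlift
  -- the two lifts of `P / I P`
  let π₁ : (L' × T') →ₛₗ[Ideal.Quotient.mk I] (P ⧸ (I • ⊤ : Submodule A P)) :=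
    { toFun := fun x => (lam x.1 : P ⧸ (I • ⊤ : Submodule A P)) + (tau x.2 : P ⧸ (I • ⊤ : Submodule A P))
      map_add' := fun x y => by
        simp only [Prod.fst_add, Prod.snd_add, map_add, Submodule.coe_add]
        abel
      map_smul' := fun a x => by
        simp only [Prod.smul_fst, Prod.smul_snd, map_smulₛₗ, Submodule.coe_smul, smul_add] }
  have hπ₁ : ∀ l t, π₁ (l, t) = (lam l : P ⧸ (I • ⊤ : Submodule A P)) +
      (tau t : P ⧸ (I • ⊤ : Submodule A P)) := fun l t => rfl
  let π₂ : P →ₛₗ[Ideal.Quotient.mk I] (P ⧸ (I • ⊤ : Submodule A P)) :=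
    { toFun := (I • ⊤ : Submodule A P).mkQ
      map_add' := map_add _
      map_smul' := fun a x => by rw [map_smul, hsm] }
  have hπ₂ : ∀ x, π₂ x = (I • ⊤ : Submodule A P).mkQ x := fun x => rfl
  have h₁s : Function.Surjective π₁ := by
    intro y
    have hy : y ∈ QB ⊔ CB := by rw [hcompl.sup_eq_top]; exact Submodule.mem_top
    obtain ⟨q, hq, c, hc, rfl⟩ := Submodule.mem_sup.mp hy
    obtain ⟨l, hl⟩ := hlams ⟨q, hq⟩
    obtain ⟨t, ht⟩ := htaus ⟨c, hc⟩
    exact ⟨(l, t), by rw [hπ₁, hl, ht]⟩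
  have h₁k : LinearMap.ker π₁ =
      RingHom.ker (Ideal.Quotient.mk I) • (⊤ : Submodule A (L' × T')) := by
    apply le_antisymm
    · rintro ⟨l, t⟩ hx
      rw [LinearMap.mem_ker, hπ₁] at hx
      have h1 : (lam l : P ⧸ (I • ⊤ : Submodule A P)) = -(tau t : P ⧸ (I • ⊤ : Submodule A P)) :=
        eq_neg_of_add_eq_zero_left hx
      have h2 : (lam l : P ⧸ (I • ⊤ : Submodule A P)) = 0 :=
        hdisj _ (lam l).2 (by rw [h1]; exact CB.neg_mem (tau t).2)
      have h3 : (tau t : P ⧸ (I • ⊤ : Submodule A P)) = 0 := by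
        rw [h2, zero_add] at hx
        exact hx
      have hl : l ∈ LinearMap.ker lam := by
        rw [LinearMap.mem_ker]
        exact Subtype.ext h2
      have ht : t ∈ LinearMap.ker tau := by
        rw [LinearMap.mem_ker]
        exact Subtype.ext h3
      rw [hlamk] at hl
      rw [htauk] at ht
      have h4 : ((l, t) : L' × T') = LinearMap.inl A L' T' l + LinearMap.inr A L' T' t := by
        simp
      rw [h4]
      exact Submodule.add_mem _ (map_mem_smul_top _ (LinearMap.inl A L' T') hl)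
        (map_mem_smul_top _ (LinearMap.inr A L' T') ht)
    · rw [Submodule.smul_le]
      intro a ha x _
      rw [LinearMap.mem_ker, map_smulₛₗ, RingHom.mem_ker.mp ha, zero_smul]
  have h₂s : Function.Surjective π₂ := (I • ⊤ : Submodule A P).mkQ_surjective
  have h₂k : LinearMap.ker π₂ = RingHom.ker (Ideal.Quotient.mk I) • (⊤ : Submodule A P) := by
    rw [hkerφ]
    ext x
    rw [LinearMap.mem_ker, hπ₂, Submodule.mkQ_apply, Submodule.Quotient.mk_eq_zero]
  obtain ⟨e, he⟩ := exists_equiv_of_lifts (Ideal.Quotient.mk I) (by rw [hkerφ]; exact hJ)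
    π₁ π₂ h₁s h₁k h₂s h₂k
  have hesplit : ∀ l t, e (l, t) = e (l, 0) + e (0, t) := by
    intro l t
    rw [← map_add]
    congr 1
    simp
  refine ⟨Submodule.map (e.toLinearMap ∘ₗ LinearMap.inl A L' T') ⊤,
    Submodule.map (e.toLinearMap ∘ₗ LinearMap.inr A L' T') ⊤, ?_, ?_⟩
  · constructor
    · rw [Submodule.disjoint_def]
      rintro x ⟨l, -, rfl⟩ ⟨t, -, h⟩
      have h1 : ((0 : L'), t) = (l, (0 : T')) := e.injective h
      have h2 : l = 0 := (congrArg Prod.fst h1).symm
      rw [h2]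
      change e ((0 : L'), (0 : T')) = 0
      exact map_zero e
    · rw [codisjoint_iff, eq_top_iff]
      intro x _
      obtain ⟨⟨l, t⟩, rfl⟩ := e.surjective x
      rw [hesplit]
      exact Submodule.add_mem_sup ⟨l, Submodule.mem_top, rfl⟩ ⟨t, Submodule.mem_top, rfl⟩
  · apply le_antisymm
    · intro x hx
      obtain ⟨⟨l, t⟩, rfl⟩ := e.surjective x
      have h1 : (I • ⊤ : Submodule A P).mkQ (e (l, t)) ∈ QB := (hmemQ _).mpr hx
      rw [← hπ₂, he, hπ₁] at h1
      have h2 : (tau t : P ⧸ (I • ⊤ : Submodule A P)) ∈ QB := by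
        have := QB.sub_mem h1 (lam l).2
        rwa [add_sub_cancel_left] at this
      have h3 : (tau t : P ⧸ (I • ⊤ : Submodule A P)) = 0 := hdisj _ h2 (tau t).2
      have ht : t ∈ LinearMap.ker tau := by
        rw [LinearMap.mem_ker]
        exact Subtype.ext h3
      rw [htauk, hkerφ] at ht
      rw [hesplit]
      refine Submodule.add_mem_sup ⟨l, Submodule.mem_top, rfl⟩ ?_
      have h4 := map_mem_smul_top I (e.toLinearMap ∘ₗ LinearMap.inr A L' T') ht
      have h5 : (e.toLinearMap ∘ₗ LinearMap.inr A L' T') t ∈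
          Submodule.map (e.toLinearMap ∘ₗ LinearMap.inr A L' T')
            (I • (⊤ : Submodule A T')) := ⟨t, ht, rfl⟩
      rw [Submodule.map_smul''] at h5
      exact h5
    · apply sup_le
      · rintro _ ⟨l, -, rfl⟩
        rw [← hmemQ, ← hπ₂]
        change π₂ (e (l, 0)) ∈ QB
        rw [he, hπ₁, map_zero, Submodule.coe_zero, add_zero]
        exact (lam l).2
      · refine le_trans ?_ hIQ
        exact smul_mono_right I le_top

end Groth.Agent.Lib.Helper14.Decomp
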