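import Mathlib

set_option autoImplicit false
set_option linter.style.haveILetI false
set_option linter.unusedSectionVars false
set_option linter.overlappingInstances false
universe u v w

/-! Helper14: quotients by finite groups are etale exactly where the stabilizer is trivial (S19402).
Lagrange interpolation shows that `R[1/δ]` is standard etale over the invariants `B`, where
`δ = ∏_{g ≠ h} (gθ - hθ)`. -/

namespace Groth.Agent.Lib.Helper14GalEtale


open Polynomial

section Split

theorem prod_split {G M : Type*} [Fintype G] [DecidableEq G] [CommMonoid M] (f : G → M) (g : G) :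
    ∏ h : G, f h = f g * ∏ h : G, if h = g then 1 else f h := by
  rw [← Finset.mul_prod_erase Finset.univ f (Finset.mem_univ g)]
  congr 1
  rw [← Finset.prod_erase (a := g) Finset.univ (by simp)]
  refine Finset.prod_congr rfl fun h hh => ?_
  rw [if_neg (Finset.ne_of_mem_erase hh)]

end Split

section Lagrange

variable {R G : Type*} [CommRing R] [Group G] [Fintype G] [DecidableEq G]
  [MulSemiringAction G R] (θ : R)

/-- `F'(gθ)` -/
def dfac (g : G) : R := ∏ h : G, if h = g then 1 else (g • θ - h • θ)

variable (G) in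
/-- the discriminant-like product -/
def delta : R := ∏ g : G, dfac θ g

/-- `δ / F'(gθ)` -/
def cofac (g : G) : R := ∏ g' : G, if g' = g then 1 else dfac θ g'

variable (G) in
/-- the polynomial `∏ (X - gθ)` -/
noncomputable def fpoly : R[X] := ∏ g : G, (X - C (g • θ))

variable (G) in
/-- the Lagrange interpolation polynomial of the conjugates of `z`, multiplied by `δ` -/
noncomputable def lagr (z : R) : R[X] :=
  ∑ g : G, C (g • z * cofac θ g) * ∏ h : G, if h = g then 1 else (X - C (h • θ))

theorem delta_eq (g : G) : delta G θ = dfac θ g * cofac θ g := prod_split _ g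

theorem smul_dfac (τ g : G) : τ • dfac θ g = dfac θ (τ * g) := by
  unfold dfac
  rw [Finset.smul_prod']
  refine Fintype.prod_equiv (Equiv.mulLeft τ) _ _ fun h => ?_
  simp only [Equiv.coe_mulLeft, mul_right_inj]
  split_ifs
  · rw [smul_one]
  · rw [smul_sub, mul_smul, mul_smul]

theorem smul_cofac (τ g : G) : τ • cofac θ g = cofac θ (τ * g) := by
  unfold cofac
  rw [Finset.smul_prod']
  refine Fintype.prod_equiv (Equiv.mulLeft τ) _ _ fun h => ?_
  simp only [Equiv.coe_mulLeft, mul_right_inj]
  split_ifs
  · rw [smul_one]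
  · rw [smul_dfac]

theorem smul_delta (τ : G) : τ • delta G θ = delta G θ := by
  unfold delta
  rw [Finset.smul_prod']
  refine Fintype.prod_equiv (Equiv.mulLeft τ) _ _ fun h => ?_
  rw [smul_dfac]; rfl

theorem smul_fpoly (τ : G) : τ • fpoly G θ = fpoly G θ := by
  unfold fpoly
  rw [Finset.smul_prod']
  refine Fintype.prod_equiv (Equiv.mulLeft τ) _ _ fun h => ?_
  rw [smul_sub, smul_X, smul_C, Equiv.coe_mulLeft, mul_smul]

theorem smul_lagr (τ : G) (z : R) : τ • lagr G θ z = lagr G θ z := by
  unfold lagr
  rw [Finset.smul_sum]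
  refine Fintype.sum_equiv (Equiv.mulLeft τ) _ _ fun g => ?_
  rw [smul_mul', smul_C, smul_mul', smul_cofac, ← mul_smul, Finset.smul_prod']
  simp only [Equiv.coe_mulLeft]
  congr 1
  refine Fintype.prod_equiv (Equiv.mulLeft τ) _ _ fun h => ?_
  simp only [Equiv.coe_mulLeft, mul_right_inj]
  split_ifs
  · rw [smul_one]
  · rw [smul_sub, smul_X, smul_C, mul_smul]

theorem eval_lagr (z : R) : (lagr G θ z).eval θ = z * delta G θ := by
  unfold lagr
  rw [eval_finsetSum, Finset.sum_eq_single (1 : G)]
  · rw [eval_mul, eval_C, one_smul, eval_prod, delta_eq θ 1, mul_assoc, mul_comm (cofac θ 1)]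
    congr 2
    unfold dfac
    refine Finset.prod_congr rfl fun h _ => ?_
    split_ifs
    · rw [eval_one]
    · rw [eval_sub, eval_X, eval_C, one_smul]
  · intro g _ hg
    rw [eval_mul, eval_prod, Finset.prod_eq_zero (Finset.mem_univ (1 : G)), mul_zero]
    rw [if_neg (Ne.symm hg), eval_sub, eval_X, eval_C, one_smul, sub_self]
  · intro h; exact absurd (Finset.mem_univ _) h

theorem fpoly_monic : (fpoly G θ : R[X]).Monic :=
  monic_prod_of_monic _ _ fun g _ => monic_X_sub_C _

theorem natDegree_fpoly [Nontrivial R] : (fpoly G θ : R[X]).natDegree = Fintype.card G := by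
  unfold fpoly
  rw [natDegree_prod_of_monic _ _ fun g _ => monic_X_sub_C _]
  simp

theorem eval_fpoly_smul (g : G) : (fpoly G θ).eval (g • θ) = 0 := by
  unfold fpoly
  rw [eval_prod, Finset.prod_eq_zero (Finset.mem_univ g)]
  simp

theorem eval_derivative_fpoly : (derivative (fpoly G θ)).eval θ = dfac θ (1 : G) := by
  have h1 : fpoly G θ = (X - C ((1 : G) • θ)) * ∏ h : G, if h = 1 then 1 else (X - C (h • θ)) :=
    prod_split _ (1 : G)
  rw [h1, derivative_mul, eval_add, eval_mul, eval_mul, derivative_sub, derivative_X, derivative_C,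
    sub_zero, eval_one, one_mul, eval_sub, eval_X, eval_C, one_smul, sub_self, zero_mul, add_zero,
    eval_prod]
  unfold dfac
  refine Finset.prod_congr rfl fun h _ => ?_
  split_ifs
  · rw [eval_one]
  · rw [eval_sub, eval_X, eval_C, one_smul]

theorem smul_sub_smul_ne_zero [IsDomain R] (hδ : delta G θ ≠ 0) {g h : G} (hgh : g ≠ h) :
    g • θ - h • θ ≠ 0 := by
  intro h0
  apply hδ
  unfold delta
  apply Finset.prod_eq_zero (Finset.mem_univ g)
  unfold dfac
  apply Finset.prod_eq_zero (Finset.mem_univ h)
  rw [if_neg (Ne.symm hgh), h0]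

theorem smul_injective_of_delta [IsDomain R] (hδ : delta G θ ≠ 0) :
    Function.Injective (fun g : G => g • θ) := by
  intro g h hgh
  by_contra hne
  exact smul_sub_smul_ne_zero θ hδ hne (sub_eq_zero.mpr hgh)

end Lagrange




open Polynomial

section Descent

variable {B R G : Type*} [CommRing B] [CommRing R] [Algebra B R]
  [Group G] [Fintype G] [DecidableEq G] [MulSemiringAction G R] [SMulCommClass G B R]
  [Algebra.IsInvariant B R G] (θ : R)

theorem exists_poly_of_invariant (p : R[X]) (h : ∀ g : G, g • p = p) :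
    ∃ q : B[X], q.map (algebraMap B R) = p := by
  rw [← Polynomial.mem_lifts, Polynomial.lifts_iff_coeff_lifts]
  intro n
  obtain ⟨b, hb⟩ := Algebra.IsInvariant.isInvariant (A := B) (G := G) (p.coeff n) (fun g => by
    rw [← Polynomial.coeff_smul, h g])
  exact ⟨b, hb⟩

variable (G) in
theorem exists_monic_map_eq_fpoly [Nontrivial R] :
    ∃ F : B[X], F.Monic ∧ F.map (algebraMap B R) = fpoly G θ := by
  have h1 : fpoly G θ ∈ Polynomial.lifts (algebraMap B R) := by
    rw [Polynomial.mem_lifts]
    exact exists_poly_of_invariant (fpoly G θ) (fun g => smul_fpoly θ g)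
  obtain ⟨F, hF, -, hmonic⟩ := Polynomial.lifts_and_degree_eq_and_monic h1 (fpoly_monic θ)
  exact ⟨F, hmonic, hF⟩

omit [Fintype G] [DecidableEq G] [Algebra.IsInvariant B R G] in
theorem smul_map (q : B[X]) (g : G) :
    g • (q.map (algebraMap B R)) = q.map (algebraMap B R) := by
  rw [Polynomial.smul_eq_map, Polynomial.map_map]
  congr 1
  ext b
  simp [smul_algebraMap]

omit [Fintype G] [DecidableEq G] [Algebra.IsInvariant B R G] in
theorem aeval_smul (q : B[X]) (g : G) : aeval (g • θ) q = g • aeval θ q := by
  rw [aeval_def, aeval_def, ← eval_map, ← eval_map, ← Polynomial.smul_eval_smul, smul_map]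

theorem dvd_of_aeval_eq_zero [IsDomain R] [FaithfulSMul B R] (hδ : delta G θ ≠ 0) (F : B[X])
    (hF : F.Monic) (hFmap : F.map (algebraMap B R) = fpoly G θ) (q : B[X])
    (hq : aeval θ q = 0) : F ∣ q := by
  have hinj : Function.Injective (algebraMap B R) := FaithfulSMul.algebraMap_injective B R
  haveI : Nontrivial B := RingHom.domain_nontrivial (algebraMap B R)
  rw [← Polynomial.modByMonic_eq_zero_iff_dvd hF]
  have hFθ : aeval θ F = 0 := by
    rw [aeval_def, ← eval_map, hFmap]
    have := eval_fpoly_smul θ (1 : G)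
    rwa [one_smul] at this
  have hr : aeval θ (q %ₘ F) = 0 := by
    rw [Polynomial.aeval_modByMonic_eq_self_of_root hFθ, hq]
  have hdeg : ((q %ₘ F).map (algebraMap B R)).natDegree < Fintype.card G := by
    have h1 : (q %ₘ F).natDegree < F.natDegree := by
      rcases eq_or_ne F 1 with h1 | h1
      · exfalso
        have h2 : (fpoly G θ).natDegree = 0 := by rw [← hFmap, h1]; simp
        rw [natDegree_fpoly] at h2
        exact Fintype.card_ne_zero h2
      · exact Polynomial.natDegree_modByMonic_lt q hF h1
    have h2 : F.natDegree = Fintype.card G := by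
      rw [← natDegree_fpoly (G := G) θ, ← hFmap, hF.natDegree_map]
    exact lt_of_le_of_lt (Polynomial.natDegree_map_le) (h2 ▸ h1)
  have hzero : (q %ₘ F).map (algebraMap B R) = 0 := by
    apply Polynomial.eq_zero_of_natDegree_lt_card_of_eval_eq_zero _
      (smul_injective_of_delta θ hδ) _ hdeg
    intro g
    have := aeval_smul θ (q %ₘ F) g
    rw [hr, smul_zero, aeval_def, ← eval_map] at this
    exact this
  exact Polynomial.map_injective _ hinj (by rw [hzero, Polynomial.map_zero])

end Descent




open Polynomial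

section Etale

variable {B R G : Type*} [CommRing B] [CommRing R] [IsDomain R] [Algebra B R] [FaithfulSMul B R]
  [Group G] [Fintype G] [DecidableEq G] [MulSemiringAction G R] [SMulCommClass G B R]
  [Algebra.IsInvariant B R G] (θ : R)

variable (G) in
theorem exists_lagr_poly (z : R) : ∃ c : B[X], aeval θ c = z * delta G θ := by
  obtain ⟨c, hc⟩ := exists_poly_of_invariant (B := B) (lagr G θ z) (fun g => smul_lagr θ g z)
  exact ⟨c, by rw [aeval_def, ← eval_map, hc, eval_lagr]⟩

variable (G) in
theorem exists_pair (hδ : delta G θ ≠ 0) :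
    ∃ (F : B[X]) (b : B) (p₁ p₂ : B[X]), F.Monic ∧ F.map (algebraMap B R) = fpoly G θ ∧
      algebraMap B R b = delta G θ ∧ derivative F * p₁ + F * p₂ = C b ^ 2 := by
  obtain ⟨F, hF, hFmap⟩ := exists_monic_map_eq_fpoly (B := B) G θ
  obtain ⟨b, hb⟩ := Algebra.IsInvariant.isInvariant (A := B) (G := G) (delta G θ)
    (fun g => smul_delta θ g)
  obtain ⟨p₁, hp₁⟩ := exists_lagr_poly (B := B) G θ (cofac θ (1 : G))
  have hq : aeval θ (derivative F * p₁ - C (b ^ 2)) = 0 := by
    rw [map_sub, map_mul, hp₁, aeval_C, map_pow, hb]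
    have h1 : aeval θ (derivative F) = dfac θ (1 : G) := by
      rw [aeval_def, ← eval_map, ← Polynomial.derivative_map, hFmap, eval_derivative_fpoly]
    rw [h1, ← mul_assoc, ← delta_eq]
    ring
  obtain ⟨d, hd⟩ := dvd_of_aeval_eq_zero θ hδ F hF hFmap _ hq
  refine ⟨F, b, p₁, -d, hF, hFmap, hb, ?_⟩
  rw [mul_neg, ← hd, C_pow]
  ring

theorem isStandardEtale_away (hδ : delta G θ ≠ 0) :
    Algebra.IsStandardEtale B (Localization.Away (delta G θ)) := by
  obtain ⟨F, b, p₁, p₂, hF, hFmap, hb, hcond⟩ := exists_pair (B := B) G θ hδ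
  let P : StandardEtalePair B := ⟨F, hF, C b, p₁, p₂, 2, hcond⟩
  let Rδ := Localization.Away (delta G θ)
  let x : Rδ := algebraMap R Rδ θ
  have hFθ : aeval θ F = 0 := by
    rw [aeval_def, ← eval_map, hFmap]
    have := eval_fpoly_smul θ (1 : G)
    rwa [one_smul] at this
  have hbδ : algebraMap B Rδ b = algebraMap R Rδ (delta G θ) := by
    rw [IsScalarTower.algebraMap_apply B R Rδ, hb]
  have hmap : P.HasMap x := by
    refine ⟨?_, ?_⟩
    · change aeval (algebraMap R Rδ θ) F = 0
      rw [Polynomial.aeval_algebraMap_apply, hFθ, map_zero]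
    · change IsUnit (aeval x (C b))
      rw [aeval_C, hbδ]
      exact IsLocalization.Away.algebraMap_isUnit (delta G θ)
  have hinjR : Function.Injective (algebraMap R Rδ) :=
    IsLocalization.injective _ (powers_le_nonZeroDivisors_of_noZeroDivisors hδ)
  let φ := P.lift x hmap
  have hφX : φ P.X = x := P.lift_X x hmap
  have hφaeval : ∀ c : B[X], φ (aeval P.X c) = algebraMap R Rδ (aeval θ c) := by
    intro c
    rw [← Polynomial.aeval_algHom_apply, hφX, Polynomial.aeval_algebraMap_apply]
  -- the inverse of delta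
  let u : P.Ringˣ := P.hasMap_X.2.unit
  have hu : (u : P.Ring) = aeval P.X (C b) := rfl
  have hφu : φ (u : P.Ring) = algebraMap R Rδ (delta G θ) := by
    rw [hu, hφaeval, aeval_C, hb]
  have hinv : φ ((u⁻¹ : P.Ringˣ) : P.Ring) * algebraMap R Rδ (delta G θ) = 1 := by
    rw [← hφu, ← map_mul, Units.inv_mul, map_one]
  refine ⟨⟨⟨P, x, hmap, ⟨?_, ?_⟩⟩⟩⟩
  · -- injective
    rw [injective_iff_map_eq_zero]
    intro y hy
    let P' : StandardEtalePresentation B P.Ring :=
      ⟨P, P.X, P.hasMap_X, by simpa [StandardEtalePair.lift_X_left] using Function.bijective_id⟩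
    obtain ⟨p, n, hp⟩ := P'.exists_mul_aeval_x_g_pow_eq_aeval_x y
    change y * aeval P.X (C b) ^ n = aeval P.X p at hp
    have h1 : φ (aeval P.X p) = 0 := by
      rw [← hp, map_mul]
      change φ y * _ = 0
      rw [hy, zero_mul]
    rw [hφaeval] at h1
    have h2 : aeval θ p = 0 := hinjR (by rw [h1, map_zero])
    obtain ⟨d, hd⟩ := dvd_of_aeval_eq_zero θ hδ F hF hFmap p h2
    have h3 : aeval P.X p = 0 := by
      rw [hd, map_mul]
      have : aeval P.X F = 0 := P.hasMap_X.1
      rw [this, zero_mul]
    rw [h3, ← hu] at hp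
    exact (Units.mul_left_eq_zero (u ^ n)).mp (by simpa using hp)
  · -- surjective
    intro y
    obtain ⟨n, a, ha⟩ := IsLocalization.Away.surj (delta G θ) y
    obtain ⟨c, hc⟩ := exists_lagr_poly (B := B) G θ a
    refine ⟨aeval P.X c * ((u⁻¹ : P.Ringˣ) : P.Ring) * ((u⁻¹ : P.Ringˣ) : P.Ring) ^ n, ?_⟩
    change φ _ = y
    rw [map_mul, map_mul, map_pow, hφaeval, hc, map_mul]
    set d := algebraMap R Rδ (delta G θ)
    set di := φ ((u⁻¹ : P.Ringˣ) : P.Ring)
    have h1 : algebraMap R Rδ a * d * di = algebraMap R Rδ a := by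
      rw [mul_assoc, mul_comm d di, hinv, mul_one]
    rw [h1, ← ha, mul_assoc, ← mul_pow, mul_comm d di, hinv, one_pow, mul_one]

theorem isEtaleAt_of_delta_notMem (m : Ideal R) [m.IsPrime] (hδm : delta G θ ∉ m) :
    Algebra.IsEtaleAt B m := by
  have hδ : delta G θ ≠ 0 := fun h => hδm (h ▸ m.zero_mem)
  haveI := isStandardEtale_away (B := B) θ hδ
  have h1 : Algebra.FormallyEtale B (Localization.Away (delta G θ)) := inferInstance
  have h2 := (Algebra.basicOpen_subset_etaleLocus_iff (R := B) (f := delta G θ)).mpr h1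
  exact h2 (show (⟨m, inferInstance⟩ : PrimeSpectrum R) ∈ PrimeSpectrum.basicOpen (delta G θ)
    from hδm)

end Etale




open Polynomial
open scoped Pointwise

section Unram

variable {B R G : Type*} [CommRing B] [CommRing R] [IsDomain R] [IsNoetherianRing R] [Algebra B R]
  [Group G] [MulSemiringAction G R] [SMulCommClass G B R] [FaithfulSMul G R]
  (m : Ideal R) [m.IsPrime]

set_option maxHeartbeats 800000 in
theorem eq_one_of_unramified
    (hres : ∀ x : R, ∃ b : B, x - algebraMap B R b ∈ m)
    (hunr : (m.comap (algebraMap B R)).map (algebraMap B (Localization.AtPrime m)) =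
      IsLocalRing.maximalIdeal (Localization.AtPrime m))
    (σ : G) (hσ : σ • m = m) : σ = 1 := by
  set S := Localization.AtPrime m
  set M := IsLocalRing.maximalIdeal S
  have hinj : Function.Injective (algebraMap R S) :=
    IsLocalization.injective _ m.primeCompl_le_nonZeroDivisors
  have hmemM : ∀ y : R, y ∈ m → algebraMap R S y ∈ M := fun y hy =>
    (IsLocalization.AtPrime.to_map_mem_maximal_iff S m y).mpr hy
  have hmap : (m.comap (algebraMap B R)).map (algebraMap B R) ≤ m := Ideal.map_comap_le
  have key : ∀ n : ℕ, ∀ x : R, algebraMap R S (σ • x - x) ∈ M ^ n := by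
    intro n
    induction n with
    | zero => intro x; rw [pow_zero, Ideal.one_eq_top]; trivial
    | succ n ih =>
      -- elements of the extended ideal
      have hspan : ∀ a ∈ (m.comap (algebraMap B R)).map (algebraMap B R),
          algebraMap R S (σ • a - a) ∈ M ^ (n + 1) := by
        intro a ha
        refine Submodule.span_induction (p := fun a _ => algebraMap R S (σ • a - a) ∈ M ^ (n + 1))
          ?_ ?_ ?_ ?_ ha
        · rintro _ ⟨q, _, rfl⟩
          rw [smul_algebraMap, sub_self, map_zero]
          exact Ideal.zero_mem _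
        · rw [smul_zero, sub_self, map_zero]; exact Ideal.zero_mem _
        · intro a₁ a₂ _ _ h1 h2
          have : σ • (a₁ + a₂) - (a₁ + a₂) = (σ • a₁ - a₁) + (σ • a₂ - a₂) := by
            rw [smul_add]; ring
          rw [this, map_add]
          exact Ideal.add_mem _ h1 h2
        · intro r a' ha' h1
          have e : σ • (r • a') - r • a' = σ • r * (σ • a' - a') + (σ • r - r) * a' := by
            rw [smul_eq_mul, smul_mul']; ring
          rw [e, map_add, map_mul, map_mul]
          refine Ideal.add_mem _ (Ideal.mul_mem_left _ _ h1) ?_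
          rw [pow_succ]
          exact Ideal.mul_mem_mul (ih r) (hmemM a' (hmap ha'))
      intro x
      obtain ⟨b, hb⟩ := hres x
      set y := x - algebraMap B R b with hy
      have hxy : σ • x - x = σ • y - y := by
        rw [hy, smul_sub, smul_algebraMap]; ring
      rw [hxy]
      have hyM : algebraMap R S y ∈ (m.comap (algebraMap B R)).map (algebraMap B S) := by
        rw [hunr]; exact hmemM y hb
      rw [IsScalarTower.algebraMap_eq B R S, ← Ideal.map_map,
        IsLocalization.mem_map_algebraMap_iff m.primeCompl] at hyM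
      obtain ⟨⟨⟨a, ha⟩, ⟨s, hs⟩⟩, has⟩ := hyM
      simp only at has
      rw [← map_mul] at has
      have has' : y * s = a := hinj has
      have h1 := hspan a ha
      rw [← has'] at h1
      have e : σ • (y * s) - y * s = σ • s * (σ • y - y) + (σ • s - s) * y := by
        rw [smul_mul']; ring
      rw [e, map_add] at h1
      have h2 : algebraMap R S ((σ • s - s) * y) ∈ M ^ (n + 1) := by
        rw [map_mul, pow_succ]
        exact Ideal.mul_mem_mul (ih s) (hmemM y hb)
      have h3 : algebraMap R S (σ • s * (σ • y - y)) ∈ M ^ (n + 1) := by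
        have := Ideal.sub_mem _ h1 h2
        rwa [add_sub_cancel_right] at this
      have hσs : σ • s ∉ m := by
        intro hmem
        rw [← hσ, Ideal.smul_mem_pointwise_smul_iff] at hmem
        exact hs hmem
      have hunit : IsUnit (algebraMap R S (σ • s)) :=
        IsLocalization.map_units S (⟨σ • s, hσs⟩ : m.primeCompl)
      rw [map_mul] at h3
      exact (Ideal.unit_mul_mem_iff_mem _ hunit).mp h3
  apply FaithfulSMul.eq_of_smul_eq_smul (α := R)
  intro x
  rw [one_smul]
  have h1 : algebraMap R S (σ • x - x) ∈ (⨅ n : ℕ, M ^ n : Ideal S) := by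
    rw [Ideal.mem_iInf]; exact fun n => key n x
  rw [Ideal.iInf_pow_eq_bot_of_isLocalRing M Ideal.IsPrime.ne_top'] at h1
  have h2 : σ • x - x = 0 := hinj (by rw [map_zero]; exact h1)
  exact sub_eq_zero.mp h2

end Unram




open Polynomial
open scoped Pointwise

section Main

variable (k : Type u) [Field k] [IsAlgClosed k] [CharZero k]
    (R : Type v) [CommRing R] [IsDomain R] [Algebra k R] [Algebra.FiniteType k R]
    (G : Type w) [Group G] [Finite G] [MulSemiringAction G R] [FaithfulSMul G R] [SMulCommClass G k R]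
    (B : Type v) [CommRing B] [Algebra k B] [Algebra B R] [IsScalarTower k B R] [FaithfulSMul B R]
    [SMulCommClass G B R] [Algebra.IsInvariant B R G]
    (m : Ideal R) [m.IsMaximal]

include k in
theorem exists_const_sub_mem (x : R) : ∃ c : k, x - algebraMap k R c ∈ m := by
  letI := Ideal.Quotient.field m
  haveI : Algebra.FiniteType k (R ⧸ m) :=
    Algebra.FiniteType.of_surjective (Ideal.Quotient.mkₐ k m) Ideal.Quotient.mk_surjective
  haveI : Module.Finite k (R ⧸ m) := finite_of_finite_type_of_isJacobsonRing k (R ⧸ m)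
  haveI : Algebra.IsIntegral k (R ⧸ m) := Algebra.IsIntegral.of_finite k (R ⧸ m)
  obtain ⟨c, hc⟩ := (IsAlgClosed.algebraMap_bijective_of_isIntegral (k := k) (K := R ⧸ m)).2
    (Ideal.Quotient.mk m x)
  refine ⟨c, ?_⟩
  rw [← Ideal.Quotient.eq_zero_iff_mem, map_sub, ← hc,
    IsScalarTower.algebraMap_apply k R (R ⧸ m), Ideal.Quotient.algebraMap_eq, sub_self]

include k in
set_option maxHeartbeats 800000 in
theorem main : Algebra.IsEtaleAt B m ↔ MulAction.stabilizer G m = ⊥ := by
  classical
  haveI : Fintype G := Fintype.ofFinite G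
  haveI : Algebra.FiniteType B R := Algebra.FiniteType.of_restrictScalars_finiteType k B R
  haveI : IsNoetherianRing R := Algebra.FiniteType.isNoetherianRing k R
  constructor
  · intro het
    rw [_root_.eq_bot_iff]
    intro σ hσ
    rw [Subgroup.mem_bot]
    haveI : Algebra.IsUnramifiedAt B m := by
      change Algebra.FormallyUnramified B (Localization.AtPrime m)
      haveI : Algebra.FormallyEtale B (Localization.AtPrime m) := het
      infer_instance
    haveI : m.LiesOver (m.comap (algebraMap B R)) := ⟨rfl⟩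
    letI := Localization.AtPrime.algebraOfLiesOver (m.comap (algebraMap B R)) m
    have h1 := (Algebra.isUnramifiedAt_iff_map_eq B (m.comap (algebraMap B R)) m).mp inferInstance
    refine eq_one_of_unramified (B := B) m ?_ h1.2 σ hσ
    intro x
    obtain ⟨c, hc⟩ := exists_const_sub_mem k R m x
    exact ⟨algebraMap k B c, by rwa [← IsScalarTower.algebraMap_apply k B R]⟩
  · intro hstab
    -- distinct conjugates of m
    have hne : ∀ g h : G, g ≠ h → g • m ≠ h • m := by
      intro g h hgh heq
      apply hgh
      have : h⁻¹ * g ∈ MulAction.stabilizer G m := by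
        rw [MulAction.mem_stabilizer_iff, mul_smul, heq, inv_smul_smul]
      rw [hstab, Subgroup.mem_bot] at this
      exact (inv_mul_eq_one.mp this).symm
    haveI hmax : ∀ g : G, (g • m).IsMaximal := by
      intro g
      rw [Ideal.pointwise_smul_eq_comap]
      exact Ideal.comap_isMaximal_of_equiv _
    have hcop : Pairwise (Function.onFun IsCoprime fun g : G => g • m) := by
      intro g h hgh
      exact Ideal.isCoprime_of_isMaximal (hne g h hgh)
    let c : G → k := fun g => ((Fintype.equivFin G g : ℕ) : k)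
    have hc : Function.Injective c := by
      intro g h hgh
      have h1 : ((Fintype.equivFin G g : ℕ)) = (Fintype.equivFin G h : ℕ) := Nat.cast_injective hgh
      exact (Fintype.equivFin G).injective (Fin.val_injective h1)
    obtain ⟨θ, hθ⟩ := Ideal.exists_forall_sub_mem_ideal hcop (fun g => algebraMap k R (c g))
    -- residues of the conjugates at m
    have hres : ∀ g : G, g • θ - algebraMap k R (c g⁻¹) ∈ m := by
      intro g
      have h1 := hθ g⁻¹
      have h2 := Ideal.smul_mem_pointwise_smul g _ _ h1
      rw [smul_inv_smul, smul_sub, smul_algebraMap] at h2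
      exact h2
    have hdiff : ∀ g h : G, g ≠ h → g • θ - h • θ ∉ m := by
      intro g h hgh hmem
      have h1 : algebraMap k R (c g⁻¹ - c h⁻¹) ∈ m := by
        have e : algebraMap k R (c g⁻¹ - c h⁻¹) =
            (g • θ - h • θ) - (g • θ - algebraMap k R (c g⁻¹)) +
              (h • θ - algebraMap k R (c h⁻¹)) := by
          rw [map_sub]; ring
        rw [e]
        exact Ideal.add_mem _ (Ideal.sub_mem _ hmem (hres g)) (hres h)
      have h2 : c g⁻¹ - c h⁻¹ ≠ 0 := by
        intro h0
        exact hgh (inv_injective (hc (sub_eq_zero.mp h0)))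
      have h3 : IsUnit (algebraMap k R (c g⁻¹ - c h⁻¹)) := (IsUnit.mk0 _ h2).map _
      exact (Ideal.IsMaximal.ne_top ‹m.IsMaximal›) (Ideal.eq_top_of_isUnit_mem _ h1 h3)
    have hδm : delta G θ ∉ m := by
      intro hmem
      unfold delta at hmem
      rw [Ideal.IsPrime.prod_mem_iff] at hmem
      obtain ⟨g, -, hg⟩ := hmem
      unfold dfac at hg
      rw [Ideal.IsPrime.prod_mem_iff] at hg
      obtain ⟨h, -, hh⟩ := hg
      split_ifs at hh with heq
      · exact (Ideal.IsMaximal.ne_top ‹m.IsMaximal›) ((Ideal.eq_top_iff_one _).mpr hh)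
      · exact hdiff g h (Ne.symm heq) hh
    exact isEtaleAt_of_delta_notMem (B := B) θ m hδm

end Main


end Groth.Agent.Lib.Helper14GalEtale
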