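import Mathlib

set_option autoImplicit false
set_option linter.style.haveILetI false
set_option linter.unusedSectionVars false
set_option linter.overlappingInstances false
universe u

/-! Helper14: the inertia fixed field of a Galois extension of a DVR is etale at the prime below
(S7139), by counting `e f g` on both levels. -/

namespace Groth.Agent.Lib.Helper14InertiaEt

open Ideal Module Algebra
open scoped Pointwise

section Count

theorem card_aut_eq_finSepDegree (F E : Type*) [Field F] [Field E] [Algebra F E] [Normal F E] :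
    Nat.card (E ≃ₐ[F] E) = Field.finSepDegree F E := by
  rw [Field.finSepDegree_eq_of_isAlgClosed F E (AlgebraicClosure E)]
  exact (Nat.card_congr (Normal.algHomEquivAut F (AlgebraicClosure E) E)).symm

attribute [local instance] Ideal.Quotient.field

variable {R T : Type*} [CommRing R] [CommRing T] [Algebra R T]
  (G : Type*) [Group G] [Finite G] [MulSemiringAction G T] [IsGaloisGroup G R T]

theorem card_stabilizer_eq (p : Ideal R) (Q : Ideal T) [p.IsMaximal] [Q.IsMaximal]
    [Q.LiesOver p] :
    Nat.card (MulAction.stabilizer G Q) =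
      Nat.card (Q.inertia G) * Field.finSepDegree (R ⧸ p) (T ⧸ Q) := by
  have hn : Normal (R ⧸ p) (T ⧸ Q) := Ideal.Quotient.normal G p Q
  have : Subgroup.index _ = _ :=
    Nat.card_congr (Ideal.Quotient.stabilizerQuotientInertiaEquiv G p Q).toEquiv
  rw [← card_aut_eq_finSepDegree, ← this,
    ← ((inertia G Q).subgroupOf (MulAction.stabilizer G Q)).card_mul_index,
    Nat.card_congr (Subgroup.subgroupOfEquivOfLe (inertia_le_stabilizer (M := G) Q)).toEquiv,
    AddSubgroup.subgroupOf_inertia]

theorem ncard_primesOver_mul_card_stabilizer (p : Ideal R) (Q : Ideal T) [p.IsPrime] [Q.IsPrime]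
    [Q.LiesOver p] :
    (p.primesOver T).ncard * Nat.card (MulAction.stabilizer G Q) = Nat.card G := by
  rw [← IsInvariant.orbit_eq_primesOver R T G p Q]
  simpa using Nat.card_congr (MulAction.orbitProdStabilizerEquivGroup G Q)

end Count

section Key

attribute [local instance] Ideal.Quotient.field

variable {R S T : Type*} [CommRing R] [CommRing S] [CommRing T] [IsDomain R] [IsDomain S]
  [IsDomain T] [Algebra R S] [Algebra S T] [Algebra R T] [IsScalarTower R S T]
  [Module.Finite R S] [Module.Finite S T] [Module.Finite R T] [Module.Flat R T] [Module.Flat S T]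
  (G : Type*) [Group G] [Finite G] [MulSemiringAction G T] [IsGaloisGroup G R T]
  (p : Ideal R) (q : Ideal S) (Q : Ideal T) [p.IsMaximal] [q.IsMaximal] [Q.IsMaximal]
  [Q.LiesOver q] [q.LiesOver p] [Q.LiesOver p]
  [IsGaloisGroup (Q.inertia G) S T]

theorem inertia_eq_top_of_forall {T : Type*} [CommRing T] {H : Type*} [Group H]
    [MulSemiringAction H T] (Q : Ideal T) (h : ∀ (σ : H) (x : T), σ • x - x ∈ Q) :
    Q.inertia H = ⊤ := by
  rw [_root_.eq_top_iff]
  intro σ _ x
  exact h σ x

theorem stabilizer_eq_top_of_forall {T : Type*} [CommRing T] {H : Type*} [Group H]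
    [MulSemiringAction H T] (Q : Ideal T) (h : ∀ (σ : H) (x : T), σ • x - x ∈ Q) :
    MulAction.stabilizer H Q = ⊤ := by
  rw [_root_.eq_top_iff, ← inertia_eq_top_of_forall Q h]
  exact inertia_le_stabilizer (M := H) Q

include G Q in
set_option maxHeartbeats 800000 in
theorem key_count : q.ramificationIdx R = 1 ∧ Algebra.IsSeparable (R ⧸ p) (S ⧸ q) := by
  have he : Q.ramificationIdx R = q.ramificationIdx R * Q.ramificationIdx S :=
    ramificationIdx_tower q Q
  have hf : Q.inertiaDeg R = q.inertiaDeg R * Q.inertiaDeg S := inertiaDeg_tower q Q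
  have h1 := ncard_primesOver_mul_ramificationIdxIn_mul_inertiaDegIn p T G
  rw [ramificationIdxIn_eq_ramificationIdx p Q G, inertiaDegIn_eq_inertiaDeg p Q G] at h1
  have h2 := ncard_primesOver_mul_card_stabilizer G p Q
  have h3 := card_stabilizer_eq G p Q
  have h4 := ncard_primesOver_mul_ramificationIdxIn_mul_inertiaDegIn q T (Q.inertia G)
  rw [ramificationIdxIn_eq_ramificationIdx q Q (Q.inertia G),
    inertiaDegIn_eq_inertiaDeg q Q (Q.inertia G)] at h4
  have hIpos : 0 < Nat.card (Q.inertia G) := Nat.card_pos
  have hall : ∀ (σ : Q.inertia G) (x : T), σ • x - x ∈ Q := fun σ x => σ.2 x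
  have h5 : (q.primesOver T).ncard = 1 := by
    have := ncard_primesOver_mul_card_stabilizer (Q.inertia G) q Q
    rw [stabilizer_eq_top_of_forall Q hall, Subgroup.card_top] at this
    exact Nat.eq_of_mul_eq_mul_right hIpos (by rw [this, one_mul])
  have h6 : Field.finSepDegree (S ⧸ q) (T ⧸ Q) = 1 := by
    have := card_stabilizer_eq (Q.inertia G) q Q
    rw [stabilizer_eq_top_of_forall Q hall, inertia_eq_top_of_forall Q hall,
      Subgroup.card_top] at this
    exact (Nat.eq_of_mul_eq_mul_left hIpos (by rw [← this, mul_one])).symm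
  haveI : IsScalarTower (R ⧸ p) (S ⧸ q) (T ⧸ Q) := IsScalarTower.of_algebraMap_eq <| by
    rintro ⟨x⟩
    simp [Submodule.Quotient.quot_mk_eq_mk, IsScalarTower.algebraMap_apply R (S ⧸ q) (T ⧸ Q)]
  haveI hn : Normal (S ⧸ q) (T ⧸ Q) := Ideal.Quotient.normal (Q.inertia G) q Q
  have h7 : Field.finSepDegree (R ⧸ p) (S ⧸ q) * Field.finSepDegree (S ⧸ q) (T ⧸ Q) =
      Field.finSepDegree (R ⧸ p) (T ⧸ Q) :=
    Field.finSepDegree_mul_finSepDegree_of_isAlgebraic _ _ _
  rw [h6, mul_one] at h7
  rw [h5, one_mul] at h4
  have hGpos : 0 < Nat.card G := Nat.card_pos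
  have hg : 0 < (p.primesOver T).ncard := by
    rcases Nat.eq_zero_or_pos (p.primesOver T).ncard with h0 | h0
    · rw [h0, zero_mul] at h1; omega
    · exact h0
  have h8 : Q.ramificationIdx R * Q.inertiaDeg R = Nat.card (MulAction.stabilizer G Q) :=
    Nat.eq_of_mul_eq_mul_left hg (by rw [h1, h2])
  rw [h3, ← h7, ← h4, he, hf] at h8
  have hf2 : q.inertiaDeg R = Module.finrank (R ⧸ p) (S ⧸ q) := inertiaDeg_eq_of_isMaximal p q
  haveI : Module.Finite (R ⧸ p) (S ⧸ q) := Module.Finite.of_restrictScalars_finite R _ _
  have h9 : q.ramificationIdx R * q.inertiaDeg R = Field.finSepDegree (R ⧸ p) (S ⧸ q) := by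
    have hpos : 0 < Q.ramificationIdx S * Q.inertiaDeg S := by rw [h4]; exact hIpos
    apply Nat.eq_of_mul_eq_mul_left hpos
    rw [← h8]; ring
  have hle := Field.finSepDegree_le_finrank (R ⧸ p) (S ⧸ q)
  have hf2pos : 0 < q.inertiaDeg R := inertiaDeg_pos q R
  have he2pos : 0 < q.ramificationIdx R := ramificationIdx_pos q R
  rw [← hf2, ← h9] at hle
  have he2 : q.ramificationIdx R = 1 := by
    by_contra hne
    have : 2 ≤ q.ramificationIdx R := by omega
    nlinarith
  refine ⟨he2, ?_⟩
  rw [← Field.finSepDegree_eq_finrank_iff, ← hf2, ← h9, he2, one_mul]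

end Key

section FP

theorem exists_away_isLocalization_atPrime {A B' : Type*} [CommRing A] [IsLocalRing A]
    [CommRing B'] [IsDomain B'] [IsDedekindDomain B'] [Algebra A B'] [Module.Finite A B']
    (m' : Ideal B') [hm' : m'.IsMaximal] :
    ∃ s : B', s ∉ m' ∧ IsLocalization.AtPrime (Localization.Away s) m' := by
  classical
  set p := IsLocalRing.maximalIdeal A with hp
  have hfin : (p.primesOver B').Finite := Algebra.QuasiFinite.finite_primesOver p
  have hmax : ∀ M : Ideal B', M.IsMaximal → M ∈ p.primesOver B' := by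
    intro M hM
    refine ⟨hM.isPrime, ⟨?_⟩⟩
    haveI : (M.comap (algebraMap A B')).IsMaximal :=
      Ideal.isMaximal_comap_of_isIntegral_of_isMaximal M
    exact (IsLocalRing.eq_maximalIdeal this).symm
  set F : Finset (Ideal B') := hfin.toFinset.erase m' with hF
  have hnle : ¬ F.inf id ≤ m' := by
    rw [Ideal.IsPrime.inf_le' hm'.isPrime]
    rintro ⟨M, hMF, hMle⟩
    rw [hF, Finset.mem_erase, Set.Finite.mem_toFinset] at hMF
    obtain ⟨hne, hM⟩ := hMF
    have hMprime : M.IsPrime := hM.1
    have hlo : M.LiesOver p := hM.2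
    have hMmax : M.IsMaximal := by
      apply Ideal.IsIntegral.isMaximal_of_isMaximal_comap (R := A) M
      have h1 : M.comap (algebraMap A B') = p := hlo.over.symm
      rw [h1]
      exact IsLocalRing.maximalIdeal.isMaximal A
    exact hne (hMmax.eq_of_le hm'.ne_top hMle)
  obtain ⟨s, hsF, hsm⟩ := Set.not_subset.mp hnle
  refine ⟨s, hsm, ?_⟩
  have hsub : Submonoid.powers s ≤ m'.primeCompl := Submonoid.powers_le.mpr hsm
  refine IsLocalization.of_le (Submonoid.powers s) m'.primeCompl hsub ?_
  intro t ht
  by_contra hnu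
  obtain ⟨N, hN, htN⟩ := exists_max_ideal_of_mem_nonunits (mem_nonunits_iff.mpr hnu)
  set N' := N.comap (algebraMap B' (Localization.Away s)) with hN'
  haveI : N'.IsPrime := Ideal.IsPrime.comap _
  have htN' : t ∈ N' := htN
  have ht0 : t ≠ 0 := by
    rintro rfl
    exact ht (Ideal.zero_mem _)
  have hN'ne : N' ≠ ⊥ := by
    intro h0
    rw [h0, Ideal.mem_bot] at htN'
    exact ht0 htN'
  have hN'max : N'.IsMaximal := Ideal.IsPrime.isMaximal inferInstance hN'ne
  have hN'ne' : N' ≠ m' := by
    intro h
    rw [h] at htN'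
    exact ht htN'
  have hN'F : N' ∈ F := by
    rw [hF, Finset.mem_erase, Set.Finite.mem_toFinset]
    exact ⟨hN'ne', hmax N' hN'max⟩
  have hsN' : s ∈ N' := by
    have : F.inf id ≤ N' := Finset.inf_le (f := id) hN'F
    exact this hsF
  have hsu : IsUnit (algebraMap B' (Localization.Away s) s) :=
    IsLocalization.Away.algebraMap_isUnit s
  exact hN.ne_top (Ideal.eq_top_of_isUnit_mem _ hsN' hsu)

theorem finitePresentation_atPrime {A B' : Type*} [CommRing A] [IsLocalRing A]
    [IsNoetherianRing A] [CommRing B'] [IsDomain B'] [IsDedekindDomain B'] [Algebra A B']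
    [Module.Finite A B'] (m' : Ideal B') [m'.IsMaximal] :
    Algebra.FinitePresentation A (Localization.AtPrime m') := by
  obtain ⟨s, hs, hloc⟩ := exists_away_isLocalization_atPrime (A := A) m'
  haveI := hloc
  let e : Localization.Away s ≃ₐ[B'] Localization.AtPrime m' :=
    IsLocalization.algEquiv m'.primeCompl _ _
  haveI : Algebra.FinitePresentation A B' :=
    Algebra.FinitePresentation.of_finiteType.mp inferInstance
  haveI : Algebra.FinitePresentation A (Localization.Away s) :=
    Algebra.FinitePresentation.trans A B' _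
  exact Algebra.FinitePresentation.equiv (e.restrictScalars A)

end FP

section Et

attribute [local instance] Ideal.Quotient.field

theorem etale_atPrime_of_count {A B' : Type*} [CommRing A] [IsDomain A]
    [IsDiscreteValuationRing A] [CommRing B'] [IsDomain B'] [IsDedekindDomain B'] [Algebra A B']
    [Module.Finite A B'] [Module.IsTorsionFree A B'] (m' : Ideal B') [m'.IsMaximal]
    [m'.LiesOver (IsLocalRing.maximalIdeal A)] (he : m'.ramificationIdx A = 1)
    (hsep : Algebra.IsSeparable (A ⧸ IsLocalRing.maximalIdeal A) (B' ⧸ m')) :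
    Algebra.Etale A (Localization.AtPrime m') := by
  letI := Localization.AtPrime.algebraOfLiesOver (IsLocalRing.maximalIdeal A) m'
  haveI : Algebra.FinitePresentation A (Localization.AtPrime m') := finitePresentation_atPrime m'
  haveI : Module.Flat A (Localization.AtPrime m') := Module.Flat.trans A B' _
  haveI : Algebra.FormallyUnramified A (Localization.AtPrime m') := by
    change Algebra.IsUnramifiedAt A m'
    rw [Algebra.isUnramifiedAt_iff_map_eq A (IsLocalRing.maximalIdeal A) m']
    refine ⟨inferInstance, ?_⟩
    have h := he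
    rw [ramificationIdx_eq (IsLocalRing.maximalIdeal A) m',
      ENat.toNat_eq_iff one_ne_zero, Nat.cast_one, Module.length_eq_one_iff,
      isSimpleModule_iff_isCoatom, ← Ideal.isMaximal_def, IsLocalRing.isMaximal_iff] at h
    exact h
  exact Algebra.Etale.of_formallyUnramified_of_flat

end Et

section Setup

variable (A K L B : Type u) [CommRing A] [IsDomain A]
    [IsDiscreteValuationRing A] [Field K] [Field L] [Algebra A K] [IsFractionRing A K] [Algebra K L]
    [Algebra A L] [IsScalarTower A K L] [FiniteDimensional K L] [IsGalois K L]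
    [CommRing B] [Algebra A B] [Algebra B L] [IsScalarTower A B L] [IsIntegralClosure B A L]
    [MulSemiringAction (L ≃ₐ[K] L) B]
    (hact : ∀ (σ : L ≃ₐ[K] L) (b : B), algebraMap B L (σ • b) = σ (algebraMap B L b))

include hact in
theorem smulDistribClass : SMulDistribClass (L ≃ₐ[K] L) B L := by
  constructor
  intro σ b l
  rw [Algebra.smul_def, Algebra.smul_def, smul_mul', hact]
  rfl

include hact in
theorem isGaloisGroup_top [IsDomain B] : IsGaloisGroup (L ≃ₐ[K] L) A B := by
  haveI := smulDistribClass K L B hact
  haveI : IsFractionRing B L := IsIntegralClosure.isFractionRing_of_finite_extension A K L B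
  haveI : Algebra.IsIntegral A B := IsIntegralClosure.isIntegral_algebra A L
  exact IsGaloisGroup.of_isFractionRing (L ≃ₐ[K] L) A B K L

end Setup

section Main

variable (A K L B : Type u) [CommRing A] [IsDomain A]
    [IsDiscreteValuationRing A] [Field K] [Field L] [Algebra A K] [IsFractionRing A K] [Algebra K L]
    [Algebra A L] [IsScalarTower A K L] [FiniteDimensional K L] [IsGalois K L]
    [CommRing B] [Algebra A B] [Algebra B L] [IsScalarTower A B L] [IsIntegralClosure B A L]
    [MulSemiringAction (L ≃ₐ[K] L) B]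
    (hact : ∀ (σ : L ≃ₐ[K] L) (b : B), algebraMap B L (σ • b) = σ (algebraMap B L b))
    (m : Ideal B) [m.IsMaximal]
    (B' : Type u) [CommRing B'] [Algebra A B'] [Algebra B' B] [IsScalarTower A B' B] [Algebra B' L]
    [IsScalarTower B' B L]
    [Algebra B' (IntermediateField.fixedField (m.inertia (L ≃ₐ[K] L)))]
    [IsScalarTower B' (IntermediateField.fixedField (m.inertia (L ≃ₐ[K] L))) L]
    [IsIntegralClosure B' A (IntermediateField.fixedField (m.inertia (L ≃ₐ[K] L)))]

theorem isScalarTower_AEL :
    IsScalarTower A (IntermediateField.fixedField (m.inertia (L ≃ₐ[K] L))) L :=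
  IsScalarTower.of_algebraMap_eq (fun _ => rfl)

theorem isScalarTower_ABE :
    IsScalarTower A B' (IntermediateField.fixedField (m.inertia (L ≃ₐ[K] L))) := by
  haveI := isScalarTower_AEL A K L B m
  apply IsScalarTower.of_algebraMap_eq
  intro a
  apply (algebraMap (IntermediateField.fixedField (m.inertia (L ≃ₐ[K] L))) L).injective
  rw [← IsScalarTower.algebraMap_apply A (IntermediateField.fixedField (m.inertia (L ≃ₐ[K] L))) L,
    ← IsScalarTower.algebraMap_apply B' (IntermediateField.fixedField (m.inertia (L ≃ₐ[K] L))) L,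
    IsScalarTower.algebraMap_apply B' B L, ← IsScalarTower.algebraMap_apply A B' B,
    ← IsScalarTower.algebraMap_apply A B L]

include A hact in
theorem part1 (b : B) :
    (∀ σ ∈ m.inertia (L ≃ₐ[K] L), σ • b = b) ↔ b ∈ Set.range (algebraMap B' B) := by
  have hinjB : Function.Injective (algebraMap B L) := IsIntegralClosure.algebraMap_injective B A L
  haveI := isScalarTower_AEL A K L B m
  haveI := isScalarTower_ABE A K L B m B'
  constructor
  · intro h
    have hmem : algebraMap B L b ∈ IntermediateField.fixedField (m.inertia (L ≃ₐ[K] L)) := by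
      rw [IntermediateField.mem_fixedField_iff]
      intro σ hσ
      rw [← hact, h σ hσ]
    have hint : IsIntegral A (⟨algebraMap B L b, hmem⟩ :
        IntermediateField.fixedField (m.inertia (L ≃ₐ[K] L))) := by
      have h1 : IsIntegral A (algebraMap B L b) := (IsIntegralClosure.isIntegral A L b).algebraMap
      exact (isIntegral_algebraMap_iff
        (algebraMap (IntermediateField.fixedField (m.inertia (L ≃ₐ[K] L))) L).injective).mp h1
    refine ⟨IsIntegralClosure.mk' B' _ hint, ?_⟩
    apply hinjB
    rw [← IsScalarTower.algebraMap_apply B' B L,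
      IsScalarTower.algebraMap_apply B' (IntermediateField.fixedField (m.inertia (L ≃ₐ[K] L))) L,
      IsIntegralClosure.algebraMap_mk']
    rfl
  · rintro ⟨b', rfl⟩ σ hσ
    apply hinjB
    rw [hact, ← IsScalarTower.algebraMap_apply B' B L,
      IsScalarTower.algebraMap_apply B' (IntermediateField.fixedField (m.inertia (L ≃ₐ[K] L))) L]
    exact (IntermediateField.mem_fixedField_iff _ _).mp (algebraMap B' (IntermediateField.fixedField (m.inertia (L ≃ₐ[K] L))) b').2 σ hσ

theorem isScalarTower_AKE :
    IsScalarTower A K (IntermediateField.fixedField (m.inertia (L ≃ₐ[K] L))) := by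
  haveI := isScalarTower_AEL A K L B m
  apply IsScalarTower.of_algebraMap_eq
  intro a
  apply (algebraMap (IntermediateField.fixedField (m.inertia (L ≃ₐ[K] L))) L).injective
  rw [← IsScalarTower.algebraMap_apply A (IntermediateField.fixedField (m.inertia (L ≃ₐ[K] L))) L,
    ← IsScalarTower.algebraMap_apply K (IntermediateField.fixedField (m.inertia (L ≃ₐ[K] L))) L,
    ← IsScalarTower.algebraMap_apply A K L]

include A hact in
theorem isGaloisGroup_inertia [IsDomain B] [IsDomain B'] :
    IsGaloisGroup (m.inertia (L ≃ₐ[K] L)) B' B := by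
  haveI := isScalarTower_AEL A K L B m
  haveI := isScalarTower_ABE A K L B m B'
  haveI := isScalarTower_AKE A K L B m
  haveI : IsFractionRing B L := IsIntegralClosure.isFractionRing_of_finite_extension A K L B
  haveI : IsFractionRing B' (IntermediateField.fixedField (m.inertia (L ≃ₐ[K] L))) :=
    IsIntegralClosure.isFractionRing_of_finite_extension A K
      (IntermediateField.fixedField (m.inertia (L ≃ₐ[K] L))) B'
  haveI : IsDedekindDomain B' := IsIntegralClosure.isDedekindDomain A K
      (IntermediateField.fixedField (m.inertia (L ≃ₐ[K] L))) B'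
  haveI : Algebra.IsIntegral A B := IsIntegralClosure.isIntegral_algebra A L
  haveI : Algebra.IsIntegral B' B := Algebra.IsIntegral.tower_top A
  haveI : SMulDistribClass (m.inertia (L ≃ₐ[K] L)) B L := by
    constructor
    intro σ b l
    exact (smulDistribClass K L B hact).smul_distrib_smul σ.1 b l
  haveI : IsGaloisGroup (m.inertia (L ≃ₐ[K] L))
      (IntermediateField.fixedField (m.inertia (L ≃ₐ[K] L))) L :=
    IsGaloisGroup.subgroup (L ≃ₐ[K] L) K L (m.inertia (L ≃ₐ[K] L))
  exact IsGaloisGroup.of_isFractionRing (m.inertia (L ≃ₐ[K] L)) B' B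
    (IntermediateField.fixedField (m.inertia (L ≃ₐ[K] L))) L

include hact in
set_option maxHeartbeats 1600000 in
theorem main :
    (∀ b : B, (∀ σ ∈ m.inertia (L ≃ₐ[K] L), σ • b = b) ↔ b ∈ Set.range (algebraMap B' B)) ∧
      Algebra.Etale A (Localization.AtPrime (m.comap (algebraMap B' B))) := by
  refine ⟨part1 A K L B hact m B', ?_⟩
  haveI := isScalarTower_AEL A K L B m
  haveI := isScalarTower_ABE A K L B m B'
  haveI := isScalarTower_AKE A K L B m
  have hinjB : Function.Injective (algebraMap B L) := IsIntegralClosure.algebraMap_injective B A L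
  have hinjB' : Function.Injective
      (algebraMap B' (IntermediateField.fixedField (m.inertia (L ≃ₐ[K] L)))) :=
    IsIntegralClosure.algebraMap_injective B' A _
  haveI : IsDomain B := hinjB.isDomain _
  haveI : IsDomain B' := hinjB'.isDomain _
  haveI : IsDedekindDomain B := IsIntegralClosure.isDedekindDomain A K L B
  haveI : IsDedekindDomain B' := IsIntegralClosure.isDedekindDomain A K
    (IntermediateField.fixedField (m.inertia (L ≃ₐ[K] L))) B'
  haveI : Module.Finite A B := IsIntegralClosure.finite A K L B
  haveI : Module.Finite A B' := IsIntegralClosure.finite A K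
    (IntermediateField.fixedField (m.inertia (L ≃ₐ[K] L))) B'
  haveI : Module.Finite B' B := Module.Finite.of_restrictScalars_finite A B' B
  have hinjAL : Function.Injective (algebraMap A L) := by
    rw [IsScalarTower.algebraMap_eq A K L]
    exact (algebraMap K L).injective.comp (IsFractionRing.injective A K)
  have hinjAB : Function.Injective (algebraMap A B) := by
    intro x y hxy
    apply hinjAL
    rw [IsScalarTower.algebraMap_apply A B L, hxy, ← IsScalarTower.algebraMap_apply A B L]
  have hinjB'B : Function.Injective (algebraMap B' B) := by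
    intro x y hxy
    apply hinjB'
    apply (algebraMap (IntermediateField.fixedField (m.inertia (L ≃ₐ[K] L))) L).injective
    rw [← IsScalarTower.algebraMap_apply B' _ L, ← IsScalarTower.algebraMap_apply B' _ L,
      IsScalarTower.algebraMap_apply B' B L, hxy, ← IsScalarTower.algebraMap_apply B' B L]
  have hinjAB' : Function.Injective (algebraMap A B') := by
    intro x y hxy
    apply hinjAB
    rw [IsScalarTower.algebraMap_apply A B' B, hxy, ← IsScalarTower.algebraMap_apply A B' B]
  haveI : FaithfulSMul A B := (faithfulSMul_iff_algebraMap_injective A B).mpr hinjAB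
  haveI : FaithfulSMul A B' := (faithfulSMul_iff_algebraMap_injective A B').mpr hinjAB'
  haveI : FaithfulSMul B' B := (faithfulSMul_iff_algebraMap_injective B' B).mpr hinjB'B
  haveI hG := isGaloisGroup_top A K L B hact
  haveI hI := isGaloisGroup_inertia A K L B hact m B'
  haveI : Algebra.IsIntegral A B := IsIntegralClosure.isIntegral_algebra A L
  haveI : Algebra.IsIntegral B' B := Algebra.IsIntegral.tower_top A
  haveI : Algebra.IsIntegral A B' := IsIntegralClosure.isIntegral_algebra A
    (IntermediateField.fixedField (m.inertia (L ≃ₐ[K] L)))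
  haveI hqmax : (m.comap (algebraMap B' B)).IsMaximal :=
    Ideal.isMaximal_comap_of_isIntegral_of_isMaximal m
  haveI : m.LiesOver (m.comap (algebraMap B' B)) := ⟨rfl⟩
  haveI : (m.comap (algebraMap B' B)).LiesOver (IsLocalRing.maximalIdeal A) :=
    ⟨(IsLocalRing.eq_maximalIdeal
      (Ideal.isMaximal_comap_of_isIntegral_of_isMaximal (R := A) (m.comap (algebraMap B' B)))).symm⟩
  haveI : m.LiesOver (IsLocalRing.maximalIdeal A) :=
    Ideal.LiesOver.trans m (m.comap (algebraMap B' B)) (IsLocalRing.maximalIdeal A)
  obtain ⟨he, hsep⟩ := key_count (R := A) (S := B') (T := B) (L ≃ₐ[K] L)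
    (IsLocalRing.maximalIdeal A) (m.comap (algebraMap B' B)) m
  exact etale_atPrime_of_count (m.comap (algebraMap B' B)) he hsep

end Main


end Groth.Agent.Lib.Helper14InertiaEt
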