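import Mathlib.RingTheory.Invariant.Basic
import Mathlib.FieldTheory.Separable
import Mathlib.FieldTheory.Minpoly.Field
import Mathlib.LinearAlgebra.LinearIndependent.Lemmas
import Mathlib.Tactic

/-!
Inertia ring of a maximal ideal under a finite group action: its residue field is the separable
closure of the residue field of the ring of invariants. Elementary proofs.
-/

set_option autoImplicit false
universe u v

namespace Groth.Agent.Lib.Helper15.Inertia

open Polynomial

section FieldLemma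

variable {L : Type u} [Field L]

/-- If `(X - a)^n` has coefficients in the subfield `K` and `a` is a root of a separable polynomial
with coefficients in `K`, then `a ∈ K`. -/
theorem mem_subfield_of_pow_of_separable (K : Subfield L) (a : L) (n : ℕ)
    (q : Polynomial K) (hq : q.map K.subtype = (X - C a) ^ n) (hn : n ≠ 0)
    (g : Polynomial K) (hg : (g.map K.subtype).Separable) (hga : (g.map K.subtype).eval a = 0) :
    a ∈ K := by
  have hqmonic : q.Monic := by
    have : (q.map K.subtype).Monic := by rw [hq]; exact (monic_X_sub_C a).pow n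
    exact (Polynomial.monic_map_iff (f := K.subtype)).mp this
  have hqa : Polynomial.aeval a q = 0 := by
    rw [Polynomial.aeval_def, ← Polynomial.eval_map]
    change (q.map K.subtype).eval a = 0
    rw [hq]
    simp [hn]
  have hint : IsIntegral K a := ⟨q, hqmonic, hqa⟩
  have hga' : Polynomial.aeval a g = 0 := by
    rw [Polynomial.aeval_def, ← Polynomial.eval_map]
    exact hga
  have hd1 : minpoly K a ∣ q := minpoly.dvd K a hqa
  have hd2 : minpoly K a ∣ g := minpoly.dvd K a hga'
  have hd1' : (minpoly K a).map K.subtype ∣ (X - C a) ^ n := by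
    rw [← hq]; exact Polynomial.map_dvd _ hd1
  have hd2' : (minpoly K a).map K.subtype ∣ g.map K.subtype := Polynomial.map_dvd _ hd2
  have hsep : ((minpoly K a).map K.subtype).Separable := hg.of_dvd hd2'
  obtain ⟨j, -, hj⟩ := (dvd_prime_pow (prime_X_sub_C a) n).mp hd1'
  have hmonic : ((minpoly K a).map K.subtype).Monic := (minpoly.monic hint).map _
  have heq : (minpoly K a).map K.subtype = (X - C a) ^ j :=
    eq_of_monic_of_associated hmonic ((monic_X_sub_C a).pow j) hj
  have hj1 : j = 1 := by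
    rw [heq] at hsep
    rcases hsep.of_pow' with h | h | h
    · exact absurd h (not_isUnit_X_sub_C a)
    · exact h.2
    · exfalso
      rw [h, pow_zero] at heq
      have hdeg := congrArg Polynomial.natDegree heq
      rw [natDegree_map, natDegree_one] at hdeg
      exact (minpoly.natDegree_pos hint).ne' hdeg
  rw [hj1, pow_one] at heq
  have hc := congrArg (fun r => Polynomial.coeff r 0) heq
  simp only [coeff_map, coeff_sub, coeff_X_zero, coeff_C_zero, zero_sub] at hc
  have : a = -(K.subtype ((minpoly K a).coeff 0)) := by rw [hc, neg_neg]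
  rw [this]
  exact K.neg_mem ((minpoly K a).coeff 0).2

end FieldLemma

section Setup

variable {B : Type u} [CommRing B] {Γ : Type v} [Group Γ] [MulSemiringAction Γ B]
  (P : Ideal B)

/-- Elements of a subgroup containing only inertia elements act trivially modulo `P`. -/
theorem mk_smul_eq_of_mem_inertia {γ : Γ} (hγ : γ ∈ P.inertia Γ) (b : B) :
    Ideal.Quotient.mk P (γ • b) = Ideal.Quotient.mk P b :=
  Ideal.Quotient.eq.mpr (hγ b)

variable [Finite Γ]

omit [Finite Γ] in
/-- The product of the translates of `w` under a subgroup is invariant under that subgroup. -/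
theorem smul_prod_subgroup (H : Subgroup Γ) [Fintype H] (w : B) {σ : Γ} (hσ : σ ∈ H) :
    σ • (∏ δ : H, (δ : Γ) • w) = ∏ δ : H, (δ : Γ) • w := by
  exact Finset.smul_prod_perm w (⟨σ, hσ⟩ : H)

variable [P.IsMaximal]

attribute [local instance] Ideal.Quotient.field

/-- The image of the inertia ring in the residue field, as a subfield. -/
noncomputable def residueSubfield (H : Subgroup Γ) (hH : H ≤ P.inertia Γ) :
    Subfield (B ⧸ P) where
  carrier := {z | ∃ y : B, (∀ γ ∈ H, γ • y = y) ∧ Ideal.Quotient.mk P y = z}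
  mul_mem' := by
    rintro _ _ ⟨y, hy, rfl⟩ ⟨y', hy', rfl⟩
    exact ⟨y * y', fun γ hγ => by rw [smul_mul', hy γ hγ, hy' γ hγ], map_mul _ _ _⟩
  one_mem' := ⟨1, fun γ _ => smul_one γ, map_one _⟩
  add_mem' := by
    rintro _ _ ⟨y, hy, rfl⟩ ⟨y', hy', rfl⟩
    exact ⟨y + y', fun γ hγ => by rw [smul_add, hy γ hγ, hy' γ hγ], map_add _ _ _⟩
  zero_mem' := ⟨0, fun γ _ => smul_zero γ, map_zero _⟩
  neg_mem' := by
    rintro _ ⟨y, hy, rfl⟩
    exact ⟨-y, fun γ hγ => by rw [smul_neg, hy γ hγ], map_neg _ _⟩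
  inv_mem' := by
    classical
    rintro _ ⟨y, hy, rfl⟩
    by_cases h0 : Ideal.Quotient.mk P y = 0
    · rw [h0, inv_zero]
      exact ⟨0, fun γ _ => smul_zero γ, map_zero _⟩
    have : Fintype H := Fintype.ofFinite H
    obtain ⟨w, hw⟩ := Ideal.Quotient.mk_surjective (I := P) (Ideal.Quotient.mk P y)⁻¹
    let w' : B := ∏ δ : H, (δ : Γ) • w
    have hw'inv : ∀ γ ∈ H, γ • w' = w' := fun γ hγ => smul_prod_subgroup H w hγ
    have hw'mk : Ideal.Quotient.mk P w' = ((Ideal.Quotient.mk P y)⁻¹) ^ Fintype.card H := by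
      simp only [w', map_prod]
      rw [Finset.prod_congr rfl (fun δ _ => (mk_smul_eq_of_mem_inertia P (hH δ.2) w).trans hw),
        Finset.prod_const, Finset.card_univ]
    have hcard : Fintype.card H ≠ 0 := Fintype.card_ne_zero
    refine ⟨y ^ (Fintype.card H - 1) * w',
      fun γ hγ => by rw [smul_mul', smul_pow', hy γ hγ, hw'inv γ hγ], ?_⟩
    rw [map_mul, map_pow, hw'mk]
    obtain ⟨m, hm⟩ : ∃ m, Fintype.card H = m + 1 := ⟨Fintype.card H - 1, by omega⟩
    rw [hm, Nat.add_sub_cancel, pow_succ ((Ideal.Quotient.mk P y)⁻¹), ← mul_assoc, ← mul_pow,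
      mul_inv_cancel₀ h0, one_pow, one_mul]

end Setup

section Backward

variable {B : Type u} [CommRing B] {Γ : Type v} [Group Γ] [MulSemiringAction Γ B] [Finite Γ]
  (P : Ideal B) [P.IsMaximal]

attribute [local instance] Ideal.Quotient.field

/-- The characteristic polynomial of `x` under a subgroup of the inertia group reduces to a power
of `X - x̄`. -/
theorem map_charpoly_of_le_inertia (H : Subgroup Γ) [Fintype H] (hH : H ≤ P.inertia Γ) (x : B) :
    (MulSemiringAction.charpoly H x).map (Ideal.Quotient.mk P) =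
      (X - C (Ideal.Quotient.mk P x)) ^ Fintype.card H := by
  rw [MulSemiringAction.charpoly_eq, Polynomial.map_prod]
  rw [Finset.prod_congr rfl (fun δ _ => show ((X : B[X]) - C (δ • x)).map (Ideal.Quotient.mk P) =
      X - C (Ideal.Quotient.mk P x) by
    rw [Polynomial.map_sub, Polynomial.map_X, Polynomial.map_C]
    congr 2
    exact mk_smul_eq_of_mem_inertia P (hH δ.2) x)]
  rw [Finset.prod_const, Finset.card_univ]

theorem eval_map_mk (g : B[X]) (x : B) :
    (g.map (Ideal.Quotient.mk P)).eval (Ideal.Quotient.mk P x) =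
      Ideal.Quotient.mk P (Polynomial.aeval x g) := by
  rw [Polynomial.eval_map, Polynomial.eval₂_at_apply, Polynomial.coe_aeval_eq_eval]

/-- A residue class which is a root of a separable polynomial with invariant coefficients is
the class of an element invariant under inertia. -/
theorem exists_invariant_of_separable (x : B) (g : B[X])
    (hginv : ∀ (i : ℕ) (γ : Γ), γ • g.coeff i = g.coeff i)
    (hsep : (g.map (Ideal.Quotient.mk P)).Separable) (hroot : Polynomial.aeval x g ∈ P) :
    ∃ y : B, (∀ γ : Γ, γ ∈ P.inertia Γ → γ • y = y) ∧ x - y ∈ P := by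
  classical
  have : Fintype (P.inertia Γ) := Fintype.ofFinite _
  let K := residueSubfield P (P.inertia Γ) le_rfl
  have hKmem : ∀ b : B, (∀ γ ∈ P.inertia Γ, γ • b = b) → Ideal.Quotient.mk P b ∈ K :=
    fun b hb => ⟨b, hb, rfl⟩
  have h1 : (X - C (Ideal.Quotient.mk P x)) ^ Fintype.card (P.inertia Γ) ∈
      Polynomial.lifts K.subtype := by
    rw [← map_charpoly_of_le_inertia P (P.inertia Γ) le_rfl x, Polynomial.lifts_iff_coeff_lifts]
    intro n
    rw [Polynomial.coeff_map]
    refine ⟨⟨_, hKmem _ ?_⟩, rfl⟩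
    intro γ hγ
    exact MulSemiringAction.smul_coeff_charpoly x n (⟨γ, hγ⟩ : P.inertia Γ)
  have h2 : g.map (Ideal.Quotient.mk P) ∈ Polynomial.lifts K.subtype := by
    rw [Polynomial.lifts_iff_coeff_lifts]
    intro n
    rw [Polynomial.coeff_map]
    exact ⟨⟨_, hKmem _ (fun γ _ => hginv n γ)⟩, rfl⟩
  obtain ⟨q, hq⟩ := (Polynomial.mem_lifts _).mp h1
  obtain ⟨g', hg'⟩ := (Polynomial.mem_lifts _).mp h2
  have hmem : Ideal.Quotient.mk P x ∈ K := by
    refine mem_subfield_of_pow_of_separable K _ _ q hq Fintype.card_ne_zero g' ?_ ?_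
    · rw [hg']; exact hsep
    · rw [hg', eval_map_mk, Ideal.Quotient.eq_zero_iff_mem]
      exact hroot
  obtain ⟨y, hy, hyx⟩ := hmem
  exact ⟨y, hy, Ideal.Quotient.eq.mp hyx.symm⟩

end Backward

section CosetSum

/-- Summing a function which is constant on left cosets of `H`. -/
theorem sum_eq_sum_quotient_card_smul {G : Type*} [Group G] [Fintype G] (H : Subgroup G)
    [Fintype H] [Fintype (G ⧸ H)] {M : Type*} [AddCommMonoid M] (f : G → M)
    (hf : ∀ g : G, ∀ h ∈ H, f (g * h) = f g) :
    ∑ g : G, f g = ∑ q : G ⧸ H, Fintype.card H • f (Quotient.out q) := by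
  let e : (G ⧸ H) × H → G := fun x => Quotient.out x.1 * (x.2 : G)
  have hbij : Function.Bijective e := by
    constructor
    · rintro ⟨q, t⟩ ⟨q', t'⟩ h
      change Quotient.out q * (t : G) = Quotient.out q' * (t' : G) at h
      have hq : q = q' := by
        have h1 : (QuotientGroup.mk (Quotient.out q * (t : G)) : G ⧸ H) =
            QuotientGroup.mk (Quotient.out q' * (t' : G)) := by rw [h]
        rw [QuotientGroup.mk_mul_of_mem _ t.2, QuotientGroup.mk_mul_of_mem _ t'.2,
          QuotientGroup.out_eq', QuotientGroup.out_eq'] at h1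
        exact h1
      subst hq
      have : (t : G) = t' := mul_left_cancel h
      rw [Subtype.ext this]
    · intro g
      refine ⟨⟨QuotientGroup.mk g, ⟨(Quotient.out (QuotientGroup.mk g : G ⧸ H))⁻¹ * g, ?_⟩⟩, ?_⟩
      · rw [← QuotientGroup.eq, QuotientGroup.out_eq']
      · change Quotient.out (QuotientGroup.mk g : G ⧸ H) *
          ((Quotient.out (QuotientGroup.mk g : G ⧸ H))⁻¹ * g) = g
        rw [mul_inv_cancel_left]
  rw [← (Equiv.ofBijective e hbij).sum_comp f, Fintype.sum_prod_type]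
  refine Finset.sum_congr rfl fun q _ => ?_
  rw [Finset.sum_congr rfl (fun (t : H) _ => show f (Equiv.ofBijective e hbij (q, t)) =
    f (Quotient.out q) from hf _ _ t.2), Finset.sum_const, Finset.card_univ]

end CosetSum

section Forward

variable {B : Type u} [CommRing B] {Γ : Type v} [Group Γ] [MulSemiringAction Γ B]
  (P : Ideal B)

/-- The decomposition group of `P`. -/
def dec : Subgroup Γ where
  carrier := {γ | ∀ y : B, y ∈ P ↔ γ • y ∈ P}
  mul_mem' := fun {a b} ha hb y => by
    rw [mul_smul]; exact (hb y).trans (ha _)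
  one_mem' := fun y => by rw [one_smul]
  inv_mem' := fun {a} ha y => by
    have := ha (a⁻¹ • y)
    rw [smul_inv_smul] at this
    exact this.symm

variable {P}

theorem mem_dec_iff {γ : Γ} : γ ∈ dec (Γ := Γ) P ↔ ∀ y : B, y ∈ P ↔ γ • y ∈ P := Iff.rfl

theorem smul_sub_mem_of_mem_dec {γ : Γ} (hγ : γ ∈ dec (Γ := Γ) P) {a b : B} (h : a - b ∈ P) :
    γ • a - γ • b ∈ P := by
  rw [← smul_sub]
  exact (hγ _).mp h

theorem inertia_le_dec : P.inertia Γ ≤ dec P := by
  intro γ hγ y
  have h := hγ y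
  constructor
  · intro hy
    have := P.add_mem h hy
    rwa [sub_add_cancel] at this
  · intro hy
    have := P.sub_mem hy h
    rwa [sub_sub_cancel] at this

variable (P)

/-- An element of the decomposition group acting trivially modulo `P` on the inertia ring lies
in the inertia group. -/
theorem mem_inertia_of_fixes_inertia_ring [Finite Γ] [P.IsMaximal] {σ : Γ}
    (hσ : σ ∈ dec (Γ := Γ) P)
    (h : ∀ b : B, (∀ γ ∈ P.inertia Γ, γ • b = b) → σ • b - b ∈ P) : σ ∈ P.inertia Γ := by
  classical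
  have : Fintype (P.inertia Γ) := Fintype.ofFinite _
  intro x'
  change σ • x' - x' ∈ P
  have hP : P.IsPrime := Ideal.IsMaximal.isPrime inferInstance
  have : IsDomain (B ⧸ P) := (Ideal.Quotient.isDomain_iff_prime P).mpr hP
  let F := MulSemiringAction.charpoly (P.inertia Γ) x'
  have h1 : (σ • F).map (Ideal.Quotient.mk P) = F.map (Ideal.Quotient.mk P) := by
    ext k
    rw [Polynomial.coeff_map, Polynomial.coeff_map, Polynomial.coeff_smul, Ideal.Quotient.eq]
    apply h
    intro γ hγ
    exact MulSemiringAction.smul_coeff_charpoly x' k (⟨γ, hγ⟩ : P.inertia Γ)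
  have h2 : F.map (Ideal.Quotient.mk P) =
      (X - C (Ideal.Quotient.mk P x')) ^ Fintype.card (P.inertia Γ) :=
    map_charpoly_of_le_inertia P (P.inertia Γ) le_rfl x'
  have h3 : (σ • F).map (Ideal.Quotient.mk P) =
      (X - C (Ideal.Quotient.mk P (σ • x'))) ^ Fintype.card (P.inertia Γ) := by
    have : σ • F = ∏ δ : P.inertia Γ, (X - C (σ • ((δ : Γ) • x'))) := by
      change σ • (∏ δ : P.inertia Γ, (X - C (δ • x'))) = _
      rw [Finset.smul_prod']
      refine Finset.prod_congr rfl fun δ _ => ?_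
      rw [smul_sub, Polynomial.smul_X, Polynomial.smul_C]
      rfl
    have hfac : ∀ δ : P.inertia Γ,
        ((X : B[X]) - C (σ • ((δ : Γ) • x'))).map (Ideal.Quotient.mk P) =
          X - C (Ideal.Quotient.mk P (σ • x')) := by
      intro δ
      rw [Polynomial.map_sub, Polynomial.map_X, Polynomial.map_C]
      congr 2
      rw [Ideal.Quotient.eq]
      exact smul_sub_mem_of_mem_dec hσ (δ.2 x')
    rw [this, Polynomial.map_prod, Finset.prod_congr rfl (fun δ _ => hfac δ), Finset.prod_const,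
      Finset.card_univ]
  rw [h2, h3] at h1
  have h4 := congrArg (Polynomial.eval (Ideal.Quotient.mk P x')) h1
  rw [Polynomial.eval_pow, Polynomial.eval_pow, Polynomial.eval_sub, Polynomial.eval_sub,
    Polynomial.eval_X, Polynomial.eval_C, Polynomial.eval_C, sub_self,
    zero_pow Fintype.card_ne_zero] at h4
  have h5 := pow_eq_zero_iff Fintype.card_ne_zero |>.mp h4
  rw [sub_eq_zero] at h5
  exact Ideal.Quotient.eq.mp h5.symm

end Forward

section Trace

variable {B : Type u} [CommRing B] {Γ : Type v} [Group Γ] [MulSemiringAction Γ B] [Finite Γ]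
  (P : Ideal B) [P.IsMaximal]

attribute [local instance] Ideal.Quotient.field

/-- The trace trick: an element of the inertia ring which is fixed modulo `P` by a subgroup `S`
of the decomposition group (containing the inertia group) is congruent modulo `P` to an
`S`-invariant element. -/
theorem exists_invariant_of_fixed_mod (S : Subgroup Γ) (hTS : P.inertia Γ ≤ S)
    (hSD : S ≤ dec P) (y : B) (hyT : ∀ γ ∈ P.inertia Γ, γ • y = y)
    (hyS : ∀ σ ∈ S, σ • y - y ∈ P) :
    ∃ c : B, (∀ σ ∈ S, σ • c = c) ∧ c - y ∈ P := by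
  classical
  have : Fintype S := Fintype.ofFinite _
  let T' : Subgroup S := (P.inertia Γ).subgroupOf S
  have : Fintype (S ⧸ T') := Fintype.ofFinite _
  let rep : S ⧸ T' → S := Quotient.out
  have hrep : ∀ q, (QuotientGroup.mk (rep q) : S ⧸ T') = q := fun q => QuotientGroup.out_eq' q
  let tr : B → B := fun b => ∑ q : S ⧸ T', ((rep q : S) : Γ) • b
  -- invariance of elements under cosets
  have hcoset : ∀ (b : B), (∀ γ ∈ P.inertia Γ, γ • b = b) → ∀ s s' : S,
      (QuotientGroup.mk s : S ⧸ T') = QuotientGroup.mk s' → (s : Γ) • b = (s' : Γ) • b := by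
    intro b hb s s' h
    have h1 : s⁻¹ * s' ∈ T' := QuotientGroup.eq.mp h
    have h2 : ((s⁻¹ * s' : S) : Γ) ∈ P.inertia Γ := Subgroup.mem_subgroupOf.mp h1
    have h3 := hb _ h2
    have h4 : (s' : Γ) • b = (s : Γ) • (((s⁻¹ * s' : S) : Γ) • b) := by
      rw [← mul_smul]
      congr 1
      simp
    rw [h4, h3]
  have htr_inv : ∀ (b : B), (∀ γ ∈ P.inertia Γ, γ • b = b) → ∀ σ ∈ S, σ • tr b = tr b := by
    intro b hb σ hσ
    let σ' : S := ⟨σ, hσ⟩
    change σ • (∑ q : S ⧸ T', ((rep q : S) : Γ) • b) = ∑ q : S ⧸ T', ((rep q : S) : Γ) • b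
    rw [Finset.smul_sum]
    rw [← Equiv.sum_comp (MulAction.toPerm σ' : Equiv.Perm (S ⧸ T'))
      (fun q => ((rep q : S) : Γ) • b)]
    refine Finset.sum_congr rfl fun q _ => ?_
    rw [← mul_smul]
    have : (σ * ((rep q : S) : Γ)) = ((σ' * rep q : S) : Γ) := rfl
    rw [this]
    apply hcoset b hb
    rw [hrep]
    exact MulAction.Quotient.mk_smul_out T' σ' q
  -- the characters
  let G := FixedPoints.subring B (P.inertia Γ)
  have hGmem : ∀ b : G, ∀ γ ∈ P.inertia Γ, γ • (b : B) = b := fun b γ hγ => b.2 ⟨γ, hγ⟩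
  let χ : S ⧸ T' → (G →* (B ⧸ P)) := fun q =>
    { toFun := fun b => Ideal.Quotient.mk P (((rep q : S) : Γ) • (b : B))
      map_one' := by simp
      map_mul' := fun a b => by simp [smul_mul'] }
  have hχinj : Function.Injective χ := by
    intro q q' h
    have h1 : ∀ b : G, Ideal.Quotient.mk P (((rep q : S) : Γ) • (b : B)) =
        Ideal.Quotient.mk P (((rep q' : S) : Γ) • (b : B)) := fun b => DFunLike.congr_fun h b
    have h2 : (((rep q)⁻¹ * rep q' : S) : Γ) ∈ P.inertia Γ := by
      apply mem_inertia_of_fixes_inertia_ring P (hSD ((rep q)⁻¹ * rep q' : S).2)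
      intro b hb
      have h3 := h1 ⟨b, fun γ => hb γ.1 γ.2⟩
      rw [Ideal.Quotient.eq] at h3
      have h4 := smul_sub_mem_of_mem_dec (hSD ((rep q)⁻¹ : S).2) h3
      rw [← mul_smul, ← mul_smul] at h4
      have h5 : (((rep q)⁻¹ : S) : Γ) * ((rep q : S) : Γ) = 1 := by simp
      rw [h5, one_smul] at h4
      have h6 : (((rep q)⁻¹ * rep q' : S) : Γ) • b - b =
          -(b - ((((rep q)⁻¹ : S) : Γ) * ((rep q' : S) : Γ)) • b) := by
        rw [neg_sub]; rfl
      rw [h6]
      exact P.neg_mem h4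
    rw [← hrep q, ← hrep q']
    exact QuotientGroup.eq.mpr (Subgroup.mem_subgroupOf.mpr h2)
  have hli : LinearIndependent (B ⧸ P) (fun q : S ⧸ T' => (χ q : G → B ⧸ P)) :=
    (linearIndependent_monoidHom G (B ⧸ P)).comp χ hχinj
  have hne : (∑ q : S ⧸ T', (χ q : G → B ⧸ P)) ≠ 0 := by
    intro h0
    have := Fintype.linearIndependent_iff.mp hli (fun _ => 1) (by simpa using h0)
      (QuotientGroup.mk 1)
    exact one_ne_zero this
  obtain ⟨u, hu⟩ := Function.ne_iff.mp hne
  have hu' : Ideal.Quotient.mk P (tr (u : B)) ≠ 0 := by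
    intro h0
    apply hu
    rw [Finset.sum_apply, Pi.zero_apply]
    change ∑ q : S ⧸ T', Ideal.Quotient.mk P (((rep q : S) : Γ) • (u : B)) = 0
    rw [← map_sum]
    exact h0
  set e : B := tr (u : B) with he
  have he_inv : ∀ σ ∈ S, σ • e = e := htr_inv _ (hGmem u)
  have huy : ∀ γ ∈ P.inertia Γ, γ • ((u : B) * y) = (u : B) * y := fun γ hγ => by
    rw [smul_mul', hGmem u γ hγ, hyT γ hγ]
  set c₀ : B := tr ((u : B) * y) with hc₀
  have hc₀_inv : ∀ σ ∈ S, σ • c₀ = c₀ := htr_inv _ huy
  have hc₀_mk : Ideal.Quotient.mk P c₀ = Ideal.Quotient.mk P e * Ideal.Quotient.mk P y := by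
    change Ideal.Quotient.mk P (∑ q : S ⧸ T', ((rep q : S) : Γ) • ((u : B) * y)) =
      Ideal.Quotient.mk P (∑ q : S ⧸ T', ((rep q : S) : Γ) • (u : B)) * _
    rw [map_sum, map_sum, Finset.sum_mul]
    refine Finset.sum_congr rfl fun q _ => ?_
    rw [smul_mul', map_mul]
    congr 1
    exact Ideal.Quotient.eq.mpr (hyS _ (rep q).2)
  -- an S-invariant inverse of e modulo P
  obtain ⟨w, hw⟩ := Ideal.Quotient.mk_surjective (I := P) (Ideal.Quotient.mk P e)⁻¹
  let e' : B := ∏ δ : S, (δ : Γ) • w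
  have he'_inv : ∀ σ ∈ S, σ • e' = e' := fun σ hσ => smul_prod_subgroup S w hσ
  have hsw : ∀ σ ∈ S, Ideal.Quotient.mk P (σ • w) = (Ideal.Quotient.mk P e)⁻¹ := by
    intro σ hσ
    have h1 : e * w - 1 ∈ P := by
      rw [← Ideal.Quotient.eq, map_mul, hw, map_one, mul_inv_cancel₀ hu']
    have h2 := smul_sub_mem_of_mem_dec (hSD hσ) h1
    rw [smul_mul', smul_one, he_inv σ hσ, ← Ideal.Quotient.eq, map_mul, map_one] at h2
    exact eq_inv_of_mul_eq_one_right h2
  have he'_mk : Ideal.Quotient.mk P e' = ((Ideal.Quotient.mk P e)⁻¹) ^ Fintype.card S := by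
    simp only [e', map_prod]
    rw [Finset.prod_congr rfl (fun (δ : S) _ => hsw (δ : Γ) δ.2), Finset.prod_const,
      Finset.card_univ]
  obtain ⟨m, hm⟩ : ∃ m, Fintype.card S = m + 1 := ⟨Fintype.card S - 1, by
    have : Fintype.card S ≠ 0 := Fintype.card_ne_zero
    omega⟩
  refine ⟨e' * e ^ m * c₀, fun σ hσ => ?_, ?_⟩
  · rw [smul_mul', smul_mul', smul_pow', he'_inv σ hσ, he_inv σ hσ, hc₀_inv σ hσ]
  · rw [← Ideal.Quotient.eq, map_mul, map_mul, map_pow, he'_mk, hc₀_mk, hm, pow_succ]
    have h1 : ((Ideal.Quotient.mk P e)⁻¹ ^ m * (Ideal.Quotient.mk P e)⁻¹) *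
        (Ideal.Quotient.mk P e) ^ m * (Ideal.Quotient.mk P e * Ideal.Quotient.mk P y) =
        ((Ideal.Quotient.mk P e)⁻¹ * Ideal.Quotient.mk P e) ^ m *
          ((Ideal.Quotient.mk P e)⁻¹ * Ideal.Quotient.mk P e) * Ideal.Quotient.mk P y := by
      ring
    rw [h1, inv_mul_cancel₀ hu', one_pow, one_mul, one_mul]

end Trace

section TraceOnto

variable {B : Type u} [CommRing B] {Γ : Type v} [Group Γ] [MulSemiringAction Γ B]
  (P : Ideal B)

/-- For a maximal ideal `P` there is an element congruent to `1` modulo `P` all of whose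
translates by elements outside the decomposition group lie in `P`. -/
theorem exists_sub_one_mem_and_smul_mem [Finite Γ] [P.IsMaximal] :
    ∃ z : B, z - 1 ∈ P ∧ ∀ σ : Γ, σ ∉ dec (Γ := Γ) P → σ • z ∈ P := by
  classical
  cases nonempty_fintype Γ
  have hPprime : P.IsPrime := Ideal.IsMaximal.isPrime inferInstance
  have step1 : ∀ σ : Γ, σ ∉ dec (Γ := Γ) P → ∃ q : B, q ∉ P ∧ σ • q ∈ P := by
    intro σ hσ
    let φ : B →+* B := MulSemiringAction.toRingHom Γ B σ
    have hφ : Function.Surjective φ := fun b => ⟨σ⁻¹ • b, smul_inv_smul σ b⟩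
    have hQ : (P.comap φ).IsMaximal := Ideal.comap_isMaximal_of_surjective φ hφ
    by_contra hcon
    push Not at hcon
    have hle : P.comap φ ≤ P := by
      intro q hq
      by_contra hqP
      exact hcon q hqP hq
    have heq : P.comap φ = P := hQ.eq_of_le hPprime.ne_top hle
    apply hσ
    rw [mem_dec_iff]
    intro y
    have h0 : y ∈ P.comap φ ↔ σ • y ∈ P := Iff.rfl
    rw [← h0, heq]
  choose! qf hqf1 hqf2 using step1
  let q : B := ∏ σ ∈ Finset.univ.filter (fun σ : Γ => σ ∉ dec (Γ := Γ) P), qf σ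
  have hq1 : q ∉ P := by
    intro hq
    rw [Ideal.IsPrime.prod_mem_iff] at hq
    obtain ⟨σ, hσ, hσP⟩ := hq
    exact hqf1 σ (Finset.mem_filter.mp hσ).2 hσP
  have hq2 : ∀ σ : Γ, σ ∉ dec (Γ := Γ) P → σ • q ∈ P := by
    intro σ hσ
    have h1 : σ • q = ∏ τ ∈ Finset.univ.filter (fun σ : Γ => σ ∉ dec (Γ := Γ) P), σ • qf τ :=
      Finset.smul_prod'
    rw [h1]
    exact Ideal.mem_of_dvd _
      (Finset.dvd_prod_of_mem _ (Finset.mem_filter.mpr ⟨Finset.mem_univ σ, hσ⟩)) (hqf2 σ hσ)
  obtain ⟨r, i, hi, hri⟩ := Ideal.IsMaximal.exists_inv (I := P) inferInstance hq1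
  refine ⟨r * q, ?_, ?_⟩
  · have : r * q - 1 = -i := by
      rw [← hri]; ring
    rw [this]; exact P.neg_mem hi
  · intro σ hσ
    rw [smul_mul']
    exact P.mul_mem_left _ (hq2 σ hσ)

attribute [local instance] Ideal.Quotient.field

/-- If the order of the inertia group of the maximal ideal `P` is nonzero in the residue field,
some trace lies outside `P`. -/
theorem exists_trace_notMem [Fintype Γ] [P.IsMaximal]
    (hcard : ((Nat.card (P.inertia Γ) : ℕ) : B ⧸ P) ≠ 0) :
    ∃ b : B, ∑ γ : Γ, γ • b ∉ P := by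
  classical
  obtain ⟨z, hz1, hz2⟩ := exists_sub_one_mem_and_smul_mem (Γ := Γ) P
  let D : Subgroup Γ := dec P
  let T' : Subgroup D := (P.inertia Γ).subgroupOf D
  have : Fintype (D ⧸ T') := Fintype.ofFinite _
  have : Fintype T' := Fintype.ofFinite _
  let rep : D ⧸ T' → D := Quotient.out
  have hrep : ∀ q, (QuotientGroup.mk (rep q) : D ⧸ T') = q := fun q => QuotientGroup.out_eq' q
  let χ : D ⧸ T' → (B →* (B ⧸ P)) := fun q =>
    { toFun := fun b => Ideal.Quotient.mk P (((rep q : D) : Γ) • b)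
      map_one' := by simp
      map_mul' := fun a b => by simp [smul_mul'] }
  have hχinj : Function.Injective χ := by
    intro q q' h
    have h1 : ∀ b : B, Ideal.Quotient.mk P (((rep q : D) : Γ) • b) =
        Ideal.Quotient.mk P (((rep q' : D) : Γ) • b) := fun b => DFunLike.congr_fun h b
    have h2 : (((rep q)⁻¹ * rep q' : D) : Γ) ∈ P.inertia Γ := by
      intro b
      have h3 := h1 b
      rw [Ideal.Quotient.eq] at h3
      have h4 := smul_sub_mem_of_mem_dec ((rep q)⁻¹ : D).2 h3
      rw [← mul_smul, ← mul_smul] at h4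
      have h5 : (((rep q)⁻¹ : D) : Γ) * ((rep q : D) : Γ) = 1 := by simp
      rw [h5, one_smul] at h4
      have h6 : (((rep q)⁻¹ * rep q' : D) : Γ) • b - b =
          -(b - ((((rep q)⁻¹ : D) : Γ) * ((rep q' : D) : Γ)) • b) := by
        rw [neg_sub]; rfl
      rw [h6]
      exact P.neg_mem h4
    rw [← hrep q, ← hrep q']
    exact QuotientGroup.eq.mpr (Subgroup.mem_subgroupOf.mpr h2)
  have hli : LinearIndependent (B ⧸ P) (fun q : D ⧸ T' => (χ q : B → B ⧸ P)) :=
    (linearIndependent_monoidHom B (B ⧸ P)).comp χ hχinj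
  have hne : (∑ q : D ⧸ T', (χ q : B → B ⧸ P)) ≠ 0 := by
    intro h0
    have := Fintype.linearIndependent_iff.mp hli (fun _ => 1) (by simpa using h0)
      (QuotientGroup.mk 1)
    exact one_ne_zero this
  obtain ⟨u, hu⟩ := Function.ne_iff.mp hne
  rw [Finset.sum_apply, Pi.zero_apply] at hu
  change ∑ q : D ⧸ T', Ideal.Quotient.mk P (((rep q : D) : Γ) • u) ≠ 0 at hu
  -- sum over the decomposition group
  have hsumD : ∑ δ : D, Ideal.Quotient.mk P ((δ : Γ) • u) =
      ∑ q : D ⧸ T', Fintype.card T' • Ideal.Quotient.mk P (((rep q : D) : Γ) • u) := by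
    refine sum_eq_sum_quotient_card_smul T' (fun δ : D => Ideal.Quotient.mk P ((δ : Γ) • u)) ?_
    intro g t ht
    have ht' : (t : Γ) ∈ P.inertia Γ := Subgroup.mem_subgroupOf.mp ht
    change Ideal.Quotient.mk P (((g * t : D) : Γ) • u) = Ideal.Quotient.mk P ((g : Γ) • u)
    rw [Ideal.Quotient.eq]
    have h1 : ((g * t : D) : Γ) • u = (g : Γ) • ((t : Γ) • u) := by
      rw [← mul_smul]; rfl
    rw [h1]
    exact smul_sub_mem_of_mem_dec g.2 (ht' u)
  have hcardT : Fintype.card T' = Nat.card (P.inertia Γ) := by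
    rw [← Nat.card_eq_fintype_card]
    exact Nat.card_congr (Subgroup.subgroupOfEquivOfLe (inertia_le_dec (Γ := Γ) (P := P))).toEquiv
  have hsumD_ne : ∑ δ : D, Ideal.Quotient.mk P ((δ : Γ) • u) ≠ 0 := by
    rw [hsumD, ← Finset.smul_sum, hcardT, nsmul_eq_mul]
    exact mul_ne_zero hcard hu
  refine ⟨u * z, fun hmem => hsumD_ne ?_⟩
  rw [← Ideal.Quotient.eq_zero_iff_mem, map_sum] at hmem
  rw [← hmem]
  have hterm : ∀ γ : Γ, Ideal.Quotient.mk P (γ • (u * z)) =
      if γ ∈ D then Ideal.Quotient.mk P (γ • u) else 0 := by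
    intro γ
    rw [smul_mul', map_mul]
    split_ifs with hγ
    · have h1 : γ • z - 1 ∈ P := by
        have := smul_sub_mem_of_mem_dec hγ hz1
        rwa [smul_one] at this
      have h2 : Ideal.Quotient.mk P (γ • z) = 1 := by
        rw [← map_one (Ideal.Quotient.mk P), Ideal.Quotient.eq]; exact h1
      rw [h2, mul_one]
    · rw [Ideal.Quotient.eq_zero_iff_mem.mpr (hz2 γ hγ), mul_zero]
  rw [Finset.sum_congr rfl (fun γ _ => hterm γ), ← Finset.sum_filter]
  exact (Finset.sum_subtype (Finset.univ.filter (fun γ : Γ => γ ∈ D))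
    (fun γ => by simp) (fun γ => Ideal.Quotient.mk P (γ • u))).symm

end TraceOnto

end Groth.Agent.Lib.Helper15.Inertia
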