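import Mathlib
import Groth.Agent.Lib.Helper15Inertia
import Groth.Agent.Lib.Helper14InertiaEt

set_option autoImplicit false
set_option linter.style.haveILetI false
set_option linter.unusedSectionVars false
set_option linter.overlappingInstances false
universe u

/-! Helper14: structure of the inertia and wild inertia groups of a Galois extension of a DVR with
separable residue extension (S1999). -/

namespace Groth.Agent.Lib.Helper14InertiaStr


open Ideal
open scoped Pointwise

section Generic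

variable {B : Type*} [CommRing B] {G : Type*} [Group G] [MulSemiringAction G B] (m : Ideal B)

/-- the wild inertia subgroup -/
def wild : Subgroup G := MulAction.stabilizer G m ⊓ (m ^ 2).inertia G

theorem mem_stabilizer_smul_mem {σ : G} (hσ : σ ∈ MulAction.stabilizer G m) {x : B} {n : ℕ}
    (hx : x ∈ m ^ n) : σ • x ∈ m ^ n := by
  have h1 : σ • m = m := hσ
  have h2 : σ • (m ^ n) = m ^ n := by
    rw [Ideal.pointwise_smul_def, Ideal.map_pow, ← Ideal.pointwise_smul_def, h1]
  rw [← h2]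
  exact Ideal.smul_mem_pointwise_smul _ _ _ hx

theorem wild_le_inertia : wild (G := G) m ≤ m.inertia G := by
  intro σ hσ x
  have := hσ.2 x
  exact Ideal.pow_le_self two_ne_zero this

theorem wild_normal : ((wild (G := G) m).subgroupOf (MulAction.stabilizer G m)).Normal := by
  refine (Subgroup.normal_subgroupOf_iff inf_le_left).mpr fun g s hg hs => ?_
  refine ⟨Subgroup.mul_mem _ (Subgroup.mul_mem _ hs hg.1) (Subgroup.inv_mem _ hs), fun x => ?_⟩
  have h1 := hg.2 (s⁻¹ • x)
  have h2 := mem_stabilizer_smul_mem m hs (n := 2) h1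
  have h3 : s • (g • s⁻¹ • x - s⁻¹ • x) = (s * g * s⁻¹) • x - x := by
    rw [smul_sub, smul_smul, smul_smul, smul_smul, mul_inv_cancel, one_smul, mul_assoc]
  rw [h3] at h2
  exact h2

/-- Elements of the wild inertia act unipotently on the `m`-adic filtration. -/
theorem wild_smul_sub_mem {σ : G} (hσ : σ ∈ wild (G := G) m) :
    ∀ (n : ℕ) (y : B), y ∈ m ^ n → σ • y - y ∈ m ^ (n + 1) := by
  intro n
  induction n with
  | zero =>
    intro y _
    rw [zero_add, pow_one]
    exact wild_le_inertia m hσ y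
  | succ n ih =>
    intro y hy
    rw [pow_succ] at hy
    refine Submodule.mul_induction_on hy ?_ ?_
    · intro a ha b hb
      have h1 : σ • (a * b) - a * b = σ • a * (σ • b - b) + (σ • a - a) * b := by
        rw [smul_mul']; ring
      rw [h1]
      have h2 : σ • a ∈ m ^ n := by
        have := ih a ha
        have h3 : σ • a = (σ • a - a) + a := by ring
        rw [h3]
        exact Ideal.add_mem _ (Ideal.pow_le_pow_right (Nat.le_succ n) this) ha
      have h4 : σ • b - b ∈ m ^ 2 := hσ.2 b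
      have e1 : m ^ (n + 1 + 1) = m ^ n * m ^ 2 := by rw [← pow_add]
      have e2 : m ^ (n + 1 + 1) = m ^ (n + 1) * m := by rw [pow_succ]
      refine Ideal.add_mem _ ?_ ?_
      · rw [e1]; exact Ideal.mul_mem_mul h2 h4
      · rw [e2]; exact Ideal.mul_mem_mul (ih a ha) hb
    · intro x y hx hy
      have : σ • (x + y) - (x + y) = (σ • x - x) + (σ • y - y) := by rw [smul_add]; ring
      rw [this]
      exact Ideal.add_mem _ hx hy

end Generic




open Ideal
open scoped Pointwise

section Generic2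

variable {B : Type*} [CommRing B] {G : Type*} [Group G] [MulSemiringAction G B] (m : Ideal B)

theorem wild_sum_sub_mem {σ : G} (hσ : σ ∈ wild (G := G) m) (r n : ℕ) (y : B) (hy : y ∈ m ^ n) :
    (∑ j ∈ Finset.range r, (σ ^ j) • y) - (r : B) * y ∈ m ^ (n + 1) := by
  have h1 : (∑ j ∈ Finset.range r, (σ ^ j) • y) - (r : B) * y =
      ∑ j ∈ Finset.range r, ((σ ^ j) • y - y) := by
    rw [Finset.sum_sub_distrib, Finset.sum_const, Finset.card_range, nsmul_eq_mul]
  rw [h1]
  refine Ideal.sum_mem _ fun j _ => ?_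
  exact wild_smul_sub_mem m (Subgroup.pow_mem _ hσ j) n y hy

theorem sum_pow_smul_sub (σ : G) (r : ℕ) (b : B) :
    ∑ j ∈ Finset.range r, (σ ^ j) • (σ • b - b) = (σ ^ r) • b - b := by
  have : ∀ j, (σ ^ j) • (σ • b - b) = (σ ^ (j + 1)) • b - (σ ^ j) • b := by
    intro j
    rw [smul_sub, smul_smul, pow_succ]
  simp_rw [this]
  rw [Finset.sum_range_sub (fun j => (σ ^ j) • b), pow_zero, one_smul]

theorem wild_smul_sub_mem_pow [m.IsMaximal] {σ : G} (hσ : σ ∈ wild (G := G) m) (r : ℕ)
    (hr : σ ^ r = 1) (hrm : (r : B) ∉ m) (b : B) : ∀ n : ℕ, σ • b - b ∈ m ^ n := by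
  intro n
  induction n with
  | zero => rw [pow_zero, Ideal.one_eq_top]; trivial
  | succ n ih =>
    have h1 := wild_sum_sub_mem m hσ r n _ ih
    rw [sum_pow_smul_sub, hr, one_smul, sub_self, zero_sub] at h1
    have h2 : (r : B) * (σ • b - b) ∈ m ^ (n + 1) := by
      have := Ideal.neg_mem_iff _ |>.mp h1
      exact this
    obtain ⟨s, hs⟩ := Ideal.Quotient.exists_inv (I := m)
      (a := Ideal.Quotient.mk m (r : B)) (by
        rwa [Ne, Ideal.Quotient.eq_zero_iff_mem])
    obtain ⟨s, rfl⟩ := Ideal.Quotient.mk_surjective s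
    rw [← map_mul, ← map_one (Ideal.Quotient.mk m), Ideal.Quotient.eq] at hs
    have h3 : σ • b - b = s * ((r : B) * (σ • b - b)) - ((r : B) * s - 1) * (σ • b - b) := by ring
    rw [h3]
    refine Ideal.sub_mem _ (Ideal.mul_mem_left _ _ h2) ?_
    rw [pow_succ']
    exact Ideal.mul_mem_mul hs ih

theorem wild_eq_one_of_pow [IsDomain B] [IsNoetherianRing B] [FaithfulSMul G B] [m.IsMaximal]
    {σ : G} (hσ : σ ∈ wild (G := G) m) (r : ℕ)
    (hr : σ ^ r = 1) (hrm : (r : B) ∉ m) : σ = 1 := by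
  apply FaithfulSMul.eq_of_smul_eq_smul (α := B)
  intro b
  rw [one_smul]
  have h1 : σ • b - b ∈ (⨅ n : ℕ, m ^ n : Ideal B) := by
    rw [Ideal.mem_iInf]
    exact wild_smul_sub_mem_pow m hσ r hr hrm b
  rw [Ideal.iInf_pow_eq_bot_of_isDomain m (Ideal.IsMaximal.ne_top ‹_›)] at h1
  exact sub_eq_zero.mp h1

theorem wild_isPGroup [IsDomain B] [IsNoetherianRing B] [FaithfulSMul G B] [Finite G]
    [m.IsMaximal] (p : ℕ) (hp : p.Prime) (hpm : (p : B) ∈ m) : IsPGroup p (wild (G := G) m) := by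
  intro g
  have ho : orderOf (g : G) ≠ 0 := (orderOf_pos (g : G)).ne'
  obtain ⟨k, r, hr, hkr⟩ := Nat.exists_eq_pow_mul_and_not_dvd ho p hp.ne_one
  refine ⟨k, ?_⟩
  have hmem : (g : G) ^ p ^ k ∈ wild (G := G) m := Subgroup.pow_mem _ g.2 _
  have hpow : ((g : G) ^ p ^ k) ^ r = 1 := by
    rw [← pow_mul, ← hkr, pow_orderOf_eq_one]
  have hrm : (r : B) ∉ m := by
    intro hrm
    have hcop : Nat.Coprime p r := (Nat.Prime.coprime_iff_not_dvd hp).mpr hr
    have h1 : ((Nat.gcd p r : ℕ) : B) ∈ m := by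
      have := Nat.gcd_eq_gcd_ab p r
      have h2 : ((Nat.gcd p r : ℕ) : B) = (p : B) * ((Nat.gcdA p r : ℤ) : B) +
          (r : B) * ((Nat.gcdB p r : ℤ) : B) := by
        have := congrArg (fun z : ℤ => (z : B)) this
        simpa using this
      rw [h2]
      exact Ideal.add_mem _ (Ideal.mul_mem_right _ _ hpm) (Ideal.mul_mem_right _ _ hrm)
    rw [hcop, Nat.cast_one] at h1
    exact (Ideal.IsMaximal.ne_top ‹_›) ((Ideal.eq_top_iff_one _).mpr h1)
  have := wild_eq_one_of_pow m hmem r hpow hrm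
  exact Subtype.ext (by simpa using this)

theorem wild_eq_bot [IsDomain B] [IsNoetherianRing B] [FaithfulSMul G B] [Finite G]
    [m.IsMaximal] (h0 : ∀ r : ℕ, r ≠ 0 → (r : B) ∉ m) : wild (G := G) m = ⊥ := by
  rw [_root_.eq_bot_iff]
  intro g hg
  rw [Subgroup.mem_bot]
  exact wild_eq_one_of_pow m hg (orderOf g) (pow_orderOf_eq_one g) (h0 _ (orderOf_pos g).ne')

end Generic2




open Ideal
open scoped Pointwise

section Theta

variable {B : Type*} [CommRing B] [IsDomain B] [IsDedekindDomain B]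
  {G : Type*} [Group G] [MulSemiringAction G B] (m : Ideal B) [m.IsMaximal]
  (hm0 : m ≠ ⊥) {π : B} (hπ : π ∈ m) (hπ2 : π ∉ m ^ 2)

include hm0 hπ hπ2

theorem exists_coeff {x : B} (hx : x ∈ m) : ∃ u : B, x - u * π ∈ m ^ 2 := by
  obtain ⟨d, e, he, hde⟩ := Ideal.exists_mul_add_mem_pow_succ hm0 (i := 1) π x
    (by rwa [pow_one]) hπ2 (by rwa [pow_one])
  refine ⟨d, ?_⟩
  have : x - d * π = e := by rw [← hde]; ring
  rw [this]; exact he

theorem mem_of_mul_mem {u : B} (hu : u * π ∈ m ^ 2) : u ∈ m := by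
  rw [mul_comm] at hu
  exact Ideal.mem_prime_of_mul_mem_pow hm0 (i := 1) hπ2 hu

omit hm0 hπ hπ2 in
theorem inertia_smul_mem {σ : G} (hσ : σ ∈ m.inertia G) {x : B} {n : ℕ} (hx : x ∈ m ^ n) :
    σ • x ∈ m ^ n :=
  mem_stabilizer_smul_mem m (Ideal.inertia_le_stabilizer m hσ) hx

omit hm0 hπ2 in
theorem inertia_smul_pi_mem {σ : G} (hσ : σ ∈ m.inertia G) : σ • π ∈ m := by
  have := inertia_smul_mem m hσ (n := 1) (by rwa [pow_one])
  rwa [pow_one] at this

/-- the coefficient of `σ • π` w.r.t. `π` -/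
noncomputable def coeff (σ : m.inertia G) : B :=
  Classical.choose (exists_coeff m hm0 hπ hπ2 (inertia_smul_pi_mem m hπ σ.2))

theorem coeff_spec (σ : m.inertia G) :
    (σ : G) • π - coeff m hm0 hπ hπ2 σ * π ∈ m ^ 2 :=
  Classical.choose_spec (exists_coeff m hm0 hπ hπ2 (inertia_smul_pi_mem m hπ σ.2))

theorem coeff_unique (σ : m.inertia G) {u : B} (hu : (σ : G) • π - u * π ∈ m ^ 2) :
    Ideal.Quotient.mk m (coeff m hm0 hπ hπ2 σ) = Ideal.Quotient.mk m u := by
  rw [Ideal.Quotient.eq]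
  apply mem_of_mul_mem m hm0 hπ hπ2
  have h1 := coeff_spec m hm0 hπ hπ2 σ
  have : (coeff m hm0 hπ hπ2 σ - u) * π =
      ((σ : G) • π - u * π) - ((σ : G) • π - coeff m hm0 hπ hπ2 σ * π) := by ring
  rw [this]
  exact Ideal.sub_mem _ hu h1

/-- the tame character as a monoid hom to the residue field -/
noncomputable def thetaHom : m.inertia G →* (B ⧸ m) where
  toFun σ := Ideal.Quotient.mk m (coeff m hm0 hπ hπ2 σ)
  map_one' := by
    rw [← map_one (Ideal.Quotient.mk m)]
    apply coeff_unique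
    simp
  map_mul' σ τ := by
    rw [← map_mul]
    apply coeff_unique
    have hσ := coeff_spec m hm0 hπ hπ2 σ
    have hτ := coeff_spec m hm0 hπ hπ2 τ
    set u := coeff m hm0 hπ hπ2 σ
    set v := coeff m hm0 hπ hπ2 τ
    have e1 : ((σ * τ : m.inertia G) : G) • π - u * v * π =
        (σ : G) • ((τ : G) • π - v * π) + ((σ : G) • v - v) * ((σ : G) • π)
          + v * ((σ : G) • π - u * π) := by
      rw [Subgroup.coe_mul, mul_smul, smul_sub, smul_mul']; ring
    rw [e1]
    refine Ideal.add_mem _ (Ideal.add_mem _ (inertia_smul_mem m σ.2 hτ) ?_)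
      (Ideal.mul_mem_left _ _ hσ)
    rw [pow_two]
    exact Ideal.mul_mem_mul (σ.2 v) (inertia_smul_pi_mem m hπ σ.2)

/-- the tame character -/
noncomputable def theta : m.inertia G →* (B ⧸ m)ˣ := (thetaHom m hm0 hπ hπ2).toHomUnits

theorem theta_eq_one_iff (σ : m.inertia G) :
    theta m hm0 hπ hπ2 σ = 1 ↔ (σ : G) • π - π ∈ m ^ 2 := by
  rw [Units.ext_iff, theta, MonoidHom.coe_toHomUnits, Units.val_one]
  have hσ := coeff_spec m hm0 hπ hπ2 σ
  constructor
  · intro h
    have h1 : Ideal.Quotient.mk m (coeff m hm0 hπ hπ2 σ) = 1 := h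
    rw [← map_one (Ideal.Quotient.mk m), Ideal.Quotient.eq] at h1
    have e1 : (σ : G) • π - π = ((σ : G) • π - coeff m hm0 hπ hπ2 σ * π) +
        (coeff m hm0 hπ hπ2 σ - 1) * π := by ring
    rw [e1]
    refine Ideal.add_mem _ hσ ?_
    rw [pow_two]
    exact Ideal.mul_mem_mul h1 hπ
  · intro h
    change Ideal.Quotient.mk m (coeff m hm0 hπ hπ2 σ) = 1
    rw [← map_one (Ideal.Quotient.mk m)]
    apply coeff_unique
    rwa [one_mul]

/-- An inertia element fixing `π` modulo `m²` is wild, provided every residue class has an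
inertia-invariant representative. -/
theorem mem_wild_of_smul_pi {σ : G} (hσ : σ ∈ m.inertia G) (h : σ • π - π ∈ m ^ 2)
    (hrep : ∀ b : B, ∃ c : B, (∀ γ ∈ m.inertia G, γ • c = c) ∧ b - c ∈ m) :
    σ ∈ wild (G := G) m := by
  refine ⟨Ideal.inertia_le_stabilizer m hσ, ?_⟩
  have key : ∀ x ∈ m, σ • x - x ∈ m ^ 2 := by
    intro x hx
    obtain ⟨u, hu⟩ := exists_coeff m hm0 hπ hπ2 hx
    have e1 : σ • x - x = (σ • (x - u * π) - (x - u * π)) + (σ • u) * (σ • π - π)
        + (σ • u - u) * π := by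
      rw [smul_sub, smul_mul']; ring
    rw [e1]
    refine Ideal.add_mem _ (Ideal.add_mem _ (Ideal.sub_mem _ (inertia_smul_mem m hσ hu) hu)
      (Ideal.mul_mem_left _ _ h)) ?_
    rw [pow_two]
    exact Ideal.mul_mem_mul (hσ u) hπ
  intro b
  obtain ⟨c, hc, hbc⟩ := hrep b
  have e2 : σ • b - b = σ • (b - c) - (b - c) := by
    rw [smul_sub, hc σ hσ]; ring
  show σ • b - b ∈ m ^ 2
  rw [e2]
  exact key _ hbc

end Theta




open Ideal Polynomial
open scoped Pointwise

section Rep

variable {A B : Type*} [CommRing A] [CommRing B] [Algebra A B]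
  {G : Type*} [Group G] [Finite G] [MulSemiringAction G B] (m : Ideal B) [m.IsMaximal]
  (hinv : ∀ (g : G) (a : A), g • algebraMap A B a = algebraMap A B a)
  [Algebra.IsSeparable (A ⧸ m.comap (algebraMap A B)) (B ⧸ m)]

include hinv in
theorem exists_inertia_invariant_rep (b : B) :
    ∃ c : B, (∀ γ ∈ m.inertia G, γ • c = c) ∧ b - c ∈ m := by
  classical
  have hsep : (minpoly (A ⧸ m.comap (algebraMap A B)) (Ideal.Quotient.mk m b)).Separable :=
    Algebra.IsSeparable.isSeparable _ _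
  obtain ⟨F, hF⟩ := Polynomial.map_surjective (Ideal.Quotient.mk (m.comap (algebraMap A B)))
    Ideal.Quotient.mk_surjective (minpoly (A ⧸ m.comap (algebraMap A B)) (Ideal.Quotient.mk m b))
  have hcomp : (Ideal.Quotient.mk m).comp (algebraMap A B) =
      (algebraMap (A ⧸ m.comap (algebraMap A B)) (B ⧸ m)).comp
        (Ideal.Quotient.mk (m.comap (algebraMap A B))) := by
    ext a; rfl
  have hmap : (F.map (algebraMap A B)).map (Ideal.Quotient.mk m) =
      (minpoly (A ⧸ m.comap (algebraMap A B)) (Ideal.Quotient.mk m b)).map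
        (algebraMap (A ⧸ m.comap (algebraMap A B)) (B ⧸ m)) := by
    rw [Polynomial.map_map, hcomp, ← Polynomial.map_map, hF]
  refine Groth.Agent.Lib.Helper15.Inertia.exists_invariant_of_separable m b
    (F.map (algebraMap A B)) ?_ ?_ ?_
  · intro i γ
    rw [Polynomial.coeff_map]
    exact hinv γ _
  · rw [hmap]
    exact hsep.map
  · rw [← Ideal.Quotient.eq_zero_iff_mem, ← Groth.Agent.Lib.Helper15.Inertia.eval_map_mk, hmap,
      Polynomial.eval_map, ← Polynomial.aeval_def, minpoly.aeval]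

end Rep




open Ideal Module Algebra
open scoped Pointwise
open Groth.Agent.Lib.Helper14InertiaEt

section Card

attribute [local instance] Ideal.Quotient.field

variable {R T : Type*} [CommRing R] [CommRing T] [IsDomain R] [IsDomain T] [Algebra R T]
  [Module.Finite R T] [Module.Flat R T]
  (G : Type*) [Group G] [Finite G] [MulSemiringAction G T] [IsGaloisGroup G R T]
  (p : Ideal R) (Q : Ideal T) [p.IsMaximal] [Q.IsMaximal] [Q.LiesOver p]
  [Algebra.IsSeparable (R ⧸ p) (T ⧸ Q)]

include p in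
theorem card_inertia_eq_ramificationIdx : Nat.card (Q.inertia G) = Q.ramificationIdx R := by
  have h1 := ncard_primesOver_mul_ramificationIdxIn_mul_inertiaDegIn p T G
  rw [ramificationIdxIn_eq_ramificationIdx p Q G, inertiaDegIn_eq_inertiaDeg p Q G] at h1
  have h2 := ncard_primesOver_mul_card_stabilizer G p Q
  have h3 := card_stabilizer_eq G p Q
  have hGpos : 0 < Nat.card G := Nat.card_pos
  have hg : 0 < (p.primesOver T).ncard := by
    rcases Nat.eq_zero_or_pos (p.primesOver T).ncard with h0 | h0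
    · rw [h0, zero_mul] at h1; omega
    · exact h0
  have h8 : Q.ramificationIdx R * Q.inertiaDeg R = Nat.card (MulAction.stabilizer G Q) :=
    Nat.eq_of_mul_eq_mul_left hg (by rw [h1, h2])
  have hf2 : Q.inertiaDeg R = Module.finrank (R ⧸ p) (T ⧸ Q) := inertiaDeg_eq_of_isMaximal p Q
  haveI : Module.Finite (R ⧸ p) (T ⧸ Q) := Module.Finite.of_restrictScalars_finite R _ _
  have h4 : Field.finSepDegree (R ⧸ p) (T ⧸ Q) = Module.finrank (R ⧸ p) (T ⧸ Q) :=
    (Field.finSepDegree_eq_finrank_iff _ _).mpr inferInstance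
  have hfpos : 0 < Q.inertiaDeg R := inertiaDeg_pos Q R
  rw [h3, h4, ← hf2] at h8
  exact (Nat.eq_of_mul_eq_mul_right hfpos h8).symm

end Card




section Abstract

variable {Q κ : Type*} [Group Q] [Finite Q] [Field κ] (f : Q →* κˣ) (hf : Function.Injective f)

include hf

theorem isCyclic_of_inj : IsCyclic Q :=
  isCyclic_of_injective_ringHom ((Units.coeHom κ).comp f)
    (fun _ _ h => hf (Units.ext h))

/-- an injective character from a group of order `e'` identifies it with `μ_e` as soon as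
`e' ∣ e` and every `e`-th root of unity is an `e'`-th root of unity. -/
theorem nonempty_mulEquiv_rootsOfUnity (e : ℕ) (he : Nat.card Q ∣ e)
    (hroots : ∀ x : κˣ, x ^ e = 1 → x ^ Nat.card Q = 1) :
    Nonempty (Q ≃* ↥(rootsOfUnity e κ)) := by
  haveI : NeZero (Nat.card Q) := ⟨Nat.card_pos.ne'⟩
  have h1 : f.range ≤ rootsOfUnity (Nat.card Q) κ := by
    rintro _ ⟨q, rfl⟩
    rw [mem_rootsOfUnity, ← map_pow, pow_card_eq_one', map_one]
  have h2 : Nat.card f.range = Nat.card Q :=
    (Nat.card_congr (MonoidHom.ofInjective hf).toEquiv).symm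
  have h3 : f.range = rootsOfUnity (Nat.card Q) κ :=
    Subgroup.eq_of_le_of_card_ge h1 (by rw [h2]; exact card_rootsOfUnity κ (Nat.card Q))
  have h4 : rootsOfUnity (Nat.card Q) κ = rootsOfUnity e κ := by
    apply le_antisymm (rootsOfUnity_le_of_dvd he)
    intro x hx
    rw [mem_rootsOfUnity] at hx ⊢
    exact hroots x hx
  exact ⟨(MonoidHom.ofInjective hf).trans (MulEquiv.subgroupCongr (h3.trans h4))⟩

theorem not_dvd_card_of_inj (p : ℕ) (hp : p.Prime) [CharP κ p] : ¬ p ∣ Nat.card Q := by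
  intro hdvd
  haveI : Fact p.Prime := ⟨hp⟩
  obtain ⟨x, hx⟩ := exists_prime_orderOf_dvd_card' p hdvd
  have h1 : (f x : κ) ^ p = 1 := by
    rw [← Units.val_pow_eq_pow_val, ← map_pow, ← hx, pow_orderOf_eq_one, map_one, Units.val_one]
  have h2 : (f x : κ) = 1 := by
    apply frobenius_inj κ p
    rw [frobenius_def, frobenius_def, h1, one_pow]
  have h3 : x = 1 := hf (by rw [map_one]; exact Units.ext h2)
  rw [h3, orderOf_one] at hx
  exact hp.one_lt.ne hx

end Abstract

section Abstract2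

variable {H κ : Type*} [Group H] [Finite H] [Field κ] (θ : H →* κˣ) (N : Subgroup H) [N.Normal]
  (hN : θ.ker = N)

include hN

theorem quot_isCyclic : IsCyclic (H ⧸ N) := by
  subst hN
  exact isCyclic_of_inj (QuotientGroup.kerLift θ) (QuotientGroup.kerLift_injective θ)

theorem quot_char_zero (h0 : N = ⊥) :
    Nat.card (H ⧸ N) = Nat.card H ∧ Nonempty (H ⧸ N ≃* ↥(rootsOfUnity (Nat.card H) κ)) := by
  subst hN
  have hc : Nat.card (H ⧸ θ.ker) = Nat.card H := by
    have := Subgroup.card_eq_card_quotient_mul_card_subgroup θ.ker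
    rw [h0, Subgroup.card_bot, mul_one] at this
    rw [h0]; exact this.symm
  refine ⟨hc, ?_⟩
  apply nonempty_mulEquiv_rootsOfUnity (QuotientGroup.kerLift θ) (QuotientGroup.kerLift_injective θ)
  · rw [hc]
  · intro x hx; rw [hc]; exact hx

theorem quot_char_p (p : ℕ) (hp : p.Prime) [CharP κ p] (hPG : IsPGroup p N) :
    Nat.card (H ⧸ N) = Nat.card H / p ^ (Nat.card H).factorization p ∧
      Nonempty (H ⧸ N ≃* ↥(rootsOfUnity (Nat.card H) κ)) := by
  subst hN
  haveI : Fact p.Prime := ⟨hp⟩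
  obtain ⟨a, ha⟩ := (IsPGroup.iff_card (p := p)).mp hPG
  have hmul := Subgroup.card_eq_card_quotient_mul_card_subgroup θ.ker
  rw [ha] at hmul
  have hnd : ¬ p ∣ Nat.card (H ⧸ θ.ker) :=
    not_dvd_card_of_inj (QuotientGroup.kerLift θ) (QuotientGroup.kerLift_injective θ) p hp
  have hqpos : Nat.card (H ⧸ θ.ker) ≠ 0 := Nat.card_pos.ne'
  have hfac : (Nat.card H).factorization p = a := by
    rw [hmul, Nat.factorization_mul hqpos (pow_ne_zero _ hp.ne_zero), Finsupp.add_apply,
      Nat.factorization_eq_zero_of_not_dvd hnd, zero_add, hp.factorization_pow,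
      Finsupp.single_eq_same]
  refine ⟨?_, ?_⟩
  · rw [hfac, hmul, Nat.mul_div_cancel _ (pow_pos hp.pos a)]
  · apply nonempty_mulEquiv_rootsOfUnity (QuotientGroup.kerLift θ)
      (QuotientGroup.kerLift_injective θ)
    · rw [hmul]; exact dvd_mul_right _ _
    · intro x hx
      rw [hmul, pow_mul] at hx
      have h1 : ((x ^ Nat.card (H ⧸ θ.ker) : κˣ) : κ) ^ p ^ a = 1 := by
        rw [← Units.val_pow_eq_pow_val, hx, Units.val_one]
      have h2 : ((x ^ Nat.card (H ⧸ θ.ker) : κˣ) : κ) = 1 := by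
        apply iterateFrobenius_inj κ p a
        rw [iterateFrobenius_def, iterateFrobenius_def, h1, one_pow]
      exact Units.ext h2

end Abstract2



open Ideal
open scoped Pointwise
open Groth.Agent.Lib.Helper14InertiaEt

section Main

attribute [local instance] Ideal.Quotient.field

variable (A K L B : Type u) [CommRing A] [IsDomain A] [IsDiscreteValuationRing A]
    [CommRing B] [IsDomain B] [Field K] [Field L] [Algebra A K] [Algebra B L] [IsFractionRing A K]
    [IsFractionRing B L]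
    [Algebra A B] [Algebra K L] [Algebra A L] [IsScalarTower A K L] [IsScalarTower A B L]
    [IsIntegralClosure B A L]
    [FiniteDimensional K L] [IsGalois K L]
    [MulSemiringAction (L ≃ₐ[K] L) B]
    (hact : ∀ (σ : L ≃ₐ[K] L) (b : B), algebraMap B L (σ • b) = σ (algebraMap B L b))
    (m : Ideal B) [m.IsMaximal]
    [Algebra.IsSeparable (A ⧸ m.comap (algebraMap A B)) (B ⧸ m)]

include hact in
set_option maxHeartbeats 1600000 in
theorem main :
    wild (G := L ≃ₐ[K] L) m ≤ m.inertia (L ≃ₐ[K] L) ∧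
    m.inertia (L ≃ₐ[K] L) ≤ MulAction.stabilizer (L ≃ₐ[K] L) m ∧
    ((wild (G := L ≃ₐ[K] L) m).subgroupOf (MulAction.stabilizer (L ≃ₐ[K] L) m)).Normal ∧
    (∀ p : ℕ, p.Prime → CharP (A ⧸ m.comap (algebraMap A B)) p →
      IsPGroup p (wild (G := L ≃ₐ[K] L) m)) ∧
    (CharZero (A ⧸ m.comap (algebraMap A B)) → wild (G := L ≃ₐ[K] L) m = ⊥) ∧
    (∀ [((wild (G := L ≃ₐ[K] L) m).subgroupOf (m.inertia (L ≃ₐ[K] L))).Normal],
      IsCyclic (m.inertia (L ≃ₐ[K] L) ⧸ (wild (G := L ≃ₐ[K] L) m).subgroupOf (m.inertia (L ≃ₐ[K] L))) ∧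
      (∀ p : ℕ, p.Prime → CharP (A ⧸ m.comap (algebraMap A B)) p →
        Nat.card (m.inertia (L ≃ₐ[K] L) ⧸
          (wild (G := L ≃ₐ[K] L) m).subgroupOf (m.inertia (L ≃ₐ[K] L))) =
          Ideal.ramificationIdx' (IsLocalRing.maximalIdeal A) m /
            p ^ (Ideal.ramificationIdx' (IsLocalRing.maximalIdeal A) m).factorization p) ∧
      (CharZero (A ⧸ m.comap (algebraMap A B)) →
        Nat.card (m.inertia (L ≃ₐ[K] L) ⧸
          (wild (G := L ≃ₐ[K] L) m).subgroupOf (m.inertia (L ≃ₐ[K] L))) =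
          Ideal.ramificationIdx' (IsLocalRing.maximalIdeal A) m) ∧
      Nonempty (m.inertia (L ≃ₐ[K] L) ⧸
          (wild (G := L ≃ₐ[K] L) m).subgroupOf (m.inertia (L ≃ₐ[K] L)) ≃*
        ↥(rootsOfUnity (Ideal.ramificationIdx' (IsLocalRing.maximalIdeal A) m) (B ⧸ m)))) := by
  haveI : IsDedekindDomain B := IsIntegralClosure.isDedekindDomain A K L B
  haveI : Module.Finite A B := IsIntegralClosure.finite A K L B
  have hinjAL : Function.Injective (algebraMap A L) := by
    rw [IsScalarTower.algebraMap_eq A K L]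
    exact (algebraMap K L).injective.comp (IsFractionRing.injective A K)
  have hinjAB : Function.Injective (algebraMap A B) := by
    intro x y hxy
    apply hinjAL
    rw [IsScalarTower.algebraMap_apply A B L, hxy, ← IsScalarTower.algebraMap_apply A B L]
  haveI : FaithfulSMul A B := (faithfulSMul_iff_algebraMap_injective A B).mpr hinjAB
  haveI hG := isGaloisGroup_top A K L B hact
  haveI : Algebra.IsIntegral A B := IsIntegralClosure.isIntegral_algebra A L
  haveI hpmax : (m.comap (algebraMap A B)).IsMaximal :=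
    Ideal.isMaximal_comap_of_isIntegral_of_isMaximal m
  have hpeq : m.comap (algebraMap A B) = IsLocalRing.maximalIdeal A :=
    IsLocalRing.eq_maximalIdeal hpmax
  haveI : m.LiesOver (m.comap (algebraMap A B)) := ⟨rfl⟩
  haveI : m.LiesOver (IsLocalRing.maximalIdeal A) := ⟨hpeq.symm⟩
  haveI : FaithfulSMul (L ≃ₐ[K] L) B := hG.faithful
  haveI : SMulCommClass (L ≃ₐ[K] L) A B := hG.commutes
  have hinv : ∀ (g : L ≃ₐ[K] L) (a : A), g • algebraMap A B a = algebraMap A B a :=
    fun g a => smul_algebraMap g a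
  have hmA : IsLocalRing.maximalIdeal A ≠ ⊥ := IsDiscreteValuationRing.not_a_field A
  have hm0 : m ≠ ⊥ := by
    intro h
    apply hmA
    rw [← hpeq, h, Ideal.comap_bot_of_injective _ hinjAB]
  have hmtop : m ≠ ⊤ := Ideal.IsMaximal.ne_top ‹_›
  obtain ⟨π, hπ, hπ2⟩ : ∃ π, π ∈ m ∧ π ∉ m ^ 2 := by
    have := Ideal.pow_right_strictAnti m hm0 hmtop (show 1 < 2 by norm_num)
    obtain ⟨x, hx, hx2⟩ := SetLike.exists_of_lt this
    exact ⟨x, by simpa using hx, hx2⟩
  -- cardinality of inertia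
  have hcard : Nat.card (m.inertia (L ≃ₐ[K] L)) =
      Ideal.ramificationIdx' (IsLocalRing.maximalIdeal A) m := by
    rw [Ideal.ramificationIdx'_eq_ramificationIdx (IsLocalRing.maximalIdeal A) m hmA]
    exact card_inertia_eq_ramificationIdx (L ≃ₐ[K] L) (m.comap (algebraMap A B)) m
  -- characteristic facts
  have hcharp : ∀ p : ℕ, CharP (A ⧸ m.comap (algebraMap A B)) p → (p : B) ∈ m := by
    intro p hp
    have h1 : ((p : A) : A ⧸ m.comap (algebraMap A B)) = 0 := by
      rw [map_natCast]; exact CharP.cast_eq_zero _ p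
    rw [Ideal.Quotient.eq_zero_iff_mem, Ideal.mem_comap, map_natCast] at h1
    exact h1
  have hchar0 : CharZero (A ⧸ m.comap (algebraMap A B)) → ∀ r : ℕ, r ≠ 0 → (r : B) ∉ m := by
    intro h0 r hr hrm
    have h1 : ((r : A) : A ⧸ m.comap (algebraMap A B)) = 0 := by
      rw [Ideal.Quotient.eq_zero_iff_mem, Ideal.mem_comap, map_natCast]
      exact hrm
    rw [map_natCast] at h1
    exact hr (Nat.cast_eq_zero.mp h1)
  have hP : ∀ p : ℕ, p.Prime → CharP (A ⧸ m.comap (algebraMap A B)) p →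
      IsPGroup p (wild (G := L ≃ₐ[K] L) m) :=
    fun p hp hc => wild_isPGroup m p hp (hcharp p hc)
  have hP0 : CharZero (A ⧸ m.comap (algebraMap A B)) → wild (G := L ≃ₐ[K] L) m = ⊥ :=
    fun h0 => wild_eq_bot m (hchar0 h0)
  refine ⟨wild_le_inertia m, Ideal.inertia_le_stabilizer m, wild_normal m, hP, hP0, ?_⟩
  intro hnorm
  -- kernel of theta
  have hker : (theta m hm0 hπ hπ2).ker =
      (wild (G := L ≃ₐ[K] L) m).subgroupOf (m.inertia (L ≃ₐ[K] L)) := by
    ext σ
    rw [MonoidHom.mem_ker, Subgroup.mem_subgroupOf, theta_eq_one_iff]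
    constructor
    · intro h
      exact mem_wild_of_smul_pi m hm0 hπ hπ2 σ.2 h
        (exists_inertia_invariant_rep (A := A) m hinv)
    · intro h
      exact h.2 π
  have hcharB : ∀ p : ℕ, CharP (A ⧸ m.comap (algebraMap A B)) p → CharP (B ⧸ m) p := by
    intro p hp
    exact charP_of_injective_algebraMap
      (algebraMap (A ⧸ m.comap (algebraMap A B)) (B ⧸ m)).injective p
  have hcyc := quot_isCyclic (theta m hm0 hπ hπ2) _ hker
  have hpcase : ∀ p : ℕ, p.Prime → CharP (A ⧸ m.comap (algebraMap A B)) p →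
      Nat.card (m.inertia (L ≃ₐ[K] L) ⧸
          (wild (G := L ≃ₐ[K] L) m).subgroupOf (m.inertia (L ≃ₐ[K] L))) =
          Ideal.ramificationIdx' (IsLocalRing.maximalIdeal A) m /
            p ^ (Ideal.ramificationIdx' (IsLocalRing.maximalIdeal A) m).factorization p ∧
      Nonempty (m.inertia (L ≃ₐ[K] L) ⧸
          (wild (G := L ≃ₐ[K] L) m).subgroupOf (m.inertia (L ≃ₐ[K] L)) ≃*
        ↥(rootsOfUnity (Ideal.ramificationIdx' (IsLocalRing.maximalIdeal A) m) (B ⧸ m))) := by
    intro p hp hc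
    haveI := hcharB p hc
    have := quot_char_p (theta m hm0 hπ hπ2) _ hker p hp ((hP p hp hc).comap_subtype)
    rw [hcard] at this
    exact this
  have h0case : CharZero (A ⧸ m.comap (algebraMap A B)) →
      Nat.card (m.inertia (L ≃ₐ[K] L) ⧸
          (wild (G := L ≃ₐ[K] L) m).subgroupOf (m.inertia (L ≃ₐ[K] L))) =
          Ideal.ramificationIdx' (IsLocalRing.maximalIdeal A) m ∧
      Nonempty (m.inertia (L ≃ₐ[K] L) ⧸
          (wild (G := L ≃ₐ[K] L) m).subgroupOf (m.inertia (L ≃ₐ[K] L)) ≃*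
        ↥(rootsOfUnity (Ideal.ramificationIdx' (IsLocalRing.maximalIdeal A) m) (B ⧸ m))) := by
    intro h0
    have := quot_char_zero (theta m hm0 hπ hπ2) _ hker (by rw [hP0 h0, Subgroup.bot_subgroupOf])
    rw [hcard] at this
    exact this
  refine ⟨hcyc, fun p hp hc => (hpcase p hp hc).1, fun h0 => (h0case h0).1, ?_⟩
  obtain ⟨p, hc⟩ := CharP.exists (A ⧸ m.comap (algebraMap A B))
  rcases CharP.char_is_prime_or_zero (A ⧸ m.comap (algebraMap A B)) p with hp | hp
  · exact (hpcase p hp hc).2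
  · subst hp
    exact (h0case (CharP.charP_to_charZero _)).2

end Main


end Groth.Agent.Lib.Helper14InertiaStr
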