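import Mathlib
import Groth.Agent.Lib.Helper14InertiaStr
import Groth.Agent.Lib.Helper14GalEtale
import Groth.Agent.Lib.Helper28GeomRed1

/-!
# Inertia trivial iff unramified, for Galois extensions of complete normal local domains (S18535)
-/

set_option autoImplicit false
universe u

namespace Groth.Agent.Lib.Helper14InertiaUnr


open IsLocalRing

section Fin
variable (R S G : Type u) [CommRing R] [CommRing S] [IsDomain R] [IsDomain S]
    [IsNoetherianRing R] [IsIntegrallyClosed R]
    [Algebra R S] [FaithfulSMul R S] [IsIntegrallyClosed S]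
    [Group G] [Finite G] [MulSemiringAction G S] [SMulCommClass G R S] [IsGaloisGroup G R S]

include G in
theorem isIntegral_of_galois : Algebra.IsIntegral R S := by
  have := (IsGaloisGroup.isInvariant (G := G) (A := R) (B := S))
  exact Algebra.IsInvariant.isIntegral R S G

include G in
theorem finite_of_galois : Module.Finite R S := by
  classical
  let K := FractionRing R
  let L := FractionRing S
  letI : Algebra K L := FractionRing.liftAlgebra R L
  haveI : IsScalarTower R K L := FractionRing.isScalarTower_liftAlgebra R L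
  letI : MulSemiringAction G L := IsFractionRing.mulSemiringAction G S L
  haveI : IsGaloisGroup G K L := IsGaloisGroup.to_isFractionRing G R S K L
  haveI : IsGalois K L := IsGaloisGroup.isGalois G K L
  haveI : FiniteDimensional K L := IsGaloisGroup.finiteDimensional G K L
  haveI : Algebra.IsIntegral R S := isIntegral_of_galois R S G
  haveI : IsIntegralClosure S R L := IsIntegralClosure.of_isIntegrallyClosed S R L
  exact IsIntegralClosure.finite R K L S

end Fin



open IsLocalRing
open Groth.Agent.Lib.Helper14InertiaStr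

section Rep
variable {A B : Type*} [CommRing A] [CommRing B] [Algebra A B]
  {G : Type*} [Group G] [Finite G] [MulSemiringAction G B] (p : Ideal A) (m : Ideal B) [m.IsMaximal]
  [m.LiesOver p]
  (hinv : ∀ (g : G) (a : A), g • algebraMap A B a = algebraMap A B a)
  [Algebra.IsSeparable (A ⧸ p) (B ⧸ m)]

include p hinv in
theorem exists_inertia_invariant_rep' (b : B) :
    ∃ c : B, (∀ γ ∈ m.inertia G, γ • c = c) ∧ b - c ∈ m := by
  obtain rfl : p = m.under A := Ideal.LiesOver.over
  exact exists_inertia_invariant_rep (A := A) m hinv b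

include hinv in
/-- if `pB = m` and the residue extension is separable then the inertia group acts trivially
modulo every power of `m`. -/
theorem inertia_smul_sub_mem_pow (hpm : p.map (algebraMap A B) = m)
    (σ : G) (hσ : σ ∈ m.inertia G) (k : ℕ) : ∀ x : B, σ • x - x ∈ m ^ k := by
  induction k with
  | zero => intro x; simp
  | succ k ih =>
    have key : ∀ y ∈ Submodule.span B ((algebraMap A B) '' p),
        y ∈ m ∧ σ • y - y ∈ m ^ (k + 1) := by
      intro y hy'
      induction hy' using Submodule.span_induction with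
      | mem z hz =>
        obtain ⟨a, ha, rfl⟩ := hz
        refine ⟨?_, ?_⟩
        · rw [← hpm]; exact Ideal.mem_map_of_mem _ ha
        · rw [hinv, sub_self]; exact zero_mem _
      | zero => exact ⟨zero_mem _, by rw [smul_zero, sub_zero]; exact zero_mem _⟩
      | add u v _ _ hu hv =>
        refine ⟨add_mem hu.1 hv.1, ?_⟩
        have : σ • (u + v) - (u + v) = (σ • u - u) + (σ • v - v) := by
          rw [smul_add]; ring
        rw [this]
        exact add_mem hu.2 hv.2
      | smul a u _ hu =>
        refine ⟨m.mul_mem_left a hu.1, ?_⟩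
        have : σ • (a • u) - a • u = σ • a * (σ • u - u) + (σ • a - a) * u := by
          rw [smul_eq_mul, smul_mul']; ring
        rw [this]
        refine add_mem (Ideal.mul_mem_left _ _ hu.2) ?_
        rw [pow_succ]
        exact Ideal.mul_mem_mul (ih a) hu.1
    intro x
    obtain ⟨c, hc, hxc⟩ := exists_inertia_invariant_rep' p m hinv x
    have e : σ • x - x = σ • (x - c) - (x - c) := by
      rw [smul_sub, hc σ hσ]; ring
    rw [e]
    refine (key _ ?_).2
    have : x - c ∈ p.map (algebraMap A B) := by rw [hpm]; exact hxc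
    exact this

end Rep



theorem exists_trivial_stabilizer (H E : Type*) [Group H] [Finite H] [Field E]
    [MulSemiringAction H E] [FaithfulSMul H E] : ∃ θ : E, ∀ h : H, h • θ = θ → h = 1 := by
  classical
  obtain ⟨α, hα⟩ := Field.exists_primitive_element (FixedPoints.subfield H E) E
  refine ⟨α, fun h hh => ?_⟩
  apply (FixedPoints.toAlgHom_bijective H E).1
  have hadj : Algebra.adjoin (FixedPoints.subfield H E) {α} = ⊤ := by
    have h1 := IntermediateField.adjoin_simple_toSubalgebra_of_isAlgebraic
      (F := FixedPoints.subfield H E) (α := α) (Algebra.IsAlgebraic.isAlgebraic α)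
    rw [← h1, hα]
    rfl
  apply AlgHom.ext_of_adjoin_eq_top hadj
  intro x hx
  rw [Set.mem_singleton_iff] at hx
  subst hx
  show h • x = (1 : H) • x
  rw [hh, one_smul]



open scoped Pointwise

theorem exists_theta {A B G : Type*} [CommRing A] [CommRing B] [Algebra A B] [Group G] [Finite G]
    [MulSemiringAction G B] [SMulCommClass G A B] (p : Ideal A) (P : Ideal B) [P.IsMaximal]
    [P.LiesOver p] (hI : P.inertia G = ⊥) :
    ∃ θ : B, ∀ σ : G, σ • P = P → σ • θ - θ ∈ P → σ = 1 := by
  classical
  letI : Field (B ⧸ P) := Ideal.Quotient.field P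
  let H := MulAction.stabilizer G P
  let φ : H →* ((B ⧸ P) ≃ₐ[A ⧸ p] (B ⧸ P)) := Ideal.Quotient.stabilizerHom P p G
  have hφ : Function.Injective φ := by
    rw [injective_iff_map_eq_one]
    intro h hh
    have : (h : G) ∈ P.inertia G := by
      intro b
      have h1 : φ h (Ideal.Quotient.mk P b) = Ideal.Quotient.mk P b := by
        rw [hh]; rfl
      rw [Ideal.Quotient.stabilizerHom_apply] at h1
      exact Ideal.Quotient.eq.mp h1
    rw [hI, Subgroup.mem_bot] at this
    exact Subtype.ext this
  letI : MulSemiringAction H (B ⧸ P) := MulSemiringAction.compHom (B ⧸ P) φ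
  have hsmul : ∀ (h : H) (e : B ⧸ P), h • e = φ h e := fun h e => rfl
  haveI : FaithfulSMul H (B ⧸ P) := ⟨fun {h1 h2} hh => hφ (AlgEquiv.ext fun e => by
    rw [← hsmul, ← hsmul]; exact hh e)⟩
  obtain ⟨θ', hθ'⟩ := exists_trivial_stabilizer H (B ⧸ P)
  obtain ⟨θ, rfl⟩ := Ideal.Quotient.mk_surjective θ'
  refine ⟨θ, fun σ hσ hmem => ?_⟩
  have := hθ' ⟨σ, hσ⟩ (by
    rw [hsmul, Ideal.Quotient.stabilizerHom_apply]
    exact Ideal.Quotient.eq.mpr hmem)
  exact congrArg Subtype.val this



open scoped Pointwise
open Groth.Agent.Lib.Helper14GalEtale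

theorem delta_notMem {S G : Type*} [CommRing S] [Group G] [Fintype G] [DecidableEq G]
    [MulSemiringAction G S] (n : Ideal S) [n.IsPrime] (hstab : ∀ σ : G, σ • n = n) (θ : S)
    (hθ : ∀ σ : G, σ • θ - θ ∈ n → σ = 1) : delta G θ ∉ n := by
  intro hmem
  unfold delta at hmem
  rw [Ideal.IsPrime.prod_mem_iff] at hmem
  obtain ⟨g, -, hg⟩ := hmem
  unfold dfac at hg
  rw [Ideal.IsPrime.prod_mem_iff] at hg
  obtain ⟨h, -, hh⟩ := hg
  split_ifs at hh with hgh
  · exact (Ideal.IsPrime.ne_top ‹_›) (n.eq_top_of_isUnit_mem hh isUnit_one)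
  · have h1 : h⁻¹ • (g • θ - h • θ) ∈ n := by
      have := Ideal.smul_mem_pointwise_smul h⁻¹ _ n hh
      rwa [hstab] at this
    have h2 : h⁻¹ • (g • θ - h • θ) = (h⁻¹ * g) • θ - θ := by
      rw [smul_sub, inv_smul_smul, mul_smul]
    rw [h2] at h1
    have := hθ _ h1
    apply hgh
    rw [inv_mul_eq_one] at this
    exact this



open scoped Pointwise
open IsLocalRing
open Groth.Agent.Lib.Helper14GalEtale

section Main
variable (R S G : Type u) [CommRing R] [CommRing S] [IsDomain R] [IsDomain S]
    [IsNoetherianRing R] [IsLocalRing R] [IsIntegrallyClosed R]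
    [IsAdicComplete (IsLocalRing.maximalIdeal R) R]
    [Algebra R S] [FaithfulSMul R S] [IsIntegrallyClosed S]
    [Group G] [Finite G] [MulSemiringAction G S] [SMulCommClass G R S] [IsGaloisGroup G R S]
    (n : Ideal S) [n.IsMaximal] [n.LiesOver (IsLocalRing.maximalIdeal R)]

theorem smul_maximalIdeal {S G : Type*} [CommRing S] [IsLocalRing S] [Group G]
    [MulSemiringAction G S] (σ : G) : σ • maximalIdeal S = maximalIdeal S := by
  ext x
  rw [Ideal.mem_pointwise_smul_iff_inv_smul_mem, mem_maximalIdeal, mem_maximalIdeal,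
    mem_nonunits_iff, mem_nonunits_iff]
  exact not_congr (isUnit_map_iff (MulSemiringAction.toRingEquiv G S σ⁻¹) x)

theorem forward (hI : n.inertia G = ⊥) :
    (IsLocalRing.maximalIdeal R).map (algebraMap R S) = n ∧
        Module.Finite (R ⧸ IsLocalRing.maximalIdeal R) (S ⧸ n) ∧
        Algebra.IsSeparable (R ⧸ IsLocalRing.maximalIdeal R) (S ⧸ n) := by
  classical
  haveI : Module.Finite R S := finite_of_galois R S G
  haveI : HenselianLocalRing R :=
    Groth.Agent.Lib.Helper28.GeomRed.henselianLocalRing_of_isAdicComplete R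
  haveI : IsLocalRing S := Groth.Agent.Lib.Helper28.GeomRed.isLocalRing_of_finite_of_isDomain R S
  obtain rfl : n = maximalIdeal S := IsLocalRing.eq_maximalIdeal ‹_›
  have hstab : ∀ σ : G, σ • maximalIdeal S = maximalIdeal S := fun σ => smul_maximalIdeal σ
  obtain ⟨θ, hθ⟩ := exists_theta (A := R) (maximalIdeal R) (maximalIdeal S) hI
  letI : Fintype G := Fintype.ofFinite G
  have hδ : delta G θ ∉ maximalIdeal S :=
    delta_notMem (maximalIdeal S) hstab θ (fun σ h => hθ σ (hstab σ) h)
  have hδu : IsUnit (delta G θ) := by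
    by_contra h
    exact hδ ((mem_maximalIdeal _).2 h)
  haveI : Algebra.IsInvariant R S G := IsGaloisGroup.isInvariant
  have hδ0 : delta G θ ≠ 0 := hδu.ne_zero
  haveI := isStandardEtale_away (B := R) θ hδ0
  let e1 : S ≃ₐ[S] Localization.Away (delta G θ) :=
    IsLocalization.atUnits S (Submonoid.powers (delta G θ)) (by
      rintro x ⟨k, rfl⟩
      exact hδu.pow k)
  let e : S ≃ₐ[R] Localization.Away (delta G θ) := e1.restrictScalars R
  haveI : Algebra.FormallyUnramified R (Localization.Away (delta G θ)) := inferInstance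
  haveI : Algebra.FormallyUnramified R S := Algebra.FormallyUnramified.of_equiv e.symm
  haveI : IsLocalHom (algebraMap R S) := by
    refine ⟨fun a ha => ?_⟩
    by_contra h
    have h1 : a ∈ maximalIdeal R := (mem_maximalIdeal _).2 h
    rw [Ideal.LiesOver.over (p := maximalIdeal R) (P := maximalIdeal S)] at h1
    exact ((mem_maximalIdeal _).1 h1) ha
  obtain ⟨hsep, hmap⟩ := Algebra.FormallyUnramified.iff_map_maximalIdeal_eq.mp
    (inferInstance : Algebra.FormallyUnramified R S)
  refine ⟨hmap, ?_, ?_⟩
  · exact Module.Finite.of_restrictScalars_finite R _ _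
  · exact hsep

theorem backward (hmap : (IsLocalRing.maximalIdeal R).map (algebraMap R S) = n)
    [Algebra.IsSeparable (R ⧸ IsLocalRing.maximalIdeal R) (S ⧸ n)] : n.inertia G = ⊥ := by
  haveI : Module.Finite R S := finite_of_galois R S G
  haveI : IsNoetherianRing S := IsNoetherianRing.of_finite R S
  haveI : FaithfulSMul G S := IsGaloisGroup.faithful R
  rw [_root_.eq_bot_iff]
  intro σ hσ
  rw [Subgroup.mem_bot]
  have hinv : ∀ (g : G) (a : R), g • algebraMap R S a = algebraMap R S a :=
    fun g a => smul_algebraMap g a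
  have hall : ∀ x : S, σ • x = x := by
    intro x
    have h1 : σ • x - x ∈ (⨅ k : ℕ, n ^ k) := by
      rw [Ideal.mem_iInf]
      intro k
      exact inertia_smul_sub_mem_pow (IsLocalRing.maximalIdeal R) n hinv hmap σ hσ k x
    rw [Ideal.iInf_pow_eq_bot_of_isDomain n (Ideal.IsMaximal.ne_top ‹_›), Ideal.mem_bot,
      sub_eq_zero] at h1
    exact h1
  exact eq_of_smul_eq_smul (α := S) fun x => by rw [hall x, one_smul]

theorem main :
    n.toAddSubgroup.inertia G = ⊥ ↔
      ((IsLocalRing.maximalIdeal R).map (algebraMap R S) = n ∧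
        Module.Finite (R ⧸ IsLocalRing.maximalIdeal R) (S ⧸ n) ∧
        Algebra.IsSeparable (R ⧸ IsLocalRing.maximalIdeal R) (S ⧸ n)) := by
  constructor
  · intro h
    exact forward R S G n h
  · rintro ⟨h1, _, h3⟩
    exact backward R S G n h1

end Main


end Groth.Agent.Lib.Helper14InertiaUnr
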