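import Mathlib
import Groth.Prelude.Def_Pi1
import Groth.Agent.Lib.Helper14InertiaUnr

/-!
# Invariants of the inertia group are étale over the invariants of the whole group (S0271)

General Lagrange-interpolation criterion (`isStandardEtale_of_lagrange`), its group form
`exists_isStandardEtale` (for `θ ∈ R^H`, `R^H[1/∏_{c ≠ H}(θ - cθ)]` is standard étale over `R^G`,
no domain hypothesis), and the construction of a separating element for the inertia group.
-/

set_option autoImplicit false
universe u

namespace Groth.Agent.Lib.Helper14QuotEtale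


open Polynomial

section Poly
variable {R ι : Type*} [CommRing R] [Fintype ι] [DecidableEq ι] (x : ι → R)

/-- `∏ (X - x i)` -/
noncomputable def fprod : R[X] := ∏ i, (X - C (x i))

/-- `∏_{j ≠ i} (X - x j)` -/
noncomputable def fpart (i : ι) : R[X] := ∏ j ∈ Finset.univ.erase i, (X - C (x j))

theorem fprod_monic : (fprod x).Monic :=
  monic_prod_of_monic _ _ (fun i _ => monic_X_sub_C (x i))

theorem mul_fpart (i : ι) : (X - C (x i)) * fpart x i = fprod x := by
  unfold fpart fprod
  exact Finset.mul_prod_erase Finset.univ (fun j => X - C (x j)) (Finset.mem_univ i)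

theorem derivative_fprod : derivative (fprod x) = ∑ i, fpart x i := by
  unfold fprod fpart
  rw [derivative_prod_finset]
  refine Finset.sum_congr rfl (fun i _ => ?_)
  rw [derivative_sub, derivative_X, derivative_C, sub_zero, mul_one]

theorem eval_fpart_ne {i j : ι} (h : i ≠ j) : (fpart x i).eval (x j) = 0 := by
  unfold fpart
  rw [eval_prod]
  refine Finset.prod_eq_zero (Finset.mem_erase.2 ⟨h.symm, Finset.mem_univ j⟩) ?_
  simp

theorem eval_derivative_fprod (i : ι) :
    (derivative (fprod x)).eval (x i) = (fpart x i).eval (x i) := by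
  rw [derivative_fprod, eval_finsetSum]
  refine Finset.sum_eq_single i (fun j _ hj => eval_fpart_ne x hj) (fun h => ?_)
  exact absurd (Finset.mem_univ i) h

theorem fprod_dvd_mul_derivative (c : R[X]) (hc : ∀ i, c.eval (x i) = 0) :
    fprod x ∣ c * derivative (fprod x) := by
  rw [derivative_fprod, Finset.mul_sum]
  refine Finset.dvd_sum (fun i _ => ?_)
  have h1 : (X - C (x i)) ∣ c := dvd_iff_isRoot.mpr (hc i)
  obtain ⟨w, hw⟩ := h1
  refine ⟨w, ?_⟩
  rw [hw, ← mul_fpart x i]
  ring

/-- Lagrange-type interpolation polynomial (not normalised) -/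
noncomputable def lagr (z : ι → R) : R[X] := ∑ i, C (z i) * fpart x i

theorem eval_lagr (z : ι → R) (i : ι) :
    (lagr x z).eval (x i) = z i * (derivative (fprod x)).eval (x i) := by
  unfold lagr
  rw [eval_finsetSum, eval_derivative_fprod]
  rw [Finset.sum_eq_single i]
  · rw [eval_mul, eval_C]
  · intro j _ hj
    rw [eval_mul, eval_fpart_ne x hj, mul_zero]
  · intro h; exact absurd (Finset.mem_univ i) h

end Poly

section Inv
variable {R ι G : Type*} [CommRing R] [Fintype ι] [DecidableEq ι] [Group G] [MulSemiringAction G R]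
  [MulAction G ι] (x : ι → R) (hx : ∀ (g : G) (i : ι), g • x i = x (g • i))

theorem smul_X_sub_C (g : G) (a : R) : g • (X - C a : R[X]) = X - C (g • a) := by
  rw [smul_sub, smul_X, smul_C]

include hx in
theorem smul_fprod (g : G) : g • fprod x = fprod x := by
  unfold fprod
  rw [Finset.smul_prod']
  simp_rw [smul_X_sub_C, hx]
  exact Fintype.prod_equiv (MulAction.toPerm g) _ _ (fun i => rfl)

include hx in
theorem smul_fpart (g : G) (i : ι) : g • fpart x i = fpart x (g • i) := by
  unfold fpart
  rw [Finset.smul_prod']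
  simp_rw [smul_X_sub_C, hx]
  refine Finset.prod_equiv (MulAction.toPerm g) (fun j => ?_) (fun j _ => rfl)
  simp only [Finset.mem_erase, Finset.mem_univ, and_true, MulAction.toPerm_apply, ne_eq,
    smul_left_cancel_iff]

include hx in
theorem smul_lagr (z : ι → R) (hz : ∀ (g : G) (i : ι), g • z i = z (g • i)) (g : G) :
    g • lagr x z = lagr x z := by
  unfold lagr
  rw [Finset.smul_sum]
  simp_rw [smul_mul', smul_C, smul_fpart x hx, hz]
  exact Fintype.sum_equiv (MulAction.toPerm g) _ _ (fun i => rfl)

end Inv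



open Polynomial

section Abstract
variable {B T : Type*} [CommRing B] [CommRing T] [Algebra B T] (θ : T) (F : B[X])

/-- abstract criterion: if `T` is generated by `θ` up to the derivative of a monic polynomial `F`
killing `θ`, and the relations of `θ` are generated by `F` up to the derivative, then
`T[1/F'(θ)]` is standard étale over `B`. -/
theorem isStandardEtale_of_lagrange (hF : F.Monic) (hFθ : aeval θ F = 0)
    (hS : ∀ z : T, ∃ c : B[X], aeval θ c = z * aeval θ (derivative F))
    (hI : ∀ c : B[X], aeval θ c = 0 → F ∣ c * derivative F) :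
    Algebra.IsStandardEtale B (Localization.Away (aeval θ (derivative F))) := by
  set g : T := aeval θ (derivative F) with hg
  let P : StandardEtalePair B := ⟨F, hF, derivative F, 1, 0, 1, by ring⟩
  let Tg := Localization.Away g
  let x : Tg := algebraMap T Tg θ
  have hmap : P.HasMap x := by
    refine ⟨?_, ?_⟩
    · change aeval (algebraMap T Tg θ) F = 0
      rw [Polynomial.aeval_algebraMap_apply, hFθ, map_zero]
    · change IsUnit (aeval x (derivative F))
      rw [Polynomial.aeval_algebraMap_apply]
      exact IsLocalization.Away.algebraMap_isUnit g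
  let φ := P.lift x hmap
  have hφX : φ P.X = x := P.lift_X x hmap
  have hφaeval : ∀ c : B[X], φ (aeval P.X c) = algebraMap T Tg (aeval θ c) := by
    intro c
    rw [← Polynomial.aeval_algHom_apply, hφX, Polynomial.aeval_algebraMap_apply]
  let u : P.Ringˣ := P.hasMap_X.2.unit
  have hu : (u : P.Ring) = aeval P.X (derivative F) := rfl
  have hφu : φ (u : P.Ring) = algebraMap T Tg g := by
    rw [hu, hφaeval]
  have hinv : φ ((u⁻¹ : P.Ringˣ) : P.Ring) * algebraMap T Tg g = 1 := by
    rw [← hφu, ← map_mul, Units.inv_mul, map_one]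
  refine ⟨⟨⟨P, x, hmap, ⟨?_, ?_⟩⟩⟩⟩
  · -- injective
    rw [injective_iff_map_eq_zero]
    intro y hy
    let P' : StandardEtalePresentation B P.Ring :=
      ⟨P, P.X, P.hasMap_X, by simpa [StandardEtalePair.lift_X_left] using Function.bijective_id⟩
    obtain ⟨p, n, hp⟩ := P'.exists_mul_aeval_x_g_pow_eq_aeval_x y
    change y * aeval P.X (derivative F) ^ n = aeval P.X p at hp
    have h1 : φ (aeval P.X p) = 0 := by
      rw [← hp, map_mul]
      change φ y * _ = 0
      rw [hy, zero_mul]
    rw [hφaeval] at h1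
    obtain ⟨⟨_, k, rfl⟩, hk⟩ := (IsLocalization.map_eq_zero_iff (Submonoid.powers g) Tg _).mp h1
    have h2 : aeval θ (derivative F ^ k * p) = 0 := by
      rw [map_mul, map_pow]; exact hk
    obtain ⟨d, hd⟩ := hI _ h2
    have h3 : aeval P.X (derivative F ^ k * p * derivative F) = 0 := by
      rw [hd, map_mul]
      have : aeval P.X F = 0 := P.hasMap_X.1
      rw [this, zero_mul]
    rw [map_mul, map_mul, map_pow, ← hu] at h3
    have h4 : aeval P.X p = 0 := by
      have h5 : (u : P.Ring) ^ k * aeval P.X p * u = 0 := h3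
      have h6 : ((u ^ (k + 1) : P.Ringˣ) : P.Ring) * aeval P.X p = 0 := by
        rw [Units.val_pow_eq_pow_val, pow_succ]
        calc (u : P.Ring) ^ k * u * aeval P.X p = (u : P.Ring) ^ k * aeval P.X p * u := by ring
          _ = 0 := h5
      exact (Units.mul_right_eq_zero _).mp h6
    rw [h4, ← hu] at hp
    exact (Units.mul_left_eq_zero (u ^ n)).mp (by simpa using hp)
  · -- surjective
    intro y
    obtain ⟨n, a, ha⟩ := IsLocalization.Away.surj g y
    obtain ⟨c, hc⟩ := hS a
    refine ⟨aeval P.X c * ((u⁻¹ : P.Ringˣ) : P.Ring) * ((u⁻¹ : P.Ringˣ) : P.Ring) ^ n, ?_⟩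
    change φ _ = y
    rw [map_mul, map_mul, map_pow, hφaeval, hc, map_mul]
    set d := algebraMap T Tg g
    set di := φ ((u⁻¹ : P.Ringˣ) : P.Ring)
    have h1 : algebraMap T Tg a * d * di = algebraMap T Tg a := by
      rw [mul_assoc, mul_comm d di, hinv, mul_one]
    rw [h1, ← ha, mul_assoc, ← mul_pow, mul_comm d di, hinv, one_pow, mul_one]

end Abstract



open Polynomial

section Group
variable {G R : Type u} [Group G] [CommRing R] [MulSemiringAction G R] (H : Subgroup G)

theorem smul_eq_of_mk_eq (t : FixedPoints.subring R H) {a b : G}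
    (h : (a : G ⧸ H) = (b : G ⧸ H)) : a • (t : R) = b • (t : R) := by
  have h1 : a⁻¹ * b ∈ H := QuotientGroup.eq.mp h
  have h2 : (a⁻¹ * b) • (t : R) = t := t.2 ⟨a⁻¹ * b, h1⟩
  calc a • (t : R) = a • ((a⁻¹ * b) • (t : R)) := by rw [h2]
    _ = b • (t : R) := by rw [← mul_smul, mul_inv_cancel_left]

/-- the conjugate of `t ∈ R^H` attached to a coset -/
noncomputable def conj (t : FixedPoints.subring R H) (c : G ⧸ H) : R := c.out • (t : R)

theorem conj_mk (t : FixedPoints.subring R H) (a : G) : conj H t (a : G ⧸ H) = a • (t : R) := by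
  unfold conj
  exact smul_eq_of_mk_eq H t (QuotientGroup.out_eq' _)

theorem smul_conj (t : FixedPoints.subring R H) (g : G) (c : G ⧸ H) :
    g • conj H t c = conj H t (g • c) := by
  obtain ⟨a, rfl⟩ := QuotientGroup.mk_surjective c
  rw [conj_mk, ← mul_smul]
  have : g • (a : G ⧸ H) = ((g * a : G) : G ⧸ H) := rfl
  rw [this, conj_mk]

theorem conj_one (t : FixedPoints.subring R H) : conj H t ((1 : G) : G ⧸ H) = t := by
  rw [conj_mk, one_smul]

theorem conj_mul (s t : FixedPoints.subring R H) (c : G ⧸ H) :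
    conj H (s * t) c = conj H s c * conj H t c := by
  unfold conj
  rw [Subring.coe_mul, smul_mul']

end Group



open Polynomial

section GroupEtale
variable {G R : Type u} [Group G] [CommRing R] [MulSemiringAction G R] (H : Subgroup G)

theorem coe_aeval (θ : FixedPoints.subring R H) (c : (FixedPoints.subring R G)[X]) :
    ((aeval θ c : FixedPoints.subring R H) : R) =
      (c.map (FixedPoints.subring R G).subtype).eval (θ : R) := by
  rw [aeval_def, eval_map]
  have h1 := Polynomial.hom_eval₂ c (algebraMap (FixedPoints.subring R G) (FixedPoints.subring R H))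
    (FixedPoints.subring R H).subtype θ
  have h2 : (FixedPoints.subring R H).subtype.comp
      (algebraMap (FixedPoints.subring R G) (FixedPoints.subring R H)) =
      (FixedPoints.subring R G).subtype := by
    ext b; rfl
  rw [h2] at h1
  exact h1

theorem smul_map_subtype (c : (FixedPoints.subring R G)[X]) (g : G) :
    g • (c.map (FixedPoints.subring R G).subtype) = c.map (FixedPoints.subring R G).subtype := by
  ext n
  rw [coeff_smul, coeff_map]
  exact (c.coeff n).2 g

theorem coeffs_subset_of_smul_eq (p : R[X]) (hp : ∀ g : G, g • p = p) :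
    (↑p.coeffs : Set R) ⊆ FixedPoints.subring R G := by
  intro a ha
  rw [Finset.mem_coe, mem_coeffs_iff] at ha
  obtain ⟨n, -, rfl⟩ := ha
  intro g
  rw [← coeff_smul, hp g]

end GroupEtale



open Polynomial

section GroupMain
variable {G R : Type u} [Group G] [Finite G] [CommRing R] [MulSemiringAction G R] (H : Subgroup G)

open Classical in
/-- For `θ ∈ R^H`, the localization of `R^H` at `∏_{c ≠ H} (θ - cθ)` is standard étale over
`R^G`. -/
theorem exists_isStandardEtale (θ : FixedPoints.subring R H) :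
    ∃ g : FixedPoints.subring R H,
      (∀ (q : Ideal R) [q.IsPrime], (∀ σ : G, σ ∉ H → (θ : R) - σ • (θ : R) ∉ q) → (g : R) ∉ q) ∧
      Algebra.IsStandardEtale (FixedPoints.subring R G) (Localization.Away g) := by
  letI : Fintype (G ⧸ H) := Fintype.ofFinite _
  set x : G ⧸ H → R := conj H θ with hx
  have hxeq : ∀ (g : G) (c : G ⧸ H), g • x c = x (g • c) := smul_conj H θ
  set c0 : G ⧸ H := ((1 : G) : G ⧸ H) with hc0
  have hx0 : x c0 = θ := conj_one H θ
  have hsub : (↑(fprod x).coeffs : Set R) ⊆ FixedPoints.subring R G :=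
    coeffs_subset_of_smul_eq _ (smul_fprod x hxeq)
  set F : (FixedPoints.subring R G)[X] := (fprod x).toSubring _ hsub with hFdef
  have hFmap : F.map (FixedPoints.subring R G).subtype = fprod x := map_toSubring _ _ _
  have hFmonic : F.Monic := (monic_toSubring _ _ _).2 (fprod_monic x)
  have hFθ : aeval θ F = 0 := by
    apply Subtype.ext
    rw [coe_aeval, hFmap, ← mul_fpart x c0, eval_mul, eval_sub, eval_X, eval_C, hx0, sub_self,
      zero_mul]
    rfl
  have hgcoe : ((aeval θ (derivative F) : FixedPoints.subring R H) : R) =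
      (derivative (fprod x)).eval (x c0) := by
    rw [coe_aeval, ← derivative_map, hFmap, hx0]
  refine ⟨aeval θ (derivative F), ?_, ?_⟩
  · intro q _ hq
    rw [hgcoe, eval_derivative_fprod]
    unfold fpart
    rw [eval_prod]
    intro hmem
    rw [Ideal.IsPrime.prod_mem_iff] at hmem
    obtain ⟨c, hc, hcmem⟩ := hmem
    rw [Finset.mem_erase] at hc
    obtain ⟨a, rfl⟩ := QuotientGroup.mk_surjective c
    rw [eval_sub, eval_X, eval_C, hx0] at hcmem
    have ha : a ∉ H := by
      intro haH
      apply hc.1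
      rw [hc0, QuotientGroup.eq, mul_one]
      exact H.inv_mem haH
    have : x (a : G ⧸ H) = a • (θ : R) := conj_mk H θ a
    rw [this] at hcmem
    exact hq a ha hcmem
  · apply isStandardEtale_of_lagrange θ F hFmonic hFθ
    · intro z
      have hzsub : (↑(lagr x (conj H z)).coeffs : Set R) ⊆ FixedPoints.subring R G :=
        coeffs_subset_of_smul_eq _ (smul_lagr x hxeq _ (smul_conj H z))
      refine ⟨(lagr x (conj H z)).toSubring _ hzsub, ?_⟩
      apply Subtype.ext
      rw [coe_aeval, map_toSubring, Subring.coe_mul, hgcoe]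
      have := eval_lagr x (conj H z) c0
      rw [hx0] at this
      rw [this, conj_one, hx0]
    · intro c hc
      have hc' : (c.map (FixedPoints.subring R G).subtype).eval (θ : R) = 0 := by
        rw [← coe_aeval, hc]; rfl
      have hall : ∀ c' : G ⧸ H, (c.map (FixedPoints.subring R G).subtype).eval (x c') = 0 := by
        intro c'
        obtain ⟨a, rfl⟩ := QuotientGroup.mk_surjective c'
        have h1 : x (a : G ⧸ H) = a • (θ : R) := conj_mk H θ a
        rw [h1, ← smul_map_subtype c a, Polynomial.smul_eval_smul, hc', smul_zero]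
      have hdvd := fprod_dvd_mul_derivative x _ hall
      rw [← hFmap, derivative_map, ← Polynomial.map_mul] at hdvd
      exact (map_dvd_map _ Subtype.val_injective hFmonic).mp hdvd

end GroupMain



open Groth.Agent.Lib.Helper14InertiaUnr

/-- non-faithful version: some element whose stabilizer acts trivially on the whole field. -/
theorem exists_stabilizer_trivial_field (H E : Type*) [Group H] [Finite H] [Field E]
    [MulSemiringAction H E] : ∃ e : E, ∀ h : H, h • e = e → ∀ y : E, h • y = y := by
  let ρ : H →* RingAut E := MulSemiringAction.toRingAut H E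
  let H' : Subgroup (RingAut E) := ρ.range
  haveI : Finite H' := Set.finite_range ρ
  obtain ⟨e, he⟩ := exists_trivial_stabilizer H' E
  refine ⟨e, fun h hh y => ?_⟩
  have h1 : (⟨ρ h, ⟨h, rfl⟩⟩ : H') • e = e := hh
  have h2 := he _ h1
  have h3 : ρ h = 1 := congrArg Subtype.val h2
  show ρ h y = y
  rw [h3]; rfl

/-- a finite group acting on a domain: some nonzero element whose stabilizer acts trivially. -/
theorem exists_stabilizer_trivial_domain (H S : Type*) [Group H] [Finite H] [CommRing S]
    [IsDomain S] [MulSemiringAction H S] :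
    ∃ e : S, e ≠ 0 ∧ ∀ h : H, h • e = e → ∀ y : S, h • y = y := by
  classical
  letI : Fintype H := Fintype.ofFinite H
  let E := FractionRing S
  letI : MulSemiringAction H E := IsFractionRing.mulSemiringAction H S E
  have hinj : Function.Injective (algebraMap S E) := IsFractionRing.injective S E
  have hcoe : ∀ (h : H) (s : S), algebraMap S E (h • s) = h • algebraMap S E s :=
    fun h s => algebraMap.coe_smul' h s E
  obtain ⟨e', he'⟩ := exists_stabilizer_trivial_field H E
  have htriv : ∀ h : H, h • e' = e' → ∀ y : S, h • y = y := by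
    intro h hh y
    apply hinj
    rw [hcoe]
    exact he' h hh _
  obtain ⟨a, b, hb, rfl⟩ := IsFractionRing.div_surjective (A := S) e'
  have hb0 : b ≠ 0 := nonZeroDivisors.ne_zero hb
  -- the invariant norm of b
  set N : S := ∏ h : H, h • b with hN
  have hN0 : N ≠ 0 := by
    rw [hN, Finset.prod_ne_zero_iff]
    intro h _
    exact (smul_ne_zero_iff_ne h).mpr hb0
  have hNinv : ∀ h : H, h • N = N := by
    intro h
    rw [hN, Finset.smul_prod']
    simp_rw [← mul_smul]
    exact Fintype.prod_equiv (Equiv.mulLeft h) _ _ (fun _ => rfl)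
  -- e := a * ∏_{h ≠ 1} h • b
  set e : S := a * ∏ h ∈ Finset.univ.erase (1 : H), h • b with he
  have hbe : b * e = a * N := by
    rw [he, hN, ← Finset.mul_prod_erase Finset.univ (fun h : H => h • b) (Finset.mem_univ 1),
      one_smul]
    ring
  have hkey : ∀ h : H, h • e = e → h • (algebraMap S E a / algebraMap S E b) =
      algebraMap S E a / algebraMap S E b := by
    intro h hh
    have hbE : algebraMap S E b ≠ 0 := fun h0 => hb0 (hinj (by rw [h0, map_zero]))
    have hNE : algebraMap S E N ≠ 0 := fun h0 => hN0 (hinj (by rw [h0, map_zero]))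
    have h1 : algebraMap S E a / algebraMap S E b = algebraMap S E e / algebraMap S E N := by
      rw [div_eq_div_iff hbE hNE, ← map_mul, ← map_mul, mul_comm e b, hbe]
    rw [h1, smul_div₀', ← hcoe, ← hcoe, hh, hNinv]
  by_cases he0 : e = 0
  · refine ⟨1, one_ne_zero, fun h _ y => ?_⟩
    apply htriv h
    apply hkey h
    rw [he0, smul_zero]
  · exact ⟨e, he0, fun h hh y => htriv h (hkey h hh) y⟩



open scoped Pointwise

section U
variable {G R : Type*} [Group G] [Finite G] [CommRing R] [MulSemiringAction G R]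

theorem smul_eq_of_smul_le (q : Ideal R) (σ : G) (h : σ • q ≤ q) : σ • q = q := by
  have key : ∀ k : ℕ, σ ^ k • q ≤ q := by
    intro k
    induction k with
    | zero => rw [pow_zero, one_smul]
    | succ k ih =>
      rw [pow_succ, mul_smul]
      exact le_trans (Ideal.pointwise_smul_le_pointwise_smul_iff.mpr h) ih
  apply le_antisymm h
  rw [Ideal.subset_pointwise_smul_iff]
  have hpos : 0 < orderOf σ := orderOf_pos σ
  have h1 : σ ^ (orderOf σ - 1) = σ⁻¹ := by
    rw [eq_inv_iff_mul_eq_one, ← pow_succ, Nat.sub_add_cancel hpos, pow_orderOf_eq_one]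
  rw [← h1]
  exact key _

theorem exists_u (q : Ideal R) [q.IsPrime] :
    ∃ u : R, u ∉ q ∧ (∀ d ∈ MulAction.stabilizer G q, d • u = u) ∧
      ∀ σ : G, σ ∉ MulAction.stabilizer G q → σ • u ∈ q := by
  classical
  letI : Fintype G := Fintype.ofFinite G
  -- for σ ∉ D choose a σ ∈ σ⁻¹ q \ q
  have hex : ∀ σ : G, ∃ a : R, a ∉ q ∧ (σ ∉ MulAction.stabilizer G q → σ • a ∈ q) := by
    intro σ
    by_cases hσ : σ ∈ MulAction.stabilizer G q
    · exact ⟨1, (Ideal.ne_top_iff_one q).1 (Ideal.IsPrime.ne_top ‹_›), fun h => absurd hσ h⟩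
    · have hnot : ¬ (σ⁻¹ • q ≤ q) := by
        intro hle
        have := smul_eq_of_smul_le q σ⁻¹ hle
        apply hσ
        rw [MulAction.mem_stabilizer_iff]
        rw [← this, smul_inv_smul]
        exact this.symm ▸ rfl
      obtain ⟨a, ha1, ha2⟩ := SetLike.not_le_iff_exists.mp hnot
      exact ⟨a, ha2, fun _ => Ideal.mem_inv_pointwise_smul_iff.mp ha1⟩
  choose a ha1 ha2 using hex
  set u0 : R := ∏ σ : G, a σ with hu0
  have hu0q : u0 ∉ q := by
    rw [hu0, Ideal.IsPrime.prod_mem_iff]
    rintro ⟨σ, -, hσ⟩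
    exact ha1 σ hσ
  have hu0σ : ∀ σ : G, σ ∉ MulAction.stabilizer G q → σ • u0 ∈ q := by
    intro σ hσ
    rw [hu0, Finset.smul_prod']
    exact Ideal.IsPrime.prod_mem_iff.mpr ⟨σ, Finset.mem_univ σ, ha2 σ hσ⟩
  set u : R := ∏ d : MulAction.stabilizer G q, (d : G) • u0 with hu
  refine ⟨u, ?_, ?_, ?_⟩
  · rw [hu, Ideal.IsPrime.prod_mem_iff]
    rintro ⟨d, -, hd⟩
    apply hu0q
    have h1 : (d : G)⁻¹ • ((d : G) • u0) ∈ (d : G)⁻¹ • q := Ideal.smul_mem_pointwise_smul _ _ _ hd
    rw [inv_smul_smul] at h1
    have h2 : (d : G)⁻¹ • q = q := (d⁻¹).2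
    rwa [h2] at h1
  · intro d hd
    rw [hu, Finset.smul_prod']
    simp_rw [← mul_smul]
    exact Fintype.prod_equiv (Equiv.mulLeft (⟨d, hd⟩ : MulAction.stabilizer G q)) _ _
      (fun _ => rfl)
  · intro σ hσ
    rw [hu, Finset.smul_prod']
    refine Ideal.IsPrime.prod_mem_iff.mpr ⟨1, Finset.mem_univ _, ?_⟩
    rw [← mul_smul]
    apply hu0σ
    simpa using hσ

end U



open scoped Pointwise
open Polynomial

section V
variable {G R : Type*} [Group G] [Finite G] [CommRing R] [MulSemiringAction G R]

/-- conjugating an inertia element by a decomposition element stays in the inertia group. -/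
theorem conj_mem_inertia (q : Ideal R) {d τ : G} (hd : d ∈ MulAction.stabilizer G q)
    (hτ : τ ∈ q.inertia G) : d⁻¹ * τ * d ∈ q.inertia G := by
  intro x
  have h1 : τ • (d • x) - d • x ∈ q := hτ (d • x)
  have h2 : d⁻¹ • (τ • (d • x) - d • x) ∈ d⁻¹ • q := Ideal.smul_mem_pointwise_smul _ _ _ h1
  have h3 : d⁻¹ • q = q := (MulAction.stabilizer G q).inv_mem hd
  rw [h3, smul_sub, inv_smul_smul, ← mul_smul, ← mul_smul] at h2
  exact h2

/-- `D` preserves the ring of `I`-invariants. -/
theorem smul_mem_fixedPoints_inertia (q : Ideal R) {d : G} (hd : d ∈ MulAction.stabilizer G q)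
    {t : R} (ht : t ∈ FixedPoints.subring R (q.inertia G)) :
    d • t ∈ FixedPoints.subring R (q.inertia G) := by
  rintro ⟨τ, hτ⟩
  show τ • d • t = d • t
  have h1 := ht ⟨d⁻¹ * τ * d, conj_mem_inertia q hd hτ⟩
  have h2 : (d⁻¹ * τ * d) • t = t := h1
  calc τ • d • t = d • ((d⁻¹ * τ * d) • t) := by
        rw [← mul_smul, ← mul_smul, ← mul_assoc, ← mul_assoc, mul_inv_cancel, one_mul]
    _ = d • t := by rw [h2]

/-- an element of the decomposition group acting trivially on the `I`-invariants modulo `q`
lies in the inertia group. -/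
theorem mem_inertia_of_trivial_on_invariants (q : Ideal R) [q.IsPrime] {d : G}
    
    (h : ∀ t ∈ FixedPoints.subring R (q.inertia G), d • t - t ∈ q) : d ∈ q.inertia G := by
  classical
  letI : Fintype (q.inertia G) := Fintype.ofFinite _
  intro x
  -- P = ∏_{τ ∈ I} (X - τ x)
  set P : R[X] := ∏ τ : q.inertia G, (X - C ((τ : G) • x)) with hP
  have hPinv : ∀ τ : q.inertia G, (τ : G) • P = P := by
    intro τ
    rw [hP, Finset.smul_prod']
    have : ∀ τ' : q.inertia G, (τ : G) • (X - C ((τ' : G) • x) : R[X]) =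
        X - C (((τ * τ' : q.inertia G) : G) • x) := by
      intro τ'
      rw [smul_sub, smul_X, smul_C, ← mul_smul]; rfl
    simp_rw [this]
    exact Fintype.prod_equiv (Equiv.mulLeft τ) _ _ (fun _ => rfl)
  have hPcoeff : ∀ n, P.coeff n ∈ FixedPoints.subring R (q.inertia G) := by
    intro n τ
    show (τ : G) • P.coeff n = P.coeff n
    rw [← coeff_smul, hPinv]
  -- P(x) = 0
  have hPx : P.eval x = 0 := by
    rw [hP, eval_prod]
    refine Finset.prod_eq_zero (Finset.mem_univ (1 : q.inertia G)) ?_
    simp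
  -- d • P ≡ P mod q, hence P(d x) ∈ q
  have h1 : (d • P).eval (d • x) = 0 := by rw [Polynomial.smul_eval_smul, hPx, smul_zero]
  have h2 : (d • P).eval (d • x) - P.eval (d • x) ∈ q := by
    rw [← eval_sub, eval_eq_sum_range' (lt_add_one _)]
    refine Ideal.sum_mem _ (fun n _ => ?_)
    refine Ideal.mul_mem_right _ _ ?_
    rw [coeff_sub, coeff_smul]
    exact h _ (hPcoeff n)
  rw [h1, zero_sub, neg_mem_iff] at h2
  -- P(d x) ≡ (d x - x)^|I| mod q
  rw [hP, eval_prod] at h2
  rw [Ideal.IsPrime.prod_mem_iff] at h2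
  obtain ⟨τ, -, hτ⟩ := h2
  rw [eval_sub, eval_X, eval_C] at hτ
  have h3 : (τ : G) • x - x ∈ q := τ.2 x
  have : d • x - x = (d • x - (τ : G) • x) + ((τ : G) • x - x) := by ring
  rw [this]
  exact add_mem hτ h3

end V



open scoped Pointwise
open Polynomial

section V2
variable {G R : Type*} [Group G] [Finite G] [CommRing R] [MulSemiringAction G R]

theorem exists_v (q : Ideal R) [q.IsPrime] :
    ∃ v : R, v ∈ FixedPoints.subring R (q.inertia G) ∧ v ∉ q ∧
      ∀ σ ∈ MulAction.stabilizer G q, σ ∉ q.inertia G → σ • v - v ∉ q := by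
  classical
  let D := MulAction.stabilizer G q
  let φ : D →* ((R ⧸ q) ≃ₐ[ℤ ⧸ q.under ℤ] (R ⧸ q)) := Ideal.Quotient.stabilizerHom q (q.under ℤ) G
  letI : MulSemiringAction D (R ⧸ q) := MulSemiringAction.compHom (R ⧸ q) φ
  have hsmul : ∀ (d : D) (x : R), d • (Ideal.Quotient.mk q x) = Ideal.Quotient.mk q ((d : G) • x) :=
    fun d x => rfl
  let T : Subring R := FixedPoints.subring R (q.inertia G)
  let Tbar : Subring (R ⧸ q) := T.map (Ideal.Quotient.mk q)
  haveI : IsInvariantSubring D Tbar := by
    refine ⟨fun d {y} hy => ?_⟩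
    obtain ⟨t, ht, rfl⟩ := hy
    rw [hsmul]
    exact ⟨(d : G) • t, smul_mem_fixedPoints_inertia q d.2 ht, rfl⟩
  obtain ⟨e, he0, he⟩ := exists_stabilizer_trivial_domain D Tbar
  obtain ⟨v, hvT, hv⟩ := e.2
  refine ⟨v, hvT, ?_, ?_⟩
  · intro hvq
    apply he0
    apply Subtype.ext
    rw [← hv]
    exact Ideal.Quotient.eq_zero_iff_mem.mpr hvq
  · intro σ hσD hσI hmem
    apply hσI
    apply mem_inertia_of_trivial_on_invariants q
    intro t ht
    have h1 : (⟨σ, hσD⟩ : D) • e = e := by
      apply Subtype.ext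
      show (⟨σ, hσD⟩ : D) • (e : R ⧸ q) = e
      rw [← hv, hsmul]
      exact Ideal.Quotient.eq.mpr hmem
    have h2 := he _ h1 ⟨Ideal.Quotient.mk q t, ⟨t, ht, rfl⟩⟩
    have h3 : (⟨σ, hσD⟩ : D) • (Ideal.Quotient.mk q t) = Ideal.Quotient.mk q t :=
      congrArg Subtype.val h2
    rw [hsmul] at h3
    exact Ideal.Quotient.eq.mp h3

end V2



open scoped Pointwise
open Polynomial

section Final
variable (G R : Type u) [Group G] [Finite G] [CommRing R] [MulSemiringAction G R]

/-- an `I`-invariant element separating all cosets of the inertia group modulo `q`. -/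
theorem exists_theta_inertia (q : Ideal R) [q.IsPrime] :
    ∃ θ : FixedPoints.subring R (q.inertia G),
      ∀ σ : G, σ ∉ q.inertia G → (θ : R) - σ • (θ : R) ∉ q := by
  obtain ⟨u, huq, huD, huσ⟩ := exists_u (G := G) q
  obtain ⟨v, hvT, hvq, hvσ⟩ := exists_v (G := G) q
  have huT : u ∈ FixedPoints.subring R (q.inertia G) := by
    rintro ⟨τ, hτ⟩
    exact huD τ (Ideal.inertia_le_stabilizer q hτ)
  refine ⟨⟨u * v, Subring.mul_mem _ huT hvT⟩, fun σ hσ => ?_⟩
  show u * v - σ • (u * v) ∉ q
  by_cases hσD : σ ∈ MulAction.stabilizer G q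
  · rw [smul_mul', huD σ hσD]
    have : u * v - u * σ • v = u * -(σ • v - v) := by ring
    rw [this]
    intro hmem
    rcases (Ideal.IsPrime.mem_or_mem ‹_› hmem) with h | h
    · exact huq h
    · exact hvσ σ hσD hσ (neg_mem_iff.mp h)
  · intro hmem
    have h1 : σ • (u * v) ∈ q := by
      rw [smul_mul']
      exact Ideal.mul_mem_right _ _ (huσ σ hσD)
    have h2 : u * v ∈ q := by
      have := add_mem hmem h1
      rwa [sub_add_cancel] at this
    rcases (Ideal.IsPrime.mem_or_mem ‹_› h2) with h | h
    · exact huq h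
    · exact hvq h

theorem main (q : Ideal R) [q.IsPrime] :
    ∃ g : FixedPoints.subring R (q.inertia G),
      g ∉ q.comap (FixedPoints.subring R (q.inertia G)).subtype ∧
      Algebra.Etale (FixedPoints.subring R G) (Localization.Away g) := by
  obtain ⟨θ, hθ⟩ := exists_theta_inertia G R q
  obtain ⟨g, hg, hét⟩ := exists_isStandardEtale (q.inertia G) θ
  refine ⟨g, ?_, inferInstance⟩
  intro hmem
  exact hg q hθ hmem

end Final


end Groth.Agent.Lib.Helper14QuotEtale
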