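import Mathlib
import Groth.Prelude.Def_Pi1
import Groth.Agent.Lib.Helper14QuotEtale

/-!
# Completions of `R^G` and `R^H` agree at a prime when `H` contains the decomposition group (S6017)
-/

set_option autoImplicit false
universe u

namespace Groth.Agent.Lib.Helper14DecompCompl


open scoped Pointwise
open Groth.Agent.Lib.Helper14QuotEtale

section Trace
variable {G R : Type u} [Group G] [Finite G] [CommRing R] [MulSemiringAction G R] (H : Subgroup G)

open Classical in
/-- the trace from `R^H` to `R^G`, as an element of `R`. -/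
noncomputable def tr (t : FixedPoints.subring R H) : R :=
  letI : Fintype (G ⧸ H) := Fintype.ofFinite _
  ∑ c : G ⧸ H, conj H t c

theorem tr_mem (t : FixedPoints.subring R H) : tr H t ∈ FixedPoints.subring R G := by
  classical
  intro g
  unfold tr
  letI : Fintype (G ⧸ H) := Fintype.ofFinite _
  show g • (∑ c : G ⧸ H, conj H t c) = ∑ c : G ⧸ H, conj H t c
  rw [Finset.smul_sum]
  simp_rw [smul_conj]
  exact Fintype.sum_equiv (MulAction.toPerm g) _ _ (fun _ => rfl)

/-- if all nontrivial conjugates of `t` lie in `q` then `tr t ≡ t` modulo `q`. -/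
theorem tr_sub_mem (t : FixedPoints.subring R H) (q : Ideal R)
    (h : ∀ σ : G, σ ∉ H → σ • (t : R) ∈ q) : tr H t - t ∈ q := by
  classical
  unfold tr
  letI : Fintype (G ⧸ H) := Fintype.ofFinite _
  show (∑ c : G ⧸ H, conj H t c) - t ∈ q
  rw [← Finset.add_sum_erase Finset.univ _ (Finset.mem_univ ((1 : G) : G ⧸ H)), conj_one,
    add_sub_cancel_left]
  refine Ideal.sum_mem _ (fun c hc => ?_)
  rw [Finset.mem_erase] at hc
  obtain ⟨a, rfl⟩ := QuotientGroup.mk_surjective c
  rw [conj_mk]
  apply h
  intro haH
  apply hc.1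
  rw [QuotientGroup.eq, mul_one]
  exact H.inv_mem haH

end Trace



open scoped Pointwise
open Groth.Agent.Lib.Helper14QuotEtale

section UH
variable {G R : Type u} [Group G] [Finite G] [CommRing R] [MulSemiringAction G R] (H : Subgroup G)

theorem out_mem_iff {D : Subgroup G} (hD : D ≤ H) (a : G) :
    ((a : G ⧸ D).out ∈ H) ↔ a ∈ H := by
  obtain ⟨d, hd⟩ := QuotientGroup.mk_out_eq_mul D a
  rw [hd]
  constructor
  · intro h
    have := H.mul_mem h (H.inv_mem (hD d.2))
    rwa [mul_inv_cancel_right] at this
  · intro h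
    exact H.mul_mem h (hD d.2)

/-- an `H`-invariant element outside `q` all of whose conjugates by elements outside `H` lie
in `q`, for `H` containing the decomposition group. -/
theorem exists_uH (q : Ideal R) [q.IsPrime] (hD : MulAction.stabilizer G q ≤ H) :
    ∃ u : FixedPoints.subring R H, (u : R) ∉ q ∧ ∀ σ : G, σ ∉ H → σ • (u : R) ∈ q := by
  classical
  obtain ⟨u0, hu0q, hu0D, hu0σ⟩ := exists_u (G := G) q
  set D := MulAction.stabilizer G q with hDdef
  letI : Fintype (G ⧸ D) := Fintype.ofFinite _
  let u0' : FixedPoints.subring R D := ⟨u0, fun d => hu0D d d.2⟩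
  set u : R := ∑ c : G ⧸ D, if c.out ∈ H then conj D u0' c else 0 with hu
  have huH : u ∈ FixedPoints.subring R H := by
    rintro ⟨h, hh⟩
    show h • u = u
    rw [hu, Finset.smul_sum]
    have : ∀ c : G ⧸ D, h • (if c.out ∈ H then conj D u0' c else 0) =
        if (h • c).out ∈ H then conj D u0' (h • c) else 0 := by
      intro c
      obtain ⟨a, rfl⟩ := QuotientGroup.mk_surjective c
      have e1 : h • (a : G ⧸ D) = ((h * a : G) : G ⧸ D) := rfl
      rw [e1, out_mem_iff H hD, out_mem_iff H hD]
      have e2 : h * a ∈ H ↔ a ∈ H := by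
        constructor
        · intro h1
          have := H.mul_mem (H.inv_mem hh) h1
          rwa [inv_mul_cancel_left] at this
        · exact fun h1 => H.mul_mem hh h1
      by_cases haH : a ∈ H
      · rw [if_pos haH, if_pos (e2.2 haH), smul_conj]; rfl
      · rw [if_neg haH, if_neg (fun h1 => haH (e2.1 h1)), smul_zero]
    simp_rw [this]
    exact Fintype.sum_equiv (MulAction.toPerm h) _ _ (fun _ => rfl)
  have hterm : ∀ (a : G), a ∉ D → a • u0 ∈ q := hu0σ
  refine ⟨⟨u, huH⟩, ?_, ?_⟩
  · -- u ≡ u0 mod q
    show u ∉ q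
    intro huq
    apply hu0q
    have h1 : u - u0 ∈ q := by
      rw [hu, ← Finset.add_sum_erase Finset.univ _ (Finset.mem_univ ((1 : G) : G ⧸ D))]
      rw [if_pos ((out_mem_iff H hD 1).2 H.one_mem), conj_one]
      show u0 + _ - u0 ∈ q
      rw [add_sub_cancel_left]
      refine Ideal.sum_mem _ (fun c hc => ?_)
      rw [Finset.mem_erase] at hc
      obtain ⟨a, rfl⟩ := QuotientGroup.mk_surjective c
      split_ifs
      · rw [conj_mk]
        apply hterm
        intro haD
        apply hc.1
        rw [QuotientGroup.eq, mul_one]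
        exact D.inv_mem haD
      · exact zero_mem _
    have := sub_mem huq h1
    rwa [sub_sub_cancel] at this
  · intro σ hσ
    show σ • u ∈ q
    rw [hu, Finset.smul_sum]
    refine Ideal.sum_mem _ (fun c _ => ?_)
    obtain ⟨a, rfl⟩ := QuotientGroup.mk_surjective c
    rw [out_mem_iff H hD]
    split_ifs with haH
    · rw [conj_mk, ← mul_smul]
      apply hterm
      intro hmem
      apply hσ
      have := H.mul_mem (hD hmem) (H.inv_mem haH)
      rwa [mul_inv_cancel_right] at this
    · rw [smul_zero]; exact zero_mem _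

end UH



open scoped Pointwise
open Groth.Agent.Lib.Helper14QuotEtale

section Cong
variable {G R : Type u} [Group G] [Finite G] [CommRing R] [MulSemiringAction G R] (H : Subgroup G)

/-- every `H`-invariant is congruent modulo `q` to a fraction of `G`-invariants. -/
theorem exists_frac_congr (q : Ideal R) [q.IsPrime] (hD : MulAction.stabilizer G q ≤ H)
    (x : FixedPoints.subring R H) :
    ∃ b b' : FixedPoints.subring R G, (b' : R) ∉ q ∧ (b' : R) * x - b ∈ q := by
  obtain ⟨u, huq, huσ⟩ := exists_uH H q hD
  refine ⟨⟨tr H (x * u), tr_mem H _⟩, ⟨tr H u, tr_mem H _⟩, ?_, ?_⟩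
  · show tr H u ∉ q
    intro h
    apply huq
    have h1 := tr_sub_mem H u q huσ
    have := sub_mem h h1
    rwa [sub_sub_cancel] at this
  · show tr H u * (x : R) - tr H (x * u) ∈ q
    have h1 := tr_sub_mem H u q huσ
    have h2 : tr H (x * u) - (x * u : FixedPoints.subring R H) ∈ q := by
      apply tr_sub_mem H (x * u) q
      intro σ hσ
      rw [Subring.coe_mul, smul_mul']
      exact Ideal.mul_mem_left _ _ (huσ σ hσ)
    rw [Subring.coe_mul] at h2
    have e : tr H u * (x : R) - tr H (x * u) =
        (tr H u - u) * x - (tr H (x * u) - (x : R) * u) := by ring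
    rw [e]
    exact sub_mem (Ideal.mul_mem_right _ _ h1) h2

/-- a separating element for `H ⊇ D`. -/
theorem exists_theta_H (q : Ideal R) [q.IsPrime] (hD : MulAction.stabilizer G q ≤ H) :
    ∃ θ : FixedPoints.subring R H, ∀ σ : G, σ ∉ H → (θ : R) - σ • (θ : R) ∉ q := by
  obtain ⟨u, huq, huσ⟩ := exists_uH H q hD
  refine ⟨u, fun σ hσ hmem => huq ?_⟩
  have := add_mem hmem (huσ σ hσ)
  rwa [sub_add_cancel] at this

end Cong



open IsLocalRing

section LocalAlg
variable {A C : Type*} [CommRing A] [CommRing C] [IsLocalRing A] [IsLocalRing C] [Algebra A C]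
  [IsLocalHom (algebraMap A C)] [Module.Flat A C]

omit [IsLocalHom (algebraMap A C)] [Module.Flat A C] in
theorem exists_sub_mem_pow_succ
    (hmap : (maximalIdeal A).map (algebraMap A C) = maximalIdeal C)
    (hres : ∀ y : C, ∃ a : A, y - algebraMap A C a ∈ maximalIdeal C) (n : ℕ) :
    ∀ z ∈ (maximalIdeal A ^ n).map (algebraMap A C),
      ∃ a : A, z - algebraMap A C a ∈ maximalIdeal C ^ (n + 1) := by
  have hpow : (maximalIdeal A ^ n).map (algebraMap A C) = maximalIdeal C ^ n := by
    rw [Ideal.map_pow, hmap]
  intro z hz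
  have key : z ∈ maximalIdeal C ^ n ∧ ∃ a : A, z - algebraMap A C a ∈ maximalIdeal C ^ (n + 1) := by
    have hz' : z ∈ Submodule.span C ((algebraMap A C) '' (maximalIdeal A ^ n : Ideal A)) := hz
    induction hz' using Submodule.span_induction with
    | mem w hw =>
      obtain ⟨a, ha, rfl⟩ := hw
      refine ⟨?_, a, by rw [sub_self]; exact zero_mem _⟩
      rw [← hpow]; exact Ideal.mem_map_of_mem _ ha
    | zero => exact ⟨zero_mem _, 0, by rw [map_zero, sub_self]; exact zero_mem _⟩
    | add u v hu' hv' hu hv =>
      obtain ⟨hu1, a, ha⟩ := hu (by exact hu')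
      obtain ⟨hv1, b, hb⟩ := hv (by exact hv')
      refine ⟨add_mem hu1 hv1, a + b, ?_⟩
      have : u + v - algebraMap A C (a + b) = (u - algebraMap A C a) + (v - algebraMap A C b) := by
        rw [map_add]; ring
      rw [this]
      exact add_mem ha hb
    | smul c u hu' hu =>
      obtain ⟨hu1, a, ha⟩ := hu (by exact hu')
      obtain ⟨γ, hγ⟩ := hres c
      refine ⟨Ideal.mul_mem_left _ _ hu1, γ * a, ?_⟩
      have : c • u - algebraMap A C (γ * a) =
          algebraMap A C γ * (u - algebraMap A C a) + (c - algebraMap A C γ) * u := by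
        rw [map_mul, smul_eq_mul]; ring
      rw [this]
      refine add_mem (Ideal.mul_mem_left _ _ ha) ?_
      rw [pow_succ']
      exact Ideal.mul_mem_mul hγ hu1
  exact key.2

omit [IsLocalHom (algebraMap A C)] [Module.Flat A C] in
theorem exists_sub_mem_pow
    (hmap : (maximalIdeal A).map (algebraMap A C) = maximalIdeal C)
    (hres : ∀ y : C, ∃ a : A, y - algebraMap A C a ∈ maximalIdeal C) (n : ℕ) :
    ∀ y : C, ∃ a : A, y - algebraMap A C a ∈ maximalIdeal C ^ n := by
  induction n with
  | zero => intro y; exact ⟨0, by simp⟩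
  | succ n ih =>
    intro y
    obtain ⟨a, ha⟩ := ih y
    have hpow : (maximalIdeal A ^ n).map (algebraMap A C) = maximalIdeal C ^ n := by
      rw [Ideal.map_pow, hmap]
    rw [← hpow] at ha
    obtain ⟨b, hb⟩ := exists_sub_mem_pow_succ hmap hres n _ ha
    refine ⟨a + b, ?_⟩
    have : y - algebraMap A C (a + b) = y - algebraMap A C a - algebraMap A C b := by
      rw [map_add]; ring
    rw [this]; exact hb

theorem surjective_and_comap
    (hmap : (maximalIdeal A).map (algebraMap A C) = maximalIdeal C)
    (hres : ∀ y : C, ∃ a : A, y - algebraMap A C a ∈ maximalIdeal C) (n : ℕ) :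
    Function.Surjective ((Ideal.Quotient.mk (maximalIdeal C ^ n)).comp (algebraMap A C)) ∧
      Ideal.comap (algebraMap A C) (maximalIdeal C ^ n) = maximalIdeal A ^ n := by
  constructor
  · intro y
    obtain ⟨y, rfl⟩ := Ideal.Quotient.mk_surjective y
    obtain ⟨a, ha⟩ := exists_sub_mem_pow hmap hres n y
    refine ⟨a, ?_⟩
    rw [RingHom.comp_apply]
    exact (Ideal.Quotient.eq.mpr ha).symm
  · haveI : Module.FaithfullyFlat A C := Module.FaithfullyFlat.of_flat_of_isLocalHom
    have hpow : (maximalIdeal A ^ n).map (algebraMap A C) = maximalIdeal C ^ n := by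
      rw [Ideal.map_pow, hmap]
    rw [← hpow]
    exact Ideal.comap_map_eq_self_of_faithfullyFlat _

end LocalAlg



open scoped Pointwise
open IsLocalRing
open Groth.Agent.Lib.Helper14QuotEtale

section Main
variable (G R : Type u) [Group G] [Finite G] [CommRing R] [MulSemiringAction G R]

set_option maxHeartbeats 1600000 in
theorem main (H : Subgroup G) (q : Ideal R) [q.IsPrime] (hD : MulAction.stabilizer G q ≤ H)
    (hle : FixedPoints.subring R G ≤ FixedPoints.subring R H) (n : ℕ) :
    let q' : Ideal (FixedPoints.subring R H) := Ideal.comap (FixedPoints.subring R H).subtype q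
    let φ := Localization.localRingHom (Ideal.comap (Subring.inclusion hle) q') q'
      (Subring.inclusion hle) rfl
    Function.Surjective ((Ideal.Quotient.mk (IsLocalRing.maximalIdeal (Localization.AtPrime q') ^ n)).comp φ) ∧
      Ideal.comap φ (IsLocalRing.maximalIdeal (Localization.AtPrime q') ^ n) =
        IsLocalRing.maximalIdeal (Localization.AtPrime (Ideal.comap (Subring.inclusion hle) q')) ^ n := by
  intro q' φ
  let B := FixedPoints.subring R G
  let T := FixedPoints.subring R H
  let p : Ideal B := Ideal.comap (Subring.inclusion hle) q'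
  let Bp := Localization.AtPrime p
  let C := Localization.AtPrime q'
  letI : Algebra Bp C := φ.toAlgebra
  have hφdef : algebraMap Bp C = φ := rfl
  have hBT : ∀ b : B, algebraMap B T b = Subring.inclusion hle b := fun b => rfl
  haveI : IsScalarTower B Bp C := by
    refine IsScalarTower.of_algebraMap_eq (fun b => ?_)
    rw [hφdef]
    show _ = Localization.localRingHom p q' (Subring.inclusion hle) rfl (algebraMap B Bp b)
    rw [Localization.localRingHom_to_map, IsScalarTower.algebraMap_apply B T C, hBT]
  haveI : IsLocalHom (algebraMap Bp C) := by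
    rw [hφdef]; exact Localization.isLocalHom_localRingHom _ _ _ _
  -- étale neighbourhood
  obtain ⟨θ, hθ⟩ := exists_theta_H H q hD
  obtain ⟨g, hg, hét⟩ := exists_isStandardEtale H θ
  have hgq : (g : R) ∉ q := hg q hθ
  have hgq' : g ∉ q' := hgq
  let Tg := Localization.Away g
  have hMN : Submonoid.powers g ≤ q'.primeCompl := by
    rintro _ ⟨k, rfl⟩
    exact fun h => hgq' (Ideal.IsPrime.mem_of_pow_mem inferInstance k h)
  letI : Algebra Tg C := IsLocalization.localizationAlgebraOfSubmonoidLe Tg C (Submonoid.powers g) q'.primeCompl hMN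
  haveI : IsScalarTower T Tg C :=
    IsLocalization.localization_isScalarTower_of_submonoid_le Tg C (Submonoid.powers g) q'.primeCompl hMN
  haveI : IsLocalization (q'.primeCompl.map (algebraMap T Tg)) C :=
    IsLocalization.isLocalization_of_submonoid_le Tg C (Submonoid.powers g) q'.primeCompl hMN
  haveI : IsScalarTower B Tg C := by
    refine IsScalarTower.of_algebraMap_eq (fun b => ?_)
    rw [IsScalarTower.algebraMap_apply B T C, IsScalarTower.algebraMap_apply T Tg C,
      ← IsScalarTower.algebraMap_apply B T Tg]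
  haveI : Module.Flat Tg C := IsLocalization.flat C (q'.primeCompl.map (algebraMap T Tg))
  haveI : Module.Flat B Tg := inferInstance
  haveI : Module.Flat B C := Module.Flat.trans B Tg C
  haveI : Module.Flat Bp C := (Module.flat_iff_of_isLocalization Bp p.primeCompl C).2 inferInstance
  -- unramified
  haveI : Algebra.FormallyUnramified B Tg := inferInstance
  haveI : Algebra.FormallyUnramified Tg C :=
    Algebra.FormallyUnramified.of_isLocalization (q'.primeCompl.map (algebraMap T Tg))
  haveI : Algebra.FormallyUnramified B C := Algebra.FormallyUnramified.comp B Tg C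
  haveI : Algebra.FormallyUnramified Bp C := Algebra.FormallyUnramified.of_restrictScalars B Bp C
  haveI : Algebra.EssFiniteType Tg C :=
    Algebra.EssFiniteType.of_isLocalization C (q'.primeCompl.map (algebraMap T Tg))
  haveI : Algebra.EssFiniteType B Tg := inferInstance
  haveI : Algebra.EssFiniteType B C := Algebra.EssFiniteType.comp B Tg C
  haveI : Algebra.EssFiniteType Bp C := Algebra.EssFiniteType.of_comp B Bp C
  have hmap : (maximalIdeal Bp).map (algebraMap Bp C) = maximalIdeal C :=
    Algebra.FormallyUnramified.map_maximalIdeal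
  -- residue fields
  have hresT : ∀ x : T, ∃ a : Bp, algebraMap T C x - algebraMap Bp C a ∈ maximalIdeal C := by
    intro x
    obtain ⟨b, b', hb', hbx⟩ := exists_frac_congr H q hD x
    have hb'p : b' ∈ p.primeCompl := fun h => hb' h
    refine ⟨IsLocalization.mk' Bp b ⟨b', hb'p⟩, ?_⟩
    have hunit : IsUnit (algebraMap T C (algebraMap B T b')) := by
      apply IsLocalization.map_units C (⟨algebraMap B T b', fun h => hb' h⟩ : q'.primeCompl)
    have h1 : algebraMap Bp C (algebraMap B Bp b') = algebraMap T C (algebraMap B T b') := by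
      rw [← IsScalarTower.algebraMap_apply B Bp C, IsScalarTower.algebraMap_apply B T C]
    have h2 : algebraMap Bp C (algebraMap B Bp b') *
        algebraMap Bp C (IsLocalization.mk' Bp b ⟨b', hb'p⟩) = algebraMap T C (algebraMap B T b) := by
      rw [← map_mul, mul_comm, IsLocalization.mk'_spec Bp b ⟨b', hb'p⟩,
        ← IsScalarTower.algebraMap_apply B Bp C, IsScalarTower.algebraMap_apply B T C]
    have h3 : algebraMap T C (algebraMap B T b') *
        (algebraMap T C x - algebraMap Bp C (IsLocalization.mk' Bp b ⟨b', hb'p⟩)) =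
        algebraMap T C (algebraMap B T b' * x - algebraMap B T b) := by
      rw [mul_sub, ← h1, h2, map_sub, map_mul, h1]
    have h4 : algebraMap T C (algebraMap B T b' * x - algebraMap B T b) ∈ maximalIdeal C := by
      rw [IsLocalization.AtPrime.to_map_mem_maximal_iff C q']
      exact hbx
    rw [← h3] at h4
    exact (Ideal.unit_mul_mem_iff_mem _ hunit).mp h4
  have hres : ∀ y : C, ∃ a : Bp, y - algebraMap Bp C a ∈ maximalIdeal C := by
    intro y
    obtain ⟨x, s, rfl⟩ := IsLocalization.exists_mk'_eq q'.primeCompl y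
    obtain ⟨a1, ha1⟩ := hresT x
    obtain ⟨a2, ha2⟩ := hresT s
    have hsunit : IsUnit (algebraMap T C s) := IsLocalization.map_units C s
    have ha2unit : IsUnit (algebraMap Bp C a2) := by
      by_contra hcon
      have h1 : algebraMap Bp C a2 ∈ maximalIdeal C := (mem_maximalIdeal _).2 hcon
      have h2 : algebraMap T C s ∈ maximalIdeal C := by
        have := add_mem ha2 h1
        rwa [sub_add_cancel] at this
      exact ((mem_maximalIdeal _).1 h2) hsunit
    have ha2u : IsUnit a2 := isUnit_of_map_unit (algebraMap Bp C) a2 ha2unit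
    obtain ⟨w, hw⟩ := ha2u
    refine ⟨a1 * ↑w⁻¹, ?_⟩
    have hspec : IsLocalization.mk' C x s * algebraMap T C s = algebraMap T C x :=
      IsLocalization.mk'_spec C x s
    have hinvmul : algebraMap Bp C a2 * algebraMap Bp C (↑w⁻¹ : Bp) = 1 := by
      rw [← map_mul, ← hw, Units.mul_inv, map_one]
    have key : (algebraMap T C s * algebraMap Bp C a2) *
        (IsLocalization.mk' C x s - algebraMap Bp C (a1 * ↑w⁻¹)) =
        algebraMap Bp C a2 * (algebraMap T C x - algebraMap Bp C a1) -
          (algebraMap T C s - algebraMap Bp C a2) * algebraMap Bp C a1 := by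
      rw [map_mul]
      have e1 : algebraMap T C s * algebraMap Bp C a2 *
          (IsLocalization.mk' C x s - algebraMap Bp C a1 * algebraMap Bp C (↑w⁻¹ : Bp)) =
          algebraMap Bp C a2 * (IsLocalization.mk' C x s * algebraMap T C s) -
          algebraMap T C s * algebraMap Bp C a1 *
            (algebraMap Bp C a2 * algebraMap Bp C (↑w⁻¹ : Bp)) := by ring
      rw [e1, hspec, hinvmul]
      ring
    have hmem : (algebraMap T C s * algebraMap Bp C a2) *
        (IsLocalization.mk' C x s - algebraMap Bp C (a1 * ↑w⁻¹)) ∈ maximalIdeal C := by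
      rw [key]
      exact sub_mem (Ideal.mul_mem_left _ _ ha1) (Ideal.mul_mem_right _ _ ha2)
    exact (Ideal.unit_mul_mem_iff_mem _ (hsunit.mul ha2unit)).mp hmem
  exact surjective_and_comap hmap hres n

end Main


end Groth.Agent.Lib.Helper14DecompCompl
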