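import Mathlib

/-!
# Dense extensions of valuation rings: integral elements of `(K' ⊗_K L)_red`

(helper14) Used for S16046.
-/
set_option autoImplicit false
set_option linter.unusedVariables false
set_option linter.unusedSectionVars false
set_option linter.style.haveILetI false
universe u
namespace Groth.Agent.Lib.Helper14DenseVal
open TensorProduct Polynomial



/-- approximation of elements of `K'` by elements of `K` modulo `A'`. -/
theorem approx (A K A' K' : Type*) [CommRing A] [IsDomain A] [ValuationRing A] [Field K]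
    [Algebra A K] [IsFractionRing A K]
    [CommRing A'] [IsDomain A'] [ValuationRing A'] [Field K'] [Algebra A' K'] [IsFractionRing A' K']
    [Algebra A A'] [Algebra K K'] [Algebra A K'] [IsScalarTower A A' K'] [IsScalarTower A K K']
    (hdense : ∀ a' b' : A', b' ≠ 0 → ∃ a : A, b' ∣ a' - algebraMap A A' a) (c : K') :
    ∃ (a : K) (e : A'), c = algebraMap K K' a + algebraMap A' K' e := by
  rcases ValuationRing.isInteger_or_isInteger A' c with ⟨e, he⟩ | ⟨w, hw⟩
  · exact ⟨0, e, by rw [map_zero, zero_add, he]⟩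
  · -- c⁻¹ = w
    by_cases hc : c = 0
    · exact ⟨0, 0, by simp [hc]⟩
    have hw0 : w ≠ 0 := by
      intro h
      rw [h, map_zero] at hw
      exact inv_ne_zero hc hw.symm
    by_cases hwu : IsUnit w
    · obtain ⟨u, rfl⟩ := hwu
      refine ⟨0, ((u⁻¹ : A'ˣ) : A'), ?_⟩
      rw [map_zero, zero_add]
      have : algebraMap A' K' (u : A') * algebraMap A' K' ((u⁻¹ : A'ˣ) : A') = 1 := by
        rw [← map_mul, Units.mul_inv, map_one]
      rw [hw] at this
      field_simp at this
      exact this.symm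
    obtain ⟨a₀, s, hs⟩ := hdense w (w ^ 2) (pow_ne_zero 2 hw0)
    -- w - a₀ = w^2 * s
    have hunit : IsUnit (1 - w * s) := by
      have : w * s ∈ IsLocalRing.maximalIdeal A' :=
        Ideal.mul_mem_right _ _ ((IsLocalRing.mem_maximalIdeal _).mpr hwu)
      exact IsLocalRing.isUnit_one_sub_self_of_mem_nonunits _ this
    obtain ⟨u, hu⟩ := hunit
    have ha₀ : algebraMap A A' a₀ = w * (1 - w * s) := by
      have : algebraMap A A' a₀ = w - w ^ 2 * s := by rw [← hs]; ring
      rw [this]; ring
    have hcw : c * algebraMap A' K' w = 1 := by rw [hw]; exact mul_inv_cancel₀ hc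
    have hu' : algebraMap A' K' (1 - w * s) * algebraMap A' K' ((u⁻¹ : A'ˣ) : A') = 1 := by
      rw [← hu, ← map_mul, Units.mul_inv, map_one]
    refine ⟨(algebraMap A K a₀)⁻¹, - (s * ((u⁻¹ : A'ˣ) : A')), ?_⟩
    have h1 : algebraMap K K' (algebraMap A K a₀) = algebraMap A' K' w * algebraMap A' K' (1 - w * s) := by
      rw [← IsScalarTower.algebraMap_apply, IsScalarTower.algebraMap_apply A A' K', ha₀, map_mul]
    have hw' : algebraMap A' K' w ≠ 0 := by
      intro h; rw [h, mul_zero] at hcw; exact zero_ne_one hcw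
    have h2 : algebraMap A' K' (1 - w * s) ≠ 0 := by
      intro h; rw [h, zero_mul] at hu'; exact zero_ne_one hu'
    rw [map_inv₀, h1, map_neg, map_mul]
    have h3 : algebraMap A' K' (1 - w * s) = 1 - algebraMap A' K' w * algebraMap A' K' s := by
      rw [map_sub, map_one, map_mul]
    have h4 : algebraMap A' K' ((u⁻¹ : A'ˣ) : A') = (algebraMap A' K' (1 - w * s))⁻¹ :=
      eq_inv_of_mul_eq_one_right hu'
    have h5 : c = (algebraMap A' K' w)⁻¹ := eq_inv_of_mul_eq_one_left hcw
    rw [h4, h5]
    rw [h3] at h2 ⊢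
    field_simp
    ring

theorem inter (A K A' K' : Type*) [CommRing A] [IsDomain A] [ValuationRing A] [Field K]
    [Algebra A K] [IsFractionRing A K]
    [CommRing A'] [IsDomain A'] [Field K'] [Algebra A' K'] [IsFractionRing A' K']
    [Algebra A A'] [IsLocalHom (algebraMap A A')]
    [Algebra K K'] [Algebra A K'] [IsScalarTower A A' K'] [IsScalarTower A K K']
    (k : K) (w : A') (hk : algebraMap K K' k = algebraMap A' K' w) :
    ∃ a : A, algebraMap A K a = k := by
  rcases ValuationRing.isInteger_or_isInteger A k with ⟨a, ha⟩ | ⟨a, ha⟩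
  · exact ⟨a, ha⟩
  · -- k⁻¹ = a
    by_cases hk0 : k = 0
    · exact ⟨0, by rw [map_zero, hk0]⟩
    have h1 : algebraMap A' K' (algebraMap A A' a) * algebraMap A' K' w = 1 := by
      rw [← hk, ← IsScalarTower.algebraMap_apply, IsScalarTower.algebraMap_apply A K K', ha,
        ← map_mul, inv_mul_cancel₀ hk0, map_one]
    have h2 : algebraMap A A' a * w = 1 := by
      apply IsFractionRing.injective A' K'
      rw [map_mul, h1, map_one]
    have hu : IsUnit (algebraMap A A' a) := IsUnit.of_mul_eq_one _ h2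
    have hua : IsUnit a := isUnit_of_map_unit (algebraMap A A') a hu
    obtain ⟨u, rfl⟩ := hua
    refine ⟨((u⁻¹ : Aˣ) : A), ?_⟩
    have : algebraMap A K (u : A) * algebraMap A K ((u⁻¹ : Aˣ) : A) = 1 := by
      rw [← map_mul, Units.mul_inv, map_one]
    rw [ha] at this
    have hk0' : k⁻¹ ≠ 0 := inv_ne_zero hk0
    field_simp at this
    exact this

theorem map_minpoly_dvd {K L K' : Type*} [Field K] [Field L] [Algebra K L] [FiniteDimensional K L]
    [Field K'] [Algebra K K'] (y : L) (p : K'[X])
    (hp : aeval ((1 : K') ⊗ₜ[K] y) p = 0) :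
    (minpoly K y).map (algebraMap K K') ∣ p := by
  classical
  have hint : IsIntegral K y := Algebra.IsIntegral.isIntegral y
  set f := minpoly K y with hf
  have hmonic : (f.map (algebraMap K K')).Monic := (minpoly.monic hint).map _
  have hf0 : aeval ((1 : K') ⊗ₜ[K] y) (f.map (algebraMap K K')) = 0 := by
    rw [aeval_map_algebraMap]
    have : (1 : K') ⊗ₜ[K] y = (Algebra.TensorProduct.includeRight : L →ₐ[K] K' ⊗[K] L) y := rfl
    rw [this, aeval_algHom_apply, hf, minpoly.aeval, map_zero]
  rw [← modByMonic_eq_zero_iff_dvd hmonic]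
  set r := p %ₘ (f.map (algebraMap K K')) with hr
  have hr0 : aeval ((1 : K') ⊗ₜ[K] y) r = 0 := by
    have h := modByMonic_add_div p (f.map (algebraMap K K'))
    have h2 := congrArg (aeval ((1 : K') ⊗ₜ[K] y)) h
    rw [map_add, map_mul, hf0, zero_mul, add_zero, hp] at h2
    exact h2
  have hdeg : r.natDegree < f.natDegree ∨ r = 0 := by
    by_cases h0 : r = 0
    · exact Or.inr h0
    left
    have := degree_modByMonic_lt p hmonic
    rw [← hr] at this
    have h2 := natDegree_lt_natDegree h0 this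
    rwa [natDegree_map] at h2
  rcases hdeg with hdeg | h0
  swap
  · exact h0
  have hLI : LinearIndependent K' (fun i : Fin f.natDegree => (1 : K') ⊗ₜ[K] (y ^ (i : ℕ))) :=
    Module.Flat.linearIndependent_one_tmul (linearIndependent_pow y)
  have hsum : ∑ i : Fin f.natDegree, r.coeff (i : ℕ) • ((1 : K') ⊗ₜ[K] (y ^ (i : ℕ))) = 0 := by
    have h1 := r.as_sum_range' f.natDegree hdeg
    have h2 : aeval ((1 : K') ⊗ₜ[K] y) r = ∑ i ∈ Finset.range f.natDegree, r.coeff i • ((1 : K') ⊗ₜ[K] (y ^ i)) := by
      conv_lhs => rw [h1]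
      rw [map_sum]
      refine Finset.sum_congr rfl (fun i _ => ?_)
      rw [aeval_monomial, Algebra.TensorProduct.tmul_pow, one_pow, Algebra.smul_def]
    rw [hr0] at h2
    rw [h2, Finset.sum_range]
  have hcoef := Fintype.linearIndependent_iff.mp hLI (fun i => r.coeff (i : ℕ)) hsum
  ext i
  rw [coeff_zero]
  by_cases hi : i < f.natDegree
  · exact hcoef ⟨i, hi⟩
  · exact coeff_eq_zero_of_natDegree_lt (lt_of_lt_of_le hdeg (not_lt.mp hi))




theorem isIntegral_of_tmul (A K L A' K' : Type*) [CommRing A] [IsDomain A] [ValuationRing A] [Field K]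
    [Algebra A K] [IsFractionRing A K]
    [Field L] [Algebra K L] [FiniteDimensional K L] [Algebra A L] [IsScalarTower A K L]
    [CommRing A'] [IsDomain A'] [ValuationRing A'] [Field K'] [Algebra A' K'] [IsFractionRing A' K']
    [Algebra A A'] [IsLocalHom (algebraMap A A')]
    [Algebra K K'] [Algebra A K'] [IsScalarTower A A' K'] [IsScalarTower A K K']
    (y : L)
    (hy : ((Ideal.Quotient.mk (nilradical (K' ⊗[K] L))).comp
            ((Algebra.TensorProduct.includeLeft : K' →ₐ[K] K' ⊗[K] L).toRingHom.comp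
              (algebraMap A' K'))).IsIntegralElem
          (Ideal.Quotient.mk (nilradical (K' ⊗[K] L)) ((1 : K') ⊗ₜ[K] y))) :
    IsIntegral A y := by
  classical
  obtain ⟨G, hGmonic, hG⟩ := hy
  have hincl : (Algebra.TensorProduct.includeLeft : K' →ₐ[K] K' ⊗[K] L).toRingHom
      = algebraMap K' (K' ⊗[K] L) := rfl
  have h1 : aeval ((1 : K') ⊗ₜ[K] y) (G.map (algebraMap A' K')) ∈ nilradical (K' ⊗[K] L) := by
    rw [← Ideal.Quotient.eq_zero_iff_mem, aeval_def, eval₂_map, ← hincl, hom_eval₂, ← RingHom.comp_assoc]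
    exact hG
  obtain ⟨r, hr⟩ := (mem_nilradical.mp h1)
  rw [← map_pow, ← Polynomial.map_pow] at hr
  have hdvd := map_minpoly_dvd y _ hr
  have hint : IsIntegral K y := Algebra.IsIntegral.isIntegral y
  have hfmonic : (minpoly K y).Monic := minpoly.monic hint
  obtain ⟨f₀, hf₀⟩ := IsIntegrallyClosed.eq_map_mul_C_of_dvd K' (hGmonic.pow r) hdvd
  rw [(hfmonic.map (algebraMap K K')).leadingCoeff, C_1, mul_one] at hf₀
  have hcoef : ∀ i, (minpoly K y).coeff i ∈ Set.range (algebraMap A K) := by
    intro i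
    have h2 := congrArg (fun q => q.coeff i) hf₀
    simp only [coeff_map] at h2
    exact inter A K A' K' _ _ h2.symm
  have hlifts : minpoly K y ∈ lifts (algebraMap A K) := (lifts_iff_coeff_lifts _).mpr hcoef
  obtain ⟨q, hq, -, hqmonic⟩ := lifts_and_natDegree_eq_and_monic hlifts hfmonic
  refine ⟨q, hqmonic, ?_⟩
  rw [← aeval_def, ← aeval_map_algebraMap K, hq, minpoly.aeval]




/-- the target predicate -/
def P (A K L A' K' : Type u) [CommRing A] [Field K] [Field L] [Algebra K L] [Algebra A L]
    [CommRing A'] [Field K'] [Algebra A' K'] [Algebra K K'] (z : K' ⊗[K] L) : Prop :=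
  ∃ (n : ℕ) (a : Fin n → A') (l : Fin n → L), (∀ i, IsIntegral A (l i)) ∧
    z = ∑ i, algebraMap A' K' (a i) ⊗ₜ[K] l i

theorem P_zero (A K L A' K' : Type u) [CommRing A] [Field K] [Field L] [Algebra K L] [Algebra A L]
    [CommRing A'] [Field K'] [Algebra A' K'] [Algebra K K'] : P A K L A' K' 0 :=
  ⟨0, Fin.elim0, Fin.elim0, fun i => i.elim0, by simp⟩

theorem P_single (A K L A' K' : Type u) [CommRing A] [Field K] [Field L] [Algebra K L] [Algebra A L]
    [CommRing A'] [Field K'] [Algebra A' K'] [Algebra K K'] (e : A') (l : L) (hl : IsIntegral A l) :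
    P A K L A' K' (algebraMap A' K' e ⊗ₜ[K] l) :=
  ⟨1, fun _ => e, fun _ => l, fun _ => hl, by simp⟩

theorem P_add (A K L A' K' : Type u) [CommRing A] [Field K] [Field L] [Algebra K L] [Algebra A L]
    [CommRing A'] [Field K'] [Algebra A' K'] [Algebra K K'] {z₁ z₂ : K' ⊗[K] L}
    (h₁ : P A K L A' K' z₁) (h₂ : P A K L A' K' z₂) : P A K L A' K' (z₁ + z₂) := by
  obtain ⟨n₁, a₁, l₁, hl₁, rfl⟩ := h₁
  obtain ⟨n₂, a₂, l₂, hl₂, rfl⟩ := h₂
  refine ⟨n₁ + n₂, Fin.append a₁ a₂, Fin.append l₁ l₂, ?_, ?_⟩
  · intro i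
    refine Fin.addCases (fun j => ?_) (fun j => ?_) i
    · rw [Fin.append_left]; exact hl₁ j
    · rw [Fin.append_right]; exact hl₂ j
  · rw [Fin.sum_univ_add]
    simp only [Fin.append_left, Fin.append_right]

theorem P_sum (A K L A' K' : Type u) [CommRing A] [Field K] [Field L] [Algebra K L] [Algebra A L]
    [CommRing A'] [Field K'] [Algebra A' K'] [Algebra K K'] {ι : Type*} (s : Finset ι)
    (z : ι → K' ⊗[K] L) (h : ∀ i ∈ s, P A K L A' K' (z i)) : P A K L A' K' (∑ i ∈ s, z i) := by
  classical
  induction s using Finset.induction_on with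
  | empty => simpa using P_zero A K L A' K'
  | insert j s hj ih =>
    rw [Finset.sum_insert hj]
    exact P_add A K L A' K' (h j (Finset.mem_insert_self _ _))
      (ih (fun i hi => h i (Finset.mem_insert_of_mem hi)))




theorem isIntegralElem_sum {R S : Type*} [CommRing R] [CommRing S] (f : R →+* S) {ι : Type*}
    (s : Finset ι) (z : ι → S) (h : ∀ i ∈ s, f.IsIntegralElem (z i)) :
    f.IsIntegralElem (∑ i ∈ s, z i) := by
  classical
  induction s using Finset.induction_on with
  | empty =>
    rw [Finset.sum_empty]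
    have := f.isIntegralElem_map (x := 0)
    rwa [map_zero] at this
  | insert j s hj ih =>
    rw [Finset.sum_insert hj]
    exact RingHom.IsIntegralElem.add f (h j (Finset.mem_insert_self _ _))
      (ih (fun i hi => h i (Finset.mem_insert_of_mem hi)))

theorem main
    (A K L A' K' : Type u) [CommRing A] [IsDomain A] [ValuationRing A] [Field K] [Algebra A K] [IsFractionRing A K]
    [Field L] [Algebra K L] [FiniteDimensional K L] [Algebra A L] [IsScalarTower A K L]
    [CommRing A'] [IsDomain A'] [ValuationRing A'] [Field K'] [Algebra A' K'] [IsFractionRing A' K']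
    [Algebra A A'] [IsLocalHom (algebraMap A A')] (hinj : Function.Injective (algebraMap A A'))
    [Algebra K K'] [Algebra A K'] [IsScalarTower A A' K'] [IsScalarTower A K K']
    (hdense : ∀ a' b' : A', b' ≠ 0 → ∃ a : A, b' ∣ a' - algebraMap A A' a)
    (x : (K' ⊗[K] L) ⧸ nilradical (K' ⊗[K] L))
    (hx : ((Ideal.Quotient.mk (nilradical (K' ⊗[K] L))).comp
            ((Algebra.TensorProduct.includeLeft : K' →ₐ[K] K' ⊗[K] L).toRingHom.comp (algebraMap A' K'))).IsIntegralElem x) :
    ∃ (n : ℕ) (a : Fin n → A') (l : Fin n → L), (∀ i, IsIntegral A (l i)) ∧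
      x = Ideal.Quotient.mk (nilradical (K' ⊗[K] L)) (∑ i, algebraMap A' K' (a i) ⊗ₜ[K] l i) := by
  classical
  set mk := Ideal.Quotient.mk (nilradical (K' ⊗[K] L)) with hmk
  set ι := mk.comp ((Algebra.TensorProduct.includeLeft : K' →ₐ[K] K' ⊗[K] L).toRingHom.comp
    (algebraMap A' K')) with hι
  set g : L →+* (K' ⊗[K] L) ⧸ nilradical (K' ⊗[K] L) :=
    mk.comp (Algebra.TensorProduct.includeRight : L →ₐ[K] K' ⊗[K] L).toRingHom with hg
  have hcompat : ι.comp (algebraMap A A') = g.comp (algebraMap A L) := by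
    ext a
    simp only [hι, hg, RingHom.comp_apply, AlgHom.toRingHom_eq_coe, RingHom.coe_coe,
      Algebra.TensorProduct.includeLeft_apply, Algebra.TensorProduct.includeRight_apply]
    congr 1
    rw [← IsScalarTower.algebraMap_apply A A' K', IsScalarTower.algebraMap_apply A K K',
      IsScalarTower.algebraMap_apply A K L, Algebra.algebraMap_eq_smul_one (algebraMap A K a),
      Algebra.algebraMap_eq_smul_one (A := L) (algebraMap A K a), TensorProduct.smul_tmul]
  have hgint : ∀ b : L, IsIntegral A b → ι.IsIntegralElem (g b) := by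
    intro b hb
    obtain ⟨p, hpm, hp⟩ := hb
    refine ⟨p.map (algebraMap A A'), hpm.map _, ?_⟩
    rw [eval₂_map, hcompat, ← hom_eval₂, hp, map_zero]
  obtain ⟨t, rfl⟩ := Ideal.Quotient.mk_surjective x
  obtain ⟨s, b, hb⟩ := FiniteDimensional.exists_is_basis_integral A K L
  let B := Algebra.TensorProduct.basis K' b
  have ht : t = ∑ i, (B.repr t i) ⊗ₜ[K] (b i) := by
    conv_lhs => rw [← B.sum_repr t]
    refine Finset.sum_congr rfl (fun i _ => ?_)
    exact Algebra.TensorProduct.basis_repr_symm_apply' b _ i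
  choose a e hae using fun i => approx A K A' K' hdense (B.repr t i)
  set y : L := ∑ i, a i • b i with hy
  have ht2 : t = (1 : K') ⊗ₜ[K] y + ∑ i, algebraMap A' K' (e i) ⊗ₜ[K] b i := by
    conv_lhs => rw [ht]
    rw [hy, TensorProduct.tmul_sum, ← Finset.sum_add_distrib]
    refine Finset.sum_congr rfl (fun i _ => ?_)
    rw [hae i, TensorProduct.add_tmul, TensorProduct.tmul_smul, TensorProduct.smul_tmul',
      Algebra.algebraMap_eq_smul_one]
  have hyint : IsIntegral A y := by
    apply isIntegral_of_tmul A K L A' K' y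
    have h1 : mk ((1 : K') ⊗ₜ[K] y) = mk t - ∑ i, ι (e i) * g (b i) := by
      rw [ht2, map_add, map_sum, add_sub_assoc]
      have : ∀ i, mk (algebraMap A' K' (e i) ⊗ₜ[K] b i) = ι (e i) * g (b i) := by
        intro i
        simp only [hι, hg, RingHom.comp_apply, AlgHom.toRingHom_eq_coe, RingHom.coe_coe,
          Algebra.TensorProduct.includeLeft_apply, Algebra.TensorProduct.includeRight_apply]
        rw [← map_mul, Algebra.TensorProduct.tmul_mul_tmul, mul_one, one_mul]
      simp only [this]
      rw [sub_self, add_zero]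
    rw [h1]
    refine RingHom.IsIntegralElem.sub _ hx ?_
    refine isIntegralElem_sum ι _ _ (fun i _ => ?_)
    exact RingHom.IsIntegralElem.mul ι (ι.isIntegralElem_map) (hgint _ (hb i))
  have hP : P A K L A' K' t := by
    rw [ht2]
    refine P_add A K L A' K' ?_ (P_sum A K L A' K' _ _ (fun i _ => P_single A K L A' K' _ _ (hb i)))
    have := P_single A K L A' K' (1 : A') y hyint
    rwa [map_one] at this
  obtain ⟨n, a', l, hl, hzl⟩ := hP
  exact ⟨n, a', l, hl, by rw [hzl]⟩

end Groth.Agent.Lib.Helper14DenseVal
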