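import Mathlib

/-! `Ext` and localization: for a finite module `N` over a Noetherian ring `R`,
`Ext^n_R(N, Y)` is `S`-torsion iff `Ext^n_{S⁻¹R}(S⁻¹N, S⁻¹Y) = 0` (helper8). -/

set_option autoImplicit false
universe u
open CategoryTheory CategoryTheory.Abelian

namespace Groth.Agent.Lib.Helper8.ExtLoc

section Lin

variable {R : Type u} [CommRing R] (S : Submonoid R)
variable {M M' N N' P P' : Type u} [AddCommGroup M] [AddCommGroup M'] [AddCommGroup N]
  [AddCommGroup N'] [AddCommGroup P] [AddCommGroup P']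
  [Module R M] [Module R M'] [Module R N] [Module R N'] [Module R P] [Module R P']
  [Module (Localization S) M'] [Module (Localization S) N'] [Module (Localization S) P']
  [IsScalarTower R (Localization S) M'] [IsScalarTower R (Localization S) N']
  [IsScalarTower R (Localization S) P']
  (f : M →ₗ[R] M') [IsLocalizedModule S f] (g : N →ₗ[R] N') [IsLocalizedModule S g]
  (k : P →ₗ[R] P') [IsLocalizedModule S k]

/-- The localized linear map. -/
noncomputable abbrev loc : (M →ₗ[R] N) →ₗ[R] (M' →ₗ[Localization S] N') :=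
  IsLocalizedModule.mapExtendScalars S f g (Localization S)

theorem loc_apply (h : M →ₗ[R] N) (x : M) : loc S f g h (f x) = g (h x) := by
  rw [IsLocalizedModule.mapExtendScalars_apply_apply, IsLocalizedModule.map_apply]

include f g in
theorem hom_ext' {φ φ' : M' →ₗ[Localization S] N'} (h : ∀ m, φ (f m) = φ' (f m)) : φ = φ' := by
  apply LinearMap.restrictScalars_injective R
  apply IsLocalizedModule.ext S f (IsLocalizedModule.map_units g)
  apply LinearMap.ext
  intro m
  exact h m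

theorem loc_comp (h₁ : M →ₗ[R] N) (h₂ : N →ₗ[R] P) :
    loc S f k (h₂ ∘ₗ h₁) = loc S g k h₂ ∘ₗ loc S f g h₁ := by
  apply hom_ext' S f k
  intro m
  rw [loc_apply, LinearMap.comp_apply, LinearMap.comp_apply, loc_apply, loc_apply]

theorem loc_surj [Module.FinitePresentation R M] (φ : M' →ₗ[Localization S] N') :
    ∃ (h : M →ₗ[R] N) (s : S), (s : R) • φ = loc S f g h := by
  obtain ⟨⟨h, s⟩, hs⟩ := IsLocalizedModule.surj S (loc S f g) φ
  exact ⟨h, s, hs⟩

theorem loc_eq [Module.FinitePresentation R M] {h h' : M →ₗ[R] N}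
    (e : loc S f g h = loc S f g h') : ∃ s : S, (s : R) • h = (s : R) • h' := by
  obtain ⟨c, hc⟩ := IsLocalizedModule.exists_of_eq (S := S) (f := loc S f g) e
  exact ⟨c, hc⟩

omit [Module R M'] [IsScalarTower R (Localization S) M'] in
include g in
theorem smul_eq_zero_imp (s : S) (φ : M' →ₗ[Localization S] N') (h : (s : R) • φ = 0) : φ = 0 := by
  apply LinearMap.ext
  intro x
  have h1 : (s : R) • φ x = 0 := by
    have := LinearMap.congr_fun h x
    simpa using this
  apply IsLocalizedModule.smul_injective g s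
  change s • φ x = s • (0 : M' →ₗ[Localization S] N') x
  rw [LinearMap.zero_apply, smul_zero]
  exact h1

omit [Module R M'] [IsScalarTower R (Localization S) M'] in
theorem exists_div (s : S) (φ : M' →ₗ[Localization S] N') :
    ∃ φ' : M' →ₗ[Localization S] N', (s : R) • φ' = φ := by
  refine ⟨(IsLocalization.mk' (Localization S) (1 : R) s) • φ, ?_⟩
  rw [← algebraMap_smul (Localization S) (s : R), smul_smul]
  have : algebraMap R (Localization S) s * IsLocalization.mk' (Localization S) (1 : R) s = 1 := by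
    rw [mul_comm, IsLocalization.mk'_spec, map_one]
  rw [this, one_smul]

include f g in
/-- Degree-zero comparison. -/
theorem zero_lin [Module.FinitePresentation R M] :
    (∀ ψ : M →ₗ[R] N, ∃ s : S, (s : R) • ψ = 0) ↔ ∀ φ : M' →ₗ[Localization S] N', φ = 0 := by
  constructor
  · intro h φ
    obtain ⟨ψ, s, hs⟩ := loc_surj S f g φ
    obtain ⟨t, ht⟩ := h ψ
    apply smul_eq_zero_imp S g (t * s) φ
    rw [Submonoid.coe_mul, mul_smul, hs, ← map_smul, ht, map_zero]
  · intro h ψ
    have e : loc S f g ψ = loc S f g 0 := by rw [h (loc S f g ψ), map_zero]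
    obtain ⟨s, hs⟩ := loc_eq S f g e
    exact ⟨s, by rw [hs, smul_zero]⟩

include k in
/-- Degree-one comparison. -/
theorem one_lin [Module.FinitePresentation R M] [Module.FinitePresentation R N] (ι : M →ₗ[R] N) :
    (∀ ψ : M →ₗ[R] P, ∃ (s : S) (χ : N →ₗ[R] P), (s : R) • ψ = χ ∘ₗ ι) ↔
      ∀ φ : M' →ₗ[Localization S] P', ∃ χ' : N' →ₗ[Localization S] P',
        φ = χ' ∘ₗ loc S f g ι := by
  constructor
  · intro h φ
    obtain ⟨ψ, s, hs⟩ := loc_surj S f k φ
    obtain ⟨t, χ, hχ⟩ := h ψ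
    obtain ⟨χ', hχ'⟩ := exists_div S (t * s) (loc S g k χ)
    refine ⟨χ', ?_⟩
    have h1 : ((t * s : S) : R) • φ = ((t * s : S) : R) • (χ' ∘ₗ loc S f g ι) := by
      rw [← LinearMap.smul_comp, hχ', ← loc_comp, ← hχ, map_smul, ← hs, Submonoid.coe_mul,
        mul_smul]
    have h2 : ((t * s : S) : R) • (φ - χ' ∘ₗ loc S f g ι) = 0 := by
      rw [smul_sub, h1, sub_self]
    exact sub_eq_zero.mp (smul_eq_zero_imp S k (t * s) _ h2)
  · intro h ψ
    obtain ⟨χ', hχ'⟩ := h (loc S f k ψ)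
    obtain ⟨χ, s, hs⟩ := loc_surj S g k χ'
    have e : loc S f k ((s : R) • ψ) = loc S f k (χ ∘ₗ ι) := by
      rw [map_smul, hχ', ← LinearMap.smul_comp, hs, loc_comp S f g k]
    obtain ⟨t, ht⟩ := loc_eq S f k e
    refine ⟨t * s, (t : R) • χ, ?_⟩
    rw [Submonoid.coe_mul, mul_smul, ht, LinearMap.smul_comp]

end Lin

section ExtGen

variable {R : Type u} [CommRing R] (T : Submonoid R)

theorem tors_zero_iff (X Y : ModuleCat.{u} R) :
    (∀ x : Ext.{u} X Y 0, ∃ s : T, (s : R) • x = 0) ↔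
      ∀ ψ : X ⟶ Y, ∃ s : T, (s : R) • ψ = 0 := by
  constructor
  · intro h ψ
    obtain ⟨s, hs⟩ := h (Ext.mk₀ ψ)
    refine ⟨s, ?_⟩
    rw [← Ext.mk₀_smul] at hs
    exact (Ext.mk₀_bijective X Y).1 (hs.trans (Ext.mk₀_zero X Y).symm)
  · intro h x
    obtain ⟨ψ, rfl⟩ := (Ext.mk₀_bijective X Y).2 x
    obtain ⟨s, hs⟩ := h ψ
    exact ⟨s, by rw [← Ext.mk₀_smul, hs, Ext.mk₀_zero]⟩

variable (Sh : ShortComplex (ModuleCat.{u} R)) (hSh : Sh.ShortExact) (Y : ModuleCat.{u} R)

include hSh in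
theorem tors_one_iff [Projective Sh.X₂] :
    (∀ x : Ext.{u} Sh.X₃ Y 1, ∃ s : T, (s : R) • x = 0) ↔
      ∀ ψ : Sh.X₁ ⟶ Y, ∃ (s : T) (χ : Sh.X₂ ⟶ Y), (s : R) • ψ = Sh.f ≫ χ := by
  constructor
  · intro h ψ
    obtain ⟨s, hs⟩ := h (hSh.extClass.comp (Ext.mk₀ ψ) (add_zero 1))
    rw [← Ext.comp_smul, ← Ext.mk₀_smul] at hs
    obtain ⟨x₂, hx₂⟩ := Ext.contravariant_sequence_exact₁ hSh Y _ (add_zero 1) hs
    obtain ⟨χ, rfl⟩ := (Ext.mk₀_bijective Sh.X₂ Y).2 x₂
    rw [Ext.mk₀_comp_mk₀] at hx₂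
    exact ⟨s, χ, ((Ext.mk₀_bijective Sh.X₁ Y).1 hx₂).symm⟩
  · intro h x₃
    have h0 : (Ext.mk₀ Sh.g).comp x₃ (zero_add 1) = 0 := Ext.eq_zero_of_projective _
    obtain ⟨x₁, rfl⟩ := Ext.contravariant_sequence_exact₃ hSh Y x₃ h0 (add_zero 1)
    obtain ⟨ψ, rfl⟩ := (Ext.mk₀_bijective Sh.X₁ Y).2 x₁
    obtain ⟨s, χ, hχ⟩ := h ψ
    refine ⟨s, ?_⟩
    rw [← Ext.comp_smul, ← Ext.mk₀_smul, hχ, ← Ext.mk₀_comp_mk₀]
    exact hSh.extClass_comp_assoc _

include hSh in
theorem tors_succ_iff [Projective Sh.X₂] (n : ℕ) :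
    (∀ x : Ext.{u} Sh.X₃ Y (n + 2), ∃ s : T, (s : R) • x = 0) ↔
      ∀ x : Ext.{u} Sh.X₁ Y (n + 1), ∃ s : T, (s : R) • x = 0 := by
  have hn : 1 + (n + 1) = n + 2 := by omega
  constructor
  · intro h x₁
    obtain ⟨s, hs⟩ := h (hSh.extClass.comp x₁ hn)
    rw [← Ext.comp_smul] at hs
    obtain ⟨x₂, hx₂⟩ := Ext.contravariant_sequence_exact₁ hSh Y _ hn hs
    refine ⟨s, ?_⟩
    rw [← hx₂, Ext.eq_zero_of_projective x₂, Ext.comp_zero]
  · intro h x₃
    have h0 : (Ext.mk₀ Sh.g).comp x₃ (zero_add (n + 2)) = 0 := Ext.eq_zero_of_projective _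
    obtain ⟨x₁, rfl⟩ := Ext.contravariant_sequence_exact₃ hSh Y x₃ h0 hn
    obtain ⟨s, hs⟩ := h x₁
    exact ⟨s, by rw [← Ext.comp_smul, hs, Ext.comp_zero]⟩

theorem tors_bot_iff {X Z : ModuleCat.{u} R} (n : ℕ) :
    (∀ x : Ext.{u} X Z n, ∃ s : (⊥ : Submonoid R), (s : R) • x = 0) ↔
      Subsingleton (Ext.{u} X Z n) := by
  constructor
  · intro h
    refine ⟨fun a b => ?_⟩
    have h0 : ∀ x : Ext.{u} X Z n, x = 0 := by
      intro x
      obtain ⟨⟨s, hs⟩, hx⟩ := h x
      rw [Submonoid.mem_bot] at hs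
      subst hs
      simpa using hx
    rw [h0 a, h0 b]
  · intro h x
    exact ⟨1, Subsingleton.elim _ _⟩

theorem subsingleton_ext_zero_iff (X Z : ModuleCat.{u} R) :
    Subsingleton (Ext.{u} X Z 0) ↔ ∀ φ : X ⟶ Z, φ = 0 := by
  rw [← tors_bot_iff, tors_zero_iff]
  constructor
  · intro h φ
    obtain ⟨⟨s, hs⟩, hx⟩ := h φ
    rw [Submonoid.mem_bot] at hs
    subst hs
    simpa using hx
  · intro h φ
    exact ⟨1, by rw [h φ, smul_zero]⟩

include hSh in
theorem subsingleton_ext_one_iff [Projective Sh.X₂] :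
    Subsingleton (Ext.{u} Sh.X₃ Y 1) ↔ ∀ φ : Sh.X₁ ⟶ Y, ∃ χ : Sh.X₂ ⟶ Y, φ = Sh.f ≫ χ := by
  rw [← tors_bot_iff, tors_one_iff ⊥ Sh hSh Y]
  constructor
  · intro h φ
    obtain ⟨⟨s, hs⟩, χ, hx⟩ := h φ
    rw [Submonoid.mem_bot] at hs
    subst hs
    exact ⟨χ, by simpa using hx⟩
  · intro h φ
    obtain ⟨χ, hχ⟩ := h φ
    exact ⟨1, χ, by rw [← hχ]; simp⟩

include hSh in
theorem subsingleton_ext_succ_iff [Projective Sh.X₂] (n : ℕ) :
    Subsingleton (Ext.{u} Sh.X₃ Y (n + 2)) ↔ Subsingleton (Ext.{u} Sh.X₁ Y (n + 1)) := by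
  rw [← tors_bot_iff, ← tors_bot_iff, tors_succ_iff ⊥ Sh hSh Y n]

end ExtGen

section Main

variable {R : Type u} [CommRing R] [IsNoetherianRing R] (S : Submonoid R)
  {Y : Type u} [AddCommGroup Y] [Module R Y]
  {Y' : Type u} [AddCommGroup Y'] [Module R Y'] [Module (Localization S) Y']
  [IsScalarTower R (Localization S) Y'] (g : Y →ₗ[R] Y') [IsLocalizedModule S g]

section SC

variable {N : Type u} [AddCommGroup N] [Module R N]
    {N' : Type u} [AddCommGroup N'] [Module R N'] [Module (Localization S) N']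
    [IsScalarTower R (Localization S) N'] (f : N →ₗ[R] N') [IsLocalizedModule S f]
    {F : Type u} [AddCommGroup F] [Module R F] (p : F →ₗ[R] N)

/-- The localized short complex of `ker p → F → N`. -/
noncomputable abbrev locSC : ShortComplex (ModuleCat.{u} (Localization S)) :=
  ShortComplex.mk
    (ModuleCat.ofHom (loc S (LocalizedModule.mkLinearMap S (LinearMap.ker p))
      (LocalizedModule.mkLinearMap S F) (LinearMap.ker p).subtype))
    (ModuleCat.ofHom (loc S (LocalizedModule.mkLinearMap S F) f p)) (by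
      apply ModuleCat.hom_ext
      rw [ModuleCat.hom_comp, ModuleCat.hom_ofHom, ModuleCat.hom_ofHom, ← loc_comp]
      have : p ∘ₗ (LinearMap.ker p).subtype = 0 := by
        apply LinearMap.ext
        intro x
        exact x.2
      rw [this, map_zero]
      rfl)

omit [IsNoetherianRing R] in
theorem locSC_shortExact (hp : Function.Surjective p) : (locSC S f p).ShortExact := by
  refine ShortComplex.ShortExact.mk' ((ShortComplex.moduleCat_exact_iff _).mpr ?_)
    ((ModuleCat.mono_iff_injective _).mpr ?_) ((ModuleCat.epi_iff_surjective _).mpr ?_)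
  · intro x hx
    have hex : Function.Exact (LinearMap.ker p).subtype p := LinearMap.exact_subtype_ker_map p
    have h2 := IsLocalizedModule.map_exact S (LocalizedModule.mkLinearMap S (LinearMap.ker p))
      (LocalizedModule.mkLinearMap S F) f _ _ hex
    exact (h2 x).mp hx
  · exact IsLocalizedModule.map_injective S (LocalizedModule.mkLinearMap S (LinearMap.ker p))
      (LocalizedModule.mkLinearMap S F) _ (LinearMap.ker p).injective_subtype
  · exact IsLocalizedModule.map_surjective S (LocalizedModule.mkLinearMap S F) f _ hp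

end SC

/-- The statement of the comparison in degree `n`. -/
def P (n : ℕ) : Prop :=
  ∀ (N : Type u) [AddCommGroup N] [Module R N] [Module.Finite R N]
    (N' : Type u) [AddCommGroup N'] [Module R N'] [Module (Localization S) N']
    [IsScalarTower R (Localization S) N'] (f : N →ₗ[R] N') [IsLocalizedModule S f],
    (∀ x : Ext.{u} (ModuleCat.of R N) (ModuleCat.of R Y) n, ∃ s : S, (s : R) • x = 0) ↔
      Subsingleton (Ext.{u} (ModuleCat.of (Localization S) N') (ModuleCat.of (Localization S) Y') n)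

include g in
theorem P_zero : P S (Y := Y) (Y' := Y') 0 := by
  intro N _ _ _ N' _ _ _ _ f _
  have := Module.finitePresentation_of_finite R N
  rw [tors_zero_iff, subsingleton_ext_zero_iff]
  have hz := zero_lin S f g
  constructor
  · intro h φ
    apply ModuleCat.hom_ext
    refine hz.mp (fun ψ => ?_) φ.hom
    obtain ⟨s, hs⟩ := h (ModuleCat.ofHom ψ)
    exact ⟨s, congrArg ModuleCat.Hom.hom hs⟩
  · intro h ψ
    obtain ⟨s, hs⟩ := hz.mpr (fun φ => congrArg ModuleCat.Hom.hom (h (ModuleCat.ofHom φ))) ψ.hom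
    exact ⟨s, ModuleCat.hom_ext hs⟩

include g in
theorem P_one : P S (Y := Y) (Y' := Y') 1 := by
  intro N _ _ _ N' _ _ _ _ f _
  obtain ⟨b, p, hp⟩ := Module.Finite.exists_fin' R N
  let Sh := p.shortComplexKer
  have hSh : Sh.ShortExact := LinearMap.shortExact_shortComplexKer hp
  let Sh' := locSC S f p
  have hSh' : Sh'.ShortExact := locSC_shortExact S f p hp
  have : Projective Sh.X₂ := (inferInstance : Projective (ModuleCat.of R (Fin b → R)))
  have : Projective Sh'.X₂ := (inferInstance :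
    Projective (ModuleCat.of (Localization S) (LocalizedModule S (Fin b → R))))
  have hK : Module.FinitePresentation R (LinearMap.ker p) :=
    Module.finitePresentation_of_finite R _
  have hF : Module.FinitePresentation R (Fin b → R) := Module.finitePresentation_of_finite R _
  have h1 := tors_one_iff S Sh hSh (ModuleCat.of R Y)
  have h2 := subsingleton_ext_one_iff Sh' hSh' (ModuleCat.of (Localization S) Y')
  have hl := one_lin S (M' := LocalizedModule S (LinearMap.ker p))
    (N' := LocalizedModule S (Fin b → R)) (LocalizedModule.mkLinearMap S (LinearMap.ker p))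
    (LocalizedModule.mkLinearMap S (Fin b → R)) g (LinearMap.ker p).subtype
  refine h1.trans (Iff.trans ?_ h2.symm)
  constructor
  · intro h φ
    obtain ⟨χ', hχ'⟩ := hl.mp (fun ψ => by
      obtain ⟨s, χ, hχ⟩ := h (ModuleCat.ofHom ψ)
      exact ⟨s, χ.hom, congrArg ModuleCat.Hom.hom hχ⟩) φ.hom
    exact ⟨ModuleCat.ofHom χ', ModuleCat.hom_ext hχ'⟩
  · intro h ψ
    obtain ⟨s, χ, hχ⟩ := hl.mpr (fun φ => by
      obtain ⟨χ', hχ'⟩ := h (ModuleCat.ofHom φ)
      exact ⟨χ'.hom, congrArg ModuleCat.Hom.hom hχ'⟩) ψ.hom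
    exact ⟨s, ModuleCat.ofHom χ, ModuleCat.hom_ext hχ⟩

omit [Module R Y'] [IsScalarTower R (Localization S) Y'] in
theorem P_succ (n : ℕ) (ih : P S (Y := Y) (Y' := Y') (n + 1)) :
    P S (Y := Y) (Y' := Y') (n + 2) := by
  intro N _ _ _ N' _ _ _ _ f _
  obtain ⟨b, p, hp⟩ := Module.Finite.exists_fin' R N
  let Sh := p.shortComplexKer
  have hSh : Sh.ShortExact := LinearMap.shortExact_shortComplexKer hp
  let Sh' := locSC S f p
  have hSh' : Sh'.ShortExact := locSC_shortExact S f p hp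
  have : Projective Sh.X₂ := (inferInstance : Projective (ModuleCat.of R (Fin b → R)))
  have : Projective Sh'.X₂ := (inferInstance :
    Projective (ModuleCat.of (Localization S) (LocalizedModule S (Fin b → R))))
  have h1 := tors_succ_iff S Sh hSh (ModuleCat.of R Y) n
  have h2 := subsingleton_ext_succ_iff Sh' hSh' (ModuleCat.of (Localization S) Y') n
  exact h1.trans ((ih (LinearMap.ker p) (LocalizedModule S (LinearMap.ker p))
    (LocalizedModule.mkLinearMap S _)).trans h2.symm)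

include g in
/-- `Ext^n_R(N, Y)` is `S`-torsion iff `Ext^n_{S⁻¹R}(S⁻¹N, S⁻¹Y) = 0`. -/
theorem ext_loc (n : ℕ) : P S (Y := Y) (Y' := Y') n := by
  cases n with
  | zero => exact P_zero S g
  | succ n =>
    induction n with
    | zero => exact P_one S g
    | succ n ih => exact P_succ S n ih

end Main

end Groth.Agent.Lib.Helper8.ExtLoc
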