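import Groth.Agent.Lib.Helper14BaseChange
import Mathlib.LinearAlgebra.TensorProduct.Finiteness
import Mathlib.LinearAlgebra.Finsupp.Span
import Mathlib.Data.Set.Countable

/-! Helper14: adapted countably generated submodules for a decomposition of `S ⊗ M`. -/

namespace Groth.Agent.Lib.Helper14.Descent

open TensorProduct

universe u

variable {R : Type u} [CommRing R] {S : Type u} [CommRing S] [Algebra R S]
variable {M : Type u} [AddCommGroup M] [Module R M]

theorem exists_adapted {I : Type u} (Q : I → Submodule S (S ⊗[R] M)) (htop : ⨆ i, Q i = ⊤)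
    (hQc : ∀ i, ∃ t : Set (S ⊗[R] M), t.Countable ∧ Submodule.span S t = Q i)
    (s₀ : Set M) (hs₀ : s₀.Countable) :
    ∃ (s : Set M) (I' : Set I), s₀ ⊆ s ∧ s.Countable ∧
      (Submodule.span R s).baseChange S = ⨆ i ∈ I', Q i := by
  classical
  have hsupp : ∀ x : M, ∃ F : Finset I, TensorProduct.mk R S M 1 x ∈ ⨆ i ∈ F, Q i := fun x =>
    Submodule.mem_iSup_iff_exists_finset.mp (by rw [htop]; trivial)
  choose supp hsupp using hsupp
  choose tg htg1 htg2 using hQc
  choose k a m hrep using fun t : S ⊗[R] M => TensorProduct.exists_sum_tmul_eq t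
  let Ia : Set M → Set I := fun s => ⋃ x ∈ s, (supp x : Set I)
  let sb : I → Set M := fun i => ⋃ t ∈ tg i, Set.range (m t)
  have hsb : ∀ i, (sb i).Countable := fun i => (htg1 i).biUnion fun t _ => Set.countable_range _
  have hsbQ : ∀ i, Q i ≤ (Submodule.span R (sb i)).baseChange S := by
    intro i
    rw [← htg2 i, Submodule.span_le]
    intro t ht
    rw [hrep t]
    apply Submodule.sum_mem
    intro j _
    apply Submodule.tmul_mem_baseChange_of_mem
    apply Submodule.subset_span
    exact Set.mem_biUnion ht (Set.mem_range_self j)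
  let Sb : Set I → Set M := fun I₀ => ⋃ i ∈ I₀, sb i
  let sn : ℕ → Set M := fun n =>
    Nat.rec (motive := fun _ => Set M) s₀ (fun _ s => s ∪ Sb (Ia s)) n
  have hsn_succ : ∀ n : ℕ, sn (n + 1) = sn n ∪ Sb (Ia (sn n)) := fun n => rfl
  have hIa : ∀ s : Set M, s.Countable → (Ia s).Countable := fun s hs =>
    hs.biUnion fun x _ => (supp x).countable_toSet
  have hsn : ∀ n : ℕ, (sn n).Countable := by
    intro n
    induction n with
    | zero => exact hs₀
    | succ n ih =>
      rw [hsn_succ]
      exact ih.union ((hIa _ ih).biUnion fun i _ => hsb i)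
  refine ⟨⋃ n, sn n, ⋃ n, Ia (sn n), Set.subset_iUnion sn 0, Set.countable_iUnion hsn, ?_⟩
  apply le_antisymm
  · rw [Submodule.baseChange_span, Submodule.span_le]
    rintro _ ⟨x, hx, rfl⟩
    obtain ⟨n, hn⟩ := Set.mem_iUnion.mp hx
    have h1 := hsupp x
    have h2 : (⨆ i ∈ supp x, Q i) ≤ ⨆ i ∈ ⋃ n, Ia (sn n), Q i := by
      apply biSup_mono
      intro i hi
      exact Set.mem_iUnion.mpr ⟨n, Set.mem_biUnion hn (Finset.mem_coe.mpr hi)⟩
    exact h2 h1
  · apply iSup₂_le
    intro i hi
    obtain ⟨n, hn⟩ := Set.mem_iUnion.mp hi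
    refine (hsbQ i).trans (Submodule.baseChange_mono S (Submodule.span_mono ?_))
    intro x hx
    refine Set.mem_iUnion.mpr ⟨n + 1, ?_⟩
    rw [hsn_succ]
    exact Or.inr (Set.mem_biUnion hn hx)

end Groth.Agent.Lib.Helper14.Descent
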