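import Groth.Prelude.Def_Found
import Mathlib.Algebra.DirectSum.Module
import Mathlib.LinearAlgebra.Projection
import Mathlib.Order.CompactlyGenerated.Basic
import Mathlib.Order.Zorn
import Mathlib.LinearAlgebra.Finsupp.Span
import Mathlib.Data.Set.Countable

/-! Helper14: Kaplansky's theorem: a direct summand of a direct sum of countably generated modules
is a direct sum of countably generated modules. -/

namespace Groth.Agent.Lib.Helper14.Kaplansky

universe u

variable {R : Type u} [CommRing R] {M : Type u} [AddCommGroup M] [Module R M]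
variable {ι : Type u} (N : ι → Submodule R M)

/-- The sum of the pieces indexed by `J`. -/
def MJ (J : Set ι) : Submodule R M := ⨆ i ∈ J, N i

theorem MJ_mono {J J' : Set ι} (h : J ⊆ J') : MJ N J ≤ MJ N J' :=
  biSup_mono h

theorem MJ_union (J J' : Set ι) : MJ N (J ∪ J') = MJ N J ⊔ MJ N J' :=
  iSup_union

theorem isCompl_MJ (hind : iSupIndep N) (htop : ⨆ i, N i = ⊤) (J : Set ι) :
    IsCompl (MJ N J) (MJ N Jᶜ) := by
  constructor
  · exact hind.disjoint_biSup_biSup disjoint_compl_right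
  · rw [codisjoint_iff, ← MJ_union, Set.union_compl_self]
    simp only [MJ, Set.mem_univ, iSup_pos]
    exact htop

/-- Given an adapted `J`, there is a projection of `P` onto the image of `M_J`. -/
theorem exists_proj (hind : iSupIndep N) (htop : ⨆ i, N i = ⊤) (P : Submodule R M)
    (π : M →ₗ[R] P) (hπ : ∀ x : P, π x = x) (J : Set ι)
    (hJ : (MJ N J).map (P.subtype ∘ₗ π) ≤ MJ N J) :
    ∃ ε : P →ₗ[R] P, (∀ x, ε x ∈ (MJ N J).map π) ∧ ∀ a ∈ (MJ N J).map π, ε a = a := by
  have hc := isCompl_MJ N hind htop J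
  let ρ : M →ₗ[R] M := (MJ N J).projection (MJ N Jᶜ) hc
  refine ⟨π ∘ₗ ρ ∘ₗ P.subtype, ?_, ?_⟩
  · intro x
    exact ⟨ρ x, Submodule.projection_apply_mem hc _, rfl⟩
  · rintro _ ⟨m, hm, rfl⟩
    have h1 : ((π m : P) : M) ∈ MJ N J := hJ ⟨m, hm, rfl⟩
    have h2 : ρ (π m : M) = (π m : M) := by
      have := Submodule.projection_apply_left hc ⟨(π m : M), h1⟩
      exact this
    show π (ρ (π m : M)) = π m
    rw [h2, hπ]

/-- A countable set of indices containing `i₀` whose sum is stable under `p`. -/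
theorem exists_closure (htop : ⨆ i, N i = ⊤)
    (hc : ∀ i, ∃ s : Set M, s.Countable ∧ Submodule.span R s = N i)
    (p : M →ₗ[R] M) (i₀ : ι) :
    ∃ K : Set ι, K.Countable ∧ i₀ ∈ K ∧ (MJ N K).map p ≤ MJ N K ∧
      ∃ s : Set M, s.Countable ∧ Submodule.span R s = MJ N K := by
  classical
  choose g hg1 hg2 using hc
  have hsupp : ∀ y : M, ∃ s : Finset ι, y ∈ ⨆ i ∈ s, N i := fun y =>
    Submodule.mem_iSup_iff_exists_finset.mp (by rw [htop]; trivial)
  choose supp hsupp using hsupp
  let succ : ι → Set ι := fun i => ⋃ x ∈ g i, (supp (p x) : Set ι)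
  have hsucc : ∀ i, (succ i).Countable := fun i =>
    (hg1 i).biUnion fun x _ => (supp (p x)).countable_toSet
  let Kn : ℕ → Set ι := fun n =>
    Nat.rec (motive := fun _ => Set ι) {i₀} (fun _ K => K ∪ ⋃ i ∈ K, succ i) n
  have hKn_succ : ∀ n : ℕ, Kn (n + 1) = Kn n ∪ ⋃ i ∈ Kn n, succ i := fun n => rfl
  have hKn : ∀ n : ℕ, (Kn n).Countable := by
    intro n
    induction n with
    | zero => exact Set.countable_singleton i₀
    | succ n ih =>
      rw [hKn_succ]
      exact ih.union (ih.biUnion fun i _ => hsucc i)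
  have hclosed : ∀ i ∈ ⋃ n, Kn n, succ i ⊆ ⋃ n, Kn n := by
    intro i hi k hk
    obtain ⟨n, hn⟩ := Set.mem_iUnion.mp hi
    refine Set.mem_iUnion.mpr ⟨n + 1, ?_⟩
    rw [hKn_succ]
    exact Or.inr (Set.mem_biUnion hn hk)
  refine ⟨⋃ n, Kn n, Set.countable_iUnion hKn, Set.mem_iUnion.mpr ⟨0, rfl⟩, ?_, ?_⟩
  · rw [MJ, Submodule.map_iSup]
    apply iSup_le
    intro i
    rw [Submodule.map_iSup]
    apply iSup_le
    intro hi
    rw [← hg2 i, Submodule.map_span, Submodule.span_le]
    rintro _ ⟨x, hx, rfl⟩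
    have h1 : p x ∈ ⨆ k ∈ supp (p x), N k := hsupp (p x)
    have h2 : (⨆ k ∈ supp (p x), N k) ≤ MJ N (⋃ n, Kn n) := by
      apply biSup_mono
      intro k hk
      exact hclosed i hi (Set.mem_biUnion hx (Finset.mem_coe.mpr hk))
    exact h2 h1
  · refine ⟨⋃ i ∈ ⋃ n, Kn n, g i, (Set.countable_iUnion hKn).biUnion fun i _ => hg1 i, ?_⟩
    rw [Submodule.span_iUnion₂]
    simp only [hg2]
    rfl

/-- The extension step. -/
theorem exists_extension (hind : iSupIndep N) (htop : ⨆ i, N i = ⊤)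
    (hc : ∀ i, ∃ s : Set M, s.Countable ∧ Submodule.span R s = N i)
    (P : Submodule R M) (π : M →ₗ[R] P) (hπ : ∀ x : P, π x = x) (J : Set ι)
    (hJ : (MJ N J).map (P.subtype ∘ₗ π) ≤ MJ N J) (i₀ : ι) :
    ∃ (J' : Set ι) (C : Submodule R P), J ⊆ J' ∧ i₀ ∈ J' ∧
      (MJ N J').map (P.subtype ∘ₗ π) ≤ MJ N J' ∧
      (∃ s : Set P, s.Countable ∧ Submodule.span R s = C) ∧
      Disjoint C ((MJ N J).map π) ∧ C ⊔ (MJ N J).map π = (MJ N J').map π := by
  obtain ⟨K, hK, hi₀, hKad, sK, hsK, hspanK⟩ := exists_closure N htop hc (P.subtype ∘ₗ π) i₀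
  obtain ⟨ε, hε1, hε2⟩ := exists_proj N hind htop P π hπ J hJ
  let θ : P →ₗ[R] P := LinearMap.id - ε
  refine ⟨J ∪ K, (MJ N K).map (θ ∘ₗ π), Set.subset_union_left, Or.inr hi₀, ?_, ?_, ?_, ?_⟩
  · rw [MJ_union, Submodule.map_sup]
    exact sup_le_sup hJ hKad
  · refine ⟨(θ ∘ₗ π) '' sK, hsK.image _, ?_⟩
    rw [← Submodule.map_span, hspanK]
  · rw [Submodule.disjoint_def]
    rintro x ⟨m, hm, rfl⟩ hxA
    have h1 := hε2 _ hxA
    have h2 : ε ((θ ∘ₗ π) m) = 0 := by
      show ε (θ (π m)) = 0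
      simp only [θ]
      rw [LinearMap.sub_apply, LinearMap.id_apply, map_sub, hε2 _ (hε1 (π m)), sub_self]
    rw [← h1, h2]
  · rw [MJ_union, Submodule.map_sup]
    apply le_antisymm
    · apply sup_le
      · rintro _ ⟨m, hm, rfl⟩
        show θ (π m) ∈ _
        simp only [θ]
        rw [LinearMap.sub_apply, LinearMap.id_apply]
        exact Submodule.sub_mem _ (Submodule.mem_sup_right ⟨m, hm, rfl⟩)
          (Submodule.mem_sup_left (hε1 _))
      · exact le_sup_left
    · apply sup_le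
      · exact le_sup_right
      · rintro _ ⟨m, hm, rfl⟩
        have : π m = (θ ∘ₗ π) m + ε (π m) := by
          show π m = θ (π m) + ε (π m)
          simp only [θ]
          rw [LinearMap.sub_apply, LinearMap.id_apply, sub_add_cancel]
        rw [this]
        exact Submodule.add_mem _ (Submodule.mem_sup_left ⟨m, hm, rfl⟩)
          (Submodule.mem_sup_right (hε1 _))

theorem sSupIndep_insert {α : Type*} [CompleteLattice α] [IsModularLattice α] {s : Set α} {a : α}
    (hs : sSupIndep s) (ha : Disjoint a (sSup s)) : sSupIndep (insert a s) := by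
  have hcase : Disjoint a (sSup (insert a s \ {a})) := by
    apply ha.mono_right
    apply sSup_le_sSup
    intro x hx
    exact hx.1.resolve_left hx.2
  intro b hb
  by_cases hba : b = a
  · rw [hba]; exact hcase
  · have hbs : b ∈ s := hb.resolve_left hba
    have h1 : insert a s \ {b} = insert a (s \ {b}) := by
      ext x
      simp only [Set.mem_sdiff, Set.mem_insert_iff, Set.mem_singleton_iff]
      constructor
      · rintro ⟨h | h, h'⟩
        · exact Or.inl h
        · exact Or.inr ⟨h, h'⟩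
      · rintro (h | ⟨h, h'⟩)
        · exact ⟨Or.inl h, by rw [h]; exact fun h'' => hba h''.symm⟩
        · exact ⟨Or.inr h, h'⟩
    rw [h1, sSup_insert, sup_comm]
    apply Disjoint.disjoint_sup_right_of_disjoint_sup_left (hs hbs)
    have h2 : b ⊔ sSup (s \ {b}) = sSup s := by
      rw [← sSup_insert]
      congr 1
      ext x
      simp only [Set.mem_insert_iff, Set.mem_sdiff, Set.mem_singleton_iff]
      constructor
      · rintro (h | ⟨h, _⟩)
        · rw [h]; exact hbs
        · exact h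
      · intro h
        by_cases hxb : x = b
        · exact Or.inl hxb
        · exact Or.inr ⟨h, hxb⟩
    rw [h2]
    exact ha.symm

theorem MJ_iUnion {η : Type*} (J : η → Set ι) : MJ N (⋃ x, J x) = ⨆ x, MJ N (J x) := by
  simp only [MJ]
  exact iSup_iUnion J N

/-- Kaplansky's theorem, lattice form. -/
theorem kaplansky (hind : iSupIndep N) (htop : ⨆ i, N i = ⊤)
    (hc : ∀ i, ∃ s : Set M, s.Countable ∧ Submodule.span R s = N i)
    (P Q : Submodule R M) (hPQ : IsCompl P Q) :
    ∃ 𝒞 : Set (Submodule R P), sSupIndep 𝒞 ∧ sSup 𝒞 = ⊤ ∧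
      ∀ C ∈ 𝒞, ∃ s : Set P, s.Countable ∧ Submodule.span R s = C := by
  classical
  let π : M →ₗ[R] P := P.projectionOnto Q hPQ
  have hπ : ∀ x : P, π x = x := fun x => Submodule.projectionOnto_apply_left hPQ x
  let S : Set (Set ι × Set (Submodule R P)) := {x |
    (MJ N x.1).map (P.subtype ∘ₗ π) ≤ MJ N x.1 ∧ sSupIndep x.2 ∧
    (∀ C ∈ x.2, ∃ s : Set P, s.Countable ∧ Submodule.span R s = C) ∧
    sSup x.2 = (MJ N x.1).map π}
  obtain ⟨m, hmS, hmax⟩ := zorn_le₀ S (by
    intro c hcS hchain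
    refine ⟨(⋃ x : c, x.1.1, ⋃ x : c, x.1.2), ⟨?_, ?_, ?_, ?_⟩, ?_⟩
    · show (MJ N (⋃ x : c, x.1.1)).map (P.subtype ∘ₗ π) ≤ MJ N (⋃ x : c, x.1.1)
      rw [MJ_iUnion, Submodule.map_iSup]
      exact iSup_mono fun x => (hcS x.2).1
    · show sSupIndep (⋃ x : c, x.1.2)
      apply sSupIndep_iUnion_of_directed
      · intro x y
        rcases hchain.total x.2 y.2 with h | h
        · exact ⟨y, h.2, le_refl _⟩
        · exact ⟨x, le_refl _, h.2⟩
      · exact fun x => (hcS x.2).2.1
    · intro C hC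
      obtain ⟨x, hx⟩ := Set.mem_iUnion.mp hC
      exact (hcS x.2).2.2.1 C hx
    · show sSup (⋃ x : c, x.1.2) = (MJ N (⋃ x : c, x.1.1)).map π
      rw [sSup_iUnion, MJ_iUnion, Submodule.map_iSup]
      exact iSup_congr fun x => (hcS x.2).2.2.2
    · intro z hz
      exact ⟨Set.subset_iUnion (fun x : c => x.1.1) ⟨z, hz⟩,
        Set.subset_iUnion (fun x : c => x.1.2) ⟨z, hz⟩⟩)
  obtain ⟨hm1, hm2, hm3, hm4⟩ := hmS
  have hJ : m.1 = Set.univ := by
    by_contra hne
    obtain ⟨i₀, hi₀⟩ := (Set.ne_univ_iff_exists_notMem _).mp hne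
    obtain ⟨J', C, hJJ', hi₀J', hJ'ad, hCc, hCdisj, hCsup⟩ :=
      exists_extension N hind htop hc P π hπ m.1 hm1 i₀
    have hx'S : (J', insert C m.2) ∈ S := by
      refine ⟨hJ'ad, ?_, ?_, ?_⟩
      · apply sSupIndep_insert hm2
        rw [hm4]
        exact hCdisj
      · intro C' hC'
        rcases hC' with rfl | hC'
        · exact hCc
        · exact hm3 C' hC'
      · show sSup (insert C m.2) = _
        rw [sSup_insert, hm4, hCsup]
    have hle : m ≤ (J', insert C m.2) := ⟨hJJ', Set.subset_insert _ _⟩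
    have := hmax hx'S hle
    exact hi₀ (this.1 hi₀J')
  refine ⟨m.2, hm2, ?_, hm3⟩
  rw [hm4, hJ]
  have : MJ N (Set.univ : Set ι) = ⊤ := by
    simp only [MJ, Set.mem_univ, iSup_pos]
    exact htop
  rw [this, Submodule.map_top, LinearMap.range_eq_top]
  exact Submodule.projectionOnto_surjective hPQ

theorem exists_span_of_isCountablyGenerated {A : Type u} [AddCommGroup A] [Module R A]
    (C : Submodule R A) (h : CAlg.IsCountablyGenerated R C) :
    ∃ s : Set A, s.Countable ∧ Submodule.span R s = C := by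
  obtain ⟨s, hs, hspan⟩ := h
  refine ⟨Subtype.val '' s, hs.image _, ?_⟩
  have := Submodule.map_span C.subtype s
  rw [hspan, Submodule.map_subtype_top] at this
  exact this.symm

theorem isCountablyGenerated_of_span {A : Type u} [AddCommGroup A] [Module R A]
    (C : Submodule R A) (h : ∃ s : Set A, s.Countable ∧ Submodule.span R s = C) :
    CAlg.IsCountablyGenerated R C := by
  obtain ⟨t, ht, hspan⟩ := h
  refine ⟨Subtype.val ⁻¹' t, ht.preimage Subtype.val_injective, ?_⟩
  apply Submodule.map_injective_of_injective C.injective_subtype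
  rw [Submodule.map_span, Submodule.map_subtype_top]
  have hsub : t ⊆ (C : Set A) := by
    rw [← hspan]; exact Submodule.subset_span
  have : (C.subtype : C → A) '' (Subtype.val ⁻¹' t) = t := by
    ext x
    constructor
    · rintro ⟨y, hy, rfl⟩
      exact hy
    · intro hx
      exact ⟨⟨x, hsub hx⟩, hx, rfl⟩
  rw [this, hspan]

/-- Kaplansky's theorem. -/
theorem kaplansky' [DecidableEq ι] (hN : DirectSum.IsInternal N)
    (hc : ∀ i, CAlg.IsCountablyGenerated R (N i)) (P Q : Submodule R M) (hPQ : IsCompl P Q) :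
    ∃ 𝒞 : Set (Submodule R P), sSupIndep 𝒞 ∧ sSup 𝒞 = ⊤ ∧
      ∀ C ∈ 𝒞, CAlg.IsCountablyGenerated R C := by
  obtain ⟨hind, htop⟩ := (DirectSum.isInternal_submodule_iff_iSupIndep_and_iSup_eq_top N).mp hN
  obtain ⟨𝒞, h1, h2, h3⟩ := kaplansky N hind htop
    (fun i => exists_span_of_isCountablyGenerated (N i) (hc i)) P Q hPQ
  exact ⟨𝒞, h1, h2, fun C hC => isCountablyGenerated_of_span C (h3 C hC)⟩

end Groth.Agent.Lib.Helper14.Kaplansky
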