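import Groth.Agent.S6361
import Mathlib.RingTheory.Flat.EquationalCriterion
import Mathlib.LinearAlgebra.DFinsupp
import Mathlib.Algebra.Module.Projective

/-! Helper14: a countably generated flat Mittag-Leffler module is projective. -/

namespace Groth.Agent.Lib.Helper14.ML

open TensorProduct

universe u

/-- A finite free module through which an endomorphism fixing `A` factors. -/
structure Datum (R : Type u) [CommRing R] (M : Type u) [AddCommGroup M] [Module R M] where
  k : ℕ
  b : M →ₗ[R] (Fin k →₀ R)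
  c : (Fin k →₀ R) →ₗ[R] M
  A : Submodule R M
  hA : A.FG
  hfix : ∀ y ∈ A, c (b y) = y

theorem exists_datum (R : Type u) [CommRing R] (M : Type u) [AddCommGroup M] [Module R M]
    [Module.Flat R M] (hML : CAlg.IsMittagLeffler R M) (hc : CAlg.IsCountablyGenerated R M)
    (A : Submodule R M) (hA : A.FG) :
    ∃ d : Datum R M, d.A = A := by
  have : Module.Finite R A := Module.Finite.iff_fg.mpr hA
  obtain ⟨Q, _, _, _, b, c, hbc⟩ := Groth.Agent.S6361.result R M hML hc (P := A) A.subtype
  obtain ⟨k, h₂, h₃, hc'⟩ := Module.Flat.exists_factorization_of_finitePresentation c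
  refine ⟨⟨k, h₂ ∘ₗ b, h₃, A, hA, ?_⟩, rfl⟩
  intro y hy
  have := LinearMap.congr_fun hbc ⟨y, hy⟩
  simp only [LinearMap.coe_comp, Function.comp_apply, Submodule.subtype_apply] at this
  rw [hc'] at this
  exact this

/-- A countably generated flat Mittag-Leffler module is projective. -/
theorem projective_of_flat_of_isMittagLeffler_of_isCountablyGenerated (R : Type u) [CommRing R]
    (M : Type u) [AddCommGroup M] [Module R M]
    [Module.Flat R M] (hML : CAlg.IsMittagLeffler R M) (hc : CAlg.IsCountablyGenerated R M) :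
    Module.Projective R M := by
  classical
  obtain ⟨s, hs, hspan⟩ := hc
  have hc' : CAlg.IsCountablyGenerated R M := ⟨s, hs, hspan⟩
  have hs' : (s ∪ {0}).Countable := hs.union (Set.countable_singleton 0)
  obtain ⟨x, hx⟩ := hs'.exists_eq_range ⟨0, Or.inr rfl⟩
  have hxspan : Submodule.span R (Set.range x) = ⊤ := by
    rw [← hx, eq_top_iff, ← hspan]
    exact Submodule.span_mono Set.subset_union_left
  -- the step
  have hnext : ∀ (d : Datum R M) (m : M), ∃ d' : Datum R M,
      d'.A = d.A ⊔ LinearMap.range d.c ⊔ Submodule.span R {m} := by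
    intro d m
    apply exists_datum R M hML hc'
    refine Submodule.FG.sup (Submodule.FG.sup d.hA ?_) (Submodule.fg_span_singleton m)
    rw [LinearMap.range_eq_map]
    exact Module.Finite.fg_top.map d.c
  choose next hnextA using hnext
  let d₀ : Datum R M := ⟨0, 0, 0, ⊥, Submodule.fg_bot, fun y hy => by
    rw [Submodule.mem_bot] at hy; rw [hy, map_zero, map_zero]⟩
  let dat : ℕ → Datum R M := fun n =>
    Nat.rec (motive := fun _ => Datum R M) d₀ (fun n d => next d (x n)) n
  have hdatA : ∀ n : ℕ, (dat (n + 1)).A =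
      (dat n).A ⊔ LinearMap.range (dat n).c ⊔ Submodule.span R {x n} := fun n => hnextA _ _
  have hA1 : ∀ n : ℕ, (dat n).A ≤ (dat (n + 1)).A := fun n => by
    rw [hdatA]; exact le_sup_of_le_left le_sup_left
  have hA2 : ∀ n : ℕ, LinearMap.range (dat n).c ≤ (dat (n + 1)).A := fun n => by
    rw [hdatA]; exact le_sup_of_le_left le_sup_right
  have hA3 : ∀ n : ℕ, x n ∈ (dat (n + 1)).A := fun n => by
    rw [hdatA]; exact Submodule.mem_sup_right (Submodule.mem_span_singleton_self _)
  have hAmono : Monotone fun n : ℕ => (dat n).A := monotone_nat_of_le_succ hA1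
  let a : ℕ → (M →ₗ[R] M) := fun n => (dat n).c ∘ₗ (dat n).b
  have ha_fix : ∀ (m n : ℕ), m ≤ n → ∀ y ∈ (dat m).A, a n y = y := by
    intro m n hmn y hy
    exact (dat n).hfix y (hAmono hmn hy)
  have ha_succ : ∀ (n : ℕ) (y : M), a (n + 1) (a n y) = a n y := by
    intro n y
    apply (dat (n + 1)).hfix
    exact hA2 n ⟨(dat n).b y, rfl⟩
  have ha0 : ∀ y, a 0 y = 0 := fun y => rfl
  have hex : ∀ y : M, ∃ m : ℕ, y ∈ (dat m).A := by
    intro y
    have htop : (⨆ n : ℕ, (dat n).A) = ⊤ := by
      rw [eq_top_iff, ← hxspan, Submodule.span_le]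
      rintro _ ⟨n, rfl⟩
      exact (le_iSup (fun n : ℕ => (dat n).A) (n + 1)) (hA3 n)
    have hy : y ∈ ⨆ n : ℕ, (dat n).A := by rw [htop]; trivial
    exact (Submodule.mem_iSup_of_directed _ hAmono.directed_le).mp hy
  -- the maps
  let F : ℕ → Type u := fun n => Fin (dat (n + 1)).k →₀ R
  let sh : M →ₗ[R] (∀ n, F n) :=
    LinearMap.pi fun n => (dat (n + 1)).b ∘ₗ (LinearMap.id - a n)
  have hsh0 : ∀ (m : ℕ) (y : M), y ∈ (dat m).A → ∀ n, m ≤ n → sh y n = 0 := by
    intro m y hy n hmn
    simp only [sh, LinearMap.pi_apply, LinearMap.coe_comp, Function.comp_apply,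
      LinearMap.sub_apply, LinearMap.id_apply]
    rw [ha_fix m n hmn y hy, sub_self, map_zero]
  let ι : (Π₀ n, F n) →ₗ[R] (∀ n, F n) := DFinsupp.coeFnLinearMap R
  have hι : Function.Injective ι := DFunLike.coe_injective
  let t₀ : ℕ → M → (Π₀ n, F n) := fun m y => ∑ n ∈ Finset.range m, DFinsupp.single n (sh y n)
  have ht₀ : ∀ (m : ℕ) (y : M), y ∈ (dat m).A → ι (t₀ m y) = sh y := by
    intro m y hy
    funext n
    show (t₀ m y) n = sh y n
    simp only [t₀, DFinsupp.finset_sum_apply]
    by_cases hn : n < m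
    · rw [Finset.sum_eq_single n]
      · exact DFinsupp.single_eq_same
      · intro n' _ hn'
        exact DFinsupp.single_eq_of_ne hn'.symm
      · intro h
        exact absurd (Finset.mem_range.mpr hn) h
    · rw [hsh0 m y hy n (not_lt.mp hn)]
      apply Finset.sum_eq_zero
      intro n' hn'
      apply DFinsupp.single_eq_of_ne
      intro h
      rw [h] at hn
      exact hn (Finset.mem_range.mp hn')
  have hmem : ∀ y, sh y ∈ LinearMap.range ι := by
    intro y
    obtain ⟨m, hm⟩ := hex y
    exact ⟨t₀ m y, ht₀ m y hm⟩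
  let sec : M →ₗ[R] (Π₀ n, F n) :=
    (LinearEquiv.ofInjective ι hι).symm.toLinearMap ∘ₗ sh.codRestrict (LinearMap.range ι) hmem
  have hsec : ∀ y, ι (sec y) = sh y := by
    intro y
    have := (LinearEquiv.ofInjective ι hι).apply_symm_apply
      (sh.codRestrict (LinearMap.range ι) hmem y)
    have h2 := congrArg Subtype.val this
    rw [LinearEquiv.ofInjective_apply] at h2
    exact h2
  let r : (Π₀ n, F n) →ₗ[R] M := DFinsupp.lsum ℕ fun n => (dat (n + 1)).c
  apply Module.Projective.of_split sec r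
  apply LinearMap.ext
  intro y
  obtain ⟨m, hm⟩ := hex y
  have h1 : sec y = t₀ m y := hι ((hsec y).trans (ht₀ m y hm).symm)
  show r (sec y) = y
  rw [h1]
  simp only [t₀, map_sum, r, DFinsupp.lsum_single]
  have hterm : ∀ n : ℕ, (dat (n + 1)).c (sh y n) = a (n + 1) y - a n y := by
    intro n
    simp only [sh, LinearMap.pi_apply, LinearMap.coe_comp, Function.comp_apply,
      LinearMap.sub_apply, LinearMap.id_apply, map_sub]
    show a (n + 1) y - a (n + 1) (a n y) = _
    rw [ha_succ]
  simp only [hterm]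
  rw [Finset.sum_range_sub (fun n => a n y), ha0, sub_zero]
  exact ha_fix m m le_rfl y hm

end Groth.Agent.Lib.Helper14.ML
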