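import Mathlib

/-!
# Restricting the values of a polynomial law to a submodule (Roby-type extension) (helper14)

Let `F : M →ₚₗ[A] N` be a polynomial law and `ι : N₀ → N` an injective linear map. If on every
polynomial ring `P = A[X₁..Xₙ]` the values of `F_P` lie in the image of `P ⊗ N₀ → P ⊗ N`, then
there is a law `ext H hι : M →ₚₗ[A] N₀` with `(S ⊗ ι) ∘ (ext)_S = F_S` for every `S`
(`lTensor_ext`). (Note that `S ⊗ ι` need not be injective, so this is not formal.)
`ext_apply` computes it through any lift to a polynomial ring.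
-/

set_option autoImplicit false
universe u
open TensorProduct

namespace Groth.Agent.Lib.Helper14.PolLawExt

variable {A : Type u} [CommRing A] {M N N₀ : Type u} [AddCommGroup M] [Module A M]
  [AddCommGroup N] [Module A N] [AddCommGroup N₀] [Module A N₀]

/-- the polynomial ring in `n` variables -/
abbrev P (A : Type u) [CommRing A] (n : ℕ) : Type u := MvPolynomial (Fin n) A

/-- the hypothesis: on polynomial rings, the values of `F` lie in the image of `N₀` -/
def Hyp (F : M →ₚₗ[A] N) (ι : N₀ →ₗ[A] N) : Prop :=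
  ∀ (n : ℕ) (x : P A n ⊗[A] M), F.toFun' (P A n) x ∈ LinearMap.range (ι.lTensor (P A n))

variable {F : M →ₚₗ[A] N} {ι : N₀ →ₗ[A] N}

lemma lTensor_injective (hι : Function.Injective ι) (n : ℕ) :
    Function.Injective (ι.lTensor (P A n)) :=
  Module.Flat.lTensor_preserves_injective_linearMap ι hι

/-- the lifted values on polynomial rings -/
noncomputable def G (H : Hyp F ι) (n : ℕ) (x : P A n ⊗[A] M) : P A n ⊗[A] N₀ := (H n x).choose

lemma G_spec (H : Hyp F ι) (n : ℕ) (x : P A n ⊗[A] M) :
    ι.lTensor (P A n) (G H n x) = F.toFun' (P A n) x := (H n x).choose_spec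

lemma lTensor_rTensor {S S' : Type u} [CommSemiring S] [Algebra A S] [CommSemiring S']
    [Algebra A S'] (e : S →ₐ[A] S') (y : S ⊗[A] N₀) :
    ι.lTensor S' (e.toLinearMap.rTensor N₀ y) = e.toLinearMap.rTensor N (ι.lTensor S y) := by
  rw [← LinearMap.comp_apply, ← LinearMap.comp_apply, LinearMap.lTensor_comp_rTensor,
    LinearMap.rTensor_comp_lTensor]

lemma G_nat (H : Hyp F ι) (hι : Function.Injective ι) {n m : ℕ} (e : P A n →ₐ[A] P A m)
    (x : P A n ⊗[A] M) :
    e.toLinearMap.rTensor N₀ (G H n x) = G H m (e.toLinearMap.rTensor M x) := by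
  apply lTensor_injective hι m
  rw [G_spec, lTensor_rTensor, G_spec, PolynomialLaw.isCompat_apply']

lemma K1 (H : Hyp F ι) (hι : Function.Injective ι) {S : Type u} [CommSemiring S] [Algebra A S]
    {m : ℕ} (Ψ : P A m →ₐ[A] S) (i : P A m) (hi : Ψ i = 0) (m₀ : M) (p : P A m ⊗[A] M) :
    Ψ.toLinearMap.rTensor N₀ (G H m (p + i ⊗ₜ[A] m₀)) = Ψ.toLinearMap.rTensor N₀ (G H m p) := by
  set e₁ : P A (m + 1) →ₐ[A] P A m := MvPolynomial.aeval (Fin.cons i MvPolynomial.X) with he₁
  set e₀ : P A (m + 1) →ₐ[A] P A m := MvPolynomial.aeval (Fin.cons 0 MvPolynomial.X) with he₀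
  set inc : P A m →ₐ[A] P A (m + 1) := MvPolynomial.rename Fin.succ with hinc
  set xt : P A (m + 1) ⊗[A] M :=
    inc.toLinearMap.rTensor M p + (MvPolynomial.X 0 : P A (m + 1)) ⊗ₜ[A] m₀ with hxt
  have h1 : e₁.comp inc = AlgHom.id A (P A m) := by
    apply MvPolynomial.algHom_ext
    intro j
    simp [he₁, hinc]
  have h0 : e₀.comp inc = AlgHom.id A (P A m) := by
    apply MvPolynomial.algHom_ext
    intro j
    simp [he₀, hinc]
  have hx1 : e₁.toLinearMap.rTensor M xt = p + i ⊗ₜ[A] m₀ := by
    rw [hxt, map_add, ← LinearMap.comp_apply, ← LinearMap.rTensor_comp, ← AlgHom.comp_toLinearMap,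
      h1]
    simp [he₁]
  have hx0 : e₀.toLinearMap.rTensor M xt = p := by
    rw [hxt, map_add, ← LinearMap.comp_apply, ← LinearMap.rTensor_comp, ← AlgHom.comp_toLinearMap,
      h0]
    simp [he₀]
  have hΨ : Ψ.comp e₁ = Ψ.comp e₀ := by
    apply MvPolynomial.algHom_ext
    intro j
    refine Fin.cases ?_ (fun j' => ?_) j
    · simp [he₁, he₀, hi]
    · simp [he₁, he₀]
  rw [← hx1, ← G_nat H hι, ← LinearMap.comp_apply, ← LinearMap.rTensor_comp,
    ← AlgHom.comp_toLinearMap, hΨ, AlgHom.comp_toLinearMap, LinearMap.rTensor_comp,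
    LinearMap.comp_apply, G_nat H hι, hx0]

/-- adding an element of the kernel of `Ψ ⊗ M` (with `Ψ` restricted to its range) does not change
the value -/
lemma K (H : Hyp F ι) (hι : Function.Injective ι) {S : Type u} [CommRing S] [Algebra A S]
    {m : ℕ} (Ψ : P A m →ₐ[A] S) (p p' : P A m ⊗[A] M)
    (h : Ψ.rangeRestrict.toLinearMap.rTensor M p = Ψ.rangeRestrict.toLinearMap.rTensor M p') :
    Ψ.toLinearMap.rTensor N₀ (G H m p) = Ψ.toLinearMap.rTensor N₀ (G H m p') := by
  set g : P A m →ₗ[A] Ψ.range := Ψ.rangeRestrict.toLinearMap with hg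
  have hex : Function.Exact (LinearMap.ker g).subtype g := LinearMap.exact_subtype_ker_map g
  have hsurj : Function.Surjective g := Ψ.rangeRestrict_surjective
  have hex' := rTensor_exact M hex hsurj
  have hq : g.rTensor M (p - p') = 0 := by rw [map_sub, h, sub_self]
  obtain ⟨w, hw⟩ := (hex' (p - p')).mp hq
  have key : ∀ (w : (LinearMap.ker g) ⊗[A] M) (p₀ : P A m ⊗[A] M),
      Ψ.toLinearMap.rTensor N₀ (G H m (p₀ + (LinearMap.ker g).subtype.rTensor M w)) =
        Ψ.toLinearMap.rTensor N₀ (G H m p₀) := by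
    intro w
    induction w using TensorProduct.induction_on with
    | zero => intro p₀; simp
    | tmul i m₀ =>
      intro p₀
      rw [LinearMap.rTensor_tmul]
      apply K1 H hι
      have := i.2
      rw [LinearMap.mem_ker] at this
      have h2 := congrArg Subtype.val this
      exact h2
    | add w₁ w₂ h₁ h₂ =>
      intro p₀
      rw [map_add, ← add_assoc, h₂, h₁]
  have := key w p'
  rw [hw, add_sub_cancel] at this
  exact this

/-- well-definedness over a commutative ring -/
lemma WD_ring (H : Hyp F ι) (hι : Function.Injective ι) {S : Type u} [CommRing S] [Algebra A S]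
    {n n' : ℕ} (ψ : P A n →ₐ[A] S) (p : P A n ⊗[A] M) (ψ' : P A n' →ₐ[A] S) (p' : P A n' ⊗[A] M)
    (h : ψ.toLinearMap.rTensor M p = ψ'.toLinearMap.rTensor M p') :
    ψ.toLinearMap.rTensor N₀ (G H n p) = ψ'.toLinearMap.rTensor N₀ (G H n' p') := by
  set u := ψ.rangeRestrict.toLinearMap.rTensor M p with hu
  set u' := ψ'.rangeRestrict.toLinearMap.rTensor M p' with hu'
  have uFG : Subalgebra.FG (R := A) ψ.range := by
    rw [← Algebra.map_top]
    exact Subalgebra.FG.map _ Algebra.FiniteType.out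
  have u'FG : Subalgebra.FG (R := A) ψ'.range := by
    rw [← Algebra.map_top]
    exact Subalgebra.FG.map _ Algebra.FiniteType.out
  have huu' : (Subalgebra.val _).toLinearMap.rTensor M u =
      (Subalgebra.val _).toLinearMap.rTensor M u' := by
    simp only [hu, hu', ← LinearMap.comp_apply, ← LinearMap.rTensor_comp,
      ← AlgHom.comp_toLinearMap, AlgHom.val_comp_rangeRestrict, h]
  obtain ⟨B, hAB, hA'B, ⟨t, hB⟩, hBeq⟩ :=
    TensorProduct.Algebra.eq_of_fg_of_subtype_eq' (R := A) uFG u'FG huu'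
  rw [← PolynomialLaw.range_φ A t, eq_comm] at hB
  set Ψ := PolynomialLaw.φ A t with hΨ
  have hAB' : ψ.range ≤ Ψ.range := le_trans hAB (le_of_eq hB)
  have hA'B' : ψ'.range ≤ Ψ.range := le_trans hA'B (le_of_eq hB)
  -- lifts of `ψ`, `ψ'` through `Ψ`
  have hlift : ∀ j, ∃ q : P A t.card, Ψ q = ψ (MvPolynomial.X j) := fun j =>
    hAB' ⟨MvPolynomial.X j, rfl⟩
  choose ev hev using hlift
  have hlift' : ∀ j, ∃ q : P A t.card, Ψ q = ψ' (MvPolynomial.X j) := fun j =>
    hA'B' ⟨MvPolynomial.X j, rfl⟩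
  choose ev' hev' using hlift'
  set e : P A n →ₐ[A] P A t.card := MvPolynomial.aeval ev with he
  set e' : P A n' →ₐ[A] P A t.card := MvPolynomial.aeval ev' with he'
  have hΨe : Ψ.comp e = ψ := by
    apply MvPolynomial.algHom_ext
    intro j
    simp [he, hev]
  have hΨe' : Ψ.comp e' = ψ' := by
    apply MvPolynomial.algHom_ext
    intro j
    simp [he', hev']
  have hr : Ψ.rangeRestrict.comp e = (Subalgebra.inclusion hAB').comp ψ.rangeRestrict := by
    apply AlgHom.ext
    intro x
    apply Subtype.ext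
    show Ψ (e x) = ψ x
    rw [← hΨe]
    rfl
  have hr' : Ψ.rangeRestrict.comp e' = (Subalgebra.inclusion hA'B').comp ψ'.rangeRestrict := by
    apply AlgHom.ext
    intro x
    apply Subtype.ext
    show Ψ (e' x) = ψ' x
    rw [← hΨe']
    rfl
  have hBeq' : (Subalgebra.inclusion hAB').toLinearMap.rTensor M u =
      (Subalgebra.inclusion hA'B').toLinearMap.rTensor M u' := by
    have := congrArg ((Subalgebra.inclusion (le_of_eq hB)).toLinearMap.rTensor M) hBeq
    simp only [← LinearMap.comp_apply, ← LinearMap.rTensor_comp, ← AlgHom.comp_toLinearMap] at this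
    exact this
  have hkey : Ψ.rangeRestrict.toLinearMap.rTensor M (e.toLinearMap.rTensor M p) =
      Ψ.rangeRestrict.toLinearMap.rTensor M (e'.toLinearMap.rTensor M p') := by
    rw [← LinearMap.comp_apply, ← LinearMap.rTensor_comp, ← AlgHom.comp_toLinearMap, hr,
      ← LinearMap.comp_apply, ← LinearMap.rTensor_comp, ← AlgHom.comp_toLinearMap, hr',
      AlgHom.comp_toLinearMap, LinearMap.rTensor_comp, LinearMap.comp_apply,
      AlgHom.comp_toLinearMap, LinearMap.rTensor_comp, LinearMap.comp_apply]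
    exact hBeq'
  have hK := K H hι Ψ _ _ hkey
  rw [← G_nat H hι, ← G_nat H hι, ← LinearMap.comp_apply, ← LinearMap.rTensor_comp,
    ← AlgHom.comp_toLinearMap, hΨe, ← LinearMap.comp_apply, ← LinearMap.rTensor_comp,
    ← AlgHom.comp_toLinearMap, hΨe'] at hK
  exact hK

/-- well-definedness over a commutative semiring (transport to the ring `A ⊗ S`) -/
lemma WD (H : Hyp F ι) (hι : Function.Injective ι) {S : Type u} [CommSemiring S] [Algebra A S]
    {n n' : ℕ} (ψ : P A n →ₐ[A] S) (p : P A n ⊗[A] M) (ψ' : P A n' →ₐ[A] S) (p' : P A n' ⊗[A] M)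
    (h : ψ.toLinearMap.rTensor M p = ψ'.toLinearMap.rTensor M p') :
    ψ.toLinearMap.rTensor N₀ (G H n p) = ψ'.toLinearMap.rTensor N₀ (G H n' p') := by
  set j : S ≃ₐ[A] A ⊗[A] S := (Algebra.TensorProduct.lid A S).symm with hj
  have hinj : Function.Injective (j.toAlgHom.toLinearMap.rTensor N₀) := by
    have : j.toAlgHom.toLinearMap.rTensor N₀ = (j.toLinearEquiv.rTensor N₀).toLinearMap := rfl
    rw [this]
    exact (j.toLinearEquiv.rTensor N₀).injective
  apply hinj
  rw [← LinearMap.comp_apply, ← LinearMap.rTensor_comp, ← AlgHom.comp_toLinearMap,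
    ← LinearMap.comp_apply, ← LinearMap.rTensor_comp, ← AlgHom.comp_toLinearMap]
  apply WD_ring H hι
  rw [AlgHom.comp_toLinearMap, LinearMap.rTensor_comp, LinearMap.comp_apply, h,
    AlgHom.comp_toLinearMap, LinearMap.rTensor_comp, LinearMap.comp_apply]

/-- the law with values in `N₀` -/
noncomputable def ext (H : Hyp F ι) (hι : Function.Injective ι) : M →ₚₗ[A] N₀ where
  toFun' S _ _ t :=
    (PolynomialLaw.exists_lift t).choose_spec.choose.toLinearMap.rTensor N₀
      (G H (PolynomialLaw.exists_lift t).choose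
        (PolynomialLaw.exists_lift t).choose_spec.choose_spec.choose)
  isCompat' {S} _ _ {S'} _ _ φ := by
    funext t
    simp only [Function.comp_apply]
    rw [← LinearMap.comp_apply, ← LinearMap.rTensor_comp, ← AlgHom.comp_toLinearMap]
    apply WD H hι
    rw [AlgHom.comp_toLinearMap, LinearMap.rTensor_comp, LinearMap.comp_apply,
      (PolynomialLaw.exists_lift t).choose_spec.choose_spec.choose_spec,
      (PolynomialLaw.exists_lift (φ.toLinearMap.rTensor M t)).choose_spec.choose_spec.choose_spec]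

lemma ext_apply (H : Hyp F ι) (hι : Function.Injective ι) {S : Type u} [CommSemiring S]
    [Algebra A S] {n : ℕ} (ψ : P A n →ₐ[A] S) (p : P A n ⊗[A] M) :
    (ext H hι).toFun' S (ψ.toLinearMap.rTensor M p) = ψ.toLinearMap.rTensor N₀ (G H n p) := by
  show (PolynomialLaw.exists_lift _).choose_spec.choose.toLinearMap.rTensor N₀ _ = _
  apply WD H hι
  rw [(PolynomialLaw.exists_lift (ψ.toLinearMap.rTensor M p)).choose_spec.choose_spec.choose_spec]

theorem lTensor_ext (H : Hyp F ι) (hι : Function.Injective ι) (S : Type u) [CommSemiring S]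
    [Algebra A S] (t : S ⊗[A] M) :
    ι.lTensor S ((ext H hι).toFun' S t) = F.toFun' S t := by
  obtain ⟨n, ψ, p, rfl⟩ := PolynomialLaw.exists_lift t
  rw [ext_apply, lTensor_rTensor, G_spec, PolynomialLaw.isCompat_apply']

end Groth.Agent.Lib.Helper14.PolLawExt
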