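import Mathlib
import Groth.Prelude.Def_PolLaw

/-!
# Multiplicative polynomial laws into reduced algebras (helper14)

`isRadical_ker`: for a multiplicative homogeneous polynomial law `F : B → C` with `C` reduced, the kernel of
`F` is a radical ideal.
-/

set_option autoImplicit false
universe u
open Polynomial TensorProduct

namespace Groth.Agent.Lib.Helper14.PolLawRed


/-- Lemma P -/
theorem eq_C_of_mul_eq_C_pow {D : Type*} [CommRing D] [IsDomain D] (g h : D[X]) (c : D)
    (hc : c ≠ 0) (n : ℕ) (hgh : g * h = (C c) ^ n) (h0 : g.eval 0 = c) : g = C c := by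
  have hne : g * h ≠ 0 := by
    rw [hgh, ← C_pow]
    exact C_ne_zero.mpr (pow_ne_zero n hc)
  have hg : g ≠ 0 := left_ne_zero_of_mul hne
  have hh : h ≠ 0 := right_ne_zero_of_mul hne
  have hdeg : (g * h).natDegree = 0 := by rw [hgh, ← C_pow, natDegree_C]
  rw [natDegree_mul hg hh] at hdeg
  have hg0 : g.natDegree = 0 := by omega
  rw [eq_C_of_natDegree_eq_zero hg0, ← h0]
  congr 1
  rw [← coeff_zero_eq_eval_zero]

/-- Lemma Q' -/
theorem eq_C_of_mul_eq_C_pow_of_isReduced {R : Type*} [CommRing R] [IsReduced R]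
    (g h : R[X][X]) (n : ℕ) (hgh : g * h = (C (g.eval 0)) ^ n)
    (h1 : (g.eval 0).eval 0 = 1) : g = C (g.eval 0) := by
  have key : ∀ (P : Ideal R) [P.IsPrime],
      map (mapRingHom (Ideal.Quotient.mk P)) g =
        map (mapRingHom (Ideal.Quotient.mk P)) (C (g.eval 0)) := by
    intro P _
    set π := Ideal.Quotient.mk P
    have h2 : map (mapRingHom π) g * map (mapRingHom π) h =
        (C (map π (g.eval 0))) ^ n := by
      rw [← Polynomial.map_mul, hgh, Polynomial.map_pow, map_C]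
      rfl
    have hc : map π (g.eval 0) ≠ 0 := by
      intro h0
      have := congrArg (eval 0) h0
      rw [eval_zero_map, h1, map_one, eval_zero] at this
      exact one_ne_zero this
    have h3 : (map (mapRingHom π) g).eval 0 = map π (g.eval 0) := by
      rw [eval_zero_map]
      rfl
    rw [eq_C_of_mul_eq_C_pow _ _ _ hc n h2 h3, map_C]
    rfl
  ext i j
  have hmem : ((g - C (g.eval 0)).coeff i).coeff j ∈ nilradical R := by
    rw [nilradical_eq_sInf, Ideal.mem_sInf]
    intro P hP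
    haveI : P.IsPrime := hP
    have h4 := key P
    have h5 : map (mapRingHom (Ideal.Quotient.mk P)) (g - C (g.eval 0)) = 0 := by
      rw [Polynomial.map_sub, h4, sub_self]
    have h6 := congrArg (fun p : (R ⧸ P)[X][X] => (p.coeff i).coeff j) h5
    simp only [coeff_map, coe_mapRingHom, coeff_zero] at h6
    exact Ideal.Quotient.eq_zero_iff_mem.mp h6
  rw [nilradical_eq_zero, Ideal.zero_eq_bot, Ideal.mem_bot] at hmem
  have : (g.coeff i).coeff j - ((C (g.eval 0) : R[X][X]).coeff i).coeff j = 0 := by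
    rw [← coeff_sub, ← coeff_sub]
    exact hmem
  exact sub_eq_zero.mp this



section Theta
variable (A : Type*) [CommRing A] (T : Type*) [CommRing T] [Algebra A T]

/-- `t ↦ 0` -/
noncomputable def outerZero : T[X][X] →ₐ[A] T[X][X] :=
  (CAlgHom (R := A) (A := T[X])).comp ((aeval (R := T[X]) (0 : T[X])).restrictScalars A)

/-- `v ↦ 0` -/
noncomputable def innerZero : T[X][X] →ₐ[A] T[X][X] :=
  mapAlgHom ((CAlgHom (R := A) (A := T)).comp ((aeval (R := T) (0 : T)).restrictScalars A))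

/-- `t, v ↦ 1` -/
noncomputable def evOne : T[X][X] →ₐ[A] T :=
  ((aeval (R := T) (1 : T)).restrictScalars A).comp
    ((aeval (R := T[X]) (1 : T[X])).restrictScalars A)

lemma outerZero_apply (p : T[X][X]) : outerZero A T p = C (p.eval 0) := by
  simp [outerZero]

lemma innerZero_C (p : T[X]) : innerZero A T (C p) = C (C (p.eval 0)) := by
  simp [innerZero]

variable (S₀ : Type*) [CommRing S₀] [Algebra A S₀] (C' : Type*) [CommRing C'] [Algebra A C']

/-- the comparison map `S₀[v][t] ⊗ C → (S₀ ⊗ C)[v][t]` -/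
noncomputable def Theta : S₀[X][X] ⊗[A] C' →ₐ[A] (S₀ ⊗[A] C')[X][X] :=
  Algebra.TensorProduct.lift
    (mapAlgHom (mapAlgHom (Algebra.TensorProduct.includeLeft : S₀ →ₐ[A] S₀ ⊗[A] C')))
    ((CAlgHom (R := A) (A := (S₀ ⊗[A] C')[X])).comp ((CAlgHom (R := A) (A := S₀ ⊗[A] C')).comp
      (Algebra.TensorProduct.includeRight : C' →ₐ[A] S₀ ⊗[A] C')))
    (fun _ _ => mul_comm (G := (S₀ ⊗[A] C')[X][X]) _ _)

lemma Theta_outerZero :
    (Theta A S₀ C').comp (Algebra.TensorProduct.map (outerZero A S₀) (AlgHom.id A C')) =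
      (outerZero A (S₀ ⊗[A] C')).comp (Theta A S₀ C') := by
  ext <;> simp [Theta, outerZero, ← Algebra.TensorProduct.one_def]

lemma Theta_innerZero :
    (Theta A S₀ C').comp (Algebra.TensorProduct.map (innerZero A S₀) (AlgHom.id A C')) =
      (innerZero A (S₀ ⊗[A] C')).comp (Theta A S₀ C') := by
  ext <;> simp [Theta, innerZero]

lemma evOne_Theta :
    (evOne A (S₀ ⊗[A] C')).comp (Theta A S₀ C') =
      Algebra.TensorProduct.map (evOne A S₀) (AlgHom.id A C') := by
  ext <;> simp [Theta, evOne]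

end Theta



section compat
variable {A : Type u} [CommRing A] {B C : Type u} [CommRing B] [Algebra A B] [CommRing C]
  [Algebra A C]

lemma rTensor_eq_map {S S' : Type*} [CommSemiring S] [Algebra A S] [CommSemiring S'] [Algebra A S']
    (φ : S →ₐ[A] S') (M : Type*) [CommRing M] [Algebra A M] (z : S ⊗[A] M) :
    (φ.toLinearMap.rTensor M) z = Algebra.TensorProduct.map φ (AlgHom.id A M) z := by
  induction z using TensorProduct.induction_on with
  | zero => simp
  | tmul a b => rfl
  | add a b ha hb => simp [ha, hb]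

lemma toFun'_map (f : B →ₚₗ[A] C) {S S' : Type u} [CommSemiring S] [Algebra A S] [CommSemiring S']
    [Algebra A S'] (φ : S →ₐ[A] S') (z : S ⊗[A] B) :
    f.toFun' S' (Algebra.TensorProduct.map φ (AlgHom.id A B) z) =
      Algebra.TensorProduct.map φ (AlgHom.id A C) (f.toFun' S z) := by
  rw [← rTensor_eq_map, ← rTensor_eq_map]
  exact (PolynomialLaw.isCompat_apply' (f := f) φ z).symm

/-- lifting two elements to a polynomial ring -/
lemma exists_lift₂ {S : Type u} [CommSemiring S] [Algebra A S] (x w : S ⊗[A] B) :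
    ∃ (n : ℕ) (ψ : MvPolynomial (Fin n) A →ₐ[A] S) (x' w' : MvPolynomial (Fin n) A ⊗[A] B),
      Algebra.TensorProduct.map ψ (AlgHom.id A B) x' = x ∧
      Algebra.TensorProduct.map ψ (AlgHom.id A B) w' = w := by
  obtain ⟨A₁, hA₁, hx⟩ := TensorProduct.Algebra.exists_of_fg x
  obtain ⟨A₂, hA₂, hw⟩ := TensorProduct.Algebra.exists_of_fg w
  obtain ⟨gen, hgen⟩ := PolynomialLaw.exists_range_φ_eq_of_fg (hA₁.sup hA₂)
  have h1 : A₁ ≤ (PolynomialLaw.φ A gen).range := hgen ▸ le_sup_left
  have h2 : A₂ ≤ (PolynomialLaw.φ A gen).range := hgen ▸ le_sup_right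
  obtain ⟨x', hx'⟩ := PolynomialLaw.exists_lift_of_mem_range_rTensor A₁ h1 hx
  obtain ⟨w', hw'⟩ := PolynomialLaw.exists_lift_of_mem_range_rTensor A₂ h2 hw
  refine ⟨gen.card, PolynomialLaw.φ A gen, x', w', ?_, ?_⟩
  · rw [← rTensor_eq_map]; exact hx'
  · rw [← rTensor_eq_map]; exact hw'

end compat



theorem isReduced_mvPolynomial_tensor (A : Type*) [CommRing A] (C : Type*) [CommRing C] [Algebra A C]
    [IsReduced C] (σ : Type*) : IsReduced (MvPolynomial σ A ⊗[A] C) := by
  let e₁ : MvPolynomial σ A ⊗[A] C ≃+* C ⊗[A] MvPolynomial σ A :=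
    (Algebra.TensorProduct.comm A (MvPolynomial σ A) C).toRingEquiv
  let e₂ : C ⊗[A] MvPolynomial σ A ≃+* MvPolynomial σ C :=
    (MvPolynomial.algebraTensorAlgEquiv A C).toRingEquiv
  exact isReduced_of_injective (e₁.trans e₂).toRingHom (e₁.trans e₂).injective


section core
variable {A : Type u} [CommRing A] {B E : Type u} [CommRing B] [Algebra A B] [CommRing E]
  [Algebra A E] {d : ℕ} (F : PolLaw.MulLaw A B E d)

lemma toFun'_pow (S : Type u) [CommSemiring S] [Algebra A S] (z : S ⊗[A] B) (m : ℕ) :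
    F.law.toFun' S (z ^ m) = (F.law.toFun' S z) ^ m := by
  induction m with
  | zero => rw [pow_zero, pow_zero, (F.mult S).1]
  | succ m ih => rw [pow_succ, (F.mult S).2, ih, pow_succ]

variable (S₀ : Type u) [CommRing S₀] [Algebra A S₀]

/-- the inclusion of constants -/
noncomputable def iota : S₀ →ₐ[A] S₀[X][X] :=
  (CAlgHom (R := A) (A := S₀[X])).comp (CAlgHom (R := A) (A := S₀))

lemma outerZero_comp_iota : (outerZero A S₀).comp (iota (A := A) S₀) = iota S₀ := by
  ext s; simp [outerZero, iota]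

lemma innerZero_comp_iota : (innerZero A S₀).comp (iota (A := A) S₀) = iota S₀ := by
  ext s; simp [innerZero, iota]

lemma evOne_comp_iota : (evOne A S₀).comp (iota (A := A) S₀) = AlgHom.id A S₀ := by
  ext s; simp [evOne, iota]

lemma map_comp_iota_apply {T : Type u} [CommRing T] [Algebra A T] (φ : S₀[X][X] →ₐ[A] T)
    (z : S₀ ⊗[A] B) :
    Algebra.TensorProduct.map φ (AlgHom.id A B)
      (Algebra.TensorProduct.map (iota (A := A) S₀) (AlgHom.id A B) z) =
    Algebra.TensorProduct.map (φ.comp (iota S₀)) (AlgHom.id A B) z := by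
  have := Algebra.TensorProduct.map_comp φ (iota (A := A) S₀) (AlgHom.id A B) (AlgHom.id A B)
  rw [AlgHom.comp_id] at this
  rw [this]
  rfl

theorem core [IsReduced (S₀ ⊗[A] E)] (b : B) (m : ℕ) (hb : b ^ m ∈ PolLaw.ker F.law)
    (x w : S₀ ⊗[A] B) :
    F.law.toFun' S₀ (x + w * (1 ⊗ₜ[A] b)) = F.law.toFun' S₀ x := by
  -- notation
  set ιh := Algebra.TensorProduct.map (iota (A := A) S₀) (AlgHom.id A B) with hιh
  set That : S₀[X][X] ⊗[A] B := (X : S₀[X][X]) ⊗ₜ[A] (1 : B) with hThat
  set Vhat : S₀[X][X] ⊗[A] B := (C X : S₀[X][X]) ⊗ₜ[A] (1 : B) with hVhat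
  set y : S₀ ⊗[A] B := w * (1 ⊗ₜ[A] b) with hy
  set Xh : S₀[X][X] ⊗[A] B := 1 + Vhat * ιh (x - 1) with hXh
  set Yh : S₀[X][X] ⊗[A] B := That * ιh y with hYh
  set oh := Algebra.TensorProduct.map (outerZero A S₀) (AlgHom.id A B) with hoh
  set ih := Algebra.TensorProduct.map (innerZero A S₀) (AlgHom.id A B) with hih
  set eh := Algebra.TensorProduct.map (evOne A S₀) (AlgHom.id A B) with heh
  -- images
  have o_iota : ∀ z, oh (ιh z) = ιh z := fun z => by
    rw [hoh, hιh, map_comp_iota_apply, outerZero_comp_iota]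
  have i_iota : ∀ z, ih (ιh z) = ιh z := fun z => by
    rw [hih, hιh, map_comp_iota_apply, innerZero_comp_iota]
  have e_iota : ∀ z, eh (ιh z) = z := fun z => by
    rw [heh, hιh, map_comp_iota_apply, evOne_comp_iota, Algebra.TensorProduct.map_id]
    rfl
  have oT : oh That = 0 := by
    rw [hoh, hThat, Algebra.TensorProduct.map_tmul, outerZero_apply]
    simp
  have oV : oh Vhat = Vhat := by
    rw [hoh, hVhat, Algebra.TensorProduct.map_tmul, outerZero_apply]
    simp
  have iV : ih Vhat = 0 := by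
    rw [hih, hVhat, Algebra.TensorProduct.map_tmul]
    simp [innerZero]
  have eT : eh That = 1 := by
    rw [heh, hThat, Algebra.TensorProduct.map_tmul]
    simp [evOne, Algebra.TensorProduct.one_def]
  have eV : eh Vhat = 1 := by
    rw [heh, hVhat, Algebra.TensorProduct.map_tmul]
    simp [evOne, Algebra.TensorProduct.one_def]
  have oX : oh Xh = Xh := by rw [hXh, map_add, map_one, map_mul, oV, o_iota]
  have oY : oh Yh = 0 := by rw [hYh, map_mul, oT, zero_mul]
  have iX : ih Xh = 1 := by rw [hXh, map_add, map_one, map_mul, iV, zero_mul, add_zero]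
  have eX : eh Xh = x := by rw [hXh, map_add, map_one, map_mul, eV, one_mul, e_iota]; ring
  have eY : eh Yh = y := by rw [hYh, map_mul, eT, one_mul, e_iota]
  -- the three values
  set G := F.law.toFun' S₀[X][X] (Xh + Yh) with hG
  set G₀ := F.law.toFun' S₀[X][X] Xh with hG₀
  set Sg := ∑ i ∈ Finset.range m, Xh ^ i * (-Yh) ^ (m - 1 - i) with hSg
  set H := F.law.toFun' S₀[X][X] Sg with hH
  have hgeom : Sg * (Xh + Yh) = Xh ^ m - (-Yh) ^ m := by
    have h0 := geom_sum₂_mul Xh (-Yh) m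
    have e : Xh - -Yh = Xh + Yh := by ring
    rw [e] at h0
    exact h0
  have hιb : ιh (1 ⊗ₜ[A] b) = 1 ⊗ₜ[A] b := by
    rw [hιh, Algebra.TensorProduct.map_tmul, map_one]
    rfl
  have hneg : -(-Yh) ^ m = (-(-(That * ιh w)) ^ m) * (1 ⊗ₜ[A] (b ^ m)) := by
    have h1 : -Yh = (-(That * ιh w)) * (1 ⊗ₜ[A] b) := by
      rw [hYh, hy, map_mul, hιb]; ring
    have h2 : ((-(That * ιh w)) * (1 ⊗ₜ[A] b)) ^ m =
        (-(That * ιh w)) ^ m * (1 ⊗ₜ[A] (b ^ m)) := by
      have h3 := mul_pow (-(That * ιh w)) (1 ⊗ₜ[A] b : S₀[X][X] ⊗[A] B) m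
      rw [h3, Algebra.TensorProduct.tmul_pow, one_pow]
    rw [h1, h2]
    ring
  have hHG : H * G = G₀ ^ m := by
    rw [hH, hG, ← (F.mult _).2, hgeom, sub_eq_add_neg, hneg, hb S₀[X][X] (Xh ^ m) _, toFun'_pow]
  -- transport to polynomials
  set Θ := Theta A S₀ E with hΘdef
  set g := Θ G with hg
  have hΘG₀ : Θ G₀ = C (g.eval 0) := by
    have h1 : G₀ = Algebra.TensorProduct.map (outerZero A S₀) (AlgHom.id A E) G := by
      rw [hG, ← toFun'_map, ← hoh, map_add, oX, oY, add_zero]
    rw [h1]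
    have h2 := congrArg (fun φ => φ G) (Theta_outerZero A S₀ E)
    simp only [AlgHom.comp_apply] at h2
    rw [h2, outerZero_apply]
  have h1' : (g.eval 0).eval 0 = 1 := by
    have h2 : Algebra.TensorProduct.map (innerZero A S₀) (AlgHom.id A E) G₀ = 1 := by
      rw [hG₀, ← toFun'_map, ← hih, iX, (F.mult _).1]
    have h3 := congrArg (fun φ => φ G₀) (Theta_innerZero A S₀ E)
    simp only [AlgHom.comp_apply] at h3
    rw [h2, map_one, hΘG₀, innerZero_C] at h3
    have h4 : (C (C ((g.eval 0).eval 0)) : (S₀ ⊗[A] E)[X][X]) = C (C 1) := by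
      rw [← h3, C_1, C_1]
    exact C_injective (C_injective h4)
  have hgh : g * Θ H = (C (g.eval 0)) ^ m := by
    calc g * Θ H = Θ H * Θ G := mul_comm (G := (S₀ ⊗[A] E)[X][X]) _ _
      _ = Θ (H * G) := (map_mul _ _ _).symm
      _ = Θ (G₀ ^ m) := by rw [hHG]
      _ = (Θ G₀) ^ m := map_pow _ _ _
      _ = _ := by rw [hΘG₀]
  have hgC : g = C (g.eval 0) := eq_C_of_mul_eq_C_pow_of_isReduced g (Θ H) m hgh h1'
  have hΘ : Θ G = Θ G₀ := by rw [hΘG₀]; exact hgC
  have h4 := congrArg (fun φ => φ G) (evOne_Theta A S₀ E)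
  have h5 := congrArg (fun φ => φ G₀) (evOne_Theta A S₀ E)
  simp only [AlgHom.comp_apply] at h4 h5
  have h6 : Algebra.TensorProduct.map (evOne A S₀) (AlgHom.id A E) G =
      Algebra.TensorProduct.map (evOne A S₀) (AlgHom.id A E) G₀ := by
    rw [← h4, ← h5, hΘ]
  rw [hG, hG₀, ← toFun'_map, ← toFun'_map, ← heh, map_add, eX, eY] at h6
  exact h6

end core

section radical
variable {A : Type u} [CommRing A] {B E : Type u} [CommRing B] [Algebra A B] [CommRing E]
  [Algebra A E] {d : ℕ} (F : PolLaw.MulLaw A B E d)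

/-- the kernel of a multiplicative law into a reduced algebra is a radical ideal -/
theorem isRadical_ker [IsReduced E] : (PolLaw.ker F.law).IsRadical := by
  intro b hb
  obtain ⟨m, hm⟩ := hb
  intro S _ _ x w
  obtain ⟨n, ψ, x', w', hx, hw⟩ := exists_lift₂ x w
  haveI := isReduced_mvPolynomial_tensor A E (Fin n)
  have h := core F (MvPolynomial (Fin n) A) b m hm x' w'
  have h2 := congrArg (Algebra.TensorProduct.map ψ (AlgHom.id A E)) h
  rw [← toFun'_map, ← toFun'_map, map_add, map_mul, hx, hw, Algebra.TensorProduct.map_tmul,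
    map_one] at h2
  exact h2

end radical

end Groth.Agent.Lib.Helper14.PolLawRed
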