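import Mathlib
import Groth.Prelude.Def_PolLaw
import Groth.Agent.Lib.Helper14PolLawExt
import Groth.Agent.Lib.Helper14PolLawRed

/-!
# `Γ^d_A(B)` is generated by the coefficients of its universal law (helper14)

`restrict` (restriction of a multiplicative law to a subalgebra containing its values on polynomial
rings, via `PolLawExt.ext`), `subalgebra_eq_top` (for `IsGammaD γ`, such a subalgebra is `⊤`),
`surjective_of_surjective` (functoriality of `Γ^d` preserves surjections).
-/

set_option autoImplicit false
universe u
open TensorProduct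

namespace Groth.Agent.Lib.Helper14.GammaGen

open Groth.Agent.Lib.Helper14.PolLawExt
open Groth.Agent.Lib.Helper14.PolLawRed (toFun'_map rTensor_eq_map exists_lift₂)

section semilinear
variable {A : Type u} [CommRing A] {M : Type u} [AddCommGroup M] [Module A M]

lemma rTensor_smul {S S' : Type u} [CommSemiring S] [Algebra A S] [CommSemiring S'] [Algebra A S']
    (ψ : S →ₐ[A] S') (q : S) (p : S ⊗[A] M) :
    ψ.toLinearMap.rTensor M (q • p) = ψ q • ψ.toLinearMap.rTensor M p := by
  induction p using TensorProduct.induction_on with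
  | zero => simp
  | tmul a m =>
    rw [TensorProduct.smul_tmul', LinearMap.rTensor_tmul, LinearMap.rTensor_tmul,
      TensorProduct.smul_tmul']
    simp
  | add x y hx hy => rw [smul_add, map_add, hx, hy, map_add, smul_add]

lemma lTensor_smul {N N' : Type u} [AddCommGroup N] [Module A N] [AddCommGroup N'] [Module A N']
    (ι : N →ₗ[A] N') {S : Type u} [CommSemiring S] [Algebra A S] (q : S) (y : S ⊗[A] N) :
    ι.lTensor S (q • y) = q • ι.lTensor S y := by
  induction y using TensorProduct.induction_on with
  | zero => simp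
  | tmul a m =>
    rw [TensorProduct.smul_tmul', LinearMap.lTensor_tmul, LinearMap.lTensor_tmul,
      TensorProduct.smul_tmul']
  | add x y hx hy => rw [smul_add, map_add, hx, hy, map_add, smul_add]

end semilinear

section gamma
variable {A : Type u} [CommRing A] {B C : Type u} [CommRing B] [Algebra A B] [CommRing C]
  [Algebra A C] {d : ℕ}

/-- the restriction of a multiplicative law to a subalgebra containing its values on
polynomial rings -/
noncomputable def restrict (γ : PolLaw.MulLaw A B C d) (C₁ : Subalgebra A C)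
    (h : Hyp γ.law C₁.val.toLinearMap) : PolLaw.MulLaw A B C₁ d where
  law := ext h Subtype.val_injective
  homog S _ _ s x := by
    obtain ⟨n, ψ, p, q, rfl, rfl⟩ := PolynomialLaw.exists_lift' x s
    rw [← rTensor_smul, ext_apply, ext_apply]
    have h1 : G h n (q • p) = q ^ d • G h n p := by
      apply lTensor_injective (ι := C₁.val.toLinearMap) Subtype.val_injective n
      rw [G_spec, lTensor_smul, G_spec, γ.homog]
    rw [h1, rTensor_smul, map_pow]
  mult S _ _ := by
    refine ⟨?_, fun x y => ?_⟩
    · set ψ : P A 0 →ₐ[A] S := MvPolynomial.aeval Fin.elim0 with hψ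
      have h1 : (1 : S ⊗[A] B) = ψ.toLinearMap.rTensor B 1 := by
        rw [rTensor_eq_map, map_one]
      rw [h1, ext_apply]
      have h2 : G h 0 1 = 1 := by
        apply lTensor_injective (ι := C₁.val.toLinearMap) Subtype.val_injective 0
        rw [G_spec, (γ.mult _).1, PolLaw.lTensor_algHom_apply, map_one]
      rw [h2, rTensor_eq_map, map_one]
    · obtain ⟨n, ψ, p, p', rfl, rfl⟩ := exists_lift₂ x y
      rw [← map_mul, ← rTensor_eq_map, ← rTensor_eq_map, ← rTensor_eq_map, ext_apply, ext_apply,
        ext_apply]
      have h1 : G h n (p * p') = G h n p * G h n p' := by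
        apply lTensor_injective (ι := C₁.val.toLinearMap) Subtype.val_injective n
        rw [G_spec, (γ.mult _).2, PolLaw.lTensor_algHom_apply, map_mul,
          ← PolLaw.lTensor_algHom_apply, ← PolLaw.lTensor_algHom_apply, G_spec, G_spec]
      rw [h1, rTensor_eq_map, rTensor_eq_map, rTensor_eq_map, map_mul]

lemma lTensor_restrict (γ : PolLaw.MulLaw A B C d) (C₁ : Subalgebra A C)
    (h : Hyp γ.law C₁.val.toLinearMap) (S : Type u) [CommSemiring S] [Algebra A S]
    (t : S ⊗[A] B) :
    C₁.val.toLinearMap.lTensor S ((restrict γ C₁ h).law.toFun' S t) = γ.law.toFun' S t :=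
  lTensor_ext h Subtype.val_injective S t

/-- a subalgebra of `Γ^d_A(B)` containing the values of the universal law on polynomial rings is
everything -/
theorem subalgebra_eq_top (γ : PolLaw.MulLaw A B C d) (hγ : PolLaw.IsGammaD γ)
    (C₁ : Subalgebra A C) (h : Hyp γ.law C₁.val.toLinearMap) : C₁ = ⊤ := by
  obtain ⟨f, hf, -⟩ := hγ C₁ (restrict γ C₁ h)
  have h1 : PolLaw.postcomp (C₁.val.comp f).toLinearMap γ.law = γ.law := by
    ext S _ _ t
    show (C₁.val.comp f).toLinearMap.lTensor S (γ.law.toFun' S t) = _
    rw [AlgHom.comp_toLinearMap, LinearMap.lTensor_comp, LinearMap.comp_apply]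
    have h2 : f.toLinearMap.lTensor S (γ.law.toFun' S t) = (restrict γ C₁ h).law.toFun' S t := by
      rw [← hf]
      rfl
    rw [h2, lTensor_restrict]
  have h3 : PolLaw.postcomp (AlgHom.id A C).toLinearMap γ.law = γ.law := by
    ext S _ _ t
    show (AlgHom.id A C).toLinearMap.lTensor S (γ.law.toFun' S t) = _
    simp
  have h4 : C₁.val.comp f = AlgHom.id A C := (hγ C γ).unique h1 h3
  rw [eq_top_iff]
  intro c _
  have := congrArg (fun g : C →ₐ[A] C => g c) h4
  simp only [AlgHom.comp_apply, AlgHom.id_apply] at this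
  rw [← this]
  exact (f c).2

theorem surjective_of_surjective {B' C' : Type u} [CommRing B'] [Algebra A B'] [CommRing C']
    [Algebra A C'] (γ : PolLaw.MulLaw A B C d) (γ' : PolLaw.MulLaw A B' C' d)
    (hγ' : PolLaw.IsGammaD γ') (π : B →ₐ[A] B') (hπ : Function.Surjective π) (φ : C →ₐ[A] C')
    (hφ : PolLaw.postcomp φ.toLinearMap γ.law = (γ'.precomp π).law) :
    Function.Surjective φ := by
  have hH : Hyp γ'.law φ.range.val.toLinearMap := by
    intro n x'
    obtain ⟨x, rfl⟩ := LinearMap.lTensor_surjective (P A n) (g := π.toLinearMap) hπ x'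
    have h1 : γ'.law.toFun' (P A n) (π.toLinearMap.lTensor (P A n) x) =
        (γ'.precomp π).law.toFun' (P A n) x := rfl
    have h2 : (PolLaw.postcomp φ.toLinearMap γ.law).toFun' (P A n) x =
        φ.toLinearMap.lTensor (P A n) (γ.law.toFun' (P A n) x) := rfl
    rw [h1, ← hφ, h2]
    have h3 : φ.toLinearMap = φ.range.val.toLinearMap ∘ₗ φ.rangeRestrict.toLinearMap := by
      ext c
      rfl
    rw [h3, LinearMap.lTensor_comp, LinearMap.comp_apply]
    exact ⟨_, rfl⟩
  have := subalgebra_eq_top γ' hγ' φ.range hH
  exact AlgHom.range_eq_top φ |>.mp this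

end gamma

end Groth.Agent.Lib.Helper14.GammaGen
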