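import Mathlib
import Groth.Prelude.Def_PolLaw
import Groth.Prelude.Def_PolLaw2
import Groth.Agent.Lib.Helper14GammaGen

/-!
# The determinant law of a finite module over an integrally closed domain (helper14)

For a field `K` over `A` and a `B`-module `M` finite over `A`: `exists_basis_one_tmul` (a `K`-basis
of `K ⊗ M` of the form `1 ⊗ aᵢ`), `bR` (the induced basis of `R ⊗[A] M` for a `K`-algebra `R`),
`det_actEnd_map` (naturality of the determinant of the action along maps of `K`-algebras),
`detK`/`detKLaw` (the `K`-valued determinant law `B → K` over `A`), `isIntegral_det` (the determinant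
of an endomorphism preserving a finitely generated `P`-lattice containing a basis is integral over
`P`), `exists_eq_one_tmul` (for `A` integrally closed with fraction field `K` the determinant over
`K ⊗ A[t]` lies in `A[t]`), `detALaw` (the resulting `A`-valued law) and `main_exists`.
-/

set_option autoImplicit false
universe u
open TensorProduct

namespace Groth.Agent.Lib.Helper14.DetNormal

section basis
variable {A : Type u} [CommRing A] (K : Type u) [Field K] [Algebra A K]
  (M : Type u) [AddCommGroup M] [Module A M] [Module.Finite A M]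

lemma span_one_tmul : Submodule.span K (Set.range (fun m : M => (1 : K) ⊗ₜ[A] m)) = ⊤ := by
  rw [eq_top_iff]
  rintro z -
  induction z using TensorProduct.induction_on with
  | zero => exact Submodule.zero_mem _
  | tmul k m =>
    have : k ⊗ₜ[A] m = k • ((1 : K) ⊗ₜ[A] m) := by
      rw [TensorProduct.smul_tmul', smul_eq_mul, mul_one]
    rw [this]
    exact Submodule.smul_mem _ _ (Submodule.subset_span ⟨m, rfl⟩)
  | add x y hx hy => exact Submodule.add_mem _ hx hy

lemma exists_basis_one_tmul :
    ∃ (κ : Type u) (_ : Fintype κ) (a : κ → M) (b : Module.Basis κ K (K ⊗[A] M)),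
      ∀ i, b i = (1 : K) ⊗ₜ[A] a i := by
  classical
  obtain ⟨κ, a, -, hsp, hli⟩ := exists_linearIndependent' K (fun m : M => (1 : K) ⊗ₜ[A] m)
  let b := Module.Basis.mk hli (by rw [hsp, span_one_tmul])
  have : Finite κ := Module.Finite.finite_basis b
  exact ⟨κ, Fintype.ofFinite κ, a, b, fun i => by simp [b]⟩

end basis

section det
variable {A : Type u} [CommRing A] {K : Type u} [Field K] [Algebra A K]
  {B : Type u} [CommRing B] [Algebra A B]
  {M : Type u} [AddCommGroup M] [Module A M] [Module B M] [IsScalarTower A B M]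
  {κ : Type u} [Fintype κ] {a : κ → M} (b : Module.Basis κ K (K ⊗[A] M))
  (hb : ∀ i, b i = (1 : K) ⊗ₜ[A] a i)

/-- the basis `1 ⊗ a i` of `R ⊗[A] M` for a `K`-algebra `R` -/
noncomputable def bR (R : Type u) [CommRing R] [Algebra A R] [Algebra K R] [IsScalarTower A K R] :
    Module.Basis κ R (R ⊗[A] M) :=
  (Algebra.TensorProduct.basis R b).map (AlgebraTensorModule.cancelBaseChange A K R R M)

omit [Fintype κ] in
include hb in
lemma bR_apply (R : Type u) [CommRing R] [Algebra A R] [Algebra K R] [IsScalarTower A K R]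
    (i : κ) : bR b R i = (1 : R) ⊗ₜ[A] a i := by
  rw [bR, Module.Basis.map_apply, Algebra.TensorProduct.basis_apply, hb,
    AlgebraTensorModule.cancelBaseChange_tmul, one_smul]

variable {R R' : Type u} [CommRing R] [Algebra A R] [Algebra K R] [IsScalarTower A K R]
  [CommRing R'] [Algebra A R'] [Algebra K R'] [IsScalarTower A K R']

include hb in
lemma repr_rTensor (ψ : R →ₐ[A] R') (z : R ⊗[A] M) (i : κ) :
    (bR b R').repr (ψ.toLinearMap.rTensor M z) i = ψ ((bR b R).repr z i) := by
  classical
  conv_lhs => rw [← (bR b R).sum_repr z]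
  rw [map_sum, map_sum, Finset.sum_apply']
  simp_rw [GammaGen.rTensor_smul, bR_apply b hb, LinearMap.rTensor_tmul, AlgHom.toLinearMap_apply,
    map_one, ← bR_apply b hb R', map_smul, Module.Basis.repr_self, Finsupp.smul_apply,
    Finsupp.single_apply, smul_eq_mul, mul_ite, mul_one, mul_zero]
  rw [Finset.sum_ite_eq' Finset.univ i]
  simp

include hb in
theorem det_actEnd_map (ψ : R →ₐ[A] R') (x : R ⊗[A] B) :
    LinearMap.det (PolLaw.actEnd M R' (Algebra.TensorProduct.map ψ (AlgHom.id A B) x)) =
      ψ (LinearMap.det (PolLaw.actEnd M R x)) := by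
  classical
  rw [← LinearMap.det_toMatrix (bR b R'), ← LinearMap.det_toMatrix (bR b R), AlgHom.map_det]
  congr 1
  ext i j
  simp only [AlgHom.mapMatrix_apply, Matrix.map_apply, LinearMap.toMatrix_apply]
  rw [← repr_rTensor b hb ψ, PolLaw.rTensor_actEnd M ψ, bR_apply b hb, bR_apply b hb,
    LinearMap.rTensor_tmul, AlgHom.toLinearMap_apply, map_one]

end det

section law
variable (A : Type u) [CommRing A] (K : Type u) [Field K] [Algebra A K]
  (B : Type u) [CommRing B] [Algebra A B]
  (M : Type u) [AddCommGroup M] [Module A M] [Module B M] [IsScalarTower A B M]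

/-- `S ⊗ B → (K ⊗ S) ⊗ B` -/
noncomputable abbrev toR (S : Type u) [CommSemiring S] [Algebra A S] :
    S ⊗[A] B →ₐ[A] (K ⊗[A] S) ⊗[A] B :=
  Algebra.TensorProduct.map (Algebra.TensorProduct.includeRight : S →ₐ[A] K ⊗[A] S) (AlgHom.id A B)

/-- the value of the `K`-valued determinant law -/
noncomputable def detK (S : Type u) [CommSemiring S] [Algebra A S] (x : S ⊗[A] B) : S ⊗[A] K :=
  Algebra.TensorProduct.comm A K S (LinearMap.det (PolLaw.actEnd M (K ⊗[A] S) (toR A K B S x)))

variable {A K B M}

lemma detK_one (S : Type u) [CommSemiring S] [Algebra A S] : detK A K B M S 1 = 1 := by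
  unfold detK
  rw [map_one, map_one, map_one, map_one]

lemma detK_mul (S : Type u) [CommSemiring S] [Algebra A S] (x y : S ⊗[A] B) :
    detK A K B M S (x * y) = detK A K B M S x * detK A K B M S y := by
  unfold detK
  rw [map_mul, map_mul, map_mul, map_mul]

variable [Module.Finite A M]

lemma detK_compat {S S' : Type u} [CommSemiring S] [Algebra A S] [CommSemiring S'] [Algebra A S']
    (φ : S →ₐ[A] S') (x : S ⊗[A] B) :
    φ.toLinearMap.rTensor K (detK A K B M S x) = detK A K B M S' (φ.toLinearMap.rTensor B x) := by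
  obtain ⟨κ, _, a, b, hb⟩ := exists_basis_one_tmul (A := A) K M
  let ψ : K ⊗[A] S →ₐ[A] K ⊗[A] S' := Algebra.TensorProduct.map (AlgHom.id A K) φ
  have hψ : Algebra.TensorProduct.map ψ (AlgHom.id A B) (toR A K B S x) =
      toR A K B S' (φ.toLinearMap.rTensor B x) := by
    induction x using TensorProduct.induction_on with
    | zero => simp
    | tmul s b => simp [ψ, Algebra.TensorProduct.map_tmul, LinearMap.rTensor_tmul]
    | add x y hx hy => simp only [map_add, hx, hy]
  have hcomm : ∀ r : K ⊗[A] S, Algebra.TensorProduct.comm A K S' (ψ r) =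
      φ.toLinearMap.rTensor K (Algebra.TensorProduct.comm A K S r) := by
    intro r
    induction r using TensorProduct.induction_on with
    | zero => simp
    | tmul k s => simp [ψ, Algebra.TensorProduct.map_tmul, LinearMap.rTensor_tmul]
    | add x y hx hy => simp only [map_add, hx, hy]
  unfold detK
  rw [← hψ, det_actEnd_map b hb ψ, hcomm]

lemma detK_smul (S : Type u) [CommSemiring S] [Algebra A S] (s : S) (x : S ⊗[A] B) :
    detK A K B M S (s • x) = s ^ Module.finrank K (K ⊗[A] M) • detK A K B M S x := by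
  classical
  obtain ⟨κ, _, a, b, hb⟩ := exists_basis_one_tmul (A := A) K M
  have hx : toR A K B S (s • x) = ((1 : K) ⊗ₜ[A] s) • toR A K B S x := by
    induction x using TensorProduct.induction_on with
    | zero => simp
    | tmul t c =>
      simp [TensorProduct.smul_tmul', Algebra.TensorProduct.map_tmul,
        Algebra.TensorProduct.tmul_mul_tmul]
    | add x y hx hy => simp only [smul_add, map_add, hx, hy]
  unfold detK
  rw [hx, map_smul, ← LinearMap.det_toMatrix (bR b (K ⊗[A] S)), map_smul, Matrix.det_smul,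
    LinearMap.det_toMatrix, map_mul, map_pow, Algebra.TensorProduct.comm_tmul,
    Module.finrank_eq_card_basis b, Algebra.smul_def, Algebra.TensorProduct.algebraMap_apply,
    map_pow]
  simp

end law

section integral
variable {P R : Type*} [CommRing P] [CommRing R] [IsDomain R] [Algebra P R]
  {N₁ : Type*} [AddCommGroup N₁] [Module R N₁]
  {κ J : Type*} [Fintype κ] [Fintype J]

/-- the determinant of an endomorphism of a finite free module over a domain `R` which preserves
the `P`-span of a finite family containing a basis is integral over `P` -/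
theorem isIntegral_det (bR : Module.Basis κ R N₁) (g : J → N₁) (hg : ∀ i, ∃ j, g j = bR i)
    (f : N₁ →ₗ[R] N₁)
    (hf : ∀ j, ∃ q : J → P, f (g j) = ∑ j', algebraMap P R (q j') • g j') :
    IsIntegral P (LinearMap.det f) := by
  classical
  let W : Submodule P R := Submodule.span P (Set.range (fun c : κ → J => bR.det (g ∘ c)))
  have hWfg : W.FG := Submodule.fg_span (Set.finite_range _)
  have hW0 : W ≠ ⊥ := by
    choose j hj using hg
    have h1 : bR.det (g ∘ j) = 1 := by
      have : g ∘ j = bR := funext hj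
      rw [this, Module.Basis.det_self]
    intro h
    have h2 : (1 : R) ∈ W := h1 ▸ Submodule.subset_span ⟨j, rfl⟩
    rw [h, Submodule.mem_bot] at h2
    exact one_ne_zero h2
  refine isIntegral_of_smul_mem_submodule W hW0 hWfg _ ?_
  intro w hw
  induction hw using Submodule.span_induction with
  | mem w hw =>
    obtain ⟨c, rfl⟩ := hw
    choose q hq using hf
    show LinearMap.det f • bR.det (g ∘ c) ∈ W
    rw [smul_eq_mul, ← Module.Basis.det_comp]
    have h1 : (f ∘ (g ∘ c)) = fun i => ∑ j', algebraMap P R (q (c i) j') • g j' := by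
      funext i
      exact hq (c i)
    rw [h1, ← AlternatingMap.coe_multilinearMap, MultilinearMap.map_sum]
    refine Submodule.sum_mem _ (fun c' _ => ?_)
    rw [MultilinearMap.map_smul_univ, ← map_prod, algebraMap_smul]
    exact Submodule.smul_mem _ _ (Submodule.subset_span ⟨c', rfl⟩)
  | zero => simp
  | add x y _ _ hx hy => rw [smul_add]; exact Submodule.add_mem _ hx hy
  | smul p x _ hx => rw [smul_comm]; exact Submodule.smul_mem _ _ hx

end integral

open Groth.Agent.Lib.Helper14.PolLawExt (P Hyp)

section hyp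
variable {A : Type u} [CommRing A] 
  {B : Type u} [CommRing B] [Algebra A B]
  {M : Type u} [AddCommGroup M] [Module A M] [Module B M] [IsScalarTower A B M]

lemma exists_sum_tmul {J : Type*} [Fintype J] (gM : J → M)
    (hspan : Submodule.span A (Set.range gM) = ⊤) (S : Type u) [CommSemiring S] [Algebra A S]
    (z : S ⊗[A] M) : ∃ q : J → S, z = ∑ j, q j ⊗ₜ[A] gM j := by
  induction z using TensorProduct.induction_on with
  | zero => exact ⟨0, by simp⟩
  | tmul p m =>
    have hm : m ∈ Submodule.span A (Set.range gM) := hspan ▸ Submodule.mem_top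
    obtain ⟨c, rfl⟩ := (Submodule.mem_span_range_iff_exists_fun A).mp hm
    refine ⟨fun j => c j • p, ?_⟩
    rw [TensorProduct.tmul_sum]
    refine Finset.sum_congr rfl (fun j _ => ?_)
    rw [TensorProduct.tmul_smul, TensorProduct.smul_tmul']
  | add x y hx hy =>
    obtain ⟨q, rfl⟩ := hx
    obtain ⟨q', rfl⟩ := hy
    exact ⟨q + q', by simp [TensorProduct.add_tmul, Finset.sum_add_distrib]⟩

variable [IsDomain A] [IsIntegrallyClosed A] (K : Type u) [Field K] [Algebra A K]
  [IsFractionRing A K] [Module.Finite A M]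

omit [IsDomain A] in
attribute [local instance] MvPolynomial.algebraMvPolynomial in
theorem exists_eq_one_tmul (n : ℕ) (x : P A n ⊗[A] B) :
    ∃ p : P A n,
      PolLaw.detAct M (K ⊗[A] P A n) (toR A K B (P A n) x) = (1 : K) ⊗ₜ[A] p := by
  classical
  let _ : Algebra (P A n) (K ⊗[A] P A n) := Algebra.TensorProduct.rightAlgebra
  have : IsDomain (K ⊗[A] P A n) :=
    (MvPolynomial.algebraTensorAlgEquiv (σ := Fin n) A K).toMulEquiv.isDomain _
  obtain ⟨κ, _, a, b, hb⟩ := exists_basis_one_tmul (A := A) K M
  obtain ⟨k, m, hm⟩ := Module.Finite.exists_fin (R := A) (M := M)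
  let gM : κ ⊕ Fin k → M := Sum.elim a m
  have hspan : Submodule.span A (Set.range gM) = ⊤ := by
    rw [eq_top_iff, ← hm]
    apply Submodule.span_mono
    rintro _ ⟨i, rfl⟩
    exact ⟨Sum.inr i, rfl⟩
  have hint : IsIntegral (P A n)
      (PolLaw.detAct M (K ⊗[A] P A n) (toR A K B (P A n) x)) := by
    unfold PolLaw.detAct
    refine isIntegral_det (bR b (K ⊗[A] P A n)) (fun j => (1 : K ⊗[A] P A n) ⊗ₜ[A] gM j)
      (fun i => ⟨Sum.inl i, (bR_apply b hb _ i).symm⟩) _ (fun j => ?_)
    obtain ⟨q, hq⟩ := exists_sum_tmul gM hspan (P A n)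
      (PolLaw.actEnd M (P A n) x ((1 : P A n) ⊗ₜ[A] gM j))
    refine ⟨q, ?_⟩
    have h1 := PolLaw.rTensor_actEnd M
      (Algebra.TensorProduct.includeRight : P A n →ₐ[A] K ⊗[A] P A n) x ((1 : P A n) ⊗ₜ[A] gM j)
    rw [LinearMap.rTensor_tmul, AlgHom.toLinearMap_apply, map_one] at h1
    rw [← h1, hq, map_sum]
    refine Finset.sum_congr rfl (fun j' _ => ?_)
    rw [LinearMap.rTensor_tmul, AlgHom.toLinearMap_apply, TensorProduct.smul_tmul', smul_eq_mul,
      mul_one]
    rfl
  set D := PolLaw.detAct M (K ⊗[A] P A n) (toR A K B (P A n) x) with hD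
  let e := MvPolynomial.algebraTensorAlgEquiv (σ := Fin n) A K
  have hcomp : ((e : K ⊗[A] P A n →+* MvPolynomial (Fin n) K).comp
      (algebraMap (P A n) (K ⊗[A] P A n))) = algebraMap (P A n) (MvPolynomial (Fin n) K) := by
    refine RingHom.ext (fun p => ?_)
    rw [RingHom.comp_apply, Algebra.TensorProduct.right_algebraMap_apply, RingHom.coe_coe,
      MvPolynomial.algebraTensorAlgEquiv_tmul, one_smul, MvPolynomial.algebraMap_def]
  have hint' : IsIntegral (P A n) (e D) := by
    obtain ⟨g, hg, hg0⟩ := hint
    refine ⟨g, hg, ?_⟩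
    have h2 : Polynomial.eval₂ ((e : K ⊗[A] P A n →+* MvPolynomial (Fin n) K).comp
        (algebraMap (P A n) (K ⊗[A] P A n))) ((e : K ⊗[A] P A n →+* MvPolynomial (Fin n) K) D) g
          = 0 := by
      rw [← Polynomial.hom_eval₂, hg0, map_zero]
    rw [hcomp] at h2
    exact h2
  have hcoef := MvPolynomial.isIntegral_iff_isIntegral_coeff.mp hint'
  have hrange : e D ∈ Set.range (MvPolynomial.map (algebraMap A K)) := by
    rw [MvPolynomial.mem_range_map_iff_coeffs_subset]
    intro c hc
    rw [Finset.mem_coe, MvPolynomial.mem_coeffs_iff] at hc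
    obtain ⟨ν, -, rfl⟩ := hc
    exact IsIntegrallyClosed.isIntegral_iff.mp (hcoef ν)
  obtain ⟨p, hp⟩ := hrange
  refine ⟨p, ?_⟩
  rw [← MvPolynomial.algebraTensorAlgEquiv_symm_map, hp]
  exact (e.symm_apply_apply D).symm

end hyp

section main
variable {A : Type u} [CommRing A] [IsDomain A] [IsIntegrallyClosed A]
  (K : Type u) [Field K] [Algebra A K] [IsFractionRing A K]
  {B : Type u} [CommRing B] [Algebra A B]
  (M : Type u) [AddCommGroup M] [Module A M] [Module B M] [IsScalarTower A B M]
  [Module.Finite A M]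

/-- the `K`-valued determinant law -/
noncomputable def detKLaw (d : ℕ) (hd : Module.finrank K (K ⊗[A] M) = d) :
    PolLaw.MulLaw A B K d where
  law :=
    { toFun' := fun S _ _ => detK A K B M S
      isCompat' := fun φ => funext (detK_compat φ) }
  homog S _ _ s x := by
    show detK A K B M S (s • x) = _
    rw [detK_smul, hd]
  mult S _ _ := ⟨detK_one S, detK_mul S⟩

omit [IsDomain A] in
theorem hyp (d : ℕ) (hd : Module.finrank K (K ⊗[A] M) = d) :
    Hyp (detKLaw (B := B) K M d hd).law (⊥ : Subalgebra A K).val.toLinearMap := by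
  intro n x
  obtain ⟨p, hp⟩ := exists_eq_one_tmul (M := M) K n x
  refine ⟨p ⊗ₜ[A] (1 : (⊥ : Subalgebra A K)), ?_⟩
  show _ = detK A K B M (P A n) x
  unfold detK
  unfold PolLaw.detAct at hp
  rw [hp, LinearMap.lTensor_tmul, Algebra.TensorProduct.comm_tmul]
  rfl

/-- `A ≃ ⊥` -/
noncomputable def eBot : A ≃ₐ[A] (⊥ : Subalgebra A K) :=
  AlgEquiv.ofBijective (Algebra.ofId A (⊥ : Subalgebra A K))
    ⟨fun _ _ h => IsFractionRing.injective A K (congrArg Subtype.val h),
      fun ⟨_, a, ha⟩ => ⟨a, Subtype.ext ha⟩⟩

omit [IsDomain A] [IsIntegrallyClosed A] in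
lemma linearMap_comp_eBot_symm :
    (Algebra.linearMap A K) ∘ₗ (eBot (A := A) K).symm.toLinearMap =
      (⊥ : Subalgebra A K).val.toLinearMap := by
  refine LinearMap.ext (fun y => ?_)
  obtain ⟨a, rfl⟩ := (eBot (A := A) K).surjective y
  rw [LinearMap.comp_apply, AlgEquiv.toLinearMap_apply, AlgEquiv.symm_apply_apply]
  rfl

/-- the `A`-valued determinant law -/
noncomputable def detALaw (d : ℕ) (hd : Module.finrank K (K ⊗[A] M) = d) :
    PolLaw.MulLaw A B A d :=
  PolLaw.MulLaw.postcomp (eBot (A := A) K).symm.toAlgHom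
    (GammaGen.restrict (detKLaw (B := B) K M d hd) ⊥ (hyp K M d hd))

omit [IsDomain A] in
theorem lTensor_detALaw (d : ℕ) (hd : Module.finrank K (K ⊗[A] M) = d)
    (S : Type u) [CommSemiring S] [Algebra A S] (x : S ⊗[A] B) :
    (Algebra.linearMap A K).lTensor S ((detALaw (B := B) K M d hd).law.toFun' S x) =
      detK A K B M S x := by
  have h1 : (detALaw (B := B) K M d hd).law.toFun' S x =
      (eBot (A := A) K).symm.toLinearMap.lTensor S
        ((GammaGen.restrict (detKLaw (B := B) K M d hd) ⊥ (hyp K M d hd)).law.toFun' S x) := rfl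
  rw [h1, ← LinearMap.comp_apply, ← LinearMap.lTensor_comp, linearMap_comp_eBot_symm,
    GammaGen.lTensor_restrict]
  rfl


attribute [local instance] FractionRing.liftAlgebra in
theorem main_exists (d : ℕ) (hd : Module.finrank (FractionRing A) (FractionRing A ⊗[A] M) = d)
    (n : ℕ) (x : P A n ⊗[A] B) :
    algebraMap (P A n) (FractionRing (P A n))
        (TensorProduct.rid A (P A n)
          ((detALaw (B := B) (FractionRing A) M d hd).law.toFun' (P A n) x)) =
      LinearMap.det (PolLaw.actEnd M (FractionRing (P A n))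
        (Algebra.TensorProduct.map
          (IsScalarTower.toAlgHom A (P A n) (FractionRing (P A n))) (AlgHom.id A B) x)) := by
  classical
  obtain ⟨κ, _, a, b, hb⟩ := exists_basis_one_tmul (A := A) (FractionRing A) M
  set y := (detALaw (B := B) (FractionRing A) M d hd).law.toFun' (P A n) x with hy
  set q := TensorProduct.rid A (P A n) y with hq
  have hyq : y = q ⊗ₜ[A] (1 : A) := by
    rw [hq, ← TensorProduct.rid_symm_apply, LinearEquiv.symm_apply_apply]
  have h1 := lTensor_detALaw (B := B) (FractionRing A) M d hd (P A n) x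
  rw [← hy, hyq, LinearMap.lTensor_tmul, Algebra.linearMap_apply, map_one] at h1
  have hD : PolLaw.detAct M (FractionRing A ⊗[A] P A n)
      (toR A (FractionRing A) B (P A n) x) = (1 : FractionRing A) ⊗ₜ[A] q := by
    have h2 := congrArg (Algebra.TensorProduct.comm A (FractionRing A) (P A n)).symm h1
    unfold detK at h2
    rw [AlgEquiv.symm_apply_apply] at h2
    unfold PolLaw.detAct
    rw [← h2]
    rfl
  let ψ : FractionRing A ⊗[A] P A n →ₐ[A] FractionRing (P A n) :=
    Algebra.TensorProduct.lift (IsScalarTower.toAlgHom A (FractionRing A) (FractionRing (P A n)))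
      (IsScalarTower.toAlgHom A (P A n) (FractionRing (P A n))) (fun _ _ => Commute.all _ _)
  have hψ : ∀ x' : P A n ⊗[A] B,
      Algebra.TensorProduct.map ψ (AlgHom.id A B) (toR A (FractionRing A) B (P A n) x') =
      Algebra.TensorProduct.map
          (IsScalarTower.toAlgHom A (P A n) (FractionRing (P A n))) (AlgHom.id A B) x' := by
    intro x'
    induction x' using TensorProduct.induction_on with
    | zero => simp
    | tmul s c => simp [ψ, Algebra.TensorProduct.map_tmul]
    | add x y hx hy => simp only [map_add, hx, hy]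
  unfold PolLaw.detAct at hD
  rw [← hψ, det_actEnd_map b hb ψ, hD]
  simp [ψ]

end main

end Groth.Agent.Lib.Helper14.DetNormal
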