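import Mathlib
import Groth.Prelude.Def_PolLaw
import Groth.Agent.Lib.Helper14PolLawRed

/-!
# The kernel of a polynomial law commutes with polynomial base change (helper14)
-/

set_option autoImplicit false
universe u
open Polynomial TensorProduct

namespace Groth.Agent.Lib.Helper14.PolLawPoly

section ThetaS
variable (A : Type*) [CommRing A] (T : Type*) [CommSemiring T] [Algebra A T]

/-- `t ↦ a, u ↦ b` -/
noncomputable def evTwo (a b : T) : T[X][X] →ₐ[A] T :=
  ((aeval (R := T) a).restrictScalars A).comp ((aeval (R := T[X]) (C b : T[X])).restrictScalars A)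

/-- `u ↦ t u` -/
noncomputable def sigma : T[X][X] →ₐ[A] T[X][X] :=
  (aeval (R := T[X]) (C X * X : T[X][X])).restrictScalars A

/-- constants -/
noncomputable def iota : T →ₐ[A] T[X][X] :=
  (CAlgHom (R := A) (A := T[X])).comp (CAlgHom (R := A) (A := T))

/-- polynomials in `t` -/
noncomputable def iota₁ : T[X] →ₐ[A] T[X][X] := CAlgHom (R := A) (A := T[X])

lemma sigma_apply (p : T[X][X]) : sigma A T p = p.comp (C X * X) := by
  simp [sigma, comp, aeval_def]

lemma eq_CC_of_sigma_eq (p : T[X][X]) (c : T) (h : sigma A T p = C (C c)) : p = C (C c) := by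
  rw [sigma_apply] at h
  ext1 k
  have hk := congrArg (fun q => q.coeff k) h
  simp only [comp_C_mul_X_coeff] at hk
  rcases Nat.eq_zero_or_pos k with rfl | hpos
  · simpa using hk
  · rw [coeff_C, if_neg hpos.ne'] at hk ⊢
    exact mul_X_pow_eq_zero hk

lemma sigma_comp_iota₁ : (sigma A T).comp (iota₁ A T) = iota₁ A T := by
  ext <;> simp [sigma, iota₁]

lemma sigma_comp_iota : (sigma A T).comp (iota A T) = iota A T := by
  ext; simp [sigma, iota]

lemma evTwo_comp_iota₁ (a b : T) :
    (evTwo A T a b).comp (iota₁ A T) = (aeval (R := T) a).restrictScalars A := by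
  ext <;> simp [evTwo, iota₁]

lemma evTwo_comp_iota (a b : T) : (evTwo A T a b).comp (iota A T) = AlgHom.id A T := by
  ext; simp [evTwo, iota]

variable (S₀ : Type*) [CommSemiring S₀] [Algebra A S₀] (C' : Type*) [CommRing C'] [Algebra A C']

/-- the comparison map `S₀[t][u] ⊗ C → (S₀ ⊗ C)[t][u]` -/
noncomputable def ThetaS : S₀[X][X] ⊗[A] C' →ₐ[A] (S₀ ⊗[A] C')[X][X] :=
  Algebra.TensorProduct.lift
    (mapAlgHom (mapAlgHom (Algebra.TensorProduct.includeLeft : S₀ →ₐ[A] S₀ ⊗[A] C')))
    ((CAlgHom (R := A) (A := (S₀ ⊗[A] C')[X])).comp ((CAlgHom (R := A) (A := S₀ ⊗[A] C')).comp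
      (Algebra.TensorProduct.includeRight : C' →ₐ[A] S₀ ⊗[A] C')))
    (fun _ _ => mul_comm (G := (S₀ ⊗[A] C')[X][X]) _ _)

lemma ThetaS_sigma :
    (ThetaS A S₀ C').comp (Algebra.TensorProduct.map (sigma A S₀) (AlgHom.id A C')) =
      (sigma A (S₀ ⊗[A] C')).comp (ThetaS A S₀ C') := by
  ext <;> simp [ThetaS, sigma, ← Algebra.TensorProduct.one_def]

lemma evTwo_ThetaS (a b : S₀) :
    (evTwo A (S₀ ⊗[A] C') (a ⊗ₜ[A] 1) (b ⊗ₜ[A] 1)).comp (ThetaS A S₀ C') =
      Algebra.TensorProduct.map (evTwo A S₀ a b) (AlgHom.id A C') := by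
  ext <;> simp [ThetaS, evTwo]

lemma ThetaS_comp_iota :
    (ThetaS A S₀ C').comp (Algebra.TensorProduct.map (iota A S₀) (AlgHom.id A C')) =
      iota A (S₀ ⊗[A] C') := by
  ext <;> simp [ThetaS, iota, ← Algebra.TensorProduct.one_def]

end ThetaS

open Groth.Agent.Lib.Helper14.PolLawRed (toFun'_map)

section cancel
variable {A : Type u} [CommRing A] {B E : Type u} [CommRing B] [Algebra A B] [CommRing E]
  [Algebra A E] (F : B →ₚₗ[A] E)

lemma map_map_apply {S S' S'' : Type*} [CommSemiring S] [Algebra A S] [CommSemiring S']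
    [Algebra A S'] [CommSemiring S''] [Algebra A S''] (M : Type*) [CommRing M] [Algebra A M]
    (φ : S' →ₐ[A] S'') (ψ : S →ₐ[A] S') (z : S ⊗[A] M) :
    Algebra.TensorProduct.map φ (AlgHom.id A M) (Algebra.TensorProduct.map ψ (AlgHom.id A M) z) =
      Algebra.TensorProduct.map (φ.comp ψ) (AlgHom.id A M) z := by
  have := Algebra.TensorProduct.map_comp φ ψ (AlgHom.id A M) (AlgHom.id A M)
  rw [AlgHom.comp_id] at this
  rw [this]
  rfl

theorem cancel (R : Type u) [CommSemiring R] [Algebra A R] (x : R ⊗[A] B) (y₁ : R[X] ⊗[A] B)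
    (h : F.toFun' R[X][X]
        (Algebra.TensorProduct.map (iota A R) (AlgHom.id A B) x +
          ((X * C X : R[X][X]) ⊗ₜ[A] (1 : B)) *
            Algebra.TensorProduct.map (iota₁ A R) (AlgHom.id A B) y₁) =
      F.toFun' R[X][X] (Algebra.TensorProduct.map (iota A R) (AlgHom.id A B) x))
    (r : R) :
    F.toFun' R (x + Algebra.TensorProduct.map ((aeval (R := R) r).restrictScalars A)
      (AlgHom.id A B) y₁) = F.toFun' R x := by
  set ιh := Algebra.TensorProduct.map (iota A R) (AlgHom.id A B) with hιh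
  set ι₁h := Algebra.TensorProduct.map (iota₁ A R) (AlgHom.id A B) with hι₁h
  set U : R[X][X] ⊗[A] B := (X : R[X][X]) ⊗ₜ[A] (1 : B) with hU
  set P := F.toFun' R[X][X] (ιh x + U * ι₁h y₁) with hP
  set c := F.toFun' R x with hc
  have hσ : Algebra.TensorProduct.map (sigma A R) (AlgHom.id A E) P =
      Algebra.TensorProduct.map (iota A R) (AlgHom.id A E) c := by
    have e1 : Algebra.TensorProduct.map (sigma A R) (AlgHom.id A B) (ιh x) = ιh x := by
      rw [hιh, map_map_apply, sigma_comp_iota]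
    have e2 : Algebra.TensorProduct.map (sigma A R) (AlgHom.id A B) (ι₁h y₁) = ι₁h y₁ := by
      rw [hι₁h, map_map_apply, sigma_comp_iota₁]
    have e3 : Algebra.TensorProduct.map (sigma A R) (AlgHom.id A B) U =
        (X * C X : R[X][X]) ⊗ₜ[A] (1 : B) := by
      rw [hU, Algebra.TensorProduct.map_tmul]
      congr 1
      simp only [sigma, AlgHom.coe_restrictScalars', aeval_X]
      exact (X_mul_C _).symm
    rw [hP, ← toFun'_map, map_add, map_mul, e1, e2, e3, h, hc, hιh, toFun'_map]
  have h2 := congrArg (fun φ => φ P) (ThetaS_sigma A R E)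
  have h3 := congrArg (fun φ => φ c) (ThetaS_comp_iota A R E)
  simp only [AlgHom.comp_apply] at h2 h3
  rw [hσ, h3] at h2
  have h4 : ThetaS A R E P = C (C c) := eq_CC_of_sigma_eq A _ _ c (by rw [← h2]; rfl)
  have h5 := congrArg (fun φ => φ P) (evTwo_ThetaS A R E r 1)
  simp only [AlgHom.comp_apply] at h5
  rw [h4] at h5
  have h6 : evTwo A (R ⊗[A] E) (r ⊗ₜ[A] 1) ((1 : R) ⊗ₜ[A] 1) (C (C c)) = c := by
    simp [evTwo]
  rw [h6, hP, ← toFun'_map, map_add, map_mul] at h5
  have e4 : Algebra.TensorProduct.map (evTwo A R r 1) (AlgHom.id A B) (ιh x) = x := by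
    rw [hιh, map_map_apply, evTwo_comp_iota, Algebra.TensorProduct.map_id]
    rfl
  have e5 : Algebra.TensorProduct.map (evTwo A R r 1) (AlgHom.id A B) (ι₁h y₁) =
      Algebra.TensorProduct.map ((aeval (R := R) r).restrictScalars A) (AlgHom.id A B) y₁ := by
    rw [hι₁h, map_map_apply, evTwo_comp_iota₁]
  have e6 : Algebra.TensorProduct.map (evTwo A R r 1) (AlgHom.id A B) U = 1 := by
    rw [hU, Algebra.TensorProduct.map_tmul]
    simp [evTwo, Algebra.TensorProduct.one_def]
  rw [e4, e5, e6, one_mul] at h5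
  exact h5.symm

end cancel

section kerBC
variable {A : Type u} [CommRing A] {B E : Type u} [CommRing B] [Algebra A B] [CommRing E]
  [Algebra A E] (F : B →ₚₗ[A] E)

/-- the easy inclusion, for any base change -/
lemma map_ker_le_kerBC (A' : Type u) [CommRing A'] [Algebra A A'] :
    (PolLaw.ker F).map (Algebra.TensorProduct.includeRight : B →ₐ[A] A' ⊗[A] B) ≤
      PolLaw.kerBC F A' := by
  rw [Ideal.map_le_iff_le_comap]
  intro b hb
  show _ ∈ PolLaw.kerBC F A'
  intro R _ _ _ _ x w
  rw [Algebra.TensorProduct.includeRight_apply, Algebra.TensorProduct.map_tmul, map_one]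
  exact hb R x w

lemma mem_kerBC_iff (z : A[X] ⊗[A] B) : z ∈ PolLaw.kerBC F A[X] ↔
    ∀ (R : Type u) [CommSemiring R] [Algebra A R] (r : R) (x w : R ⊗[A] B),
      F.toFun' R (x + w * Algebra.TensorProduct.map (aeval r : A[X] →ₐ[A] R) (AlgHom.id A B) z) =
        F.toFun' R x := by
  constructor
  · intro hz R _ _ r x w
    letI : Algebra A[X] R := (aeval r : A[X] →ₐ[A] R).toRingHom.toAlgebra
    haveI : IsScalarTower A A[X] R :=
      IsScalarTower.of_algebraMap_eq (fun a => by simp [RingHom.algebraMap_toAlgebra])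
    have h := hz R x w
    have e : IsScalarTower.toAlgHom A A[X] R = aeval r := by
      apply Polynomial.algHom_ext
      simp [RingHom.algebraMap_toAlgebra]
    rw [e] at h
    exact h
  · intro h R _ _ _ _ x w
    have h1 := h R (algebraMap A[X] R X) x w
    have e : IsScalarTower.toAlgHom A A[X] R = aeval (algebraMap A[X] R X) := by
      apply Polynomial.algHom_ext
      simp
    rw [e]
    exact h1

/-- tensors of `X`-degree `< n` -/
noncomputable def spanN (B : Type u) [CommRing B] [Algebra A B] (n : ℕ) : Submodule A (A[X] ⊗[A] B) :=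
  Submodule.span A {z | ∃ i < n, ∃ b : B, z = ((X : A[X]) ^ i) ⊗ₜ[A] b}

lemma spanN_mono {n m : ℕ} (h : n ≤ m) : spanN (A := A) B n ≤ spanN B m := by
  unfold spanN
  apply Submodule.span_mono
  rintro z ⟨i, hi, b, rfl⟩
  exact ⟨i, hi.trans_le h, b, rfl⟩

lemma exists_mem_spanN (z : A[X] ⊗[A] B) : ∃ n, z ∈ spanN (A := A) B n := by
  induction z using TensorProduct.induction_on with
  | zero => exact ⟨0, zero_mem _⟩
  | tmul p b =>
    refine ⟨p.natDegree + 1, ?_⟩
    have hp : p ⊗ₜ[A] b = ∑ i ∈ Finset.range (p.natDegree + 1),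
        (C (p.coeff i) * X ^ i : A[X]) ⊗ₜ[A] b := by
      rw [← TensorProduct.sum_tmul, ← p.as_sum_range_C_mul_X_pow]
    rw [hp]
    refine Submodule.sum_mem _ (fun i hi => ?_)
    have : (C (p.coeff i) * X ^ i : A[X]) ⊗ₜ[A] b = p.coeff i • (((X : A[X]) ^ i) ⊗ₜ[A] b) := by
      rw [TensorProduct.smul_tmul', ← C_mul']
    rw [this]
    exact Submodule.smul_mem _ _ (Submodule.subset_span ⟨i, Finset.mem_range.mp hi, b, rfl⟩)
  | add z₁ z₂ h₁ h₂ =>
    obtain ⟨n₁, h1⟩ := h₁
    obtain ⟨n₂, h2⟩ := h₂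
    exact ⟨max n₁ n₂, add_mem (spanN_mono (le_max_left _ _) h1) (spanN_mono (le_max_right _ _) h2)⟩

lemma exists_decomp (n : ℕ) (z : A[X] ⊗[A] B) (hz : z ∈ spanN (A := A) B (n + 1)) :
    ∃ (b₀ : B) (z₁ : A[X] ⊗[A] B), z₁ ∈ spanN (A := A) B n ∧
      z = (1 : A[X]) ⊗ₜ[A] b₀ + ((X : A[X]) ⊗ₜ[A] (1 : B)) * z₁ := by
  unfold spanN at hz
  induction hz using Submodule.span_induction with
  | mem z hz =>
    obtain ⟨i, hi, b, rfl⟩ := hz
    rcases i with _ | i
    · exact ⟨b, 0, zero_mem _, by simp⟩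
    · refine ⟨0, ((X : A[X]) ^ i) ⊗ₜ[A] b, Submodule.subset_span ⟨i, by omega, b, rfl⟩, ?_⟩
      rw [Algebra.TensorProduct.tmul_mul_tmul, one_mul, pow_succ', TensorProduct.tmul_zero,
        zero_add]
  | zero => exact ⟨0, 0, zero_mem _, by simp⟩
  | add z z' _ _ h h' =>
    obtain ⟨b, z₁, hz₁, e⟩ := h
    obtain ⟨b', z₁', hz₁', e'⟩ := h'
    refine ⟨b + b', z₁ + z₁', add_mem hz₁ hz₁', ?_⟩
    rw [e, e', TensorProduct.tmul_add, mul_add]
    abel
  | smul a z _ h =>
    obtain ⟨b, z₁, hz₁, e⟩ := h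
    refine ⟨a • b, a • z₁, Submodule.smul_mem _ _ hz₁, ?_⟩
    rw [e, smul_add, TensorProduct.tmul_smul, mul_smul_comm]

theorem mem_map_of_mem_kerBC (n : ℕ) : ∀ (z : A[X] ⊗[A] B), z ∈ spanN (A := A) B n →
    z ∈ PolLaw.kerBC F A[X] →
    z ∈ (PolLaw.ker F).map (Algebra.TensorProduct.includeRight : B →ₐ[A] A[X] ⊗[A] B) := by
  induction n with
  | zero =>
    intro z hz _
    have : z = 0 := by
      have h0 : spanN (A := A) B 0 = ⊥ := by
        rw [spanN, Submodule.span_eq_bot]
        rintro z ⟨i, hi, -⟩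
        omega
      rw [h0] at hz
      exact (Submodule.mem_bot A).mp hz
    rw [this]
    exact zero_mem _
  | succ n ih =>
    intro z hz hker
    obtain ⟨b₀, z₁, hz₁, e⟩ := exists_decomp n z hz
    -- `b₀ ∈ ker F`
    have hb₀ : b₀ ∈ PolLaw.ker F := by
      intro S _ _ x w
      have h := (mem_kerBC_iff F z).mp hker S (0 : S) x w
      rw [e, map_add, map_mul, Algebra.TensorProduct.map_tmul, Algebra.TensorProduct.map_tmul,
        aeval_X, map_one, TensorProduct.zero_tmul, zero_mul, add_zero] at h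
      exact h
    have h1 : (1 : A[X]) ⊗ₜ[A] b₀ ∈
        (PolLaw.ker F).map (Algebra.TensorProduct.includeRight : B →ₐ[A] A[X] ⊗[A] B) :=
      Ideal.mem_map_of_mem _ hb₀
    have hz' : ((X : A[X]) ⊗ₜ[A] (1 : B)) * z₁ ∈ PolLaw.kerBC F A[X] := by
      have := map_ker_le_kerBC F A[X] h1
      rw [e] at hker
      exact (Ideal.add_mem_iff_right _ this).mp hker
    have hz₁k : z₁ ∈ PolLaw.kerBC F A[X] := by
      rw [mem_kerBC_iff]
      intro R _ _ r x w
      set Ch := Algebra.TensorProduct.map (CAlgHom (R := A) (A := R)) (AlgHom.id A B) with hCh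
      set evX := Algebra.TensorProduct.map (aeval (X : R[X]) : A[X] →ₐ[A] R[X]) (AlgHom.id A B)
        with hevX
      have hc := cancel F R x (Ch w * evX z₁) ?_ r
      · rw [map_mul] at hc
        have e1 : Algebra.TensorProduct.map ((aeval (R := R) r).restrictScalars A) (AlgHom.id A B)
            (Ch w) = w := by
          rw [hCh, map_map_apply]
          have : ((aeval (R := R) r).restrictScalars A).comp (CAlgHom (R := A) (A := R)) =
              AlgHom.id A R := by
            ext; simp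
          rw [this, Algebra.TensorProduct.map_id]
          rfl
        have e2 : Algebra.TensorProduct.map ((aeval (R := R) r).restrictScalars A) (AlgHom.id A B)
            (evX z₁) = Algebra.TensorProduct.map (aeval r : A[X] →ₐ[A] R) (AlgHom.id A B) z₁ := by
          rw [hevX, map_map_apply]
          congr 2
          apply Polynomial.algHom_ext
          simp
        rw [e1, e2] at hc
        exact hc
      · have h := (mem_kerBC_iff F _).mp hz' R[X][X] (C X)
          (Algebra.TensorProduct.map (iota A R) (AlgHom.id A B) x)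
          (((X : R[X][X]) ⊗ₜ[A] (1 : B)) * Algebra.TensorProduct.map (iota A R) (AlgHom.id A B) w)
        rw [← h]
        congr 2
        have e3 : Algebra.TensorProduct.map (iota₁ A R) (AlgHom.id A B) (Ch w) =
            Algebra.TensorProduct.map (iota A R) (AlgHom.id A B) w := by
          rw [hCh, map_map_apply]
          rfl
        have e4 : Algebra.TensorProduct.map (iota₁ A R) (AlgHom.id A B) (evX z₁) =
            Algebra.TensorProduct.map (aeval (C X : R[X][X]) : A[X] →ₐ[A] R[X][X])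
              (AlgHom.id A B) z₁ := by
          rw [hevX, map_map_apply]
          congr 2
          apply Polynomial.algHom_ext
          simp [iota₁]
        have e5 : ((X * C X : R[X][X]) ⊗ₜ[A] (1 : B)) =
            ((X : R[X][X]) ⊗ₜ[A] (1 : B)) * ((C X : R[X][X]) ⊗ₜ[A] (1 : B)) := by
          rw [Algebra.TensorProduct.tmul_mul_tmul, mul_one]
        rw [map_mul, map_mul, e3, e4, e5, Algebra.TensorProduct.map_tmul, aeval_X, map_one]
        ring
    have h2 := ih z₁ hz₁ hz₁k
    rw [e]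
    exact add_mem h1 (Ideal.mul_mem_left _ _ h2)

theorem kerBC_polynomial :
    (PolLaw.ker F).map (Algebra.TensorProduct.includeRight : B →ₐ[A] A[X] ⊗[A] B) =
      PolLaw.kerBC F A[X] := by
  refine le_antisymm (map_ker_le_kerBC F A[X]) (fun z hz => ?_)
  obtain ⟨n, hn⟩ := exists_mem_spanN z
  exact mem_map_of_mem_kerBC F n z hn hz

end kerBC

end Groth.Agent.Lib.Helper14.PolLawPoly
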