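import Mathlib
import Groth.Prelude.Def_PolLaw
import Groth.Agent.Lib.Helper14PolLawRed
import Groth.Agent.Lib.Helper14PolLawPoly

/-!
# Kernels of polynomial laws on a finite algebra: universal test elements (helper14)
-/

set_option autoImplicit false
universe u
open TensorProduct

namespace Groth.Agent.Lib.Helper14.PolLawFin

open Groth.Agent.Lib.Helper14.PolLawRed (toFun'_map)
open Groth.Agent.Lib.Helper14.PolLawPoly (map_map_apply map_ker_le_kerBC)

section univ
variable {A : Type u} [CommRing A] {B E : Type u} [CommRing B] [Algebra A B] [CommRing E]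
  [Algebra A E] (F : B →ₚₗ[A] E) {n : ℕ} (b : Fin n → B)

/-- the universal first argument -/
noncomputable def xu (A' : Type u) [CommRing A'] [Algebra A A'] :
    MvPolynomial (Fin n ⊕ Fin n) A' ⊗[A] B :=
  ∑ i, (MvPolynomial.X (Sum.inl i) : MvPolynomial (Fin n ⊕ Fin n) A') ⊗ₜ[A] b i

/-- the universal multiplier -/
noncomputable def wu (A' : Type u) [CommRing A'] [Algebra A A'] :
    MvPolynomial (Fin n ⊕ Fin n) A' ⊗[A] B :=
  ∑ i, (MvPolynomial.X (Sum.inr i) : MvPolynomial (Fin n ⊕ Fin n) A') ⊗ₜ[A] b i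

lemma exists_sum_tmul (hb : Submodule.span A (Set.range b) = ⊤) (R : Type*) [CommSemiring R]
    [Algebra A R] (x : R ⊗[A] B) : ∃ r : Fin n → R, x = ∑ i, r i ⊗ₜ[A] b i := by
  induction x using TensorProduct.induction_on with
  | zero => exact ⟨fun _ => 0, by simp⟩
  | tmul s c =>
    have hc : c ∈ Submodule.span A (Set.range b) := hb ▸ Submodule.mem_top
    obtain ⟨a, rfl⟩ := (Submodule.mem_span_range_iff_exists_fun A).mp hc
    refine ⟨fun i => a i • s, ?_⟩
    rw [TensorProduct.tmul_sum]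
    refine Finset.sum_congr rfl (fun i _ => ?_)
    rw [TensorProduct.tmul_smul, TensorProduct.smul_tmul']
  | add x y hx hy =>
    obtain ⟨r, rfl⟩ := hx
    obtain ⟨s, rfl⟩ := hy
    exact ⟨fun i => r i + s i, by simp [TensorProduct.add_tmul, Finset.sum_add_distrib]⟩

lemma univ_spec (hb : Submodule.span A (Set.range b) = ⊤) (A' : Type u) [CommRing A']
    [Algebra A A'] (R : Type u) [CommSemiring R] [Algebra A R] [Algebra A' R]
    [IsScalarTower A A' R] (x w : R ⊗[A] B) :
    ∃ ψ : MvPolynomial (Fin n ⊕ Fin n) A' →ₐ[A'] R,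
      Algebra.TensorProduct.map (ψ.restrictScalars A) (AlgHom.id A B) (xu b A') = x ∧
      Algebra.TensorProduct.map (ψ.restrictScalars A) (AlgHom.id A B) (wu b A') = w := by
  obtain ⟨r, rfl⟩ := exists_sum_tmul b hb R x
  obtain ⟨s, rfl⟩ := exists_sum_tmul b hb R w
  refine ⟨MvPolynomial.aeval (Sum.elim r s), ?_, ?_⟩
  · simp [xu, Algebra.TensorProduct.map_tmul]
  · simp [wu, Algebra.TensorProduct.map_tmul]

theorem mem_kerBC_iff_univ (hb : Submodule.span A (Set.range b) = ⊤) (A' : Type u) [CommRing A']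
    [Algebra A A'] (z : A' ⊗[A] B) :
    z ∈ PolLaw.kerBC F A' ↔
      F.toFun' (MvPolynomial (Fin n ⊕ Fin n) A') (xu b A' + wu b A' *
        Algebra.TensorProduct.map
          (IsScalarTower.toAlgHom A A' (MvPolynomial (Fin n ⊕ Fin n) A')) (AlgHom.id A B) z) =
      F.toFun' (MvPolynomial (Fin n ⊕ Fin n) A') (xu b A') := by
  constructor
  · intro hz
    exact hz _ _ _
  · intro h R _ _ _ _ x w
    obtain ⟨ψ, hx, hw⟩ := univ_spec b hb A' R x w
    have h2 := congrArg (Algebra.TensorProduct.map (ψ.restrictScalars A) (AlgHom.id A E)) h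
    rw [← toFun'_map, ← toFun'_map, map_add, map_mul, hx, hw, map_map_apply] at h2
    have e : (ψ.restrictScalars A).comp
        (IsScalarTower.toAlgHom A A' (MvPolynomial (Fin n ⊕ Fin n) A')) =
        IsScalarTower.toAlgHom A A' R := by
      ext a
      simp
    rw [e] at h2
    exact h2

theorem mem_ker_iff_univ (hb : Submodule.span A (Set.range b) = ⊤) (c : B) :
    c ∈ PolLaw.ker F ↔
      F.toFun' (MvPolynomial (Fin n ⊕ Fin n) A) (xu b A + wu b A * ((1 : _) ⊗ₜ[A] c)) =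
      F.toFun' (MvPolynomial (Fin n ⊕ Fin n) A) (xu b A) := by
  constructor
  · intro hz
    exact hz _ _ _
  · intro h R _ _ x w
    obtain ⟨ψ, hx, hw⟩ := univ_spec b hb A R x w
    have h2 := congrArg (Algebra.TensorProduct.map (ψ.restrictScalars A) (AlgHom.id A E)) h
    rw [← toFun'_map, ← toFun'_map, map_add, map_mul, hx, hw, Algebra.TensorProduct.map_tmul,
      map_one] at h2
    exact h2

end univ

section rid
variable {A : Type*} [CommRing A]

lemma rid_map {S S' : Type*} [CommSemiring S] [Algebra A S] [CommSemiring S'] [Algebra A S']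
    (φ : S →ₐ[A] S') (q : S ⊗[A] A) :
    TensorProduct.rid A S' (Algebra.TensorProduct.map φ (AlgHom.id A A) q) =
      φ (TensorProduct.rid A S q) := by
  induction q using TensorProduct.induction_on with
  | zero => simp
  | tmul s a => simp [Algebra.TensorProduct.map_tmul]
  | add x y hx hy => simp [hx, hy]

end rid

section torsion
variable {A : Type*} [CommRing A] (M : Submonoid A) (A' : Type*) [CommRing A'] [Algebra A A']
  [IsLocalization M A']

lemma exists_smul_eq_zero_finset {ι N : Type*} [AddCommGroup N] [Module A N] (s : Finset ι)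
    (x : ι → N) (h : ∀ i ∈ s, ∃ m ∈ M, m • x i = 0) : ∃ m ∈ M, ∀ i ∈ s, m • x i = 0 := by
  classical
  induction s using Finset.induction_on with
  | empty => exact ⟨1, M.one_mem, by simp⟩
  | insert a s _ ih =>
    obtain ⟨m₁, hm₁, h₁⟩ := ih (fun i hi => h i (Finset.mem_insert_of_mem hi))
    obtain ⟨m₂, hm₂, h₂⟩ := h a (Finset.mem_insert_self a s)
    refine ⟨m₁ * m₂, M.mul_mem hm₁ hm₂, fun i hi => ?_⟩
    rcases Finset.mem_insert.mp hi with rfl | hi
    · rw [mul_smul, h₂, smul_zero]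
    · rw [mul_comm, mul_smul, h₁ i hi, smul_zero]

include A' in
lemma mvPolynomial_torsion {σ : Type*} (p : MvPolynomial σ A)
    (h : MvPolynomial.map (algebraMap A A') p = 0) : ∃ m ∈ M, m • p = 0 := by
  classical
  have h1 : ∀ α ∈ p.support, ∃ m ∈ M, m • (p.coeff α) = 0 := by
    intro α _
    have : algebraMap A A' (p.coeff α) = 0 := by
      rw [← MvPolynomial.coeff_map, h, MvPolynomial.coeff_zero]
    obtain ⟨m, hm⟩ := (IsLocalization.map_eq_zero_iff M A' _).mp this
    exact ⟨m, m.2, hm⟩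
  obtain ⟨m, hm, hm'⟩ := exists_smul_eq_zero_finset M p.support (fun α => p.coeff α) h1
  refine ⟨m, hm, ?_⟩
  ext α
  rw [MvPolynomial.coeff_smul, MvPolynomial.coeff_zero]
  by_cases hα : α ∈ p.support
  · exact hm' α hα
  · rw [MvPolynomial.notMem_support_iff.mp hα, smul_zero]

include A' in
lemma polynomial_torsion {σ : Type*} (D : Polynomial (MvPolynomial σ A))
    (h : ∀ k, MvPolynomial.map (algebraMap A A') (D.coeff k) = 0) : ∃ m ∈ M, m • D = 0 := by
  classical
  obtain ⟨m, hm, hm'⟩ := exists_smul_eq_zero_finset M D.support (fun k => D.coeff k)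
    (fun k _ => mvPolynomial_torsion M A' _ (h k))
  refine ⟨m, hm, ?_⟩
  ext1 k
  rw [Polynomial.coeff_smul, Polynomial.coeff_zero]
  by_cases hk : k ∈ D.support
  · exact hm' k hk
  · rw [Polynomial.notMem_support_iff.mp hk, smul_zero]

lemma eval_eq_eval_zero_of_smul_eq_zero {T : Type*} [CommRing T] [Algebra A T] (D : Polynomial T)
    (m : A) (h : m • D = 0) : D.eval (algebraMap A T m) = D.eval 0 := by
  have h1 : m • D.divX = 0 := by
    rw [Algebra.smul_def, Polynomial.algebraMap_apply, ← Polynomial.divX_C_mul,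
      ← Polynomial.algebraMap_apply, ← Algebra.smul_def, h, Polynomial.divX_zero]
  have h2 : D.divX.eval (algebraMap A T m) * algebraMap A T m = 0 := by
    have := congrArg (Polynomial.eval (algebraMap A T m)) h1
    rw [Polynomial.eval_smul, Polynomial.eval_zero, Algebra.smul_def] at this
    rw [mul_comm]; exact this
  conv_lhs => rw [← Polynomial.divX_mul_X_add D]
  rw [Polynomial.eval_add, Polynomial.eval_mul, Polynomial.eval_X, Polynomial.eval_C, h2, zero_add,
    Polynomial.coeff_zero_eq_eval_zero]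

end torsion

section loc
variable {A : Type u} [CommRing A] {B : Type u} [CommRing B] [Algebra A B]
  (F : B →ₚₗ[A] A) {n : ℕ} (b : Fin n → B)

open Polynomial in
theorem exists_smul_mem_ker (hb : Submodule.span A (Set.range b) = ⊤) (M : Submonoid A)
    (A' : Type u) [CommRing A'] [Algebra A A'] [IsLocalization M A'] (b₀ : B)
    (h : (1 : A') ⊗ₜ[A] b₀ ∈ PolLaw.kerBC F A') : ∃ m ∈ M, m • b₀ ∈ PolLaw.ker F := by
  set T := MvPolynomial (Fin n ⊕ Fin n) A with hT
  set T' := MvPolynomial (Fin n ⊕ Fin n) A' with hT'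
  set ρ : T →ₐ[A] T' := MvPolynomial.mapAlgHom (Algebra.ofId A A') with hρ
  set ρy : T[X] →ₐ[A] T'[X] := Polynomial.mapAlgHom ρ with hρy
  set ι : T →ₐ[A] T[X] := CAlgHom (R := A) (A := T) with hι
  set xt : T[X] ⊗[A] B := Algebra.TensorProduct.map ι (AlgHom.id A B) (xu b A) with hxt
  set wt : T[X] ⊗[A] B := ((X : T[X]) ⊗ₜ[A] (1 : B)) *
    Algebra.TensorProduct.map ι (AlgHom.id A B) (wu b A) with hwt
  set P : T[X] := TensorProduct.rid A T[X] (F.toFun' T[X] (xt + wt * ((1 : T[X]) ⊗ₜ[A] b₀))) with hP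
  set c₀ : T := TensorProduct.rid A T (F.toFun' T (xu b A)) with hc₀
  -- value at a point `r`
  have hev : ∀ r : T, P.eval r = TensorProduct.rid A T
      (F.toFun' T (xu b A + ((r ⊗ₜ[A] (1 : B)) * wu b A) * ((1 : T) ⊗ₜ[A] b₀))) := by
    intro r
    set ev : T[X] →ₐ[A] T := (Polynomial.aeval (R := T) r).restrictScalars A with hev
    have e1 : P.eval r = ev P := by
      rw [hev, AlgHom.coe_restrictScalars', Polynomial.coe_aeval_eq_eval]
    have e2 : ev.comp ι = AlgHom.id A T :=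
      AlgHom.ext (fun x => by simp [hev, hι])
    rw [e1, hP, ← rid_map, ← toFun'_map, map_add, map_mul, hxt, hwt, map_mul, map_map_apply,
      map_map_apply, e2, Algebra.TensorProduct.map_id, Algebra.TensorProduct.map_tmul,
      Algebra.TensorProduct.map_tmul, map_one]
    have e3 : ev X = r := by simp [hev]
    rw [e3]
    simp only [AlgHom.id_apply, map_one]
  -- the image in `T'[X]`
  have h1 : ρy P = ρy (C c₀) := by
    have e1 : ρy P = TensorProduct.rid A T'[X] (F.toFun' T'[X]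
        (Algebra.TensorProduct.map ρy (AlgHom.id A B) xt +
          Algebra.TensorProduct.map ρy (AlgHom.id A B) wt * ((1 : T'[X]) ⊗ₜ[A] b₀))) := by
      rw [hP, ← rid_map, ← toFun'_map, map_add, map_mul, Algebra.TensorProduct.map_tmul, map_one]
      rfl
    have e2 := h T'[X] (Algebra.TensorProduct.map ρy (AlgHom.id A B) xt)
      (Algebra.TensorProduct.map ρy (AlgHom.id A B) wt)
    rw [Algebra.TensorProduct.map_tmul, map_one] at e2
    rw [e1]
    have e3 : ((AlgHom.id A B) b₀) = b₀ := rfl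
    rw [e3] at e2
    rw [e2, hxt, map_map_apply, toFun'_map, rid_map, ← hc₀]
    rfl
  -- torsion
  have h2 : ∀ k, MvPolynomial.map (algebraMap A A') ((P - C c₀).coeff k) = 0 := by
    intro k
    have := congrArg (fun q => q.coeff k) h1
    simp only [hρy, Polynomial.coe_mapAlgHom, Polynomial.coeff_map] at this
    rw [Polynomial.coeff_sub, map_sub]
    exact sub_eq_zero.mpr this
  obtain ⟨m, hm, hmD⟩ := polynomial_torsion M A' (P - C c₀) h2
  refine ⟨m, hm, ?_⟩
  have h3 := eval_eq_eval_zero_of_smul_eq_zero (P - C c₀) m hmD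
  rw [eval_sub, eval_sub, eval_C, eval_C, hev, hev] at h3
  have h4 : F.toFun' T (xu b A + (((0 : T) ⊗ₜ[A] (1 : B)) * wu b A) * ((1 : T) ⊗ₜ[A] b₀)) =
      F.toFun' T (xu b A) := by
    rw [TensorProduct.zero_tmul, zero_mul, zero_mul, add_zero]
  rw [h4, ← hc₀, sub_self, sub_eq_zero] at h3
  rw [mem_ker_iff_univ F b hb]
  apply (TensorProduct.rid A T).injective
  rw [← hc₀, ← h3]
  congr 3
  rw [mul_comm (_ ⊗ₜ[A] (1 : B)) (wu b A), mul_assoc, Algebra.TensorProduct.tmul_mul_tmul, mul_one,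
    one_mul, TensorProduct.tmul_smul, Algebra.algebraMap_eq_smul_one, TensorProduct.smul_tmul']

end loc

section loc2
variable {A : Type u} [CommRing A] {B : Type u} [CommRing B] [Algebra A B]

lemma exists_mul_eq_one_tmul (M : Submonoid A) (A' : Type u) [CommRing A'] [Algebra A A']
    [IsLocalization M A'] (z : A' ⊗[A] B) :
    ∃ m ∈ M, ∃ b₀ : B, ((algebraMap A A' m) ⊗ₜ[A] (1 : B)) * z = (1 : A') ⊗ₜ[A] b₀ := by
  induction z using TensorProduct.induction_on with
  | zero => exact ⟨1, M.one_mem, 0, by simp⟩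
  | tmul a' c =>
    obtain ⟨a, m, rfl⟩ := IsLocalization.exists_mk'_eq M a'
    refine ⟨m, m.2, a • c, ?_⟩
    rw [Algebra.TensorProduct.tmul_mul_tmul, one_mul, IsLocalization.mk'_spec',
      Algebra.algebraMap_eq_smul_one, TensorProduct.smul_tmul]
  | add z₁ z₂ h₁ h₂ =>
    obtain ⟨m₁, hm₁, b₁, e₁⟩ := h₁
    obtain ⟨m₂, hm₂, b₂, e₂⟩ := h₂
    refine ⟨m₁ * m₂, M.mul_mem hm₁ hm₂, m₂ • b₁ + m₁ • b₂, ?_⟩
    have h3 : ((algebraMap A A' (m₁ * m₂)) ⊗ₜ[A] (1 : B)) =
        ((algebraMap A A' m₂) ⊗ₜ[A] (1 : B)) * ((algebraMap A A' m₁) ⊗ₜ[A] (1 : B)) := by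
      rw [Algebra.TensorProduct.tmul_mul_tmul, mul_one, ← map_mul, mul_comm]
    have h4 : ((algebraMap A A' (m₁ * m₂)) ⊗ₜ[A] (1 : B)) =
        ((algebraMap A A' m₁) ⊗ₜ[A] (1 : B)) * ((algebraMap A A' m₂) ⊗ₜ[A] (1 : B)) := by
      rw [Algebra.TensorProduct.tmul_mul_tmul, mul_one, ← map_mul]
    have h5 : ∀ (m : A) (c : B), ((algebraMap A A' m) ⊗ₜ[A] (1 : B)) * ((1 : A') ⊗ₜ[A] c) =
        (1 : A') ⊗ₜ[A] (m • c) := by
      intro m c
      rw [Algebra.TensorProduct.tmul_mul_tmul, mul_one, one_mul, Algebra.algebraMap_eq_smul_one,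
        TensorProduct.smul_tmul]
    have ha : ((algebraMap A A' (m₁ * m₂)) ⊗ₜ[A] (1 : B)) * z₁ = (1 : A') ⊗ₜ[A] (m₂ • b₁) := by
      rw [h3, mul_assoc, e₁, h5]
    have hb : ((algebraMap A A' (m₁ * m₂)) ⊗ₜ[A] (1 : B)) * z₂ = (1 : A') ⊗ₜ[A] (m₁ • b₂) := by
      rw [h4, mul_assoc, e₂, h5]
    rw [mul_add, ha, hb, TensorProduct.tmul_add]

theorem kerBC_localization [Module.Finite A B] (F : B →ₚₗ[A] A) (M : Submonoid A)
    (A' : Type u) [CommRing A'] [Algebra A A'] [IsLocalization M A'] :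
    (PolLaw.ker F).map (Algebra.TensorProduct.includeRight : B →ₐ[A] A' ⊗[A] B) =
      PolLaw.kerBC F A' := by
  refine le_antisymm (map_ker_le_kerBC F A') (fun z hz => ?_)
  obtain ⟨n, b, hb⟩ := Module.Finite.exists_fin (R := A) (M := B)
  obtain ⟨m, hm, b₀, e⟩ := exists_mul_eq_one_tmul M A' z
  have h1 : (1 : A') ⊗ₜ[A] b₀ ∈ PolLaw.kerBC F A' := e ▸ Ideal.mul_mem_left _ _ hz
  obtain ⟨m', hm', hker⟩ := exists_smul_mem_ker F b hb M A' b₀ h1
  have h2 : (1 : A') ⊗ₜ[A] (m' • b₀) ∈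
      (PolLaw.ker F).map (Algebra.TensorProduct.includeRight : B →ₐ[A] A' ⊗[A] B) :=
    Ideal.mem_map_of_mem _ hker
  have h3 : ((algebraMap A A' (m' * m)) ⊗ₜ[A] (1 : B)) * z = (1 : A') ⊗ₜ[A] (m' • b₀) := by
    have : ((algebraMap A A' (m' * m)) ⊗ₜ[A] (1 : B)) =
        ((algebraMap A A' m') ⊗ₜ[A] (1 : B)) * ((algebraMap A A' m) ⊗ₜ[A] (1 : B)) := by
      rw [Algebra.TensorProduct.tmul_mul_tmul, mul_one, ← map_mul]
    rw [this, mul_assoc, e, Algebra.TensorProduct.tmul_mul_tmul, mul_one, one_mul,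
      Algebra.algebraMap_eq_smul_one, TensorProduct.smul_tmul]
  obtain ⟨v, hv⟩ := (IsLocalization.map_units A' (⟨m' * m, M.mul_mem hm' hm⟩ : M)).exists_left_inv
  have h4 : z = (v ⊗ₜ[A] (1 : B)) * (((algebraMap A A' (m' * m)) ⊗ₜ[A] (1 : B)) * z) := by
    rw [← mul_assoc, Algebra.TensorProduct.tmul_mul_tmul, mul_one, hv,
      ← Algebra.TensorProduct.one_def, one_mul]
  rw [h4, h3]
  exact Ideal.mul_mem_left _ _ h2

end loc2

end Groth.Agent.Lib.Helper14.PolLawFin
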