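import Mathlib
import Groth.Prelude.Def_PolLaw
import Groth.Agent.Lib.Helper14Idem
import Groth.Agent.Lib.Helper14PolLawFin

/-!
# Multiplicative laws on a product of two algebras over a connected base (helper14)
-/

set_option autoImplicit false
universe u
open Polynomial TensorProduct

namespace Groth.Agent.Lib.Helper14.PolLawProd

open Groth.Agent.Lib.Helper14.PolLawRed (toFun'_map)
open Groth.Agent.Lib.Helper14.PolLawFin (rid_map)

section poly
variable {A : Type*} [CommRing A]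

/-- a polynomial with `P(ts) = P(t) P(s)` has orthogonal idempotent coefficients -/
lemma coeff_mul_coeff (P : A[X])
    (h : aeval (C X * X : A[X][X]) P = aeval (C X : A[X][X]) P * aeval (X : A[X][X]) P) (k l : ℕ) :
    P.coeff k * P.coeff l = if k = l then P.coeff l else 0 := by
  have h1 : aeval (C X * X : A[X][X]) P = (P.map (C : A →+* A[X])).comp (C X * X) := by
    rw [aeval_def, eval₂_eq_eval_map, comp, eval₂_eq_eval_map, Polynomial.map_map]
    rfl
  have h2 : aeval (C X : A[X][X]) P = C P := by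
    have : (aeval (C X : A[X][X]) : A[X] →ₐ[A] A[X][X]) = (CAlgHom (R := A) (A := A[X])) := by
      apply Polynomial.algHom_ext
      simp
    rw [this]; rfl
  have h3 : aeval (X : A[X][X]) P = P.map (C : A →+* A[X]) := by
    have : (aeval (X : A[X][X]) : A[X] →ₐ[A] A[X][X]) =
        (mapAlgHom (CAlgHom (R := A) (A := A)) : A[X] →ₐ[A] A[X][X]) := by
      apply Polynomial.algHom_ext
      simp
    rw [this]; rfl
  rw [h1, h2, h3] at h
  have h4 := congrArg (fun q : A[X][X] => (q.coeff l).coeff k) h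
  simp only [comp_C_mul_X_coeff, coeff_map, coeff_C_mul] at h4
  rw [coeff_X_pow, coeff_mul_C] at h4
  rw [← h4]
  split_ifs with hkl
  · rw [mul_one]
  · rw [mul_zero]

/-- over a connected base such a polynomial with `P(1) = 1` is a power of `X` -/
lemma eq_X_pow [ConnectedSpace (PrimeSpectrum A)] (P : A[X])
    (h : aeval (C X * X : A[X][X]) P = aeval (C X : A[X][X]) P * aeval (X : A[X][X]) P)
    (h1 : P.eval 1 = 1) : ∃ k : ℕ, P = X ^ k := by
  haveI : Nontrivial A := by
    obtain ⟨p⟩ := (inferInstance : Nonempty (PrimeSpectrum A))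
    exact ⟨⟨0, 1, fun h01 => p.2.ne_top ((Ideal.eq_top_iff_one _).mpr (h01 ▸ p.asIdeal.zero_mem))⟩⟩
  have hc := coeff_mul_coeff P h
  have hid : ∀ k, P.coeff k = 0 ∨ P.coeff k = 1 := fun k =>
    Groth.Agent.Lib.Helper14Idem.idem_trivial_of_connected (by
      have := hc k k
      rw [if_pos rfl] at this
      exact this)
  have hex : ∃ k, P.coeff k = 1 := by
    by_contra hne
    push Not at hne
    have h0 : P = 0 := by
      ext k
      rcases hid k with h | h
      · rw [h, coeff_zero]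
      · exact absurd h (hne k)
    rw [h0, eval_zero] at h1
    exact zero_ne_one h1
  obtain ⟨k, hk⟩ := hex
  refine ⟨k, ?_⟩
  ext l
  rw [coeff_X_pow]
  split_ifs with hlk
  · rw [hlk, hk]
  · have := hc k l
    rw [if_neg (Ne.symm hlk), hk, one_mul] at this
    exact this

end poly

section idem
variable {A : Type u} [CommRing A] {B : Type u} [CommRing B] [Algebra A B] {d : ℕ}
  (F : PolLaw.MulLaw A B A d)

lemma rid_mul {S : Type*} [CommSemiring S] [Algebra A S] (x y : S ⊗[A] A) :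
    TensorProduct.rid A S (x * y) = TensorProduct.rid A S x * TensorProduct.rid A S y := by
  induction x using TensorProduct.induction_on with
  | zero => simp
  | tmul s a =>
    induction y using TensorProduct.induction_on with
    | zero => simp
    | tmul s' a' =>
      simp only [Algebra.TensorProduct.tmul_mul_tmul, TensorProduct.rid_tmul]
      rw [smul_mul_smul_comm, mul_comm a a']
    | add y y' hy hy' => rw [mul_add, map_add, hy, hy', map_add, mul_add]
  | add x x' hx hx' => rw [add_mul, map_add, hx, hx', map_add, add_mul]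

/-- for orthogonal idempotents `e + e' = 1`, the value `F(e + s e')` is a fixed power of `s` -/
theorem exists_pow [ConnectedSpace (PrimeSpectrum A)] (e e' : B) (hee' : e * e' = 0)
    (hsum : e + e' = 1) :
    ∃ k : ℕ, ∀ (S : Type u) [CommSemiring S] [Algebra A S] (s : S),
      F.law.toFun' S ((1 : S) ⊗ₜ[A] e + s ⊗ₜ[A] e') = (s ^ k) ⊗ₜ[A] (1 : A) := by
  have he : e * e = e := by
    have : e * (e + e') = e := by rw [hsum, mul_one]
    rw [mul_add, hee', add_zero] at this
    exact this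
  have he' : e' * e' = e' := by
    have : (e + e') * e' = e' := by rw [hsum, one_mul]
    rw [add_mul, hee', zero_add] at this
    exact this
  set P : A[X] := TensorProduct.rid A A[X] (F.law.toFun' A[X] ((1 : A[X]) ⊗ₜ[A] e + X ⊗ₜ[A] e'))
    with hP
  -- naturality
  have hN : ∀ (S : Type u) [CommSemiring S] [Algebra A S] (s : S),
      TensorProduct.rid A S (F.law.toFun' S ((1 : S) ⊗ₜ[A] e + s ⊗ₜ[A] e')) = aeval s P := by
    intro S _ _ s
    have h1 : (1 : S) ⊗ₜ[A] e + s ⊗ₜ[A] e' =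
        Algebra.TensorProduct.map (aeval s : A[X] →ₐ[A] S) (AlgHom.id A B)
          ((1 : A[X]) ⊗ₜ[A] e + X ⊗ₜ[A] e') := by
      rw [map_add, Algebra.TensorProduct.map_tmul, Algebra.TensorProduct.map_tmul, map_one, aeval_X]
      rfl
    rw [h1, toFun'_map, rid_map]
  -- multiplicativity
  have hM : ∀ (S : Type u) [CommSemiring S] [Algebra A S] (s s' : S),
      aeval (s * s') P = aeval s P * aeval s' P := by
    intro S _ _ s s'
    rw [← hN, ← hN, ← hN, ← rid_mul, ← (F.mult S).2]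
    congr 2
    rw [add_mul, mul_add, mul_add, Algebra.TensorProduct.tmul_mul_tmul,
      Algebra.TensorProduct.tmul_mul_tmul, Algebra.TensorProduct.tmul_mul_tmul,
      Algebra.TensorProduct.tmul_mul_tmul, he, he', hee', mul_comm e' e, hee',
      TensorProduct.tmul_zero, TensorProduct.tmul_zero, add_zero, zero_add, one_mul]
  have h1 : P.eval 1 = 1 := by
    have := hN A 1
    rw [← TensorProduct.tmul_add, hsum, ← Algebra.TensorProduct.one_def, (F.mult A).1,
      Algebra.TensorProduct.one_def, TensorProduct.rid_tmul, one_smul, coe_aeval_eq_eval] at this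
    exact this.symm
  obtain ⟨k, hk⟩ := eq_X_pow P (hM A[X][X] (C X) X) h1
  refine ⟨k, fun S _ _ s => ?_⟩
  apply (TensorProduct.rid A S).injective
  rw [hN, hk, map_pow, aeval_X, TensorProduct.rid_tmul, one_smul]

end idem

section prod
variable {A : Type u} [CommRing A] {B₁ B₂ : Type u} [CommRing B₁] [Algebra A B₁] [CommRing B₂]
  [Algebra A B₂]

section lemmas
variable (S : Type u) [CommSemiring S] [Algebra A S]

/-- `S ⊗ inl` -/
noncomputable abbrev inlh : S ⊗[A] B₁ →ₗ[A] S ⊗[A] (B₁ × B₂) :=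
  (LinearMap.inl A B₁ B₂).lTensor S
/-- `S ⊗ inr` -/
noncomputable abbrev inrh : S ⊗[A] B₂ →ₗ[A] S ⊗[A] (B₁ × B₂) :=
  (LinearMap.inr A B₁ B₂).lTensor S
/-- `S ⊗ fst` -/
noncomputable abbrev fsth : S ⊗[A] (B₁ × B₂) →ₗ[A] S ⊗[A] B₁ :=
  (LinearMap.fst A B₁ B₂).lTensor S
/-- `S ⊗ snd` -/
noncomputable abbrev sndh : S ⊗[A] (B₁ × B₂) →ₗ[A] S ⊗[A] B₂ :=
  (LinearMap.snd A B₁ B₂).lTensor S

/-- `1 ⊗ (1, 0)` -/
noncomputable abbrev E1 : S ⊗[A] (B₁ × B₂) := (1 : S) ⊗ₜ[A] ((1, 0) : B₁ × B₂)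
/-- `1 ⊗ (0, 1)` -/
noncomputable abbrev E2 : S ⊗[A] (B₁ × B₂) := (1 : S) ⊗ₜ[A] ((0, 1) : B₁ × B₂)

lemma E1_mul_inlh (x : S ⊗[A] B₁) : E1 S * inlh (B₂ := B₂) S x = inlh S x := by
  induction x using TensorProduct.induction_on with
  | zero => simp
  | tmul s b => simp [Algebra.TensorProduct.tmul_mul_tmul]
  | add x y hx hy => rw [map_add, mul_add, hx, hy]

lemma E2_mul_inlh (x : S ⊗[A] B₁) : E2 S * inlh (B₂ := B₂) S x = 0 := by
  induction x using TensorProduct.induction_on with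
  | zero => simp
  | tmul s b => simp [Algebra.TensorProduct.tmul_mul_tmul, Prod.mk_zero_zero]
  | add x y hx hy => rw [map_add, mul_add, hx, hy, add_zero]

lemma E2_mul_inrh (x : S ⊗[A] B₂) : E2 S * inrh (B₁ := B₁) S x = inrh S x := by
  induction x using TensorProduct.induction_on with
  | zero => simp
  | tmul s b => simp [Algebra.TensorProduct.tmul_mul_tmul]
  | add x y hx hy => rw [map_add, mul_add, hx, hy]

lemma E1_mul_inrh (x : S ⊗[A] B₂) : E1 S * inrh (B₁ := B₁) S x = 0 := by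
  induction x using TensorProduct.induction_on with
  | zero => simp
  | tmul s b => simp [Algebra.TensorProduct.tmul_mul_tmul, Prod.mk_zero_zero]
  | add x y hx hy => rw [map_add, mul_add, hx, hy, add_zero]

lemma inlh_mul (x y : S ⊗[A] B₁) :
    inlh (B₂ := B₂) S x * inlh S y = inlh S (x * y) := by
  induction x using TensorProduct.induction_on with
  | zero => simp
  | tmul s b =>
    induction y using TensorProduct.induction_on with
    | zero => simp
    | tmul s' b' => simp [Algebra.TensorProduct.tmul_mul_tmul]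
    | add y y' hy hy' => rw [map_add, mul_add, hy, hy', mul_add, map_add]
  | add x x' hx hx' => rw [map_add, add_mul, hx, hx', add_mul, map_add]

lemma inrh_mul (x y : S ⊗[A] B₂) :
    inrh (B₁ := B₁) S x * inrh S y = inrh S (x * y) := by
  induction x using TensorProduct.induction_on with
  | zero => simp
  | tmul s b =>
    induction y using TensorProduct.induction_on with
    | zero => simp
    | tmul s' b' => simp [Algebra.TensorProduct.tmul_mul_tmul]
    | add y y' hy hy' => rw [map_add, mul_add, hy, hy', mul_add, map_add]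
  | add x x' hx hx' => rw [map_add, add_mul, hx, hx', add_mul, map_add]

lemma inlh_fsth (x : S ⊗[A] (B₁ × B₂)) : inlh S (fsth S x) = E1 S * x := by
  induction x using TensorProduct.induction_on with
  | zero => simp
  | tmul s b =>
    simp only [LinearMap.lTensor_tmul, Algebra.TensorProduct.tmul_mul_tmul, one_mul]
    congr 1
    ext <;> simp
  | add x y hx hy => rw [map_add, map_add, hx, hy, mul_add]

lemma inrh_sndh (x : S ⊗[A] (B₁ × B₂)) : inrh S (sndh S x) = E2 S * x := by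
  induction x using TensorProduct.induction_on with
  | zero => simp
  | tmul s b =>
    simp only [LinearMap.lTensor_tmul, Algebra.TensorProduct.tmul_mul_tmul, one_mul]
    congr 1
    ext <;> simp
  | add x y hx hy => rw [map_add, map_add, hx, hy, mul_add]

lemma inlh_one : inlh (B₂ := B₂) S (1 : S ⊗[A] B₁) = E1 S := by
  rw [Algebra.TensorProduct.one_def]; simp

lemma inrh_one : inrh (B₁ := B₁) S (1 : S ⊗[A] B₂) = E2 S := by
  rw [Algebra.TensorProduct.one_def]; simp

lemma E1_add_E2 : E1 (A := A) (B₁ := B₁) (B₂ := B₂) S + E2 S = 1 := by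
  rw [← TensorProduct.tmul_add, Algebra.TensorProduct.one_def]
  congr 1
  ext <;> simp

lemma E1_mul_E2 : E1 (A := A) (B₁ := B₁) (B₂ := B₂) S * E2 S = 0 := by
  rw [Algebra.TensorProduct.tmul_mul_tmul]
  simp [Prod.mk_zero_zero]

lemma E2_mul_E2 : E2 (A := A) (B₁ := B₁) (B₂ := B₂) S * E2 S = E2 S := by
  rw [Algebra.TensorProduct.tmul_mul_tmul]
  simp

lemma E1_mul_E1 : E1 (A := A) (B₁ := B₁) (B₂ := B₂) S * E1 S = E1 S := by
  rw [Algebra.TensorProduct.tmul_mul_tmul]
  simp

end lemmas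

end prod

section laws
variable {A : Type u} [CommRing A] {B₁ B₂ : Type u} [CommRing B₁] [Algebra A B₁] [CommRing B₂]
  [Algebra A B₂] {d : ℕ} (F : PolLaw.MulLaw A (B₁ × B₂) A d)

lemma rTensor_inlh {S S' : Type u} [CommSemiring S] [Algebra A S] [CommSemiring S'] [Algebra A S']
    (φ : S →ₐ[A] S') (x : S ⊗[A] B₁) :
    φ.toLinearMap.rTensor (B₁ × B₂) (inlh S x) = inlh S' (φ.toLinearMap.rTensor B₁ x) := by
  rw [← LinearMap.comp_apply, LinearMap.rTensor_comp_lTensor, ← LinearMap.lTensor_comp_rTensor,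
    LinearMap.comp_apply]

lemma rTensor_inrh {S S' : Type u} [CommSemiring S] [Algebra A S] [CommSemiring S'] [Algebra A S']
    (φ : S →ₐ[A] S') (x : S ⊗[A] B₂) :
    φ.toLinearMap.rTensor (B₁ × B₂) (inrh S x) = inrh S' (φ.toLinearMap.rTensor B₂ x) := by
  rw [← LinearMap.comp_apply, LinearMap.rTensor_comp_lTensor, ← LinearMap.lTensor_comp_rTensor,
    LinearMap.comp_apply]

/-- `x₁ ↦ F (x₁, 1)` -/
noncomputable def law₁ : B₁ →ₚₗ[A] A where
  toFun' S _ _ := fun x => F.law.toFun' S (inlh S x + E2 S)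
  isCompat' {S} _ _ {S'} _ _ φ := by
    funext x
    simp only [Function.comp_apply]
    rw [PolynomialLaw.isCompat_apply', map_add, rTensor_inlh, LinearMap.rTensor_tmul,
      AlgHom.toLinearMap_apply, map_one]

/-- `x₂ ↦ F (1, x₂)` -/
noncomputable def law₂ : B₂ →ₚₗ[A] A where
  toFun' S _ _ := fun x => F.law.toFun' S (E1 S + inrh S x)
  isCompat' {S} _ _ {S'} _ _ φ := by
    funext x
    simp only [Function.comp_apply]
    rw [PolynomialLaw.isCompat_apply', map_add, rTensor_inrh, LinearMap.rTensor_tmul,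
      AlgHom.toLinearMap_apply, map_one]

lemma law₁_mult : PolLaw.IsMult (law₁ F) := by
  intro S _ _
  refine ⟨?_, fun x y => ?_⟩
  · show F.law.toFun' S (inlh S 1 + E2 S) = 1
    rw [inlh_one, E1_add_E2, (F.mult S).1]
  · show F.law.toFun' S (inlh S (x * y) + E2 S) =
      F.law.toFun' S (inlh S x + E2 S) * F.law.toFun' S (inlh S y + E2 S)
    rw [← (F.mult S).2]
    congr 1
    have h : (inlh (B₂ := B₂) S x + E2 S) * (inlh S y + E2 S) =
        inlh S x * inlh S y + (E2 S * inlh S x) + (E2 S * inlh S y) + E2 S * E2 S := by ring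
    rw [h, inlh_mul, E2_mul_inlh, E2_mul_inlh, E2_mul_E2, add_zero, add_zero]

lemma law₂_mult : PolLaw.IsMult (law₂ F) := by
  intro S _ _
  refine ⟨?_, fun x y => ?_⟩
  · show F.law.toFun' S (E1 S + inrh S 1) = 1
    rw [inrh_one, E1_add_E2, (F.mult S).1]
  · show F.law.toFun' S (E1 S + inrh S (x * y)) =
      F.law.toFun' S (E1 S + inrh S x) * F.law.toFun' S (E1 S + inrh S y)
    rw [← (F.mult S).2]
    congr 1
    have h : (E1 S + inrh (B₁ := B₁) S x) * (E1 S + inrh S y) =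
        E1 S * E1 S + (E1 S * inrh S y) + (E1 S * inrh S x) + inrh S x * inrh S y := by ring
    rw [h, inrh_mul, E1_mul_inrh, E1_mul_inrh, E1_mul_E1, add_zero, add_zero]

lemma smul_eq_tmul_mul {S : Type u} [CommSemiring S] [Algebra A S] {M : Type u} [CommRing M]
    [Algebra A M] (s : S) (y : S ⊗[A] M) : s • y = (s ⊗ₜ[A] (1 : M)) * y := by
  induction y using TensorProduct.induction_on with
  | zero => simp
  | tmul s' m => rw [Algebra.TensorProduct.tmul_mul_tmul, one_mul, TensorProduct.smul_tmul',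
      smul_eq_mul]
  | add y y' hy hy' => rw [smul_add, hy, hy', mul_add]

lemma inlh_smul {S : Type u} [CommSemiring S] [Algebra A S] (s : S) (x : S ⊗[A] B₁) :
    inlh (B₂ := B₂) S (s • x) = s • inlh S x := by
  induction x using TensorProduct.induction_on with
  | zero => simp
  | tmul s' m => simp [TensorProduct.smul_tmul']
  | add y y' hy hy' => rw [smul_add, map_add, hy, hy', map_add, smul_add]

lemma inrh_smul {S : Type u} [CommSemiring S] [Algebra A S] (s : S) (x : S ⊗[A] B₂) :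
    inrh (B₁ := B₁) S (s • x) = s • inrh S x := by
  induction x using TensorProduct.induction_on with
  | zero => simp
  | tmul s' m => simp [TensorProduct.smul_tmul']
  | add y y' hy hy' => rw [smul_add, map_add, hy, hy', map_add, smul_add]

lemma law₁_homog (k : ℕ)
    (hk : ∀ (S : Type u) [CommSemiring S] [Algebra A S] (s : S),
      F.law.toFun' S ((1 : S) ⊗ₜ[A] ((0, 1) : B₁ × B₂) + s ⊗ₜ[A] ((1, 0) : B₁ × B₂)) =
        (s ^ k) ⊗ₜ[A] (1 : A)) : PolLaw.IsHomog (law₁ F) k := by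
  intro S _ _ s x
  show F.law.toFun' S (inlh S (s • x) + E2 S) = s ^ k • F.law.toFun' S (inlh S x + E2 S)
  have h : inlh S (s • x) + E2 S = (E2 S + s ⊗ₜ[A] ((1, 0) : B₁ × B₂)) * (inlh S x + E2 S) := by
    have h1 : s ⊗ₜ[A] ((1, 0) : B₁ × B₂) = (s ⊗ₜ[A] (1 : B₁ × B₂)) * E1 S := by
      rw [Algebra.TensorProduct.tmul_mul_tmul, mul_one, one_mul]
    have h2 : (E2 S + (s ⊗ₜ[A] (1 : B₁ × B₂)) * E1 S) * (inlh S x + E2 S) =
        E2 S * inlh S x + E2 S * E2 S + (s ⊗ₜ[A] (1 : B₁ × B₂)) * (E1 S * inlh S x) +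
          (s ⊗ₜ[A] (1 : B₁ × B₂)) * (E1 S * E2 S) := by ring
    rw [h1, h2, E2_mul_inlh, E2_mul_E2, E1_mul_inlh, E1_mul_E2, mul_zero, add_zero, zero_add,
      inlh_smul, smul_eq_tmul_mul, add_comm]
  rw [h, (F.mult S).2, hk S s, smul_eq_tmul_mul]

lemma law₂_homog (k : ℕ)
    (hk : ∀ (S : Type u) [CommSemiring S] [Algebra A S] (s : S),
      F.law.toFun' S ((1 : S) ⊗ₜ[A] ((1, 0) : B₁ × B₂) + s ⊗ₜ[A] ((0, 1) : B₁ × B₂)) =
        (s ^ k) ⊗ₜ[A] (1 : A)) : PolLaw.IsHomog (law₂ F) k := by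
  intro S _ _ s x
  show F.law.toFun' S (E1 S + inrh S (s • x)) = s ^ k • F.law.toFun' S (E1 S + inrh S x)
  have h : E1 S + inrh S (s • x) = (E1 S + s ⊗ₜ[A] ((0, 1) : B₁ × B₂)) * (E1 S + inrh S x) := by
    have h1 : s ⊗ₜ[A] ((0, 1) : B₁ × B₂) = (s ⊗ₜ[A] (1 : B₁ × B₂)) * E2 S := by
      rw [Algebra.TensorProduct.tmul_mul_tmul, mul_one, one_mul]
    have h2 : (E1 S + (s ⊗ₜ[A] (1 : B₁ × B₂)) * E2 S) * (E1 S + inrh S x) =
        E1 S * E1 S + E1 S * inrh S x + (s ⊗ₜ[A] (1 : B₁ × B₂)) * (E1 S * E2 S) +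
          (s ⊗ₜ[A] (1 : B₁ × B₂)) * (E2 S * inrh S x) := by ring
    rw [h1, h2, E1_mul_inrh, E1_mul_E1, E2_mul_inrh, E1_mul_E2, mul_zero, add_zero, add_zero,
      inrh_smul, smul_eq_tmul_mul]
  rw [h, (F.mult S).2, hk S s, smul_eq_tmul_mul]

lemma law_eq_mul (S : Type u) [CommSemiring S] [Algebra A S] (x : S ⊗[A] (B₁ × B₂)) :
    F.law.toFun' S x = (law₁ F).toFun' S (fsth S x) * (law₂ F).toFun' S (sndh S x) := by
  show F.law.toFun' S x = F.law.toFun' S (inlh S (fsth S x) + E2 S) *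
    F.law.toFun' S (E1 S + inrh S (sndh S x))
  rw [← (F.mult S).2, inlh_fsth, inrh_sndh]
  congr 1
  have h : (E1 S * x + E2 S) * (E1 S + E2 S * x) =
      (E1 S * E1 S) * x + (E1 S * E2 S) * (x * x) + (E1 S * E2 S) + (E2 S * E2 S) * x := by ring
  rw [h, E1_mul_E1, E1_mul_E2, E2_mul_E2, zero_mul, add_zero, add_zero, ← add_mul, E1_add_E2,
    one_mul]

end laws

section main
variable {A : Type u} [CommRing A] {B₁ B₂ : Type u} [CommRing B₁] [Algebra A B₁] [CommRing B₂]
  [Algebra A B₂] {d : ℕ}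

lemma X_pow_tmul_inj [Nontrivial A] {k l : ℕ}
    (h : ((X : A[X]) ^ k) ⊗ₜ[A] (1 : A) = ((X : A[X]) ^ l) ⊗ₜ[A] (1 : A)) : k = l := by
  have h1 := congrArg (TensorProduct.rid A A[X]) h
  rw [TensorProduct.rid_tmul, TensorProduct.rid_tmul, one_smul, one_smul] at h1
  have h2 := congrArg natDegree h1
  rwa [natDegree_X_pow, natDegree_X_pow] at h2

theorem main [ConnectedSpace (PrimeSpectrum A)] (F : PolLaw.MulLaw A (B₁ × B₂) A d) :
    ∃ d₁ d₂ : ℕ, d₁ + d₂ = d ∧
      (∃ (F₁ : PolLaw.MulLaw A B₁ A d₁) (F₂ : PolLaw.MulLaw A B₂ A d₂),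
        ∀ (S : Type u) [CommSemiring S] [Algebra A S] (x : S ⊗[A] (B₁ × B₂)),
          F.law.toFun' S x = F₁.law.toFun' S (LinearMap.lTensor S (LinearMap.fst A B₁ B₂) x) *
            F₂.law.toFun' S (LinearMap.lTensor S (LinearMap.snd A B₁ B₂) x)) ∧
      ∀ (e₁ e₂ : ℕ) (G₁ : PolLaw.MulLaw A B₁ A e₁) (G₂ : PolLaw.MulLaw A B₂ A e₂),
        (∀ (S : Type u) [CommSemiring S] [Algebra A S] (x : S ⊗[A] (B₁ × B₂)),
          F.law.toFun' S x = G₁.law.toFun' S (LinearMap.lTensor S (LinearMap.fst A B₁ B₂) x) *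
            G₂.law.toFun' S (LinearMap.lTensor S (LinearMap.snd A B₁ B₂) x)) → e₁ = d₁ ∧ e₂ = d₂ := by
  haveI : Nontrivial A := by
    obtain ⟨p⟩ := (inferInstance : Nonempty (PrimeSpectrum A))
    exact ⟨⟨0, 1, fun h01 => p.2.ne_top ((Ideal.eq_top_iff_one _).mpr (h01 ▸ p.asIdeal.zero_mem))⟩⟩
  obtain ⟨k₂, hk₂⟩ := exists_pow F ((1, 0) : B₁ × B₂) (0, 1) (by simp [Prod.mk_zero_zero])
    (by ext <;> simp)
  obtain ⟨k₁, hk₁⟩ := exists_pow F ((0, 1) : B₁ × B₂) (1, 0) (by simp [Prod.mk_zero_zero])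
    (by ext <;> simp)
  refine ⟨k₁, k₂, ?_, ⟨⟨law₁ F, law₁_homog F k₁ hk₁, law₁_mult F⟩,
    ⟨law₂ F, law₂_homog F k₂ hk₂, law₂_mult F⟩, fun S _ _ x => law_eq_mul F S x⟩, ?_⟩
  · -- degrees add up
    have h1 := hk₁ A[X] X
    have h2 := hk₂ A[X] X
    have h3 : ((1 : A[X]) ⊗ₜ[A] ((0, 1) : B₁ × B₂) + X ⊗ₜ[A] ((1, 0) : B₁ × B₂)) *
        ((1 : A[X]) ⊗ₜ[A] ((1, 0) : B₁ × B₂) + X ⊗ₜ[A] ((0, 1) : B₁ × B₂)) =
        (X : A[X]) • (1 : A[X] ⊗[A] (B₁ × B₂)) := by
      rw [add_mul, mul_add, mul_add, Algebra.TensorProduct.tmul_mul_tmul,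
        Algebra.TensorProduct.tmul_mul_tmul, Algebra.TensorProduct.tmul_mul_tmul,
        Algebra.TensorProduct.tmul_mul_tmul]
      simp only [Prod.mk_mul_mk, mul_zero, mul_one, one_mul, zero_mul, Prod.mk_zero_zero,
        TensorProduct.tmul_zero, zero_add, add_zero]
      rw [← TensorProduct.tmul_add, Algebra.TensorProduct.one_def, TensorProduct.smul_tmul',
        smul_eq_mul, mul_one]
      congr 1
      ext <;> simp
    have h4 := congrArg (F.law.toFun' A[X]) h3
    rw [(F.mult _).2, h1, h2, F.homog, (F.mult _).1, Algebra.TensorProduct.tmul_mul_tmul, mul_one,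
      ← pow_add, Algebra.TensorProduct.one_def, TensorProduct.smul_tmul', smul_eq_mul, mul_one]
      at h4
    exact X_pow_tmul_inj h4
  · intro e₁ e₂ G₁ G₂ hG
    constructor
    · have h1 := hG A[X] ((1 : A[X]) ⊗ₜ[A] ((0, 1) : B₁ × B₂) + X ⊗ₜ[A] ((1, 0) : B₁ × B₂))
      rw [hk₁, map_add, map_add, LinearMap.lTensor_tmul, LinearMap.lTensor_tmul,
        LinearMap.lTensor_tmul, LinearMap.lTensor_tmul] at h1
      simp only [LinearMap.fst_apply, LinearMap.snd_apply, TensorProduct.tmul_zero, zero_add,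
        add_zero] at h1
      have h2 : (X : A[X]) ⊗ₜ[A] (1 : B₁) = (X : A[X]) • (1 : A[X] ⊗[A] B₁) := by
        rw [Algebra.TensorProduct.one_def, TensorProduct.smul_tmul', smul_eq_mul, mul_one]
      rw [h2, G₁.homog, (G₁.mult _).1, ← Algebra.TensorProduct.one_def, (G₂.mult _).1, mul_one,
        Algebra.TensorProduct.one_def, TensorProduct.smul_tmul', smul_eq_mul, mul_one] at h1
      exact (X_pow_tmul_inj h1).symm
    · have h1 := hG A[X] ((1 : A[X]) ⊗ₜ[A] ((1, 0) : B₁ × B₂) + X ⊗ₜ[A] ((0, 1) : B₁ × B₂))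
      rw [hk₂, map_add, map_add, LinearMap.lTensor_tmul, LinearMap.lTensor_tmul,
        LinearMap.lTensor_tmul, LinearMap.lTensor_tmul] at h1
      simp only [LinearMap.fst_apply, LinearMap.snd_apply, TensorProduct.tmul_zero, zero_add,
        add_zero] at h1
      have h2 : (X : A[X]) ⊗ₜ[A] (1 : B₂) = (X : A[X]) • (1 : A[X] ⊗[A] B₂) := by
        rw [Algebra.TensorProduct.one_def, TensorProduct.smul_tmul', smul_eq_mul, mul_one]
      rw [h2, G₂.homog, (G₂.mult _).1, ← Algebra.TensorProduct.one_def, (G₁.mult _).1, one_mul,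
        Algebra.TensorProduct.one_def, TensorProduct.smul_tmul', smul_eq_mul, mul_one] at h1
      exact (X_pow_tmul_inj h1).symm

end main

end Groth.Agent.Lib.Helper14.PolLawProd
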