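import Mathlib
import Groth.Prelude.Def_PolLaw
import Groth.Prelude.Def_PolLaw2
import Groth.Agent.Lib.Helper14PolLawRed
import Groth.Agent.Lib.Helper14PolLawProd

/-!
# Determinant law of a finitely generated projective module (helper14)

`M` f.g. projective over `A` with a compatible `B`-module structure. Choose a retract `M → A^n → M`; let
`B × A` act on `A^n` by `(b, a) ↦ i b r + a (1 - i r)`; then `N_S(x) := detLaw(B × A, A^n)(x, 1)`.
* `N D : B →ₚₗ[A] A`, `N_mult`, `N_apply_of_free`, `N_apply_local`, `N_homog`
* `ext_of_local`: laws `B → A` are determined by their members over local rings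
* `det_retract`: Sylvester identity for a retract of finite free modules
-/

set_option autoImplicit false
universe u
open TensorProduct

namespace Groth.Agent.Lib.Helper14.DetProj

section sylvester
variable {R : Type*} [CommRing R] {P Q : Type*} [AddCommGroup P] [Module R P] [AddCommGroup Q]
  [Module R Q] [Module.Free R P] [Module.Finite R P] [Module.Free R Q] [Module.Finite R Q]

/-- Sylvester / Weinstein–Aronszajn for a retract of finite free modules -/
theorem det_retract (i : P →ₗ[R] Q) (r : Q →ₗ[R] P) (hri : r ∘ₗ i = LinearMap.id) (a : P →ₗ[R] P) :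
    LinearMap.det (i ∘ₗ a ∘ₗ r + (LinearMap.id - i ∘ₗ r)) = LinearMap.det a := by
  classical
  let bP := Module.Free.chooseBasis R P
  let bQ := Module.Free.chooseBasis R Q
  rw [← LinearMap.det_toMatrix bQ, ← LinearMap.det_toMatrix bP]
  set I := LinearMap.toMatrix bP bQ i with hI
  set Rm := LinearMap.toMatrix bQ bP r with hRm
  set Am := LinearMap.toMatrix bP bP a with hAm
  have h1 : Rm * I = 1 := by
    rw [hRm, hI, ← LinearMap.toMatrix_comp bP bQ bP, hri, LinearMap.toMatrix_id]
  have h2 : LinearMap.toMatrix bQ bQ (i ∘ₗ a ∘ₗ r + (LinearMap.id - i ∘ₗ r)) =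
      1 + I * ((Am - 1) * Rm) := by
    rw [map_add, map_sub, LinearMap.toMatrix_comp bQ bP bQ, LinearMap.toMatrix_comp bQ bP bP,
      LinearMap.toMatrix_comp bQ bP bQ i r, LinearMap.toMatrix_id, Matrix.sub_mul, Matrix.one_mul,
      Matrix.mul_sub]
    abel
  rw [h2, Matrix.det_one_add_mul_comm, Matrix.mul_assoc, h1, Matrix.mul_one]
  congr 1
  abel

end sylvester

section summand

/-- data exhibiting `M` as a direct summand of `A^n` -/
structure Summand (A : Type u) [CommRing A] (M : Type u) [AddCommGroup M] [Module A M] where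
  n : ℕ
  i : M →ₗ[A] (Fin n → A)
  r : (Fin n → A) →ₗ[A] M
  h : ∀ m, r (i m) = m

variable {A : Type u} [CommRing A] {M : Type u} [AddCommGroup M] [Module A M]

lemma exists_summand [Module.Finite A M] [Module.Projective A M] : Nonempty (Summand A M) := by
  obtain ⟨n, f, hf⟩ := Module.Finite.exists_fin' A M
  obtain ⟨g, hg⟩ := Module.projective_lifting_property f LinearMap.id hf
  exact ⟨⟨n, g, f, fun m => LinearMap.congr_fun hg m⟩⟩

/-- type synonym for `A^n` -/
def Mn (D : Summand A M) : Type u := Fin D.n → A

variable (D : Summand A M)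

noncomputable instance : AddCommGroup (Mn D) := inferInstanceAs (AddCommGroup (Fin D.n → A))
noncomputable instance : Module A (Mn D) := inferInstanceAs (Module A (Fin D.n → A))
instance : Module.Free A (Mn D) := inferInstanceAs (Module.Free A (Fin D.n → A))
instance : Module.Finite A (Mn D) := inferInstanceAs (Module.Finite A (Fin D.n → A))

/-- the inclusion -/
def iL : M →ₗ[A] Mn D := D.i
/-- the retraction -/
def rL : Mn D →ₗ[A] M := D.r

@[simp] lemma rL_iL (m : M) : rL D (iL D m) = m := D.h m

variable {B : Type u} [CommRing B] [Algebra A B] [Module B M] [IsScalarTower A B M]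

noncomputable instance : SMul (B × A) (Mn D) :=
  ⟨fun c v => iL D (c.1 • rL D v) + c.2 • (v - iL D (rL D v))⟩

omit [Algebra A B] [IsScalarTower A B M] in
lemma smul_def (c : B × A) (v : Mn D) :
    c • v = iL D (c.1 • rL D v) + c.2 • (v - iL D (rL D v)) := rfl

omit [Algebra A B] [IsScalarTower A B M] in
lemma rL_smul (c : B × A) (v : Mn D) : rL D (c • v) = c.1 • rL D v := by
  rw [smul_def, map_add, rL_iL, map_smul (rL D) c.2, map_sub, rL_iL, sub_self, smul_zero, add_zero]

noncomputable instance : Module (B × A) (Mn D) where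
  one_smul v := by
    rw [smul_def]; simp
  mul_smul c c' v := by
    rw [smul_def D (c * c') v, smul_def D c (c' • v), rL_smul, smul_def D c' v]
    simp only [Prod.fst_mul, Prod.snd_mul, mul_smul, add_sub_cancel_left]
  smul_zero c := by
    rw [smul_def]; simp
  smul_add c v w := by
    simp only [smul_def, map_add, smul_add, add_sub_add_comm]
    abel
  add_smul c c' v := by
    simp only [smul_def, Prod.fst_add, Prod.snd_add, add_smul, map_add]
    abel
  zero_smul v := by
    rw [smul_def]; simp

instance : IsScalarTower A (B × A) (Mn D) where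
  smul_assoc a c v := by
    simp only [smul_def, Prod.smul_fst, Prod.smul_snd, smul_assoc, map_smul, smul_add]

end summand

section law
variable {A : Type u} [CommRing A] {M : Type u} [AddCommGroup M] [Module A M]
  {B : Type u} [CommRing B] [Algebra A B] [Module B M] [IsScalarTower A B M] (D : Summand A M)

/-- determinant law of `B × A` acting on `A^n` -/
noncomputable def bigLaw : PolLaw.MulLaw A (B × A) A (Module.finrank A (Mn D)) :=
  PolLaw.detLaw (A := A) (B := B × A) (M := Mn D) _ rfl

/-- the determinant law of `M` -/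
noncomputable def N : B →ₚₗ[A] A := PolLawProd.law₁ (bigLaw (B := B) D)

lemma N_mult : PolLaw.IsMult (N (B := B) D) := PolLawProd.law₁_mult _

lemma actEnd_inlh (S : Type u) [CommRing S] [Algebra A S] (x : S ⊗[A] B) :
    PolLaw.actEnd (Mn D) S (PolLawProd.inlh (B₂ := A) S x) =
      (iL D).baseChange S ∘ₗ PolLaw.actEnd M S x ∘ₗ (rL D).baseChange S := by
  induction x using TensorProduct.induction_on with
  | zero => simp
  | add x y hx hy => 
    rw [map_add, map_add, hx, hy, map_add, LinearMap.add_comp, LinearMap.comp_add]
  | tmul s b =>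
    apply LinearMap.ext
    intro z
    induction z using TensorProduct.induction_on with
    | zero => simp
    | add z w hz hw => rw [map_add, map_add, hz, hw]
    | tmul t v =>
      rw [LinearMap.lTensor_tmul, PolLaw.actEnd_tmul_tmul, LinearMap.comp_apply,
        LinearMap.comp_apply, LinearMap.baseChange_tmul, PolLaw.actEnd_tmul_tmul,
        LinearMap.baseChange_tmul]
      congr 1
      rw [smul_def]
      simp

lemma actEnd_E2 (S : Type u) [CommRing S] [Algebra A S] :
    PolLaw.actEnd (Mn D) S (PolLawProd.E2 (A := A) (B₁ := B) (B₂ := A) S) =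
      LinearMap.id - (iL D).baseChange S ∘ₗ (rL D).baseChange S := by
  apply LinearMap.ext
  intro z
  induction z using TensorProduct.induction_on with
  | zero => simp
  | add z w hz hw => rw [map_add, map_add, hz, hw]
  | tmul t v =>
    rw [PolLaw.actEnd_tmul_tmul, LinearMap.sub_apply, LinearMap.comp_apply,
      LinearMap.baseChange_tmul, LinearMap.baseChange_tmul, LinearMap.id_apply, one_mul,
      ← TensorProduct.tmul_sub]
    congr 1
    rw [smul_def]
    simp

lemma baseChange_comp_eq_id (S : Type u) [CommRing S] [Algebra A S] :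
    (rL D).baseChange S ∘ₗ (iL D).baseChange S = LinearMap.id := by
  rw [← LinearMap.baseChange_comp]
  have : rL D ∘ₗ iL D = LinearMap.id := LinearMap.ext (rL_iL D)
  rw [this, LinearMap.baseChange_id]

/-- the value of `N` over a ring `S` such that `S ⊗ M` is free -/
theorem N_apply_of_free (S : Type u) [CommRing S] [Algebra A S] [Module.Finite A M]
    [Module.Free S (S ⊗[A] M)] (x : S ⊗[A] B) :
    (N (B := B) D).toFun' S x = PolLaw.detAct M S x ⊗ₜ[A] (1 : A) := by
  show (bigLaw (B := B) D).law.toFun' S (PolLawProd.inlh S x + PolLawProd.E2 S) = _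
  rw [bigLaw, PolLaw.detLaw_toFun', PolLaw.detFun_eq_detAct]
  congr 1
  unfold PolLaw.detAct
  rw [map_add, actEnd_inlh, actEnd_E2]
  exact det_retract _ _ (baseChange_comp_eq_id D S) _

end law

section LG
variable {A : Type u} [CommRing A]

/-- elements of `P ⊗ A` are detected on the localisations of `P` at maximal ideals -/
lemma eq_of_forall_localization {P : Type u} [CommRing P] [Algebra A P] (y₁ y₂ : P ⊗[A] A)
    (h : ∀ (m : Ideal P) [m.IsMaximal],
      Algebra.TensorProduct.map (IsScalarTower.toAlgHom A P (Localization.AtPrime m))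
          (AlgHom.id A A) y₁ =
        Algebra.TensorProduct.map (IsScalarTower.toAlgHom A P (Localization.AtPrime m))
          (AlgHom.id A A) y₂) : y₁ = y₂ := by
  have key : ∀ (m : Ideal P) [m.IsMaximal] (y : P ⊗[A] A),
      algebraMap P (Localization.AtPrime m) (TensorProduct.rid A P y) =
        TensorProduct.rid A (Localization.AtPrime m)
          (Algebra.TensorProduct.map (IsScalarTower.toAlgHom A P (Localization.AtPrime m))
            (AlgHom.id A A) y) := by
    intro m _ y
    induction y using TensorProduct.induction_on with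
    | zero => simp
    | add y w hy hw => rw [map_add, map_add, hy, hw, map_add, map_add]
    | tmul p a =>
      rw [TensorProduct.rid_tmul, Algebra.TensorProduct.map_tmul, TensorProduct.rid_tmul,
        AlgHom.id_apply, IsScalarTower.coe_toAlgHom', Algebra.smul_def,
        Algebra.smul_def, map_mul, ← IsScalarTower.algebraMap_apply]
  apply (TensorProduct.rid A P).injective
  rw [← sub_eq_zero]
  apply eq_zero_of_localization
  intro m hm
  rw [map_sub, key m, key m, h m, sub_self]

variable {B : Type u} [CommRing B] [Algebra A B]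

open PolLawRed in
/-- two laws `B → A` agreeing over local rings are equal -/
theorem ext_of_local (N₁ N₂ : B →ₚₗ[A] A)
    (h : ∀ (S : Type u) [CommRing S] [IsLocalRing S] [Algebra A S] (x : S ⊗[A] B),
      N₁.toFun' S x = N₂.toFun' S x) : N₁ = N₂ := by
  apply PolynomialLaw.ext
  funext S _ _ x
  obtain ⟨n, ψ, x', -, rfl, -⟩ := exists_lift₂ x x
  rw [toFun'_map, toFun'_map]
  congr 1
  apply eq_of_forall_localization
  intro m _
  rw [← toFun'_map, ← toFun'_map, h]

end LG

section final
variable {A : Type u} [CommRing A] {M : Type u} [AddCommGroup M] [Module A M]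
  {B : Type u} [CommRing B] [Algebra A B] [Module B M] [IsScalarTower A B M]
  [Module.Finite A M] [Module.Projective A M] (D : Summand A M)

omit [Module B M] in
lemma free_of_local (S : Type u) [CommRing S] [IsLocalRing S] [Algebra A S] :
    Module.Free S (S ⊗[A] M) := Module.free_of_flat_of_isLocalRing

omit [Module B M] in
lemma finrank_of_local (d : ℕ) (hd : ∀ p : PrimeSpectrum A, Module.rankAtStalk M p = d)
    (S : Type u) [CommRing S] [IsLocalRing S] [Algebra A S] :
    Module.finrank S (S ⊗[A] M) = d := by
  have := free_of_local (A := A) (M := M) S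
  have h1 := Module.rankAtStalk_baseChange (R := A) (M := M) (S := S) (IsLocalRing.closedPoint S)
  rw [Module.rankAtStalk_eq_finrank_of_free, hd] at h1
  exact h1

/-- the value of `N` over a local ring -/
theorem N_apply_local (S : Type u) [CommRing S] [IsLocalRing S] [Algebra A S] (x : S ⊗[A] B) :
    (N (B := B) D).toFun' S x = PolLaw.detAct M S x ⊗ₜ[A] (1 : A) := by
  have := free_of_local (A := A) (M := M) S
  exact N_apply_of_free D S x

omit [Module.Finite A M] [Module.Projective A M] in
lemma actEnd_tmul_one (S : Type u) [CommRing S] [Algebra A S] (s : S) :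
    PolLaw.actEnd M S (s ⊗ₜ[A] (1 : B)) = s • LinearMap.id := by
  apply LinearMap.ext
  intro z
  induction z using TensorProduct.induction_on with
  | zero => simp
  | add z w hz hw => rw [map_add, map_add, hz, hw]
  | tmul t v =>
    rw [PolLaw.actEnd_tmul_tmul, one_smul, LinearMap.smul_apply, LinearMap.id_apply,
      TensorProduct.smul_tmul', smul_eq_mul]

open PolLawRed Polynomial in
theorem N_homog (d : ℕ) (hd : ∀ p : PrimeSpectrum A, Module.rankAtStalk M p = d) :
    PolLaw.IsHomog (N (B := B) D) d := by
  intro S _ _ s x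
  have key : (N (B := B) D).toFun' A[X] (X ⊗ₜ[A] (1 : B)) = (X ^ d) ⊗ₜ[A] (1 : A) := by
    apply eq_of_forall_localization
    intro m _
    rw [← toFun'_map, Algebra.TensorProduct.map_tmul, Algebra.TensorProduct.map_tmul,
      N_apply_local, AlgHom.id_apply, AlgHom.id_apply, map_pow]
    congr 1
    have := free_of_local (A := A) (M := M) (Localization.AtPrime m)
    unfold PolLaw.detAct
    rw [actEnd_tmul_one, LinearMap.det_smul, LinearMap.det_id, mul_one, finrank_of_local d hd]
  have key2 : (N (B := B) D).toFun' S (s ⊗ₜ[A] (1 : B)) = (s ^ d) ⊗ₜ[A] (1 : A) := by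
    have h1 : s ⊗ₜ[A] (1 : B) =
        Algebra.TensorProduct.map (aeval s) (AlgHom.id A B) ((X : A[X]) ⊗ₜ[A] (1 : B)) := by
      rw [Algebra.TensorProduct.map_tmul, aeval_X, AlgHom.id_apply]
    rw [h1, toFun'_map, key, Algebra.TensorProduct.map_tmul, map_pow, aeval_X, AlgHom.id_apply]
  rw [PolLawProd.smul_eq_tmul_mul s x, ((N_mult D) S).2, key2, ← PolLawProd.smul_eq_tmul_mul]

end final

end Groth.Agent.Lib.Helper14.DetProj
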