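import Mathlib

/-!
# Index of the diagonal hypersurface `x_0^d = π x_1^d + ⋯ + π^N x_N^d` over the fraction field of a DVR

(helper14) Used for S17785.
-/
set_option autoImplicit false
set_option linter.unusedVariables false
set_option linter.unusedSectionVars false
set_option linter.style.haveILetI false
universe u
namespace Groth.Agent.Lib.Helper14DiagIndex
open WithZero IsDedekindDomain Polynomial



theorem gcd_dvd_of_dvd_mul (d N : ℕ) (hd : 1 ≤ d) (δ' : ℕ) (h1 : 1 ≤ δ') (hN : δ' ≤ N) (m : ℕ)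
    (h : d ∣ δ' * m) :
    ((Finset.Icc 1 N).filter (fun δ => δ ∣ d)).gcd (fun δ => d / δ) ∣ m := by
  set δ := Nat.gcd δ' d with hδ
  have hδpos : 0 < δ := Nat.gcd_pos_of_pos_left _ h1
  have hδd : δ ∣ d := Nat.gcd_dvd_right _ _
  have hδδ' : δ ∣ δ' := Nat.gcd_dvd_left _ _
  have hδle : δ ≤ N := le_trans (Nat.le_of_dvd h1 hδδ') hN
  have hmem : δ ∈ (Finset.Icc 1 N).filter (fun δ => δ ∣ d) := by
    simp only [Finset.mem_filter, Finset.mem_Icc]
    exact ⟨⟨hδpos, hδle⟩, hδd⟩
  refine dvd_trans (Finset.gcd_dvd hmem) ?_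
  -- d/δ ∣ m
  have hcop : Nat.Coprime (d / δ) (δ' / δ) := by
    have := Nat.coprime_div_gcd_div_gcd (m := δ') (n := d) hδpos
    exact this.symm
  have h2 : d / δ ∣ (δ' / δ) * m := by
    obtain ⟨a, ha⟩ := hδd
    obtain ⟨b, hb⟩ := hδδ'
    rw [ha, hb, Nat.mul_div_cancel_left _ hδpos, Nat.mul_div_cancel_left _ hδpos]
    rw [ha, hb, mul_assoc] at h
    exact Nat.dvd_of_mul_dvd_mul_left hδpos h
  exact hcop.dvd_of_dvd_mul_left h2

theorem val_lemma {F : Type*} [Field F] (val : Valuation F ℤᵐ⁰) (c : F) (e : ℤ)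
    (hc : val c = exp (-e)) (d N Q : ℕ) (y : Fin (N+1) → F) (hy : y ≠ 0)
    (heq : y 0 ^ d = ∑ i : Fin N, c ^ (((i:ℕ)+1) * Q) * y i.succ ^ d) :
    ∃ δ' : ℕ, 1 ≤ δ' ∧ δ' ≤ N ∧ (d : ℤ) ∣ δ' * Q * e := by
  classical
  have hc0 : c ≠ 0 := by
    intro h
    rw [h, map_zero] at hc
    exact WithZero.coe_ne_zero hc.symm
  set t : Fin (N+1) → F := fun j => c ^ ((j:ℕ) * Q) * y j ^ d with ht
  have ht0 : t 0 = y 0 ^ d := by simp [ht]
  have htsucc : ∀ i : Fin N, t i.succ = c ^ (((i:ℕ)+1) * Q) * y i.succ ^ d := by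
    intro i; simp [ht]
  set s : Fin (N+1) → F := fun j => if j = 0 then - t 0 else t j with hs
  have hsum : ∑ j, s j = 0 := by
    rw [Fin.sum_univ_succ]
    have : ∀ i : Fin N, s i.succ = t i.succ := by
      intro i; simp [hs, Fin.succ_ne_zero]
    simp only [this]
    have h0 : s 0 = - t 0 := by simp [hs]
    rw [h0, ht0, heq]
    simp only [htsucc]
    ring
  have hvs : ∀ j, val (s j) = val (t j) := by
    intro j
    by_cases hj : j = 0
    · subst hj; simp [hs]
    · simp [hs, hj]
  obtain ⟨j0, -, hj0⟩ := Finset.exists_max_image Finset.univ (fun j => val (t j)) ⟨0, Finset.mem_univ _⟩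
  have hne : val (t j0) ≠ 0 := by
    obtain ⟨j, hj⟩ : ∃ j, y j ≠ 0 := by
      by_contra h
      push Not at h
      exact hy (funext h)
    have htj : t j ≠ 0 := mul_ne_zero (pow_ne_zero _ hc0) (pow_ne_zero _ hj)
    have h1 : val (t j) ≠ 0 := (Valuation.ne_zero_iff val).mpr htj
    have h2 := hj0 j (Finset.mem_univ _)
    intro h3
    rw [h3] at h2
    exact h1 (le_antisymm h2 zero_le)
  obtain ⟨j1, hj1ne, hj1⟩ : ∃ j1, j1 ≠ j0 ∧ val (t j1) = val (t j0) := by
    by_contra hcon
    push Not at hcon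
    have hlt : ∀ i ∈ Finset.univ \ {j0}, val (s i) < val (s j0) := by
      intro i hi
      have hi' : i ≠ j0 := by simpa using hi
      rw [hvs, hvs]
      exact lt_of_le_of_ne (hj0 i (Finset.mem_univ _)) (hcon i hi')
    have := Valuation.map_sum_eq_of_lt val (Finset.mem_univ j0) hlt
    rw [hsum, map_zero, hvs] at this
    exact hne this.symm
  -- take logs
  have hlog : ∀ j, val (t j) ≠ 0 →
      log (val (t j)) = - (((j:ℕ) * Q : ℕ) : ℤ) * e + d * log (val (y j)) := by
    intro j hj
    have hvt : val (t j) = val c ^ ((j:ℕ) * Q) * val (y j) ^ d := by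
      simp only [ht, map_mul, map_pow]
    rw [hvt] at hj ⊢
    have h2 : val (y j) ^ d ≠ 0 := right_ne_zero_of_mul hj
    have h1 : val c ^ ((j:ℕ) * Q) ≠ 0 := left_ne_zero_of_mul hj
    rw [log_mul h1 h2, log_pow, log_pow, hc, log_exp]
    simp only [nsmul_eq_mul]
    ring
  have hj1' : val (t j1) ≠ 0 := by rw [hj1]; exact hne
  have key := congrArg log hj1
  rw [hlog j1 hj1', hlog j0 hne] at key
  -- key : -(j1 Q) e + d a1 = -(j0 Q) e + d a0
  rcases lt_or_gt_of_ne hj1ne with hlt | hlt
  · refine ⟨(j0 : ℕ) - (j1 : ℕ), ?_, ?_, ?_⟩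
    · have : (j1 : ℕ) < (j0 : ℕ) := hlt
      omega
    · have : (j0 : ℕ) < N + 1 := j0.2
      omega
    · have hle : (j1 : ℕ) ≤ (j0 : ℕ) := le_of_lt hlt
      refine ⟨log (val (y j0)) - log (val (y j1)), ?_⟩
      push_cast [hle] at key ⊢
      linarith
  · refine ⟨(j1 : ℕ) - (j0 : ℕ), ?_, ?_, ?_⟩
    · have : (j0 : ℕ) < (j1 : ℕ) := hlt
      omega
    · have : (j1 : ℕ) < N + 1 := j1.2
      omega
    · have hle : (j0 : ℕ) ≤ (j1 : ℕ) := le_of_lt hlt
      refine ⟨log (val (y j1)) - log (val (y j0)), ?_⟩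
      push_cast [hle] at key ⊢
      linarith

theorem faithful_aux {R K F : Type*} [CommRing R] [IsDomain R]
    [Field K] [Algebra R K] [IsFractionRing R K] [Field F] [Algebra K F] [Algebra R F]
    [IsScalarTower R K F] : FaithfulSMul R (integralClosure R F) := by
  rw [faithfulSMul_iff_algebraMap_injective]
  intro a b hab
  have h1 : algebraMap R F a = algebraMap R F b := by
    have := congrArg (algebraMap (integralClosure R F) F) hab
    rwa [← IsScalarTower.algebraMap_apply, ← IsScalarTower.algebraMap_apply] at this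
  rw [IsScalarTower.algebraMap_apply R K F, IsScalarTower.algebraMap_apply R K F] at h1
  exact IsFractionRing.injective R K ((algebraMap K F).injective h1)

theorem val_unif {R K F : Type*} [CommRing R] [IsDomain R] [IsDiscreteValuationRing R]
    [Field K] [Algebra R K] [IsFractionRing R K] [Field F] [Algebra K F] [Algebra R F]
    [IsScalarTower R K F] [FiniteDimensional K F] [Algebra.IsSeparable K F]
    (ϖ : R) (hϖ : Irreducible ϖ) :
    let B := integralClosure R F
    ∀ (q : Ideal B) [q.IsPrime] [q.LiesOver (IsLocalRing.maximalIdeal R)],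
      ∃ val : Valuation F ℤᵐ⁰, val (algebraMap R F ϖ) = exp (-((q.ramificationIdx R : ℕ) : ℤ)) := by
  intro B q _ _
  haveI : IsDedekindDomain B := integralClosure.isDedekindDomain R K F
  haveI : IsFractionRing B F := integralClosure.isFractionRing_of_finite_extension K F
  haveI : FaithfulSMul R B := faithful_aux (K := K)
  have hp : IsLocalRing.maximalIdeal R = Ideal.span {ϖ} := hϖ.maximalIdeal_eq
  have hp0 : IsLocalRing.maximalIdeal R ≠ ⊥ := by
    rw [hp]; simp [hϖ.ne_zero]
  have hq0 : q ≠ ⊥ := Ideal.ne_bot_of_liesOver_of_ne_bot hp0 q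
  let v : HeightOneSpectrum B := ⟨q, inferInstance, hq0⟩
  refine ⟨v.valuation F, ?_⟩
  have h1 : algebraMap R F ϖ = algebraMap B F (algebraMap R B ϖ) := by
    rw [← IsScalarTower.algebraMap_apply]
  rw [h1, HeightOneSpectrum.valuation_of_algebraMap]
  have hne : algebraMap R B ϖ ≠ 0 := by
    intro h
    have := (FaithfulSMul.algebraMap_injective R B) (h.trans (map_zero _).symm)
    exact hϖ.ne_zero this
  rw [HeightOneSpectrum.intValuation_eq_exp_neg_multiplicity _ hne]
  have hmap : (IsLocalRing.maximalIdeal R).map (algebraMap R B) = Ideal.span {algebraMap R B ϖ} := by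
    rw [hp, Ideal.map_span, Set.image_singleton]
  have hmap0 : (IsLocalRing.maximalIdeal R).map (algebraMap R B) ≠ ⊥ := by
    rw [hmap]; simpa using hne
  rw [Ideal.IsDedekindDomain.ramificationIdx_eq_multiplicity (IsLocalRing.maximalIdeal R) q hmap0, hmap]


/-- the gcd `I(d,N)`. -/
def Igcd (d N : ℕ) : ℕ := ((Finset.Icc 1 N).filter (fun δ => δ ∣ d)).gcd (fun δ => d / δ)

theorem core_dvd {R K F : Type*} [CommRing R] [IsDomain R] [IsDiscreteValuationRing R]
    [Field K] [Algebra R K] [IsFractionRing R K] [Field F] [Algebra K F] [Algebra R F]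
    [IsScalarTower R K F] [FiniteDimensional K F] [Algebra.IsSeparable K F]
    (ϖ : R) (hϖ : Irreducible ϖ) (d N Q : ℕ) (hd : 1 ≤ d) (y : Fin (N+1) → F) (hy : y ≠ 0)
    (heq : y 0 ^ d = ∑ i : Fin N, algebraMap R F (ϖ ^ (((i:ℕ)+1) * Q)) * y i.succ ^ d) :
    Igcd d N ∣ Q * Module.finrank K F := by
  classical
  set B := integralClosure R F with hB
  haveI : IsDedekindDomain B := integralClosure.isDedekindDomain R K F
  haveI : IsFractionRing B F := integralClosure.isFractionRing_of_finite_extension K F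
  haveI : FaithfulSMul R B := faithful_aux (K := K)
  haveI : Module.IsTorsionFree R F := .trans_faithfulSMul R K F
  haveI : Module.IsTorsionFree R B := IsIntegralClosure.isTorsionFree R F
  haveI : Module.Finite R B := IsIntegralClosure.finite R K F B
  have hrank : Module.finrank R B = Module.finrank K F := IsIntegralClosure.rank R K F B
  set p := IsLocalRing.maximalIdeal R with hp
  haveI : Fintype (p.primesOver B) := (Algebra.QuasiFinite.finite_primesOver p).fintype
  have hsum := Ideal.sum_ramification_inertia_eq_finrank p B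
  rw [← hrank, ← hsum, Finset.mul_sum]
  refine Finset.dvd_sum (fun q _ => ?_)
  rw [← mul_assoc]
  refine Dvd.dvd.mul_right ?_ _
  haveI : q.1.IsPrime := q.2.1
  haveI : q.1.LiesOver p := q.2.2
  obtain ⟨val, hval⟩ := val_unif (K := K) (F := F) ϖ hϖ q.1
  have heq' : y 0 ^ d = ∑ i : Fin N, (algebraMap R F ϖ) ^ (((i:ℕ)+1) * Q) * y i.succ ^ d := by
    rw [heq]
    refine Finset.sum_congr rfl (fun i _ => ?_)
    rw [map_pow]
  obtain ⟨δ', h1, h2, h3⟩ := val_lemma val (algebraMap R F ϖ) _ hval d N Q y hy heq'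
  have h4 : d ∣ δ' * (Q * q.1.ramificationIdx R) := by
    have : ((d : ℕ) : ℤ) ∣ ((δ' * (Q * q.1.ramificationIdx R) : ℕ) : ℤ) := by
      push_cast
      rw [← mul_assoc]
      exact h3
    exact Int.natCast_dvd_natCast.mp this
  exact gcd_dvd_of_dvd_mul d N hd δ' h1 h2 _ h4




theorem pow_finrank_mem {F L : Type*} [Field F] [Field L] [Algebra F L] [FiniteDimensional F L]
    [IsPurelyInseparable F L] (q : ℕ) [ExpChar F q] :
    ∃ n, Module.finrank F L = q ^ n ∧ ∀ a : L, a ^ (q ^ n) ∈ (algebraMap F L).range := by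
  obtain ⟨n, hn⟩ := IsPurelyInseparable.finrank_eq_pow (F := F) L q
  refine ⟨n, hn, fun a => ?_⟩
  obtain ⟨m, y, hm⟩ := IsPurelyInseparable.minpoly_eq_X_pow_sub_C F q a
  have hdeg : (minpoly F a).natDegree = q ^ m := by
    rw [hm, natDegree_sub_C, natDegree_X_pow]
  have hdvd : q ^ m ∣ q ^ n := by
    rw [← hdeg, ← hn]
    exact minpoly.degree_dvd (Algebra.IsIntegral.isIntegral a)
  obtain ⟨c, hc⟩ := hdvd
  have ha : a ^ (q ^ m) = algebraMap F L y := by
    have := minpoly.aeval F a
    rw [hm] at this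
    simpa [sub_eq_zero] using this
  rw [hc, pow_mul, ha, ← map_pow]
  exact ⟨y ^ c, rfl⟩


theorem dvd_finrank {R K L : Type*} [CommRing R] [IsDomain R] [IsDiscreteValuationRing R]
    [Field K] [Algebra R K] [IsFractionRing R K] [Field L] [Algebra K L] [FiniteDimensional K L]
    (ϖ : R) (hϖ : Irreducible ϖ) (d N : ℕ) (hd : 1 ≤ d) (x : Fin (N+1) → L) (hx : x ≠ 0)
    (heq : x 0 ^ d = ∑ i : Fin N, algebraMap K L (algebraMap R K (ϖ ^ ((i:ℕ)+1))) * x i.succ ^ d) :
    Igcd d N ∣ Module.finrank K L := by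
  classical
  letI : Algebra R L := ((algebraMap K L).comp (algebraMap R K)).toAlgebra
  haveI : IsScalarTower R K L := IsScalarTower.of_algebraMap_eq (fun _ => rfl)
  let F := separableClosure K L
  haveI : IsScalarTower R F L := IsScalarTower.of_algebraMap_eq (fun _ => rfl)
  set q := ringExpChar K with hq
  haveI : ExpChar K q := ringExpChar.expChar K
  haveI : ExpChar F q := expChar_of_injective_algebraMap (algebraMap K F).injective q
  haveI : ExpChar L q := expChar_of_injective_algebraMap (algebraMap K L).injective q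
  obtain ⟨n, hn, hmem⟩ := pow_finrank_mem (F := F) (L := L) q
  choose y hy using fun j => hmem (x j)
  have hy0 : y ≠ 0 := by
    intro h
    apply hx
    funext j
    have := hy j
    rw [h] at this
    simp only [Pi.zero_apply, map_zero] at this
    exact (pow_eq_zero_iff (pow_pos (expChar_pos K q) n).ne').mp this.symm
  have heqF : y 0 ^ d = ∑ i : Fin N, algebraMap R F (ϖ ^ (((i:ℕ)+1) * q ^ n)) * y i.succ ^ d := by
    apply (algebraMap F L).injective
    rw [map_pow, map_sum, hy]
    have h1 := congrArg (fun z => z ^ (q ^ n)) heq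
    beta_reduce at h1
    rw [sum_pow_char_pow] at h1
    rw [← pow_mul, mul_comm, pow_mul, h1]
    refine Finset.sum_congr rfl (fun i _ => ?_)
    rw [map_mul, map_pow (algebraMap F L) (y i.succ), hy, mul_pow]
    congr 1
    · rw [← IsScalarTower.algebraMap_apply R F L, IsScalarTower.algebraMap_apply R K L, ← map_pow,
        ← map_pow, pow_mul]
    · rw [← pow_mul, ← pow_mul, mul_comm]
  have := core_dvd (K := K) (F := F) ϖ hϖ d N (q ^ n) hd y hy0 heqF
  rwa [← hn, mul_comm, Module.finrank_mul_finrank] at this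




theorem irreducible_X_pow_sub_C {R K : Type*} [CommRing R] [IsDomain R] [IsDiscreteValuationRing R]
    [Field K] [Algebra R K] [IsFractionRing R K] (ϖ : R) (hϖ : Irreducible ϖ) (n : ℕ) (hn : 1 ≤ n) :
    Irreducible (X ^ n - C (algebraMap R K ϖ) : K[X]) := by
  have hn0 : n ≠ 0 := by omega
  have hmonic : (X ^ n - C ϖ : R[X]).Monic := monic_X_pow_sub_C ϖ hn0
  have hdeg : (X ^ n - C ϖ : R[X]).natDegree = n := natDegree_X_pow_sub_C
  have hprime : (Ideal.span {ϖ}).IsPrime := by
    rw [Ideal.span_singleton_prime hϖ.ne_zero]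
    exact hϖ.prime
  have heis : (X ^ n - C ϖ : R[X]).IsEisensteinAt (Ideal.span {ϖ}) := by
    refine ⟨?_, ?_, ?_⟩
    · rw [hmonic.leadingCoeff]
      intro h
      exact hprime.ne_top ((Ideal.eq_top_iff_one _).mpr h)
    · intro m hm
      rw [hdeg] at hm
      rw [coeff_sub, coeff_X_pow, if_neg (by omega), zero_sub, coeff_C]
      split_ifs
      · exact (Ideal.neg_mem_iff _).mpr (Ideal.mem_span_singleton_self ϖ)
      · simp
    · rw [coeff_sub, coeff_X_pow, if_neg (by omega), zero_sub, coeff_C_zero, Ideal.span_singleton_pow,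
        Ideal.neg_mem_iff, Ideal.mem_span_singleton]
      intro h
      obtain ⟨c, hc⟩ := h
      have h1 : ϖ * 1 = ϖ * (ϖ * c) := by rw [mul_one, ← mul_assoc, ← sq]; exact hc
      have h2 := mul_left_cancel₀ hϖ.ne_zero h1
      exact hϖ.not_isUnit (IsUnit.of_mul_eq_one c h2.symm)
  have hirr : Irreducible (X ^ n - C ϖ : R[X]) :=
    heis.irreducible hprime hmonic.isPrimitive (by rw [hdeg]; omega)
  have := (Monic.irreducible_iff_irreducible_map_fraction_map (K := K) hmonic).mp hirr
  simpa using this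

theorem exists_ext {R : Type*} {K : Type u} [CommRing R] [IsDomain R] [IsDiscreteValuationRing R]
    [Field K] [Algebra R K] [IsFractionRing R K] (ϖ : R) (hϖ : Irreducible ϖ) (n : ℕ) (hn : 1 ≤ n) :
    ∃ (L : Type u) (_ : Field L) (_ : Algebra K L), FiniteDimensional K L ∧
      Module.finrank K L = n ∧ ∃ t : L, t ^ n = algebraMap K L (algebraMap R K ϖ) := by
  have hirr := irreducible_X_pow_sub_C (K := K) ϖ hϖ n hn
  haveI : Fact (Irreducible (X ^ n - C (algebraMap R K ϖ) : K[X])) := ⟨hirr⟩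
  have hne : (X ^ n - C (algebraMap R K ϖ) : K[X]) ≠ 0 := hirr.ne_zero
  refine ⟨AdjoinRoot (X ^ n - C (algebraMap R K ϖ) : K[X]), inferInstance, inferInstance, ?_, ?_, ?_⟩
  · exact (AdjoinRoot.powerBasis hne).finite
  · rw [(AdjoinRoot.powerBasis hne).finrank, AdjoinRoot.powerBasis_dim, natDegree_X_pow_sub_C]
  · refine ⟨AdjoinRoot.root _, ?_⟩
    have := AdjoinRoot.eval₂_root (X ^ n - C (algebraMap R K ϖ) : K[X])
    simpa [sub_eq_zero] using this


theorem main (R : Type u) [CommRing R] [IsDomain R]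
    [IsDiscreteValuationRing R] (K : Type u) [Field K] [Algebra R K] [IsFractionRing R K]
    (ϖ : R) (hϖ : Irreducible ϖ) (d N : ℕ) (hd : 1 ≤ d) (hN : 1 ≤ N) :
    AddSubgroup.closure {m : ℤ | ∃ (L : Type u) (_ : Field L) (_ : Algebra K L),
        FiniteDimensional K L ∧ m = (Module.finrank K L : ℤ) ∧
        ∃ x : Fin (N + 1) → L, x ≠ 0 ∧
          x 0 ^ d = ∑ i : Fin N, algebraMap K L (algebraMap R K (ϖ ^ ((i : ℕ) + 1))) * x i.succ ^ d} =
      AddSubgroup.zmultiples ((((Finset.Icc 1 N).filter (fun δ => δ ∣ d)).gcd (fun δ => d / δ) : ℕ) : ℤ) := by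
  classical
  apply le_antisymm
  · rw [AddSubgroup.closure_le]
    rintro m ⟨L, _, _, hfin, rfl, x, hx, heq⟩
    rw [SetLike.mem_coe, Int.mem_zmultiples_iff]
    exact Int.natCast_dvd_natCast.mpr (dvd_finrank ϖ hϖ d N hd x hx heq)
  · set S := {m : ℤ | ∃ (L : Type u) (_ : Field L) (_ : Algebra K L),
        FiniteDimensional K L ∧ m = (Module.finrank K L : ℤ) ∧
        ∃ x : Fin (N + 1) → L, x ≠ 0 ∧
          x 0 ^ d = ∑ i : Fin N, algebraMap K L (algebraMap R K (ϖ ^ ((i : ℕ) + 1))) * x i.succ ^ d} with hS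
    obtain ⟨g, hg⟩ := Int.subgroup_cyclic (AddSubgroup.closure S)
    rw [← AddSubgroup.zmultiples_eq_closure] at hg
    rw [hg]
    apply AddSubgroup.zmultiples_le_of_mem
    rw [Int.mem_zmultiples_iff]
    have key : ∀ δ ∈ (Finset.Icc 1 N).filter (fun δ => δ ∣ d), g.natAbs ∣ d / δ := by
      intro δ hδ
      simp only [Finset.mem_filter, Finset.mem_Icc] at hδ
      obtain ⟨⟨h1, h2⟩, h3⟩ := hδ
      have hmem : ((d / δ : ℕ) : ℤ) ∈ S := by
        have hn : 1 ≤ d / δ := Nat.div_pos (Nat.le_of_dvd (by omega) h3) (by omega)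
        obtain ⟨L, _, _, hfin, hrank, t, ht⟩ := exists_ext (K := K) ϖ hϖ (d / δ) hn
        refine ⟨L, inferInstance, inferInstance, hfin, by rw [hrank], ?_⟩
        let i0 : Fin N := ⟨δ - 1, by omega⟩
        refine ⟨Fin.cons t (Pi.single i0 1), ?_, ?_⟩
        · intro h
          have h0 := congrFun h 0
          simp only [Fin.cons_zero, Pi.zero_apply] at h0
          rw [h0, zero_pow (by omega)] at ht
          have : algebraMap R K ϖ = 0 := (algebraMap K L).injective (by rw [← ht, map_zero])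
          exact hϖ.ne_zero (IsFractionRing.injective R K (by rw [this, map_zero]))
        · simp only [Fin.cons_zero, Fin.cons_succ]
          rw [Finset.sum_eq_single i0]
          · simp only [Pi.single_eq_same, one_pow, mul_one, i0]
            have hδ1 : δ - 1 + 1 = δ := by omega
            rw [hδ1, map_pow, map_pow, ← ht, ← pow_mul, Nat.div_mul_cancel h3]
          · intro j _ hj
            rw [Pi.single_eq_of_ne hj, zero_pow (by omega), mul_zero]
          · intro h; exact absurd (Finset.mem_univ _) h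
      have h4 : ((d / δ : ℕ) : ℤ) ∈ AddSubgroup.closure S := AddSubgroup.subset_closure hmem
      rw [hg, Int.mem_zmultiples_iff] at h4
      exact Int.natAbs_dvd_natAbs.mpr h4
    have := Finset.dvd_gcd key
    exact Int.natAbs_dvd.mp (Int.natCast_dvd_natCast.mpr this)

end Groth.Agent.Lib.Helper14DiagIndex
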