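import Mathlib
import Groth.Prelude.Def_CAlg

/-!
# One-dimensional Noetherian local rings (helper14)

Elements of the maximal ideal avoiding all minimal primes: `m = √(f)`, `A_f ≅ ∏ A_p`, relation to
nonzerodivisors and the total ring of fractions.
-/

set_option autoImplicit false
universe u

namespace Groth.Agent.Lib.Helper14.DimOne

open IsLocalRing

/-- index type of minimal primes -/
abbrev MinIdx (A : Type u) [CommRing A] : Type u :=
  {p : PrimeSpectrum A // p.asIdeal ∈ minimalPrimes A}

section A
variable {A : Type u} [CommRing A] [IsLocalRing A] [IsNoetherianRing A]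

theorem maximalIdeal_notMem_minimalPrimes (hdim : ringKrullDim A = 1) :
    maximalIdeal A ∉ minimalPrimes A := by
  intro h
  have h1 := IsLocalRing.maximalIdeal_height_eq_ringKrullDim (R := A)
  rw [hdim, Ideal.height_eq_zero_iff.mpr h] at h1
  exact absurd h1 (by norm_num)

theorem eq_maximalIdeal_or_mem_minimalPrimes (hdim : ringKrullDim A = 1) (p : Ideal A)
    [p.IsPrime] : p = maximalIdeal A ∨ p ∈ minimalPrimes A := by
  by_cases hp : p = maximalIdeal A
  · exact Or.inl hp
  right
  have hlt : p < maximalIdeal A := lt_of_le_of_ne (IsLocalRing.le_maximalIdeal Ideal.IsPrime.ne_top') hp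
  have h1 := IsLocalRing.maximalIdeal_height_eq_ringKrullDim (R := A)
  rw [hdim] at h1
  have h2 : (maximalIdeal A).height = 1 := by exact_mod_cast h1
  have h3 : p.height < (maximalIdeal A).height :=
    Ideal.height_strict_mono_of_isPrime_of_isPrime hlt
  rw [h2] at h3
  have h4 : p.height = 0 := by
    rwa [Order.lt_one_iff] at h3
  exact Ideal.height_eq_zero_iff.mp h4

theorem exists_notMem_minimalPrimes (hdim : ringKrullDim A = 1) :
    ∃ f ∈ maximalIdeal A, ∀ p ∈ minimalPrimes A, f ∉ p := by
  by_contra hcon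
  push Not at hcon
  have hsub : ((maximalIdeal A : Ideal A) : Set A) ⊆ ⋃ p ∈ minimalPrimes A, (p : Set A) := by
    intro f hf
    obtain ⟨p, hp, hfp⟩ := hcon f hf
    exact Set.mem_biUnion hp hfp
  have := (Ideal.subset_iUnion_iff_mem_of_isMaximal_of_finite
    (minimalPrimes.finite_of_isNoetherianRing A) (maximalIdeal A) (maximalIdeal A)
    (fun I hI _ _ => hI.isPrime) Ideal.IsPrime.ne_top' Ideal.IsPrime.ne_top').mp hsub
  exact maximalIdeal_notMem_minimalPrimes hdim this

theorem radical_span_eq_iff (hdim : ringKrullDim A = 1) {f : A} (hf : f ∈ maximalIdeal A) :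
    maximalIdeal A = (Ideal.span {f}).radical ↔ ∀ p ∈ minimalPrimes A, f ∉ p := by
  constructor
  · intro h p hp hfp
    haveI := hp.isPrime
    have h1 : (Ideal.span {f}).radical ≤ p :=
      (Ideal.IsPrime.radical_le_iff inferInstance).mpr ((Ideal.span_singleton_le_iff_mem p).mpr hfp)
    rw [← h] at h1
    have : p = maximalIdeal A := le_antisymm (IsLocalRing.le_maximalIdeal Ideal.IsPrime.ne_top') h1
    rw [this] at hp
    exact maximalIdeal_notMem_minimalPrimes hdim hp
  · intro h
    apply le_antisymm
    · rw [Ideal.radical_eq_sInf]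
      refine le_sInf fun q ⟨hfq, hq⟩ => ?_
      haveI := hq
      rcases eq_maximalIdeal_or_mem_minimalPrimes hdim q with h1 | h1
      · rw [h1]
      · exact absurd (hfq (Ideal.mem_span_singleton_self f)) (h q h1)
    · exact (Ideal.IsPrime.radical_le_iff inferInstance).mpr
        ((Ideal.span_singleton_le_iff_mem _).mpr hf)

end A

section B
variable {A : Type u} [CommRing A]


theorem notMem_of_algEquiv_pi_localization {f : A}
    (e : Localization.Away f ≃ₐ[A] (∀ p : MinIdx A, Localization.AtPrime p.1.asIdeal))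
    (p : Ideal A) (hp : p ∈ minimalPrimes A) : f ∉ p := by
  intro hfp
  haveI := hp.isPrime
  have h1 : IsUnit (algebraMap A (Localization.Away f) f) :=
    IsLocalization.Away.algebraMap_isUnit f
  have h2 : IsUnit (e (algebraMap A (Localization.Away f) f)) := h1.map e
  rw [e.commutes] at h2
  have h3 := h2.map (Pi.evalRingHom _ (⟨⟨p, inferInstance⟩, hp⟩ : MinIdx A))
  change IsUnit (algebraMap A (Localization.AtPrime p) f) at h3
  rw [IsLocalization.AtPrime.isUnit_to_map_iff (Localization.AtPrime p) p] at h3
  exact h3 hfp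

theorem notMem_of_algEquiv_pi_residueField {f : A}
    (e : Localization.Away f ≃ₐ[A] (∀ p : MinIdx A, p.1.asIdeal.ResidueField))
    (p : Ideal A) (hp : p ∈ minimalPrimes A) : f ∉ p := by
  intro hfp
  haveI := hp.isPrime
  have h1 : IsUnit (algebraMap A (Localization.Away f) f) :=
    IsLocalization.Away.algebraMap_isUnit f
  have h2 : IsUnit (e (algebraMap A (Localization.Away f) f)) := h1.map e
  rw [e.commutes] at h2
  have h3 := h2.map (Pi.evalRingHom _ (⟨⟨p, inferInstance⟩, hp⟩ : MinIdx A))
  change IsUnit (algebraMap A p.ResidueField f) at h3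
  rw [(Ideal.algebraMap_residueField_eq_zero (I := p)).mpr hfp] at h3
  exact not_isUnit_zero h3

/-- a nonzerodivisor lies in no minimal prime -/
theorem notMem_minimalPrimes_of_mem_nonZeroDivisors {f : A} (hf : f ∈ nonZeroDivisors A)
    (p : Ideal A) (hp : p ∈ minimalPrimes A) : f ∉ p := fun hfp =>
  notMem_nonZeroDivisors_of_mem_mem_minimalPrimes hfp hp hf

theorem mem_nonZeroDivisors_of_isReduced [IsReduced A] {f : A}
    (h : ∀ p ∈ minimalPrimes A, f ∉ p) : f ∈ nonZeroDivisors A := by
  rw [mem_nonZeroDivisors_iff_right]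
  intro x hx
  have : x ∈ nilradical A := by
    rw [nilradical, ← Ideal.sInf_minimalPrimes]
    refine Ideal.mem_sInf.mpr fun p hp => ?_
    haveI := hp.isPrime
    have : x * f ∈ p := by rw [hx]; exact zero_mem _
    exact (Ideal.IsPrime.mem_or_mem inferInstance this).resolve_right (h p hp)
  rwa [nilradical_eq_zero, Ideal.zero_eq_bot, Ideal.mem_bot] at this

end B

section C
variable {A : Type u} [CommRing A] [IsLocalRing A]

theorem exists_mem_nonZeroDivisors_of_depth_eq_one (h : LocCoh.depth A A = 1) :
    ∃ r ∈ maximalIdeal A, r ∈ nonZeroDivisors A := by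
  by_contra hcon
  push Not at hcon
  unfold LocCoh.depth LocCoh.idealDepth at h
  split_ifs at h with h1
  · exact absurd h (by simp)
  · have : (⨆ (rs : List A) (_ : RingTheory.Sequence.IsWeaklyRegular A rs ∧
        ∀ r ∈ rs, r ∈ maximalIdeal A), (rs.length : ℕ∞)) ≤ 0 := by
      refine iSup₂_le fun rs hrs => ?_
      cases rs with
      | nil => simp
      | cons r rs =>
        exfalso
        have hreg := ((RingTheory.Sequence.isWeaklyRegular_cons_iff A r rs).mp hrs.1).1
        refine hcon r (hrs.2 r (by simp)) ?_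
        rw [mem_nonZeroDivisors_iff_right]
        intro x hx
        apply hreg
        simp only [smul_eq_mul, mul_zero]
        rw [mul_comm]; exact hx
    rw [h] at this
    exact absurd this (by norm_num)

end C

section D
variable {A : Type u} [CommRing A] [IsLocalRing A] [IsNoetherianRing A]


/-- if `f, g ∈ m` lie in no minimal prime, a power of `g` is a multiple of `f`. -/
theorem exists_pow_eq_mul (hdim : ringKrullDim A = 1) {f g : A} (hf : f ∈ maximalIdeal A)
    (hf' : ∀ p ∈ minimalPrimes A, f ∉ p) (hg : g ∈ maximalIdeal A) :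
    ∃ (n : ℕ) (a : A), g ^ n = f * a := by
  have h1 := (radical_span_eq_iff hdim hf).mpr hf'
  rw [h1] at hg
  obtain ⟨n, hn⟩ := hg
  obtain ⟨a, ha⟩ := Ideal.mem_span_singleton.mp hn
  exact ⟨n, a, ha⟩

theorem mem_nonZeroDivisors_of_notMem_minimalPrimes (hdim : ringKrullDim A = 1)
    (hd : LocCoh.depth A A = 1 ∨ IsReduced A) {f : A} (hf : f ∈ maximalIdeal A)
    (h : ∀ p ∈ minimalPrimes A, f ∉ p) : f ∈ nonZeroDivisors A := by
  rcases hd with hd | hd
  · obtain ⟨r, hr, hr'⟩ := exists_mem_nonZeroDivisors_of_depth_eq_one hd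
    obtain ⟨n, a, hna⟩ := exists_pow_eq_mul hdim hf h hr
    have h1 : r ^ n ∈ nonZeroDivisors A := pow_mem hr' n
    rw [hna] at h1
    exact (mul_mem_nonZeroDivisors.mp h1).1
  · exact mem_nonZeroDivisors_of_isReduced h

theorem isUnit_algebraMap_of_mem_nonZeroDivisors (hdim : ringKrullDim A = 1) {f : A}
    (hf : f ∈ maximalIdeal A) {r : A} (hr : r ∈ nonZeroDivisors A) :
    IsUnit (algebraMap A (Localization.Away f) r) := by
  by_cases hru : IsUnit r
  · exact hru.map _
  have hrm : r ∈ maximalIdeal A := (IsLocalRing.mem_maximalIdeal r).mpr hru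
  obtain ⟨n, a, hna⟩ := exists_pow_eq_mul hdim hrm
    (notMem_minimalPrimes_of_mem_nonZeroDivisors hr) hf
  have h1 : IsUnit (algebraMap A (Localization.Away f) (f ^ n)) := by
    rw [map_pow]
    exact (IsLocalization.Away.algebraMap_isUnit f).pow n
  rw [hna, map_mul] at h1
  exact isUnit_of_mul_isUnit_left h1

theorem isLocalization_nonZeroDivisors_iff (hdim : ringKrullDim A = 1)
    (hd : LocCoh.depth A A = 1 ∨ IsReduced A) {f : A} (hf : f ∈ maximalIdeal A) :
    (∀ p ∈ minimalPrimes A, f ∉ p) ↔
      IsLocalization (nonZeroDivisors A) (Localization.Away f) := by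
  constructor
  · intro h
    have hfn := mem_nonZeroDivisors_of_notMem_minimalPrimes hdim hd hf h
    refine IsLocalization.of_le (Submonoid.powers f) (nonZeroDivisors A) ?_ ?_
    · exact (Submonoid.powers_le).mpr hfn
    · intro r hr
      exact isUnit_algebraMap_of_mem_nonZeroDivisors hdim hf hr
  · intro h
    apply notMem_minimalPrimes_of_mem_nonZeroDivisors
    rw [mem_nonZeroDivisors_iff_right]
    intro x hx
    have hinj := IsLocalization.injective (Localization.Away f) (le_refl (nonZeroDivisors A))
    apply hinj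
    rw [map_zero]
    have h1 : algebraMap A (Localization.Away f) x * algebraMap A (Localization.Away f) f = 0 := by
      rw [← map_mul, hx, map_zero]
    exact (IsLocalization.Away.algebraMap_isUnit f).mul_left_eq_zero.mp h1

end D

section E
variable {A : Type u} [CommRing A] [IsLocalRing A] [IsNoetherianRing A]



theorem nonempty_algEquiv_pi_localization (hdim : ringKrullDim A = 1) {f : A}
    (hf : f ∈ maximalIdeal A) (h : ∀ p ∈ minimalPrimes A, f ∉ p) :
    Nonempty (Localization.Away f ≃ₐ[A] (∀ p : MinIdx A, Localization.AtPrime p.1.asIdeal)) := by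
  set B := Localization.Away f with hB
  have hmin : ∀ q : PrimeSpectrum B, (q.asIdeal.comap (algebraMap A B)) ∈ minimalPrimes A := by
    intro q
    rcases eq_maximalIdeal_or_mem_minimalPrimes hdim (q.asIdeal.comap (algebraMap A B)) with h1 | h1
    · exfalso
      have h2 : f ∈ q.asIdeal.comap (algebraMap A B) := h1 ▸ hf
      exact q.2.ne_top (Ideal.eq_top_of_isUnit_mem _ h2 (IsLocalization.Away.algebraMap_isUnit f))
    · exact h1
  have hinj : Function.Injective (fun q : PrimeSpectrum B =>
      (⟨⟨q.asIdeal.comap (algebraMap A B), inferInstance⟩, hmin q⟩ : MinIdx A)) := by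
    intro q q' hqq'
    have h1 : q.asIdeal.comap (algebraMap A B) = q'.asIdeal.comap (algebraMap A B) :=
      congrArg (fun p : MinIdx A => p.1.asIdeal) hqq'
    apply PrimeSpectrum.ext
    rw [← IsLocalization.map_under (Submonoid.powers f) B q.asIdeal,
      ← IsLocalization.map_under (Submonoid.powers f) B q'.asIdeal]
    exact congrArg (Ideal.map (algebraMap A B)) h1
  have hsurj : Function.Surjective (fun q : PrimeSpectrum B =>
      (⟨⟨q.asIdeal.comap (algebraMap A B), inferInstance⟩, hmin q⟩ : MinIdx A)) := by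
    rintro ⟨⟨p, hp⟩, hpm⟩
    have hdisj : Disjoint (Submonoid.powers f : Set A) (p : Set A) := by
      rw [Set.disjoint_left]
      rintro _ ⟨n, rfl⟩ hn
      exact h p hpm (hp.mem_of_pow_mem n hn)
    haveI := IsLocalization.isPrime_of_isPrime_disjoint (Submonoid.powers f) B p hp hdisj
    refine ⟨⟨p.map (algebraMap A B), inferInstance⟩, ?_⟩
    apply Subtype.ext
    apply PrimeSpectrum.ext
    exact IsLocalization.under_map_of_isPrime_disjoint (Submonoid.powers f) B hp hdisj
  haveI : IsArtinianRing B := by
    rw [isArtinianRing_iff_krullDimLE_zero, Ring.krullDimLE_zero_iff]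
    intro q hq
    obtain ⟨M, hM, hqM⟩ := Ideal.exists_le_maximal q hq.ne_top
    haveI := hM.isPrime
    have h1 : q.comap (algebraMap A B) ≤ M.comap (algebraMap A B) := Ideal.comap_mono hqM
    have h2 : M.comap (algebraMap A B) ≤ q.comap (algebraMap A B) :=
      (hmin ⟨M, inferInstance⟩).2 ⟨inferInstance, bot_le⟩ h1
    have h3 : q = M := by
      rw [← IsLocalization.map_under (Submonoid.powers f) B q,
        ← IsLocalization.map_under (Submonoid.powers f) B M]
      exact congrArg (Ideal.map (algebraMap A B)) (le_antisymm h1 h2)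
    rw [h3]; exact hM
  let e : PrimeSpectrum B ≃ MinIdx A := Equiv.ofBijective _ ⟨hinj, hsurj⟩
  let e1 : B ≃ₐ[A] (∀ q : PrimeSpectrum B, Localization.AtPrime q.asIdeal) :=
    (PrimeSpectrum.toPiLocalizationEquiv B).restrictScalars A
  let e2 : (∀ q : PrimeSpectrum B, Localization.AtPrime q.asIdeal) ≃ₐ[A]
      (∀ q : PrimeSpectrum B, Localization.AtPrime (q.asIdeal.comap (algebraMap A B))) :=
    AlgEquiv.piCongrRight fun q =>
      (IsLocalization.localizationLocalizationAtPrimeIsoLocalization (Submonoid.powers f)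
        q.asIdeal).symm
  let e3 := AlgEquiv.piCongrLeft A (fun p : MinIdx A => Localization.AtPrime p.1.asIdeal) e
  exact ⟨e1.trans (e2.trans e3)⟩

end E

section F
variable {A : Type u} [CommRing A]


theorem maximalIdeal_eq_bot_of_mem_minimalPrimes [IsReduced A] (p : Ideal A) [p.IsPrime]
    (hp : p ∈ minimalPrimes A) : maximalIdeal (Localization.AtPrime p) = ⊥ := by
  have h1 := IsLocalization.AtPrime.radical_map_of_mem_minimalPrimes
    (A := Localization.AtPrime p) p ⊥ hp
  rw [Localization.AtPrime.map_eq_maximalIdeal, Ideal.map_bot] at h1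
  rw [← h1]
  exact nilradical_eq_zero _

theorem residue_bijective_of_mem_minimalPrimes [IsReduced A] (p : Ideal A) [p.IsPrime]
    (hp : p ∈ minimalPrimes A) :
    Function.Bijective (algebraMap (Localization.AtPrime p) p.ResidueField) := by
  refine ⟨?_, IsLocalRing.residue_surjective⟩
  rw [injective_iff_map_eq_zero]
  intro x hx
  have : x ∈ maximalIdeal (Localization.AtPrime p) := (IsLocalRing.residue_eq_zero_iff x).mp hx
  rwa [maximalIdeal_eq_bot_of_mem_minimalPrimes p hp, Ideal.mem_bot] at this

theorem nonempty_algEquiv_pi_residueField [IsReduced A] {B : Type u} [CommRing B] [Algebra A B]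
    (e : B ≃ₐ[A] (∀ p : MinIdx A, Localization.AtPrime p.1.asIdeal)) :
    Nonempty (B ≃ₐ[A] (∀ p : MinIdx A, p.1.asIdeal.ResidueField)) := by
  refine ⟨e.trans (AlgEquiv.piCongrRight fun p => ?_)⟩
  exact AlgEquiv.ofBijective
    (IsScalarTower.toAlgHom A (Localization.AtPrime p.1.asIdeal) p.1.asIdeal.ResidueField)
    (residue_bijective_of_mem_minimalPrimes p.1.asIdeal p.2)

end F

end Groth.Agent.Lib.Helper14.DimOne
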