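import Groth.Prelude.Def_Disp2
import Mathlib

/-!
# helper14: generalities on the twisted base change `Dieu.BC` (membership in `𝔞 • ⊤`, untwisting along a
left-inverse), used for the display rows (`Disp.*`).
-/

set_option autoImplicit false
universe u v
open Dieu TensorProduct

namespace Groth.Agent.Lib.Helper14.Disp

section general
variable {A : Type u} [CommRing A] (τ τ' : A →+* A) {P : Type v} [AddCommGroup P] [Module A P]

/-- pure tensors `1 ⊗ y` with `y ∈ 𝔞 P` lie in `𝔟 (BC τ P)` if `τ 𝔞 ⊆ 𝔟`. -/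
theorem tmul_one_mem_smul_top (𝔞 𝔟 : Ideal A) (h : ∀ a ∈ 𝔞, τ a ∈ 𝔟) (y : P)
    (hy : y ∈ 𝔞 • (⊤ : Submodule A P)) :
    BC.tmul τ 1 y ∈ 𝔟 • (⊤ : Submodule A (BC τ P)) := by
  refine Submodule.smul_induction_on hy ?_ ?_
  · intro a ha y' _
    rw [← BC.tmul_apply_eq, BC.tmul_eq_smul_tmul_one]
    exact Submodule.smul_mem_smul (h a ha) Submodule.mem_top
  · intro x y hx hy
    rw [BC.tmul_add]
    exact Submodule.add_mem _ hx hy

/-- the bilinear map `(b, y) ↦ τ'(b) y`. -/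
noncomputable def untwistBil (h : ∀ a, τ' (τ a) = a) : Res τ →ₗ[A] P →ₗ[A] P where
  toFun := fun t => τ' t.val • (LinearMap.id : P →ₗ[A] P)
  map_add' := fun s t => by rw [Res.val_add, map_add, add_smul]
  map_smul' := fun a t => by
    rw [Res.val_smul, map_mul, h, mul_smul, RingHom.id_apply]

/-- the "untwisting" map `b ⊗ y ↦ τ'(b) y` when `τ' ∘ τ = id`. -/
noncomputable def untwist (h : ∀ a, τ' (τ a) = a) : BC τ P →+ P :=
  (TensorProduct.lift (untwistBil τ τ' h (P := P))).toAddMonoidHom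

theorem untwist_tmul (h : ∀ a, τ' (τ a) = a) (b : A) (y : P) :
    untwist τ τ' h (BC.tmul τ b y) = τ' b • y := by
  change TensorProduct.lift (untwistBil τ τ' h (P := P)) ((Res.mk τ b) ⊗ₜ[A] y) = _
  rw [TensorProduct.lift.tmul]
  rfl

theorem untwist_smul (h : ∀ a, τ' (τ a) = a) (c : A) (z : BC τ P) :
    untwist τ τ' h (c • z) = τ' c • untwist τ τ' h z := by
  induction z using BC.induction_on τ with
  | zero => rw [smul_zero, map_zero, smul_zero]
  | tmul b x => rw [BC.smul_tmul, untwist_tmul, untwist_tmul, map_mul, mul_smul]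
  | add z₁ z₂ h₁ h₂ => rw [smul_add, map_add, h₁, h₂, map_add, smul_add]

theorem mem_smul_top_of_tmul_one_mem (h : ∀ a, τ' (τ a) = a) (𝔞 𝔟 : Ideal A)
    (h𝔞 : ∀ a ∈ 𝔞, τ' a ∈ 𝔟) (y : P)
    (hy : BC.tmul τ 1 y ∈ 𝔞 • (⊤ : Submodule A (BC τ P))) :
    y ∈ 𝔟 • (⊤ : Submodule A P) := by
  have key : ∀ z ∈ 𝔞 • (⊤ : Submodule A (BC τ P)), untwist τ τ' h z ∈ 𝔟 • (⊤ : Submodule A P) := by
    intro z hz
    refine Submodule.smul_induction_on hz ?_ ?_
    · intro a ha z' _
      rw [untwist_smul]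
      exact Submodule.smul_mem_smul (h𝔞 a ha) Submodule.mem_top
    · intro x y hx hy
      rw [map_add]
      exact Submodule.add_mem _ hx hy
  have := key _ hy
  rwa [untwist_tmul, map_one, one_smul] at this

end general

end Groth.Agent.Lib.Helper14.Disp
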