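import Groth.Agent.Lib.Helper14Disp

/-!
# helper14: cast-free iterates of `V^#` (`iter`, along `τ σ n = σ ∘ ⋯ ∘ σ`), the composition formula
`iter_add`, comparison with the prelude's `Dieu.vSharpPow` (`vSharpPow_eq_iter`), and the
ideal-membership calculus for `inner` (`inner_mem`).
-/

set_option autoImplicit false
universe u v
open Dieu TensorProduct

namespace Groth.Agent.Lib.Helper14.Disp

section general
variable {A : Type u} [CommRing A] {P : Type v} [AddCommGroup P] [Module A P]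

theorem castHom_mem_smul_top_iff {g g' : A →+* A} (e : g = g') (𝔞 : Ideal A) (z : BC g P) :
    BC.castHom e z ∈ 𝔞 • (⊤ : Submodule A (BC g' P)) ↔ z ∈ 𝔞 • (⊤ : Submodule A (BC g P)) := by
  subst e
  rfl

theorem castHom_castHom {g g' g'' : A →+* A} (e : g = g') (e' : g' = g'') (z : BC g P) :
    BC.castHom e' (BC.castHom e z) = BC.castHom (e.trans e') z := by
  subst e e'
  rfl

/-- `1 ⊗_τ ψ` followed by transitivity: `b ⊗ y ↦ b • push (ψ y)`. -/
noncomputable def inner (τ ρ : A →+* A) (ψ : P →ₗ[A] BC ρ P) : BC τ P →ₗ[A] BC (τ.comp ρ) P :=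
  (BC.lift τ (BC.push ρ τ)).comp (BC.map τ ψ)

theorem inner_tmul (τ ρ : A →+* A) (ψ : P →ₗ[A] BC ρ P) (b : A) (y : P) :
    inner τ ρ ψ (BC.tmul τ b y) = b • BC.push ρ τ (ψ y) := by
  rw [inner, LinearMap.comp_apply, BC.map_tmul, BC.lift_tmul]

theorem push_push (ρ α β : A →+* A) (v : BC ρ P) :
    BC.push (α.comp ρ) β (BC.push ρ α v) = BC.push ρ (β.comp α) v := by
  induction v using BC.induction_on ρ with
  | zero => rw [map_zero, map_zero, map_zero]
  | tmul d s => rw [BC.push_tmul, BC.push_tmul, BC.push_tmul]; rfl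
  | add z₁ z₂ h₁ h₂ => rw [map_add, map_add, map_add, h₁, h₂]

theorem push_inner (α ρ β : A →+* A) (ψ : P →ₗ[A] BC ρ P) (u : BC α P) :
    BC.push (α.comp ρ) β (inner α ρ ψ u) = inner (β.comp α) ρ ψ (BC.push α β u) := by
  induction u using BC.induction_on α with
  | zero => rw [map_zero, map_zero, map_zero, map_zero]
  | tmul c t =>
    rw [inner_tmul, BC.push_tmul, inner_tmul, (BC.push (α.comp ρ) β).map_smulₛₗ, push_push]
  | add z₁ z₂ h₁ h₂ => rw [map_add, map_add, map_add, map_add, h₁, h₂]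

theorem inner_inner (β α ρ : A →+* A) (ψ₁ : P →ₗ[A] BC α P) (ψ₂ : P →ₗ[A] BC ρ P) (z : BC β P) :
    inner β (α.comp ρ) ((inner α ρ ψ₂).comp ψ₁) z = inner (β.comp α) ρ ψ₂ (inner β α ψ₁ z) := by
  induction z using BC.induction_on β with
  | zero => rw [map_zero, map_zero, map_zero]
  | tmul b y =>
    rw [inner_tmul, inner_tmul, map_smul, LinearMap.comp_apply, push_inner]
  | add z₁ z₂ h₁ h₂ => rw [map_add, map_add, map_add, h₁, h₂]

theorem inner_castHom (β : A →+* A) {ρ ρ' : A →+* A} (e : ρ = ρ') (ψ : P →ₗ[A] BC ρ P) (z : BC β P)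
    (e' : β.comp ρ = β.comp ρ') :
    inner β ρ' ((BC.castHom e).comp ψ) z = BC.castHom e' (inner β ρ ψ z) := by
  subst e
  rfl

/-- membership: `inner` multiplies the ideals. -/
theorem inner_mem (τ ρ : A →+* A) (ψ : P →ₗ[A] BC ρ P) (𝔞 𝔟 𝔠 : Ideal A)
    (hψ : ∀ y, ψ y ∈ 𝔟 • (⊤ : Submodule A (BC ρ P))) (h𝔟 : ∀ b ∈ 𝔟, τ b ∈ 𝔠)
    (z : BC τ P) (hz : z ∈ 𝔞 • (⊤ : Submodule A (BC τ P))) :
    inner τ ρ ψ z ∈ (𝔞 * 𝔠) • (⊤ : Submodule A (BC (τ.comp ρ) P)) := by
  have hpush : ∀ v ∈ 𝔟 • (⊤ : Submodule A (BC ρ P)),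
      BC.push ρ τ v ∈ 𝔠 • (⊤ : Submodule A (BC (τ.comp ρ) P)) := by
    intro v hv
    refine Submodule.smul_induction_on hv ?_ ?_
    · intro b hb v' _
      rw [(BC.push ρ τ).map_smulₛₗ]
      exact Submodule.smul_mem_smul (h𝔟 b hb) Submodule.mem_top
    · intro x y hx hy
      rw [map_add]
      exact Submodule.add_mem _ hx hy
  have hall : ∀ z : BC τ P, inner τ ρ ψ z ∈ 𝔠 • (⊤ : Submodule A (BC (τ.comp ρ) P)) := by
    intro z
    induction z using BC.induction_on τ with
    | zero => rw [map_zero]; exact Submodule.zero_mem _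
    | tmul b y =>
      rw [inner_tmul]
      exact Submodule.smul_mem _ _ (hpush _ (hψ y))
    | add z₁ z₂ h₁ h₂ => rw [map_add]; exact Submodule.add_mem _ h₁ h₂
  rw [Submodule.mul_smul]
  refine Submodule.smul_induction_on hz ?_ ?_
  · intro a ha z' _
    rw [map_smul]
    exact Submodule.smul_mem_smul ha (hall z')
  · intro x y hx hy
    rw [map_add]
    exact Submodule.add_mem _ hx hy

end general

section iterates
variable {A : Type u} [CommRing A] {P : Type v} [AddCommGroup P] [Module A P]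
variable (σ : A →+* A)

/-- `τ σ n = σ ∘ ⋯ ∘ σ` (`n + 1` factors), defined by `τ (n+1) = σ ∘ τ n` so that no casts are needed. -/
def τ : ℕ → (A →+* A)
  | 0 => σ
  | n + 1 => σ.comp (τ n)

theorem τ_eq_pow (n : ℕ) : τ σ n = σ ^ (n + 1) := by
  induction n with
  | zero => exact (pow_one σ).symm
  | succ n ih => rw [τ, ih]; exact comp_pow_eq_pow_succ σ (n + 1)

/-- the cast-free iterates of `Vs`. -/
noncomputable def iter (Vs : P →ₗ[A] BC σ P) : (n : ℕ) → (P →ₗ[A] BC (τ σ n) P)
  | 0 => Vs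
  | n + 1 => (inner σ (τ σ n) (iter Vs n)).comp Vs

theorem τ_comp (m N : ℕ) : (τ σ m).comp (τ σ N) = τ σ (N + (m + 1)) := by
  induction m with
  | zero => rfl
  | succ m ih =>
    change (σ.comp (τ σ m)).comp (τ σ N) = σ.comp (τ σ (N + (m + 1)))
    rw [← ih]
    rfl

theorem iter_add (Vs : P →ₗ[A] BC σ P) (m N : ℕ) (x : P) :
    iter σ Vs (N + (m + 1)) x =
      BC.castHom (τ_comp σ m N) (inner (τ σ m) (τ σ N) (iter σ Vs N) (iter σ Vs m x)) := by
  induction m generalizing x with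
  | zero => rfl
  | succ m ih =>
    change inner σ (τ σ (N + (m + 1))) (iter σ Vs (N + (m + 1))) (Vs x) = _
    have h1 : iter σ Vs (N + (m + 1)) =
        (BC.castHom (τ_comp σ m N)).comp ((inner (τ σ m) (τ σ N) (iter σ Vs N)).comp (iter σ Vs m)) := by
      ext y; exact ih y
    rw [h1, inner_castHom σ (τ_comp σ m N) _ _ (congrArg σ.comp (τ_comp σ m N)), inner_inner]
    rfl

theorem vSharpPow_eq_iter {p : ℕ} [Fact p.Prime] {R : Type u} [CommRing R]
    {P : Type v} [AddCommGroup P] [Module (WittVector p R) P]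
    (Vs : P →ₗ[WittVector p R] BC (WittVector.frobenius : WittVector p R →+* WittVector p R) P)
    (n : ℕ) (x : P) :
    vSharpPow Vs n x = BC.castHom (τ_eq_pow (WittVector.frobenius : WittVector p R →+* WittVector p R) n)
      (iter (WittVector.frobenius : WittVector p R →+* WittVector p R) Vs n x) := by
  induction n generalizing x with
  | zero => rfl
  | succ n ih =>
    have h1 : vSharpPow Vs n =
        (BC.castHom (τ_eq_pow (WittVector.frobenius : WittVector p R →+* WittVector p R) n)).comp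
          (iter (WittVector.frobenius : WittVector p R →+* WittVector p R) Vs n) := by
      ext y; exact ih y
    rw [vSharpPow_succ_apply]
    change BC.castHom _ (inner _ _ (vSharpPow Vs n) (Vs x)) = _
    rw [h1, inner_castHom _ (τ_eq_pow _ n) _ _ (congrArg (RingHom.comp _) (τ_eq_pow _ n)),
      castHom_castHom]
    rfl

end iterates

end Groth.Agent.Lib.Helper14.Disp
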