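import Groth.Agent.Lib.Helper14Disp2

/-!
# helper14: more on `Dieu.BC`: inverse of transitivity (`split`), kernel of `BC.push` along a surjection
(`mem_of_push_eq_zero`), kernel of `BC.map g Q.mkQ` (`mem_closure_of_map_mkQ_eq_zero`), and base change of
an operator `Vs : P → BC σ P` along `φ : A → B` commuting with the twists (`Θ`, `bcVs`, `iter_bcVs`).
-/

set_option autoImplicit false
universe u v w
open Dieu TensorProduct

namespace Groth.Agent.Lib.Helper14.Disp

section split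
variable {A : Type u} {B : Type u} {C : Type u} [CommRing A] [CommRing B] [CommRing C]
variable (g : A →+* B) (h : B →+* C) {P : Type v} [AddCommGroup P] [Module A P]

/-- the `(h ∘ g)`-semilinear map `y ↦ 1 ⊗ (1 ⊗ y)`. -/
noncomputable def ιι : P →ₛₗ[h.comp g] BC h (BC g P) where
  toFun y := BC.tmul h 1 (BC.tmul g 1 y)
  map_add' x y := by rw [BC.tmul_add, BC.tmul_add]
  map_smul' a y := by
    rw [← BC.tmul_apply_eq, BC.tmul_eq_smul_tmul_one g (g a), ← BC.tmul_apply_eq,
      BC.tmul_eq_smul_tmul_one h (h (g a))]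
    rfl

/-- inverse of transitivity: `C ⊗_{h∘g} P → C ⊗_h (B ⊗_g P)`, `c ⊗ y ↦ c ⊗ (1 ⊗ y)`. -/
noncomputable def split : BC (h.comp g) P →ₗ[C] BC h (BC g P) := BC.lift (h.comp g) (ιι g h)

@[simp] theorem split_tmul (c : C) (y : P) :
    split g h (BC.tmul (h.comp g) c y) = BC.tmul h c (BC.tmul g 1 y) := by
  rw [split, BC.lift_tmul]
  change c • BC.tmul h 1 (BC.tmul g 1 y) = _
  rw [BC.smul_tmul, mul_one]

end split

section kerpush
variable {A : Type u} {B : Type u} {C : Type u} [CommRing A] [CommRing B] [CommRing C]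
variable (g : A →+* B) (h : B →+* C) (N : Type v) [AddCommGroup N] [Module A N]

/-- `K (B ⊗_g N)` for `K = ker h`. -/
noncomputable abbrev Kt : Submodule B (BC g N) := (RingHom.ker h) • (⊤ : Submodule B (BC g N))

variable {N}

/-- the quotient map modulo `Kt`. -/
noncomputable abbrev mkK (z : BC g N) : BC g N ⧸ Kt g h N := Submodule.Quotient.mk z

theorem tmul_sub_mem (b b' : B) (hb : h b = h b') (n : N) :
    BC.tmul g b n - BC.tmul g b' n ∈ Kt g h N := by
  have : BC.tmul g b n - BC.tmul g b' n = (b - b') • BC.tmul g 1 n := by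
    rw [sub_smul, ← BC.tmul_eq_smul_tmul_one, ← BC.tmul_eq_smul_tmul_one]
  rw [this]
  refine Submodule.smul_mem_smul ?_ Submodule.mem_top
  rw [RingHom.mem_ker, map_sub, hb, sub_self]

theorem mk_tmul_eq (b b' : B) (hb : h b = h b') (n : N) :
    mkK g h (BC.tmul g b n) = mkK g h (BC.tmul g b' n) :=
  (Submodule.Quotient.eq _).2 (tmul_sub_mem g h b b' hb n)

variable (hs : Function.Surjective h)

/-- auxiliary inverse `C ⊗_{h∘g} N → (B ⊗_g N)/K(B ⊗_g N)`. -/
noncomputable def pushInv : BC (h.comp g) N →+ (BC g N ⧸ Kt g h N) :=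
  TensorProduct.liftAddHom (R := A) (M := Res (h.comp g)) (N := N)
    (AddMonoidHom.mk' (fun r : Res (h.comp g) =>
      AddMonoidHom.mk' (fun n : N => mkK g h (BC.tmul g (Function.surjInv hs r.val) n))
        (fun n n' => by rw [BC.tmul_add]; rfl))
      (fun r r' => by
        ext n
        change mkK g h (BC.tmul g (Function.surjInv hs (r + r').val) n) =
          mkK g h (BC.tmul g (Function.surjInv hs r.val) n) +
            mkK g h (BC.tmul g (Function.surjInv hs r'.val) n)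
        rw [mkK, mkK, mkK, ← Submodule.Quotient.mk_add, ← BC.add_tmul]
        refine mk_tmul_eq g h _ _ ?_ n
        rw [map_add, Function.surjInv_eq hs, Function.surjInv_eq hs, Function.surjInv_eq hs]
        rfl))
    (fun a r n => by
      change mkK g h (BC.tmul g (Function.surjInv hs (a • r).val) n) =
        mkK g h (BC.tmul g (Function.surjInv hs r.val) (a • n))
      rw [← BC.tmul_mul_apply]
      refine mk_tmul_eq g h _ _ ?_ n
      rw [map_mul, Function.surjInv_eq hs, Function.surjInv_eq hs, Res.val_smul, mul_comm]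
      rfl)

theorem pushInv_tmul (c : C) (n : N) :
    pushInv g h hs (BC.tmul (h.comp g) c n) = mkK g h (BC.tmul g (Function.surjInv hs c) n) := rfl

theorem pushInv_push (z : BC g N) : pushInv g h hs (BC.push g h z) = mkK g h z := by
  induction z using BC.induction_on g with
  | zero => rw [map_zero, map_zero]; rfl
  | tmul b n =>
    rw [BC.push_tmul, pushInv_tmul]
    exact mk_tmul_eq g h _ _ (Function.surjInv_eq hs _) n
  | add z₁ z₂ h₁ h₂ => rw [map_add, map_add, h₁, h₂]; rfl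

include hs in
theorem mem_of_push_eq_zero (z : BC g N) (hz : BC.push g h z = 0) : z ∈ Kt g h N := by
  have := pushInv_push g h hs z
  rw [hz, map_zero] at this
  exact (Submodule.Quotient.mk_eq_zero _).1 this.symm

end kerpush

section kermap
variable {A : Type u} {B : Type u} [CommRing A] [CommRing B]
variable (g : A →+* B) {P : Type v} [AddCommGroup P] [Module A P] (Q : Submodule A P)

theorem map_mkQ_eq_lTensor (z : Res g ⊗[A] P) :
    BC.map g Q.mkQ (z : BC g P) = (LinearMap.lTensor (Res g) Q.mkQ) z := by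
  induction z using TensorProduct.induction_on with
  | zero => exact (map_zero (BC.map g Q.mkQ)).trans (map_zero (LinearMap.lTensor (Res g) Q.mkQ)).symm
  | tmul t x => exact BC.map_tmul g Q.mkQ t.val x
  | add x y hx hy =>
    refine (map_add (BC.map g Q.mkQ) (x : BC g P) (y : BC g P)).trans ?_
    exact (congrArg₂ (· + ·) hx hy).trans (map_add (LinearMap.lTensor (Res g) Q.mkQ) x y).symm

theorem mem_closure_of_map_mkQ_eq_zero (z : BC g P) (hz : BC.map g Q.mkQ z = 0) :
    z ∈ AddSubgroup.closure {t : BC g P | ∃ (b : B) (y : P), y ∈ Q ∧ t = BC.tmul g b y} := by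
  rw [map_mkQ_eq_lTensor] at hz
  have hex := lTensor_exact (Res g) (LinearMap.exact_subtype_mkQ Q) (Submodule.mkQ_surjective Q)
  obtain ⟨z', rfl⟩ := (hex z).1 hz
  clear hz
  induction z' using TensorProduct.induction_on with
  | zero => rw [map_zero]; exact AddSubgroup.zero_mem _
  | tmul t y =>
    rw [LinearMap.lTensor_tmul]
    exact AddSubgroup.subset_closure ⟨t.val, y, y.2, rfl⟩
  | add x y hx hy => rw [map_add]; exact AddSubgroup.add_mem _ hx hy

end kermap

section theta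
variable {A : Type u} {B : Type u} [CommRing A] [CommRing B] (φ : A →+* B)
variable {P : Type v} [AddCommGroup P] [Module A P]

/-- `v ⊗ y ↦ φ v ⊗ (1 ⊗ y)`, for twists `ρA`, `ρB` with `φ ∘ ρA = ρB ∘ φ`. -/
noncomputable def Θ (ρA : A →+* A) (ρB : B →+* B) (e : φ.comp ρA = ρB.comp φ) :
    BC ρA P →ₛₗ[φ] BC ρB (BC φ P) :=
  (split φ ρB).comp ((BC.castHom e).comp (BC.push ρA φ))

theorem Θ_tmul (ρA : A →+* A) (ρB : B →+* B) (e : φ.comp ρA = ρB.comp φ) (v : A) (y : P) :
    Θ φ ρA ρB e (BC.tmul ρA v y) = BC.tmul ρB (φ v) (BC.tmul φ 1 y) := by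
  rw [Θ, LinearMap.comp_apply, LinearMap.comp_apply, BC.push_tmul, BC.castHom_tmul, split_tmul]

theorem Θ_mem (ρA : A →+* A) (ρB : B →+* B) (e : φ.comp ρA = ρB.comp φ) (𝔞 : Ideal A) (𝔟 : Ideal B)
    (h : ∀ a ∈ 𝔞, φ a ∈ 𝔟) (z : BC ρA P) (hz : z ∈ 𝔞 • (⊤ : Submodule A (BC ρA P))) :
    Θ φ ρA ρB e z ∈ 𝔟 • (⊤ : Submodule B (BC ρB (BC φ P))) := by
  refine Submodule.smul_induction_on hz ?_ ?_
  · intro a ha z' _
    rw [(Θ φ ρA ρB e).map_smulₛₗ]
    exact Submodule.smul_mem_smul (h a ha) Submodule.mem_top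
  · intro x y hx hy
    rw [map_add]
    exact Submodule.add_mem _ hx hy

theorem push_Θ (ρA σA : A →+* A) (ρB σB : B →+* B) (e : φ.comp ρA = ρB.comp φ)
    (e' : φ.comp (σA.comp ρA) = (σB.comp ρB).comp φ) (hσ : ∀ a, φ (σA a) = σB (φ a)) (t : BC ρA P) :
    BC.push ρB σB (Θ φ ρA ρB e t) = Θ φ (σA.comp ρA) (σB.comp ρB) e' (BC.push ρA σA t) := by
  induction t using BC.induction_on ρA with
  | zero => rw [map_zero, map_zero, map_zero, map_zero]
  | tmul c s => rw [Θ_tmul, BC.push_tmul, BC.push_tmul, Θ_tmul, hσ]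
  | add z₁ z₂ h₁ h₂ => rw [map_add, map_add, map_add, map_add, h₁, h₂]

variable (σA : A →+* A) (σB : B →+* B) (hσ : ∀ a, φ (σA a) = σB (φ a))

include hσ in
theorem τ_comm (n : ℕ) (a : A) : φ (τ σA n a) = τ σB n (φ a) := by
  induction n with
  | zero => exact hσ a
  | succ n ih =>
    change φ (σA (τ σA n a)) = σB (τ σB n (φ a))
    rw [hσ, ih]

include hσ in
theorem τ_comm' (n : ℕ) : φ.comp (τ σA n) = (τ σB n).comp φ :=
  RingHom.ext fun a => τ_comm φ σA σB hσ n a

/-- the base change of `Vs : P → A ⊗_σA P` along `φ`: `w ⊗ x ↦ w • Θ (Vs x)`. -/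
noncomputable def bcVs (Vs : P →ₗ[A] BC σA P) : BC φ P →ₗ[B] BC σB (BC φ P) :=
  BC.lift φ ((Θ φ σA σB (RingHom.ext hσ)).comp Vs)

theorem bcVs_tmul (Vs : P →ₗ[A] BC σA P) (w : B) (x : P) :
    bcVs φ σA σB hσ Vs (BC.tmul φ w x) = w • Θ φ σA σB (RingHom.ext hσ) (Vs x) := by
  rw [bcVs, BC.lift_tmul]
  rfl

theorem inner_Θ (Vs : P →ₗ[A] BC σA P) (n : ℕ)
    (ih : ∀ (w : B) (x : P), iter σB (bcVs φ σA σB hσ Vs) n (BC.tmul φ w x) =
      w • Θ φ (τ σA n) (τ σB n) (τ_comm' φ σA σB hσ n) (iter σA Vs n x))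
    (u : BC σA P) :
    inner σB (τ σB n) (iter σB (bcVs φ σA σB hσ Vs) n) (Θ φ σA σB (RingHom.ext hσ) u) =
      Θ φ (σA.comp (τ σA n)) (σB.comp (τ σB n)) (τ_comm' φ σA σB hσ (n + 1))
        (inner σA (τ σA n) (iter σA Vs n) u) := by
  induction u using BC.induction_on σA with
  | zero => rw [map_zero, map_zero, map_zero, map_zero]
  | tmul v y =>
    rw [Θ_tmul, inner_tmul, inner_tmul, ih, one_smul, (Θ φ _ _ _).map_smulₛₗ]
    congr 1
    exact push_Θ φ (τ σA n) σA (τ σB n) σB _ _ hσ _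
  | add z₁ z₂ h₁ h₂ => rw [map_add, map_add, map_add, map_add, h₁, h₂]

theorem iter_bcVs (Vs : P →ₗ[A] BC σA P) (n : ℕ) (w : B) (x : P) :
    iter σB (bcVs φ σA σB hσ Vs) n (BC.tmul φ w x) =
      w • Θ φ (τ σA n) (τ σB n) (τ_comm' φ σA σB hσ n) (iter σA Vs n x) := by
  induction n generalizing w x with
  | zero => exact bcVs_tmul φ σA σB hσ Vs w x
  | succ n ih =>
    change inner σB (τ σB n) (iter σB (bcVs φ σA σB hσ Vs) n) (bcVs φ σA σB hσ Vs (BC.tmul φ w x)) = _
    rw [bcVs_tmul, map_smul, inner_Θ φ σA σB hσ Vs n ih]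
    rfl

end theta

end Groth.Agent.Lib.Helper14.Disp
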