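import Mathlib

/-! Helper14: a ring which is separated and complete for a filtration `J n` by ideals is `a`-adically
complete for every element `a` that is topologically nilpotent for the filtration. -/

set_option autoImplicit false

namespace Groth.Agent.Lib.Helper14.FiltAdic

variable {A : Type*} [CommRing A]

theorem mem_span_singleton_pow_smul_top_iff (a : A) (n : ℕ) (x : A) :
    x ∈ ((Ideal.span {a}) ^ n • (⊤ : Submodule A A)) ↔ ∃ c, x = a ^ n * c := by
  rw [smul_eq_mul, Ideal.mul_top, Ideal.span_singleton_pow, Ideal.mem_span_singleton']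
  constructor
  · rintro ⟨c, rfl⟩; exact ⟨c, mul_comm _ _⟩
  · rintro ⟨c, rfl⟩; exact ⟨c, mul_comm _ _⟩

/-- Let `J n` be a family of ideals of `A` for which `A` is separated and complete, and `a : A`
with a power of `a` in each `J n`. Then `A` is `a`-adically complete. -/
theorem isAdicComplete_span_singleton (J : ℕ → Ideal A) (a : A)
    (hsep : ∀ x : A, (∀ n, x ∈ J n) → x = 0)
    (hcomp : ∀ z : ℕ → A, (∀ n, z (n + 1) - z n ∈ J n) → ∃ x, ∀ n, x - z n ∈ J n)
    (hpow : ∀ n, ∃ N, a ^ N ∈ J n) :
    IsAdicComplete (Ideal.span {a}) A := by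
  choose N hN using hpow
  set M : ℕ → ℕ := fun n => ∑ i ∈ Finset.range (n + 1), N i with hM
  have hMsucc : ∀ n, M (n + 1) = M n + N (n + 1) := fun n => Finset.sum_range_succ _ _
  have hMN : ∀ n, N n ≤ M n := by
    intro n
    cases n with
    | zero => simp [hM]
    | succ n => rw [hMsucc]; omega
  have hMmono : ∀ n, M n ≤ M (n + 1) := fun n => by rw [hMsucc]; omega
  have hJ : ∀ n m, M n ≤ m → ∀ c, a ^ m * c ∈ J n := by
    intro n m hm c
    have h1 : a ^ m * c = a ^ N n * (a ^ (m - N n) * c) := by
      rw [← mul_assoc, ← pow_add, Nat.add_sub_cancel' ((hMN n).trans hm)]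
    rw [h1]
    exact Ideal.mul_mem_right _ _ (hN n)
  refine { toIsHausdorff := ⟨?_⟩, toIsPrecomplete := ⟨?_⟩ }
  · intro x hx
    apply hsep
    intro n
    have h1 := hx (M n)
    rw [SModEq.zero, mem_span_singleton_pow_smul_top_iff] at h1
    obtain ⟨c, rfl⟩ := h1
    exact hJ n (M n) le_rfl c
  · intro f hf
    have h1 : ∀ k, ∃ c, f (k + 1) - f k = a ^ k * c := by
      intro k
      have h2 := hf (Nat.le_succ k)
      rw [SModEq.sub_mem, mem_span_singleton_pow_smul_top_iff] at h2
      obtain ⟨c, hc⟩ := h2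
      refine ⟨-c, ?_⟩
      rw [mul_neg, ← hc]; ring
    choose c hc using h1
    have hsum : ∀ k m, f (k + m) - f k = a ^ k * ∑ i ∈ Finset.range m, a ^ i * c (k + i) := by
      intro k m
      induction m with
      | zero => simp
      | succ m ih =>
        rw [Finset.sum_range_succ, mul_add, ← ih]
        have h3 : f (k + (m + 1)) - f k = (f (k + m + 1) - f (k + m)) + (f (k + m) - f k) := by
          rw [← add_assoc]; ring
        rw [h3, hc (k + m), pow_add]
        ring
    -- the limit
    obtain ⟨L, hL⟩ := hcomp (fun n => f (M n)) (by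
      intro n
      have h4 := hsum (M n) (M (n + 1) - M n)
      rw [Nat.add_sub_cancel' (hMmono n)] at h4
      change f (M (n + 1)) - f (M n) ∈ J n
      rw [h4]
      exact hJ n (M n) le_rfl _)
    refine ⟨L, fun k => ?_⟩
    -- the tail series
    obtain ⟨S, hS⟩ := hcomp (fun n => ∑ i ∈ Finset.range (M n), a ^ i * c (k + i)) (by
      intro n
      change ∑ i ∈ Finset.range (M (n + 1)), a ^ i * c (k + i) -
        ∑ i ∈ Finset.range (M n), a ^ i * c (k + i) ∈ J n
      rw [← Finset.sum_Ico_eq_sub _ (hMmono n)]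
      refine Ideal.sum_mem _ fun i hi => ?_
      exact hJ n i (Finset.mem_Ico.mp hi).1 _)
    have hkey : L - f k = a ^ k * S := by
      rw [← sub_eq_zero]
      apply hsep
      intro n
      have e : L - f k - a ^ k * S = (L - f (M n)) - (f (M n + k) - f (M n)) +
          (f (k + M n) - f k - a ^ k * ∑ i ∈ Finset.range (M n), a ^ i * c (k + i)) -
          a ^ k * (S - ∑ i ∈ Finset.range (M n), a ^ i * c (k + i)) := by
        rw [add_comm (M n) k]; ring
      rw [e, hsum k (M n), sub_self, add_zero]
      refine Ideal.sub_mem _ (Ideal.sub_mem _ (hL n) ?_) (Ideal.mul_mem_left _ _ (hS n))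
      rw [hsum (M n) k]
      exact hJ n (M n) le_rfl _
    rw [SModEq.sub_mem, mem_span_singleton_pow_smul_top_iff]
    refine ⟨-S, ?_⟩
    rw [mul_neg, ← hkey]; ring

end Groth.Agent.Lib.Helper14.FiltAdic
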