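import Groth.Agent.Lib.Helper14WittFilt

/-! Helper14: for a `p`-adically complete ring `R`, the ring `W(R)` is complete and separated for the
filtration `K n = ker (W(R) → R) ⊓ ker (W(R) → W_n(R/p^n))`, and `K n ≤ √(K (n+1))`. -/

set_option autoImplicit false

namespace Groth.Agent.Lib.Helper14.WittPadic

open WittVector

variable (p : ℕ) [Fact p.Prime] (R : Type*) [CommRing R]

/-- reduction to `W_n(R/p^n)` -/
noncomputable def ρ (n : ℕ) :
    WittVector p R →+* TruncatedWittVector p n (R ⧸ Ideal.span {(p : R) ^ n}) :=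
  (truncate n).comp (WittVector.map (Ideal.Quotient.mk (Ideal.span {(p : R) ^ n})))

/-- the filtration -/
noncomputable def K (n : ℕ) : Ideal (WittVector p R) :=
  RingHom.ker (constantCoeff : WittVector p R →+* R) ⊓ RingHom.ker (ρ p R n)

variable {p R}

theorem sub_mem_ker_ρ_iff (n : ℕ) (x y : WittVector p R) :
    x - y ∈ RingHom.ker (ρ p R n) ↔
      ∀ i < n, x.coeff i - y.coeff i ∈ Ideal.span {(p : R) ^ n} := by
  rw [RingHom.mem_ker, map_sub, sub_eq_zero]
  constructor
  · intro h i hi
    have h1 := congrArg (fun w => TruncatedWittVector.coeff ⟨i, hi⟩ w) h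
    simp only [ρ, RingHom.comp_apply, coeff_truncate, WittVector.map_coeff] at h1
    exact Ideal.Quotient.eq.mp h1
  · intro h
    ext i
    simp only [ρ, RingHom.comp_apply, coeff_truncate, WittVector.map_coeff]
    exact Ideal.Quotient.eq.mpr (h i i.2)

theorem sub_mem_K_iff (n : ℕ) (x y : WittVector p R) :
    x - y ∈ K p R n ↔ x.coeff 0 = y.coeff 0 ∧
      ∀ i < n, x.coeff i - y.coeff i ∈ Ideal.span {(p : R) ^ n} := by
  rw [K, Ideal.mem_inf, sub_mem_ker_ρ_iff, RingHom.mem_ker, map_sub, sub_eq_zero]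
  rfl

theorem mem_K_iff (n : ℕ) (x : WittVector p R) :
    x ∈ K p R n ↔ x.coeff 0 = 0 ∧ ∀ i < n, x.coeff i ∈ Ideal.span {(p : R) ^ n} := by
  have := sub_mem_K_iff n x 0
  simpa using this

theorem K_anti (n : ℕ) : K p R (n + 1) ≤ K p R n := by
  intro x hx
  rw [mem_K_iff] at hx ⊢
  refine ⟨hx.1, fun i hi => ?_⟩
  exact Ideal.span_singleton_le_span_singleton.mpr (pow_dvd_pow _ (Nat.le_succ n))
    (hx.2 i (by omega))

theorem K_zero : K p R 0 = RingHom.ker (constantCoeff : WittVector p R →+* R) := by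
  ext x
  rw [mem_K_iff]
  constructor
  · intro h
    exact h.1
  · intro h
    exact ⟨h, fun i hi => by omega⟩

theorem K_sep [IsHausdorff (Ideal.span {(p : R)}) R] (a : WittVector p R)
    (ha : ∀ n, a ∈ K p R n) : a = 0 := by
  ext i
  rw [WittVector.zero_coeff]
  apply IsHausdorff.haus (I := Ideal.span {(p : R)}) (M := R) inferInstance
  intro n
  rw [SModEq.sub_mem, sub_zero, smul_eq_mul, Ideal.mul_top, Ideal.span_singleton_pow]
  have h := ((mem_K_iff (max n (i + 1)) a).mp (ha _)).2 i (by omega)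
  exact Ideal.span_singleton_le_span_singleton.mpr (pow_dvd_pow _ (le_max_left _ _)) h

theorem K_complete [IsPrecomplete (Ideal.span {(p : R)}) R] (z : ℕ → WittVector p R)
    (hz : ∀ n, z (n + 1) - z n ∈ K p R n) : ∃ x : WittVector p R, ∀ n, x - z n ∈ K p R n := by
  have h0 : ∀ n, (z n).coeff 0 = (z 0).coeff 0 := by
    intro n
    induction n with
    | zero => rfl
    | succ n ih => rw [((sub_mem_K_iff n _ _).mp (hz n)).1, ih]
  have hstep : ∀ n i, i < n → (z (n + 1)).coeff i - (z n).coeff i ∈ Ideal.span {(p : R) ^ n} :=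
    fun n i hi => ((sub_mem_K_iff n _ _).mp (hz n)).2 i hi
  have htel : ∀ i n m, i < n → n ≤ m →
      (z m).coeff i - (z n).coeff i ∈ Ideal.span {(p : R) ^ n} := by
    intro i n m hin hnm
    induction m, hnm using Nat.le_induction with
    | base => rw [sub_self]; exact Ideal.zero_mem _
    | succ m hnm ih =>
      have h1 : (z (m + 1)).coeff i - (z n).coeff i =
          ((z (m + 1)).coeff i - (z m).coeff i) + ((z m).coeff i - (z n).coeff i) := by ring
      rw [h1]
      refine Ideal.add_mem _ ?_ ih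
      exact Ideal.span_singleton_le_span_singleton.mpr (pow_dvd_pow _ hnm)
        (hstep m i (by omega))
  have hlim : ∀ i, ∃ L : R, ∀ n, i < n → L - (z n).coeff i ∈ Ideal.span {(p : R) ^ n} := by
    intro i
    obtain ⟨L, hL⟩ := IsPrecomplete.prec (I := Ideal.span {(p : R)}) (M := R) inferInstance
      (f := fun n => (z (n + i + 1)).coeff i) (by
      intro a b hab
      rw [SModEq.sub_mem, smul_eq_mul, Ideal.mul_top, Ideal.span_singleton_pow]
      have h1 := htel i (a + i + 1) (b + i + 1) (by omega) (by omega)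
      have h2 := Ideal.span_singleton_le_span_singleton.mpr
        (pow_dvd_pow (p : R) (show a ≤ a + i + 1 by omega)) h1
      rw [← neg_sub]
      exact neg_mem h2)
    refine ⟨L, fun n hin => ?_⟩
    have h1 := hL n
    rw [SModEq.sub_mem, smul_eq_mul, Ideal.mul_top, Ideal.span_singleton_pow] at h1
    have h2 := htel i n (n + i + 1) hin (by omega)
    have h3 : L - (z n).coeff i =
        -((z (n + i + 1)).coeff i - L) + ((z (n + i + 1)).coeff i - (z n).coeff i) := by ring
    rw [h3]
    exact Ideal.add_mem _ (neg_mem h1) h2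
  choose L hL using hlim
  refine ⟨WittVector.mk p (fun i => if i = 0 then (z 0).coeff 0 else L i), fun n => ?_⟩
  rw [sub_mem_K_iff]
  refine ⟨?_, fun i hi => ?_⟩
  · change (if (0 : ℕ) = 0 then (z 0).coeff 0 else L 0) = _
    rw [if_pos rfl]
    exact (h0 n).symm
  · change (if i = 0 then (z 0).coeff 0 else L i) - (z n).coeff i ∈ _
    split_ifs with h
    · subst h
      rw [h0 n, sub_self]
      exact Ideal.zero_mem _
    · exact hL i n hi

theorem K_rad (n : ℕ) : K p R n ≤ (K p R (n + 1)).radical := by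
  intro a ha
  have ha0 : a.coeff 0 = 0 := ((mem_K_iff n a).mp ha).1
  have hpB : ((p : ℕ) : R ⧸ Ideal.span {(p : R) ^ (n + 1)}) ^ (n + 1) = 0 := by
    rw [← map_natCast (Ideal.Quotient.mk (Ideal.span {(p : R) ^ (n + 1)})), ← map_pow,
      Ideal.Quotient.eq_zero_iff_mem]
    exact Ideal.mem_span_singleton_self _
  have hNI := WittFilt.natCast_pow_mem_kerCC (p := p) hpB
  have hab1 : WittVector.map (Ideal.Quotient.mk (Ideal.span {(p : R) ^ (n + 1)})) a ∈
      RingHom.ker (truncate (p := p) (R := R ⧸ Ideal.span {(p : R) ^ (n + 1)}) 1) := by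
    rw [mem_ker_truncate]
    intro i hi
    obtain rfl : i = 0 := by omega
    rw [WittVector.map_coeff, ha0, map_zero]
  have hpow : ∀ k, (WittVector.map (Ideal.Quotient.mk (Ideal.span {(p : R) ^ (n + 1)})) a) ^
      ((n + 1 + 2) ^ k) ∈
      RingHom.ker (truncate (p := p) (R := R ⧸ Ideal.span {(p : R) ^ (n + 1)}) (k + 1)) := by
    intro k
    induction k with
    | zero => simpa using hab1
    | succ k ih =>
      have hexp : (n + 1 + 2) ^ (k + 1) = (n + 1 + 2) ^ k * (n + 1 + 2) := pow_succ _ _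
      rw [hexp, pow_mul]
      exact WittFilt.pow_mem_ker_truncate_succ (n + 1) hNI (k + 1) (by omega) _ ih
  refine ⟨(n + 1 + 2) ^ n, ?_⟩
  rw [K, Ideal.mem_inf]
  constructor
  · have ha1 : a ∈ RingHom.ker (constantCoeff : WittVector p R →+* R) := ha.1
    exact Ideal.pow_mem_of_mem _ ha1 _ (pow_pos (by omega) n)
  · rw [RingHom.mem_ker, ρ, RingHom.comp_apply, map_pow, ← RingHom.mem_ker]
    exact hpow n

theorem span_range_verschiebung :
    Ideal.span (Set.range (verschiebung : WittVector p R → WittVector p R)) =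
      RingHom.ker (constantCoeff : WittVector p R →+* R) := by
  apply le_antisymm
  · rw [Ideal.span_le]
    rintro _ ⟨y, rfl⟩
    exact (Groth.Agent.Lib.Helper22.mem_ker_constantCoeff_iff _).mpr ⟨y, rfl⟩
  · intro x hx
    obtain ⟨y, rfl⟩ := (Groth.Agent.Lib.Helper22.mem_ker_constantCoeff_iff x).mp hx
    exact Ideal.subset_span ⟨y, rfl⟩

end Groth.Agent.Lib.Helper14.WittPadic
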