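import Groth.Agent.Lib.Helper14Disp3
import Groth.Agent.S14855

/-!
# helper14: rank argument for twisted base change.
`injective_of_surjective_twist`: a surjection `A ⊗_{σ,A} P → P`, `P` finite projective, is injective when
`σ⁻¹ 𝔪 = 𝔪` for all maximal ideals.  `comap_frobenius_eq_of_isMaximal`: this holds for the Frobenius of
`W(R)` when `p` is nilpotent in `R` (uses `Groth.Agent.S14855.result`: `W(R)` is `p`-adically and
`I_R`-adically complete, so both lie in the Jacobson radical, and `F x ≡ x ^ p` modulo `I_R + p W`).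
-/

set_option autoImplicit false
universe u v
open Dieu TensorProduct WittVector

namespace Groth.Agent.Lib.Helper14.Disp

section tw
variable {A : Type u} [CommRing A] (σ : A →+* A)

/-- a copy of `A`, viewed as an `A`-algebra through `σ`. -/
def Tw (_σ : A →+* A) : Type u := A

instance : CommRing (Tw σ) := inferInstanceAs (CommRing A)

/-- the structure map `σ : A → Tw σ`. -/
def Tw.hom : A →+* Tw σ := σ

instance : Algebra A (Tw σ) := (Tw.hom σ).toAlgebra

variable {P : Type v} [AddCommGroup P] [Module A P]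

theorem tw_smul_eq (c : A) (z : BC σ P) :
    (c • z : BC σ P) = ((c : Tw σ) • (z : Tw σ ⊗[A] P) : Tw σ ⊗[A] P) := by
  induction z using BC.induction_on σ with
  | zero => exact (smul_zero c).trans (smul_zero (M := Tw σ) (A := Tw σ ⊗[A] P) c).symm
  | tmul b x => rfl
  | add z₁ z₂ h₁ h₂ =>
    refine (smul_add c z₁ z₂).trans ?_
    exact (congrArg₂ (· + ·) h₁ h₂).trans
      (smul_add (M := Tw σ) (A := Tw σ ⊗[A] P) c z₁ z₂).symm

/-- a surjection `A ⊗_{σ,A} P → P` with `P` finite projective is injective when `σ` fixes the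
maximal ideals (rank argument). -/
theorem injective_of_surjective_twist [Module.Finite A P] [Module.Projective A P]
    (H : ∀ 𝔪 : Ideal A, 𝔪.IsMaximal → 𝔪.comap σ = 𝔪)
    (g : BC σ P →ₗ[A] P) (hg : Function.Surjective g) : Function.Injective g := by
  let iM : Module (Tw σ) P := inferInstanceAs (Module A P)
  have iF : Module.Finite (Tw σ) P := inferInstanceAs (Module.Finite A P)
  have iP : Module.Projective (Tw σ) P := inferInstanceAs (Module.Projective A P)
  let g' : Tw σ ⊗[A] P →ₗ[Tw σ] P :=
    { toFun := fun z => g z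
      map_add' := fun x y => g.map_add x y
      map_smul' := fun c z =>
        (congrArg g (tw_smul_eq σ c z).symm).trans (g.map_smul c z) }
  have hg' : Function.Surjective g' := hg
  have hb := Module.bijective_of_surjective_of_rankAtStalk_eq (φ := g') hg' (fun 𝔪 h𝔪 => by
    rw [Module.rankAtStalk_baseChange]
    have h1 : PrimeSpectrum.comap (algebraMap A (Tw σ)) ⟨𝔪, inferInstance⟩ =
        (⟨𝔪, h𝔪.isPrime⟩ : PrimeSpectrum A) := PrimeSpectrum.ext (H 𝔪 h𝔪)
    rw [h1]
    rfl)
  exact hb.1

end tw
section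
variable {p : ℕ} [Fact p.Prime] {R : Type u} [CommRing R]

theorem isAdicComplete_of_pow_eq_zero {a : R} {N : ℕ} (h : a ^ N = 0) :
    IsAdicComplete (Ideal.span {a}) R := by
  have hbot : Ideal.span {a} ^ N = ⊥ := by
    rw [Ideal.span_singleton_pow, h, Ideal.span_singleton_eq_bot]
  refine { toIsHausdorff := ⟨fun x hx => ?_⟩, toIsPrecomplete := ⟨fun f hf => ⟨f N, fun n => ?_⟩⟩ }
  · have := hx N
    rw [hbot, SModEq.zero, Submodule.bot_smul, Submodule.mem_bot] at this
    exact this
  · rcases le_total n N with hn | hn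
    · exact hf hn
    · have := hf hn
      rw [hbot, Submodule.bot_smul, SModEq.bot] at this
      rw [this]

end

section
variable {p : ℕ} [Fact p.Prime] {R : Type u} [CommRing R]

theorem constantCoeff_frobenius_sub_pow_mem (x : WittVector p R) :
    constantCoeff (frobenius x) - constantCoeff x ^ p ∈ Ideal.span {(p : R)} := by
  change (frobenius x).coeff 0 - x.coeff 0 ^ p ∈ _
  rw [coeff_frobenius, frobeniusPoly, map_add, map_pow, MvPolynomial.aeval_X, map_mul,
    add_sub_cancel_left, MvPolynomial.aeval_C]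
  refine Ideal.mul_mem_right _ _ ?_
  have : (algebraMap ℤ R) (p : ℤ) = (p : R) := by simp
  rw [this]
  exact Ideal.mem_span_singleton_self _

theorem mem_sup_of_constantCoeff_mem (y : WittVector p R)
    (hy : constantCoeff y ∈ Ideal.span {(p : R)}) :
    y ∈ RingHom.ker (constantCoeff : WittVector p R →+* R) ⊔ Ideal.span {(p : WittVector p R)} := by
  obtain ⟨r, hr⟩ := Ideal.mem_span_singleton'.1 hy
  have h1 : y = (y - teichmuller p r * (p : WittVector p R)) + teichmuller p r * (p : WittVector p R) := by
    ring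
  rw [h1]
  refine Ideal.add_mem _ (Ideal.mem_sup_left ?_)
    (Ideal.mem_sup_right (Ideal.mul_mem_left _ _ (Ideal.mem_span_singleton_self _)))
  rw [RingHom.mem_ker, map_sub, map_mul, map_natCast, ← hr]
  have : constantCoeff (teichmuller p r) = r := teichmuller_coeff_zero p r
  rw [this, sub_self]

theorem comap_frobenius_eq_of_isMaximal (hp : IsNilpotent (p : R))
    (𝔪 : Ideal (WittVector p R)) (h𝔪 : 𝔪.IsMaximal) :
    𝔪.comap (frobenius : WittVector p R →+* WittVector p R) = 𝔪 := by
  obtain ⟨N, hN⟩ := hp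
  haveI : IsAdicComplete (Ideal.span {(p : R)}) R := isAdicComplete_of_pow_eq_zero hN
  obtain ⟨h1, h2⟩ := Groth.Agent.S14855.result p R
  have hjac : RingHom.ker (constantCoeff : WittVector p R →+* R) ⊔ Ideal.span {(p : WittVector p R)} ≤ 𝔪 := by
    have hj : (⊥ : Ideal (WittVector p R)).jacobson ≤ 𝔪 := by
      rw [Ideal.jacobson]
      exact sInf_le ⟨bot_le, h𝔪⟩
    exact (sup_le (IsAdicComplete.le_jacobson_bot _) (IsAdicComplete.le_jacobson_bot _)).trans hj
  have hkey : ∀ x : WittVector p R, frobenius x - x ^ p ∈ 𝔪 := by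
    intro x
    refine hjac (mem_sup_of_constantCoeff_mem _ ?_)
    rw [map_sub, map_pow]
    exact constantCoeff_frobenius_sub_pow_mem x
  ext x
  rw [Ideal.mem_comap]
  constructor
  · intro hx
    have : x ^ p ∈ 𝔪 := by
      have := 𝔪.sub_mem hx (hkey x)
      rwa [sub_sub_cancel] at this
    exact h𝔪.isPrime.mem_of_pow_mem _ this
  · intro hx
    have : frobenius x = (frobenius x - x ^ p) + x ^ p := by ring
    rw [this]
    exact 𝔪.add_mem (hkey x) (Ideal.pow_mem_of_mem _ hx _ (Fact.out : p.Prime).pos)

end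

end Groth.Agent.Lib.Helper14.Disp
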