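import Groth.Agent.Lib.Helper14Disp3

/-!
# helper14: base change of 3n-displays, general tensor lemmas.
`bc_finite`, `bc_projective`: `B ⊗_{g,A} P` is finite / projective over `B` when `P` is over `A`.
`gam`, `twLift`: `w ⊗ m ↦ w ⊗ G m` and `w ⊗ m ↦ σ w ⊗ G m` for a `σ`-semilinear `G`.
`vT`: `V ⊗ 1 : B ⊗_{σφ} P → B ⊗_φ P` for an additive `V` with `V (b σ(c)) = V b * c`; injective for flat `P`.
-/

set_option autoImplicit false
universe u v
open Dieu TensorProduct

namespace Groth.Agent.Lib.Helper14.Disp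

section general
variable {A B : Type u} [CommRing A] [CommRing B] (g : A →+* B)
variable {P : Type v} [AddCommGroup P] [Module A P]

theorem bc_span_tmul_one (s : Set P) (hs : Submodule.span A s = ⊤) :
    Submodule.span B ((fun x => BC.tmul g 1 x) '' s) = ⊤ := by
  rw [eq_top_iff]
  have h1 : ∀ x : P, BC.tmul g 1 x ∈ Submodule.span B ((fun x => BC.tmul g 1 x) '' s) := by
    intro x
    have hx : x ∈ Submodule.span A s := hs ▸ Submodule.mem_top
    induction hx using Submodule.span_induction with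
    | mem x hx => exact Submodule.subset_span ⟨x, hx, rfl⟩
    | zero => rw [BC.tmul_zero]; exact Submodule.zero_mem _
    | add x y _ _ hx hy => rw [BC.tmul_add]; exact Submodule.add_mem _ hx hy
    | smul a x _ hx =>
      rw [← BC.tmul_apply_eq, BC.tmul_eq_smul_tmul_one]
      exact Submodule.smul_mem _ _ hx
  intro z _
  clear ‹z ∈ ⊤›
  induction z using BC.induction_on g with
  | zero => exact Submodule.zero_mem _
  | tmul b x =>
    rw [BC.tmul_eq_smul_tmul_one]
    exact Submodule.smul_mem _ _ (h1 x)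
  | add z₁ z₂ h₁ h₂ => exact Submodule.add_mem _ h₁ h₂

theorem bc_finite [Module.Finite A P] : Module.Finite B (BC g P) := by
  obtain ⟨s, hs⟩ := (Module.finite_def (R := A) (M := P)).1 inferInstance
  classical
  refine ⟨⟨s.image (fun x => BC.tmul g 1 x), ?_⟩⟩
  rw [Finset.coe_image]
  exact bc_span_tmul_one g _ hs

theorem bc_projective [Module.Projective A P] : Module.Projective B (BC g P) := by
  refine Module.Projective.of_lifting_property'' fun f hf => ?_
  let _ : Module A (BC g P →₀ B) := Module.compHom _ g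
  let _ : Module A (BC g P) := Module.compHom _ g
  let fA : (BC g P →₀ B) →ₗ[A] BC g P :=
    { toFun := f, map_add' := f.map_add, map_smul' := fun a v => f.map_smul (g a) v }
  let ιA : P →ₗ[A] BC g P :=
    { toFun := fun x => BC.tmul g 1 x
      map_add' := fun x y => BC.tmul_add g 1 x y
      map_smul' := fun a x => (BC.ι g P).map_smulₛₗ a x }
  obtain ⟨k, hk⟩ := Module.projective_lifting_property fA ιA hf
  let k' : P →ₛₗ[g] (BC g P →₀ B) :=
    { toFun := k, map_add' := k.map_add, map_smul' := fun a x => k.map_smul a x }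
  refine ⟨BC.lift g k', BC.ext g fun x => ?_⟩
  rw [LinearMap.comp_apply, BC.lift_tmul, one_smul, LinearMap.id_apply]
  exact LinearMap.congr_fun hk x

end general

section tw
variable {A B : Type u} [CommRing A] [CommRing B] (φ : A →+* B) (σA : A →+* A) (σB : B →+* B)
variable (hσ : ∀ a, φ (σA a) = σB (φ a))
variable {M : Type v} [AddCommGroup M] [Module A M]
variable {P : Type v} [AddCommGroup P] [Module A P]

/-- `x ↦ 1 ⊗ G x` as a `(σB ∘ φ)`-semilinear map. -/
noncomputable def gamSL (G : M →ₛₗ[σA] P) : M →ₛₗ[σB.comp φ] BC φ P where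
  toFun m := BC.tmul φ 1 (G m)
  map_add' m m' := by rw [map_add, BC.tmul_add]
  map_smul' a m := by
    rw [G.map_smulₛₗ, ← BC.tmul_apply_eq, BC.tmul_eq_smul_tmul_one, hσ]
    rfl

/-- `w ⊗ m ↦ w ⊗ G m`, `B`-linear `B ⊗_{σφ} M → B ⊗_φ P`. -/
noncomputable def gam (G : M →ₛₗ[σA] P) : BC (σB.comp φ) M →ₗ[B] BC φ P :=
  BC.lift (σB.comp φ) (gamSL φ σA σB hσ G)

theorem gam_tmul (G : M →ₛₗ[σA] P) (w : B) (m : M) :
    gam φ σA σB hσ G (BC.tmul (σB.comp φ) w m) = BC.tmul φ w (G m) := by
  rw [gam, BC.lift_tmul]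
  change w • BC.tmul φ 1 (G m) = _
  rw [BC.smul_tmul, mul_one]

/-- `w ⊗ m ↦ σ w ⊗ G m`, the `σB`-semilinear extension of a `σA`-semilinear map. -/
noncomputable def twLift (G : M →ₛₗ[σA] P) : BC φ M →ₛₗ[σB] BC φ P :=
  (gam φ σA σB hσ G).comp (BC.push φ σB)

theorem twLift_tmul (G : M →ₛₗ[σA] P) (w : B) (m : M) :
    twLift φ σA σB hσ G (BC.tmul φ w m) = BC.tmul φ (σB w) (G m) := by
  rw [twLift, LinearMap.comp_apply, BC.push_tmul, gam_tmul]

variable (vB : B →+ B) (hv : ∀ b c, vB (b * σB c) = vB b * c)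

/-- `vB` as an `A`-linear map `Res (σB ∘ φ) → Res φ`. -/
noncomputable def vLin : Res (σB.comp φ) →ₗ[A] Res φ where
  toFun w := Res.mk φ (vB w.val)
  map_add' w w' := by apply Res.ext; simp
  map_smul' a w := by
    apply Res.ext
    change vB (σB (φ a) * w.val) = φ a * vB w.val
    rw [mul_comm, hv, mul_comm]

variable (P) in
/-- `V ⊗ 1 : B ⊗_{σφ} P → B ⊗_φ P`. -/
noncomputable def vT : BC (σB.comp φ) P →+ BC φ P :=
  ((vLin φ σB vB hv).rTensor P).toAddMonoidHom

theorem vT_tmul (w : B) (x : P) :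
    vT φ σB P vB hv (BC.tmul (σB.comp φ) w x) = BC.tmul φ (vB w) x := rfl

theorem vT_smul (c : B) (u : BC (σB.comp φ) P) :
    vT φ σB P vB hv (σB c • u) = c • vT φ σB P vB hv u := by
  induction u using BC.induction_on (σB.comp φ) with
  | zero => rw [smul_zero, map_zero, smul_zero]
  | tmul w x =>
    rw [BC.smul_tmul, vT_tmul, vT_tmul, BC.smul_tmul, mul_comm, hv, mul_comm]
  | add z₁ z₂ h₁ h₂ => rw [smul_add, map_add, h₁, h₂, map_add, smul_add]

theorem vT_injective [Module.Flat A P] (hinj : Function.Injective vB) :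
    Function.Injective (vT φ σB P vB hv) := by
  have h : Function.Injective (vLin φ σB vB hv) := fun a b h => hinj (congrArg Res.val h)
  exact Module.Flat.rTensor_preserves_injective_linearMap (M := P) (vLin φ σB vB hv) h

end tw

end Groth.Agent.Lib.Helper14.Disp
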