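import Mathlib

/-!
# Extending a DVR with a prescribed algebraic residue field extension (helper14)

Given a DVR `OK` and an algebraic extension `k'` of its residue field, we build a DVR `OL ⊇ OK`
with ramification index one, residue field `k'`, and fraction field separable algebraic over
`Frac OK`.  The construction is a Zorn argument over subrings of an algebraic closure of `Frac OK`
contained in a valuation ring dominating `OK`.
-/

set_option autoImplicit false
set_option linter.unusedSectionVars false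
set_option linter.unusedVariables false
universe u

namespace Groth.Agent.Lib.Helper14DvrExt

open Polynomial IsLocalRing

section Core

variable {OK : Type u} [CommRing OK] [IsDomain OK] [IsDiscreteValuationRing OK]
  {k' : Type u} [Field k'] [Algebra (ResidueField OK) k']
  {Ω : Type u} [Field Ω] [Algebra OK Ω]
  (K : Type u) [Field K] [Algebra OK K] [IsFractionRing OK K] [Algebra K Ω] [IsScalarTower OK K Ω]
  (W : ValuationSubring Ω) (ι : k' →+* ResidueField W) (ϖ : OK)

/-- The property of subrings of `Ω` used in the Zorn argument. -/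
structure Good (A : Subring Ω) : Prop where
  base : ∀ a : OK, algebraMap OK Ω a ∈ A
  le : A ≤ W.toSubring
  fact : ∀ x ∈ A, x ≠ 0 → ∃ n : ℕ, ∃ u ∈ A, u⁻¹ ∈ A ∧ x = algebraMap OK Ω ϖ ^ n * u
  sep : ∀ x ∈ A, IsSeparable K x
  res : ∀ x : W, (x : Ω) ∈ A → residue W x ∈ ι.range

variable {K W ι ϖ}

theorem good_sSup (c : Set (Subring Ω)) (hc : IsChain (· ≤ ·) c) (hne : c.Nonempty)
    (h : ∀ A ∈ c, Good K W ι ϖ A) : Good K W ι ϖ (sSup c) := by
  have hmem : ∀ x, x ∈ sSup c ↔ ∃ s ∈ c, x ∈ s := fun x =>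
    Subring.mem_sSup_of_directedOn hne hc.directedOn
  obtain ⟨A₀, hA₀⟩ := hne
  refine ⟨fun a => (hmem _).2 ⟨A₀, hA₀, (h A₀ hA₀).base a⟩, sSup_le fun A hA => (h A hA).le,
    ?_, ?_, ?_⟩
  · intro x hx hx0
    obtain ⟨A, hA, hxA⟩ := (hmem x).1 hx
    obtain ⟨n, u, hu, hu', e⟩ := (h A hA).fact x hxA hx0
    exact ⟨n, u, (hmem _).2 ⟨A, hA, hu⟩, (hmem _).2 ⟨A, hA, hu'⟩, e⟩
  · intro x hx
    obtain ⟨A, hA, hxA⟩ := (hmem x).1 hx
    exact (h A hA).sep x hxA
  · intro x hx
    obtain ⟨A, hA, hxA⟩ := (hmem _).1 hx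
    exact (h A hA).res x hxA

theorem good_range (hϖ : Irreducible ϖ) (hW : ∀ a : OK, algebraMap OK Ω a ∈ W)
    (hι : ∀ a : OK, ι (algebraMap (ResidueField OK) k' (residue OK a)) =
        residue W ⟨algebraMap OK Ω a, hW a⟩) :
    Good K W ι ϖ (algebraMap OK Ω).range := by
  refine ⟨fun a => ⟨a, rfl⟩, ?_, ?_, ?_, ?_⟩
  · rintro _ ⟨a, rfl⟩
    exact hW a
  · rintro _ ⟨a, rfl⟩ hx0
    have ha0 : a ≠ 0 := fun h => hx0 (by rw [h, map_zero])
    obtain ⟨n, u, rfl⟩ := IsDiscreteValuationRing.eq_unit_mul_pow_irreducible ha0 hϖ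
    refine ⟨n, algebraMap OK Ω u, ⟨_, rfl⟩, ⟨((u⁻¹ : OKˣ) : OK), ?_⟩, ?_⟩
    · have h1 : algebraMap OK Ω (u : OK) * algebraMap OK Ω ((u⁻¹ : OKˣ) : OK) = 1 := by
        rw [← map_mul, Units.mul_inv, map_one]
      exact (eq_inv_of_mul_eq_one_right h1)
    · rw [map_mul, map_pow, mul_comm]
  · rintro _ ⟨a, rfl⟩
    rw [IsScalarTower.algebraMap_apply OK K Ω]
    exact isSeparable_algebraMap _
  · rintro x ⟨a, ha⟩
    refine ⟨algebraMap (ResidueField OK) k' (residue OK a), ?_⟩
    rw [hι a]
    congr 1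
    exact Subtype.ext ha

theorem exists_maximal (hϖ : Irreducible ϖ) (hW : ∀ a : OK, algebraMap OK Ω a ∈ W)
    (hι : ∀ a : OK, ι (algebraMap (ResidueField OK) k' (residue OK a)) =
        residue W ⟨algebraMap OK Ω a, hW a⟩) :
    ∃ A : Subring Ω, Maximal (Good K W ι ϖ) A := by
  obtain ⟨A, -, hA⟩ := zorn_le_nonempty₀ {A : Subring Ω | Good K W ι ϖ A}
    (fun c hcs hc y hy => ⟨sSup c, good_sSup c hc ⟨y, hy⟩ (fun A hA => hcs hA),
      fun z hz => le_sSup hz⟩) _ (good_range hϖ hW hι)
  exact ⟨A, hA⟩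

end Core

end Groth.Agent.Lib.Helper14DvrExt

namespace Groth.Agent.Lib.Helper14DvrExt

open Polynomial IsLocalRing

section Core2

variable {OK : Type u} [CommRing OK] [IsDomain OK] [IsDiscreteValuationRing OK]
  {k' : Type u} [Field k'] [Algebra (ResidueField OK) k']
  {Ω : Type u} [Field Ω] [Algebra OK Ω]
  {K : Type u} [Field K] [Algebra OK K] [IsFractionRing OK K] [Algebra K Ω] [IsScalarTower OK K Ω]
  {W : ValuationSubring Ω} {ι : k' →+* ResidueField W} {ϖ : OK} {A : Subring Ω}

include K in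
theorem algebraMap_injective' : Function.Injective (algebraMap OK Ω) := by
  rw [IsScalarTower.algebraMap_eq OK K Ω]
  exact (algebraMap K Ω).injective.comp (IsFractionRing.injective OK K)

theorem pi_ne_zero (hA : Good K W ι ϖ A) (hϖ : Irreducible ϖ) : algebraMap OK Ω ϖ ≠ 0 := by
  intro h
  have := algebraMap_injective' (K := K) (Ω := Ω) (h.trans (map_zero _).symm)
  exact hϖ.ne_zero this

/-- elements of `A` in the maximal ideal of `W` are divisible by `π` in `A`. -/
theorem exists_eq_pi_mul (hA : Good K W ι ϖ A) {x : Ω} (hx : x ∈ A) (hxW : x ∈ W.nonunits) :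
    ∃ x' ∈ A, x = algebraMap OK Ω ϖ * x' := by
  by_cases hx0 : x = 0
  · exact ⟨0, zero_mem _, by rw [hx0, mul_zero]⟩
  obtain ⟨n, u, hu, hu', e⟩ := hA.fact x hx hx0
  rcases n with _ | n
  · exfalso
    rw [pow_zero, one_mul] at e
    subst e
    rcases (ValuationSubring.mem_nonunits_iff_or (A := W)).1 hxW with h | h
    · exact hx0 h
    · exact h (hA.le hu')
  · exact ⟨algebraMap OK Ω ϖ ^ n * u, mul_mem (pow_mem (hA.base ϖ) n) hu, by rw [e]; ring⟩

theorem inv_mem_of_notMem_nonunits (hA : Good K W ι ϖ A)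
    (hπ : algebraMap OK Ω ϖ ∈ W.nonunits) {x : Ω} (hx : x ∈ A) (hxW : x ∉ W.nonunits) :
    x⁻¹ ∈ A := by
  have hx0 : x ≠ 0 := fun h => hxW (h ▸ zero_mem _)
  obtain ⟨n, u, hu, hu', e⟩ := hA.fact x hx hx0
  rcases n with _ | n
  · rw [pow_zero, one_mul] at e
    rw [e]; exact hu'
  · exfalso
    apply hxW
    have h1 : (⟨algebraMap OK Ω ϖ, hA.le (hA.base ϖ)⟩ : W) ∈ maximalIdeal W :=
      (ValuationSubring.coe_mem_nonunits_iff (A := W)).1 hπ
    have h2 : (⟨algebraMap OK Ω ϖ ^ n * u, hA.le (mul_mem (pow_mem (hA.base ϖ) n) hu)⟩ : W) *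
        ⟨algebraMap OK Ω ϖ, hA.le (hA.base ϖ)⟩ ∈ maximalIdeal W :=
      Ideal.mul_mem_left _ _ h1
    have h3 := (ValuationSubring.coe_mem_nonunits_iff (A := W)).2 h2
    rw [e]
    convert h3 using 1
    simp only [MulMemClass.coe_mul]
    ring

theorem hasFactorization (hA : Good K W ι ϖ A) (hϖ : Irreducible ϖ)
    (hπ : algebraMap OK Ω ϖ ∈ W.nonunits) :
    Irreducible (⟨algebraMap OK Ω ϖ, hA.base ϖ⟩ : A) ∧
    ∀ {x : A}, x ≠ 0 → ∃ n : ℕ, Associated ((⟨algebraMap OK Ω ϖ, hA.base ϖ⟩ : A) ^ n) x := by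
  have hπ0 := pi_ne_zero hA hϖ
  constructor
  · rw [irreducible_iff]
    constructor
    · intro h
      obtain ⟨⟨y, hy⟩, e⟩ := isUnit_iff_exists_inv.1 h
      have e' : algebraMap OK Ω ϖ * y = 1 := congrArg Subtype.val e
      rcases (ValuationSubring.mem_nonunits_iff_or (A := W)).1 hπ with h | h
      · exact hπ0 h
      · apply h
        rw [← eq_inv_of_mul_eq_one_right e']
        exact hA.le hy
    · rintro ⟨x, hx⟩ ⟨y, hy⟩ e
      have e' : algebraMap OK Ω ϖ = x * y := congrArg Subtype.val e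
      by_cases hxW : x ∈ W.nonunits
      · right
        obtain ⟨x', hx', rfl⟩ := exists_eq_pi_mul hA hx hxW
        have h1 : x' * y = 1 := by
          have : algebraMap OK Ω ϖ * (x' * y) = algebraMap OK Ω ϖ * 1 := by
            rw [mul_one, ← mul_assoc, ← e']
          exact mul_left_cancel₀ hπ0 this
        exact isUnit_iff_exists_inv'.2 ⟨⟨x', hx'⟩, Subtype.ext h1⟩
      · left
        have := inv_mem_of_notMem_nonunits hA hπ hx hxW
        have hx0 : x ≠ 0 := fun h => hxW (h ▸ zero_mem _)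
        exact isUnit_iff_exists_inv.2 ⟨⟨x⁻¹, this⟩, Subtype.ext (mul_inv_cancel₀ hx0)⟩
  · rintro ⟨x, hx⟩ hx0
    have hx0' : x ≠ 0 := fun h => hx0 (Subtype.ext h)
    obtain ⟨n, u, hu, hu', e⟩ := hA.fact x hx hx0'
    have hu0 : u ≠ 0 := by
      rintro rfl
      rw [mul_zero] at e
      exact hx0' e
    refine ⟨n, ⟨⟨⟨u, hu⟩, ⟨u⁻¹, hu'⟩, Subtype.ext (mul_inv_cancel₀ hu0),
      Subtype.ext (inv_mul_cancel₀ hu0)⟩, Subtype.ext ?_⟩⟩
    simp only [MulMemClass.coe_mul, SubmonoidClass.coe_pow]
    exact e.symm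

theorem isDVR (hA : Good K W ι ϖ A) (hϖ : Irreducible ϖ)
    (hπ : algebraMap OK Ω ϖ ∈ W.nonunits) : IsDiscreteValuationRing A :=
  IsDiscreteValuationRing.ofHasUnitMulPowIrreducibleFactorization
    ⟨_, (hasFactorization hA hϖ hπ).1, (hasFactorization hA hϖ hπ).2⟩

end Core2

end Groth.Agent.Lib.Helper14DvrExt

namespace Groth.Agent.Lib.Helper14DvrExt

open Polynomial IsLocalRing

/-- In a DVR, a nonzero polynomial is a power of the uniformizer times a polynomial with nonzero
reduction. -/
theorem exists_C_pow_mul {R : Type*} [CommRing R] [IsDomain R] [IsDiscreteValuationRing R] {p : R}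
    (hp : Irreducible p) (h : R[X]) (h0 : h ≠ 0) :
    ∃ n : ℕ, ∃ h₁ : R[X], h = C (p ^ n) * h₁ ∧ h₁.map (residue R) ≠ 0 := by
  classical
  letI := UniqueFactorizationMonoid.strongNormalizationMonoid (α := R)
  letI := UniqueFactorizationMonoid.toNormalizedGCDMonoid R
  have hc0 : h.content ≠ 0 := fun e => h0 (Polynomial.content_eq_zero_iff.1 e)
  obtain ⟨n, u, hu⟩ := IsDiscreteValuationRing.eq_unit_mul_pow_irreducible hc0 hp
  refine ⟨n, C (u : R) * h.primPart, ?_, ?_⟩
  · conv_lhs => rw [h.eq_C_content_mul_primPart, hu]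
    rw [← mul_assoc, ← C_mul, mul_comm (p ^ n)]
  · intro e
    rw [Polynomial.map_mul, Polynomial.map_C] at e
    have hu' : C (residue R (u : R)) ≠ 0 := by
      rw [Ne, C_eq_zero]
      exact (u.isUnit.map (residue R)).ne_zero
    have e' : h.primPart.map (residue R) = 0 := (mul_eq_zero.1 e).resolve_left hu'
    have hdvd : C p ∣ h.primPart := by
      rw [Polynomial.C_dvd_iff_dvd_coeff]
      intro i
      have : residue R (h.primPart.coeff i) = 0 := by
        rw [← Polynomial.coeff_map, e', coeff_zero]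
      rw [residue_eq_zero_iff, hp.maximalIdeal_eq, Ideal.mem_span_singleton] at this
      exact this
    exact hp.not_isUnit (h.isPrimitive_primPart p hdvd)

/-- A polynomial of small degree with nonzero reduction takes a unit value at a lift of a root of
an irreducible polynomial over the residue field. -/
theorem residue_eval₂_ne_zero {R S : Type*} [CommRing R] [IsLocalRing R] [CommRing S]
    [IsLocalRing S] (j : R →+* S) [IsLocalHom j] (g : (ResidueField R)[X]) (hg : Irreducible g)
    (θ : S) (hθ : eval₂ (ResidueField.map j) (residue S θ) g = 0) (h₁ : R[X])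
    (hdeg : h₁.natDegree < g.natDegree) (h₁0 : h₁.map (residue R) ≠ 0) :
    residue S (eval₂ j θ h₁) ≠ 0 := by
  intro e
  rw [Polynomial.hom_eval₂] at e
  have e2 : (residue S).comp j = (ResidueField.map j).comp (residue R) := by
    ext x; simp [ResidueField.map_residue]
  rw [e2, ← Polynomial.eval₂_map] at e
  letI : Algebra (ResidueField R) (ResidueField S) := (ResidueField.map j).toAlgebra
  have hg0 : g ≠ 0 := hg.ne_zero
  have hgm : (g * C g.leadingCoeff⁻¹).Monic := Polynomial.monic_mul_leadingCoeff_inv hg0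
  have hgi : Irreducible (g * C g.leadingCoeff⁻¹) := by
    have hu : IsUnit (C g.leadingCoeff⁻¹) :=
      Polynomial.isUnit_C.2 (isUnit_iff_ne_zero.2 (inv_ne_zero (leadingCoeff_ne_zero.2 hg0)))
    exact (irreducible_mul_isUnit hu).2 hg  
  have h1 : aeval (residue S θ) (g * C g.leadingCoeff⁻¹) = 0 := by
    rw [map_mul, Polynomial.aeval_def]
    erw [hθ]
    rw [zero_mul]
  have h2 := minpoly.eq_of_irreducible_of_monic hgi h1 hgm
  have h3 : minpoly (ResidueField R) (residue S θ) ∣ h₁.map (residue R) :=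
    minpoly.dvd _ _ (by rw [Polynomial.aeval_def]; exact e)
  rw [← h2] at h3
  have h4 := Polynomial.natDegree_le_of_dvd h3 h₁0
  rw [Polynomial.natDegree_mul_C (inv_ne_zero (leadingCoeff_ne_zero.2 hg0))] at h4
  have h5 := Polynomial.natDegree_map_le (f := residue R) (p := h₁)
  omega

/-- Units of an integral extension of a local ring generated by a root of a polynomial with
irreducible reduction. -/
theorem isUnit_aeval_of_map_ne_zero {R B : Type*} [CommRing R] [IsLocalRing R] [CommRing B]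
    [Algebra R B] [Algebra.IsIntegral R B] (θ : B) (f : R[X])
    (hf : Irreducible (f.map (residue R))) (hfθ : aeval θ f = 0) (h₁ : R[X])
    (hdeg : h₁.natDegree < (f.map (residue R)).natDegree) (h₁0 : h₁.map (residue R) ≠ 0) :
    IsUnit (aeval θ h₁) := by
  by_contra hnu
  obtain ⟨M, hM, hyM⟩ := exists_max_ideal_of_mem_nonunits hnu
  have hcomap : M.comap (algebraMap R B) = maximalIdeal R :=
    eq_maximalIdeal (Ideal.isMaximal_comap_of_isIntegral_of_isMaximal M)
  have hndvd : ¬ f.map (residue R) ∣ h₁.map (residue R) := by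
    intro hd
    have h4 := Polynomial.natDegree_le_of_dvd hd h₁0
    have h5 := Polynomial.natDegree_map_le (f := residue R) (p := h₁)
    omega
  obtain ⟨a, b, hab⟩ := (hf.coprime_iff_not_dvd).2 hndvd
  obtain ⟨a', rfl⟩ := Polynomial.map_surjective _ residue_surjective a
  obtain ⟨b', rfl⟩ := Polynomial.map_surjective _ residue_surjective b
  set q : R[X] := a' * f + b' * h₁ - 1 with hq
  have hq0 : q.map (residue R) = 0 := by
    rw [hq, Polynomial.map_sub, Polynomial.map_add, Polynomial.map_mul, Polynomial.map_mul,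
      Polynomial.map_one, hab, sub_self]
  have hqM : aeval θ q ∈ M := by
    rw [Polynomial.aeval_eq_sum_range]
    refine Ideal.sum_mem _ fun i _ => ?_
    rw [Algebra.smul_def]
    refine Ideal.mul_mem_right _ _ ?_
    have : q.coeff i ∈ maximalIdeal R := by
      rw [← residue_eq_zero_iff, ← Polynomial.coeff_map, hq0, coeff_zero]
    rw [← hcomap] at this
    exact this
  have h1 : aeval θ q = aeval θ b' * aeval θ h₁ - 1 := by
    rw [hq, map_sub, map_add, map_mul, map_mul, hfθ, mul_zero, zero_add, map_one]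
  rw [h1] at hqM
  have h2 : (1 : B) ∈ M := by
    have := M.sub_mem (M.mul_mem_left (aeval θ b') hyM) hqM
    simpa using this
  exact hM.ne_top ((Ideal.eq_top_iff_one _).2 h2)

end Groth.Agent.Lib.Helper14DvrExt

namespace Groth.Agent.Lib.Helper14DvrExt

open Polynomial IsLocalRing

theorem mem_of_isRoot_monic {Ω : Type u} [Field Ω] (W : ValuationSubring Ω) (P : W[X])
    (hP : P.Monic) (x : Ω) (hx : eval x (P.map (algebraMap W Ω)) = 0) : x ∈ W := by
  have hxint : IsIntegral W x := ⟨P, hP, by rwa [eval_map] at hx⟩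
  obtain ⟨y, rfl⟩ := IsIntegrallyClosed.isIntegral_iff.1 hxint
  exact y.2

/-- Lifting a root of the reduction of a monic polynomial over a valuation ring of an algebraically
closed field. -/
theorem exists_root_residue_eq {Ω : Type u} [Field Ω] [IsAlgClosed Ω] (W : ValuationSubring Ω)
    (P : W[X]) (hP : P.Monic) (b : ResidueField W) (hb : eval b (P.map (residue W)) = 0) :
    ∃ y : W, eval y P = 0 ∧ residue W y = b := by
  classical
  set PΩ := P.map (algebraMap W Ω) with hPΩ
  have hsplit : PΩ.Splits := IsAlgClosed.splits PΩ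
  have hmon : PΩ.Monic := hP.map _
  have hmem : ∀ x ∈ PΩ.roots, x ∈ W := fun x hx =>
    mem_of_isRoot_monic W P hP x ((Polynomial.mem_roots hmon.ne_zero).1 hx)
  set s' : Multiset W := PΩ.roots.pmap (fun x hx => (⟨x, hx⟩ : W)) hmem with hs'
  have hs : s'.map (algebraMap W Ω) = PΩ.roots := by
    rw [hs', Multiset.map_pmap]
    show Multiset.pmap (fun x _ => x) PΩ.roots hmem = PΩ.roots
    rw [Multiset.pmap_eq_map, Multiset.map_id']
  have hPeq : P = (s'.map (X - C ·)).prod := by
    apply Polynomial.map_injective _ (FaithfulSMul.algebraMap_injective W Ω)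
    rw [Polynomial.map_multiset_prod, Multiset.map_map]
    have : (s'.map ((Polynomial.map (algebraMap W Ω)) ∘ fun x => X - C x)) =
        (s'.map (algebraMap W Ω)).map (X - C ·) := by
      rw [Multiset.map_map]
      refine Multiset.map_congr rfl fun x _ => ?_
      simp
    rw [this, hs]
    exact hsplit.eq_prod_roots_of_monic hmon
  have hred : P.map (residue W) = ((s'.map (residue W)).map (X - C ·)).prod := by
    conv_lhs => rw [hPeq]
    rw [Polynomial.map_multiset_prod, Multiset.map_map, Multiset.map_map]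
    refine congrArg _ (Multiset.map_congr rfl fun x _ => ?_)
    simp
  rw [hred, Polynomial.eval_multiset_prod, Multiset.map_map, Multiset.prod_eq_zero_iff] at hb
  obtain ⟨z, hz, hzb⟩ := Multiset.mem_map.1 hb
  obtain ⟨y, hy, rfl⟩ := Multiset.mem_map.1 hz
  simp only [Function.comp_apply, eval_sub, eval_X, eval_C] at hzb
  refine ⟨y, ?_, (sub_eq_zero.1 hzb).symm⟩
  rw [hPeq, Polynomial.eval_multiset_prod, Multiset.prod_eq_zero_iff]
  refine Multiset.mem_map.2 ⟨X - C y, Multiset.mem_map.2 ⟨y, hy, rfl⟩, by simp⟩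

end Groth.Agent.Lib.Helper14DvrExt

namespace Groth.Agent.Lib.Helper14DvrExt

open Polynomial IsLocalRing

/-- Residue field of a valuation subring of an algebraically closed field is algebraically closed. -/
theorem isAlgClosed_residueField {Ω : Type u} [Field Ω] [IsAlgClosed Ω] (W : ValuationSubring Ω) :
    IsAlgClosed (ResidueField W) := by
  apply IsAlgClosed.of_exists_root
  intro p hp hirr
  obtain ⟨q, hq, hdeg, hqm⟩ := Polynomial.lifts_and_natDegree_eq_and_monic (p := p)
    (f := residue W)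
    ((Polynomial.mem_lifts _).2 (Polynomial.map_surjective _ residue_surjective p)) hp
  have hq0 : (q.map (algebraMap W Ω)).degree ≠ 0 := by
    rw [Polynomial.degree_map_eq_of_injective (FaithfulSMul.algebraMap_injective W Ω)]
    have h1 : 0 < p.natDegree := Polynomial.natDegree_pos_iff_degree_pos.2
      (Polynomial.degree_pos_of_irreducible hirr)
    rw [Polynomial.degree_eq_natDegree hqm.ne_zero, hdeg]
    exact_mod_cast h1.ne'
  obtain ⟨x, hx⟩ := IsAlgClosed.exists_root (q.map (algebraMap W Ω)) hq0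
  have hxint : IsIntegral W x := ⟨q, hqm, by rwa [IsRoot.def, eval_map] at hx⟩
  obtain ⟨y, rfl⟩ := IsIntegrallyClosed.isIntegral_iff.1 hxint
  refine ⟨residue W y, ?_⟩
  rw [← hq, eval_map, Polynomial.eval₂_hom]
  rw [IsRoot.def, eval_map, ← Polynomial.aeval_def, Polynomial.aeval_algebraMap_apply] at hx
  have : Polynomial.aeval y q = 0 := FaithfulSMul.algebraMap_injective W Ω (by simpa using hx)
  rw [Polynomial.aeval_def] at this
  simp only [Algebra.algebraMap_self, eval₂_id] at this
  rw [this, map_zero]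

end Groth.Agent.Lib.Helper14DvrExt

namespace Groth.Agent.Lib.Helper14DvrExt

open Polynomial IsLocalRing

section Step

variable {OK : Type u} [CommRing OK] [IsDomain OK] [IsDiscreteValuationRing OK]
  {k' : Type u} [Field k'] [Algebra (ResidueField OK) k']
  [Algebra.IsAlgebraic (ResidueField OK) k']
  {Ω : Type u} [Field Ω] [IsAlgClosed Ω] [Algebra OK Ω]
  {K : Type u} [Field K] [Algebra OK K] [IsFractionRing OK K] [Algebra K Ω] [IsScalarTower OK K Ω]
  {W : ValuationSubring Ω} {ι : k' →+* ResidueField W} {ϖ : OK} {A : Subring Ω}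

theorem exists_lift_poly {R : Type*} [CommRing R] [IsDomain R] [IsDiscreteValuationRing R]
    {p : R} (hp : Irreducible p) (g : (ResidueField R)[X]) (hgm : g.Monic)
    (hd2 : 2 ≤ g.natDegree) :
    ∃ f : R[X], f.Monic ∧ f.natDegree = g.natDegree ∧ f.map (residue R) = g ∧
      derivative f ≠ 0 := by
  obtain ⟨f₀, hf₀map, hf₀deg, hf₀m⟩ := Polynomial.lifts_and_natDegree_eq_and_monic (p := g)
    (f := residue R)
    ((Polynomial.mem_lifts _).2 (Polynomial.map_surjective _ residue_surjective g)) hgm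
  by_cases hder : derivative f₀ = 0
  · have hdeg1 : (C p * X : R[X]).natDegree ≤ 1 := by
      refine (Polynomial.natDegree_C_mul_le _ _).trans ?_
      simp
    have hlt : (C p * X : R[X]).natDegree < f₀.natDegree := by omega
    refine ⟨f₀ + C p * X, hf₀m.add_of_left (Polynomial.degree_lt_degree hlt), ?_, ?_, ?_⟩
    · rw [Polynomial.natDegree_add_eq_left_of_natDegree_lt hlt, hf₀deg]
    · have hp0 : residue R p = 0 := by
        rw [residue_eq_zero_iff]
        exact (mem_maximalIdeal _).2 hp.not_isUnit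
      rw [Polynomial.map_add, hf₀map, Polynomial.map_mul, Polynomial.map_C, hp0, C_0, zero_mul,
        add_zero]
    · rw [derivative_add, hder, zero_add]
      simp only [derivative_mul, derivative_C, zero_mul, derivative_X, mul_one, zero_add]
      rw [Ne, C_eq_zero]
      exact hp.ne_zero
  · exact ⟨f₀, hf₀m, hf₀deg, hf₀map, hder⟩

/-- the ring hom `A → W`. -/
noncomputable def jHom (hA : Good K W ι ϖ A) : A →+* W :=
  (A.subtype).codRestrict W (fun x => hA.le x.2)

@[simp] theorem coe_jHom (hA : Good K W ι ϖ A) (x : A) : ((jHom hA x : W) : Ω) = x := rfl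

theorem isLocalHom_jHom (hA : Good K W ι ϖ A) (hπ : algebraMap OK Ω ϖ ∈ W.nonunits) :
    IsLocalHom (jHom hA) := by
  refine ⟨fun x hx => ?_⟩
  have hxW : (x : Ω) ∉ W.nonunits := by
    intro h
    have := (ValuationSubring.coe_mem_nonunits_iff (A := W) (a := jHom hA x)).1 h
    exact (mem_maximalIdeal _).1 this hx
  have hinv := inv_mem_of_notMem_nonunits hA hπ x.2 hxW
  have hx0 : (x : Ω) ≠ 0 := fun h => hxW (h ▸ zero_mem _)
  exact isUnit_iff_exists_inv.2 ⟨⟨_, hinv⟩, Subtype.ext (mul_inv_cancel₀ hx0)⟩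

theorem coe_eval₂_jHom (hA : Good K W ι ϖ A) (y : W) (h : A[X]) :
    ((eval₂ (jHom hA) y h : W) : Ω) = aeval (y : Ω) h := by
  have : (W.subtype : W →+* Ω) (eval₂ (jHom hA) y h) = aeval (y : Ω) h := by
    rw [Polynomial.hom_eval₂, Polynomial.aeval_def]
    rfl
  exact this

set_option maxHeartbeats 1600000 in
theorem exists_lt_aux (hA : Good K W ι ϖ A) (hϖ : Irreducible ϖ)
    (hπ : algebraMap OK Ω ϖ ∈ W.nonunits)
    (a : k') (ha : ∀ x : W, (x : Ω) ∈ A → residue W x ≠ ι a)
    [IsDiscreteValuationRing A] [IsLocalHom (jHom hA)]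
    (g : (ResidueField A)[X]) (hgirr : Irreducible g) (hgm : g.Monic)
    (hgroot : eval₂ (ResidueField.map (jHom hA)) (ι a) g = 0) (hd2 : 2 ≤ g.natDegree) :
    ∃ (θ : Ω) (f : A[X]), f.Monic ∧ f.natDegree = g.natDegree ∧ aeval θ f = 0 ∧
      (∀ h : A[X], h.natDegree < f.natDegree → aeval θ h = 0 → h = 0) ∧
      Good K W ι ϖ (Algebra.adjoin A {θ}).toSubring ∧
      A < (Algebra.adjoin A {θ}).toSubring := by
  obtain ⟨hπirr, -⟩ := hasFactorization hA hϖ hπ
  set πA : A := ⟨algebraMap OK Ω ϖ, hA.base ϖ⟩ with hπA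
  have hπ0 : algebraMap OK Ω ϖ ≠ 0 := pi_ne_zero hA hϖ
  set j : A →+* W := jHom hA with hj
  set ψ := ResidueField.map j with hψ
  have hψres : ∀ x : A, ψ (residue A x) = residue W (j x) := fun x =>
    ResidueField.map_residue j x
  have hcomp2 : (residue W).comp j = ψ.comp (residue A) := by
    ext x; simp [hψres]
  obtain ⟨f, hfm, hfdeg, hfmap, hfder⟩ := exists_lift_poly hπirr g hgm hd2
  -- the root
  set P : W[X] := f.map j with hP
  have hPm : P.Monic := hfm.map _
  have hPred : P.map (residue W) = g.map ψ := by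
    rw [hP, Polynomial.map_map, hcomp2, ← Polynomial.map_map, hfmap]
  obtain ⟨y, hyP, hyb⟩ := exists_root_residue_eq W P hPm (ι a) (by
    rw [hPred, Polynomial.eval_map]; exact hgroot)
  set θ : Ω := (y : Ω) with hθ
  have hfθ : aeval θ f = 0 := by
    rw [← coe_eval₂_jHom hA y f, ← Polynomial.eval_map, hyP]
    rfl
  -- general facts about roots of f in Ω
  have hroot : ∀ x : Ω, aeval x f = 0 → ∃ yx : W, (yx : Ω) = x ∧
      eval₂ ψ (residue W yx) g = 0 := by
    intro x hx
    have hxW : x ∈ W := by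
      refine mem_of_isRoot_monic W P hPm x ?_
      rw [hP, Polynomial.map_map, Polynomial.eval_map, ← hx, Polynomial.aeval_def]
      rfl
    refine ⟨⟨x, hxW⟩, rfl, ?_⟩
    rw [← hfmap, Polynomial.eval₂_map, ← hcomp2, ← Polynomial.hom_eval₂]
    have : eval₂ j ⟨x, hxW⟩ f = 0 := by
      apply Subtype.ext
      rw [coe_eval₂_jHom hA ⟨x, hxW⟩ f]
      exact hx
    rw [this, map_zero]
  -- key lemma
  have hkey : ∀ (yx : W), eval₂ ψ (residue W yx) g = 0 → ∀ h : A[X], h ≠ 0 →
      h.natDegree < g.natDegree → ∃ n : ℕ, ∃ h₁ : A[X], h = C (πA ^ n) * h₁ ∧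
        h₁.natDegree < g.natDegree ∧ h₁.map (residue A) ≠ 0 ∧
        residue W (eval₂ j yx h₁) ≠ 0 := by
    intro yx hyx h h0 hdeg
    obtain ⟨n, h₁, e, h₁0⟩ := exists_C_pow_mul hπirr h h0
    have hdeg1 : h₁.natDegree < g.natDegree := by
      rw [e, Polynomial.natDegree_C_mul (pow_ne_zero n hπirr.ne_zero)] at hdeg
      exact hdeg
    exact ⟨n, h₁, e, hdeg1, h₁0, residue_eval₂_ne_zero j g hgirr yx hyx h₁ hdeg1 h₁0⟩
  -- the new ring
  set B : Subalgebra A Ω := Algebra.adjoin A {θ} with hB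
  have hθB : θ ∈ B := Algebra.subset_adjoin rfl
  have hθint : IsIntegral A θ := ⟨f, hfm, by rwa [Polynomial.aeval_def] at hfθ⟩
  haveI : Algebra.IsIntegral A B := Algebra.IsIntegral.adjoin (fun x hx => by
    rw [Set.mem_singleton_iff.1 hx]; exact hθint)
  have hf1 : f ≠ 1 := by
    intro h
    rw [h, natDegree_one] at hfdeg
    omega
  have hrep : ∀ x ∈ B, ∃ h : A[X], h.natDegree < g.natDegree ∧ x = aeval θ h := by
    intro x hx
    rw [hB, Algebra.adjoin_singleton_eq_range_aeval] at hx
    obtain ⟨h₀, rfl⟩ := hx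
    refine ⟨h₀ %ₘ f, ?_, ?_⟩
    · rw [← hfdeg]
      exact Polynomial.natDegree_modByMonic_lt _ hfm hf1
    · show aeval θ h₀ = _
      conv_lhs => rw [← Polynomial.modByMonic_add_div h₀ f]
      rw [map_add, map_mul, hfθ, zero_mul, add_zero]
  refine ⟨θ, f, hfm, hfdeg, hfθ, ?_, ⟨?_, ?_, ?_, ?_, ?_⟩, ?_⟩
  · -- independence
    intro h hdeg hh
    by_contra h0
    obtain ⟨n, h₁, e, hdeg1, h₁0, hres⟩ := hkey y (by rw [hyb]; exact hgroot) h h0
      (by rw [← hfdeg]; exact hdeg)
    rw [e, map_mul, Polynomial.aeval_C, map_pow] at hh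
    have h2 : aeval θ h₁ = 0 := by
      rcases mul_eq_zero.1 hh with h3 | h3
      · exact absurd h3 (pow_ne_zero n hπ0)
      · exact h3
    apply hres
    have : eval₂ j y h₁ = 0 := Subtype.ext (by rw [coe_eval₂_jHom hA y h₁]; exact h2)
    rw [this, map_zero]
  · -- base
    intro b
    exact B.algebraMap_mem ⟨_, hA.base b⟩
  · -- le
    intro x hx
    obtain ⟨h, -, rfl⟩ := hrep x hx
    rw [← coe_eval₂_jHom hA y h]
    exact (eval₂ j y h).2
  · -- fact
    intro x hx hx0
    obtain ⟨h, hdeg, rfl⟩ := hrep x hx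
    have h0 : h ≠ 0 := by
      rintro rfl
      exact hx0 (map_zero _)
    obtain ⟨n, h₁, e, hdeg1, h₁0, hres⟩ := hkey y (by rw [hyb]; exact hgroot) h h0 hdeg
    have hunit : IsUnit (aeval (⟨θ, hθB⟩ : B) h₁) := by
      refine isUnit_aeval_of_map_ne_zero (⟨θ, hθB⟩ : B) f (by rw [hfmap]; exact hgirr) ?_ h₁
        (by rw [hfmap]; exact hdeg1) h₁0
      apply Subtype.ext
      rw [Polynomial.aeval_subalgebra_coe]
      exact hfθ
    obtain ⟨v, hv⟩ := isUnit_iff_exists_inv.1 hunit
    have hv' : aeval θ h₁ * (v : Ω) = 1 := by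
      have := congrArg Subtype.val hv
      rwa [MulMemClass.coe_mul, Polynomial.aeval_subalgebra_coe] at this
    refine ⟨n, aeval θ h₁, ?_, ?_, ?_⟩
    · rw [← Polynomial.aeval_subalgebra_coe h₁ B ⟨θ, hθB⟩]
      exact (aeval (⟨θ, hθB⟩ : B) h₁).2
    · rw [← eq_inv_of_mul_eq_one_right hv']
      exact v.2
    · rw [e, map_mul, Polynomial.aeval_C, map_pow]
      rfl
  · -- sep
    intro x hx
    have hsepf : (f.map (algebraMap A Ω)).Separable := by
      rw [Polynomial.separable_def, Polynomial.isCoprime_iff_aeval_ne_zero_of_isAlgClosed Ω Ω]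
      intro x
      by_cases hx : aeval x (f.map (algebraMap A Ω)) = 0
      · right
        have hx' : aeval x f = 0 := by rwa [Polynomial.aeval_map_algebraMap] at hx
        obtain ⟨yx, rfl, hyx⟩ := hroot x hx'
        have hddeg : (derivative f).natDegree < g.natDegree := by
          rw [← hfdeg]; exact Polynomial.natDegree_derivative_lt (by omega)
        obtain ⟨n, h₁, e, hdeg1, h₁0, hres⟩ := hkey yx hyx _ hfder hddeg
        rw [Polynomial.derivative_map, Polynomial.aeval_map_algebraMap, e, map_mul, aeval_C,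
          map_pow]
        refine mul_ne_zero (pow_ne_zero _ hπ0) ?_
        rw [← coe_eval₂_jHom hA yx h₁]
        intro h0
        apply hres
        have : eval₂ j yx h₁ = 0 := Subtype.ext h0
        rw [this, map_zero]
      · left; exact hx
    set Ks := separableClosure K Ω with hKs
    have hAKs : ∀ z ∈ A, z ∈ Ks := fun z hz => mem_separableClosure_iff.2 (hA.sep z hz)
    let iK : A →+* Ks := (A.subtype).codRestrict Ks (fun z => hAKs z z.2)
    have hi : (algebraMap Ks Ω).comp iK = algebraMap A Ω := rfl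
    have hsepKs : (f.map iK).Separable := by
      rw [← Polynomial.separable_map (algebraMap Ks Ω), Polynomial.map_map, hi]; exact hsepf
    have hθKs : IsSeparable Ks θ := by
      refine hsepKs.of_dvd (minpoly.dvd _ _ ?_)
      rw [Polynomial.aeval_def, Polynomial.eval₂_map, hi]
      rwa [Polynomial.aeval_def] at hfθ
    have hθK : IsSeparable K θ := IsSeparable.of_algebra_isSeparable_of_isSeparable K hθKs
    have hθmem : θ ∈ Ks := mem_separableClosure_iff.2 hθK
    obtain ⟨h, -, rfl⟩ := hrep x hx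
    rw [← mem_separableClosure_iff, Polynomial.aeval_eq_sum_range]
    refine sum_mem fun i _ => ?_
    rw [Algebra.smul_def]
    exact mul_mem (hAKs _ (h.coeff i).2) (pow_mem hθmem i)
  · -- res
    intro x hx
    obtain ⟨h, -, e⟩ := hrep (x : Ω) hx
    have ex : x = eval₂ j y h := Subtype.ext (by rw [coe_eval₂_jHom hA y h]; exact e)
    rw [ex, Polynomial.hom_eval₂, Polynomial.eval₂_eq_sum_range]
    refine sum_mem fun i _ => ?_
    refine mul_mem ?_ (pow_mem ?_ i)
    · exact hA.res (j (h.coeff i)) (h.coeff i).2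
    · rw [hyb]; exact ⟨a, rfl⟩
  · -- lt
    refine SetLike.lt_iff_le_and_exists.2 ⟨fun x hx => B.algebraMap_mem ⟨x, hx⟩, θ, hθB, ?_⟩
    intro hθA
    exact ha y hθA hyb


set_option maxHeartbeats 1600000 in
theorem exists_lt (hA : Good K W ι ϖ A) (hϖ : Irreducible ϖ)
    (hπ : algebraMap OK Ω ϖ ∈ W.nonunits)
    (hW : ∀ a : OK, algebraMap OK Ω a ∈ W)
    (hι : ∀ a : OK, ι (algebraMap (ResidueField OK) k' (residue OK a)) =
      residue W ⟨algebraMap OK Ω a, hW a⟩)
    (a : k') (ha : ∀ x : W, (x : Ω) ∈ A → residue W x ≠ ι a) :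
    ∃ A' : Subring Ω, Good K W ι ϖ A' ∧ A < A' := by
  haveI : IsDiscreteValuationRing A := isDVR hA hϖ hπ
  obtain ⟨hπirr, -⟩ := hasFactorization hA hϖ hπ
  set πA : A := ⟨algebraMap OK Ω ϖ, hA.base ϖ⟩ with hπA
  have hπ0 : algebraMap OK Ω ϖ ≠ 0 := pi_ne_zero hA hϖ
  set j : A →+* W := jHom hA with hj
  haveI : IsLocalHom j := isLocalHom_jHom hA hπ
  set ψ := ResidueField.map j with hψ
  have hψres : ∀ x : A, ψ (residue A x) = residue W (j x) := fun x =>
    ResidueField.map_residue j x
  have hcomp2 : (residue W).comp j = ψ.comp (residue A) := by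
    ext x; simp [hψres]
  -- local hom OK → A
  let φA : OK →+* A := (algebraMap OK Ω).codRestrict A hA.base
  haveI : IsLocalHom φA := by
    refine ⟨fun x hx => ?_⟩
    by_contra hnu
    have h1 : x ∈ maximalIdeal OK := (mem_maximalIdeal x).2 hnu
    rw [hϖ.maximalIdeal_eq, Ideal.mem_span_singleton'] at h1
    obtain ⟨b, rfl⟩ := h1
    have h2 : φA (b * ϖ) = φA b * πA := by
      rw [map_mul]; rfl
    rw [h2] at hx
    exact hπirr.not_isUnit (isUnit_of_mul_isUnit_right hx)
  have hcomp : ψ.comp (ResidueField.map φA) = ι.comp (algebraMap (ResidueField OK) k') := by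
    apply RingHom.ext
    intro x
    obtain ⟨x, rfl⟩ := residue_surjective x
    rw [RingHom.comp_apply, RingHom.comp_apply, ResidueField.map_residue, hψres, hι]
    rfl
  letI : Algebra (ResidueField A) (ResidueField W) := ψ.toAlgebra
  have hint : IsIntegral (ResidueField A) (ι a) := by
    obtain ⟨p, hpm, hp⟩ := Algebra.IsIntegral.isIntegral (R := ResidueField OK) a
    refine ⟨p.map (ResidueField.map φA), hpm.map _, ?_⟩
    rw [Polynomial.eval₂_map]
    show eval₂ (ψ.comp _) (ι a) p = 0
    rw [hcomp, ← Polynomial.hom_eval₂, hp, map_zero]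
  set g := minpoly (ResidueField A) (ι a) with hg
  have hgirr : Irreducible g := minpoly.irreducible hint
  have hgm : g.Monic := minpoly.monic hint
  have hgroot : eval₂ ψ (ι a) g = 0 := by
    have := minpoly.aeval (ResidueField A) (ι a)
    rwa [Polynomial.aeval_def] at this
  have hd2 : 2 ≤ g.natDegree := by
    by_contra hlt
    have h1 : g.natDegree = 1 := by
      have : 0 < g.natDegree := minpoly.natDegree_pos hint
      omega
    obtain ⟨z, hz⟩ := (minpoly.natDegree_eq_one_iff).1 h1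
    obtain ⟨z, rfl⟩ := residue_surjective z
    refine ha (j z) z.2 ?_
    rw [← hz, ← hψres]
    rfl
  obtain ⟨θ, f, -, -, -, -, hgood, hlt⟩ := exists_lt_aux hA hϖ hπ a ha g hgirr hgm hgroot hd2
  exact ⟨_, hgood, hlt⟩

end Step

end Groth.Agent.Lib.Helper14DvrExt

namespace Groth.Agent.Lib.Helper14DvrExt

open Polynomial IsLocalRing

theorem exists_setup (OK : Type u) [CommRing OK] [IsDomain OK] [IsDiscreteValuationRing OK]
    (k' : Type u) [Field k'] [Algebra (ResidueField OK) k']
    [Algebra.IsAlgebraic (ResidueField OK) k']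
    (Ω : Type u) [Field Ω] [Algebra OK Ω] [IsAlgClosed Ω] [FaithfulSMul OK Ω] :
    ∃ (W : ValuationSubring Ω) (hW : ∀ a : OK, algebraMap OK Ω a ∈ W)
      (ι : k' →+* ResidueField W),
      (∀ a : OK, a ∈ maximalIdeal OK → algebraMap OK Ω a ∈ W.nonunits) ∧
      ∀ a : OK, ι (algebraMap (ResidueField OK) k' (residue OK a)) =
        residue W ⟨algebraMap OK Ω a, hW a⟩ := by
  obtain ⟨ϖ, hϖ⟩ := IsDiscreteValuationRing.exists_irreducible OK
  have hinj := FaithfulSMul.algebraMap_injective OK Ω
  let A : Subring Ω := (algebraMap OK Ω).range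
  let π : A := ⟨algebraMap OK Ω ϖ, ⟨ϖ, rfl⟩⟩
  have hI : Ideal.span {π} ≠ ⊤ := by
    intro h
    rw [Ideal.span_singleton_eq_top] at h
    obtain ⟨⟨y, b, rfl⟩, hy⟩ := isUnit_iff_exists_inv.1 h
    have h1 : algebraMap OK Ω (ϖ * b) = algebraMap OK Ω 1 := by
      rw [map_mul, map_one]
      exact congrArg Subtype.val hy
    exact hϖ.not_isUnit (IsUnit.of_mul_eq_one _ (hinj h1))
  obtain ⟨W, hAW, hIW⟩ := Ideal.image_subset_nonunits_valuationSubring _ hI
  have hW : ∀ a : OK, algebraMap OK Ω a ∈ W := fun a => hAW ⟨a, rfl⟩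
  have hπ : algebraMap OK Ω ϖ ∈ W.nonunits := hIW ⟨π, Ideal.subset_span rfl, rfl⟩
  have hmax : ∀ a : OK, a ∈ maximalIdeal OK → algebraMap OK Ω a ∈ W.nonunits := by
    intro a ha
    rw [hϖ.maximalIdeal_eq, Ideal.mem_span_singleton'] at ha
    obtain ⟨b, rfl⟩ := ha
    have h1 : (⟨algebraMap OK Ω ϖ, hW ϖ⟩ : W) ∈ maximalIdeal W :=
      (ValuationSubring.coe_mem_nonunits_iff (A := W)).1 hπ
    have h2 : (⟨algebraMap OK Ω b, hW b⟩ : W) * ⟨algebraMap OK Ω ϖ, hW ϖ⟩ ∈ maximalIdeal W :=
      Ideal.mul_mem_left _ _ h1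
    have h3 := (ValuationSubring.coe_mem_nonunits_iff (A := W)).2 h2
    simpa [map_mul] using h3
  let f : OK →+* W := (algebraMap OK Ω).codRestrict W.toSubring hW
  haveI : IsLocalHom f := by
    refine ⟨fun a ha => ?_⟩
    by_contra hna
    have h1 : a ∈ maximalIdeal OK := (mem_maximalIdeal a).2 hna
    have h2 := (ValuationSubring.coe_mem_nonunits_iff (A := W) (a := f a)).1 (hmax a h1)
    exact (mem_maximalIdeal _).1 h2 ha
  letI : Algebra (ResidueField OK) (ResidueField W) := (ResidueField.map f).toAlgebra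
  haveI : IsAlgClosed (ResidueField W) := isAlgClosed_residueField W
  let ι : k' →ₐ[ResidueField OK] ResidueField W := IsAlgClosed.lift
  refine ⟨W, hW, ι.toRingHom, hmax, fun a => ?_⟩
  have := ι.commutes (residue OK a)
  simp only [AlgHom.toRingHom_eq_coe, RingHom.coe_coe]
  rw [this]
  rfl


end Groth.Agent.Lib.Helper14DvrExt

namespace Groth.Agent.Lib.Helper14DvrExt

open Polynomial IsLocalRing

set_option maxHeartbeats 1600000 in
theorem main (OK : Type u) [CommRing OK] [IsDomain OK] [IsDiscreteValuationRing OK]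
    (k' : Type u) [Field k'] [Algebra (ResidueField OK) k']
    [Algebra.IsAlgebraic (ResidueField OK) k'] :
    ∃ (OL : Type u) (_ : CommRing OL) (_ : IsDomain OL) (_ : IsDiscreteValuationRing OL)
      (φ : OK →+* OL),
      Function.Injective φ ∧ IsLocalHom φ ∧
      Ideal.map φ (maximalIdeal OK) = maximalIdeal OL ∧
      (∃ e : ResidueField OL ≃+* k',
        ∀ a : OK, e (residue OL (φ a)) =
          algebraMap (ResidueField OK) k' (residue OK a)) ∧
      ∀ x : OL, ∃ p : Polynomial OK,
        (p.map (algebraMap OK (FractionRing OK))).Separable ∧ Polynomial.eval₂ φ x p = 0 := by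
  obtain ⟨ϖ, hϖ⟩ := IsDiscreteValuationRing.exists_irreducible OK
  have hinjΩ : Function.Injective (algebraMap OK (AlgebraicClosure (FractionRing OK))) :=
    algebraMap_injective' (K := FractionRing OK)
  haveI : FaithfulSMul OK (AlgebraicClosure (FractionRing OK)) :=
    (faithfulSMul_iff_algebraMap_injective _ _).2 hinjΩ
  obtain ⟨W, hW, ι, hmax, hι⟩ := exists_setup OK k' (AlgebraicClosure (FractionRing OK))
  have hπ : algebraMap OK (AlgebraicClosure (FractionRing OK)) ϖ ∈ W.nonunits :=
    hmax ϖ ((mem_maximalIdeal _).2 hϖ.not_isUnit)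
  obtain ⟨A, hAmax⟩ := exists_maximal (K := FractionRing OK) hϖ hW hι
  have hA : Good (FractionRing OK) W ι ϖ A := hAmax.prop
  haveI : IsDiscreteValuationRing A := isDVR hA hϖ hπ
  obtain ⟨hπirr, -⟩ := hasFactorization hA hϖ hπ
  set j : A →+* W := jHom hA with hj
  haveI : IsLocalHom j := isLocalHom_jHom hA hπ
  let φ : OK →+* A := (algebraMap OK (AlgebraicClosure (FractionRing OK))).codRestrict A hA.base
  have hφloc : IsLocalHom φ := by
    refine ⟨fun x hx => ?_⟩
    by_contra hnu
    have h1 : x ∈ maximalIdeal OK := (mem_maximalIdeal x).2 hnu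
    rw [hϖ.maximalIdeal_eq, Ideal.mem_span_singleton'] at h1
    obtain ⟨b, rfl⟩ := h1
    have h2 : φ (b * ϖ) = φ b * ⟨algebraMap OK _ ϖ, hA.base ϖ⟩ := by
      rw [map_mul]; rfl
    rw [h2] at hx
    exact hπirr.not_isUnit (isUnit_of_mul_isUnit_right hx)
  -- the residue map to k'
  let r : A →+* ResidueField W := (residue W).comp j
  have hr : ∀ x : A, r x ∈ ι.range := fun x => hA.res (j x) x.2
  let e₀ : k' ≃+* ι.range := RingEquiv.ofBijective ι.rangeRestrict
    ⟨fun x y hxy => ι.injective (congrArg Subtype.val hxy), ι.rangeRestrict_surjective⟩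
  let χ : A →+* k' := e₀.symm.toRingHom.comp (r.codRestrict ι.range hr)
  have hχ : ∀ x : A, ι (χ x) = r x := by
    intro x
    have h1 : e₀ (χ x) = ⟨r x, hr x⟩ := e₀.apply_symm_apply _
    exact congrArg Subtype.val h1
  have hχsurj : Function.Surjective χ := by
    intro a
    by_contra hne
    have ha : ∀ x : W, (x : AlgebraicClosure (FractionRing OK)) ∈ A → residue W x ≠ ι a := by
      intro x hx hxa
      apply hne
      refine ⟨⟨x, hx⟩, ι.injective ?_⟩
      rw [hχ, ← hxa]
      rfl
    obtain ⟨A', hA', hlt⟩ := exists_lt hA hϖ hπ hW hι a ha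
    exact (hAmax.not_prop_of_gt hlt) hA'
  have hker : RingHom.ker χ = maximalIdeal A := by
    ext x
    rw [RingHom.mem_ker, mem_maximalIdeal, mem_nonunits_iff, ← isUnit_map_iff j x,
      ← mem_nonunits_iff, ← mem_maximalIdeal, ← residue_eq_zero_iff]
    constructor
    · intro h
      have := hχ x
      rw [h, map_zero] at this
      exact this.symm
    · intro h
      apply ι.injective
      rw [hχ, map_zero]
      exact h
  let e : ResidueField A ≃+* k' :=
    (Ideal.quotEquivOfEq hker.symm).trans (RingHom.quotientKerEquivOfSurjective hχsurj)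
  refine ⟨A, inferInstance, inferInstance, inferInstance, φ, ?_, hφloc, ?_, ⟨e, ?_⟩, ?_⟩
  · intro x y hxy
    exact hinjΩ (congrArg Subtype.val hxy)
  · rw [hϖ.maximalIdeal_eq, Ideal.map_span, Set.image_singleton, hπirr.maximalIdeal_eq]
    rfl
  · intro a
    have h1 : e (residue A (φ a)) = χ (φ a) := rfl
    rw [h1]
    apply ι.injective
    rw [hχ, hι]
    rfl
  · intro x
    have hsep : IsSeparable (FractionRing OK) (x : AlgebraicClosure (FractionRing OK)) :=
      hA.sep x x.2
    obtain ⟨b, hb, hbp⟩ := IsLocalization.integerNormalization_spec (nonZeroDivisors OK)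
      (minpoly (FractionRing OK) (x : AlgebraicClosure (FractionRing OK)))
    refine ⟨IsLocalization.integerNormalization (nonZeroDivisors OK)
      (minpoly (FractionRing OK) (x : AlgebraicClosure (FractionRing OK))), ?_, ?_⟩
    · rw [hbp, ← algebraMap_smul (FractionRing OK) b, Polynomial.smul_eq_C_mul]
      refine Polynomial.Separable.unit_mul ?_ hsep
      refine Polynomial.isUnit_C.2 (isUnit_iff_ne_zero.2 ?_)
      exact IsFractionRing.to_map_ne_zero_of_mem_nonZeroDivisors hb
    · apply Subtype.ext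
      have h1 : (A.subtype) (eval₂ φ x (IsLocalization.integerNormalization (nonZeroDivisors OK)
          (minpoly (FractionRing OK) (x : AlgebraicClosure (FractionRing OK))))) = 0 := by
        rw [Polynomial.hom_eval₂]
        have h2 : (A.subtype).comp φ = (algebraMap (FractionRing OK)
            (AlgebraicClosure (FractionRing OK))).comp (algebraMap OK (FractionRing OK)) := by
          rw [← IsScalarTower.algebraMap_eq]
          rfl
        rw [h2, ← Polynomial.eval₂_map, hbp, ← algebraMap_smul (FractionRing OK) b,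
          Polynomial.smul_eq_C_mul, Polynomial.eval₂_mul, ← Polynomial.aeval_def]
        show _ * aeval (x : AlgebraicClosure (FractionRing OK)) _ = 0
        rw [minpoly.aeval, mul_zero]
      exact h1

end Groth.Agent.Lib.Helper14DvrExt
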