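import Mathlib
import Groth.Agent.Lib.Helper18Gabber

set_option autoImplicit false

universe u
open Polynomial IsLocalRing

namespace Groth.Agent.Lib.Helper18HenselMap

open Groth.Agent.Lib.Helper18Gabber

/-- from `HenselianRing R (maximalIdeal R)` back to `HenselianLocalRing R` -/
lemma henselianLocalRing_of_henselianRing (W : Type*) [CommRing W] [IsLocalRing W]
    [h : HenselianRing W (maximalIdeal W)] : HenselianLocalRing W where
  is_henselian f hf a₀ h₁ h₂ :=
    h.is_henselian f hf a₀ h₁ (h₂.map (Ideal.Quotient.mk (maximalIdeal W)))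

theorem henselianLocal_of_map {V W : Type*} [CommRing V] [CommRing W] [HenselianLocalRing V]
    [IsLocalRing W] (φ : V →+* W) (J : Ideal V) (hJ : J ≤ maximalIdeal V)
    (hsurj : ∀ w ∈ maximalIdeal W, ∃ v ∈ J, φ v = w) (hJm : ∀ v ∈ J, φ v ∈ maximalIdeal W) :
    HenselianLocalRing W := by
  have hjacW : maximalIdeal W ≤ Ideal.jacobson ⊥ := by
    rw [IsLocalRing.jacobson_eq_maximalIdeal ⊥ bot_ne_top]
  have : HenselianRing W (maximalIdeal W) := by
    apply henselian_of_gabber hjacW
    intro n hn p hp hpI
    choose v hvJ hv using fun i => hsurj (p.coeff i) (hpI i)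
    let p₀ : V[X] := ∑ i ∈ Finset.range (n + 1), C (v i) * X ^ i
    have hp₀_deg : p₀.natDegree ≤ n := by
      apply Polynomial.natDegree_sum_le_of_forall_le
      intro i hi
      exact (natDegree_C_mul_X_pow_le _ _).trans (by have := Finset.mem_range.1 hi; omega)
    have hp₀_coeff : ∀ i, p₀.coeff i ∈ J := by
      intro i
      simp only [p₀, finsetSum_coeff, coeff_C_mul, coeff_X_pow]
      exact Ideal.sum_mem _ fun j _ => Ideal.mul_mem_right _ _ (hvJ j)
    have hmap : p₀.map φ = p := by
      ext i
      simp only [p₀, Polynomial.map_sum, Polynomial.map_mul, Polynomial.map_pow, map_C, map_X,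
        finsetSum_coeff, coeff_C_mul, coeff_X_pow]
      by_cases hi : i < n + 1
      · rw [Finset.sum_eq_single i]
        · simp [hv]
        · intro j _ hj; simp [Ne.symm hj]
        · intro h; exact absurd (Finset.mem_range.2 hi) h
      · rw [Finset.sum_eq_zero]
        · rw [coeff_eq_zero_of_natDegree_lt]; omega
        · intro j hj
          have : i ≠ j := by have := Finset.mem_range.1 hj; omega
          simp [this]
    obtain ⟨α₀, ⟨hα₀1, hα₀⟩, -⟩ := gabber_of_henselian (I := maximalIdeal V) n hn p₀ hp₀_deg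
      (fun i => hJ (hp₀_coeff i))
    have hjacV : maximalIdeal V ≤ Ideal.jacobson ⊥ := by
      rw [IsLocalRing.jacobson_eq_maximalIdeal ⊥ bot_ne_top]
    have hα₀u : IsUnit α₀ := isUnit_of_sub_one_mem hjacV hα₀1
    have hα₀J : α₀ - 1 ∈ J := by
      have h1 : α₀ ^ n * (α₀ - 1) = - p₀.eval α₀ := by
        have := hα₀
        simp only [IsRoot.def, eval_add, eval_mul, eval_pow, eval_X, eval_sub, eval_one] at this
        linear_combination this
      have h2 : α₀ ^ n * (α₀ - 1) ∈ J := by
        rw [h1]; exact J.neg_mem (eval_mem_of_coeff_mem p₀ hp₀_coeff α₀)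
      obtain ⟨β, hβ⟩ := (hα₀u.pow n).exists_left_inv
      have : α₀ - 1 = β * (α₀ ^ n * (α₀ - 1)) := by rw [← mul_assoc, hβ, one_mul]
      rw [this]; exact J.mul_mem_left _ h2
    refine ⟨φ α₀, ?_, ?_⟩
    · have := hJm _ hα₀J
      simpa using this
    · rw [IsRoot.def, ← hmap]
      have := congrArg φ hα₀.eq_zero
      simpa [eval_map, eval₂_at_apply, Polynomial.eval₂_add, Polynomial.eval₂_mul] using this
  exact henselianLocalRing_of_henselianRing W


theorem main (V : Type u) [CommRing V]
    [IsDomain V] [ValuationRing V] [HenselianLocalRing V] (p : Ideal V) [p.IsPrime] :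
    HenselianLocalRing (Localization.AtPrime p) ∧ HenselianLocalRing (V ⧸ p) := by
  have hp : p ≤ maximalIdeal V := IsLocalRing.le_maximalIdeal (Ideal.IsPrime.ne_top inferInstance)
  constructor
  · refine henselianLocal_of_map (algebraMap V (Localization.AtPrime p)) p hp ?_ ?_
    · intro w hw
      obtain ⟨x, s, rfl⟩ := IsLocalization.exists_mk'_eq p.primeCompl w
      have hx : x ∈ p := (IsLocalization.AtPrime.mk'_mem_maximal_iff _ p x s).1 hw
      rcases ValuationRing.dvd_total x (s : V) with ⟨z, hz⟩ | ⟨y, hy⟩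
      · exfalso
        exact s.2 (hz ▸ p.mul_mem_right z hx)
      · have hy' : y ∈ p := by
          rcases (Ideal.IsPrime.mem_or_mem inferInstance (hy ▸ hx : (s : V) * y ∈ p)) with h | h
          · exact absurd h s.2
          · exact h
        refine ⟨y, hy', ?_⟩
        rw [IsLocalization.eq_mk'_iff_mul_eq, ← map_mul, hy, mul_comm]
    · intro v hv
      exact (IsLocalization.AtPrime.to_map_mem_maximal_iff _ p v).2 hv
  · have : Nontrivial (V ⧸ p) := Ideal.Quotient.nontrivial_iff.2 (Ideal.IsPrime.ne_top inferInstance)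
    have : IsLocalRing (V ⧸ p) :=
      IsLocalRing.of_surjective' (Ideal.Quotient.mk p) Ideal.Quotient.mk_surjective
    have hloc : IsLocalHom (Ideal.Quotient.mk p) :=
      IsLocalHom.of_surjective _ Ideal.Quotient.mk_surjective
    refine henselianLocal_of_map (Ideal.Quotient.mk p) (maximalIdeal V) le_rfl ?_ ?_
    · intro w hw
      obtain ⟨v, rfl⟩ := Ideal.Quotient.mk_surjective w
      refine ⟨v, ?_, rfl⟩
      rw [IsLocalRing.mem_maximalIdeal, mem_nonunits_iff] at hw ⊢
      exact fun h => hw (h.map _)
    · intro v hv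
      rw [IsLocalRing.mem_maximalIdeal, mem_nonunits_iff] at hv ⊢
      exact fun h => hv (isUnit_of_map_unit (Ideal.Quotient.mk p) v h)

end Groth.Agent.Lib.Helper18HenselMap
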