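import Mathlib
import Groth.Agent.S0505
import Groth.Agent.Lib.Helper18HenselMap

/-!
# The connected component of a finite flat group scheme over a henselian local ring (S13404)
-/

universe u v

namespace Groth.Agent.Lib.Helper24G0

open Polynomial IsLocalRing TensorProduct

/-- A surjective image of a henselian local ring which is nontrivial is henselian local. -/
theorem henselian_of_surjective {V W : Type*} [CommRing V] [CommRing W] [HenselianLocalRing V]
    [Nontrivial W] (φ : V →+* W) (hφ : Function.Surjective φ) :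
    ∃ _ : IsLocalRing W, HenselianLocalRing W := by
  haveI : IsLocalRing W := IsLocalRing.of_surjective' φ hφ
  refine ⟨inferInstance, ?_⟩
  have hunit : ∀ v : V, IsUnit (φ v) → IsUnit v := by
    intro v hv
    obtain ⟨w', hw'⟩ := hv.exists_right_inv
    obtain ⟨v', rfl⟩ := hφ w'
    have hker : v * v' - 1 ∈ maximalIdeal V := by
      rw [mem_maximalIdeal, mem_nonunits_iff]
      intro hu
      have := hu.map φ
      rw [map_sub, map_mul, hw', map_one, sub_self] at this
      exact not_isUnit_zero this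
    have h1 : IsUnit (v * v') := by
      have := IsLocalRing.isUnit_or_isUnit_of_add_one (a := v * v') (b := -(v * v' - 1)) (by ring)
      rcases this with h | h
      · exact h
      · exfalso
        rw [IsUnit.neg_iff] at h
        exact hker h
    exact isUnit_of_mul_isUnit_left h1
  refine Groth.Agent.Lib.Helper18HenselMap.henselianLocal_of_map φ (maximalIdeal V) le_rfl ?_ ?_
  · intro w hw
    obtain ⟨v, rfl⟩ := hφ w
    refine ⟨v, ?_, rfl⟩
    rw [mem_maximalIdeal, mem_nonunits_iff] at hw ⊢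
    exact fun hu => hw (hu.map φ)
  · intro v hv
    rw [mem_maximalIdeal, mem_nonunits_iff] at hv ⊢
    exact fun hu => hv (hunit v hu)

/-- A local ring finite over a henselian local ring is henselian (any universes). -/
theorem henselian_of_finite (R : Type u) [CommRing R] [HenselianLocalRing R]
    (S : Type v) [CommRing S] [IsLocalRing S] [Algebra R S] [Module.Finite R S] :
    HenselianLocalRing S := by
  obtain ⟨hloc, hhens⟩ := henselian_of_surjective (algebraMap R S).rangeRestrict
    (algebraMap R S).rangeRestrict_surjective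
  letI : Algebra R (algebraMap R S).range := (algebraMap R S).rangeRestrict.toAlgebra
  haveI : IsScalarTower R (algebraMap R S).range S := IsScalarTower.of_algebraMap_eq fun r => rfl
  haveI : Module.Finite (algebraMap R S).range S := Module.Finite.of_restrictScalars_finite R _ S
  exact Groth.Agent.S0505.result (algebraMap R S).range S

theorem idem_eq_zero_of_mem_jacobson {T : Type*} [CommRing T] (E : T) (hE : IsIdempotentElem E)
    (hJ : E ∈ Ideal.jacobson (⊥ : Ideal T)) : E = 0 := by
  have h1 := (Ideal.mem_jacobson_bot.1 hJ) (-1)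
  have h2 : E * (E * -1 + 1) = 0 := by
    have := hE.eq
    linear_combination (-1 : T) * this
  exact (h1.mul_left_eq_zero).1 h2

theorem idem_local {T : Type*} [CommRing T] [IsLocalRing T] (E : T) (hE : IsIdempotentElem E) :
    E = 0 ∨ E = 1 := by
  have h2 : E * (1 - E) = 0 := by
    have := hE.eq
    linear_combination (-1 : T) * this
  rcases IsLocalRing.isUnit_or_isUnit_one_sub_self E with h | h
  · right
    have := (h.mul_right_eq_zero).1 h2
    exact (sub_eq_zero.1 this).symm
  · left
    exact (h.mul_left_eq_zero).1 h2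

section

variable {R : Type u} [CommRing R] [Nontrivial R] {A₀ : Type v} [CommRing A₀] [IsLocalRing A₀]
  [Algebra R A₀] (ε₀ : A₀ →ₐ[R] R)

include ε₀ in
theorem mem_max_of_counit_zero (x : A₀) (hx : ε₀ x = 0) : x ∈ maximalIdeal A₀ := by
  rw [mem_maximalIdeal, mem_nonunits_iff]
  intro hu
  have := hu.map ε₀
  rw [hx] at this
  exact not_isUnit_zero this

/-- Every maximal ideal of `A₀ ⊗ A₀` contains `x ⊗ 1` and `1 ⊗ x` for `x` in the augmentation
ideal. -/
theorem tmul_mem_maximal [Module.Finite R A₀] (𝔫 : Ideal (A₀ ⊗[R] A₀)) [𝔫.IsMaximal]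
    (x : A₀) (hx : ε₀ x = 0) : x ⊗ₜ[R] (1 : A₀) ∈ 𝔫 ∧ (1 : A₀) ⊗ₜ[R] x ∈ 𝔫 := by
  have hintR : (algebraMap R (A₀ ⊗[R] A₀)).IsIntegral := fun t => Algebra.IsIntegral.isIntegral t
  have hx' := mem_max_of_counit_zero ε₀ x hx
  constructor
  · have hint : (Algebra.TensorProduct.includeLeft : A₀ →ₐ[R] A₀ ⊗[R] A₀).toRingHom.IsIntegral := by
      apply RingHom.IsIntegral.tower_top (algebraMap R A₀)
      have : (Algebra.TensorProduct.includeLeft : A₀ →ₐ[R] A₀ ⊗[R] A₀).toRingHom.comp
          (algebraMap R A₀) = algebraMap R (A₀ ⊗[R] A₀) := by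
        ext r
        simp
      rw [this]
      exact hintR
    have hmax := Ideal.isMaximal_comap_of_isIntegral_of_isMaximal' _ hint 𝔫
    have := IsLocalRing.eq_maximalIdeal hmax
    have h2 : x ∈ 𝔫.comap (Algebra.TensorProduct.includeLeft : A₀ →ₐ[R] A₀ ⊗[R] A₀).toRingHom := by
      rw [this]; exact hx'
    exact h2
  · have hint : (Algebra.TensorProduct.includeRight : A₀ →ₐ[R] A₀ ⊗[R] A₀).toRingHom.IsIntegral := by
      apply RingHom.IsIntegral.tower_top (algebraMap R A₀)
      have : (Algebra.TensorProduct.includeRight : A₀ →ₐ[R] A₀ ⊗[R] A₀).toRingHom.comp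
          (algebraMap R A₀) = algebraMap R (A₀ ⊗[R] A₀) := by
        ext r
        simp [Algebra.TensorProduct.algebraMap_apply, Algebra.algebraMap_eq_smul_one, smul_tmul]
      rw [this]
      exact hintR
    have hmax := Ideal.isMaximal_comap_of_isIntegral_of_isMaximal' _ hint 𝔫
    have := IsLocalRing.eq_maximalIdeal hmax
    have h2 : x ∈ 𝔫.comap (Algebra.TensorProduct.includeRight : A₀ →ₐ[R] A₀ ⊗[R] A₀).toRingHom := by
      rw [this]; exact hx'
    exact h2

/-- The augmentation of `A₀ ⊗ A₀`. -/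
noncomputable def ε₂ : A₀ ⊗[R] A₀ →ₐ[R] R :=
  (Algebra.TensorProduct.lmul' R).comp (Algebra.TensorProduct.map ε₀ ε₀)

theorem ε₂_tmul (x y : A₀) : ε₂ ε₀ (x ⊗ₜ[R] y) = ε₀ x * ε₀ y := by
  simp [ε₂]

theorem sub_mem_maximal [Module.Finite R A₀] (𝔫 : Ideal (A₀ ⊗[R] A₀)) [𝔫.IsMaximal]
    (t : A₀ ⊗[R] A₀) : t - algebraMap R _ (ε₂ ε₀ t) ∈ 𝔫 := by
  induction t using TensorProduct.induction_on with
  | zero => simp
  | tmul x y =>
    rw [ε₂_tmul]
    have hx : ε₀ (x - algebraMap R A₀ (ε₀ x)) = 0 := by simp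
    have hy : ε₀ (y - algebraMap R A₀ (ε₀ y)) = 0 := by simp
    have h1 := (tmul_mem_maximal ε₀ 𝔫 _ hx).1
    have h2 := (tmul_mem_maximal ε₀ 𝔫 _ hy).2
    have key : x ⊗ₜ[R] y - algebraMap R (A₀ ⊗[R] A₀) (ε₀ x * ε₀ y) =
        ((x - algebraMap R A₀ (ε₀ x)) ⊗ₜ[R] (1 : A₀)) * ((1 : A₀) ⊗ₜ[R] y) +
        (algebraMap R A₀ (ε₀ x) ⊗ₜ[R] (1 : A₀)) * ((1 : A₀) ⊗ₜ[R] (y - algebraMap R A₀ (ε₀ y))) := by
      rw [Algebra.TensorProduct.tmul_mul_tmul, Algebra.TensorProduct.tmul_mul_tmul, mul_one, one_mul,
        mul_one, one_mul, sub_tmul, tmul_sub, Algebra.TensorProduct.algebraMap_apply, map_mul,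
        Algebra.algebraMap_eq_smul_one (ε₀ y), tmul_smul, smul_tmul', mul_smul_comm, mul_one]
      abel
    rw [key]
    exact add_mem (Ideal.mul_mem_right _ _ h1) (Ideal.mul_mem_left _ _ h2)
  | add a b ha hb =>
    have : a + b - algebraMap R _ (ε₂ ε₀ (a + b)) =
        (a - algebraMap R _ (ε₂ ε₀ a)) + (b - algebraMap R _ (ε₂ ε₀ b)) := by
      rw [map_add, map_add]; ring
    rw [this]
    exact add_mem ha hb

/-- An idempotent of `A₀ ⊗ A₀` killed by the augmentation is zero. -/
theorem idem_tensor_eq_zero [Module.Finite R A₀] (E : A₀ ⊗[R] A₀) (hE : IsIdempotentElem E)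
    (h0 : ε₂ ε₀ E = 0) : E = 0 := by
  apply idem_eq_zero_of_mem_jacobson E hE
  rw [Ideal.jacobson, Ideal.mem_sInf]
  rintro 𝔫 ⟨-, h𝔫⟩
  haveI := h𝔫
  have := sub_mem_maximal ε₀ 𝔫 E
  rwa [h0, map_zero, sub_zero] at this

end

/-- S13404: the unit component of a finite flat group scheme over a henselian local ring. -/
theorem main (R : Type u) [CommRing R] [HenselianLocalRing R]
    (A : Type v) [CommRing A] [HopfAlgebra R A] [Module.Finite R A] [Module.Flat R A]
    (e : A) (he : IsIdempotentElem e) (hε : Bialgebra.counitAlgHom R A e = 1)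
    [IsLocalRing (A ⧸ Ideal.span ({1 - e} : Set A))] :
    (Ideal.span ({1 - e} : Set A)).IsHopfIdeal R ∧
      HenselianLocalRing (A ⧸ Ideal.span ({1 - e} : Set A)) ∧
      Function.Surjective (⇑(IsLocalRing.residue (A ⧸ Ideal.span ({1 - e} : Set A))) ∘
        ⇑(algebraMap R (A ⧸ Ideal.span ({1 - e} : Set A)))) ∧
      Module.Flat R (A ⧸ Ideal.span ({1 - e} : Set A)) := by
  classical
  have hker : ∀ a ∈ Ideal.span ({1 - e} : Set A), Bialgebra.counitAlgHom R A a = 0 := by
    intro a ha
    obtain ⟨c, rfl⟩ := Ideal.mem_span_singleton'.1 ha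
    rw [map_mul, map_sub, map_one, hε, sub_self, mul_zero]
  let ε₀ : (A ⧸ Ideal.span ({1 - e} : Set A)) →ₐ[R] R :=
    Ideal.Quotient.liftₐ (Ideal.span ({1 - e} : Set A)) (Bialgebra.counitAlgHom R A) hker
  have hε₀ : ∀ a : A, ε₀ (Ideal.Quotient.mk _ a) = Bialgebra.counitAlgHom R A a := fun a => rfl
  have hmk1e : Ideal.Quotient.mk (Ideal.span ({1 - e} : Set A)) (1 - e) = 0 :=
    Ideal.Quotient.eq_zero_iff_mem.2 (Ideal.subset_span rfl)
  refine ⟨?_, henselian_of_finite R _, ?_, ?_⟩
  · have hcoun : ∀ a : A, Algebra.TensorProduct.lmul' R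
        (Algebra.TensorProduct.map (Bialgebra.counitAlgHom R A) (Bialgebra.counitAlgHom R A)
          (Bialgebra.comulAlgHom R A a)) = Bialgebra.counitAlgHom R A a := by
      intro a
      have h1 : Algebra.TensorProduct.map (Bialgebra.counitAlgHom R A) (Bialgebra.counitAlgHom R A)
          (Bialgebra.comulAlgHom R A a) =
          (Coalgebra.counit.lTensor R) ((Coalgebra.counit.rTensor A) (Coalgebra.comul (R := R) a)) := by
        rw [← LinearMap.comp_apply, LinearMap.lTensor_comp_rTensor]
        rfl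
      rw [h1, Coalgebra.rTensor_counit_comul, LinearMap.lTensor_tmul]
      simp
    let Φ : A →ₐ[R] (A ⧸ Ideal.span ({1 - e} : Set A)) ⊗[R] (A ⧸ Ideal.span ({1 - e} : Set A)) :=
      (Algebra.TensorProduct.map (Ideal.Quotient.mkₐ R (Ideal.span ({1 - e} : Set A)))
        (Ideal.Quotient.mkₐ R (Ideal.span ({1 - e} : Set A)))).comp (Bialgebra.comulAlgHom R A)
    have hΦε : ∀ a : A, ε₂ ε₀ (Φ a) = Bialgebra.counitAlgHom R A a := by
      intro a
      rw [← hcoun a]
      change (Algebra.TensorProduct.lmul' R) ((Algebra.TensorProduct.map ε₀ ε₀)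
        ((Algebra.TensorProduct.map (Ideal.Quotient.mkₐ R (Ideal.span ({1 - e} : Set A)))
        (Ideal.Quotient.mkₐ R (Ideal.span ({1 - e} : Set A)))) (Bialgebra.comulAlgHom R A a))) = _
      congr 1
      generalize Bialgebra.comulAlgHom R A a = x
      induction x using TensorProduct.induction_on with
      | zero => simp
      | tmul x y => rfl
      | add x y hx hy => rw [map_add, map_add, map_add, hx, hy]
    have hΦ : Φ (1 - e) = 0 := by
      apply idem_tensor_eq_zero ε₀ _ (he.one_sub.map Φ)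
      rw [hΦε, map_sub, map_one, hε, sub_self]
    have hS : HopfAlgebra.antipode R (1 - e) ∈ Ideal.span ({1 - e} : Set A) := by
      have hid : IsIdempotentElem ((Ideal.Quotient.mkₐ R (Ideal.span ({1 - e} : Set A)))
          (HopfAlgebra.antipodeAlgHom R A e)) := (he.map _).map _
      have hεS : ε₀ ((Ideal.Quotient.mkₐ R (Ideal.span ({1 - e} : Set A)))
          (HopfAlgebra.antipodeAlgHom R A e)) = 1 := by
        change Bialgebra.counitAlgHom R A (HopfAlgebra.antipode R e) = 1
        rw [← hε]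
        exact HopfAlgebra.counit_antipode e
      rcases idem_local _ hid with h0 | h1
      · rw [h0, map_zero] at hεS
        exact absurd hεS zero_ne_one
      · rw [← Ideal.Quotient.eq_zero_iff_mem]
        change (Ideal.Quotient.mkₐ R (Ideal.span ({1 - e} : Set A)))
          (HopfAlgebra.antipodeAlgHom R A (1 - e)) = 0
        rw [map_sub, map_one, map_sub, map_one, h1, sub_self]
    have hco : ((Ideal.span ({1 - e} : Set A)).restrictScalars R).IsCoideal := by
      refine Submodule.IsCoideal.mk ?_ ?_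
      · intro z hz
        exact hker z hz
      · intro z hz
        obtain ⟨a, rfl⟩ := Ideal.mem_span_singleton'.mp hz
        have hmk : (Submodule.restrictScalars R (Ideal.span ({1 - e} : Set A))).mkQ =
            (Ideal.Quotient.mkₐ R (Ideal.span ({1 - e} : Set A))).toLinearMap := rfl
        rw [hmk]
        change Φ (a * (1 - e)) = 0
        rw [map_mul, hΦ, mul_zero]
    refine { hco with antipode_mem := ?_ }
    intro z hz
    obtain ⟨a, rfl⟩ := Ideal.mem_span_singleton'.mp hz
    rw [HopfAlgebra.antipode_mul_distrib]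
    exact Ideal.mul_mem_left _ _ hS
  · intro y
    obtain ⟨a₀, rfl⟩ := residue_surjective y
    refine ⟨ε₀ a₀, ?_⟩
    rw [Function.comp_apply, ← sub_eq_zero, ← map_sub, residue_eq_zero_iff, ← neg_mem_iff, neg_sub]
    apply mem_max_of_counit_zero ε₀
    simp
  · have := IsLocalization.Away.quotient_of_isIdempotentElem he
    have : Module.Flat A (A ⧸ Ideal.span ({1 - e} : Set A)) :=
      IsLocalization.flat _ (Submonoid.powers e)
    exact Module.Flat.trans R A _


end Groth.Agent.Lib.Helper24G0
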