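import Mathlib
import Groth.Agent.Lib.Helper14DvrExt
import Groth.Agent.Lib.Helper28GeomRed1
import Groth.Agent.Lib.Helper24G0

/-!
# Henselian DVR extension with residue field the perfect closure (S16360)

A maximal "good" subring of an algebraic closure of the fraction field, which in addition
is a directed union of finite free subalgebras of `p`-power rank.
-/

set_option autoImplicit false
set_option linter.unusedSectionVars false
set_option linter.unusedVariables false
set_option linter.style.haveILetI false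
universe u

namespace Groth.Agent.Lib.Helper14DvrPerf

open Polynomial IsLocalRing

/-- Every finite subset of `A` lies in a finite free `R`-subalgebra of `p`-power rank inside `A`. -/
def FinP {R : Type u} [CommRing R] {Ω : Type u} [Field Ω] [Algebra R Ω] (p : ℕ)
    (A : Subring Ω) : Prop :=
  ∀ s : Finset Ω, (↑s : Set Ω) ⊆ A → ∃ S : Subalgebra R Ω, (↑s : Set Ω) ⊆ S ∧ (S : Set Ω) ⊆ A ∧
    Module.Finite R S ∧ Module.Free R S ∧ ∃ m : ℕ, Module.finrank R S = p ^ m

section

variable {R : Type u} [CommRing R] {Ω : Type u} [Field Ω] [Algebra R Ω] (p : ℕ)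

theorem finP_sSup (c : Set (Subring Ω)) (hc : IsChain (· ≤ ·) c) (hne : c.Nonempty)
    (h : ∀ A ∈ c, FinP (R := R) p A) : FinP (R := R) p (sSup c) := by
  classical
  have hmem : ∀ x, x ∈ sSup c ↔ ∃ s ∈ c, x ∈ s := fun x =>
    Subring.mem_sSup_of_directedOn hne hc.directedOn
  have key : ∀ s : Finset Ω, (↑s : Set Ω) ⊆ (sSup c : Subring Ω) → ∃ A ∈ c, (↑s : Set Ω) ⊆ A := by
    intro s
    induction s using Finset.induction_on with
    | empty =>
      intro _
      obtain ⟨A₀, hA₀⟩ := hne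
      exact ⟨A₀, hA₀, by simp⟩
    | insert x s hx ih =>
      intro hs
      rw [Finset.coe_insert, Set.insert_subset_iff] at hs
      obtain ⟨A₂, hA₂, hsA₂⟩ := ih hs.2
      obtain ⟨A₁, hA₁, hxA₁⟩ := (hmem x).1 hs.1
      rcases hc.total hA₁ hA₂ with h12 | h21
      · refine ⟨A₂, hA₂, ?_⟩
        rw [Finset.coe_insert, Set.insert_subset_iff]
        exact ⟨h12 hxA₁, hsA₂⟩
      · refine ⟨A₁, hA₁, ?_⟩
        rw [Finset.coe_insert, Set.insert_subset_iff]
        exact ⟨hxA₁, fun y hy => h21 (hsA₂ hy)⟩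
  intro s hs
  obtain ⟨A, hA, hsA⟩ := key s hs
  obtain ⟨S, h1, h2, h3⟩ := h A hA s hsA
  exact ⟨S, h1, fun y hy => (hmem y).2 ⟨A, hA, h2 hy⟩, h3⟩

theorem finP_range [Nontrivial R] (hinj : Function.Injective (algebraMap R Ω)) :
    FinP (R := R) p (algebraMap R Ω).range := by
  intro s hs
  refine ⟨⊥, ?_, ?_, ?_, ?_, 0, ?_⟩
  · intro x hx
    obtain ⟨r, hr⟩ := hs hx
    rw [SetLike.mem_coe, Algebra.mem_bot]
    exact ⟨r, hr⟩
  · intro x hx
    rw [SetLike.mem_coe, Algebra.mem_bot] at hx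
    exact hx
  · exact Module.Finite.equiv (Algebra.botEquivOfInjective hinj).symm.toLinearEquiv
  · exact Module.Free.of_equiv (Algebra.botEquivOfInjective hinj).symm.toLinearEquiv
  · rw [pow_zero, LinearEquiv.finrank_eq (Algebra.botEquivOfInjective hinj).toLinearEquiv,
      Module.finrank_self]

end

end Groth.Agent.Lib.Helper14DvrPerf


namespace Groth.Agent.Lib.Helper14DvrPerf

open Polynomial IsLocalRing

section

variable {R : Type u} [CommRing R] [Nontrivial R] {Ω : Type u} [Field Ω] [Algebra R Ω] (p : ℕ)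

set_option maxHeartbeats 1600000 in
theorem finP_adjoin (A : Subring Ω) (hA : FinP (R := R) p A) (θ : Ω) (f : A[X]) (hfm : f.Monic)
    (l : ℕ) (hfd : f.natDegree = p ^ l) (hd : f.natDegree ≠ 0) (hfθ : aeval θ f = 0)
    (hind : ∀ h : A[X], h.natDegree < f.natDegree → aeval θ h = 0 → h = 0) :
    FinP (R := R) p (Algebra.adjoin A {θ}).toSubring := by
  classical
  intro s hs
  have hrep : ∀ x ∈ s, ∃ h : A[X], aeval θ h = x := by
    intro x hx
    have := hs hx
    rw [SetLike.mem_coe, Subalgebra.mem_toSubring, Algebra.adjoin_singleton_eq_range_aeval] at this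
    exact this
  choose! H hH using hrep
  set t : Finset Ω := (s.biUnion fun x => (H x).coeffs.image A.subtype) ∪
    (f.coeffs.image A.subtype) with ht
  have htA : (↑t : Set Ω) ⊆ A := by
    intro y hy
    rw [Finset.mem_coe, ht, Finset.mem_union, Finset.mem_biUnion] at hy
    rcases hy with ⟨x, -, hy⟩ | hy
    · obtain ⟨c, -, rfl⟩ := Finset.mem_image.1 hy
      exact c.2
    · obtain ⟨c, -, rfl⟩ := Finset.mem_image.1 hy
      exact c.2
  obtain ⟨S₀, htS₀, hS₀A, hfin₀, hfree₀, m, hrank₀⟩ := hA t htA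
  -- coefficients
  have hcoefH : ∀ x ∈ s, ∀ n, ((H x).coeff n : Ω) ∈ S₀ := by
    intro x hx n
    by_cases h0 : (H x).coeff n = 0
    · rw [h0]; exact zero_mem _
    · apply htS₀
      rw [Finset.mem_coe, ht, Finset.mem_union, Finset.mem_biUnion]
      exact Or.inl ⟨x, hx, Finset.mem_image.2 ⟨_, Polynomial.coeff_mem_coeffs h0, rfl⟩⟩
  have hcoeff : ∀ n, (f.coeff n : Ω) ∈ S₀ := by
    intro n
    by_cases h0 : f.coeff n = 0
    · rw [h0]; exact zero_mem _
    · apply htS₀
      rw [Finset.mem_coe, ht, Finset.mem_union]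
      exact Or.inr (Finset.mem_image.2 ⟨_, Polynomial.coeff_mem_coeffs h0, rfl⟩)
  -- the polynomial over S₀
  have hlifts : f.map A.subtype ∈ Polynomial.lifts (algebraMap S₀ Ω) := by
    rw [Polynomial.lifts_iff_coeff_lifts]
    intro n
    rw [Polynomial.coeff_map]
    exact ⟨⟨_, hcoeff n⟩, rfl⟩
  obtain ⟨f₀, hf₀map, hf₀deg, hf₀m⟩ :=
    Polynomial.lifts_and_natDegree_eq_and_monic hlifts (hfm.map _)
  have hf₀d : f₀.natDegree = f.natDegree := by
    rw [hf₀deg, Polynomial.natDegree_map_eq_of_injective A.subtype_injective]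
  have hroot : eval₂ (↑(Algebra.ofId S₀ Ω) : S₀ →+* Ω) θ f₀ = 0 := by
    have h1 : eval₂ (algebraMap S₀ Ω) θ f₀ = eval θ (f₀.map (algebraMap S₀ Ω)) :=
      (Polynomial.eval_map _ _).symm
    show eval₂ (algebraMap S₀ Ω) θ f₀ = 0
    rw [h1, hf₀map, Polynomial.eval_map]
    rw [Polynomial.aeval_def] at hfθ
    exact hfθ
  let φ : AdjoinRoot f₀ →ₐ[S₀] Ω := AdjoinRoot.liftAlgHom f₀ (Algebra.ofId S₀ Ω) θ hroot
  have hφmk : ∀ h : S₀[X], φ (AdjoinRoot.mk f₀ h) = eval₂ (algebraMap S₀ Ω) θ h := fun h =>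
    AdjoinRoot.liftAlgHom_mk f₀ (Algebra.ofId S₀ Ω) θ hroot h
  let incl : S₀ →+* A := (S₀.val : S₀ →+* Ω).codRestrict A (fun x => hS₀A x.2)
  have hincl : Function.Injective incl := fun x y hxy =>
    Subtype.ext (congrArg (fun z : A => (z : Ω)) hxy)
  have hφinj : Function.Injective φ := by
    rw [injective_iff_map_eq_zero]
    intro z hz
    obtain ⟨h, rfl⟩ := AdjoinRoot.mk_surjective z
    have h1 : AdjoinRoot.mk f₀ h = AdjoinRoot.mk f₀ (h %ₘ f₀) := by
      rw [AdjoinRoot.mk_eq_mk]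
      refine ⟨h /ₘ f₀, ?_⟩
      have := Polynomial.modByMonic_add_div h f₀
      linear_combination -this
    rw [h1] at hz ⊢
    rw [hφmk] at hz
    have hdeg : (h %ₘ f₀).natDegree < f₀.natDegree := by
      refine Polynomial.natDegree_modByMonic_lt _ hf₀m ?_
      intro h1'
      apply hd
      rw [← hf₀d, h1', natDegree_one]
    have h2 : aeval θ ((h %ₘ f₀).map incl) = 0 := by
      rw [Polynomial.aeval_def, Polynomial.eval₂_map]
      exact hz
    have h3 : ((h %ₘ f₀).map incl).natDegree < f.natDegree := by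
      rw [Polynomial.natDegree_map_eq_of_injective hincl, ← hf₀d]
      exact hdeg
    have h4 := hind _ h3 h2
    have h5 : h %ₘ f₀ = 0 := Polynomial.map_injective incl hincl (by rw [h4, Polynomial.map_zero])
    rw [h5, map_zero]
  -- the subalgebra
  have hφR : Function.Injective (φ.restrictScalars R) := hφinj
  let e : AdjoinRoot f₀ ≃ₐ[R] (φ.restrictScalars R).range :=
    AlgEquiv.ofInjective (φ.restrictScalars R) hφR
  have hθmem : θ ∈ (φ.restrictScalars R).range := by
    refine ⟨AdjoinRoot.root f₀, ?_⟩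
    show φ (AdjoinRoot.root f₀) = θ
    rw [← AdjoinRoot.mk_X, hφmk, Polynomial.eval₂_X]
  have hS₀mem : ∀ c : Ω, c ∈ S₀ → c ∈ (φ.restrictScalars R).range := by
    intro c hc
    refine ⟨algebraMap S₀ (AdjoinRoot f₀) ⟨c, hc⟩, ?_⟩
    show φ (algebraMap S₀ (AdjoinRoot f₀) ⟨c, hc⟩) = c
    rw [φ.commutes]
    rfl
  haveI : Module.Finite R S₀ := hfin₀
  haveI : Module.Free R S₀ := hfree₀
  haveI : Module.Finite S₀ (AdjoinRoot f₀) := (AdjoinRoot.powerBasis' hf₀m).finite
  haveI : Module.Free S₀ (AdjoinRoot f₀) := Module.Free.of_basis (AdjoinRoot.powerBasis' hf₀m).basis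
  haveI : Module.Finite R (AdjoinRoot f₀) := Module.Finite.trans S₀ _
  haveI : Module.Free R (AdjoinRoot f₀) := Module.Free.trans (S := S₀)
  refine ⟨(φ.restrictScalars R).range, ?_, ?_, Module.Finite.equiv e.toLinearEquiv,
    Module.Free.of_equiv e.toLinearEquiv, m + l, ?_⟩
  · intro x hx
    rw [SetLike.mem_coe, ← hH x hx, Polynomial.aeval_eq_sum_range]
    refine Subalgebra.sum_mem _ fun i _ => ?_
    rw [Algebra.smul_def]
    exact Subalgebra.mul_mem _ (hS₀mem _ (hcoefH x hx i)) (Subalgebra.pow_mem _ hθmem i)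
  · rintro _ ⟨z, rfl⟩
    obtain ⟨h, rfl⟩ := AdjoinRoot.mk_surjective z
    show φ (AdjoinRoot.mk f₀ h) ∈ _
    rw [hφmk, Polynomial.eval₂_eq_sum_range]
    refine Subring.sum_mem _ fun i _ => ?_
    refine Subring.mul_mem _ ?_ (Subring.pow_mem _ ?_ i)
    · exact (Algebra.adjoin A {θ}).algebraMap_mem ⟨_, hS₀A (h.coeff i).2⟩
    · exact Algebra.subset_adjoin rfl
  · rw [← LinearEquiv.finrank_eq e.toLinearEquiv, ← Module.finrank_mul_finrank R S₀ (AdjoinRoot f₀),
      hrank₀, PowerBasis.finrank (AdjoinRoot.powerBasis' hf₀m), AdjoinRoot.powerBasis'_dim, hf₀d,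
      hfd, pow_add]

end

end Groth.Agent.Lib.Helper14DvrPerf


namespace Groth.Agent.Lib.Helper14DvrPerf

open Polynomial IsLocalRing Groth.Agent.Lib.Helper14DvrExt

section Perf

variable {OK : Type u} [CommRing OK] [IsDomain OK] [IsDiscreteValuationRing OK]
  {k' : Type u} [Field k'] [Algebra (ResidueField OK) k']
  [Algebra.IsAlgebraic (ResidueField OK) k']
  {Ω : Type u} [Field Ω] [IsAlgClosed Ω] [Algebra OK Ω]
  {K : Type u} [Field K] [Algebra OK K] [IsFractionRing OK K] [Algebra K Ω] [IsScalarTower OK K Ω]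
  {W : ValuationSubring Ω} {ι : k' →+* ResidueField W} {ϖ : OK} {A : Subring Ω}
  (p : ℕ)

/-- the combined property. -/
def Good2 (K : Type u) [Field K] [Algebra OK K] [Algebra K Ω]
    (W : ValuationSubring Ω) (ι : k' →+* ResidueField W) (ϖ : OK) (p : ℕ) (A : Subring Ω) : Prop :=
  Good K W ι ϖ A ∧ FinP (R := OK) p A

theorem exists_maximal2 (hϖ : Irreducible ϖ) (hW : ∀ a : OK, algebraMap OK Ω a ∈ W)
    (hι : ∀ a : OK, ι (algebraMap (ResidueField OK) k' (residue OK a)) =
        residue W ⟨algebraMap OK Ω a, hW a⟩) :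
    ∃ A : Subring Ω, Maximal (Good2 K W ι ϖ p) A := by
  obtain ⟨A, -, hA⟩ := zorn_le_nonempty₀ {A : Subring Ω | Good2 K W ι ϖ p A}
    (fun c hcs hc y hy => ⟨sSup c, ⟨good_sSup c hc ⟨y, hy⟩ (fun A hA => (hcs hA).1),
      finP_sSup p c hc ⟨y, hy⟩ (fun A hA => (hcs hA).2)⟩,
      fun z hz => le_sSup hz⟩) _ ⟨good_range hϖ hW hι,
        finP_range p (algebraMap_injective' (K := K))⟩
  exact ⟨A, hA⟩

set_option maxHeartbeats 1600000 in
theorem exists_lt2 [ExpChar (ResidueField OK) p] (hA : Good2 K W ι ϖ p A) (hϖ : Irreducible ϖ)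
    (hπ : algebraMap OK Ω ϖ ∈ W.nonunits)
    (hW : ∀ a : OK, algebraMap OK Ω a ∈ W)
    (hι : ∀ a : OK, ι (algebraMap (ResidueField OK) k' (residue OK a)) =
      residue W ⟨algebraMap OK Ω a, hW a⟩)
    (hpi : ∀ a : k', ∃ n : ℕ, a ^ p ^ n ∈ (algebraMap (ResidueField OK) k').range)
    (a : k') (ha : ∀ x : W, (x : Ω) ∈ A → residue W x ≠ ι a) :
    ∃ A' : Subring Ω, Good2 K W ι ϖ p A' ∧ A < A' := by
  obtain ⟨hA, hFin⟩ := hA
  haveI : IsDiscreteValuationRing A := isDVR hA hϖ hπ
  obtain ⟨hπirr, -⟩ := hasFactorization hA hϖ hπ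
  set πA : A := ⟨algebraMap OK Ω ϖ, hA.base ϖ⟩ with hπA
  set j : A →+* W := jHom hA with hj
  haveI : IsLocalHom j := isLocalHom_jHom hA hπ
  set ψ := ResidueField.map j with hψ
  have hψres : ∀ x : A, ψ (residue A x) = residue W (j x) := fun x =>
    ResidueField.map_residue j x
  let φA : OK →+* A := (algebraMap OK Ω).codRestrict A hA.base
  haveI : IsLocalHom φA := by
    refine ⟨fun x hx => ?_⟩
    by_contra hnu
    have h1 : x ∈ maximalIdeal OK := (mem_maximalIdeal x).2 hnu
    rw [hϖ.maximalIdeal_eq, Ideal.mem_span_singleton'] at h1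
    obtain ⟨b, rfl⟩ := h1
    have h2 : φA (b * ϖ) = φA b * πA := by
      rw [map_mul]; rfl
    rw [h2] at hx
    exact hπirr.not_isUnit (isUnit_of_mul_isUnit_right hx)
  have hcomp : ψ.comp (ResidueField.map φA) = ι.comp (algebraMap (ResidueField OK) k') := by
    apply RingHom.ext
    intro x
    obtain ⟨x, rfl⟩ := residue_surjective x
    rw [RingHom.comp_apply, RingHom.comp_apply, ResidueField.map_residue, hψres, hι]
    rfl
  letI : Algebra (ResidueField A) (ResidueField W) := ψ.toAlgebra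
  have hint : IsIntegral (ResidueField A) (ι a) := by
    obtain ⟨q, hqm, hq⟩ := Algebra.IsIntegral.isIntegral (R := ResidueField OK) a
    refine ⟨q.map (ResidueField.map φA), hqm.map _, ?_⟩
    rw [Polynomial.eval₂_map]
    show eval₂ (ψ.comp _) (ι a) q = 0
    rw [hcomp, ← Polynomial.hom_eval₂, hq, map_zero]
  set g := minpoly (ResidueField A) (ι a) with hg
  have hgirr : Irreducible g := minpoly.irreducible hint
  have hgm : g.Monic := minpoly.monic hint
  have hgroot : eval₂ ψ (ι a) g = 0 := by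
    have := minpoly.aeval (ResidueField A) (ι a)
    rwa [Polynomial.aeval_def] at this
  have hd2 : 2 ≤ g.natDegree := by
    by_contra hlt
    have h1 : g.natDegree = 1 := by
      have : 0 < g.natDegree := minpoly.natDegree_pos hint
      omega
    obtain ⟨z, hz⟩ := (minpoly.natDegree_eq_one_iff).1 h1
    obtain ⟨z, rfl⟩ := residue_surjective z
    refine ha (j z) z.2 ?_
    rw [← hz, ← hψres]
    rfl
  -- degree is a power of p
  haveI : ExpChar (ResidueField A) p :=
    expChar_of_injective_ringHom (ResidueField.map φA).injective p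
  obtain ⟨l, hl⟩ : ∃ l : ℕ, g.natDegree = p ^ l := by
    obtain ⟨n, c, hc⟩ := hpi a
    have h1 : (ι a) ^ p ^ n ∈ (algebraMap (ResidueField A) (ResidueField W)).range := by
      refine ⟨ResidueField.map φA c, ?_⟩
      show ψ (ResidueField.map φA c) = _
      rw [← RingHom.comp_apply, hcomp, RingHom.comp_apply, hc, map_pow]
    have h2 := (minpoly.natSepDegree_eq_one_iff_pow_mem p).2 ⟨n, h1⟩
    obtain ⟨l, y, hy⟩ := (minpoly.natSepDegree_eq_one_iff_eq_X_pow_sub_C p).1 h2
    refine ⟨l, ?_⟩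
    rw [hg, hy, Polynomial.natDegree_X_pow_sub_C]
  obtain ⟨θ, f, hfm, hfdeg, hfθ, hind, hgood, hlt⟩ :=
    exists_lt_aux hA hϖ hπ a ha g hgirr hgm hgroot hd2
  refine ⟨_, ⟨hgood, ?_⟩, hlt⟩
  exact finP_adjoin p A hFin θ f hfm l (hfdeg.trans hl) (by rw [hfdeg]; omega) hfθ hind

set_option maxHeartbeats 1600000 in
theorem good_residue_iso (hA : Good K W ι ϖ A) (hϖ : Irreducible ϖ)
    (hπ : algebraMap OK Ω ϖ ∈ W.nonunits)
    (hW : ∀ a : OK, algebraMap OK Ω a ∈ W)
    (hι : ∀ a : OK, ι (algebraMap (ResidueField OK) k' (residue OK a)) =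
      residue W ⟨algebraMap OK Ω a, hW a⟩)
    (hsurj : ∀ a : k', ∃ x : W, (x : Ω) ∈ A ∧ residue W x = ι a)
    [IsDiscreteValuationRing A] :
    IsLocalHom ((algebraMap OK Ω).codRestrict A hA.base) ∧
    Ideal.map ((algebraMap OK Ω).codRestrict A hA.base) (maximalIdeal OK) = maximalIdeal A ∧
    ∃ e : ResidueField A ≃+* k', ∀ a : OK,
      e (residue A ((algebraMap OK Ω).codRestrict A hA.base a)) =
        algebraMap (ResidueField OK) k' (residue OK a) := by
  obtain ⟨hπirr, -⟩ := hasFactorization hA hϖ hπ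
  set j : A →+* W := jHom hA with hj
  haveI : IsLocalHom j := isLocalHom_jHom hA hπ
  set φ : OK →+* A := (algebraMap OK Ω).codRestrict A hA.base with hφ
  have hφloc : IsLocalHom φ := by
    refine ⟨fun x hx => ?_⟩
    by_contra hnu
    have h1 : x ∈ maximalIdeal OK := (mem_maximalIdeal x).2 hnu
    rw [hϖ.maximalIdeal_eq, Ideal.mem_span_singleton'] at h1
    obtain ⟨b, rfl⟩ := h1
    have h2 : φ (b * ϖ) = φ b * ⟨algebraMap OK _ ϖ, hA.base ϖ⟩ := by
      rw [map_mul]; rfl
    rw [h2] at hx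
    exact hπirr.not_isUnit (isUnit_of_mul_isUnit_right hx)
  let r : A →+* ResidueField W := (residue W).comp j
  have hr : ∀ x : A, r x ∈ ι.range := fun x => hA.res (j x) x.2
  let e₀ : k' ≃+* ι.range := RingEquiv.ofBijective ι.rangeRestrict
    ⟨fun x y hxy => ι.injective (congrArg Subtype.val hxy), ι.rangeRestrict_surjective⟩
  let χ : A →+* k' := e₀.symm.toRingHom.comp (r.codRestrict ι.range hr)
  have hχ : ∀ x : A, ι (χ x) = r x := by
    intro x
    have h1 : e₀ (χ x) = ⟨r x, hr x⟩ := e₀.apply_symm_apply _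
    exact congrArg Subtype.val h1
  have hχsurj : Function.Surjective χ := by
    intro a
    obtain ⟨x, hx, hxa⟩ := hsurj a
    refine ⟨⟨x, hx⟩, ι.injective ?_⟩
    rw [hχ, ← hxa]
    rfl
  have hker : RingHom.ker χ = maximalIdeal A := by
    ext x
    rw [RingHom.mem_ker, mem_maximalIdeal, mem_nonunits_iff, ← isUnit_map_iff j x,
      ← mem_nonunits_iff, ← mem_maximalIdeal, ← residue_eq_zero_iff]
    constructor
    · intro h
      have := hχ x
      rw [h, map_zero] at this
      exact this.symm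
    · intro h
      apply ι.injective
      rw [hχ, map_zero]
      exact h
  let e : ResidueField A ≃+* k' :=
    (Ideal.quotEquivOfEq hker.symm).trans (RingHom.quotientKerEquivOfSurjective hχsurj)
  refine ⟨hφloc, ?_, e, ?_⟩
  · rw [hϖ.maximalIdeal_eq, Ideal.map_span, Set.image_singleton, hπirr.maximalIdeal_eq]
    rfl
  · intro a
    have h1 : e (residue A (φ a)) = χ (φ a) := rfl
    rw [h1]
    apply ι.injective
    rw [hχ, hι]
    rfl

end Perf

end Groth.Agent.Lib.Helper14DvrPerf


namespace Groth.Agent.Lib.Helper14DvrPerf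

open Polynomial IsLocalRing

set_option maxHeartbeats 1600000 in
/-- A local domain which is a directed union of finite subalgebras over a henselian local ring
is henselian. -/
theorem henselian_of_directed_union (R : Type u) [CommRing R] [HenselianLocalRing R]
    (R' : Type u) [CommRing R'] [IsDomain R'] [IsLocalRing R'] [Algebra R R']
    (h : ∀ s : Finset R', ∃ S : Subalgebra R R', (↑s : Set R') ⊆ ↑S ∧ Module.Finite R S) :
    HenselianLocalRing R' := by
  classical
  haveI hint : Algebra.IsIntegral R R' := ⟨fun x => by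
    obtain ⟨S, hxS, hfin⟩ := h {x}
    have hx : x ∈ S := hxS (by simp)
    have : IsIntegral R (⟨x, hx⟩ : S) := IsIntegral.of_finite R _
    exact (isIntegral_algHom_iff S.val Subtype.val_injective (x := ⟨x, hx⟩)).2 this⟩
  refine HenselianLocalRing.mk ?_
  intro f hf a₀ h₁ h₂
  obtain ⟨u, hu⟩ := h₂.exists_right_inv
  obtain ⟨S, hsS, hfin⟩ := h (insert a₀ (insert u f.coeffs))
  have ha₀S : a₀ ∈ S := hsS (by simp)
  have huS : u ∈ S := hsS (by simp)
  have hcS : (f.coeffs : Set R') ⊆ S := fun c hc => hsS (by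
    simp only [Finset.coe_insert, Set.mem_insert_iff, Finset.mem_coe]
    exact Or.inr (Or.inr hc))
  haveI : IsLocalRing S := Groth.Agent.Lib.Helper28.GeomRed.isLocalRing_of_finite_of_isDomain R S
  haveI : HenselianLocalRing S := Groth.Agent.Lib.Helper24G0.henselian_of_finite R S
  -- the inclusion is local
  have hintS : (S.val : S →+* R').IsIntegral := by
    intro x
    have : IsIntegral R x := hint.isIntegral x
    exact IsIntegral.tower_top this
  haveI hloc : IsLocalHom (S.val : S →+* R') := hintS.isLocalHom Subtype.val_injective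
  -- lift f
  have hlift : f ∈ lifts (S.val : S →+* R') := by
    rw [lifts_iff_coeffs_subset_range]
    intro c hc
    exact ⟨⟨c, hcS hc⟩, rfl⟩
  obtain ⟨g, hgf, hgdeg, hgm⟩ := lifts_and_natDegree_eq_and_monic hlift hf
  have hev : ∀ (q : S[X]) (x : S), ((q.eval x : S) : R') = (q.map (S.val : S →+* R')).eval (x : R') := by
    intro q x
    rw [Polynomial.eval_map]
    exact (Polynomial.hom_eval₂ q (RingHom.id S) (S.val : S →+* R') x)
  have h1 : g.eval ⟨a₀, ha₀S⟩ ∈ maximalIdeal S := by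
    rw [mem_maximalIdeal, mem_nonunits_iff]
    intro hunit
    have h3 : IsUnit ((S.val : S →+* R') (g.eval ⟨a₀, ha₀S⟩)) := hunit.map _
    have h4 : (S.val : S →+* R') (g.eval ⟨a₀, ha₀S⟩) = f.eval a₀ := by
      show ((g.eval ⟨a₀, ha₀S⟩ : S) : R') = _
      rw [hev, hgf]
    rw [h4] at h3
    exact (mem_maximalIdeal _).1 h₁ h3
  have h2 : IsUnit (g.derivative.eval ⟨a₀, ha₀S⟩) := by
    refine IsUnit.of_mul_eq_one ⟨u, huS⟩ ?_
    apply Subtype.val_injective
    show ((g.derivative.eval ⟨a₀, ha₀S⟩ : S) : R') * u = 1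
    rw [hev, ← Polynomial.derivative_map, hgf]
    exact hu
  obtain ⟨a, ha, haa₀⟩ := HenselianLocalRing.is_henselian g hgm ⟨a₀, ha₀S⟩ h1 h2
  refine ⟨(a : R'), ?_, ?_⟩
  · rw [Polynomial.IsRoot.def, ← hgf, ← hev, ha.eq_zero]
    rfl
  · rw [mem_maximalIdeal, mem_nonunits_iff] at haa₀ ⊢
    intro hunit
    apply haa₀
    have : IsUnit ((S.val : S →+* R') (a - ⟨a₀, ha₀S⟩)) := hunit
    exact (isUnit_map_iff (S.val : S →+* R') _).1 this

end Groth.Agent.Lib.Helper14DvrPerf


namespace Groth.Agent.Lib.Helper14DvrPerf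

open Polynomial IsLocalRing

/-- transfer of a subalgebra of `Ω` contained in the subring `A` to a subalgebra of `A`. -/
theorem transfer_sub {R Ω : Type u} [CommRing R] [Field Ω] [Algebra R Ω] (A : Subring Ω)
    [Algebra R A] (hcompat : ∀ r : R, ((algebraMap R A r : A) : Ω) = algebraMap R Ω r)
    (S : Subalgebra R Ω) (hS : (S : Set Ω) ⊆ A) :
    ∃ (S' : Subalgebra R A), (∀ x : A, x ∈ S' ↔ (x : Ω) ∈ S) ∧ Nonempty (S' ≃ₗ[R] S) := by
  let valA : A →ₐ[R] Ω := { A.subtype with commutes' := hcompat }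
  refine ⟨S.comap valA, fun x => Iff.rfl, ⟨?_⟩⟩
  let g : S.comap valA →ₐ[R] S :=
    { toFun := fun x => ⟨(x.1 : Ω), x.2⟩
      map_one' := rfl
      map_mul' := fun _ _ => rfl
      map_zero' := rfl
      map_add' := fun _ _ => rfl
      commutes' := fun r => Subtype.ext (hcompat r) }
  have hg : Function.Bijective g := by
    constructor
    · intro x y hxy
      apply Subtype.ext
      apply Subtype.ext
      exact congrArg (fun z : S => (z : Ω)) hxy
    · intro y
      exact ⟨⟨⟨y.1, hS y.2⟩, y.2⟩, rfl⟩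
  exact (AlgEquiv.ofBijective g hg).toLinearEquiv

end Groth.Agent.Lib.Helper14DvrPerf


namespace Groth.Agent.Lib.Helper14DvrPerf

open Polynomial IsLocalRing Groth.Agent.Lib.Helper14DvrExt

set_option maxHeartbeats 1600000 in
theorem main2 (R : Type u) [CommRing R] [IsDomain R] [IsDiscreteValuationRing R]
    [HenselianLocalRing R] :
    ∃ (R' : Type u) (_ : CommRing R') (_ : IsDomain R') (_ : IsDiscreteValuationRing R')
      (_ : HenselianLocalRing R') (_ : Algebra R R'),
      Function.Injective (algebraMap R R') ∧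
      Ideal.map (algebraMap R R') (maximalIdeal R) = maximalIdeal R' ∧
      (∀ s : Finset R', ∃ S : Subalgebra R R', (↑s : Set R') ⊆ ↑S ∧ Module.Finite R S ∧
        Module.Free R S ∧ ∃ m : ℕ, Module.finrank R S = ringExpChar (ResidueField R) ^ m) ∧
      (∀ y : R', ∃ z : R', z ^ ringExpChar (ResidueField R) - y ∈ maximalIdeal R') ∧
      (∀ y : R', ∃ (m : ℕ) (z : R),
        algebraMap R R' z - y ^ (ringExpChar (ResidueField R) ^ m) ∈ maximalIdeal R') := by
  classical
  set p := ringExpChar (ResidueField R) with hp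
  haveI : ExpChar (ResidueField R) p := ringExpChar.expChar _
  haveI : ExpChar (AlgebraicClosure (ResidueField R)) p :=
    expChar_of_injective_algebraMap
      (algebraMap (ResidueField R) (AlgebraicClosure (ResidueField R))).injective p
  haveI : PerfectRing (AlgebraicClosure (ResidueField R)) p := inferInstance
  let k' := ↥(perfectClosure (ResidueField R) (AlgebraicClosure (ResidueField R)))
  haveI : PerfectRing k' p := perfectClosure.perfectRing _ _ p
  have hpi : ∀ a : k', ∃ n : ℕ, a ^ p ^ n ∈ (algebraMap (ResidueField R) k').range := by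
    intro a
    obtain ⟨n, c, hc⟩ := (mem_perfectClosure_iff_pow_mem p).1 a.2
    exact ⟨n, c, Subtype.ext hc⟩
  obtain ⟨ϖ, hϖ⟩ := IsDiscreteValuationRing.exists_irreducible R
  have hinjΩ : Function.Injective (algebraMap R (AlgebraicClosure (FractionRing R))) :=
    algebraMap_injective' (K := FractionRing R)
  haveI : FaithfulSMul R (AlgebraicClosure (FractionRing R)) :=
    (faithfulSMul_iff_algebraMap_injective _ _).2 hinjΩ
  obtain ⟨W, hW, ι, hmax, hι⟩ := exists_setup R k' (AlgebraicClosure (FractionRing R))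
  have hπ : algebraMap R (AlgebraicClosure (FractionRing R)) ϖ ∈ W.nonunits :=
    hmax ϖ ((mem_maximalIdeal _).2 hϖ.not_isUnit)
  obtain ⟨A, hAmax⟩ := exists_maximal2 (K := FractionRing R) p hϖ hW hι
  have hA : Good (FractionRing R) W ι ϖ A := hAmax.prop.1
  have hFin : FinP (R := R) p A := hAmax.prop.2
  haveI : IsDiscreteValuationRing A := isDVR hA hϖ hπ
  have hsurj : ∀ a : k', ∃ x : W, (x : AlgebraicClosure (FractionRing R)) ∈ A ∧
      residue W x = ι a := by
    intro a
    by_contra hne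
    push Not at hne
    obtain ⟨A', hA', hlt⟩ := exists_lt2 p hAmax.prop hϖ hπ hW hι hpi a hne
    exact (hAmax.not_prop_of_gt hlt) hA'
  obtain ⟨hφloc, hmap, e, he⟩ := good_residue_iso hA hϖ hπ hW hι hsurj
  set φ : R →+* A := (algebraMap R (AlgebraicClosure (FractionRing R))).codRestrict A hA.base
    with hφ
  letI : Algebra R A := φ.toAlgebra
  have hcompat : ∀ r : R, ((algebraMap R A r : A) : AlgebraicClosure (FractionRing R)) =
      algebraMap R _ r := fun r => rfl
  -- (1)
  have h1 : ∀ s : Finset A, ∃ S : Subalgebra R A, (↑s : Set A) ⊆ ↑S ∧ Module.Finite R S ∧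
      Module.Free R S ∧ ∃ m : ℕ, Module.finrank R S = p ^ m := by
    intro s
    obtain ⟨S, hsS, hSA, hfin, hfree, m, hm⟩ := hFin (s.image Subtype.val) (by
      intro x hx
      rw [Finset.coe_image] at hx
      obtain ⟨y, -, rfl⟩ := hx
      exact y.2)
    obtain ⟨S', hS', ⟨l⟩⟩ := transfer_sub A hcompat S hSA
    refine ⟨S', ?_, Module.Finite.equiv l.symm, Module.Free.of_equiv l.symm, m, ?_⟩
    · intro x hx
      rw [SetLike.mem_coe, hS']
      apply hsS
      rw [Finset.coe_image]
      exact ⟨x, hx, rfl⟩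
    · rw [LinearEquiv.finrank_eq l, hm]
  haveI : HenselianLocalRing A := henselian_of_directed_union R A (fun s => by
    obtain ⟨S, hs, hfin, -⟩ := h1 s
    exact ⟨S, hs, hfin⟩)
  refine ⟨A, inferInstance, inferInstance, inferInstance, inferInstance, inferInstance,
    ?_, hmap, h1, ?_, ?_⟩
  · intro x y hxy
    exact hinjΩ (congrArg Subtype.val hxy)
  · intro y
    obtain ⟨c, hc⟩ := surjective_frobenius k' p (e (residue A y))
    obtain ⟨z, hz⟩ := residue_surjective (e.symm c)
    refine ⟨z, ?_⟩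
    rw [← residue_eq_zero_iff, map_sub, map_pow, hz, ← map_pow, ← frobenius_def, hc,
      e.symm_apply_apply, sub_self]
  · intro y
    obtain ⟨n, c, hc⟩ := hpi (e (residue A y))
    obtain ⟨z, rfl⟩ := residue_surjective c
    refine ⟨n, z, ?_⟩
    rw [← residue_eq_zero_iff, map_sub, map_pow, sub_eq_zero]
    apply e.injective
    rw [map_pow, ← hc]
    exact he z

end Groth.Agent.Lib.Helper14DvrPerf
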