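import Mathlib

set_option autoImplicit false
set_option linter.unusedVariables false
set_option linter.unusedSectionVars false
set_option linter.style.haveILetI false

namespace Groth.Agent.Helper14EngelFG

open scoped TensorProduct

universe u

section engel

variable {A : Type u} [CommRing A] {L : Type u} [LieRing L] [LieAlgebra A L]

/-- structure constants -/
theorem exists_structure_consts (s : Finset L) (hs : Submodule.span A (s : Set L) = ⊤) :
    ∃ c : L → L → L → A, ∀ x y : L, ⁅x, y⁆ = ∑ z ∈ s, c x y z • z := by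
  have h : ∀ x y : L, ∃ f : L → A, ⁅x, y⁆ = ∑ z ∈ s, f z • z := by
    intro x y
    have hm : ⁅x, y⁆ ∈ Submodule.span A (s : Set L) := by rw [hs]; trivial
    obtain ⟨f, -, hf⟩ := (Submodule.mem_span_finset.mp hm)
    exact ⟨f, hf.symm⟩
  choose c hc using h
  exact ⟨c, hc⟩

/-- `L` as a Lie algebra over a subalgebra of `A`. -/
@[reducible] def lieAlgSub (A₀ : Subalgebra ℤ A) : LieAlgebra A₀ L :=
  { lie_smul := fun t x y => lie_smul (t : A) x y }

attribute [local instance] lieAlgSub

/-- the `A₀`-span of `s` as a Lie subalgebra -/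
def subLie (A₀ : Subalgebra ℤ A) (s : Finset L)
    (hc : ∀ x ∈ s, ∀ y ∈ s, ⁅x, y⁆ ∈ Submodule.span A₀ (s : Set L)) : LieSubalgebra A₀ L :=
  { Submodule.span A₀ (s : Set L) with
    lie_mem' := by
      intro x y hx hy
      change x ∈ Submodule.span A₀ (s : Set L) at hx
      change y ∈ Submodule.span A₀ (s : Set L) at hy
      change ⁅x, y⁆ ∈ Submodule.span A₀ (s : Set L)
      induction hx using Submodule.span_induction with
      | mem x hx =>
        induction hy using Submodule.span_induction with
        | mem y hy => exact hc x hx y hy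
        | zero => simp
        | add y y' _ _ h1 h2 => rw [lie_add]; exact add_mem h1 h2
        | smul a y _ h1 => rw [lie_smul]; exact Submodule.smul_mem _ _ h1
      | zero => simp
      | add x x' _ _ h1 h2 => rw [add_lie]; exact add_mem h1 h2
      | smul a x _ h1 => rw [smul_lie]; exact Submodule.smul_mem _ _ h1 }

theorem core (A₀ : Subalgebra ℤ A) [IsNoetherianRing A₀] (s : Finset L)
    (hs : Submodule.span A (s : Set L) = ⊤)
    (hc : ∀ x ∈ s, ∀ y ∈ s, ⁅x, y⁆ ∈ Submodule.span A₀ (s : Set L))
    (h : ∀ x : L, IsNilpotent (LieAlgebra.ad A L x)) : LieRing.IsNilpotent L := by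
  set L₀ : LieSubalgebra A₀ L := subLie A₀ s hc with hL₀
  haveI : IsNoetherian A₀ L₀ := by
    change IsNoetherian A₀ (Submodule.span A₀ (s : Set L))
    exact isNoetherian_of_fg_of_noetherian _ (Submodule.fg_span s.finite_toSet)
  have hE := LieAlgebra.isEngelian_of_isNoetherian (R := A₀) (L := L₀) L ?_
  · obtain ⟨k, hk⟩ := (LieModule.isNilpotent_iff A₀ L₀ L).mp hE
    rw [LieRing.IsNilpotent, LieModule.isNilpotent_iff A L L]
    refine ⟨k, ?_⟩
    have key : ∀ j, ((LieModule.lowerCentralSeries A L L j : LieSubmodule A L L) : Set L) ⊆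
        (LieModule.lowerCentralSeries A₀ L₀ L j : LieSubmodule A₀ L₀ L) := by
      intro j
      induction j with
      | zero => simp
      | succ j ih =>
        intro m hm
        have hm' : m ∈ LieSubmodule.toSubmodule (LieModule.lowerCentralSeries A L L (j+1)) := hm
        rw [LieModule.lowerCentralSeries_succ, LieSubmodule.lieIdeal_oper_eq_linear_span'] at hm'
        clear hm
        suffices H : ∀ a : A, a • m ∈
            (LieModule.lowerCentralSeries A₀ L₀ L (j+1) : LieSubmodule A₀ L₀ L) by
          simpa using H 1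
        induction hm' using Submodule.span_induction with
        | mem m hm =>
          obtain ⟨x, -, n, hn, rfl⟩ := hm
          intro a
          rw [← lie_smul]
          have hx : x ∈ Submodule.span A (s : Set L) := by rw [hs]; trivial
          have hn' : a • n ∈ (LieModule.lowerCentralSeries A L L j : LieSubmodule A L L) :=
            (LieModule.lowerCentralSeries A L L j).smul_mem a hn
          generalize a • n = n' at hn'
          induction hx using Submodule.span_induction generalizing n' with
          | mem x hx =>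
            rw [LieModule.lowerCentralSeries_succ]
            exact LieSubmodule.lie_mem_lie
              (x := (⟨x, Submodule.subset_span hx⟩ : L₀)) trivial (ih hn')
          | zero => simp
          | add x x' _ _ h1 h2 => rw [add_lie]; exact add_mem (h1 _ hn') (h2 _ hn')
          | smul b x _ h1 =>
            rw [smul_lie, ← lie_smul]
            exact h1 _ ((LieModule.lowerCentralSeries A L L j).smul_mem b hn')
        | zero => simp
        | add m m' _ _ h1 h2 => intro a; rw [smul_add]; exact add_mem (h1 a) (h2 a)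
        | smul b m _ h1 => intro a; rw [smul_smul]; exact h1 _
    rw [eq_bot_iff]
    intro x hx
    have := key k hx
    rw [hk] at this
    simpa using this
  · intro x
    obtain ⟨n, hn⟩ := h (x : L)
    refine ⟨n, ?_⟩
    apply LinearMap.ext
    intro m
    have := LinearMap.congr_fun hn m
    rw [Module.End.pow_apply] at this ⊢
    have e : (⇑((LieModule.toEnd A₀ L₀ L) x) : L → L) = ⇑((LieAlgebra.ad A L) (x : L)) := by
      funext y; rfl
    rw [e]
    simpa using this

theorem engel_fg [Module.Finite A L]
    (h : ∀ x : L, IsNilpotent (LieAlgebra.ad A L x)) : LieRing.IsNilpotent L := by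
  obtain ⟨s, hs⟩ := (Module.finite_def.mp ‹Module.Finite A L› : (⊤ : Submodule A L).FG)
  obtain ⟨c, hc⟩ := exists_structure_consts (A := A) s hs
  classical
  let T : Finset A := (s ×ˢ s ×ˢ s).image (fun t => c t.1 t.2.1 t.2.2)
  let A₀ : Subalgebra ℤ A := Algebra.adjoin ℤ (T : Set A)
  haveI : Algebra.FiniteType ℤ A₀ :=
    (Subalgebra.fg_iff_finiteType _).mp (Subalgebra.fg_adjoin_finset T)
  haveI : IsNoetherianRing A₀ := Algebra.FiniteType.isNoetherianRing ℤ A₀
  refine core A₀ s hs ?_ h
  intro x hx y hy
  rw [hc x y]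
  refine Submodule.sum_mem _ (fun z hz => ?_)
  have hmem : c x y z ∈ A₀ := by
    apply Algebra.subset_adjoin
    rw [Finset.mem_coe, Finset.mem_image]
    exact ⟨(x, y, z), by simp [hx, hy, hz], rfl⟩
  have : c x y z • z = (⟨c x y z, hmem⟩ : A₀) • z := rfl
  rw [this]
  exact Submodule.smul_mem _ _ (Submodule.subset_span hz)

end engel

section support

variable {B : Type u} [CommRing B] {M : Type u} [AddCommGroup M] [Module B M] [Module.Finite B M]

/-- If `b` acts nilpotently on every fibre `κ(Q) ⊗ M` (on pure tensors `1 ⊗ m`), it acts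
nilpotently on `M`. -/
theorem exists_pow_smul_eq_zero (b : B)
    (h : ∀ Q : PrimeSpectrum B, ∃ n : ℕ, ∀ m : M,
      (1 : Q.asIdeal.ResidueField) ⊗ₜ[B] (b ^ n • m) = 0) :
    ∃ n : ℕ, ∀ m : M, b ^ n • m = 0 := by
  have hb : b ∈ (Module.annihilator B M).radical := by
    rw [Ideal.radical_eq_sInf, Ideal.mem_sInf]
    rintro Q ⟨hQ, hQp⟩
    let Q' : PrimeSpectrum B := ⟨Q, hQp⟩
    have hsupp : Q' ∈ Module.support B M := (Module.mem_support_iff_of_finite).mpr hQ
    have hnt : Nontrivial (Q'.asIdeal.ResidueField ⊗[B] M) :=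
      (Module.mem_support_iff_nontrivial_residueField_tensorProduct Q').mp hsupp
    obtain ⟨n, hn⟩ := h Q'
    have hall : ∀ t : Q'.asIdeal.ResidueField ⊗[B] M,
        (algebraMap B Q'.asIdeal.ResidueField b) ^ n • t = 0 := by
      intro t
      induction t using TensorProduct.induction_on with
      | zero => simp
      | tmul c m =>
        rw [TensorProduct.smul_tmul', smul_eq_mul, ← map_pow, ← Algebra.smul_def,
          TensorProduct.smul_tmul]
        have : c ⊗ₜ[B] (b ^ n • m) = c • ((1 : Q'.asIdeal.ResidueField) ⊗ₜ[B] (b ^ n • m)) := by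
          rw [TensorProduct.smul_tmul', smul_eq_mul, mul_one]
        rw [this, hn, smul_zero]
      | add x y hx hy => rw [smul_add, hx, hy, add_zero]
    obtain ⟨t, ht⟩ := exists_ne (0 : Q'.asIdeal.ResidueField ⊗[B] M)
    have h0 := hall t
    rw [smul_eq_zero] at h0
    rcases h0 with h0 | h0
    · have h1 : algebraMap B Q'.asIdeal.ResidueField b = 0 := eq_zero_of_pow_eq_zero h0
      exact (Ideal.algebraMap_residueField_eq_zero).mp h1
    · exact absurd h0 ht
  obtain ⟨n, hn⟩ := hb
  exact ⟨n, fun m => Module.mem_annihilator.mp hn m⟩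

end support

section endo

open Polynomial

variable {A : Type u} [CommRing A] {M : Type u} [AddCommGroup M] [Module A M] [Module.Finite A M]

theorem isNilpotent_of_fibres (u : Module.End A M)
    (h : ∀ p : PrimeSpectrum A, ∃ n : ℕ, ∀ m : M,
      (1 : p.asIdeal.ResidueField) ⊗ₜ[A] ((u ^ n) m) = 0) : IsNilpotent u := by
  have key : ∃ n : ℕ, ∀ m : Module.AEval' u, (X : A[X]) ^ n • m = 0 := by
    apply exists_pow_smul_eq_zero
    intro Q
    let p : PrimeSpectrum A := PrimeSpectrum.comap (Polynomial.C : A →+* A[X]) Q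
    obtain ⟨n, hn⟩ := h p
    refine ⟨n, fun m' => ?_⟩
    obtain ⟨m, rfl⟩ := (Module.AEval'.of u).surjective m'
    rw [Module.AEval'.X_pow_smul_of]
    let φ : p.asIdeal.ResidueField →+* Q.asIdeal.ResidueField :=
      Ideal.ResidueField.map p.asIdeal Q.asIdeal (Polynomial.C : A →+* A[X]) rfl
    let f : p.asIdeal.ResidueField →+ M →+ (Q.asIdeal.ResidueField ⊗[A[X]] Module.AEval' u) :=
      { toFun := fun c =>
          { toFun := fun m => (φ c) ⊗ₜ[A[X]] (Module.AEval'.of u m)
            map_zero' := by simp
            map_add' := by intros; simp [TensorProduct.tmul_add] }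
        map_zero' := by ext; simp
        map_add' := by intros; ext; simp [TensorProduct.add_tmul] }
    let Φ := TensorProduct.liftAddHom (R := A) f (by
      intro a c m
      change φ (a • c) ⊗ₜ[A[X]] (Module.AEval'.of u m) = φ c ⊗ₜ[A[X]] (Module.AEval'.of u (a • m))
      have h1 : φ (a • c) = (Polynomial.C a : A[X]) • φ c := by
        rw [Algebra.smul_def, map_mul, Algebra.smul_def]
        congr 1
        exact Ideal.ResidueField.map_algebraMap p.asIdeal Q.asIdeal _ rfl a
      have h2 : Module.AEval'.of u (a • m) = (Polynomial.C a : A[X]) • Module.AEval'.of u m := by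
        rw [map_smul]
        exact (Module.AEval.C_smul (a := u) a _).symm
      rw [h1, h2, TensorProduct.smul_tmul])
    have := congrArg Φ (hn m)
    simpa [Φ, f, φ] using this
  obtain ⟨n, hn⟩ := key
  refine ⟨n, ?_⟩
  apply LinearMap.ext
  intro m
  have := hn (Module.AEval'.of u m)
  rw [Module.AEval'.X_pow_smul_of] at this
  simpa using this

end endo

section main

variable {A : Type u} [CommRing A] {L : Type u} [LieRing L] [LieAlgebra A L]

theorem isNilpotent_ad_of_fibres [Module.Finite A L]
    (h : ∀ p : PrimeSpectrum A, LieRing.IsNilpotent (p.asIdeal.ResidueField ⊗[A] L)) (x : L) :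
    IsNilpotent (LieAlgebra.ad A L x) := by
  apply isNilpotent_of_fibres
  intro p
  haveI := h p
  obtain ⟨k, hk⟩ := LieModule.exists_forall_pow_toEnd_eq_zero p.asIdeal.ResidueField
    (p.asIdeal.ResidueField ⊗[A] L) (p.asIdeal.ResidueField ⊗[A] L)
  refine ⟨k, fun m => ?_⟩
  have h1 : ∀ (j : ℕ) (m : L),
      ((LieModule.toEnd p.asIdeal.ResidueField (p.asIdeal.ResidueField ⊗[A] L)
        (p.asIdeal.ResidueField ⊗[A] L) ((1 : p.asIdeal.ResidueField) ⊗ₜ[A] x)) ^ j)
        ((1 : p.asIdeal.ResidueField) ⊗ₜ[A] m) =
      (1 : p.asIdeal.ResidueField) ⊗ₜ[A] ((LieAlgebra.ad A L x ^ j) m) := by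
    intro j
    induction j with
    | zero => intro m; simp
    | succ j ih =>
      intro m
      rw [pow_succ, Module.End.mul_apply, pow_succ, Module.End.mul_apply, ← ih]
      congr 1
      simp
  rw [← h1 k m, hk]
  rfl

theorem main [Module.Finite A L] :
    ((∀ p : PrimeSpectrum A, LieRing.IsNilpotent (p.asIdeal.ResidueField ⊗[A] L)) →
      LieRing.IsNilpotent L) ∧
    ((∀ x : L, IsNilpotent (LieAlgebra.ad A L x)) → LieRing.IsNilpotent L) :=
  ⟨fun h => engel_fg (isNilpotent_ad_of_fibres h), engel_fg⟩

end main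

end Groth.Agent.Helper14EngelFG
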