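/-
Helper library (helper4): finite étale covers of a normal integral scheme.
* `mem_range_of_isIntegral`: an étale algebra over a normal domain is integrally closed in its
  localization at the nonzero elements of the base.
* `isIso_desc`: criterion for `Y` to be the normalization of `X` in `Z ⟶ Y`.
* `isPushout_sections`: sections of the generic fibre of an affine morphism.
* `isIso_normalizationDesc`: a finite étale cover of a normal integral scheme is the normalization
  of the base in the generic fibre.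
* `exists_extension`, `full_restrict_genericPoint`.
-/
import Groth.Agent.Lib.Helper4EtNormalSch

set_option autoImplicit false
set_option linter.style.haveILetI false
universe u

open AlgebraicGeometry CategoryTheory CategoryTheory.Limits
open Groth.Agent.Lib.Helper3.EtNormal
open Groth.Agent.Lib.Helper4.NormIso (appLE_congr_hom)

namespace Groth.Agent.Lib.Helper4.FEtNormal

theorem algebraMapSubmonoid_le_nonZeroDivisors_of_flat (A B : Type*) [CommRing A] [CommRing B]
    [Algebra A B] [Module.Flat A B] :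
    Algebra.algebraMapSubmonoid B (nonZeroDivisors A) ≤ nonZeroDivisors B := by
  rintro _ ⟨a, ha, rfl⟩
  have hreg : IsSMulRegular B a := Module.Flat.isSMulRegular_of_nonZeroDivisors ha
  rw [mem_nonZeroDivisors_iff_right]
  intro z hz
  apply hreg
  simp only [smul_zero]
  rw [Algebra.smul_def, mul_comm, hz]

theorem mem_range_of_isIntegral
    (A B P : Type u) [CommRing A] [IsDomain A] [IsIntegrallyClosed A] [CommRing B] [Algebra A B]
    [Algebra.Etale A B] [CommRing P] [Algebra B P]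
    [IsLocalization (Algebra.algebraMapSubmonoid B (nonZeroDivisors A)) P]
    (x : P) (hx : IsIntegral B x) : x ∈ Set.range (algebraMap B P) := by
  set M := Algebra.algebraMapSubmonoid B (nonZeroDivisors A) with hMdef
  have hM : M ≤ nonZeroDivisors B := algebraMapSubmonoid_le_nonZeroDivisors_of_flat A B
  obtain ⟨b, ⟨s, hs⟩, rfl⟩ := IsLocalization.exists_mk'_eq M x
  let I : Ideal B := (Ideal.span {s}).colon (Ideal.span {b} : Set B)
  by_contra hcon
  have hI : I ≠ ⊤ := by
    intro h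
    apply hcon
    have h1 : (1 : B) ∈ I := h ▸ Submodule.mem_top
    rw [Submodule.mem_colon] at h1
    have h2 := h1 b (Ideal.subset_span rfl)
    rw [Ideal.mem_span_singleton'] at h2
    obtain ⟨d, hd⟩ := h2
    refine ⟨d, ?_⟩
    rw [IsLocalization.eq_mk'_iff_mul_eq, ← map_mul, hd]
    simp
  obtain ⟨q, hq, hIq⟩ := Ideal.exists_le_maximal I hI
  haveI := hq.isPrime
  obtain ⟨hd, hic⟩ := isDomain_and_isIntegrallyClosed_localization A B q
  let Bq := Localization.AtPrime q
  let F := FractionRing Bq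
  have hinjBF : Function.Injective (algebraMap Bq F) := IsFractionRing.injective Bq F
  have hunit : ∀ m : M, IsUnit ((Algebra.ofId B F) m) := by
    rintro ⟨m, hm⟩
    rw [isUnit_iff_ne_zero]
    show algebraMap B F m ≠ 0
    rw [IsScalarTower.algebraMap_apply B Bq F]
    intro h0
    rw [← map_zero (algebraMap Bq F)] at h0
    have h1 := hinjBF h0
    obtain ⟨u, hu⟩ := (IsLocalization.map_eq_zero_iff q.primeCompl Bq m).mp h1
    have := hM hm
    rw [mem_nonZeroDivisors_iff] at this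
    have hu0 : (u : B) = 0 := this.2 _ hu
    exact u.2 (hu0 ▸ q.zero_mem)
  let φ : P →ₐ[B] F := IsLocalization.liftAlgHom (M := M) (f := Algebra.ofId B F) hunit
  have hφx : IsIntegral B (φ (IsLocalization.mk' P b ⟨s, hs⟩)) := hx.map φ
  have hφx' : IsIntegral Bq (φ (IsLocalization.mk' P b ⟨s, hs⟩)) := hφx.tower_top
  obtain ⟨y, hy⟩ := IsIntegrallyClosed.isIntegral_iff.mp hφx'
  obtain ⟨c, ⟨t, ht⟩, rfl⟩ := IsLocalization.exists_mk'_eq q.primeCompl y
  have h3 : φ (IsLocalization.mk' P b ⟨s, hs⟩) * algebraMap B F s = algebraMap B F b := by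
    have : algebraMap B F s = φ (algebraMap B P s) := (φ.commutes s).symm
    rw [this, ← map_mul]
    have h4 : IsLocalization.mk' P b ⟨s, hs⟩ * (algebraMap B P) s = algebraMap B P b :=
      IsLocalization.mk'_spec P b ⟨s, hs⟩
    rw [h4, φ.commutes]
  rw [← hy, IsScalarTower.algebraMap_apply B Bq F, IsScalarTower.algebraMap_apply B Bq F,
    ← map_mul] at h3
  have h5 := hinjBF h3
  -- mk' c t * s = b in Bq
  have h6 : algebraMap B Bq (c * s) = algebraMap B Bq (b * t) := by
    rw [map_mul, map_mul, ← h5]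
    have h7 : IsLocalization.mk' Bq c ⟨t, ht⟩ * algebraMap B Bq t = algebraMap B Bq c :=
      IsLocalization.mk'_spec Bq c ⟨t, ht⟩
    rw [← h7]; ring
  obtain ⟨u, hu⟩ := (IsLocalization.eq_iff_exists q.primeCompl Bq).mp h6
  have hmem : (u : B) * t ∈ I := by
    rw [Submodule.mem_colon]
    intro z hz
    rw [SetLike.mem_coe, Ideal.mem_span_singleton'] at hz
    obtain ⟨w, rfl⟩ := hz
    rw [Ideal.mem_span_singleton']
    refine ⟨w * u * c, ?_⟩
    rw [smul_eq_mul]
    linear_combination w * hu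
  have := hIq hmem
  exact (hq.isPrime.mem_or_mem this).elim u.2 ht

section General

variable {X Y Z : Scheme.{u}} (h : Z ⟶ Y) (f : Y ⟶ X) [IsIntegralHom f]
  [QuasiCompact (h ≫ f)] [QuasiSeparated (h ≫ f)]

theorem desc_preimage (U : X.Opens) :
    ((h ≫ f).normalizationDesc h f rfl) ⁻¹ᵁ (f ⁻¹ᵁ U) =
      (h ≫ f).fromNormalization ⁻¹ᵁ U := by
  rw [← Scheme.Hom.comp_preimage, Scheme.Hom.normalizationDesc_comp]

theorem desc_appLE_bijective (U : X.Opens) (hU : IsAffineOpen U)
    (hinj : Function.Injective (h.app (f ⁻¹ᵁ U)).hom)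
    (hcl : ∀ x : Γ(Z, h ⁻¹ᵁ (f ⁻¹ᵁ U)), (h.app (f ⁻¹ᵁ U)).hom.IsIntegralElem x →
      x ∈ Set.range (h.app (f ⁻¹ᵁ U)).hom) :
    Function.Bijective (((h ≫ f).normalizationDesc h f rfl).appLE (f ⁻¹ᵁ U)
      ((h ≫ f).fromNormalization ⁻¹ᵁ U) (desc_preimage h f U).ge).hom := by
  set g := h ≫ f with hg
  set d := g.normalizationDesc h f rfl with hd
  set τ := g.toNormalization with hτ
  set ν := g.fromNormalization with hν
  set W := f ⁻¹ᵁ U with hW
  have hτd : τ ≫ d = h := Scheme.Hom.toNormalization_normalizationDesc _ _ _ _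
  have hle : g ⁻¹ᵁ U ≤ τ ⁻¹ᵁ (ν ⁻¹ᵁ U) := by
    rw [← Scheme.Hom.comp_preimage, Scheme.Hom.toNormalization_fromNormalization]
  have hfac : d.appLE W (ν ⁻¹ᵁ U) (desc_preimage h f U).ge ≫ τ.appLE (ν ⁻¹ᵁ U) (g ⁻¹ᵁ U) hle =
      h.app W := by
    rw [Scheme.Hom.appLE_comp_appLE, appLE_congr_hom hτd, Scheme.Hom.app_eq_appLE]
    rfl
  have hfac' : ∀ c, (τ.appLE (ν ⁻¹ᵁ U) (g ⁻¹ᵁ U) hle).hom
      ((d.appLE W (ν ⁻¹ᵁ U) (desc_preimage h f U).ge).hom c) = (h.app W).hom c := by
    intro c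
    rw [← hfac]; rfl
  letI algAL := (g.app U).hom.toAlgebra
  have hval := g.normalizationObjIso_hom_val hU
  have hval' : ∀ b, (τ.appLE (ν ⁻¹ᵁ U) (g ⁻¹ᵁ U) hle).hom b =
      ((g.normalizationObjIso hU).hom.hom b).1 := by
    intro b
    have := congrArg (fun k => k.hom b) hval
    exact this.symm
  have hτinj : Function.Injective (τ.appLE (ν ⁻¹ᵁ U) (g ⁻¹ᵁ U) hle).hom := by
    intro b₁ b₂ hb
    rw [hval', hval'] at hb
    exact (ConcreteCategory.bijective_of_isIso (g.normalizationObjIso hU).hom).injective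
      (Subtype.ext hb)
  constructor
  · intro c₁ c₂ hc
    apply hinj
    rw [← hfac', ← hfac', hc]
  · intro b
    have hint : IsIntegral Γ(X, U) ((τ.appLE (ν ⁻¹ᵁ U) (g ⁻¹ᵁ U) hle).hom b) := by
      rw [hval']
      exact ((g.normalizationObjIso hU).hom.hom b).2
    letI algCL : Algebra Γ(Y, W) Γ(Z, g ⁻¹ᵁ U) := (h.app W).hom.toAlgebra
    letI algAC := (f.app U).hom.toAlgebra
    haveI : IsScalarTower Γ(X, U) Γ(Y, W) Γ(Z, g ⁻¹ᵁ U) :=
      IsScalarTower.of_algebraMap_eq' (congrArg CommRingCat.Hom.hom (Scheme.Hom.comp_app h f U))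
    have hint' : IsIntegral Γ(Y, W) ((τ.appLE (ν ⁻¹ᵁ U) (g ⁻¹ᵁ U) hle).hom b) :=
      hint.tower_top
    obtain ⟨c, hc⟩ := hcl _ hint'
    refine ⟨c, hτinj ?_⟩
    rw [hfac']
    exact hc

set_option backward.isDefEq.respectTransparency false in
theorem isIso_desc
    (H : ∀ U : X.Opens, IsAffineOpen U → Function.Injective (h.app (f ⁻¹ᵁ U)).hom ∧
      ∀ x : Γ(Z, h ⁻¹ᵁ (f ⁻¹ᵁ U)), (h.app (f ⁻¹ᵁ U)).hom.IsIntegralElem x →
        x ∈ Set.range (h.app (f ⁻¹ᵁ U)).hom) :
    IsIso ((h ≫ f).normalizationDesc h f rfl) := by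
  set d := (h ≫ f).normalizationDesc h f rfl with hd
  rw [← MorphismProperty.isomorphisms.iff]
  apply IsZariskiLocalAtTarget.of_iSup_eq_top (P := MorphismProperty.isomorphisms Scheme)
    (fun U : X.affineOpens => f ⁻¹ᵁ U.1)
  · rw [eq_top_iff]
    intro y _
    obtain ⟨_, ⟨U, hU, rfl⟩, hyU, -⟩ := X.isBasis_affineOpens.exists_subset_of_mem_open
      (Set.mem_univ (f y)) isOpen_univ
    exact TopologicalSpace.Opens.mem_iSup.mpr ⟨⟨U, hU⟩, hyU⟩
  · rintro ⟨U, hU⟩
    haveI : IsAffine (f ⁻¹ᵁ U : Y.Opens) := hU.preimage f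
    rw [HasAffineProperty.iff_of_isAffine (P := MorphismProperty.isomorphisms Scheme)]
    refine ⟨(hU.preimage f).preimage d, ?_⟩
    rw [morphismRestrict_appTop]
    have key : ∀ W : Y.Opens, W = f ⁻¹ᵁ U → IsIso (d.app W) := by
      rintro W rfl
      have h1 := desc_appLE_bijective h f U hU (H U hU).1 (H U hU).2
      rw [← ConcreteCategory.isIso_iff_bijective] at h1
      rw [Scheme.Hom.appLE] at h1
      haveI : IsIso (homOfLE (desc_preimage h f U).ge) :=
        ⟨homOfLE (desc_preimage h f U).le, Subsingleton.elim _ _, Subsingleton.elim _ _⟩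
      exact IsIso.of_isIso_comp_right _ ((h ≫ f).normalization.presheaf.map
        (homOfLE (desc_preimage h f U).ge).op)
    haveI := key ((f ⁻¹ᵁ U).ι ''ᵁ ⊤) (f ⁻¹ᵁ U).ι_image_top
    infer_instance

end General

section Sections

theorem resLE_appTop_topIso {X Y : Scheme.{u}} (f : X ⟶ Y) (U : Y.Opens) (V : X.Opens)
    (e : V ≤ f ⁻¹ᵁ U) :
    (f.resLE U V e).appTop ≫ V.topIso.hom = U.topIso.hom ≫ f.appLE U V e :=
  ((arrowResLEAppIso f U V e).hom.w).symm

theorem presheaf_map_eq_id {X : Scheme.{u}} {U : X.Opens} (i : Opposite.op U ⟶ Opposite.op U) :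
    X.presheaf.map i = 𝟙 _ := by
  rw [Subsingleton.elim i (𝟙 _), X.presheaf.map_id]

variable {X Y : Scheme.{u}} [IsIntegral X] (f : Y ⟶ X)

theorem top_le_preimage (U : X.Opens) (hη : genericPoint X ∈ U) :
    (⊤ : (Spec (X.presheaf.stalk (genericPoint X))).Opens) ≤
      (X.fromSpecStalk (genericPoint X)) ⁻¹ᵁ U := by
  intro z _
  have hz : (X.fromSpecStalk (genericPoint X)) z ∈ Set.range (X.fromSpecStalk (genericPoint X)) :=
    ⟨z, rfl⟩
  rw [Scheme.range_fromSpecStalk] at hz
  exact (hz : _ ⤳ _).mem_open U.2 hη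

theorem isPushout_sections [IsAffineHom f] (U : X.Opens) (hU : IsAffineOpen U)
    (hη : genericPoint X ∈ U) :
    IsPushout (f.app U) (X.presheaf.germ U (genericPoint X) hη)
      ((pullback.fst f (X.fromSpecStalk (genericPoint X))).app (f ⁻¹ᵁ U))
      ((Scheme.ΓSpecIso (X.presheaf.stalk (genericPoint X))).inv ≫
        (pullback.snd f (X.fromSpecStalk (genericPoint X))).appLE ⊤
          ((pullback.fst f (X.fromSpecStalk (genericPoint X))) ⁻¹ᵁ (f ⁻¹ᵁ U)) le_top) := by
  set j := X.fromSpecStalk (genericPoint X) with hj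
  set h := pullback.fst f j with hh
  set s := pullback.snd f j with hs
  have H : IsPullback h s f j := IsPullback.of_hasPullback f j
  have hUY : h ⁻¹ᵁ (f ⁻¹ᵁ U) = h ⁻¹ᵁ (f ⁻¹ᵁ U) ⊓ s ⁻¹ᵁ ⊤ := by simp
  have H' := Scheme.Hom.isPullback_resLE H (US := U) (UT := ⊤) (UX := f ⁻¹ᵁ U)
    (top_le_preimage U hη) le_rfl hUY
  haveI : IsAffine (f ⁻¹ᵁ U).toScheme := hU.preimage f
  haveI : IsAffine U.toScheme := hU
  haveI : IsAffine (⊤ : (Spec (X.presheaf.stalk (genericPoint X))).Opens).toScheme :=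
    isAffineOpen_top _
  have P := isPushout_appTop_of_isPullback H'
  refine P.of_iso U.topIso (f ⁻¹ᵁ U).topIso
    ((⊤ : (Spec (X.presheaf.stalk (genericPoint X))).Opens).topIso ≪≫
      Scheme.ΓSpecIso (X.presheaf.stalk (genericPoint X))) (h ⁻¹ᵁ (f ⁻¹ᵁ U)).topIso ?_ ?_ ?_ ?_
  · rw [resLE_appTop_topIso, Scheme.Hom.appLE_eq_app]
  · rw [Iso.trans_hom, ← Category.assoc, resLE_appTop_topIso, Category.assoc]
    congr 1
    rw [Scheme.Hom.appLE, Scheme.fromSpecStalk_app hη]
    simp only [Category.assoc, ← Functor.map_comp]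
    rw [presheaf_map_eq_id, Category.id_comp, Iso.inv_hom_id, Category.comp_id]
  · rw [resLE_appTop_topIso, Scheme.Hom.appLE_eq_app]
  · rw [resLE_appTop_topIso, Iso.trans_hom, Category.assoc, Iso.hom_inv_id_assoc]

end Sections

section KL

variable {X Y : Scheme.{u}} [IsIntegral X] (f : Y ⟶ X) [IsFinite f] [Etale f]

set_option backward.isDefEq.respectTransparency false in
theorem sections_closed (hX : Pi1.IsNormalScheme X) (U : X.Opens) (hU : IsAffineOpen U) :
    Function.Injective ((pullback.fst f (X.fromSpecStalk (genericPoint X))).app (f ⁻¹ᵁ U)).hom ∧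
      ∀ x, ((pullback.fst f (X.fromSpecStalk (genericPoint X))).app (f ⁻¹ᵁ U)).hom.IsIntegralElem x →
        x ∈ Set.range ((pullback.fst f (X.fromSpecStalk (genericPoint X))).app (f ⁻¹ᵁ U)).hom := by
  by_cases hne : (U : Set X).Nonempty
  · have hη : genericPoint X ∈ U :=
      ((genericPoint_spec X).mem_open_set_iff U.isOpen).mpr (by simpa using hne)
    haveI : Nonempty U := ⟨⟨_, hη⟩⟩
    have P := isPushout_sections f U hU hη
    set h := pullback.fst f (X.fromSpecStalk (genericPoint X)) with hh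
    set inr := (Scheme.ΓSpecIso (X.presheaf.stalk (genericPoint X))).inv ≫
        (pullback.snd f (X.fromSpecStalk (genericPoint X))).appLE ⊤
          (h ⁻¹ᵁ (f ⁻¹ᵁ U)) le_top with hinr
    letI algAB : Algebra Γ(X, U) Γ(Y, f ⁻¹ᵁ U) := (f.app U).hom.toAlgebra
    letI algBP : Algebra Γ(Y, f ⁻¹ᵁ U) Γ(pullback f (X.fromSpecStalk (genericPoint X)), h ⁻¹ᵁ (f ⁻¹ᵁ U)) :=
      (h.app (f ⁻¹ᵁ U)).hom.toAlgebra
    letI algKP : Algebra X.functionField
        Γ(pullback f (X.fromSpecStalk (genericPoint X)), h ⁻¹ᵁ (f ⁻¹ᵁ U)) := inr.hom.toAlgebra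
    letI algAP : Algebra Γ(X, U)
        Γ(pullback f (X.fromSpecStalk (genericPoint X)), h ⁻¹ᵁ (f ⁻¹ᵁ U)) :=
      (f.app U ≫ h.app (f ⁻¹ᵁ U)).hom.toAlgebra
    haveI : IsScalarTower Γ(X, U) Γ(Y, f ⁻¹ᵁ U)
        Γ(pullback f (X.fromSpecStalk (genericPoint X)), h ⁻¹ᵁ (f ⁻¹ᵁ U)) :=
      IsScalarTower.of_algebraMap_eq' rfl
    haveI : IsScalarTower Γ(X, U) X.functionField
        Γ(pullback f (X.fromSpecStalk (genericPoint X)), h ⁻¹ᵁ (f ⁻¹ᵁ U)) :=
      IsScalarTower.of_algebraMap_eq' (congrArg CommRingCat.Hom.hom P.w)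
    have P' : Algebra.IsPushout Γ(X, U) Γ(Y, f ⁻¹ᵁ U) X.functionField
        Γ(pullback f (X.fromSpecStalk (genericPoint X)), h ⁻¹ᵁ (f ⁻¹ᵁ U)) :=
      CommRingCat.isPushout_iff_isPushout.mp P
    haveI : IsDomain Γ(X, U) := IsIntegral.component_integral U
    haveI : IsFractionRing Γ(X, U) X.functionField :=
      functionField_isFractionRing_of_isAffineOpen X U hU
    haveI : IsLocalization (Algebra.algebraMapSubmonoid Γ(Y, f ⁻¹ᵁ U) (nonZeroDivisors Γ(X, U)))
        Γ(pullback f (X.fromSpecStalk (genericPoint X)), h ⁻¹ᵁ (f ⁻¹ᵁ U)) :=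
      (Algebra.isLocalization_iff_isPushout (nonZeroDivisors Γ(X, U)) X.functionField).mpr P'
    haveI : IsIntegrallyClosed Γ(X, U) :=
      Groth.Agent.Lib.Helper4.NormIso.isIntegrallyClosed_sections hX U hU
    have het : (f.appLE U (f ⁻¹ᵁ U) le_rfl).hom.Etale := Etale.etale_appLE f hU (hU.preimage f) le_rfl
    rw [Scheme.Hom.appLE_eq_app] at het
    haveI : Algebra.Etale Γ(X, U) Γ(Y, f ⁻¹ᵁ U) := het
    exact ⟨IsLocalization.injective _
        (algebraMapSubmonoid_le_nonZeroDivisors_of_flat Γ(X, U) Γ(Y, f ⁻¹ᵁ U)),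
      fun x hx => mem_range_of_isIntegral Γ(X, U) Γ(Y, f ⁻¹ᵁ U) _ x hx⟩
  · have hbot : U = ⊥ := by
      ext x
      simp only [TopologicalSpace.Opens.coe_bot, Set.mem_empty_iff_false, iff_false]
      exact fun hx => hne ⟨x, hx⟩
    subst hbot
    constructor
    · intro a b _
      exact Subsingleton.elim (α := Γ(Y, ⊥)) a b
    · intro x _
      exact ⟨0, Subsingleton.elim (α := Γ(pullback f (X.fromSpecStalk (genericPoint X)), ⊥)) _ _⟩

instance quasiCompact_fromSpecStalk_genericPoint (X : Scheme.{u}) [IsIntegral X] :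
    QuasiCompact (X.fromSpecStalk (genericPoint X)) := by
  haveI : Finite (Spec (X.presheaf.stalk (genericPoint X))) := by
    show Finite (PrimeSpectrum X.functionField)
    infer_instance
  exact ⟨fun U _ _ => (Set.toFinite _).isCompact⟩

/-- **Key lemma**: a finite étale cover `Y` of a normal integral scheme `X` is the normalization of
`X` in the generic fibre of `Y`. -/
theorem isIso_normalizationDesc (hX : Pi1.IsNormalScheme X) :
    IsIso ((pullback.fst f (X.fromSpecStalk (genericPoint X)) ≫ f).normalizationDesc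
      (pullback.fst f (X.fromSpecStalk (genericPoint X))) f rfl) :=
  isIso_desc _ f (fun U hU => sections_closed f hX U hU)

end KL

section Full

variable {X : Scheme.{u}} [IsIntegral X]

/-- Morphisms out of the generic fibre of a finite étale cover of a normal integral scheme into a
scheme integral over `X` extend (uniquely) to the cover. -/
theorem exists_extension (hX : Pi1.IsNormalScheme X) {Y Y' : Scheme.{u}} (f : Y ⟶ X) [IsFinite f]
    [Etale f] (f' : Y' ⟶ X) [IsIntegralHom f']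
    (a : pullback f (X.fromSpecStalk (genericPoint X)) ⟶ Y')
    (ha : a ≫ f' = pullback.fst f (X.fromSpecStalk (genericPoint X)) ≫ f) :
    ∃ φ : Y ⟶ Y', φ ≫ f' = f ∧ pullback.fst f (X.fromSpecStalk (genericPoint X)) ≫ φ = a := by
  haveI := isIso_normalizationDesc f hX
  set h := pullback.fst f (X.fromSpecStalk (genericPoint X)) with hh
  set d := (h ≫ f).normalizationDesc h f rfl with hd
  set d' := (h ≫ f).normalizationDesc a f' ha.symm with hd'
  refine ⟨inv d ≫ d', ?_, ?_⟩
  · rw [Category.assoc, IsIso.inv_comp_eq, hd, hd', Scheme.Hom.normalizationDesc_comp,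
      Scheme.Hom.normalizationDesc_comp]
  · have h1 : (h ≫ f).toNormalization ≫ d = h :=
      Scheme.Hom.toNormalization_normalizationDesc _ _ _ _
    have h2 : (h ≫ f).toNormalization ≫ d' = a :=
      Scheme.Hom.toNormalization_normalizationDesc _ _ _ _
    have h3 : h ≫ inv d = (h ≫ f).toNormalization := by
      rw [IsIso.comp_inv_eq, h1]
    rw [← Category.assoc, h3, h2]

theorem full_restrict_genericPoint (hX : Pi1.IsNormalScheme X) :
    (FEt.restrict (X.fromSpecStalk (genericPoint X))).Full := by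
  constructor
  intro Y Y' ψ
  haveI : IsFinite (Y.hom : Y.left ⟶ X) := Y.prop.1
  haveI : Etale (Y.hom : Y.left ⟶ X) := Y.prop.2
  haveI : IsFinite (Y'.hom : Y'.left ⟶ X) := Y'.prop.1
  let l : pullback (Y.hom : Y.left ⟶ X) (X.fromSpecStalk (genericPoint X)) ⟶
    pullback (Y'.hom : Y'.left ⟶ X) (X.fromSpecStalk (genericPoint X)) := ψ.left
  have hw : l ≫ pullback.snd (Y'.hom : Y'.left ⟶ X) (X.fromSpecStalk (genericPoint X)) =
      pullback.snd (Y.hom : Y.left ⟶ X) (X.fromSpecStalk (genericPoint X)) :=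
    MorphismProperty.Over.w ψ
  have ha : (l ≫ pullback.fst (Y'.hom : Y'.left ⟶ X) (X.fromSpecStalk (genericPoint X))) ≫
      (Y'.hom : Y'.left ⟶ X) =
      pullback.fst (Y.hom : Y.left ⟶ X) (X.fromSpecStalk (genericPoint X)) ≫ Y.hom := by
    rw [Category.assoc, pullback.condition, reassoc_of% hw, ← pullback.condition]
  obtain ⟨φ₀, hφ₀, hφ₁⟩ := exists_extension hX (Y.hom : Y.left ⟶ X) (Y'.hom : Y'.left ⟶ X) _ ha
  refine ⟨MorphismProperty.Over.homMk φ₀ hφ₀ trivial, ?_⟩
  apply MorphismProperty.Over.Hom.ext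
  have e1 : ((FEt.restrict (X.fromSpecStalk (genericPoint X))).map
        (MorphismProperty.Over.homMk φ₀ hφ₀ trivial)).left ≫
      pullback.fst (Y'.hom : Y'.left ⟶ X) (X.fromSpecStalk (genericPoint X)) =
      pullback.fst (Y.hom : Y.left ⟶ X) (X.fromSpecStalk (genericPoint X)) ≫ φ₀ := by
    dsimp [FEt.restrict, MorphismProperty.Over.pullback]
    exact pullback.lift_fst _ _ _
  have e2 : ((FEt.restrict (X.fromSpecStalk (genericPoint X))).map
        (MorphismProperty.Over.homMk φ₀ hφ₀ trivial)).left ≫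
      pullback.snd (Y'.hom : Y'.left ⟶ X) (X.fromSpecStalk (genericPoint X)) =
      pullback.snd (Y.hom : Y.left ⟶ X) (X.fromSpecStalk (genericPoint X)) := by
    dsimp [FEt.restrict, MorphismProperty.Over.pullback]
    exact pullback.lift_snd _ _ _
  refine pullback.hom_ext (f := (Y'.hom : Y'.left ⟶ X)) (g := X.fromSpecStalk (genericPoint X))
    ?_ ?_
  · exact e1.trans hφ₁
  · exact e2.trans hw.symm

end Full

end Groth.Agent.Lib.Helper4.FEtNormal
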