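import Mathlib
import Groth.Agent.Lib.Helper4FEtNormal

set_option autoImplicit false
set_option linter.unusedVariables false
set_option linter.unusedSectionVars false
set_option linter.style.haveILetI false

namespace Groth.Agent.Lib.Helper14EtIntClosure

open TensorProduct

universe u

section Idem

variable (P : Type*) [CommRing P] [IsArtinianRing P] [IsReduced P]

/-- In a reduced Artinian ring, a maximal ideal is cut out by an idempotent. -/
theorem exists_idem (q : Ideal P) [hq : q.IsMaximal] :
    ∃ e : P, (1 - e) ∈ q ∧ ∀ z ∈ q, e * z = 0 := by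
  classical
  let m : MaximalSpectrum P := ⟨q, hq⟩
  let e : P := (IsArtinianRing.equivPi P).symm (Pi.single m 1)
  have he : IsArtinianRing.equivPi P e = Pi.single m 1 := AlgEquiv.apply_symm_apply _ _
  refine ⟨e, ?_, ?_⟩
  · rw [← Ideal.Quotient.eq_zero_iff_mem]
    have := IsArtinianRing.equivPi_apply P (1 - e) m
    rw [← this, map_sub, map_one, he]
    simp
  · intro z hz
    apply (IsArtinianRing.equivPi P).injective
    rw [map_mul, he, map_zero]
    funext m'
    by_cases h : m' = m
    · subst h
      rw [Pi.mul_apply, IsArtinianRing.equivPi_apply]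
      have : (Ideal.Quotient.mk q) z = 0 := Ideal.Quotient.eq_zero_iff_mem.mpr hz
      simp only [Pi.zero_apply]
      change _ * (Ideal.Quotient.mk q) z = 0
      rw [this, mul_zero]
    · rw [Pi.mul_apply, Pi.single_eq_of_ne h]
      simp

end Idem

section Abs

variable {A' B P L₁ : Type u} [CommRing A'] [IsDomain A'] [IsIntegrallyClosed A'] [CommRing B]
  [Algebra A' B] [Algebra.Etale A' B]
  [CommRing P] [Algebra B P] [Algebra A' P] [IsScalarTower A' B P]
  [IsLocalization (Algebra.algebraMapSubmonoid B (nonZeroDivisors A')) P]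
  [IsArtinianRing P] [IsReduced P] [Field L₁] [Algebra A' L₁]

theorem key_abs (ψ : B →ₐ[A'] L₁) (ψP : P →ₐ[A'] L₁) (hsurj : Function.Surjective ψP)
    (hψPB : ∀ b, ψP (algebraMap B P b) = ψ b) :
    ∃ e₀ : B, ψ e₀ = 1 ∧ (∀ b, ψ b = 0 → e₀ * b = 0) ∧
      ∀ x : L₁, IsIntegral A' x → x ∈ ψ.range := by
  classical
  haveI hmax : (RingHom.ker ψP).IsMaximal :=
    RingHom.ker_isMaximal_of_surjective ψP hsurj
  obtain ⟨e, he1, he2⟩ := exists_idem P (RingHom.ker ψP)
  have hψe : ψP e = 1 := by
    have h0 : ψP (1 - e) = 0 := RingHom.mem_ker.mp he1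
    rw [map_sub, map_one, sub_eq_zero] at h0
    exact h0.symm
  have he2' : ∀ z : P, ψP z = 0 → e * z = 0 := fun z hz => he2 z hz
  -- injectivity of ι
  have hιinj : Function.Injective (algebraMap B P) := by
    refine IsLocalization.injective P
      (M := Algebra.algebraMapSubmonoid B (nonZeroDivisors A')) ?_
    exact Groth.Agent.Lib.Helper4.FEtNormal.algebraMapSubmonoid_le_nonZeroDivisors_of_flat A' B
  -- helper4's lemma
  have hmem : ∀ y : P, IsIntegral A' y → ∃ b : B, algebraMap B P b = y := by
    intro y hy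
    have hy' : IsIntegral B y := hy.tower_top
    exact Groth.Agent.Lib.Helper4.FEtNormal.mem_range_of_isIntegral A' B P y hy'
  -- the idempotent descends
  have hee : e * e = e := by
    have h1 := he2' (1 - e) (RingHom.mem_ker.mp he1)
    rw [mul_sub, mul_one, sub_eq_zero] at h1
    exact h1.symm
  have heint : IsIntegral A' e := by
    refine ⟨Polynomial.X ^ 2 - Polynomial.X, ?_, ?_⟩
    · exact Polynomial.monic_X_pow_sub (by
        rw [Polynomial.degree_X]; exact_mod_cast (by norm_num : (1 : ℕ) < 2))
    · rw [← Polynomial.aeval_def]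
      simp only [map_sub, map_pow, Polynomial.aeval_X]
      rw [pow_two, hee, sub_self]
  obtain ⟨e₀, he₀⟩ := hmem e heint
  refine ⟨e₀, ?_, ?_, ?_⟩
  · rw [← hψPB, he₀, hψe]
  · intro b hb
    apply hιinj
    rw [map_mul, he₀, map_zero]
    apply he2'
    rw [hψPB, hb]
  · intro x hx
    obtain ⟨f, hfm, hfx⟩ := hx
    rw [← Polynomial.aeval_def] at hfx
    obtain ⟨p, hp⟩ := hsurj x
    set y := e * p with hy
    have hψy : ψP y = x := by
      rw [hy, map_mul, hψe, one_mul, hp]
    have h1 : ψP (Polynomial.aeval y f) = 0 := by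
      rw [← Polynomial.aeval_algHom_apply, hψy, hfx]
    have h2 : y * Polynomial.aeval y f = 0 := by
      have h3 := he2' _ h1
      have h4 : y * Polynomial.aeval y f = p * (e * Polynomial.aeval y f) := by
        rw [hy]; ring
      rw [h4, h3, mul_zero]
    have hyint : IsIntegral A' y := by
      refine ⟨Polynomial.X * f, ?_, ?_⟩
      · exact Polynomial.monic_X.mul hfm
      · rw [← Polynomial.aeval_def, map_mul, Polynomial.aeval_X]
        exact h2
    obtain ⟨b, hb⟩ := hmem y hyint
    refine ⟨b, ?_⟩
    change ψ b = x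
    rw [← hψPB, hb, hψy]

end Abs

section Main

variable (A A' L L₁ : Type u) [CommRing A] [IsDomain A]
    [IsIntegrallyClosed A] [CommRing A'] [IsDomain A'] [IsIntegrallyClosed A'] [Algebra A A']
    [Field L] [Algebra A L] [Algebra.IsAlgebraic A L]
    [Algebra.Etale A ↥(integralClosure A L)]
    [Field L₁] [Algebra A' L₁] [Algebra L L₁] [Algebra A L₁] [IsScalarTower A A' L₁] [IsScalarTower A L L₁]

/-- the map `C → L₁`. -/
noncomputable def gMap : ↥(integralClosure A L) →ₐ[A] L₁ :=
  (IsScalarTower.toAlgHom A L L₁).comp (integralClosure A L).val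

/-- the map `A' ⊗ C → L₁`. -/
noncomputable def psi : A' ⊗[A] ↥(integralClosure A L) →ₐ[A'] L₁ :=
  Algebra.TensorProduct.lift (Algebra.ofId A' L₁) (gMap A L L₁) (fun _ _ => Commute.all _ _)

lemma psi_tmul (a : A') (c : ↥(integralClosure A L)) :
    psi A A' L L₁ (a ⊗ₜ c) = algebraMap A' L₁ a * algebraMap L L₁ (c : L) := by
  simp [psi, gMap]

lemma psi_range :
    (psi A A' L L₁).range = Algebra.adjoin A' ((algebraMap L L₁) '' {x : L | IsIntegral A x}) := by
  apply le_antisymm
  · rintro _ ⟨b, rfl⟩
    induction b using TensorProduct.induction_on with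
    | zero => simp
    | tmul a c =>
      change psi A A' L L₁ (a ⊗ₜ c) ∈ _
      rw [psi_tmul, ← Algebra.smul_def]
      have hc : algebraMap L L₁ (c : L) ∈ (algebraMap L L₁) '' {x : L | IsIntegral A x} :=
        ⟨(c : L), c.2, rfl⟩
      exact Subalgebra.smul_mem _ (Algebra.subset_adjoin hc) a
    | add x y hx hy =>
      have : (psi A A' L L₁).toRingHom (x + y) = psi A A' L L₁ x + psi A A' L L₁ y := map_add _ _ _
      rw [this]
      exact Subalgebra.add_mem _ hx hy
  · apply Algebra.adjoin_le
    rintro _ ⟨x, hx, rfl⟩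
    refine ⟨1 ⊗ₜ ⟨x, hx⟩, ?_⟩
    change psi A A' L L₁ (1 ⊗ₜ ⟨x, hx⟩) = _
    rw [psi_tmul]; simp

lemma psi_isIntegral (b : A' ⊗[A] ↥(integralClosure A L)) : IsIntegral A' (psi A A' L L₁ b) := by
  induction b using TensorProduct.induction_on with
  | zero => simp [isIntegral_zero]
  | tmul a c =>
    rw [psi_tmul]
    refine IsIntegral.mul isIntegral_algebraMap ?_
    have h1 : IsIntegral A (algebraMap L L₁ (c : L)) := c.2.map (IsScalarTower.toAlgHom A L L₁)
    exact h1.tower_top
  | add x y hx hy => rw [map_add]; exact hx.add hy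

/-- `B = A' ⊗ C`. -/
abbrev BB : Type u := A' ⊗[A] ↥(integralClosure A L)
/-- `P = K' ⊗ B`. -/
abbrev PP : Type u := FractionRing A' ⊗[A'] (BB A A' L)

variable {A A' L L₁}

theorem key (hinj : Function.Injective (algebraMap A L))
    (hinj' : Function.Injective (algebraMap A' L₁))
    (hgen : Subfield.closure (Set.range (algebraMap A' L₁) ∪ Set.range (algebraMap L L₁)) = ⊤) :
    ∃ e₀ : BB A A' L, psi A A' L L₁ e₀ = 1 ∧
      (∀ b, psi A A' L L₁ b = 0 → e₀ * b = 0) ∧
      ∀ x : L₁, IsIntegral A' x → x ∈ (psi A A' L L₁).range := by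
  classical
  set ψ := psi A A' L L₁ with hψ
  -- finiteness
  haveI : Algebra.IsIntegral A ↥(integralClosure A L) := inferInstance
  haveI : Module.Finite A ↥(integralClosure A L) := Algebra.IsIntegral.finite
  haveI : Module.Finite A' (BB A A' L) := inferInstance
  -- fraction field
  letI : Algebra (FractionRing A') L₁ := (IsFractionRing.lift hinj').toAlgebra
  haveI : IsScalarTower A' (FractionRing A') L₁ := IsScalarTower.of_algebraMap_eq (fun x => by
    change _ = IsFractionRing.lift hinj' _
    rw [IsFractionRing.lift_algebraMap])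
  letI algBP : Algebra (BB A A' L) (PP A A' L) := Algebra.TensorProduct.rightAlgebra
  haveI hloc : IsLocalization (Algebra.algebraMapSubmonoid (BB A A' L) (nonZeroDivisors A'))
      (PP A A' L) := IsLocalization.tensorRight (FractionRing A') (nonZeroDivisors A')
  let ψP : PP A A' L →ₐ[FractionRing A'] L₁ :=
    Algebra.TensorProduct.lift (Algebra.ofId (FractionRing A') L₁) ψ (fun _ _ => Commute.all _ _)
  have hψP : ∀ (k : FractionRing A') (b : BB A A' L),
      ψP (k ⊗ₜ b) = algebraMap (FractionRing A') L₁ k * ψ b := by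
    intro k b
    change (Algebra.TensorProduct.lift (Algebra.ofId (FractionRing A') L₁) ψ _) (k ⊗ₜ[A'] b) = _
    rw [Algebra.TensorProduct.lift_tmul]
    rfl
  let ι : BB A A' L →+* PP A A' L := @algebraMap (BB A A' L) (PP A A' L) _ _ algBP
  have hι : ∀ b : BB A A' L, ι b = (1 : FractionRing A') ⊗ₜ b := fun b => rfl
  have hψPB : ∀ b : BB A A' L, ψP (ι b) = ψ b := by
    intro b
    rw [hι, hψP]; simp
  -- `P` is Artinian and reduced
  haveI : Module.Finite (FractionRing A') (PP A A' L) := inferInstance
  haveI : IsArtinianRing (PP A A' L) := IsArtinianRing.of_finite (FractionRing A') (PP A A' L)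
  haveI : Algebra.Etale (FractionRing A') (PP A A' L) := inferInstance
  haveI : IsReduced (PP A A' L) :=
    Algebra.FormallyUnramified.isReduced_of_field (FractionRing A') (PP A A' L)
  -- surjectivity of ψP
  have hfield : IsField ψP.range := by
    haveI : Module.Finite (FractionRing A') ψP.range :=
      Module.Finite.of_surjective ψP.rangeRestrict.toLinearMap ψP.rangeRestrict_surjective
    haveI : Algebra.IsIntegral (FractionRing A') ψP.range := Algebra.IsIntegral.of_finite _ _
    exact isField_of_isIntegral_of_isField' (R := FractionRing A') (S := ψP.range)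
      (Field.toIsField _)
  have hsurj : Function.Surjective ψP := by
    let F : Subfield L₁ :=
      { ψP.range.toSubring with
        inv_mem' := by
          intro x hx
          by_cases hx0 : x = 0
          · rw [hx0, inv_zero]; exact Subring.zero_mem _
          · obtain ⟨y, hy⟩ := hfield.mul_inv_cancel (a := ⟨x, hx⟩) (by
              intro h; exact hx0 (congrArg Subtype.val h))
            have hy' : x * (y : L₁) = 1 := congrArg Subtype.val hy
            have : x⁻¹ = (y : L₁) := by
              rw [← mul_one x⁻¹, ← hy', ← mul_assoc, inv_mul_cancel₀ hx0, one_mul]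
            rw [this]; exact y.2 }
    have hF : ∀ x, x ∈ F ↔ x ∈ ψP.range := fun x => Iff.rfl
    have hle : Subfield.closure (Set.range (algebraMap A' L₁) ∪ Set.range (algebraMap L L₁)) ≤ F := by
      rw [Subfield.closure_le]
      rintro _ (⟨a, rfl⟩ | ⟨x, rfl⟩)
      · rw [SetLike.mem_coe, hF]
        refine ⟨ι (algebraMap A' (BB A A' L) a), ?_⟩
        change ψP (ι _) = _
        rw [hψPB, Algebra.TensorProduct.algebraMap_apply, hψ, psi_tmul]; simp
      · rw [SetLike.mem_coe]
        obtain ⟨a, ha, hax⟩ := (Algebra.IsAlgebraic.isAlgebraic (R := A) x).exists_integral_multiple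
        obtain ⟨c, hac⟩ : ∃ c : ↥(integralClosure A L), algebraMap A L a * x = (c : L) :=
          ⟨⟨a • x, hax⟩, (Algebra.smul_def a x).symm⟩
        have ha' : algebraMap L L₁ (algebraMap A L a) ≠ 0 := by
          rw [Ne, map_eq_zero_iff _ (algebraMap L L₁).injective, map_eq_zero_iff _ hinj]; exact ha
        have h1 : algebraMap L L₁ (algebraMap A L a) ∈ F := by
          rw [hF]
          refine ⟨ι (algebraMap A' (BB A A' L) (algebraMap A A' a)), ?_⟩
          change ψP (ι _) = _
          rw [hψPB]
          simp only [AlgHom.commutes]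
          rw [← IsScalarTower.algebraMap_apply A A' L₁, IsScalarTower.algebraMap_apply A L L₁]
        have h2 : algebraMap L L₁ (c : L) ∈ F := by
          rw [hF]
          refine ⟨ι (1 ⊗ₜ c), ?_⟩
          change ψP (ι _) = _
          rw [hψPB, hψ, psi_tmul]; simp
        have h3 : algebraMap L L₁ x = (algebraMap L L₁ (algebraMap A L a))⁻¹ * algebraMap L L₁ (c : L) := by
          rw [← hac, map_mul, ← mul_assoc, inv_mul_cancel₀ ha', one_mul]
        rw [h3]
        exact F.mul_mem (F.inv_mem h1) h2
    rw [hgen] at hle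
    intro x
    exact (hF x).mp (hle (Subfield.mem_top x))
  haveI : IsScalarTower A' (BB A A' L) (PP A A' L) := IsScalarTower.of_algebraMap_eq (fun a => by
    change _ = ι (algebraMap A' (BB A A' L) a)
    rw [hι, Algebra.TensorProduct.algebraMap_apply, Algebra.TensorProduct.algebraMap_apply]
    rw [Algebra.algebraMap_self, RingHom.id_apply]
    rw [Algebra.algebraMap_eq_smul_one, TensorProduct.smul_tmul]
    congr 1
    rw [Algebra.TensorProduct.one_def, TensorProduct.smul_tmul', smul_eq_mul, mul_one])
  haveI : IsScalarTower A' (FractionRing A') (PP A A' L) := inferInstance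
  exact key_abs (A' := A') (B := BB A A' L) (P := PP A A' L) ψ (ψP.restrictScalars A') hsurj hψPB

variable (A A' L L₁)

theorem main (hinj : Function.Injective (algebraMap A L))
    (hinj' : Function.Injective (algebraMap A' L₁))
    (hgen : Subfield.closure (Set.range (algebraMap A' L₁) ∪ Set.range (algebraMap L L₁)) = ⊤) :
    Algebra.Etale A' ↥(integralClosure A' L₁) ∧
      integralClosure A' L₁ = Algebra.adjoin A' ((algebraMap L L₁) '' {x : L | IsIntegral A x}) := by
  obtain ⟨e₀, he1, he2, he3⟩ := key hinj hinj' hgen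
  have heq : integralClosure A' L₁ = (psi A A' L L₁).range := by
    apply le_antisymm
    · intro x hx
      exact he3 x hx
    · rintro _ ⟨b, rfl⟩
      exact psi_isIntegral A A' L L₁ b
  refine ⟨?_, by rw [heq, psi_range]⟩
  let ψ' : BB A A' L →ₐ[A'] ↥(integralClosure A' L₁) :=
    (psi A A' L L₁).codRestrict (integralClosure A' L₁) (psi_isIntegral A A' L L₁)
  have hψ' : ∀ b, ((ψ' b : ↥(integralClosure A' L₁)) : L₁) = psi A A' L L₁ b := fun b => rfl
  letI : Algebra (BB A A' L) ↥(integralClosure A' L₁) := ψ'.toRingHom.toAlgebra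
  have halg : ∀ b, algebraMap (BB A A' L) ↥(integralClosure A' L₁) b = ψ' b := fun b => rfl
  haveI : IsScalarTower A' (BB A A' L) ↥(integralClosure A' L₁) :=
    IsScalarTower.of_algebraMap_eq (fun (a : A') => by
      rw [halg]; exact (ψ'.commutes a).symm)
  haveI : IsLocalization.Away e₀ ↥(integralClosure A' L₁) := by
    refine ⟨?_, ?_, ?_⟩
    · rintro ⟨_, n, rfl⟩
      have : algebraMap (BB A A' L) ↥(integralClosure A' L₁) (e₀ ^ n) = 1 := by
        apply Subtype.ext
        rw [halg, hψ', map_pow, he1, one_pow]; rfl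
      rw [this]; exact isUnit_one
    · intro z
      obtain ⟨b, hb⟩ := he3 z.1 z.2
      refine ⟨(b, 1), ?_⟩
      apply Subtype.ext
      simp only [OneMemClass.coe_one, map_one, mul_one]
      rw [halg, hψ']; exact hb.symm
    · intro x y hxy
      refine ⟨⟨e₀, Submonoid.mem_powers e₀⟩, ?_⟩
      have h0 : psi A A' L L₁ (x - y) = 0 := by
        have := congrArg Subtype.val hxy
        rw [halg, halg, hψ', hψ'] at this
        rw [map_sub, this, sub_self]
      have := he2 _ h0
      rw [mul_sub, sub_eq_zero] at this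
      exact this
  haveI : Algebra.Etale (BB A A' L) ↥(integralClosure A' L₁) :=
    Algebra.Etale.of_isLocalizationAway e₀
  haveI : Algebra.Etale A' (BB A A' L) := inferInstance
  exact Algebra.Etale.comp A' (BB A A' L) ↥(integralClosure A' L₁)

end Main

end Groth.Agent.Lib.Helper14EtIntClosure
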