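import Mathlib
import Groth.Agent.Lib.Helper14EtRam

set_option autoImplicit false
set_option linter.style.haveILetI false
set_option linter.unusedSectionVars false
universe u

namespace Groth.Agent.Lib.Helper14EtRamGal

open IsLocalRing TensorProduct

section Generic

variable (Q : ∀ (A : Type u) [CommRing A] [IsLocalRing A] {L : Type u} [Field L], (A →+* L) → Prop)

/-- descent to subextensions. -/
def Desc : Prop :=
  ∀ (A K : Type u) [CommRing A] [IsDomain A] [IsDiscreteValuationRing A] [Field K] [Algebra A K]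
    [IsFractionRing A K] (L M : Type u) [Field L] [Field M]
    [Algebra K L] [Algebra K M] [Algebra L M] [IsScalarTower K L M] [FiniteDimensional K M]
    [Algebra.IsSeparable K M],
    Q A ((algebraMap K M).comp (algebraMap A K)) → Q A ((algebraMap K L).comp (algebraMap A K))

/-- transitivity. -/
def Trans : Prop :=
  ∀ (A K : Type u) [CommRing A] [IsDomain A] [IsDiscreteValuationRing A] [Field K] [Algebra A K]
    [IsFractionRing A K] (L M : Type u) [Field L] [Field M]
    [Algebra K L] [Algebra K M] [Algebra L M] [IsScalarTower K L M] [FiniteDimensional K M]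
    [Algebra.IsSeparable K M],
    Q A ((algebraMap K L).comp (algebraMap A K)) →
    (∀ (V : ValuationSubring L), EtRam.Dominates A ((algebraMap K L).comp (algebraMap A K)) V →
        Q V ((algebraMap L M).comp V.subtype)) →
    Q A ((algebraMap K M).comp (algebraMap A K))

/-- base change. -/
def BC : Prop :=
  ∀ (A B K L K' : Type u) [CommRing A] [IsDomain A]
    [IsDiscreteValuationRing A] [CommRing B] [IsDomain B] [IsDiscreteValuationRing B] [Algebra A B]
    [IsLocalHom (algebraMap A B)] (_ : Function.Injective (algebraMap A B))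
    [Field K] [Field L] [Field K'] [Algebra A K] [IsFractionRing A K] [Algebra B L]
    [IsFractionRing B L]
    [Algebra K L] [Algebra A L] [IsScalarTower A K L] [IsScalarTower A B L]
    [Algebra K K'] [FiniteDimensional K K'] [Algebra.IsSeparable K K']
    (_ : Q A ((algebraMap K K').comp (algebraMap A K)))
    (F : Type u) [Field F] [Algebra (K' ⊗[K] L) F]
    (_ : Function.Surjective (algebraMap (K' ⊗[K] L) F)),
    Q B ((algebraMap (K' ⊗[K] L) F).comp
      ((Algebra.TensorProduct.includeRight : L →ₐ[K] K' ⊗[K] L).toRingHom.comp (algebraMap B L)))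

variable {Q}

section Sup

variable (A K : Type u) [CommRing A] [IsDomain A] [IsDiscreteValuationRing A] [Field K]
  [Algebra A K] [IsFractionRing A K] (Ω : Type u) [Field Ω] [Algebra K Ω]
  [Algebra.IsSeparable K Ω]

set_option maxHeartbeats 1600000 in
theorem sup_of (hT : Trans Q) (hBC : BC Q) (E₁ E₂ : IntermediateField K Ω)
    [FiniteDimensional K E₁] [FiniteDimensional K E₂]
    (h₁ : Q A ((algebraMap K E₁).comp (algebraMap A K)))
    (h₂ : Q A ((algebraMap K E₂).comp (algebraMap A K))) :
    Q A ((algebraMap K ↥(E₁ ⊔ E₂)).comp (algebraMap A K)) := by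
  haveI : Algebra.IsSeparable K E₁ := Algebra.isSeparable_tower_bot_of_isSeparable K E₁ Ω
  haveI sep2 : Algebra.IsSeparable K E₂ := Algebra.isSeparable_tower_bot_of_isSeparable K E₂ Ω
  haveI : Algebra.IsSeparable K ↥(E₁ ⊔ E₂) :=
    Algebra.isSeparable_tower_bot_of_isSeparable K ↥(E₁ ⊔ E₂) Ω
  haveI : FiniteDimensional K ↥(E₁ ⊔ E₂) := inferInstance
  letI alg2 : Algebra E₂ ↥(E₁ ⊔ E₂) :=
    (IntermediateField.inclusion (le_sup_right : E₂ ≤ E₁ ⊔ E₂)).toRingHom.toAlgebra
  haveI : IsScalarTower K E₂ ↥(E₁ ⊔ E₂) := IsScalarTower.of_algebraMap_eq' (by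
    ext k
    rfl)
  refine hT A K E₂ ↥(E₁ ⊔ E₂) h₂ ?_
  intro V hV
  letI iAE₂ : Algebra A E₂ := ((algebraMap K E₂).comp (algebraMap A K)).toAlgebra
  haveI : IsScalarTower A K E₂ := IsScalarTower.of_algebraMap_eq' rfl
  letI iAV : Algebra A V :=
    (RingHom.codRestrict ((algebraMap K E₂).comp (algebraMap A K)) V hV.1).toAlgebra
  haveI : IsScalarTower A V E₂ := IsScalarTower.of_algebraMap_eq' rfl
  haveI hloc : IsLocalHom (algebraMap A V) :=
    ((Groth.Agent.Lib.Helper14EtRam.dominates_iff _ V).mp hV).2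
  haveI : IsDiscreteValuationRing V :=
    Groth.Agent.Lib.Helper14EtRam.isDiscreteValuationRing_of_dominates V hV
  have hinjL : Function.Injective ((algebraMap K E₂).comp (algebraMap A K)) :=
    (algebraMap K E₂).injective.comp (IsFractionRing.injective A K)
  have hinj : Function.Injective (algebraMap A V) := fun a b hab =>
    hinjL (congrArg Subtype.val hab)
  let μ : ↥E₁ ⊗[K] ↥E₂ →ₐ[K] ↥(E₁ ⊔ E₂) :=
    Algebra.TensorProduct.productMap
      (IntermediateField.inclusion (le_sup_left : E₁ ≤ E₁ ⊔ E₂))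
      (IntermediateField.inclusion (le_sup_right : E₂ ≤ E₁ ⊔ E₂))
  have hμ : ((E₁ ⊔ E₂).val : ↥(E₁ ⊔ E₂) →ₐ[K] Ω).comp μ =
      (Algebra.TensorProduct.productMap E₁.val E₂.val : ↥E₁ ⊗[K] ↥E₂ →ₐ[K] Ω) := by
    apply Algebra.TensorProduct.ext'
    intro a b
    rw [AlgHom.comp_apply, Algebra.TensorProduct.productMap_apply_tmul,
      Algebra.TensorProduct.productMap_apply_tmul, map_mul]
    rfl
  letI algF : Algebra (↥E₁ ⊗[K] ↥E₂) ↥(E₁ ⊔ E₂) := μ.toRingHom.toAlgebra
  have hsurj : Function.Surjective μ := by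
    rintro ⟨x, hx⟩
    have hx' : x ∈ (E₁ ⊔ E₂).toSubalgebra := hx
    rw [IntermediateField.sup_toSubalgebra_of_left] at hx'
    have hr : (Algebra.TensorProduct.productMap E₁.val E₂.val).range =
        E₁.toSubalgebra ⊔ E₂.toSubalgebra := by
      rw [Algebra.TensorProduct.productMap_range]
      congr 1
      · exact IntermediateField.range_val E₁
      · exact IntermediateField.range_val E₂
    rw [← hr] at hx'
    obtain ⟨t, ht⟩ := hx'
    exact ⟨t, Subtype.ext ((AlgHom.congr_fun hμ t).trans ht)⟩
  have := hBC A V K E₂ E₁ hinj h₁ ↥(E₁ ⊔ E₂) hsurj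
  convert this using 1
  ext x
  change _ = ((μ ((1 : E₁) ⊗ₜ[K] (x : E₂)) : ↥(E₁ ⊔ E₂)) : Ω)
  rw [Algebra.TensorProduct.productMap_apply_tmul, map_one, one_mul]
  rfl

end Sup

section Rest

variable (A K : Type u) [CommRing A] [IsDomain A] [IsDiscreteValuationRing A] [Field K]
  [Algebra A K] [IsFractionRing A K]

/-- transport along an embedding. -/
theorem of_algHom (hD : Desc Q) (L L' : Type u) [Field L] [Field L'] [Algebra K L] [Algebra K L']
    [FiniteDimensional K L'] [Algebra.IsSeparable K L'] (e : L →ₐ[K] L')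
    (h : Q A ((algebraMap K L').comp (algebraMap A K))) :
    Q A ((algebraMap K L).comp (algebraMap A K)) := by
  letI : Algebra L L' := e.toRingHom.toAlgebra
  haveI : IsScalarTower K L L' := IsScalarTower.of_algebraMap_eq' (by
    ext k
    exact (e.commutes k).symm)
  exact hD A K L L' h

/-- the image of an embedding into a separable extension. -/
theorem of_fieldRange (hD : Desc Q) (Ω : Type u) [Field Ω] [Algebra K Ω] [Algebra.IsSeparable K Ω]
    (L : Type u) [Field L] [Algebra K L] [FiniteDimensional K L] [Algebra.IsSeparable K L]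
    (φ : L →ₐ[K] Ω) (h : Q A ((algebraMap K L).comp (algebraMap A K))) :
    ∃ (_ : FiniteDimensional K φ.fieldRange),
      Q A ((algebraMap K φ.fieldRange).comp (algebraMap A K)) := by
  let e : L ≃ₐ[K] φ.fieldRange := AlgEquiv.ofInjectiveField φ
  haveI : FiniteDimensional K φ.fieldRange := e.toLinearEquiv.finiteDimensional
  exact ⟨inferInstance, of_algHom A K hD φ.fieldRange L e.symm.toAlgHom h⟩

theorem exists_common (hD : Desc Q) (hT : Trans Q) (hBC : BC Q) (L₁ L₂ : Type u) [Field L₁]
    [Field L₂] [Algebra K L₁] [Algebra K L₂] [FiniteDimensional K L₁] [FiniteDimensional K L₂]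
    [Algebra.IsSeparable K L₁] [Algebra.IsSeparable K L₂]
    (h₁ : Q A ((algebraMap K L₁).comp (algebraMap A K)))
    (h₂ : Q A ((algebraMap K L₂).comp (algebraMap A K))) :
    ∃ (M : Type u) (_ : Field M) (_ : Algebra K M) (_ : FiniteDimensional K M)
      (_ : Algebra.IsSeparable K M) (_ : L₁ →ₐ[K] M) (_ : L₂ →ₐ[K] M),
      Q A ((algebraMap K M).comp (algebraMap A K)) := by
  let φ₁ : L₁ →ₐ[K] SeparableClosure K := IsSepClosed.lift
  let φ₂ : L₂ →ₐ[K] SeparableClosure K := IsSepClosed.lift
  obtain ⟨hf₁, hE₁⟩ := of_fieldRange A K hD (SeparableClosure K) L₁ φ₁ h₁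
  obtain ⟨hf₂, hE₂⟩ := of_fieldRange A K hD (SeparableClosure K) L₂ φ₂ h₂
  refine ⟨↥(φ₁.fieldRange ⊔ φ₂.fieldRange), inferInstance, inferInstance, inferInstance,
    Algebra.isSeparable_tower_bot_of_isSeparable K _ (SeparableClosure K),
    (IntermediateField.inclusion le_sup_left).comp (AlgEquiv.ofInjectiveField φ₁).toAlgHom,
    (IntermediateField.inclusion le_sup_right).comp (AlgEquiv.ofInjectiveField φ₂).toAlgHom,
    sup_of A K (SeparableClosure K) hT hBC φ₁.fieldRange φ₂.fieldRange hE₁ hE₂⟩

theorem exists_galois (hD : Desc Q) (hT : Trans Q) (hBC : BC Q) (L : Type u) [Field L]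
    [Algebra K L] [FiniteDimensional K L] [Algebra.IsSeparable K L]
    (h : Q A ((algebraMap K L).comp (algebraMap A K))) :
    ∃ (M : Type u) (_ : Field M) (_ : Algebra K M) (_ : FiniteDimensional K M)
      (_ : IsGalois K M) (_ : L →ₐ[K] M), Q A ((algebraMap K M).comp (algebraMap A K)) := by
  classical
  let φ₀ : L →ₐ[K] SeparableClosure K := IsSepClosed.lift
  haveI : Normal K (SeparableClosure K) := inferInstance
  haveI : FiniteDimensional K (IntermediateField.normalClosure K L (SeparableClosure K)) :=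
    inferInstance
  haveI : Normal K (IntermediateField.normalClosure K L (SeparableClosure K)) := inferInstance
  haveI : Algebra.IsSeparable K (IntermediateField.normalClosure K L (SeparableClosure K)) :=
    Algebra.isSeparable_tower_bot_of_isSeparable K _ (SeparableClosure K)
  haveI : IsGalois K (IntermediateField.normalClosure K L (SeparableClosure K)) := ⟨⟩
  have hp0 := of_fieldRange A K hD (SeparableClosure K) L φ₀ h
  let g : (L →ₐ[K] SeparableClosure K) → IntermediateField K (SeparableClosure K) :=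
    fun f => f.fieldRange
  have key : ∃ (_ : FiniteDimensional K ↥(Finset.univ.sup g)),
      Q A ((algebraMap K ↥(Finset.univ.sup g)).comp (algebraMap A K)) := by
    refine Finset.sup_induction (p := fun E : IntermediateField K (SeparableClosure K) =>
      ∃ (_ : FiniteDimensional K E), Q A ((algebraMap K E).comp (algebraMap A K))) ?_ ?_ ?_
    · obtain ⟨hf, hE⟩ := hp0
      haveI : Algebra.IsSeparable K φ₀.fieldRange :=
        Algebra.isSeparable_tower_bot_of_isSeparable K _ (SeparableClosure K)
      exact ⟨inferInstance, of_algHom A K hD (⊥ : IntermediateField K (SeparableClosure K))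
        φ₀.fieldRange (IntermediateField.inclusion bot_le) hE⟩
    · rintro E₁ ⟨hf₁, hE₁⟩ E₂ ⟨hf₂, hE₂⟩
      exact ⟨inferInstance, sup_of A K (SeparableClosure K) hT hBC E₁ E₂ hE₁ hE₂⟩
    · intro f _
      exact of_fieldRange A K hD (SeparableClosure K) L f h
  rw [Finset.sup_univ_eq_iSup] at key
  obtain ⟨_, hN⟩ := key
  exact ⟨↥(IntermediateField.normalClosure K L (SeparableClosure K)), inferInstance, inferInstance,
    inferInstance, inferInstance,
    (IntermediateField.inclusion φ₀.fieldRange_le_normalClosure).comp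
      (AlgEquiv.ofInjectiveField φ₀).toAlgHom, hN⟩

end Rest

end Generic

end Groth.Agent.Lib.Helper14EtRamGal
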