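import Mathlib
import Groth.Agent.Lib.Helper14FaltCxG

/-! # Faltings' annihilator theorem for bounded below complexes with finite cohomology
(helper14) -/

set_option autoImplicit false
set_option linter.unusedVariables false
set_option linter.unusedSectionVars false
set_option linter.style.haveILetI false
set_option maxHeartbeats 400000

universe u

open CategoryTheory CategoryTheory.Limits
attribute [local instance] HasDerivedCategory.standard

namespace Groth.Agent.Lib.Helper14.FaltCx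

open DerivedCategory Pretriangulated Groth.Agent.Lib.Helper1.Extend Groth.Agent.Lib.Helper5.BiDual
open Groth.Agent.Lib.Helper5.DualLocal Groth.Agent.Lib.Helper5.DualMin
open Groth.Agent.Lib.Helper5.DualDim Groth.Agent.Lib.Helper5.NormDual
open Groth.Agent.Lib.Helper5.LocD Groth.Agent.S14388
open Groth.Agent.Lib.Helper14.HDT Groth.Agent.Lib.Helper14.HDI Groth.Agent.Lib.Helper14.Falt

section Props

variable {A : Type u} [CommRing A]

theorem isGE_truncLT (K : Dual.D A) (a n : ℤ) [hK : K.IsGE a] :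
    ((tt.truncLT n).obj K).IsGE a := by
  rw [isGE_iff]
  intro j hj
  by_cases hjn : j < n
  · have := isIso_homology_truncLTι n j hjn K
    exact (K.isZero_of_isGE a j hj).of_iso
      (asIso ((homologyFunctor (ModuleCat.{u} A) j).map ((tt.truncLTι n).app K)))
  · haveI : ((tt.truncLT n).obj K).IsLE (n - 1) := inferInstance
    exact ((tt.truncLT n).obj K).isZero_of_isLE (n - 1) j (by omega)

theorem finite_HD_truncLT (K : Dual.D A) (n : ℤ)
    (hK : ∀ i : ℤ, Module.Finite A (Dual.HD A K i)) (j : ℤ) :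
    Module.Finite A (Dual.HD A ((tt.truncLT n).obj K) j) := by
  by_cases hjn : j < n
  · have := isIso_homology_truncLTι n j hjn K
    haveI : Module.Finite A ((homologyFunctor (ModuleCat.{u} A) j).obj
      ((𝟭 (DerivedCategory (ModuleCat.{u} A))).obj K)) := hK j
    exact Module.Finite.equiv
      (asIso ((homologyFunctor (ModuleCat.{u} A) j).map ((tt.truncLTι n).app K))).symm.toLinearEquiv
  · haveI : ((tt.truncLT n).obj K).IsLE (n - 1) := inferInstance
    haveI : Subsingleton ((homologyFunctor (ModuleCat.{u} A) j).obj ((tt.truncLT n).obj K)) :=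
      ModuleCat.subsingleton_of_isZero
        (((tt.truncLT n).obj K).isZero_of_isLE (n - 1) j (by omega))
    infer_instance

theorem finite_HD_shift (K : Dual.D A) (a : ℤ)
    (hK : ∀ i : ℤ, Module.Finite A (Dual.HD A K i)) (j : ℤ) :
    Module.Finite A (Dual.HD A (K⟦a⟧) j) := by
  let e : (homologyFunctor (ModuleCat.{u} A) j).obj (K⟦a⟧) ≅
      (homologyFunctor (ModuleCat.{u} A) (a + j)).obj K :=
    ((homologyFunctor (ModuleCat.{u} A) 0).shiftIso a j (a + j) rfl).app K
  haveI := hK (a + j)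
  exact Module.Finite.equiv e.symm.toLinearEquiv

theorem bounded_of_isGE_isLE (K : Dual.D A) (a b : ℤ) [K.IsGE a] [K.IsLE b] :
    ∃ a' b' : ℤ, ∀ i : ℤ, (i < a' ∨ b' < i) → Subsingleton (Dual.HD A K i) := by
  refine ⟨a, b, fun i hi => ?_⟩
  rcases hi with hi | hi
  · exact ModuleCat.subsingleton_of_isZero (K.isZero_of_isGE a i hi)
  · exact ModuleCat.subsingleton_of_isZero (K.isZero_of_isLE b i hi)

end Props

section Main

variable {A : Type u} [CommRing A] [IsNoetherianRing A]
variable (ω : Dual.D A) (hω : Dual.IsDualizing A ω) (δ : PrimeSpectrum A → ℤ)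
  (h1 : ∀ (p : PrimeSpectrum A) (i : ℤ),
    Nontrivial (LocalizedModule p.asIdeal.primeCompl
      (Dual.inD A (A ⧸ p.asIdeal) ⟶ ω⟦i⟧)) ↔ i = -δ p)
  (h2 : ∀ p q : PrimeSpectrum A, p ⋖ q → δ p = δ q + 1)
  (T T' : Set (PrimeSpectrum A)) (hT : StableUnderSpecialization T)
  (hT' : StableUnderSpecialization T')

include hω h1 h2 hT hT' in
/-- the normalized statement, for `K₀ ∈ D^{≥0}` bounded with finite cohomology -/
theorem core (K₀ : Dual.D A) [K₀.IsGE 0] (hfin : ∀ i : ℤ, Module.Finite A (Dual.HD A K₀ i))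
    (hbd : ∃ a b : ℤ, ∀ i : ℤ, (i < a ∨ b < i) → Subsingleton (Dual.HD A K₀ i)) (s' : ℕ) :
    (∃ J : Ideal A, PrimeSpectrum.zeroLocus (J : Set A) ⊆ T' ∧ ∀ i : ℕ, i ≤ s' → ∀ c ∈ J,
      ∀ x : FT T (K₀⟦(i : ℤ)⟧), c • x = 0) ↔
    (∀ p q : PrimeSpectrum A, p ∉ T' → q ∈ T → p ≤ q → ∀ i : ℕ, i ≤ s' →
      LZ ω p.asIdeal (-δ q - (i : ℤ)) K₀) :=
  ⟨fun ⟨J, hJ, hkill⟩ => converse_cx ω hω δ h1 K₀ hfin hbd T T' hT s' J hJ hkill,
   fun h => forward_cx ω hω δ h1 h2 K₀ hfin hbd T T' hT hT' s' h⟩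

include hω h1 h2 hT hT' in
/-- **Faltings' annihilator theorem for complexes**, in terms of `FT` and `F0`. -/
theorem faltings_cx_aux (s : ℤ) (K : Dual.D A) (a : ℤ) [hKa : K.IsGE a]
    (hK : ∀ i : ℤ, Module.Finite A (Dual.HD A K i))
    [∀ p : PrimeSpectrum A,
      DRing.HasLBaseChange (algebraMap A (Localization.AtPrime p.asIdeal))] :
    (∃ J : Ideal A, PrimeSpectrum.zeroLocus (J : Set A) ⊆ T' ∧ ∀ i : ℤ, i ≤ s → ∀ c ∈ J,
      ∀ x : FT T (K⟦i⟧), c • x = 0) ↔
    (∀ (p q : PrimeSpectrum A) (hpq : p ≤ q), p ∉ T' → q ∈ T → ∀ h : ℕ,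
      Order.height (⟨q, hpq⟩ : Set.Ici p) = h → ∀ i : ℤ, i ≤ s - h →
      Subsingleton (F0 (IsLocalRing.maximalIdeal (Localization.AtPrime p.asIdeal))
        (((DRing.LBaseChange (algebraMap A (Localization.AtPrime p.asIdeal))).obj K)⟦i⟧))) := by
  have hlow : ∀ i : ℤ, i < a → Subsingleton (FT T (K⟦i⟧)) := fun i hi => by
    haveI : (K⟦i⟧).IsGE (a - i) := tt.isGE_shift K a i (a - i) (by omega)
    exact subsingleton_FT_of_isGE T (K⟦i⟧) (a - i) (by omega)
  have hlowR : ∀ (p : PrimeSpectrum A) (i : ℤ), i < a →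
      Subsingleton (F0 (IsLocalRing.maximalIdeal (Localization.AtPrime p.asIdeal))
        (((DRing.LBaseChange (algebraMap A (Localization.AtPrime p.asIdeal))).obj K)⟦i⟧)) :=
    fun p i hi => by
      obtain ⟨e⟩ := lbc_F0_equiv (Localization.AtPrime p.asIdeal)
        (IsLocalRing.maximalIdeal (Localization.AtPrime p.asIdeal)) K i
      haveI := subsingleton_F0_extD (Localization.AtPrime p.asIdeal)
        (IsLocalRing.maximalIdeal (Localization.AtPrime p.asIdeal)) K a i hi
      exact e.toEquiv.subsingleton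
  by_cases hsa : s < a
  · constructor
    · intro _ p q hpq hp hq h hh i hi
      exact hlowR p i (by omega)
    · intro _
      refine ⟨⊤, zeroLocus_top_subset T', fun i hi c _ x => ?_⟩
      haveI := hlow i (by omega)
      exact Subsingleton.elim _ _
  · push Not at hsa
    obtain ⟨s', hs'⟩ : ∃ s' : ℕ, (s' : ℤ) = s - a := ⟨(s - a).toNat, by omega⟩
    obtain ⟨n, hn⟩ : ∃ n : ℤ, n = s + 1 := ⟨_, rfl⟩
    obtain ⟨K', hK'⟩ : ∃ K' : Dual.D A, K' = (tt.truncLT n).obj K := ⟨_, rfl⟩
    haveI hK'GE : K'.IsGE a := by rw [hK']; exact isGE_truncLT K a n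
    haveI hK'LE : K'.IsLE (n - 1) := by rw [hK']; infer_instance
    have hK'fin : ∀ j : ℤ, Module.Finite A (Dual.HD A K' j) := by
      rw [hK']; exact finite_HD_truncLT K n hK
    have hK'bd := bounded_of_isGE_isLE K' a (n - 1)
    haveI hK₀GE : (K'⟦a⟧).IsGE 0 := tt.isGE_shift K' a a 0 (by omega)
    haveI hK₀LE : (K'⟦a⟧).IsLE (n - 1 - a) := tt.isLE_shift K' (n - 1) a (n - 1 - a) (by omega)
    have hK₀fin := finite_HD_shift K' a hK'fin
    have hK₀bd := bounded_of_isGE_isLE (K'⟦a⟧) 0 (n - 1 - a)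
    have hcore := core ω hω δ h1 h2 T T' hT hT' (K'⟦a⟧) hK₀fin hK₀bd s'
    have hE : ∀ j : ℤ, a + j ≤ s →
        Nonempty (FT T ((K'⟦a⟧)⟦j⟧) ≃ₗ[A] FT T (K⟦a + j⟧)) := fun j hj => by
      obtain ⟨e2⟩ := trunc_FT_equiv T K n (a + j) (by omega)
      rw [← hK'] at e2
      exact ⟨(shiftEquiv T K' a j (a + j) rfl).trans e2⟩
    have hL : (∃ J : Ideal A, PrimeSpectrum.zeroLocus (J : Set A) ⊆ T' ∧ ∀ i : ℤ, i ≤ s →
          ∀ c ∈ J, ∀ x : FT T (K⟦i⟧), c • x = 0) ↔
        (∃ J : Ideal A, PrimeSpectrum.zeroLocus (J : Set A) ⊆ T' ∧ ∀ i : ℕ, i ≤ s' → ∀ c ∈ J,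
          ∀ x : FT T ((K'⟦a⟧)⟦(i : ℤ)⟧), c • x = 0) := by
      constructor
      · rintro ⟨J, hJ, hkill⟩
        refine ⟨J, hJ, fun i hi c hc x => ?_⟩
        obtain ⟨e⟩ := hE (i : ℤ) (by omega)
        apply e.injective
        rw [map_smul, map_zero]
        exact hkill (a + i) (by omega) c hc _
      · rintro ⟨J, hJ, hkill⟩
        refine ⟨J, hJ, fun i hi c hc x => ?_⟩
        by_cases hia : i < a
        · haveI := hlow i hia
          exact Subsingleton.elim _ _
        · obtain ⟨i', hi'⟩ : ∃ i' : ℕ, (i' : ℤ) = i - a := ⟨(i - a).toNat, by omega⟩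
          have hii : i = a + (i' : ℤ) := by omega
          subst hii
          obtain ⟨e⟩ := hE (i' : ℤ) hi
          obtain ⟨y, rfl⟩ := e.surjective x
          rw [← map_smul, hkill i' (by omega) c hc y, map_zero]
    have htr : ∀ (p : PrimeSpectrum A) (i : ℤ), i ≤ s →
        (Subsingleton (F0 (IsLocalRing.maximalIdeal (Localization.AtPrime p.asIdeal))
          (((DRing.LBaseChange (algebraMap A (Localization.AtPrime p.asIdeal))).obj K)⟦i⟧)) ↔
          LZ ω p.asIdeal (-δ p - i) K') := fun p i hi => by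
      haveI := p.isPrime
      obtain ⟨e1⟩ := lbc_F0_equiv (Localization.AtPrime p.asIdeal)
        (IsLocalRing.maximalIdeal (Localization.AtPrime p.asIdeal)) K i
      obtain ⟨e2⟩ := trunc_F0_extD_equiv (Localization.AtPrime p.asIdeal)
        (IsLocalRing.maximalIdeal (Localization.AtPrime p.asIdeal)) K n i (by omega)
      rw [← hK'] at e2
      rw [← subsingleton_F0_iff_LZ ω hω p.asIdeal (-δ p) (hd_of_h1 ω δ h1 p) K' hK'fin hK'bd i]
      exact (e1.trans e2.symm).toEquiv.subsingleton_congr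
    rw [hL, hcore]
    constructor
    · intro hyp p q hpq hp hq h hh i hi
      by_cases hia : i < a
      · exact hlowR p i hia
      · have hht := height_Ici δ h2 p q hpq
        have hnn : δ q ≤ δ p := delta_le_of_le δ h2 p q hpq
        have hh' : (h : ℤ) = δ p - δ q := by
          rw [hht] at hh
          have : (δ p - δ q).toNat = h := by exact_mod_cast hh
          omega
        obtain ⟨i', hi'⟩ : ∃ i' : ℕ, (i' : ℤ) = i + h - a := ⟨(i + h - a).toNat, by omega⟩
        have h3 := hyp p q hp hq hpq i' (by omega)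
        rw [htr p i (by omega)]
        apply (LZ_shift ω p.asIdeal K' _ a).mpr
        have e : -δ p - i + a = -δ q - (i' : ℤ) := by omega
        rw [e]
        exact h3
    · intro hyp p q hp hq hpq i hi
      have hht := height_Ici δ h2 p q hpq
      have hnn : δ q ≤ δ p := delta_le_of_le δ h2 p q hpq
      have h3 := hyp p q hpq hp hq (δ p - δ q).toNat hht (a + i - (δ p - δ q)) (by omega)
      rw [htr p _ (by omega)] at h3
      have h4 := (LZ_shift ω p.asIdeal K' _ a).mp h3
      have e : -δ p - (a + (i : ℤ) - (δ p - δ q)) + a = -δ q - (i : ℤ) := by ring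
      rw [e] at h4
      exact h4

end Main

end Groth.Agent.Lib.Helper14.FaltCx
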