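/-
Helper14FieldCI (helper14): every finite subset of a field extension `K/k` lies in a `k`-subalgebra
with a presentation `k[x_1..x_n]/(f_1..f_c)` of Krull dimension `n - c` (global complete
intersection).  Adjoin the elements one at a time: a transcendental element adds a variable, an
algebraic one adds two variables and two relations (`b y = 1` and a monic minimal polynomial over
`A[1/b]`).
-/
import Mathlib
import Groth.Agent.Lib.Helper14FTDim

set_option autoImplicit false
universe u
open Polynomial

namespace Groth.Agent.Lib.Helper14.FieldCI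


section Pres

variable {k : Type u} [Field k]

/-- A presentation with `n` generators and `c` relations. -/
def HasPres (k : Type u) [Field k] (S : Type u) [CommRing S] [Algebra k S] (n c : ℕ) : Prop :=
  ∃ (φ : MvPolynomial (Fin n) k →ₐ[k] S) (r : Fin c → MvPolynomial (Fin n) k),
    Function.Surjective φ ∧ RingHom.ker φ.toRingHom = Ideal.span (Set.range r)

variable {S S' T : Type u} [CommRing S] [Algebra k S] [CommRing S'] [Algebra k S']
  [CommRing T] [Algebra k T]

theorem HasPres.of_equiv {n c : ℕ} (h : HasPres k S n c) (e : S ≃ₐ[k] S') : HasPres k S' n c := by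
  obtain ⟨φ, r, hs, hk⟩ := h
  refine ⟨e.toAlgHom.comp φ, r, e.surjective.comp hs, ?_⟩
  rw [← hk]
  ext x
  simp only [RingHom.mem_ker, AlgHom.toRingHom_eq_coe, RingHom.coe_coe, AlgHom.coe_comp,
    Function.comp_apply]
  exact e.map_eq_zero_iff

theorem HasPres.polynomial {n c : ℕ} (h : HasPres k S n c) :
    HasPres k (Polynomial S) (n + 1) c := by
  obtain ⟨φ, r, hs, hk⟩ := h
  let e := MvPolynomial.finSuccEquiv k n
  refine ⟨(Polynomial.mapAlgHom φ).comp e.toAlgHom, fun i => e.symm (Polynomial.C (r i)),
    ?_, ?_⟩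
  · exact (Polynomial.map_surjective φ.toRingHom hs).comp e.surjective
  · have h1 : RingHom.ker (Polynomial.mapAlgHom φ).toRingHom =
        Ideal.span (Set.range fun i => Polynomial.C (r i)) := by
      have : (Polynomial.mapAlgHom φ).toRingHom = Polynomial.mapRingHom φ.toRingHom := rfl
      rw [this, Polynomial.ker_mapRingHom, hk, Ideal.map_span, ← Set.range_comp]
      rfl
    ext x
    rw [RingHom.mem_ker]
    change (Polynomial.mapAlgHom φ).toRingHom (e x) = 0 ↔ _
    rw [← RingHom.mem_ker, h1]
    have h2 : Ideal.span (Set.range fun i => e.symm (Polynomial.C (r i))) =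
        Ideal.map (e.symm.toRingEquiv.toRingHom) (Ideal.span (Set.range fun i => Polynomial.C (r i))) := by
      rw [Ideal.map_span, ← Set.range_comp]
      rfl
    rw [h2]
    constructor
    · intro hx
      have := Ideal.mem_map_of_mem (e.symm.toRingEquiv.toRingHom) hx
      simpa using this
    · intro hx
      have := Ideal.mem_map_of_mem (e.toRingEquiv.toRingHom) hx
      rw [Ideal.map_map] at this
      have h3 : ((e.toRingEquiv.toRingHom).comp (e.symm.toRingEquiv.toRingHom)) = RingHom.id _ := by
        ext y <;> simp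
      rw [h3, Ideal.map_id] at this
      exact this

theorem HasPres.quotient {n c : ℕ} (h : HasPres k T n c) (g : T) :
    HasPres k (T ⧸ Ideal.span {g}) n (c + 1) := by
  obtain ⟨φ, r, hs, hk⟩ := h
  obtain ⟨g', hg'⟩ := hs g
  refine ⟨(Ideal.Quotient.mkₐ k _).comp φ, Fin.cons g' r,
    (Ideal.Quotient.mkₐ_surjective k _).comp hs, ?_⟩
  have h1 : RingHom.ker ((Ideal.Quotient.mkₐ k (Ideal.span {g})).comp φ).toRingHom =
      Ideal.comap φ.toRingHom (Ideal.span {g}) := by
    ext x
    simp [RingHom.mem_ker, Ideal.Quotient.eq_zero_iff_mem]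
  have h2 : Ideal.span {g} = Ideal.map φ.toRingHom (Ideal.span {g'}) := by
    rw [Ideal.map_span, Set.image_singleton]
    congr 2
    exact hg'.symm
  rw [h1, h2, Ideal.comap_map_of_surjective φ.toRingHom hs, Fin.range_cons, Ideal.span_insert]
  congr 1

end Pres



section Ker

variable {A K : Type u} [CommRing A] [IsDomain A] [Field K] [Algebra A K]
  (e : K) (q : A[X]) (hq0 : q ≠ 0)
  (hqe : aeval e q = 0)
  (hmin : ∀ q' : A[X], q' ≠ 0 → aeval e q' = 0 → q.natDegree ≤ q'.natDegree)
  (L : Type u) [CommRing L] [Algebra A L] [IsLocalization.Away q.leadingCoeff L]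
  [Algebra L K] [IsScalarTower A L K]

/-- The monic polynomial `q / lc(q)` over the localization. -/
noncomputable def monicOf : L[X] :=
  C (IsLocalization.Away.invSelf (S := L) q.leadingCoeff) * q.map (algebraMap A L)

include hq0 in
theorem algebraMap_injective_away : Function.Injective (algebraMap A L) := by
  apply IsLocalization.injective L (M := Submonoid.powers q.leadingCoeff)
  apply powers_le_nonZeroDivisors_of_noZeroDivisors
  exact leadingCoeff_ne_zero.mpr hq0

include hq0 in
theorem monicOf_monic : (monicOf q L).Monic := by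
  unfold monicOf
  apply monic_C_mul_of_mul_leadingCoeff_eq_one
  rw [leadingCoeff_map_of_injective (algebraMap_injective_away q hq0 L), mul_comm]
  exact IsLocalization.Away.mul_invSelf _

include hq0 in
theorem natDegree_monicOf : (monicOf q L).natDegree = q.natDegree := by
  unfold monicOf
  have hu : IsUnit (IsLocalization.Away.invSelf (S := L) q.leadingCoeff) := by
    refine IsUnit.of_mul_eq_one (algebraMap A L q.leadingCoeff) ?_
    rw [mul_comm]
    exact IsLocalization.Away.mul_invSelf _
  rw [natDegree_C_mul_of_isUnit hu,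
    natDegree_map_eq_of_injective (algebraMap_injective_away q hq0 L)]

include hqe in
theorem aeval_monicOf : aeval e (monicOf q L) = 0 := by
  unfold monicOf
  rw [map_mul, aeval_map_algebraMap, hqe, mul_zero]

include hq0 hqe hmin in
theorem monicOf_dvd (h : L[X]) (hh : aeval e h = 0) : monicOf q L ∣ h := by
  have hP := monicOf_monic q hq0 L
  have hb : q.leadingCoeff ≠ 0 := leadingCoeff_ne_zero.mpr hq0
  have hM : Submonoid.powers q.leadingCoeff ≤ nonZeroDivisors A :=
    powers_le_nonZeroDivisors_of_noZeroDivisors hb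
  haveI : IsDomain L := IsLocalization.isDomain_of_le_nonZeroDivisors L hM
  rw [← modByMonic_eq_zero_iff_dvd hP]
  set r := h %ₘ monicOf q L with hr
  by_contra hr0
  have hre : aeval e r = 0 := by
    have h1 := modByMonic_add_div h (monicOf q L)
    have h2 : aeval e (h %ₘ monicOf q L + monicOf q L * (h /ₘ monicOf q L)) = 0 := by
      rw [h1, hh]
    rw [map_add, map_mul, aeval_monicOf e q hqe L, zero_mul, add_zero] at h2
    exact h2
  set r0 := IsLocalization.integerNormalization (Submonoid.powers q.leadingCoeff) r with hr0'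
  have h3 : aeval e r0 = 0 :=
    IsLocalization.integerNormalization_aeval_eq_zero (Submonoid.powers q.leadingCoeff) r hre
  have h4 : r0 ≠ 0 := by
    rw [Ne, IsLocalization.integerNormalization_eq_zero_iff hM]
    exact hr0
  have h5 : r0.natDegree ≤ r.natDegree := by
    rw [natDegree_le_iff_coeff_eq_zero]
    intro N hN
    have h6 : N ∉ r.support := by
      rw [mem_support_iff, not_not]
      exact coeff_eq_zero_of_natDegree_lt hN
    have h7 : N ∉ r0.support := fun h =>
      h6 (IsLocalization.integerNormalization_support (Submonoid.powers q.leadingCoeff) r h)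
    rwa [mem_support_iff, not_not] at h7
  have h8 : r.natDegree < q.natDegree := by
    rw [← natDegree_monicOf q hq0 L]
    exact natDegree_lt_natDegree hr0 (degree_modByMonic_lt h hP)
  have h9 := hmin r0 h4 h3
  omega

end Ker


section Main

variable {k K : Type u} [Field k] [Field K] [Algebra k K]

/-- A subalgebra with a presentation by `n` generators and `c` relations and transcendence degree
`n - c`. -/
def Good (A : Subalgebra k K) (n c : ℕ) : Prop :=
  c ≤ n ∧ HasPres k A n c ∧ Algebra.trdeg k A = ((n - c : ℕ) : Cardinal.{u})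

theorem good_range {T : Type u} [CommRing T] [Algebra k T] (θ : T →ₐ[k] K)
    (hθ : Function.Injective θ) {m d : ℕ} (hdm : d ≤ m) (hp : HasPres k T m d)
    (ht : Algebra.trdeg k T = ((m - d : ℕ) : Cardinal.{u})) : Good θ.range m d := by
  let e : T ≃ₐ[k] θ.range := AlgEquiv.ofInjective θ hθ
  refine ⟨hdm, hp.of_equiv e, ?_⟩
  rw [← e.trdeg_eq, ht]

theorem hasPres_self : HasPres k (MvPolynomial (Fin 0) k) 0 0 := by
  refine ⟨AlgHom.id k _, Fin.elim0, Function.surjective_id, ?_⟩
  have : Set.range (Fin.elim0 : Fin 0 → MvPolynomial (Fin 0) k) = ∅ := Set.range_eq_empty _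
  rw [this, Ideal.span_empty]
  ext x
  simp [RingHom.mem_ker]

theorem good_bot : Good (⊥ : Subalgebra k K) 0 0 := by
  let e : MvPolynomial (Fin 0) k ≃ₐ[k] (⊥ : Subalgebra k K) :=
    (MvPolynomial.isEmptyAlgEquiv k (Fin 0)).trans (Algebra.botEquiv k K).symm
  refine ⟨le_refl _, hasPres_self.of_equiv e, ?_⟩
  rw [← e.trdeg_eq]
  simp [MvPolynomial.trdeg_of_isDomain]

end Main


section Main

variable {k K : Type u} [Field k] [Field K] [Algebra k K]

theorem step_transcendental (A : Subalgebra k K) {n c : ℕ} (hA : Good A n c) (e : K)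
    (he : Transcendental A e) :
    ∃ A' : Subalgebra k K, A ≤ A' ∧ e ∈ A' ∧ Good A' (n + 1) c := by
  obtain ⟨hcn, hp, ht⟩ := hA
  let θ : A[X] →ₐ[k] K := (aeval e : A[X] →ₐ[A] K).restrictScalars k
  have hθ : Function.Injective θ := transcendental_iff_injective.mp he
  refine ⟨θ.range, ?_, ?_, ?_⟩
  · intro a ha
    exact ⟨C ⟨a, ha⟩, by simp [θ]⟩
  · exact ⟨X, by simp [θ]⟩
  · refine good_range θ hθ (by omega) hp.polynomial ?_
    haveI : FaithfulSMul k A :=
      (faithfulSMul_iff_algebraMap_injective k A).mpr (algebraMap k A).injective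
    haveI : FaithfulSMul A A[X] :=
      (faithfulSMul_iff_algebraMap_injective A A[X]).mpr Polynomial.C_injective
    have h1 := trdeg_add_eq k A (A := A[X])
    rw [ht, Polynomial.trdeg_of_isDomain] at h1
    rw [← h1]
    have : n + 1 - c = (n - c) + 1 := by omega
    rw [this]
    push_cast
    rfl

end Main



theorem trdeg_adjoinRoot_eq {k A L : Type u} [Field k] [CommRing A] [IsDomain A] [CommRing L]
    [IsDomain L] [Algebra k A] [Algebra k L] [Algebra A L] [IsScalarTower k A L]
    [Algebra.IsAlgebraic A L] (P : L[X]) (hP : P.Monic) [NoZeroDivisors (AdjoinRoot P)]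
    (hinj : Function.Injective (algebraMap A (AdjoinRoot P))) :
    Algebra.trdeg k (AdjoinRoot P) = Algebra.trdeg k A := by
  haveI : FaithfulSMul k A :=
    (faithfulSMul_iff_algebraMap_injective k A).mpr (algebraMap k A).injective
  haveI : FaithfulSMul A (AdjoinRoot P) := (faithfulSMul_iff_algebraMap_injective _ _).mpr hinj
  haveI : Module.Finite L (AdjoinRoot P) := hP.finite_adjoinRoot
  haveI : Algebra.IsIntegral L (AdjoinRoot P) := Algebra.IsIntegral.of_finite _ _
  haveI : Algebra.IsAlgebraic A (AdjoinRoot P) := Algebra.IsAlgebraic.trans_isIntegral A L _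
  have h1 := trdeg_add_eq k A (A := AdjoinRoot P)
  rw [trdeg_eq_zero (R := A), add_zero] at h1
  exact h1.symm


section Main

variable {k K : Type u} [Field k] [Field K] [Algebra k K]

theorem step_algebraic (A : Subalgebra k K) {n c : ℕ} (hA : Good A n c) (e : K)
    (he : IsAlgebraic A e) :
    ∃ A' : Subalgebra k K, A ≤ A' ∧ e ∈ A' ∧ Good A' (n + 2) (c + 2) := by
  classical
  obtain ⟨hcn, hp, ht⟩ := hA
  have hex : ∃ d, ∃ q : A[X], q ≠ 0 ∧ aeval e q = 0 ∧ q.natDegree = d := by
    obtain ⟨q, hq0, hq⟩ := he
    exact ⟨_, q, hq0, hq, rfl⟩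
  obtain ⟨q, hq0, hqe, hqd⟩ := Nat.find_spec hex
  have hmin : ∀ q' : A[X], q' ≠ 0 → aeval e q' = 0 → q.natDegree ≤ q'.natDegree := by
    intro q' h0 h1
    rw [hqd]
    exact Nat.find_min' hex ⟨q', h0, h1, rfl⟩
  have hb0 : q.leadingCoeff ≠ 0 := leadingCoeff_ne_zero.mpr hq0
  have hunit : ∀ y : Submonoid.powers q.leadingCoeff, IsUnit ((Algebra.ofId A K) y) := by
    rintro ⟨_, m, rfl⟩
    apply IsUnit.mk0
    simp only [map_pow]
    apply pow_ne_zero
    intro h
    apply hb0
    exact Subtype.ext h
  let ι : Localization.Away q.leadingCoeff →ₐ[A] K :=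
    IsLocalization.liftAlgHom (M := Submonoid.powers q.leadingCoeff) (f := Algebra.ofId A K) hunit
  letI algLK : Algebra (Localization.Away q.leadingCoeff) K := ι.toRingHom.toAlgebra
  haveI : IsScalarTower A (Localization.Away q.leadingCoeff) K :=
    IsScalarTower.of_algebraMap_eq (fun x => (ι.commutes x).symm)
  haveI : IsScalarTower k (Localization.Away q.leadingCoeff) K := by
    refine IsScalarTower.of_algebraMap_eq fun x => ?_
    rw [IsScalarTower.algebraMap_apply k A (Localization.Away q.leadingCoeff),
      ← IsScalarTower.algebraMap_apply A (Localization.Away q.leadingCoeff) K,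
      ← IsScalarTower.algebraMap_apply k A K]
  have hPm := monicOf_monic q hq0 (Localization.Away q.leadingCoeff)
  have hPe := aeval_monicOf e q hqe (Localization.Away q.leadingCoeff)
  have hdvd := monicOf_dvd e q hq0 hqe hmin (Localization.Away q.leadingCoeff)
  have hPe' : (monicOf q (Localization.Away q.leadingCoeff)).eval₂
      ((ι.restrictScalars k : Localization.Away q.leadingCoeff →ₐ[k] K) : _ →+* K) e = 0 := hPe
  let θ : AdjoinRoot (monicOf q (Localization.Away q.leadingCoeff)) →ₐ[k] K :=
    AdjoinRoot.liftAlgHom _ (ι.restrictScalars k) e hPe'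
  have hθ : Function.Injective θ := by
    rw [injective_iff_map_eq_zero]
    intro x hx
    obtain ⟨h, rfl⟩ := AdjoinRoot.mk_surjective x
    rw [AdjoinRoot.mk_eq_zero]
    apply hdvd
    exact hx
  refine ⟨θ.range, ?_, ?_, ?_⟩
  · intro a ha
    refine ⟨AdjoinRoot.of _ (algebraMap A (Localization.Away q.leadingCoeff) ⟨a, ha⟩), ?_⟩
    change θ (AdjoinRoot.of _ (algebraMap A (Localization.Away q.leadingCoeff) ⟨a, ha⟩)) = a
    rw [AdjoinRoot.liftAlgHom_of]
    exact ι.commutes ⟨a, ha⟩
  · exact ⟨AdjoinRoot.root _, AdjoinRoot.liftAlgHom_root _ _ _ _⟩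
  · have hpL : HasPres k (Localization.Away q.leadingCoeff) (n + 1) (c + 1) := by
      have h1 : HasPres k (AdjoinRoot (C q.leadingCoeff * X - 1)) (n + 1) (c + 1) :=
        hp.polynomial.quotient (C q.leadingCoeff * X - 1)
      exact h1.of_equiv ((Localization.awayEquivAdjoin q.leadingCoeff).symm.restrictScalars k)
    have hpT : HasPres k (AdjoinRoot (monicOf q (Localization.Away q.leadingCoeff))) (n + 2)
        (c + 2) := hpL.polynomial.quotient _
    refine good_range θ hθ (by omega) hpT ?_
    have hθA : ∀ x : A, θ (algebraMap A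
        (AdjoinRoot (monicOf q (Localization.Away q.leadingCoeff))) x) = x := by
      intro x
      rw [AdjoinRoot.algebraMap_eq', RingHom.comp_apply]
      change θ (AdjoinRoot.of _ (algebraMap A (Localization.Away q.leadingCoeff) x)) = x
      rw [AdjoinRoot.liftAlgHom_of]
      exact ι.commutes x
    haveI : NoZeroDivisors (AdjoinRoot (monicOf q (Localization.Away q.leadingCoeff))) :=
      hθ.noZeroDivisors θ (map_zero _) (map_mul _)
    have hinjAT : Function.Injective (algebraMap A
        (AdjoinRoot (monicOf q (Localization.Away q.leadingCoeff)))) := by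
      intro x y hxy
      have := congrArg θ hxy
      rw [hθA, hθA] at this
      exact Subtype.ext this
    have hM : Submonoid.powers q.leadingCoeff ≤ nonZeroDivisors A :=
      powers_le_nonZeroDivisors_of_noZeroDivisors hb0
    haveI : IsDomain (Localization.Away q.leadingCoeff) :=
      IsLocalization.isDomain_of_le_nonZeroDivisors _ hM
    haveI : Algebra.IsAlgebraic A (Localization.Away q.leadingCoeff) :=
      IsLocalization.isAlgebraic _ (Submonoid.powers q.leadingCoeff)
    rw [trdeg_adjoinRoot_eq (k := k) (A := A) _ hPm hinjAT, ht]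
    have : n + 2 - (c + 2) = n - c := by omega
    rw [this]

end Main



section Main

variable {k K : Type u} [Field k] [Field K] [Algebra k K]

theorem exists_good (E : Finset K) :
    ∃ (A : Subalgebra k K) (n c : ℕ), (↑E : Set K) ⊆ A ∧ Good A n c := by
  classical
  induction E using Finset.induction_on with
  | empty => exact ⟨⊥, 0, 0, by simp, good_bot⟩
  | insert e E _ ih =>
    obtain ⟨A, n, c, hE, hA⟩ := ih
    by_cases he : Transcendental A e
    · obtain ⟨A', hAA', heA', hA'⟩ := step_transcendental A hA e he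
      refine ⟨A', n + 1, c, ?_, hA'⟩
      intro x hx
      rw [Finset.coe_insert, Set.mem_insert_iff] at hx
      rcases hx with rfl | hx
      · exact heA'
      · exact hAA' (hE hx)
    · have he' : IsAlgebraic A e := by
        unfold Transcendental at he
        exact not_not.mp he
      obtain ⟨A', hAA', heA', hA'⟩ := step_algebraic A hA e he'
      refine ⟨A', n + 2, c + 2, ?_, hA'⟩
      intro x hx
      rw [Finset.coe_insert, Set.mem_insert_iff] at hx
      rcases hx with rfl | hx
      · exact heA'
      · exact hAA' (hE hx)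

theorem good_dim (A : Subalgebra k K) {n c : ℕ} (hA : Good A n c) :
    ringKrullDim A = ((n - c : ℕ) : WithBot ℕ∞) := by
  obtain ⟨hcn, ⟨φ, r, hs, hk⟩, ht⟩ := hA
  haveI : Algebra.FiniteType k A := Algebra.FiniteType.of_surjective φ hs
  obtain ⟨m, hm1, hm2, -⟩ := Groth.Agent.Lib.Helper14.FTDim.exists_dim k A
  haveI : FaithfulSMul k A :=
    (faithfulSMul_iff_algebraMap_injective k A).mpr (algebraMap k A).injective
  haveI : Algebra.IsAlgebraic A (FractionRing A) :=
    IsLocalization.isAlgebraic _ (nonZeroDivisors A)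
  have h1 := trdeg_add_eq k A (A := FractionRing A)
  rw [trdeg_eq_zero (R := A), add_zero, ht, hm1] at h1
  have h2 : n - c = m := by exact_mod_cast h1
  rw [hm2, h2]

theorem exists_subalgebra (E : Finset K) :
    ∃ (A : Subalgebra k K) (n c : ℕ), (↑E : Set K) ⊆ A ∧ c ≤ n ∧
      ∃ (φ : MvPolynomial (Fin n) k →ₐ[k] A) (r : Fin c → MvPolynomial (Fin n) k),
        Function.Surjective φ ∧ RingHom.ker φ.toRingHom = Ideal.span (Set.range r) ∧
          ringKrullDim A = ((n - c : ℕ) : WithBot ℕ∞) := by
  obtain ⟨A, n, c, hE, hA⟩ := exists_good (k := k) E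
  have hd := good_dim A hA
  obtain ⟨hcn, ⟨φ, r, hs, hk⟩, -⟩ := hA
  exact ⟨A, n, c, hE, hcn, φ, r, hs, hk, hd⟩

end Main


end Groth.Agent.Lib.Helper14.FieldCI
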