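import Mathlib

/-!
# The exponent of a finite field extension is a power of the characteristic (helper14)
-/

set_option autoImplicit false
set_option linter.unusedVariables false
set_option linter.unusedSectionVars false
set_option linter.style.haveILetI false
universe u
open Polynomial

namespace Groth.Agent.Lib.Helper14.FieldLawExp

/-- `e` is `1` or a power of the (prime) characteristic -/
def IsFrobExp (k : Type*) [Field k] (e : ℕ) : Prop :=
  e = 1 ∨ ∃ p a : ℕ, p.Prime ∧ CharP k p ∧ e = p ^ a

section basic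
variable {k : Type*} [Field k] {e : ℕ}

lemma IsFrobExp.pos (h : IsFrobExp k e) : 0 < e := by
  rcases h with rfl | ⟨p, a, hp, _, rfl⟩
  · exact one_pos
  · exact pow_pos hp.pos a

lemma IsFrobExp.add_pow (h : IsFrobExp k e) {R : Type*} [CommSemiring R] [Algebra k R] (x y : R) :
    (x + y) ^ e = x ^ e + y ^ e := by
  rcases h with rfl | ⟨p, a, hp, hc, rfl⟩
  · simp
  · obtain ⟨r, hr⟩ := exists_add_pow_prime_pow_eq hp x y a
    have h0 : (p : R) = 0 := by
      have : (p : k) = 0 := CharP.cast_eq_zero k p
      rw [← map_natCast (algebraMap k R), this, map_zero]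
    rw [hr, h0]
    simp

lemma IsFrobExp.sum_pow (h : IsFrobExp k e) {R : Type*} [CommSemiring R] [Algebra k R]
    {ι : Type*} (s : Finset ι) (f : ι → R) : (∑ i ∈ s, f i) ^ e = ∑ i ∈ s, f i ^ e := by
  classical
  induction s using Finset.induction_on with
  | empty => simp [zero_pow h.pos.ne']
  | insert a s ha ih => rw [Finset.sum_insert ha, Finset.sum_insert ha, h.add_pow, ih]

lemma IsFrobExp.sub_pow (h : IsFrobExp k e) {R : Type*} [CommRing R] [Algebra k R] (x y : R) :
    (x - y) ^ e = x ^ e - y ^ e := by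
  have := h.add_pow (x - y) y
  rw [sub_add_cancel] at this
  rw [this, add_sub_cancel_right]

lemma IsFrobExp.pow_inj (h : IsFrobExp k e) {R : Type*} [CommRing R] [Algebra k R] [IsReduced R]
    {x y : R} (hxy : x ^ e = y ^ e) : x = y := by
  have h1 : (x - y) ^ e = 0 := by rw [h.sub_pow, hxy, sub_self]
  exact sub_eq_zero.mp (IsReduced.eq_zero _ ⟨e, h1⟩)

end basic

section field
variable {k : Type u} [Field k] {K : Type u} [Field K] [Algebra k K] [FiniteDimensional k K]

/-- if `u ^ m` is separable over `k` with `m` prime to the characteristic, so is `u` -/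
lemma mem_of_pow_mem (p : ℕ) [hp : Fact p.Prime] [CharP k p] (m : ℕ) (hm : ¬ p ∣ m) (u : K)
    (hu : u ^ m ∈ separableClosure k K) : u ∈ separableClosure k K := by
  by_cases hu0 : u = 0
  · rw [hu0]; exact zero_mem _
  set Ks := separableClosure k K with hKs
  haveI : CharP Ks p := charP_of_injective_algebraMap (algebraMap k Ks).injective p
  let v : Ks := ⟨u ^ m, hu⟩
  have hv : v ≠ 0 := by
    intro h
    have : (v : K) = 0 := by rw [h]; rfl
    have hm0 : m ≠ 0 := fun h0 => hm (h0 ▸ dvd_zero p)
    exact hu0 ((pow_eq_zero_iff hm0).mp this)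
  have hsep : (X ^ m - C v : Ks[X]).Separable := separable_X_pow_sub_C' p m v hm hv
  have hroot : aeval u (X ^ m - C v : Ks[X]) = 0 := by
    rw [map_sub, map_pow, aeval_X, aeval_C]
    exact sub_self _
  have h2 : IsSeparable Ks u := hsep.of_dvd (minpoly.dvd Ks u hroot)
  have h3 : u ∈ separableClosure Ks K := mem_separableClosure_iff.mpr h2
  rw [separableClosure.separableClosure_eq_bot, IntermediateField.mem_bot] at h3
  obtain ⟨w, rfl⟩ := h3
  exact w.2

theorem isFrobExp_of_min (e : ℕ) (he : 0 < e) (hexp : ∀ x : K, x ^ e ∈ separableClosure k K)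
    (hmin : ∀ n : ℕ, 0 < n → (∀ x : K, x ^ n ∈ separableClosure k K) → e ≤ n) :
    IsFrobExp k e := by
  rcases CharP.exists' k with h0 | ⟨p, hp, hc⟩
  · left
    have : ∀ x : K, x ^ 1 ∈ separableClosure k K := by
      intro x
      rw [pow_one, mem_separableClosure_iff]
      exact Algebra.IsSeparable.isSeparable k x
    have := hmin 1 one_pos this
    omega
  · right
    obtain ⟨a, m, hm, hem⟩ := Nat.exists_eq_pow_mul_and_not_dvd he.ne' p hp.out.ne_one
    refine ⟨p, a, hp.out, hc, ?_⟩
    have hall : ∀ x : K, x ^ p ^ a ∈ separableClosure k K := by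
      intro x
      apply mem_of_pow_mem p m hm
      rw [← pow_mul, ← hem]
      exact hexp x
    have h1 := hmin (p ^ a) (pow_pos hp.out.pos a) hall
    have hpa : 0 < p ^ a := pow_pos hp.out.pos a
    have hm1 : m = 1 := by
      have hm0 : m ≠ 0 := fun h => hm (h ▸ dvd_zero p)
      rw [hem] at h1
      have : p ^ a * m ≤ p ^ a * 1 := by simpa using h1
      have := Nat.le_of_mul_le_mul_left this hpa
      omega
    rw [hem, hm1, mul_one]

theorem exists_not_mem (e : ℕ) (p a : ℕ) (hp : p.Prime) (hea : e = p ^ (a + 1))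
    (hmin : ∀ n : ℕ, 0 < n → (∀ x : K, x ^ n ∈ separableClosure k K) → e ≤ n) :
    ∃ x : K, x ^ p ^ a ∉ separableClosure k K := by
  by_contra h
  push Not at h
  have := hmin (p ^ a) (pow_pos hp.pos a) h
  rw [hea, pow_succ] at this
  have hpa : 0 < p ^ a := pow_pos hp.pos a
  have h2 : p ^ a * p ≤ p ^ a * 1 := by simpa using this
  have := Nat.le_of_mul_le_mul_left h2 hpa
  have := hp.two_le
  omega

end field

end Groth.Agent.Lib.Helper14.FieldLawExp
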