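import Mathlib
import Groth.Prelude.Def_PolLaw
import Groth.Agent.Lib.Helper14FieldLawExp

/-!
# The Frobenius law `z ↦ z ^ e` into a subalgebra containing all `e`-th powers (helper14)
-/

set_option autoImplicit false
set_option linter.unusedVariables false
set_option linter.unusedSectionVars false
set_option linter.style.haveILetI false
universe u
open TensorProduct

namespace Groth.Agent.Lib.Helper14.FrobLawK

open Groth.Agent.Lib.Helper14.FieldLawExp

variable {k : Type u} [Field k] {K : Type u} [CommRing K] [Algebra k K]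
  {E : Type u} [CommRing E] [Algebra k E] {J : Type*} [Fintype J] [DecidableEq J]
  (b : Module.Basis J k K)

/-- the coordinates of `S ⊗ K` -/
noncomputable def co (S : Type u) [CommSemiring S] [Algebra k S] (j : J) : S ⊗[k] K →ₗ[S] S :=
  (TensorProduct.AlgebraTensorModule.rid k S S).toLinearMap ∘ₗ (LinearMap.baseChange S (b.coord j))

lemma co_tmul (S : Type u) [CommSemiring S] [Algebra k S] (j : J) (s : S) (x : K) :
    co b S j (s ⊗ₜ[k] x) = (b.repr x j) • s := by
  simp [co]

lemma eq_sum (S : Type u) [CommSemiring S] [Algebra k S] (z : S ⊗[k] K) :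
    z = ∑ j, co b S j z • ((1 : S) ⊗ₜ[k] b j) := by
  induction z using TensorProduct.induction_on with
  | zero => simp
  | tmul s x =>
    have h1 : ∀ j, co b S j (s ⊗ₜ[k] x) • ((1 : S) ⊗ₜ[k] b j) = s ⊗ₜ[k] (b.repr x j • b j) := by
      intro j
      rw [co_tmul, TensorProduct.smul_tmul', smul_eq_mul, mul_one, TensorProduct.smul_tmul]
    simp only [h1]
    rw [← TensorProduct.tmul_sum, b.sum_repr]
  | add x y hx hy =>
    simp only [map_add, add_smul, Finset.sum_add_distrib]
    rw [← hx, ← hy]

lemma co_rTensor {S S' : Type u} [CommSemiring S] [Algebra k S] [CommSemiring S'] [Algebra k S']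
    (φ : S →ₐ[k] S') (j : J) (z : S ⊗[k] K) :
    co b S' j (φ.toLinearMap.rTensor K z) = φ (co b S j z) := by
  induction z using TensorProduct.induction_on with
  | zero => simp
  | tmul s x =>
    rw [LinearMap.rTensor_tmul, co_tmul, co_tmul, AlgHom.toLinearMap_apply, map_smul]
  | add x y hx hy => simp only [map_add, hx, hy]

/-- the Frobenius law -/
noncomputable def frobLaw (e : ℕ) (ys : J → E) : K →ₚₗ[k] E where
  toFun' S _ _ := fun z => ∑ j, (co b S j z) ^ e • ((1 : S) ⊗ₜ[k] ys j)
  isCompat' {S} _ _ {S'} _ _ φ := by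
    funext z
    simp only [Function.comp_apply, map_sum]
    refine Finset.sum_congr rfl (fun j _ => ?_)
    rw [co_rTensor, TensorProduct.smul_tmul', smul_eq_mul, mul_one,
      LinearMap.rTensor_tmul, TensorProduct.smul_tmul', smul_eq_mul, mul_one,
      AlgHom.toLinearMap_apply, map_pow]

lemma frobLaw_toFun' (e : ℕ) (ys : J → E) (S : Type u) [CommSemiring S] [Algebra k S]
    (z : S ⊗[k] K) :
    (frobLaw b e ys).toFun' S z = ∑ j, (co b S j z) ^ e • ((1 : S) ⊗ₜ[k] ys j) := rfl

lemma frobLaw_smul (e : ℕ) (ys : J → E) (S : Type u) [CommSemiring S] [Algebra k S] (a : S)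
    (z : S ⊗[k] K) :
    (frobLaw b e ys).toFun' S (a • z) = a ^ e • (frobLaw b e ys).toFun' S z := by
  rw [frobLaw_toFun', frobLaw_toFun', Finset.smul_sum]
  refine Finset.sum_congr rfl (fun j _ => ?_)
  rw [map_smul, smul_eq_mul, mul_pow, mul_smul]

variable (ι : E →ₐ[k] K)

/-- the base change of the inclusion -/
noncomputable abbrev ιS (S : Type u) [CommSemiring S] [Algebra k S] : S ⊗[k] E →ₐ[S] S ⊗[k] K :=
  Algebra.TensorProduct.map (AlgHom.id S S) ι

lemma ιS_injective (hι : Function.Injective ι) (S : Type u) [CommRing S] [Algebra k S] :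
    Function.Injective (ιS ι S) := by
  have h := Module.Flat.lTensor_preserves_injective_linearMap (M := S) ι.toLinearMap hι
  intro x y hxy
  apply h
  rw [PolLaw.lTensor_algHom_apply, PolLaw.lTensor_algHom_apply]
  exact hxy

theorem ιS_frobLaw {e : ℕ} (he : IsFrobExp k e) (ys : J → E) (hys : ∀ j, ι (ys j) = b j ^ e)
    (S : Type u) [CommSemiring S] [Algebra k S] (z : S ⊗[k] K) :
    ιS ι S ((frobLaw b e ys).toFun' S z) = z ^ e := by
  conv_rhs => rw [eq_sum b S z]
  rw [he.sum_pow, frobLaw_toFun', map_sum]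
  refine Finset.sum_congr rfl (fun j _ => ?_)
  rw [map_smul, Algebra.TensorProduct.map_tmul, hys, smul_pow, Algebra.TensorProduct.tmul_pow,
    one_pow]
  rfl

theorem frobLaw_one {e : ℕ} (he : IsFrobExp k e) (ys : J → E) (hys : ∀ j, ι (ys j) = b j ^ e)
    (hι : Function.Injective ι) (S : Type u) [CommRing S] [Algebra k S] :
    (frobLaw b e ys).toFun' S 1 = 1 := by
  apply ιS_injective ι hι S
  rw [ιS_frobLaw b ι he ys hys, one_pow, map_one]

theorem frobLaw_mul {e : ℕ} (he : IsFrobExp k e) (ys : J → E) (hys : ∀ j, ι (ys j) = b j ^ e)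
    (hι : Function.Injective ι) (S : Type u) [CommRing S] [Algebra k S] (x y : S ⊗[k] K) :
    (frobLaw b e ys).toFun' S (x * y) =
      (frobLaw b e ys).toFun' S x * (frobLaw b e ys).toFun' S y := by
  apply ιS_injective ι hι S
  rw [map_mul, ιS_frobLaw b ι he ys hys, ιS_frobLaw b ι he ys hys, ιS_frobLaw b ι he ys hys, mul_pow]

end Groth.Agent.Lib.Helper14.FrobLawK
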