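import Mathlib
import Groth.Prelude.Def_PolLaw
import Groth.Agent.Lib.Helper14GammaGen

/-!
# `Γ^d_A(B)` is finite / integral over `A` when `B` is (helper14)

For a finite family `b` spanning a subalgebra of `B`, the coefficients `cf γ b` of the universal law
at the generic element `∑ Xₖ ⊗ bₖ` span a finitely generated submodule `Nb γ b` of `C` which is a
subalgebra (`mul_mem_Nb`, `one_mem_Nb`) and contains all values `γ_S(∑ sₖ ⊗ bₖ)`
(`toFun'_gen_mem`).  With `GammaGen.subalgebra_eq_top`: `finite_of_finite`,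
`isIntegral_of_isIntegral`.
-/

set_option autoImplicit false
universe u
open TensorProduct

namespace Groth.Agent.Lib.Helper14.GammaFin

open Groth.Agent.Lib.Helper14.PolLawExt
open Groth.Agent.Lib.Helper14.GammaGen
open Groth.Agent.Lib.Helper14.PolLawRed (toFun'_map rTensor_eq_map exists_lift₂)

section generic
variable {A : Type u} [CommRing A] {C : Type u} [CommRing C] [Algebra A C]

lemma coeff_mem_of_mem_range {S : Type u} [CommSemiring S] [Algebra A S] {κ : Type*} [DecidableEq κ]
    (ℬ : Module.Basis κ A S) (N : Submodule A C) {y : S ⊗[A] C}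
    (hy : y ∈ LinearMap.range (N.subtype.lTensor S)) (k : κ) :
    TensorProduct.equivFinsuppOfBasisLeft ℬ y k ∈ N := by
  obtain ⟨z, rfl⟩ := hy
  induction z using TensorProduct.induction_on with
  | zero => simp
  | tmul s n =>
    rw [LinearMap.lTensor_tmul, TensorProduct.equivFinsuppOfBasisLeft_apply_tmul_apply]
    exact N.smul_mem _ n.2
  | add x y hx hy =>
    rw [map_add, map_add, Finsupp.add_apply]
    exact N.add_mem hx hy

lemma mem_range_of_coeff_mem {S : Type u} [CommSemiring S] [Algebra A S] {κ : Type*} [DecidableEq κ]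
    (ℬ : Module.Basis κ A S) (N : Submodule A C) (y : S ⊗[A] C)
    (h : ∀ k, TensorProduct.equivFinsuppOfBasisLeft ℬ y k ∈ N) :
    y ∈ LinearMap.range (N.subtype.lTensor S) := by
  rw [← (TensorProduct.equivFinsuppOfBasisLeft ℬ).symm_apply_apply y,
    TensorProduct.equivFinsuppOfBasisLeft_symm_apply]
  apply Submodule.sum_mem
  intro k _
  exact ⟨ℬ k ⊗ₜ ⟨_, h k⟩, by simp⟩

lemma range_mono (p : Submodule A C) (C₁ : Subalgebra A C) (h : p ≤ Subalgebra.toSubmodule C₁)
    (S : Type u) [CommSemiring S] [Algebra A S] :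
    LinearMap.range (p.subtype.lTensor S) ≤ LinearMap.range (C₁.val.toLinearMap.lTensor S) := by
  set j : p →ₗ[A] C₁ := Submodule.inclusion h with hj
  have h1 : p.subtype = C₁.val.toLinearMap ∘ₗ j := by
    ext x
    rfl
  rw [h1, LinearMap.lTensor_comp]
  exact LinearMap.range_comp_le_range _ _

end generic

section main
variable {A : Type u} [CommRing A] {B C : Type u} [CommRing B] [Algebra A B] [CommRing C]
  [Algebra A C] {d : ℕ} (γ : PolLaw.MulLaw A B C d) {m : ℕ} (b : Fin m → B)

/-- the element `∑ sₖ ⊗ bₖ` -/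
noncomputable def gen (S : Type u) [CommSemiring S] [Algebra A S] (s : Fin m → S) : S ⊗[A] B :=
  ∑ k, s k ⊗ₜ[A] b k

lemma rTensor_gen {S S' : Type u} [CommSemiring S] [Algebra A S] [CommSemiring S'] [Algebra A S']
    (e : S →ₐ[A] S') (s : Fin m → S) :
    e.toLinearMap.rTensor B (gen b S s) = gen b S' (fun k => e (s k)) := by
  simp [gen, map_sum, LinearMap.rTensor_tmul]

/-- the coefficients of the universal law at the generic element -/
noncomputable def cf : (Fin m →₀ ℕ) →₀ C :=
  TensorProduct.equivFinsuppOfBasisLeft (MvPolynomial.basisMonomials (Fin m) A)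
    (γ.law.toFun' (P A m) (gen b (P A m) MvPolynomial.X))

/-- their span -/
noncomputable def Nb : Submodule A C := Submodule.span A (Set.range (cf γ b))

lemma Nb_fg : (Nb γ b).FG := Submodule.fg_span (Finsupp.finite_range _)

lemma toFun'_gen_mem (S : Type u) [CommSemiring S] [Algebra A S] (s : Fin m → S) :
    γ.law.toFun' S (gen b S s) ∈ LinearMap.range ((Nb γ b).subtype.lTensor S) := by
  have h1 : gen b S s = (MvPolynomial.aeval s : P A m →ₐ[A] S).toLinearMap.rTensor B
      (gen b (P A m) MvPolynomial.X) := by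
    rw [rTensor_gen]
    simp
  have h2 : γ.law.toFun' (P A m) (gen b (P A m) MvPolynomial.X) ∈
      LinearMap.range ((Nb γ b).subtype.lTensor (P A m)) := by
    apply mem_range_of_coeff_mem (MvPolynomial.basisMonomials (Fin m) A)
    intro μ
    exact Submodule.subset_span ⟨μ, rfl⟩
  obtain ⟨z, hz⟩ := h2
  rw [h1, ← PolynomialLaw.isCompat_apply', ← hz]
  exact ⟨(MvPolynomial.aeval s : P A m →ₐ[A] S).toLinearMap.rTensor _ z,
    lTensor_rTensor (ι := (Nb γ b).subtype) (MvPolynomial.aeval s : P A m →ₐ[A] S) z⟩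

lemma gen_mul_gen (a : Fin m → Fin m → Fin m → A)
    (ha : ∀ k l, b k * b l = ∑ j, a k l j • b j) (S : Type u) [CommSemiring S] [Algebra A S]
    (s s' : Fin m → S) :
    (gen b S s : S ⊗[A] B) * gen b S s' = gen b S (fun j => ∑ k, ∑ l, a k l j • (s k * s' l)) := by
  simp only [gen, Finset.sum_mul, Finset.mul_sum, Algebra.TensorProduct.tmul_mul_tmul, ha,
    TensorProduct.tmul_sum, TensorProduct.sum_tmul, TensorProduct.tmul_smul,
    TensorProduct.smul_tmul']
  rw [Finset.sum_comm]
  conv_lhs =>
    arg 2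
    ext k
    rw [Finset.sum_comm]
  rw [Finset.sum_comm]

/-- coefficient of a product in two sets of variables -/
lemma coeff_mul (μ ν : Fin m →₀ ℕ) (y₁ y₂ : P A m ⊗[A] C) :
    TensorProduct.equivFinsuppOfBasisLeft
      ((MvPolynomial.basisMonomials (Fin m) A).tensorProduct
        (MvPolynomial.basisMonomials (Fin m) A))
      ((Algebra.TensorProduct.includeLeft : P A m →ₐ[A] P A m ⊗[A] P A m).toLinearMap.rTensor C y₁ *
        (Algebra.TensorProduct.includeRight : P A m →ₐ[A] P A m ⊗[A] P A m).toLinearMap.rTensor C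
          y₂) (μ, ν) =
      TensorProduct.equivFinsuppOfBasisLeft (MvPolynomial.basisMonomials (Fin m) A) y₁ μ *
        TensorProduct.equivFinsuppOfBasisLeft (MvPolynomial.basisMonomials (Fin m) A) y₂ ν := by
  induction y₁ using TensorProduct.induction_on with
  | zero => simp
  | add x y hx hy =>
    rw [map_add, add_mul, map_add, Finsupp.add_apply, hx, hy, map_add, Finsupp.add_apply, add_mul]
  | tmul p₁ c₁ =>
    induction y₂ using TensorProduct.induction_on with
    | zero => simp
    | add x y hx hy =>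
      rw [map_add, mul_add, map_add, Finsupp.add_apply, hx, hy, map_add, Finsupp.add_apply,
        mul_add]
    | tmul p₂ c₂ =>
      rw [LinearMap.rTensor_tmul, LinearMap.rTensor_tmul, Algebra.TensorProduct.tmul_mul_tmul,
        TensorProduct.equivFinsuppOfBasisLeft_apply_tmul_apply,
        TensorProduct.equivFinsuppOfBasisLeft_apply_tmul_apply,
        TensorProduct.equivFinsuppOfBasisLeft_apply_tmul_apply]
      simp only [AlgHom.toLinearMap_apply, Algebra.TensorProduct.includeLeft_apply,
        Algebra.TensorProduct.includeRight_apply, Algebra.TensorProduct.tmul_mul_tmul, one_mul,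
        mul_one, Module.Basis.tensorProduct_repr_tmul_apply, smul_eq_mul]
      rw [smul_mul_smul_comm, mul_comm]

lemma cf_mul_cf_mem (hmul : ∀ k l, b k * b l ∈ Submodule.span A (Set.range b))
    (μ ν : Fin m →₀ ℕ) : cf γ b μ * cf γ b ν ∈ Nb γ b := by
  have h := fun k l => (Submodule.mem_span_range_iff_exists_fun A).mp (hmul k l)
  choose a ha using h
  have ha' : ∀ k l, b k * b l = ∑ j, a k l j • b j := fun k l => (ha k l).symm
  set S₂ := P A m ⊗[A] P A m
  set i₁ : P A m →ₐ[A] S₂ := Algebra.TensorProduct.includeLeft with hi₁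
  set i₂ : P A m →ₐ[A] S₂ := Algebra.TensorProduct.includeRight with hi₂
  set gv := γ.law.toFun' (P A m) (gen b (P A m) MvPolynomial.X) with hgv
  have h1 : i₁.toLinearMap.rTensor C gv * i₂.toLinearMap.rTensor C gv ∈
      LinearMap.range ((Nb γ b).subtype.lTensor S₂) := by
    rw [hgv, PolynomialLaw.isCompat_apply', PolynomialLaw.isCompat_apply', ← (γ.mult S₂).2,
      rTensor_gen, rTensor_gen, gen_mul_gen b a ha']
    exact toFun'_gen_mem γ b S₂ _
  have h2 := coeff_mem_of_mem_range ((MvPolynomial.basisMonomials (Fin m) A).tensorProduct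
    (MvPolynomial.basisMonomials (Fin m) A)) (Nb γ b) h1 (μ, ν)
  rw [coeff_mul] at h2
  exact h2

lemma mul_mem_Nb (hmul : ∀ k l, b k * b l ∈ Submodule.span A (Set.range b)) {x y : C}
    (hx : x ∈ Nb γ b) (hy : y ∈ Nb γ b) : x * y ∈ Nb γ b := by
  induction hx using Submodule.span_induction with
  | mem x hx =>
    obtain ⟨μ, rfl⟩ := hx
    induction hy using Submodule.span_induction with
    | mem y hy =>
      obtain ⟨ν, rfl⟩ := hy
      exact cf_mul_cf_mem γ b hmul μ ν
    | zero => rw [mul_zero]; exact zero_mem _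
    | add y₁ y₂ _ _ h₁ h₂ => rw [mul_add]; exact add_mem h₁ h₂
    | smul c y _ h => rw [mul_smul_comm]; exact Submodule.smul_mem _ c h
  | zero => rw [zero_mul]; exact zero_mem _
  | add x₁ x₂ _ _ h₁ h₂ => rw [add_mul]; exact add_mem h₁ h₂
  | smul c x _ h => rw [smul_mul_assoc]; exact Submodule.smul_mem _ c h

lemma one_mem_Nb (hone : (1 : B) ∈ Submodule.span A (Set.range b)) : (1 : C) ∈ Nb γ b := by
  obtain ⟨a, ha⟩ := (Submodule.mem_span_range_iff_exists_fun A).mp hone
  have h1 : gen b A a = (1 : A ⊗[A] B) := by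
    rw [gen, Algebra.TensorProduct.one_def, ← ha, TensorProduct.tmul_sum]
    refine Finset.sum_congr rfl (fun k _ => ?_)
    rw [TensorProduct.tmul_smul, TensorProduct.smul_tmul', smul_eq_mul, mul_one]
  have h2 := toFun'_gen_mem γ b A a
  rw [h1, (γ.mult A).1] at h2
  have h3 := coeff_mem_of_mem_range (Module.Basis.singleton Unit A) (Nb γ b) h2 ()
  rw [Algebra.TensorProduct.one_def, TensorProduct.equivFinsuppOfBasisLeft_apply_tmul_apply] at h3
  simpa using h3

/-- the span of the coefficients as a subalgebra -/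
noncomputable def NbAlg (hmul : ∀ k l, b k * b l ∈ Submodule.span A (Set.range b))
    (hone : (1 : B) ∈ Submodule.span A (Set.range b)) : Subalgebra A C :=
  (Nb γ b).toSubalgebra (one_mem_Nb γ b hone) (fun _ _ hx hy => mul_mem_Nb γ b hmul hx hy)

lemma NbAlg_toSubmodule (hmul : ∀ k l, b k * b l ∈ Submodule.span A (Set.range b))
    (hone : (1 : B) ∈ Submodule.span A (Set.range b)) :
    Subalgebra.toSubmodule (NbAlg γ b hmul hone) = Nb γ b :=
  Submodule.toSubalgebra_toSubmodule _ _ _

end main

section final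
variable {A : Type u} [CommRing A] {B C : Type u} [CommRing B] [Algebra A B] [CommRing C]
  [Algebra A C] {d : ℕ} (γ : PolLaw.MulLaw A B C d)

lemma exists_gen_of_mem {m : ℕ} (b : Fin m → B) {S : Type u} [CommSemiring S] [Algebra A S]
    {r : ℕ} (p : Fin r → S) (β : Fin r → B) (hβ : ∀ i, β i ∈ Submodule.span A (Set.range b)) :
    ∃ w : Fin m → S, ∑ i, p i ⊗ₜ[A] β i = gen b S w := by
  have h := fun i => (Submodule.mem_span_range_iff_exists_fun A).mp (hβ i)
  choose a ha using h
  refine ⟨fun k => ∑ i, a i k • p i, ?_⟩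
  simp only [gen, TensorProduct.sum_tmul]
  rw [Finset.sum_comm]
  refine Finset.sum_congr rfl (fun i _ => ?_)
  rw [← ha i, TensorProduct.tmul_sum]
  refine Finset.sum_congr rfl (fun k _ => ?_)
  rw [TensorProduct.tmul_smul, TensorProduct.smul_tmul']

lemma exists_fin_sum_tmul' (S : Type u) [CommSemiring S] [Algebra A S] (z : S ⊗[A] B) :
    ∃ (n : ℕ) (a : Fin n → S) (b : Fin n → B), z = ∑ k, a k ⊗ₜ[A] b k := by
  induction z using TensorProduct.induction_on with
  | zero => exact ⟨0, Fin.elim0, Fin.elim0, by simp⟩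
  | tmul a b => exact ⟨1, fun _ => a, fun _ => b, by simp⟩
  | add x y hx hy =>
    obtain ⟨n, a, b, rfl⟩ := hx
    obtain ⟨m, a', b', rfl⟩ := hy
    refine ⟨n + m, Fin.append a a', Fin.append b b', ?_⟩
    rw [Fin.sum_univ_add]
    simp

theorem finite_of_finite (hγ : PolLaw.IsGammaD γ) [Module.Finite A B] : Module.Finite A C := by
  obtain ⟨m, b, hb⟩ := Module.Finite.exists_fin (R := A) (M := B)
  have hmul : ∀ k l, b k * b l ∈ Submodule.span A (Set.range b) := by
    intro k l
    rw [hb]
    trivial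
  have hone : (1 : B) ∈ Submodule.span A (Set.range b) := by
    rw [hb]
    trivial
  set C₁ := NbAlg γ b hmul hone with hC₁
  have hH : Hyp γ.law C₁.val.toLinearMap := by
    intro n x
    obtain ⟨r, p, β, rfl⟩ := exists_fin_sum_tmul' (P A n) x
    obtain ⟨w, hw⟩ := exists_gen_of_mem b p β (fun i => by rw [hb]; trivial)
    rw [hw]
    exact range_mono (Nb γ b) C₁ (le_of_eq (NbAlg_toSubmodule γ b hmul hone).symm) _
      (toFun'_gen_mem γ b _ w)
  have htop := subalgebra_eq_top γ hγ C₁ hH
  have h1 : Nb γ b = ⊤ := by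
    rw [← NbAlg_toSubmodule γ b hmul hone, ← hC₁, htop, Algebra.top_toSubmodule]
  rw [Module.finite_def, ← h1]
  exact Nb_fg γ b

theorem isIntegral_of_isIntegral (hγ : PolLaw.IsGammaD γ) [Algebra.IsIntegral A B] :
    Algebra.IsIntegral A C := by
  set C₁ := integralClosure A C with hC₁
  have hH : Hyp γ.law C₁.val.toLinearMap := by
    intro n x
    obtain ⟨r, p, β, rfl⟩ := exists_fin_sum_tmul' (P A n) x
    set B₀ := Algebra.adjoin A (Set.range β) with hB₀
    have hfg : (Subalgebra.toSubmodule B₀).FG :=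
      fg_adjoin_of_finite (Set.finite_range β) (fun x _ => Algebra.IsIntegral.isIntegral x)
    obtain ⟨m, b, hb⟩ := Submodule.fg_iff_exists_fin_generating_family.mp hfg
    have hbmem : ∀ k, b k ∈ B₀ := by
      intro k
      have : b k ∈ Submodule.span A (Set.range b) := Submodule.subset_span ⟨k, rfl⟩
      rw [hb] at this
      exact this
    have hmul : ∀ k l, b k * b l ∈ Submodule.span A (Set.range b) := by
      intro k l
      rw [hb]
      exact B₀.mul_mem (hbmem k) (hbmem l)
    have hone : (1 : B) ∈ Submodule.span A (Set.range b) := by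
      rw [hb]
      exact B₀.one_mem
    obtain ⟨w, hw⟩ := exists_gen_of_mem b p β (fun i => by
      rw [hb]
      exact Algebra.subset_adjoin ⟨i, rfl⟩)
    rw [hw]
    refine range_mono (Nb γ b) C₁ ?_ _ (toFun'_gen_mem γ b _ w)
    intro c hc
    refine IsIntegral.of_mem_of_fg (NbAlg γ b hmul hone) ?_ c ?_
    · rw [NbAlg_toSubmodule]
      exact Nb_fg γ b
    · rw [← NbAlg_toSubmodule γ b hmul hone] at hc
      exact hc
  have htop := subalgebra_eq_top γ hγ C₁ hH
  refine ⟨fun c => ?_⟩
  have : c ∈ C₁ := by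
    rw [htop]
    exact Algebra.mem_top
  exact this

end final

end Groth.Agent.Lib.Helper14.GammaFin
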