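import Mathlib
import Groth.Prelude.Def_PolLaw
import Groth.Agent.Lib.Helper14GammaFin

/-!
# Module generation of `Γ^d_A(B)` by the coefficients of the universal law (helper14)

`Nall γ`: the `A`-span of all coefficients `cf γ b μ` (all finite families `b`).  It is closed under
multiplication (`mul_mem_Nall`), hence for `IsGammaD γ` it is everything (`Nall_eq_top`).
`linearMap_ext`: two linear maps out of `C` agreeing on all generic values of `γ` are equal.
-/

set_option autoImplicit false
universe u
open TensorProduct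

namespace Groth.Agent.Lib.Helper14.GammaModGen

open Groth.Agent.Lib.Helper14.PolLawExt
open Groth.Agent.Lib.Helper14.GammaGen
open Groth.Agent.Lib.Helper14.GammaFin

section generic
variable {A : Type u} [CommRing A] {C : Type u} [AddCommGroup C] [Module A C]

lemma range_mono' {N N' : Submodule A C} (h : N ≤ N') (S : Type u) [CommSemiring S] [Algebra A S] :
    LinearMap.range (N.subtype.lTensor S) ≤ LinearMap.range (N'.subtype.lTensor S) := by
  have h1 : N.subtype = N'.subtype ∘ₗ Submodule.inclusion h := by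
    ext x
    rfl
  rw [h1, LinearMap.lTensor_comp]
  exact LinearMap.range_comp_le_range _ _

lemma equivFinsupp_lTensor {S : Type u} [CommSemiring S] [Algebra A S] {κ : Type*} [DecidableEq κ]
    (ℬ : Module.Basis κ A S) {N : Type u} [AddCommGroup N] [Module A N] (g : C →ₗ[A] N)
    (y : S ⊗[A] C) (k : κ) :
    TensorProduct.equivFinsuppOfBasisLeft ℬ (g.lTensor S y) k =
      g (TensorProduct.equivFinsuppOfBasisLeft ℬ y k) := by
  induction y using TensorProduct.induction_on with
  | zero => simp
  | tmul s c =>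
    rw [LinearMap.lTensor_tmul, TensorProduct.equivFinsuppOfBasisLeft_apply_tmul_apply,
      TensorProduct.equivFinsuppOfBasisLeft_apply_tmul_apply, map_smul]
  | add y w hy hw => rw [map_add, map_add, Finsupp.add_apply, hy, hw, map_add, Finsupp.add_apply,
      map_add]

end generic

section main
variable {A : Type u} [CommRing A] {B C : Type u} [CommRing B] [Algebra A B] [CommRing C]
  [Algebra A C] {d : ℕ} (γ : PolLaw.MulLaw A B C d)

/-- the span of all coefficients of `γ` -/
noncomputable def Nall : Submodule A C :=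
  Submodule.span A {c | ∃ (m : ℕ) (b : Fin m → B) (μ : Fin m →₀ ℕ), c = cf γ b μ}

lemma Nb_le_Nall {m : ℕ} (b : Fin m → B) : Nb γ b ≤ Nall γ := by
  rw [Nb, Submodule.span_le]
  rintro _ ⟨μ, rfl⟩
  exact Submodule.subset_span ⟨m, b, μ, rfl⟩

lemma toFun'_mem_Nall (S : Type u) [CommSemiring S] [Algebra A S] (x : S ⊗[A] B) :
    γ.law.toFun' S x ∈ LinearMap.range ((Nall γ).subtype.lTensor S) := by
  obtain ⟨r, p, β, rfl⟩ := exists_fin_sum_tmul' S x
  exact range_mono' (Nb_le_Nall γ β) S (toFun'_gen_mem γ β S p)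

/-- coefficient of a product in two sets of variables -/
lemma coeff_mul' {m m' : ℕ} (μ : Fin m →₀ ℕ) (ν : Fin m' →₀ ℕ) (y₁ : P A m ⊗[A] C)
    (y₂ : P A m' ⊗[A] C) :
    TensorProduct.equivFinsuppOfBasisLeft
      ((MvPolynomial.basisMonomials (Fin m) A).tensorProduct
        (MvPolynomial.basisMonomials (Fin m') A))
      ((Algebra.TensorProduct.includeLeft : P A m →ₐ[A] P A m ⊗[A] P A m').toLinearMap.rTensor C y₁ *
        (Algebra.TensorProduct.includeRight : P A m' →ₐ[A] P A m ⊗[A] P A m').toLinearMap.rTensor C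
          y₂) (μ, ν) =
      TensorProduct.equivFinsuppOfBasisLeft (MvPolynomial.basisMonomials (Fin m) A) y₁ μ *
        TensorProduct.equivFinsuppOfBasisLeft (MvPolynomial.basisMonomials (Fin m') A) y₂ ν := by
  induction y₁ using TensorProduct.induction_on with
  | zero => simp
  | add x y hx hy =>
    rw [map_add, add_mul, map_add, Finsupp.add_apply, hx, hy, map_add, Finsupp.add_apply, add_mul]
  | tmul p₁ c₁ =>
    induction y₂ using TensorProduct.induction_on with
    | zero => simp
    | add x y hx hy =>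
      rw [map_add, mul_add, map_add, Finsupp.add_apply, hx, hy, map_add, Finsupp.add_apply,
        mul_add]
    | tmul p₂ c₂ =>
      rw [LinearMap.rTensor_tmul, LinearMap.rTensor_tmul, Algebra.TensorProduct.tmul_mul_tmul,
        TensorProduct.equivFinsuppOfBasisLeft_apply_tmul_apply,
        TensorProduct.equivFinsuppOfBasisLeft_apply_tmul_apply,
        TensorProduct.equivFinsuppOfBasisLeft_apply_tmul_apply]
      simp only [AlgHom.toLinearMap_apply, Algebra.TensorProduct.includeLeft_apply,
        Algebra.TensorProduct.includeRight_apply, Algebra.TensorProduct.tmul_mul_tmul, one_mul,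
        mul_one, Module.Basis.tensorProduct_repr_tmul_apply, smul_eq_mul]
      rw [smul_mul_smul_comm, mul_comm]

lemma cf_mul_cf_mem {m m' : ℕ} (b : Fin m → B) (b' : Fin m' → B) (μ : Fin m →₀ ℕ)
    (ν : Fin m' →₀ ℕ) : cf γ b μ * cf γ b' ν ∈ Nall γ := by
  set S₂ := P A m ⊗[A] P A m'
  set i₁ : P A m →ₐ[A] S₂ := Algebra.TensorProduct.includeLeft with hi₁
  set i₂ : P A m' →ₐ[A] S₂ := Algebra.TensorProduct.includeRight with hi₂
  set gv := γ.law.toFun' (P A m) (gen b (P A m) MvPolynomial.X) with hgv
  set gv' := γ.law.toFun' (P A m') (gen b' (P A m') MvPolynomial.X) with hgv'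
  have h1 : i₁.toLinearMap.rTensor C gv * i₂.toLinearMap.rTensor C gv' ∈
      LinearMap.range ((Nall γ).subtype.lTensor S₂) := by
    rw [hgv, hgv', PolynomialLaw.isCompat_apply', PolynomialLaw.isCompat_apply', ← (γ.mult S₂).2]
    exact toFun'_mem_Nall γ S₂ _
  have h2 := coeff_mem_of_mem_range ((MvPolynomial.basisMonomials (Fin m) A).tensorProduct
    (MvPolynomial.basisMonomials (Fin m') A)) (Nall γ) h1 (μ, ν)
  rw [coeff_mul'] at h2
  exact h2

lemma mul_mem_Nall {x y : C} (hx : x ∈ Nall γ) (hy : y ∈ Nall γ) : x * y ∈ Nall γ := by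
  induction hx using Submodule.span_induction with
  | mem x hx =>
    obtain ⟨m, b, μ, rfl⟩ := hx
    induction hy using Submodule.span_induction with
    | mem y hy =>
      obtain ⟨m', b', ν, rfl⟩ := hy
      exact cf_mul_cf_mem γ b b' μ ν
    | zero => rw [mul_zero]; exact zero_mem _
    | add y₁ y₂ _ _ h₁ h₂ => rw [mul_add]; exact add_mem h₁ h₂
    | smul c y _ h => rw [mul_smul_comm]; exact Submodule.smul_mem _ c h
  | zero => rw [zero_mul]; exact zero_mem _
  | add x₁ x₂ _ _ h₁ h₂ => rw [add_mul]; exact add_mem h₁ h₂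
  | smul c x _ h => rw [smul_mul_assoc]; exact Submodule.smul_mem _ c h

lemma one_mem_Nall : (1 : C) ∈ Nall γ := by
  have h2 := toFun'_mem_Nall γ A (1 : A ⊗[A] B)
  rw [(γ.mult A).1] at h2
  have h3 := coeff_mem_of_mem_range (Module.Basis.singleton Unit A) (Nall γ) h2 ()
  rw [Algebra.TensorProduct.one_def, TensorProduct.equivFinsuppOfBasisLeft_apply_tmul_apply] at h3
  simpa using h3

/-- the span of the coefficients as a subalgebra -/
noncomputable def NallAlg : Subalgebra A C :=
  (Nall γ).toSubalgebra (one_mem_Nall γ) (fun _ _ hx hy => mul_mem_Nall γ hx hy)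

/-- **Module generation**: the coefficients of the universal law span `Γ^d_A(B)` as a module. -/
theorem Nall_eq_top (hγ : PolLaw.IsGammaD γ) : Nall γ = ⊤ := by
  have hH : Hyp γ.law (NallAlg γ).val.toLinearMap := by
    intro n x
    exact range_mono (Nall γ) (NallAlg γ)
      (le_of_eq (Submodule.toSubalgebra_toSubmodule _ _ _).symm) _ (toFun'_mem_Nall γ _ x)
  have htop := subalgebra_eq_top γ hγ (NallAlg γ) hH
  rw [← Submodule.toSubalgebra_toSubmodule (Nall γ) (one_mem_Nall γ)
    (fun _ _ hx hy => mul_mem_Nall γ hx hy)]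
  show Subalgebra.toSubmodule (NallAlg γ) = ⊤
  rw [htop, Algebra.top_toSubmodule]

/-- two linear maps out of `Γ^d_A(B)` agreeing on the generic values of `γ` are equal -/
theorem linearMap_ext (hγ : PolLaw.IsGammaD γ) {N : Type u} [AddCommGroup N] [Module A N]
    (g₁ g₂ : C →ₗ[A] N)
    (h : ∀ (m : ℕ) (b : Fin m → B),
      g₁.lTensor (P A m) (γ.law.toFun' (P A m) (gen b (P A m) MvPolynomial.X)) =
        g₂.lTensor (P A m) (γ.law.toFun' (P A m) (gen b (P A m) MvPolynomial.X))) : g₁ = g₂ := by
  classical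
  have hle : Nall γ ≤ LinearMap.eqLocus g₁ g₂ := by
    rw [Nall, Submodule.span_le]
    rintro _ ⟨m, b, μ, rfl⟩
    rw [SetLike.mem_coe, LinearMap.mem_eqLocus]
    have h1 := congrArg (fun y => TensorProduct.equivFinsuppOfBasisLeft
      (MvPolynomial.basisMonomials (Fin m) A) y μ) (h m b)
    simp only [equivFinsupp_lTensor] at h1
    exact h1
  rw [Nall_eq_top γ hγ] at hle
  ext c
  exact hle (Submodule.mem_top)

end main

end Groth.Agent.Lib.Helper14.GammaModGen
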