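/-
Helper library (helper14): a universality criterion for multiplicative homogeneous laws
(`isGammaD_of_Nall`): if the coefficients of `γ` span the target and every multiplicative law of
degree `d` factors linearly through `γ`, then `γ` is universal (`PolLaw.IsGammaD`).
-/
import Mathlib
import Groth.Prelude.Def_PolLaw
import Groth.Prelude.Def_PolLaw2
import Groth.Agent.Lib.Helper14GammaModGen

set_option autoImplicit false
universe u
open TensorProduct

namespace Groth.Agent.Lib.Helper14.GammaUniv

open Groth.Agent.Lib.Helper14.PolLawExt (P Hyp)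
open Groth.Agent.Lib.Helper14.GammaFin (gen cf)
open Groth.Agent.Lib.Helper14.GammaModGen

section ext
variable {A : Type u} [CommRing A] {M N : Type u} [AddCommGroup M] [Module A M]
  [AddCommGroup N] [Module A N]

/-- two laws agreeing on all polynomial test algebras are equal -/
theorem law_ext_P (F G : M →ₚₗ[A] N)
    (h : ∀ (n : ℕ) (x : P A n ⊗[A] M), F.toFun' (P A n) x = G.toFun' (P A n) x) : F = G := by
  ext S _ _ t
  obtain ⟨n, ψ, p, rfl⟩ := PolynomialLaw.exists_lift t
  rw [← PolynomialLaw.isCompat_apply', ← PolynomialLaw.isCompat_apply', h]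

end ext

section main
variable {A : Type u} [CommRing A] {B C : Type u} [CommRing B] [Algebra A B] [CommRing C]
  [Algebra A C] {d : ℕ} (γ : PolLaw.MulLaw A B C d)

/-- two linear maps out of `C` agreeing on the generic values of `γ` are equal, when the
coefficients of `γ` span `C` -/
theorem linearMap_ext_of_Nall (hN : Nall γ = ⊤) {N : Type u} [AddCommGroup N] [Module A N]
    (g₁ g₂ : C →ₗ[A] N)
    (h : ∀ (m : ℕ) (b : Fin m → B),
      g₁.lTensor (P A m) (γ.law.toFun' (P A m) (gen b (P A m) MvPolynomial.X)) =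
        g₂.lTensor (P A m) (γ.law.toFun' (P A m) (gen b (P A m) MvPolynomial.X))) : g₁ = g₂ := by
  classical
  have hle : Nall γ ≤ LinearMap.eqLocus g₁ g₂ := by
    rw [Nall, Submodule.span_le]
    rintro _ ⟨m, b, μ, rfl⟩
    rw [SetLike.mem_coe, LinearMap.mem_eqLocus]
    have h1 := congrArg (fun y => TensorProduct.equivFinsuppOfBasisLeft
      (MvPolynomial.basisMonomials (Fin m) A) y μ) (h m b)
    simp only [equivFinsupp_lTensor] at h1
    exact h1
  rw [hN] at hle
  ext c
  exact hle (Submodule.mem_top)

variable {C' : Type u} [CommRing C'] [Algebra A C'] (F : PolLaw.MulLaw A B C' d)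

lemma map_cf_mul_cf (f : C →ₗ[A] C') (hf : PolLaw.postcomp f γ.law = F.law) {m m' : ℕ}
    (b : Fin m → B) (b' : Fin m' → B) (μ : Fin m →₀ ℕ) (ν : Fin m' →₀ ℕ) :
    f (cf γ b μ * cf γ b' ν) = f (cf γ b μ) * f (cf γ b' ν) := by
  classical
  have hf' : ∀ (S : Type u) [CommSemiring S] [Algebra A S] (x : S ⊗[A] B),
      f.lTensor S (γ.law.toFun' S x) = F.law.toFun' S x := by
    intro S _ _ x
    rw [← hf]
    rfl
  set S₂ := P A m ⊗[A] P A m'
  set i₁ : P A m →ₐ[A] S₂ := Algebra.TensorProduct.includeLeft with hi₁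
  set i₂ : P A m' →ₐ[A] S₂ := Algebra.TensorProduct.includeRight with hi₂
  set x := gen (A := A) b (P A m) MvPolynomial.X with hx
  set y := gen (A := A) b' (P A m') MvPolynomial.X with hy
  have h1 : f.lTensor S₂ (i₁.toLinearMap.rTensor C (γ.law.toFun' (P A m) x) *
      i₂.toLinearMap.rTensor C (γ.law.toFun' (P A m') y)) =
      i₁.toLinearMap.rTensor C' (F.law.toFun' (P A m) x) *
        i₂.toLinearMap.rTensor C' (F.law.toFun' (P A m') y) := by
    rw [PolynomialLaw.isCompat_apply', PolynomialLaw.isCompat_apply', ← (γ.mult S₂).2, hf',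
      (F.mult S₂).2, PolynomialLaw.isCompat_apply', PolynomialLaw.isCompat_apply']
  have h2 := congrArg (fun z => TensorProduct.equivFinsuppOfBasisLeft
    ((MvPolynomial.basisMonomials (Fin m) A).tensorProduct
        (MvPolynomial.basisMonomials (Fin m') A)) z (μ, ν)) h1
  beta_reduce at h2
  rw [equivFinsupp_lTensor, coeff_mul', coeff_mul', ← hf', ← hf', equivFinsupp_lTensor, equivFinsupp_lTensor] at h2
  exact h2

lemma map_mul_of_Nall (hN : Nall γ = ⊤) (f : C →ₗ[A] C')
    (hf : PolLaw.postcomp f γ.law = F.law) (x y : C) : f (x * y) = f x * f y := by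
  have hx : x ∈ Nall γ := hN ▸ Submodule.mem_top
  have hy : y ∈ Nall γ := hN ▸ Submodule.mem_top
  induction hx using Submodule.span_induction with
  | mem x hx =>
    obtain ⟨m, b, μ, rfl⟩ := hx
    induction hy using Submodule.span_induction with
    | mem y hy =>
      obtain ⟨m', b', ν, rfl⟩ := hy
      exact map_cf_mul_cf γ F f hf b b' μ ν
    | zero => rw [mul_zero, map_zero, mul_zero]
    | add y₁ y₂ _ _ h₁ h₂ => rw [mul_add, map_add, h₁, h₂, map_add, mul_add]
    | smul c y _ h => rw [mul_smul_comm, map_smul, h, map_smul, mul_smul_comm]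
  | zero => rw [zero_mul, map_zero, zero_mul]
  | add x₁ x₂ _ _ h₁ h₂ => rw [add_mul, map_add, h₁, h₂, map_add, add_mul]
  | smul c x _ h => rw [smul_mul_assoc, map_smul, h, map_smul, smul_mul_assoc]

lemma map_one_of_postcomp (f : C →ₗ[A] C') (hf : PolLaw.postcomp f γ.law = F.law) : f 1 = 1 := by
  have h1 : f.lTensor A (γ.law.toFun' A 1) = F.law.toFun' A 1 := by
    rw [← hf]
    rfl
  rw [(γ.mult A).1, (F.mult A).1, Algebra.TensorProduct.one_def, LinearMap.lTensor_tmul,
    Algebra.TensorProduct.one_def] at h1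
  have h2 := congrArg (TensorProduct.lid A C') h1
  simpa using h2

/-- **Universality criterion**: a multiplicative law whose coefficients span the target and through
which every multiplicative law factors *linearly* is universal. -/
theorem isGammaD_of_Nall (hN : Nall γ = ⊤)
    (hex : ∀ (C' : Type u) [CommRing C'] [Algebra A C'] (F : PolLaw.MulLaw A B C' d),
      ∃ f : C →ₗ[A] C', PolLaw.postcomp f γ.law = F.law) : PolLaw.IsGammaD γ := by
  intro C' _ _ F
  obtain ⟨f, hf⟩ := hex C' F
  refine ⟨AlgHom.ofLinearMap f (map_one_of_postcomp γ F f hf) (map_mul_of_Nall γ F hN f hf),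
    ?_, ?_⟩
  · show PolLaw.postcomp (AlgHom.ofLinearMap f _ _).toLinearMap γ.law = F.law
    have e : (AlgHom.ofLinearMap f (map_one_of_postcomp γ F f hf)
        (map_mul_of_Nall γ F hN f hf)).toLinearMap = f := by
      ext c
      rfl
    rw [e]
    exact hf
  · intro g hg
    have hg' : PolLaw.postcomp g.toLinearMap γ.law = F.law := hg
    have h1 : g.toLinearMap = f := by
      apply linearMap_ext_of_Nall γ hN
      intro m b
      have e1 : g.toLinearMap.lTensor (P A m) (γ.law.toFun' (P A m)
          (gen b (P A m) MvPolynomial.X)) = F.law.toFun' (P A m) (gen b (P A m) MvPolynomial.X) := by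
        rw [← hg']; rfl
      have e2 : f.lTensor (P A m) (γ.law.toFun' (P A m)
          (gen b (P A m) MvPolynomial.X)) = F.law.toFun' (P A m) (gen b (P A m) MvPolynomial.X) := by
        rw [← hf]; rfl
      rw [e1, e2]
    apply AlgHom.ext
    intro c
    exact LinearMap.congr_fun h1 c

end main

end Groth.Agent.Lib.Helper14.GammaUniv
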