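import Mathlib
import Groth.Prelude.Def_PolLaw
import Groth.Prelude.Def_PolLaw2
import Groth.Agent.Lib.Helper14PolLawRed
import Groth.Agent.Lib.Helper14PolLawPoly
import Groth.Agent.Lib.Helper14PolLawFin

/-!
# Diagonal elements and multiplicativity of a linear factorisation of a multiplicative law (helper14)

If a multiplicative law `G : B → A` factors as `Φ ∘ D` with `D : B → C` multiplicative and
`Φ : C → A` merely linear, then `Φ` is multiplicative on the "diagonal" elements of `S ⊗ C`
(`IsDiag`): images of values of `D` under linear functionals of test algebras.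
-/

set_option autoImplicit false
universe u
open TensorProduct

namespace Groth.Agent.Lib.Helper14.PolLawDiag

open Groth.Agent.Lib.Helper14.PolLawRed (toFun'_map rTensor_eq_map)
open Groth.Agent.Lib.Helper14.PolLawPoly (map_map_apply)

section functional
variable {A : Type u} [CommRing A]

/-- product of two functionals on a tensor product of test algebras -/
noncomputable def mulFun {R R' S : Type u} [CommRing R] [Algebra A R] [CommRing R'] [Algebra A R']
    [CommRing S] [Algebra A S] (l : R →ₗ[A] S) (l' : R' →ₗ[A] S) : R ⊗[A] R' →ₗ[A] S :=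
  (LinearMap.mul' A S).comp (TensorProduct.map l l')

lemma mulFun_tmul {R R' S : Type u} [CommRing R] [Algebra A R] [CommRing R'] [Algebra A R']
    [CommRing S] [Algebra A S] (l : R →ₗ[A] S) (l' : R' →ₗ[A] S) (r : R) (r' : R') :
    mulFun l l' (r ⊗ₜ r') = l r * l' r' := by
  simp [mulFun]

lemma mulFun_rTensor {R R' S : Type u} [CommRing R] [Algebra A R] [CommRing R'] [Algebra A R']
    [CommRing S] [Algebra A S] (l : R →ₗ[A] S) (l' : R' →ₗ[A] S)
    (M : Type u) [CommRing M] [Algebra A M] (y : R ⊗[A] M) (y' : R' ⊗[A] M) :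
    (mulFun l l').rTensor M
      (Algebra.TensorProduct.map (Algebra.TensorProduct.includeLeft : R →ₐ[A] R ⊗[A] R')
          (AlgHom.id A M) y *
        Algebra.TensorProduct.map (Algebra.TensorProduct.includeRight : R' →ₐ[A] R ⊗[A] R')
          (AlgHom.id A M) y') =
      l.rTensor M y * l'.rTensor M y' := by
  induction y using TensorProduct.induction_on with
  | zero => simp
  | add y₁ y₂ h₁ h₂ => simp only [map_add, add_mul, h₁, h₂]
  | tmul r c =>
    induction y' using TensorProduct.induction_on with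
    | zero => simp
    | add y₁ y₂ h₁ h₂ => simp only [map_add, mul_add, h₁, h₂]
    | tmul r' c' =>
      simp [Algebra.TensorProduct.map_tmul, Algebra.TensorProduct.tmul_mul_tmul, mulFun_tmul]

end functional

section law
variable {A : Type u} [CommRing A] {B C : Type u} [CommRing B] [Algebra A B] [CommRing C]
  [Algebra A C]

/-- value of a law `B → A` as an element of the (ring) test algebra -/
noncomputable def bar (G : B →ₚₗ[A] A) (S : Type u) [CommRing S] [Algebra A S] (m : S ⊗[A] B) : S :=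
  Algebra.TensorProduct.rid A S S (G.toFun' S m)

lemma bar_eq_rid (G : B →ₚₗ[A] A) (S : Type u) [CommRing S] [Algebra A S] (m : S ⊗[A] B) :
    bar G S m = TensorProduct.rid A S (G.toFun' S m) := rfl

lemma rid_map' {S S' : Type u} [CommRing S] [Algebra A S] [CommRing S'] [Algebra A S']
    (φ : S →ₐ[A] S') (q : S ⊗[A] A) :
    Algebra.TensorProduct.rid A S' S' (Algebra.TensorProduct.map φ (AlgHom.id A A) q) =
      φ (Algebra.TensorProduct.rid A S S q) := by
  induction q using TensorProduct.induction_on with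
  | zero => simp
  | tmul s a => simp [Algebra.TensorProduct.map_tmul]
  | add x y hx hy => simp [hx, hy]

lemma bar_map (G : B →ₚₗ[A] A) {S S' : Type u} [CommRing S] [Algebra A S] [CommRing S'] [Algebra A S']
    (φ : S →ₐ[A] S') (m : S ⊗[A] B) :
    bar G S' (Algebra.TensorProduct.map φ (AlgHom.id A B) m) = φ (bar G S m) := by
  unfold bar
  rw [toFun'_map, rid_map']

lemma toFun'_eq_of_bar_eq (G : B →ₚₗ[A] A) (S : Type u) [CommRing S] [Algebra A S] (m m' : S ⊗[A] B)
    (h : bar G S m = bar G S m') : G.toFun' S m = G.toFun' S m' :=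
  (Algebra.TensorProduct.rid A S S).injective h

lemma bar_one {G : B →ₚₗ[A] A} (hG : PolLaw.IsMult G) (S : Type u) [CommRing S] [Algebra A S] :
    bar G S 1 = 1 := by
  unfold bar
  rw [(hG S).1, map_one]

lemma bar_mul {G : B →ₚₗ[A] A} (hG : PolLaw.IsMult G) (S : Type u) [CommRing S] [Algebra A S]
    (x y : S ⊗[A] B) : bar G S (x * y) = bar G S x * bar G S y := by
  unfold bar
  rw [(hG S).2, map_mul]

lemma bar_smul {G : B →ₚₗ[A] A} {d : ℕ} (hG : PolLaw.IsHomog G d) (S : Type u) [CommRing S]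
    [Algebra A S] (s : S) (x : S ⊗[A] B) : bar G S (s • x) = s ^ d * bar G S x := by
  unfold bar
  rw [hG S, map_smul, smul_eq_mul]

/-- the linear functional `Φ` extended to test algebras, with values in the test algebra -/
noncomputable def phiBar (Φ : C →ₗ[A] A) (S : Type u) [CommRing S] [Algebra A S] :
    S ⊗[A] C →ₗ[S] S :=
  (TensorProduct.AlgebraTensorModule.rid A S S).toLinearMap ∘ₗ Φ.baseChange S

lemma phiBar_tmul (Φ : C →ₗ[A] A) (S : Type u) [CommRing S] [Algebra A S] (s : S) (c : C) :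
    phiBar Φ S (s ⊗ₜ c) = Φ c • s := by
  simp [phiBar]

lemma phiBar_eq (Φ : C →ₗ[A] A) (S : Type u) [CommRing S] [Algebra A S] (y : S ⊗[A] C) :
    phiBar Φ S y = Algebra.TensorProduct.rid A S S (Φ.lTensor S y) := by
  induction y using TensorProduct.induction_on with
  | zero => simp
  | tmul s c => simp [phiBar_tmul]
  | add x y hx hy => simp [hx, hy]

lemma phiBar_rTensor (Φ : C →ₗ[A] A) {R S : Type u} [CommRing R] [Algebra A R] [CommRing S]
    [Algebra A S] (l : R →ₗ[A] S) (y : R ⊗[A] C) :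
    phiBar Φ S (l.rTensor C y) = l (phiBar Φ R y) := by
  induction y using TensorProduct.induction_on with
  | zero => simp
  | tmul s c => simp [phiBar_tmul]
  | add x y hx hy => simp [hx, hy]

lemma phiBar_map (Φ : C →ₗ[A] A) {R S : Type u} [CommRing R] [Algebra A R] [CommRing S]
    [Algebra A S] (φ : R →ₐ[A] S) (y : R ⊗[A] C) :
    phiBar Φ S (Algebra.TensorProduct.map φ (AlgHom.id A C) y) = φ (phiBar Φ R y) := by
  rw [← rTensor_eq_map, phiBar_rTensor]
  rfl

/-- `G = Φ ∘ D` -/
def Factors (D : B →ₚₗ[A] C) (G : B →ₚₗ[A] A) (Φ : C →ₗ[A] A) : Prop :=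
  ∀ (S : Type u) [CommRing S] [Algebra A S] (m : S ⊗[A] B),
    bar G S m = phiBar Φ S (D.toFun' S m)

/-- elements of `S ⊗ C` obtained from values of `D` over some test algebra `R` by applying a
linear functional `R → S` -/
def IsDiag (D : B →ₚₗ[A] C) (S : Type u) [CommRing S] [Algebra A S] (z : S ⊗[A] C) : Prop :=
  ∃ (R : Type u) (_ : CommRing R) (_ : Algebra A R) (l : R →ₗ[A] S) (m : R ⊗[A] B),
    z = l.rTensor C (D.toFun' R m)

variable {D : B →ₚₗ[A] C} {G : B →ₚₗ[A] A} {Φ : C →ₗ[A] A}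

lemma isDiag_toFun' (S : Type u) [CommRing S] [Algebra A S] (m : S ⊗[A] B) :
    IsDiag D S (D.toFun' S m) :=
  ⟨S, inferInstance, inferInstance, LinearMap.id, m, by simp⟩

lemma isDiag_one (hD : PolLaw.IsMult D) (S : Type u) [CommRing S] [Algebra A S] :
    IsDiag D S 1 := by
  have := isDiag_toFun' (D := D) S 1
  rwa [(hD S).1] at this

lemma isDiag_mul_aux (hD : PolLaw.IsMult D) {S : Type u} [CommRing S] [Algebra A S]
    {R R' : Type u} [CommRing R] [Algebra A R] [CommRing R'] [Algebra A R']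
    (l : R →ₗ[A] S) (l' : R' →ₗ[A] S) (m : R ⊗[A] B) (m' : R' ⊗[A] B) :
    l.rTensor C (D.toFun' R m) * l'.rTensor C (D.toFun' R' m') =
      (mulFun l l').rTensor C (D.toFun' (R ⊗[A] R')
        (Algebra.TensorProduct.map (Algebra.TensorProduct.includeLeft : R →ₐ[A] R ⊗[A] R')
          (AlgHom.id A B) m *
        Algebra.TensorProduct.map (Algebra.TensorProduct.includeRight : R' →ₐ[A] R ⊗[A] R')
          (AlgHom.id A B) m')) := by
  rw [(hD _).2, toFun'_map, toFun'_map, mulFun_rTensor]

lemma IsDiag.mul (hD : PolLaw.IsMult D) {S : Type u} [CommRing S] [Algebra A S]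
    {z z' : S ⊗[A] C} (hz : IsDiag D S z) (hz' : IsDiag D S z') : IsDiag D S (z * z') := by
  obtain ⟨R, _, _, l, m, rfl⟩ := hz
  obtain ⟨R', _, _, l', m', rfl⟩ := hz'
  exact ⟨R ⊗[A] R', inferInstance, inferInstance, mulFun l l', _, isDiag_mul_aux hD l l' m m'⟩

lemma phiBar_mul (hD : PolLaw.IsMult D) (hG : PolLaw.IsMult G) (hΦ : Factors D G Φ)
    {S : Type u} [CommRing S] [Algebra A S]
    {z z' : S ⊗[A] C} (hz : IsDiag D S z) (hz' : IsDiag D S z') :
    phiBar Φ S (z * z') = phiBar Φ S z * phiBar Φ S z' := by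
  obtain ⟨R, _, _, l, m, rfl⟩ := hz
  obtain ⟨R', _, _, l', m', rfl⟩ := hz'
  rw [isDiag_mul_aux hD, phiBar_rTensor, phiBar_rTensor, phiBar_rTensor, ← hΦ, ← hΦ, ← hΦ,
    bar_mul hG, bar_map, bar_map]
  simp [mulFun_tmul]

lemma phiBar_one (hD : PolLaw.IsMult D) (hG : PolLaw.IsMult G) (hΦ : Factors D G Φ)
    (S : Type u) [CommRing S] [Algebra A S] : phiBar Φ S 1 = 1 := by
  rw [← (hD S).1, ← hΦ, bar_one hG]

lemma IsDiag.pow (hD : PolLaw.IsMult D) {S : Type u} [CommRing S] [Algebra A S]
    {z : S ⊗[A] C} (hz : IsDiag D S z) (n : ℕ) : IsDiag D S (z ^ n) := by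
  induction n with
  | zero => simpa using isDiag_one hD S
  | succ n ih => rw [pow_succ]; exact ih.mul hD hz

lemma phiBar_pow (hD : PolLaw.IsMult D) (hG : PolLaw.IsMult G) (hΦ : Factors D G Φ)
    {S : Type u} [CommRing S] [Algebra A S] {z : S ⊗[A] C} (hz : IsDiag D S z) (n : ℕ) :
    phiBar Φ S (z ^ n) = phiBar Φ S z ^ n := by
  induction n with
  | zero => simpa using phiBar_one hD hG hΦ S
  | succ n ih => rw [pow_succ, pow_succ, phiBar_mul hD hG hΦ (hz.pow hD n) hz, ih]

lemma isDiag_prod_and (hD : PolLaw.IsMult D) (hG : PolLaw.IsMult G) (hΦ : Factors D G Φ)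
    {S : Type u} [CommRing S] [Algebra A S] {ι : Type*} (s : Finset ι) (f : ι → S ⊗[A] C)
    (hf : ∀ i ∈ s, IsDiag D S (f i)) :
    IsDiag D S (∏ i ∈ s, f i) ∧ phiBar Φ S (∏ i ∈ s, f i) = ∏ i ∈ s, phiBar Φ S (f i) := by
  classical
  induction s using Finset.induction_on with
  | empty => exact ⟨by simpa using isDiag_one hD S, by simpa using phiBar_one hD hG hΦ S⟩
  | insert i s hi ih =>
    have h1 := ih (fun j hj => hf j (Finset.mem_insert_of_mem hj))
    have h2 := hf i (Finset.mem_insert_self i s)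
    rw [Finset.prod_insert hi, Finset.prod_insert hi]
    exact ⟨h2.mul hD h1.1, by rw [phiBar_mul hD hG hΦ h2 h1.1, h1.2]⟩

end law

section expand
variable {A : Type u} [CommRing A] {S R : Type u} [CommRing S] [Algebra A S] [CommRing R]
  [Algebra A R] [Algebra S R] [IsScalarTower A S R] {κ : Type*} (β : Module.Basis κ S R)
  (C : Type u) [CommRing C] [Algebra A C]

variable (A S R) in
/-- the inclusion `S ⊗ C → R ⊗ C` -/
noncomputable abbrev inc : S ⊗[A] C →ₐ[A] R ⊗[A] C :=
  Algebra.TensorProduct.map (IsScalarTower.toAlgHom A S R) (AlgHom.id A C)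

/-- the coefficient maps `R ⊗ C → S ⊗ C` attached to an `S`-basis of `R` -/
noncomputable def coef (k : κ) : R ⊗[A] C →ₗ[A] S ⊗[A] C :=
  ((β.coord k).restrictScalars A).rTensor C

lemma coef_tmul (k : κ) (r : R) (c : C) : coef β C k (r ⊗ₜ[A] c) = (β.repr r k) ⊗ₜ[A] c := by
  simp [coef]

lemma expand (z : R ⊗[A] C) : ∃ K : Finset κ, ∀ K' : Finset κ, K ⊆ K' →
    z = ∑ k ∈ K', (β k ⊗ₜ[A] (1 : C)) * inc A S R C (coef β C k z) := by
  induction z using TensorProduct.induction_on with
  | zero => exact ⟨∅, fun K' _ => by simp⟩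
  | tmul r c =>
    refine ⟨(β.repr r).support, fun K' hK' => ?_⟩
    have h1 : ∀ k, (β k ⊗ₜ[A] (1 : C)) * inc A S R C (coef β C k (r ⊗ₜ[A] c)) =
        ((β.repr r k) • β k) ⊗ₜ[A] c := by
      intro k
      rw [coef_tmul]
      simp [Algebra.TensorProduct.tmul_mul_tmul, Algebra.smul_def, mul_comm]
    simp_rw [h1]
    rw [← TensorProduct.sum_tmul]
    congr 1
    conv_lhs => rw [← β.linearCombination_repr r]
    rw [Finsupp.linearCombination_apply, Finsupp.sum_of_support_subset _ hK']
    simp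
  | add x y hx hy =>
    obtain ⟨K₁, h₁⟩ := hx
    obtain ⟨K₂, h₂⟩ := hy
    classical
    refine ⟨K₁ ∪ K₂, fun K' hK' => ?_⟩
    conv_lhs => rw [h₁ K' (Finset.union_subset_left hK'), h₂ K' (Finset.union_subset_right hK')]
    rw [← Finset.sum_add_distrib]
    simp [mul_add]

end expand

section evalMult
variable {A : Type u} [CommRing A] {B C : Type u} [CommRing B] [Algebra A B] [CommRing C]
  [Algebra A C] {D : B →ₚₗ[A] C} {G : B →ₚₗ[A] A} {Φ : C →ₗ[A] A}
  {S R : Type u} [CommRing S] [Algebra A S] [CommRing R] [Algebra A R] [Algebra S R]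
  [IsScalarTower A S R] {κ : Type*} (β : Module.Basis κ S R)

/-- the evaluation homomorphism `R ⊗ C → S ⊗ C` attached to an `S`-algebra map `R → S ⊗ C` -/
noncomputable def evC (e : R →ₐ[S] S ⊗[A] C) : R ⊗[A] C →ₐ[S] S ⊗[A] C :=
  Algebra.TensorProduct.lift e Algebra.TensorProduct.includeRight (fun _ _ => Commute.all _ _)

lemma evC_tmul (e : R →ₐ[S] S ⊗[A] C) (r : R) (c : C) :
    evC e (r ⊗ₜ[A] c) = e r * (1 ⊗ₜ[A] c) := by
  simp [evC]

lemma evC_inc (e : R →ₐ[S] S ⊗[A] C) (y : S ⊗[A] C) : evC e (inc A S R C y) = y := by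
  induction y using TensorProduct.induction_on with
  | zero => simp
  | tmul s c =>
    simp only [inc, Algebra.TensorProduct.map_tmul, IsScalarTower.coe_toAlgHom', AlgHom.id_apply,
      evC_tmul, AlgHom.commutes, Algebra.TensorProduct.algebraMap_apply, Algebra.algebraMap_self,
      RingHom.id_apply, Algebra.TensorProduct.tmul_mul_tmul, mul_one, one_mul]
  | add x y hx hy => simp only [map_add, hx, hy]

include β in
theorem phiBar_evC (hD : PolLaw.IsMult D) (hG : PolLaw.IsMult G) (hΦ : Factors D G Φ)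
    (e : R →ₐ[S] S ⊗[A] C) (a : R →ₐ[S] S)
    (he : ∀ k, IsDiag D S (e (β k))) (ha : ∀ k, a (β k) = phiBar Φ S (e (β k))) (m : R ⊗[A] B) :
    phiBar Φ S (evC e (D.toFun' R m)) =
      bar G S (Algebra.TensorProduct.map (a.restrictScalars A) (AlgHom.id A B) m) := by
  obtain ⟨K, hK⟩ := expand β C (D.toFun' R m)
  have h := hK K subset_rfl
  have hdiag : ∀ k, IsDiag D S (coef β C k (D.toFun' R m)) := fun k =>
    ⟨R, inferInstance, inferInstance, (β.coord k).restrictScalars A, m, rfl⟩
  have h1 : evC e (D.toFun' R m) = ∑ k ∈ K, e (β k) * coef β C k (D.toFun' R m) := by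
    conv_lhs => rw [h]
    rw [map_sum]
    refine Finset.sum_congr rfl (fun k _ => ?_)
    rw [map_mul, evC_inc, evC_tmul, ← Algebra.TensorProduct.one_def, mul_one]
  have h2 : phiBar Φ R (D.toFun' R m) =
      ∑ k ∈ K, β k * algebraMap S R (phiBar Φ S (coef β C k (D.toFun' R m))) := by
    conv_lhs => rw [h]
    rw [map_sum]
    refine Finset.sum_congr rfl (fun k _ => ?_)
    have : (β k ⊗ₜ[A] (1 : C)) * inc A S R C (coef β C k (D.toFun' R m)) =
        β k • inc A S R C (coef β C k (D.toFun' R m)) := by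
      rw [Algebra.smul_def]
      rfl
    rw [this, map_smul, smul_eq_mul, phiBar_map]
    rfl
  rw [h1, map_sum, bar_map, hΦ, h2, map_sum]
  refine Finset.sum_congr rfl (fun k _ => ?_)
  rw [phiBar_mul hD hG hΦ (he k) (hdiag k), ← ha k]
  simp

lemma evC_map_inc (e : R →ₐ[S] S ⊗[A] C) (g : B →ₐ[A] C) (y : S ⊗[A] B) :
    evC e (Algebra.TensorProduct.map (AlgHom.id R R) g (inc A S R B y)) =
      Algebra.TensorProduct.map (AlgHom.id S S) g y := by
  induction y using TensorProduct.induction_on with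
  | zero => simp
  | tmul s b =>
    simp only [inc, Algebra.TensorProduct.map_tmul, IsScalarTower.coe_toAlgHom', AlgHom.id_apply,
      evC_tmul, AlgHom.commutes, Algebra.TensorProduct.algebraMap_apply, Algebra.algebraMap_self,
      RingHom.id_apply, Algebra.TensorProduct.tmul_mul_tmul, mul_one, one_mul]
  | add x y hx hy => simp only [map_add, hx, hy]

lemma evC_map_tmul_one (e : R →ₐ[S] S ⊗[A] C) (g : B →ₐ[A] C) (r : R) :
    evC e (Algebra.TensorProduct.map (AlgHom.id R R) g (r ⊗ₜ[A] (1 : B))) = e r := by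
  rw [Algebra.TensorProduct.map_tmul, map_one, evC_tmul, ← Algebra.TensorProduct.one_def, mul_one]
  rfl

lemma map_inc (a : R →ₐ[S] S) (y : S ⊗[A] B) :
    Algebra.TensorProduct.map (a.restrictScalars A) (AlgHom.id A B) (inc A S R B y) = y := by
  induction y using TensorProduct.induction_on with
  | zero => simp
  | tmul s b => simp [inc, Algebra.TensorProduct.map_tmul]
  | add x y hx hy => simp only [map_add, hx, hy]

end evalMult

end Groth.Agent.Lib.Helper14.PolLawDiag
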