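import Mathlib
import Groth.Prelude.Def_PolLaw
import Groth.Prelude.Def_PolLaw2
import Groth.Agent.Lib.Helper14PolLawDiag

/-!
# Cayley–Hamilton for laws of the form `Φ ∘ ∏ ι_i` (helper14)

`strongCH`: if the multiplicative law `G : B → A` of degree `d` factors as `Φ ∘ D`, `D` the product
law of `d` algebra maps `ι_i : B → C` and `Φ : C → A` linear, then for every ring test algebra `S`
and `z x w : S ⊗ B`, `G_S (x + w * χ_z(z)) = G_S x` where `χ_z = G_{S[t]}(z - t)`.
-/

set_option autoImplicit false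
universe u
open TensorProduct

namespace Groth.Agent.Lib.Helper14.PolLawCH

open Groth.Agent.Lib.Helper14.PolLawDiag
open Groth.Agent.Lib.Helper14.PolLawRed (toFun'_map rTensor_eq_map)

section CH
variable {A : Type u} [CommRing A] {B C : Type u} [CommRing B] [Algebra A B] [CommRing C]
  [Algebra A C]

/-- the characteristic polynomial of `z ∈ S ⊗ B` with respect to the law `G` -/
noncomputable def charpoly (G : B →ₚₗ[A] A) (S : Type u) [CommRing S] [Algebra A S]
    (z : S ⊗[A] B) : Polynomial S :=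
  bar G (Polynomial S) (inc A S (Polynomial S) B z - Polynomial.X ⊗ₜ[A] 1)

variable {d : ℕ} (ι : Fin d → (B →ₐ[A] C)) (G : PolLaw.MulLaw A B A d) (Φ : C →ₗ[A] A)

theorem strongCH (hΦ : Factors (PolLaw.MulLaw.prodMap ι d (Fintype.card_fin d)).law G.law Φ)
    (S : Type u) [CommRing S] [Algebra A S] (z x w : S ⊗[A] B) :
    G.law.toFun' S (x + w * Polynomial.aeval z (charpoly G.law S z)) = G.law.toFun' S x := by
  classical
  set DL := PolLaw.MulLaw.prodMap ι d (Fintype.card_fin d) with hDL
  have hDm : PolLaw.IsMult DL.law := DL.mult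
  have hGm : PolLaw.IsMult G.law := G.mult
  -- the polynomial ring in one variable
  set Z : Polynomial S ⊗[A] B := inc A S (Polynomial S) B z - Polynomial.X ⊗ₜ[A] 1 with hZ
  set E := DL.law.toFun' (Polynomial S) Z with hE
  set χ := charpoly G.law S z with hχdef
  have hχ : χ = phiBar Φ (Polynomial S) E := hΦ (Polynomial S) Z
  set βt := Polynomial.basisMonomials S with hβt
  set ε : ℕ → S ⊗[A] C := fun j => coef βt C j E with hε
  have hεd : ∀ j, IsDiag DL.law S (ε j) := fun j =>
    ⟨Polynomial S, inferInstance, inferInstance, (βt.coord j).restrictScalars A, Z, rfl⟩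
  have hεΦ : ∀ j, phiBar Φ S (ε j) = χ.coeff j := by
    intro j
    show phiBar Φ S (((βt.coord j).restrictScalars A).rTensor C E) = _
    rw [phiBar_rTensor, ← hχ]
    rfl
  obtain ⟨K, hK⟩ := expand βt C E
  obtain ⟨N, hN1, hN2⟩ : ∃ N : ℕ, K ⊆ Finset.range N ∧ χ.natDegree < N := by
    refine ⟨max (K.sup id + 1) (χ.natDegree + 1), fun k hk => ?_, by omega⟩
    have : k ≤ K.sup id := Finset.le_sup (f := id) hk
    simp only [Finset.mem_range]
    omega
  have hEsum : E = ∑ j ∈ Finset.range N,
      ((Polynomial.X ^ j : Polynomial S) ⊗ₜ[A] (1 : C)) * inc A S (Polynomial S) C (ε j) := by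
    have := hK _ hN1
    simpa [hβt, Polynomial.coe_basisMonomials, Polynomial.monomial_one_right_eq_X_pow] using this
  -- vanishing of `∑ ε j * z_i ^ j`
  have hvan : ∀ i : Fin d, ∑ j ∈ Finset.range N,
      ε j * (Algebra.TensorProduct.map (AlgHom.id S S) (ι i) z) ^ j = 0 := by
    intro i
    set zi := Algebra.TensorProduct.map (AlgHom.id S S) (ι i) z with hzi
    set et := evC (R := Polynomial S) (Polynomial.aeval zi : Polynomial S →ₐ[S] S ⊗[A] C) with het
    have h1 : et E = ∑ j ∈ Finset.range N, ε j * zi ^ j := by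
      conv_lhs => rw [hEsum]
      rw [map_sum]
      refine Finset.sum_congr rfl (fun j _ => ?_)
      rw [map_mul, het, evC_inc, evC_tmul, ← Algebra.TensorProduct.one_def, mul_one, map_pow,
        Polynomial.aeval_X, mul_comm]
    have h2 : et E = 0 := by
      rw [hE, hDL, PolLaw.MulLaw.prodMap_toFun', map_prod]
      refine Finset.prod_eq_zero (Finset.mem_univ i) ?_
      rw [hZ, map_sub, map_sub, het, evC_map_inc, evC_map_tmul_one, Polynomial.aeval_X, sub_self]
    rw [← h1, h2]
  -- the polynomial ring in `N` variables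
  set β := MvPolynomial.basisMonomials (Fin N) S with hβ
  set e : MvPolynomial (Fin N) S →ₐ[S] S ⊗[A] C := MvPolynomial.aeval (fun j : Fin N => ε j) with he
  set a : MvPolynomial (Fin N) S →ₐ[S] S := MvPolynomial.aeval (fun j : Fin N => χ.coeff j) with ha
  have heβ : ∀ k, e (β k) = ∏ j ∈ k.support, ε j ^ (k j) := by
    intro k
    rw [hβ, MvPolynomial.coe_basisMonomials, he, MvPolynomial.aeval_monomial, map_one, one_mul]
    rfl
  have haβ : ∀ k, a (β k) = ∏ j ∈ k.support, χ.coeff j ^ (k j) := by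
    intro k
    rw [hβ, MvPolynomial.coe_basisMonomials, ha, MvPolynomial.aeval_monomial, map_one, one_mul]
    rfl
  have hprod : ∀ k : Fin N →₀ ℕ, IsDiag DL.law S (∏ j ∈ k.support, ε j ^ (k j)) ∧
      phiBar Φ S (∏ j ∈ k.support, ε j ^ (k j)) = ∏ j ∈ k.support, phiBar Φ S (ε j ^ (k j)) :=
    fun k => isDiag_prod_and hDm hGm hΦ k.support (fun j : Fin N => ε j ^ (k j))
      (fun j _ => (hεd j).pow hDm (k j))
  have he' : ∀ k, IsDiag DL.law S (e (β k)) := fun k => by rw [heβ]; exact (hprod k).1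
  have ha' : ∀ k, a (β k) = phiBar Φ S (e (β k)) := by
    intro k
    rw [heβ, haβ, (hprod k).2]
    refine Finset.prod_congr rfl (fun j _ => ?_)
    rw [phiBar_pow hDm hGm hΦ (hεd j), hεΦ]
  set m₀ : MvPolynomial (Fin N) S ⊗[A] B :=
    ∑ j : Fin N, ((MvPolynomial.X j : MvPolynomial (Fin N) S) ⊗ₜ[A] (1 : B)) *
      inc A S (MvPolynomial (Fin N) S) B (z ^ (j : ℕ)) with hm₀
  set m : MvPolynomial (Fin N) S ⊗[A] B :=
    inc A S (MvPolynomial (Fin N) S) B x + inc A S (MvPolynomial (Fin N) S) B w * m₀ with hm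
  have key := phiBar_evC β hDm hGm hΦ e a he' ha' m
  have hR : Algebra.TensorProduct.map (a.restrictScalars A) (AlgHom.id A B) m =
      x + w * Polynomial.aeval z χ := by
    rw [hm, map_add, map_mul, map_inc, map_inc, hm₀, map_sum,
      Polynomial.aeval_eq_sum_range' hN2, Finset.sum_range]
    congr 2
    refine Finset.sum_congr rfl (fun j _ => ?_)
    rw [map_mul, map_inc, Algebra.TensorProduct.map_tmul, Algebra.smul_def]
    simp [ha]
  have hL : evC e (DL.law.toFun' (MvPolynomial (Fin N) S) m) = DL.law.toFun' S x := by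
    rw [hDL, PolLaw.MulLaw.prodMap_toFun', PolLaw.MulLaw.prodMap_toFun', map_prod]
    refine Finset.prod_congr rfl (fun i _ => ?_)
    have h0 := hvan i
    rw [Finset.sum_range] at h0
    rw [hm, map_add, map_add, map_mul, map_mul, evC_map_inc, evC_map_inc, hm₀, map_sum, map_sum]
    have h1 : ∀ j : Fin N, evC e (Algebra.TensorProduct.map
        (AlgHom.id (MvPolynomial (Fin N) S) (MvPolynomial (Fin N) S)) (ι i)
        (((MvPolynomial.X j : MvPolynomial (Fin N) S) ⊗ₜ[A] (1 : B)) *
          inc A S (MvPolynomial (Fin N) S) B (z ^ (j : ℕ)))) =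
        ε j * (Algebra.TensorProduct.map (AlgHom.id S S) (ι i) z) ^ (j : ℕ) := by
      intro j
      rw [map_mul, map_mul, evC_map_inc, evC_map_tmul_one, map_pow, he, MvPolynomial.aeval_X]
    rw [Finset.sum_congr rfl (fun j _ => h1 j), h0, mul_zero, add_zero]
  apply toFun'_eq_of_bar_eq
  rw [← hR, ← key, hL, ← hΦ]

end CH

end Groth.Agent.Lib.Helper14.PolLawCH
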