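import Mathlib
import Groth.Prelude.Def_PolLaw
import Groth.Prelude.Def_PolLaw2
import Groth.Agent.Lib.Helper14PolLawDiag

/-!
# Roby's theorem for polynomial algebras (helper14)

`exists_factors`: every polynomial law `F : A[x_s] → A` homogeneous of degree `d` factors as
`Φ ∘ diag` with `diag : m ↦ ∏ i, emb i m` the diagonal law into `A[x_{i,s}]` (`i : Fin d`) and
`Φ : A[x_{i,s}] → A` an `A`-linear map.
-/

set_option autoImplicit false
universe u
open TensorProduct

namespace Groth.Agent.Lib.Helper14.PolLawRoby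

open Groth.Agent.Lib.Helper14.PolLawDiag
open Groth.Agent.Lib.Helper14.PolLawRed (toFun'_map rTensor_eq_map)

section general

lemma prod_tmul {A : Type*} [CommRing A] {R T : Type*} [CommRing R] [Algebra A R] [CommRing T]
    [Algebra A T] {ι : Type*} (s : Finset ι) (a : ι → R) (b : ι → T) :
    ∏ i ∈ s, (a i ⊗ₜ[A] b i) = (∏ i ∈ s, a i) ⊗ₜ[A] (∏ i ∈ s, b i) := by
  classical
  induction s using Finset.induction_on with
  | empty => simp [Algebra.TensorProduct.one_def]
  | insert j s hj ih =>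
    rw [Finset.prod_insert hj, Finset.prod_insert hj, Finset.prod_insert hj, ih,
      Algebra.TensorProduct.tmul_mul_tmul]

end general

section defs
variable (A : Type u) [CommRing A] (σ : Type u) (d : ℕ)

/-- the `i`-th coordinate embedding `A[x_s] → A[x_{j,s}]` -/
noncomputable def emb (i : Fin d) : MvPolynomial σ A →ₐ[A] MvPolynomial (Fin d × σ) A :=
  MvPolynomial.rename (Prod.mk i)

/-- the diagonal law `m ↦ ∏ i, emb i m` -/
noncomputable def diag : PolLaw.MulLaw A (MvPolynomial σ A) (MvPolynomial (Fin d × σ) A) d :=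
  PolLaw.MulLaw.prodMap (emb A σ d) d (Fintype.card_fin d)

variable {σ d}

/-- the type (multiset of values) of a `d`-tuple of monomials -/
noncomputable def type (φ : Fin d → (σ →₀ ℕ)) : (σ →₀ ℕ) →₀ ℕ := ∑ i, Finsupp.single (φ i) 1

/-- the exponent of the product of the embedded monomials -/
noncomputable def enc (φ : Fin d → (σ →₀ ℕ)) : (Fin d × σ) →₀ ℕ :=
  ∑ i, (φ i).mapDomain (Prod.mk i)

/-- decoding -/
noncomputable def dec (ν : (Fin d × σ) →₀ ℕ) : Fin d → (σ →₀ ℕ) :=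
  fun i => ν.comapDomain (Prod.mk i) (Prod.mk_right_injective i).injOn

lemma mapDomain_mk_apply (i j : Fin d) (u : σ →₀ ℕ) (s : σ) :
    (u.mapDomain (Prod.mk i)) (j, s) = if i = j then u s else 0 := by
  split_ifs with h
  · subst h
    exact Finsupp.mapDomain_apply (Prod.mk_right_injective i) u s
  · apply Finsupp.mapDomain_of_notMem_range
    rintro ⟨s', hs'⟩
    exact h (congrArg Prod.fst hs')

lemma enc_apply (φ : Fin d → (σ →₀ ℕ)) (j : Fin d) (s : σ) : enc φ (j, s) = φ j s := by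
  unfold enc
  rw [Finsupp.finsetSum_apply]
  simp_rw [mapDomain_mk_apply]
  simp

lemma dec_enc (φ : Fin d → (σ →₀ ℕ)) : dec (enc φ) = φ := by
  funext i
  ext s
  simp [dec, Finsupp.comapDomain_apply, enc_apply]

lemma degree_type (φ : Fin d → (σ →₀ ℕ)) : Finsupp.degree (type φ) = d := by
  simp [type, map_sum, Finsupp.degree_single]

lemma mem_support_type (φ : Fin d → (σ →₀ ℕ)) (i : Fin d) : φ i ∈ (type φ).support := by
  classical
  rw [Finsupp.mem_support_iff, type, Finsupp.finsetSum_apply]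
  intro h
  have := Finset.sum_eq_zero_iff.mp h i (Finset.mem_univ i)
  simp at this

lemma toMultiset_type (φ : Fin d → (σ →₀ ℕ)) :
    Finsupp.toMultiset (type φ) = Multiset.map φ Finset.univ.val := by
  rw [type, map_sum]
  simp only [Finsupp.toMultiset_single, one_smul]
  rw [← Multiset.sum_map_singleton (Multiset.map φ Finset.univ.val), Multiset.map_map]
  rfl

lemma exists_type (γ : (σ →₀ ℕ) →₀ ℕ) (hγ : Finsupp.degree γ = d) :
    ∃ φ : Fin d → (σ →₀ ℕ), type φ = γ := by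
  set l := (Finsupp.toMultiset γ).toList with hl
  have hlen : l.length = d := by
    rw [hl, Multiset.length_toList, Finsupp.card_toMultiset, ← hγ]
    rfl
  subst hlen
  refine ⟨fun i => l.get i, ?_⟩
  classical
  have h2 : Finsupp.toMultiset (type (fun i => l.get i)) = Finsupp.toMultiset γ := by
    rw [toMultiset_type, Fin.univ_val_map, List.ofFn_get, hl, Multiset.coe_toList]
  have h3 := congrArg Multiset.toFinsupp h2
  rwa [Finsupp.toMultiset_toFinsupp, Finsupp.toMultiset_toFinsupp] at h3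

/-- a chosen tuple of given type -/
noncomputable def rep (γ : (σ →₀ ℕ) →₀ ℕ) : Fin d → (σ →₀ ℕ) :=
  open Classical in if h : ∃ φ : Fin d → (σ →₀ ℕ), type φ = γ then h.choose else fun _ => 0

lemma type_rep (γ : (σ →₀ ℕ) →₀ ℕ) (hγ : Finsupp.degree γ = d) : type (rep (d := d) γ) = γ := by
  have h := exists_type γ hγ
  rw [rep, dif_pos h]
  exact h.choose_spec

/-- coefficients of the linear functional -/
noncomputable def coefFun (c : ((σ →₀ ℕ) →₀ ℕ) → A) (ν : (Fin d × σ) →₀ ℕ) : A :=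
  open Classical in if dec ν = rep (type (dec ν)) then c (type (dec ν)) else 0

/-- the linear functional on `A[x_{j,s}]` attached to a family of coefficients -/
noncomputable def Phi (c : ((σ →₀ ℕ) →₀ ℕ) → A) : MvPolynomial (Fin d × σ) A →ₗ[A] A :=
  (MvPolynomial.basisMonomials (Fin d × σ) A).constr A (coefFun A c)

lemma Phi_monomial_enc (c : ((σ →₀ ℕ) →₀ ℕ) → A) (φ : Fin d → (σ →₀ ℕ)) :
    Phi A c (MvPolynomial.monomial (enc φ) 1) =
      open Classical in if φ = rep (type φ) then c (type φ) else 0 := by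
  have : (MvPolynomial.monomial (enc φ) (1 : A) : MvPolynomial (Fin d × σ) A) =
      MvPolynomial.basisMonomials (Fin d × σ) A (enc φ) := by
    rw [MvPolynomial.coe_basisMonomials]
  rw [this, Phi, Module.Basis.constr_basis, coefFun, dec_enc]

/-- the universal element with coefficients the variables `X u`, `u ∈ U₀` -/
noncomputable def gen (U₀ : Finset (σ →₀ ℕ)) :
    MvPolynomial (σ →₀ ℕ) A ⊗[A] MvPolynomial σ A :=
  ∑ u ∈ U₀, (MvPolynomial.X u : MvPolynomial (σ →₀ ℕ) A) ⊗ₜ[A]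
    (MvPolynomial.monomial u (1 : A) : MvPolynomial σ A)

lemma diag_gen (U₀ : Finset (σ →₀ ℕ)) :
    (diag A σ d).law.toFun' (MvPolynomial (σ →₀ ℕ) A) (gen A U₀) =
      ∑ φ ∈ Fintype.piFinset (fun _ : Fin d => U₀),
        (MvPolynomial.monomial (type φ) (1 : A) : MvPolynomial (σ →₀ ℕ) A) ⊗ₜ[A]
          (MvPolynomial.monomial (enc φ) (1 : A) : MvPolynomial (Fin d × σ) A) := by
  classical
  rw [diag, PolLaw.MulLaw.prodMap_toFun']
  have h1 : ∀ i : Fin d, Algebra.TensorProduct.map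
      (AlgHom.id (MvPolynomial (σ →₀ ℕ) A) (MvPolynomial (σ →₀ ℕ) A)) (emb A σ d i) (gen A U₀) =
      ∑ u ∈ U₀, (MvPolynomial.X u : MvPolynomial (σ →₀ ℕ) A) ⊗ₜ[A]
        (MvPolynomial.monomial (u.mapDomain (Prod.mk i)) (1 : A) :
          MvPolynomial (Fin d × σ) A) := by
    intro i
    rw [gen, map_sum]
    refine Finset.sum_congr rfl (fun u _ => ?_)
    rw [Algebra.TensorProduct.map_tmul, emb, MvPolynomial.rename_monomial]
    rfl
  rw [Finset.prod_congr rfl (fun i _ => h1 i), Finset.prod_univ_sum]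
  refine Finset.sum_congr rfl (fun φ _ => ?_)
  rw [prod_tmul, type, enc, MvPolynomial.monomial_sum_one, MvPolynomial.monomial_sum_one]
  rfl

lemma exists_of_mem_support_type (φ : Fin d → (σ →₀ ℕ)) (u : σ →₀ ℕ)
    (hu : u ∈ (type φ).support) : ∃ i, φ i = u := by
  classical
  rw [Finsupp.mem_support_iff, type, Finsupp.finsetSum_apply] at hu
  obtain ⟨i, -, hi⟩ := Finset.exists_ne_zero_of_sum_ne_zero hu
  refine ⟨i, ?_⟩
  by_contra h
  exact hi (Finsupp.single_eq_of_ne' h)

lemma degree_eq_of_mem_finsuppAntidiag [DecidableEq (σ →₀ ℕ)] {U₀ : Finset (σ →₀ ℕ)}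
    {γ : (σ →₀ ℕ) →₀ ℕ} (hγ : γ ∈ Finset.finsuppAntidiag U₀ d) : Finsupp.degree γ = d := by
  rw [Finset.mem_finsuppAntidiag] at hγ
  rw [Finsupp.degree_apply, ← hγ.1]
  exact Finset.sum_subset hγ.2 (fun u _ hu => Finsupp.notMem_support_iff.mp hu)

lemma type_mem_finsuppAntidiag [DecidableEq (σ →₀ ℕ)] {U₀ : Finset (σ →₀ ℕ)}
    (φ : Fin d → (σ →₀ ℕ)) (hφ : ∀ i, φ i ∈ U₀) : type φ ∈ Finset.finsuppAntidiag U₀ d := by
  rw [Finset.mem_finsuppAntidiag]
  have hsub : (type φ).support ⊆ U₀ := by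
    intro u hu
    obtain ⟨i, rfl⟩ := exists_of_mem_support_type φ u hu
    exact hφ i
  refine ⟨?_, hsub⟩
  have h1 := degree_type φ
  rw [Finsupp.degree_apply] at h1
  rw [← Finset.sum_subset hsub (fun u _ hu => Finsupp.notMem_support_iff.mp hu)]
  exact h1

lemma phiBar_diag_gen [DecidableEq (σ →₀ ℕ)] (c : ((σ →₀ ℕ) →₀ ℕ) → A)
    (U₀ : Finset (σ →₀ ℕ)) :
    phiBar (Phi (d := d) A c) (MvPolynomial (σ →₀ ℕ) A)
        ((diag A σ d).law.toFun' (MvPolynomial (σ →₀ ℕ) A) (gen A U₀)) =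
      ∑ γ ∈ Finset.finsuppAntidiag U₀ d, MvPolynomial.monomial γ (c γ) := by
  classical
  rw [diag_gen, map_sum]
  have h1 : ∀ φ : Fin d → (σ →₀ ℕ),
      phiBar (Phi (d := d) A c) (MvPolynomial (σ →₀ ℕ) A)
        ((MvPolynomial.monomial (type φ) (1 : A) : MvPolynomial (σ →₀ ℕ) A) ⊗ₜ[A]
          (MvPolynomial.monomial (enc φ) (1 : A) : MvPolynomial (Fin d × σ) A)) =
      if φ = rep (type φ) then MvPolynomial.monomial (type φ) (c (type φ)) else 0 := by
    intro φ
    rw [phiBar_tmul, Phi_monomial_enc]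
    split_ifs with h
    · rw [MvPolynomial.smul_monomial, smul_eq_mul, mul_one]
    · rw [zero_smul]
  rw [Finset.sum_congr rfl (fun φ _ => h1 φ), ← Finset.sum_filter]
  refine Finset.sum_nbij' (i := type) (j := rep) ?_ ?_ ?_ ?_ ?_
  · intro φ hφ
    rw [Finset.mem_filter, Fintype.mem_piFinset] at hφ
    exact type_mem_finsuppAntidiag φ hφ.1
  · intro γ hγ
    have hdeg := degree_eq_of_mem_finsuppAntidiag hγ
    rw [Finset.mem_filter, Fintype.mem_piFinset, type_rep γ hdeg]
    refine ⟨fun i => ?_, rfl⟩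
    have := mem_support_type (rep (d := d) γ) i
    rw [type_rep γ hdeg] at this
    exact (Finset.mem_finsuppAntidiag.mp hγ).2 this
  · intro φ hφ
    rw [Finset.mem_filter] at hφ
    exact hφ.2.symm
  · intro γ hγ
    exact type_rep γ (degree_eq_of_mem_finsuppAntidiag hγ)
  · intro φ _
    rfl

end defs

section coeffs
variable {A : Type u} [CommRing A] {σ : Type u} {d : ℕ}

/-- kill the variables outside `U₁` -/
noncomputable def theta [DecidableEq (σ →₀ ℕ)] (U₁ : Finset (σ →₀ ℕ)) :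
    MvPolynomial (σ →₀ ℕ) A →ₐ[A] MvPolynomial (σ →₀ ℕ) A :=
  MvPolynomial.aeval (fun u => if u ∈ U₁ then MvPolynomial.X u else 0)

lemma theta_monomial [DecidableEq (σ →₀ ℕ)] (U₁ : Finset (σ →₀ ℕ)) (μ : (σ →₀ ℕ) →₀ ℕ) (a : A) :
    theta U₁ (MvPolynomial.monomial μ a) =
      if μ.support ⊆ U₁ then MvPolynomial.monomial μ a else 0 := by
  rw [theta, MvPolynomial.aeval_monomial]
  split_ifs with h
  · rw [MvPolynomial.monomial_eq]
    congr 1
    refine Finset.prod_congr rfl (fun u hu => ?_)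
    show (if u ∈ U₁ then MvPolynomial.X u else 0) ^ (μ u) = MvPolynomial.X u ^ (μ u)
    rw [if_pos (h hu)]
  · obtain ⟨u, hu, hu'⟩ := Finset.not_subset.mp h
    rw [Finsupp.prod, Finset.prod_eq_zero hu, mul_zero]
    show (if u ∈ U₁ then MvPolynomial.X u else 0) ^ (μ u) = 0
    rw [if_neg hu', zero_pow (Finsupp.mem_support_iff.mp hu)]

lemma coeff_theta [DecidableEq (σ →₀ ℕ)] (U₁ : Finset (σ →₀ ℕ)) (γ : (σ →₀ ℕ) →₀ ℕ)
    (p : MvPolynomial (σ →₀ ℕ) A) :
    MvPolynomial.coeff γ (theta U₁ p) = if γ.support ⊆ U₁ then MvPolynomial.coeff γ p else 0 := by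
  induction p using MvPolynomial.induction_on' with
  | monomial μ a =>
    rw [theta_monomial]
    by_cases hμ : μ = γ
    · subst hμ
      split_ifs <;> simp
    · split_ifs <;> simp [MvPolynomial.coeff_monomial, hμ]
  | add p q hp hq =>
    rw [map_add, MvPolynomial.coeff_add, hp, hq, MvPolynomial.coeff_add]
    split_ifs <;> simp

lemma theta_gen [DecidableEq (σ →₀ ℕ)] (U₀ U₁ : Finset (σ →₀ ℕ)) :
    Algebra.TensorProduct.map (theta (A := A) U₁) (AlgHom.id A (MvPolynomial σ A)) (gen A U₀) =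
      gen A (U₀ ∩ U₁) := by
  rw [gen, gen, map_sum, ← Finset.filter_mem_eq_inter, Finset.sum_filter]
  refine Finset.sum_congr rfl (fun u _ => ?_)
  rw [Algebra.TensorProduct.map_tmul, theta, MvPolynomial.aeval_X]
  split_ifs
  · rfl
  · rw [TensorProduct.zero_tmul]

/-- scale all variables by a new variable -/
noncomputable def thetaL : MvPolynomial (σ →₀ ℕ) A →ₐ[A] Polynomial (MvPolynomial (σ →₀ ℕ) A) :=
  MvPolynomial.aeval (fun u => Polynomial.X * Polynomial.C (MvPolynomial.X u))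

lemma thetaL_monomial (μ : (σ →₀ ℕ) →₀ ℕ) (a : A) :
    thetaL (MvPolynomial.monomial μ a) =
      Polynomial.C (MvPolynomial.monomial μ a) * Polynomial.X ^ (Finsupp.degree μ) := by
  rw [thetaL, MvPolynomial.aeval_monomial]
  simp_rw [mul_pow]
  rw [Finsupp.prod_mul, Finsupp.prod, Finset.prod_pow_eq_pow_sum, ← Finsupp.degree_apply,
    Finsupp.prod]
  simp_rw [← map_pow]
  rw [← map_prod, MvPolynomial.monomial_eq (s := μ) (a := a), map_mul, Finsupp.prod]
  rw [Polynomial.algebraMap_apply, MvPolynomial.algebraMap_eq]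
  ring

lemma coeff_coeff_thetaL (k : ℕ) (γ : (σ →₀ ℕ) →₀ ℕ) (p : MvPolynomial (σ →₀ ℕ) A) :
    MvPolynomial.coeff γ (Polynomial.coeff (thetaL p) k) =
      if Finsupp.degree γ = k then MvPolynomial.coeff γ p else 0 := by
  classical
  induction p using MvPolynomial.induction_on' with
  | monomial μ a =>
    rw [thetaL_monomial, Polynomial.coeff_C_mul_X_pow]
    by_cases hμ : μ = γ
    · subst hμ
      by_cases hk : k = Finsupp.degree μ
      · simp [hk]
      · rw [if_neg hk, if_neg (Ne.symm hk)]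
        simp
    · split_ifs <;> simp [MvPolynomial.coeff_monomial, hμ]
  | add p q hp hq =>
    rw [map_add, Polynomial.coeff_add, MvPolynomial.coeff_add, hp, hq, MvPolynomial.coeff_add]
    split_ifs <;> simp

lemma thetaL_gen (U₀ : Finset (σ →₀ ℕ)) :
    Algebra.TensorProduct.map (thetaL (A := A)) (AlgHom.id A (MvPolynomial σ A)) (gen A U₀) =
      (Polynomial.X : Polynomial (MvPolynomial (σ →₀ ℕ) A)) •
        Algebra.TensorProduct.map (Polynomial.CAlgHom (R := A) (A := MvPolynomial (σ →₀ ℕ) A))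
          (AlgHom.id A (MvPolynomial σ A)) (gen A U₀) := by
  rw [gen, map_sum, map_sum, Finset.smul_sum]
  refine Finset.sum_congr rfl (fun u _ => ?_)
  rw [Algebra.TensorProduct.map_tmul, Algebra.TensorProduct.map_tmul, thetaL, MvPolynomial.aeval_X,
    TensorProduct.smul_tmul', smul_eq_mul]
  rfl

end coeffs

section main
variable {A : Type u} [CommRing A] {σ : Type u} {d : ℕ} (F : MvPolynomial σ A →ₚₗ[A] A)

/-- the value of `F` on the universal element -/
noncomputable def fgen (U₀ : Finset (σ →₀ ℕ)) : MvPolynomial (σ →₀ ℕ) A :=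
  bar F (MvPolynomial (σ →₀ ℕ) A) (gen A U₀)

/-- the coefficients of `F` -/
noncomputable def cf (γ : (σ →₀ ℕ) →₀ ℕ) : A := MvPolynomial.coeff γ (fgen F γ.support)

lemma fgen_inter [DecidableEq (σ →₀ ℕ)] (U₀ U₁ : Finset (σ →₀ ℕ)) :
    fgen F (U₀ ∩ U₁) = theta U₁ (fgen F U₀) := by
  rw [fgen, ← theta_gen, bar_map]
  rfl

lemma coeff_fgen_of_subset (U₀ : Finset (σ →₀ ℕ)) (γ : (σ →₀ ℕ) →₀ ℕ) (h : γ.support ⊆ U₀) :
    MvPolynomial.coeff γ (fgen F U₀) = cf F γ := by
  classical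
  have h1 := fgen_inter F U₀ γ.support
  rw [Finset.inter_eq_right.mpr h] at h1
  rw [cf, h1, coeff_theta, if_pos subset_rfl]

lemma coeff_fgen_of_not_subset (U₀ : Finset (σ →₀ ℕ)) (γ : (σ →₀ ℕ) →₀ ℕ)
    (h : ¬ γ.support ⊆ U₀) : MvPolynomial.coeff γ (fgen F U₀) = 0 := by
  classical
  have h1 := fgen_inter F U₀ U₀
  rw [Finset.inter_self] at h1
  rw [h1, coeff_theta, if_neg h]

lemma coeff_fgen_of_degree_ne (hF : PolLaw.IsHomog F d) (U₀ : Finset (σ →₀ ℕ))
    (γ : (σ →₀ ℕ) →₀ ℕ) (h : Finsupp.degree γ ≠ d) : MvPolynomial.coeff γ (fgen F U₀) = 0 := by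
  have h1 : thetaL (fgen F U₀) = Polynomial.C (fgen F U₀) * Polynomial.X ^ d := by
    rw [fgen, ← bar_map, thetaL_gen, bar_smul hF, bar_map, mul_comm]
    rfl
  have h2 := coeff_coeff_thetaL (Finsupp.degree γ) γ (fgen F U₀)
  rw [if_pos rfl, h1, Polynomial.coeff_C_mul_X_pow, if_neg h] at h2
  rw [← h2, MvPolynomial.coeff_zero]

lemma fgen_eq [DecidableEq (σ →₀ ℕ)] (hF : PolLaw.IsHomog F d) (U₀ : Finset (σ →₀ ℕ)) :
    fgen F U₀ = ∑ γ ∈ Finset.finsuppAntidiag U₀ d, MvPolynomial.monomial γ (cf F γ) := by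
  ext γ
  rw [MvPolynomial.coeff_sum]
  simp_rw [MvPolynomial.coeff_monomial]
  rw [Finset.sum_ite_eq']
  split_ifs with h
  · exact coeff_fgen_of_subset F U₀ γ (Finset.mem_finsuppAntidiag.mp h).2
  · by_cases hs : γ.support ⊆ U₀
    · apply coeff_fgen_of_degree_ne F hF
      intro hd
      apply h
      rw [Finset.mem_finsuppAntidiag]
      refine ⟨?_, hs⟩
      rw [← hd, Finsupp.degree_apply]
      exact (Finset.sum_subset hs (fun u _ hu => Finsupp.notMem_support_iff.mp hu)).symm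
    · exact coeff_fgen_of_not_subset F U₀ γ hs

lemma exists_finsupp (S : Type u) [CommRing S] [Algebra A S] (m : S ⊗[A] MvPolynomial σ A) :
    ∃ s : (σ →₀ ℕ) →₀ S, m = s.sum (fun u r => r ⊗ₜ[A]
      (MvPolynomial.monomial u (1 : A) : MvPolynomial σ A)) := by
  classical
  have hadd : ∀ m₁ m₂ : S ⊗[A] MvPolynomial σ A,
      (∃ s : (σ →₀ ℕ) →₀ S, m₁ = s.sum (fun u r => r ⊗ₜ[A]
        (MvPolynomial.monomial u (1 : A) : MvPolynomial σ A))) →
      (∃ s : (σ →₀ ℕ) →₀ S, m₂ = s.sum (fun u r => r ⊗ₜ[A]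
        (MvPolynomial.monomial u (1 : A) : MvPolynomial σ A))) →
      ∃ s : (σ →₀ ℕ) →₀ S, m₁ + m₂ = s.sum (fun u r => r ⊗ₜ[A]
        (MvPolynomial.monomial u (1 : A) : MvPolynomial σ A)) := by
    rintro m₁ m₂ ⟨s₁, rfl⟩ ⟨s₂, rfl⟩
    refine ⟨s₁ + s₂, ?_⟩
    rw [Finsupp.sum_add_index']
    · intro u; exact TensorProduct.zero_tmul _ _
    · intro u r r'; exact TensorProduct.add_tmul _ _ _
  induction m using TensorProduct.induction_on with
  | zero => exact ⟨0, by simp⟩
  | tmul r p =>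
    induction p using MvPolynomial.induction_on' with
    | monomial μ a =>
      refine ⟨Finsupp.single μ (a • r), ?_⟩
      rw [Finsupp.sum_single_index (by exact TensorProduct.zero_tmul _ _), TensorProduct.smul_tmul,
        MvPolynomial.smul_monomial, smul_eq_mul, mul_one]
    | add p q hp hq =>
      rw [TensorProduct.tmul_add]
      exact hadd _ _ hp hq
  | add x y hx hy => exact hadd _ _ hx hy

theorem exists_factors (hF : PolLaw.IsHomog F d) :
    ∃ Φ : MvPolynomial (Fin d × σ) A →ₗ[A] A, Factors (diag A σ d).law F Φ := by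
  classical
  refine ⟨Phi A (cf F), fun S _ _ m => ?_⟩
  obtain ⟨s, rfl⟩ := exists_finsupp S m
  have hm : s.sum (fun u r => r ⊗ₜ[A] (MvPolynomial.monomial u (1 : A) : MvPolynomial σ A)) =
      Algebra.TensorProduct.map (MvPolynomial.aeval (fun u => s u) :
        MvPolynomial (σ →₀ ℕ) A →ₐ[A] S) (AlgHom.id A (MvPolynomial σ A)) (gen A s.support) := by
    rw [gen, map_sum, Finsupp.sum]
    refine Finset.sum_congr rfl (fun u _ => ?_)
    rw [Algebra.TensorProduct.map_tmul, MvPolynomial.aeval_X]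
    rfl
  rw [hm, bar_map, toFun'_map, phiBar_map]
  congr 1
  show fgen F s.support = _
  rw [fgen_eq F hF, phiBar_diag_gen]

end main

end Groth.Agent.Lib.Helper14.PolLawRoby
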