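import Mathlib
import Groth.Prelude.Def_PolLaw
import Groth.Prelude.Def_PolLaw2
import Groth.Agent.Lib.Helper14PolLawDiag
import Groth.Agent.Lib.Helper14PolLawCayley
import Groth.Agent.Lib.Helper14PolLawRoby

/-!
# Cayley–Hamilton for multiplicative polynomial laws `B → A` (helper14)

* `strongCH_general`: for a multiplicative law `F : B → A` homogeneous of degree `d`, every ring test
  algebra `S` and `z x w : S ⊗ B`: `F_S (x + w * χ_z(z)) = F_S x`, `χ_z = F_{S[t]}(z - t)`.
* `aeval_chi_mem_ker`: `χ_b(b) ∈ ker F`; `cayleyHamilton_ideal`: CH ideal ≤ ker F ≤ its radical.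
-/

set_option autoImplicit false
universe u
open TensorProduct

namespace Groth.Agent.Lib.Helper14.PolLawCH2

open Groth.Agent.Lib.Helper14.PolLawDiag
open Groth.Agent.Lib.Helper14.PolLawCH
open Groth.Agent.Lib.Helper14.PolLawRoby
open Groth.Agent.Lib.Helper14.PolLawRed (toFun'_map rTensor_eq_map exists_lift₂)

section general
variable {A : Type u} [CommRing A] {B : Type u} [CommRing B] [Algebra A B]

lemma mem_ker_of_forall_ring {E : Type u} [CommRing E] [Algebra A E] (F : B →ₚₗ[A] E) (c : B)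
    (h : ∀ (S : Type u) [CommRing S] [Algebra A S] (x w : S ⊗[A] B),
      F.toFun' S (x + w * (1 ⊗ₜ[A] c)) = F.toFun' S x) : c ∈ PolLaw.ker F := by
  intro S _ _ x w
  obtain ⟨n, ψ, x', w', rfl, rfl⟩ := exists_lift₂ x w
  have h1 := h (MvPolynomial (Fin n) A) x' w'
  have h2 := congrArg (Algebra.TensorProduct.map ψ (AlgHom.id A E)) h1
  rw [← toFun'_map, ← toFun'_map, map_add, map_mul, Algebra.TensorProduct.map_tmul, map_one] at h2
  exact h2

lemma precomp_toFun' {d : ℕ} {B' : Type u} [CommRing B'] [Algebra A B'] (F : PolLaw.MulLaw A B A d)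
    (π : B' →ₐ[A] B) (S : Type u) [CommRing S] [Algebra A S] (m : S ⊗[A] B') :
    (F.precomp π).law.toFun' S m =
      F.law.toFun' S (Algebra.TensorProduct.map (AlgHom.id S S) π m) := by
  rw [← PolLaw.lTensor_algHom_apply]
  rfl

lemma map_id_inc {B' : Type u} [CommRing B'] [Algebra A B'] (π : B' →ₐ[A] B)
    {S R : Type u} [CommRing S] [Algebra A S] [CommRing R] [Algebra A R] [Algebra S R]
    [IsScalarTower A S R] (y : S ⊗[A] B') :
    Algebra.TensorProduct.map (AlgHom.id R R) π (inc A S R B' y) =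
      inc A S R B (Algebra.TensorProduct.map (AlgHom.id S S) π y) := by
  induction y using TensorProduct.induction_on with
  | zero => simp
  | tmul s b => simp [inc, Algebra.TensorProduct.map_tmul]
  | add x y hx hy => simp only [map_add, hx, hy]

lemma charpoly_precomp {d : ℕ} {B' : Type u} [CommRing B'] [Algebra A B']
    (F : PolLaw.MulLaw A B A d) (π : B' →ₐ[A] B) (S : Type u) [CommRing S] [Algebra A S]
    (z : S ⊗[A] B') :
    charpoly (F.precomp π).law S z =
      charpoly F.law S (Algebra.TensorProduct.map (AlgHom.id S S) π z) := by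
  unfold charpoly bar
  rw [precomp_toFun', map_sub, map_id_inc, Algebra.TensorProduct.map_tmul, map_one]
  rfl

theorem strongCH_general {d : ℕ} (F : PolLaw.MulLaw A B A d) (S : Type u) [CommRing S]
    [Algebra A S] (z x w : S ⊗[A] B) :
    F.law.toFun' S (x + w * Polynomial.aeval z (charpoly F.law S z)) = F.law.toFun' S x := by
  set π : MvPolynomial B A →ₐ[A] B := MvPolynomial.aeval id with hπ
  have hπs : Function.Surjective π := fun b => ⟨MvPolynomial.X b, by simp [hπ]⟩
  have hs : Function.Surjective (Algebra.TensorProduct.map (AlgHom.id S S) π) := by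
    have := LinearMap.lTensor_surjective S (g := π.toLinearMap) hπs
    intro y
    obtain ⟨y', hy'⟩ := this y
    exact ⟨y', by rw [← hy', PolLaw.lTensor_algHom_apply]⟩
  obtain ⟨z', rfl⟩ := hs z
  obtain ⟨x', rfl⟩ := hs x
  obtain ⟨w', rfl⟩ := hs w
  obtain ⟨Φ, hΦ⟩ := exists_factors (F.precomp π).law (F.precomp π).homog
  have h := strongCH (emb A B d) (F.precomp π) Φ hΦ S z' x' w'
  rw [precomp_toFun', precomp_toFun', charpoly_precomp, map_add, map_mul,
    ← Polynomial.aeval_algHom_apply] at h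
  exact h

/-- the characteristic polynomial of `b : B` with respect to the law `F` -/
noncomputable def chi (F : B →ₚₗ[A] A) (b : B) : Polynomial A :=
  TensorProduct.rid A (Polynomial A)
    (F.toFun' (Polynomial A) ((1 : Polynomial A) ⊗ₜ[A] b - Polynomial.X ⊗ₜ[A] (1 : B)))

lemma charpoly_one_tmul (F : B →ₚₗ[A] A) (S : Type u) [CommRing S] [Algebra A S] (b : B) :
    charpoly F S ((1 : S) ⊗ₜ[A] b) = (chi F b).map (algebraMap A S) := by
  have h1 : inc A S (Polynomial S) B ((1 : S) ⊗ₜ[A] b) - Polynomial.X ⊗ₜ[A] 1 =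
      Algebra.TensorProduct.map (Polynomial.mapAlgHom (Algebra.ofId A S)) (AlgHom.id A B)
        ((1 : Polynomial A) ⊗ₜ[A] b - Polynomial.X ⊗ₜ[A] (1 : B)) := by
    simp [inc, Algebra.TensorProduct.map_tmul]
  rw [charpoly, h1, bar_map]
  rfl

theorem aeval_chi_mem_ker {d : ℕ} (F : PolLaw.MulLaw A B A d) (b : B) :
    Polynomial.aeval b (chi F.law b) ∈ PolLaw.ker F.law := by
  apply mem_ker_of_forall_ring
  intro S _ _ x w
  have h := strongCH_general F S ((1 : S) ⊗ₜ[A] b) x w
  have h2 : Polynomial.aeval ((1 : S) ⊗ₜ[A] b) (chi F.law b) =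
      (1 : S) ⊗ₜ[A] (Polynomial.aeval b (chi F.law b)) := by
    have := Polynomial.aeval_algHom_apply
      (Algebra.TensorProduct.includeRight : B →ₐ[A] S ⊗[A] B) b (chi F.law b)
    simpa using this
  rw [charpoly_one_tmul, Polynomial.aeval_map_algebraMap, h2] at h
  exact h

lemma chi_of_mem_ker {d : ℕ} (F : PolLaw.MulLaw A B A d) (b : B) (hb : b ∈ PolLaw.ker F.law) :
    chi F.law b = (-Polynomial.X) ^ d := by
  have h1 := hb (Polynomial A) (-(Polynomial.X ⊗ₜ[A] (1 : B))) 1
  have h2 : -((Polynomial.X : Polynomial A) ⊗ₜ[A] (1 : B)) + 1 * ((1 : Polynomial A) ⊗ₜ[A] b) =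
      (1 : Polynomial A) ⊗ₜ[A] b - Polynomial.X ⊗ₜ[A] (1 : B) := by ring
  have h3 : -((Polynomial.X : Polynomial A) ⊗ₜ[A] (1 : B)) =
      (-Polynomial.X : Polynomial A) • (1 : Polynomial A ⊗[A] B) := by
    rw [Algebra.TensorProduct.one_def, TensorProduct.smul_tmul', smul_eq_mul, mul_one,
      TensorProduct.neg_tmul]
  rw [h2, h3, F.homog, (F.mult _).1] at h1
  rw [chi, h1, Algebra.TensorProduct.one_def, TensorProduct.smul_tmul', TensorProduct.rid_tmul]
  simp

theorem cayleyHamilton_ideal {d : ℕ} (F : PolLaw.MulLaw A B A d) :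
    Ideal.span (Set.range fun b : B => Polynomial.aeval b (chi F.law b)) ≤ PolLaw.ker F.law ∧
      PolLaw.ker F.law ≤
        (Ideal.span (Set.range fun b : B => Polynomial.aeval b (chi F.law b))).radical := by
  refine ⟨?_, fun b hb => ?_⟩
  · rw [Ideal.span_le]
    rintro _ ⟨b, rfl⟩
    exact aeval_chi_mem_ker F b
  · refine ⟨d, ?_⟩
    have h1 : Polynomial.aeval b (chi F.law b) ∈
        Ideal.span (Set.range fun b : B => Polynomial.aeval b (chi F.law b)) :=
      Ideal.subset_span ⟨b, rfl⟩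
    rw [chi_of_mem_ker F b hb] at h1
    have h2 : b ^ d = (-1) ^ d * Polynomial.aeval b ((-Polynomial.X : Polynomial A) ^ d) := by
      rw [map_pow, map_neg, Polynomial.aeval_X, ← mul_pow]
      simp
    rw [h2]
    exact Ideal.mul_mem_left _ _ h1

end general

end Groth.Agent.Lib.Helper14.PolLawCH2
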