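import Mathlib
import Groth.Prelude.Def_PolLaw
import Groth.Prelude.Def_PolLaw2
import Groth.Agent.Lib.Helper14PolLawCH2

/-!
# Consequences of Cayley–Hamilton for multiplicative laws (helper14)

`chi_coeff` (χ_b has degree ≤ d with top coefficient (-1)^d), `mchi` (monic version),
`isIntegral_image` (B ⧸ ker F integral over A), `radical_ker_precomp`.
-/

set_option autoImplicit false
universe u
open TensorProduct

namespace Groth.Agent.Lib.Helper14.PolLawCH3

open Groth.Agent.Lib.Helper14.PolLawDiag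
open Groth.Agent.Lib.Helper14.PolLawCH
open Groth.Agent.Lib.Helper14.PolLawCH2
open Groth.Agent.Lib.Helper14.PolLawRoby
open Groth.Agent.Lib.Helper14.PolLawRed (toFun'_map rTensor_eq_map exists_lift₂)

section coeffs
variable {A : Type u} [CommRing A] {T : Type u} [CommRing T] [Algebra A T]

/-- coefficient functional on `A[X] ⊗ T` -/
noncomputable def Lc (k : ℕ) : Polynomial A ⊗[A] T →ₗ[A] A ⊗[A] T :=
  (Polynomial.lcoeff A k).rTensor T

lemma Lc_mul_tmul (k : ℕ) (y : Polynomial A ⊗[A] T) (c : T) :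
    Lc k (y * ((1 : Polynomial A) ⊗ₜ[A] c)) = Lc k y * ((1 : A) ⊗ₜ[A] c) := by
  induction y using TensorProduct.induction_on with
  | zero => simp
  | tmul p t => simp [Lc, Algebra.TensorProduct.tmul_mul_tmul]
  | add x y hx hy => simp only [add_mul, map_add, hx, hy]

lemma Lc_succ_mul_X (k : ℕ) (y : Polynomial A ⊗[A] T) :
    Lc (k + 1) (y * ((Polynomial.X : Polynomial A) ⊗ₜ[A] (1 : T))) = Lc k y := by
  induction y using TensorProduct.induction_on with
  | zero => simp
  | tmul p t => simp [Lc, Algebra.TensorProduct.tmul_mul_tmul]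
  | add x y hx hy => simp only [add_mul, map_add, hx, hy]

lemma Lc_zero_mul_X (y : Polynomial A ⊗[A] T) :
    Lc 0 (y * ((Polynomial.X : Polynomial A) ⊗ₜ[A] (1 : T))) = 0 := by
  induction y using TensorProduct.induction_on with
  | zero => simp
  | tmul p t => simp [Lc, Algebra.TensorProduct.tmul_mul_tmul]
  | add x y hx hy => simp only [add_mul, map_add, hx, hy, add_zero]

lemma Lc_prod {ι : Type*} (s : Finset ι) (c : ι → T) :
    (∀ k, s.card < k → Lc k (∏ i ∈ s, ((1 : Polynomial A) ⊗ₜ[A] c i -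
        (Polynomial.X : Polynomial A) ⊗ₜ[A] (1 : T))) = 0) ∧
      Lc s.card (∏ i ∈ s, ((1 : Polynomial A) ⊗ₜ[A] c i -
        (Polynomial.X : Polynomial A) ⊗ₜ[A] (1 : T))) = (-1) ^ s.card := by
  classical
  induction s using Finset.induction_on with
  | empty =>
    refine ⟨fun k hk => ?_, ?_⟩
    · obtain ⟨k, rfl⟩ := Nat.exists_eq_succ_of_ne_zero (Nat.pos_iff_ne_zero.mp hk)
      simp [Lc, Algebra.TensorProduct.one_def, Polynomial.coeff_one]
    · simp [Lc, Algebra.TensorProduct.one_def]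
  | insert j s hj ih =>
    rw [Finset.prod_insert hj, Finset.card_insert_of_notMem hj, mul_comm]
    refine ⟨fun k hk => ?_, ?_⟩
    · obtain ⟨k, rfl⟩ := Nat.exists_eq_succ_of_ne_zero (by omega : k ≠ 0)
      rw [mul_sub, map_sub, Lc_mul_tmul, Lc_succ_mul_X, ih.1 (k + 1) (by omega),
        ih.1 k (by omega)]
      simp
    · rw [mul_sub, map_sub, Lc_mul_tmul, Lc_succ_mul_X, ih.1 (s.card + 1) (by omega), ih.2]
      rw [zero_mul, zero_sub]
      ring

end coeffs

section chi
variable {A : Type u} [CommRing A] {B C : Type u} [CommRing B] [Algebra A B] [CommRing C]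
  [Algebra A C] {d : ℕ}

lemma chi_eq_bar (F : B →ₚₗ[A] A) (b : B) :
    chi F b = bar F (Polynomial A) ((1 : Polynomial A) ⊗ₜ[A] b - Polynomial.X ⊗ₜ[A] (1 : B)) := rfl

lemma chi_coeff_of_factors (ι : Fin d → (B →ₐ[A] C)) (G : PolLaw.MulLaw A B A d) (Φ : C →ₗ[A] A)
    (hΦ : Factors (PolLaw.MulLaw.prodMap ι d (Fintype.card_fin d)).law G.law Φ) (b : B) :
    (∀ k, d < k → (chi G.law b).coeff k = 0) ∧ (chi G.law b).coeff d = (-1) ^ d := by
  set y : Polynomial A ⊗[A] C := ∏ i : Fin d, ((1 : Polynomial A) ⊗ₜ[A] ι i b -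
    (Polynomial.X : Polynomial A) ⊗ₜ[A] (1 : C)) with hy
  have h1 : chi G.law b = phiBar Φ (Polynomial A) y := by
    rw [chi_eq_bar, hΦ, PolLaw.MulLaw.prodMap_toFun', hy]
    congr 1
    refine Finset.prod_congr rfl (fun i _ => ?_)
    simp only [map_sub, Algebra.TensorProduct.map_tmul, map_one, AlgHom.id_apply]
  have h2 : ∀ k, (chi G.law b).coeff k = phiBar Φ A (Lc k y) := by
    intro k
    rw [h1, Lc, phiBar_rTensor]
    rfl
  have h3 := Lc_prod (A := A) (Finset.univ : Finset (Fin d)) (fun i => ι i b)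
  rw [Finset.card_univ, Fintype.card_fin] at h3
  refine ⟨fun k hk => ?_, ?_⟩
  · rw [h2, ← hy] at *
    rw [h3.1 k hk, map_zero]
  · rw [h2, h3.2]
    have : ((-1 : A ⊗[A] C)) ^ d = algebraMap A (A ⊗[A] C) ((-1) ^ d) := by
      rw [map_pow, map_neg, map_one]
    rw [this, Algebra.algebraMap_eq_smul_one, map_smul, phiBar_one (PolLaw.MulLaw.prodMap ι d (Fintype.card_fin d)).mult G.mult hΦ,
      smul_eq_mul, mul_one]

lemma chi_precomp {B' : Type u} [CommRing B'] [Algebra A B'] (F : PolLaw.MulLaw A B A d)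
    (π : B' →ₐ[A] B) (b' : B') : chi (F.precomp π).law b' = chi F.law (π b') := by
  unfold chi
  rw [precomp_toFun']
  simp only [map_sub, Algebra.TensorProduct.map_tmul, map_one, AlgHom.id_apply]

theorem chi_coeff (F : PolLaw.MulLaw A B A d) (b : B) :
    (∀ k, d < k → (chi F.law b).coeff k = 0) ∧ (chi F.law b).coeff d = (-1) ^ d := by
  set π : MvPolynomial B A →ₐ[A] B := MvPolynomial.aeval id with hπ
  have hb : π (MvPolynomial.X b) = b := by simp [hπ]
  obtain ⟨Φ, hΦ⟩ := exists_factors (F.precomp π).law (F.precomp π).homog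
  have := chi_coeff_of_factors (emb A B d) (F.precomp π) Φ hΦ (MvPolynomial.X b)
  rwa [chi_precomp, hb] at this

/-- the monic characteristic polynomial -/
noncomputable def mchi (F : PolLaw.MulLaw A B A d) (b : B) : Polynomial A :=
  Polynomial.C ((-1) ^ d) * chi F.law b

lemma mchi_monic (F : PolLaw.MulLaw A B A d) (b : B) : (mchi F b).Monic := by
  have h := chi_coeff F b
  apply Polynomial.monic_of_natDegree_le_of_coeff_eq_one d
  · rw [Polynomial.natDegree_le_iff_coeff_eq_zero]
    intro k hk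
    rw [mchi, Polynomial.coeff_C_mul, h.1 k hk, mul_zero]
  · rw [mchi, Polynomial.coeff_C_mul, h.2, ← mul_pow]
    simp

lemma aeval_mchi_mem_ker (F : PolLaw.MulLaw A B A d) (b : B) :
    Polynomial.aeval b (mchi F b) ∈ PolLaw.ker F.law := by
  rw [mchi, map_mul]
  exact Ideal.mul_mem_left _ _ (aeval_chi_mem_ker F b)

theorem isIntegral_image (F : PolLaw.MulLaw A B A d) : Algebra.IsIntegral A (PolLaw.image F.law) := by
  refine ⟨fun x => ?_⟩
  obtain ⟨b, rfl⟩ := Ideal.Quotient.mk_surjective x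
  refine ⟨mchi F b, mchi_monic F b, ?_⟩
  have h := aeval_mchi_mem_ker F b
  rw [← Ideal.Quotient.eq_zero_iff_mem] at h
  rw [← Polynomial.aeval_def, ← h]
  exact (Polynomial.aeval_algHom_apply (Ideal.Quotient.mkₐ A (PolLaw.ker F.law)) b (mchi F b))

lemma comap_ker_le_ker_precomp {B' : Type u} [CommRing B'] [Algebra A B']
    (F : PolLaw.MulLaw A B A d) (φ : B' →ₐ[A] B) :
    (PolLaw.ker F.law).comap φ ≤ PolLaw.ker (F.precomp φ).law := by
  intro b' hb
  apply mem_ker_of_forall_ring
  intro S _ _ x w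
  rw [precomp_toFun', precomp_toFun', map_add, map_mul, Algebra.TensorProduct.map_tmul, map_one]
  exact hb S _ _

lemma pow_mem_ker_of_mem_ker_precomp {B' : Type u} [CommRing B'] [Algebra A B']
    (F : PolLaw.MulLaw A B A d) (φ : B' →ₐ[A] B) (b' : B')
    (hb : b' ∈ PolLaw.ker (F.precomp φ).law) : φ b' ^ d ∈ PolLaw.ker F.law := by
  have h1 := aeval_chi_mem_ker F (φ b')
  rw [← chi_precomp, chi_of_mem_ker (F.precomp φ) b' hb] at h1
  have h2 : φ b' ^ d = (-1) ^ d * Polynomial.aeval (φ b') ((-Polynomial.X : Polynomial A) ^ d) := by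
    rw [map_pow, map_neg, Polynomial.aeval_X, ← mul_pow]
    simp
  rw [h2]
  exact Ideal.mul_mem_left _ _ h1

theorem radical_ker_precomp {B' : Type u} [CommRing B'] [Algebra A B']
    (F : PolLaw.MulLaw A B A d) (φ : B' →ₐ[A] B) :
    (PolLaw.ker (F.precomp φ).law).radical = ((PolLaw.ker F.law).comap φ).radical := by
  apply le_antisymm
  · rw [Ideal.radical_le_radical_iff]
    intro b' hb
    refine ⟨d, ?_⟩
    rw [Ideal.mem_comap, map_pow]
    exact pow_mem_ker_of_mem_ker_precomp F φ b' hb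
  · exact Ideal.radical_mono (comap_ker_le_ker_precomp F φ)

end chi

end Groth.Agent.Lib.Helper14.PolLawCH3
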