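import Mathlib
import Groth.Prelude.Def_PolLaw
import Groth.Agent.Lib.Helper14PolLawFin

/-!
# The kernel of a polynomial law and base change to `A[X]/(g)`, `g` monic separable (helper14)
-/

set_option autoImplicit false
universe u
open Polynomial TensorProduct

namespace Groth.Agent.Lib.Helper14.PolLawEtale

/-- Every monic polynomial splits into linear factors in some algebra which admits an `A`-linear
retraction onto `A`. -/
theorem exists_splitting (n : ℕ) : ∀ (A : Type u) [CommRing A] (g : A[X]), g.Monic →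
    g.natDegree = n →
    ∃ (Ω : Type u) (_ : CommRing Ω) (_ : Algebra A Ω) (ρ : Fin n → Ω) (r : Ω →ₗ[A] A),
      r 1 = 1 ∧ g.map (algebraMap A Ω) = ∏ k, (X - C (ρ k)) := by
  induction n with
  | zero =>
    intro A _ g hg hdeg
    refine ⟨A, inferInstance, inferInstance, Fin.elim0, LinearMap.id, rfl, ?_⟩
    have : g = 1 := hg.natDegree_eq_zero.mp hdeg
    simp [this]
  | succ n ih =>
    intro A _ g hg hdeg
    rcases subsingleton_or_nontrivial A with hA | hA
    · exact ⟨A, inferInstance, inferInstance, fun _ => 0, LinearMap.id, rfl, Subsingleton.elim _ _⟩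
    let A₁ := AdjoinRoot g
    let x : A₁ := AdjoinRoot.root g
    let pb := AdjoinRoot.powerBasis' hg
    have hdim : pb.dim = n + 1 := by simp [pb, hdeg]
    let i0 : Fin pb.dim := ⟨0, by omega⟩
    let r₀ : A₁ →ₗ[A] A := pb.basis.coord i0
    have hr₀ : r₀ 1 = 1 := by
      have : (1 : A₁) = pb.basis i0 := by rw [pb.basis_eq_pow]; simp [i0]
      rw [this]
      show pb.basis.coord i0 (pb.basis i0) = 1
      rw [Module.Basis.coord_apply, Module.Basis.repr_self, Finsupp.single_eq_same]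
    haveI : Nontrivial A₁ := by
      refine ⟨⟨1, 0, fun h => ?_⟩⟩
      have := congrArg r₀ h
      rw [hr₀, map_zero] at this
      exact one_ne_zero this
    let g₁ : A₁[X] := (g.map (AdjoinRoot.of g)) /ₘ (X - C x)
    have hroot : (g.map (AdjoinRoot.of g)).IsRoot x := AdjoinRoot.isRoot_root g
    have hfac : (X - C x) * g₁ = g.map (AdjoinRoot.of g) :=
      Polynomial.mul_divByMonic_eq_iff_isRoot.mpr hroot
    have hg₁ : g₁.Monic := by
      have h1 : ((X - C x) * g₁).Monic := hfac ▸ hg.map _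
      exact (monic_X_sub_C x).of_mul_monic_left h1
    have hdeg₁ : g₁.natDegree = n := by
      have h2 := congrArg natDegree hfac
      rw [(monic_X_sub_C x).natDegree_mul hg₁, natDegree_X_sub_C, (hg.natDegree_map _), hdeg] at h2
      omega
    obtain ⟨Ω, _, _, ρ', r', hr', hprod⟩ := ih A₁ g₁ hg₁ hdeg₁
    letI : Algebra A Ω := ((algebraMap A₁ Ω).comp (algebraMap A A₁)).toAlgebra
    haveI : IsScalarTower A A₁ Ω := IsScalarTower.of_algebraMap_eq (fun _ => rfl)
    refine ⟨Ω, inferInstance, inferInstance, Fin.cons (algebraMap A₁ Ω x) ρ',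
      r₀.comp (r'.restrictScalars A), ?_, ?_⟩
    · simp [hr', hr₀]
    · rw [Fin.prod_univ_succ]
      simp only [Fin.cons_zero, Fin.cons_succ]
      rw [← hprod, IsScalarTower.algebraMap_eq A A₁ Ω, ← Polynomial.map_map,
        AdjoinRoot.algebraMap_eq, ← hfac, Polynomial.map_mul, Polynomial.map_sub, map_X, map_C]

lemma isUnit_sub_of_separable {Ω : Type*} [CommRing Ω] {n : ℕ} (ρ : Fin n → Ω)
    (h : (∏ k : Fin n, (X - C (ρ k) : Polynomial Ω)).Separable) {k l : Fin n} (hkl : k ≠ l) :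
    IsUnit (ρ k - ρ l) := by
  classical
  have h1 : ∏ m, (X - C (ρ m)) = (X - C (ρ k)) * ((X - C (ρ l)) *
      ∏ m ∈ (Finset.univ.erase k).erase l, (X - C (ρ m))) := by
    rw [Finset.mul_prod_erase (Finset.univ.erase k) (fun m => (X - C (ρ m) : Polynomial Ω))
      (Finset.mem_erase.mpr ⟨hkl.symm, Finset.mem_univ l⟩),
      Finset.mul_prod_erase Finset.univ (fun m => (X - C (ρ m) : Polynomial Ω)) (Finset.mem_univ k)]
  rw [h1] at h
  have h3 : IsCoprime (X - C (ρ k)) (X - C (ρ l)) := h.isCoprime.of_mul_right_left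
  obtain ⟨a, b, hab⟩ := h3
  have h4 := congrArg (eval (ρ k)) hab
  simp only [eval_add, eval_mul, eval_sub, eval_X, eval_C, sub_self, mul_zero, zero_add,
    eval_one] at h4
  exact IsUnit.of_mul_eq_one _ (by rw [mul_comm]; exact h4)

open Groth.Agent.Lib.Helper14.PolLawRed (toFun'_map)
open Groth.Agent.Lib.Helper14.PolLawPoly (map_map_apply map_ker_le_kerBC)

section descent
variable {A : Type u} [CommRing A] {B E : Type u} [CommRing B] [Algebra A B] [CommRing E]
  [Algebra A E] (F : B →ₚₗ[A] E)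

/-- descent of kernel membership along an algebra with a linear retraction -/
lemma mem_ker_of_one_tmul_mem_kerBC (Ω : Type u) [CommRing Ω] [Algebra A Ω] (r : Ω →ₗ[A] A)
    (hr : r 1 = 1) (c : B) (h : (1 : Ω) ⊗ₜ[A] c ∈ PolLaw.kerBC F Ω) : c ∈ PolLaw.ker F := by
  intro S _ _ x w
  set ι : S →ₐ[A] Ω ⊗[A] S := Algebra.TensorProduct.includeRight with hι
  have h1 := h (Ω ⊗[A] S) (Algebra.TensorProduct.map ι (AlgHom.id A B) x)
    (Algebra.TensorProduct.map ι (AlgHom.id A B) w)
  rw [Algebra.TensorProduct.map_tmul, map_one] at h1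
  have h2 : Algebra.TensorProduct.map ι (AlgHom.id A B) (x + w * ((1 : S) ⊗ₜ[A] c)) =
      Algebra.TensorProduct.map ι (AlgHom.id A B) x +
        Algebra.TensorProduct.map ι (AlgHom.id A B) w * ((1 : Ω ⊗[A] S) ⊗ₜ[A] (AlgHom.id A B) c) := by
    rw [map_add, map_mul, Algebra.TensorProduct.map_tmul, map_one]
  rw [← h2, toFun'_map, toFun'_map] at h1
  have hinj : Function.Injective (Algebra.TensorProduct.map ι (AlgHom.id A E)) := by
    let ret : (Ω ⊗[A] S) ⊗[A] E →ₗ[A] S ⊗[A] E :=
      ((TensorProduct.lid A S).toLinearMap ∘ₗ (r.rTensor S)).rTensor E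
    apply Function.LeftInverse.injective (g := ret)
    intro q
    induction q using TensorProduct.induction_on with
    | zero => simp
    | tmul s e => simp [ret, hι, hr]
    | add a b ha hb => simp only [map_add, ha, hb]
  exact hinj h1

/-- kernels of base changes push forward along maps of base algebras -/
lemma map_mem_kerBC {A₁ A₂ : Type u} [CommRing A₁] [Algebra A A₁] [CommRing A₂] [Algebra A A₂]
    (θ : A₁ →ₐ[A] A₂) {z : A₁ ⊗[A] B} (hz : z ∈ PolLaw.kerBC F A₁) :
    Algebra.TensorProduct.map θ (AlgHom.id A B) z ∈ PolLaw.kerBC F A₂ := by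
  intro R _ _ _ _ x w
  letI : Algebra A₁ R := ((algebraMap A₂ R).comp (θ : A₁ →+* A₂)).toAlgebra
  haveI : IsScalarTower A A₁ R := IsScalarTower.of_algebraMap_eq (fun a => by
    rw [RingHom.algebraMap_toAlgebra, RingHom.comp_apply]
    show _ = algebraMap A₂ R (θ (algebraMap A A₁ a))
    rw [θ.commutes, ← IsScalarTower.algebraMap_apply])
  have h := hz R x w
  rw [map_map_apply]
  have e : (IsScalarTower.toAlgHom A A₂ R).comp θ = IsScalarTower.toAlgHom A A₁ R := by
    ext a
    rfl
  rw [e]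
  exact h

lemma exists_sum_tmul_left {A' : Type*} [CommRing A'] [Algebra A A'] {n : ℕ} (a : Fin n → A')
    (ha : Submodule.span A (Set.range a) = ⊤) (z : A' ⊗[A] B) :
    ∃ c : Fin n → B, z = ∑ i, a i ⊗ₜ[A] c i := by
  induction z using TensorProduct.induction_on with
  | zero => exact ⟨fun _ => 0, by simp⟩
  | tmul s c =>
    have hs : s ∈ Submodule.span A (Set.range a) := ha ▸ Submodule.mem_top
    obtain ⟨α, rfl⟩ := (Submodule.mem_span_range_iff_exists_fun A).mp hs
    refine ⟨fun i => α i • c, ?_⟩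
    rw [TensorProduct.sum_tmul]
    refine Finset.sum_congr rfl (fun i _ => ?_)
    rw [TensorProduct.smul_tmul]
  | add x y hx hy =>
    obtain ⟨r, rfl⟩ := hx
    obtain ⟨s, rfl⟩ := hy
    exact ⟨fun i => r i + s i, by simp [TensorProduct.tmul_add, Finset.sum_add_distrib]⟩

end descent

section main
variable {A : Type u} [CommRing A] {B E : Type u} [CommRing B] [Algebra A B] [CommRing E]
  [Algebra A E] (F : B →ₚₗ[A] E)

theorem kerBC_adjoinRoot (g : A[X]) (hg : g.Monic) (hsep : g.Separable) :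
    (PolLaw.ker F).map (Algebra.TensorProduct.includeRight : B →ₐ[A] AdjoinRoot g ⊗[A] B) =
      PolLaw.kerBC F (AdjoinRoot g) := by
  classical
  refine le_antisymm (map_ker_le_kerBC F _) (fun z hz => ?_)
  obtain ⟨Ω, _, _, ρ, r, hr, hprod⟩ := exists_splitting g.natDegree A g hg rfl
  -- write `z` in the power basis
  have hspan : Submodule.span A (Set.range fun i : Fin g.natDegree =>
      (AdjoinRoot.root g) ^ (i : ℕ)) = ⊤ := by
    have h1 := (AdjoinRoot.powerBasis' hg).basis.span_eq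
    rw [(AdjoinRoot.powerBasis' hg).coe_basis] at h1
    exact h1
  obtain ⟨c, rfl⟩ := exists_sum_tmul_left (B := B) _ hspan z
  -- the conjugates
  have hroot : ∀ k, g.eval₂ (Algebra.ofId A Ω : A →+* Ω) (ρ k) = 0 := by
    intro k
    have h1 : g.eval₂ (algebraMap A Ω) (ρ k) = 0 := by
      rw [eval₂_eq_eval_map, hprod, eval_prod]
      exact Finset.prod_eq_zero (Finset.mem_univ k) (by simp)
    exact h1
  let σ : Fin g.natDegree → (AdjoinRoot g →ₐ[A] Ω) := fun k =>
    AdjoinRoot.liftAlgHom g (Algebra.ofId A Ω) (ρ k) (hroot k)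
  have hmem : ∀ k, ∑ i : Fin g.natDegree, (ρ k ^ (i : ℕ)) ⊗ₜ[A] c i ∈ PolLaw.kerBC F Ω := by
    intro k
    have h1 := map_mem_kerBC F (σ k) hz
    rw [map_sum] at h1
    simp only [Algebra.TensorProduct.map_tmul, map_pow, σ, AdjoinRoot.liftAlgHom_root,
      AlgHom.id_apply] at h1
    exact h1
  -- the Vandermonde matrix is invertible
  have hsepΩ : (∏ k : Fin g.natDegree, (X - C (ρ k) : Polynomial Ω)).Separable := by
    rw [← hprod]
    exact hsep.map
  have hdet : IsUnit (Matrix.vandermonde ρ).det := by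
    rw [Matrix.det_vandermonde, IsUnit.prod_univ_iff]
    intro i
    rw [IsUnit.prod_iff]
    intro j hj
    exact isUnit_sub_of_separable ρ hsepΩ (Finset.mem_Ioi.mp hj).ne'
  obtain ⟨W, hW⟩ := ((Matrix.isUnit_iff_isUnit_det _).mpr hdet).exists_left_inv
  have h1 : ∀ i, (1 : Ω) ⊗ₜ[A] c i ∈ PolLaw.kerBC F Ω := by
    intro i
    have h2 : (1 : Ω) ⊗ₜ[A] c i = ∑ k, (W i k ⊗ₜ[A] (1 : B)) *
        ∑ i' : Fin g.natDegree, (ρ k ^ (i' : ℕ)) ⊗ₜ[A] c i' := by
      simp_rw [Finset.mul_sum, Algebra.TensorProduct.tmul_mul_tmul, one_mul]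
      rw [Finset.sum_comm]
      simp_rw [← TensorProduct.sum_tmul]
      have h3 : ∀ i' : Fin g.natDegree, ∑ k, W i k * ρ k ^ (i' : ℕ) =
          (1 : Matrix (Fin g.natDegree) (Fin g.natDegree) Ω) i i' := by
        intro i'
        rw [← hW, Matrix.mul_apply]
        rfl
      simp_rw [h3, Matrix.one_apply]
      rw [Finset.sum_eq_single i]
      · rw [if_pos rfl]
      · intro j _ hj
        rw [if_neg hj.symm, TensorProduct.zero_tmul]
      · intro h; exact absurd (Finset.mem_univ i) h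
    rw [h2]
    exact Ideal.sum_mem _ (fun k _ => Ideal.mul_mem_left _ _ (hmem k))
  have h2 : ∀ i, c i ∈ PolLaw.ker F := fun i =>
    mem_ker_of_one_tmul_mem_kerBC F Ω r hr (c i) (h1 i)
  refine Ideal.sum_mem _ (fun i _ => ?_)
  have h3 : ((AdjoinRoot.root g) ^ (i : ℕ)) ⊗ₜ[A] c i =
      (((AdjoinRoot.root g) ^ (i : ℕ)) ⊗ₜ[A] (1 : B)) *
        (Algebra.TensorProduct.includeRight : B →ₐ[A] AdjoinRoot g ⊗[A] B) (c i) := by
    rw [Algebra.TensorProduct.includeRight_apply, Algebra.TensorProduct.tmul_mul_tmul, mul_one,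
      one_mul]
  rw [h3]
  exact Ideal.mul_mem_left _ _ (Ideal.mem_map_of_mem _ (h2 i))

end main

end Groth.Agent.Lib.Helper14.PolLawEtale
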