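import Mathlib
import Groth.Prelude.Def_PolLaw
import Groth.Agent.Lib.Helper14PolLawPoly
import Groth.Agent.Lib.Helper14PolLawEtale
import Groth.Agent.Lib.Helper14PolLawDiag

/-!
# Kernels of polynomial laws commute with polynomial base change in several variables (helper14)

`kerBC_mvPolynomial`: `kerBC F A[X_1..X_n]` is the extension of `ker F`, deduced from the one-variable
case by a Kronecker substitution. Also `ext`, `rTensor_mem_ext`, `map_mem_ext`.
-/

set_option autoImplicit false
universe u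
open TensorProduct

namespace Groth.Agent.Lib.Helper14.PolLawMvKer

open Groth.Agent.Lib.Helper14.PolLawDiag
open Groth.Agent.Lib.Helper14.PolLawPoly (map_map_apply map_ker_le_kerBC kerBC_polynomial)
open Groth.Agent.Lib.Helper14.PolLawEtale (map_mem_kerBC)

section kron

/-- the Kronecker encoding of an exponent vector -/
def kron (N : ℕ) : ∀ {n : ℕ}, (Fin n → ℕ) → ℕ
  | 0, _ => 0
  | _ + 1, κ => κ 0 + N * kron N (Fin.tail κ)

lemma kron_injOn (N : ℕ) : ∀ {n : ℕ} (κ κ' : Fin n → ℕ), (∀ j, κ j < N) → (∀ j, κ' j < N) →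
    kron N κ = kron N κ' → κ = κ'
  | 0, κ, κ', _, _, _ => by funext j; exact j.elim0
  | n + 1, κ, κ', h, h', e => by
    simp only [kron] at e
    have h0 : κ 0 = κ' 0 := by
      have := congrArg (· % N) e
      simpa [Nat.add_mul_mod_self_left, Nat.mod_eq_of_lt (h 0), Nat.mod_eq_of_lt (h' 0)] using this
    have hN : 0 < N := lt_of_le_of_lt (Nat.zero_le _) (h 0)
    have h1 : kron N (Fin.tail κ) = kron N (Fin.tail κ') := by
      rw [h0] at e
      exact Nat.eq_of_mul_eq_mul_left hN (Nat.add_left_cancel e)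
    have h2 := kron_injOn N (Fin.tail κ) (Fin.tail κ') (fun j => h _) (fun j => h' _) h1
    funext j
    refine Fin.cases h0 (fun j => ?_) j
    exact congrFun h2 j

/-- the weights `N ^ j` -/
lemma kron_eq_sum (N : ℕ) : ∀ {n : ℕ} (κ : Fin n → ℕ), kron N κ = ∑ j, κ j * N ^ (j : ℕ)
  | 0, κ => by simp [kron]
  | n + 1, κ => by
    rw [kron, kron_eq_sum N (Fin.tail κ), Fin.sum_univ_succ, Finset.mul_sum]
    simp only [Fin.val_zero, pow_zero, mul_one, Fin.val_succ, Fin.tail]
    congr 1
    refine Finset.sum_congr rfl (fun j _ => ?_)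
    ring

end kron

section ideal
variable {A : Type u} [CommRing A] {B : Type u} [CommRing B] [Algebra A B]

/-- the extension of an ideal of `B` to `R ⊗ B` -/
noncomputable abbrev ext (I : Ideal B) (R : Type u) [CommRing R] [Algebra A R] :
    Ideal (R ⊗[A] B) :=
  I.map (Algebra.TensorProduct.includeRight : B →ₐ[A] R ⊗[A] B)

lemma rTensor_mul_mem_ext (I : Ideal B) {R S : Type u} [CommRing R] [Algebra A R] [CommRing S]
    [Algebra A S] (l : R →ₗ[A] S) {y : R ⊗[A] B} (hy : y ∈ ext I R) :
    ∀ a : R ⊗[A] B, l.rTensor B (a * y) ∈ ext I S := by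
  unfold ext Ideal.map at hy
  induction hy using Submodule.span_induction with
  | mem y hy =>
    obtain ⟨c, hc, rfl⟩ := hy
    intro a
    induction a using TensorProduct.induction_on with
    | zero => simp
    | tmul r b =>
      have : l.rTensor B (r ⊗ₜ[A] b * (Algebra.TensorProduct.includeRight : B →ₐ[A] R ⊗[A] B) c) =
          (l r ⊗ₜ[A] b) * (Algebra.TensorProduct.includeRight : B →ₐ[A] S ⊗[A] B) c := by
        simp [Algebra.TensorProduct.tmul_mul_tmul]
      rw [this]
      exact Ideal.mul_mem_left _ _ (Ideal.mem_map_of_mem _ hc)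
    | add x y hx hy =>
      rw [add_mul, map_add]
      exact add_mem hx hy
  | zero => intro a; simp
  | add x y _ _ hx hy =>
    intro a
    rw [mul_add, map_add]
    exact add_mem (hx a) (hy a)
  | smul a' y _ hy =>
    intro a
    rw [smul_eq_mul, ← mul_assoc]
    exact hy (a * a')

lemma rTensor_mem_ext (I : Ideal B) {R S : Type u} [CommRing R] [Algebra A R] [CommRing S]
    [Algebra A S] (l : R →ₗ[A] S) {y : R ⊗[A] B} (hy : y ∈ ext I R) :
    l.rTensor B y ∈ ext I S := by
  have := rTensor_mul_mem_ext I l hy 1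
  rwa [one_mul] at this

lemma map_mem_ext (I : Ideal B) {R S : Type u} [CommRing R] [Algebra A R] [CommRing S]
    [Algebra A S] (φ : R →ₐ[A] S) {y : R ⊗[A] B} (hy : y ∈ ext I R) :
    Algebra.TensorProduct.map φ (AlgHom.id A B) y ∈ ext I S := by
  rw [← Groth.Agent.Lib.Helper14.PolLawRed.rTensor_eq_map]
  exact rTensor_mem_ext I φ.toLinearMap hy

end ideal

section main
variable {A : Type u} [CommRing A] {B E : Type u} [CommRing B] [Algebra A B] [CommRing E]
  [Algebra A E] (F : B →ₚₗ[A] E)

open Polynomial in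
/-- the Kronecker substitution `X_j ↦ Y ^ (N ^ j)` -/
noncomputable def kronHom (N n : ℕ) : MvPolynomial (Fin n) A →ₐ[A] A[X] :=
  MvPolynomial.aeval (fun j : Fin n => (X : A[X]) ^ (N ^ (j : ℕ)))

open Polynomial in
lemma kronHom_monomial (N n : ℕ) (κ : Fin n →₀ ℕ) :
    kronHom (A := A) N n (MvPolynomial.monomial κ 1) = (X : A[X]) ^ (kron N ⇑κ) := by
  rw [kronHom, MvPolynomial.aeval_monomial, map_one, one_mul, kron_eq_sum,
    Finsupp.prod_fintype _ _ (fun j => pow_zero _), ← Finset.prod_pow_eq_pow_sum]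
  refine Finset.prod_congr rfl (fun j _ => ?_)
  rw [← pow_mul, mul_comm]

open Polynomial in
lemma lcoeff_term (k m : ℕ) (c : A ⊗[A] B) :
    (Polynomial.lcoeff A k).rTensor B
      ((((X : A[X]) ^ m) ⊗ₜ[A] (1 : B)) * inc A A A[X] B c) = if k = m then c else 0 := by
  induction c using TensorProduct.induction_on with
  | zero => simp
  | tmul a b =>
    simp only [inc, Algebra.TensorProduct.map_tmul, IsScalarTower.coe_toAlgHom', AlgHom.id_apply,
      Algebra.TensorProduct.tmul_mul_tmul, one_mul, LinearMap.rTensor_tmul, Polynomial.lcoeff_apply,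
      Polynomial.algebraMap_apply, Algebra.algebraMap_self, RingHom.id_apply]
    rw [mul_comm, Polynomial.coeff_C_mul_X_pow]
    split_ifs <;> simp
  | add x y hx hy =>
    rw [map_add, mul_add, map_add, hx, hy]
    split_ifs <;> simp

theorem kerBC_mvPolynomial (n : ℕ) :
    ext (PolLaw.ker F) (MvPolynomial (Fin n) A) = PolLaw.kerBC F (MvPolynomial (Fin n) A) := by
  classical
  refine le_antisymm (map_ker_le_kerBC F _) (fun z hz => ?_)
  set β₁ := MvPolynomial.basisMonomials (Fin n) A with hβ₁
  obtain ⟨K, hK⟩ := expand (S := A) β₁ B z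
  have hz' := hK K subset_rfl
  suffices h : ∀ κ ∈ K, coef β₁ B κ z ∈ ext (PolLaw.ker F) A by
    rw [hz']
    refine Ideal.sum_mem _ (fun κ hκ => Ideal.mul_mem_left _ _ ?_)
    exact map_mem_ext _ (IsScalarTower.toAlgHom A A (MvPolynomial (Fin n) A)) (h κ hκ)
  intro κ₀ hκ₀
  obtain ⟨N, hN⟩ : ∃ N : ℕ, ∀ κ ∈ K, ∀ j, κ j < N := by
    refine ⟨K.sup (fun κ => Finset.univ.sup ⇑κ) + 1, fun κ hκ j => ?_⟩
    have h1 : κ j ≤ Finset.univ.sup ⇑κ := Finset.le_sup (f := ⇑κ) (Finset.mem_univ j)
    have h2 : Finset.univ.sup ⇑κ ≤ K.sup (fun κ => Finset.univ.sup ⇑κ) :=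
      Finset.le_sup (f := fun κ : Fin n →₀ ℕ => Finset.univ.sup ⇑κ) hκ
    omega
  have h1 : Algebra.TensorProduct.map (kronHom (A := A) N n) (AlgHom.id A B) z ∈
      ext (PolLaw.ker F) (Polynomial A) := by
    show _ ∈ (PolLaw.ker F).map _
    rw [kerBC_polynomial]
    exact map_mem_kerBC F _ hz
  have h2 := rTensor_mem_ext (PolLaw.ker F) (Polynomial.lcoeff A (kron N ⇑κ₀)) h1
  have h3 : (Polynomial.lcoeff A (kron N ⇑κ₀)).rTensor B
      (Algebra.TensorProduct.map (kronHom (A := A) N n) (AlgHom.id A B) z) = coef β₁ B κ₀ z := by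
    conv_lhs => rw [hz']
    rw [map_sum, map_sum, Finset.sum_eq_single κ₀]
    · rw [map_mul, Algebra.TensorProduct.map_tmul, map_one, hβ₁, MvPolynomial.coe_basisMonomials,
        kronHom_monomial]
      have : Algebra.TensorProduct.map (kronHom (A := A) N n) (AlgHom.id A B)
          (inc A A (MvPolynomial (Fin n) A) B (coef (MvPolynomial.basisMonomials (Fin n) A) B κ₀ z)) =
          inc A A (Polynomial A) B (coef (MvPolynomial.basisMonomials (Fin n) A) B κ₀ z) := by
        rw [inc, map_map_apply]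
        congr 2
        ext
      rw [this, lcoeff_term, if_pos rfl]
    · intro κ hκ hne
      rw [map_mul, Algebra.TensorProduct.map_tmul, map_one, hβ₁, MvPolynomial.coe_basisMonomials,
        kronHom_monomial]
      have : Algebra.TensorProduct.map (kronHom (A := A) N n) (AlgHom.id A B)
          (inc A A (MvPolynomial (Fin n) A) B (coef (MvPolynomial.basisMonomials (Fin n) A) B κ z)) =
          inc A A (Polynomial A) B (coef (MvPolynomial.basisMonomials (Fin n) A) B κ z) := by
        rw [inc, map_map_apply]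
        congr 2
        ext
      rw [this, lcoeff_term, if_neg]
      intro he
      apply hne
      have := kron_injOn N ⇑κ₀ ⇑κ (hN κ₀ hκ₀) (hN κ hκ) he
      exact (DFunLike.coe_injective this).symm
    · intro h; exact absurd hκ₀ h
  rw [h3] at h2
  exact h2

end main

end Groth.Agent.Lib.Helper14.PolLawMvKer
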