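import Mathlib
import Groth.Prelude.Def_PolLaw
import Groth.Prelude.Def_PolLaw2
import Groth.Agent.Lib.Helper14PolLawCH3
import Groth.Agent.Lib.Helper14PolLawMvKer

/-!
# Relative Cayley–Hamilton and base change of the support of a multiplicative law (helper14)

`aeval_charpoly_mem_kerBC`, `aeval_charpoly_mem_ext` (χ_z(z) lies in the EXTENSION of `ker F` for every
`z : A' ⊗ B`), `radical_kerBC` (the radical of `kerBC F A'` is the radical of the extension of `ker F`),
`mem_kerBC_of_forall_ring`, `charpoly_map`, `aeval_map`.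
-/

set_option autoImplicit false
universe u
open TensorProduct

namespace Groth.Agent.Lib.Helper14.PolLawCH4

open Groth.Agent.Lib.Helper14.PolLawDiag
open Groth.Agent.Lib.Helper14.PolLawCH
open Groth.Agent.Lib.Helper14.PolLawCH2
open Groth.Agent.Lib.Helper14.PolLawCH3
open Groth.Agent.Lib.Helper14.PolLawMvKer
open Groth.Agent.Lib.Helper14.PolLawPoly (map_map_apply map_ker_le_kerBC)
open Groth.Agent.Lib.Helper14.PolLawRed (toFun'_map rTensor_eq_map exists_lift₂)

section nat
variable {A : Type u} [CommRing A] {B : Type u} [CommRing B] [Algebra A B]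

lemma inc_map {S S' : Type u} [CommRing S] [Algebra A S] [CommRing S'] [Algebra A S']
    (φ : S →ₐ[A] S') (z : S ⊗[A] B) :
    inc A S' (Polynomial S') B (Algebra.TensorProduct.map φ (AlgHom.id A B) z) =
      Algebra.TensorProduct.map (Polynomial.mapAlgHom φ) (AlgHom.id A B)
        (inc A S (Polynomial S) B z) := by
  rw [inc, inc, map_map_apply, map_map_apply]
  congr 2
  ext s
  simp

lemma charpoly_map (F : B →ₚₗ[A] A) {S S' : Type u} [CommRing S] [Algebra A S] [CommRing S']
    [Algebra A S'] (φ : S →ₐ[A] S') (z : S ⊗[A] B) :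
    charpoly F S' (Algebra.TensorProduct.map φ (AlgHom.id A B) z) =
      (charpoly F S z).map (φ : S →+* S') := by
  have h1 : inc A S' (Polynomial S') B (Algebra.TensorProduct.map φ (AlgHom.id A B) z) -
      Polynomial.X ⊗ₜ[A] 1 =
      Algebra.TensorProduct.map (Polynomial.mapAlgHom φ) (AlgHom.id A B)
        (inc A S (Polynomial S) B z - Polynomial.X ⊗ₜ[A] 1) := by
    rw [map_sub, inc_map]
    simp [Algebra.TensorProduct.map_tmul]
  rw [charpoly, h1, bar_map]
  rfl

lemma aeval_map {S S' : Type u} [CommRing S] [Algebra A S] [CommRing S'] [Algebra A S']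
    (φ : S →ₐ[A] S') (z : S ⊗[A] B) (p : Polynomial S) :
    Polynomial.aeval (Algebra.TensorProduct.map φ (AlgHom.id A B) z) (p.map (φ : S →+* S')) =
      Algebra.TensorProduct.map φ (AlgHom.id A B) (Polynomial.aeval z p) := by
  induction p using Polynomial.induction_on' with
  | add p q hp hq => simp only [Polynomial.map_add, map_add, hp, hq]
  | monomial n s =>
    simp only [Polynomial.map_monomial, Polynomial.aeval_monomial, map_mul, map_pow,
      Algebra.TensorProduct.algebraMap_apply, Algebra.algebraMap_self, RingHom.id_apply,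
      Algebra.TensorProduct.map_tmul, map_one]
    rfl

end nat

section kerBC
variable {A : Type u} [CommRing A] {B E : Type u} [CommRing B] [Algebra A B] [CommRing E]
  [Algebra A E]

lemma mem_kerBC_of_forall_ring (F : B →ₚₗ[A] E) (A' : Type u) [CommRing A'] [Algebra A A']
    (z : A' ⊗[A] B)
    (h : ∀ (R : Type u) [CommRing R] [Algebra A R] [Algebra A' R] [IsScalarTower A A' R]
      (x w : R ⊗[A] B), F.toFun' R (x + w * Algebra.TensorProduct.map
        (IsScalarTower.toAlgHom A A' R) (AlgHom.id A B) z) = F.toFun' R x) :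
    z ∈ PolLaw.kerBC F A' := by
  intro R _ _ _ _ x w
  obtain ⟨n, ψ₀, x', w', rfl, rfl⟩ := exists_lift₂ x w
  -- the `A'`-algebra map extending `ψ₀`
  set ψ : MvPolynomial (Fin n) A' →ₐ[A'] R := MvPolynomial.aeval (fun j => ψ₀ (MvPolynomial.X j))
    with hψ
  set j₀ : MvPolynomial (Fin n) A →ₐ[A] MvPolynomial (Fin n) A' :=
    MvPolynomial.mapAlgHom (Algebra.ofId A A') with hj₀
  have hcomp : (ψ.restrictScalars A).comp j₀ = ψ₀ := by
    apply MvPolynomial.algHom_ext
    intro j
    simp [hψ, hj₀]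
  have h1 := h (MvPolynomial (Fin n) A') (Algebra.TensorProduct.map j₀ (AlgHom.id A B) x')
    (Algebra.TensorProduct.map j₀ (AlgHom.id A B) w')
  have h2 := congrArg (Algebra.TensorProduct.map (ψ.restrictScalars A) (AlgHom.id A E)) h1
  rw [← toFun'_map, ← toFun'_map, map_add, map_mul, map_map_apply, map_map_apply, map_map_apply,
    hcomp] at h2
  have e : (ψ.restrictScalars A).comp (IsScalarTower.toAlgHom A A' (MvPolynomial (Fin n) A')) =
      IsScalarTower.toAlgHom A A' R := by
    ext a
    simp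
  rw [e] at h2
  exact h2

lemma exists_fin_sum_tmul (A' : Type u) [CommRing A'] [Algebra A A'] (z : A' ⊗[A] B) :
    ∃ (n : ℕ) (a : Fin n → A') (b : Fin n → B), z = ∑ k, a k ⊗ₜ[A] b k := by
  induction z using TensorProduct.induction_on with
  | zero => exact ⟨0, Fin.elim0, Fin.elim0, by simp⟩
  | tmul a b => exact ⟨1, fun _ => a, fun _ => b, by simp⟩
  | add x y hx hy =>
    obtain ⟨n, a, b, rfl⟩ := hx
    obtain ⟨m, a', b', rfl⟩ := hy
    refine ⟨n + m, Fin.append a a', Fin.append b b', ?_⟩
    rw [Fin.sum_univ_add]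
    simp

end kerBC

section main
variable {A : Type u} [CommRing A] {B : Type u} [CommRing B] [Algebra A B] {d : ℕ}

theorem aeval_charpoly_mem_kerBC (F : PolLaw.MulLaw A B A d) (A' : Type u) [CommRing A']
    [Algebra A A'] (z : A' ⊗[A] B) :
    Polynomial.aeval z (charpoly F.law A' z) ∈ PolLaw.kerBC F.law A' := by
  apply mem_kerBC_of_forall_ring
  intro R _ _ _ _ x w
  rw [← aeval_map, ← charpoly_map]
  exact strongCH_general F R _ x w

theorem aeval_charpoly_mem_ext (F : PolLaw.MulLaw A B A d) (A' : Type u) [CommRing A']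
    [Algebra A A'] (z : A' ⊗[A] B) :
    Polynomial.aeval z (charpoly F.law A' z) ∈ ext (PolLaw.ker F.law) A' := by
  obtain ⟨n, a, b, rfl⟩ := exists_fin_sum_tmul A' z
  set Z : MvPolynomial (Fin n) A ⊗[A] B :=
    ∑ k, (MvPolynomial.X k : MvPolynomial (Fin n) A) ⊗ₜ[A] b k with hZ
  set ψ : MvPolynomial (Fin n) A →ₐ[A] A' := MvPolynomial.aeval a with hψ
  have hz : Algebra.TensorProduct.map ψ (AlgHom.id A B) Z = ∑ k, a k ⊗ₜ[A] b k := by
    simp [hZ, hψ, Algebra.TensorProduct.map_tmul]
  have h1 := aeval_charpoly_mem_kerBC F (MvPolynomial (Fin n) A) Z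
  rw [← kerBC_mvPolynomial] at h1
  have h2 := map_mem_ext _ ψ h1
  rwa [← aeval_map, ← charpoly_map, hz] at h2

lemma charpoly_of_mem_kerBC (F : PolLaw.MulLaw A B A d) (A' : Type u) [CommRing A']
    [Algebra A A'] (z : A' ⊗[A] B) (hz : z ∈ PolLaw.kerBC F.law A') :
    charpoly F.law A' z = (-Polynomial.X) ^ d := by
  have h1 := hz (Polynomial A') (-(Polynomial.X ⊗ₜ[A] (1 : B))) 1
  have h2 : -((Polynomial.X : Polynomial A') ⊗ₜ[A] (1 : B)) + 1 * Algebra.TensorProduct.map
      (IsScalarTower.toAlgHom A A' (Polynomial A')) (AlgHom.id A B) z =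
      inc A A' (Polynomial A') B z - Polynomial.X ⊗ₜ[A] (1 : B) := by
    rw [one_mul, neg_add_eq_sub]
  have h3 : -((Polynomial.X : Polynomial A') ⊗ₜ[A] (1 : B)) =
      (-Polynomial.X : Polynomial A') • (1 : Polynomial A' ⊗[A] B) := by
    rw [Algebra.TensorProduct.one_def, TensorProduct.smul_tmul', smul_eq_mul, mul_one,
      TensorProduct.neg_tmul]
  rw [h2, h3, F.homog, (F.mult _).1] at h1
  rw [charpoly, bar, h1, Algebra.TensorProduct.one_def, TensorProduct.smul_tmul']
  simp

theorem radical_kerBC (F : PolLaw.MulLaw A B A d) (A' : Type u) [CommRing A'] [Algebra A A'] :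
    (PolLaw.kerBC F.law A').radical = (ext (PolLaw.ker F.law) A').radical := by
  apply le_antisymm
  · rw [Ideal.radical_le_radical_iff]
    intro z hz
    refine ⟨d, ?_⟩
    have h1 := aeval_charpoly_mem_ext F A' z
    rw [charpoly_of_mem_kerBC F A' z hz] at h1
    have h2 : z ^ d = (-1) ^ d * Polynomial.aeval z ((-Polynomial.X : Polynomial A') ^ d) := by
      rw [map_pow, map_neg, Polynomial.aeval_X, ← mul_pow]
      simp
    rw [h2]
    exact Ideal.mul_mem_left _ _ h1
  · exact Ideal.radical_mono (map_ker_le_kerBC F.law A')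

end main

end Groth.Agent.Lib.Helper14.PolLawCH4
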