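import Mathlib
import Groth.Agent.Lib.Helper14SplitLawG

/-!
# Multiplicative laws on an algebra split by a field extension: exponents (helper14)

For `W` a field, the component polynomials are monomials `X ^ c i` and `∑ c i = d`.
-/

set_option autoImplicit false
set_option linter.unusedVariables false
set_option linter.unusedSectionVars false
set_option linter.style.haveILetI false
universe u
open Polynomial TensorProduct

namespace Groth.Agent.Lib.Helper14.SplitLawG

section field
variable {A : Type u} [CommRing A] {B : Type u} [CommRing B] [Algebra A B]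
  {W : Type u} [Field W] [Algebra A W] {d : ℕ} {ι : Type*} [Fintype ι] [DecidableEq ι]
  (α : W ⊗[A] B ≃ₐ[W] (ι → W)) (G : PolLaw.MulLaw A B A d)

lemma exists_eq_X_pow (i : ι) : ∃ c : ℕ, Pc α G i = X ^ c := by
  set P := Pc α G i with hP
  have hP1 : P.eval 1 = 1 := eval_one α G i
  have hne : P ≠ 0 := by
    intro h
    rw [h, eval_zero] at hP1
    exact zero_ne_one hP1
  obtain ⟨c, hc⟩ : ∃ c, P.coeff c ≠ 0 := by
    by_contra h
    push Not at h
    exact hne (Polynomial.ext (by simpa using h))
  have h1 : P.coeff c = 1 := by
    have := coeff_orth α G i c c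
    rw [if_pos rfl] at this
    exact (mul_eq_right₀ hc).mp this
  refine ⟨c, ?_⟩
  ext l
  rw [coeff_X_pow]
  split_ifs with h
  · rw [h, h1]
  · have := coeff_orth α G i c l
    rw [if_neg (Ne.symm h), h1, one_mul] at this
    exact this

/-- the exponents of the law -/
noncomputable def expo (i : ι) : ℕ := (exists_eq_X_pow α G i).choose

lemma Pc_eq (i : ι) : Pc α G i = X ^ expo α G i := (exists_eq_X_pow α G i).choose_spec

lemma sum_expo : ∑ i, expo α G i = d := by
  have h := prod_Pc α G
  simp only [Pc_eq] at h
  rw [Finset.prod_pow_eq_pow_sum] at h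
  have := congrArg Polynomial.natDegree h
  rwa [natDegree_X_pow, natDegree_X_pow] at this

variable (R : Type u) [CommRing R] [Algebra A R] [Algebra W R] [IsScalarTower A W R]

theorem law_comb_pow (s : ι → R) :
    G.law.toFun' R (∑ i, s i • ε α R i) = (∏ i, s i ^ expo α G i) ⊗ₜ[A] (1 : A) := by
  rw [law_comb]
  congr 1
  exact Finset.prod_congr rfl (fun i _ => by rw [Pc_eq, map_pow, aeval_X])

end field

end Groth.Agent.Lib.Helper14.SplitLawG
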