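import Mathlib
import Groth.Agent.Lib.Helper14SplitLawG2

/-!
# Multiplicative laws on a finite separable field extension: all exponents are equal (helper14)
-/

set_option autoImplicit false
set_option linter.unusedVariables false
set_option linter.unusedSectionVars false
set_option linter.style.haveILetI false
universe u
open Polynomial TensorProduct

namespace Groth.Agent.Lib.Helper14.SepExpo

open Groth.Agent.Lib.Helper14.SplitLawG
open Groth.Agent.Lib.Helper14.PolLawRed (toFun'_map)

section poly
variable {R : Type*} [CommRing R] [IsDomain R]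

lemma rootMultiplicity_prod' {ι : Type*} (s : Finset ι) (f : ι → R[X]) (h : ∀ i ∈ s, f i ≠ 0)
    (a : R) : rootMultiplicity a (∏ i ∈ s, f i) = ∑ i ∈ s, rootMultiplicity a (f i) := by
  classical
  induction s using Finset.induction_on with
  | empty => simp
  | insert b s hb ih =>
    have h1 : ∀ i ∈ s, f i ≠ 0 := fun i hi => h i (Finset.mem_insert_of_mem hi)
    have h2 : f b * ∏ i ∈ s, f i ≠ 0 :=
      mul_ne_zero (h b (Finset.mem_insert_self b s)) (Finset.prod_ne_zero_iff.mpr h1)
    rw [Finset.prod_insert hb, Finset.sum_insert hb, rootMultiplicity_mul h2, ih h1]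

lemma rootMultiplicity_pow' (p : R[X]) (hp : p ≠ 0) (n : ℕ) (a : R) :
    rootMultiplicity a (p ^ n) = n * rootMultiplicity a p := by
  induction n with
  | zero => simp
  | succ n ih =>
    rw [pow_succ, rootMultiplicity_mul (mul_ne_zero (pow_ne_zero n hp) hp), ih]
    ring

lemma rootMultiplicity_X_sub_C_pow' [DecidableEq R] (a b : R) (n : ℕ) :
    rootMultiplicity a ((X - C b) ^ n) = if a = b then n else 0 := by
  rw [rootMultiplicity_pow' _ (X_sub_C_ne_zero b), rootMultiplicity_X_sub_C]
  split_ifs <;> simp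

end poly

section main
variable {k : Type u} [Field k] {E : Type u} [Field E] [Algebra k E]
  {L : Type u} [Field L] [Algebra k L] {d : ℕ} {ι : Type*} [Fintype ι] [DecidableEq ι]
  (α : L ⊗[k] E ≃ₐ[L] (ι → L)) (G : PolLaw.MulLaw k E k d)

/-- the embeddings given by the splitting -/
noncomputable def ψ (i : ι) : E →ₐ[k] L :=
  (Pi.evalAlgHom k (fun _ : ι => L) i).comp
    ((α.toAlgHom.restrictScalars k).comp Algebra.TensorProduct.includeRight)

lemma ψ_apply (i : ι) (b : E) : ψ α i b = α ((1 : L) ⊗ₜ[k] b) i := rfl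

lemma α_tmul (i : ι) (l : L) (b : E) : α (l ⊗ₜ[k] b) i = l * ψ α i b := by
  have : l ⊗ₜ[k] b = l • ((1 : L) ⊗ₜ[k] b) := by
    rw [TensorProduct.smul_tmul', smul_eq_mul, mul_one]
  rw [this, map_smul, Pi.smul_apply, smul_eq_mul, ψ_apply]

lemma ψ_ne {i j : ι} (hij : i ≠ j) : ψ α i ≠ ψ α j := by
  intro h
  have h1 : ∀ z : L ⊗[k] E, α z i = α z j := by
    intro z
    induction z using TensorProduct.induction_on with
    | zero => simp
    | tmul l b => rw [α_tmul, α_tmul, h]
    | add x y hx hy => rw [map_add, Pi.add_apply, Pi.add_apply, hx, hy]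
  have h2 := h1 (α.symm (Pi.single i 1))
  rw [AlgEquiv.apply_symm_apply, Pi.single_eq_same, Pi.single_eq_of_ne (Ne.symm hij)] at h2
  exact one_ne_zero h2

lemma ψ_x_ne [FiniteDimensional k E] {x : E} (hx : IntermediateField.adjoin k {x} = ⊤) {i j : ι}
    (hij : i ≠ j) :
    ψ α i x ≠ ψ α j x := by
  intro h
  apply ψ_ne α hij
  have halg : IsAlgebraic k x := Algebra.IsAlgebraic.isAlgebraic x
  have h1 : Algebra.adjoin k {x} = ⊤ := by
    rw [← IntermediateField.adjoin_simple_toSubalgebra_of_isAlgebraic halg, hx,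
      IntermediateField.top_toSubalgebra]
  apply AlgHom.ext_of_adjoin_eq_top h1
  intro y hy
  rw [Set.mem_singleton_iff] at hy
  rw [hy]
  exact h

/-- the characteristic polynomial of `x` for the law `G` -/
noncomputable def chi (x : E) : k[X] :=
  TensorProduct.rid k k[X] (G.law.toFun' k[X] ((X : k[X]) ⊗ₜ[k] (1 : E) - 1 ⊗ₜ[k] x))

theorem chi_map (x : E) :
    (chi G x).map (algebraMap k L) = ∏ i, (X - C (ψ α i x)) ^ expo α G i := by
  have h1 : Algebra.TensorProduct.map (Polynomial.mapAlg k L) (AlgHom.id k E)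
      ((X : k[X]) ⊗ₜ[k] (1 : E) - 1 ⊗ₜ[k] x) = ∑ i, (X - C (ψ α i x)) • ε α L[X] i := by
    rw [map_sub, Algebra.TensorProduct.map_tmul, Algebra.TensorProduct.map_tmul, map_one,
      mapAlg_eq_map, map_X, AlgHom.id_apply, map_one]
    have h2 : (1 : L[X]) ⊗ₜ[k] x = θ (B := E) L[X] ((1 : L) ⊗ₜ[k] x) := by
      rw [θ, Algebra.TensorProduct.map_tmul, map_one, AlgHom.id_apply]
    have h3 : (X : L[X]) ⊗ₜ[k] (1 : E) = (X : L[X]) • (1 : L[X] ⊗[k] E) := by
      rw [Algebra.TensorProduct.one_def, TensorProduct.smul_tmul', smul_eq_mul, mul_one]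
    rw [h2, θ_eq_sum α, h3, ← sum_ε α L[X], Finset.smul_sum, ← Finset.sum_sub_distrib]
    refine Finset.sum_congr rfl (fun i _ => ?_)
    rw [sub_smul, ψ_apply]
    rfl
  have h4 := toFun'_map G.law (Polynomial.mapAlg k L) ((X : k[X]) ⊗ₜ[k] (1 : E) - 1 ⊗ₜ[k] x)
  rw [h1, law_comb_pow, eq_rid_tmul (G.law.toFun' k[X] _), Algebra.TensorProduct.map_tmul,
    AlgHom.id_apply] at h4
  have h5 := tmul_one_inj h4
  rw [mapAlg_eq_map] at h5
  exact h5.symm

theorem expo_eq [FiniteDimensional k E] [Algebra.IsSeparable k E] (i j : ι) :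
    expo α G i = expo α G j := by
  classical
  obtain ⟨x, hx⟩ := Field.exists_primitive_element k E
  have hint : IsIntegral k x := Algebra.IsIntegral.isIntegral x
  set μ := minpoly k x with hμ
  have hirr : Irreducible μ := minpoly.irreducible hint
  have hsep : μ.Separable := Algebra.IsSeparable.isSeparable k x
  have hmap := chi_map α G x
  have hP0 : (chi G x).map (algebraMap k L) ≠ 0 := by
    rw [hmap]
    exact Finset.prod_ne_zero_iff.mpr (fun i _ => pow_ne_zero _ (X_sub_C_ne_zero _))
  have hχ0 : chi G x ≠ 0 := fun h => hP0 (by rw [h, Polynomial.map_zero])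
  obtain ⟨m, r, hr, hχ⟩ := WfDvdMonoid.max_power_factor hχ0 hirr
  -- the multiplicity computed from the factorisation over `L`
  have hc : ∀ j, rootMultiplicity (ψ α j x) ((chi G x).map (algebraMap k L)) = expo α G j := by
    intro j
    rw [hmap, rootMultiplicity_prod' _ _ (fun i _ => pow_ne_zero _ (X_sub_C_ne_zero _))]
    simp only [rootMultiplicity_X_sub_C_pow']
    rw [Finset.sum_eq_single j]
    · rw [if_pos rfl]
    · intro i _ hij
      rw [if_neg]
      exact fun h => ψ_x_ne α hx hij h.symm
    · intro h; exact absurd (Finset.mem_univ j) h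
  -- the multiplicity computed from the factorisation over `k`
  have hm : ∀ j, rootMultiplicity (ψ α j x) ((chi G x).map (algebraMap k L)) = m := by
    intro j
    have hroot : aeval (ψ α j x) μ = 0 := by
      rw [hμ, Polynomial.aeval_algHom_apply, minpoly.aeval, map_zero]
    have e1 : (chi G x).map (algebraMap k L) =
        (μ.map (algebraMap k L)) ^ m * r.map (algebraMap k L) := by
      conv_lhs => rw [hχ]
      rw [Polynomial.map_mul, Polynomial.map_pow]
    have hne : (μ.map (algebraMap k L)) ^ m * r.map (algebraMap k L) ≠ 0 := e1 ▸ hP0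
    have hμ0 : μ.map (algebraMap k L) ≠ 0 := by
      intro h
      rw [h] at hne
      rcases Nat.eq_zero_or_pos m with h0 | h0
      · have hμ0' : μ = 0 := by
          have := Polynomial.map_injective (algebraMap k L) (algebraMap k L).injective
          exact this (by rw [h, Polynomial.map_zero])
        exact hirr.ne_zero hμ0'
      · rw [zero_pow h0.ne', zero_mul] at hne
        exact hne rfl
    rw [e1, rootMultiplicity_mul hne, rootMultiplicity_pow' _ hμ0]
    have h1 : rootMultiplicity (ψ α j x) (μ.map (algebraMap k L)) = 1 := by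
      apply le_antisymm (rootMultiplicity_le_one_of_separable hsep.map _)
      rw [Nat.succ_le_iff, rootMultiplicity_pos hμ0, IsRoot, eval_map_algebraMap]
      exact hroot
    have h2 : rootMultiplicity (ψ α j x) (r.map (algebraMap k L)) = 0 := by
      apply rootMultiplicity_eq_zero
      intro h
      rw [IsRoot, eval_map_algebraMap] at h
      have h3 : minpoly k (ψ α j x) ∣ r := minpoly.dvd k _ h
      rw [minpoly.algHom_eq (ψ α j) (ψ α j).injective x] at h3
      exact hr h3
    rw [h1, h2, mul_one, add_zero]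
  rw [← hc i, ← hc j, hm i, hm j]

theorem card_mul_expo [FiniteDimensional k E] [Algebra.IsSeparable k E] (i : ι) :
    Fintype.card ι * expo α G i = d := by
  have h := sum_expo α G
  have h2 : ∀ j ∈ (Finset.univ : Finset ι), expo α G j = expo α G i :=
    fun j _ => expo_eq α G j i
  rw [Finset.sum_congr rfl h2, Finset.sum_const, Finset.card_univ, smul_eq_mul] at h
  exact h

end main

end Groth.Agent.Lib.Helper14.SepExpo
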