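import Mathlib

/-!
# `p`-th powers in separable extensions (helper14)
-/

set_option autoImplicit false
set_option linter.unusedVariables false
set_option linter.unusedSectionVars false
set_option linter.style.haveILetI false
universe u

namespace Groth.Agent.Lib.Helper14.SepPow

section field
variable {L : Type*} [Field L] (p : ℕ) [hp : Fact p.Prime] [CharP L p]

/-- if `a` is not a `p`-th power and `a ^ c` is a `p ^ b`-th power then `p ^ b ∣ c` -/
theorem pow_dvd_of_pow_eq {a : L} (ha : ∀ l : L, l ^ p ≠ a) :
    ∀ (b c : ℕ) (l : L), l ^ p ^ b = a ^ c → p ^ b ∣ c := by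
  have ha0 : a ≠ 0 := fun h => ha 0 (by rw [h, zero_pow hp.out.ne_zero])
  intro b
  induction b with
  | zero => intro c l _; simp
  | succ b ih =>
    intro c l hl
    by_cases hpc : p ∣ c
    · obtain ⟨c₁, rfl⟩ := hpc
      have h1 : (l ^ p ^ b) ^ p = (a ^ c₁) ^ p := by
        rw [← pow_mul, ← pow_succ, hl, mul_comm, pow_mul]
      have h2 : l ^ p ^ b = a ^ c₁ := frobenius_inj L p h1
      have := ih c₁ l h2
      rw [pow_succ, mul_comm]
      exact mul_dvd_mul_left p this
    · exfalso
      have hcop : IsCoprime (c : ℤ) (p : ℤ) := by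
        rw [Int.isCoprime_iff_gcd_eq_one, Int.gcd_natCast_natCast]
        exact (Nat.Coprime.symm ((Nat.Prime.coprime_iff_not_dvd hp.out).mpr hpc))
      obtain ⟨s, t, hst⟩ := hcop
      set m := l ^ p ^ b with hm
      have hm' : m ^ p = a ^ c := by rw [hm, ← pow_mul, ← pow_succ, hl]
      apply ha (m ^ s * a ^ t)
      rw [mul_pow]
      have e1 : (m ^ s) ^ p = a ^ (s * (c : ℤ)) := by
        rw [← zpow_natCast (m ^ s) p, ← zpow_mul, mul_comm, zpow_mul, zpow_natCast, hm',
          ← zpow_natCast a c, ← zpow_mul, mul_comm]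
      have e2 : (a ^ t) ^ p = a ^ (t * (p : ℤ)) := by
        rw [← zpow_natCast (a ^ t) p, ← zpow_mul]
      rw [e1, e2, ← zpow_add₀ ha0, hst, zpow_one]

end field

section sep
variable {k : Type u} [Field k] {K : Type u} [Field K] [Algebra k K]
  {L : Type u} [Field L] [Algebra k L] [Algebra.IsSeparable k L]
  (p : ℕ) [hp : Fact p.Prime] [CharP k p]

/-- if `x ^ p ^ a` is not separable over `k`, the image of `x ^ p ^ (a + 1)` under an embedding
of the separable closure into a separable extension is not a `p`-th power -/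
theorem not_pow_of_not_mem (ψ : ↥(separableClosure k K) →ₐ[k] L) (x : K) (a : ℕ)
    (y : ↥(separableClosure k K)) (hy : (y : K) = x ^ p ^ (a + 1))
    (hx : x ^ p ^ a ∉ separableClosure k K) : ∀ l : L, l ^ p ≠ ψ y := by
  intro l hl
  letI : Algebra (separableClosure k K) L := ψ.toRingHom.toAlgebra
  haveI : IsScalarTower k (separableClosure k K) L :=
    IsScalarTower.of_algebraMap_eq (fun r => (ψ.commutes r).symm)
  haveI : CharP (separableClosure k K) p :=
    charP_of_injective_algebraMap (algebraMap k (separableClosure k K)).injective p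
  haveI : CharP K p := charP_of_injective_algebraMap (algebraMap k K).injective p
  haveI : ExpChar (separableClosure k K) p := ExpChar.prime hp.out
  have h1 : l ∈ separableClosure (separableClosure k K) L :=
    mem_separableClosure_iff.mpr
      (IsSeparable.tower_top (separableClosure k K) (Algebra.IsSeparable.isSeparable k l))
  have h2 : l ∈ perfectClosure (separableClosure k K) L := by
    rw [mem_perfectClosure_iff_pow_mem p]
    exact ⟨1, y, by rw [pow_one, hl]; rfl⟩
  have h3 : l ∈ separableClosure (separableClosure k K) L ⊓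
      perfectClosure (separableClosure k K) L := ⟨h1, h2⟩
  rw [separableClosure_inf_perfectClosure, IntermediateField.mem_bot] at h3
  obtain ⟨w, hw⟩ := h3
  have hw' : ψ w = l := hw
  have h4 : ψ (w ^ p) = ψ y := by rw [map_pow, hw', hl]
  have h5 : w ^ p = y := ψ.injective h4
  have h6 : (w : K) ^ p = (x ^ p ^ a) ^ p := by
    rw [← pow_mul, ← pow_succ, ← hy, ← h5]
    rfl
  have h7 : (w : K) = x ^ p ^ a := frobenius_inj K p h6
  apply hx
  rw [← h7]
  exact w.2

end sep

end Groth.Agent.Lib.Helper14.SepPow
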