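import Mathlib

/-!
# A finite separable field extension is split by a separably closed field (helper14)
-/

set_option autoImplicit false
set_option linter.unusedVariables false
set_option linter.unusedSectionVars false
set_option linter.style.haveILetI false
universe u
open TensorProduct

namespace Groth.Agent.Lib.Helper14.SepSplit

theorem exists_split (k : Type u) [Field k] (E : Type u) [Field E] [Algebra k E]
    [FiniteDimensional k E] [Algebra.IsSeparable k E] (L : Type u) [Field L] [Algebra k L]
    [IsSepClosed L] :
    ∃ (ι : Type u) (_ : Fintype ι) (_ : DecidableEq ι),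
      Fintype.card ι = Module.finrank k E ∧ Nonempty (L ⊗[k] E ≃ₐ[L] (ι → L)) := by
  classical
  haveI : Algebra.FormallyEtale k E := Algebra.FormallyEtale.of_isSeparable k E
  haveI : Algebra.FormallyEtale L (L ⊗[k] E) := inferInstance
  obtain ⟨I, hI, Ai, hF, hA, e, hsep⟩ :=
    (Algebra.FormallyEtale.iff_exists_algEquiv_prod L (L ⊗[k] E)).mp inferInstance
  haveI : Fintype I := Fintype.ofFinite I
  have hb : ∀ i, Function.Bijective (algebraMap L (Ai i)) := fun i =>
    haveI := hsep i
    IsSepClosed.algebraMap_bijective L (Ai i)
  let e2 : (Π i, Ai i) ≃ₐ[L] (I → L) :=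
    AlgEquiv.piCongrRight (fun i => (AlgEquiv.ofBijective (Algebra.ofId L (Ai i)) (hb i)).symm)
  refine ⟨I, inferInstance, inferInstance, ?_, ⟨e.trans e2⟩⟩
  have h1 : Module.finrank L (L ⊗[k] E) = Module.finrank k E := Module.finrank_baseChange
  have h2 : Module.finrank L (I → L) = Fintype.card I := Module.finrank_pi L
  rw [← h1, ← h2]
  exact ((e.trans e2).toLinearEquiv.finrank_eq).symm

end Groth.Agent.Lib.Helper14.SepSplit
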