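import Mathlib
import Groth.Prelude.Def_PolLaw
import Groth.Prelude.Def_PolLaw2
import Groth.Agent.Lib.Helper14FieldLawExp
import Groth.Agent.Lib.Helper14FrobLawK
import Groth.Agent.Lib.Helper14SepExpo
import Groth.Agent.Lib.Helper14SepSplit
import Groth.Agent.Lib.Helper14SepPow
import Groth.Agent.Lib.Helper14GammaUniv

/-!
# Multiplicative laws on a finite field extension (helper14)

Uniqueness, existence and the divisibility criterion for multiplicative homogeneous laws `K → k`.
-/

set_option autoImplicit false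
set_option linter.unusedVariables false
set_option linter.unusedSectionVars false
set_option linter.style.haveILetI false
universe u
open Polynomial TensorProduct

namespace Groth.Agent.Lib.Helper14.FieldLawMain

open Groth.Agent.Lib.Helper14.FieldLawExp
open Groth.Agent.Lib.Helper14.FrobLawK
open Groth.Agent.Lib.Helper14.SplitLawG
open Groth.Agent.Lib.Helper14.SepExpo
open Groth.Agent.Lib.Helper14.PolLawRed (toFun'_map)
open Groth.Agent.Lib.Helper14.PolLawExt (P)

section general
variable {A B : Type u} [CommRing A] [CommRing B] [Algebra A B] {d : ℕ}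

lemma law_pow (F : PolLaw.MulLaw A B A d) (S : Type u) [CommRing S] [Algebra A S]
    (z : S ⊗[A] B) (n : ℕ) : F.law.toFun' S (z ^ n) = (F.law.toFun' S z) ^ n := by
  induction n with
  | zero => rw [pow_zero, pow_zero]; exact (F.mult S).1
  | succ n ih => rw [pow_succ, (F.mult S).2, ih, pow_succ]

lemma one_add_mul_idem_pow {T : Type*} [CommRing T] (u ε : T) (hε : ε * ε = ε) (n : ℕ) :
    (1 + (u - 1) * ε) ^ n = 1 + (u ^ n - 1) * ε := by
  induction n with
  | zero => simp
  | succ n ih =>
    rw [pow_succ, ih, pow_succ]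
    linear_combination ((u ^ n - 1) * (u - 1)) * hε

end general

section sep
variable {k : Type u} [Field k] {E : Type u} [Field E] [Algebra k E] [FiniteDimensional k E]
  [Algebra.IsSeparable k E] {d : ℕ}

theorem sep_law_eq (G G' : PolLaw.MulLaw k E k d) (L : Type u) [Field L] [Algebra k L]
    [IsSepClosed L] (R : Type u) [CommRing R] [Algebra k R] [Algebra L R] [IsScalarTower k L R]
    (y : R ⊗[k] E) : G.law.toFun' R y = G'.law.toFun' R y := by
  classical
  obtain ⟨ι, _, _, hcard, ⟨α⟩⟩ := SepSplit.exists_split k E L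
  obtain ⟨s, rfl⟩ := exists_eq_comb α R y
  rw [law_comb_pow, law_comb_pow]
  congr 1
  refine Finset.prod_congr rfl (fun i _ => ?_)
  have h1 := card_mul_expo α G i
  have h2 := card_mul_expo α G' i
  have hpos : 0 < Fintype.card ι := hcard ▸ Module.finrank_pos
  have : expo α G i = expo α G' i := Nat.eq_of_mul_eq_mul_left hpos (h1.trans h2.symm)
  rw [this]

theorem sep_law_eq_P (G G' : PolLaw.MulLaw k E k d) (m : ℕ) (y : P k m ⊗[k] E) :
    G.law.toFun' (P k m) y = G'.law.toFun' (P k m) y := by
  let j : P k m →ₐ[k] MvPolynomial (Fin m) (SeparableClosure k) :=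
    MvPolynomial.mapAlgHom (Algebra.ofId k (SeparableClosure k))
  have hj : Function.Injective j :=
    MvPolynomial.map_injective _ (algebraMap k (SeparableClosure k)).injective
  have h1 := toFun'_map G.law j y
  have h2 := toFun'_map G'.law j y
  rw [sep_law_eq G G' (SeparableClosure k) (MvPolynomial (Fin m) (SeparableClosure k)), h2] at h1
  have e1 := eq_rid_tmul (G.law.toFun' (P k m) y)
  have e2 := eq_rid_tmul (G'.law.toFun' (P k m) y)
  rw [e1, e2] at h1
  rw [Algebra.TensorProduct.map_tmul, Algebra.TensorProduct.map_tmul] at h1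
  have h3 := hj (tmul_one_inj h1)
  rw [e1, e2, h3]

end sep

section main
variable {k : Type u} [Field k] {K : Type u} [Field K] [Algebra k K] [FiniteDimensional k K]
  {e : ℕ} (hfe : IsFrobExp k e) (hexp : ∀ x : K, x ^ e ∈ separableClosure k K)

/-- the inclusion of the separable closure -/
noncomputable abbrev incl (k K : Type u) [Field k] [Field K] [Algebra k K] :
    ↥(separableClosure k K) →ₐ[k] K := (separableClosure k K).val

lemma incl_injective : Function.Injective (incl k K) := Subtype.val_injective

/-- the `e`-th powers of the basis vectors -/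
noncomputable def ys (j : Fin (Module.finrank k K)) : ↥(separableClosure k K) :=
  ⟨(Module.finBasis k K j) ^ e, hexp _⟩

lemma incl_ys (j : Fin (Module.finrank k K)) :
    incl k K (ys hexp j) = (Module.finBasis k K j) ^ e := rfl

/-- the Frobenius law `K → Ks` -/
noncomputable def Φ : K →ₚₗ[k] ↥(separableClosure k K) :=
  frobLaw (Module.finBasis k K) e (ys hexp)

include hfe hexp

theorem law_pow_eq {d : ℕ} (F : PolLaw.MulLaw k K k d) (S : Type u) [CommRing S] [Algebra k S]
    (z : S ⊗[k] K) :
    (F.law.toFun' S z) ^ e = (F.precomp (incl k K)).law.toFun' S ((Φ hexp).toFun' S z) := by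
  have h1 : (F.precomp (incl k K)).law.toFun' S ((Φ hexp).toFun' S z) =
      F.law.toFun' S ((incl k K).toLinearMap.lTensor S ((Φ hexp).toFun' S z)) := rfl
  have h2 := ιS_frobLaw (Module.finBasis k K) (incl k K) hfe (ys hexp) (incl_ys hexp) S z
  rw [h1, PolLaw.lTensor_algHom_apply]
  rw [show Algebra.TensorProduct.map (AlgHom.id S S) (incl k K) ((Φ hexp).toFun' S z) = z ^ e
    from h2, law_pow]

theorem unique {d : ℕ} (F F' : PolLaw.MulLaw k K k d) : F.law = F'.law := by
  apply Groth.Agent.Lib.Helper14.GammaUniv.law_ext_P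
  intro n x
  have h1 := law_pow_eq hfe hexp F (P k n) x
  have h2 := law_pow_eq hfe hexp F' (P k n) x
  rw [sep_law_eq_P (F.precomp (incl k K)) (F'.precomp (incl k K)) n, ← h2] at h1
  have e1 := eq_rid_tmul (F.law.toFun' (P k n) x)
  have e2 := eq_rid_tmul (F'.law.toFun' (P k n) x)
  rw [e1, e2] at h1
  rw [Algebra.TensorProduct.tmul_pow, Algebra.TensorProduct.tmul_pow, one_pow] at h1
  have h3 := hfe.pow_inj (tmul_one_inj h1)
  rw [e1, e2, h3]

theorem exists_law (m : ℕ) :
    ∃ F : K →ₚₗ[k] k, ((∀ (S : Type u) [CommRing S] [Algebra k S], F.toFun' S 1 = 1 ∧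
        ∀ x y : S ⊗[k] K, F.toFun' S (x * y) = F.toFun' S x * F.toFun' S y) ∧
      ∀ (S : Type u) [CommRing S] [Algebra k S] (a : S) (z : S ⊗[k] K),
        F.toFun' S (a • z) =
          a ^ (Module.finrank k ↥(separableClosure k K) * e * m) • F.toFun' S z) := by
  set N := PolLaw.normLaw k ↥(separableClosure k K)
    (Module.finrank k ↥(separableClosure k K)) rfl with hN
  refine ⟨(PolLaw.powLaw m).comp (N.law.comp (Φ hexp)), ⟨fun S _ _ => ⟨?_, fun x y => ?_⟩,
    fun S _ _ a z => ?_⟩⟩
  · show (N.law.toFun' S ((Φ hexp).toFun' S 1)) ^ m = 1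
    rw [Φ, frobLaw_one (Module.finBasis k K) (incl k K) hfe (ys hexp) (incl_ys hexp)
      incl_injective S, (N.mult S).1, one_pow]
  · show (N.law.toFun' S ((Φ hexp).toFun' S (x * y))) ^ m =
      (N.law.toFun' S ((Φ hexp).toFun' S x)) ^ m * (N.law.toFun' S ((Φ hexp).toFun' S y)) ^ m
    rw [Φ, frobLaw_mul (Module.finBasis k K) (incl k K) hfe (ys hexp) (incl_ys hexp)
      incl_injective S, (N.mult S).2, mul_pow]
  · show (N.law.toFun' S ((Φ hexp).toFun' S (a • z))) ^ m =
      a ^ (Module.finrank k ↥(separableClosure k K) * e * m) •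
        (N.law.toFun' S ((Φ hexp).toFun' S z)) ^ m
    rw [Φ, frobLaw_smul, N.homog S, _root_.smul_pow, ← pow_mul, ← pow_mul]
    congr 2
    ring

theorem dvd_of_law {d : ℕ} (F : PolLaw.MulLaw k K k d)
    (hmin : ∀ n : ℕ, 0 < n → (∀ x : K, x ^ n ∈ separableClosure k K) → e ≤ n) :
    Module.finrank k ↥(separableClosure k K) * e ∣ d := by
  classical
  obtain ⟨ι, _, _, hcard, ⟨α⟩⟩ :=
    SepSplit.exists_split k ↥(separableClosure k K) (SeparableClosure k)
  have hpos : 0 < Fintype.card ι := hcard ▸ Module.finrank_pos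
  obtain ⟨i₀⟩ := Fintype.card_pos_iff.mp hpos
  have hd : Fintype.card ι * expo α (F.precomp (incl k K)) i₀ = d :=
    card_mul_expo α (F.precomp (incl k K)) i₀
  rw [← hd, ← hcard]
  apply mul_dvd_mul_left
  rcases hfe with rfl | ⟨p, a, hp, hc, rfl⟩
  · exact one_dvd _
  · cases a with
    | zero => simp
    | succ a =>
      haveI : Fact p.Prime := ⟨hp⟩
      obtain ⟨x, hx⟩ := exists_not_mem (k := k) (K := K) (p ^ (a + 1)) p a hp rfl hmin
      let y : ↥(separableClosure k K) := ⟨x ^ p ^ (a + 1), hexp x⟩
      have hnot := Groth.Agent.Lib.Helper14.SepPow.not_pow_of_not_mem p (ψ α i₀) x a y rfl hx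
      haveI : CharP (SeparableClosure k) p :=
        charP_of_injective_algebraMap (algebraMap k (SeparableClosure k)).injective p
      -- the test element
      set εs := ε α (SeparableClosure k) i₀ with hεs
      set εK := Algebra.TensorProduct.map (AlgHom.id (SeparableClosure k) (SeparableClosure k))
        (incl k K) εs with hεK
      have hεK2 : εK * εK = εK := by rw [hεK, ← map_mul, ε_idem]
      set z : (SeparableClosure k) ⊗[k] K :=
        1 + ((1 : SeparableClosure k) ⊗ₜ[k] x - 1) * εK with hz
      have hzpow : z ^ p ^ (a + 1) =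
          Algebra.TensorProduct.map (AlgHom.id (SeparableClosure k) (SeparableClosure k))
            (incl k K) (1 + ((1 : SeparableClosure k) ⊗ₜ[k] y - 1) * εs) := by
        rw [hz, one_add_mul_idem_pow _ _ hεK2, map_add, map_one, map_mul, map_sub, map_one,
          Algebra.TensorProduct.map_tmul, Algebra.TensorProduct.tmul_pow, one_pow]
        rfl
      have hmul : ((1 : SeparableClosure k) ⊗ₜ[k] y) * εs = (ψ α i₀ y) • εs := by
        have h1 : (1 : SeparableClosure k) ⊗ₜ[k] y =
            ∑ j, algebraMap (SeparableClosure k) (SeparableClosure k)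
              (α ((1 : SeparableClosure k) ⊗ₜ[k] y) j) • ε α (SeparableClosure k) j := by
          rw [← θ_eq_sum α, θ_self]
        have h2 := comb_mul_smul_ε α (SeparableClosure k)
          (fun j => algebraMap (SeparableClosure k) (SeparableClosure k)
              (α ((1 : SeparableClosure k) ⊗ₜ[k] y) j)) 1 i₀
        rw [← h1, one_smul, mul_one] at h2
        rw [hεs, h2]
        rfl
      have hw : (1 + ((1 : SeparableClosure k) ⊗ₜ[k] y - 1) * εs) =
          1 + ((ψ α i₀ y) - 1) • εs := by
        rw [sub_mul, hmul, one_mul, sub_smul, one_smul]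
      have hval : (F.law.toFun' (SeparableClosure k) z) ^ p ^ (a + 1) =
          ((ψ α i₀ y) ^ expo α (F.precomp (incl k K)) i₀) ⊗ₜ[k] (1 : k) := by
        rw [← law_pow, hzpow, ← PolLaw.lTensor_algHom_apply]
        have h1 : F.law.toFun' (SeparableClosure k) ((incl k K).toLinearMap.lTensor
            (SeparableClosure k) (1 + ((1 : SeparableClosure k) ⊗ₜ[k] y - 1) * εs)) =
            (F.precomp (incl k K)).law.toFun' (SeparableClosure k)
              (1 + ((1 : SeparableClosure k) ⊗ₜ[k] y - 1) * εs) := rfl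
        rw [h1, hw, hεs, law_single, Pc_eq, map_pow, aeval_X]
      have e1 := eq_rid_tmul (F.law.toFun' (SeparableClosure k) z)
      rw [e1, Algebra.TensorProduct.tmul_pow, one_pow] at hval
      exact Groth.Agent.Lib.Helper14.SepPow.pow_dvd_of_pow_eq p hnot (a + 1) _ _
        (tmul_one_inj hval)

end main

end Groth.Agent.Lib.Helper14.FieldLawMain
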