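import Mathlib
import Groth.Agent.Lib.Helper18Fitt20

/-!
# Fitting ideal principal by a nonzerodivisor: matrix core (helper14)

Relation rows `z : Fin r → (Fin n → R)`, pivot columns `e : Fin r → Fin n`, the square matrix
`relMat z e`, Cramer coefficients `Lmap z e` and the defect `Gmap z e`.
-/

set_option autoImplicit false
set_option linter.unusedVariables false
set_option linter.unusedSectionVars false
set_option linter.style.haveILetI false

universe u v

namespace Groth.Agent.Lib.Helper14.FittSplit

open Matrix Groth.Agent.Helper18Fitt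

variable {R : Type u} [CommRing R] {M : Type v} [AddCommGroup M] [Module R M] {n r : ℕ}

/-- the square matrix of relation rows `z` at the columns `e` (transposed as in `minors`) -/
def relMat (z : Fin r → (Fin n → R)) (e : Fin r → Fin n) : Matrix (Fin r) (Fin r) R :=
  Matrix.of fun c b => z b (e c)

/-- Cramer coefficients of a vector with respect to `z`, `e` -/
noncomputable def Lmap (z : Fin r → (Fin n → R)) (e : Fin r → Fin n) :
    (Fin n → R) →ₗ[R] (Fin r → R) :=
  (Matrix.cramer (relMat z e)).comp (LinearMap.funLeft R R e)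

/-- combination of the rows -/
noncomputable def psi (z : Fin r → (Fin n → R)) : (Fin r → R) →ₗ[R] (Fin n → R) :=
  Fintype.linearCombination R z

theorem psi_apply (z : Fin r → (Fin n → R)) (c : Fin r → R) (j : Fin n) :
    psi z c j = ∑ b, c b * z b j := by
  simp [psi, Fintype.linearCombination_apply, Finset.sum_apply]

/-- the defect `det • a - ψ (L a)` -/
noncomputable def Gmap (z : Fin r → (Fin n → R)) (e : Fin r → Fin n) :
    (Fin n → R) →ₗ[R] (Fin n → R) :=
  (relMat z e).det • LinearMap.id - (psi z).comp (Lmap z e)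

theorem Gmap_apply (z : Fin r → (Fin n → R)) (e : Fin r → Fin n) (a : Fin n → R) (j : Fin n) :
    Gmap z e a j = (relMat z e).det * a j - ∑ b, Lmap z e a b * z b j := by
  simp [Gmap, psi_apply]

theorem Gmap_comp (z : Fin r → (Fin n → R)) (e : Fin r → Fin n) (a : Fin n → R) (c : Fin r) :
    Gmap z e a (e c) = 0 := by
  have h := congrFun (Matrix.mulVec_cramer (relMat z e) (a ∘ e)) c
  simp only [Matrix.mulVec, dotProduct, Pi.smul_apply, smul_eq_mul, Function.comp] at h
  rw [Gmap_apply, sub_eq_zero, ← h]
  refine Finset.sum_congr rfl fun b _ => ?_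
  simp only [relMat, Matrix.of_apply, Lmap, LinearMap.comp_apply]
  rw [mul_comm]
  rfl

theorem psi_rel (x : Fin n → M) (z : Fin r → (Fin n → R)) (hz : ∀ b, ∑ i, z b i • x i = 0)
    (c : Fin r → R) : ∑ i, psi z c i • x i = 0 := by
  simp only [psi_apply, Finset.sum_smul, mul_smul]
  rw [Finset.sum_comm]
  simp only [← Finset.smul_sum, hz, smul_zero, Finset.sum_const_zero]

theorem Gmap_rel (x : Fin n → M) (z : Fin r → (Fin n → R)) (e : Fin r → Fin n)
    (hz : ∀ b, ∑ i, z b i • x i = 0) (a : Fin n → R) (ha : ∑ i, a i • x i = 0) :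
    ∑ i, Gmap z e a i • x i = 0 := by
  have h1 : ∀ i, Gmap z e a i • x i
      = (relMat z e).det • (a i • x i) - psi z (Lmap z e a) i • x i := by
    intro i
    rw [Gmap_apply, sub_smul, mul_smul, psi_apply]
  simp only [h1, Finset.sum_sub_distrib, ← Finset.smul_sum, ha, smul_zero,
    psi_rel x z hz, sub_zero]

/-- a relation vanishing at the pivot columns is killed by the pivot minor
(when all `(r+1)`-minors vanish) -/
theorem det_mul_eq_zero (x : Fin n → M) (hmin : minors (R := R) x (r + 1) = ⊥)
    (z : Fin r → (Fin n → R)) (e : Fin r → Fin n) (hz : ∀ b, ∑ i, z b i • x i = 0)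
    (g : Fin n → R) (hg : ∑ i, g i • x i = 0) (hge : ∀ c, g (e c) = 0) (j : Fin n) :
    (relMat z e).det * g j = 0 := by
  set z' : Fin (r + 1) → (Fin n → R) := Fin.cons (α := fun _ => Fin n → R) g z with hz'
  set e' : Fin (r + 1) → Fin n := Fin.cons (α := fun _ => Fin n) j e with he'
  have hmem : (Matrix.of fun a b => z' b (e' a)).det ∈ minors (R := R) x (r + 1) := by
    apply Ideal.subset_span
    refine ⟨z', e', ?_, rfl⟩
    intro b
    refine Fin.cases ?_ (fun b => ?_) b
    · simpa [hz'] using hg
    · simpa [hz'] using hz b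
  rw [hmin, Ideal.mem_bot, Matrix.det_succ_column_zero, Finset.sum_eq_single 0] at hmem
  · have hsub : (Matrix.of fun a b => z' b (e' a)).submatrix (Fin.succAbove 0) Fin.succ
        = relMat z e := by
      ext c b
      simp [relMat, hz', he']
    rw [hsub] at hmem
    simp only [Fin.val_zero, pow_zero, one_mul, Matrix.of_apply] at hmem
    rw [mul_comm]
    simpa [hz', he'] using hmem
  · intro c _ hc
    obtain ⟨c', rfl⟩ := Fin.exists_succ_eq.mpr hc
    have : (Matrix.of fun a b => z' b (e' a)) c'.succ 0 = 0 := by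
      simp [hz', he', hge]
    rw [this, mul_zero, zero_mul]
  · intro h
    exact absurd (Finset.mem_univ _) h


theorem Lmap_mem_minors (x : Fin n → M) (z : Fin r → (Fin n → R)) (e : Fin r → Fin n)
    (hz : ∀ b, ∑ i, z b i • x i = 0) (a : Fin n → R) (ha : ∑ i, a i • x i = 0) (b : Fin r) :
    Lmap z e a b ∈ minors (R := R) x r := by
  classical
  have h1 : Lmap z e a b = (Matrix.of fun c b' => (Function.update z b a) b' (e c)).det := by
    simp only [Lmap, LinearMap.comp_apply, Matrix.cramer_apply]
    congr 1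
    ext c b'
    by_cases hb : b' = b
    · subst hb; simp [LinearMap.funLeft_apply]
    · simp [hb, relMat]
  rw [h1]
  apply Ideal.subset_span
  refine ⟨Function.update z b a, e, ?_, rfl⟩
  intro b'
  by_cases hb : b' = b
  · subst hb; simpa using ha
  · simpa [Function.update_of_ne hb] using hz b'

/-- division of a linear map into a finite free module by a nonzerodivisor -/
theorem exists_linear_div {N : Type*} [AddCommGroup N] [Module R N] {ι : Type*} (f : R)
    (hf0 : f ∈ nonZeroDivisors R) (L : N →ₗ[R] (ι → R)) (h : ∀ a i, ∃ c, L a i = f * c) :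
    ∃ φ : N →ₗ[R] (ι → R), ∀ a, f • φ a = L a := by
  choose c hc using h
  refine ⟨{ toFun := fun a i => c a i, map_add' := ?_, map_smul' := ?_ }, ?_⟩
  · intro a a'
    funext i
    apply (mul_cancel_left_mem_nonZeroDivisors hf0).mp
    rw [Pi.add_apply, mul_add, ← hc, ← hc, ← hc, map_add, Pi.add_apply]
  · intro s a
    funext i
    apply (mul_cancel_left_mem_nonZeroDivisors hf0).mp
    rw [RingHom.id_apply, Pi.smul_apply, smul_eq_mul, mul_left_comm, ← hc, ← hc, map_smul,
      Pi.smul_apply, smul_eq_mul]
  · intro a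
    funext i
    simp only [LinearMap.coe_mk, AddHom.coe_mk, Pi.smul_apply, smul_eq_mul]
    exact (hc a i).symm

section main

variable (x : Fin n → M) (f : R) (hf0 : f ∈ nonZeroDivisors R)
  (hmin : minors (R := R) x (r + 1) = ⊥) (hF : minors (R := R) x r = Ideal.span {f})
  (z : Fin r → (Fin n → R)) (e : Fin r → Fin n) (hz : ∀ b, ∑ i, z b i • x i = 0)
  (b' : R) (hdet : (relMat z e).det = f * b')

include hf0 hmin hz hdet in
/-- if `f ^ m • a` is a relation then `b' • G a = 0` -/
theorem smul_Gmap_eq_zero (a : Fin n → R) (m : ℕ) (ha : ∑ i, (f ^ m • a) i • x i = 0) :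
    b' • Gmap z e a = 0 := by
  funext j
  have h1 := det_mul_eq_zero x hmin z e hz (Gmap z e (f ^ m • a))
    (Gmap_rel x z e hz _ ha) (fun c => Gmap_comp z e _ c) j
  rw [map_smul, Pi.smul_apply, smul_eq_mul, hdet] at h1
  have h2 : f ^ (m + 1) * (b' * Gmap z e a j) = 0 := by
    rw [← h1]; ring
  have h3 : f ^ (m + 1) ∈ nonZeroDivisors R := Submonoid.pow_mem _ hf0 _
  rw [Pi.smul_apply, smul_eq_mul, Pi.zero_apply]
  exact (mul_cancel_left_mem_nonZeroDivisors h3).mp (by rw [h2, mul_zero])

include hf0 hmin hz hdet in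
theorem sq_smul_eq_psi (a : Fin n → R) (m : ℕ) (ha : ∑ i, (f ^ m • a) i • x i = 0) :
    b' ^ 2 • f • a = psi z (b' • Lmap z e a) := by
  have h := smul_Gmap_eq_zero x f hf0 hmin z e hz b' hdet a m ha
  simp only [Gmap, LinearMap.sub_apply, LinearMap.smul_apply, LinearMap.id_apply,
    LinearMap.comp_apply, smul_sub, sub_eq_zero, hdet] at h
  rw [map_smul, ← h, smul_smul, smul_smul]
  congr 1
  ring

include hf0 hmin hz hdet in
/-- `f`-power torsion: if `f ^ m • a` is a relation then `b'^2 • f • a` is a relation -/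
theorem sq_smul_rel (a : Fin n → R) (m : ℕ) (ha : ∑ i, (f ^ m • a) i • x i = 0) :
    ∑ i, (b' ^ 2 • f • a) i • x i = 0 := by
  rw [sq_smul_eq_psi x f hf0 hmin z e hz b' hdet a m ha]
  exact psi_rel x z hz _

include hf0 hmin hF hz hdet in
/-- the local "dual basis": a linear map `φ` from the relation module with `ψ ∘ φ = b'^2` -/
theorem exists_phi :
    ∃ φ : LinearMap.ker (Fintype.linearCombination R x) →ₗ[R] (Fin r → R),
      ∀ a, psi z (φ a) = b' ^ 2 • (a : Fin n → R) := by
  have hrel : ∀ a : LinearMap.ker (Fintype.linearCombination R x),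
      ∑ i, (a : Fin n → R) i • x i = 0 := by
    intro a
    have := a.2
    rw [LinearMap.mem_ker, Fintype.linearCombination_apply] at this
    exact this
  obtain ⟨φ₀, hφ₀⟩ := exists_linear_div f hf0
    ((Lmap z e).comp (LinearMap.ker (Fintype.linearCombination R x)).subtype) (by
      intro a i
      have := Lmap_mem_minors x z e hz a (hrel a) i
      rw [hF] at this
      obtain ⟨c, hc⟩ := Ideal.mem_span_singleton'.mp this
      exact ⟨c, by rw [LinearMap.comp_apply, Submodule.subtype_apply, ← hc, mul_comm]⟩)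
  refine ⟨b' • φ₀, fun a => ?_⟩
  have h1 := sq_smul_eq_psi x f hf0 hmin z e hz b' hdet (a : Fin n → R) 0
    (by simpa using hrel a)
  have h2 : Lmap z e (a : Fin n → R) = f • φ₀ a := by
    rw [hφ₀]; rfl
  rw [h2, smul_comm b' f, map_smul, smul_comm (b' ^ 2) f] at h1
  funext j
  have h3 := congrFun h1 j
  rw [Pi.smul_apply, Pi.smul_apply, smul_eq_mul, smul_eq_mul] at h3
  rw [LinearMap.smul_apply]
  exact ((mul_cancel_left_mem_nonZeroDivisors hf0).mp h3).symm

end main

end Groth.Agent.Lib.Helper14.FittSplit
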