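import Mathlib
import Groth.Agent.Lib.Helper14FittSplitA
import Groth.Agent.Lib.Helper21PdLoc

/-!
# Fitting ideal principal by a nonzerodivisor: globalization (helper14)

From the cofactors `b'` of the maximal nonvanishing minors (`det = f * b'`), which span the unit
ideal: `f` kills the `f`-power torsion, and the module of relations is projective.
-/

set_option autoImplicit false
set_option linter.unusedVariables false
set_option linter.unusedSectionVars false
set_option linter.style.haveILetI false

universe u v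

namespace Groth.Agent.Lib.Helper14.FittSplit

open Matrix Groth.Agent.Helper18Fitt CategoryTheory

variable {R : Type u} [CommRing R] {M : Type v} [AddCommGroup M] [Module R M] {n : ℕ}

/-- the cofactors of `f` in the `r`-minors of the relations of `x` -/
def cofSet (x : Fin n → M) (r : ℕ) (f : R) : Set R :=
  {b' | ∃ (z : Fin r → (Fin n → R)) (e : Fin r → Fin n),
    (∀ b, ∑ i, z b i • x i = 0) ∧ (relMat z e).det = f * b'}

theorem span_cofSet (x : Fin n → M) (r : ℕ) (f : R) (hf0 : f ∈ nonZeroDivisors R)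
    (hF : minors (R := R) x r = Ideal.span {f}) : Ideal.span (cofSet x r f) = ⊤ := by
  have hle : minors (R := R) x r ≤ Ideal.span {f} * Ideal.span (cofSet x r f) := by
    unfold minors
    rw [Ideal.span_le]
    rintro d ⟨z, e, hz, rfl⟩
    have hd : (Matrix.of fun a b => z b (e a)).det ∈ Ideal.span {f} := by
      rw [← hF]; exact Ideal.subset_span ⟨z, e, hz, rfl⟩
    obtain ⟨c, hc⟩ := Ideal.mem_span_singleton'.mp hd
    rw [SetLike.mem_coe, Ideal.mem_span_singleton_mul]
    refine ⟨c, Ideal.subset_span ⟨z, e, hz, ?_⟩, by rw [← hc, mul_comm]⟩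
    rw [mul_comm, hc]; rfl
  have hfm : f ∈ Ideal.span {f} * Ideal.span (cofSet x r f) :=
    hle (by rw [hF]; exact Ideal.mem_span_singleton_self f)
  obtain ⟨s, hs, hfs⟩ := Ideal.mem_span_singleton_mul.mp hfm
  have h1 : s = 1 := (mul_cancel_left_mem_nonZeroDivisors hf0).mp (by rw [hfs, mul_one])
  rw [Ideal.eq_top_iff_one, ← h1]; exact hs

theorem minors_eq_bot_of_lt (x : Fin n → M) (s : ℕ) (h : n < s) : minors (R := R) x s = ⊥ := by
  rw [eq_bot_iff]
  unfold minors
  rw [Ideal.span_le]
  rintro d ⟨z, e, hz, rfl⟩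
  rw [SetLike.mem_coe, Ideal.mem_bot]
  have he : ¬ Function.Injective e := by
    intro he
    have := Fintype.card_le_of_injective e he
    simp only [Fintype.card_fin] at this
    omega
  rw [Function.Injective] at he
  push Not at he
  obtain ⟨a, a', hea, hne⟩ := he
  apply Matrix.det_zero_of_row_eq hne
  funext b
  simp [hea]

section glob

variable (x : Fin n → M) (hx : Submodule.span R (Set.range x) = ⊤) (r : ℕ) (f : R)
  (hf0 : f ∈ nonZeroDivisors R)
  (hmin : minors (R := R) x (r + 1) = ⊥) (hF : minors (R := R) x r = Ideal.span {f})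

include hx hf0 hmin hF in
theorem smul_eq_zero_of_pow_smul (y : M) (m : ℕ) (hy : f ^ m • y = 0) : f • y = 0 := by
  obtain ⟨a, ha⟩ := (Submodule.mem_span_range_iff_exists_fun R).mp
    (show y ∈ Submodule.span R (Set.range x) by rw [hx]; trivial)
  let J : Ideal R := LinearMap.ker (LinearMap.toSpanSingleton R M (f • y))
  have hJ : Ideal.span ((fun b => b ^ 2) '' cofSet x r f) ≤ J := by
    rw [Ideal.span_le]
    rintro _ ⟨b', ⟨z, e, hz, hdet⟩, rfl⟩
    have harel : ∑ i, (f ^ m • a) i • x i = 0 := by
      simp only [Pi.smul_apply, smul_eq_mul, mul_smul, ← Finset.smul_sum, ha, hy]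
    have := sq_smul_rel x f hf0 hmin z e hz b' hdet a m harel
    simp only [Pi.smul_apply, smul_eq_mul, mul_smul, ← Finset.smul_sum, ha] at this
    show b' ^ 2 ∈ J
    rw [LinearMap.mem_ker, LinearMap.toSpanSingleton_apply]
    exact this
  rw [Ideal.span_pow_eq_top _ (span_cofSet x r f hf0 hF) 2, top_le_iff] at hJ
  have h1 : (1 : R) ∈ J := by rw [hJ]; trivial
  rw [LinearMap.mem_ker, LinearMap.toSpanSingleton_apply, one_smul] at h1
  exact h1

include hf0 hmin hF in
theorem projective_ker :
    Module.Projective R (LinearMap.ker (Fintype.linearCombination R x)) := by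
  classical
  set K := LinearMap.ker (Fintype.linearCombination R x) with hK
  have htop := Ideal.span_pow_eq_top _ (span_cofSet x r f hf0 hF) 2
  obtain ⟨t, ht, htspan⟩ := (Ideal.span_eq_top_iff_finite _).mp htop
  have h1 : (1 : R) ∈ Ideal.span (t : Set R) := by rw [htspan]; trivial
  obtain ⟨c, hc⟩ := Submodule.mem_span_finset'.mp h1
  -- local data
  have hdata : ∀ s : t, ∃ (z : Fin r → (Fin n → R)) (φ : K →ₗ[R] (Fin r → R)),
      (∀ b, ∑ i, z b i • x i = 0) ∧ ∀ a, psi z (φ a) = (s : R) • (a : Fin n → R) := by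
    intro s
    obtain ⟨b', ⟨z, e, hz, hdet⟩, hb'⟩ := ht s.2
    obtain ⟨φ, hφ⟩ := exists_phi x f hf0 hmin hF z e hz b' hdet
    refine ⟨z, φ, hz, fun a => ?_⟩
    rw [hφ a, ← hb']
  choose z φ hz hφ using hdata
  have hmemK : ∀ (s : t) (w : Fin r → R), psi (z s) w ∈ K := by
    intro s w
    rw [hK, LinearMap.mem_ker, Fintype.linearCombination_apply]
    exact psi_rel x (z s) (hz s) w
  let ψK : ∀ s : t, (Fin r → R) →ₗ[R] K := fun s => (psi (z s)).codRestrict K (hmemK s)
  let i : K →ₗ[R] (t → (Fin r → R)) := LinearMap.pi fun s => c s • φ s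
  let σ : (t → (Fin r → R)) →ₗ[R] K := ∑ s : t, (ψK s).comp (LinearMap.proj s)
  refine Module.Projective.of_split i σ ?_
  ext a : 1
  apply Subtype.ext
  simp only [σ, i, LinearMap.comp_apply, LinearMap.sum_apply, LinearMap.proj_apply,
    LinearMap.pi_apply, LinearMap.smul_apply, LinearMap.id_apply, map_smul]
  rw [AddSubmonoidClass.coe_finsetSum]
  have : ∀ s : t, ((c s • ψK s (φ s a) : K) : Fin n → R) = (c s * (s : R)) • (a : Fin n → R) := by
    intro s
    rw [Submodule.coe_smul, mul_smul]
    congr 1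
    exact hφ s a
  simp only [this, ← Finset.sum_smul]
  have hsum : ∑ s : t, c s * (s : R) = 1 := by
    rw [← hc]
    simp only [smul_eq_mul]
  rw [hsum, one_smul]

end glob

end Groth.Agent.Lib.Helper14.FittSplit
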