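import Mathlib
import Groth.Agent.Lib.Helper14FittSplitB
import Groth.Agent.Lib.Helper18Fitt20

/-!
# Fitting ideal principal by a nonzerodivisor: the splitting theorem (helper14)

`Fit_k(M) = (f)` with `f` a nonzerodivisor and `Fit_{k-1}(M) = 0`: then `pd M ≤ 1`,
`M' = Ker(f)` is the `f`-power torsion, `M/M'` is locally free of rank `k`, `M ≅ M/M' ⊕ M'`.
-/

set_option autoImplicit false
set_option linter.unusedVariables false
set_option linter.unusedSectionVars false
set_option linter.style.haveILetI false

universe u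

namespace Groth.Agent.Lib.Helper14.FittSplit

open Matrix Groth.Agent.Helper18Fitt CategoryTheory

variable {R : Type u} [CommRing R]

theorem exists_gens_add (M : Type u) [AddCommGroup M] [Module R M] [Module.Finite R M] (k : ℕ) :
    ∃ (n0 : ℕ) (x : Fin (n0 + k) → M), Submodule.span R (Set.range x) = ⊤ := by
  obtain ⟨n0, x0, hx0⟩ := Module.Finite.exists_fin (R := R) (M := M)
  refine ⟨n0, Fin.append x0 (fun _ => 0), ?_⟩
  rw [eq_top_iff, ← hx0]
  apply Submodule.span_mono
  rintro _ ⟨i, rfl⟩
  exact ⟨Fin.castAdd k i, by simp⟩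

theorem core (M : Type u) [AddCommGroup M] [Module R M] [Module.FinitePresentation R M]
    (k : ℕ) (f : R) (hf0 : f ∈ nonZeroDivisors R)
    (hf : Fitt.ideal R M k = Ideal.span {f}) (hk : k = 0 ∨ Fitt.ideal R M (k - 1) = ⊥) :
    (∀ (y : M) (m : ℕ), f ^ m • y = 0 → f • y = 0) ∧
      HasProjectiveDimensionLT (ModuleCat.of R M) 2 := by
  obtain ⟨n0, x, hx⟩ := exists_gens_add (R := R) M k
  have hF : minors (R := R) x n0 = Ideal.span {f} := by
    rw [← hf, fitt_eq_minors x hx k, Nat.add_sub_cancel]
  have hmin : minors (R := R) x (n0 + 1) = ⊥ := by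
    rcases Nat.eq_zero_or_pos k with rfl | hpos
    · exact minors_eq_bot_of_lt x _ (by omega)
    · rcases hk with rfl | hk
      · omega
      · rw [← hk, fitt_eq_minors x hx (k - 1)]
        congr 1
        omega
  refine ⟨fun y m hy => smul_eq_zero_of_pow_smul x hx n0 f hf0 hmin hF y m hy, ?_⟩
  have hK := projective_ker x n0 f hf0 hmin hF
  have hsurj : Function.Surjective (Fintype.linearCombination R x) := by
    rw [← LinearMap.range_eq_top, Fintype.range_linearCombination, hx]
  exact (Groth.Agent.Lib.Helper21.PdLoc.pdLT_succ_iff_of_ses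
    (LinearMap.ker (Fintype.linearCombination R x)).subtype (Fintype.linearCombination R x)
    Subtype.val_injective hsurj (LinearMap.exact_subtype_ker_map _) 0).mpr
    ((Groth.Agent.Lib.Helper21.PdLoc.pdLT_one_iff _).mpr hK)

theorem projective_of_locFree (Q : Type u) [AddCommGroup Q] [Module R Q] [Module.Finite R Q]
    (k : ℕ) (h : LocFree (R := R) Q k) : Module.Projective R Q := by
  let s : Set R := {g | Module.FinitePresentation (Localization.Away g) (LocalizedModule.Away g Q) ∧
      Module.Flat R (LocalizedModule.Away g Q)}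
  have hs : Ideal.span s = ⊤ := by
    by_contra hne
    obtain ⟨m, hm, hle⟩ := Ideal.exists_le_maximal _ hne
    haveI := hm.isPrime
    obtain ⟨g, hgm, hfree, hrank⟩ := h m
    refine hgm (hle (Ideal.subset_span ⟨?_, ?_⟩))
    · haveI : Module.Finite (Localization.Away g) (LocalizedModule.Away g Q) := inferInstance
      exact Module.finitePresentation_of_projective _ _
    · haveI : Module.Flat (Localization.Away g) (LocalizedModule.Away g Q) := inferInstance
      exact Module.Flat.trans R (Localization.Away g) _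
  have : Module.FinitePresentation R Q :=
    Module.FinitePresentation.of_localizationSpan s hs fun g => g.2.1
  have : Module.Flat R Q := Module.flat_of_localized_span R Q s hs fun g => g.2.2
  exact Module.Flat.projective_of_finitePresentation

theorem main_S6897 (M : Type u)
    [AddCommGroup M] [Module R M] [Module.FinitePresentation R M] (k : ℕ) (f : R)
    (hf0 : f ∈ nonZeroDivisors R)
    (hf : Fitt.ideal R M k = Ideal.span {f}) (hk : k = 0 ∨ Fitt.ideal R M (k - 1) = ⊥) :
    HasProjectiveDimensionLT (ModuleCat.of R M) 2 ∧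
    (∀ x : M, (∃ n : ℕ, f ^ n • x = 0) ↔ f • x = 0) ∧
    HasProjectiveDimensionLT (ModuleCat.of R ↥(LinearMap.ker (f • (LinearMap.id : M →ₗ[R] M)))) 2 ∧
    (∀ (p : Ideal R) [p.IsPrime], ∃ g : R, g ∉ p ∧
      Module.Free (Localization.Away g)
          (LocalizedModule (Submonoid.powers g) (M ⧸ LinearMap.ker (f • (LinearMap.id : M →ₗ[R] M)))) ∧
        Module.finrank (Localization.Away g)
          (LocalizedModule (Submonoid.powers g) (M ⧸ LinearMap.ker (f • (LinearMap.id : M →ₗ[R] M)))) = k) ∧
    Nonempty (M ≃ₗ[R] (M ⧸ LinearMap.ker (f • (LinearMap.id : M →ₗ[R] M))) ×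
      ↥(LinearMap.ker (f • (LinearMap.id : M →ₗ[R] M)))) := by
  obtain ⟨htors, hpd⟩ := core M k f hf0 hf hk
  have hT : FlatCA.powTorsion R f M = LinearMap.ker (f • (LinearMap.id : M →ₗ[R] M)) := by
    ext y
    rw [mem_powTorsion_iff, LinearMap.mem_ker, LinearMap.smul_apply, LinearMap.id_apply]
    exact ⟨fun ⟨m, hm⟩ => htors y m hm, fun h => ⟨1, by rwa [pow_one]⟩⟩
  have h0 : LocFree (R := R) (M ⧸ FlatCA.powTorsion R f M) k := by
    apply locFree_of_fitt
    · intro j hj
      have hk' : Fitt.ideal R M (k - 1) = ⊥ := by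
        rcases hk with rfl | hk
        · omega
        · exact hk
      apply fitt_quot_torsion_eq_bot M j f hf0
      rw [eq_bot_iff, ← hk']
      exact fitt_mono (by omega)
    · intro j hj
      rw [eq_top_iff, ← fitt_quot_torsion_eq_top M k f hf]
      exact fitt_mono hj
  have hloc : LocFree (R := R) (M ⧸ LinearMap.ker (f • (LinearMap.id : M →ₗ[R] M))) k := by
    rw [hT] at h0
    exact h0
  set Kf := LinearMap.ker (f • (LinearMap.id : M →ₗ[R] M)) with hKf
  have hQproj : Module.Projective R (M ⧸ Kf) := projective_of_locFree (M ⧸ Kf) k hloc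
  obtain ⟨σ, hσ⟩ := Module.projective_lifting_property Kf.mkQ LinearMap.id Kf.mkQ_surjective
  have hex : Function.Exact Kf.subtype Kf.mkQ := LinearMap.exact_subtype_mkQ Kf
  obtain ⟨e, he1, he2⟩ := hex.splitSurjectiveEquiv Subtype.val_injective ⟨σ, hσ⟩
  refine ⟨hpd, fun y => ⟨fun ⟨m, hm⟩ => htors y m hm, fun h => ⟨1, by rwa [pow_one]⟩⟩, ?_,
    fun p _ => hloc p, ⟨e.trans (LinearEquiv.prodComm R _ _)⟩⟩
  have retr : Retract (ModuleCat.of R Kf) (ModuleCat.of R M) :=
    { i := ModuleCat.ofHom Kf.subtype
      r := ModuleCat.ofHom ((LinearMap.fst R Kf (M ⧸ Kf)).comp e.toLinearMap)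
      retract := by
        ext y
        simp only [ModuleCat.hom_comp, ModuleCat.hom_ofHom, ModuleCat.hom_id,
          LinearMap.comp_apply, LinearMap.id_apply]
        rw [he1]
        simp }
  exact retr.hasProjectiveDimensionLT 2

end Groth.Agent.Lib.Helper14.FittSplit
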