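/-
helper14: flatness over a base `A'` of a base change `C₁ ⊗[B₁] M₁` along a flat / faithfully flat
map `B₁ → C₁` of `A'`-algebras, and the localized version at primes `Q` over `q`.
-/
import Mathlib

set_option autoImplicit false
set_option linter.style.haveILetI false
set_option linter.unusedSectionVars false

open TensorProduct

namespace Groth.Agent.Lib.Helper14.FlatAbove

section Core
variable {A' B₁ C₁ : Type*} [CommRing A'] [CommRing B₁] [CommRing C₁] [Algebra A' B₁] [Algebra B₁ C₁]
  [Algebra A' C₁] [IsScalarTower A' B₁ C₁]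
variable {M₁ : Type*} [AddCommGroup M₁] [Module A' M₁] [Module B₁ M₁] [IsScalarTower A' B₁ M₁]

theorem lTensor_tensor_eq {X Y : Type*} [AddCommGroup X] [AddCommGroup Y] [Module A' X] [Module A' Y]
    (j : X →ₗ[A'] Y) :
    (LinearMap.lTensor (C₁ ⊗[B₁] M₁) j : (C₁ ⊗[B₁] M₁) ⊗[A'] X → (C₁ ⊗[B₁] M₁) ⊗[A'] Y) =
      (AlgebraTensorModule.assoc A' B₁ C₁ C₁ M₁ Y).symm ∘
        (LinearMap.lTensor C₁ (AlgebraTensorModule.lTensor B₁ M₁ j)) ∘
        (AlgebraTensorModule.assoc A' B₁ C₁ C₁ M₁ X) := by
  funext z
  induction z using TensorProduct.induction_on with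
  | zero => simp
  | add x y hx hy => simp only [map_add, hx, hy, Function.comp_apply]
  | tmul w x =>
    induction w using TensorProduct.induction_on with
    | zero => simp
    | add a b ha hb =>
      simp only [Function.comp_apply] at ha hb ⊢
      rw [add_tmul, map_add, ha, hb, map_add, map_add, map_add]
    | tmul c m => simp

/-- `C₁` flat over `B₁`, `M₁` a `B₁`-module flat over `A'`: then `C₁ ⊗[B₁] M₁` is flat over `A'`. -/
theorem flat_tensor_of_flat [Module.Flat B₁ C₁] [Module.Flat A' M₁] :
    Module.Flat A' (C₁ ⊗[B₁] M₁) := by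
  rw [Module.Flat.iff_lTensor_preserves_injective_linearMap]
  intro X Y _ _ _ _ j hj
  rw [lTensor_tensor_eq]
  refine (LinearEquiv.injective _).comp (Function.Injective.comp ?_ (LinearEquiv.injective _))
  apply Module.Flat.lTensor_preserves_injective_linearMap
  rw [AlgebraTensorModule.coe_lTensor]
  exact Module.Flat.lTensor_preserves_injective_linearMap j hj

/-- `C₁` faithfully flat over `B₁`, `C₁ ⊗[B₁] M₁` flat over `A'`: then `M₁` is flat over `A'`. -/
theorem flat_of_flat_tensor [Module.FaithfullyFlat B₁ C₁] [Module.Flat A' (C₁ ⊗[B₁] M₁)] :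
    Module.Flat A' M₁ := by
  rw [Module.Flat.iff_lTensor_preserves_injective_linearMap]
  intro X Y _ _ _ _ j hj
  have h := Module.Flat.lTensor_preserves_injective_linearMap (M := C₁ ⊗[B₁] M₁) j hj
  rw [lTensor_tensor_eq] at h
  have h2 : Function.Injective (LinearMap.lTensor C₁ (AlgebraTensorModule.lTensor B₁ M₁ j)) := by
    intro a b hab
    have := @h ((AlgebraTensorModule.assoc A' B₁ C₁ C₁ M₁ X).symm a)
      ((AlgebraTensorModule.assoc A' B₁ C₁ C₁ M₁ X).symm b) (by simp [hab])
    simpa using this
  rw [Module.FaithfullyFlat.lTensor_injective_iff_injective] at h2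
  rw [← AlgebraTensorModule.coe_lTensor (A := B₁)]
  exact h2

variable {N₁ : Type*} [AddCommGroup N₁] [Module A' N₁] [Module B₁ N₁] [Module C₁ N₁]
  [IsScalarTower B₁ C₁ N₁] [IsScalarTower A' C₁ N₁]

theorem flat_of_isBaseChange_of_flat {g : M₁ →ₗ[B₁] N₁} (hg : IsBaseChange C₁ g)
    [Module.Flat B₁ C₁] [Module.Flat A' M₁] : Module.Flat A' N₁ :=
  haveI := flat_tensor_of_flat (A' := A') (B₁ := B₁) (C₁ := C₁) (M₁ := M₁)
  Module.Flat.of_linearEquiv (hg.equiv.symm.restrictScalars A')

theorem flat_of_isBaseChange_of_faithfullyFlat {g : M₁ →ₗ[B₁] N₁} (hg : IsBaseChange C₁ g)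
    [Module.FaithfullyFlat B₁ C₁] [Module.Flat A' N₁] : Module.Flat A' M₁ :=
  haveI : Module.Flat A' (C₁ ⊗[B₁] M₁) :=
    Module.Flat.of_linearEquiv (hg.equiv.restrictScalars A')
  flat_of_flat_tensor (A' := A') (B₁ := B₁) (C₁ := C₁) (M₁ := M₁)

end Core

section LocBC
variable {A' B' C' : Type*} [CommRing A'] [CommRing B'] [CommRing C'] [Algebra A' B'] [Algebra B' C']
  [Algebra A' C'] [IsScalarTower A' B' C']
variable {M' N' : Type*} [AddCommGroup M'] [AddCommGroup N'] [Module A' M'] [Module B' M']
  [IsScalarTower A' B' M']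
  [Module A' N'] [Module B' N'] [Module C' N'] [IsScalarTower B' C' N'] [IsScalarTower A' C' N']
variable {h : M' →ₗ[B'] N'} (hh : IsBaseChange C' h)
variable (q : Ideal B') [q.IsPrime] (Q : Ideal C') [Q.IsPrime] [Q.LiesOver q]

include hh in
/-- localized base change: `M'_q → N'_Q` is a base change along `B'_q → C'_Q`. -/
theorem exists_localized_isBaseChange :
    letI := Localization.AtPrime.algebraOfLiesOver q Q
    letI : Module (Localization.AtPrime q) (LocalizedModule Q.primeCompl N') :=
      Module.compHom _ (algebraMap (Localization.AtPrime q) (Localization.AtPrime Q))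
    ∃ (_ : IsScalarTower (Localization.AtPrime q) (Localization.AtPrime Q)
        (LocalizedModule Q.primeCompl N'))
      (g : LocalizedModule q.primeCompl M' →ₗ[Localization.AtPrime q]
        LocalizedModule Q.primeCompl N'),
      IsBaseChange (Localization.AtPrime Q) g := by
  letI := Localization.AtPrime.algebraOfLiesOver q Q
  letI : Module (Localization.AtPrime q) (LocalizedModule Q.primeCompl N') :=
      Module.compHom _ (algebraMap (Localization.AtPrime q) (Localization.AtPrime Q))
  have hsm : ∀ (b : Localization.AtPrime q) (n : LocalizedModule Q.primeCompl N'),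
      b • n = algebraMap (Localization.AtPrime q) (Localization.AtPrime Q) b • n := fun _ _ => rfl
  haveI t1 : IsScalarTower (Localization.AtPrime q) (Localization.AtPrime Q)
      (LocalizedModule Q.primeCompl N') :=
    ⟨fun b c n => by rw [hsm, Algebra.smul_def, mul_smul]⟩
  haveI t2 : IsScalarTower B' (Localization.AtPrime q) (LocalizedModule Q.primeCompl N') :=
    ⟨fun b x n => by
      rw [hsm, hsm, Algebra.smul_def, map_mul, mul_smul,
        ← IsScalarTower.algebraMap_apply B' (Localization.AtPrime q) (Localization.AtPrime Q),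
        algebraMap_smul]⟩
  have hM : IsBaseChange (Localization.AtPrime q) (LocalizedModule.mkLinearMap q.primeCompl M') :=
    IsLocalizedModule.isBaseChange q.primeCompl _ _
  have hN : IsBaseChange (Localization.AtPrime Q) (LocalizedModule.mkLinearMap Q.primeCompl N') :=
    IsLocalizedModule.isBaseChange Q.primeCompl _ _
  have hc := hh.comp hN
  let g := hM.lift (((LocalizedModule.mkLinearMap Q.primeCompl N').restrictScalars B').comp h)
  refine ⟨t1, g, ?_⟩
  refine IsBaseChange.of_comp hM ?_
  have : (g.restrictScalars B').comp (LocalizedModule.mkLinearMap q.primeCompl M') =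
      ((LocalizedModule.mkLinearMap Q.primeCompl N').restrictScalars B').comp h :=
    hM.lift_comp _
  rw [this]
  exact hc

include hh in
/-- ascent of flatness over `A'` from `M'_q` to `N'_Q`, when `C'` is flat over `B'`. -/
theorem flat_localized_of_flat [Module.Flat B' C']
    (hq : Module.Flat A' (LocalizedModule q.primeCompl M')) :
    Module.Flat A' (LocalizedModule Q.primeCompl N') := by
  letI := Localization.AtPrime.algebraOfLiesOver q Q
  letI : Module (Localization.AtPrime q) (LocalizedModule Q.primeCompl N') :=
      Module.compHom _ (algebraMap (Localization.AtPrime q) (Localization.AtPrime Q))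
  obtain ⟨t1, g, hg⟩ := exists_localized_isBaseChange hh q Q
  haveI : IsScalarTower A' (Localization.AtPrime q) (LocalizedModule Q.primeCompl N') :=
    ⟨fun a x n => by
      change algebraMap (Localization.AtPrime q) (Localization.AtPrime Q) (a • x) • n =
        a • (algebraMap (Localization.AtPrime q) (Localization.AtPrime Q) x • n)
      rw [Algebra.smul_def, map_mul,
        ← IsScalarTower.algebraMap_apply A' (Localization.AtPrime q) (Localization.AtPrime Q),
        mul_smul, algebraMap_smul]⟩
  exact flat_of_isBaseChange_of_flat (A' := A') hg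

include hh in
/-- descent of flatness over `A'` from `N'_Q` to `M'_q`, when `C'` is flat over `B'`. -/
theorem flat_localized_of_flat_localized [Module.Flat B' C']
    (hQ : Module.Flat A' (LocalizedModule Q.primeCompl N')) :
    Module.Flat A' (LocalizedModule q.primeCompl M') := by
  letI := Localization.AtPrime.algebraOfLiesOver q Q
  letI : Module (Localization.AtPrime q) (LocalizedModule Q.primeCompl N') :=
      Module.compHom _ (algebraMap (Localization.AtPrime q) (Localization.AtPrime Q))
  obtain ⟨t1, g, hg⟩ := exists_localized_isBaseChange hh q Q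
  haveI : IsLocalHom (algebraMap (Localization.AtPrime q) (Localization.AtPrime Q)) :=
    Localization.isLocalHom_localRingHom q Q (algebraMap B' C') Ideal.LiesOver.over
  haveI : Module.FaithfullyFlat (Localization.AtPrime q) (Localization.AtPrime Q) :=
    Module.FaithfullyFlat.of_flat_of_isLocalHom
  exact flat_of_isBaseChange_of_faithfullyFlat (A' := A') hg

end LocBC

end Groth.Agent.Lib.Helper14.FlatAbove
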