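/-
helper14: pasting of ring pushouts (`C' = C ⊗[B] B'` from `B' = B ⊗[A] A'`, `C' = C ⊗[A] A'`) and
existence of primes of `C ⊗[B] B'` over a prime of `B'` above the closed point and containing `𝔪_C`.
-/
import Mathlib

set_option autoImplicit false
set_option linter.style.haveILetI false
set_option linter.unusedSectionVars false

open TensorProduct IsLocalRing

namespace Groth.Agent.Lib.Helper14.FlatAbove
universe u


theorem exists_prime_over_of_isPushout {B C B' C' : Type u} [CommRing B] [IsLocalRing B]
    [CommRing C] [IsLocalRing C] [Algebra B C] [IsLocalHom (algebraMap B C)] [CommRing B']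
    [CommRing C'] [Algebra B B'] [Algebra C C'] [Algebra B' C'] [Algebra B C']
    [IsScalarTower B B' C'] [IsScalarTower B C C'] [Algebra.IsPushout B C B' C']
    (q : Ideal B') [q.IsPrime] (hq : (maximalIdeal B).map (algebraMap B B') ≤ q) :
    ∃ Q : Ideal C', Q.IsPrime ∧ Q.comap (algebraMap B' C') = q ∧
      (maximalIdeal C).map (algebraMap C C') ≤ Q := by
  have hker : ∀ a ∈ maximalIdeal B,
      ((algebraMap B' q.ResidueField).comp (algebraMap B B')) a = 0 := fun a ha => by
    rw [RingHom.comp_apply, Ideal.algebraMap_residueField_eq_zero]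
    exact hq (Ideal.mem_map_of_mem _ ha)
  letI algkL : Algebra (ResidueField B) q.ResidueField :=
    (Ideal.Quotient.lift (maximalIdeal B)
      ((algebraMap B' q.ResidueField).comp (algebraMap B B')) hker).toAlgebra
  have hkL : ∀ b : B, algebraMap (ResidueField B) q.ResidueField (residue B b) =
      algebraMap B' q.ResidueField (algebraMap B B' b) := fun b => rfl
  let T := ResidueField C ⊗[ResidueField B] q.ResidueField
  letI algBT : Algebra B T := ((algebraMap (ResidueField B) T).comp (residue B)).toAlgebra
  have hBT : ∀ b : B, algebraMap B T b = algebraMap (ResidueField B) T (residue B b) := fun b => rfl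
  let f : C →ₐ[B] T :=
    { toRingHom := (Algebra.TensorProduct.includeLeftRingHom).comp (residue C)
      commutes' := fun b => by
        rw [hBT, Algebra.TensorProduct.algebraMap_apply]
        simp [ResidueField.algebraMap_residue] }
  let g : B' →ₐ[B] T :=
    { toRingHom := (Algebra.TensorProduct.includeRight (R := ResidueField B)
        (A := ResidueField C) (B := q.ResidueField)).toRingHom.comp (algebraMap B' q.ResidueField)
      commutes' := fun b => by
        rw [hBT]
        simp only [AlgHom.toRingHom_eq_coe, RingHom.toMonoidHom_eq_coe, OneHom.toFun_eq_coe,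
          MonoidHom.toOneHom_coe, MonoidHom.coe_coe, RingHom.coe_comp, RingHom.coe_coe,
          Function.comp_apply, Algebra.TensorProduct.includeRight_apply]
        rw [← hkL, Algebra.TensorProduct.algebraMap_apply, Algebra.TensorProduct.tmul_one_eq_one_tmul] }
  let ψ : C' →ₐ[B] T := Algebra.pushoutDesc C' f g (fun _ _ => mul_comm _ _)
  haveI : Nontrivial T := by
    have hinj : Function.Injective (Algebra.TensorProduct.includeRight (R := ResidueField B)
        (A := ResidueField C) (B := q.ResidueField)) :=
      Algebra.TensorProduct.includeRight_injective (algebraMap (ResidueField B) (ResidueField C)).injective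
    exact hinj.nontrivial
  obtain ⟨P, hP⟩ := Ideal.exists_maximal T
  refine ⟨P.comap ψ.toRingHom, inferInstance, ?_, ?_⟩
  · ext x
    have h1 : ψ (algebraMap B' C' x) = g x := Algebra.pushoutDesc_right C' f g _ x
    have h2 : P.comap (Algebra.TensorProduct.includeRight (R := ResidueField B)
        (A := ResidueField C) (B := q.ResidueField)).toRingHom = ⊥ :=
      (Ideal.eq_bot_or_top _).resolve_right (Ideal.comap_ne_top _ hP.ne_top)
    rw [Ideal.mem_comap, Ideal.mem_comap]
    change ψ (algebraMap B' C' x) ∈ P ↔ _
    rw [h1]
    change (algebraMap B' q.ResidueField x) ∈ P.comap (Algebra.TensorProduct.includeRight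
      (R := ResidueField B) (A := ResidueField C) (B := q.ResidueField)).toRingHom ↔ _
    rw [h2, Ideal.mem_bot, Ideal.algebraMap_residueField_eq_zero]
  · rw [Ideal.map_le_iff_le_comap]
    intro c hc
    rw [Ideal.mem_comap, Ideal.mem_comap]
    change ψ (algebraMap C C' c) ∈ P
    have h1 : ψ (algebraMap C C' c) = f c := Algebra.pushoutDesc_left C' f g _ c
    rw [h1]
    have : f c = 0 := by
      change (residue C c) ⊗ₜ[ResidueField B] (1 : q.ResidueField) = 0
      rw [(residue_eq_zero_iff c).mpr hc, zero_tmul]
    rw [this]
    exact P.zero_mem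



/-- pasting of pushouts: the induced `B' → C'` and `C' = C ⊗[B] B'`. -/
theorem exists_algebra_isPushout (A B C A' B' C' : Type u) [CommRing A] [CommRing B] [CommRing C]
    [Algebra A B] [Algebra B C] [Algebra A C] [IsScalarTower A B C]
    [CommRing A'] [Algebra A A']
    [CommRing B'] [Algebra B B'] [Algebra A' B'] [Algebra A B'] [IsScalarTower A B B']
    [IsScalarTower A A' B'] [Algebra.IsPushout A B A' B']
    [CommRing C'] [Algebra C C'] [Algebra A' C'] [Algebra A C'] [IsScalarTower A C C']
    [IsScalarTower A A' C'] [Algebra.IsPushout A C A' C'] :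
    letI : Algebra B C' := ((algebraMap C C').comp (algebraMap B C)).toAlgebra
    ∃ (_ : Algebra B' C') (_ : IsScalarTower B C C') (_ : IsScalarTower B B' C'),
      IsScalarTower A' B' C' ∧ Algebra.IsPushout B C B' C' := by
  letI : Algebra B C' := ((algebraMap C C').comp (algebraMap B C)).toAlgebra
  haveI t1 : IsScalarTower B C C' := IsScalarTower.of_algebraMap_eq (fun _ => rfl)
  haveI t2 : IsScalarTower A B C' := IsScalarTower.of_algebraMap_eq (fun a => by
    rw [IsScalarTower.algebraMap_apply A C C', IsScalarTower.algebraMap_apply A B C]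
    rfl)
  let φ : B' →ₐ[A] C' := Algebra.pushoutDesc B' (IsScalarTower.toAlgHom A B C')
    (IsScalarTower.toAlgHom A A' C') (fun _ _ => mul_comm _ _)
  letI : Algebra B' C' := φ.toRingHom.toAlgebra
  have hφ : ∀ x, algebraMap B' C' x = φ x := fun _ => rfl
  haveI t3 : IsScalarTower B B' C' := IsScalarTower.of_algebraMap_eq (fun x => by
    rw [hφ]
    exact (Algebra.pushoutDesc_left B' (IsScalarTower.toAlgHom A B C')
      (IsScalarTower.toAlgHom A A' C') _ x).symm)
  haveI t4 : IsScalarTower A' B' C' := IsScalarTower.of_algebraMap_eq (fun x => by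
    rw [hφ]
    exact (Algebra.pushoutDesc_right B' (IsScalarTower.toAlgHom A B C')
      (IsScalarTower.toAlgHom A A' C') _ x).symm)
  haveI t5 : IsScalarTower A B' C' := IsScalarTower.of_algebraMap_eq (fun x => by
    rw [hφ]; exact (φ.commutes x).symm)
  refine ⟨inferInstance, t1, t3, t4, ?_⟩
  exact (Algebra.IsPushout.comp_iff A B A' (S' := B') (T := C) (T' := C')).mp inferInstance


end Groth.Agent.Lib.Helper14.FlatAbove
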