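/-
helper14: `A'`-flatness of localizations of a `D`-module: monotone in the submonoid, checked at the
primes maximal among those disjoint from the submonoid; integral version for `B' → C'`.
-/
import Mathlib
import Groth.Agent.Lib.Helper14FlatAboveA

set_option autoImplicit false
set_option linter.style.haveILetI false
set_option linter.unusedSectionVars false

open TensorProduct IsLocalRing

namespace Groth.Agent.Lib.Helper14.FlatAbove

section G
variable {A' D : Type*} [CommRing A'] [CommRing D] [Algebra A' D]
variable {P : Type*} [AddCommGroup P] [Module A' P] [Module D P] [IsScalarTower A' D P]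

/-- localization of an `A'`-flat `D`-module is `A'`-flat -/
theorem flat_of_isLocalizedModule (T : Submonoid D) {P₂ : Type*} [AddCommGroup P₂] [Module A' P₂]
    [Module D P₂] [IsScalarTower A' D P₂] (f : P →ₗ[D] P₂) [IsLocalizedModule T f]
    [Module.Flat A' P] : Module.Flat A' P₂ := by
  have e : LocalizedModule T P ≃ₗ[D] P₂ := IsLocalizedModule.iso T f
  have hbc : IsBaseChange (Localization T) (LocalizedModule.mkLinearMap T P) :=
    IsLocalizedModule.isBaseChange T _ _
  haveI : Module.Flat A' (LocalizedModule T P) :=
    flat_of_isBaseChange_of_flat (A' := A') hbc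
  exact Module.Flat.of_linearEquiv (e.symm.restrictScalars A')

theorem flat_localizedModule_of_le {S T : Submonoid D} (h : S ≤ T)
    (hS : Module.Flat A' (LocalizedModule S P)) : Module.Flat A' (LocalizedModule T P) :=
  flat_of_isLocalizedModule (A' := A') T
    (IsLocalizedModule.liftOfLE S T h (LocalizedModule.mkLinearMap S P)
      (LocalizedModule.mkLinearMap T P))

end G

section G2
variable {A' D : Type*} [CommRing A'] [CommRing D] [Algebra A' D]
variable {P : Type*} [AddCommGroup P] [Module A' P] [Module D P] [IsScalarTower A' D P]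

theorem flat_localizedModule_of_forall_maximal (S : Submonoid D)
    (H : ∀ (Q : Ideal D) [Q.IsPrime], Disjoint (S : Set D) (Q : Set D) →
      (∀ Q' : Ideal D, Q'.IsPrime → Q ≤ Q' → Disjoint (S : Set D) (Q' : Set D) → Q' = Q) →
      Module.Flat A' (LocalizedModule Q.primeCompl P)) :
    Module.Flat A' (LocalizedModule S P) := by
  refine Module.flat_of_isLocalized_maximal (Localization S) (LocalizedModule S P)
    (fun 𝔪 _ => LocalizedModule 𝔪.primeCompl (LocalizedModule S P))
    (fun 𝔪 _ => LocalizedModule.mkLinearMap 𝔪.primeCompl (LocalizedModule S P)) ?_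
  intro 𝔪 hm
  haveI : 𝔪.IsPrime := hm.isPrime
  let Q := 𝔪.comap (algebraMap D (Localization S))
  have hQprime : Q.IsPrime := Ideal.comap_isPrime _ _
  have hdisj : Disjoint (S : Set D) (Q : Set D) :=
    ((IsLocalization.isPrime_iff_isPrime_disjoint S (Localization S) 𝔪).mp inferInstance).2
  have hmapQ : Q.map (algebraMap D (Localization S)) = 𝔪 :=
    IsLocalization.map_under S (Localization S) 𝔪
  have hmax : ∀ Q' : Ideal D, Q'.IsPrime → Q ≤ Q' → Disjoint (S : Set D) (Q' : Set D) → Q' = Q := by
    intro Q' hQ' hle hd
    have h1 : 𝔪 ≤ Q'.map (algebraMap D (Localization S)) := by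
      rw [← hmapQ]; exact Ideal.map_mono hle
    have h2 : Q'.map (algebraMap D (Localization S)) ≠ ⊤ :=
      (IsLocalization.map_algebraMap_ne_top_iff_disjoint S (Localization S) Q').mpr hd
    have h3 : Q'.map (algebraMap D (Localization S)) = 𝔪 := (hm.eq_of_le h2 h1).symm
    have h4 := IsLocalization.under_map_of_isPrime_disjoint S (Localization S) hQ' hd
    rw [← h4, h3]
  have hQ := H Q hdisj hmax
  let c : P →ₗ[D] LocalizedModule 𝔪.primeCompl (LocalizedModule S P) :=
    ((LocalizedModule.mkLinearMap 𝔪.primeCompl (LocalizedModule S P)).restrictScalars D).comp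
      (LocalizedModule.mkLinearMap S P)
  have hbc : IsBaseChange (Localization.AtPrime 𝔪) c :=
    (IsLocalizedModule.isBaseChange S (Localization S) (LocalizedModule.mkLinearMap S P)).comp
      (IsLocalizedModule.isBaseChange 𝔪.primeCompl (Localization.AtPrime 𝔪)
        (LocalizedModule.mkLinearMap 𝔪.primeCompl (LocalizedModule S P)))
  haveI : IsLocalizedModule Q.primeCompl c :=
    (isLocalizedModule_iff_isBaseChange Q.primeCompl (Localization.AtPrime 𝔪) c).mpr hbc
  have e := IsLocalizedModule.linearEquiv Q.primeCompl (LocalizedModule.mkLinearMap Q.primeCompl P) c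
  exact Module.Flat.of_linearEquiv (e.symm.restrictScalars A')

end G2

section G3
variable {A' B' C' : Type*} [CommRing A'] [CommRing B'] [CommRing C'] [Algebra A' B'] [Algebra B' C']
  [Algebra A' C'] [IsScalarTower A' B' C']
variable {N' : Type*} [AddCommGroup N'] [Module A' N'] [Module B' N'] [Module C' N']
  [IsScalarTower B' C' N'] [IsScalarTower A' C' N'] [IsScalarTower A' B' N']

/-- localization at `q.primeCompl` as a `B'`-module agrees with localization at its image in `C'` -/
theorem nonempty_localizedModule_equiv (q : Ideal B') [q.IsPrime] :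
    Nonempty (LocalizedModule q.primeCompl N' ≃ₗ[A']
      LocalizedModule (Algebra.algebraMapSubmonoid C' q.primeCompl) N') := by
  haveI : IsLocalizedModule q.primeCompl
      ((LocalizedModule.mkLinearMap (Algebra.algebraMapSubmonoid C' q.primeCompl) N').restrictScalars B') :=
    IsLocalizedModule.restrictScalars q.primeCompl _
  have e := IsLocalizedModule.linearEquiv q.primeCompl (LocalizedModule.mkLinearMap q.primeCompl N')
    ((LocalizedModule.mkLinearMap (Algebra.algebraMapSubmonoid C' q.primeCompl) N').restrictScalars B')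
  exact ⟨e.restrictScalars A'⟩

/-- integral descent: `N'_q` is `A'`-flat as soon as `N'_Q` is for all primes `Q` of `C'` over `q` -/
theorem flat_localizedModule_of_forall_over [Algebra.IsIntegral B' C'] (q : Ideal B') [q.IsPrime]
    (H : ∀ (Q : Ideal C') [Q.IsPrime], Q.comap (algebraMap B' C') = q →
      Module.Flat A' (LocalizedModule Q.primeCompl N')) :
    Module.Flat A' (LocalizedModule q.primeCompl N') := by
  obtain ⟨e⟩ := nonempty_localizedModule_equiv (A' := A') (C' := C') (N' := N') q
  suffices h : Module.Flat A' (LocalizedModule (Algebra.algebraMapSubmonoid C' q.primeCompl) N') from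
    Module.Flat.of_linearEquiv e
  refine flat_localizedModule_of_forall_maximal (A' := A') _ ?_
  intro Q hQ hdisj hmax
  refine H Q ?_
  have hle : Q.comap (algebraMap B' C') ≤ q := by
    intro x hx
    by_contra hxq
    exact Set.disjoint_left.mp hdisj (Algebra.mem_algebraMapSubmonoid_of_mem ⟨x, hxq⟩) hx
  obtain ⟨Q', hQQ', hQ'prime, hQ'q⟩ :=
    Ideal.exists_ideal_over_prime_of_isIntegral_of_isPrime q Q hle
  have hd' : Disjoint (Algebra.algebraMapSubmonoid C' q.primeCompl : Set C') (Q' : Set C') := by
    rw [Set.disjoint_left]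
    rintro _ ⟨b, hb, rfl⟩ hbQ'
    exact hb (hQ'q ▸ (Ideal.mem_comap.mpr hbQ'))
  have := hmax Q' hQ'prime hQQ' hd'
  rw [← this, hQ'q]

/-- ascent: if `N'_q` is `A'`-flat then so is `N'_Q` for every `Q` over `q` -/
theorem flat_localizedModule_of_over (q : Ideal B') [q.IsPrime] (Q : Ideal C') [Q.IsPrime]
    (hQ : Q.comap (algebraMap B' C') = q)
    (H : Module.Flat A' (LocalizedModule q.primeCompl N')) :
    Module.Flat A' (LocalizedModule Q.primeCompl N') := by
  obtain ⟨e⟩ := nonempty_localizedModule_equiv (A' := A') (C' := C') (N' := N') q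
  have h : Module.Flat A' (LocalizedModule (Algebra.algebraMapSubmonoid C' q.primeCompl) N') :=
    Module.Flat.of_linearEquiv e.symm
  refine flat_localizedModule_of_le (A' := A') ?_ h
  rintro _ ⟨b, hb, rfl⟩
  intro hbQ
  exact hb (hQ ▸ (Ideal.mem_comap.mpr hbQ))

end G3

end Groth.Agent.Lib.Helper14.FlatAbove
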