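import Mathlib.RingTheory.Flat.Basic
import Mathlib.RingTheory.Flat.Tensor
import Mathlib.LinearAlgebra.TensorProduct.RightExactness

/-! Helper14: in a short exact sequence `0 → M₁ → M₂ → M₃ → 0` with `M₂` flat such that
`M₁ ⊗ R/I → M₂ ⊗ R/I` is injective for all finitely generated ideals `I`, `M₃` is flat. -/

namespace Groth.Agent.Lib.Helper14

open TensorProduct

theorem flat_of_exact_of_rTensor_quotient_injective {R : Type*} [CommRing R]
    {M₁ M₂ M₃ : Type*} [AddCommGroup M₁] [Module R M₁] [AddCommGroup M₂] [Module R M₂]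
    [AddCommGroup M₃] [Module R M₃] (f : M₁ →ₗ[R] M₂) (g : M₂ →ₗ[R] M₃)
    (hexact : Function.Exact f g) (hg : Function.Surjective g) [Module.Flat R M₂]
    (hf : ∀ I : Ideal R, I.FG → Function.Injective (f.rTensor (R ⧸ I))) :
    Module.Flat R M₃ := by
  rw [Module.Flat.iff_lTensor_injective]
  intro I hI
  rw [injective_iff_map_eq_zero]
  intro z hz
  obtain ⟨y, rfl⟩ := LinearMap.rTensor_surjective I hg z
  have h1 : g.rTensor R (I.subtype.lTensor M₂ y) = 0 := by
    rw [← LinearMap.comp_apply, LinearMap.rTensor_comp_lTensor, ← LinearMap.lTensor_comp_rTensor,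
      LinearMap.comp_apply, hz]
  obtain ⟨x', hx'⟩ := (rTensor_exact R hexact hg _).mp h1
  have h2 : f.rTensor (R ⧸ I) (I.mkQ.lTensor M₁ x') = 0 := by
    rw [← LinearMap.comp_apply, LinearMap.rTensor_comp_lTensor, ← LinearMap.lTensor_comp_rTensor,
      LinearMap.comp_apply, hx', ← LinearMap.comp_apply, ← LinearMap.lTensor_comp]
    have : I.mkQ ∘ₗ I.subtype = 0 := by
      ext x
      simp only [LinearMap.comp_apply, Submodule.subtype_apply, Submodule.mkQ_apply,
        LinearMap.zero_apply]
      exact (Submodule.Quotient.mk_eq_zero I).mpr x.2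
    rw [this, LinearMap.lTensor_zero, LinearMap.zero_apply]
  have h3 : I.mkQ.lTensor M₁ x' = 0 := (injective_iff_map_eq_zero _).mp (hf I hI) _ h2
  obtain ⟨w, hw⟩ := (lTensor_exact M₁ (LinearMap.exact_subtype_mkQ I)
    (Submodule.mkQ_surjective I) _).mp h3
  have h4 : I.subtype.lTensor M₂ (f.rTensor I w) = I.subtype.lTensor M₂ y := by
    rw [← LinearMap.comp_apply, LinearMap.lTensor_comp_rTensor, ← LinearMap.rTensor_comp_lTensor,
      LinearMap.comp_apply, hw, hx']
  have h5 : f.rTensor I w = y :=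
    Module.Flat.lTensor_preserves_injective_linearMap (M := M₂) I.subtype
      I.injective_subtype h4
  rw [← h5, ← LinearMap.comp_apply, ← LinearMap.rTensor_comp]
  have : g ∘ₗ f = 0 := hexact.linearMap_comp_eq_zero
  rw [this, LinearMap.rTensor_zero, LinearMap.zero_apply]

end Groth.Agent.Lib.Helper14
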