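import Mathlib
import Groth.Prelude.Def_Wider
import Groth.Agent.S0311

/-! # Injective hulls of residue fields of primes: local structure (helper14)

For a Noetherian ring `A`, a prime `p` and an injective hull `g : κ(p) → E` over `A`:
elements outside `p` act bijectively on `E`, `E` is an injective hull of the residue field over
`A_p` (for any `A_p`-module structure compatible with the `A`-module structure), and `E` is
`p`-power torsion. -/

set_option autoImplicit false
set_option linter.unusedVariables false
set_option linter.unusedSectionVars false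
set_option linter.style.haveILetI false

universe u

namespace Groth.Agent.Lib.Helper14.FlatInj

open IsLocalRing

section Hull

variable {A : Type u} [CommRing A] (p : Ideal A) [p.IsPrime] {E : Type u} [AddCommGroup E]
  [Module A E] (g : p.ResidueField →ₗ[A] E) (hg : InjHull.IsInjectiveHull g)

include hg in
theorem smul_injective_of_notMem (s : A) (hs : s ∉ p) :
    Function.Injective (fun e : E => s • e) := by
  let σ : E →ₗ[A] E := LinearMap.lsmul A E s
  have hσ : LinearMap.ker σ = ⊥ := by
    by_contra hne
    have h1 := hg.essential _ hne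
    obtain ⟨x, hx, hx0⟩ := Submodule.exists_mem_ne_zero_of_ne_bot h1
    obtain ⟨hxk, c, rfl⟩ := hx
    have hxk' : σ (g c) = 0 := hxk
    have h2 : g (s • c) = 0 := by rw [map_smul]; exact hxk'
    have h3 : s • c = 0 := hg.injective (h2.trans (map_zero g).symm)
    rw [Algebra.smul_def] at h3
    have h4 : algebraMap A p.ResidueField s ≠ 0 := by
      rw [Ne, Ideal.algebraMap_residueField_eq_zero]
      exact hs
    have h5 : c = 0 := (mul_eq_zero.mp h3).resolve_left h4
    exact hx0 (by rw [h5, map_zero])
  exact LinearMap.ker_eq_bot.mp hσ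

include hg in
theorem smul_surjective_of_notMem (s : A) (hs : s ∉ p) :
    Function.Surjective (fun e : E => s • e) := by
  let σ : E →ₗ[A] E := LinearMap.lsmul A E s
  have hσ : Function.Injective σ := smul_injective_of_notMem p g hg s hs
  haveI := hg.isInjective
  obtain ⟨ψ, hψ⟩ := Module.Injective.extension_property A E E E σ hσ LinearMap.id
  intro x
  refine ⟨ψ x, ?_⟩
  have h1 : ψ (σ x) = x := LinearMap.congr_fun hψ x
  change s • ψ x = x
  rw [← map_smul]
  exact h1

end Hull

section Loc

variable {A : Type u} [CommRing A] (p : Ideal A) [p.IsPrime] {E : Type u} [AddCommGroup E]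
  [Module A E] (g : p.ResidueField →ₗ[A] E) (hg : InjHull.IsInjectiveHull g)
  {E' : Type u} [AddCommGroup E'] [Module A E'] [Module (Localization.AtPrime p) E']
  [IsScalarTower A (Localization.AtPrime p) E'] (ℓ : E ≃ₗ[A] E')

/-- the hull map over the localization -/
noncomputable def locHullMap :
    ResidueField (Localization.AtPrime p) →ₗ[Localization.AtPrime p] E' :=
  LinearMap.extendScalarsOfIsLocalization p.primeCompl (Localization.AtPrime p)
    (ℓ.toLinearMap ∘ₗ g)

theorem locHullMap_apply (c : p.ResidueField) : locHullMap p g ℓ c = ℓ (g c) := rfl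

include hg ℓ in
theorem injective_loc : Module.Injective (Localization.AtPrime p) E' := by
  haveI := hg.isInjective
  have hB : Module.Baer A E' := Module.Baer.of_equiv ℓ (Module.Baer.of_injective hg.isInjective)
  haveI : Module.Injective A E' := hB.injective
  refine Module.Baer.injective fun I h => ?_
  obtain ⟨h', hh'⟩ := Module.Injective.extension_property A E' I (Localization.AtPrime p)
    (I.subtype.restrictScalars A) Subtype.val_injective (h.restrictScalars A)
  refine ⟨h'.extendScalarsOfIsLocalization p.primeCompl (Localization.AtPrime p), ?_⟩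
  intro x hx
  exact LinearMap.congr_fun hh' ⟨x, hx⟩

include hg in
theorem isInjectiveHull_loc : InjHull.IsInjectiveHull (locHullMap p g ℓ) := by
  refine { injective := ?_, essential := ?_, isInjective := injective_loc p g hg ℓ }
  · intro c c' h
    rw [locHullMap_apply, locHullMap_apply] at h
    exact hg.injective (ℓ.injective h)
  · intro N hN
    obtain ⟨x, hx, hx0⟩ := Submodule.exists_mem_ne_zero_of_ne_bot hN
    let N₀ : Submodule A E := (N.restrictScalars A).comap ℓ.toLinearMap
    have hN₀ : N₀ ≠ ⊥ := by
      intro h
      have hmem : ℓ.symm x ∈ N₀ := by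
        change ℓ (ℓ.symm x) ∈ N
        rw [LinearEquiv.apply_symm_apply]
        exact hx
      rw [h, Submodule.mem_bot] at hmem
      exact hx0 (by rw [← ℓ.apply_symm_apply x, hmem, map_zero])
    obtain ⟨y, hy, hy0⟩ := Submodule.exists_mem_ne_zero_of_ne_bot (hg.essential N₀ hN₀)
    obtain ⟨hyN, c, rfl⟩ := hy
    intro hbot
    have hmem : ℓ (g c) ∈ N ⊓ LinearMap.range (locHullMap p g ℓ) := ⟨hyN, c, rfl⟩
    rw [hbot, Submodule.mem_bot] at hmem
    exact hy0 (ℓ.injective (hmem.trans (map_zero ℓ).symm))

end Loc

section Bij

variable {R : Type*} [CommRing R] (S : Submonoid R) {M M' : Type*} [AddCommGroup M] [Module R M]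
  [AddCommGroup M'] [Module R M'] (f : M →ₗ[R] M') [IsLocalizedModule S f]

theorem bijective_of_isLocalizedModule
    (h : ∀ s ∈ S, Function.Bijective (fun m : M => s • m)) : Function.Bijective f := by
  constructor
  · rw [← LinearMap.ker_eq_bot, eq_bot_iff]
    intro m hm
    obtain ⟨r, hr, hrm⟩ := (IsLocalizedModule.mem_ker_iff S).mp hm
    rw [Submodule.mem_bot]
    apply (h r hr).1
    change r • m = r • 0
    rw [hrm, smul_zero]
  · intro y
    obtain ⟨⟨x, s⟩, hx⟩ := IsLocalizedModule.surj S f y
    obtain ⟨x', hx'⟩ := (h s.1 s.2).2 x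
    refine ⟨x', ?_⟩
    have hu := IsLocalizedModule.map_units f s
    have hinj : Function.Injective (fun z : M' => (s : R) • z) := by
      have := ((Module.End.isUnit_iff _).mp hu).1
      exact this
    apply hinj
    change (s : R) • f x' = (s : R) • y
    rw [← map_smul]
    have hx'' : (s : R) • x' = x := hx'
    rw [hx'']
    exact hx.symm

end Bij

section Tors

variable {A : Type u} [CommRing A] [IsNoetherianRing A] (p : Ideal A) [p.IsPrime] {E : Type u}
  [AddCommGroup E] [Module A E] (g : p.ResidueField →ₗ[A] E) (hg : InjHull.IsInjectiveHull g)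

include hg in
theorem smul_bijective_of_notMem (s : A) (hs : s ∉ p) :
    Function.Bijective (fun e : E => s • e) :=
  ⟨smul_injective_of_notMem p g hg s hs, smul_surjective_of_notMem p g hg s hs⟩

/-- the canonical identification of `E` with its base change to `A_p`. -/
noncomputable def tensorEquiv :
    E ≃ₗ[A] TensorProduct A (Localization.AtPrime p) E :=
  LinearEquiv.ofBijective (TensorProduct.mk A (Localization.AtPrime p) E 1)
    (bijective_of_isLocalizedModule p.primeCompl _
      (fun s hs => smul_bijective_of_notMem p g hg s hs))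

theorem tensorEquiv_apply (e : E) : tensorEquiv p g hg e = (1 : Localization.AtPrime p) ⊗ₜ[A] e :=
  rfl

include hg in
theorem isPowerTorsion : LocCoh.IsPowerTorsion p E := by
  intro e
  have hH := isInjectiveHull_loc p g hg (tensorEquiv p g hg)
  obtain ⟨n, hn⟩ := Groth.Agent.S0311.result (Localization.AtPrime p) _ _ hH (tensorEquiv p g hg e)
  refine ⟨n, fun a ha => ?_⟩
  apply (tensorEquiv p g hg).injective
  rw [map_smul, map_zero, ← algebraMap_smul (Localization.AtPrime p) a]
  apply hn
  rw [← Localization.AtPrime.map_eq_maximalIdeal, ← Ideal.map_pow]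
  exact Ideal.mem_map_of_mem _ ha

end Tors

end Groth.Agent.Lib.Helper14.FlatInj
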