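import Mathlib

/-! # Local criteria for injectivity over Noetherian rings (helper14)

* `injective_of_localization`: a module over a localization `B'` of `B` which is injective over `B'`
  is injective over `B`.
* `injective_of_localized`: `J` is injective over Noetherian `B` if a multiplicative set `S` acts
  bijectively on `J` and `J_q` is injective over `B_q` for every prime `q` disjoint from `S`. -/

set_option autoImplicit false
set_option linter.unusedVariables false
set_option linter.unusedSectionVars false
set_option linter.style.haveILetI false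

universe u

namespace Groth.Agent.Lib.Helper14.FlatInj

open TensorProduct

section L2

variable {B : Type u} [CommRing B] (S : Submonoid B) (B' : Type u) [CommRing B'] [Algebra B B']
  [IsLocalization S B'] (J' : Type u) [AddCommGroup J'] [Module B J'] [Module B' J']
  [IsScalarTower B B' J']

include S in
theorem injective_of_localization (h : Module.Injective B' J') : Module.Injective B J' := by
  haveI : Module.Flat B B' := IsLocalization.flat B' S
  refine Module.Baer.injective fun I g => ?_
  let f : B' ⊗[B] I →ₗ[B'] B' ⊗[B] B := (I.subtype).baseChange B'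
  have hf : Function.Injective f :=
    Module.Flat.lTensor_preserves_injective_linearMap (M := B') I.subtype Subtype.val_injective
  let g' : B' ⊗[B] I →ₗ[B'] J' := g.liftBaseChange B'
  obtain ⟨H, hH⟩ := Module.Injective.extension_property B' J' _ _ f hf g'
  refine ⟨(H.restrictScalars B) ∘ₗ (TensorProduct.mk B B' B 1), fun x hx => ?_⟩
  have h1 : H (f ((1 : B') ⊗ₜ[B] (⟨x, hx⟩ : I))) = g' ((1 : B') ⊗ₜ[B] (⟨x, hx⟩ : I)) :=
    LinearMap.congr_fun hH _
  have h2 : f ((1 : B') ⊗ₜ[B] (⟨x, hx⟩ : I)) = (1 : B') ⊗ₜ[B] x := by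
    simp [f]
  have h3 : g' ((1 : B') ⊗ₜ[B] (⟨x, hx⟩ : I)) = g ⟨x, hx⟩ := by
    simp [g']
  rw [h2, h3] at h1
  exact h1

end L2

section L1

variable {B : Type u} [CommRing B] [IsNoetherianRing B] (S : Submonoid B) (J : Type u)
  [AddCommGroup J] [Module B J]

theorem injective_of_localized
    (hS : ∀ s ∈ S, Function.Bijective (fun x : J => s • x))
    (h : ∀ (q : Ideal B) [q.IsPrime], Disjoint (q : Set B) (S : Set B) →
      Module.Injective (Localization.AtPrime q) (LocalizedModule q.primeCompl J)) :
    Module.Injective B J := by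
  classical
  refine Module.Baer.injective fun 𝔟 g => ?_
  -- the ideal of multipliers `s` such that `s • g` extends
  let 𝔠 : Ideal B :=
    { carrier := {s | ∃ y : J, ∀ x : 𝔟, s • g x = (x : B) • y}
      zero_mem' := ⟨0, fun x => by rw [zero_smul, smul_zero]⟩
      add_mem' := by
        rintro s s' ⟨y, hy⟩ ⟨y', hy'⟩
        exact ⟨y + y', fun x => by rw [add_smul, hy, hy', smul_add]⟩
      smul_mem' := by
        rintro c s ⟨y, hy⟩
        refine ⟨c • y, fun x => ?_⟩
        rw [smul_eq_mul, mul_smul, hy, smul_comm] }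
  have key : ∃ s ∈ S, s ∈ 𝔠 := by
    by_contra hcon
    push Not at hcon
    have hdisj : Disjoint (𝔠 : Set B) (S : Set B) := by
      rw [Set.disjoint_left]
      intro s hs hsS
      exact hcon s hsS hs
    obtain ⟨q, hq, h𝔠q, hqS⟩ := Ideal.exists_le_prime_disjoint 𝔠 S hdisj
    haveI := hq
    have hinj : Module.Injective B (LocalizedModule q.primeCompl J) :=
      injective_of_localization q.primeCompl (Localization.AtPrime q) _ (h q hqS)
    obtain ⟨H, hH⟩ := Module.Injective.extension_property B (LocalizedModule q.primeCompl J) 𝔟 B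
      𝔟.subtype Subtype.val_injective ((LocalizedModule.mkLinearMap q.primeCompl J) ∘ₗ g)
    obtain ⟨y, t, hyt⟩ : ∃ (y : J) (t : q.primeCompl), LocalizedModule.mk y t = H 1 := by
      induction H 1 using LocalizedModule.induction_on with
      | _ y t => exact ⟨y, t, rfl⟩
    have hx : ∀ x : 𝔟, ∃ u : B, u ∉ q ∧ (u * t) • g x = (x : B) • (u • y) := by
      intro x
      have h1 : H (x : B) = LocalizedModule.mk (g x) 1 := LinearMap.congr_fun hH x
      have h2 : H (x : B) = LocalizedModule.mk ((x : B) • y) t := by
        have e1 : H (x : B) = (x : B) • H 1 := by rw [← map_smul, smul_eq_mul, mul_one]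
        rw [e1, ← hyt, LocalizedModule.smul'_mk]
      rw [h2, LocalizedModule.mk_eq] at h1
      obtain ⟨u, hu⟩ := h1
      refine ⟨u, u.2, ?_⟩
      rw [Submonoid.smul_def, Submonoid.smul_def, Submonoid.smul_def, Submonoid.smul_def,
        OneMemClass.coe_one, one_smul] at hu
      rw [mul_smul, ← hu, smul_comm]
    choose u hu1 hu2 using hx
    obtain ⟨F, hF⟩ := (Module.Finite.fg_top : (⊤ : Submodule B 𝔟).FG)
    let U : B := ∏ b ∈ F, u b
    have hU : U ∉ q := by
      intro hmem
      obtain ⟨b, hb, hbq⟩ := (Ideal.IsPrime.prod_mem_iff).mp hmem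
      exact hu1 b hbq
    have hall : ∀ x : 𝔟, (U * t) • g x = (x : B) • (U • y) := by
      intro x
      let K : Submodule B 𝔟 := LinearMap.ker
        ((U * t) • g - (LinearMap.toSpanSingleton B J (U • y)) ∘ₗ 𝔟.subtype)
      have hK : K = ⊤ := by
        rw [eq_top_iff, ← hF, Submodule.span_le]
        intro b hb
        rw [SetLike.mem_coe, LinearMap.mem_ker, LinearMap.sub_apply, sub_eq_zero]
        change (U * t) • g b = (b : B) • (U • y)
        have hUb : U = (∏ c ∈ F.erase b, u c) * u b := by
          rw [mul_comm]; exact (Finset.mul_prod_erase F u hb).symm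
        rw [hUb, mul_assoc, mul_smul, hu2 b, mul_smul, smul_comm]
      have hxK : x ∈ K := hK ▸ Submodule.mem_top
      rw [LinearMap.mem_ker, LinearMap.sub_apply, sub_eq_zero] at hxK
      exact hxK
    have hmem : U * t ∈ 𝔠 := ⟨U • y, hall⟩
    have hmemq : U * t ∈ q := h𝔠q hmem
    rcases hq.mem_or_mem hmemq with h1 | h1
    · exact hU h1
    · exact t.2 h1
  obtain ⟨s, hsS, y, hy⟩ := key
  obtain ⟨y', hy'⟩ := (hS s hsS).2 y
  refine ⟨LinearMap.toSpanSingleton B J y', fun x hx => ?_⟩
  rw [LinearMap.toSpanSingleton_apply]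
  apply (hS s hsS).1
  change s • x • y' = s • g ⟨x, hx⟩
  rw [hy ⟨x, hx⟩, smul_comm]
  have hy'' : s • y' = y := hy'
  rw [hy'']

end L1

end Groth.Agent.Lib.Helper14.FlatInj
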