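import Mathlib
import Groth.Prelude.Def_Wider
import Groth.Agent.Lib.Helper14FlatInjA
import Groth.Agent.Lib.Helper14FlatInjB
import Groth.Agent.S0312

/-! # Flat base change of injective hulls of residue fields along maps with `pB_q = qB_q`
(helper14) -/

set_option autoImplicit false
set_option linter.unusedVariables false
set_option linter.unusedSectionVars false
set_option linter.style.haveILetI false

universe u

namespace Groth.Agent.Lib.Helper14.FlatInj

open TensorProduct IsLocalRing

section Main

variable {A B : Type u} [CommRing A] [CommRing B] [Algebra A B] [IsNoetherianRing A]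
  [IsNoetherianRing B] [Module.Flat A B]
  (p : Ideal A) [p.IsPrime] {E : Type u} [AddCommGroup E] [Module A E]
  (g : p.ResidueField →ₗ[A] E) (hg : InjHull.IsInjectiveHull g)

include hg in
theorem tensor_smul_bijective (a : A) (ha : a ∉ p) :
    Function.Bijective (fun z : B ⊗[A] E => (algebraMap A B a) • z) := by
  let τ : E ≃ₗ[A] E := LinearEquiv.ofBijective (LinearMap.lsmul A E a)
    (smul_bijective_of_notMem p g hg a ha)
  have h : (fun z : B ⊗[A] E => (algebraMap A B a) • z) = ⇑(τ.lTensor B) := by
    funext z
    rw [algebraMap_smul]
    induction z using TensorProduct.induction_on with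
    | zero => rw [smul_zero, map_zero]
    | tmul b e =>
      rw [LinearEquiv.lTensor_tmul, ← TensorProduct.tmul_smul]
      rfl
    | add x y hx hy => rw [smul_add, map_add, hx, hy]
  rw [h]
  exact (τ.lTensor B).bijective

include hg in
theorem tensor_torsion (a : A) (ha : a ∈ p) (z : B ⊗[A] E) : ∃ n : ℕ, (a ^ n) • z = 0 := by
  induction z using TensorProduct.induction_on with
  | zero => exact ⟨0, smul_zero _⟩
  | tmul b e =>
    obtain ⟨n, hn⟩ := isPowerTorsion p g hg e
    refine ⟨n, ?_⟩
    rw [← TensorProduct.tmul_smul, hn _ (Ideal.pow_mem_pow ha n), TensorProduct.tmul_zero]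
  | add x y hx hy =>
    obtain ⟨n, hn⟩ := hx
    obtain ⟨m, hm⟩ := hy
    refine ⟨n + m, ?_⟩
    have h1 : (a ^ (n + m)) • x = 0 := by rw [pow_add, mul_comm, mul_smul, hn, smul_zero]
    have h2 : (a ^ (n + m)) • y = 0 := by rw [pow_add, mul_smul, hm, smul_zero]
    rw [smul_add, h1, h2, add_zero]

include hg in
theorem injective_localized_of_comap_eq (q : Ideal B) [q.IsPrime]
    (hqp : p = q.comap (algebraMap A B))
    (hmax : Ideal.map (algebraMap B (Localization.AtPrime q)) (p.map (algebraMap A B)) =
      maximalIdeal (Localization.AtPrime q)) :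
    Module.Injective (Localization.AtPrime q) (LocalizedModule q.primeCompl (B ⊗[A] E)) := by
  letI alg : Algebra (Localization.AtPrime p) (Localization.AtPrime q) :=
    (Localization.localRingHom p q (algebraMap A B) hqp).toAlgebra
  have halg : algebraMap (Localization.AtPrime p) (Localization.AtPrime q) =
      Localization.localRingHom p q (algebraMap A B) hqp := rfl
  haveI tower : IsScalarTower A (Localization.AtPrime p) (Localization.AtPrime q) := by
    refine IsScalarTower.of_algebraMap_eq fun a => ?_
    rw [halg, Localization.localRingHom_to_map, ← IsScalarTower.algebraMap_apply]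
  haveI : IsLocalHom (algebraMap (Localization.AtPrime p) (Localization.AtPrime q)) := by
    rw [halg]; infer_instance
  haveI : Module.Flat (Localization.AtPrime p) (Localization.AtPrime q) := by
    have h1 : (algebraMap A B).Flat := RingHom.flat_algebraMap_iff.mpr inferInstance
    exact RingHom.Flat.localRingHom h1 q p hqp
  have hm : (maximalIdeal (Localization.AtPrime p)).map
      (algebraMap (Localization.AtPrime p) (Localization.AtPrime q)) =
      maximalIdeal (Localization.AtPrime q) := by
    rw [← Localization.AtPrime.map_eq_maximalIdeal, Ideal.map_map, ← hmax, Ideal.map_map]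
    congr 1
    ext a
    rw [RingHom.comp_apply, RingHom.comp_apply, ← IsScalarTower.algebraMap_apply,
      ← IsScalarTower.algebraMap_apply]
  obtain ⟨g'', hg''⟩ := Groth.Agent.S0312.result (Localization.AtPrime p) (Localization.AtPrime q) hm
    (TensorProduct A (Localization.AtPrime p) E) (locHullMap p g (tensorEquiv p g hg))
    (isInjectiveHull_loc p g hg (tensorEquiv p g hg))
  have hB1 : Module.Baer (Localization.AtPrime q)
      ((Localization.AtPrime q) ⊗[Localization.AtPrime p] ((Localization.AtPrime p) ⊗[A] E)) :=
    Module.Baer.of_injective hg''.isInjective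
  let e1 : (Localization.AtPrime q) ⊗[Localization.AtPrime p] ((Localization.AtPrime p) ⊗[A] E)
      ≃ₗ[Localization.AtPrime q] (Localization.AtPrime q) ⊗[A] E :=
    TensorProduct.AlgebraTensorModule.cancelBaseChange A (Localization.AtPrime p)
      (Localization.AtPrime q) (Localization.AtPrime q) E
  let e2 : (Localization.AtPrime q) ⊗[B] (B ⊗[A] E)
      ≃ₗ[Localization.AtPrime q] (Localization.AtPrime q) ⊗[A] E :=
    TensorProduct.AlgebraTensorModule.cancelBaseChange A B
      (Localization.AtPrime q) (Localization.AtPrime q) E
  let e3 : (Localization.AtPrime q) ⊗[B] (B ⊗[A] E)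
      ≃ₗ[Localization.AtPrime q] LocalizedModule q.primeCompl (B ⊗[A] E) :=
    (IsLocalizedModule.isBaseChange q.primeCompl (Localization.AtPrime q)
      (LocalizedModule.mkLinearMap q.primeCompl (B ⊗[A] E))).equiv
  exact (((hB1.of_equiv e1).of_equiv e2.symm).of_equiv e3).injective

include hg in
theorem injective_tensor_hull
    (h : ∀ (q : Ideal B) [q.IsPrime], Ideal.map (algebraMap B (Localization.AtPrime q))
      ((q.comap (algebraMap A B)).map (algebraMap A B)) = maximalIdeal (Localization.AtPrime q)) :
    Module.Injective B (B ⊗[A] E) := by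
  refine injective_of_localized (Algebra.algebraMapSubmonoid B p.primeCompl) (B ⊗[A] E) ?_ ?_
  · rintro s ⟨a, ha, rfl⟩
    exact tensor_smul_bijective p g hg a ha
  · intro q hq hdisj
    have hle : q.comap (algebraMap A B) ≤ p := by
      intro a ha
      by_contra hap
      exact Set.disjoint_left.mp hdisj (Ideal.mem_comap.mp ha) ⟨a, hap, rfl⟩
    by_cases hpp : p = q.comap (algebraMap A B)
    · refine injective_localized_of_comap_eq p g hg q hpp ?_
      have := h q
      rw [← hpp] at this
      exact this
    · have hex : ∃ a ∈ p, a ∉ q.comap (algebraMap A B) := by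
        by_contra hcon
        push Not at hcon
        exact hpp (le_antisymm hcon hle)
      obtain ⟨a, hap, haq⟩ := hex
      haveI : Subsingleton (LocalizedModule q.primeCompl (B ⊗[A] E)) := by
        rw [LocalizedModule.subsingleton_iff]
        intro z
        obtain ⟨n, hn⟩ := tensor_torsion (B := B) p g hg a hap z
        refine ⟨(algebraMap A B a) ^ n, ?_, ?_⟩
        · have h0 : algebraMap A B a ∈ q.primeCompl :=
            fun hmem => haq (Ideal.mem_comap.mpr hmem)
          exact Submonoid.pow_mem _ h0 n
        · rw [← map_pow, algebraMap_smul]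
          exact hn
      exact Module.Baer.injective fun I φ => ⟨0, fun x hx => Subsingleton.elim _ _⟩

end Main

section Final

variable {A B : Type u} [CommRing A] [CommRing B] [Algebra A B] [IsNoetherianRing A]
  [IsNoetherianRing B] [Module.Flat A B]

end Final

end Groth.Agent.Lib.Helper14.FlatInj
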