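import Mathlib
import Groth.Prelude.Def_FlatMod2
import Groth.Agent.Lib.Helper2RankLoc

/-!
# Finite type flat quasi-coherent modules: rank function and local freeness (helper14)

If every closed subset stable under generalization is open, then a finite type flat quasi-coherent
module is finite locally free.
-/

set_option autoImplicit false
set_option linter.unusedVariables false
set_option linter.unusedSectionVars false
set_option linter.style.haveILetI false
universe u
open CategoryTheory Limits AlgebraicGeometry TopologicalSpace Opposite TensorProduct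

namespace Groth.Agent.Lib.Helper14.FlatLocFree

open Groth.Agent.Lib.Helper2.FlatOver Groth.Agent.Lib.Helper2.QCoh
  Groth.Agent.Lib.Helper23.FinType Groth.Agent.Lib.Helper2.RankLoc

variable {X : Scheme.{u}} (F : X.Modules) [F.IsQuasicoherent]

/-- the sections of a flat quasi-coherent module over an affine open are flat -/
theorem flat_sections (hfl : FlatMod.IsFlat F) {U : X.Opens} (hU : IsAffineOpen U) :
    Module.Flat Γ(X, U) Γ(F, U) := by
  let pt : ∀ (P : Ideal Γ(X, U)) [P.IsMaximal], X := fun P hP => hU.fromSpec ⟨P, hP.isPrime⟩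
  have hpt : ∀ (P : Ideal Γ(X, U)) [P.IsMaximal], pt P ∈ U := fun P _ => fromSpec_mem hU _
  letI i1 : ∀ (P : Ideal Γ(X, U)) [P.IsMaximal], Module Γ(X, U) (F.presheaf.stalk (pt P)) :=
    fun P _ => moduleStalkSections F U (pt P) (hpt P)
  haveI i3 : ∀ (P : Ideal Γ(X, U)) [P.IsMaximal],
      IsScalarTower Γ(X, U) Γ(X, U) (F.presheaf.stalk (pt P)) := by
    intro P _
    refine ⟨fun a b y => ?_⟩
    change X.presheaf.germ U (pt P) (hpt P) (a * b) • y =
      X.presheaf.germ U (pt P) (hpt P) a • (X.presheaf.germ U (pt P) (hpt P) b • y)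
    rw [map_mul, mul_smul]
  haveI i4 : ∀ (P : Ideal Γ(X, U)) [P.IsMaximal],
      IsLocalizedModule.AtPrime P (germₗ F U (pt P) (hpt P)) := by
    intro P hP
    have h := isLocalizedModule_germ hU F (pt P) (hpt P)
    have h2 : hU.primeIdealOf ⟨pt P, hpt P⟩ = ⟨P, hP.isPrime⟩ := primeIdealOf_fromSpec hU _
    rw [h2] at h
    exact h
  refine @Module.flat_of_isLocalized_maximal Γ(X, U) Γ(X, U) _ _ _ Γ(F, U) _ _ _ _
    (fun P _ => F.presheaf.stalk (pt P)) (fun P _ => inferInstance) i1 i1 i3
    (fun P _ => germₗ F U (pt P) (hpt P)) i4 (fun P hP => ?_)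
  -- the stalk is flat over the sections
  letI := X.presheaf.algebra_section_stalk ⟨pt P, hpt P⟩
  haveI := hU.isLocalization_stalk ⟨pt P, hpt P⟩
  letI := moduleStalkSections F U (pt P) (hpt P)
  haveI : IsScalarTower Γ(X, U) (X.presheaf.stalk (pt P)) (F.presheaf.stalk (pt P)) := by
    refine ⟨fun a b y => ?_⟩
    change (X.presheaf.germ U (pt P) (hpt P) a * b) • y =
      X.presheaf.germ U (pt P) (hpt P) a • (b • y)
    rw [mul_smul]
  haveI : Module.Flat (X.presheaf.stalk (pt P)) (F.presheaf.stalk (pt P)) := hfl (pt P)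
  haveI : Module.Flat Γ(X, U) (X.presheaf.stalk (pt P)) :=
    IsLocalization.flat (X.presheaf.stalk (pt P))
      (hU.primeIdealOf ⟨pt P, hpt P⟩).asIdeal.primeCompl
  exact Module.Flat.trans Γ(X, U) (X.presheaf.stalk (pt P)) (F.presheaf.stalk (pt P))

variable [SheafOfModules.IsFiniteType (R := X.ringCatSheaf) F]

theorem free_stalk (hfl : FlatMod.IsFlat F) (x : X) :
    Module.Free (X.presheaf.stalk x) (F.presheaf.stalk x) := by
  haveI := Groth.Agent.Lib.Helper2.FibreCrit.finite_stalk F x
  haveI : Module.Flat (X.presheaf.stalk x) (F.presheaf.stalk x) := hfl x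
  exact Module.free_of_flat_of_isLocalRing

theorem fibreRank_eq_finrank (hfl : FlatMod.IsFlat F) (x : X) :
    fibreRank F x = Module.finrank (X.presheaf.stalk x) (F.presheaf.stalk x) := by
  haveI := free_stalk F hfl x
  exact Module.finrank_baseChange

/-- upper semicontinuity of the rank -/
theorem exists_opens_fibreRank_le (hfl : FlatMod.IsFlat F) (x : X) :
    ∃ D : X.Opens, x ∈ D ∧ ∀ y ∈ D, fibreRank F y ≤ fibreRank F x := by
  obtain ⟨D, hD, m, hxD, -, hm⟩ := exists_affine_generators F x ⊤ trivial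
  refine ⟨D, hxD, fun y hy => ?_⟩
  have h := span_germ_eq_top F hD m hm y hy
  rw [fibreRank_eq_finrank F hfl y]
  have := finrank_le_of_span_eq_top h
  simpa using this

/-- the rank of the stalk in terms of the sections over an affine open -/
theorem finrank_stalk_eq_rankAtStalk (hfl : FlatMod.IsFlat F) {U : X.Opens} (hU : IsAffineOpen U)
    (x : X) (hx : x ∈ U) :
    Module.finrank (X.presheaf.stalk x) (F.presheaf.stalk x) =
      Module.rankAtStalk (R := Γ(X, U)) Γ(F, U) (hU.primeIdealOf ⟨x, hx⟩) := by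
  haveI : Module.Flat Γ(X, U) Γ(F, U) := flat_sections F hfl hU
  haveI : Module.Finite Γ(X, U) Γ(F, U) := finite_of_isFiniteType F hU
  haveI := free_stalk F hfl x
  letI := X.presheaf.algebra_section_stalk ⟨x, hx⟩
  haveI := hU.isLocalization_stalk ⟨x, hx⟩
  letI := moduleStalkSections F U x hx
  haveI : IsScalarTower Γ(X, U) (X.presheaf.stalk x) (F.presheaf.stalk x) := by
    refine ⟨fun a b y => ?_⟩
    change (X.presheaf.germ U x hx a * b) • y = X.presheaf.germ U x hx a • (b • y)
    rw [mul_smul]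
  haveI := isLocalizedModule_germ hU F x hx
  have hbc : IsBaseChange (X.presheaf.stalk x) (germₗ F U x hx) :=
    IsLocalizedModule.isBaseChange (hU.primeIdealOf ⟨x, hx⟩).asIdeal.primeCompl
      (X.presheaf.stalk x) (germₗ F U x hx)
  have h1 := Module.rankAtStalk_isBaseChange hbc (IsLocalRing.closedPoint (X.presheaf.stalk x))
  have h2 : (IsLocalRing.closedPoint (X.presheaf.stalk x)).comap
      (algebraMap Γ(X, U) (X.presheaf.stalk x)) = hU.primeIdealOf ⟨x, hx⟩ := by
    apply PrimeSpectrum.ext
    have := IsLocalization.AtPrime.under_maximalIdeal (X.presheaf.stalk x)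
      (hU.primeIdealOf ⟨x, hx⟩).asIdeal
    exact this
  rw [h2] at h1
  rw [← h1, Module.rankAtStalk_eq_finrank_of_free]
  simp

/-- the rank is constant along specializations -/
theorem fibreRank_eq_of_specializes (hfl : FlatMod.IsFlat F) {x y : X} (h : y ⤳ x) :
    fibreRank F y = fibreRank F x := by
  obtain ⟨U, hU, hxU⟩ : ∃ U : X.Opens, IsAffineOpen U ∧ x ∈ U := by
    obtain ⟨_, ⟨U, hU, rfl⟩, hxU, -⟩ :=
      X.isBasis_affineOpens.exists_subset_of_mem_open (Set.mem_univ x) isOpen_univ
    exact ⟨U, hU, hxU⟩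
  have hyU : y ∈ U := h.mem_open U.isOpen hxU
  rw [fibreRank_eq_finrank F hfl, fibreRank_eq_finrank F hfl,
    finrank_stalk_eq_rankAtStalk F hfl hU y hyU, finrank_stalk_eq_rankAtStalk F hfl hU x hxU]
  haveI : Module.Flat Γ(X, U) Γ(F, U) := flat_sections F hfl hU
  haveI : Module.Finite Γ(X, U) Γ(F, U) := finite_of_isFiniteType F hU
  apply Module.rankAtStalk_eq_of_le_of_finite_of_flat
  rw [PrimeSpectrum.le_iff_specializes]
  have h1 : (⟨y, hyU⟩ : U) ⤳ ⟨x, hxU⟩ := (subtype_specializes_iff _ _).mpr h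
  exact h1.map hU.isoSpec.hom.continuous

theorem isFinLocFree_of_top
    (htop : ∀ Z : Set X, IsClosed Z → StableUnderGeneralization Z → IsOpen Z)
    (hfl : FlatMod.IsFlat F) : FlatMod.IsFinLocFree F := by
  have hcl : ∀ n : ℕ, IsClosed {x : X | n ≤ fibreRank F x} := by
    intro n
    rw [← isOpen_compl_iff, isOpen_iff_forall_mem_open]
    intro x hx
    obtain ⟨D, hxD, hD⟩ := exists_opens_fibreRank_le F hfl x
    refine ⟨D, fun y hy => ?_, D.isOpen, hxD⟩
    simp only [Set.mem_compl_iff, Set.mem_setOf_eq, not_le] at hx ⊢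
    exact lt_of_le_of_lt (hD y hy) hx
  have hge : ∀ n : ℕ, IsOpen {x : X | n ≤ fibreRank F x} := by
    intro n
    refine htop _ (hcl n) ?_
    intro x y hyx hx
    simp only [Set.mem_setOf_eq] at hx ⊢
    rw [fibreRank_eq_of_specializes F hfl hyx]
    exact hx
  have hlc : IsLocallyConstant (fun x : X => fibreRank F x) := by
    rw [IsLocallyConstant.iff_isOpen_fiber]
    intro n
    have : (fun x : X => fibreRank F x) ⁻¹' {n} =
        {x : X | n ≤ fibreRank F x} ∩ {x : X | n + 1 ≤ fibreRank F x}ᶜ := by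
      ext x
      simp only [Set.mem_preimage, Set.mem_singleton_iff, Set.mem_inter_iff, Set.mem_setOf_eq,
        Set.mem_compl_iff]
      omega
    rw [this]
    exact (hge n).inter (hcl (n + 1)).isOpen_compl
  exact isFinLocFree_of_isLocallyConstant_fibreRank F hlc (fun D hD n m hm hr =>
    linearIndependent_of_free_stalks F hD m hm (fun x _ => free_stalk F hfl x) hr)

end Groth.Agent.Lib.Helper14.FlatLocFree
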