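import Mathlib
import Groth.Prelude.Def_FlatMod2
import Groth.Agent.Lib.Helper14FlatLocFreeA
import Groth.Agent.Lib.Helper18FinFlat1
import Groth.Agent.Lib.Helper23Serre
import Groth.Agent.S9351

/-!
# If all finite type flat quasi-coherent modules are locally free, closed subsets stable under
generalization are open (helper14)
-/

set_option autoImplicit false
set_option linter.unusedVariables false
set_option linter.unusedSectionVars false
set_option linter.style.haveILetI false
universe u
open CategoryTheory Limits AlgebraicGeometry TopologicalSpace Opposite TensorProduct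

namespace Groth.Agent.Lib.Helper14.FlatLocFree

open Groth.Agent.Lib.Helper2.FlatOver Groth.Agent.Lib.Helper2.QCoh
  Groth.Agent.Lib.Helper23.FinType Groth.Agent.Lib.Helper2.RankLoc

variable {X : Scheme.{u}}

/-- a quasi-coherent module with flat sections over affine opens is flat -/
theorem isFlat_of_flat_sections (F : X.Modules) [F.IsQuasicoherent]
    (H : ∀ U : X.Opens, IsAffineOpen U → Module.Flat Γ(X, U) Γ(F, U)) : FlatMod.IsFlat F := by
  intro x
  obtain ⟨U, hU, hxU⟩ : ∃ U : X.Opens, IsAffineOpen U ∧ x ∈ U := by
    obtain ⟨_, ⟨U, hU, rfl⟩, hxU, -⟩ :=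
      X.isBasis_affineOpens.exists_subset_of_mem_open (Set.mem_univ x) isOpen_univ
    exact ⟨U, hU, hxU⟩
  letI := X.presheaf.algebra_section_stalk ⟨x, hxU⟩
  haveI := hU.isLocalization_stalk ⟨x, hxU⟩
  letI := moduleStalkSections F U x hxU
  haveI : IsScalarTower Γ(X, U) (X.presheaf.stalk x) (F.presheaf.stalk x) := by
    refine ⟨fun a b y => ?_⟩
    change (X.presheaf.germ U x hxU a * b) • y = X.presheaf.germ U x hxU a • (b • y)
    rw [mul_smul]
  haveI := isLocalizedModule_germ hU F x hxU
  haveI := H U hU
  exact Module.Flat.of_isLocalizedModule (X.presheaf.stalk x)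
    (hU.primeIdealOf ⟨x, hxU⟩).asIdeal.primeCompl (germₗ F U x hxU)

open Groth.Agent.Lib.Helper23.QCohLocal Groth.Agent.Lib.Helper2.FinPushFP
  Groth.Agent.Helper18FinFlat in
theorem isOpen_of_locFree
    (h1 : ∀ F : X.Modules, Coh.IsQCoh F → CohB1.IsFT F → FlatMod.IsFlat F →
      FlatMod.IsFinLocFree F)
    (Z : Set X) (hZ : IsClosed Z) (hgen : StableUnderGeneralization Z) : IsOpen Z := by
  obtain ⟨I, hIflat, hI⟩ := (Groth.Agent.S9351.result X).1.surjOn
    (show (⟨Z, hZ⟩ : TopologicalSpace.Closeds X) ∈
      {Z : TopologicalSpace.Closeds ↑X | StableUnderGeneralization (Z : Set ↑X)} from hgen)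
  haveI : Flat I.subschemeι := hIflat
  set i := I.subschemeι with hi
  haveI : (Coh.structureModule I.subscheme).IsQuasicoherent :=
    Groth.Agent.Lib.Helper23.Serre.isQuasicoherent_structureModule' _
  set M := (Scheme.Modules.pushforward i).obj (Coh.structureModule I.subscheme) with hM
  haveI hq : M.IsQuasicoherent := isQuasicoherent_pushforward i _
  have hft : SheafOfModules.IsFiniteType (R := X.ringCatSheaf) M := by
    haveI : SheafOfModules.IsFinitePresentation (R := I.subscheme.ringCatSheaf)
        (Coh.structureModule I.subscheme) := isFinitePresentation_structureModule _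
    exact (isFiniteType_pushforward_iff i (Coh.structureModule I.subscheme)).mp inferInstance
  have hflat : FlatMod.IsFlat M := by
    apply isFlat_of_flat_sections
    intro U hU
    letI : Algebra Γ(X, U) Γ(I.subscheme, i ⁻¹ᵁ U) := (i.app U).hom.toAlgebra
    have h2 : (i.app U).hom.Flat := by
      rw [Scheme.Hom.app_eq_appLE]
      exact Flat.flat_appLE i hU (hU.preimage i) le_rfl
    haveI : Module.Flat Γ(X, U) Γ(I.subscheme, i ⁻¹ᵁ U) := h2
    exact Module.Flat.of_linearEquiv (pushEquiv i U)
  have hlf := h1 M hq hft hflat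
  obtain ⟨-, hfl, hlfp⟩ := isFinLocFree_of_pushforward i hlf
  haveI := hfl
  haveI := hlfp
  have hopen : IsOpen (Set.range i) := i.isOpenMap.isOpen_range
  have hr : Set.range i = Z := by
    rw [hi, Scheme.IdealSheafData.range_subschemeι]
    have := congrArg (fun C : TopologicalSpace.Closeds X => (C : Set X)) hI
    exact this
  rw [← hr]
  exact hopen

end Groth.Agent.Lib.Helper14.FlatLocFree
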