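import Mathlib

/-!
# Lazard-type stage arguments for tensor powers of flat modules (helper14)

`exists_factor_slot`, `equiv_map`, `claim`, `exists_factor_of_map_eq_zero` (Lemma L: a tensor in
`T^d(A^κ)` dying in `T^d(M)`, `M` flat, dies in a finite free stage `A^κ → A^κ' → M`),
`exists_factor_of_forall_map_eq_zero` (finite families), `sumMap`/`sumInl`/`sumInr` (sum of stages),
`exists_rep`, `exists_rep_family` (every tensor comes from a stage), `exists_symm_rep_family`
(symmetric tensors of a flat module come from symmetric tensors of a finite free stage).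
-/

set_option autoImplicit false
universe u
open TensorProduct

namespace Groth.Agent.Lib.Helper14.FlatStage

section slot
variable {A : Type u} [CommRing A] {M : Type u} [AddCommGroup M] [Module A M] [Module.Flat A M]

/-- slot lemma: a relation in `Y ⊗ M` coming from a finite free module trivialises in a
finite free stage -/
lemma exists_factor_slot {Y : Type u} [AddCommGroup Y] [Module A Y] {κ : Type} [Fintype κ]
    [DecidableEq κ] (u : (κ → A) →ₗ[A] M) (w : Y ⊗[A] (κ → A)) (hw : u.lTensor Y w = 0) :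
    ∃ (k' : ℕ) (a : (κ → A) →ₗ[A] (Fin k' → A)) (y : (Fin k' → A) →ₗ[A] M),
      y ∘ₗ a = u ∧ a.lTensor Y w = 0 := by
  classical
  -- write `w = ∑ wⱼ ⊗ eⱼ`
  let wj : κ → Y := TensorProduct.piScalarRight A A Y κ w
  have hwsum : w = ∑ j, wj j ⊗ₜ[A] (Pi.single j (1 : A) : κ → A) := by
    apply (TensorProduct.piScalarRight A A Y κ).injective
    ext j
    simp [wj, TensorProduct.piScalarRight_apply, Finset.sum_apply, Pi.single_apply]
  have h0 : ∑ j, wj j ⊗ₜ[A] u (Pi.single j (1 : A)) = 0 := by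
    rw [← hw, hwsum, map_sum]
    simp
  have hinj : Function.Injective
      (LinearMap.rTensor M (Submodule.span A (Set.range wj)).subtype) :=
    Module.Flat.rTensor_preserves_injective_linearMap _ (Submodule.injective_subtype _)
  obtain ⟨k', a, y, hy, ha⟩ :=
    TensorProduct.vanishesTrivially_of_sum_tmul_eq_zero_of_rTensor_injective A hinj h0
  refine ⟨k', Fintype.linearCombination A (fun j => (a j : Fin k' → A)),
    Fintype.linearCombination A y, ?_, ?_⟩
  · apply LinearMap.pi_ext'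
    intro j
    ext
    simp [Fintype.linearCombination_apply, hy j, Pi.single_apply]
  · rw [hwsum, map_sum]
    simp only [LinearMap.lTensor_tmul, Fintype.linearCombination_apply]
    apply (TensorProduct.piScalarRight A A Y (Fin k')).injective
    ext l
    simp only [map_sum, map_zero, Finset.sum_apply, Pi.zero_apply]
    rw [← ha l]
    refine Finset.sum_congr rfl (fun x _ => ?_)
    simp [TensorProduct.piScalarRight_apply, Pi.single_apply]

end slot

section nat
variable {A : Type u} [CommRing A] {ι : Type} [DecidableEq ι]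
  {X X' : Type u} [AddCommGroup X] [Module A X] [AddCommGroup X'] [Module A X']

lemma equiv_map (i₀ : ι) (φ : ι → (X →ₗ[A] X')) (t : ⨂[A] _ : ι, X) :
    PiTensorProduct.equivPiTensorComplSingletonTensor A (fun _ : ι => X') i₀
        (PiTensorProduct.map φ t) =
      TensorProduct.map (PiTensorProduct.map (fun i : ({i₀}ᶜ : Set ι) => φ i)) (φ i₀)
        (PiTensorProduct.equivPiTensorComplSingletonTensor A (fun _ : ι => X) i₀ t) := by
  induction t using PiTensorProduct.induction_on with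
  | smul_tprod r f =>
    simp only [map_smul, PiTensorProduct.map_tprod,
      PiTensorProduct.equivPiTensorComplSingletonTensor_tprod, TensorProduct.map_tmul]
    rfl
  | add x y hx hy => simp only [map_add, hx, hy]

end nat

section claim
variable {A : Type u} [CommRing A] {M : Type u} [AddCommGroup M] [Module A M]
  (d : ℕ)

/-- the maps used in the induction: `inl ∘ u` in the slots `< m`, `inr` in the others -/
noncomputable def gmap {κ : Type} (m : ℕ) (u : (κ → A) →ₗ[A] M) (i : Fin d) :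
    (κ → A) →ₗ[A] M × (κ → A) :=
  if i.val < m then (LinearMap.inl A M (κ → A)) ∘ₗ u else LinearMap.inr A M (κ → A)

lemma gmap_comp {κ κ' : Type} (m : ℕ) (y : (κ' → A) →ₗ[A] M) (a : (κ → A) →ₗ[A] (κ' → A))
    (i : Fin d) :
    gmap d m y i ∘ₗ a = (LinearMap.prodMap LinearMap.id a) ∘ₗ gmap d m (y ∘ₗ a) i := by
  unfold gmap
  split_ifs
  · ext x <;> simp
  · ext x <;> simp

variable [Module.Flat A M]

theorem claim (m : ℕ) : ∀ {κ : Type} [Fintype κ] [DecidableEq κ] (u : (κ → A) →ₗ[A] M)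
    (z : ⨂[A] _ : Fin d, (κ → A)), PiTensorProduct.map (gmap d m u) z = 0 →
    ∃ (κ' : Type) (_ : Fintype κ') (_ : DecidableEq κ') (a : (κ → A) →ₗ[A] (κ' → A))
      (y : (κ' → A) →ₗ[A] M), y ∘ₗ a = u ∧ PiTensorProduct.map (fun _ => a) z = 0 := by
  induction m with
  | zero =>
    intro κ _ _ u z hz
    refine ⟨κ, inferInstance, inferInstance, LinearMap.id, u, LinearMap.comp_id u, ?_⟩
    have h1 : gmap d 0 u = fun _ => LinearMap.inr A M (κ → A) := by
      funext i
      simp [gmap]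
    rw [h1] at hz
    have h2 := congrArg (PiTensorProduct.map (fun _ : Fin d => LinearMap.snd A M (κ → A))) hz
    rw [map_zero, ← LinearMap.comp_apply, ← PiTensorProduct.map_comp] at h2
    simp only [LinearMap.snd_comp_inr] at h2
    rw [PiTensorProduct.map_id] at h2 ⊢
    exact h2
  | succ m ih =>
    intro κ _ _ u z hz
    by_cases hm : m < d
    · let i₀ : Fin d := ⟨m, hm⟩
      set Y := ⨂[A] _ : ({i₀}ᶜ : Set (Fin d)), (M × (κ → A)) with hY
      let G' : (⨂[A] _ : ({i₀}ᶜ : Set (Fin d)), (κ → A)) →ₗ[A] Y :=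
        PiTensorProduct.map (fun i : ({i₀}ᶜ : Set (Fin d)) => gmap d m u i)
      let E := PiTensorProduct.equivPiTensorComplSingletonTensor A (fun _ : Fin d => (κ → A)) i₀
      let w : Y ⊗[A] (κ → A) := TensorProduct.map G' LinearMap.id (E z)
      have hG1 : (fun i : ({i₀}ᶜ : Set (Fin d)) => gmap d (m + 1) u i) =
          fun i : ({i₀}ᶜ : Set (Fin d)) => gmap d m u i := by
        funext i
        have hi : (i : Fin d) ≠ i₀ := i.2
        have hi' : (i : Fin d).val ≠ m := fun h => hi (Fin.ext h)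
        unfold gmap
        by_cases h : (i : Fin d).val < m
        · rw [if_pos h, if_pos (Nat.lt_succ_of_lt h)]
        · rw [if_neg h, if_neg (by omega)]
      have hG2 : gmap d (m + 1) u i₀ = (LinearMap.inl A M (κ → A)) ∘ₗ u := by
        simp [gmap, i₀]
      have hG3 : gmap d m u i₀ = LinearMap.inr A M (κ → A) := by
        simp [gmap, i₀]
      have hw : u.lTensor Y w = 0 := by
        have h1 := equiv_map i₀ (gmap d (m + 1) u) z
        rw [hz, map_zero, hG1, hG2] at h1
        have h2 := congrArg ((LinearMap.fst A M (κ → A)).lTensor Y) h1.symm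
        rw [map_zero, LinearMap.lTensor, ← LinearMap.comp_apply, ← TensorProduct.map_comp] at h2
        rw [LinearMap.lTensor, ← LinearMap.comp_apply, ← TensorProduct.map_comp]
        rw [← h2]
        congr 2
      obtain ⟨k', a, y, hya, haw⟩ := exists_factor_slot u w hw
      have hz' : PiTensorProduct.map (gmap d m y) (PiTensorProduct.map (fun _ => a) z) = 0 := by
        rw [← LinearMap.comp_apply, ← PiTensorProduct.map_comp]
        simp_rw [gmap_comp, hya]
        rw [PiTensorProduct.map_comp, LinearMap.comp_apply]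
        apply (PiTensorProduct.equivPiTensorComplSingletonTensor A
          (fun _ : Fin d => (M × (Fin k' → A))) i₀).injective
        rw [equiv_map, equiv_map, hG3, map_zero, ← LinearMap.comp_apply, ← TensorProduct.map_comp]
        have h3 : (LinearMap.prodMap LinearMap.id a) ∘ₗ LinearMap.inr A M (κ → A) =
            LinearMap.inr A M (Fin k' → A) ∘ₗ a := by
          ext x <;> simp
        rw [h3]
        have h4 := congrArg (TensorProduct.map (PiTensorProduct.map
          (fun _ : ({i₀}ᶜ : Set (Fin d)) => LinearMap.prodMap (LinearMap.id : M →ₗ[A] M) a))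
            (LinearMap.inr A M (Fin k' → A))) haw
        rw [map_zero, LinearMap.lTensor, ← LinearMap.comp_apply, ← TensorProduct.map_comp,
          ← LinearMap.comp_apply, ← TensorProduct.map_comp] at h4
        rw [← h4]
        congr 2
      obtain ⟨κ'', i1, i2, a', y', hy', hz''⟩ := ih y _ hz'
      refine ⟨κ'', i1, i2, a' ∘ₗ a, y', ?_, ?_⟩
      · rw [← LinearMap.comp_assoc, hy', hya]
      · rw [← LinearMap.comp_apply, ← PiTensorProduct.map_comp] at hz''
        exact hz''
    · have h1 : gmap d (m + 1) u = gmap d m u := by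
        funext i
        unfold gmap
        rw [if_pos (by omega), if_pos (by omega)]
      rw [h1] at hz
      exact ih u z hz

end claim

section lemmaL
variable {A : Type u} [CommRing A] {M : Type u} [AddCommGroup M] [Module A M]
  (d : ℕ)

/-- the `d`-th tensor power of a linear map -/
noncomputable abbrev Tmap {X X' : Type*} [AddCommGroup X] [Module A X] [AddCommGroup X']
    [Module A X'] (f : X →ₗ[A] X') : (⨂[A] _ : Fin d, X) →ₗ[A] (⨂[A] _ : Fin d, X') :=
  PiTensorProduct.map (fun _ => f)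

lemma Tmap_comp {X X' X'' : Type*} [AddCommGroup X] [Module A X] [AddCommGroup X']
    [Module A X'] [AddCommGroup X''] [Module A X''] (g : X' →ₗ[A] X'') (f : X →ₗ[A] X')
    (z : ⨂[A] _ : Fin d, X) : Tmap d (g ∘ₗ f) z = Tmap d g (Tmap d f z) := by
  rw [Tmap, Tmap, Tmap, ← LinearMap.comp_apply, ← PiTensorProduct.map_comp]

lemma Tmap_id {X : Type*} [AddCommGroup X] [Module A X] (z : ⨂[A] _ : Fin d, X) :
    Tmap d (LinearMap.id : X →ₗ[A] X) z = z := by
  rw [Tmap, PiTensorProduct.map_id]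
  rfl

lemma Tmap_reindex {X X' : Type*} [AddCommGroup X] [Module A X] [AddCommGroup X']
    [Module A X'] (f : X →ₗ[A] X') (σ : Equiv.Perm (Fin d)) (z : ⨂[A] _ : Fin d, X) :
    Tmap d f (PiTensorProduct.reindex A (fun _ : Fin d => X) σ z) =
      PiTensorProduct.reindex A (fun _ : Fin d => X') σ (Tmap d f z) :=
  PiTensorProduct.map_reindex (fun _ : Fin d => f) σ z

variable [Module.Flat A M]

/-- **Lemma L**: a tensor in `T^d(A^κ)` dying in `T^d(M)` dies in a finite free stage. -/
theorem exists_factor_of_map_eq_zero {κ : Type} [Fintype κ] [DecidableEq κ]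
    (u : (κ → A) →ₗ[A] M) (z : ⨂[A] _ : Fin d, (κ → A)) (hz : Tmap d u z = 0) :
    ∃ (κ' : Type) (_ : Fintype κ') (_ : DecidableEq κ') (a : (κ → A) →ₗ[A] (κ' → A))
      (y : (κ' → A) →ₗ[A] M), y ∘ₗ a = u ∧ Tmap d a z = 0 := by
  apply claim d d u z
  have h1 : gmap d d u = fun _ => (LinearMap.inl A M (κ → A)) ∘ₗ u := by
    funext i
    simp [gmap]
  rw [h1, PiTensorProduct.map_comp, LinearMap.comp_apply]
  show PiTensorProduct.map _ (Tmap d u z) = 0
  rw [hz, map_zero]

/-- finite family version of Lemma L -/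
theorem exists_factor_of_forall_map_eq_zero {ι : Type*} (s : Finset ι) :
    ∀ {κ : Type} [Fintype κ] [DecidableEq κ] (u : (κ → A) →ₗ[A] M)
      (z : ι → ⨂[A] _ : Fin d, (κ → A)), (∀ i ∈ s, Tmap d u (z i) = 0) →
    ∃ (κ' : Type) (_ : Fintype κ') (_ : DecidableEq κ') (a : (κ → A) →ₗ[A] (κ' → A))
      (y : (κ' → A) →ₗ[A] M), y ∘ₗ a = u ∧ ∀ i ∈ s, Tmap d a (z i) = 0 := by
  classical
  induction s using Finset.induction_on with
  | empty =>
    intro κ _ _ u z _
    exact ⟨κ, inferInstance, inferInstance, LinearMap.id, u, LinearMap.comp_id u, by simp⟩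
  | insert i₀ s hi₀ ih =>
    intro κ _ _ u z hz
    obtain ⟨κ₁, _, _, a₁, y₁, hy₁, hz₁⟩ :=
      exists_factor_of_map_eq_zero d u (z i₀) (hz i₀ (Finset.mem_insert_self _ _))
    obtain ⟨κ₂, i1, i2, a₂, y₂, hy₂, hz₂⟩ := ih y₁ (fun i => Tmap d a₁ (z i)) (fun i hi => by
      rw [← Tmap_comp, hy₁]
      exact hz i (Finset.mem_insert_of_mem hi))
    refine ⟨κ₂, i1, i2, a₂ ∘ₗ a₁, y₂, ?_, ?_⟩
    · rw [← LinearMap.comp_assoc, hy₂, hy₁]
    · intro i hi
      rw [Tmap_comp]
      rcases Finset.mem_insert.mp hi with rfl | hi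
      · rw [hz₁, map_zero]
      · exact hz₂ i hi

end lemmaL

section stages
variable {A : Type u} [CommRing A] {M : Type u} [AddCommGroup M] [Module A M]
  (d : ℕ)

/-- the sum of two stages -/
noncomputable def sumMap {κ₁ κ₂ : Type} (u₁ : (κ₁ → A) →ₗ[A] M) (u₂ : (κ₂ → A) →ₗ[A] M) :
    (κ₁ ⊕ κ₂ → A) →ₗ[A] M :=
  (u₁.coprod u₂) ∘ₗ (LinearEquiv.sumArrowLequivProdArrow κ₁ κ₂ A A).toLinearMap

/-- first inclusion -/
noncomputable def sumInl (κ₁ κ₂ : Type) : (κ₁ → A) →ₗ[A] (κ₁ ⊕ κ₂ → A) :=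
  (LinearEquiv.sumArrowLequivProdArrow κ₁ κ₂ A A).symm.toLinearMap ∘ₗ LinearMap.inl A _ _

/-- second inclusion -/
noncomputable def sumInr (κ₁ κ₂ : Type) : (κ₂ → A) →ₗ[A] (κ₁ ⊕ κ₂ → A) :=
  (LinearEquiv.sumArrowLequivProdArrow κ₁ κ₂ A A).symm.toLinearMap ∘ₗ LinearMap.inr A _ _

lemma sumMap_comp_sumInl {κ₁ κ₂ : Type} (u₁ : (κ₁ → A) →ₗ[A] M) (u₂ : (κ₂ → A) →ₗ[A] M) :
    sumMap u₁ u₂ ∘ₗ sumInl κ₁ κ₂ = u₁ := by
  ext x
  simp [sumMap, sumInl]

lemma sumMap_comp_sumInr {κ₁ κ₂ : Type} (u₁ : (κ₁ → A) →ₗ[A] M) (u₂ : (κ₂ → A) →ₗ[A] M) :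
    sumMap u₁ u₂ ∘ₗ sumInr κ₁ κ₂ = u₂ := by
  ext x
  simp [sumMap, sumInr]

/-- every tensor comes from a finite free stage -/
theorem exists_rep (t : ⨂[A] _ : Fin d, M) :
    ∃ (κ : Type) (_ : Fintype κ) (_ : DecidableEq κ) (u : (κ → A) →ₗ[A] M)
      (z : ⨂[A] _ : Fin d, (κ → A)), Tmap d u z = t := by
  classical
  induction t using PiTensorProduct.induction_on with
  | smul_tprod r f =>
    refine ⟨Fin d, inferInstance, inferInstance, Fintype.linearCombination A f,
      r • PiTensorProduct.tprod A (fun i => (Pi.single i (1 : A) : Fin d → A)), ?_⟩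
    rw [map_smul, Tmap, PiTensorProduct.map_tprod]
    congr 2
    funext i
    simp [Fintype.linearCombination_apply, Pi.single_apply]
  | add x y hx hy =>
    obtain ⟨κ₁, _, _, u₁, z₁, rfl⟩ := hx
    obtain ⟨κ₂, _, _, u₂, z₂, rfl⟩ := hy
    refine ⟨κ₁ ⊕ κ₂, inferInstance, inferInstance, sumMap u₁ u₂,
      Tmap d (sumInl κ₁ κ₂) z₁ + Tmap d (sumInr κ₁ κ₂) z₂, ?_⟩
    rw [map_add, ← Tmap_comp, ← Tmap_comp, sumMap_comp_sumInl, sumMap_comp_sumInr]

/-- finite family version -/
theorem exists_rep_family {ι : Type*} (s : Finset ι) (t : ι → ⨂[A] _ : Fin d, M) :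
    ∃ (κ : Type) (_ : Fintype κ) (_ : DecidableEq κ) (u : (κ → A) →ₗ[A] M)
      (z : ι → ⨂[A] _ : Fin d, (κ → A)), ∀ i ∈ s, Tmap d u (z i) = t i := by
  classical
  induction s using Finset.induction_on with
  | empty =>
    exact ⟨PEmpty, inferInstance, inferInstance, 0, fun _ => 0, by simp⟩
  | insert i₀ s hi₀ ih =>
    obtain ⟨κ₁, _, _, u₁, z₁, h₁⟩ := ih
    obtain ⟨κ₂, _, _, u₂, z₂, h₂⟩ := exists_rep d (t i₀)
    refine ⟨κ₁ ⊕ κ₂, inferInstance, inferInstance, sumMap u₁ u₂,
      fun i => if i = i₀ then Tmap d (sumInr κ₁ κ₂) z₂ else Tmap d (sumInl κ₁ κ₂) (z₁ i), ?_⟩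
    intro i hi
    beta_reduce
    by_cases h : i = i₀
    · subst h
      rw [if_pos rfl, ← Tmap_comp, sumMap_comp_sumInr, h₂]
    · rw [if_neg h, ← Tmap_comp, sumMap_comp_sumInl]
      exact h₁ i ((Finset.mem_insert.mp hi).resolve_left h)

variable [Module.Flat A M]

/-- symmetric tensors of a flat module come from symmetric tensors of a finite free stage -/
theorem exists_symm_rep_family {ι : Type*} (s : Finset ι) (t : ι → ⨂[A] _ : Fin d, M)
    (ht : ∀ i ∈ s, ∀ σ : Equiv.Perm (Fin d),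
      PiTensorProduct.reindex A (fun _ : Fin d => M) σ (t i) = t i) :
    ∃ (κ : Type) (_ : Fintype κ) (_ : DecidableEq κ) (u : (κ → A) →ₗ[A] M)
      (z : ι → ⨂[A] _ : Fin d, (κ → A)), ∀ i ∈ s,
        (∀ σ : Equiv.Perm (Fin d),
          PiTensorProduct.reindex A (fun _ : Fin d => (κ → A)) σ (z i) = z i) ∧
        Tmap d u (z i) = t i := by
  classical
  obtain ⟨κ₁, _, _, u₁, z₁, h₁⟩ := exists_rep_family d s t
  obtain ⟨κ₂, i1, i2, a, y, hy, hz⟩ := exists_factor_of_forall_map_eq_zero d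
    (s ×ˢ (Finset.univ : Finset (Equiv.Perm (Fin d)))) u₁
    (fun p : ι × Equiv.Perm (Fin d) =>
      PiTensorProduct.reindex A (fun _ : Fin d => (κ₁ → A)) p.2 (z₁ p.1) - z₁ p.1)
    (fun p hp => by
      have hp1 : p.1 ∈ s := (Finset.mem_product.mp hp).1
      rw [map_sub, Tmap_reindex, h₁ p.1 hp1, ht p.1 hp1, sub_self])
  refine ⟨κ₂, i1, i2, y, fun i => Tmap d a (z₁ i), fun i hi => ⟨fun σ => ?_, ?_⟩⟩
  · have h2 := hz (i, σ) (Finset.mem_product.mpr ⟨hi, Finset.mem_univ _⟩)
    rw [map_sub, Tmap_reindex] at h2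
    exact sub_eq_zero.mp h2
  · rw [← Tmap_comp, hy, h₁ i hi]

end stages

end Groth.Agent.Lib.Helper14.FlatStage
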