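import Mathlib
import Groth.Agent.Lib.Helper14FlatStage

/-!
# `Fin`-indexed versions of the stage lemmas (helper14)
-/

set_option autoImplicit false
universe u
open TensorProduct

namespace Groth.Agent.Lib.Helper14.FlatStage

section fin
variable {A : Type u} [CommRing A] {M : Type u} [AddCommGroup M] [Module A M]
  (d : ℕ) [Module.Flat A M]

/-- `Fin`-indexed version of `exists_symm_rep_family` -/
theorem exists_symm_rep_family_fin {ι : Type*} (s : Finset ι) (t : ι → ⨂[A] _ : Fin d, M)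
    (ht : ∀ i ∈ s, ∀ σ : Equiv.Perm (Fin d),
      PiTensorProduct.reindex A (fun _ : Fin d => M) σ (t i) = t i) :
    ∃ (m : ℕ) (u : (Fin m → A) →ₗ[A] M)
      (z : ι → ⨂[A] _ : Fin d, (Fin m → A)), ∀ i ∈ s,
        (∀ σ : Equiv.Perm (Fin d),
          PiTensorProduct.reindex A (fun _ : Fin d => (Fin m → A)) σ (z i) = z i) ∧
        Tmap d u (z i) = t i := by
  obtain ⟨κ, _, _, u, z, hz⟩ := exists_symm_rep_family d s t ht
  let e : κ ≃ Fin (Fintype.card κ) := Fintype.equivFin κ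
  let L : (Fin (Fintype.card κ) → A) ≃ₗ[A] (κ → A) := LinearEquiv.funCongrLeft A A e
  refine ⟨Fintype.card κ, u ∘ₗ L.toLinearMap, fun i => Tmap d L.symm.toLinearMap (z i),
    fun i hi => ⟨fun σ => ?_, ?_⟩⟩
  · rw [← Tmap_reindex, (hz i hi).1 σ]
  · rw [← Tmap_comp, LinearMap.comp_assoc]
    have : L.toLinearMap ∘ₗ L.symm.toLinearMap = LinearMap.id := by
      ext x
      simp
    rw [this, LinearMap.comp_id, (hz i hi).2]

/-- `Fin`-indexed version of Lemma L for finite families -/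
theorem exists_factor_fin {ι : Type*} (s : Finset ι) {m : ℕ} (u : (Fin m → A) →ₗ[A] M)
    (z : ι → ⨂[A] _ : Fin d, (Fin m → A)) (hz : ∀ i ∈ s, Tmap d u (z i) = 0) :
    ∃ (m' : ℕ) (a : (Fin m → A) →ₗ[A] (Fin m' → A))
      (y : (Fin m' → A) →ₗ[A] M), y ∘ₗ a = u ∧ ∀ i ∈ s, Tmap d a (z i) = 0 := by
  obtain ⟨κ, _, _, a, y, hy, ha⟩ := exists_factor_of_forall_map_eq_zero d s u z hz
  let e : κ ≃ Fin (Fintype.card κ) := Fintype.equivFin κ
  let L : (Fin (Fintype.card κ) → A) ≃ₗ[A] (κ → A) := LinearEquiv.funCongrLeft A A e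
  refine ⟨Fintype.card κ, L.symm.toLinearMap ∘ₗ a, y ∘ₗ L.toLinearMap, ?_, fun i hi => ?_⟩
  · rw [← hy]
    ext x
    simp
  · rw [Tmap_comp, ha i hi, map_zero]

end fin

end Groth.Agent.Lib.Helper14.FlatStage
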