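import Mathlib.LinearAlgebra.TensorProduct.Vanishing
import Mathlib.RingTheory.TensorProduct.DirectLimitFG
import Mathlib.Algebra.Module.FinitePresentation

/-! Helper14: a vanishing `(Q ⊗ f) z = 0` is witnessed on a finitely presented module `Q₀ → Q`. -/

namespace Groth.Agent.Lib.Helper14

open TensorProduct

universe u

theorem exists_fp_witness {R : Type u} [CommRing R] {M N Q : Type u} [AddCommGroup M] [Module R M]
    [AddCommGroup N] [Module R N] [AddCommGroup Q] [Module R Q] (f : M →ₗ[R] N) (z : Q ⊗[R] M)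
    (hz : f.lTensor Q z = 0) :
    ∃ (Q₀ : Type u) (_ : AddCommGroup Q₀) (_ : Module R Q₀) (_ : Module.FinitePresentation R Q₀)
      (u : Q₀ →ₗ[R] Q) (z₀ : Q₀ ⊗[R] M), u.rTensor M z₀ = z ∧ f.lTensor Q₀ z₀ = 0 := by
  classical
  obtain ⟨k, q, m, rfl⟩ := TensorProduct.exists_sum_tmul_eq z
  let P : Submodule R Q := Submodule.span R (Set.range q)
  have hP : P.FG := Submodule.fg_span (Set.finite_range q)
  let q' : Fin k → P := fun j => ⟨q j, Submodule.subset_span ⟨j, rfl⟩⟩
  let t : P ⊗[R] N := ∑ j, q' j ⊗ₜ[R] f (m j)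
  have ht : LinearMap.rTensor N P.subtype t = 0 := by
    simp only [t, map_sum, LinearMap.rTensor_tmul, Submodule.subtype_apply, q']
    simpa only [map_sum, LinearMap.lTensor_tmul] using hz
  obtain ⟨P', hPP', hP', ht'⟩ := TensorProduct.eq_zero_of_fg_of_subtype_eq_zero hP ht
  simp only [t, map_sum, LinearMap.rTensor_tmul] at ht'
  have : Module.Finite R P' := Module.Finite.iff_fg.mpr hP'
  obtain ⟨r, p, hp⟩ := Module.Finite.exists_fin (R := R) (M := P')
  let mm : Fin k ⊕ Fin r → P' := Sum.elim (fun j => Submodule.inclusion hPP' (q' j)) p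
  let nn : Fin k ⊕ Fin r → N := Sum.elim (fun j => f (m j)) (fun _ => 0)
  have hspan : Submodule.span R (Set.range mm) = ⊤ := by
    rw [eq_top_iff, ← hp]
    apply Submodule.span_mono
    rintro _ ⟨i, rfl⟩
    exact ⟨Sum.inr i, rfl⟩
  have hsum : ∑ i, mm i ⊗ₜ[R] nn i = 0 := by
    rw [Fintype.sum_sum_type]
    simp only [mm, nn, Sum.elim_inl, Sum.elim_inr, TensorProduct.tmul_zero, Finset.sum_const_zero,
      add_zero]
    exact ht'
  obtain ⟨κ, a, y, hay, ha⟩ := TensorProduct.vanishesTrivially_of_sum_tmul_eq_zero R hspan hsum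
  let W : Submodule R (Fin k ⊕ Fin r → R) :=
    Submodule.span R (Set.range (fun j : Fin κ => fun i => a i j))
  have hfp : Module.FinitePresentation R ((Fin k ⊕ Fin r → R) ⧸ W) :=
    Module.finitePresentation_of_surjective W.mkQ W.mkQ_surjective
      (by rw [Submodule.ker_mkQ]; exact Submodule.fg_span (Set.finite_range _))
  let u : ((Fin k ⊕ Fin r → R) ⧸ W) →ₗ[R] Q :=
    W.liftQ (Fintype.linearCombination R (fun i => (mm i : Q))) (by
      rw [Submodule.span_le]
      rintro _ ⟨j, rfl⟩
      simp only [SetLike.mem_coe, LinearMap.mem_ker, Fintype.linearCombination_apply]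
      have := congrArg P'.subtype (ha j)
      simpa using this)
  let e : Fin k ⊕ Fin r → (Fin k ⊕ Fin r → R) ⧸ W := fun i => W.mkQ (Pi.single i 1)
  have hue : ∀ i, u (e i) = (mm i : Q) := by
    intro i
    simp only [u, e, Submodule.mkQ_apply, Submodule.liftQ_apply,
      Fintype.linearCombination_apply_single, one_smul]
  have hsum_e : ∀ c : Fin k ⊕ Fin r → R, ∑ i, c i • e i = W.mkQ c := by
    intro c
    simp only [e, ← map_smul, ← map_sum]
    congr 1
    conv_rhs => rw [pi_eq_sum_univ' c]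
  refine ⟨(Fin k ⊕ Fin r → R) ⧸ W, inferInstance, inferInstance, hfp, u,
    ∑ j : Fin k, e (Sum.inl j) ⊗ₜ[R] m j, ?_, ?_⟩
  · simp only [map_sum, LinearMap.rTensor_tmul, hue]
    rfl
  · simp only [map_sum, LinearMap.lTensor_tmul]
    have h1 : ∑ j : Fin k, e (Sum.inl j) ⊗ₜ[R] f (m j) = ∑ i, e i ⊗ₜ[R] nn i := by
      rw [Fintype.sum_sum_type]
      simp only [nn, Sum.elim_inl, Sum.elim_inr, TensorProduct.tmul_zero, Finset.sum_const_zero,
        add_zero]
    rw [h1]
    have h2 : ∀ i, e i ⊗ₜ[R] nn i = ∑ j, (a i j • e i) ⊗ₜ[R] y j := by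
      intro i
      have hayi : nn i = ∑ j, a i j • y j := hay i
      rw [hayi, TensorProduct.tmul_sum]
      refine Finset.sum_congr rfl fun j _ => ?_
      rw [TensorProduct.tmul_smul, TensorProduct.smul_tmul']
    simp only [h2]
    rw [Finset.sum_comm]
    simp only [← TensorProduct.sum_tmul]
    refine Finset.sum_eq_zero fun j _ => ?_
    rw [hsum_e (fun i => a i j), Submodule.mkQ_apply,
      (Submodule.Quotient.mk_eq_zero W).mpr (Submodule.subset_span ⟨j, rfl⟩),
      TensorProduct.zero_tmul]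

end Groth.Agent.Lib.Helper14

namespace Groth.Agent.Lib.Helper14

open TensorProduct

universe u

theorem comm_lTensor {R : Type u} [CommRing R] {M N Q : Type u} [AddCommGroup M] [Module R M]
    [AddCommGroup N] [Module R N] [AddCommGroup Q] [Module R Q] (h : M →ₗ[R] N) (w : Q ⊗[R] M) :
    TensorProduct.comm R Q N (h.lTensor Q w) = h.rTensor Q (TensorProduct.comm R Q M w) := by
  induction w using TensorProduct.induction_on with
  | zero => simp
  | tmul x y => simp
  | add x y hx hy => simp only [map_add, hx, hy]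

theorem comm_rTensor {R : Type u} [CommRing R] {M N Q : Type u} [AddCommGroup M] [Module R M]
    [AddCommGroup N] [Module R N] [AddCommGroup Q] [Module R Q] (h : M →ₗ[R] N) (w : M ⊗[R] Q) :
    TensorProduct.comm R N Q (h.rTensor Q w) = h.lTensor Q (TensorProduct.comm R M Q w) := by
  induction w using TensorProduct.induction_on with
  | zero => simp
  | tmul x y => simp
  | add x y hx hy => simp only [map_add, hx, hy]

/-- Right-handed version of `exists_fp_witness`. -/
theorem exists_fp_witness' {R : Type u} [CommRing R] {M N Q : Type u} [AddCommGroup M] [Module R M]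
    [AddCommGroup N] [Module R N] [AddCommGroup Q] [Module R Q] (f : M →ₗ[R] N) (z : M ⊗[R] Q)
    (hz : f.rTensor Q z = 0) :
    ∃ (Q₀ : Type u) (_ : AddCommGroup Q₀) (_ : Module R Q₀) (_ : Module.FinitePresentation R Q₀)
      (u : Q₀ →ₗ[R] Q) (z₀ : M ⊗[R] Q₀), u.lTensor M z₀ = z ∧ f.rTensor Q₀ z₀ = 0 := by
  have hz' : f.lTensor Q (TensorProduct.comm R M Q z) = 0 := by
    rw [← comm_rTensor, hz, map_zero]
  obtain ⟨Q₀, i1, i2, i3, u, z₀, h1, h2⟩ := exists_fp_witness f _ hz'
  refine ⟨Q₀, i1, i2, i3, u, TensorProduct.comm R Q₀ M z₀, ?_, ?_⟩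
  · rw [← comm_rTensor, h1]
    exact (TensorProduct.comm R M Q).symm_apply_apply z
  · rw [← comm_lTensor, h2, map_zero]

end Groth.Agent.Lib.Helper14
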