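/-
helper14: Lang-type theorem for Frobenius-semilinear maps, part A: linear-independence lemma and
the auxiliary additive polynomials (pure Mathlib).
-/
import Mathlib

set_option autoImplicit false
set_option linter.unusedSectionVars false
set_option linter.style.haveILetI false
universe u w

open Polynomial

namespace Groth.Agent.Lib.Helper14.FrobLang

section Field

variable (p : ℕ) [Fact p.Prime] {k : Type u} [Field k] [CharP k p]
  {V : Type w} [AddCommGroup V] [Module k V]

/-- A Frobenius-semilinear map in coordinates. -/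
theorem map_sum_smul (T : V →ₛₗ[frobenius k p] V) {ι : Type*} (s : Finset ι) (a : ι → k)
    (v : ι → V) : T (∑ i ∈ s, a i • v i) = ∑ i ∈ s, a i ^ p • T (v i) := by
  rw [map_sum]
  refine Finset.sum_congr rfl fun i _ => ?_
  rw [map_smulₛₗ, frobenius_def]

theorem range_le_span_basis (T : V →ₛₗ[frobenius k p] V) {ι : Type*} [Fintype ι]
    (b : Module.Basis ι k V) :
    Submodule.span k (Set.range T) ≤ Submodule.span k (Set.range fun j => T (b j)) := by
  rw [Submodule.span_le]
  rintro _ ⟨x, rfl⟩
  rw [← b.sum_repr x, map_sum_smul]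
  exact Submodule.sum_mem _ fun j _ =>
    Submodule.smul_mem _ _ (Submodule.subset_span ⟨j, rfl⟩)

variable [Module.Finite k V]

/-- A Frobenius-semilinear map whose image spans maps linearly independent families to linearly
independent families. -/
theorem li_map (T : V →ₛₗ[frobenius k p] V) (hspan : Submodule.span k (Set.range T) = ⊤)
    {ι : Type*} (e : ι → V) (he : LinearIndependent k e) :
    LinearIndependent k (fun i => T (e i)) := by
  classical
  have hs : LinearIndepOn k id (Set.range e) := he.linearIndepOn_id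
  let b := Module.Basis.extend hs
  haveI : Finite ↑(hs.extend (Set.subset_univ _)) := Module.Finite.finite_basis b
  haveI := Fintype.ofFinite ↑(hs.extend (Set.subset_univ _))
  have hsp : ⊤ ≤ Submodule.span k (Set.range fun j => T (b j)) := by
    rw [← hspan]
    exact range_le_span_basis p T b
  have hli := linearIndependent_of_top_le_span_of_card_eq_finrank hsp
    (Module.finrank_eq_card_basis b).symm
  let f : ι → ↑(hs.extend (Set.subset_univ _)) := fun i =>
    ⟨e i, hs.subset_extend _ ⟨i, rfl⟩⟩
  have hf : Function.Injective f := fun i j hij => he.injective (congrArg Subtype.val hij)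
  have := hli.comp f hf
  convert this using 1
  ext i
  simp [f, b]

end Field
section Poly

variable (p : ℕ) [Fact p.Prime] {k : Type u} [Field k] [CharP k p]

/-- the auxiliary additive polynomials -/
noncomputable def Y (c : ℕ → k) : ℕ → k[X]
  | 0 => C (c 0) * X ^ p
  | (i+1) => (Y c i) ^ p + C (c (i+1)) * X ^ p

theorem Y_zero (c : ℕ → k) : Y p c 0 = C (c 0) * X ^ p := rfl

theorem Y_succ (c : ℕ → k) (i : ℕ) : Y p c (i+1) = (Y p c i) ^ p + C (c (i+1)) * X ^ p := rfl

theorem derivative_C_mul_X_pow_p (a : k) : derivative (C a * (X : k[X]) ^ p) = 0 := by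
  rw [derivative_C_mul, derivative_X_pow, CharP.cast_eq_zero k p, map_zero, zero_mul, mul_zero]

theorem derivative_Y (c : ℕ → k) (i : ℕ) : derivative (Y p c i) = 0 := by
  cases i with
  | zero => rw [Y_zero, derivative_C_mul_X_pow_p]
  | succ i =>
    rw [Y_succ, derivative_add, derivative_C_mul_X_pow_p, derivative_pow,
      CharP.cast_eq_zero k p, map_zero, zero_mul, zero_mul, zero_add]

theorem eval_zero_Y (c : ℕ → k) (i : ℕ) : (Y p c i).eval 0 = 0 := by
  have hp : p ≠ 0 := (Fact.out : p.Prime).ne_zero
  induction i with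
  | zero => simp [Y_zero, hp]
  | succ i ih => simp [Y_succ, ih, hp]

theorem natDegree_Y_le (c : ℕ → k) (i : ℕ) : (Y p c i).natDegree ≤ p ^ (i + 1) := by
  induction i with
  | zero =>
    rw [Y_zero, zero_add, pow_one]
    exact natDegree_C_mul_X_pow_le _ _
  | succ i ih =>
    rw [Y_succ]
    refine (natDegree_add_le _ _).trans (max_le ?_ ?_)
    · refine natDegree_pow_le.trans ?_
      rw [pow_succ _ (i + 1), mul_comm]
      exact Nat.mul_le_mul_right _ ih
    · refine (natDegree_C_mul_X_pow_le _ _).trans ?_
      exact Nat.le_self_pow (by omega) p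

theorem coeff_Y_top (c : ℕ → k) (i : ℕ) : (Y p c i).coeff (p ^ (i + 1)) = c 0 ^ p ^ i := by
  have hp1 : 1 < p := (Fact.out : p.Prime).one_lt
  induction i with
  | zero => simp [Y_zero]
  | succ i ih =>
    rw [Y_succ, coeff_add, coeff_C_mul_X_pow, if_neg, add_zero, pow_succ _ (i + 1), mul_comm,
      coeff_pow_of_natDegree_le (natDegree_Y_le p c i), ih, ← pow_mul, ← pow_succ]
    intro h
    have : p ^ (i + 1 + 1) = p ^ 1 := by rw [pow_one]; exact h
    have := Nat.pow_right_injective hp1 this
    omega

theorem exists_root_Y [IsSepClosed k] (c : ℕ → k) (hc : c 0 ≠ 0) (i : ℕ) :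
    ∃ t : k, t ≠ 0 ∧ (Y p c i).eval t = t := by
  have hp1 : 1 < p := (Fact.out : p.Prime).one_lt
  set Q : k[X] := Y p c i - X with hQ
  have hQ0 : Q.coeff 0 = 0 := by
    rw [hQ, coeff_sub, coeff_X_zero, sub_zero, coeff_zero_eq_eval_zero, eval_zero_Y]
  have hQX : Q = divX Q * X := by
    conv_lhs => rw [← divX_mul_X_add Q, hQ0, map_zero, add_zero]
  have hder : derivative Q = -1 := by
    rw [hQ, derivative_sub, derivative_Y, derivative_X, zero_sub]
  have hsep : Q.Separable := by
    rw [separable_def, hder]
    exact isCoprime_one_right.neg_right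
  have hsep1 : (divX Q).Separable := by
    rw [hQX] at hsep
    exact hsep.of_mul_left
  have hQtop : Q.coeff (p ^ (i + 1)) ≠ 0 := by
    rw [hQ, coeff_sub, coeff_Y_top, coeff_X, if_neg, sub_zero]
    · exact pow_ne_zero _ hc
    · intro h
      have : 1 < p ^ (i + 1) := Nat.one_lt_pow (by omega) hp1
      omega
  have hdeg : (divX Q).degree ≠ 0 := by
    intro h
    have h1 := eq_C_of_degree_eq_zero h
    rw [h1] at hQX
    apply hQtop
    rw [hQX, coeff_C_mul, coeff_X, if_neg, mul_zero]
    intro h
    have : 1 < p ^ (i + 1) := Nat.one_lt_pow (by omega) hp1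
    omega
  obtain ⟨t, ht⟩ := IsSepClosed.exists_root (divX Q) hdeg hsep1
  refine ⟨t, ?_, ?_⟩
  · rintro rfl
    have h2 : eval 0 (derivative Q) = eval 0 (divX Q) := by
      conv_lhs => rw [hQX, derivative_mul, derivative_X, mul_one]
      simp
    rw [hder, ht] at h2
    simp at h2
  · have h3 : Q.eval t = 0 := by rw [hQX, eval_mul, ht, zero_mul]
    rw [hQ, eval_sub, eval_X, sub_eq_zero] at h3
    exact h3

end Poly

end Groth.Agent.Lib.Helper14.FrobLang
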