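/-
helper14: Lang-type theorem for Frobenius-semilinear maps, part B: existence of a nonzero fixed
vector over a separably closed field (cyclic vector argument; pure Mathlib).
-/
import Mathlib
import Groth.Agent.Lib.Helper14FrobLangA

set_option autoImplicit false
set_option linter.unusedSectionVars false
universe u w

open Polynomial

namespace Groth.Agent.Lib.Helper14.FrobLang

section Field

variable (p : ℕ) [Fact p.Prime] {k : Type u} [Field k] [CharP k p]
  {V : Type w} [AddCommGroup V] [Module k V] [Module.Finite k V]

theorem exists_fixed_ne_zero [IsSepClosed k] [Nontrivial V] (T : V →ₛₗ[frobenius k p] V)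
    (hspan : Submodule.span k (Set.range T) = ⊤) : ∃ v : V, v ≠ 0 ∧ T v = v := by
  classical
  obtain ⟨w0, hw0⟩ := exists_ne (0 : V)
  let w : ℕ → V := fun i => (⇑T)^[i] w0
  have hw_succ : ∀ i, T (w i) = w (i + 1) := fun i => (Function.iterate_succ_apply' _ _ _).symm
  -- the first dependence
  have hex : ∃ m, ¬ LinearIndependent k (fun i : Fin (m + 1) => w i) := by
    refine ⟨Module.finrank k V, fun h => ?_⟩
    have := h.fintype_card_le_finrank
    simp at this
  let m := Nat.find hex
  have hm : ¬ LinearIndependent k (fun i : Fin (m + 1) => w i) := Nat.find_spec hex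
  have hli : LinearIndependent k (fun i : Fin m => w i) := by
    rcases Nat.eq_zero_or_pos m with h0 | hpos
    · rw [h0]; exact linearIndependent_empty_type
    · obtain ⟨m', hm'⟩ : ∃ m', m = m' + 1 := ⟨m - 1, by omega⟩
      have := Nat.find_min hex (m := m') (by change m' < m; omega)
      rw [not_not] at this
      rw [hm']
      exact this
  have hmem : w m ∈ Submodule.span k (Set.range fun i : Fin m => w i) := by
    by_contra hnot
    apply hm
    rw [linearIndependent_finSucc']
    exact ⟨hli, hnot⟩
  have hm0 : m ≠ 0 := by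
    intro h0
    rw [h0] at hmem
    simp at hmem
    exact hw0 hmem
  obtain ⟨m', hm'⟩ : ∃ m', m = m' + 1 := ⟨m - 1, by omega⟩
  obtain ⟨cF, hcF⟩ := (Submodule.mem_span_range_iff_exists_fun k).mp hmem
  let c : ℕ → k := fun i => if h : i < m then cF ⟨i, h⟩ else 0
  have hc_sum : w m = ∑ i ∈ Finset.range m, c i • w i := by
    rw [← hcF, ← Fin.sum_univ_eq_sum_range (fun i => c i • w i) m]
    refine Finset.sum_congr rfl fun i _ => ?_
    simp [c]
  have hli' : LinearIndependent k (fun i : Fin (m' + 1) => w i) := by
    have := hli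
    rw [hm'] at this
    exact this
  have hc_sum' : w (m' + 1) = ∑ i ∈ Finset.range (m' + 1), c i • w i := by
    rw [← hm']; exact hc_sum
  -- c 0 ≠ 0
  have hc0 : c 0 ≠ 0 := by
    intro h0
    have hli2 : LinearIndependent k (fun i : Fin (m' + 1) => T (w i)) :=
      li_map p T hspan (fun i : Fin (m' + 1) => w i) hli'
    rw [linearIndependent_finSucc'] at hli2
    apply hli2.2
    change T (w m') ∈ _
    rw [hw_succ, hc_sum', Finset.sum_range_succ', h0, zero_smul, add_zero]
    refine Submodule.sum_mem _ fun i hi => Submodule.smul_mem _ _ (Submodule.subset_span ?_)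
    refine ⟨⟨i, Finset.mem_range.mp hi⟩, ?_⟩
    simp [Fin.init, hw_succ]
  obtain ⟨t, ht0, ht⟩ := exists_root_Y p c hc0 m'
  let a : ℕ → k := fun i => (Y p c i).eval t
  have ha0 : a 0 = c 0 * t ^ p := by simp [a, Y_zero]
  have ha_succ : ∀ i, a (i + 1) = a i ^ p + c (i + 1) * t ^ p := fun i => by simp [a, Y_succ]
  have hat : a m' = t := ht
  refine ⟨∑ i ∈ Finset.range (m' + 1), a i • w i, ?_, ?_⟩
  · intro hzero
    rw [← Fin.sum_univ_eq_sum_range (fun i => a i • w i) (m' + 1)] at hzero
    have := (Fintype.linearIndependent_iff.mp hli') (fun i => a i) hzero (Fin.last m')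
    simp only [Fin.val_last] at this
    exact ht0 (hat ▸ this)
  · rw [map_sum_smul]
    simp only [hw_succ]
    rw [Finset.sum_range_succ, hc_sum']
    rw [Finset.sum_range_succ' (fun i => a i • w i), Finset.sum_range_succ' (fun i => c i • w i)]
    simp only [ha_succ, ha0]
    rw [hat, smul_add, Finset.smul_sum]
    simp only [add_smul, Finset.sum_add_distrib, smul_smul, mul_comm (t ^ p)]
    rw [add_assoc]

end Field

end Groth.Agent.Lib.Helper14.FrobLang
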