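/-
helper14: Lang-type theorem for Frobenius-semilinear maps, part C: Artin–Schreier and the span of
the fixed vectors over a separably closed field (pure Mathlib).
-/
import Mathlib
import Groth.Agent.Lib.Helper14FrobLangB

set_option autoImplicit false
set_option linter.unusedSectionVars false
set_option linter.style.haveILetI false
universe u w

open Polynomial

namespace Groth.Agent.Lib.Helper14.FrobLang

section Field

variable (p : ℕ) [Fact p.Prime] {k : Type u} [Field k] [CharP k p]
  {V : Type w} [AddCommGroup V] [Module k V] [Module.Finite k V]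

/-- Artin–Schreier over a separably closed field. -/
theorem exists_AS [IsSepClosed k] (r : k) : ∃ a : k, a ^ p - a = r := by
  have hp1 : 1 < p := (Fact.out : p.Prime).one_lt
  set Q : k[X] := X ^ p - X - C r with hQ
  have hder : derivative Q = -1 := by
    rw [hQ, derivative_sub, derivative_sub, derivative_X_pow, CharP.cast_eq_zero k p, map_zero,
      zero_mul, derivative_X, derivative_C, zero_sub, sub_zero]
  have hsep : Q.Separable := by
    rw [separable_def, hder]
    exact isCoprime_one_right.neg_right
  have hdeg : Q.degree ≠ 0 := by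
    have h1 : Q.degree = p := by
      rw [hQ, sub_sub]
      rw [degree_sub_eq_left_of_degree_lt, degree_X_pow]
      rw [degree_X_pow]
      refine (degree_add_le _ _).trans_lt (max_lt ?_ ?_)
      · rw [degree_X]; exact_mod_cast hp1
      · refine degree_C_le.trans_lt ?_
        exact_mod_cast (by omega : 0 < p)
    rw [h1]
    exact_mod_cast (by omega : p ≠ 0)
  obtain ⟨a, ha⟩ := IsSepClosed.exists_root Q hdeg hsep
  refine ⟨a, ?_⟩
  have ha' : eval a (X ^ p - X - C r : k[X]) = 0 := ha
  simp only [eval_sub, eval_pow, eval_X, eval_C] at ha'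
  linear_combination ha'

theorem span_fixed_eq_top [IsSepClosed k] (T : V →ₛₗ[frobenius k p] V)
    (hspan : Submodule.span k (Set.range T) = ⊤) :
    Submodule.span k {v : V | T v = v} = ⊤ := by
  classical
  set W := Submodule.span k {v : V | T v = v} with hW
  by_contra hne
  have hWT : W ≤ W.comap T := by
    rw [hW, Submodule.span_le]
    intro v hv
    rw [SetLike.mem_coe, Submodule.mem_comap, hv]
    exact Submodule.subset_span hv
  let T' : (V ⧸ W) →ₛₗ[frobenius k p] (V ⧸ W) := W.mapQ W T hWT
  have hT' : ∀ v : V, T' (Submodule.Quotient.mk v) = Submodule.Quotient.mk (T v) := fun v => rfl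
  haveI : Nontrivial (V ⧸ W) := Submodule.Quotient.nontrivial_iff.mpr hne
  have hspan' : Submodule.span k (Set.range T') = ⊤ := by
    rw [_root_.eq_top_iff]
    rintro x -
    obtain ⟨v, rfl⟩ := Submodule.Quotient.mk_surjective W x
    have hv : v ∈ Submodule.span k (Set.range T) := by rw [hspan]; trivial
    have := Submodule.mem_map_of_mem (f := W.mkQ) hv
    rw [Submodule.map_span] at this
    refine Submodule.span_mono ?_ this
    rintro _ ⟨_, ⟨y, rfl⟩, rfl⟩
    exact ⟨Submodule.Quotient.mk y, rfl⟩
  obtain ⟨ubar, hubar, hfix⟩ := exists_fixed_ne_zero p T' hspan'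
  obtain ⟨u, rfl⟩ := Submodule.Quotient.mk_surjective W ubar
  rw [hT', ← sub_eq_zero, ← Submodule.Quotient.mk_sub, Submodule.Quotient.mk_eq_zero] at hfix
  -- T u - u ∈ W is of the form T s - s with s ∈ W
  obtain ⟨n, f, g, hfg⟩ := Submodule.mem_span_set'.mp hfix
  choose a ha using fun i => exists_AS p (f i)
  set s : V := ∑ i, a i • (g i : V) with hs
  have hsW : s ∈ W := Submodule.sum_mem _ fun i _ =>
    Submodule.smul_mem _ _ (Submodule.subset_span (g i).2)
  have hTs : T s - s = T u - u := by
    rw [hs, map_sum_smul, ← Finset.sum_sub_distrib, ← hfg]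
    refine Finset.sum_congr rfl fun i _ => ?_
    have : T (g i : V) = g i := (g i).2
    rw [this, ← sub_smul, ha]
  have hfixed : T (u - s) = u - s := by
    rw [map_sub]
    calc T u - T s = (T u - u) - (T s - s) + (u - s) := by abel
      _ = u - s := by rw [hTs]; abel
  apply hubar
  rw [Submodule.Quotient.mk_eq_zero]
  have h1 : u - s ∈ W := Submodule.subset_span hfixed
  have := W.add_mem h1 hsW
  rwa [sub_add_cancel] at this

end Field

end Groth.Agent.Lib.Helper14.FrobLang
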