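/-
helper14: Lang-type theorem for Frobenius-semilinear maps, part D: the field case
(`T - 1` surjective, `p ^ dim` fixed vectors; pure Mathlib).
-/
import Mathlib
import Groth.Agent.Lib.Helper14FrobLangC

set_option autoImplicit false
set_option linter.unusedSectionVars false
set_option linter.style.haveILetI false
universe u w

open Polynomial

namespace Groth.Agent.Lib.Helper14.FrobLang

section Field

variable (p : ℕ) [Fact p.Prime] {k : Type u} [Field k] [CharP k p]
  {V : Type w} [AddCommGroup V] [Module k V] [Module.Finite k V]

theorem card_fixed_field : Nat.card {a : k // a ^ p = a} = p := by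
  refine (Nat.card_congr (Equiv.subtypeEquivRight fun x => ?_)).trans (Subfield.card_bot k p)
  exact (Subfield.mem_bot_iff_pow_eq_self k p).symm

/-- **Lang-type theorem, field case.** -/
theorem field_case [IsSepClosed k] (T : V →ₛₗ[frobenius k p] V)
    (hspan : Submodule.span k (Set.range T) = ⊤) :
    Function.Surjective (fun v => T v - v) ∧
      Nat.card {v : V // T v = v} = p ^ Module.finrank k V := by
  classical
  obtain ⟨b, hbs, hbspan, hbli⟩ := exists_linearIndependent k {v : V | T v = v}
  have hbtop : ⊤ ≤ Submodule.span k (Set.range (Subtype.val : b → V)) := by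
    rw [Subtype.range_coe, hbspan, span_fixed_eq_top p T hspan]
  let B : Module.Basis b k V := Module.Basis.mk hbli hbtop
  have hB : ∀ i, B i = i.1 := fun i => Module.Basis.mk_apply hbli hbtop i
  haveI : Finite b := Module.Finite.finite_basis B
  haveI := Fintype.ofFinite b
  have hBfix : ∀ i, T (B i) = B i := fun i => by
    rw [hB]; exact hbs i.2
  have hTsum : ∀ c : b → k, T (∑ i, c i • B i) = ∑ i, c i ^ p • B i := fun c => by
    rw [map_sum_smul]
    exact Finset.sum_congr rfl fun i _ => by rw [hBfix]
  have hcoord : ∀ (v : V) (i : b), B.repr (T v) i = (B.repr v i) ^ p := fun v i => by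
    conv_lhs => rw [← B.sum_repr v, hTsum, B.repr_sum_self]
  refine ⟨fun y => ?_, ?_⟩
  · choose a ha using fun i => exists_AS p (B.repr y i)
    refine ⟨∑ i, a i • B i, ?_⟩
    change T (∑ i, a i • B i) - ∑ i, a i • B i = y
    rw [hTsum, ← Finset.sum_sub_distrib]
    simp only [← sub_smul, ha]
    exact B.sum_repr y
  · have e : {v : V // T v = v} ≃ (b → {a : k // a ^ p = a}) :=
      { toFun := fun v i => ⟨B.repr v.1 i, by rw [← hcoord, v.2]⟩
        invFun := fun a => ⟨∑ i, (a i).1 • B i, by
          rw [hTsum]
          exact Finset.sum_congr rfl fun i _ => by rw [(a i).2]⟩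
        left_inv := fun v => Subtype.ext (B.sum_repr v.1)
        right_inv := fun a => by
          funext i
          apply Subtype.ext
          change B.repr (∑ i, (a i).1 • B i) i = (a i).1
          rw [B.repr_sum_self] }
    rw [Nat.card_congr e, Nat.card_fun, card_fixed_field, Module.finrank_eq_nat_card_basis B]

end Field

end Groth.Agent.Lib.Helper14.FrobLang
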