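/-
helper14: Lang-type theorem for Frobenius-semilinear maps, part E: infinitesimal lifting over a
Henselian local ring via the étale algebra `R[x]/(∑_j B_ij x_j^p - x_i - e_i)` and helper26's
`etale_lift`.
-/
import Mathlib
import Groth.Agent.Lib.Helper26HenselEtale

set_option autoImplicit false
set_option linter.unusedSectionVars false
set_option linter.style.haveILetI false
universe u w

open MvPolynomial

namespace Groth.Agent.Lib.Helper14.FrobLang

section Lift

variable (p : ℕ) [Fact p.Prime] {R : Type u} [CommRing R] [CharP R p] {n : ℕ}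
  (B : Fin n → Fin n → R) (e : Fin n → R)

/-- the relations `∑_j B_ij x_j^p - x_i - e_i` -/
noncomputable def rel (i : Fin n) : MvPolynomial (Fin n) R :=
  ∑ j, C (B i j) * X j ^ p - X i - C (e i)

/-- the algebra `R[x]/(∑_j B_ij x_j^p - x_i - e_i)` -/
abbrev Quo : Type u := MvPolynomial (Fin n) R ⧸ Ideal.span (Set.range (rel p B e))

theorem pderiv_rel (l i : Fin n) : pderiv l (rel p B e i) = if l = i then -1 else 0 := by
  have hp0 : ((p : ℕ) : MvPolynomial (Fin n) R) = 0 := CharP.cast_eq_zero _ p
  have h2 : ∀ j, pderiv l (C (B i j) * (X j : MvPolynomial (Fin n) R) ^ p) = 0 := by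
    intro j
    rw [Derivation.leibniz, Derivation.leibniz_pow, nsmul_eq_mul, hp0, zero_mul, smul_zero,
      pderiv_C, smul_zero, add_zero]
  rw [rel, map_sub, map_sub, map_sum, Finset.sum_eq_zero (fun j _ => h2 j), pderiv_X, pderiv_C]
  by_cases hli : l = i
  · subst hli; simp
  · have : i ≠ l := fun h => hli h.symm
    simp [hli, this]

/-- the submersive presentation -/
noncomputable def pres : Algebra.SubmersivePresentation R (Quo p B e) (Fin n) (Fin n) where
  __ := Algebra.Presentation.naive (v := rel p B e)
  map := id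
  map_inj := Function.injective_id
  jacobian_isUnit := by
    rw [Algebra.PreSubmersivePresentation.jacobian_eq_jacobiMatrix_det]
    have : (Algebra.PreSubmersivePresentation.jacobiMatrix
        { toPresentation := Algebra.Presentation.naive (v := rel p B e), map := id,
          map_inj := Function.injective_id }) = -1 := by
      ext i j
      rw [Algebra.PreSubmersivePresentation.jacobiMatrix_apply]
      simp only [id_eq, Algebra.Presentation.naive_relation_apply]
      rw [pderiv_rel]
      by_cases hij : i = j
      · subst hij; simp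
      · simp [hij]
    rw [this, Matrix.det_neg, Matrix.det_one, mul_one, map_pow, map_neg, map_one]
    exact (isUnit_one (M := Quo p B e)).neg.pow _

instance etale_quo : Algebra.Etale R (Quo p B e) := by
  haveI : Algebra.IsStandardSmoothOfRelativeDimension 0 R (Quo p B e) :=
    (pres p B e).isStandardSmoothOfRelativeDimension (by
      simp [Algebra.Presentation.dimension])
  infer_instance

/-- **Existence of infinitesimal solutions.** -/
theorem exists_lift [HenselianLocalRing R] (he : ∀ i, e i ∈ IsLocalRing.maximalIdeal R) :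
    ∃ u : Fin n → R, (∀ i, u i ∈ IsLocalRing.maximalIdeal R) ∧
      ∀ i, ∑ j, B i j * u j ^ p - u i = e i := by
  have hp0 : p ≠ 0 := (Fact.out : p.Prime).ne_zero
  let m := IsLocalRing.maximalIdeal R
  have hker : ∀ q ∈ Ideal.span (Set.range (rel p B e)),
      (aeval (fun _ : Fin n => (0 : R ⧸ m)) : MvPolynomial (Fin n) R →ₐ[R] R ⧸ m) q = 0 := by
    intro q hq
    have hle : Ideal.span (Set.range (rel p B e)) ≤
        RingHom.ker (aeval (fun _ : Fin n => (0 : R ⧸ m)) : MvPolynomial (Fin n) R →ₐ[R] R ⧸ m) := by
      rw [Ideal.span_le]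
      rintro _ ⟨i, rfl⟩
      rw [SetLike.mem_coe, RingHom.mem_ker, rel]
      simp only [map_sub, map_sum, map_mul, map_pow, aeval_X, aeval_C, zero_pow hp0, mul_zero,
        Finset.sum_const_zero, sub_zero, zero_sub, neg_eq_zero]
      rw [Ideal.Quotient.algebraMap_eq, Ideal.Quotient.eq_zero_iff_mem]
      exact he i
    exact hle hq
  let σ : Quo p B e →ₐ[R] R ⧸ m := Ideal.Quotient.liftₐ _ (aeval fun _ => 0) hker
  obtain ⟨τ, hτ⟩ := Groth.Agent.Lib.Helper26.HenselEtale.etale_lift R m (Quo p B e) σ
  refine ⟨fun i => τ (Ideal.Quotient.mk _ (X i)), fun i => ?_, fun i => ?_⟩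
  · have := congrArg (fun φ : Quo p B e →ₐ[R] R ⧸ m => φ (Ideal.Quotient.mk _ (X i))) hτ
    simp only [AlgHom.coe_comp, Function.comp_apply, Ideal.Quotient.mkₐ_eq_mk] at this
    rw [← Ideal.Quotient.eq_zero_iff_mem, this]
    change (aeval fun _ => (0 : R ⧸ m)) (X i) = 0
    rw [aeval_X]
  · have h0 : τ (Ideal.Quotient.mk _ (rel p B e i)) = 0 := by
      have : rel p B e i ∈ Ideal.span (Set.range (rel p B e)) := Ideal.subset_span ⟨i, rfl⟩
      rw [Ideal.Quotient.eq_zero_iff_mem.mpr this, map_zero]
    rw [rel] at h0
    simp only [map_sub, map_sum, map_mul, map_pow] at h0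
    have hC : ∀ r : R, τ (Ideal.Quotient.mk _ (C r)) = r := fun r => by
      have : (Ideal.Quotient.mk (Ideal.span (Set.range (rel p B e))) (C r)) =
          algebraMap R (Quo p B e) r := rfl
      rw [this, τ.commutes]; rfl
    simp only [hC] at h0
    exact sub_eq_zero.mp h0

end Lift

end Groth.Agent.Lib.Helper14.FrobLang
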