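/-
helper14: Lang-type theorem for Frobenius-semilinear maps, part F: the theorem in coordinates over
a strictly henselian local ring of characteristic `p`.
-/
import Mathlib
import Groth.Agent.Lib.Helper14FrobLangD
import Groth.Agent.Lib.Helper14FrobLangE

set_option autoImplicit false
set_option linter.unusedSectionVars false
set_option linter.style.haveILetI false
universe u w

namespace Groth.Agent.Lib.Helper14.FrobLang

section FrobMap

variable (p : ℕ) [Fact p.Prime] {A : Type u} [CommRing A] [CharP A p] {n : ℕ}

/-- The Frobenius-semilinear map `x ↦ B x^(p)` on `A^n`. -/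
noncomputable def frobMap (B : Fin n → Fin n → A) :
    (Fin n → A) →ₛₗ[frobenius A p] (Fin n → A) where
  toFun x i := ∑ j, B i j * x j ^ p
  map_add' x y := by
    funext i
    simp only [Pi.add_apply, add_pow_char, mul_add, Finset.sum_add_distrib]
  map_smul' r x := by
    funext i
    simp only [Pi.smul_apply, smul_eq_mul, mul_pow, frobenius_def, Finset.mul_sum]
    refine Finset.sum_congr rfl fun j _ => ?_
    ring

theorem frobMap_apply (B : Fin n → Fin n → A) (x : Fin n → A) (i : Fin n) :
    frobMap p B x i = ∑ j, B i j * x j ^ p := rfl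

theorem map_frobMap {A' : Type*} [CommRing A'] [CharP A' p] (φ : A →+* A')
    (B : Fin n → Fin n → A) (x : Fin n → A) (i : Fin n) :
    φ (frobMap p B x i) = frobMap p (fun i j => φ (B i j)) (fun j => φ (x j)) i := by
  simp [frobMap_apply]

end FrobMap

section Local

open IsLocalRing

variable (p : ℕ) [Fact p.Prime] {R : Type u} [CommRing R] [IsLocalRing R] [CharP R p] {n : ℕ}

instance charP_residueField : CharP (ResidueField R) p := by
  rw [CharP.charP_iff_prime_eq_zero (Fact.out : p.Prime)]
  rw [← map_natCast (residue R), CharP.cast_eq_zero, map_zero]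

/-- **Uniqueness of infinitesimal solutions.** -/
theorem eq_zero_of_fixed_of_mem (B : Fin n → Fin n → R) (u : Fin n → R)
    (hu : ∀ i, u i ∈ maximalIdeal R) (hfix : frobMap p B u = u) : u = 0 := by
  have hp1 : 1 < p := (Fact.out : p.Prime).one_lt
  let N : Ideal R := Ideal.span (Set.range u)
  have hN : N = ⊥ := by
    apply Submodule.eq_bot_of_le_smul_of_le_jacobson_bot (maximalIdeal R) N
    · exact Submodule.fg_span (Set.finite_range u)
    · rw [Ideal.span_le]
      rintro _ ⟨i, rfl⟩
      have : u i = ∑ j, (B i j * u j ^ (p - 1)) • u j := by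
        conv_lhs => rw [← hfix, frobMap_apply]
        refine Finset.sum_congr rfl fun j _ => ?_
        rw [smul_eq_mul, mul_assoc, ← pow_succ, Nat.sub_add_cancel hp1.le]
      rw [SetLike.mem_coe, this]
      refine Submodule.sum_mem _ fun j _ => Submodule.smul_mem_smul ?_ (Ideal.subset_span ⟨j, rfl⟩)
      exact Ideal.mul_mem_left _ _ (Ideal.pow_mem_of_mem _ (hu j) _ (by omega))
    · exact maximalIdeal_le_jacobson ⊥
  funext i
  have : u i ∈ N := Ideal.subset_span ⟨i, rfl⟩
  rw [hN] at this
  exact this

end Local

section Hensel

open IsLocalRing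

variable (p : ℕ) [Fact p.Prime] {R : Type u} [CommRing R] [HenselianLocalRing R] [CharP R p] {n : ℕ}
  [IsSepClosed (ResidueField R)]

/-- **Lang-type theorem in coordinates** over a strictly henselian local ring. -/
theorem coord_case (B : Fin n → Fin n → R)
    (hspan : Submodule.span (ResidueField R)
      (Set.range (frobMap p (fun i j => residue R (B i j)))) = ⊤) :
    Function.Surjective (fun x : Fin n → R => frobMap p B x - x) ∧
      Nat.card {x : Fin n → R // frobMap p B x = x} = p ^ n := by
  set Bk : Fin n → Fin n → ResidueField R := fun i j => residue R (B i j) with hBk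
  obtain ⟨hsurj, hcard⟩ := field_case p (frobMap p Bk) hspan
  let red : (Fin n → R) → (Fin n → ResidueField R) := fun x i => residue R (x i)
  have hred_surj : Function.Surjective red := fun y =>
    ⟨fun i => (residue_surjective (y i)).choose,
      funext fun i => (residue_surjective (y i)).choose_spec⟩
  have hred_T : ∀ x, red (frobMap p B x) = frobMap p Bk (red x) := fun x =>
    funext fun i => map_frobMap p (residue R) B x i
  have hred_sub : ∀ x y, red (x - y) = red x - red y := fun x y =>
    funext fun i => map_sub (residue R) (x i) (y i)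
  have hred_add : ∀ x y, red (x + y) = red x + red y := fun x y =>
    funext fun i => map_add (residue R) (x i) (y i)
  have hred_zero : ∀ x, red x = 0 ↔ ∀ i, x i ∈ maximalIdeal R := fun x => by
    rw [funext_iff]
    exact forall_congr' fun i => residue_eq_zero_iff (x i)
  -- lifting solutions
  have hlift : ∀ (y : Fin n → R) (xb : Fin n → ResidueField R),
      frobMap p Bk xb - xb = red y → ∃ x, red x = xb ∧ frobMap p B x - x = y := by
    intro y xb hxb
    obtain ⟨x0, rfl⟩ := hred_surj xb
    set e : Fin n → R := y - (frobMap p B x0 - x0) with he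
    have hemem : ∀ i, e i ∈ maximalIdeal R := by
      rw [← hred_zero, he, hred_sub, hred_sub, hred_T, hxb, sub_self]
    obtain ⟨u, hu, hue⟩ := exists_lift p B e hemem
    refine ⟨x0 + u, ?_, ?_⟩
    · rw [hred_add, (hred_zero u).mpr hu, add_zero]
    · have hue' : frobMap p B u - u = e := funext fun i => hue i
      rw [map_add, add_sub_add_comm, hue', he]
      abel
  refine ⟨fun y => ?_, ?_⟩
  · obtain ⟨xb, hxb⟩ := hsurj (red y)
    obtain ⟨x, -, hx⟩ := hlift y xb hxb
    exact ⟨x, hx⟩
  · let φ : {x : Fin n → R // frobMap p B x = x} → {v : Fin n → ResidueField R // frobMap p Bk v = v} :=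
      fun x => ⟨red x.1, by rw [← hred_T, x.2]⟩
    have hφ : Function.Bijective φ := by
      constructor
      · intro x x' hxx'
        have h1 : red x.1 = red x'.1 := congrArg Subtype.val hxx'
        have h2 : red (x.1 - x'.1) = 0 := by rw [hred_sub, h1, sub_self]
        have h3 : frobMap p B (x.1 - x'.1) = x.1 - x'.1 := by rw [map_sub, x.2, x'.2]
        have h4 := eq_zero_of_fixed_of_mem p B _ ((hred_zero _).mp h2) h3
        exact Subtype.ext (sub_eq_zero.mp h4)
      · intro v
        have h0 : frobMap p Bk v.1 - v.1 = red 0 := by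
          rw [v.2, sub_self]
          exact ((hred_zero 0).mpr fun i => Ideal.zero_mem _).symm
        obtain ⟨x, hx1, hx2⟩ := hlift 0 v.1 h0
        exact ⟨⟨x, sub_eq_zero.mp hx2⟩, Subtype.ext hx1⟩
    rw [Nat.card_congr (Equiv.ofBijective φ hφ), hcard, Module.finrank_fin_fun]

end Hensel

end Groth.Agent.Lib.Helper14.FrobLang
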