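/-
helper14: Lang-type theorem for Frobenius-semilinear maps, part G: free modules of finite rank over
a strictly henselian local ring of characteristic `p` (statement-shaped).
-/
import Mathlib
import Groth.Agent.Lib.Helper14FrobLangF

set_option autoImplicit false
set_option linter.unusedSectionVars false
set_option linter.style.haveILetI false
universe u v

namespace Groth.Agent.Lib.Helper14.FrobLang

open IsLocalRing

/-- **Lang-type theorem** for a free module of finite rank over a strictly henselian local ring. -/
theorem lang_free (p : ℕ) [Fact p.Prime] {R : Type u} [CommRing R]
    [HenselianLocalRing R] [IsSepClosed (ResidueField R)] [CharP R p]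
    {M : Type v} [AddCommGroup M] [Module R M] [Module.Free R M] [Module.Finite R M]
    (T : M →+ M) (hT : ∀ (r : R) (m : M), T (r • m) = r ^ p • T m)
    (hspan : Submodule.span R (Set.range T) = ⊤) :
    Function.Surjective (fun m => T m - m) ∧
      Nat.card {m : M // T m = m} = p ^ Module.finrank R M := by
  classical
  set n := Module.finrank R M with hn
  let b : Module.Basis (Fin n) R M := Module.finBasis R M
  let B : Fin n → Fin n → R := fun i j => b.repr (T (b j)) i
  have hcoord : ∀ m, b.equivFun (T m) = frobMap p B (b.equivFun m) := by
    intro m
    funext i
    conv_lhs => rw [← b.sum_repr m, map_sum]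
    simp only [hT, map_sum, map_smul, Finset.sum_apply, Pi.smul_apply, smul_eq_mul,
      Module.Basis.equivFun_apply, frobMap_apply, B]
    exact Finset.sum_congr rfl fun j _ => mul_comm _ _
  set Bk : Fin n → Fin n → ResidueField R := fun i j => residue R (B i j) with hBk
  have hspank : Submodule.span (ResidueField R) (Set.range (frobMap p Bk)) = ⊤ := by
    rw [_root_.eq_top_iff]
    rintro v -
    have key : ∀ m : M, m ∈ Submodule.span R (Set.range T) →
        (fun i => residue R (b.equivFun m i)) ∈
          Submodule.span (ResidueField R) (Set.range (frobMap p Bk)) := by
      intro m hm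
      induction hm using Submodule.span_induction with
      | mem x hx =>
        obtain ⟨m', rfl⟩ := hx
        apply Submodule.subset_span
        refine ⟨fun j => residue R (b.equivFun m' j), ?_⟩
        funext i
        rw [hcoord]
        exact (map_frobMap p (residue R) B _ i).symm
      | zero =>
        convert Submodule.zero_mem _ using 1
        funext i
        simp
      | add x y _ _ hx hy =>
        convert Submodule.add_mem _ hx hy using 1
        funext i
        simp
      | smul r x _ hx =>
        convert Submodule.smul_mem _ (residue R r) hx using 1
        funext i
        simp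
    let x : Fin n → R := fun i => (residue_surjective (v i)).choose
    have hx : ∀ i, residue R (x i) = v i := fun i => (residue_surjective (v i)).choose_spec
    have := key (b.equivFun.symm x) (by rw [hspan]; trivial)
    simp only [LinearEquiv.apply_symm_apply] at this
    convert this using 1
    funext i
    exact (hx i).symm
  obtain ⟨hsurj, hcard⟩ := coord_case p B hspank
  refine ⟨fun y => ?_, ?_⟩
  · obtain ⟨x, hx⟩ := hsurj (b.equivFun y)
    refine ⟨b.equivFun.symm x, ?_⟩
    apply b.equivFun.injective
    change b.equivFun (T (b.equivFun.symm x) - b.equivFun.symm x) = _
    rw [map_sub, hcoord, LinearEquiv.apply_symm_apply]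
    exact hx
  · rw [← hcard]
    refine Nat.card_congr (b.equivFun.toEquiv.subtypeEquiv fun m => ?_)
    change T m = m ↔ frobMap p B (b.equivFun m) = b.equivFun m
    rw [← hcoord]
    exact ⟨fun h => by rw [h], fun h => b.equivFun.injective h⟩

end Groth.Agent.Lib.Helper14.FrobLang
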