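/-
helper14: Lang-type theorem for Frobenius-semilinear maps, part H: bijective semilinear maps on
finite modules over a Noetherian local ring of characteristic `p` with separably closed residue
field (`𝔪M = 0` by Nakayama, then the field case).
-/
import Mathlib
import Groth.Agent.Lib.Helper14FrobLangF

set_option autoImplicit false
set_option linter.unusedSectionVars false
set_option linter.style.haveILetI false
universe u v w

namespace Groth.Agent.Lib.Helper14.FrobLang

section Field

variable (p : ℕ) [Fact p.Prime] {k : Type u} [Field k] [CharP k p]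
  {V : Type w} [AddCommGroup V] [Module k V] [Module.Finite k V]

theorem injective_of_span (T : V →ₛₗ[frobenius k p] V)
    (hspan : Submodule.span k (Set.range T) = ⊤) : Function.Injective T := by
  rw [injective_iff_map_eq_zero]
  intro x hx
  let b := Module.finBasis k V
  have hli := li_map p T hspan b b.linearIndependent
  rw [← b.sum_repr x, map_sum_smul] at hx
  have h0 := (Fintype.linearIndependent_iff.mp hli) (fun j => b.repr x j ^ p) hx
  have h1 : ∀ j, b.repr x j = 0 := fun j => pow_eq_zero_iff (Fact.out : p.Prime).ne_zero |>.mp (h0 j)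
  rw [← b.sum_repr x]
  exact Finset.sum_eq_zero fun j _ => by rw [h1 j, zero_smul]

end Field

section Bij

open IsLocalRing

variable {R : Type u} [CommRing R] [IsLocalRing R] {M : Type v} [AddCommGroup M] [Module R M]

/-- the `κ`-module structure on `M/𝔪M` -/
@[reducible] noncomputable def moduleResQuot :
    Module (ResidueField R) (M ⧸ maximalIdeal R • (⊤ : Submodule R M)) :=
  inferInstanceAs (Module (R ⧸ maximalIdeal R) (M ⧸ maximalIdeal R • (⊤ : Submodule R M)))

theorem isScalarTower_resQuot :
    letI := moduleResQuot (R := R) (M := M)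
    IsScalarTower R (ResidueField R) (M ⧸ maximalIdeal R • (⊤ : Submodule R M)) :=
  inferInstanceAs (IsScalarTower R (R ⧸ maximalIdeal R)
      (M ⧸ maximalIdeal R • (⊤ : Submodule R M)))

theorem residue_smul_mk (r : R) (m : M) :
    letI := moduleResQuot (R := R) (M := M)
    (residue R r) • (Submodule.Quotient.mk m : M ⧸ maximalIdeal R • (⊤ : Submodule R M)) =
      Submodule.Quotient.mk (r • m) := rfl

variable (p : ℕ) [Fact p.Prime] [CharP R p]

/-- `T` maps `𝔪M` into `𝔪·𝔪M`. -/
theorem map_mem_smul_smul (T : M →+ M) (hT : ∀ (r : R) (m : M), T (r • m) = r ^ p • T m)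
    (x : M) (hx : x ∈ maximalIdeal R • (⊤ : Submodule R M)) :
    T x ∈ maximalIdeal R • (maximalIdeal R • (⊤ : Submodule R M)) := by
  have hp1 : 1 < p := (Fact.out : p.Prime).one_lt
  refine Submodule.smul_induction_on hx (fun r hr n _ => ?_) (fun x y hx hy => ?_)
  · rw [hT, ← Nat.sub_add_cancel hp1.le, pow_succ, mul_comm, mul_smul]
    refine Submodule.smul_mem_smul hr (Submodule.smul_mem_smul ?_ trivial)
    exact Ideal.pow_mem_of_mem _ hr _ (by omega)
  · rw [map_add]; exact Submodule.add_mem _ hx hy

/-- an additive `p`-semilinear map as a semilinear map -/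
def semilinOfAdd (T : M →+ M) (hT : ∀ (r : R) (m : M), T (r • m) = r ^ p • T m) :
    M →ₛₗ[frobenius R p] M where
  toFun := T
  map_add' := T.map_add
  map_smul' r m := by rw [hT]; rfl

theorem le_comap_semilinOfAdd (T : M →+ M) (hT : ∀ (r : R) (m : M), T (r • m) = r ^ p • T m) :
    maximalIdeal R • (⊤ : Submodule R M) ≤
      (maximalIdeal R • (⊤ : Submodule R M)).comap (semilinOfAdd p T hT) := by
  intro x hx
  rw [Submodule.mem_comap]
  exact Submodule.smul_le_right (map_mem_smul_smul p T hT x hx)

/-- the induced `R`-semilinear map on `M/𝔪M` -/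
noncomputable def TbarR (T : M →+ M) (hT : ∀ (r : R) (m : M), T (r • m) = r ^ p • T m) :
    (M ⧸ maximalIdeal R • (⊤ : Submodule R M)) →ₛₗ[frobenius R p]
      (M ⧸ maximalIdeal R • (⊤ : Submodule R M)) :=
  Submodule.mapQ (maximalIdeal R • (⊤ : Submodule R M)) (maximalIdeal R • (⊤ : Submodule R M))
    (semilinOfAdd p T hT) (le_comap_semilinOfAdd p T hT)

theorem TbarR_mk (T : M →+ M) (hT : ∀ (r : R) (m : M), T (r • m) = r ^ p • T m) (m : M) :
    TbarR p T hT (Submodule.Quotient.mk m) = Submodule.Quotient.mk (T m) := rfl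

attribute [local instance] moduleResQuot isScalarTower_resQuot

/-- the induced semilinear map on `M/𝔪M` -/
noncomputable def Tbar (T : M →+ M) (hT : ∀ (r : R) (m : M), T (r • m) = r ^ p • T m) :
    (M ⧸ maximalIdeal R • (⊤ : Submodule R M)) →ₛₗ[frobenius (ResidueField R) p]
      (M ⧸ maximalIdeal R • (⊤ : Submodule R M)) where
  toFun := TbarR p T hT
  map_add' := map_add _
  map_smul' c x := by
    obtain ⟨r, rfl⟩ := residue_surjective c
    obtain ⟨m, rfl⟩ := Submodule.Quotient.mk_surjective _ x
    rw [residue_smul_mk, TbarR_mk, TbarR_mk, hT, frobenius_def, ← map_pow, residue_smul_mk]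

theorem Tbar_mk (T : M →+ M) (hT : ∀ (r : R) (m : M), T (r • m) = r ^ p • T m) (m : M) :
    Tbar p T hT (Submodule.Quotient.mk m) = Submodule.Quotient.mk (T m) := rfl

variable [IsNoetherianRing R] [IsSepClosed (ResidueField R)] [Module.Finite R M]

theorem lang_bij (T : M →+ M) (hT : ∀ (r : R) (m : M), T (r • m) = r ^ p • T m)
    (hbij : Function.Bijective T) :
    Function.Surjective (fun m => T m - m) ∧
      Nat.card {m : M // T m = m} =
        p ^ Module.finrank (ResidueField R) (TensorProduct R (ResidueField R) M) := by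
  classical
  have hTbar_surj : Function.Surjective (Tbar p T hT) := by
    intro x
    obtain ⟨m, rfl⟩ := Submodule.Quotient.mk_surjective _ x
    obtain ⟨m', rfl⟩ := hbij.2 m
    exact ⟨Submodule.Quotient.mk m', Tbar_mk p T hT m'⟩
  have hspan : Submodule.span (ResidueField R) (Set.range (Tbar p T hT)) = ⊤ := by
    rw [hTbar_surj.range_eq, Submodule.span_univ]
  haveI : Module.Finite (ResidueField R) (M ⧸ maximalIdeal R • (⊤ : Submodule R M)) :=
    Module.Finite.of_restrictScalars_finite R (ResidueField R) _
  have hTbar_inj := injective_of_span p (Tbar p T hT) hspan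
  -- Nakayama
  have hNle : maximalIdeal R • (⊤ : Submodule R M) ≤
      maximalIdeal R • (maximalIdeal R • (⊤ : Submodule R M)) := by
    intro x hx
    obtain ⟨y, rfl⟩ := hbij.2 x
    have h1 : Tbar p T hT (Submodule.Quotient.mk y) = 0 := by
      rw [Tbar_mk]; exact (Submodule.Quotient.mk_eq_zero _).mpr hx
    have h2 : (Submodule.Quotient.mk y : M ⧸ maximalIdeal R • (⊤ : Submodule R M)) = 0 :=
      hTbar_inj (by rw [h1, map_zero])
    exact map_mem_smul_smul p T hT y ((Submodule.Quotient.mk_eq_zero _).mp h2)
  have hNbot : maximalIdeal R • (⊤ : Submodule R M) = ⊥ :=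
    Submodule.eq_bot_of_le_smul_of_le_jacobson_bot (maximalIdeal R) _
      (IsNoetherian.noetherian _) hNle (maximalIdeal_le_jacobson ⊥)
  have hmk_inj : Function.Injective
      (Submodule.Quotient.mk : M → M ⧸ maximalIdeal R • (⊤ : Submodule R M)) := by
    intro x y hxy
    have := (Submodule.Quotient.eq _).mp hxy
    rw [hNbot, Submodule.mem_bot, sub_eq_zero] at this
    exact this
  obtain ⟨hsurj, hcard⟩ := field_case p (Tbar p T hT) hspan
  refine ⟨fun y => ?_, ?_⟩
  · obtain ⟨v, hv⟩ := hsurj (Submodule.Quotient.mk y)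
    obtain ⟨x, rfl⟩ := Submodule.Quotient.mk_surjective _ v
    refine ⟨x, hmk_inj ?_⟩
    rw [Submodule.Quotient.mk_sub, ← Tbar_mk p T hT]
    exact hv
  · have e1 : {m : M // T m = m} ≃
        {v : M ⧸ maximalIdeal R • (⊤ : Submodule R M) // Tbar p T hT v = v} :=
      (Equiv.ofBijective
        (Submodule.Quotient.mk : M → M ⧸ maximalIdeal R • (⊤ : Submodule R M))
        ⟨hmk_inj, Submodule.Quotient.mk_surjective _⟩).subtypeEquiv fun m => by
        change T m = m ↔ Tbar p T hT (Submodule.Quotient.mk m) = Submodule.Quotient.mk m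
        rw [Tbar_mk]
        exact ⟨fun h => by rw [h], fun h => hmk_inj h⟩
    rw [Nat.card_congr e1, hcard]
    congr 1
    haveI : IsScalarTower R (ResidueField R) (TensorProduct R (ResidueField R) M) :=
      TensorProduct.isScalarTower_left
    have e0 : TensorProduct R (ResidueField R) M ≃ₗ[R]
        M ⧸ maximalIdeal R • (⊤ : Submodule R M) :=
      TensorProduct.quotTensorEquivQuotSMul M (maximalIdeal R)
    have hsurj' : Function.Surjective (algebraMap R (ResidueField R)) := residue_surjective
    have e2 : TensorProduct R (ResidueField R) M ≃ₗ[ResidueField R]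
        M ⧸ maximalIdeal R • (⊤ : Submodule R M) :=
      e0.extendScalarsOfSurjective hsurj'
    exact e2.finrank_eq.symm

end Bij

end Groth.Agent.Lib.Helper14.FrobLang
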