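/-
Helper14FrobLaw (helper14): the Frobenius law `k^{1/p} → k`, `a ↦ a^p`, as a multiplicative
polynomial law of degree `p` (`frobMulLaw`), the vanishing of the kernel of any multiplicative law
of positive degree on a (twisted) field (`ker_eq_bot`), and the non-finiteness of
`F_p(t_0,t_1,…)^{1/p}` over `F_p(t_0,t_1,…)` (`twist_not_finite`, via partial derivatives).
-/
import Mathlib
import Groth.Prelude.Def_PolLaw
import Groth.Prelude.Def_FrobAlg

set_option autoImplicit false
universe u
open scoped TensorProduct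

namespace Groth.Agent.Lib.Helper14.FrobLaw

section rho
variable (p : ℕ) [hp : Fact p.Prime] (k : Type u) [Field k] [CharP k p]
  (S : Type u) [CommSemiring S] [Algebra k S]

include k in
omit hp in
lemma natCast_p_eq_zero : (p : S) = 0 := by
  have h : ((p : k) : k) = 0 := CharP.cast_eq_zero k p
  rw [← map_natCast (algebraMap k S), h, map_zero]

include k in
lemma add_pow_p (x y : S) : (x + y) ^ p = x ^ p + y ^ p := by
  rw [add_pow_prime_eq' hp.out, natCast_p_eq_zero p k S, zero_mul, add_zero]

/-- `s ↦ (a ↦ s^p · a)` -/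
noncomputable def rhoAux : S →+ FrobAlg.Twist p k →+ S where
  toFun s :=
    { toFun := fun a => s ^ p * algebraMap k S ((FrobAlg.toTwist p k).symm a)
      map_zero' := by simp
      map_add' := fun a b => by rw [map_add, map_add, mul_add] }
  map_zero' := by
    ext a
    simp [zero_pow hp.out.ne_zero]
  map_add' s s' := by
    ext a
    simp only [AddMonoidHom.coe_mk, ZeroHom.coe_mk, AddMonoidHom.add_apply]
    rw [add_pow_p p k S, add_mul]

/-- the Frobenius-semilinear map `S ⊗ K → S`, `s ⊗ a ↦ s^p a` -/
noncomputable def rho : S ⊗[k] FrobAlg.Twist p k →+ S :=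
  TensorProduct.liftAddHom (rhoAux p k S) (by
    intro c s a
    change (c • s) ^ p * algebraMap k S ((FrobAlg.toTwist p k).symm a) =
      s ^ p * algebraMap k S ((FrobAlg.toTwist p k).symm (c • a))
    rw [Algebra.smul_def c a, FrobAlg.algebraMap_twist, map_mul, RingEquiv.symm_apply_apply,
      map_mul, map_pow, Algebra.smul_def, mul_pow]
    ring)

lemma rho_tmul (s : S) (a : FrobAlg.Twist p k) :
    rho p k S (s ⊗ₜ[k] a) = s ^ p * algebraMap k S ((FrobAlg.toTwist p k).symm a) := rfl

lemma rho_one : rho p k S 1 = 1 := by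
  rw [Algebra.TensorProduct.one_def, rho_tmul]
  simp

lemma rho_mul (x y : S ⊗[k] FrobAlg.Twist p k) : rho p k S (x * y) = rho p k S x * rho p k S y := by
  induction x using TensorProduct.induction_on with
  | zero => simp
  | add x1 x2 h1 h2 => rw [add_mul, map_add, h1, h2, map_add, add_mul]
  | tmul s a =>
    induction y using TensorProduct.induction_on with
    | zero => simp
    | add y1 y2 h1 h2 => rw [mul_add, map_add, h1, h2, map_add, mul_add]
    | tmul s' a' =>
      rw [Algebra.TensorProduct.tmul_mul_tmul, rho_tmul, rho_tmul, rho_tmul, map_mul, map_mul,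
        mul_pow]
      ring

lemma rho_smul (s : S) (x : S ⊗[k] FrobAlg.Twist p k) :
    rho p k S (s • x) = s ^ p * rho p k S x := by
  induction x using TensorProduct.induction_on with
  | zero => simp
  | add x1 x2 h1 h2 => rw [smul_add, map_add, h1, h2, map_add, mul_add]
  | tmul s' a =>
    rw [TensorProduct.smul_tmul', rho_tmul, rho_tmul, smul_eq_mul, mul_pow, mul_assoc]

lemma rho_compat {S' : Type u} [CommSemiring S'] [Algebra k S'] (φ : S →ₐ[k] S')
    (x : S ⊗[k] FrobAlg.Twist p k) :
    φ (rho p k S x) = rho p k S' (φ.toLinearMap.rTensor (FrobAlg.Twist p k) x) := by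
  induction x using TensorProduct.induction_on with
  | zero => simp
  | add x1 x2 h1 h2 => rw [map_add, map_add, h1, h2, map_add, map_add]
  | tmul s a =>
    rw [LinearMap.rTensor_tmul, rho_tmul, rho_tmul, map_mul, map_pow, AlgHom.commutes]
    rfl

end rho

section law
variable (p : ℕ) [hp : Fact p.Prime] (k : Type u) [Field k] [CharP k p]

/-- the Frobenius law `K = k^{1/p} → k`, `a ↦ a^p` -/
noncomputable def frobLaw : FrobAlg.Twist p k →ₚₗ[k] k where
  toFun' S _ _ := fun x => (rho p k S x) ⊗ₜ[k] (1 : k)
  isCompat' {S} _ _ {S'} _ _ φ := by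
    funext x
    simp only [Function.comp_apply]
    rw [LinearMap.rTensor_tmul, ← rho_compat]
    rfl

lemma frobLaw_apply (S : Type u) [CommSemiring S] [Algebra k S] (x : S ⊗[k] FrobAlg.Twist p k) :
    (frobLaw p k).toFun' S x = (rho p k S x) ⊗ₜ[k] (1 : k) := rfl

/-- the Frobenius law as a multiplicative law of degree `p` -/
noncomputable def frobMulLaw : PolLaw.MulLaw k (FrobAlg.Twist p k) k p where
  law := frobLaw p k
  homog S _ _ s x := by
    rw [frobLaw_apply, frobLaw_apply, rho_smul, TensorProduct.smul_tmul', smul_eq_mul]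
  mult S _ _ := by
    refine ⟨?_, fun x y => ?_⟩
    · rw [frobLaw_apply, rho_one]
      rfl
    · rw [frobLaw_apply, frobLaw_apply, frobLaw_apply, rho_mul,
        Algebra.TensorProduct.tmul_mul_tmul, mul_one]

lemma frobMulLaw_tmul (S : Type u) [CommSemiring S] [Algebra k S] (s : S)
    (a : FrobAlg.Twist p k) :
    (frobMulLaw p k).law.toFun' S (s ⊗ₜ[k] a) = (s ^ p) ⊗ₜ[k] (FrobAlg.toTwist p k).symm a := by
  change (rho p k S (s ⊗ₜ[k] a)) ⊗ₜ[k] (1 : k) = _
  rw [rho_tmul, mul_comm, ← Algebra.smul_def, TensorProduct.smul_tmul, smul_eq_mul, mul_one]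

end law

section ker
variable (p : ℕ) [hp : Fact p.Prime] (k : Type u) [Field k] [CharP k p]

/-- a multiplicative law of positive degree on (a twisted copy of) a field has zero kernel -/
lemma ker_eq_bot (d : ℕ) (hd : 0 < d) (F : PolLaw.MulLaw k (FrobAlg.Twist p k) k d) :
    PolLaw.ker F.law = ⊥ := by
  rw [eq_bot_iff]
  intro b hb
  rw [Ideal.mem_bot]
  by_contra hne
  set b0 := (FrobAlg.toTwist p k).symm b with hb0
  have hbb : FrobAlg.toTwist p k b0 = b := (FrobAlg.toTwist p k).apply_symm_apply b
  have hb0ne : b0 ≠ 0 := fun h => hne (by rw [← hbb, h, map_zero])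
  have h1 : (1 : FrobAlg.Twist p k) ∈ PolLaw.ker F.law := by
    have := (PolLaw.ker F.law).mul_mem_left (FrobAlg.toTwist p k (b0⁻¹)) hb
    rwa [← hbb, ← map_mul, inv_mul_cancel₀ hb0ne, map_one] at this
  have h2 := h1 k 0 1
  rw [zero_add, one_mul, ← Algebra.TensorProduct.one_def, (F.mult k).1] at h2
  have h3 : F.law.toFun' k 0 = 0 := by
    have := F.homog k (0 : k) (1 : k ⊗[k] FrobAlg.Twist p k)
    rwa [zero_smul, zero_pow hd.ne', zero_smul] at this
  rw [h3] at h2
  have h4 := congrArg (Algebra.TensorProduct.lmul' k (S := k)) h2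
  rw [map_one, map_zero] at h4
  exact one_ne_zero h4

end ker

section notfinite
variable (p : ℕ) [hp : Fact p.Prime]

open MvPolynomial

theorem twist_not_finite :
    ¬ Module.Finite (FractionRing (MvPolynomial ℕ (ZMod p)))
      (FrobAlg.Twist p (FractionRing (MvPolynomial ℕ (ZMod p)))) := by
  intro hfin
  have hli : LinearIndependent (FractionRing (MvPolynomial ℕ (ZMod p)))
      (fun i : ℕ => FrobAlg.toTwist p (FractionRing (MvPolynomial ℕ (ZMod p)))
        (algebraMap (MvPolynomial ℕ (ZMod p)) (FractionRing (MvPolynomial ℕ (ZMod p))) (X i))) := by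
    rw [linearIndependent_iff']
    intro s c hsum j hj
    -- translate to an identity in the fraction field
    have hsum' : ∑ i ∈ s, (c i) ^ p *
        algebraMap (MvPolynomial ℕ (ZMod p)) (FractionRing (MvPolynomial ℕ (ZMod p))) (X i) = 0 := by
      have h := congrArg (FrobAlg.toTwist p (FractionRing (MvPolynomial ℕ (ZMod p)))).symm hsum
      rw [map_zero, map_sum] at h
      rw [← h]
      refine Finset.sum_congr rfl (fun i _ => ?_)
      rw [Algebra.smul_def, FrobAlg.algebraMap_twist, map_mul, RingEquiv.symm_apply_apply,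
        RingEquiv.symm_apply_apply]
    -- clear denominators
    obtain ⟨b, hb⟩ := IsLocalization.exist_integer_multiples_of_finset
      (nonZeroDivisors (MvPolynomial ℕ (ZMod p))) (s.image c)
    have hb' : ∀ i ∈ s, ∃ a : MvPolynomial ℕ (ZMod p),
        algebraMap _ (FractionRing (MvPolynomial ℕ (ZMod p))) a =
          algebraMap _ (FractionRing (MvPolynomial ℕ (ZMod p))) (b : MvPolynomial ℕ (ZMod p)) * c i := by
      intro i hi
      obtain ⟨a, ha⟩ := hb (c i) (Finset.mem_image_of_mem c hi)
      exact ⟨a, by rw [ha, Algebra.smul_def]⟩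
    choose a ha using hb'
    let a' : ℕ → MvPolynomial ℕ (ZMod p) := fun i => if h : i ∈ s then a i h else 0
    have ha' : ∀ i ∈ s, algebraMap _ (FractionRing (MvPolynomial ℕ (ZMod p))) (a' i) =
        algebraMap _ (FractionRing (MvPolynomial ℕ (ZMod p))) (b : MvPolynomial ℕ (ZMod p)) * c i := by
      intro i hi
      simp only [a', dif_pos hi]
      exact ha i hi
    have hpoly : ∑ i ∈ s, (a' i) ^ p * X i = 0 := by
      apply IsFractionRing.injective (MvPolynomial ℕ (ZMod p))
        (FractionRing (MvPolynomial ℕ (ZMod p)))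
      rw [map_zero, map_sum]
      have : ∑ i ∈ s, algebraMap _ (FractionRing (MvPolynomial ℕ (ZMod p))) ((a' i) ^ p * X i) =
          (algebraMap _ (FractionRing (MvPolynomial ℕ (ZMod p))) (b : MvPolynomial ℕ (ZMod p))) ^ p *
            ∑ i ∈ s, (c i) ^ p *
              algebraMap (MvPolynomial ℕ (ZMod p)) (FractionRing (MvPolynomial ℕ (ZMod p))) (X i) := by
        rw [Finset.mul_sum]
        refine Finset.sum_congr rfl (fun i hi => ?_)
        rw [map_mul, map_pow, ha' i hi, mul_pow, mul_assoc]
      rw [this, hsum', mul_zero]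
    -- differentiate
    have hchar : CharP (MvPolynomial ℕ (ZMod p)) p := inferInstance
    have hd := congrArg (pderiv j) hpoly
    rw [map_zero, map_sum] at hd
    have hterm : ∀ i ∈ s, pderiv j ((a' i) ^ p * X i) = if i = j then (a' i) ^ p else 0 := by
      intro i _
      rw [Derivation.leibniz, Derivation.leibniz_pow, pderiv_X]
      have hp0 : (p : MvPolynomial ℕ (ZMod p)) = 0 := CharP.cast_eq_zero _ p
      by_cases hij : i = j
      · subst hij
        simp [Pi.single_eq_same, nsmul_eq_mul]
      · rw [if_neg hij]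
        have : (Pi.single j (1 : MvPolynomial ℕ (ZMod p)) : ℕ → MvPolynomial ℕ (ZMod p)) i = 0 :=
          Pi.single_eq_of_ne hij _
        simp [this, nsmul_eq_mul]
    rw [Finset.sum_congr rfl hterm, Finset.sum_ite_eq' s j, if_pos hj] at hd
    have haj : a' j = 0 := pow_eq_zero_iff (hp.out.ne_zero) |>.mp hd
    have h5 := ha' j hj
    rw [haj, map_zero] at h5
    have hbne : algebraMap _ (FractionRing (MvPolynomial ℕ (ZMod p))) (b : MvPolynomial ℕ (ZMod p)) ≠ 0 := by
      intro h
      have := IsFractionRing.injective (MvPolynomial ℕ (ZMod p))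
        (FractionRing (MvPolynomial ℕ (ZMod p))) (h.trans (map_zero _).symm)
      exact nonZeroDivisors.ne_zero b.2 this
    exact (mul_eq_zero.mp h5.symm).resolve_left hbne
  have hN : IsNoetherian (FractionRing (MvPolynomial ℕ (ZMod p)))
      (FrobAlg.Twist p (FractionRing (MvPolynomial ℕ (ZMod p)))) := inferInstance
  have := hli.finite_of_isNoetherian
  exact _root_.not_finite ℕ

end notfinite

end Groth.Agent.Lib.Helper14.FrobLaw
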