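/-
Helper14FrobNil (helper14): Zink's deformation lemma for Frobenius modules.
* Witt part: if `p^M = 0` in `S` and `a^N = 0` for all `a ∈ ker φ`, then some iterate `F^K` of the
  Witt vector Frobenius kills `ker (W(S) → W(R))` (`iterate_frobenius_eq_zero_of_mem_ker`).
  Tools: `coeff_frobenius_eq`, `constantCoeff_frobeniusPolyAux`, `dvd_coeff_iterate_frobenius_sub`,
  `pow_succ_dvd_coeff_frobenius`.
* Linear part: for `σ`-semilinear `F₁, F₂` with `F₁` carrying a basis to a basis, the operator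
  `U α = F₂ ∘ α ∘ (F₁^♯)⁻¹` on `Hom(P₁,P₂)` (`U`, `U_F₁`, `U_eq_self_iff`) is nilpotent on maps
  with values in `𝔞 P₂` when `σ^K 𝔞 = 0` (`U_pow_eq_zero`); `exists_fixed`, `fixed_unique`.
-/
import Mathlib

set_option autoImplicit false

namespace Groth.Agent.Lib.Helper14.FrobNil

open WittVector MvPolynomial

section Witt

variable {p : ℕ} [hp : Fact p.Prime] {S : Type*} [CommRing S]

omit hp in
theorem constantCoeff_frobeniusPolyAux (n : ℕ) :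
    MvPolynomial.constantCoeff (frobeniusPolyAux p n) = 0 := by
  induction n using Nat.strong_induction_on with
  | _ n ih =>
    rw [frobeniusPolyAux_eq, map_sub, constantCoeff_X, map_sum, zero_sub, neg_eq_zero]
    refine Finset.sum_eq_zero fun i hi => ?_
    rw [map_sum]
    refine Finset.sum_eq_zero fun j _ => ?_
    rw [map_mul, map_mul, map_pow MvPolynomial.constantCoeff (frobeniusPolyAux p i), ih i (Finset.mem_range.1 hi),
      zero_pow (Nat.succ_ne_zero j), mul_zero, zero_mul]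

theorem aeval_sub_constantCoeff_mem (I : Ideal S) (f : ℕ → S) (hf : ∀ i, f i ∈ I)
    (q : MvPolynomial ℕ ℤ) : aeval f q - algebraMap ℤ S (MvPolynomial.constantCoeff q) ∈ I := by
  induction q using MvPolynomial.induction_on with
  | C a => simp
  | add q r hq hr =>
    have : aeval f (q + r) - algebraMap ℤ S (MvPolynomial.constantCoeff (q + r)) =
        (aeval f q - algebraMap ℤ S (MvPolynomial.constantCoeff q)) +
          (aeval f r - algebraMap ℤ S (MvPolynomial.constantCoeff r)) := by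
      rw [map_add, map_add, map_add]; ring
    rw [this]
    exact I.add_mem hq hr
  | mul_X q i hq =>
    rw [map_mul, aeval_X, map_mul, constantCoeff_X, mul_zero, map_zero, sub_zero]
    exact I.mul_mem_left _ (hf i)

theorem coeff_frobenius_eq (x : WittVector p S) (n : ℕ) :
    (frobenius x).coeff n =
      x.coeff n ^ p + (p : S) * aeval x.coeff (frobeniusPolyAux p n) := by
  rw [coeff_frobenius, frobeniusPoly, map_add, map_pow, aeval_X, map_mul, aeval_C]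
  simp

/-- the `n`-th coefficient of `F^k x` is `x_n ^ (p^k)` modulo `p` -/
theorem dvd_coeff_iterate_frobenius_sub (x : WittVector p S) (k n : ℕ) :
    (p : S) ∣ ((frobenius^[k]) x).coeff n - x.coeff n ^ (p ^ k) := by
  induction k with
  | zero => simp
  | succ k ih =>
    rw [Function.iterate_succ_apply', coeff_frobenius_eq, pow_succ, pow_mul]
    have h1 : (p : S) ∣ ((frobenius^[k]) x).coeff n ^ p - (x.coeff n ^ p ^ k) ^ p :=
      ih.trans (sub_dvd_pow_sub_pow _ _ p)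
    have : ((frobenius^[k]) x).coeff n ^ p +
        (p : S) * aeval ((frobenius^[k]) x).coeff (frobeniusPolyAux p n) - (x.coeff n ^ p ^ k) ^ p =
        (((frobenius^[k]) x).coeff n ^ p - (x.coeff n ^ p ^ k) ^ p) +
          (p : S) * aeval ((frobenius^[k]) x).coeff (frobeniusPolyAux p n) := by ring
    rw [this]
    exact dvd_add h1 (dvd_mul_right _ _)

/-- if all coefficients of `x` are divisible by `p^j`, `j ≥ 1`, those of `F x` are divisible by `p^(j+1)` -/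
theorem pow_succ_dvd_coeff_frobenius (x : WittVector p S) (j : ℕ) (hj : 1 ≤ j)
    (hx : ∀ n, (p : S) ^ j ∣ x.coeff n) (n : ℕ) : (p : S) ^ (j + 1) ∣ (frobenius x).coeff n := by
  rw [coeff_frobenius_eq]
  refine dvd_add ?_ ?_
  · have h1 : ((p : S) ^ j) ^ p ∣ x.coeff n ^ p := pow_dvd_pow_of_dvd (hx n) p
    refine dvd_trans ?_ h1
    rw [← pow_mul]
    refine pow_dvd_pow _ ?_
    have : 2 ≤ p := hp.out.two_le
    nlinarith
  · rw [pow_succ']
    refine mul_dvd_mul_left _ ?_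
    have := aeval_sub_constantCoeff_mem (Ideal.span {(p : S) ^ j}) x.coeff
      (fun i => Ideal.mem_span_singleton.2 (hx i)) (frobeniusPolyAux p n)
    rw [constantCoeff_frobeniusPolyAux, map_zero, sub_zero] at this
    exact Ideal.mem_span_singleton.1 this

theorem iterate_frobenius_eq_zero {M N k : ℕ} (hM : (p : S) ^ M = 0) (hk : N ≤ p ^ k)
    (x : WittVector p S) (hx : ∀ n, x.coeff n ^ N = 0) : (frobenius^[M + k]) x = 0 := by
  have h1 : ∀ n, (p : S) ^ 1 ∣ ((frobenius^[k]) x).coeff n := by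
    intro n
    have := dvd_coeff_iterate_frobenius_sub x k n
    rw [pow_one]
    have h0 : x.coeff n ^ p ^ k = 0 := pow_eq_zero_of_le hk (hx n)
    rwa [h0, sub_zero] at this
  have h2 : ∀ j : ℕ, ∀ n, (p : S) ^ (j + 1) ∣ ((frobenius^[j + k]) x).coeff n := by
    intro j
    induction j with
    | zero => simpa using h1
    | succ j ih =>
      intro n
      have e : j + 1 + k = (j + k) + 1 := by omega
      rw [e, Function.iterate_succ_apply']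
      exact pow_succ_dvd_coeff_frobenius _ (j + 1) (by omega) ih n
  ext n
  have := h2 M n
  rw [pow_succ, hM, zero_mul, zero_dvd_iff] at this
  rw [this, WittVector.zero_coeff]

theorem iterate_frobenius_eq_zero_of_mem_ker {R : Type*} [CommRing R] (φ : S →+* R)
    (hpn : IsNilpotent (p : S)) (N : ℕ) (hN : ∀ a : S, φ a = 0 → a ^ N = 0) :
    ∃ K : ℕ, ∀ x ∈ RingHom.ker (WittVector.map (p := p) φ), (frobenius^[K]) x = 0 := by
  obtain ⟨M, hM⟩ := hpn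
  obtain ⟨k, hk⟩ : ∃ k, N ≤ p ^ k := ⟨N, (Nat.lt_pow_self hp.out.one_lt).le⟩
  refine ⟨M + k, fun x hx => iterate_frobenius_eq_zero hM hk x fun n => hN _ ?_⟩
  have := congrArg (fun y => y.coeff n) ((RingHom.mem_ker).1 hx)
  simpa using this

end Witt

section Lin

universe uW v w z

variable {W : Type uW} [CommRing W] (σ : W →+* W)
  {P₁ : Type v} [AddCommGroup P₁] [Module W P₁]
  {P₂ : Type w} [AddCommGroup P₂] [Module W P₂]
  {ι₁ : Type z} (b₁ : Module.Basis ι₁ W P₁)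
  (F₁ : P₁ →ₛₗ[σ] P₁) (F₂ : P₂ →ₛₗ[σ] P₂)
  (hli : LinearIndependent W (fun i => F₁ (b₁ i)))
  (hsp : Submodule.span W (Set.range fun i => F₁ (b₁ i)) = ⊤)

/-- the basis `F₁ ∘ b₁` -/
noncomputable def e₁ : Module.Basis ι₁ W P₁ := Module.Basis.mk hli hsp.ge

theorem e₁_apply (i : ι₁) : e₁ σ b₁ F₁ hli hsp i = F₁ (b₁ i) := by
  simp [e₁]

/-- `U α = F₂ ∘ α ∘ (F₁^♯)⁻¹` -/
noncomputable def U : (P₁ →ₗ[W] P₂) →+ (P₁ →ₗ[W] P₂) where
  toFun α := (e₁ σ b₁ F₁ hli hsp).constr ℕ (fun i => F₂ (α (b₁ i)))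
  map_zero' := by
    apply (e₁ σ b₁ F₁ hli hsp).ext
    intro i
    simp
  map_add' α β := by
    apply (e₁ σ b₁ F₁ hli hsp).ext
    intro i
    simp

theorem U_e₁ (α : P₁ →ₗ[W] P₂) (i : ι₁) :
    U σ b₁ F₁ F₂ hli hsp α (F₁ (b₁ i)) = F₂ (α (b₁ i)) := by
  have := (e₁ σ b₁ F₁ hli hsp).constr_basis ℕ (fun i => F₂ (α (b₁ i))) i
  rw [e₁_apply] at this
  exact this

theorem U_F₁ (α : P₁ →ₗ[W] P₂) (x : P₁) :
    U σ b₁ F₁ F₂ hli hsp α (F₁ x) = F₂ (α x) := by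
  have h : (U σ b₁ F₁ F₂ hli hsp α).comp F₁ = F₂.comp α := by
    apply b₁.ext
    intro i
    simp only [LinearMap.comp_apply]
    exact U_e₁ σ b₁ F₁ F₂ hli hsp α i
  exact LinearMap.congr_fun h x

theorem U_eq_self_iff (α : P₁ →ₗ[W] P₂) :
    U σ b₁ F₁ F₂ hli hsp α = α ↔ ∀ x, F₂ (α x) = α (F₁ x) := by
  constructor
  · intro h x
    rw [← U_F₁ σ b₁ F₁ F₂ hli hsp, h]
  · intro h
    apply (e₁ σ b₁ F₁ hli hsp).ext
    intro i
    rw [e₁_apply, U_F₁, h]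

include hsp in
/-- a linear map with values in `Q` on the basis `F₁ ∘ b₁` has values in `Q` -/
theorem mem_of_basis (L : P₁ →ₗ[W] P₂) (Q : Submodule W P₂) (h : ∀ i, L (F₁ (b₁ i)) ∈ Q) (x : P₁) :
    L x ∈ Q := by
  have hx : x ∈ Submodule.span W (Set.range fun i => F₁ (b₁ i)) := by rw [hsp]; trivial
  induction hx using Submodule.span_induction with
  | mem y hy =>
    obtain ⟨i, rfl⟩ := hy
    exact h i
  | zero => rw [map_zero]; exact Q.zero_mem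
  | add y y' _ _ hy hy' => rw [map_add]; exact Q.add_mem hy hy'
  | smul c y _ hy => rw [map_smul]; exact Q.smul_mem c hy

theorem F₂_mem (𝔠 𝔡 : Ideal W) (h : ∀ c ∈ 𝔠, σ c ∈ 𝔡) (y : P₂)
    (hy : y ∈ 𝔠 • (⊤ : Submodule W P₂)) : F₂ y ∈ 𝔡 • (⊤ : Submodule W P₂) := by
  induction hy using Submodule.smul_induction_on' with
  | smul c hc y _ =>
    rw [LinearMap.map_smulₛₗ]
    exact Submodule.smul_mem_smul (h c hc) trivial
  | add y _ y' _ hy hy' =>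
    rw [map_add]
    exact Submodule.add_mem _ hy hy'

theorem U_mem (𝔠 𝔡 : Ideal W) (h : ∀ c ∈ 𝔠, σ c ∈ 𝔡) (α : P₁ →ₗ[W] P₂)
    (hα : ∀ x, α x ∈ 𝔠 • (⊤ : Submodule W P₂)) (x : P₁) :
    U σ b₁ F₁ F₂ hli hsp α x ∈ 𝔡 • (⊤ : Submodule W P₂) := by
  refine mem_of_basis σ b₁ F₁ hsp _ _ (fun i => ?_) x
  rw [U_e₁]
  exact F₂_mem σ F₂ 𝔠 𝔡 h _ (hα _)

theorem U_pow_mem (𝔠 : Ideal W) (α : P₁ →ₗ[W] P₂)
    (hα : ∀ x, α x ∈ 𝔠 • (⊤ : Submodule W P₂)) (k : ℕ) (x : P₁) :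
    ((U σ b₁ F₁ F₂ hli hsp)^[k]) α x ∈ (𝔠.map (σ ^ k)) • (⊤ : Submodule W P₂) := by
  induction k generalizing x with
  | zero =>
    rw [pow_zero, Function.iterate_zero, id_eq]
    have : Ideal.map (1 : W →+* W) 𝔠 = 𝔠 := Ideal.map_id 𝔠
    rw [this]
    exact hα x
  | succ k ih =>
    rw [Function.iterate_succ_apply']
    refine U_mem σ b₁ F₁ F₂ hli hsp (𝔠.map (σ ^ k)) _ ?_ _ ih x
    intro c hc
    rw [pow_succ']
    show σ c ∈ Ideal.map (σ.comp (σ ^ k)) 𝔠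
    rw [← Ideal.map_map]
    exact Ideal.mem_map_of_mem _ hc

theorem U_pow_eq_zero (𝔠 : Ideal W) (K : ℕ) (hK : ∀ c ∈ 𝔠, (σ^[K]) c = 0) (α : P₁ →ₗ[W] P₂)
    (hα : ∀ x, α x ∈ 𝔠 • (⊤ : Submodule W P₂)) :
    ((U σ b₁ F₁ F₂ hli hsp)^[K]) α = 0 := by
  apply LinearMap.ext
  intro x
  have h1 := U_pow_mem σ b₁ F₁ F₂ hli hsp 𝔠 α hα K x
  have h2 : 𝔠.map (σ ^ K) = ⊥ := by
    rw [eq_bot_iff, Ideal.map_le_iff_le_comap]
    intro c hc
    rw [Ideal.mem_comap, Ideal.mem_bot, RingHom.coe_pow]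
    exact hK c hc
  rw [h2, Submodule.bot_smul, Submodule.mem_bot] at h1
  rw [h1, LinearMap.zero_apply]

theorem U_pow_mem_of_stable (𝔠 : Ideal W) (h𝔠 : ∀ c ∈ 𝔠, σ c ∈ 𝔠) (α : P₁ →ₗ[W] P₂)
    (hα : ∀ x, α x ∈ 𝔠 • (⊤ : Submodule W P₂)) (k : ℕ) (x : P₁) :
    ((U σ b₁ F₁ F₂ hli hsp)^[k]) α x ∈ 𝔠 • (⊤ : Submodule W P₂) := by
  induction k generalizing x with
  | zero => rw [Function.iterate_zero, id_eq]; exact hα x
  | succ k ih =>
    rw [Function.iterate_succ_apply']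
    exact U_mem σ b₁ F₁ F₂ hli hsp 𝔠 𝔠 h𝔠 _ ih x

include hli hsp in
/-- existence -/
theorem exists_fixed (𝔠 𝔞 : Ideal W) (h𝔠𝔞 : 𝔠 ≤ 𝔞) (h𝔠 : ∀ c ∈ 𝔠, σ c ∈ 𝔠)
    (K : ℕ) (hK : ∀ c ∈ 𝔞, (σ^[K]) c = 0) (α₀ : P₁ →ₗ[W] P₂)
    (hα₀ : ∀ x : P₁, F₂ (α₀ x) - α₀ (F₁ x) ∈ 𝔠 • (⊤ : Submodule W P₂)) :
    ∃ α : P₁ →ₗ[W] P₂, (∀ x : P₁, α x - α₀ x ∈ 𝔠 • (⊤ : Submodule W P₂)) ∧
      ∀ x : P₁, F₂ (α x) = α (F₁ x) := by
  have hC : ∀ x, (U σ b₁ F₁ F₂ hli hsp α₀ - α₀) x ∈ 𝔠 • (⊤ : Submodule W P₂) := by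
    refine mem_of_basis σ b₁ F₁ hsp _ _ (fun i => ?_)
    rw [LinearMap.sub_apply, U_F₁]
    exact hα₀ _
  refine ⟨α₀ + ∑ k ∈ Finset.range K, ((U σ b₁ F₁ F₂ hli hsp)^[k]) (U σ b₁ F₁ F₂ hli hsp α₀ - α₀),
    fun x => ?_, ?_⟩
  · rw [LinearMap.add_apply, add_sub_cancel_left, LinearMap.sum_apply]
    exact Submodule.sum_mem _ fun k _ => U_pow_mem_of_stable σ b₁ F₁ F₂ hli hsp 𝔠 h𝔠 _ hC k x
  · rw [← U_eq_self_iff σ b₁ F₁ F₂ hli hsp]
    have h0 : ((U σ b₁ F₁ F₂ hli hsp)^[K]) (U σ b₁ F₁ F₂ hli hsp α₀ - α₀) = 0 :=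
      U_pow_eq_zero σ b₁ F₁ F₂ hli hsp 𝔠 K (fun c hc => hK c (h𝔠𝔞 hc)) _ hC
    have h1 : ∀ k, U σ b₁ F₁ F₂ hli hsp
        (((U σ b₁ F₁ F₂ hli hsp)^[k]) (U σ b₁ F₁ F₂ hli hsp α₀ - α₀)) =
        ((U σ b₁ F₁ F₂ hli hsp)^[k + 1]) (U σ b₁ F₁ F₂ hli hsp α₀ - α₀) := by
      intro k
      rw [Function.iterate_succ_apply']
    rw [map_add, map_sum]
    simp only [h1]
    have h2 := Finset.sum_range_succ'
      (fun k => ((U σ b₁ F₁ F₂ hli hsp)^[k]) (U σ b₁ F₁ F₂ hli hsp α₀ - α₀)) K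
    rw [Finset.sum_range_succ, h0, add_zero, Function.iterate_zero, id_eq] at h2
    rw [h2]
    abel

include hli hsp in
/-- uniqueness -/
theorem fixed_unique (𝔞 : Ideal W) (K : ℕ) (hK : ∀ c ∈ 𝔞, (σ^[K]) c = 0)
    (α β : P₁ →ₗ[W] P₂) (hαβ : ∀ x : P₁, α x - β x ∈ 𝔞 • (⊤ : Submodule W P₂))
    (hα : ∀ x : P₁, F₂ (α x) = α (F₁ x)) (hβ : ∀ x : P₁, F₂ (β x) = β (F₁ x)) : α = β := by
  rw [← U_eq_self_iff σ b₁ F₁ F₂ hli hsp] at hα hβ
  have hfix : ∀ k, ((U σ b₁ F₁ F₂ hli hsp)^[k]) (α - β) = α - β := by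
    intro k
    induction k with
    | zero => rw [Function.iterate_zero, id_eq]
    | succ k ih => rw [Function.iterate_succ_apply', ih, map_sub, hα, hβ]
  have h0 := U_pow_eq_zero σ b₁ F₁ F₂ hli hsp 𝔞 K hK (α - β) (fun x => by
    rw [LinearMap.sub_apply]; exact hαβ x)
  rw [hfix] at h0
  exact sub_eq_zero.1 h0

end Lin

end Groth.Agent.Lib.Helper14.FrobNil
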