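import Mathlib
import Groth.Agent.Lib.Helper14GeomIrr

/-! Helper14: for a f.g. algebra `R` over a field of char `p`, `k[R^(p^n)]` is geometrically
reduced for `n ≫ 0`. -/

set_option autoImplicit false
universe u
open TensorProduct

namespace Groth.Agent.Lib.Helper14.FrobRed

open Groth.Agent.Lib.Helper14.GeomIrr

theorem exists_isGeometricallyReduced_adjoin_pow (k : Type u) [Field k] (p : ℕ) [Fact p.Prime]
    [CharP k p] (R : Type u) [CommRing R] [Algebra k R] [Algebra.FiniteType k R] :
    ∃ n : ℕ, Algebra.IsGeometricallyReduced k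
      ↥(Algebra.adjoin k (Set.range (fun x : R => x ^ (p ^ n)))) := by
  rcases subsingleton_or_nontrivial R with hR | hR
  · refine ⟨0, ?_⟩
    rw [Algebra.isGeometricallyReduced_field_iff]
    haveI : Subsingleton (AlgebraicClosure k ⊗[k]
        ↥(Algebra.adjoin k (Set.range (fun x : R => x ^ (p ^ 0))))) := by
      apply subsingleton_of_zero_eq_one
      rw [Algebra.TensorProduct.one_def, Subsingleton.elim
        (1 : ↥(Algebra.adjoin k (Set.range (fun x : R => x ^ (p ^ 0))))) 0, tmul_zero]
    infer_instance
  · haveI : Nontrivial (AlgebraicClosure k ⊗[k] R) :=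
      (Algebra.TensorProduct.includeRight_injective (R := k) (A := AlgebraicClosure k) (B := R)
        (algebraMap k (AlgebraicClosure k)).injective).nontrivial
    haveI : CharP (AlgebraicClosure k ⊗[k] R) p :=
      charP_of_injective_algebraMap (algebraMap k (AlgebraicClosure k ⊗[k] R)).injective p
    haveI : IsNoetherianRing (AlgebraicClosure k ⊗[k] R) :=
      Algebra.FiniteType.isNoetherianRing (AlgebraicClosure k) _
    obtain ⟨m, hm⟩ := IsNoetherianRing.isNilpotent_nilradical (AlgebraicClosure k ⊗[k] R)
    refine ⟨m, ?_⟩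
    rw [Algebra.isGeometricallyReduced_field_iff]
    set A := Algebra.adjoin k (Set.range (fun x : R => x ^ (p ^ m))) with hA
    let ι : AlgebraicClosure k ⊗[k] A →ₐ[k] AlgebraicClosure k ⊗[k] R :=
      Algebra.TensorProduct.map (AlgHom.id k (AlgebraicClosure k)) A.val
    have hι : Function.Injective ι :=
      map_right_injective (S := AlgebraicClosure k) A.val Subtype.val_injective
    have hconst : ∀ c : AlgebraicClosure k, (c ⊗ₜ[k] (1 : R)) ∈
        (iterateFrobenius (AlgebraicClosure k ⊗[k] R) p m).range := by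
      intro c
      obtain ⟨c', hc'⟩ := IsAlgClosed.exists_pow_nat_eq c (pow_pos (Fact.out : p.Prime).pos m)
      refine ⟨c' ⊗ₜ 1, ?_⟩
      rw [iterateFrobenius_def, Algebra.TensorProduct.tmul_pow, one_pow, hc']
    have hA' : ∀ a ∈ A, ((1 : AlgebraicClosure k) ⊗ₜ[k] (a : R)) ∈
        (iterateFrobenius (AlgebraicClosure k ⊗[k] R) p m).range := by
      intro a ha
      induction ha using Algebra.adjoin_induction with
      | mem x hx =>
        obtain ⟨r, rfl⟩ := hx
        exact ⟨1 ⊗ₜ r, by rw [iterateFrobenius_def, Algebra.TensorProduct.tmul_pow, one_pow]⟩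
      | algebraMap t =>
        have : (1 : AlgebraicClosure k) ⊗ₜ[k] (algebraMap k R t) =
            (algebraMap k (AlgebraicClosure k) t) ⊗ₜ[k] (1 : R) := by
          rw [Algebra.algebraMap_eq_smul_one, Algebra.algebraMap_eq_smul_one, smul_tmul]
        rw [this]
        exact hconst _
      | add x y _ _ hx hy =>
        rw [tmul_add]; exact Subring.add_mem _ hx hy
      | mul x y _ _ hx hy =>
        have : (1 : AlgebraicClosure k) ⊗ₜ[k] (x * y) = (1 ⊗ₜ x) * (1 ⊗ₜ y) := by
          rw [Algebra.TensorProduct.tmul_mul_tmul, one_mul]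
        rw [this]; exact Subring.mul_mem _ hx hy
    have hrange : ∀ y, ι y ∈ (iterateFrobenius (AlgebraicClosure k ⊗[k] R) p m).range := by
      intro y
      induction y using TensorProduct.induction_on with
      | zero => rw [map_zero]; exact Subring.zero_mem _
      | tmul c a =>
        have : ι (c ⊗ₜ a) = (c ⊗ₜ[k] (1 : R)) * ((1 : AlgebraicClosure k) ⊗ₜ[k] (a : R)) := by
          simp [ι]
        rw [this]
        exact Subring.mul_mem _ (hconst c) (hA' a a.2)
      | add y z hy hz => rw [map_add]; exact Subring.add_mem _ hy hz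
    refine ⟨fun y hy => ?_⟩
    apply hι
    rw [map_zero]
    obtain ⟨z, hz⟩ := hrange y
    rw [iterateFrobenius_def] at hz
    have hznil : IsNilpotent z := by
      have h1 : IsNilpotent (ι y) := hy.map ι
      rw [← hz] at h1
      exact IsNilpotent.of_pow h1
    have hzN : z ∈ nilradical (AlgebraicClosure k ⊗[k] R) := mem_nilradical.mpr hznil
    have h2 : z ^ (p ^ m) ∈ (nilradical (AlgebraicClosure k ⊗[k] R)) ^ (p ^ m) :=
      Ideal.pow_mem_pow hzN _
    have hle : (nilradical (AlgebraicClosure k ⊗[k] R)) ^ (p ^ m) ≤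
        (nilradical (AlgebraicClosure k ⊗[k] R)) ^ m :=
      Ideal.pow_le_pow_right (Nat.lt_pow_self (Fact.out : p.Prime).one_lt).le
    have h3 := hle h2
    rw [hm] at h3
    rw [← hz]
    exact h3

end Groth.Agent.Lib.Helper14.FrobRed
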