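import Mathlib

/-!
# Flat base change of "free torsion" (helper14)

`FreeOn I N b` says that the `I`-torsion `N[I]` of the `R`-module `N` is a free `R ⧸ I`-module with
basis `b`.  For a flat `R`-algebra `S` and a finitely generated ideal `I`, this property passes
from `N` to `S ⊗[R] N` (with the ideal `I S` and the family `1 ⊗ b j`).
-/

set_option autoImplicit false
set_option linter.unusedVariables false
set_option linter.unusedSectionVars false
set_option linter.style.haveILetI false

universe u v

namespace Groth.Agent.Lib.Helper14.FrobTors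

open TensorProduct

/-- `N[I]` is free over `R ⧸ I` with basis `b`. -/
structure FreeOn {R : Type*} [CommRing R] (I : Ideal R) (N : Type*) [AddCommGroup N] [Module R N]
    {J : Type*} (b : J → N) : Prop where
  mem : ∀ j, ∀ a ∈ I, a • b j = 0
  span : ∀ z : N, (∀ a ∈ I, a • z = 0) → z ∈ Submodule.span R (Set.range b)
  indep : ∀ c : J →₀ R, Finsupp.linearCombination R b c = 0 → ∀ j, c j ∈ I

section Transport

variable {S : Type*} [CommRing S] {I : Ideal S} {N N' : Type*} [AddCommGroup N] [Module S N]
  [AddCommGroup N'] [Module S N'] {J : Type*} {b : J → N}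

/-- `FreeOn` is invariant under linear equivalences. -/
theorem FreeOn.map (h : FreeOn I N b) (θ : N ≃ₗ[S] N') : FreeOn I N' (fun j => θ (b j)) where
  mem j a ha := by rw [← map_smul, h.mem j a ha, map_zero]
  span z hz := by
    have h1 : θ.symm z ∈ Submodule.span S (Set.range b) := by
      apply h.span
      intro a ha
      rw [← map_smul, hz a ha, map_zero]
    have h2 := Submodule.mem_map_of_mem (f := θ.toLinearMap) h1
    rw [Submodule.map_span, ← Set.range_comp, LinearEquiv.coe_coe,
      LinearEquiv.apply_symm_apply] at h2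
    exact h2
  indep c hc := by
    apply h.indep c
    apply θ.injective
    rw [map_zero, ← hc, Finsupp.linearCombination_apply, Finsupp.linearCombination_apply, map_finsuppSum]
    simp

end Transport

section BaseChange

variable {R : Type*} [CommRing R] {S : Type*} [CommRing S] [Algebra R S] [Module.Flat R S]
  {N : Type*} [AddCommGroup N] [Module R N] {J : Type*} {b : J → N}
  {ι : Type*} [Fintype ι] [DecidableEq ι] (x : ι → R)

/-- The map `z ↦ (x i • z)_i`. -/
def delta (N : Type*) [AddCommGroup N] [Module R N] : N →ₗ[R] (ι → N) :=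
  LinearMap.pi (fun i => x i • LinearMap.id)

omit [Fintype ι] [DecidableEq ι] in
theorem delta_apply (z : N) (i : ι) : delta x N z i = x i • z := rfl

omit [Module.Flat R S] in
theorem piRight_lTensor_delta (w : S ⊗[R] N) (i : ι) :
    TensorProduct.piRight R R S (fun _ : ι => N) ((delta x N).lTensor S w) i = x i • w := by
  induction w using TensorProduct.induction_on with
  | zero => simp
  | tmul s z =>
    rw [LinearMap.lTensor_tmul, TensorProduct.piRight_apply, TensorProduct.piRightHom_tmul]
    change s ⊗ₜ[R] (delta x N) z i = _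
    rw [delta_apply, TensorProduct.tmul_smul]
  | add w₁ w₂ h₁ h₂ =>
    rw [map_add, map_add, Pi.add_apply, h₁, h₂, smul_add]

omit [Fintype ι] [DecidableEq ι] [Module.Flat R S] in
theorem smul_eq_zero_of_mem_span {P : Type*} [AddCommGroup P] [Module R P] {z : P}
    (hz : ∀ i, x i • z = 0) {a : R} (ha : a ∈ Ideal.span (Set.range x)) : a • z = 0 := by
  refine Submodule.span_induction ?_ ?_ ?_ ?_ ha
  · rintro _ ⟨i, rfl⟩
    exact hz i
  · exact zero_smul _ _
  · intro a₁ a₂ _ _ h₁ h₂
    rw [add_smul, h₁, h₂, add_zero]
  · intro r a₁ _ h₁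
    rw [smul_eq_mul, ← smul_smul, h₁, smul_zero]

/-- Flat base change of `FreeOn`. -/
theorem FreeOn.baseChange (h : FreeOn (Ideal.span (Set.range x)) N b) :
    FreeOn ((Ideal.span (Set.range x)).map (algebraMap R S)) (S ⊗[R] N)
      (fun j => (1 : S) ⊗ₜ[R] b j) where
  mem j a ha := by
    refine Submodule.span_induction ?_ ?_ ?_ ?_ ha
    · rintro _ ⟨r, hr, rfl⟩
      rw [algebraMap_smul, TensorProduct.smul_tmul', TensorProduct.smul_tmul, h.mem j r hr,
        TensorProduct.tmul_zero]
    · exact zero_smul _ _
    · intro a₁ a₂ _ _ h₁ h₂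
      rw [add_smul, h₁, h₂, add_zero]
    · intro r a₁ _ h₁
      rw [smul_eq_mul, ← smul_smul, h₁, smul_zero]
  span w hw := by
    -- the torsion submodule
    set K : Submodule R N :=
      Submodule.torsionBySet R N ((Ideal.span (Set.range x) : Ideal R) : Set R) with hK
    have hKmem : ∀ z : N, z ∈ K ↔ ∀ i, x i • z = 0 := by
      intro z
      rw [hK, Submodule.mem_torsionBySet_iff]
      constructor
      · intro hz i
        exact hz ⟨x i, Ideal.subset_span ⟨i, rfl⟩⟩
      · rintro hz ⟨a, ha⟩
        exact smul_eq_zero_of_mem_span x hz ha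
    have hex : Function.Exact K.subtype (delta x N) := by
      intro z
      constructor
      · intro hz
        refine ⟨⟨z, (hKmem z).2 fun i => ?_⟩, rfl⟩
        have := congrFun hz i
        rwa [delta_apply] at this
      · rintro ⟨k, rfl⟩
        funext i
        rw [delta_apply]
        exact (hKmem _).1 k.2 i
    have hex' := Module.Flat.lTensor_exact S hex
    have hw0 : (delta x N).lTensor S w = 0 := by
      apply (TensorProduct.piRight R R S (fun _ : ι => N)).injective
      rw [map_zero]
      funext i
      rw [piRight_lTensor_delta, Pi.zero_apply, ← algebraMap_smul S (x i) w]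
      exact hw _ (Ideal.mem_map_of_mem _ (Ideal.subset_span ⟨i, rfl⟩))
    obtain ⟨w', rfl⟩ := (hex' w).1 hw0
    -- every element of the image of `S ⊗ K` is in the span
    clear hw hw0
    induction w' using TensorProduct.induction_on with
    | zero => rw [map_zero]; exact Submodule.zero_mem _
    | tmul s k =>
      rw [LinearMap.lTensor_tmul]
      have hk : (k : N) ∈ Submodule.span R (Set.range b) := by
        apply h.span
        intro a ha
        exact smul_eq_zero_of_mem_span x ((hKmem _).1 k.2) ha
      change s ⊗ₜ[R] (k : N) ∈ _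
      refine Submodule.span_induction ?_ ?_ ?_ ?_ hk
      · rintro _ ⟨j, rfl⟩
        have : s ⊗ₜ[R] b j = s • ((1 : S) ⊗ₜ[R] b j) := by
          rw [TensorProduct.smul_tmul', smul_eq_mul, mul_one]
        rw [this]
        exact Submodule.smul_mem _ _ (Submodule.subset_span ⟨j, rfl⟩)
      · rw [TensorProduct.tmul_zero]; exact Submodule.zero_mem _
      · intro z₁ z₂ _ _ h₁ h₂
        rw [TensorProduct.tmul_add]
        exact Submodule.add_mem _ h₁ h₂
      · intro r z₁ _ h₁
        rw [TensorProduct.tmul_smul, ← algebraMap_smul S r]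
        exact Submodule.smul_mem _ _ h₁
    | add w₁ w₂ h₁ h₂ =>
      rw [map_add]
      exact Submodule.add_mem _ h₁ h₂
  indep c hc j₀ := by
    classical
    set Λ : (J →₀ R) →ₗ[R] N := Finsupp.linearCombination R b with hΛ
    have hex0 : Function.Exact (LinearMap.ker Λ).subtype Λ := LinearMap.exact_subtype_ker_map Λ
    have hex' := Module.Flat.lTensor_exact S (N := ↥(LinearMap.ker Λ)) (N' := J →₀ R) (N'' := N)
      (f := (LinearMap.ker Λ).subtype) (g := Λ) hex0
    -- the element `ξ = ∑ c j ⊗ single j 1`
    set ξ : S ⊗[R] (J →₀ R) := c.sum (fun j s => s ⊗ₜ[R] Finsupp.single j (1 : R)) with hξ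
    have hξ0 : Λ.lTensor S ξ = 0 := by
      rw [hξ, map_finsuppSum, ← hc, Finsupp.linearCombination_apply]
      apply Finsupp.sum_congr
      intro j _
      rw [LinearMap.lTensor_tmul, hΛ, Finsupp.linearCombination_single, one_smul,
        TensorProduct.smul_tmul', smul_eq_mul, mul_one]
    obtain ⟨w', hw'⟩ := (hex' ξ).1 hξ0
    -- the coordinate functional
    set γ : S ⊗[R] (J →₀ R) →ₗ[R] S :=
      (TensorProduct.rid R S).toLinearMap ∘ₗ (Finsupp.lapply j₀).lTensor S with hγ
    have hγξ : γ ξ = c j₀ := by
      rw [hξ, map_finsuppSum]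
      have : ∀ j s, γ (s ⊗ₜ[R] Finsupp.single j (1 : R)) = if j = j₀ then s else 0 := by
        intro j s
        rw [hγ, LinearMap.comp_apply, LinearMap.lTensor_tmul, LinearEquiv.coe_coe,
          TensorProduct.rid_tmul, Finsupp.lapply_apply, Finsupp.single_apply]
        split_ifs <;> simp
      simp only [this]
      rw [Finsupp.sum_ite_eq' c j₀]
      split_ifs with hmem
      · rfl
      · exact (Finsupp.notMem_support_iff.1 hmem).symm
    rw [← hγξ, ← hw']
    clear hw' hξ0
    induction w' using TensorProduct.induction_on with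
    | zero => rw [map_zero, map_zero]; exact Submodule.zero_mem _
    | tmul s z =>
      rw [LinearMap.lTensor_tmul, hγ, LinearMap.comp_apply, LinearMap.lTensor_tmul,
        LinearEquiv.coe_coe, TensorProduct.rid_tmul, Submodule.subtype_apply, Finsupp.lapply_apply,
        ← algebraMap_smul S, smul_eq_mul]
      apply Ideal.mul_mem_right
      apply Ideal.mem_map_of_mem
      exact h.indep z.1 (LinearMap.mem_ker.1 z.2) j₀
    | add w₁ w₂ h₁ h₂ =>
      rw [map_add, map_add]
      exact Submodule.add_mem _ h₁ h₂

end BaseChange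

end Groth.Agent.Lib.Helper14.FrobTors
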