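import Mathlib
import Groth.Agent.Lib.Helper14FrobTorsA

/-!
# Frobenius descent of "free torsion" (helper14)

If `F^* M ≅ M` for the (flat) Frobenius `F` of `R`, and `M[I]` is free over `R ⧸ I` for
`I = (x_i)`, then `M[I^{[p^n]}]` is free over `R ⧸ I^{[p^n]}` for every `n`, on the same index set.
-/

set_option autoImplicit false
set_option linter.unusedVariables false
set_option linter.unusedSectionVars false
set_option linter.style.haveILetI false

universe u v

namespace Groth.Agent.Lib.Helper14.FrobTors

open TensorProduct

section Step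

variable {R S : Type u} [CommRing R] [CommRing S] (f : R →+* S)
  {M : Type u} [AddCommGroup M] [Module R M] {N : Type u} [AddCommGroup N] [Module S N]

/-- One step: base change along a flat ring map `f` followed by an isomorphism
`f^* M ≅ N`. -/
theorem FreeOn.extendScalars_step (hflat : f.Flat)
    (e : ↑((ModuleCat.extendScalars f).obj (ModuleCat.of R M)) ≃ₗ[S] N)
    {ι : Type*} [Fintype ι] [DecidableEq ι] (x : ι → R) {J : Type*} {b : J → M}
    (h : FreeOn (Ideal.span (Set.range x)) M b) :
    ∃ b' : J → N, FreeOn (Ideal.span (Set.range fun i => f (x i))) N b' := by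
  letI : Algebra R S := f.toAlgebra
  haveI : Module.Flat R S := hflat
  let θ : (S ⊗[R] M) ≃ₗ[S] N := e
  have h1 := (FreeOn.baseChange (S := S) x h).map θ
  have hI : (Ideal.span (Set.range x)).map (algebraMap R S) =
      Ideal.span (Set.range fun i => f (x i)) := by
    rw [Ideal.map_span, ← Set.range_comp]
    rfl
  rw [hI] at h1
  exact ⟨_, h1⟩

end Step

section Iterate

variable (p : ℕ) [Fact p.Prime] {R : Type u} [CommRing R] [CharP R p]
  {M : Type u} [AddCommGroup M] [Module R M]

/-- Iterating the Frobenius step. -/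
theorem FreeOn.frobenius_iterate (hflat : (frobenius R p).Flat)
    (h : Nonempty ((ModuleCat.extendScalars (frobenius R p)).obj (ModuleCat.of R M) ≅
      ModuleCat.of R M))
    {ι : Type*} [Fintype ι] [DecidableEq ι] (x : ι → R) {J : Type*} {b : J → M}
    (h0 : FreeOn (Ideal.span (Set.range x)) M b) (n : ℕ) :
    ∃ b' : J → M, FreeOn (Ideal.span (Set.range fun i => x i ^ p ^ n)) M b' := by
  obtain ⟨e⟩ := h
  induction n with
  | zero =>
    refine ⟨b, ?_⟩
    simpa using h0
  | succ n ih =>
    obtain ⟨b', hb'⟩ := ih
    obtain ⟨b'', hb''⟩ := FreeOn.extendScalars_step (frobenius R p) hflat e.toLinearEquiv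
      (fun i => x i ^ p ^ n) hb'
    refine ⟨b'', ?_⟩
    have : (fun i => frobenius R p (x i ^ p ^ n)) = fun i => x i ^ p ^ (n + 1) := by
      funext i
      rw [frobenius_def, ← pow_mul, ← pow_succ]
    rw [this] at hb''
    exact hb''

end Iterate

end Groth.Agent.Lib.Helper14.FrobTors
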