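import Mathlib
import Groth.Agent.S0300
import Groth.Agent.Lib.Helper14FrobTorsA

/-!
# Splitting off free torsion (helper14)

If `M[I]` is free over a self-injective Noetherian quotient `R ⧸ I`, then any injective linear
map `φ : M → W` whose range is "essential on `W[I]`" maps `M[I]` onto `W[I]`.
-/

set_option autoImplicit false
set_option linter.unusedVariables false
set_option linter.unusedSectionVars false
set_option linter.style.haveILetI false

universe u v

namespace Groth.Agent.Lib.Helper14.FrobTors

/-- An injective map from an injective module with essential range is surjective. -/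
theorem surjective_of_injective_of_essential {B : Type u} [CommRing B] {V X : Type u}
    [AddCommGroup V] [Module B V] [AddCommGroup X] [Module B X] [Module.Injective B V]
    (ψ : V →ₗ[B] X) (hψ : Function.Injective ψ)
    (hess : ∀ x : X, x ≠ 0 → ∃ a : B, a • x ≠ 0 ∧ a • x ∈ LinearMap.range ψ) :
    Function.Surjective ψ := by
  have hV : Module.Injective B V := inferInstance
  obtain ⟨r, hr⟩ := (Module.Baer.of_injective hV).extension_property ψ hψ LinearMap.id
  have hrψ : ∀ v, r (ψ v) = v := fun v => LinearMap.congr_fun hr v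
  intro x
  refine ⟨r x, ?_⟩
  by_contra hne
  have hx' : x - ψ (r x) ≠ 0 := by
    intro h0
    exact hne (sub_eq_zero.1 h0).symm
  have hrx' : r (x - ψ (r x)) = 0 := by rw [map_sub, hrψ, sub_self]
  obtain ⟨a, ha, v, hv⟩ := hess _ hx'
  have h1 : v = 0 := by
    rw [← hrψ v, hv, map_smul, hrx', smul_zero]
  rw [h1, map_zero] at hv
  exact ha hv.symm

/-- Over a Noetherian ring `J →₀ E` is injective when `E` is. -/
theorem injective_finsupp' {B : Type u} [CommRing B] [IsNoetherianRing B] (J : Type u) (E : Type u)
    [AddCommGroup E] [Module B E] [Module.Injective B E] : Module.Injective B (J →₀ E) := by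
  classical
  have h1 : Module.Injective B (DirectSum J fun _ => E) :=
    Groth.Agent.S0300.result B (fun _ : J => E) (fun _ => inferInstance)
  let e : (DirectSum J fun _ => E) ≃ₗ[B] (J →₀ E) := (finsuppLEquivDirectSum B E J).symm
  exact (Module.Baer.of_equiv e (Module.Baer.of_injective h1)).injective

section Torsion

variable {R : Type u} [CommRing R] [IsNoetherianRing R] (I : Ideal R)
  {M : Type u} [AddCommGroup M] [Module R M] {J : Type u} {b : J → M}

/-- If `M[I]` is free over the self-injective ring `R ⧸ I`, it is an injective `R ⧸ I`-module. -/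
theorem FreeOn.injective_torsion (h : FreeOn I M b) [Module.Injective (R ⧸ I) (R ⧸ I)] :
    Module.Injective (R ⧸ I) (Submodule.torsionBySet R M (I : Set R)) := by
  classical
  let V : Submodule R M := Submodule.torsionBySet R M (I : Set R)
  let bV : J → V := fun j => ⟨b j, by
    rw [Submodule.mem_torsionBySet_iff]
    rintro ⟨a, ha⟩
    exact h.mem j a ha⟩
  let L : (J →₀ R ⧸ I) →ₗ[R ⧸ I] V := Finsupp.linearCombination (R ⧸ I) bV
  have key : ∀ c : J →₀ R, ((L (c.mapRange (Ideal.Quotient.mk I) (map_zero _)) : V) : M) =
      Finsupp.linearCombination R b c := by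
    intro c
    induction c using Finsupp.induction_linear with
    | zero => simp
    | add c₁ c₂ h₁ h₂ =>
      rw [Finsupp.mapRange_add (by intro x y; exact map_add _ x y), map_add, map_add,
        Submodule.coe_add, h₁, h₂]
    | single j a =>
      rw [Finsupp.mapRange_single, Finsupp.linearCombination_single,
        Finsupp.linearCombination_single]
      rfl
  have hsurjmk : ∀ cb : J →₀ R ⧸ I, ∃ c : J →₀ R,
      c.mapRange (Ideal.Quotient.mk I) (map_zero _) = cb := by
    intro cb
    exact Finsupp.mapRange_surjective (Ideal.Quotient.mk I) (map_zero _)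
      Ideal.Quotient.mk_surjective cb
  have hLinj : Function.Injective L := by
    rw [← LinearMap.ker_eq_bot, Submodule.eq_bot_iff]
    intro cb hcb
    obtain ⟨c, rfl⟩ := hsurjmk cb
    have h0 : Finsupp.linearCombination R b c = 0 := by
      rw [← key c, LinearMap.mem_ker.1 hcb]
      rfl
    ext j
    rw [Finsupp.mapRange_apply, Finsupp.zero_apply, Ideal.Quotient.eq_zero_iff_mem]
    exact h.indep c h0 j
  have hLsurj : Function.Surjective L := by
    intro z
    have hz : (z : M) ∈ Submodule.span R (Set.range b) := by
      apply h.span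
      intro a ha
      have := z.2
      rw [Submodule.mem_torsionBySet_iff] at this
      exact this ⟨a, ha⟩
    obtain ⟨c, hc⟩ := (Finsupp.mem_span_range_iff_exists_finsupp).1 hz
    refine ⟨c.mapRange (Ideal.Quotient.mk I) (map_zero _), Subtype.ext ?_⟩
    rw [key c, Finsupp.linearCombination_apply]
    exact hc
  haveI : IsNoetherianRing (R ⧸ I) := inferInstance
  have hinj : Module.Injective (R ⧸ I) (J →₀ R ⧸ I) := injective_finsupp' J (R ⧸ I)
  exact (Module.Baer.of_equiv (LinearEquiv.ofBijective L ⟨hLinj, hLsurj⟩)
    (Module.Baer.of_injective hinj)).injective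

/-- Surjectivity on torsion: if `M[I]` is free over the self-injective ring `R ⧸ I`, and
`φ : M → W` is injective with range essential on `W[I]`, then `W[I] ⊆ φ(M)`. -/
theorem FreeOn.mem_range_of_torsion (h : FreeOn I M b) [Module.Injective (R ⧸ I) (R ⧸ I)]
    {W : Type u} [AddCommGroup W] [Module R W] (φ : M →ₗ[R] W) (hφ : Function.Injective φ)
    (hess : ∀ w : W, w ≠ 0 → (∀ a ∈ I, a • w = 0) →
      ∃ a : R, a • w ≠ 0 ∧ ∃ v : M, (∀ c ∈ I, c • v = 0) ∧ φ v = a • w)
    (w : W) (hw : ∀ a ∈ I, a • w = 0) : w ∈ LinearMap.range φ := by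
  classical
  let V : Submodule R M := Submodule.torsionBySet R M (I : Set R)
  let X : Submodule R W := Submodule.torsionBySet R W (I : Set R)
  have hVX : ∀ v ∈ V, φ v ∈ X := by
    intro v hv
    rw [Submodule.mem_torsionBySet_iff] at hv ⊢
    intro a
    rw [← map_smul, hv a, map_zero]
  let ψ₀ : V →ₗ[R] X := φ.restrict hVX
  let ψ : V →ₗ[R ⧸ I] X := ψ₀.extendScalarsOfSurjective Ideal.Quotient.mk_surjective
  have hψ : Function.Injective ψ := by
    intro v₁ v₂ h12
    apply Subtype.ext
    apply hφ
    exact congrArg Subtype.val h12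
  haveI : Module.Injective (R ⧸ I) V := h.injective_torsion I
  have hsurj := surjective_of_injective_of_essential ψ hψ (by
    intro x hx
    have hx0 : (x : W) ≠ 0 := fun h0 => hx (Subtype.ext h0)
    have hxI : ∀ a ∈ I, a • (x : W) = 0 := by
      intro a ha
      have := x.2
      rw [Submodule.mem_torsionBySet_iff] at this
      exact this ⟨a, ha⟩
    obtain ⟨a, ha, v, hvI, hv⟩ := hess x hx0 hxI
    refine ⟨Ideal.Quotient.mk I a, ?_, ?_⟩
    · intro h0
      apply ha
      have := congrArg Subtype.val h0
      exact this
    · have hvV : v ∈ V := by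
        rw [Submodule.mem_torsionBySet_iff]
        rintro ⟨c, hc⟩
        exact hvI c hc
      refine ⟨⟨v, hvV⟩, Subtype.ext ?_⟩
      exact hv)
  have hwX : w ∈ X := by
    rw [Submodule.mem_torsionBySet_iff]
    rintro ⟨a, ha⟩
    exact hw a ha
  obtain ⟨v, hv⟩ := hsurj ⟨w, hwX⟩
  exact ⟨v, congrArg Subtype.val hv⟩

end Torsion

end Groth.Agent.Lib.Helper14.FrobTors
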