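/-
Helper library (helper28): Kunz's theorem.  A Noetherian local ring of characteristic `p` whose
Frobenius is flat is regular (length count `ℓ(A/𝔪^[q]) ≥ q^embdim` against `ℓ(A/𝔪^[q]) ≤ C q^dim`).
-/
import Mathlib
import Groth.Agent.Lib.Helper5LocalFlat

set_option autoImplicit false
universe u

open IsLocalRing

namespace Groth.Agent.Lib.Helper28.Kunz

section Generic

variable {A : Type u} [CommRing A]

/-- Flatness and colon ideals: if `b * φ x ∈ K B` for a flat `A`-algebra `B`, then `b` is a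
combination of images of elements of `(K : x)`. -/
theorem mem_map_colon_of_flat {B : Type u} [CommRing B] [Algebra A B] [Module.Flat A B]
    (K : Ideal A) (x : A) (b : B) (h : b * algebraMap A B x ∈ K.map (algebraMap A B)) :
    b ∈ (K.colon {x}).map (algebraMap A B) := by
  classical
  obtain ⟨n, β, g, hsum⟩ := Submodule.mem_span_set'.mp h
  choose κ hκK hκ using fun i => (g i).2
  -- relation indexed by `Option (Fin n)`
  let f : Option (Fin n) → A := fun o => o.elim x (fun i => - κ i)
  let X : Option (Fin n) → B := fun o => o.elim b (fun i => β i)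
  have h1 : x • b = ∑ i, κ i • β i := by
    rw [Algebra.smul_def, mul_comm, ← hsum]
    refine Finset.sum_congr rfl fun i _ => ?_
    rw [smul_eq_mul, ← hκ i, Algebra.smul_def, mul_comm]
  have hrel : ∑ o, f o • X o = 0 := by
    rw [Fintype.sum_option]
    simp only [f, X, Option.elim_none, Option.elim_some, neg_smul, Finset.sum_neg_distrib]
    rw [h1, add_neg_cancel]
  obtain ⟨k, a, y, hX, hf⟩ := Module.Flat.isTrivialRelation_of_sum_smul_eq_zero
    (R := A) (M := B) (f := f) (x := X) hrel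
  have hb : b = ∑ j, a none j • y j := hX none
  rw [hb]
  refine Ideal.sum_mem _ fun j _ => ?_
  rw [Algebra.smul_def]
  refine Ideal.mul_mem_right _ _ (Ideal.mem_map_of_mem _ ?_)
  rw [Submodule.mem_colon_singleton, smul_eq_mul]
  have hj := hf j
  rw [Fintype.sum_option] at hj
  simp only [f, Option.elim_none, Option.elim_some, neg_mul, Finset.sum_neg_distrib] at hj
  rw [add_neg_eq_zero] at hj
  rw [mul_comm, hj]
  exact Ideal.sum_mem _ fun i _ => Ideal.mul_mem_right _ _ (hκK i)

/-- Additivity of length along `0 → A/(J : y) → A/J → A/(J + (y)) → 0`. -/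
theorem length_quotient_eq_add (J : Ideal A) (y : A) :
    Module.length A (A ⧸ J) =
      Module.length A (A ⧸ J.colon {y}) + Module.length A (A ⧸ (J ⊔ Ideal.span {y})) := by
  let f : (A ⧸ J.colon {y}) →ₗ[A] (A ⧸ J) :=
    Submodule.liftQ (J.colon {y}) (J.mkQ ∘ₗ LinearMap.mulLeft A y) (by
      intro a ha
      rw [LinearMap.mem_ker, LinearMap.comp_apply, LinearMap.mulLeft_apply, Submodule.mkQ_apply,
        Submodule.Quotient.mk_eq_zero]
      rw [Submodule.mem_colon_singleton, smul_eq_mul] at ha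
      rwa [mul_comm])
  let g : (A ⧸ J) →ₗ[A] (A ⧸ (J ⊔ Ideal.span {y})) :=
    Submodule.mapQ J (J ⊔ Ideal.span {y}) LinearMap.id (by
      rw [Submodule.comap_id]; exact le_sup_left)
  have hf : Function.Injective f := by
    rw [injective_iff_map_eq_zero]
    intro z hz
    obtain ⟨a, rfl⟩ := Submodule.Quotient.mk_surjective _ z
    have hz' : (Submodule.Quotient.mk (y * a) : A ⧸ J) = 0 := hz
    rw [Submodule.Quotient.mk_eq_zero] at hz'
    rw [Submodule.Quotient.mk_eq_zero, Submodule.mem_colon_singleton, smul_eq_mul, mul_comm]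
    exact hz'
  have hg : Function.Surjective g := by
    intro z
    obtain ⟨a, rfl⟩ := Submodule.Quotient.mk_surjective _ z
    exact ⟨Submodule.Quotient.mk a, rfl⟩
  have hex : Function.Exact f g := by
    intro z
    obtain ⟨a, rfl⟩ := Submodule.Quotient.mk_surjective _ z
    constructor
    · intro hz
      have hz' : a ∈ J ⊔ Ideal.span {y} := by
        have : (Submodule.Quotient.mk a : A ⧸ (J ⊔ Ideal.span {y})) = 0 := hz
        rwa [Submodule.Quotient.mk_eq_zero] at this
      obtain ⟨j, hj, c, hc, rfl⟩ := Submodule.mem_sup.mp hz'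
      obtain ⟨t, rfl⟩ := Ideal.mem_span_singleton'.mp hc
      refine ⟨Submodule.Quotient.mk t, ?_⟩
      change Submodule.Quotient.mk (y * t) = Submodule.Quotient.mk (j + t * y)
      rw [Submodule.Quotient.eq]
      have : y * t - (j + t * y) = -j := by ring
      rw [this]
      exact J.neg_mem hj
    · rintro ⟨w, hw⟩
      obtain ⟨t, rfl⟩ := Submodule.Quotient.mk_surjective _ w
      have : (Submodule.Quotient.mk (y * t) : A ⧸ J) = Submodule.Quotient.mk a := hw
      rw [← this]
      change (Submodule.Quotient.mk (y * t) : A ⧸ (J ⊔ Ideal.span {y})) = 0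
      rw [Submodule.Quotient.mk_eq_zero]
      exact Ideal.mul_mem_right _ _ (Submodule.mem_sup_right (Ideal.mem_span_singleton_self y))
  exact Module.length_eq_add_of_exact f g hf hg hex

/-- Length is antitone in the ideal. -/
theorem length_quotient_anti {J J' : Ideal A} (h : J ≤ J') :
    Module.length A (A ⧸ J') ≤ Module.length A (A ⧸ J) := by
  let g : (A ⧸ J) →ₗ[A] (A ⧸ J') := Submodule.mapQ J J' LinearMap.id (by
    rw [Submodule.comap_id]; exact h)
  have hg : Function.Surjective g := by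
    intro z
    obtain ⟨a, rfl⟩ := Submodule.Quotient.mk_surjective _ z
    exact ⟨Submodule.Quotient.mk a, rfl⟩
  exact Module.length_le_of_surjective g hg

/-- `ℓ(A/(J + (y^a))) ≤ a · ℓ(A/(J + (y)))`. -/
theorem length_quotient_sup_pow_le (J : Ideal A) (y : A) (a : ℕ) :
    Module.length A (A ⧸ (J ⊔ Ideal.span {y ^ a})) ≤
      a * Module.length A (A ⧸ (J ⊔ Ideal.span {y})) := by
  induction a with
  | zero =>
    have : J ⊔ Ideal.span {y ^ 0} = ⊤ := by
      rw [pow_zero, Ideal.span_singleton_one, sup_top_eq]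
    rw [this]
    have : Subsingleton (A ⧸ (⊤ : Ideal A)) := Ideal.Quotient.subsingleton_iff.mpr rfl
    rw [Module.length_eq_zero]
    exact bot_le
  | succ a ih =>
    rw [length_quotient_eq_add (J ⊔ Ideal.span {y ^ (a + 1)}) (y ^ a)]
    have h1 : J ⊔ Ideal.span {y ^ (a + 1)} ⊔ Ideal.span {y ^ a} = J ⊔ Ideal.span {y ^ a} := by
      rw [sup_assoc]
      congr 1
      rw [sup_eq_right, Ideal.span_singleton_le_iff_mem, pow_succ]
      exact Ideal.mul_mem_right _ _ (Ideal.mem_span_singleton_self _)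
    have h2 : J ⊔ Ideal.span {y} ≤ (J ⊔ Ideal.span {y ^ (a + 1)}).colon {y ^ a} := by
      rw [sup_le_iff]
      constructor
      · exact le_sup_left.trans Ideal.le_colon
      · rw [Ideal.span_singleton_le_iff_mem, Submodule.mem_colon_singleton, smul_eq_mul,
          ← pow_succ']
        exact Submodule.mem_sup_right (Ideal.mem_span_singleton_self _)
    rw [h1]
    calc _ ≤ Module.length A (A ⧸ (J ⊔ Ideal.span {y})) +
          a * Module.length A (A ⧸ (J ⊔ Ideal.span {y})) :=
        add_le_add (length_quotient_anti h2) ih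
      _ = _ := by push_cast; ring

end Generic

/-- Ring-hom form of `mem_map_colon_of_flat`. -/
theorem mem_map_colon_of_ringHomFlat {A B : Type u} [CommRing A] [CommRing B] (φ : A →+* B)
    (hφ : φ.Flat) (K : Ideal A) (x : A) (b : B) (h : b * φ x ∈ K.map φ) :
    b ∈ (K.colon {x}).map φ := by
  algebraize [φ]
  exact mem_map_colon_of_flat K x b h

section Local

variable {A : Type u} [CommRing A] [IsLocalRing A] (q : ℕ) (hq : 0 < q) (φ : A →+* A)
  (hφ : ∀ a, φ a = a ^ q) (hflat : φ.Flat)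
  {n : ℕ} (x : Fin n → A) (hx : Ideal.span (Set.range x) = maximalIdeal A)
  (hmin : ∀ i, x i ∉ Ideal.span (x '' {j | j ≠ i}))

/-- lower part: the generators of index `< k`. -/
def Lo (k : ℕ) : Ideal A := Ideal.span (x '' {i | (i : ℕ) < k})

/-- upper part: the `q`-th powers of the generators of index `≥ k`. -/
def Hi (k : ℕ) : Ideal A := Ideal.span ((fun i => x i ^ q) '' {i | k ≤ (i : ℕ)})

/-- `I k = (x_0, …, x_{k-1}, x_k^q, …, x_{n-1}^q)`. -/
def Ik (k : ℕ) : Ideal A := Lo x k ⊔ Hi q x k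

/-- `(x_0, …, x_{k-1}, x_k^j, x_{k+1}^q, …)`. -/
def Lk (k : ℕ) (hk : k < n) (j : ℕ) : Ideal A :=
  Lo x k ⊔ Ideal.span {x ⟨k, hk⟩ ^ j} ⊔ Hi q x (k + 1)

/-- the product `∏_{i<k} x_i^{q-1}`. -/
noncomputable def Pk (k : ℕ) : A :=
  ∏ i ∈ Finset.univ.filter (fun i : Fin n => (i : ℕ) < k), x i ^ (q - 1)

theorem Lo_mono {k k' : ℕ} (h : k ≤ k') : Lo x k ≤ Lo x k' :=
  Ideal.span_mono (Set.image_mono fun i (hi : (i : ℕ) < k) => lt_of_lt_of_le hi h)

theorem Hi_anti {k k' : ℕ} (h : k ≤ k') : Hi q x k' ≤ Hi q x k :=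
  Ideal.span_mono (Set.image_mono fun i (hi : k' ≤ (i : ℕ)) => le_trans h hi)

include hφ in
theorem map_span_image (S : Set (Fin n)) :
    Ideal.map φ (Ideal.span (x '' S)) = Ideal.span ((fun i => x i ^ q) '' S) := by
  rw [Ideal.map_span, Set.image_image]
  congr 1
  ext a
  simp only [Set.mem_image, hφ]

include hφ hx in
theorem map_maximalIdeal : Ideal.map φ (maximalIdeal A) = Hi q x 0 := by
  rw [← hx, ← Set.image_univ, map_span_image q φ hφ x]
  unfold Hi
  congr 2
  ext i
  simp

include hq in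
theorem Ik_le_succ (k : ℕ) : Ik q x k ≤ Ik q x (k + 1) := by
  unfold Ik
  rw [sup_le_iff]
  refine ⟨le_sup_of_le_left (Lo_mono x (Nat.le_succ k)), ?_⟩
  unfold Hi
  rw [Ideal.span_le]
  rintro _ ⟨i, hi, rfl⟩
  rcases Nat.eq_or_lt_of_le (show k ≤ (i : ℕ) from hi) with h | h
  · apply Submodule.mem_sup_left
    have h1 : x i ∈ Lo x (k + 1) := Ideal.subset_span ⟨i, by
      change (i : ℕ) < k + 1
      omega, rfl⟩
    obtain ⟨r, rfl⟩ : ∃ r, q = r + 1 := ⟨q - 1, by omega⟩
    change x i ^ (r + 1) ∈ _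
    rw [pow_succ]
    exact Ideal.mul_mem_left _ _ h1
  · exact Submodule.mem_sup_right (Ideal.subset_span ⟨i, h, rfl⟩)

theorem Ik_eq_Lk (k : ℕ) (hk : k < n) : Ik q x k = Lk q x k hk q := by
  unfold Ik Lk
  rw [sup_assoc]
  congr 1
  unfold Hi
  rw [← Ideal.span_union]
  congr 1
  ext a
  simp only [Set.mem_image, Set.mem_setOf_eq, Set.mem_union, Set.mem_singleton_iff]
  constructor
  · rintro ⟨i, hi, rfl⟩
    rcases Nat.eq_or_lt_of_le hi with h | h
    · left
      have : i = ⟨k, hk⟩ := Fin.ext h.symm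
      rw [this]
    · right
      exact ⟨i, h, rfl⟩
  · rintro (rfl | ⟨i, hi, rfl⟩)
    · exact ⟨⟨k, hk⟩, le_refl _, rfl⟩
    · exact ⟨i, Nat.le_of_succ_le hi, rfl⟩

theorem Ik_succ_eq_Lk (k : ℕ) (hk : k < n) : Ik q x (k + 1) = Lk q x k hk 1 := by
  unfold Ik Lk
  congr 1
  unfold Lo
  rw [pow_one, ← Ideal.span_union]
  congr 1
  ext a
  simp only [Set.mem_image, Set.mem_setOf_eq, Set.mem_union, Set.mem_singleton_iff]
  constructor
  · rintro ⟨i, hi, rfl⟩
    rcases Nat.eq_or_lt_of_le (Nat.le_of_lt_succ hi) with h | h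
    · right
      have : i = ⟨k, hk⟩ := Fin.ext h
      rw [this]
    · left
      exact ⟨i, h, rfl⟩
  · rintro (⟨i, hi, rfl⟩ | rfl)
    · exact ⟨i, Nat.lt_succ_of_lt hi, rfl⟩
    · exact ⟨⟨k, hk⟩, Nat.lt_succ_self k, rfl⟩

theorem Pk_succ (k : ℕ) (hk : k < n) : Pk q x (k + 1) = x ⟨k, hk⟩ ^ (q - 1) * Pk q x k := by
  classical
  unfold Pk
  have h1 : Finset.univ.filter (fun i : Fin n => (i : ℕ) < k + 1) =
      insert ⟨k, hk⟩ (Finset.univ.filter (fun i : Fin n => (i : ℕ) < k)) := by
    ext i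
    simp only [Finset.mem_filter, Finset.mem_univ, true_and, Finset.mem_insert]
    constructor
    · intro hi
      rcases Nat.eq_or_lt_of_le (Nat.le_of_lt_succ hi) with h | h
      · left; exact Fin.ext h
      · right; exact h
    · rintro (rfl | h)
      · exact Nat.lt_succ_self k
      · exact Nat.lt_succ_of_lt h
  rw [h1, Finset.prod_insert]
  simp

include hq in
/-- `P_k · Lo k ⊆ (x_i^q : i < k)`. -/
theorem Pk_mul_mem (k : ℕ) (l : A) (hl : l ∈ Lo x k) :
    Pk q x k * l ∈ Ideal.span ((fun i => x i ^ q) '' {i | (i : ℕ) < k}) := by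
  classical
  unfold Lo at hl
  induction hl using Submodule.span_induction with
  | mem a ha =>
    obtain ⟨i, hi, rfl⟩ := ha
    have hmem : i ∈ Finset.univ.filter (fun i : Fin n => (i : ℕ) < k) := by
      simp only [Finset.mem_filter, Finset.mem_univ, true_and]
      exact hi
    unfold Pk
    rw [← Finset.mul_prod_erase _ _ hmem]
    have : x i ^ (q - 1) * (∏ j ∈ (Finset.univ.filter (fun i : Fin n => (i : ℕ) < k)).erase i,
        x j ^ (q - 1)) * x i = (∏ j ∈ (Finset.univ.filter (fun i : Fin n => (i : ℕ) < k)).erase i,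
        x j ^ (q - 1)) * x i ^ q := by
      obtain ⟨r, rfl⟩ : ∃ r, q = r + 1 := ⟨q - 1, by omega⟩
      rw [Nat.add_sub_cancel, pow_succ]
      ring
    rw [this]
    exact Ideal.mul_mem_left _ _ (Ideal.subset_span ⟨i, hi, rfl⟩)
  | zero => rw [mul_zero]; exact Submodule.zero_mem _
  | add a b _ _ ha hb => rw [mul_add]; exact Submodule.add_mem _ ha hb
  | smul c a _ ha =>
    rw [smul_eq_mul, mul_left_comm]
    exact Ideal.mul_mem_left _ _ ha

include hφ hflat hmin in
/-- Key step from flatness: `z x_i^q ∈ (x_j^q : j ≠ i)` forces `z ∈ 𝔪^[q]`. -/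
theorem key_step (i : Fin n) (z : A)
    (hz : z * x i ^ q ∈ Ideal.span ((fun j => x j ^ q) '' {j | j ≠ i})) :
    z ∈ Ideal.map φ (maximalIdeal A) := by
  rw [← map_span_image q φ hφ x, ← hφ] at hz
  have h1 := mem_map_colon_of_ringHomFlat φ hflat _ _ _ hz
  refine Ideal.map_mono ?_ h1
  intro u hu
  rw [Submodule.mem_colon_singleton, smul_eq_mul] at hu
  rw [mem_maximalIdeal, mem_nonunits_iff]
  intro hunit
  apply hmin i
  have := Ideal.mul_mem_left _ (hunit.unit⁻¹ : Aˣ).1 hu
  rwa [← mul_assoc, IsUnit.val_inv_mul, one_mul] at this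

include hq hφ hflat hx hmin in
/-- `D_k` from `C_k`. -/
theorem D_of_C (k : ℕ) (hk : k < n)
    (hC : ∀ z, z * Pk q x k ∈ Ideal.map φ (maximalIdeal A) → z ∈ Ik q x k)
    (j : ℕ) (hj : j < q) (z : A) (hz : z * x ⟨k, hk⟩ ^ j ∈ Lk q x k hk (j + 1)) :
    z ∈ Ik q x (k + 1) := by
  unfold Lk at hz
  obtain ⟨t, ht, h, hh, hsum⟩ := Submodule.mem_sup.mp hz
  obtain ⟨l, hl, c, hc, rfl⟩ := Submodule.mem_sup.mp ht
  obtain ⟨a, rfl⟩ := Ideal.mem_span_singleton'.mp hc
  set xk := x ⟨k, hk⟩ with hxk
  -- `w = z - a x_k`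
  have hw : (z - a * xk) * xk ^ j = l + h := by
    rw [sub_mul, ← hsum, pow_succ]
    ring
  have hkey : (z - a * xk) * Pk q x k * xk ^ q ∈
      Ideal.span ((fun i => x i ^ q) '' {i | i ≠ (⟨k, hk⟩ : Fin n)}) := by
    have h1 : (z - a * xk) * Pk q x k * xk ^ q =
        xk ^ (q - j) * (Pk q x k * l) + xk ^ (q - j) * Pk q x k * h := by
      have : xk ^ q = xk ^ (q - j) * xk ^ j := by
        rw [← pow_add]
        congr 1
        omega
      rw [this]
      calc (z - a * xk) * Pk q x k * (xk ^ (q - j) * xk ^ j)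
          = xk ^ (q - j) * Pk q x k * ((z - a * xk) * xk ^ j) := by ring
        _ = _ := by rw [hw]; ring
    rw [h1]
    refine Submodule.add_mem _ (Ideal.mul_mem_left _ _ ?_) (Ideal.mul_mem_left _ _ ?_)
    · refine Ideal.span_mono (Set.image_mono ?_) (Pk_mul_mem q hq x k l hl)
      intro i (hi : (i : ℕ) < k) (hik : i = ⟨k, hk⟩)
      rw [hik] at hi
      exact lt_irrefl _ hi
    · refine Ideal.span_mono (Set.image_mono ?_) hh
      intro i (hi : k + 1 ≤ (i : ℕ)) (hik : i = ⟨k, hk⟩)
      rw [hik] at hi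
      exact Nat.not_succ_le_self _ hi
  have h2 := key_step q φ hφ hflat x hmin ⟨k, hk⟩ _ hkey
  have h3 := Ik_le_succ q hq x k (hC _ h2)
  have h4 : a * xk ∈ Ik q x (k + 1) := by
    apply Submodule.mem_sup_left
    exact Ideal.mul_mem_left _ _ (Ideal.subset_span ⟨⟨k, hk⟩, Nat.lt_succ_self k, rfl⟩)
  have := Submodule.add_mem _ h3 h4
  rwa [sub_add_cancel] at this

include hq hφ hflat hx hmin in
/-- `C_k`: `𝔪^[q] : P_k ⊆ I_k`. -/
theorem C_all (k : ℕ) (hk : k ≤ n) :
    ∀ z, z * Pk q x k ∈ Ideal.map φ (maximalIdeal A) → z ∈ Ik q x k := by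
  induction k with
  | zero =>
    intro z hz
    have h1 : Pk q x 0 = 1 := by
      unfold Pk
      apply Finset.prod_eq_one
      intro i hi
      simp at hi
    rw [h1, mul_one, map_maximalIdeal q φ hφ x hx] at hz
    exact Submodule.mem_sup_right hz
  | succ k ih =>
    intro z hz
    have hk' : k < n := hk
    rw [Pk_succ q x k hk', ← mul_assoc] at hz
    have h1 := ih (le_of_lt hk') _ hz
    rw [Ik_eq_Lk q x k hk'] at h1
    have e : Lk q x k hk' q = Lk q x k hk' (q - 1 + 1) := by
      congr 1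
      omega
    rw [e] at h1
    exact D_of_C q hq φ hφ hflat x hx hmin k hk' (ih (le_of_lt hk')) (q - 1) (by omega) z h1

include hq hφ hflat hx hmin in
/-- The length estimate for one step. -/
theorem length_step (k : ℕ) (hk : k < n) :
    q * Module.length A (A ⧸ Ik q x (k + 1)) ≤ Module.length A (A ⧸ Ik q x k) := by
  have hC := C_all q hq φ hφ hflat x hx hmin k (le_of_lt hk)
  have key : ∀ j : ℕ, j ≤ q →
      j * Module.length A (A ⧸ Ik q x (k + 1)) ≤ Module.length A (A ⧸ Lk q x k hk j) := by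
    intro j
    induction j with
    | zero => intro _; simp
    | succ j ih =>
      intro hj
      rw [length_quotient_eq_add (Lk q x k hk (j + 1)) (x ⟨k, hk⟩ ^ j)]
      have h1 : Lk q x k hk (j + 1) ⊔ Ideal.span {x ⟨k, hk⟩ ^ j} = Lk q x k hk j := by
        unfold Lk
        apply le_antisymm
        · rw [sup_le_iff]
          refine ⟨sup_le (sup_le (le_sup_of_le_left le_sup_left) ?_) le_sup_right,
            le_sup_of_le_left le_sup_right⟩
          rw [Ideal.span_singleton_le_iff_mem]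
          apply Submodule.mem_sup_left
          apply Submodule.mem_sup_right
          rw [pow_succ]
          exact Ideal.mul_mem_right _ _ (Ideal.mem_span_singleton_self _)
        · rw [sup_le_iff]
          refine ⟨sup_le (le_sup_of_le_left (le_sup_of_le_left le_sup_left)) le_sup_right,
            le_sup_of_le_left le_sup_right⟩
      have h2 : (Lk q x k hk (j + 1)).colon {x ⟨k, hk⟩ ^ j} ≤ Ik q x (k + 1) := by
        intro z hz
        rw [Submodule.mem_colon_singleton, smul_eq_mul] at hz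
        exact D_of_C q hq φ hφ hflat x hx hmin k hk hC j (by omega) z hz
      rw [h1]
      calc ((j + 1 : ℕ) : ℕ∞) * Module.length A (A ⧸ Ik q x (k + 1))
          = Module.length A (A ⧸ Ik q x (k + 1)) + j * Module.length A (A ⧸ Ik q x (k + 1)) := by
            push_cast; ring
        _ ≤ _ := add_le_add (length_quotient_anti h2) (ih (by omega))
  have := key q le_rfl
  rwa [← Ik_eq_Lk q x k hk] at this

include hq hφ hflat hx hmin in
/-- `q^n ≤ ℓ(A/𝔪^[q])`. -/
theorem pow_le_length :
    ((q ^ n : ℕ) : ℕ∞) ≤ Module.length A (A ⧸ Ideal.map φ (maximalIdeal A)) := by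
  have key : ∀ k : ℕ, k ≤ n → ((q ^ k : ℕ) : ℕ∞) * Module.length A (A ⧸ Ik q x (n - k + k)) ≤
      Module.length A (A ⧸ Ik q x (n - k)) := by
    intro k
    induction k with
    | zero => intro _; simp
    | succ k ih =>
      intro hk
      have h1 := length_step q hq φ hφ hflat x hx hmin (n - (k + 1)) (by omega)
      have h2 := ih (by omega)
      have e1 : n - (k + 1) + 1 = n - k := by omega
      have e2 : n - k + k = n := by omega
      have e3 : n - (k + 1) + (k + 1) = n := by omega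
      rw [e1] at h1
      rw [e2] at h2
      rw [e3]
      calc ((q ^ (k + 1) : ℕ) : ℕ∞) * Module.length A (A ⧸ Ik q x n)
          = q * ((q ^ k : ℕ) * Module.length A (A ⧸ Ik q x n)) := by push_cast; ring
        _ ≤ q * Module.length A (A ⧸ Ik q x (n - k)) := by gcongr
        _ ≤ _ := h1
  have h := key n le_rfl
  rw [Nat.sub_self, zero_add] at h
  have h0 : Ik q x 0 = Ideal.map φ (maximalIdeal A) := by
    rw [map_maximalIdeal q φ hφ x hx]
    unfold Ik Lo
    have : {i : Fin n | (i : ℕ) < 0} = ∅ := by ext i; simp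
    rw [this, Set.image_empty, Ideal.span_empty, bot_sup_eq]
  have hn : Ik q x n ≠ ⊤ := by
    have : Ik q x n ≤ maximalIdeal A := by
      unfold Ik
      rw [sup_le_iff]
      constructor
      · rw [← hx]; exact Ideal.span_mono (Set.image_subset_range _ _)
      · unfold Hi
        rw [Ideal.span_le]
        rintro _ ⟨i, hi, rfl⟩
        exact absurd i.2 (not_lt.mpr hi)
    exact fun h => (maximalIdeal.isMaximal A).ne_top (top_le_iff.mp (h ▸ this))
  have h1 : (1 : ℕ∞) ≤ Module.length A (A ⧸ Ik q x n) := by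
    have : Nontrivial (A ⧸ Ik q x n) := Ideal.Quotient.nontrivial_iff.mpr hn
    exact Order.one_le_iff_pos.mpr Module.length_pos
  rw [h0] at h
  calc ((q ^ n : ℕ) : ℕ∞) = (q ^ n : ℕ) * 1 := (mul_one _).symm
    _ ≤ (q ^ n : ℕ) * Module.length A (A ⧸ Ik q x n) := by gcongr
    _ ≤ _ := h

end Local

section Upper

variable {A : Type u} [CommRing A]

/-- `ℓ(A/(J + (y^q : y ∈ ys))) ≤ q^{|ys|} ℓ(A/(J + (ys)))`. -/
theorem length_quotient_pow_list_le (q : ℕ) (ys : List A) : ∀ J : Ideal A,
    Module.length A (A ⧸ (J ⊔ Ideal.span {a | a ∈ ys.map (· ^ q)})) ≤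
      (q ^ ys.length : ℕ) * Module.length A (A ⧸ (J ⊔ Ideal.span {a | a ∈ ys})) := by
  induction ys with
  | nil =>
    intro J
    simp only [List.length_nil, pow_zero, Nat.cast_one, one_mul]
    exact le_of_eq rfl
  | cons y t ih =>
    intro J
    have h1 : {a | a ∈ (y :: t).map (· ^ q)} = insert (y ^ q) {a | a ∈ t.map (· ^ q)} := by
      ext a
      simp [List.mem_cons]
    have h2 : {a | a ∈ y :: t} = insert y {a | a ∈ t} := by
      ext a
      simp [List.mem_cons]
    rw [h1, h2, Ideal.span_insert, Ideal.span_insert]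
    have e1 : J ⊔ (Ideal.span {y ^ q} ⊔ Ideal.span {a | a ∈ t.map (· ^ q)}) =
        (J ⊔ Ideal.span {y ^ q}) ⊔ Ideal.span {a | a ∈ t.map (· ^ q)} := (sup_assoc _ _ _).symm
    have e2 : (J ⊔ Ideal.span {y ^ q}) ⊔ Ideal.span {a | a ∈ t} =
        (J ⊔ Ideal.span {a | a ∈ t}) ⊔ Ideal.span {y ^ q} := sup_right_comm _ _ _
    have e3 : J ⊔ (Ideal.span {y} ⊔ Ideal.span {a | a ∈ t}) =
        (J ⊔ Ideal.span {a | a ∈ t}) ⊔ Ideal.span {y} := by
      rw [sup_comm (Ideal.span {y}), sup_assoc]
    rw [e1, e3]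
    calc Module.length A (A ⧸ (J ⊔ Ideal.span {y ^ q}) ⊔ Ideal.span {a | a ∈ t.map (· ^ q)})
        ≤ (q ^ t.length : ℕ) * Module.length A (A ⧸ ((J ⊔ Ideal.span {y ^ q}) ⊔
            Ideal.span {a | a ∈ t})) := ih _
      _ = (q ^ t.length : ℕ) * Module.length A (A ⧸ ((J ⊔ Ideal.span {a | a ∈ t}) ⊔
            Ideal.span {y ^ q})) := by rw [e2]
      _ ≤ (q ^ t.length : ℕ) * (q * Module.length A (A ⧸ ((J ⊔ Ideal.span {a | a ∈ t}) ⊔
            Ideal.span {y}))) := by
        gcongr
        exact length_quotient_sup_pow_le _ y q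
      _ = _ := by
        rw [List.length_cons, pow_succ]
        push_cast
        ring

end Upper

section Main

variable {A : Type u} [CommRing A] [IsLocalRing A] [IsNoetherianRing A]

/-- minimal generators of the maximal ideal. -/
theorem exists_minimal_generators :
    ∃ x : Fin (maximalIdeal A).spanFinrank → A, Ideal.span (Set.range x) = maximalIdeal A ∧
      ∀ i, x i ∉ Ideal.span (x '' {j | j ≠ i}) := by
  classical
  have hfg : (maximalIdeal A).FG := IsNoetherian.noetherian _
  set n := (maximalIdeal A).spanFinrank with hn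
  set G := Submodule.generators (maximalIdeal A) with hG
  have hGfin : G.Finite := Submodule.FG.finite_generators (p := maximalIdeal A) hfg
  have hGcard : G.ncard = n := Submodule.FG.generators_ncard (p := maximalIdeal A) hfg
  have hGspan : Ideal.span G = maximalIdeal A := Submodule.span_generators _
  have : Finite G := hGfin
  have hcard : Nat.card G = n := by rw [_root_.Nat.card_coe_set_eq, hGcard]
  let e : G ≃ Fin n := Finite.equivFinOfCardEq hcard
  let x : Fin n → A := fun i => (e.symm i : A)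
  have hrange : Set.range x = G := by
    ext a
    constructor
    · rintro ⟨i, rfl⟩
      exact (e.symm i).2
    · intro ha
      exact ⟨e ⟨a, ha⟩, by simp [x]⟩
  refine ⟨x, by rw [hrange, hGspan], ?_⟩
  intro i hi
  have hle : maximalIdeal A ≤ Ideal.span (x '' {j | j ≠ i}) := by
    rw [← hGspan, ← hrange, Ideal.span_le]
    rintro _ ⟨j, rfl⟩
    by_cases hji : j = i
    · rw [hji]; exact hi
    · exact Ideal.subset_span ⟨j, hji, rfl⟩
  have heq : Ideal.span (x '' {j | j ≠ i}) = maximalIdeal A := by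
    apply le_antisymm _ hle
    rw [Ideal.span_le]
    rintro _ ⟨j, _, rfl⟩
    rw [← hGspan]
    exact Ideal.subset_span (e.symm j).2
  have hfin : (x '' {j | j ≠ i}).Finite := Set.toFinite _
  have h1 : n ≤ (x '' {j | j ≠ i}).ncard := by
    have := Submodule.spanFinrank_span_le_ncard_of_finite (R := A) hfin
    rw [show Submodule.span A (x '' {j | j ≠ i}) = maximalIdeal A from heq] at this
    exact this
  have h2 : (x '' {j | j ≠ i}).ncard ≤ ({j | j ≠ i} : Set (Fin n)).ncard :=
    Set.ncard_image_le (Set.toFinite _)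
  have h3 : ({j | j ≠ i} : Set (Fin n)).ncard = n - 1 := by
    have : ({j | j ≠ i} : Set (Fin n)) = ((Finset.univ.erase i : Finset (Fin n)) : Set (Fin n)) := by
      ext j
      simp
    rw [this, Set.ncard_coe_finset, Finset.card_erase_of_mem (Finset.mem_univ i), Finset.card_univ,
      Fintype.card_fin]
  have hpos : 0 < n := Fin.pos i
  omega

/-- **Kunz (local case).** If the `p^e`-power maps are flat ring endomorphisms for all `e`, the
Noetherian local ring `A` is regular. -/
theorem isRegularLocalRing_of_flat_pow (p : ℕ) (hp : 1 < p)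
    (hF : ∀ e : ℕ, ∃ φ : A →+* A, (∀ a, φ a = a ^ (p ^ e)) ∧ φ.Flat) :
    IsRegularLocalRing A := by
  classical
  obtain ⟨x, hx, hmin⟩ := exists_minimal_generators (A := A)
  obtain ⟨s, hs, hcard⟩ := Ideal.exists_finset_card_eq_height_of_isNoetherianRing (maximalIdeal A)
  -- `span s` is `𝔪`-primary
  have hsle : Ideal.span (s : Set A) ≤ maximalIdeal A := hs.1.2
  have hrad : maximalIdeal A ≤ (Ideal.span (s : Set A)).radical := by
    rw [Ideal.radical_eq_sInf]
    apply le_sInf
    rintro P ⟨hP1, hP2⟩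
    have hPm : P ≤ maximalIdeal A := le_maximalIdeal hP2.ne_top
    exact hs.2 ⟨hP2, hP1⟩ hPm
  obtain ⟨N, hN⟩ := Ideal.exists_pow_le_of_le_radical_of_fg hrad (IsNoetherian.noetherian _)
  have hfl : IsFiniteLength A (A ⧸ Ideal.span (s : Set A)) :=
    Groth.Agent.Lib.Helper5.isFiniteLength_quotient_of_pow_le _ N hN
  obtain ⟨c, hc⟩ := ENat.ne_top_iff_exists.mp (Module.length_ne_top_iff.mpr hfl)
  -- the inequality for each `e`
  have hineq : ∀ e : ℕ, (p ^ e) ^ (maximalIdeal A).spanFinrank ≤ (p ^ e) ^ s.card * c := by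
    intro e
    obtain ⟨φ, hφ, hflat⟩ := hF e
    have hq : 0 < p ^ e := Nat.pow_pos (by omega)
    have h1 := pow_le_length (p ^ e) hq φ hφ hflat x hx hmin
    have h2 : Module.length A (A ⧸ Ideal.map φ (maximalIdeal A)) ≤
        Module.length A (A ⧸ Ideal.span {a | a ∈ s.toList.map (· ^ (p ^ e))}) := by
      apply length_quotient_anti
      rw [Ideal.span_le]
      intro a ha
      obtain ⟨y, hy, rfl⟩ := List.mem_map.mp ha
      have hy' : y ∈ maximalIdeal A := hsle (Ideal.subset_span (Finset.mem_toList.mp hy))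
      have := Ideal.mem_map_of_mem φ hy'
      rwa [hφ] at this
    have h3 := length_quotient_pow_list_le (p ^ e) s.toList (⊥ : Ideal A)
    rw [bot_sup_eq, bot_sup_eq, Finset.length_toList] at h3
    have h4 : {a | a ∈ s.toList} = (s : Set A) := by
      ext a
      simp
    rw [h4, ← hc] at h3
    have h5 := h1.trans (h2.trans h3)
    exact_mod_cast h5
  -- conclude
  apply IsRegularLocalRing.of_spanFinrank_maximalIdeal_le
  rw [← IsLocalRing.maximalIdeal_height_eq_ringKrullDim, ← hcard]
  have hle : (maximalIdeal A).spanFinrank ≤ s.card := by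
    by_contra hlt
    rw [not_le] at hlt
    have h1 := hineq c
    have hq : 0 < p ^ c := Nat.pow_pos (by omega)
    have h2 : (p ^ c) ^ (s.card + 1) ≤ (p ^ c) ^ (maximalIdeal A).spanFinrank :=
      Nat.pow_le_pow_right hq hlt
    have h3 : (p ^ c) ^ s.card * (p ^ c) ≤ (p ^ c) ^ s.card * c := by
      rw [← pow_succ]
      exact h2.trans h1
    have h4 : p ^ c ≤ c := Nat.le_of_mul_le_mul_left h3 (Nat.pow_pos hq)
    exact absurd h4 (not_le.mpr (Nat.lt_pow_self hp))
  exact_mod_cast hle

end Main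

end Groth.Agent.Lib.Helper28.Kunz
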