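import Mathlib
import Groth.Agent.S0336
import Groth.Agent.S0342
import Groth.Agent.S0344
import Groth.Agent.Lib.Helper28RegLoc
import Groth.Agent.Lib.Helper29Gorenstein

/-!
# Frobenius powers of the maximal ideal of a regular local ring (helper14)

For a regular local ring `R` of characteristic `p` with `𝔪 = (x_i)`, the Frobenius is flat and the
quotients `R ⧸ (x_i ^ p ^ n)` are self-injective (Artinian Gorenstein).
-/

set_option autoImplicit false
set_option linter.unusedVariables false
set_option linter.unusedSectionVars false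
set_option linter.style.haveILetI false

universe u v

namespace Groth.Agent.Lib.Helper14.FrobTors

open IsLocalRing CategoryTheory

variable (p : ℕ) [Fact p.Prime] (R : Type u) [CommRing R] [IsRegularLocalRing R] [CharP R p]

/-- Kunz: the Frobenius of a regular local ring is flat. -/
theorem frobenius_flat : (frobenius R p).Flat := by
  have hreg : IsRegularRing R :=
    isRegularRing_iff.mpr fun q _ =>
      Groth.Agent.Lib.Helper28.isRegularLocalRing_localization_of_isRegularLocalRing R q
  exact (Groth.Agent.S0336.result p R).1 hreg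

theorem iterateFrobenius_flat (n : ℕ) : (iterateFrobenius R p n).Flat := by
  induction n with
  | zero => rw [iterateFrobenius_zero]; exact RingHom.Flat.id R
  | succ n ih =>
    have : iterateFrobenius R p (n + 1) = (frobenius R p).comp (iterateFrobenius R p n) := by
      rw [add_comm, iterateFrobenius_add, iterateFrobenius_one]
    rw [this]
    exact RingHom.Flat.comp ih (frobenius_flat p R)

/-- The closed fibre of the iterated Frobenius is Gorenstein. -/
theorem isGorenstein_quotient_map (n : ℕ) :
    LocCoh.IsGorensteinLocalRing (R ⧸ (maximalIdeal R).map (iterateFrobenius R p n)) := by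
  have hloc : IsLocalHom (iterateFrobenius R p n) := by
    refine ⟨fun a ha => ?_⟩
    rw [iterateFrobenius_def] at ha
    exact (isUnit_pow_iff (pow_ne_zero n (Fact.out : p.Prime).ne_zero)).1 ha
  have hflat := iterateFrobenius_flat p R n
  have h := (@Groth.Agent.S0344.result R _ _ _ R _ _ _ (iterateFrobenius R p n).toAlgebra hloc
    hflat).1 (Groth.Agent.S0342.result R)
  exact h.2

variable {R} {ι : Type*} [Fintype ι] (x : ι → R) (hx : Ideal.span (Set.range x) = maximalIdeal R)

include hx in
theorem map_iterateFrobenius_eq (n : ℕ) :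
    (maximalIdeal R).map (iterateFrobenius R p n) = Ideal.span (Set.range fun i => x i ^ p ^ n) := by
  rw [← hx, Ideal.map_span, ← Set.range_comp]
  rfl

include hx in
theorem span_pow_le (n : ℕ) : Ideal.span (Set.range fun i => x i ^ p ^ n) ≤ maximalIdeal R := by
  rw [Ideal.span_le]
  rintro _ ⟨i, rfl⟩
  have hi : x i ∈ maximalIdeal R := by rw [← hx]; exact Ideal.subset_span ⟨i, rfl⟩
  exact Ideal.pow_mem_of_mem _ hi _ (pow_pos (Fact.out : p.Prime).pos n)

include hx in
theorem exists_pow_le (n : ℕ) :
    ∃ k, maximalIdeal R ^ k ≤ Ideal.span (Set.range fun i => x i ^ p ^ n) := by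
  apply Ideal.exists_pow_le_of_le_radical_of_fg
  · rw [← hx, Ideal.span_le]
    rintro _ ⟨i, rfl⟩
    exact ⟨p ^ n, Ideal.subset_span ⟨i, rfl⟩⟩
  · exact IsNoetherian.noetherian _

include hx in
/-- `R ⧸ (x_i ^ p ^ n)` is self-injective. -/
theorem injective_quotient (n : ℕ) :
    Module.Injective (R ⧸ Ideal.span (Set.range fun i => x i ^ p ^ n))
      (R ⧸ Ideal.span (Set.range fun i => x i ^ p ^ n)) := by
  set I : Ideal R := Ideal.span (Set.range fun i => x i ^ p ^ n) with hI
  have hG : LocCoh.IsGorensteinLocalRing (R ⧸ I) := by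
    have := isGorenstein_quotient_map p R n
    rwa [map_iterateFrobenius_eq p x hx n] at this
  have hIle : I ≤ maximalIdeal R := span_pow_le p x hx n
  obtain ⟨k, hk⟩ := exists_pow_le p x hx n
  haveI : Nontrivial (R ⧸ I) :=
    Ideal.Quotient.nontrivial_iff.mpr (fun h => (maximalIdeal.isMaximal R).ne_top
      (top_le_iff.mp (h ▸ hIle)))
  -- nilpotent iff non-unit
  have hnil : ∀ y : R ⧸ I, IsNilpotent y ↔ ¬ IsUnit y := by
    intro y
    obtain ⟨a, rfl⟩ := Ideal.Quotient.mk_surjective y
    constructor
    · intro hn hu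
      exact hn.not_isUnit hu  
    · intro hu
      have ha : a ∈ maximalIdeal R := by
        rw [mem_maximalIdeal, mem_nonunits_iff]
        intro hau
        exact hu (hau.map _)
      refine ⟨k, ?_⟩
      rw [← map_pow, Ideal.Quotient.eq_zero_iff_mem]
      exact hk (Ideal.pow_mem_pow ha k)
  have hdim0 : Ring.KrullDimLE 0 (R ⧸ I) :=
    (((Ring.krullDimLE_zero_and_isLocalRing_tfae (R ⧸ I)).out 2 0 rfl rfl).mp hnil).1
  have hdim : ringKrullDim (R ⧸ I) = ((0 : ℕ) : WithBot ℕ∞) := by
    rw [Nat.cast_zero]
    exact ringKrullDimZero_iff_ringKrullDim_eq_zero.1 hdim0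
  have hinj := (Groth.Agent.Lib.Helper29Gorenstein.depth_eq_and_hasInjectiveDimensionLT
    (R ⧸ I) 0 hdim).2
  rw [zero_add] at hinj
  haveI : CategoryTheory.Injective (ModuleCat.of (R ⧸ I) (R ⧸ I)) :=
    injective_iff_hasInjectiveDimensionLT_one.2 hinj
  exact Module.injective_module_of_injective_object (R ⧸ I) (R ⧸ I)

end Groth.Agent.Lib.Helper14.FrobTors
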