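import Mathlib
import Groth.Agent.Lib.Helper14FrobTorsA

/-!
# The socle of a module over a local ring is free over the residue field (helper14)
-/

set_option autoImplicit false
set_option linter.unusedVariables false
set_option linter.unusedSectionVars false
set_option linter.style.haveILetI false

universe u v

namespace Groth.Agent.Lib.Helper14.FrobTors

open IsLocalRing

/-- The socle `M[𝔪]` is free over `R ⧸ 𝔪`. -/
theorem exists_freeOn_socle {R : Type u} [CommRing R] [IsLocalRing R] (M : Type u)
    [AddCommGroup M] [Module R M] :
    ∃ (J : Type u) (b : J → M), FreeOn (maximalIdeal R) M b := by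
  classical
  letI : Field (R ⧸ maximalIdeal R) := Ideal.Quotient.field (maximalIdeal R)
  let V : Submodule R M := Submodule.torsionBySet R M ((maximalIdeal R : Ideal R) : Set R)
  let J := Module.Basis.ofVectorSpaceIndex (R ⧸ maximalIdeal R) V
  let bV : Module.Basis J (R ⧸ maximalIdeal R) V :=
    Module.Basis.ofVectorSpace (R ⧸ maximalIdeal R) V
  let b : J → M := fun j => (bV j : M)
  have key : ∀ c : J →₀ R,
      ((Finsupp.linearCombination (R ⧸ maximalIdeal R) bV
        (c.mapRange (Ideal.Quotient.mk (maximalIdeal R)) (map_zero _)) : V) : M) =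
      Finsupp.linearCombination R b c := by
    intro c
    induction c using Finsupp.induction_linear with
    | zero => simp
    | add c₁ c₂ h₁ h₂ =>
      rw [Finsupp.mapRange_add (by intro x y; exact map_add _ x y), map_add, map_add,
        Submodule.coe_add, h₁, h₂]
    | single j a =>
      rw [Finsupp.mapRange_single, Finsupp.linearCombination_single,
        Finsupp.linearCombination_single]
      rfl
  refine ⟨J, b, ?_, ?_, ?_⟩
  · intro j a ha
    have := (bV j).2
    rw [Submodule.mem_torsionBySet_iff] at this
    exact this ⟨a, ha⟩
  · intro z hz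
    have hzV : z ∈ V := by
      rw [Submodule.mem_torsionBySet_iff]
      rintro ⟨a, ha⟩
      exact hz a ha
    obtain ⟨c, hc⟩ := Finsupp.mapRange_surjective (Ideal.Quotient.mk (maximalIdeal R)) (map_zero _)
      Ideal.Quotient.mk_surjective (bV.repr ⟨z, hzV⟩)
    have h1 := key c
    rw [hc, bV.linearCombination_repr] at h1
    rw [Finsupp.mem_span_range_iff_exists_finsupp]
    refine ⟨c, ?_⟩
    rw [← Finsupp.linearCombination_apply]
    exact h1.symm
  · intro c hc j
    have h1 := key c
    rw [hc] at h1
    have h2 : Finsupp.linearCombination (R ⧸ maximalIdeal R) bV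
        (c.mapRange (Ideal.Quotient.mk (maximalIdeal R)) (map_zero _)) = 0 := Subtype.ext h1
    have h3 := (linearIndependent_iff.1 bV.linearIndependent) _ h2
    have h4 := DFunLike.congr_fun h3 j
    rw [Finsupp.mapRange_apply, Finsupp.zero_apply, Ideal.Quotient.eq_zero_iff_mem] at h4
    exact h4

end Groth.Agent.Lib.Helper14.FrobTors
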