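import Mathlib.RingTheory.Jacobson.Ring
import Mathlib.RingTheory.Localization.Integral
import Mathlib.RingTheory.Localization.Ideal
import Mathlib.RingTheory.Localization.Away.Basic
import Mathlib.RingTheory.Algebraic.Integral
import Mathlib.RingTheory.Ideal.GoingUp

set_option autoImplicit false

namespace Groth.Agent.Lib.Helper14

/-- If a field `k` is of finite type over a subdomain `A`, then some principal localization
`A[1/a]` has no nonzero primes. -/
theorem exists_ne_zero_forall_prime_eq_bot (A k : Type*) [CommRing A] [IsDomain A] [Field k]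
    [Algebra A k] [Algebra.FiniteType A k] (hinj : Function.Injective (algebraMap A k)) :
    ∃ a : A, a ≠ 0 ∧ ∀ Q : Ideal A, Q.IsPrime → a ∉ Q → Q = ⊥ := by
  classical
  let K := FractionRing A
  let _ : Algebra K k := (IsFractionRing.lift hinj).toAlgebra
  have : IsScalarTower A K k :=
    IsScalarTower.of_algebraMap_eq (fun x => (IsFractionRing.lift_algebraMap hinj x).symm)
  have : Algebra.FiniteType K k := Algebra.FiniteType.of_restrictScalars_finiteType A K k
  have : Module.Finite K k := finite_of_finite_type_of_isJacobsonRing K k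
  have : Algebra.IsAlgebraic K k := Algebra.IsAlgebraic.of_finite K k
  obtain ⟨s, hs⟩ := (inferInstance : Algebra.FiniteType A k).out
  have key : ∀ x : k, ∃ a : A, a ≠ 0 ∧ IsIntegral A (a • x) := by
    intro x
    have hx : IsAlgebraic K x := Algebra.IsAlgebraic.isAlgebraic x
    have hx' : IsAlgebraic A x := (IsFractionRing.isAlgebraic_iff A K k).mpr hx
    exact hx'.exists_integral_multiple
  choose c hc0 hcint using key
  let a : A := ∏ x ∈ s, c x
  have ha0 : a ≠ 0 := Finset.prod_ne_zero_iff.mpr (fun x _ => hc0 x)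
  refine ⟨a, ha0, ?_⟩
  let B := Localization.Away a
  have hunit : IsUnit (algebraMap A k a) :=
    isUnit_iff_ne_zero.mpr ((map_ne_zero_iff _ hinj).mpr ha0)
  let _ : Algebra B k := (IsLocalization.Away.lift a hunit).toAlgebra
  have : IsScalarTower A B k :=
    IsScalarTower.of_algebraMap_eq (fun x => (IsLocalization.Away.lift_eq a hunit x).symm)
  -- every generator is integral over `B`
  have hgen : ∀ x ∈ s, IsIntegral B x := by
    intro x hx
    have h1 : IsIntegral B (c x • x) := (hcint x).tower_top
    have hdvd : c x ∣ a := Finset.dvd_prod_of_mem c hx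
    have hu : IsUnit (algebraMap A B (c x)) :=
      isUnit_of_dvd_unit (map_dvd (algebraMap A B) hdvd) (IsLocalization.Away.algebraMap_isUnit a)
    obtain ⟨u, hu⟩ := hu
    have h2 : IsIntegral B ((↑u⁻¹ : B) • (c x • x)) := h1.smul _
    have h3 : (↑u⁻¹ : B) • (c x • x) = x := by
      rw [← algebraMap_smul B (c x) x, ← hu, smul_smul, Units.inv_mul, one_smul]
    rwa [h3] at h2
  have hint : Algebra.IsIntegral B k := by
    constructor
    intro y
    have hy : y ∈ Algebra.adjoin A (s : Set k) := by rw [hs]; trivial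
    have hle : Algebra.adjoin A (s : Set k) ≤ (integralClosure B k).restrictScalars A :=
      Algebra.adjoin_le (fun x hx => hgen x hx)
    exact hle hy
  -- the zero ideal of `B` is maximal
  have hker : (⊥ : Ideal k).comap (algebraMap B k) = ⊥ := by
    rw [← IsLocalization.map_under (Submonoid.powers a) B ((⊥ : Ideal k).comap (algebraMap B k))]
    have : ((⊥ : Ideal k).comap (algebraMap B k)).under A = ⊥ := by
      rw [Ideal.under, Ideal.comap_comap, ← IsScalarTower.algebraMap_eq, ← RingHom.ker_eq_comap_bot]
      exact (RingHom.injective_iff_ker_eq_bot _).mp hinj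
    rw [this, Ideal.map_bot]
  have hmax : (⊥ : Ideal B).IsMaximal := by
    rw [← hker]
    exact Ideal.isMaximal_comap_of_isIntegral_of_isMaximal (R := B) (S := k) ⊥
  intro Q hQ haQ
  have hdisj : Disjoint (Submonoid.powers a : Set A) (Q : Set A) := by
    rw [Set.disjoint_left]
    rintro _ ⟨n, rfl⟩ hn
    exact haQ (hQ.mem_of_pow_mem n hn)
  have hQ' : (Q.map (algebraMap A B)).IsPrime :=
    IsLocalization.isPrime_of_isPrime_disjoint (Submonoid.powers a) B Q hQ hdisj
  have hQ'bot : Q.map (algebraMap A B) = ⊥ := (hmax.eq_of_le hQ'.ne_top bot_le).symm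
  have hunder := IsLocalization.under_map_of_isPrime_disjoint (Submonoid.powers a) B hQ hdisj
  rw [hQ'bot] at hunder
  rw [← hunder, Ideal.under, ← RingHom.ker_eq_comap_bot]
  exact (RingHom.injective_iff_ker_eq_bot _).mp
    (IsLocalization.injective B (powers_le_nonZeroDivisors_of_noZeroDivisors ha0))

/-- Version for a ring map of finite type onto a field, not necessarily injective. -/
theorem exists_notMem_ker_forall_prime_eq_ker {R k : Type*} [CommRing R] [Field k]
    (φ : R →+* k) (hφ : φ.FiniteType) :
    ∃ r : R, φ r ≠ 0 ∧ ∀ Q : Ideal R, Q.IsPrime → RingHom.ker φ ≤ Q → r ∉ Q →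
      Q = RingHom.ker φ := by
  have hprime : (RingHom.ker φ).IsPrime := RingHom.ker_isPrime φ
  let A := R ⧸ RingHom.ker φ
  let ψ : A →+* k := RingHom.kerLift φ
  have hψinj : Function.Injective ψ := RingHom.kerLift_injective φ
  let _ : Algebra A k := ψ.toAlgebra
  have hcomp : ψ.comp (Ideal.Quotient.mk (RingHom.ker φ)) = φ := by
    ext x; rfl
  have hft : ψ.FiniteType := by
    apply RingHom.FiniteType.of_comp_finiteType (f := Ideal.Quotient.mk (RingHom.ker φ))
    rw [hcomp]; exact hφ
  have : Algebra.FiniteType A k := hft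
  obtain ⟨a, ha0, ha⟩ := exists_ne_zero_forall_prime_eq_bot A k hψinj
  obtain ⟨r, rfl⟩ := Ideal.Quotient.mk_surjective a
  refine ⟨r, ?_, ?_⟩
  · intro h0
    apply ha0
    apply hψinj
    rw [map_zero]
    exact h0
  · intro Q hQ hle hrQ
    have hQ' : (Q.map (Ideal.Quotient.mk (RingHom.ker φ))).IsPrime :=
      Ideal.map_isPrime_of_surjective Ideal.Quotient.mk_surjective (by rwa [Ideal.mk_ker])
    have hnot : Ideal.Quotient.mk (RingHom.ker φ) r ∉ Q.map (Ideal.Quotient.mk (RingHom.ker φ)) := by
      rw [Ideal.mem_quotient_iff_mem hle]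
      exact hrQ
    have hbot := ha _ hQ' hnot
    rw [Ideal.map_eq_bot_iff_le_ker, Ideal.mk_ker] at hbot
    exact le_antisymm hbot hle

end Groth.Agent.Lib.Helper14
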