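import Mathlib.AlgebraicGeometry.Morphisms.FiniteType
import Mathlib.AlgebraicGeometry.ResidueField
import Mathlib.AlgebraicGeometry.Morphisms.Finite
import Mathlib.AlgebraicGeometry.Morphisms.ClosedImmersion
import Mathlib.AlgebraicGeometry.Morphisms.Preimmersion
import Mathlib.AlgebraicGeometry.Fiber
import Groth.Agent.Lib.Helper14Zariski

set_option autoImplicit false
universe u

namespace Groth.Agent.Lib.Helper14

open AlgebraicGeometry CategoryTheory

/-- A point that is closed in an open subscheme is a finite type point. -/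
theorem ftPoint_of_isClosed_in_open (S : Scheme.{u}) (U : S.Opens) (s : S) (hs : s ∈ U)
    (hc : IsClosed ({⟨s, hs⟩} : Set ↥U)) : LocallyOfFiniteType (S.fromSpecResidueField s) := by
  let x : ↥(U : Scheme.{u}) := ⟨s, hs⟩
  have h1 : IsClosedImmersion ((U : Scheme.{u}).fromSpecResidueField x) :=
    isClosed_singleton_iff_isClosedImmersion.mp hc
  have h2 := Scheme.Hom.SpecMap_residueFieldMap_fromSpecResidueField U.ι x
  have h3 : LocallyOfFiniteType
      (Spec.map (U.ι.residueFieldMap x) ≫ S.fromSpecResidueField (U.ι.base x)) := by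
    rw [h2]; infer_instance
  have h4 : IsIso (U.ι.residueFieldMap x) := inferInstance
  have h5 : IsIso (Spec.map (U.ι.residueFieldMap x)) := inferInstance
  exact (MorphismProperty.cancel_left_of_respectsIso @LocallyOfFiniteType
    (Spec.map (U.ι.residueFieldMap x)) (S.fromSpecResidueField (U.ι.base x))).mp h3

/-- Membership in a basic open of an affine open, in terms of prime ideals. -/
theorem mem_basicOpen_iff_notMem_primeIdealOf {X : Scheme.{u}} {U : X.Opens} (hU : IsAffineOpen U)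
    (y : X) (hy : y ∈ U) (r : Γ(X, U)) :
    y ∈ X.basicOpen r ↔ r ∉ (hU.primeIdealOf ⟨y, hy⟩).asIdeal := by
  have h := hU.fromSpec_primeIdealOf ⟨y, hy⟩
  have h2 : (hU.fromSpec.base (hU.primeIdealOf ⟨y, hy⟩) ∈ X.basicOpen r) ↔
      r ∉ (hU.primeIdealOf ⟨y, hy⟩).asIdeal := by
    change hU.primeIdealOf ⟨y, hy⟩ ∈ (hU.fromSpec ⁻¹ᵁ X.basicOpen r) ↔ _
    rw [hU.fromSpec_preimage_basicOpen]
    rfl
  rw [h] at h2
  exact h2

/-- Prime ideals of the sections over an affine open respect specialization. -/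
theorem primeIdealOf_le_of_specializes {X : Scheme.{u}} {U : X.Opens} (hU : IsAffineOpen U)
    (x y : X) (hx : x ∈ U) (hy : y ∈ U) (h : x ⤳ y) :
    (hU.primeIdealOf ⟨x, hx⟩).asIdeal ≤ (hU.primeIdealOf ⟨y, hy⟩).asIdeal := by
  have h1 : (⟨x, hx⟩ : U) ⤳ ⟨y, hy⟩ := (subtype_specializes_iff _ _).mpr h
  have h2 : hU.isoSpec.hom.base ⟨x, hx⟩ ⤳ hU.isoSpec.hom.base ⟨y, hy⟩ :=
    h1.map hU.isoSpec.hom.continuous
  exact (PrimeSpectrum.le_iff_specializes _ _).mpr h2

/-- A morphism locally of finite type from the spectrum of a field has image a point which is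
closed in some affine open. -/
theorem exists_affineOpen_isClosed_of_locallyOfFiniteType (S : Scheme.{u}) (k : Type u)
    [Field k] (f : Spec (CommRingCat.of k) ⟶ S) [LocallyOfFiniteType f]
    (pt : Spec (CommRingCat.of k)) :
    ∃ U : S.Opens, IsAffineOpen U ∧ ∃ hu : f.base pt ∈ U,
      IsClosed ({⟨f.base pt, hu⟩} : Set ↥U) := by
  obtain ⟨_, ⟨U₀, hU₀', rfl⟩, huU₀, -⟩ := S.isBasis_affineOpens.exists_subset_of_mem_open
    (Set.mem_univ (f.base pt)) isOpen_univ
  have hU₀ : IsAffineOpen U₀ := hU₀'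
  have hsub : ∀ y : Spec (CommRingCat.of k), y = pt := fun y =>
    Subsingleton.elim (α := PrimeSpectrum k) y pt
  have e : (⊤ : (Spec (CommRingCat.of k)).Opens) ≤ f ⁻¹ᵁ U₀ := by
    intro y _
    rw [hsub y]; exact huU₀
  have hV : IsAffineOpen (⊤ : (Spec (CommRingCat.of k)).Opens) := isAffineOpen_top _
  let φ : Γ(S, U₀) →+* Γ(Spec (CommRingCat.of k), ⊤) := (f.appLE U₀ ⊤ e).hom
  have hφ : φ.FiniteType := f.finiteType_appLE hU₀ hV e
  let ι : Γ(Spec (CommRingCat.of k), ⊤) ≃+* k :=
    (Scheme.ΓSpecIso (CommRingCat.of k)).commRingCatIsoToRingEquiv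
  let φ' : Γ(S, U₀) →+* k := ι.toRingHom.comp φ
  have hφ' : φ'.FiniteType :=
    RingHom.FiniteType.comp (RingHom.FiniteType.of_surjective ι.toRingHom ι.surjective) hφ
  have hker : RingHom.ker φ' = RingHom.ker φ := by
    ext x
    simp only [RingHom.mem_ker, φ', RingHom.comp_apply]
    exact map_eq_zero_iff _ ι.injective
  -- the prime ideal of the image point is the kernel
  have hp : (hU₀.primeIdealOf ⟨f.base pt, huU₀⟩).asIdeal = RingHom.ker φ := by
    have h1 := IsAffineOpen.comap_primeIdealOf_appLE (f := f) (x := pt) U₀ hU₀ ⊤ hV e trivial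
    have h2 : (hV.primeIdealOf ⟨pt, trivial⟩).asIdeal = ⊥ := by
      rw [eq_bot_iff]
      intro x hx
      by_contra hx0
      have hxu : IsUnit (ι x) := isUnit_iff_ne_zero.mpr (by
        intro h; exact hx0 ((map_eq_zero_iff _ ι.injective).mp h))
      have hxu' : IsUnit x := by
        have := hxu.map ι.symm.toRingHom
        simpa using this
      exact (hV.primeIdealOf ⟨pt, trivial⟩).isPrime.ne_top (Ideal.eq_top_of_isUnit_mem _ hx hxu')
    rw [← h1]
    change Ideal.comap φ (hV.primeIdealOf ⟨pt, trivial⟩).asIdeal = _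
    rw [h2, RingHom.ker_eq_comap_bot]
  obtain ⟨r, hr, hrQ⟩ := exists_notMem_ker_forall_prime_eq_ker φ' hφ'
  rw [hker] at hrQ
  have hrp : r ∉ (hU₀.primeIdealOf ⟨f.base pt, huU₀⟩).asIdeal := by
    rw [hp, ← hker]; exact hr
  have hu : f.base pt ∈ S.basicOpen r :=
    (mem_basicOpen_iff_notMem_primeIdealOf hU₀ _ huU₀ r).mpr hrp
  refine ⟨S.basicOpen r, hU₀.basicOpen r, hu, ?_⟩
  rw [← closure_subset_iff_isClosed]
  intro b hb
  have h1 : (⟨f.base pt, hu⟩ : S.basicOpen r) ⤳ b := specializes_iff_mem_closure.mpr hb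
  have h2 : f.base pt ⤳ b.1 := (subtype_specializes_iff _ _).mp h1
  have hbU₀ : b.1 ∈ U₀ := S.basicOpen_le r b.2
  have h3 := primeIdealOf_le_of_specializes hU₀ _ _ huU₀ hbU₀ h2
  have h4 : r ∉ (hU₀.primeIdealOf ⟨b.1, hbU₀⟩).asIdeal :=
    (mem_basicOpen_iff_notMem_primeIdealOf hU₀ _ hbU₀ r).mp b.2
  rw [hp] at h3
  have h5 := hrQ _ (hU₀.primeIdealOf ⟨b.1, hbU₀⟩).isPrime h3 h4
  rw [← hp] at h5
  have h6 : hU₀.primeIdealOf ⟨b.1, hbU₀⟩ = hU₀.primeIdealOf ⟨f.base pt, huU₀⟩ :=
    PrimeSpectrum.ext h5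
  have h7 := hU₀.fromSpec_primeIdealOf ⟨b.1, hbU₀⟩
  rw [h6, hU₀.fromSpec_primeIdealOf] at h7
  exact Set.mem_singleton_iff.mpr (Subtype.ext h7.symm)

/-- A preimmersion induces isomorphisms of residue fields. -/
theorem isIso_residueFieldMap_of_surjectiveOnStalks {X Y : Scheme.{u}} (f : X ⟶ Y)
    [SurjectiveOnStalks f] (x : X) : IsIso (f.residueFieldMap x) := by
  rw [ConcreteCategory.isIso_iff_bijective]
  refine ⟨(f.residueFieldMap x).hom.injective, fun y => ?_⟩
  obtain ⟨y', rfl⟩ := X.residue_surjective x y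
  obtain ⟨z, rfl⟩ := f.stalkMap_surjective x y'
  refine ⟨Y.residue (f.base x) z, ?_⟩
  have := ConcreteCategory.congr_hom (Scheme.residue_residueFieldMap f x) z
  simpa using this

/-- A closed point of an affine open of the fibre over a finite type point is a finite type
point of the source. -/
theorem ftPoint_of_fiber {T S : Scheme.{u}} (f : T ⟶ S) (s : S)
    (hs : LocallyOfFiniteType (S.fromSpecResidueField s)) (a : ↑(f.fiber s))
    (ha : LocallyOfFiniteType ((f.fiber s).fromSpecResidueField a)) :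
    LocallyOfFiniteType (T.fromSpecResidueField ((f.fiberι s).base a)) := by
  have hcomp := Scheme.Hom.SpecMap_residueFieldMap_fromSpecResidueField (f.fiberι s) a
  have h1 : LocallyOfFiniteType (f.fiberι s) :=
    MorphismProperty.pullback_fst _ _ hs
  have h2 : LocallyOfFiniteType (Spec.map ((f.fiberι s).residueFieldMap a) ≫
      T.fromSpecResidueField ((f.fiberι s).base a)) := by
    rw [hcomp]; infer_instance
  have h3 : IsIso ((f.fiberι s).residueFieldMap a) :=
    isIso_residueFieldMap_of_surjectiveOnStalks _ _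
  have h4 : IsIso (Spec.map ((f.fiberι s).residueFieldMap a)) := inferInstance
  exact (MorphismProperty.cancel_left_of_respectsIso @LocallyOfFiniteType
    (Spec.map ((f.fiberι s).residueFieldMap a)) _).mp h2

/-- A nonempty scheme has a finite type point. -/
theorem exists_ftPoint (F : Scheme.{u}) [Nonempty F] :
    ∃ a : F, LocallyOfFiniteType (F.fromSpecResidueField a) := by
  obtain ⟨a₀⟩ := ‹Nonempty F›
  obtain ⟨_, ⟨V, hV', rfl⟩, haV, -⟩ := F.isBasis_affineOpens.exists_subset_of_mem_open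
    (Set.mem_univ a₀) isOpen_univ
  have hV : IsAffineOpen V := hV'
  have : CompactSpace ↥V := isCompact_iff_compactSpace.mp hV.isCompact
  obtain ⟨x, -, hx⟩ := (isClosed_univ (X := ↥V)).exists_closed_singleton ⟨⟨a₀, haV⟩, trivial⟩
  exact ⟨x.1, ftPoint_of_isClosed_in_open F V x.1 x.2 hx⟩

end Groth.Agent.Lib.Helper14
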