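import Mathlib
import Groth.Prelude.Def_Disc
import Groth.Agent.Lib.Helper14FrobField
import Groth.Agent.Lib.Helper5KoszulGor
import Groth.Agent.Lib.Helper5CM2
import Groth.Agent.Lib.Helper13KzIdeal
import Groth.Agent.Lib.Helper5CodepthOpen
import Groth.Agent.Lib.Helper14FTDim

set_option autoImplicit false
set_option linter.unusedVariables false
set_option linter.unusedSectionVars false
set_option linter.style.haveILetI false

namespace Groth.Agent.Lib.Helper14GCIOmega

open Groth.Agent.Lib.Helper14FrobField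

universe u

section GCI

open LocCoh RingTheory.Sequence

variable {k : Type u} [Field k] (n : ℕ) (f : Fin n → MvPolynomial (Fin n) k)

theorem dim_quot_zero {A : Type u} [CommRing A] [IsLocalRing A] (J : Ideal A)
    (hJ : J ≤ IsLocalRing.maximalIdeal A)
    (h : ∀ 𝔭 : Ideal A, 𝔭.IsPrime → J ≤ 𝔭 → 𝔭 = IsLocalRing.maximalIdeal A) :
    ringKrullDim (A ⧸ J) = 0 := by
  have hne : J ≠ ⊤ := fun h' =>
    (IsLocalRing.maximalIdeal.isMaximal A).ne_top (top_le_iff.mp (h' ▸ hJ))
  haveI : Nontrivial (A ⧸ J) := Ideal.Quotient.nontrivial_iff.mpr hne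
  haveI : Ring.KrullDimLE 0 (A ⧸ J) := by
    rw [Ring.krullDimLE_zero_iff]
    intro P hP
    have h1 := h (P.comap (Ideal.Quotient.mk J)) (Ideal.comap_isPrime _ _) (by
      intro a ha
      rw [Ideal.mem_comap, Ideal.Quotient.eq_zero_iff_mem.mpr ha]
      exact zero_mem _)
    have h2 : P = (IsLocalRing.maximalIdeal A).map (Ideal.Quotient.mk J) := by
      rw [← h1, Ideal.map_comap_of_surjective _ Ideal.Quotient.mk_surjective]
    rcases Ideal.map_eq_top_or_isMaximal_of_surjective (Ideal.Quotient.mk J)
      Ideal.Quotient.mk_surjective (IsLocalRing.maximalIdeal.isMaximal A) with h3 | h3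
    · exact absurd (h2.trans h3) hP.ne_top
    · rw [h2]; exact h3
  exact le_antisymm (by exact_mod_cast (Ring.krullDimLE_iff (n := 0) (R := A ⧸ J)).mp inferInstance)
    ringKrullDim_nonneg_of_nontrivial

/-- local statement: a regular ring localized at a maximal ideal of height `n`, modulo `n`
elements generating an ideal with only that prime above it locally, is Gorenstein. -/
theorem gorLocal_quot_of_sop {P : Type u} [CommRing P] [IsRegularRing P] (n : ℕ) (f : Fin n → P)
    (M : Ideal P) [hMmax : M.IsMaximal] (hht : M.height = n)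
    (hIM : Ideal.span (Set.range f) ≤ M)
    (hprime : ∀ 𝔭 : Ideal P, 𝔭.IsPrime → Ideal.span (Set.range f) ≤ 𝔭 → 𝔭 ≤ M → 𝔭 = M) :
    IsGorensteinLocalRing (Localization.AtPrime M ⧸
      (Ideal.span (Set.range f)).map (algebraMap P (Localization.AtPrime M))) := by
  classical
  haveI hMprime : M.IsPrime := hMmax.isPrime
  haveI hGorP : IsGorensteinRing P := Groth.Agent.Lib.Helper5.GorRing.gorRing_of_isRegularRing P
  haveI hGorR : IsGorensteinLocalRing (Localization.AtPrime M) :=
    hGorP.isGorensteinLocalRing_localization M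
  haveI hCMP : IsCohenMacaulayRing P :=
    Groth.Agent.Lib.Helper5.CodepthOpen.isCohenMacaulayRing_of_isRegularRing P
  haveI hCMR : IsCohenMacaulayLocalRing (Localization.AtPrime M) :=
    hCMP.isCohenMacaulayLocalRing_localization M
  have hCMmod : IsCohenMacaulayModule (Localization.AtPrime M) (Localization.AtPrime M) :=
    hCMR.supportDim_eq_depth
  have hdimR : ringKrullDim (Localization.AtPrime M) = n := by
    rw [IsLocalization.AtPrime.ringKrullDim_eq_height M (Localization.AtPrime M), hht]
    rfl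
  obtain ⟨xs, hxs⟩ : ∃ xs : List (Localization.AtPrime M),
      xs = (List.ofFn f).map (algebraMap P (Localization.AtPrime M)) := ⟨_, rfl⟩
  have hofList : Ideal.ofList xs =
      (Ideal.span (Set.range f)).map (algebraMap P (Localization.AtPrime M)) := by
    rw [Ideal.map_span]
    unfold Ideal.ofList
    congr 1
    ext a
    simp only [hxs, List.mem_map, List.mem_ofFn, Set.mem_ofPred_eq, Set.mem_image, Set.mem_range,
      exists_exists_eq_and]
  have hmem : ∀ x ∈ xs, x ∈ IsLocalRing.maximalIdeal (Localization.AtPrime M) := by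
    intro x hx
    rw [hxs, List.mem_map] at hx
    obtain ⟨z, hz, rfl⟩ := hx
    rw [List.mem_ofFn] at hz
    obtain ⟨i, rfl⟩ := hz
    rw [IsLocalization.AtPrime.to_map_mem_maximal_iff (Localization.AtPrime M) M]
    exact hIM (Ideal.subset_span ⟨i, rfl⟩)
  have hle : Ideal.ofList xs ≤ IsLocalRing.maximalIdeal (Localization.AtPrime M) := by
    unfold Ideal.ofList
    rw [Ideal.span_le]
    exact fun x hx => hmem x hx
  have hdim0 : ringKrullDim (Localization.AtPrime M ⧸ Ideal.ofList xs) = 0 := by
    apply dim_quot_zero _ hle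
    intro 𝔭 h𝔭 hJ
    haveI := h𝔭
    have hI𝔭' : Ideal.span (Set.range f) ≤ 𝔭.comap (algebraMap P (Localization.AtPrime M)) := by
      rw [← Ideal.map_le_iff_le_comap, ← hofList]; exact hJ
    have h4 : 𝔭.comap (algebraMap P (Localization.AtPrime M)) ≤ M := by
      have hd : Disjoint (M.primeCompl : Set P)
          (𝔭.comap (algebraMap P (Localization.AtPrime M)) : Set P) :=
        ((IsLocalization.isPrime_iff_isPrime_disjoint M.primeCompl (Localization.AtPrime M) 𝔭).mp
          h𝔭).2
      intro a ha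
      by_contra hna
      exact Set.disjoint_left.mp hd hna ha
    have h5 := hprime _ (Ideal.comap_isPrime _ _) hI𝔭' h4
    rw [← Localization.AtPrime.map_eq_maximalIdeal]
    have h6 : Ideal.map (algebraMap P (Localization.AtPrime M))
        (𝔭.comap (algebraMap P (Localization.AtPrime M))) = 𝔭 :=
      IsLocalization.map_under M.primeCompl (Localization.AtPrime M) 𝔭
    rw [h5] at h6
    exact h6.symm
  have hquot : Module.supportDim (Localization.AtPrime M)
      (Localization.AtPrime M ⧸ (Ideal.ofList xs • (⊤ : Submodule (Localization.AtPrime M)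
        (Localization.AtPrime M)))) = 0 := by
    have h1 : (Ideal.ofList xs • (⊤ : Submodule (Localization.AtPrime M)
        (Localization.AtPrime M))) = Ideal.ofList xs := by
      rw [smul_eq_mul, Ideal.mul_top]
    rw [h1, Module.supportDim_quotient_eq_ringKrullDim]
    exact hdim0
  have hlen : xs.length = n := by
    rw [hxs, List.length_map, List.length_ofFn]
  have hwr : IsWeaklyRegular (Localization.AtPrime M) xs := by
    refine ((Groth.Agent.Lib.Helper5.isWeaklyRegular_iff_of_isCohenMacaulayModule xs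
      (Localization.AtPrime M) hCMmod hmem).1).mpr ?_
    rw [hquot, hlen, Module.supportDim_self_eq_ringKrullDim, hdimR, zero_add]
  have hKz : LCI.IsKoszulRegularSeq (Localization.AtPrime M) xs :=
    Groth.Agent.Helper13KzIdeal.isKoszulRegularSeq_of_isWeaklyRegular xs hwr
  have hK := (Groth.Agent.Helper13KzLift.isKoszulRegularSeq_iff (Localization.AtPrime M) xs).mp hKz
  have hG1 : IsGorensteinLocalRing (Localization.AtPrime M ⧸ Ideal.ofList xs) :=
    Groth.Agent.Lib.Helper5.KoszulGor.gorLocal_quotient_of_koszul (Localization.AtPrime M) xs hmem hK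
  haveI := hG1
  exact Groth.Agent.Lib.Helper5.GorRing.gorLocal_of_ringEquiv (Ideal.quotEquivOfEq hofList)

theorem gorLocal_localization {P : Type u} [CommRing P] [IsRegularRing P] (n : ℕ) (f : Fin n → P)
    (hht : ∀ M : Ideal P, M.IsMaximal → M.height = n)
    [Ring.KrullDimLE 0 (P ⧸ Ideal.span (Set.range f))]
    (Q : Ideal (P ⧸ Ideal.span (Set.range f))) [hQ : Q.IsPrime] :
    LocCoh.IsGorensteinLocalRing (Localization.AtPrime Q) := by
  haveI hQmax : Q.IsMaximal := Ideal.isMaximal_of_isPrime Q
  obtain ⟨M, hM⟩ : ∃ M : Ideal P, M = Q.comap (Ideal.Quotient.mk (Ideal.span (Set.range f))) :=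
    ⟨_, rfl⟩
  haveI hMmax : M.IsMaximal := by
    rw [hM]; exact Ideal.comap_isMaximal_of_surjective _ Ideal.Quotient.mk_surjective
  haveI hMprime : M.IsPrime := hMmax.isPrime
  have hIM : Ideal.span (Set.range f) ≤ M := by
    intro a ha
    rw [hM, Ideal.mem_comap, Ideal.Quotient.eq_zero_iff_mem.mpr ha]
    exact zero_mem _
  have hQM : Q = M.map (Ideal.Quotient.mk (Ideal.span (Set.range f))) := by
    rw [hM]; exact (Ideal.map_comap_of_surjective _ Ideal.Quotient.mk_surjective Q).symm
  have hG := gorLocal_quot_of_sop n f M (hht M hMmax) hIM (by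
    intro 𝔭 h𝔭 hI𝔭 h𝔭M
    haveI := h𝔭
    have h1 : (𝔭.map (Ideal.Quotient.mk (Ideal.span (Set.range f)))).IsPrime :=
      Ideal.map_isPrime_of_surjective Ideal.Quotient.mk_surjective (by
        rw [Ideal.mk_ker]; exact hI𝔭)
    haveI := h1
    have h2 : (𝔭.map (Ideal.Quotient.mk (Ideal.span (Set.range f)))).IsMaximal :=
      Ideal.isMaximal_of_isPrime _
    have h3 : 𝔭.IsMaximal := by
      have := Ideal.comap_isMaximal_of_surjective (Ideal.Quotient.mk (Ideal.span (Set.range f)))
        Ideal.Quotient.mk_surjective (K := 𝔭.map (Ideal.Quotient.mk (Ideal.span (Set.range f))))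
      rwa [Ideal.comap_map_of_surjective _ Ideal.Quotient.mk_surjective, ← RingHom.ker_eq_comap_bot,
        Ideal.mk_ker, sup_eq_left.mpr hI𝔭] at this
    exact h3.eq_of_le hMprime.ne_top h𝔭M)
  exact Groth.Agent.Lib.Helper5.KoszulGor.gorLocal_atPrime_quotient _ M hIM Q hQM hG

end GCI

section Frob

variable {k B : Type u} [Field k] [CommRing B] [Algebra k B] [FiniteDimensional k B]

/-- the `B`-linear map `B → ω`, `b ↦ φ(b ·)` -/
noncomputable def toOmega (φ : B →ₗ[k] k) : B →ₗ[B] Disc.Omega k B where
  toFun b := b • (⟨φ⟩ : Disc.Omega k B)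
  map_add' x y := add_smul _ _ _
  map_smul' c x := by simp [mul_smul]

theorem toOmega_apply (φ : B →ₗ[k] k) (b x : B) :
    (toOmega φ b).toLinearMap x = φ (b * x) := rfl

theorem toOmega_bijective (φ : B →ₗ[k] k) (hφ : IsFrobForm φ) :
    Function.Bijective (toOmega φ) := by
  -- the k-linear map B → Dual
  let Ψ : B →ₗ[k] (B →ₗ[k] k) :=
    { toFun := fun b => φ ∘ₗ LinearMap.mulLeft k b
      map_add' := fun x y => by ext z; simp [add_mul]
      map_smul' := fun c x => by ext z; simp }
  have hΨ : ∀ b x, Ψ b x = φ (b * x) := fun b x => rfl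
  have hinj : Function.Injective Ψ := by
    rw [← LinearMap.ker_eq_bot, eq_bot_iff]
    intro b hb
    rw [LinearMap.mem_ker] at hb
    rw [Submodule.mem_bot]
    apply hφ
    intro g
    rw [← hΨ, hb]; rfl
  have hsurj : Function.Surjective Ψ := by
    have hfr : Module.finrank k B = Module.finrank k (B →ₗ[k] k) := by
      exact (Subspace.dual_finrank_eq (K := k) (V := B)).symm
    exact (LinearMap.injective_iff_surjective_of_finrank_eq_finrank hfr).mp hinj
  constructor
  · intro x y hxy
    apply hinj
    ext z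
    rw [hΨ, hΨ, ← toOmega_apply, ← toOmega_apply, hxy]
  · intro ω
    obtain ⟨b, hb⟩ := hsurj ω.toLinearMap
    refine ⟨b, ?_⟩
    apply Disc.Omega.ext
    ext z
    rw [toOmega_apply, ← hΨ, hb]

theorem nonempty_omega_equiv (φ : B →ₗ[k] k) (hφ : IsFrobForm φ) :
    Nonempty (Disc.Omega k B ≃ₗ[B] B) :=
  ⟨(LinearEquiv.ofBijective (toOmega φ) (toOmega_bijective φ hφ)).symm⟩

end Frob

section Main

variable {k : Type u} [Field k] (n : ℕ) (f : Fin n → MvPolynomial (Fin n) k)

theorem main (h0 : ringKrullDim (MvPolynomial (Fin n) k ⧸ Ideal.span (Set.range f)) = 0) :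
    Nonempty (Disc.Omega k (MvPolynomial (Fin n) k ⧸ Ideal.span (Set.range f))
      ≃ₗ[MvPolynomial (Fin n) k ⧸ Ideal.span (Set.range f)]
      (MvPolynomial (Fin n) k ⧸ Ideal.span (Set.range f))) := by
  haveI : Ring.KrullDimLE 0 (MvPolynomial (Fin n) k ⧸ Ideal.span (Set.range f)) := by
    rw [Ring.krullDimLE_iff]; exact h0.le
  haveI : Module.Finite k (MvPolynomial (Fin n) k ⧸ Ideal.span (Set.range f)) :=
    (Module.finite_iff_krullDimLE_zero k _).mpr inferInstance
  haveI : IsRegularRing (MvPolynomial (Fin n) k) := inferInstance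
  obtain ⟨φ, hφ⟩ := (gor_iff_frobForm k
    (MvPolynomial (Fin n) k ⧸ Ideal.span (Set.range f))).mp (fun Q _ =>
      gorLocal_localization n f
        (fun M hM => by
          haveI := hM
          exact Groth.Agent.Lib.Helper14.FTDim.height_of_isMaximal n M) Q)
  exact nonempty_omega_equiv φ hφ

end Main

end Groth.Agent.Lib.Helper14GCIOmega
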