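import Mathlib

/-!
# Helper22: the determinant of the generic matrix is irreducible
-/

set_option autoImplicit false
universe u

namespace Groth.Agent.Lib.Helper22.GenDet

open MvPolynomial Classical

variable {k : Type u} [Field k] {n : ℕ}

local notation "A" => MvPolynomial (Fin n × Fin n) k
set_option quotPrecheck false in
local notation "gdet" => Matrix.det (Matrix.mvPolynomialX (Fin n) (Fin n) k)

/-- kill the variables in `S` -/
noncomputable def eps (S : Set (Fin n × Fin n)) : A →ₐ[k] A :=
  aeval (fun ab => if ab ∈ S then (0 : A) else X ab)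

/-- scale the variables in `S` by `T` -/
noncomputable def rho (S : Set (Fin n × Fin n)) : A →ₐ[k] Polynomial A :=
  aeval (fun ab => if ab ∈ S then Polynomial.X * Polynomial.C (X ab) else Polynomial.C (X ab))

theorem eval_one_rho (S : Set (Fin n × Fin n)) (g : A) : Polynomial.eval 1 (rho S g) = g := by
  have : ((Polynomial.aeval (1 : A)).restrictScalars k).comp (rho S) = AlgHom.id k A := by
    apply algHom_ext
    intro ab
    simp only [rho, AlgHom.comp_apply, aeval_X, AlgHom.restrictScalars_apply, AlgHom.id_apply]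
    split_ifs <;> simp
  have h := AlgHom.congr_fun this g
  simpa [Polynomial.coe_aeval_eq_eval] using h

theorem eval_zero_rho (S : Set (Fin n × Fin n)) (g : A) :
    Polynomial.eval 0 (rho S g) = eps S g := by
  have : ((Polynomial.aeval (0 : A)).restrictScalars k).comp (rho S) = eps S := by
    apply algHom_ext
    intro ab
    simp only [rho, eps, AlgHom.comp_apply, aeval_X, AlgHom.restrictScalars_apply]
    split_ifs <;> simp
  have h := AlgHom.congr_fun this g
  simpa [Polynomial.coe_aeval_eq_eval] using h

theorem aeval_eps {B : Type u} [CommRing B] [Algebra k B] (S : Set (Fin n × Fin n))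
    (M : Fin n × Fin n → B) (g : A) :
    aeval M (eps S g) = aeval (fun ab => if ab ∈ S then (0 : B) else M ab) g := by
  have : (aeval M : A →ₐ[k] B).comp (eps S) =
      aeval (fun ab => if ab ∈ S then (0 : B) else M ab) := by
    apply algHom_ext
    intro ab
    simp only [eps, AlgHom.comp_apply, aeval_X]
    split_ifs <;> simp
  exact AlgHom.congr_fun this g

theorem free_aeval {B : Type u} [CommRing B] [Algebra k B] {S : Set (Fin n × Fin n)} {g : A}
    (hg : eps S g = g) (M M' : Fin n × Fin n → B) (h : ∀ ab, ab ∉ S → M ab = M' ab) :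
    aeval M g = aeval M' g := by
  rw [← hg, aeval_eps, aeval_eps]
  have : (fun ab => if ab ∈ S then (0 : B) else M ab) = fun ab => if ab ∈ S then (0 : B) else M' ab := by
    funext ab
    split_ifs with hab
    · rfl
    · exact h ab hab
  rw [this]

theorem aeval_gdet {B : Type u} [CommRing B] [Algebra k B] (M : Fin n × Fin n → B) :
    aeval M gdet = (Matrix.of fun a b => M (a, b)).det := by
  rw [AlgHom.map_det]
  congr 1
  exact Matrix.mvPolynomialX_mapMatrix_aeval k (Matrix.of fun a b => M (a, b))

theorem gdet_ne_zero : (gdet : A) ≠ 0 := Matrix.det_mvPolynomialX_ne_zero (Fin n) k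

theorem dichotomy (S : Set (Fin n × Fin n))
    (hS : rho S gdet = Polynomial.X * Polynomial.C gdet) (f g : A) (hfg : f * g = gdet) :
    eps S f = f ∨ eps S g = g := by
  have h1 : rho S f * rho S g = Polynomial.X * Polynomial.C gdet := by
    rw [← map_mul, hfg, hS]
  have hne : (Polynomial.X * Polynomial.C gdet : Polynomial A) ≠ 0 := by
    apply mul_ne_zero Polynomial.X_ne_zero
    rw [Ne, Polynomial.C_eq_zero]
    exact gdet_ne_zero
  have hf0 : rho S f ≠ 0 := fun h => hne (by rw [← h1, h, zero_mul])
  have hg0 : rho S g ≠ 0 := fun h => hne (by rw [← h1, h, mul_zero])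
  have hdeg : (rho S f).natDegree + (rho S g).natDegree = 1 := by
    rw [← Polynomial.natDegree_mul hf0 hg0, h1, Polynomial.natDegree_X_mul, Polynomial.natDegree_C]
    rw [Ne, Polynomial.C_eq_zero]
    exact gdet_ne_zero
  have key : ∀ h : A, (rho S h).natDegree = 0 → eps S h = h := by
    intro h hh
    have hc := Polynomial.eq_C_of_natDegree_eq_zero hh
    have e1 := eval_one_rho S h
    have e0 := eval_zero_rho S h
    rw [hc, Polynomial.eval_C] at e1 e0
    rw [← e0, e1]
  rcases Nat.eq_zero_or_pos (rho S f).natDegree with h0 | h0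
  · exact Or.inl (key f h0)
  · exact Or.inr (key g (by omega))

theorem rho_row (i : Fin n) :
    rho {ab : Fin n × Fin n | ab.1 = i} gdet = Polynomial.X * Polynomial.C gdet := by
  rw [AlgHom.map_det, RingHom.map_det]
  let v : Fin n → Polynomial A := fun a => if a = i then Polynomial.X else 1
  have hmat : (rho {ab : Fin n × Fin n | ab.1 = i}).mapMatrix
      (Matrix.mvPolynomialX (Fin n) (Fin n) k) =
      Matrix.of fun a b => v a * (Polynomial.C.mapMatrix
        (Matrix.mvPolynomialX (Fin n) (Fin n) k)) a b := by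
    ext a b
    simp only [rho, AlgHom.mapMatrix_apply, Matrix.map_apply, Matrix.mvPolynomialX_apply, aeval_X,
      Matrix.of_apply, RingHom.mapMatrix_apply, Set.mem_setOf_eq, v]
    split_ifs <;> simp
  rw [hmat, Matrix.det_mul_column]
  congr 1
  simp [v]

theorem rho_col (j : Fin n) :
    rho {ab : Fin n × Fin n | ab.2 = j} gdet = Polynomial.X * Polynomial.C gdet := by
  rw [AlgHom.map_det, RingHom.map_det]
  let v : Fin n → Polynomial A := fun b => if b = j then Polynomial.X else 1
  have hmat : (rho {ab : Fin n × Fin n | ab.2 = j}).mapMatrix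
      (Matrix.mvPolynomialX (Fin n) (Fin n) k) =
      Matrix.of fun a b => v b * (Polynomial.C.mapMatrix
        (Matrix.mvPolynomialX (Fin n) (Fin n) k)) a b := by
    ext a b
    simp only [rho, AlgHom.mapMatrix_apply, Matrix.map_apply, Matrix.mvPolynomialX_apply, aeval_X,
      Matrix.of_apply, RingHom.mapMatrix_apply, Set.mem_setOf_eq, v]
    split_ifs <;> simp
  rw [hmat, Matrix.det_mul_row]
  congr 1
  simp [v]

theorem not_both (S S' : Set (Fin n × Fin n)) (i j : Fin n) (hS : (i, j) ∈ S) (hS' : (i, j) ∈ S')
    (f g : A) (hfg : f * g = gdet) (hg : eps S g = g) (hf : eps S' f = f) : False := by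
  let σ : Equiv.Perm (Fin n) := Equiv.swap i j
  let M' : Fin n × Fin n → A := fun ab => (σ.permMatrix A) ab.1 ab.2
  let M : Fin n × Fin n → A := fun ab => if ab = (i, j) then 0 else M' ab
  have hagree : ∀ ab, ab ≠ (i, j) → M ab = M' ab := fun ab hab => if_neg hab
  have h1 : aeval M g = aeval M' g :=
    free_aeval hg M M' (fun ab hab => hagree ab (fun h => hab (h ▸ hS)))
  have h2 : aeval M f = aeval M' f :=
    free_aeval hf M M' (fun ab hab => hagree ab (fun h => hab (h ▸ hS')))
  have h3 : aeval M gdet = aeval M' gdet := by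
    rw [← hfg, map_mul, map_mul, h1, h2]
  rw [aeval_gdet, aeval_gdet] at h3
  have hM' : (Matrix.of fun a b => M' (a, b)) = σ.permMatrix A := rfl
  rw [hM', Matrix.det_permutation] at h3
  have hzero : (Matrix.of fun a b => M (a, b)).det = 0 := by
    apply Matrix.det_eq_zero_of_row_eq_zero i
    intro b
    show M (i, b) = 0
    by_cases hb : b = j
    · rw [hb]; exact if_pos rfl
    · have hne : (i, b) ≠ (i, j) := fun h => hb (Prod.mk.inj h).2
      rw [hagree _ hne]
      show (σ.permMatrix A) i b = 0
      rw [Equiv.Perm.permMatrix, PEquiv.toMatrix_apply, Equiv.toPEquiv_apply]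
      have : σ i = j := Equiv.swap_apply_left i j
      rw [this]
      simp [Ne.symm hb]
  rw [hzero] at h3
  rcases Int.units_eq_one_or (Equiv.Perm.sign σ) with h | h
  · rw [h] at h3
    simp at h3
  · rw [h] at h3
    simp at h3

theorem eq_C_of_rows (g : A) (h : ∀ i : Fin n, eps {ab : Fin n × Fin n | ab.1 = i} g = g) :
    ∃ c : k, g = C c := by
  let Mt : ℕ → Fin n × Fin n → A := fun t ab => if ab.1.val < t then 0 else X ab
  have hchain : ∀ t, t ≤ n → aeval (Mt t) g = g := by
    intro t
    induction t with
    | zero =>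
      intro _
      have : Mt 0 = X := by
        funext ab
        simp [Mt]
      rw [this, aeval_X_left_apply]
    | succ t ih =>
      intro ht
      have ht' : t < n := ht
      have hstep : aeval (Mt (t + 1)) g = aeval (Mt t) g := by
        refine free_aeval (h ⟨t, ht'⟩) (Mt (t + 1)) (Mt t) (fun ab hab => ?_)
        have hne : ab.1.val ≠ t := fun hh => hab (Fin.ext hh)
        show (if ab.1.val < t + 1 then (0 : A) else X ab) = if ab.1.val < t then 0 else X ab
        by_cases hlt : ab.1.val < t
        · rw [if_pos hlt, if_pos (by omega)]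
        · rw [if_neg hlt, if_neg (by omega)]
      rw [hstep]
      exact ih (by omega)
  have hn := hchain n le_rfl
  have hMn : Mt n = 0 := by
    funext ab
    show (if ab.1.val < n then (0 : A) else X ab) = 0
    rw [if_pos ab.1.2]
  rw [hMn, aeval_zero] at hn
  exact ⟨constantCoeff g, hn.symm⟩

theorem unit_of_free (hn : 1 ≤ n) (f g : A) (hfg : f * g = gdet)
    (hg : eps {ab : Fin n × Fin n | ab.1 = ⟨0, hn⟩} g = g) : IsUnit g := by
  have hcols : ∀ j : Fin n, eps {ab : Fin n × Fin n | ab.2 = j} g = g := by
    intro j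
    rcases dichotomy _ (rho_col j) f g hfg with h | h
    · exact (not_both {ab : Fin n × Fin n | ab.1 = ⟨0, hn⟩} {ab : Fin n × Fin n | ab.2 = j}
        ⟨0, hn⟩ j rfl rfl f g hfg hg h).elim
    · exact h
  have hrows : ∀ i : Fin n, eps {ab : Fin n × Fin n | ab.1 = i} g = g := by
    intro i
    rcases dichotomy _ (rho_row i) f g hfg with h | h
    · exact (not_both {ab : Fin n × Fin n | ab.2 = ⟨0, hn⟩} {ab : Fin n × Fin n | ab.1 = i}
        i ⟨0, hn⟩ rfl rfl f g hfg (hcols ⟨0, hn⟩) h).elim
    · exact h
  obtain ⟨c, rfl⟩ := eq_C_of_rows g hrows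
  have hc : c ≠ 0 := by
    intro h0
    rw [h0, map_zero, mul_zero] at hfg
    exact gdet_ne_zero hfg.symm
  exact (isUnit_iff_ne_zero.mpr hc).map C

theorem irreducible_gdet (hn : 1 ≤ n) : Irreducible (gdet : A) := by
  rw [irreducible_iff]
  constructor
  · intro hu
    have h1 : IsUnit (aeval (0 : Fin n × Fin n → A) gdet) := hu.map _
    rw [aeval_gdet] at h1
    have hmat0 : (Matrix.of fun a b => (0 : Fin n × Fin n → A) (a, b)) =
        (0 : Matrix (Fin n) (Fin n) A) := rfl
    haveI : Nonempty (Fin n) := ⟨⟨0, hn⟩⟩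
    rw [hmat0, Matrix.det_zero] at h1
    exact not_isUnit_zero h1
  · intro a b hab
    rcases dichotomy _ (rho_row ⟨0, hn⟩) a b hab.symm with h | h
    · exact Or.inl (unit_of_free hn b a (by rw [mul_comm]; exact hab.symm) h)
    · exact Or.inr (unit_of_free hn a b hab.symm h)

end Groth.Agent.Lib.Helper22.GenDet
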