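/-
Helper14GLUnits (helper14): units of the coordinate ring `A[X_ij, 1/det]` of `GL_n`.
`Phi n A : Aˣ × ℤ → (A[X,1/det])ˣ`, `(a, e) ↦ a · det^e`, is always injective (`Phi_injective`),
surjective when `A` is reduced with only trivial idempotents (`surjective_of_reduced`), and
surjectivity forces `A` reduced (`reduced_of_surjective`).  Uses the irreducibility of the generic
determinant (`Helper22GenDet`) and `map_D` (`Helper27DetFlat`).
-/
import Mathlib
import Groth.Agent.Lib.Helper22GenDet
import Groth.Agent.Lib.Helper27DetFlat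

set_option autoImplicit false
universe u

namespace Groth.Agent.Lib.Helper14.GLUnits

open MvPolynomial Groth.Agent.Lib.Helper27DetFlat

/-- A polynomial over a reduced connected ring with exactly one coefficient outside each prime
is a unit multiple of a monomial. -/
theorem monomial_of_unique_coeff {A : Type u} [CommRing A] [IsReduced A] [Nontrivial A]
    (hconn : ∀ e : A, IsIdempotentElem e → e = 0 ∨ e = 1) (P : Polynomial A)
    (h : ∀ p : Ideal A, p.IsPrime → ∃! i, P.coeff i ∉ p) :
    ∃ j, IsUnit (P.coeff j) ∧ ∀ i, i ≠ j → P.coeff i = 0 := by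
  have hprod : ∀ i i', i ≠ i' → P.coeff i * P.coeff i' = 0 := by
    intro i i' hne
    apply IsReduced.eq_zero
    rw [nilpotent_iff_mem_prime]
    intro p hp
    obtain ⟨i0, -, hu⟩ := h p hp
    by_cases h1 : P.coeff i ∈ p
    · exact p.mul_mem_right _ h1
    · by_cases h2 : P.coeff i' ∈ p
      · exact p.mul_mem_left _ h2
      · exact absurd ((hu i h1).trans (hu i' h2).symm) hne
  have hspan : Ideal.span (Set.range P.coeff) = ⊤ := by
    by_contra hne
    obtain ⟨m, hm, hle⟩ := Ideal.exists_le_maximal _ hne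
    obtain ⟨i0, hi0, -⟩ := h m hm.isPrime
    exact hi0 (hle (Ideal.subset_span ⟨i0, rfl⟩))
  have h1 : (1 : A) ∈ Submodule.span A (Set.range P.coeff) := by
    have : (1 : A) ∈ Ideal.span (Set.range P.coeff) := by rw [hspan]; trivial
    exact this
  rw [Finsupp.mem_span_range_iff_exists_finsupp] at h1
  obtain ⟨c, hc⟩ := h1
  simp only [Finsupp.sum, smul_eq_mul] at hc
  set e : ℕ → A := fun i => c i * P.coeff i with he
  have hee : ∀ i i', i ≠ i' → e i * e i' = 0 := by
    intro i i' hne
    simp only [he]
    calc c i * P.coeff i * (c i' * P.coeff i') = c i * c i' * (P.coeff i * P.coeff i') := by ring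
      _ = 0 := by rw [hprod i i' hne, mul_zero]
  have hidem : ∀ i, IsIdempotentElem (e i) := by
    intro i
    by_cases hi : i ∈ c.support
    · have : e i * 1 = e i * e i := by
        rw [← hc, Finset.mul_sum, Finset.sum_eq_single i]
        · intro b _ hb
          exact hee i b (Ne.symm hb)
        · intro hni; exact absurd hi hni
      rw [mul_one] at this
      exact this.symm
    · have : c i = 0 := by simpa using hi
      simp [he, this, IsIdempotentElem]
  have hex : ∃ j, e j = 1 := by
    by_contra hno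
    push Not at hno
    have : ∀ i, e i = 0 := fun i => (hconn _ (hidem i)).resolve_right (hno i)
    have h0 : (∑ i ∈ c.support, c i * P.coeff i) = 0 := Finset.sum_eq_zero (fun i _ => this i)
    rw [hc] at h0
    exact one_ne_zero h0
  obtain ⟨j, hj⟩ := hex
  refine ⟨j, IsUnit.of_mul_eq_one _ (by rw [mul_comm]; exact hj), ?_⟩
  intro i hij
  calc P.coeff i = P.coeff i * e j := by rw [hj, mul_one]
    _ = c j * (P.coeff i * P.coeff j) := by simp only [he]; ring
    _ = 0 := by rw [hprod i j hij, mul_zero]

variable (n : ℕ)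

/-- specialise the generic matrix to `diag(t, 1, …, 1)` -/
noncomputable def specAt {A B : Type*} [CommRing A] [CommRing B] (hn : 0 < n) (φ : A →+* B) (t : B) :
    MvPolynomial (Fin n × Fin n) A →+* B :=
  eval₂Hom φ (fun ij => if ij.1 = ij.2 then (if ij.1 = ⟨0, hn⟩ then t else 1) else 0)

variable {n}
variable {A B : Type*} [CommRing A] [CommRing B] (hn : 0 < n) (φ : A →+* B) (t : B)

@[simp] theorem specAt_C (a : A) : specAt n hn φ t (C a) = φ a := by
  simp [specAt]

@[simp] theorem specAt_X (ij : Fin n × Fin n) : specAt n hn φ t (X ij) =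
    if ij.1 = ij.2 then (if ij.1 = ⟨0, hn⟩ then t else 1) else 0 := by
  simp [specAt]

theorem specAt_D : specAt n hn φ t (D n A) = t := by
  unfold D
  rw [RingHom.map_det]
  have : (specAt n hn φ t).mapMatrix (Matrix.mvPolynomialX (Fin n) (Fin n) A) =
      Matrix.diagonal (fun i : Fin n => if i = ⟨0, hn⟩ then t else 1) := by
    ext i j
    simp only [RingHom.mapMatrix_apply, Matrix.map_apply, Matrix.mvPolynomialX_apply, specAt_X,
      Matrix.diagonal_apply]
  rw [this, Matrix.det_diagonal, Finset.prod_ite_eq' ]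
  simp

theorem specAt_comp {B' : Type*} [CommRing B'] (ψ : B →+* B') :
    ψ.comp (specAt n hn φ t) = specAt n hn (ψ.comp φ) (ψ t) := by
  apply MvPolynomial.ringHom_ext
  · intro a; simp
  · intro ij
    simp only [RingHom.comp_apply, specAt_X]
    split_ifs <;> simp

theorem specAt_map {A' : Type*} [CommRing A'] (χ : A' →+* A) :
    (specAt n hn φ t).comp (MvPolynomial.map χ) = specAt n hn (φ.comp χ) t := by
  apply MvPolynomial.ringHom_ext
  · intro a; simp
  · intro ij
    simp

theorem field_case (κ : Type u) [Field κ] (hn : 0 < n) (g h : MvPolynomial (Fin n × Fin n) κ) (N : ℕ)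
    (hgh : g * h = D n κ ^ N) : ∃ (j : ℕ) (c : κ), c ≠ 0 ∧ g = C c * D n κ ^ j := by
  have hirr : Irreducible (D n κ) := Groth.Agent.Lib.Helper22.GenDet.irreducible_gdet hn
  have hp : Prime (D n κ) := hirr.prime
  obtain ⟨j, -, hj⟩ := (dvd_prime_pow hp N).1 ⟨h, hgh.symm⟩
  obtain ⟨u, hu⟩ := hj.symm
  obtain ⟨r, hr, hur⟩ := (MvPolynomial.isUnit_iff_eq_C_of_isReduced (P := (u : MvPolynomial (Fin n × Fin n) κ))).1 u.isUnit
  refine ⟨j, r, hr.ne_zero, ?_⟩
  rw [← hu, hur, mul_comm]


theorem poly_level {A : Type u} [CommRing A] [IsReduced A] [Nontrivial A]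
    (hconn : ∀ e : A, IsIdempotentElem e → e = 0 ∨ e = 1) (hn : 0 < n)
    (g h : MvPolynomial (Fin n × Fin n) A) (N k : ℕ)
    (hgh : D n A ^ k * (g * h) = D n A ^ k * D n A ^ N) :
    ∃ (j : ℕ) (c : A), IsUnit c ∧ g = C c * D n A ^ j := by
  -- the situation over each residue field
  have key : ∀ (p : Ideal A) [p.IsPrime], ∃ (j : ℕ) (c : p.ResidueField), c ≠ 0 ∧
      MvPolynomial.map (algebraMap A p.ResidueField) g = C c * D n p.ResidueField ^ j := by
    intro p _
    have h1 := congrArg (MvPolynomial.map (algebraMap A p.ResidueField)) hgh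
    simp only [map_mul, map_pow, map_D] at h1
    have hD : D n p.ResidueField ≠ 0 := Matrix.det_mvPolynomialX_ne_zero (Fin n) p.ResidueField
    have h2 := mul_left_cancel₀ (pow_ne_zero k hD) h1
    exact field_case p.ResidueField hn _ _ N h2
  set P : Polynomial A := specAt n hn Polynomial.C Polynomial.X g with hP
  have hPmap : ∀ (p : Ideal A) [p.IsPrime] (j : ℕ) (c : p.ResidueField),
      MvPolynomial.map (algebraMap A p.ResidueField) g = C c * D n p.ResidueField ^ j →
      ∀ i, algebraMap A p.ResidueField (P.coeff i) = if i = j then c else 0 := by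
    intro p _ j c hg i
    have h1 : Polynomial.map (algebraMap A p.ResidueField) P =
        specAt n hn Polynomial.C Polynomial.X (MvPolynomial.map (algebraMap A p.ResidueField) g) := by
      have e1 := specAt_comp hn (Polynomial.C : A →+* Polynomial A) Polynomial.X
        (Polynomial.mapRingHom (algebraMap A p.ResidueField))
      have e2 := specAt_map hn (Polynomial.C : p.ResidueField →+* Polynomial p.ResidueField)
        Polynomial.X (algebraMap A p.ResidueField)
      have e3 : (Polynomial.mapRingHom (algebraMap A p.ResidueField)).comp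
          (Polynomial.C : A →+* Polynomial A) =
          (Polynomial.C : p.ResidueField →+* Polynomial p.ResidueField).comp
            (algebraMap A p.ResidueField) := by
        ext a; simp
      have e4 : (Polynomial.mapRingHom (algebraMap A p.ResidueField)).comp
          (specAt n hn Polynomial.C Polynomial.X) =
          (specAt n hn Polynomial.C Polynomial.X).comp
            (MvPolynomial.map (algebraMap A p.ResidueField)) := by
        rw [e1, e2, e3, Polynomial.coe_mapRingHom, Polynomial.map_X]
      have := congrArg (fun f => f g) e4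
      simpa using this
    rw [hg, map_mul, map_pow, specAt_D, specAt_C] at h1
    have h2 := congrArg (fun Q => Polynomial.coeff Q i) h1
    simp only [Polynomial.coeff_map, Polynomial.coeff_C_mul, Polynomial.coeff_X_pow] at h2
    rw [h2]
    split_ifs <;> simp
  have huniq : ∀ p : Ideal A, p.IsPrime → ∃! i, P.coeff i ∉ p := by
    intro p hp
    obtain ⟨j, c, hc, hg⟩ := key p
    have hco := hPmap p j c hg
    refine ⟨j, ?_, ?_⟩
    · show P.coeff j ∉ p
      rw [← Ideal.algebraMap_residueField_eq_zero, hco j, if_pos rfl]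
      exact hc
    · intro i hi
      by_contra hne
      apply hi
      rw [← Ideal.algebraMap_residueField_eq_zero, hco i, if_neg hne]
  obtain ⟨j0, hunit, hzero⟩ := monomial_of_unique_coeff hconn P huniq
  refine ⟨j0, P.coeff j0, hunit, ?_⟩
  rw [← sub_eq_zero]
  ext m
  rw [coeff_zero]
  apply IsReduced.eq_zero
  rw [nilpotent_iff_mem_prime]
  intro p hp
  obtain ⟨j, c, hc, hg⟩ := key p
  have hco := hPmap p j c hg
  have hj : j0 = j := by
    by_contra hne
    have h1 := hco j0
    rw [if_neg hne] at h1
    exact (hunit.map (algebraMap A p.ResidueField)).ne_zero h1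
  subst hj
  have hc0 : algebraMap A p.ResidueField (P.coeff j0) = c := by rw [hco j0, if_pos rfl]
  rw [← Ideal.algebraMap_residueField_eq_zero, ← MvPolynomial.coeff_map, map_sub, hg, map_mul,
    map_pow, map_D, MvPolynomial.map_C, hc0, sub_self, coeff_zero]

/-! ### The localisation -/

section Loc

variable (A : Type u) [CommRing A] (n)

/-- the coordinate ring of `GL_n` -/
abbrev GLR : Type u := Localization.Away (D n A)

/-- the unit `det` -/
noncomputable def detU : (GLR n A)ˣ :=
  (IsLocalization.Away.algebraMap_isUnit (S := GLR n A) (D n A)).unit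

/-- the map of the statement -/
noncomputable def Phi (p : Aˣ × ℤ) : (GLR n A)ˣ :=
  Units.map (algebraMap A (GLR n A)).toMonoidHom p.1 * detU n A ^ p.2

variable {A n}

theorem detU_val : ((detU n A : (GLR n A)ˣ) : GLR n A) = algebraMap _ (GLR n A) (D n A) := rfl

open LaurentPolynomial in
/-- the unit `T` of the Laurent polynomial ring -/
noncomputable def Tu : (LaurentPolynomial A)ˣ :=
  ⟨T 1, T (-1), by rw [← T_add]; simp, by rw [← T_add]; simp⟩

open LaurentPolynomial in
theorem Tu_zpow (e : ℤ) : ((Tu (A := A) ^ e : (LaurentPolynomial A)ˣ) : LaurentPolynomial A) = T e := by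
  induction e using Int.induction_on with
  | zero => simp
  | succ i ih =>
    rw [zpow_add_one, Units.val_mul, ih, T_add]; rfl
  | pred i ih =>
    rw [zpow_sub_one, Units.val_mul, ih, sub_eq_add_neg, T_add]; rfl

open LaurentPolynomial in
/-- evaluation at `diag(T, 1, …, 1)` -/
noncomputable def evL (hn : 0 < n) : GLR n A →+* LaurentPolynomial A :=
  IsLocalization.Away.lift (D n A) (g := specAt n hn (LaurentPolynomial.C : A →+* LaurentPolynomial A) (T 1))
    (by rw [specAt_D]; exact (Tu (A := A)).isUnit)

open LaurentPolynomial in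
theorem evL_algebraMap (hn : 0 < n) (f : MvPolynomial (Fin n × Fin n) A) :
    evL hn (algebraMap _ (GLR n A) f) = specAt n hn (LaurentPolynomial.C : A →+* LaurentPolynomial A) (T 1) f :=
  IsLocalization.Away.lift_eq _ _ _

open LaurentPolynomial in
theorem evL_algebraMap_base (hn : 0 < n) (a : A) :
    evL hn (algebraMap A (GLR n A) a) = LaurentPolynomial.C a := by
  rw [IsScalarTower.algebraMap_apply A (MvPolynomial (Fin n × Fin n) A) (GLR n A), evL_algebraMap,
    MvPolynomial.algebraMap_eq, specAt_C]

open LaurentPolynomial in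
theorem evL_Phi (hn : 0 < n) (p : Aˣ × ℤ) :
    evL hn ((Phi n A p : (GLR n A)ˣ) : GLR n A) = LaurentPolynomial.C (p.1 : A) * T p.2 := by
  have h1 : Units.map (evL (A := A) hn).toMonoidHom (detU n A) = Tu := by
    ext1
    show evL hn (algebraMap _ (GLR n A) (D n A)) = T 1
    rw [evL_algebraMap, specAt_D]
  have h2 : evL hn ((Phi n A p : (GLR n A)ˣ) : GLR n A) =
      ((Units.map (evL (A := A) hn).toMonoidHom (Phi n A p) : (LaurentPolynomial A)ˣ) :
        LaurentPolynomial A) := rfl
  rw [h2, Phi, map_mul, map_zpow, h1, Units.val_mul, Tu_zpow]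
  congr 1
  exact evL_algebraMap_base hn _

end Loc

section Main

variable {A : Type u} [CommRing A]

open LaurentPolynomial in
theorem coeff_C_mul_T (a : A) (e m : ℤ) :
    (LaurentPolynomial.C a * T e : LaurentPolynomial A).coeff m = if e = m then a else 0 := by
  rw [← LaurentPolynomial.single_eq_C_mul_T, AddMonoidAlgebra.coeff_single, Finsupp.single_apply]

theorem Phi_injective [Nontrivial A] (hn : 0 < n) : Function.Injective (Phi n A) := by
  intro p q hpq
  have h := congrArg (fun v : (GLR n A)ˣ => (evL hn (v : GLR n A)).coeff p.2) hpq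
  simp only [evL_Phi, coeff_C_mul_T, if_true] at h
  by_cases hq : q.2 = p.2
  · rw [if_pos hq] at h
    exact Prod.ext (Units.ext h) hq.symm
  · rw [if_neg hq] at h
    exact absurd h p.1.ne_zero

open LaurentPolynomial in
theorem reduced_of_surjective [Nontrivial A] (hn : 0 < n) (hs : Function.Surjective (Phi n A)) :
    IsReduced A := by
  rw [isReduced_iff_pow_one_lt 2 (by norm_num)]
  intro x hx
  set y : GLR n A := algebraMap _ (GLR n A)
    (MvPolynomial.C x * MvPolynomial.X ((⟨0, hn⟩ : Fin n), (⟨0, hn⟩ : Fin n))) with hy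
  have hyy : y * y = 0 := by
    rw [hy, ← map_mul]
    have : MvPolynomial.C x * MvPolynomial.X ((⟨0, hn⟩ : Fin n), (⟨0, hn⟩ : Fin n)) *
        (MvPolynomial.C x * MvPolynomial.X ((⟨0, hn⟩ : Fin n), (⟨0, hn⟩ : Fin n))) =
        (MvPolynomial.C (x ^ 2) * MvPolynomial.X ((⟨0, hn⟩ : Fin n), (⟨0, hn⟩ : Fin n)) ^ 2 :
          MvPolynomial (Fin n × Fin n) A) := by
      rw [map_pow]; ring
    rw [this, hx, map_zero, zero_mul, map_zero]
  let v : (GLR n A)ˣ := ⟨1 + y, 1 - y, by ring_nf; rw [pow_two, hyy, sub_zero],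
    by ring_nf; rw [pow_two, hyy, sub_zero]⟩
  obtain ⟨p, hp⟩ := hs v
  have h := congrArg (fun v : (GLR n A)ˣ => evL hn (v : GLR n A)) hp
  simp only [evL_Phi] at h
  have hv : evL hn ((v : (GLR n A)ˣ) : GLR n A) =
      LaurentPolynomial.C (1 : A) * T 0 + LaurentPolynomial.C x * T 1 := by
    show evL hn (1 + y) = _
    rw [map_add, map_one, hy, evL_algebraMap, map_mul, specAt_C, specAt_X]
    simp
  rw [hv] at h
  have h0 := congrArg (fun f : LaurentPolynomial A => f.coeff 0) h
  have h1 := congrArg (fun f : LaurentPolynomial A => f.coeff 1) h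
  simp only [AddMonoidAlgebra.coeff_add, Finsupp.add_apply, coeff_C_mul_T] at h0 h1
  by_cases he : p.2 = 0
  · simp [he] at h1
    exact h1.symm
  · simp [he] at h0

theorem surjective_of_reduced [Nontrivial A] [IsReduced A]
    (hconn : ∀ e : A, IsIdempotentElem e → e = 0 ∨ e = 1) (hn : 0 < n) :
    Function.Surjective (Phi n A) := by
  intro v
  obtain ⟨m, g, hg⟩ := IsLocalization.Away.surj (D n A) (v : GLR n A)
  obtain ⟨l, h, hh⟩ := IsLocalization.Away.surj (D n A) ((v⁻¹ : (GLR n A)ˣ) : GLR n A)
  have h1 : algebraMap _ (GLR n A) (g * h) = algebraMap _ (GLR n A) (D n A ^ (m + l)) := by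
    rw [map_mul, ← hg, ← hh, map_pow, pow_add]
    calc (v : GLR n A) * algebraMap _ (GLR n A) (D n A) ^ m *
          (((v⁻¹ : (GLR n A)ˣ) : GLR n A) * algebraMap _ (GLR n A) (D n A) ^ l)
        = ((v : GLR n A) * ((v⁻¹ : (GLR n A)ˣ) : GLR n A)) *
          (algebraMap _ (GLR n A) (D n A) ^ m * algebraMap _ (GLR n A) (D n A) ^ l) := by ring
      _ = _ := by rw [Units.mul_inv, one_mul]
  rw [IsLocalization.eq_iff_exists (Submonoid.powers (D n A)) (GLR n A)] at h1
  obtain ⟨⟨_, k, rfl⟩, hk⟩ := h1
  obtain ⟨j, c, hc, hgc⟩ := poly_level hconn hn g h (m + l) k hk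
  refine ⟨(hc.unit, (j : ℤ) - m), ?_⟩
  have hv : v * detU n A ^ m = Units.map (algebraMap A (GLR n A)).toMonoidHom hc.unit *
      detU n A ^ j := by
    ext1
    rw [Units.val_mul, Units.val_pow_eq_pow_val, detU_val, hg, hgc, map_mul, map_pow,
      Units.val_mul, Units.val_pow_eq_pow_val, detU_val]
    congr 1
  rw [Phi, zpow_sub, zpow_natCast, zpow_natCast, ← mul_assoc, ← hv, mul_inv_cancel_right]

end Main

end Groth.Agent.Lib.Helper14.GLUnits
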