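import Mathlib
import Groth.Agent.Lib.Helper14GalPrimes

/-! Helper14: primes of `Frac(B) ⊗[K] L` (`B` a f.t. `K`-domain, `L/K` algebraic) are finite in
number; for `L/K` normal the automorphism group permutes them transitively. -/

set_option autoImplicit false
universe u
open TensorProduct

namespace Groth.Agent.Lib.Helper14.GalPrimes

section Fin

variable (K B L : Type u) [Field K] [CommRing B] [IsDomain B] [Algebra K B]
  [Algebra.FiniteType K B] [Field L] [Algebra K L] [Algebra.IsAlgebraic K L]

attribute [local instance] Algebra.TensorProduct.rightAlgebra in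
theorem finite_primeSpectrum_fractionRing_tensor :
    Finite (PrimeSpectrum (FractionRing B ⊗[K] L)) := by
  haveI : Algebra.IsIntegral K L := inferInstance
  haveI hN0 : IsNoetherianRing (L ⊗[K] B) := Algebra.FiniteType.isNoetherianRing L (L ⊗[K] B)
  haveI hN : IsNoetherianRing (B ⊗[K] L) :=
    isNoetherianRing_of_ringEquiv (L ⊗[K] B) (Algebra.TensorProduct.comm K L B).toRingEquiv
  haveI : Algebra.IsIntegral B (B ⊗[K] L) := inferInstance
  haveI hloc : IsLocalization (Algebra.algebraMapSubmonoid (B ⊗[K] L) (nonZeroDivisors B))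
      (FractionRing B ⊗[B] (B ⊗[K] L)) := IsLocalization.tensorRight _ (nonZeroDivisors B)
  let e := Algebra.TensorProduct.cancelBaseChange K B B (FractionRing B) L
  have hfin : (minimalPrimes (B ⊗[K] L)).Finite := minimalPrimes.finite_of_isNoetherianRing _
  let g : PrimeSpectrum (FractionRing B ⊗[K] L) → PrimeSpectrum (B ⊗[K] L) := fun P =>
    PrimeSpectrum.comap (algebraMap (B ⊗[K] L) (FractionRing B ⊗[B] (B ⊗[K] L)))
      (PrimeSpectrum.comap e.toAlgHom.toRingHom P)
  have hg_inj : Function.Injective g := by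
    intro P Q hPQ
    have h1 := PrimeSpectrum.localization_comap_injective (FractionRing B ⊗[B] (B ⊗[K] L))
      (Algebra.algebraMapSubmonoid (B ⊗[K] L) (nonZeroDivisors B)) hPQ
    exact PrimeSpectrum.comap_injective_of_surjective _ e.surjective h1
  have hg_min : ∀ P, (g P).asIdeal ∈ minimalPrimes (B ⊗[K] L) := by
    intro P
    have hd : Disjoint ((Algebra.algebraMapSubmonoid (B ⊗[K] L) (nonZeroDivisors B) :
        Submonoid (B ⊗[K] L)) : Set (B ⊗[K] L)) (g P).asIdeal := by
      have := PrimeSpectrum.localization_comap_range (FractionRing B ⊗[B] (B ⊗[K] L))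
        (Algebra.algebraMapSubmonoid (B ⊗[K] L) (nonZeroDivisors B))
      have hmem : g P ∈ Set.range (PrimeSpectrum.comap
          (algebraMap (B ⊗[K] L) (FractionRing B ⊗[B] (B ⊗[K] L)))) := ⟨_, rfl⟩
      rw [this] at hmem
      exact hmem
    have hbot : (g P).asIdeal.comap (algebraMap B (B ⊗[K] L)) = ⊥ := by
      rw [eq_bot_iff]
      intro b hb
      by_contra hb0
      have hbM : b ∈ nonZeroDivisors B := mem_nonZeroDivisors_of_ne_zero hb0
      exact Set.disjoint_left.mp hd (Algebra.mem_algebraMapSubmonoid_of_mem ⟨b, hbM⟩) hb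
    refine ⟨⟨(g P).2, bot_le⟩, ?_⟩
    rintro Q' ⟨hQ', -⟩ hle
    by_contra hne
    have hlt : Q' < (g P).asIdeal := lt_of_le_of_ne hle (fun h => hne (h ▸ le_rfl))
    have := Ideal.IsIntegral.comap_lt_comap (R := B) hlt
    rw [hbot] at this
    exact not_lt_bot this
  haveI := hfin.to_subtype
  exact Finite.of_injective (fun P => (⟨(g P).asIdeal, hg_min P⟩ : minimalPrimes (B ⊗[K] L)))
    (fun P Q h => hg_inj (PrimeSpectrum.ext (Subtype.ext_iff.mp h)))

end Fin

section Trans

variable (K F L : Type u) [Field K] [Field F] [Algebra K F] [Field L] [Algebra K L]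
  [Algebra.IsAlgebraic K L] [Normal K L]

theorem exists_algEquiv_comap_eq' (P Q : Ideal (F ⊗[K] L)) [P.IsPrime] [Q.IsPrime] :
    ∃ γ : L ≃ₐ[K] L,
      Q = P.comap (Algebra.TensorProduct.map (AlgHom.id K F) (γ : L →ₐ[K] L)) := by
  let c := Algebra.TensorProduct.comm K F L
  obtain ⟨σ, hσ⟩ := exists_algEquiv_comap_eq (k := K) (E := L) (K := F)
    (P.comap c.symm.toAlgHom) (Q.comap c.symm.toAlgHom)
  refine ⟨σ, ?_⟩
  have hc : (Algebra.TensorProduct.map (AlgHom.id K F) (σ : L →ₐ[K] L)) =
      (c.symm.toAlgHom.comp (Algebra.TensorProduct.map (σ : L →ₐ[K] L) (AlgHom.id K F))).comp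
        c.toAlgHom := by
    apply Algebra.TensorProduct.ext'
    intro a b
    simp [c]
  have h1 : Q = (Q.comap c.symm.toAlgHom).comap c.toAlgHom := by
    ext x
    simp [Ideal.mem_comap]
  rw [h1, hσ, hc]
  ext x
  simp [Ideal.mem_comap]

end Trans

end Groth.Agent.Lib.Helper14.GalPrimes
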