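import Mathlib
import Groth.Prelude.Def_PolLaw
import Groth.Prelude.Def_PolLaw2
import Groth.Agent.Lib.Helper14PolLawCH4

/-!
# The characteristic polynomial of a multiplicative law over any test ring is monic of degree `d` (helper14)

`charpoly_coeff`, `mcharpoly`, `mcharpoly_monic`, `mcharpoly_natDegree_le`, `aeval_mcharpoly_mem_ext`.
-/

set_option autoImplicit false
universe u
open TensorProduct

namespace Groth.Agent.Lib.Helper14.PolLawCH7

open Groth.Agent.Lib.Helper14.PolLawDiag
open Groth.Agent.Lib.Helper14.PolLawCH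
open Groth.Agent.Lib.Helper14.PolLawCH2
open Groth.Agent.Lib.Helper14.PolLawCH3
open Groth.Agent.Lib.Helper14.PolLawCH4
open Groth.Agent.Lib.Helper14.PolLawRoby
open Groth.Agent.Lib.Helper14.PolLawPoly (map_map_apply map_ker_le_kerBC)
open Groth.Agent.Lib.Helper14.PolLawRed (toFun'_map rTensor_eq_map exists_lift₂)

section coeffs
variable {A : Type u} [CommRing A] {S : Type u} [CommRing S] [Algebra A S]
  {T : Type u} [CommRing T] [Algebra A T]

/-- coefficient functional on `S[X] ⊗ T` -/
noncomputable def LcS (k : ℕ) : Polynomial S ⊗[A] T →ₗ[A] S ⊗[A] T :=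
  ((Polynomial.lcoeff S k).restrictScalars A).rTensor T

lemma LcS_mul_inc (k : ℕ) (y : Polynomial S ⊗[A] T) (c : S ⊗[A] T) :
    LcS k (y * inc A S (Polynomial S) T c) = LcS k y * c := by
  induction y using TensorProduct.induction_on with
  | zero => simp
  | add x y hx hy => simp only [add_mul, map_add, hx, hy]
  | tmul p t =>
    induction c using TensorProduct.induction_on with
    | zero => simp
    | add x y hx hy => simp only [mul_add, map_add, hx, hy]
    | tmul s t' =>
      simp [LcS, inc, Algebra.TensorProduct.tmul_mul_tmul, Polynomial.coeff_mul_C]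

lemma LcS_succ_mul_X (k : ℕ) (y : Polynomial S ⊗[A] T) :
    LcS (k + 1) (y * ((Polynomial.X : Polynomial S) ⊗ₜ[A] (1 : T))) = LcS k y := by
  induction y using TensorProduct.induction_on with
  | zero => simp
  | tmul p t => simp [LcS, Algebra.TensorProduct.tmul_mul_tmul]
  | add x y hx hy => simp only [add_mul, map_add, hx, hy]

lemma LcS_zero_mul_X (y : Polynomial S ⊗[A] T) :
    LcS 0 (y * ((Polynomial.X : Polynomial S) ⊗ₜ[A] (1 : T))) = 0 := by
  induction y using TensorProduct.induction_on with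
  | zero => simp
  | tmul p t => simp [LcS, Algebra.TensorProduct.tmul_mul_tmul]
  | add x y hx hy => simp only [add_mul, map_add, hx, hy, add_zero]

lemma LcS_prod {ι : Type*} (s : Finset ι) (c : ι → S ⊗[A] T) :
    (∀ k, s.card < k → LcS k (∏ i ∈ s, (inc A S (Polynomial S) T (c i) -
        (Polynomial.X : Polynomial S) ⊗ₜ[A] (1 : T))) = 0) ∧
      LcS s.card (∏ i ∈ s, (inc A S (Polynomial S) T (c i) -
        (Polynomial.X : Polynomial S) ⊗ₜ[A] (1 : T))) = (-1) ^ s.card := by
  classical
  induction s using Finset.induction_on with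
  | empty =>
    refine ⟨fun k hk => ?_, ?_⟩
    · obtain ⟨k, rfl⟩ := Nat.exists_eq_succ_of_ne_zero (Nat.pos_iff_ne_zero.mp hk)
      simp [LcS, Algebra.TensorProduct.one_def, Polynomial.coeff_one]
    · simp [LcS, Algebra.TensorProduct.one_def]
  | insert j s hj ih =>
    rw [Finset.prod_insert hj, Finset.card_insert_of_notMem hj, mul_comm]
    refine ⟨fun k hk => ?_, ?_⟩
    · obtain ⟨k, rfl⟩ := Nat.exists_eq_succ_of_ne_zero (by omega : k ≠ 0)
      rw [mul_sub, map_sub, LcS_mul_inc, LcS_succ_mul_X, ih.1 (k + 1) (by omega),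
        ih.1 k (by omega)]
      simp
    · rw [mul_sub, map_sub, LcS_mul_inc, LcS_succ_mul_X, ih.1 (s.card + 1) (by omega), ih.2]
      rw [zero_mul, zero_sub]
      ring

end coeffs

section charpoly
variable {A : Type u} [CommRing A] {B C : Type u} [CommRing B] [Algebra A B] [CommRing C]
  [Algebra A C] {d : ℕ}

lemma charpoly_coeff_of_factors (ι : Fin d → (B →ₐ[A] C)) (G : PolLaw.MulLaw A B A d)
    (Φ : C →ₗ[A] A)
    (hΦ : Factors (PolLaw.MulLaw.prodMap ι d (Fintype.card_fin d)).law G.law Φ)
    (S : Type u) [CommRing S] [Algebra A S] (z : S ⊗[A] B) :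
    (∀ k, d < k → (charpoly G.law S z).coeff k = 0) ∧ (charpoly G.law S z).coeff d = (-1) ^ d := by
  set y : Polynomial S ⊗[A] C := ∏ i : Fin d,
    (inc A S (Polynomial S) C (Algebra.TensorProduct.map (AlgHom.id S S) (ι i) z) -
      (Polynomial.X : Polynomial S) ⊗ₜ[A] (1 : C)) with hy
  have h1 : charpoly G.law S z = phiBar Φ (Polynomial S) y := by
    rw [charpoly, hΦ, PolLaw.MulLaw.prodMap_toFun', hy]
    congr 1
    refine Finset.prod_congr rfl (fun i _ => ?_)
    rw [map_sub, map_id_inc]
    simp only [Algebra.TensorProduct.map_tmul, map_one, AlgHom.id_apply]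
  have h2 : ∀ k, (charpoly G.law S z).coeff k = phiBar Φ S (LcS k y) := by
    intro k
    rw [h1, LcS, phiBar_rTensor]
    rfl
  have h3 := LcS_prod (A := A) (S := S) (Finset.univ : Finset (Fin d))
    (fun i => Algebra.TensorProduct.map (AlgHom.id S S) (ι i) z)
  rw [Finset.card_univ, Fintype.card_fin] at h3
  refine ⟨fun k hk => ?_, ?_⟩
  · rw [h2, hy, h3.1 k hk, map_zero]
  · rw [h2, hy, h3.2]
    have : ((-1 : S ⊗[A] C)) ^ d = algebraMap S (S ⊗[A] C) ((-1) ^ d) := by
      rw [map_pow, map_neg, map_one]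
    rw [this, Algebra.algebraMap_eq_smul_one, map_smul,
      phiBar_one (PolLaw.MulLaw.prodMap ι d (Fintype.card_fin d)).mult G.mult hΦ,
      smul_eq_mul, mul_one]

theorem charpoly_coeff (F : PolLaw.MulLaw A B A d) (S : Type u) [CommRing S] [Algebra A S]
    (z : S ⊗[A] B) :
    (∀ k, d < k → (charpoly F.law S z).coeff k = 0) ∧ (charpoly F.law S z).coeff d = (-1) ^ d := by
  set π : MvPolynomial B A →ₐ[A] B := MvPolynomial.aeval id with hπ
  have hπs : Function.Surjective π := fun b => ⟨MvPolynomial.X b, by simp [hπ]⟩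
  have hs : Function.Surjective (Algebra.TensorProduct.map (AlgHom.id S S) π) := by
    have := LinearMap.lTensor_surjective S (g := π.toLinearMap) hπs
    intro y
    obtain ⟨y', hy'⟩ := this y
    exact ⟨y', by rw [← hy', PolLaw.lTensor_algHom_apply]⟩
  obtain ⟨z', rfl⟩ := hs z
  obtain ⟨Φ, hΦ⟩ := exists_factors (F.precomp π).law (F.precomp π).homog
  have := charpoly_coeff_of_factors (emb A B d) (F.precomp π) Φ hΦ S z'
  rwa [charpoly_precomp] at this

/-- the monic characteristic polynomial of `z : S ⊗ B` -/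
noncomputable def mcharpoly (F : PolLaw.MulLaw A B A d) (S : Type u) [CommRing S] [Algebra A S]
    (z : S ⊗[A] B) : Polynomial S :=
  Polynomial.C ((-1) ^ d) * charpoly F.law S z

lemma mcharpoly_monic (F : PolLaw.MulLaw A B A d) (S : Type u) [CommRing S] [Algebra A S]
    (z : S ⊗[A] B) : (mcharpoly F S z).Monic := by
  have h := charpoly_coeff F S z
  apply Polynomial.monic_of_natDegree_le_of_coeff_eq_one d
  · rw [Polynomial.natDegree_le_iff_coeff_eq_zero]
    intro k hk
    rw [mcharpoly, Polynomial.coeff_C_mul, h.1 k hk, mul_zero]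
  · rw [mcharpoly, Polynomial.coeff_C_mul, h.2, ← mul_pow]
    simp

lemma mcharpoly_natDegree_le (F : PolLaw.MulLaw A B A d) (S : Type u) [CommRing S] [Algebra A S]
    (z : S ⊗[A] B) : (mcharpoly F S z).natDegree ≤ d := by
  have h := charpoly_coeff F S z
  rw [Polynomial.natDegree_le_iff_coeff_eq_zero]
  intro k hk
  rw [mcharpoly, Polynomial.coeff_C_mul, h.1 k hk, mul_zero]

lemma aeval_mcharpoly_mem_ext (F : PolLaw.MulLaw A B A d) (S : Type u) [CommRing S] [Algebra A S]
    (z : S ⊗[A] B) :
    Polynomial.aeval z (mcharpoly F S z) ∈ PolLawMvKer.ext (PolLaw.ker F.law) S := by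
  rw [mcharpoly, map_mul]
  exact Ideal.mul_mem_left _ _ (aeval_charpoly_mem_ext F S z)

end charpoly

end Groth.Agent.Lib.Helper14.PolLawCH7
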