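import Mathlib
import Groth.Prelude.Def_PolLaw
import Groth.Agent.Lib.Helper14GammaFin
import Groth.Agent.Lib.Helper14PolLawCH7

/-!
# Iversen's map `Γ^{e+1}(B) ⊗ B → Γ^e(B) ⊗ B` is surjective (helper14)

`InR` (membership in the image of `S ⊗ R`), `F1`/`F2`/`F3` (the values `γ_e(x) ⊗ 1` lie in the
range of `ω`, by induction on the coefficients of `γ_e(1 + T (x - 1))`), `surjective_omega`.
-/

set_option autoImplicit false
universe u
open TensorProduct

namespace Groth.Agent.Lib.Helper14.GammaOmega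

open Groth.Agent.Lib.Helper14.PolLawExt
open Groth.Agent.Lib.Helper14.GammaGen
open Groth.Agent.Lib.Helper14.GammaFin
open Groth.Agent.Lib.Helper14.PolLawDiag (inc map_inc)
open Groth.Agent.Lib.Helper14.PolLawCH7 (LcS LcS_mul_inc LcS_succ_mul_X LcS_zero_mul_X)
open Groth.Agent.Lib.Helper14.PolLawRed (toFun'_map rTensor_eq_map exists_lift₂)

section generic
variable {A : Type u} [CommRing A] {E : Type u} [CommRing E] [Algebra A E] (R : Subalgebra A E)

/-- the image of `S ⊗ R` in `S ⊗ E` -/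
def InR (S : Type u) [CommSemiring S] [Algebra A S] (y : S ⊗[A] E) : Prop :=
  y ∈ LinearMap.range (R.val.toLinearMap.lTensor S)

variable {R}

lemma InR.mul {S : Type u} [CommSemiring S] [Algebra A S] {y₁ y₂ : S ⊗[A] E} (h₁ : InR R S y₁)
    (h₂ : InR R S y₂) : InR R S (y₁ * y₂) := by
  obtain ⟨z₁, rfl⟩ := h₁
  obtain ⟨z₂, rfl⟩ := h₂
  refine ⟨z₁ * z₂, ?_⟩
  rw [PolLaw.lTensor_algHom_apply, PolLaw.lTensor_algHom_apply, PolLaw.lTensor_algHom_apply,
    map_mul]

lemma InR.add {S : Type u} [CommSemiring S] [Algebra A S] {y₁ y₂ : S ⊗[A] E} (h₁ : InR R S y₁)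
    (h₂ : InR R S y₂) : InR R S (y₁ + y₂) := Submodule.add_mem _ h₁ h₂

lemma InR.sub {S : Type u} [CommRing S] [Algebra A S] {y₁ y₂ : S ⊗[A] E} (h₁ : InR R S y₁)
    (h₂ : InR R S y₂) : InR R S (y₁ - y₂) := Submodule.sub_mem _ h₁ h₂

lemma InR.sum {S : Type u} [CommSemiring S] [Algebra A S] {ι : Type*} (s : Finset ι)
    (y : ι → S ⊗[A] E) (h : ∀ i ∈ s, InR R S (y i)) : InR R S (∑ i ∈ s, y i) :=
  Submodule.sum_mem _ h

lemma coeff_mem_of_inR {S : Type u} [CommSemiring S] [Algebra A S] {κ : Type*} [DecidableEq κ]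
    (ℬ : Module.Basis κ A S) {y : S ⊗[A] E} (hy : InR R S y) (k : κ) :
    TensorProduct.equivFinsuppOfBasisLeft ℬ y k ∈ R := by
  obtain ⟨z, rfl⟩ := hy
  induction z using TensorProduct.induction_on with
  | zero => simp
  | tmul s n =>
    rw [LinearMap.lTensor_tmul, TensorProduct.equivFinsuppOfBasisLeft_apply_tmul_apply]
    exact R.smul_mem n.2 _
  | add x y hx hy =>
    rw [map_add, map_add, Finsupp.add_apply]
    exact R.add_mem hx hy

lemma mem_of_one_tmul_inR {c : E} (h : InR R A ((1 : A) ⊗ₜ[A] c)) : c ∈ R := by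
  have h3 := coeff_mem_of_inR (Module.Basis.singleton Unit A) h ()
  rw [TensorProduct.equivFinsuppOfBasisLeft_apply_tmul_apply] at h3
  simpa using h3

lemma LcS_inR {P : Type u} [CommRing P] [Algebra A P] (k : ℕ) {y : Polynomial P ⊗[A] E}
    (hy : InR R (Polynomial P) y) : InR R P (LcS k y) := by
  obtain ⟨w, rfl⟩ := hy
  refine ⟨((Polynomial.lcoeff P k).restrictScalars A).rTensor R w, ?_⟩
  rw [LcS, ← LinearMap.comp_apply, ← LinearMap.comp_apply, LinearMap.lTensor_comp_rTensor,
    LinearMap.rTensor_comp_lTensor]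

/-- evaluation at `T = 1` is the sum of the coefficients -/
lemma exists_sum_LcS {P : Type u} [CommRing P] [Algebra A P] (G : Polynomial P ⊗[A] E) :
    ∃ N : ℕ, ∀ N', N ≤ N' →
      ((Polynomial.aeval (1 : P) : Polynomial P →ₐ[P] P).restrictScalars A).toLinearMap.rTensor E G =
        ∑ k ∈ Finset.range N', LcS k G := by
  induction G using TensorProduct.induction_on with
  | zero => exact ⟨0, fun N' _ => by simp⟩
  | tmul q c =>
    refine ⟨q.natDegree + 1, fun N' hN' => ?_⟩
    simp only [LcS, LinearMap.rTensor_tmul, AlgHom.toLinearMap_apply, AlgHom.restrictScalars_apply,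
      LinearMap.restrictScalars_apply, Polynomial.lcoeff_apply, ← TensorProduct.sum_tmul]
    congr 1
    rw [Polynomial.coe_aeval_eq_eval, Polynomial.eval_eq_sum_range' (Nat.lt_of_succ_le hN')]
    simp
  | add x y hx hy =>
    obtain ⟨N₁, h₁⟩ := hx
    obtain ⟨N₂, h₂⟩ := hy
    refine ⟨max N₁ N₂, fun N' hN' => ?_⟩
    rw [map_add, h₁ N' (le_trans (le_max_left _ _) hN'), h₂ N' (le_trans (le_max_right _ _) hN'),
      ← Finset.sum_add_distrib]
    simp only [map_add]

end generic

section omega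
variable {A B Cd Ce : Type u} [CommRing A] [CommRing B] [Algebra A B] [CommRing Cd] [Algebra A Cd]
  [CommRing Ce] [Algebra A Ce] {e : ℕ} (γd : PolLaw.MulLaw A B Cd (e + 1))
  (γe : PolLaw.MulLaw A B Ce e) (ω : Cd ⊗[A] B →ₐ[A] Ce ⊗[A] B)

/-- the hypothesis on `ω` -/
def OmegaHyp : Prop :=
  ∀ (S : Type u) [CommSemiring S] [Algebra A S] (x y : S ⊗[A] B),
    ω.toLinearMap.lTensor S
      ((Algebra.TensorProduct.includeLeft : Cd →ₐ[A] Cd ⊗[A] B).toLinearMap.lTensor S
          (γd.law.toFun' S x) *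
        (Algebra.TensorProduct.includeRight : B →ₐ[A] Cd ⊗[A] B).toLinearMap.lTensor S y) =
    (Algebra.TensorProduct.includeLeft : Ce →ₐ[A] Ce ⊗[A] B).toLinearMap.lTensor S
        (γe.law.toFun' S x) *
      (Algebra.TensorProduct.includeRight : B →ₐ[A] Ce ⊗[A] B).toLinearMap.lTensor S (x * y)

variable {γd γe ω}

local notation "il" => (Algebra.TensorProduct.includeLeft : Ce →ₐ[A] Ce ⊗[A] B)
local notation "ir" => (Algebra.TensorProduct.includeRight : B →ₐ[A] Ce ⊗[A] B)

lemma F1 (hω : OmegaHyp γd γe ω) (S : Type u) [CommSemiring S] [Algebra A S] (x y : S ⊗[A] B) :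
    InR ω.range S ((il).toLinearMap.lTensor S (γe.law.toFun' S x) *
      (ir).toLinearMap.lTensor S (x * y)) := by
  rw [← hω S x y]
  have h3 : ω.toLinearMap = ω.range.val.toLinearMap ∘ₗ ω.rangeRestrict.toLinearMap := by
    ext c
    rfl
  rw [h3, LinearMap.lTensor_comp, LinearMap.comp_apply]
  exact ⟨_, rfl⟩

lemma F2 (hω : OmegaHyp γd γe ω) (S : Type u) [CommSemiring S] [Algebra A S] (z : S ⊗[A] B) :
    InR ω.range S ((ir).toLinearMap.lTensor S z) := by
  have := F1 hω S 1 z
  rw [(γe.mult S).1, one_mul, PolLaw.lTensor_algHom_apply, map_one, one_mul] at this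
  exact this

lemma F3 (hω : OmegaHyp γd γe ω) (P : Type u) [CommRing P] [Algebra A P] (x : P ⊗[A] B) :
    InR ω.range P ((il).toLinearMap.lTensor P (γe.law.toFun' P x)) := by
  set Q := Polynomial P
  set x₀ := x - 1 with hx₀
  set T : Q ⊗[A] B := (Polynomial.X : Q) ⊗ₜ[A] (1 : B) with hT
  set ξ : Q ⊗[A] B := 1 + T * inc A P Q B x₀ with hξ
  set G := (il).toLinearMap.lTensor Q (γe.law.toFun' Q ξ) with hG
  set z := (ir).toLinearMap.lTensor P x₀ with hz
  have hΞ : (ir).toLinearMap.lTensor Q ξ =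
      1 + ((Polynomial.X : Q) ⊗ₜ[A] (1 : Ce ⊗[A] B)) * inc A P Q (Ce ⊗[A] B) z := by
    rw [hξ, PolLaw.lTensor_algHom_apply, map_add, map_one, map_mul, hT,
      Algebra.TensorProduct.map_tmul, map_one, ← PolLaw.lTensor_algHom_apply, hz]
    congr 2
    rw [inc, inc, ← rTensor_eq_map, ← rTensor_eq_map, lTensor_rTensor]
  have hGΞ : InR ω.range Q (G * (1 + ((Polynomial.X : Q) ⊗ₜ[A] (1 : Ce ⊗[A] B)) *
      inc A P Q (Ce ⊗[A] B) z)) := by
    have := F1 hω Q ξ 1
    rw [mul_one, hΞ] at this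
    exact this
  have hz' : InR ω.range P z := F2 hω P x₀
  have hexp : ∀ k, LcS k (G * (1 + ((Polynomial.X : Q) ⊗ₜ[A] (1 : Ce ⊗[A] B)) *
      inc A P Q (Ce ⊗[A] B) z)) =
      LcS k G + LcS k (G * ((Polynomial.X : Q) ⊗ₜ[A] (1 : Ce ⊗[A] B))) * z := by
    intro k
    rw [mul_add, mul_one, map_add, ← mul_assoc, LcS_mul_inc]
  have hg : ∀ k, InR ω.range P (LcS k G) := by
    intro k
    induction k with
    | zero =>
      have := LcS_inR 0 hGΞ
      rw [hexp, LcS_zero_mul_X, zero_mul, add_zero] at this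
      exact this
    | succ k ih =>
      have := LcS_inR (k + 1) hGΞ
      rw [hexp, LcS_succ_mul_X] at this
      have h2 := this.sub (ih.mul hz')
      rwa [add_sub_cancel_right] at h2
  obtain ⟨N, hN⟩ := exists_sum_LcS G
  have hsum := hN N le_rfl
  set ev₁ : Q →ₐ[A] P := (Polynomial.aeval (1 : P) : Polynomial P →ₐ[P] P).restrictScalars A
    with hev₁
  have h1 : ev₁.toLinearMap.rTensor (Ce ⊗[A] B) G =
      (il).toLinearMap.lTensor P (γe.law.toFun' P x) := by
    rw [hG, ← lTensor_rTensor, PolynomialLaw.isCompat_apply']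
    congr 2
    rw [hξ, rTensor_eq_map, map_add, map_one, map_mul, hev₁, map_inc, hT,
      Algebra.TensorProduct.map_tmul, map_one]
    simp only [AlgHom.restrictScalars_apply]
    rw [Polynomial.aeval_X, ← Algebra.TensorProduct.one_def, one_mul, hx₀, add_sub_cancel]
  rw [← h1, hsum]
  exact InR.sum _ _ (fun k _ => hg k)

lemma equiv_lTensor {S : Type u} [CommSemiring S] [Algebra A S] {κ : Type*} [DecidableEq κ]
    (ℬ : Module.Basis κ A S) {N N' : Type u} [AddCommGroup N] [Module A N] [AddCommGroup N']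
    [Module A N'] (f : N →ₗ[A] N') (y : S ⊗[A] N) (k : κ) :
    TensorProduct.equivFinsuppOfBasisLeft ℬ (f.lTensor S y) k =
      f (TensorProduct.equivFinsuppOfBasisLeft ℬ y k) := by
  induction y using TensorProduct.induction_on with
  | zero => simp
  | tmul s n =>
    rw [LinearMap.lTensor_tmul, TensorProduct.equivFinsuppOfBasisLeft_apply_tmul_apply,
      TensorProduct.equivFinsuppOfBasisLeft_apply_tmul_apply, map_smul]
  | add x y hx hy =>
    rw [map_add, map_add, Finsupp.add_apply, hx, hy, map_add, Finsupp.add_apply, map_add]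

theorem surjective_omega (hγe : PolLaw.IsGammaD γe) (hω : OmegaHyp γd γe ω) :
    Function.Surjective ω := by
  set R := ω.range with hR
  set C₁ : Subalgebra A Ce := R.comap (il) with hC₁
  have hH : Hyp γe.law C₁.val.toLinearMap := by
    intro n x
    refine range_mono (Subalgebra.toSubmodule C₁) C₁ le_rfl _ ?_
    apply mem_range_of_coeff_mem (MvPolynomial.basisMonomials (Fin n) A)
    intro μ
    show (il) (TensorProduct.equivFinsuppOfBasisLeft (MvPolynomial.basisMonomials (Fin n) A)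
      (γe.law.toFun' (P A n) x) μ) ∈ R
    have h1 := equiv_lTensor (MvPolynomial.basisMonomials (Fin n) A) (il).toLinearMap
      (γe.law.toFun' (P A n) x) μ
    rw [AlgHom.toLinearMap_apply] at h1
    rw [← h1]
    exact coeff_mem_of_inR _ (F3 hω (P A n) x) μ
  have htop := subalgebra_eq_top γe hγe C₁ hH
  have hl : ∀ c : Ce, (il) c ∈ R := by
    intro c
    have : c ∈ C₁ := by
      rw [htop]
      exact Algebra.mem_top
    exact this
  have hr : ∀ b : B, (ir) b ∈ R := by
    intro b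
    apply mem_of_one_tmul_inR
    have := F2 hω A ((1 : A) ⊗ₜ[A] b)
    rw [LinearMap.lTensor_tmul] at this
    exact this
  have hRtop : R = ⊤ := by
    rw [eq_top_iff]
    intro y _
    induction y using TensorProduct.induction_on with
    | zero => exact R.zero_mem
    | tmul c b =>
      have : c ⊗ₜ[A] b = (il) c * (ir) b := by
        simp [Algebra.TensorProduct.tmul_mul_tmul]
      rw [this]
      exact R.mul_mem (hl c) (hr b)
    | add x y hx hy => exact R.add_mem (hx Algebra.mem_top) (hy Algebra.mem_top)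
  exact (AlgHom.range_eq_top ω).mp hRtop

end omega

end Groth.Agent.Lib.Helper14.GammaOmega
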