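/-
Helper library (helper14): descent of a polynomial law along a surjective linear map
(`descend`, `descend_apply`), and criteria for the invariance hypothesis (`inv_of_ring`,
`inv_ring_of_gen`).
-/
import Mathlib
import Groth.Prelude.Def_PolLaw

set_option autoImplicit false
universe u
open TensorProduct

namespace Groth.Agent.Lib.Helper14.LawDescent

section generic
variable {A : Type u} [CommRing A] {M' M N : Type u} [AddCommGroup M'] [Module A M']
  [AddCommGroup M] [Module A M] [AddCommGroup N] [Module A N]

/-- the invariance hypothesis: `L` is constant on the fibres of `S ⊗ q` -/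
def Inv (q : M' →ₗ[A] M) (L : M' →ₚₗ[A] N) : Prop :=
  ∀ (S : Type u) [CommSemiring S] [Algebra A S] (z z' : S ⊗[A] M'),
    q.lTensor S z = q.lTensor S z' → L.toFun' S z = L.toFun' S z'

lemma lTensor_rTensor_comm (q : M' →ₗ[A] M) {S S' : Type u} [CommSemiring S] [Algebra A S]
    [CommSemiring S'] [Algebra A S'] (φ : S →ₐ[A] S') (z : S ⊗[A] M') :
    q.lTensor S' (φ.toLinearMap.rTensor M' z) = φ.toLinearMap.rTensor M (q.lTensor S z) := by
  rw [← LinearMap.comp_apply, ← LinearMap.comp_apply, LinearMap.lTensor_comp_rTensor,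
    LinearMap.rTensor_comp_lTensor]

/-- descent of a polynomial law along a surjective linear map -/
noncomputable def descend (q : M' →ₗ[A] M) (hq : Function.Surjective q) (L : M' →ₚₗ[A] N)
    (hL : Inv q L) : M →ₚₗ[A] N where
  toFun' S _ _ x := L.toFun' S (Function.surjInv (LinearMap.lTensor_surjective S hq) x)
  isCompat' {S} _ _ {S'} _ _ φ := by
    funext x
    simp only [Function.comp_apply]
    rw [PolynomialLaw.isCompat_apply']
    apply hL
    rw [lTensor_rTensor_comm, Function.surjInv_eq (LinearMap.lTensor_surjective S hq),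
      Function.surjInv_eq (LinearMap.lTensor_surjective S' hq)]

lemma descend_apply (q : M' →ₗ[A] M) (hq : Function.Surjective q) (L : M' →ₚₗ[A] N)
    (hL : Inv q L) (S : Type u) [CommSemiring S] [Algebra A S] (z : S ⊗[A] M') :
    (descend q hq L hL).toFun' S (q.lTensor S z) = L.toFun' S z := by
  show L.toFun' S (Function.surjInv (LinearMap.lTensor_surjective S hq) _) = _
  apply hL
  rw [Function.surjInv_eq (LinearMap.lTensor_surjective S hq)]

/-- it suffices to check invariance over test *rings* -/
theorem inv_of_ring (q : M' →ₗ[A] M) (L : M' →ₚₗ[A] N)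
    (h : ∀ (S : Type u) [CommRing S] [Algebra A S] (z z' : S ⊗[A] M'),
      q.lTensor S z = q.lTensor S z' → L.toFun' S z = L.toFun' S z') : Inv q L := by
  intro S _ _ z z' hzz
  set j : S ≃ₐ[A] A ⊗[A] S := (Algebra.TensorProduct.lid A S).symm with hj
  have hinj : Function.Injective (j.toAlgHom.toLinearMap.rTensor N) := by
    have : j.toAlgHom.toLinearMap.rTensor N = (j.toLinearEquiv.rTensor N).toLinearMap := rfl
    rw [this]
    exact (j.toLinearEquiv.rTensor N).injective
  apply hinj
  rw [PolynomialLaw.isCompat_apply', PolynomialLaw.isCompat_apply']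
  apply h
  rw [lTensor_rTensor_comm, lTensor_rTensor_comm, hzz]

/-- over a test ring, invariance follows from invariance under the elementary moves
`z ↦ z + s ⊗ g`, `g` running through a spanning set of the kernel -/
theorem inv_ring_of_gen (q : M' →ₗ[A] M) (hq : Function.Surjective q) (L : M' →ₚₗ[A] N)
    (G : Set M') (hG : Submodule.span A G = LinearMap.ker q)
    (S : Type u) [CommRing S] [Algebra A S]
    (h : ∀ (s : S) (g : M'), g ∈ G → ∀ z : S ⊗[A] M',
      L.toFun' S (z + s ⊗ₜ[A] g) = L.toFun' S z)
    (z z' : S ⊗[A] M') (hzz : q.lTensor S z = q.lTensor S z') :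
    L.toFun' S z = L.toFun' S z' := by
  have hP : ∀ k ∈ LinearMap.ker q, ∀ (s : S) (z : S ⊗[A] M'),
      L.toFun' S (z + s ⊗ₜ[A] k) = L.toFun' S z := by
    intro k hk
    rw [← hG] at hk
    induction hk using Submodule.span_induction with
    | mem g hg => exact fun s z => h s g hg z
    | zero => intro s z; rw [TensorProduct.tmul_zero, add_zero]
    | add k₁ k₂ _ _ h₁ h₂ =>
      intro s z
      rw [TensorProduct.tmul_add, ← add_assoc, h₂, h₁]
    | smul a k _ h₁ =>
      intro s z
      rw [TensorProduct.tmul_smul, TensorProduct.smul_tmul', h₁]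
  have hQ : ∀ (w : S ⊗[A] LinearMap.ker q) (z : S ⊗[A] M'),
      L.toFun' S (z + (LinearMap.ker q).subtype.lTensor S w) = L.toFun' S z := by
    intro w
    induction w using TensorProduct.induction_on with
    | zero => intro z; rw [map_zero, add_zero]
    | tmul s k => intro z; rw [LinearMap.lTensor_tmul]; exact hP k.1 k.2 s z
    | add w₁ w₂ h₁ h₂ => intro z; rw [map_add, ← add_assoc, h₂, h₁]
  have hex := lTensor_exact S (LinearMap.exact_subtype_ker_map q) hq
  have hmem : q.lTensor S (z - z') = 0 := by rw [map_sub, hzz, sub_self]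
  obtain ⟨w, hw⟩ := (hex (z - z')).mp hmem
  have : z = z' + (LinearMap.ker q).subtype.lTensor S w := by rw [hw]; abel
  rw [this, hQ]

end generic

end Groth.Agent.Lib.Helper14.LawDescent
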