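import Mathlib
import Groth.Prelude.Def_PolLaw
import Groth.Agent.Lib.Helper14LawDescent
import Groth.Agent.Lib.Helper14GammaModGen

/-!
# `Γ^d` of a quotient algebra (helper14)

If `(T, τ)` is a `Γ^d_A(E)` and `q : E → B` is a surjective algebra map, then `Γ^d_A(B)` exists and is
the quotient `T ⧸ J` where `J` is generated by the coefficients of the differences
`τ_S(Z + s ⊗ g) - τ_S(Z)` (`S` a polynomial ring, `g ∈ ker q`): `gammaB`, `isGammaD_gammaB`.
-/

set_option autoImplicit false
set_option linter.unusedVariables false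
set_option linter.unusedSectionVars false
set_option linter.style.haveILetI false
universe u
open TensorProduct

namespace Groth.Agent.Lib.Helper14.GammaQuot

open Groth.Agent.Lib.Helper14.PolLawExt (P)
open Groth.Agent.Lib.Helper14.GammaFin (mem_range_of_coeff_mem exists_fin_sum_tmul')
open Groth.Agent.Lib.Helper14.GammaModGen (equivFinsupp_lTensor)

section
variable {A : Type u} [CommRing A] {E T B : Type u} [CommRing E] [Algebra A E] [CommRing T]
  [Algebra A T] [CommRing B] [Algebra A B] {d : ℕ}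
  (τ : PolLaw.MulLaw A E T d) (q : E →ₐ[A] B)

/-- coefficient of an element of `P A n ⊗ T` -/
noncomputable def co {n : ℕ} (y : P A n ⊗[A] T) (μ : Fin n →₀ ℕ) : T :=
  TensorProduct.equivFinsuppOfBasisLeft (MvPolynomial.basisMonomials (Fin n) A) y μ

/-- generators of the kernel of `Γ^d(E) → Γ^d(B)` -/
def gens : Set T :=
  {c | ∃ (n : ℕ) (Z : P A n ⊗[A] E) (s : P A n) (g : E) (_ : q g = 0) (μ : Fin n →₀ ℕ),
    c = co (τ.law.toFun' (P A n) (Z + s ⊗ₜ[A] g) - τ.law.toFun' (P A n) Z) μ}

/-- the kernel of `Γ^d(E) → Γ^d(B)` -/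
def J : Ideal T := Ideal.span (gens τ q)

/-- the quotient map -/
noncomputable def piJ : T →ₐ[A] T ⧸ J τ q := Ideal.Quotient.mkₐ A (J τ q)

lemma piJ_surjective : Function.Surjective (piJ τ q) := Ideal.Quotient.mkₐ_surjective A (J τ q)

lemma lTensor_piJ_eq_zero {n : ℕ} (y : P A n ⊗[A] T) (h : ∀ μ, co y μ ∈ J τ q) :
    (piJ τ q).toLinearMap.lTensor (P A n) y = 0 := by
  classical
  have h' := mem_range_of_coeff_mem (MvPolynomial.basisMonomials (Fin n) A)
    ((J τ q).restrictScalars A) y h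
  obtain ⟨w, rfl⟩ := h'
  rw [← LinearMap.comp_apply, ← LinearMap.lTensor_comp]
  have h0 : (piJ τ q).toLinearMap ∘ₗ ((J τ q).restrictScalars A).subtype = 0 := by
    ext x
    have hx : (x : T) ∈ J τ q := x.2
    simpa [piJ] using Ideal.Quotient.eq_zero_iff_mem.mpr hx
  rw [h0, LinearMap.lTensor_zero, LinearMap.zero_apply]

/-- the law `E → T ⧸ J` -/
noncomputable def L : PolLaw.MulLaw A E (T ⧸ J τ q) d := PolLaw.MulLaw.postcomp (piJ τ q) τ

lemma L_apply (S : Type u) [CommSemiring S] [Algebra A S] (z : S ⊗[A] E) :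
    (L τ q).law.toFun' S z = (piJ τ q).toLinearMap.lTensor S (τ.law.toFun' S z) := rfl

theorem inv_L (hq : Function.Surjective q.toLinearMap) :
    LawDescent.Inv q.toLinearMap (L τ q).law := by
  apply LawDescent.inv_of_ring
  intro S _ _ z z' hzz
  refine LawDescent.inv_ring_of_gen q.toLinearMap hq (L τ q).law
    (LinearMap.ker q.toLinearMap : Set E) (Submodule.span_eq _) S ?_ z z' hzz
  intro s g hg z
  have hg' : q g = 0 := hg
  obtain ⟨m, sv, pv, rfl⟩ := exists_fin_sum_tmul' S z
  set φ : P A (m + 1) →ₐ[A] S := MvPolynomial.aeval (Fin.cases s sv) with hφ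
  set Z : P A (m + 1) ⊗[A] E := ∑ k : Fin m, (MvPolynomial.X k.succ : P A (m + 1)) ⊗ₜ[A] pv k
    with hZ
  have h1 : φ.toLinearMap.rTensor E Z = ∑ k, sv k ⊗ₜ[A] pv k := by
    simp [hZ, map_sum, LinearMap.rTensor_tmul, hφ]
  have h2 : φ.toLinearMap.rTensor E ((MvPolynomial.X 0 : P A (m + 1)) ⊗ₜ[A] g) = s ⊗ₜ[A] g := by
    simp [LinearMap.rTensor_tmul, hφ]
  rw [← h1, ← h2, ← map_add, ← PolynomialLaw.isCompat_apply', ← PolynomialLaw.isCompat_apply']
  congr 1
  rw [← sub_eq_zero, L_apply, L_apply, ← map_sub]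
  apply lTensor_piJ_eq_zero
  intro μ
  exact Ideal.subset_span ⟨m + 1, Z, MvPolynomial.X 0, g, hg', μ, rfl⟩

/-- the descended law `B → T ⧸ J` -/
noncomputable def gammaLaw (hq : Function.Surjective q.toLinearMap) : B →ₚₗ[A] (T ⧸ J τ q) :=
  LawDescent.descend q.toLinearMap hq (L τ q).law (inv_L τ q hq)

lemma gammaLaw_apply (hq : Function.Surjective q.toLinearMap) (S : Type u) [CommSemiring S]
    [Algebra A S] (z : S ⊗[A] E) :
    (gammaLaw τ q hq).toFun' S (q.toLinearMap.lTensor S z) = (L τ q).law.toFun' S z :=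
  LawDescent.descend_apply q.toLinearMap hq (L τ q).law (inv_L τ q hq) S z

/-- the descended multiplicative law -/
noncomputable def gammaB (hq : Function.Surjective q.toLinearMap) :
    PolLaw.MulLaw A B (T ⧸ J τ q) d where
  law := gammaLaw τ q hq
  homog S _ _ s x := by
    obtain ⟨z, rfl⟩ := LinearMap.lTensor_surjective S hq x
    have h : s • q.toLinearMap.lTensor S z = q.toLinearMap.lTensor S (s • z) := by
      rw [PolLaw.lTensor_algHom_apply, PolLaw.lTensor_algHom_apply, map_smul]
    rw [h, gammaLaw_apply, gammaLaw_apply, (L τ q).homog S s z]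
  mult S _ _ := by
    refine ⟨?_, fun x y => ?_⟩
    · have h : (1 : S ⊗[A] B) = q.toLinearMap.lTensor S 1 := by
        rw [PolLaw.lTensor_algHom_apply, map_one]
      rw [h, gammaLaw_apply, ((L τ q).mult S).1]
    · obtain ⟨z, rfl⟩ := LinearMap.lTensor_surjective S hq x
      obtain ⟨w, rfl⟩ := LinearMap.lTensor_surjective S hq y
      have h : q.toLinearMap.lTensor S z * q.toLinearMap.lTensor S w =
          q.toLinearMap.lTensor S (z * w) := by
        rw [PolLaw.lTensor_algHom_apply, PolLaw.lTensor_algHom_apply, PolLaw.lTensor_algHom_apply,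
          map_mul]
      rw [h, gammaLaw_apply, gammaLaw_apply, gammaLaw_apply, ((L τ q).mult S).2]

lemma gammaB_law (hq : Function.Surjective q.toLinearMap) :
    (gammaB τ q hq).law = gammaLaw τ q hq := rfl

theorem isGammaD_gammaB (hτ : PolLaw.IsGammaD τ) (hq : Function.Surjective q.toLinearMap) :
    PolLaw.IsGammaD (gammaB τ q hq) := by
  classical
  intro C' _ _ F
  obtain ⟨f, hf, hfu⟩ := hτ C' (F.precomp q)
  have hf' : ∀ (S : Type u) [CommSemiring S] [Algebra A S] (W : S ⊗[A] E),
      f.toLinearMap.lTensor S (τ.law.toFun' S W) =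
        F.law.toFun' S (q.toLinearMap.lTensor S W) := by
    intro S _ _ W
    exact congrArg (fun G : E →ₚₗ[A] C' => G.toFun' S W) hf
  have hker : ∀ a ∈ J τ q, f a = 0 := by
    intro a ha
    have hle : J τ q ≤ RingHom.ker f.toRingHom := by
      rw [J, Ideal.span_le]
      rintro c ⟨n, Z, s, g, hg, μ, rfl⟩
      show f (co _ μ) = 0
      rw [co, ← AlgHom.toLinearMap_apply, ← equivFinsupp_lTensor, map_sub, hf', hf', map_add,
        LinearMap.lTensor_tmul, AlgHom.toLinearMap_apply, hg, TensorProduct.tmul_zero, add_zero,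
        sub_self]
      simp
    exact hle ha
  set fbar : T ⧸ J τ q →ₐ[A] C' := Ideal.Quotient.liftₐ (J τ q) f hker with hfbar
  have hcomp : fbar.toLinearMap ∘ₗ (piJ τ q).toLinearMap = f.toLinearMap := by
    ext t
    simp [hfbar, piJ]
  refine ⟨fbar, ?_, ?_⟩
  · show PolLaw.postcomp fbar.toLinearMap (gammaLaw τ q hq) = F.law
    ext S _ _ x
    obtain ⟨z, rfl⟩ := LinearMap.lTensor_surjective S hq x
    show fbar.toLinearMap.lTensor S ((gammaLaw τ q hq).toFun' S (q.toLinearMap.lTensor S z)) =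
      F.law.toFun' S (q.toLinearMap.lTensor S z)
    rw [gammaLaw_apply, L_apply, ← LinearMap.comp_apply, ← LinearMap.lTensor_comp, hcomp, hf']
  · intro f' hf''
    have hf3 : ∀ (S : Type u) [CommSemiring S] [Algebra A S] (x : S ⊗[A] B),
        f'.toLinearMap.lTensor S ((gammaLaw τ q hq).toFun' S x) = F.law.toFun' S x := by
      intro S _ _ x
      exact congrArg (fun G : B →ₚₗ[A] C' => G.toFun' S x) hf''
    have h1 : f'.comp (piJ τ q) = f := by
      apply hfu
      ext S _ _ z
      show (f'.comp (piJ τ q)).toLinearMap.lTensor S (τ.law.toFun' S z) =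
        F.law.toFun' S (q.toLinearMap.lTensor S z)
      rw [← hf3, gammaLaw_apply, L_apply, ← LinearMap.comp_apply, ← LinearMap.lTensor_comp]
      rfl
    apply AlgHom.ext
    intro c
    obtain ⟨t, rfl⟩ := piJ_surjective τ q c
    have e1 : f' (piJ τ q t) = f t := by rw [← h1]; rfl
    have e2 : fbar (piJ τ q t) = f t := by
      have := congrArg (fun l : T →ₗ[A] C' => l t) hcomp
      exact this
    rw [e1, e2]

end

end Groth.Agent.Lib.Helper14.GammaQuot
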