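import Mathlib
import Groth.Agent.Lib.Helper14GeomIrrB

/-! Helper14: geometric irreducibility of `K/k` versus `K(t)/k(t)`. -/

set_option autoImplicit false

universe u
open Polynomial TensorProduct

namespace Groth.Agent.Lib.Helper14.GeomIrr

section RatFunc

variable {k K : Type u} [Field k] [Field K] [Algebra k K]
  (kt Kt : Type u) [Field kt] [Field Kt] [Algebra (Polynomial k) kt]
  [IsFractionRing (Polynomial k) kt] [Algebra (Polynomial K) Kt] [IsFractionRing (Polynomial K) Kt]
  [Algebra kt Kt]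
  (hcompat : ∀ p : Polynomial k, algebraMap kt Kt (algebraMap (Polynomial k) kt p) =
    algebraMap (Polynomial K) Kt (Polynomial.map (algebraMap k K) p))

include hcompat in
theorem sepClosedIn_of_ratFunc
    (h : ∀ β : Kt, IsSeparable kt β → β ∈ Set.range (algebraMap kt Kt))
    (α : K) (hα : IsSeparable k α) : α ∈ Set.range (algebraMap k K) := by
  -- the structure maps
  let ik : k →+* kt := (algebraMap (Polynomial k) kt).comp C
  let iK : K →+* Kt := (algebraMap (Polynomial K) Kt).comp C
  have hsq : ∀ a : k, algebraMap kt Kt (ik a) = iK (algebraMap k K a) := by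
    intro a
    have := hcompat (C a)
    simpa [ik, iK] using this
  -- β = image of α is separable over kt
  have hβ : IsSeparable kt (iK α) := by
    have hsep : ((minpoly k α).map ik).Separable := Polynomial.Separable.map hα
    have hroot : aeval (iK α) ((minpoly k α).map ik) = 0 := by
      rw [aeval_def, eval₂_map]
      have : (algebraMap kt Kt).comp ik = iK.comp (algebraMap k K) := RingHom.ext hsq
      rw [this, ← Polynomial.hom_eval₂, ← aeval_def, minpoly.aeval, map_zero]
    exact hsep.of_dvd (minpoly.dvd kt (iK α) hroot)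
  obtain ⟨r, hr⟩ := h _ hβ
  obtain ⟨p, q, hq, rfl⟩ := IsFractionRing.div_surjective (A := Polynomial k) r
  have hq0 : q ≠ 0 := nonZeroDivisors.ne_zero hq
  have hqK : algebraMap (Polynomial k) kt q ≠ 0 := by
    rw [Ne, map_eq_zero_iff _ (IsFractionRing.injective (Polynomial k) kt)]; exact hq0
  have h1 : C α * q.map (algebraMap k K) = p.map (algebraMap k K) := by
    apply IsFractionRing.injective (Polynomial K) Kt
    rw [map_mul, ← hcompat, ← hcompat]
    have : algebraMap (Polynomial K) Kt (C α) = iK α := rfl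
    rw [this, ← hr, ← map_mul, div_mul_cancel₀ _ hqK]
  have h2 := congrArg (fun f => f.coeff q.natDegree) h1
  simp only [coeff_C_mul, coeff_map, coeff_natDegree] at h2
  have hlc : q.leadingCoeff ≠ 0 := leadingCoeff_ne_zero.mpr hq0
  refine ⟨p.coeff q.natDegree / q.leadingCoeff, ?_⟩
  rw [map_div₀, ← h2, mul_div_cancel_right₀]
  rwa [Ne, map_eq_zero_iff _ (algebraMap k K).injective]

end RatFunc

section RatFunc2

/-- the map `K[X] → L ⊗[k] K`, `∑ cⱼ Xʲ ↦ ∑ tʲ ⊗ cⱼ`, for `t : L` transcendental over `k`. -/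
noncomputable def polyToTensor (k : Type u) [Field k] (K L : Type u) [Field K] [Field L] [Algebra k K]
    [Algebra k L] (t : L) : K[X] →ₐ[k] L ⊗[k] K :=
  ((Algebra.TensorProduct.map (aeval t : k[X] →ₐ[k] L) (AlgHom.id k K)).comp
    (Algebra.TensorProduct.comm k K k[X]).toAlgHom).comp (polyEquivTensor k K).toAlgHom

variable {k : Type u} [Field k] {K L : Type u} [Field K] [Field L] [Algebra k K] [Algebra k L]

@[simp] lemma polyToTensor_C (t : L) (c : K) : polyToTensor k K L t (C c) = 1 ⊗ₜ c := by
  simp [polyToTensor, polyEquivTensor_apply]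

@[simp] lemma polyToTensor_X (t : L) : polyToTensor k K L t (X : K[X]) = t ⊗ₜ 1 := by
  simp [polyToTensor, polyEquivTensor_apply]

lemma polyToTensor_injective (t : L) (ht : Function.Injective (aeval t : k[X] →ₐ[k] L)) :
    Function.Injective (polyToTensor k K L t) := by
  unfold polyToTensor
  simp only [AlgHom.coe_comp, AlgEquiv.coe_toAlgHom]
  exact ((map_left_injective _ ht).comp (AlgEquiv.injective _)).comp (AlgEquiv.injective _)

lemma polyToTensor_map (t : L) (p : k[X]) :
    polyToTensor k K L t (p.map (algebraMap k K)) = (aeval t p) ⊗ₜ 1 := by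
  induction p using Polynomial.induction_on' with
  | add p q hp hq => rw [Polynomial.map_add, map_add, map_add, hp, hq, TensorProduct.add_tmul]
  | monomial n a =>
    rw [Polynomial.map_monomial, ← C_mul_X_pow_eq_monomial, ← C_mul_X_pow_eq_monomial, map_mul,
      map_pow, polyToTensor_C, polyToTensor_X, map_mul, map_pow, aeval_C, aeval_X,
      Algebra.TensorProduct.tmul_pow, one_pow, Algebra.TensorProduct.tmul_mul_tmul, one_mul,
      mul_one, Algebra.algebraMap_eq_smul_one, Algebra.algebraMap_eq_smul_one,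
      TensorProduct.tmul_smul, TensorProduct.smul_tmul', smul_mul_assoc, one_mul]

end RatFunc2

section RatFunc3

lemma exists_field_ringHom_of_isPrime_nilradical {A : Type u} [CommRing A]
    (h : (nilradical A).IsPrime) :
    ∃ (Φ : Type u) (_ : Field Φ) (can : A →+* Φ), ∀ a, can a = 0 → IsNilpotent a := by
  haveI := h
  haveI : IsDomain (A ⧸ nilradical A) := Ideal.Quotient.isDomain _
  refine ⟨FractionRing (A ⧸ nilradical A), inferInstance,
    (algebraMap (A ⧸ nilradical A) (FractionRing (A ⧸ nilradical A))).comp (Ideal.Quotient.mk _),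
    fun a ha => ?_⟩
  have h1 : Ideal.Quotient.mk (nilradical A) a = 0 :=
    (map_eq_zero_iff _ (IsFractionRing.injective _ (FractionRing (A ⧸ nilradical A)))).mp ha
  rw [Ideal.Quotient.eq_zero_iff_mem] at h1
  exact mem_nilradical.mp h1

variable {k K : Type u} [Field k] [Field K] [Algebra k K]
  (kt Kt : Type u) [Field kt] [Field Kt] [Algebra (Polynomial k) kt]
  [IsFractionRing (Polynomial k) kt] [Algebra (Polynomial K) Kt] [IsFractionRing (Polynomial K) Kt]
  [Algebra kt Kt]
  (hcompat : ∀ p : Polynomial k, algebraMap kt Kt (algebraMap (Polynomial k) kt p) =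
    algebraMap (Polynomial K) Kt (Polynomial.map (algebraMap k K) p))

include hcompat in
theorem isPrime_nilradical_ratFunc
    (hK : ∀ (k' : Type u) [Field k'] [Algebra k k'], (nilradical (k' ⊗[k] K)).IsPrime)
    (L : Type u) [Field L] [Algebra kt L] : (nilradical (L ⊗[kt] Kt)).IsPrime := by
  let ik : k →+* kt := (algebraMap (Polynomial k) kt).comp C
  let iK : K →+* Kt := (algebraMap (Polynomial K) Kt).comp C
  have hsq : ∀ a : k, algebraMap kt Kt (ik a) = iK (algebraMap k K a) := by
    intro a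
    have := hcompat (C a)
    simpa [ik, iK] using this
  letI : Algebra k L := ((algebraMap kt L).comp ik).toAlgebra
  have h𝔫 : (nilradical (L ⊗[k] K)).IsPrime := hK L
  let t : L := algebraMap kt L (algebraMap (Polynomial k) kt X)
  -- aeval t = the structure map k[X] → kt → L
  have haev : ∀ p : k[X], aeval t p = algebraMap kt L (algebraMap (Polynomial k) kt p) := by
    intro p
    have : (aeval t : k[X] →ₐ[k] L).toRingHom =
        (algebraMap kt L).comp (algebraMap (Polynomial k) kt) := by
      apply Polynomial.ringHom_ext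
      · intro a
        simp only [AlgHom.toRingHom_eq_coe, RingHom.coe_coe, aeval_C, RingHom.coe_comp,
          Function.comp_apply]
        rfl
      · simp [t]
    exact congrArg (fun f => f p) this
  have htinj : Function.Injective (aeval t : k[X] →ₐ[k] L) := by
    intro p q hpq
    rw [haev, haev] at hpq
    exact IsFractionRing.injective (Polynomial k) kt ((algebraMap kt L).injective hpq)
  let θ : K[X] →ₐ[k] L ⊗[k] K := polyToTensor k K L t
  have hθinj : Function.Injective θ := polyToTensor_injective t htinj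
  obtain ⟨Φ, _, can, hcan⟩ := exists_field_ringHom_of_isPrime_nilradical h𝔫
  let θ' : K[X] →+* Φ := can.comp θ.toRingHom
  have hθ'inj : Function.Injective θ' := by
    rw [injective_iff_map_eq_zero]
    intro q hq
    obtain ⟨n, hn⟩ := hcan _ hq
    have : θ (q ^ n) = 0 := by rw [map_pow]; exact hn
    have h0 : q ^ n = 0 := hθinj (by rw [this, map_zero])
    exact IsNilpotent.eq_zero ⟨n, h0⟩
  let gK : Kt →+* Φ := IsFractionRing.lift hθ'inj
  have hgK : ∀ p : K[X], gK (algebraMap K[X] Kt p) = can (θ p) := fun p =>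
    IsFractionRing.lift_algebraMap hθ'inj p
  let canL : L →+* Φ := can.comp (Algebra.TensorProduct.includeLeft : L →ₐ[k] L ⊗[k] K).toRingHom
  letI : Algebra L Φ := canL.toAlgebra
  letI : Algebra kt Φ := (canL.comp (algebraMap kt L)).toAlgebra
  haveI : IsScalarTower kt L Φ := IsScalarTower.of_algebraMap_eq (fun _ => rfl)
  have hcomm : ∀ r : kt, gK (algebraMap kt Kt r) = canL (algebraMap kt L r) := by
    have : gK.comp (algebraMap kt Kt) = canL.comp (algebraMap kt L) := by
      apply IsLocalization.ringHom_ext (nonZeroDivisors k[X])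
      ext p
      · simp only [RingHom.coe_comp, Function.comp_apply]
        rw [hcompat, hgK, Polynomial.map_C]
        show can (polyToTensor k K L t (C _)) = can ((algebraMap k L p) ⊗ₜ 1)
        rw [polyToTensor_C]
        congr 1
        rw [Algebra.algebraMap_eq_smul_one, Algebra.algebraMap_eq_smul_one,
          TensorProduct.tmul_smul, TensorProduct.smul_tmul']
      · simp only [RingHom.coe_comp, Function.comp_apply]
        rw [hcompat, hgK, Polynomial.map_X]
        show can (polyToTensor k K L t X) = can (t ⊗ₜ 1)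
        rw [polyToTensor_X]
    exact fun r => congrArg (fun f => f r) this
  let gKt : Kt →ₐ[kt] Φ := { gK with commutes' := hcomm }
  let Ψ : L ⊗[kt] Kt →ₐ[L] Φ :=
    Algebra.TensorProduct.lift (Algebra.ofId L Φ) gKt (fun _ _ => Commute.all _ _)
  have hΨ : ∀ (l : L) (y : Kt), Ψ (l ⊗ₜ y) = canL l * gK y := fun l y => by
    simp only [Ψ, Algebra.TensorProduct.lift_tmul]
    rfl
  -- the comparison map ψ : L ⊗[k] K → L ⊗[kt] Kt
  let g1 : K →ₐ[k] L ⊗[kt] Kt :=
    { (Algebra.TensorProduct.includeRight : Kt →ₐ[kt] L ⊗[kt] Kt).toRingHom.comp iK with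
      commutes' := fun a => by
        show (1 : L) ⊗ₜ[kt] iK (algebraMap k K a) = (algebraMap kt L (ik a)) ⊗ₜ[kt] (1 : Kt)
        rw [← hsq, Algebra.algebraMap_eq_smul_one, Algebra.algebraMap_eq_smul_one (ik a),
          TensorProduct.tmul_smul, TensorProduct.smul_tmul'] }
  let ψ : L ⊗[k] K →ₐ[L] L ⊗[kt] Kt :=
    Algebra.TensorProduct.lift (Algebra.ofId L (L ⊗[kt] Kt)) g1 (fun _ _ => Commute.all _ _)
  have hψ : ∀ (l : L) (c : K), ψ (l ⊗ₜ c) = l ⊗ₜ iK c := fun l c => by
    simp only [ψ, Algebra.TensorProduct.lift_tmul]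
    show (l ⊗ₜ[kt] (1 : Kt)) * ((1 : L) ⊗ₜ[kt] iK c) = _
    rw [Algebra.TensorProduct.tmul_mul_tmul, mul_one, one_mul]
  have hΨψ : ∀ a, Ψ (ψ a) = can a := by
    intro a
    induction a using TensorProduct.induction_on with
    | zero => simp
    | tmul l c =>
      rw [hψ, hΨ]
      have : gK (iK c) = can (θ (C c)) := hgK (C c)
      rw [this]
      show can (l ⊗ₜ 1) * can (polyToTensor k K L t (C c)) = _
      rw [polyToTensor_C, ← map_mul, Algebra.TensorProduct.tmul_mul_tmul, mul_one, one_mul]
    | add x y hx hy => rw [map_add, map_add, map_add, hx, hy]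
  have hψθ : ∀ p : K[X], ψ (θ p) = 1 ⊗ₜ algebraMap K[X] Kt p := by
    intro p
    have : (ψ.toRingHom.comp θ.toRingHom) =
        (Algebra.TensorProduct.includeRight : Kt →ₐ[kt] L ⊗[kt] Kt).toRingHom.comp
          (algebraMap K[X] Kt) := by
      apply Polynomial.ringHom_ext
      · intro c
        show ψ (polyToTensor k K L t (C c)) = 1 ⊗ₜ iK c
        rw [polyToTensor_C, hψ]
      · show ψ (polyToTensor k K L t X) = 1 ⊗ₜ algebraMap K[X] Kt X
        rw [polyToTensor_X, hψ]
        have h1 : algebraMap K[X] Kt X = algebraMap kt Kt (algebraMap k[X] kt X) := by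
          rw [hcompat, Polynomial.map_X]
        rw [h1, map_one]
        show (algebraMap kt L (algebraMap k[X] kt X)) ⊗ₜ[kt] (1 : Kt) = _
        rw [Algebra.algebraMap_eq_smul_one, Algebra.algebraMap_eq_smul_one (R := kt) (A := Kt),
          TensorProduct.tmul_smul, TensorProduct.smul_tmul']
    exact congrArg (fun f => f p) this
  -- every element of `L ⊗[kt] Kt` is a fraction
  have hfrac : ∀ b : L ⊗[kt] Kt, ∃ (a : L ⊗[k] K) (q : K[X]), q ≠ 0 ∧
      b * (1 ⊗ₜ algebraMap K[X] Kt q) = ψ a := by
    intro b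
    induction b using TensorProduct.induction_on with
    | zero => exact ⟨0, 1, one_ne_zero, by simp⟩
    | tmul l y =>
      obtain ⟨p, q, hq, rfl⟩ := IsFractionRing.div_surjective (A := K[X]) y
      have hq0 : q ≠ 0 := nonZeroDivisors.ne_zero hq
      have hqK : algebraMap K[X] Kt q ≠ 0 := by
        rw [Ne, map_eq_zero_iff _ (IsFractionRing.injective K[X] Kt)]; exact hq0
      refine ⟨(l ⊗ₜ 1) * θ p, q, hq0, ?_⟩
      rw [map_mul, hψθ, hψ, Algebra.TensorProduct.tmul_mul_tmul, Algebra.TensorProduct.tmul_mul_tmul,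
        mul_one, map_one, one_mul, div_mul_cancel₀ _ hqK]
    | add x y hx hy =>
      obtain ⟨a₁, q₁, hq₁, h1⟩ := hx
      obtain ⟨a₂, q₂, hq₂, h2⟩ := hy
      refine ⟨a₁ * θ q₂ + a₂ * θ q₁, q₁ * q₂, mul_ne_zero hq₁ hq₂, ?_⟩
      have e1 : ψ (a₁ * θ q₂ + a₂ * θ q₁) = ψ a₁ * (1 ⊗ₜ algebraMap K[X] Kt q₂) +
          ψ a₂ * (1 ⊗ₜ algebraMap K[X] Kt q₁) := by
        rw [map_add, map_mul, map_mul, hψθ, hψθ]
      have e2 : (1 : L) ⊗ₜ[kt] algebraMap K[X] Kt (q₁ * q₂) =
          (1 ⊗ₜ algebraMap K[X] Kt q₁) * (1 ⊗ₜ algebraMap K[X] Kt q₂) := by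
        rw [map_mul, Algebra.TensorProduct.tmul_mul_tmul, one_mul]
      rw [e1, e2, ← h1, ← h2]
      ring
  -- conclusion
  have hker : RingHom.ker Ψ ≤ nilradical (L ⊗[kt] Kt) := by
    intro b hb
    obtain ⟨a, q, hq0, hbq⟩ := hfrac b
    have hqK : algebraMap K[X] Kt q ≠ 0 := by
      rw [Ne, map_eq_zero_iff _ (IsFractionRing.injective K[X] Kt)]; exact hq0
    have ha : can a = 0 := by
      rw [← hΨψ, ← hbq, map_mul, (RingHom.mem_ker).mp hb, zero_mul]
    have hnil : IsNilpotent (ψ a) := (hcan a ha).map ψ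
    rw [← hbq] at hnil
    have hu : IsUnit ((1 : L) ⊗ₜ[kt] algebraMap K[X] Kt q) :=
      (IsUnit.mk0 _ hqK).map (Algebra.TensorProduct.includeRight : Kt →ₐ[kt] L ⊗[kt] Kt)
    rw [mem_nilradical]
    obtain ⟨n, hn⟩ := hnil
    rw [mul_pow] at hn
    exact ⟨n, (hu.pow n).mul_left_eq_zero.mp hn⟩
  haveI : (RingHom.ker Ψ).IsPrime := RingHom.ker_isPrime Ψ
  have : nilradical (L ⊗[kt] Kt) = RingHom.ker Ψ :=
    le_antisymm (nilradical_le_prime _) hker
  rw [this]; exact RingHom.ker_isPrime Ψ

end RatFunc3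

end Groth.Agent.Lib.Helper14.GeomIrr
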