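import Groth.Agent.Lib.LeadCSASplits

/-! # Index of central simple algebras: divisibility lemmas -/

namespace Groth.Agent.Lib.LeadCSA

open TensorProduct

section DimDvd

variable {k : Type*} [Field k] {R : Type*} [Ring R] [Algebra k R] [IsSimpleRing R] [IsArtinianRing R]

/-- the dimension of any finite module over a simple artinian algebra is a multiple of the
dimension of the simple module -/
theorem finrank_simple_dvd {S₀ M : Type*} [AddCommGroup S₀] [Module R S₀] [Module k S₀]
    [IsScalarTower k R S₀] [IsSimpleModule R S₀]
    [AddCommGroup M] [Module R M] [Module k M] [IsScalarTower k R M] [Module.Finite k M] :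
    Module.finrank k S₀ ∣ Module.finrank k M := by
  by_cases hM : Subsingleton M
  · rw [Module.finrank_zero_of_subsingleton (M := M)]; exact dvd_zero _
  rw [not_subsingleton_iff_nontrivial] at hM
  obtain ⟨n, S, hn, hS, ⟨e⟩, hdim, hpos⟩ := exists_equiv_fun (k := k) (R := R) (M := M)
  obtain ⟨f⟩ := simple_iso' (R := R) (M := S) (M' := S₀)
  have h1 : Module.finrank k S = Module.finrank k S₀ := (f.restrictScalars k).finrank_eq
  rw [hdim, h1]; exact dvd_mul_left _ _

end DimDvd

section DimDvdMatrix

variable {k : Type*} [Field k] {A : Type*} [Ring A] [Algebra k A]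
  {D : Type*} [DivisionRing D] [Algebra k D] [FiniteDimensional k D]

/-- if `A ≅ M_m(D)` then the dimension of every finite `A`-module is a multiple of `m * dim D` -/
theorem finrank_dvd_of_algEquiv_matrix {m : ℕ} (hm : m ≠ 0)
    (e : A ≃ₐ[k] Matrix (Fin m) (Fin m) D)
    {M : Type*} [AddCommGroup M] [Module A M] [Module k M] [IsScalarTower k A M]
    [Module.Finite k M] : m * Module.finrank k D ∣ Module.finrank k M := by
  have : NeZero m := ⟨hm⟩
  have : IsSimpleRing A := IsSimpleRing.of_ringEquiv e.symm.toRingEquiv inferInstance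
  have : FiniteDimensional k A := Module.Finite.equiv e.symm.toLinearEquiv
  have : IsArtinianRing A := IsArtinianRing.of_finite k A
  let V' := Fin m → D
  let _ : Module A V' := Module.compHom V' e.toRingHom
  have hsm : ∀ (r : A) (v : V'), r • v = e r • v := fun r v => rfl
  have : IsScalarTower k A V' := ⟨fun c r v => by
    rw [hsm, hsm, map_smul, smul_assoc]⟩
  have : IsSimpleModule A V' := by
    rw [isSimpleModule_iff_toSpanSingleton_surjective]
    refine ⟨inferInstance, fun v hv w => ?_⟩
    obtain ⟨r', hr'⟩ := (isSimpleModule_iff_toSpanSingleton_surjective.mp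
      (isSimpleModule_matrix_vec (D := D) (n := m))).2 v hv w
    refine ⟨e.symm r', ?_⟩
    rw [LinearMap.toSpanSingleton_apply] at hr' ⊢
    rw [hsm, AlgEquiv.apply_symm_apply, hr']
  have h1 : Module.finrank k V' = m * Module.finrank k D := by
    rw [Module.finrank_pi_fintype]; simp
  rw [← h1]
  exact finrank_simple_dvd (k := k) (R := A) (S₀ := V') (M := M)

end DimDvdMatrix

section BaseChangeModule

variable {k : Type*} [Field k] (K : Type*) [Field K] [Algebra k K] {A : Type*} [Ring A] [Algebra k A]
  (S : Type*) [AddCommGroup S] [Module A S] [Module k S] [IsScalarTower k A S]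

/-- the action of `K ⊗ A` on `K ⊗ S` -/
noncomputable def baseChangeEnd : K ⊗[k] A →ₐ[K] Module.End K (K ⊗[k] S) :=
  (LinearMap.tensorProductEnd k K S).comp
    (Algebra.TensorProduct.map (AlgHom.id K K) (Algebra.lsmul k k S))

variable {K S}

/-- if `K ⊗ A ≅ M_m'(D')` then the `k`-dimension of every finite `A`-module is a multiple of
`m' * dim_K D'` -/
theorem finrank_baseChange_dvd {D' : Type*} [DivisionRing D'] [Algebra K D'] [FiniteDimensional K D']
    {m' : ℕ} (hm' : m' ≠ 0) (e' : K ⊗[k] A ≃ₐ[K] Matrix (Fin m') (Fin m') D')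
    [Module.Finite k S] : m' * Module.finrank K D' ∣ Module.finrank k S := by
  let Φ := baseChangeEnd (k := k) (A := A) K S
  let _ : Module (K ⊗[k] A) (K ⊗[k] S) := Module.compHom _ Φ.toRingHom
  have : IsScalarTower K (K ⊗[k] A) (K ⊗[k] S) := ⟨fun c x v => by
    show Φ (c • x) v = c • Φ x v
    rw [map_smul]; rfl⟩
  have := finrank_dvd_of_algEquiv_matrix (k := K) hm' e' (M := K ⊗[k] S)
  rwa [Module.finrank_baseChange] at this

end BaseChangeModule

section MaxSubfieldSplit

universe u w

variable {K : Type u} [Field K] {D' : Type w} [DivisionRing D'] [Algebra K D']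
  [Algebra.IsCentral K D'] [FiniteDimensional K D']

/-- a central division algebra of dimension `d^2` has a separable splitting field of degree `d` -/
theorem exists_splitting_field_of_degree {d' : ℕ} (hd' : Module.finrank K D' = d' ^ 2) :
    ∃ (L : Type w) (_ : Field L) (_ : Algebra K L), FiniteDimensional K L ∧
      Algebra.IsSeparable K L ∧ Module.finrank K L = d' ∧ Curves.Splits K D' L := by
  obtain ⟨L, hc, hs, hcent⟩ := exists_separable_self_centralizing (k := K) (D := D')
  let _ : Field L := fieldOfComm L hc
  have hdim : Module.finrank K D' = Module.finrank K L ^ 2 := by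
    have := centralizer_finrank L
    rw [hcent] at this
    rw [this, pow_two]
  refine ⟨L, inferInstance, inferInstance, inferInstance, hs, ?_, splits_of_subfield L.val hdim⟩
  rw [hd'] at hdim
  exact (Nat.pow_left_injective (two_ne_zero) hdim).symm

end MaxSubfieldSplit

end Groth.Agent.Lib.LeadCSA
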