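import Groth.Agent.Lib.LeadCSAIndex

/-! # Splitting and Brauer equivalence -/

namespace Groth.Agent.Lib.LeadCSA

open TensorProduct

section SplitsIso

variable {k : Type*} [Field k] {A B : Type*} [Ring A] [Algebra k A] [Ring B] [Algebra k B]

theorem splits_of_algEquiv (e : A ≃ₐ[k] B) {L : Type*} [Field L] [Algebra k L]
    (h : Curves.Splits k A L) : Curves.Splits k B L := by
  obtain ⟨hc, hs, hf⟩ := csa_of_splits L h
  have : Algebra.IsCentral k B := isCentral_of_algEquiv' e
  have : IsSimpleRing B := IsSimpleRing.of_ringEquiv e.toRingEquiv inferInstance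
  obtain ⟨n, hn, hd, ⟨ρ⟩⟩ := exists_algHom_of_splits L h
  exact splits_of_algHom L hn (by rw [← hd, e.toLinearEquiv.finrank_eq]) (ρ.comp e.symm.toAlgHom)

end SplitsIso

section BaseChangeMatrix

variable {k : Type*} [Field k] (K : Type*) [Field K] [Algebra k K] (A : Type*) [Ring A] [Algebra k A]
  [Algebra.IsCentral k A] [IsSimpleRing A] [FiniteDimensional k A] (n : ℕ) [NeZero n]

/-- base change commutes with matrix algebras (for central simple algebras) -/
theorem nonempty_baseChange_matrix_algEquiv :
    Nonempty (K ⊗[k] Matrix (Fin n) (Fin n) A ≃ₐ[K] Matrix (Fin n) (Fin n) (K ⊗[k] A)) := by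
  let g : Matrix (Fin n) (Fin n) A →ₐ[k] Matrix (Fin n) (Fin n) (K ⊗[k] A) :=
    (Algebra.TensorProduct.includeRight : A →ₐ[k] K ⊗[k] A).mapMatrix
  let F : K ⊗[k] Matrix (Fin n) (Fin n) A →ₐ[K] Matrix (Fin n) (Fin n) (K ⊗[k] A) :=
    Algebra.TensorProduct.lift (Algebra.ofId K _) g
      (fun c a => Algebra.commute_algebraMap_left _ _)
  have : IsSimpleRing (K ⊗[k] Matrix (Fin n) (Fin n) A) := isSimpleRing_baseChange K
  have hinj : Function.Injective F := RingHom.injective F.toRingHom
  have h1 : Module.finrank K (K ⊗[k] Matrix (Fin n) (Fin n) A) =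
      Module.finrank K (Matrix (Fin n) (Fin n) (K ⊗[k] A)) := by
    rw [Module.finrank_baseChange, Module.finrank_matrix, Module.finrank_matrix,
      Module.finrank_baseChange]
  have hsurj : Function.Surjective F :=
    (LinearMap.injective_iff_surjective_of_finrank_eq_finrank (f := F.toLinearMap) h1).mp hinj
  exact ⟨AlgEquiv.ofBijective F ⟨hinj, hsurj⟩⟩

end BaseChangeMatrix

section SplitsMatrix

variable {k : Type*} [Field k] {A : Type*} [Ring A] [Algebra k A]
  [Algebra.IsCentral k A] [IsSimpleRing A] [FiniteDimensional k A]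

/-- a field splitting `M_n(A)` splits `A` -/
theorem splits_of_splits_matrix {L : Type*} [Field L] [Algebra k L] {n : ℕ} (hn : n ≠ 0)
    (h : Curves.Splits k (Matrix (Fin n) (Fin n) A) L) : Curves.Splits k A L := by
  have : NeZero n := ⟨hn⟩
  obtain ⟨N, hN, ⟨φ⟩⟩ := h
  obtain ⟨a, ha, hdim⟩ := exists_finrank_eq_sq (k := k) (A := A)
  have hNa : N = n * a := by
    have h1 : Module.finrank L (L ⊗[k] Matrix (Fin n) (Fin n) A) = N * N := by
      rw [φ.toLinearEquiv.finrank_eq, Module.finrank_matrix]; simp
    rw [Module.finrank_baseChange, Module.finrank_matrix, hdim] at h1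
    simp only [Fintype.card_fin] at h1
    have : (n * a) * (n * a) = N * N := by rw [← h1]; ring
    exact (Nat.mul_self_inj.mp this).symm
  subst hNa
  obtain ⟨ψ⟩ := nonempty_baseChange_matrix_algEquiv (k := k) L A n
  have : NeZero a := ⟨ha⟩
  let E : Matrix (Fin n) (Fin n) (L ⊗[k] A) ≃ₐ[L]
      Matrix (Fin n) (Fin n) (Matrix (Fin a) (Fin a) L) :=
    ψ.symm.trans <| φ.trans <|
      (Matrix.reindexAlgEquiv L L finProdFinEquiv).symm.trans <|
      (Matrix.compAlgEquiv (Fin n) (Fin a) L L).symm
  have : IsSimpleRing (L ⊗[k] A) := isSimpleRing_baseChange L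
  obtain ⟨e⟩ := nonempty_algEquiv_of_matrix_algEquiv hn E
  exact ⟨a, ha, ⟨e⟩⟩

theorem splits_matrix_iff {L : Type*} [Field L] [Algebra k L] {n : ℕ} (hn : n ≠ 0) :
    Curves.Splits k (Matrix (Fin n) (Fin n) A) L ↔ Curves.Splits k A L := by
  have : NeZero n := ⟨hn⟩
  exact ⟨splits_of_splits_matrix hn, fun h => splits_of_algEquiv_matrix hn AlgEquiv.refl h⟩

end SplitsMatrix

section BrauerTransfer

variable {k : Type*} [Field k] {A B : Type*} [Ring A] [Algebra k A] [Ring B] [Algebra k B]
  [Algebra.IsCentral k A] [IsSimpleRing A] [FiniteDimensional k A]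
  [Algebra.IsCentral k B] [IsSimpleRing B] [FiniteDimensional k B]

/-- splitting fields only depend on the Brauer class -/
theorem splits_of_matrix_algEquiv {L : Type*} [Field L] [Algebra k L] {x y : ℕ} (hx : x ≠ 0)
    (hy : y ≠ 0) (e : Matrix (Fin x) (Fin x) A ≃ₐ[k] Matrix (Fin y) (Fin y) B)
    (h : Curves.Splits k B L) : Curves.Splits k A L := by
  have : NeZero x := ⟨hx⟩
  have : NeZero y := ⟨hy⟩
  exact splits_of_splits_matrix hx (splits_of_algEquiv e.symm ((splits_matrix_iff hy).mpr h))

end BrauerTransfer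

section CentralOfTensor

variable {k : Type*} [Field k] {A C : Type*} [Ring A] [Algebra k A] [Ring C] [Algebra k C]

/-- if `A ⊗ C` is central and `A` is nontrivial then `C` is central -/
theorem isCentral_right_of_tensor [Nontrivial A] [Algebra.IsCentral k (A ⊗[k] C)] :
    Algebra.IsCentral k C := by
  constructor
  intro z hz
  have hz' := Subalgebra.mem_center_iff.mp hz
  have h1 : (1 : A) ⊗ₜ[k] z ∈ Subalgebra.center k (A ⊗[k] C) := by
    rw [Subalgebra.mem_center_iff]
    intro w
    induction w using TensorProduct.induction_on with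
    | zero => simp
    | tmul a c =>
      rw [Algebra.TensorProduct.tmul_mul_tmul, Algebra.TensorProduct.tmul_mul_tmul, hz' c]
      simp
    | add x y hx hy => rw [add_mul, mul_add, hx, hy]
  obtain ⟨c, hc⟩ := (Algebra.IsCentral.mem_center_iff (K := k)).mp h1
  rw [Algebra.mem_bot]
  refine ⟨c, ?_⟩
  have hinj : Function.Injective (Algebra.TensorProduct.includeRight : C →ₐ[k] A ⊗[k] C) :=
    Algebra.TensorProduct.includeRight_injective (algebraMap k A).injective
  apply hinj
  show (1 : A) ⊗ₜ[k] (algebraMap k C c) = (1 : A) ⊗ₜ[k] z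
  rw [hc, Algebra.TensorProduct.algebraMap_apply, Algebra.algebraMap_eq_smul_one,
    Algebra.algebraMap_eq_smul_one, TensorProduct.tmul_smul, TensorProduct.smul_tmul']

end CentralOfTensor

section BrauerOfTensorSplit

variable {k : Type*} [Field k] {A C : Type*} [Ring A] [Algebra k A] [Ring C] [Algebra k C]
  [Algebra.IsCentral k C] [IsSimpleRing C] [FiniteDimensional k C]

/-- if `A ⊗ C` is a matrix algebra over `k` then `A` is Brauer equivalent to `Cᵐᵒᵖ` -/
theorem brauer_of_tensor_split {t : ℕ}
    (Θ : A ⊗[k] C ≃ₐ[k] Matrix (Fin t) (Fin t) k) :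
    Nonempty (Matrix (Fin (Module.finrank k C)) (Fin (Module.finrank k C)) A ≃ₐ[k]
      Matrix (Fin t) (Fin t) Cᵐᵒᵖ) := by
  classical
  let bC := Module.finBasis k C
  let s1 := matrixEquivTensor (Fin (Module.finrank k C)) k A
  let s2 : Matrix (Fin (Module.finrank k C)) (Fin (Module.finrank k C)) k ≃ₐ[k] Module.End k C :=
    (LinearMap.toMatrixAlgEquiv bC).symm
  let s3 : Module.End k C ≃ₐ[k] C ⊗[k] Cᵐᵒᵖ :=
    (AlgEquiv.ofBijective (AlgHom.mulLeftRight k C) mulLeftRight_bijective).symm
  let s4 := Algebra.TensorProduct.congr (AlgEquiv.refl : A ≃ₐ[k] A) (s2.trans s3)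
  let s5 := (Algebra.TensorProduct.assoc k k k A C Cᵐᵒᵖ).symm
  let s6 := Algebra.TensorProduct.congr Θ (AlgEquiv.refl : Cᵐᵒᵖ ≃ₐ[k] Cᵐᵒᵖ)
  let s7 := Algebra.TensorProduct.comm k (Matrix (Fin t) (Fin t) k) Cᵐᵒᵖ
  let s8 := (matrixEquivTensor (Fin t) k Cᵐᵒᵖ).symm
  exact ⟨s1.trans <| s4.trans <| s5.trans <| s6.trans <| s7.trans s8⟩

end BrauerOfTensorSplit

section Commutant

universe u v w

variable {k : Type u} [Field k] {A : Type v} [Ring A] [Algebra k A] [Algebra.IsCentral k A]
  [IsSimpleRing A] [FiniteDimensional k A]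
  {k' : Type w} [Field k'] [Algebra k k'] [FiniteDimensional k k']

/-- if `k'` splits `A` then the commutant `C` of `A` on the splitting module is a central simple
algebra of dimension `[k':k]^2` containing `k'`, and `A ⊗ C` is a matrix algebra -/
theorem exists_commutant_of_splits (h : Curves.Splits k A k') :
    ∃ (C : Type w) (_ : Ring C) (_ : Algebra k C), Algebra.IsCentral k C ∧ IsSimpleRing C ∧
      FiniteDimensional k C ∧ Nonempty (k' →ₐ[k] C) ∧
      Module.finrank k C = Module.finrank k k' ^ 2 ∧
      ∃ t : ℕ, t ≠ 0 ∧ Nonempty (A ⊗[k] C ≃ₐ[k] Matrix (Fin t) (Fin t) k) := by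
  classical
  obtain ⟨N, hN, hdim, ⟨ρ⟩⟩ := exists_algHom_of_splits k' h
  have : NeZero N := ⟨hN⟩
  let V := Fin N → k'
  let _ : Module A V := Module.compHom V ρ.toRingHom
  have hsm : ∀ (a : A) (v : V), a • v = ρ a • v := fun a v => rfl
  have : IsScalarTower k A V := ⟨fun c r v => by rw [hsm, hsm, map_smul, smul_assoc]⟩
  have : SMulCommClass A k' V := ⟨fun a c v => by
    rw [hsm, hsm, Matrix.smul_eq_mulVec, Matrix.smul_eq_mulVec, Matrix.mulVec_smul]⟩
  set n := Module.finrank k k' with hn
  have hnpos : 0 < n := Module.finrank_pos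
  have hV : Module.finrank k V = N * n := by
    rw [Module.finrank_pi_fintype]; simp [hn]
  obtain ⟨hsimple, hfin⟩ := end_simple_and_finrank (k := k) (R := A) (V := V)
  let C := Module.End A V
  have hCfin : FiniteDimensional k C := by
    have : Module.Finite k (Module.End k V) := inferInstance
    exact Module.Finite.of_injective (LinearMap.restrictScalarsₗ k A V V k)
      (LinearMap.restrictScalars_injective k)
  have hCdim : Module.finrank k C = n ^ 2 := by
    rw [hdim, hV] at hfin
    have h1 : (N * N) * Module.finrank k C = (N * N) * n ^ 2 := by rw [hfin]; ring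
    exact Nat.eq_of_mul_eq_mul_left (Nat.mul_pos (Nat.pos_of_ne_zero hN) (Nat.pos_of_ne_zero hN)) h1
  let ψ : k' →ₐ[k] C :=
    { toFun := fun c =>
        { toFun := fun v => c • v
          map_add' := fun v w => smul_add c v w
          map_smul' := fun a v => (smul_comm a c v).symm }
      map_one' := LinearMap.ext fun v => one_smul _ v
      map_mul' := fun c c' => LinearMap.ext fun v => mul_smul c c' v
      map_zero' := LinearMap.ext fun v => zero_smul _ v
      map_add' := fun c c' => LinearMap.ext fun v => add_smul c c' v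
      commutes' := fun c => LinearMap.ext fun v => by
        show (algebraMap k k' c) • v = (algebraMap k C c) v
        rw [Module.algebraMap_end_apply, algebraMap_smul] }
  let f : A →ₐ[k] Module.End k V := Algebra.lsmul k k V
  let g : C →ₐ[k] Module.End k V :=
    { toFun := fun T => T.restrictScalars k
      map_one' := rfl
      map_mul' := fun T T' => rfl
      map_zero' := rfl
      map_add' := fun T T' => rfl
      commutes' := fun c => rfl }
  let F : C ⊗[k] A →ₐ[k] Module.End k V := Algebra.TensorProduct.lift g f (fun T a =>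
    LinearMap.ext fun v => by
      show T (a • v) = a • T v
      rw [map_smul])
  have : IsSimpleRing (C ⊗[k] A) := isSimpleRing_tensor
  have : Nontrivial V := inferInstance
  have : Nontrivial (Module.End k V) := inferInstance
  have hinj : Function.Injective F := by
    have := RingHom.injective (R := C ⊗[k] A) (S := Module.End k V) F.toRingHom
    exact this
  have h1 : Module.finrank k (C ⊗[k] A) = Module.finrank k (Module.End k V) := by
    have h2 : Module.finrank k (Module.End k V) = (N * n) * (N * n) := by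
      rw [← hV]; exact Module.finrank_linearMap (R := k) (S := k) (M := V) (N := V)
    rw [Module.finrank_tensorProduct, h2, hdim, hCdim]; ring
  have hsurj : Function.Surjective F := by
    have h3 := LinearMap.injective_iff_surjective_of_finrank_eq_finrank (K := k)
      (V := C ⊗[k] A) (V₂ := Module.End k V) (f := F.toLinearMap) h1
    exact h3.mp hinj
  let bV := Module.finBasisOfFinrankEq k V hV
  let Θ : A ⊗[k] C ≃ₐ[k] Matrix (Fin (N * n)) (Fin (N * n)) k :=
    (Algebra.TensorProduct.comm k A C).trans <|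
      (AlgEquiv.ofBijective F ⟨hinj, hsurj⟩).trans (LinearMap.toMatrixAlgEquiv bV)
  have htne : N * n ≠ 0 := Nat.mul_ne_zero hN hnpos.ne'
  have : NeZero (N * n) := ⟨htne⟩
  have hcentral : Algebra.IsCentral k (A ⊗[k] C) := isCentral_of_algEquiv' Θ.symm
  have hC : Algebra.IsCentral k C := isCentral_right_of_tensor (A := A)
  exact ⟨C, inferInstance, inferInstance, hC, hsimple, hCfin, ⟨ψ⟩, hCdim, N * n, htne, ⟨Θ⟩⟩

end Commutant

end Groth.Agent.Lib.LeadCSA
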