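import Groth.Agent.Lib.LeadCSA
import Groth.Prelude.Def_Curves

/-! # Splitting of central simple algebras (uses `Curves.Splits` from the prelude) -/

namespace Groth.Agent.Lib.LeadCSA

open TensorProduct

section Splits

/-- universe-polymorphic transfer of centrality along an algebra isomorphism -/
theorem isCentral_of_algEquiv' {K : Type*} [CommSemiring K] {D D' : Type*} [Semiring D]
    [Semiring D'] [Algebra K D] [Algebra K D'] (e : D ≃ₐ[K] D') [Algebra.IsCentral K D] :
    Algebra.IsCentral K D' := by
  constructor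
  intro x hx
  have hx' := Subalgebra.mem_center_iff.mp hx
  have h1 : e.symm x ∈ Subalgebra.center K D := by
    rw [Subalgebra.mem_center_iff]
    intro b
    apply e.injective
    rw [map_mul, map_mul, e.apply_symm_apply, hx' (e b)]
  obtain ⟨c, hc⟩ := (Algebra.IsCentral.mem_center_iff (K := K)).mp h1
  rw [Algebra.mem_bot]
  exact ⟨c, by rw [← e.commutes c, ← hc, e.apply_symm_apply]⟩

variable {k : Type*} [Field k] {A : Type*} [Ring A] [Algebra k A]

/-- a split algebra is central simple and finite dimensional -/
theorem csa_of_splits (F : Type*) [Field F] [Algebra k F] (h : Curves.Splits k A F) :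
    Algebra.IsCentral k A ∧ IsSimpleRing A ∧ FiniteDimensional k A := by
  obtain ⟨n, hn, ⟨e⟩⟩ := h
  have : NeZero n := ⟨hn⟩
  have h1 : Algebra.IsCentral F (F ⊗[k] A) := isCentral_of_algEquiv' e.symm
  have h2 : IsSimpleRing (F ⊗[k] A) := IsSimpleRing.of_ringEquiv e.symm.toRingEquiv inferInstance
  obtain ⟨h3, h4⟩ := (csa_iff_baseChange (k := k) (A := A) F).mpr ⟨h1, h2⟩
  refine ⟨h3, h4, ?_⟩
  have h5 : Module.finrank F (F ⊗[k] A) = Module.finrank k A := Module.finrank_baseChange
  have h6 : Module.finrank F (F ⊗[k] A) = n * n := by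
    rw [e.toLinearEquiv.finrank_eq, Module.finrank_matrix]; simp
  apply Module.finite_of_finrank_pos
  rw [← h5, h6]
  exact Nat.mul_pos (Nat.pos_of_ne_zero hn) (Nat.pos_of_ne_zero hn)

/-- a finite central simple algebra is split by any separably closed extension -/
theorem splits_of_isSepClosed (F : Type*) [Field F] [Algebra k F] [IsSepClosed F]
    [Algebra.IsCentral k A] [IsSimpleRing A] [FiniteDimensional k A] : Curves.Splits k A F := by
  have h1 : Algebra.IsCentral F (F ⊗[k] A) := isCentral_baseChange F
  have h2 : IsSimpleRing (F ⊗[k] A) := isSimpleRing_baseChange F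
  obtain ⟨n, hn, ⟨e⟩⟩ := exists_algEquiv_matrix_of_isSepClosed (k := F) (A := F ⊗[k] A)
  exact ⟨n, hn, ⟨e⟩⟩

theorem csa_iff_splits_of_isSepClosed (F : Type*) [Field F] [Algebra k F] [IsSepClosed F] :
    (Algebra.IsCentral k A ∧ IsSimpleRing A ∧ FiniteDimensional k A) ↔ Curves.Splits k A F :=
  ⟨fun ⟨_, _, _⟩ => splits_of_isSepClosed F, csa_of_splits F⟩

end Splits


section Index

variable {k : Type*} [Field k] {D : Type*} [DivisionRing D] [Algebra k D] [FiniteDimensional k D]

/-- the degree of a splitting field of a division algebra of dimension `d^2` is divisible by `d` -/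
theorem dvd_finrank_of_splits {d : ℕ} (hd : Module.finrank k D = d ^ 2)
    (k' : Type*) [Field k'] [Algebra k k'] [FiniteDimensional k k'] (hs : Curves.Splits k D k') :
    d ∣ Module.finrank k k' := by
  obtain ⟨n, hn, ⟨e⟩⟩ := hs
  have h1 : Module.finrank k' (k' ⊗[k] D) = Module.finrank k D := Module.finrank_baseChange
  have h2 : Module.finrank k' (k' ⊗[k] D) = n * n := by
    rw [e.toLinearEquiv.finrank_eq, Module.finrank_matrix]; simp
  have hnd : n = d := by
    have : n * n = d * d := by rw [← h2, h1, hd, pow_two]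
    exact Nat.mul_self_inj.mp this
  subst hnd
  let V := Fin n → k'
  let ρ : D →ₐ[k] Matrix (Fin n) (Fin n) k' :=
    ((e.restrictScalars k).toAlgHom).comp (Algebra.TensorProduct.includeRight)
  let _ : Module D V := Module.compHom V ρ.toRingHom
  have hsm : ∀ (x : D) (v : V), x • v = ρ x • v := fun x v => rfl
  have : IsScalarTower k D V := ⟨fun c x v => by
    rw [hsm, hsm, map_smul, smul_assoc]⟩
  have h3 := Module.finrank_mul_finrank k D V
  have h4 : Module.finrank k V = n * Module.finrank k k' := by
    rw [Module.finrank_pi_fintype]; simp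
  rw [h4, hd, pow_two, mul_assoc] at h3
  have hn' : 0 < n := Nat.pos_of_ne_zero hn
  have := Nat.eq_of_mul_eq_mul_left hn' h3
  exact ⟨_, this.symm⟩

end Index



section SplitsCrit

variable {k : Type*} [Field k] {A : Type*} [Ring A] [Algebra k A]

theorem exists_algHom_of_splits (K : Type*) [Field K] [Algebra k K] (h : Curves.Splits k A K) :
    ∃ n : ℕ, n ≠ 0 ∧ Module.finrank k A = n * n ∧
      Nonempty (A →ₐ[k] Matrix (Fin n) (Fin n) K) := by
  obtain ⟨n, hn, ⟨e⟩⟩ := h
  refine ⟨n, hn, ?_, ⟨((e.restrictScalars k).toAlgHom).comp Algebra.TensorProduct.includeRight⟩⟩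
  have h1 : Module.finrank K (K ⊗[k] A) = Module.finrank k A := Module.finrank_baseChange
  rw [← h1, e.toLinearEquiv.finrank_eq, Module.finrank_matrix]; simp

theorem splits_of_algHom [Algebra.IsCentral k A] [IsSimpleRing A]
    (K : Type*) [Field K] [Algebra k K] {n : ℕ} (hn : n ≠ 0)
    (hdim : Module.finrank k A = n * n) (ρ : A →ₐ[k] Matrix (Fin n) (Fin n) K) :
    Curves.Splits k A K := by
  have : NeZero n := ⟨hn⟩
  have : FiniteDimensional k A := Module.finite_of_finrank_pos (by
    rw [hdim]; exact Nat.mul_pos (Nat.pos_of_ne_zero hn) (Nat.pos_of_ne_zero hn))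
  let F : K ⊗[k] A →ₐ[K] Matrix (Fin n) (Fin n) K :=
    Algebra.TensorProduct.lift (Algebra.ofId K _) ρ (fun c a => Algebra.commute_algebraMap_left _ _)
  have : IsSimpleRing (K ⊗[k] A) := isSimpleRing_baseChange K
  have hinj : Function.Injective F := RingHom.injective F.toRingHom
  have h1 : Module.finrank K (K ⊗[k] A) = Module.finrank K (Matrix (Fin n) (Fin n) K) := by
    rw [Module.finrank_baseChange, hdim, Module.finrank_matrix]; simp
  have hsurj : Function.Surjective F :=
    (LinearMap.injective_iff_surjective_of_finrank_eq_finrank (f := F.toLinearMap) h1).mp hinj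
  exact ⟨n, hn, ⟨AlgEquiv.ofBijective F ⟨hinj, hsurj⟩⟩⟩

theorem splits_tensor {B : Type*} [Ring B] [Algebra k B]
    [Algebra.IsCentral k A] [IsSimpleRing A] [Algebra.IsCentral k B] [IsSimpleRing B]
    (K : Type*) [Field K] [Algebra k K]
    (hA : Curves.Splits k A K) (hB : Curves.Splits k B K) : Curves.Splits k (A ⊗[k] B) K := by
  obtain ⟨n, hn, hdA, ⟨ρA⟩⟩ := exists_algHom_of_splits K hA
  obtain ⟨m, hm, hdB, ⟨ρB⟩⟩ := exists_algHom_of_splits K hB
  have : Algebra.IsCentral k (A ⊗[k] B) := isCentral_tensor
  have : IsSimpleRing (A ⊗[k] B) := isSimpleRing_tensor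
  let MM := Matrix (Fin n) (Fin n) K ⊗[K] Matrix (Fin m) (Fin m) K
  let f : A →ₐ[k] MM :=
    ((Algebra.TensorProduct.includeLeft : Matrix (Fin n) (Fin n) K →ₐ[K] MM).restrictScalars k).comp ρA
  let g : B →ₐ[k] MM :=
    ((Algebra.TensorProduct.includeRight : Matrix (Fin m) (Fin m) K →ₐ[K] MM).restrictScalars k).comp ρB
  let ρ₀ : A ⊗[k] B →ₐ[k] MM := Algebra.TensorProduct.lift f g (fun a b => by
    show (ρA a ⊗ₜ[K] (1 : Matrix (Fin m) (Fin m) K)) * ((1 : Matrix (Fin n) (Fin n) K) ⊗ₜ[K] ρB b) =
      ((1 : Matrix (Fin n) (Fin n) K) ⊗ₜ[K] ρB b) * (ρA a ⊗ₜ[K] (1 : Matrix (Fin m) (Fin m) K))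
    simp)
  let E : MM ≃ₐ[K] Matrix (Fin (n * m)) (Fin (n * m)) K :=
    (Matrix.kroneckerTMulAlgEquiv (Fin n) (Fin m) K K K K).trans <|
    ((Algebra.TensorProduct.lid K K).mapMatrix (m := Fin n × Fin m)).trans <|
    Matrix.reindexAlgEquiv K K finProdFinEquiv
  let ρ : A ⊗[k] B →ₐ[k] Matrix (Fin (n * m)) (Fin (n * m)) K :=
    ((E.restrictScalars k).toAlgHom).comp ρ₀
  refine splits_of_algHom K (Nat.mul_ne_zero hn hm) ?_ ρ
  rw [Module.finrank_tensorProduct, hdA, hdB]; ring

end SplitsCrit



section SplitTransfer

variable {k : Type*} [Field k] {A : Type*} [Ring A] [Algebra k A]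
  [Algebra.IsCentral k A] [IsSimpleRing A]

/-- any extension of a splitting field is a splitting field -/
theorem splits_of_field_algHom {L L' : Type*} [Field L] [Field L'] [Algebra k L] [Algebra k L']
    (f : L →ₐ[k] L') (h : Curves.Splits k A L) : Curves.Splits k A L' := by
  obtain ⟨n, hn, hd, ⟨ρ⟩⟩ := exists_algHom_of_splits L h
  exact splits_of_algHom L' hn hd ((f.mapMatrix (m := Fin n)).comp ρ)

/-- a field splitting `D` splits matrix algebras over `D` -/
theorem splits_of_algEquiv_matrix {D : Type*} [Ring D] [Algebra k D] {L : Type*} [Field L]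
    [Algebra k L] {r : ℕ} (hr : r ≠ 0) (e : A ≃ₐ[k] Matrix (Fin r) (Fin r) D)
    (h : Curves.Splits k D L) : Curves.Splits k A L := by
  obtain ⟨n, hn, hd, ⟨ρ⟩⟩ := exists_algHom_of_splits L h
  let ρ' : A →ₐ[k] Matrix (Fin (r * n)) (Fin (r * n)) L :=
    ((Matrix.reindexAlgEquiv k L finProdFinEquiv).toAlgHom).comp <|
    ((Matrix.compAlgEquiv (Fin r) (Fin n) L k).toAlgHom).comp <|
    ((ρ.mapMatrix (m := Fin r))).comp e.toAlgHom
  refine splits_of_algHom L (Nat.mul_ne_zero hr hn) ?_ ρ'
  rw [e.toLinearEquiv.finrank_eq, Module.finrank_matrix, hd]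
  simp only [Fintype.card_fin]
  ring

end SplitTransfer

section SubfieldSplits

variable {k : Type*} [Field k] {A : Type*} [Ring A] [Algebra k A]
  [Algebra.IsCentral k A] [IsSimpleRing A] [FiniteDimensional k A]

/-- a subfield of degree `deg A` splits `A` -/
theorem splits_of_subfield {L : Type*} [Field L] [Algebra k L] (ι : L →ₐ[k] A)
    (hdim : Module.finrank k A = Module.finrank k L ^ 2) : Curves.Splits k A L := by
  classical
  set n := Module.finrank k L with hn
  have hnpos : 0 < n := by
    by_contra h0
    have : n = 0 := by omega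
    rw [this] at hdim
    have hpos : 0 < Module.finrank k A := Module.finrank_pos
    omega
  have hfinL : FiniteDimensional k L := Module.finite_of_finrank_pos hnpos
  let f : L →+* Aᵐᵒᵖ := ι.toRingHom.toOpposite (fun x y => by
    show ι x * ι y = ι y * ι x
    rw [← map_mul, ← map_mul, mul_comm])
  let _ : Module L A := Module.compHom A f
  have hsm : ∀ (l : L) (a : A), l • a = a * ι l := fun l a => rfl
  have : IsScalarTower k L A := ⟨fun c l a => by
    rw [hsm, hsm, map_smul, mul_smul_comm]⟩
  have : SMulCommClass L k A := ⟨fun l c a => by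
    rw [hsm, hsm, smul_mul_assoc]⟩
  have : Module.Finite L A := Module.Finite.of_restrictScalars_finite k L A
  have hLA : Module.finrank L A = n := by
    have := Module.finrank_mul_finrank k L A
    rw [hdim, pow_two] at this
    exact Nat.eq_of_mul_eq_mul_left hnpos this
  let b := Module.finBasisOfFinrankEq L A hLA
  let ρ₀ : A →+* Module.End L A :=
    { toFun := fun a =>
        { toFun := fun x => a * x
          map_add' := fun x y => mul_add _ _ _
          map_smul' := fun l x => by simp only [hsm, RingHom.id_apply, mul_assoc] }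
      map_one' := by ext x; simp
      map_mul' := fun a a' => by ext x; simp [mul_assoc]
      map_zero' := by ext x; simp
      map_add' := fun a a' => by ext x; simp [add_mul] }
  let ρ : A →ₐ[k] Matrix (Fin n) (Fin n) L :=
    { toRingHom := (LinearMap.toMatrixAlgEquiv b).toRingEquiv.toRingHom.comp ρ₀
      commutes' := fun c => by
        have h1 : ρ₀ (algebraMap k A c) = algebraMap L (Module.End L A) (algebraMap k L c) := by
          ext x
          show algebraMap k A c * x = (algebraMap k L c) • x
          rw [hsm, AlgHom.commutes, ← Algebra.commutes]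
        show (LinearMap.toMatrixAlgEquiv b) (ρ₀ (algebraMap k A c)) = _
        rw [h1, AlgEquiv.commutes]
        rfl }
  exact splits_of_algHom L hnpos.ne' (by rw [hdim, pow_two]) ρ

end SubfieldSplits



section SepSplit

universe u v

variable {k : Type u} [Field k] {A : Type v} [Ring A] [Algebra k A]
  [Algebra.IsCentral k A] [IsSimpleRing A] [FiniteDimensional k A]

/-- a finite central simple algebra is split by a finite subextension of the separable closure -/
theorem exists_separable_splitting :
    ∃ k' : IntermediateField k (SeparableClosure k), FiniteDimensional k k' ∧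
      Curves.Splits k A k' := by
  classical
  have : IsArtinianRing A := IsArtinianRing.of_finite k A
  obtain ⟨r, hr, D, _, _, _, ⟨e⟩⟩ := IsSimpleRing.exists_algEquiv_matrix_divisionRing_finite k A
  have : Algebra.IsCentral k (Matrix (Fin r) (Fin r) D) := isCentral_of_algEquiv' e
  have : Algebra.IsCentral k D := isCentral_of_matrix (n := r)
  obtain ⟨L, hc, hs, hcent⟩ := exists_separable_self_centralizing (k := k) (D := D)
  let _ : Field L := fieldOfComm L hc
  have hdim : Module.finrank k D = Module.finrank k L ^ 2 := by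
    have := centralizer_finrank L
    rw [hcent] at this
    rw [this, pow_two]
  have hsplit : Curves.Splits k D L := splits_of_subfield L.val hdim
  have hsplitA : Curves.Splits k A L := splits_of_algEquiv_matrix hr.ne e hsplit
  let φ : L →ₐ[k] SeparableClosure k := IsSepClosed.lift
  refine ⟨φ.fieldRange, ?_, ?_⟩
  · exact Module.Finite.equiv (AlgHom.equivFieldRange φ).toLinearEquiv
  · exact splits_of_field_algHom (AlgHom.equivFieldRange φ).toAlgHom hsplitA

theorem exists_finite_separable_splitting :
    ∃ (k' : Type u) (_ : Field k') (_ : Algebra k k'), FiniteDimensional k k' ∧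
      Algebra.IsSeparable k k' ∧ Curves.Splits k A k' := by
  obtain ⟨k', hfin, hs⟩ := exists_separable_splitting (k := k) (A := A)
  exact ⟨k', inferInstance, inferInstance, hfin,
    Algebra.isSeparable_tower_bot_of_isSeparable k k' (SeparableClosure k), hs⟩

theorem exists_finite_galois_splitting :
    ∃ (k' : Type u) (_ : Field k') (_ : Algebra k k'), FiniteDimensional k k' ∧
      IsGalois k k' ∧ Curves.Splits k A k' := by
  obtain ⟨k', hfin, hs⟩ := exists_separable_splitting (k := k) (A := A)
  refine ⟨IntermediateField.normalClosure k k' (SeparableClosure k), inferInstance, inferInstance, inferInstance,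
    inferInstance, ?_⟩
  exact splits_of_field_algHom
    (IntermediateField.inclusion (IntermediateField.le_normalClosure k')) hs

end SepSplit


end Groth.Agent.Lib.LeadCSA
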