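import Mathlib

/-!
# Central simple algebras: tensor products, Skolem–Noether, centralizers (lead's library)
-/

namespace Groth.Agent.Lib.LeadCSA

open TensorProduct

section Core

variable {k K ι : Type*} [Field k] [Ring K] [Algebra k K]

/-- coordinatewise left multiplication -/
noncomputable def lmul (κ : K) (y : ι →₀ K) : ι →₀ K := y.mapRange (κ * ·) (mul_zero κ)

/-- coordinatewise right multiplication -/
noncomputable def rmul (κ : K) (y : ι →₀ K) : ι →₀ K := y.mapRange (· * κ) (zero_mul κ)

@[simp] lemma lmul_apply (κ : K) (y : ι →₀ K) (i : ι) : lmul κ y i = κ * y i := by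
  simp [lmul]

@[simp] lemma rmul_apply (κ : K) (y : ι →₀ K) (i : ι) : rmul κ y i = y i * κ := by
  simp [rmul]

/-- A subgroup of `ι →₀ K` stable under coordinatewise left and right multiplication by the
central division algebra `K` is generated by right multiples of its elements with coordinates in
the centre `k`. -/
theorem mem_closure_of_bimodule [IsSimpleRing K] [Algebra.IsCentral k K] (N : AddSubgroup (ι →₀ K))
    (hl : ∀ (κ : K) (x), x ∈ N → lmul κ x ∈ N)
    (hr : ∀ (κ : K) (x), x ∈ N → rmul κ x ∈ N) :
    ∀ x ∈ N, x ∈ AddSubgroup.closure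
      {z | ∃ y ∈ N, (∀ i, y i ∈ Set.range (algebraMap k K)) ∧ ∃ κ : K, z = rmul κ y} := by
  classical
  intro x
  induction' h : x.support.card using Nat.strong_induction_on with n ih generalizing x
  intro hx
  by_cases hx0 : x = 0
  · subst hx0; exact zero_mem _
  let P : ℕ → Prop := fun m => ∃ y ∈ N, y ≠ 0 ∧ y.support ⊆ x.support ∧ y.support.card = m
  have hP : ∃ m, P m := ⟨_, x, hx, hx0, subset_rfl, rfl⟩
  obtain ⟨y, hyN, hy0, hysub, hycard⟩ := Nat.find_spec hP
  have hmin : ∀ z ∈ N, z ≠ 0 → z.support ⊆ x.support → Nat.find hP ≤ z.support.card :=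
    fun z hz hz0 hzs => Nat.find_min' hP ⟨z, hz, hz0, hzs, rfl⟩
  obtain ⟨i0, hi0⟩ : y.support.Nonempty := Finsupp.support_nonempty_iff.mpr hy0
  have hyi0 : y i0 ≠ 0 := Finsupp.mem_support_iff.mp hi0
  -- the ideal of `i0`-coordinates of elements of `N` supported in `supp y`
  let L : TwoSidedIdeal K := TwoSidedIdeal.mk'
    {β | ∃ z ∈ N, z.support ⊆ y.support ∧ z i0 = β}
    ⟨0, zero_mem _, by simp, rfl⟩
    (by
      rintro _ _ ⟨z, hz, hzs, rfl⟩ ⟨z', hz', hzs', rfl⟩
      exact ⟨z + z', add_mem hz hz',
        (Finsupp.support_add).trans (Finset.union_subset hzs hzs'), rfl⟩)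
    (by
      rintro _ ⟨z, hz, hzs, rfl⟩
      exact ⟨-z, neg_mem hz, by rwa [Finsupp.support_neg], rfl⟩)
    (by
      rintro κ _ ⟨z, hz, hzs, rfl⟩
      refine ⟨lmul κ z, hl _ _ hz, ?_, by simp⟩
      intro i hi
      apply hzs
      rw [Finsupp.mem_support_iff] at hi ⊢
      intro h0; apply hi; simp [h0])
    (by
      rintro _ κ ⟨z, hz, hzs, rfl⟩
      refine ⟨rmul κ z, hr _ _ hz, ?_, by simp⟩
      intro i hi
      apply hzs
      rw [Finsupp.mem_support_iff] at hi ⊢
      intro h0; apply hi; simp [h0])
  have hL : L = ⊤ := by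
    rcases eq_bot_or_eq_top L with hb | ht
    · exfalso
      have : y i0 ∈ L := by
        rw [TwoSidedIdeal.mem_mk']
        exact ⟨y, hyN, subset_rfl, rfl⟩
      rw [hb, TwoSidedIdeal.mem_bot] at this
      exact hyi0 this
    · exact ht
  obtain ⟨y', hy'N, hy'sub, hy'i0⟩ : ∃ z ∈ N, z.support ⊆ y.support ∧ z i0 = 1 := by
    have : (1 : K) ∈ L := by rw [hL]; trivial
    rwa [TwoSidedIdeal.mem_mk'] at this
  have hcomm : ∀ (κ : K) (i : ι), κ * y' i = y' i * κ := by
    intro κ
    set w := lmul κ y' - rmul κ y' with hw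
    have hwN : w ∈ N := sub_mem (hl _ _ hy'N) (hr _ _ hy'N)
    have hwsupp : w.support ⊆ y.support.erase i0 := by
      intro i hi
      rw [Finsupp.mem_support_iff] at hi
      rw [Finset.mem_erase]
      refine ⟨?_, ?_⟩
      · rintro rfl
        apply hi
        simp [hw, hy'i0]
      · by_contra hnot
        apply hi
        have h0 : y' i = 0 := by
          have : i ∉ y'.support := fun hmem => hnot (hy'sub hmem)
          simpa using this
        simp [hw, h0]
    have hw0 : w = 0 := by
      by_contra hne
      have h1 := hmin w hwN hne (hwsupp.trans ((Finset.erase_subset _ _).trans hysub))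
      have h2 : w.support.card < y.support.card :=
        lt_of_le_of_lt (Finset.card_le_card hwsupp) (Finset.card_erase_lt_of_mem hi0)
      omega
    intro i
    have := DFunLike.congr_fun hw0 i
    simp only [hw, Finsupp.coe_sub, Pi.sub_apply, lmul_apply, rmul_apply, Finsupp.coe_zero,
      Pi.zero_apply] at this
    exact sub_eq_zero.mp this
  have hy'k : ∀ i, y' i ∈ Set.range (algebraMap k K) := by
    intro i
    have : y' i ∈ Subalgebra.center k K := by
      rw [Subalgebra.mem_center_iff]
      intro b
      exact hcomm b i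
    obtain ⟨a, ha⟩ := (Algebra.IsCentral.mem_center_iff (K := k)).mp this
    exact ⟨a, ha.symm⟩
  set x' := x - rmul (x i0) y' with hx'
  have hx'N : x' ∈ N := sub_mem hx (hr _ _ hy'N)
  have hx'supp : x'.support ⊆ x.support.erase i0 := by
    intro i hi
    rw [Finsupp.mem_support_iff] at hi
    rw [Finset.mem_erase]
    refine ⟨?_, ?_⟩
    · rintro rfl
      apply hi
      simp [hx', hy'i0]
    · rw [Finsupp.mem_support_iff]
      intro h0
      apply hi
      have : y' i = 0 := by
        have : i ∉ y'.support := by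
          intro hmem
          exact (Finsupp.mem_support_iff.mp (hysub (hy'sub hmem))) h0
        simpa using this
      simp [hx', h0, this]
  have hlt : x'.support.card < n := by
    rw [← h]
    exact lt_of_le_of_lt (Finset.card_le_card hx'supp)
      (Finset.card_erase_lt_of_mem (hysub hi0))
  have hx'mem := ih _ hlt x' rfl hx'N
  have hgen : rmul (x i0) y' ∈ AddSubgroup.closure
      {z | ∃ y ∈ N, (∀ i, y i ∈ Set.range (algebraMap k K)) ∧ ∃ κ : K, z = rmul κ y} :=
    AddSubgroup.subset_closure ⟨y', hy'N, hy'k, x i0, rfl⟩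
  have : x = x' + rmul (x i0) y' := by simp [hx']
  rw [this]
  exact add_mem hx'mem hgen

end Core

section Ideals

variable {k : Type*} [Field k] {A : Type*} [Ring A] [Algebra k A]
  {K : Type*} [Ring K] [Algebra k K]

/-- **Ideals of `A ⊗ K`** for `K` a central simple algebra are generated by elements `a ⊗ 1`. -/
theorem twoSidedIdeal_tensor_eq_span [IsSimpleRing K] [Algebra.IsCentral k K] (I : TwoSidedIdeal (A ⊗[k] K)) :
    I = TwoSidedIdeal.span ((fun a : A => a ⊗ₜ[k] (1 : K)) '' {a : A | a ⊗ₜ[k] (1 : K) ∈ I}) := by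
  classical
  apply le_antisymm
  swap
  · rw [TwoSidedIdeal.span_le]
    rintro _ ⟨a, ha, rfl⟩
    exact ha
  intro x hx
  let b := Module.Basis.ofVectorSpace k A
  let e := TensorProduct.equivFinsuppOfBasisLeft (N := K) b
  have hel : ∀ (κ : K) (x : A ⊗[k] K), e ((1 ⊗ₜ κ) * x) = lmul κ (e x) := by
    intro κ x
    induction x using TensorProduct.induction_on with
    | zero => ext i; simp
    | tmul a c =>
      ext i
      simp [e]
    | add x y hx hy =>
      rw [mul_add, map_add, hx, hy]
      ext i; simp [mul_add]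
  have her : ∀ (κ : K) (x : A ⊗[k] K), e (x * (1 ⊗ₜ κ)) = rmul κ (e x) := by
    intro κ x
    induction x using TensorProduct.induction_on with
    | zero => ext i; simp
    | tmul a c =>
      ext i
      simp [e]
    | add x y hx hy =>
      rw [add_mul, map_add, hx, hy]
      ext i; simp [add_mul]
  let N : AddSubgroup (_ →₀ K) :=
    (AddSubgroup.ofClass I).comap e.symm.toLinearMap.toAddMonoidHom
  have hN : ∀ z, z ∈ N ↔ e.symm z ∈ I := fun z => Iff.rfl
  have hsl : ∀ (κ : K) z, e.symm (lmul κ z) = (1 ⊗ₜ κ) * e.symm z := by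
    intro κ z
    rw [LinearEquiv.symm_apply_eq, hel, LinearEquiv.apply_symm_apply]
  have hsr : ∀ (κ : K) z, e.symm (rmul κ z) = e.symm z * (1 ⊗ₜ κ) := by
    intro κ z
    rw [LinearEquiv.symm_apply_eq, her, LinearEquiv.apply_symm_apply]
  have hl : ∀ (κ : K) (x), x ∈ N → lmul κ x ∈ N := by
    intro κ z hz
    rw [hN] at hz ⊢
    rw [hsl]
    exact I.mul_mem_left _ _ hz
  have hr : ∀ (κ : K) (x), x ∈ N → rmul κ x ∈ N := by
    intro κ z hz
    rw [hN] at hz ⊢
    rw [hsr]
    exact I.mul_mem_right _ _ hz
  have hex : e x ∈ N := by rw [hN]; simpa using hx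
  have hcl := mem_closure_of_bimodule (k := k) N hl hr (e x) hex
  set J := TwoSidedIdeal.span
    ((fun a : A => a ⊗ₜ[k] (1 : K)) '' {a : A | a ⊗ₜ[k] (1 : K) ∈ I}) with hJ
  suffices h : ∀ z ∈ AddSubgroup.closure
      {z | ∃ y ∈ N, (∀ i, y i ∈ Set.range (algebraMap k K)) ∧ ∃ κ : K, z = rmul κ y},
      e.symm z ∈ J by
    simpa using h _ hcl
  intro z hz
  induction hz using AddSubgroup.closure_induction with
  | mem z hz =>
    obtain ⟨y, hyN, hyk, κ, rfl⟩ := hz
    rw [hsr]
    apply J.mul_mem_right
    choose c hc using hyk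
    have hy : e.symm y = (∑ i ∈ y.support, c i • b i) ⊗ₜ[k] (1 : K) := by
      rw [TensorProduct.equivFinsuppOfBasisLeft_symm_apply, Finsupp.sum, TensorProduct.sum_tmul]
      refine Finset.sum_congr rfl fun i _ => ?_
      rw [← hc i, Algebra.algebraMap_eq_smul_one, TensorProduct.smul_tmul]
    rw [hy]
    apply TwoSidedIdeal.subset_span
    refine ⟨_, ?_, rfl⟩
    show _ ∈ I
    rw [← hy]
    exact (hN y).mp hyN
  | zero => simp
  | add z w _ _ hz hw => rw [map_add]; exact J.add_mem hz hw
  | neg z _ hz => rw [map_neg]; exact J.neg_mem hz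

/-- simple ⊗ central simple is simple (no finiteness needed). -/
theorem isSimpleRing_tensor [IsSimpleRing A] [IsSimpleRing K] [Algebra.IsCentral k K] :
    IsSimpleRing (A ⊗[k] K) := by
  have : Nontrivial (A ⊗[k] K) := inferInstance
  refine IsSimpleRing.of_eq_bot_or_eq_top fun I => ?_
  rw [twoSidedIdeal_tensor_eq_span I]
  let I' : TwoSidedIdeal A := TwoSidedIdeal.comap
    (Algebra.TensorProduct.includeLeft : A →ₐ[k] A ⊗[k] K).toRingHom I
  have hI' : ∀ a, a ∈ I' ↔ a ⊗ₜ[k] (1 : K) ∈ I := fun a => by
    simp only [I', TwoSidedIdeal.mem_comap]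
    rfl
  rcases eq_bot_or_eq_top I' with hb | ht
  · left
    rw [eq_bot_iff, TwoSidedIdeal.span_le]
    rintro _ ⟨a, ha, rfl⟩
    have : a ∈ I' := (hI' a).mpr ha
    rw [hb, TwoSidedIdeal.mem_bot] at this
    subst this
    simp
  · right
    rw [eq_top_iff]
    intro x _
    have h1 : (1 : A) ⊗ₜ[k] (1 : K) ∈ I := by
      rw [← hI', ht]; trivial
    have : x = x * ((1 : A) ⊗ₜ[k] (1 : K)) := by
      rw [← Algebra.TensorProduct.one_def, mul_one]
    rw [this]
    apply TwoSidedIdeal.mul_mem_left
    exact TwoSidedIdeal.subset_span ⟨1, h1, rfl⟩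

end Ideals

section Centralizer

variable {k : Type*} [Field k] {A A' : Type*} [Ring A] [Ring A'] [Algebra k A] [Algebra k A']

/-- The centralizer of `B ⊗ B'` in `A ⊗ A'` is `C_A(B) ⊗ C_A'(B')`. -/
theorem centralizer_tensor (B : Subalgebra k A) (B' : Subalgebra k A') :
    Subalgebra.centralizer k
      ((Algebra.TensorProduct.map B.val B'.val).range : Set (A ⊗[k] A')) =
      (Algebra.TensorProduct.map (Subalgebra.centralizer k (B : Set A)).val
        (Subalgebra.centralizer k (B' : Set A')).val).range := by
  set C := Subalgebra.centralizer k (B : Set A) with hC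
  set C' := Subalgebra.centralizer k (B' : Set A') with hC'
  apply le_antisymm
  · intro w hw
    rw [Subalgebra.mem_centralizer_iff] at hw
    have h1 : w ∈ Subalgebra.centralizer k
        (Algebra.TensorProduct.includeLeft (S := k) (R := k) (A := A) (B := A') '' (B : Set A)) := by
      rw [Subalgebra.mem_centralizer_iff]
      rintro _ ⟨b, hb, rfl⟩
      apply hw
      exact ⟨(⟨b, hb⟩ : B) ⊗ₜ (1 : B'), by simp⟩
    rw [Subalgebra.centralizer_coe_image_includeLeft_eq_center_tensorProduct] at h1
    obtain ⟨w₁, rfl⟩ := h1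
    have hinj : Function.Injective (Algebra.TensorProduct.map C.val (AlgHom.id k A')) := by
      have : ⇑(Algebra.TensorProduct.map C.val (AlgHom.id k A')) =
          ⇑(LinearMap.rTensor A' C.val.toLinearMap) := by
        ext x
        induction x using TensorProduct.induction_on with
        | zero => simp
        | tmul a b => simp
        | add x y hx hy => simp only [map_add, hx, hy]
      rw [this]
      exact Module.Flat.rTensor_preserves_injective_linearMap _ Subtype.val_injective
    have h2 : w₁ ∈ Subalgebra.centralizer k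
        (Algebra.TensorProduct.includeRight (R := k) (A := C) (B := A') '' (B' : Set A')) := by
      rw [Subalgebra.mem_centralizer_iff]
      rintro _ ⟨b', hb', rfl⟩
      apply hinj
      rw [map_mul, map_mul]
      have := hw ((1 : A) ⊗ₜ b') ⟨(1 : B) ⊗ₜ (⟨b', hb'⟩ : B'), by simp⟩
      simpa using this
    rw [Subalgebra.centralizer_coe_image_includeRight_eq_center_tensorProduct] at h2
    obtain ⟨w₂, hw₂⟩ := h2
    have key : ∀ z : C ⊗[k] C', (Algebra.TensorProduct.map C.val C'.val) z =
        (Algebra.TensorProduct.map C.val (AlgHom.id k A'))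
          ((Algebra.TensorProduct.map (AlgHom.id k C) C'.val) z) := by
      intro z
      induction z using TensorProduct.induction_on with
      | zero => simp
      | tmul a b => simp
      | add x y hx hy => simp only [map_add, hx, hy]
    refine ⟨w₂, ?_⟩
    rw [← hw₂]
    exact key w₂
  · rintro _ ⟨w, rfl⟩
    rw [Subalgebra.mem_centralizer_iff]
    rintro _ ⟨x, rfl⟩
    induction w using TensorProduct.induction_on with
    | zero => simp
    | tmul c c' =>
      induction x using TensorProduct.induction_on with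
      | zero => simp
      | tmul b b' =>
        have e1 : (Algebra.TensorProduct.map B.val B'.val).toRingHom (b ⊗ₜ[k] b') =
            (b : A) ⊗ₜ[k] (b' : A') := by simp
        have e2 : (Algebra.TensorProduct.map C.val C'.val).toRingHom (c ⊗ₜ[k] c') =
            (c : A) ⊗ₜ[k] (c' : A') := by simp
        rw [e1, e2, Algebra.TensorProduct.tmul_mul_tmul, Algebra.TensorProduct.tmul_mul_tmul,
          (Subalgebra.mem_centralizer_iff k).mp c.2 b b.2,
          (Subalgebra.mem_centralizer_iff k).mp c'.2 b' b'.2]
      | add x y hx hy =>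
        rw [map_add, add_mul, mul_add, hx, hy]
    | add y z hy hz =>
      rw [map_add, add_mul, mul_add, hy, hz]

end Centralizer



section ModIso

variable {k : Type*} [Field k] {R : Type*} [Ring R] [Algebra k R] [IsSimpleRing R] [IsArtinianRing R]

/-- any two simple modules over a simple artinian ring are isomorphic -/
theorem simple_iso {M M' : Type*} [AddCommGroup M] [Module R M] [AddCommGroup M'] [Module R M']
    (S : Submodule R M) (S' : Submodule R M') [IsSimpleModule R S] [IsSimpleModule R S'] :
    Nonempty (S ≃ₗ[R] S') := by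
  let S₁ : Submodule R (M × M') := S.map (LinearMap.inl R M M')
  let S₂ : Submodule R (M × M') := S'.map (LinearMap.inr R M M')
  let e₁ : S ≃ₗ[R] S₁ := S.equivMapOfInjective _ LinearMap.inl_injective
  let e₂ : S' ≃ₗ[R] S₂ := S'.equivMapOfInjective _ LinearMap.inr_injective
  have : IsSimpleModule R S₁ := IsSimpleModule.congr e₁.symm
  have : IsSimpleModule R S₂ := IsSimpleModule.congr e₂.symm
  obtain ⟨e⟩ := IsSimpleRing.isIsotypic R (M × M') S₁ S₂
  exact ⟨e₁.trans (e.symm.trans e₂.symm)⟩

end ModIso



section ModIso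

variable {k : Type*} [Field k] {R : Type*} [Ring R] [Algebra k R] [IsSimpleRing R] [IsArtinianRing R]

/-- structure of a finite module over a simple artinian ring, with dimension count -/
theorem exists_equiv_fun {M : Type*} [AddCommGroup M] [Module R M] [Module k M] [IsScalarTower k R M]
    [Module.Finite k M] [Nontrivial M] :
    ∃ (n : ℕ) (S : Submodule R M), n ≠ 0 ∧ IsSimpleModule R S ∧ Nonempty (M ≃ₗ[R] Fin n → S) ∧
      Module.finrank k M = n * Module.finrank k S ∧ 0 < Module.finrank k S := by
  have : Module.Finite R M := Module.Finite.of_restrictScalars_finite k R M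
  obtain ⟨n, hn, S, hS, ⟨e⟩⟩ := (IsSimpleRing.isIsotypic R M).linearEquiv_fun
  have : Module.Finite k S := Module.Finite.of_injective (S.subtype.restrictScalars k)
    S.subtype_injective
  refine ⟨n, S, hn.ne, hS, ⟨e⟩, ?_, ?_⟩
  · have e' : M ≃ₗ[k] (Fin n → S) := e.restrictScalars k
    rw [e'.finrank_eq, Module.finrank_pi_fintype]
    simp
  · have : Nontrivial S := IsSimpleModule.nontrivial R S
    exact Module.finrank_pos

theorem nonempty_linearEquiv_of_finrank_eq {M M' : Type*} [AddCommGroup M] [Module R M] [Module k M]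
    [IsScalarTower k R M] [Module.Finite k M] [AddCommGroup M'] [Module R M'] [Module k M']
    [IsScalarTower k R M'] [Module.Finite k M']
    (h : Module.finrank k M = Module.finrank k M') : Nonempty (M ≃ₗ[R] M') := by
  by_cases hM : Subsingleton M
  · have h0 : Module.finrank k M' = 0 := by rw [← h]; exact Module.finrank_zero_of_subsingleton
    have : Subsingleton M' := Module.finrank_zero_iff.mp h0
    exact ⟨LinearEquiv.ofSubsingleton M M'⟩
  rw [not_subsingleton_iff_nontrivial] at hM
  have hM' : Nontrivial M' := by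
    by_contra hn
    rw [not_nontrivial_iff_subsingleton] at hn
    have : Module.finrank k M = 0 := by rw [h]; exact Module.finrank_zero_of_subsingleton
    exact not_subsingleton M (Module.finrank_zero_iff.mp this)
  obtain ⟨n, S, hn, hS, ⟨e⟩, hdim, hpos⟩ := exists_equiv_fun (k := k) (R := R) (M := M)
  obtain ⟨n', S', hn', hS', ⟨e'⟩, hdim', hpos'⟩ := exists_equiv_fun (k := k) (R := R) (M := M')
  obtain ⟨f⟩ := simple_iso S S'
  have hf : Module.finrank k S = Module.finrank k S' := (f.restrictScalars k).finrank_eq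
  have hnn : n = n' := by
    rw [hdim, hdim', hf] at h
    exact Nat.eq_of_mul_eq_mul_right hpos' h
  subst hnn
  exact ⟨e.trans ((LinearEquiv.piCongrRight fun _ => f).trans e'.symm)⟩

end ModIso



section SN

variable {k : Type*} [Field k] {R : Type*} [Ring R] [Algebra k R] [IsSimpleRing R] [IsArtinianRing R]

theorem exists_intertwiner {V W : Type*} [AddCommGroup V] [Module k V] [Module.Finite k V]
    [AddCommGroup W] [Module k W] [Module.Finite k W]
    (φ : R →ₐ[k] Module.End k V) (ψ : R →ₐ[k] Module.End k W)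
    (h : Module.finrank k V = Module.finrank k W) :
    ∃ T : V ≃ₗ[k] W, ∀ r v, T (φ r v) = ψ r (T v) := by
  let _ : Module R V := Module.compHom V φ.toRingHom
  let _ : Module R W := Module.compHom W ψ.toRingHom
  have hV : ∀ (r : R) (v : V), r • v = φ r v := fun r v => rfl
  have hW : ∀ (r : R) (v : W), r • v = ψ r v := fun r v => rfl
  have : IsScalarTower k R V := ⟨fun c r v => by rw [hV, hV, map_smul]; rfl⟩
  have : IsScalarTower k R W := ⟨fun c r v => by rw [hW, hW, map_smul]; rfl⟩
  obtain ⟨e⟩ := nonempty_linearEquiv_of_finrank_eq (k := k) (R := R) h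
  exact ⟨e.restrictScalars k, fun r v => e.map_smul r v⟩

variable {A : Type*} [Ring A] [Algebra k A] [Algebra.IsCentral k A] [IsSimpleRing A]
  [FiniteDimensional k A]

/-- **Skolem–Noether** -/
theorem skolem_noether {B : Type*} [Ring B] [Algebra k B] [IsSimpleRing B] (f g : B →ₐ[k] A) :
    ∃ x : Aˣ, ∀ b : B, f b = (x : A) * g b * (x⁻¹ : Aˣ) := by
  have hfin : FiniteDimensional k B := FiniteDimensional.of_injective f.toLinearMap
    (RingHom.injective f.toRingHom)
  have : IsSimpleRing (B ⊗[k] Aᵐᵒᵖ) := isSimpleRing_tensor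
  have : IsArtinianRing (B ⊗[k] Aᵐᵒᵖ) := IsArtinianRing.of_finite k _
  let φ : B ⊗[k] Aᵐᵒᵖ →ₐ[k] Module.End k A :=
    (AlgHom.mulLeftRight k A).comp (Algebra.TensorProduct.map f (AlgHom.id k Aᵐᵒᵖ))
  let ψ : B ⊗[k] Aᵐᵒᵖ →ₐ[k] Module.End k A :=
    (AlgHom.mulLeftRight k A).comp (Algebra.TensorProduct.map g (AlgHom.id k Aᵐᵒᵖ))
  obtain ⟨T, hT⟩ := exists_intertwiner φ ψ rfl
  have hφ : ∀ (b : B) (a m : A), φ (b ⊗ₜ MulOpposite.op a) m = f b * m * a := by
    intro b a m; simp [φ, AlgHom.mulLeftRight_apply]
  have hψ : ∀ (b : B) (a m : A), ψ (b ⊗ₜ MulOpposite.op a) m = g b * m * a := by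
    intro b a m; simp [ψ, AlgHom.mulLeftRight_apply]
  have hT' : ∀ (b : B) (a m : A), T (f b * m * a) = g b * T m * a := by
    intro b a m
    rw [← hφ, hT, hψ]
  have hTr : ∀ a : A, T a = T 1 * a := by
    intro a
    have := hT' 1 a 1
    simpa using this
  have hTs : ∀ a : A, T.symm a = T.symm 1 * a := by
    intro a
    apply T.injective
    rw [T.apply_symm_apply]
    have := hT' 1 a (T.symm 1)
    simp only [map_one, one_mul, LinearEquiv.apply_symm_apply] at this
    rw [this]
  have h1 : T 1 * T.symm 1 = 1 := by rw [← hTr, T.apply_symm_apply]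
  have h2 : T.symm 1 * T 1 = 1 := by rw [← hTs, T.symm_apply_apply]
  let x : Aˣ := ⟨T.symm 1, T 1, h2, h1⟩
  refine ⟨x, fun b => ?_⟩
  have h3 : T 1 * f b = g b * T 1 := by
    rw [← hTr]
    have := hT' b 1 1
    simpa using this
  show f b = T.symm 1 * g b * T 1
  rw [mul_assoc, ← h3, ← mul_assoc, h2, one_mul]

end SN



section Azumaya

variable {k : Type*} [Field k] {A : Type*} [Ring A] [Algebra k A] [Algebra.IsCentral k A]
  [IsSimpleRing A] [FiniteDimensional k A]

theorem mulLeftRight_bijective : Function.Bijective (AlgHom.mulLeftRight k A) := by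
  have : IsSimpleRing (A ⊗[k] Aᵐᵒᵖ) := isSimpleRing_tensor
  have hinj : Function.Injective (AlgHom.mulLeftRight k A) :=
    RingHom.injective (AlgHom.mulLeftRight k A).toRingHom
  refine ⟨hinj, ?_⟩
  have hdim : Module.finrank k (A ⊗[k] Aᵐᵒᵖ) = Module.finrank k (Module.End k A) := by
    rw [Module.finrank_tensorProduct, Module.finrank_linearMap]
    congr 1
    exact (MulOpposite.opLinearEquiv k : A ≃ₗ[k] Aᵐᵒᵖ).symm.finrank_eq
  exact (LinearMap.injective_iff_surjective_of_finrank_eq_finrank
    (f := (AlgHom.mulLeftRight k A).toLinearMap) hdim).mp hinj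

end Azumaya

section Central

variable {k : Type*} [Field k] {A A' : Type*} [Ring A] [Ring A'] [Algebra k A] [Algebra k A']

theorem isCentral_tensor [Algebra.IsCentral k A] [Algebra.IsCentral k A'] :
    Algebra.IsCentral k (A ⊗[k] A') := by
  constructor
  intro w hw
  have h1 : w ∈ Subalgebra.centralizer k
      ((Algebra.TensorProduct.map (⊤ : Subalgebra k A).val (⊤ : Subalgebra k A').val).range :
        Set (A ⊗[k] A')) := by
    rw [Subalgebra.mem_centralizer_iff]
    intro g _
    exact (Subalgebra.mem_center_iff.mp hw g)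
  rw [centralizer_tensor] at h1
  obtain ⟨z, rfl⟩ := h1
  clear hw
  induction z using TensorProduct.induction_on with
  | zero => rw [map_zero]; exact zero_mem _
  | tmul c c' =>
    have hc : (c : A) ∈ Subalgebra.center k A := by
      have := c.2
      rw [Subalgebra.mem_centralizer_iff] at this
      rw [Subalgebra.mem_center_iff]
      intro b; exact this b (by simp)
    have hc' : (c' : A') ∈ Subalgebra.center k A' := by
      have := c'.2
      rw [Subalgebra.mem_centralizer_iff] at this
      rw [Subalgebra.mem_center_iff]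
      intro b; exact this b (by simp)
    obtain ⟨a, ha⟩ := (Algebra.IsCentral.mem_center_iff (K := k)).mp hc
    obtain ⟨a', ha'⟩ := (Algebra.IsCentral.mem_center_iff (K := k)).mp hc'
    rw [Algebra.mem_bot]
    refine ⟨a * a', ?_⟩
    simp only [AlgHom.toRingHom_eq_coe, RingHom.coe_coe, Algebra.TensorProduct.map_tmul,
      Subalgebra.coe_val, ha, ha']
    rw [Algebra.algebraMap_eq_smul_one, Algebra.algebraMap_eq_smul_one a',
      Algebra.algebraMap_eq_smul_one a, TensorProduct.smul_tmul_smul,
      Algebra.TensorProduct.one_def]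
  | add x y hx hy =>
    rw [map_add]
    exact add_mem hx hy

end Central



section EndSimple

variable {k : Type*} [Field k] {R : Type*} [Ring R] [Algebra k R] [IsSimpleRing R]
  [Module.Finite k R]

theorem end_simple_and_finrank {V : Type*} [AddCommGroup V] [Module R V] [Module k V]
    [IsScalarTower k R V] [Module.Finite k V] [Nontrivial V] :
    IsSimpleRing (Module.End R V) ∧
      Module.finrank k R * Module.finrank k (Module.End R V) = (Module.finrank k V) ^ 2 := by
  classical
  have : IsArtinianRing R := IsArtinianRing.of_finite k R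
  obtain ⟨r, S, hr, hS, ⟨eR⟩, hdimR, hposS⟩ := exists_equiv_fun (k := k) (R := R) (M := R)
  obtain ⟨n, S', hn, hS', ⟨eV⟩, hdimV, hposS'⟩ := exists_equiv_fun (k := k) (R := R) (M := V)
  obtain ⟨f⟩ := simple_iso S S'
  have hf : Module.finrank k S = Module.finrank k S' := (f.restrictScalars k).finrank_eq
  -- End_R(V) ≅ M_n(End_R S')
  let E1 : Module.End R V ≃ₐ[k] Matrix (Fin n) (Fin n) (Module.End R S') :=
    (eV.conjAlgEquiv k).trans (endVecAlgEquivMatrixEnd (Fin n) k R S')
  let E2 : Rᵐᵒᵖ ≃ₐ[k] Matrix (Fin r) (Fin r) (Module.End R S) :=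
    (AlgEquiv.moduleEndSelf k).trans
      ((eR.conjAlgEquiv k).trans (endVecAlgEquivMatrixEnd (Fin r) k R S))
  let E3 : Module.End R S ≃ₐ[k] Module.End R S' := f.conjAlgEquiv k
  have hnz : NeZero n := ⟨hn⟩
  refine ⟨?_, ?_⟩
  · have : IsSimpleRing (Matrix (Fin n) (Fin n) (Module.End R S')) := inferInstance
    exact IsSimpleRing.of_ringEquiv E1.symm.toRingEquiv this
  · set dL := Module.finrank k (Module.End R S) with hdL
    have h1 : Module.finrank k (Module.End R V) = n * n * dL := by
      rw [E1.toLinearEquiv.finrank_eq, Module.finrank_matrix, ← E3.toLinearEquiv.finrank_eq]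
      simp [hdL]
    have h2 : Module.finrank k R = r * r * dL := by
      have : Module.finrank k R = Module.finrank k Rᵐᵒᵖ :=
        (MulOpposite.opLinearEquiv k : R ≃ₗ[k] Rᵐᵒᵖ).finrank_eq
      rw [this, E2.toLinearEquiv.finrank_eq, Module.finrank_matrix]
      simp [hdL]
    have h3 : Module.finrank k S = r * dL := by
      have : r * Module.finrank k S = r * (r * dL) := by rw [← hdimR, h2]; ring
      exact Nat.eq_of_mul_eq_mul_left (Nat.pos_of_ne_zero hr) this
    rw [h1, h2, hdimV, ← hf, h3]
    ring

end EndSimple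



section Cent

variable {k : Type*} [Field k] {A : Type*} [Ring A] [Algebra k A] [Algebra.IsCentral k A]
  [IsSimpleRing A] [FiniteDimensional k A]

theorem centralizer_simple_and_finrank (B : Subalgebra k A) [IsSimpleRing B] :
    IsSimpleRing (Subalgebra.centralizer k (B : Set A)) ∧
      Module.finrank k A =
        Module.finrank k B * Module.finrank k (Subalgebra.centralizer k (B : Set A)) := by
  classical
  set C := Subalgebra.centralizer k (B : Set A) with hC
  have : IsSimpleRing (B ⊗[k] Aᵐᵒᵖ) := isSimpleRing_tensor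
  let φ : B ⊗[k] Aᵐᵒᵖ →ₐ[k] Module.End k A :=
    (AlgHom.mulLeftRight k A).comp (Algebra.TensorProduct.map B.val (AlgHom.id k Aᵐᵒᵖ))
  have hφ : ∀ (b : B) (a m : A), φ (b ⊗ₜ MulOpposite.op a) m = b * m * a := by
    intro b a m; simp [φ, AlgHom.mulLeftRight_apply]
  let _ : Module (B ⊗[k] Aᵐᵒᵖ) A := Module.compHom A φ.toRingHom
  have hsm : ∀ (r : B ⊗[k] Aᵐᵒᵖ) (v : A), r • v = φ r v := fun r v => rfl
  have : IsScalarTower k (B ⊗[k] Aᵐᵒᵖ) A := ⟨fun c r v => by rw [hsm, hsm, map_smul]; rfl⟩
  obtain ⟨hsimple, hdim⟩ := end_simple_and_finrank (k := k) (R := B ⊗[k] Aᵐᵒᵖ) (V := A)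
  -- the equivalence C ≃ End_R(A)
  have hcomm : ∀ (c : C) (r : B ⊗[k] Aᵐᵒᵖ) (m : A), (c : A) * (r • m) = r • ((c : A) * m) := by
    intro c r m
    induction r using TensorProduct.induction_on with
    | zero => rw [hsm, hsm, map_zero, LinearMap.zero_apply, LinearMap.zero_apply, mul_zero]
    | tmul b a =>
      rw [hsm, hsm]
      obtain ⟨a, rfl⟩ := MulOpposite.op_surjective a
      rw [hφ, hφ]
      have := (Subalgebra.mem_centralizer_iff k).mp c.2 b b.2
      rw [← mul_assoc, ← mul_assoc, ← mul_assoc, this]
    | add x y hx hy =>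
      rw [hsm, hsm] at hx hy
      rw [hsm, hsm, map_add, LinearMap.add_apply, LinearMap.add_apply, mul_add, hx, hy]
  let toE : C →ₐ[k] Module.End (B ⊗[k] Aᵐᵒᵖ) A :=
    { toFun := fun c =>
        { toFun := fun m => (c : A) * m
          map_add' := fun x y => mul_add _ _ _
          map_smul' := fun r m => hcomm c r m }
      map_one' := by ext m; simp
      map_mul' := fun c c' => by ext m; simp [mul_assoc]
      map_zero' := by ext m; simp
      map_add' := fun c c' => by ext m; simp [add_mul]
      commutes' := fun c => by ext m; simp [Algebra.smul_def] }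
  have htoE : ∀ (c : C) (m : A), toE c m = (c : A) * m := fun c m => rfl
  have hbij : Function.Bijective toE := by
    constructor
    · intro c c' h
      have := LinearMap.congr_fun h 1
      rw [htoE, htoE, mul_one, mul_one] at this
      exact Subtype.ext this
    · intro T
      have hTl : ∀ (b : B) (m : A), T ((b : A) * m) = (b : A) * T m := by
        intro b m
        have := T.map_smul (b ⊗ₜ MulOpposite.op (1 : A)) m
        rw [hsm, hsm, hφ, hφ] at this
        simpa using this
      have hTr : ∀ (a m : A), T (m * a) = T m * a := by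
        intro a m
        have := T.map_smul ((1 : B) ⊗ₜ MulOpposite.op a) m
        rw [hsm, hsm, hφ, hφ] at this
        simpa using this
      have hT1 : T 1 ∈ C := by
        rw [hC, Subalgebra.mem_centralizer_iff]
        intro b hb
        have e1 := hTl ⟨b, hb⟩ 1
        have e2 := hTr b 1
        simp only [mul_one, one_mul] at e1 e2
        rw [← e1, ← e2]
      refine ⟨⟨T 1, hT1⟩, ?_⟩
      ext m
      rw [htoE]
      show T 1 * m = T m
      rw [← hTr, one_mul]
  let eqv : C ≃ₐ[k] Module.End (B ⊗[k] Aᵐᵒᵖ) A := AlgEquiv.ofBijective toE hbij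
  refine ⟨IsSimpleRing.of_ringEquiv eqv.symm.toRingEquiv hsimple, ?_⟩
  have h1 : Module.finrank k (Module.End (B ⊗[k] Aᵐᵒᵖ) A) = Module.finrank k C :=
    eqv.toLinearEquiv.finrank_eq.symm
  have h2 : Module.finrank k (B ⊗[k] Aᵐᵒᵖ) = Module.finrank k B * Module.finrank k A := by
    rw [Module.finrank_tensorProduct]
    congr 1
    exact (MulOpposite.opLinearEquiv k : A ≃ₗ[k] Aᵐᵒᵖ).symm.finrank_eq
  rw [h1, h2] at hdim
  have hpos : 0 < Module.finrank k A := Module.finrank_pos
  have : Module.finrank k A * (Module.finrank k B * Module.finrank k C) =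
      Module.finrank k A * Module.finrank k A := by
    rw [← pow_two, ← hdim]; ring
  exact (Nat.eq_of_mul_eq_mul_left hpos this).symm

end Cent



section Cent

variable {k : Type*} [Field k] {A : Type*} [Ring A] [Algebra k A] [Algebra.IsCentral k A]
  [IsSimpleRing A] [FiniteDimensional k A]

theorem centralizer_simple (B : Subalgebra k A) [IsSimpleRing B] :
    IsSimpleRing (Subalgebra.centralizer k (B : Set A)) :=
  (centralizer_simple_and_finrank B).1

theorem centralizer_finrank (B : Subalgebra k A) [IsSimpleRing B] :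
    Module.finrank k A =
      Module.finrank k B * Module.finrank k (Subalgebra.centralizer k (B : Set A)) :=
  (centralizer_simple_and_finrank B).2

theorem double_centralizer (B : Subalgebra k A) [IsSimpleRing B] :
    Subalgebra.centralizer k (Subalgebra.centralizer k (B : Set A) : Set A) = B := by
  set C := Subalgebra.centralizer k (B : Set A) with hC
  have : IsSimpleRing C := centralizer_simple B
  have h1 := centralizer_finrank B
  have h2 := centralizer_finrank C
  rw [← hC] at h1
  have hle : B ≤ Subalgebra.centralizer k (C : Set A) := by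
    intro b hb
    rw [Subalgebra.mem_centralizer_iff]
    intro c hc
    exact ((Subalgebra.mem_centralizer_iff k).mp hc b hb).symm
  have hposC : 0 < Module.finrank k C := Module.finrank_pos
  have hdim : Module.finrank k B = Module.finrank k (Subalgebra.centralizer k (C : Set A)) := by
    have : Module.finrank k C * Module.finrank k B =
        Module.finrank k C * Module.finrank k (Subalgebra.centralizer k (C : Set A)) := by
      rw [← h2, h1, mul_comm]
    exact Nat.eq_of_mul_eq_mul_left hposC this
  symm
  apply Subalgebra.toSubmodule_injective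
  exact Submodule.eq_of_le_of_finrank_eq hle hdim

theorem tensor_centralizer_bijective (B : Subalgebra k A) [IsSimpleRing B]
    [Algebra.IsCentral k B] :
    Function.Bijective (Algebra.TensorProduct.lift B.val
      (Subalgebra.centralizer k (B : Set A)).val (fun x y => y.2 x.1 x.2)) := by
  set C := Subalgebra.centralizer k (B : Set A) with hC
  have : IsSimpleRing C := centralizer_simple B
  have : IsSimpleRing (C ⊗[k] B) := isSimpleRing_tensor
  have : IsSimpleRing (B ⊗[k] C) :=
    IsSimpleRing.of_ringEquiv (Algebra.TensorProduct.comm k C B).toRingEquiv inferInstance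
  set F := Algebra.TensorProduct.lift B.val C.val (fun x y => y.2 x.1 x.2) with hF
  have hinj : Function.Injective F := RingHom.injective F.toRingHom
  refine ⟨hinj, ?_⟩
  have hdim : Module.finrank k (B ⊗[k] C) = Module.finrank k A := by
    rw [Module.finrank_tensorProduct, ← centralizer_finrank B]
  exact (LinearMap.injective_iff_surjective_of_finrank_eq_finrank
    (f := F.toLinearMap) hdim).mp hinj

end Cent



section Square

variable {k : Type*} [Field k] {A : Type*} [Ring A] [Algebra k A] [Algebra.IsCentral k A]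
  [IsSimpleRing A]

/-- base change of a CSA to any field extension is simple -/
theorem isSimpleRing_baseChange (F : Type*) [Field F] [Algebra k F] : IsSimpleRing (F ⊗[k] A) :=
  isSimpleRing_tensor

variable [FiniteDimensional k A]

theorem exists_finrank_eq_sq : ∃ n : ℕ, n ≠ 0 ∧ Module.finrank k A = n ^ 2 := by
  let F := AlgebraicClosure k
  have : IsSimpleRing (F ⊗[k] A) := isSimpleRing_baseChange F
  obtain ⟨n, hn, ⟨e⟩⟩ := IsSimpleRing.exists_algEquiv_matrix_of_isAlgClosed F (F ⊗[k] A)
  refine ⟨n, hn.ne, ?_⟩
  have h1 : Module.finrank F (F ⊗[k] A) = Module.finrank k A := Module.finrank_baseChange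
  rw [← h1, e.toLinearEquiv.finrank_eq, Module.finrank_matrix]
  simp [pow_two]

theorem finrank_isSquare : IsSquare (Module.finrank k A) := by
  obtain ⟨n, -, h⟩ := exists_finrank_eq_sq (k := k) (A := A)
  exact ⟨n, by rw [h, pow_two]⟩

end Square



section BaseChange

variable {k : Type*} [Field k] {A : Type*} [Ring A] [Algebra k A]
  (K : Type*) [Field K] [Algebra k K]

theorem isCentral_baseChange [Algebra.IsCentral k A] : Algebra.IsCentral K (K ⊗[k] A) := by
  constructor
  intro w hw
  have hw' : ∀ g : K ⊗[k] A, g * w = w * g := Subalgebra.mem_center_iff.mp hw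
  have h1 : w ∈ Subalgebra.centralizer k
      ((Algebra.TensorProduct.map (⊤ : Subalgebra k K).val (⊤ : Subalgebra k A).val).range :
        Set (K ⊗[k] A)) := by
    rw [Subalgebra.mem_centralizer_iff]
    intro g _
    exact hw' g
  rw [centralizer_tensor] at h1
  obtain ⟨z, rfl⟩ := h1
  clear hw hw'
  induction z using TensorProduct.induction_on with
  | zero => rw [map_zero]; exact zero_mem _
  | tmul c c' =>
    have hc' : (c' : A) ∈ Subalgebra.center k A := by
      have := c'.2
      rw [Subalgebra.mem_centralizer_iff] at this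
      rw [Subalgebra.mem_center_iff]
      intro b; exact this b (by simp)
    obtain ⟨a', ha'⟩ := (Algebra.IsCentral.mem_center_iff (K := k)).mp hc'
    rw [Algebra.mem_bot]
    refine ⟨a' • (c : K), ?_⟩
    simp only [AlgHom.toRingHom_eq_coe, RingHom.coe_coe, Algebra.TensorProduct.map_tmul,
      Subalgebra.coe_val, ha']
    rw [Algebra.TensorProduct.algebraMap_apply, Algebra.algebraMap_eq_smul_one a',
      TensorProduct.tmul_smul, TensorProduct.smul_tmul']
    simp
  | add x y hx hy =>
    rw [map_add]
    exact add_mem hx hy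

theorem isCentral_of_baseChange [Algebra.IsCentral K (K ⊗[k] A)] : Algebra.IsCentral k A := by
  constructor
  intro a ha
  have ha' : ∀ b : A, b * a = a * b := Subalgebra.mem_center_iff.mp ha
  have h1 : (1 : K) ⊗ₜ[k] a ∈ Subalgebra.center K (K ⊗[k] A) := by
    rw [Subalgebra.mem_center_iff]
    intro g
    induction g using TensorProduct.induction_on with
    | zero => simp
    | tmul c b => simp [ha' b]
    | add x y hx hy => rw [add_mul, mul_add, hx, hy]
  obtain ⟨c, hc⟩ := (Algebra.IsCentral.mem_center_iff (K := K)).mp h1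
  rw [Algebra.TensorProduct.algebraMap_apply] at hc
  by_contra hna
  have hna' : a ∉ LinearMap.range (Algebra.linearMap k A) := by
    intro ⟨x, hx⟩
    exact hna (Algebra.mem_bot.mpr ⟨x, hx⟩)
  obtain ⟨f, hfa, hf⟩ := Submodule.exists_le_ker_of_notMem hna'
  have hf1 : f 1 = 0 := by
    have : (1 : A) ∈ LinearMap.range (Algebra.linearMap k A) := ⟨1, by simp⟩
    exact hf this
  have := congrArg (fun z => TensorProduct.rid k K (LinearMap.lTensor K f z)) hc
  simp only [LinearMap.lTensor_tmul, TensorProduct.rid_tmul, hf1, zero_smul] at this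
  simp only [smul_eq_zero, one_ne_zero, or_false] at this
  exact hfa this

theorem isSimpleRing_of_baseChange [IsSimpleRing (K ⊗[k] A)] : IsSimpleRing A := by
  have hinjR : Function.Injective (Algebra.TensorProduct.includeRight : A →ₐ[k] K ⊗[k] A) :=
    Algebra.TensorProduct.includeRight_injective (algebraMap k K).injective
  have : Nontrivial A := by
    by_contra hn
    rw [not_nontrivial_iff_subsingleton] at hn
    have : (1 : K ⊗[k] A) = 0 := by
      rw [Algebra.TensorProduct.one_def, Subsingleton.elim (1 : A) 0, TensorProduct.tmul_zero]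
    exact one_ne_zero this
  refine IsSimpleRing.of_eq_bot_or_eq_top fun I => ?_
  by_cases hI : I = ⊤
  · exact Or.inr hI
  left
  let Q := I.ringCon.Quotient
  let π : A →ₐ[k] Q := I.ringCon.mkₐ k
  have hQ : Nontrivial Q := by
    refine ⟨⟨1, 0, fun h => hI ?_⟩⟩
    rw [← TwoSidedIdeal.one_mem_iff]
    rw [TwoSidedIdeal.mem_iff]
    exact Quotient.exact h
  let F : K ⊗[k] A →ₐ[k] K ⊗[k] Q := Algebra.TensorProduct.map (AlgHom.id k K) π
  have hF : Function.Injective F := RingHom.injective F.toRingHom
  rw [eq_bot_iff]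
  intro a ha
  rw [TwoSidedIdeal.mem_bot]
  apply hinjR
  apply hF
  rw [map_zero, map_zero]
  show F ((1 : K) ⊗ₜ a) = 0
  have hπ : π a = 0 := by
    show (I.ringCon.mk' a : Q) = 0
    exact Quotient.sound ((TwoSidedIdeal.mem_iff I a).mp ha)
  simp [F, hπ]

theorem csa_iff_baseChange :
    (Algebra.IsCentral k A ∧ IsSimpleRing A) ↔
      (Algebra.IsCentral K (K ⊗[k] A) ∧ IsSimpleRing (K ⊗[k] A)) := by
  constructor
  · rintro ⟨h1, h2⟩
    exact ⟨isCentral_baseChange K, isSimpleRing_tensor⟩
  · rintro ⟨h1, h2⟩
    exact ⟨isCentral_of_baseChange (k := k) K, isSimpleRing_of_baseChange (k := k) K⟩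

end BaseChange



section MatrixModule

variable {k : Type*} [Field k] {D : Type*} [DivisionRing D] [Algebra k D] {n : ℕ} [NeZero n]

instance isSimpleModule_matrix_vec :
    IsSimpleModule (Matrix (Fin n) (Fin n) D) (Fin n → D) := by
  rw [isSimpleModule_iff_toSpanSingleton_surjective]
  refine ⟨inferInstance, fun v hv w => ?_⟩
  obtain ⟨i₀, hi₀⟩ : ∃ i, v i ≠ 0 := by
    by_contra h
    simp only [not_exists, not_not] at h
    exact hv (funext h)
  refine ⟨Matrix.of fun i j => if j = i₀ then w i * (v i₀)⁻¹ else 0, ?_⟩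
  ext i
  simp [LinearMap.toSpanSingleton_apply, Matrix.mulVec, dotProduct, hi₀]

/-- the endomorphism algebra of the column module is `Dᵐᵒᵖ` -/
noncomputable def endMatrixVec :
    Dᵐᵒᵖ ≃ₐ[k] Module.End (Matrix (Fin n) (Fin n) D) (Fin n → D) :=
  AlgEquiv.ofBijective
    { toFun := fun d =>
        { toFun := fun v i => v i * d.unop
          map_add' := fun v w => by ext i; simp [add_mul]
          map_smul' := fun A v => by
            ext i
            simp [Matrix.mulVec, dotProduct, Finset.sum_mul, mul_assoc] }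
      map_one' := by ext v i; simp
      map_mul' := fun d d' => by ext v i; simp [mul_assoc]
      map_zero' := by ext v i; simp
      map_add' := fun d d' => by ext v i; simp [mul_add]
      commutes' := fun c => by
        ext v i
        simp [Algebra.smul_def, Algebra.commutes] }
    (by
      constructor
      · intro d d' h
        have := congrFun (LinearMap.congr_fun h (Pi.single 0 1)) 0
        simpa using this
      · intro T
        refine ⟨MulOpposite.op (T (Pi.single 0 1) 0), ?_⟩
        ext v i
        have hv : v = (Matrix.of fun i j => if j = (0 : Fin n) then v i else 0 :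
            Matrix (Fin n) (Fin n) D) • (Pi.single 0 1 : Fin n → D) := by
          ext i
          simp [Matrix.mulVec, dotProduct]
        conv_rhs => rw [hv, T.map_smul]
        simp [Matrix.mulVec, dotProduct])

end MatrixModule



section Uniq

variable {k : Type*} [Field k] {R : Type*} [Ring R] [Algebra k R] [IsSimpleRing R] [IsArtinianRing R]

theorem simple_iso' {M M' : Type*} [AddCommGroup M] [Module R M] [AddCommGroup M'] [Module R M']
    [IsSimpleModule R M] [IsSimpleModule R M'] : Nonempty (M ≃ₗ[R] M') := by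
  have : IsSimpleModule R (⊤ : Submodule R M) := IsSimpleModule.congr Submodule.topEquiv
  have : IsSimpleModule R (⊤ : Submodule R M') := IsSimpleModule.congr Submodule.topEquiv
  obtain ⟨e⟩ := simple_iso (⊤ : Submodule R M) (⊤ : Submodule R M')
  exact ⟨Submodule.topEquiv.symm.trans (e.trans Submodule.topEquiv)⟩

end Uniq

section Uniq2

variable {k : Type*} [Field k] {D D' : Type*} [DivisionRing D] [Algebra k D]
  [DivisionRing D'] [Algebra k D']

/-- uniqueness of the division algebra in Wedderburn's theorem -/
theorem nonempty_algEquiv_of_matrix {n m : ℕ} (hn : n ≠ 0) (hm : m ≠ 0)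
    (e : Matrix (Fin n) (Fin n) D ≃ₐ[k] Matrix (Fin m) (Fin m) D') :
    Nonempty (D ≃ₐ[k] D') := by
  have : NeZero n := ⟨hn⟩
  have : NeZero m := ⟨hm⟩
  let R := Matrix (Fin n) (Fin n) D
  let R' := Matrix (Fin m) (Fin m) D'
  let V := Fin n → D
  let V' := Fin m → D'
  have hart : IsArtinianRing R := inferInstance
  let _ : Module R V' := Module.compHom V' e.toRingHom
  have hsm : ∀ (r : R) (v : V'), r • v = e r • v := fun r v => rfl
  have : IsScalarTower k R V' := ⟨fun c r v => by
    rw [hsm, hsm, map_smul, smul_assoc]⟩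
  have : SMulCommClass R k V' := ⟨fun r c v => by
    rw [hsm, hsm, smul_comm]⟩
  have : IsSimpleModule R V' := by
    rw [isSimpleModule_iff_toSpanSingleton_surjective]
    refine ⟨inferInstance, fun v hv w => ?_⟩
    obtain ⟨r', hr'⟩ := (isSimpleModule_iff_toSpanSingleton_surjective.mp
      (isSimpleModule_matrix_vec (D := D') (n := m))).2 v hv w
    refine ⟨e.symm r', ?_⟩
    rw [LinearMap.toSpanSingleton_apply] at hr' ⊢
    rw [hsm, AlgEquiv.apply_symm_apply, hr']
  obtain ⟨f⟩ := simple_iso' (R := R) (M := V) (M' := V')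
  let E1 : Module.End R V ≃ₐ[k] Module.End R V' := f.conjAlgEquiv k
  let E2 : Module.End R V' ≃ₐ[k] Module.End R' V' :=
    { toFun := fun S =>
        { toFun := S
          map_add' := S.map_add
          map_smul' := fun r' v => by
            have := S.map_smul (e.symm r') v
            rw [hsm, hsm, AlgEquiv.apply_symm_apply] at this
            exact this }
      invFun := fun S =>
        { toFun := S
          map_add' := S.map_add
          map_smul' := fun r v => by
            rw [hsm, hsm]
            exact S.map_smul (e r) v }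
      left_inv := fun S => rfl
      right_inv := fun S => rfl
      map_mul' := fun S S' => rfl
      map_add' := fun S S' => rfl
      commutes' := fun c => rfl }
  let E : Dᵐᵒᵖ ≃ₐ[k] D'ᵐᵒᵖ :=
    (endMatrixVec (k := k) (D := D) (n := n)).trans (E1.trans (E2.trans
      (endMatrixVec (k := k) (D := D') (n := m)).symm))
  exact ⟨AlgEquiv.op.symm E⟩

end Uniq2



section Cancel

variable {k : Type*} [Field k] {A : Type*} [Ring A] [Algebra k A] [IsSimpleRing A]
  [FiniteDimensional k A] {A' : Type*} [Ring A'] [Algebra k A'] [IsSimpleRing A']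
  [FiniteDimensional k A']

theorem nonempty_algEquiv_of_matrix_algEquiv {n : ℕ} (hn : n ≠ 0)
    (e : Matrix (Fin n) (Fin n) A ≃ₐ[k] Matrix (Fin n) (Fin n) A') :
    Nonempty (A ≃ₐ[k] A') := by
  have : IsArtinianRing A := IsArtinianRing.of_finite k A
  have : IsArtinianRing A' := IsArtinianRing.of_finite k A'
  obtain ⟨r, hr, D, _, _, _, ⟨φ⟩⟩ := IsSimpleRing.exists_algEquiv_matrix_divisionRing_finite k A
  obtain ⟨r', hr', D', _, _, _, ⟨φ'⟩⟩ :=
    IsSimpleRing.exists_algEquiv_matrix_divisionRing_finite k A'
  let E : Matrix (Fin (n * r)) (Fin (n * r)) D ≃ₐ[k] Matrix (Fin (n * r')) (Fin (n * r')) D' :=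
    (Matrix.reindexAlgEquiv k D finProdFinEquiv).symm.trans <|
    (Matrix.compAlgEquiv (Fin n) (Fin r) D k).symm.trans <|
    (φ.mapMatrix (m := Fin n)).symm.trans <| e.trans <|
    (φ'.mapMatrix (m := Fin n)).trans <|
    (Matrix.compAlgEquiv (Fin n) (Fin r') D' k).trans <|
    Matrix.reindexAlgEquiv k D' finProdFinEquiv
  obtain ⟨g⟩ := nonempty_algEquiv_of_matrix (Nat.mul_ne_zero hn hr.ne)
    (Nat.mul_ne_zero hn hr'.ne) E
  have hD : Module.finrank k D = Module.finrank k D' := g.toLinearEquiv.finrank_eq
  have hDpos : 0 < Module.finrank k D := Module.finrank_pos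
  have h1 : Module.finrank k A = r * r * Module.finrank k D := by
    rw [φ.toLinearEquiv.finrank_eq, Module.finrank_matrix]; simp
  have h2 : Module.finrank k A' = r' * r' * Module.finrank k D' := by
    rw [φ'.toLinearEquiv.finrank_eq, Module.finrank_matrix]; simp
  have h3 : n * n * Module.finrank k A = n * n * Module.finrank k A' := by
    have := e.toLinearEquiv.finrank_eq
    rw [Module.finrank_matrix, Module.finrank_matrix] at this
    simpa using this
  have h4 : Module.finrank k A = Module.finrank k A' :=
    Nat.eq_of_mul_eq_mul_left (Nat.mul_pos (Nat.pos_of_ne_zero hn) (Nat.pos_of_ne_zero hn)) h3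
  have h5 : r * r = r' * r' := by
    rw [h1, h2, ← hD] at h4
    exact Nat.eq_of_mul_eq_mul_right hDpos h4
  have h6 : r = r' := Nat.mul_self_inj.mp h5
  subst h6
  exact ⟨φ.trans ((g.mapMatrix (m := Fin r)).trans φ'.symm)⟩

end Cancel



section SepClosed

variable {k : Type*} [Field k]

theorem isCentral_of_matrix {D : Type*} [Ring D] [Algebra k D] {n : ℕ} [NeZero n]
    [Algebra.IsCentral k (Matrix (Fin n) (Fin n) D)] : Algebra.IsCentral k D := by
  constructor
  intro d hd
  have h1 : Matrix.scalar (Fin n) d ∈ Subalgebra.center k (Matrix (Fin n) (Fin n) D) := by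
    rw [Matrix.subalgebraCenter_eq_scalarAlgHom_map]
    exact ⟨d, hd, rfl⟩
  obtain ⟨c, hc⟩ := (Algebra.IsCentral.mem_center_iff (K := k)).mp h1
  rw [Algebra.mem_bot]
  refine ⟨c, ?_⟩
  have : Matrix.scalar (Fin n) d = Matrix.scalar (Fin n) (algebraMap k D c) := by
    rw [hc]; rfl
  exact (Matrix.scalar_inj.mp this).symm

theorem bot_eq_top_of_isSepClosed [IsSepClosed k] {D : Type*} [DivisionRing D] [Algebra k D]
    [Algebra.IsCentral k D] [FiniteDimensional k D] : (⊥ : Subalgebra k D) = ⊤ := by
  by_contra hne
  obtain ⟨x, hx, hsep⟩ := JacobsonNoether.exists_separable_and_not_isCentral' hne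
  apply hx
  have hint : IsIntegral k x := Algebra.IsIntegral.isIntegral x
  have hdeg : (minpoly k x).degree = 1 :=
    IsSepClosed.degree_eq_one_of_irreducible k (minpoly.irreducible hint) hsep
  have := minpoly.mem_range_of_degree_eq_one k x hdeg
  rw [Algebra.mem_bot]
  exact this

theorem exists_algEquiv_matrix_of_isSepClosed [IsSepClosed k] {A : Type*} [Ring A] [Algebra k A]
    [Algebra.IsCentral k A] [IsSimpleRing A] [FiniteDimensional k A] :
    ∃ n : ℕ, n ≠ 0 ∧ Nonempty (A ≃ₐ[k] Matrix (Fin n) (Fin n) k) := by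
  have : IsArtinianRing A := IsArtinianRing.of_finite k A
  obtain ⟨n, hn, D, _, _, _, ⟨φ⟩⟩ := IsSimpleRing.exists_algEquiv_matrix_divisionRing_finite k A
  have : Algebra.IsCentral k (Matrix (Fin n) (Fin n) D) := Algebra.IsCentral.of_algEquiv k _ _ φ
  have : Algebra.IsCentral k D := isCentral_of_matrix (n := n)
  have hbt : (⊥ : Subalgebra k D) = ⊤ := bot_eq_top_of_isSepClosed
  have hbij : Function.Bijective (Algebra.ofId k D) := by
    refine ⟨(algebraMap k D).injective, fun d => ?_⟩
    have : d ∈ (⊥ : Subalgebra k D) := by rw [hbt]; trivial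
    exact Algebra.mem_bot.mp this
  let g : k ≃ₐ[k] D := AlgEquiv.ofBijective (Algebra.ofId k D) hbij
  exact ⟨n, hn.ne, ⟨φ.trans (g.symm.mapMatrix (m := Fin n))⟩⟩

end SepClosed



section MaxSub

variable {k : Type*} [Field k] {D : Type*} [DivisionRing D] [Algebra k D] [FiniteDimensional k D]

/-- every nonzero element of a subalgebra of a f.d. division algebra has a right inverse in it -/
theorem Subalgebra.exists_mul_eq_one (L : Subalgebra k D) {x : L} (hx : x ≠ 0) :
    ∃ y : L, x * y = 1 := by
  have hinj : Function.Injective (LinearMap.mulLeft k x) := by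
    intro a b h
    have h' : x * a = x * b := h
    have : (x : D) * a = x * b := by
      have := congrArg Subtype.val h'
      simpa using this
    have hx' : (x : D) ≠ 0 := fun h0 => hx (Subtype.ext h0)
    exact Subtype.ext (mul_left_cancel₀ hx' this)
  obtain ⟨y, hy⟩ := LinearMap.surjective_of_injective hinj 1
  exact ⟨y, hy⟩

/-- a subalgebra of a f.d. division algebra is a simple ring -/
instance isSimpleRing_subalgebra (L : Subalgebra k D) : IsSimpleRing L := by
  refine IsSimpleRing.of_eq_bot_or_eq_top fun I => ?_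
  by_cases h : I = ⊥
  · exact Or.inl h
  right
  obtain ⟨x, hxI, hx0⟩ : ∃ x ∈ I, x ≠ 0 := by
    by_contra hne
    simp only [not_exists, not_and, not_not] at hne
    apply h
    rw [eq_bot_iff]
    intro x hx
    rw [TwoSidedIdeal.mem_bot]
    exact hne x hx
  obtain ⟨y, hy⟩ := Subalgebra.exists_mul_eq_one L hx0
  rw [eq_top_iff]
  intro z _
  have : z = (x * y) * z := by rw [hy, one_mul]
  rw [this, mul_assoc]
  exact I.mul_mem_right _ _ hxI

omit [FiniteDimensional k D] in
/-- a maximal commutative subalgebra is its own centralizer -/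
theorem centralizer_eq_of_maximal_comm (L : Subalgebra k D)
    (hcomm : ∀ x ∈ L, ∀ y ∈ L, x * y = y * x)
    (hmax : ∀ L' : Subalgebra k D, (∀ x ∈ L', ∀ y ∈ L', x * y = y * x) → L ≤ L' → L' = L) :
    Subalgebra.centralizer k (L : Set D) = L := by
  apply le_antisymm
  · intro c hc
    rw [Subalgebra.mem_centralizer_iff] at hc
    let S : Set D := (L : Set D) ∪ {c}
    have hS : S ⊆ Subalgebra.centralizer k S := by
      intro a ha
      rw [SetLike.mem_coe, Subalgebra.mem_centralizer_iff]
      intro b hb
      rcases ha with ha | ha <;> rcases hb with hb | hb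
      · exact hcomm b hb a ha
      · rw [Set.mem_singleton_iff] at hb; subst hb; exact (hc a ha).symm
      · rw [Set.mem_singleton_iff] at ha; subst ha; exact hc b hb
      · rw [Set.mem_singleton_iff] at ha hb; subst ha; subst hb; rfl
    let L' : Subalgebra k D := Algebra.adjoin k S
    have hL'1 : L' ≤ Subalgebra.centralizer k S := Algebra.adjoin_le hS
    have hL'2 : L' ≤ Subalgebra.centralizer k (Subalgebra.centralizer k S : Set D) := by
      apply Algebra.adjoin_le
      intro a ha
      rw [SetLike.mem_coe, Subalgebra.mem_centralizer_iff]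
      intro b hb
      exact ((Subalgebra.mem_centralizer_iff k).mp hb a ha).symm
    have hL'comm : ∀ x ∈ L', ∀ y ∈ L', x * y = y * x := by
      intro x hx y hy
      exact ((Subalgebra.mem_centralizer_iff k).mp (hL'2 hx) y (hL'1 hy)).symm
    have hLL' : L ≤ L' := fun a ha => Algebra.subset_adjoin (Or.inl ha)
    have := hmax L' hL'comm hLL'
    rw [← this]
    exact Algebra.subset_adjoin (Or.inr rfl)
  · intro x hx
    rw [Subalgebra.mem_centralizer_iff]
    intro y hy
    exact hcomm y hy x hx

variable [Algebra.IsCentral k D]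

theorem finrank_eq_sq_of_maximal_comm (L : Subalgebra k D)
    (hcomm : ∀ x ∈ L, ∀ y ∈ L, x * y = y * x)
    (hmax : ∀ L' : Subalgebra k D, (∀ x ∈ L', ∀ y ∈ L', x * y = y * x) → L ≤ L' → L' = L) :
    Module.finrank k D = Module.finrank k L ^ 2 := by
  have h := centralizer_finrank L
  rw [centralizer_eq_of_maximal_comm L hcomm hmax] at h
  rw [h, pow_two]

end MaxSub



section SepMax

variable {k : Type*} [Field k] {D : Type*} [DivisionRing D] [Algebra k D] [FiniteDimensional k D]

/-- field structure on a commutative subalgebra of a f.d. division algebra -/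
@[reducible] noncomputable def fieldOfComm (L : Subalgebra k D)
    (hcomm : ∀ x ∈ L, ∀ y ∈ L, x * y = y * x) : Field L :=
  { divisionRingOfFiniteDimensional k L with
    mul_comm := fun a b => Subtype.ext (hcomm a a.2 b b.2) }

omit [FiniteDimensional k D] in
/-- adjoining an element of the centralizer to a commutative subalgebra gives a commutative
subalgebra -/
theorem adjoin_comm (E : Subalgebra k D) (hcomm : ∀ x ∈ E, ∀ y ∈ E, x * y = y * x)
    (c : D) (hc : c ∈ Subalgebra.centralizer k (E : Set D)) :
    ∀ x ∈ Algebra.adjoin k ((E : Set D) ∪ {c}), ∀ y ∈ Algebra.adjoin k ((E : Set D) ∪ {c}),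
      x * y = y * x := by
  rw [Subalgebra.mem_centralizer_iff] at hc
  set S : Set D := (E : Set D) ∪ {c} with hS'
  have hS : S ⊆ Subalgebra.centralizer k S := by
    intro a ha
    rw [SetLike.mem_coe, Subalgebra.mem_centralizer_iff]
    intro b hb
    rcases ha with ha | ha <;> rcases hb with hb | hb
    · exact hcomm b hb a ha
    · rw [Set.mem_singleton_iff] at hb; subst hb; exact (hc a ha).symm
    · rw [Set.mem_singleton_iff] at ha; subst ha; exact hc b hb
    · rw [Set.mem_singleton_iff] at ha hb; subst ha; subst hb; rfl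
  have hL'1 : Algebra.adjoin k S ≤ Subalgebra.centralizer k S := Algebra.adjoin_le hS
  have hL'2 : Algebra.adjoin k S ≤
      Subalgebra.centralizer k (Subalgebra.centralizer k S : Set D) := by
    apply Algebra.adjoin_le
    intro a ha
    rw [SetLike.mem_coe, Subalgebra.mem_centralizer_iff]
    intro b hb
    exact ((Subalgebra.mem_centralizer_iff k).mp hb a ha).symm
  intro x hx y hy
  exact ((Subalgebra.mem_centralizer_iff k).mp (hL'2 hx) y (hL'1 hy)).symm

variable [Algebra.IsCentral k D]

theorem exists_larger_separable (E : Subalgebra k D)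
    (hcomm : ∀ x ∈ E, ∀ y ∈ E, x * y = y * x) (hsep : Algebra.IsSeparable k E)
    (hne : Subalgebra.centralizer k (E : Set D) ≠ E) :
    ∃ E' : Subalgebra k D, E < E' ∧ (∀ x ∈ E', ∀ y ∈ E', x * y = y * x) ∧
      Algebra.IsSeparable k E' := by
  classical
  set C := Subalgebra.centralizer k (E : Set D) with hC
  have hEC : E ≤ C := by
    intro x hx
    rw [hC, Subalgebra.mem_centralizer_iff]
    intro y hy
    exact hcomm y hy x hx
  let _ : Field E := fieldOfComm E hcomm
  let _ : DivisionRing C := divisionRingOfFiniteDimensional k C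
  let inc : E →+* C := (Subalgebra.inclusion hEC).toRingHom
  have hinc : ∀ e : E, ((inc e : C) : D) = (e : D) := fun e => rfl
  let _ : Algebra E C := inc.toAlgebra' (fun e c => Subtype.ext (by
    have := (Subalgebra.mem_centralizer_iff k).mp c.2 e e.2
    simpa [hinc] using this))
  have halg : ∀ e : E, algebraMap E C e = inc e := fun e => rfl
  have : IsScalarTower k E C := IsScalarTower.of_algebraMap_eq (fun c => rfl)
  have hdc : Subalgebra.centralizer k (C : Set D) = E := double_centralizer E
  have : Algebra.IsCentral E C := by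
    constructor
    intro c hc
    have hc' := Subalgebra.mem_center_iff.mp hc
    have hcE : (c : D) ∈ E := by
      rw [← hdc, Subalgebra.mem_centralizer_iff]
      intro g hg
      have := hc' ⟨g, hg⟩
      exact congrArg Subtype.val this
    rw [Algebra.mem_bot]
    exact ⟨⟨c, hcE⟩, Subtype.ext rfl⟩
  have : Module.Finite E C := Module.Finite.of_restrictScalars_finite k E C
  have : Algebra.IsAlgebraic E C := Algebra.IsAlgebraic.of_finite E C
  have hneq : (⊥ : Subalgebra E C) ≠ ⊤ := by
    intro h
    apply hne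
    apply le_antisymm _ hEC
    intro c hc
    have : (⟨c, hc⟩ : C) ∈ (⊥ : Subalgebra E C) := by rw [h]; trivial
    obtain ⟨e, he⟩ := Algebra.mem_bot.mp this
    have : (e : D) = c := congrArg Subtype.val he
    rw [← this]; exact e.2
  obtain ⟨x, hx, hxsep⟩ := JacobsonNoether.exists_separable_and_not_isCentral' hneq
  have hxE : (x : D) ∉ E := by
    intro h
    apply hx
    rw [Algebra.mem_bot]
    exact ⟨⟨x, h⟩, Subtype.ext rfl⟩
  set E' := Algebra.adjoin k ((E : Set D) ∪ {(x : D)}) with hE'
  have hE'comm := adjoin_comm E hcomm (x : D) x.2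
  have hEE' : E ≤ E' := fun a ha => Algebra.subset_adjoin (Or.inl ha)
  have hxE' : (x : D) ∈ E' := Algebra.subset_adjoin (Or.inr rfl)
  refine ⟨E', lt_of_le_of_ne hEE' (fun h => hxE (h ▸ hxE')), hE'comm, ?_⟩
  -- separability
  let _ : Field E' := fieldOfComm E' hE'comm
  let inc' : E →+* E' := (Subalgebra.inclusion hEE').toRingHom
  let _ : Algebra E E' := inc'.toAlgebra
  have : IsScalarTower k E E' := IsScalarTower.of_algebraMap_eq (fun c => rfl)
  have hE'C : E' ≤ C := by
    intro z hz
    rw [hC, Subalgebra.mem_centralizer_iff]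
    intro e he
    exact hE'comm e (hEE' he) z hz
  let j : E' →ₐ[E] C :=
    { toRingHom := (Subalgebra.inclusion hE'C).toRingHom
      commutes' := fun e => rfl }
  have hj : Function.Injective j := Subalgebra.inclusion_injective hE'C
  let x' : E' := ⟨x, hxE'⟩
  have hjx : j x' = x := Subtype.ext rfl
  have hx'sep : IsSeparable E x' := by
    have := minpoly.algHom_eq j hj x'
    rw [hjx] at this
    unfold IsSeparable
    rw [← this]
    exact hxsep
  have htop : IntermediateField.adjoin E {x'} = ⊤ := by
    rw [eq_top_iff]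
    rintro ⟨z, hz⟩ -
    induction hz using Algebra.adjoin_induction with
    | mem w hw =>
      rcases hw with hw | hw
      · exact (IntermediateField.adjoin E {x'}).algebraMap_mem ⟨w, hw⟩
      · rw [Set.mem_singleton_iff] at hw
        subst hw
        exact IntermediateField.mem_adjoin_simple_self E x'
    | algebraMap r =>
      exact (IntermediateField.adjoin E {x'}).algebraMap_mem (algebraMap k E r)
    | add a b ha hb ha' hb' => exact (IntermediateField.adjoin E {x'}).add_mem ha' hb'
    | mul a b ha hb ha' hb' => exact (IntermediateField.adjoin E {x'}).mul_mem ha' hb'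
  have hsepE' : Algebra.IsSeparable E E' := by
    have h1 : Algebra.IsSeparable E (IntermediateField.adjoin E {x'}) :=
      (IntermediateField.isSeparable_adjoin_simple_iff_isSeparable E E').mpr hx'sep
    rw [htop] at h1
    exact AlgEquiv.Algebra.isSeparable (IntermediateField.topEquiv (F := E) (E := E'))
  exact Algebra.IsSeparable.trans k E E'

end SepMax



section SepMax2

variable {k : Type*} [Field k] {D : Type*} [DivisionRing D] [Algebra k D] [FiniteDimensional k D]
  [Algebra.IsCentral k D]

theorem exists_separable_self_centralizing :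
    ∃ L : Subalgebra k D, (∀ x ∈ L, ∀ y ∈ L, x * y = y * x) ∧ Algebra.IsSeparable k L ∧
      Subalgebra.centralizer k (L : Set D) = L := by
  classical
  let S : Set (Subalgebra k D) :=
    {E | (∀ x ∈ E, ∀ y ∈ E, x * y = y * x) ∧ Algebra.IsSeparable k E}
  have hbot : (⊥ : Subalgebra k D) ∈ S := by
    refine ⟨?_, ⟨?_⟩⟩
    · intro x hx y hy
      obtain ⟨a, rfl⟩ := Algebra.mem_bot.mp hx
      exact Algebra.commutes a y
    · rintro ⟨x, hx⟩
      obtain ⟨a, rfl⟩ := Algebra.mem_bot.mp hx
      have : (⟨algebraMap k D a, hx⟩ : (⊥ : Subalgebra k D)) =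
          algebraMap k (⊥ : Subalgebra k D) a := Subtype.ext rfl
      rw [this]
      exact isSeparable_algebraMap a
  let P : ℕ → Prop := fun n => ∃ E ∈ S, Module.finrank k E = n
  have hP : P (Module.finrank k (⊥ : Subalgebra k D)) := ⟨⊥, hbot, rfl⟩
  have hle : ∀ E : Subalgebra k D, Module.finrank k E ≤ Module.finrank k D := fun E =>
    (Subalgebra.finrank_toSubmodule E) ▸ Submodule.finrank_le _
  obtain ⟨E, hES, hEn⟩ := Nat.findGreatest_spec (P := P) (hle ⊥) hP
  refine ⟨E, hES.1, hES.2, ?_⟩
  by_contra hne
  obtain ⟨E', hlt, hc', hs'⟩ := exists_larger_separable E hES.1 hES.2 hne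
  have h1 : Module.finrank k E < Module.finrank k E' := by
    rw [← Subalgebra.finrank_toSubmodule E, ← Subalgebra.finrank_toSubmodule E']
    exact Submodule.finrank_lt_finrank_of_lt hlt
  have h2 : Module.finrank k E' ≤ Nat.findGreatest P (Module.finrank k D) :=
    Nat.le_findGreatest (hle E') ⟨E', ⟨hc', hs'⟩, rfl⟩
  omega

/-- existence of a separable maximal commutative subalgebra -/
theorem exists_separable_maximal_comm :
    ∃ L : Subalgebra k D, (∀ x ∈ L, ∀ y ∈ L, x * y = y * x) ∧
      (∀ L' : Subalgebra k D, (∀ x ∈ L', ∀ y ∈ L', x * y = y * x) → L ≤ L' → L' = L) ∧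
      Algebra.IsSeparable k L := by
  obtain ⟨L, hc, hs, hcent⟩ := exists_separable_self_centralizing (k := k) (D := D)
  refine ⟨L, hc, ?_, hs⟩
  intro L' hc' hLL'
  apply le_antisymm _ hLL'
  intro z hz
  rw [← hcent, Subalgebra.mem_centralizer_iff]
  intro e he
  exact hc' e (hLL' he) z hz

end SepMax2


end Groth.Agent.Lib.LeadCSA
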