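import Mathlib
import Groth.Prelude.Def_GalDesc

/-!
# Galois descent for vector spaces with a semilinear action (helper23)

For a finite Galois extension `K/k` with group `Γ = K ≃ₐ[k] K` and a `K`-vector space `M` with a
semilinear action `ρ` of `Γ`, the fixed vectors `M^Γ` form a `k`-structure: `K ⊗[k] M^Γ ≃ M`.
-/

set_option autoImplicit false
universe u v w x

namespace Groth.Agent.Lib.Helper23

open scoped TensorProduct

section Dedekind

variable {k : Type u} {K : Type v} [Field k] [Field K] [Algebra k K]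

theorem linearIndependent_algEquiv_coe :
    LinearIndependent K (fun τ : K ≃ₐ[k] K => (⇑τ : K → K)) := by
  have h := linearIndependent_monoidHom K K
  have hinj : Function.Injective
      (fun τ : K ≃ₐ[k] K => ((τ : K →+* K) : K →* K)) := by
    intro σ τ hστ
    ext x
    exact DFunLike.congr_fun hστ x
  exact h.comp _ hinj

variable [FiniteDimensional k K]

/-- The vectors `(τ c)_τ`, `c ∈ K`, span `Γ → K` over `K`. -/
theorem span_range_eval_eq_top :
    Submodule.span K (Set.range (fun c : K => (fun τ : K ≃ₐ[k] K => τ c))) = ⊤ := by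
  classical
  by_contra hne
  obtain ⟨u, hu0, hu⟩ := Submodule.exists_le_ker_of_lt_top _ (lt_top_iff_ne_top.mpr hne)
  apply hu0
  have hsum : ∀ c : K, ∑ τ : K ≃ₐ[k] K,
      u (fun j => if τ = j then (1 : K) else 0) * τ c = 0 := by
    intro c
    have h1 : u (fun τ : K ≃ₐ[k] K => τ c) = 0 :=
      LinearMap.mem_ker.mp (hu (Submodule.subset_span ⟨c, rfl⟩))
    rw [LinearMap.pi_apply_eq_sum_univ u] at h1
    refine Eq.trans ?_ h1
    refine Finset.sum_congr rfl fun τ _ => ?_
    rw [smul_eq_mul, mul_comm]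
  have hli := Fintype.linearIndependent_iff.mp (linearIndependent_algEquiv_coe (k := k) (K := K))
    (fun τ => u (fun j => if τ = j then (1 : K) else 0))
    (by
      funext c
      rw [Finset.sum_apply, Pi.zero_apply]
      simp only [Pi.smul_apply, smul_eq_mul]
      exact hsum c)
  apply LinearMap.ext
  intro v
  rw [LinearMap.pi_apply_eq_sum_univ u, LinearMap.zero_apply]
  refine Finset.sum_eq_zero fun τ _ => ?_
  rw [hli τ, smul_zero]

/-- Dedekind: finitely many `(d_c, c)` with `∑ d_c τ(c) = δ_{τ,1}`. -/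
theorem exists_dedekind_delta :
    ∃ (s : Finset K) (d : K → K), (∑ c ∈ s, d c * c = 1) ∧
      ∀ τ : K ≃ₐ[k] K, τ ≠ 1 → ∑ c ∈ s, d c * τ c = 0 := by
  classical
  have hmem : (Pi.single (1 : K ≃ₐ[k] K) (1 : K) : (K ≃ₐ[k] K) → K) ∈
      Submodule.span K (Set.range (fun c : K => (fun τ : K ≃ₐ[k] K => τ c))) := by
    rw [span_range_eval_eq_top]; exact Submodule.mem_top
  rw [Finsupp.mem_span_range_iff_exists_finsupp] at hmem
  obtain ⟨f, hf⟩ := hmem
  have h1 : ∀ τ : K ≃ₐ[k] K, ∑ c ∈ f.support, f c * τ c =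
      (Pi.single (1 : K ≃ₐ[k] K) (1 : K) : (K ≃ₐ[k] K) → K) τ := by
    intro τ
    have h2 := congrFun hf τ
    rw [Finsupp.sum, Finset.sum_apply] at h2
    simpa only [Pi.smul_apply, smul_eq_mul] using h2
  refine ⟨f.support, f, ?_, fun τ hτ => ?_⟩
  · have := h1 1
    simpa using this
  · rw [h1 τ, Pi.single_eq_of_ne hτ]

end Dedekind

section Descent

variable {k : Type u} {K : Type v} [Field k] [Field K] [Algebra k K] [FiniteDimensional k K]
variable {M : Type w} [AddCommGroup M] [Module K M]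

/-- A semilinear action of `Γ = K ≃ₐ[k] K` on the `K`-vector space `M`, unbundled. -/
structure IsSemilinearAction (ρ : (K ≃ₐ[k] K) → M → M) : Prop where
  map_add : ∀ σ x y, ρ σ (x + y) = ρ σ x + ρ σ y
  map_smul : ∀ σ (c : K) x, ρ σ (c • x) = σ c • ρ σ x
  map_mul : ∀ σ τ x, ρ (σ * τ) x = ρ σ (ρ τ x)
  map_one : ∀ x, ρ 1 x = x

namespace IsSemilinearAction

variable {ρ : (K ≃ₐ[k] K) → M → M} (hρ : IsSemilinearAction ρ)
include hρ

omit [FiniteDimensional k K] in
theorem map_zero (σ : K ≃ₐ[k] K) : ρ σ 0 = 0 := by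
  have h := hρ.map_smul σ 0 0
  rwa [zero_smul, _root_.map_zero, zero_smul] at h

omit [FiniteDimensional k K] in
theorem map_sum {α : Type*} (σ : K ≃ₐ[k] K) (s : Finset α) (f : α → M) :
    ρ σ (∑ a ∈ s, f a) = ∑ a ∈ s, ρ σ (f a) := by
  classical
  induction s using Finset.induction_on with
  | empty => simpa using hρ.map_zero σ
  | insert a s ha ih => rw [Finset.sum_insert ha, Finset.sum_insert ha, hρ.map_add, ih]

/-- The average `∑ τ, ρ τ y` is fixed by the action. -/
theorem sum_fixed (y : M) (σ : K ≃ₐ[k] K) :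
    ρ σ (∑ τ : K ≃ₐ[k] K, ρ τ y) = ∑ τ : K ≃ₐ[k] K, ρ τ y := by
  rw [hρ.map_sum]
  simp only [← hρ.map_mul]
  exact Fintype.sum_equiv (Equiv.mulLeft σ) _ _ (fun τ => rfl)

/-- Every vector is a `K`-linear combination of fixed vectors. -/
theorem mem_span_fixed (x : M) : x ∈ Submodule.span K {y : M | ∀ σ, ρ σ y = y} := by
  classical
  obtain ⟨s, d, h1, h0⟩ := exists_dedekind_delta (k := k) (K := K)
  have hx : x = ∑ c ∈ s, d c • ∑ τ : K ≃ₐ[k] K, ρ τ (c • x) := by
    have e1 : ∀ c ∈ s, d c • ∑ τ : K ≃ₐ[k] K, ρ τ (c • x) =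
        ∑ τ : K ≃ₐ[k] K, (d c * τ c) • ρ τ x := by
      intro c _
      rw [Finset.smul_sum]
      refine Finset.sum_congr rfl fun τ _ => ?_
      rw [hρ.map_smul, smul_smul]
    rw [Finset.sum_congr rfl e1, Finset.sum_comm]
    simp only [← Finset.sum_smul]
    rw [Finset.sum_eq_single (1 : K ≃ₐ[k] K)]
    · simp only [AlgEquiv.one_apply]
      rw [h1, one_smul, hρ.map_one]
    · intro τ _ hτ
      rw [h0 τ hτ, zero_smul]
    · intro h; exact absurd (Finset.mem_univ _) h
  rw [hx]
  exact Submodule.sum_mem _ fun c _ =>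
    Submodule.smul_mem _ _ (Submodule.subset_span (hρ.sum_fixed (c • x)))

variable [IsGalois k K]

/-- Fixed vectors that are `K`-linearly dependent through a `k`-basis of `K` vanish. -/
theorem eq_zero_of_sum_basis_smul {ι : Type*} [Fintype ι] [DecidableEq ι] (b : Module.Basis ι k K)
    (w : ι → M) (hw : ∀ j σ, ρ σ (w j) = w j) (h : ∑ j, b j • w j = 0) : ∀ i, w i = 0 := by
  intro i
  have hτ : ∀ τ : K ≃ₐ[k] K, ∑ j, τ (b j) • w j = 0 := by
    intro τ
    have h2 := congrArg (ρ τ) h
    rw [hρ.map_sum, hρ.map_zero] at h2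
    rw [← h2]
    refine Finset.sum_congr rfl fun j _ => ?_
    rw [hρ.map_smul, hw]
  set bs := (Algebra.traceForm k K).dualBasis (traceForm_nondegenerate k K) b with hbs
  have h3 : ∑ τ : K ≃ₐ[k] K, τ (bs i) • ∑ j, τ (b j) • w j = 0 := by
    simp only [hτ, smul_zero, Finset.sum_const_zero]
  have h4 : ∑ τ : K ≃ₐ[k] K, τ (bs i) • ∑ j, τ (b j) • w j =
      ∑ j, (algebraMap k K (Algebra.trace k K (bs i * b j))) • w j := by
    simp only [Finset.smul_sum, smul_smul]
    rw [Finset.sum_comm]
    refine Finset.sum_congr rfl fun j _ => ?_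
    rw [← Finset.sum_smul, trace_eq_sum_automorphisms]
    congr 1
    exact Finset.sum_congr rfl fun τ _ => (_root_.map_mul τ _ _).symm
  rw [h4] at h3
  have h5 : ∀ j, Algebra.trace k K (bs i * b j) = if j = i then 1 else 0 := by
    intro j
    have := LinearMap.BilinForm.apply_dualBasis_left (traceForm_nondegenerate k K) b i j
    rwa [Algebra.traceForm_apply] at this
  simp only [h5] at h3
  rw [Finset.sum_eq_single i] at h3
  · simpa using h3
  · intro j _ hj
    rw [if_neg hj, _root_.map_zero, zero_smul]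
  · intro h; exact absurd (Finset.mem_univ _) h

variable [Module k M] [IsScalarTower k K M]

/-- Galois descent: if `ι : W → M` is an injective `k`-linear map onto the fixed vectors, then
`K ⊗[k] W → M`, `c ⊗ w ↦ c • ι w`, is bijective. -/
theorem bijective_liftBaseChange {W : Type x} [AddCommGroup W] [Module k W] (ι : W →ₗ[k] M)
    (hι : Function.Injective ι) (hW : ∀ x : M, x ∈ LinearMap.range ι ↔ ∀ σ, ρ σ x = x) :
    Function.Bijective (ι.liftBaseChange K) := by
  classical
  constructor
  · rw [injective_iff_map_eq_zero]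
    intro z hz
    let b := Module.finBasis k K
    obtain ⟨f, rfl⟩ : ∃ f : Fin (Module.finrank k K) →₀ W,
        z = (TensorProduct.equivFinsuppOfBasisLeft b).symm f :=
      ⟨TensorProduct.equivFinsuppOfBasisLeft b z, (LinearEquiv.symm_apply_apply _ z).symm⟩
    rw [TensorProduct.equivFinsuppOfBasisLeft_symm_apply] at hz
    rw [map_finsuppSum] at hz
    simp only [LinearMap.liftBaseChange_tmul] at hz
    rw [Finsupp.sum_fintype _ _ (fun i => by simp)] at hz
    have h0 := hρ.eq_zero_of_sum_basis_smul b (fun j => ι (f j))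
      (fun j σ => (hW _).mp ⟨f j, rfl⟩ σ) hz
    have hf : f = 0 := by
      ext j
      apply hι
      rw [h0 j, Finsupp.zero_apply, _root_.map_zero]
    rw [hf, _root_.map_zero]
  · rw [← LinearMap.range_eq_top, LinearMap.range_liftBaseChange, eq_top_iff]
    intro x _
    refine Submodule.span_mono ?_ (hρ.mem_span_fixed x)
    intro y hy
    exact (hW y).mpr hy

/-- Galois descent, packaged: the inverse `g` of `c ⊗ w ↦ c • ι w` as a `K`-linear isomorphism,
with the action `ρ` transported to the action through the left factor. -/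
theorem exists_descent {W : Type x} [AddCommGroup W] [Module k W] (ι : W →ₗ[k] M)
    (hι : Function.Injective ι) (hW : ∀ x : M, x ∈ LinearMap.range ι ↔ ∀ σ, ρ σ x = x) :
    ∃ g : M ≃ₗ[K] K ⊗[k] W, (∀ (c : K) (w : W), g.symm (c ⊗ₜ[k] w) = c • ι w) ∧
      ∀ (σ : K ≃ₐ[k] K) (z : K ⊗[k] W), g.symm (σ • z) = ρ σ (g.symm z) := by
  let g0 : K ⊗[k] W ≃ₗ[K] M :=
    LinearEquiv.ofBijective (ι.liftBaseChange K) (hρ.bijective_liftBaseChange ι hι hW)
  have hg0 : ∀ (c : K) (w : W), g0 (c ⊗ₜ[k] w) = c • ι w := fun c w =>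
    LinearMap.liftBaseChange_tmul _ _ _ _
  refine ⟨g0.symm, fun c w => ?_, fun σ z => ?_⟩
  · rw [LinearEquiv.symm_symm]; exact hg0 c w
  · rw [LinearEquiv.symm_symm]
    induction z using TensorProduct.induction_on with
    | zero => rw [smul_zero, _root_.map_zero, hρ.map_zero]
    | tmul c w =>
      rw [TensorProduct.smul_tmul', hg0, hg0, hρ.map_smul, AlgEquiv.smul_def]
      congr 1
      exact ((hW _).mp ⟨w, rfl⟩ σ).symm
    | add z z' hz hz' => rw [smul_add, _root_.map_add, _root_.map_add, hz, hz', hρ.map_add]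

end IsSemilinearAction

end Descent

section Twist

variable {k : Type u} {K : Type v} [Field k] [Field K] [Algebra k K]
variable {M : Type w} [AddCommGroup M] [Module K M]
  [DistribMulAction (K ≃ₐ[k] K) M] [SMulDistribClass (K ≃ₐ[k] K) K M]

/-- The action twisted by a cocycle with values in the `K`-linear automorphisms is semilinear. -/
theorem isSemilinearAction_twist (a : GpH1.OneCocycle (K ≃ₐ[k] K) (M ≃ₗ[K] M)) :
    IsSemilinearAction (fun (σ : K ≃ₐ[k] K) (x : M) => a σ (σ • x)) := by
  have h1 : a 1 = 1 := by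
    have h := a.2 1 1
    rw [one_smul, mul_one] at h
    exact (mul_eq_left.mp h.symm)
  refine ⟨fun σ x y => ?_, fun σ c x => ?_, fun σ τ x => ?_, fun x => ?_⟩
  · simp only [smul_add, map_add]
  · rw [smul_distrib_smul σ c x, map_smul, AlgEquiv.smul_def]
  · rw [a.2 σ τ, LinearEquiv.mul_apply, GalDesc.conj_smul_apply, mul_smul, inv_smul_smul]
  · rw [h1, one_smul]; rfl

end Twist

section Fixed

variable {k : Type u} {K : Type v} [Field k] [Field K] [Algebra k K] [FiniteDimensional k K]
  [IsGalois k K]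
variable {W : Type w} [AddCommGroup W] [Module k W]

/-- The vectors of `K ⊗[k] W` fixed by the Galois group are those of the form `1 ⊗ w`. -/
theorem exists_one_tmul_eq_of_fixed (x : K ⊗[k] W) (hx : ∀ σ : K ≃ₐ[k] K, σ • x = x) :
    ∃ w : W, (1 : K) ⊗ₜ[k] w = x := by
  classical
  let b := Module.Free.chooseBasis k W
  let L : Module.Free.ChooseBasisIndex k W → (K ⊗[k] W →ₗ[k] K) := fun i =>
    (TensorProduct.rid k K).toLinearMap ∘ₗ (b.coord i).lTensor K
  have hL : ∀ i (σ : K ≃ₐ[k] K) (y : K ⊗[k] W), L i (σ • y) = σ (L i y) := by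
    intro i σ y
    induction y using TensorProduct.induction_on with
    | zero => rw [smul_zero, _root_.map_zero, _root_.map_zero]
    | tmul c w =>
      rw [TensorProduct.smul_tmul']
      simp only [L, LinearMap.coe_comp, LinearEquiv.coe_coe, Function.comp_apply,
        LinearMap.lTensor_tmul, TensorProduct.rid_tmul, AlgEquiv.smul_def, map_smul]
    | add y y' hy hy' => rw [smul_add, _root_.map_add, _root_.map_add, hy, hy', _root_.map_add]
  have hfix : ∀ i, L i x ∈ Set.range (algebraMap k K) := by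
    intro i
    rw [IsGalois.mem_range_algebraMap_iff_fixed]
    intro σ
    rw [← hL, hx]
  choose r hr using hfix
  let e := TensorProduct.equivFinsuppOfBasisRight (M := K) b
  have hLe : ∀ i, e x i = L i x := fun i => TensorProduct.equivFinsuppOfBasisRight_apply b x i
  obtain ⟨f, hf⟩ : ∃ f, f = e x := ⟨_, rfl⟩
  have hx' : x = e.symm f := by rw [hf, e.symm_apply_apply x]
  rw [TensorProduct.equivFinsuppOfBasisRight_symm_apply] at hx'
  refine ⟨∑ i ∈ f.support, r i • b i, ?_⟩
  rw [hx', Finsupp.sum, TensorProduct.tmul_sum]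
  refine Finset.sum_congr rfl fun i _ => ?_
  rw [hf, hLe, ← hr, TensorProduct.tmul_smul, TensorProduct.smul_tmul',
    Algebra.algebraMap_eq_smul_one]

omit [FiniteDimensional k K] [IsGalois k K] in
theorem one_tmul_injective :
    Function.Injective (fun w : W => (1 : K) ⊗ₜ[k] w) :=
  Module.Flat.tensorProduct_mk_injective k W K

variable {W' : Type x} [AddCommGroup W'] [Module k W']

/-- A Galois-equivariant `K`-linear isomorphism `K ⊗ W ≃ K ⊗ W'` comes from a `k`-linear
isomorphism `W ≃ W'`. -/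
theorem exists_linearEquiv_of_equivariant (f : K ⊗[k] W ≃ₗ[K] K ⊗[k] W')
    (hf : ∀ (σ : K ≃ₐ[k] K) (z : K ⊗[k] W), f (σ • z) = σ • f z) :
    ∃ e : W ≃ₗ[k] W', ∀ w, f ((1 : K) ⊗ₜ[k] w) = (1 : K) ⊗ₜ[k] e w := by
  have hfs : ∀ (σ : K ≃ₐ[k] K) (z : K ⊗[k] W'), f.symm (σ • z) = σ • f.symm z := by
    intro σ z
    apply f.injective
    rw [hf, f.apply_symm_apply, f.apply_symm_apply]
  have h1 : ∀ w : W, ∃ w' : W', (1 : K) ⊗ₜ[k] w' = f ((1 : K) ⊗ₜ[k] w) := fun w =>
    exists_one_tmul_eq_of_fixed _ fun σ => by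
      rw [← hf, TensorProduct.smul_tmul', AlgEquiv.smul_def, map_one]
  have h2 : ∀ w' : W', ∃ w : W, (1 : K) ⊗ₜ[k] w = f.symm ((1 : K) ⊗ₜ[k] w') := fun w' =>
    exists_one_tmul_eq_of_fixed _ fun σ => by
      rw [← hfs, TensorProduct.smul_tmul', AlgEquiv.smul_def, map_one]
  choose e0 he0 using h1
  choose e1 he1 using h2
  have inj := one_tmul_injective (k := k) (K := K) (W := W)
  have inj' := one_tmul_injective (k := k) (K := K) (W := W')
  refine ⟨{ toFun := e0
            invFun := e1
            map_add' := fun w w' => inj' ?_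
            map_smul' := fun r w => inj' ?_
            left_inv := fun w => inj ?_
            right_inv := fun w' => inj' ?_ }, fun w => (he0 w).symm⟩
  · simp only
    rw [he0, TensorProduct.tmul_add, TensorProduct.tmul_add, map_add, he0, he0]
  · simp only [RingHom.id_apply]
    rw [he0, TensorProduct.tmul_smul, TensorProduct.tmul_smul, he0, ← f.restrictScalars_apply k,
      map_smul, f.restrictScalars_apply k]
  · simp only
    rw [he1, he0, f.symm_apply_apply]
  · simp only
    rw [he0, he1, f.apply_symm_apply]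

end Fixed

end Groth.Agent.Lib.Helper23
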