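import Groth.Agent.Lib.LeadCSABrauer
import Groth.Prelude.Def_GSzCSA

/-! # Tensor powers of algebras (`CSAGal.tpow`) -/

namespace Groth.Agent.Lib.LeadCSA

open TensorProduct PiTensorProduct

section TPowEquiv

variable (k : Type*) [Field k] (A : Type*) [Ring A] [Algebra k A]

/-- multiplicativity of a linear map out of a tensor power can be checked on pure tensors -/
theorem piTensor_map_mul {ι : Type*} {B : Type*} [Ring B] [Algebra k B]
    (E : (⨂[k] _ : ι, A) →ₗ[k] B)
    (h : ∀ x y : ι → A, E (tprod k x * tprod k y) = E (tprod k x) * E (tprod k y))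
    (x y : ⨂[k] _ : ι, A) : E (x * y) = E x * E y := by
  induction x using PiTensorProduct.induction_on with
  | smul_tprod r x =>
    induction y using PiTensorProduct.induction_on with
    | smul_tprod s y =>
      rw [smul_mul_smul_comm, map_smul, map_smul, map_smul, h, smul_mul_smul_comm]
    | add y z hy hz => rw [mul_add, map_add, map_add, mul_add, hy, hz]
  | add x z hx hz => rw [add_mul, map_add, map_add, add_mul, hx, hz]

/-- `A^{⊗(a+b)} ≅ A^{⊗a} ⊗ A^{⊗b}` -/
noncomputable def tpowAddEquiv (a b : ℕ) :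
    CSAGal.tpow k A (a + b) ≃ₐ[k] CSAGal.tpow k A a ⊗[k] CSAGal.tpow k A b :=
  AlgEquiv.ofLinearEquiv
    ((reindex k (fun _ : Fin (a + b) => A) finSumFinEquiv.symm).trans (tmulEquiv k A).symm)
    (by
      rw [PiTensorProduct.one_def]
      simp [Algebra.TensorProduct.one_def, PiTensorProduct.one_def]
      rfl)
    (by
      apply piTensor_map_mul
      intro x y
      simp [tprod_mul_tprod]
      rfl)

/-- `A^{⊗1} ≅ A` -/
noncomputable def tpowOneEquiv : CSAGal.tpow k A 1 ≃ₐ[k] A :=
  AlgEquiv.ofLinearEquiv (subsingletonEquiv (0 : Fin 1))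
    (by rw [PiTensorProduct.one_def, subsingletonEquiv_apply_tprod]; rfl)
    (by
      apply piTensor_map_mul
      intro x y
      simp [tprod_mul_tprod])

/-- `A^{⊗0} ≅ k` -/
noncomputable def tpowZeroEquiv : CSAGal.tpow k A 0 ≃ₐ[k] k :=
  AlgEquiv.ofLinearEquiv (isEmptyEquiv (Fin 0))
    (by rw [PiTensorProduct.one_def, isEmptyEquiv_apply_tprod])
    (by
      apply piTensor_map_mul
      intro x y
      simp [tprod_mul_tprod])

end TPowEquiv

section SplitsTPow

variable {k : Type*} [Field k] {A : Type*} [Ring A] [Algebra k A]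

theorem splits_self_field (L : Type*) [Field L] [Algebra k L] : Curves.Splits k k L :=
  splits_of_algHom L one_ne_zero (by simp) (Algebra.ofId k (Matrix (Fin 1) (Fin 1) L))

/-- a splitting field of `A` splits all tensor powers of `A` -/
theorem splits_tpow {L : Type*} [Field L] [Algebra k L] (h : Curves.Splits k A L) (i : ℕ) :
    Curves.Splits k (CSAGal.tpow k A i) L := by
  induction i with
  | zero => exact splits_of_algEquiv (tpowZeroEquiv k A).symm (splits_self_field L)
  | succ i ih =>
    obtain ⟨hc, hs, hf⟩ := csa_of_splits L ih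
    have h1 : Curves.Splits k (CSAGal.tpow k A 1) L := splits_of_algEquiv (tpowOneEquiv k A).symm h
    obtain ⟨hc1, hs1, hf1⟩ := csa_of_splits L h1
    exact splits_of_algEquiv (tpowAddEquiv k A i 1).symm (splits_tensor L ih h1)

theorem splits_tpow_add {L : Type*} [Field L] [Algebra k L] {a b : ℕ}
    (ha : Curves.Splits k (CSAGal.tpow k A a) L) (hb : Curves.Splits k (CSAGal.tpow k A b) L) :
    Curves.Splits k (CSAGal.tpow k A (a + b)) L := by
  obtain ⟨hc, hs, hf⟩ := csa_of_splits L ha
  obtain ⟨hc1, hs1, hf1⟩ := csa_of_splits L hb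
  exact splits_of_algEquiv (tpowAddEquiv k A a b).symm (splits_tensor L ha hb)

variable [Algebra.IsCentral k A] [IsSimpleRing A] [FiniteDimensional k A]

/-- tensor powers of a central simple algebra are central simple -/
theorem tpow_csa (i : ℕ) : Algebra.IsCentral k (CSAGal.tpow k A i) ∧
    IsSimpleRing (CSAGal.tpow k A i) ∧ FiniteDimensional k (CSAGal.tpow k A i) :=
  csa_of_splits (AlgebraicClosure k) (splits_tpow (splits_of_isSepClosed (AlgebraicClosure k)) i)

end SplitsTPow

section SplitsSelf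

variable {k : Type*} [Field k] {X : Type*} [Ring X] [Algebra k X]

theorem exists_algEquiv_matrix_of_splits_self (h : Curves.Splits k X k) :
    ∃ n : ℕ, n ≠ 0 ∧ Nonempty (X ≃ₐ[k] Matrix (Fin n) (Fin n) k) := by
  obtain ⟨n, hn, ⟨e⟩⟩ := h
  exact ⟨n, hn, ⟨(Algebra.TensorProduct.lid k X).symm.trans e⟩⟩

theorem splits_self_of_algEquiv_matrix {n : ℕ} (hn : n ≠ 0)
    (e : X ≃ₐ[k] Matrix (Fin n) (Fin n) k) : Curves.Splits k X k :=
  ⟨n, hn, ⟨(Algebra.TensorProduct.lid k X).trans e⟩⟩

/-- cancellation: if `B ⊗ C` and `C` are split over `k` then so is `B` -/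
theorem splits_self_of_tensor {B C : Type*} [Ring B] [Algebra k B] [Ring C] [Algebra k C]
    [Algebra.IsCentral k B] [IsSimpleRing B] [FiniteDimensional k B]
    (hBC : Curves.Splits k (B ⊗[k] C) k) (hC : Curves.Splits k C k) : Curves.Splits k B k := by
  obtain ⟨c, hc, ⟨eC⟩⟩ := exists_algEquiv_matrix_of_splits_self hC
  have : NeZero c := ⟨hc⟩
  let e : B ⊗[k] C ≃ₐ[k] Matrix (Fin c) (Fin c) B :=
    (Algebra.TensorProduct.congr (AlgEquiv.refl : B ≃ₐ[k] B) eC).trans
      (matrixEquivTensor (Fin c) k B).symm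
  exact splits_of_splits_matrix hc (splits_of_algEquiv e hBC)

end SplitsSelf

section Period

variable {k : Type*} [Field k] {A : Type*} [Ring A] [Algebra k A]

theorem splits_tpow_mul {L : Type*} [Field L] [Algebra k L] {a : ℕ}
    (h : Curves.Splits k (CSAGal.tpow k A a) L) (q : ℕ) :
    Curves.Splits k (CSAGal.tpow k A (a * q)) L := by
  induction q with
  | zero => exact splits_of_algEquiv (tpowZeroEquiv k A).symm (splits_self_field L)
  | succ q ih => rw [Nat.mul_succ]; exact splits_tpow_add ih h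

/-- `(A^{⊗r})^{⊗e} ≅ A^{⊗(r e)}` -/
theorem nonempty_tpow_tpow_equiv (r e : ℕ) :
    Nonempty (CSAGal.tpow k (CSAGal.tpow k A r) e ≃ₐ[k] CSAGal.tpow k A (r * e)) := by
  induction e with
  | zero => exact ⟨(tpowZeroEquiv k (CSAGal.tpow k A r)).trans (tpowZeroEquiv k A).symm⟩
  | succ e ih =>
    obtain ⟨f⟩ := ih
    exact ⟨(tpowAddEquiv k (CSAGal.tpow k A r) e 1).trans
      ((Algebra.TensorProduct.congr f (tpowOneEquiv k (CSAGal.tpow k A r))).trans
        (tpowAddEquiv k A (r * e) r).symm)⟩

variable [Algebra.IsCentral k A] [IsSimpleRing A] [FiniteDimensional k A]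

theorem splits_tpow_sub {a b : ℕ} (hab : Curves.Splits k (CSAGal.tpow k A (a + b)) k)
    (hb : Curves.Splits k (CSAGal.tpow k A b) k) : Curves.Splits k (CSAGal.tpow k A a) k := by
  obtain ⟨hc, hs, hf⟩ := tpow_csa (k := k) (A := A) a
  exact splits_self_of_tensor (splits_of_algEquiv (tpowAddEquiv k A a b) hab) hb

/-- the tensor powers split over `k` are exactly the multiples of the period -/
theorem splits_tpow_iff_dvd {p : ℕ} (hp : CSAGal.IsPeriod k A p) (m : ℕ) :
    Curves.Splits k (CSAGal.tpow k A m) k ↔ p ∣ m := by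
  obtain ⟨hp0, hps, hmin⟩ := hp
  constructor
  · intro h
    by_contra hnd
    have hr : 0 < m % p := Nat.pos_of_ne_zero (fun h0 => hnd (Nat.dvd_of_mod_eq_zero h0))
    have hlt : m % p < p := Nat.mod_lt _ hp0
    have hm : m = m % p + p * (m / p) := (Nat.mod_add_div m p).symm
    rw [hm] at h
    exact hmin _ hr hlt (splits_tpow_sub h (splits_tpow_mul hps _))
  · rintro ⟨q, rfl⟩; exact splits_tpow_mul hps q

end Period

end Groth.Agent.Lib.LeadCSA
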