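import Mathlib
import Groth.Prelude.Def_GSzCSA
import Groth.Agent.Lib.Helper23GalDescent
import Groth.Agent.Lib.LeadTPow

/-!
# Projective semilinear representations and splitting of tensor powers (lead's library)

`PRep k M c C`: an `M`-vector space `T` with `σ`-semilinear maps `g σ` (`σ ∈ Gal(M/k)`) satisfying
`g σ ∘ g τ = c σ τ • g (σ τ)`, together with a `k`-algebra action of `C` by `M`-linear maps
commuting with all `g σ`.  Tensor products multiply the cocycles; if the cocycle is a coboundary,
Galois descent produces a `C`-module of `k`-dimension `dim_M T`.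
-/

set_option autoImplicit false
universe u v w

namespace Groth.Agent.Lib.LeadPRep

open TensorProduct

section SemiTensor

variable {M : Type*} [CommRing M] (σ : M →+* M)
variable {T V : Type*} [AddCommGroup T] [Module M T] [AddCommGroup V] [Module M V]

/-- tensor product of two `σ`-semilinear additive maps -/
noncomputable def semiTensor (f : T →+ T) (h : V →+ V)
    (hf : ∀ (a : M) t, f (a • t) = σ a • f t) (hh : ∀ (a : M) v, h (a • v) = σ a • h v) :
    T ⊗[M] V →+ T ⊗[M] V :=
  TensorProduct.liftAddHom
    { toFun := fun t =>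
        { toFun := fun v => f t ⊗ₜ[M] h v
          map_zero' := by simp
          map_add' := fun v v' => by simp [TensorProduct.tmul_add] }
      map_zero' := by ext v; simp
      map_add' := fun t t' => by ext v; simp [TensorProduct.add_tmul] }
    (fun r t v => by
      show f (r • t) ⊗ₜ[M] h v = f t ⊗ₜ[M] h (r • v)
      rw [hf, hh, TensorProduct.smul_tmul])

@[simp] theorem semiTensor_tmul (f : T →+ T) (h : V →+ V)
    (hf : ∀ (a : M) t, f (a • t) = σ a • f t) (hh : ∀ (a : M) v, h (a • v) = σ a • h v)
    (t : T) (v : V) : semiTensor σ f h hf hh (t ⊗ₜ[M] v) = f t ⊗ₜ[M] h v := rfl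

theorem semiTensor_smul (f : T →+ T) (h : V →+ V)
    (hf : ∀ (a : M) t, f (a • t) = σ a • f t) (hh : ∀ (a : M) v, h (a • v) = σ a • h v)
    (a : M) (x : T ⊗[M] V) :
    semiTensor σ f h hf hh (a • x) = σ a • semiTensor σ f h hf hh x := by
  induction x using TensorProduct.induction_on with
  | zero => simp
  | tmul t v => rw [TensorProduct.smul_tmul', semiTensor_tmul, hf, semiTensor_tmul,
      TensorProduct.smul_tmul']
  | add x y hx hy => rw [smul_add, map_add, hx, hy, map_add, smul_add]

end SemiTensor

section Def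

variable (k : Type u) (M : Type v) [Field k] [Field M] [Algebra k M]

/-- a projective semilinear representation with a commuting algebra action -/
structure PRep (c : (M ≃ₐ[k] M) → (M ≃ₐ[k] M) → M) (C : Type w) [Ring C] [Algebra k C] where
  T : Type v
  [iacg : AddCommGroup T]
  [imod : Module M T]
  [imodk : Module k T]
  [itower : IsScalarTower k M T]
  g : (M ≃ₐ[k] M) → T →+ T
  g_smul : ∀ σ (a : M) t, g σ (a • t) = σ a • g σ t
  g_mul : ∀ σ τ t, g σ (g τ t) = c σ τ • g (σ * τ) t
  g_one : ∀ t, g 1 t = c 1 1 • t
  ψ : C →ₐ[k] Module.End M T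
  comm : ∀ σ x t, g σ (ψ x t) = ψ x (g σ t)

attribute [instance] PRep.iacg PRep.imod PRep.imodk PRep.itower

end Def

section Tensor

variable {k : Type u} {M : Type v} [Field k] [Field M] [Algebra k M]
variable {c c' : (M ≃ₐ[k] M) → (M ≃ₐ[k] M) → M}
variable {C : Type*} [Ring C] [Algebra k C] {A : Type*} [Ring A] [Algebra k A]

/-- action on the left tensor factor -/
noncomputable def rT (P : PRep k M c C) (V : Type v) [AddCommGroup V] [Module M V] :
    C →ₐ[k] Module.End M (P.T ⊗[M] V) :=
  { (Module.End.rTensorAlgHom (R := M) (M := P.T) (N := V)).toRingHom.comp P.ψ.toRingHom with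
    commutes' := fun r => by
      show (Module.End.rTensorAlgHom (R := M) (M := P.T) (N := V)) (P.ψ (algebraMap k C r)) = _
      rw [AlgHom.commutes]
      apply TensorProduct.ext'
      intro t v
      simp [Algebra.algebraMap_eq_smul_one, Module.End.rTensorAlgHom, TensorProduct.smul_tmul'] }

@[simp] theorem rT_tmul (P : PRep k M c C) (V : Type v) [AddCommGroup V] [Module M V]
    (x : C) (t : P.T) (v : V) : rT P V x (t ⊗ₜ[M] v) = P.ψ x t ⊗ₜ[M] v := rfl

/-- action on the right tensor factor -/
noncomputable def lT (Q : PRep k M c' A) (T : Type v) [AddCommGroup T] [Module M T]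
    [Module k T] [IsScalarTower k M T] :
    A →ₐ[k] Module.End M (T ⊗[M] Q.T) :=
  { (Module.End.lTensorAlgHom (R := M) (M := Q.T) (N := T)).toRingHom.comp Q.ψ.toRingHom with
    commutes' := fun r => by
      show (Module.End.lTensorAlgHom (R := M) (M := Q.T) (N := T)) (Q.ψ (algebraMap k A r)) = _
      rw [AlgHom.commutes]
      apply TensorProduct.ext'
      intro t v
      simp only [Algebra.algebraMap_eq_smul_one, Module.End.lTensorAlgHom]
      show t ⊗ₜ[M] ((r • (1 : Module.End M Q.T)) v) = (r • (1 : Module.End M (T ⊗[M] Q.T))) (t ⊗ₜ[M] v)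
      simp only [LinearMap.smul_apply, Module.End.one_apply]
      rw [← algebraMap_smul M r v, ← algebraMap_smul M r (t ⊗ₜ[M] v), TensorProduct.tmul_smul] }

@[simp] theorem lT_tmul (Q : PRep k M c' A) (T : Type v) [AddCommGroup T] [Module M T]
    [Module k T] [IsScalarTower k M T]
    (a : A) (t : T) (v : Q.T) : lT Q T a (t ⊗ₜ[M] v) = t ⊗ₜ[M] Q.ψ a v := rfl

/-- tensor product of projective representations: cocycles multiply -/
noncomputable def PRep.tensor (P : PRep k M c C) (Q : PRep k M c' A) :
    PRep k M (fun σ τ => c σ τ * c' σ τ) (C ⊗[k] A) where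
  T := P.T ⊗[M] Q.T
  g σ := semiTensor (σ : M →+* M) (P.g σ) (Q.g σ) (P.g_smul σ) (Q.g_smul σ)
  g_smul σ a x := semiTensor_smul _ _ _ _ _ a x
  g_mul σ τ x := by
    induction x using TensorProduct.induction_on with
    | zero => simp
    | tmul t v =>
      simp only [semiTensor_tmul, P.g_mul, Q.g_mul]
      rw [TensorProduct.smul_tmul_smul]
    | add x y hx hy => simp only [map_add, hx, hy, smul_add]
  g_one x := by
    induction x using TensorProduct.induction_on with
    | zero => simp
    | tmul t v =>
      simp only [semiTensor_tmul, P.g_one, Q.g_one]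
      rw [TensorProduct.smul_tmul_smul]
    | add x y hx hy => simp only [map_add, hx, hy, smul_add]
  ψ := Algebra.TensorProduct.lift (rT P Q.T) (lT Q P.T) (fun x a => by
    show rT P Q.T x * lT Q P.T a = lT Q P.T a * rT P Q.T x
    apply TensorProduct.ext'
    intro t v
    simp [Module.End.mul_apply])
  comm σ z x := by
    induction z using TensorProduct.induction_on with
    | zero => simp
    | tmul y a =>
      induction x using TensorProduct.induction_on with
      | zero => simp
      | tmul t v =>
        simp only [Algebra.TensorProduct.lift_tmul, Module.End.mul_apply, lT_tmul, rT_tmul,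
          semiTensor_tmul, P.comm, Q.comm]
      | add x x' hx hx' => simp only [map_add, hx, hx']
    | add z z' hz hz' => simp only [map_add, LinearMap.add_apply, hz, hz']

theorem PRep.tensor_T (P : PRep k M c C) (Q : PRep k M c' A) :
    (P.tensor Q).T = (P.T ⊗[M] Q.T) := rfl

/-- transport along an algebra isomorphism -/
noncomputable def PRep.precomp (P : PRep k M c C) {C' : Type*} [Ring C'] [Algebra k C']
    (e : C' →ₐ[k] C) : PRep k M c C' where
  T := P.T
  g := P.g
  g_smul := P.g_smul
  g_mul := P.g_mul
  g_one := P.g_one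
  ψ := P.ψ.comp e
  comm σ x t := P.comm σ (e x) t

/-- change the cocycle along an equality -/
noncomputable def PRep.congr (P : PRep k M c C) {c₂ : (M ≃ₐ[k] M) → (M ≃ₐ[k] M) → M}
    (h : ∀ σ τ, c σ τ = c₂ σ τ) : PRep k M c₂ C where
  T := P.T
  g := P.g
  g_smul := P.g_smul
  g_mul σ τ t := by rw [P.g_mul, h]
  g_one t := by rw [P.g_one, h]
  ψ := P.ψ
  comm := P.comm

end Tensor

section Pow

variable {k : Type u} {M : Type v} [Field k] [Field M] [Algebra k M]
variable {c : (M ≃ₐ[k] M) → (M ≃ₐ[k] M) → M} {A : Type w} [Ring A] [Algebra k A]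

/-- the trivial representation of `k` on `M` -/
noncomputable def PRep.unit : PRep k M (fun _ _ => (1 : M)) k where
  T := M
  g σ := (σ : M →+* M).toAddMonoidHom
  g_smul σ a t := by simp
  g_mul σ τ t := by simp [AlgEquiv.mul_apply]
  g_one t := by simp
  ψ := Algebra.ofId k (Module.End M M)
  comm σ x t := by
    show σ ((algebraMap k (Module.End M M) x) t) = (algebraMap k (Module.End M M) x) (σ t)
    rw [Algebra.algebraMap_eq_smul_one]
    simp

theorem exists_pow (P : PRep k M c A) [Module.Finite M P.T] (r : ℕ) :
    ∃ Q : PRep k M (fun σ τ => c σ τ ^ r) (CSAGal.tpow k A r),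
      Module.Finite M Q.T ∧ Module.finrank M Q.T = Module.finrank M P.T ^ r := by
  induction r with
  | zero =>
    refine ⟨((PRep.unit (k := k) (M := M)).precomp (LeadCSA.tpowZeroEquiv k A).toAlgHom).congr
      (fun σ τ => by simp), ?_, ?_⟩
    · show Module.Finite M M
      infer_instance
    · show Module.finrank M M = _
      simp
  | succ r ih =>
    obtain ⟨Q, hQf, hQ⟩ := ih
    let e : CSAGal.tpow k A (r + 1) ≃ₐ[k] CSAGal.tpow k A r ⊗[k] A :=
      (LeadCSA.tpowAddEquiv k A r 1).trans
        (Algebra.TensorProduct.congr AlgEquiv.refl (LeadCSA.tpowOneEquiv k A))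
    refine ⟨((Q.tensor P).precomp e.toAlgHom).congr (fun σ τ => (pow_succ _ _).symm), ?_, ?_⟩
    · show Module.Finite M (Q.T ⊗[M] P.T)
      infer_instance
    · show Module.finrank M (Q.T ⊗[M] P.T) = _
      rw [Module.finrank_tensorProduct, hQ, pow_succ]

end Pow

section Descent

variable {k : Type u} {M : Type v} [Field k] [Field M] [Algebra k M] [FiniteDimensional k M]
  [IsGalois k M]
variable {c : (M ≃ₐ[k] M) → (M ≃ₐ[k] M) → M} {C : Type w} [Ring C] [Algebra k C]

/-- If the cocycle of a projective representation is a coboundary, `C` is split, provided the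
dimensions match. -/
theorem PRep.splits (P : PRep k M c C) (β : (M ≃ₐ[k] M) → Mˣ)
    (hβ : ∀ σ τ, c σ τ * β (σ * τ) = β σ * σ (β τ))
    [IsSimpleRing C] {N : ℕ} (hN : N ≠ 0) (hT : Module.finrank M P.T = N)
    (hC : Module.finrank k C = N ^ 2) : Curves.Splits k C k := by
  classical
  let h : (M ≃ₐ[k] M) → P.T → P.T := fun σ t => ((β σ)⁻¹ : Mˣ) • P.g σ t
  have hβ1 : (β 1 : M) = c 1 1 := by
    have := hβ 1 1
    rw [mul_one, AlgEquiv.one_apply] at this
    exact (mul_right_cancel₀ (β 1).ne_zero this).symm
  have hact : Helper23.IsSemilinearAction (k := k) (K := M) h := by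
    refine ⟨fun σ x y => ?_, fun σ a x => ?_, fun σ τ x => ?_, fun x => ?_⟩
    · simp only [h, map_add, smul_add]
    · simp only [h, P.g_smul, Units.smul_def, smul_smul, mul_comm]
    · simp only [h, Units.smul_def, P.g_smul, P.g_mul, smul_smul, Units.val_inv_eq_inv_val,
        map_inv₀]
      congr 1
      have h1 := hβ σ τ
      have hb1 : (β σ : M) ≠ 0 := (β σ).ne_zero
      have hb2 : σ (β τ : M) ≠ 0 := (map_ne_zero σ).2 (β τ).ne_zero
      have hb3 : (β (σ * τ) : M) ≠ 0 := (β (σ * τ)).ne_zero
      field_simp
      first | linear_combination -h1 | linear_combination h1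
    · simp only [h, P.g_one, Units.smul_def, smul_smul, ← hβ1]
      simp
  let W : Submodule k P.T :=
    { carrier := {t | ∀ σ, h σ t = t}
      add_mem' := fun {a b} ha hb σ => by rw [hact.map_add, ha σ, hb σ]
      zero_mem' := fun σ => hact.map_zero σ
      smul_mem' := fun x t ht σ => by
        rw [← algebraMap_smul M x t, hact.map_smul, AlgEquiv.commutes, ht σ] }
  have hWmem : ∀ t, t ∈ W ↔ ∀ σ, h σ t = t := fun t => Iff.rfl
  have hbij := hact.bijective_liftBaseChange W.subtype Subtype.val_injective (fun x => by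
    rw [Submodule.range_subtype, hWmem])
  have hdim : Module.finrank k W = N := by
    have e := LinearEquiv.ofBijective (W.subtype.liftBaseChange M) hbij
    rw [← hT, ← e.finrank_eq, Module.finrank_baseChange]
  have hNpos : 0 < N := Nat.pos_of_ne_zero hN
  haveI : Module.Finite k W := Module.finite_of_finrank_pos (by omega)
  have hstab : ∀ (x : C) (w : P.T), w ∈ W → P.ψ x w ∈ W := fun x w hw σ => by
    show ((β σ)⁻¹ : Mˣ) • P.g σ (P.ψ x w) = P.ψ x w
    have h1 : ((β σ)⁻¹ : Mˣ) • P.g σ w = w := hw σ
    rw [P.comm, Units.smul_def, ← map_smul, ← Units.smul_def, h1]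
  let ρ : C →ₐ[k] Module.End k W :=
    { toFun := fun x => ((P.ψ x).restrictScalars k).restrict (fun w hw => hstab x w hw)
      map_one' := by ext w; simp
      map_mul' := fun x y => by ext w; simp
      map_zero' := by ext w; simp
      map_add' := fun x y => by ext w; simp
      commutes' := fun r => by ext w; simp [Algebra.algebraMap_eq_smul_one] }
  haveI : Nontrivial W := Module.nontrivial_of_finrank_pos (R := k) (by omega)
  have hinj : Function.Injective ρ := RingHom.injective ρ.toRingHom
  haveI : Module.Finite k C := Module.finite_of_finrank_pos (by rw [hC]; positivity)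
  have hfr : Module.finrank k C = Module.finrank k (Module.End k W) := by
    rw [hC, Module.finrank_linearMap, hdim, pow_two]
  have hbij2 : Function.Bijective ρ :=
    ⟨hinj, (LinearMap.injective_iff_surjective_of_finrank_eq_finrank hfr
      (f := ρ.toLinearMap)).1 hinj⟩
  let e1 : C ≃ₐ[k] Module.End k W := AlgEquiv.ofBijective ρ hbij2
  let b := Module.finBasisOfFinrankEq k W hdim
  exact LeadCSA.splits_self_of_algEquiv_matrix hN (e1.trans (algEquivMatrix b))

end Descent

end Groth.Agent.Lib.LeadPRep
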