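import Mathlib
import Groth.Agent.Lib.LeadPRep
import Groth.Agent.Lib.LeadCSA

/-!
# The projective representation attached to a splitting `M ⊗ A ≃ Mat_m(M)` (lead's library)
-/

set_option autoImplicit false
universe u v w

namespace Groth.Agent.Lib.LeadPRep

open TensorProduct Matrix

section Base

variable {k : Type u} {M : Type v} [Field k] [Field M] [Algebra k M]
variable {A : Type w} [Ring A] [Algebra k A] {m : ℕ} [NeZero m]
variable (φ : M ⊗[k] A ≃ₐ[M] Matrix (Fin m) (Fin m) M)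

/-- `σ ⊗ 1` -/
noncomputable def sig (A : Type w) [Ring A] [Algebra k A] (σ : M ≃ₐ[k] M) :
    M ⊗[k] A →ₐ[k] M ⊗[k] A :=
  Algebra.TensorProduct.map (σ : M →ₐ[k] M) (AlgHom.id k A)

@[simp] theorem sig_tmul (σ : M ≃ₐ[k] M) (x : M) (a : A) : sig A σ (x ⊗ₜ[k] a) = σ x ⊗ₜ[k] a := rfl

theorem sig_mul (σ τ : M ≃ₐ[k] M) (z : M ⊗[k] A) : sig A σ (sig A τ z) = sig A (σ * τ) z := by
  induction z using TensorProduct.induction_on with
  | zero => simp
  | tmul x a => simp [AlgEquiv.mul_apply]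
  | add z z' h h' => simp only [map_add, h, h']

/-- the transported semilinear automorphism of the matrix algebra -/
noncomputable def theta (σ : M ≃ₐ[k] M) (X : Matrix (Fin m) (Fin m) M) : Matrix (Fin m) (Fin m) M :=
  φ (sig A σ (φ.symm X))

theorem theta_mul (σ τ : M ≃ₐ[k] M) (X : Matrix (Fin m) (Fin m) M) :
    theta φ σ (theta φ τ X) = theta φ (σ * τ) X := by
  simp only [theta, φ.symm_apply_apply, sig_mul]

theorem theta_fix (σ : M ≃ₐ[k] M) (a : A) :
    theta φ σ (φ ((1 : M) ⊗ₜ[k] a)) = φ ((1 : M) ⊗ₜ[k] a) := by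
  simp only [theta, φ.symm_apply_apply, sig_tmul, map_one]

omit [NeZero m] in
theorem map_mul' (τ : M ≃ₐ[k] M) (X Y : Matrix (Fin m) (Fin m) M) :
    (X * Y).map τ = X.map τ * Y.map τ := by
  ext i j
  simp [Matrix.mul_apply, map_sum]

omit [NeZero m] in
theorem map_algebraMap' (τ : M ≃ₐ[k] M) (a : M) :
    (algebraMap M (Matrix (Fin m) (Fin m) M) a).map τ =
      algebraMap M (Matrix (Fin m) (Fin m) M) (τ a) := by
  ext i j
  by_cases h : i = j <;> simp [Matrix.algebraMap_matrix_apply, h]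

/-- the `M`-linear automorphism `θ_σ ∘ σ⁻¹_*` -/
noncomputable def alpha (σ : M ≃ₐ[k] M) :
    Matrix (Fin m) (Fin m) M →ₐ[M] Matrix (Fin m) (Fin m) M where
  toFun X := theta φ σ (X.map σ.symm)
  map_one' := by
    simp only [theta]
    rw [Matrix.map_one _ (map_zero _) (map_one _), map_one, map_one, map_one]
  map_mul' X Y := by
    simp only [theta]
    rw [map_mul', map_mul, map_mul, map_mul]
  map_zero' := by
    simp only [theta]
    rw [Matrix.map_zero _ (map_zero _), map_zero, map_zero, map_zero]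
  map_add' X Y := by
    simp only [theta]
    rw [Matrix.map_add _ (map_add _), map_add, map_add, map_add]
  commutes' a := by
    simp only [theta]
    rw [map_algebraMap', AlgEquiv.commutes, Algebra.TensorProduct.algebraMap_apply, sig_tmul]
    simp only [Algebra.algebraMap_self, RingHom.id_apply, AlgEquiv.apply_symm_apply]
    rw [← AlgEquiv.commutes φ a, Algebra.TensorProduct.algebraMap_apply]
    simp

theorem exists_atil (σ : M ≃ₐ[k] M) : ∃ u : (Matrix (Fin m) (Fin m) M)ˣ,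
    ∀ X, theta φ σ X = (u : Matrix (Fin m) (Fin m) M) * X.map σ * ((u⁻¹ : (Matrix (Fin m) (Fin m) M)ˣ) : Matrix (Fin m) (Fin m) M) := by
  obtain ⟨u, hu⟩ := LeadCSA.skolem_noether (k := M) (alpha φ σ) (AlgHom.id M _)
  refine ⟨u, fun X => ?_⟩
  have := hu (X.map σ)
  simp only [AlgHom.id_apply] at this
  rw [← this]
  show theta φ σ X = theta φ σ ((X.map σ).map σ.symm)
  congr 1
  ext i j
  simp

/-- the chosen matrices `ã_σ` -/
noncomputable def atil (σ : M ≃ₐ[k] M) : (Matrix (Fin m) (Fin m) M)ˣ :=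
  Classical.choose (exists_atil φ σ)

theorem atil_spec (σ : M ≃ₐ[k] M) (X : Matrix (Fin m) (Fin m) M) :
    theta φ σ X = (atil φ σ : Matrix (Fin m) (Fin m) M) * X.map σ *
      ((atil φ σ)⁻¹ : (Matrix (Fin m) (Fin m) M)ˣ) :=
  Classical.choose_spec (exists_atil φ σ) X

end Base

section Cocycle

variable {k : Type u} {M : Type v} [Field k] [Field M] [Algebra k M]
variable {A : Type w} [Ring A] [Algebra k A] {m : ℕ} [NeZero m]
variable (φ : M ⊗[k] A ≃ₐ[M] Matrix (Fin m) (Fin m) M)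

local notation "Mat" => Matrix (Fin m) (Fin m) M

omit [NeZero m] in
/-- entrywise image of a unit matrix is a unit -/
theorem map_unit_mul (τ : M ≃ₐ[k] M) (u : Matˣ) :
    (u : Mat).map τ * ((u⁻¹ : Matˣ) : Mat).map τ = 1 := by
  rw [← map_mul', Units.mul_inv]
  ext i j
  by_cases h : i = j <;> simp [Matrix.one_apply, h]

omit [NeZero m] in
theorem map_unit_mul' (τ : M ≃ₐ[k] M) (u : Matˣ) :
    ((u⁻¹ : Matˣ) : Mat).map τ * (u : Mat).map τ = 1 := by
  rw [← map_mul', Units.inv_mul]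
  ext i j
  by_cases h : i = j <;> simp [Matrix.one_apply, h]

omit [NeZero m] in
theorem central_of_conj_eq {U Ui V Vi : Mat} (hUiU : Ui * U = 1)
    (hViV : Vi * V = 1) (h : ∀ X : Mat, U * X * Ui = V * X * Vi) (X : Mat) :
    X * (Vi * U) = (Vi * U) * X := by
  calc X * (Vi * U) = Vi * (V * X * Vi) * U := by
        rw [← mul_assoc Vi, ← mul_assoc Vi, hViV, one_mul, mul_assoc]
    _ = Vi * (U * X * Ui) * U := by rw [h]
    _ = Vi * U * X * (Ui * U) := by simp only [mul_assoc]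
    _ = Vi * U * X := by rw [hUiU, mul_one]

theorem exists_c (σ τ : M ≃ₐ[k] M) : ∃ c : M,
    (atil φ σ : Mat) * (atil φ τ : Mat).map σ = c • (atil φ (σ * τ) : Mat) := by
  obtain ⟨U, hU⟩ : ∃ U : Mat, U = (atil φ σ : Mat) * (atil φ τ : Mat).map σ := ⟨_, rfl⟩
  obtain ⟨Ui, hUi⟩ : ∃ Ui : Mat, Ui = ((atil φ τ)⁻¹ : Matˣ).1.map σ * ((atil φ σ)⁻¹ : Matˣ).1 :=
    ⟨_, rfl⟩
  obtain ⟨V, hV⟩ : ∃ V : Mat, V = (atil φ (σ * τ) : Mat) := ⟨_, rfl⟩
  obtain ⟨Vi, hVi⟩ : ∃ Vi : Mat, Vi = ((atil φ (σ * τ))⁻¹ : Matˣ).1 := ⟨_, rfl⟩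
  have hUiU : Ui * U = 1 := by
    rw [hU, hUi, mul_assoc, ← mul_assoc ((atil φ σ)⁻¹ : Matˣ).1, Units.inv_mul, one_mul,
      map_unit_mul']
  have hVVi : V * Vi = 1 := by rw [hV, hVi]; exact Units.mul_inv _
  have hViV : Vi * V = 1 := by rw [hV, hVi]; exact Units.inv_mul _
  have key : ∀ Y : Mat, U * Y.map (σ * τ) * Ui = V * Y.map (σ * τ) * Vi := by
    intro Y
    have h1 := theta_mul φ σ τ Y
    rw [atil_spec φ (σ * τ), atil_spec φ σ, atil_spec φ τ, map_mul', map_mul'] at h1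
    rw [hV, hVi, ← h1, hU, hUi]
    have : (Y.map τ).map σ = Y.map (σ * τ) := by
      ext i j; simp [AlgEquiv.mul_apply]
    rw [this]
    simp only [mul_assoc]
  have key2 : ∀ X : Mat, U * X * Ui = V * X * Vi := by
    intro X
    have := key (X.map (σ * τ).symm)
    have h2 : (X.map (σ * τ).symm).map (σ * τ) = X := by
      ext i j; simp
    rwa [h2] at this
  have hcen : Vi * U ∈ Subalgebra.center M Mat := by
    rw [Subalgebra.mem_center_iff]
    intro X
    exact central_of_conj_eq hUiU hViV key2 X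
  rw [Algebra.IsCentral.center_eq_bot, Algebra.mem_bot] at hcen
  obtain ⟨c, hc⟩ := hcen
  refine ⟨c, ?_⟩
  have : U = V * (Vi * U) := by rw [← mul_assoc, hVVi, one_mul]
  rw [← hU, ← hV, this, ← hc, Algebra.algebraMap_eq_smul_one, mul_smul_comm, mul_one]

/-- the 2-cocycle of the splitting -/
noncomputable def coc (σ τ : M ≃ₐ[k] M) : M := Classical.choose (exists_c φ σ τ)

theorem coc_spec (σ τ : M ≃ₐ[k] M) :
    (atil φ σ : Mat) * (atil φ τ : Mat).map σ = coc φ σ τ • (atil φ (σ * τ) : Mat) :=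
  Classical.choose_spec (exists_c φ σ τ)

omit [NeZero m] in
theorem det_map' (τ : M ≃ₐ[k] M) (X : Mat) : (X.map τ).det = τ X.det := by
  exact (RingHom.map_det (τ : M →+* M) X).symm

/-- the determinant trick: `c^m = ∂ (det ã)` -/
theorem coc_pow_det (σ τ : M ≃ₐ[k] M) :
    coc φ σ τ ^ m * (atil φ (σ * τ) : Mat).det = (atil φ σ : Mat).det * σ (atil φ τ : Mat).det := by
  have h := congrArg Matrix.det (coc_spec φ σ τ)
  rw [Matrix.det_mul, det_map', Matrix.det_smul, Fintype.card_fin] at h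
  exact h.symm

theorem smul_unit_cancel (V : Matˣ) {a b : M} (h : a • (V : Mat) = b • (V : Mat)) : a = b := by
  have h1 := congrArg (· * ((V⁻¹ : Matˣ) : Mat)) h
  simp only [smul_mul_assoc, Units.mul_inv] at h1
  have h2 := congrFun (congrFun h1 0) 0
  simpa using h2

/-- the 2-cocycle identity -/
theorem coc_cocycle (σ τ υ : M ≃ₐ[k] M) :
    coc φ σ τ * coc φ (σ * τ) υ = σ (coc φ τ υ) * coc φ σ (τ * υ) := by
  apply smul_unit_cancel (atil φ (σ * τ * υ))
  have e1 : (atil φ σ : Mat) * (atil φ τ : Mat).map σ * (atil φ υ : Mat).map (σ * τ) =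
      (coc φ σ τ * coc φ (σ * τ) υ) • (atil φ (σ * τ * υ) : Mat) := by
    rw [coc_spec, smul_mul_assoc, coc_spec, smul_smul]
  have e2 : (atil φ σ : Mat) * (atil φ τ : Mat).map σ * (atil φ υ : Mat).map (σ * τ) =
      (σ (coc φ τ υ) * coc φ σ (τ * υ)) • (atil φ (σ * τ * υ) : Mat) := by
    have h1 : (atil φ υ : Mat).map (σ * τ) = ((atil φ υ : Mat).map τ).map σ := by
      ext i j; simp [AlgEquiv.mul_apply]
    rw [h1, mul_assoc, ← map_mul', coc_spec]
    have h2 : (coc φ τ υ • (atil φ (τ * υ) : Mat)).map σ =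
        σ (coc φ τ υ) • (atil φ (τ * υ) : Mat).map σ := by
      ext i j; simp
    rw [h2, mul_smul_comm, coc_spec, smul_smul, mul_assoc σ τ υ]
  rw [← e1, e2]

end Cocycle

section BasePRep

variable {k : Type u} {M : Type v} [Field k] [Field M] [Algebra k M]
variable {A : Type w} [Ring A] [Algebra k A] {m : ℕ} [NeZero m]
variable (φ : M ⊗[k] A ≃ₐ[M] Matrix (Fin m) (Fin m) M)

local notation "Mat" => Matrix (Fin m) (Fin m) M

omit [NeZero m] in
theorem map_mulVec' (τ : M ≃ₐ[k] M) (X : Mat) (v : Fin m → M) :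
    (fun i => τ ((X *ᵥ v) i)) = X.map τ *ᵥ (fun i => τ (v i)) := by
  ext i
  simp [Matrix.mulVec, dotProduct, map_sum]

theorem atil_one : (atil φ 1 : Mat) = coc φ 1 1 • (1 : Mat) := by
  have h := coc_spec φ 1 1
  have h1 : (atil φ 1 : Mat).map (1 : M ≃ₐ[k] M) = (atil φ 1 : Mat) := by
    ext i j; simp
  rw [h1, mul_one] at h
  have h2 := congrArg (· * ((atil φ 1)⁻¹ : Matˣ).1) h
  simp only [mul_assoc, Units.mul_inv, mul_one, smul_mul_assoc] at h2
  exact h2

theorem atil_comm (σ : M ≃ₐ[k] M) (a : A) :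
    (atil φ σ : Mat) * (φ ((1 : M) ⊗ₜ[k] a)).map σ = φ ((1 : M) ⊗ₜ[k] a) * (atil φ σ : Mat) := by
  have h := theta_fix φ σ a
  rw [atil_spec] at h
  have h2 := congrArg (· * (atil φ σ : Mat)) h
  simp only [mul_assoc, Units.inv_mul, mul_one] at h2
  exact h2

/-- the action of `A` on `M^m` through the splitting -/
noncomputable def basePsi : A →ₐ[k] Module.End M (Fin m → M) where
  toFun a := Matrix.toLin' (φ ((1 : M) ⊗ₜ[k] a))
  map_one' := by
    rw [← Algebra.TensorProduct.one_def, map_one, Matrix.toLin'_one]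
    rfl
  map_mul' a b := by
    rw [show (1 : M) ⊗ₜ[k] (a * b) = ((1 : M) ⊗ₜ[k] a) * ((1 : M) ⊗ₜ[k] b) by
      rw [Algebra.TensorProduct.tmul_mul_tmul, one_mul], map_mul, Matrix.toLin'_mul]
    rfl
  map_zero' := by rw [TensorProduct.tmul_zero, map_zero, map_zero]
  map_add' a b := by rw [TensorProduct.tmul_add, map_add, map_add]
  commutes' r := by
    have h1 : (1 : M) ⊗ₜ[k] (algebraMap k A r) = algebraMap M (M ⊗[k] A) (algebraMap k M r) := by
      rw [Algebra.TensorProduct.algebraMap_apply, Algebra.algebraMap_self, RingHom.id_apply,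
        Algebra.algebraMap_eq_smul_one, Algebra.algebraMap_eq_smul_one, TensorProduct.tmul_smul,
        TensorProduct.smul_tmul']
    rw [h1, AlgEquiv.commutes, Algebra.algebraMap_eq_smul_one (algebraMap k M r), map_smul,
      Matrix.toLin'_one, algebraMap_smul, Algebra.algebraMap_eq_smul_one]
    rfl

omit [NeZero m] in
theorem basePsi_apply (a : A) (v : Fin m → M) :
    basePsi φ a v = φ ((1 : M) ⊗ₜ[k] a) *ᵥ v := rfl

/-- the base projective representation attached to a splitting -/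
noncomputable def basePRep : PRep k M (coc φ) A where
  T := Fin m → M
  g σ :=
    { toFun := fun v => (atil φ σ : Mat) *ᵥ (fun i => σ (v i))
      map_zero' := by
        simp only [Pi.zero_apply, map_zero]
        exact Matrix.mulVec_zero _
      map_add' := fun v w => by
        rw [← Matrix.mulVec_add]
        congr 1
        ext i
        simp }
  g_smul σ a v := by
    show (atil φ σ : Mat) *ᵥ (fun i => σ ((a • v) i)) = σ a • ((atil φ σ : Mat) *ᵥ fun i => σ (v i))
    rw [← Matrix.mulVec_smul]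
    congr 1
    ext i
    simp
  g_mul σ τ v := by
    show (atil φ σ : Mat) *ᵥ (fun i => σ (((atil φ τ : Mat) *ᵥ fun j => τ (v j)) i)) =
      coc φ σ τ • ((atil φ (σ * τ) : Mat) *ᵥ fun i => (σ * τ) (v i))
    rw [map_mulVec', Matrix.mulVec_mulVec, coc_spec, Matrix.smul_mulVec]
    rfl
  g_one v := by
    show (atil φ 1 : Mat) *ᵥ (fun i => (1 : M ≃ₐ[k] M) (v i)) = coc φ 1 1 • v
    rw [atil_one, Matrix.smul_mulVec, Matrix.one_mulVec]
    rfl
  ψ := basePsi φ
  comm σ a v := by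
    show (atil φ σ : Mat) *ᵥ (fun i => σ ((φ ((1 : M) ⊗ₜ[k] a) *ᵥ v) i)) =
      φ ((1 : M) ⊗ₜ[k] a) *ᵥ ((atil φ σ : Mat) *ᵥ fun i => σ (v i))
    rw [map_mulVec', Matrix.mulVec_mulVec, Matrix.mulVec_mulVec, atil_comm]

theorem basePRep_finrank : Module.finrank M (basePRep φ).T = m := by
  show Module.finrank M (Fin m → M) = m
  simp

instance : Module.Finite M (basePRep φ).T := by
  show Module.Finite M (Fin m → M)
  infer_instance

end BasePRep

end Groth.Agent.Lib.LeadPRep
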