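import Mathlib
import Groth.Agent.Lib.LeadPRepBase
import Groth.Agent.Lib.LeadCSASplits

/-!
# Period divides index; tensor powers killed by the degree of a Galois splitting field
(lead's library)
-/

set_option autoImplicit false
universe u v w

namespace Groth.Agent.Lib.LeadPRep

open TensorProduct Matrix

section MatrixRep

variable {k : Type u} {M : Type v} [Field k] [Field M] [Algebra k M]
variable {c : (M ≃ₐ[k] M) → (M ≃ₐ[k] M) → M} {D : Type w} [Ring D] [Algebra k D]

/-- the projective representation of `Mat_r(D)` on `r` copies of a representation of `D` -/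
noncomputable def PRep.matrix (P : PRep k M c D) (r : ℕ) :
    PRep k M c (Matrix (Fin r) (Fin r) D) where
  T := Fin r → P.T
  g σ :=
    { toFun := fun v i => P.g σ (v i)
      map_zero' := by ext i; simp
      map_add' := fun v w => by ext i; simp }
  g_smul σ a v := by ext i; simp [P.g_smul]
  g_mul σ τ v := by ext i; simp [P.g_mul]
  g_one v := by ext i; simp [P.g_one]
  ψ := (endVecAlgEquivMatrixEnd (Fin r) k M P.T).symm.toAlgHom.comp P.ψ.mapMatrix
  comm σ X v := by
    ext i
    show P.g σ (∑ j, P.ψ (X i j) (v j)) = ∑ j, P.ψ (X i j) (P.g σ (v j))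
    rw [map_sum]
    exact Finset.sum_congr rfl fun j _ => P.comm σ _ _

theorem PRep.matrix_finrank (P : PRep k M c D) [Module.Finite M P.T] (r : ℕ) :
    Module.finrank M (P.matrix r).T = r * Module.finrank M P.T := by
  show Module.finrank M (Fin r → P.T) = _
  rw [Module.finrank_pi_fintype]
  simp

instance (P : PRep k M c D) [Module.Finite M P.T] (r : ℕ) : Module.Finite M (P.matrix r).T := by
  show Module.Finite M (Fin r → P.T)
  infer_instance

instance (P : PRep k M c D) [Module.Finite M P.T] {C' : Type*} [Ring C'] [Algebra k C']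
    (e : C' →ₐ[k] D) : Module.Finite M (P.precomp e).T := by
  show Module.Finite M P.T
  infer_instance

end MatrixRep

section FinrankTPow

variable (k : Type u) [Field k] (A : Type w) [Ring A] [Algebra k A] [Module.Finite k A]

theorem finrank_tpow (r : ℕ) :
    Module.finrank k (CSAGal.tpow k A r) = Module.finrank k A ^ r := by
  induction r with
  | zero =>
    rw [(LeadCSA.tpowZeroEquiv k A).toLinearEquiv.finrank_eq, Module.finrank_self, pow_zero]
  | succ r ih =>
    rw [((LeadCSA.tpowAddEquiv k A r 1).trans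
      (Algebra.TensorProduct.congr AlgEquiv.refl (LeadCSA.tpowOneEquiv k A))).toLinearEquiv.finrank_eq,
      Module.finrank_tensorProduct, ih, pow_succ]

end FinrankTPow

section Main

variable {k : Type u} {M : Type v} [Field k] [Field M] [Algebra k M] [FiniteDimensional k M]
  [IsGalois k M]
variable {D : Type w} [Ring D] [Algebra k D] {m : ℕ} [NeZero m]
variable (φ : M ⊗[k] D ≃ₐ[M] Matrix (Fin m) (Fin m) M)

local notation "Mat" => Matrix (Fin m) (Fin m) M

theorem det_atil_ne_zero (σ : M ≃ₐ[k] M) : (atil φ σ : Mat).det ≠ 0 :=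
  ((Matrix.isUnit_iff_isUnit_det _).1 (atil φ σ).isUnit).ne_zero

theorem coc_ne_zero (σ τ : M ≃ₐ[k] M) : coc φ σ τ ≠ 0 := by
  intro h
  have h1 := coc_pow_det φ σ τ
  rw [h, zero_pow (NeZero.ne m), zero_mul] at h1
  exact mul_ne_zero (det_atil_ne_zero φ σ) ((map_ne_zero σ).2 (det_atil_ne_zero φ τ)) h1.symm

include φ in
/-- If `A ≃ Mat_r(D)` and `D` is split by the finite Galois extension `M` with degree `m`, then
`A^{⊗m}` is split over `k`. -/
theorem splits_tpow_degree {A : Type w} [Ring A] [Algebra k A] [Algebra.IsCentral k A]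
    [IsSimpleRing A] [FiniteDimensional k A] {r : ℕ} (hr : r ≠ 0)
    (e : A ≃ₐ[k] Matrix (Fin r) (Fin r) D) :
    Curves.Splits k (CSAGal.tpow k A m) k := by
  obtain ⟨Q, hQf, hQ⟩ := exists_pow (((basePRep φ).matrix r).precomp e.toAlgHom) m
  have hT : Module.finrank M (((basePRep φ).matrix r).precomp e.toAlgHom).T = r * m := by
    show Module.finrank M ((basePRep φ).matrix r).T = r * m
    rw [PRep.matrix_finrank, basePRep_finrank]
  rw [hT] at hQ
  haveI := (LeadCSA.tpow_csa (k := k) (A := A) m).2.1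
  have hD : Module.finrank k D = m ^ 2 := by
    have h1 := φ.toLinearEquiv.finrank_eq
    rw [Module.finrank_baseChange, Module.finrank_matrix] at h1
    simpa [pow_two] using h1
  haveI : Module.Finite k D := Module.finite_of_finrank_pos (by
    rw [hD]; exact pow_pos (Nat.pos_of_ne_zero (NeZero.ne m)) 2)
  have hA : Module.finrank k A = (r * m) ^ 2 := by
    rw [e.toLinearEquiv.finrank_eq, Module.finrank_matrix, hD]
    simp
    ring
  refine Q.splits (fun σ => Units.mk0 _ (det_atil_ne_zero φ σ)) (fun σ τ => ?_)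
    (N := (r * m) ^ m) (pow_ne_zero _ (mul_ne_zero hr (NeZero.ne m))) hQ ?_
  · exact coc_pow_det φ σ τ
  · rw [finrank_tpow, hA, ← pow_mul, ← pow_mul, Nat.mul_comm 2 m]

/-- A central simple algebra split by a finite Galois extension of degree `n` has `A^{⊗n}` split. -/
theorem splits_tpow_finrank {A : Type w} [Ring A] [Algebra k A] [Algebra.IsCentral k A]
    [IsSimpleRing A] [FiniteDimensional k A]
    (φ : M ⊗[k] A ≃ₐ[M] Matrix (Fin m) (Fin m) M) :
    Curves.Splits k (CSAGal.tpow k A (Module.finrank k M)) k := by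
  classical
  set n := Module.finrank k M with hn
  obtain ⟨Q, hQf, hQ⟩ := exists_pow (basePRep φ) n
  rw [basePRep_finrank] at hQ
  haveI := (LeadCSA.tpow_csa (k := k) (A := A) n).2.1
  have hA : Module.finrank k A = m ^ 2 := by
    have h1 := φ.toLinearEquiv.finrank_eq
    rw [Module.finrank_baseChange, Module.finrank_matrix] at h1
    simpa [pow_two] using h1
  have hcard : Fintype.card (M ≃ₐ[k] M) = n := by
    rw [← Nat.card_eq_fintype_card]; exact IsGalois.card_aut_eq_finrank k M
  refine Q.splits (fun σ => Units.mk0 (∏ υ : M ≃ₐ[k] M, coc φ σ υ)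
      (Finset.prod_ne_zero_iff.2 fun υ _ => coc_ne_zero φ σ υ)) (fun σ τ => ?_)
    (N := m ^ n) (pow_ne_zero _ (NeZero.ne m)) hQ ?_
  · show coc φ σ τ ^ n * ∏ υ : M ≃ₐ[k] M, coc φ (σ * τ) υ =
      (∏ υ : M ≃ₐ[k] M, coc φ σ υ) * σ (∏ υ : M ≃ₐ[k] M, coc φ τ υ)
    have h1 : ∏ υ : M ≃ₐ[k] M, (coc φ σ τ * coc φ (σ * τ) υ) =
        ∏ υ : M ≃ₐ[k] M, (σ (coc φ τ υ) * coc φ σ (τ * υ)) :=
      Finset.prod_congr rfl fun υ _ => coc_cocycle φ σ τ υ
    rw [Finset.prod_mul_distrib, Finset.prod_mul_distrib, Finset.prod_const, Finset.card_univ,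
      hcard] at h1
    rw [h1, map_prod, mul_comm]
    congr 1
    exact Fintype.prod_equiv (Equiv.mulLeft τ) _ _ (fun υ => rfl)
  · rw [finrank_tpow, hA, ← pow_mul, ← pow_mul, Nat.mul_comm 2 n]

end Main

end Groth.Agent.Lib.LeadPRep
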