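import Mathlib
import Groth.Agent.Lib.Helper14GeomRed
import Groth.Agent.Lib.LeadPrimary2

/-! Helper14: tensor products of (geometrically) reduced algebras over a field.
* over an algebraically closed field, reduced ⊗ reduced is reduced;
* a tensor product of geometrically reduced algebras is geometrically reduced;
* a finite tensor power of a geometrically reduced algebra is geometrically reduced. -/

set_option autoImplicit false
set_option linter.unusedVariables false
set_option linter.unusedSectionVars false
set_option linter.style.haveILetI false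

universe u
open TensorProduct

namespace Groth.Agent.Lib.Helper14.GeomRed2

open Groth.Agent.Lib.Helper14Idem

section AlgClosed

variable {k : Type u} [Field k] [IsAlgClosed k]

theorem isReduced_tensor_of_finiteType (A D : Type u) [CommRing A] [Algebra k A]
    [Algebra.FiniteType k A] [IsReduced A] [CommRing D] [Algebra k D] [IsReduced D] :
    IsReduced (A ⊗[k] D) := by
  classical
  have : IsJacobsonRing A := isJacobsonRing_of_finiteType (A := k)
  let c := Module.Basis.ofVectorSpace k D
  refine ⟨fun x hx => ?_⟩
  have hcoord : ∀ i, (Algebra.TensorProduct.basis A c).repr x i = 0 := by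
    intro i
    have hmem : (Algebra.TensorProduct.basis A c).repr x i ∈ (⊥ : Ideal A).jacobson := by
      rw [Ideal.jacobson, Ideal.mem_sInf]
      rintro m ⟨-, hm⟩
      haveI := hm
      obtain ⟨ev, hev⟩ := Groth.Agent.Lib.Helper14.TensorDomain.exists_algHom_of_isMaximal k A m
      rw [← hev, ← repr_map c ev x i]
      have hnil : IsNilpotent (Algebra.TensorProduct.map ev (AlgHom.id k D) x) := hx.map _
      haveI : IsReduced (k ⊗[k] D) :=
        isReduced_of_injective (Algebra.TensorProduct.lid k D)
          (Algebra.TensorProduct.lid k D).injective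
      rw [hnil.eq_zero, map_zero, Finsupp.zero_apply]
    rw [(isJacobsonRing_iff.mp this) ⊥ Ideal.isRadical_bot] at hmem
    exact hmem
  apply (Algebra.TensorProduct.basis A c).repr.injective
  ext i
  rw [hcoord i, map_zero, Finsupp.zero_apply]

theorem isReduced_tensor (A D : Type u) [CommRing A] [Algebra k A] [IsReduced A]
    [CommRing D] [Algebra k D] [IsReduced D] : IsReduced (D ⊗[k] A) := by
  apply IsReduced.tensorProduct_of_flat_of_forall_fg
  intro B hB
  haveI : Algebra.FiniteType k B := ⟨B.fg_top.mpr hB⟩
  haveI : IsReduced B := isReduced_of_injective B.val Subtype.val_injective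
  haveI := isReduced_tensor_of_finiteType (k := k) B D
  exact isReduced_of_injective (Algebra.TensorProduct.comm k D B)
    (Algebra.TensorProduct.comm k D B).injective

end AlgClosed

section Field

variable {k : Type u} [Field k]

theorem isGeometricallyReduced_tensor (S₁ S₂ : Type u) [CommRing S₁] [Algebra k S₁]
    [CommRing S₂] [Algebra k S₂]
    [Algebra.IsGeometricallyReduced k S₁] [Algebra.IsGeometricallyReduced k S₂] :
    Algebra.IsGeometricallyReduced k (S₁ ⊗[k] S₂) := by
  rw [Algebra.isGeometricallyReduced_field_iff]
  haveI h1 : IsReduced (AlgebraicClosure k ⊗[k] S₁) :=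
    (Algebra.isGeometricallyReduced_field_iff k S₁).mp inferInstance
  haveI h2 : IsReduced (AlgebraicClosure k ⊗[k] S₂) :=
    (Algebra.isGeometricallyReduced_field_iff k S₂).mp inferInstance
  haveI h3 : IsReduced ((AlgebraicClosure k ⊗[k] S₁) ⊗[AlgebraicClosure k]
      (AlgebraicClosure k ⊗[k] S₂)) :=
    isReduced_tensor (k := AlgebraicClosure k) (AlgebraicClosure k ⊗[k] S₂)
      (AlgebraicClosure k ⊗[k] S₁)
  let e1 := Algebra.TensorProduct.cancelBaseChange k (AlgebraicClosure k) (AlgebraicClosure k)
    (AlgebraicClosure k ⊗[k] S₁) S₂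
  let e2 := Algebra.TensorProduct.assoc k k (AlgebraicClosure k) (AlgebraicClosure k) S₁ S₂
  exact isReduced_of_injective (e2.symm.trans e1.symm) (e2.symm.trans e1.symm).injective

theorem isGeometricallyReduced_self : Algebra.IsGeometricallyReduced k k := by
  rw [Algebra.isGeometricallyReduced_field_iff]
  exact isReduced_of_injective (Algebra.TensorProduct.rid k k (AlgebraicClosure k))
    (Algebra.TensorProduct.rid k k (AlgebraicClosure k)).injective

theorem isGeometricallyReduced_pi (n : ℕ) : ∀ (ι : Type) [Fintype ι] [DecidableEq ι]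
    (F : ι → Type u) [∀ i, CommRing (F i)] [∀ i, Algebra k (F i)],
    Fintype.card ι = n → (∀ i, Algebra.IsGeometricallyReduced k (F i)) →
    Algebra.IsGeometricallyReduced k (⨂[k] i, F i) := by
  induction n with
  | zero =>
    intro ι _ _ F _ _ hcard hF
    haveI : IsEmpty ι := Fintype.card_eq_zero_iff.mp hcard
    let e := Groth.Agent.Lib.LeadPrimary.piEmptyEquiv (k := k) F
    haveI := isGeometricallyReduced_self (k := k)
    exact Algebra.IsGeometricallyReduced.of_injective e.toAlgHom e.injective
  | succ n ih =>
    intro ι _ _ F _ _ hcard hF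
    haveI : Nonempty ι := Fintype.card_pos_iff.mp (by omega)
    obtain ⟨i₀⟩ := ‹Nonempty ι›
    have hcard' : Fintype.card (({i₀}ᶜ : Set ι)) = n := by
      rw [Fintype.card_compl_set]; simp [hcard]
    haveI h1 := ih (({i₀}ᶜ : Set ι)) (fun i => F i) hcard' (fun i => hF i)
    haveI := hF i₀
    let e := Groth.Agent.Lib.LeadPrimary.piSplit k F i₀
    haveI := isGeometricallyReduced_tensor (k := k) (⨂[k] (i : ({i₀}ᶜ : Set ι)), F i) (F i₀)
    exact Algebra.IsGeometricallyReduced.of_injective e.toAlgHom e.injective

theorem isGeometricallyReduced_tpow (S : Type u) [CommRing S] [Algebra k S]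
    [Algebra.IsGeometricallyReduced k S] (d : ℕ) :
    Algebra.IsGeometricallyReduced k (⨂[k] _ : Fin d, S) :=
  isGeometricallyReduced_pi d (Fin d) (fun _ => S) (Fintype.card_fin d) (fun _ => inferInstance)

end Field

end Groth.Agent.Lib.Helper14.GeomRed2
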