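import Mathlib

/-! Helper14: glueing a finite extension modulo `f ^ n` (S7152). -/

set_option autoImplicit false
set_option linter.style.haveILetI false
set_option linter.unusedSectionVars false
universe u

namespace Groth.Agent.Lib.Helper14GlueFin


open Ideal

section Datum

variable {R₁ R₂ E₁ E₂ : Type*} [CommRing R₁] [CommRing R₂] [CommRing E₁] [CommRing E₂]
  (ι₁ : R₁ →+* E₁) (ι₂ : R₂ →+* E₂) (r₁ : R₁) (r₂ : R₂) (t n : ℕ)
  (φ' : R₁ ⧸ Ideal.span {r₁ ^ n} →+* R₂ ⧸ Ideal.span {r₂ ^ n})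

/-- the compatibility relation between elements of `E₁` and `E₂`. -/
def Rel (e₁ : E₁) (e₂ : E₂) : Prop :=
  ∃ (i₁ : R₁) (i₂ : R₂), ι₁ i₁ = ι₁ r₁ ^ t * e₁ ∧ ι₂ i₂ = ι₂ r₂ ^ t * e₂ ∧
    φ' (Ideal.Quotient.mk _ i₁) = Ideal.Quotient.mk _ i₂

variable {ι₁ ι₂ r₁ r₂ t n φ'}

theorem Rel.of_base (hφr : φ' (Ideal.Quotient.mk _ r₁) = Ideal.Quotient.mk _ r₂) {a : R₁} {b : R₂}
    (h : φ' (Ideal.Quotient.mk _ a) = Ideal.Quotient.mk _ b) :
    Rel ι₁ ι₂ r₁ r₂ t n φ' (ι₁ a) (ι₂ b) := by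
  refine ⟨r₁ ^ t * a, r₂ ^ t * b, ?_, ?_, ?_⟩
  · rw [map_mul, map_pow]
  · rw [map_mul, map_pow]
  · rw [map_mul, map_mul, map_mul, map_pow, map_pow, map_pow, hφr, h]

theorem Rel.add {e₁ e₁' : E₁} {e₂ e₂' : E₂} (h : Rel ι₁ ι₂ r₁ r₂ t n φ' e₁ e₂)
    (h' : Rel ι₁ ι₂ r₁ r₂ t n φ' e₁' e₂') : Rel ι₁ ι₂ r₁ r₂ t n φ' (e₁ + e₁') (e₂ + e₂') := by
  obtain ⟨i₁, i₂, h1, h2, h3⟩ := h
  obtain ⟨i₁', i₂', h1', h2', h3'⟩ := h'
  refine ⟨i₁ + i₁', i₂ + i₂', ?_, ?_, ?_⟩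
  · rw [map_add, h1, h1', mul_add]
  · rw [map_add, h2, h2', mul_add]
  · rw [map_add, map_add, map_add, h3, h3']

theorem Rel.unique (h₁inj : Function.Injective ι₁) (h₂ : ι₂ r₂ ∈ nonZeroDivisors E₂)
    (hn : 2 * t + 1 ≤ n) {e₁ : E₁} {e₂ e₂' : E₂} (h : Rel ι₁ ι₂ r₁ r₂ t n φ' e₁ e₂)
    (h' : Rel ι₁ ι₂ r₁ r₂ t n φ' e₁ e₂') :
    Ideal.Quotient.mk (Ideal.span {ι₂ r₂}) e₂ = Ideal.Quotient.mk (Ideal.span {ι₂ r₂}) e₂' := by
  obtain ⟨i₁, i₂, h1, h2, h3⟩ := h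
  obtain ⟨i₁', i₂', h1', h2', h3'⟩ := h'
  have hi : i₁ = i₁' := h₁inj (h1.trans h1'.symm)
  subst hi
  have hmk : Ideal.Quotient.mk (Ideal.span {r₂ ^ n}) i₂ = Ideal.Quotient.mk _ i₂' :=
    h3.symm.trans h3'
  rw [Ideal.Quotient.eq, Ideal.mem_span_singleton] at hmk
  obtain ⟨b, hb⟩ := hmk
  rw [Ideal.Quotient.eq, Ideal.mem_span_singleton]
  refine ⟨ι₂ r₂ ^ (n - t - 1) * ι₂ b, ?_⟩
  have hpow : ι₂ r₂ ^ t ∈ nonZeroDivisors E₂ := pow_mem h₂ t
  apply (mul_cancel_left_mem_nonZeroDivisors hpow).mp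
  have hb' := congrArg ι₂ hb
  rw [map_sub, h2, h2', map_mul, map_pow] at hb'
  have hnt : n = t + (1 + (n - t - 1)) := by omega
  rw [mul_sub, hb']
  conv_lhs => rw [hnt, pow_add, pow_add, pow_one]
  ring

theorem Rel.mul (h₁inj : Function.Injective ι₁) (h₂ : ι₂ r₂ ∈ nonZeroDivisors E₂)
    (hφr : φ' (Ideal.Quotient.mk _ r₁) = Ideal.Quotient.mk _ r₂)
    (hn : 2 * t + 1 ≤ n) {e₁ e₁' : E₁} {e₂ e₂' e₂'' : E₂} (h : Rel ι₁ ι₂ r₁ r₂ t n φ' e₁ e₂)
    (h' : Rel ι₁ ι₂ r₁ r₂ t n φ' e₁' e₂') (h'' : Rel ι₁ ι₂ r₁ r₂ t n φ' (e₁ * e₁') e₂'') :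
    Ideal.Quotient.mk (Ideal.span {ι₂ r₂}) e₂'' =
      Ideal.Quotient.mk (Ideal.span {ι₂ r₂}) (e₂ * e₂') := by
  obtain ⟨i₁, i₂, h1, h2, h3⟩ := h
  obtain ⟨i₁', i₂', h1', h2', h3'⟩ := h'
  obtain ⟨i₁'', i₂'', h1'', h2'', h3''⟩ := h''
  have hi : i₁ * i₁' = r₁ ^ t * i₁'' := by
    apply h₁inj
    rw [map_mul, map_mul, map_pow, h1, h1', h1'']
    ring
  have hmk : Ideal.Quotient.mk (Ideal.span {r₂ ^ n}) (i₂ * i₂') =
      Ideal.Quotient.mk _ (r₂ ^ t * i₂'') := by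
    rw [map_mul, map_mul, map_pow, ← h3, ← h3', ← h3'', ← hφr, ← map_pow, ← map_mul, ← map_mul,
      ← map_mul, ← map_pow, ← map_mul, hi]
  rw [Ideal.Quotient.eq, Ideal.mem_span_singleton] at hmk
  obtain ⟨b, hb⟩ := hmk
  rw [eq_comm, Ideal.Quotient.eq, Ideal.mem_span_singleton]
  refine ⟨ι₂ r₂ ^ (n - 2 * t - 1) * ι₂ b, ?_⟩
  have hpow : ι₂ r₂ ^ (2 * t) ∈ nonZeroDivisors E₂ := pow_mem h₂ _
  apply (mul_cancel_left_mem_nonZeroDivisors hpow).mp
  have hb' := congrArg ι₂ hb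
  rw [map_sub, map_mul, map_mul, h2, h2', h2'', map_mul, map_pow, map_pow] at hb'
  have hnt : n = 2 * t + (1 + (n - 2 * t - 1)) := by omega
  have e1 : ι₂ r₂ ^ (2 * t) * (e₂ * e₂' - e₂'') =
      ι₂ r₂ ^ t * e₂ * (ι₂ r₂ ^ t * e₂') - ι₂ r₂ ^ t * (ι₂ r₂ ^ t * e₂'') := by ring
  rw [e1, hb']
  conv_lhs => rw [hnt, pow_add, pow_add, pow_one]
  ring

theorem exists_hom (h₁inj : Function.Injective ι₁) (h₂ : ι₂ r₂ ∈ nonZeroDivisors E₂)
    (hφr : φ' (Ideal.Quotient.mk _ r₁) = Ideal.Quotient.mk _ r₂)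
    (hn : 2 * t + 1 ≤ n)
    (htot : ∀ e₁ : E₁, ∃ e₂ : E₂, Rel ι₁ ι₂ r₁ r₂ t n φ' e₁ e₂) :
    ∃ ψ : E₁ ⧸ Ideal.span {ι₁ r₁} →+* E₂ ⧸ Ideal.span {ι₂ r₂},
      ∀ e₁ e₂, Rel ι₁ ι₂ r₁ r₂ t n φ' e₁ e₂ →
        ψ (Ideal.Quotient.mk _ e₁) = Ideal.Quotient.mk _ e₂ := by
  classical
  choose F hF using htot
  have hspec : ∀ e₁ e₂, Rel ι₁ ι₂ r₁ r₂ t n φ' e₁ e₂ →
      Ideal.Quotient.mk (Ideal.span {ι₂ r₂}) (F e₁) = Ideal.Quotient.mk _ e₂ :=
    fun e₁ e₂ h => Rel.unique h₁inj h₂ hn (hF e₁) h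
  have h1 : Rel ι₁ ι₂ r₁ r₂ t n φ' 1 1 := by
    have := Rel.of_base (ι₁ := ι₁) (ι₂ := ι₂) (t := t) hφr (a := 1) (b := 1)
      (by rw [map_one, map_one, map_one])
    rwa [map_one, map_one] at this
  have h0 : Rel ι₁ ι₂ r₁ r₂ t n φ' 0 0 := by
    have := Rel.of_base (ι₁ := ι₁) (ι₂ := ι₂) (t := t) hφr (a := 0) (b := 0)
      (by rw [map_zero, map_zero, map_zero])
    rwa [map_zero, map_zero] at this
  have hr : Rel ι₁ ι₂ r₁ r₂ t n φ' (ι₁ r₁) (ι₂ r₂) := Rel.of_base hφr hφr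
  let ρ : E₁ →+* E₂ ⧸ Ideal.span {ι₂ r₂} :=
    { toFun := fun e₁ => Ideal.Quotient.mk _ (F e₁)
      map_one' := by
        change Ideal.Quotient.mk _ (F 1) = 1
        rw [hspec 1 1 h1, map_one]
      map_mul' := by
        intro x y
        change Ideal.Quotient.mk _ (F (x * y)) = Ideal.Quotient.mk _ (F x) * Ideal.Quotient.mk _ (F y)
        rw [← map_mul]
        exact Rel.mul h₁inj h₂ hφr hn (hF x) (hF y) (hF (x * y))
      map_zero' := by
        change Ideal.Quotient.mk _ (F 0) = 0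
        rw [hspec 0 0 h0, map_zero]
      map_add' := by
        intro x y
        change Ideal.Quotient.mk _ (F (x + y)) = Ideal.Quotient.mk _ (F x) + Ideal.Quotient.mk _ (F y)
        rw [← map_add]
        exact hspec _ _ ((hF x).add (hF y)) }
  have hρ : ∀ e₁, ρ e₁ = Ideal.Quotient.mk _ (F e₁) := fun _ => rfl
  have hker : ∀ a ∈ Ideal.span {ι₁ r₁}, ρ a = 0 := by
    intro a ha
    rw [Ideal.mem_span_singleton] at ha
    obtain ⟨c, rfl⟩ := ha
    rw [map_mul, hρ (ι₁ r₁), hspec _ _ hr]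
    have : Ideal.Quotient.mk (Ideal.span {ι₂ r₂}) (ι₂ r₂) = 0 := by
      rw [Ideal.Quotient.eq_zero_iff_mem]
      exact Ideal.mem_span_singleton_self _
    rw [this, zero_mul]
  refine ⟨Ideal.Quotient.lift _ ρ hker, ?_⟩
  intro e₁ e₂ h
  rw [Ideal.Quotient.lift_mk, hρ]
  exact hspec e₁ e₂ h

end Datum

section Equiv

variable {R₁ R₂ E₁ E₂ : Type*} [CommRing R₁] [CommRing R₂] [CommRing E₁] [CommRing E₂]
  {ι₁ : R₁ →+* E₁} {ι₂ : R₂ →+* E₂} {r₁ : R₁} {r₂ : R₂} {t n : ℕ}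

theorem Rel.symm (φ' : (R₁ ⧸ Ideal.span {r₁ ^ n}) ≃+* (R₂ ⧸ Ideal.span {r₂ ^ n})) {e₁ : E₁}
    {e₂ : E₂} (h : Rel ι₁ ι₂ r₁ r₂ t n φ'.toRingHom e₁ e₂) :
    Rel ι₂ ι₁ r₂ r₁ t n φ'.symm.toRingHom e₂ e₁ := by
  obtain ⟨i₁, i₂, h1, h2, h3⟩ := h
  refine ⟨i₂, i₁, h2, h1, ?_⟩
  change φ'.symm _ = _
  rw [← h3]
  exact φ'.symm_apply_apply _

theorem exists_equiv (h₁inj : Function.Injective ι₁) (h₂inj : Function.Injective ι₂)
    (h₁ : ι₁ r₁ ∈ nonZeroDivisors E₁) (h₂ : ι₂ r₂ ∈ nonZeroDivisors E₂)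
    (φ' : (R₁ ⧸ Ideal.span {r₁ ^ n}) ≃+* (R₂ ⧸ Ideal.span {r₂ ^ n}))
    (hφr : φ' (Ideal.Quotient.mk _ r₁) = Ideal.Quotient.mk _ r₂)
    (hn : 2 * t + 1 ≤ n)
    (htot₁₂ : ∀ e₁ : E₁, ∃ e₂ : E₂, Rel ι₁ ι₂ r₁ r₂ t n φ'.toRingHom e₁ e₂)
    (htot₂₁ : ∀ e₂ : E₂, ∃ e₁ : E₁, Rel ι₁ ι₂ r₁ r₂ t n φ'.toRingHom e₁ e₂) :
    ∃ ψ : (E₁ ⧸ Ideal.span {ι₁ r₁}) ≃+* (E₂ ⧸ Ideal.span {ι₂ r₂}),
      ∀ e₁ e₂, Rel ι₁ ι₂ r₁ r₂ t n φ'.toRingHom e₁ e₂ →
        ψ (Ideal.Quotient.mk _ e₁) = Ideal.Quotient.mk _ e₂ := by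
  have hφr' : φ'.symm (Ideal.Quotient.mk _ r₂) = Ideal.Quotient.mk _ r₁ := by
    rw [← hφr]
    exact φ'.symm_apply_apply _
  obtain ⟨ψ₁₂, hψ₁₂⟩ := exists_hom (φ' := φ'.toRingHom) h₁inj h₂ hφr hn htot₁₂
  obtain ⟨ψ₂₁, hψ₂₁⟩ := exists_hom (φ' := φ'.symm.toRingHom) h₂inj h₁ hφr' hn
    (fun e₂ => by
      obtain ⟨e₁, he₁⟩ := htot₂₁ e₂
      exact ⟨e₁, he₁.symm φ'⟩)
  refine ⟨RingEquiv.ofRingHom ψ₁₂ ψ₂₁ ?_ ?_, ?_⟩
  · refine RingHom.ext fun x => ?_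
    obtain ⟨e₂, rfl⟩ := Ideal.Quotient.mk_surjective x
    obtain ⟨e₁, he₁⟩ := htot₂₁ e₂
    rw [RingHom.comp_apply, hψ₂₁ e₂ e₁ (he₁.symm φ'), hψ₁₂ e₁ e₂ he₁, RingHom.id_apply]
  · refine RingHom.ext fun x => ?_
    obtain ⟨e₁, rfl⟩ := Ideal.Quotient.mk_surjective x
    obtain ⟨e₂, he₂⟩ := htot₁₂ e₁
    rw [RingHom.comp_apply, hψ₁₂ e₁ e₂ he₂, hψ₂₁ e₂ e₁ (he₂.symm φ'), RingHom.id_apply]
  · intro e₁ e₂ h
    exact hψ₁₂ e₁ e₂ h

end Equiv



open Ideal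

section Step1

theorem exists_pow_mul_mem (A' A : Type u) [CommRing A'] [CommRing A] [Algebra A' A]
    [Module.Finite A' A] (f : A') (hf : algebraMap A' A f ∈ nonZeroDivisors A)
    (hloc : Function.Surjective (IsLocalization.Away.map (Localization.Away f)
      (Localization.Away (algebraMap A' A f)) (algebraMap A' A) f)) :
    ∃ t : ℕ, ∀ a : A, ∃ a' : A', algebraMap A' A a' = algebraMap A' A f ^ t * a := by
  classical
  have hinjloc : Function.Injective (algebraMap A (Localization.Away (algebraMap A' A f))) :=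
    IsLocalization.injective _ (Submonoid.powers_le.mpr hf)
  have key : ∀ a : A, ∃ (k : ℕ) (a' : A'), algebraMap A' A a' = algebraMap A' A f ^ k * a := by
    intro a
    obtain ⟨y, hy⟩ := hloc (algebraMap A (Localization.Away (algebraMap A' A f)) a)
    obtain ⟨a', ⟨_, k, rfl⟩, rfl⟩ := IsLocalization.exists_mk'_eq (Submonoid.powers f) y
    refine ⟨k, a', ?_⟩
    rw [IsLocalization.Away.map, IsLocalization.map_mk', IsLocalization.mk'_eq_iff_eq_mul] at hy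
    apply hinjloc
    rw [hy, mul_comm]
    simp only [map_mul, map_pow]
  choose k a' hka using key
  obtain ⟨S, hS⟩ := (Module.Finite.fg_top : (⊤ : Submodule A' A).FG)
  refine ⟨S.sup k, fun a => ?_⟩
  have ha : a ∈ Submodule.span A' (S : Set A) := by rw [hS]; trivial
  induction ha using Submodule.span_induction with
  | mem x hx =>
    have hle : k x ≤ S.sup k := Finset.le_sup hx
    refine ⟨f ^ (S.sup k - k x) * a' x, ?_⟩
    rw [map_mul, map_pow, hka, ← mul_assoc, ← pow_add, Nat.sub_add_cancel hle]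
  | zero => exact ⟨0, by rw [map_zero, mul_zero]⟩
  | add x y _ _ hx hy =>
    obtain ⟨x', hx'⟩ := hx
    obtain ⟨y', hy'⟩ := hy
    exact ⟨x' + y', by rw [map_add, hx', hy', mul_add]⟩
  | smul c x _ hx =>
    obtain ⟨x', hx'⟩ := hx
    exact ⟨c * x', by rw [map_mul, hx', Algebra.smul_def]; ring⟩

end Step1




open Ideal

section Main

set_option maxHeartbeats 1600000 in
theorem main (A' A : Type u) [CommRing A'] [CommRing A] [Algebra A' A]
    (hinj : Function.Injective (algebraMap A' A)) [Module.Finite A' A] (f : A')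
    (hf : algebraMap A' A f ∈ nonZeroDivisors A)
    (hloc : Function.Bijective (IsLocalization.Away.map (Localization.Away f)
      (Localization.Away (algebraMap A' A f)) (algebraMap A' A) f)) :
    ∃ n₀ : ℕ, 0 < n₀ ∧ ∀ n : ℕ, n₀ ≤ n →
      ∀ (B' : Type u) [CommRing B'] (g : B'), g ∈ nonZeroDivisors B' →
        ∀ φ' : (A' ⧸ Ideal.span {f ^ n}) ≃+* (B' ⧸ Ideal.span {g ^ n}),
        φ' (Ideal.Quotient.mk (Ideal.span {f ^ n}) f) = Ideal.Quotient.mk (Ideal.span {g ^ n}) g →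
        ∃ (B : Type u) (_ : CommRing B) (_ : Algebra B' B),
          Function.Injective (algebraMap B' B) ∧ Module.Finite B' B ∧
          ∃ φ : (A ⧸ Ideal.span {algebraMap A' A f}) ≃+* (B ⧸ Ideal.span {algebraMap B' B g}),
            ∀ (a' : A') (b' : B'),
              φ' (Ideal.Quotient.mk (Ideal.span {f ^ n}) a') = Ideal.Quotient.mk (Ideal.span {g ^ n}) b' →
              φ (Ideal.Quotient.mk (Ideal.span {algebraMap A' A f}) (algebraMap A' A a')) =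
                Ideal.Quotient.mk (Ideal.span {algebraMap B' B g}) (algebraMap B' B b') := by
  classical
  obtain ⟨t, ht⟩ := exists_pow_mul_mem A' A f hf hloc.2
  refine ⟨2 * t + 1, by omega, fun n hn B' _ g hg φ' hφg => ?_⟩
  -- the ideal `I = f ^ t A` of `A'`
  let I : Ideal A' := (Ideal.span {algebraMap A' A f ^ t}).comap (algebraMap A' A)
  have mem_I : ∀ a' : A', a' ∈ I ↔ ∃ a : A, algebraMap A' A a' = algebraMap A' A f ^ t * a := by
    intro a'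
    rw [Ideal.mem_comap, Ideal.mem_span_singleton]
    rfl
  -- generators of `I`
  obtain ⟨S, hS⟩ := (Module.Finite.fg_top : (⊤ : Submodule A' A).FG)
  choose lam hlam using ht
  have hI_gen : ∀ a' ∈ I, ∃ c : A → A', a' = ∑ s ∈ S, c s * lam s := by
    intro a' ha'
    obtain ⟨a, ha⟩ := (mem_I a').mp ha'
    have haS : a ∈ Submodule.span A' (S : Set A) := by rw [hS]; trivial
    obtain ⟨c, -, hc⟩ := Submodule.mem_span_finset.mp haS
    refine ⟨c, ?_⟩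
    apply hinj
    rw [ha, ← hc, map_sum, Finset.mul_sum]
    refine Finset.sum_congr rfl fun s _ => ?_
    rw [map_mul, hlam, Algebra.smul_def]
    ring
  have hlamI : ∀ a : A, lam a ∈ I := fun a => (mem_I _).mpr ⟨a, hlam a⟩
  -- the ideal `J` of `B'`
  let J : Ideal B' := ((I.map (Ideal.Quotient.mk (Ideal.span {f ^ n}))).map
    (φ' : _ →+* _)).comap (Ideal.Quotient.mk (Ideal.span {g ^ n}))
  have mem_J : ∀ b : B', b ∈ J ↔ ∃ i ∈ I, φ' (Ideal.Quotient.mk _ i) = Ideal.Quotient.mk _ b := by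
    intro b
    rw [Ideal.mem_comap, Ideal.mem_map_iff_of_surjective
      (φ' : (A' ⧸ Ideal.span {f ^ n}) →+* (B' ⧸ Ideal.span {g ^ n})) φ'.surjective]
    constructor
    · rintro ⟨y, hy, hyb⟩
      obtain ⟨i, hi, rfl⟩ :=
        (Ideal.mem_map_iff_of_surjective _ Ideal.Quotient.mk_surjective).mp hy
      exact ⟨i, hi, hyb⟩
    · rintro ⟨i, hi, hib⟩
      exact ⟨_, Ideal.mem_map_of_mem _ hi, hib⟩
  have hfI : f ^ t ∈ I := (mem_I _).mpr ⟨1, by rw [map_pow, mul_one]⟩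
  have hφpow : ∀ k : ℕ, φ' (Ideal.Quotient.mk _ (f ^ k)) = Ideal.Quotient.mk _ (g ^ k) := by
    intro k
    rw [map_pow, map_pow, hφg, map_pow]
  have hgJ : g ^ t ∈ J := (mem_J _).mpr ⟨f ^ t, hfI, hφpow t⟩
  have hgnJ : ∀ b : B', g ^ (n - t) * b ∈ J := by
    intro b
    have e : n - t = t + (n - 2 * t) := by omega
    have : g ^ (n - t) * b = g ^ t * (g ^ (n - 2 * t) * b) := by
      rw [e, pow_add, mul_assoc]
    rw [this]
    exact J.mul_mem_right _ hgJ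
  have hJmul : ∀ j ∈ J, ∀ j' ∈ J, ∃ j'' ∈ J, j * j' = g ^ t * j'' := by
    intro j hj j' hj'
    obtain ⟨i, hi, hij⟩ := (mem_J j).mp hj
    obtain ⟨i', hi', hij'⟩ := (mem_J j').mp hj'
    obtain ⟨a, ha⟩ := (mem_I i).mp hi
    obtain ⟨a', ha'⟩ := (mem_I i').mp hi'
    have hii : i * i' = f ^ t * lam (a * a') := by
      apply hinj
      rw [map_mul, map_mul, map_pow, ha, ha', hlam]
      ring
    obtain ⟨j₀, hj₀⟩ := Ideal.Quotient.mk_surjective (φ' (Ideal.Quotient.mk _ (lam (a * a'))))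
    have hj₀J : j₀ ∈ J := (mem_J j₀).mpr ⟨_, hlamI _, hj₀.symm⟩
    have hmk : Ideal.Quotient.mk (Ideal.span {g ^ n}) (j * j') =
        Ideal.Quotient.mk _ (g ^ t * j₀) := by
      rw [map_mul, map_mul, ← hij, ← hij', hj₀, ← hφpow, ← map_mul, ← map_mul, ← map_mul, hii,
        map_mul]
    rw [Ideal.Quotient.eq, Ideal.mem_span_singleton] at hmk
    obtain ⟨b, hb⟩ := hmk
    refine ⟨j₀ + g ^ (n - t) * b, J.add_mem hj₀J (hgnJ b), ?_⟩
    have hnt : n = t + (n - t) := by omega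
    rw [mul_add, ← mul_assoc, ← pow_add, ← hnt, ← hb]
    ring
  -- `J` is finitely generated
  have hJfg : (J : Submodule B' B').FG := by
    choose jl hjl using fun a : A =>
      Ideal.Quotient.mk_surjective (φ' (Ideal.Quotient.mk (Ideal.span {f ^ n}) (lam a)))
    have hjlJ : ∀ a, jl a ∈ J := fun a => (mem_J _).mpr ⟨_, hlamI a, (hjl a).symm⟩
    refine ⟨insert (g ^ n) (S.image jl), ?_⟩
    apply le_antisymm
    · rw [Submodule.span_le]
      intro x hx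
      rw [Finset.coe_insert, Finset.coe_image] at hx
      rcases hx with rfl | ⟨s, -, rfl⟩
      · have : g ^ n = g ^ (n - t) * g ^ t := by rw [← pow_add]; congr 1; omega
        rw [this]
        exact hgnJ _
      · exact hjlJ s
    · intro b hb
      obtain ⟨i, hi, hib⟩ := (mem_J b).mp hb
      obtain ⟨c, hc⟩ := hI_gen i hi
      choose d hd using fun s : A =>
        Ideal.Quotient.mk_surjective (φ' (Ideal.Quotient.mk (Ideal.span {f ^ n}) (c s)))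
      have hmk : Ideal.Quotient.mk (Ideal.span {g ^ n}) b =
          Ideal.Quotient.mk _ (∑ s ∈ S, d s * jl s) := by
        rw [← hib, hc, map_sum, map_sum, map_sum]
        refine Finset.sum_congr rfl fun s _ => ?_
        rw [map_mul, map_mul, map_mul, hd, hjl]
      rw [Ideal.Quotient.eq, Ideal.mem_span_singleton] at hmk
      obtain ⟨b₀, hb₀⟩ := hmk
      have hb' : b = ∑ s ∈ S, d s * jl s + g ^ n * b₀ := by rw [← hb₀]; ring
      rw [hb']
      refine Submodule.add_mem _ (Submodule.sum_mem _ fun s hs => ?_) ?_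
      · rw [← smul_eq_mul]
        refine Submodule.smul_mem _ _ (Submodule.subset_span ?_)
        rw [Finset.coe_insert, Finset.coe_image]
        exact Or.inr ⟨s, hs, rfl⟩
      · rw [mul_comm, ← smul_eq_mul]
        refine Submodule.smul_mem _ _ (Submodule.subset_span ?_)
        rw [Finset.coe_insert]
        exact Or.inl rfl
  -- the ring `B = g ^ (-t) J`
  have hgunit : IsUnit (algebraMap B' (Localization.Away g) g) :=
    IsLocalization.Away.algebraMap_isUnit g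
  obtain ⟨u, hu⟩ := hgunit.pow t
  have hℓinj : Function.Injective (algebraMap B' (Localization.Away g)) :=
    IsLocalization.injective _ (Submonoid.powers_le.mpr hg)
  let L : B' →ₗ[B'] Localization.Away g :=
    { toFun := fun b => algebraMap B' _ b * ((u⁻¹ : (Localization.Away g)ˣ) : Localization.Away g)
      map_add' := fun x y => by rw [map_add, add_mul]
      map_smul' := fun c x => by
        rw [smul_eq_mul, map_mul, RingHom.id_apply, Algebra.smul_def, mul_assoc] }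
  have hL : ∀ b, L b = algebraMap B' _ b * ((u⁻¹ : (Localization.Away g)ˣ) : Localization.Away g) :=
    fun b => rfl
  have hLu : ∀ b, algebraMap B' (Localization.Away g) g ^ t * L b = algebraMap B' _ b := by
    intro b
    rw [hL, ← hu, mul_comm, mul_assoc, Units.inv_mul, mul_one]
  have h_one : (1 : Localization.Away g) ∈ Submodule.map L J := by
    refine ⟨g ^ t, hgJ, ?_⟩
    rw [hL, map_pow, ← hu, Units.mul_inv]
  have h_mul : ∀ x y, x ∈ Submodule.map L J → y ∈ Submodule.map L J →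
      x * y ∈ Submodule.map L J := by
    rintro _ _ ⟨j, hj, rfl⟩ ⟨j', hj', rfl⟩
    obtain ⟨j'', hj'', hjj⟩ := hJmul j hj j' hj'
    refine ⟨j'', hj'', ?_⟩
    rw [hL, hL, hL, mul_mul_mul_comm, ← map_mul, hjj, map_mul, map_pow, ← hu]
    rw [mul_comm ((u : Localization.Away g)) _, mul_assoc, ← mul_assoc (u : Localization.Away g),
      Units.mul_inv, one_mul]
  let Bsub : Subalgebra B' (Localization.Away g) :=
    Submodule.toSubalgebra (Submodule.map L J) h_one h_mul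
  have hBmem : ∀ x : Localization.Away g, x ∈ Bsub ↔ ∃ j ∈ J, L j = x := fun x => Iff.rfl
  have hcoe : ∀ b : B', ((algebraMap B' Bsub b : Bsub) : Localization.Away g) =
      algebraMap B' (Localization.Away g) b := fun b => rfl
  have h₂inj : Function.Injective (algebraMap B' Bsub) := fun a b hab =>
    hℓinj (by rw [← hcoe, ← hcoe, hab])
  have h₂ : algebraMap B' Bsub g ∈ nonZeroDivisors Bsub := by
    apply mem_nonZeroDivisors_of_injective (f := Bsub.val) Subtype.val_injective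
    exact hgunit.mem_nonZeroDivisors
  have h₁ : algebraMap A' A f ∈ nonZeroDivisors A := hf
  refine ⟨Bsub, inferInstance, inferInstance, h₂inj, ?_, ?_⟩
  · -- finiteness
    have hfg : (Subalgebra.toSubmodule Bsub).FG := by
      have : (Subalgebra.toSubmodule Bsub) = Submodule.map L J := rfl
      rw [this]
      exact Submodule.FG.map L hJfg
    haveI : Module.Finite B' (Subalgebra.toSubmodule Bsub) := Module.Finite.iff_fg.mpr hfg
    exact Module.Finite.equiv (Subalgebra.toSubmoduleEquiv Bsub)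
  · -- the isomorphism
    have htot₁₂ : ∀ a : A, ∃ x : Bsub,
        Rel (algebraMap A' A) (algebraMap B' Bsub) f g t n φ'.toRingHom a x := by
      intro a
      obtain ⟨i₂, hi₂⟩ := Ideal.Quotient.mk_surjective
        (φ' (Ideal.Quotient.mk (Ideal.span {f ^ n}) (lam a)))
      have hi₂J : i₂ ∈ J := (mem_J _).mpr ⟨_, hlamI a, hi₂.symm⟩
      refine ⟨⟨L i₂, (hBmem _).mpr ⟨i₂, hi₂J, rfl⟩⟩, lam a, i₂, hlam a, ?_, hi₂.symm⟩
      apply Subtype.ext
      rw [hcoe]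
      change _ = (algebraMap B' (Localization.Away g) g) ^ t * L i₂
      rw [hLu]
    have htot₂₁ : ∀ x : Bsub, ∃ a : A,
        Rel (algebraMap A' A) (algebraMap B' Bsub) f g t n φ'.toRingHom a x := by
      rintro ⟨x, hx⟩
      obtain ⟨j, hj, rfl⟩ := (hBmem x).mp hx
      obtain ⟨i, hi, hij⟩ := (mem_J j).mp hj
      obtain ⟨a, ha⟩ := (mem_I i).mp hi
      refine ⟨a, i, j, ha, ?_, hij⟩
      apply Subtype.ext
      rw [hcoe]
      change _ = (algebraMap B' (Localization.Away g) g) ^ t * L j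
      rw [hLu]
    obtain ⟨ψ, hψ⟩ := exists_equiv (ι₁ := algebraMap A' A) (ι₂ := algebraMap B' Bsub) (t := t)
      hinj h₂inj h₁ h₂ φ' hφg hn htot₁₂ htot₂₁
    refine ⟨ψ, fun a' b' hab => ?_⟩
    exact hψ _ _ (Rel.of_base (φ' := φ'.toRingHom) hφg hab)

end Main


end Groth.Agent.Lib.Helper14GlueFin
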