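import Groth.Agent.Lib.Helper16BL
import Mathlib.RingTheory.Flat.Equalizer
import Mathlib.RingTheory.Flat.Stability
import Mathlib.RingTheory.Flat.Localization
import Mathlib.RingTheory.Flat.Tensor

/-!
# Flatness along a glueing pair (Beauville–Laszlo), without Tor

helper16. Main result `flat_of_glueingPair`: for a glueing pair `(R → R', f)`, an `R`-module `M`
is flat as soon as `R' ⊗ M` is `R'`-flat and `M_f` is `R_f`-flat.
-/

set_option autoImplicit false
set_option linter.style.haveILetI false
universe u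

namespace Groth.Agent.Lib.Helper16

open TensorProduct

section Presentation

variable {R : Type u} [CommRing R]

/-- Independence of the presentation for the vanishing of `Tor₁(M, C)`: if `M ⊗ ker π → M ⊗ F` is
injective for one surjection `π : F → C` with `F` flat, then `M ⊗ N₁ → M ⊗ N₂` is injective for
every short exact sequence `0 → N₁ → N₂ → C → 0`. -/
theorem lTensor_injective_of_presentation (M : Type u) [AddCommGroup M] [Module R M]
    {F C N₁ N₂ : Type u} [AddCommGroup F] [Module R F] [Module.Flat R F]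
    [AddCommGroup C] [Module R C] [AddCommGroup N₁] [Module R N₁] [AddCommGroup N₂] [Module R N₂]
    (π : F →ₗ[R] C) (hπ : Function.Surjective π)
    (hK : Function.Injective ((LinearMap.ker π).subtype.lTensor M))
    (i : N₁ →ₗ[R] N₂) (p : N₂ →ₗ[R] C) (hi : Function.Injective i) (hp : Function.Surjective p)
    (hex : Function.Exact i p) : Function.Injective (i.lTensor M) := by
  let P : Submodule R (F × N₂) :=
    LinearMap.eqLocus (π ∘ₗ LinearMap.fst R F N₂) (p ∘ₗ LinearMap.snd R F N₂)
  have hP : ∀ x : F × N₂, x ∈ P ↔ π x.1 = p x.2 := fun x => Iff.rfl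
  let pr₁ : P →ₗ[R] F := LinearMap.fst R F N₂ ∘ₗ P.subtype
  let pr₂ : P →ₗ[R] N₂ := LinearMap.snd R F N₂ ∘ₗ P.subtype
  let j₁ : N₁ →ₗ[R] P := LinearMap.codRestrict P (LinearMap.inr R F N₂ ∘ₗ i) (fun n => by
    rw [hP]
    simp only [LinearMap.coe_comp, Function.comp_apply, LinearMap.inr_apply, map_zero]
    exact (hex.apply_apply_eq_zero n).symm)
  let j₂ : LinearMap.ker π →ₗ[R] P :=
    LinearMap.codRestrict P (LinearMap.inl R F N₂ ∘ₗ (LinearMap.ker π).subtype) (fun k => by
      rw [hP]
      simp only [LinearMap.coe_comp, Function.comp_apply, LinearMap.inl_apply, map_zero]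
      exact k.2)
  have hpr₁ : Function.Surjective pr₁ := by
    intro a
    obtain ⟨b, hb⟩ := hp (π a)
    exact ⟨⟨(a, b), (hP _).2 hb.symm⟩, rfl⟩
  have hpr₂ : Function.Surjective pr₂ := by
    intro b
    obtain ⟨a, ha⟩ := hπ (p b)
    exact ⟨⟨(a, b), (hP _).2 ha⟩, rfl⟩
  have hj₁ : Function.Injective j₁ := by
    intro a b hab
    apply hi
    have := congrArg (fun x : P => (x : F × N₂).2) hab
    simpa [j₁] using this
  have hex₁ : Function.Exact j₁ pr₁ := by
    intro x
    constructor
    · intro hx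
      obtain ⟨⟨a, b⟩, hab⟩ := x
      have ha : a = 0 := hx
      subst ha
      have hb : p b = 0 := by rw [← (hP _).1 hab]; exact map_zero π
      obtain ⟨n, rfl⟩ := (hex b).1 hb
      exact ⟨n, rfl⟩
    · rintro ⟨n, rfl⟩
      rfl
  have hex₂ : Function.Exact j₂ pr₂ := by
    intro x
    constructor
    · intro hx
      obtain ⟨⟨a, b⟩, hab⟩ := x
      have hb : b = 0 := hx
      subst hb
      have ha : π a = 0 := by rw [(hP _).1 hab]; exact map_zero p
      exact ⟨⟨a, ha⟩, rfl⟩
    · rintro ⟨k, rfl⟩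
      rfl
  have hinj₁ : Function.Injective (j₁.lTensor M) :=
    LinearMap.lTensor_injective_of_exact_of_flat pr₁ hpr₁ j₁ hj₁ hex₁ M
  have hexT : Function.Exact (j₂.lTensor M) (pr₂.lTensor M) := lTensor_exact M hex₂ hpr₂
  have c1 : pr₂ ∘ₗ j₁ = i := rfl
  have c2 : pr₁ ∘ₗ j₁ = 0 := rfl
  have c3 : pr₁ ∘ₗ j₂ = (LinearMap.ker π).subtype := rfl
  rw [injective_iff_map_eq_zero]
  intro z hz
  apply hinj₁
  rw [map_zero]
  have h1 : pr₂.lTensor M (j₁.lTensor M z) = 0 := by
    rw [← LinearMap.comp_apply, ← LinearMap.lTensor_comp, c1, hz]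
  obtain ⟨w, hw⟩ := (hexT _).1 h1
  have h2 : (LinearMap.ker π).subtype.lTensor M w = 0 := by
    rw [← c3, LinearMap.lTensor_comp, LinearMap.comp_apply, hw, ← LinearMap.comp_apply,
      ← LinearMap.lTensor_comp, c2, LinearMap.lTensor_zero, LinearMap.zero_apply]
  have h3 : w = 0 := by
    apply hK
    rw [h2, map_zero]
  rw [← hw, h3, map_zero]

end Presentation

section AwayFlat

variable {R : Type u} [CommRing R] (f : R)
variable (M : Type u) [AddCommGroup M] [Module R M]

theorem pow_smul_bijective' {P : Type u} [AddCommGroup P] [Module R P]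
    (hf : Function.Bijective fun x : P => f • x) (n : ℕ) :
    Function.Bijective fun x : P => f ^ n • x := by
  induction n with
  | zero =>
    simp only [pow_zero, one_smul]
    exact Function.bijective_id
  | succ n ih =>
    have : (fun x : P => f ^ (n + 1) • x) = (fun x : P => f ^ n • x) ∘ (fun x : P => f • x) := by
      ext x; simp [pow_succ, mul_smul]
    rw [this]
    exact ih.comp hf

/-- if `f` acts bijectively on `P` then it acts bijectively on `M ⊗ P` -/
theorem smul_tensor_bijective {P : Type u} [AddCommGroup P] [Module R P]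
    (hf : Function.Bijective fun x : P => f • x) :
    Function.Bijective fun z : M ⊗[R] P => f • z := by
  let g : P ≃ₗ[R] P := LinearEquiv.ofBijective (f • (LinearMap.id : P →ₗ[R] P)) hf
  have : (fun z : M ⊗[R] P => f • z) = (TensorProduct.congr (LinearEquiv.refl R M) g) := by
    ext z
    induction z using TensorProduct.induction_on with
    | zero => simp
    | tmul m x => simp [g, TensorProduct.tmul_smul]
    | add a b ha hb => simp only [smul_add, map_add, ha, hb]
  rw [this]
  exact LinearEquiv.bijective _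

/-- the localization `(M ⊗ P)_f = M_f ⊗ P`: an element of `M ⊗ P` dies in `M_f ⊗ P` iff it is
killed by a power of `f`. -/
theorem rTensor_mkLinearMap_eq_zero_iff {P : Type u} [AddCommGroup P] [Module R P]
    (z : M ⊗[R] P) :
    (LocalizedModule.mkLinearMap (Submonoid.powers f) M).rTensor P z = 0 ↔
      ∃ n : ℕ, f ^ n • z = 0 := by
  haveI : IsLocalizedModule (Submonoid.powers f)
      ((LocalizedModule.mkLinearMap (Submonoid.powers f) M).rTensor P) :=
    IsLocalizedModule.rTensor (R := R) (A := R) (Submonoid.powers f)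
      (LocalizedModule.mkLinearMap (Submonoid.powers f) M)
  rw [IsLocalizedModule.eq_zero_iff (Submonoid.powers f)]
  constructor
  · rintro ⟨⟨_, k, rfl⟩, hk⟩
    exact ⟨k, hk⟩
  · rintro ⟨k, hk⟩
    exact ⟨⟨f ^ k, k, rfl⟩, hk⟩

variable {M}
variable (hMf : Module.Flat R (LocalizedModule (Submonoid.powers f) M))
include hMf

/-- if `M_f` is flat then the kernel of `M ⊗ N₁ → M ⊗ N₂` (for `N₁ → N₂` injective) is
`f`-power torsion. -/
theorem exists_pow_smul_eq_zero_of_lTensor_eq_zero {N₁ N₂ : Type u} [AddCommGroup N₁] [Module R N₁]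
    [AddCommGroup N₂] [Module R N₂] (i : N₁ →ₗ[R] N₂) (hi : Function.Injective i)
    (z : M ⊗[R] N₁) (hz : i.lTensor M z = 0) : ∃ n : ℕ, f ^ n • z = 0 := by
  rw [← rTensor_mkLinearMap_eq_zero_iff]
  apply Module.Flat.lTensor_preserves_injective_linearMap
    (M := LocalizedModule (Submonoid.powers f) M) i hi
  rw [map_zero, ← LinearMap.comp_apply, LinearMap.lTensor_comp_rTensor,
    ← LinearMap.rTensor_comp_lTensor, LinearMap.comp_apply, hz, map_zero]

/-- `M ⊗ P' → M ⊗ P` is injective when `P' → P` is, `f` is bijective on `P'` and `M_f` is flat. -/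
theorem lTensor_injective_of_bijective_smul {P' P : Type u} [AddCommGroup P'] [Module R P']
    [AddCommGroup P] [Module R P] (i : P' →ₗ[R] P) (hi : Function.Injective i)
    (hbij : Function.Bijective fun x : P' => f • x) : Function.Injective (i.lTensor M) := by
  rw [injective_iff_map_eq_zero]
  intro z hz
  obtain ⟨n, hn⟩ := exists_pow_smul_eq_zero_of_lTensor_eq_zero f hMf i hi z hz
  apply (pow_smul_bijective' f (smul_tensor_bijective f M hbij) n).1
  simpa using hn

omit hMf in
theorem quotient_range_smul_bijective {N₁ N₂ : Type u} [AddCommGroup N₁] [Module R N₁]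
    [AddCommGroup N₂] [Module R N₂] (i : N₁ →ₗ[R] N₂)
    (hsurj : ∀ n₂ : N₂, ∃ (n₂' : N₂) (n₁ : N₁), n₂ = f • n₂' + i n₁)
    (hinj : ∀ n₂ : N₂, f • n₂ ∈ LinearMap.range i → n₂ ∈ LinearMap.range i) :
    Function.Bijective fun c : N₂ ⧸ LinearMap.range i => f • c := by
  constructor
  · intro a b hab
    obtain ⟨a, rfl⟩ := Submodule.Quotient.mk_surjective _ a
    obtain ⟨b, rfl⟩ := Submodule.Quotient.mk_surjective _ b
    change (Submodule.Quotient.mk (f • a) : N₂ ⧸ LinearMap.range i) =
      Submodule.Quotient.mk (f • b) at hab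
    rw [Submodule.Quotient.eq, ← smul_sub] at hab
    rw [Submodule.Quotient.eq]
    exact hinj _ hab
  · intro c
    obtain ⟨n₂, rfl⟩ := Submodule.Quotient.mk_surjective _ c
    obtain ⟨n₂', n₁, h⟩ := hsurj n₂
    refine ⟨Submodule.Quotient.mk n₂', ?_⟩
    change (Submodule.Quotient.mk (f • n₂') : N₂ ⧸ LinearMap.range i) =
      Submodule.Quotient.mk n₂
    rw [Submodule.Quotient.eq, h]
    simp

/-- vanishing of `Tor₁(M, C)` for `C` an `R_f`-module, `M_f` flat. -/
theorem lTensor_injective_of_exact_of_bijective_smul {N₁ N₂ C : Type u}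
    [AddCommGroup N₁] [Module R N₁] [AddCommGroup N₂] [Module R N₂] [AddCommGroup C] [Module R C]
    (i : N₁ →ₗ[R] N₂) (p : N₂ →ₗ[R] C) (hi : Function.Injective i) (hp : Function.Surjective p)
    (hex : Function.Exact i p) (hC : Function.Bijective fun c : C => f • c) :
    Function.Injective (i.lTensor M) := by
  have hg₀ : Function.Surjective (Finsupp.linearCombination R fun c : C => c) :=
    Finsupp.linearCombination_surjective _ Function.surjective_id
  have hunits : ∀ s : Submonoid.powers f, IsUnit (algebraMap R (Module.End R C) s) := by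
    rintro ⟨_, k, rfl⟩
    rw [Module.End.isUnit_iff]
    exact pow_smul_bijective' f hC k
  haveI : IsLocalizedModule (Submonoid.powers f)
      (TensorProduct.mk R (Localization (Submonoid.powers f)) (C →₀ R) 1) :=
    (isLocalizedModule_iff_isBaseChange (Submonoid.powers f)
      (Localization (Submonoid.powers f)) _).mpr (TensorProduct.isBaseChange R (C →₀ R) _)
  let π : Localization (Submonoid.powers f) ⊗[R] (C →₀ R) →ₗ[R] C :=
    IsLocalizedModule.lift (Submonoid.powers f)
      (TensorProduct.mk R (Localization (Submonoid.powers f)) (C →₀ R) 1)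
      (Finsupp.linearCombination R fun c : C => c) hunits
  have hπ : Function.Surjective π := by
    intro c
    obtain ⟨x, rfl⟩ := hg₀ c
    refine ⟨TensorProduct.mk R (Localization (Submonoid.powers f)) (C →₀ R) 1 x, ?_⟩
    rw [← LinearMap.comp_apply, IsLocalizedModule.lift_comp]
  have hF : Function.Bijective
      fun x : Localization (Submonoid.powers f) ⊗[R] (C →₀ R) => f • x := by
    have := IsLocalizedModule.map_units
      (TensorProduct.mk R (Localization (Submonoid.powers f)) (C →₀ R) 1)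
      (⟨f, Submonoid.mem_powers f⟩ : Submonoid.powers f)
    rw [Module.End.isUnit_iff] at this
    exact this
  have hK : Function.Bijective fun x : LinearMap.ker π => f • x := by
    constructor
    · intro a b hab
      apply Subtype.ext
      apply hF.1
      exact congrArg Subtype.val hab
    · intro k
      obtain ⟨y, hy⟩ := hF.2 k.1
      have hy0 : π y = 0 := by
        apply hC.1
        change f • π y = f • 0
        rw [← map_smul, smul_zero]
        have hy' : f • y = k.1 := hy
        rw [hy']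
        exact k.2
      exact ⟨⟨y, hy0⟩, Subtype.ext hy⟩
  have hKinj := lTensor_injective_of_bijective_smul f hMf (P' := LinearMap.ker π)
    (P := Localization (Submonoid.powers f) ⊗[R] (C →₀ R)) (LinearMap.ker π).subtype
    (LinearMap.ker π).subtype_injective hK
  exact lTensor_injective_of_presentation M π hπ hKinj i p hi hp hex

/-- `M ⊗ N₁ → M ⊗ N₂` is injective whenever `N₁ → N₂` is injective with `f` acting bijectively on
the cokernel (and `M_f` is flat). -/
theorem lTensor_injective_of_coker_bijective {N₁ N₂ : Type u} [AddCommGroup N₁] [Module R N₁]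
    [AddCommGroup N₂] [Module R N₂] (i : N₁ →ₗ[R] N₂) (hi : Function.Injective i)
    (hsurj : ∀ n₂ : N₂, ∃ (n₂' : N₂) (n₁ : N₁), n₂ = f • n₂' + i n₁)
    (hinj : ∀ n₂ : N₂, f • n₂ ∈ LinearMap.range i → n₂ ∈ LinearMap.range i) :
    Function.Injective (i.lTensor M) :=
  lTensor_injective_of_exact_of_bijective_smul f hMf i (LinearMap.range i).mkQ hi
    (Submodule.mkQ_surjective _) (LinearMap.exact_map_mkQ_range i)
    (quotient_range_smul_bijective f i hsurj hinj)

end AwayFlat

section GlueFlat

variable {R R' : Type u} [CommRing R] [CommRing R'] [Algebra R R'] {f : R}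
variable {M : Type u} [AddCommGroup M] [Module R M]

variable (R R') in
/-- `n ↦ 1 ⊗ n` -/
noncomputable abbrev lamN (N : Type u) [AddCommGroup N] [Module R N] : N →ₗ[R] R' ⊗[R] N :=
  TensorProduct.mk R R' N 1

theorem ker_lamN_smul_bijective (h : EtGlue.IsGlueingPair R R' f)
    (N : Type u) [AddCommGroup N] [Module R N]
    (hN : ∀ t : N, (∃ n : ℕ, f ^ n • t = 0) → (1 : R') ⊗ₜ[R] t = 0 → t = 0) :
    Function.Bijective fun x : LinearMap.ker (lamN R R' N) => f • x := by
  constructor
  · intro a b hab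
    have h1 : f • (a - b) = 0 := by rw [smul_sub, sub_eq_zero]; exact hab
    have h2 : ((a - b : LinearMap.ker (lamN R R' N)) : N) = 0 := by
      apply hN
      · exact ⟨1, by rw [pow_one]; exact congrArg Subtype.val h1⟩
      · exact (a - b).2
    exact sub_eq_zero.mp (Subtype.ext h2)
  · intro n
    have hn : (1 : R') ⊗ₜ[R] (n : N) = 0 := n.2
    obtain ⟨m', hm'⟩ := exists_smul_of_tmul_eq_smul h.1 1 (n : N) 0 (by rw [hn, smul_zero])
    rw [pow_one] at hm'
    have hw : ∃ k : ℕ, f ^ k • ((1 : R') ⊗ₜ[R] m') = 0 :=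
      ⟨1, by rw [pow_one, ← TensorProduct.tmul_smul, ← hm', hn]⟩
    obtain ⟨t, ⟨j, hj⟩, ht⟩ := glueingPair_torsion_surj N h _ hw
    have hm'' : (1 : R') ⊗ₜ[R] (m' - t) = 0 := by
      rw [TensorProduct.tmul_sub, ht, sub_self]
    have hdiff : (n : N) - f • (m' - t) = 0 := by
      apply hN
      · refine ⟨j + 1, ?_⟩
        have e : (n : N) - f • (m' - t) = f • t := by
          rw [smul_sub, ← hm', sub_sub_cancel]
        rw [e]
        calc f ^ (j + 1) • f • t = (f * f) • f ^ j • t := by
              rw [← mul_smul, ← mul_smul, pow_succ]; congr 1; ring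
          _ = 0 := by rw [hj, smul_zero]
      · rw [TensorProduct.tmul_sub, hn, TensorProduct.tmul_smul, hm'', smul_zero, sub_zero]
    refine ⟨⟨m' - t, hm''⟩, Subtype.ext ?_⟩
    exact (sub_eq_zero.mp hdiff).symm

variable (R R') in
/-- the injection `N / ker → R' ⊗ N` induced by `n ↦ 1 ⊗ n` -/
noncomputable abbrev lamBar (N : Type u) [AddCommGroup N] [Module R N] :
    (N ⧸ LinearMap.ker (lamN R R' N)) →ₗ[R] R' ⊗[R] N :=
  (LinearMap.ker (lamN R R' N)).liftQ (lamN R R' N) le_rfl

theorem lamBar_injective (N : Type u) [AddCommGroup N] [Module R N] :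
    Function.Injective (lamBar R R' N) := by
  rw [← LinearMap.ker_eq_bot]
  exact Submodule.ker_liftQ_eq_bot _ _ _ le_rfl

theorem lamBar_surj (hq : EtGlue.QuotPowBijective R R' f)
    (N : Type u) [AddCommGroup N] [Module R N] (x : R' ⊗[R] N) :
    ∃ (x' : R' ⊗[R] N) (y : N ⧸ LinearMap.ker (lamN R R' N)),
      x = f • x' + lamBar R R' N y := by
  induction x using TensorProduct.induction_on with
  | zero => exact ⟨0, 0, by simp⟩
  | tmul r' n =>
    obtain ⟨r, s', hrs⟩ := quotPow_surj hq (n := 1) one_pos r'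
    refine ⟨s' ⊗ₜ[R] n, Submodule.Quotient.mk (r • n), ?_⟩
    have e1 : f • (s' ⊗ₜ[R] n) = (algebraMap R R' f ^ 1 * s') ⊗ₜ[R] n := by
      rw [pow_one, ← Algebra.smul_def, TensorProduct.smul_tmul']
    have e2 : lamBar R R' N (Submodule.Quotient.mk (r • n)) = (algebraMap R R' r) ⊗ₜ[R] n := by
      change (1 : R') ⊗ₜ[R] (r • n) = _
      rw [TensorProduct.tmul_smul, TensorProduct.smul_tmul', Algebra.smul_def, mul_one]
    rw [e1, e2, hrs, TensorProduct.add_tmul, add_comm]
  | add a b ha hb =>
    obtain ⟨a', ya, ha'⟩ := ha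
    obtain ⟨b', yb, hb'⟩ := hb
    refine ⟨a' + b', ya + yb, ?_⟩
    rw [ha', hb', smul_add, map_add]
    exact add_add_add_comm _ _ _ _

theorem lamBar_inj (h : EtGlue.IsGlueingPair R R' f)
    (N : Type u) [AddCommGroup N] [Module R N] (x : R' ⊗[R] N)
    (hx : f • x ∈ LinearMap.range (lamBar R R' N)) :
    x ∈ LinearMap.range (lamBar R R' N) := by
  obtain ⟨y, hy⟩ := hx
  obtain ⟨n, rfl⟩ := Submodule.Quotient.mk_surjective _ y
  have hn1 : (1 : R') ⊗ₜ[R] n = f • x := hy
  obtain ⟨n', hn'⟩ := exists_smul_of_tmul_eq_smul h.1 1 n x (by rw [pow_one]; exact hn1)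
  rw [pow_one] at hn'
  have hw : ∃ k : ℕ, f ^ k • (x - (1 : R') ⊗ₜ[R] n') = 0 :=
    ⟨1, by rw [pow_one, smul_sub, ← hn1, hn', TensorProduct.tmul_smul, sub_self]⟩
  obtain ⟨t, -, ht⟩ := glueingPair_torsion_surj N h _ hw
  refine ⟨Submodule.Quotient.mk (n' + t), ?_⟩
  change (1 : R') ⊗ₜ[R] (n' + t) = x
  rw [TensorProduct.tmul_add, ht, add_sub_cancel]

/-- Step 3: if `M_f` is flat and `N` satisfies the torsion criterion for glueability, then an
`f`-power torsion element of `M ⊗ N` dying in `M ⊗ (R' ⊗ N)` is zero. -/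
theorem eq_zero_of_torsion_of_lTensor_mk_eq_zero (h : EtGlue.IsGlueingPair R R' f)
    (hMf : Module.Flat R (LocalizedModule (Submonoid.powers f) M))
    (N : Type u) [AddCommGroup N] [Module R N]
    (hN : ∀ t : N, (∃ n : ℕ, f ^ n • t = 0) → (1 : R') ⊗ₜ[R] t = 0 → t = 0)
    (z : M ⊗[R] N) (hz : ∃ k : ℕ, f ^ k • z = 0)
    (hz' : (lamN R R' N).lTensor M z = 0) : z = 0 := by
  have hN₀ := ker_lamN_smul_bijective h N hN
  have hT1 : Function.Injective ((lamBar R R' N).lTensor M) := by
    apply lTensor_injective_of_coker_bijective f hMf (lamBar R R' N) (lamBar_injective N)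
    · intro x
      obtain ⟨x', y, hxy⟩ := lamBar_surj h.1 N x
      exact ⟨x', y, hxy⟩
    · intro x hx
      exact lamBar_inj h N x hx
  have hfac : lamBar R R' N ∘ₗ (LinearMap.ker (lamN R R' N)).mkQ = lamN R R' N :=
    Submodule.liftQ_mkQ _ _ _
  have h1 : (LinearMap.ker (lamN R R' N)).mkQ.lTensor M z = 0 := by
    apply hT1
    rw [map_zero, ← LinearMap.comp_apply, ← LinearMap.lTensor_comp, hfac]
    exact hz'
  have hex : Function.Exact (LinearMap.ker (lamN R R' N)).subtype
      (LinearMap.ker (lamN R R' N)).mkQ := LinearMap.exact_subtype_mkQ _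
  have hexT := lTensor_exact M hex (Submodule.mkQ_surjective _)
  obtain ⟨ξ, hξ⟩ := (hexT z).1 h1
  have hinj₀ : Function.Injective ((LinearMap.ker (lamN R R' N)).subtype.lTensor M) := by
    apply lTensor_injective_of_bijective_smul f hMf (P' := LinearMap.ker (lamN R R' N)) (P := N)
      (LinearMap.ker (lamN R R' N)).subtype (LinearMap.ker (lamN R R' N)).subtype_injective
    exact hN₀
  obtain ⟨k, hk⟩ := hz
  have hξ0 : f ^ k • ξ = 0 := by
    apply hinj₀
    rw [map_smul, hξ, hk, map_zero]
  have : ξ = 0 := by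
    apply (pow_smul_bijective' f (smul_tensor_bijective f M hN₀) k).1
    simpa using hξ0
  rw [← hξ, this, map_zero]

/-- an element of `M ⊗ (A' × A)` whose two components vanish is zero -/
theorem eq_zero_of_lTensor_fst_snd {S : Type u} [CommRing S] {P A' A : Type u}
    [AddCommGroup P] [Module S P] [AddCommGroup A'] [Module S A'] [AddCommGroup A] [Module S A]
    (z : P ⊗[S] (A' × A)) (h1 : (LinearMap.fst S A' A).lTensor P z = 0)
    (h2 : (LinearMap.snd S A' A).lTensor P z = 0) : z = 0 := by
  have hid : LinearMap.inl S A' A ∘ₗ LinearMap.fst S A' A +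
      LinearMap.inr S A' A ∘ₗ LinearMap.snd S A' A = LinearMap.id := by
    ext x <;> simp
  have : (LinearMap.id : A' × A →ₗ[S] A' × A).lTensor P z = 0 := by
    rw [← hid, LinearMap.lTensor_add, LinearMap.add_apply, LinearMap.lTensor_comp,
      LinearMap.lTensor_comp, LinearMap.comp_apply, LinearMap.comp_apply, h1, h2, map_zero,
      map_zero, add_zero]
  simpa using this

/-- Step 2: if `R' ⊗ M` is `R'`-flat, `N₁ → N₂` is injective and `N₂` satisfies the torsion
criterion, then the kernel of `(R' ⊗ M) ⊗ N₁ → (R' ⊗ M) ⊗ N₂` has no `f`-power torsion. -/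
theorem eq_zero_of_torsion_of_lTensor_eq_zero (h : EtGlue.IsGlueingPair R R' f)
    [Module.Flat R' (R' ⊗[R] M)]
    {N₁ N₂ : Type u} [AddCommGroup N₁] [Module R N₁] [AddCommGroup N₂] [Module R N₂]
    (i : N₁ →ₗ[R] N₂) (hi : Function.Injective i)
    (hN₂ : ∀ t : N₂, (∃ n : ℕ, f ^ n • t = 0) → (1 : R') ⊗ₜ[R] t = 0 → t = 0)
    (y : (R' ⊗[R] M) ⊗[R] N₁) (k : ℕ) (hy : f ^ k • y = 0)
    (hy' : i.lTensor (R' ⊗[R] M) y = 0) : y = 0 := by
  let cb₁ := TensorProduct.AlgebraTensorModule.cancelBaseChange R R' R' (R' ⊗[R] M) N₁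
  let cb₂ := TensorProduct.AlgebraTensorModule.cancelBaseChange R R' R' (R' ⊗[R] M) N₂
  let φ : R' ⊗[R] N₁ →ₗ[R'] R' ⊗[R] N₂ := i.baseChange R'
  let μ : R' ⊗[R] N₁ →ₗ[R'] R' ⊗[R] N₁ := (algebraMap R R' f ^ k) • LinearMap.id
  have hnat : ∀ w : (R' ⊗[R] M) ⊗[R'] (R' ⊗[R] N₁),
      cb₂ (φ.lTensor (R' ⊗[R] M) w) = i.lTensor (R' ⊗[R] M) (cb₁ w) := by
    intro w
    induction w using TensorProduct.induction_on with
    | zero => simp
    | tmul m' y =>
      induction y using TensorProduct.induction_on with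
      | zero => simp
      | tmul a n => simp [cb₁, cb₂, φ]
      | add a b ha hb => simp only [TensorProduct.tmul_add, map_add, ha, hb]
    | add a b ha hb => simp only [map_add, ha, hb]
  have hΦ : Function.Injective (φ.prod μ) := by
    rw [injective_iff_map_eq_zero]
    intro a ha
    have ha1 : φ a = 0 := congrArg Prod.fst ha
    have ha2 : (algebraMap R R' f ^ k) • a = 0 := congrArg Prod.snd ha
    have ha3 : f ^ k • a = 0 := by
      rw [← ha2, ← map_pow, algebraMap_smul]
    obtain ⟨t, ⟨j, hj⟩, ht⟩ := glueingPair_torsion_surj N₁ h a ⟨k, ha3⟩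
    have hit : i t = 0 := by
      apply hN₂
      · exact ⟨j, by rw [← map_smul, hj, map_zero]⟩
      · have : φ ((1 : R') ⊗ₜ[R] t) = (1 : R') ⊗ₜ[R] i t := LinearMap.baseChange_tmul _ _ _
        rw [← this, ht, ha1]
    have ht0 : t = 0 := hi (by rw [hit, map_zero])
    rw [← ht, ht0, TensorProduct.tmul_zero]
  have hΦinj := Module.Flat.lTensor_preserves_injective_linearMap (M := R' ⊗[R] M) (φ.prod μ) hΦ
  set w := cb₁.symm y with hw
  have hw1 : φ.lTensor (R' ⊗[R] M) w = 0 := by
    apply cb₂.injective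
    rw [hnat, hw, LinearEquiv.apply_symm_apply, hy', map_zero]
  have hw2 : μ.lTensor (R' ⊗[R] M) w = 0 := by
    have e : μ.lTensor (R' ⊗[R] M) w = (algebraMap R R' f ^ k) • w := by
      simp only [μ, LinearMap.lTensor_smul, LinearMap.lTensor_id, LinearMap.smul_apply,
        LinearMap.id_coe, id_eq]
    rw [e, hw, ← map_smul, ← map_pow, algebraMap_smul, hy, map_zero]
  have hw0 : w = 0 := by
    apply hΦinj
    rw [map_zero]
    apply eq_zero_of_lTensor_fst_snd
    · rw [← LinearMap.comp_apply, ← LinearMap.lTensor_comp, LinearMap.fst_prod]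
      exact hw1
    · rw [← LinearMap.comp_apply, ← LinearMap.lTensor_comp, LinearMap.snd_prod]
      exact hw2
  have : y = cb₁ w := by rw [hw, LinearEquiv.apply_symm_apply]
  rw [this, hw0, map_zero]

/-- torsion criterion for `R` itself (a glueing pair makes `R` glueable) -/
theorem torsion_criterion_self (h : EtGlue.IsGlueingPair R R' f) (t : R)
    (ht : ∃ n : ℕ, f ^ n • t = 0) (h1 : (1 : R') ⊗ₜ[R] t = 0) : t = 0 := by
  apply h.2.1
  have e1 : algebraMap R R' t = 0 := by
    have := congrArg (TensorProduct.rid R R') h1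
    simpa [Algebra.smul_def] using this
  have e2 : algebraMap R (Localization.Away f) t = 0 := by
    obtain ⟨n, hn⟩ := ht
    rw [IsLocalization.map_eq_zero_iff (Submonoid.powers f)]
    exact ⟨⟨f ^ n, n, rfl⟩, by simpa using hn⟩
  simp only [e1, e2, map_zero]

/-- torsion criterion for submodules of a module satisfying it -/
theorem torsion_criterion_of_injective {N₁ N₂ : Type u} [AddCommGroup N₁] [Module R N₁]
    [AddCommGroup N₂] [Module R N₂] (i : N₁ →ₗ[R] N₂) (hi : Function.Injective i)
    (hN₂ : ∀ t : N₂, (∃ n : ℕ, f ^ n • t = 0) → (1 : R') ⊗ₜ[R] t = 0 → t = 0)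
    (t : N₁) (ht : ∃ n : ℕ, f ^ n • t = 0) (h1 : (1 : R') ⊗ₜ[R] t = 0) : t = 0 := by
  apply hi
  rw [map_zero]
  apply hN₂
  · obtain ⟨n, hn⟩ := ht
    exact ⟨n, by rw [← map_smul, hn, map_zero]⟩
  · have := congrArg (i.lTensor R') h1
    simpa using this

/-- the canonical identification `(R' ⊗ M) ⊗ N ≃ M ⊗ (R' ⊗ N)` -/
noncomputable def swapEquiv (N : Type u) [AddCommGroup N] [Module R N] :
    (R' ⊗[R] M) ⊗[R] N ≃ₗ[R] M ⊗[R] (R' ⊗[R] N) :=
  TensorProduct.congr (TensorProduct.comm R R' M) (LinearEquiv.refl R N) ≪≫ₗ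
    TensorProduct.assoc R M R' N

theorem swapEquiv_rTensor_mk (N : Type u) [AddCommGroup N] [Module R N] (x : M ⊗[R] N) :
    swapEquiv (R' := R') N ((TensorProduct.mk R R' M 1).rTensor N x) =
      (lamN R R' N).lTensor M x := by
  induction x using TensorProduct.induction_on with
  | zero => simp
  | tmul m n => simp [swapEquiv]
  | add a b ha hb => simp only [map_add, ha, hb]

/-- **Flatness along a glueing pair**: `M` is flat as soon as `R' ⊗ M` is `R'`-flat and `M_f` is
`R`-flat. -/
theorem flat_of_glueingPair' (h : EtGlue.IsGlueingPair R R' f)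
    [Module.Flat R' (R' ⊗[R] M)]
    (hMf : Module.Flat R (LocalizedModule (Submonoid.powers f) M)) : Module.Flat R M := by
  rw [Module.Flat.iff_lTensor_injective']
  intro I
  rw [injective_iff_map_eq_zero]
  intro x hx
  obtain ⟨k, hk⟩ := exists_pow_smul_eq_zero_of_lTensor_eq_zero f hMf I.subtype
    I.subtype_injective x hx
  have hR := torsion_criterion_self h
  have hI := torsion_criterion_of_injective (R' := R') (f := f) I.subtype I.subtype_injective hR
  set y := (TensorProduct.mk R R' M 1).rTensor I x with hy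
  have hy1 : f ^ k • y = 0 := by rw [hy, ← map_smul, hk, map_zero]
  have hy2 : I.subtype.lTensor (R' ⊗[R] M) y = 0 := by
    rw [hy, ← LinearMap.comp_apply, LinearMap.lTensor_comp_rTensor,
      ← LinearMap.rTensor_comp_lTensor, LinearMap.comp_apply, hx, map_zero]
  have hy0 : y = 0 :=
    eq_zero_of_torsion_of_lTensor_eq_zero h I.subtype I.subtype_injective hR y k hy1 hy2
  have hlam : (lamN R R' I).lTensor M x = 0 := by
    rw [← swapEquiv_rTensor_mk, ← hy, hy0, map_zero]
  exact eq_zero_of_torsion_of_lTensor_mk_eq_zero h hMf I hI x ⟨k, hk⟩ hlam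

/-- **Flatness along a glueing pair**: `M` is flat as soon as `R' ⊗ M` is `R'`-flat and `M_f` is
`R_f`-flat. -/
theorem flat_of_glueingPair (h : EtGlue.IsGlueingPair R R' f)
    [Module.Flat R' (R' ⊗[R] M)]
    [Module.Flat (Localization.Away f) (LocalizedModule (Submonoid.powers f) M)] :
    Module.Flat R M :=
  flat_of_glueingPair' h (Module.Flat.trans R (Localization.Away f) _)

end GlueFlat

end Groth.Agent.Lib.Helper16
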