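import Groth.Prelude.Def_EtGlue
import Mathlib.RingTheory.TensorProduct.Basic
import Mathlib.LinearAlgebra.TensorProduct.RightExactness
import Mathlib.Algebra.Module.LocalizedModule.Basic
import Mathlib.Tactic
import Mathlib.RingTheory.Localization.Finiteness
import Mathlib.LinearAlgebra.TensorProduct.Finiteness
import Mathlib.RingTheory.Finiteness.Basic
import Mathlib.RingTheory.LocalProperties.Basic
import Mathlib.RingTheory.RingHomProperties
import Mathlib.RingTheory.IsTensorProduct
import Mathlib.Algebra.Module.LocalizedModule.IsLocalization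
import Mathlib.RingTheory.RingHom.Finite
import Mathlib.RingTheory.Finiteness.FiniteTypeLocal
import Mathlib.RingTheory.RingHom.FiniteType

/-!
Helper library (helper16): glueing pairs, basic facts on power torsion modules.
-/

namespace Groth.Agent.Lib.Helper16

open TensorProduct

universe u

section Basic

variable {R R' : Type u} [CommRing R] [CommRing R'] [Algebra R R'] {f : R}

theorem quotPow_surj (hq : EtGlue.QuotPowBijective R R' f) {n : ℕ} (hn : 0 < n) (r' : R') :
    ∃ (r : R) (s' : R'), r' = algebraMap R R' r + algebraMap R R' f ^ n * s' := by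
  obtain ⟨x, hx⟩ := (hq n hn).2 (Ideal.Quotient.mk _ r')
  obtain ⟨r, rfl⟩ := Ideal.Quotient.mk_surjective x
  rw [Ideal.quotientMap_mk, Ideal.Quotient.eq, Ideal.map_span, Set.image_singleton,
    Ideal.mem_span_singleton'] at hx
  obtain ⟨a, ha⟩ := hx
  refine ⟨r, -a, ?_⟩
  rw [map_pow] at ha
  linear_combination ha

theorem quotPow_inj (hq : EtGlue.QuotPowBijective R R' f) {n : ℕ} (hn : 0 < n) (r : R) (s' : R')
    (h : algebraMap R R' r = algebraMap R R' f ^ n * s') : ∃ s : R, r = f ^ n * s := by
  have h0 : Ideal.quotientMap (Ideal.map (algebraMap R R') (Ideal.span {f ^ n})) (algebraMap R R')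
      Ideal.le_comap_map (Ideal.Quotient.mk _ r) = 0 := by
    rw [Ideal.quotientMap_mk, Ideal.Quotient.eq_zero_iff_mem, Ideal.map_span, Set.image_singleton,
      Ideal.mem_span_singleton']
    exact ⟨s', by rw [h, map_pow]; ring⟩
  have h1 := (hq n hn).1 (h0.trans (map_zero _).symm)
  rw [Ideal.Quotient.eq_zero_iff_mem, Ideal.mem_span_singleton'] at h1
  obtain ⟨a, ha⟩ := h1
  exact ⟨a, by rw [← ha]; ring⟩

end Basic

section Torsion

variable {R R' : Type u} [CommRing R] [CommRing R'] [Algebra R R'] {f : R}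
variable {M : Type u} [AddCommGroup M] [Module R M]

theorem smul_eq_of_congr (hq : EtGlue.QuotPowBijective R R' f) {m : M} {n₁ n₂ : ℕ}
    (h₁ : f ^ n₁ • m = 0) (h₂ : f ^ n₂ • m = 0) {r₁ r₂ : R} {s₁ s₂ r' : R'}
    (e₁ : r' = algebraMap R R' r₁ + algebraMap R R' f ^ n₁ * s₁)
    (e₂ : r' = algebraMap R R' r₂ + algebraMap R R' f ^ n₂ * s₂) : r₁ • m = r₂ • m := by
  wlog hle : n₁ ≤ n₂ generalizing n₁ n₂ r₁ r₂ s₁ s₂
  · exact (this h₂ h₁ e₂ e₁ (le_of_not_ge hle)).symm
  rcases Nat.eq_zero_or_pos n₁ with h0 | hpos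
  · subst h0
    have : m = 0 := by simpa using h₁
    simp [this]
  · obtain ⟨k, rfl⟩ := Nat.exists_eq_add_of_le hle
    have key : algebraMap R R' (r₁ - r₂) =
        algebraMap R R' f ^ n₁ * (algebraMap R R' f ^ k * s₂ - s₁) := by
      rw [map_sub]
      have := e₁.symm.trans e₂
      rw [pow_add] at this
      linear_combination this
    obtain ⟨s, hs⟩ := quotPow_inj hq hpos _ _ key
    have : (r₁ - r₂) • m = 0 := by
      rw [hs, mul_comm, mul_smul, h₁, smul_zero]
    rwa [sub_smul, sub_eq_zero] at this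

variable (hq : EtGlue.QuotPowBijective R R' f) (hM : ∀ m : M, ∃ n : ℕ, f ^ n • m = 0)

/-- the action of `R'` on a power torsion module -/
noncomputable def torsAct (r' : R') (m : M) : M :=
  (Classical.choose (quotPow_surj hq (Nat.succ_pos (Classical.choose (hM m))) r')) • m

include hq hM in
theorem torsAct_eq {m : M} {n : ℕ} (h : f ^ n • m = 0) {r : R} {s r' : R'}
    (e : r' = algebraMap R R' r + algebraMap R R' f ^ n * s) : torsAct hq hM r' m = r • m := by
  obtain ⟨s₀, hs₀⟩ := Classical.choose_spec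
    (quotPow_surj hq (Nat.succ_pos (Classical.choose (hM m))) r')
  have h0 : f ^ (Classical.choose (hM m) + 1) • m = 0 := by
    rw [pow_succ, mul_comm, mul_smul, Classical.choose_spec (hM m), smul_zero]
  exact smul_eq_of_congr hq h0 h hs₀ e

include hq hM in
theorem exists_common (r' : R') (m₁ m₂ : M) : ∃ (n : ℕ) (r : R) (s : R'), f ^ n • m₁ = 0 ∧
    f ^ n • m₂ = 0 ∧ r' = algebraMap R R' r + algebraMap R R' f ^ n * s := by
  obtain ⟨n₁, h₁⟩ := hM m₁
  obtain ⟨n₂, h₂⟩ := hM m₂
  have hpos : 0 < n₁ + n₂ + 1 := Nat.succ_pos _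
  obtain ⟨r, s, e⟩ := quotPow_surj hq hpos r'
  refine ⟨n₁ + n₂ + 1, r, s, ?_, ?_, e⟩
  · rw [show n₁ + n₂ + 1 = (n₂ + 1) + n₁ by ring, pow_add, mul_smul, h₁, smul_zero]
  · rw [show n₁ + n₂ + 1 = (n₁ + 1) + n₂ by ring, pow_add, mul_smul, h₂, smul_zero]

/-- the retraction `R' ⊗ M → M` for a power torsion module `M` -/
noncomputable def torsRetract : R' ⊗[R] M →ₗ[R] M :=
  TensorProduct.lift (LinearMap.mk₂ R (torsAct hq hM)
    (by
      intro a b m
      obtain ⟨n, ra, sa, h, -, ea⟩ := exists_common hq hM a m m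
      obtain ⟨rb, sb, eb⟩ : ∃ (rb : R) (sb : R'),
          b = algebraMap R R' rb + algebraMap R R' f ^ n * sb := by
        rcases Nat.eq_zero_or_pos n with h0 | hpos
        · exact ⟨0, b, by simp [h0]⟩
        · exact quotPow_surj hq hpos b
      rw [torsAct_eq hq hM h ea, torsAct_eq hq hM h eb,
        torsAct_eq hq hM h (r := ra + rb) (s := sa + sb) (by rw [ea, eb, map_add]; ring), add_smul])
    (by
      intro c a m
      obtain ⟨n, ra, sa, h, -, ea⟩ := exists_common hq hM a m m
      rw [torsAct_eq hq hM h ea,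
        torsAct_eq hq hM h (r := c * ra) (s := algebraMap R R' c * sa)
          (by rw [Algebra.smul_def, ea, map_mul]; ring), mul_smul])
    (by
      intro a m₁ m₂
      obtain ⟨n, ra, sa, h₁, h₂, ea⟩ := exists_common hq hM a m₁ m₂
      have h : f ^ n • (m₁ + m₂) = 0 := by rw [smul_add, h₁, h₂, add_zero]
      rw [torsAct_eq hq hM h ea, torsAct_eq hq hM h₁ ea, torsAct_eq hq hM h₂ ea, smul_add])
    (by
      intro c a m
      obtain ⟨n, ra, sa, h, -, ea⟩ := exists_common hq hM a m m
      have h' : f ^ n • (c • m) = 0 := by rw [smul_comm, h, smul_zero]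
      rw [torsAct_eq hq hM h ea, torsAct_eq hq hM h' ea, smul_comm]))

theorem torsRetract_tmul (r' : R') (m : M) :
    torsRetract hq hM (r' ⊗ₜ[R] m) = torsAct hq hM r' m := rfl

theorem torsRetract_one_tmul (m : M) : torsRetract hq hM ((1 : R') ⊗ₜ[R] m) = m := by
  obtain ⟨n, h⟩ := hM m
  rw [torsRetract_tmul, torsAct_eq hq hM h (r := 1) (s := 0) (by simp), one_smul]

include hq hM in
theorem mk_one_injective_of_torsion : Function.Injective (TensorProduct.mk R R' M 1) := by
  intro a b hab
  have := congrArg (torsRetract hq hM) hab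
  simpa [torsRetract_one_tmul] using this

include hq hM in
theorem mk_one_surjective_of_torsion : Function.Surjective (TensorProduct.mk R R' M 1) := by
  intro x
  induction x using TensorProduct.induction_on with
  | zero => exact ⟨0, by simp⟩
  | tmul r' m =>
    obtain ⟨n, r, s, h, -, e⟩ := exists_common hq hM r' m m
    refine ⟨r • m, ?_⟩
    have h2 : (algebraMap R R' f ^ n * s) ⊗ₜ[R] m = 0 := by
      rw [← map_pow, ← Algebra.smul_def, TensorProduct.smul_tmul, h, TensorProduct.tmul_zero]
    rw [TensorProduct.mk_apply, e, TensorProduct.add_tmul, h2, add_zero, TensorProduct.tmul_smul,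
      TensorProduct.smul_tmul', Algebra.smul_def, mul_one]
  | add x y hx hy =>
    obtain ⟨a, ha⟩ := hx
    obtain ⟨b, hb⟩ := hy
    exact ⟨a + b, by rw [map_add, ha, hb]⟩

include hq hM in
theorem subsingleton_of_torsion_of_tensor [Subsingleton (R' ⊗[R] M)] : Subsingleton M :=
  (mk_one_injective_of_torsion hq hM).subsingleton

end Torsion

section Surj

variable {R R' : Type u} [CommRing R] [CommRing R'] [Algebra R R'] {f : R}
variable {A B : Type u} [AddCommGroup A] [Module R A] [AddCommGroup B] [Module R B]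

theorem surjective_of_loc_of_tensor (hq : EtGlue.QuotPowBijective R R' f) (φ : A →ₗ[R] B)
    (h1 : ∀ b : B, ∃ (n : ℕ) (a : A), φ a = f ^ n • b)
    (h2 : Function.Surjective (φ.lTensor R')) : Function.Surjective φ := by
  have hC : ∀ c : B ⧸ LinearMap.range φ, ∃ n : ℕ, f ^ n • c = 0 := by
    intro c
    obtain ⟨b, rfl⟩ := Submodule.Quotient.mk_surjective _ c
    obtain ⟨n, a, ha⟩ := h1 b
    refine ⟨n, ?_⟩
    rw [← Submodule.Quotient.mk_smul, Submodule.Quotient.mk_eq_zero, ← ha]
    exact LinearMap.mem_range_self φ a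
  have hsub : Subsingleton (R' ⊗[R] (B ⧸ LinearMap.range φ)) := by
    refine ⟨fun x y => ?_⟩
    have hs : Function.Surjective ((LinearMap.range φ).mkQ.lTensor R') :=
      LinearMap.lTensor_surjective R' (Submodule.mkQ_surjective _)
    have hz : ∀ z, (LinearMap.range φ).mkQ.lTensor R' z = 0 := by
      intro z
      obtain ⟨w, rfl⟩ := h2 z
      rw [← LinearMap.comp_apply, ← LinearMap.lTensor_comp]
      have : (LinearMap.range φ).mkQ ∘ₗ φ = 0 := by
        ext a
        simp
      rw [this, LinearMap.lTensor_zero, LinearMap.zero_apply]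
    obtain ⟨x, rfl⟩ := hs x
    obtain ⟨y, rfl⟩ := hs y
    rw [hz, hz]
  have := subsingleton_of_torsion_of_tensor hq hC
  rw [← LinearMap.range_eq_top]
  exact Submodule.Quotient.subsingleton_iff.mp this

end Surj

section Finite

theorem exists_finset_pow_smul_mem_span {A : Type*} [CommRing A] (a : A) {Aₚ : Type*} [CommRing Aₚ]
    [Algebra A Aₚ] [IsLocalization.Away a Aₚ] {M Mₚ : Type*} [AddCommGroup M] [Module A M]
    [AddCommGroup Mₚ] [Module A Mₚ] [Module Aₚ Mₚ] [IsScalarTower A Aₚ Mₚ]
    (g : M →ₗ[A] Mₚ) [IsLocalizedModule (Submonoid.powers a) g] [hfin : Module.Finite Aₚ Mₚ] :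
    ∃ s : Finset M, ∀ x : M, ∃ n : ℕ, a ^ n • x ∈ Submodule.span A (s : Set M) := by
  classical
  obtain ⟨s₁, s₂⟩ := hfin.1
  refine ⟨IsLocalizedModule.finsetIntegerMultiple (Submonoid.powers a) g s₁, fun x => ?_⟩
  obtain ⟨⟨_, n₁, rfl⟩, hn₁⟩ := multiple_mem_span_of_mem_localization_span (Submonoid.powers a) Aₚ
    (s₁ : Set Mₚ) (IsLocalizedModule.mk' g x (1 : Submonoid.powers a)) (by rw [s₂]; trivial)
  rw [Submonoid.smul_def, ← IsLocalizedModule.mk'_smul, IsLocalizedModule.mk'_one] at hn₁
  obtain ⟨⟨_, n₂, rfl⟩, hn₂⟩ := IsLocalizedModule.smul_mem_finsetIntegerMultiple_span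
    (Submonoid.powers a) g _ s₁ hn₁
  rw [Submonoid.smul_def] at hn₂
  exact ⟨n₂ + n₁, by rw [pow_add, mul_smul]; exact hn₂⟩

variable {R R' : Type u} [CommRing R] [CommRing R'] [Algebra R R'] {f : R}

theorem submodule_eq_top_of_loc_of_tensor (hq : EtGlue.QuotPowBijective R R' f)
    {M : Type u} [AddCommGroup M] [Module R M] (N : Submodule R M)
    (h1 : ∀ m : M, ∃ n : ℕ, f ^ n • m ∈ N)
    (h2 : Function.Surjective (N.subtype.lTensor R')) : N = ⊤ := by
  have := surjective_of_loc_of_tensor hq N.subtype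
    (fun b => by obtain ⟨n, hn⟩ := h1 b; exact ⟨n, ⟨_, hn⟩, rfl⟩) h2
  rw [← LinearMap.range_eq_top, Submodule.range_subtype] at this
  exact this

theorem module_finite_of_loc_of_tensor (hq : EtGlue.QuotPowBijective R R' f)
    (M : Type u) [AddCommGroup M] [Module R M] [hT : Module.Finite R' (R' ⊗[R] M)]
    [Module.Finite (Localization.Away f) (LocalizedModule (Submonoid.powers f) M)] :
    Module.Finite R M := by
  classical
  obtain ⟨s₁, hs₁⟩ := exists_finset_pow_smul_mem_span f (Aₚ := Localization.Away f)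
    (LocalizedModule.mkLinearMap (Submonoid.powers f) M)
  obtain ⟨T, hT⟩ := hT.1
  obtain ⟨N₀, hN₀fin, hN₀⟩ := TensorProduct.exists_finite_submodule_right_of_setFinite
    (T : Set (R' ⊗[R] M)) T.finite_toSet
  obtain ⟨s₂, hs₂⟩ := Module.Finite.iff_fg.mp hN₀fin
  have hle1 : Submodule.span R (s₁ : Set M) ≤ Submodule.span R ((s₁ ∪ s₂ : Finset M) : Set M) :=
    Submodule.span_mono (by simp)
  have hle2 : N₀ ≤ Submodule.span R ((s₁ ∪ s₂ : Finset M) : Set M) := by
    rw [← hs₂]; exact Submodule.span_mono (by simp)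
  refine ⟨⟨s₁ ∪ s₂, ?_⟩⟩
  refine submodule_eq_top_of_loc_of_tensor hq _ (fun m => ?_) ?_
  · obtain ⟨n, hn⟩ := hs₁ m
    exact ⟨n, hle1 hn⟩
  · have hI : LinearMap.range ((Submodule.span R ((s₁ ∪ s₂ : Finset M) : Set M)).subtype.baseChange R')
        = ⊤ := by
      rw [eq_top_iff, ← hT, Submodule.span_le]
      intro x hx
      obtain ⟨y, rfl⟩ := hN₀ hx
      refine ⟨(Submodule.inclusion hle2).lTensor R' y, ?_⟩
      rw [LinearMap.baseChange_eq_ltensor, ← LinearMap.comp_apply, ← LinearMap.lTensor_comp]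
      rfl
    rw [LinearMap.range_eq_top] at hI
    intro x
    obtain ⟨y, hy⟩ := hI x
    exact ⟨y, hy⟩

end Finite

section BaseChange

attribute [local instance] Algebra.TensorProduct.rightAlgebra

theorem tensorMap_of_isStableUnderBaseChange
    {P : ∀ {R S : Type u} [CommRing R] [CommRing S], (R →+* S) → Prop}
    (hP : RingHom.IsStableUnderBaseChange @P) {R : Type u} [CommRing R] (R' : Type u) [CommRing R']
    [Algebra R R'] {A B : Type u} [CommRing A] [CommRing B] [Algebra R A] [Algebra R B]
    (φ : A →ₐ[R] B) (h : P φ.toRingHom) :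
    P (Algebra.TensorProduct.map (AlgHom.id R R') φ).toRingHom := by
  let _ : Algebra A B := φ.toRingHom.toAlgebra
  have : IsScalarTower R A B := IsScalarTower.of_algebraMap_eq' (by
    ext r
    simp [RingHom.algebraMap_toAlgebra])
  let _ : Algebra (R' ⊗[R] A) (R' ⊗[R] B) :=
    (Algebra.TensorProduct.map (AlgHom.id R R') φ).toRingHom.toAlgebra
  let _ : Algebra A (R' ⊗[R] B) := ((algebraMap B (R' ⊗[R] B)).comp (algebraMap A B)).toAlgebra
  have : IsScalarTower A B (R' ⊗[R] B) := IsScalarTower.of_algebraMap_eq' rfl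
  have : IsScalarTower A (R' ⊗[R] A) (R' ⊗[R] B) := IsScalarTower.of_algebraMap_eq' (by
    ext a
    simp [RingHom.algebraMap_toAlgebra])
  have : IsScalarTower R (R' ⊗[R] A) (R' ⊗[R] B) := IsScalarTower.of_algebraMap_eq' (by
    ext r
    simp [RingHom.algebraMap_toAlgebra])
  have : IsScalarTower R' (R' ⊗[R] A) (R' ⊗[R] B) := IsScalarTower.of_algebraMap_eq' (by
    ext r
    simp [RingHom.algebraMap_toAlgebra])
  have : Algebra.IsPushout A B (R' ⊗[R] A) (R' ⊗[R] B) :=
    (Algebra.IsPushout.comp_iff R A R' (R' ⊗[R] A) (T := B) (T' := R' ⊗[R] B)).mp inferInstance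
  exact hP A B (R' ⊗[R] A) (R' ⊗[R] B) h

end BaseChange

section RingFinite

variable {R R' : Type u} [CommRing R] [CommRing R'] [Algebra R R'] {f : R}
variable {A B : Type u} [CommRing A] [CommRing B] [Algebra R A] [Algebra R B]

theorem mul_mem_range_lTensor [Algebra A B] [IsScalarTower R A B] (N : Submodule A B)
    (c : R' ⊗[R] A) (x : R' ⊗[R] B)
    (hx : x ∈ LinearMap.range ((N.restrictScalars R).subtype.lTensor R')) :
    Algebra.TensorProduct.map (AlgHom.id R R') (IsScalarTower.toAlgHom R A B) c * x ∈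
      LinearMap.range ((N.restrictScalars R).subtype.lTensor R') := by
  obtain ⟨y, rfl⟩ := hx
  induction c using TensorProduct.induction_on with
  | zero => simp
  | add c₁ c₂ h₁ h₂ => rw [map_add, add_mul]; exact add_mem h₁ h₂
  | tmul r' a =>
    induction y using TensorProduct.induction_on with
    | zero => simp
    | add y₁ y₂ h₁ h₂ => rw [map_add, mul_add]; exact add_mem h₁ h₂
    | tmul r'' n =>
      refine ⟨(r' * r'') ⊗ₜ[R] ⟨a • (n : B), N.smul_mem a n.2⟩, ?_⟩
      simp [Algebra.smul_def]

theorem ringHom_finite_of_loc_of_tensor (hq : EtGlue.QuotPowBijective R R' f) (φ : A →ₐ[R] B)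
    (h1 : (Localization.awayMap φ.toRingHom (algebraMap R A f)).Finite)
    (h2 : (Algebra.TensorProduct.map (AlgHom.id R R') φ).toRingHom.Finite) :
    φ.toRingHom.Finite := by
  classical
  let _ : Algebra A B := φ.toRingHom.toAlgebra
  have : IsScalarTower R A B := IsScalarTower.of_algebraMap_eq' (by
    ext r
    simp [RingHom.algebraMap_toAlgebra])
  have hφ : IsScalarTower.toAlgHom R A B = φ := by ext; rfl
  set a : A := algebraMap R A f with ha
  -- localization side
  let _ : Algebra (Localization.Away a) (Localization.Away (φ.toRingHom a)) :=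
    (Localization.awayMap φ.toRingHom a).toAlgebra
  have : IsScalarTower A (Localization.Away a) (Localization.Away (φ.toRingHom a)) :=
    IsScalarTower.of_algebraMap_eq'
      (IsLocalization.map_comp (Submonoid.powers a).le_comap_map).symm
  have : IsLocalization (Algebra.algebraMapSubmonoid B (Submonoid.powers a))
      (Localization.Away (φ.toRingHom a)) := by
    rw [Algebra.algebraMapSubmonoid, Submonoid.map_powers]
    exact Localization.isLocalization
  have : Module.Finite (Localization.Away a) (Localization.Away (φ.toRingHom a)) := h1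
  obtain ⟨s₁, hs₁⟩ := exists_finset_pow_smul_mem_span a (Aₚ := Localization.Away a)
    (IsScalarTower.toAlgHom A B (Localization.Away (φ.toRingHom a))).toLinearMap
  -- tensor side
  let _ : Algebra (R' ⊗[R] A) (R' ⊗[R] B) :=
    (Algebra.TensorProduct.map (AlgHom.id R R') φ).toRingHom.toAlgebra
  have hT : Module.Finite (R' ⊗[R] A) (R' ⊗[R] B) := h2
  obtain ⟨T, hT⟩ := hT.1
  obtain ⟨N₀, hN₀fin, hN₀⟩ := TensorProduct.exists_finite_submodule_right_of_setFinite
    (T : Set (R' ⊗[R] B)) T.finite_toSet
  obtain ⟨s₂, hs₂⟩ := Module.Finite.iff_fg.mp hN₀fin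
  have hle1 : Submodule.span A (s₁ : Set B) ≤ Submodule.span A ((s₁ ∪ s₂ : Finset B) : Set B) :=
    Submodule.span_mono (by simp)
  have hle2 : N₀ ≤ (Submodule.span A ((s₁ ∪ s₂ : Finset B) : Set B)).restrictScalars R := by
    rw [← hs₂, Submodule.span_le]
    intro x hx
    exact Submodule.subset_span (by simp [hx])
  refine ⟨⟨s₁ ∪ s₂, ?_⟩⟩
  set N := Submodule.span A ((s₁ ∪ s₂ : Finset B) : Set B) with hN
  have key : N.restrictScalars R = ⊤ := by
    refine submodule_eq_top_of_loc_of_tensor hq _ (fun m => ?_) ?_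
    · obtain ⟨n, hn⟩ := hs₁ m
      refine ⟨n, ?_⟩
      have : f ^ n • m = a ^ n • m := by rw [ha, ← map_pow, algebraMap_smul]
      rw [this]
      exact hle1 hn
    · have hall : ∀ x : R' ⊗[R] B,
          x ∈ LinearMap.range ((N.restrictScalars R).subtype.lTensor R') := by
        intro x
        have hx : x ∈ Submodule.span (R' ⊗[R] A) (T : Set (R' ⊗[R] B)) := by rw [hT]; trivial
        induction hx using Submodule.span_induction with
        | mem x hx =>
          obtain ⟨y, rfl⟩ := hN₀ hx
          refine ⟨(Submodule.inclusion hle2).lTensor R' y, ?_⟩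
          rw [← LinearMap.comp_apply, ← LinearMap.lTensor_comp]
          rfl
        | zero => exact zero_mem _
        | add x y _ _ hx hy => exact add_mem hx hy
        | smul c x _ hx =>
          have := mul_mem_range_lTensor (R := R) (R' := R') N c x hx
          rw [hφ] at this
          exact this
      intro x
      exact hall x
  rw [eq_top_iff]
  intro x _
  have : x ∈ N.restrictScalars R := by rw [key]; trivial
  exact this

end RingFinite

section RingFiniteType

theorem exists_finset_pow_smul_mem_adjoin {A B : Type u} [CommRing A] [CommRing B] [Algebra A B]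
    (a : A)
    (h : @Algebra.FiniteType (Localization.Away a) (Localization.Away (algebraMap A B a)) _ _
      (Localization.awayMap (algebraMap A B) a).toAlgebra) :
    ∃ s : Finset B, ∀ x : B, ∃ n : ℕ, a ^ n • x ∈ Algebra.adjoin A (s : Set B) := by
  classical
  let _ := (Localization.awayMap (algebraMap A B) a).toAlgebra
  have : IsScalarTower A (Localization.Away a) (Localization.Away (algebraMap A B a)) :=
    IsScalarTower.of_algebraMap_eq'
      (IsLocalization.map_comp (Submonoid.powers a).le_comap_map).symm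
  have : IsLocalization ((Submonoid.powers a).map (algebraMap A B))
      (Localization.Away (algebraMap A B a)) := by
    rw [Submonoid.map_powers]; exact Localization.isLocalization
  obtain ⟨s₁, s₂⟩ := h.1
  refine ⟨IsLocalization.finsetIntegerMultiple ((Submonoid.powers a).map (algebraMap A B)) s₁,
    fun x => ?_⟩
  obtain ⟨⟨_, n₁, rfl⟩, hn₁⟩ := multiple_mem_adjoin_of_mem_localization_adjoin
    (Submonoid.powers a) (Localization.Away a)
    (s₁ : Set (Localization.Away (algebraMap A B a)))
    (algebraMap B (Localization.Away (algebraMap A B a)) x) (by rw [s₂]; trivial)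
  have e : algebraMap A (Localization.Away (algebraMap A B a)) (a ^ n₁) =
      algebraMap B (Localization.Away (algebraMap A B a)) (algebraMap A B (a ^ n₁)) :=
    IsScalarTower.algebraMap_apply A B _ _
  have hn₁' : algebraMap B (Localization.Away (algebraMap A B a)) (algebraMap A B (a ^ n₁) * x) ∈
      Algebra.adjoin A (s₁ : Set (Localization.Away (algebraMap A B a))) := by
    rw [map_mul, ← e, ← Algebra.smul_def]
    exact hn₁
  obtain ⟨⟨_, n₂, rfl⟩, hn₂⟩ := IsLocalization.lift_mem_adjoin_finsetIntegerMultiple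
    (Submonoid.powers a) _ s₁ hn₁'
  rw [Submonoid.smul_def, ← Algebra.smul_def, smul_smul, ← pow_add] at hn₂
  exact ⟨n₂ + n₁, hn₂⟩

variable {R R' : Type u} [CommRing R] [CommRing R'] [Algebra R R'] {f : R}
variable {A B : Type u} [CommRing A] [CommRing B] [Algebra R A] [Algebra R B]

theorem mul_mem_range_lTensor_subalgebra [Algebra A B] [IsScalarTower R A B] (C : Subalgebra A B)
    (x y : R' ⊗[R] B)
    (hx : x ∈ LinearMap.range ((C.toSubmodule.restrictScalars R).subtype.lTensor R'))
    (hy : y ∈ LinearMap.range ((C.toSubmodule.restrictScalars R).subtype.lTensor R')) :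
    x * y ∈ LinearMap.range ((C.toSubmodule.restrictScalars R).subtype.lTensor R') := by
  obtain ⟨x', rfl⟩ := hx
  obtain ⟨y', rfl⟩ := hy
  induction x' using TensorProduct.induction_on with
  | zero => simp
  | add c₁ c₂ h₁ h₂ => rw [map_add, add_mul]; exact add_mem h₁ h₂
  | tmul r₁ n₁ =>
    induction y' using TensorProduct.induction_on with
    | zero => simp
    | add y₁ y₂ h₁ h₂ => rw [map_add, mul_add]; exact add_mem h₁ h₂
    | tmul r₂ n₂ =>
      refine ⟨(r₁ * r₂) ⊗ₜ[R] ⟨(n₁ : B) * (n₂ : B), C.mul_mem n₁.2 n₂.2⟩, ?_⟩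
      simp

theorem ringHom_finiteType_of_loc_of_tensor (hq : EtGlue.QuotPowBijective R R' f) (φ : A →ₐ[R] B)
    (h1 : (Localization.awayMap φ.toRingHom (algebraMap R A f)).FiniteType)
    (h2 : (Algebra.TensorProduct.map (AlgHom.id R R') φ).toRingHom.FiniteType) :
    φ.toRingHom.FiniteType := by
  classical
  let _ : Algebra A B := φ.toRingHom.toAlgebra
  have : IsScalarTower R A B := IsScalarTower.of_algebraMap_eq' (by
    ext r
    simp [RingHom.algebraMap_toAlgebra])
  have hφ : IsScalarTower.toAlgHom R A B = φ := by ext; rfl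
  set a : A := algebraMap R A f with ha
  obtain ⟨s₁, hs₁⟩ := exists_finset_pow_smul_mem_adjoin (A := A) (B := B) a h1
  -- tensor side
  let _ : Algebra (R' ⊗[R] A) (R' ⊗[R] B) :=
    (Algebra.TensorProduct.map (AlgHom.id R R') φ).toRingHom.toAlgebra
  have hT : Algebra.FiniteType (R' ⊗[R] A) (R' ⊗[R] B) := h2
  obtain ⟨T, hT⟩ := hT.1
  obtain ⟨N₀, hN₀fin, hN₀⟩ := TensorProduct.exists_finite_submodule_right_of_setFinite
    (T : Set (R' ⊗[R] B)) T.finite_toSet
  obtain ⟨s₂, hs₂⟩ := Module.Finite.iff_fg.mp hN₀fin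
  set C := Algebra.adjoin A ((s₁ ∪ s₂ : Finset B) : Set B) with hC
  have hle1 : Algebra.adjoin A (s₁ : Set B) ≤ C := Algebra.adjoin_mono (by simp)
  have hle2 : N₀ ≤ C.toSubmodule.restrictScalars R := by
    rw [← hs₂, Submodule.span_le]
    intro x hx
    exact Algebra.subset_adjoin (by simp [hx])
  refine ⟨⟨s₁ ∪ s₂, ?_⟩⟩
  have key : C.toSubmodule.restrictScalars R = ⊤ := by
    refine submodule_eq_top_of_loc_of_tensor hq _ (fun m => ?_) ?_
    · obtain ⟨n, hn⟩ := hs₁ m
      refine ⟨n, ?_⟩
      have : f ^ n • m = a ^ n • m := by rw [ha, ← map_pow, algebraMap_smul]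
      rw [this]
      exact hle1 hn
    · have hall : ∀ x : R' ⊗[R] B,
          x ∈ LinearMap.range ((C.toSubmodule.restrictScalars R).subtype.lTensor R') := by
        intro x
        have hx : x ∈ Algebra.adjoin (R' ⊗[R] A) (T : Set (R' ⊗[R] B)) := by rw [hT]; trivial
        induction hx using Algebra.adjoin_induction with
        | mem x hx =>
          obtain ⟨y, rfl⟩ := hN₀ hx
          refine ⟨(Submodule.inclusion hle2).lTensor R' y, ?_⟩
          rw [← LinearMap.comp_apply, ← LinearMap.lTensor_comp]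
          rfl
        | algebraMap c =>
          have h1 : (1 : R' ⊗[R] B) ∈
              LinearMap.range ((C.toSubmodule.restrictScalars R).subtype.lTensor R') :=
            ⟨(1 : R') ⊗ₜ[R] ⟨1, C.one_mem⟩, by simp [Algebra.TensorProduct.one_def]⟩
          have := mul_mem_range_lTensor (R := R) (R' := R') C.toSubmodule c 1 h1
          rw [hφ, mul_one] at this
          exact this
        | add x y _ _ hx hy => exact add_mem hx hy
        | mul x y _ _ hx hy => exact mul_mem_range_lTensor_subalgebra C x y hx hy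
      intro x
      exact hall x
  rw [eq_top_iff]
  intro x _
  have : x ∈ C.toSubmodule.restrictScalars R := by rw [key]; trivial
  exact this

end RingFiniteType

end Groth.Agent.Lib.Helper16
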