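import Groth.Agent.Lib.Helper16Glue
import Mathlib.RingTheory.Localization.BaseChange

/-!
Helper library (helper16): glueable modules and the Beauville-Laszlo theorem for glueing pairs.
-/

namespace Groth.Agent.Lib.Helper16

open TensorProduct

universe u

section Glueable

variable {R R' : Type u} [CommRing R] [CommRing R'] [Algebra R R'] {f : R}
variable {M : Type u} [AddCommGroup M] [Module R M]

/-- if `1 ⊗ m` is divisible by `f ^ n` in `R' ⊗ M` then `m` is divisible by `f ^ n` in `M` -/
theorem exists_smul_of_tmul_eq_smul (hq : EtGlue.QuotPowBijective R R' f) (n : ℕ) (m : M)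
    (z : R' ⊗[R] M) (h : (1 : R') ⊗ₜ[R] m = f ^ n • z) : ∃ m' : M, m = f ^ n • m' := by
  let p : Submodule R M := LinearMap.range ((f ^ n) • (LinearMap.id : M →ₗ[R] M))
  have hQ : ∀ q : M ⧸ p, f ^ n • q = 0 := by
    intro q
    obtain ⟨b, rfl⟩ := Submodule.Quotient.mk_surjective _ q
    rw [← Submodule.Quotient.mk_smul, Submodule.Quotient.mk_eq_zero]
    exact ⟨b, rfl⟩
  have hQ' : ∀ q : M ⧸ p, ∃ k : ℕ, f ^ k • q = 0 := fun q => ⟨n, hQ q⟩
  have hz : ∀ w : R' ⊗[R] (M ⧸ p), f ^ n • w = 0 := by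
    intro w
    induction w using TensorProduct.induction_on with
    | zero => simp
    | tmul a b => rw [TensorProduct.smul_tmul', TensorProduct.smul_tmul, hQ, TensorProduct.tmul_zero]
    | add a b ha hb => rw [smul_add, ha, hb, add_zero]
  have h1 : (1 : R') ⊗ₜ[R] (p.mkQ m) = 0 := by
    have := congrArg (p.mkQ.lTensor R') h
    rw [LinearMap.lTensor_tmul, map_smul, hz] at this
    exact this
  have h2 : p.mkQ m = 0 := by
    apply mk_one_injective_of_torsion hq hQ'
    rw [TensorProduct.mk_apply, h1, map_zero]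
  rw [Submodule.mkQ_apply, Submodule.Quotient.mk_eq_zero] at h2
  obtain ⟨m', hm'⟩ := h2
  exact ⟨m', hm'.symm⟩

/-- torsion characterisation of glueable modules, one direction -/
theorem isGlueable_of_torsion (hq : EtGlue.QuotPowBijective R R' f)
    (hinj : ∀ m : M, (∃ n : ℕ, f ^ n • m = 0) → (1 : R') ⊗ₜ[R] m = 0 → m = 0)
    (hsurj : ∀ x : R' ⊗[R] M, (∃ n : ℕ, f ^ n • x = 0) →
      ∃ m : M, (∃ n : ℕ, f ^ n • m = 0) ∧ (1 : R') ⊗ₜ[R] m = x) :
    EtGlue.IsGlueable R R' f M := by
  constructor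
  · intro a b hab
    have h1 : (1 : R') ⊗ₜ[R] (a - b) = 0 := by
      rw [TensorProduct.tmul_sub, sub_eq_zero]; exact congrArg Prod.fst hab
    have h2 : LocalizedModule.mkLinearMap (Submonoid.powers f) M (a - b) = 0 := by
      rw [map_sub, sub_eq_zero]; exact congrArg Prod.snd hab
    rw [LocalizedModule.mkLinearMap_apply, ← LocalizedModule.zero_mk 1,
      LocalizedModule.mk_eq] at h2
    obtain ⟨⟨_, k, rfl⟩, hk⟩ := h2
    have h3 : f ^ k • (a - b) = 0 := by simpa [Submonoid.smul_def] using hk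
    exact sub_eq_zero.mp (hinj _ ⟨k, h3⟩ h1)
  · intro x y hxy
    induction y using LocalizedModule.induction_on with
    | h m₀ s =>
    obtain ⟨_, n, rfl⟩ := s
    have hxy' : LocalizedModule.mk x (1 : Submonoid.powers f) =
        LocalizedModule.mk ((1 : R') ⊗ₜ[R] m₀) (⟨f ^ n, n, rfl⟩ : Submonoid.powers f) := by
      have e1 : EtGlue.locOfTensor R R' f M x = LocalizedModule.mk x 1 := rfl
      have e2 : EtGlue.tensorOfLoc R R' f M
          (LocalizedModule.mk m₀ (⟨f ^ n, n, rfl⟩ : Submonoid.powers f)) =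
          LocalizedModule.mk ((1 : R') ⊗ₜ[R] m₀) (⟨f ^ n, n, rfl⟩ : Submonoid.powers f) :=
        IsLocalizedModule.map_LocalizedModules _ _ _ _
      rw [← e1, ← e2]; exact hxy
    rw [LocalizedModule.mk_eq] at hxy'
    obtain ⟨⟨_, k, rfl⟩, hk⟩ := hxy'
    have hk' : f ^ k • (f ^ n • x - (1 : R') ⊗ₜ[R] m₀) = 0 := by
      simp only [Submonoid.smul_def, one_smul] at hk
      rw [smul_sub, sub_eq_zero]; exact hk
    obtain ⟨t, ⟨j, hj⟩, ht⟩ := hsurj _ ⟨k, hk'⟩
    -- f^n • x = 1 ⊗ (m₀ + t)
    have h1 : (1 : R') ⊗ₜ[R] (m₀ + t) = f ^ n • x := by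
      rw [TensorProduct.tmul_add, ht]; abel
    obtain ⟨m₂, hm₂⟩ := exists_smul_of_tmul_eq_smul hq n _ _ h1
    have h2 : f ^ n • (x - (1 : R') ⊗ₜ[R] m₂) = 0 := by
      rw [smul_sub, ← h1, hm₂, TensorProduct.tmul_smul, sub_self]
    obtain ⟨t₂, ⟨j₂, hj₂⟩, ht₂⟩ := hsurj _ ⟨n, h2⟩
    refine ⟨m₂ + t₂, ?_, ?_⟩
    · rw [TensorProduct.tmul_add, ht₂]; abel
    · rw [LocalizedModule.mkLinearMap_apply, LocalizedModule.mk_eq]
      refine ⟨⟨f ^ (j + j₂), _, rfl⟩, ?_⟩
      simp only [Submonoid.smul_def, one_smul]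
      have e : f ^ n • (m₂ + t₂) = m₀ + t + f ^ n • t₂ := by rw [smul_add, ← hm₂]
      rw [e, smul_add, smul_add]
      have z1 : f ^ (j + j₂) • t = 0 := by rw [pow_add, mul_comm, mul_smul, hj, smul_zero]
      have z2 : f ^ (j + j₂) • f ^ n • t₂ = 0 := by
        rw [smul_comm, pow_add, mul_smul, hj₂, smul_zero, smul_zero]
      rw [z1, z2, add_zero, add_zero]

theorem torsion_of_isGlueable (h : EtGlue.IsGlueable R R' f M) :
    (∀ m : M, (∃ n : ℕ, f ^ n • m = 0) → (1 : R') ⊗ₜ[R] m = 0 → m = 0) ∧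
    (∀ x : R' ⊗[R] M, (∃ n : ℕ, f ^ n • x = 0) →
      ∃ m : M, (∃ n : ℕ, f ^ n • m = 0) ∧ (1 : R') ⊗ₜ[R] m = x) := by
  obtain ⟨hinj, hmid⟩ := h
  have loc_zero : ∀ {N : Type u} [AddCommGroup N] [Module R N] (z : N),
      LocalizedModule.mkLinearMap (Submonoid.powers f) N z = 0 ↔ ∃ n : ℕ, f ^ n • z = 0 := by
    intro N _ _ z
    rw [LocalizedModule.mkLinearMap_apply, ← LocalizedModule.zero_mk 1, LocalizedModule.mk_eq]
    constructor
    · rintro ⟨⟨_, k, rfl⟩, hk⟩
      exact ⟨k, by simpa [Submonoid.smul_def] using hk⟩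
    · rintro ⟨k, hk⟩
      exact ⟨⟨f ^ k, k, rfl⟩, by simpa [Submonoid.smul_def] using hk⟩
  constructor
  · intro m hm h1
    apply hinj
    have h2 : LocalizedModule.mkLinearMap (Submonoid.powers f) M m = 0 := (loc_zero m).2 hm
    have h3 : LocalizedModule.mkLinearMap (Submonoid.powers f) M (0 : M) = 0 := map_zero _
    simp only [h1, h2, TensorProduct.tmul_zero, h3]
  · intro x hx
    have h1 : EtGlue.locOfTensor R R' f M x = EtGlue.tensorOfLoc R R' f M 0 := by
      rw [map_zero]; exact (loc_zero x).2 hx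
    obtain ⟨m, hm1, hm2⟩ := hmid x 0 h1
    exact ⟨m, (loc_zero m).1 hm2, hm1⟩

end Glueable

section GlueingPair

variable {R R' : Type u} [CommRing R] [CommRing R'] [Algebra R R'] {f : R}

variable (R R' f) in
/-- the map `R_f → R'_f` as an `R`-linear map -/
noncomputable def awayLin : Localization.Away f →ₗ[R] Localization.Away (algebraMap R R' f) where
  toFun := Localization.awayMap (algebraMap R R') f
  map_add' := map_add _
  map_smul' := by
    intro r x
    rw [Algebra.smul_def, map_mul, RingHom.id_apply, Algebra.smul_def]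
    congr 1
    rw [IsScalarTower.algebraMap_apply R R' (Localization.Away (algebraMap R R' f))]
    exact IsLocalization.map_eq _ _

variable (R R' f) in
/-- the map `R' → R'_f` as an `R`-linear map -/
noncomputable def locLin : R' →ₗ[R] Localization.Away (algebraMap R R' f) :=
  (IsScalarTower.toAlgHom R R' (Localization.Away (algebraMap R R' f))).toLinearMap

variable (R R' f) in
noncomputable def gpι : R →ₗ[R] R' × Localization.Away f :=
  (Algebra.linearMap R R').prod (Algebra.linearMap R (Localization.Away f))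

variable (R R' f) in
noncomputable def gpδ : R' × Localization.Away f →ₗ[R] Localization.Away (algebraMap R R' f) :=
  (locLin R R' f) ∘ₗ LinearMap.fst R R' (Localization.Away f) -
    (awayLin R R' f) ∘ₗ LinearMap.snd R R' (Localization.Away f)

theorem gp_exact (h : EtGlue.IsGlueingPair R R' f) : Function.Exact (gpι R R' f) (gpδ R R' f) := by
  intro p
  obtain ⟨x, y⟩ := p
  constructor
  · intro hp
    have : algebraMap R' (Localization.Away (algebraMap R R' f)) x =
        Localization.awayMap (algebraMap R R') f y := by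
      have : locLin R R' f x - awayLin R R' f y = 0 := hp
      exact sub_eq_zero.mp this
    obtain ⟨r, hr1, hr2⟩ := h.2.2.1 x y this
    exact ⟨r, by simp [gpι, hr1, hr2]⟩
  · rintro ⟨r, hr⟩
    have h1 : algebraMap R R' r = x := congrArg Prod.fst hr
    have h2 : algebraMap R (Localization.Away f) r = y := congrArg Prod.snd hr
    change locLin R R' f x - awayLin R R' f y = 0
    rw [sub_eq_zero, ← h1, ← h2]
    have e : locLin R R' f (algebraMap R R' r) =
        algebraMap R' (Localization.Away (algebraMap R R' f)) (algebraMap R R' r) := rfl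
    have e' : awayLin R R' f (algebraMap R (Localization.Away f) r) =
        Localization.awayMap (algebraMap R R') f (algebraMap R (Localization.Away f) r) := rfl
    rw [e, e']
    exact (IsLocalization.map_eq (M := Submonoid.powers f) (S := Localization.Away f)
      (T := Submonoid.powers (algebraMap R R' f))
      (Q := Localization.Away (algebraMap R R' f)) _ r).symm

theorem gp_surj (h : EtGlue.IsGlueingPair R R' f) : Function.Surjective (gpδ R R' f) := by
  intro z
  obtain ⟨x, y, hxy⟩ := h.2.2.2 z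
  exact ⟨(x, y), hxy⟩

instance locLin_isLocalizedModule : IsLocalizedModule (Submonoid.powers f) (locLin R R' f) := by
  have : IsLocalization (Algebra.algebraMapSubmonoid R' (Submonoid.powers f))
      (Localization.Away (algebraMap R R' f)) := by
    rw [Algebra.algebraMapSubmonoid, Submonoid.map_powers]
    exact Localization.isLocalization
  exact isLocalizedModule_iff_isLocalization.mpr this

variable (M : Type u) [AddCommGroup M] [Module R M]

instance locLin_rTensor_isLocalizedModule :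
    IsLocalizedModule (Submonoid.powers f) ((locLin R R' f).rTensor M) :=
  IsLocalizedModule.rTensor (R := R) (A := R) (Submonoid.powers f) (locLin R R' f)

/-- the identification `R'_f ⊗ M = (R' ⊗ M)_f` -/
noncomputable def tensorLocEquiv : Localization.Away (algebraMap R R' f) ⊗[R] M ≃ₗ[R]
    LocalizedModule (Submonoid.powers f) (R' ⊗[R] M) :=
  IsLocalizedModule.linearEquiv (Submonoid.powers f) ((locLin R R' f).rTensor M)
    (LocalizedModule.mkLinearMap (Submonoid.powers f) (R' ⊗[R] M))

theorem tensorLocEquiv_apply (x : R' ⊗[R] M) :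
    tensorLocEquiv (f := f) M ((locLin R R' f).rTensor M x) =
      LocalizedModule.mkLinearMap (Submonoid.powers f) (R' ⊗[R] M) x :=
  IsLocalizedModule.linearEquiv_apply _ _ _ x

/-- the identification `M_f = R_f ⊗ M` -/
noncomputable def locTensorEquiv : LocalizedModule (Submonoid.powers f) M ≃ₗ[R]
    Localization.Away f ⊗[R] M :=
  (LocalizedModule.equivTensorProduct (Submonoid.powers f) M).restrictScalars R

theorem locTensorEquiv_mk_one (m : M) :
    locTensorEquiv (f := f) M (LocalizedModule.mkLinearMap (Submonoid.powers f) M m) =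
      (1 : Localization.Away f) ⊗ₜ[R] m := by
  change LocalizedModule.equivTensorProduct (Submonoid.powers f) M (LocalizedModule.mk m 1) = _
  rw [LocalizedModule.equivTensorProduct_apply_mk, Localization.mk_one]

theorem tensorOfLoc_eq (y : LocalizedModule (Submonoid.powers f) M) :
    EtGlue.tensorOfLoc R R' f M y =
      tensorLocEquiv (f := f) M ((awayLin R R' f).rTensor M (locTensorEquiv (f := f) M y)) := by
  have key : EtGlue.tensorOfLoc R R' f M =
      (tensorLocEquiv (f := f) (R' := R') M).toLinearMap ∘ₗ ((awayLin R R' f).rTensor M) ∘ₗ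
        (locTensorEquiv (f := f) M).toLinearMap := by
    apply IsLocalizedModule.ext (Submonoid.powers f)
      (LocalizedModule.mkLinearMap (Submonoid.powers f) M)
      (IsLocalizedModule.map_units
        (LocalizedModule.mkLinearMap (Submonoid.powers f) (R' ⊗[R] M)))
    ext m
    simp only [LinearMap.coe_comp, Function.comp_apply, LinearEquiv.coe_coe]
    rw [locTensorEquiv_mk_one, IsLocalizedModule.map_apply, LinearMap.rTensor_tmul]
    have e : awayLin R R' f (1 : Localization.Away f) = locLin R R' f (1 : R') := by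
      change Localization.awayMap (algebraMap R R') f 1 =
        algebraMap R' (Localization.Away (algebraMap R R' f)) 1
      rw [map_one, map_one]
    rw [e, ← LinearMap.rTensor_tmul, tensorLocEquiv_apply]
    rfl
  rw [key]
  rfl

theorem rTensor_algebraLinearMap (S : Type u) [CommRing S] [Algebra R S] (w : R ⊗[R] M) :
    (Algebra.linearMap R S).rTensor M w = (1 : S) ⊗ₜ[R] (TensorProduct.lid R M w) := by
  induction w using TensorProduct.induction_on with
  | zero => simp
  | tmul r m =>
    rw [TensorProduct.lid_tmul, LinearMap.rTensor_tmul, Algebra.linearMap_apply,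
      TensorProduct.tmul_smul, TensorProduct.smul_tmul', Algebra.smul_def, mul_one]
  | add a b ha hb => rw [map_add, ha, hb, map_add, TensorProduct.tmul_add]

theorem glueingPair_mid (h : EtGlue.IsGlueingPair R R' f) (x : R' ⊗[R] M)
    (y : LocalizedModule (Submonoid.powers f) M)
    (hxy : EtGlue.locOfTensor R R' f M x = EtGlue.tensorOfLoc R R' f M y) :
    ∃ m : M, (1 : R') ⊗ₜ[R] m = x ∧
      LocalizedModule.mkLinearMap (Submonoid.powers f) M m = y := by
  have hex := rTensor_exact M (gp_exact h) (gp_surj h)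
  set y' := locTensorEquiv (f := f) M y with hy'
  let z : (R' × Localization.Away f) ⊗[R] M :=
    (LinearMap.inl R R' (Localization.Away f)).rTensor M x +
      (LinearMap.inr R R' (Localization.Away f)).rTensor M y'
  have hz : (gpδ R R' f).rTensor M z = 0 := by
    apply (tensorLocEquiv (f := f) (R' := R') M).injective
    rw [map_zero, map_add, map_add, ← LinearMap.comp_apply, ← LinearMap.comp_apply,
      ← LinearMap.rTensor_comp, ← LinearMap.rTensor_comp]
    have e1 : gpδ R R' f ∘ₗ LinearMap.inl R R' (Localization.Away f) = locLin R R' f := by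
      ext a; simp [gpδ]
    have e2 : gpδ R R' f ∘ₗ LinearMap.inr R R' (Localization.Away f) = - awayLin R R' f := by
      ext a; simp [gpδ]
    rw [e1, e2, tensorLocEquiv_apply, LinearMap.rTensor_neg, LinearMap.neg_apply, map_neg,
      ← tensorOfLoc_eq, ← hxy]
    exact add_neg_cancel _
  obtain ⟨w, hw⟩ := (hex z).1 hz
  refine ⟨TensorProduct.lid R M w, ?_, ?_⟩
  · have e1 : (LinearMap.fst R R' (Localization.Away f)).rTensor M z = x := by
      simp only [z, map_add, ← LinearMap.comp_apply, ← LinearMap.rTensor_comp]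
      simp [LinearMap.fst_comp_inl, LinearMap.fst_comp_inr]
    rw [← e1, ← hw, ← LinearMap.comp_apply, ← LinearMap.rTensor_comp]
    have e2 : LinearMap.fst R R' (Localization.Away f) ∘ₗ gpι R R' f = Algebra.linearMap R R' := by
      ext; simp [gpι]
    rw [e2, rTensor_algebraLinearMap]
  · apply (locTensorEquiv (f := f) M).injective
    rw [locTensorEquiv_mk_one, ← hy']
    have e1 : (LinearMap.snd R R' (Localization.Away f)).rTensor M z = y' := by
      simp only [z, map_add, ← LinearMap.comp_apply, ← LinearMap.rTensor_comp]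
      simp [LinearMap.snd_comp_inl, LinearMap.snd_comp_inr]
    rw [← e1, ← hw, ← LinearMap.comp_apply, ← LinearMap.rTensor_comp]
    have e2 : LinearMap.snd R R' (Localization.Away f) ∘ₗ gpι R R' f =
        Algebra.linearMap R (Localization.Away f) := by
      ext; simp [gpι]
    rw [e2, rTensor_algebraLinearMap]


theorem mkLinearMap_eq_zero_iff {N : Type u} [AddCommGroup N] [Module R N] (z : N) :
    LocalizedModule.mkLinearMap (Submonoid.powers f) N z = 0 ↔ ∃ n : ℕ, f ^ n • z = 0 := by
  rw [LocalizedModule.mkLinearMap_apply, ← LocalizedModule.zero_mk 1, LocalizedModule.mk_eq]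
  constructor
  · rintro ⟨⟨_, k, rfl⟩, hk⟩
    exact ⟨k, by simpa [Submonoid.smul_def] using hk⟩
  · rintro ⟨k, hk⟩
    exact ⟨⟨f ^ k, k, rfl⟩, by simpa [Submonoid.smul_def] using hk⟩

/-- for a glueing pair, power torsion elements of `R' ⊗ M` come from power torsion elements of `M` -/
theorem glueingPair_torsion_surj (h : EtGlue.IsGlueingPair R R' f) (x : R' ⊗[R] M)
    (hx : ∃ n : ℕ, f ^ n • x = 0) :
    ∃ m : M, (∃ n : ℕ, f ^ n • m = 0) ∧ (1 : R') ⊗ₜ[R] m = x := by
  have h1 : EtGlue.locOfTensor R R' f M x = EtGlue.tensorOfLoc R R' f M 0 := by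
    rw [map_zero]; exact (mkLinearMap_eq_zero_iff x).2 hx
  obtain ⟨m, hm1, hm2⟩ := glueingPair_mid M h x 0 h1
  exact ⟨m, (mkLinearMap_eq_zero_iff m).1 hm2, hm1⟩

theorem isGlueable_of_glueingPair_of_inj (h : EtGlue.IsGlueingPair R R' f)
    (hinj : ∀ m : M, (∃ n : ℕ, f ^ n • m = 0) → (1 : R') ⊗ₜ[R] m = 0 → m = 0) :
    EtGlue.IsGlueable R R' f M :=
  isGlueable_of_torsion h.1 hinj (glueingPair_torsion_surj M h)

end GlueingPair

section BLEss

variable {R R' : Type u} [CommRing R] [CommRing R'] [Algebra R R'] {f : R}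
variable {M' : Type u} [AddCommGroup M'] [Module R M'] [Module R' M'] [IsScalarTower R R' M']
variable {M₁ : Type u} [AddCommGroup M₁] [Module R M₁]

/-- Lemma S: decomposition of elements of `R' ⊗ M₁` -/
theorem exists_decomp (hq : EtGlue.QuotPowBijective R R' f) {M : Type u} [AddCommGroup M]
    [Module R M] (p : M →ₗ[R] M₁) (hp : ∀ x : M₁, ∃ (k : ℕ) (m : M), f ^ k • x = p m)
    (y : R' ⊗[R] M₁) :
    ∃ (z : M₁) (w : R' ⊗[R] M), y = (1 : R') ⊗ₜ[R] z + p.lTensor R' w := by
  induction y using TensorProduct.induction_on with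
  | zero => exact ⟨0, 0, by simp⟩
  | add a b ha hb =>
    obtain ⟨z₁, w₁, h₁⟩ := ha
    obtain ⟨z₂, w₂, h₂⟩ := hb
    exact ⟨z₁ + z₂, w₁ + w₂, by rw [h₁, h₂, TensorProduct.tmul_add, map_add]; abel⟩
  | tmul r' x =>
    obtain ⟨k, m, hk⟩ := hp x
    have hk' : f ^ (k + 1) • x = p (f • m) := by
      rw [pow_succ, mul_comm, mul_smul, hk, map_smul]
    obtain ⟨r, s', hrs⟩ := quotPow_surj hq (Nat.succ_pos k) r'
    refine ⟨r • x, s' ⊗ₜ[R] (f • m), ?_⟩
    have e1 : (1 : R') ⊗ₜ[R] (r • x) = (algebraMap R R' r) ⊗ₜ[R] x := by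
      rw [TensorProduct.tmul_smul, TensorProduct.smul_tmul', Algebra.smul_def, mul_one]
    have e2 : s' ⊗ₜ[R] (f ^ (k + 1) • x) = (algebraMap R R' f ^ (k + 1) * s') ⊗ₜ[R] x := by
      rw [TensorProduct.tmul_smul, TensorProduct.smul_tmul', Algebra.smul_def, map_pow]
    rw [LinearMap.lTensor_tmul, ← hk', e1, e2, ← TensorProduct.add_tmul, ← hrs]

variable (α : LocalizedModule (Submonoid.powers (algebraMap R R' f)) M' ≃ₗ[R'] R' ⊗[R] M₁)

/-- the glued module, as a submodule of `M' × M₁` -/
def glueSub : Submodule R (M' × M₁) where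
  carrier := {p | LocalizedModule.mkLinearMap (Submonoid.powers (algebraMap R R' f)) M' p.1 =
    α.symm ((1 : R') ⊗ₜ[R] p.2)}
  add_mem' := by
    intro a b ha hb
    change _ = _ at ha hb ⊢
    rw [Prod.fst_add, Prod.snd_add, map_add, TensorProduct.tmul_add, map_add, ha, hb]
  zero_mem' := by simp
  smul_mem' := by
    intro r a ha
    change _ = _ at ha ⊢
    rw [Prod.smul_fst, Prod.smul_snd, ← algebraMap_smul R' r a.1, map_smul, ha, ← map_smul,
      TensorProduct.tmul_smul, algebraMap_smul]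

theorem mem_glueSub (p : M' × M₁) : p ∈ glueSub α ↔
    LocalizedModule.mkLinearMap (Submonoid.powers (algebraMap R R' f)) M' p.1 =
      α.symm ((1 : R') ⊗ₜ[R] p.2) := Iff.rfl

/-- first projection -/
def gpr₁ : glueSub α →ₗ[R] M' := (LinearMap.fst R M' M₁).comp (glueSub α).subtype

/-- second projection -/
def gpr₂ : glueSub α →ₗ[R] M₁ := (LinearMap.snd R M' M₁).comp (glueSub α).subtype

theorem gpr_spec (m : glueSub α) :
    LocalizedModule.mkLinearMap (Submonoid.powers (algebraMap R R' f)) M' (gpr₁ α m) =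
      α.symm ((1 : R') ⊗ₜ[R] gpr₂ α m) := m.2

theorem mkLin'_eq_zero_iff (z : M') :
    LocalizedModule.mkLinearMap (Submonoid.powers (algebraMap R R' f)) M' z = 0 ↔
      ∃ n : ℕ, f ^ n • z = 0 := by
  rw [LocalizedModule.mkLinearMap_apply, ← LocalizedModule.zero_mk 1, LocalizedModule.mk_eq]
  constructor
  · rintro ⟨⟨_, k, rfl⟩, hk⟩
    refine ⟨k, ?_⟩
    simp only [Submonoid.smul_def, one_smul, smul_zero] at hk
    rw [← algebraMap_smul R' (f ^ k) z, map_pow]
    exact hk
  · rintro ⟨k, hk⟩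
    refine ⟨⟨algebraMap R R' f ^ k, k, rfl⟩, ?_⟩
    simp only [Submonoid.smul_def, one_smul, smul_zero]
    rw [← map_pow, algebraMap_smul]
    exact hk

theorem pow_smul_bijective (hf : Function.Bijective fun x : M₁ => f • x) (n : ℕ) :
    Function.Bijective fun x : M₁ => f ^ n • x := by
  induction n with
  | zero =>
    have : (fun x : M₁ => f ^ 0 • x) = id := by funext x; simp
    rw [this]; exact Function.bijective_id
  | succ n ih =>
    have : (fun x : M₁ => f ^ (n + 1) • x) = (fun x : M₁ => f ^ n • x) ∘ (fun x : M₁ => f • x) := by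
      funext x
      simp [pow_succ, mul_smul]
    rw [this]
    exact ih.comp hf

theorem one_tmul_pow_smul (n : ℕ) (y : M₁) :
    (algebraMap R R' f ^ n) • ((1 : R') ⊗ₜ[R] y) = (1 : R') ⊗ₜ[R] (f ^ n • y) := by
  rw [TensorProduct.smul_tmul', smul_eq_mul, mul_one, ← map_pow, TensorProduct.tmul_smul,
    TensorProduct.smul_tmul', Algebra.smul_def, mul_one]

theorem gpr₂_isLocalizedModule (hf : Function.Bijective fun x : M₁ => f • x) :
    IsLocalizedModule (Submonoid.powers f) (gpr₂ α) where
  map_units := by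
    rintro ⟨_, n, rfl⟩
    rw [Module.End.isUnit_iff]
    exact pow_smul_bijective hf n
  surj := by
    intro y
    obtain ⟨⟨m', ⟨_, n, rfl⟩⟩, hm'⟩ := IsLocalizedModule.surj
      (Submonoid.powers (algebraMap R R' f))
      (LocalizedModule.mkLinearMap (Submonoid.powers (algebraMap R R' f)) M')
      (α.symm ((1 : R') ⊗ₜ[R] y))
    have hmem : (m', f ^ n • y) ∈ glueSub α := by
      rw [mem_glueSub]
      change _ • _ = _ at hm'
      rw [← hm', Submonoid.smul_def, ← map_smul, one_tmul_pow_smul]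
    exact ⟨(⟨(m', f ^ n • y), hmem⟩, ⟨f ^ n, n, rfl⟩), rfl⟩
  exists_of_eq := by
    intro x₁ x₂ h
    have h2 : gpr₂ α (x₁ - x₂) = 0 := by rw [map_sub, h, sub_self]
    have h1 := gpr_spec α (x₁ - x₂)
    rw [h2, TensorProduct.tmul_zero, map_zero, mkLin'_eq_zero_iff] at h1
    obtain ⟨k, hk⟩ := h1
    refine ⟨⟨f ^ k, k, rfl⟩, ?_⟩
    have key : f ^ k • (x₁ - x₂) = 0 := by
      apply Subtype.ext
      apply Prod.ext
      · exact hk
      · change f ^ k • gpr₂ α (x₁ - x₂) = 0
        rw [h2, smul_zero]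
    rw [smul_sub, sub_eq_zero] at key
    exact key

/-- the comparison map `R' ⊗ M → M'` -/
noncomputable def gε : R' ⊗[R] (glueSub α) →ₗ[R'] M' := (gpr₁ α).liftBaseChange R'

theorem gε_tmul (r' : R') (m : glueSub α) : gε α (r' ⊗ₜ[R] m) = r' • gpr₁ α m := rfl

theorem α_mk_gε (x : R' ⊗[R] (glueSub α)) :
    α (LocalizedModule.mkLinearMap (Submonoid.powers (algebraMap R R' f)) M' (gε α x)) =
      (gpr₂ α).lTensor R' x := by
  induction x using TensorProduct.induction_on with
  | zero => simp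
  | add a b ha hb => rw [map_add, map_add, map_add, ha, hb, map_add]
  | tmul r' m =>
    rw [gε_tmul, map_smul, gpr_spec, map_smul, LinearEquiv.apply_symm_apply,
      LinearMap.lTensor_tmul, TensorProduct.smul_tmul', smul_eq_mul, mul_one]

theorem lTensor_eq_zero_torsion (hf : Function.Bijective fun x : M₁ => f • x)
    (x : R' ⊗[R] (glueSub α)) (hx : (gpr₂ α).lTensor R' x = 0) : ∃ n : ℕ, f ^ n • x = 0 := by
  have := gpr₂_isLocalizedModule α hf
  have : IsLocalizedModule (Submonoid.powers f)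
      (TensorProduct.AlgebraTensorModule.rTensor R R' (gpr₂ α)) :=
    IsLocalizedModule.rTensor (R := R) (A := R) (N := R') (Submonoid.powers f) (gpr₂ α)
  have h1 : TensorProduct.AlgebraTensorModule.rTensor R R' (gpr₂ α)
      (TensorProduct.comm R R' (glueSub α) x) = 0 := by
    have : ∀ y : R' ⊗[R] (glueSub α), TensorProduct.AlgebraTensorModule.rTensor R R' (gpr₂ α)
        (TensorProduct.comm R R' (glueSub α) y) =
        TensorProduct.comm R R' M₁ ((gpr₂ α).lTensor R' y) := by
      intro y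
      induction y using TensorProduct.induction_on with
      | zero => simp
      | add a b ha hb => simp only [map_add, ha, hb]
      | tmul a b => simp
    rw [this, hx, map_zero]
  obtain ⟨⟨_, n, rfl⟩, hn⟩ := (IsLocalizedModule.eq_zero_iff (Submonoid.powers f)
    (TensorProduct.AlgebraTensorModule.rTensor R R' (gpr₂ α))).1 h1
  refine ⟨n, ?_⟩
  apply (TensorProduct.comm R R' (glueSub α)).injective
  rw [map_smul, map_zero]
  exact hn

theorem glueSub_eq_zero_of_torsion (hf : Function.Bijective fun x : M₁ => f • x)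
    (t : glueSub α) (ht : ∃ n : ℕ, f ^ n • t = 0) (h1 : gpr₁ α t = 0) : t = 0 := by
  obtain ⟨n, hn⟩ := ht
  have h2 : gpr₂ α t = 0 := by
    apply (pow_smul_bijective hf n).1
    change f ^ n • gpr₂ α t = f ^ n • 0
    rw [← map_smul, hn, map_zero, smul_zero]
  apply Subtype.ext
  apply Prod.ext
  · exact h1
  · exact h2

theorem gε_injective (hRR : EtGlue.IsGlueingPair R R' f)
    (hf : Function.Bijective fun x : M₁ => f • x) : Function.Injective (gε α) := by
  rw [injective_iff_map_eq_zero]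
  intro x hx
  have h1 : (gpr₂ α).lTensor R' x = 0 := by rw [← α_mk_gε, hx, map_zero, map_zero]
  obtain ⟨t, ht, rfl⟩ := glueingPair_torsion_surj (glueSub α) hRR x
    (lTensor_eq_zero_torsion α hf x h1)
  have h2 : gpr₁ α t = 0 := by
    have := hx
    rw [gε_tmul, one_smul] at this
    exact this
  rw [glueSub_eq_zero_of_torsion α hf t ht h2, TensorProduct.tmul_zero]

theorem gε_surjective (hq : EtGlue.QuotPowBijective R R' f)
    (hf : Function.Bijective fun x : M₁ => f • x) : Function.Surjective (gε α) := by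
  have := gpr₂_isLocalizedModule α hf
  intro m'
  have hp : ∀ x : M₁, ∃ (k : ℕ) (m : glueSub α), f ^ k • x = gpr₂ α m := by
    intro x
    obtain ⟨⟨m, ⟨_, k, rfl⟩⟩, hm⟩ := IsLocalizedModule.surj (Submonoid.powers f) (gpr₂ α) x
    exact ⟨k, m, hm⟩
  obtain ⟨z, w, hzw⟩ := exists_decomp hq (gpr₂ α) hp
    (α (LocalizedModule.mkLinearMap (Submonoid.powers (algebraMap R R' f)) M' m'))
  rw [← α_mk_gε] at hzw
  have hmem : (m' - gε α w, z) ∈ glueSub α := by
    rw [mem_glueSub]
    apply α.injective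
    rw [LinearEquiv.apply_symm_apply, map_sub, map_sub, hzw]
    abel
  refine ⟨w + (1 : R') ⊗ₜ[R] ⟨(m' - gε α w, z), hmem⟩, ?_⟩
  rw [map_add, gε_tmul, one_smul]
  change gε α w + (m' - gε α w) = m'
  abel

theorem bl_essSurj (hRR : EtGlue.IsGlueingPair R R' f)
    (hf : Function.Bijective fun x : M₁ => f • x) :
    ∃ (M : Type u) (_ : AddCommGroup M) (_ : Module R M) (_ : EtGlue.IsGlueable R R' f M)
      (e' : R' ⊗[R] M ≃ₗ[R'] M') (e₁ : LocalizedModule (Submonoid.powers f) M ≃ₗ[R] M₁),
      ∀ m : M, α (LocalizedModule.mkLinearMap (Submonoid.powers (algebraMap R R' f)) M'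
        (e' ((1 : R') ⊗ₜ[R] m))) =
        (1 : R') ⊗ₜ[R] e₁ (LocalizedModule.mkLinearMap (Submonoid.powers f) M m) := by
  have := gpr₂_isLocalizedModule α hf
  have hq : EtGlue.QuotPowBijective R R' f := hRR.1
  have hgl : EtGlue.IsGlueable R R' f (glueSub α) := by
    apply isGlueable_of_glueingPair_of_inj (glueSub α) hRR
    intro m hm h1
    apply glueSub_eq_zero_of_torsion α hf m hm
    have := congrArg (gε α) h1
    rw [gε_tmul, one_smul, map_zero] at this
    exact this
  refine ⟨glueSub α, inferInstance, inferInstance, hgl,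
    LinearEquiv.ofBijective (gε α) ⟨gε_injective α hRR hf, gε_surjective α hq hf⟩,
    IsLocalizedModule.linearEquiv (Submonoid.powers f)
      (LocalizedModule.mkLinearMap (Submonoid.powers f) (glueSub α)) (gpr₂ α), ?_⟩
  intro m
  rw [IsLocalizedModule.linearEquiv_apply]
  change α (LocalizedModule.mkLinearMap (Submonoid.powers (algebraMap R R' f)) M'
    (gε α ((1 : R') ⊗ₜ[R] m))) = _
  rw [gε_tmul, one_smul, gpr_spec, LinearEquiv.apply_symm_apply]

end BLEss

section BLAbs

variable {R R' : Type u} [CommRing R] [CommRing R'] [Algebra R R'] {f : R}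
variable {M' : Type u} [AddCommGroup M'] [Module R M'] [Module R' M'] [IsScalarTower R R' M']
variable {M₁ : Type u} [AddCommGroup M₁] [Module R M₁]
variable {L : Type u} [AddCommGroup L] [Module R' L]
variable {M : Type u} [AddCommGroup M] [Module R M]

/-- `M` with `p₁`, `p₂` is the fibre product of `M'` and `M₁` over `L ≃ R' ⊗ M₁` -/
structure IsGluePullback (lam : M' →ₗ[R'] L) (α : L ≃ₗ[R'] R' ⊗[R] M₁) (p₁ : M →ₗ[R] M')
    (p₂ : M →ₗ[R] M₁) : Prop where
  spec : ∀ m, lam (p₁ m) = α.symm ((1 : R') ⊗ₜ[R] p₂ m)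
  inj : ∀ m, p₁ m = 0 → p₂ m = 0 → m = 0
  surj : ∀ m' m₁, lam m' = α.symm ((1 : R') ⊗ₜ[R] m₁) → ∃ m, p₁ m = m' ∧ p₂ m = m₁

variable {lam : M' →ₗ[R'] L} [IsLocalizedModule (Submonoid.powers (algebraMap R R' f)) lam]
variable {α : L ≃ₗ[R'] R' ⊗[R] M₁} {p₁ : M →ₗ[R] M'} {p₂ : M →ₗ[R] M₁}

omit [Module R M'] [IsScalarTower R R' M'] in
theorem lam_eq_zero_iff' (z : M') :
    lam z = 0 ↔ ∃ n : ℕ, (algebraMap R R' f) ^ n • z = 0 := by
  rw [IsLocalizedModule.eq_zero_iff (Submonoid.powers (algebraMap R R' f)) lam]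
  constructor
  · rintro ⟨⟨_, k, rfl⟩, hk⟩
    exact ⟨k, hk⟩
  · rintro ⟨k, hk⟩
    exact ⟨⟨algebraMap R R' f ^ k, k, rfl⟩, hk⟩

theorem lam_eq_zero_iff (z : M') : lam z = 0 ↔ ∃ n : ℕ, f ^ n • z = 0 := by
  rw [lam_eq_zero_iff' (f := f) (lam := lam)]
  constructor
  · rintro ⟨k, hk⟩
    exact ⟨k, by rw [← algebraMap_smul R' (f ^ k) z, map_pow]; exact hk⟩
  · rintro ⟨k, hk⟩
    exact ⟨k, by rw [← map_pow, algebraMap_smul]; exact hk⟩

theorem IsGluePullback.isLocalizedModule (h : IsGluePullback lam α p₁ p₂)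
    (hf : Function.Bijective fun x : M₁ => f • x) :
    IsLocalizedModule (Submonoid.powers f) p₂ where
  map_units := by
    rintro ⟨_, n, rfl⟩
    rw [Module.End.isUnit_iff]
    exact pow_smul_bijective hf n
  surj := by
    intro y
    obtain ⟨⟨m', ⟨_, n, rfl⟩⟩, hm'⟩ := IsLocalizedModule.surj
      (Submonoid.powers (algebraMap R R' f)) lam (α.symm ((1 : R') ⊗ₜ[R] y))
    have hmem : lam m' = α.symm ((1 : R') ⊗ₜ[R] (f ^ n • y)) := by
      change _ • _ = _ at hm'
      rw [← hm', Submonoid.smul_def, ← map_smul, one_tmul_pow_smul]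
    obtain ⟨m, -, hm2⟩ := h.surj _ _ hmem
    exact ⟨(m, ⟨f ^ n, n, rfl⟩), hm2.symm⟩
  exists_of_eq := by
    intro x₁ x₂ hx
    have h2 : p₂ (x₁ - x₂) = 0 := by rw [map_sub, hx, sub_self]
    have h1 := h.spec (x₁ - x₂)
    rw [h2, TensorProduct.tmul_zero, map_zero, lam_eq_zero_iff (f := f)] at h1
    obtain ⟨k, hk⟩ := h1
    refine ⟨⟨f ^ k, k, rfl⟩, ?_⟩
    have key : f ^ k • (x₁ - x₂) = 0 := by
      apply h.inj
      · rw [map_smul]; exact hk
      · rw [map_smul, h2, smul_zero]
    rw [smul_sub, sub_eq_zero] at key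
    exact key

theorem IsGluePullback.α_lam_lift (h : IsGluePullback lam α p₁ p₂) (x : R' ⊗[R] M) :
    α (lam (p₁.liftBaseChange R' x)) = p₂.lTensor R' x := by
  induction x using TensorProduct.induction_on with
  | zero => simp
  | add a b ha hb => rw [map_add, map_add, map_add, ha, hb, map_add]
  | tmul r' m =>
    rw [LinearMap.liftBaseChange_tmul, map_smul, h.spec, map_smul, LinearEquiv.apply_symm_apply,
      LinearMap.lTensor_tmul, TensorProduct.smul_tmul', smul_eq_mul, mul_one]

theorem lTensor_eq_zero_torsion' [IsLocalizedModule (Submonoid.powers f) p₂]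
    (x : R' ⊗[R] M) (hx : p₂.lTensor R' x = 0) : ∃ n : ℕ, f ^ n • x = 0 := by
  have : IsLocalizedModule (Submonoid.powers f)
      (TensorProduct.AlgebraTensorModule.rTensor R R' p₂) :=
    IsLocalizedModule.rTensor (R := R) (A := R) (N := R') (Submonoid.powers f) p₂
  have h1 : TensorProduct.AlgebraTensorModule.rTensor R R' p₂
      (TensorProduct.comm R R' M x) = 0 := by
    have : ∀ y : R' ⊗[R] M, TensorProduct.AlgebraTensorModule.rTensor R R' p₂
        (TensorProduct.comm R R' M y) = TensorProduct.comm R R' M₁ (p₂.lTensor R' y) := by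
      intro y
      induction y using TensorProduct.induction_on with
      | zero => simp
      | add a b ha hb => simp only [map_add, ha, hb]
      | tmul a b => simp
    rw [this, hx, map_zero]
  obtain ⟨⟨_, n, rfl⟩, hn⟩ := (IsLocalizedModule.eq_zero_iff (Submonoid.powers f)
    (TensorProduct.AlgebraTensorModule.rTensor R R' p₂)).1 h1
  refine ⟨n, ?_⟩
  apply (TensorProduct.comm R R' M).injective
  rw [map_smul, map_zero]
  exact hn

theorem IsGluePullback.eq_zero_of_torsion (h : IsGluePullback lam α p₁ p₂)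
    (hf : Function.Bijective fun x : M₁ => f • x)
    (t : M) (ht : ∃ n : ℕ, f ^ n • t = 0) (h1 : p₁ t = 0) : t = 0 := by
  obtain ⟨n, hn⟩ := ht
  apply h.inj _ h1
  apply (pow_smul_bijective hf n).1
  change f ^ n • p₂ t = f ^ n • 0
  rw [← map_smul, hn, map_zero, smul_zero]

theorem IsGluePullback.lift_injective (h : IsGluePullback lam α p₁ p₂)
    (hRR : EtGlue.IsGlueingPair R R' f) (hf : Function.Bijective fun x : M₁ => f • x) :
    Function.Injective (p₁.liftBaseChange R') := by
  have := h.isLocalizedModule hf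
  rw [injective_iff_map_eq_zero]
  intro x hx
  have h1 : p₂.lTensor R' x = 0 := by rw [← h.α_lam_lift, hx, map_zero, map_zero]
  obtain ⟨t, ht, rfl⟩ := glueingPair_torsion_surj M hRR x
    (lTensor_eq_zero_torsion' (p₂ := p₂) x h1)
  have h2 : p₁ t = 0 := by
    have := hx
    rw [LinearMap.liftBaseChange_tmul, one_smul] at this
    exact this
  rw [h.eq_zero_of_torsion hf t ht h2, TensorProduct.tmul_zero]

theorem IsGluePullback.lift_surjective (h : IsGluePullback lam α p₁ p₂)
    (hq : EtGlue.QuotPowBijective R R' f) (hf : Function.Bijective fun x : M₁ => f • x) :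
    Function.Surjective (p₁.liftBaseChange R') := by
  have := h.isLocalizedModule hf
  intro m'
  have hp : ∀ x : M₁, ∃ (k : ℕ) (m : M), f ^ k • x = p₂ m := by
    intro x
    obtain ⟨⟨m, ⟨_, k, rfl⟩⟩, hm⟩ := IsLocalizedModule.surj (Submonoid.powers f) p₂ x
    exact ⟨k, m, hm⟩
  obtain ⟨z, w, hzw⟩ := exists_decomp hq p₂ hp (α (lam m'))
  rw [← h.α_lam_lift] at hzw
  have hmem : lam (m' - p₁.liftBaseChange R' w) = α.symm ((1 : R') ⊗ₜ[R] z) := by
    apply α.injective
    rw [LinearEquiv.apply_symm_apply, map_sub, map_sub, hzw]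
    abel
  obtain ⟨t, ht1, -⟩ := h.surj _ _ hmem
  refine ⟨w + (1 : R') ⊗ₜ[R] t, ?_⟩
  rw [map_add, LinearMap.liftBaseChange_tmul, one_smul, ht1]
  abel

theorem IsGluePullback.isGlueable (h : IsGluePullback lam α p₁ p₂)
    (hRR : EtGlue.IsGlueingPair R R' f) (hf : Function.Bijective fun x : M₁ => f • x) :
    EtGlue.IsGlueable R R' f M := by
  apply isGlueable_of_glueingPair_of_inj M hRR
  intro m hm h1
  apply h.eq_zero_of_torsion hf m hm
  have := congrArg (p₁.liftBaseChange R') h1
  rw [LinearMap.liftBaseChange_tmul, one_smul, map_zero] at this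
  exact this

end BLAbs

end Groth.Agent.Lib.Helper16
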