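import Mathlib
import Groth.Agent.Lib.Helper16Glue
import Groth.Agent.Lib.Helper16Flat
import Groth.Agent.S2004
import Groth.Agent.S2005
import Groth.Agent.Lib.Helper13BCTor

/-!
# Glueing pairs: base change to a glueable algebra (helper14)

For a glueing pair `(R → R', f)` and a glueable `R`-algebra `A`, the pair
`(A → R' ⊗[R] A, f)` is again a glueing pair.
-/

set_option autoImplicit false
set_option linter.style.haveILetI false
universe u

namespace Groth.Agent.Lib.Helper14GlueRing

open TensorProduct

attribute [local instance] Algebra.TensorProduct.rightAlgebra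

variable {R R' : Type u} [CommRing R] [CommRing R'] [Algebra R R'] {f : R}

theorem smul_tensor_eq_zero_of_torsion {M : Type u} [AddCommGroup M] [Module R M] (r : R)
    (hM : ∀ m : M, r • m = 0) (x : R' ⊗[R] M) : r • x = 0 := by
  induction x using TensorProduct.induction_on with
  | zero => simp
  | tmul r' m => rw [TensorProduct.smul_tmul', TensorProduct.smul_tmul, hM, TensorProduct.tmul_zero]
  | add a b ha hb => rw [smul_add, ha, hb, add_zero]

theorem quotPowBijective_baseChange (hq : EtGlue.QuotPowBijective R R' f) (A : Type u)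
    [CommRing A] [Algebra R A] :
    EtGlue.QuotPowBijective A (R' ⊗[R] A) (algebraMap R A f) := by
  intro n hn
  constructor
  · rw [injective_iff_map_eq_zero]
    intro x hx
    obtain ⟨a, rfl⟩ := Ideal.Quotient.mk_surjective x
    rw [Ideal.quotientMap_mk, Ideal.Quotient.eq_zero_iff_mem, Ideal.map_span, Set.image_singleton,
      Ideal.mem_span_singleton'] at hx
    obtain ⟨y, hy⟩ := hx
    rw [Ideal.Quotient.eq_zero_iff_mem]
    -- the `fⁿ`-torsion module `A / fⁿ A`
    set I : Ideal A := Ideal.span {algebraMap R A f ^ n} with hI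
    have hM : ∀ m : A ⧸ I, ∃ k : ℕ, f ^ k • m = 0 := by
      intro m
      obtain ⟨b, rfl⟩ := Ideal.Quotient.mk_surjective m
      refine ⟨n, ?_⟩
      rw [← Ideal.Quotient.mkₐ_eq_mk R, ← map_smul, Ideal.Quotient.mkₐ_eq_mk,
        Ideal.Quotient.eq_zero_iff_mem, Algebra.smul_def, map_pow]
      exact Ideal.mul_mem_right _ _ (Ideal.subset_span rfl)
    have hM' : ∀ m : A ⧸ I, f ^ n • m = 0 := by
      intro m
      obtain ⟨b, rfl⟩ := Ideal.Quotient.mk_surjective m
      rw [← Ideal.Quotient.mkₐ_eq_mk R, ← map_smul, Ideal.Quotient.mkₐ_eq_mk,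
        Ideal.Quotient.eq_zero_iff_mem, Algebra.smul_def, map_pow]
      exact Ideal.mul_mem_right _ _ (Ideal.subset_span rfl)
    have hinj := Groth.Agent.Lib.Helper16.mk_one_injective_of_torsion hq hM
    have h0 : (1 : R') ⊗ₜ[R] (Ideal.Quotient.mk I a) = 0 := by
      have h1 : (Ideal.Quotient.mkₐ R I).toLinearMap.lTensor R' ((1 : R') ⊗ₜ[R] a) =
          (1 : R') ⊗ₜ[R] (Ideal.Quotient.mk I a) := by simp
      rw [← h1, ← Algebra.TensorProduct.right_algebraMap_apply, ← hy,
        Algebra.TensorProduct.right_algebraMap_apply]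
      have h2 : y * ((1 : R') ⊗ₜ[R] (algebraMap R A f ^ n)) = f ^ n • y := by
        rw [← map_pow, Algebra.algebraMap_eq_smul_one, TensorProduct.tmul_smul,
          ← Algebra.TensorProduct.one_def, mul_smul_comm, mul_one]
      rw [h2, map_smul]
      exact smul_tensor_eq_zero_of_torsion _ hM' _
    have := hinj (h0.trans (map_zero _).symm)
    exact Ideal.Quotient.eq_zero_iff_mem.mp this
  · intro x
    obtain ⟨x', rfl⟩ := Ideal.Quotient.mk_surjective x
    suffices h : ∃ a : A, ∃ y : R' ⊗[R] A, x' = (1 : R') ⊗ₜ[R] a + f ^ n • y by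
      obtain ⟨a, y, rfl⟩ := h
      refine ⟨Ideal.Quotient.mk _ a, ?_⟩
      rw [Ideal.quotientMap_mk, Ideal.Quotient.eq, Ideal.map_span, Set.image_singleton,
        Ideal.mem_span_singleton']
      refine ⟨-y, ?_⟩
      rw [Algebra.TensorProduct.right_algebraMap_apply, Algebra.TensorProduct.right_algebraMap_apply,
        ← map_pow, Algebra.algebraMap_eq_smul_one, TensorProduct.tmul_smul,
          ← Algebra.TensorProduct.one_def, mul_smul_comm, mul_one]
      simp
    induction x' using TensorProduct.induction_on with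
    | zero => exact ⟨0, 0, by simp⟩
    | tmul r' a =>
      obtain ⟨r, s', rfl⟩ := Groth.Agent.Lib.Helper16.quotPow_surj hq hn r'
      refine ⟨r • a, s' ⊗ₜ[R] a, ?_⟩
      rw [TensorProduct.add_tmul, ← map_pow, ← Algebra.smul_def, TensorProduct.smul_tmul',
        Algebra.algebraMap_eq_smul_one, TensorProduct.smul_tmul]
    | add x y hx hy =>
      obtain ⟨a, z, rfl⟩ := hx
      obtain ⟨b, w, rfl⟩ := hy
      refine ⟨a + b, z + w, ?_⟩
      rw [TensorProduct.tmul_add, smul_add]
      abel

theorem isGlueingPair_baseChange (hq : EtGlue.QuotPowBijective R R' f) (A : Type u)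
    [CommRing A] [Algebra R A] (hA : EtGlue.IsGlueable R R' f A) :
    EtGlue.IsGlueingPair A (R' ⊗[R] A) (algebraMap R A f) := by
  have hqA := quotPowBijective_baseChange hq A
  rw [Groth.Agent.S2004.result A (R' ⊗[R] A) (algebraMap R A f) hqA]
  obtain ⟨h1, h2⟩ := ((Groth.Agent.S2005.result R R' f hq A).1).mp hA
  have e1 : ∀ (n : ℕ) (x : A), algebraMap R A f ^ n * x = f ^ n • x := by
    intro n x
    rw [← map_pow, ← Algebra.smul_def]
  have e2 : ∀ (n : ℕ) (x : R' ⊗[R] A),
      algebraMap A (R' ⊗[R] A) (algebraMap R A f) ^ n * x = f ^ n • x := by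
    intro n x
    rw [← map_pow, ← map_pow, ← IsScalarTower.algebraMap_apply, ← Algebra.smul_def]
  constructor
  · rintro x ⟨n, hn⟩ hx
    rw [e1] at hn
    exact h1 x ⟨n, hn⟩ hx
  · rintro x' ⟨n, hn⟩
    rw [e2] at hn
    obtain ⟨m, ⟨k, hk⟩, hm⟩ := h2 x' ⟨n, hn⟩
    exact ⟨m, ⟨k, by rw [e1]; exact hk⟩, hm⟩

section Ring

variable {A B : Type u} [CommRing A] [CommRing B] [Algebra R A] [Algebra R B] [Algebra A B]
  [IsScalarTower R A B]

theorem flat_of_loc_of_tensor (h : EtGlue.IsGlueingPair R R' f) (hA : EtGlue.IsGlueable R R' f A)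
    (h1 : (Localization.awayMap (algebraMap A B) (algebraMap R A f)).Flat)
    (h2 : (Algebra.TensorProduct.map (AlgHom.id R R')
      (IsScalarTower.toAlgHom R A B)).toRingHom.Flat) :
    Module.Flat A B := by
  have hpair := isGlueingPair_baseChange h.1 A hA
  set fA : A := algebraMap R A f with hfA
  letI : Algebra (R' ⊗[R] A) (R' ⊗[R] B) :=
    (Algebra.TensorProduct.map (AlgHom.id R R') (IsScalarTower.toAlgHom R A B)).toRingHom.toAlgebra
  letI : Algebra A (R' ⊗[R] B) := ((algebraMap B (R' ⊗[R] B)).comp (algebraMap A B)).toAlgebra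
  have : IsScalarTower A B (R' ⊗[R] B) := IsScalarTower.of_algebraMap_eq' rfl
  have : IsScalarTower A (R' ⊗[R] A) (R' ⊗[R] B) := IsScalarTower.of_algebraMap_eq' (by
    ext a
    simp [RingHom.algebraMap_toAlgebra])
  have : IsScalarTower R (R' ⊗[R] A) (R' ⊗[R] B) := IsScalarTower.of_algebraMap_eq' (by
    ext r
    simp [RingHom.algebraMap_toAlgebra])
  have : IsScalarTower R' (R' ⊗[R] A) (R' ⊗[R] B) := IsScalarTower.of_algebraMap_eq' (by
    ext r
    simp [RingHom.algebraMap_toAlgebra])
  have hpo : Algebra.IsPushout A B (R' ⊗[R] A) (R' ⊗[R] B) :=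
    (Algebra.IsPushout.comp_iff R A R' (R' ⊗[R] A) (T := B) (T' := R' ⊗[R] B)).mp inferInstance
  have hpo' : Algebra.IsPushout A (R' ⊗[R] A) B (R' ⊗[R] B) := hpo.symm
  haveI : Module.Flat (R' ⊗[R] A) (R' ⊗[R] B) := h2
  haveI : Module.Flat (R' ⊗[R] A) ((R' ⊗[R] A) ⊗[A] B) :=
    Module.Flat.of_linearEquiv (Algebra.IsPushout.equiv A (R' ⊗[R] A) B (R' ⊗[R] B)).toLinearEquiv
  letI : Algebra (Localization.Away fA) (Localization.Away (algebraMap A B fA)) :=
    (Localization.awayMap (algebraMap A B) fA).toAlgebra
  have : IsScalarTower A (Localization.Away fA) (Localization.Away (algebraMap A B fA)) :=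
    IsScalarTower.of_algebraMap_eq'
      (IsLocalization.map_comp (Submonoid.powers fA).le_comap_map).symm
  haveI : Module.Flat (Localization.Away fA) (Localization.Away (algebraMap A B fA)) := h1
  have hloc : IsLocalization (Algebra.algebraMapSubmonoid B (Submonoid.powers fA))
      (Localization.Away (algebraMap A B fA)) := by
    rw [Algebra.algebraMapSubmonoid, Submonoid.map_powers]
    exact Localization.isLocalization
  have hlm : IsLocalizedModule (Submonoid.powers fA)
      (IsScalarTower.toAlgHom A B (Localization.Away (algebraMap A B fA))).toLinearMap :=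
    isLocalizedModule_iff_isLocalization.mpr hloc
  let e := IsLocalizedModule.iso (Submonoid.powers fA)
    (IsScalarTower.toAlgHom A B (Localization.Away (algebraMap A B fA))).toLinearMap
  let e' := e.extendScalarsOfIsLocalization (Submonoid.powers fA) (Localization.Away fA)
  haveI : Module.Flat (Localization.Away fA) (LocalizedModule (Submonoid.powers fA) B) :=
    Module.Flat.of_linearEquiv e'
  exact Groth.Agent.Lib.Helper16.flat_of_glueingPair hpair

end Ring

theorem ker_fg_of_comp {A P B : Type*} [CommRing A] [CommRing P] [CommRing B] (f : A →+* P)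
    (g : P →+* B) (hg : Function.Surjective g) (hf : f.FiniteType)
    (hgf : (g.comp f).FinitePresentation) : (RingHom.ker g).FG := by
  have h := RingHom.FinitePresentation.of_comp_finiteType f hgf hf
  algebraize [g]
  exact Algebra.FinitePresentation.ker_fG_of_surjective (Algebra.ofId P B) hg

theorem exists_finset_pow_mul_mem_span {P : Type*} [CommRing P] (I : Ideal P) (a : P)
    (h : (I.map (algebraMap P (Localization.Away a))).FG) :
    ∃ s : Finset P, ↑s ⊆ (I : Set P) ∧
      ∀ x ∈ I, ∃ n : ℕ, a ^ n * x ∈ Ideal.span (s : Set P) := by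
  classical
  have h' : (Submodule.span (Localization.Away a)
      (algebraMap P (Localization.Away a) '' (I : Set P))).FG := h
  rw [Submodule.fg_span_iff_fg_span_finset_subset] at h'
  obtain ⟨s', hs', hspan⟩ := h'
  obtain ⟨s, hs, rfl⟩ := Finset.subset_set_image_iff.mp hs'
  refine ⟨s, hs, fun x hx => ?_⟩
  have hx' : algebraMap P (Localization.Away a) x ∈
      Ideal.map (algebraMap P (Localization.Away a)) (Ideal.span (s : Set P)) := by
    rw [Ideal.map_span, ← Finset.coe_image]
    change _ ∈ Submodule.span _ _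
    rw [← hspan]
    exact Submodule.subset_span ⟨x, hx, rfl⟩
  rw [IsLocalization.mem_map_algebraMap_iff (Submonoid.powers a)] at hx'
  obtain ⟨⟨⟨i, hi⟩, ⟨_, k, rfl⟩⟩, hik⟩ := hx'
  rw [← map_mul, IsLocalization.eq_iff_exists (Submonoid.powers a)] at hik
  obtain ⟨⟨_, j, rfl⟩, hj⟩ := hik
  refine ⟨j + k, ?_⟩
  have : a ^ (j + k) * x = a ^ j * i := by
    rw [← hj, pow_add]; ring
  rw [this]
  exact Ideal.mul_mem_left _ _ hi

theorem loc_ker_map_fg {A P B : Type u} [CommRing A] [CommRing P] [CommRing B] [Algebra A P]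
    [Algebra A B] (g : P →ₐ[A] B) (hg : Function.Surjective g) [hP : Algebra.FiniteType A P] (a : A)
    (h1 : (Localization.awayMap (algebraMap A B) a).FinitePresentation) :
    ((RingHom.ker g.toRingHom).map
      (algebraMap P (Localization.Away (algebraMap A P a)))).FG := by
  set aP := algebraMap A P a with haP
  set aB := algebraMap A B a with haB
  have hT : Submonoid.map g.toRingHom (Submonoid.powers aP) = Submonoid.powers aB := by
    rw [Submonoid.map_powers]
    congr 1
    exact g.commutes a
  rw [← IsLocalization.ker_map (Localization.Away aB) g.toRingHom hT]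
  set ga : Localization.Away aP →+* Localization.Away aB :=
    IsLocalization.map (Localization.Away aB) g.toRingHom
      (hT.symm ▸ (Submonoid.powers aP).le_comap_map) with hga
  have hsurj : Function.Surjective ga := by
    intro y
    obtain ⟨b, ⟨_, k, rfl⟩, rfl⟩ := IsLocalization.exists_mk'_eq (Submonoid.powers aB) y
    obtain ⟨p, rfl⟩ := hg b
    refine ⟨IsLocalization.mk' _ p (⟨aP ^ k, k, rfl⟩ : Submonoid.powers aP), ?_⟩
    rw [hga, IsLocalization.map_mk']
    congr 1
    ext
    simp [haP, haB]
  refine ker_fg_of_comp (algebraMap A (Localization.Away aP)) ga hsurj ?_ ?_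
  · have : Algebra.FiniteType P (Localization.Away aP) :=
      IsLocalization.finiteType_of_monoid_fg (Submonoid.powers aP) _
    exact RingHom.finiteType_algebraMap.mpr (Algebra.FiniteType.trans hP this)
  · have : ga.comp (algebraMap A (Localization.Away aP)) =
        (Localization.awayMap (algebraMap A B) a).comp (algebraMap A (Localization.Away a)) := by
      ext r
      simp only [RingHom.comp_apply]
      rw [IsScalarTower.algebraMap_apply A P (Localization.Away aP), hga, IsLocalization.map_eq,
        Localization.awayMap, IsLocalization.Away.map, IsLocalization.map_eq]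
      congr 1
      exact g.commutes r
    rw [this]
    exact h1.comp (RingHom.finitePresentation_algebraMap.mpr
      (IsLocalization.Away.finitePresentation a))

section Tensor
variable {R R' : Type u} [CommRing R] [CommRing R'] [Algebra R R'] {f : R}
variable {A P B : Type u} [CommRing A] [CommRing P] [CommRing B] [Algebra R A] [Algebra R P]
  [Algebra R B] [Algebra A P] [Algebra A B] [IsScalarTower R A P] [IsScalarTower R A B]

theorem exists_finset_tensor [Module.Flat A B] (g : P →ₐ[A] B) (hg : Function.Surjective g)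
    [hP : Algebra.FiniteType A P]
    (h2 : (Algebra.TensorProduct.map (AlgHom.id R R')
      (IsScalarTower.toAlgHom R A B)).toRingHom.FinitePresentation) :
    ∃ s₂ : Finset P, ↑s₂ ⊆ (RingHom.ker g.toRingHom : Set P) ∧
      ∀ N : Ideal P, ↑s₂ ⊆ (N : Set P) →
        ∀ hN : N.restrictScalars R ≤ (RingHom.ker g.toRingHom).restrictScalars R,
          Function.Surjective ((Submodule.inclusion hN).lTensor R') := by
  classical
  set J : Ideal P := RingHom.ker g.toRingHom with hJ
  set JR : Submodule R P := J.restrictScalars R with hJR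
  let gR : P →ₐ[R] B := g.restrictScalars R
  let ι : R' ⊗[R] JR →ₗ[R] R' ⊗[R] P := JR.subtype.lTensor R'
  let π : R' ⊗[R] P →ₗ[R] R' ⊗[R] B := gR.toLinearMap.lTensor R'
  have hex0 : Function.Exact JR.subtype gR.toLinearMap := by
    intro x
    constructor
    · intro hx
      exact ⟨⟨x, hx⟩, rfl⟩
    · rintro ⟨y, rfl⟩
      exact y.2
  have hex : Function.Exact ι π := lTensor_exact R' hex0 hg
  have hι : Function.Injective ι := by
    have hexA : Function.Exact (J.subtype.restrictScalars A) g.toLinearMap := by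
      intro x
      constructor
      · intro hx
        exact ⟨⟨x, hx⟩, rfl⟩
      · rintro ⟨y, rfl⟩
        exact y.2
    have h := Groth.Agent.Helper13BCTor.lTensor_injective_of_flat_cokernel (R := R) (Rb := A)
      (J.subtype.restrictScalars A) g.toLinearMap Subtype.val_injective hg hexA R'
    let e : JR ≃ₗ[R] J := (Submodule.restrictScalarsEquiv R P P J).restrictScalars R
    have he : ι = (((J.subtype.restrictScalars A).restrictScalars R).lTensor R') ∘ₗ
        (e.toLinearMap.lTensor R') := by
      rw [← LinearMap.lTensor_comp]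
      rfl
    rw [he]
    exact h.comp (e.lTensor R').injective
  -- the ring map `R' ⊗ P → R' ⊗ B`
  let gT : R' ⊗[R] P →ₐ[R] R' ⊗[R] B := Algebra.TensorProduct.map (AlgHom.id R R') gR
  have hπ : ∀ x, π x = gT x := by
    intro x
    induction x using TensorProduct.induction_on with
    | zero => simp
    | tmul r' p => simp [π, gT]
    | add a b ha hb => rw [map_add, map_add, ha, hb]
  have hsurj : Function.Surjective gT.toRingHom := by
    intro y
    obtain ⟨x, hx⟩ := LinearMap.lTensor_surjective R' (g := gR.toLinearMap) hg y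
    exact ⟨x, (hπ x).symm.trans hx⟩
  have hft : (Algebra.TensorProduct.map (AlgHom.id R R')
      (IsScalarTower.toAlgHom R A P)).toRingHom.FiniteType := by
    refine Groth.Agent.Lib.Helper16.tensorMap_of_isStableUnderBaseChange
      RingHom.finiteType_isStableUnderBaseChange R' (IsScalarTower.toAlgHom R A P) ?_
    exact RingHom.finiteType_algebraMap.mpr hP
  have hcomp : gT.toRingHom.comp (Algebra.TensorProduct.map (AlgHom.id R R')
      (IsScalarTower.toAlgHom R A P)).toRingHom = (Algebra.TensorProduct.map (AlgHom.id R R')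
      (IsScalarTower.toAlgHom R A B)).toRingHom := by
    refine RingHom.ext fun x => ?_
    induction x using TensorProduct.induction_on with
    | zero => simp
    | tmul r' a => simp [gT, gR]
    | add a b ha hb => rw [map_add, map_add, ha, hb]
  have hfg : (RingHom.ker gT.toRingHom).FG :=
    ker_fg_of_comp _ gT.toRingHom hsurj hft (hcomp ▸ h2)
  obtain ⟨T, hT⟩ := hfg
  have hTι : (T : Set (R' ⊗[R] P)) ⊆ ι '' Set.univ := by
    intro t ht
    have h0 : gT t = 0 := by
      have : t ∈ RingHom.ker gT.toRingHom := by rw [← hT]; exact Ideal.subset_span ht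
      exact this
    obtain ⟨y, hy⟩ := (hex t).1 ((hπ t).trans h0)
    exact ⟨y, trivial, hy⟩
  obtain ⟨Y, -, hY⟩ := Finset.subset_set_image_iff.mp hTι
  obtain ⟨J₀, hJ₀fin, hJ₀⟩ := TensorProduct.exists_finite_submodule_right_of_setFinite
    (Y : Set (R' ⊗[R] JR)) Y.finite_toSet
  obtain ⟨s₀, hs₀⟩ := Module.Finite.iff_fg.mp hJ₀fin
  refine ⟨s₀.image Subtype.val, ?_, ?_⟩
  · intro x hx
    rw [Finset.coe_image] at hx
    obtain ⟨y, -, rfl⟩ := hx
    exact y.2
  · intro N hsN hN
    set NR : Submodule R P := N.restrictScalars R with hNR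
    have hJ₀N : J₀ ≤ Submodule.comap JR.subtype NR := by
      rw [← hs₀, Submodule.span_le]
      intro y hy
      exact hsN (by rw [Finset.coe_image]; exact ⟨y, hy, rfl⟩)
    let j₀ : J₀ →ₗ[R] NR := (JR.subtype ∘ₗ J₀.subtype).codRestrict NR (fun z => hJ₀N z.2)
    have hj₀ : NR.subtype ∘ₗ j₀ = JR.subtype ∘ₗ J₀.subtype := by
      ext z; rfl
    have hid : ∀ c : R' ⊗[R] P, Algebra.TensorProduct.map (AlgHom.id R R')
        (IsScalarTower.toAlgHom R P P) c = c := by
      intro c
      have : IsScalarTower.toAlgHom R P P = AlgHom.id R P := by ext; rfl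
      rw [this, Algebra.TensorProduct.map_id]
      rfl
    have hmain : ∀ x ∈ Ideal.span (T : Set (R' ⊗[R] P)),
        x ∈ LinearMap.range (NR.subtype.lTensor R') := by
      intro x hx
      induction hx using Submodule.span_induction with
      | mem t ht =>
        rw [← hY, Finset.coe_image] at ht
        obtain ⟨y, hy, rfl⟩ := ht
        obtain ⟨w, rfl⟩ := hJ₀ hy
        refine ⟨j₀.lTensor R' w, ?_⟩
        rw [← LinearMap.comp_apply, ← LinearMap.lTensor_comp, hj₀, LinearMap.lTensor_comp]
        rfl
      | zero => exact Submodule.zero_mem _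
      | add x y _ _ hx hy => exact Submodule.add_mem _ hx hy
      | smul c x _ hx =>
        have := Groth.Agent.Lib.Helper16.mul_mem_range_lTensor (R := R) (R' := R') (A := P)
          (B := P) N c x hx
        rw [hid] at this
        exact this
    intro y
    have hy : ι y ∈ Ideal.span (T : Set (R' ⊗[R] P)) := by
      rw [hT]
      change gT (ι y) = 0
      rw [← hπ]
      exact hex.apply_apply_eq_zero y
    obtain ⟨z, hz⟩ := hmain _ hy
    refine ⟨z, hι ?_⟩
    rw [← hz]
    change ((JR.subtype.lTensor R') ∘ₗ ((Submodule.inclusion hN).lTensor R')) z = _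
    rw [← LinearMap.lTensor_comp]
    rfl

end Tensor


section FP

variable {R R' : Type u} [CommRing R] [CommRing R'] [Algebra R R'] {f : R}
variable {A B : Type u} [CommRing A] [CommRing B] [Algebra R A] [Algebra R B] [Algebra A B]
  [IsScalarTower R A B]

/-- finite presentation of a flat ring map glues along a pair with `R/fⁿ ≅ R'/fⁿ`. -/
theorem finitePresentation_of_loc_of_tensor (hq : EtGlue.QuotPowBijective R R' f)
    [Module.Flat A B]
    (h1 : (Localization.awayMap (algebraMap A B) (algebraMap R A f)).FinitePresentation)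
    (h2 : (Algebra.TensorProduct.map (AlgHom.id R R')
      (IsScalarTower.toAlgHom R A B)).toRingHom.FinitePresentation) :
    Algebra.FinitePresentation A B := by
  classical
  have hft : Algebra.FiniteType A B := by
    have := Groth.Agent.Lib.Helper16.ringHom_finiteType_of_loc_of_tensor hq
      (IsScalarTower.toAlgHom R A B) (RingHom.FiniteType.of_finitePresentation h1)
      (RingHom.FiniteType.of_finitePresentation h2)
    exact RingHom.finiteType_algebraMap.mp this
  obtain ⟨n, g, hg⟩ := Algebra.FiniteType.iff_quotient_mvPolynomial''.mp hft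
  obtain ⟨s₁, hs₁J, hs₁⟩ := exists_finset_pow_mul_mem_span (RingHom.ker g.toRingHom)
    (algebraMap A _ (algebraMap R A f)) (loc_ker_map_fg g hg (algebraMap R A f) h1)
  obtain ⟨s₂, hs₂J, hs₂⟩ := exists_finset_tensor (R := R) (R' := R') g hg h2
  set N : Ideal (MvPolynomial (Fin n) A) :=
    Ideal.span ((s₁ ∪ s₂ : Finset (MvPolynomial (Fin n) A)) : Set (MvPolynomial (Fin n) A)) with hNdef
  have hNJ : N ≤ RingHom.ker g.toRingHom := by
    rw [hNdef, Ideal.span_le, Finset.coe_union]
    exact Set.union_subset hs₁J hs₂J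
  have hN : N.restrictScalars R ≤ (RingHom.ker g.toRingHom).restrictScalars R := hNJ
  have hs₁N : Ideal.span (s₁ : Set (MvPolynomial (Fin n) A)) ≤ N :=
    Ideal.span_mono (by simp)
  have hs₂N : (s₂ : Set (MvPolynomial (Fin n) A)) ⊆ (N : Set (MvPolynomial (Fin n) A)) :=
    fun x hx => Ideal.subset_span (by simp [hx])
  have hsurj := Groth.Agent.Lib.Helper16.surjective_of_loc_of_tensor hq (Submodule.inclusion hN)
    (fun b => by
      obtain ⟨k, hk⟩ := hs₁ b.1 b.2
      refine ⟨k, ⟨_, hs₁N hk⟩, Subtype.ext ?_⟩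
      change _ = f ^ k • (b : MvPolynomial (Fin n) A)
      rw [Algebra.smul_def, map_pow, IsScalarTower.algebraMap_apply R A (MvPolynomial (Fin n) A)]
      rfl)
    (hs₂ N hs₂N hN)
  have hJN : RingHom.ker g.toRingHom ≤ N := fun x hx => by
    obtain ⟨⟨y, hy⟩, hxy⟩ := hsurj ⟨x, hx⟩
    have : y = x := congrArg Subtype.val hxy
    exact this ▸ hy
  have hJ : (RingHom.ker g.toRingHom).FG := ⟨s₁ ∪ s₂, le_antisymm hNJ hJN⟩
  exact ⟨n, g, hg, hJ⟩

end FP

end Groth.Agent.Lib.Helper14GlueRing
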