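import Mathlib
import Groth.Agent.Lib.Helper14GlueRing

/-!
# Glueing pairs: formally unramified ring maps glue (helper14)
-/

set_option autoImplicit false
set_option linter.style.haveILetI false
universe u

namespace Groth.Agent.Lib.Helper14GlueRing

open TensorProduct KaehlerDifferential

attribute [local instance] Algebra.TensorProduct.rightAlgebra
attribute [local instance] SMulCommClass.of_commMonoid

variable {R R' : Type u} [CommRing R] [CommRing R'] [Algebra R R'] {f : R}
variable {A B : Type u} [CommRing A] [CommRing B] [Algebra R A] [Algebra R B] [Algebra A B]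
  [IsScalarTower R A B]

theorem formallyUnramified_of_loc_of_tensor (hq : EtGlue.QuotPowBijective R R' f)
    (h1 : (Localization.awayMap (algebraMap A B) (algebraMap R A f)).FormallyUnramified)
    (h2 : (Algebra.TensorProduct.map (AlgHom.id R R')
      (IsScalarTower.toAlgHom R A B)).toRingHom.FormallyUnramified) :
    Algebra.FormallyUnramified A B := by
  have hqA := quotPowBijective_baseChange hq A
  set fA : A := algebraMap R A f with hfA
  letI : Algebra (R' ⊗[R] A) (R' ⊗[R] B) :=
    (Algebra.TensorProduct.map (AlgHom.id R R') (IsScalarTower.toAlgHom R A B)).toRingHom.toAlgebra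
  letI : Algebra A (R' ⊗[R] B) := ((algebraMap B (R' ⊗[R] B)).comp (algebraMap A B)).toAlgebra
  have : IsScalarTower A B (R' ⊗[R] B) := IsScalarTower.of_algebraMap_eq' rfl
  have : IsScalarTower A (R' ⊗[R] A) (R' ⊗[R] B) := IsScalarTower.of_algebraMap_eq' (by
    ext a
    simp [RingHom.algebraMap_toAlgebra])
  have : IsScalarTower R (R' ⊗[R] A) (R' ⊗[R] B) := IsScalarTower.of_algebraMap_eq' (by
    ext r
    simp [RingHom.algebraMap_toAlgebra])
  have : IsScalarTower R' (R' ⊗[R] A) (R' ⊗[R] B) := IsScalarTower.of_algebraMap_eq' (by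
    ext r
    simp [RingHom.algebraMap_toAlgebra])
  have hpo : Algebra.IsPushout A B (R' ⊗[R] A) (R' ⊗[R] B) :=
    (Algebra.IsPushout.comp_iff R A R' (R' ⊗[R] A) (T := B) (T' := R' ⊗[R] B)).mp inferInstance
  have hpo' : Algebra.IsPushout A (R' ⊗[R] A) B (R' ⊗[R] B) := hpo.symm
  haveI : Algebra.FormallyUnramified (R' ⊗[R] A) (R' ⊗[R] B) := h2
  haveI : Subsingleton ((R' ⊗[R] A) ⊗[A] Ω[B⁄A]) :=
    (KaehlerDifferential.isBaseChange A (R' ⊗[R] A) B (R' ⊗[R] B)).equiv.toEquiv.subsingleton
  letI : Algebra (Localization.Away fA) (Localization.Away (algebraMap A B fA)) :=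
    (Localization.awayMap (algebraMap A B) fA).toAlgebra
  have : IsScalarTower A (Localization.Away fA) (Localization.Away (algebraMap A B fA)) :=
    IsScalarTower.of_algebraMap_eq'
      (IsLocalization.map_comp (Submonoid.powers fA).le_comap_map).symm
  haveI : Algebra.FormallyUnramified (Localization.Away fA)
      (Localization.Away (algebraMap A B fA)) := h1
  haveI hloc : IsLocalization (Algebra.algebraMapSubmonoid B (Submonoid.powers fA))
      (Localization.Away (algebraMap A B fA)) := by
    rw [Algebra.algebraMapSubmonoid, Submonoid.map_powers]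
    exact Localization.isLocalization
  have hlm : IsLocalizedModule (Submonoid.powers fA)
      ((KaehlerDifferential.map A (Localization.Away fA) B
        (Localization.Away (algebraMap A B fA))).restrictScalars A) :=
    KaehlerDifferential.isLocalizedModule A (Localization.Away fA) B
      (Localization.Away (algebraMap A B fA)) (Submonoid.powers fA)
  have hM : ∀ m : Ω[B⁄A], ∃ n : ℕ, fA ^ n • m = 0 := by
    intro m
    obtain ⟨⟨_, n, rfl⟩, hc⟩ := (IsLocalizedModule.eq_zero_iff (Submonoid.powers fA)
      ((KaehlerDifferential.map A (Localization.Away fA) B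
        (Localization.Away (algebraMap A B fA))).restrictScalars A) (m := m)).mp
      (Subsingleton.elim _ _)
    exact ⟨n, hc⟩
  exact ⟨Groth.Agent.Lib.Helper16.subsingleton_of_torsion_of_tensor hqA hM⟩

end Groth.Agent.Lib.Helper14GlueRing
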