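/-
Helper library (helper14): graded prime avoidance for "graded prime families".
A `GPrime 𝒜` is a family of submodules `H n ≤ 𝒜 n` which is closed under multiplication by
homogeneous elements and satisfies the prime property on homogeneous elements (no decomposition
API needed).  Main result: `GPrime.avoid` — finitely many such families, none of which contains
all homogeneous elements of positive degree, can be avoided simultaneously by one homogeneous
element of positive degree.
-/
import Mathlib

set_option autoImplicit false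
set_option linter.unusedVariables false
set_option linter.unusedSectionVars false
set_option linter.style.haveILetI false
universe u

namespace Groth.Agent.Lib.Helper14.GradedAvoid

variable {A B : Type u} [CommRing A] [CommRing B] [Algebra A B]
  (𝒜 : ℕ → Submodule A B) [GradedAlgebra 𝒜]

/-- a graded prime family -/
structure GPrime where
  H : ℕ → Submodule A B
  le : ∀ n, H n ≤ 𝒜 n
  ideal : ∀ {m n : ℕ} {a β : B}, a ∈ 𝒜 m → β ∈ H n → a * β ∈ H (m + n)
  prime : ∀ {m n : ℕ} {x y : B}, x ∈ 𝒜 m → y ∈ 𝒜 n → x ∉ H m → y ∉ H n → x * y ∉ H (m + n)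

namespace GPrime
variable {𝒜} (P : GPrime 𝒜)

lemma pow_mem {n : ℕ} {β : B} (hβ : β ∈ P.H n) : ∀ e : ℕ, 0 < e → β ^ e ∈ P.H (e * n) := by
  intro e he
  induction e, he using Nat.le_induction with
  | base => simpa using hβ
  | succ e he ih =>
    have h1 : β ^ e ∈ 𝒜 (e * n) := by
      have := SetLike.pow_mem_graded e (P.le n hβ)
      simpa [smul_eq_mul] using this
    have h2 := P.ideal h1 hβ
    have e1 : e * n + n = (e + 1) * n := by ring
    rw [e1] at h2
    rw [pow_succ]
    exact h2

lemma pow_not_mem {n : ℕ} {β : B} (hβ : β ∈ 𝒜 n) (hn : β ∉ P.H n) :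
    ∀ e : ℕ, 0 < e → β ^ e ∉ P.H (e * n) := by
  intro e he
  induction e, he using Nat.le_induction with
  | base => simpa using hn
  | succ e he ih =>
    have h1 : β ^ e ∈ 𝒜 (e * n) := by
      have := SetLike.pow_mem_graded e hβ
      simpa [smul_eq_mul] using this
    have h2 := P.prime h1 hβ ih hn
    have e1 : e * n + n = (e + 1) * n := by ring
    rw [e1] at h2
    rw [pow_succ]
    exact h2

lemma prod_mem_deg {ι : Type*} (t : Finset ι) (x : ι → B) (N : ℕ)
    (hx : ∀ j ∈ t, x j ∈ 𝒜 N) : ∏ j ∈ t, x j ∈ 𝒜 (t.card * N) := by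
  have := SetLike.prod_mem_graded (A := 𝒜) (F := t) (i := fun _ => N) (g := x) hx
  simpa [Finset.sum_const, smul_eq_mul] using this

lemma prod_not_mem {ι : Type*} (t : Finset ι) (ht : t.Nonempty) (x : ι → B) (N : ℕ)
    (hx : ∀ j ∈ t, x j ∈ 𝒜 N) (hn : ∀ j ∈ t, x j ∉ P.H N) :
    ∏ j ∈ t, x j ∉ P.H (t.card * N) := by
  classical
  induction ht using Finset.Nonempty.cons_induction with
  | singleton a => simpa using hn a (Finset.mem_singleton_self a)
  | cons a s ha hs ih =>
    rw [Finset.prod_cons, Finset.card_cons]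
    have h1 := ih (fun j hj => hx j (Finset.mem_cons_of_mem hj))
      (fun j hj => hn j (Finset.mem_cons_of_mem hj))
    have h2 := prod_mem_deg (𝒜 := 𝒜) s x N (fun j hj => hx j (Finset.mem_cons_of_mem hj))
    have h3 := P.prime (hx a (Finset.mem_cons_self a s)) h2 (hn a (Finset.mem_cons_self a s)) h1
    have e1 : N + s.card * N = (s.card + 1) * N := by ring
    rw [e1] at h3
    exact h3

lemma prod_mem {ι : Type*} [DecidableEq ι] (t : Finset ι) (x : ι → B) (N : ℕ)
    (hx : ∀ j ∈ t, x j ∈ 𝒜 N) {j₀ : ι} (hj₀ : j₀ ∈ t) (h0 : x j₀ ∈ P.H N) :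
    ∏ j ∈ t, x j ∈ P.H (t.card * N) := by
  rw [← Finset.mul_prod_erase t x hj₀, mul_comm (x j₀)]
  have h2 := prod_mem_deg (𝒜 := 𝒜) (t.erase j₀) x N
    (fun j hj => hx j (Finset.mem_of_mem_erase hj))
  have h3 := P.ideal h2 h0
  have e1 : (t.erase j₀).card * N + N = t.card * N := by
    rw [Finset.card_erase_of_mem hj₀]
    have : 0 < t.card := Finset.card_pos.mpr ⟨j₀, hj₀⟩
    obtain ⟨k, hk⟩ : ∃ k, t.card = k + 1 := ⟨t.card - 1, by omega⟩
    rw [hk]
    simp
    ring
  rw [e1] at h3
  exact h3

end GPrime

/-- graded prime avoidance -/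
theorem avoid {ι : Type*} [DecidableEq ι] (P : ι → GPrime 𝒜) (s : Finset ι)
    (h : ∀ i ∈ s, ∃ k : ℕ, 0 < k ∧ ∃ b ∈ 𝒜 k, b ∉ (P i).H k) :
    ∃ n : ℕ, 0 < n ∧ ∃ f ∈ 𝒜 n, ∀ i ∈ s, f ∉ (P i).H n := by
  induction s using Finset.strongInduction with
  | H s ih =>
    rcases Nat.lt_or_ge s.card 2 with hc | hc
    · -- card ≤ 1
      rcases Nat.lt_or_ge s.card 1 with hc0 | hc1
      · have : s = ∅ := Finset.card_eq_zero.mp (by omega)
        subst this
        exact ⟨1, one_pos, 0, zero_mem _, by simp⟩
      · have hc1' : s.card = 1 := by omega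
        obtain ⟨i, rfl⟩ := Finset.card_eq_one.mp hc1'
        obtain ⟨k, hk, b, hb, hbn⟩ := h i (Finset.mem_singleton_self i)
        exact ⟨k, hk, b, hb, by simpa using hbn⟩
    · -- card ≥ 2
      have hx : ∀ i ∈ s, ∃ n : ℕ, 0 < n ∧ ∃ f ∈ 𝒜 n, ∀ j ∈ s.erase i, f ∉ (P j).H n := by
        intro i hi
        exact ih (s.erase i) (Finset.erase_ssubset hi)
          (fun j hj => h j (Finset.mem_of_mem_erase hj))
      by_cases hex : ∃ i ∈ s, ∃ n : ℕ, 0 < n ∧ ∃ f ∈ 𝒜 n, (∀ j ∈ s.erase i, f ∉ (P j).H n) ∧
          f ∉ (P i).H n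
      · obtain ⟨i, hi, n, hn, f, hf, hfj, hfi⟩ := hex
        refine ⟨n, hn, f, hf, fun j hj => ?_⟩
        by_cases hji : j = i
        · subst hji; exact hfi
        · exact hfj j (Finset.mem_erase.mpr ⟨hji, hj⟩)
      · push Not at hex
        -- choose data
        have hx' : ∀ i : s, ∃ n : ℕ, 0 < n ∧ ∃ f ∈ 𝒜 n, (∀ j ∈ s.erase i.1, f ∉ (P j).H n) ∧
            f ∈ (P i.1).H n := by
          intro i
          obtain ⟨n, hn, f, hf, hfj⟩ := hx i.1 i.2
          exact ⟨n, hn, f, hf, hfj, hex i.1 i.2 n hn f hf hfj⟩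
        choose nn hnn ff hff hffj hffi using hx'
        -- extend to functions on ι
        let n' : ι → ℕ := fun i => if hi : i ∈ s then nn ⟨i, hi⟩ else 1
        let f' : ι → B := fun i => if hi : i ∈ s then ff ⟨i, hi⟩ else 0
        have hn'pos : ∀ i, 0 < n' i := by
          intro i
          by_cases hi : i ∈ s
          · simp only [n', dif_pos hi]; exact hnn _
          · simp only [n', dif_neg hi]; exact one_pos
        set N : ℕ := ∏ l ∈ s, n' l with hN
        have hNpos : 0 < N := Finset.prod_pos (fun l _ => hn'pos l)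
        let e : ι → ℕ := fun i => ∏ l ∈ s.erase i, n' l
        have hepos : ∀ i, 0 < e i := fun i => Finset.prod_pos (fun l _ => hn'pos l)
        have heN : ∀ i ∈ s, e i * n' i = N := by
          intro i hi
          rw [mul_comm]
          exact Finset.mul_prod_erase s n' hi
        let x : ι → B := fun i => f' i ^ e i
        have hf'deg : ∀ i ∈ s, f' i ∈ 𝒜 (n' i) := by
          intro i hi
          simp only [f', n', dif_pos hi]
          exact hff _
        have hxdeg : ∀ i ∈ s, x i ∈ 𝒜 N := by
          intro i hi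
          have := SetLike.pow_mem_graded (e i) (hf'deg i hi)
          rw [smul_eq_mul, heN i hi] at this
          exact this
        have hxmem : ∀ i ∈ s, x i ∈ (P i).H N := by
          intro i hi
          have h1 : f' i ∈ (P i).H (n' i) := by
            simp only [f', n', dif_pos hi]
            exact hffi ⟨i, hi⟩
          have := (P i).pow_mem h1 (e i) (hepos i)
          rw [heN i hi] at this
          exact this
        have hxnot : ∀ i ∈ s, ∀ j ∈ s, j ≠ i → x i ∉ (P j).H N := by
          intro i hi j hj hji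
          have h1 : f' i ∉ (P j).H (n' i) := by
            simp only [f', n', dif_pos hi]
            exact hffj ⟨i, hi⟩ j (Finset.mem_erase.mpr ⟨hji, hj⟩)
          have := (P j).pow_not_mem (hf'deg i hi) h1 (e i) (hepos i)
          rw [heN i hi] at this
          exact this
        -- the element
        set M : ℕ := (s.card - 1) * N with hM
        have hMpos : 0 < M := Nat.mul_pos (by omega) hNpos
        let term : ι → B := fun i => ∏ j ∈ s.erase i, x j
        have hcard : ∀ i ∈ s, (s.erase i).card = s.card - 1 := fun i hi =>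
          Finset.card_erase_of_mem hi
        have htermdeg : ∀ i ∈ s, term i ∈ 𝒜 M := by
          intro i hi
          have := GPrime.prod_mem_deg (𝒜 := 𝒜) (s.erase i) x N
            (fun j hj => hxdeg j (Finset.mem_of_mem_erase hj))
          rw [hcard i hi] at this
          exact this
        refine ⟨M, hMpos, ∑ i ∈ s, term i, Submodule.sum_mem _ htermdeg, ?_⟩
        intro i₀ hi₀ hmem
        rw [← Finset.add_sum_erase s term hi₀] at hmem
        have hrest : ∑ i ∈ s.erase i₀, term i ∈ (P i₀).H M := by
          refine Submodule.sum_mem _ (fun i hi => ?_)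
          have hi' : i ∈ s := Finset.mem_of_mem_erase hi
          have hne : i ≠ i₀ := Finset.ne_of_mem_erase hi
          have := (P i₀).prod_mem (s.erase i) x N
            (fun j hj => hxdeg j (Finset.mem_of_mem_erase hj))
            (Finset.mem_erase.mpr ⟨hne.symm, hi₀⟩) (hxmem i₀ hi₀)
          rw [hcard i hi'] at this
          exact this
        have hterm0 : term i₀ ∈ (P i₀).H M := by
          have := Submodule.sub_mem _ hmem hrest
          simpa using this
        have hne : (s.erase i₀).Nonempty := by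
          rw [← Finset.card_pos, hcard i₀ hi₀]; omega
        have := (P i₀).prod_not_mem (s.erase i₀) hne x N
          (fun j hj => hxdeg j (Finset.mem_of_mem_erase hj))
          (fun j hj => hxnot j (Finset.mem_of_mem_erase hj) i₀ hi₀
            (Finset.ne_of_mem_erase hj).symm)
        rw [hcard i₀ hi₀] at this
        exact this hterm0

end Groth.Agent.Lib.Helper14.GradedAvoid
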