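import Mathlib.RingTheory.GradedAlgebra.Noetherian
import Mathlib.RingTheory.GradedAlgebra.FiniteType
import Mathlib.RingTheory.GradedAlgebra.Homogeneous.Ideal
import Mathlib.RingTheory.Noetherian.Basic

/-! Helper14: a Noetherian `ℕ`-graded ring is of finite type over its degree-zero part. -/

namespace Groth.Agent.Lib.Helper14

open DirectSum

theorem finiteType_of_isNoetherianRing_graded {R A : Type*} [CommRing R] [CommRing A] [Algebra R A]
    (𝒜 : ℕ → Submodule R A) [GradedAlgebra 𝒜] [IsNoetherianRing A] :
    Algebra.FiniteType (𝒜 0) A := by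
  classical
  set I := (HomogeneousIdeal.irrelevant 𝒜).toIdeal with hI
  have hhom : I.IsHomogeneous 𝒜 := (HomogeneousIdeal.irrelevant 𝒜).isHomogeneous
  obtain ⟨S, hS⟩ := (Ideal.IsHomogeneous.iff_exists 𝒜 I).mp hhom
  have hfg : I.FG := IsNoetherian.noetherian I
  have hfg' : (Submodule.span A ((↑) '' S : Set A)).FG := by
    have : Ideal.span ((↑) '' S : Set A) = I := hS.symm
    rw [← this] at hfg
    exact hfg
  obtain ⟨T, hTsub, hT⟩ := (Submodule.fg_span_iff_fg_span_finset_subset _).mp hfg'
  have hIT : I = Submodule.span A (T : Set A) := by rw [hS]; exact hT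
  have hTI : ∀ t ∈ T, t ∈ I := fun t ht => by rw [hIT]; exact Submodule.subset_span ht
  have hThom : ∀ t ∈ T, SetLike.IsHomogeneousElem 𝒜 t := by
    intro t ht
    obtain ⟨s, -, rfl⟩ := hTsub ht
    exact s.2
  refine ⟨⟨T, ?_⟩⟩
  set B := Algebra.adjoin (𝒜 0) (T : Set A) with hB
  have key : ∀ d, ∀ a ∈ 𝒜 d, a ∈ B := by
    intro d
    induction d using Nat.strong_induction_on with
    | _ d ih =>
      intro a ha
      rcases Nat.eq_zero_or_pos d with rfl | hd
      · exact Subalgebra.algebraMap_mem B (⟨a, ha⟩ : 𝒜 0)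
      · have haI : a ∈ I := by
          show a ∈ HomogeneousIdeal.irrelevant 𝒜
          rw [HomogeneousIdeal.mem_irrelevant_iff, GradedRing.proj_apply]
          exact decompose_of_mem_ne 𝒜 ha hd.ne'
        rw [hIT, Submodule.mem_span_finset] at haI
        obtain ⟨c, -, hc⟩ := haI
        have e : a = ∑ t ∈ T, (decompose 𝒜 (c t * t) d : A) := by
          conv_lhs => rw [← decompose_of_mem_same 𝒜 ha, ← hc]
          rw [decompose_sum, DFinsupp.finset_sum_apply, AddSubmonoidClass.coe_finset_sum]
          rfl
        rw [e]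
        refine Subalgebra.sum_mem _ fun t ht => ?_
        obtain ⟨i, hi⟩ := hThom t ht
        by_cases hle : i ≤ d
        · rw [coe_decompose_mul_of_right_mem_of_le 𝒜 hi hle]
          rcases Nat.eq_zero_or_pos i with rfl | hipos
          · have ht0 : t = 0 := by
              have h1 : t ∈ HomogeneousIdeal.irrelevant 𝒜 := hTI t ht
              rw [HomogeneousIdeal.mem_irrelevant_iff, GradedRing.proj_apply,
                decompose_of_mem_same 𝒜 hi] at h1
              exact h1
            rw [ht0, mul_zero]
            exact zero_mem _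
          · exact B.mul_mem (ih (d - i) (by omega) _ (SetLike.coe_mem _))
              (Algebra.subset_adjoin ht)
        · rw [coe_decompose_mul_of_right_mem_of_not_le 𝒜 hi hle]
          exact zero_mem _
  rw [eq_top_iff]
  intro a _
  rw [← sum_support_decompose 𝒜 a]
  exact Subalgebra.sum_mem _ fun n _ => key n _ (SetLike.coe_mem _)

end Groth.Agent.Lib.Helper14
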