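import Mathlib

/-!
# Graded module maps `I^{nc}N → N[T]` (S8833)

Artin–Rees bound on power torsion, coefficient bounds for the graded map `Φ`, and the construction
of the unique `B`-linear maps `Ψ_n`.
-/

set_option autoImplicit false
set_option linter.unusedVariables false
set_option linter.unusedSectionVars false
set_option linter.style.haveILetI false

universe u

namespace Groth.Agent.Lib.Helper14.GradedPsi

open scoped BigOperators TensorProduct

section ArtinRees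
variable {B : Type u} [CommRing B] [IsNoetherianRing B] (J : Ideal B)
  (N : Type u) [AddCommGroup N] [Module B N] [Module.Finite B N]

/-- Artin–Rees: deep enough in the `J`-adic filtration there is no `J`-power torsion. -/
theorem exists_pow_torsion_eq_zero :
    ∃ K : ℕ, ∀ m ≥ K, ∀ y ∈ (J ^ m • ⊤ : Submodule B N),
      (∃ t : ℕ, ∀ b ∈ J ^ t, b • y = 0) → y = 0 := by
  haveI : IsNoetherian B N := isNoetherian_of_isNoetherianRing_of_finite B N
  -- the chain of torsion submodules stabilizes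
  let T : ℕ →o Submodule B N :=
    { toFun := fun t => Submodule.torsionBySet B N (J ^ t : Ideal B)
      monotone' := by
        intro s t hst y hy
        rw [Submodule.mem_torsionBySet_iff] at hy ⊢
        intro a
        exact hy ⟨a.1, Ideal.pow_le_pow_right hst a.2⟩ }
  obtain ⟨m₀, hm₀⟩ := monotone_stabilizes_iff_noetherian.mpr ‹IsNoetherian B N› T
  obtain ⟨k, hk⟩ := Ideal.exists_pow_inf_eq_pow_smul J (T m₀)
  refine ⟨k + m₀, fun m hm y hy ⟨t, ht⟩ => ?_⟩
  have hyT : y ∈ T m₀ := by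
    have h1 : y ∈ T (max t m₀) := by
      change y ∈ Submodule.torsionBySet B N (J ^ (max t m₀) : Ideal B)
      rw [Submodule.mem_torsionBySet_iff]
      intro a
      exact ht a.1 (Ideal.pow_le_pow_right (le_max_left t m₀) a.2)
    rw [← hm₀ (max t m₀) (le_max_right t m₀)] at h1
    exact h1
  have h2 : y ∈ (J ^ m • ⊤ ⊓ T m₀ : Submodule B N) := ⟨hy, hyT⟩
  rw [hk m (by omega)] at h2
  have h3 : J ^ (m - k) • (J ^ k • ⊤ ⊓ T m₀ : Submodule B N) ≤ J ^ m₀ • T m₀ :=
    Submodule.smul_mono (Ideal.pow_le_pow_right (by omega)) inf_le_right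
  have h4 : J ^ m₀ • T m₀ = ⊥ := by
    rw [eq_bot_iff, Submodule.smul_le]
    intro b hb z hz
    change z ∈ Submodule.torsionBySet B N (J ^ m₀ : Ideal B) at hz
    rw [Submodule.mem_torsionBySet_iff] at hz
    rw [Submodule.mem_bot]
    exact hz ⟨b, hb⟩
  have h5 := h3 h2
  rw [h4, Submodule.mem_bot] at h5
  exact h5

end ArtinRees

section Phi
variable {A : Type u} [CommRing A] {r : ℕ} (f : Fin r → A) (I : Ideal A) (c c' : ℕ) (hcc' : c ≤ c')
  (φ : Fin r → (↥(I ^ c) →ₗ[A] A))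

include hcc' in
theorem phi_mem (j : Fin r) (g : A) (hg : g ∈ I ^ c') :
    φ j ⟨g, Ideal.pow_le_pow_right hcc' hg⟩ ∈ I ^ (c' - c) := by
  have hg' : g ∈ I ^ (c' - c) * I ^ c := by
    rwa [← pow_add, Nat.sub_add_cancel hcc']
  have key : ∀ (g : A) (hg' : g ∈ I ^ (c' - c) * I ^ c) (hg : g ∈ I ^ c),
      φ j ⟨g, hg⟩ ∈ I ^ (c' - c) := by
    intro g hg'
    refine Submodule.mul_induction_on'
      (C := fun g _ => ∀ hg : g ∈ I ^ c, φ j ⟨g, hg⟩ ∈ I ^ (c' - c)) ?_ ?_ hg'
    · intro a ha u hu hg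
      have : (⟨a * u, hg⟩ : ↥(I ^ c)) = a • ⟨u, hu⟩ := Subtype.ext (by simp [smul_eq_mul])
      rw [this, map_smul, smul_eq_mul]
      exact Ideal.mul_mem_right _ _ ha
    · intro x hx y hy ihx ihy hg
      have hx' : x ∈ I ^ c := Ideal.mul_le_right hx
      have hy' : y ∈ I ^ c := Ideal.mul_le_right hy
      have : (⟨x + y, hg⟩ : ↥(I ^ c)) = ⟨x, hx'⟩ + ⟨y, hy'⟩ := Subtype.ext rfl
      rw [this, map_add]
      exact Ideal.add_mem _ (ihx hx') (ihy hy')
  exact key g hg' _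

variable (Φ : ℕ → A → MvPolynomial (Fin r) A)
  (hadd : ∀ n : ℕ, ∀ g ∈ I ^ (n * c'), ∀ h ∈ I ^ (n * c'), Φ n (g + h) = Φ n g + Φ n h)
  (hsmul : ∀ (n : ℕ) (a : A), ∀ g ∈ I ^ (n * c'), Φ n (a * g) = a • Φ n g)
  (hmul : ∀ n m : ℕ, ∀ g ∈ I ^ (n * c'), ∀ h ∈ I ^ (m * c'),
    Φ (n + m) (g * h) = Φ n g * Φ m h)
  (h0 : ∀ a : A, Φ 0 a = MvPolynomial.C a)
  (h1 : ∀ (g : A) (hg : g ∈ I ^ c'), Φ 1 g =
    ∑ j, MvPolynomial.C (φ j ⟨g, Ideal.pow_le_pow_right hcc' hg⟩) * MvPolynomial.X j)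

include hadd hmul h0 h1 in
theorem Phi_mem (n : ℕ) (g : A) (hg : g ∈ I ^ (n * c')) :
    Φ n g ∈ (Ideal.map MvPolynomial.C (I ^ (c' - c)) : Ideal (MvPolynomial (Fin r) A)) ^ n := by
  induction n generalizing g with
  | zero => simp
  | succ n ih =>
    have hg' : g ∈ I ^ (n * c') * I ^ c' := by rwa [← pow_add, ← Nat.succ_mul]
    refine Submodule.mul_induction_on'
      (C := fun g _ => Φ (n + 1) g ∈
        (Ideal.map MvPolynomial.C (I ^ (c' - c)) : Ideal (MvPolynomial (Fin r) A)) ^ (n + 1))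
      ?_ ?_ hg'
    · intro u hu v hv
      rw [hmul n 1 u hu v (by rwa [one_mul]), pow_succ]
      refine Ideal.mul_mem_mul (ih u hu) ?_
      rw [h1 v hv]
      exact Ideal.sum_mem _ fun j _ => Ideal.mul_mem_right _ _
        (Ideal.mem_map_of_mem _ (phi_mem I c c' hcc' φ j v hv))
    · intro x hx y hy ihx ihy
      have hx' : x ∈ I ^ ((n + 1) * c') := by rwa [Nat.succ_mul, pow_add]
      have hy' : y ∈ I ^ ((n + 1) * c') := by rwa [Nat.succ_mul, pow_add]
      rw [hadd (n + 1) x hx' y hy']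
      exact Ideal.add_mem _ ihx ihy

include hadd hmul h0 h1 in
theorem coeff_Phi_mem (n : ℕ) (g : A) (hg : g ∈ I ^ (n * c')) (e : Fin r →₀ ℕ) :
    (Φ n g).coeff e ∈ I ^ (n * (c' - c)) := by
  have h := Phi_mem I c c' hcc' φ Φ hadd hmul h0 h1 n g hg
  rw [← Ideal.map_pow, MvPolynomial.mem_map_C_iff] at h
  have h2 := h e
  rwa [← pow_mul, mul_comm] at h2

include hadd hmul h0 h1 in
theorem aeval_Phi (hφ : ∀ x : ↥(I ^ c), (x : A) = ∑ j, f j * φ j x)
    (n : ℕ) (g : A) (hg : g ∈ I ^ (n * c')) :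
    MvPolynomial.aeval f (Φ n g) = g := by
  induction n generalizing g with
  | zero => simp [h0]
  | succ n ih =>
    have hg' : g ∈ I ^ (n * c') * I ^ c' := by rwa [← pow_add, ← Nat.succ_mul]
    refine Submodule.mul_induction_on'
      (C := fun g _ => MvPolynomial.aeval f (Φ (n + 1) g) = g) ?_ ?_ hg'
    · intro u hu v hv
      rw [hmul n 1 u hu v (by rwa [one_mul]), map_mul, ih u hu, h1 v hv]
      congr 1
      rw [map_sum]
      have this : v = ∑ j, f j * φ j ⟨v, Ideal.pow_le_pow_right hcc' hv⟩ :=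
        hφ ⟨v, Ideal.pow_le_pow_right hcc' hv⟩
      simp only [map_mul, MvPolynomial.aeval_C, MvPolynomial.aeval_X, Algebra.algebraMap_self,
        RingHom.id_apply]
      exact (Finset.sum_congr rfl fun j _ => mul_comm _ _).trans this.symm
    · intro x hx y hy ihx ihy
      have hx' : x ∈ I ^ ((n + 1) * c') := by rwa [Nat.succ_mul, pow_add]
      have hy' : y ∈ I ^ ((n + 1) * c') := by rwa [Nat.succ_mul, pow_add]
      rw [hadd (n + 1) x hx' y hy', map_add, ihx, ihy]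

include hsmul in
theorem Phi_symm (n : ℕ) (g : A) (hg : g ∈ I ^ (n * c')) (h : A) (hh : h ∈ I ^ (n * c')) :
    h • Φ n g = g • Φ n h := by
  rw [← hsmul n h g hg, ← hsmul n g h hh, mul_comm]

end Phi

section Psi
variable {A : Type u} [CommRing A] {r : ℕ} (f : Fin r → A) (I : Ideal A)
  (B : Type u) [CommRing B] [Algebra A B] (N : Type u) [AddCommGroup N] [Module B N]

/-- coefficient functional on `B[T] ⊗ N` -/
noncomputable def kap (e : Fin r →₀ ℕ) : (MvPolynomial (Fin r) B ⊗[B] N) →ₗ[B] N :=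
  (Finsupp.lapply e).comp
    (TensorProduct.equivFinsuppOfBasisLeft (MvPolynomial.basisMonomials (Fin r) B)).toLinearMap

theorem kap_tmul (e : Fin r →₀ ℕ) (p : MvPolynomial (Fin r) B) (x : N) :
    kap B N e (p ⊗ₜ[B] x) = p.coeff e • x := by
  change (TensorProduct.equivFinsuppOfBasisLeft (MvPolynomial.basisMonomials (Fin r) B)
    (p ⊗ₜ[B] x)) e = _
  rw [TensorProduct.equivFinsuppOfBasisLeft_apply_tmul_apply]
  rfl

theorem eq_zero_of_kap (z : MvPolynomial (Fin r) B ⊗[B] N) (h : ∀ e, kap B N e z = 0) : z = 0 := by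
  apply (TensorProduct.equivFinsuppOfBasisLeft
    (MvPolynomial.basisMonomials (Fin r) B) (N := N)).injective
  rw [map_zero]
  ext e
  exact h e

variable (𝔟 : Ideal A) (P : A → MvPolynomial (Fin r) A)

/-- the presentation `(b, g, x) ↦ b • g • x` -/
noncomputable def pim : ((↥𝔟 × N) →₀ B) →ₗ[B] N :=
  Finsupp.linearCombination B (fun p : ↥𝔟 × N => algebraMap A B (p.1 : A) • p.2)

/-- the candidate map on the presentation -/
noncomputable def rhom : ((↥𝔟 × N) →₀ B) →ₗ[B] (MvPolynomial (Fin r) B ⊗[B] N) :=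
  Finsupp.linearCombination B
    (fun p : ↥𝔟 × N => (MvPolynomial.map (algebraMap A B) (P (p.1 : A))) ⊗ₜ[B] p.2)

theorem pim_single (p : ↥𝔟 × N) (b : B) :
    pim B N 𝔟 (Finsupp.single p b) = b • (algebraMap A B (p.1 : A) • p.2) := by
  simp [pim, Finsupp.linearCombination_single]

theorem rhom_single (p : ↥𝔟 × N) (b : B) :
    rhom B N 𝔟 P (Finsupp.single p b) =
      b • ((MvPolynomial.map (algebraMap A B) (P (p.1 : A))) ⊗ₜ[B] p.2) := by
  simp [rhom, Finsupp.linearCombination_single]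

/-- degree zero: the kernel condition is automatic -/
theorem rhom_eq_zero_of_C (hP : ∀ g ∈ 𝔟, P g = MvPolynomial.C g)
    (v : (↥𝔟 × N) →₀ B) (hv : pim B N 𝔟 v = 0) : rhom B N 𝔟 P v = 0 := by
  have h : rhom B N 𝔟 P =
      (TensorProduct.mk B (MvPolynomial (Fin r) B) N 1).comp (pim B N 𝔟) := by
    apply Finsupp.lhom_ext
    intro p b
    rw [LinearMap.comp_apply, pim_single, rhom_single, hP _ p.1.2, MvPolynomial.map_C,
      TensorProduct.mk_apply, ← MvPolynomial.algebraMap_eq, Algebra.algebraMap_eq_smul_one,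
      TensorProduct.smul_tmul, TensorProduct.tmul_smul]
    simp only [TensorProduct.tmul_smul]
  rw [h, LinearMap.comp_apply, hv, map_zero]

/-- positive degree: the kernel condition from the torsion bound -/
theorem rhom_eq_zero (M t₀ : ℕ) (h𝔟 : 𝔟 = I ^ t₀)
    (hsym : ∀ g ∈ 𝔟, ∀ h ∈ 𝔟, h • P g = g • P h)
    (hcoef : ∀ g ∈ 𝔟, ∀ e, (P g).coeff e ∈ I ^ M)
    (htors : ∀ y ∈ ((I.map (algebraMap A B)) ^ M • ⊤ : Submodule B N),
      (∃ t : ℕ, ∀ b ∈ (I.map (algebraMap A B)) ^ t, b • y = 0) → y = 0)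
    (v : (↥𝔟 × N) →₀ B) (hv : pim B N 𝔟 v = 0) : rhom B N 𝔟 P v = 0 := by
  apply eq_zero_of_kap
  intro e
  have h1 : (kap B N e).comp (rhom B N 𝔟 P) = Finsupp.linearCombination B
      (fun p : ↥𝔟 × N => algebraMap A B ((P (p.1 : A)).coeff e) • p.2) := by
    apply Finsupp.lhom_ext
    intro p b
    rw [LinearMap.comp_apply, rhom_single, map_smul, kap_tmul, MvPolynomial.coeff_map,
      Finsupp.linearCombination_single]
  have h1' : kap B N e (rhom B N 𝔟 P v) = Finsupp.linearCombination B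
      (fun p : ↥𝔟 × N => algebraMap A B ((P (p.1 : A)).coeff e) • p.2) v := by
    rw [← h1, LinearMap.comp_apply]
  rw [h1']
  have hmem : ∀ w : (↥𝔟 × N) →₀ B, Finsupp.linearCombination B
      (fun p : ↥𝔟 × N => algebraMap A B ((P (p.1 : A)).coeff e) • p.2) w ∈
      ((I.map (algebraMap A B)) ^ M • ⊤ : Submodule B N) := by
    intro w
    induction w using Finsupp.induction_linear with
    | zero => rw [map_zero]; exact Submodule.zero_mem _
    | add v w hv' hw' => rw [map_add]; exact Submodule.add_mem _ hv' hw'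
    | single p b =>
      rw [Finsupp.linearCombination_single]
      refine Submodule.smul_mem _ _ (Submodule.smul_mem_smul ?_ Submodule.mem_top)
      rw [← Ideal.map_pow]
      exact Ideal.mem_map_of_mem _ (hcoef _ p.1.2 e)
  apply htors
  · exact hmem v
  · -- torsion
    refine ⟨t₀, ?_⟩
    have hb : ∀ h ∈ 𝔟, algebraMap A B h • Finsupp.linearCombination B
        (fun p : ↥𝔟 × N => algebraMap A B ((P (p.1 : A)).coeff e) • p.2) v = 0 := by
      intro h hh
      have h2 : algebraMap A B h • Finsupp.linearCombination B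
          (fun p : ↥𝔟 × N => algebraMap A B ((P (p.1 : A)).coeff e) • p.2) =
          algebraMap A B ((P h).coeff e) • pim B N 𝔟 := by
        apply Finsupp.lhom_ext
        intro p b
        rw [LinearMap.smul_apply, LinearMap.smul_apply, Finsupp.linearCombination_single,
          pim_single]
        have h3 := congrArg (MvPolynomial.coeff e) (hsym _ p.1.2 h hh)
        rw [MvPolynomial.coeff_smul, MvPolynomial.coeff_smul, smul_eq_mul, smul_eq_mul] at h3
        have h4 := congrArg (algebraMap A B) h3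
        rw [map_mul, map_mul] at h4
        rw [smul_smul, smul_smul, smul_smul, smul_smul]
        congr 1
        linear_combination b * h4
      rw [← LinearMap.smul_apply, h2, LinearMap.smul_apply, hv, smul_zero]
    intro b hb'
    rw [← Ideal.map_pow, ← h𝔟] at hb'
    refine Submodule.span_induction ?_ ?_ ?_ ?_ hb'
    · rintro _ ⟨h, hh, rfl⟩
      exact hb h hh
    · exact zero_smul _ _
    · intro x y _ _ hx hy
      rw [add_smul, hx, hy, add_zero]
    · intro a x _ hx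
      rw [smul_eq_mul, mul_smul, hx, smul_zero]

end Psi

section Construct
variable {A : Type u} [CommRing A] {r : ℕ} (f : Fin r → A)
  (B : Type u) [CommRing B] [Algebra A B] (N : Type u) [AddCommGroup N] [Module B N]
  (𝔟 : Ideal A) (P : A → MvPolynomial (Fin r) A)

theorem exists_Psi (hker : ∀ v, pim B N 𝔟 v = 0 → rhom B N 𝔟 P v = 0)
    (heval : ∀ g ∈ 𝔟, MvPolynomial.aeval f (P g) = g) :
    ∃ Ψ : ↥(Submodule.span B {y : N | ∃ g ∈ 𝔟, ∃ x : N, y = algebraMap A B g • x}) →ₗ[B]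
        (MvPolynomial (Fin r) B ⊗[B] N),
      (∀ (g : A) (hg : g ∈ 𝔟) (x : N),
        Ψ ⟨algebraMap A B g • x, Submodule.subset_span ⟨g, hg, x, rfl⟩⟩ =
          MvPolynomial.map (algebraMap A B) (P g) ⊗ₜ[B] x) ∧
      (∀ y : ↥(Submodule.span B {y : N | ∃ g ∈ 𝔟, ∃ x : N, y = algebraMap A B g • x}),
        TensorProduct.lift ((LinearMap.lsmul B N).comp
          (MvPolynomial.aeval (fun j ↦ algebraMap A B (f j))).toLinearMap) (Ψ y) = (y : N)) ∧
      (∀ Ψ' : ↥(Submodule.span B {y : N | ∃ g ∈ 𝔟, ∃ x : N, y = algebraMap A B g • x}) →ₗ[B]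
          (MvPolynomial (Fin r) B ⊗[B] N),
        (∀ (g : A) (hg : g ∈ 𝔟) (x : N),
          Ψ' ⟨algebraMap A B g • x, Submodule.subset_span ⟨g, hg, x, rfl⟩⟩ =
            MvPolynomial.map (algebraMap A B) (P g) ⊗ₜ[B] x) → Ψ' = Ψ) := by
  set W : Submodule B N :=
    Submodule.span B {y : N | ∃ g ∈ 𝔟, ∃ x : N, y = algebraMap A B g • x} with hW
  have hrange : ∀ v, pim B N 𝔟 v ∈ W := by
    intro v
    induction v using Finsupp.induction_linear with
    | zero => rw [map_zero]; exact Submodule.zero_mem _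
    | add v w hv hw => rw [map_add]; exact Submodule.add_mem _ hv hw
    | single p b =>
      rw [pim_single]
      exact Submodule.smul_mem _ _ (Submodule.subset_span ⟨p.1, p.1.2, p.2, rfl⟩)
  let q : ((↥𝔟 × N) →₀ B) →ₗ[B] W := LinearMap.codRestrict W (pim B N 𝔟) hrange
  have hq : ∀ v, ((q v : W) : N) = pim B N 𝔟 v := fun v => rfl
  have hgen : ∀ (g : A) (hg : g ∈ 𝔟) (x : N),
      q (Finsupp.single (⟨g, hg⟩, x) 1) =
        ⟨algebraMap A B g • x, Submodule.subset_span ⟨g, hg, x, rfl⟩⟩ := by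
    intro g hg x
    apply Subtype.ext
    rw [hq, pim_single, one_smul]
  have hsurj : Function.Surjective q := by
    have hle : W ≤ LinearMap.range (pim B N 𝔟) := by
      rw [hW, Submodule.span_le]
      rintro _ ⟨g, hg, x, rfl⟩
      exact ⟨Finsupp.single (⟨g, hg⟩, x) 1, by rw [pim_single, one_smul]⟩
    rintro ⟨y, hy⟩
    obtain ⟨v, hv⟩ := hle hy
    exact ⟨v, Subtype.ext hv⟩
  have hkerq : LinearMap.ker q ≤ LinearMap.ker (rhom B N 𝔟 P) := by
    intro v hv
    rw [LinearMap.mem_ker] at hv ⊢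
    apply hker
    rw [← hq, hv]
    rfl
  let e := q.quotKerEquivOfSurjective hsurj
  let Ψ : W →ₗ[B] (MvPolynomial (Fin r) B ⊗[B] N) :=
    ((LinearMap.ker q).liftQ (rhom B N 𝔟 P) hkerq).comp e.symm.toLinearMap
  have hΨq : ∀ v, Ψ (q v) = rhom B N 𝔟 P v := by
    intro v
    have h1 : e.symm (q v) = Submodule.Quotient.mk v := by
      rw [LinearEquiv.symm_apply_eq]
      rfl
    change ((LinearMap.ker q).liftQ (rhom B N 𝔟 P) hkerq) (e.symm (q v)) = _
    rw [h1, Submodule.liftQ_apply]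
  refine ⟨Ψ, ?_, ?_, ?_⟩
  · intro g hg x
    rw [← hgen g hg x, hΨq, rhom_single, one_smul]
  · intro y
    obtain ⟨v, rfl⟩ := hsurj y
    rw [hΨq, hq]
    have h2 : (TensorProduct.lift ((LinearMap.lsmul B N).comp
        (MvPolynomial.aeval (fun j ↦ algebraMap A B (f j))).toLinearMap)).comp (rhom B N 𝔟 P) =
        pim B N 𝔟 := by
      apply Finsupp.lhom_ext
      intro p b
      rw [LinearMap.comp_apply, rhom_single, pim_single, map_smul, TensorProduct.lift.tmul]
      congr 1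
      change MvPolynomial.aeval (fun j ↦ algebraMap A B (f j))
        (MvPolynomial.map (algebraMap A B) (P (p.1 : A))) • p.2 = _
      rw [MvPolynomial.aeval_map_algebraMap]
      have h3 := MvPolynomial.aeval_algebraMap_apply (B := B) f (P (p.1 : A))
      rw [heval _ p.1.2] at h3
      change MvPolynomial.aeval (algebraMap A B ∘ f) (P (p.1 : A)) • p.2 = _
      rw [h3]
    rw [← LinearMap.comp_apply, h2]
  · intro Ψ' hΨ'
    have h2 : Ψ'.comp q = rhom B N 𝔟 P := by
      apply Finsupp.lhom_ext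
      intro p b
      have h3 : (Finsupp.single p b : (↥𝔟 × N) →₀ B) = b • Finsupp.single p 1 := by
        rw [Finsupp.smul_single, smul_eq_mul, mul_one]
      rw [LinearMap.comp_apply, h3, map_smul, map_smul, map_smul, rhom_single, one_smul]
      congr 1
      have h4 := hgen p.1.1 p.1.2 p.2
      rw [show ((⟨p.1.1, p.1.2⟩ : ↥𝔟), p.2) = p from rfl] at h4
      rw [h4]
      exact hΨ' p.1.1 p.1.2 p.2
    apply LinearMap.ext
    intro y
    obtain ⟨v, rfl⟩ := hsurj y
    rw [hΨq, ← h2, LinearMap.comp_apply]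

end Construct

section Main
variable (A : Type u) [CommRing A] (r : ℕ) (f : Fin r → A) (I : Ideal A) (c : ℕ)
  (φ : Fin r → (↥(I ^ c) →ₗ[A] A)) (hφ : ∀ x : ↥(I ^ c), (x : A) = ∑ j, f j * φ j x)
  (B : Type u) [CommRing B] [Algebra A B] [IsNoetherianRing B]
  (N : Type u) [AddCommGroup N] [Module B N] [Module.Finite B N]

include hφ in
theorem main : ∃ c' : ℕ, ∃ hcc' : c ≤ c', ∀ Φ : ℕ → A → MvPolynomial (Fin r) A, ((∀ n : ℕ, ∀ g ∈ I ^ (n * c'), ∀ h ∈ I ^ (n * c'), Φ n (g + h) = Φ n g + Φ n h) ∧ (∀ (n : ℕ) (a : A), ∀ g ∈ I ^ (n * c'), Φ n (a * g) = a • Φ n g) ∧ (∀ n : ℕ, ∀ g ∈ I ^ (n * c'), (Φ n g).IsHomogeneous n) ∧ (∀ n m : ℕ, ∀ g ∈ I ^ (n * c'), ∀ h ∈ I ^ (m * c'), Φ (n + m) (g * h) = Φ n g * Φ m h) ∧ (∀ a : A, Φ 0 a = MvPolynomial.C a) ∧ (∀ (g : A) (hg : g ∈ I ^ c'), Φ 1 g = ∑ j, MvPolynomial.C (φ j ⟨g, Ideal.pow_le_pow_right hcc' hg⟩) * MvPolynomial.X j)) → ∀ n : ℕ, ∃ Ψ : ↥(Submodule.span B {y : N | ∃ g ∈ I ^ (n * c'), ∃ x : N, y =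 algebraMap A B g • x}) →ₗ[B] (MvPolynomial (Fin r) B ⊗[B] N), (∀ (g : A) (hg : g ∈ I ^ (n * c')) (x : N), Ψ ⟨algebraMap A B g • x, Submodule.subset_span ⟨g, hg, x, rfl⟩⟩ = MvPolynomial.map (algebraMap A B) (Φ n g) ⊗ₜ[B] x) ∧ (∀ y : ↥(Submodule.span B {y : N | ∃ g ∈ I ^ (n * c'), ∃ x : N, y = algebraMap A B g • x}), TensorProduct.lift ((LinearMap.lsmul B N).comp (MvPolynomial.aeval (fun j ↦ algebraMap A B (f j))).toLinearMap) (Ψ y) = (y : N)) ∧ (∀ Ψ' : ↥(Submodule.span B {y : N | ∃ g ∈ I ^ (n * c'), ∃ x : N, y = algebraMap A B g • x}) →ₗ[B] (MvPolynomial (Fin r) B ⊗[B] N), (∀ (g : A) (hg : g ∈ I ^ (n * c')) (x : N), Ψ' ⟨algebraMap A B g • x, Submodule.subset_span ⟨g, hg, x, rfl⟩⟩ = MvPolynomial.map (algebraMap A B) (Φ n g) ⊗ₜ[B] x) → Ψ' = Ψ) := by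
  obtain ⟨K, hK⟩ := exists_pow_torsion_eq_zero (I.map (algebraMap A B)) N
  refine ⟨c + K, Nat.le_add_right c K, ?_⟩
  rintro Φ ⟨hadd, hsmul, hhom, hmul, h0, h1⟩ n
  have hcc' : c ≤ c + K := Nat.le_add_right c K
  have hsub : c + K - c = K := by omega
  apply exists_Psi f B N (I ^ (n * (c + K))) (Φ n)
  · -- kernel condition
    rcases Nat.eq_zero_or_pos n with hn | hn
    · subst hn
      exact rhom_eq_zero_of_C B N _ (Φ 0) (fun g _ => h0 g)
    · refine rhom_eq_zero I B N _ (Φ n) (n * K) (n * (c + K)) rfl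
        (fun g hg h hh => Phi_symm I (c + K) Φ hsmul n g hg h hh) ?_ ?_
      · intro g hg e
        have := coeff_Phi_mem I c (c + K) hcc' φ Φ hadd hmul h0 h1 n g hg e
        rwa [hsub] at this
      · exact hK (n * K) (Nat.le_mul_of_pos_left K hn)
  · exact fun g hg => aeval_Phi f I c (c + K) hcc' φ Φ hadd hmul h0 h1 hφ n g hg

end Main

end Groth.Agent.Lib.Helper14.GradedPsi
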