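/- helper14: graded UFD lifting. R[1/s] is the localization of R_(s)[X] at X for s of degree one;
   hence R_(s) UFD => R[1/s] UFD => (Nagata, s prime) R UFD. -/
import Mathlib

open Polynomial

namespace Groth.Agent.Lib.Helper14.GradedUFD

universe u v
variable {K : Type u} [Field K] {R : Type v} [CommRing R] [Algebra K R]
  (𝒜 : ℕ → Submodule K R) [GradedAlgebra 𝒜]

/-- the evaluation map `R_(s)[X] → R[1/s]`, `X ↦ s`. -/
noncomputable def φ (s : R) : (HomogeneousLocalization.Away 𝒜 s)[X] →+* Localization.Away s :=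
  Polynomial.eval₂RingHom (algebraMap _ _) (algebraMap R _ s)

variable {𝒜} {s : R}

lemma φ_C (c : HomogeneousLocalization.Away 𝒜 s) : φ 𝒜 s (C c) = c.val := by
  simp [φ]

lemma φ_X : φ 𝒜 s X = algebraMap R _ s := by
  simp [φ]

lemma algebraMap_mem_range (hs : s ∈ 𝒜 1) (b : R) :
    algebraMap R (Localization.Away s) b ∈ (φ 𝒜 s).range := by
  induction b using DirectSum.Decomposition.inductionOn 𝒜 with
  | zero => simp
  | add m m' h h' => rw [map_add]; exact add_mem h h'
  | @homogeneous i m =>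
    have hm : (m : R) ∈ 𝒜 (i • 1) := by simp
    refine ⟨C (HomogeneousLocalization.Away.mk 𝒜 hs i (m : R) hm) * X ^ i, ?_⟩
    rw [map_mul, map_pow, φ_C, φ_X, HomogeneousLocalization.Away.val_mk,
      ← map_pow, ← Localization.mk_one_eq_algebraMap, ← Localization.mk_one_eq_algebraMap,
      Localization.mk_mul]
    rw [Localization.mk_eq_mk_iff, Localization.r_iff_exists]
    exact ⟨1, by simp [mul_comm]⟩

lemma sum_eq_zero_of_mem_graded {ι : Type*} (S : Finset ι) (x : ι → R) (f : ι → ℕ)
    (hf : Function.Injective f) (hx : ∀ i ∈ S, x i ∈ 𝒜 (f i)) (h : ∑ i ∈ S, x i = 0) :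
    ∀ j ∈ S, x j = 0 := by
  intro j hj
  have h1 := congrArg (GradedRing.proj 𝒜 (f j)) h
  rw [map_sum, map_zero, Finset.sum_eq_single_of_mem j hj] at h1
  · rwa [GradedRing.proj_apply, DirectSum.decompose_of_mem_same 𝒜 (hx j hj)] at h1
  · intro i hi hij
    rw [GradedRing.proj_apply, DirectSum.decompose_of_mem_ne 𝒜 (hx i hi)]
    exact fun h => hij (hf h)

lemma φ_injective [IsDomain R] (hs : s ∈ 𝒜 1) (hs0 : s ≠ 0) : Function.Injective (φ 𝒜 s) := by
  rw [injective_iff_map_eq_zero]
  intro p hp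
  have key : ∀ᶠ n in Filter.atTop, ∀ i ∈ p.support, s ^ n • (p.coeff i).val ∈
      algebraMap R (Localization.Away s) '' (𝒜 (n • 1) : Set R) := by
    rw [Filter.eventually_all_finset]
    intro i _
    exact HomogeneousLocalization.Away.eventually_smul_mem hs _
  obtain ⟨N, hN⟩ := key.exists
  choose! b hb hb' using hN
  have hinj : Function.Injective (algebraMap R (Localization.Away s)) :=
    IsLocalization.injective _ (powers_le_nonZeroDivisors_of_noZeroDivisors hs0)
  have hsum : ∑ i ∈ p.support, b i * s ^ i = 0 := by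
    apply hinj
    rw [map_sum, map_zero]
    have : s ^ N • φ 𝒜 s p = 0 := by rw [hp, smul_zero]
    rw [← this]
    simp only [φ, Polynomial.coe_eval₂RingHom, Polynomial.eval₂_def, Polynomial.sum_def,
      Finset.smul_sum]
    refine Finset.sum_congr rfl fun i hi => ?_
    rw [map_mul, hb' i hi, map_pow, smul_mul_assoc]
    rfl
  have h0 := sum_eq_zero_of_mem_graded (𝒜 := 𝒜) p.support (fun i => b i * s ^ i)
    (fun i => N • 1 + i • 1) (fun i j h => by simpa using h)
    (fun i hi => SetLike.mul_mem_graded (hb i hi) (SetLike.pow_mem_graded i hs)) hsum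
  rw [← Polynomial.support_eq_empty]
  refine Finset.eq_empty_of_forall_notMem fun i hi => ?_
  have hbi : b i = 0 := by
    have := h0 i hi
    simpa [hs0] using this
  have h1 := hb' i hi
  rw [hbi, map_zero, Algebra.smul_def] at h1
  have hu : IsUnit (algebraMap R (Localization.Away s) (s ^ N)) :=
    IsLocalization.map_units (Localization.Away s) (⟨s ^ N, N, rfl⟩ : Submonoid.powers s)
  have h2 := (hu.mul_right_eq_zero).mp h1.symm
  have h3 : p.coeff i = 0 := HomogeneousLocalization.val_injective _ (by rw [h2]; simp)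
  exact (Polynomial.mem_support_iff.mp hi) h3

/-- `R[1/s]` is the localization of `R_(s)[X]` at `X` (i.e. a Laurent polynomial ring over
`R_(s)`), for `s` a nonzero element of degree one in a graded domain. -/
lemma isLocalization_away_X [IsDomain R] (hs : s ∈ 𝒜 1) (hs0 : s ≠ 0) :
    @IsLocalization (HomogeneousLocalization.Away 𝒜 s)[X] _
      (Submonoid.powers (X : (HomogeneousLocalization.Away 𝒜 s)[X]))
      (Localization.Away s) _ (φ 𝒜 s).toAlgebra := by
  letI := (φ 𝒜 s).toAlgebra
  have halg : ∀ p, algebraMap (HomogeneousLocalization.Away 𝒜 s)[X] (Localization.Away s) p =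
    φ 𝒜 s p := fun _ => rfl
  refine ⟨?_, ?_, ?_⟩
  · rintro ⟨_, n, rfl⟩
    rw [halg, map_pow, φ_X, ← map_pow]
    exact IsLocalization.map_units (Localization.Away s) (⟨s ^ n, n, rfl⟩ : Submonoid.powers s)
  · intro z
    obtain ⟨n, a, h⟩ := IsLocalization.Away.surj s z
    obtain ⟨p, hp⟩ := algebraMap_mem_range (𝒜 := 𝒜) hs a
    refine ⟨(p, ⟨X ^ n, n, rfl⟩), ?_⟩
    rw [halg, halg, hp, ← h, map_pow, φ_X]
  · intro x y hxy
    exact ⟨1, by rw [φ_injective hs hs0 hxy]⟩

theorem ufd_of_ufd_away [IsDomain R] [IsNoetherianRing R] (hs : s ∈ 𝒜 1) (hp : Prime s)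
    (h : UniqueFactorizationMonoid (HomogeneousLocalization.Away 𝒜 s)) :
    UniqueFactorizationMonoid R := by
  rw [UniqueFactorizationMonoid.iff_localizationAway_of_prime hp]
  letI := (φ 𝒜 s).toAlgebra
  haveI := isLocalization_away_X (𝒜 := 𝒜) hs hp.ne_zero
  exact UniqueFactorizationMonoid.of_isLocalization
    (Submonoid.powers (X : (HomogeneousLocalization.Away 𝒜 s)[X])) (Localization.Away s)

end Groth.Agent.Lib.Helper14.GradedUFD
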