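import Mathlib

set_option autoImplicit false
universe u
open TensorProduct MvPolynomial

namespace Groth.Agent.Helper18NL

section ring
variable {A B : Type u} [CommRing A] [CommRing B] [Algebra A B]

theorem algebraMap_mem_ker (P : Algebra.Extension.{u} A B) {s : A} (hs : algebraMap A B s = 0) :
    algebraMap A P.Ring s ∈ P.ker := by
  change algebraMap P.Ring B (algebraMap A P.Ring s) = 0
  rw [← IsScalarTower.algebraMap_apply, hs]

/-- the class in `H¹` of an extension of a constant `s ∈ ker (A → B)`. -/
noncomputable def extC (P : Algebra.Extension.{u} A B) (s : A) (hs : algebraMap A B s = 0) :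
    P.H1Cotangent :=
  ⟨Algebra.Extension.Cotangent.mk ⟨algebraMap A P.Ring s, algebraMap_mem_ker P hs⟩, by
    rw [LinearMap.mem_ker, Algebra.Extension.cotangentComplex_mk]
    simp⟩

theorem extC_val (P : Algebra.Extension.{u} A B) (s : A) (hs : algebraMap A B s = 0) :
    (extC P s hs).1 = Algebra.Extension.Cotangent.mk ⟨algebraMap A P.Ring s, algebraMap_mem_ker P hs⟩ := rfl

theorem ι_extC (P : Algebra.Extension.{u} A B) (s : A) (hs : algebraMap A B s = 0) :
    Algebra.Extension.h1Cotangentι (extC P s hs) =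
      Algebra.Extension.Cotangent.mk ⟨algebraMap A P.Ring s, algebraMap_mem_ker P hs⟩ := rfl

theorem extC_add (P : Algebra.Extension.{u} A B) (s t : A) (hs : algebraMap A B s = 0)
    (ht : algebraMap A B t = 0) (hst : algebraMap A B (s + t) = 0) :
    extC P (s + t) hst = extC P s hs + extC P t ht := by
  ext
  have h : (⟨algebraMap A P.Ring (s + t), algebraMap_mem_ker P hst⟩ : P.ker) =
      ⟨algebraMap A P.Ring s, algebraMap_mem_ker P hs⟩ + ⟨algebraMap A P.Ring t, algebraMap_mem_ker P ht⟩ :=
    Subtype.ext (map_add _ _ _)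
  rw [Algebra.Extension.H1Cotangent.val_add, extC_val, extC_val, extC_val, h, map_add]

theorem extC_smul (P : Algebra.Extension.{u} A B) (a s : A) (hs : algebraMap A B s = 0)
    (has : algebraMap A B (a * s) = 0) :
    extC P (a * s) has = algebraMap A B a • extC P s hs := by
  ext
  have h : (⟨algebraMap A P.Ring (a * s), algebraMap_mem_ker P has⟩ : P.ker) =
      algebraMap A P.Ring a • ⟨algebraMap A P.Ring s, algebraMap_mem_ker P hs⟩ :=
    Subtype.ext (map_mul _ _ _)
  rw [Algebra.Extension.H1Cotangent.val_smul, extC_val, extC_val, h, map_smul, algebraMap_smul,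
    algebraMap_smul]

theorem extC_congr (P : Algebra.Extension.{u} A B) {s t : A} (hs : algebraMap A B s = 0) (h : s = t) :
    extC P s hs = extC P t (h ▸ hs) := by
  subst h; rfl

end ring
end Groth.Agent.Helper18NL

namespace Groth.Agent.Helper18NL
section nat
variable {R S R' S' : Type u} [CommRing R] [CommRing S] [Algebra R S]
  [CommRing R'] [CommRing S'] [Algebra R' S']
  [Algebra R R'] [Algebra S S'] [Algebra R S'] [IsScalarTower R R' S'] [IsScalarTower R S S']

theorem algebraMap_eq_zero_of_tower {s : R} (hs : algebraMap R S s = 0) :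
    algebraMap R' S' (algebraMap R R' s) = 0 := by
  rw [← IsScalarTower.algebraMap_apply, IsScalarTower.algebraMap_apply R S S', hs, map_zero]

theorem map_extC {P : Algebra.Extension.{u} R S} {P' : Algebra.Extension.{u} R' S'} (f : P.Hom P')
    (s : R) (hs : algebraMap R S s = 0) :
    Algebra.Extension.H1Cotangent.map f (extC P s hs) =
      extC P' (algebraMap R R' s) (algebraMap_eq_zero_of_tower hs) := by
  apply Algebra.Extension.h1Cotangentι_ext
  change Algebra.Extension.Cotangent.map f (extC P s hs).1 = (extC P' _ _).1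
  rw [extC_val, extC_val, Algebra.Extension.Cotangent.map_mk]
  congr 1
  apply Subtype.ext
  exact f.toRingHom_algebraMap s

end nat
end Groth.Agent.Helper18NL

namespace Groth.Agent.Helper18NL
section gam
variable {A B : Type u} [CommRing A] [CommRing B] [Algebra A B]

/-- `s ↦ [s]` as an `A`-linear map `J → H¹(P)` for an ideal `J ⊆ ker (A → B)`. -/
noncomputable def extCLin (P : Algebra.Extension.{u} A B) (J : Ideal A)
    (hJ : J ≤ RingHom.ker (algebraMap A B)) : J →ₗ[A] P.H1Cotangent where
  toFun s := extC P s.1 (RingHom.mem_ker.mp (hJ s.2))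
  map_add' s t := extC_add P s.1 t.1 (RingHom.mem_ker.mp (hJ s.2)) (RingHom.mem_ker.mp (hJ t.2)) _
  map_smul' a s := by
    rw [RingHom.id_apply, ← algebraMap_smul B a (extC P s.1 (RingHom.mem_ker.mp (hJ s.2)))]
    exact extC_smul P a s.1 (RingHom.mem_ker.mp (hJ s.2)) _

@[simp] theorem extCLin_apply (P : Algebra.Extension.{u} A B) (J : Ideal A)
    (hJ : J ≤ RingHom.ker (algebraMap A B)) (s : J) : extCLin P J hJ s = extC P s.1 (RingHom.mem_ker.mp (hJ s.2)) := rfl

/-- the canonical map `B ⊗_A J → H¹(P)`. -/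
noncomputable def gam (P : Algebra.Extension.{u} A B) (J : Ideal A)
    (hJ : J ≤ RingHom.ker (algebraMap A B)) : B ⊗[A] J →ₗ[B] P.H1Cotangent :=
  LinearMap.liftBaseChange B (extCLin P J hJ)

@[simp] theorem gam_tmul (P : Algebra.Extension.{u} A B) (J : Ideal A)
    (hJ : J ≤ RingHom.ker (algebraMap A B)) (b : B) (s : J) :
    gam P J hJ (b ⊗ₜ s) = b • extC P s.1 (RingHom.mem_ker.mp (hJ s.2)) := by
  rw [gam, LinearMap.liftBaseChange_tmul, extCLin_apply]

/-- `1 ⊗ x = 0` in `B ⊗_A J` for `x ∈ J²`. -/
theorem one_tmul_eq_zero_of_mem_sq (J : Ideal A) (hJ : J ≤ RingHom.ker (algebraMap A B))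
    (x : A) (hx : x ∈ J ^ 2) : ∃ hx' : x ∈ J, (1 : B) ⊗ₜ[A] (⟨x, hx'⟩ : J) = 0 := by
  rw [pow_two] at hx
  refine Submodule.mul_induction_on hx ?_ ?_
  · intro j hj j' hj'
    refine ⟨J.mul_mem_left _ hj', ?_⟩
    have : (⟨j * j', J.mul_mem_left _ hj'⟩ : J) = j • (⟨j', hj'⟩ : J) := Subtype.ext rfl
    rw [this, ← TensorProduct.smul_tmul, Algebra.smul_def, mul_one]
    have h0 : algebraMap A B j = 0 := hJ hj
    rw [h0, TensorProduct.zero_tmul]
  · rintro x y ⟨hx', hx0⟩ ⟨hy', hy0⟩
    refine ⟨J.add_mem hx' hy', ?_⟩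
    have : (⟨x + y, J.add_mem hx' hy'⟩ : J) = ⟨x, hx'⟩ + ⟨y, hy'⟩ := Subtype.ext rfl
    rw [this, TensorProduct.tmul_add, hx0, hy0, add_zero]

/-- normal form of elements of `B ⊗_A J` when `A_a → B` is surjective. -/
theorem exists_pow_smul_eq_one_tmul (a : A) (J : Ideal A)
    (hs : ∀ y : B, ∃ (c : A) (n : ℕ), algebraMap A B a ^ n * y = algebraMap A B c) (t : B ⊗[A] J) :
    ∃ (m : ℕ) (s : J), (algebraMap A B a ^ m) • t = (1 : B) ⊗ₜ[A] s := by
  induction t using TensorProduct.induction_on with
  | zero => exact ⟨0, 0, by simp⟩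
  | tmul b s =>
    obtain ⟨c, n, hc⟩ := hs b
    refine ⟨n, c • s, ?_⟩
    rw [TensorProduct.smul_tmul', smul_eq_mul, hc, ← TensorProduct.smul_tmul, Algebra.smul_def, mul_one]
  | add x y hx hy =>
    obtain ⟨m, s, hx⟩ := hx
    obtain ⟨n, s', hy⟩ := hy
    refine ⟨m + n, a ^ n • s + a ^ m • s', ?_⟩
    rw [smul_add, pow_add]
    nth_rw 1 [mul_comm]
    rw [mul_smul, mul_smul, hx, hy, TensorProduct.tmul_add, TensorProduct.smul_tmul', TensorProduct.smul_tmul',
      smul_eq_mul, smul_eq_mul, mul_one, mul_one, ← map_pow, ← map_pow,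
      ← TensorProduct.smul_tmul, ← TensorProduct.smul_tmul, Algebra.smul_def, Algebra.smul_def, mul_one, mul_one]

end gam
end Groth.Agent.Helper18NL

namespace Groth.Agent.Helper18NL
section loc
variable {A B : Type u} [CommRing A] [CommRing B] [Algebra A B]

/-- the algebra map `A_a → B` when `a` becomes a unit in `B`. -/
noncomputable def awayLift (a : A) (ha : IsUnit (algebraMap A B a)) : Localization.Away a →ₐ[A] B :=
  IsLocalization.liftAlgHom (M := Submonoid.powers a) (f := Algebra.ofId A B) (by
    rintro ⟨y, n, rfl⟩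
    change IsUnit (algebraMap A B (a ^ n))
    rw [map_pow]
    exact ha.pow n)

theorem awayLift_algebraMap (a : A) (ha : IsUnit (algebraMap A B a)) (x : A) :
    awayLift a ha (algebraMap A (Localization.Away a) x) = algebraMap A B x :=
  (awayLift a ha).commutes x

theorem awayLift_surjective (a : A) (ha : IsUnit (algebraMap A B a))
    (hs : ∀ y : B, ∃ (c : A) (n : ℕ), algebraMap A B a ^ n * y = algebraMap A B c) :
    Function.Surjective (awayLift a ha) := by
  intro y
  obtain ⟨c, n, hc⟩ := hs y
  refine ⟨IsLocalization.mk' _ c (⟨a ^ n, n, rfl⟩ : Submonoid.powers a), ?_⟩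
  have h1 : awayLift a ha (IsLocalization.mk' (Localization.Away a) c (⟨a ^ n, n, rfl⟩ : Submonoid.powers a)) *
      algebraMap A B (a ^ n) = algebraMap A B c := by
    rw [← awayLift_algebraMap a ha (a ^ n), ← map_mul, ← awayLift_algebraMap a ha c]
    congr 1
    exact IsLocalization.mk'_spec _ _ _
  have h2 : IsUnit (algebraMap A B (a ^ n)) := by rw [map_pow]; exact ha.pow n
  apply h2.mul_left_injective
  change _ * _ = _ * _
  rw [h1, ← hc, map_pow, mul_comm]

/-- the extension `A → A_a → B`. -/
noncomputable def awayExt (a : A) (ha : IsUnit (algebraMap A B a))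
    (hs : ∀ y : B, ∃ (c : A) (n : ℕ), algebraMap A B a ^ n * y = algebraMap A B c) :
    Algebra.Extension.{u} A B :=
  Algebra.Extension.ofSurjective (awayLift a ha) (awayLift_surjective a ha hs)

end loc
end Groth.Agent.Helper18NL

namespace Groth.Agent.Helper18NL
section loc2
variable {A B : Type u} [CommRing A] [CommRing B] [Algebra A B]

theorem ker_awayLift (a : A) (ha : IsUnit (algebraMap A B a)) (J : Ideal A)
    (hJ : J ≤ RingHom.ker (algebraMap A B))
    (hk : ∀ c : A, algebraMap A B c = 0 → ∃ n : ℕ, a ^ n * c ∈ J) :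
    RingHom.ker (awayLift a ha) = Ideal.map (algebraMap A (Localization.Away a)) J := by
  apply le_antisymm
  · intro x hx
    obtain ⟨c, ⟨_, n, rfl⟩, rfl⟩ := IsLocalization.exists_mk'_eq (Submonoid.powers a) x
    rw [IsLocalization.mk'_mem_map_algebraMap_iff (Submonoid.powers a)]
    have h1 : algebraMap A B c = 0 := by
      rw [← awayLift_algebraMap a ha c, ← IsLocalization.mk'_spec (Localization.Away a) c
        (⟨a ^ n, n, rfl⟩ : Submonoid.powers a), map_mul]
      rw [RingHom.mem_ker] at hx
      rw [hx, zero_mul]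
    obtain ⟨m, hm⟩ := hk c h1
    exact ⟨a ^ m, ⟨m, rfl⟩, hm⟩
  · rw [Ideal.map_le_iff_le_comap]
    intro j hj
    rw [Ideal.mem_comap, RingHom.mem_ker, awayLift_algebraMap]
    exact hJ hj

end loc2
end Groth.Agent.Helper18NL

namespace Groth.Agent.Helper18NL
section loc3
variable {A B : Type u} [CommRing A] [CommRing B] [Algebra A B]

theorem awayExt_ker (a : A) (ha : IsUnit (algebraMap A B a))
    (hs : ∀ y : B, ∃ (c : A) (n : ℕ), algebraMap A B a ^ n * y = algebraMap A B c) :
    (awayExt a ha hs).ker = RingHom.ker (awayLift a ha) := rfl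

theorem gam_awayExt_injective (a : A) (ha : IsUnit (algebraMap A B a))
    (hs : ∀ y : B, ∃ (c : A) (n : ℕ), algebraMap A B a ^ n * y = algebraMap A B c)
    (J : Ideal A) (hJ : J ≤ RingHom.ker (algebraMap A B))
    (hk : ∀ c : A, algebraMap A B c = 0 → ∃ n : ℕ, a ^ n * c ∈ J) :
    Function.Injective (gam (awayExt a ha hs) J hJ) := by
  rw [injective_iff_map_eq_zero]
  intro t ht
  obtain ⟨m, s, hms⟩ := exists_pow_smul_eq_one_tmul a J hs t
  have h1 : gam (awayExt a ha hs) J hJ (1 ⊗ₜ s) = 0 := by rw [← hms, map_smul, ht, smul_zero]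
  rw [gam_tmul, one_smul] at h1
  have h2 := extC_val (awayExt a ha hs) s.1 (RingHom.mem_ker.mp (hJ s.2))
  rw [h1] at h2
  have h2' := h2.symm
  change _ = (0 : (awayExt a ha hs).Cotangent) at h2'
  rw [Algebra.Extension.Cotangent.mk_eq_zero_iff] at h2'
  have h3 : algebraMap A (Localization.Away a) s.1 ∈
      Ideal.map (algebraMap A (Localization.Away a)) (J ^ 2) := by
    rw [Ideal.map_pow, ← ker_awayLift a ha J hJ hk, ← awayExt_ker a ha hs]
    exact h2'
  rw [IsLocalization.algebraMap_mem_map_algebraMap_iff (Submonoid.powers a)] at h3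
  obtain ⟨_, ⟨N, rfl⟩, hN⟩ := h3
  obtain ⟨hx', h0⟩ := one_tmul_eq_zero_of_mem_sq (B := B) J hJ _ hN
  have h4 : (algebraMap A B a ^ N) • ((1 : B) ⊗ₜ[A] s) = 0 := by
    rw [TensorProduct.smul_tmul', smul_eq_mul, mul_one, ← map_pow,
      ← mul_one (algebraMap A B (a ^ N)), ← Algebra.smul_def, TensorProduct.smul_tmul]
    exact h0
  have h5 : (algebraMap A B a ^ (N + m)) • t = 0 := by rw [pow_add, mul_smul, hms, h4]
  exact ((ha.pow _).smul_eq_zero).mp h5

end loc3
end Groth.Agent.Helper18NL

namespace Groth.Agent.Helper18NL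
section loc4
variable {A B : Type u} [CommRing A] [CommRing B] [Algebra A B]

theorem gam_awayExt_surjective (a : A) (ha : IsUnit (algebraMap A B a))
    (hs : ∀ y : B, ∃ (c : A) (n : ℕ), algebraMap A B a ^ n * y = algebraMap A B c)
    (J : Ideal A) (hJ : J ≤ RingHom.ker (algebraMap A B))
    (hk : ∀ c : A, algebraMap A B c = 0 → ∃ n : ℕ, a ^ n * c ∈ J) :
    Function.Surjective (gam (awayExt a ha hs) J hJ) := by
  intro y
  obtain ⟨⟨x, hx⟩, hxy⟩ := Algebra.Extension.Cotangent.mk_surjective y.1
  have hx' : x ∈ Ideal.map (algebraMap A (Localization.Away a)) J := by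
    rw [← ker_awayLift a ha J hJ hk, ← awayExt_ker a ha hs]
    exact hx
  obtain ⟨⟨s, ⟨_, n, rfl⟩⟩, hsx⟩ := (IsLocalization.mem_map_algebraMap_iff (Submonoid.powers a)
    (Localization.Away a) (z := (x : Localization.Away a))).mp hx'
  have key : (algebraMap A B a ^ n) • y = extC (awayExt a ha hs) s.1 (RingHom.mem_ker.mp (hJ s.2)) := by
    apply Algebra.Extension.h1Cotangentι_injective
    have hxy' : Algebra.Extension.Cotangent.mk ⟨x, hx⟩ = Algebra.Extension.h1Cotangentι y := hxy
    rw [map_smul, ι_extC, ← hxy', ← map_pow,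
      IsScalarTower.algebraMap_apply A (awayExt a ha hs).Ring B, algebraMap_smul, ← map_smul]
    congr 1
    apply Subtype.ext
    exact (mul_comm _ _).trans hsx
  refine ⟨((ha.pow n).unit⁻¹ : Bˣ).1 ⊗ₜ s, ?_⟩
  rw [gam_tmul, ← key, smul_smul, IsUnit.val_inv_mul, one_smul]

end loc4
end Groth.Agent.Helper18NL

namespace Groth.Agent.Helper18NL
section selfHom
variable {A B : Type u} [CommRing A] [CommRing B] [Algebra A B]

set_option backward.isDefEq.respectTransparency false in
/-- a hom of extensions from the standard presentation to any extension. -/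
noncomputable def selfHom (P : Algebra.Extension.{u} A B) :
    (Algebra.Generators.self A B).toExtension.Hom P where
  toRingHom := (MvPolynomial.aeval P.σ).toRingHom
  toRingHom_algebraMap := (MvPolynomial.aeval P.σ).commutes
  algebraMap_toRingHom := by
    have : (IsScalarTower.toAlgHom A P.Ring B).comp (MvPolynomial.aeval P.σ) =
        IsScalarTower.toAlgHom _ (Algebra.Generators.self A B).toExtension.Ring _ := by
      ext i
      change _ = algebraMap (Algebra.Generators.self A B).Ring _ (.X i)
      simp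
    exact DFunLike.congr_fun this

theorem map_selfHom_bijective (P : Algebra.Extension.{u} A B) [Algebra.FormallySmooth A P.Ring] :
    Function.Bijective (Algebra.Extension.H1Cotangent.map (selfHom P)) := by
  have : Algebra.FormallySmooth A (Algebra.Generators.self A B).toExtension.Ring :=
    inferInstanceAs (Algebra.FormallySmooth A (MvPolynomial B A))
  have h := Algebra.Extension.H1Cotangent.equivOfFormallySmooth_toLinearMap (selfHom P)
  have h2 : (Algebra.Extension.H1Cotangent.map (selfHom P) : _ → _) =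
      (Algebra.Extension.H1Cotangent.equivOfFormallySmooth _ _) := by
    rw [← h]; rfl
  rw [h2]
  exact LinearEquiv.bijective _

theorem map_selfHom_gam (P : Algebra.Extension.{u} A B) (J : Ideal A)
    (hJ : J ≤ RingHom.ker (algebraMap A B)) (t : B ⊗[A] J) :
    Algebra.Extension.H1Cotangent.map (selfHom P)
      (gam (Algebra.Generators.self A B).toExtension J hJ t) = gam P J hJ t := by
  induction t using TensorProduct.induction_on with
  | zero => simp
  | tmul b s =>
    rw [gam_tmul, gam_tmul, map_smul, map_extC]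
    rfl
  | add x y hx hy => rw [map_add, map_add, map_add, hx, hy]

/-- **Key local statement**: if `a` becomes a unit in `B`, `A_a → B` is onto with kernel `J_a`, then
`B ⊗_A J → H¹(L_{B/A})` is bijective. -/
theorem gam_bijective_of_unit (a : A) (ha : IsUnit (algebraMap A B a))
    (hs : ∀ y : B, ∃ (c : A) (n : ℕ), algebraMap A B a ^ n * y = algebraMap A B c)
    (J : Ideal A) (hJ : J ≤ RingHom.ker (algebraMap A B))
    (hk : ∀ c : A, algebraMap A B c = 0 → ∃ n : ℕ, a ^ n * c ∈ J) :
    Function.Bijective (gam (Algebra.Generators.self A B).toExtension J hJ) := by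
  have : Algebra.FormallySmooth A (awayExt a ha hs).Ring :=
    inferInstanceAs (Algebra.FormallySmooth A (Localization.Away a))
  have h1 := map_selfHom_bijective (awayExt a ha hs)
  have h2 : Function.Bijective (gam (awayExt a ha hs) J hJ) :=
    ⟨gam_awayExt_injective a ha hs J hJ hk, gam_awayExt_surjective a ha hs J hJ hk⟩
  have h3 : (gam (awayExt a ha hs) J hJ : _ → _) =
      Algebra.Extension.H1Cotangent.map (selfHom (awayExt a ha hs)) ∘
        gam (Algebra.Generators.self A B).toExtension J hJ := by
    funext t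
    exact (map_selfHom_gam _ J hJ t).symm
  rw [h3] at h2
  exact (Function.Bijective.of_comp_iff' h1 _).mp h2

end selfHom
end Groth.Agent.Helper18NL

namespace Groth.Agent.Helper18NL
section glob
variable {A B : Type u} [CommRing A] [CommRing B] [Algebra A B]
variable (Bl : Type u) [CommRing Bl] [Algebra B Bl] [Algebra A Bl] [IsScalarTower A B Bl]

theorem le_ker_of_tower (J : Ideal A) (hJ : J ≤ RingHom.ker (algebraMap A B)) :
    J ≤ RingHom.ker (algebraMap A Bl) := by
  intro j hj
  rw [RingHom.mem_ker, IsScalarTower.algebraMap_apply A B Bl, RingHom.mem_ker.mp (hJ hj), map_zero]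

theorem gam_compat (J : Ideal A) (hJ : J ≤ RingHom.ker (algebraMap A B)) :
    ((gam (Algebra.Generators.self A Bl).toExtension J (le_ker_of_tower Bl J hJ)).restrictScalars B) ∘ₗ
      (TensorProduct.AlgebraTensorModule.rTensor A J (Algebra.linearMap B Bl)) =
    (Algebra.H1Cotangent.map A A B Bl) ∘ₗ gam (Algebra.Generators.self A B).toExtension J hJ := by
  ext s
  simp only [TensorProduct.AlgebraTensorModule.curry_apply, LinearMap.restrictScalars_comp,
    TensorProduct.curry_apply, LinearMap.coe_restrictScalars, LinearMap.coe_comp, Function.comp_apply,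
    TensorProduct.AlgebraTensorModule.rTensor_tmul, Algebra.linearMap_apply, map_one, gam_tmul, one_smul]
  rw [Algebra.H1Cotangent.map, map_extC]
  rfl

end glob
end Groth.Agent.Helper18NL

namespace Groth.Agent.Helper18NL
section glob2
variable {A B : Type u} [CommRing A] [CommRing B] [Algebra A B]
variable (Bl : Type u) [CommRing Bl] [Algebra B Bl] [Algebra A Bl] [IsScalarTower A B Bl]

theorem gam_bijective_loc (a : A) [IsLocalization.Away (algebraMap A B a) Bl]
    (J : Ideal A) (hJ : J ≤ RingHom.ker (algebraMap A B))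
    (hs : ∀ y : B, ∃ (c : A) (n : ℕ), algebraMap A B a ^ n * y = algebraMap A B c)
    (hk : ∀ c : A, algebraMap A B c = 0 → ∃ n : ℕ, a ^ n * c ∈ J) :
    Function.Bijective (gam (Algebra.Generators.self A Bl).toExtension J (le_ker_of_tower Bl J hJ)) := by
  have hu : IsUnit (algebraMap A Bl a) := by
    rw [IsScalarTower.algebraMap_apply A B Bl]
    exact IsLocalization.Away.algebraMap_isUnit _
  refine gam_bijective_of_unit a hu ?_ J _ ?_
  · intro y
    obtain ⟨n, y', hy'⟩ := IsLocalization.Away.surj (algebraMap A B a) y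
    obtain ⟨c, k, hc⟩ := hs y'
    refine ⟨c, n + k, ?_⟩
    rw [IsScalarTower.algebraMap_apply A B Bl, IsScalarTower.algebraMap_apply A B Bl c, ← hc, map_mul,
      ← hy', map_pow, pow_add]
    ring
  · intro c hc
    rw [IsScalarTower.algebraMap_apply A B Bl,
      IsLocalization.map_eq_zero_iff (Submonoid.powers (algebraMap A B a))] at hc
    obtain ⟨⟨_, m, rfl⟩, hm⟩ := hc
    have h0 : algebraMap A B (a ^ m * c) = 0 := by
      rw [map_mul, map_pow]; exact hm
    obtain ⟨n, hn⟩ := hk _ h0
    refine ⟨n + m, ?_⟩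
    rw [pow_add, mul_assoc]
    exact hn

end glob2

section glob3
variable {A B : Type u} [CommRing A] [CommRing B] [Algebra A B]

/-- **Ring-level statement**: `B ⊗_A J → H¹(L_{B/A})` is bijective if it is so locally on `Spec B`, in the
sense that `Spec B` is covered by `D(φ a)` with `A_a → B_{φ a}` onto with kernel `J_a`. -/
theorem gam_bijective_of_cover (J : Ideal A) (hJ : J ≤ RingHom.ker (algebraMap A B)) (s : Set A)
    (hspan : Ideal.span (algebraMap A B '' s) = ⊤)
    (hs : ∀ a ∈ s, ∀ y : B, ∃ (c : A) (n : ℕ), algebraMap A B a ^ n * y = algebraMap A B c)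
    (hk : ∀ a ∈ s, ∀ c : A, algebraMap A B c = 0 → ∃ n : ℕ, a ^ n * c ∈ J) :
    Function.Bijective (gam (Algebra.Generators.self A B).toExtension J hJ) := by
  refine bijective_of_isLocalized_span (algebraMap A B '' s) hspan
    (fun r => Localization.Away r.1 ⊗[A] J)
    (fun r => TensorProduct.AlgebraTensorModule.rTensor A J (Algebra.linearMap B (Localization.Away r.1)))
    (fun r => Algebra.H1Cotangent A (Localization.Away r.1))
    (fun r => Algebra.H1Cotangent.map A A B (Localization.Away r.1))
    (gam (Algebra.Generators.self A B).toExtension J hJ) ?_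
  rintro ⟨_, a, has, rfl⟩
  have h1 := gam_bijective_loc (Localization.Away (algebraMap A B a)) a J hJ (hs a has) (hk a has)
  have h2 := gam_compat (Localization.Away (algebraMap A B a)) J hJ
  have h3 : IsLocalizedModule.map (Submonoid.powers (algebraMap A B a))
      (TensorProduct.AlgebraTensorModule.rTensor A J (Algebra.linearMap B (Localization.Away (algebraMap A B a))))
      (Algebra.H1Cotangent.map A A B (Localization.Away (algebraMap A B a)))
      (gam (Algebra.Generators.self A B).toExtension J hJ) =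
      (gam (Algebra.Generators.self A (Localization.Away (algebraMap A B a))).toExtension J
        (le_ker_of_tower _ J hJ)).restrictScalars B := by
    apply IsLocalizedModule.linearMap_ext (Submonoid.powers (algebraMap A B a))
      (TensorProduct.AlgebraTensorModule.rTensor A J (Algebra.linearMap B (Localization.Away (algebraMap A B a))))
      (Algebra.H1Cotangent.map A A B (Localization.Away (algebraMap A B a)))
    rw [IsLocalizedModule.map_comp, h2]
  rw [h3]
  exact h1

end glob3
end Groth.Agent.Helper18NL
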