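/-
Helper14H1Sep: base change of `H¹(L_{k'/Λ})` along a finite separable residue field extension.
If `Λ → K'` is surjective and `K/K'` is a finite separable field extension, then
`K ⊗_{K'} H¹(L_{K'/Λ}) → H¹(L_{K/Λ})` is bijective.  The proof lifts `K/K'` to a standard étale
`Λ`-algebra and uses `Algebra.Extension.tensorH1CotangentOfFormallyEtale`.
-/
import Mathlib
import Groth.Agent.Lib.Helper18NL1

set_option autoImplicit false
universe u
open TensorProduct Polynomial

namespace Groth.Agent.Lib.Helper14.H1Sep

section gen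
variable {R S T : Type u} [CommRing R] [CommRing S] [CommRing T] [Algebra R S] [Algebra R T]
  [Algebra S T]
variable {P : Algebra.Extension.{u} R S} {Q : Algebra.Extension.{u} R T} (f : P.Hom Q)

theorem mapKer_liftBaseChange_bijective [alg : Algebra P.Ring Q.Ring]
    (halg : algebraMap P.Ring Q.Ring = f.toRingHom) [Module.Flat P.Ring Q.Ring]
    (hker : Q.ker ≤ Ideal.map (algebraMap P.Ring Q.Ring) P.ker) :
    Function.Bijective ((f.mapKer halg).liftBaseChange Q.Ring) := by
  set L := (f.mapKer halg).liftBaseChange Q.Ring with hL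
  have hLt : ∀ (x : Q.Ring) (m : P.ker), (L (x ⊗ₜ m)).1 = x * algebraMap P.Ring Q.Ring m.1 := by
    intro x m
    rw [hL, LinearMap.liftBaseChange_tmul]
    change x * f.toRingHom m.1 = _
    rw [halg]
  constructor
  · have hcomp : ∀ z : Q.Ring ⊗[P.Ring] P.ker,
        (L z).1 = (TensorProduct.rid P.Ring Q.Ring)
            ((LinearMap.lTensor Q.Ring (Submodule.subtype P.ker)) z) := by
      intro z
      induction z using TensorProduct.induction_on with
      | zero => simp
      | tmul x m =>
        rw [hLt]
        simp [Algebra.smul_def, mul_comm]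
      | add a b ha hb =>
        rw [map_add, map_add, map_add, ← ha, ← hb]; rfl
    rw [injective_iff_map_eq_zero]
    intro z hz
    have h1 := hcomp z
    rw [hz] at h1
    have h2 : (LinearMap.lTensor Q.Ring (Submodule.subtype P.ker)) z = 0 := by
      apply (TensorProduct.rid P.Ring Q.Ring).injective
      rw [← h1]; simp
    have hinj := Module.Flat.lTensor_preserves_injective_linearMap (M := Q.Ring)
      (Submodule.subtype P.ker) (Submodule.subtype_injective _)
    exact hinj (by rw [h2, map_zero])
  · intro y
    have hy : y.1 ∈ Ideal.map (algebraMap P.Ring Q.Ring) P.ker := hker y.2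
    let J : Ideal Q.Ring := (LinearMap.range L).map (Submodule.subtype Q.ker)
    have hJ : Ideal.map (algebraMap P.Ring Q.Ring) P.ker ≤ J := by
      rw [Ideal.map_le_iff_le_comap]
      intro m hm
      refine ⟨L (1 ⊗ₜ ⟨m, hm⟩), ⟨_, rfl⟩, ?_⟩
      change (L (1 ⊗ₜ ⟨m, hm⟩)).1 = _
      rw [hLt, one_mul]
    obtain ⟨w, ⟨z, rfl⟩, hw⟩ := hJ hy
    exact ⟨z, Subtype.ext hw⟩

end gen

section transfer
variable {R S T : Type u} [CommRing R] [CommRing S] [CommRing T] [Algebra R S] [Algebra R T]
  [Algebra S T] [IsScalarTower R S T]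
variable {P : Algebra.Extension.{u} R S} {Q : Algebra.Extension.{u} R T} (f : P.Hom Q)

open Groth.Agent.Helper18NL in
theorem map_compat (x : Algebra.H1Cotangent R S) :
    Algebra.Extension.H1Cotangent.map (selfHom Q) (Algebra.H1Cotangent.map R R S T x) =
      Algebra.Extension.H1Cotangent.map f (Algebra.Extension.H1Cotangent.map (selfHom P) x) := by
  let c : (Algebra.Generators.self R S).toExtension.Hom (Algebra.Generators.self R T).toExtension :=
    (Algebra.Generators.defaultHom (Algebra.Generators.self R S)
      (Algebra.Generators.self R T)).toExtensionHom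
  have e1 : Algebra.Extension.H1Cotangent.map ((selfHom Q).comp c) x =
      Algebra.Extension.H1Cotangent.map (selfHom Q) (Algebra.Extension.H1Cotangent.map c x) :=
    Algebra.Extension.H1Cotangent.map_comp_apply c (selfHom Q) x
  have e2 : Algebra.Extension.H1Cotangent.map (f.comp (selfHom P)) x =
      Algebra.Extension.H1Cotangent.map f (Algebra.Extension.H1Cotangent.map (selfHom P) x) :=
    Algebra.Extension.H1Cotangent.map_comp_apply (selfHom P) f x
  have e3 : Algebra.Extension.H1Cotangent.map ((selfHom Q).comp c) =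
      Algebra.Extension.H1Cotangent.map (f.comp (selfHom P)) :=
    Algebra.Extension.H1Cotangent.map_eq _ _
  change Algebra.Extension.H1Cotangent.map (selfHom Q) (Algebra.Extension.H1Cotangent.map c x) = _
  rw [← e1, e3, e2]

open Groth.Agent.Helper18NL in
theorem liftBaseChange_bijective_of_bijective
    [Algebra.FormallySmooth R P.Ring] [Algebra.FormallySmooth R Q.Ring]
    (hf : Function.Bijective ((Algebra.Extension.H1Cotangent.map f).liftBaseChange T)) :
    Function.Bijective ((Algebra.H1Cotangent.map R R S T).liftBaseChange T) := by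
  have hA := map_selfHom_bijective P
  have hB := map_selfHom_bijective Q
  let A : Algebra.H1Cotangent R S ≃ₗ[S] P.H1Cotangent := LinearEquiv.ofBijective _ hA
  have key : ∀ z : T ⊗[S] Algebra.H1Cotangent R S,
      Algebra.Extension.H1Cotangent.map (selfHom Q)
        ((Algebra.H1Cotangent.map R R S T).liftBaseChange T z) =
      (Algebra.Extension.H1Cotangent.map f).liftBaseChange T
        ((LinearEquiv.baseChange S T _ _ A) z) := by
    intro z
    induction z using TensorProduct.induction_on with
    | zero => simp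
    | tmul t x =>
      simp only [LinearMap.liftBaseChange_tmul, map_smul, LinearEquiv.baseChange_tmul]
      rw [map_compat f x]
      rfl
    | add a b ha hb => rw [map_add, map_add, map_add, map_add, ha, hb]
  have h1 : Function.Bijective (fun z : T ⊗[S] Algebra.H1Cotangent R S =>
      Algebra.Extension.H1Cotangent.map (selfHom Q)
        ((Algebra.H1Cotangent.map R R S T).liftBaseChange T z)) := by
    have : (fun z : T ⊗[S] Algebra.H1Cotangent R S =>
      Algebra.Extension.H1Cotangent.map (selfHom Q)
        ((Algebra.H1Cotangent.map R R S T).liftBaseChange T z)) =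
        (fun z => (Algebra.Extension.H1Cotangent.map f).liftBaseChange T
        ((LinearEquiv.baseChange S T _ _ A) z)) := funext key
    rw [this]
    exact hf.comp (LinearEquiv.bijective _)
  exact (Function.Bijective.of_comp_iff' hB _).mp h1

end transfer

section field
variable {Λ K' K : Type u} [CommRing Λ] [Field K'] [Field K] [Algebra Λ K'] [Algebra K' K]
  [Algebra Λ K] [IsScalarTower Λ K' K]

/-- monic lift of the minimal polynomial of a primitive element -/
theorem exists_pair [FiniteDimensional K' K] [Algebra.IsSeparable K' K]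
    (hs : Function.Surjective (algebraMap Λ K')) :
    ∃ (α : K) (G : Λ[X]), G.Monic ∧ Algebra.adjoin K' {α} = ⊤ ∧ aeval α G = 0 ∧
      IsUnit (aeval α (derivative G)) ∧ G.map (algebraMap Λ K') = minpoly K' α := by
  obtain ⟨α, hα⟩ := Field.exists_primitive_element K' K
  have hint : IsIntegral K' α := Algebra.IsIntegral.isIntegral α
  have hmon : (minpoly K' α).Monic := minpoly.monic hint
  have hl : minpoly K' α ∈ Polynomial.lifts (algebraMap Λ K') := by
    rw [Polynomial.lifts_iff_coeff_lifts]
    intro n
    exact hs _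
  obtain ⟨G, hG, -, hGm⟩ := Polynomial.lifts_and_degree_eq_and_monic hl hmon
  refine ⟨α, G, hGm, ?_, ?_, ?_, hG⟩
  · have := IntermediateField.adjoin_simple_toSubalgebra_of_isAlgebraic hint.isAlgebraic
    rw [hα] at this
    rw [← this]; rfl
  · rw [← Polynomial.aeval_map_algebraMap K', hG, minpoly.aeval]
  · rw [← Polynomial.aeval_map_algebraMap K', ← Polynomial.derivative_map, hG]
    have hsep : (minpoly K' α).Separable := Algebra.IsSeparable.isSeparable K' α
    apply IsUnit.mk0
    intro h0
    have := hsep.aeval_derivative_ne_zero (minpoly.aeval K' α)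
    exact this h0

/-- the standard étale pair `(G, G')`. -/
noncomputable def pair (G : Λ[X]) (hG : G.Monic) : StandardEtalePair Λ :=
  ⟨G, hG, derivative G, ⟨1, 0, 1, by simp⟩⟩

theorem hasMap (G : Λ[X]) (hG : G.Monic) (α : K) (h0 : aeval α G = 0)
    (hu : IsUnit (aeval α (derivative G))) : (pair G hG).HasMap α := ⟨h0, hu⟩

theorem lift_surjective (hs : Function.Surjective (algebraMap Λ K'))
    (Pr : StandardEtalePair Λ) (α : K) (h : Pr.HasMap α) (hα : Algebra.adjoin K' {α} = ⊤) :
    Function.Surjective (Pr.lift α h) := by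
  intro y
  have hy : y ∈ Algebra.adjoin K' {α} := by rw [hα]; trivial
  rw [Algebra.adjoin_singleton_eq_range_aeval] at hy
  obtain ⟨p, rfl⟩ := hy
  obtain ⟨q, rfl⟩ := Polynomial.map_surjective (algebraMap Λ K') hs p
  refine ⟨aeval Pr.X q, ?_⟩
  rw [← Polynomial.aeval_algHom_apply, StandardEtalePair.lift_X]
  exact (Polynomial.aeval_map_algebraMap K' α q).symm

theorem ker_lift_le (hs : Function.Surjective (algebraMap Λ K'))
    (Pr : StandardEtalePair Λ) (α : K) (h : Pr.HasMap α)
    (hmin : Pr.f.map (algebraMap Λ K') = minpoly K' α) :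
    RingHom.ker (Pr.lift α h).toRingHom ≤
      Ideal.map (algebraMap Λ Pr.Ring) (RingHom.ker (algebraMap Λ K')) := by
  intro z hz
  let SP : StandardEtalePresentation Λ Pr.Ring :=
    ⟨Pr, Pr.X, Pr.hasMap_X, by simpa [StandardEtalePair.lift_X_left] using Function.bijective_id⟩
  obtain ⟨p, n, hp⟩ := SP.exists_mul_aeval_x_g_pow_eq_aeval_x z
  change z * (aeval Pr.X Pr.g) ^ n = aeval Pr.X p at hp
  have hφX : (Pr.lift α h) Pr.X = α := StandardEtalePair.lift_X _ _ _
  have hz0 : (Pr.lift α h) z = 0 := hz
  have h1 : aeval α p = 0 := by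
    have := congrArg (Pr.lift α h) hp
    rw [map_mul, hz0, zero_mul, ← Polynomial.aeval_algHom_apply, hφX] at this
    exact this.symm
  have h2 : minpoly K' α ∣ p.map (algebraMap Λ K') := by
    apply minpoly.dvd
    rw [Polynomial.aeval_map_algebraMap]; exact h1
  obtain ⟨s, hs'⟩ := h2
  obtain ⟨S, rfl⟩ := Polynomial.map_surjective (algebraMap Λ K') hs s
  have h3 : (p - Pr.f * S).map (algebraMap Λ K') = 0 := by
    rw [Polynomial.map_sub, Polynomial.map_mul, hmin, hs', sub_self]
  have h4 : p - Pr.f * S ∈ Ideal.map (C : Λ →+* Λ[X]) (RingHom.ker (algebraMap Λ K')) := by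
    rw [← Polynomial.ker_mapRingHom]
    exact h3
  have h5 : aeval Pr.X (p - Pr.f * S) ∈
      Ideal.map (algebraMap Λ Pr.Ring) (RingHom.ker (algebraMap Λ K')) := by
    have hle : Ideal.map (C : Λ →+* Λ[X]) (RingHom.ker (algebraMap Λ K')) ≤
        Ideal.comap (aeval Pr.X : Λ[X] →ₐ[Λ] Pr.Ring).toRingHom
          (Ideal.map (algebraMap Λ Pr.Ring) (RingHom.ker (algebraMap Λ K'))) := by
      rw [Ideal.map_le_iff_le_comap]
      intro a ha
      simp only [Ideal.mem_comap, AlgHom.toRingHom_eq_coe, RingHom.coe_coe, aeval_C]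
      exact Ideal.mem_map_of_mem _ ha
    exact hle h4
  have h6 : aeval Pr.X Pr.f = 0 := Pr.hasMap_X.1
  rw [map_sub, map_mul, h6, zero_mul, sub_zero, ← hp] at h5
  have hunit : IsUnit ((aeval Pr.X Pr.g) ^ n) := (Pr.hasMap_X.2).pow n
  obtain ⟨u, hu'⟩ := hunit
  have : z = z * (aeval Pr.X Pr.g) ^ n * ↑u⁻¹ := by
    rw [← hu', mul_assoc, Units.mul_inv, mul_one]
  rw [this]
  exact Ideal.mul_mem_right _ _ h5

variable (hs : Function.Surjective (algebraMap Λ K'))
variable (Pr : StandardEtalePair Λ) (α : K) (h : Pr.HasMap α)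
  (hsurj : Function.Surjective (Pr.lift α h))

noncomputable def extP : Algebra.Extension.{u} Λ K' := .ofSurjective (Algebra.ofId Λ K') hs

noncomputable def extQ : Algebra.Extension.{u} Λ K := .ofSurjective (Pr.lift α h) hsurj

noncomputable def homPQ : (extP hs).Hom (extQ Pr α h hsurj) where
  toRingHom := algebraMap Λ Pr.Ring
  toRingHom_algebraMap x := rfl
  algebraMap_toRingHom x := by
    change (Pr.lift α h) (algebraMap Λ Pr.Ring x) = algebraMap K' K (algebraMap Λ K' x)
    rw [AlgHom.commutes, ← IsScalarTower.algebraMap_apply]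

noncomputable instance algPQ : Algebra (extP hs).Ring (extQ Pr α h hsurj).Ring :=
  inferInstanceAs (Algebra Λ Pr.Ring)

theorem halg : algebraMap (extP hs).Ring (extQ Pr α h hsurj).Ring =
    (homPQ hs Pr α h hsurj).toRingHom := rfl

theorem H1 : (homPQ hs Pr α h hsurj).toRingHom.FormallyEtale := by
  change (algebraMap Λ Pr.Ring).FormallyEtale
  exact RingHom.formallyEtale_algebraMap.mpr inferInstance

/-- **Main lemma.** -/
theorem liftBaseChange_bijective [FiniteDimensional K' K] [Algebra.IsSeparable K' K]
    (hs : Function.Surjective (algebraMap Λ K')) :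
    Function.Bijective ((Algebra.H1Cotangent.map Λ Λ K' K).liftBaseChange K) := by
  obtain ⟨α, G, hG, hα, h0, hu, hmin⟩ := exists_pair (K := K) hs
  have h : (pair G hG).HasMap α := hasMap G hG α h0 hu
  have hsurj := lift_surjective hs (pair G hG) α h hα
  have hker := ker_lift_le hs (pair G hG) α h hmin
  haveI : Module.Flat (extP hs).Ring (extQ (pair G hG) α h hsurj).Ring :=
    show Module.Flat Λ (pair G hG).Ring from inferInstance
  have H2 := mapKer_liftBaseChange_bijective (homPQ hs (pair G hG) α h hsurj)
    (halg hs (pair G hG) α h hsurj) hker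
  haveI : Module.Flat K' K := inferInstance
  have hbij : Function.Bijective ((Algebra.Extension.H1Cotangent.map
      (homPQ hs (pair G hG) α h hsurj)).liftBaseChange K) :=
    (Algebra.Extension.tensorH1CotangentOfFormallyEtale (homPQ hs (pair G hG) α h hsurj)
      (halg hs (pair G hG) α h hsurj) (H1 hs (pair G hG) α h hsurj) H2).bijective
  haveI : Algebra.FormallySmooth Λ (extP hs).Ring :=
    show Algebra.FormallySmooth Λ Λ from inferInstance
  haveI : Algebra.FormallySmooth Λ (extQ (pair G hG) α h hsurj).Ring :=
    show Algebra.FormallySmooth Λ (pair G hG).Ring from inferInstance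
  exact liftBaseChange_bijective_of_bijective (homPQ hs (pair G hG) α h hsurj) hbij

end field
end Groth.Agent.Lib.Helper14.H1Sep
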