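import Mathlib
import Groth.Prelude.Def_GSzCSA
import Groth.Agent.Lib.Helper23GalDescent

/-!
# Hilbert 90 for the units of `K ⊗[k] A` (S13692)

For a finite Galois extension `K/k` and a finite-dimensional `k`-algebra `A`,
`H¹(Gal(K/k), (K ⊗ A)ˣ)` is trivial.  Galois descent for the twisted action gives a
`k`-form `P` of `K ⊗ A` stable under left multiplication by `A`; a unit in `P` is found by
Zariski density when `k` is infinite, and by Lovász cancellation (`Pⁿ ≃ Aⁿ ⇒ P ≃ A`)
when `k` is finite.
-/

set_option autoImplicit false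
set_option linter.unusedSectionVars false
set_option linter.unusedVariables false
set_option linter.style.haveILetI false
universe u v w w' x

open scoped TensorProduct
attribute [local instance] CSAGal.tensorAction GpH1.unitsAction

namespace Groth.Agent.Lib.Helper14H90

section Lovasz

variable {R : Type u} [Ring R]

/-- number of injective linear maps -/
noncomputable def injCard (Z : Type v) (X : Type w) [AddCommGroup Z] [Module R Z]
    [AddCommGroup X] [Module R X] : ℕ :=
  Nat.card {f : Z →ₗ[R] X // Function.Injective f}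

variable {X : Type w} [AddCommGroup X] [Module R X]

/-- maps with given kernel correspond to injective maps from the quotient -/
noncomputable def kerEquiv {Z : Type v} [AddCommGroup Z] [Module R Z] (N : Submodule R Z) :
    {f : Z →ₗ[R] X // LinearMap.ker f = N} ≃ {g : (Z ⧸ N) →ₗ[R] X // Function.Injective g} where
  toFun f := ⟨N.liftQ f.1 (le_of_eq f.2.symm), by
    rw [← LinearMap.ker_eq_bot, Submodule.ker_liftQ, f.2, Submodule.mkQ_map_self]⟩
  invFun g := ⟨g.1.comp N.mkQ, by
    rw [LinearMap.ker_comp, LinearMap.ker_eq_bot.2 g.2, Submodule.comap_bot, Submodule.ker_mkQ]⟩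
  left_inv f := by
    apply Subtype.ext
    exact Submodule.liftQ_mkQ N f.1 _
  right_inv g := by
    apply Subtype.ext
    apply Submodule.linearMap_qext
    exact Submodule.liftQ_mkQ N _ _

theorem card_hom_eq_sum {Z : Type v} [AddCommGroup Z] [Module R Z] [Finite Z] [Finite X] :
    Nat.card (Z →ₗ[R] X) = ∑ᶠ N : Submodule R Z, injCard (R := R) (Z ⧸ N) X := by
  classical
  haveI : Finite (Z →ₗ[R] X) := Finite.of_injective (fun f => (f : Z → X)) DFunLike.coe_injective
  haveI : Finite (Submodule R Z) := Finite.of_injective (fun N => (N : Set Z)) SetLike.coe_injective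
  haveI := Fintype.ofFinite (Z →ₗ[R] X)
  haveI := Fintype.ofFinite (Submodule R Z)
  rw [finsum_eq_sum_of_fintype, Nat.card_eq_fintype_card]
  have h1 : Fintype.card (Z →ₗ[R] X) =
      ∑ N : Submodule R Z, Fintype.card {f : Z →ₗ[R] X // LinearMap.ker f = N} := by
    rw [← Fintype.card_sigma]
    exact Fintype.card_congr (Equiv.sigmaFiberEquiv (fun f : Z →ₗ[R] X => LinearMap.ker f)).symm
  rw [h1]
  refine Finset.sum_congr rfl fun N _ => ?_
  rw [injCard, ← Nat.card_eq_fintype_card]
  exact Nat.card_congr (kerEquiv N)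

end Lovasz

end Groth.Agent.Lib.Helper14H90


namespace Groth.Agent.Lib.Helper14H90

section Lovasz2

variable {R : Type u} [Ring R]

theorem injCard_congr {Z Z' : Type v} {X : Type w} [AddCommGroup Z] [Module R Z]
    [AddCommGroup Z'] [Module R Z'] [AddCommGroup X] [Module R X] (e : Z ≃ₗ[R] Z') :
    injCard (R := R) Z X = injCard (R := R) Z' X := by
  refine Nat.card_congr ⟨fun f => ⟨f.1.comp e.symm.toLinearMap, f.2.comp e.symm.injective⟩,
    fun g => ⟨g.1.comp e.toLinearMap, g.2.comp e.injective⟩, fun f => ?_, fun g => ?_⟩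
  · apply Subtype.ext
    ext z
    simp
  · apply Subtype.ext
    ext z
    simp

theorem injCard_eq_of_card_hom_eq {X : Type w} {Y : Type w'} [AddCommGroup X] [Module R X]
    [Finite X] [AddCommGroup Y] [Module R Y] [Finite Y]
    (h : ∀ (Z : Type v) [AddCommGroup Z] [Module R Z] [Finite Z],
      Nat.card (Z →ₗ[R] X) = Nat.card (Z →ₗ[R] Y)) :
    ∀ (m : ℕ) (Z : Type v) [AddCommGroup Z] [Module R Z] [Finite Z], Nat.card Z = m →
      injCard (R := R) Z X = injCard (R := R) Z Y := by
  classical
  intro m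
  induction m using Nat.strong_induction_on with
  | _ m ih =>
    intro Z _ _ _ hZ
    have hX := card_hom_eq_sum (R := R) (X := X) (Z := Z)
    have hY := card_hom_eq_sum (R := R) (X := Y) (Z := Z)
    rw [h Z, hY] at hX
    haveI : Finite (Submodule R Z) :=
      Finite.of_injective (fun N => (N : Set Z)) SetLike.coe_injective
    haveI := Fintype.ofFinite (Submodule R Z)
    rw [finsum_eq_sum_of_fintype, finsum_eq_sum_of_fintype] at hX
    have hne : ∀ N : Submodule R Z, N ≠ ⊥ →
        injCard (R := R) (Z ⧸ N) X = injCard (R := R) (Z ⧸ N) Y := by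
      intro N hN
      haveI : Finite (Z ⧸ N) := Finite.of_surjective N.mkQ N.mkQ_surjective
      refine ih (Nat.card (Z ⧸ N)) ?_ (Z ⧸ N) rfl
      rw [← hZ, Submodule.card_eq_card_quotient_mul_card N]
      have h1 : 1 < Nat.card N := by
        rw [Finite.one_lt_card_iff_nontrivial]
        exact Submodule.nontrivial_iff_ne_bot.2 hN
      have h2 : 0 < Nat.card (Z ⧸ N) := Nat.card_pos
      nlinarith
    rw [← Finset.add_sum_erase _ _ (Finset.mem_univ (⊥ : Submodule R Z)),
      ← Finset.add_sum_erase _ _ (Finset.mem_univ (⊥ : Submodule R Z))] at hX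
    have h3 : ∑ N ∈ Finset.univ.erase (⊥ : Submodule R Z), injCard (R := R) (Z ⧸ N) Y =
        ∑ N ∈ Finset.univ.erase (⊥ : Submodule R Z), injCard (R := R) (Z ⧸ N) X := by
      refine Finset.sum_congr rfl fun N hN => ?_
      exact (hne N (Finset.ne_of_mem_erase hN)).symm
    rw [h3] at hX
    have h4 := Nat.add_right_cancel hX
    rw [injCard_congr (X := X) (Submodule.quotEquivOfEqBot (⊥ : Submodule R Z) rfl),
      injCard_congr (X := Y) (Submodule.quotEquivOfEqBot (⊥ : Submodule R Z) rfl)] at h4
    exact h4.symm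

theorem card_hom_pi (n : ℕ) (Z : Type v) [AddCommGroup Z] [Module R Z] [Finite Z]
    (X' : Type w) [AddCommGroup X'] [Module R X'] [Finite X'] :
    Nat.card (Z →ₗ[R] (Fin n → X')) = Nat.card (Z →ₗ[R] X') ^ n := by
  haveI : Finite (Z →ₗ[R] X') :=
    Finite.of_injective (fun f => (f : Z → X')) DFunLike.coe_injective
  have h1 : (Z →ₗ[R] (Fin n → X')) ≃ (Fin n → (Z →ₗ[R] X')) :=
    ⟨fun f i => (LinearMap.proj i).comp f, fun g => LinearMap.pi g, fun f => by ext; rfl,
      fun g => by ext; rfl⟩
  rw [Nat.card_congr h1, Nat.card_fun, Nat.card_eq_fintype_card (α := Fin n), Fintype.card_fin]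

/-- Lovász cancellation: finite modules with `Xⁿ ≃ Yⁿ` are isomorphic. -/
theorem nonempty_linearEquiv_of_pi {X : Type w} {Y : Type w'} [AddCommGroup X] [Module R X]
    [Finite X] [AddCommGroup Y] [Module R Y] [Finite Y] (n : ℕ) (hn : 0 < n)
    (e : (Fin n → X) ≃ₗ[R] (Fin n → Y)) : Nonempty (X ≃ₗ[R] Y) := by
  classical
  have hcard : ∀ (Z : Type w) [AddCommGroup Z] [Module R Z] [Finite Z],
      Nat.card (Z →ₗ[R] X) = Nat.card (Z →ₗ[R] Y) := by
    intro Z _ _ _
    have h1 := card_hom_pi (R := R) n Z X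
    have h2 := card_hom_pi (R := R) n Z Y
    have h3 : Nat.card (Z →ₗ[R] (Fin n → X)) = Nat.card (Z →ₗ[R] (Fin n → Y)) :=
      Nat.card_congr ⟨fun f => e.toLinearMap.comp f, fun g => e.symm.toLinearMap.comp g,
        fun f => by ext; simp, fun g => by ext; simp⟩
    rw [h1, h2] at h3
    exact Nat.pow_left_injective (Nat.pos_iff_ne_zero.1 hn) h3
  have hXY : Nat.card X = Nat.card Y := by
    have h1 : Nat.card (Fin n → X) = Nat.card (Fin n → Y) := Nat.card_congr e.toEquiv
    rw [Nat.card_fun, Nat.card_fun, Nat.card_eq_fintype_card (α := Fin n), Fintype.card_fin] at h1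
    exact Nat.pow_left_injective (Nat.pos_iff_ne_zero.1 hn) h1
  have hinj := injCard_eq_of_card_hom_eq (R := R) (X := X) (Y := Y) hcard (Nat.card X) X rfl
  have hpos : 0 < injCard (R := R) X X := by
    haveI : Finite (X →ₗ[R] X) :=
      Finite.of_injective (fun f => (f : X → X)) DFunLike.coe_injective
    haveI : Nonempty {f : X →ₗ[R] X // Function.Injective f} :=
      ⟨⟨LinearMap.id, Function.injective_id⟩⟩
    exact Nat.card_pos
  rw [hinj] at hpos
  haveI : Finite (X →ₗ[R] Y) :=
    Finite.of_injective (fun f => (f : X → Y)) DFunLike.coe_injective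
  obtain ⟨⟨f, hf⟩⟩ : Nonempty {f : X →ₗ[R] Y // Function.Injective f} :=
    (Nat.card_pos_iff.1 hpos).1
  have hbij : Function.Bijective f := by
    haveI := Fintype.ofFinite X
    haveI := Fintype.ofFinite Y
    rw [Fintype.bijective_iff_injective_and_card]
    refine ⟨hf, ?_⟩
    rw [← Nat.card_eq_fintype_card, ← Nat.card_eq_fintype_card, hXY]
  exact ⟨LinearEquiv.ofBijective f hbij⟩

end Lovasz2

end Groth.Agent.Lib.Helper14H90


namespace Groth.Agent.Lib.Helper14H90

section Units

theorem isUnit_of_mulRight_surjective (K : Type v) [Field K] {B : Type w} [Ring B] [Algebra K B]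
    [FiniteDimensional K B] (b : B) (h : Function.Surjective (fun m : B => m * b)) :
    IsUnit b := by
  have hinj : Function.Injective (LinearMap.mulRight K b) :=
    LinearMap.injective_iff_surjective.2 h
  obtain ⟨y, hy⟩ := h 1
  have hy' : y * b = 1 := hy
  have h2 : b * y = 1 := by
    apply hinj
    simp only [LinearMap.mulRight_apply]
    rw [mul_assoc, hy', mul_one, one_mul]
  exact ⟨⟨b, y, h2, hy'⟩, rfl⟩

theorem isUnit_of_mulLeft_injective (K : Type v) [Field K] {B : Type w} [Ring B] [Algebra K B]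
    [FiniteDimensional K B] (b : B) (h : Function.Injective (fun m : B => b * m)) :
    IsUnit b := by
  have hsurj : Function.Surjective (LinearMap.mulLeft K b) :=
    LinearMap.injective_iff_surjective.1 h
  obtain ⟨y, hy⟩ := hsurj 1
  have hy' : b * y = 1 := hy
  have h2 : y * b = 1 := by
    apply h
    show b * (y * b) = b * 1
    rw [← mul_assoc, hy', mul_one, one_mul]
  exact ⟨⟨b, y, hy', h2⟩, rfl⟩

variable {K : Type v} [Field K] {B : Type w} [Ring B] [Algebra K B] [FiniteDimensional K B]
variable {k : Type u} [Field k] [Algebra k K] [Module k B] [IsScalarTower k K B]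

/-- density: over an infinite field `k`, a `k`-subspace spanning `B` over `K` contains a unit. -/
theorem exists_isUnit_mem_of_infinite [Infinite k] (P : Submodule k B)
    (hP : Submodule.span K (P : Set B) = ⊤) : ∃ b ∈ P, IsUnit b := by
  classical
  have h1 : (1 : B) ∈ Submodule.span K (P : Set B) := by rw [hP]; exact Submodule.mem_top
  rw [Submodule.mem_span_set'] at h1
  obtain ⟨n, c, e, hce⟩ := h1
  let β := Module.finBasis K B
  let M : Fin n → Matrix (Fin (Module.finrank K B)) (Fin (Module.finrank K B)) K :=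
    fun i => Algebra.leftMulMatrix β (e i : B)
  let p : MvPolynomial (Fin n) K :=
    Matrix.det (∑ i, (MvPolynomial.X i : MvPolynomial (Fin n) K) • (M i).map MvPolynomial.C)
  have heval : ∀ x : Fin n → K, MvPolynomial.eval x p =
      Matrix.det (Algebra.leftMulMatrix β (∑ i, x i • (e i : B))) := by
    intro x
    show MvPolynomial.eval x (Matrix.det _) = _
    rw [RingHom.map_det]
    congr 1
    ext r s
    rw [RingHom.mapMatrix_apply, Matrix.map_apply, Matrix.sum_apply, map_sum, map_sum,
      Matrix.sum_apply]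
    refine Finset.sum_congr rfl fun i _ => ?_
    rw [Matrix.smul_apply, Matrix.map_apply, smul_eq_mul, map_mul, MvPolynomial.eval_X,
      MvPolynomial.eval_C, map_smul, Matrix.smul_apply, smul_eq_mul]
  have hp : p ≠ 0 := by
    intro h0
    have := heval c
    rw [h0, hce, map_zero, map_one, Matrix.det_one] at this
    exact zero_ne_one this
  have hinf : (Set.range (algebraMap k K)).Infinite :=
    Set.infinite_range_of_injective (algebraMap k K).injective
  obtain ⟨x, hx, hxne⟩ : ∃ x ∈ Set.pi Set.univ (fun _ : Fin n => Set.range (algebraMap k K)),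
      MvPolynomial.eval x p ≠ 0 := by
    by_contra hcon
    push Not at hcon
    apply hp
    refine MvPolynomial.funext_set (fun _ => Set.range (algebraMap k K)) (fun _ => hinf) ?_
    intro x hx
    rw [hcon x hx, map_zero]
  choose y hy using fun i => hx i (Set.mem_univ i)
  refine ⟨∑ i, y i • (e i : B), Submodule.sum_mem _ fun i _ => Submodule.smul_mem _ _ (e i).2, ?_⟩
  have hb : ∑ i, y i • (e i : B) = ∑ i, x i • (e i : B) := by
    refine Finset.sum_congr rfl fun i _ => ?_
    rw [← hy i, algebraMap_smul]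
  rw [hb]
  rw [heval] at hxne
  apply isUnit_of_mulLeft_injective K
  have hdet : LinearMap.det (Algebra.lmul K B (∑ i, x i • (e i : B))) ≠ 0 := by
    rw [← LinearMap.det_toMatrix β]
    exact hxne
  have hunit := (LinearMap.isUnit_iff_isUnit_det _).2 (isUnit_iff_ne_zero.2 hdet)
  have := ((Module.End.isUnit_iff _).1 hunit).1
  exact this

end Units

end Groth.Agent.Lib.Helper14H90


namespace Groth.Agent.Lib.Helper14H90

section PiBij

variable {k : Type u} [Field k] {K : Type v} [Field K] [Algebra k K] [FiniteDimensional k K]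
  {M : Type w} [AddCommGroup M] [Module K M] [Module k M] [IsScalarTower k K M]
  {W : Type x} [AddCommGroup W] [Module k W]

theorem bijective_sum_basis_smul {n : ℕ} (β : Module.Basis (Fin n) k K) (ι : W →ₗ[k] M)
    (hι : Function.Bijective (ι.liftBaseChange K)) :
    Function.Bijective (fun w : Fin n → W => ∑ i, β i • ι (w i)) := by
  classical
  have h1 : (fun w : Fin n → W => ∑ i, β i • ι (w i)) =
      (ι.liftBaseChange K) ∘ (TensorProduct.equivFinsuppOfBasisLeft β).symm ∘
        (Finsupp.linearEquivFunOnFinite k W (Fin n)).symm := by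
    funext w
    simp only [Function.comp_apply]
    rw [TensorProduct.equivFinsuppOfBasisLeft_symm_apply, map_finsuppSum]
    rw [Finsupp.sum_fintype _ _ (fun i => by simp)]
    refine Finset.sum_congr rfl fun i _ => ?_
    rw [LinearMap.liftBaseChange_tmul]
    rfl
  rw [h1]
  exact hι.comp ((LinearEquiv.bijective _).comp (LinearEquiv.bijective _))

end PiBij

end Groth.Agent.Lib.Helper14H90


namespace Groth.Agent.Lib.Helper14H90

section FiniteCase

variable {k : Type u} [Field k] {K : Type v} [Field K] [Algebra k K] [FiniteDimensional k K]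
  {A : Type w} [Ring A] [Algebra k A] [FiniteDimensional k A]

theorem bijective_liftBaseChange_includeRight :
    Function.Bijective
      (((Algebra.TensorProduct.includeRight : A →ₐ[k] K ⊗[k] A).toLinearMap).liftBaseChange K) := by
  have h : ((Algebra.TensorProduct.includeRight : A →ₐ[k] K ⊗[k] A).toLinearMap).liftBaseChange K =
      LinearMap.id := by
    apply TensorProduct.AlgebraTensorModule.curry_injective
    ext x
    simp
  rw [h]
  exact Function.bijective_id

set_option maxHeartbeats 1600000 in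
theorem exists_isUnit_mem_of_finite [Finite k] (P : Submodule k (K ⊗[k] A))
    (hstab : ∀ (y : A) (m : K ⊗[k] A), m ∈ P → ((1 : K) ⊗ₜ[k] y) * m ∈ P)
    (hbij : Function.Bijective (P.subtype.liftBaseChange K)) : ∃ b ∈ P, IsUnit b := by
  classical
  letI modA : Module A (K ⊗[k] A) :=
    Module.compHom (K ⊗[k] A) (Algebra.TensorProduct.includeRight : A →ₐ[k] K ⊗[k] A).toRingHom
  have hsmul : ∀ (y : A) (m : K ⊗[k] A), y • m = ((1 : K) ⊗ₜ[k] y) * m := fun y m => rfl
  let PA : Submodule A (K ⊗[k] A) :=
    { carrier := P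
      add_mem' := P.add_mem
      zero_mem' := P.zero_mem
      smul_mem' := fun y m hm => hstab y m hm }
  have hPA : ∀ m : K ⊗[k] A, m ∈ PA ↔ m ∈ P := fun m => Iff.rfl
  set n := Module.finrank k K with hn
  have hnpos : 0 < n := Module.finrank_pos
  let β := Module.finBasis k K
  -- the two bijections
  let ΨP : (Fin n → PA) →ₗ[A] (K ⊗[k] A) :=
    { toFun := fun w => ∑ i, β i • (w i : K ⊗[k] A)
      map_add' := fun w w' => by
        simp only [Pi.add_apply, Submodule.coe_add, smul_add, Finset.sum_add_distrib]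
      map_smul' := fun y w => by
        simp only [Pi.smul_apply, Submodule.coe_smul, RingHom.id_apply, hsmul, Finset.mul_sum,
          mul_smul_comm] }
  let ΨA : (Fin n → A) →ₗ[A] (K ⊗[k] A) :=
    { toFun := fun w => ∑ i, β i • ((1 : K) ⊗ₜ[k] w i)
      map_add' := fun w w' => by
        simp only [Pi.add_apply, TensorProduct.tmul_add, smul_add, Finset.sum_add_distrib]
      map_smul' := fun y w => by
        simp only [Pi.smul_apply, smul_eq_mul, RingHom.id_apply, hsmul, Finset.mul_sum,
          mul_smul_comm, Algebra.TensorProduct.tmul_mul_tmul, mul_one] }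
  have hΨA : Function.Bijective ΨA :=
    bijective_sum_basis_smul β
      ((Algebra.TensorProduct.includeRight : A →ₐ[k] K ⊗[k] A).toLinearMap)
      bijective_liftBaseChange_includeRight
  have hΨP : Function.Bijective ΨP := by
    have h1 := bijective_sum_basis_smul β P.subtype hbij
    let t : (Fin n → PA) ≃ (Fin n → P) :=
      ⟨fun w i => ⟨(w i).1, (w i).2⟩, fun w i => ⟨(w i).1, (w i).2⟩, fun w => rfl, fun w => rfl⟩
    exact h1.comp t.bijective
  let e : (Fin n → PA) ≃ₗ[A] (Fin n → A) :=
    (LinearEquiv.ofBijective ΨP hΨP).trans (LinearEquiv.ofBijective ΨA hΨA).symm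
  haveI : Finite A := Module.finite_of_finite k
  haveI : Finite (K ⊗[k] A) := Module.finite_of_finite k
  haveI : Finite PA := Subtype.finite
  obtain ⟨φ⟩ := nonempty_linearEquiv_of_pi (R := A) n hnpos e
  refine ⟨(φ.symm 1 : K ⊗[k] A), (φ.symm 1).2, ?_⟩
  apply isUnit_of_mulRight_surjective K
  -- the range of right multiplication is a `K`-subspace containing `P`
  have hspan : Submodule.span K (P : Set (K ⊗[k] A)) = ⊤ := by
    have := LinearMap.range_eq_top.2 hbij.2
    rw [LinearMap.range_liftBaseChange] at this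
    rw [← this]
    congr 1
    ext m
    simp
  have hrange : ∀ m : K ⊗[k] A, m ∈ P →
      m ∈ LinearMap.range (LinearMap.mulRight K (φ.symm 1 : K ⊗[k] A)) := by
    intro m hm
    refine ⟨(1 : K) ⊗ₜ[k] (φ ⟨m, hm⟩), ?_⟩
    rw [LinearMap.mulRight_apply, ← hsmul, ← Submodule.coe_smul, ← map_smul, smul_eq_mul, mul_one,
      φ.symm_apply_apply]
  have htop : LinearMap.range (LinearMap.mulRight K (φ.symm 1 : K ⊗[k] A)) = ⊤ := by
    rw [_root_.eq_top_iff, ← hspan, Submodule.span_le]
    exact fun m hm => hrange m hm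
  intro m
  have := LinearMap.range_eq_top.1 htop m
  obtain ⟨y, hy⟩ := this
  exact ⟨y, hy⟩

end FiniteCase

end Groth.Agent.Lib.Helper14H90


namespace Groth.Agent.Lib.Helper14H90

open Groth.Agent.Lib.Helper23

section Main

variable {k : Type u} [Field k] {K : Type v} [Field K] [Algebra k K] [FiniteDimensional k K]
  [IsGalois k K] {A : Type w} [Ring A] [Algebra k A] [FiniteDimensional k A]

/-- the twisted action -/
noncomputable def tw (a : (K ≃ₐ[k] K) → (K ⊗[k] A)ˣ) (σ : K ≃ₐ[k] K) (m : K ⊗[k] A) : K ⊗[k] A :=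
  σ • m * ((a σ)⁻¹ : (K ⊗[k] A)ˣ)

theorem isSemilinearAction_tw (a : (K ≃ₐ[k] K) → (K ⊗[k] A)ˣ) (ha : GpH1.IsOneCocycle a) :
    IsSemilinearAction (tw a) := by
  have h1 : a 1 = 1 := by
    have h := ha 1 1
    rw [one_smul, mul_one] at h
    exact (mul_eq_left.mp h.symm)
  refine ⟨fun σ x y => ?_, fun σ c x => ?_, fun σ τ x => ?_, fun x => ?_⟩
  · simp only [tw, smul_add, add_mul]
  · simp only [tw]
    rw [smul_distrib_smul σ c x, AlgEquiv.smul_def, smul_mul_assoc]
  · simp only [tw]
    rw [ha σ τ, mul_inv_rev, Units.val_mul, smul_mul', mul_smul, mul_assoc]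
    congr 2
  · simp only [tw]
    rw [h1, one_smul, inv_one, Units.val_one, mul_one]

/-- the fixed points of the twisted action -/
noncomputable def fixedSub (a : (K ≃ₐ[k] K) → (K ⊗[k] A)ˣ) : Submodule k (K ⊗[k] A) where
  carrier := {m | ∀ σ, tw a σ m = m}
  add_mem' := fun {x y} hx hy σ => by
    simp only [tw, smul_add, add_mul]
    rw [← tw, ← tw, hx σ, hy σ]
  zero_mem' := fun σ => by simp [tw]
  smul_mem' := fun r m hm σ => by
    have h1 : r • m = (algebraMap k K r) • m := (algebraMap_smul K r m).symm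
    simp only [tw]
    rw [h1, smul_distrib_smul σ (algebraMap k K r) m, AlgEquiv.smul_def, AlgEquiv.commutes,
      smul_mul_assoc]
    congr 1
    exact hm σ

theorem main (a : (K ≃ₐ[k] K) → (K ⊗[k] A)ˣ) (ha : GpH1.IsOneCocycle a) :
    ∃ c : (K ⊗[k] A)ˣ, ∀ σ : K ≃ₐ[k] K, a σ = c⁻¹ * σ • c := by
  classical
  have hρ := isSemilinearAction_tw a ha
  set P := fixedSub a with hP
  have hbij : Function.Bijective (P.subtype.liftBaseChange K) :=
    hρ.bijective_liftBaseChange P.subtype Subtype.val_injective (fun x => by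
      constructor
      · rintro ⟨y, rfl⟩
        exact y.2
      · intro hx
        exact ⟨⟨x, hx⟩, rfl⟩)
  have hstab : ∀ (y : A) (m : K ⊗[k] A), m ∈ P → ((1 : K) ⊗ₜ[k] y) * m ∈ P := by
    intro y m hm σ
    simp only [tw]
    rw [smul_mul', TensorProduct.smul_tmul', smul_one, mul_assoc]
    congr 1
    exact hm σ
  have hspan : Submodule.span K (P : Set (K ⊗[k] A)) = ⊤ := by
    have := LinearMap.range_eq_top.2 hbij.2
    rw [LinearMap.range_liftBaseChange] at this
    rw [← this]
    congr 1
    ext m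
    simp
  obtain ⟨b, hbP, hb⟩ : ∃ b ∈ P, IsUnit b := by
    rcases finite_or_infinite k with hfin | hinf
    · exact exists_isUnit_mem_of_finite P hstab hbij
    · exact exists_isUnit_mem_of_infinite P hspan
  refine ⟨hb.unit, fun σ => ?_⟩
  have h1 : σ • b * ((a σ)⁻¹ : (K ⊗[k] A)ˣ) = b := hbP σ
  apply Units.ext
  rw [Units.val_mul]
  have h2 : ((σ • hb.unit : (K ⊗[k] A)ˣ) : K ⊗[k] A) = σ • b := rfl
  rw [h2]
  have h3 : σ • b = b * (a σ : K ⊗[k] A) := by
    have h5 := congrArg (fun z => z * (a σ : K ⊗[k] A)) h1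
    simp only [mul_assoc, Units.inv_mul, mul_one] at h5
    exact h5
  rw [h3, ← mul_assoc]
  have h4 : ((hb.unit⁻¹ : (K ⊗[k] A)ˣ) : K ⊗[k] A) * b = 1 := by
    exact hb.unit.inv_mul
  rw [h4, one_mul]

end Main

end Groth.Agent.Lib.Helper14H90


namespace Groth.Agent.Lib.Helper14H90

theorem main' (k : Type u) [Field k] (K : Type v)
    [Field K] [Algebra k K] [FiniteDimensional k K] [IsGalois k K]
    (A : Type w) [Ring A] [Algebra k A] [FiniteDimensional k A] :
    GpH1.H1.IsTrivial (K ≃ₐ[k] K) (K ⊗[k] A)ˣ := by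
  intro x
  obtain ⟨a, rfl⟩ := GpH1.OneCocycle.cl_surjective x
  rw [GpH1.H1.pt, GpH1.OneCocycle.cl_eq_cl_iff]
  obtain ⟨c, hc⟩ := main a.1 a.2
  refine ⟨c, fun σ => ?_⟩
  show a.1 σ = c⁻¹ * 1 * σ • c
  rw [mul_one]
  exact hc σ

end Groth.Agent.Lib.Helper14H90
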