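import Mathlib
import Groth.Agent.Lib.Helper5LocDL
import Groth.Agent.S14388
import Groth.Agent.S0973

/-!
# Dévissage of the condition `LZ` along truncations (helper5)

* `LZ_shift_one`, `LZ_unshift`: shifting the source.
* `LZ_of_homology`: `LZ ω p s Y` for a bounded `Y` follows from `LZ ω p (s + i) (H^i Y)` for all `i`.
* `LZ_lowest`: for `ω` dualizing with cohomology in `[-d, 0]` and `W = H^{-d}(ω)`, vanishing of
  `Ext^{j-d}(W, ω)_p` for `j ≠ 0`, `ht p ≤ j + 1`.
-/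

set_option autoImplicit false
universe u
open CategoryTheory CategoryTheory.Limits
attribute [local instance] HasDerivedCategory.standard

namespace Groth.Agent.Lib.Helper5.LocD

open DerivedCategory Pretriangulated
open Groth.Agent.Lib.Helper5.DualDim Groth.Agent.S14388

variable {A : Type u} [CommRing A]

section Shift

variable {ω : Dual.D A} {p : Ideal A}

lemma LZ_shift_one {X : Dual.D A} (k j : ℤ) (h : LZ ω p (j - k) X) : LZ ω p j (X⟦k⟧) := by
  intro t
  let α : ω⟦j⟧ ≅ (ω⟦j - k⟧)⟦k⟧ :=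
    (shiftFunctorAdd' (DerivedCategory (ModuleCat.{u} A)) (j - k) k j (by lia)).app ω
  obtain ⟨t', ht'⟩ := (shiftFunctor (DerivedCategory (ModuleCat.{u} A)) k).map_surjective
    (t ≫ α.hom)
  obtain ⟨s, hs, hst⟩ := h t'
  refine ⟨s, hs, ?_⟩
  have h1 : (s • t) ≫ α.hom = 0 := by
    rw [Linear.smul_comp, ← ht', ← Functor.map_smul, hst, Functor.map_zero]
  exact (cancel_mono α.hom).mp (h1.trans zero_comp.symm)

lemma LZ_unshift {X : Dual.D A} (k j : ℤ) (h : LZ ω p j (X⟦k⟧)) : LZ ω p (j - k) X := by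
  have h1 : LZ ω p (j - k - -k) (X⟦k⟧) := by
    rw [show j - k - -k = j by ring]
    exact h
  exact LZ.of_iso (shiftShiftNeg X k) (LZ_shift_one (-k) (j - k) h1)

end Shift

section Devissage

variable (ω : Dual.D A)

theorem LZ_of_homology (p : Ideal A) [hp : p.IsPrime] (s : ℤ) (k : ℕ) :
    ∀ (Y : Dual.D A) (a : ℤ),
      (∀ i : ℤ, i < a → IsZero ((homologyFunctor (ModuleCat.{u} A) i).obj Y)) →
      (∀ i : ℤ, a + k ≤ i → IsZero ((homologyFunctor (ModuleCat.{u} A) i).obj Y)) →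
      (∀ i : ℤ, a ≤ i → i < a + k → LZ ω p (s + i) (Dual.inD A (Dual.HD A Y i))) →
      LZ ω p s Y := by
  induction k with
  | zero =>
    intro Y a hlo hhi _
    haveI : Y.IsGE a := (DerivedCategory.isGE_iff Y a).mpr hlo
    haveI : Y.IsLE (a - 1) :=
      (DerivedCategory.isLE_iff Y (a - 1)).mpr fun i hi => hhi i (by push_cast; lia)
    exact LZ.of_isZero hp.ne_top (tt.isZero Y (a - 1) a (by lia))
  | succ k ih =>
    intro Y a hlo hhi hLZ
    have hT := tt.triangleLTGE_distinguished (a + k) Y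
    -- the lower piece
    have iso1 : ∀ i : ℤ, i < a + k →
        ((homologyFunctor (ModuleCat.{u} A) i).obj ((tt.truncLT (a + k)).obj Y) ≅
          (homologyFunctor (ModuleCat.{u} A) i).obj Y) := fun i hi => by
      haveI := isIso_homology_truncLTι (a + k) i hi Y
      exact asIso ((homologyFunctor (ModuleCat.{u} A) i).map ((tt.truncLTι (a + k)).app Y))
    have h1 : LZ ω p s ((tt.truncLT (a + k)).obj Y) := by
      refine ih _ a (fun i hi => (hlo i hi).of_iso (iso1 i (by lia))) (fun i hi => ?_)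
        (fun i hai hik => ?_)
      · exact isZero_of_isLE ((tt.truncLT (a + k)).obj Y) (a + k - 1) i (by lia)
      · exact LZ.of_iso ((singleFunctor (ModuleCat.{u} A) 0).mapIso (iso1 i hik).symm)
          (hLZ i hai (by push_cast; lia))
    -- the top piece
    have iso3 : ∀ i : ℤ, a + k ≤ i →
        ((homologyFunctor (ModuleCat.{u} A) i).obj Y ≅
          (homologyFunctor (ModuleCat.{u} A) i).obj ((tt.truncGE (a + k)).obj Y)) :=
      fun i hi => by
        haveI := isIso_homology_truncGEπ (a + k) i hi Y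
        exact asIso ((homologyFunctor (ModuleCat.{u} A) i).map ((tt.truncGEπ (a + k)).app Y))
    haveI : ((tt.truncGE (a + k)).obj Y).IsLE (a + k) :=
      (DerivedCategory.isLE_iff _ (a + k)).mpr fun i hi =>
        (hhi i (by push_cast; lia)).of_iso (iso3 i (by lia)).symm
    haveI : ((tt.truncGE (a + k)).obj Y).IsGE (a + k) := inferInstance
    obtain ⟨e3⟩ := Groth.Agent.S0973.iso_single_of_amp ((tt.truncGE (a + k)).obj Y) (a + k)
    have h3 : LZ ω p s ((tt.truncGE (a + k)).obj Y) := by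
      have h4 : LZ ω p (s - -(a + k)) (Dual.inD A (Dual.HD A Y (a + k))) := by
        rw [show s - -(a + (k : ℤ)) = s + (a + k) by ring]
        exact hLZ (a + k) (by lia) (by push_cast; lia)
      have h5 := LZ_shift_one (-(a + (k : ℤ))) s h4
      let e4 : (Dual.inD A (Dual.HD A Y (a + k)))⟦-(a + (k : ℤ))⟧ ≅
          (singleFunctor (ModuleCat.{u} A) (a + k)).obj
            ((homologyFunctor (ModuleCat.{u} A) (a + k)).obj Y) :=
        ((DerivedCategory.singleFunctors (ModuleCat.{u} A)).shiftIso (-(a + (k : ℤ))) (a + k) 0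
          (by lia)).app ((homologyFunctor (ModuleCat.{u} A) (a + k)).obj Y)
      exact LZ.of_iso (e4 ≪≫
        (singleFunctor (ModuleCat.{u} A) (a + k)).mapIso (iso3 (a + k) le_rfl) ≪≫ e3.symm) h5
    exact LZ.of_triangle _ hT h1 h3

end Devissage

section Lowest

variable [IsNoetherianRing A] (ω : Dual.D A) (hω : Dual.IsDualizing A ω)
  (δ : PrimeSpectrum A → ℤ)
  (h1 : ∀ (p : PrimeSpectrum A) (i : ℤ),
    Nontrivial (LocalizedModule p.asIdeal.primeCompl
      (Dual.inD A (A ⧸ p.asIdeal) ⟶ ω⟦i⟧)) ↔ i = -δ p)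

include hω h1 in
theorem LZ_lowest (d : ℕ)
    (hlow : ∀ i : ℤ, i < -(d : ℤ) → IsZero ((homologyFunctor (ModuleCat.{u} A) i).obj ω))
    (hhigh : ∀ i : ℤ, 0 < i → IsZero ((homologyFunctor (ModuleCat.{u} A) i).obj ω))
    (p : PrimeSpectrum A) (hh : ℤ) (hδ : δ p + hh = d) (j : ℤ) (hj0 : j ≠ 0) (hj : hh ≤ j + 1) :
    LZ ω p.asIdeal (j - d) (Dual.inD A (Dual.HD A ω (-(d : ℤ)))) := by
  haveI := p.isPrime
  have hT := tt.triangleLTGE_distinguished (-(d : ℤ) + 1) ω
  have isoX : ∀ i : ℤ, i < -(d : ℤ) + 1 →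
      ((homologyFunctor (ModuleCat.{u} A) i).obj ((tt.truncLT (-(d : ℤ) + 1)).obj ω) ≅
        (homologyFunctor (ModuleCat.{u} A) i).obj ω) := fun i hi => by
    haveI := isIso_homology_truncLTι (-(d : ℤ) + 1) i hi ω
    exact asIso ((homologyFunctor (ModuleCat.{u} A) i).map ((tt.truncLTι (-(d : ℤ) + 1)).app ω))
  have isoY : ∀ i : ℤ, -(d : ℤ) + 1 ≤ i →
      ((homologyFunctor (ModuleCat.{u} A) i).obj ω ≅
        (homologyFunctor (ModuleCat.{u} A) i).obj ((tt.truncGE (-(d : ℤ) + 1)).obj ω)) :=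
    fun i hi => by
      haveI := isIso_homology_truncGEπ (-(d : ℤ) + 1) i hi ω
      exact asIso ((homologyFunctor (ModuleCat.{u} A) i).map
        ((tt.truncGEπ (-(d : ℤ) + 1)).app ω))
  -- the upper truncation
  have hY : LZ ω p.asIdeal (j + 1) ((tt.truncGE (-(d : ℤ) + 1)).obj ω) := by
    refine LZ_of_homology ω p.asIdeal (j + 1) d _ (-(d : ℤ) + 1)
      (fun i hi => isZero_of_isGE _ (-(d : ℤ) + 1) i hi) (fun i hi => ?_) (fun i hbi hik => ?_)
    · exact (hhigh i (by lia)).of_iso (isoY i (by lia)).symm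
    · haveI := hω.finite_cohomology i
      have h6 : LZ ω p.asIdeal (j + 1 + i) (Dual.inD A (Dual.HD A ω i)) :=
        LZ_of_gt ω hω p.asIdeal (-δ p) (fun i' hi' => LZ_quot_of_ne ω δ h1 p i' hi')
          (Dual.HD A ω i) (j + 1 + i) (by lia)
      exact LZ.of_iso ((singleFunctor (ModuleCat.{u} A) 0).mapIso (isoY i hbi)) h6
  -- `ω` itself
  have hω0 : LZ ω p.asIdeal j ω := by
    intro t
    haveI := hω.ext_self_subsingleton j hj0
    exact ⟨1, fun h => p.isPrime.ne_top ((Ideal.eq_top_iff_one _).mpr h),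
      Subsingleton.elim _ _⟩
  -- the lower truncation
  have hX : LZ ω p.asIdeal j ((tt.truncLT (-(d : ℤ) + 1)).obj ω) := by
    have hT' := inv_rot_of_distTriang _ hT
    have h7 : LZ ω p.asIdeal j (((tt.truncGE (-(d : ℤ) + 1)).obj ω)⟦(-1 : ℤ)⟧) :=
      LZ_shift_one (-1) j (by rw [show j - -1 = j + 1 by ring]; exact hY)
    exact LZ.of_triangle _ hT' h7 hω0
  haveI : ((tt.truncLT (-(d : ℤ) + 1)).obj ω).IsGE (-(d : ℤ)) :=
    (DerivedCategory.isGE_iff _ (-(d : ℤ))).mpr fun i hi =>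
      (hlow i hi).of_iso (isoX i (by lia))
  haveI : ((tt.truncLT (-(d : ℤ) + 1)).obj ω).IsLE (-(d : ℤ)) :=
    (DerivedCategory.isLE_iff _ (-(d : ℤ))).mpr fun i hi =>
      isZero_of_isLE ((tt.truncLT (-(d : ℤ) + 1)).obj ω) (-(d : ℤ) + 1 - 1) i (by lia)
  obtain ⟨eX⟩ := Groth.Agent.S0973.iso_single_of_amp ((tt.truncLT (-(d : ℤ) + 1)).obj ω)
    (-(d : ℤ))
  let e4 : (Dual.inD A (Dual.HD A ω (-(d : ℤ))))⟦(d : ℤ)⟧ ≅
      (singleFunctor (ModuleCat.{u} A) (-(d : ℤ))).obj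
        ((homologyFunctor (ModuleCat.{u} A) (-(d : ℤ))).obj ω) :=
    ((DerivedCategory.singleFunctors (ModuleCat.{u} A)).shiftIso (d : ℤ) (-(d : ℤ)) 0
      (by lia)).app ((homologyFunctor (ModuleCat.{u} A) (-(d : ℤ))).obj ω)
  have h8 : LZ ω p.asIdeal j ((Dual.inD A (Dual.HD A ω (-(d : ℤ))))⟦(d : ℤ)⟧) :=
    LZ.of_iso (eX ≪≫ (singleFunctor (ModuleCat.{u} A) (-(d : ℤ))).mapIso
      (isoX (-(d : ℤ)) (by lia)) ≪≫ e4.symm) hX
  exact LZ_unshift (d : ℤ) j h8

end Lowest

end Groth.Agent.Lib.Helper5.LocD
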