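import Mathlib
import Groth.Agent.Lib.Helper5TruncA
import Groth.Agent.Lib.Helper5DualMinB
import Groth.Agent.S0366

/-!
# The lowest cohomology module of a normalized dualizing complex (helper5)

`A` Noetherian local of dimension `d`, `ω` normalized dualizing, `W = H^{-d}(ω)`.
* `support_lowest`: `Supp W` is the union of the irreducible components of dimension `d`.
* `hasS2_lowest`: `W` satisfies `(S_2)`.
-/

set_option autoImplicit false
universe u
open CategoryTheory CategoryTheory.Limits
attribute [local instance] HasDerivedCategory.standard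

namespace Groth.Agent.Lib.Helper5.LocD

open DerivedCategory Pretriangulated
open Groth.Agent.Lib.Helper5.DualDim Groth.Agent.Lib.Helper5.DualMin
open Groth.Agent.Lib.Helper5.DualLocal

variable {A : Type u} [CommRing A] [IsLocalRing A] [IsNoetherianRing A]

section Delta

variable (δ : PrimeSpectrum A → ℤ)
  (h2 : ∀ p q : PrimeSpectrum A, p ⋖ q → δ p = δ q + 1)
  (h0 : δ (IsLocalRing.closedPoint A) = 0)

include h2 h0 in
lemma delta_le_dim (d : ℕ) (hd : ringKrullDim A = d) (q : PrimeSpectrum A) : δ q ≤ d := by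
  have h3 := ringKrullDim_quotient_eq δ h2 h0 q
  have h4 := ringKrullDim_quotient_le q.asIdeal
  rw [h3, hd, ← WithBot.coe_natCast, WithBot.coe_le_coe, Nat.cast_le] at h4
  have h6 := delta_nonneg δ h2 h0 q
  lia

include h2 in
/-- a chain of maximal length below `p` starts at a minimal prime -/
lemma exists_minimal_chain (p : PrimeSpectrum A) (hp : p ∈ Module.support A A) (e : ℕ)
    (he : Order.height (⟨p, hp⟩ : Module.support A A) = e) :
    ∃ q0 : PrimeSpectrum A, q0.asIdeal ∈ minimalPrimes A ∧ q0 ≤ p ∧ δ p + e ≤ δ q0 := by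
  obtain ⟨s, hlast, hlen⟩ := Order.exists_series_of_height_eq_coe _ he
  have hmin : IsMin s.head := by
    intro x hx
    by_contra hnot
    have hlt : x < s.head := lt_of_le_not_ge hx hnot
    have h3 : ((s.cons x hlt).length : ℕ∞) ≤ Order.height (s.cons x hlt).last :=
      Order.length_le_height_last
    rw [RelSeries.last_cons, hlast, he, RelSeries.cons_length, hlen] at h3
    have h4 : e + 1 ≤ e := by exact_mod_cast h3
    lia
  have hchain := delta_chain δ h2 (s.map Subtype.val (fun _ _ h => h))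
  rw [LTSeries.last_map, LTSeries.head_map, hlast] at hchain
  have hlen' : (s.map Subtype.val (fun _ _ h => h)).length = e := hlen
  rw [hlen'] at hchain
  refine ⟨(s.head).1, ?_, ?_, hchain⟩
  · refine ⟨⟨(s.head).1.isPrime, bot_le⟩, fun r hr hle => ?_⟩
    have hr' : (⟨r, hr.1⟩ : PrimeSpectrum A) ∈ Module.support A A :=
      CodepthOpen.mem_support_self (hq := hr.1) r
    have h5 : (⟨⟨r, hr.1⟩, hr'⟩ : Module.support A A) ≤ s.head := hle
    exact hmin h5
  · have h3 : s.head ≤ s.last := LTSeries.head_le_last s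
    rw [hlast] at h3
    exact h3

end Delta

section Main

variable (ω : Dual.D A) (hω : Dual.IsDualizing A ω) (hn : Dual.IsNormalized A ω)

include hω hn in
lemma isZero_HD_of_notMem (d : ℕ) (hd : ringKrullDim A = d) (i : ℤ)
    (hi : i < -(d : ℤ) ∨ 0 < i) :
    IsZero ((homologyFunctor (ModuleCat.{u} A) i).obj ω) := by
  have hsd : Module.supportDim A A = d := by rw [Module.supportDim_self_eq_ringKrullDim, hd]
  have h3 := (Groth.Agent.S0366.result A ω hω hn A d hsd i).1
  have h4 : Subsingleton (Dual.HD A ω i) := by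
    rw [← forall_eq_zero_iff_subsingleton_HD]
    intro g
    by_contra hg
    have hnt : Nontrivial (Dual.inD A A ⟶ ω⟦i⟧) := ⟨⟨g, 0, hg⟩⟩
    have := h3 hnt
    lia
  exact ModuleCat.isZero_of_subsingleton _

include hω hn in
theorem support_lowest (d : ℕ) (hd : ringKrullDim A = d) :
    Module.support A (Dual.HD A ω (-(d : ℤ))) =
      {p : PrimeSpectrum A | ∃ q ∈ minimalPrimes A, q ≤ p.asIdeal ∧
        ringKrullDim (A ⧸ q) = d} := by
  obtain ⟨δ, h1, h2⟩ := Groth.Agent.Lib.Helper5.DualDim.main A ω hω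
  have h0 := delta_closedPoint_eq_zero ω hn δ h1
  haveI : Module.Finite A (Dual.HD A ω (-(d : ℤ))) := hω.finite_cohomology _
  ext p
  constructor
  · intro hp
    haveI := p.isPrime
    have hpA : p ∈ Module.support A A := CodepthOpen.mem_support_self p.asIdeal
    have hnl : ¬ LZ ω p.asIdeal (-(d : ℤ)) (Dual.inD A A) := fun h =>
      (not_nontrivial_iff_subsingleton.mpr (subsingleton_loc_HD_of_LZ ω p.asIdeal (-(d : ℤ)) h))
        (Module.mem_support_iff.mp hp)
    have hmem : p ∈ Module.support A (Dual.inD A A ⟶ ω⟦-(d : ℤ)⟧) :=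
      (mem_support_hom_iff ω p _ _).mpr hnl
    obtain ⟨e, dd, hde, hsd, hdp, hht, hrange, hme, hmd⟩ := profile ω hω δ h1 h2 A p hpA
    have h3 := (hrange _ hmem).1
    obtain ⟨q0, hq0min, hq0le, hq0δ⟩ := exists_minimal_chain δ h2 p hpA e hht
    have h4 := delta_le_dim δ h2 h0 d hd q0
    have h5 : δ q0 = d := by lia
    refine ⟨q0.asIdeal, hq0min, hq0le, ?_⟩
    rw [ringKrullDim_quotient_eq δ h2 h0 q0, h5]
    simp
  · rintro ⟨q, hq, hqp, hqd⟩
    have hnt := (main_minimal ω hω hn q hq d hqd (-(d : ℤ))).mpr rfl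
    have hqs : (⟨q, hq.1.1⟩ : PrimeSpectrum A) ∈ Module.support A (Dual.HD A ω (-(d : ℤ))) :=
      Module.mem_support_iff.mpr hnt
    exact Module.mem_support_mono (show (⟨q, hq.1.1⟩ : PrimeSpectrum A) ≤ p from hqp) hqs

include hω hn in
theorem hasS2_lowest (d : ℕ) (hd : ringKrullDim A = d) :
    LocCoh.HasSk 2 A (Dual.HD A ω (-(d : ℤ))) := by
  obtain ⟨δ, h1, h2⟩ := Groth.Agent.Lib.Helper5.DualDim.main A ω hω
  have h0 := delta_closedPoint_eq_zero ω hn δ h1
  haveI : Module.Finite A (Dual.HD A ω (-(d : ℤ))) := hω.finite_cohomology _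
  rw [hasSk_iff_good]
  intro p
  by_cases hp : p ∈ Module.support A (Dual.HD A ω (-(d : ℤ)))
  · haveI := p.isPrime
    have hpA : p ∈ Module.support A A := CodepthOpen.mem_support_self p.asIdeal
    have hnl : ¬ LZ ω p.asIdeal (-(d : ℤ)) (Dual.inD A A) := fun h =>
      (not_nontrivial_iff_subsingleton.mpr (subsingleton_loc_HD_of_LZ ω p.asIdeal (-(d : ℤ)) h))
        (Module.mem_support_iff.mp hp)
    have hmem : p ∈ Module.support A (Dual.inD A A ⟶ ω⟦-(d : ℤ)⟧) :=
      (mem_support_hom_iff ω p _ _).mpr hnl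
    obtain ⟨e, dd, hde, hsd, hdp, hht, hrange, hme, hmd⟩ := profile ω hω δ h1 h2 A p hpA
    have h3 := (hrange _ hmem).1
    obtain ⟨q0, hq0min, hq0le, hq0δ⟩ := exists_minimal_chain δ h2 p hpA e hht
    have h4 := delta_le_dim δ h2 h0 d hd q0
    have hsum : δ p + e = d := by lia
    obtain ⟨eW, dW, hdeW, hsdW, hdpW, hhtW, hrangeW, hmeW, hmdW⟩ :=
      profile ω hω δ h1 h2 (Dual.HD A ω (-(d : ℤ))) p hp
    rw [mem_good_iff (Dual.HD A ω (-(d : ℤ))) 2 p eW dW hsdW hdpW]
    by_contra hcon
    have hlt : dW < min 2 eW := not_le.mp hcon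
    have heW : eW ≤ e := by
      have h5 : Order.height (⟨p, hp⟩ : Module.support A (Dual.HD A ω (-(d : ℤ)))) ≤
          Order.height (⟨p, hpA⟩ : Module.support A A) :=
        Order.height_le_height_apply_of_strictMono
          (fun x : Module.support A (Dual.HD A ω (-(d : ℤ))) =>
            (⟨x.1, CodepthOpen.mem_support_self (hq := x.1.isPrime) x.1.asIdeal⟩ :
              Module.support A A))
          (fun a b h => h) ⟨p, hp⟩
      rw [hhtW, hht] at h5
      exact_mod_cast h5
    have hdW1 : dW ≤ 1 := by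
      have := lt_of_lt_of_le hlt (min_le_left 2 eW)
      lia
    have hdWe : dW < eW := lt_of_lt_of_le hlt (min_le_right 2 eW)
    have hLZ := LZ_lowest ω hω δ h1 d
      (fun i hi => isZero_HD_of_notMem ω hω hn d hd i (Or.inl hi))
      (fun i hi => isZero_HD_of_notMem ω hω hn d hd i (Or.inr hi)) p e hsum ((e : ℤ) - dW)
      (by lia) (by lia)
    have hnl' := (mem_support_hom_iff ω p _ _).mp hmdW
    rw [show (e : ℤ) - dW - d = -δ p - dW by lia] at hLZ
    exact hnl' hLZ
  · exact mem_good_of_notMem_support _ 2 p hp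

end Main

end Groth.Agent.Lib.Helper5.LocD
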