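import Mathlib
import Groth.Agent.Lib.Helper14HDIF
import Groth.Agent.Lib.Helper5TruncB
import Groth.Agent.S1719
import Groth.Agent.S0333
import Groth.Agent.S0334
import Groth.Agent.S0973

/-! # `H^0_I(ω) = 0` implies `cd(A, I) < dim A` (helper14) -/

set_option autoImplicit false
set_option linter.unusedVariables false
set_option linter.unusedSectionVars false
set_option linter.style.haveILetI false

universe u

open CategoryTheory CategoryTheory.Limits Opposite CategoryTheory.Abelian DerivedCategory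
  Pretriangulated

attribute [local instance] HasDerivedCategory.standard

namespace Groth.Agent.Lib.Helper14.HDI

open Groth.Agent.S14388

variable {A : Type u} [CommRing A] [IsLocalRing A] [IsNoetherianRing A]
  (ω : Dual.D A) (hω : Dual.IsDualizing A ω) (hn : Dual.IsNormalized A ω)

include hω hn in
/-- an element outside the top-dimensional minimal primes killing the higher cohomology of `ω` -/
theorem exists_f (d : ℕ) (hd : ringKrullDim A = d) :
    ∃ f : A, (∀ p ∈ minimalPrimes A, ringKrullDim (A ⧸ p) = d → f ∉ p) ∧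
      ∀ (j : ℤ), -(d : ℤ) < j → ∀ x : Dual.HD A ω j, f • x = 0 := by
  classical
  let P : Finset (Ideal A) :=
    (minimalPrimes.finite_of_isNoetherianRing A).toFinset.filter
      (fun p => ringKrullDim (A ⧸ p) = d)
  have hP : ∀ p, p ∈ P ↔ p ∈ minimalPrimes A ∧ ringKrullDim (A ⧸ p) = d := by
    intro p
    simp only [P, Finset.mem_filter, Set.Finite.mem_toFinset]
  let J : Ideal A := ∏ k ∈ Finset.range d, Module.annihilator A (Dual.HD A ω (-(k : ℤ)))
  have hJ : ¬ ((J : Set A) ⊆ ⋃ p ∈ (↑P : Set (Ideal A)), (p : Set A)) := by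
    intro hsub
    have hprime : ∀ p ∈ P, p ≠ (⊤ : Ideal A) → p ≠ (⊤ : Ideal A) → p.IsPrime :=
      fun p hp _ _ => ((hP p).mp hp).1.1.1
    obtain ⟨p, hpP, hJp⟩ := (Ideal.subset_union_prime (s := P) (f := fun p => p) ⊤ ⊤ hprime).mp hsub
    obtain ⟨hpmin, hpd⟩ := (hP p).mp hpP
    haveI hpp : p.IsPrime := hpmin.1.1
    obtain ⟨k, hk, hkp⟩ := (Ideal.IsPrime.prod_le hpp).mp hJp
    haveI : Module.Finite A (Dual.HD A ω (-(k : ℤ))) := hω.finite_cohomology _
    have hsupp : (⟨p, hpp⟩ : PrimeSpectrum A) ∈ Module.support A (Dual.HD A ω (-(k : ℤ))) :=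
      Module.mem_support_iff_of_finite.mpr hkp
    have hnt := Module.mem_support_iff.mp hsupp
    have := (Groth.Agent.S1719.result A ω hω hn p hpmin d hpd (-(k : ℤ))).mp hnt
    have hk' := Finset.mem_range.mp hk
    lia
  obtain ⟨f, hfJ, hfP⟩ := Set.not_subset.mp hJ
  refine ⟨f, fun p hp hpd hfp => hfP ?_, fun j hj x => ?_⟩
  · exact Set.mem_biUnion (show p ∈ (↑P : Set (Ideal A)) from (hP p).mpr ⟨hp, hpd⟩) hfp
  · by_cases hj0 : 0 < j
    · haveI : Subsingleton (Dual.HD A ω j) := ModuleCat.subsingleton_of_isZero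
        (Groth.Agent.Lib.Helper5.LocD.isZero_HD_of_notMem ω hω hn d hd j (Or.inr hj0))
      exact Subsingleton.elim _ _
    · obtain ⟨k, hk⟩ : ∃ k : ℕ, (k : ℤ) = -j := ⟨(-j).toNat, Int.toNat_of_nonneg (by lia)⟩
      have hkd : k ∈ Finset.range d := Finset.mem_range.mpr (by lia)
      have h1 : J ≤ Module.annihilator A (Dual.HD A ω (-(k : ℤ))) :=
        Ideal.prod_le_inf.trans (Finset.inf_le hkd)
      have h2 := h1 hfJ
      have hjk : j = -(k : ℤ) := by lia
      subst hjk
      exact Module.mem_annihilator.mp h2 x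


lemma exists_nat_dim : ∃ d : ℕ, ringKrullDim A = (d : WithBot ℕ∞) := by
  have hne_top : ringKrullDim A ≠ ⊤ := ringKrullDim_ne_top
  have hne_bot : ringKrullDim A ≠ ⊥ := ringKrullDim_ne_bot
  obtain ⟨e, he⟩ := WithBot.ne_bot_iff_exists.mp hne_bot
  have he' : e ≠ ⊤ := by
    rintro rfl
    exact hne_top he.symm
  obtain ⟨d, rfl⟩ := ENat.ne_top_iff_exists.mp he'
  exact ⟨d, he.symm⟩

include hω hn in
/-- the top local cohomology of the lowest cohomology module of `ω` vanishes if `H^0_I(ω) = 0` -/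
theorem top_vanishing (I : Ideal A) (h0 : Subsingleton (Dual2.HDI A I ω 0)) (d : ℕ)
    (hd : ringKrullDim A = d) :
    Subsingleton (LocCoh.H I d (Dual.HD A ω (-(d : ℤ)))) := by
  obtain ⟨f, hf1, hf2⟩ := exists_f ω hω hn d hd
  obtain ⟨c, hc⟩ : ∃ c : ℤ, c = -(d : ℤ) + 1 := ⟨_, rfl⟩
  have hT := tt.triangleLTGE_distinguished c ω
  -- the upper truncation is bounded and its cohomology is killed by `f`
  have hCK : ∀ i : ℤ, (i < c ∨ 0 < i) →
      IsZero ((homologyFunctor (ModuleCat.{u} A) i).obj ((tt.truncGE c).obj ω)) := by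
    intro i hi
    rcases hi with hi | hi
    · exact ((tt.truncGE c).obj ω).isZero_of_isGE c i hi
    · by_cases hic : i < c
      · exact ((tt.truncGE c).obj ω).isZero_of_isGE c i hic
      · have := isIso_homology_truncGEπ c i (by lia) ω
        exact (Groth.Agent.Lib.Helper5.LocD.isZero_HD_of_notMem ω hω hn d hd i (Or.inr hi)).of_iso
          (asIso ((homologyFunctor (ModuleCat.{u} A) i).map ((tt.truncGEπ c).app ω))).symm
  have hCf : ∀ (j : ℤ) (x : (homologyFunctor (ModuleCat.{u} A) j).obj ((tt.truncGE c).obj ω)),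
      f • x = 0 := by
    intro j x
    by_cases hj : j < c
    · haveI := ModuleCat.subsingleton_of_isZero (hCK j (Or.inl hj))
      exact Subsingleton.elim _ _
    · have := isIso_homology_truncGEπ c j (by lia) ω
      let e := asIso ((homologyFunctor (ModuleCat.{u} A) j).map ((tt.truncGEπ c).app ω))
      have hx : x = e.hom.hom (e.inv.hom x) := by
        have := congrArg (fun g => g.hom x) e.inv_hom_id
        exact this.symm
      rw [hx, ← map_smul]
      have h2 : f • (e.inv.hom x) = 0 := hf2 j (by lia) _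
      rw [h2, map_zero]
  obtain ⟨N, hN⟩ := killedBy_of_bounded I f ((tt.truncGE c).obj ω) c 0 hCK hCf
  -- `F0 I ω` vanishes
  have hω0 : Subsingleton (F0 I ω) := by
    have hb := F0map_iso_bijective I ((shiftFunctorZero (Dual.D A) ℤ).app ω)
    haveI : Subsingleton (F0 I (ω⟦(0 : ℤ)⟧)) := h0
    exact hb.2.subsingleton
  -- `f ^ N` kills `F0 I` of the lower truncation
  have hL : ∀ z : F0 I ((tt.truncLT c).obj ω), f ^ N • z = 0 := by
    intro z
    have hI := inv_rot_of_distTriang _ hT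
    have hz : (F0map I ((tt.triangleLTGE c).obj ω).invRotate.mor₂).hom z = 0 :=
      @Subsingleton.elim _ hω0 _ _
    obtain ⟨y, hy⟩ := F0_exact I _ hI z hz
    have hy0 : f ^ N • y = 0 := hN (-1) y
    have h3 := F0map_smul_apply I ((tt.triangleLTGE c).obj ω).invRotate.mor₁ (f ^ N) y
    rw [hy0, map_zero, hy] at h3
    exact h3.symm
  -- the lower truncation is the lowest cohomology module placed in degree `-d`
  haveI hLE : ((tt.truncLT c).obj ω).IsLE (-(d : ℤ)) := by
    have h1 : tt.IsLE ((tt.truncLT c).obj ω) (c - 1) := inferInstance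
    have h2 : c - 1 = -(d : ℤ) := by lia
    rwa [h2] at h1
  haveI hGE : ((tt.truncLT c).obj ω).IsGE (-(d : ℤ)) := by
    rw [DerivedCategory.isGE_iff]
    intro i hi
    have := isIso_homology_truncLTι c i (by lia) ω
    exact (Groth.Agent.Lib.Helper5.LocD.isZero_HD_of_notMem ω hω hn d hd i (Or.inl hi)).of_iso
      (asIso ((homologyFunctor (ModuleCat.{u} A) i).map ((tt.truncLTι c).app ω)))
  obtain ⟨eL⟩ := Groth.Agent.S0973.iso_single_of_amp ((tt.truncLT c).obj ω) (-(d : ℤ))
  have hiso := isIso_homology_truncLTι c (-(d : ℤ)) (by lia) ω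
  let W : ModuleCat.{u} A := (homologyFunctor (ModuleCat.{u} A) (-(d : ℤ))).obj ω
  let eH : (homologyFunctor (ModuleCat.{u} A) (-(d : ℤ))).obj ((tt.truncLT c).obj ω) ≅ W :=
    asIso ((homologyFunctor (ModuleCat.{u} A) (-(d : ℤ))).map ((tt.truncLTι c).app ω))
  let e1 : (tt.truncLT c).obj ω ≅ (singleFunctor (ModuleCat.{u} A) (-(d : ℤ))).obj W :=
    eL ≪≫ (singleFunctor (ModuleCat.{u} A) (-(d : ℤ))).mapIso eH
  let e2 : (sg' W)⟦(d : ℤ)⟧ ≅ (singleFunctor (ModuleCat.{u} A) (-(d : ℤ))).obj W :=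
    ((singleFunctors (ModuleCat.{u} A)).shiftIso (d : ℤ) (-(d : ℤ)) 0 (by ring)).app W
  have hW : ∀ z : F0 I ((sg' W)⟦(d : ℤ)⟧), f ^ N • z = 0 := by
    intro z
    obtain ⟨y, rfl⟩ := (F0map_iso_bijective I (e1 ≪≫ e2.symm)).2 z
    rw [← F0map_smul_apply, hL y, map_zero]
  have hH : ∀ z : (localCohomology I d).obj W, f ^ N • z = 0 := smul_H_eq_zero I d W (f ^ N) hW
  -- `f` acts surjectively
  haveI : Module.Finite A (Dual.HD A ω (-(d : ℤ))) := hω.finite_cohomology _
  have hsurj := Groth.Agent.S0334.result A I d hd f hf1 (Dual.HD A ω (-(d : ℤ)))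
  have hpow : ∀ (n : ℕ) (x : LocCoh.H I d (Dual.HD A ω (-(d : ℤ)))),
      ∃ y : LocCoh.H I d (Dual.HD A ω (-(d : ℤ))), f ^ n • y = x := by
    intro n
    induction n with
    | zero => exact fun x => ⟨x, by rw [pow_zero, one_smul]⟩
    | succ n ih =>
      intro x
      obtain ⟨y, hy⟩ := ih x
      obtain ⟨y', hy'⟩ := hsurj y
      refine ⟨y', ?_⟩
      have hy'' : f • y' = y := hy'
      rw [pow_succ, mul_smul, hy'', hy]
  refine ⟨fun x y => ?_⟩
  obtain ⟨x', rfl⟩ := hpow N x
  obtain ⟨y', rfl⟩ := hpow N y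
  have hx := hH x'
  have hy := hH y'
  exact hx.trans hy.symm

include hω hn in
/-- **`H^0_I(ω) = 0` implies `cd(A, I) < dim A`.** -/
theorem cd_lt_dim (I : Ideal A) (h0 : Subsingleton (Dual2.HDI A I ω 0))
    (M : Type u) [AddCommGroup M] [Module A M] (i : ℕ)
    (hi : ringKrullDim A ≤ (i : WithBot ℕ∞)) : Subsingleton (LocCoh.H I i M) := by
  obtain ⟨d, hd⟩ := exists_nat_dim (A := A)
  have hdi : d ≤ i := by
    rw [hd] at hi
    exact_mod_cast hi
  haveI : Module.Finite A (Dual.HD A ω (-(d : ℤ))) := hω.finite_cohomology _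
  refine Groth.Agent.S0333.result A I d hd (Dual.HD A ω (-(d : ℤ))) ?_
    (top_vanishing ω hω hn I h0 d hd) M i hdi
  intro p hp hpd hpp
  rw [Groth.Agent.Lib.Helper5.LocD.support_lowest ω hω hn d hd]
  exact ⟨p, hp, le_rfl, hpd⟩

end Groth.Agent.Lib.Helper14.HDI
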