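import Mathlib
import Groth.Agent.Lib.Helper14HDIH
import Groth.Agent.Lib.Helper14HDID
import Groth.Agent.Lib.Helper5TruncB
import Groth.Agent.S0316

/-! # Local duality for complexes with finite cohomology over a complete local ring (helper14) -/

set_option autoImplicit false
set_option linter.unusedVariables false
set_option linter.unusedSectionVars false
set_option linter.style.haveILetI false
set_option maxHeartbeats 400000

universe u

open CategoryTheory CategoryTheory.Limits Opposite CategoryTheory.Abelian DerivedCategory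
  Pretriangulated

attribute [local instance] HasDerivedCategory.standard

namespace Groth.Agent.Lib.Helper14.HDI

open Groth.Agent.Lib.Helper5.DualFL Groth.Agent.Lib.Helper14.LDual

variable {A : Type u} [CommRing A] [IsLocalRing A] [IsNoetherianRing A]
  (ω : Dual.D A) (hω : Dual.IsDualizing A ω) (hn : Dual.IsNormalized A ω)
  {Eh : Type u} [AddCommGroup Eh] [Module A Eh]
  (f : IsLocalRing.ResidueField A →ₗ[A] Eh) (hf : InjHull.IsInjectiveHull f)

local notation "𝔪" => IsLocalRing.maximalIdeal A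

section FinT

/-- finiteness of `Hom(K[n], ω)` for all `n` -/
def FinT (K : Dual.D A) : Prop := ∀ n : ℤ, Module.Finite A (K⟦n⟧ ⟶ ω)

theorem finT_of_iso {K L : Dual.D A} (e : K ≅ L) (h : FinT ω K) : FinT ω L := by
  intro n
  haveI := h n
  refine Module.Finite.of_surjective (Linear.leftComp A ω ((shiftFunctor (Dual.D A) n).map e.inv))
    (fun t => ⟨(shiftFunctor (Dual.D A) n).map e.hom ≫ t, ?_⟩)
  show (shiftFunctor (Dual.D A) n).map e.inv ≫ (shiftFunctor (Dual.D A) n).map e.hom ≫ t = t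
  rw [← Category.assoc, ← Functor.map_comp, e.inv_hom_id, CategoryTheory.Functor.map_id,
    Category.id_comp]

theorem finT_of_isZero {K : Dual.D A} (hK : IsZero K) : FinT ω K := by
  intro n
  have hz : IsZero (K⟦n⟧) := (shiftFunctor (Dual.D A) n).map_isZero hK
  haveI : Subsingleton (K⟦n⟧ ⟶ ω) := ⟨fun t t' => hz.eq_of_src _ _⟩
  infer_instance

lemma finite_mid (S : Triangle (Dual.D A)) (hS : S ∈ distTriang (Dual.D A))
    (h1 : Module.Finite A (S.obj₁ ⟶ ω)) (h3 : Module.Finite A (S.obj₃ ⟶ ω)) :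
    Module.Finite A (S.obj₂ ⟶ ω) := by
  haveI : IsNoetherian A (S.obj₁ ⟶ ω) := isNoetherian_of_isNoetherianRing_of_finite A _
  haveI : IsNoetherian A (S.obj₃ ⟶ ω) := isNoetherian_of_isNoetherianRing_of_finite A _
  haveI : IsNoetherian A (S.obj₂ ⟶ ω) :=
    isNoetherian_of_range_eq_ker (Linear.leftComp A ω S.mor₂) (Linear.leftComp A ω S.mor₁) (by
      ext t
      constructor
      · rintro ⟨s, rfl⟩
        show S.mor₁ ≫ S.mor₂ ≫ s = 0
        rw [← Category.assoc, comp_distTriang_mor_zero₁₂ S hS, zero_comp]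
      · intro ht
        obtain ⟨s, hs⟩ := Triangle.yoneda_exact₂ S hS t ht
        exact ⟨s, hs.symm⟩)
  infer_instance

theorem finT_ext (T : Triangle (Dual.D A)) (hT : T ∈ distTriang (Dual.D A))
    (h1 : FinT ω T.obj₁) (h3 : FinT ω T.obj₃) : FinT ω T.obj₂ := by
  intro n
  exact finite_mid ω _ (Triangle.shift_distinguished T hT n) (h1 n) (h3 n)

include hω in
theorem finT_single (N : ModuleCat.{u} A) [Module.Finite A N] (j : ℤ) :
    FinT ω ((singleFunctor (ModuleCat.{u} A) j).obj N) := by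
  intro n
  have e1 : ((singleFunctor (ModuleCat.{u} A) j).obj N)⟦n⟧ ≅
      (singleFunctor (ModuleCat.{u} A) (j - n)).obj N :=
    ((singleFunctors (ModuleCat.{u} A)).shiftIso n (j - n) j (by ring)).app N
  have e2 : (sg N)⟦n - j⟧ ≅ (singleFunctor (ModuleCat.{u} A) (j - n)).obj N :=
    ((singleFunctors (ModuleCat.{u} A)).shiftIso (n - j) (j - n) 0 (by ring)).app N
  haveI : Module.Finite A (T ω (-(n - j)) N) := finite_T ω hω _ N
  haveI : Module.Finite A ((sg N)⟦n - j⟧ ⟶ ω) :=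
    Module.Finite.of_surjective (θ (sg N) ω (n - j)) (θ_bijective (sg N) ω (n - j)).2
  refine Module.Finite.of_surjective (Linear.leftComp A ω (e1.hom ≫ e2.inv))
    (fun t => ⟨(e2.hom ≫ e1.inv) ≫ t, ?_⟩)
  show (e1.hom ≫ e2.inv) ≫ (e2.hom ≫ e1.inv) ≫ t = t
  simp

include hω in
theorem finT_of_bounded (K : Dual.D A) (a b : ℤ)
    (hK : ∀ i : ℤ, (i < a ∨ b < i) → IsZero ((homologyFunctor (ModuleCat.{u} A) i).obj K))
    (hfin : ∀ i : ℤ, Module.Finite A ((homologyFunctor (ModuleCat.{u} A) i).obj K)) :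
    FinT ω K := by
  let P : ObjectProperty (Dual.D A) := fun K => FinT ω K
  haveI : P.IsClosedUnderIsomorphisms := ⟨fun e h => finT_of_iso ω e h⟩
  exact Groth.Agent.Lib.Helper1.Devissage.induction_homology' P
    (fun K hK => finT_of_isZero ω hK)
    (fun T hT h1 h3 => finT_ext ω T hT h1 h3) K a b hK
    (fun j _ _ => by
      haveI := hfin j
      exact finT_single ω hω _ j)

end FinT

section Matlis

variable [IsAdicComplete (IsLocalRing.maximalIdeal A) A]

include hf in
/-- Matlis biduality for a finite module in any universe -/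
theorem nonempty_biduality (T : Type*) [AddCommGroup T] [Module A T] [Module.Finite A T] :
    Nonempty (T ≃ₗ[A] ((T →ₗ[A] Eh) →ₗ[A] Eh)) := by
  obtain ⟨n, g, hg⟩ := Module.Finite.exists_fin' A T
  let e : ((Fin n → A) ⧸ LinearMap.ker g) ≃ₗ[A] T := g.quotKerEquivOfSurjective hg
  have hb := (Groth.Agent.S0316.result A Eh f hf ((Fin n → A) ⧸ LinearMap.ker g)).2
  let ev := LinearEquiv.ofBijective _ hb
  exact ⟨e.symm.trans (ev.trans
    ((e.arrowCongr (LinearEquiv.refl A Eh)).arrowCongr (LinearEquiv.refl A Eh)))⟩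

end Matlis

section Main

variable [IsAdicComplete (IsLocalRing.maximalIdeal A) A]

include hω hn hf in
/-- bounded case -/
theorem nonempty_duality_bounded (L : Dual.D A) (a b : ℤ)
    (hK : ∀ i : ℤ, (i < a ∨ b < i) → IsZero ((homologyFunctor (ModuleCat.{u} A) i).obj L))
    (hfin : ∀ i : ℤ, Module.Finite A ((homologyFunctor (ModuleCat.{u} A) i).obj L)) :
    Nonempty ((L ⟶ ω) ≃ₗ[A] (F0 𝔪 L →ₗ[A] Eh)) := by
  haveI := hf.isInjective
  have hPP : PP ω hω hn f hf L :=
    PP_of_bounded ω hω hn f hf L a b hK (fun j _ _ => by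
      haveI := hfin j
      exact PP_single ω hω hn f hf _ j)
  have hQ : Q ω hω hn f hf L :=
    Q_of_iso ω hω hn f hf ((shiftFunctorZero (Dual.D A) ℤ).app L) (hPP 0)
  haveI : Module.Finite A (L ⟶ ω) := by
    have h1 := finT_of_bounded ω hω L a b hK hfin 0
    exact Module.Finite.of_surjective
      (Linear.leftComp A ω ((shiftFunctorZero (Dual.D A) ℤ).inv.app L))
      (fun t => ⟨(shiftFunctorZero (Dual.D A) ℤ).hom.app L ≫ t, by
        show (shiftFunctorZero (Dual.D A) ℤ).inv.app L ≫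
          (shiftFunctorZero (Dual.D A) ℤ).hom.app L ≫ t = t
        simp⟩)
  obtain ⟨e1⟩ := nonempty_biduality f hf (L ⟶ ω)
  let e2 : F0 𝔪 L ≃ₗ[A] ((L ⟶ ω) →ₗ[A] Eh) := LinearEquiv.ofBijective _ hQ
  exact ⟨e1.trans (e2.arrowCongr (LinearEquiv.refl A Eh)).symm⟩

include hω hn hf in
/-- **Local duality over a complete local ring** for complexes with finite cohomology. -/
theorem nonempty_duality (K : Dual.D A) (hK : ∀ i : ℤ, Module.Finite A (Dual.HD A K i)) (i : ℤ) :
    Nonempty ((K ⟶ ω⟦-i⟧) ≃ₗ[A] (Dual2.HDI A 𝔪 K i →ₗ[A] Eh)) := by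
  obtain ⟨fs, hfs⟩ := Groth.Agent.Lib.Helper10.RGamA.exists_list_span 𝔪
  obtain ⟨R⟩ := Groth.Agent.Lib.Helper5.BiDual.nonempty_res ω hω
  obtain ⟨d, hd⟩ : ∃ d : ℕ, ringKrullDim A = (d : WithBot ℕ∞) := by
    have hne_top : ringKrullDim A ≠ ⊤ := ringKrullDim_ne_top
    have hne_bot : ringKrullDim A ≠ ⊥ := ringKrullDim_ne_bot
    obtain ⟨e, he⟩ := WithBot.ne_bot_iff_exists.mp hne_bot
    have he' : e ≠ ⊤ := by
      rintro rfl
      exact hne_top he.symm
    obtain ⟨d, rfl⟩ := ENat.ne_top_iff_exists.mp he'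
    exact ⟨d, he.symm⟩
  haveI : ω.IsGE (-(d : ℤ)) := by
    rw [DerivedCategory.isGE_iff]
    exact fun j hj => Groth.Agent.Lib.Helper5.LocD.isZero_HD_of_notMem ω hω hn d hd j (Or.inl hj)
  have hL : ∀ j : ℤ, Module.Finite A ((homologyFunctor (ModuleCat.{u} A) j).obj (K⟦i⟧)) := by
    intro j
    haveI := hK (i + j)
    let e : (homologyFunctor (ModuleCat.{u} A) j).obj (K⟦i⟧) ≅
        (homologyFunctor (ModuleCat.{u} A) (i + j)).obj K :=
      ((homologyFunctor (ModuleCat.{u} A) 0).shiftIso i j (i + j) rfl).app K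
    exact Module.Finite.equiv e.symm.toLinearEquiv
  have hmodel := exists_bounded_model ω R (-(d : ℤ)) fs (K⟦i⟧) hL
  rw [← hfs] at hmodel
  obtain ⟨L', a, b, hbd, hfin, ⟨E1⟩, ⟨E2⟩⟩ := hmodel
  obtain ⟨E3⟩ := nonempty_duality_bounded ω hω hn f hf L' a b hbd hfin
  let E0 : (K ⟶ ω⟦-i⟧) ≃ₗ[A] (K⟦i⟧ ⟶ ω) := LinearEquiv.ofBijective _ (θ_bijective K ω i)
  exact ⟨E0.trans (E1.trans (E3.trans (E2.arrowCongr (LinearEquiv.refl A Eh)).symm))⟩

end Main

end Groth.Agent.Lib.Helper14.HDI
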