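import Mathlib
import Groth.Agent.Lib.Helper14HDTH

/-! # Finiteness of the `J`-torsion of the first non-finite local cohomology (helper14)

If `H^j_T(L)` is finite for `j < n` then the submodule of `H^n_T(L)` killed by an ideal `J` with
`V(J) ⊆ T` is finitely generated. -/

set_option autoImplicit false
set_option linter.unusedVariables false
set_option linter.unusedSectionVars false
set_option linter.style.haveILetI false
set_option maxHeartbeats 400000

universe u

open CategoryTheory CategoryTheory.Limits Opposite DerivedCategory Pretriangulated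

attribute [local instance] HasDerivedCategory.standard

namespace Groth.Agent.Lib.Helper14.HFin

section Algebra

variable {A : Type u} [CommRing A] [IsNoetherianRing A]

/-- the `J`-torsion is transported by linear equivalences -/
theorem fg_torsionBySet_of_equiv {X Y : Type*} [AddCommGroup X] [Module A X] [AddCommGroup Y]
    [Module A Y] (e : X ≃ₗ[A] Y) (s : Set A) (h : (Submodule.torsionBySet A X s).FG) :
    (Submodule.torsionBySet A Y s).FG := by
  have h1 : Submodule.torsionBySet A Y s = (Submodule.torsionBySet A X s).map e.toLinearMap := by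
    ext y
    rw [Submodule.mem_torsionBySet_iff, Submodule.mem_map]
    constructor
    · intro hy
      refine ⟨e.symm y, ?_, e.apply_symm_apply y⟩
      rw [Submodule.mem_torsionBySet_iff]
      intro a
      rw [← map_smul, hy a, map_zero]
    · rintro ⟨x, hx, rfl⟩ a
      rw [Submodule.mem_torsionBySet_iff] at hx
      show (a : A) • e x = 0
      rw [← map_smul, hx a, map_zero]
  rw [h1]
  exact h.map _

/-- the `J`-torsion of the third term of an exact sequence `F → G → N`, when it lies in the image
of `G`, `F` is finite and the `J`-torsion of `G` is finitely generated -/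
theorem fg_torsionBySet_of_exact {F G N : Type*} [AddCommGroup F] [Module A F] [AddCommGroup G]
    [Module A G] [AddCommGroup N] [Module A N] (f : F →ₗ[A] G) (g : G →ₗ[A] N)
    (hfg : Function.Exact f g) [Module.Finite A F] (J : Ideal A)
    (hG : (Submodule.torsionBySet A G (J : Set A)).FG)
    (hN : Submodule.torsionBySet A N (J : Set A) ≤ LinearMap.range g) :
    (Submodule.torsionBySet A N (J : Set A)).FG := by
  classical
  obtain ⟨s, hs⟩ := (IsNoetherian.noetherian J : J.FG)
  set P : Submodule A G := (Submodule.torsionBySet A N (J : Set A)).comap g with hP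
  have hPmap : P.map g = Submodule.torsionBySet A N (J : Set A) :=
    Submodule.map_comap_eq_of_le hN
  rw [← hPmap]
  refine Submodule.FG.map _ ?_
  have hsJ : ∀ a ∈ s, a ∈ J := fun a ha => hs ▸ Submodule.subset_span ha
  have hPmem : ∀ p ∈ P, ∀ a ∈ J, g (a • p) = 0 := by
    intro p hp a ha
    have h1 : g p ∈ Submodule.torsionBySet A N (J : Set A) := hp
    rw [Submodule.mem_torsionBySet_iff] at h1
    rw [map_smul]
    exact h1 ⟨a, ha⟩
  let φ : G →ₗ[A] ({a : A // a ∈ s} → G) := LinearMap.pi fun a => (a : A) • LinearMap.id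
  have hφ : ∀ (z : G) (a : {a : A // a ∈ s}), φ z a = (a : A) • z := fun z a => rfl
  refine Submodule.fg_of_fg_map_of_fg_inf_ker φ ?_ ?_
  · -- the image lies in the image of a Noetherian module
    haveI : IsNoetherian A F := isNoetherian_of_isNoetherianRing_of_finite A F
    haveI : IsNoetherian A ({a : A // a ∈ s} → F) := isNoetherian_pi
    have hle : P.map φ ≤ LinearMap.range (f.compLeft {a : A // a ∈ s}) := by
      rintro w ⟨p, hp, rfl⟩
      have h1 : ∀ a : {a : A // a ∈ s}, ∃ y : F, f y = (a : A) • p := fun a =>
        (hfg _).mp (hPmem p hp a (hsJ a a.2))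
      choose y hy using h1
      refine ⟨y, ?_⟩
      funext a
      rw [hφ]
      exact hy a
    rw [← Submodule.map_comap_eq_of_le hle]
    exact Submodule.FG.map _ (IsNoetherian.noetherian _)
  · have heq : P ⊓ LinearMap.ker φ = Submodule.torsionBySet A G (J : Set A) := by
      apply le_antisymm
      · rintro z ⟨-, hz⟩
        rw [Submodule.mem_torsionBySet_iff]
        rintro ⟨a, ha⟩
        have ha' : a ∈ Submodule.span A (s : Set A) := by rw [hs]; exact ha
        show a • z = 0
        refine Submodule.span_induction (p := fun a _ => a • z = 0) ?_ ?_ ?_ ?_ ha'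
        · intro b hb
          have := congrFun (LinearMap.mem_ker.mp hz) ⟨b, hb⟩
          exact this
        · exact zero_smul _ _
        · intro b c _ _ hb hc
          rw [add_smul, hb, hc, add_zero]
        · intro r b _ hb
          rw [smul_eq_mul, mul_smul, hb, smul_zero]
      · intro z hz
        rw [Submodule.mem_torsionBySet_iff] at hz
        refine ⟨?_, ?_⟩
        · show g z ∈ Submodule.torsionBySet A N (J : Set A)
          rw [Submodule.mem_torsionBySet_iff]
          intro a
          rw [← map_smul, hz a, map_zero]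
        · show z ∈ LinearMap.ker φ
          rw [LinearMap.mem_ker]
          funext a
          rw [hφ]
          exact hz ⟨a, hsJ a a.2⟩
    rw [heq]
    exact hG

end Algebra

section Derived

open Groth.Agent.Lib.Helper14.HDT Groth.Agent.Lib.Helper17.Hyp Groth.Agent.S14388

variable {A : Type u} [CommRing A] [IsNoetherianRing A] (T : Set (PrimeSpectrum A))
  (hT : StableUnderSpecialization T)

include hT in
/-- if the local cohomology of `L` with supports in `T` is finite in degrees `< n`, then the
`J`-torsion of the one in degree `n` is finitely generated -/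
theorem fg_torsionBySet_FT (m : ℕ) : ∀ (L : Dual.D A) [L.IsGE 0],
    (∀ i : ℤ, Module.Finite A ((homologyFunctor (ModuleCat.{u} A) i).obj L)) →
    ∀ n : ℤ, n < m → ∀ J : Ideal A, PrimeSpectrum.zeroLocus (J : Set A) ⊆ T →
    (∀ j : ℤ, j < n → Module.Finite A (FT T (L⟦j⟧))) →
    (Submodule.torsionBySet A (FT T (L⟦n⟧)) (J : Set A)).FG := by
  induction m with
  | zero =>
    intro L _ hfin n hn J hJ hlow
    haveI := subsingleton_FT_shift_of_neg T L n (by exact_mod_cast hn)
    haveI : IsNoetherian A (FT T (L⟦n⟧)) := isNoetherian_of_isNoetherianRing_of_finite A _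
    exact IsNoetherian.noetherian _
  | succ m ih =>
    intro L hL0 hfin n hn J hJ hlow
    by_cases hn0 : n ≤ 0
    · have hF : Module.Finite A (FT T (L⟦n⟧)) := by
        rcases lt_or_eq_of_le hn0 with h | h
        · haveI := subsingleton_FT_shift_of_neg T L n h
          infer_instance
        · subst h
          exact finite_FT_lowest T L 0 (hfin 0)
      haveI : IsNoetherian A (FT T (L⟦n⟧)) := isNoetherian_of_isNoetherianRing_of_finite A _
      exact IsNoetherian.noetherian _
    · rw [not_le] at hn0
      haveI : Module.Finite A ((homologyFunctor (ModuleCat.{u} A) 0).obj L) := hfin 0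
      haveI : IsNoetherian A ((homologyFunctor (ModuleCat.{u} A) 0).obj L) :=
        isNoetherian_of_isNoetherianRing_of_finite A _
      obtain ⟨J₀, hJ₀, h₀⟩ :=
        exists_ideal_torsT T (M := (homologyFunctor (ModuleCat.{u} A) 0).obj L)
      obtain ⟨ξ, hξ⟩ := (bijective_c₀_of_isGE (PT T L) L).2 (inclT T L)
      have hξ' : c₀ ξ = inclT T L := hξ
      obtain ⟨C, α, β, hS⟩ := distinguished_cocone_triangle ξ
      haveI hC0 : C.IsGE 0 := isGE_cone (Triangle.mk ξ α β) hS (isGE_dsgl' (PT T L)) hL0
        (mono_homology_ξ T L ξ hξ')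
      haveI : Module.Finite A (PT T L) :=
        inferInstanceAs (Module.Finite A (torsT T ((homologyFunctor (ModuleCat.{u} A) 0).obj L)))
      have hCfin : ∀ i : ℤ, Module.Finite A ((homologyFunctor (ModuleCat.{u} A) i).obj C) :=
        fun i => finite_homology_cone (Triangle.mk ξ α β) hS i (i + 1) rfl (hfin i)
          (finite_homology_dsgl (PT T L) (i + 1))
      have hkill : ∀ a ∈ J₀, ∀ p : PT T L, a • p = 0 :=
        fun a ha p => Subtype.ext (h₀ p.1 p.2 a ha)
      have hPTss : ∀ j : ℤ, j ≠ 0 → Subsingleton (FT T ((dsgl (PT T L))⟦j⟧)) := by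
        intro j hj0
        rcases lt_or_gt_of_ne hj0 with h | h
        · exact subsingleton_FT_shift_of_neg T (dsgl (PT T L)) j h
        · obtain ⟨k, rfl⟩ : ∃ k : ℕ, j = ((k + 1 : ℕ) : ℤ) := ⟨(j - 1).toNat, by omega⟩
          exact subsingleton_FT_single_of_torsion T
            (torsT T ((homologyFunctor (ModuleCat.{u} A) 0).obj L)) J₀ hJ₀ hkill k
      have hbij : ∀ j : ℤ, 0 < j → Function.Bijective (FTmap T (α⟦j⟧')).hom := by
        intro j hj
        constructor
        · have hex : Function.Exact (FTmap T (ξ⟦j⟧')).hom (FTmap T (α⟦j⟧')).hom :=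
            les_mid T (Triangle.mk ξ α β) hS j
          haveI := hPTss j (by omega)
          rw [injective_iff_map_eq_zero]
          intro z hz
          obtain ⟨y, rfl⟩ := (hex z).mp hz
          rw [Subsingleton.elim y 0, map_zero]
        · obtain ⟨g, hg⟩ := les_right T (Triangle.mk ξ α β) hS j (j + 1) rfl
          have hss : Subsingleton (FT T ((dsgl (PT T L))⟦j + 1⟧)) := hPTss (j + 1) (by omega)
          intro z
          exact (hg z).mp (@Subsingleton.elim _ hss _ _)
      have hlowC : ∀ j : ℤ, j < n → Module.Finite A (FT T (C⟦j⟧)) := by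
        intro j hj
        rcases lt_trichotomy j 0 with h | h | h
        · haveI := subsingleton_FT_shift_of_neg T C j h
          infer_instance
        · subst h
          exact finite_FT_lowest T C 0 (hCfin 0)
        · haveI := hlow j hj
          exact Module.Finite.of_surjective (FTmap T (α⟦j⟧')).hom (hbij j h).2
      obtain ⟨x, hxJ, hx⟩ := regular_cone T hT L (hfin 0) ξ hξ' α β hS J hJ
      obtain ⟨C'', α', β', hS'⟩ := distinguished_cocone_triangle (x • 𝟙 C)
      have hmono : Mono ((homologyFunctor (ModuleCat.{u} A) 0).map (x • 𝟙 C)) := by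
        rw [ModuleCat.mono_iff_injective]
        intro c c' hcc
        have h1 : ((homologyFunctor (ModuleCat.{u} A) 0).map (x • 𝟙 C)).hom (c - c') = 0 := by
          rw [map_sub]
          exact sub_eq_zero.mpr hcc
        rw [homology_smul_id] at h1
        exact sub_eq_zero.mp (hx _ h1)
      haveI hC''0 : C''.IsGE 0 := isGE_cone (Triangle.mk (x • 𝟙 C) α' β') hS' hC0 hC0 hmono
      have hC''fin : ∀ i : ℤ, Module.Finite A ((homologyFunctor (ModuleCat.{u} A) i).obj C'') :=
        fun i => finite_homology_cone (Triangle.mk (x • 𝟙 C) α' β') hS' i (i + 1) rfl (hCfin i)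
          (hCfin (i + 1))
      have hlowC'' : ∀ j : ℤ, j < n - 1 → Module.Finite A (FT T (C''⟦j⟧)) := by
        intro j hj
        obtain ⟨g, hg⟩ := les_right T (Triangle.mk (x • 𝟙 C) α' β') hS' j (j + 1) rfl
        exact finite_of_exact hg (hlowC j (by omega)) (hlowC (j + 1) (by omega))
      have hIH := ih C'' hC''fin (n - 1) (by push_cast at hn; omega) J hJ hlowC''
      have hR1 := rot_of_distTriang _ hS'
      have hR2 := rot_of_distTriang _ hR1
      have hex1 : Function.Exact (FTmap T (α'⟦n - 1⟧')).hom (FTmap T (β'⟦n - 1⟧')).hom :=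
        les_mid T _ hR1 (n - 1)
      have hex2 : Function.Exact (FTmap T (β'⟦n - 1⟧')).hom
          (FTmap T ((-(x • 𝟙 C)⟦(1 : ℤ)⟧')⟦n - 1⟧')).hom :=
        les_mid T _ hR2 (n - 1)
      haveI := hlowC (n - 1) (by omega)
      have hN' : (Submodule.torsionBySet A (FT T ((C⟦(1 : ℤ)⟧)⟦n - 1⟧)) (J : Set A)).FG := by
        refine fg_torsionBySet_of_exact _ _ hex1 J hIH ?_
        intro z hz
        rw [Submodule.mem_torsionBySet_iff] at hz
        have hxz : x • z = 0 := hz ⟨x, hxJ⟩
        apply (hex2 z).mp
        have h1 : (-(x • 𝟙 C)⟦(1 : ℤ)⟧')⟦n - 1⟧' =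
            (-1 : ℤˣ) • (x • 𝟙 ((C⟦(1 : ℤ)⟧)⟦n - 1⟧)) := by
          rw [Functor.map_neg, Functor.map_smul, CategoryTheory.Functor.map_id, Functor.map_smul,
            CategoryTheory.Functor.map_id, Units.smul_def]
          simp
        rw [h1, FTmap_units_smul_eq_zero_iff, FTmap_smul]
        exact hxz
      have e1 := shiftEquiv T C 1 (n - 1) n (by ring)
      have e2 := LinearEquiv.ofBijective (FTmap T (α⟦n⟧')).hom (hbij n hn0)
      exact fg_torsionBySet_of_equiv (e1.trans e2.symm) _ hN'

end Derived

end Groth.Agent.Lib.Helper14.HFin
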