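import Mathlib
import Groth.Agent.Lib.Helper14HFinC
import Groth.Agent.Lib.Helper14HFinD
import Groth.Agent.Lib.Helper8Fal
import Groth.Agent.S11618

/-! # Local-global principle for the finiteness of local cohomology (helper14) -/

set_option autoImplicit false
set_option linter.unusedVariables false
set_option linter.unusedSectionVars false
set_option linter.style.haveILetI false
set_option maxHeartbeats 400000

universe u

open CategoryTheory CategoryTheory.Limits Opposite DerivedCategory Pretriangulated

attribute [local instance] HasDerivedCategory.standard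

namespace Groth.Agent.Lib.Helper14.HFin

section LG

variable {A : Type u} [CommRing A] [IsNoetherianRing A]

open Groth.Agent.Lib.Helper14.HDT Groth.Agent.Lib.Helper17.Hyp in
/-- if `H^j_I(M)` is finite for `j < i`, the `I`-torsion of `H^i_I(M)` is finitely generated -/
theorem fg_torsionBySet_H (I : Ideal A) (M : Type u) [AddCommGroup M] [Module A M]
    [Module.Finite A M] (i : ℕ) (hlow : ∀ j : ℕ, j < i → Module.Finite A (LocCoh.H I j M)) :
    (Submodule.torsionBySet A (LocCoh.H I i M) (I : Set A)).FG := by
  let P : ModuleCat.{u} A := ModuleCat.of A M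
  haveI : Module.Finite A P := inferInstanceAs (Module.Finite A M)
  have hfin : ∀ k : ℤ, Module.Finite A ((homologyFunctor (ModuleCat.{u} A) k).obj (dsgl P)) :=
    fun k => finite_homology_dsgl P k
  have hlow' : ∀ j : ℤ, j < (i : ℤ) →
      Module.Finite A (FT (PrimeSpectrum.zeroLocus (I : Set A)) ((dsgl P)⟦j⟧)) := by
    intro j hj
    by_cases hj0 : j < 0
    · haveI := subsingleton_FT_shift_of_neg (PrimeSpectrum.zeroLocus (I : Set A)) (dsgl P) j hj0
      infer_instance
    · obtain ⟨k, rfl⟩ : ∃ k : ℕ, j = (k : ℤ) := ⟨j.toNat, by omega⟩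
      haveI : Module.Finite A ((localCohomology I k).obj P) := hlow k (by omega)
      exact Module.Finite.equiv (Groth.Agent.Lib.Helper14.Falt.ftEquiv I k P).symm
  have h := fg_torsionBySet_FT (PrimeSpectrum.zeroLocus (I : Set A)) (stable_zeroLocus I) (i + 1)
    (dsgl P) hfin (i : ℤ) (by push_cast; omega) I subset_rfl hlow'
  exact fg_torsionBySet_of_equiv (Groth.Agent.Lib.Helper14.Falt.ftEquiv I i P) _ h

/-- a power of `I` kills a localization which is finite and `I`-power torsion -/
theorem exists_pow_kills_localized (I : Ideal A) (N : Type u) [AddCommGroup N] [Module A N]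
    (hN : ∀ x : N, ∃ n : ℕ, ∀ a ∈ I ^ n, a • x = 0) (p : Ideal A) [p.IsPrime]
    [Module.Finite (Localization.AtPrime p) (LocalizedModule p.primeCompl N)] :
    ∃ k : ℕ, ∀ a ∈ I ^ k, ∀ x : N, ∃ s : A, s ∉ p ∧ s • a • x = 0 := by
  classical
  obtain ⟨S, hS⟩ := (Module.Finite.fg_top :
    (⊤ : Submodule (Localization.AtPrime p) (LocalizedModule p.primeCompl N)).FG)
  have h1 : ∀ w : LocalizedModule p.primeCompl N, ∃ n : ℕ, ∀ a ∈ I ^ n, a • w = 0 := by
    intro w
    induction w using LocalizedModule.induction_on with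
    | h x s =>
      obtain ⟨n, hn⟩ := hN x
      exact ⟨n, fun a ha => by rw [LocalizedModule.smul'_mk, hn a ha, LocalizedModule.zero_mk]⟩
  choose n hn using h1
  refine ⟨S.sup n, fun a ha x => ?_⟩
  have h2 : ∀ w : LocalizedModule p.primeCompl N, a • w = 0 := by
    intro w
    have hw : w ∈ Submodule.span (Localization.AtPrime p)
        (S : Set (LocalizedModule p.primeCompl N)) := by
      rw [hS]
      exact Submodule.mem_top
    refine Submodule.span_induction (p := fun w _ => a • w = 0) ?_ ?_ ?_ ?_ hw
    · intro v hv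
      exact hn v a (Ideal.pow_le_pow_right (Finset.le_sup hv) ha)
    · exact smul_zero _
    · intro v v' _ _ hv hv'
      rw [smul_add, hv, hv', add_zero]
    · intro c v _ hv
      rw [smul_comm, hv, smul_zero]
  have h3 := h2 (LocalizedModule.mkLinearMap p.primeCompl N x)
  rw [← map_smul] at h3
  obtain ⟨s, hs⟩ := (IsLocalizedModule.eq_zero_iff p.primeCompl
    (LocalizedModule.mkLinearMap p.primeCompl N)).mp h3
  exact ⟨s.1, s.2, hs⟩

/-- an `I`-power torsion module with finitely generated `I`-torsion, all of whose localizations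
at primes are finite, is killed by a power of `I` -/
theorem exists_pow_kills_of_local (I : Ideal A) (N : Type u) [AddCommGroup N] [Module A N]
    (hN : ∀ x : N, ∃ n : ℕ, ∀ a ∈ I ^ n, a • x = 0)
    (hfg : (Submodule.torsionBySet A N (I : Set A)).FG)
    (hloc : ∀ p : PrimeSpectrum A, Module.Finite (Localization.AtPrime p.asIdeal)
      (LocalizedModule p.asIdeal.primeCompl N)) :
    ∃ k : ℕ, ∀ a ∈ I ^ k, ∀ x : N, a • x = 0 := by
  classical
  haveI : Module.Finite A (Submodule.torsionBySet A N (I : Set A)) := Module.Finite.iff_fg.mpr hfg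
  have hAss : associatedPrimes A N ⊆
      associatedPrimes A (Submodule.torsionBySet A N (I : Set A)) := by
    intro P hP
    obtain ⟨hPprime, x, hx⟩ := isAssociatedPrime_iff.mp hP
    have hIP : I ≤ P := by
      obtain ⟨n, hn⟩ := hN x
      have h1 : I ^ n ≤ P := by
        intro a ha
        rw [hx, Submodule.mem_colon_singleton, hn a ha]
        exact Submodule.zero_mem _
      exact hPprime.le_of_pow_le h1
    have hxmem : x ∈ Submodule.torsionBySet A N (I : Set A) := by
      rw [Submodule.mem_torsionBySet_iff]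
      rintro ⟨a, ha⟩
      have h1 : a ∈ (⊥ : Submodule A N).colon {x} := hx ▸ hIP ha
      rw [Submodule.mem_colon_singleton, Submodule.mem_bot] at h1
      exact h1
    refine isAssociatedPrime_iff.mpr ⟨hPprime, ⟨⟨x, hxmem⟩, ?_⟩⟩
    rw [hx]
    ext r
    rw [Submodule.mem_colon_singleton, Submodule.mem_colon_singleton, Submodule.mem_bot,
      Submodule.mem_bot]
    constructor
    · intro h
      exact Subtype.ext h
    · intro h
      exact congrArg Subtype.val h
  have hfin : (associatedPrimes A N).Finite := (associatedPrimes.finite A _).subset hAss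
  have hk : ∀ P : Ideal A, ∃ k : ℕ, P ∈ associatedPrimes A N →
      ∀ a ∈ I ^ k, ∀ x : N, ∃ s : A, s ∉ P ∧ s • a • x = 0 := by
    intro P
    by_cases hP : P ∈ associatedPrimes A N
    · haveI hPp : P.IsPrime := hP.isPrime
      haveI := hloc ⟨P, hPp⟩
      obtain ⟨k, hk⟩ := exists_pow_kills_localized I N hN P
      exact ⟨k, fun _ => hk⟩
    · exact ⟨0, fun h => absurd h hP⟩
  choose kf hkf using hk
  refine ⟨hfin.toFinset.sup kf, fun a ha x => ?_⟩
  by_contra hne
  obtain ⟨P, hP, hle⟩ := exists_le_isAssociatedPrime_of_isNoetherianRing A (a • x) hne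
  have hkP : kf P ≤ hfin.toFinset.sup kf := Finset.le_sup (hfin.mem_toFinset.mpr hP)
  obtain ⟨s, hsP, hs⟩ := hkf P hP a (Ideal.pow_le_pow_right hkP ha) x
  refine hsP (hle ?_)
  rw [Submodule.mem_colon_singleton, hs]
  exact Submodule.zero_mem _

open Groth.Agent.Lib.Helper8.Fal Groth.Agent.Lib.Helper8.LC in
/-- Faltings' local-global principle for the finiteness of local cohomology -/
theorem finite_H_of_local (I : Ideal A) (M : Type u) [AddCommGroup M] [Module A M]
    [Module.Finite A M] (n : ℕ)
    (hloc : ∀ i : ℕ, i ≤ n → ∀ p : PrimeSpectrum A, Module.Finite (Localization.AtPrime p.asIdeal)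
      (LocalizedModule p.asIdeal.primeCompl (LocCoh.H I i M))) :
    ∀ i : ℕ, i ≤ n → Module.Finite A (LocCoh.H I i M) := by
  induction n with
  | zero =>
    intro i hi
    rw [Nat.le_zero.mp hi]
    exact finite_H_zero I M
  | succ n ih =>
    have hlow := ih (fun i hi => hloc i (Nat.le_succ_of_le hi))
    obtain ⟨k, hk⟩ := exists_kills_of_finite_le I n M hlow
    have hfg := fg_torsionBySet_H I M (n + 1) (fun j hj => hlow j (Nat.lt_succ_iff.mp hj))
    obtain ⟨k', hk'⟩ := exists_pow_kills_of_local I (LocCoh.H I (n + 1) M)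
      (fun x => isPowerTorsion_H I (n + 1) (ModuleCat.of A M) x) hfg (hloc (n + 1) le_rfl)
    refine finite_of_kills I (n + 1) M ⟨max k k', fun i hi => ?_⟩
    rcases Nat.eq_or_lt_of_le hi with heq | hlt
    · rw [heq]
      exact kills_mono I (le_max_right k k') _ M hk'
    · exact kills_mono I (le_max_left k k') _ M (hk i (Nat.lt_succ_iff.mp hlt))

end LG

end Groth.Agent.Lib.Helper14.HFin
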