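import Mathlib
import Groth.Prelude.Def_Conn

set_option autoImplicit false
set_option linter.unusedVariables false
set_option linter.unusedSectionVars false
set_option linter.style.haveILetI false

namespace Groth.Agent.Lib.Helper14Hochschild

open Finset

section Abstract

variable {B E : Type*} [CommRing B] [Ring E]

/-- coefficients `c n k` of `(f D)^n = ∑ c n k D^k`. -/
def coef (δ : B → B) (f : B) : ℕ → ℕ → B
  | 0, 0 => 1
  | 0, (_ + 1) => 0
  | (n + 1), 0 => f * δ (coef δ f n 0)
  | (n + 1), (k + 1) => f * δ (coef δ f n (k + 1)) + f * coef δ f n k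

variable (L : B →+* E) (D : E) (δ : B → B) (f : B)

lemma delta_zero (hadd : ∀ a b, δ (a + b) = δ a + δ b) : δ 0 = 0 := by
  have := hadd 0 0
  simp at this
  exact this

lemma delta_one (hmul : ∀ a b, δ (a * b) = a * δ b + b * δ a) : δ 1 = 0 := by
  have := hmul 1 1
  simp at this
  exact this

lemma coef_eq_zero_of_lt (hadd : ∀ a b, δ (a + b) = δ a + δ b) :
    ∀ (n k : ℕ), n < k → coef δ f n k = 0
  | 0, 0, h => absurd h (lt_irrefl _)
  | 0, (k + 1), _ => rfl
  | (n + 1), 0, h => absurd h (Nat.not_lt_zero _)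
  | (n + 1), (k + 1), h => by
    have h1 := coef_eq_zero_of_lt hadd n (k + 1) (by omega)
    have h2 := coef_eq_zero_of_lt hadd n k (by omega)
    simp only [coef, h1, h2, delta_zero δ hadd, mul_zero, add_zero]

lemma coef_succ_zero (hadd : ∀ a b, δ (a + b) = δ a + δ b)
    (hmul : ∀ a b, δ (a * b) = a * δ b + b * δ a) :
    ∀ n : ℕ, coef δ f (n + 1) 0 = 0
  | 0 => by simp [coef, delta_one δ hmul]
  | (n + 1) => by
    have := coef_succ_zero hadd hmul n
    simp only [coef] at this ⊢
    rw [this, delta_zero δ hadd, mul_zero]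

lemma coef_self (hadd : ∀ a b, δ (a + b) = δ a + δ b) :
    ∀ n : ℕ, coef δ f n n = f ^ n
  | 0 => by simp [coef]
  | (n + 1) => by
    have h1 := coef_eq_zero_of_lt δ f hadd n (n + 1) (by omega)
    simp only [coef, h1, delta_zero δ hadd, mul_zero, zero_add, coef_self hadd n, pow_succ']

/-- `G i = (f δ)^i f`. -/
def G (δ : B → B) (f : B) (i : ℕ) : B := (fun b => f * δ b)^[i] f

lemma coef_succ_one (hadd : ∀ a b, δ (a + b) = δ a + δ b)
    (hmul : ∀ a b, δ (a * b) = a * δ b + b * δ a) :
    ∀ n : ℕ, coef δ f (n + 1) 1 = G δ f n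
  | 0 => by simp [coef, G, delta_zero δ hadd]
  | (n + 1) => by
    have h1 := coef_succ_one hadd hmul n
    have h2 := coef_succ_zero δ f hadd hmul n
    rw [coef, h1, h2, mul_zero, add_zero, G, G, Function.iterate_succ_apply']

/-- `(L f * D)^n = ∑ L (c n k) D^k`. -/
lemma pow_eq_sum (hadd : ∀ a b, δ (a + b) = δ a + δ b)
    (hcomm : ∀ b, D * L b = L b * D + L (δ b)) (n : ℕ) :
    (L f * D) ^ n = ∑ k ∈ range (n + 1), L (coef δ f n k) * D ^ k := by
  induction n with
  | zero => simp [coef]
  | succ n ih =>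
    rw [pow_succ', ih, Finset.mul_sum]
    have h1 : ∀ k ∈ range (n + 1), L f * D * (L (coef δ f n k) * D ^ k) =
        L (f * coef δ f n k) * D ^ (k + 1) + L (f * δ (coef δ f n k)) * D ^ k := by
      intro k _
      rw [mul_assoc, ← mul_assoc D, hcomm, map_mul, map_mul, pow_succ']
      noncomm_ring
    rw [Finset.sum_congr rfl h1, Finset.sum_add_distrib]
    rw [Finset.sum_range_succ' (fun k => L (coef δ f (n + 1) k) * D ^ k) (n + 1)]
    have h2 : ∀ k ∈ range (n + 1), L (coef δ f (n + 1) (k + 1)) * D ^ (k + 1) =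
        L (f * δ (coef δ f n (k + 1))) * D ^ (k + 1) + L (f * coef δ f n k) * D ^ (k + 1) := by
      intro k _
      rw [coef, map_add, add_mul]
    rw [Finset.sum_congr rfl h2, Finset.sum_add_distrib]
    have h3 : ∑ k ∈ range (n + 1), L (f * δ (coef δ f n k)) * D ^ k =
        ∑ k ∈ range (n + 1), L (f * δ (coef δ f n (k + 1))) * D ^ (k + 1) +
          L (coef δ f (n + 1) 0) * D ^ 0 := by
      rw [Finset.sum_range_succ (fun k => L (f * δ (coef δ f n (k + 1))) * D ^ (k + 1)) n,
        coef_eq_zero_of_lt δ f hadd n (n + 1) (by omega), delta_zero δ hadd,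
        Finset.sum_range_succ' (fun k => L (f * δ (coef δ f n k)) * D ^ k) n]
      simp [coef]
    rw [h3]
    abel

/-- key Bell-type identity. -/
lemma succ_mul_coef (hadd : ∀ a b, δ (a + b) = δ a + δ b)
    (hmul : ∀ a b, δ (a * b) = a * δ b + b * δ a) :
    ∀ (n k : ℕ), ((k + 1 : ℕ) : B) * coef δ f n (k + 1) =
      ∑ i ∈ range n, ((n.choose (i + 1) : ℕ) : B) * (G δ f i * coef δ f (n - 1 - i) k) := by
  -- θ = f δ
  have hθadd : ∀ a b, f * δ (a + b) = f * δ a + f * δ b := fun a b => by rw [hadd, mul_add]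
  have hθnat : ∀ (m : ℕ) (a : B), f * δ ((m : B) * a) = (m : B) * (f * δ a) := by
    intro m a
    induction m with
    | zero => simp [delta_zero δ hadd]
    | succ m ih => rw [Nat.cast_succ, add_mul, one_mul, hadd, mul_add, ih]; ring
  have hθsum : ∀ (s : Finset ℕ) (F : ℕ → B), f * δ (∑ i ∈ s, F i) = ∑ i ∈ s, f * δ (F i) := by
    intro s F
    induction s using Finset.induction_on with
    | empty => simp [delta_zero δ hadd]
    | insert a s ha ih => rw [Finset.sum_insert ha, Finset.sum_insert ha, hadd, mul_add, ih]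
  have hG : ∀ i, f * δ (G δ f i) = G δ f (i + 1) := by
    intro i; rw [G, G, Function.iterate_succ_apply']
  intro n
  induction n with
  | zero => intro k; simp [coef]
  | succ n ih =>
    intro k
    -- LHS
    have hL : ((k + 1 : ℕ) : B) * coef δ f (n + 1) (k + 1) =
        f * δ (((k + 1 : ℕ) : B) * coef δ f n (k + 1)) + ((k + 1 : ℕ) : B) * (f * coef δ f n k) := by
      rw [hθnat, coef]; ring
    rw [hL, ih k, hθsum]
    have h1 : ∀ i ∈ range n, f * δ (((n.choose (i + 1) : ℕ) : B) * (G δ f i * coef δ f (n - 1 - i) k)) =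
        ((n.choose (i + 1) : ℕ) : B) * (G δ f (i + 1) * coef δ f (n - 1 - i) k) +
        ((n.choose (i + 1) : ℕ) : B) * (G δ f i * (f * δ (coef δ f (n - 1 - i) k))) := by
      intro i _
      rw [hθnat, hmul, ← hG]; ring
    rw [Finset.sum_congr rfl h1, Finset.sum_add_distrib]
    -- RHS
    have hR : ∑ i ∈ range (n + 1), (((n + 1).choose (i + 1) : ℕ) : B) *
        (G δ f i * coef δ f (n + 1 - 1 - i) k) =
        ∑ i ∈ range (n + 1), ((n.choose i : ℕ) : B) * (G δ f i * coef δ f (n - i) k) +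
        ∑ i ∈ range (n + 1), ((n.choose (i + 1) : ℕ) : B) * (G δ f i * coef δ f (n - i) k) := by
      rw [← Finset.sum_add_distrib]
      refine Finset.sum_congr rfl fun i _ => ?_
      rw [Nat.choose_succ_succ, Nat.cast_add, Nat.add_sub_cancel]; ring
    rw [hR, Finset.sum_range_succ' (fun i => ((n.choose i : ℕ) : B) * (G δ f i * coef δ f (n - i) k)) n,
      Finset.sum_range_succ (fun i => ((n.choose (i + 1) : ℕ) : B) * (G δ f i * coef δ f (n - i) k)) n,
      Nat.choose_succ_self]
    have h2 : ∀ i ∈ range n, ((n.choose (i + 1) : ℕ) : B) * (G δ f (i + 1) * coef δ f (n - (i + 1)) k) =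
        ((n.choose (i + 1) : ℕ) : B) * (G δ f (i + 1) * coef δ f (n - 1 - i) k) := by
      intro i _
      rw [show n - (i + 1) = n - 1 - i by omega]
    rw [Finset.sum_congr rfl h2]
    cases k with
    | zero =>
      have h3 : ∀ i ∈ range n, ((n.choose (i + 1) : ℕ) : B) * (G δ f i * coef δ f (n - i) 0) =
          ((n.choose (i + 1) : ℕ) : B) * (G δ f i * (f * δ (coef δ f (n - 1 - i) 0))) := by
        intro i hi
        rw [Finset.mem_range] at hi
        rw [show n - i = (n - 1 - i) + 1 by omega, coef]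
      rw [Finset.sum_congr rfl h3]
      simp [G]
      ring
    | succ k =>
      have h3 : ∀ i ∈ range n, ((n.choose (i + 1) : ℕ) : B) * (G δ f i * coef δ f (n - i) (k + 1)) =
          ((n.choose (i + 1) : ℕ) : B) * (G δ f i * (f * δ (coef δ f (n - 1 - i) (k + 1)))) +
          f * (((n.choose (i + 1) : ℕ) : B) * (G δ f i * coef δ f (n - 1 - i) k)) := by
        intro i hi
        rw [Finset.mem_range] at hi
        rw [show n - i = (n - 1 - i) + 1 by omega, coef]; ring
      rw [Finset.sum_congr rfl h3, Finset.sum_add_distrib, ← Finset.mul_sum, ← ih k]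
      simp [G]
      ring

lemma coef_prime_eq_zero (hadd : ∀ a b, δ (a + b) = δ a + δ b)
    (hmul : ∀ a b, δ (a * b) = a * δ b + b * δ a) (p : ℕ) (hp : p.Prime) (hpB : (p : B) = 0)
    (k : ℕ) (hk : 1 ≤ k) (hk' : k + 1 < p) : coef δ f p (k + 1) = 0 := by
  have h := succ_mul_coef δ f hadd hmul p k
  have hz : ∑ i ∈ range p, ((p.choose (i + 1) : ℕ) : B) * (G δ f i * coef δ f (p - 1 - i) k) = 0 := by
    refine Finset.sum_eq_zero fun i hi => ?_
    rw [Finset.mem_range] at hi
    by_cases hip : i + 1 < p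
    · obtain ⟨c, hc⟩ := hp.dvd_choose_self (Nat.succ_ne_zero i) hip
      rw [hc, Nat.cast_mul, hpB, zero_mul, zero_mul]
    · have : p - 1 - i = 0 := by omega
      rw [this]
      obtain ⟨k', rfl⟩ : ∃ k', k = k' + 1 := ⟨k - 1, by omega⟩
      simp [coef]
  rw [hz] at h
  -- (k+1) invertible mod p
  have hcop : Nat.Coprime (k + 1) p :=
    (Nat.Coprime.symm ((Nat.Prime.coprime_iff_not_dvd hp).mpr
      (fun hd => absurd (Nat.le_of_dvd (by omega) hd) (by omega))))
  have hb := Nat.gcd_eq_gcd_ab (k + 1) p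
  rw [hcop.gcd_eq_one] at hb
  have hb' : (1 : B) = ((k + 1 : ℕ) : B) * ((Nat.gcdA (k + 1) p : ℤ) : B) := by
    have := congrArg (Int.cast : ℤ → B) hb
    push_cast at this
    rw [hpB, zero_mul, add_zero] at this
    push_cast
    exact this
  calc coef δ f p (k + 1) = 1 * coef δ f p (k + 1) := (one_mul _).symm
    _ = ((Nat.gcdA (k + 1) p : ℤ) : B) * (((k + 1 : ℕ) : B) * coef δ f p (k + 1)) := by rw [hb']; ring
    _ = 0 := by rw [h, mul_zero]

/-- Hochschild's formula. -/
theorem hochschild (hadd : ∀ a b, δ (a + b) = δ a + δ b)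
    (hmul : ∀ a b, δ (a * b) = a * δ b + b * δ a)
    (hcomm : ∀ b, D * L b = L b * D + L (δ b)) (p : ℕ) (hp : p.Prime) (hpB : (p : B) = 0) :
    (L f * D) ^ p = L (f ^ p) * D ^ p + L (G δ f (p - 1)) * D := by
  rw [pow_eq_sum L D δ f hadd hcomm p]
  have hp2 := hp.two_le
  rw [Finset.sum_eq_add (p) 1 (by omega)]
  · rw [coef_self δ f hadd, pow_one]
    obtain ⟨q, rfl⟩ : ∃ q, p = q + 1 := ⟨p - 1, by omega⟩
    rw [coef_succ_one δ f hadd hmul, Nat.add_sub_cancel]
  · intro k hk hne
    rw [Finset.mem_range] at hk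
    rcases Nat.eq_zero_or_pos k with rfl | hk0
    · obtain ⟨q, rfl⟩ : ∃ q, p = q + 1 := ⟨p - 1, by omega⟩
      rw [coef_succ_zero δ f hadd hmul, map_zero, zero_mul]
    · obtain ⟨k', rfl⟩ : ∃ k', k = k' + 1 := ⟨k - 1, by omega⟩
      rw [coef_prime_eq_zero δ f hadd hmul p hp hpB k' (by omega) (by omega), map_zero, zero_mul]
  · intro h; exact absurd (Finset.mem_range.mpr (by omega)) h
  · intro h; exact absurd (Finset.mem_range.mpr (by omega)) h

/-- general Leibniz: `δ^p` is a derivation in char `p`. -/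
lemma iterate_mul (hadd : ∀ a b, δ (a + b) = δ a + δ b)
    (hmul : ∀ a b, δ (a * b) = a * δ b + b * δ a) (a b : B) (n : ℕ) :
    δ^[n] (a * b) = ∑ ij ∈ Finset.HasAntidiagonal.antidiagonal n, n.choose ij.1 • (δ^[ij.1] a * δ^[ij.2] b) := by
  have hsum : ∀ (s : Finset (ℕ × ℕ)) (F : ℕ × ℕ → B), δ (∑ i ∈ s, F i) = ∑ i ∈ s, δ (F i) := by
    intro s F
    induction s using Finset.induction_on with
    | empty => simp [delta_zero δ hadd]
    | insert a s ha ih => rw [Finset.sum_insert ha, Finset.sum_insert ha, hadd, ih]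
  have hnat : ∀ (m : ℕ) (a : B), δ (m • a) = m • δ a := by
    intro m a
    induction m with
    | zero => simp [delta_zero δ hadd]
    | succ m ih => rw [succ_nsmul, hadd, ih, succ_nsmul]
  induction n with
  | zero => simp
  | succ n ih =>
    rw [Function.iterate_succ_apply', ih, hsum,
      Finset.sum_antidiagonal_choose_succ_nsmul (fun i j => δ^[i] a * δ^[j] b) n,
      ← Finset.sum_add_distrib]
    refine Finset.sum_congr rfl fun ij hij => ?_
    have hij' : ij.1 + ij.2 = n := Finset.HasAntidiagonal.mem_antidiagonal.mp hij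
    rw [hnat, hmul, smul_add, Function.iterate_succ_apply', Function.iterate_succ_apply',
      ← Nat.choose_symm_of_eq_add hij'.symm, mul_comm (δ^[ij.2] b)]

lemma iterate_prime_mul (hadd : ∀ a b, δ (a + b) = δ a + δ b)
    (hmul : ∀ a b, δ (a * b) = a * δ b + b * δ a) (p : ℕ) (hp : p.Prime) (hpB : (p : B) = 0)
    (a b : B) : δ^[p] (a * b) = a * δ^[p] b + b * δ^[p] a := by
  rw [iterate_mul δ hadd hmul a b p, Finset.Nat.sum_antidiagonal_eq_sum_range_succ_mk]
  have hp2 := hp.two_le
  rw [Finset.sum_eq_add 0 p (by omega)]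
  · simp [mul_comm]
  · intro k hk hne
    rw [Finset.mem_range] at hk
    obtain ⟨c, hc⟩ := hp.dvd_choose_self hne.1 (by omega : k < p)
    simp only
    rw [hc, mul_nsmul, ← Nat.cast_smul_eq_nsmul B p, hpB, zero_smul, smul_zero]
  · intro h; exact absurd (Finset.mem_range.mpr (by omega)) h
  · intro h; exact absurd (Finset.mem_range.mpr (by omega)) h

end Abstract

section Concrete

open TensorProduct

universe v u

variable {A : Type v} {B M : Type u} [CommRing A] [CommRing B] [Algebra A B]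
  [AddCommGroup M] [Module B M] [Module A M] [IsScalarTower A B M]

/-- scalar multiplication as a ring hom into `End_A`. -/
noncomputable def Lm : B →+* Module.End A M := Module.toModuleEnd A (S := B) M

lemma Lm_apply (b : B) (m : M) : Lm (A := A) b m = b • m := rfl

lemma along_smul (nabla : M →ₗ[A] M ⊗[B] Ω[B⁄A]) (c : B) (φ : Ω[B⁄A] →ₗ[B] B) :
    Conn.along nabla (c • φ) = Lm c * Conn.along nabla φ := by
  ext m
  simp only [Conn.along_apply, Module.End.mul_apply, Lm_apply]
  rw [TensorProduct.map_smul_right, LinearMap.smul_apply, map_smul]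

lemma along_add (nabla : M →ₗ[A] M ⊗[B] Ω[B⁄A]) (φ ψ : Ω[B⁄A] →ₗ[B] B) :
    Conn.along nabla (φ + ψ) = Conn.along nabla φ + Conn.along nabla ψ := by
  ext m
  simp only [Conn.along_apply, LinearMap.add_apply]
  rw [TensorProduct.map_add_right, LinearMap.add_apply, map_add]

lemma along_comm (nabla : M →ₗ[A] M ⊗[B] Ω[B⁄A])
    (hc : Conn.IsConn (KaehlerDifferential.D A B) nabla) (θ₀ : Derivation A B B) (b : B) :
    Conn.alongDer nabla θ₀ * Lm b = Lm b * Conn.alongDer nabla θ₀ + Lm (θ₀ b) := by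
  ext m
  simp only [Module.End.mul_apply, LinearMap.add_apply, Lm_apply, Conn.alongDer, Conn.along_apply]
  rw [hc b m, map_add, map_add, map_smul, map_smul, TensorProduct.map_tmul, TensorProduct.rid_tmul,
    LinearMap.id_apply, Derivation.liftKaehlerDifferential_comp_D]

theorem main (p : ℕ) [Fact p.Prime] [CharP B p]
    (bΩ : Module.Basis (Fin 1) B (Ω[B⁄A])) (θ₀ : Derivation A B B)
    (hθ₀ : θ₀.liftKaehlerDifferential (bΩ 0) = 1)
    (nabla : M →ₗ[A] M ⊗[B] Ω[B⁄A])
    (hc : Conn.IsConn (KaehlerDifferential.D A B) nabla) :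
    (∀ θ θp : Derivation A B B, Conn.IsIterPow θ p θp → Conn.pCurv p nabla θ θp = 0) ↔
      (∀ θp : Derivation A B B, Conn.IsIterPow θ₀ p θp → Conn.pCurv p nabla θ₀ θp = 0) := by
  constructor
  · intro h θp hθp; exact h θ₀ θp hθp
  · intro h θ θp hθp
    have hp : p.Prime := Fact.out
    have hpB : (p : B) = 0 := CharP.cast_eq_zero B p
    have hadd : ∀ a b, θ₀ (a + b) = θ₀ a + θ₀ b := fun a b => map_add θ₀ a b
    have hmul : ∀ a b, θ₀ (a * b) = a * θ₀ b + b * θ₀ a := fun a b => by
      rw [Derivation.leibniz]; simp [smul_eq_mul]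
    have hpow : ∀ (n : ℕ) (b : B), ((θ₀ : B →ₗ[A] B) ^ n) b = (⇑θ₀)^[n] b := by
      intro n b
      rw [Module.End.pow_apply]; rfl
    let θ₀p : Derivation A B B := Derivation.mk' ((θ₀ : B →ₗ[A] B) ^ p) (by
      intro a b
      rw [hpow, hpow, hpow, smul_eq_mul, smul_eq_mul]
      exact iterate_prime_mul (⇑θ₀) hadd hmul p hp hpB a b)
    have hθ₀p : Conn.IsIterPow θ₀ p θ₀p := fun b => hpow p b
    have H := h θ₀p hθ₀p
    set f := θ.liftKaehlerDifferential (bΩ 0) with hf
    have hlift : θ.liftKaehlerDifferential = f • θ₀.liftKaehlerDifferential := by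
      refine bΩ.ext fun i => ?_
      fin_cases i
      simp [hθ₀, hf]
    have hθ : ∀ b, θ b = f * θ₀ b := by
      intro b
      have := congrArg (fun φ => φ (KaehlerDifferential.D A B b)) hlift
      simpa [Derivation.liftKaehlerDifferential_comp_D] using this
    set g := G (⇑θ₀) f (p - 1) with hg
    -- Hochschild on `End_A B`
    have hcomm₁ : ∀ b, (θ₀ : B →ₗ[A] B) * Lm (A := A) (M := B) b =
        Lm b * (θ₀ : B →ₗ[A] B) + Lm (θ₀ b) := by
      intro b
      ext x
      simp only [Module.End.mul_apply, LinearMap.add_apply, Lm_apply, smul_eq_mul]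
      change θ₀ (b * x) = b * θ₀ x + θ₀ b * x
      rw [hmul]; ring
    have h₁ := hochschild (Lm (A := A) (M := B)) (θ₀ : B →ₗ[A] B) (⇑θ₀) f hadd hmul hcomm₁ p hp hpB
    have hθlin : (θ : B →ₗ[A] B) = Lm (A := A) (M := B) f * (θ₀ : B →ₗ[A] B) := by
      ext x
      simp only [Module.End.mul_apply, Lm_apply, smul_eq_mul]
      exact hθ x
    have hθp : ∀ b, θp b = f ^ p * θ₀p b + g * θ₀ b := by
      intro b
      rw [hθp b]
      have h2 : ((θ : B →ₗ[A] B) ^ p) b = (⇑θ)^[p] b := by
        rw [Module.End.pow_apply]; rfl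
      rw [← h2, hθlin, h₁]
      simp only [LinearMap.add_apply, Module.End.mul_apply, Lm_apply, smul_eq_mul]
      rfl
    have hliftp : θp.liftKaehlerDifferential =
        f ^ p • θ₀p.liftKaehlerDifferential + g • θ₀.liftKaehlerDifferential := by
      apply Derivation.liftKaehlerDifferential_unique
      ext b
      change θp.liftKaehlerDifferential (KaehlerDifferential.D A B b) =
        (f ^ p • θ₀p.liftKaehlerDifferential + g • θ₀.liftKaehlerDifferential)
          (KaehlerDifferential.D A B b)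
      simp only [LinearMap.add_apply, LinearMap.smul_apply,
        Derivation.liftKaehlerDifferential_comp_D, smul_eq_mul]
      exact hθp b
    -- Hochschild on `End_A M`
    have h₂ := hochschild (Lm (A := A) (M := M)) (Conn.alongDer nabla θ₀) (⇑θ₀) f hadd hmul
      (along_comm nabla hc θ₀) p hp hpB
    have e1 : Conn.alongDer nabla θ = Lm f * Conn.alongDer nabla θ₀ := by
      rw [Conn.alongDer, hlift, along_smul]; rfl
    have e2 : Conn.alongDer nabla θp =
        Lm (f ^ p) * Conn.alongDer nabla θ₀p + Lm g * Conn.alongDer nabla θ₀ := by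
      rw [Conn.alongDer, hliftp, along_add, along_smul, along_smul]; rfl
    have H' : Conn.alongDer nabla θ₀ ^ p = Conn.alongDer nabla θ₀p := by
      have := H
      rw [Conn.pCurv, sub_eq_zero] at this
      exact this
    rw [Conn.pCurv, e1, e2, h₂, H']
    abel

end Concrete

end Groth.Agent.Lib.Helper14Hochschild
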