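import Mathlib

/-! Helper14: Artin–Rees for `Hom(M, N/IⁿN)` systems (Stacks 15.?? / EGA). -/

set_option autoImplicit false
universe u

namespace Groth.Agent.Lib.Helper14.HomAR

variable {A : Type u} [CommRing A]

theorem map_mem_smul_top {M M' : Type*} [AddCommGroup M] [Module A M] [AddCommGroup M'] [Module A M']
    (J : Ideal A) (g : M →ₗ[A] M') {x : M} (hx : x ∈ (J • ⊤ : Submodule A M)) :
    g x ∈ (J • ⊤ : Submodule A M') := by
  have : g x ∈ Submodule.map g (J • ⊤ : Submodule A M) := ⟨x, hx, rfl⟩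
  rw [Submodule.map_smul''] at this
  exact (smul_mono_right J le_top : J • _ ≤ J • (⊤ : Submodule A M')) this

/-- Generic Artin–Rees consequence. -/
theorem exists_ar [IsNoetherianRing A] (I : Ideal A) {E : Type*} [AddCommGroup E] [Module A E]
    [Module.Finite A E] (S : Submodule A E) :
    ∃ c : ℕ, (∀ n, ∀ h ∈ S, h ∈ (I ^ n • ⊤ : Submodule A E) → ∀ a ∈ I ^ c, a • h ∈ I ^ n • S) ∧
      (∀ n, ∀ h ∈ S, h ∈ (I ^ (n + c) • ⊤ : Submodule A E) → h ∈ I ^ n • S) := by
  obtain ⟨c, hc⟩ := Ideal.exists_pow_inf_eq_pow_smul I S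
  have key : ∀ n, c ≤ n → ∀ h ∈ S, h ∈ (I ^ n • ⊤ : Submodule A E) → h ∈ I ^ (n - c) • S := by
    intro n hn h hS hh
    have h1 : h ∈ (I ^ n • ⊤ ⊓ S : Submodule A E) := ⟨hh, hS⟩
    rw [hc n hn] at h1
    exact (smul_mono_right (I ^ (n - c)) inf_le_right : _ ≤ I ^ (n - c) • S) h1
  refine ⟨c, ?_, ?_⟩
  · intro n h hS hh a ha
    by_cases hn : c ≤ n
    · have h1 := key n hn h hS hh
      have h2 : a • h ∈ I ^ c • (I ^ (n - c) • S) := Submodule.smul_mem_smul ha h1
      rw [← Submodule.mul_smul, ← pow_add, Nat.add_sub_cancel' hn] at h2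
      exact h2
    · have : a ∈ I ^ n := Ideal.pow_le_pow_right (by omega) ha
      exact Submodule.smul_mem_smul this hS
  · intro n h hS hh
    have := key (n + c) (by omega) h hS hh
    rwa [Nat.add_sub_cancel] at this

section FreeSource

variable {N : Type*} [AddCommGroup N] [Module A N]

/-- A linear map from a finite free module with image in `J N` lies in `J • Hom`. -/
theorem mem_smul_top_of_forall_mem {s : ℕ} (J : Ideal A) (g : (Fin s → A) →ₗ[A] N)
    (hg : ∀ x, g x ∈ (J • ⊤ : Submodule A N)) :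
    g ∈ (J • ⊤ : Submodule A ((Fin s → A) →ₗ[A] N)) := by
  classical
  let ι : Fin s → (N →ₗ[A] ((Fin s → A) →ₗ[A] N)) := fun j =>
    (LinearMap.lcomp A N (LinearMap.proj j : (Fin s → A) →ₗ[A] A)) ∘ₗ (LinearMap.lsmul A N).flip
  have hι : ∀ j n (x : Fin s → A), ι j n x = x j • n := fun j n x => rfl
  have hsum : g = ∑ j, ι j (g (Pi.single j 1)) := by
    apply LinearMap.pi_ext
    intro i a
    rw [LinearMap.sum_apply, Finset.sum_eq_single i]
    · rw [hι, Pi.single_eq_same, ← map_smul, ← Pi.single_smul, smul_eq_mul, mul_one]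
    · intro b _ hb
      rw [hι, Pi.single_eq_of_ne hb, zero_smul]
    · intro hi
      exact absurd (Finset.mem_univ i) hi
  rw [hsum]
  apply Submodule.sum_mem
  intro j _
  exact map_mem_smul_top J (ι j) (hg _)

theorem forall_mem_of_mem_smul_top {P : Type*} [AddCommGroup P] [Module A P] (J : Ideal A)
    (g : P →ₗ[A] N) (hg : g ∈ (J • ⊤ : Submodule A (P →ₗ[A] N))) (x : P) :
    g x ∈ (J • ⊤ : Submodule A N) := by
  have := map_mem_smul_top J (LinearMap.applyₗ x : (P →ₗ[A] N) →ₗ[A] N) hg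
  exact this

end FreeSource

section Presentation

variable [IsNoetherianRing A] (I : Ideal A) {M N : Type u} [AddCommGroup M] [Module A M]
  [AddCommGroup N] [Module A N] [Module.Finite A N]
  {r s : ℕ} (p : (Fin r → A) →ₗ[A] M) (T : (Fin s → A) →ₗ[A] (Fin r → A))

theorem exists_factor (hp : Function.Surjective p) (hex : Function.Exact T p) {X : Type*}
    [AddCommGroup X] [Module A X] (g : (Fin r → A) →ₗ[A] X) (hg : g ∘ₗ T = 0) :
    ∃ φ : M →ₗ[A] X, φ ∘ₗ p = g := by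
  have hle : LinearMap.ker p ≤ LinearMap.ker g := by
    intro x hx
    obtain ⟨y, rfl⟩ := (hex x).mp hx
    exact LinearMap.congr_fun hg y
  refine ⟨(LinearMap.ker p).liftQ g hle ∘ₗ (p.quotKerEquivOfSurjective hp).symm.toLinearMap, ?_⟩
  ext x
  simp only [LinearMap.coe_comp, LinearEquiv.coe_coe, Function.comp_apply,
    LinearMap.quotKerEquivOfSurjective_symm_apply, Submodule.liftQ_apply]

/-- Lifting maps `M → N/IⁿN` to `M → N` up to an Artin–Rees constant. -/
theorem exists_lift (hp : Function.Surjective p) (hex : Function.Exact T p) :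
    ∃ c : ℕ,
      (∀ n (ψ : M →ₗ[A] N ⧸ (I ^ n • ⊤ : Submodule A N)), ∀ a ∈ I ^ c,
        ∃ φ : M →ₗ[A] N, (I ^ n • ⊤ : Submodule A N).mkQ ∘ₗ φ = a • ψ) ∧
      (∀ n (ψ : M →ₗ[A] N ⧸ (I ^ (n + c) • ⊤ : Submodule A N))
        (hle : (I ^ (n + c) • ⊤ : Submodule A N) ≤ I ^ n • ⊤),
        ∃ φ : M →ₗ[A] N, (I ^ n • ⊤ : Submodule A N).mkQ ∘ₗ φ =
          Submodule.mapQ _ _ LinearMap.id hle ∘ₗ ψ) := by
  set Θ : ((Fin r → A) →ₗ[A] N) →ₗ[A] ((Fin s → A) →ₗ[A] N) := LinearMap.lcomp A N T with hΘ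
  obtain ⟨c, hc1, hc2⟩ := exists_ar I (LinearMap.range Θ)
  have hmap : ∀ n, I ^ n • LinearMap.range Θ = Submodule.map Θ (I ^ n • ⊤) := by
    intro n
    rw [Submodule.map_smul'', Submodule.map_top]
  -- common core
  have core : ∀ (n : ℕ) (g : (Fin r → A) →ₗ[A] N), g ∘ₗ T ∈ I ^ n • LinearMap.range Θ →
      ∃ φ : M →ₗ[A] N, (I ^ n • ⊤ : Submodule A N).mkQ ∘ₗ φ ∘ₗ p =
        (I ^ n • ⊤ : Submodule A N).mkQ ∘ₗ g := by
    intro n g hg
    rw [hmap] at hg
    obtain ⟨g', hg'mem, hg'⟩ := hg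
    have h0 : (g - g') ∘ₗ T = 0 := by
      rw [LinearMap.sub_comp, sub_eq_zero]
      exact hg'.symm
    obtain ⟨φ, hφ⟩ := exists_factor p T hp hex (g - g') h0
    refine ⟨φ, ?_⟩
    rw [hφ, LinearMap.comp_sub]
    have : (I ^ n • ⊤ : Submodule A N).mkQ ∘ₗ g' = 0 := by
      apply LinearMap.ext
      intro x
      rw [LinearMap.comp_apply, LinearMap.zero_apply, Submodule.mkQ_apply,
        Submodule.Quotient.mk_eq_zero]
      exact forall_mem_of_mem_smul_top _ g' hg'mem _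
    rw [this, sub_zero]
  refine ⟨c, ?_, ?_⟩
  · intro n ψ a ha
    obtain ⟨g, hg⟩ := Module.projective_lifting_property (I ^ n • ⊤ : Submodule A N).mkQ (ψ ∘ₗ p)
      (Submodule.mkQ_surjective _)
    have hh : g ∘ₗ T ∈ (I ^ n • ⊤ : Submodule A ((Fin s → A) →ₗ[A] N)) := by
      apply mem_smul_top_of_forall_mem
      intro x
      rw [← Submodule.Quotient.mk_eq_zero, ← Submodule.mkQ_apply]
      have := LinearMap.congr_fun hg (T x)
      rw [LinearMap.comp_apply] at this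
      rw [LinearMap.comp_apply, this, LinearMap.comp_apply, hex.apply_apply_eq_zero, map_zero]
    have h1 := hc1 n (g ∘ₗ T) ⟨g, rfl⟩ hh a ha
    obtain ⟨φ, hφ⟩ := core n (a • g) (by rwa [LinearMap.smul_comp])
    refine ⟨φ, ?_⟩
    rw [← LinearMap.cancel_right hp, LinearMap.comp_assoc, hφ, LinearMap.comp_smul, hg,
      LinearMap.smul_comp]
  · intro n ψ hle
    obtain ⟨g, hg⟩ := Module.projective_lifting_property (I ^ (n + c) • ⊤ : Submodule A N).mkQ
      (ψ ∘ₗ p) (Submodule.mkQ_surjective _)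
    have hh : g ∘ₗ T ∈ (I ^ (n + c) • ⊤ : Submodule A ((Fin s → A) →ₗ[A] N)) := by
      apply mem_smul_top_of_forall_mem
      intro x
      rw [← Submodule.Quotient.mk_eq_zero, ← Submodule.mkQ_apply]
      have := LinearMap.congr_fun hg (T x)
      rw [LinearMap.comp_apply] at this
      rw [LinearMap.comp_apply, this, LinearMap.comp_apply, hex.apply_apply_eq_zero, map_zero]
    have h1 := hc2 n (g ∘ₗ T) ⟨g, rfl⟩ hh
    obtain ⟨φ, hφ⟩ := core n g h1
    refine ⟨φ, ?_⟩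
    rw [← LinearMap.cancel_right hp, LinearMap.comp_assoc, hφ, LinearMap.comp_assoc, ← hg,
      ← LinearMap.comp_assoc]
    congr 1

/-- Maps `M → N` vanishing modulo `IⁿN` lie in `Iⁿ Hom(M, N)` up to an Artin–Rees constant. -/
theorem exists_ker_bound (hp : Function.Surjective p) :
    ∃ c : ℕ, ∀ n (φ : M →ₗ[A] N), (I ^ n • ⊤ : Submodule A N).mkQ ∘ₗ φ = 0 → ∀ a ∈ I ^ c,
      a • φ ∈ (I ^ n • ⊤ : Submodule A (M →ₗ[A] N)) := by
  set P : (M →ₗ[A] N) →ₗ[A] ((Fin r → A) →ₗ[A] N) := LinearMap.lcomp A N p with hP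
  have hPinj : Function.Injective P := by
    intro φ φ' h
    exact (LinearMap.cancel_right hp).mp h
  obtain ⟨c, hc1, -⟩ := exists_ar I (LinearMap.range P)
  refine ⟨c, fun n φ hφ a ha => ?_⟩
  have hh : P φ ∈ (I ^ n • ⊤ : Submodule A ((Fin r → A) →ₗ[A] N)) := by
    apply mem_smul_top_of_forall_mem
    intro x
    rw [← Submodule.Quotient.mk_eq_zero, ← Submodule.mkQ_apply]
    exact LinearMap.congr_fun hφ (p x)
  have h1 := hc1 n (P φ) ⟨φ, rfl⟩ hh a ha
  rw [← Submodule.map_top, ← Submodule.map_smul''] at h1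
  obtain ⟨φ', hφ'mem, hφ'⟩ := h1
  rw [← map_smul] at hφ'
  rw [← hPinj hφ']
  exact hφ'mem

end Presentation

end Groth.Agent.Lib.Helper14.HomAR
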