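import Mathlib

set_option autoImplicit false
set_option linter.unusedVariables false
set_option linter.unusedSectionVars false
set_option linter.style.haveILetI false
universe u
open Polynomial

namespace Groth.Agent.Lib.Helper14InvNorm

section Q

variable {G : Type*} [Group G] [Fintype G]
variable {B₀ B : Type*} [CommRing B₀] [CommRing B] (j : B₀ →+* B)
  (act : G → B →+* B)
variable {K : Type*} [Fintype K]

/-- the universal "characteristic polynomial". -/
noncomputable def Q (m : K → B) : Polynomial (MvPolynomial K B) :=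
  ∏ σ : G, (X - C (∑ k, MvPolynomial.C (act σ (m k)) * MvPolynomial.X k))

theorem Q_monic (m : K → B) : (Q act m).Monic :=
  Polynomial.monic_prod_of_monic _ _ (fun σ _ => Polynomial.monic_X_sub_C _)

theorem Q_invariant (hact : ∀ σ τ b, act σ (act τ b) = act (σ * τ) b) (m : K → B) (τ : G) :
    (Q act m).map (MvPolynomial.map (act τ)) = Q act m := by
  unfold Q
  rw [Polynomial.map_prod]
  rw [← Fintype.prod_equiv (Equiv.mulLeft τ)
    (fun σ => (X - C (∑ k, MvPolynomial.C (act (τ * σ) (m k)) * MvPolynomial.X k) :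
      Polynomial (MvPolynomial K B)))
    (fun σ => (X - C (∑ k, MvPolynomial.C (act σ (m k)) * MvPolynomial.X k) :
      Polynomial (MvPolynomial K B))) (fun σ => rfl)]
  apply Finset.prod_congr rfl
  intro σ _
  rw [Polynomial.map_sub, Polynomial.map_X, Polynomial.map_C]
  congr 2
  rw [map_sum]
  apply Finset.sum_congr rfl
  intro k _
  rw [map_mul, MvPolynomial.map_C, MvPolynomial.map_X, hact]

theorem exists_Q₀ (hj : Function.Injective j)
    (hact : ∀ σ τ b, act σ (act τ b) = act (σ * τ) b)
    (hinv : ∀ b, (∀ σ, act σ b = b) → b ∈ j.range) (m : K → B) :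
    ∃ Q₀ : Polynomial (MvPolynomial K B₀), Q₀.Monic ∧
      Q₀.map (MvPolynomial.map j) = Q act m := by
  have h1 : Q act m ∈ (Polynomial.mapRingHom (MvPolynomial.map j)).range := by
    rw [Polynomial.mem_map_range]
    intro n
    rw [RingHom.mem_range]
    have h2 : (Q act m).coeff n ∈ Set.range (MvPolynomial.map j) := by
      rw [MvPolynomial.mem_range_map_iff_coeffs_subset]
      intro c hc
      rw [Finset.mem_coe, MvPolynomial.mem_coeffs_iff] at hc
      obtain ⟨d, hd, rfl⟩ := hc
      apply hinv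
      intro τ
      have h3 := congrArg (fun p => MvPolynomial.coeff d (Polynomial.coeff p n)) (Q_invariant act hact m τ)
      simp only [Polynomial.coeff_map, MvPolynomial.coeff_map] at h3
      exact h3
    exact h2
  obtain ⟨Q₀, hQ₀⟩ := h1
  refine ⟨Q₀, ?_, hQ₀⟩
  apply Polynomial.monic_of_injective (f := MvPolynomial.map j) (MvPolynomial.map_injective j hj)
  rw [Polynomial.coe_mapRingHom] at hQ₀
  rw [hQ₀]
  exact Q_monic act m

theorem Q_map_eval (m : K → B) (v : K → B) :
    (Q act m).map (MvPolynomial.eval v) = ∏ σ : G, (X - C (∑ k, act σ (m k) * v k)) := by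
  unfold Q
  rw [Polynomial.map_prod]
  apply Finset.prod_congr rfl
  intro σ _
  rw [Polynomial.map_sub, Polynomial.map_X, Polynomial.map_C]
  congr 2
  rw [map_sum]
  apply Finset.sum_congr rfl
  intro k _
  rw [map_mul, MvPolynomial.eval_C, MvPolynomial.eval_X]

theorem pow_eq_of_mem (hj : Function.Injective j)
    (hact : ∀ σ τ b, act σ (act τ b) = act (σ * τ) b)
    (hinv : ∀ b, (∀ σ, act σ b = b) → b ∈ j.range)
    (hjinv : ∀ σ b₀, act σ (j b₀) = j b₀)
    {A : Type*} [CommRing A] (π : B₀ →+* A) (g : B₀)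
    (c : K → B) (ℓ : K → B₀) (hℓ : ∀ i, π (ℓ i) = 0)
    (hg : j g = ∑ i, c i * j (ℓ i)) :
    (X - C (π g)) ^ Fintype.card G = (X ^ Fintype.card G : Polynomial A) := by
  obtain ⟨Q₀, hmonic, hQ₀⟩ := exists_Q₀ j act hj hact hinv c
  have hinjP : Function.Injective (Polynomial.map j : Polynomial B₀ → Polynomial B) :=
    Polynomial.map_injective j hj
  -- evaluation at ℓ
  have e1 : Q₀.map (MvPolynomial.eval ℓ) = (X - C g) ^ Fintype.card G := by
    apply hinjP
    rw [Polynomial.map_map]
    have hcomp : j.comp (MvPolynomial.eval ℓ) =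
        (MvPolynomial.eval (fun k => j (ℓ k))).comp (MvPolynomial.map j) := by
      apply MvPolynomial.ringHom_ext
      · intro b
        simp
      · intro k
        simp
    rw [hcomp, ← Polynomial.map_map, hQ₀, Q_map_eval]
    have : ∀ σ : G, (∑ k, act σ (c k) * j (ℓ k)) = j g := by
      intro σ
      have h1 : act σ (j g) = ∑ k, act σ (c k) * j (ℓ k) := by
        rw [hg, map_sum]
        apply Finset.sum_congr rfl
        intro k _
        rw [map_mul, hjinv]
      rw [← h1, hjinv]
    simp only [this, Finset.prod_const, Finset.card_univ]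
    rw [Polynomial.map_pow, Polynomial.map_sub, Polynomial.map_X, Polynomial.map_C]
  -- evaluation at 0
  have e2 : Q₀.map (MvPolynomial.eval (fun _ : K => (0 : B₀))) = X ^ Fintype.card G := by
    apply hinjP
    rw [Polynomial.map_map]
    have hcomp : j.comp (MvPolynomial.eval (fun _ : K => (0 : B₀))) =
        (MvPolynomial.eval (fun _ : K => (0 : B))).comp (MvPolynomial.map j) := by
      apply MvPolynomial.ringHom_ext
      · intro b
        simp
      · intro k
        simp
    rw [hcomp, ← Polynomial.map_map, hQ₀, Q_map_eval]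
    simp only [mul_zero, Finset.sum_const_zero, map_zero, sub_zero, Finset.prod_const,
      Finset.card_univ, Polynomial.map_pow, Polynomial.map_X]
  have e3 : π.comp (MvPolynomial.eval ℓ) = π.comp (MvPolynomial.eval (fun _ : K => (0 : B₀))) := by
    apply MvPolynomial.ringHom_ext
    · intro b
      simp
    · intro k
      simp [hℓ]
  calc (X - C (π g)) ^ Fintype.card G
      = ((X - C g) ^ Fintype.card G : Polynomial B₀).map π := by
        rw [Polynomial.map_pow, Polynomial.map_sub, Polynomial.map_X, Polynomial.map_C]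
    _ = Q₀.map (π.comp (MvPolynomial.eval ℓ)) := by rw [← e1, Polynomial.map_map]
    _ = Q₀.map (π.comp (MvPolynomial.eval (fun _ : K => (0 : B₀)))) := by rw [e3]
    _ = (X ^ Fintype.card G : Polynomial B₀).map π := by rw [← e2, Polynomial.map_map]
    _ = X ^ Fintype.card G := by rw [Polynomial.map_pow, Polynomial.map_X]

theorem Q_map_eval₂ {T : Type*} [CommRing T] (φ : B →+* T) (m : K → B) (v : K → T) :
    (Q act m).map (MvPolynomial.eval₂Hom φ v) = ∏ σ : G, (X - C (∑ k, φ (act σ (m k)) * v k)) := by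
  unfold Q
  rw [Polynomial.map_prod]
  apply Finset.prod_congr rfl
  intro σ _
  rw [Polynomial.map_sub, Polynomial.map_X, Polynomial.map_C]
  congr 2
  rw [map_sum]
  apply Finset.sum_congr rfl
  intro k _
  rw [map_mul]
  simp

end Q

section main

open TensorProduct

variable (R G A : Type u) [CommRing R] [Group G] [Fintype G]
    [MulSemiringAction G R] [CommRing A] [Algebra (FixedPoints.subring R G) A]

local notation "𝕊" => FixedPoints.subring R G

theorem part1 (b : TensorProduct (FixedPoints.subring R G) A R)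
    (hb : ∀ σ : G, Algebra.TensorProduct.map (AlgHom.id (FixedPoints.subring R G) A)
        (MulSemiringAction.toAlgHom (FixedPoints.subring R G) R σ) b = b) :
    ∃ P : Polynomial A, P.Monic ∧
        Polynomial.map (algebraMap A (TensorProduct (FixedPoints.subring R G) A R)) P =
          (Polynomial.X - Polynomial.C b) ^ Fintype.card G := by
  classical
  obtain ⟨s, hs⟩ := TensorProduct.exists_finset b
  let a : s → A := fun k => k.1.1
  let r : s → R := fun k => k.1.2
  have hb' : b = ∑ k : s, a k ⊗ₜ[𝕊] r k := by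
    rw [hs, ← Finset.sum_coe_sort]
  let act : G → R →+* R := fun σ => MulSemiringAction.toRingHom G R σ
  have hact : ∀ σ τ b, act σ (act τ b) = act (σ * τ) b := by
    intro σ τ b
    change σ • (τ • b) = (σ * τ) • b
    rw [smul_smul]
  have hinv : ∀ b, (∀ σ, act σ b = b) → b ∈ (𝕊).subtype.range := by
    intro b hb
    rw [Subring.range_subtype]
    exact hb
  obtain ⟨Q₀, hmonic, hQ₀⟩ := exists_Q₀ (𝕊).subtype act Subtype.val_injective hact hinv r
  refine ⟨Q₀.map (MvPolynomial.eval₂Hom (algebraMap 𝕊 A) a), hmonic.map _, ?_⟩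
  rw [Polynomial.map_map]
  have key : ∀ x : 𝕊, (algebraMap 𝕊 A x) ⊗ₜ[𝕊] (1 : R) = (1 : A) ⊗ₜ[𝕊] ((𝕊).subtype x) := by
    intro x
    rw [Algebra.algebraMap_eq_smul_one, TensorProduct.smul_tmul]
    congr 1
    rw [Subring.smul_def, smul_eq_mul, mul_one]
    rfl
  have hcomp : (algebraMap A (A ⊗[𝕊] R)).comp (MvPolynomial.eval₂Hom (algebraMap 𝕊 A) a) =
      (MvPolynomial.eval₂Hom
        (Algebra.TensorProduct.includeRight : R →ₐ[𝕊] A ⊗[𝕊] R).toRingHom
        (fun k => a k ⊗ₜ[𝕊] (1 : R))).comp (MvPolynomial.map (𝕊).subtype) := by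
    apply MvPolynomial.ringHom_ext
    · intro x
      simp only [RingHom.comp_apply, MvPolynomial.eval₂Hom_C, MvPolynomial.map_C]
      rw [Algebra.TensorProduct.algebraMap_apply]
      simp only [AlgHom.toRingHom_eq_coe, RingHom.coe_coe,
        Algebra.TensorProduct.includeRight_apply, Algebra.algebraMap_self_apply]
      exact key x
    · intro k
      simp [Algebra.TensorProduct.algebraMap_apply]
  rw [hcomp, ← Polynomial.map_map, hQ₀, Q_map_eval₂]
  have hσ : ∀ σ : G, (∑ k, (Algebra.TensorProduct.includeRight : R →ₐ[𝕊] A ⊗[𝕊] R).toRingHom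
      (act σ (r k)) * (a k ⊗ₜ[𝕊] (1 : R))) = b := by
    intro σ
    rw [← hb σ, hb', map_sum]
    apply Finset.sum_congr rfl
    intro k _
    simp only [AlgHom.toRingHom_eq_coe, RingHom.coe_coe, Algebra.TensorProduct.includeRight_apply,
      Algebra.TensorProduct.tmul_mul_tmul, one_mul, mul_one, Algebra.TensorProduct.map_tmul,
      AlgHom.coe_id, id_eq]
    rfl
  simp only [hσ, Finset.prod_const, Finset.card_univ]

theorem part2 (a : A) (ha : algebraMap A (TensorProduct (FixedPoints.subring R G) A R) a = 0) :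
    (X - C a) ^ Fintype.card G = (X ^ Fintype.card G : Polynomial A) := by
  classical
  let j : MvPolynomial A 𝕊 →+* MvPolynomial A R := MvPolynomial.map (𝕊).subtype
  let act : G → MvPolynomial A R →+* MvPolynomial A R :=
    fun σ => MvPolynomial.map (MulSemiringAction.toRingHom G R σ)
  have hj : Function.Injective j := MvPolynomial.map_injective _ Subtype.val_injective
  have hact : ∀ σ τ b, act σ (act τ b) = act (σ * τ) b := by
    intro σ τ b
    change MvPolynomial.map _ (MvPolynomial.map _ b) = MvPolynomial.map _ b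
    rw [MvPolynomial.map_map]
    have : (MulSemiringAction.toRingHom G R σ).comp (MulSemiringAction.toRingHom G R τ) =
        MulSemiringAction.toRingHom G R (σ * τ) := RingHom.ext (fun x => smul_smul σ τ x)
    rw [this]
  have hinv : ∀ b, (∀ σ, act σ b = b) → b ∈ j.range := by
    intro b hb
    change b ∈ Set.range (MvPolynomial.map (𝕊).subtype)
    rw [MvPolynomial.mem_range_map_iff_coeffs_subset]
    intro c hc
    rw [Finset.mem_coe, MvPolynomial.mem_coeffs_iff] at hc
    obtain ⟨d, hd, rfl⟩ := hc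
    have : MvPolynomial.coeff d b ∈ (𝕊).subtype.range := by
      rw [Subring.range_subtype]
      intro σ
      have h3 := congrArg (MvPolynomial.coeff d) (hb σ)
      change MvPolynomial.coeff d (MvPolynomial.map _ b) = _ at h3
      rw [MvPolynomial.coeff_map] at h3
      exact h3
    exact this
  have hjinv : ∀ σ b₀, act σ (j b₀) = j b₀ := by
    intro σ b₀
    change MvPolynomial.map _ (MvPolynomial.map _ b₀) = MvPolynomial.map _ b₀
    rw [MvPolynomial.map_map]
    have : (MulSemiringAction.toRingHom G R σ).comp (𝕊).subtype = (𝕊).subtype :=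
      RingHom.ext (fun x => x.2 σ)
    rw [this]
  let π : MvPolynomial A 𝕊 →ₐ[𝕊] A := MvPolynomial.aeval (fun a : A => a)
  have hπ : Function.Surjective π := fun a => ⟨MvPolynomial.X a, by simp [π]⟩
  -- kernel of the base change
  have hker := Algebra.TensorProduct.rTensor_ker (R := 𝕊) (C := R) π hπ
  have hmem : (MvPolynomial.X a : MvPolynomial A 𝕊) ⊗ₜ[𝕊] (1 : R) ∈
      (RingHom.ker π).map (Algebra.TensorProduct.includeLeft :
        MvPolynomial A 𝕊 →ₐ[𝕊] MvPolynomial A 𝕊 ⊗[𝕊] R) := by
    rw [← hker, RingHom.mem_ker, Algebra.TensorProduct.map_tmul]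
    simp only [π, MvPolynomial.aeval_X, AlgHom.coe_id, id_eq]
    rw [← ha, Algebra.TensorProduct.algebraMap_apply, Algebra.algebraMap_self_apply]
  let Φ : MvPolynomial A 𝕊 ⊗[𝕊] R →ₐ[𝕊] MvPolynomial A R :=
    Algebra.TensorProduct.productMap (MvPolynomial.mapAlgHom (Algebra.ofId 𝕊 R))
      (IsScalarTower.toAlgHom 𝕊 R (MvPolynomial A R))
  have hΦ : ∀ p : MvPolynomial A 𝕊, Φ (p ⊗ₜ[𝕊] (1 : R)) = j p := by
    intro p
    simp only [Φ, Algebra.TensorProduct.productMap_apply_tmul, map_one, mul_one]
    rfl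
  have hmem2 : j (MvPolynomial.X a) ∈ (RingHom.ker π).map j := by
    have h1 := Ideal.mem_map_of_mem (Φ : MvPolynomial A 𝕊 ⊗[𝕊] R →+* MvPolynomial A R) hmem
    have h2 : Ideal.map (Φ : MvPolynomial A 𝕊 ⊗[𝕊] R →+* MvPolynomial A R)
        ((RingHom.ker π).map (Algebra.TensorProduct.includeLeft :
          MvPolynomial A 𝕊 →ₐ[𝕊] MvPolynomial A 𝕊 ⊗[𝕊] R)) ≤ (RingHom.ker π).map j := by
      rw [Ideal.map_le_iff_le_comap, Ideal.map_le_iff_le_comap]
      intro x hx
      rw [Ideal.mem_comap, Ideal.mem_comap]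
      have : (Φ : MvPolynomial A 𝕊 ⊗[𝕊] R →+* MvPolynomial A R)
          ((Algebra.TensorProduct.includeLeft :
            MvPolynomial A 𝕊 →ₐ[𝕊] MvPolynomial A 𝕊 ⊗[𝕊] R) x) = j x := hΦ x
      rw [this]
      exact Ideal.mem_map_of_mem j hx
    have h3 : (Φ : MvPolynomial A 𝕊 ⊗[𝕊] R →+* MvPolynomial A R)
        ((MvPolynomial.X a : MvPolynomial A 𝕊) ⊗ₜ[𝕊] (1 : R)) = j (MvPolynomial.X a) := hΦ _
    rw [← h3]
    exact h2 h1
  have hmem3 : j (MvPolynomial.X a) ∈ Submodule.span (MvPolynomial A R) (j '' (RingHom.ker π)) :=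
    hmem2
  obtain ⟨n', c, g, hg⟩ := Submodule.mem_span_set'.mp hmem3
  choose ℓ hℓ using fun i => (g i).2
  have h4 := pow_eq_of_mem j act hj hact hinv hjinv (π : MvPolynomial A 𝕊 →+* A)
    (MvPolynomial.X a) c ℓ (fun i => (hℓ i).1) (by
      rw [← hg]
      apply Finset.sum_congr rfl
      intro i _
      rw [(hℓ i).2, smul_eq_mul])
  simpa [π] using h4

theorem main :
    (∀ b : TensorProduct (FixedPoints.subring R G) A R,
      (∀ σ : G, Algebra.TensorProduct.map (AlgHom.id (FixedPoints.subring R G) A)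
        (MulSemiringAction.toAlgHom (FixedPoints.subring R G) R σ) b = b) →
      ∃ P : Polynomial A, P.Monic ∧
        Polynomial.map (algebraMap A (TensorProduct (FixedPoints.subring R G) A R)) P =
          (Polynomial.X - Polynomial.C b) ^ Fintype.card G) ∧
    (∀ a : A, algebraMap A (TensorProduct (FixedPoints.subring R G) A R) a = 0 →
      ∀ i : ℕ, i < Fintype.card G →
        ((Polynomial.X - Polynomial.C a) ^ Fintype.card G).coeff i = 0) := by
  refine ⟨fun b hb => part1 R G A b hb, fun a ha i hi => ?_⟩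
  rw [part2 R G A a ha, Polynomial.coeff_X_pow, if_neg hi.ne]

end main

end Groth.Agent.Lib.Helper14InvNorm
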