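import Mathlib

/-! Helper14: finite projective inverse systems over an adically complete ring (Stacks 0D4B).

* `mem_smul_top_pi_iff`, `isAdicComplete_pi` : `Fin m → A` is `I`-adically complete if `A` is.
* `exists_lift_of_limit` : maps into an abstract inverse limit.
* `exists_lift_of_complete` : maps into a complete module from a compatible family of maps to its
  truncations.
* `exists_lift_of_retract_pi_quotient` : lifting property of retracts of `(A/J)^k` along surjections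
  onto/from modules killed by `J`.
-/

set_option autoImplicit false
universe u v w

namespace Groth.Agent.Lib.Helper14.ProjLim

variable {A : Type u} [CommRing A]

theorem mem_smul_top_pi_iff {m : ℕ} (J : Ideal A) (w : Fin m → A) :
    w ∈ (J • ⊤ : Submodule A (Fin m → A)) ↔ ∀ i, w i ∈ J := by
  constructor
  · intro hw i
    have hle : (J • ⊤ : Submodule A (Fin m → A)) ≤ Submodule.comap (LinearMap.proj i) J := by
      rw [Submodule.smul_le]
      intro a ha x _
      rw [Submodule.mem_comap, map_smul, smul_eq_mul]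
      exact Ideal.mul_mem_right _ _ ha
    exact hle hw
  · intro hw
    classical
    rw [pi_eq_sum_univ' w]
    apply Submodule.sum_mem
    intro i _
    exact Submodule.smul_mem_smul (hw i) trivial

theorem isAdicComplete_pi (I : Ideal A) [IsAdicComplete I A] (m : ℕ) :
    IsAdicComplete I (Fin m → A) := by
  refine { haus' := ?_, prec' := ?_ }
  · intro x hx
    funext i
    apply IsHausdorff.haus (I := I) (M := A) inferInstance
    intro n
    have := hx n
    rw [SModEq.sub_mem, sub_zero, mem_smul_top_pi_iff] at this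
    rw [SModEq.sub_mem, sub_zero, smul_eq_mul, Ideal.mul_top]
    exact this i
  · intro f hf
    have hc : ∀ i, ∃ L : A, ∀ n, f n i ≡ L [SMOD (I ^ n • ⊤ : Submodule A A)] := by
      intro i
      apply IsPrecomplete.prec (I := I) (M := A) inferInstance
      intro a b hab
      have := hf hab
      rw [SModEq.sub_mem, mem_smul_top_pi_iff] at this
      rw [SModEq.sub_mem, smul_eq_mul, Ideal.mul_top]
      exact this i
    choose L hL using hc
    refine ⟨L, fun n => ?_⟩
    rw [SModEq.sub_mem, mem_smul_top_pi_iff]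
    intro i
    have := hL i n
    rw [SModEq.sub_mem, smul_eq_mul, Ideal.mul_top] at this
    exact this

section Limit

variable {M : ℕ → Type v} [∀ n, AddCommGroup (M n)] [∀ n, Module A (M n)]
  (f : ∀ n, M (n + 1) →ₗ[A] M n) {L : Type w} [AddCommGroup L] [Module A L]
  (π : ∀ n, L →ₗ[A] M n)

/-- Maps into an abstract inverse limit. -/
theorem exists_lift_of_limit
    (hinj : ∀ x : L, (∀ n, π n x = 0) → x = 0)
    (hlift : ∀ y : (∀ n, M n), (∀ n, f n (y (n + 1)) = y n) → ∃ x : L, ∀ n, π n x = y n)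
    {X : Type*} [AddCommGroup X] [Module A X] (g : ∀ n, X →ₗ[A] M n)
    (hg : ∀ n, f n ∘ₗ g (n + 1) = g n) :
    ∃ G : X →ₗ[A] L, ∀ n, π n ∘ₗ G = g n := by
  have h : ∀ x : X, ∃ l : L, ∀ n, π n l = g n x := fun x =>
    hlift (fun n => g n x) (fun n => LinearMap.congr_fun (hg n) x)
  choose G0 hG0 using h
  refine ⟨{ toFun := G0, map_add' := ?_, map_smul' := ?_ }, fun n => LinearMap.ext fun x => hG0 x n⟩
  · intro x y
    rw [← sub_eq_zero]
    apply hinj
    intro n
    rw [map_sub, map_add, hG0, hG0, hG0, map_add, sub_self]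
  · intro a x
    rw [← sub_eq_zero]
    apply hinj
    intro n
    rw [map_sub, map_smul, hG0, hG0, RingHom.id_apply, map_smul, sub_self]

end Limit

section Complete

variable (I : Ideal A) (F : Type v) [AddCommGroup F] [Module A F]

/-- the truncations of a module -/
abbrev Trunc (n : ℕ) : Type v := F ⧸ (I ^ (n + 1) • ⊤ : Submodule A F)

theorem pow_smul_top_le (n : ℕ) :
    (I ^ (n + 1 + 1) • ⊤ : Submodule A F) ≤ (I ^ (n + 1) • ⊤ : Submodule A F) :=
  Submodule.smul_mono_left (Ideal.pow_le_pow_right (Nat.le_succ _))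

/-- transition maps of the truncations -/
noncomputable abbrev trans (n : ℕ) : Trunc I F (n + 1) →ₗ[A] Trunc I F n :=
  Submodule.factor (pow_smul_top_le I F n)

theorem complete_hinj [IsHausdorff I F] (x : F)
    (h : ∀ n, (I ^ (n + 1) • ⊤ : Submodule A F).mkQ x = 0) : x = 0 := by
  apply IsHausdorff.haus (I := I) inferInstance
  intro n
  rw [SModEq.sub_mem, sub_zero]
  have := h n
  rw [Submodule.mkQ_apply, Submodule.Quotient.mk_eq_zero] at this
  exact Submodule.smul_mono_left (Ideal.pow_le_pow_right (Nat.le_succ _)) this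

theorem complete_hlift [IsPrecomplete I F] (y : ∀ n, Trunc I F n)
    (hy : ∀ n, trans I F n (y (n + 1)) = y n) :
    ∃ x : F, ∀ n, (I ^ (n + 1) • ⊤ : Submodule A F).mkQ x = y n := by
  have hz : ∀ n, ∃ z : F, (I ^ (n + 1) • ⊤ : Submodule A F).mkQ z = y n :=
    fun n => Submodule.mkQ_surjective _ _
  choose z hz using hz
  have hstep : ∀ n, z (n + 1) - z n ∈ (I ^ (n + 1) • ⊤ : Submodule A F) := by
    intro n
    rw [← Submodule.Quotient.mk_eq_zero, Submodule.Quotient.mk_sub, sub_eq_zero]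
    have h1 := hy n
    rw [← hz (n + 1), ← hz n] at h1
    exact h1
  have hcauchy : ∀ {a b : ℕ}, a ≤ b → z a ≡ z b [SMOD (I ^ a • ⊤ : Submodule A F)] := by
    intro a b hab
    induction b, hab using Nat.le_induction with
    | base => rfl
    | succ b hab ih =>
      refine ih.trans ?_
      rw [SModEq.sub_mem]
      have h2 := hstep b
      have h3 : z b - z (b + 1) ∈ (I ^ (b + 1) • ⊤ : Submodule A F) := by
        rw [← neg_sub]; exact Submodule.neg_mem _ h2
      exact Submodule.smul_mono_left (Ideal.pow_le_pow_right (by omega)) h3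
  obtain ⟨x, hx⟩ := IsPrecomplete.prec (I := I) inferInstance hcauchy
  refine ⟨x, fun n => ?_⟩
  rw [← hz n, Submodule.mkQ_apply, Submodule.mkQ_apply, eq_comm, Submodule.Quotient.eq]
  -- z n - x = (z n - z (n+1)) + (z (n+1) - x)
  have h4 : z (n + 1) - x ∈ (I ^ (n + 1) • ⊤ : Submodule A F) := by
    have := hx (n + 1)
    rwa [SModEq.sub_mem] at this
  have h5 : z n - z (n + 1) ∈ (I ^ (n + 1) • ⊤ : Submodule A F) := by
    rw [← neg_sub]; exact Submodule.neg_mem _ (hstep n)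
  have : z n - x = (z n - z (n + 1)) + (z (n + 1) - x) := by abel
  rw [this]
  exact Submodule.add_mem _ h5 h4

/-- Maps into a complete module from compatible maps into its truncations. -/
theorem exists_lift_of_complete [IsAdicComplete I F]
    {X : Type*} [AddCommGroup X] [Module A X] (g : ∀ n, X →ₗ[A] Trunc I F n)
    (hg : ∀ n, trans I F n ∘ₗ g (n + 1) = g n) :
    ∃ G : X →ₗ[A] F, ∀ n, (I ^ (n + 1) • ⊤ : Submodule A F).mkQ ∘ₗ G = g n :=
  exists_lift_of_limit (M := Trunc I F) (trans I F) (fun n => (I ^ (n + 1) • ⊤ : Submodule A F).mkQ)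
    (complete_hinj I F) (complete_hlift I F) g hg

end Complete

section Lifting

theorem exists_lift_pi_quotient (J : Ideal A) {k : ℕ} {X Y : Type*} [AddCommGroup X] [Module A X]
    [AddCommGroup Y] [Module A Y] (hX : ∀ a ∈ J, ∀ x : X, a • x = 0) (g : X →ₗ[A] Y)
    (hg : Function.Surjective g) (h : (Fin k → A ⧸ J) →ₗ[A] Y) :
    ∃ h' : (Fin k → A ⧸ J) →ₗ[A] X, g ∘ₗ h' = h := by
  classical
  have hx : ∀ j : Fin k, ∃ x : X, g x = h (Pi.single j 1) := fun j => hg _
  choose x hx using hx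
  let φ : Fin k → (A ⧸ J) →ₗ[A] X := fun j =>
    Submodule.liftQ J (LinearMap.toSpanSingleton A X (x j)) (fun a ha => by
      rw [LinearMap.mem_ker, LinearMap.toSpanSingleton_apply]
      exact hX a ha (x j))
  have hφ : ∀ j (a : A), φ j (Ideal.Quotient.mk J a) = a • x j := by
    intro j a
    change Submodule.liftQ J (LinearMap.toSpanSingleton A X (x j)) _ (Submodule.Quotient.mk a) = _
    rw [Submodule.liftQ_apply, LinearMap.toSpanSingleton_apply]
  refine ⟨∑ j, (φ j) ∘ₗ (LinearMap.proj j), ?_⟩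
  apply LinearMap.pi_ext
  intro j n
  obtain ⟨a, rfl⟩ := Ideal.Quotient.mk_surjective n
  rw [LinearMap.comp_apply, LinearMap.sum_apply]
  rw [Finset.sum_eq_single j]
  · rw [LinearMap.comp_apply, LinearMap.proj_apply, Pi.single_eq_same, hφ, map_smul, hx, ← map_smul]
    congr 1
    rw [← Pi.single_smul, ← Ideal.Quotient.algebraMap_eq, Algebra.smul_def, mul_one]
  · intro b _ hb
    rw [LinearMap.comp_apply, LinearMap.proj_apply, Pi.single_eq_of_ne hb, map_zero]
  · intro hj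
    exact absurd (Finset.mem_univ j) hj

theorem exists_lift_of_retract (J : Ideal A) {k : ℕ} {P X Y : Type*} [AddCommGroup P] [Module A P]
    [AddCommGroup X] [Module A X] [AddCommGroup Y] [Module A Y]
    (i : P →ₗ[A] (Fin k → A ⧸ J)) (r : (Fin k → A ⧸ J) →ₗ[A] P) (hri : r ∘ₗ i = LinearMap.id)
    (hX : ∀ a ∈ J, ∀ x : X, a • x = 0) (g : X →ₗ[A] Y)
    (hg : Function.Surjective g) (h : P →ₗ[A] Y) :
    ∃ h' : P →ₗ[A] X, g ∘ₗ h' = h := by
  obtain ⟨h'', hh''⟩ := exists_lift_pi_quotient J hX g hg (h ∘ₗ r)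
  refine ⟨h'' ∘ₗ i, ?_⟩
  rw [← LinearMap.comp_assoc, hh'', LinearMap.comp_assoc, hri, LinearMap.comp_id]

end Lifting

section Main

theorem map_mem_smul_top {M M' : Type*} [AddCommGroup M] [Module A M] [AddCommGroup M'] [Module A M']
    (J : Ideal A) (g : M →ₗ[A] M') {x : M} (hx : x ∈ (J • ⊤ : Submodule A M)) :
    g x ∈ (J • ⊤ : Submodule A M') := by
  have : g x ∈ Submodule.map g (J • ⊤ : Submodule A M) := ⟨x, hx, rfl⟩
  rw [Submodule.map_smul''] at this
  exact (smul_mono_right J le_top : J • _ ≤ J • (⊤ : Submodule A M')) this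

theorem trunc_smul_eq_zero (I : Ideal A) (F : Type v) [AddCommGroup F] [Module A F] (n : ℕ)
    (a : A) (ha : a ∈ I ^ (n + 1)) (x : Trunc I F n) : a • x = 0 := by
  obtain ⟨y, rfl⟩ := Submodule.mkQ_surjective _ x
  rw [← map_smul, Submodule.mkQ_apply, Submodule.Quotient.mk_eq_zero]
  exact Submodule.smul_mem_smul ha trivial

/-- The one-step correction: a lift `τ` of `σ ∘ f` whose composite with the projection is
`1 + δ` with `δ² = 0` can be corrected to a compatible splitting. -/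
theorem exists_splitting_step {M₁ M₀ T₁ T₀ : Type*} [AddCommGroup M₁] [Module A M₁]
    [AddCommGroup M₀] [Module A M₀] [AddCommGroup T₁] [Module A T₁] [AddCommGroup T₀] [Module A T₀]
    (K : Ideal A) (f : M₁ →ₗ[A] M₀) (t : T₁ →ₗ[A] T₀) (q₁ : T₁ →ₗ[A] M₁) (q₀ : T₀ →ₗ[A] M₀)
    (hcomm : q₀ ∘ₗ t = f ∘ₗ q₁) (hker : LinearMap.ker f = K • (⊤ : Submodule A M₁))
    (hKK : (K * K) • (⊤ : Submodule A M₁) = ⊥)
    (σ : M₀ →ₗ[A] T₀) (hσ : q₀ ∘ₗ σ = LinearMap.id) (τ : M₁ →ₗ[A] T₁) (hτ : t ∘ₗ τ = σ ∘ₗ f) :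
    ∃ σ' : M₁ →ₗ[A] T₁, q₁ ∘ₗ σ' = LinearMap.id ∧ t ∘ₗ σ' = σ ∘ₗ f := by
  set δ : M₁ →ₗ[A] M₁ := q₁ ∘ₗ τ - LinearMap.id with hδ
  have hfδ : f ∘ₗ δ = 0 := by
    rw [hδ, LinearMap.comp_sub, LinearMap.comp_id, ← LinearMap.comp_assoc, ← hcomm,
      LinearMap.comp_assoc, hτ, ← LinearMap.comp_assoc, hσ, LinearMap.id_comp, sub_self]
  have hrange : ∀ x, δ x ∈ (K • ⊤ : Submodule A M₁) := by
    intro x
    rw [← hker, LinearMap.mem_ker]
    exact LinearMap.congr_fun hfδ x
  have hδδ : δ ∘ₗ δ = 0 := by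
    ext x
    rw [LinearMap.comp_apply, LinearMap.zero_apply]
    have h1 : δ (δ x) ∈ Submodule.map δ (K • ⊤ : Submodule A M₁) := ⟨δ x, hrange x, rfl⟩
    rw [Submodule.map_smul''] at h1
    have h2 : (K • Submodule.map δ ⊤ : Submodule A M₁) ≤ K • (K • ⊤ : Submodule A M₁) := by
      apply smul_mono_right
      rintro _ ⟨y, _, rfl⟩
      exact hrange y
    have h3 := h2 h1
    rw [← Submodule.mul_smul, hKK] at h3
    exact (Submodule.mem_bot A).mp h3
  have hq : q₁ ∘ₗ τ = LinearMap.id + δ := by rw [hδ]; abel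
  refine ⟨τ ∘ₗ (LinearMap.id - δ), ?_, ?_⟩
  · rw [← LinearMap.comp_assoc, hq, LinearMap.comp_sub, LinearMap.comp_id, LinearMap.add_comp,
      LinearMap.id_comp, hδδ]
    abel
  · rw [← LinearMap.comp_assoc, hτ, LinearMap.comp_assoc, LinearMap.comp_sub, LinearMap.comp_id,
      LinearMap.comp_sub, hfδ, LinearMap.comp_zero, sub_zero]

end Main

section Final

theorem main (I : Ideal A) [IsAdicComplete I A]
    (M : ℕ → Type v) [∀ n, AddCommGroup (M n)] [∀ n, Module A (M n)]
    (f : ∀ n, M (n + 1) →ₗ[A] M n) (hf : ∀ n, Function.Surjective (f n))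
    (hk : ∀ n, I ^ (n + 1) • (⊤ : Submodule A (M n)) = ⊥)
    (hker : ∀ n, LinearMap.ker (f n) = I ^ (n + 1) • (⊤ : Submodule A (M (n + 1))))
    (L : Type v) [AddCommGroup L] [Module A L] (π : ∀ n, L →ₗ[A] M n)
    (hπ : ∀ n, f n ∘ₗ π (n + 1) = π n)
    (hinj : ∀ x : L, (∀ n, π n x = 0) → x = 0)
    (hlift : ∀ y : (∀ n, M n), (∀ n, f n (y (n + 1)) = y n) → ∃ x : L, ∀ n, π n x = y n)
    (hproj : ∀ n, ∃ (m : ℕ) (i : M n →ₗ[A] (Fin m → A ⧸ I ^ (n + 1)))
      (r : (Fin m → A ⧸ I ^ (n + 1)) →ₗ[A] M n), r ∘ₗ i = LinearMap.id) :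
    Module.Finite A L ∧ Module.Projective A L ∧
      ∀ n, Function.Surjective (π n) ∧ LinearMap.ker (π n) = I ^ (n + 1) • (⊤ : Submodule A L) := by
  classical
  obtain ⟨m, i0, r0, h0⟩ := hproj 0
  haveI : IsAdicComplete I (Fin m → A) := isAdicComplete_pi I m
  -- the surjection F → M 0
  let c0 : (Fin m → A) →ₗ[A] (Fin m → A ⧸ I ^ (0 + 1)) :=
    ((Ideal.Quotient.mkₐ A (I ^ (0 + 1))).toLinearMap).compLeft (Fin m)
  have hc0 : Function.Surjective c0 := by
    intro w
    choose v hv using fun j => Ideal.Quotient.mk_surjective (w j)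
    exact ⟨v, funext hv⟩
  have hr0 : Function.Surjective r0 := fun y => ⟨i0 y, LinearMap.congr_fun h0 y⟩
  -- compatible maps q n : F → M n
  obtain ⟨q, hq0, hqs⟩ : ∃ q : ∀ n, (Fin m → A) →ₗ[A] M n, q 0 = r0 ∘ₗ c0 ∧
      ∀ n, f n ∘ₗ q (n + 1) = q n :=
    ⟨fun n => Nat.rec (r0 ∘ₗ c0)
      (fun n g => Classical.choose (Module.projective_lifting_property (f n) g (hf n))) n, rfl,
      fun n => Classical.choose_spec (Module.projective_lifting_property (f n) _ (hf n))⟩
  have hqk : ∀ n, (I ^ (n + 1) • ⊤ : Submodule A (Fin m → A)) ≤ LinearMap.ker (q n) := by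
    intro n x hx
    rw [LinearMap.mem_ker]
    have := map_mem_smul_top (I ^ (n + 1)) (q n) hx
    rw [hk n] at this
    exact (Submodule.mem_bot A).mp this
  -- induced maps on truncations
  obtain ⟨qb, hqb⟩ : ∃ qb : ∀ n, Trunc I (Fin m → A) n →ₗ[A] M n,
      ∀ n, qb n ∘ₗ (I ^ (n + 1) • ⊤ : Submodule A (Fin m → A)).mkQ = q n :=
    ⟨fun n => Submodule.liftQ _ (q n) (hqk n), fun n => Submodule.liftQ_mkQ _ _ _⟩
  have hqbt : ∀ n, qb n ∘ₗ trans I (Fin m → A) n = f n ∘ₗ qb (n + 1) := by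
    intro n
    apply Submodule.linearMap_qext
    rw [LinearMap.comp_assoc, LinearMap.comp_assoc, hqb (n + 1), hqs n, Submodule.factor_comp_mk,
      hqb n]
  have hqb0 : Function.Surjective (qb 0) := by
    have h1 : Function.Surjective (q 0) := by rw [hq0]; exact hr0.comp hc0
    intro y
    obtain ⟨x, rfl⟩ := h1 y
    exact ⟨Submodule.mkQ _ x, LinearMap.congr_fun (hqb 0) x⟩
  -- compatible splittings
  have hstep : ∀ n (σ : {σ : M n →ₗ[A] Trunc I (Fin m → A) n // qb n ∘ₗ σ = LinearMap.id}),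
      ∃ σ' : {σ' : M (n + 1) →ₗ[A] Trunc I (Fin m → A) (n + 1) // qb (n + 1) ∘ₗ σ' = LinearMap.id},
        trans I (Fin m → A) n ∘ₗ σ'.1 = σ.1 ∘ₗ f n := by
    rintro n ⟨σ, hσ⟩
    obtain ⟨k, i, r, hri⟩ := hproj (n + 1)
    obtain ⟨τ, hτ⟩ := exists_lift_of_retract (I ^ (n + 1 + 1)) i r hri
      (trunc_smul_eq_zero I (Fin m → A) (n + 1)) (trans I (Fin m → A) n)
      (Submodule.factor_surjective _) (σ ∘ₗ f n)
    have hKK : (I ^ (n + 1) * I ^ (n + 1)) • (⊤ : Submodule A (M (n + 1))) = ⊥ := by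
      rw [eq_bot_iff, ← hk (n + 1)]
      apply Submodule.smul_mono_left
      rw [← pow_add]
      exact Ideal.pow_le_pow_right (by omega)
    obtain ⟨σ', h1, h2⟩ := exists_splitting_step (I ^ (n + 1)) (f n) (trans I (Fin m → A) n)
      (qb (n + 1)) (qb n) (hqbt n) (hker n) hKK σ hσ τ hτ
    exact ⟨⟨σ', h1⟩, h2⟩
  obtain ⟨σ0, hσ0⟩ := exists_lift_of_retract (I ^ (0 + 1)) i0 r0 h0
    (trunc_smul_eq_zero I (Fin m → A) 0) (qb 0) hqb0 LinearMap.id
  obtain ⟨sq, hsq⟩ : ∃ sq : ∀ n, {σ : M n →ₗ[A] Trunc I (Fin m → A) n // qb n ∘ₗ σ = LinearMap.id},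
      ∀ n, trans I (Fin m → A) n ∘ₗ (sq (n + 1)).1 = (sq n).1 ∘ₗ f n :=
    ⟨fun n => Nat.rec ⟨σ0, hσ0⟩ (fun n s => Classical.choose (hstep n s)) n,
      fun n => Classical.choose_spec (hstep n _)⟩
  -- the map σ : L → F
  obtain ⟨σ, hσ⟩ := exists_lift_of_complete I (Fin m → A) (fun n => (sq n).1 ∘ₗ π n) (by
    intro n
    rw [← LinearMap.comp_assoc, hsq n, LinearMap.comp_assoc, hπ n])
  -- the map qL : F → L
  obtain ⟨qL, hqL⟩ := exists_lift_of_limit f π hinj hlift q hqs
  have hqσ : qL ∘ₗ σ = LinearMap.id := by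
    ext x
    rw [LinearMap.comp_apply, LinearMap.id_apply, ← sub_eq_zero]
    apply hinj
    intro n
    rw [map_sub, sub_eq_zero]
    have h1 : π n (qL (σ x)) = q n (σ x) := LinearMap.congr_fun (hqL n) (σ x)
    have h2 : (I ^ (n + 1) • ⊤ : Submodule A (Fin m → A)).mkQ (σ x) = (sq n).1 (π n x) :=
      LinearMap.congr_fun (hσ n) x
    have h3 : q n (σ x) = qb n ((I ^ (n + 1) • ⊤ : Submodule A (Fin m → A)).mkQ (σ x)) :=
      (LinearMap.congr_fun (hqb n) (σ x)).symm
    rw [h1, h3, h2]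
    exact LinearMap.congr_fun (sq n).2 (π n x)
  have hqLsurj : Function.Surjective qL := fun y => ⟨σ y, LinearMap.congr_fun hqσ y⟩
  refine ⟨Module.Finite.of_surjective qL hqLsurj, Module.Projective.of_split σ qL hqσ, fun n => ⟨?_, ?_⟩⟩
  · -- surjectivity of π n
    intro y
    have h1 : qb n ((sq n).1 y) = y := LinearMap.congr_fun (sq n).2 y
    obtain ⟨z, hz⟩ := Submodule.mkQ_surjective _ ((sq n).1 y)
    refine ⟨qL z, ?_⟩
    have h2 : π n (qL z) = q n z := LinearMap.congr_fun (hqL n) z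
    rw [h2, ← hqb n, LinearMap.comp_apply, hz, h1]
  · apply le_antisymm
    · intro x hx
      rw [LinearMap.mem_ker] at hx
      have h2 : (I ^ (n + 1) • ⊤ : Submodule A (Fin m → A)).mkQ (σ x) = (sq n).1 (π n x) :=
        LinearMap.congr_fun (hσ n) x
      rw [hx, map_zero, Submodule.mkQ_apply, Submodule.Quotient.mk_eq_zero] at h2
      have h3 := map_mem_smul_top (I ^ (n + 1)) qL h2
      rwa [show qL (σ x) = x from LinearMap.congr_fun hqσ x] at h3
    · intro x hx
      rw [LinearMap.mem_ker]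
      have := map_mem_smul_top (I ^ (n + 1)) (π n) hx
      rw [hk n] at this
      exact (Submodule.mem_bot A).mp this

end Final

end Groth.Agent.Lib.Helper14.ProjLim
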