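import Mathlib
import Groth.Agent.Lib.Helper14ProjLim

set_option autoImplicit false
set_option linter.unusedVariables false
set_option linter.unusedSectionVars false
set_option linter.style.haveILetI false

universe u

namespace Groth.Agent.Lib.Helper14KrasnerAlg

open Polynomial IntermediateField

/-- Hensel's lemma for adically complete rings, without the monic assumption
(the Mathlib proof of `IsAdicComplete.henselianRing` does not use it). -/
theorem hensel_nonmonic {R : Type*} [CommRing R] (I : Ideal R) [IsAdicComplete I R] (f : R[X])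
    (a₀ : R) (h₁ : f.eval a₀ ∈ I) (h₂ : IsUnit (Ideal.Quotient.mk I (f.derivative.eval a₀))) :
    ∃ a : R, f.IsRoot a ∧ a - a₀ ∈ I := by
  classical
  let f' := derivative f
  let c : ℕ → R := fun n => Nat.recOn n a₀ fun _ b => b - f.eval b * Ring.inverse (f'.eval b)
  have hc : ∀ n, c (n + 1) = c n - f.eval (c n) * Ring.inverse (f'.eval (c n)) := by
    intro n
    simp only [c]
  have hc_mod : ∀ n, c n ≡ a₀ [SMOD I] := by
    intro n
    induction n with
    | zero => rfl
    | succ n ih => ?_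
    rw [hc, sub_eq_add_neg, ← add_zero a₀]
    refine ih.add ?_
    rw [SModEq.zero, Ideal.neg_mem_iff]
    refine I.mul_mem_right _ ?_
    rw [← SModEq.zero] at h₁ ⊢
    exact (ih.eval f).trans h₁
  have hf'c : ∀ n, IsUnit (f'.eval (c n)) := by
    intro n
    have := isLocalHom_of_le_jacobson_bot I (IsAdicComplete.le_jacobson_bot I)
    apply IsUnit.of_map (Ideal.Quotient.mk I)
    convert! h₂ using 1
    exact SModEq.def.mp ((hc_mod n).eval _)
  have hfcI : ∀ n, f.eval (c n) ∈ I ^ (n + 1) := by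
    intro n
    induction n with
    | zero => simpa only [Nat.rec_zero, zero_add, pow_one] using! h₁
    | succ n ih => ?_
    rw [← taylor_eval_sub (c n), hc, sub_eq_add_neg, sub_eq_add_neg,
      add_neg_cancel_comm]
    rw [eval_eq_sum, sum_over_range' _ _ _ (lt_add_of_pos_right _ zero_lt_two), ←
      Finset.sum_range_add_sum_Ico _ (Nat.le_add_left _ _)]
    swap
    · intro i
      rw [zero_mul]
    refine Ideal.add_mem _ ?_ ?_
    · rw [← one_add_one_eq_two, Finset.sum_range_succ, Finset.range_one, Finset.sum_singleton,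
        taylor_coeff_zero, taylor_coeff_one, pow_zero, pow_one, mul_one, mul_neg,
        mul_left_comm, Ring.mul_inverse_cancel _ (hf'c n), mul_one, add_neg_cancel]
      exact Ideal.zero_mem _
    · refine Submodule.sum_mem _ ?_
      simp only [Finset.mem_Ico]
      rintro i ⟨h2i, _⟩
      have aux : n + 2 ≤ i * (n + 1) := by trans 2 * (n + 1) <;> nlinarith only [h2i]
      refine Ideal.mul_mem_left _ _ (Ideal.pow_le_pow_right aux ?_)
      rw [pow_mul']
      exact Ideal.pow_mem_pow ((Ideal.neg_mem_iff _).2 <| Ideal.mul_mem_right _ _ ih) _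
  have aux : ∀ m n, m ≤ n → c m ≡ c n [SMOD (I ^ m • ⊤ : Ideal R)] := by
    intro m n hmn
    rw [← Ideal.one_eq_top, Ideal.smul_eq_mul, mul_one]
    obtain ⟨k, rfl⟩ := Nat.exists_eq_add_of_le hmn
    clear hmn
    induction k with
    | zero => rw [add_zero]
    | succ k ih => ?_
    rw [← add_assoc, hc, ← add_zero (c m), sub_eq_add_neg]
    refine ih.add ?_
    symm
    rw [SModEq.zero, Ideal.neg_mem_iff]
    refine Ideal.mul_mem_right _ _ (Ideal.pow_le_pow_right ?_ (hfcI _))
    rw [add_assoc]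
    exact le_self_add
  obtain ⟨a, ha⟩ := IsPrecomplete.prec' c (aux _ _)
  refine ⟨a, ?_, ?_⟩
  · show f.IsRoot a
    suffices ∀ n, f.eval a ≡ 0 [SMOD (I ^ n • ⊤ : Ideal R)] by exact IsHausdorff.haus' _ this
    intro n
    specialize ha n
    rw [← Ideal.one_eq_top, Ideal.smul_eq_mul, mul_one] at ha ⊢
    refine (ha.symm.eval f).trans ?_
    rw [SModEq.zero]
    exact Ideal.pow_le_pow_right le_self_add (hfcI _)
  · show a - a₀ ∈ I
    specialize ha (0 + 1)
    rw [hc, pow_one, ← Ideal.one_eq_top, Ideal.smul_eq_mul, mul_one, sub_eq_add_neg] at ha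
    rw [← SModEq.sub_mem, ← add_zero a₀]
    refine ha.symm.trans (SModEq.rfl.add ?_)
    rw [SModEq.zero, Ideal.neg_mem_iff]
    exact Ideal.mul_mem_right _ _ h₁

theorem exists_root_near {D : Type*} [CommRing D] (ϖ : D) [IsAdicComplete (Ideal.span {ϖ}) D]
    (hϖ : ∀ (k : ℕ) (a b : D), ϖ ^ k * a = ϖ ^ k * b → a = b)
    (g : D[X]) (θ d c : D) (v : ℕ)
    (hd : g.derivative.eval θ * d = ϖ ^ v) (hg : g.eval θ = ϖ ^ (2 * v + 2) * c) :
    ∃ θ' : D, g.IsRoot θ' ∧ θ' - θ ∈ Ideal.span {ϖ} := by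
  set G : D[X] := (taylor θ g).comp (C (ϖ ^ (v + 1) * d) * X) with hG
  have hcoeff : ∀ k, G.coeff k = (taylor θ g).coeff k * (ϖ ^ (v + 1) * d) ^ k := by
    intro k
    rw [hG, comp_C_mul_X_coeff]
  have hdvd : C (ϖ ^ (2 * v + 1)) ∣ G := by
    rw [C_dvd_iff_dvd_coeff]
    intro k
    rw [hcoeff]
    rcases k with _ | _ | k
    · rw [taylor_coeff_zero, hg, pow_zero, mul_one]
      exact Dvd.dvd.mul_right (pow_dvd_pow _ (by omega)) _
    · rw [taylor_coeff_one, pow_one]
      refine ⟨1, ?_⟩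
      calc g.derivative.eval θ * (ϖ ^ (v + 1) * d) = ϖ ^ (v + 1) * (g.derivative.eval θ * d) := by
            ring
        _ = ϖ ^ (2 * v + 1) * 1 := by rw [hd]; ring
    · rw [mul_pow, ← pow_mul]
      refine Dvd.dvd.mul_left (Dvd.dvd.mul_right (pow_dvd_pow _ ?_) _) _
      nlinarith
  obtain ⟨Φ, hΦ⟩ := hdvd
  have h0 : Φ.coeff 0 = ϖ * c := by
    apply hϖ (2 * v + 1)
    have := hcoeff 0
    rw [hΦ, coeff_C_mul, taylor_coeff_zero, hg, pow_zero, mul_one] at this
    rw [this]; ring
  have h1 : Φ.coeff 1 = 1 := by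
    apply hϖ (2 * v + 1)
    have := hcoeff 1
    rw [hΦ, coeff_C_mul, taylor_coeff_one, pow_one] at this
    rw [this]
    calc g.derivative.eval θ * (ϖ ^ (v + 1) * d) = ϖ ^ (v + 1) * (g.derivative.eval θ * d) := by
          ring
      _ = ϖ ^ (2 * v + 1) * 1 := by rw [hd]; ring
  obtain ⟨y, hy, hy0⟩ := hensel_nonmonic (Ideal.span {ϖ}) Φ 0
    (by rw [← coeff_zero_eq_eval_zero, h0]; exact Ideal.mul_mem_right _ _ (Ideal.mem_span_singleton_self _))
    (by
      rw [← coeff_zero_eq_eval_zero, coeff_derivative, h1]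
      simp)
  rw [sub_zero] at hy0
  refine ⟨ϖ ^ (v + 1) * d * y + θ, ?_, ?_⟩
  · rw [IsRoot.def, ← taylor_eval]
    have : (taylor θ g).eval (ϖ ^ (v + 1) * d * y) = G.eval y := by
      rw [hG, eval_comp]
      simp
    rw [this, hΦ, eval_mul, hy, mul_zero]
  · rw [add_sub_cancel_right]
    exact Ideal.mul_mem_left _ _ hy0

theorem isAdicComplete_of_linearEquiv {R : Type*} [CommRing R] (I : Ideal R) {M N : Type*}
    [AddCommGroup M] [Module R M] [AddCommGroup N] [Module R N] (e : M ≃ₗ[R] N)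
    [IsAdicComplete I M] : IsAdicComplete I N := by
  rw [← AdicCompletion.of_bijective_iff]
  have : ⇑(AdicCompletion.of I N) =
      (AdicCompletion.congr I e) ∘ (AdicCompletion.of I M) ∘ e.symm := by
    ext x
    simp only [Function.comp_apply, AdicCompletion.congr_apply, AdicCompletion.map_of,
      LinearEquiv.coe_coe, LinearEquiv.apply_symm_apply]
  rw [this]
  exact (AdicCompletion.congr I e).bijective.comp
    ((AdicCompletion.of_bijective I M).comp e.symm.bijective)

theorem isAdicComplete_adjoinRoot {R : Type*} [CommRing R] (ϖ : R)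
    [IsAdicComplete (Ideal.span {ϖ}) R] (f : R[X]) (hf : f.Monic) :
    IsAdicComplete (Ideal.span {algebraMap R (AdjoinRoot f) ϖ}) (AdjoinRoot f) := by
  rw [← Set.image_singleton, ← Ideal.map_span]
  rw [IsAdicComplete.map_algebraMap_iff]
  haveI := Groth.Agent.Lib.Helper14.ProjLim.isAdicComplete_pi (Ideal.span {ϖ})
    (AdjoinRoot.powerBasis' hf).dim
  exact isAdicComplete_of_linearEquiv (Ideal.span {ϖ})
    ((AdjoinRoot.powerBasis' hf).basis.equivFun.symm)

theorem exists_root_adjoinRoot {R : Type*} [CommRing R] [IsDomain R] (ϖ : R) (hϖ0 : ϖ ≠ 0)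
    [IsAdicComplete (Ideal.span {ϖ}) R]
    (f e a b : R[X]) (hf : f.Monic) (v : ℕ) (hab : a * f + b * derivative f = C (ϖ ^ v))
    (N : ℕ) (hN : 2 * v + 2 ≤ N) :
    ∃ θ' : AdjoinRoot f, aeval θ' (f + C (ϖ ^ N) * e) = 0 ∧
      ∃ P : R[X], aeval θ' P = AdjoinRoot.root f := by
  haveI := isAdicComplete_adjoinRoot ϖ f hf
  haveI : Module.Free R (AdjoinRoot f) := Module.Free.of_basis (AdjoinRoot.powerBasis' hf).basis
  haveI : Module.Finite R (AdjoinRoot f) := hf.finite_adjoinRoot
  set ϖD : AdjoinRoot f := algebraMap R (AdjoinRoot f) ϖ with hϖD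
  set θ : AdjoinRoot f := AdjoinRoot.root f with hθ
  have hcancel : ∀ (k : ℕ) (x y : AdjoinRoot f), ϖD ^ k * x = ϖD ^ k * y → x = y := by
    intro k x y h
    have h' : (ϖ ^ k) • x = (ϖ ^ k) • y := by
      rw [Algebra.smul_def, Algebra.smul_def, map_pow]; exact h
    exact smul_right_injective (AdjoinRoot f) (pow_ne_zero k hϖ0) h'
  have hfθ : aeval θ f = 0 := by rw [hθ, AdjoinRoot.aeval_eq, AdjoinRoot.mk_self]
  have hjac : ∀ z : AdjoinRoot f, IsUnit (1 + ϖD * z) := by
    intro z
    have hmem : ϖD ∈ (⊥ : Ideal (AdjoinRoot f)).jacobson :=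
      IsAdicComplete.le_jacobson_bot (Ideal.span {ϖD}) (Ideal.mem_span_singleton_self _)
    have := Ideal.mem_jacobson_bot.mp hmem z
    rwa [add_comm] at this
  set gR : R[X] := f + C (ϖ ^ N) * e with hgR
  set gD : (AdjoinRoot f)[X] := gR.map (algebraMap R (AdjoinRoot f)) with hgD
  have hgθ : gD.eval θ = ϖD ^ (2 * v + 2) * (ϖD ^ (N - (2 * v + 2)) * aeval θ e) := by
    rw [hgD, eval_map_algebraMap, hgR, map_add, hfθ, zero_add, map_mul, aeval_C, map_pow,
      ← mul_assoc, ← pow_add]
    congr 2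
    omega
  have hbθ : aeval θ b * aeval θ (derivative f) = ϖD ^ v := by
    have := congrArg (aeval θ) hab
    rw [map_add, map_mul, map_mul, hfθ, mul_zero, zero_add, aeval_C, map_pow] at this
    exact this
  obtain ⟨w, hw⟩ := hjac (ϖD ^ (N - v - 1) * aeval θ (derivative e) * aeval θ b)
  have hdθ : gD.derivative.eval θ * (aeval θ b * ((w⁻¹ : (AdjoinRoot f)ˣ) : AdjoinRoot f)) =
      ϖD ^ v := by
    have h1 : gD.derivative.eval θ = aeval θ (derivative f) + ϖD ^ N * aeval θ (derivative e) := by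
      rw [hgD, derivative_map, eval_map_algebraMap, hgR, derivative_add, derivative_C_mul,
        map_add, map_mul, aeval_C, map_pow]
    have h2 : gD.derivative.eval θ * aeval θ b = ϖD ^ v * (w : AdjoinRoot f) := by
      rw [h1, hw]
      have hpow : ϖD ^ N = ϖD ^ v * (ϖD * ϖD ^ (N - v - 1)) := by
        rw [← pow_succ', ← pow_add]
        congr 1
        omega
      rw [hpow]
      linear_combination hbθ
    rw [← mul_assoc, h2, mul_assoc, Units.mul_inv, mul_one]
  obtain ⟨θ', hθ'root, hθ'near⟩ := exists_root_near ϖD hcancel gD θ _ _ v hdθ hgθ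
  refine ⟨θ', ?_, ?_⟩
  · rw [← eval_map_algebraMap]
    exact hθ'root
  · -- Nakayama
    have hle : (⊤ : Submodule R (AdjoinRoot f)) ≤
        Subalgebra.toSubmodule (Algebra.adjoin R {θ'}) := by
      apply Submodule.le_of_le_smul_of_le_jacobson_bot (I := Ideal.span {ϖ})
        (Module.finite_def.mp inferInstance) (IsAdicComplete.le_jacobson_bot _)
      intro x _
      obtain ⟨P, rfl⟩ := AdjoinRoot.mk_surjective x
      rw [← AdjoinRoot.aeval_eq]
      have hsplit : aeval (AdjoinRoot.root f) P =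
          aeval θ' P + (aeval (AdjoinRoot.root f) P - aeval θ' P) := by ring
      rw [hsplit]
      refine Submodule.add_mem_sup ?_ ?_
      · exact Polynomial.aeval_mem_adjoin_singleton R θ'
      · have hdvd : θ - θ' ∣ aeval θ P - aeval θ' P := by
          rw [← eval_map_algebraMap, ← eval_map_algebraMap]
          exact sub_dvd_eval_sub _ _ _
        have hmem : aeval θ P - aeval θ' P ∈ Ideal.span {ϖD} := by
          obtain ⟨q, hq⟩ := hdvd
          rw [hq]
          refine Ideal.mul_mem_right _ _ ?_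
          rw [← neg_sub]
          exact (Ideal.neg_mem_iff _).mpr hθ'near
        obtain ⟨q, hq⟩ := Ideal.mem_span_singleton'.mp hmem
        rw [← hq, mul_comm, hϖD, ← Algebra.smul_def]
        exact Submodule.smul_mem_smul (Ideal.mem_span_singleton_self _) trivial
    have hmem : AdjoinRoot.root f ∈ Algebra.adjoin R {θ'} := hle trivial
    rw [Algebra.adjoin_singleton_eq_range_aeval] at hmem
    obtain ⟨P, hP⟩ := hmem
    exact ⟨P, hP⟩

theorem exists_bezout {R Kh : Type*} [CommRing R] [IsDomain R] [Field Kh] [Algebra R Kh]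
    [IsFractionRing R Kh] (f : R[X]) (hsep : (f.map (algebraMap R Kh)).Separable) :
    ∃ (a b : R[X]) (r : R), r ≠ 0 ∧ a * f + b * derivative f = C r := by
  obtain ⟨a₀, b₀, h⟩ := hsep
  obtain ⟨ra, hra, ha⟩ :=
    IsLocalization.integerNormalization_spec (nonZeroDivisors R) a₀
  obtain ⟨rb, hrb, hb⟩ :=
    IsLocalization.integerNormalization_spec (nonZeroDivisors R) b₀
  set qa := IsLocalization.integerNormalization (nonZeroDivisors R) a₀
  set qb := IsLocalization.integerNormalization (nonZeroDivisors R) b₀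
  refine ⟨C rb * qa, C ra * qb, ra * rb, mul_ne_zero (nonZeroDivisors.ne_zero hra)
    (nonZeroDivisors.ne_zero hrb), ?_⟩
  apply Polynomial.map_injective (algebraMap R Kh) (IsFractionRing.injective R Kh)
  simp only [Polynomial.map_add, Polynomial.map_mul, Polynomial.map_C, ha, hb,
    map_mul]
  rw [Algebra.smul_def, Algebra.smul_def]
  simp only [Polynomial.algebraMap_apply, Algebra.algebraMap_self, RingHom.id_apply]
  have h' : a₀ * f.map (algebraMap R Kh) + b₀ * derivative (f.map (algebraMap R Kh)) = 1 := h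
  rw [derivative_map] at h'
  linear_combination (C (algebraMap R Kh ra) * C (algebraMap R Kh rb)) * h'

theorem exists_approx {A R : Type*} [CommRing A] [Nontrivial A] [CommRing R] [Algebra A R] (ϖ : R)
    (N : ℕ) (hdense : ∀ r : R, ∃ (a : A) (e : R), r = algebraMap A R a + ϖ ^ N * e)
    (f : R[X]) (hf : f.Monic) :
    ∃ (g : A[X]) (E : R[X]), g.Monic ∧ g.natDegree = f.natDegree ∧
      g.map (algebraMap A R) = f + C (ϖ ^ N) * E := by
  choose a e hae using hdense
  obtain ⟨n, hn⟩ : ∃ n, n = f.natDegree := ⟨_, rfl⟩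
  obtain ⟨c, hc⟩ : ∃ c : ℕ → R, c = fun i => f.coeff i := ⟨_, rfl⟩
  have hfs : f = X ^ n + ∑ i ∈ Finset.range n, C (c i) * X ^ i := by
    rw [hn, hc]; exact hf.as_sum
  set S : A[X] := ∑ i ∈ Finset.range n, C (a (c i)) * X ^ i with hS
  have hdeg : S.degree < n := by
    refine (degree_sum_le _ _).trans_lt ?_
    refine (Finset.sup_lt_iff (WithBot.bot_lt_coe n)).mpr ?_
    intro i hi
    exact (degree_C_mul_X_pow_le _ _).trans_lt (WithBot.coe_lt_coe.mpr (Finset.mem_range.mp hi))
  have hmon : (X ^ n + S).Monic := monic_X_pow_add hdeg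
  have hnat : (X ^ n + S).natDegree = n := by
    apply natDegree_eq_of_degree_eq_some
    rw [add_comm, degree_add_eq_right_of_degree_lt (by rwa [degree_X_pow]), degree_X_pow]
  refine ⟨X ^ n + S, -(∑ i ∈ Finset.range n, C (e (c i)) * X ^ i), hmon, by rw [hnat, hn], ?_⟩
  rw [hfs, hS]
  simp only [Polynomial.map_add, Polynomial.map_pow, map_X, Polynomial.map_sum, Polynomial.map_mul,
    Polynomial.map_C, mul_neg, Finset.mul_sum]
  rw [add_assoc, ← sub_eq_add_neg, ← Finset.sum_sub_distrib]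
  congr 1
  apply Finset.sum_congr rfl
  intro i _
  rw [show C (c i) = C (algebraMap A R (a (c i))) + C ϖ ^ N * C (e (c i)) from by
    rw [← C_pow, ← C_mul, ← C_add, ← hae]]
  simp only [C_pow]
  ring

open TensorProduct in
theorem main_abstract (A K R Kh M : Type u) [CommRing A] [Nontrivial A] [Field K] [Algebra A K]
    [CommRing R] [IsDomain R] [IsDiscreteValuationRing R] [Algebra A R]
    [Field Kh] [Algebra R Kh] [IsFractionRing R Kh] [Algebra A Kh] [Algebra K Kh]
    [IsScalarTower A R Kh] [IsScalarTower A K Kh]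
    (ϖ : R) (hϖ : Irreducible ϖ) [IsAdicComplete (Ideal.span {ϖ}) R]
    (hdense : ∀ (N : ℕ) (r : R), ∃ (a : A) (e : R), r = algebraMap A R a + ϖ ^ N * e)
    [Field M] [Algebra Kh M] [FiniteDimensional Kh M] [Algebra.IsSeparable Kh M] :
    ∃ (L : Type u) (_ : Field L) (_ : Algebra K L), FiniteDimensional K L ∧
      Algebra.IsSeparable K L ∧ Nonempty ((Kh ⊗[K] L) ≃ₐ[Kh] M) := by
  letI algRM : Algebra R M := ((algebraMap Kh M).comp (algebraMap R Kh)).toAlgebra
  haveI : IsScalarTower R Kh M := IsScalarTower.of_algebraMap_eq (fun _ => rfl)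
  letI algKM : Algebra K M := ((algebraMap Kh M).comp (algebraMap K Kh)).toAlgebra
  haveI : IsScalarTower K Kh M := IsScalarTower.of_algebraMap_eq (fun _ => rfl)
  -- primitive element, made integral
  obtain ⟨θ₀, hθ₀⟩ := Field.exists_primitive_element Kh M
  have halg : IsAlgebraic R θ₀ :=
    (IsFractionRing.isAlgebraic_iff R Kh M).mpr (Algebra.IsAlgebraic.isAlgebraic θ₀)
  obtain ⟨y, hy0, hint⟩ := halg.exists_integral_multiple
  obtain ⟨θ, hθdef⟩ : ∃ θ : M, θ = y • θ₀ := ⟨_, rfl⟩
  rw [← hθdef] at hint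
  have hθtop : Kh⟮θ⟯ = ⊤ := by
    rw [eq_top_iff, ← hθ₀, IntermediateField.adjoin_simple_le_iff]
    have hy' : algebraMap Kh M (algebraMap R Kh y) ≠ 0 := by
      rw [Ne, map_eq_zero, map_eq_zero_iff _ (IsFractionRing.injective R Kh)]
      exact hy0
    have : θ₀ = (algebraMap Kh M (algebraMap R Kh y))⁻¹ * θ := by
      rw [hθdef, Algebra.smul_def, IsScalarTower.algebraMap_apply R Kh M, ← mul_assoc,
        inv_mul_cancel₀ hy', one_mul]
    rw [this]
    exact mul_mem (inv_mem (IntermediateField.algebraMap_mem _ _)) (IntermediateField.mem_adjoin_simple_self Kh θ)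
  obtain ⟨f, hfdef⟩ : ∃ f : R[X], f = minpoly R θ := ⟨_, rfl⟩
  have hfmonic : f.Monic := hfdef ▸ minpoly.monic hint
  have hfmap : f.map (algebraMap R Kh) = minpoly Kh θ := by
    rw [hfdef]; exact (minpoly.isIntegrallyClosed_eq_field_fractions' Kh hint).symm
  have hintK : IsIntegral Kh θ := Algebra.IsIntegral.isIntegral θ
  have hn : f.natDegree = Module.finrank Kh M := by
    rw [← hfmonic.natDegree_map (algebraMap R Kh), hfmap, ← IntermediateField.adjoin.finrank hintK,
      hθtop, IntermediateField.finrank_top']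
  have hsep : (f.map (algebraMap R Kh)).Separable := by
    rw [hfmap]; exact Algebra.IsSeparable.isSeparable Kh θ
  have hfθ : aeval θ f = 0 := by rw [hfdef]; exact minpoly.aeval R θ
  obtain ⟨a, b, r, hr0, hab⟩ := exists_bezout (Kh := Kh) f hsep
  obtain ⟨v, u, hru⟩ := IsDiscreteValuationRing.eq_unit_mul_pow_irreducible hr0 hϖ
  have hab' : (C ((u⁻¹ : Rˣ) : R) * a) * f + (C ((u⁻¹ : Rˣ) : R) * b) * derivative f =
      C (ϖ ^ v) := by
    calc _ = C ((u⁻¹ : Rˣ) : R) * (a * f + b * derivative f) := by ring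
      _ = C ((u⁻¹ : Rˣ) : R) * C r := by rw [hab]
      _ = C (ϖ ^ v) := by rw [← C_mul, hru, ← mul_assoc, Units.inv_mul, one_mul]
  obtain ⟨g, E, hgmonic, hgdeg, hgmap⟩ :=
    exists_approx (A := A) ϖ (2 * v + 2) (hdense _) f hfmonic
  obtain ⟨θ'D, hθ'D, P, hP⟩ :=
    exists_root_adjoinRoot ϖ hϖ.ne_zero f E _ _ hfmonic v hab' (2 * v + 2) le_rfl
  -- transport to `M`
  let φ : AdjoinRoot f →ₐ[R] M := AdjoinRoot.liftAlgHom f (Algebra.ofId R M) θ
    (by rw [← hfθ, aeval_def]; rfl)
  have hφroot : φ (AdjoinRoot.root f) = θ := AdjoinRoot.liftAlgHom_root _ _ _ _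
  obtain ⟨θ', hθ'def⟩ : ∃ θ' : M, θ' = φ θ'D := ⟨_, rfl⟩
  have hθ'g : aeval θ' (g.map (algebraMap A R)) = 0 := by
    rw [hθ'def, hgmap, aeval_algHom_apply, hθ'D, map_zero]
  have hθθ' : θ = aeval θ' P := by
    rw [hθ'def, aeval_algHom_apply, hP, hφroot]
  -- the polynomials over `K` and `Kh`
  obtain ⟨gK, hgK⟩ : ∃ gK : K[X], gK = g.map (algebraMap A K) := ⟨_, rfl⟩
  have hgKmonic : gK.Monic := hgK ▸ hgmonic.map _
  have hgKdeg : gK.natDegree = Module.finrank Kh M := by
    rw [hgK, hgmonic.natDegree_map, hgdeg, hn]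
  have hcomp : (algebraMap K M).comp (algebraMap A K) =
      (algebraMap R M).comp (algebraMap A R) := by
    ext x
    show algebraMap Kh M (algebraMap K Kh (algebraMap A K x)) =
      algebraMap Kh M (algebraMap R Kh (algebraMap A R x))
    rw [← IsScalarTower.algebraMap_apply A K Kh, ← IsScalarTower.algebraMap_apply A R Kh]
  have hθ'gK : aeval θ' gK = 0 := by
    rw [hgK, aeval_def, eval₂_map, hcomp, ← eval₂_map, ← aeval_def]; exact hθ'g
  obtain ⟨gKh, hgKh⟩ : ∃ gKh : Kh[X], gKh = gK.map (algebraMap K Kh) := ⟨_, rfl⟩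
  have hgKhmonic : gKh.Monic := hgKh ▸ hgKmonic.map _
  have hθ'gKh : aeval θ' gKh = 0 := by
    rw [hgKh, aeval_def, eval₂_map, ← IsScalarTower.algebraMap_eq K Kh M, ← aeval_def]
    exact hθ'gK
  have hintK' : IsIntegral Kh θ' := Algebra.IsIntegral.isIntegral θ'
  have hθ'top : Kh⟮θ'⟯ = ⊤ := by
    rw [eq_top_iff, ← hθtop, IntermediateField.adjoin_simple_le_iff, hθθ']
    have : aeval θ' P = aeval θ' (P.map (algebraMap R Kh)) := by
      rw [aeval_map_algebraMap]
    rw [this]
    exact IntermediateField.algebra_adjoin_le_adjoin Kh _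
      (Polynomial.aeval_mem_adjoin_singleton Kh θ')
  have hminpoly : minpoly Kh θ' = gKh := by
    symm
    apply Polynomial.eq_of_monic_of_dvd_of_natDegree_le (minpoly.monic hintK') hgKhmonic
      (minpoly.dvd Kh θ' hθ'gKh)
    rw [hgKh, hgKmonic.natDegree_map, hgKdeg, ← IntermediateField.adjoin.finrank hintK', hθ'top,
      IntermediateField.finrank_top']
  have hirrKh : Irreducible gKh := hminpoly ▸ minpoly.irreducible hintK'
  have hsepKh : gKh.Separable := hminpoly ▸ Algebra.IsSeparable.isSeparable Kh θ'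
  have hirrK : Irreducible gK :=
    hgKmonic.irreducible_of_irreducible_map (algebraMap K Kh) gK (hgKh ▸ hirrKh)
  have hsepK : gK.Separable := (Polynomial.separable_map (algebraMap K Kh)).mp (hgKh ▸ hsepKh)
  haveI : Fact (Irreducible gK) := ⟨hirrK⟩
  refine ⟨AdjoinRoot gK, inferInstance, inferInstance, hgKmonic.finite_adjoinRoot, ?_, ?_⟩
  · -- separable
    haveI : Module.Finite K (AdjoinRoot gK) := hgKmonic.finite_adjoinRoot
    have hintr : IsIntegral K (AdjoinRoot.root gK) := Algebra.IsIntegral.isIntegral _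
    have hmin : minpoly K (AdjoinRoot.root gK) = gK := by
      rw [AdjoinRoot.minpoly_root hgKmonic.ne_zero, hgKmonic.leadingCoeff, inv_one, C_1, mul_one]
    have hsr : IsSeparable K (AdjoinRoot.root gK) := by
      rw [IsSeparable, hmin]; exact hsepK
    have htop : K⟮AdjoinRoot.root gK⟯ = ⊤ := by
      apply IntermediateField.toSubalgebra_injective
      rw [IntermediateField.adjoin_simple_toSubalgebra_of_isAlgebraic hintr.isAlgebraic,
        AdjoinRoot.adjoinRoot_eq_top, IntermediateField.top_toSubalgebra]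
    haveI := (IntermediateField.isSeparable_adjoin_simple_iff_isSeparable K (AdjoinRoot gK)).mpr hsr
    exact ⟨fun x => IntermediateField.isSeparable_of_mem_isSeparable K (AdjoinRoot gK)
      (L := K⟮AdjoinRoot.root gK⟯) (by rw [htop]; trivial)⟩
  · -- the isomorphism
    let ψ : AdjoinRoot gK →ₐ[K] M := AdjoinRoot.liftAlgHom gK (Algebra.ofId K M) θ'
      (by rw [← hθ'gK, aeval_def]; rfl)
    let Φ : Kh ⊗[K] AdjoinRoot gK →ₐ[Kh] M :=
      Algebra.TensorProduct.lift (Algebra.ofId Kh M) ψ (fun _ _ => Commute.all _ _)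
    have hsurj : Function.Surjective Φ := by
      rw [← AlgHom.range_eq_top, eq_top_iff]
      have h1 : θ' ∈ Φ.range := ⟨1 ⊗ₜ AdjoinRoot.root gK, by simp [Φ, ψ]⟩
      have h2 : Algebra.adjoin Kh {θ'} ≤ Φ.range :=
        Algebra.adjoin_le (Set.singleton_subset_iff.mpr h1)
      rw [← IntermediateField.adjoin_simple_toSubalgebra_of_isAlgebraic hintK'.isAlgebraic, hθ'top,
        IntermediateField.top_toSubalgebra] at h2
      exact h2
    have hfr : Module.finrank Kh (Kh ⊗[K] AdjoinRoot gK) = Module.finrank Kh M := by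
      rw [Module.finrank_baseChange, ← hgKdeg]
      have := (AdjoinRoot.powerBasis hgKmonic.ne_zero).finrank
      rw [this, AdjoinRoot.powerBasis_dim]
    haveI : Module.Finite K (AdjoinRoot gK) := hgKmonic.finite_adjoinRoot
    have hinj : Function.Injective Φ :=
      (LinearMap.injective_iff_surjective_of_finrank_eq_finrank hfr (f := Φ.toLinearMap)).mpr hsurj
    exact ⟨AlgEquiv.ofBijective Φ ⟨hinj, hsurj⟩⟩

end Groth.Agent.Lib.Helper14KrasnerAlg
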