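import Mathlib
import Groth.Agent.Lib.Helper14KrasnerAlg
import Groth.Agent.Lib.Helper19ComplDVR

set_option autoImplicit false
set_option linter.unusedVariables false
set_option linter.unusedSectionVars false
set_option linter.style.haveILetI false

universe u

namespace Groth.Agent.Lib.Helper14KrasnerCompl

open Polynomial IsLocalRing

open TensorProduct in
theorem main (A K : Type u) [CommRing A] [IsDomain A]
    [IsDiscreteValuationRing A] [Field K] [Algebra A K] [IsFractionRing A K]
    (Kh : Type u) [Field Kh] [Algebra (AdicCompletion (IsLocalRing.maximalIdeal A) A) Kh]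
    [IsFractionRing (AdicCompletion (IsLocalRing.maximalIdeal A) A) Kh] [Algebra A Kh] [Algebra K Kh]
    [IsScalarTower A (AdicCompletion (IsLocalRing.maximalIdeal A) A) Kh] [IsScalarTower A K Kh]
    (M : Type u) [Field M] [Algebra Kh M] [FiniteDimensional Kh M] [Algebra.IsSeparable Kh M] :
    ∃ (L : Type u) (_ : Field L) (_ : Algebra K L), FiniteDimensional K L ∧ Algebra.IsSeparable K L ∧
      Nonempty ((Kh ⊗[K] L) ≃ₐ[Kh] M) := by
  obtain ⟨hdom, hdvr⟩ := (Groth.Agent.Lib.Helper19.isDiscreteValuationRing_iff_adicCompletion A).mp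
    ⟨inferInstance, inferInstance⟩
  haveI := hdom
  haveI := hdvr
  obtain ⟨ϖA, hϖA⟩ := IsDiscreteValuationRing.exists_irreducible A
  have hmA : maximalIdeal A = Ideal.span {ϖA} :=
    (IsDiscreteValuationRing.irreducible_iff_uniformizer ϖA).mp hϖA
  obtain ⟨ϖ, hϖdef⟩ : ∃ ϖ : AdicCompletion (maximalIdeal A) A,
    ϖ = algebraMap A (AdicCompletion (maximalIdeal A) A) ϖA := ⟨_, rfl⟩
  have hmR : maximalIdeal (AdicCompletion (maximalIdeal A) A) = Ideal.span {ϖ} := by
    rw [AdicCompletion.maximalIdeal_eq_map, hϖdef]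
    have := congrArg (Ideal.map (algebraMap A (AdicCompletion (maximalIdeal A) A))) hmA
    rw [this, Ideal.map_span, Set.image_singleton]
  have hϖ : Irreducible ϖ := (IsDiscreteValuationRing.irreducible_iff_uniformizer ϖ).mpr hmR
  haveI : IsAdicComplete (Ideal.span {ϖ}) (AdicCompletion (maximalIdeal A) A) := by
    rw [← hmR]; infer_instance
  have hdense : ∀ (N : ℕ) (r : AdicCompletion (maximalIdeal A) A), ∃ (a : A)
      (e : AdicCompletion (maximalIdeal A) A),
      r = algebraMap A (AdicCompletion (maximalIdeal A) A) a + ϖ ^ N * e := by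
    intro N r
    obtain ⟨a, ha⟩ := Submodule.mkQ_surjective _ (AdicCompletion.eval (maximalIdeal A) A N r)
    have hker : r - AdicCompletion.of (maximalIdeal A) A a ∈
        (AdicCompletion.eval (maximalIdeal A) A N).ker := by
      rw [LinearMap.mem_ker, map_sub, AdicCompletion.eval_of, ha, sub_self]
    rw [← AdicCompletion.pow_smul_top_eq_ker_eval (maximalIdeal A).fg_of_isNoetherianRing,
      Ideal.smul_top_eq_map, Submodule.restrictScalars_mem, Ideal.map_pow] at hker
    have hmap : (maximalIdeal A).map (algebraMap A (AdicCompletion (maximalIdeal A) A)) =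
        Ideal.span {ϖ} := by
      rw [← AdicCompletion.maximalIdeal_eq_map, hmR]
    rw [hmap, Ideal.span_singleton_pow, Ideal.mem_span_singleton'] at hker
    obtain ⟨e, he⟩ := hker
    refine ⟨a, e, ?_⟩
    rw [AdicCompletion.algebraMap_apply, Algebra.algebraMap_self, RingHom.id_apply, mul_comm, he]
    ring
  exact Groth.Agent.Lib.Helper14KrasnerAlg.main_abstract A K (AdicCompletion (maximalIdeal A) A)
    Kh M ϖ hϖ hdense

end Groth.Agent.Lib.Helper14KrasnerCompl
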