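import Mathlib
import Groth.Agent.Lib.Helper14ASRam

/-! Helper14: Kummer-type extensions `P(z) = ξ`, `w^p P = (1 + w X)^p - 1`, over a mixed
characteristic DVR (S7159). -/

set_option autoImplicit false
set_option linter.style.haveILetI false
set_option linter.unusedSectionVars false
universe u

namespace Groth.Agent.Lib.Helper14KummerRam

open Polynomial IsLocalRing IntermediateField
open Groth.Agent.Lib.Helper14ASRam Groth.Agent.Lib.Helper14Eisenstein Groth.Agent.Lib.Helper14TotRam

section Roots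

variable {p : ℕ} (hp : p.Prime) {A : Type u} [CommRing A] [IsDomain A]

include hp in
theorem isPrimitiveRoot_of_cyclotomic (hpA : (p : A) ≠ 0) (ζ : A)
    (hζ : aeval ζ (cyclotomic p ℤ) = 0) : IsPrimitiveRoot ζ p := by
  haveI : NeZero (p : A) := ⟨hpA⟩
  rw [← Polynomial.isRoot_cyclotomic_iff, IsRoot.def, ← map_cyclotomic_int p A, eval_map,
    ← algebraMap_int_eq, ← aeval_def]
  exact hζ

include hp in
theorem exists_unit_natCast_eq {ζ : A} (hζ : IsPrimitiveRoot ζ p) :
    ∃ u : Aˣ, (p : A) = u * (1 - ζ) ^ (p - 1) := by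
  classical
  obtain ⟨n, rfl⟩ : ∃ n, p = n + 1 := ⟨p - 1, (Nat.sub_add_cancel hp.one_le).symm⟩
  have h1 := hζ.prod_one_sub_pow_eq_order
  have h2 : ∀ k ∈ Finset.range n, (1 - ζ ^ (k + 1)) = (1 - ζ) * ∑ i ∈ Finset.range (k + 1), ζ ^ i :=
    fun k _ => (mul_neg_geom_sum ζ (k + 1)).symm
  rw [Finset.prod_congr rfl h2, Finset.prod_mul_distrib, Finset.prod_const, Finset.card_range] at h1
  have hu : IsUnit (∏ k ∈ Finset.range n, ∑ i ∈ Finset.range (k + 1), ζ ^ i) := by
    rw [IsUnit.prod_iff]  
    intro k hk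
    rw [Finset.mem_range] at hk
    apply hζ.geom_sum_isUnit hp.two_le
    apply Nat.Coprime.symm
    rw [Nat.Prime.coprime_iff_not_dvd hp]
    intro hdvd
    have := Nat.le_of_dvd (Nat.succ_pos k) hdvd
    omega
  refine ⟨hu.unit, ?_⟩
  rw [IsUnit.unit_spec, Nat.add_sub_cancel, mul_comm]
  push_cast
  exact h1.symm

end Roots

section FieldPart

variable {p : ℕ} (hp : p.Prime) {K L : Type u} [Field K] [Field L] [Algebra K L]

theorem of_mem_range (z : L) (hz : z ∈ Set.range (algebraMap K L)) (hgen : K⟮z⟯ = ⊤) :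
    IsGalois K L ∧ FiniteDimensional K L ∧ Module.finrank K L = 1 := by
  have hbot : K⟮z⟯ = ⊥ := by
    rw [adjoin_simple_eq_bot_iff, IntermediateField.mem_bot]
    exact hz
  have hbt : (⊥ : IntermediateField K L) = ⊤ := hbot.symm.trans hgen
  have h1 : Module.finrank K L = 1 := bot_eq_top_iff_finrank_eq_one.mp hbt
  refine ⟨?_, ?_, h1⟩
  · rw [← isGalois_iff_isGalois_top, ← hbt]
    infer_instance
  · exact Module.finite_of_finrank_eq_succ h1

include hp in
theorem kummer_field (hpK : (p : K) ≠ 0) (ζ : K) (hζ : IsPrimitiveRoot ζ p) (η : K) (hη : η ≠ 0)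
    (t : L) (ht : t ^ p = algebraMap K L η) (hgen : K⟮t⟯ = ⊤) :
    IsGalois K L ∧ FiniteDimensional K L ∧ (Module.finrank K L = 1 ∨ Module.finrank K L = p) := by
  have hint : IsIntegral K t := by
    refine ⟨X ^ p - C η, monic_X_pow_sub_C _ hp.ne_zero, ?_⟩
    rw [eval₂_sub, eval₂_pow, eval₂_X, eval₂_C, ht, sub_self]
  have haev : aeval t (X ^ p - C η : K[X]) = 0 := by
    rw [map_sub, map_pow, aeval_X, aeval_C, ht, sub_self]
  have hζL : IsPrimitiveRoot (algebraMap K L ζ) p := hζ.map_of_injective (algebraMap K L).injective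
  haveI hsf : (X ^ p - C η : K[X]).IsSplittingField K L := by
    constructor
    · rw [Polynomial.map_sub, Polynomial.map_pow, Polynomial.map_C, Polynomial.map_X]
      exact X_pow_sub_C_splits_of_isPrimitiveRoot hζL ht
    · rw [eq_top_iff, ← IntermediateField.top_toSubalgebra, ← hgen,
        IntermediateField.adjoin_simple_toSubalgebra_of_isAlgebraic hint.isAlgebraic]
      apply Algebra.adjoin_mono
      rw [Set.singleton_subset_iff, mem_rootSet_of_ne (X_pow_sub_C_ne_zero hp.pos η)]
      exact haev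
  have hgal : IsGalois K L := IsGalois.of_separable_splitting_field (separable_X_pow_sub_C η hpK hη)
  have hfd : FiniteDimensional K L := Polynomial.IsSplittingField.finiteDimensional L (X ^ p - C η)
  refine ⟨hgal, hfd, ?_⟩
  by_cases hb : ∃ b : K, b ^ p = η
  · left
    obtain ⟨b, hb⟩ := hb
    have hb0 : b ≠ 0 := by
      rintro rfl
      rw [zero_pow hp.ne_zero] at hb
      exact hη hb.symm
    have hbL : algebraMap K L b ≠ 0 := (_root_.map_ne_zero _).mpr hb0
    have h1 : (t / algebraMap K L b) ^ p = 1 := by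
      rw [div_pow, ht, ← hb, map_pow, div_self (pow_ne_zero _ hbL)]
    haveI : NeZero p := ⟨hp.ne_zero⟩
    obtain ⟨i, -, hi⟩ := hζL.eq_pow_of_pow_eq_one h1
    have htr : t ∈ Set.range (algebraMap K L) := by
      refine ⟨ζ ^ i * b, ?_⟩
      rw [map_mul, map_pow, hi, div_mul_cancel₀ _ hbL]
    exact (of_mem_range t htr hgen).2.2
  · right
    push Not at hb
    have hirr : Irreducible (X ^ p - C η : K[X]) := X_pow_sub_C_irreducible_of_prime hp hb
    have hmin : (X ^ p - C η : K[X]) = minpoly K t :=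
      minpoly.eq_of_irreducible_of_monic hirr haev (monic_X_pow_sub_C _ hp.ne_zero)
    have h := (Field.primitive_element_iff_minpoly_natDegree_eq K t).mp hgen
    rw [← h, ← hmin, natDegree_X_pow_sub_C]

end FieldPart

section PBasics

variable {p : ℕ} (hp : p.Prime) {A : Type u} [CommRing A] [IsDomain A] (w : A) (hw0 : w ≠ 0)
  (P : A[X]) (hP : C (w ^ p) * P = (1 + C w * X) ^ p - 1)

theorem lin_eq : (1 + C w * X : A[X]) = C w * X + C 1 := by
  rw [map_one, add_comm]

include hw0 in
theorem rhs_natDegree : ((1 + C w * X : A[X]) ^ p - 1).natDegree = p := by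
  rw [show (1 : A[X]) = C 1 from (map_one C).symm, natDegree_sub_C, ← show (1 : A[X]) = C 1 from (map_one C).symm,
    natDegree_pow, lin_eq, natDegree_linear hw0, mul_one]

include hp hw0 in
theorem rhs_leadingCoeff : ((1 + C w * X : A[X]) ^ p - 1).leadingCoeff = w ^ p := by
  have hdeg : (1 : A[X]).degree < ((1 + C w * X : A[X]) ^ p).degree := by
    rw [degree_pow, lin_eq, degree_linear hw0, degree_one, nsmul_one]
    exact_mod_cast hp.pos
  rw [leadingCoeff_sub_of_degree_lt hdeg, leadingCoeff_pow, lin_eq, leadingCoeff_linear hw0]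

include hw0 hP in
theorem P_natDegree : P.natDegree = p := by
  have h := congrArg natDegree hP
  rw [natDegree_C_mul (pow_ne_zero p hw0), rhs_natDegree w hw0] at h
  exact h

include hp hw0 hP in
theorem P_monic : P.Monic := by
  have h := congrArg leadingCoeff hP
  rw [leadingCoeff_mul, leadingCoeff_C, rhs_leadingCoeff hp w hw0] at h
  have h2 : w ^ p * P.leadingCoeff = w ^ p * 1 := by rw [h, mul_one]
  exact mul_left_cancel₀ (pow_ne_zero p hw0) h2

include hp hw0 hP in
theorem P_derivative (u : A) (hu : (p : A) = u * w ^ (p - 1)) :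
    derivative P = C u * (1 + C w * X) ^ (p - 1) := by
  have h := congrArg derivative hP
  rw [derivative_C_mul, derivative_sub, derivative_one, sub_zero, derivative_pow, derivative_add,
    derivative_one, zero_add, derivative_C_mul, derivative_X, mul_one] at h
  have hpp : w ^ p = w ^ (p - 1) * w := by
    rw [← pow_succ, Nat.sub_add_cancel hp.one_le]
  have h2 : C (w ^ p) * derivative P = C (w ^ p) * (C u * (1 + C w * X) ^ (p - 1)) := by
    rw [h, hu, hpp]
    simp only [map_mul, map_pow]
    ring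
  exact mul_left_cancel₀ (C_ne_zero.mpr (pow_ne_zero p hw0)) h2

include hP in
theorem aeval_P {B : Type*} [CommRing B] [Algebra A B] (x : B) :
    algebraMap A B w ^ p * aeval x P = (1 + algebraMap A B w * x) ^ p - 1 := by
  have h := congrArg (aeval x) hP
  rw [map_mul, aeval_C, map_pow, map_sub, map_pow, map_add, map_one, map_mul, aeval_C, aeval_X] at h
  exact h

end PBasics

section ValMonic

theorem val_monic_sub_pow_lt {A L : Type*} [CommRing A] [Field L] [Algebra A L] {Γ : Type*}
    [LinearOrderedCommGroupWithZero Γ] (v : Valuation L Γ)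
    (hA : ∀ a : A, v (algebraMap A L a) ≤ 1) (f : A[X]) (hf : f.Monic) (z : L) (hz : 1 < v z) :
    v (aeval z f - z ^ f.natDegree) < v z ^ f.natDegree := by
  have hz0 : v z ≠ 0 := (lt_trans zero_lt_one hz).ne'
  have h1 : aeval z f - z ^ f.natDegree =
      ∑ i ∈ Finset.range f.natDegree, algebraMap A L (f.coeff i) * z ^ i := by
    have h0 : aeval z f = aeval z (X ^ f.natDegree +
        ∑ i ∈ Finset.range f.natDegree, C (f.coeff i) * X ^ i) := congrArg (aeval z) hf.as_sum
    rw [h0, map_add, map_pow, aeval_X, add_sub_cancel_left, map_sum]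
    refine Finset.sum_congr rfl fun i _ => ?_
    rw [map_mul, aeval_C, map_pow, aeval_X]
  rw [h1]
  apply Valuation.map_sum_lt _ (pow_ne_zero _ hz0)
  intro i hi
  rw [Finset.mem_range] at hi
  rw [map_mul, map_pow]
  calc v (algebraMap A L (f.coeff i)) * v z ^ i ≤ 1 * v z ^ i := by
        gcongr
        exact hA _
    _ = v z ^ i := one_mul _
    _ < v z ^ f.natDegree := pow_lt_pow_right₀ hz hi

theorem val_monic_eq_pow {A L : Type*} [CommRing A] [Field L] [Algebra A L] {Γ : Type*}
    [LinearOrderedCommGroupWithZero Γ] (v : Valuation L Γ)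
    (hA : ∀ a : A, v (algebraMap A L a) ≤ 1) (f : A[X]) (hf : f.Monic) (z : L) (hz : 1 < v z) :
    v (aeval z f) = v z ^ f.natDegree := by
  have h := val_monic_sub_pow_lt v hA f hf z hz
  rw [← map_pow] at h
  have h2 := Valuation.map_add_eq_of_lt_left v h
  rw [add_comm, sub_add_cancel] at h2
  rw [h2, map_pow]

end ValMonic

section AbsB

variable {A K L : Type u} [CommRing A] [IsDomain A] [IsDiscreteValuationRing A] [Field K]
  [Algebra A K] [IsFractionRing A K] [Field L] [Algebra K L] [Algebra A L] [IsScalarTower A K L]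

theorem totRam_of_val (p : ℕ) {π : A} (hπ : Irreducible π) [FiniteDimensional K L]
    (hfin : Module.finrank K L ≤ p) (x : L) (n : ℤ) (hn : IsCoprime (p : ℤ) n)
    (hval : ∀ V : ValuationSubring L, EtRam.Dominates A (algebraMap A L) V →
      V.valuation x ^ p = V.valuation (algebraMap A L π) ^ n) :
    EtRam.IsTotallyRamified A (algebraMap A L) ∧ Module.finrank K L = p := by
  classical
  have hinjAL : Function.Injective (algebraMap A L) := by
    rw [IsScalarTower.algebraMap_eq A K L]
    exact (algebraMap K L).injective.comp (IsFractionRing.injective A K)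
  obtain ⟨s, t, hst⟩ := hn
  have hvaly : ∀ (V : ValuationSubring L), EtRam.Dominates A (algebraMap A L) V →
      V.valuation (algebraMap A L π ^ s * x ^ t) ^ p = V.valuation (algebraMap A L π) := by
    intro V hV
    have hvπ0 : V.valuation (algebraMap A L π) ≠ 0 := by
      rw [Valuation.ne_zero_iff]
      exact (map_ne_zero_iff _ hinjAL).mpr hπ.ne_zero
    have e1 : (V.valuation (algebraMap A L π) ^ s) ^ p =
        V.valuation (algebraMap A L π) ^ (s * (p : ℤ)) := by
      rw [← zpow_natCast, ← zpow_mul]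
    have e2 : (V.valuation x ^ t) ^ p = V.valuation (algebraMap A L π) ^ (t * n) := by
      calc (V.valuation x ^ t) ^ p = (V.valuation x ^ (p : ℤ)) ^ t := by
            rw [← zpow_natCast (V.valuation x ^ t) p, ← zpow_mul, ← zpow_mul, mul_comm]
        _ = (V.valuation (algebraMap A L π) ^ n) ^ t := by rw [zpow_natCast, hval V hV]
        _ = V.valuation (algebraMap A L π) ^ (t * n) := by
            rw [← zpow_mul, mul_comm]
    rw [map_mul, map_zpow₀, map_zpow₀, mul_pow, e1, e2, ← zpow_add₀ hvπ0, hst, zpow_one]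
  obtain ⟨V, h1, h2⟩ := IsLocalRing.exists_factor_valuationRing (algebraMap A L)
  have hV : EtRam.Dominates A (algebraMap A L) V :=
    (Groth.Agent.Lib.Helper14EtRam.dominates_iff _ V).mpr ⟨h1, h2⟩
  have hli := linearIndependent_pow_of_val (K := K) hπ _ p V hV (hvaly V hV)
  obtain ⟨pb, hpbgen, hpbdim⟩ := exists_powerBasis_of_linearIndependent _ p hli hfin
  refine ⟨isTotallyRamified_of_hval hπ pb (fun V hV => ?_), ?_⟩
  · rw [hpbgen, hpbdim]
    exact hvaly V hV
  · rw [pb.finrank, hpbdim]

end AbsB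

section AbsC

variable {A K L : Type u} [CommRing A] [IsDomain A] [IsDiscreteValuationRing A] [Field K]
  [Algebra A K] [IsFractionRing A K] [Field L] [Algebra K L] [Algebra A L] [IsScalarTower A K L]

set_option maxHeartbeats 1600000 in
theorem caseC_residue' (p : ℕ) (hp : p.Prime) (V : ValuationSubring L)
    (hV : EtRam.Dominates A (algebraMap A L) V) (y : L) (a : A) (hyV : y ∈ V)
    (hlt : V.valuation (y ^ p - algebraMap A L a) < 1)
    (ha : ∀ r : A, residue A a ≠ residue A r ^ p) :
    letI : Algebra A V := (RingHom.codRestrict (algebraMap A L) V hV.1).toAlgebra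
    ∀ [IsLocalHom (algebraMap A V)],
      (residue V ⟨y, hyV⟩) ^ p = algebraMap (ResidueField A) (ResidueField V) (residue A a) ∧
      LinearIndependent (ResidueField A) (fun i : Fin p => (residue V ⟨y, hyV⟩) ^ (i : ℕ)) ∧
      UnitComb (A := A) V y p := by
  classical
  letI algAV : Algebra A V := (RingHom.codRestrict (algebraMap A L) V hV.1).toAlgebra
  intro hloc
  set yV : V := ⟨y, hyV⟩ with hyVdef
  have hmemm : yV ^ p - algebraMap A V a ∈ maximalIdeal V := by
    rw [ValuationSubring.valuation_lt_one_iff]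
    exact hlt
  have hres : (residue V yV) ^ p =
      algebraMap (ResidueField A) (ResidueField V) (residue A a) := by
    have h0 := (residue_eq_zero_iff _).mpr hmemm
    rw [map_sub, map_pow, sub_eq_zero] at h0
    rw [h0, ResidueField.algebraMap_residue]
  have hirr : Irreducible (X ^ p - C (residue A a) : (ResidueField A)[X]) := by
    apply X_pow_sub_C_irreducible_of_prime hp
    intro bb hbb
    obtain ⟨r, rfl⟩ := residue_surjective bb
    exact ha r hbb.symm
  have hmin : (X ^ p - C (residue A a) : (ResidueField A)[X]) =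
      minpoly (ResidueField A) (residue V yV) := by
    apply minpoly.eq_of_irreducible_of_monic hirr
    · rw [map_sub, map_pow, aeval_X, aeval_C, hres, sub_self]
    · exact monic_X_pow_sub_C _ hp.ne_zero
  have hdeg : (minpoly (ResidueField A) (residue V yV)).natDegree = p := by
    rw [← hmin, natDegree_X_pow_sub_C]
  have hli : LinearIndependent (ResidueField A) (fun i : Fin p => (residue V yV) ^ (i : ℕ)) := by
    have h := linearIndependent_pow (K := ResidueField A) (residue V yV)
    rw [hdeg] at h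
    exact h
  refine ⟨hres, hli, ?_⟩
  intro c ⟨j, hj⟩
  have hmem : ∑ i, algebraMap A L (c i) * y ^ (i : ℕ) ∈ V :=
    V.sum_mem fun i _ => V.mul_mem _ _ (hV.1 _) (pow_mem hyV _)
  have hSV : (⟨_, hmem⟩ : V) = ∑ i, algebraMap A V (c i) * yV ^ (i : ℕ) := by
    apply Subtype.ext
    rw [show ((∑ i, algebraMap A V (c i) * yV ^ (i : ℕ) : V) : L) =
      V.subtype (∑ i, algebraMap A V (c i) * yV ^ (i : ℕ)) from rfl, map_sum]
    rfl
  have hresS : residue V ⟨_, hmem⟩ ≠ 0 := by
    rw [hSV, map_sum]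
    intro h0
    have h1 : ∑ i, (residue A (c i)) • (residue V yV) ^ (i : ℕ) = 0 := by
      rw [← h0]
      refine Finset.sum_congr rfl fun i _ => ?_
      rw [map_mul, map_pow, Algebra.smul_def, ResidueField.algebraMap_residue]
    have h2 := (Fintype.linearIndependent_iff.mp hli) (fun i => residue A (c i)) h1 j
    exact (residue_ne_zero_iff_isUnit (c j)).mpr hj h2
  have hunit : IsUnit (⟨_, hmem⟩ : V) := (residue_ne_zero_iff_isUnit _).mp hresS
  exact (V.valuation_eq_one_iff _).mp hunit

set_option maxHeartbeats 1600000 in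
theorem case4_of_val (p : ℕ) (hp : p.Prime) [hcharκ : CharP (ResidueField A) p]
    (π : A) (hπ : maximalIdeal A = Ideal.span {π}) [FiniteDimensional K L]
    (hfin : Module.finrank K L ≤ p) (y : L) (a : A)
    (ha : ∀ r : A, residue A a ≠ residue A r ^ p)
    (hy : ∀ V : ValuationSubring L, EtRam.Dominates A (algebraMap A L) V →
      y ∈ V ∧ V.valuation (y ^ p - algebraMap A L a) < 1) :
    Case4 A L (algebraMap A L) p := by
  classical
  haveI : Fact p.Prime := ⟨hp⟩
  have hirr : Irreducible π := (IsDiscreteValuationRing.irreducible_iff_uniformizer π).mpr hπ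
  -- existence
  obtain ⟨V₀, h1, h2⟩ := IsLocalRing.exists_factor_valuationRing (algebraMap A L)
  have hV₀ : EtRam.Dominates A (algebraMap A L) V₀ :=
    (Groth.Agent.Lib.Helper14EtRam.dominates_iff _ V₀).mpr ⟨h1, h2⟩
  have hdata : ∀ (V : ValuationSubring L) (hV : EtRam.Dominates A (algebraMap A L) V),
      ∃ hyV : y ∈ V, UnitComb (A := A) V y p := by
    intro V hV
    letI algAV : Algebra A V := (RingHom.codRestrict (algebraMap A L) V hV.1).toAlgebra
    obtain ⟨hh1, hh2⟩ := (Groth.Agent.Lib.Helper14EtRam.dominates_iff _ V).mp hV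
    haveI : IsLocalHom (algebraMap A V) := hh2
    obtain ⟨-, -, hU⟩ := caseC_residue' p hp V hV y a (hy V hV).1 (hy V hV).2 ha
    exact ⟨(hy V hV).1, hU⟩
  obtain ⟨hyV₀, hU₀⟩ := hdata V₀ hV₀
  have hli := linearIndependent_of_unitComb (K := K) V₀ hV₀ y p hU₀
  obtain ⟨pb, hpbgen, hpbdim⟩ := exists_powerBasis_of_linearIndependent y p hli hfin
  have hdata' : ∀ (V : ValuationSubring L) (hV : EtRam.Dominates A (algebraMap A L) V),
      pb.gen ∈ V ∧ UnitComb (A := A) V pb.gen pb.dim := by
    intro V hV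
    obtain ⟨hyV, hU⟩ := hdata V hV
    rw [hpbgen, hpbdim]
    exact ⟨hyV, hU⟩
  refine ⟨⟨V₀, hV₀⟩, ?_, ?_⟩
  · intro V V' hV hV'
    ext x
    change x ∈ V ↔ x ∈ V'
    rw [mem_iff_of_unitComb pb V hV (hdata' V hV).1 (hdata' V hV).2,
      mem_iff_of_unitComb pb V' hV' (hdata' V' hV').1 (hdata' V' hV').2]
  · intro V hV
    letI algAV : Algebra A V := (RingHom.codRestrict (algebraMap A L) V hV.1).toAlgebra
    intro hloc
    have hyV : y ∈ V := (hy V hV).1
    obtain ⟨hres, hliκ, hU⟩ := caseC_residue' p hp V hV y a hyV (hy V hV).2 ha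
    obtain ⟨hgV, hU'⟩ := hdata' V hV
    -- every element of `V` is a combination of powers of `y` with coefficients in `A`
    have hrepr : ∀ x : V, ∃ c : Fin p → A,
        x = ∑ i, algebraMap A V (c i) * (⟨y, hyV⟩ : V) ^ (i : ℕ) := by
      intro x
      have hcoef := (mem_iff_of_unitComb pb V hV hgV hU' (x : L)).mp x.2
      choose c hc using hcoef
      refine ⟨fun i => c (Fin.cast hpbdim.symm i), ?_⟩
      apply Subtype.ext
      rw [show ((∑ i, algebraMap A V (c (Fin.cast hpbdim.symm i)) * (⟨y, hyV⟩ : V) ^ (i : ℕ) : V) : L)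
        = V.subtype (∑ i, algebraMap A V (c (Fin.cast hpbdim.symm i)) * (⟨y, hyV⟩ : V) ^ (i : ℕ))
        from rfl, map_sum]
      conv_lhs => rw [← pb.basis.sum_repr (x : L)]
      rw [← (Fin.castOrderIso hpbdim).symm.toEquiv.sum_comp]
      refine Finset.sum_congr rfl fun i _ => ?_
      rw [pb.basis_eq_pow, Algebra.smul_def, ← hc, ← IsScalarTower.algebraMap_apply, hpbgen]
      rfl
    have hresx : ∀ x : V, ∃ c : Fin p → A, residue V x =
        ∑ i, (residue A (c i)) • (residue V ⟨y, hyV⟩) ^ (i : ℕ) := by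
      intro x
      obtain ⟨c, hc⟩ := hrepr x
      refine ⟨c, ?_⟩
      rw [hc, map_sum]
      refine Finset.sum_congr rfl fun i _ => ?_
      rw [map_mul, map_pow, Algebra.smul_def, ResidueField.algebraMap_residue]
    refine ⟨?_, ?_, ?_⟩
    · -- weakly unramified
      change (maximalIdeal A).map (algebraMap A V) = maximalIdeal V
      rw [hπ, Ideal.map_span, Set.image_singleton]
      apply le_antisymm
      · rw [Ideal.span_singleton_le_iff_mem]
        exact map_nonunit (algebraMap A V) π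
          ((IsLocalRing.mem_maximalIdeal π).mpr hirr.not_isUnit)
      · intro x hx
        have hlt : V.valuation (x : L) < 1 := (V.valuation_lt_one_iff x).mp hx
        have hcoef := coeff_mem_of_val_lt_one pb V hV hU' (x : L) hlt
        have hcoef' : ∀ i, ∃ a' : A, algebraMap A K (π * a') = pb.basis.repr (x : L) i := by
          intro i
          obtain ⟨a₀, ha₀, ha₀'⟩ := hcoef i
          rw [hπ, Ideal.mem_span_singleton] at ha₀
          obtain ⟨a', rfl⟩ := ha₀
          exact ⟨a', ha₀'⟩
        choose a' ha' using hcoef'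
        rw [Ideal.mem_span_singleton]
        refine ⟨∑ i, algebraMap A V (a' i) * (⟨pb.gen, hgV⟩ : V) ^ (i : ℕ), ?_⟩
        apply Subtype.ext
        rw [show ((algebraMap A V π * ∑ i, algebraMap A V (a' i) * (⟨pb.gen, hgV⟩ : V) ^ (i : ℕ) : V) : L)
          = V.subtype (algebraMap A V π * ∑ i, algebraMap A V (a' i) * (⟨pb.gen, hgV⟩ : V) ^ (i : ℕ))
          from rfl, map_mul, map_sum, Finset.mul_sum]
        conv_lhs => rw [← pb.basis.sum_repr (x : L)]
        refine Finset.sum_congr rfl fun i _ => ?_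
        rw [pb.basis_eq_pow, Algebra.smul_def, ← ha', ← IsScalarTower.algebraMap_apply, map_mul,
          mul_assoc]
        rfl
    · -- purely inseparable
      haveI : ExpChar (ResidueField A) p := ExpChar.prime hp
      haveI : CharP (ResidueField V) p :=
        charP_of_injective_algebraMap (algebraMap (ResidueField A) (ResidueField V)).injective p
      rw [isPurelyInseparable_iff_pow_mem (ResidueField A) p]
      intro xbar
      obtain ⟨x, rfl⟩ := residue_surjective xbar
      obtain ⟨c, hc⟩ := hresx x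
      refine ⟨1, ∑ i, (residue A (c i)) ^ p * (residue A a) ^ (i : ℕ), ?_⟩
      rw [pow_one, hc, sum_pow_char, map_sum]
      refine Finset.sum_congr rfl fun i _ => ?_
      rw [Algebra.smul_def, mul_pow, ← pow_mul, mul_comm (i : ℕ) p, pow_mul, hres, map_mul,
        map_pow, map_pow]
    · -- degree
      have hspan : ⊤ ≤ Submodule.span (ResidueField A)
          (Set.range (fun i : Fin p => (residue V ⟨y, hyV⟩) ^ (i : ℕ))) := by
        intro xbar _
        obtain ⟨x, rfl⟩ := residue_surjective xbar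
        obtain ⟨c, hc⟩ := hresx x
        rw [hc]
        refine Submodule.sum_mem _ fun i _ => Submodule.smul_mem _ _ ?_
        exact Submodule.subset_span ⟨i, rfl⟩
      have := Module.finrank_eq_card_basis (Module.Basis.mk hliκ hspan)
      rw [this, Fintype.card_fin]

end AbsC

section AbsA

variable {A K L : Type u} [CommRing A] [IsDomain A] [IsDiscreteValuationRing A] [Field K]
  [Algebra A K] [IsFractionRing A K] [Field L] [Algebra K L] [Algebra A L] [IsScalarTower A K L]

theorem isFractionRing_adjoin' (z : L) (hadj : Algebra.adjoin K {z} = ⊤) :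
    IsFractionRing (Algebra.adjoin A {z}) L := by
  have hinjAL : Function.Injective (algebraMap A L) := by
    rw [IsScalarTower.algebraMap_eq A K L]
    exact (algebraMap K L).injective.comp (IsFractionRing.injective A K)
  have key : ∀ x : L, ∃ (b : L) (s : A), b ∈ Algebra.adjoin A {z} ∧ s ≠ 0 ∧
      x * algebraMap A L s = b := by
    intro x
    have hx : x ∈ Algebra.adjoin K {z} := by
      rw [hadj]; trivial
    induction hx using Algebra.adjoin_induction with
    | mem x hx =>
      rw [Set.mem_singleton_iff] at hx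
      subst hx
      exact ⟨x, 1, Algebra.subset_adjoin rfl, one_ne_zero, by rw [map_one, mul_one]⟩
    | algebraMap k =>
      obtain ⟨a, s, hs, rfl⟩ := IsFractionRing.div_surjective (A := A) k
      have hs0 : s ≠ 0 := nonZeroDivisors.ne_zero hs
      refine ⟨algebraMap A L a, s, Subalgebra.algebraMap_mem _ a, hs0, ?_⟩
      rw [IsScalarTower.algebraMap_apply A K L, IsScalarTower.algebraMap_apply A K L, ← map_mul,
        div_mul_cancel₀]
      exact (map_ne_zero_iff _ (IsFractionRing.injective A K)).mpr hs0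
    | add x y _ _ hx hy =>
      obtain ⟨b, s, hb, hs, hxs⟩ := hx
      obtain ⟨b', s', hb', hs', hys⟩ := hy
      refine ⟨b * algebraMap A L s' + b' * algebraMap A L s, s * s',
        Subalgebra.add_mem _ (Subalgebra.mul_mem _ hb (Subalgebra.algebraMap_mem _ _))
          (Subalgebra.mul_mem _ hb' (Subalgebra.algebraMap_mem _ _)), mul_ne_zero hs hs', ?_⟩
      rw [map_mul, ← hxs, ← hys]
      ring
    | mul x y _ _ hx hy =>
      obtain ⟨b, s, hb, hs, hxs⟩ := hx
      obtain ⟨b', s', hb', hs', hys⟩ := hy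
      refine ⟨b * b', s * s', Subalgebra.mul_mem _ hb hb', mul_ne_zero hs hs', ?_⟩
      rw [map_mul, ← hxs, ← hys]
      ring
  apply IsFractionRing.of_field
  intro x
  obtain ⟨b, s, hb, hs, hxs⟩ := key x
  refine ⟨⟨b, hb⟩, ⟨algebraMap A L s, Subalgebra.algebraMap_mem _ s⟩, ?_⟩
  have hs' : algebraMap A L s ≠ 0 := (map_ne_zero_iff _ hinjAL).mpr hs
  change x = b / algebraMap A L s
  rw [eq_div_iff hs', hxs]

theorem formallyUnramified_adjoin' (z : L) (f : A[X]) (hf : aeval z f = 0) (c : L)
    (hc : c ∈ Algebra.adjoin A {z}) (hcu : c * aeval z (derivative f) = 1) :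
    Algebra.FormallyUnramified A (Algebra.adjoin A {z}) := by
  constructor
  set zS : Algebra.adjoin A {z} := ⟨z, Algebra.subset_adjoin rfl⟩ with hzS
  have hDz : KaehlerDifferential.D A (Algebra.adjoin A {z}) zS = 0 := by
    have h0 : aeval zS f = 0 := by
      apply Subtype.ext
      rw [← Subalgebra.aeval_coe]
      exact hf
    have h1 := congrArg (KaehlerDifferential.D A (Algebra.adjoin A {z})) h0
    rw [Derivation.map_aeval, map_zero] at h1
    have h2 : (⟨c, hc⟩ : Algebra.adjoin A {z}) * aeval zS (derivative f) = 1 := by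
      apply Subtype.ext
      change c * ((aeval zS (derivative f) : Algebra.adjoin A {z}) : L) = 1
      rw [← Subalgebra.aeval_coe]
      exact hcu
    have h3 := congrArg (fun m => (⟨c, hc⟩ : Algebra.adjoin A {z}) • m) h1
    simp only [smul_zero, smul_smul, h2, one_smul] at h3
    exact h3
  have hD : ∀ (x : L) (hx : x ∈ Algebra.adjoin A {z}),
      KaehlerDifferential.D A (Algebra.adjoin A {z}) ⟨x, hx⟩ = 0 := by
    intro x hx
    induction hx using Algebra.adjoin_induction with
    | mem x hx =>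
      rw [Set.mem_singleton_iff] at hx
      subst hx
      exact hDz
    | algebraMap r => exact Derivation.map_algebraMap _ r
    | add x y hx hy ihx ihy =>
      have : (⟨x + y, Subalgebra.add_mem _ hx hy⟩ : Algebra.adjoin A {z}) = ⟨x, hx⟩ + ⟨y, hy⟩ := rfl
      rw [this, map_add, ihx, ihy, add_zero]
    | mul x y hx hy ihx ihy =>
      have : (⟨x * y, Subalgebra.mul_mem _ hx hy⟩ : Algebra.adjoin A {z}) = ⟨x, hx⟩ * ⟨y, hy⟩ := rfl
      rw [this, Derivation.leibniz, ihx, ihy, smul_zero, smul_zero, add_zero]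
  have hspan := KaehlerDifferential.span_range_derivation A (Algebra.adjoin A {z})
  have hbot : Submodule.span (Algebra.adjoin A {z})
      (Set.range (KaehlerDifferential.D A (Algebra.adjoin A {z}))) = ⊥ := by
    rw [Submodule.span_eq_bot]
    rintro _ ⟨⟨x, hx⟩, rfl⟩
    exact hD x hx
  rw [hbot] at hspan
  exact (Submodule.subsingleton_iff (Algebra.adjoin A {z})).mp
    (subsingleton_of_bot_eq_top hspan)

theorem unram_of_derivative (z : L) (hadj : Algebra.adjoin K {z} = ⊤) (f : A[X]) (hfm : f.Monic)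
    (hf : aeval z f = 0) (c : L)
    (hc : c ∈ Algebra.adjoin A {z}) (hcu : c * aeval z (derivative f) = 1) :
    EtRam.IsUnramifiedExt A (algebraMap A L) := by
  have hinjAL : Function.Injective (algebraMap A L) := by
    rw [IsScalarTower.algebraMap_eq A K L]
    exact (algebraMap K L).injective.comp (IsFractionRing.injective A K)
  have hint : IsIntegral A z := ⟨f, hfm, by rw [← aeval_def]; exact hf⟩
  haveI := isFractionRing_adjoin' (A := A) (K := K) z hadj
  haveI := formallyUnramified_adjoin' (A := A) z f hf c hc hcu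
  haveI : Module.Finite A (Algebra.adjoin A {z}) :=
    Algebra.finite_adjoin_simple_of_isIntegral hint
  exact Groth.Agent.Lib.Helper14EtRamB.isUnramifiedExt_of_subalgebra A L hinjAL
    (Algebra.adjoin A {z})

end AbsA

section ValAeval

theorem val_aeval_le_one {A L : Type*} [CommRing A] [Field L] [Algebra A L] {Γ : Type*}
    [LinearOrderedCommGroupWithZero Γ] (v : Valuation L Γ)
    (hA : ∀ a : A, v (algebraMap A L a) ≤ 1) (f : A[X]) (z : L) (hz : v z ≤ 1) :
    v (aeval z f) ≤ 1 := by
  rw [aeval_eq_sum_range]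
  apply Valuation.map_sum_le
  intro i _
  rw [Algebra.smul_def, map_mul, map_pow]
  exact mul_le_one' (hA _) (pow_le_one₀ zero_le hz)

end ValAeval

section Setting

variable (p : ℕ) (hp : p.Prime) (A K L : Type u) [CommRing A] [IsDomain A]
  [IsDiscreteValuationRing A] [Field K] [Algebra A K] [IsFractionRing A K] [Field L] [Algebra K L]
  [Algebra A L] [IsScalarTower A K L]
  (w : A) (hw0 : w ≠ 0) (P : A[X]) (hP : C (w ^ p) * P = (1 + C w * X) ^ p - 1)
  (ξ : K) (z : L) (hz : aeval z P = algebraMap K L ξ) (hgen : K⟮z⟯ = ⊤)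

include hP hz in
theorem t_pow : (1 + algebraMap A L w * z) ^ p =
    algebraMap K L (1 + algebraMap A K w ^ p * ξ) := by
  have h := aeval_P w P hP z
  rw [hz] at h
  rw [map_add, map_one, map_mul, map_pow, ← IsScalarTower.algebraMap_apply, h]
  ring

include hw0 hgen in
theorem adjoin_t : K⟮1 + algebraMap A L w * z⟯ = ⊤ := by
  have hwL : algebraMap A L w ≠ 0 := by
    rw [IsScalarTower.algebraMap_apply A K L]
    exact (_root_.map_ne_zero _).mpr ((map_ne_zero_iff _ (IsFractionRing.injective A K)).mpr hw0)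
  rw [eq_top_iff, ← hgen, adjoin_simple_le_iff]
  have h1 : 1 + algebraMap A L w * z ∈ K⟮1 + algebraMap A L w * z⟯ :=
    mem_adjoin_simple_self K _
  have h2 : algebraMap A L w ∈ K⟮1 + algebraMap A L w * z⟯ := by
    rw [IsScalarTower.algebraMap_apply A K L]
    exact IntermediateField.algebraMap_mem _ _
  have h3 : (1 + algebraMap A L w * z - 1) / algebraMap A L w ∈ K⟮1 + algebraMap A L w * z⟯ :=
    div_mem (sub_mem h1 (one_mem _)) h2
  rwa [add_sub_cancel_left, mul_div_cancel_left₀ _ hwL] at h3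

include hp hw0 hP hz hgen in
theorem field_main (hpK : (p : K) ≠ 0) (ζ' : K) (hζ' : IsPrimitiveRoot ζ' p) :
    IsGalois K L ∧ FiniteDimensional K L ∧
      (Module.finrank K L = 1 ∨ Module.finrank K L = p) := by
  have hwL : algebraMap A L w ≠ 0 := by
    rw [IsScalarTower.algebraMap_apply A K L]
    exact (_root_.map_ne_zero _).mpr ((map_ne_zero_iff _ (IsFractionRing.injective A K)).mpr hw0)
  have ht := t_pow p A K L w P hP ξ z hz
  by_cases hη : 1 + algebraMap A K w ^ p * ξ = 0
  · rw [hη, map_zero] at ht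
    have ht0 : 1 + algebraMap A L w * z = 0 := pow_eq_zero_iff hp.ne_zero |>.mp ht
    have hzr : z ∈ Set.range (algebraMap K L) := by
      refine ⟨-1 / algebraMap A K w, ?_⟩
      rw [map_div₀, map_neg, map_one, ← IsScalarTower.algebraMap_apply, div_eq_iff hwL]
      linear_combination -ht0
    obtain ⟨h1, h2, h3⟩ := of_mem_range z hzr hgen
    exact ⟨h1, h2, Or.inl h3⟩
  · exact kummer_field hp hpK ζ' hζ' _ hη _ ht (adjoin_t A K L w hw0 z hgen)

include hp hw0 hP hz hgen in
theorem finrank_le' (hpK : (p : K) ≠ 0) (ζ' : K) (hζ' : IsPrimitiveRoot ζ' p) :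
    Module.finrank K L ≤ p := by
  rcases (field_main p hp A K L w hw0 P hP ξ z hz hgen hpK ζ' hζ').2.2 with h | h
  · rw [h]; exact hp.one_le
  · rw [h]

include hp hw0 hP hz hgen in
theorem adjoin_eq_top' (hpK : (p : K) ≠ 0) (ζ' : K) (hζ' : IsPrimitiveRoot ζ' p) :
    Algebra.adjoin K {z} = ⊤ := by
  haveI := (field_main p hp A K L w hw0 P hP ξ z hz hgen hpK ζ' hζ').2.1
  have h := IntermediateField.adjoin_simple_toSubalgebra_of_isAlgebraic
    (Algebra.IsIntegral.isIntegral (R := K) z).isAlgebraic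
  rw [hgen] at h
  rw [← h]
  rfl

include hp hw0 hP hz in
/-- valuation of `z` when `ξ` has a pole. -/
theorem val_z (V : ValuationSubring L) (hV : EtRam.Dominates A (algebraMap A L) V)
    (h1 : 1 < V.valuation (algebraMap K L ξ)) :
    1 < V.valuation z ∧ V.valuation z ^ p = V.valuation (algebraMap K L ξ) ∧
      V.valuation (algebraMap K L ξ - z ^ p) < V.valuation z ^ p := by
  have hA : ∀ a : A, V.valuation (algebraMap A L a) ≤ 1 := valuation_algebraMap_le_one V hV
  have hz1 : 1 < V.valuation z := by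
    by_contra hle
    rw [not_lt] at hle
    have := val_aeval_le_one V.valuation hA P z hle
    rw [hz] at this
    exact absurd h1 (not_lt.mpr this)
  have hmon := P_monic hp w hw0 P hP
  have hdeg := P_natDegree w hw0 P hP
  have e1 := val_monic_eq_pow V.valuation hA P hmon z hz1
  have e2 := val_monic_sub_pow_lt V.valuation hA P hmon z hz1
  rw [hdeg, hz] at e1 e2
  exact ⟨hz1, e1.symm, e2⟩

end Setting

section Cases

variable (p : ℕ) (hp : p.Prime) (A K L : Type u) [CommRing A] [IsDomain A]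
  [IsDiscreteValuationRing A] [Field K] [Algebra A K] [IsFractionRing A K] [Field L] [Algebra K L]
  [Algebra A L] [IsScalarTower A K L]
  (w : A) (hw0 : w ≠ 0) (P : A[X]) (hP : C (w ^ p) * P = (1 + C w * X) ^ p - 1)
  (ξ : K) (z : L) (hz : aeval z P = algebraMap K L ξ) (hgen : K⟮z⟯ = ⊤)
  (hpK : (p : K) ≠ 0) (ζ' : K) (hζ' : IsPrimitiveRoot ζ' p)

include hp hw0 hP hz hgen hpK hζ' in
theorem caseA' (hwm : w ∈ maximalIdeal A) (u : Aˣ) (hu : (p : A) = u * w ^ (p - 1))
    (a : A) (ha : algebraMap A K a = ξ) :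
    Module.finrank K L = 1 ∨
      (EtRam.IsUnramifiedExt A (algebraMap A L) ∧ Module.finrank K L = p) := by
  rcases (field_main p hp A K L w hw0 P hP ξ z hz hgen hpK ζ' hζ').2.2 with h1 | hp'
  · exact Or.inl h1
  refine Or.inr ⟨?_, hp'⟩
  have hadj := adjoin_eq_top' p hp A K L w hw0 P hP ξ z hz hgen hpK ζ' hζ'
  have hmon := P_monic hp w hw0 P hP
  have hdeg := P_natDegree w hw0 P hP
  have hfm : (P - C a).Monic := by
    apply hmon.sub_of_left
    refine lt_of_le_of_lt degree_C_le ?_
    rw [degree_eq_natDegree hmon.ne_zero, hdeg]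
    exact_mod_cast hp.pos
  have hf : aeval z (P - C a) = 0 := by
    rw [map_sub, aeval_C, hz, ← ha, ← IsScalarTower.algebraMap_apply, sub_self]
  have hder : derivative (P - C a) = C (u : A) * (1 + C w * X) ^ (p - 1) := by
    rw [derivative_sub, derivative_C, sub_zero]
    exact P_derivative hp w hw0 P hP u hu
  -- the unit `1 + w ^ p a`
  have hηu : IsUnit (1 + w ^ p * a) := by
    have : 1 + w ^ p * a = 1 - (-(w ^ p * a)) := by ring
    rw [this]
    apply isUnit_one_sub_self_of_mem_nonunits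
    change -(w ^ p * a) ∈ maximalIdeal A
    exact neg_mem (Ideal.mul_mem_right _ _ (Ideal.pow_mem_of_mem _ hwm _ hp.pos))
  obtain ⟨η, hη⟩ := hηu
  have ht := t_pow p A K L w P hP ξ z hz
  rw [← ha, ← map_pow, ← map_mul, ← map_one (algebraMap A K), ← map_add,
    ← IsScalarTower.algebraMap_apply, ← hη] at ht
  set t : L := 1 + algebraMap A L w * z with htdef
  have htmem : t ∈ Algebra.adjoin A {z} :=
    Subalgebra.add_mem _ (Subalgebra.one_mem _)
      (Subalgebra.mul_mem _ (Subalgebra.algebraMap_mem _ _) (Algebra.subset_adjoin rfl))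
  refine unram_of_derivative (K := K) z hadj (P - C a) hfm hf
    (algebraMap A L ((u⁻¹ : Aˣ) * (η⁻¹ : Aˣ)) * t)
    (Subalgebra.mul_mem _ (Subalgebra.algebraMap_mem _ _) htmem) ?_
  have haev : aeval z (C (u : A) * (1 + C w * X) ^ (p - 1)) = algebraMap A L u * t ^ (p - 1) := by
    rw [map_mul, aeval_C, map_pow, map_add, map_one, map_mul, aeval_C, aeval_X]
  rw [hder, haev]
  have hpp : t * t ^ (p - 1) = t ^ p := by
    rw [← pow_succ', Nat.sub_add_cancel hp.one_le]
  calc algebraMap A L ((u⁻¹ : Aˣ) * (η⁻¹ : Aˣ)) * t * (algebraMap A L u * t ^ (p - 1))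
      = algebraMap A L ((u⁻¹ : Aˣ) * (η⁻¹ : Aˣ)) * algebraMap A L u * (t * t ^ (p - 1)) := by ring
    _ = algebraMap A L (((u⁻¹ : Aˣ) * (η⁻¹ : Aˣ)) * u * η) := by
        rw [hpp, ht]
        simp only [map_mul]
    _ = 1 := by
        have : ((u⁻¹ : Aˣ) : A) * ((η⁻¹ : Aˣ) : A) * u * η = 1 := by
          calc ((u⁻¹ : Aˣ) : A) * ((η⁻¹ : Aˣ) : A) * u * η
              = (((u⁻¹ : Aˣ) : A) * u) * (((η⁻¹ : Aˣ) : A) * η) := by ring
            _ = 1 := by rw [Units.inv_mul, Units.inv_mul, one_mul]
        rw [this, map_one]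

include hp hw0 hP hz hgen hpK hζ' in
theorem caseB' (π : A) (hπ : maximalIdeal A = Ideal.span {π}) (n : ℕ) (a : Aˣ) (hn : 0 < n)
    (hpn : ¬ p ∣ n) (hξ : ξ * algebraMap A K π ^ n = algebraMap A K a) :
    EtRam.IsTotallyRamified A (algebraMap A L) ∧ Module.finrank K L = p := by
  classical
  have hirr : Irreducible π := (IsDiscreteValuationRing.irreducible_iff_uniformizer π).mpr hπ
  haveI := (field_main p hp A K L w hw0 P hP ξ z hz hgen hpK ζ' hζ').2.1
  have hfin := finrank_le' p hp A K L w hw0 P hP ξ z hz hgen hpK ζ' hζ'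
  have hinjAL : Function.Injective (algebraMap A L) := by
    rw [IsScalarTower.algebraMap_eq A K L]
    exact (algebraMap K L).injective.comp (IsFractionRing.injective A K)
  have hξL : algebraMap K L ξ * algebraMap A L π ^ n = algebraMap A L a := by
    rw [IsScalarTower.algebraMap_apply A K L, IsScalarTower.algebraMap_apply A K L, ← map_pow,
      ← map_mul, hξ]
  have hcop : IsCoprime (p : ℤ) (-(n : ℤ)) := by
    apply IsCoprime.neg_right
    rw [Nat.isCoprime_iff_coprime]
    exact (Nat.Prime.coprime_iff_not_dvd hp).mpr hpn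
  refine totRam_of_val (K := K) p hirr hfin z (-(n : ℤ)) hcop ?_
  intro V hV
  have hvπ1 : V.valuation (algebraMap A L π) < 1 :=
    hV.2 π ((IsLocalRing.mem_maximalIdeal π).mpr hirr.not_isUnit)
  have hvπ0 : V.valuation (algebraMap A L π) ≠ 0 := by
    rw [Valuation.ne_zero_iff]
    exact (map_ne_zero_iff _ hinjAL).mpr hirr.ne_zero
  have hva : V.valuation (algebraMap A L a) = 1 := valuation_algebraMap_unit V hV a
  have h1 : V.valuation (algebraMap K L ξ) * V.valuation (algebraMap A L π) ^ n = 1 := by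
    rw [← map_pow, ← map_mul, hξL, hva]
  have hξv : V.valuation (algebraMap K L ξ) = V.valuation (algebraMap A L π) ^ (-(n : ℤ)) := by
    rw [zpow_neg, zpow_natCast]
    exact eq_inv_of_mul_eq_one_left h1
  have hπn : V.valuation (algebraMap A L π) ^ n < 1 := pow_lt_one₀ zero_le hvπ1 hn.ne'
  have hξ1 : 1 < V.valuation (algebraMap K L ξ) := by
    by_contra hle
    rw [not_lt] at hle
    have : V.valuation (algebraMap K L ξ) * V.valuation (algebraMap A L π) ^ n < 1 := by
      calc _ ≤ 1 * V.valuation (algebraMap A L π) ^ n := by gcongr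
        _ < 1 := by rw [one_mul]; exact hπn
    rw [h1] at this
    exact lt_irrefl _ this
  obtain ⟨-, h2, -⟩ := val_z p hp A K L w hw0 P hP ξ z hz V hV hξ1
  rw [h2, hξv]

end Cases

section CasesC

variable (p : ℕ) (hp : p.Prime) (A K L : Type u) [CommRing A] [IsDomain A]
  [IsDiscreteValuationRing A] [Field K] [Algebra A K] [IsFractionRing A K] [Field L] [Algebra K L]
  [Algebra A L] [IsScalarTower A K L]
  (w : A) (hw0 : w ≠ 0) (P : A[X]) (hP : C (w ^ p) * P = (1 + C w * X) ^ p - 1)
  (ξ : K) (z : L) (hz : aeval z P = algebraMap K L ξ) (hgen : K⟮z⟯ = ⊤)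
  (hpK : (p : K) ≠ 0) (ζ' : K) (hζ' : IsPrimitiveRoot ζ' p)

include hp hw0 hP hz hgen hpK hζ' in
theorem caseC' [CharP (ResidueField A) p] (π : A) (hπ : maximalIdeal A = Ideal.span {π}) (n : ℕ)
    (a : A) (hn : 0 < n)
    (hpn : p ∣ n) (ha : ∀ r : A, residue A a ≠ residue A r ^ p)
    (hξ : ξ * algebraMap A K π ^ n = algebraMap A K a) :
    Case4 A L (algebraMap A L) p := by
  classical
  have hirr : Irreducible π := (IsDiscreteValuationRing.irreducible_iff_uniformizer π).mpr hπ
  haveI := (field_main p hp A K L w hw0 P hP ξ z hz hgen hpK ζ' hζ').2.1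
  have hfin := finrank_le' p hp A K L w hw0 P hP ξ z hz hgen hpK ζ' hζ'
  have hinjAL : Function.Injective (algebraMap A L) := by
    rw [IsScalarTower.algebraMap_eq A K L]
    exact (algebraMap K L).injective.comp (IsFractionRing.injective A K)
  obtain ⟨m, rfl⟩ := hpn
  have hξL : algebraMap K L ξ * algebraMap A L π ^ (p * m) = algebraMap A L a := by
    rw [IsScalarTower.algebraMap_apply A K L, IsScalarTower.algebraMap_apply A K L, ← map_pow,
      ← map_mul, hξ]
  have hau : IsUnit a := by
    rw [← residue_ne_zero_iff_isUnit]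
    intro h0
    apply ha 0
    rw [h0, map_zero, zero_pow hp.ne_zero]
  refine case4_of_val (K := K) p hp π hπ hfin (algebraMap A L π ^ m * z) a ha ?_
  intro V hV
  have hvπ1 : V.valuation (algebraMap A L π) < 1 :=
    hV.2 π ((IsLocalRing.mem_maximalIdeal π).mpr hirr.not_isUnit)
  have hvπ0 : V.valuation (algebraMap A L π) ≠ 0 := by
    rw [Valuation.ne_zero_iff]
    exact (map_ne_zero_iff _ hinjAL).mpr hirr.ne_zero
  have hva : V.valuation (algebraMap A L a) = 1 := by
    have := valuation_algebraMap_unit V hV hau.unit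
    rwa [IsUnit.unit_spec] at this
  have h1 : V.valuation (algebraMap K L ξ) * V.valuation (algebraMap A L π) ^ (p * m) = 1 := by
    rw [← map_pow, ← map_mul, hξL, hva]
  have hπn : V.valuation (algebraMap A L π) ^ (p * m) < 1 := pow_lt_one₀ zero_le hvπ1 hn.ne'
  have hξ1 : 1 < V.valuation (algebraMap K L ξ) := by
    by_contra hle
    rw [not_lt] at hle
    have : V.valuation (algebraMap K L ξ) * V.valuation (algebraMap A L π) ^ (p * m) < 1 := by
      calc _ ≤ 1 * V.valuation (algebraMap A L π) ^ (p * m) := by gcongr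
        _ < 1 := by rw [one_mul]; exact hπn
    rw [h1] at this
    exact lt_irrefl _ this
  obtain ⟨hz1, h2, h3⟩ := val_z p hp A K L w hw0 P hP ξ z hz V hV hξ1
  have hπpm0 : V.valuation (algebraMap A L π) ^ (p * m) ≠ 0 := pow_ne_zero _ hvπ0
  have hyp : V.valuation (algebraMap A L π ^ m * z) ^ p = 1 := by
    rw [map_mul, map_pow, mul_pow, ← pow_mul, mul_comm m p, h2, mul_comm]
    exact h1
  constructor
  · rw [← ValuationSubring.valuation_le_one_iff]
    by_contra hgt
    rw [not_le] at hgt
    have := one_lt_pow₀ hgt hp.ne_zero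
    rw [hyp] at this
    exact lt_irrefl _ this
  · have e1 : (algebraMap A L π ^ m * z) ^ p - algebraMap A L a =
        -(algebraMap A L π ^ (p * m) * (algebraMap K L ξ - z ^ p)) := by
      rw [← hξL, mul_pow, ← pow_mul, mul_comm m p]
      ring
    rw [e1, Valuation.map_neg, map_mul, map_pow]
    calc V.valuation (algebraMap A L π) ^ (p * m) * V.valuation (algebraMap K L ξ - z ^ p)
        < V.valuation (algebraMap A L π) ^ (p * m) * V.valuation z ^ p := by
          apply mul_lt_mul_of_pos_left h3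
          exact lt_of_le_of_ne zero_le hπpm0.symm
      _ = 1 := by rw [h2, mul_comm]; exact h1

end CasesC

section KVal

variable {A K : Type u} [CommRing A] [IsDomain A] [IsDiscreteValuationRing A] [Field K]
  [Algebra A K] [IsFractionRing A K]

theorem exists_kval : ∃ V : ValuationSubring K, EtRam.Dominates A (algebraMap A K) V := by
  obtain ⟨V, h1, h2⟩ := IsLocalRing.exists_factor_valuationRing (algebraMap A K)
  exact ⟨V, (Groth.Agent.Lib.Helper14EtRam.dominates_iff _ V).mpr ⟨h1, h2⟩⟩

variable (V : ValuationSubring K) (hV : EtRam.Dominates A (algebraMap A K) V)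

include hV in
theorem kval_zpow {π : A} (hπ : Irreducible π) {c : K} (hc : c ≠ 0) :
    ∃ l : ℤ, V.valuation c = V.valuation (algebraMap A K π) ^ l := by
  obtain ⟨l, hl, -⟩ := exists_zpow_valuation (K := K) (L := K) V hV hπ hc
  exact ⟨l, hl⟩

include hV in
theorem kval_mem_range (c : K) (hc : V.valuation c ≤ 1) : c ∈ Set.range (algebraMap A K) :=
  mem_range_of_val_le_one (K := K) (L := K) V hV c hc

include hV in
theorem kval_pi {π : A} (hπ : Irreducible π) :
    0 < V.valuation (algebraMap A K π) ∧ V.valuation (algebraMap A K π) < 1 := by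
  constructor
  · apply lt_of_le_of_ne zero_le
    symm
    rw [Valuation.ne_zero_iff]
    exact (map_ne_zero_iff _ (IsFractionRing.injective A K)).mpr hπ.ne_zero
  · exact hV.2 π ((IsLocalRing.mem_maximalIdeal π).mpr hπ.not_isUnit)

include hV in
/-- discreteness -/
theorem kval_lt_succ {π : A} (hπ : Irreducible π) (c : K) (l : ℤ)
    (h : V.valuation c < V.valuation (algebraMap A K π) ^ l) :
    V.valuation c ≤ V.valuation (algebraMap A K π) ^ (l + 1) := by
  obtain ⟨h0, h1⟩ := kval_pi V hV hπ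
  by_cases hc : c = 0
  · rw [hc, map_zero]
    exact zero_le
  obtain ⟨l', hl'⟩ := kval_zpow V hV hπ hc
  rw [hl'] at h ⊢
  rw [zpow_lt_zpow_iff_right_of_lt_one₀ h0 h1] at h
  rw [zpow_le_zpow_iff_right_of_lt_one₀ h0 h1]
  omega

end KVal

section NF

/-- the three normal forms of the datum `ξ`. -/
def NFξ (p : ℕ) (A K : Type u) [CommRing A] [IsLocalRing A] [Field K] [Algebra A K] (π : A)
    (ξ : K) : Prop :=
  (∃ a : A, algebraMap A K a = ξ) ∨
  (∃ (n : ℕ) (a : Aˣ), 0 < n ∧ ¬ p ∣ n ∧ ξ * algebraMap A K π ^ n = algebraMap A K a) ∨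
  (∃ (n : ℕ) (a : A), 0 < n ∧ p ∣ n ∧ (∀ r : A, residue A a ≠ residue A r ^ p) ∧
    ξ * algebraMap A K π ^ n = algebraMap A K a)

variable {A K : Type u} [CommRing A] [IsDomain A] [IsDiscreteValuationRing A] [Field K]
  [Algebra A K] [IsFractionRing A K]

set_option maxHeartbeats 1600000 in
theorem exists_nf_aux (p : ℕ) (hp : p.Prime) (w : A) (hw0 : w ≠ 0) (P : A[X])
    (hP : C (w ^ p) * P = (1 + C w * X) ^ p - 1) (π : A) (hπ : maximalIdeal A = Ideal.span {π})
    (V : ValuationSubring K) (hV : EtRam.Dominates A (algebraMap A K) V) (N : ℕ) :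
    ∀ ξ : K, V.valuation ξ ≤ V.valuation (algebraMap A K π) ^ (-(N : ℤ)) →
      V.valuation (algebraMap A K w) ^ p * V.valuation ξ < 1 →
      ∃ (s ξ' : K), s ≠ 0 ∧
        (1 + algebraMap A K w ^ p * ξ) / s ^ p = 1 + algebraMap A K w ^ p * ξ' ∧
        NFξ p A K π ξ' := by
  classical
  have hirr : Irreducible π := (IsDiscreteValuationRing.irreducible_iff_uniformizer π).mpr hπ
  obtain ⟨hπ0, hπ1⟩ := kval_pi V hV hirr
  have hπK : algebraMap A K π ≠ 0 :=
    (map_ne_zero_iff _ (IsFractionRing.injective A K)).mpr hirr.ne_zero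
  have hA : ∀ a : A, V.valuation (algebraMap A K a) ≤ 1 :=
    valuation_algebraMap_le_one (L := K) V hV
  induction N with
  | zero =>
    intro ξ h1 _
    rw [Nat.cast_zero, neg_zero, zpow_zero] at h1
    obtain ⟨a, ha⟩ := kval_mem_range V hV ξ h1
    exact ⟨1, ξ, one_ne_zero, by rw [one_pow, div_one], Or.inl ⟨a, ha⟩⟩
  | succ N ih =>
    intro ξ h1 hw
    by_cases h2 : V.valuation ξ ≤ V.valuation (algebraMap A K π) ^ (-(N : ℤ))
    · exact ih ξ h2 hw
    rw [not_le] at h2
    have hξ0 : ξ ≠ 0 := by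
      rintro rfl
      rw [map_zero] at h2
      exact absurd h2 (not_lt.mpr zero_le)
    obtain ⟨l, hl⟩ := kval_zpow V hV hirr hξ0
    have hlN : l = -((N : ℤ) + 1) := by
      rw [hl] at h1 h2
      rw [zpow_le_zpow_iff_right_of_lt_one₀ hπ0 hπ1] at h1
      rw [zpow_lt_zpow_iff_right_of_lt_one₀ hπ0 hπ1] at h2
      push_cast at h1
      omega
    have hva : V.valuation (ξ * algebraMap A K π ^ (N + 1)) = 1 := by
      rw [map_mul, map_pow, hl, hlN, ← zpow_natCast, ← zpow_add₀ hπ0.ne']
      push_cast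
      rw [neg_add_cancel, zpow_zero]
    obtain ⟨a, ha⟩ := kval_mem_range V hV _ hva.le
    have hau : IsUnit a := by
      by_contra hnu
      have : V.valuation (algebraMap A K a) < 1 := hV.2 a ((mem_maximalIdeal a).mpr hnu)
      rw [ha, hva] at this
      exact lt_irrefl _ this
    by_cases hpN : p ∣ N + 1
    swap
    · exact ⟨1, ξ, one_ne_zero, by rw [one_pow, div_one],
        Or.inr (Or.inl ⟨N + 1, hau.unit, Nat.succ_pos N, hpN, by rw [IsUnit.unit_spec, ha]⟩)⟩
    by_cases hr : ∀ r : A, residue A a ≠ residue A r ^ p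
    · exact ⟨1, ξ, one_ne_zero, by rw [one_pow, div_one],
        Or.inr (Or.inr ⟨N + 1, a, Nat.succ_pos N, hpN, hr, ha.symm⟩)⟩
    push Not at hr
    obtain ⟨r, hr⟩ := hr
    obtain ⟨m, hm⟩ := hpN
    have hm0 : 0 < m := by
      rcases Nat.eq_zero_or_pos m with h0 | h0
      · subst h0; omega
      · exact h0
    have hru : IsUnit r := by
      rw [← residue_ne_zero_iff_isUnit]
      intro h0
      rw [h0, zero_pow hp.ne_zero] at hr
      exact (residue_ne_zero_iff_isUnit a).mpr hau hr
    have hvr : V.valuation (algebraMap A K r) = 1 := by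
      have := valuation_algebraMap_unit (L := K) V hV hru.unit
      rwa [IsUnit.unit_spec] at this
    set y : K := algebraMap A K r / algebraMap A K π ^ m with hy
    have hvy : V.valuation y = V.valuation (algebraMap A K π) ^ (-(m : ℤ)) := by
      rw [hy, map_div₀, hvr, map_pow, one_div, zpow_neg, zpow_natCast]
    have hvy1 : 1 < V.valuation y := by
      rw [hvy]
      exact one_lt_zpow_of_neg₀ hπ0 hπ1 (by omega)
    have hmpl : -(m : ℤ) * (p : ℤ) = -((N : ℤ) + 1) := by
      have : ((N + 1 : ℕ) : ℤ) = ((p * m : ℕ) : ℤ) := by rw [hm]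
      push_cast at this
      linarith
    have hwy : V.valuation (algebraMap A K w * y) < 1 := by
      rw [map_mul]
      by_contra hge
      rw [not_lt] at hge
      have h3 : 1 ≤ (V.valuation (algebraMap A K w) * V.valuation y) ^ p := one_le_pow₀ hge
      rw [mul_pow, hvy, ← zpow_natCast (V.valuation (algebraMap A K π) ^ (-(m : ℤ))) p,
        ← zpow_mul, hmpl, ← hlN, ← hl] at h3
      exact absurd hw (not_lt.mpr h3)
    set s₀ : K := 1 + algebraMap A K w * y with hs₀
    have hvs₀ : V.valuation s₀ = 1 := V.valuation.map_one_add_of_lt hwy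
    have hs₀0 : s₀ ≠ 0 := by
      intro h
      rw [h, map_zero] at hvs₀
      exact zero_ne_one hvs₀
    have hPy : algebraMap A K w ^ p * aeval y P = s₀ ^ p - 1 := aeval_P w P hP y
    set ξ' : K := (ξ - aeval y P) / s₀ ^ p with hξ'
    have hident : (1 + algebraMap A K w ^ p * ξ) / s₀ ^ p = 1 + algebraMap A K w ^ p * ξ' := by
      rw [hξ', div_eq_iff (pow_ne_zero _ hs₀0)]
      field_simp
      linear_combination hPy
    have hmon := P_monic hp w hw0 P hP
    have hdeg := P_natDegree w hw0 P hP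
    have hb1 : V.valuation (aeval y P - y ^ p) <
        V.valuation (algebraMap A K π) ^ (-((N : ℤ) + 1)) := by
      have := val_monic_sub_pow_lt V.valuation hA P hmon y hvy1
      rw [hdeg, hvy, ← zpow_natCast (V.valuation (algebraMap A K π) ^ (-(m : ℤ))) p,
        ← zpow_mul, hmpl] at this
      exact this
    have hb2 : V.valuation (ξ - y ^ p) < V.valuation (algebraMap A K π) ^ (-((N : ℤ) + 1)) := by
      have e : ξ - y ^ p = algebraMap A K (a - r ^ p) / algebraMap A K π ^ (N + 1) := by
        rw [map_sub, ha, map_pow, hy, div_pow, ← pow_mul, mul_comm m p, ← hm]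
        field_simp
      have hmem : a - r ^ p ∈ maximalIdeal A := by
        rw [← residue_eq_zero_iff, map_sub, map_pow, hr, sub_self]
      have hlt : V.valuation (algebraMap A K (a - r ^ p)) < 1 := hV.2 _ hmem
      rw [e, map_div₀, map_pow, div_eq_mul_inv, ← zpow_natCast, ← zpow_neg, Nat.cast_add,
        Nat.cast_one]
      calc V.valuation (algebraMap A K (a - r ^ p)) *
            V.valuation (algebraMap A K π) ^ (-((N : ℤ) + 1))
          < 1 * V.valuation (algebraMap A K π) ^ (-((N : ℤ) + 1)) := by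
            apply mul_lt_mul_of_pos_right hlt
            exact zpow_pos hπ0 _
        _ = _ := one_mul _
    have hb3 : V.valuation (ξ - aeval y P) <
        V.valuation (algebraMap A K π) ^ (-((N : ℤ) + 1)) := by
      have : ξ - aeval y P = (ξ - y ^ p) - (aeval y P - y ^ p) := by ring
      rw [this]
      exact Valuation.map_sub_lt _ hb2 hb1
    have hb4 : V.valuation ξ' ≤ V.valuation (algebraMap A K π) ^ (-(N : ℤ)) := by
      rw [hξ', map_div₀, map_pow, hvs₀, one_pow, div_one]
      have := kval_lt_succ V hV hirr _ _ hb3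
      rw [show -((N : ℤ) + 1) + 1 = -(N : ℤ) by ring] at this
      exact this
    have hb5 : V.valuation (algebraMap A K w) ^ p * V.valuation ξ' < 1 := by
      have e : algebraMap A K w ^ p * ξ' =
          (algebraMap A K w ^ p * ξ - (s₀ ^ p - 1)) / s₀ ^ p := by
        rw [hξ', ← hPy]
        ring
      rw [← map_pow, ← map_mul, e, map_div₀, map_pow V.valuation s₀, hvs₀, one_pow, div_one]
      apply Valuation.map_sub_lt
      · rw [map_mul, map_pow]
        exact hw
      · rw [← mul_geom_sum, map_mul]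
        have h5 : V.valuation (s₀ - 1) < 1 := by
          rw [hs₀, add_sub_cancel_left]
          exact hwy
        have h6 : V.valuation (∑ i ∈ Finset.range p, s₀ ^ i) ≤ 1 := by
          apply Valuation.map_sum_le
          intro i _
          rw [map_pow, hvs₀, one_pow]
        calc V.valuation (s₀ - 1) * V.valuation (∑ i ∈ Finset.range p, s₀ ^ i)
            ≤ V.valuation (s₀ - 1) * 1 := by gcongr
          _ < 1 := by rw [mul_one]; exact h5
    obtain ⟨s', ξ'', hs', hid', hnf⟩ := ih ξ' hb4 hb5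
    refine ⟨s₀ * s', ξ'', mul_ne_zero hs₀0 hs', ?_, hnf⟩
    rw [mul_pow, ← div_div, hident, hid']

end NF

section NF2

/-- the normal forms of the Kummer datum `η`. -/
def NF (p : ℕ) (A K : Type u) [CommRing A] [IsLocalRing A] [Field K] [Algebra A K] (w π : A)
    (η : K) : Prop :=
  (∃ (j : ℤ) (u : Aˣ), IsCoprime (p : ℤ) j ∧ η = algebraMap A K u * algebraMap A K π ^ j) ∨
  (∃ a : A, (∀ r : A, residue A a ≠ residue A r ^ p) ∧ η = algebraMap A K a) ∨
  (∃ ξ : K, η = 1 + algebraMap A K w ^ p * ξ ∧ NFξ p A K π ξ)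

variable {A K : Type u} [CommRing A] [IsDomain A] [IsDiscreteValuationRing A] [Field K]
  [Algebra A K] [IsFractionRing A K]

set_option maxHeartbeats 1600000 in
theorem exists_nf (p : ℕ) (hp : p.Prime) (w : A) (hw0 : w ≠ 0) (P : A[X])
    (hP : C (w ^ p) * P = (1 + C w * X) ^ p - 1) (π : A) (hπ : maximalIdeal A = Ideal.span {π})
    (η : K) (hη : η ≠ 0) : ∃ s : K, s ≠ 0 ∧ NF p A K w π (η / s ^ p) := by
  classical
  have hirr : Irreducible π := (IsDiscreteValuationRing.irreducible_iff_uniformizer π).mpr hπ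
  obtain ⟨V, hV⟩ := exists_kval (A := A) (K := K)
  obtain ⟨hπ0, hπ1⟩ := kval_pi V hV hirr
  have hπK : algebraMap A K π ≠ 0 :=
    (map_ne_zero_iff _ (IsFractionRing.injective A K)).mpr hirr.ne_zero
  have hwK : algebraMap A K w ≠ 0 :=
    (map_ne_zero_iff _ (IsFractionRing.injective A K)).mpr hw0
  obtain ⟨j, u, hju⟩ := IsDiscreteValuationRing.exists_units_eq_smul_zpow_of_irreducible hirr hη
  rw [Units.smul_def, Algebra.smul_def] at hju
  by_cases hpj : (p : ℤ) ∣ j
  swap
  · refine ⟨1, one_ne_zero, Or.inl ⟨j, u, ?_, by rw [one_pow, div_one]; exact hju⟩⟩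
    exact (Prime.coprime_iff_not_dvd (Nat.prime_iff_prime_int.mp hp)).mpr hpj
  obtain ⟨m, hm⟩ := hpj
  have hπm : algebraMap A K π ^ m ≠ 0 := zpow_ne_zero _ hπK
  have hdiv : η / (algebraMap A K π ^ m) ^ p = algebraMap A K u := by
    rw [hju, hm, ← zpow_natCast (algebraMap A K π ^ m) p, ← zpow_mul, mul_comm m (p : ℤ)]
    exact mul_div_cancel_right₀ _ (zpow_ne_zero _ hπK)
  by_cases hr : ∀ r : A, residue A (u : A) ≠ residue A r ^ p
  · exact ⟨algebraMap A K π ^ m, hπm, Or.inr (Or.inl ⟨u, hr, hdiv⟩)⟩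
  push Not at hr
  obtain ⟨d, hd⟩ := hr
  have hdu : IsUnit d := by
    rw [← residue_ne_zero_iff_isUnit]
    intro h0
    rw [h0, zero_pow hp.ne_zero] at hd
    exact (residue_ne_zero_iff_isUnit (u : A)).mpr u.isUnit hd
  have hdK : algebraMap A K d ≠ 0 :=
    (map_ne_zero_iff _ (IsFractionRing.injective A K)).mpr hdu.ne_zero
  have hvd : V.valuation (algebraMap A K d) = 1 := by
    have := valuation_algebraMap_unit (L := K) V hV hdu.unit
    rwa [IsUnit.unit_spec] at this
  set ξ₁ : K := (algebraMap A K u / algebraMap A K d ^ p - 1) / algebraMap A K w ^ p with hξ₁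
  have hη₁ : algebraMap A K u / algebraMap A K d ^ p = 1 + algebraMap A K w ^ p * ξ₁ := by
    rw [hξ₁, mul_div_cancel₀ _ (pow_ne_zero _ hwK)]
    ring
  have hb : V.valuation (algebraMap A K w) ^ p * V.valuation ξ₁ < 1 := by
    have e : algebraMap A K w ^ p * ξ₁ = algebraMap A K (u - d ^ p) / algebraMap A K d ^ p := by
      rw [hξ₁, mul_div_cancel₀ _ (pow_ne_zero _ hwK), map_sub, map_pow, sub_div,
        div_self (pow_ne_zero _ hdK)]
    have hmem : (u : A) - d ^ p ∈ maximalIdeal A := by
      rw [← residue_eq_zero_iff, map_sub, map_pow, hd, sub_self]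
    rw [← map_pow, ← map_mul, e, map_div₀, map_pow V.valuation, hvd, one_pow, div_one]
    exact hV.2 _ hmem
  have hN : ∃ N : ℕ, V.valuation ξ₁ ≤ V.valuation (algebraMap A K π) ^ (-(N : ℤ)) := by
    by_cases h0 : ξ₁ = 0
    · exact ⟨0, by rw [h0, map_zero]; exact zero_le⟩
    obtain ⟨l, hl⟩ := kval_zpow V hV hirr h0
    refine ⟨l.natAbs, ?_⟩
    rw [hl, zpow_le_zpow_iff_right_of_lt_one₀ hπ0 hπ1]
    omega
  obtain ⟨N, hN⟩ := hN
  obtain ⟨s', ξ', hs', hid, hnf⟩ := exists_nf_aux p hp w hw0 P hP π hπ V hV N ξ₁ hN hb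
  refine ⟨algebraMap A K π ^ m * algebraMap A K d * s', mul_ne_zero (mul_ne_zero hπm hdK) hs',
    Or.inr (Or.inr ⟨ξ', ?_, hnf⟩)⟩
  rw [mul_pow, mul_pow, ← div_div, ← div_div, hdiv, hη₁, hid]

end NF2

section Transform

variable (p : ℕ) (hp : p.Prime) (A K L : Type u) [CommRing A] [IsDomain A]
  [IsDiscreteValuationRing A] [Field K] [Algebra A K] [IsFractionRing A K] [Field L] [Algebra K L]
  [Algebra A L] [IsScalarTower A K L]
  (w : A) (hw0 : w ≠ 0) (P : A[X]) (hP : C (w ^ p) * P = (1 + C w * X) ^ p - 1)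
  (ξ : K) (z : L) (hz : aeval z P = algebraMap K L ξ) (hgen : K⟮z⟯ = ⊤)

include hp hP hz hw0 in
theorem z_mem_range_of_eta_zero (hη : 1 + algebraMap A K w ^ p * ξ = 0) :
    z ∈ Set.range (algebraMap K L) := by
  have hwL : algebraMap A L w ≠ 0 := by
    rw [IsScalarTower.algebraMap_apply A K L]
    exact (_root_.map_ne_zero _).mpr ((map_ne_zero_iff _ (IsFractionRing.injective A K)).mpr hw0)
  have ht := t_pow p A K L w P hP ξ z hz
  rw [hη, map_zero] at ht
  have ht0 : 1 + algebraMap A L w * z = 0 := pow_eq_zero_iff hp.ne_zero |>.mp ht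
  refine ⟨-1 / algebraMap A K w, ?_⟩
  rw [map_div₀, map_neg, map_one, ← IsScalarTower.algebraMap_apply, div_eq_iff hwL]
  linear_combination -ht0

include hP hz in
theorem t'_pow (s : K) : ((1 + algebraMap A L w * z) / algebraMap K L s) ^ p =
    algebraMap K L ((1 + algebraMap A K w ^ p * ξ) / s ^ p) := by
  rw [div_pow, t_pow p A K L w P hP ξ z hz, map_div₀, map_pow]

include hw0 hgen in
theorem adjoin_t' (s : K) (hs : s ≠ 0) :
    K⟮(1 + algebraMap A L w * z) / algebraMap K L s⟯ = ⊤ := by
  have hsL : algebraMap K L s ≠ 0 := (_root_.map_ne_zero _).mpr hs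
  rw [eq_top_iff, ← adjoin_t A K L w hw0 z hgen, adjoin_simple_le_iff]
  have h1 : (1 + algebraMap A L w * z) / algebraMap K L s ∈
      K⟮(1 + algebraMap A L w * z) / algebraMap K L s⟯ := mem_adjoin_simple_self K _
  have h2 : algebraMap K L s ∈ K⟮(1 + algebraMap A L w * z) / algebraMap K L s⟯ :=
    IntermediateField.algebraMap_mem _ _
  have h3 := mul_mem h1 h2
  rwa [div_mul_cancel₀ _ hsL] at h3

include hw0 hP hz hgen in
/-- the transformed datum. -/
theorem transform (s : K) (hs : s ≠ 0) (ξ' : K)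
    (hξ' : (1 + algebraMap A K w ^ p * ξ) / s ^ p = 1 + algebraMap A K w ^ p * ξ') :
    aeval (((1 + algebraMap A L w * z) / algebraMap K L s - 1) / algebraMap A L w) P =
        algebraMap K L ξ' ∧
      K⟮((1 + algebraMap A L w * z) / algebraMap K L s - 1) / algebraMap A L w⟯ = ⊤ := by
  have hwL : algebraMap A L w ≠ 0 := by
    rw [IsScalarTower.algebraMap_apply A K L]
    exact (_root_.map_ne_zero _).mpr ((map_ne_zero_iff _ (IsFractionRing.injective A K)).mpr hw0)
  set t' : L := (1 + algebraMap A L w * z) / algebraMap K L s with ht'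
  set z' : L := (t' - 1) / algebraMap A L w with hz'
  have h1 : 1 + algebraMap A L w * z' = t' := by
    rw [hz', mul_div_cancel₀ _ hwL]
    ring
  constructor
  · have h2 := aeval_P w P hP z'
    rw [h1, ht', t'_pow p A K L w P hP ξ z hz s, hξ', map_add, map_one, map_mul, map_pow,
      ← IsScalarTower.algebraMap_apply, add_sub_cancel_left] at h2
    exact mul_left_cancel₀ (pow_ne_zero p hwL) h2
  · rw [eq_top_iff, ← adjoin_t' A K L w hw0 z hgen s hs, ← ht', adjoin_simple_le_iff, ← h1]
    have h3 : z' ∈ K⟮z'⟯ := mem_adjoin_simple_self K _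
    have h4 : algebraMap A L w ∈ K⟮z'⟯ := by
      rw [IsScalarTower.algebraMap_apply A K L]
      exact IntermediateField.algebraMap_mem _ _
    exact add_mem (one_mem _) (mul_mem h4 h3)

end Transform

section Main

theorem one_sub_mem_maximalIdeal {p : ℕ} (hp : p.Prime) {A : Type u} [CommRing A] [IsLocalRing A]
    [CharP (ResidueField A) p] {ζ : A} (hζ : ζ ^ p = 1) : 1 - ζ ∈ maximalIdeal A := by
  haveI : Fact p.Prime := ⟨hp⟩
  rw [← residue_eq_zero_iff, map_sub, map_one]
  have h : (1 - residue A ζ) ^ p = 0 := by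
    rw [sub_pow_char, one_pow, ← map_pow, hζ, map_one, sub_self]
  exact pow_eq_zero_iff hp.ne_zero |>.mp h

set_option maxHeartbeats 1600000 in
theorem main (p : ℕ) (hp : p.Prime) (A K L : Type u) [CommRing A] [IsDomain A]
    [IsDiscreteValuationRing A] [Field K] [Algebra A K] [IsFractionRing A K] [Field L] [Algebra K L]
    [Algebra A L] [IsScalarTower A K L] [CharZero K] [CharP (IsLocalRing.ResidueField A) p]
    (ζ : A) (hζ : aeval ζ (cyclotomic p ℤ) = 0) (P : A[X])
    (hP : C ((1 - ζ) ^ p) * P = (1 + C (1 - ζ) * X) ^ p - 1) (π : A)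
    (hπ : IsLocalRing.maximalIdeal A = Ideal.span {π})
    (ξ : K) (z : L) (hz : aeval z P = algebraMap K L ξ)
    (hgen : IntermediateField.adjoin K {z} = ⊤) :
    IsGalois K L ∧
      (Module.finrank K L = 1 ∨
        (EtRam.IsUnramifiedExt A (algebraMap A L) ∧ Module.finrank K L = p) ∨
        (EtRam.IsTotallyRamified A (algebraMap A L) ∧ Module.finrank K L = p) ∨
        Case4 A L (algebraMap A L) p) ∧
      ((∃ a : A, algebraMap A K a = ξ) → Module.finrank K L = 1 ∨
        (EtRam.IsUnramifiedExt A (algebraMap A L) ∧ Module.finrank K L = p)) ∧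
      (∀ (n : ℕ) (a : Aˣ), 0 < n → ¬ p ∣ n → ξ * algebraMap A K π ^ n = algebraMap A K a →
        (EtRam.IsTotallyRamified A (algebraMap A L) ∧ Module.finrank K L = p)) ∧
      (∀ (n : ℕ) (a : A), 0 < n → p ∣ n →
        (∀ r : A, IsLocalRing.residue A a ≠ IsLocalRing.residue A r ^ p) →
          ξ * algebraMap A K π ^ n = algebraMap A K a → Case4 A L (algebraMap A L) p) := by
  classical
  have hirr : Irreducible π := (IsDiscreteValuationRing.irreducible_iff_uniformizer π).mpr hπ
  have hpK : (p : K) ≠ 0 := Nat.cast_ne_zero.mpr hp.ne_zero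
  have hpA : (p : A) ≠ 0 := by
    intro h
    apply hpK
    rw [← map_natCast (algebraMap A K), h, map_zero]
  have hζp := isPrimitiveRoot_of_cyclotomic hp hpA ζ hζ
  have hζK : IsPrimitiveRoot (algebraMap A K ζ) p :=
    hζp.map_of_injective (IsFractionRing.injective A K)
  have hw0 : (1 - ζ) ≠ 0 := sub_ne_zero.mpr (hζp.ne_one hp.one_lt).symm
  have hwm : (1 - ζ) ∈ maximalIdeal A := one_sub_mem_maximalIdeal hp hζp.pow_eq_one
  obtain ⟨u, hu⟩ := exists_unit_natCast_eq hp hζp
  have hfm := field_main p hp A K L (1 - ζ) hw0 P hP ξ z hz hgen hpK _ hζK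
  haveI := hfm.2.1
  have hfin := finrank_le' p hp A K L (1 - ζ) hw0 P hP ξ z hz hgen hpK _ hζK
  refine ⟨hfm.1, ?_,
    fun ⟨a, ha⟩ => caseA' p hp A K L (1 - ζ) hw0 P hP ξ z hz hgen hpK _ hζK hwm u hu a ha,
    fun n a hn hpn h => caseB' p hp A K L (1 - ζ) hw0 P hP ξ z hz hgen hpK _ hζK π hπ n a hn hpn h,
    fun n a hn hpn hr h =>
      caseC' p hp A K L (1 - ζ) hw0 P hP ξ z hz hgen hpK _ hζK π hπ n a hn hpn hr h⟩
  by_cases hη : 1 + algebraMap A K (1 - ζ) ^ p * ξ = 0
  · left
    exact (of_mem_range z (z_mem_range_of_eta_zero p hp A K L (1 - ζ) hw0 P hP ξ z hz hη) hgen).2.2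
  obtain ⟨s, hs0, hnf⟩ := exists_nf p hp (1 - ζ) hw0 P hP π hπ _ hη
  have ht' := t'_pow p A K L (1 - ζ) P hP ξ z hz s
  rcases hnf with ⟨j, u', hcop, hηj⟩ | ⟨a, ha, hηa⟩ | ⟨ξ', hηξ, hnfξ⟩
  · right; right; left
    refine totRam_of_val (K := K) p hirr hfin
      ((1 + algebraMap A L (1 - ζ) * z) / algebraMap K L s) j hcop ?_
    intro V hV
    rw [← map_pow, ht', hηj, map_mul, map_zpow₀, ← IsScalarTower.algebraMap_apply,
      ← IsScalarTower.algebraMap_apply, map_mul, map_zpow₀, valuation_algebraMap_unit V hV u',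
      one_mul]
  · right; right; right
    refine case4_of_val (K := K) p hp π hπ hfin
      ((1 + algebraMap A L (1 - ζ) * z) / algebraMap K L s) a ha ?_
    intro V hV
    have e : ((1 + algebraMap A L (1 - ζ) * z) / algebraMap K L s) ^ p - algebraMap A L a = 0 := by
      rw [ht', hηa, ← IsScalarTower.algebraMap_apply, sub_self]
    refine ⟨?_, by rw [e, map_zero]; exact zero_lt_one⟩
    apply gen_mem_of_dominates _ V hV
    refine ⟨X ^ p - C a, monic_X_pow_sub_C _ hp.ne_zero, ?_⟩
    rw [eval₂_sub, eval₂_pow, eval₂_X, eval₂_C]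
    exact e
  · obtain ⟨hz', hgen'⟩ := transform p A K L (1 - ζ) hw0 P hP ξ z hz hgen s hs0 ξ' hηξ
    rcases hnfξ with ⟨a, ha⟩ | ⟨n, a, hn, hpn, h⟩ | ⟨n, a, hn, hpn, hr, h⟩
    · rcases caseA' p hp A K L (1 - ζ) hw0 P hP ξ' _ hz' hgen' hpK _ hζK hwm u hu a ha with h1 | h2
      · exact Or.inl h1
      · exact Or.inr (Or.inl h2)
    · exact Or.inr (Or.inr (Or.inl
        (caseB' p hp A K L (1 - ζ) hw0 P hP ξ' _ hz' hgen' hpK _ hζK π hπ n a hn hpn h)))
    · exact Or.inr (Or.inr (Or.inr
        (caseC' p hp A K L (1 - ζ) hw0 P hP ξ' _ hz' hgen' hpK _ hζK π hπ n a hn hpn hr h)))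

end Main

end Groth.Agent.Lib.Helper14KummerRam
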