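import Mathlib
import Groth.Prelude.Def_SGA1
import Groth.Agent.Lib.Helper5RLR
import Groth.Agent.Lib.Helper5IntDim

set_option autoImplicit false
set_option linter.style.haveILetI false
set_option linter.unusedSectionVars false
universe u

/-! Helper14: the Kummer algebra `A[T_i]/(T_i^{n_i} - f_i)` over a regular local ring (S2921). -/

namespace Groth.Agent.Lib.Helper14KummerReg

open IsLocalRing MvPolynomial SGA1 Groth.Agent.Lib.Helper5

section Basic

variable (A : Type u) [CommRing A] {r : ℕ} (f : Fin r → A) (n : Fin r → ℕ)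

/-- the defining ideal. -/
noncomputable abbrev J : Ideal (MvPolynomial (Fin r) A) :=
  Ideal.span (Set.range fun i => (X i : MvPolynomial (Fin r) A) ^ n i - C (f i))

/-- the class of `T_i`. -/
noncomputable def T (i : Fin r) : kummerAlg A f n := Ideal.Quotient.mk _ (X i)

theorem algebraMap_eq (a : A) : algebraMap A (kummerAlg A f n) a = Ideal.Quotient.mk _ (C a) := rfl

theorem T_pow (i : Fin r) : T A f n i ^ n i = algebraMap A (kummerAlg A f n) (f i) := by
  rw [algebraMap_eq, T, ← map_pow, Ideal.Quotient.eq]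
  exact Ideal.subset_span ⟨i, rfl⟩

theorem adjoin_T : Algebra.adjoin A (Set.range (T A f n)) = ⊤ := by
  rw [eq_top_iff]
  rintro x -
  obtain ⟨P, rfl⟩ := Ideal.Quotient.mk_surjective x
  induction P using MvPolynomial.induction_on with
  | C a => exact Subalgebra.algebraMap_mem _ a
  | add p q hp hq => rw [map_add]; exact Subalgebra.add_mem _ hp hq
  | mul_X p i hp =>
    rw [map_mul]
    exact Subalgebra.mul_mem _ hp (Algebra.subset_adjoin ⟨i, rfl⟩)

theorem isIntegral_T (hn : ∀ i, 1 ≤ n i) (i : Fin r) : IsIntegral A (T A f n i) := by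
  refine ⟨Polynomial.X ^ n i - Polynomial.C (f i),
    Polynomial.monic_X_pow_sub_C _ (by have := hn i; omega), ?_⟩
  rw [Polynomial.eval₂_sub, Polynomial.eval₂_pow, Polynomial.eval₂_X, Polynomial.eval₂_C, T_pow,
    sub_self]

theorem isIntegral (hn : ∀ i, 1 ≤ n i) : Algebra.IsIntegral A (kummerAlg A f n) := by
  constructor
  intro x
  have hx : x ∈ Algebra.adjoin A (Set.range (T A f n)) := by rw [adjoin_T]; trivial
  have hle : Algebra.adjoin A (Set.range (T A f n)) ≤ integralClosure A (kummerAlg A f n) := by
    apply Algebra.adjoin_le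
    rintro _ ⟨i, rfl⟩
    exact isIntegral_T A f n hn i
  exact hle hx

theorem injective [IsDomain A] (hn : ∀ i, 1 ≤ n i) :
    Function.Injective (algebraMap A (kummerAlg A f n)) := by
  classical
  let K := FractionRing A
  let Ω := AlgebraicClosure K
  have hex : ∀ i, ∃ z : Ω, z ^ n i = algebraMap A Ω (f i) := fun i =>
    IsAlgClosed.exists_pow_nat_eq _ (by have := hn i; omega)
  choose t ht using hex
  let ψ₀ : MvPolynomial (Fin r) A →ₐ[A] Ω := MvPolynomial.aeval t
  have hJ : ∀ x ∈ J A f n, ψ₀ x = 0 := by
    intro x hx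
    have hle : J A f n ≤ RingHom.ker ψ₀.toRingHom := by
      apply Ideal.span_le.mpr
      rintro _ ⟨i, rfl⟩
      change ψ₀ _ = 0
      rw [map_sub, map_pow, aeval_X, ht]
      change _ - (MvPolynomial.aeval t) (C (f i)) = 0
      rw [MvPolynomial.aeval_C, sub_self]
    exact hle hx
  let ψ : kummerAlg A f n →ₐ[A] Ω := Ideal.Quotient.liftₐ (J A f n) ψ₀ hJ
  have hinjΩ : Function.Injective (algebraMap A Ω) := by
    rw [IsScalarTower.algebraMap_eq A K Ω]
    exact (algebraMap K Ω).injective.comp (IsFractionRing.injective A K)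
  intro a b hab
  apply hinjΩ
  rw [← ψ.commutes a, ← ψ.commutes b, hab]

end Basic

section Quot

variable (A : Type u) [CommRing A] {r : ℕ} (f : Fin r → A) (n : Fin r → ℕ)

/-- the ideal `(f_1, …, f_r)` of `A`. -/
abbrev If : Ideal A := Ideal.span (Set.range f)

/-- the map `A' → A/(f)` killing the `T_i`. -/
noncomputable def q (hn : ∀ i, 1 ≤ n i) : kummerAlg A f n →+* A ⧸ If A f :=
  Ideal.Quotient.lift _ ((Ideal.Quotient.mk (If A f)).comp constantCoeff) (by
    intro x hx
    have hle : J A f n ≤ RingHom.ker ((Ideal.Quotient.mk (If A f)).comp constantCoeff) := by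
      apply Ideal.span_le.mpr
      rintro _ ⟨i, rfl⟩
      change ((Ideal.Quotient.mk (If A f)).comp constantCoeff) _ = 0
      rw [RingHom.comp_apply, map_sub, map_pow, constantCoeff_X, constantCoeff_C,
        zero_pow (by have := hn i; omega), zero_sub, map_neg, neg_eq_zero,
        Ideal.Quotient.eq_zero_iff_mem]
      exact Ideal.subset_span ⟨i, rfl⟩
    exact hle hx)

theorem q_mk (hn : ∀ i, 1 ≤ n i) (P : MvPolynomial (Fin r) A) :
    q A f n hn (Ideal.Quotient.mk _ P) = Ideal.Quotient.mk _ (constantCoeff P) := rfl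

theorem q_algebraMap (hn : ∀ i, 1 ≤ n i) (a : A) :
    q A f n hn (algebraMap A (kummerAlg A f n) a) = Ideal.Quotient.mk _ a := by
  change q A f n hn (Ideal.Quotient.mk _ (C a)) = _
  rw [q_mk, constantCoeff_C]

theorem q_surjective (hn : ∀ i, 1 ≤ n i) : Function.Surjective (q A f n hn) := by
  intro y
  obtain ⟨a, rfl⟩ := Ideal.Quotient.mk_surjective y
  exact ⟨algebraMap A _ a, q_algebraMap A f n hn a⟩

theorem ker_q (hn : ∀ i, 1 ≤ n i) :
    RingHom.ker (q A f n hn) = Ideal.span (Set.range (T A f n)) := by
  apply le_antisymm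
  · intro x hx
    obtain ⟨P, rfl⟩ := Ideal.Quotient.mk_surjective x
    rw [RingHom.mem_ker, q_mk, Ideal.Quotient.eq_zero_iff_mem] at hx
    have h1 : P - C (constantCoeff P) ∈ Ideal.span (X '' (Set.univ : Set (Fin r)) :
        Set (MvPolynomial (Fin r) A)) := by
      rw [mem_ideal_span_X_image]
      intro m hm
      have hm0 : m ≠ 0 := by
        rintro rfl
        rw [mem_support_iff, coeff_sub, coeff_C, if_pos rfl, constantCoeff_eq, sub_self] at hm
        exact hm rfl
      obtain ⟨i, hi⟩ : ∃ i, m i ≠ 0 := by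
        by_contra hcon
        push Not at hcon
        exact hm0 (Finsupp.ext hcon)
      exact ⟨i, trivial, hi⟩
    have h2 : Ideal.Quotient.mk (J A f n) (P - C (constantCoeff P)) ∈
        Ideal.span (Set.range (T A f n)) := by
      have := Ideal.mem_map_of_mem (Ideal.Quotient.mk (J A f n)) h1
      rw [Ideal.map_span] at this
      refine Ideal.span_mono ?_ this
      rintro _ ⟨_, ⟨i, -, rfl⟩, rfl⟩
      exact ⟨i, rfl⟩
    have h3 : Ideal.Quotient.mk (J A f n) (C (constantCoeff P)) ∈
        Ideal.span (Set.range (T A f n)) := by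
      have hmap : (If A f).map (algebraMap A (kummerAlg A f n)) ≤
          Ideal.span (Set.range (T A f n)) := by
        rw [Ideal.map_span, Ideal.span_le]
        rintro _ ⟨_, ⟨i, rfl⟩, rfl⟩
        have hTi : algebraMap A (kummerAlg A f n) (f i) = T A f n i ^ n i := by
          change Ideal.Quotient.mk _ (C (f i)) = _
          rw [T, ← map_pow, eq_comm, Ideal.Quotient.eq]
          exact Ideal.subset_span ⟨i, rfl⟩
        rw [hTi]
        have hni : n i = (n i - 1) + 1 := by have := hn i; omega
        rw [hni, pow_succ]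
        exact Ideal.mul_mem_left _ _ (Ideal.subset_span ⟨i, rfl⟩)
      exact hmap (Ideal.mem_map_of_mem _ hx)
    have h4 : Ideal.Quotient.mk (J A f n) P = Ideal.Quotient.mk (J A f n) (P - C (constantCoeff P))
        + Ideal.Quotient.mk (J A f n) (C (constantCoeff P)) := by
      rw [← map_add, sub_add_cancel]
    rw [h4]
    exact Ideal.add_mem _ h2 h3
  · rw [Ideal.span_le]
    rintro _ ⟨i, rfl⟩
    change q A f n hn (T A f n i) = 0
    rw [T, q_mk, constantCoeff_X, map_zero]

end Quot

section Local

variable (A : Type u) [CommRing A] [IsLocalRing A] {r : ℕ} (f : Fin r → A) (n : Fin r → ℕ)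
  (hm : ∀ i, f i ∈ maximalIdeal A) (hn : ∀ i, 1 ≤ n i)

include hm in
theorem If_ne_top : If A f ≠ ⊤ := by
  intro h
  have hle : If A f ≤ maximalIdeal A := by
    rw [Ideal.span_le]
    rintro _ ⟨i, rfl⟩
    exact hm i
  exact (maximalIdeal.isMaximal A).ne_top (top_le_iff.mp (h ▸ hle))

include hm hn in
theorem T_mem_of_isMaximal (N : Ideal (kummerAlg A f n)) [N.IsMaximal] (i : Fin r) :
    T A f n i ∈ N := by
  haveI := isIntegral A f n hn
  haveI : (N.comap (algebraMap A (kummerAlg A f n))).IsMaximal :=
    Ideal.isMaximal_comap_of_isIntegral_of_isMaximal N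
  have h1 : N.comap (algebraMap A (kummerAlg A f n)) = maximalIdeal A :=
    IsLocalRing.eq_maximalIdeal inferInstance
  have h2 : algebraMap A (kummerAlg A f n) (f i) ∈ N := by
    rw [← Ideal.mem_comap, h1]
    exact hm i
  rw [← T_pow] at h2
  exact Ideal.IsPrime.mem_of_pow_mem inferInstance _ h2

include hm in
theorem isUnit_of_isUnit_q (x : kummerAlg A f n) (hx : IsUnit (q A f n hn x)) : IsUnit x := by
  by_contra hnu
  obtain ⟨N, hN, hxN⟩ := exists_max_ideal_of_mem_nonunits hnu
  haveI := hN
  have hker : RingHom.ker (q A f n hn) ≤ N := by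
    rw [ker_q, Ideal.span_le]
    rintro _ ⟨i, rfl⟩
    exact T_mem_of_isMaximal A f n hm hn N i
  have hmap : N.map (q A f n hn) ≠ ⊤ := by
    intro htop
    have h3 := Ideal.comap_map_of_surjective (q A f n hn) (q_surjective A f n hn) N
    rw [htop, Ideal.comap_top] at h3
    have h4 : N ⊔ Ideal.comap (q A f n hn) ⊥ = N := sup_eq_left.mpr hker
    rw [h4] at h3
    exact hN.ne_top h3.symm
  apply hmap
  exact Ideal.eq_top_of_isUnit_mem _ (Ideal.mem_map_of_mem _ hxN) hx

include hm hn in
theorem isLocalRing : IsLocalRing (kummerAlg A f n) := by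
  haveI : IsLocalRing (A ⧸ If A f) := isLocalRing_quotient (If_ne_top A f hm)
  haveI : Nontrivial (kummerAlg A f n) := by
    refine ⟨⟨0, 1, fun h => ?_⟩⟩
    have := congrArg (q A f n hn) h
    rw [map_zero, map_one] at this
    exact zero_ne_one this
  apply IsLocalRing.of_nonunits_add
  intro a b ha hb
  have ha' : q A f n hn a ∈ nonunits (A ⧸ If A f) := fun h =>
    ha (isUnit_of_isUnit_q A f n hm hn a h)
  have hb' : q A f n hn b ∈ nonunits (A ⧸ If A f) := fun h =>
    hb (isUnit_of_isUnit_q A f n hm hn b h)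
  have hab := IsLocalRing.nonunits_add ha' hb'
  rw [← map_add] at hab
  intro h
  exact hab (h.map _)

end Local

section Reg

variable (A : Type u) [CommRing A] [IsRegularLocalRing A] {r : ℕ} (f : Fin r → A) (n : Fin r → ℕ)
  (hm : ∀ i, f i ∈ maximalIdeal A) (hn : ∀ i, 1 ≤ n i)

include hn in
theorem isRegularLocalRing
    (hf : LinearIndependent (ResidueField A) (fun i => (maximalIdeal A).toCotangent ⟨f i, hm i⟩)) :
    IsRegularLocalRing (kummerAlg A f n) := by
  haveI := isDomain_of_isRegularLocalRing A
  haveI hloc : IsLocalRing (kummerAlg A f n) := isLocalRing A f n hm hn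
  haveI := isIntegral A f n hn
  have hinj := injective A f n hn
  have hdimA' : ringKrullDim (kummerAlg A f n) = ringKrullDim A :=
    ringKrullDim_eq_of_isIntegral_of_injective A _ hinj
  haveI : IsLocalRing (A ⧸ If A f) := isLocalRing_quotient (If_ne_top A f hm)
  obtain ⟨hregq, hdimq⟩ := isRegularLocalRing_quotient_of_linearIndependent'
    (fun i => (⟨f i, hm i⟩ : maximalIdeal A)) hf (If A f) rfl
  have hTm : ∀ i, T A f n i ∈ maximalIdeal (kummerAlg A f n) := fun i =>
    T_mem_of_isMaximal A f n hm hn _ i
  let e : (kummerAlg A f n ⧸ Ideal.span (Set.range (T A f n))) ≃+* (A ⧸ If A f) :=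
    (Ideal.quotEquivOfEq (ker_q A f n hn).symm).trans
      (RingHom.quotientKerEquivOfSurjective (q_surjective A f n hn))
  haveI : IsRegularLocalRing (kummerAlg A f n ⧸ Ideal.span (Set.range (T A f n))) :=
    IsRegularLocalRing.of_ringEquiv e.symm
  have hdim : ringKrullDim (kummerAlg A f n ⧸ Ideal.span (Set.range (T A f n))) + r =
      ringKrullDim (kummerAlg A f n) := by
    rw [ringKrullDim_eq_of_ringEquiv e, hdimq, hdimA']
  exact (isRegularLocalRing_of_quotient_span_range'
    (fun i => (⟨T A f n i, hTm i⟩ : maximalIdeal (kummerAlg A f n))) _ rfl hdim).1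

end Reg

section Etale

variable (A : Type u) [CommRing A] {r : ℕ} (f : Fin r → A) (n : Fin r → ℕ)

/-- the naive pre-submersive presentation of the Kummer algebra. -/
noncomputable def P₀ : Algebra.PreSubmersivePresentation A (kummerAlg A f n) (Fin r) (Fin r) :=
  Algebra.PreSubmersivePresentation.naive
    (v := fun i => (X i : MvPolynomial (Fin r) A) ^ n i - C (f i)) id Function.injective_id

theorem P₀_jacobiMatrix :
    (P₀ A f n).jacobiMatrix = Matrix.diagonal
      (fun j => (C (n j : A) : MvPolynomial (Fin r) A) * X j ^ (n j - 1)) := by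
  ext i j
  unfold P₀
  rw [Algebra.PreSubmersivePresentation.jacobiMatrix_naive, map_sub, pderiv_C, sub_zero,
    Derivation.leibniz_pow, id]
  by_cases hij : i = j
  · subst hij
    rw [pderiv_X_self, Matrix.diagonal_apply_eq, smul_eq_mul, mul_one, nsmul_eq_mul]
    rw [← map_natCast (C : A →+* MvPolynomial (Fin r) A)]
  · rw [pderiv_X_of_ne (Ne.symm hij), Matrix.diagonal_apply_ne _ hij, smul_zero, smul_zero]

theorem P₀_jacobian :
    (P₀ A f n).jacobian = ∏ j, (algebraMap A (kummerAlg A f n) (n j : A) * T A f n j ^ (n j - 1)) := by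
  rw [Algebra.PreSubmersivePresentation.jacobian_eq_jacobiMatrix_det, P₀_jacobiMatrix,
    Matrix.det_diagonal, map_prod]
  refine Finset.prod_congr rfl fun j _ => ?_
  rw [map_mul, map_pow]
  rfl

end Etale

section Etale2

variable (A : Type u) [CommRing A] {r : ℕ} (f : Fin r → A) (n : Fin r → ℕ)

theorem etale_away (hu : ∀ i, IsUnit (n i : A)) (hn : ∀ i, 1 ≤ n i) :
    Algebra.Etale A (Localization.Away (algebraMap A (kummerAlg A f n) (∏ i, f i))) := by
  classical
  set F' := algebraMap A (kummerAlg A f n) (∏ i, f i) with hF'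
  let Q := Algebra.PreSubmersivePresentation.localizationAway (Localization.Away F') F'
  let PQ := Q.comp (P₀ A f n)
  have hFu : IsUnit (algebraMap (kummerAlg A f n) (Localization.Away F') F') :=
    IsLocalization.Away.algebraMap_isUnit F'
  have hTu : ∀ j, IsUnit (algebraMap (kummerAlg A f n) (Localization.Away F') (T A f n j)) := by
    intro j
    have h1 : IsUnit (algebraMap (kummerAlg A f n) (Localization.Away F')
        (algebraMap A (kummerAlg A f n) (f j))) := by
      have hdvd : f j ∣ ∏ i, f i := Finset.dvd_prod_of_mem f (Finset.mem_univ j)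
      have hdvd' := map_dvd (algebraMap (kummerAlg A f n) (Localization.Away F'))
        (map_dvd (algebraMap A (kummerAlg A f n)) hdvd)
      exact isUnit_of_dvd_unit hdvd' hFu
    rw [← T_pow, map_pow] at h1
    exact (isUnit_pow_iff (by have := hn j; omega)).mp h1
  have hjac : IsUnit PQ.jacobian := by
    rw [Algebra.PreSubmersivePresentation.comp_jacobian_eq_jacobian_smul_jacobian,
      Algebra.PreSubmersivePresentation.localizationAway_jacobian, Algebra.smul_def, P₀_jacobian]
    refine IsUnit.mul ?_ hFu
    rw [map_prod]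
    rw [IsUnit.prod_iff]
    intro j _
    rw [map_mul, map_pow]
    exact IsUnit.mul (((hu j).map _).map _) ((hTu j).pow _)
  let SP : Algebra.SubmersivePresentation A (Localization.Away F') (Unit ⊕ Fin r) (Unit ⊕ Fin r) :=
    ⟨PQ, hjac⟩
  haveI : Algebra.IsStandardSmoothOfRelativeDimension 0 A (Localization.Away F') :=
    SP.isStandardSmoothOfRelativeDimension (by simp [Algebra.Presentation.dimension])
  infer_instance

end Etale2

section Etale3

variable (A : Type u) [CommRing A] {r : ℕ} (f : Fin r → A) (n : Fin r → ℕ)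

theorem etale_away_away (hu : ∀ i, IsUnit (n i : A)) (hn : ∀ i, 1 ≤ n i) :
    letI := (Localization.awayMap (algebraMap A (kummerAlg A f n)) (∏ i, f i)).toAlgebra
    Algebra.Etale (Localization.Away (∏ i, f i))
      (Localization.Away (algebraMap A (kummerAlg A f n) (∏ i, f i))) := by
  letI alg := (Localization.awayMap (algebraMap A (kummerAlg A f n)) (∏ i, f i)).toAlgebra
  haveI : IsScalarTower A (Localization.Away (∏ i, f i))
      (Localization.Away (algebraMap A (kummerAlg A f n) (∏ i, f i))) := by
    apply IsScalarTower.of_algebraMap_eq'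
    change _ = (Localization.awayMap (algebraMap A (kummerAlg A f n)) (∏ i, f i)).comp _
    rw [IsScalarTower.algebraMap_eq A (kummerAlg A f n)
      (Localization.Away (algebraMap A (kummerAlg A f n) (∏ i, f i)))]
    unfold Localization.awayMap IsLocalization.Away.map
    rw [IsLocalization.map_comp]
  haveI := etale_away A f n hu hn
  haveI : Algebra.FormallyEtale (Localization.Away (∏ i, f i))
      (Localization.Away (algebraMap A (kummerAlg A f n) (∏ i, f i))) :=
    Algebra.FormallyEtale.localization_base (R := A) (Submonoid.powers (∏ i, f i))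
  haveI : Algebra.FinitePresentation A (Localization.Away (∏ i, f i)) :=
    IsLocalization.Away.finitePresentation (∏ i, f i)
  haveI : Algebra.FiniteType A (Localization.Away (∏ i, f i)) := inferInstance
  haveI : Algebra.FinitePresentation (Localization.Away (∏ i, f i))
      (Localization.Away (algebraMap A (kummerAlg A f n) (∏ i, f i))) :=
    Algebra.FinitePresentation.of_restrict_scalars_finitePresentation A _ _
  exact {}

end Etale3

end Groth.Agent.Lib.Helper14KummerReg
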