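import Mathlib
import Groth.Prelude.Def_SGA1
import Groth.Agent.Lib.Helper14TameKummer
import Groth.Agent.Lib.Helper14EtRamB
import Groth.Agent.Lib.Helper14KummerReg

set_option autoImplicit false
set_option linter.style.haveILetI false
set_option linter.unusedSectionVars false
universe u

/-! Helper14: the Kummer algebra over a regular local ring is tame along each `f_i` (S2924). -/

namespace Groth.Agent.Lib.Helper14KummerTame

open IsLocalRing Polynomial

section DVR

theorem isDVR_localization_span_singleton (A : Type u) [CommRing A] [IsDomain A]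
    [IsNoetherianRing A] (π : A) (hπ0 : π ≠ 0) [hP : (Ideal.span {π}).IsPrime] :
    IsDiscreteValuationRing (Localization.AtPrime (Ideal.span {π})) := by
  haveI : IsDomain (Localization.AtPrime (Ideal.span {π})) :=
    IsLocalization.isDomain_localization (Ideal.primeCompl_le_nonZeroDivisors _)
  haveI : IsNoetherianRing (Localization.AtPrime (Ideal.span {π})) :=
    IsLocalization.isNoetherianRing (Ideal.span {π}).primeCompl _ inferInstance
  have hinj : Function.Injective (algebraMap A (Localization.AtPrime (Ideal.span {π}))) :=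
    IsLocalization.injective _ (Ideal.primeCompl_le_nonZeroDivisors (Ideal.span {π}))
  have hmax : maximalIdeal (Localization.AtPrime (Ideal.span {π})) =
      Ideal.span {algebraMap A (Localization.AtPrime (Ideal.span {π})) π} := by
    rw [← IsLocalization.AtPrime.map_eq_maximalIdeal (Ideal.span {π}), Ideal.map_span,
      Set.image_singleton]
  have hnf : ¬ IsField (Localization.AtPrime (Ideal.span {π})) := by
    rw [isField_iff_maximalIdeal_eq, hmax, Ideal.span_singleton_eq_bot]
    exact (map_ne_zero_iff _ hinj).mpr hπ0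
  refine ((IsDiscreteValuationRing.TFAE _ hnf).out 0 4).mpr ?_
  rw [hmax]
  exact ⟨⟨_, rfl⟩⟩

variable {O : Type u} [CommRing O] [IsDomain O] [IsDiscreteValuationRing O]

theorem ar_isDomain (π : O) (hπ : Irreducible π) (e : ℕ) (he : 0 < e) :
    IsDomain (AdjoinRoot (X ^ e - C π : O[X])) := by
  have hirr := Groth.Agent.Lib.Helper14TameKummer.irreducible_X_pow_sub_C π hπ e he
  exact AdjoinRoot.isDomain_of_prime hirr.prime

theorem ar_isDVR (π : O) (hπ : Irreducible π) (e : ℕ) (he : 0 < e)
    [IsDomain (AdjoinRoot (X ^ e - C π : O[X]))] :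
    IsDiscreteValuationRing (AdjoinRoot (X ^ e - C π : O[X])) := by
  have hmaxO : maximalIdeal O = Ideal.span {π} :=
    (IsDiscreteValuationRing.irreducible_iff_uniformizer π).mp hπ
  haveI hloc : IsLocalRing (AdjoinRoot (X ^ e - C π : O[X])) :=
    Groth.Agent.Lib.Helper14TameKummer.ar_isLocalRing π e he hmaxO
  have hmonic := Groth.Agent.Lib.Helper14TameKummer.ar_monic π e he
  haveI : Module.Finite O (AdjoinRoot (X ^ e - C π : O[X])) := hmonic.finite_adjoinRoot
  haveI : IsNoetherianRing (AdjoinRoot (X ^ e - C π : O[X])) :=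
    IsNoetherianRing.of_finite O _
  have hmax := Groth.Agent.Lib.Helper14TameKummer.ar_maximalIdeal π e he hmaxO
  have hroot0 : AdjoinRoot.root (X ^ e - C π : O[X]) ≠ 0 := by
    intro h0
    have h1 := Groth.Agent.Lib.Helper14TameKummer.ar_root_pow π e
    rw [h0, zero_pow he.ne'] at h1
    have hinj : Function.Injective (AdjoinRoot.of (X ^ e - C π : O[X])) :=
      AdjoinRoot.of.injective_of_degree_ne_zero (by
        rw [degree_X_pow_sub_C he]
        exact_mod_cast he.ne')
    exact hπ.ne_zero (hinj (by rw [← h1, map_zero]))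
  have hnf : ¬ IsField (AdjoinRoot (X ^ e - C π : O[X])) := by
    rw [isField_iff_maximalIdeal_eq, hmax, Ideal.span_singleton_eq_bot]
    exact hroot0
  refine ((IsDiscreteValuationRing.TFAE _ hnf).out 0 4).mpr ?_
  rw [hmax]
  exact ⟨⟨_, rfl⟩⟩

end DVR

section RSP

variable {A : Type u} [CommRing A] [IsLocalRing A] {r : ℕ} (f : Fin r → A)
  (hm : ∀ i, f i ∈ maximalIdeal A)
  (hf : LinearIndependent (ResidueField A) (fun i => (maximalIdeal A).toCotangent ⟨f i, hm i⟩))

include hf in
theorem f_ne_zero (i : Fin r) : f i ≠ 0 := by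
  intro h0
  have h1 := hf.ne_zero i
  apply h1
  have : (⟨f i, hm i⟩ : maximalIdeal A) = 0 := Subtype.ext h0
  rw [this, map_zero]

include hf in
theorem f_not_mem_span (i j : Fin r) (hij : j ≠ i) : f j ∉ Ideal.span {f i} := by
  intro hmem
  obtain ⟨a, ha⟩ := Ideal.mem_span_singleton'.mp hmem
  have h1 : (maximalIdeal A).toCotangent ⟨f j, hm j⟩ =
      a • (maximalIdeal A).toCotangent ⟨f i, hm i⟩ := by
    rw [← map_smul]
    congr 1
    exact Subtype.ext (by simp [← ha])
  have h2 : a • (maximalIdeal A).toCotangent ⟨f i, hm i⟩ =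
      (residue A a) • (maximalIdeal A).toCotangent ⟨f i, hm i⟩ := by
    rfl
  rw [h2] at h1
  have h3 := (Fintype.linearIndependent_iff.mp hf)
    (fun k => if k = j then 1 else if k = i then - residue A a else 0) ?_ j
  · simp at h3
  · rw [Finset.sum_eq_add_of_mem j i (Finset.mem_univ _) (Finset.mem_univ _) hij]
    · simp [hij.symm, h1]
    · intro c _ hc
      simp [hc.1, hc.2]

theorem isUnit_natCast_of_residue (n : ℕ) (hu : IsUnit ((n : ℕ) : ResidueField A)) :
    IsUnit (n : A) := by
  have : (n : ResidueField A) = residue A (n : A) := (map_natCast (residue A) n).symm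
  rw [this] at hu
  exact (isUnit_map_iff (residue A) _).mp hu

end RSP

section General

theorem formallyUnramified_adjoin_of_D_eq_zero {R S : Type u} [CommRing R] [CommRing S]
    [Algebra R S] (s : Set S)
    (h : ∀ x (hx : x ∈ s),
      KaehlerDifferential.D R (Algebra.adjoin R s) ⟨x, Algebra.subset_adjoin hx⟩ = 0) :
    Algebra.FormallyUnramified R (Algebra.adjoin R s) := by
  constructor
  have hD : ∀ (x : S) (hx : x ∈ Algebra.adjoin R s),
      KaehlerDifferential.D R (Algebra.adjoin R s) ⟨x, hx⟩ = 0 := by
    intro x hx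
    induction hx using Algebra.adjoin_induction with
    | mem x hx => exact h x hx
    | algebraMap r => exact Derivation.map_algebraMap _ r
    | add x y hx hy ihx ihy =>
      have : (⟨x + y, Subalgebra.add_mem _ hx hy⟩ : Algebra.adjoin R s) = ⟨x, hx⟩ + ⟨y, hy⟩ := rfl
      rw [this, map_add, ihx, ihy, add_zero]
    | mul x y hx hy ihx ihy =>
      have : (⟨x * y, Subalgebra.mul_mem _ hx hy⟩ : Algebra.adjoin R s) = ⟨x, hx⟩ * ⟨y, hy⟩ := rfl
      rw [this, Derivation.leibniz, ihx, ihy, smul_zero, smul_zero, add_zero]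
  have hspan := KaehlerDifferential.span_range_derivation R (Algebra.adjoin R s)
  have hbot : Submodule.span (Algebra.adjoin R s)
      (Set.range (KaehlerDifferential.D R (Algebra.adjoin R s))) = ⊥ := by
    rw [Submodule.span_eq_bot]
    rintro _ ⟨⟨x, hx⟩, rfl⟩
    exact hD x hx
  rw [hbot] at hspan
  exact (Submodule.subsingleton_iff (Algebra.adjoin R s)).mp
    (subsingleton_of_bot_eq_top hspan)

theorem D_eq_zero_of_pow {R S : Type u} [CommRing R] [CommRing S] [Algebra R S] (x : S) (n : ℕ)
    (c : R) (hx : x ^ n = algebraMap R S c) (hu : IsUnit ((n : S) * x ^ (n - 1))) :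
    KaehlerDifferential.D R S x = 0 := by
  have h1 := congrArg (KaehlerDifferential.D R S) hx
  rw [Derivation.map_algebraMap, Derivation.leibniz_pow] at h1
  obtain ⟨v, hv⟩ := hu
  have h2 : (v : S) • KaehlerDifferential.D R S x = 0 := by
    rw [hv, mul_smul, ← h1]
    simp [Nat.cast_smul_eq_nsmul]
  have h3 := congrArg (fun m => ((v⁻¹ : Sˣ) : S) • m) h2
  simpa [smul_smul] using h3

end General

section Abstract

variable {O : Type u} [CommRing O] [IsDomain O] [IsDiscreteValuationRing O]
  {L : Type u} [Field L] [Algebra O L]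

set_option maxHeartbeats 1600000 in
theorem tame_of_kummer (hinj : Function.Injective (algebraMap O L)) {r : ℕ} (c : Fin r → O)
    (m : Fin r → ℕ) (t : Fin r → L) (ht : ∀ j, t j ^ m j = algebraMap O L (c j))
    (hm : ∀ j, 1 ≤ m j) (hmu : ∀ j, IsUnit ((m j : ℕ) : O)) (i : Fin r)
    (hci : maximalIdeal O = Ideal.span {c i}) (hcu : ∀ j, j ≠ i → IsUnit (c j))
    (hgen : ∀ x : L, ∃ a s : L,
      a ∈ Subring.closure (Set.range (algebraMap O L) ∪ Set.range t) ∧
      s ∈ Subring.closure (Set.range (algebraMap O L) ∪ Set.range t) ∧ s ≠ 0 ∧ x = a / s) :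
    EtRam.IsTamelyRamified O (algebraMap O L) := by
  classical
  have he : 0 < m i := hm i
  have hπirr : Irreducible (c i) := (IsDiscreteValuationRing.irreducible_iff_uniformizer (c i)).mpr hci
  let K := FractionRing O
  letI iKL : Algebra K L := (IsFractionRing.lift hinj).toAlgebra
  haveI : IsScalarTower O K L :=
    IsScalarTower.of_algebraMap_eq (fun x => (IsFractionRing.lift_algebraMap hinj x).symm)
  have hc0 : ∀ j, c j ≠ 0 := by
    intro j
    by_cases hj : j = i
    · rw [hj]; exact hπirr.ne_zero
    · exact (hcu j hj).ne_zero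
  have hmK : ∀ j, ((m j : ℕ) : K) ≠ 0 := by
    intro j
    have h1 : ((m j : ℕ) : K) = algebraMap O K (m j : O) := (map_natCast _ _).symm
    rw [h1]
    exact (map_ne_zero_iff _ (IsFractionRing.injective O K)).mpr (hmu j).ne_zero
  have haeval : ∀ j, aeval (t j) (X ^ m j - C (algebraMap O K (c j)) : K[X]) = 0 := by
    intro j
    rw [map_sub, map_pow, aeval_X, aeval_C, ht j, ← IsScalarTower.algebraMap_apply, sub_self]
  have hsepP : ∀ j, (X ^ m j - C (algebraMap O K (c j)) : K[X]).Separable := fun j =>
    separable_X_pow_sub_C _ (hmK j)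
      ((map_ne_zero_iff _ (IsFractionRing.injective O K)).mpr (hc0 j))
  have hsep : ∀ j, IsSeparable K (t j) := fun j =>
    (hsepP j).of_dvd (minpoly.dvd K (t j) (haeval j))
  have hcl : ∀ (S : Subring L), (∀ a : O, algebraMap O L a ∈ S) → (∀ j, t j ∈ S) →
      ∀ x : L, ∃ a s : L, a ∈ S ∧ s ∈ S ∧ s ≠ 0 ∧ x = a / s := by
    intro S h1 h2 x
    have hle : Subring.closure (Set.range (algebraMap O L) ∪ Set.range t) ≤ S := by
      rw [Subring.closure_le]
      rintro _ (⟨a, rfl⟩ | ⟨j, rfl⟩)
      · exact h1 a
      · exact h2 j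
    obtain ⟨a, s, ha, hs, hs0, hx⟩ := hgen x
    exact ⟨a, s, hle ha, hle hs, hs0, hx⟩
  have hadj : IntermediateField.adjoin K (Set.range t) = ⊤ := by
    rw [eq_top_iff]
    rintro x -
    obtain ⟨a, s, ha, hs, -, rfl⟩ :=
      hcl (IntermediateField.adjoin K (Set.range t)).toSubalgebra.toSubring
        (fun a => by
          rw [IsScalarTower.algebraMap_apply O K L]
          exact IntermediateField.algebraMap_mem _ _)
        (fun j => IntermediateField.subset_adjoin K _ ⟨j, rfl⟩) x
    exact div_mem ha hs
  haveI hfin : FiniteDimensional K L := by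
    haveI : FiniteDimensional K (IntermediateField.adjoin K (Set.range t)) :=
      IntermediateField.finiteDimensional_adjoin (by
        rintro _ ⟨j, rfl⟩
        exact (hsep j).isIntegral)
    rw [hadj] at this
    exact Module.Finite.equiv (IntermediateField.topEquiv (F := K) (E := L)).toLinearEquiv
  haveI hsepKL : Algebra.IsSeparable K L := by
    have h1 : Algebra.IsSeparable K (IntermediateField.adjoin K (Set.range t)) := by
      rw [IntermediateField.isSeparable_adjoin_iff_isSeparable]
      rintro _ ⟨j, rfl⟩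
      exact hsep j
    rw [hadj] at h1
    exact AlgEquiv.Algebra.isSeparable (IntermediateField.topEquiv (F := K) (E := L))
  have hek : ((m i : ℕ) : ResidueField O) ≠ 0 := by
    have h1 : ((m i : ℕ) : ResidueField O) = residue O (m i : O) := (map_natCast _ _).symm
    rw [h1]
    exact ((hmu i).map (residue O)).ne_zero
  have hroot : eval₂ (algebraMap O L) (t i) (X ^ m i - C (c i) : O[X]) = 0 := by
    rw [eval₂_sub, eval₂_pow, eval₂_X, eval₂_C, ht i, sub_self]
  letI iAeL : Algebra (AdjoinRoot (X ^ m i - C (c i) : O[X])) L :=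
    (AdjoinRoot.lift (algebraMap O L) (t i) hroot).toAlgebra
  have hof : ∀ a, algebraMap (AdjoinRoot (X ^ m i - C (c i) : O[X])) L (AdjoinRoot.of _ a) =
      algebraMap O L a := fun a => AdjoinRoot.lift_of hroot
  have hrootmap : algebraMap (AdjoinRoot (X ^ m i - C (c i) : O[X])) L (AdjoinRoot.root _) = t i :=
    AdjoinRoot.lift_root hroot
  refine Groth.Agent.Lib.Helper14TameKummer.tame_of_ext (K := K) (c i) hci (m i) he hek L
    (AlgHom.id K L) ?_ ?_
  · ext a
    rw [RingHom.comp_apply, RingHom.comp_apply, hof, ← IsScalarTower.algebraMap_apply]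
  · intro _
    haveI : IsDomain (AdjoinRoot (X ^ m i - C (c i) : O[X])) := ar_isDomain (c i) hπirr (m i) he
    haveI : IsDiscreteValuationRing (AdjoinRoot (X ^ m i - C (c i) : O[X])) :=
      ar_isDVR (c i) hπirr (m i) he
    have hmonic := Groth.Agent.Lib.Helper14TameKummer.ar_monic (c i) (m i) he
    haveI : Module.Finite O (AdjoinRoot (X ^ m i - C (c i) : O[X])) := hmonic.finite_adjoinRoot
    haveI : Algebra.IsIntegral O (AdjoinRoot (X ^ m i - C (c i) : O[X])) :=
      Algebra.IsIntegral.of_finite _ _
    have hinjAe : Function.Injective (algebraMap (AdjoinRoot (X ^ m i - C (c i) : O[X])) L) := by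
      rw [RingHom.injective_iff_ker_eq_bot]
      apply Ideal.eq_bot_of_comap_eq_bot (R := O)
      rw [eq_bot_iff]
      intro a ha
      rw [Ideal.mem_comap, RingHom.mem_ker] at ha
      change algebraMap _ L (AdjoinRoot.of _ a) = 0 at ha
      rw [hof] at ha
      exact (map_eq_zero_iff _ hinj).mp ha
    have hint : ∀ j, IsIntegral (AdjoinRoot (X ^ m i - C (c i) : O[X])) (t j) := by
      intro j
      refine ⟨X ^ m j - C (AdjoinRoot.of _ (c j)), monic_X_pow_sub_C _ (by have := hm j; omega), ?_⟩
      rw [eval₂_sub, eval₂_pow, eval₂_X, eval₂_C, hof, ht j, sub_self]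
    haveI hfinB : Module.Finite (AdjoinRoot (X ^ m i - C (c i) : O[X]))
        (Algebra.adjoin (AdjoinRoot (X ^ m i - C (c i) : O[X])) (Set.range t)) :=
      Algebra.finite_adjoin_of_finite_of_isIntegral (Set.finite_range t) (by
        rintro _ ⟨j, rfl⟩
        exact hint j)
    haveI hunrB : Algebra.FormallyUnramified (AdjoinRoot (X ^ m i - C (c i) : O[X]))
        (Algebra.adjoin (AdjoinRoot (X ^ m i - C (c i) : O[X])) (Set.range t)) := by
      apply formallyUnramified_adjoin_of_D_eq_zero
      rintro _ ⟨j, rfl⟩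
      by_cases hj : j = i
      · subst hj
        have h1 : (⟨t j, Algebra.subset_adjoin ⟨j, rfl⟩⟩ :
            Algebra.adjoin (AdjoinRoot (X ^ m j - C (c j) : O[X])) (Set.range t)) =
            algebraMap _ _ (AdjoinRoot.root (X ^ m j - C (c j) : O[X])) := by
          apply Subtype.ext
          exact hrootmap.symm
        rw [h1]
        exact Derivation.map_algebraMap _ _
      · apply D_eq_zero_of_pow _ (m j) (AdjoinRoot.of _ (c j))
        · apply Subtype.ext
          change t j ^ m j = algebraMap _ L (AdjoinRoot.of _ (c j))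
          rw [hof, ht j]
        · have hu1 : IsUnit (⟨t j, Algebra.subset_adjoin ⟨j, rfl⟩⟩ :
              Algebra.adjoin (AdjoinRoot (X ^ m i - C (c i) : O[X])) (Set.range t)) := by
            have h2 : (⟨t j, Algebra.subset_adjoin ⟨j, rfl⟩⟩ :
                Algebra.adjoin (AdjoinRoot (X ^ m i - C (c i) : O[X])) (Set.range t)) ^ m j =
                algebraMap _ _ (AdjoinRoot.of (X ^ m i - C (c i) : O[X]) (c j)) := by
              apply Subtype.ext
              change t j ^ m j = algebraMap _ L (AdjoinRoot.of _ (c j))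
              rw [hof, ht j]
            have h3 : IsUnit ((⟨t j, Algebra.subset_adjoin ⟨j, rfl⟩⟩ :
                Algebra.adjoin (AdjoinRoot (X ^ m i - C (c i) : O[X])) (Set.range t)) ^ m j) := by
              rw [h2]
              exact ((hcu j hj).map (AdjoinRoot.of _)).map (algebraMap _ _)
            exact (isUnit_pow_iff (by have := hm j; omega)).mp h3
          have hu2 : IsUnit (((m j : ℕ) :
              Algebra.adjoin (AdjoinRoot (X ^ m i - C (c i) : O[X])) (Set.range t))) := by
            have h4 : (((m j : ℕ) :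
                Algebra.adjoin (AdjoinRoot (X ^ m i - C (c i) : O[X])) (Set.range t))) =
                algebraMap _ _ (AdjoinRoot.of (X ^ m i - C (c i) : O[X]) ((m j : ℕ) : O)) := by
              rw [map_natCast, map_natCast]
            rw [h4]
            exact ((hmu j).map (AdjoinRoot.of _)).map (algebraMap _ _)
          exact hu2.mul (hu1.pow _)
    haveI hfracB : IsFractionRing
        (Algebra.adjoin (AdjoinRoot (X ^ m i - C (c i) : O[X])) (Set.range t)) L := by
      apply IsFractionRing.of_field
      intro x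
      obtain ⟨a, s, ha, hs, hs0, hx⟩ :=
        hcl (Algebra.adjoin (AdjoinRoot (X ^ m i - C (c i) : O[X])) (Set.range t)).toSubring
          (fun a => by
            rw [← hof]
            exact Subalgebra.algebraMap_mem _ _)
          (fun j => Algebra.subset_adjoin ⟨j, rfl⟩) x
      exact ⟨⟨a, ha⟩, ⟨s, hs⟩, hx⟩
    exact Groth.Agent.Lib.Helper14EtRamB.isUnramifiedExt_of_subalgebra _ L hinjAe
      (Algebra.adjoin (AdjoinRoot (X ^ m i - C (c i) : O[X])) (Set.range t))

end Abstract

section Concrete

open Groth.Agent.Lib.Helper14KummerReg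

theorem maximalIdeal_localization_span_singleton (A : Type u) [CommRing A] (π : A)
    [hP : (Ideal.span {π}).IsPrime] :
    maximalIdeal (Localization.AtPrime (Ideal.span {π})) =
      Ideal.span {algebraMap A (Localization.AtPrime (Ideal.span {π})) π} := by
  rw [← IsLocalization.AtPrime.map_eq_maximalIdeal (Ideal.span {π}), Ideal.map_span,
    Set.image_singleton]

theorem map_mem_subring (A : Type u) [CommRing A] {r : ℕ} (f : Fin r → A) (n : Fin r → ℕ)
    {L : Type*} [Ring L] (ψ : SGA1.kummerAlg A f n →+* L) (S : Subring L)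
    (h1 : ∀ a, ψ (algebraMap A _ a) ∈ S) (h2 : ∀ j, ψ (T A f n j) ∈ S)
    (x : SGA1.kummerAlg A f n) : ψ x ∈ S := by
  have hx : x ∈ Algebra.adjoin A (Set.range (T A f n)) := by rw [adjoin_T]; trivial
  induction hx using Algebra.adjoin_induction with
  | mem x hx => obtain ⟨j, rfl⟩ := hx; exact h2 j
  | algebraMap a => exact h1 a
  | add x y _ _ hx hy => rw [map_add]; exact S.add_mem hx hy
  | mul x y _ _ hx hy => rw [map_mul]; exact S.mul_mem hx hy

set_option maxHeartbeats 1600000 in
theorem main (A : Type u) [CommRing A] [IsRegularLocalRing A] [IsDomain A] (r : ℕ) (f : Fin r → A)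
    (hm : ∀ i, f i ∈ maximalIdeal A)
    (hf : LinearIndependent (ResidueField A) (fun i => (maximalIdeal A).toCotangent ⟨f i, hm i⟩))
    [∀ i, (Ideal.span {f i}).IsPrime] (n : Fin r → ℕ) (hn : ∀ i, 1 ≤ n i)
    (hu : ∀ i, IsUnit ((n i : ℕ) : ResidueField A)) :
    SGA1.IsTameAlong f (algebraMap A (SGA1.kummerAlg A f n)) := by
  intro i q _ hq
  haveI : IsDiscreteValuationRing (Localization.AtPrime (Ideal.span {f i})) :=
    isDVR_localization_span_singleton A (f i) (f_ne_zero f hm hf i)
  have hgA : ∀ a : A, SGA1.genericResidueMap (algebraMap A (SGA1.kummerAlg A f n))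
      (Ideal.span {f i}) q hq (algebraMap A _ a) =
      algebraMap (SGA1.kummerAlg A f n) q.ResidueField (algebraMap A _ a) := fun a =>
    IsLocalization.lift_eq _ a
  letI iOL : Algebra (Localization.AtPrime (Ideal.span {f i})) q.ResidueField :=
    (SGA1.genericResidueMap (algebraMap A (SGA1.kummerAlg A f n)) (Ideal.span {f i}) q hq).toAlgebra
  change EtRam.IsTamelyRamified _
    (algebraMap (Localization.AtPrime (Ideal.span {f i})) q.ResidueField)
  have hgA' : ∀ a : A, algebraMap (Localization.AtPrime (Ideal.span {f i})) q.ResidueField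
      (algebraMap A _ a) =
      algebraMap (SGA1.kummerAlg A f n) q.ResidueField (algebraMap A _ a) := hgA
  have hinj : Function.Injective
      (algebraMap (Localization.AtPrime (Ideal.span {f i})) q.ResidueField) := by
    rw [injective_iff_map_eq_zero]
    intro x hx
    obtain ⟨a, s, rfl⟩ := IsLocalization.exists_mk'_eq (Ideal.span {f i}).primeCompl x
    have h1 : algebraMap (Localization.AtPrime (Ideal.span {f i})) q.ResidueField
        (algebraMap A _ a) = 0 := by
      rw [← IsLocalization.mk'_spec (Localization.AtPrime (Ideal.span {f i})) a s, map_mul, hx,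
        zero_mul]
    rw [hgA', Ideal.algebraMap_residueField_eq_zero] at h1
    have h2 : a ∈ Ideal.comap (algebraMap A (SGA1.kummerAlg A f n)) q := h1
    rw [hq, Ideal.mem_bot] at h2
    rw [h2, IsLocalization.mk'_zero]
  refine tame_of_kummer hinj (fun j => algebraMap A _ (f j)) n
    (fun j => algebraMap (SGA1.kummerAlg A f n) q.ResidueField (T A f n j)) ?_ hn ?_ i ?_ ?_ ?_
  · intro j
    rw [← map_pow, T_pow, hgA']
  · intro j
    have h1 := isUnit_natCast_of_residue (n j) (hu j)
    have h2 := h1.map (algebraMap A (Localization.AtPrime (Ideal.span {f i})))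
    rwa [map_natCast] at h2
  · exact maximalIdeal_localization_span_singleton A (f i)
  · intro j hj
    exact IsLocalization.map_units (Localization.AtPrime (Ideal.span {f i}))
      (⟨f j, f_not_mem_span f hm hf i j hj⟩ : (Ideal.span {f i}).primeCompl)
  · intro x
    obtain ⟨a', s', hs', rfl⟩ := IsFractionRing.div_surjective (A := SGA1.kummerAlg A f n ⧸ q) x
    obtain ⟨a, rfl⟩ := Ideal.Quotient.mk_surjective a'
    obtain ⟨s, rfl⟩ := Ideal.Quotient.mk_surjective s'
    have hmem : ∀ y : SGA1.kummerAlg A f n, algebraMap (SGA1.kummerAlg A f n) q.ResidueField y ∈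
        Subring.closure (Set.range (algebraMap (Localization.AtPrime (Ideal.span {f i}))
          q.ResidueField) ∪ Set.range
          (fun j => algebraMap (SGA1.kummerAlg A f n) q.ResidueField (T A f n j))) := by
      apply map_mem_subring
      · intro b
        rw [← hgA']
        exact Subring.subset_closure (Or.inl ⟨_, rfl⟩)
      · intro j
        exact Subring.subset_closure (Or.inr ⟨j, rfl⟩)
    refine ⟨_, _, hmem a, hmem s, ?_, rfl⟩
    rw [← Ideal.algebraMap_quotient_residueField_mk]
    exact map_ne_zero_of_mem_nonZeroDivisors _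
      (Ideal.injective_algebraMap_quotient_residueField q) hs'

end Concrete

end Groth.Agent.Lib.Helper14KummerTame
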