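import Mathlib

/-!
# Coefficient ideals and units of group algebras (helper14)
-/

set_option autoImplicit false
set_option linter.unusedVariables false
set_option linter.unusedSectionVars false
set_option linter.style.haveILetI false
universe u v w
open AddMonoidAlgebra

namespace Groth.Agent.Lib.Helper14.LaurentUnits

variable {A : Type u} [CommRing A] {G : Type v} [AddCommMonoid G]

/-- elements of `A[G]` all of whose coefficients lie in `I` -/
noncomputable def coeffIdeal (G : Type v) [AddCommMonoid G] (I : Ideal A) :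
    Ideal (AddMonoidAlgebra A G) :=
  RingHom.ker (AddMonoidAlgebra.mapRingHom G (Ideal.Quotient.mk I))

lemma mem_coeffIdeal {I : Ideal A} {x : AddMonoidAlgebra A G} :
    x ∈ coeffIdeal G I ↔ ∀ m, x.coeff m ∈ I := by
  rw [coeffIdeal, RingHom.mem_ker]
  constructor
  · intro h m
    have := congrArg (fun y => y.coeff m) h
    simp only [coeff_mapRingHom, coeff_zero, Finsupp.coe_zero, Pi.zero_apply] at this
    exact Ideal.Quotient.eq_zero_iff_mem.mp this
  · intro h
    apply AddMonoidAlgebra.ext
    ext m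
    simp only [coeff_mapRingHom, coeff_zero, Finsupp.coe_zero, Pi.zero_apply]
    exact Ideal.Quotient.eq_zero_iff_mem.mpr (h m)

lemma single_mem_coeffIdeal {I : Ideal A} (m : G) {c : A} (hc : c ∈ I) :
    (single m c : AddMonoidAlgebra A G) ∈ coeffIdeal G I := by
  classical
  rw [mem_coeffIdeal]
  intro n
  rw [coeff_single, Finsupp.single_apply]
  split_ifs
  · exact hc
  · exact I.zero_mem

lemma coeffIdeal_mono {I J : Ideal A} (h : I ≤ J) : coeffIdeal G I ≤ coeffIdeal G J := by
  intro x hx
  rw [mem_coeffIdeal] at hx ⊢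
  exact fun m => h (hx m)

lemma coeffIdeal_bot : coeffIdeal G (⊥ : Ideal A) = ⊥ := by
  rw [eq_bot_iff]
  intro x hx
  rw [mem_coeffIdeal] at hx
  rw [Ideal.mem_bot]
  apply AddMonoidAlgebra.ext
  ext m
  simpa using hx m

/-- an additive map preserving "monomials with coefficient in `I`" preserves `coeffIdeal` -/
lemma map_mem_coeffIdeal {H : Type w} [AddCommMonoid H] {I : Ideal A}
    (T : AddMonoidAlgebra A G →+ AddMonoidAlgebra A H)
    (hT : ∀ (m : G) (c : A), c ∈ I → T (single m c) ∈ coeffIdeal H I)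
    {x : AddMonoidAlgebra A G} (hx : x ∈ coeffIdeal G I) : T x ∈ coeffIdeal H I := by
  rw [mem_coeffIdeal] at hx
  rw [← sum_coeff_single x, Finsupp.sum, map_sum]
  exact Ideal.sum_mem _ fun m _ => hT m _ (hx m)

lemma mul_mem_coeffIdeal_mul {I J : Ideal A} {x y : AddMonoidAlgebra A G}
    (hx : x ∈ coeffIdeal G I) (hy : y ∈ coeffIdeal G J) : x * y ∈ coeffIdeal G (I * J) := by
  rw [mem_coeffIdeal] at hx hy
  rw [← sum_coeff_single x, ← sum_coeff_single y, Finsupp.sum, Finsupp.sum, Finset.sum_mul_sum]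
  refine Ideal.sum_mem _ fun a _ => Ideal.sum_mem _ fun b _ => ?_
  rw [single_mul_single]
  exact single_mem_coeffIdeal _ (Ideal.mul_mem_mul (hx a) (hy b))

lemma pow_mem_coeffIdeal_pow {I : Ideal A} {x : AddMonoidAlgebra A G}
    (hx : x ∈ coeffIdeal G I) (n : ℕ) : x ^ n ∈ coeffIdeal G (I ^ n) := by
  induction n with
  | zero =>
    rw [pow_zero, pow_zero, Ideal.one_eq_top, mem_coeffIdeal]
    intro m; trivial
  | succ n ih =>
    rw [pow_succ, pow_succ]
    exact mul_mem_coeffIdeal_mul ih hx

lemma isNilpotent_of_mem_coeffIdeal {I : Ideal A} {k : ℕ} (hI : I ^ k = ⊥)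
    {x : AddMonoidAlgebra A G} (hx : x ∈ coeffIdeal G I) : IsNilpotent x := by
  refine ⟨k, ?_⟩
  have := pow_mem_coeffIdeal_pow hx k
  rw [hI, coeffIdeal_bot, Ideal.mem_bot] at this
  exact this

lemma mapDomainRingHom_mem_coeffIdeal {H : Type w} [AddCommMonoid H] {I : Ideal A} (f : G →+ H)
    {x : AddMonoidAlgebra A G} (hx : x ∈ coeffIdeal G I) :
    AddMonoidAlgebra.mapDomainRingHom A f x ∈ coeffIdeal H I := by
  refine map_mem_coeffIdeal (AddMonoidAlgebra.mapDomainRingHom A f).toAddMonoidHom ?_ hx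
  intro m c hc
  change AddMonoidAlgebra.mapDomain f (single m c) ∈ _
  rw [mapDomain_single]
  exact single_mem_coeffIdeal _ hc

/-- over a domain, units of the group algebra of a `TwoUniqueSums` group are monomials -/
lemma exists_single_of_mul_eq_one {D : Type u} [CommRing D] [IsDomain D] [TwoUniqueSums G]
    (x y : AddMonoidAlgebra D G) (h : x * y = 1) :
    ∃ (m : G) (c : D), x = single m c := by
  classical
  have hx0 : x ≠ 0 := by
    rintro rfl
    rw [zero_mul] at h
    exact zero_ne_one h
  have hy0 : y ≠ 0 := by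
    rintro rfl
    rw [mul_zero] at h
    exact zero_ne_one h
  have hsx : x.coeff.support.Nonempty := by
    rw [Finsupp.support_nonempty_iff]
    intro h0
    exact hx0 (AddMonoidAlgebra.ext (by rw [h0, coeff_zero]))
  have hsy : y.coeff.support.Nonempty := by
    rw [Finsupp.support_nonempty_iff]
    intro h0
    exact hy0 (AddMonoidAlgebra.ext (by rw [h0, coeff_zero]))
  have hcard : x.coeff.support.card * y.coeff.support.card ≤ 1 := by
    by_contra hlt
    push Not at hlt
    obtain ⟨p1, hp1, p2, hp2, hne, hu1, hu2⟩ := TwoUniqueSums.uniqueAdd_of_one_lt_card hlt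
    rw [Finset.mem_product] at hp1 hp2
    have c1 : (x * y).coeff (p1.1 + p1.2) ≠ 0 := by
      rw [coeff_mul_add_of_uniqueAdd hu1]
      exact mul_ne_zero (Finsupp.mem_support_iff.mp hp1.1) (Finsupp.mem_support_iff.mp hp1.2)
    have c2 : (x * y).coeff (p2.1 + p2.2) ≠ 0 := by
      rw [coeff_mul_add_of_uniqueAdd hu2]
      exact mul_ne_zero (Finsupp.mem_support_iff.mp hp2.1) (Finsupp.mem_support_iff.mp hp2.2)
    rw [h, one_def, coeff_single, Finsupp.single_apply] at c1 c2
    have e1 : (0 : G) = p1.1 + p1.2 := by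
      by_contra hh; exact c1 (if_neg hh)
    have e2 : (0 : G) = p2.1 + p2.2 := by
      by_contra hh; exact c2 (if_neg hh)
    have := hu1 hp2.1 hp2.2 (e2.symm.trans e1)
    exact hne (Prod.ext this.1.symm this.2.symm)
  have hx1 : x.coeff.support.card = 1 := by
    have h1 : 0 < x.coeff.support.card := Finset.card_pos.mpr hsx
    have h2 : 0 < y.coeff.support.card := Finset.card_pos.mpr hsy
    nlinarith
  obtain ⟨m, hm⟩ := Finset.card_eq_one.mp hx1
  refine ⟨m, x.coeff m, ?_⟩
  apply AddMonoidAlgebra.ext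
  rw [coeff_single]
  exact (Finsupp.support_subset_singleton.mp hm.subset)

end Groth.Agent.Lib.Helper14.LaurentUnits
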