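import Groth.Agent.Lib.Helper14LaurentUnitsA

/-!
# The cosimplicial Laurent polynomial rings: coface maps and integration (helper14)
-/

set_option autoImplicit false
set_option linter.unusedVariables false
set_option linter.unusedSectionVars false
set_option linter.style.haveILetI false
universe u v w
open AddMonoidAlgebra

namespace Groth.Agent.Lib.Helper14.LaurentUnits

variable (A : Type u) [CommRing A]

/-- the ring map induced by an integer matrix -/
noncomputable abbrev δ {m n : ℕ} (M : Matrix (Fin m) (Fin n) ℤ) :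
    AddMonoidAlgebra A (Fin n → ℤ) →+* AddMonoidAlgebra A (Fin m → ℤ) :=
  AddMonoidAlgebra.mapDomainRingHom A (Matrix.mulVecLin M).toAddMonoidHom

variable {A}

lemma δ_single {m n : ℕ} (M : Matrix (Fin m) (Fin n) ℤ) (v : Fin n → ℤ) (c : A) :
    δ A M (single v c) = single (M.mulVec v) c := by
  change AddMonoidAlgebra.mapDomain _ (single v c) = _
  rw [mapDomain_single]
  rfl

lemma δ_comp {l m n : ℕ} (M : Matrix (Fin l) (Fin m) ℤ) (N : Matrix (Fin m) (Fin n) ℤ)
    (x : AddMonoidAlgebra A (Fin n → ℤ)) : δ A M (δ A N x) = δ A (M * N) x := by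
  induction x using AddMonoidAlgebra.induction_linear with
  | zero => simp
  | add x y hx hy => rw [map_add, map_add, map_add, hx, hy]
  | single v c => rw [δ_single, δ_single, δ_single, Matrix.mulVec_mulVec]

lemma δ_mem_coeffIdeal {m n : ℕ} (M : Matrix (Fin m) (Fin n) ℤ) {I : Ideal A}
    {x : AddMonoidAlgebra A (Fin n → ℤ)} (hx : x ∈ coeffIdeal _ I) :
    δ A M x ∈ coeffIdeal _ I :=
  mapDomainRingHom_mem_coeffIdeal _ hx

/-- base change commutes with the matrix maps -/
lemma mapRingHom_δ {B : Type u} [CommRing B] (f : A →+* B) {m n : ℕ}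
    (M : Matrix (Fin m) (Fin n) ℤ) (x : AddMonoidAlgebra A (Fin n → ℤ)) :
    AddMonoidAlgebra.mapRingHom _ f (δ A M x) = δ B M (AddMonoidAlgebra.mapRingHom _ f x) := by
  have := congrArg (fun φ => φ x)
    (AddMonoidAlgebra.mapRingHom_comp_mapDomainRingHom f (Matrix.mulVecLin M).toAddMonoidHom)
  exact this

abbrev M0 : Matrix (Fin 3) (Fin 2) ℤ := !![0, 0; 1, 0; 0, 1]
abbrev M1 : Matrix (Fin 3) (Fin 2) ℤ := !![1, 0; 1, 0; 0, 1]
abbrev M2 : Matrix (Fin 3) (Fin 2) ℤ := !![1, 0; 0, 1; 0, 1]
abbrev M3 : Matrix (Fin 3) (Fin 2) ℤ := !![1, 0; 0, 1; 0, 0]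
abbrev E0 : Matrix (Fin 2) (Fin 1) ℤ := !![0; 1]
abbrev E1 : Matrix (Fin 2) (Fin 1) ℤ := !![1; 1]
abbrev E2 : Matrix (Fin 2) (Fin 1) ℤ := !![1; 0]

lemma M0_mulVec (m : Fin 2 → ℤ) : M0.mulVec m = ![0, m 0, m 1] := by
  ext i; fin_cases i <;> simp [Matrix.mulVec, dotProduct, Fin.sum_univ_two]
lemma M1_mulVec (m : Fin 2 → ℤ) : M1.mulVec m = ![m 0, m 0, m 1] := by
  ext i; fin_cases i <;> simp [Matrix.mulVec, dotProduct, Fin.sum_univ_two]
lemma M2_mulVec (m : Fin 2 → ℤ) : M2.mulVec m = ![m 0, m 1, m 1] := by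
  ext i; fin_cases i <;> simp [Matrix.mulVec, dotProduct, Fin.sum_univ_two]
lemma M3_mulVec (m : Fin 2 → ℤ) : M3.mulVec m = ![m 0, m 1, 0] := by
  ext i; fin_cases i <;> simp [Matrix.mulVec, dotProduct, Fin.sum_univ_two]
lemma E0_mulVec (m : Fin 1 → ℤ) : E0.mulVec m = ![0, m 0] := by
  ext i; fin_cases i <;> simp [Matrix.mulVec, dotProduct]
lemma E1_mulVec (m : Fin 1 → ℤ) : E1.mulVec m = ![m 0, m 0] := by
  ext i; fin_cases i <;> simp [Matrix.mulVec, dotProduct]
lemma E2_mulVec (m : Fin 1 → ℤ) : E2.mulVec m = ![m 0, 0] := by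
  ext i; fin_cases i <;> simp [Matrix.mulVec, dotProduct]

/-- the cocycle condition -/
def IsCocycle (z : AddMonoidAlgebra A (Fin 2 → ℤ)) : Prop :=
  δ A M0 z * δ A M2 z = δ A M1 z * δ A M3 z

/-- `z` is the coboundary of `e` -/
def IsCobdry (z : AddMonoidAlgebra A (Fin 2 → ℤ)) (e : AddMonoidAlgebra A (Fin 1 → ℤ)) : Prop :=
  z * δ A E1 e = δ A E0 e * δ A E2 e

lemma IsCocycle.mul {x y : AddMonoidAlgebra A (Fin 2 → ℤ)} (hx : IsCocycle x) (hy : IsCocycle y) :
    IsCocycle (x * y) := by
  unfold IsCocycle at *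
  rw [map_mul, map_mul, map_mul, map_mul]
  calc δ A M0 x * δ A M0 y * (δ A M2 x * δ A M2 y)
      = (δ A M0 x * δ A M2 x) * (δ A M0 y * δ A M2 y) := by ring
    _ = (δ A M1 x * δ A M3 x) * (δ A M1 y * δ A M3 y) := by rw [hx, hy]
    _ = _ := by ring

lemma IsCocycle.of_mul_eq_one {x y : AddMonoidAlgebra A (Fin 2 → ℤ)} (hx : IsCocycle x)
    (hxy : x * y = 1) : IsCocycle y := by
  unfold IsCocycle at *
  have h1 : (δ A M0 y * δ A M2 y) * (δ A M0 x * δ A M2 x) = 1 := by
    calc _ = δ A M0 (x * y) * δ A M2 (x * y) := by rw [map_mul, map_mul]; ring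
      _ = 1 := by rw [hxy, map_one, map_one, mul_one]
  have h2 : (δ A M1 y * δ A M3 y) * (δ A M1 x * δ A M3 x) = 1 := by
    calc _ = δ A M1 (x * y) * δ A M3 (x * y) := by rw [map_mul, map_mul]; ring
      _ = 1 := by rw [hxy, map_one, map_one, mul_one]
  calc δ A M0 y * δ A M2 y
      = (δ A M0 y * δ A M2 y) * ((δ A M1 y * δ A M3 y) * (δ A M1 x * δ A M3 x)) := by
        rw [h2, mul_one]
    _ = ((δ A M0 y * δ A M2 y) * (δ A M0 x * δ A M2 x)) * (δ A M1 y * δ A M3 y) := by
        rw [hx]; ring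
    _ = _ := by rw [h1, one_mul]

lemma isCocycle_one : IsCocycle (1 : AddMonoidAlgebra A (Fin 2 → ℤ)) := by
  unfold IsCocycle
  simp

/-- a coboundary of a unit is a cocycle -/
lemma IsCobdry.isCocycle {z : AddMonoidAlgebra A (Fin 2 → ℤ)} {e : AddMonoidAlgebra A (Fin 1 → ℤ)}
    (h : IsCobdry z e) (he : IsUnit e) : IsCocycle z := by
  unfold IsCobdry at h
  unfold IsCocycle
  -- apply the four coface maps to `h`
  have c0 := congrArg (δ A M0) h
  have c1 := congrArg (δ A M1) h
  have c2 := congrArg (δ A M2) h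
  have c3 := congrArg (δ A M3) h
  simp only [map_mul, δ_comp] at c0 c1 c2 c3
  have e1 : M0 * E0 = M1 * E0 := by decide
  have e2 : M0 * E1 = M2 * E0 := by decide
  have e3 : M0 * E2 = M3 * E0 := by decide
  have e4 : M1 * E1 = M2 * E1 := by decide
  have e5 : M1 * E2 = M3 * E1 := by decide
  have e6 : M2 * E2 = M3 * E2 := by decide
  rw [e1, e2, e3] at c0
  rw [e4, e5] at c1
  rw [e6] at c2
  set a := δ A (M1 * E0) e
  set b := δ A (M2 * E0) e
  set c := δ A (M3 * E0) e
  set d := δ A (M2 * E1) e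
  set f := δ A (M3 * E1) e
  set g := δ A (M3 * E2) e
  have hb : IsUnit b := he.map _
  have hd : IsUnit d := he.map _
  have hf : IsUnit f := he.map _
  have hu : IsUnit (b * d * (d * f)) := (hb.mul hd).mul (hd.mul hf)
  apply hu.mul_left_injective
  change δ A M0 z * δ A M2 z * (b * d * (d * f)) = δ A M1 z * δ A M3 z * (b * d * (d * f))
  calc δ A M0 z * δ A M2 z * (b * d * (d * f))
      = (δ A M0 z * b) * (δ A M2 z * d) * (d * f) := by ring
    _ = (a * c) * (b * g) * (d * f) := by rw [c0, c2]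
    _ = (a * f) * (c * g) * (b * d) := by ring
    _ = (δ A M1 z * d) * (δ A M3 z * f) * (b * d) := by rw [c1, c3]
    _ = _ := by ring

lemma IsCobdry.mul {x y : AddMonoidAlgebra A (Fin 2 → ℤ)} {e f : AddMonoidAlgebra A (Fin 1 → ℤ)}
    (hx : IsCobdry x e) (hy : IsCobdry y f) : IsCobdry (x * y) (e * f) := by
  unfold IsCobdry at *
  rw [map_mul, map_mul, map_mul]
  calc x * y * (δ A E1 e * δ A E1 f) = (x * δ A E1 e) * (y * δ A E1 f) := by ring
    _ = (δ A E0 e * δ A E2 e) * (δ A E0 f * δ A E2 f) := by rw [hx, hy]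
    _ = _ := by ring

/-- constants are coboundaries of themselves -/
lemma isCobdry_single_zero (c : A) :
    IsCobdry (single 0 c : AddMonoidAlgebra A (Fin 2 → ℤ)) (single 0 c) := by
  unfold IsCobdry
  rw [δ_single, δ_single, δ_single, Matrix.mulVec_zero, Matrix.mulVec_zero, Matrix.mulVec_zero]

section Integration

variable {G : Type v} {H : Type w}

/-- restricted pushforward: keep the monomials with exponent satisfying `p`, and push the
exponents along `g` -/
noncomputable def T (p : G → Prop) [DecidablePred p] (g : G → H) :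
    AddMonoidAlgebra A G →+ AddMonoidAlgebra A H where
  toFun x := AddMonoidAlgebra.ofCoeff (Finsupp.mapDomain g (Finsupp.filter p x.coeff))
  map_zero' := by
    apply AddMonoidAlgebra.ext
    simp [Finsupp.filter_zero]
  map_add' x y := by
    apply AddMonoidAlgebra.ext
    simp [Finsupp.filter_add, Finsupp.mapDomain_add]

lemma T_single (p : G → Prop) [DecidablePred p] (g : G → H) (m : G) (c : A) :
    T p g (single m c : AddMonoidAlgebra A G) = if p m then single (g m) c else 0 := by
  apply AddMonoidAlgebra.ext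
  change Finsupp.mapDomain g (Finsupp.filter p (Finsupp.single m c)) = _
  split_ifs with h
  · rw [Finsupp.filter_single_of_pos _ h, Finsupp.mapDomain_single, coeff_single]
  · rw [Finsupp.filter_single_of_neg _ h, Finsupp.mapDomain_zero, coeff_zero]

lemma T_mem_coeffIdeal [AddCommMonoid G] [AddCommMonoid H] (p : G → Prop) [DecidablePred p]
    (g : G → H) {I : Ideal A} {x : AddMonoidAlgebra A G} (hx : x ∈ coeffIdeal G I) :
    T p g x ∈ coeffIdeal H I := by
  refine map_mem_coeffIdeal (T p g) ?_ hx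
  intro m c hc
  rw [T_single]
  split_ifs
  · exact single_mem_coeffIdeal _ hc
  · exact Ideal.zero_mem _

end Integration

/-- integration over the last of three variables -/
noncomputable def T3 : AddMonoidAlgebra A (Fin 3 → ℤ) →+ AddMonoidAlgebra A (Fin 2 → ℤ) :=
  T (fun v => v 2 = 0) (fun v => ![v 0, v 1])

/-- integration over the last of two variables -/
noncomputable def T2 : AddMonoidAlgebra A (Fin 2 → ℤ) →+ AddMonoidAlgebra A (Fin 1 → ℤ) :=
  T (fun v => v 1 = 0) (fun v => ![v 0])

lemma T3_M3 (x : AddMonoidAlgebra A (Fin 2 → ℤ)) : T3 (δ A M3 x) = x := by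
  induction x using AddMonoidAlgebra.induction_linear with
  | zero => simp
  | add x y hx hy => rw [map_add, map_add, hx, hy]
  | single v c =>
    rw [δ_single, T3, T_single, M3_mulVec]
    simp only [Matrix.cons_val_two, Matrix.tail_cons, Matrix.head_cons, if_true]
    congr 1
    ext i; fin_cases i <;> simp

lemma T3_M0 (x : AddMonoidAlgebra A (Fin 2 → ℤ)) : T3 (δ A M0 x) = δ A E0 (T2 x) := by
  induction x using AddMonoidAlgebra.induction_linear with
  | zero => simp
  | add x y hx hy => rw [map_add, map_add, map_add, map_add, hx, hy]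
  | single v c =>
    rw [δ_single, T3, T_single, T2, T_single, M0_mulVec]
    by_cases h : v 1 = 0
    · simp only [Matrix.cons_val_two, Matrix.tail_cons, Matrix.head_cons, h, if_true]
      rw [δ_single, E0_mulVec]
      congr 1
    · simp only [Matrix.cons_val_two, Matrix.tail_cons, Matrix.head_cons, h, if_false, map_zero]

lemma T3_M1 (x : AddMonoidAlgebra A (Fin 2 → ℤ)) : T3 (δ A M1 x) = δ A E1 (T2 x) := by
  induction x using AddMonoidAlgebra.induction_linear with
  | zero => simp
  | add x y hx hy => rw [map_add, map_add, map_add, map_add, hx, hy]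
  | single v c =>
    rw [δ_single, T3, T_single, T2, T_single, M1_mulVec]
    by_cases h : v 1 = 0
    · simp only [Matrix.cons_val_two, Matrix.tail_cons, Matrix.head_cons, h, if_true]
      rw [δ_single, E1_mulVec]
      congr 1
    · simp only [Matrix.cons_val_two, Matrix.tail_cons, Matrix.head_cons, h, if_false, map_zero]

lemma T3_M2 (x : AddMonoidAlgebra A (Fin 2 → ℤ)) : T3 (δ A M2 x) = δ A E2 (T2 x) := by
  induction x using AddMonoidAlgebra.induction_linear with
  | zero => simp
  | add x y hx hy => rw [map_add, map_add, map_add, map_add, hx, hy]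
  | single v c =>
    rw [δ_single, T3, T_single, T2, T_single, M2_mulVec]
    by_cases h : v 1 = 0
    · simp only [Matrix.cons_val_two, Matrix.tail_cons, Matrix.head_cons, h, if_true]
      rw [δ_single, E2_mulVec]
      congr 1
    · simp only [Matrix.cons_val_two, Matrix.tail_cons, Matrix.head_cons, h, if_false, map_zero]

end Groth.Agent.Lib.Helper14.LaurentUnits
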