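import Groth.Agent.Lib.Helper14LaurentUnitsB

/-!
# Vanishing of `H²` of the units of the cosimplicial Laurent polynomial ring (helper14)
-/

set_option autoImplicit false
set_option linter.unusedVariables false
set_option linter.unusedSectionVars false
set_option linter.style.haveILetI false
universe u v w
open AddMonoidAlgebra

namespace Groth.Agent.Lib.Helper14.LaurentUnits

variable {A : Type u} [CommRing A]

/-- over a domain a unit cocycle is constant -/
lemma coeff_eq_zero_of_isCocycle_domain {D : Type u} [CommRing D] [IsDomain D]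
    (x y : AddMonoidAlgebra D (Fin 2 → ℤ)) (h : x * y = 1) (hx : IsCocycle x)
    (m : Fin 2 → ℤ) (hm : m ≠ 0) : x.coeff m = 0 := by
  classical
  obtain ⟨m0, c, rfl⟩ := exists_single_of_mul_eq_one x y h
  have hc : c ≠ 0 := by
    rintro rfl
    rw [single_zero, zero_mul] at h
    exact zero_ne_one h
  unfold IsCocycle at hx
  rw [δ_single, δ_single, δ_single, δ_single, single_mul_single, single_mul_single,
    single_left_inj (mul_ne_zero hc hc), M0_mulVec, M1_mulVec, M2_mulVec, M3_mulVec] at hx
  have h0 := congrFun hx 0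
  have h2 := congrFun hx 2
  simp at h0 h2
  have hm0 : m0 = 0 := by
    ext i; fin_cases i
    · simpa using h0
    · simpa using h2
  subst hm0
  rw [coeff_single, Finsupp.single_apply, if_neg (Ne.symm hm)]

/-- the non-constant coefficients of a unit cocycle are nilpotent -/
lemma isNilpotent_coeff_of_isCocycle (x y : AddMonoidAlgebra A (Fin 2 → ℤ)) (h : x * y = 1)
    (hx : IsCocycle x) (m : Fin 2 → ℤ) (hm : m ≠ 0) : IsNilpotent (x.coeff m) := by
  rw [nilpotent_iff_mem_prime]
  intro p hp
  haveI := hp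
  set π := AddMonoidAlgebra.mapRingHom (Fin 2 → ℤ) (Ideal.Quotient.mk p) with hπ
  have h1 : π x * π y = 1 := by rw [← map_mul, h, map_one]
  have h2 : IsCocycle (π x) := by
    unfold IsCocycle at hx ⊢
    rw [hπ, ← mapRingHom_δ, ← mapRingHom_δ, ← mapRingHom_δ, ← mapRingHom_δ, ← map_mul, ← map_mul,
      hx]
  have h3 := coeff_eq_zero_of_isCocycle_domain (π x) (π y) h1 h2 m hm
  rw [hπ, coeff_mapRingHom] at h3
  exact Ideal.Quotient.eq_zero_iff_mem.mp h3

/-- the augmentation -/
noncomputable def aug (G : Type v) [AddCommMonoid G] : AddMonoidAlgebra A G →+* A :=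
  AddMonoidAlgebra.liftNCRingHom (RingHom.id A) (1 : Multiplicative G →* A)
    (fun _ _ => Commute.all _ _)

lemma aug_single {G : Type v} [AddCommMonoid G] (m : G) (c : A) : aug G (single m c) = c := by
  rw [aug, AddMonoidAlgebra.liftNCRingHom_single]
  simp

lemma isNilpotent_aug {G : Type v} [AddCommMonoid G] (x : AddMonoidAlgebra A G)
    (hx : ∀ m, IsNilpotent (x.coeff m)) : IsNilpotent (aug G x) := by
  rw [← sum_coeff_single x, Finsupp.sum, map_sum]
  refine isNilpotent_sum fun m _ => ?_
  rw [aug_single]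
  exact hx m

/-- the constant coefficient of a unit cocycle is a unit -/
lemma isUnit_coeff_zero_of_isCocycle (x y : AddMonoidAlgebra A (Fin 2 → ℤ)) (h : x * y = 1)
    (hx : IsCocycle x) : IsUnit (x.coeff 0) := by
  classical
  have hu : IsUnit (aug _ x) := by
    refine IsUnit.of_mul_eq_one (aug _ y) ?_
    rw [← map_mul, h, map_one]
  have hn : IsNilpotent (aug _ (x.erase 0)) := by
    refine isNilpotent_aug _ fun m => ?_
    rw [coeff_erase, Finsupp.erase_apply]
    split_ifs with h0
    · exact IsNilpotent.zero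
    · exact isNilpotent_coeff_of_isCocycle x y h hx m h0
  have hsum : aug _ x = x.coeff 0 + aug _ (x.erase 0) := by
    conv_lhs => rw [← single_add_erase 0 x]
    rw [map_add, aug_single]
  have : x.coeff 0 = aug _ x + -aug _ (x.erase 0) := by rw [hsum]; ring
  rw [this]
  exact hn.neg.isUnit_add_left_of_commute hu (Commute.all _ _)

/-- the key nilpotent induction -/
theorem exists_cobdry_of_nilpotent : ∀ (k : ℕ) (I : Ideal A), I ^ k = ⊥ →
    ∀ ε ∈ coeffIdeal (Fin 2 → ℤ) I, IsCocycle (1 + ε) →
      ∃ a ∈ coeffIdeal (Fin 1 → ℤ) I, IsCobdry (1 + ε) (1 + a) := by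
  intro k
  induction k using Nat.strong_induction_on with
  | _ k ih =>
  intro I hI ε hε hcoc
  by_cases hk : k ≤ 1
  · have hI0 : I = ⊥ := by
      interval_cases k
      · rw [pow_zero, Ideal.one_eq_top] at hI
        rw [eq_bot_iff, ← hI]; exact le_top
      · rwa [pow_one] at hI
    subst hI0
    rw [coeffIdeal_bot, Ideal.mem_bot] at hε
    subst hε
    refine ⟨0, Ideal.zero_mem _, ?_⟩
    unfold IsCobdry
    simp
  · push Not at hk
    -- first approximation
    set a1 := T2 ε with ha1
    have ha1I : a1 ∈ coeffIdeal (Fin 1 → ℤ) I := T_mem_coeffIdeal _ _ hε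
    have hη1 : IsUnit (1 + a1) := (isNilpotent_of_mem_coeffIdeal hI ha1I).isUnit_one_add
    set w := δ A E1 (1 + a1) with hw
    set v := δ A E0 (1 + a1) * δ A E2 (1 + a1) with hv
    have hwU : IsUnit w := hη1.map _
    have hvU : IsUnit v := (hη1.map _).mul (hη1.map _)
    obtain ⟨winv, hwinv⟩ := hwU.exists_right_inv
    obtain ⟨vinv, hvinv⟩ := hvU.exists_right_inv
    -- the additive cocycle relation modulo `I²`
    have hr : δ A M0 ε + δ A M2 ε - δ A M1 ε - δ A M3 ε
        = δ A M1 ε * δ A M3 ε - δ A M0 ε * δ A M2 ε := by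
      unfold IsCocycle at hcoc
      simp only [map_add, map_one] at hcoc
      linear_combination hcoc
    have hrI : δ A M1 ε * δ A M3 ε - δ A M0 ε * δ A M2 ε ∈ coeffIdeal (Fin 3 → ℤ) (I * I) :=
      Ideal.sub_mem _
        (mul_mem_coeffIdeal_mul (δ_mem_coeffIdeal _ hε) (δ_mem_coeffIdeal _ hε))
        (mul_mem_coeffIdeal_mul (δ_mem_coeffIdeal _ hε) (δ_mem_coeffIdeal _ hε))
    have hT : δ A E0 a1 + δ A E2 a1 - δ A E1 a1 - ε ∈ coeffIdeal (Fin 2 → ℤ) (I * I) := by
      have h1 := T_mem_coeffIdeal (fun v : Fin 3 → ℤ => v 2 = 0) (fun v => ![v 0, v 1]) hrI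
      change T3 _ ∈ _ at h1
      rw [← hr, map_sub, map_sub, map_add, T3_M0, T3_M1, T3_M2, T3_M3] at h1
      exact h1
    have hkey : (1 + ε) * w - v ∈ coeffIdeal (Fin 2 → ℤ) (I * I) := by
      have e : (1 + ε) * w - v = -(δ A E0 a1 + δ A E2 a1 - δ A E1 a1 - ε)
          + (ε * δ A E1 a1 - δ A E0 a1 * δ A E2 a1) := by
        rw [hw, hv]
        simp only [map_add, map_one]
        ring
      rw [e]
      refine Ideal.add_mem _ ((Ideal.neg_mem_iff _).mpr hT) (Ideal.sub_mem _ ?_ ?_)
      · exact mul_mem_coeffIdeal_mul hε (δ_mem_coeffIdeal _ ha1I)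
      · exact mul_mem_coeffIdeal_mul (δ_mem_coeffIdeal _ ha1I) (δ_mem_coeffIdeal _ ha1I)
    -- the corrected cocycle
    set ε' := ((1 + ε) * w - v) * vinv with hε'
    have hε'I : ε' ∈ coeffIdeal (Fin 2 → ℤ) (I * I) := Ideal.mul_mem_right _ _ hkey
    have hz' : 1 + ε' = (1 + ε) * (w * vinv) := by
      rw [hε']
      linear_combination (-1 : AddMonoidAlgebra A (Fin 2 → ℤ)) * hvinv
    have hdη : IsCobdry (v * winv) (1 + a1) := by
      unfold IsCobdry
      rw [← hw, ← hv]
      linear_combination v * hwinv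
    have hcoc1 : IsCocycle (v * winv) := hdη.isCocycle hη1
    have hcoc2 : IsCocycle (w * vinv) := by
      refine hcoc1.of_mul_eq_one ?_
      linear_combination (1 + w * winv) * hvinv + hwinv - hvinv
    have hcoc' : IsCocycle (1 + ε') := by
      rw [hz']
      exact hcoc.mul hcoc2
    have hI' : (I * I) ^ (k - 1) = ⊥ := by
      rw [← pow_two, ← pow_mul]
      have : 2 * (k - 1) = k + (k - 2) := by omega
      rw [this, pow_add, hI, Ideal.bot_mul]
    obtain ⟨a', ha'I, hcob'⟩ := ih (k - 1) (by omega) (I * I) hI' ε' hε'I hcoc'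
    have ha'I1 : a' ∈ coeffIdeal (Fin 1 → ℤ) I := coeffIdeal_mono Ideal.mul_le_right ha'I
    refine ⟨a' + a1 + a' * a1, ?_, ?_⟩
    · exact Ideal.add_mem _ (Ideal.add_mem _ ha'I1 ha1I) (Ideal.mul_mem_left _ _ ha1I)
    · have := hcob'.mul hdη
      have e1 : (1 + ε') * (v * winv) = 1 + ε := by
        rw [hz']
        linear_combination (1 + ε) * (w * winv * hvinv + hwinv)
      have e2 : (1 + a') * (1 + a1) = 1 + (a' + a1 + a' * a1) := by ring
      rwa [e1, e2] at this

/-- every unit cocycle is a coboundary of a unit -/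
theorem exists_isCobdry (x y : AddMonoidAlgebra A (Fin 2 → ℤ)) (h : x * y = 1)
    (hx : IsCocycle x) :
    ∃ e : AddMonoidAlgebra A (Fin 1 → ℤ), IsUnit e ∧ IsCobdry x e := by
  classical
  obtain ⟨u', hu'⟩ := (isUnit_coeff_zero_of_isCocycle x y h hx).exists_right_inv
  set u := x.coeff 0 with hu
  have hcc : (single 0 u' : AddMonoidAlgebra A (Fin 2 → ℤ)) * single 0 u = 1 := by
    rw [single_mul_single, add_zero, mul_comm, hu', one_def]
  set z := x * single 0 u' with hz
  have hzU : z * (y * single 0 u) = 1 := by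
    rw [hz]
    linear_combination (single 0 u' * single 0 u) * h + hcc
  have hzc : IsCocycle z := by
    refine hx.mul ((isCobdry_single_zero u').isCocycle ?_)
    refine IsUnit.of_mul_eq_one (single 0 u) ?_
    rw [single_mul_single, add_zero, mul_comm, hu', one_def]
  set ε := z - 1 with hε
  have hεn : ∀ m, IsNilpotent (ε.coeff m) := by
    intro m
    by_cases hm : m = 0
    · subst hm
      have : ε.coeff 0 = 0 := by
        rw [hε, hz]
        simp only [coeff_sub, Finsupp.coe_sub, Pi.sub_apply, coeff_mul_single_zero, one_def,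
          coeff_single, Finsupp.single_eq_same]
        rw [← hu, hu', sub_self]
      rw [this]
      exact IsNilpotent.zero
    · have : ε.coeff m = z.coeff m := by
        rw [hε]
        simp only [coeff_sub, Finsupp.coe_sub, Pi.sub_apply, one_def, coeff_single]
        rw [Finsupp.single_apply, if_neg (Ne.symm hm), sub_zero]
      rw [this]
      exact isNilpotent_coeff_of_isCocycle z _ hzU hzc m hm
  set I : Ideal A := Ideal.span ((ε.coeff.support.image ε.coeff : Finset A) : Set A) with hI
  have hIfg : I.FG := ⟨_, rfl⟩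
  have hInil : I ≤ nilradical A := by
    rw [hI, Ideal.span_le]
    intro c hc
    simp only [Finset.coe_image, Set.mem_image, Finset.mem_coe] at hc
    obtain ⟨m, _, rfl⟩ := hc
    exact (mem_nilradical).mpr (hεn m)
  obtain ⟨k, hk⟩ := (Ideal.FG.isNilpotent_iff_le_nilradical hIfg).mpr hInil
  have hεI : ε ∈ coeffIdeal (Fin 2 → ℤ) I := by
    rw [mem_coeffIdeal]
    intro m
    by_cases hm : m ∈ ε.coeff.support
    · exact Ideal.subset_span (by
        simp only [Finset.coe_image, Set.mem_image, Finset.mem_coe]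
        exact ⟨m, hm, rfl⟩)
    · rw [Finsupp.notMem_support_iff.mp hm]
      exact Ideal.zero_mem _
  have hz1 : 1 + ε = z := by rw [hε]; ring
  obtain ⟨a, haI, hcob⟩ := exists_cobdry_of_nilpotent k I hk ε hεI (by rw [hz1]; exact hzc)
  rw [hz1] at hcob
  refine ⟨(1 + a) * single 0 u, ?_, ?_⟩
  · refine IsUnit.mul (isNilpotent_of_mem_coeffIdeal hk haI).isUnit_one_add ?_
    refine IsUnit.of_mul_eq_one (single 0 u') ?_
    rw [single_mul_single, add_zero, hu', one_def]
  · have := hcob.mul (isCobdry_single_zero u)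
    have e : z * single 0 u = x := by
      rw [hz]
      linear_combination x * hcc
    rwa [e] at this

end Groth.Agent.Lib.Helper14.LaurentUnits
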