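import Mathlib
import Groth.Prelude.Def_PolLaw
import Groth.Agent.Lib.Helper14GammaGen

/-!
# Polarisation of polynomial laws (helper14)

For a polynomial law `F : M →ₚₗ[A] N` and an `A`-algebra `S₀`: `polS F S₀ z` is the coefficient of
`X₁ ⋯ X_d` in `F_{S₀[X]}(∑ Xᵢ zᵢ)`, `zᵢ ∈ S₀ ⊗ M`.  It is `S₀`-multilinear (`polM`), natural in `S₀`
(`polS_map`) and for `F` homogeneous of degree `d` its diagonal is `d! F` (`polS_diag`).
`pol F d : MultilinearMap A (fun _ : Fin d => M) N` is the case `S₀ = A`.
`sum_pol_eq`: `∑_w (∏ᵢ s_{w i}) ⊗ pol(b ∘ w) = d! F(∑ sⱼ ⊗ bⱼ)`.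
Polynomial lemmas: `aeval_monomial_push`, `coeff_thA`, `coeff_thE_add`, `sum_coeff_smul`
(`∑_c coeff_{(1,…,1)}(∏ X_{c i}) • g c = ∑_{σ ∈ S_d} g σ`), `coeff_sum_X_pow`.
-/

set_option autoImplicit false
universe u
open TensorProduct MvPolynomial

namespace Groth.Agent.Lib.Helper14.Polar

section poly
variable {R : Type*} [CommRing R]

/-- pushforward of a multi-index -/
noncomputable def push {κ κ' : Type} [Fintype κ] (ρ : κ → κ') (ν : κ →₀ ℕ) : κ' →₀ ℕ :=
  ∑ o, Finsupp.single (ρ o) (ν o)

lemma push_apply {κ κ' : Type} [Fintype κ] [DecidableEq κ'] (ρ : κ → κ') (ν : κ →₀ ℕ) (j : κ') :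
    push ρ ν j = ∑ o, if ρ o = j then ν o else 0 := by
  rw [push, Finsupp.finsetSum_apply]
  refine Finset.sum_congr rfl (fun o _ => ?_)
  rw [Finsupp.single_apply]

/-- substitution `X o ↦ ε o * X (ρ o)` on a monomial -/
lemma aeval_monomial_push {κ κ' : Type} [Fintype κ] (ρ : κ → κ') (ε : κ → R) (ν : κ →₀ ℕ)
    (c : R) :
    aeval (fun o => C (ε o) * X (ρ o) : κ → MvPolynomial κ' R) (monomial ν c) =
      monomial (push ρ ν) (c * ∏ o, ε o ^ ν o) := by
  have h1 : (monomial (∑ o, Finsupp.single (ρ o) (ν o))) (c * ∏ o, ε o ^ ν o) =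
      C (c * ∏ o, ε o ^ ν o) * ∏ o, (X (ρ o) : MvPolynomial κ' R) ^ ν o := by
    rw [← mul_one (c * ∏ o, ε o ^ ν o), ← C_mul_monomial, mul_one, monomial_sum_one]
    simp only [X_pow_eq_monomial]
  rw [aeval_monomial, Finsupp.prod_fintype _ _ (fun i => pow_zero _), push, h1, algebraMap_eq,
    C_mul, map_prod]
  simp only [mul_pow, Finset.prod_mul_distrib, C_pow]
  ring

lemma push_id {κ : Type} [Fintype κ] (ν : κ →₀ ℕ) : push id ν = ν := by
  classical
  ext j
  rw [push_apply]
  simp

/-- the multi-index `(1,…,1)` -/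
noncomputable def one1 (d : ℕ) : Fin d →₀ ℕ := Finsupp.equivFunOnFinite.symm (fun _ => 1)

@[simp] lemma one1_apply (d : ℕ) (i : Fin d) : one1 d i = 1 := rfl

/-- scaling the `k`-th variable by `a` -/
noncomputable def thA (d : ℕ) (k : Fin d) (a : R) :
    MvPolynomial (Fin d) R →ₐ[R] MvPolynomial (Fin d) R :=
  aeval (fun i => C (if i = k then a else 1) * X i)

lemma coeff_thA {d : ℕ} (k : Fin d) (a : R) (p : MvPolynomial (Fin d) R) :
    coeff (one1 d) (thA d k a p) = a * coeff (one1 d) p := by
  classical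
  induction p using MvPolynomial.induction_on' with
  | add p q hp hq => rw [map_add, coeff_add, hp, hq, coeff_add, mul_add]
  | monomial ν c =>
    have h := aeval_monomial_push (R := R) (id : Fin d → Fin d) (fun i => if i = k then a else 1) ν c
    simp only [id] at h
    rw [thA, h, push_id, coeff_monomial, coeff_monomial]
    split_ifs with hν
    · subst hν
      simp only [one1_apply, pow_one, Finset.prod_ite_eq', Finset.mem_univ, if_true]
      ring
    · rw [mul_zero]

/-- `some i ↦ i`, `none ↦ k` -/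
def rhoK {d : ℕ} (k : Fin d) : Option (Fin d) → Fin d := fun o => o.elim k id

/-- substitution `X o ↦ ε o * X (rhoK k o)` -/
noncomputable def thE {d : ℕ} (k : Fin d) (ε : Option (Fin d) → R) :
    MvPolynomial (Option (Fin d)) R →ₐ[R] MvPolynomial (Fin d) R :=
  aeval (fun o => C (ε o) * X (rhoK k o))

lemma coeff_thE_add {d : ℕ} (k : Fin d) (p : MvPolynomial (Option (Fin d)) R) :
    coeff (one1 d) (thE k (fun _ => (1 : R)) p) =
      coeff (one1 d) (thE k (fun o => if o = none then (0 : R) else 1) p) +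
        coeff (one1 d) (thE k (fun o => if o = some k then (0 : R) else 1) p) := by
  classical
  induction p using MvPolynomial.induction_on' with
  | add p q hp hq =>
    rw [map_add, map_add, map_add, coeff_add, coeff_add, coeff_add, hp, hq]
    ring
  | monomial ν c =>
    rw [thE, thE, thE, aeval_monomial_push, aeval_monomial_push, aeval_monomial_push,
      coeff_monomial, coeff_monomial, coeff_monomial]
    split_ifs with hν
    · have h1 : ν none + ν (some k) = 1 := by
        have := congrArg (fun f => f k) hν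
        simp only [push_apply, Fintype.sum_option] at this
        have e1 : rhoK k none = k := rfl
        have e2 : ∀ x, rhoK k (some x) = x := fun _ => rfl
        simp only [e1, e2, if_true, one1_apply] at this
        have h5 : (∑ x : Fin d, if x = k then ν (some x) else 0) = ν (some k) := by
          rw [Finset.sum_eq_single k]
          · simp
          · intro b _ hb
            simp [hb]
          · intro h
            exact absurd (Finset.mem_univ k) h
        rw [h5] at this
        exact this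
      simp only [Fintype.prod_option, one_pow, Finset.prod_const_one, mul_one, if_true,
        reduceCtorEq, if_false, Option.some.injEq]
      have h2 : ∏ i : Fin d, (if i = k then (0 : R) else 1) ^ ν (some i) = 0 ^ ν (some k) := by
        rw [Finset.prod_eq_single k]
        · simp
        · intro b _ hb
          simp [hb]
        · intro h
          exact absurd (Finset.mem_univ k) h
      rw [h2]
      have h3 : (ν none = 0 ∧ ν (some k) = 1) ∨ (ν none = 1 ∧ ν (some k) = 0) := by omega
      rcases h3 with ⟨ha, hb⟩ | ⟨ha, hb⟩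
      · rw [ha, hb]; simp
      · rw [ha, hb]; simp
    · simp

lemma prod_X_eq_monomial {d n : ℕ} (c : Fin d → Fin n) :
    ∏ i, (X (c i) : MvPolynomial (Fin n) R) = monomial (push c (one1 d)) 1 := by
  rw [push, monomial_sum_one]
  refine Finset.prod_congr rfl (fun i _ => ?_)
  rw [one1_apply, ← X_pow_eq_monomial, pow_one]

lemma push_one1_eq_iff {d : ℕ} (c : Fin d → Fin d) :
    push c (one1 d) = one1 d ↔ Function.Bijective c := by
  classical
  constructor
  · intro h
    apply Finite.surjective_iff_bijective.mp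
    intro j
    have h1 := congrArg (fun f => f j) h
    simp only [push_apply, one1_apply] at h1
    by_contra hne
    push Not at hne
    rw [Finset.sum_eq_zero] at h1
    · exact absurd h1 (by norm_num)
    · intro i _
      rw [if_neg (hne i)]
  · intro h
    ext j
    rw [push_apply, one1_apply]
    set σ := Equiv.ofBijective c h with hσ
    rw [Finset.sum_eq_single (σ.symm j)]
    · rw [if_pos]
      · rfl
      · exact σ.apply_symm_apply j
    · intro i _ hi
      rw [if_neg]
      intro hc
      apply hi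
      rw [← hc]
      exact (σ.symm_apply_apply i).symm
    · intro hn
      exact absurd (Finset.mem_univ _) hn

lemma sum_coeff_smul {d : ℕ} {N : Type*} [AddCommMonoid N] [Module R N]
    (g : (Fin d → Fin d) → N) :
    ∑ c : Fin d → Fin d, coeff (one1 d) (∏ i, (X (c i) : MvPolynomial (Fin d) R)) • g c =
      ∑ σ : Equiv.Perm (Fin d), g σ := by
  classical
  have h1 : ∀ c : Fin d → Fin d,
      coeff (one1 d) (∏ i, (X (c i) : MvPolynomial (Fin d) R)) • g c =
        if Function.Bijective c then g c else 0 := by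
    intro c
    rw [prod_X_eq_monomial, coeff_monomial]
    by_cases hc : Function.Bijective c
    · rw [if_pos ((push_one1_eq_iff c).mpr hc), if_pos hc, one_smul]
    · rw [if_neg (fun h => hc ((push_one1_eq_iff c).mp h)), if_neg hc, zero_smul]
  simp only [h1]
  rw [← Finset.sum_filter]
  symm
  apply Finset.sum_bij (fun (σ : Equiv.Perm (Fin d)) _ => (σ : Fin d → Fin d))
  · intro σ _
    simp only [Finset.mem_filter, Finset.mem_univ, true_and]
    exact σ.bijective
  · intro σ _ τ _ h
    exact DFunLike.coe_injective h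
  · intro c hc
    simp only [Finset.mem_filter, Finset.mem_univ, true_and] at hc
    exact ⟨Equiv.ofBijective c hc, Finset.mem_univ _, rfl⟩
  · intro σ _
    rfl

lemma coeff_sum_X_pow (d : ℕ) :
    coeff (one1 d) ((∑ i : Fin d, (X i : MvPolynomial (Fin d) R)) ^ d) = (d.factorial : R) := by
  classical
  have h1 : (∑ i : Fin d, (X i : MvPolynomial (Fin d) R)) ^ d =
      ∏ _k : Fin d, ∑ i : Fin d, (X i : MvPolynomial (Fin d) R) := by
    rw [Finset.prod_const, Finset.card_univ, Fintype.card_fin]
  rw [h1, Finset.prod_univ_sum, Fintype.piFinset_univ, coeff_sum]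
  have h2 := sum_coeff_smul (R := R) (d := d) (N := R) (fun _ => (1 : R))
  simp only [smul_eq_mul, mul_one, Finset.sum_const, Finset.card_univ, Fintype.card_perm,
    Fintype.card_fin, nsmul_eq_mul] at h2
  exact h2

end poly

section framework
variable {A : Type u} [CommRing A] {M N : Type u} [AddCommGroup M] [Module A M]
  [AddCommGroup N] [Module A N] (F : M →ₚₗ[A] N)
  (S₀ : Type u) [CommRing S₀] [Algebra A S₀]

open Groth.Agent.Lib.Helper14.GammaGen (rTensor_smul)

/-- `S₀ ⊗ M → S₀[κ] ⊗ M` -/
noncomputable def up (κ : Type) (M : Type u) [AddCommGroup M] [Module A M] :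
    S₀ ⊗[A] M →ₗ[A] MvPolynomial κ S₀ ⊗[A] M :=
  (IsScalarTower.toAlgHom A S₀ (MvPolynomial κ S₀)).toLinearMap.rTensor M

lemma up_tmul (κ : Type) (s : S₀) (m : M) : up S₀ κ M (s ⊗ₜ[A] m) = (C s) ⊗ₜ[A] m := rfl

/-- the element `∑ tᵢ • zᵢ` -/
noncomputable def lin {ι κ : Type} [Fintype ι] (z : ι → S₀ ⊗[A] M) (t : ι → MvPolynomial κ S₀) :
    MvPolynomial κ S₀ ⊗[A] M := ∑ i, t i • up S₀ κ M (z i)

lemma up_map {κ κ' : Type} (θ : MvPolynomial κ S₀ →ₐ[S₀] MvPolynomial κ' S₀) (z : S₀ ⊗[A] M) :
    (θ.restrictScalars A).toLinearMap.rTensor M (up S₀ κ M z) = up S₀ κ' M z := by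
  rw [up, up, ← LinearMap.comp_apply, ← LinearMap.rTensor_comp]
  congr 2
  ext s
  simp only [LinearMap.comp_apply, AlgHom.toLinearMap_apply, AlgHom.restrictScalars_apply,
    IsScalarTower.coe_toAlgHom', AlgHom.commutes]

lemma lin_map {ι κ κ' : Type} [Fintype ι] (θ : MvPolynomial κ S₀ →ₐ[S₀] MvPolynomial κ' S₀)
    (z : ι → S₀ ⊗[A] M) (t : ι → MvPolynomial κ S₀) :
    (θ.restrictScalars A).toLinearMap.rTensor M (lin S₀ z t) = lin S₀ z (fun i => θ (t i)) := by
  rw [lin, lin, map_sum]
  refine Finset.sum_congr rfl (fun i _ => ?_)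
  rw [rTensor_smul, up_map]
  rfl

lemma F_lin_map {ι κ κ' : Type} [Fintype ι] (θ : MvPolynomial κ S₀ →ₐ[S₀] MvPolynomial κ' S₀)
    (z : ι → S₀ ⊗[A] M) (t : ι → MvPolynomial κ S₀) :
    F.toFun' (MvPolynomial κ' S₀) (lin S₀ z (fun i => θ (t i))) =
      (θ.restrictScalars A).toLinearMap.rTensor N (F.toFun' (MvPolynomial κ S₀) (lin S₀ z t)) := by
  rw [← lin_map, PolynomialLaw.isCompat_apply']

/-- coefficient extraction `S₀[κ] ⊗ N → S₀ ⊗ N` -/
noncomputable def coefS {κ : Type} (N : Type u) [AddCommGroup N] [Module A N] (l : κ →₀ ℕ) :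
    MvPolynomial κ S₀ ⊗[A] N →ₗ[A] S₀ ⊗[A] N :=
  ((MvPolynomial.lcoeff S₀ l).restrictScalars A).rTensor N

lemma coefS_tmul {κ : Type} (l : κ →₀ ℕ) (p : MvPolynomial κ S₀) (n : N) :
    coefS S₀ N l (p ⊗ₜ[A] n) = (coeff l p) ⊗ₜ[A] n := rfl

/-- the polarisation over `S₀` -/
noncomputable def polS {d : ℕ} (z : Fin d → S₀ ⊗[A] M) : S₀ ⊗[A] N :=
  coefS S₀ N (one1 d) (F.toFun' (MvPolynomial (Fin d) S₀) (lin S₀ z X))

lemma up_smul (κ : Type) (a : S₀) (z : S₀ ⊗[A] M) : up S₀ κ M (a • z) = (C a : MvPolynomial κ S₀) • up S₀ κ M z := by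
  rw [up, rTensor_smul]
  rfl

lemma lin_update {κ : Type} {d : ℕ} (z : Fin d → S₀ ⊗[A] M) (k : Fin d) (w : S₀ ⊗[A] M)
    (t : Fin d → MvPolynomial κ S₀) :
    lin S₀ (Function.update z k w) t =
      t k • up S₀ κ M w + ∑ i ∈ Finset.univ.erase k, t i • up S₀ κ M (z i) := by
  rw [lin, ← Finset.add_sum_erase _ _ (Finset.mem_univ k), Function.update_self]
  congr 1
  refine Finset.sum_congr rfl (fun i hi => ?_)
  rw [Function.update_of_ne (Finset.ne_of_mem_erase hi)]

lemma coefS_thA {d : ℕ} (k : Fin d) (a : S₀) (y : MvPolynomial (Fin d) S₀ ⊗[A] N) :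
    coefS S₀ N (one1 d) (((thA d k a).restrictScalars A).toLinearMap.rTensor N y) =
      a • coefS S₀ N (one1 d) y := by
  induction y using TensorProduct.induction_on with
  | zero => simp
  | add x y hx hy => rw [map_add, map_add, hx, hy, map_add, smul_add]
  | tmul p n =>
    rw [LinearMap.rTensor_tmul, coefS_tmul, coefS_tmul, AlgHom.toLinearMap_apply,
      AlgHom.restrictScalars_apply, coeff_thA, TensorProduct.smul_tmul', smul_eq_mul]

lemma coefS_thE_add {d : ℕ} (k : Fin d) (y : MvPolynomial (Option (Fin d)) S₀ ⊗[A] N) :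
    coefS S₀ N (one1 d)
        (((thE k (fun _ => (1 : S₀))).restrictScalars A).toLinearMap.rTensor N y) =
      coefS S₀ N (one1 d)
          (((thE k (fun o => if o = none then (0 : S₀) else 1)).restrictScalars
            A).toLinearMap.rTensor N y) +
        coefS S₀ N (one1 d)
          (((thE k (fun o => if o = some k then (0 : S₀) else 1)).restrictScalars
            A).toLinearMap.rTensor N y) := by
  induction y using TensorProduct.induction_on with
  | zero => simp
  | add x y hx hy =>
    rw [map_add, map_add, map_add, map_add, map_add, map_add, hx, hy]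
    abel
  | tmul p n =>
    simp only [LinearMap.rTensor_tmul, coefS_tmul, AlgHom.toLinearMap_apply,
      AlgHom.restrictScalars_apply]
    rw [coeff_thE_add, TensorProduct.add_tmul]

theorem polS_update_smul {d : ℕ} (z : Fin d → S₀ ⊗[A] M) (k : Fin d) (a : S₀) (u : S₀ ⊗[A] M) :
    polS F S₀ (Function.update z k (a • u)) = a • polS F S₀ (Function.update z k u) := by
  have h1 : lin S₀ (Function.update z k (a • u)) (X : Fin d → MvPolynomial (Fin d) S₀) =
      lin S₀ (Function.update z k u) (fun i => thA d k a (X i)) := by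
    rw [lin_update, lin_update, up_smul, smul_smul]
    congr 1
    · congr 1
      rw [thA, aeval_X, if_pos rfl, mul_comm]
    · refine Finset.sum_congr rfl (fun i hi => ?_)
      rw [thA, aeval_X, if_neg (Finset.ne_of_mem_erase hi), C_1, one_mul]
  rw [polS, h1, F_lin_map, coefS_thA]
  rfl

theorem polS_update_add {d : ℕ} (z : Fin d → S₀ ⊗[A] M) (k : Fin d) (u v : S₀ ⊗[A] M) :
    polS F S₀ (Function.update z k (u + v)) =
      polS F S₀ (Function.update z k u) + polS F S₀ (Function.update z k v) := by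
  set g : Option (Fin d) → S₀ ⊗[A] M := fun o => o.elim v (Function.update z k u) with hg
  have e1 : ∀ ε : Option (Fin d) → S₀, ∀ o, thE k ε (X o) = C (ε o) * X (rhoK k o) := by
    intro ε o
    rw [thE, aeval_X]
  have h0 : ∀ ε : Option (Fin d) → S₀,
      lin S₀ g (fun o => thE k ε (X o)) =
        (C (ε none) * X k) • up S₀ (Fin d) M v +
          lin S₀ (Function.update z k u) (fun i => C (ε (some i)) * X i) := by
    intro ε
    rw [lin, Fintype.sum_option]
    simp only [e1]
    rfl
  have h1 : lin S₀ (Function.update z k (u + v)) (X : Fin d → MvPolynomial (Fin d) S₀) =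
      lin S₀ g (fun o => thE k (fun _ => (1 : S₀)) (X o)) := by
    rw [h0, lin_update, lin_update, map_add, smul_add]
    simp only [C_1, one_mul]
    abel
  have h2 : lin S₀ (Function.update z k u) (X : Fin d → MvPolynomial (Fin d) S₀) =
      lin S₀ g (fun o => thE k (fun o => if o = none then (0 : S₀) else 1) (X o)) := by
    rw [h0]
    simp only [if_true, C_0, zero_mul, zero_smul, zero_add, reduceCtorEq, if_false, C_1, one_mul]
  have h3 : lin S₀ (Function.update z k v) (X : Fin d → MvPolynomial (Fin d) S₀) =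
      lin S₀ g (fun o => thE k (fun o => if o = some k then (0 : S₀) else 1) (X o)) := by
    rw [h0, lin_update, lin_update]
    simp only [reduceCtorEq, if_false, C_1, one_mul, if_true, C_0, zero_mul, zero_smul, zero_add,
      Option.some.injEq]
    congr 1
    refine Finset.sum_congr rfl (fun i hi => ?_)
    rw [if_neg (Finset.ne_of_mem_erase hi), C_1, one_mul]
  rw [polS, polS, polS, h1, h2, h3, F_lin_map, F_lin_map, F_lin_map, coefS_thE_add]

/-- the polarisation as an `S₀`-multilinear map -/
noncomputable def polM (d : ℕ) :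
    MultilinearMap S₀ (fun _ : Fin d => S₀ ⊗[A] M) (S₀ ⊗[A] N) where
  toFun := polS F S₀
  map_update_add' := by
    intro inst z k u v
    rw [Subsingleton.elim inst (instDecidableEqFin d)]
    exact polS_update_add F S₀ z k u v
  map_update_smul' := by
    intro inst z k a u
    rw [Subsingleton.elim inst (instDecidableEqFin d)]
    exact polS_update_smul F S₀ z k a u

lemma polM_apply {d : ℕ} (z : Fin d → S₀ ⊗[A] M) : polM F S₀ d z = polS F S₀ z := rfl

lemma coefS_smul_up {κ : Type} (l : κ →₀ ℕ) (q : MvPolynomial κ S₀) (y : S₀ ⊗[A] N) :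
    coefS S₀ N l (q • up S₀ κ N y) = coeff l q • y := by
  induction y using TensorProduct.induction_on with
  | zero => simp
  | add x y hx hy => rw [map_add, smul_add, map_add, hx, hy, smul_add]
  | tmul s n =>
    rw [up_tmul, TensorProduct.smul_tmul', coefS_tmul, smul_eq_mul, mul_comm, coeff_C_mul,
      TensorProduct.smul_tmul', smul_eq_mul, mul_comm]

/-- on the diagonal, the polarisation of a law homogeneous of degree `d` is `d!` times the law -/
theorem polS_diag {d : ℕ} (hF : PolLaw.IsHomog F d) (z : S₀ ⊗[A] M) :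
    polS F S₀ (fun _ : Fin d => z) = (d.factorial : S₀) • F.toFun' S₀ z := by
  have h1 : lin S₀ (fun _ : Fin d => z) (X : Fin d → MvPolynomial (Fin d) S₀) =
      (∑ i : Fin d, (X i : MvPolynomial (Fin d) S₀)) • up S₀ (Fin d) M z := by
    rw [lin, Finset.sum_smul]
  have h2 : F.toFun' (MvPolynomial (Fin d) S₀) (up S₀ (Fin d) M z) =
      up S₀ (Fin d) N (F.toFun' S₀ z) := by
    rw [up, up, PolynomialLaw.isCompat_apply']
  rw [polS, h1, hF, h2, coefS_smul_up, coeff_sum_X_pow]

/-- naturality of the polarisation in `S₀` -/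
theorem polS_map {S₁ : Type u} [CommRing S₁] [Algebra A S₁] (j : S₀ →ₐ[A] S₁) {d : ℕ}
    (z : Fin d → S₀ ⊗[A] M) :
    polS F S₁ (fun i => j.toLinearMap.rTensor M (z i)) =
      j.toLinearMap.rTensor N (polS F S₀ z) := by
  set m : MvPolynomial (Fin d) S₀ →ₐ[A] MvPolynomial (Fin d) S₁ := MvPolynomial.mapAlgHom j
    with hm
  have hup : ∀ (L : Type u) [AddCommGroup L] [Module A L] (w : S₀ ⊗[A] L),
      m.toLinearMap.rTensor L (up S₀ (Fin d) L w) =
        up S₁ (Fin d) L (j.toLinearMap.rTensor L w) := by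
    intro L _ _ w
    rw [up, up, ← LinearMap.comp_apply, ← LinearMap.comp_apply, ← LinearMap.rTensor_comp,
      ← LinearMap.rTensor_comp]
    congr 2
    ext s
    simp [hm]
  have h1 : m.toLinearMap.rTensor M (lin S₀ z X) =
      lin S₁ (fun i => j.toLinearMap.rTensor M (z i)) X := by
    rw [lin, lin, map_sum]
    refine Finset.sum_congr rfl (fun i _ => ?_)
    rw [rTensor_smul, hup]
    congr 1
    simp [hm]
  have h2 : ∀ y : MvPolynomial (Fin d) S₀ ⊗[A] N,
      coefS S₁ N (one1 d) (m.toLinearMap.rTensor N y) =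
        j.toLinearMap.rTensor N (coefS S₀ N (one1 d) y) := by
    intro y
    induction y using TensorProduct.induction_on with
    | zero => simp
    | add x y hx hy => rw [map_add, map_add, hx, hy, map_add, map_add]
    | tmul p n =>
      rw [LinearMap.rTensor_tmul, coefS_tmul, coefS_tmul, LinearMap.rTensor_tmul]
      simp [hm, coeff_map]
  rw [polS, polS, ← h1, ← PolynomialLaw.isCompat_apply', h2]

end framework

section abs
variable {A : Type u} [CommRing A] {M N : Type u} [AddCommGroup M] [Module A M]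
  [AddCommGroup N] [Module A N] (F : M →ₚₗ[A] N)

/-- the full polarisation of a polynomial law, as an `A`-multilinear map `M^d → N`:
`pol F d f` is the coefficient of `X₁ ⋯ X_d` in `F (∑ Xᵢ ⊗ fᵢ)` -/
noncomputable def pol (d : ℕ) : MultilinearMap A (fun _ : Fin d => M) N :=
  (TensorProduct.lid A N).toLinearMap.compMultilinearMap
    ((polM F A d).compLinearMap (fun _ => TensorProduct.mk A A M 1))

lemma pol_apply {d : ℕ} (f : Fin d → M) :
    pol F d f = TensorProduct.lid A N (polS F A (fun i => (1 : A) ⊗ₜ[A] f i)) := rfl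

lemma rTensor_ofId (S₀ : Type u) [CommRing S₀] [Algebra A S₀] (L : Type u) [AddCommGroup L]
    [Module A L] (y : A ⊗[A] L) :
    (Algebra.ofId A S₀).toLinearMap.rTensor L y = (1 : S₀) ⊗ₜ[A] TensorProduct.lid A L y := by
  induction y using TensorProduct.induction_on with
  | zero => simp
  | add x y hx hy => rw [map_add, hx, hy, map_add, TensorProduct.tmul_add]
  | tmul a l =>
    rw [LinearMap.rTensor_tmul, TensorProduct.lid_tmul, AlgHom.toLinearMap_apply,
      Algebra.ofId_apply, Algebra.algebraMap_eq_smul_one, TensorProduct.smul_tmul]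

/-- the polarisation over `S₀` at constant arguments -/
theorem polS_one_tmul (S₀ : Type u) [CommRing S₀] [Algebra A S₀] {d : ℕ} (f : Fin d → M) :
    polS F S₀ (fun i => (1 : S₀) ⊗ₜ[A] f i) = (1 : S₀) ⊗ₜ[A] pol F d f := by
  have h := polS_map F A (Algebra.ofId A S₀) (fun i => (1 : A) ⊗ₜ[A] f i)
  simp only [LinearMap.rTensor_tmul, AlgHom.toLinearMap_apply, map_one] at h
  rw [h, rTensor_ofId, pol_apply]

/-- **Polarisation identity**: `∑_w (∏ᵢ s_{w i}) ⊗ pol(b ∘ w) = d! F(∑ sⱼ ⊗ bⱼ)` -/
theorem sum_pol_eq {d : ℕ} (hF : PolLaw.IsHomog F d) (S₀ : Type u) [CommRing S₀] [Algebra A S₀]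
    {n : ℕ} (s : Fin n → S₀) (b : Fin n → M) :
    ∑ w : Fin d → Fin n, (∏ i, s (w i)) ⊗ₜ[A] pol F d (fun i => b (w i)) =
      (d.factorial : S₀) • F.toFun' S₀ (∑ j, s j ⊗ₜ[A] b j) := by
  rw [← polS_diag F S₀ hF, ← polM_apply]
  have h := MultilinearMap.map_sum (polM F S₀ d) (fun (_ : Fin d) (j : Fin n) => s j ⊗ₜ[A] b j)
  rw [h]
  refine Finset.sum_congr rfl (fun w _ => ?_)
  have h2 : (fun i => s (w i) ⊗ₜ[A] b (w i)) =
      fun i => s (w i) • ((1 : S₀) ⊗ₜ[A] b (w i)) := by
    funext i
    rw [TensorProduct.smul_tmul', smul_eq_mul, mul_one]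
  rw [h2, MultilinearMap.map_smul_univ, polM_apply, polS_one_tmul, TensorProduct.smul_tmul',
    smul_eq_mul, mul_one]

end abs

end Groth.Agent.Lib.Helper14.Polar
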