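import Mathlib

/-!
# Symmetric tensors of a finite free module (helper14)

`type c` (the multi-index of a tuple `c : Fin d → Fin m`), `exists_perm_of_type_eq` (same type ⇒
same orbit), `exists_type`, `prod_X_eq_monomial`; `bTb` (the standard basis of `T^d(A^m)`),
`symT μ` (the orbit sums), `symm_decomp` (a symmetric tensor is an explicit combination of the
`symT`).
-/

set_option autoImplicit false
universe u
open TensorProduct

namespace Groth.Agent.Lib.Helper14.TSFree

section types
variable {d m : ℕ}

/-- the type (multiset of values, as a multi-index) of a tuple -/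
noncomputable def type (c : Fin d → Fin m) : Fin m →₀ ℕ := ∑ i, Finsupp.single (c i) 1

lemma type_apply (c : Fin d → Fin m) (j : Fin m) :
    type c j = (Finset.univ.filter (fun i => c i = j)).card := by
  classical
  rw [type, Finsupp.finsetSum_apply, Finset.card_filter]
  refine Finset.sum_congr rfl (fun i _ => ?_)
  rw [Finsupp.single_apply]

lemma type_comp_perm (c : Fin d → Fin m) (σ : Equiv.Perm (Fin d)) : type (c ∘ σ) = type c := by
  unfold type
  exact Equiv.sum_comp σ (fun i => Finsupp.single (c i) 1)

lemma degree_type (c : Fin d → Fin m) : Finsupp.degree (type c) = d := by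
  rw [type, map_sum]
  simp

lemma exists_perm_of_type_eq {c c' : Fin d → Fin m} (h : type c = type c') :
    ∃ σ : Equiv.Perm (Fin d), c' = c ∘ σ := by
  classical
  have hcard : ∀ j : Fin m, Fintype.card {i // c' i = j} = Fintype.card {i // c i = j} := by
    intro j
    rw [Fintype.card_subtype, Fintype.card_subtype, ← type_apply, ← type_apply, h]
  let ε : ∀ j : Fin m, {i // c' i = j} ≃ {i // c i = j} := fun j => Fintype.equivOfCardEq (hcard j)
  let σ : Equiv.Perm (Fin d) :=
    (Equiv.sigmaFiberEquiv c').symm.trans ((Equiv.sigmaCongrRight ε).trans (Equiv.sigmaFiberEquiv c))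
  refine ⟨σ, funext (fun i => ?_)⟩
  have : c (σ i) = c' i := (ε (c' i) ⟨i, rfl⟩).2
  exact this.symm

lemma exists_type (μ : Fin m →₀ ℕ) (hμ : Finsupp.degree μ = d) :
    ∃ c : Fin d → Fin m, type c = μ := by
  classical
  set l := (Finsupp.toMultiset μ).toList with hl
  have hlen : l.length = d := by
    rw [hl, Multiset.length_toList, Finsupp.card_toMultiset, ← hμ]
    rfl
  subst hlen
  refine ⟨fun i => l.get i, ?_⟩
  have h2 : Finsupp.toMultiset (type (fun i => l.get i)) = Finsupp.toMultiset μ := by
    have : Finsupp.toMultiset (type (fun i => l.get i)) =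
        Multiset.map (fun i => l.get i) Finset.univ.val := by
      rw [type, map_sum]
      simp only [Finsupp.toMultiset_single, one_smul]
      rw [← Multiset.sum_map_singleton (Multiset.map (fun i => l.get i) Finset.univ.val),
        Multiset.map_map]
      rfl
    rw [this, Fin.univ_val_map, List.ofFn_get, hl, Multiset.coe_toList]
  have h3 := congrArg Multiset.toFinsupp h2
  rwa [Finsupp.toMultiset_toFinsupp, Finsupp.toMultiset_toFinsupp] at h3

lemma prod_X_eq_monomial {R : Type*} [CommSemiring R] (c : Fin d → Fin m) :
    ∏ i, (MvPolynomial.X (c i) : MvPolynomial (Fin m) R) = MvPolynomial.monomial (type c) 1 := by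
  rw [type, MvPolynomial.monomial_sum_one]
  refine Finset.prod_congr rfl (fun i _ => ?_)
  rw [← MvPolynomial.X_pow_eq_monomial, pow_one]

end types

section basis
variable (A : Type u) [CommRing A] (d m : ℕ)

/-- the standard basis of `T^d(A^m)` -/
noncomputable def bTb : Module.Basis (Fin d → Fin m) A (⨂[A] _ : Fin d, (Fin m → A)) :=
  Basis.piTensorProduct (fun _ : Fin d => Pi.basisFun A (Fin m))

lemma bTb_apply (c : Fin d → Fin m) :
    bTb A d m c = PiTensorProduct.tprod A (fun i => (Pi.single (c i) (1 : A) : Fin m → A)) := by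
  rw [bTb, Basis.piTensorProduct_apply]
  simp [Pi.basisFun_apply]

lemma reindex_bTb (σ : Equiv.Perm (Fin d)) (c : Fin d → Fin m) :
    PiTensorProduct.reindex A (fun _ : Fin d => (Fin m → A)) σ (bTb A d m c) =
      bTb A d m (c ∘ σ.symm) := by
  rw [bTb_apply, bTb_apply, PiTensorProduct.reindex_tprod]
  rfl

lemma repr_reindex (σ : Equiv.Perm (Fin d)) (z : ⨂[A] _ : Fin d, (Fin m → A))
    (c : Fin d → Fin m) :
    (bTb A d m).repr (PiTensorProduct.reindex A (fun _ : Fin d => (Fin m → A)) σ z) c =
      (bTb A d m).repr z (c ∘ σ) := by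
  classical
  have h : (Finsupp.lapply c) ∘ₗ (bTb A d m).repr.toLinearMap ∘ₗ
      (PiTensorProduct.reindex A (fun _ : Fin d => (Fin m → A)) σ).toLinearMap =
      (Finsupp.lapply (c ∘ σ)) ∘ₗ (bTb A d m).repr.toLinearMap := by
    apply (bTb A d m).ext
    intro c'
    simp only [LinearMap.comp_apply, LinearEquiv.coe_coe, reindex_bTb, Module.Basis.repr_self,
      Finsupp.lapply_apply, Finsupp.single_apply]
    congr 1
    apply propext
    constructor
    · intro h
      rw [← h]
      funext i
      simp
    · intro h
      rw [h]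
      funext i
      simp
  exact LinearMap.congr_fun h z

/-- the symmetric tensor of type `μ` -/
noncomputable def symT (μ : Fin m →₀ ℕ) : ⨂[A] _ : Fin d, (Fin m → A) :=
  ∑ c ∈ Finset.univ.filter (fun c : Fin d → Fin m => type c = μ), bTb A d m c

lemma reindex_symT (σ : Equiv.Perm (Fin d)) (μ : Fin m →₀ ℕ) :
    PiTensorProduct.reindex A (fun _ : Fin d => (Fin m → A)) σ (symT A d m μ) = symT A d m μ := by
  classical
  rw [symT, map_sum]
  simp_rw [reindex_bTb]
  apply Finset.sum_bij' (fun c _ => c ∘ σ.symm) (fun c _ => c ∘ σ)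
  · intro c hc
    simp only [Finset.mem_filter, Finset.mem_univ, true_and] at hc ⊢
    rw [type_comp_perm, hc]
  · intro c hc
    simp only [Finset.mem_filter, Finset.mem_univ, true_and] at hc ⊢
    rw [type_comp_perm, hc]
  · intro c _
    funext i
    simp
  · intro c _
    funext i
    simp
  · intro c _
    rfl

/-- a chosen representative of each type -/
noncomputable def rep (c : Fin d → Fin m) : Fin d → Fin m :=
  (Quotient.mk (Setoid.ker (type (d := d) (m := m))) c).out

lemma type_rep (c : Fin d → Fin m) : type (rep d m c) = type c := by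
  have := Quotient.exact (Quotient.out_eq (Quotient.mk (Setoid.ker (type (d := d) (m := m))) c))
  exact this

lemma rep_eq_of_type_eq {c c' : Fin d → Fin m} (h : type c = type c') : rep d m c = rep d m c' := by
  unfold rep
  congr 1
  exact Quotient.sound h

lemma rep_rep (c : Fin d → Fin m) : rep d m (rep d m c) = rep d m c :=
  rep_eq_of_type_eq d m (type_rep d m c)

/-- coefficients of a symmetric tensor depend only on the type -/
lemma repr_eq_of_type_eq {z : ⨂[A] _ : Fin d, (Fin m → A)}
    (hz : ∀ σ : Equiv.Perm (Fin d),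
      PiTensorProduct.reindex A (fun _ : Fin d => (Fin m → A)) σ z = z)
    {c c' : Fin d → Fin m} (h : type c = type c') :
    (bTb A d m).repr z c = (bTb A d m).repr z c' := by
  obtain ⟨σ, rfl⟩ := exists_perm_of_type_eq h
  rw [← repr_reindex, hz σ]

/-- decomposition of a symmetric tensor along the `symT` -/
theorem symm_decomp {z : ⨂[A] _ : Fin d, (Fin m → A)}
    (hz : ∀ σ : Equiv.Perm (Fin d),
      PiTensorProduct.reindex A (fun _ : Fin d => (Fin m → A)) σ z = z) :
    z = ∑ c : Fin d → Fin m,
      (if c = rep d m c then (bTb A d m).repr z c else 0) • symT A d m (type c) := by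
  classical
  conv_lhs => rw [← (bTb A d m).sum_repr z]
  simp_rw [symT, Finset.smul_sum, Finset.sum_filter]
  rw [Finset.sum_comm]
  refine Finset.sum_congr rfl (fun c' _ => ?_)
  rw [Finset.sum_eq_single (rep d m c')]
  · rw [if_pos (type_rep d m c').symm, if_pos (rep_rep d m c').symm,
      repr_eq_of_type_eq A d m hz (type_rep d m c')]
  · intro c _ hc
    by_cases h1 : type c' = type c
    · rw [if_pos h1]
      by_cases h2 : c = rep d m c
      · exact absurd (h2.trans (rep_eq_of_type_eq d m h1.symm)) hc
      · rw [if_neg h2, zero_smul]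
    · rw [if_neg h1]
  · intro h
    exact absurd (Finset.mem_univ _) h

end basis

end Groth.Agent.Lib.Helper14.TSFree
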