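import Mathlib
import Groth.Prelude.Def_PolLaw
import Groth.Prelude.Def_PolLaw2
import Groth.Prelude.Def_W4c5normfunctorschNorm
import Groth.Agent.Lib.Helper14GammaFin

/-!
# Symmetric tensors act on the top exterior power through the norm (helper14)

`R'` free of rank `d` over `R`, `(C, γ)` a `Γ^d_R(R')`, `φ : C → T^d(R')` with `φ ∘ γ = tpowLaw`, `π : C → R`
with `π ∘ γ = normLaw`: then `φ(c) · x - π(c) x ∈ altSpan` (`main`).
* `alt_eq_det_smul`: an alternating map in rank-many variables is `e.det • (value at the basis)`.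
* `FS`: the `S`-alternating map `(S ⊗ R')^d → S ⊗ Λ^d`, `FS_tmul`, `FS_mul`.
* `tpowLaw_sum`: expansion of the tensor power law on `∑ sₖ ⊗ rₖ`.
* `Nb_eq_top`: coefficients of `γ` at a generating family span `C`; `equivFinsupp_lTensor`.
-/

set_option autoImplicit false
universe u
open TensorProduct

namespace Groth.Agent.Lib.Helper14.TopExt

section alt
variable {K : Type*} [CommRing K] {V N : Type*} [AddCommGroup V] [Module K V] [AddCommGroup N]
  [Module K N] {ι : Type*} [Fintype ι] [DecidableEq ι]

/-- an alternating map in `rank` many variables is determined by its value on a basis -/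
theorem alt_eq_det_smul (e : Module.Basis ι K V) (f : V [⋀^ι]→ₗ[K] N) (v : ι → V) :
    f v = e.det v • f e := by
  have h : f = (LinearMap.toSpanSingleton K N (f e)).compAlternatingMap e.det := by
    apply Module.Basis.ext_alternating e
    intro w hw
    set σ : Equiv.Perm ι := Equiv.ofBijective w (Finite.injective_iff_bijective.mp hw) with hσ
    have h1 : (fun i => e (w i)) = (⇑e) ∘ σ := rfl
    rw [h1, AlternatingMap.map_perm, LinearMap.compAlternatingMap_apply, AlternatingMap.map_perm,
      Module.Basis.det_self, LinearMap.toSpanSingleton_apply]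
    simp only [Units.smul_def]
    rw [smul_assoc, one_smul]
  conv_lhs => rw [h]
  rw [LinearMap.compAlternatingMap_apply, LinearMap.toSpanSingleton_apply]

end alt

section main
variable (R : Type u) [CommRing R] (R' : Type u) [CommRing R'] [Algebra R R'] (d : ℕ)

/-- the top exterior power as a quotient of the tensor power -/
abbrev Lam : Type u := (⨂[R] _ : Fin d, R') ⧸ SymTen.altSpan R R' d

/-- `q ∘ tprod` as an alternating map into the quotient `T^d / altSpan` -/
noncomputable def f₀ : R' [⋀^Fin d]→ₗ[R] Lam R R' d :=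
  { (SymTen.altSpan R R' d).mkQ.compMultilinearMap (PiTensorProduct.tprod R) with
    map_eq_zero_of_eq' := fun v i j hv hij => by
      show (SymTen.altSpan R R' d).mkQ (PiTensorProduct.tprod R v) = 0
      rw [Submodule.mkQ_apply, Submodule.Quotient.mk_eq_zero]
      exact Submodule.subset_span ⟨v, i, j, hij, hv, rfl⟩ }

lemma f₀_apply (v : Fin d → R') :
    f₀ R R' d v = (SymTen.altSpan R R' d).mkQ (PiTensorProduct.tprod R v) := rfl

variable {R R' d}
variable (b : Module.Basis (Fin d) R R')

section S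
variable (S : Type u) [CommRing S] [Algebra R S]

/-- the `S`-alternating map `(S ⊗ R')^d → S ⊗ Λ` -/
noncomputable def FS : (S ⊗[R] R') [⋀^Fin d]→ₗ[S] (S ⊗[R] Lam R R' d) :=
  (LinearMap.toSpanSingleton S _ ((1 : S) ⊗ₜ[R] f₀ R R' d b)).compAlternatingMap
    (Algebra.TensorProduct.basis S b).det

lemma FS_tmul (s : Fin d → S) (r : Fin d → R') :
    FS b S (fun i => s i ⊗ₜ[R] r i) = (∏ i, s i) ⊗ₜ[R] f₀ R R' d r := by
  have hM : (Algebra.TensorProduct.basis S b).toMatrix (fun i => s i ⊗ₜ[R] r i) =
      Matrix.of (fun k i => s i * ((b.toMatrix r).map (algebraMap R S)) k i) := by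
    ext k i
    rw [Module.Basis.toMatrix_apply, Algebra.TensorProduct.basis_repr_tmul, Matrix.of_apply,
      Matrix.map_apply, Module.Basis.toMatrix_apply]
    simp
  rw [FS, LinearMap.compAlternatingMap_apply, LinearMap.toSpanSingleton_apply,
    Module.Basis.det_apply, hM, Matrix.det_mul_row]
  have h2 : ((b.toMatrix r).map (algebraMap R S)).det = algebraMap R S (b.det r) := by
    rw [Module.Basis.det_apply, RingHom.map_det]
    rfl
  rw [h2, alt_eq_det_smul b (f₀ R R' d) r, mul_smul, algebraMap_smul, ← TensorProduct.tmul_smul,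
    TensorProduct.smul_tmul', smul_eq_mul, mul_one]

lemma FS_mul (z : S ⊗[R] R') (x : Fin d → R') :
    FS b S (fun j => z * ((1 : S) ⊗ₜ[R] x j)) = Algebra.norm S z ⊗ₜ[R] f₀ R R' d x := by
  have h1 : (fun j => z * ((1 : S) ⊗ₜ[R] x j)) =
      (Algebra.lmul S (S ⊗[R] R') z) ∘ (fun j => (1 : S) ⊗ₜ[R] x j) := rfl
  have h2 := FS_tmul b S (fun _ => 1) x
  rw [FS, LinearMap.compAlternatingMap_apply, LinearMap.toSpanSingleton_apply] at h2
  rw [FS, LinearMap.compAlternatingMap_apply, h1, Module.Basis.det_comp, ← Algebra.norm_apply,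
    LinearMap.toSpanSingleton_apply, mul_smul, h2, Finset.prod_const_one,
    TensorProduct.smul_tmul', smul_eq_mul, mul_one]

end S

section tpow

lemma prod_tmul_prod {S : Type u} [CommSemiring S] [Algebra R S] {T : Type u} [CommRing T]
    [Algebra R T] {κ : Type*} (F : Finset κ) (a : κ → S) (c : κ → T) :
    ∏ j ∈ F, (a j ⊗ₜ[R] c j) = (∏ j ∈ F, a j) ⊗ₜ[R] (∏ j ∈ F, c j) := by
  classical
  induction F using Finset.induction_on with
  | empty => simp [Algebra.TensorProduct.one_def]
  | insert j s hj ih =>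
    rw [Finset.prod_insert hj, Finset.prod_insert hj, Finset.prod_insert hj, ih,
      Algebra.TensorProduct.tmul_mul_tmul]

lemma tpowLaw_sum (S : Type u) [CommSemiring S] [Algebra R S] {n : ℕ} (s : Fin n → S)
    (r : Fin n → R') :
    (SymTen.tpowLaw R R' d).law.toFun' S (∑ k, s k ⊗ₜ[R] r k) =
      ∑ w : Fin d → Fin n, (∏ j, s (w j)) ⊗ₜ[R] PiTensorProduct.tprod R (fun j => r (w j)) := by
  rw [SymTen.tpowLaw, PolLaw.MulLaw.prodMap_toFun']
  simp only [map_sum, Algebra.TensorProduct.map_tmul, AlgHom.id_apply]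
  rw [Finset.prod_univ_sum, Fintype.piFinset_univ]
  refine Finset.sum_congr rfl (fun w _ => ?_)
  rw [prod_tmul_prod]
  congr 1
  simp only [PiTensorProduct.singleAlgHom_apply, MonoidHom.mulSingle_apply]
  rw [← PiTensorProduct.tprod_prod]
  exact congrArg _ (Finset.univ_prod_mulSingle (fun j : Fin d => r (w j)))

lemma tpowAct_tprod (a x : Fin d → R') :
    SymTen.tpowAct R R' R' d (PiTensorProduct.tprod R a) (PiTensorProduct.tprod R x) =
      PiTensorProduct.tprod R (fun j => a j * x j) := by
  unfold SymTen.tpowAct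
  rw [PiTensorProduct.lift.tprod]
  simp [MultilinearMap.compLinearMap_apply, PiTensorProduct.mapMultilinear_apply,
    PiTensorProduct.map_tprod]

/-- `t ↦ q (t · x)` -/
noncomputable def G (x : ⨂[R] _ : Fin d, R') : (⨂[R] _ : Fin d, R') →ₗ[R] Lam R R' d :=
  (SymTen.altSpan R R' d).mkQ ∘ₗ (LinearMap.applyₗ x) ∘ₗ (SymTen.tpowAct R R' R' d)

lemma G_apply (x t : ⨂[R] _ : Fin d, R') :
    G x t = (SymTen.altSpan R R' d).mkQ (SymTen.tpowAct R R' R' d t x) := rfl

lemma G_tprod (a x : Fin d → R') :
    G (PiTensorProduct.tprod R x) (PiTensorProduct.tprod R a) = f₀ R R' d (fun j => a j * x j) := by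
  rw [G_apply, tpowAct_tprod, f₀_apply]

lemma G_lTensor_tpowLaw (S : Type u) [CommRing S] [Algebra R S] {n : ℕ} (s : Fin n → S)
    (r : Fin n → R') (x : Fin d → R') :
    (G (PiTensorProduct.tprod R x)).lTensor S
        ((SymTen.tpowLaw R R' d).law.toFun' S (∑ k, s k ⊗ₜ[R] r k)) =
      FS b S (fun j => (∑ k, s k ⊗ₜ[R] r k) * ((1 : S) ⊗ₜ[R] x j)) := by
  rw [tpowLaw_sum, map_sum]
  simp only [LinearMap.lTensor_tmul, G_tprod, Finset.sum_mul, Algebra.TensorProduct.tmul_mul_tmul,
    mul_one]
  have h := MultilinearMap.map_sum (FS b S).toMultilinearMap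
    (fun (j : Fin d) (k : Fin n) => s k ⊗ₜ[R] (r k * x j))
  have h' : (FS b S) (fun j => ∑ i, s i ⊗ₜ[R] (r i * x j)) =
      ∑ w : Fin d → Fin n, (FS b S) (fun j => s (w j) ⊗ₜ[R] (r (w j) * x j)) := h
  rw [h']
  refine Finset.sum_congr rfl (fun w _ => ?_)
  rw [FS_tmul]

end tpow

end main

section span
variable {A : Type u} [CommRing A] {B C : Type u} [CommRing B] [Algebra A B] [CommRing C]
  [Algebra A C] {d : ℕ} (γ : PolLaw.MulLaw A B C d)

open GammaFin PolLawExt GammaGen in
/-- the coefficients of `γ` at a generating family span `C` -/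
theorem Nb_eq_top (hγ : PolLaw.IsGammaD γ) {m : ℕ} (b : Fin m → B)
    (hb : Submodule.span A (Set.range b) = ⊤) : Nb γ b = ⊤ := by
  have hmul : ∀ k l, b k * b l ∈ Submodule.span A (Set.range b) := by
    intro k l
    rw [hb]
    trivial
  have hone : (1 : B) ∈ Submodule.span A (Set.range b) := by
    rw [hb]
    trivial
  set C₁ := NbAlg γ b hmul hone with hC₁
  have hH : Hyp γ.law C₁.val.toLinearMap := by
    intro n x
    obtain ⟨r, p, β, rfl⟩ := exists_fin_sum_tmul' (P A n) x
    obtain ⟨w, hw⟩ := exists_gen_of_mem b p β (fun i => by rw [hb]; trivial)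
    rw [hw]
    exact range_mono (Nb γ b) C₁ (le_of_eq (NbAlg_toSubmodule γ b hmul hone).symm) _
      (toFun'_gen_mem γ b _ w)
  have htop := subalgebra_eq_top γ hγ C₁ hH
  rw [← NbAlg_toSubmodule γ b hmul hone, ← hC₁, htop, Algebra.top_toSubmodule]

lemma equivFinsupp_lTensor {S : Type u} [CommSemiring S] [Algebra A S] {κ : Type*} [DecidableEq κ]
    (ℬ : Module.Basis κ A S) {N : Type u} [AddCommGroup N] [Module A N] (g : C →ₗ[A] N)
    (y : S ⊗[A] C) (k : κ) :
    TensorProduct.equivFinsuppOfBasisLeft ℬ (g.lTensor S y) k =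
      g (TensorProduct.equivFinsuppOfBasisLeft ℬ y k) := by
  induction y using TensorProduct.induction_on with
  | zero => simp
  | tmul s c =>
    rw [LinearMap.lTensor_tmul, TensorProduct.equivFinsuppOfBasisLeft_apply_tmul_apply,
      TensorProduct.equivFinsuppOfBasisLeft_apply_tmul_apply, map_smul]
  | add y w hy hw => rw [map_add, map_add, Finsupp.add_apply, hy, hw, map_add, Finsupp.add_apply,
      map_add]

end span

section assembly
variable {R : Type u} [CommRing R] {R' : Type u} [CommRing R'] [Algebra R R'] [Module.Free R R']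
  [Module.Finite R R'] {d : ℕ} {C : Type u} [CommRing C] [Algebra R C]

open GammaFin PolLawExt in
theorem main (hd : Module.finrank R R' = d) (γ : PolLaw.MulLaw R R' C d) (hγ : PolLaw.IsGammaD γ)
    (φ : C →ₐ[R] (⨂[R] _ : Fin d, R')) (hφ : PolLaw.MulLaw.postcomp φ γ = SymTen.tpowLaw R R' d)
    (π : C →ₐ[R] R) (hπ : PolLaw.MulLaw.postcomp π γ = PolLaw.normLaw R R' d hd)
    (c : C) (x : ⨂[R] _ : Fin d, R') :
    SymTen.tpowAct R R' R' d (φ c) x - π c • x ∈ SymTen.altSpan R R' d := by
  classical
  rcases subsingleton_or_nontrivial R with hR | hR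
  · have : Subsingleton (⨂[R] _ : Fin d, R') := Module.subsingleton R _
    rw [Subsingleton.elim (SymTen.tpowAct R R' R' d (φ c) x - π c • x) 0]
    exact Submodule.zero_mem _
  let b : Module.Basis (Fin d) R R' := Module.finBasisOfFinrankEq R R' hd
  induction x using PiTensorProduct.induction_on with
  | add x y hx hy =>
    rw [map_add, smul_add, add_sub_add_comm]
    exact Submodule.add_mem _ hx hy
  | smul_tprod a xs =>
    have key : SymTen.tpowAct R R' R' d (φ c) (PiTensorProduct.tprod R xs) -
        π c • PiTensorProduct.tprod R xs ∈ SymTen.altSpan R R' d := by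
      set Ψ : C →ₗ[R] Lam R R' d := G (PiTensorProduct.tprod R xs) ∘ₗ φ.toLinearMap -
        ((SymTen.altSpan R R' d).mkQ ∘ₗ
          LinearMap.toSpanSingleton R _ (PiTensorProduct.tprod R xs)) ∘ₗ π.toLinearMap with hΨ
      have hΨc : ∀ c, Ψ c = (SymTen.altSpan R R' d).mkQ
          (SymTen.tpowAct R R' R' d (φ c) (PiTensorProduct.tprod R xs) -
            π c • PiTensorProduct.tprod R xs) := by
        intro c
        rw [hΨ, LinearMap.sub_apply, LinearMap.comp_apply, LinearMap.comp_apply,
          LinearMap.comp_apply, G_apply, LinearMap.toSpanSingleton_apply, map_sub]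
        rfl
      rw [← Submodule.Quotient.mk_eq_zero, ← Submodule.mkQ_apply, ← hΨc]
      have hc : c ∈ Nb γ b := by
        rw [Nb_eq_top γ hγ b b.span_eq]
        trivial
      have hle : Nb γ b ≤ LinearMap.ker Ψ := by
        rw [Nb, Submodule.span_le]
        rintro _ ⟨μ, rfl⟩
        rw [SetLike.mem_coe, LinearMap.mem_ker]
        set z : P R d ⊗[R] R' := gen b (P R d) MvPolynomial.X with hz
        have h1 : Ψ (cf γ b μ) = TensorProduct.equivFinsuppOfBasisLeft
            (MvPolynomial.basisMonomials (Fin d) R) (Ψ.lTensor (P R d) (γ.law.toFun' (P R d) z)) μ := by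
          rw [equivFinsupp_lTensor]
          rfl
        have h2 : φ.toLinearMap.lTensor (P R d) (γ.law.toFun' (P R d) z) =
            (SymTen.tpowLaw R R' d).law.toFun' (P R d) z := by
          rw [← hφ]
          rfl
        have h3 : π.toLinearMap.lTensor (P R d) (γ.law.toFun' (P R d) z) =
            Algebra.norm (P R d) z ⊗ₜ[R] (1 : R) := by
          rw [← PolLaw.normLaw_apply R R' d hd, ← hπ]
          rfl
        have h4 : Ψ.lTensor (P R d) (γ.law.toFun' (P R d) z) = 0 := by
          rw [hΨ, LinearMap.lTensor_sub, LinearMap.sub_apply, LinearMap.lTensor_comp,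
            LinearMap.lTensor_comp, LinearMap.comp_apply, LinearMap.comp_apply, h2, h3,
            LinearMap.lTensor_tmul, hz, gen, G_lTensor_tpowLaw b, FS_mul,
            LinearMap.comp_apply, LinearMap.toSpanSingleton_apply, one_smul, f₀_apply, sub_self]
        rw [h1, h4]
        simp
      exact hle hc
    rw [map_smul, smul_comm, ← smul_sub]
    exact Submodule.smul_mem _ _ key

end assembly

end Groth.Agent.Lib.Helper14.TopExt
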