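import Mathlib
import Groth.Prelude.Def_PolLaw
import Groth.Prelude.Def_PolLaw2
import Groth.Agent.Lib.Helper14GammaModGen
import Groth.Agent.Lib.Helper14TopExt
import Groth.Agent.Lib.Helper14TSFree
import Groth.Agent.Lib.Helper14FlatStage2

/-!
# `TS^d_A(B)` as a divided power algebra (helper14)

Part A: `symB` (orbit sums of pure tensors), `tpowLaw_gen` (the tensor power law at a generic
element, grouped by types), `tau` (the tensor power law with values in `TS^d`), `tau_gen`, `cf_tau`.
-/

set_option autoImplicit false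
universe u
open TensorProduct

namespace Groth.Agent.Lib.Helper14.TSGamma

open Groth.Agent.Lib.Helper14.PolLawExt (P Hyp)
open Groth.Agent.Lib.Helper14.GammaFin (gen cf)
open Groth.Agent.Lib.Helper14.TSFree
open Groth.Agent.Lib.Helper14.FlatStage (Tmap Tmap_comp Tmap_reindex)

section partA
variable {A : Type u} [CommRing A] {B : Type u} [CommRing B] [Algebra A B] (d : ℕ) {m : ℕ}

/-- the linear map `A^m → B` attached to a family -/
noncomputable abbrev ub (b : Fin m → B) : (Fin m → A) →ₗ[A] B := Fintype.linearCombination A b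

lemma ub_single (b : Fin m → B) (k : Fin m) : ub b (Pi.single k (1 : A)) = b k := by
  classical
  simp [ub, Fintype.linearCombination_apply, Pi.single_apply]

lemma ub_eq (u : (Fin m → A) →ₗ[A] B) : ub (fun k => u (Pi.single k (1 : A))) = u := by
  classical
  apply LinearMap.pi_ext'
  intro k
  ext
  simp [ub, Fintype.linearCombination_apply, Pi.single_apply]

/-- the orbit sum of type `μ` of the pure tensors in the `b k` -/
noncomputable def symB (b : Fin m → B) (μ : Fin m →₀ ℕ) : ⨂[A] _ : Fin d, B :=
  ∑ c ∈ Finset.univ.filter (fun c : Fin d → Fin m => type c = μ),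
    PiTensorProduct.tprod A (fun i => b (c i))

lemma Tmap_ub_bTb (b : Fin m → B) (c : Fin d → Fin m) :
    Tmap d (ub b) (bTb A d m c) = PiTensorProduct.tprod A (fun i => b (c i)) := by
  rw [bTb_apply, Tmap, PiTensorProduct.map_tprod]
  simp only [ub_single]

lemma Tmap_ub_symT (b : Fin m → B) (μ : Fin m →₀ ℕ) :
    Tmap d (ub b) (symT A d m μ) = symB d b μ := by
  rw [symT, symB, map_sum]
  simp only [Tmap_ub_bTb]

lemma symB_mem (b : Fin m → B) (μ : Fin m →₀ ℕ) : symB d b μ ∈ SymTen.TS A B d := by
  intro σ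
  rw [← Tmap_ub_symT, ← Tmap_reindex, reindex_symT]

lemma prod_eq_aeval {S : Type*} [CommSemiring S] [Algebra A S] (s : Fin m → S)
    (c : Fin d → Fin m) :
    ∏ i, s (c i) = MvPolynomial.aeval s (MvPolynomial.monomial (type c) (1 : A)) := by
  rw [← prod_X_eq_monomial (R := A) c, map_prod]
  exact Finset.prod_congr rfl (fun i _ => (MvPolynomial.aeval_X s (c i)).symm)

/-- the tensor power law at `∑ sₖ ⊗ bₖ`, grouped by types -/
theorem tpowLaw_gen (b : Fin m → B) (S : Type u) [CommSemiring S] [Algebra A S] (s : Fin m → S) :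
    (SymTen.tpowLaw A B d).law.toFun' S (gen b S s) =
      ∑ μ ∈ (Finset.univ : Finset (Fin d → Fin m)).image type,
        (MvPolynomial.aeval s (MvPolynomial.monomial μ (1 : A))) ⊗ₜ[A] symB d b μ := by
  classical
  rw [gen, TopExt.tpowLaw_sum]
  simp_rw [prod_eq_aeval (A := A) d s]
  rw [← Finset.sum_fiberwise_of_maps_to (g := type) (t := Finset.univ.image type)
    (fun c _ => Finset.mem_image_of_mem _ (Finset.mem_univ c))]
  refine Finset.sum_congr rfl (fun μ _ => ?_)
  rw [symB, TensorProduct.tmul_sum]
  refine Finset.sum_congr rfl (fun c hc => ?_)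
  rw [(Finset.mem_filter.mp hc).2]

theorem hyp : Hyp (SymTen.tpowLaw A B d).law (SymTen.TS A B d).val.toLinearMap := by
  intro n x
  obtain ⟨r, p, b, hx⟩ := GammaFin.exists_fin_sum_tmul' (A := A) (B := B) (P A n) x
  subst hx
  have := tpowLaw_gen (A := A) d b (P A n) p
  rw [gen] at this
  rw [this]
  refine Submodule.sum_mem _ (fun μ _ => ?_)
  exact ⟨(MvPolynomial.aeval p (MvPolynomial.monomial μ (1 : A))) ⊗ₜ[A] ⟨symB d b μ, symB_mem d b μ⟩,
    rfl⟩

/-- the tensor power law with values in the symmetric tensors -/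
noncomputable def tau : PolLaw.MulLaw A B (SymTen.TS A B d) d :=
  GammaGen.restrict (SymTen.tpowLaw A B d) (SymTen.TS A B d) (hyp d)

lemma lTensor_tau (S : Type u) [CommSemiring S] [Algebra A S] (t : S ⊗[A] B) :
    (SymTen.TS A B d).val.toLinearMap.lTensor S ((tau (A := A) (B := B) d).law.toFun' S t) =
      (SymTen.tpowLaw A B d).law.toFun' S t :=
  GammaGen.lTensor_restrict _ _ _ S t

/-- the value of `tau` at the generic element of a polynomial ring -/
theorem tau_gen (b : Fin m → B) (n : ℕ) (p : Fin m → P A n) :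
    (tau (A := A) (B := B) d).law.toFun' (P A n) (gen b (P A n) p) =
      ∑ μ ∈ (Finset.univ : Finset (Fin d → Fin m)).image type,
        (MvPolynomial.aeval p (MvPolynomial.monomial μ (1 : A))) ⊗ₜ[A]
          (⟨symB d b μ, symB_mem d b μ⟩ : SymTen.TS A B d) := by
  apply PolLawExt.lTensor_injective (ι := (SymTen.TS A B d).val.toLinearMap)
    Subtype.val_injective n
  rw [lTensor_tau, tpowLaw_gen, map_sum]
  rfl

/-- the coefficients of `tau` -/
theorem cf_tau (b : Fin m → B) (c : Fin d → Fin m) :
    cf (tau (A := A) (B := B) d) b (type c) = ⟨symB d b (type c), symB_mem d b (type c)⟩ := by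
  classical
  rw [cf, tau_gen, map_sum, Finsupp.finsetSum_apply]
  simp only [MvPolynomial.aeval_X_left_apply]
  rw [Finset.sum_eq_single (type c)]
  · rw [TensorProduct.equivFinsuppOfBasisLeft_apply_tmul_apply]
    apply Subtype.ext
    show MvPolynomial.coeff (type c) (MvPolynomial.monomial (type c) (1 : A)) •
      symB d b (type c) = symB d b (type c)
    rw [MvPolynomial.coeff_monomial, if_pos rfl, one_smul]
  · intro μ _ hμ
    rw [TensorProduct.equivFinsuppOfBasisLeft_apply_tmul_apply]
    apply Subtype.ext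
    show MvPolynomial.coeff (type c) (MvPolynomial.monomial μ (1 : A)) • symB d b μ = 0
    rw [MvPolynomial.coeff_monomial, if_neg hμ, zero_smul]
  · intro h
    exact absurd (Finset.mem_image_of_mem _ (Finset.mem_univ c)) h

end partA

end Groth.Agent.Lib.Helper14.TSGamma
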