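import Mathlib
import Groth.Prelude.Def_PolLaw
import Groth.Prelude.Def_PolLaw2
import Groth.Agent.Lib.Helper14TSGamma

/-!
# Roby's theorem for the finite free module `A^m` (helper14)

`phi G` (coefficients of a law `G : A^m → N` at the generic element), `G_gen`,
`phi_eq_zero_of_degree_ne` (homogeneity), `gOf d G : T^d(A^m) → N`, `G_eq` (a homogeneous law of
degree `d` factors through the tensor power law by a linear map), `eq_on_symm` (uniqueness on
symmetric tensors).
-/

set_option autoImplicit false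
universe u
open TensorProduct

namespace Groth.Agent.Lib.Helper14.TSFreeLaw

open Groth.Agent.Lib.Helper14.PolLawExt (P)
open Groth.Agent.Lib.Helper14.GammaFin (gen rTensor_gen)
open Groth.Agent.Lib.Helper14.TSFree
open Groth.Agent.Lib.Helper14.TSGamma (prod_eq_aeval)

section coeffs
variable {A : Type u} [CommRing A] {N : Type u} [AddCommGroup N] [Module A N] {m : ℕ}

/-- the standard basis vectors of `A^m` -/
abbrev ev (A : Type u) [CommRing A] (m : ℕ) : Fin m → (Fin m → A) := fun k => Pi.single k 1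

variable (G : (Fin m → A) →ₚₗ[A] N)

/-- the coefficients of `G` at the generic element -/
noncomputable def phi : (Fin m →₀ ℕ) →₀ N :=
  TensorProduct.equivFinsuppOfBasisLeft (MvPolynomial.basisMonomials (Fin m) A)
    (G.toFun' (P A m) (gen (ev A m) (P A m) MvPolynomial.X))

/-- expansion of `G` at `∑ sₖ ⊗ eₖ` -/
lemma G_gen (S : Type u) [CommSemiring S] [Algebra A S] (s : Fin m → S) :
    G.toFun' S (gen (ev A m) S s) =
      ∑ μ ∈ (phi G).support, (MvPolynomial.aeval s (MvPolynomial.monomial μ (1 : A))) ⊗ₜ[A]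
        phi G μ := by
  have h1 : gen (ev A m) S s = (MvPolynomial.aeval s : P A m →ₐ[A] S).toLinearMap.rTensor _
      (gen (ev A m) (P A m) MvPolynomial.X) := by
    rw [rTensor_gen]
    simp
  have h2 : G.toFun' (P A m) (gen (ev A m) (P A m) MvPolynomial.X) =
      ∑ μ ∈ (phi G).support, (MvPolynomial.monomial μ (1 : A)) ⊗ₜ[A] phi G μ := by
    rw [← (TensorProduct.equivFinsuppOfBasisLeft (MvPolynomial.basisMonomials (Fin m) A)).symm_apply_apply
      (G.toFun' (P A m) (gen (ev A m) (P A m) MvPolynomial.X)),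
      TensorProduct.equivFinsuppOfBasisLeft_symm_apply]
    simp only [MvPolynomial.coe_basisMonomials]
    rfl
  rw [h1, ← PolynomialLaw.isCompat_apply', h2, map_sum]
  rfl

end coeffs

section homog
variable {A : Type u} [CommRing A] {N : Type u} [AddCommGroup N] [Module A N] {m : ℕ}

lemma aeval_C_X (μ : Fin m →₀ ℕ) :
    MvPolynomial.aeval (fun k => (Polynomial.C (MvPolynomial.X k : P A m) : Polynomial (P A m)))
      (MvPolynomial.monomial μ (1 : A)) = Polynomial.C (MvPolynomial.monomial μ (1 : A)) := by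
  rw [MvPolynomial.aeval_monomial, MvPolynomial.monomial_eq, map_one, one_mul, MvPolynomial.C_1,
    one_mul, Finsupp.prod, Finsupp.prod, map_prod]
  simp only [map_pow]

lemma aeval_C_X_mul (μ : Fin m →₀ ℕ) :
    MvPolynomial.aeval (fun k => (Polynomial.C (MvPolynomial.X k : P A m) * Polynomial.X :
        Polynomial (P A m))) (MvPolynomial.monomial μ (1 : A)) =
      Polynomial.C (MvPolynomial.monomial μ (1 : A)) * Polynomial.X ^ (Finsupp.degree μ) := by
  rw [← aeval_C_X, MvPolynomial.aeval_monomial, MvPolynomial.aeval_monomial, map_one, one_mul,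
    one_mul, Finsupp.prod, Finsupp.prod, Finsupp.degree_apply,
    ← Finset.prod_pow_eq_pow_sum, ← Finset.prod_mul_distrib]
  refine Finset.prod_congr rfl (fun k _ => ?_)
  rw [mul_pow]

/-- the coefficient functional -/
noncomputable def Lam (k : ℕ) (μ₀ : Fin m →₀ ℕ) : Polynomial (P A m) →ₗ[A] A :=
  (MvPolynomial.lcoeff A μ₀) ∘ₗ ((Polynomial.lcoeff (P A m) k).restrictScalars A)

lemma Lam_apply [DecidableEq (Fin m →₀ ℕ)] (k j : ℕ) (μ₀ μ : Fin m →₀ ℕ) :
    Lam (A := A) k μ₀ (Polynomial.C (MvPolynomial.monomial μ (1 : A)) * Polynomial.X ^ j) =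
      if j = k ∧ μ = μ₀ then 1 else 0 := by
  rw [Lam, LinearMap.comp_apply, LinearMap.restrictScalars_apply, Polynomial.lcoeff_apply,
    Polynomial.coeff_C_mul_X_pow, MvPolynomial.lcoeff_apply]
  by_cases h : k = j
  · subst h
    rw [if_pos rfl, MvPolynomial.coeff_monomial]
    by_cases h2 : μ = μ₀
    · rw [if_pos h2, if_pos ⟨rfl, h2⟩]
    · rw [if_neg h2, if_neg (fun h3 => h2 h3.2)]
  · rw [if_neg h, if_neg (fun h3 => h h3.1.symm)]
    simp

variable (G : (Fin m → A) →ₚₗ[A] N) {d : ℕ}

/-- the coefficients of a homogeneous law vanish outside degree `d` -/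
theorem phi_eq_zero_of_degree_ne (hG : PolLaw.IsHomog G d) (μ₀ : Fin m →₀ ℕ)
    (hμ₀ : Finsupp.degree μ₀ ≠ d) : phi G μ₀ = 0 := by
  classical
  have h1 : gen (A := A) (ev A m) (Polynomial (P A m))
      (fun k => Polynomial.C (MvPolynomial.X k : P A m) * Polynomial.X) =
      (Polynomial.X : Polynomial (P A m)) • gen (A := A) (ev A m) (Polynomial (P A m))
        (fun k => Polynomial.C (MvPolynomial.X k : P A m)) := by
    rw [gen, gen, Finset.smul_sum]
    refine Finset.sum_congr rfl (fun k _ => ?_)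
    rw [TensorProduct.smul_tmul', smul_eq_mul, mul_comm]
  have h2 := hG (Polynomial (P A m)) Polynomial.X (gen (A := A) (ev A m) (Polynomial (P A m))
        (fun k => Polynomial.C (MvPolynomial.X k : P A m)))
  rw [← h1, G_gen, G_gen, Finset.smul_sum] at h2
  have h3 := congrArg (fun y => TensorProduct.lid A N
    ((Lam (A := A) (Finsupp.degree μ₀) μ₀).rTensor N y)) h2
  simp only [map_sum, TensorProduct.smul_tmul', LinearMap.rTensor_tmul, TensorProduct.lid_tmul,
    smul_eq_mul] at h3
  have hs2 : ∀ μ : Fin m →₀ ℕ, (Polynomial.X ^ d : Polynomial (P A m)) *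
      MvPolynomial.aeval (fun k => (Polynomial.C (MvPolynomial.X k : P A m) : Polynomial (P A m)))
        (MvPolynomial.monomial μ (1 : A)) =
      Polynomial.C (MvPolynomial.monomial μ (1 : A)) * Polynomial.X ^ d := by
    intro μ
    rw [mul_comm, aeval_C_X]
  simp only [aeval_C_X_mul, hs2, Lam_apply] at h3
  rw [Finset.sum_eq_single μ₀, Finset.sum_eq_single μ₀] at h3
  · rw [if_pos ⟨rfl, rfl⟩, if_neg (fun h => hμ₀ h.1.symm), one_smul, zero_smul] at h3
    exact h3
  · intro μ _ hμ
    rw [if_neg (fun h => hμ h.2), zero_smul]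
  · intro h
    rw [Finsupp.notMem_support_iff.mp h, smul_zero]
  · intro μ _ hμ
    rw [if_neg (fun h => hμ h.2), zero_smul]
  · intro h
    rw [Finsupp.notMem_support_iff.mp h, smul_zero]

end homog

section thmR
variable {A : Type u} [CommRing A] {N : Type u} [AddCommGroup N] [Module A N] {m : ℕ}

lemma exists_gen (S : Type u) [CommSemiring S] [Algebra A S] (x : S ⊗[A] (Fin m → A)) :
    ∃ s : Fin m → S, x = gen (A := A) (ev A m) S s := by
  obtain ⟨r, p, β, rfl⟩ := GammaFin.exists_fin_sum_tmul' (A := A) (B := Fin m → A) S x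
  refine GammaFin.exists_gen_of_mem (ev A m) p β (fun i => ?_)
  have h : Submodule.span A (Set.range (ev A m)) = ⊤ := by
    have := (Pi.basisFun A (Fin m)).span_eq
    convert this using 3
    ext k
    simp [ev, Pi.basisFun_apply]
  rw [h]
  exact Submodule.mem_top

/-- extraction of a coefficient from a finite sum of monomials -/
lemma coeff_sum_monomial [DecidableEq (Fin m →₀ ℕ)] (T : Finset (Fin m →₀ ℕ))
    (n : (Fin m →₀ ℕ) → N) (ν : Fin m →₀ ℕ) :
    TensorProduct.equivFinsuppOfBasisLeft (MvPolynomial.basisMonomials (Fin m) A)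
      (∑ μ ∈ T, (MvPolynomial.monomial μ (1 : A)) ⊗ₜ[A] n μ) ν = if ν ∈ T then n ν else 0 := by
  rw [map_sum, Finsupp.finsetSum_apply]
  have h : ∀ μ, TensorProduct.equivFinsuppOfBasisLeft (MvPolynomial.basisMonomials (Fin m) A)
      ((MvPolynomial.monomial μ (1 : A)) ⊗ₜ[A] n μ) ν = if μ = ν then n μ else 0 := by
    intro μ
    rw [TensorProduct.equivFinsuppOfBasisLeft_apply_tmul_apply]
    show MvPolynomial.coeff ν (MvPolynomial.monomial μ (1 : A)) • n μ = _
    rw [MvPolynomial.coeff_monomial]
    split_ifs <;> simp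
  simp_rw [h]
  rw [Finset.sum_ite_eq']

variable (d : ℕ) (G : (Fin m → A) →ₚₗ[A] N)

/-- the linear functional attached to a law -/
noncomputable def gOf : (⨂[A] _ : Fin d, (Fin m → A)) →ₗ[A] N :=
  (bTb A d m).constr A (fun c => if c = rep d m c then phi G (type c) else 0)

lemma gOf_tprod (c : Fin d → Fin m) :
    gOf d G (PiTensorProduct.tprod A (fun i => ev A m (c i))) =
      if c = rep d m c then phi G (type c) else 0 := by
  rw [gOf, ← bTb_apply, Module.Basis.constr_basis]

/-- **Roby's theorem for `A^m`**: a homogeneous law of degree `d` factors through the tensor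
power law -/
theorem G_eq (hG : PolLaw.IsHomog G d) (S : Type u) [CommSemiring S] [Algebra A S]
    (x : S ⊗[A] (Fin m → A)) :
    G.toFun' S x =
      (gOf d G).lTensor S ((SymTen.tpowLaw A (Fin m → A) d).law.toFun' S x) := by
  classical
  obtain ⟨s, rfl⟩ := exists_gen S x
  rw [G_gen, gen, TopExt.tpowLaw_sum, map_sum]
  simp only [LinearMap.lTensor_tmul, gOf_tprod, prod_eq_aeval (A := A) d s]
  have h1 : ∀ c : Fin d → Fin m,
      (MvPolynomial.aeval s (MvPolynomial.monomial (type c) (1 : A))) ⊗ₜ[A]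
        (if c = rep d m c then phi G (type c) else 0) =
      if c = rep d m c then (MvPolynomial.aeval s (MvPolynomial.monomial (type c) (1 : A)))
        ⊗ₜ[A] phi G (type c) else 0 := by
    intro c
    split_ifs <;> simp
  simp_rw [h1]
  rw [← Finset.sum_filter]
  have hinj : Set.InjOn (type (d := d) (m := m))
      (Finset.univ.filter (fun c : Fin d → Fin m => c = rep d m c) : Finset (Fin d → Fin m)) := by
    intro c hc c' hc' h
    have h2 : c = rep d m c := (Finset.mem_filter.mp hc).2
    have h3 : c' = rep d m c' := (Finset.mem_filter.mp hc').2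
    rw [h2, h3]
    exact rep_eq_of_type_eq d m h
  rw [← Finset.sum_image (f := fun μ => (MvPolynomial.aeval s
    (MvPolynomial.monomial μ (1 : A))) ⊗ₜ[A] phi G μ) hinj]
  apply Finset.sum_subset
  · intro μ hμ
    have hdeg : Finsupp.degree μ = d := by
      by_contra h
      exact (Finsupp.mem_support_iff.mp hμ) (phi_eq_zero_of_degree_ne G hG μ h)
    obtain ⟨c, rfl⟩ := exists_type μ hdeg
    refine Finset.mem_image.mpr ⟨rep d m c, ?_, type_rep d m c⟩
    exact Finset.mem_filter.mpr ⟨Finset.mem_univ _, (rep_rep d m c).symm⟩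
  · intro μ _ hμ
    rw [Finsupp.notMem_support_iff.mp hμ, TensorProduct.tmul_zero]

/-- two linear maps on `T^d(A^m)` inducing the same law agree on symmetric tensors -/
theorem eq_on_symm (g g' : (⨂[A] _ : Fin d, (Fin m → A)) →ₗ[A] N)
    (h : g.lTensor (P A m) ((SymTen.tpowLaw A (Fin m → A) d).law.toFun' (P A m)
        (gen (A := A) (ev A m) (P A m) MvPolynomial.X)) =
      g'.lTensor (P A m) ((SymTen.tpowLaw A (Fin m → A) d).law.toFun' (P A m)
        (gen (A := A) (ev A m) (P A m) MvPolynomial.X)))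
    {z : ⨂[A] _ : Fin d, (Fin m → A)}
    (hz : ∀ σ : Equiv.Perm (Fin d),
      PiTensorProduct.reindex A (fun _ : Fin d => (Fin m → A)) σ z = z) : g z = g' z := by
  classical
  have hsym : ∀ μ : Fin m →₀ ℕ, TSGamma.symB (A := A) d (ev A m) μ = symT A d m μ := by
    intro μ
    rw [TSGamma.symB, symT]
    refine Finset.sum_congr rfl (fun c _ => ?_)
    rw [bTb_apply]
  rw [TSGamma.tpowLaw_gen, map_sum, map_sum] at h
  simp only [LinearMap.lTensor_tmul, MvPolynomial.aeval_X_left_apply, hsym] at h
  have h2 : ∀ c : Fin d → Fin m, g (symT A d m (type c)) = g' (symT A d m (type c)) := by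
    intro c
    have h3 := congrArg (fun y => TensorProduct.equivFinsuppOfBasisLeft
      (MvPolynomial.basisMonomials (Fin m) A) y (type c)) h
    simp only [coeff_sum_monomial] at h3
    rwa [if_pos (Finset.mem_image_of_mem _ (Finset.mem_univ c)),
      if_pos (Finset.mem_image_of_mem _ (Finset.mem_univ c))] at h3
  rw [symm_decomp A d m hz, map_sum, map_sum]
  refine Finset.sum_congr rfl (fun c _ => ?_)
  rw [map_smul, map_smul, h2]

end thmR

end Groth.Agent.Lib.Helper14.TSFreeLaw
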