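import Mathlib
import Groth.Prelude.Def_PolLaw
import Groth.Prelude.Def_PolLaw2
import Groth.Agent.Lib.Helper14TSGamma
import Groth.Agent.Lib.Helper14TSFreeLaw
import Groth.Agent.Lib.Helper14Polar

/-!
# The coefficients of the tensor power law span `TS^d(B)` (helper14)

`Nall_tau_flat` (for `B` flat), `Nall_tau_factorial` (for `d!` invertible).
-/

set_option autoImplicit false
universe u
open TensorProduct

namespace Groth.Agent.Lib.Helper14.TSGamma

open Groth.Agent.Lib.Helper14.PolLawExt (P Hyp)
open Groth.Agent.Lib.Helper14.GammaFin (gen cf)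
open Groth.Agent.Lib.Helper14.TSFree
open Groth.Agent.Lib.Helper14.FlatStage (Tmap Tmap_comp Tmap_reindex)

section spanning
variable {A : Type u} [CommRing A] {B : Type u} [CommRing B] [Algebra A B] (d : ℕ)

/-- for flat `B` the coefficients of `tau` span `TS^d(B)` -/
theorem Nall_tau_flat [Module.Flat A B] :
    GammaModGen.Nall (tau (A := A) (B := B) d) = ⊤ := by
  classical
  rw [eq_top_iff]
  rintro z -
  obtain ⟨m, u, z₀, hz⟩ := FlatStage.exists_symm_rep_family_fin d ({()} : Finset Unit)
    (fun _ => (z : ⨂[A] _ : Fin d, B)) (fun _ _ => z.2)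
  obtain ⟨hsym, hmap⟩ := hz () (Finset.mem_singleton_self _)
  set b : Fin m → B := fun k => u (Pi.single k (1 : A)) with hb
  have hu : ub b = u := ub_eq u
  have h1 : z = ∑ c : Fin d → Fin m,
      (if c = rep d m c then (bTb A d m).repr (z₀ ()) c else 0) •
        cf (tau (A := A) (B := B) d) b (type c) := by
    have hdec := symm_decomp A d m hsym
    apply Subtype.ext
    show (z : ⨂[A] _ : Fin d, B) = (SymTen.TS A B d).val _
    rw [map_sum, ← hmap]
    conv_lhs => rw [hdec]
    rw [map_sum]
    refine Finset.sum_congr rfl (fun c _ => ?_)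
    rw [map_smul, map_smul, ← hu, Tmap_ub_symT, cf_tau]
    rfl
  rw [h1]
  refine Submodule.sum_mem _ (fun c _ => Submodule.smul_mem _ _ ?_)
  exact Submodule.subset_span ⟨m, b, type c, rfl⟩

end spanning

section spanning2
variable {A : Type u} [CommRing A] {B : Type u} [CommRing B] [Algebra A B] (d : ℕ)

lemma sum_perm_tprod (f : Fin d → B) :
    ∑ σ : Equiv.Perm (Fin d), PiTensorProduct.tprod A (fun i => f (σ.symm i)) =
      symB (A := A) d f (type (id : Fin d → Fin d)) := by
  classical
  rw [symB]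
  apply Finset.sum_bij (fun (σ : Equiv.Perm (Fin d)) _ => (⇑σ.symm : Fin d → Fin d))
  · intro σ _
    rw [Finset.mem_filter]
    refine ⟨Finset.mem_univ _, ?_⟩
    have := type_comp_perm (id : Fin d → Fin d) σ.symm
    simpa using this
  · intro σ _ τ _ h
    have h2 : σ.symm = τ.symm := Equiv.coe_fn_injective h
    simpa using congrArg Equiv.symm h2
  · intro c hc
    obtain ⟨σ, hσ⟩ := exists_perm_of_type_eq (c := (id : Fin d → Fin d)) (c' := c)
      (Finset.mem_filter.mp hc).2.symm
    refine ⟨σ.symm, Finset.mem_univ _, ?_⟩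
    rw [hσ]
    rfl
  · intro σ _
    rfl

lemma sum_reindex_mem (t : ⨂[A] _ : Fin d, B) :
    ∑ σ : Equiv.Perm (Fin d), PiTensorProduct.reindex A (fun _ : Fin d => B) σ t ∈
      (GammaModGen.Nall (tau (A := A) (B := B) d)).map (SymTen.TS A B d).val.toLinearMap := by
  induction t using PiTensorProduct.induction_on with
  | smul_tprod r f =>
    simp only [map_smul, PiTensorProduct.reindex_tprod]
    rw [← Finset.smul_sum, sum_perm_tprod]
    refine Submodule.smul_mem _ _ ?_
    refine Submodule.mem_map.mpr ⟨cf (tau (A := A) (B := B) d) f (type (id : Fin d → Fin d)),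
      Submodule.subset_span ⟨d, f, _, rfl⟩, ?_⟩
    rw [cf_tau]
    rfl
  | add x y hx hy =>
    simp only [map_add, Finset.sum_add_distrib]
    exact Submodule.add_mem _ hx hy

/-- for `d!` invertible the coefficients of `tau` span `TS^d(B)` -/
theorem Nall_tau_factorial (h : IsUnit ((d.factorial : ℕ) : A)) :
    GammaModGen.Nall (tau (A := A) (B := B) d) = ⊤ := by
  rw [eq_top_iff]
  rintro z -
  have h1 := sum_reindex_mem (A := A) d (z : ⨂[A] _ : Fin d, B)
  have h2 : ∑ σ : Equiv.Perm (Fin d), PiTensorProduct.reindex A (fun _ : Fin d => B) σ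
      (z : ⨂[A] _ : Fin d, B) = ((d.factorial : ℕ) : A) • (z : ⨂[A] _ : Fin d, B) := by
    rw [Finset.sum_congr rfl (fun σ _ => z.2 σ), Finset.sum_const, Finset.card_univ,
      Fintype.card_perm, Fintype.card_fin, Nat.cast_smul_eq_nsmul]
  rw [h2] at h1
  obtain ⟨w, hw, hwz⟩ := Submodule.mem_map.mp h1
  have h3 : w = ((d.factorial : ℕ) : A) • z := Subtype.ext hwz
  have h4 : z = (↑h.unit⁻¹ : A) • w := by
    rw [h3, smul_smul, IsUnit.val_inv_mul, one_smul]
  rw [h4]
  exact Submodule.smul_mem _ _ hw

end spanning2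

end Groth.Agent.Lib.Helper14.TSGamma
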