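import Mathlib
import Groth.Prelude.Def_PolLaw
import Groth.Prelude.Def_PolLaw2
import Groth.Agent.Lib.Helper14TSGamma2

/-!
# Stage functionals of a homogeneous law (helper14)

`tpowLaw_natural` (naturality of the tensor power law along linear maps of algebras), `Gu`, `gu`
(the functional `T^d(A^m) → N` of the law `F ∘ u`), `gu_natural`.
-/

set_option autoImplicit false
universe u
open TensorProduct

namespace Groth.Agent.Lib.Helper14.TSGamma

open Groth.Agent.Lib.Helper14.PolLawExt (P Hyp)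
open Groth.Agent.Lib.Helper14.GammaFin (gen cf)
open Groth.Agent.Lib.Helper14.TSFree
open Groth.Agent.Lib.Helper14.TSFreeLaw
open Groth.Agent.Lib.Helper14.FlatStage (Tmap Tmap_comp Tmap_reindex Tmap_id)

section natural
variable {A : Type u} [CommRing A] (d : ℕ)

/-- naturality of the tensor power law along *linear* maps of algebras -/
theorem tpowLaw_natural {E E' : Type u} [CommRing E] [Algebra A E] [CommRing E'] [Algebra A E']
    (a : E →ₗ[A] E') (S : Type u) [CommSemiring S] [Algebra A S] (x : S ⊗[A] E) :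
    (Tmap d a).lTensor S ((SymTen.tpowLaw A E d).law.toFun' S x) =
      (SymTen.tpowLaw A E' d).law.toFun' S (a.lTensor S x) := by
  obtain ⟨r, s, b, rfl⟩ := GammaFin.exists_fin_sum_tmul' (A := A) (B := E) S x
  rw [TopExt.tpowLaw_sum, map_sum, map_sum]
  simp only [LinearMap.lTensor_tmul]
  rw [TopExt.tpowLaw_sum]
  refine Finset.sum_congr rfl (fun w _ => ?_)
  rw [Tmap, PiTensorProduct.map_tprod]

lemma symB_ev {m : ℕ} (μ : Fin m →₀ ℕ) : symB (A := A) d (ev A m) μ = symT A d m μ := by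
  rw [symB, symT]
  refine Finset.sum_congr rfl (fun c _ => ?_)
  rw [bTb_apply]

end natural

section stagemaps
variable {A : Type u} [CommRing A] {B : Type u} [CommRing B] [Algebra A B]
  {N : Type u} [AddCommGroup N] [Module A N] (d : ℕ) (F : B →ₚₗ[A] N)

/-- the law `F ∘ u` on a stage -/
noncomputable abbrev Gu {m : ℕ} (u : (Fin m → A) →ₗ[A] B) : (Fin m → A) →ₚₗ[A] N :=
  PolLaw.precomp F u

lemma Gu_apply {m : ℕ} (u : (Fin m → A) →ₗ[A] B) (S : Type u) [CommSemiring S] [Algebra A S]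
    (x : S ⊗[A] (Fin m → A)) : (Gu F u).toFun' S x = F.toFun' S (u.lTensor S x) := rfl

variable {F} {d}

lemma Gu_homog (hF : PolLaw.IsHomog F d) {m : ℕ} (u : (Fin m → A) →ₗ[A] B) :
    PolLaw.IsHomog (Gu F u) d := by
  intro S _ _ s x
  rw [Gu_apply, Gu_apply, GammaGen.lTensor_smul, hF S s]

/-- the linear functional of a stage -/
noncomputable abbrev gu (d : ℕ) (F : B →ₚₗ[A] N) {m : ℕ} (u : (Fin m → A) →ₗ[A] B) :
    (⨂[A] _ : Fin d, (Fin m → A)) →ₗ[A] N := gOf d (Gu F u)

/-- naturality of the stage functionals on symmetric tensors -/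
theorem gu_natural (hF : PolLaw.IsHomog F d) {m m' : ℕ} (u : (Fin m → A) →ₗ[A] B)
    (u' : (Fin m' → A) →ₗ[A] B) (a : (Fin m → A) →ₗ[A] (Fin m' → A)) (hua : u' ∘ₗ a = u)
    {z : ⨂[A] _ : Fin d, (Fin m → A)}
    (hz : ∀ σ : Equiv.Perm (Fin d),
      PiTensorProduct.reindex A (fun _ : Fin d => (Fin m → A)) σ z = z) :
    gu d F u' (Tmap d a z) = gu d F u z := by
  have h := eq_on_symm d (gu d F u' ∘ₗ Tmap d a) (gu d F u) ?_ hz
  · exact h
  · rw [LinearMap.lTensor_comp, LinearMap.comp_apply, tpowLaw_natural,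
      ← G_eq d (Gu F u') (Gu_homog hF u'), ← G_eq d (Gu F u) (Gu_homog hF u), Gu_apply, Gu_apply,
      ← LinearMap.comp_apply, ← LinearMap.lTensor_comp, hua]

end stagemaps

end Groth.Agent.Lib.Helper14.TSGamma
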