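/-
Helper library (helper14): the linear map `TS^d(B) → N` attached to a homogeneous polynomial law of
degree `d` on a flat algebra `B`, defined through symmetric stage representations.
-/
import Mathlib
import Groth.Prelude.Def_PolLaw
import Groth.Prelude.Def_PolLaw2
import Groth.Agent.Lib.Helper14TSGamma3

set_option autoImplicit false
universe u
open TensorProduct

namespace Groth.Agent.Lib.Helper14.TSGamma

open Groth.Agent.Lib.Helper14.PolLawExt (P Hyp)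
open Groth.Agent.Lib.Helper14.GammaFin (gen cf)
open Groth.Agent.Lib.Helper14.TSFree
open Groth.Agent.Lib.Helper14.TSFreeLaw
open Groth.Agent.Lib.Helper14.FlatStage (Tmap Tmap_comp Tmap_reindex Tmap_id)

section sumfin
variable {A : Type u} [CommRing A] {B : Type u} [AddCommGroup B] [Module A B]

/-- `A^(m₁+m₂) ≃ A^(m₁ ⊕ m₂)` -/
noncomputable def Lsum (A : Type u) [CommRing A] (m₁ m₂ : ℕ) :
    (Fin (m₁ + m₂) → A) ≃ₗ[A] (Fin m₁ ⊕ Fin m₂ → A) :=
  LinearEquiv.funCongrLeft A A finSumFinEquiv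

/-- the sum of two `Fin`-indexed stages -/
noncomputable def usum {m₁ m₂ : ℕ} (u₁ : (Fin m₁ → A) →ₗ[A] B) (u₂ : (Fin m₂ → A) →ₗ[A] B) :
    (Fin (m₁ + m₂) → A) →ₗ[A] B :=
  FlatStage.sumMap u₁ u₂ ∘ₗ (Lsum A m₁ m₂).toLinearMap

/-- first inclusion -/
noncomputable def jl (A : Type u) [CommRing A] (m₁ m₂ : ℕ) :
    (Fin m₁ → A) →ₗ[A] (Fin (m₁ + m₂) → A) :=
  (Lsum A m₁ m₂).symm.toLinearMap ∘ₗ FlatStage.sumInl (Fin m₁) (Fin m₂)

/-- second inclusion -/
noncomputable def jr (A : Type u) [CommRing A] (m₁ m₂ : ℕ) :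
    (Fin m₂ → A) →ₗ[A] (Fin (m₁ + m₂) → A) :=
  (Lsum A m₁ m₂).symm.toLinearMap ∘ₗ FlatStage.sumInr (Fin m₁) (Fin m₂)

lemma usum_comp_jl {m₁ m₂ : ℕ} (u₁ : (Fin m₁ → A) →ₗ[A] B) (u₂ : (Fin m₂ → A) →ₗ[A] B) :
    usum u₁ u₂ ∘ₗ jl A m₁ m₂ = u₁ := by
  have h : usum u₁ u₂ ∘ₗ jl A m₁ m₂ = FlatStage.sumMap u₁ u₂ ∘ₗ FlatStage.sumInl (Fin m₁) (Fin m₂) := by
    apply LinearMap.ext
    intro x
    simp only [usum, jl, LinearMap.comp_apply, LinearEquiv.coe_coe, LinearEquiv.apply_symm_apply]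
  rw [h, FlatStage.sumMap_comp_sumInl]

lemma usum_comp_jr {m₁ m₂ : ℕ} (u₁ : (Fin m₁ → A) →ₗ[A] B) (u₂ : (Fin m₂ → A) →ₗ[A] B) :
    usum u₁ u₂ ∘ₗ jr A m₁ m₂ = u₂ := by
  have h : usum u₁ u₂ ∘ₗ jr A m₁ m₂ = FlatStage.sumMap u₁ u₂ ∘ₗ FlatStage.sumInr (Fin m₁) (Fin m₂) := by
    apply LinearMap.ext
    intro x
    simp only [usum, jr, LinearMap.comp_apply, LinearEquiv.coe_coe, LinearEquiv.apply_symm_apply]
  rw [h, FlatStage.sumMap_comp_sumInr]

end sumfin

section flatE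
variable {A : Type u} [CommRing A] {B : Type u} [CommRing B] [Algebra A B]
  {N : Type u} [AddCommGroup N] [Module A N] {d : ℕ} {F : B →ₚₗ[A] N}

/-- a symmetric stage representation of a tensor -/
structure Rep (t : ⨂[A] _ : Fin d, B) where
  /-- the rank of the stage -/
  m : ℕ
  /-- the map of the stage -/
  u : (Fin m → A) →ₗ[A] B
  /-- the representing tensor -/
  z : ⨂[A] _ : Fin d, (Fin m → A)
  symm : ∀ σ : Equiv.Perm (Fin d),
    PiTensorProduct.reindex A (fun _ : Fin d => (Fin m → A)) σ z = z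
  map : Tmap d u z = t

/-- the value of a representation -/
noncomputable def Rep.val (F : B →ₚₗ[A] N) {t : ⨂[A] _ : Fin d, B} (r : Rep t) : N :=
  gu d F r.u r.z

variable [Module.Flat A B]

theorem rep_val_eq (hF : PolLaw.IsHomog F d) {t : ⨂[A] _ : Fin d, B} (r₁ r₂ : Rep t) :
    r₁.val F = r₂.val F := by
  classical
  set u₁₂ := usum r₁.u r₂.u with hu
  have h0 : Tmap d u₁₂ (Tmap d (jl A r₁.m r₂.m) r₁.z - Tmap d (jr A r₁.m r₂.m) r₂.z) = 0 := by
    rw [map_sub, ← Tmap_comp, ← Tmap_comp, usum_comp_jl, usum_comp_jr, r₁.map, r₂.map, sub_self]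
  obtain ⟨m₃, a, y, hya, ha⟩ := FlatStage.exists_factor_fin d ({()} : Finset Unit) u₁₂
    (fun _ => Tmap d (jl A r₁.m r₂.m) r₁.z - Tmap d (jr A r₁.m r₂.m) r₂.z) (fun _ _ => h0)
  have ha' := ha () (Finset.mem_singleton_self _)
  rw [map_sub, sub_eq_zero] at ha'
  have hs1 : ∀ σ : Equiv.Perm (Fin d), PiTensorProduct.reindex A
      (fun _ : Fin d => (Fin (r₁.m + r₂.m) → A)) σ (Tmap d (jl A r₁.m r₂.m) r₁.z) =
      Tmap d (jl A r₁.m r₂.m) r₁.z := fun σ => by rw [← Tmap_reindex, r₁.symm]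
  have hs2 : ∀ σ : Equiv.Perm (Fin d), PiTensorProduct.reindex A
      (fun _ : Fin d => (Fin (r₁.m + r₂.m) → A)) σ (Tmap d (jr A r₁.m r₂.m) r₂.z) =
      Tmap d (jr A r₁.m r₂.m) r₂.z := fun σ => by rw [← Tmap_reindex, r₂.symm]
  rw [Rep.val, Rep.val, ← gu_natural hF r₁.u u₁₂ (jl A r₁.m r₂.m) (usum_comp_jl _ _) r₁.symm,
    ← gu_natural hF r₂.u u₁₂ (jr A r₁.m r₂.m) (usum_comp_jr _ _) r₂.symm,
    ← gu_natural hF u₁₂ y a hya hs1, ← gu_natural hF u₁₂ y a hya hs2, ha']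

lemma nonempty_rep (t : ⨂[A] _ : Fin d, B)
    (ht : ∀ σ : Equiv.Perm (Fin d), PiTensorProduct.reindex A (fun _ : Fin d => B) σ t = t) :
    Nonempty (Rep t) := by
  classical
  obtain ⟨m, u, z, hz⟩ := FlatStage.exists_symm_rep_family_fin d ({()} : Finset Unit)
    (fun _ => t) (fun _ _ => ht)
  obtain ⟨hsym, hmap⟩ := hz () (Finset.mem_singleton_self _)
  exact ⟨⟨m, u, z (), hsym, hmap⟩⟩

/-- the sum of two representations -/
noncomputable def Rep.add {t t' : ⨂[A] _ : Fin d, B} (r : Rep t) (r' : Rep t') : Rep (t + t') where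
  m := r.m + r'.m
  u := usum r.u r'.u
  z := Tmap d (jl A r.m r'.m) r.z + Tmap d (jr A r.m r'.m) r'.z
  symm σ := by rw [map_add, ← Tmap_reindex, ← Tmap_reindex, r.symm, r'.symm]
  map := by rw [map_add, ← Tmap_comp, ← Tmap_comp, usum_comp_jl, usum_comp_jr, r.map, r'.map]

/-- a multiple of a representation -/
noncomputable def Rep.smul (a : A) {t : ⨂[A] _ : Fin d, B} (r : Rep t) : Rep (a • t) where
  m := r.m
  u := r.u
  z := a • r.z
  symm σ := by rw [map_smul, r.symm]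
  map := by rw [map_smul, r.map]

omit [Module.Flat A B] in
lemma Rep.add_val (hF : PolLaw.IsHomog F d) {t t' : ⨂[A] _ : Fin d, B} (r : Rep t)
    (r' : Rep t') : (r.add r').val F = r.val F + r'.val F := by
  rw [Rep.val, Rep.val, Rep.val]
  show gu d F (usum r.u r'.u) (Tmap d (jl A r.m r'.m) r.z + Tmap d (jr A r.m r'.m) r'.z) = _
  rw [map_add, gu_natural hF r.u _ (jl A r.m r'.m) (usum_comp_jl _ _) r.symm,
    gu_natural hF r'.u _ (jr A r.m r'.m) (usum_comp_jr _ _) r'.symm]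

omit [Module.Flat A B] in
lemma Rep.smul_val (a : A) {t : ⨂[A] _ : Fin d, B} (r : Rep t) :
    (r.smul a).val F = a • r.val F := by
  rw [Rep.val, Rep.val]
  show gu d F r.u (a • r.z) = _
  rw [map_smul]

/-- the linear map `TS^d(B) → N` attached to a homogeneous law of degree `d`, `B` flat -/
noncomputable def fOf (hF : PolLaw.IsHomog F d) : SymTen.TS A B d →ₗ[A] N where
  toFun z := (nonempty_rep (z : ⨂[A] _ : Fin d, B) z.2).some.val F
  map_add' z z' := by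
    rw [← Rep.add_val hF]
    exact rep_val_eq hF _ _
  map_smul' a z := by
    rw [RingHom.id_apply, ← Rep.smul_val]
    exact rep_val_eq hF _ _

lemma fOf_apply (hF : PolLaw.IsHomog F d) (z : SymTen.TS A B d)
    (r : Rep (z : ⨂[A] _ : Fin d, B)) : fOf hF z = r.val F :=
  rep_val_eq hF _ _

end flatE

end Groth.Agent.Lib.Helper14.TSGamma
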