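/-
Helper library (helper14): `TS^d_A(B)` with the law `x ↦ x ⊗ ⋯ ⊗ x` is the divided power algebra
`Γ^d_A(B)` when `B` is flat (`isGammaD_tau_flat`) or `d!` is invertible (`isGammaD_tau_factorial`).
-/
import Mathlib
import Groth.Prelude.Def_PolLaw
import Groth.Prelude.Def_PolLaw2
import Groth.Agent.Lib.Helper14TSGamma4
import Groth.Agent.Lib.Helper14GammaUniv
import Groth.Agent.Lib.Helper14Polar

set_option autoImplicit false
universe u
open TensorProduct

namespace Groth.Agent.Lib.Helper14.TSGamma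

open Groth.Agent.Lib.Helper14.PolLawExt (P Hyp)
open Groth.Agent.Lib.Helper14.GammaFin (gen cf)
open Groth.Agent.Lib.Helper14.TSFree
open Groth.Agent.Lib.Helper14.TSFreeLaw
open Groth.Agent.Lib.Helper14.FlatStage (Tmap Tmap_comp Tmap_reindex Tmap_id)

section flatE
variable {A : Type u} [CommRing A] {B : Type u} [CommRing B] [Algebra A B]
  {N : Type u} [AddCommGroup N] [Module A N] {d : ℕ} {F : B →ₚₗ[A] N}

lemma lTensor_ub_gen {m : ℕ} (b : Fin m → B) (S : Type u) [CommSemiring S] [Algebra A S]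
    (s : Fin m → S) : (ub b).lTensor S (gen (A := A) (ev A m) S s) = gen b S s := by
  simp only [gen, map_sum, LinearMap.lTensor_tmul, ub_single]

section flat
variable [Module.Flat A B]

/-- the standard representation of `symB d b μ` -/
noncomputable def repSymB {m : ℕ} (b : Fin m → B) (μ : Fin m →₀ ℕ) :
    Rep (d := d) ((⟨symB d b μ, symB_mem d b μ⟩ : SymTen.TS A B d) : ⨂[A] _ : Fin d, B) where
  m := m
  u := ub b
  z := symT A d m μ
  symm σ := reindex_symT A d m σ μ
  map := Tmap_ub_symT d b μ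

theorem fOf_tau_gen (hF : PolLaw.IsHomog F d) {m : ℕ} (b : Fin m → B) (n : ℕ)
    (p : Fin m → P A n) :
    (fOf hF).lTensor (P A n) ((tau (A := A) (B := B) d).law.toFun' (P A n) (gen b (P A n) p)) =
      F.toFun' (P A n) (gen b (P A n) p) := by
  classical
  rw [tau_gen, map_sum]
  rw [← lTensor_ub_gen b, ← Gu_apply, G_eq d (Gu F (ub b)) (Gu_homog hF (ub b)), tpowLaw_gen,
    map_sum]
  refine Finset.sum_congr rfl (fun μ _ => ?_)
  rw [LinearMap.lTensor_tmul, LinearMap.lTensor_tmul, symB_ev, fOf_apply hF _ (repSymB b μ)]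
  rfl

/-- flat case: every homogeneous law of degree `d` factors linearly through `tau` -/
theorem postcomp_fOf (hF : PolLaw.IsHomog F d) :
    PolLaw.postcomp (fOf hF) (tau (A := A) (B := B) d).law = F := by
  apply GammaUniv.law_ext_P
  intro n x
  obtain ⟨r, p, b, rfl⟩ := GammaFin.exists_fin_sum_tmul' (A := A) (B := B) (P A n) x
  exact fOf_tau_gen hF b n p

end flat

section factorial

/-- the linear map attached to a law when `d!` is invertible -/
noncomputable def fFact (hu : IsUnit ((d.factorial : ℕ) : A)) (F : B →ₚₗ[A] N) :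
    SymTen.TS A B d →ₗ[A] N :=
  (↑hu.unit⁻¹ : A) • (PiTensorProduct.lift (Polar.pol F d)) ∘ₗ (SymTen.TS A B d).val.toLinearMap

theorem postcomp_fFact (hu : IsUnit ((d.factorial : ℕ) : A)) (hF : PolLaw.IsHomog F d) :
    PolLaw.postcomp (fFact hu F) (tau (A := A) (B := B) d).law = F := by
  apply GammaUniv.law_ext_P
  intro n x
  obtain ⟨r, p, b, rfl⟩ := GammaFin.exists_fin_sum_tmul' (A := A) (B := B) (P A n) x
  show (fFact hu F).lTensor (P A n) ((tau (A := A) (B := B) d).law.toFun' (P A n) _) = _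
  rw [fFact, LinearMap.lTensor_smul, LinearMap.smul_apply, LinearMap.lTensor_comp,
    LinearMap.comp_apply, lTensor_tau, TopExt.tpowLaw_sum, map_sum]
  simp only [LinearMap.lTensor_tmul, PiTensorProduct.lift.tprod]
  rw [Polar.sum_pol_eq F hF (P A n) p b, Nat.cast_smul_eq_nsmul,
    ← Nat.cast_smul_eq_nsmul A, smul_smul, IsUnit.val_inv_mul, one_smul]

end factorial

end flatE

section final
variable {A : Type u} [CommRing A] {B : Type u} [CommRing B] [Algebra A B] (d : ℕ)

theorem isGammaD_tau_flat [Module.Flat A B] : PolLaw.IsGammaD (tau (A := A) (B := B) d) :=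
  GammaUniv.isGammaD_of_Nall _ (Nall_tau_flat d)
    (fun _ _ _ F => ⟨fOf F.homog, postcomp_fOf F.homog⟩)

theorem isGammaD_tau_factorial (hu : IsUnit ((d.factorial : ℕ) : A)) :
    PolLaw.IsGammaD (tau (A := A) (B := B) d) :=
  GammaUniv.isGammaD_of_Nall _ (Nall_tau_factorial d hu)
    (fun _ _ _ F => ⟨fFact hu F.law, postcomp_fFact hu F.homog⟩)

theorem tau_formula (S : Type u) [CommSemiring S] [Algebra A S] (n : ℕ) (s : Fin n → S)
    (b : Fin n → B) :
    (SymTen.TS A B d).val.toLinearMap.lTensor S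
        ((tau (A := A) (B := B) d).law.toFun' S (∑ j, s j ⊗ₜ[A] b j)) =
      ∑ c : Fin d → Fin n, (∏ i, s (c i)) ⊗ₜ[A] PiTensorProduct.tprod A (fun i => b (c i)) := by
  rw [lTensor_tau, TopExt.tpowLaw_sum]

end final

end Groth.Agent.Lib.Helper14.TSGamma
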