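/-
Helper library (helper14): functoriality of `T^d` and `TS^d` for algebra maps (`TmapAlg`, `TSmap`),
the symmetrisation law with values in `TS^d` (`symmTS`), naturality of `tau` and `symmTS`.
-/
import Mathlib
import Groth.Prelude.Def_PolLaw
import Groth.Prelude.Def_PolLaw2
import Groth.Agent.Lib.Helper14TSGamma5

set_option autoImplicit false
universe u
open TensorProduct

namespace Groth.Agent.Lib.Helper14.NormDesc

open Groth.Agent.Lib.Helper14.PolLawExt (P Hyp)
open Groth.Agent.Lib.Helper14.GammaFin (gen cf)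
open Groth.Agent.Lib.Helper14.FlatStage (Tmap Tmap_comp Tmap_reindex Tmap_id)
open Groth.Agent.Lib.Helper14.TSGamma

section func
variable {A : Type u} [CommRing A] {B₁ B₂ B₃ : Type u} [CommRing B₁] [Algebra A B₁]
  [CommRing B₂] [Algebra A B₂] [CommRing B₃] [Algebra A B₃] (d : ℕ)

/-- the tensor power of an algebra map, as an algebra map -/
noncomputable def TmapAlg (p : B₁ →ₐ[A] B₂) : (⨂[A] _ : Fin d, B₁) →ₐ[A] (⨂[A] _ : Fin d, B₂) :=
  PiTensorProduct.liftAlgHom
    ((PiTensorProduct.tprod A).compLinearMap (fun _ : Fin d => p.toLinearMap))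
    (by
      rw [MultilinearMap.compLinearMap_apply, PiTensorProduct.one_def]
      congr 1
      funext i
      simp)
    (fun x y => by
      rw [MultilinearMap.compLinearMap_apply, MultilinearMap.compLinearMap_apply,
        MultilinearMap.compLinearMap_apply, PiTensorProduct.tprod_mul_tprod]
      congr 1
      funext i
      simp)

lemma TmapAlg_apply (p : B₁ →ₐ[A] B₂) (z : ⨂[A] _ : Fin d, B₁) :
    TmapAlg d p z = Tmap d p.toLinearMap z := rfl

lemma TmapAlg_toLinearMap (p : B₁ →ₐ[A] B₂) :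
    (TmapAlg d p).toLinearMap = Tmap d p.toLinearMap := rfl

lemma TmapAlg_tprod (p : B₁ →ₐ[A] B₂) (a : Fin d → B₁) :
    TmapAlg d p (PiTensorProduct.tprod A a) = PiTensorProduct.tprod A (fun i => p (a i)) := by
  rw [TmapAlg_apply, Tmap, PiTensorProduct.map_tprod]
  rfl

lemma TmapAlg_comp (q : B₂ →ₐ[A] B₃) (p : B₁ →ₐ[A] B₂) (z : ⨂[A] _ : Fin d, B₁) :
    TmapAlg d (q.comp p) z = TmapAlg d q (TmapAlg d p z) := by
  rw [TmapAlg_apply, TmapAlg_apply, TmapAlg_apply, AlgHom.comp_toLinearMap, Tmap_comp]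

lemma TmapAlg_id (z : ⨂[A] _ : Fin d, B₁) : TmapAlg d (AlgHom.id A B₁) z = z := by
  rw [TmapAlg_apply]
  exact Tmap_id d z

lemma TmapAlg_perm (p : B₁ →ₐ[A] B₂) (σ : Equiv.Perm (Fin d)) (z : ⨂[A] _ : Fin d, B₁) :
    TmapAlg d p (SymTen.perm A B₁ d σ z) = SymTen.perm A B₂ d σ (TmapAlg d p z) := by
  rw [SymTen.perm_apply, SymTen.perm_apply, TmapAlg_apply, TmapAlg_apply, Tmap_reindex]

/-- the induced map on symmetric tensors -/
noncomputable def TSmap (p : B₁ →ₐ[A] B₂) : SymTen.TS A B₁ d →ₐ[A] SymTen.TS A B₂ d :=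
  ((TmapAlg d p).comp (SymTen.TS A B₁ d).val).codRestrict (SymTen.TS A B₂ d) (fun z σ => by
    show PiTensorProduct.reindex A (fun _ : Fin d => B₂) σ (TmapAlg d p z.1) = TmapAlg d p z.1
    rw [TmapAlg_apply, ← Tmap_reindex, z.2 σ])

lemma val_TSmap (p : B₁ →ₐ[A] B₂) (z : SymTen.TS A B₁ d) :
    ((TSmap d p z : SymTen.TS A B₂ d) : ⨂[A] _ : Fin d, B₂) = TmapAlg d p z.1 := rfl

lemma val_comp_TSmap (p : B₁ →ₐ[A] B₂) :
    (SymTen.TS A B₂ d).val.toLinearMap ∘ₗ (TSmap d p).toLinearMap =
      (TmapAlg d p).toLinearMap ∘ₗ (SymTen.TS A B₁ d).val.toLinearMap := rfl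

end func


section symm
variable {A : Type u} [CommRing A] {B : Type u} [CommRing B] [Algebra A B] (d : ℕ)

lemma perm_perm (ρ σ : Equiv.Perm (Fin d)) (t : ⨂[A] _ : Fin d, B) :
    SymTen.perm A B d ρ (SymTen.perm A B d σ t) = SymTen.perm A B d (ρ * σ) t := by
  induction t using PiTensorProduct.induction_on with
  | smul_tprod r f =>
    simp only [map_smul, SymTen.perm_tprod]
    congr 2
  | add x y hx hy => simp only [map_add, hx, hy]

lemma symmLaw_apply (S : Type u) [CommSemiring S] [Algebra A S] (x : S ⊗[A] (⨂[A] _ : Fin d, B)) :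
    (SymTen.symmLaw A B d).law.toFun' S x =
      ∏ σ : Equiv.Perm (Fin d),
        Algebra.TensorProduct.map (AlgHom.id S S) (SymTen.perm A B d σ) x := rfl

lemma map_perm_symmLaw (S : Type u) [CommSemiring S] [Algebra A S] (ρ : Equiv.Perm (Fin d))
    (x : S ⊗[A] (⨂[A] _ : Fin d, B)) :
    Algebra.TensorProduct.map (AlgHom.id S S) (SymTen.perm A B d ρ)
      ((SymTen.symmLaw A B d).law.toFun' S x) = (SymTen.symmLaw A B d).law.toFun' S x := by
  rw [symmLaw_apply, map_prod]
  have h : ∀ σ : Equiv.Perm (Fin d),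
      Algebra.TensorProduct.map (AlgHom.id S S) (SymTen.perm A B d ρ)
        (Algebra.TensorProduct.map (AlgHom.id S S) (SymTen.perm A B d σ) x) =
      Algebra.TensorProduct.map (AlgHom.id S S) (SymTen.perm A B d (ρ * σ)) x := by
    intro σ
    induction x using TensorProduct.induction_on with
    | zero => simp
    | tmul s t => simp only [Algebra.TensorProduct.map_tmul, AlgHom.id_apply, perm_perm]
    | add x y hx hy => simp only [map_add, hx, hy]
  simp only [h]
  exact Fintype.prod_equiv (Equiv.mulLeft ρ) _ _ (fun σ => rfl)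

theorem hypSymm : Hyp (SymTen.symmLaw A B d).law (SymTen.TS A B d).val.toLinearMap := by
  classical
  intro n x
  set y := (SymTen.symmLaw A B d).law.toFun' (P A n) x with hy
  set ℬ := MvPolynomial.basisMonomials (Fin n) A with hℬ
  have hk : ∀ k, TensorProduct.equivFinsuppOfBasisLeft ℬ y k ∈ SymTen.TS A B d := by
    intro k ρ
    rw [← SymTen.perm_apply]
    have h1 := GammaModGen.equivFinsupp_lTensor ℬ (SymTen.perm A B d ρ).toLinearMap y k
    rw [AlgHom.toLinearMap_apply] at h1
    rw [← h1, PolLaw.lTensor_algHom_apply, hy, map_perm_symmLaw]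
  rw [← (TensorProduct.equivFinsuppOfBasisLeft ℬ).symm_apply_apply y,
    TensorProduct.equivFinsuppOfBasisLeft_symm_apply]
  apply Submodule.sum_mem
  intro k _
  exact ⟨ℬ k ⊗ₜ ⟨_, hk k⟩, by simp⟩

/-- the symmetrisation law with values in the symmetric tensors -/
noncomputable def symmTS :
    PolLaw.MulLaw A (⨂[A] _ : Fin d, B) (SymTen.TS A B d) (Nat.factorial d) :=
  GammaGen.restrict (SymTen.symmLaw A B d) (SymTen.TS A B d) (hypSymm d)

lemma lTensor_symmTS (S : Type u) [CommSemiring S] [Algebra A S]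
    (x : S ⊗[A] (⨂[A] _ : Fin d, B)) :
    (SymTen.TS A B d).val.toLinearMap.lTensor S ((symmTS (A := A) (B := B) d).law.toFun' S x) =
      (SymTen.symmLaw A B d).law.toFun' S x :=
  GammaGen.lTensor_restrict _ _ _ S x

end symm


section natural
variable {A : Type u} [CommRing A] {B₁ B₂ : Type u} [CommRing B₁] [Algebra A B₁]
  [CommRing B₂] [Algebra A B₂] (d : ℕ)

/-- two laws with values in `TS^d(B)` agreeing in `T^d(B)` on polynomial rings are equal -/
theorem law_ext_val {M : Type u} [AddCommGroup M] [Module A M]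
    (F G : M →ₚₗ[A] SymTen.TS A B₂ d)
    (h : ∀ (n : ℕ) (x : P A n ⊗[A] M),
      (SymTen.TS A B₂ d).val.toLinearMap.lTensor (P A n) (F.toFun' (P A n) x) =
        (SymTen.TS A B₂ d).val.toLinearMap.lTensor (P A n) (G.toFun' (P A n) x)) : F = G :=
  GammaUniv.law_ext_P _ _ (fun n x =>
    PolLawExt.lTensor_injective (ι := (SymTen.TS A B₂ d).val.toLinearMap)
      Subtype.val_injective n (h n x))

lemma lTensor_val_TSmap (p : B₁ →ₐ[A] B₂) (S : Type u) [CommSemiring S] [Algebra A S]
    (y : S ⊗[A] SymTen.TS A B₁ d) :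
    (SymTen.TS A B₂ d).val.toLinearMap.lTensor S ((TSmap d p).toLinearMap.lTensor S y) =
      (TmapAlg d p).toLinearMap.lTensor S ((SymTen.TS A B₁ d).val.toLinearMap.lTensor S y) := by
  rw [← LinearMap.comp_apply, ← LinearMap.lTensor_comp, val_comp_TSmap, LinearMap.lTensor_comp,
    LinearMap.comp_apply]

theorem tau_natural_law (p : B₁ →ₐ[A] B₂) :
    PolLaw.postcomp (TSmap d p).toLinearMap (tau (A := A) (B := B₁) d).law =
      PolLaw.precomp (tau (A := A) (B := B₂) d).law p.toLinearMap := by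
  apply law_ext_val
  intro n x
  show (SymTen.TS A B₂ d).val.toLinearMap.lTensor (P A n)
      ((TSmap d p).toLinearMap.lTensor (P A n) ((tau (A := A) (B := B₁) d).law.toFun' (P A n) x)) =
    (SymTen.TS A B₂ d).val.toLinearMap.lTensor (P A n)
      ((tau (A := A) (B := B₂) d).law.toFun' (P A n) (p.toLinearMap.lTensor (P A n) x))
  rw [lTensor_val_TSmap, lTensor_tau, lTensor_tau, TmapAlg_toLinearMap, tpowLaw_natural]

theorem tau_natural (p : B₁ →ₐ[A] B₂) (S : Type u) [CommSemiring S] [Algebra A S]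
    (x : S ⊗[A] B₁) :
    (TSmap d p).toLinearMap.lTensor S ((tau (A := A) (B := B₁) d).law.toFun' S x) =
      (tau (A := A) (B := B₂) d).law.toFun' S (p.toLinearMap.lTensor S x) :=
  congrArg (fun L : B₁ →ₚₗ[A] SymTen.TS A B₂ d => L.toFun' S x) (tau_natural_law d p)

theorem symmLaw_natural (p : B₁ →ₐ[A] B₂) (S : Type u) [CommSemiring S] [Algebra A S]
    (z : S ⊗[A] (⨂[A] _ : Fin d, B₁)) :
    (TmapAlg d p).toLinearMap.lTensor S ((SymTen.symmLaw A B₁ d).law.toFun' S z) =
      (SymTen.symmLaw A B₂ d).law.toFun' S ((TmapAlg d p).toLinearMap.lTensor S z) := by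
  rw [symmLaw_apply, symmLaw_apply, PolLaw.lTensor_algHom_apply, PolLaw.lTensor_algHom_apply,
    map_prod]
  refine Finset.prod_congr rfl (fun σ _ => ?_)
  induction z using TensorProduct.induction_on with
  | zero => simp
  | tmul s t => simp only [Algebra.TensorProduct.map_tmul, AlgHom.id_apply, TmapAlg_perm]
  | add x y hx hy => simp only [map_add, hx, hy]

theorem symmTS_natural_law (p : B₁ →ₐ[A] B₂) :
    PolLaw.postcomp (TSmap d p).toLinearMap (symmTS (A := A) (B := B₁) d).law =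
      PolLaw.precomp (symmTS (A := A) (B := B₂) d).law (TmapAlg d p).toLinearMap := by
  apply law_ext_val
  intro n x
  show (SymTen.TS A B₂ d).val.toLinearMap.lTensor (P A n)
      ((TSmap d p).toLinearMap.lTensor (P A n)
        ((symmTS (A := A) (B := B₁) d).law.toFun' (P A n) x)) =
    (SymTen.TS A B₂ d).val.toLinearMap.lTensor (P A n)
      ((symmTS (A := A) (B := B₂) d).law.toFun' (P A n)
        ((TmapAlg d p).toLinearMap.lTensor (P A n) x))
  rw [lTensor_val_TSmap, lTensor_symmTS, lTensor_symmTS, symmLaw_natural]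

theorem symmTS_natural (p : B₁ →ₐ[A] B₂) (S : Type u) [CommSemiring S] [Algebra A S]
    (z : S ⊗[A] (⨂[A] _ : Fin d, B₁)) :
    (TSmap d p).toLinearMap.lTensor S ((symmTS (A := A) (B := B₁) d).law.toFun' S z) =
      (symmTS (A := A) (B := B₂) d).law.toFun' S ((TmapAlg d p).toLinearMap.lTensor S z) :=
  congrArg (fun L : (⨂[A] _ : Fin d, B₁) →ₚₗ[A] SymTen.TS A B₂ d => L.toFun' S z)
    (symmTS_natural_law d p)

end natural

end Groth.Agent.Lib.Helper14.NormDesc
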