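/-
Helper library (helper14): the permutation action on `T^d_A(B)`, integrality over `TS^d_A(B)`,
finite type of `T^d_A(B)`, and Noether's theorem `finiteType_TS` over a Noetherian base.
-/
import Mathlib
import Groth.Prelude.Def_SymTen
import Groth.Agent.Lib.Helper14NormDesc

set_option autoImplicit false
universe u
open TensorProduct

namespace Groth.Agent.Lib.Helper14.TSFinType

open Groth.Agent.Lib.Helper14.NormDesc (perm_perm)

section action
variable (A : Type u) [CommRing A] (B : Type u) [CommRing B] [Algebra A B] (d : ℕ)

lemma perm_one (t : ⨂[A] _ : Fin d, B) : SymTen.perm A B d 1 t = t := by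
  induction t using PiTensorProduct.induction_on with
  | smul_tprod r f => simp; rfl
  | add x y hx hy => simp only [map_add, hx, hy]

/-- the permutation action on the tensor power -/
@[instance_reducible]
noncomputable def permAction : MulSemiringAction (Equiv.Perm (Fin d)) (⨂[A] _ : Fin d, B) where
  smul σ t := SymTen.perm A B d σ t
  one_smul t := perm_one A B d t
  mul_smul σ ρ t := (perm_perm d σ ρ t).symm
  smul_zero _ := map_zero _
  smul_add _ x y := map_add _ x y
  smul_one _ := map_one _
  smul_mul _ x y := map_mul _ x y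

attribute [local instance] permAction

lemma smul_def' (σ : Equiv.Perm (Fin d)) (t : ⨂[A] _ : Fin d, B) :
    σ • t = SymTen.perm A B d σ t := rfl

instance isInvariant_TS :
    Algebra.IsInvariant (SymTen.TS A B d) (⨂[A] _ : Fin d, B) (Equiv.Perm (Fin d)) where
  isInvariant t ht := ⟨⟨t, fun σ => by rw [← SymTen.perm_apply]; exact ht σ⟩, rfl⟩

/-- the tensor power is integral over the symmetric tensors -/
theorem isIntegral_TS : Algebra.IsIntegral (SymTen.TS A B d) (⨂[A] _ : Fin d, B) :=
  Algebra.IsInvariant.isIntegral (SymTen.TS A B d) (⨂[A] _ : Fin d, B) (Equiv.Perm (Fin d))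

end action


section fintype
variable (A : Type u) [CommRing A] (B : Type u) [CommRing B] [Algebra A B] (d : ℕ)

lemma tprod_eq_prod_single (b : Fin d → B) :
    PiTensorProduct.tprod A b =
      ∏ i, PiTensorProduct.singleAlgHom (R := A) (A := fun _ : Fin d => B) i (b i) := by
  simp only [PiTensorProduct.singleAlgHom_apply, MonoidHom.mulSingle_apply]
  rw [← PiTensorProduct.tprod_prod]
  exact (congrArg _ (Finset.univ_prod_mulSingle (fun j : Fin d => b j))).symm

/-- the tensor power of a finite type algebra is of finite type -/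
theorem finiteType_tpow [Algebra.FiniteType A B] :
    Algebra.FiniteType A (⨂[A] _ : Fin d, B) := by
  classical
  obtain ⟨s, hs⟩ := (Algebra.FiniteType.out : (⊤ : Subalgebra A B).FG)
  refine ⟨⟨Finset.univ.biUnion (fun i : Fin d => s.image
    (PiTensorProduct.singleAlgHom (R := A) (A := fun _ : Fin d => B) i)), ?_⟩⟩
  set D := Algebra.adjoin A (↑(Finset.univ.biUnion (fun i : Fin d => s.image
    (PiTensorProduct.singleAlgHom (R := A) (A := fun _ : Fin d => B) i))) :
      Set (⨂[A] _ : Fin d, B)) with hD
  have h1 : ∀ (i : Fin d) (b : B),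
      PiTensorProduct.singleAlgHom (R := A) (A := fun _ : Fin d => B) i b ∈ D := by
    intro i b
    have hb : b ∈ Algebra.adjoin A (s : Set B) := by rw [hs]; exact Algebra.mem_top
    have h2 : (Algebra.adjoin A (s : Set B)).map
        (PiTensorProduct.singleAlgHom (R := A) (A := fun _ : Fin d => B) i) ≤ D := by
      rw [AlgHom.map_adjoin]
      apply Algebra.adjoin_mono
      intro x hx
      obtain ⟨b', hb', rfl⟩ := hx
      simp only [Finset.coe_biUnion, Finset.coe_univ, Set.mem_univ, Set.iUnion_true,
        Set.mem_iUnion, Finset.coe_image, Set.mem_image]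
      exact ⟨i, b', hb', rfl⟩
    exact h2 ⟨b, hb, rfl⟩
  rw [eq_top_iff]
  intro t _
  have ht : t ∈ Submodule.span A (Set.range (PiTensorProduct.tprod A (s := fun _ : Fin d => B))) := by
    rw [PiTensorProduct.span_tprod_eq_top]; exact Submodule.mem_top
  have hle : Submodule.span A (Set.range (PiTensorProduct.tprod A (s := fun _ : Fin d => B))) ≤
      Subalgebra.toSubmodule D := by
    rw [Submodule.span_le]
    rintro _ ⟨b, rfl⟩
    rw [SetLike.mem_coe, Subalgebra.mem_toSubmodule, tprod_eq_prod_single]
    exact Subalgebra.prod_mem _ (fun i _ => h1 i (b i))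
  exact hle ht

attribute [local instance] permAction

/-- **Noether**: over a Noetherian ring, the symmetric tensors of a finite type algebra form a
finite type algebra -/
theorem finiteType_TS [IsNoetherianRing A] [Algebra.FiniteType A B] :
    Algebra.FiniteType A (SymTen.TS A B d) := by
  have h1 : Algebra.FiniteType A (⨂[A] _ : Fin d, B) := finiteType_tpow A B d
  have h2 : Algebra.IsIntegral (SymTen.TS A B d) (⨂[A] _ : Fin d, B) := isIntegral_TS A B d
  have h3 : Algebra.FiniteType (SymTen.TS A B d) (⨂[A] _ : Fin d, B) :=
    Algebra.FiniteType.of_restrictScalars_finiteType A _ _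
  have h4 : Module.Finite (SymTen.TS A B d) (⨂[A] _ : Fin d, B) := Algebra.IsIntegral.finite
  exact ⟨fg_of_fg_of_fg A (SymTen.TS A B d) (⨂[A] _ : Fin d, B) h1.out h4.fg_top
    Subtype.val_injective⟩

end fintype

end Groth.Agent.Lib.Helper14.TSFinType
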