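/-
Helper library (helper14): the symmetric tensors of a polynomial ring over an arbitrary base form a
finite type algebra (`finiteType_TS_mvPolynomial`), by comparison with a Noetherian subring
(`theta`, `TS_le_W`, `fg_TS_of_fg`).
-/
import Mathlib
import Groth.Prelude.Def_SymTen
import Groth.Agent.Lib.Helper14NormDesc
import Groth.Agent.Lib.Helper14TSGamma2
import Groth.Agent.Lib.Helper14TSFinType

set_option autoImplicit false
universe u
open TensorProduct

namespace Groth.Agent.Lib.Helper14.TSFinType

open Groth.Agent.Lib.Helper14.PolLawExt (P Hyp)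
open Groth.Agent.Lib.Helper14.GammaFin (gen cf)
open Groth.Agent.Lib.Helper14.TSFree
open Groth.Agent.Lib.Helper14.TSGamma

section theta
variable (A₀ A : Type u) [CommRing A₀] [CommRing A] [Algebra A₀ A] (n d : ℕ)

/-- the multilinear map underlying the comparison map from `A₀` -/
noncomputable def thetaMul : MultilinearMap A₀ (fun _ : Fin d => MvPolynomial (Fin n) A₀)
    (⨂[A] _ : Fin d, MvPolynomial (Fin n) A) where
  toFun f := PiTensorProduct.tprod A (fun i => MvPolynomial.map (algebraMap A₀ A) (f i))
  map_update_add' {_} f k x y := by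
    have h : ∀ v : MvPolynomial (Fin n) A₀,
        (fun i => MvPolynomial.map (algebraMap A₀ A) (Function.update f k v i)) =
        Function.update (fun i => MvPolynomial.map (algebraMap A₀ A) (f i)) k
          (MvPolynomial.map (algebraMap A₀ A) v) := by
      intro v
      funext i
      by_cases hi : i = k
      · subst hi; simp
      · simp [Function.update_of_ne hi]
    rw [h, h, h, map_add, MultilinearMap.map_update_add]
  map_update_smul' {_} f k c x := by
    have h : ∀ v : MvPolynomial (Fin n) A₀,
        (fun i => MvPolynomial.map (algebraMap A₀ A) (Function.update f k v i)) =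
        Function.update (fun i => MvPolynomial.map (algebraMap A₀ A) (f i)) k
          (MvPolynomial.map (algebraMap A₀ A) v) := by
      intro v
      funext i
      by_cases hi : i = k
      · subst hi; simp
      · simp [Function.update_of_ne hi]
    have h2 : MvPolynomial.map (algebraMap A₀ A) (c • x) =
        (algebraMap A₀ A c) • MvPolynomial.map (algebraMap A₀ A) x := by
      rw [MvPolynomial.smul_eq_C_mul, map_mul, MvPolynomial.map_C, MvPolynomial.smul_eq_C_mul]
    rw [h, h, h2, MultilinearMap.map_update_smul, algebraMap_smul]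

/-- the comparison map `T^d_{A₀}(A₀[x]) → T^d_A(A[x])` -/
noncomputable def theta : (⨂[A₀] _ : Fin d, MvPolynomial (Fin n) A₀) →ₐ[A₀]
    (⨂[A] _ : Fin d, MvPolynomial (Fin n) A) :=
  PiTensorProduct.liftAlgHom (thetaMul A₀ A n d)
    (by
      show PiTensorProduct.tprod A (fun i => MvPolynomial.map (algebraMap A₀ A) (1 : MvPolynomial (Fin n) A₀)) = 1
      simp only [map_one]
      rfl)
    (fun x y => by
      show PiTensorProduct.tprod A (fun i => MvPolynomial.map (algebraMap A₀ A) ((x * y) i)) =
        PiTensorProduct.tprod A (fun i => MvPolynomial.map (algebraMap A₀ A) (x i)) *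
        PiTensorProduct.tprod A (fun i => MvPolynomial.map (algebraMap A₀ A) (y i))
      rw [PiTensorProduct.tprod_mul_tprod]
      congr 1
      funext i
      simp)

lemma theta_tprod (f : Fin d → MvPolynomial (Fin n) A₀) :
    theta A₀ A n d (PiTensorProduct.tprod A₀ f) =
      PiTensorProduct.tprod A (fun i => MvPolynomial.map (algebraMap A₀ A) (f i)) := by
  rw [theta, PiTensorProduct.liftAlgHom_apply, PiTensorProduct.lift.tprod]
  rfl

end theta


section compare
variable (A₀ A : Type u) [CommRing A₀] [CommRing A] [Algebra A₀ A] (n d : ℕ)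

lemma theta_perm (σ : Equiv.Perm (Fin d)) (t : ⨂[A₀] _ : Fin d, MvPolynomial (Fin n) A₀) :
    theta A₀ A n d (SymTen.perm A₀ (MvPolynomial (Fin n) A₀) d σ t) =
      SymTen.perm A (MvPolynomial (Fin n) A) d σ (theta A₀ A n d t) := by
  induction t using PiTensorProduct.induction_on with
  | smul_tprod r f =>
    have h1 : ∀ y : ⨂[A] _ : Fin d, MvPolynomial (Fin n) A,
        SymTen.perm A (MvPolynomial (Fin n) A) d σ (r • y) =
          r • SymTen.perm A (MvPolynomial (Fin n) A) d σ y := by
      intro y
      rw [← algebraMap_smul A r y, map_smul, algebraMap_smul]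
    rw [map_smul, map_smul, map_smul, h1, SymTen.perm_tprod, theta_tprod, theta_tprod,
      SymTen.perm_tprod]
  | add x y hx hy => simp only [map_add, hx, hy]

lemma theta_mem_TS {t : ⨂[A₀] _ : Fin d, MvPolynomial (Fin n) A₀}
    (ht : t ∈ SymTen.TS A₀ (MvPolynomial (Fin n) A₀) d) :
    theta A₀ A n d t ∈ SymTen.TS A (MvPolynomial (Fin n) A) d := by
  intro σ
  rw [← SymTen.perm_apply, ← theta_perm, SymTen.perm_apply, ht σ]

lemma theta_symB {m : ℕ} (mon : Fin m → MvPolynomial (Fin n) A₀) (ν : Fin m →₀ ℕ) :
    theta A₀ A n d (symB d mon ν) =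
      symB d (fun l => MvPolynomial.map (algebraMap A₀ A) (mon l)) ν := by
  rw [symB, symB, map_sum]
  refine Finset.sum_congr rfl (fun c _ => ?_)
  rw [theta_tprod]

/-- the `A`-span of the image of the symmetric tensors over `A₀` -/
noncomputable def W : Submodule A (⨂[A] _ : Fin d, MvPolynomial (Fin n) A) :=
  Submodule.span A ((theta A₀ A n d) '' (SymTen.TS A₀ (MvPolynomial (Fin n) A₀) d : Set _))

end compare


section span
variable (A₀ A : Type u) [CommRing A₀] [CommRing A] [Algebra A₀ A] (n d : ℕ)

lemma symB_monomial_mem {m : ℕ} (α : Fin m → (Fin n →₀ ℕ)) (ν : Fin m →₀ ℕ) :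
    symB (A := A) d (fun l => MvPolynomial.monomial (α l) (1 : A)) ν ∈ W A₀ A n d := by
  have h := theta_symB A₀ A n d (fun l => MvPolynomial.monomial (α l) (1 : A₀)) ν
  simp only [MvPolynomial.map_monomial, map_one] at h
  rw [← h]
  exact Submodule.subset_span ⟨_, symB_mem d _ ν, rfl⟩

lemma cf_mem {m : ℕ} (b : Fin m → MvPolynomial (Fin n) A) (μ : Fin m →₀ ℕ) :
    ((cf (tau (A := A) (B := MvPolynomial (Fin n) A) d) b μ :
      SymTen.TS A (MvPolynomial (Fin n) A) d) : ⨂[A] _ : Fin d, MvPolynomial (Fin n) A) ∈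
      W A₀ A n d := by
  classical
  set T : Finset (Fin n →₀ ℕ) := Finset.univ.biUnion (fun k => (b k).support) with hT
  set e : Fin T.card ≃ T := T.equivFin.symm with he
  set mon : Fin T.card → MvPolynomial (Fin n) A :=
    fun l => MvPolynomial.monomial (e l).1 (1 : A) with hmon
  have hβ : ∀ k, b k ∈ Submodule.span A (Set.range mon) := by
    intro k
    rw [(b k).as_sum]
    refine Submodule.sum_mem _ (fun α hα => ?_)
    have hαT : α ∈ T := Finset.mem_biUnion.mpr ⟨k, Finset.mem_univ _, hα⟩
    have h1 : MvPolynomial.monomial α (MvPolynomial.coeff α (b k)) =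
        MvPolynomial.coeff α (b k) • mon (e.symm ⟨α, hαT⟩) := by
      rw [hmon]
      simp only [Equiv.apply_symm_apply]
      rw [MvPolynomial.smul_monomial, smul_eq_mul, mul_one]
    rw [h1]
    exact Submodule.smul_mem _ _ (Submodule.subset_span ⟨_, rfl⟩)
  obtain ⟨w, hw⟩ := GammaFin.exists_gen_of_mem (A := A) mon
    (S := P A m) (MvPolynomial.X : Fin m → P A m) b hβ
  have h2 : ((cf (tau (A := A) (B := MvPolynomial (Fin n) A) d) b μ :
      SymTen.TS A (MvPolynomial (Fin n) A) d) : ⨂[A] _ : Fin d, MvPolynomial (Fin n) A) =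
      TensorProduct.equivFinsuppOfBasisLeft (MvPolynomial.basisMonomials (Fin m) A)
        ((SymTen.tpowLaw A (MvPolynomial (Fin n) A) d).law.toFun' (P A m)
          (gen (A := A) b (P A m) MvPolynomial.X)) μ := by
    rw [← lTensor_tau, GammaModGen.equivFinsupp_lTensor]
    rfl
  rw [h2]
  have h3 : gen (A := A) b (P A m) MvPolynomial.X = gen (A := A) mon (P A m) w := by
    rw [← hw]
    rfl
  rw [h3, tpowLaw_gen, map_sum, Finsupp.finsetSum_apply]
  refine Submodule.sum_mem _ (fun ν _ => ?_)
  rw [TensorProduct.equivFinsuppOfBasisLeft_apply_tmul_apply]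
  exact Submodule.smul_mem _ _ (symB_monomial_mem A₀ A n d (fun l => (e l).1) ν)

/-- the symmetric tensors over `A` are spanned by the images of those over `A₀` -/
theorem TS_le_W :
    Subalgebra.toSubmodule (SymTen.TS A (MvPolynomial (Fin n) A) d) ≤ W A₀ A n d := by
  intro y hy
  have hN := Nall_tau_flat (A := A) (B := MvPolynomial (Fin n) A) d
  have key : ∀ z ∈ GammaModGen.Nall (tau (A := A) (B := MvPolynomial (Fin n) A) d),
      (z : ⨂[A] _ : Fin d, MvPolynomial (Fin n) A) ∈ W A₀ A n d := by
    intro z hz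
    induction hz using Submodule.span_induction with
    | mem z hz =>
      obtain ⟨m, b, μ, rfl⟩ := hz
      exact cf_mem A₀ A n d b μ
    | zero => exact zero_mem _
    | add z₁ z₂ _ _ h₁ h₂ => exact add_mem h₁ h₂
    | smul a z _ h => exact Submodule.smul_mem _ a h
  have hy' : (⟨y, hy⟩ : SymTen.TS A (MvPolynomial (Fin n) A) d) ∈
      GammaModGen.Nall (tau (A := A) (B := MvPolynomial (Fin n) A) d) := by
    rw [hN]; exact Submodule.mem_top
  exact key _ hy'

end span


section final
variable (A : Type u) [CommRing A] (n d : ℕ)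

/-- transfer of finite generation along `theta` -/
theorem fg_TS_of_fg (A₀ : Type u) [CommRing A₀] [Algebra A₀ A]
    (h : (⊤ : Subalgebra A₀ (SymTen.TS A₀ (MvPolynomial (Fin n) A₀) d)).FG) :
    (SymTen.TS A (MvPolynomial (Fin n) A) d).FG := by
  classical
  obtain ⟨s, hs⟩ := h
  set ψ : SymTen.TS A₀ (MvPolynomial (Fin n) A₀) d →ₐ[A₀]
      (⨂[A] _ : Fin d, MvPolynomial (Fin n) A) :=
    (theta A₀ A n d).comp (SymTen.TS A₀ (MvPolynomial (Fin n) A₀) d).val with hψ
  refine ⟨s.image ψ, ?_⟩
  set D := Algebra.adjoin A (↑(s.image ψ) : Set (⨂[A] _ : Fin d, MvPolynomial (Fin n) A)) with hD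
  apply le_antisymm
  · apply Algebra.adjoin_le
    intro x hx
    rw [Finset.coe_image] at hx
    obtain ⟨g, -, rfl⟩ := hx
    exact theta_mem_TS A₀ A n d g.2
  · have h1 : ∀ t : SymTen.TS A₀ (MvPolynomial (Fin n) A₀) d, ψ t ∈ D := by
      intro t
      have ht : t ∈ Algebra.adjoin A₀ (s : Set (SymTen.TS A₀ (MvPolynomial (Fin n) A₀) d)) := by
        rw [hs]; exact Algebra.mem_top
      have h2 : (Algebra.adjoin A₀ (s : Set (SymTen.TS A₀ (MvPolynomial (Fin n) A₀) d))).map ψ ≤
          D.restrictScalars A₀ := by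
        rw [AlgHom.map_adjoin]
        apply Algebra.adjoin_le
        intro x hx
        rw [Subalgebra.coe_restrictScalars]
        apply Algebra.subset_adjoin
        rw [Finset.coe_image]
        exact hx
      exact h2 ⟨t, ht, rfl⟩
    have h3 : W A₀ A n d ≤ Subalgebra.toSubmodule D := by
      rw [W, Submodule.span_le]
      rintro _ ⟨t, ht, rfl⟩
      exact h1 ⟨t, ht⟩
    intro y hy
    exact h3 (TS_le_W A₀ A n d hy)

/-- the symmetric tensors of a polynomial ring form a finite type algebra, over any base -/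
theorem finiteType_TS_mvPolynomial :
    Algebra.FiniteType A (SymTen.TS A (MvPolynomial (Fin n) A) d) := by
  rw [← Subalgebra.fg_iff_finiteType]
  apply fg_TS_of_fg A n d (Int.castRingHom A).range
  exact (finiteType_TS (Int.castRingHom A).range
    (MvPolynomial (Fin n) (Int.castRingHom A).range) d).out

end final

end Groth.Agent.Lib.Helper14.TSFinType
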