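/-
Helper library (helper14): points of `T^d_A(B)` with values in a field extension `Ω/k` which take
values in `k` on all orbit sums take values in `k` on all symmetric tensors (`mem_range_of_symB`);
the comparison `thetaB : T^d_A(B) → T^d_k(k ⊗ B)`.
-/
import Mathlib
import Groth.Prelude.Def_SymTen
import Groth.Agent.Lib.Helper14TSFinType2

set_option autoImplicit false
universe u
open TensorProduct

namespace Groth.Agent.Lib.Helper14.TSResidue

open Groth.Agent.Lib.Helper14.PolLawExt (P Hyp)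
open Groth.Agent.Lib.Helper14.GammaFin (gen cf)
open Groth.Agent.Lib.Helper14.TSFree
open Groth.Agent.Lib.Helper14.TSGamma

section theta
variable (A : Type u) [CommRing A] (B : Type u) [CommRing B] [Algebra A B]
  (k : Type u) [CommRing k] [Algebra A k] (d : ℕ)

/-- the multilinear map underlying the base change comparison -/
noncomputable def thetaBMul : MultilinearMap A (fun _ : Fin d => B)
    (⨂[k] _ : Fin d, k ⊗[A] B) where
  toFun b := PiTensorProduct.tprod k (fun i => (1 : k) ⊗ₜ[A] b i)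
  map_update_add' {_} b i x y := by
    have h : ∀ v : B, (fun j => (1 : k) ⊗ₜ[A] Function.update b i v j) =
        Function.update (fun j => (1 : k) ⊗ₜ[A] b j) i ((1 : k) ⊗ₜ[A] v) := by
      intro v
      funext j
      by_cases hj : j = i
      · subst hj; simp
      · simp [Function.update_of_ne hj]
    rw [h, h, h, TensorProduct.tmul_add, MultilinearMap.map_update_add]
  map_update_smul' {_} b i c x := by
    have h : ∀ v : B, (fun j => (1 : k) ⊗ₜ[A] Function.update b i v j) =
        Function.update (fun j => (1 : k) ⊗ₜ[A] b j) i ((1 : k) ⊗ₜ[A] v) := by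
      intro v
      funext j
      by_cases hj : j = i
      · subst hj; simp
      · simp [Function.update_of_ne hj]
    have h2 : (1 : k) ⊗ₜ[A] (c • x) = (algebraMap A k c) • ((1 : k) ⊗ₜ[A] x) := by
      rw [TensorProduct.tmul_smul, TensorProduct.smul_tmul', TensorProduct.smul_tmul',
        Algebra.smul_def, mul_one, smul_eq_mul, mul_one]
    rw [h, h, h2, MultilinearMap.map_update_smul, algebraMap_smul]

/-- the comparison map `T^d_A(B) → T^d_k(k ⊗ B)` -/
noncomputable def thetaB : (⨂[A] _ : Fin d, B) →ₗ[A] (⨂[k] _ : Fin d, k ⊗[A] B) :=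
  PiTensorProduct.lift (thetaBMul A B k d)

lemma thetaB_tprod (b : Fin d → B) :
    thetaB A B k d (PiTensorProduct.tprod A b) =
      PiTensorProduct.tprod k (fun i => (1 : k) ⊗ₜ[A] b i) := by
  rw [thetaB, PiTensorProduct.lift.tprod]
  rfl

lemma thetaB_reindex (σ : Equiv.Perm (Fin d)) (t : ⨂[A] _ : Fin d, B) :
    thetaB A B k d (PiTensorProduct.reindex A (fun _ : Fin d => B) σ t) =
      PiTensorProduct.reindex k (fun _ : Fin d => k ⊗[A] B) σ (thetaB A B k d t) := by
  induction t using PiTensorProduct.induction_on with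
  | smul_tprod r f =>
    have h1 : ∀ y : ⨂[k] _ : Fin d, k ⊗[A] B,
        PiTensorProduct.reindex k (fun _ : Fin d => k ⊗[A] B) σ (r • y) =
          r • PiTensorProduct.reindex k (fun _ : Fin d => k ⊗[A] B) σ y := by
      intro y
      rw [← algebraMap_smul k r y, map_smul, algebraMap_smul]
    rw [map_smul, map_smul, map_smul, h1, PiTensorProduct.reindex_tprod, thetaB_tprod,
      thetaB_tprod, PiTensorProduct.reindex_tprod]
  | add x y hx hy => simp only [map_add, hx, hy]

lemma thetaB_mem_TS {t : ⨂[A] _ : Fin d, B} (ht : t ∈ SymTen.TS A B d) :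
    thetaB A B k d t ∈ SymTen.TS k (k ⊗[A] B) d := by
  intro σ
  rw [← thetaB_reindex, ht σ]

lemma thetaB_symB {m : ℕ} (b : Fin m → B) (ν : Fin m →₀ ℕ) :
    thetaB A B k d (symB d b ν) = symB (A := k) d (fun l => (1 : k) ⊗ₜ[A] b l) ν := by
  rw [symB, symB, map_sum]
  refine Finset.sum_congr rfl (fun c _ => ?_)
  rw [thetaB_tprod]

end theta


section span
variable (A : Type u) [CommRing A] (B : Type u) [CommRing B] [Algebra A B]
  (k : Type u) [CommRing k] [Algebra A k] (d : ℕ)

/-- the `k`-span of the images of the orbit sums of `B` -/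
noncomputable def Wk : Submodule k (⨂[k] _ : Fin d, k ⊗[A] B) :=
  Submodule.span k {t | ∃ (m : ℕ) (b : Fin m → B) (ν : Fin m →₀ ℕ),
    t = thetaB A B k d (symB d b ν)}

lemma exists_fin_sum_one_tmul (S : Type u) [CommSemiring S] [Algebra k S]
    (x : S ⊗[k] (k ⊗[A] B)) :
    ∃ (r : ℕ) (s : Fin r → S) (b : Fin r → B), x = ∑ l, s l ⊗ₜ[k] ((1 : k) ⊗ₜ[A] b l) := by
  induction x using TensorProduct.induction_on with
  | zero => exact ⟨0, Fin.elim0, Fin.elim0, by simp⟩
  | tmul s y =>
    induction y using TensorProduct.induction_on with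
    | zero => exact ⟨0, Fin.elim0, Fin.elim0, by simp⟩
    | tmul c b =>
      refine ⟨1, fun _ => c • s, fun _ => b, ?_⟩
      rw [Fin.sum_univ_one, TensorProduct.smul_tmul]
      congr 1
      rw [TensorProduct.smul_tmul', smul_eq_mul, mul_one]
    | add y y' hy hy' =>
      obtain ⟨r, s₁, b₁, h₁⟩ := hy
      obtain ⟨r', s₂, b₂, h₂⟩ := hy'
      refine ⟨r + r', Fin.append s₁ s₂, Fin.append b₁ b₂, ?_⟩
      rw [TensorProduct.tmul_add, h₁, h₂, Fin.sum_univ_add]
      simp
  | add x x' hx hx' =>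
    obtain ⟨r, s₁, b₁, h₁⟩ := hx
    obtain ⟨r', s₂, b₂, h₂⟩ := hx'
    refine ⟨r + r', Fin.append s₁ s₂, Fin.append b₁ b₂, ?_⟩
    rw [h₁, h₂, Fin.sum_univ_add]
    simp

lemma tpowLaw_mem_range (S : Type u) [CommSemiring S] [Algebra k S]
    (x : S ⊗[k] (k ⊗[A] B)) :
    (SymTen.tpowLaw k (k ⊗[A] B) d).law.toFun' S x ∈
      LinearMap.range ((Wk A B k d).subtype.lTensor S) := by
  obtain ⟨r, s, b, rfl⟩ := exists_fin_sum_one_tmul A B k S x
  have h := tpowLaw_gen (A := k) d (fun l => (1 : k) ⊗ₜ[A] b l) S s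
  rw [gen] at h
  rw [h]
  refine Submodule.sum_mem _ (fun ν _ => ?_)
  refine ⟨(MvPolynomial.aeval s (MvPolynomial.monomial ν (1 : k))) ⊗ₜ[k]
    ⟨symB (A := k) d (fun l => (1 : k) ⊗ₜ[A] b l) ν, ?_⟩, rfl⟩
  rw [← thetaB_symB]
  exact Submodule.subset_span ⟨r, b, ν, rfl⟩

/-- over a field (or whenever `k ⊗ B` is flat over `k`), the symmetric tensors of `k ⊗ B` are
spanned by the images of the orbit sums of `B` -/
theorem TS_le_Wk [Module.Flat k (k ⊗[A] B)] :
    Subalgebra.toSubmodule (SymTen.TS k (k ⊗[A] B) d) ≤ Wk A B k d := by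
  classical
  intro y hy
  have hN := Nall_tau_flat (A := k) (B := k ⊗[A] B) d
  have key : ∀ z ∈ GammaModGen.Nall (tau (A := k) (B := k ⊗[A] B) d),
      (z : ⨂[k] _ : Fin d, k ⊗[A] B) ∈ Wk A B k d := by
    intro z hz
    induction hz using Submodule.span_induction with
    | mem z hz =>
      obtain ⟨m, b, μ, rfl⟩ := hz
      have h2 : ((cf (tau (A := k) (B := k ⊗[A] B) d) b μ :
          SymTen.TS k (k ⊗[A] B) d) : ⨂[k] _ : Fin d, k ⊗[A] B) =
          TensorProduct.equivFinsuppOfBasisLeft (MvPolynomial.basisMonomials (Fin m) k)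
            ((SymTen.tpowLaw k (k ⊗[A] B) d).law.toFun' (P k m)
              (gen (A := k) b (P k m) MvPolynomial.X)) μ := by
        rw [← lTensor_tau, GammaModGen.equivFinsupp_lTensor]
        rfl
      rw [h2]
      exact GammaFin.coeff_mem_of_mem_range (MvPolynomial.basisMonomials (Fin m) k)
        (Wk A B k d) (tpowLaw_mem_range A B k d (P k m) _) μ
    | zero => exact zero_mem _
    | add z₁ z₂ _ _ h₁ h₂ => exact add_mem h₁ h₂
    | smul a z _ h => exact Submodule.smul_mem _ a h
  have hy' : (⟨y, hy⟩ : SymTen.TS k (k ⊗[A] B) d) ∈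
      GammaModGen.Nall (tau (A := k) (B := k ⊗[A] B) d) := by
    rw [hN]; exact Submodule.mem_top
  exact key _ hy'

end span


section eval
variable {A : Type u} [CommRing A] {B : Type u} [CommRing B] [Algebra A B]
  {k : Type u} [CommRing k] [Algebra A k] {d : ℕ}
  {Ω : Type u} [CommRing Ω] [Algebra k Ω] [Algebra A Ω] [IsScalarTower A k Ω]
  (x : (⨂[A] _ : Fin d, B) →ₐ[A] Ω)

/-- the components of a point of the tensor power -/
noncomputable def xi (i : Fin d) : B →ₐ[A] Ω :=
  x.comp (PiTensorProduct.singleAlgHom (R := A) (A := fun _ : Fin d => B) i)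

/-- their `k`-linear extensions -/
noncomputable def xti (i : Fin d) : k ⊗[A] B →ₐ[k] Ω :=
  Algebra.TensorProduct.lift (Algebra.ofId k Ω) (xi x i) (fun _ _ => Commute.all _ _)

lemma xti_one_tmul (i : Fin d) (b : B) : xti (k := k) x i ((1 : k) ⊗ₜ[A] b) = xi x i b := by
  rw [xti, Algebra.TensorProduct.lift_tmul, map_one, one_mul]

/-- the `k`-linear extension of the point to `T^d_k(k ⊗ B)` -/
noncomputable def xt : (⨂[k] _ : Fin d, k ⊗[A] B) →ₗ[k] Ω :=
  PiTensorProduct.lift ((MultilinearMap.mkPiAlgebra k (Fin d) Ω).compLinearMap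
    (fun i => (xti (k := k) x i).toLinearMap))

lemma xt_tprod (c : Fin d → k ⊗[A] B) :
    xt (k := k) x (PiTensorProduct.tprod k c) = ∏ i, xti (k := k) x i (c i) := by
  rw [xt, PiTensorProduct.lift.tprod]
  rfl

lemma xt_thetaB (t : ⨂[A] _ : Fin d, B) : xt (k := k) x (thetaB A B k d t) = x t := by
  induction t using PiTensorProduct.induction_on with
  | smul_tprod r b =>
    have h1 : ∀ z : ⨂[k] _ : Fin d, k ⊗[A] B,
        xt (k := k) x (r • z) = r • xt (k := k) x z := by
      intro z
      rw [← algebraMap_smul k r z, map_smul, algebraMap_smul]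
    rw [map_smul (thetaB A B k d), h1, map_smul x, thetaB_tprod, xt_tprod]
    congr 1
    rw [TSFinType.tprod_eq_prod_single, map_prod]
    refine Finset.prod_congr rfl (fun i _ => ?_)
    rw [xti_one_tmul]
    rfl
  | add y z hy hz => rw [map_add, map_add, hy, hz, map_add]

/-- **key lemma**: if a point of the tensor power takes values in `k` on all orbit sums, it takes
values in `k` on all symmetric tensors -/
theorem mem_range_of_symB [Module.Flat k (k ⊗[A] B)]
    (h : ∀ (m : ℕ) (b : Fin m → B) (ν : Fin m →₀ ℕ),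
      x (symB d b ν) ∈ Set.range (algebraMap k Ω))
    (y : ⨂[A] _ : Fin d, B) (hy : y ∈ SymTen.TS A B d) :
    x y ∈ Set.range (algebraMap k Ω) := by
  have h1 : thetaB A B k d y ∈ Wk A B k d :=
    TS_le_Wk A B k d (thetaB_mem_TS A B k d hy)
  have h2 : Wk A B k d ≤ (LinearMap.range (Algebra.linearMap k Ω)).comap (xt (k := k) x) := by
    rw [Wk, Submodule.span_le]
    rintro _ ⟨m, b, ν, rfl⟩
    rw [SetLike.mem_coe, Submodule.mem_comap, xt_thetaB]
    obtain ⟨c, hc⟩ := h m b ν
    exact ⟨c, hc⟩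
  have h3 := h2 h1
  rw [Submodule.mem_comap, xt_thetaB] at h3
  obtain ⟨c, hc⟩ := h3
  exact ⟨c, hc⟩

end eval

end Groth.Agent.Lib.Helper14.TSResidue
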