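import Mathlib
import Groth.Prelude.Def_PolLaw
import Groth.Agent.Lib.Helper14PolLawRed
import Groth.Agent.Lib.Helper14GammaUniv
import Groth.Agent.Lib.Helper14TSResidue

/-!
# Restriction of scalars for polynomial laws on a base-changed algebra (helper14)

`R → Q` a ring map, `B` an `R`-algebra, `C` a `Q`-algebra (also an `R`-algebra).  A law
`G : Q ⊗[R] B → C` over `Q` restricts to a law `res G : B → C` over `R`:
`(res G)_S = out ∘ G_{Q ⊗ S} ∘ inn`.
-/

set_option autoImplicit false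
set_option linter.unusedVariables false
set_option linter.unusedSectionVars false
set_option linter.style.haveILetI false
universe u
open TensorProduct

namespace Groth.Agent.Lib.Helper14.LawBC

open Groth.Agent.Lib.Helper14.PolLawRed (toFun'_map rTensor_eq_map)

variable {R : Type u} [CommRing R] {Q : Type u} [CommRing Q] [Algebra R Q]

section maps
variable (Q) (B : Type u) [CommRing B] [Algebra R B]
  (C : Type u) [CommRing C] [Algebra R C] [Algebra Q C] [IsScalarTower R Q C]
  (S : Type u) [CommSemiring S] [Algebra R S]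

/-- `S ⊗[R] B → (Q ⊗[R] S) ⊗[Q] (Q ⊗[R] B)`, `s ⊗ b ↦ (1 ⊗ s) ⊗ (1 ⊗ b)` -/
noncomputable def inn : S ⊗[R] B →ₐ[R] (Q ⊗[R] S) ⊗[Q] (Q ⊗[R] B) :=
  ((Algebra.TensorProduct.cancelBaseChange R Q Q (Q ⊗[R] S) B).symm.toAlgHom.restrictScalars R).comp
    (Algebra.TensorProduct.map (Algebra.TensorProduct.includeRight : S →ₐ[R] Q ⊗[R] S)
      (AlgHom.id R B))

@[simp] lemma inn_tmul (s : S) (b : B) :
    inn Q B S (s ⊗ₜ[R] b) = ((1 : Q) ⊗ₜ[R] s) ⊗ₜ[Q] ((1 : Q) ⊗ₜ[R] b) := by
  simp [inn]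

/-- `(Q ⊗[R] S) ⊗[Q] C ≃ S ⊗[R] C`, `(q ⊗ s) ⊗ c ↦ s ⊗ q c` -/
noncomputable def out : (Q ⊗[R] S) ⊗[Q] C ≃ₐ[R] S ⊗[R] C :=
  (((Algebra.TensorProduct.comm Q (Q ⊗[R] S) C).trans
    (Algebra.TensorProduct.cancelBaseChange R Q Q C S)).restrictScalars R).trans
    (Algebra.TensorProduct.comm R C S)

@[simp] lemma out_tmul (q : Q) (s : S) (c : C) :
    out Q C S ((q ⊗ₜ[R] s) ⊗ₜ[Q] c) = s ⊗ₜ[R] (q • c) := by
  simp [out]

@[simp] lemma out_symm_tmul (s : S) (c : C) :
    (out Q C S).symm (s ⊗ₜ[R] c) = ((1 : Q) ⊗ₜ[R] s) ⊗ₜ[Q] c := by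
  rw [AlgEquiv.symm_apply_eq, out_tmul, one_smul]

variable {S} {S' : Type u} [CommSemiring S'] [Algebra R S']

/-- the base change of an algebra map of test algebras -/
noncomputable abbrev bcHom (φ : S →ₐ[R] S') : Q ⊗[R] S →ₐ[Q] Q ⊗[R] S' :=
  Algebra.TensorProduct.map (AlgHom.id Q Q) φ

lemma inn_natural (φ : S →ₐ[R] S') (x : S ⊗[R] B) :
    inn Q B S' (Algebra.TensorProduct.map φ (AlgHom.id R B) x) =
      Algebra.TensorProduct.map (bcHom Q φ) (AlgHom.id Q (Q ⊗[R] B)) (inn Q B S x) := by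
  induction x using TensorProduct.induction_on with
  | zero => simp
  | tmul s b => simp [Algebra.TensorProduct.map_tmul]
  | add x y hx hy => simp only [map_add, hx, hy]

lemma out_natural (φ : S →ₐ[R] S') (y : (Q ⊗[R] S) ⊗[Q] C) :
    out Q C S' (Algebra.TensorProduct.map (bcHom Q φ) (AlgHom.id Q C) y) =
      Algebra.TensorProduct.map φ (AlgHom.id R C) (out Q C S y) := by
  induction y using TensorProduct.induction_on with
  | zero => simp
  | tmul w c =>
    induction w using TensorProduct.induction_on with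
    | zero => simp
    | tmul q s => simp [Algebra.TensorProduct.map_tmul]
    | add w w' hw hw' => simp only [TensorProduct.add_tmul, map_add, hw, hw']
  | add y y' hy hy' => simp only [map_add, hy, hy']

end maps

section res
variable {B : Type u} [CommRing B] [Algebra R B]
  {C : Type u} [CommRing C] [Algebra R C] [Algebra Q C] [IsScalarTower R Q C]

/-- restriction of scalars of a law on `Q ⊗[R] B` -/
noncomputable def res (G : (Q ⊗[R] B) →ₚₗ[Q] C) : B →ₚₗ[R] C where
  toFun' S _ _ := fun x => out Q C S (G.toFun' (Q ⊗[R] S) (inn Q B S x))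
  isCompat' {S} _ _ {S'} _ _ φ := by
    funext x
    simp only [Function.comp_apply]
    rw [rTensor_eq_map, rTensor_eq_map, inn_natural, toFun'_map, out_natural]

lemma res_toFun' (G : (Q ⊗[R] B) →ₚₗ[Q] C) (S : Type u) [CommSemiring S] [Algebra R S]
    (x : S ⊗[R] B) :
    (res G).toFun' S x = out Q C S (G.toFun' (Q ⊗[R] S) (inn Q B S x)) := rfl

lemma smul_eq_tmul_one_mul {B' : Type*} [CommRing B'] [Algebra R B'] {S : Type*} [CommSemiring S]
    [Algebra R S] (s : S) (x : S ⊗[R] B') : s • x = (s ⊗ₜ[R] (1 : B')) * x := by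
  induction x using TensorProduct.induction_on with
  | zero => simp
  | tmul a b =>
    rw [TensorProduct.smul_tmul', Algebra.TensorProduct.tmul_mul_tmul, smul_eq_mul, one_mul]
  | add x y hx hy => rw [smul_add, hx, hy, mul_add]

lemma inn_smul (S : Type u) [CommSemiring S] [Algebra R S] (s : S) (x : S ⊗[R] B) :
    inn Q B S (s • x) = ((1 : Q) ⊗ₜ[R] s) • inn Q B S x := by
  rw [smul_eq_tmul_one_mul, map_mul, inn_tmul, smul_eq_tmul_one_mul (R := Q)]
  rfl

lemma out_smul (S : Type u) [CommSemiring S] [Algebra R S] (s : S) (n : ℕ)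
    (y : (Q ⊗[R] S) ⊗[Q] C) :
    out Q C S (((1 : Q) ⊗ₜ[R] s) ^ n • y) = s ^ n • out Q C S y := by
  rw [smul_eq_tmul_one_mul (R := Q), map_mul, Algebra.TensorProduct.tmul_pow, one_pow, out_tmul,
    one_smul, smul_eq_tmul_one_mul]

variable {d : ℕ}

/-- restriction of scalars of a multiplicative homogeneous law -/
noncomputable def resMul (G : PolLaw.MulLaw Q (Q ⊗[R] B) C d) : PolLaw.MulLaw R B C d where
  law := res G.law
  homog S _ _ s x := by
    rw [res_toFun', res_toFun', inn_smul, G.homog, out_smul]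
  mult S _ _ := by
    refine ⟨?_, fun x y => ?_⟩
    · rw [res_toFun', map_one, (G.mult _).1, map_one]
    · rw [res_toFun', res_toFun', res_toFun', map_mul, (G.mult _).2, map_mul]

@[simp] lemma resMul_law (G : PolLaw.MulLaw Q (Q ⊗[R] B) C d) : (resMul G).law = res G.law := rfl

end res

section postcomp
variable {B : Type u} [CommRing B] [Algebra R B]
  {C : Type u} [CommRing C] [Algebra R C] [Algebra Q C] [IsScalarTower R Q C]
  {C' : Type u} [CommRing C'] [Algebra R C'] [Algebra Q C'] [IsScalarTower R Q C']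

lemma out_map (g : C →ₐ[Q] C') (S : Type u) [CommSemiring S] [Algebra R S]
    (y : (Q ⊗[R] S) ⊗[Q] C) :
    out Q C' S (Algebra.TensorProduct.map (AlgHom.id (Q ⊗[R] S) (Q ⊗[R] S)) g y) =
      Algebra.TensorProduct.map (AlgHom.id S S) (g.restrictScalars R) (out Q C S y) := by
  induction y using TensorProduct.induction_on with
  | zero => simp
  | tmul w c =>
    induction w using TensorProduct.induction_on with
    | zero => simp
    | tmul q s => simp [Algebra.TensorProduct.map_tmul]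
    | add w w' hw hw' => simp only [TensorProduct.add_tmul, map_add, hw, hw']
  | add y y' hy hy' => simp only [map_add, hy, hy']

theorem res_postcomp (g : C →ₐ[Q] C') (G : (Q ⊗[R] B) →ₚₗ[Q] C) :
    res (PolLaw.postcomp g.toLinearMap G) =
      PolLaw.postcomp (g.restrictScalars R).toLinearMap (res G) := by
  ext S _ _ x
  show out Q C' S (g.toLinearMap.lTensor (Q ⊗[R] S) (G.toFun' (Q ⊗[R] S) (inn Q B S x))) =
    (g.restrictScalars R).toLinearMap.lTensor S (out Q C S (G.toFun' (Q ⊗[R] S) (inn Q B S x)))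
  rw [PolLaw.lTensor_algHom_apply, PolLaw.lTensor_algHom_apply, out_map]

end postcomp

section inj
variable {B : Type u} [CommRing B] [Algebra R B]
  {C : Type u} [CommRing C] [Algebra R C] [Algebra Q C] [IsScalarTower R Q C]

theorem res_injective (G G' : (Q ⊗[R] B) →ₚₗ[Q] C) (h : res G = res G') : G = G' := by
  classical
  apply Groth.Agent.Lib.Helper14.GammaUniv.law_ext_P
  intro n x
  obtain ⟨r, p, b, rfl⟩ :=
    Groth.Agent.Lib.Helper14.TSResidue.exists_fin_sum_one_tmul R B Q (MvPolynomial (Fin n) Q) x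
  set S₀ := MvPolynomial (Fin r) R with hS₀
  set x₀ : S₀ ⊗[R] B := ∑ l, (MvPolynomial.X l : S₀) ⊗ₜ[R] b l with hx₀
  set ψ : Q ⊗[R] S₀ →ₐ[Q] MvPolynomial (Fin n) Q :=
    Algebra.TensorProduct.lift (Algebra.ofId Q _) (MvPolynomial.aeval p) (fun _ _ => Commute.all _ _)
    with hψ
  have hx : ∑ l, p l ⊗ₜ[Q] ((1 : Q) ⊗ₜ[R] b l) =
      Algebra.TensorProduct.map ψ (AlgHom.id Q (Q ⊗[R] B)) (inn Q B S₀ x₀) := by
    rw [hx₀, map_sum, map_sum]
    refine Finset.sum_congr rfl (fun l _ => ?_)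
    rw [inn_tmul, Algebra.TensorProduct.map_tmul, hψ, Algebra.TensorProduct.lift_tmul, map_one,
      one_mul, MvPolynomial.aeval_X]
    rfl
  have key : ∀ G₁ : (Q ⊗[R] B) →ₚₗ[Q] C, G₁.toFun' (Q ⊗[R] S₀) (inn Q B S₀ x₀) =
      (out Q C S₀).symm ((res G₁).toFun' S₀ x₀) := by
    intro G₁
    rw [res_toFun', AlgEquiv.symm_apply_apply]
  rw [hx, toFun'_map, toFun'_map, key G, key G', h]

end inj

end Groth.Agent.Lib.Helper14.LawBC
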