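import Mathlib
import Groth.Prelude.Def_PolLaw
import Groth.Agent.Lib.Helper14LawBC

/-!
# Extension of scalars for polynomial laws and base change of divided power algebras (helper14)

`ext F : Q ⊗[R] B → C` over `Q` for a law `F : B → C` over `R` (`C` a `Q`-algebra), `res (ext F) = F`,
`extMul`, and `isGammaD_baseChange`: the base change of a universal multiplicative law is universal.
-/

set_option autoImplicit false
set_option linter.unusedVariables false
set_option linter.unusedSectionVars false
set_option linter.style.haveILetI false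
universe u
open TensorProduct

namespace Groth.Agent.Lib.Helper14.LawBC

open Groth.Agent.Lib.Helper14.PolLawRed (toFun'_map rTensor_eq_map)

variable {R : Type u} [CommRing R] {Q : Type u} [CommRing Q] [Algebra R Q]

section ext
variable {B : Type u} [CommRing B] [Algebra R B]
  {C : Type u} [CommRing C] [Algebra R C] [Algebra Q C] [IsScalarTower R Q C]

section compat
variable (S : Type u) [CommSemiring S] [Algebra R S] [Algebra Q S] [IsScalarTower R Q S]

/-- the projection `S ⊗[R] C → S ⊗[Q] C` -/
noncomputable def proj : S ⊗[R] C →ₐ[R] S ⊗[Q] C :=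
  Algebra.TensorProduct.productMap
    ((Algebra.TensorProduct.includeLeft : S →ₐ[Q] S ⊗[Q] C).restrictScalars R)
    ((Algebra.TensorProduct.includeRight : C →ₐ[Q] S ⊗[Q] C).restrictScalars R)

@[simp] lemma proj_tmul (s : S) (c : C) : proj (Q := Q) S (s ⊗ₜ[R] c) = s ⊗ₜ[Q] c := by
  simp [proj]

/-- value of the extended law on a test algebra with compatible structures -/
noncomputable def extFun (F : B →ₚₗ[R] C) (x : S ⊗[Q] (Q ⊗[R] B)) : S ⊗[Q] C :=
  proj S (F.toFun' S (Algebra.TensorProduct.cancelBaseChange R Q S S B x))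

lemma extFun_one (F : B →ₚₗ[R] C) (h1 : F.toFun' S 1 = 1) :
    extFun (Q := Q) S F (1 : S ⊗[Q] (Q ⊗[R] B)) = 1 := by
  rw [extFun, map_one, h1, map_one]

lemma extFun_mul (F : B →ₚₗ[R] C)
    (hm : ∀ x y : S ⊗[R] B, F.toFun' S (x * y) = F.toFun' S x * F.toFun' S y)
    (x y : S ⊗[Q] (Q ⊗[R] B)) : extFun S F (x * y) = extFun S F x * extFun S F y := by
  rw [extFun, map_mul, hm, map_mul]
  rfl

lemma proj_smul (s : S) (y : S ⊗[R] C) : proj (Q := Q) S (s • y) = s • proj S y := by
  rw [smul_eq_tmul_one_mul, map_mul, proj_tmul, smul_eq_tmul_one_mul (R := Q)]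

lemma extFun_smul (F : B →ₚₗ[R] C) (d : ℕ)
    (hh : ∀ (s : S) (x : S ⊗[R] B), F.toFun' S (s • x) = s ^ d • F.toFun' S x)
    (s : S) (x : S ⊗[Q] (Q ⊗[R] B)) : extFun S F (s • x) = s ^ d • extFun S F x := by
  rw [extFun, map_smul, hh, proj_smul]
  rfl

end compat

lemma extFun_natural (F : B →ₚₗ[R] C) {S S' : Type u} [CommSemiring S] [Algebra R S] [Algebra Q S]
    [IsScalarTower R Q S] [CommSemiring S'] [Algebra R S'] [Algebra Q S'] [IsScalarTower R Q S']
    (φ : S →ₐ[Q] S') (x : S ⊗[Q] (Q ⊗[R] B)) :
    Algebra.TensorProduct.map φ (AlgHom.id Q C) (extFun S F x) =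
      extFun S' F (Algebra.TensorProduct.map φ (AlgHom.id Q (Q ⊗[R] B)) x) := by
  have ha : ∀ x : S ⊗[Q] (Q ⊗[R] B),
      Algebra.TensorProduct.cancelBaseChange R Q S' S' B
        (Algebra.TensorProduct.map φ (AlgHom.id Q (Q ⊗[R] B)) x) =
      Algebra.TensorProduct.map (φ.restrictScalars R) (AlgHom.id R B)
        (Algebra.TensorProduct.cancelBaseChange R Q S S B x) := by
    intro x
    induction x using TensorProduct.induction_on with
    | zero => simp
    | tmul s w =>
      induction w using TensorProduct.induction_on with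
      | zero => simp
      | tmul q b => simp [Algebra.TensorProduct.map_tmul]
      | add w w' hw hw' => simp only [TensorProduct.tmul_add, map_add, hw, hw']
    | add x y hx hy => simp only [map_add, hx, hy]
  have hc : ∀ z : S ⊗[R] C, proj (Q := Q) S'
      (Algebra.TensorProduct.map (φ.restrictScalars R) (AlgHom.id R C) z) =
      Algebra.TensorProduct.map φ (AlgHom.id Q C) (proj S z) := by
    intro z
    induction z using TensorProduct.induction_on with
    | zero => simp
    | tmul s c => simp [Algebra.TensorProduct.map_tmul]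
    | add x y hx hy => simp only [map_add, hx, hy]
  rw [extFun, extFun, ha, toFun'_map, hc]

/-- extension of scalars of a law with values in a `Q`-algebra -/
noncomputable def ext (F : B →ₚₗ[R] C) : (Q ⊗[R] B) →ₚₗ[Q] C where
  toFun' S _ _ :=
    letI : Algebra R S := Algebra.compHom S (algebraMap R Q)
    haveI : IsScalarTower R Q S := IsScalarTower.of_algebraMap_eq (fun _ => rfl)
    extFun S F
  isCompat' {S} _ _ {S'} _ _ φ := by
    letI : Algebra R S := Algebra.compHom S (algebraMap R Q)
    haveI : IsScalarTower R Q S := IsScalarTower.of_algebraMap_eq (fun _ => rfl)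
    letI : Algebra R S' := Algebra.compHom S' (algebraMap R Q)
    haveI : IsScalarTower R Q S' := IsScalarTower.of_algebraMap_eq (fun _ => rfl)
    funext x
    simp only [Function.comp_apply]
    rw [rTensor_eq_map, rTensor_eq_map]
    exact extFun_natural F φ x

lemma ext_toFun' (F : B →ₚₗ[R] C) (S : Type u) [CommSemiring S] [i1 : Algebra R S] [Algebra Q S]
    [i3 : IsScalarTower R Q S] (x : S ⊗[Q] (Q ⊗[R] B)) :
    (ext (Q := Q) F).toFun' S x = extFun S F x := by
  have h : i1 = Algebra.compHom S (algebraMap R Q) := by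
    apply Algebra.algebra_ext
    intro r
    exact IsScalarTower.algebraMap_apply R Q S r
  subst h
  rfl

variable {d : ℕ}

/-- extension of scalars of a multiplicative homogeneous law -/
noncomputable def extMul (F : PolLaw.MulLaw R B C d) : PolLaw.MulLaw Q (Q ⊗[R] B) C d where
  law := ext F.law
  homog S _ _ s x := by
    letI : Algebra R S := Algebra.compHom S (algebraMap R Q)
    haveI : IsScalarTower R Q S := IsScalarTower.of_algebraMap_eq (fun _ => rfl)
    exact extFun_smul S F.law d (fun s x => F.homog S s x) s x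
  mult S _ _ := by
    letI : Algebra R S := Algebra.compHom S (algebraMap R Q)
    haveI : IsScalarTower R Q S := IsScalarTower.of_algebraMap_eq (fun _ => rfl)
    exact ⟨extFun_one S F.law (F.mult S).1, extFun_mul S F.law (F.mult S).2⟩

@[simp] lemma extMul_law (F : PolLaw.MulLaw R B C d) : (extMul (Q := Q) F).law = ext F.law := rfl

theorem res_ext (F : B →ₚₗ[R] C) : res (ext (Q := Q) F) = F := by
  ext S _ _ x
  rw [res_toFun', ext_toFun', extFun]
  have h1 : Algebra.TensorProduct.cancelBaseChange R Q (Q ⊗[R] S) (Q ⊗[R] S) B (inn Q B S x) =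
      Algebra.TensorProduct.map (Algebra.TensorProduct.includeRight : S →ₐ[R] Q ⊗[R] S)
        (AlgHom.id R B) x := by
    induction x using TensorProduct.induction_on with
    | zero => simp
    | tmul s b => simp [Algebra.TensorProduct.map_tmul]
    | add x y hx hy => simp only [map_add, hx, hy]
  have h2 : ∀ z : S ⊗[R] C, out Q C S (proj (Q := Q) (Q ⊗[R] S)
      (Algebra.TensorProduct.map (Algebra.TensorProduct.includeRight : S →ₐ[R] Q ⊗[R] S)
        (AlgHom.id R C) z)) = z := by
    intro z
    induction z using TensorProduct.induction_on with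
    | zero => simp
    | tmul s c => simp [Algebra.TensorProduct.map_tmul]
    | add x y hx hy => simp only [map_add, hx, hy]
  rw [h1, toFun'_map, h2]

theorem ext_res (G : (Q ⊗[R] B) →ₚₗ[Q] C) : ext (res G) = G :=
  res_injective _ _ (res_ext _)

end ext

end Groth.Agent.Lib.Helper14.LawBC
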