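import Mathlib
import Groth.Prelude.Def_PolLaw
import Groth.Agent.Lib.Helper14LawBC2

/-!
# Base change and uniqueness of divided power algebras `Γ^d_A(B)` (helper14)

* `isGammaD_baseChange`: if `γ : B → C₀` is universal over `R` then its extension
  `Q ⊗[R] B → Q ⊗[R] C₀` is universal over `Q`.
* `algEquiv_of_isGammaD`: two universal laws on `B` have isomorphic targets.
* `isGammaD_precomp_equiv`: transport of universality along an isomorphism of the source.
-/

set_option autoImplicit false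
set_option linter.unusedVariables false
set_option linter.unusedSectionVars false
set_option linter.style.haveILetI false
universe u
open TensorProduct

namespace Groth.Agent.Lib.Helper14.LawBC

section gen
variable {A : Type u} [CommRing A] {M N N' N'' : Type u} [AddCommGroup M] [Module A M]
  [AddCommGroup N] [Module A N] [AddCommGroup N'] [Module A N'] [AddCommGroup N''] [Module A N'']

lemma postcomp_postcomp (g : N' →ₗ[A] N'') (h : N →ₗ[A] N') (F : M →ₚₗ[A] N) :
    PolLaw.postcomp g (PolLaw.postcomp h F) = PolLaw.postcomp (g ∘ₗ h) F := by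
  ext S _ _ x
  show g.lTensor S (h.lTensor S (F.toFun' S x)) = (g ∘ₗ h).lTensor S (F.toFun' S x)
  rw [LinearMap.lTensor_comp, LinearMap.comp_apply]

lemma postcomp_id (F : M →ₚₗ[A] N) : PolLaw.postcomp LinearMap.id F = F := by
  ext S _ _ x
  show (LinearMap.id : N →ₗ[A] N).lTensor S (F.toFun' S x) = F.toFun' S x
  rw [LinearMap.lTensor_id, LinearMap.id_apply]

end gen

section uniq
variable {A : Type u} [CommRing A] {B : Type u} [CommRing B] [Algebra A B] {d : ℕ}
  {C₁ C₂ : Type u} [CommRing C₁] [Algebra A C₁] [CommRing C₂] [Algebra A C₂]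

theorem algEquiv_of_isGammaD (γ₁ : PolLaw.MulLaw A B C₁ d) (γ₂ : PolLaw.MulLaw A B C₂ d)
    (h₁ : PolLaw.IsGammaD γ₁) (h₂ : PolLaw.IsGammaD γ₂) : Nonempty (C₁ ≃ₐ[A] C₂) := by
  obtain ⟨f, hf, -⟩ := h₁ C₂ γ₂
  obtain ⟨g, hg, -⟩ := h₂ C₁ γ₁
  have hgf : g.comp f = AlgHom.id A C₁ := by
    obtain ⟨k, -, hk⟩ := h₁ C₁ γ₁
    have e1 : g.comp f = k := hk _ (by
      show PolLaw.postcomp (g.toLinearMap ∘ₗ f.toLinearMap) γ₁.law = γ₁.law
      rw [← postcomp_postcomp, hf, hg])
    have e2 : AlgHom.id A C₁ = k := hk _ (postcomp_id _)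
    rw [e1, e2]
  have hfg : f.comp g = AlgHom.id A C₂ := by
    obtain ⟨k, -, hk⟩ := h₂ C₂ γ₂
    have e1 : f.comp g = k := hk _ (by
      show PolLaw.postcomp (f.toLinearMap ∘ₗ g.toLinearMap) γ₂.law = γ₂.law
      rw [← postcomp_postcomp, hg, hf])
    have e2 : AlgHom.id A C₂ = k := hk _ (postcomp_id _)
    rw [e1, e2]
  exact ⟨AlgEquiv.ofAlgHom f g hfg hgf⟩

variable {B' : Type u} [CommRing B'] [Algebra A B']

theorem isGammaD_precomp_equiv (γ : PolLaw.MulLaw A B C₁ d) (hγ : PolLaw.IsGammaD γ)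
    (e : B ≃ₐ[A] B') : PolLaw.IsGammaD (γ.precomp e.symm.toAlgHom) := by
  intro C' _ _ F'
  obtain ⟨f, hf, hfu⟩ := hγ C' (F'.precomp e.toAlgHom)
  have hcancel : ∀ (S : Type u) [CommSemiring S] [Algebra A S] (x : S ⊗[A] B'),
      e.toAlgHom.toLinearMap.lTensor S (e.symm.toAlgHom.toLinearMap.lTensor S x) = x := by
    intro S _ _ x
    rw [← LinearMap.comp_apply, ← LinearMap.lTensor_comp]
    have : e.toAlgHom.toLinearMap ∘ₗ e.symm.toAlgHom.toLinearMap = LinearMap.id := by
      ext b; simp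
    rw [this, LinearMap.lTensor_id, LinearMap.id_apply]
  have hcancel' : ∀ (S : Type u) [CommSemiring S] [Algebra A S] (x : S ⊗[A] B),
      e.symm.toAlgHom.toLinearMap.lTensor S (e.toAlgHom.toLinearMap.lTensor S x) = x := by
    intro S _ _ x
    rw [← LinearMap.comp_apply, ← LinearMap.lTensor_comp]
    have : e.symm.toAlgHom.toLinearMap ∘ₗ e.toAlgHom.toLinearMap = LinearMap.id := by
      ext b; simp
    rw [this, LinearMap.lTensor_id, LinearMap.id_apply]
  refine ⟨f, ?_, ?_⟩
  · ext S _ _ x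
    have h1 := congrArg (fun L : B →ₚₗ[A] C' =>
      L.toFun' S (e.symm.toAlgHom.toLinearMap.lTensor S x)) hf
    show f.toLinearMap.lTensor S (γ.law.toFun' S (e.symm.toAlgHom.toLinearMap.lTensor S x)) =
      F'.law.toFun' S x
    have h2 : (F'.precomp e.toAlgHom).law.toFun' S (e.symm.toAlgHom.toLinearMap.lTensor S x) =
        F'.law.toFun' S x := by
      show F'.law.toFun' S (e.toAlgHom.toLinearMap.lTensor S
        (e.symm.toAlgHom.toLinearMap.lTensor S x)) = _
      rw [hcancel]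
    rw [← h2, ← h1]
    rfl
  · intro f' hf'
    apply hfu
    ext S _ _ x
    have h1 := congrArg (fun L : B' →ₚₗ[A] C' =>
      L.toFun' S (e.toAlgHom.toLinearMap.lTensor S x)) hf'
    show f'.toLinearMap.lTensor S (γ.law.toFun' S x) =
      F'.law.toFun' S (e.toAlgHom.toLinearMap.lTensor S x)
    rw [← h1]
    show _ = f'.toLinearMap.lTensor S (γ.law.toFun' S
      (e.symm.toAlgHom.toLinearMap.lTensor S (e.toAlgHom.toLinearMap.lTensor S x)))
    rw [hcancel']

end uniq

section bc
variable {R : Type u} [CommRing R] {Q : Type u} [CommRing Q] [Algebra R Q]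
  {B : Type u} [CommRing B] [Algebra R B] {C₀ : Type u} [CommRing C₀] [Algebra R C₀] {d : ℕ}

/-- the base change of a multiplicative law -/
noncomputable def bcMul (γ : PolLaw.MulLaw R B C₀ d) :
    PolLaw.MulLaw Q (Q ⊗[R] B) (Q ⊗[R] C₀) d :=
  extMul (Q := Q) (PolLaw.MulLaw.postcomp
    (Algebra.TensorProduct.includeRight : C₀ →ₐ[R] Q ⊗[R] C₀) γ)

theorem isGammaD_baseChange (γ : PolLaw.MulLaw R B C₀ d) (hγ : PolLaw.IsGammaD γ) :
    PolLaw.IsGammaD (bcMul (Q := Q) γ) := by
  intro C' _ _ G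
  letI : Algebra R C' := Algebra.compHom C' (algebraMap R Q)
  haveI : IsScalarTower R Q C' := IsScalarTower.of_algebraMap_eq (fun _ => rfl)
  obtain ⟨f, hf, hfu⟩ := hγ C' (resMul G)
  set ι : C₀ →ₐ[R] Q ⊗[R] C₀ := Algebra.TensorProduct.includeRight with hι
  set fQ : Q ⊗[R] C₀ →ₐ[Q] C' :=
    Algebra.TensorProduct.lift (Algebra.ofId Q C') f (fun _ _ => Commute.all _ _) with hfQ
  have hlaw : (bcMul (Q := Q) γ).law = ext (PolLaw.postcomp ι.toLinearMap γ.law) := rfl
  have hfQι : (fQ.restrictScalars R).toLinearMap ∘ₗ ι.toLinearMap = f.toLinearMap := by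
    ext c
    simp [hfQ, hι]
  refine ⟨fQ, ?_, ?_⟩
  · show PolLaw.postcomp fQ.toLinearMap (bcMul (Q := Q) γ).law = G.law
    apply res_injective
    rw [hlaw, res_postcomp, res_ext, postcomp_postcomp, hfQι]
    exact hf
  · intro f' hf'
    have hf'' : PolLaw.postcomp f'.toLinearMap (bcMul (Q := Q) γ).law = G.law := hf'
    have h1 := congrArg res hf''
    rw [hlaw, res_postcomp, res_ext, postcomp_postcomp] at h1
    have h2 : (f'.restrictScalars R).comp ι = f := hfu _ h1
    apply AlgHom.ext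
    intro z
    induction z using TensorProduct.induction_on with
    | zero => simp
    | tmul q c =>
      have e1 : q ⊗ₜ[R] c = q • ((1 : Q) ⊗ₜ[R] c) := by
        rw [TensorProduct.smul_tmul', smul_eq_mul, mul_one]
      have e2 : f' ((1 : Q) ⊗ₜ[R] c) = f c := by
        rw [← h2]; rfl
      rw [e1, map_smul, map_smul, e2, hfQ, Algebra.TensorProduct.lift_tmul, map_one, one_mul]
    | add x y hx hy => rw [map_add, map_add, hx, hy]

end bc

end Groth.Agent.Lib.Helper14.LawBC
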