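import Mathlib
import Groth.Prelude.Def_PolLaw
import Groth.Agent.Lib.Helper14GammaUniv

/-!
# Restriction and extension of scalars for polynomial laws between modules (helper14)

`R → Q` a ring map.
* `sig Q S Z : (Q ⊗[R] S) ⊗[Q] Z ≃ₗ[R] S ⊗[R] Z`, `(q ⊗ s) ⊗ z ↦ s ⊗ q z`.
* `resM G : Z →ₚₗ[R] Y` for a law `G : Z →ₚₗ[Q] Y` between `Q`-modules.
* `extM F : Q ⊗[R] X →ₚₗ[Q] Q ⊗[R] Y₀` for a law `F : X →ₚₗ[R] Y₀`.
-/

set_option autoImplicit false
set_option linter.unusedVariables false
set_option linter.unusedSectionVars false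
set_option linter.style.haveILetI false
universe u
open TensorProduct

namespace Groth.Agent.Lib.Helper14.LawBCMod

variable {R : Type u} [CommRing R] {Q : Type u} [CommRing Q] [Algebra R Q]

section sig
variable (Q) (S : Type u) [CommSemiring S] [Algebra R S]
  (Z : Type u) [AddCommGroup Z] [Module R Z] [Module Q Z] [IsScalarTower R Q Z]

/-- `(Q ⊗[R] S) ⊗[Q] Z ≃ S ⊗[R] Z`, `(q ⊗ s) ⊗ z ↦ s ⊗ q z` -/
noncomputable def sig : (Q ⊗[R] S) ⊗[Q] Z ≃ₗ[R] S ⊗[R] Z :=
  (((TensorProduct.comm Q (Q ⊗[R] S) Z).trans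
    (TensorProduct.AlgebraTensorModule.cancelBaseChange R Q Q Z S)).restrictScalars R).trans
    (TensorProduct.comm R Z S)

@[simp] lemma sig_tmul (q : Q) (s : S) (z : Z) :
    sig Q S Z ((q ⊗ₜ[R] s) ⊗ₜ[Q] z) = s ⊗ₜ[R] (q • z) := by
  simp [sig]

@[simp] lemma sig_symm_tmul (s : S) (z : Z) :
    (sig Q S Z).symm (s ⊗ₜ[R] z) = ((1 : Q) ⊗ₜ[R] s) ⊗ₜ[Q] z := by
  rw [LinearEquiv.symm_apply_eq, sig_tmul, one_smul]

variable {S} {S' : Type u} [CommSemiring S'] [Algebra R S']

/-- the base change of an algebra map of test algebras -/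
noncomputable abbrev bcHom (φ : S →ₐ[R] S') : Q ⊗[R] S →ₐ[Q] Q ⊗[R] S' :=
  Algebra.TensorProduct.map (AlgHom.id Q Q) φ

lemma sig_natural (φ : S →ₐ[R] S') (y : (Q ⊗[R] S) ⊗[Q] Z) :
    sig Q S' Z ((bcHom Q φ).toLinearMap.rTensor Z y) = φ.toLinearMap.rTensor Z (sig Q S Z y) := by
  induction y using TensorProduct.induction_on with
  | zero => simp
  | tmul w z =>
    induction w using TensorProduct.induction_on with
    | zero => simp
    | tmul q s => simp [Algebra.TensorProduct.map_tmul]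
    | add w w' hw hw' => simp only [TensorProduct.add_tmul, map_add, hw, hw']
  | add y y' hy hy' => simp only [map_add, hy, hy']

lemma sig_symm_natural (φ : S →ₐ[R] S') (x : S ⊗[R] Z) :
    (sig Q S' Z).symm (φ.toLinearMap.rTensor Z x) =
      (bcHom Q φ).toLinearMap.rTensor Z ((sig Q S Z).symm x) := by
  rw [LinearEquiv.symm_apply_eq, sig_natural, LinearEquiv.apply_symm_apply]

variable (S)
variable {Z} {Z' : Type u} [AddCommGroup Z'] [Module R Z'] [Module Q Z'] [IsScalarTower R Q Z']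

lemma sig_lTensor (h : Z →ₗ[Q] Z') (y : (Q ⊗[R] S) ⊗[Q] Z) :
    sig Q S Z' (h.lTensor (Q ⊗[R] S) y) = (h.restrictScalars R).lTensor S (sig Q S Z y) := by
  induction y using TensorProduct.induction_on with
  | zero => simp
  | tmul w z =>
    induction w using TensorProduct.induction_on with
    | zero => simp
    | tmul q s => simp
    | add w w' hw hw' => simp only [TensorProduct.add_tmul, map_add, hw, hw']
  | add y y' hy hy' => simp only [map_add, hy, hy']

lemma sig_smul (a : S) (y : (Q ⊗[R] S) ⊗[Q] Z) :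
    sig Q S Z (((1 : Q) ⊗ₜ[R] a) • y) = a • sig Q S Z y := by
  induction y using TensorProduct.induction_on with
  | zero => simp
  | tmul w z =>
    induction w using TensorProduct.induction_on with
    | zero => simp
    | tmul q s =>
      rw [TensorProduct.smul_tmul', smul_eq_mul, Algebra.TensorProduct.tmul_mul_tmul, sig_tmul,
        sig_tmul, one_mul, TensorProduct.smul_tmul', smul_eq_mul]
    | add w w' hw hw' => simp only [TensorProduct.add_tmul, smul_add, map_add, hw, hw']
  | add y y' hy hy' => simp only [smul_add, map_add, hy, hy']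

end sig

section res
variable {Z : Type u} [AddCommGroup Z] [Module R Z] [Module Q Z] [IsScalarTower R Q Z]
  {Y : Type u} [AddCommGroup Y] [Module R Y] [Module Q Y] [IsScalarTower R Q Y]

/-- restriction of scalars of a law between `Q`-modules -/
noncomputable def resM (G : Z →ₚₗ[Q] Y) : Z →ₚₗ[R] Y where
  toFun' S _ _ := fun x => sig Q S Y (G.toFun' (Q ⊗[R] S) ((sig Q S Z).symm x))
  isCompat' {S} _ _ {S'} _ _ φ := by
    funext x
    simp only [Function.comp_apply]
    rw [sig_symm_natural, ← PolynomialLaw.isCompat_apply', sig_natural]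

lemma resM_toFun' (G : Z →ₚₗ[Q] Y) (S : Type u) [CommSemiring S] [Algebra R S] (x : S ⊗[R] Z) :
    (resM (R := R) G).toFun' S x = sig Q S Y (G.toFun' (Q ⊗[R] S) ((sig Q S Z).symm x)) := rfl

section compat
variable (P : Type u) [CommSemiring P] [Algebra R P] [Algebra Q P] [IsScalarTower R Q P]

/-- the multiplication map `Q ⊗[R] P → P` -/
noncomputable def kap : Q ⊗[R] P →ₐ[Q] P :=
  Algebra.TensorProduct.lift (Algebra.ofId Q P) (AlgHom.id R P) (fun _ _ => Commute.all _ _)

@[simp] lemma kap_tmul (q : Q) (p : P) : kap (R := R) P (q ⊗ₜ[R] p) = q • p := by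
  simp [kap, Algebra.smul_def]

variable (Q) in
/-- the projection `P ⊗[R] Z → P ⊗[Q] Z` -/
noncomputable def prj (Z : Type u) [AddCommGroup Z] [Module R Z] [Module Q Z] [IsScalarTower R Q Z] :
    P ⊗[R] Z →ₗ[R] P ⊗[Q] Z :=
  ((kap (R := R) P).toLinearMap.rTensor Z).restrictScalars R ∘ₗ (sig Q P Z).symm.toLinearMap

@[simp] lemma prj_tmul (p : P) (z : Z) : prj Q P Z (p ⊗ₜ[R] z) = p ⊗ₜ[Q] z := by
  simp [prj]

/-- compatibility of `resM G` with `G` on test algebras over `Q` -/
theorem toFun'_prj (G : Z →ₚₗ[Q] Y) (x : P ⊗[R] Z) :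
    G.toFun' P (prj Q P Z x) = prj Q P Y ((resM (R := R) G).toFun' P x) := by
  rw [resM_toFun']
  simp only [prj, LinearMap.comp_apply, LinearEquiv.coe_coe, LinearMap.restrictScalars_apply,
    LinearEquiv.symm_apply_apply]
  rw [PolynomialLaw.isCompat_apply']

end compat

end res

end Groth.Agent.Lib.Helper14.LawBCMod
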