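import Mathlib
import Groth.Prelude.Def_PolLaw
import Groth.Agent.Lib.Helper14LawBCMod

/-!
# Extension of scalars for polynomial laws between modules (helper14)

`extM F : Q ⊗[R] X →ₚₗ[Q] Q ⊗[R] Y₀` for a law `F : X →ₚₗ[R] Y₀`; `resM_extM`.
-/

set_option autoImplicit false
set_option linter.unusedVariables false
set_option linter.unusedSectionVars false
set_option linter.style.haveILetI false
universe u
open TensorProduct

namespace Groth.Agent.Lib.Helper14.LawBCMod

variable {R : Type u} [CommRing R] {Q : Type u} [CommRing Q] [Algebra R Q]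

section ext
variable {X : Type u} [AddCommGroup X] [Module R X] {Y₀ : Type u} [AddCommGroup Y₀] [Module R Y₀]

section compat
variable (S : Type u) [CommSemiring S] [Algebra R S] [Algebra Q S] [IsScalarTower R Q S]

variable (Q) in
/-- `S ⊗[Q] (Q ⊗[R] X) ≃ S ⊗[R] X` -/
noncomputable abbrev tau (X : Type u) [AddCommGroup X] [Module R X] :
    S ⊗[Q] (Q ⊗[R] X) ≃ₗ[S] S ⊗[R] X :=
  TensorProduct.AlgebraTensorModule.cancelBaseChange R Q S S X

/-- value of the extended law on a test algebra with compatible structures -/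
noncomputable def extFunM (F : X →ₚₗ[R] Y₀) (w : S ⊗[Q] (Q ⊗[R] X)) : S ⊗[Q] (Q ⊗[R] Y₀) :=
  (tau Q S Y₀).symm (F.toFun' S (tau Q S X w))

end compat

lemma tau_natural {S S' : Type u} [CommSemiring S] [Algebra R S] [Algebra Q S]
    [IsScalarTower R Q S] [CommSemiring S'] [Algebra R S'] [Algebra Q S'] [IsScalarTower R Q S']
    (φ : S →ₐ[Q] S') (w : S ⊗[Q] (Q ⊗[R] X)) :
    tau Q S' X (φ.toLinearMap.rTensor (Q ⊗[R] X) w) =
      (φ.restrictScalars R).toLinearMap.rTensor X (tau Q S X w) := by
  induction w using TensorProduct.induction_on with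
  | zero => simp
  | tmul s w =>
    induction w using TensorProduct.induction_on with
    | zero => simp
    | tmul q x => simp
    | add w w' hw hw' => simp only [TensorProduct.tmul_add, map_add, hw, hw']
  | add x y hx hy => simp only [map_add, hx, hy]

lemma tau_symm_natural {S S' : Type u} [CommSemiring S] [Algebra R S] [Algebra Q S]
    [IsScalarTower R Q S] [CommSemiring S'] [Algebra R S'] [Algebra Q S'] [IsScalarTower R Q S']
    (φ : S →ₐ[Q] S') (y : S ⊗[R] X) :
    (tau Q S' X).symm ((φ.restrictScalars R).toLinearMap.rTensor X y) =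
      φ.toLinearMap.rTensor (Q ⊗[R] X) ((tau Q S X).symm y) := by
  rw [LinearEquiv.symm_apply_eq, tau_natural, LinearEquiv.apply_symm_apply]

lemma extFunM_natural (F : X →ₚₗ[R] Y₀) {S S' : Type u} [CommSemiring S] [Algebra R S]
    [Algebra Q S] [IsScalarTower R Q S] [CommSemiring S'] [Algebra R S'] [Algebra Q S']
    [IsScalarTower R Q S'] (φ : S →ₐ[Q] S') (w : S ⊗[Q] (Q ⊗[R] X)) :
    φ.toLinearMap.rTensor (Q ⊗[R] Y₀) (extFunM S F w) =
      extFunM S' F (φ.toLinearMap.rTensor (Q ⊗[R] X) w) := by
  rw [extFunM, extFunM, tau_natural, ← PolynomialLaw.isCompat_apply', tau_symm_natural]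

/-- extension of scalars of a law between modules -/
noncomputable def extM (F : X →ₚₗ[R] Y₀) : (Q ⊗[R] X) →ₚₗ[Q] (Q ⊗[R] Y₀) where
  toFun' S _ _ :=
    letI : Algebra R S := Algebra.compHom S (algebraMap R Q)
    haveI : IsScalarTower R Q S := IsScalarTower.of_algebraMap_eq (fun _ => rfl)
    extFunM S F
  isCompat' {S} _ _ {S'} _ _ φ := by
    letI : Algebra R S := Algebra.compHom S (algebraMap R Q)
    haveI : IsScalarTower R Q S := IsScalarTower.of_algebraMap_eq (fun _ => rfl)
    letI : Algebra R S' := Algebra.compHom S' (algebraMap R Q)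
    haveI : IsScalarTower R Q S' := IsScalarTower.of_algebraMap_eq (fun _ => rfl)
    funext x
    simp only [Function.comp_apply]
    exact extFunM_natural F φ x

lemma extM_toFun' (F : X →ₚₗ[R] Y₀) (S : Type u) [CommSemiring S] [i1 : Algebra R S] [Algebra Q S]
    [i3 : IsScalarTower R Q S] (w : S ⊗[Q] (Q ⊗[R] X)) :
    (extM (Q := Q) F).toFun' S w = extFunM S F w := by
  have h : i1 = Algebra.compHom S (algebraMap R Q) := by
    apply Algebra.algebra_ext
    intro r
    exact IsScalarTower.algebraMap_apply R Q S r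
  subst h
  rfl

/-- the canonical map `X → Q ⊗[R] X` -/
noncomputable abbrev iot (Q : Type u) [CommRing Q] [Algebra R Q] (X : Type u) [AddCommGroup X]
    [Module R X] : X →ₗ[R] Q ⊗[R] X := TensorProduct.mk R Q X 1

theorem resM_extM (F : X →ₚₗ[R] Y₀) (S : Type u) [CommSemiring S] [Algebra R S] (x : S ⊗[R] X) :
    (resM (R := R) (extM (Q := Q) F)).toFun' S ((iot Q X).lTensor S x) =
      (iot Q Y₀).lTensor S (F.toFun' S x) := by
  rw [resM_toFun', extM_toFun', extFunM]
  have h1 : tau Q (Q ⊗[R] S) X ((sig Q S (Q ⊗[R] X)).symm ((iot Q X).lTensor S x)) =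
      (Algebra.TensorProduct.includeRight : S →ₐ[R] Q ⊗[R] S).toLinearMap.rTensor X x := by
    induction x using TensorProduct.induction_on with
    | zero => simp
    | tmul s x => simp
    | add x y hx hy => simp only [map_add, hx, hy]
  have h2 : ∀ y : S ⊗[R] Y₀, sig Q S (Q ⊗[R] Y₀) ((tau Q (Q ⊗[R] S) Y₀).symm
      ((Algebra.TensorProduct.includeRight : S →ₐ[R] Q ⊗[R] S).toLinearMap.rTensor Y₀ y)) =
      (iot Q Y₀).lTensor S y := by
    intro y
    induction y using TensorProduct.induction_on with
    | zero => simp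
    | tmul s n =>
      simp [TensorProduct.AlgebraTensorModule.cancelBaseChange_symm_tmul]
    | add x y hx hy => simp only [map_add, hx, hy]
  rw [h1, ← PolynomialLaw.isCompat_apply', h2]

end ext

end Groth.Agent.Lib.Helper14.LawBCMod
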