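import Mathlib
import Groth.Prelude.Def_PolLaw
import Groth.Agent.Lib.Helper14PolLawRed
import Groth.Agent.Lib.Helper14GammaGen

/-!
# Multiplicativity and homogeneity of a law can be tested on ring test algebras (helper14)
-/

set_option autoImplicit false
set_option linter.unusedVariables false
set_option linter.unusedSectionVars false
set_option linter.style.haveILetI false
universe u
open TensorProduct

namespace Groth.Agent.Lib.Helper14.LawOfRing

open Groth.Agent.Lib.Helper14.PolLawRed (toFun'_map rTensor_eq_map)

variable {A : Type u} [CommRing A]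

/-- the transfer map `S → A ⊗[A] S` into a ring -/
noncomputable def jj (S : Type u) [CommSemiring S] [Algebra A S] : S →ₐ[A] A ⊗[A] S :=
  (Algebra.TensorProduct.lid A S).symm.toAlgHom

lemma rTensor_jj_injective (S : Type u) [CommSemiring S] [Algebra A S] (N : Type u)
    [AddCommGroup N] [Module A N] :
    Function.Injective ((jj (A := A) S).toLinearMap.rTensor N) := by
  have : (jj (A := A) S).toLinearMap.rTensor N =
      ((Algebra.TensorProduct.lid A S).symm.toLinearEquiv.rTensor N).toLinearMap := rfl
  rw [this]
  exact ((Algebra.TensorProduct.lid A S).symm.toLinearEquiv.rTensor N).injective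

section mult
variable {B C : Type u} [CommRing B] [Algebra A B] [CommRing C] [Algebra A C]

theorem mult_of_ring (F : B →ₚₗ[A] C)
    (h : ∀ (S : Type u) [CommRing S] [Algebra A S], F.toFun' S 1 = 1 ∧
      ∀ x y : S ⊗[A] B, F.toFun' S (x * y) = F.toFun' S x * F.toFun' S y) : PolLaw.IsMult F := by
  intro S _ _
  have hinj := rTensor_jj_injective (A := A) S C
  refine ⟨?_, fun x y => ?_⟩
  · apply hinj
    rw [PolynomialLaw.isCompat_apply', rTensor_eq_map, rTensor_eq_map, map_one, map_one]
    exact (h (A ⊗[A] S)).1
  · apply hinj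
    rw [PolynomialLaw.isCompat_apply', rTensor_eq_map, rTensor_eq_map, map_mul, map_mul,
      (h (A ⊗[A] S)).2, toFun'_map, toFun'_map]

end mult

section homog
variable {M N : Type u} [AddCommGroup M] [Module A M] [AddCommGroup N] [Module A N]

theorem homog_of_ring (F : M →ₚₗ[A] N) (d : ℕ)
    (h : ∀ (S : Type u) [CommRing S] [Algebra A S] (a : S) (z : S ⊗[A] M),
      F.toFun' S (a • z) = a ^ d • F.toFun' S z) : PolLaw.IsHomog F d := by
  intro S _ _ s x
  apply rTensor_jj_injective (A := A) S N
  rw [PolynomialLaw.isCompat_apply', Groth.Agent.Lib.Helper14.GammaGen.rTensor_smul, h,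
    Groth.Agent.Lib.Helper14.GammaGen.rTensor_smul, map_pow, PolynomialLaw.isCompat_apply']

end homog

section mulLaw
variable {B C : Type u} [CommRing B] [Algebra A B] [CommRing C] [Algebra A C]

/-- bundle a law whose multiplicativity and homogeneity are known on ring test algebras -/
noncomputable def mulLaw (F : B →ₚₗ[A] C) (d : ℕ)
    (hm : ∀ (S : Type u) [CommRing S] [Algebra A S], F.toFun' S 1 = 1 ∧
      ∀ x y : S ⊗[A] B, F.toFun' S (x * y) = F.toFun' S x * F.toFun' S y)
    (hh : ∀ (S : Type u) [CommRing S] [Algebra A S] (a : S) (z : S ⊗[A] B),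
      F.toFun' S (a • z) = a ^ d • F.toFun' S z) : PolLaw.MulLaw A B C d where
  law := F
  homog := homog_of_ring F d hh
  mult := mult_of_ring F hm

@[simp] lemma mulLaw_law (F : B →ₚₗ[A] C) (d : ℕ) (hm) (hh) : (mulLaw F d hm hh).law = F := rfl

end mulLaw

end Groth.Agent.Lib.Helper14.LawOfRing
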