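/- Helper14: subadditivity of the length of `A/(ab, J)` and of quotients by products. -/
import Mathlib

set_option autoImplicit false

namespace Groth.Agent.Lib.Helper14.LengthProd

variable {A : Type*} [CommRing A]

/-- `ℓ(A/(ab,J)) ≤ ℓ(A/(a,J)) + ℓ(A/(b,J))` -/
theorem length_mul_le (a b : A) (J : Ideal A) :
    Module.length A (A ⧸ (Ideal.span {a * b} ⊔ J)) ≤
      Module.length A (A ⧸ (Ideal.span {a} ⊔ J)) + Module.length A (A ⧸ (Ideal.span {b} ⊔ J)) := by
  set I₁ : Ideal A := Ideal.span {a} ⊔ J with hI₁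
  set I₂ : Ideal A := Ideal.span {b} ⊔ J with hI₂
  set I₃ : Ideal A := Ideal.span {a * b} ⊔ J with hI₃
  have ha1 : a ∈ I₁ := Ideal.mem_sup_left (Ideal.mem_span_singleton_self a)
  have h31 : I₃ ≤ I₁ := by
    refine sup_le ?_ le_sup_right
    rw [Ideal.span_singleton_le_iff_mem]
    exact Ideal.mul_mem_right _ _ ha1
  let g : (A ⧸ I₃) →ₗ[A] (A ⧸ I₁) := Submodule.mapQ I₃ I₁ LinearMap.id (by simpa using h31)
  have hg : Function.Surjective g := by
    intro y
    obtain ⟨x, rfl⟩ := Submodule.Quotient.mk_surjective _ y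
    exact ⟨Submodule.Quotient.mk x, rfl⟩
  have h1 := Module.length_eq_add_of_exact (LinearMap.ker g).subtype g
    (Submodule.subtype_injective _) hg (LinearMap.exact_subtype_ker_map g)
  have hf0 : ∀ x : A, (Submodule.Quotient.mk (a * x) : A ⧸ I₃) ∈ LinearMap.ker g := by
    intro x
    rw [LinearMap.mem_ker]
    change (Submodule.Quotient.mk (a * x) : A ⧸ I₁) = 0
    rw [Submodule.Quotient.mk_eq_zero]
    exact Ideal.mul_mem_right _ _ ha1
  let f0 : A →ₗ[A] LinearMap.ker g :=
    { toFun := fun x => ⟨Submodule.Quotient.mk (a * x), hf0 x⟩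
      map_add' := fun x y => by
        apply Subtype.ext
        simp [mul_add]
      map_smul' := fun r x => by
        apply Subtype.ext
        simp only [smul_eq_mul, RingHom.id_apply, Submodule.coe_smul]
        rw [← Submodule.Quotient.mk_smul]
        congr 1
        simp only [smul_eq_mul]
        ring }
  have hker : I₂ ≤ LinearMap.ker f0 := by
    intro y hy
    rw [LinearMap.mem_ker]
    apply Subtype.ext
    change (Submodule.Quotient.mk (a * y) : A ⧸ I₃) = 0
    rw [Submodule.Quotient.mk_eq_zero]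
    obtain ⟨y1, hy1, y2, hy2, rfl⟩ := Submodule.mem_sup.mp hy
    obtain ⟨c, rfl⟩ := Ideal.mem_span_singleton'.mp hy1
    have : a * (c * b + y2) = c * (a * b) + a * y2 := by ring
    rw [this]
    exact Ideal.add_mem _
      (Ideal.mem_sup_left (Ideal.mul_mem_left _ _ (Ideal.mem_span_singleton_self _)))
      (Ideal.mem_sup_right (Ideal.mul_mem_left _ _ hy2))
  let f : (A ⧸ I₂) →ₗ[A] LinearMap.ker g := Submodule.liftQ I₂ f0 hker
  have hf : Function.Surjective f := by
    rintro ⟨y, hy⟩
    obtain ⟨x, rfl⟩ := Submodule.Quotient.mk_surjective _ y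
    rw [LinearMap.mem_ker] at hy
    change (Submodule.Quotient.mk x : A ⧸ I₁) = 0 at hy
    rw [Submodule.Quotient.mk_eq_zero] at hy
    obtain ⟨x1, hx1, x2, hx2, rfl⟩ := Submodule.mem_sup.mp hy
    obtain ⟨c, rfl⟩ := Ideal.mem_span_singleton'.mp hx1
    refine ⟨Submodule.Quotient.mk c, ?_⟩
    apply Subtype.ext
    change (Submodule.Quotient.mk (a * c) : A ⧸ I₃) = Submodule.Quotient.mk (c * a + x2)
    rw [Submodule.Quotient.eq]
    have : a * c - (c * a + x2) = -x2 := by ring
    rw [this]
    exact neg_mem (Ideal.mem_sup_right hx2)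
  have h2 := Module.length_le_of_surjective f hf
  rw [h1, add_comm]
  exact add_le_add_right h2 _

theorem length_prod_le {ι : Type*} (S : Finset ι) (c : ι → A) (J : Ideal A) :
    Module.length A (A ⧸ (Ideal.span {∏ s ∈ S, c s} ⊔ J)) ≤
      ∑ s ∈ S, Module.length A (A ⧸ (Ideal.span {c s} ⊔ J)) := by
  classical
  induction S using Finset.induction_on with
  | empty =>
    rw [Finset.prod_empty, Finset.sum_empty, Ideal.span_singleton_one, top_sup_eq]
    have : Subsingleton (A ⧸ (⊤ : Ideal A)) := Ideal.Quotient.subsingleton_iff.mpr rfl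
    rw [Module.length_eq_zero]
  | insert s S hs ih =>
    rw [Finset.prod_insert hs, Finset.sum_insert hs]
    exact (length_mul_le _ _ J).trans (add_le_add le_rfl ih)

theorem length_span_prod_le {G : Type*} [Fintype G] :
    ∀ (n : ℕ) (c : Fin n → G → A) (J : Ideal A),
      Module.length A (A ⧸ (Ideal.span (Set.range fun i => ∏ σ : G, c i σ) ⊔ J)) ≤
        ∑ τ : Fin n → G,
          Module.length A (A ⧸ (Ideal.span (Set.range fun i => c i (τ i)) ⊔ J)) := by
  intro n
  induction n with
  | zero =>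
    intro c J
    rw [Fintype.sum_unique]
    have h1 : (Set.range fun i : Fin 0 => ∏ σ : G, c i σ) = ∅ := Set.range_eq_empty _
    have h2 : (Set.range fun i : Fin 0 => c i ((default : Fin 0 → G) i)) = ∅ :=
      Set.range_eq_empty _
    rw [h1, h2]
  | succ n ih =>
    intro c J
    have hL : Ideal.span (Set.range fun i : Fin (n + 1) => ∏ σ : G, c i σ) ⊔ J =
        Ideal.span {∏ σ : G, c 0 σ} ⊔
          (Ideal.span (Set.range fun i : Fin n => ∏ σ : G, c i.succ σ) ⊔ J) := by
      rw [Fin.range_fin_succ, Ideal.span_insert, sup_assoc]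
      rfl
    rw [hL]
    refine (length_prod_le Finset.univ (fun σ => c 0 σ) _).trans ?_
    rw [← (Fin.consEquiv (fun _ : Fin (n + 1) => G)).sum_comp, Fintype.sum_prod_type]
    refine Finset.sum_le_sum fun σ _ => ?_
    have h3 : Ideal.span {c 0 σ} ⊔
        (Ideal.span (Set.range fun i : Fin n => ∏ σ : G, c i.succ σ) ⊔ J) =
        Ideal.span (Set.range fun i : Fin n => ∏ σ : G, c i.succ σ) ⊔
          (Ideal.span {c 0 σ} ⊔ J) := by
      rw [← sup_assoc, ← sup_assoc, sup_comm (Ideal.span {c 0 σ})]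
    rw [h3]
    refine (ih (fun i => c i.succ) (Ideal.span {c 0 σ} ⊔ J)).trans ?_
    refine le_of_eq (Finset.sum_congr rfl fun τ _ => ?_)
    have h4 : Ideal.span (Set.range fun i : Fin (n + 1) =>
        c i ((Fin.consEquiv (fun _ : Fin (n + 1) => G)) (σ, τ) i)) ⊔ J =
        Ideal.span (Set.range fun i : Fin n => c i.succ (τ i)) ⊔ (Ideal.span {c 0 σ} ⊔ J) := by
      rw [Fin.range_fin_succ, Ideal.span_insert, sup_assoc,
        ← sup_assoc (Ideal.span (Set.range fun i : Fin n => c i.succ (τ i))),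
        sup_comm (Ideal.span (Set.range fun i : Fin n => c i.succ (τ i))), sup_assoc]
      rfl
    rw [h4]

end Groth.Agent.Lib.Helper14.LengthProd
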