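import Mathlib
import Groth.Prelude.Def_SymTen
import Groth.Agent.Lib.Helper14TopExt

/-!
# The linearised norm `TS^n_A(R) → A` (helper14)

`R` free of rank `n` over `A` with basis `b`, `n!` invertible.  `D b : T^n(R) → A` the determinant
functional; a symmetric tensor `t` satisfies `D (t * y) = phi0 t * D y` (`D_mul`), so
`phi b hfact : TS^n_A(R) →ₐ[A] A`, `t ↦ D (t * (b₁ ⊗ ⋯ ⊗ bₙ))`, is an algebra map with
`phi (r ⊗ ⋯ ⊗ r) = norm r` (`phi_tpow`).
`polar_identity`: `∑_σ v_{σ1} ⊗ ⋯ ⊗ v_{σn} = ∑_{t ⊆ [n]} (-1)^{|t|} (∑_{i ∉ t} vᵢ)^{⊗ n}`;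
`factorial_smul_mem_span`: `n! • TS^n ⊆ span of n-th tensor powers`; `algHom_ext_of_tpow`.
-/

set_option autoImplicit false
universe u
open TensorProduct

namespace Groth.Agent.Lib.Helper14.LinNorm

open Groth.Agent.Lib.Helper14.TopExt (alt_eq_det_smul)

section main
variable {A : Type u} [CommRing A] {R : Type u} [CommRing R] [Algebra A R] {n : ℕ}
  (b : Module.Basis (Fin n) A R)

/-- the determinant functional on the tensor power -/
noncomputable def D : (⨂[A] _ : Fin n, R) →ₗ[A] A :=
  PiTensorProduct.lift b.det.toMultilinearMap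

@[simp] lemma D_tprod (v : Fin n → R) : D b (PiTensorProduct.tprod A v) = b.det v := by
  rw [D, PiTensorProduct.lift.tprod]
  rfl

lemma D_perm (σ : Equiv.Perm (Fin n)) (x : ⨂[A] _ : Fin n, R) :
    D b (SymTen.perm A R n σ x) = Equiv.Perm.sign σ • D b x := by
  induction x using PiTensorProduct.induction_on with
  | add x y hx hy => rw [map_add, map_add, hx, hy, map_add, smul_add]
  | smul_tprod a v =>
    rw [map_smul, map_smul, SymTen.perm_tprod, D_tprod, map_smul, D_tprod]
    have h : (fun i => v (σ.symm i)) = v ∘ ⇑σ.symm := rfl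
    rw [h, AlternatingMap.map_perm, Equiv.Perm.sign_symm, smul_comm]

/-- `t ↦ D (t * (b₁ ⊗ ⋯ ⊗ bₙ))` -/
noncomputable def phi0 : (⨂[A] _ : Fin n, R) →ₗ[A] A :=
  D b ∘ₗ LinearMap.mulRight A (PiTensorProduct.tprod A b)

lemma phi0_apply (t : ⨂[A] _ : Fin n, R) : phi0 b t = D b (t * PiTensorProduct.tprod A b) := rfl

lemma isUnit_two_of_factorial (hfact : IsUnit ((n.factorial : ℕ) : A)) (hn : 2 ≤ n) :
    IsUnit (2 : A) := by
  have h : 2 ∣ n.factorial := Nat.dvd_factorial (by norm_num) hn
  obtain ⟨k, hk⟩ := h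
  rw [hk, Nat.cast_mul] at hfact
  exact isUnit_of_mul_isUnit_left hfact

lemma D_mul_tprod_eq_zero (hfact : IsUnit ((n.factorial : ℕ) : A)) (t : ⨂[A] _ : Fin n, R)
    (ht : ∀ σ, SymTen.perm A R n σ t = t) (v : Fin n → R) (i j : Fin n) (hv : v i = v j)
    (hij : i ≠ j) : D b (t * PiTensorProduct.tprod A v) = 0 := by
  have hn : 2 ≤ n := by
    have := Fin.pos i
    by_contra hlt
    push Not at hlt
    have h1 : n = 1 := by omega
    subst h1
    exact hij (Subsingleton.elim i j)
  have h2 := isUnit_two_of_factorial hfact hn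
  set τ : Equiv.Perm (Fin n) := Equiv.swap i j with hτ
  have h3 : SymTen.perm A R n τ (PiTensorProduct.tprod A v) = PiTensorProduct.tprod A v := by
    rw [SymTen.perm_tprod]
    congr 1
    funext k
    rw [hτ, Equiv.symm_swap]
    by_cases hki : k = i
    · rw [hki, Equiv.swap_apply_left, hv]
    · by_cases hkj : k = j
      · rw [hkj, Equiv.swap_apply_right, hv]
      · rw [Equiv.swap_apply_of_ne_of_ne hki hkj]
  have h4 : D b (t * PiTensorProduct.tprod A v) = - D b (t * PiTensorProduct.tprod A v) := by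
    conv_lhs => rw [← ht τ, ← h3, ← map_mul, D_perm, hτ, Equiv.Perm.sign_swap hij]
    simp
  have h5 : (2 : A) * D b (t * PiTensorProduct.tprod A v) = 0 := by
    rw [two_mul]
    nth_rewrite 1 [h4]
    exact neg_add_cancel _
  exact (h2.mul_right_eq_zero).mp h5

/-- the alternating map `v ↦ D (t * (v₁ ⊗ ⋯ ⊗ vₙ))` for a symmetric tensor `t` -/
noncomputable def Mt (hfact : IsUnit ((n.factorial : ℕ) : A)) (t : ⨂[A] _ : Fin n, R)
    (ht : ∀ σ, SymTen.perm A R n σ t = t) : R [⋀^Fin n]→ₗ[A] A :=
  { ((D b) ∘ₗ LinearMap.mulLeft A t).compMultilinearMap (PiTensorProduct.tprod A) with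
    map_eq_zero_of_eq' := fun v i j hv hij => D_mul_tprod_eq_zero b hfact t ht v i j hv hij }

/-- **Key lemma**: a symmetric tensor acts on the determinant functional by a scalar -/
theorem D_mul (hfact : IsUnit ((n.factorial : ℕ) : A)) (t : ⨂[A] _ : Fin n, R)
    (ht : ∀ σ, SymTen.perm A R n σ t = t) (y : ⨂[A] _ : Fin n, R) :
    D b (t * y) = phi0 b t * D b y := by
  induction y using PiTensorProduct.induction_on with
  | add x y hx hy => rw [mul_add, map_add, hx, hy, map_add, mul_add]
  | smul_tprod a v =>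
    rw [mul_smul_comm, map_smul, map_smul, smul_eq_mul, smul_eq_mul, mul_left_comm]
    congr 1
    have h := alt_eq_det_smul b (Mt b hfact t ht) v
    rw [D_tprod, phi0_apply, mul_comm (D b _) (b.det v)]
    exact h

lemma perm_of_mem_TS (t : SymTen.TS A R n) (σ : Equiv.Perm (Fin n)) :
    SymTen.perm A R n σ (t : ⨂[A] _ : Fin n, R) = t := by
  rw [SymTen.perm_apply]
  exact t.2 σ

/-- the linearised norm `TS^n_A(R) → A` -/
noncomputable def phi (hfact : IsUnit ((n.factorial : ℕ) : A)) : SymTen.TS A R n →ₐ[A] A :=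
  AlgHom.ofLinearMap ((phi0 b) ∘ₗ (SymTen.TS A R n).val.toLinearMap)
    (by
      rw [LinearMap.comp_apply, AlgHom.toLinearMap_apply, map_one, phi0_apply, one_mul, D_tprod,
        Module.Basis.det_self])
    (by
      intro x y
      simp only [LinearMap.comp_apply, AlgHom.toLinearMap_apply, map_mul, phi0_apply]
      rw [mul_assoc]
      exact D_mul b hfact _ (perm_of_mem_TS x) _)

lemma phi_apply (hfact : IsUnit ((n.factorial : ℕ) : A)) (t : SymTen.TS A R n) :
    phi b hfact t = D b ((t : ⨂[A] _ : Fin n, R) * PiTensorProduct.tprod A b) := rfl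

theorem phi_tpow (hfact : IsUnit ((n.factorial : ℕ) : A)) (r : R) :
    phi b hfact (SymTen.tpow A R n r) = Algebra.norm A r := by
  rw [phi_apply]
  show D b (PiTensorProduct.tprod A (fun _ : Fin n => r) * PiTensorProduct.tprod A b) = _
  rw [PiTensorProduct.tprod_mul_tprod, D_tprod]
  have h : ((fun _ : Fin n => r) * ⇑b) = (Algebra.lmul A R r) ∘ ⇑b := rfl
  rw [h, Module.Basis.det_comp, Module.Basis.det_self, mul_one, Algebra.norm_apply]

end main

section polar
variable {A : Type u} [CommRing A] {R : Type u} [CommRing R] [Algebra A R] {n : ℕ}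

open Finset in
/-- polarisation identity for the `n`-th tensor power (inclusion–exclusion) -/
theorem polar_identity (v : Fin n → R) :
    ∑ σ : Equiv.Perm (Fin n), PiTensorProduct.tprod A (fun i => v (σ i)) =
      ∑ t ∈ (Finset.univ : Finset (Fin n)).powerset,
        (-1 : ℤ) ^ #t • PiTensorProduct.tprod A (fun _ : Fin n => ∑ i ∈ tᶜ, v i) := by
  classical
  set S : Fin n → Finset (Fin n → Fin n) := fun i => univ.filter (fun w => ∀ k, w k ≠ i) with hS
  set f : (Fin n → Fin n) → (⨂[A] _ : Fin n, R) :=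
    fun w => PiTensorProduct.tprod A (fun i => v (w i)) with hf
  have h := Finset.inclusion_exclusion_sum_inf_compl (univ : Finset (Fin n)) S f
  have h1 : ∑ a ∈ (univ : Finset (Fin n)).inf (fun i => (S i)ᶜ), f a =
      ∑ σ : Equiv.Perm (Fin n), f σ := by
    symm
    apply Finset.sum_bij (fun (σ : Equiv.Perm (Fin n)) _ => (σ : Fin n → Fin n))
    · intro σ _
      rw [Finset.mem_inf]
      intro i _
      rw [Finset.mem_compl, hS, Finset.mem_filter]
      push Not
      intro _
      exact ⟨σ.symm i, σ.apply_symm_apply i⟩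
    · intro σ _ τ _ hστ
      exact DFunLike.coe_injective hστ
    · intro w hw
      rw [Finset.mem_inf] at hw
      have hsurj : Function.Surjective w := by
        intro i
        have := hw i (Finset.mem_univ i)
        rw [Finset.mem_compl, hS, Finset.mem_filter] at this
        push Not at this
        exact this (Finset.mem_univ _)
      exact ⟨Equiv.ofBijective w (Finite.surjective_iff_bijective.mp hsurj), Finset.mem_univ _, rfl⟩
    · intro σ _
      rfl
  have h2 : ∀ t : Finset (Fin n), ∑ a ∈ t.inf S, f a =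
      PiTensorProduct.tprod A (fun _ : Fin n => ∑ i ∈ tᶜ, v i) := by
    intro t
    have h3 := MultilinearMap.map_sum_finset (PiTensorProduct.tprod A)
      (fun (_ : Fin n) (i : Fin n) => v i) (fun _ : Fin n => tᶜ)
    rw [h3]
    apply Finset.sum_congr _ (fun _ _ => rfl)
    ext w
    rw [Finset.mem_inf, Fintype.mem_piFinset]
    constructor
    · intro hw k
      rw [Finset.mem_compl]
      intro hk
      have := hw (w k) hk
      rw [hS, Finset.mem_filter] at this
      exact this.2 k rfl
    · intro hw i hi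
      rw [hS, Finset.mem_filter]
      refine ⟨Finset.mem_univ _, fun k hk => ?_⟩
      have := hw k
      rw [Finset.mem_compl, hk] at this
      exact this hi
  rw [← h1, h]
  refine Finset.sum_congr rfl (fun t _ => ?_)
  rw [h2]

/-- `n! • t` lies in the span of the `n`-th tensor powers -/
theorem factorial_smul_mem_span (t : SymTen.TS A R n) :
    n.factorial • t ∈ Submodule.span A (Set.range (SymTen.tpow A R n)) := by
  classical
  set W := Submodule.span A (Set.range (SymTen.tpow A R n)) with hW
  have key : ∀ x : ⨂[A] _ : Fin n, R,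
      ∑ σ : Equiv.Perm (Fin n), SymTen.perm A R n σ x ∈
        W.map (SymTen.TS A R n).val.toLinearMap := by
    intro x
    induction x using PiTensorProduct.induction_on with
    | add x y hx hy =>
      simp only [map_add, Finset.sum_add_distrib]
      exact Submodule.add_mem _ hx hy
    | smul_tprod a v =>
      simp only [map_smul, SymTen.perm_tprod]
      rw [← Finset.smul_sum]
      apply Submodule.smul_mem
      have h1 : ∑ σ : Equiv.Perm (Fin n), PiTensorProduct.tprod A (fun i => v (σ.symm i)) =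
          ∑ σ : Equiv.Perm (Fin n), PiTensorProduct.tprod A (fun i => v (σ i)) :=
        Fintype.sum_equiv (Equiv.inv (Equiv.Perm (Fin n))) _ _ (fun σ => rfl)
      rw [h1, polar_identity]
      apply Submodule.sum_mem
      intro t _
      apply Submodule.smul_of_tower_mem
      refine ⟨SymTen.tpow A R n (∑ i ∈ tᶜ, v i), Submodule.subset_span ⟨_, rfl⟩, rfl⟩
  have h2 : ∑ σ : Equiv.Perm (Fin n), SymTen.perm A R n σ (t : ⨂[A] _ : Fin n, R) =
      ((n.factorial • t : SymTen.TS A R n) : ⨂[A] _ : Fin n, R) := by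
    simp only [LinNorm.perm_of_mem_TS, Finset.sum_const, Finset.card_univ, Fintype.card_perm,
      Fintype.card_fin]
    rfl
  obtain ⟨y, hy, hyt⟩ := key (t : ⨂[A] _ : Fin n, R)
  rw [h2] at hyt
  have : y = n.factorial • t := Subtype.ext hyt
  rw [← this]
  exact hy

/-- algebra maps out of `TS^n_A(R)` are determined by the `n`-th tensor powers when `n!` is a unit -/
theorem algHom_ext_of_tpow (hfact : IsUnit ((n.factorial : ℕ) : A))
    (φ₁ φ₂ : SymTen.TS A R n →ₐ[A] A)
    (h : ∀ r : R, φ₁ (SymTen.tpow A R n r) = φ₂ (SymTen.tpow A R n r)) : φ₁ = φ₂ := by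
  have h1 : Set.EqOn φ₁.toLinearMap φ₂.toLinearMap
      (Submodule.span A (Set.range (SymTen.tpow A R n)) : Set (SymTen.TS A R n)) := by
    apply LinearMap.eqOn_span
    rintro _ ⟨r, rfl⟩
    exact h r
  ext t
  have h2 := h1 (factorial_smul_mem_span t)
  rw [AlgHom.toLinearMap_apply, AlgHom.toLinearMap_apply, map_nsmul, map_nsmul, nsmul_eq_mul,
    nsmul_eq_mul] at h2
  exact hfact.mul_left_cancel h2

end polar

section final
variable (A : Type u) [CommRing A] (R : Type u) [CommRing R] [Algebra A R] [Module.Free A R]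
  [Module.Finite A R]

lemma exists_basis (n : ℕ) (hn : Module.finrank A R = n) : Nonempty (Module.Basis (Fin n) A R) := by
  rcases subsingleton_or_nontrivial A with hA | hA
  · have : Subsingleton R := Module.subsingleton A R
    exact ⟨Module.Basis.ofRepr (LinearEquiv.ofSubsingleton R (Fin n →₀ A))⟩
  · exact ⟨Module.finBasisOfFinrankEq A R hn⟩

theorem main (n : ℕ) (hn : Module.finrank A R = n) (hfact : IsUnit ((Nat.factorial n : ℕ) : A)) :
    ∃! φ : SymTen.TS A R n →ₐ[A] A, ∀ r : R, φ (SymTen.tpow A R n r) = Algebra.norm A r := by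
  obtain ⟨b⟩ := exists_basis A R n hn
  refine ⟨phi b hfact, phi_tpow b hfact, fun φ' h' => ?_⟩
  exact algHom_ext_of_tpow hfact φ' (phi b hfact)
    (fun r => (h' r).trans (phi_tpow b hfact r).symm)

end final

end Groth.Agent.Lib.Helper14.LinNorm
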