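import Mathlib.Algebra.Module.Projective
import Mathlib.RingTheory.Nakayama
import Mathlib.RingTheory.FiniteType
import Mathlib.RingTheory.LocalRing.MaximalIdeal.Basic
import Mathlib.Algebra.BigOperators.Fin

/-! Helper14: over a local ring, every element of a projective module lies in a finite free
direct summand. -/

namespace Groth.Agent.Lib.Helper14.LocalFree

universe u

variable {R : Type u} [CommRing R] {P : Type u} [AddCommGroup P] [Module R P]

/-- `x` is fixed by an endomorphism factoring through `R^k`. -/
def Fac (x : P) (k : ℕ) : Prop :=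
  ∃ (b : P →ₗ[R] (Fin k → R)) (c : (Fin k → R) →ₗ[R] P), c (b x) = x

theorem exists_fac [Module.Projective R P] (x : P) : ∃ k, Fac (R := R) x k := by
  classical
  obtain ⟨s, hs⟩ := (Module.projective_def' (R := R) (P := P)).mp inferInstance
  have hs' : Finsupp.linearCombination R id (s x) = x := LinearMap.congr_fun hs x
  let σ := (s x).support
  let e : σ ≃ Fin σ.card := σ.equivFin
  let b₀ : P →ₗ[R] (σ → R) := LinearMap.pi fun i => Finsupp.lapply (i : P) ∘ₗ s
  let c₀ : (σ → R) →ₗ[R] P := Fintype.linearCombination R (fun i : σ => (i : P))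
  have h0 : c₀ (b₀ x) = x := by
    conv_rhs => rw [← hs']
    rw [Finsupp.linearCombination_apply, Finsupp.sum]
    simp only [c₀, b₀, Fintype.linearCombination_apply, LinearMap.pi_apply, LinearMap.coe_comp,
      Function.comp_apply, Finsupp.lapply_apply, id]
    exact Finset.sum_coe_sort σ (fun i => (s x) i • i)
  refine ⟨σ.card, (LinearEquiv.funCongrLeft R R e.symm).toLinearMap ∘ₗ b₀,
    c₀ ∘ₗ (LinearEquiv.funCongrLeft R R e).toLinearMap, ?_⟩
  simp only [LinearMap.coe_comp, LinearEquiv.coe_coe, Function.comp_apply]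
  have : (LinearEquiv.funCongrLeft R R e) ((LinearEquiv.funCongrLeft R R e.symm) (b₀ x)) = b₀ x := by
    funext i
    simp [LinearEquiv.funCongrLeft_apply, LinearMap.funLeft_apply]
  rw [this, h0]

/-- The reduction step. -/
theorem fac_reduce (x : P) (k : ℕ) (b : P →ₗ[R] (Fin (k + 1) → R))
    (c : (Fin (k + 1) → R) →ₗ[R] P) (h : c (b x) = x) (j : Fin (k + 1)) (t : Fin k → R)
    (hj : b x j = ∑ i, t i * b x (j.succAbove i)) : Fac (R := R) x k := by
  let D : (Fin (k + 1) → R) →ₗ[R] (Fin k → R) := LinearMap.funLeft R R j.succAbove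
  let E : (Fin k → R) →ₗ[R] (Fin (k + 1) → R) :=
    LinearMap.pi fun l => Fin.insertNth (α := fun _ => (Fin k → R) →ₗ[R] R) j
      (∑ i, t i • LinearMap.proj i) (fun i => LinearMap.proj i) l
  have hED : E (D (b x)) = b x := by
    funext l
    rcases Fin.eq_self_or_eq_succAbove j l with rfl | ⟨i, rfl⟩
    · simp only [E, D, LinearMap.pi_apply, Fin.insertNth_apply_same, LinearMap.coe_sum,
        Finset.sum_apply, LinearMap.smul_apply, LinearMap.proj_apply, LinearMap.funLeft_apply,
        smul_eq_mul]
      exact hj.symm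
    · simp only [E, D, LinearMap.pi_apply, Fin.insertNth_apply_succAbove, LinearMap.proj_apply,
        LinearMap.funLeft_apply]
  refine ⟨D ∘ₗ b, c ∘ₗ E, ?_⟩
  simp only [LinearMap.coe_comp, Function.comp_apply]
  rw [hED, h]

theorem mem_smul_top_of_forall_mem {k : ℕ} (I : Ideal R) (w : Fin k → R) (hw : ∀ i, w i ∈ I) :
    w ∈ I • (⊤ : Submodule R (Fin k → R)) := by
  classical
  rw [pi_eq_sum_univ' w]
  apply Submodule.sum_mem
  intro i _
  exact Submodule.smul_mem_smul (hw i) trivial

/-- Over a local ring every element of a projective module lies in the range of a split injection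
from a finite free module. -/
theorem exists_split [IsLocalRing R] [Module.Projective R P] (x : P) :
    ∃ (n : ℕ) (c : (Fin n → R) →ₗ[R] P) (ρ : P →ₗ[R] (Fin n → R)),
      ρ ∘ₗ c = LinearMap.id ∧ x ∈ LinearMap.range c := by
  classical
  have hex := exists_fac (R := R) x
  obtain ⟨b, c, hbc⟩ := Nat.find_spec hex
  have hmin : ∀ k, k < Nat.find hex → ¬ Fac (R := R) x k := fun k hk => Nat.find_min hex hk
  generalize Nat.find hex = n at b c hbc hmin
  let u : (Fin n → R) →ₗ[R] (Fin n → R) := b ∘ₗ c
  let v := b x
  have huv : u v = v := by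
    show b (c (b x)) = b x
    rw [hbc]
  -- all entries of `u - 1` lie in the maximal ideal
  let dd : Fin n → Fin n → R := fun l => u (Pi.single l 1) - Pi.single l 1
  have hlin : ∀ (w : Fin n → R) (i : Fin n), (u w - w) i = ∑ j, w j * dd j i := by
    intro w i
    conv_lhs => rw [pi_eq_sum_univ' w]
    simp only [map_sum, map_smul, Pi.sub_apply, Finset.sum_apply, Pi.smul_apply, smul_eq_mul, dd]
    rw [← Finset.sum_sub_distrib]
    apply Finset.sum_congr rfl
    intro j _
    ring
  have hentries : ∀ (w : Fin n → R) (i : Fin n),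
      (u w - w) i ∈ IsLocalRing.maximalIdeal R := by
    intro w i
    rw [hlin]
    apply sum_mem
    intro j _
    apply Ideal.mul_mem_left
    by_contra hunit
    rw [IsLocalRing.notMem_maximalIdeal] at hunit
    -- the relation in row `i`
    have hrel : ∑ l, v l * dd l i = 0 := by
      rw [← hlin, huv, sub_self]
      rfl
    obtain ⟨k, rfl⟩ : ∃ k, n = k + 1 := by
      cases n with
      | zero => exact j.elim0
      | succ k => exact ⟨k, rfl⟩
    rw [Fin.sum_univ_succAbove _ j] at hrel
    obtain ⟨dinv, hdinv⟩ := hunit.exists_left_inv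
    apply hmin k (Nat.lt_succ_self k)
    apply fac_reduce x k b c hbc j (fun i' => -(dinv * dd (j.succAbove i') i))
    have h2 : v j = -(dinv * ∑ i', v (j.succAbove i') * dd (j.succAbove i') i) := by
      have h3 : v j * dd j i = -∑ i', v (j.succAbove i') * dd (j.succAbove i') i :=
        eq_neg_of_add_eq_zero_left hrel
      calc v j = dinv * dd j i * v j := by rw [hdinv, one_mul]
        _ = dinv * (v j * dd j i) := by ring
        _ = _ := by rw [h3]; ring
    show v j = _
    rw [h2, Finset.mul_sum, ← Finset.sum_neg_distrib]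
    apply Finset.sum_congr rfl
    intro i' _
    ring
  -- hence `u` is surjective by Nakayama, so bijective
  have hsurj : Function.Surjective u := by
    rw [← LinearMap.range_eq_top, eq_top_iff]
    apply Submodule.le_of_le_smul_of_le_jacobson_bot (I := IsLocalRing.maximalIdeal R)
      Module.Finite.fg_top (IsLocalRing.maximalIdeal_le_jacobson _)
    intro w _
    have : w = u w - (u w - w) := by abel
    rw [this]
    exact Submodule.sub_mem _ (Submodule.mem_sup_left ⟨w, rfl⟩)
      (Submodule.mem_sup_right (mem_smul_top_of_forall_mem _ _ (hentries w)))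
  have hbij : Function.Bijective u := OrzechProperty.bijective_of_surjective_endomorphism u hsurj
  let ue : (Fin n → R) ≃ₗ[R] (Fin n → R) := LinearEquiv.ofBijective u hbij
  refine ⟨n, c, ue.symm.toLinearMap ∘ₗ b, ?_, ⟨b x, hbc⟩⟩
  apply LinearMap.ext
  intro w
  show ue.symm (b (c w)) = w
  rw [LinearEquiv.symm_apply_eq]
  rfl

end Groth.Agent.Lib.Helper14.LocalFree
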