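import Groth.Agent.Lib.Helper14ML
import Mathlib.LinearAlgebra.TensorProduct.Tower

/-! Helper14: Mittag-Leffler modules and restriction of scalars. -/

namespace Groth.Agent.Lib.Helper14.ML

open TensorProduct

universe u

/-- The `S`-linear and `R`-linear versions of `piRightHom` agree as functions. -/
theorem piRightHom_eq {R S : Type u} [CommRing R] [CommRing S] [Algebra R S] {ι : Type u}
    (Q : ι → Type u) [∀ i, AddCommGroup (Q i)] [∀ i, Module R (Q i)] (w : S ⊗[R] (∀ i, Q i)) :
    TensorProduct.piRightHom R S S Q w = TensorProduct.piRightHom R R S Q w := by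
  induction w using TensorProduct.induction_on with
  | zero => simp
  | tmul x y => rw [TensorProduct.piRightHom_tmul, TensorProduct.piRightHom_tmul]
  | add x y hx hy => rw [map_add, map_add, hx, hy]

/-- Restriction of scalars for Mittag-Leffler modules: the key abstract step. -/
theorem isMittagLeffler_restrictScalars_aux (R S : Type u) [CommRing R] [CommRing S] [Algebra R S]
    (M : Type u) [AddCommGroup M] [Module S M] [Module R M] [IsScalarTower R S M]
    (hθ : ∀ (ι : Type u) (Q : ι → Type u) [∀ i, AddCommGroup (Q i)] [∀ i, Module R (Q i)],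
      Function.Injective ((TensorProduct.piRightHom R S S Q).lTensor M))
    (hM : CAlg.IsMittagLeffler S M) : CAlg.IsMittagLeffler R M := by
  rw [isMittagLeffler_iff] at hM ⊢
  intro ι Q _ _ z hz
  let c := AlgebraTensorModule.cancelBaseChange R S S M (∀ i, Q i)
  obtain ⟨z', rfl⟩ := c.surjective z
  suffices h : z' = 0 by rw [h, map_zero]
  apply hθ ι Q
  rw [map_zero]
  apply hM ι (fun i => S ⊗[R] Q i)
  intro i
  rw [← LinearMap.comp_apply, ← LinearMap.lTensor_comp]
  have hcomp : (LinearMap.proj i : (∀ i, S ⊗[R] Q i) →ₗ[S] S ⊗[R] Q i) ∘ₗ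
      TensorProduct.piRightHom R S S Q =
      AlgebraTensorModule.lTensor S S (LinearMap.proj i : (∀ i, Q i) →ₗ[R] Q i) := by
    ext y
    simp [TensorProduct.piRightHom_tmul]
  rw [hcomp]
  have hnat := AlgebraTensorModule.lTensor_comp_cancelBaseChange (R := R) (A := S) (B := S)
    (M := M) (LinearMap.proj i : (∀ i, Q i) →ₗ[R] Q i)
  have h1 := LinearMap.congr_fun hnat z'
  simp only [LinearMap.coe_comp, Function.comp_apply, LinearEquiv.coe_coe,
    AlgebraTensorModule.coe_lTensor] at h1
  have h2 : (LinearMap.proj i : (∀ i, Q i) →ₗ[R] Q i).lTensor M (c z') = 0 := hz i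
  rw [h2] at h1
  have h3 := (AlgebraTensorModule.cancelBaseChange R S S M (Q i)).injective
    (h1.symm.trans (map_zero _).symm)
  exact h3

end Groth.Agent.Lib.Helper14.ML
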