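import Groth.Agent.Lib.Helper14ML
import Mathlib.Algebra.Module.FinitePresentation
import Mathlib.LinearAlgebra.TensorProduct.RightExactness
import Mathlib.LinearAlgebra.TensorProduct.Associator
import Mathlib.LinearAlgebra.TensorProduct.Basis
import Mathlib.RingTheory.TensorProduct.Finite

/-! Helper14: mutual domination of maps, stability under tensor products,
finite presentation of tensor products. -/

namespace Groth.Agent.Lib.Helper14.ML

open TensorProduct

universe u

/-- The tensor product of two finitely presented modules is finitely presented. -/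
theorem finitePresentation_tensorProduct (R : Type u) [CommRing R] (M N : Type u)
    [AddCommGroup M] [Module R M] [AddCommGroup N] [Module R N]
    [Module.FinitePresentation R M] [Module.FinitePresentation R N] :
    Module.FinitePresentation R (M ⊗[R] N) := by
  obtain ⟨n, K, eM, hK⟩ := Module.FinitePresentation.exists_fin R M
  obtain ⟨m, L, eN, hL⟩ := Module.FinitePresentation.exists_fin R N
  have hKf : Module.Finite R K := Module.Finite.iff_fg.mpr hK
  have hLf : Module.Finite R L := Module.Finite.iff_fg.mpr hL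
  have h0 : Module.FinitePresentation R ((Fin n → R) ⊗[R] (Fin m → R)) :=
    Module.finitePresentation_of_projective _ _
  have h1 : Module.FinitePresentation R (((Fin n → R) ⧸ K) ⊗[R] ((Fin m → R) ⧸ L)) := by
    apply Module.finitePresentation_of_surjective (TensorProduct.map K.mkQ L.mkQ)
      (TensorProduct.map_surjective K.mkQ_surjective L.mkQ_surjective)
    rw [TensorProduct.map_ker (LinearMap.exact_subtype_mkQ K) K.mkQ_surjective
      (LinearMap.exact_subtype_mkQ L) L.mkQ_surjective]
    apply Submodule.FG.sup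
    · rw [LinearMap.range_eq_map]
      exact Submodule.FG.map _ Module.Finite.fg_top
    · rw [LinearMap.range_eq_map]
      exact Submodule.FG.map _ Module.Finite.fg_top
  exact Module.FinitePresentation.of_equiv (TensorProduct.congr eM eN).symm

variable {R : Type u} [CommRing R]

/-- Two maps out of `P` mutually dominate each other: their tensors with any module have the
same kernel. -/
def Dom {P M Q : Type u} [AddCommGroup P] [Module R P] [AddCommGroup M] [Module R M]
    [AddCommGroup Q] [Module R Q] (f : P →ₗ[R] M) (g : P →ₗ[R] Q) : Prop :=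
  ∀ (T : Type u) [AddCommGroup T] [Module R T] (x : P ⊗[R] T),
    f.rTensor T x = 0 ↔ g.rTensor T x = 0

section

variable {P M Q : Type u} [AddCommGroup P] [Module R P] [AddCommGroup M] [Module R M]
    [AddCommGroup Q] [Module R Q]

theorem dom_iff_ker (f : P →ₗ[R] M) (g : P →ₗ[R] Q) :
    Dom f g ↔ ∀ (T : Type u) [AddCommGroup T] [Module R T],
      LinearMap.ker (f.rTensor T) = LinearMap.ker (g.rTensor T) := by
  constructor
  · intro h T _ _
    ext x
    simp only [LinearMap.mem_ker]
    exact h T x
  · intro h T _ _ x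
    have := h T
    rw [← LinearMap.mem_ker, ← LinearMap.mem_ker, this]

theorem leftComm_lTensor_rTensor (f : P →ₗ[R] M) (A B : Type u) [AddCommGroup A] [Module R A]
    [AddCommGroup B] [Module R B] (x : A ⊗[R] (P ⊗[R] B)) :
    TensorProduct.leftComm R A M B ((f.rTensor B).lTensor A x) =
      f.rTensor (A ⊗[R] B) (TensorProduct.leftComm R A P B x) := by
  induction x using TensorProduct.induction_on with
  | zero => simp
  | tmul a y =>
    induction y using TensorProduct.induction_on with
    | zero => simp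
    | tmul p b => simp
    | add y₁ y₂ h₁ h₂ =>
      rw [TensorProduct.tmul_add, map_add, map_add, map_add, map_add, h₁, h₂]
  | add x₁ x₂ h₁ h₂ => rw [map_add, map_add, map_add, map_add, h₁, h₂]

theorem Dom.lTensor_rTensor {f : P →ₗ[R] M} {g : P →ₗ[R] Q} (h : Dom f g)
    (A B : Type u) [AddCommGroup A] [Module R A]
    [AddCommGroup B] [Module R B] (x : A ⊗[R] (P ⊗[R] B)) :
    (f.rTensor B).lTensor A x = 0 ↔ (g.rTensor B).lTensor A x = 0 := by
  rw [← (TensorProduct.leftComm R A M B).map_eq_zero_iff, leftComm_lTensor_rTensor,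
    ← (TensorProduct.leftComm R A Q B).map_eq_zero_iff, leftComm_lTensor_rTensor]
  exact h _ _

theorem Dom.comp {f : P →ₗ[R] M} {g : P →ₗ[R] Q} (h : Dom f g)
    {P' : Type u} [AddCommGroup P'] [Module R P'] (k : P' →ₗ[R] P) :
    Dom (f ∘ₗ k) (g ∘ₗ k) := by
  intro T _ _ x
  rw [LinearMap.rTensor_comp, LinearMap.rTensor_comp, LinearMap.comp_apply, LinearMap.comp_apply]
  exact h T _

end

/-- Mutual domination is stable under tensor products. -/
theorem Dom.map {P₁ M₁ Q₁ P₂ M₂ Q₂ : Type u}
    [AddCommGroup P₁] [Module R P₁] [AddCommGroup M₁] [Module R M₁] [AddCommGroup Q₁] [Module R Q₁]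
    [AddCommGroup P₂] [Module R P₂] [AddCommGroup M₂] [Module R M₂] [AddCommGroup Q₂] [Module R Q₂]
    {f₁ : P₁ →ₗ[R] M₁} {g₁ : P₁ →ₗ[R] Q₁} {f₂ : P₂ →ₗ[R] M₂} {g₂ : P₂ →ₗ[R] Q₂}
    (h₁ : Dom f₁ g₁) (h₂ : Dom f₂ g₂) :
    Dom (TensorProduct.map f₁ f₂) (TensorProduct.map g₁ g₂) := by
  intro T _ _ x
  have e1 : ∀ {A B : Type u} [AddCommGroup A] [Module R A] [AddCommGroup B] [Module R B]
      (a : P₁ →ₗ[R] A) (b : P₂ →ₗ[R] B),
      TensorProduct.assoc R A B T ((TensorProduct.map a b).rTensor T x) =
        a.rTensor (B ⊗[R] T) ((b.rTensor T).lTensor P₁ (TensorProduct.assoc R P₁ P₂ T x)) := by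
    intro A B _ _ _ _ a b
    rw [← LinearMap.comp_apply (a.rTensor _), LinearMap.rTensor_comp_lTensor]
    have := TensorProduct.map_map_assoc a b (LinearMap.id : T →ₗ[R] T) x
    rw [LinearMap.rTensor, LinearMap.rTensor]
    exact this.symm
  have e2 : ∀ {A B : Type u} [AddCommGroup A] [Module R A] [AddCommGroup B] [Module R B]
      (a : P₁ →ₗ[R] A) (b : P₂ →ₗ[R] B),
      TensorProduct.assoc R A B T ((TensorProduct.map a b).rTensor T x) =
        (b.rTensor T).lTensor A (a.rTensor (P₂ ⊗[R] T) (TensorProduct.assoc R P₁ P₂ T x)) := by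
    intro A B _ _ _ _ a b
    rw [← LinearMap.comp_apply ((b.rTensor T).lTensor A), LinearMap.lTensor_comp_rTensor]
    have := TensorProduct.map_map_assoc a b (LinearMap.id : T →ₗ[R] T) x
    rw [LinearMap.rTensor, LinearMap.rTensor]
    exact this.symm
  rw [← (TensorProduct.assoc R M₁ M₂ T).map_eq_zero_iff, e1, h₁ _ _,
    ← e1 g₁ f₂, e2, h₂.lTensor_rTensor, ← e2 g₁ g₂, LinearEquiv.map_eq_zero_iff]

end Groth.Agent.Lib.Helper14.ML
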