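import Groth.Agent.Lib.Helper14ML
import Groth.Agent.Lib.Helper14FpWitness
import Mathlib.RingTheory.Flat.Basic
import Mathlib.LinearAlgebra.TensorProduct.RightExactness
import Mathlib.LinearAlgebra.TensorProduct.Finiteness

/-! Helper14: flat Mittag-Leffler modules: smallest submodule `F' ⊆ F` with `x ∈ F' ⊗ M`. -/

namespace Groth.Agent.Lib.Helper14.ML

open TensorProduct

universe u

variable {R : Type u} [CommRing R]

/-- Right-handed kernel form of the Mittag-Leffler condition. -/
theorem isMittagLeffler_iff_right {M : Type u} [AddCommGroup M] [Module R M] :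
    CAlg.IsMittagLeffler R M ↔ ∀ (ι : Type u) (Q : ι → Type u) [∀ i, AddCommGroup (Q i)]
      [∀ i, Module R (Q i)] (z : (∀ i, Q i) ⊗[R] M),
      (∀ i, (LinearMap.proj i : (∀ i, Q i) →ₗ[R] Q i).rTensor M z = 0) → z = 0 := by
  rw [isMittagLeffler_iff]
  constructor
  · intro h ι Q _ _ z hz
    apply (TensorProduct.comm R (∀ i, Q i) M).injective
    rw [map_zero]
    apply h ι Q
    intro i
    rw [← Groth.Agent.Lib.Helper14.comm_rTensor, hz i, map_zero]
  · intro h ι Q _ _ z hz
    apply (TensorProduct.comm R M (∀ i, Q i)).injective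
    rw [map_zero]
    apply h ι Q
    intro i
    rw [← Groth.Agent.Lib.Helper14.comm_lTensor, hz i, map_zero]

theorem mem_range_subtype_rTensor_iff {M F : Type u} [AddCommGroup M] [Module R M]
    [AddCommGroup F] [Module R F] (G : Submodule R F) (x : F ⊗[R] M) :
    x ∈ LinearMap.range (G.subtype.rTensor M) ↔ G.mkQ.rTensor M x = 0 :=
  ((rTensor_exact M (LinearMap.exact_subtype_mkQ G) G.mkQ_surjective) x).symm

/-- If `x` lies in the image of `F' ⊗ M`, it lies in the image of `G ⊗ M` for a finitely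
generated `G ≤ F'`. -/
theorem exists_fg_le_mem_range {M F : Type u} [AddCommGroup M] [Module R M]
    [AddCommGroup F] [Module R F] (F' : Submodule R F) (x : F ⊗[R] M)
    (hx : x ∈ LinearMap.range (F'.subtype.rTensor M)) :
    ∃ (k : ℕ) (a : Fin k → F) (m : Fin k → M), (∀ j, a j ∈ F') ∧ x = ∑ j, a j ⊗ₜ[R] m j := by
  obtain ⟨y, rfl⟩ := hx
  obtain ⟨k, a, m, rfl⟩ := TensorProduct.exists_sum_tmul_eq y
  refine ⟨k, fun j => (a j).1, m, fun j => (a j).2, ?_⟩
  simp [map_sum]

theorem sum_tmul_mem_range {M F : Type u} [AddCommGroup M] [Module R M]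
    [AddCommGroup F] [Module R F] (G : Submodule R F) {k : ℕ} (a : Fin k → F) (m : Fin k → M)
    (ha : ∀ j, a j ∈ G) : (∑ j, a j ⊗ₜ[R] m j) ∈ LinearMap.range (G.subtype.rTensor M) := by
  refine ⟨∑ j, (⟨a j, ha j⟩ : G) ⊗ₜ[R] m j, ?_⟩
  simp [map_sum]

/-- For a flat Mittag-Leffler module `M` and `x ∈ F ⊗ M` there is a smallest submodule `F'` of `F`
with `x` in the image of `F' ⊗ M`, and it is finitely generated. -/
theorem exists_smallest {M : Type u} [AddCommGroup M] [Module R M] [Module.Flat R M]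
    (hM : CAlg.IsMittagLeffler R M) (F : Type u) [AddCommGroup F] [Module R F] (x : F ⊗[R] M) :
    ∃ F' : Submodule R F, F'.FG ∧ x ∈ LinearMap.range (F'.subtype.rTensor M) ∧
      ∀ F'' : Submodule R F, x ∈ LinearMap.range (F''.subtype.rTensor M) → F' ≤ F'' := by
  classical
  rw [isMittagLeffler_iff_right] at hM
  let ι : Type u := {G : Submodule R F // G.mkQ.rTensor M x = 0}
  let F₀ : Submodule R F := ⨅ s : ι, s.1
  have hle : F₀ ≤ LinearMap.ker (LinearMap.pi fun s : ι => s.1.mkQ) := by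
    rw [LinearMap.ker_pi]
    simp only [Submodule.ker_mkQ]
    exact le_refl _
  let j : F ⧸ F₀ →ₗ[R] ∀ s : ι, F ⧸ s.1 := F₀.liftQ (LinearMap.pi fun s : ι => s.1.mkQ) hle
  have hj : Function.Injective j := by
    rw [← LinearMap.ker_eq_bot]
    apply Submodule.ker_liftQ_eq_bot
    rw [LinearMap.ker_pi]
    simp only [Submodule.ker_mkQ]
    exact le_refl _
  have hjM : Function.Injective (j.rTensor M) :=
    Module.Flat.rTensor_preserves_injective_linearMap j hj
  have h0 : F₀.mkQ.rTensor M x = 0 := by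
    apply hjM
    rw [map_zero]
    apply hM ι (fun s => F ⧸ s.1)
    intro s
    rw [← LinearMap.comp_apply, ← LinearMap.comp_apply, ← LinearMap.rTensor_comp,
      ← LinearMap.rTensor_comp]
    have : ((LinearMap.proj s : (∀ s : ι, F ⧸ s.1) →ₗ[R] F ⧸ s.1) ∘ₗ j) ∘ₗ F₀.mkQ = s.1.mkQ := by
      ext y
      simp [j]
    rw [this]
    exact s.2
  have hmin : ∀ F'' : Submodule R F, x ∈ LinearMap.range (F''.subtype.rTensor M) → F₀ ≤ F'' := by
    intro F'' hF''
    rw [mem_range_subtype_rTensor_iff] at hF''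
    exact iInf_le (fun s : ι => s.1) ⟨F'', hF''⟩
  have hx0 : x ∈ LinearMap.range (F₀.subtype.rTensor M) :=
    (mem_range_subtype_rTensor_iff F₀ x).mpr h0
  refine ⟨F₀, ?_, hx0, hmin⟩
  obtain ⟨k, a, m, ha, hxa⟩ := exists_fg_le_mem_range F₀ x hx0
  have hG : F₀ ≤ Submodule.span R (Set.range a) := by
    apply hmin
    rw [hxa]
    exact sum_tmul_mem_range _ a m fun j => Submodule.subset_span (Set.mem_range_self j)
  have hG' : Submodule.span R (Set.range a) ≤ F₀ := by
    rw [Submodule.span_le]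
    rintro _ ⟨j, rfl⟩
    exact ha j
  rw [le_antisymm hG hG']
  exact Submodule.fg_span (Set.finite_range a)

end Groth.Agent.Lib.Helper14.ML
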