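import Mathlib
import Groth.Prelude.Def_Found
import Groth.Prelude.Def_W4c5adicflatcomplDec
import Groth.Agent.Lib.Helper14ML
import Groth.Agent.Lib.Helper14Decaying
import Groth.Agent.Lib.Helper14Decaying4
import Groth.Agent.Lib.Helper14AdicFree2
import Groth.Agent.Lib.Helper14AdicUniv

/-!
# Mittag-Leffler modules: pure submodules of products over a Noetherian ring
-/

set_option autoImplicit false

open W4c5adicflatcompl
open scoped TensorProduct

universe u

namespace Groth.Agent.Lib.Helper14.MLProd

open Groth.Agent.Lib.Helper14.ML Groth.Agent.Lib.Helper14.Dec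

variable {R : Type u} [CommRing R]

theorem piScalarRightHom_rTensor {α : Type u} {P P' : Type u} [AddCommGroup P] [Module R P]
    [AddCommGroup P'] [Module R P'] (φ : P →ₗ[R] P') (x : P ⊗[R] (α → R)) (a : α) :
    TensorProduct.piScalarRightHom R R P' α (φ.rTensor (α → R) x) a =
      φ (TensorProduct.piScalarRightHom R R P α x a) := by
  induction x using TensorProduct.induction_on with
  | zero => simp
  | tmul p f => simp
  | add x y hx hy => simp only [map_add, Pi.add_apply, hx, hy]

/-- Over a Noetherian ring, `P ⊗ R^α → P^α` is injective for every module `P`. -/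
theorem piScalarRightHom_injective_noeth [IsNoetherianRing R] (α : Type u) (P : Type u)
    [AddCommGroup P] [Module R P] :
    Function.Injective (TensorProduct.piScalarRightHom R R P α) := by
  rw [← LinearMap.ker_eq_bot, LinearMap.ker_eq_bot']
  intro x hx
  obtain ⟨P', hP', x', rfl⟩ := Submodule.exists_fg_le_eq_rTensor_subtype x
  haveI : Module.Finite R P' := Module.Finite.iff_fg.mpr hP'
  haveI : Module.FinitePresentation R P' := Module.finitePresentation_of_finite R P'
  have h0 : TensorProduct.piScalarRightHom R R P' α x' = 0 := by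
    funext a
    have := congrFun hx a
    rw [piScalarRightHom_rTensor] at this
    exact Subtype.ext this
  have : x' = 0 := by
    apply piScalarRightHom_injective (A := R) (Z := α) (N := P')
    rw [h0, map_zero]
  rw [this, map_zero]

/-- A module admitting a universally injective map to a power of a Noetherian ring is
Mittag-Leffler. -/
theorem isMittagLeffler_of_univInj_pi [IsNoetherianRing R] (α : Type u) (M : Type u)
    [AddCommGroup M] [Module R M] (j : M →ₗ[R] (α → R))
    (hj : ∀ (Q : Type u) [AddCommGroup Q] [Module R Q], Function.Injective (j.rTensor Q)) :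
    CAlg.IsMittagLeffler R M := by
  rw [isMittagLeffler_iff]
  intro ι Q _ _ z hz
  apply hj (∀ i, Q i)
  rw [map_zero]
  -- move to the other side
  apply (TensorProduct.comm R (α → R) (∀ i, Q i)).injective
  rw [map_zero]
  apply piScalarRightHom_injective_noeth α (∀ i, Q i)
  rw [map_zero]
  funext a
  funext i
  have h1 : (LinearMap.proj i : (∀ i, Q i) →ₗ[R] Q i).lTensor (α → R)
      (j.rTensor (∀ i, Q i) z) = 0 := by
    rw [rTensor_lTensor_comm, hz i, map_zero]
  have h2 : ∀ w : (α → R) ⊗[R] (∀ i, Q i),
      TensorProduct.piScalarRightHom R R (∀ i, Q i) α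
        (TensorProduct.comm R (α → R) (∀ i, Q i) w) a i =
      TensorProduct.piScalarRightHom R R (Q i) α
        (TensorProduct.comm R (α → R) (Q i)
          ((LinearMap.proj i : (∀ i, Q i) →ₗ[R] Q i).lTensor (α → R) w)) a := by
    intro w
    induction w using TensorProduct.induction_on with
    | zero => simp
    | tmul f q => simp
    | add x y hx hy => simp only [map_add, Pi.add_apply, hx, hy]
  rw [h2, h1]
  simp

/-- The completion of a free module over a complete Noetherian ring is Mittag-Leffler. -/
theorem isMittagLeffler_adicCompletion_finsupp [IsNoetherianRing R] (I : Ideal R)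
    [IsAdicComplete I R] (α : Type u) :
    CAlg.IsMittagLeffler R (AdicCompletion I (α →₀ R)) := by
  have hfg : I.FG := Ideal.fg_of_isNoetherianRing I
  haveI hc : IsAdicComplete I (AdicCompletion I R) := AdicCompletion.isAdicComplete hfg
  let E : AdicCompletion I (α →₀ R) ≃ₗ[R] decaying I α R :=
    (Groth.Agent.Lib.Helper14.AdicUniv.PsiEquiv I α R) ≪≫ₗ
      (Groth.Agent.Lib.Helper14.AdicFree.decayingCongr (I := I) α
        (AdicCompletion.ofLinearEquiv I R).symm)
  let j : AdicCompletion I (α →₀ R) →ₗ[R] (α → R) :=
    (decaying I α R).subtype ∘ₗ E.toLinearMap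
  apply isMittagLeffler_of_univInj_pi α _ j
  intro Q _ _
  have h1 : j.rTensor Q = ((decaying I α R).subtype.rTensor Q) ∘ₗ (E.toLinearMap.rTensor Q) :=
    LinearMap.rTensor_comp Q _ _
  rw [h1, LinearMap.coe_comp]
  refine (subtype_rTensor_injective (I := I) (Z := α) Q).comp ?_
  exact (LinearEquiv.rTensor Q E).injective

end Groth.Agent.Lib.Helper14.MLProd
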