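import Mathlib
import Groth.Agent.Lib.Helper14ML

/-!
# Mittag-Leffler passes to universally injective submodules; countable generation over
finite type algebras
-/

set_option autoImplicit false

open scoped TensorProduct

universe u

namespace Groth.Agent.Lib.Helper14.MLSub

open Groth.Agent.Lib.Helper14

variable {R : Type u} [CommRing R]

/-- If `f : M → P` is universally injective and `P` is Mittag-Leffler then so is `M`. -/
theorem isMittagLeffler_of_univInj {M P : Type u} [AddCommGroup M] [Module R M] [AddCommGroup P]
    [Module R P] (f : M →ₗ[R] P)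
    (hf : ∀ (Q : Type u) [AddCommGroup Q] [Module R Q], Function.Injective (f.lTensor Q))
    (hP : CAlg.IsMittagLeffler R P) : CAlg.IsMittagLeffler R M := by
  rw [ML.isMittagLeffler_iff] at hP ⊢
  intro ι Q _ _ z hz
  have h1 : f.rTensor (∀ j, Q j) z = 0 := by
    apply hP ι Q
    intro j
    rw [ML.rTensor_lTensor_comm, hz j, map_zero]
  have h2 : Function.Injective (f.rTensor (∀ j, Q j)) :=
    (LinearMap.lTensor_inj_iff_rTensor_inj (∀ j, Q j) f).mp (hf (∀ j, Q j))
  exact h2 (by rw [h1, map_zero])

/-- A finite module over a finite type algebra is countably generated over the base. -/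
theorem isCountablyGenerated_of_finiteType {S : Type u} [CommRing S] [Algebra R S]
    [Algebra.FiniteType R S] (N : Type u) [AddCommGroup N] [Module S N] [Module R N]
    [IsScalarTower R S N] [Module.Finite S N] : CAlg.IsCountablyGenerated R N := by
  classical
  obtain ⟨n, f, hf⟩ := Algebra.FiniteType.iff_quotient_mvPolynomial''.mp
    (inferInstance : Algebra.FiniteType R S)
  obtain ⟨t, ht⟩ := (Module.finite_def.mp (inferInstance : Module.Finite S N))
  let s : Set N := Set.range (fun dx : (Fin n →₀ ℕ) × (t : Set N) =>
    f (MvPolynomial.monomial dx.1 (1 : R)) • (dx.2 : N))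
  refine ⟨s, Set.countable_range _, ?_⟩
  rw [eq_top_iff]
  intro y _
  -- closure under multiplication by `f P` on generators
  have key : ∀ (P : MvPolynomial (Fin n) R) (x : N), x ∈ t → f P • x ∈ Submodule.span R s := by
    intro P x hx
    induction P using MvPolynomial.induction_on' with
    | monomial d a =>
      have h1 : MvPolynomial.monomial d a = a • MvPolynomial.monomial d (1 : R) := by
        rw [MvPolynomial.smul_monomial, smul_eq_mul, mul_one]
      rw [h1, map_smul, smul_assoc]
      exact Submodule.smul_mem _ _ (Submodule.subset_span ⟨(d, ⟨x, hx⟩), rfl⟩)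
    | add P Q hP hQ =>
      rw [map_add, add_smul]
      exact Submodule.add_mem _ hP hQ
  have hy : y ∈ Submodule.span S (t : Set N) := by
    rw [ht]
    trivial
  obtain ⟨c, -, hc⟩ := Submodule.mem_span_finset.mp hy
  rw [← hc]
  refine Submodule.sum_mem _ fun x hx => ?_
  obtain ⟨P, hP⟩ := hf (c x)
  rw [← hP]
  exact key P x hx

end Groth.Agent.Lib.Helper14.MLSub
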