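import Mathlib
import Groth.Agent.S6035
import Groth.Agent.S0311
import Groth.Agent.S0313

/-! # Matlis double dual of a finite module is its completion (helper14)

For a Noetherian local ring `A` with injective hull `E` of the residue field and a finite
`A`-module `T`, `Hom_A(Hom_A(T, E), E) ≅ T^` (the `𝔪`-adic completion). -/

set_option autoImplicit false
set_option linter.unusedVariables false
set_option linter.unusedSectionVars false
set_option linter.style.haveILetI false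

universe u

namespace Groth.Agent.Lib.Helper14.MatlisCompl

open IsLocalRing

variable {A : Type u} [CommRing A] [IsLocalRing A] [IsNoetherianRing A]
  {Eh : Type u} [AddCommGroup Eh] [Module A Eh]
  (f : ResidueField A →ₗ[A] Eh) (hf : InjHull.IsInjectiveHull f)
  (T : Type u) [AddCommGroup T] [Module A T] [Module.Finite A T]

/-- the quotient `T/𝔪^k T` -/
abbrev Q (A : Type u) [CommRing A] [IsLocalRing A] (T : Type u) [AddCommGroup T] [Module A T]
    (k : ℕ) : Type u :=
  T ⧸ ((maximalIdeal A) ^ k • ⊤ : Submodule A T)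

lemma isFiniteLength_quot (k : ℕ) : IsFiniteLength A (Q A T k) := by
  rcases Nat.eq_zero_or_pos k with rfl | hk
  · haveI : Subsingleton (T ⧸ ((maximalIdeal A) ^ 0 • ⊤ : Submodule A T)) := by
      rw [pow_zero, Ideal.one_eq_top, Submodule.top_smul]
      exact Submodule.Quotient.subsingleton_iff.mpr rfl
    exact IsFiniteLength.of_subsingleton
  · have hmin : maximalIdeal A ∈ (maximalIdeal A ^ k).minimalPrimes := by
      refine ⟨⟨inferInstance, Ideal.pow_le_self hk.ne'⟩, ?_⟩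
      rintro q ⟨hq, hle⟩ -
      exact (hq.pow_le_iff hk.ne').1 hle
    haveI : IsArtinianRing (A ⧸ maximalIdeal A ^ k) :=
      IsLocalRing.quotient_artinian_of_mem_minimalPrimes_of_isLocalRing _ hmin
    rw [isFiniteLength_iff_isNoetherian_isArtinian]
    haveI : Module.Finite (A ⧸ maximalIdeal A ^ k)
        (T ⧸ ((maximalIdeal A) ^ k • ⊤ : Submodule A T)) :=
      Module.Finite.of_restrictScalars_finite A _ _
    haveI : IsArtinian (A ⧸ maximalIdeal A ^ k)
        (T ⧸ ((maximalIdeal A) ^ k • ⊤ : Submodule A T)) := inferInstance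
    exact ⟨inferInstance,
      isArtinian_of_surjective_algebraMap (Ideal.Quotient.mk_surjective (I := maximalIdeal A ^ k))⟩

include hf in
/-- every map from a finite module to `E` kills `𝔪^k T` for some `k` -/
lemma exists_pow_le_ker (ψ : T →ₗ[A] Eh) :
    ∃ k : ℕ, ((maximalIdeal A) ^ k • ⊤ : Submodule A T) ≤ LinearMap.ker ψ := by
  classical
  have hpt : LocCoh.IsPowerTorsion (maximalIdeal A) Eh := Groth.Agent.S0311.result A Eh f hf
  obtain ⟨s, hs⟩ := (Module.Finite.fg_top : (⊤ : Submodule A T).FG)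
  choose n hn using fun t : T => hpt (ψ t)
  refine ⟨s.sup n, ?_⟩
  rw [Submodule.smul_le]
  intro a ha t _
  rw [LinearMap.mem_ker, map_smul]
  have key : ∀ t' ∈ Submodule.span A (s : Set T), a • ψ t' = 0 := by
    intro t' ht
    induction ht using Submodule.span_induction with
    | mem x hx => exact hn x a (Ideal.pow_le_pow_right (Finset.le_sup hx) ha)
    | zero => rw [map_zero, smul_zero]
    | add x y _ _ hx hy => rw [map_add, smul_add, hx, hy, add_zero]
    | smul r x _ hx => rw [map_smul, smul_comm, hx, smul_zero]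
  exact key t (hs ▸ Submodule.mem_top)

/-- evaluation equivalence on `T/𝔪^k T` -/
noncomputable def evQ (k : ℕ) : Q A T k ≃ₗ[A] ((Q A T k →ₗ[A] Eh) →ₗ[A] Eh) :=
  LinearEquiv.ofBijective LinearMap.applyₗ
    (Groth.Agent.S6035.result A Eh f hf (Q A T k) (isFiniteLength_quot T k))

lemma evQ_apply (k : ℕ) (q : Q A T k) (φ : Q A T k →ₗ[A] Eh) : evQ f hf T k q φ = φ q := rfl

/-- restriction `DD(T) → DD(T/𝔪^k T)` -/
noncomputable def restr (k : ℕ) :
    ((T →ₗ[A] Eh) →ₗ[A] Eh) →ₗ[A] ((Q A T k →ₗ[A] Eh) →ₗ[A] Eh) :=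
  LinearMap.lcomp A Eh (LinearMap.lcomp A Eh
    (Submodule.mkQ ((maximalIdeal A) ^ k • ⊤ : Submodule A T)))

lemma restr_apply (k : ℕ) (ξ : (T →ₗ[A] Eh) →ₗ[A] Eh) (φ : Q A T k →ₗ[A] Eh) :
    restr (Eh := Eh) T k ξ φ = ξ (φ ∘ₗ Submodule.mkQ _) := rfl

/-- the `k`-th component of the comparison map -/
noncomputable def Θk (k : ℕ) : ((T →ₗ[A] Eh) →ₗ[A] Eh) →ₗ[A] Q A T k :=
  (evQ f hf T k).symm.toLinearMap ∘ₗ restr T k

lemma Θk_spec (k : ℕ) (ξ : (T →ₗ[A] Eh) →ₗ[A] Eh) (φ : Q A T k →ₗ[A] Eh) :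
    φ (Θk f hf T k ξ) = ξ (φ ∘ₗ Submodule.mkQ _) := by
  have h := (evQ f hf T k).apply_symm_apply (restr T k ξ)
  exact LinearMap.congr_fun h φ

include hf in
lemma Q_ext (k : ℕ) (q q' : Q A T k) (h : ∀ φ : Q A T k →ₗ[A] Eh, φ q = φ q') : q = q' :=
  (evQ f hf T k).injective (LinearMap.ext h)

lemma Θk_compat {m n : ℕ} (hmn : m ≤ n) :
    AdicCompletion.transitionMap (maximalIdeal A) T hmn ∘ₗ Θk f hf T n = Θk f hf T m := by
  refine LinearMap.ext fun ξ => Q_ext f hf T m _ _ fun φ => ?_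
  rw [LinearMap.comp_apply, Θk_spec]
  have h := Θk_spec f hf T n ξ (φ ∘ₗ AdicCompletion.transitionMap (maximalIdeal A) T hmn)
  rw [LinearMap.comp_apply] at h
  rw [h]
  congr 1

/-- the comparison map `DD(T) → T^` -/
noncomputable def Θ : ((T →ₗ[A] Eh) →ₗ[A] Eh) →ₗ[A] AdicCompletion (maximalIdeal A) T :=
  AdicCompletion.lift (maximalIdeal A) (fun k => Θk f hf T k) (fun hle => Θk_compat f hf T hle)

lemma Θ_val (ξ : (T →ₗ[A] Eh) →ₗ[A] Eh) (k : ℕ) : (Θ f hf T ξ).val k = Θk f hf T k ξ := rfl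

lemma Θ_injective : Function.Injective (Θ f hf T) := by
  rw [injective_iff_map_eq_zero]
  intro ξ hξ
  refine LinearMap.ext fun ψ => ?_
  obtain ⟨k, hk⟩ := exists_pow_le_ker f hf T ψ
  have h1 : Θk f hf T k ξ = 0 := by
    have := congrArg (fun x => x.val k) hξ
    exact this
  have h2 := Θk_spec f hf T k ξ (Submodule.liftQ _ ψ hk)
  rw [h1, map_zero, Submodule.liftQ_mkQ] at h2
  exact h2.symm

open Classical in
/-- the least `k` with `ψ(𝔪^k T) = 0` -/
noncomputable def K (ψ : T →ₗ[A] Eh) : ℕ := Nat.find (exists_pow_le_ker f hf T ψ)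

lemma K_spec (ψ : T →ₗ[A] Eh) :
    ((maximalIdeal A) ^ (K f hf T ψ) • ⊤ : Submodule A T) ≤ LinearMap.ker ψ := by
  classical
  exact Nat.find_spec (exists_pow_le_ker f hf T ψ)

lemma K_le (ψ : T →ₗ[A] Eh) (k : ℕ)
    (hk : ((maximalIdeal A) ^ k • ⊤ : Submodule A T) ≤ LinearMap.ker ψ) : K f hf T ψ ≤ k := by
  classical
  exact Nat.find_min' (exists_pow_le_ker f hf T ψ) hk

lemma apply_eq_of_le (a : AdicCompletion.AdicCauchySequence (maximalIdeal A) T) (ψ : T →ₗ[A] Eh)
    {k l : ℕ} (hkl : k ≤ l)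
    (hk : ((maximalIdeal A) ^ k • ⊤ : Submodule A T) ≤ LinearMap.ker ψ) : ψ (a l) = ψ (a k) := by
  have h := a.property hkl
  have h1 : a k - a l ∈ ((maximalIdeal A) ^ k • ⊤ : Submodule A T) :=
    (Submodule.Quotient.eq _).mp h
  have h2 := hk h1
  rw [LinearMap.mem_ker, map_sub, sub_eq_zero] at h2
  exact h2.symm

lemma apply_K (a : AdicCompletion.AdicCauchySequence (maximalIdeal A) T) (ψ : T →ₗ[A] Eh)
    (k : ℕ) (hk : ((maximalIdeal A) ^ k • ⊤ : Submodule A T) ≤ LinearMap.ker ψ) :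
    ψ (a (K f hf T ψ)) = ψ (a k) :=
  (apply_eq_of_le T a ψ (K_le f hf T ψ k hk) (K_spec f hf T ψ)).symm

/-- the functional on `Hom(T, E)` attached to a Cauchy sequence -/
noncomputable def ξof (a : AdicCompletion.AdicCauchySequence (maximalIdeal A) T) :
    (T →ₗ[A] Eh) →ₗ[A] Eh where
  toFun ψ := ψ (a (K f hf T ψ))
  map_add' ψ ψ' := by
    let k := max (K f hf T ψ) (K f hf T ψ')
    have h1 : ((maximalIdeal A) ^ k • ⊤ : Submodule A T) ≤ LinearMap.ker ψ :=
      le_trans (Submodule.smul_mono_left (Ideal.pow_le_pow_right (le_max_left _ _)))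
        (K_spec f hf T ψ)
    have h2 : ((maximalIdeal A) ^ k • ⊤ : Submodule A T) ≤ LinearMap.ker ψ' :=
      le_trans (Submodule.smul_mono_left (Ideal.pow_le_pow_right (le_max_right _ _)))
        (K_spec f hf T ψ')
    have h3 : ((maximalIdeal A) ^ k • ⊤ : Submodule A T) ≤ LinearMap.ker (ψ + ψ') := by
      intro t ht
      have e1 := h1 ht
      have e2 := h2 ht
      rw [LinearMap.mem_ker] at e1 e2 ⊢
      rw [LinearMap.add_apply, e1, e2, add_zero]
    rw [apply_K f hf T a ψ k h1, apply_K f hf T a ψ' k h2, apply_K f hf T a (ψ + ψ') k h3,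
      LinearMap.add_apply]
  map_smul' r ψ := by
    have h1 := K_spec f hf T ψ
    have h3 : ((maximalIdeal A) ^ (K f hf T ψ) • ⊤ : Submodule A T) ≤ LinearMap.ker (r • ψ) := by
      intro t ht
      have e1 := h1 ht
      rw [LinearMap.mem_ker] at e1 ⊢
      rw [LinearMap.smul_apply, e1, smul_zero]
    rw [apply_K f hf T a (r • ψ) _ h3, LinearMap.smul_apply, RingHom.id_apply]

lemma ξof_apply (a : AdicCompletion.AdicCauchySequence (maximalIdeal A) T) (ψ : T →ₗ[A] Eh)
    (k : ℕ) (hk : ((maximalIdeal A) ^ k • ⊤ : Submodule A T) ≤ LinearMap.ker ψ) :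
    ξof f hf T a ψ = ψ (a k) :=
  apply_K f hf T a ψ k hk

lemma Θ_surjective : Function.Surjective (Θ f hf T) := by
  intro x
  obtain ⟨a, rfl⟩ := AdicCompletion.mk_surjective _ _ x
  refine ⟨ξof f hf T a, AdicCompletion.ext fun k => ?_⟩
  refine Q_ext f hf T k _ _ fun φ => ?_
  rw [Θ_val, Θk_spec]
  have hk : ((maximalIdeal A) ^ k • ⊤ : Submodule A T) ≤
      LinearMap.ker (φ ∘ₗ Submodule.mkQ ((maximalIdeal A) ^ k • ⊤ : Submodule A T)) := by
    intro t ht
    rw [LinearMap.mem_ker, LinearMap.comp_apply, Submodule.mkQ_apply,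
      (Submodule.Quotient.mk_eq_zero _).mpr ht, map_zero]
  rw [ξof_apply f hf T a _ k hk]
  rfl

/-- **Matlis double dual = completion** for finite modules. -/
noncomputable def ddEquiv :
    AdicCompletion (maximalIdeal A) T ≃ₗ[A] ((T →ₗ[A] Eh) →ₗ[A] Eh) :=
  (LinearEquiv.ofBijective (Θ f hf T) ⟨Θ_injective f hf T, Θ_surjective f hf T⟩).symm

end Groth.Agent.Lib.Helper14.MatlisCompl
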