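import Mathlib

/-!
# `A[T_1..T_r]/(F_1..F_r)` for monic one-variable `F_i` over a local ring with `m^2 = 0` (helper14)

EGA 0_IV 22-type computation: `A' = A[T]/(F_i)`, `F_i = T_i^{d_i} + Σ_{k<d_i} c_{ik} T_i^k`, `c_{ik} ∈ m`,
`d_i ≥ 2`, `m^2 = 0`.  `A'` is local with maximal ideal `J = mA' + (T_i)` (all nilpotent), residue field
`A/m`, and `m ∩ m'^2 = (c_{i0})`, via the ring hom `eps : A' → A/(c_{i0})`, `T_i ↦ 0`.
-/

namespace Groth.Agent.Lib.Helper14.MonicQuot

open IsLocalRing

universe u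

variable {A : Type u} [CommRing A] {r : ℕ} (d : Fin r → ℕ) (c : Fin r → ℕ → A)

/-- The monic one-variable polynomials `F_i = T_i^{d_i} + Σ_{k<d_i} c_{ik} T_i^k`. -/
noncomputable def F (i : Fin r) : MvPolynomial (Fin r) A :=
  MvPolynomial.X i ^ d i +
    (Finset.range (d i)).sum fun k => MvPolynomial.C (c i k) * MvPolynomial.X i ^ k

/-- `A' = A[T_1..T_r]/(F_1..F_r)` -/
abbrev Q := MvPolynomial (Fin r) A ⧸ Ideal.span (Set.range (F d c))

/-- the class of `T_i` -/
noncomputable def x (i : Fin r) : Q d c := Ideal.Quotient.mk _ (MvPolynomial.X i)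

theorem rel (i : Fin r) :
    x d c i ^ d i + (Finset.range (d i)).sum (fun k => algebraMap A (Q d c) (c i k) * x d c i ^ k) = 0 := by
  have h : Ideal.Quotient.mk (Ideal.span (Set.range (F d c))) (F d c i) = 0 :=
    Ideal.Quotient.eq_zero_iff_mem.mpr (Ideal.subset_span ⟨i, rfl⟩)
  rw [F, map_add, map_pow, map_sum] at h
  simp only [map_mul, map_pow] at h
  exact h

/-- the ideal of constant terms -/
def Cc : Ideal A := Ideal.span (Set.range fun i => c i 0)

theorem constantCoeff_F (hd : ∀ i, 2 ≤ d i) (i : Fin r) :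
    MvPolynomial.constantCoeff (F d c i) = c i 0 := by
  have hdi : 0 < d i := by have := hd i; omega
  rw [F, map_add, map_pow, map_sum, MvPolynomial.constantCoeff_X, zero_pow hdi.ne', zero_add]
  rw [Finset.sum_eq_single 0]
  · simp
  · intro k _ hk
    simp [zero_pow hk]
  · intro h
    exact absurd (Finset.mem_range.mpr hdi) h

/-- the ring hom `A' → A/(c_{i0})`, `T_i ↦ 0`. -/
noncomputable def eps (hd : ∀ i, 2 ≤ d i) : Q d c →+* A ⧸ Cc c :=
  Ideal.Quotient.lift _ ((Ideal.Quotient.mk (Cc c)).comp MvPolynomial.constantCoeff) (by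
    intro p hp
    have : Ideal.span (Set.range (F d c)) ≤
        RingHom.ker ((Ideal.Quotient.mk (Cc c)).comp MvPolynomial.constantCoeff) := by
      rw [Ideal.span_le]
      rintro _ ⟨i, rfl⟩
      rw [SetLike.mem_coe, RingHom.mem_ker, RingHom.comp_apply, constantCoeff_F d c hd]
      exact Ideal.Quotient.eq_zero_iff_mem.mpr (Ideal.subset_span ⟨i, rfl⟩)
    exact this hp)

theorem eps_algebraMap (hd : ∀ i, 2 ≤ d i) (a : A) :
    eps d c hd (algebraMap A (Q d c) a) = Ideal.Quotient.mk (Cc c) a := by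
  change eps d c hd (Ideal.Quotient.mk _ (MvPolynomial.C a)) = _
  simp [eps]

theorem eps_x (hd : ∀ i, 2 ≤ d i) (i : Fin r) : eps d c hd (x d c i) = 0 := by
  simp [eps, x]

/-- The ideal `mA' + (T_i)`. -/
noncomputable def J [IsLocalRing A] : Ideal (Q d c) :=
  Ideal.map (algebraMap A (Q d c)) (maximalIdeal A) ⊔ Ideal.span (Set.range (x d c))

variable [IsLocalRing A]

theorem exists_sub_mem_J (z : Q d c) : ∃ a : A, z - algebraMap A (Q d c) a ∈ J d c := by
  obtain ⟨p, rfl⟩ := Ideal.Quotient.mk_surjective z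
  induction p using MvPolynomial.induction_on with
  | C a => exact ⟨a, by rw [show (Ideal.Quotient.mk _ (MvPolynomial.C a) : Q d c) =
      algebraMap A (Q d c) a from rfl, sub_self]; exact zero_mem _⟩
  | add p q hp hq =>
    obtain ⟨a, ha⟩ := hp
    obtain ⟨b, hb⟩ := hq
    refine ⟨a + b, ?_⟩
    rw [map_add, map_add]
    have := add_mem ha hb
    convert this using 1
    ring
  | mul_X p i _ =>
    refine ⟨0, ?_⟩
    rw [map_zero, sub_zero, map_mul]
    exact Ideal.mul_mem_left _ _ (Ideal.mem_sup_right (Ideal.subset_span ⟨i, rfl⟩))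

theorem J_le_nilradical (hm : maximalIdeal A ^ 2 = ⊥) (hc : ∀ i k, c i k ∈ maximalIdeal A) :
    J d c ≤ nilradical (Q d c) := by
  have hmap2 : (Ideal.map (algebraMap A (Q d c)) (maximalIdeal A)) ^ 2 = ⊥ := by
    rw [← Ideal.map_pow, hm, Ideal.map_bot]
  have hmap : Ideal.map (algebraMap A (Q d c)) (maximalIdeal A) ≤ nilradical (Q d c) := by
    intro y hy
    rw [mem_nilradical]
    refine ⟨2, ?_⟩
    have := Ideal.pow_mem_pow hy 2
    rw [hmap2] at this
    exact this
  refine sup_le hmap ?_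
  rw [Ideal.span_le]
  rintro _ ⟨i, rfl⟩
  rw [SetLike.mem_coe, mem_nilradical]
  have hrel := rel d c i
  have hy : x d c i ^ d i ∈ Ideal.map (algebraMap A (Q d c)) (maximalIdeal A) := by
    rw [eq_neg_of_add_eq_zero_left hrel]
    refine neg_mem (Ideal.sum_mem _ fun k _ => ?_)
    exact Ideal.mul_mem_right _ _ (Ideal.mem_map_of_mem _ (hc i k))
  obtain ⟨n, hn⟩ := mem_nilradical.mp (hmap hy)
  exact ⟨d i * n, by rw [pow_mul, hn]⟩

theorem nontrivial_Q (hd : ∀ i, 2 ≤ d i) (hc : ∀ i k, c i k ∈ maximalIdeal A) :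
    Nontrivial (Q d c) := by
  have hC : Cc c ≤ maximalIdeal A := by
    rw [Cc, Ideal.span_le]
    rintro _ ⟨i, rfl⟩
    exact hc i 0
  have hne : Cc c ≠ ⊤ := fun h => (maximalIdeal.isMaximal A).ne_top (top_le_iff.mp (h ▸ hC))
  haveI : Nontrivial (A ⧸ Cc c) := Ideal.Quotient.nontrivial_iff.mpr hne
  exact (eps d c hd).domain_nontrivial

theorem isUnit_or_mem_J (hm : maximalIdeal A ^ 2 = ⊥) (hc : ∀ i k, c i k ∈ maximalIdeal A)
    (z : Q d c) : IsUnit z ∨ z ∈ J d c := by
  obtain ⟨a, ha⟩ := exists_sub_mem_J d c z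
  by_cases hau : IsUnit a
  · left
    have hnil : IsNilpotent (z - algebraMap A (Q d c) a) :=
      mem_nilradical.mp (J_le_nilradical d c hm hc ha)
    have := hnil.isUnit_add_left_of_commute (hau.map (algebraMap A (Q d c))) (Commute.all _ _)
    simpa using this
  · right
    have ham : a ∈ maximalIdeal A := (IsLocalRing.mem_maximalIdeal a).mpr hau
    have : z = (z - algebraMap A (Q d c) a) + algebraMap A (Q d c) a := by ring
    rw [this]
    exact add_mem ha (Ideal.mem_sup_left (Ideal.mem_map_of_mem _ ham))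

theorem isLocalRing_Q (hm : maximalIdeal A ^ 2 = ⊥) (hd : ∀ i, 2 ≤ d i)
    (hc : ∀ i k, c i k ∈ maximalIdeal A) : IsLocalRing (Q d c) := by
  haveI := nontrivial_Q d c hd hc
  refine IsLocalRing.of_isUnit_or_isUnit_one_sub_self fun z => ?_
  rcases isUnit_or_mem_J d c hm hc z with h | h
  · exact Or.inl h
  · exact Or.inr (mem_nilradical.mp (J_le_nilradical d c hm hc h)).isUnit_one_sub

theorem maximalIdeal_Q (hm : maximalIdeal A ^ 2 = ⊥) (hd : ∀ i, 2 ≤ d i)
    (hc : ∀ i k, c i k ∈ maximalIdeal A) :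
    letI := isLocalRing_Q d c hm hd hc
    maximalIdeal (Q d c) = J d c := by
  letI := isLocalRing_Q d c hm hd hc
  haveI := nontrivial_Q d c hd hc
  apply le_antisymm
  · intro z hz
    rcases isUnit_or_mem_J d c hm hc z with h | h
    · exact absurd h ((IsLocalRing.mem_maximalIdeal z).mp hz)
    · exact h
  · intro z hz
    rw [IsLocalRing.mem_maximalIdeal, mem_nonunits_iff]
    exact (mem_nilradical.mp (J_le_nilradical d c hm hc hz)).not_isUnit


theorem eps_J_le (hd : ∀ i, 2 ≤ d i) :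
    Ideal.map (eps d c hd) (J d c) ≤ Ideal.map (Ideal.Quotient.mk (Cc c)) (maximalIdeal A) := by
  rw [J, Ideal.map_sup, Ideal.map_map, Ideal.map_span]
  refine sup_le ?_ ?_
  · rw [Ideal.map_le_iff_le_comap]
    intro a ha
    rw [Ideal.mem_comap, RingHom.comp_apply, eps_algebraMap]
    exact Ideal.mem_map_of_mem _ ha
  · rw [Ideal.span_le]
    rintro _ ⟨_, ⟨i, rfl⟩, rfl⟩
    rw [eps_x]
    exact zero_mem _

theorem main (hm : maximalIdeal A ^ 2 = ⊥) (hd : ∀ i, 2 ≤ d i)
    (hc : ∀ i k, c i k ∈ maximalIdeal A) :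
    ∃ _ : IsLocalRing (Q d c),
      Function.Surjective ((Ideal.Quotient.mk (maximalIdeal (Q d c))).comp
        (algebraMap A (Q d c))) ∧
      maximalIdeal A ⊓ Ideal.comap (algebraMap A (Q d c)) (maximalIdeal (Q d c) ^ 2) =
        Ideal.span (Set.range fun i => c i 0) := by
  refine ⟨isLocalRing_Q d c hm hd hc, ?_, ?_⟩
  · letI := isLocalRing_Q d c hm hd hc
    intro y
    obtain ⟨z, rfl⟩ := Ideal.Quotient.mk_surjective y
    obtain ⟨a, ha⟩ := exists_sub_mem_J d c z
    refine ⟨a, ?_⟩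
    rw [RingHom.comp_apply]
    symm
    rw [Ideal.Quotient.eq, maximalIdeal_Q d c hm hd hc]
    exact ha
  · letI := isLocalRing_Q d c hm hd hc
    rw [maximalIdeal_Q d c hm hd hc]
    apply le_antisymm
    · rintro a ⟨ham, ha2⟩
      rw [SetLike.mem_coe, Ideal.mem_comap] at ha2
      have h1 : eps d c hd (algebraMap A (Q d c) a) ∈ Ideal.map (eps d c hd) (J d c ^ 2) :=
        Ideal.mem_map_of_mem _ ha2
      rw [Ideal.map_pow] at h1
      have h2 : Ideal.map (eps d c hd) (J d c) ^ 2 ≤ ⊥ := by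
        refine (Ideal.pow_right_mono (eps_J_le d c hd) 2).trans ?_
        rw [← Ideal.map_pow, hm, Ideal.map_bot]
      have h3 := h2 h1
      rw [Ideal.mem_bot, eps_algebraMap] at h3
      exact Ideal.Quotient.eq_zero_iff_mem.mp h3
    · rw [Ideal.span_le]
      rintro _ ⟨i, rfl⟩
      refine ⟨hc i 0, ?_⟩
      rw [SetLike.mem_coe, Ideal.mem_comap]
      have hxJ : x d c i ∈ J d c := Ideal.mem_sup_right (Ideal.subset_span ⟨i, rfl⟩)
      have hcJ : ∀ k, algebraMap A (Q d c) (c i k) ∈ J d c := fun k =>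
        Ideal.mem_sup_left (Ideal.mem_map_of_mem _ (hc i k))
      have hrel := rel d c i
      obtain ⟨e, he⟩ : ∃ e, d i = e + 2 := ⟨d i - 2, by have := hd i; omega⟩
      rw [he, Finset.sum_range_succ', pow_zero, mul_one] at hrel
      have : algebraMap A (Q d c) (c i 0) =
          -(x d c i ^ (e + 2) + (Finset.range (e + 1)).sum
            (fun k => algebraMap A (Q d c) (c i (k + 1)) * x d c i ^ (k + 1))) := by
        rw [eq_neg_iff_add_eq_zero, ← hrel]
        ring
      rw [this]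
      refine neg_mem (add_mem ?_ (Ideal.sum_mem _ fun k _ => ?_))
      · rw [pow_add, mul_comm]
        exact Ideal.mul_mem_right _ _ (Ideal.pow_mem_pow hxJ 2)
      · have h4 : algebraMap A (Q d c) (c i (k + 1)) * x d c i ^ (k + 1) =
            (x d c i * algebraMap A (Q d c) (c i (k + 1))) * x d c i ^ k := by ring
        rw [h4, sq]
        exact Ideal.mul_mem_right _ _ (Ideal.mul_mem_mul hxJ (hcJ _))

end Groth.Agent.Lib.Helper14.MonicQuot
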