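import Mathlib
import Groth.Agent.Lib.Helper14MonicQuot
import Groth.Agent.Lib.Helper5IntDim
import Groth.Agent.Lib.Helper5RLR
import Groth.Agent.Lib.Helper28RegLoc

/-!
# `A[T_1..T_r]/(F_1..F_r)` over a regular local ring (helper14)

EGA 0_IV 22-type statement: locality, residue field, and regularity criterion
(`c_{i0}` linearly independent in `m/m²`).  Uses helper5's embedding-dimension formula
`embdim (R/I) + dim V(I) = embdim R` twice, via `A'/(T_i) ≃ A/(c_{i0})`.
-/

namespace Groth.Agent.Lib.Helper14.MonicQuot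

open IsLocalRing Polynomial

universe u

variable {A : Type u} [CommRing A] {r : ℕ} (d : Fin r → ℕ) (c : Fin r → ℕ → A)

section Univariate

variable {B : Type*} [CommRing B]

theorem degree_sum_lt (n : ℕ) (a : ℕ → B) :
    (((Finset.range n).sum fun k => (C (a k) : B[X]) * X ^ k)).degree < (n : WithBot ℕ) := by
  rw [Polynomial.degree_lt_iff_coeff_zero]
  intro m hm
  rw [Polynomial.finsetSum_coeff]
  refine Finset.sum_eq_zero fun k hk => ?_
  rw [Polynomial.coeff_C_mul_X_pow, if_neg]
  have := Finset.mem_range.mp hk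
  omega

/-- the univariate monic polynomial -/
noncomputable def P (n : ℕ) (a : ℕ → B) : B[X] :=
  X ^ n + (Finset.range n).sum fun k => (C (a k) : B[X]) * X ^ k

theorem P_monic (n : ℕ) (a : ℕ → B) : (P n a).Monic :=
  Polynomial.monic_X_pow_add (degree_sum_lt n a)

theorem P_degree [Nontrivial B] (n : ℕ) (a : ℕ → B) : (P n a).degree = n := by
  rw [P, Polynomial.degree_add_eq_left_of_degree_lt, Polynomial.degree_X_pow]
  rw [Polynomial.degree_X_pow]
  exact degree_sum_lt n a

theorem eval₂_P {B' : Type*} [CommRing B'] (f : B →+* B') (y : B') (n : ℕ) (a : ℕ → B) :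
    (P n a).eval₂ f y = y ^ n + (Finset.range n).sum fun k => f (a k) * y ^ k := by
  simp [P, Polynomial.eval₂_finsetSum]

end Univariate

theorem isIntegral_x (i : Fin r) : IsIntegral A (x d c i) :=
  ⟨P (d i) (c i), P_monic _ _, by rw [eval₂_P]; exact rel d c i⟩

instance isIntegral_Q : Algebra.IsIntegral A (Q d c) := by
  refine ⟨fun z => ?_⟩
  obtain ⟨p, rfl⟩ := Ideal.Quotient.mk_surjective z
  induction p using MvPolynomial.induction_on with
  | C a => exact isIntegral_algebraMap (R := A) (A := Q d c) (x := a)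
  | add p q hp hq => rw [map_add]; exact hp.add hq
  | mul_X p i hp => rw [map_mul]; exact hp.mul (isIntegral_x d c i)

theorem aeval_F {B : Type*} [CommRing B] [Algebra A B] (ρ : Fin r → B) (i : Fin r) :
    MvPolynomial.aeval ρ (F d c i) =
      ρ i ^ d i + (Finset.range (d i)).sum fun k => algebraMap A B (c i k) * ρ i ^ k := by
  simp [F]

/-- A ring hom out of `A'` given by values `ρ_i` with `F_i(ρ_i) = 0`. -/
noncomputable def liftQ {B : Type*} [CommRing B] [Algebra A B] (ρ : Fin r → B)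
    (hρ : ∀ i, ρ i ^ d i + (Finset.range (d i)).sum (fun k => algebraMap A B (c i k) * ρ i ^ k) = 0) :
    Q d c →ₐ[A] B :=
  Ideal.Quotient.liftₐ _ (MvPolynomial.aeval ρ) (by
    intro p hp
    have : Ideal.span (Set.range (F d c)) ≤ RingHom.ker (MvPolynomial.aeval ρ : _ →ₐ[A] B) := by
      rw [Ideal.span_le]
      rintro _ ⟨i, rfl⟩
      rw [SetLike.mem_coe, RingHom.mem_ker, aeval_F]
      exact hρ i
    exact this hp)

theorem liftQ_x {B : Type*} [CommRing B] [Algebra A B] (ρ : Fin r → B)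
    (hρ : ∀ i, ρ i ^ d i + (Finset.range (d i)).sum (fun k => algebraMap A B (c i k) * ρ i ^ k) = 0)
    (i : Fin r) : liftQ d c ρ hρ (x d c i) = ρ i := by
  simp [liftQ, x]

theorem algebraMap_injective [IsDomain A] (hd : ∀ i, 2 ≤ d i) :
    Function.Injective (algebraMap A (Q d c)) := by
  let L := AlgebraicClosure (FractionRing A)
  have hroot : ∀ i, ∃ ρ : L, (P (d i) (fun k => algebraMap A L (c i k))).eval ρ = 0 := by
    intro i
    apply IsAlgClosed.exists_root
    rw [P_degree]
    have := hd i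
    exact_mod_cast (by omega : d i ≠ 0)
  choose ρ hρ using hroot
  have hρ' : ∀ i, ρ i ^ d i +
      (Finset.range (d i)).sum (fun k => algebraMap A L (c i k) * ρ i ^ k) = 0 := by
    intro i
    have := hρ i
    rw [Polynomial.eval, eval₂_P] at this
    simpa using this
  have hcomp : ∀ a, liftQ d c ρ hρ' (algebraMap A (Q d c) a) = algebraMap A L a :=
    fun a => (liftQ d c ρ hρ').commutes a
  have hinj : Function.Injective (algebraMap A L) := by
    rw [IsScalarTower.algebraMap_eq A (FractionRing A) L]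
    exact (algebraMap (FractionRing A) L).injective.comp (IsFractionRing.injective A _)
  intro a b hab
  apply hinj
  rw [← hcomp, ← hcomp, hab]

theorem ringKrullDim_Q [IsDomain A] (hd : ∀ i, 2 ≤ d i) :
    ringKrullDim (Q d c) = ringKrullDim A :=
  Groth.Agent.Lib.Helper5.ringKrullDim_eq_of_isIntegral_of_injective A (Q d c)
    (algebraMap_injective d c hd)

section Local

variable [IsLocalRing A]

theorem x_pow_mem_map (hc : ∀ i k, c i k ∈ maximalIdeal A) (i : Fin r) :
    x d c i ^ d i ∈ Ideal.map (algebraMap A (Q d c)) (maximalIdeal A) := by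
  rw [eq_neg_of_add_eq_zero_left (rel d c i)]
  refine neg_mem (Ideal.sum_mem _ fun k _ => ?_)
  exact Ideal.mul_mem_right _ _ (Ideal.mem_map_of_mem _ (hc i k))

theorem eq_J_of_isMaximal (hc : ∀ i k, c i k ∈ maximalIdeal A) (M : Ideal (Q d c))
    [hM : M.IsMaximal] : M = J d c := by
  have hcomap : M.comap (algebraMap A (Q d c)) = maximalIdeal A :=
    IsLocalRing.eq_maximalIdeal (Ideal.isMaximal_comap_of_isIntegral_of_isMaximal M)
  have hmap : Ideal.map (algebraMap A (Q d c)) (maximalIdeal A) ≤ M := by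
    rw [Ideal.map_le_iff_le_comap, hcomap]
  have hJM : J d c ≤ M := by
    refine sup_le hmap ?_
    rw [Ideal.span_le]
    rintro _ ⟨i, rfl⟩
    exact hM.isPrime.mem_of_pow_mem _ (hmap (x_pow_mem_map d c hc i))
  refine le_antisymm ?_ hJM
  intro z hz
  obtain ⟨a, ha⟩ := exists_sub_mem_J d c z
  have h1 : algebraMap A (Q d c) a ∈ M := by
    have := sub_mem hz (hJM ha)
    simpa using this
  have h2 : a ∈ maximalIdeal A := by rw [← hcomap]; exact h1
  have : z = (z - algebraMap A (Q d c) a) + algebraMap A (Q d c) a := by ring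
  rw [this]
  exact add_mem ha (Ideal.mem_sup_left (Ideal.mem_map_of_mem _ h2))

theorem isLocalRing_Q' (hd : ∀ i, 2 ≤ d i) (hc : ∀ i k, c i k ∈ maximalIdeal A) :
    IsLocalRing (Q d c) := by
  haveI := nontrivial_Q d c hd hc
  obtain ⟨M, hM⟩ := Ideal.exists_maximal (Q d c)
  refine IsLocalRing.of_unique_max_ideal ⟨M, hM, fun M' hM' => ?_⟩
  rw [eq_J_of_isMaximal d c hc M, eq_J_of_isMaximal d c hc M']

theorem maximalIdeal_Q' (hd : ∀ i, 2 ≤ d i) (hc : ∀ i k, c i k ∈ maximalIdeal A) :
    letI := isLocalRing_Q' d c hd hc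
    maximalIdeal (Q d c) = J d c := by
  letI := isLocalRing_Q' d c hd hc
  exact eq_J_of_isMaximal d c hc _

theorem surjective_of_isMaximal (hc : ∀ i k, c i k ∈ maximalIdeal A) (M : Ideal (Q d c))
    [hM : M.IsMaximal] :
    Function.Surjective ((Ideal.Quotient.mk M).comp (algebraMap A (Q d c))) := by
  intro y
  obtain ⟨z, rfl⟩ := Ideal.Quotient.mk_surjective y
  obtain ⟨a, ha⟩ := exists_sub_mem_J d c z
  refine ⟨a, ?_⟩
  rw [RingHom.comp_apply]
  symm
  rw [Ideal.Quotient.eq, eq_J_of_isMaximal d c hc M]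
  exact ha

end Local

/-- ring hom version of `liftQ`. -/
noncomputable def liftR {B : Type*} [CommRing B] (φ : A →+* B) (ρ : Fin r → B)
    (hρ : ∀ i, ρ i ^ d i + (Finset.range (d i)).sum (fun k => φ (c i k) * ρ i ^ k) = 0) :
    Q d c →+* B :=
  Ideal.Quotient.lift _ (MvPolynomial.eval₂Hom φ ρ) (by
    intro p hp
    have : Ideal.span (Set.range (F d c)) ≤ RingHom.ker (MvPolynomial.eval₂Hom φ ρ) := by
      rw [Ideal.span_le]
      rintro _ ⟨i, rfl⟩
      rw [SetLike.mem_coe, RingHom.mem_ker, ← hρ i]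
      simp [F]
    exact this hp)

theorem liftR_x {B : Type*} [CommRing B] (φ : A →+* B) (ρ : Fin r → B)
    (hρ : ∀ i, ρ i ^ d i + (Finset.range (d i)).sum (fun k => φ (c i k) * ρ i ^ k) = 0)
    (i : Fin r) : liftR d c φ ρ hρ (x d c i) = ρ i := by
  simp [liftR, x]

theorem liftR_algebraMap {B : Type*} [CommRing B] (φ : A →+* B) (ρ : Fin r → B)
    (hρ : ∀ i, ρ i ^ d i + (Finset.range (d i)).sum (fun k => φ (c i k) * ρ i ^ k) = 0)
    (a : A) : liftR d c φ ρ hρ (algebraMap A (Q d c) a) = φ a := by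
  change liftR d c φ ρ hρ (Ideal.Quotient.mk _ (MvPolynomial.C a)) = _
  simp [liftR]

section Local

variable [IsLocalRing A]

/-- the target `K ⊕ K^r` with square-zero `K^r`. -/
abbrev T (A : Type u) [CommRing A] [IsLocalRing A] (r : ℕ) :=
  TrivSqZeroExt (ResidueField A) (Fin r → ResidueField A)

/-- `δ : A' → K ⊕ K^r`, `T_i ↦ e_i`. -/
noncomputable def delta (hd : ∀ i, 2 ≤ d i) (hc : ∀ i k, c i k ∈ maximalIdeal A) :
    Q d c →+* T A r :=
  liftR d c ((TrivSqZeroExt.inlHom (ResidueField A) (Fin r → ResidueField A)).comp (residue A))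
    (fun i => TrivSqZeroExt.inr (Pi.single i 1)) (by
      intro i
      obtain ⟨e, he⟩ : ∃ e, d i = e + 2 := ⟨d i - 2, by have := hd i; omega⟩
      have h1 : (TrivSqZeroExt.inr (Pi.single i 1) : T A r) ^ d i = 0 := by
        rw [he, pow_add, pow_two, TrivSqZeroExt.inr_mul_inr, mul_zero]
      rw [h1, zero_add]
      refine Finset.sum_eq_zero fun k _ => ?_
      rw [RingHom.comp_apply, (residue_eq_zero_iff _).mpr (hc i k), map_zero, zero_mul])

theorem delta_x (hd : ∀ i, 2 ≤ d i) (hc : ∀ i k, c i k ∈ maximalIdeal A) (i : Fin r) :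
    delta d c hd hc (x d c i) = TrivSqZeroExt.inr (Pi.single i 1) :=
  liftR_x d c _ _ _ i

theorem delta_algebraMap (hd : ∀ i, 2 ≤ d i) (hc : ∀ i k, c i k ∈ maximalIdeal A) (a : A) :
    delta d c hd hc (algebraMap A (Q d c) a) = TrivSqZeroExt.inl (residue A a) :=
  liftR_algebraMap d c _ _ _ a

theorem fst_delta_of_mem_J (hd : ∀ i, 2 ≤ d i) (hc : ∀ i k, c i k ∈ maximalIdeal A)
    {z : Q d c} (hz : z ∈ J d c) : (delta d c hd hc z).fst = 0 := by
  have : J d c ≤ RingHom.ker ((TrivSqZeroExt.fstHom (ResidueField A) (ResidueField A)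
      (Fin r → ResidueField A)).toRingHom.comp (delta d c hd hc)) := by
    refine sup_le ?_ ?_
    · rw [Ideal.map_le_iff_le_comap]
      intro a ha
      rw [Ideal.mem_comap, RingHom.mem_ker, RingHom.comp_apply, delta_algebraMap]
      simpa using (residue_eq_zero_iff _).mpr ha
    · rw [Ideal.span_le]
      rintro _ ⟨i, rfl⟩
      rw [SetLike.mem_coe, RingHom.mem_ker, RingHom.comp_apply, delta_x]
      simp
  have h := this hz
  rw [RingHom.mem_ker, RingHom.comp_apply] at h
  simpa using h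

theorem delta_eq_zero_of_mem_J_sq (hd : ∀ i, 2 ≤ d i) (hc : ∀ i k, c i k ∈ maximalIdeal A)
    {z : Q d c} (hz : z ∈ J d c ^ 2) : delta d c hd hc z = 0 := by
  have : J d c ^ 2 ≤ RingHom.ker (delta d c hd hc) := by
    rw [pow_two, Ideal.mul_le]
    intro z hz w hw
    rw [RingHom.mem_ker, map_mul]
    have h1 := fst_delta_of_mem_J d c hd hc hz
    have h2 := fst_delta_of_mem_J d c hd hc hw
    ext
    · simp [h1]
    · simp [h1, h2]
  exact this hz

theorem mem_J_of_fst_delta (hd : ∀ i, 2 ≤ d i) (hc : ∀ i k, c i k ∈ maximalIdeal A)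
    {z : Q d c} (hz : (delta d c hd hc z).fst = 0) : z ∈ J d c := by
  obtain ⟨a, ha⟩ := exists_sub_mem_J d c z
  have h1 := fst_delta_of_mem_J d c hd hc ha
  rw [map_sub, TrivSqZeroExt.fst_sub, hz, delta_algebraMap, TrivSqZeroExt.fst_inl, zero_sub,
    neg_eq_zero, residue_eq_zero_iff] at h1
  have : z = (z - algebraMap A (Q d c) a) + algebraMap A (Q d c) a := by ring
  rw [this]
  exact add_mem ha (Ideal.mem_sup_left (Ideal.mem_map_of_mem _ h1))

theorem mem_J_of_sum_mem_J_sq (hd : ∀ i, 2 ≤ d i) (hc : ∀ i k, c i k ∈ maximalIdeal A)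
    (γ : Fin r → Q d c) (h : ∑ i, γ i * x d c i ∈ J d c ^ 2) (i : Fin r) : γ i ∈ J d c := by
  apply mem_J_of_fst_delta d c hd hc
  have h0 := delta_eq_zero_of_mem_J_sq d c hd hc h
  rw [map_sum] at h0
  have h1 : (∑ j, delta d c hd hc (γ j * x d c j)).snd = 0 := by rw [h0]; rfl
  rw [TrivSqZeroExt.snd_sum] at h1
  have h2 := congrFun h1 i
  simp only [map_mul, delta_x, TrivSqZeroExt.snd_mul, TrivSqZeroExt.snd_inr,
    TrivSqZeroExt.fst_inr, Finset.sum_apply, Pi.add_apply, Pi.smul_apply] at h2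
  simpa [Pi.single_apply] using h2

theorem x_mem_maximalIdeal (hd : ∀ i, 2 ≤ d i) (hc : ∀ i k, c i k ∈ maximalIdeal A) (i : Fin r) :
    letI := isLocalRing_Q' d c hd hc
    x d c i ∈ maximalIdeal (Q d c) := by
  letI := isLocalRing_Q' d c hd hc
  rw [maximalIdeal_Q' d c hd hc]
  exact Ideal.mem_sup_right (Ideal.subset_span ⟨i, rfl⟩)

theorem linearIndependent_x (hd : ∀ i, 2 ≤ d i) (hc : ∀ i k, c i k ∈ maximalIdeal A) :
    letI := isLocalRing_Q' d c hd hc
    LinearIndependent (ResidueField (Q d c)) (fun i =>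
      (maximalIdeal (Q d c)).toCotangent ⟨x d c i, x_mem_maximalIdeal d c hd hc i⟩) := by
  letI := isLocalRing_Q' d c hd hc
  rw [Fintype.linearIndependent_iff]
  intro g hg i
  have hsurj : Function.Surjective (residue (Q d c)) := Ideal.Quotient.mk_surjective
  choose γ hγ using fun i => hsurj (g i)
  have h1 : ∀ j, g j • (maximalIdeal (Q d c)).toCotangent
        ⟨x d c j, x_mem_maximalIdeal d c hd hc j⟩ =
      (maximalIdeal (Q d c)).toCotangent (γ j • ⟨x d c j, x_mem_maximalIdeal d c hd hc j⟩) := by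
    intro j
    rw [map_smul, ← hγ j]
    rfl
  simp_rw [h1] at hg
  rw [← map_sum, Ideal.toCotangent_eq_zero] at hg
  have h2 : ((∑ j, γ j • (⟨x d c j, x_mem_maximalIdeal d c hd hc j⟩ : maximalIdeal (Q d c)) :
      maximalIdeal (Q d c)) : Q d c) = ∑ j, γ j * x d c j := by
    rw [Submodule.coe_sum]
    rfl
  rw [h2, maximalIdeal_Q' d c hd hc] at hg
  have h3 := mem_J_of_sum_mem_J_sq d c hd hc γ hg i
  rw [← hγ i, residue_eq_zero_iff, maximalIdeal_Q' d c hd hc]
  exact h3

end Local

/-- the ideal `(T_1, …, T_r)` of `A'`. -/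
noncomputable def X : Ideal (Q d c) := Ideal.span (Set.range (x d c))

theorem exists_sub_mem_X (z : Q d c) : ∃ a : A, z - algebraMap A (Q d c) a ∈ X d c := by
  obtain ⟨p, rfl⟩ := Ideal.Quotient.mk_surjective z
  induction p using MvPolynomial.induction_on with
  | C a => exact ⟨a, by rw [show (Ideal.Quotient.mk _ (MvPolynomial.C a) : Q d c) =
      algebraMap A (Q d c) a from rfl, sub_self]; exact zero_mem _⟩
  | add p q hp hq =>
    obtain ⟨a, ha⟩ := hp
    obtain ⟨b, hb⟩ := hq
    refine ⟨a + b, ?_⟩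
    rw [map_add, map_add]
    have := add_mem ha hb
    convert this using 1
    ring
  | mul_X p i _ =>
    refine ⟨0, ?_⟩
    rw [map_zero, sub_zero, map_mul]
    exact Ideal.mul_mem_left _ _ (Ideal.subset_span ⟨i, rfl⟩)

theorem algebraMap_c0_mem_X (hd : ∀ i, 2 ≤ d i) (i : Fin r) :
    algebraMap A (Q d c) (c i 0) ∈ X d c := by
  have hx : x d c i ∈ X d c := Ideal.subset_span ⟨i, rfl⟩
  have hrel := rel d c i
  obtain ⟨e, he⟩ : ∃ e, d i = e + 1 := ⟨d i - 1, by have := hd i; omega⟩
  rw [he, Finset.sum_range_succ', pow_zero, mul_one] at hrel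
  have : algebraMap A (Q d c) (c i 0) =
      -(x d c i ^ (e + 1) + (Finset.range e).sum
        (fun k => algebraMap A (Q d c) (c i (k + 1)) * x d c i ^ (k + 1))) := by
    rw [eq_neg_iff_add_eq_zero, ← hrel]
    ring
  rw [this]
  refine neg_mem (add_mem ?_ (Ideal.sum_mem _ fun k _ => ?_))
  · rw [pow_succ]
    exact Ideal.mul_mem_left _ _ hx
  · rw [pow_succ, ← mul_assoc]
    exact Ideal.mul_mem_left _ _ hx

theorem ker_eps (hd : ∀ i, 2 ≤ d i) : RingHom.ker (eps d c hd) = X d c := by
  have hX : X d c ≤ RingHom.ker (eps d c hd) := by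
    rw [X, Ideal.span_le]
    rintro _ ⟨i, rfl⟩
    exact eps_x d c hd i
  refine le_antisymm ?_ hX
  intro z hz
  obtain ⟨a, ha⟩ := exists_sub_mem_X d c z
  have h1 := hX ha
  rw [RingHom.mem_ker] at hz h1
  rw [map_sub, hz, zero_sub, neg_eq_zero, eps_algebraMap, Ideal.Quotient.eq_zero_iff_mem] at h1
  have h2 : algebraMap A (Q d c) a ∈ X d c := by
    have : Cc c ≤ (X d c).comap (algebraMap A (Q d c)) := by
      rw [Cc, Ideal.span_le]
      rintro _ ⟨i, rfl⟩
      exact algebraMap_c0_mem_X d c hd i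
    exact this h1
  have : z = (z - algebraMap A (Q d c) a) + algebraMap A (Q d c) a := by ring
  rw [this]
  exact add_mem ha h2

theorem eps_surjective (hd : ∀ i, 2 ≤ d i) : Function.Surjective (eps d c hd) := by
  intro y
  obtain ⟨a, rfl⟩ := Ideal.Quotient.mk_surjective y
  exact ⟨algebraMap A (Q d c) a, eps_algebraMap d c hd a⟩

/-- `A'/(T_i) ≃ A/(c_{i0})`. -/
noncomputable def quotXEquiv (hd : ∀ i, 2 ≤ d i) : (Q d c ⧸ X d c) ≃+* (A ⧸ Cc c) :=
  (Ideal.quotEquivOfEq (ker_eps d c hd).symm).trans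
    (RingHom.quotientKerEquivOfSurjective (eps_surjective d c hd))

section Regular

open Groth.Agent.Lib.Helper5

variable [IsRegularLocalRing A]

theorem isRegularLocalRing_Q_iff (hd : ∀ i, 2 ≤ d i) (hc : ∀ i k, c i k ∈ maximalIdeal A) :
    IsRegularLocalRing (Q d c) ↔ LinearIndependent (ResidueField A)
      (fun i => (maximalIdeal A).toCotangent ⟨c i 0, hc i 0⟩) := by
  letI := isLocalRing_Q' d c hd hc
  haveI : IsDomain A := isDomain_of_isRegularLocalRing A
  -- `A` side
  let cc : Fin r → maximalIdeal A := fun i => ⟨c i 0, hc i 0⟩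
  have hCc : Cc c = Ideal.span (Set.range fun i => (cc i : A)) := rfl
  haveI : IsLocalRing (A ⧸ Cc c) := isLocalRing_quotient_span_range cc
  have hA := spanFinrank_maximalIdeal_quotient_add_finrank_cotV (Cc c)
  have hAs : cotV (Cc c) = Submodule.span (ResidueField A)
      (Set.range fun i => (maximalIdeal A).toCotangent (cc i)) := cotV_span_range cc
  rw [hAs] at hA
  -- `A'` side
  let xx : Fin r → maximalIdeal (Q d c) := fun i => ⟨x d c i, x_mem_maximalIdeal d c hd hc i⟩
  haveI : IsLocalRing (Q d c ⧸ X d c) := isLocalRing_quotient_span_range xx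
  have hQ := spanFinrank_maximalIdeal_quotient_add_finrank_cotV (X d c)
  have hr : Module.finrank (ResidueField (Q d c)) (cotV (X d c)) = r :=
    finrank_cotV_span_range_of_linearIndependent xx (linearIndependent_x d c hd hc)
  rw [hr] at hQ
  have he : (maximalIdeal (Q d c ⧸ X d c)).spanFinrank = (maximalIdeal (A ⧸ Cc c)).spanFinrank := by
    rw [← map_ringEquiv_maximalIdeal (R := Q d c ⧸ X d c) (S := A ⧸ Cc c) (quotXEquiv d c hd),
      Ideal.spanFinrank_map_eq_of_ringEquiv]
  have hdim := ringKrullDim_Q d c hd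
  have hAreg : ((maximalIdeal A).spanFinrank : WithBot ℕ∞) = ringKrullDim A :=
    IsRegularLocalRing.spanFinrank_maximalIdeal
  rw [isRegularLocalRing_iff, hdim, ← hAreg, Nat.cast_inj, linearIndependent_iff_card_eq_finrank_span,
    Fintype.card_fin]
  change _ ↔ r = Module.finrank (ResidueField A) (Submodule.span (ResidueField A)
      (Set.range fun i => (maximalIdeal A).toCotangent (cc i)))
  have key : Submodule.spanFinrank (maximalIdeal (Q d c)) + Module.finrank (ResidueField A)
      (Submodule.span (ResidueField A) (Set.range fun i => (maximalIdeal A).toCotangent (cc i))) =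
      Submodule.spanFinrank (maximalIdeal A) + r := by
    rw [← hQ, ← hA, he]
    ring
  constructor
  · intro h
    rw [h] at key
    exact (Nat.add_left_cancel key).symm
  · intro h
    rw [← h] at key
    exact Nat.add_right_cancel key

theorem isRegularRing_Q_iff (hd : ∀ i, 2 ≤ d i) (hc : ∀ i k, c i k ∈ maximalIdeal A) :
    IsRegularRing (Q d c) ↔ LinearIndependent (ResidueField A)
      (fun i => (maximalIdeal A).toCotangent ⟨c i 0, hc i 0⟩) := by
  rw [← isRegularLocalRing_Q_iff d c hd hc]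
  letI := isLocalRing_Q' d c hd hc
  constructor
  · intro h
    exact IsRegularLocalRing.of_isRegularRing_of_isLocalRing (Q d c)
  · intro h
    exact isRegularRing_iff.mpr fun p _ =>
      Groth.Agent.Lib.Helper28.isRegularLocalRing_localization_of_isRegularLocalRing (Q d c) p

theorem main_regular (hd : ∀ i, 2 ≤ d i) (hc : ∀ i k, c i k ∈ maximalIdeal A) :
    IsLocalRing (Q d c) ∧
    (∀ (M : Ideal (Q d c)) [M.IsMaximal],
      Function.Surjective ((Ideal.Quotient.mk M).comp (algebraMap A (Q d c)))) ∧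
    (IsRegularRing (Q d c) ↔ LinearIndependent (ResidueField A)
      (fun i => (maximalIdeal A).toCotangent ⟨c i 0, hc i 0⟩)) :=
  ⟨isLocalRing_Q' d c hd hc, fun M _ => surjective_of_isMaximal d c hc M,
    isRegularRing_Q_iff d c hd hc⟩

end Regular

end Groth.Agent.Lib.Helper14.MonicQuot
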