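/-
Helper14TSElem: symmetric tensors of a flat algebra are generated, as an algebra, by the elementary
symmetric tensors `sigma d a j = ∑_{|I| = j} (a at the places of I, 1 elsewhere)`
(`TS_eq_adjoin_sigma`).  Tools: `cnt` (colour counts of a tuple), `orb` (orbit sums over an arbitrary
finite label type), `sigma_mul_orb` (product formula), `orb_pit`, `lt_of_ne_pit`, `orb_mem`
(weight induction: every orbit sum lies in any subalgebra containing the `sigma`), `orb_option`,
`sigma_mem_TS`, `symB_eq_orb`, `exists_sum_symB` (flat: symmetric tensors are combinations of orbit sums).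
-/
import Mathlib
import Groth.Prelude.Def_SymTen
import Groth.Agent.Lib.Helper14TSGamma

set_option autoImplicit false
universe u
open TensorProduct

namespace Groth.Agent.Lib.Helper14.TSElem

section cnt
variable {d : ℕ}

/-- number of positions with colour `k` -/
def cnt {ι : Type*} [DecidableEq ι] (c : Fin d → ι) (k : ι) : ℕ :=
  (Finset.univ.filter (fun i => c i = k)).card

lemma sum_cnt {ι : Type*} [Fintype ι] [DecidableEq ι] (c : Fin d → ι) : ∑ k, cnt c k = d := by
  have := Finset.card_eq_sum_card_fiberwise (f := c) (s := Finset.univ) (t := Finset.univ)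
    (fun i _ => Finset.mem_univ _)
  simpa [cnt] using this.symm

lemma cnt_comp {ι ι' : Type*} [Fintype ι] [DecidableEq ι] [DecidableEq ι'] (e : ι → ι')
    (c : Fin d → ι) (k' : ι') :
    cnt (e ∘ c) k' = ∑ k ∈ Finset.univ.filter (fun k => e k = k'), cnt c k := by
  unfold cnt
  rw [← Finset.card_biUnion]
  · congr 1
    ext i
    simp
  · intro k _ k'' _ hne
    rw [Function.onFun, Finset.disjoint_left]
    intro i hi hi'
    simp only [Finset.mem_filter, Finset.mem_univ, true_and] at hi hi'
    exact hne (hi.symm.trans hi')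

lemma cnt_pos_of_eq {ι : Type*} [DecidableEq ι] (c : Fin d → ι) (i : Fin d) : 0 < cnt c (c i) := by
  unfold cnt
  exact Finset.card_pos.mpr ⟨i, by simp⟩

lemma cnt_eq_zero_iff {ι : Type*} [DecidableEq ι] (c : Fin d → ι) (k : ι) :
    cnt c k = 0 ↔ ∀ i, c i ≠ k := by
  unfold cnt
  rw [Finset.card_eq_zero, Finset.filter_eq_empty_iff]
  simp

end cnt


section orb
variable {A : Type u} [CommRing A] {B : Type u} [CommRing B] [Algebra A B] (d : ℕ)

/-- orbit sum of pure tensors with entries `b k`, `k` occurring `ν k` times -/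
noncomputable def orb {ι : Type} [Fintype ι] [DecidableEq ι] (b : ι → B) (ν : ι → ℕ) :
    ⨂[A] _ : Fin d, B :=
  ∑ c ∈ Finset.univ.filter (fun c : Fin d → ι => cnt c = ν),
    PiTensorProduct.tprod A (fun i => b (c i))

/-- elementary symmetric tensor -/
noncomputable def sigma (a : B) (j : ℕ) : ⨂[A] _ : Fin d, B :=
  ∑ I ∈ (Finset.univ : Finset (Fin d)).powersetCard j,
    PiTensorProduct.tprod A (fun i : Fin d => if i ∈ I then a else (1 : B))

/-- entries of the product -/
def bt {ι : Type} (a : B) (b : ι → B) : Bool × ι → B := fun p => (if p.1 then a else 1) * b p.2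

lemma cnt_snd {ι : Type} [Fintype ι] [DecidableEq ι] (C : Fin d → Bool × ι) (k : ι) :
    cnt (Prod.snd ∘ C) k = cnt C (false, k) + cnt C (true, k) := by
  rw [cnt_comp]
  have : Finset.univ.filter (fun p : Bool × ι => p.2 = k) = {(false, k), (true, k)} := by
    ext ⟨ε, k'⟩
    cases ε <;> simp
  rw [this, Finset.sum_pair (by simp)]

lemma cnt_fst {ι : Type} [Fintype ι] [DecidableEq ι] (C : Fin d → Bool × ι) :
    cnt (Prod.fst ∘ C) true = ∑ k, cnt C (true, k) := by
  rw [cnt_comp, Finset.sum_filter, Fintype.sum_prod_type]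
  simp

theorem sigma_mul_orb {ι : Type} [Fintype ι] [DecidableEq ι] (a : B) (j : ℕ) (b : ι → B)
    (ν : ι → ℕ) :
    sigma (A := A) d a j * orb d b ν =
      ∑ C ∈ Finset.univ.filter (fun C : Fin d → Bool × ι =>
          cnt (Prod.snd ∘ C) = ν ∧ cnt (Prod.fst ∘ C) true = j),
        PiTensorProduct.tprod A (fun i => bt a b (C i)) := by
  rw [sigma, orb, Finset.sum_mul_sum, ← Finset.sum_product']
  refine Finset.sum_bij' (fun p _ => fun i => (decide (i ∈ p.1), p.2 i))
    (fun C _ => (Finset.univ.filter (fun i => (C i).1 = true), Prod.snd ∘ C)) ?_ ?_ ?_ ?_ ?_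
  · rintro ⟨I, c⟩ hp
    rw [Finset.mem_product, Finset.mem_powersetCard, Finset.mem_filter] at hp
    rw [Finset.mem_filter]
    refine ⟨Finset.mem_univ _, ?_, ?_⟩
    · exact hp.2.2
    · rw [← hp.1.2]
      unfold cnt
      congr 1
      ext i
      simp
  · intro C hC
    rw [Finset.mem_filter] at hC
    rw [Finset.mem_product, Finset.mem_powersetCard, Finset.mem_filter]
    exact ⟨⟨Finset.subset_univ _, hC.2.2⟩, Finset.mem_univ _, hC.2.1⟩
  · rintro ⟨I, c⟩ _
    ext <;> simp
  · intro C _
    funext i
    ext <;> simp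
  · rintro ⟨I, c⟩ _
    rw [PiTensorProduct.tprod_mul_tprod]
    congr 1
    funext i
    simp [bt]


/-- the target type -/
def pit {ι : Type} [DecidableEq ι] (ν : ι → ℕ) (k0 k1 : ι) : Bool × ι → ℕ :=
  fun p => if p.1 then (if p.2 = k0 then ν k1 else 0) else (if p.2 = k1 then 0 else ν p.2)

theorem orb_pit {ι : Type} [Fintype ι] [DecidableEq ι] (b : ι → B) (ν : ι → ℕ) (k0 k1 : ι)
    (hk : k1 ≠ k0) (hk0 : b k0 = 1) :
    orb (A := A) d (bt (b k1) b) (pit ν k0 k1) = orb d b ν := by
  rw [orb, orb]
  refine Finset.sum_bij' (fun C _ => fun i => if (C i).1 then k1 else (C i).2)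
    (fun c _ => fun i => if c i = k1 then (true, k0) else (false, c i)) ?_ ?_ ?_ ?_ ?_
  · intro C hC
    rw [Finset.mem_filter] at hC ⊢
    refine ⟨Finset.mem_univ _, ?_⟩
    funext k
    have h1 : (fun i => if (C i).1 then k1 else (C i).2) =
        (fun p : Bool × ι => if p.1 then k1 else p.2) ∘ C := rfl
    rw [h1, cnt_comp, hC.2, Finset.sum_filter, Fintype.sum_prod_type]
    simp only [Fintype.sum_bool, pit]
    by_cases hkk : k = k1
    · subst hkk
      simp
    · simp [hkk, Ne.symm hkk]
  · intro c hc
    rw [Finset.mem_filter] at hc ⊢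
    refine ⟨Finset.mem_univ _, ?_⟩
    funext ⟨ε, k⟩
    have h1 : (fun i => if c i = k1 then (true, k0) else (false, c i)) =
        (fun k' : ι => if k' = k1 then (true, k0) else (false, k')) ∘ c := rfl
    rw [h1, cnt_comp, hc.2, Finset.sum_filter]
    cases ε
    · simp only [pit]
      rw [Finset.sum_eq_single k]
      · by_cases hkk : k = k1
        · simp [hkk]
        · simp [hkk]
      · intro k' _ hk'
        by_cases h : k' = k1
        · simp [h]
        · simp [h, hk']
      · intro h
        exact absurd (Finset.mem_univ _) h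
    · simp only [pit]
      rw [Finset.sum_eq_single k1]
      · by_cases hkk : k = k0
        · simp [hkk]
        · simp [hkk, Ne.symm hkk]
      · intro k' _ hk'
        simp [hk']
      · intro h
        exact absurd (Finset.mem_univ _) h
  · intro C hC
    rw [Finset.mem_filter] at hC
    funext i
    have hpos := cnt_pos_of_eq C i
    rw [hC.2] at hpos
    rcases hCi : C i with ⟨ε, k⟩
    rw [hCi] at hpos
    simp only [hCi]
    cases ε
    · simp only [pit] at hpos
      have hkk : k ≠ k1 := by
        rintro rfl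
        simp at hpos
      simp [hkk]
    · simp only [pit] at hpos
      have hkk : k = k0 := by
        by_contra h
        simp [h] at hpos
      simp [hkk]
  · intro c _
    funext i
    by_cases h : c i = k1 <;> simp [h]
  · intro C hC
    rw [Finset.mem_filter] at hC
    congr 1
    funext i
    have hpos := cnt_pos_of_eq C i
    rw [hC.2] at hpos
    rcases hCi : C i with ⟨ε, k⟩
    rw [hCi] at hpos
    simp only [hCi]
    cases ε
    · simp [bt]
    · simp only [pit] at hpos
      have hkk : k = k0 := by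
        by_contra h
        simp [h] at hpos
      simp [bt, hkk, hk0]


/-- non-target types have smaller weight -/
lemma lt_of_ne_pit {ι : Type} [Fintype ι] [DecidableEq ι] (ν : ι → ℕ) (k0 k1 : ι) (hk : k1 ≠ k0)
    (C : Fin d → Bool × ι)
    (hC1 : cnt (Prod.snd ∘ C) = Function.update (Function.update ν k1 0) k0 (ν k0 + ν k1))
    (hC2 : cnt (Prod.fst ∘ C) true = ν k1) (hne : cnt C ≠ pit ν k0 k1) :
    ν k0 + 1 ≤ cnt C (false, k0) := by
  by_contra hlt
  rw [not_le] at hlt
  apply hne
  have e1 : ∀ k, cnt C (false, k) + cnt C (true, k) =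
      Function.update (Function.update ν k1 0) k0 (ν k0 + ν k1) k := by
    intro k
    rw [← cnt_snd, hC1]
  have e2 : ∑ k, cnt C (true, k) = ν k1 := by rw [← cnt_fst, hC2]
  have e10 := e1 k0
  rw [Function.update_self] at e10
  have e3 : cnt C (true, k0) ≤ ν k1 := by
    rw [← e2]
    exact Finset.single_le_sum (f := fun k => cnt C (true, k)) (fun _ _ => Nat.zero_le _)
      (Finset.mem_univ k0)
  have e4 : cnt C (true, k0) = ν k1 := by omega
  have e5 : ∀ k, k ≠ k0 → cnt C (true, k) = 0 := by
    intro k hkk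
    have h := Finset.add_sum_erase Finset.univ (fun k => cnt C (true, k)) (Finset.mem_univ k0)
    rw [e2, e4] at h
    have h0 : ∑ x ∈ Finset.univ.erase k0, cnt C (true, x) = 0 := by omega
    exact (Finset.sum_eq_zero_iff.mp h0) k (Finset.mem_erase.mpr ⟨hkk, Finset.mem_univ _⟩)
  funext ⟨ε, k⟩
  cases ε
  · simp only [pit]
    by_cases hkk : k = k0
    · subst hkk
      simp only [Bool.false_eq_true, if_false, if_neg (Ne.symm hk)]
      omega
    · have := e1 k
      rw [e5 k hkk, add_zero, Function.update_of_ne hkk] at this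
      rw [this]
      by_cases hk1 : k = k1
      · subst hk1
        simp
      · simp [hk1]
  · simp only [pit]
    by_cases hkk : k = k0
    · subst hkk
      simp [e4]
    · simp [hkk, e5 k hkk]

theorem orb_mem (E : Subalgebra A (⨂[A] _ : Fin d, B))
    (hE : ∀ (a : B) (j : ℕ), sigma (A := A) d a j ∈ E) :
    ∀ (w : ℕ) (ι : Type) [Fintype ι] [DecidableEq ι] (b : ι → B) (k0 : ι), b k0 = 1 →
      ∀ ν : ι → ℕ, d ≤ ν k0 + w → orb (A := A) d b ν ∈ E := by
  intro w
  induction w with
  | zero =>
    intro ι _ _ b k0 hk0 ν hν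
    apply Subalgebra.sum_mem
    intro c hc
    have hc' : cnt c = ν := (Finset.mem_filter.mp hc).2
    have hall : ∀ i, c i = k0 := by
      intro i
      by_contra hne
      have hsum := sum_cnt c
      have h1 : cnt c k0 + cnt c (c i) ≤ d := by
        calc cnt c k0 + cnt c (c i) = ∑ k ∈ ({k0, c i} : Finset ι), cnt c k := by
              rw [Finset.sum_pair (Ne.symm hne)]
          _ ≤ ∑ k, cnt c k := Finset.sum_le_sum_of_subset (Finset.subset_univ _)
          _ = d := hsum
      have h2 := cnt_pos_of_eq c i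
      rw [hc'] at h1 h2
      omega
    have : (fun i => b (c i)) = fun _ => (1 : B) := funext (fun i => by rw [hall i, hk0])
    rw [this]
    have h1 : PiTensorProduct.tprod A (fun _ : Fin d => (1 : B)) = 1 :=
      (PiTensorProduct.one_def (R := A) (A := fun _ : Fin d => B)).symm
    rw [h1]
    exact E.one_mem
  | succ w ih =>
    intro ι _ _ b k0 hk0 ν hν
    by_cases hle : d ≤ ν k0 + w
    · exact ih ι b k0 hk0 ν hle
    by_cases hemp : (Finset.univ.filter (fun c : Fin d → ι => cnt c = ν)) = ∅
    · rw [orb, hemp, Finset.sum_empty]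
      exact E.zero_mem
    obtain ⟨c0, hc0⟩ := Finset.nonempty_iff_ne_empty.mpr hemp
    have hc0' : cnt c0 = ν := (Finset.mem_filter.mp hc0).2
    have hsum : ∑ k, ν k = d := hc0' ▸ sum_cnt c0
    have hex : ∃ k1, k1 ≠ k0 ∧ 0 < ν k1 := by
      by_contra hcon
      push Not at hcon
      have : ∑ k, ν k = ν k0 :=
        Finset.sum_eq_single k0 (fun k _ hk => Nat.le_zero.mp (hcon k hk))
          (fun h => absurd (Finset.mem_univ _) h)
      omega
    obtain ⟨k1, hk1, hpos⟩ := hex
    set νm : ι → ℕ := Function.update (Function.update ν k1 0) k0 (ν k0 + ν k1) with hνm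
    have hνm0 : νm k0 = ν k0 + ν k1 := Function.update_self ..
    have h1 : orb (A := A) d b νm ∈ E := ih ι b k0 hk0 νm (by rw [hνm0]; omega)
    have hP : sigma (A := A) d (b k1) (ν k1) * orb d b νm ∈ E := E.mul_mem (hE _ _) h1
    rw [sigma_mul_orb] at hP
    set 𝒮 := Finset.univ.filter (fun C : Fin d → Bool × ι =>
          cnt (Prod.snd ∘ C) = νm ∧ cnt (Prod.fst ∘ C) true = ν k1) with h𝒮
    set 𝒯 := Finset.univ.filter (fun C : Fin d → Bool × ι => cnt C = pit ν k0 k1) with h𝒯
    -- membership in `𝒮` depends only on `cnt`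
    have hdep : ∀ C C' : Fin d → Bool × ι, cnt C = cnt C' → C ∈ 𝒮 → C' ∈ 𝒮 := by
      intro C C' hCC hC
      rw [h𝒮, Finset.mem_filter] at hC ⊢
      refine ⟨Finset.mem_univ _, ?_, ?_⟩
      · rw [← hC.2.1]
        funext k
        rw [cnt_snd, cnt_snd, hCC]
      · rw [← hC.2.2, cnt_fst, cnt_fst, hCC]
    have h𝒯𝒮 : 𝒯 ⊆ 𝒮 := by
      intro C hC
      rw [h𝒯, Finset.mem_filter] at hC
      rw [h𝒮, Finset.mem_filter]
      refine ⟨Finset.mem_univ _, ?_, ?_⟩
      · funext k
        rw [cnt_snd, hC.2]
        simp only [pit]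
        by_cases hkk : k = k0
        · subst hkk
          simp [Ne.symm hk1, hνm]
        · by_cases hk1' : k = k1
          · subst hk1'
            simp [hkk, hνm]
          · simp [hkk, hk1', hνm]
      · rw [cnt_fst, hC.2]
        simp [pit]
    rw [← Finset.sum_sdiff h𝒯𝒮] at hP
    have htarget : ∑ C ∈ 𝒯, PiTensorProduct.tprod A (fun i => bt (b k1) b (C i)) =
        orb (A := A) d b ν := orb_pit d b ν k0 k1 hk1 hk0
    have hrest : ∑ C ∈ 𝒮 \ 𝒯, PiTensorProduct.tprod A (fun i => bt (b k1) b (C i)) ∈ E := by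
      rw [← Finset.sum_fiberwise_of_maps_to (g := cnt) (t := (𝒮 \ 𝒯).image cnt)
        (fun C hC => Finset.mem_image_of_mem _ hC)]
      apply Subalgebra.sum_mem
      intro π hπ
      obtain ⟨C1, hC1, rfl⟩ := Finset.mem_image.mp hπ
      have hC1' := Finset.mem_sdiff.mp hC1
      have hne : cnt C1 ≠ pit ν k0 k1 := fun h => hC1'.2 (by
        rw [h𝒯, Finset.mem_filter]
        exact ⟨Finset.mem_univ _, h⟩)
      have hfil : (𝒮 \ 𝒯).filter (fun C => cnt C = cnt C1) =
          Finset.univ.filter (fun C : Fin d → Bool × ι => cnt C = cnt C1) := by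
        ext C
        simp only [Finset.mem_filter, Finset.mem_sdiff, Finset.mem_univ, true_and]
        constructor
        · exact fun h => h.2
        · intro h
          refine ⟨⟨hdep C1 C h.symm hC1'.1, ?_⟩, h⟩
          rw [h𝒯, Finset.mem_filter]
          intro hh
          exact hne (h ▸ hh.2)
      rw [hfil]
      have hmem := hC1'.1
      rw [h𝒮, Finset.mem_filter] at hmem
      have hlt := lt_of_ne_pit d ν k0 k1 hk1 C1 hmem.2.1 hmem.2.2 hne
      exact ih (Bool × ι) (bt (b k1) b) (false, k0) (by simp [bt, hk0]) (cnt C1) (by omega)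
    have hfin := E.sub_mem hP hrest
    rw [add_sub_cancel_left, htarget] at hfin
    exact hfin


lemma orb_option {ι : Type} [Fintype ι] [DecidableEq ι] (b : ι → B) (ν : ι → ℕ) :
    orb (A := A) d (fun o : Option ι => o.elim 1 b) (fun o => o.elim 0 ν) = orb d b ν := by
  rw [orb, orb]
  symm
  refine Finset.sum_bij (fun c _ => fun i => some (c i)) ?_ ?_ ?_ ?_
  · intro c hc
    rw [Finset.mem_filter] at hc ⊢
    refine ⟨Finset.mem_univ _, ?_⟩
    funext o
    have : (fun i => some (c i)) = some ∘ c := rfl
    rw [this, cnt_comp, hc.2]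
    cases o with
    | none => simp
    | some k => simp [Finset.filter_eq']
  · intro c _ c' _ h
    funext i
    exact Option.some_injective _ (congrFun h i)
  · intro c' hc'
    rw [Finset.mem_filter] at hc'
    have hnone : ∀ i, c' i ≠ none := by
      have := congrFun hc'.2 none
      simp only [Option.elim] at this
      exact (cnt_eq_zero_iff c' none).mp this
    refine ⟨fun i => (c' i).get (Option.ne_none_iff_isSome.mp (hnone i)), ?_, ?_⟩
    · rw [Finset.mem_filter]
      refine ⟨Finset.mem_univ _, ?_⟩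
      funext k
      have := congrFun hc'.2 (some k)
      simp only [Option.elim] at this
      rw [← this]
      unfold cnt
      congr 1
      ext i
      simp only [Finset.mem_filter, Finset.mem_univ, true_and]
      constructor
      · intro h
        rw [← h, Option.some_get]
      · intro h
        simp [h]
    · funext i
      simp
  · intro c _
    rfl

lemma sigma_mem_TS (a : B) (j : ℕ) : sigma (A := A) d a j ∈ SymTen.TS A B d := by
  intro σ
  rw [sigma, map_sum]
  simp only [PiTensorProduct.reindex_tprod]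
  refine Finset.sum_bij' (fun I _ => I.map σ.toEmbedding) (fun I _ => I.map σ.symm.toEmbedding)
    ?_ ?_ ?_ ?_ ?_
  · intro I hI
    rw [Finset.mem_powersetCard] at hI ⊢
    exact ⟨Finset.subset_univ _, by rw [Finset.card_map, hI.2]⟩
  · intro I hI
    rw [Finset.mem_powersetCard] at hI ⊢
    exact ⟨Finset.subset_univ _, by rw [Finset.card_map, hI.2]⟩
  · intro I _
    ext i
    simp
  · intro I _
    ext i
    simp
  · intro I _
    congr 1
    funext i
    simp [Finset.mem_map_equiv]

open Groth.Agent.Lib.Helper14.TSFree in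
lemma symB_eq_orb {m : ℕ} (b : Fin m → B) (μ : Fin m →₀ ℕ) :
    TSGamma.symB (A := A) d b μ = orb d b (fun k => μ k) := by
  classical
  rw [TSGamma.symB, orb]
  refine Finset.sum_congr ?_ (fun _ _ => rfl)
  ext c
  simp only [Finset.mem_filter, Finset.mem_univ, true_and]
  constructor
  · intro h
    funext k
    rw [← h, type_apply]
    rfl
  · intro h
    ext k
    rw [type_apply]
    exact congrFun h k

open Groth.Agent.Lib.Helper14.TSFree Groth.Agent.Lib.Helper14.TSGamma
  Groth.Agent.Lib.Helper14.FlatStage in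
theorem exists_sum_symB [Module.Flat A B] (z : ⨂[A] _ : Fin d, B) (hz : z ∈ SymTen.TS A B d) :
    ∃ (m : ℕ) (b : Fin m → B) (coef : (Fin d → Fin m) → A),
      z = ∑ c, coef c • symB d b (type c) := by
  classical
  obtain ⟨m, u, z₀, hz0⟩ := FlatStage.exists_symm_rep_family_fin d ({()} : Finset Unit)
    (fun _ => z) (fun _ _ => hz)
  obtain ⟨hsym, hmap⟩ := hz0 () (Finset.mem_singleton_self _)
  set b : Fin m → B := fun k => u (Pi.single k (1 : A)) with hb
  have hu : ub b = u := ub_eq u
  refine ⟨m, b, fun c => if c = rep d m c then (bTb A d m).repr (z₀ ()) c else 0, ?_⟩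
  have hdec := symm_decomp A d m hsym
  rw [← hmap]
  conv_lhs => rw [hdec]
  rw [map_sum]
  refine Finset.sum_congr rfl (fun c _ => ?_)
  rw [map_smul, ← hu, Tmap_ub_symT]

/-- **Symmetric tensors of a flat algebra are generated by the elementary symmetric tensors.** -/
theorem TS_eq_adjoin_sigma [Module.Flat A B] :
    SymTen.TS A B d = Algebra.adjoin A {t : ⨂[A] _ : Fin d, B | ∃ (a : B) (j : ℕ),
      t = sigma (A := A) d a j} := by
  apply le_antisymm
  · intro z hz
    obtain ⟨m, b, coef, rfl⟩ := exists_sum_symB d z hz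
    apply Subalgebra.sum_mem
    intro c _
    apply Subalgebra.smul_mem
    rw [symB_eq_orb, ← orb_option]
    exact orb_mem d _ (fun a j => Algebra.subset_adjoin (by exact ⟨a, j, rfl⟩)) d
      (Option (Fin m)) _ none rfl _ (Nat.le_add_left _ _)
  · rw [Algebra.adjoin_le_iff]
    rintro _ ⟨a, j, rfl⟩
    exact sigma_mem_TS d a j

end orb

end Groth.Agent.Lib.Helper14.TSElem
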