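import Mathlib
import Groth.Prelude.Def_SymTen
import Groth.Agent.Lib.Helper14TSElem

/-!
# Counting tuples of a given type modulo a prime; the multiplication map on orbit sums (helper14)

`Ncnt d μ` is the number of tuples `c : Fin d → Fin m` of type `μ` (a multinomial coefficient).
* `prime_dvd_Ncnt`: if `q ^ e ∣ d` and some `μ k` is not divisible by `q ^ e`, then `q ∣ Ncnt d μ`.
* `mul_symB`: the multiplication `B^{⊗ d} → B` sends the orbit sum `symB d b μ` to
  `Ncnt d μ • ∏ b_k ^ μ_k`.
-/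

set_option autoImplicit false
set_option linter.unusedVariables false
set_option linter.unusedSectionVars false
set_option linter.style.haveILetI false
universe u
open TensorProduct

namespace Groth.Agent.Lib.Helper14.MultinomP

open Groth.Agent.Lib.Helper14.TSFree (type type_apply)

/-- the number of tuples of type `μ` -/
noncomputable def Ncnt (d : ℕ) {m : ℕ} (μ : Fin m →₀ ℕ) : ℕ :=
  (Finset.univ.filter (fun c : Fin d → Fin m => type c = μ)).card

section poly
variable {R : Type*} [CommSemiring R] {m : ℕ}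

lemma sum_X_pow (d : ℕ) :
    (∑ k : Fin m, (MvPolynomial.X k : MvPolynomial (Fin m) R)) ^ d =
      ∑ c : Fin d → Fin m, MvPolynomial.monomial (type c) 1 := by
  classical
  have h1 : (∑ k : Fin m, (MvPolynomial.X k : MvPolynomial (Fin m) R)) ^ d =
      ∏ i : Fin d, ∑ k : Fin m, (MvPolynomial.X k : MvPolynomial (Fin m) R) := by
    rw [Finset.prod_const, Finset.card_univ, Fintype.card_fin]
  rw [h1, Finset.prod_univ_sum, Fintype.piFinset_univ]
  refine Finset.sum_congr rfl (fun c _ => ?_)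
  rw [type, MvPolynomial.monomial_sum_one]
  rfl

lemma sum_X_pow_pow (n d : ℕ) :
    (∑ k : Fin m, (MvPolynomial.X k : MvPolynomial (Fin m) R) ^ n) ^ d =
      ∑ c : Fin d → Fin m, MvPolynomial.monomial (n • type c) 1 := by
  classical
  have h1 : (∑ k : Fin m, (MvPolynomial.X k : MvPolynomial (Fin m) R) ^ n) ^ d =
      ∏ i : Fin d, ∑ k : Fin m, (MvPolynomial.X k : MvPolynomial (Fin m) R) ^ n := by
    rw [Finset.prod_const, Finset.card_univ, Fintype.card_fin]
  rw [h1, Finset.prod_univ_sum, Fintype.piFinset_univ]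
  refine Finset.sum_congr rfl (fun c _ => ?_)
  rw [type, Finset.smul_sum, MvPolynomial.monomial_sum_one]
  refine Finset.prod_congr rfl (fun i _ => ?_)
  rw [MvPolynomial.X_pow_eq_monomial, Finsupp.smul_single, smul_eq_mul, mul_one]

lemma coeff_sum_X_pow (d : ℕ) (μ : Fin m →₀ ℕ) :
    MvPolynomial.coeff μ ((∑ k : Fin m, (MvPolynomial.X k : MvPolynomial (Fin m) R)) ^ d) =
      (Ncnt d μ : R) := by
  classical
  rw [sum_X_pow, MvPolynomial.coeff_sum]
  simp only [MvPolynomial.coeff_monomial]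
  rw [Finset.sum_boole, Ncnt]

end poly

theorem prime_dvd_Ncnt (q : ℕ) [hq : Fact q.Prime] (e d : ℕ) (hd : q ^ e ∣ d) {m : ℕ}
    (μ : Fin m →₀ ℕ) (hμ : ¬ ∀ k, q ^ e ∣ μ k) : q ∣ Ncnt d μ := by
  classical
  obtain ⟨d', rfl⟩ := hd
  rw [← ZMod.natCast_eq_zero_iff, ← coeff_sum_X_pow (R := ZMod q) (q ^ e * d') μ, pow_mul,
    sum_pow_char_pow, sum_X_pow_pow, MvPolynomial.coeff_sum]
  refine Finset.sum_eq_zero (fun c _ => ?_)
  rw [MvPolynomial.coeff_monomial, if_neg]
  intro h
  apply hμ
  intro k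
  rw [← h]
  exact ⟨type c k, by simp⟩

section mul
variable {A : Type u} [CommRing A] {B : Type u} [CommRing B] [Algebra A B] (d : ℕ) {m : ℕ}

lemma prod_comp_eq (b : Fin m → B) (c : Fin d → Fin m) :
    ∏ i, b (c i) = ∏ k, b k ^ (type c k) := by
  classical
  rw [← Finset.prod_fiberwise_of_maps_to (s := Finset.univ) (t := Finset.univ) (g := c)
    (fun _ _ => Finset.mem_univ _)]
  refine Finset.prod_congr rfl (fun k _ => ?_)
  rw [type_apply, ← Finset.prod_const]
  refine Finset.prod_congr rfl (fun i hi => ?_)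
  rw [(Finset.mem_filter.mp hi).2]

theorem mul_symB (b : Fin m → B) (μ : Fin m →₀ ℕ) :
    PiTensorProduct.lift (MultilinearMap.mkPiAlgebra A (Fin d) B)
      (Groth.Agent.Lib.Helper14.TSGamma.symB (A := A) d b μ) =
      Ncnt d μ • ∏ k, b k ^ (μ k) := by
  classical
  rw [Groth.Agent.Lib.Helper14.TSGamma.symB, map_sum, Ncnt, ← Finset.sum_const]
  refine Finset.sum_congr rfl (fun c hc => ?_)
  rw [PiTensorProduct.lift.tprod, MultilinearMap.mkPiAlgebra_apply, prod_comp_eq,
    (Finset.mem_filter.mp hc).2]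

end mul

end Groth.Agent.Lib.Helper14.MultinomP
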