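import Mathlib
import Groth.Agent.Lib.Helper14MultinomP

/-!
# Multinomial monomials in a finite purely inseparable extension land in the base field (helper14)

For `φ : k → K` a finite purely inseparable field extension of degree dividing `d`, the element
`Ncnt d μ • ∏ β_j ^ μ_j` of `K` lies in the image of `k`.
-/

set_option autoImplicit false
set_option linter.unusedVariables false
set_option linter.unusedSectionVars false
set_option linter.style.haveILetI false

namespace Groth.Agent.Lib.Helper14.MultinomP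

open Polynomial

lemma charP_of_expChar_ne_one (R : Type*) [AddMonoidWithOne R] (q : ℕ) [h : ExpChar R q]
    (hq : q ≠ 1) : CharP R q := by
  cases h with
  | zero => exact absurd rfl hq
  | prime hp => assumption

theorem pow_finrank_mem {k K : Type*} [Field k] [Field K] [Algebra k K] (q : ℕ) [ExpChar k q]
    [IsPurelyInseparable k K] [FiniteDimensional k K] (e : ℕ) (he : Module.finrank k K = q ^ e)
    (x : K) : x ^ q ^ e ∈ (algebraMap k K).range := by
  obtain ⟨n, y, hxy⟩ := IsPurelyInseparable.minpoly_eq_X_pow_sub_C k q x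
  have hint : IsIntegral k x := Algebra.IsIntegral.isIntegral x
  have hdvd := minpoly.degree_dvd hint
  rw [hxy, natDegree_sub_C, natDegree_X_pow, he] at hdvd
  have hx : x ^ q ^ n = algebraMap k K y := by
    have := minpoly.aeval k x
    rw [hxy] at this
    simpa [sub_eq_zero] using this
  rcases expChar_is_prime_or_one k q with hprime | h1
  · have hne : n ≤ e := (Nat.pow_dvd_pow_iff_le_right hprime.one_lt).mp hdvd
    obtain ⟨j, rfl⟩ := Nat.exists_eq_add_of_le hne
    rw [pow_add, pow_mul, hx, ← map_pow]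
    exact ⟨_, rfl⟩
  · subst h1
    rw [one_pow, pow_one] at hx ⊢
    exact ⟨y, hx.symm⟩

theorem field_mem_range {k K : Type*} [Field k] [Field K] (φ : k →+* K)
    (hpi : ∀ x : K, ∃ n : ℕ, x ^ (ringExpChar k) ^ n ∈ Set.range φ)
    (d : ℕ) (hd : 0 < d) (hdeg : @Module.finrank k K _ _ φ.toAlgebra.toModule ∣ d)
    {m : ℕ} (β : Fin m → K) (μ : Fin m →₀ ℕ) :
    Ncnt d μ • ∏ j, β j ^ μ j ∈ Set.range φ := by
  classical
  letI : Algebra k K := φ.toAlgebra
  have hφ : algebraMap k K = φ := rfl
  set q := ringExpChar k with hq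
  haveI : ExpChar k q := ringExpChar.expChar k
  haveI hPI : IsPurelyInseparable k K :=
    (isPurelyInseparable_iff_pow_mem k q).mpr (fun x => by
      obtain ⟨n, hn⟩ := hpi x
      exact ⟨n, hn⟩)
  have hfin : Module.finrank k K ≠ 0 := by
    intro h
    rw [h] at hdeg
    exact hd.ne' (Nat.eq_zero_of_zero_dvd hdeg)
  haveI : FiniteDimensional k K := Module.finite_of_finrank_pos (Nat.pos_of_ne_zero hfin)
  obtain ⟨e, he⟩ := IsPurelyInseparable.finrank_eq_pow k K q
  have hpow : ∀ x : K, x ^ q ^ e ∈ φ.range := fun x => pow_finrank_mem q e he x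
  show Ncnt d μ • ∏ j, β j ^ μ j ∈ φ.range
  by_cases hall : ∀ j, q ^ e ∣ μ j
  · apply nsmul_mem
    apply Subring.prod_mem
    intro j _
    obtain ⟨ν, hν⟩ := hall j
    rw [hν, pow_mul]
    exact Subring.pow_mem _ (hpow (β j)) ν
  · have hq1 : q ≠ 1 := fun h => hall (fun j => by rw [h, one_pow]; exact one_dvd _)
    have hprime : q.Prime := (expChar_is_prime_or_one k q).resolve_right hq1
    haveI : Fact q.Prime := ⟨hprime⟩
    have hdvd : q ∣ Ncnt d μ := prime_dvd_Ncnt q e d (he ▸ hdeg) μ hall
    haveI : CharP k q := charP_of_expChar_ne_one k q hq1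
    haveI : CharP K q := charP_of_injective_algebraMap (algebraMap k K).injective q
    obtain ⟨t, ht⟩ := hdvd
    have h0 : Ncnt d μ • ∏ j, β j ^ μ j = 0 := by
      rw [ht, nsmul_eq_mul, Nat.cast_mul, CharP.cast_eq_zero, zero_mul, zero_mul]
    rw [h0]
    exact zero_mem _

end Groth.Agent.Lib.Helper14.MultinomP
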