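import Mathlib

/-!
# Newton's lemma in adically complete rings (non-monic, non-unit derivative)

`exists_root_of_eval_eq_sq_mul`: if `A` is `I`-adically complete, `F(a) = F'(a)^2 * s` with
`s ∈ I^c`, `c ≥ 1`, then `F` has a root `b` with `b - a ∈ I^c`.
-/

set_option autoImplicit false

open Polynomial

namespace Groth.Agent.Lib.Helper14.Newton

variable {A : Type*} [CommRing A] (I : Ideal A)

theorem exists_root_of_eval_eq_sq_mul [IsAdicComplete I A] (F : A[X]) (a : A) (c : ℕ)
    (hc : 1 ≤ c) (s : A) (hs : s ∈ I ^ c)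
    (hF : F.eval a = (F.derivative.eval a) ^ 2 * s) :
    ∃ b : A, F.eval b = 0 ∧ b - a ∈ I ^ c := by
  classical
  set d := F.derivative.eval a with hd
  let P : ℕ → A → Prop := fun j b =>
    b - a ∈ Ideal.span {d} * I ^ c ∧ F.eval b ∈ Ideal.span {d ^ 2} * I ^ (c + j)
  have hIc : I ^ c ≤ I := Ideal.pow_le_self (by omega)
  have hjac : I ≤ (⊥ : Ideal A).jacobson := IsAdicComplete.le_jacobson_bot I
  have hstep : ∀ (j : ℕ) (b : {b // P j b}),
      ∃ b' : {b // P (j + 1) b}, (b' : A) - (b : A) ∈ I ^ (c + j) := by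
    rintro j ⟨b, hb1, hb2⟩
    obtain ⟨z, hz, hzb⟩ := Ideal.mem_span_singleton_mul.mp hb1
    obtain ⟨w, hw, hwF⟩ := Ideal.mem_span_singleton_mul.mp hb2
    obtain ⟨v, hv⟩ := Polynomial.sub_dvd_eval_sub b a F.derivative
    have hzv : z * v ∈ (⊥ : Ideal A).jacobson := hjac (Ideal.mul_mem_right _ _ (hIc hz))
    have hunit : IsUnit (1 + z * v) := by
      have := Ideal.mem_jacobson_bot.mp hzv 1
      rwa [mul_one, add_comm] at this
    obtain ⟨u, hu⟩ := hunit
    have hFb : F.derivative.eval b = d * (u : A) := by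
      have : F.derivative.eval b = d + (b - a) * v := by rw [← hv]; ring
      rw [this, ← hzb, hu]
      ring
    set δ : A := -(d * w * ((u⁻¹ : Aˣ) : A)) with hδ
    obtain ⟨k, hk⟩ := Polynomial.binomExpansion F b δ
    have hw' : w ∈ I ^ c := Ideal.pow_le_pow_right (Nat.le_add_right c j) hw
    have huu : (u : A) * ((u⁻¹ : Aˣ) : A) = 1 := Units.mul_inv u
    have hnew : F.eval (b + δ) = d ^ 2 * (k * (w * w) * (((u⁻¹ : Aˣ) : A) * ((u⁻¹ : Aˣ) : A))) := by
      rw [hk, hFb, ← hwF, hδ]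
      have : d * (u : A) * -(d * w * ((u⁻¹ : Aˣ) : A)) = -(d ^ 2 * w * ((u : A) * ((u⁻¹ : Aˣ) : A))) := by
        ring
      rw [this, huu]
      ring
    refine ⟨⟨b + δ, ?_, ?_⟩, ?_⟩
    · have h1 : b + δ - a = d * (z - w * ((u⁻¹ : Aˣ) : A)) := by
        rw [mul_sub, hzb, hδ]
        ring
      rw [h1]
      exact Ideal.mem_span_singleton_mul.mpr ⟨_, Ideal.sub_mem _ hz (Ideal.mul_mem_right _ _ hw'),
        rfl⟩
    · rw [hnew]
      refine Ideal.mem_span_singleton_mul.mpr ⟨_, ?_, rfl⟩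
      apply Ideal.mul_mem_right
      apply Ideal.mul_mem_left
      have h2 : w * w ∈ I ^ (c + j) * I ^ (c + j) := Ideal.mul_mem_mul hw hw
      rw [← pow_add] at h2
      exact Ideal.pow_le_pow_right (by omega) h2
    · change b + δ - b ∈ I ^ (c + j)
      have h3 : b + δ - b = -(d * w * ((u⁻¹ : Aˣ) : A)) := by rw [hδ]; ring
      rw [h3]
      apply Ideal.neg_mem_iff _ |>.mpr
      rw [mul_comm d w, mul_assoc]
      exact Ideal.mul_mem_right _ _ hw
  have hbase : P 0 a := by
    refine ⟨by rw [sub_self]; exact Ideal.zero_mem _, ?_⟩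
    rw [hF, add_zero]
    exact Ideal.mem_span_singleton_mul.mpr ⟨s, hs, rfl⟩
  choose nxt hnxt using hstep
  let seq : (j : ℕ) → {b // P j b} := fun j => Nat.rec ⟨a, hbase⟩ (fun j b => nxt j b) j
  have hseq : ∀ j, (seq (j + 1)).1 - (seq j).1 ∈ I ^ (c + j) :=
    fun j => hnxt j (seq j)
  have hcauchy : ∀ {m n : ℕ}, m ≤ n →
      (seq m).1 ≡ (seq n).1 [SMOD (I ^ m • ⊤ : Submodule A A)] := by
    intro m n hmn
    induction n, hmn using Nat.le_induction with
    | base => rfl
    | succ n hmn ih =>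
      refine ih.trans ?_
      rw [SModEq.sub_mem, smul_eq_mul, Ideal.mul_top]
      have h1 := hseq n
      have h2 : (seq n).1 - (seq (n + 1)).1 ∈ I ^ (c + n) := by
        rw [← neg_sub]
        exact Ideal.neg_mem_iff _ |>.mpr h1
      exact Ideal.pow_le_pow_right (by omega) h2
  obtain ⟨L, hL⟩ := IsPrecomplete.prec (inferInstance : IsPrecomplete I A) hcauchy
  have hL' : ∀ n, L - (seq n).1 ∈ I ^ n := by
    intro n
    have := (hL n).symm
    rwa [SModEq.sub_mem, smul_eq_mul, Ideal.mul_top] at this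
  refine ⟨L, ?_, ?_⟩
  · apply IsHausdorff.haus (inferInstance : IsHausdorff I A)
    intro n
    rw [SModEq.zero, smul_eq_mul, Ideal.mul_top]
    have h1 : F.eval L = (F.eval L - F.eval (seq n).1) + F.eval (seq n).1 := by ring
    rw [h1]
    refine Ideal.add_mem _ ?_ ?_
    · obtain ⟨v, hv⟩ := Polynomial.sub_dvd_eval_sub L (seq n).1 F
      rw [hv]
      exact Ideal.mul_mem_right _ _ (hL' n)
    · have h2 := (seq n).2.2
      have h3 : Ideal.span {d ^ 2} * I ^ (c + n) ≤ I ^ n :=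
        Ideal.mul_le_right.trans (Ideal.pow_le_pow_right (by omega))
      exact h3 h2
  · have h1 : L - a = (L - (seq c).1) + ((seq c).1 - a) := by ring
    rw [h1]
    refine Ideal.add_mem _ (hL' c) ?_
    have h2 := (seq c).2.1
    exact Ideal.mul_le_right h2

end Groth.Agent.Lib.Helper14.Newton
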