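import Mathlib

set_option autoImplicit false
universe u v

namespace Groth.Agent.Lib.Helper14.NilProj

open Matrix

variable {R : Type*} [CommRing R]

/-- Entries of powers of a matrix with entries in an ideal. -/
theorem pow_apply_mem {r : ℕ} (J : Ideal R) (N : Matrix (Fin r) (Fin r) R)
    (hN : ∀ i j, N i j ∈ J) : ∀ k i j, (N ^ (k + 1)) i j ∈ J ^ (k + 1) := by
  intro k
  induction k with
  | zero =>
    intro i j
    simpa using hN i j
  | succ k ih =>
    intro i j
    rw [pow_succ N (k + 1), Matrix.mul_apply, pow_succ J (k + 1)]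
    exact Ideal.sum_mem _ fun l _ => Ideal.mul_mem_mul (ih i l) (hN l j)

/-- A matrix with entries in a nil ideal is nilpotent. -/
theorem isNilpotent_of_forall_mem {r : ℕ} (J : Ideal R) (hJ : ∀ x ∈ J, IsNilpotent x)
    (N : Matrix (Fin r) (Fin r) R) (hN : ∀ i j, N i j ∈ J) : IsNilpotent N := by
  let J0 : Ideal R := Ideal.span (Set.range (fun p : Fin r × Fin r => N p.1 p.2))
  have hfg : J0.FG := Submodule.fg_span (Set.finite_range _)
  have hle : J0 ≤ J := Ideal.span_le.mpr (by rintro _ ⟨p, rfl⟩; exact hN p.1 p.2)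
  have hnil : IsNilpotent J0 := by
    rw [Ideal.FG.isNilpotent_iff_le_nilradical hfg]
    intro x hx
    exact mem_nilradical.mpr (hJ x (hle hx))
  obtain ⟨k, hk⟩ := hnil
  refine ⟨k + 1, ?_⟩
  ext i j
  have h1 := pow_apply_mem J0 N (fun i j => Ideal.subset_span ⟨(i, j), rfl⟩) k i j
  rw [pow_succ, hk, Ideal.zero_eq_bot, Ideal.bot_mul] at h1
  simpa using h1

/-- The componentwise semilinear map. -/
def mapPi {R' : Type*} [CommRing R'] (φ : R →+* R') (r : ℕ) : (Fin r → R) →ₛₗ[φ] (Fin r → R') where
  toFun v i := φ (v i)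
  map_add' v w := by ext i; simp
  map_smul' a v := by ext i; simp

@[simp] theorem mapPi_apply {R' : Type*} [CommRing R'] (φ : R →+* R') (r : ℕ) (v : Fin r → R) (i : Fin r) :
    mapPi φ r v i = φ (v i) := rfl

/-- A finite flat module which is projective modulo a nil ideal is projective (semilinear form). -/
theorem projective_of_flat_of_nil
    {R' : Type*} [CommRing R'] (φ : R →+* R') (hφ : Function.Surjective φ)
    (hnil : ∀ x, φ x = 0 → IsNilpotent x)
    {M M' : Type*} [AddCommGroup M] [Module R M] [AddCommGroup M'] [Module R' M']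
    [Module.Finite R M] [Module.Flat R M] [Module.Finite R' M'] [Module.Projective R' M']
    (u : M →ₛₗ[φ] M') (hu : Function.Surjective u)
    (hker : LinearMap.ker u = RingHom.ker φ • (⊤ : Submodule R M)) : Module.Projective R M := by
  classical
  obtain ⟨r, fb, gb, hfb, -, hfg⟩ := Module.Finite.exists_comp_eq_id_of_projective R' M'
  have hJ : ∀ x ∈ RingHom.ker φ, IsNilpotent x := fun x hx => hnil x hx
  -- the idempotent matrix downstairs
  let Eb : Matrix (Fin r) (Fin r) R' := LinearMap.toMatrix' (gb ∘ₗ fb)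
  have hEb : IsIdempotentElem Eb := by
    change Eb * Eb = Eb
    rw [← LinearMap.toMatrix'_comp]
    congr 1
    rw [LinearMap.comp_assoc, ← LinearMap.comp_assoc fb, hfg, LinearMap.id_comp]
  have hrange : Eb ∈ (RingHom.mapMatrix (m := Fin r) φ).range := by
    choose c hc using fun i j => hφ (Eb i j)
    exact ⟨Matrix.of c, by ext i j; simp [hc]⟩
  have hkernil : ∀ N ∈ RingHom.ker (RingHom.mapMatrix (m := Fin r) φ), IsNilpotent N := by
    intro N hN
    apply isNilpotent_of_forall_mem (RingHom.ker φ) hJ
    intro i j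
    have := congrFun (congrFun (show N.map φ = 0 from hN) i) j
    simpa using this
  obtain ⟨E, hE, hEEb⟩ := exists_isIdempotentElem_eq_of_ker_isNilpotent
    (RingHom.mapMatrix (m := Fin r) φ) hkernil Eb hrange hEb
  let e : (Fin r → R) →ₗ[R] (Fin r → R) := Matrix.toLin' E
  have hee : ∀ v, e (e v) = e v := by
    intro v
    change Matrix.toLin' E (Matrix.toLin' E v) = Matrix.toLin' E v
    rw [← LinearMap.comp_apply, ← Matrix.toLin'_mul, hE.eq]
  have hmape : ∀ v, mapPi φ r (e v) = gb (fb (mapPi φ r v)) := by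
    intro v
    have h1 : gb (fb (mapPi φ r v)) = Eb *ᵥ (mapPi φ r v) := by
      rw [← LinearMap.comp_apply, ← Matrix.toLin'_apply, Matrix.toLin'_toMatrix']
    rw [h1]
    ext i
    rw [mapPi_apply]
    have hev : e v = E *ᵥ v := Matrix.toLin'_apply E v
    rw [hev, RingHom.map_mulVec]
    have hE' : E.map φ = Eb := hEEb
    rw [hE']
    rfl
  -- the map p
  choose m hm using fun j : Fin r => hu (fb (Pi.single j 1))
  let p : (Fin r → R) →ₗ[R] M := Fintype.linearCombination R m
  have hup : ∀ v, u (p v) = fb (mapPi φ r v) := by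
    intro v
    rw [Fintype.linearCombination_apply, map_sum, LinearMap.pi_apply_eq_sum_univ fb]
    apply Finset.sum_congr rfl
    intro j _
    rw [map_smulₛₗ, hm, mapPi_apply]
    have hsing : (Pi.single j (1 : R') : Fin r → R') = fun k => if j = k then 1 else 0 := by
      funext k
      simp [Pi.single_apply, eq_comm]
    rw [hsing]
  let φM : (Fin r → R) →ₗ[R] M := p ∘ₗ e
  have hmapsurj : Function.Surjective (mapPi φ r) := by
    intro w
    choose v hv using fun i => hφ (w i)
    exact ⟨v, funext hv⟩
  have hsurj : Function.Surjective φM := by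
    rw [← LinearMap.range_eq_top, eq_top_iff]
    apply Submodule.le_of_le_smul_of_le_jacobson_bot (I := RingHom.ker φ) Module.Finite.fg_top
    · intro x hx
      have : x ∈ nilradical R := mem_nilradical.mpr (hJ x hx)
      exact (Ideal.radical_le_jacobson (I := ⊥)) (by rwa [nilradical] at this)
    · intro x _
      obtain ⟨w, hw⟩ := hfb (u x)
      obtain ⟨v, rfl⟩ := hmapsurj w
      have h1 : u (φM v) = u x := by
        change u (p (e v)) = u x
        rw [hup, hmape, ← LinearMap.comp_apply fb gb, hfg, LinearMap.id_apply, hw]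
      have h2 : x - φM v ∈ LinearMap.ker u := by
        rw [LinearMap.mem_ker, map_sub, h1, sub_self]
      rw [hker] at h2
      have : x = φM v + (x - φM v) := by abel
      rw [this]
      exact Submodule.add_mem_sup ⟨v, rfl⟩ h2
  -- key claim
  have hK : ∀ w, e w = w → p w = 0 → ∀ i, φ (w i) = 0 := by
    intro w hw hpw i
    have h1 : mapPi φ r w = 0 := by
      rw [← hw, hmape, ← hup, hpw, map_zero, map_zero]
    exact congrFun h1 i
  have hle : LinearMap.ker φM ≤ LinearMap.ker e := by
    intro x hx
    rw [LinearMap.mem_ker] at hx ⊢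
    set y := e x with hy
    have hey : e y = y := hee x
    have hφy : φM y = 0 := by
      change p (e y) = 0
      rw [hey]
      exact hx
    obtain ⟨k, a, g', hfac, hay⟩ := Module.Flat.exists_factorization_of_apply_eq_zero_of_free hφy
    obtain ⟨gt, hgt⟩ := Module.projective_lifting_property φM g' hsurj
    let θ' : (Fin r → R) →ₗ[R] (Fin r → R) := LinearMap.id - gt ∘ₗ a
    let θ : (Fin r → R) →ₗ[R] (Fin r → R) := e ∘ₗ θ'
    have hθ1 : ∀ z, e (θ z) = θ z := fun z => hee _
    have hθ2 : ∀ z, p (θ z) = 0 := by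
      intro z
      change φM (θ' z) = 0
      change φM (z - gt (a z)) = 0
      rw [map_sub, ← LinearMap.comp_apply φM gt, hgt, hfac, LinearMap.comp_apply, sub_self]
    have hθy : θ y = y := by
      change e (y - gt (a y)) = y
      rw [hay, map_zero, sub_zero, hey]
    have hNnil : IsNilpotent (LinearMap.toMatrix' θ) := by
      apply isNilpotent_of_forall_mem (RingHom.ker φ) hJ
      intro i j
      rw [LinearMap.toMatrix'_apply]
      exact hK _ (hθ1 _) (hθ2 _) i
    have hθnil : IsNilpotent θ := by
      obtain ⟨k, hk⟩ := hNnil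
      refine ⟨k, ?_⟩
      have h := map_pow (LinearMap.toMatrixAlgEquiv' (R := R) (n := Fin r)) θ k
      apply (LinearMap.toMatrixAlgEquiv' (R := R) (n := Fin r)).injective
      rw [h, map_zero]
      exact hk
    obtain ⟨k, hk⟩ := hθnil
    have hiter : ∀ k, (θ ^ k) y = y := by
      intro k
      induction k with
      | zero => simp
      | succ k ih => rw [pow_succ, Module.End.mul_apply, hθy, ih]
    rw [← hiter k, hk, LinearMap.zero_apply]
  -- the section
  let eqv := φM.quotKerEquivOfSurjective hsurj
  let s : M →ₗ[R] (Fin r → R) := (Submodule.liftQ (LinearMap.ker φM) e hle) ∘ₗ eqv.symm.toLinearMap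
  refine Module.Projective.of_split s φM ?_
  ext mm
  obtain ⟨q, rfl⟩ := eqv.surjective mm
  obtain ⟨x, rfl⟩ := Submodule.mkQ_surjective _ q
  change φM (Submodule.liftQ (LinearMap.ker φM) e hle (eqv.symm (eqv (Submodule.mkQ _ x)))) = _
  rw [LinearEquiv.symm_apply_apply, Submodule.mkQ_apply, Submodule.liftQ_apply]
  change p (e (e x)) = eqv (Submodule.Quotient.mk x)
  rw [hee]
  rfl

end Groth.Agent.Lib.Helper14.NilProj
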