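import Mathlib
import Groth.Prelude.Def_PolLaw
import Groth.Prelude.Def_PolLaw2
import Groth.Prelude.Def_W4c5normfunctorschNorm
import Groth.Agent.Lib.Helper14GammaModGen

/-!
# The algebra map attached to the norm commutes with base change (helper14)

* `bcAlong_tmul`; `Phi j : P₀ ⊗[R] R' → P ⊗[Q] Q'`, `Phi_mul`, `b'` (basis of the pushout), `norm_Phi`
  (the norm of a finite free algebra commutes with base change along a pushout square).
* `main`: S17914.
-/

set_option autoImplicit false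
universe u
open TensorProduct

namespace Groth.Agent.Lib.Helper14.NormBC

section bc
variable {R : Type u} [CommRing R] {Q : Type u} [CommRing Q] [Algebra R Q]
  {X : Type u} [AddCommGroup X] [Module R X]
  {Y : Type u} [AddCommGroup Y] [Module R Y] [Module Q Y] [IsScalarTower R Q Y]

@[simp] lemma bcAlong_tmul (g : X →ₗ[R] Y) (P : Type u) [CommRing P] [Algebra R P] [Algebra Q P]
    [IsScalarTower R Q P] (p : P) (x : X) :
    PolLaw.bcAlong g P (p ⊗ₜ[R] x) = p ⊗ₜ[Q] g x := by
  simp [PolLaw.bcAlong, TensorProduct.AlgebraTensorModule.cancelBaseChange_symm_tmul]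

end bc

section norm
variable {R R' Q Q' : Type u} [CommRing R] [CommRing R'] [Algebra R R']
  [CommRing Q] [Algebra R Q] [CommRing Q'] [Algebra R Q'] [Algebra Q Q'] [Algebra R' Q']
  [IsScalarTower R Q Q'] [IsScalarTower R R' Q'] [Algebra.IsPushout R R' Q Q']
  {P₀ : Type u} [CommRing P₀] [Algebra R P₀]
  {P : Type u} [CommRing P] [Algebra R P] [Algebra Q P] [IsScalarTower R Q P]
  (j : P₀ →ₐ[R] P)

/-- `p ⊗ r ↦ j p ⊗ r` from `P₀ ⊗[R] R'` to `P ⊗[Q] Q'` -/
noncomputable def Phi : P₀ ⊗[R] R' →ₗ[R] P ⊗[Q] Q' :=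
  ((PolLaw.bcAlong (IsScalarTower.toAlgHom R R' Q').toLinearMap P).restrictScalars R) ∘ₗ
    j.toLinearMap.rTensor R'

omit [Algebra.IsPushout R R' Q Q'] in
@[simp] lemma Phi_tmul (p : P₀) (r : R') :
    Phi (Q := Q) (Q' := Q') j (p ⊗ₜ[R] r) = j p ⊗ₜ[Q] algebraMap R' Q' r := by
  simp [Phi]

omit [Algebra.IsPushout R R' Q Q'] in
lemma Phi_mul (x y : P₀ ⊗[R] R') :
    Phi (Q := Q) (Q' := Q') j (x * y) = Phi j x * Phi j y := by
  induction x using TensorProduct.induction_on with
  | zero => simp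
  | add x x' hx hx' => rw [add_mul, map_add, hx, hx', map_add, add_mul]
  | tmul p r =>
    induction y using TensorProduct.induction_on with
    | zero => simp
    | add y y' hy hy' => rw [mul_add, map_add, hy, hy', map_add, mul_add]
    | tmul p' r' =>
      rw [Algebra.TensorProduct.tmul_mul_tmul, Phi_tmul, Phi_tmul, Phi_tmul,
        Algebra.TensorProduct.tmul_mul_tmul, map_mul, map_mul]

variable {ι : Type*} [Fintype ι] [DecidableEq ι] (b : Module.Basis ι R R')

/-- the induced basis of `Q'` over `Q` -/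
noncomputable def b' : Module.Basis ι Q Q' :=
  (Algebra.IsPushout.symm (inferInstance : Algebra.IsPushout R R' Q Q')).out.basis b

omit [Fintype ι] [DecidableEq ι] in
lemma b'_apply (i : ι) : b' (Q := Q) (Q' := Q') b i = algebraMap R' Q' (b i) := by
  rw [b', IsBaseChange.basis_apply]
  rfl

omit [Fintype ι] [DecidableEq ι] in
lemma b'_repr (r : R') (k : ι) :
    (b' (Q := Q) (Q' := Q') b).repr (algebraMap R' Q' r) k = algebraMap R Q (b.repr r k) := by
  rw [b']
  exact IsBaseChange.basis_repr_comp_apply b _ r k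

omit [Fintype ι] [DecidableEq ι] in
lemma repr_Phi (y : P₀ ⊗[R] R') (k : ι) :
    (Algebra.TensorProduct.basis P (b' (Q := Q) (Q' := Q') b)).repr (Phi j y) k =
      j ((Algebra.TensorProduct.basis P₀ b).repr y k) := by
  induction y using TensorProduct.induction_on with
  | zero => simp
  | add y y' hy hy' => simp only [map_add, Finsupp.add_apply, hy, hy']
  | tmul p r =>
    rw [Phi_tmul, Algebra.TensorProduct.basis_repr_tmul, Algebra.TensorProduct.basis_repr_tmul]
    simp only [Finsupp.smul_apply, Finsupp.mapRange_apply, smul_eq_mul, map_mul, b'_repr]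
    rw [AlgHom.commutes, ← IsScalarTower.algebraMap_apply]

include b in
/-- the norm commutes with the base change `P₀ ⊗[R] R' → P ⊗[Q] Q'` -/
theorem norm_Phi (z : P₀ ⊗[R] R') :
    Algebra.norm P (Phi (Q := Q) (Q' := Q') j z) = j (Algebra.norm P₀ z) := by
  rw [Algebra.norm_eq_matrix_det (Algebra.TensorProduct.basis P (b' (Q := Q) (Q' := Q') b)),
    Algebra.norm_eq_matrix_det (Algebra.TensorProduct.basis P₀ b), AlgHom.map_det]
  congr 1
  ext k i
  rw [Algebra.leftMulMatrix_eq_repr_mul, AlgHom.mapMatrix_apply, Matrix.map_apply,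
    Algebra.leftMulMatrix_eq_repr_mul, Algebra.TensorProduct.basis_apply,
    Algebra.TensorProduct.basis_apply, b'_apply]
  have h1 : (1 : P) ⊗ₜ[Q] algebraMap R' Q' (b i) = Phi (Q := Q) (Q' := Q') j ((1 : P₀) ⊗ₜ[R] b i) := by
    rw [Phi_tmul, map_one]
  rw [h1, ← Phi_mul, repr_Phi]

end norm

section main
variable {R R' Q Q' : Type u} [CommRing R] [CommRing R'] [Algebra R R']
  [CommRing Q] [Algebra R Q] [CommRing Q'] [Algebra R Q'] [Algebra Q Q'] [Algebra R' Q']
  [IsScalarTower R Q Q'] [IsScalarTower R R' Q'] [Algebra.IsPushout R R' Q Q']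
  [Module.Free R R'] [Module.Finite R R'] [Module.Free Q Q'] [Module.Finite Q Q']

open Groth.Agent.Lib.Helper14.PolLawExt Groth.Agent.Lib.Helper14.GammaFin
  Groth.Agent.Lib.Helper14.GammaModGen in
theorem main (d : ℕ) (hd : Module.finrank R R' = d) (hd' : Module.finrank Q Q' = d)
    {C : Type u} [CommRing C] [Algebra R C] (γ : PolLaw.MulLaw R R' C d) (hγ : PolLaw.IsGammaD γ)
    (π : C →ₐ[R] R) (hπ : PolLaw.MulLaw.postcomp π γ = PolLaw.normLaw R R' d hd)
    {C' : Type u} [CommRing C'] [Algebra R C'] [Algebra Q C'] [IsScalarTower R Q C']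
    (γ' : PolLaw.MulLaw Q Q' C' d)
    (π' : C' →ₐ[Q] Q) (hπ' : PolLaw.MulLaw.postcomp π' γ' = PolLaw.normLaw Q Q' d hd')
    (θ : C →ₐ[R] C')
    (hθ : ∀ (P : Type u) [CommRing P] [Algebra R P] [Algebra Q P] [IsScalarTower R Q P] (z : P ⊗[R] R'),
      γ'.law.toFun' P (PolLaw.bcAlong (IsScalarTower.toAlgHom R R' Q').toLinearMap P z) =
        PolLaw.bcAlong θ.toLinearMap P (γ.law.toFun' P z)) :
    ∀ c : C, π' (θ c) = algebraMap R Q (π c) := by
  classical
  set g₁ : C →ₗ[R] Q := (π'.toLinearMap.restrictScalars R) ∘ₗ θ.toLinearMap with hg₁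
  set g₂ : C →ₗ[R] Q := (Algebra.linearMap R Q) ∘ₗ π.toLinearMap with hg₂
  have key : ∀ (m : ℕ) (b₀ : Fin m → R') (μ : Fin m →₀ ℕ), g₁ (cf γ b₀ μ) = g₂ (cf γ b₀ μ) := by
    intro m b₀ μ
    set j : P R m →ₐ[R] (MvPolynomial (Fin m) Q) := MvPolynomial.mapAlgHom (Algebra.ofId R Q) with hj
    set z : P R m ⊗[R] R' := gen b₀ (P R m) MvPolynomial.X with hz
    set y := γ.law.toFun' (P R m) z with hy
    set Ψ : P R m ⊗[R] C →ₗ[R] (MvPolynomial (Fin m) Q) :=
      ((TensorProduct.rid Q (MvPolynomial (Fin m) Q)).toLinearMap.restrictScalars R) ∘ₗ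
        ((π'.toLinearMap.lTensor (MvPolynomial (Fin m) Q)).restrictScalars R) ∘ₗ
          ((PolLaw.bcAlong θ.toLinearMap (MvPolynomial (Fin m) Q)).restrictScalars R) ∘ₗ j.toLinearMap.rTensor C with hΨ
    have hΨt : ∀ (p : P R m) (c : C), Ψ (p ⊗ₜ[R] c) = π' (θ c) • j p := by
      intro p c
      simp [hΨ]
    have hcoef : ∀ w : P R m ⊗[R] C, MvPolynomial.coeff μ (Ψ w) =
        g₁ (TensorProduct.equivFinsuppOfBasisLeft (MvPolynomial.basisMonomials (Fin m) R) w μ) := by
      intro w
      induction w using TensorProduct.induction_on with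
      | zero => simp
      | add w w' hw hw' => simp only [map_add, MvPolynomial.coeff_add, Finsupp.add_apply, hw, hw']
      | tmul p c =>
        rw [hΨt, TensorProduct.equivFinsuppOfBasisLeft_apply_tmul_apply, map_smul,
          MvPolynomial.coeff_smul, hj, MvPolynomial.mapAlgHom_apply, MvPolynomial.coeff_map]
        simp only [hg₁, LinearMap.comp_apply, AlgHom.toLinearMap_apply,
          LinearMap.restrictScalars_apply, MvPolynomial.coe_basisMonomials,
          Algebra.smul_def, smul_eq_mul]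
        rw [mul_comm]
        rfl
    have hΨy : Ψ y = Algebra.norm (MvPolynomial (Fin m) Q) (Phi (Q := Q) (Q' := Q') j z) := by
      have e1 : j.toLinearMap.rTensor C y =
          γ.law.toFun' (MvPolynomial (Fin m) Q) (j.toLinearMap.rTensor R' z) := by
        rw [hy, PolynomialLaw.isCompat_apply']
      have e2 : π'.toLinearMap.lTensor (MvPolynomial (Fin m) Q)
          (γ'.law.toFun' (MvPolynomial (Fin m) Q) (Phi (Q := Q) (Q' := Q') j z)) =
          Algebra.norm (MvPolynomial (Fin m) Q) (Phi (Q := Q) (Q' := Q') j z) ⊗ₜ[Q] (1 : Q) := by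
        rw [← PolLaw.normLaw_apply Q Q' d hd', ← hπ']
        rfl
      rw [hΨ]
      simp only [LinearMap.comp_apply, LinearMap.restrictScalars_apply]
      rw [e1, ← hθ]
      change (TensorProduct.rid Q (MvPolynomial (Fin m) Q))
        (π'.toLinearMap.lTensor (MvPolynomial (Fin m) Q)
          (γ'.law.toFun' (MvPolynomial (Fin m) Q) (Phi (Q := Q) (Q' := Q') j z))) = _
      rw [e2, TensorProduct.rid_tmul, one_smul]
    have hg2 : g₂ (cf γ b₀ μ) =
        algebraMap R Q (MvPolynomial.coeff μ (Algebra.norm (P R m) z)) := by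
      have e3 : π.toLinearMap.lTensor (P R m) y = Algebra.norm (P R m) z ⊗ₜ[R] (1 : R) := by
        rw [← PolLaw.normLaw_apply R R' d hd, ← hπ]
        rfl
      rw [cf, ← hz, ← hy, hg₂, LinearMap.comp_apply, ← equivFinsupp_lTensor, e3,
        TensorProduct.equivFinsuppOfBasisLeft_apply_tmul_apply]
      simp only [smul_eq_mul, mul_one]
      rfl
    have hg1 : g₁ (cf γ b₀ μ) = MvPolynomial.coeff μ (Ψ y) := by
      rw [hcoef, cf]
    rw [hg1, hg2, hΨy, norm_Phi j (Module.Free.chooseBasis R R') z, hj,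
      MvPolynomial.mapAlgHom_apply, MvPolynomial.coeff_map]
    rfl
  have hle : Nall γ ≤ LinearMap.eqLocus g₁ g₂ := by
    rw [Nall, Submodule.span_le]
    rintro _ ⟨m, b₀, μ, rfl⟩
    exact key m b₀ μ
  rw [Nall_eq_top γ hγ] at hle
  intro c
  exact hle (Submodule.mem_top (x := c))

end main

end Groth.Agent.Lib.Helper14.NormBC
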