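/-
Helper library (helper14): the kernel of the `d`-th tensor power of a surjective linear map is
spanned by the pure tensors having an entry in the kernel (`ker_Tmap`); `Tmap_surjective`.
-/
import Mathlib
import Groth.Agent.Lib.Helper14FlatStage

set_option autoImplicit false
universe u
open TensorProduct

namespace Groth.Agent.Lib.Helper14.TensorKer

open Groth.Agent.Lib.Helper14.FlatStage (Tmap)

section ker
variable {A : Type u} [CommRing A] {M' M : Type u} [AddCommGroup M'] [Module A M']
  [AddCommGroup M] [Module A M] (d : ℕ) (f : M' →ₗ[A] M)

/-- the generators of the kernel of the tensor power of `f` -/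
def kerGen : Set (⨂[A] _ : Fin d, M') :=
  {t | ∃ (a : Fin d → M') (k : Fin d), a k ∈ LinearMap.ker f ∧ t = PiTensorProduct.tprod A a}

/-- their span -/
def J : Submodule A (⨂[A] _ : Fin d, M') := Submodule.span A (kerGen d f)

lemma J_le_ker : J d f ≤ LinearMap.ker (Tmap d f) := by
  rw [J, Submodule.span_le]
  rintro _ ⟨a, k, hk, rfl⟩
  rw [SetLike.mem_coe, LinearMap.mem_ker, Tmap, PiTensorProduct.map_tprod]
  exact MultilinearMap.map_coord_zero _ k hk

/-- changing the entries of a pure tensor modulo `ker f` changes it by an element of `J` -/
lemma tprod_sub_mem (a a' : Fin d → M') (h : ∀ k, a k - a' k ∈ LinearMap.ker f) :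
    PiTensorProduct.tprod A a - PiTensorProduct.tprod A a' ∈ J d f := by
  classical
  have key : ∀ s : Finset (Fin d),
      PiTensorProduct.tprod A (fun k => if k ∈ s then a k else a' k) -
        PiTensorProduct.tprod A a' ∈ J d f := by
    intro s
    induction s using Finset.induction_on with
    | empty => simp
    | insert k s hk ih =>
      have h1 : (fun j => if j ∈ insert k s then a j else a' j) =
          Function.update (fun j => if j ∈ s then a j else a' j) k (a k) := by
        funext j
        by_cases hj : j = k
        · subst hj; simp
        · rw [Function.update_of_ne hj]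
          simp [Finset.mem_insert, hj]
      have h2 : (fun j => if j ∈ s then a j else a' j) =
          Function.update (fun j => if j ∈ s then a j else a' j) k (a' k) := by
        funext j
        by_cases hj : j = k
        · subst hj; simp [hk]
        · rw [Function.update_of_ne hj]
      have h3 : PiTensorProduct.tprod A (fun j => if j ∈ insert k s then a j else a' j) -
          PiTensorProduct.tprod A (fun j => if j ∈ s then a j else a' j) ∈ J d f := by
        have h4 : PiTensorProduct.tprod A
              (Function.update (fun j => if j ∈ s then a j else a' j) k (a k)) -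
            PiTensorProduct.tprod A
              (Function.update (fun j => if j ∈ s then a j else a' j) k (a' k)) ∈ J d f := by
          rw [← MultilinearMap.map_update_sub]
          exact Submodule.subset_span ⟨_, k, by simpa using h k, rfl⟩
        rw [← h1, ← h2] at h4
        exact h4
      have := add_mem h3 ih
      simpa using this
  have := key Finset.univ
  simpa using this

lemma mk_update_eq [DecidableEq (Fin d)] (c : Fin d → M') (k : Fin d) (v w : M') (h : v - w ∈ LinearMap.ker f) :
    (J d f).mkQ (PiTensorProduct.tprod A (Function.update c k v)) =
      (J d f).mkQ (PiTensorProduct.tprod A (Function.update c k w)) := by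
  rw [← sub_eq_zero, ← map_sub, ← MultilinearMap.map_update_sub, Submodule.mkQ_apply,
    Submodule.Quotient.mk_eq_zero]
  exact Submodule.subset_span ⟨_, k, by simpa using h, rfl⟩

variable (hf : Function.Surjective f)

lemma comp_update' [DecidableEq (Fin d)] (b : Fin d → M) (k : Fin d) (v : M) :
    (fun j => Function.surjInv hf (Function.update b k v j)) =
      Function.update (fun j => Function.surjInv hf (b j)) k (Function.surjInv hf v) := by
  funext j
  by_cases hj : j = k
  · subst hj; simp
  · simp [Function.update_of_ne hj]

/-- the multilinear map `M^d → T^d(M')/J` -/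
noncomputable def liftMul :
    MultilinearMap A (fun _ : Fin d => M) ((⨂[A] _ : Fin d, M') ⧸ J d f) where
  toFun b := (J d f).mkQ (PiTensorProduct.tprod A (fun k => Function.surjInv hf (b k)))
  map_update_add' {_} b k x y := by
    rw [comp_update', comp_update', comp_update',
      mk_update_eq d f _ k _ (Function.surjInv hf x + Function.surjInv hf y) (by
        rw [LinearMap.mem_ker, map_sub, map_add, Function.surjInv_eq hf, Function.surjInv_eq hf,
          Function.surjInv_eq hf, sub_self]),
      MultilinearMap.map_update_add, map_add]
  map_update_smul' {_} b k c x := by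
    rw [comp_update', comp_update',
      mk_update_eq d f _ k _ (c • Function.surjInv hf x) (by
        rw [LinearMap.mem_ker, map_sub, map_smul, Function.surjInv_eq hf, Function.surjInv_eq hf,
          sub_self]),
      MultilinearMap.map_update_smul, map_smul]

/-- the induced map `T^d(M) → T^d(M')/J` -/
noncomputable def back : (⨂[A] _ : Fin d, M) →ₗ[A] ((⨂[A] _ : Fin d, M') ⧸ J d f) :=
  PiTensorProduct.lift (liftMul d f hf)

lemma back_comp : back d f hf ∘ₗ Tmap d f = (J d f).mkQ := by
  apply PiTensorProduct.ext
  apply MultilinearMap.ext
  intro a
  simp only [LinearMap.compMultilinearMap_apply, LinearMap.comp_apply]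
  rw [Tmap, PiTensorProduct.map_tprod, back, PiTensorProduct.lift.tprod]
  show (J d f).mkQ _ = _
  rw [← sub_eq_zero, ← map_sub, Submodule.mkQ_apply, Submodule.Quotient.mk_eq_zero]
  apply tprod_sub_mem
  intro k
  rw [LinearMap.mem_ker, map_sub, Function.surjInv_eq hf, sub_self]

include hf in
/-- **the kernel of the tensor power of a surjection** -/
theorem ker_Tmap : LinearMap.ker (Tmap d f) = J d f := by
  apply le_antisymm _ (J_le_ker d f)
  intro t ht
  have h1 : (J d f).mkQ t = 0 := by
    rw [← back_comp d f hf, LinearMap.comp_apply, LinearMap.mem_ker.mp ht, map_zero]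
  rwa [Submodule.mkQ_apply, Submodule.Quotient.mk_eq_zero] at h1

include hf in
lemma Tmap_surjective : Function.Surjective (Tmap d f) := by
  intro t
  induction t using PiTensorProduct.induction_on with
  | smul_tprod r b =>
    refine ⟨r • PiTensorProduct.tprod A (fun k => Function.surjInv hf (b k)), ?_⟩
    rw [map_smul, Tmap, PiTensorProduct.map_tprod]
    simp only [Function.surjInv_eq hf]
  | add x y hx hy =>
    obtain ⟨x', rfl⟩ := hx
    obtain ⟨y', rfl⟩ := hy
    exact ⟨x' + y', map_add _ _ _⟩

end ker

end Groth.Agent.Lib.Helper14.TensorKer
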