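/-
Helper library (helper14): the norm law `T^d_A(B) → Γ^d_A(B)` of degree `d!`, constructed by
descent from a flat cover `π : B' → B` (`normLaw`, `normLaw_apply`).
-/
import Mathlib
import Groth.Prelude.Def_PolLaw
import Groth.Prelude.Def_PolLaw2
import Groth.Agent.Lib.Helper14NormDesc
import Groth.Agent.Lib.Helper14LawDescent
import Groth.Agent.Lib.Helper14TensorKer

set_option autoImplicit false
universe u
open TensorProduct

namespace Groth.Agent.Lib.Helper14.NormDesc

open Groth.Agent.Lib.Helper14.PolLawExt (P Hyp)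
open Groth.Agent.Lib.Helper14.GammaFin (gen cf)
open Groth.Agent.Lib.Helper14.FlatStage (Tmap Tmap_comp Tmap_reindex Tmap_id)
open Groth.Agent.Lib.Helper14.TSGamma

section piG
variable {A : Type u} [CommRing A] {B' B C : Type u} [CommRing B'] [Algebra A B']
  [Module.Flat A B'] [CommRing B] [Algebra A B] [CommRing C] [Algebra A C] {d : ℕ}
  (γ : PolLaw.MulLaw A B C d) (π : B' →ₐ[A] B)

/-- the algebra map `Γ^d(B') = TS^d(B') → C` induced by `π : B' → B` and a law `γ : B → C` -/
noncomputable def piG : SymTen.TS A B' d →ₐ[A] C :=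
  ((isGammaD_tau_flat (A := A) (B := B') d) C (γ.precomp π)).exists.choose

lemma piG_spec :
    PolLaw.postcomp (piG γ π).toLinearMap (tau (A := A) (B := B') d).law = (γ.precomp π).law :=
  ((isGammaD_tau_flat (A := A) (B := B') d) C (γ.precomp π)).exists.choose_spec

lemma piG_apply (S : Type u) [CommSemiring S] [Algebra A S] (x : S ⊗[A] B') :
    (piG γ π).toLinearMap.lTensor S ((tau (A := A) (B := B') d).law.toFun' S x) =
      γ.law.toFun' S (π.toLinearMap.lTensor S x) :=
  congrArg (fun L : B' →ₚₗ[A] C => L.toFun' S x) (piG_spec γ π)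

lemma algHom_ext_tau (f g : SymTen.TS A B' d →ₐ[A] C)
    (h : ∀ (S : Type u) [CommSemiring S] [Algebra A S] (x : S ⊗[A] B'),
      f.toLinearMap.lTensor S ((tau (A := A) (B := B') d).law.toFun' S x) =
        g.toLinearMap.lTensor S ((tau (A := A) (B := B') d).law.toFun' S x)) : f = g := by
  have hg : PolLaw.postcomp g.toLinearMap (tau (A := A) (B := B') d).law =
      PolLaw.postcomp g.toLinearMap (tau (A := A) (B := B') d).law := rfl
  have hf : PolLaw.postcomp f.toLinearMap (tau (A := A) (B := B') d).law =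
      PolLaw.postcomp g.toLinearMap (tau (A := A) (B := B') d).law := by
    ext S _ _ x
    exact h S x
  let F : PolLaw.MulLaw A B' C d := PolLaw.MulLaw.postcomp g (tau (A := A) (B := B') d)
  exact ((isGammaD_tau_flat (A := A) (B := B') d) C F).unique hf hg

/-- `piG` coequalises maps from flat algebras that `π` coequalises -/
theorem piG_comp_TSmap_eq {R' : Type u} [CommRing R'] [Algebra A R'] [Module.Flat A R']
    (p₁ p₂ : R' →ₐ[A] B') (h : π.comp p₁ = π.comp p₂) :
    (piG γ π).comp (TSmap d p₁) = (piG γ π).comp (TSmap d p₂) := by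
  apply algHom_ext_tau
  intro S _ _ x
  rw [AlgHom.comp_toLinearMap, AlgHom.comp_toLinearMap, LinearMap.lTensor_comp,
    LinearMap.lTensor_comp, LinearMap.comp_apply, LinearMap.comp_apply, tau_natural, tau_natural,
    piG_apply, piG_apply, ← LinearMap.comp_apply, ← LinearMap.lTensor_comp,
    ← AlgHom.comp_toLinearMap, h, AlgHom.comp_toLinearMap, LinearMap.lTensor_comp,
    LinearMap.comp_apply]

/-- the law `T^d(B') → C` to be descended -/
noncomputable def Lnorm : PolLaw.MulLaw A (⨂[A] _ : Fin d, B') C (Nat.factorial d) :=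
  PolLaw.MulLaw.postcomp (piG γ π) (symmTS (A := A) (B := B') d)

lemma Lnorm_apply (S : Type u) [CommSemiring S] [Algebra A S]
    (z : S ⊗[A] (⨂[A] _ : Fin d, B')) :
    (Lnorm γ π).law.toFun' S z =
      (piG γ π).toLinearMap.lTensor S ((symmTS (A := A) (B := B') d).law.toFun' S z) := rfl

theorem Lnorm_coeq {R' : Type u} [CommRing R'] [Algebra A R'] [Module.Flat A R']
    (p₁ p₂ : R' →ₐ[A] B') (h : π.comp p₁ = π.comp p₂) (S : Type u) [CommSemiring S] [Algebra A S]
    (r : S ⊗[A] (⨂[A] _ : Fin d, R')) :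
    (Lnorm γ π).law.toFun' S ((TmapAlg d p₁).toLinearMap.lTensor S r) =
      (Lnorm γ π).law.toFun' S ((TmapAlg d p₂).toLinearMap.lTensor S r) := by
  rw [Lnorm_apply, Lnorm_apply, ← symmTS_natural, ← symmTS_natural, ← LinearMap.comp_apply,
    ← LinearMap.lTensor_comp, ← AlgHom.comp_toLinearMap, piG_comp_TSmap_eq γ π p₁ p₂ h,
    AlgHom.comp_toLinearMap, LinearMap.lTensor_comp, LinearMap.comp_apply]

end piG


section gen
variable {A : Type u} [CommRing A] {B' B C : Type u} [CommRing B'] [Algebra A B']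
  [Module.Flat A B'] [CommRing B] [Algebra A B] [CommRing C] [Algebra A C] {d : ℕ}
  (γ : PolLaw.MulLaw A B C d) (π : B' →ₐ[A] B)

instance flat_polynomial : Module.Flat A (Polynomial B') := Module.Flat.trans A B' (Polynomial B')

/-- evaluation at `b`, as an `A`-algebra map -/
noncomputable def evalAt (b : B') : Polynomial B' →ₐ[A] B' :=
  (Polynomial.aeval b : Polynomial B' →ₐ[B'] B').restrictScalars A

omit [Module.Flat A B'] in
lemma evalAt_C (b c : B') : evalAt (A := A) b (Polynomial.C c) = c := by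
  simp [evalAt]

omit [Module.Flat A B'] in
lemma evalAt_X (b : B') : evalAt (A := A) b Polynomial.X = b := by
  simp [evalAt]

omit [Module.Flat A B'] in
lemma evalAt_comp_C (b : B') :
    (evalAt (A := A) b).comp (Polynomial.CAlgHom : B' →ₐ[A] Polynomial B') = AlgHom.id A B' := by
  ext c
  exact evalAt_C (A := A) b c

omit [Module.Flat A B'] in
lemma pi_comp_evalAt (b : B') (hb : π b = 0) :
    π.comp (evalAt (A := A) b) = π.comp (evalAt (A := A) 0) := by
  apply Polynomial.algHom_ext'
  · rw [AlgHom.comp_assoc, AlgHom.comp_assoc, evalAt_comp_C, evalAt_comp_C]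
  · rw [AlgHom.comp_apply, AlgHom.comp_apply, evalAt_X, evalAt_X, hb, map_zero]

/-- the elementary move: adding `s ⊗ (a₁ ⊗ ⋯ ⊗ a_d)` with some `a_k ∈ ker π` -/
theorem Lnorm_add_gen (S : Type u) [CommSemiring S] [Algebra A S] (s : S) (a : Fin d → B')
    (k : Fin d) (hk : π (a k) = 0) (z : S ⊗[A] (⨂[A] _ : Fin d, B')) :
    (Lnorm γ π).law.toFun' S (z + s ⊗ₜ[A] PiTensorProduct.tprod A a) =
      (Lnorm γ π).law.toFun' S z := by
  classical
  set ι : B' →ₐ[A] Polynomial B' := Polynomial.CAlgHom with hι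
  set a' : Fin d → Polynomial B' :=
    Function.update (fun j => Polynomial.C (a j)) k Polynomial.X with ha'
  set r : S ⊗[A] (⨂[A] _ : Fin d, Polynomial B') :=
    (TmapAlg d ι).toLinearMap.lTensor S z + s ⊗ₜ[A] PiTensorProduct.tprod A a' with hr
  have h1 : ∀ b : B', (TmapAlg d (evalAt (A := A) b)).toLinearMap.lTensor S
      ((TmapAlg d ι).toLinearMap.lTensor S z) = z := by
    intro b
    rw [← LinearMap.comp_apply, ← LinearMap.lTensor_comp]
    have : (TmapAlg d (evalAt (A := A) b)).toLinearMap ∘ₗ (TmapAlg d ι).toLinearMap =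
        LinearMap.id := by
      apply LinearMap.ext
      intro t
      rw [LinearMap.comp_apply, AlgHom.toLinearMap_apply, AlgHom.toLinearMap_apply,
        LinearMap.id_apply, ← TmapAlg_comp, hι, evalAt_comp_C, TmapAlg_id]
    rw [this, LinearMap.lTensor_id, LinearMap.id_apply]
  have h2 : (TmapAlg d (evalAt (A := A) (a k))).toLinearMap.lTensor S r =
      z + s ⊗ₜ[A] PiTensorProduct.tprod A a := by
    rw [hr, map_add, h1, LinearMap.lTensor_tmul, AlgHom.toLinearMap_apply, TmapAlg_tprod]
    congr 3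
    funext j
    by_cases hj : j = k
    · subst hj
      rw [ha', Function.update_self, evalAt_X]
    · rw [ha', Function.update_of_ne hj, evalAt_C]
  have h3 : (TmapAlg d (evalAt (A := A) (0 : B'))).toLinearMap.lTensor S r = z := by
    rw [hr, map_add, h1, LinearMap.lTensor_tmul, AlgHom.toLinearMap_apply, TmapAlg_tprod]
    have : PiTensorProduct.tprod A (fun i => evalAt (A := A) (0 : B') (a' i)) = 0 := by
      apply MultilinearMap.map_coord_zero _ k
      rw [ha', Function.update_self, evalAt_X]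
    rw [this, TensorProduct.tmul_zero, add_zero]
  rw [← h2, Lnorm_coeq γ π _ _ (pi_comp_evalAt π (a k) hk), h3]

end gen


section descent
variable {A : Type u} [CommRing A] {B' B C : Type u} [CommRing B'] [Algebra A B']
  [Module.Flat A B'] [CommRing B] [Algebra A B] [CommRing C] [Algebra A C] {d : ℕ}
  (γ : PolLaw.MulLaw A B C d) (π : B' →ₐ[A] B) (hπ : Function.Surjective π)

include hπ in
theorem Lnorm_inv : LawDescent.Inv (Tmap d π.toLinearMap) (Lnorm γ π).law := by
  apply LawDescent.inv_of_ring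
  intro S _ _ z z' hzz
  refine LawDescent.inv_ring_of_gen (Tmap d π.toLinearMap)
    (TensorKer.Tmap_surjective d π.toLinearMap hπ) (Lnorm γ π).law
    (TensorKer.kerGen d π.toLinearMap) (TensorKer.ker_Tmap d π.toLinearMap hπ).symm S ?_ z z' hzz
  rintro s _ ⟨a, k, hk, rfl⟩ z
  exact Lnorm_add_gen γ π S s a k hk z

/-- the descended law `T^d(B) → C` -/
noncomputable def normPLaw : (⨂[A] _ : Fin d, B) →ₚₗ[A] C :=
  LawDescent.descend (Tmap d π.toLinearMap) (TensorKer.Tmap_surjective d π.toLinearMap hπ)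
    (Lnorm γ π).law (Lnorm_inv γ π hπ)

lemma normPLaw_apply (S : Type u) [CommSemiring S] [Algebra A S]
    (z : S ⊗[A] (⨂[A] _ : Fin d, B')) :
    (normPLaw γ π hπ).toFun' S ((TmapAlg d π).toLinearMap.lTensor S z) =
      (Lnorm γ π).law.toFun' S z :=
  LawDescent.descend_apply _ _ _ _ S z

omit [Module.Flat A B'] in
include hπ in
lemma lTensor_TmapAlg_surjective (S : Type u) [CommSemiring S] [Algebra A S] :
    Function.Surjective ((TmapAlg d π).toLinearMap.lTensor S) :=
  LinearMap.lTensor_surjective S (TensorKer.Tmap_surjective d π.toLinearMap hπ)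

/-- the norm law `T^d(B) → Γ^d(B)`, of degree `d!` -/
noncomputable def normLaw : PolLaw.MulLaw A (⨂[A] _ : Fin d, B) C (Nat.factorial d) where
  law := normPLaw γ π hπ
  homog S _ _ s x := by
    obtain ⟨z, rfl⟩ := lTensor_TmapAlg_surjective π hπ S x
    rw [← GammaGen.lTensor_smul, normPLaw_apply, normPLaw_apply, (Lnorm γ π).homog]
  mult S _ _ := by
    refine ⟨?_, fun x y => ?_⟩
    · have h1 : (1 : S ⊗[A] (⨂[A] _ : Fin d, B)) =
          (TmapAlg d π).toLinearMap.lTensor S 1 := by
        rw [PolLaw.lTensor_algHom_apply, map_one]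
      rw [h1, normPLaw_apply, ((Lnorm γ π).mult S).1]
    · obtain ⟨z, rfl⟩ := lTensor_TmapAlg_surjective π hπ S x
      obtain ⟨w, rfl⟩ := lTensor_TmapAlg_surjective π hπ S y
      have h1 : (TmapAlg d π).toLinearMap.lTensor S z * (TmapAlg d π).toLinearMap.lTensor S w =
          (TmapAlg d π).toLinearMap.lTensor S (z * w) := by
        rw [PolLaw.lTensor_algHom_apply, PolLaw.lTensor_algHom_apply,
          PolLaw.lTensor_algHom_apply, map_mul]
      rw [h1, normPLaw_apply, normPLaw_apply, normPLaw_apply, ((Lnorm γ π).mult S).2]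

lemma normLaw_apply (S : Type u) [CommSemiring S] [Algebra A S]
    (z : S ⊗[A] (⨂[A] _ : Fin d, B')) :
    (normLaw γ π hπ).law.toFun' S ((TmapAlg d π).toLinearMap.lTensor S z) =
      (piG γ π).toLinearMap.lTensor S ((symmTS (A := A) (B := B') d).law.toFun' S z) :=
  normPLaw_apply γ π hπ S z

end descent

end Groth.Agent.Lib.Helper14.NormDesc
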