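/-
Helper library (helper14): properties of the norm law `T^d_A(B) → Γ^d_A(B)`:
`ground_formula` (`φ ∘ F = ∏ σ`), `normTS`, `postcomp_normTS`, `precomp_normTS`, `cover`.
-/
import Mathlib
import Groth.Prelude.Def_PolLaw
import Groth.Prelude.Def_PolLaw2
import Groth.Agent.Lib.Helper14NormDesc2

set_option autoImplicit false
universe u
open TensorProduct

namespace Groth.Agent.Lib.Helper14.NormDesc

open Groth.Agent.Lib.Helper14.PolLawExt (P Hyp)
open Groth.Agent.Lib.Helper14.GammaFin (gen cf)
open Groth.Agent.Lib.Helper14.FlatStage (Tmap Tmap_comp Tmap_reindex Tmap_id)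
open Groth.Agent.Lib.Helper14.TSGamma

section invariant
variable {A : Type u} [CommRing A] {B : Type u} [CommRing B] [Algebra A B] (d : ℕ)

lemma map_perm_val (σ : Equiv.Perm (Fin d)) (S : Type u) [CommSemiring S] [Algebra A S]
    (w : S ⊗[A] SymTen.TS A B d) :
    Algebra.TensorProduct.map (AlgHom.id S S) (SymTen.perm A B d σ)
      ((SymTen.TS A B d).val.toLinearMap.lTensor S w) =
      (SymTen.TS A B d).val.toLinearMap.lTensor S w := by
  induction w using TensorProduct.induction_on with
  | zero => simp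
  | tmul s t =>
    rw [LinearMap.lTensor_tmul, Algebra.TensorProduct.map_tmul, AlgHom.id_apply,
      AlgHom.toLinearMap_apply, Subalgebra.val_apply, SymTen.perm_apply, t.2 σ]
  | add x y hx hy => simp only [map_add, hx, hy]

/-- on symmetric tensors the symmetrisation law is the `d!`-th power -/
lemma symmLaw_val (S : Type u) [CommSemiring S] [Algebra A S] (w : S ⊗[A] SymTen.TS A B d) :
    (SymTen.symmLaw A B d).law.toFun' S ((SymTen.TS A B d).val.toLinearMap.lTensor S w) =
      ((SymTen.TS A B d).val.toLinearMap.lTensor S w) ^ (Nat.factorial d) := by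
  rw [symmLaw_apply]
  simp only [map_perm_val]
  rw [Finset.prod_const, Finset.card_univ, Fintype.card_perm, Fintype.card_fin]

lemma symmTS_val_law :
    PolLaw.precomp (symmTS (A := A) (B := B) d).law (SymTen.TS A B d).val.toLinearMap =
      PolLaw.powLaw (Nat.factorial d) := by
  apply law_ext_val
  intro n w
  show (SymTen.TS A B d).val.toLinearMap.lTensor (P A n)
      ((symmTS (A := A) (B := B) d).law.toFun' (P A n)
        ((SymTen.TS A B d).val.toLinearMap.lTensor (P A n) w)) =
    (SymTen.TS A B d).val.toLinearMap.lTensor (P A n) (w ^ (Nat.factorial d))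
  rw [lTensor_symmTS, symmLaw_val, PolLaw.lTensor_algHom_apply, PolLaw.lTensor_algHom_apply,
    map_pow]

lemma symmTS_val (S : Type u) [CommSemiring S] [Algebra A S] (w : S ⊗[A] SymTen.TS A B d) :
    (symmTS (A := A) (B := B) d).law.toFun' S ((SymTen.TS A B d).val.toLinearMap.lTensor S w) =
      w ^ (Nat.factorial d) :=
  congrArg (fun L : SymTen.TS A B d →ₚₗ[A] SymTen.TS A B d => L.toFun' S w) (symmTS_val_law d)

end invariant


section main
variable {A : Type u} [CommRing A] {B' B C : Type u} [CommRing B'] [Algebra A B']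
  [Module.Flat A B'] [CommRing B] [Algebra A B] [CommRing C] [Algebra A C] {d : ℕ}
  (γ : PolLaw.MulLaw A B C d) (π : B' →ₐ[A] B) (hπ : Function.Surjective π)
  (φ : C →ₐ[A] SymTen.TS A B d)

/-- the hypothesis on `φ` in the statements: `φ ∘ γ` is the tensor power law -/
def IsCanon (γ : PolLaw.MulLaw A B C d) (φ : C →ₐ[A] SymTen.TS A B d) : Prop :=
  ∀ (S : Type u) [CommSemiring S] [Algebra A S] (n : ℕ) (s : Fin n → S) (b : Fin n → B),
    ((SymTen.TS A B d).val.comp φ).toLinearMap.lTensor S (γ.law.toFun' S (∑ j, s j ⊗ₜ[A] b j)) =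
      ∑ c : Fin d → Fin n, (∏ i, s (c i)) ⊗ₜ[A] PiTensorProduct.tprod A (fun i => b (c i))

variable {γ φ} (hφ : IsCanon γ φ)

omit [Module.Flat A B'] in
include hφ in
lemma phi_gamma (S : Type u) [CommSemiring S] [Algebra A S] (x : S ⊗[A] B) :
    φ.toLinearMap.lTensor S (γ.law.toFun' S x) = (tau (A := A) (B := B) d).law.toFun' S x := by
  have h : PolLaw.postcomp φ.toLinearMap γ.law = (tau (A := A) (B := B) d).law := by
    apply law_ext_val
    intro n x
    show (SymTen.TS A B d).val.toLinearMap.lTensor (P A n)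
        (φ.toLinearMap.lTensor (P A n) (γ.law.toFun' (P A n) x)) = _
    obtain ⟨r, s, b, rfl⟩ := GammaFin.exists_fin_sum_tmul' (A := A) (B := B) (P A n) x
    rw [← LinearMap.comp_apply, ← LinearMap.lTensor_comp, ← AlgHom.comp_toLinearMap,
      hφ (P A n) r s b, lTensor_tau, TopExt.tpowLaw_sum]
  exact congrArg (fun L : B →ₚₗ[A] SymTen.TS A B d => L.toFun' S x) h

include hφ in
lemma phi_comp_piG : φ.comp (piG γ π) = TSmap d π := by
  apply algHom_ext_tau
  intro S _ _ x
  rw [AlgHom.comp_toLinearMap, LinearMap.lTensor_comp, LinearMap.comp_apply, piG_apply,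
    phi_gamma hφ, tau_natural]

include hφ in
/-- **law-level formula**: `φ ∘ F` is the symmetrisation law -/
theorem val_phi_normLaw (S : Type u) [CommSemiring S] [Algebra A S]
    (t : S ⊗[A] (⨂[A] _ : Fin d, B)) :
    (SymTen.TS A B d).val.toLinearMap.lTensor S
        (φ.toLinearMap.lTensor S ((normLaw γ π hπ).law.toFun' S t)) =
      (SymTen.symmLaw A B d).law.toFun' S t := by
  obtain ⟨z, rfl⟩ := lTensor_TmapAlg_surjective π hπ S t
  rw [normLaw_apply, ← LinearMap.comp_apply (φ.toLinearMap.lTensor S), ← LinearMap.lTensor_comp,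
    ← AlgHom.comp_toLinearMap, phi_comp_piG π hφ, symmTS_natural, lTensor_symmTS]

omit [Module.Flat A B'] in
lemma lid_lTensor {N N' : Type u} [AddCommGroup N] [Module A N] [AddCommGroup N'] [Module A N']
    (g : N →ₗ[A] N') (y : A ⊗[A] N) :
    TensorProduct.lid A N' (g.lTensor A y) = g (TensorProduct.lid A N y) := by
  induction y using TensorProduct.induction_on with
  | zero => simp
  | tmul a n => simp
  | add x y hx hy => simp only [map_add, hx, hy]

include hφ in
/-- **S13396** -/
theorem ground_formula (z : ⨂[A] _ : Fin d, B) :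
    ((SymTen.TS A B d).val (φ ((normLaw γ π hπ).law.ground z)) : ⨂[A] _ : Fin d, B) =
      ∏ σ : Equiv.Perm (Fin d), SymTen.perm A B d σ z := by
  rw [PolynomialLaw.ground_apply]
  have h := val_phi_normLaw π hπ hφ A ((1 : A) ⊗ₜ[A] z)
  have h2 := congrArg (TensorProduct.lid A _) h
  rw [lid_lTensor, lid_lTensor] at h2
  rw [AlgHom.toLinearMap_apply, AlgHom.toLinearMap_apply] at h2
  rw [h2, symmLaw_apply]
  simp only [Algebra.TensorProduct.map_tmul, AlgHom.id_apply]
  rw [TopExt.prod_tmul_prod]
  simp

end main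


section main2
variable {A : Type u} [CommRing A] {B' B C : Type u} [CommRing B'] [Algebra A B']
  [Module.Flat A B'] [CommRing B] [Algebra A B] [CommRing C] [Algebra A C] {d : ℕ}
  {γ : PolLaw.MulLaw A B C d} (π : B' →ₐ[A] B) (hπ : Function.Surjective π)
  {φ : C →ₐ[A] SymTen.TS A B d} (hφ : IsCanon γ φ)

/-- the norm law restricted to the symmetric tensors -/
noncomputable def normTS (γ : PolLaw.MulLaw A B C d) :
    PolLaw.MulLaw A (SymTen.TS A B d) C (Nat.factorial d) :=
  (normLaw γ π hπ).precomp (SymTen.TS A B d).val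

lemma normTS_apply (S : Type u) [CommSemiring S] [Algebra A S] (w : S ⊗[A] SymTen.TS A B d) :
    (normTS π hπ γ).law.toFun' S w =
      (normLaw γ π hπ).law.toFun' S ((SymTen.TS A B d).val.toLinearMap.lTensor S w) := rfl

include hφ in
theorem postcomp_normTS :
    PolLaw.MulLaw.postcomp φ (normTS π hπ γ) =
      PolLaw.MulLaw.pow A (SymTen.TS A B d) (Nat.factorial d) := by
  apply PolLaw.MulLaw.ext
  apply law_ext_val
  intro n w
  show (SymTen.TS A B d).val.toLinearMap.lTensor (P A n)
      (φ.toLinearMap.lTensor (P A n) ((normTS π hπ γ).law.toFun' (P A n) w)) =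
    (SymTen.TS A B d).val.toLinearMap.lTensor (P A n) (w ^ (Nat.factorial d))
  rw [normTS_apply, val_phi_normLaw π hπ hφ, symmLaw_val, PolLaw.lTensor_algHom_apply,
    PolLaw.lTensor_algHom_apply, map_pow]

include hφ in
theorem precomp_normTS (hγ : PolLaw.IsGammaD γ) :
    PolLaw.MulLaw.precomp (normTS π hπ γ) φ = PolLaw.MulLaw.pow A C (Nat.factorial d) := by
  apply PolLaw.MulLaw.ext
  ext S _ _ x
  show (normTS π hπ γ).law.toFun' S (φ.toLinearMap.lTensor S x) = x ^ (Nat.factorial d)
  have hsurj : Function.Surjective (piG γ π) :=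
    GammaGen.surjective_of_surjective (tau (A := A) (B := B') d) γ hγ π hπ (piG γ π)
      (piG_spec γ π)
  obtain ⟨w, rfl⟩ := LinearMap.lTensor_surjective S (g := (piG γ π).toLinearMap) hsurj x
  rw [normTS_apply, ← LinearMap.comp_apply (φ.toLinearMap.lTensor S), ← LinearMap.lTensor_comp,
    ← AlgHom.comp_toLinearMap, phi_comp_piG π hφ, lTensor_val_TSmap, normLaw_apply, symmTS_val,
    PolLaw.lTensor_algHom_apply, PolLaw.lTensor_algHom_apply, map_pow]

end main2

section cover
variable {A : Type u} [CommRing A] (B : Type u) [CommRing B] [Algebra A B]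

/-- the polynomial cover of `B` -/
noncomputable def cover : MvPolynomial B A →ₐ[A] B := MvPolynomial.aeval id

lemma cover_surjective : Function.Surjective (cover (A := A) B) := fun b =>
  ⟨MvPolynomial.X b, by simp [cover]⟩

end cover

end Groth.Agent.Lib.Helper14.NormDesc
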