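/-
Helper14NormalFibProd (helper14): a normal domain `A` with fraction field `K` is the fibre product
`V ×_L K`, `V = Π V_i` the product of all valuation rings of `K` containing `A`, `L = Π K`
(`main`).  Tools: `flat_of_bezout_idem` (over a Bézout ring whose annihilators are generated by
idempotents, torsion-compatible modules are flat), `isBezout_pi` (a product of valuation rings is
Bézout), `flat_ideal`, `isLocalization` (`Π K` is a localisation of `Π V_i`),
`mem_range_of_forall_mem` (a normal domain is the intersection of the valuation rings containing it).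
-/
import Mathlib

set_option autoImplicit false

namespace Groth.Agent.Lib.Helper14.NormalFibProd

open TensorProduct

section Flat

variable {R M : Type*} [CommRing R] [IsBezout R] [AddCommGroup M] [Module R M]

/-- over a Bézout ring in which annihilators of elements are generated by idempotents acting as
the identity on the corresponding torsion of `M`, the module `M` is flat -/
theorem flat_of_bezout_idem
    (h : ∀ d : R, ∃ e : R, e * d = 0 ∧ ∀ m : M, d • m = 0 → e • m = m) : Module.Flat R M := by
  rw [Module.Flat.iff_lift_lsmul_comp_subtype_injective]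
  intro I hI
  obtain ⟨d, rfl⟩ : ∃ d, I = Ideal.span {d} := (IsBezout.isPrincipal_of_FG I hI).principal
  obtain ⟨e, hed, he⟩ := h d
  rw [injective_iff_map_eq_zero]
  intro z hz
  have key : ∀ z : ↥(Ideal.span {d}) ⊗[R] M,
      ∃ m : M, z = (⟨d, Ideal.mem_span_singleton_self d⟩ : ↥(Ideal.span {d})) ⊗ₜ[R] m := by
    intro z
    induction z using TensorProduct.induction_on with
    | zero => exact ⟨0, (tmul_zero _ _).symm⟩
    | tmul x m =>
      obtain ⟨c, hc⟩ := Ideal.mem_span_singleton'.1 x.2
      refine ⟨c • m, ?_⟩
      rw [tmul_smul, smul_tmul']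
      congr 1
      ext
      simp [hc]
    | add z w hz hw =>
      obtain ⟨m, rfl⟩ := hz
      obtain ⟨m', rfl⟩ := hw
      exact ⟨m + m', (tmul_add _ _ _).symm⟩
  obtain ⟨m, rfl⟩ := key z
  have hdm : d • m = 0 := by simpa using hz
  have hm : e • m = m := he m hdm
  rw [← hm, tmul_smul, smul_tmul']
  have : e • (⟨d, Ideal.mem_span_singleton_self d⟩ : ↥(Ideal.span {d})) = 0 := by
    ext
    simp [hed]
  rw [this, zero_tmul]

end Flat

section Prod

universe u

variable {K : Type u} [Field K] {ι : Type u} (V : ι → ValuationSubring K)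

theorem pi_dvd_of_forall {d x : Π i, V i} (h : ∀ i, d i ∣ x i) : d ∣ x := by
  choose c hc using h
  exact ⟨c, funext hc⟩

open Classical in
instance isBezout_pi : IsBezout (Π i, V i) := by
  rw [IsBezout.iff_span_pair_isPrincipal]
  intro x y
  let e : Π i, V i := fun i => if x i ∣ y i then 1 else 0
  let d : Π i, V i := e * x + (1 - e) * y
  have hd : ∀ i, d i = if x i ∣ y i then x i else y i := by
    intro i
    by_cases h : x i ∣ y i
    · simp [d, e, h]
    · simp [d, e, h]
  have hdx : d ∣ x := by
    apply pi_dvd_of_forall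
    intro i
    rw [hd]
    by_cases h : x i ∣ y i
    · rw [if_pos h]
    · rw [if_neg h]
      exact (ValuationRing.dvd_total (x i) (y i)).resolve_left h
  have hdy : d ∣ y := by
    apply pi_dvd_of_forall
    intro i
    rw [hd]
    by_cases h : x i ∣ y i
    · rw [if_pos h]; exact h
    · rw [if_neg h]
  refine ⟨⟨d, le_antisymm ?_ ?_⟩⟩
  · rw [Ideal.span_le]
    rintro z (rfl | rfl)
    · exact Ideal.mem_span_singleton.2 hdx
    · exact Ideal.mem_span_singleton.2 hdy
  · rw [Ideal.submodule_span_eq, Ideal.span_le, Set.singleton_subset_iff]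
    exact Ideal.mem_span_pair.2 ⟨e, 1 - e, rfl⟩

open Classical in
/-- annihilators are generated by idempotents -/
theorem exists_idem (d : Π i, V i) :
    ∃ e : Π i, V i, e * d = 0 ∧ ∀ m : Π i, V i, d * m = 0 → e * m = m := by
  refine ⟨fun i => if d i = 0 then 1 else 0, ?_, ?_⟩
  · funext i
    by_cases h : d i = 0
    · simp [h]
    · simp [h]
  · intro m hm
    funext i
    have hi : d i * m i = 0 := congrFun hm i
    by_cases h : d i = 0
    · simp [h]
    · simp [h, (mul_eq_zero.1 hi).resolve_left h]

theorem flat_ideal (I : Ideal (Π i, V i)) : Module.Flat (Π i, V i) I := by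
  apply flat_of_bezout_idem
  intro d
  obtain ⟨e, hed, he⟩ := exists_idem V d
  refine ⟨e, hed, fun m hm => Subtype.ext ?_⟩
  have : d * (m : Π i, V i) = 0 := congrArg Subtype.val hm
  exact he m this

/-- the inclusion of the product of the valuation rings in the product of copies of `K` -/
def g : (Π i, V i) →+* (ι → K) :=
  RingHom.pi fun i => (V i).subtype.comp (Pi.evalRingHom (fun i => V i) i)

theorem g_apply (v : Π i, V i) (i : ι) : g V v i = (v i : K) := rfl

theorem g_injective : Function.Injective (g V) := by
  intro v w h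
  funext i
  exact Subtype.ext (congrFun h i)

/-- the elements with all components nonzero -/
def S : Submonoid (Π i, V i) where
  carrier := {s | ∀ i, s i ≠ 0}
  one_mem' := fun _ => one_ne_zero
  mul_mem' := fun ha hb i => mul_ne_zero (ha i) (hb i)

theorem isLocalization :
    letI : Algebra (Π i, V i) (ι → K) := (g V).toAlgebra
    IsLocalization (S V) (ι → K) := by
  let : Algebra (Π i, V i) (ι → K) := (g V).toAlgebra
  refine ⟨?_, ?_, ?_⟩
  · rintro ⟨s, hs⟩
    rw [Pi.isUnit_iff]
    intro i
    show IsUnit ((s i : K))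
    exact (isUnit_iff_ne_zero).2 (fun h => hs i (Subtype.ext h))
  · intro z
    have h : ∀ i, ∃ x : (V i) × nonZeroDivisors (V i),
        z i * algebraMap (V i) K x.2 = algebraMap (V i) K x.1 :=
      fun i => IsLocalization.surj (nonZeroDivisors (V i)) (z i)
    choose x hx using h
    refine ⟨⟨fun i => (x i).1, ⟨fun i => ((x i).2 : V i), fun i => nonZeroDivisors.ne_zero (x i).2.2⟩⟩, ?_⟩
    funext i
    exact hx i
  · intro a b hab
    refine ⟨1, ?_⟩
    rw [g_injective V hab]

end Prod

section Main

universe u

variable (A K : Type u) [CommRing A] [Field K] [Algebra A K]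
  [IsFractionRing A K] [IsIntegrallyClosed A]

theorem mem_range_of_forall_mem (k : K)
    (h : ∀ V : ValuationSubring K, (∀ a : A, algebraMap A K a ∈ V) → k ∈ V) :
    k ∈ (algebraMap A K).range := by
  by_contra hk
  have : IsIntegrallyClosedIn (algebraMap A K).range K := by
    rw [Subring.isIntegrallyClosedIn_iff]
    intro x hx
    have hxA : IsIntegral A x := by
      obtain ⟨p, hp, hpx⟩ := hx
      obtain ⟨q, hq, hdeg, hqm⟩ := Polynomial.lifts_and_degree_eq_and_monic
        (f := (algebraMap A K).rangeRestrict) (p := p)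
        ((Polynomial.lifts_iff_coeffs_subset_range _).2 (fun _ _ =>
          (algebraMap A K).rangeRestrict_surjective _)) hp
      refine ⟨q, hqm, ?_⟩
      rw [← hpx, ← hq, Polynomial.eval₂_map]
      rfl
    obtain ⟨y, hy⟩ := (isIntegrallyClosed_iff K).1 inferInstance hxA
    exact ⟨y, hy⟩
  obtain ⟨V, hV, hkV⟩ := Subring.exists_le_valuationSubring_of_isIntegrallyClosedIn hk
  exact hkV (h V fun a => hV ⟨a, rfl⟩)

open CategoryTheory in
theorem main : ∃ (V L : Type u) (_ : CommRing V) (_ : CommRing L) (f : A →+* V) (g : V →+* L)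
    (h : K →+* L),
    g.comp f = h.comp (algebraMap A K) ∧
    (∀ I : Ideal V, Module.Flat V I) ∧ g.Flat ∧ Function.Injective g ∧ Epi (CommRingCat.ofHom g) ∧
    ∀ (v : V) (k : K), g v = h k → ∃! a : A, f a = v ∧ algebraMap A K a = k := by
  let ι : Type u := {V : ValuationSubring K // ∀ a : A, algebraMap A K a ∈ V}
  let Vf : ι → ValuationSubring K := Subtype.val
  let f : A →+* (Π i, Vf i) := RingHom.pi fun i => (algebraMap A K).codRestrict (Vf i) i.2
  let h : K →+* (ι → K) := RingHom.pi fun _ => RingHom.id K
  refine ⟨(Π i, Vf i), (ι → K), inferInstance, inferInstance, f, NormalFibProd.g Vf, h, ?_, ?_, ?_,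
    g_injective Vf, ?_, ?_⟩
  · ext a i
    rfl
  · exact flat_ideal Vf
  · let : Algebra (Π i, Vf i) (ι → K) := (NormalFibProd.g Vf).toAlgebra
    have := isLocalization Vf
    exact IsLocalization.flat (ι → K) (S Vf)
  · let : Algebra (Π i, Vf i) (ι → K) := (NormalFibProd.g Vf).toAlgebra
    have := isLocalization Vf
    exact IsLocalization.epi (S Vf) (ι → K)
  · intro v k hvk
    have hv : ∀ i : ι, (v i : K) = k := fun i => congrFun hvk i
    have hk : k ∈ (algebraMap A K).range := by
      apply mem_range_of_forall_mem A K k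
      intro W hW
      have := hv ⟨W, hW⟩
      rw [← this]
      exact (v ⟨W, hW⟩).2
    obtain ⟨a, ha⟩ := hk
    refine ⟨a, ⟨?_, ha⟩, ?_⟩
    · funext i
      apply Subtype.ext
      show algebraMap A K a = (v i : K)
      rw [ha, hv i]
    · rintro b ⟨-, hb⟩
      exact IsFractionRing.injective A K (hb.trans ha.symm)

end Main

end Groth.Agent.Lib.Helper14.NormalFibProd
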