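import Mathlib
import Groth.Prelude.Def_PolLaw
import Groth.Prelude.Def_PolLaw2
import Groth.Prelude.Def_W4c5normfunctorschNorm
import Groth.Agent.Lib.Helper14LawBCMod2
import Groth.Agent.Lib.Helper14NormBC

/-!
# Base change of universal normic pairs (helper14)
-/

set_option autoImplicit false
set_option linter.unusedVariables false
set_option linter.unusedSectionVars false
set_option linter.style.haveILetI false
universe u
open TensorProduct

namespace Groth.Agent.Lib.Helper14.NormicBC

open Groth.Agent.Lib.Helper14.LawBCMod Groth.Agent.Lib.Helper14.NormBC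

variable {R R' Q Q' : Type u} [CommRing R] [CommRing R'] [Algebra R R']
  [CommRing Q] [Algebra R Q] [CommRing Q'] [Algebra R Q'] [Algebra Q Q'] [Algebra R' Q']
  [IsScalarTower R Q Q'] [IsScalarTower R R' Q'] [Algebra.IsPushout R R' Q Q']
  {M' : Type u} [AddCommGroup M'] [Module R M'] [Module R' M'] [IsScalarTower R R' M']
  {M'' : Type u} [AddCommGroup M''] [Module R M''] [Module R' M''] [Module Q M''] [Module Q' M'']
  [IsScalarTower R R' M''] [IsScalarTower R Q M''] [IsScalarTower R' Q' M'']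
  [IsScalarTower Q Q' M'']
  (f : M' →ₗ[R'] M'')

section eM
variable (hf : IsBaseChange Q' f)

/-- `Q ⊗[R] M' ≃ M''` -/
noncomputable def eM : Q ⊗[R] M' ≃ₗ[Q] M'' :=
  haveI : Algebra.IsPushout R Q R' Q' := Algebra.IsPushout.symm inferInstance
  (Algebra.IsPushout.cancelBaseChange R Q R' Q' M').symm ≪≫ₗ (hf.equiv.restrictScalars Q)

lemma eM_tmul (q : Q) (m : M') : eM f hf (q ⊗ₜ[R] m) = q • f m := by
  haveI : Algebra.IsPushout R Q R' Q' := Algebra.IsPushout.symm inferInstance
  simp only [eM, LinearEquiv.trans_apply, Algebra.IsPushout.cancelBaseChange_symm_tmul,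
    LinearEquiv.restrictScalars_apply, IsBaseChange.equiv_tmul, algebraMap_smul]

lemma eM_symm_f (m : M') : (eM f hf).symm (f m) = (1 : Q) ⊗ₜ[R] m := by
  rw [LinearEquiv.symm_apply_eq, eM_tmul, one_smul]

end eM

section Bet
variable {P₀ : Type u} [CommRing P₀] [Algebra R P₀]
  {P : Type u} [CommRing P] [Algebra R P] [Algebra Q P] [IsScalarTower R Q P]
  (j : P₀ →ₐ[R] P)

/-- `p ⊗ m ↦ j p ⊗ f m` from `P₀ ⊗[R] M'` to `P ⊗[Q] M''` -/
noncomputable def Bet : P₀ ⊗[R] M' →ₗ[R] P ⊗[Q] M'' :=
  ((PolLaw.bcAlong (f.restrictScalars R) P).restrictScalars R) ∘ₗ j.toLinearMap.rTensor M'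

@[simp] lemma Bet_tmul (p : P₀) (m : M') :
    Bet (Q := Q) f j (p ⊗ₜ[R] m) = j p ⊗ₜ[Q] f m := by
  simp [Bet]

lemma actEnd_Bet (x : P₀ ⊗[R] R') (y : P₀ ⊗[R] M') :
    PolLaw.actEnd M'' P (Phi (Q := Q) (Q' := Q') j x) (Bet (Q := Q) f j y) =
      Bet (Q := Q) f j (PolLaw.actEnd M' P₀ x y) := by
  induction x using TensorProduct.induction_on with
  | zero => simp
  | add x x' hx hx' => simp only [map_add, LinearMap.add_apply, hx, hx']
  | tmul p r =>
    induction y using TensorProduct.induction_on with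
    | zero => simp
    | add y y' hy hy' => simp only [map_add, hy, hy']
    | tmul p' m =>
      rw [Phi_tmul, Bet_tmul, PolLaw.actEnd_tmul_tmul, PolLaw.actEnd_tmul_tmul, Bet_tmul, map_mul,
        map_smul, algebraMap_smul]

end Bet

end Groth.Agent.Lib.Helper14.NormicBC
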