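import Mathlib
import Groth.Agent.Lib.Helper14NormicBC

/-!
# Base change of universal normic pairs: the two normic laws (helper14)
-/

set_option autoImplicit false
set_option linter.unusedVariables false
set_option linter.unusedSectionVars false
set_option linter.style.haveILetI false
universe u
open TensorProduct

namespace Groth.Agent.Lib.Helper14.NormicBC

open Groth.Agent.Lib.Helper14.LawBCMod Groth.Agent.Lib.Helper14.NormBC

variable {R R' Q Q' : Type u} [CommRing R] [CommRing R'] [Algebra R R']
  [CommRing Q] [Algebra R Q] [CommRing Q'] [Algebra R Q'] [Algebra Q Q'] [Algebra R' Q']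
  [IsScalarTower R Q Q'] [IsScalarTower R R' Q'] [Algebra.IsPushout R R' Q Q']
  [Module.Free R R'] [Module.Finite R R']
  {M' : Type u} [AddCommGroup M'] [Module R M'] [Module R' M'] [IsScalarTower R R' M']
  {M'' : Type u} [AddCommGroup M''] [Module R M''] [Module R' M''] [Module Q M''] [Module Q' M'']
  [IsScalarTower R R' M''] [IsScalarTower R Q M''] [IsScalarTower R' Q' M'']
  [IsScalarTower Q Q' M'']
  (f : M' →ₗ[R'] M'')

section mu
variable {N'' : Type u} [AddCommGroup N''] [Module R N''] [Module Q N''] [IsScalarTower R Q N'']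
  (ν'' : M'' →ₚₗ[Q] N'')

/-- the law `M' → N''` over `R` induced by `ν''` -/
noncomputable def mu : M' →ₚₗ[R] N'' := PolLaw.precomp (resM (R := R) ν'') (f.restrictScalars R)

lemma mu_toFun' (S : Type u) [CommSemiring S] [Algebra R S] (m : S ⊗[R] M') :
    (mu (R := R) f ν'').toFun' S m = sig (R := R) Q S N'' (ν''.toFun' (Q ⊗[R] S)
      ((sig (R := R) Q S M'').symm ((f.restrictScalars R).lTensor S m))) := rfl

lemma sig_symm_eq_Bet (P₀ : Type u) [CommRing P₀] [Algebra R P₀] (m : P₀ ⊗[R] M') :
    (sig (R := R) Q P₀ M'').symm ((f.restrictScalars R).lTensor P₀ m) =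
      Bet (Q := Q) f (Algebra.TensorProduct.includeRight : P₀ →ₐ[R] Q ⊗[R] P₀) m := by
  induction m using TensorProduct.induction_on with
  | zero => simp
  | add y y' hy hy' => simp only [map_add, hy, hy']
  | tmul p m => simp

theorem isNormic_mu (hν'' : PolLaw.IsNormic Q' ν'') : PolLaw.IsNormic R' (mu (R := R) f ν'') := by
  classical
  intro P₀ _ _ x m
  rw [mu_toFun', mu_toFun', sig_symm_eq_Bet, sig_symm_eq_Bet, ← actEnd_Bet (Q' := Q') f _ x m, hν'',
    norm_Phi _ (Module.Free.chooseBasis R R')]
  exact sig_smul Q P₀ _ _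

end mu

end Groth.Agent.Lib.Helper14.NormicBC
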