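import Mathlib
import Groth.Agent.Lib.Helper14NormicBC2

/-!
# Base change of universal normic pairs: the law `M'' → Q ⊗ N` (helper14)
-/

set_option autoImplicit false
set_option linter.unusedVariables false
set_option linter.unusedSectionVars false
set_option linter.style.haveILetI false
universe u
open TensorProduct

namespace Groth.Agent.Lib.Helper14.NormicBC

open Groth.Agent.Lib.Helper14.LawBCMod Groth.Agent.Lib.Helper14.NormBC

variable {R R' Q Q' : Type u} [CommRing R] [CommRing R'] [Algebra R R']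
  [CommRing Q] [Algebra R Q] [CommRing Q'] [Algebra R Q'] [Algebra Q Q'] [Algebra R' Q']
  [IsScalarTower R Q Q'] [IsScalarTower R R' Q'] [Algebra.IsPushout R R' Q Q']
  [Module.Free R R'] [Module.Finite R R']
  {M' : Type u} [AddCommGroup M'] [Module R M'] [Module R' M'] [IsScalarTower R R' M']
  {M'' : Type u} [AddCommGroup M''] [Module R M''] [Module R' M''] [Module Q M''] [Module Q' M'']
  [IsScalarTower R R' M''] [IsScalarTower R Q M''] [IsScalarTower R' Q' M'']
  [IsScalarTower Q Q' M'']
  (f : M' →ₗ[R'] M'')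

section lam
variable (hf : IsBaseChange Q' f) {N : Type u} [AddCommGroup N] [Module R N] (ν : M' →ₚₗ[R] N)

/-- the law `M'' → Q ⊗[R] N` over `Q` induced by `ν` -/
noncomputable def lam : M'' →ₚₗ[Q] Q ⊗[R] N :=
  PolLaw.precomp (extM (Q := Q) ν) (eM (R := R) (Q := Q) f hf).symm.toLinearMap

lemma lam_toFun' (S : Type u) [CommSemiring S] [Algebra R S] [Algebra Q S] [IsScalarTower R Q S]
    (w : S ⊗[Q] M'') :
    (lam (R := R) (Q := Q) f hf ν).toFun' S w = (tau Q S N).symm (ν.toFun' S
      (tau Q S M' ((eM (R := R) (Q := Q) f hf).symm.toLinearMap.lTensor S w))) := by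
  show (extM (Q := Q) ν).toFun' S _ = _
  rw [extM_toFun']
  rfl

section ring
variable (P : Type u) [CommRing P] [Algebra R P] [Algebra Q P] [IsScalarTower R Q P]

lemma tau_eM_Bet (y : P ⊗[R] M') :
    tau Q P M' ((eM (R := R) (Q := Q) f hf).symm.toLinearMap.lTensor P (Bet (Q := Q) f (AlgHom.id R P) y)) = y := by
  induction y using TensorProduct.induction_on with
  | zero => simp
  | add y y' hy hy' => simp only [map_add, hy, hy']
  | tmul p m =>
    rw [Bet_tmul, LinearMap.lTensor_tmul, LinearEquiv.coe_coe, eM_symm_f]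
    simp

lemma lTensor_eM_symm_injective :
    Function.Injective ((eM (R := R) (Q := Q) f hf).symm.toLinearMap.lTensor P) := by
  have h : (eM (R := R) (Q := Q) f hf).toLinearMap.lTensor P ∘ₗ (eM (R := R) (Q := Q) f hf).symm.toLinearMap.lTensor P =
      LinearMap.id := by
    rw [← LinearMap.lTensor_comp]
    have : (eM (R := R) (Q := Q) f hf).toLinearMap ∘ₗ (eM (R := R) (Q := Q) f hf).symm.toLinearMap = LinearMap.id := by
      ext x; simp
    rw [this, LinearMap.lTensor_id]
  intro a b hab
  have := congrArg ((eM (R := R) (Q := Q) f hf).toLinearMap.lTensor P) hab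
  rw [← LinearMap.comp_apply, ← LinearMap.comp_apply, h] at this
  exact this

lemma Bet_tau (w : P ⊗[Q] M'') :
    Bet (Q := Q) f (AlgHom.id R P) (tau Q P M' ((eM (R := R) (Q := Q) f hf).symm.toLinearMap.lTensor P w)) = w := by
  apply lTensor_eM_symm_injective (R := R) (Q := Q) f hf P
  apply (tau Q P M').injective
  rw [tau_eM_Bet]

lemma Phi_id_surjective :
    Function.Surjective (Phi (R' := R') (Q := Q) (Q' := Q') (AlgHom.id R P)) := by
  have hbc : IsBaseChange Q (IsScalarTower.toAlgHom R R' Q').toLinearMap :=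
    (Algebra.IsPushout.symm (inferInstance : Algebra.IsPushout R R' Q Q')).out
  have key : ∀ (q' : Q') (p : P),
      p ⊗ₜ[Q] q' ∈ LinearMap.range (Phi (R' := R') (Q := Q) (Q' := Q') (AlgHom.id R P)) := by
    intro q'
    refine hbc.inductionOn q' _ ?_ ?_ ?_ ?_
    · intro p
      rw [TensorProduct.tmul_zero]
      exact Submodule.zero_mem _
    · intro r p
      exact ⟨p ⊗ₜ[R] r, by rw [Phi_tmul]; rfl⟩
    · intro q n hn p
      rw [← TensorProduct.smul_tmul]
      exact hn _
    · intro n₁ n₂ h₁ h₂ p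
      rw [TensorProduct.tmul_add]
      exact Submodule.add_mem _ (h₁ p) (h₂ p)
  intro x'
  induction x' using TensorProduct.induction_on with
  | zero => exact ⟨0, map_zero _⟩
  | tmul p q' => exact key q' p
  | add a b ha hb =>
    obtain ⟨a', rfl⟩ := ha
    obtain ⟨b', rfl⟩ := hb
    exact ⟨a' + b', map_add _ _ _⟩

end ring

theorem isNormic_lam (hν : PolLaw.IsNormic R' ν) : PolLaw.IsNormic Q' (lam (R := R) (Q := Q) f hf ν) := by
  classical
  intro P _ _ x' w
  letI : Algebra R P := Algebra.compHom P (algebraMap R Q)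
  haveI : IsScalarTower R Q P := IsScalarTower.of_algebraMap_eq (fun _ => rfl)
  obtain ⟨x, rfl⟩ := Phi_id_surjective (R := R) (R' := R') (Q := Q) (Q' := Q') P x'
  rw [lam_toFun', lam_toFun']
  conv_lhs => rw [← Bet_tau (R := R) (Q := Q) f hf P w, actEnd_Bet, tau_eM_Bet]
  rw [hν, norm_Phi _ (Module.Free.chooseBasis R R'), map_smul]
  rfl

end lam

end Groth.Agent.Lib.Helper14.NormicBC
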