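import Mathlib
import Groth.Agent.Lib.Helper14NormicBC3
import Groth.Agent.Lib.Helper14LawBC3

/-!
# Base change of universal normic pairs: main theorem (helper14)
-/

set_option autoImplicit false
set_option linter.unusedVariables false
set_option linter.unusedSectionVars false
set_option linter.style.haveILetI false
universe u
open TensorProduct

namespace Groth.Agent.Lib.Helper14.NormicBC

open Groth.Agent.Lib.Helper14.LawBCMod Groth.Agent.Lib.Helper14.NormBC

variable {R R' Q Q' : Type u} [CommRing R] [CommRing R'] [Algebra R R']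
  [CommRing Q] [Algebra R Q] [CommRing Q'] [Algebra R Q'] [Algebra Q Q'] [Algebra R' Q']
  [IsScalarTower R Q Q'] [IsScalarTower R R' Q'] [Algebra.IsPushout R R' Q Q']
  [Module.Free R R'] [Module.Finite R R']
  {M' : Type u} [AddCommGroup M'] [Module R M'] [Module R' M'] [IsScalarTower R R' M']
  {M'' : Type u} [AddCommGroup M''] [Module R M''] [Module R' M''] [Module Q M''] [Module Q' M'']
  [IsScalarTower R R' M''] [IsScalarTower R Q M''] [IsScalarTower R' Q' M'']
  [IsScalarTower Q Q' M'']

lemma isNormic_postcomp {N E : Type u} [AddCommGroup N] [Module R N] [AddCommGroup E] [Module R E]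
    (φ : N →ₗ[R] E) (ν : M' →ₚₗ[R] N) (hν : PolLaw.IsNormic R' ν) :
    PolLaw.IsNormic R' (PolLaw.postcomp φ ν) := by
  intro P _ _ x m
  show φ.lTensor P (ν.toFun' P _) = _ • φ.lTensor P (ν.toFun' P m)
  rw [hν, Groth.Agent.Lib.Helper14.GammaGen.lTensor_smul]

theorem main (f : M' →ₗ[R'] M'') (hf : IsBaseChange Q' f)
    {N : Type u} [AddCommGroup N] [Module R N] (ν : M' →ₚₗ[R] N) (hν : PolLaw.IsUnivNormic R' ν)
    {N'' : Type u} [AddCommGroup N''] [Module R N''] [Module Q N''] [IsScalarTower R Q N'']
    (ν'' : M'' →ₚₗ[Q] N'') (hν'' : PolLaw.IsUnivNormic Q' ν'') :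
    ∃ u : N →ₗ[R] N'',
      (∀ (P : Type u) [CommRing P] [Algebra R P] [Algebra Q P] [IsScalarTower R Q P]
          (m : P ⊗[R] M'),
          ν''.toFun' P (PolLaw.bcAlong (f.restrictScalars R) P m) =
            PolLaw.bcAlong u P (ν.toFun' P m)) ∧
      IsBaseChange Q u := by
  classical
  obtain ⟨u, hu, -⟩ := hν.2 N'' (mu (R := R) f ν'') (isNormic_mu f ν'' hν''.1)
  obtain ⟨v, hv, -⟩ := hν''.2 (Q ⊗[R] N) (lam (R := R) (Q := Q) f hf ν)
    (isNormic_lam f hf ν hν.1)
  have hu' : ∀ (S : Type u) [CommSemiring S] [Algebra R S] (m : S ⊗[R] M'),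
      u.lTensor S (ν.toFun' S m) = (mu (R := R) f ν'').toFun' S m :=
    fun S _ _ m => congrArg (fun L : M' →ₚₗ[R] N'' => L.toFun' S m) hu
  have hv' : ∀ (S : Type u) [CommSemiring S] [Algebra Q S] (w : S ⊗[Q] M''),
      v.lTensor S (ν''.toFun' S w) = (lam (R := R) (Q := Q) f hf ν).toFun' S w :=
    fun S _ _ w => congrArg (fun L : M'' →ₚₗ[Q] Q ⊗[R] N => L.toFun' S w) hv
  have hcompat : ∀ (P : Type u) [CommRing P] [Algebra R P] [Algebra Q P] [IsScalarTower R Q P]
      (m : P ⊗[R] M'),
      ν''.toFun' P (PolLaw.bcAlong (f.restrictScalars R) P m) =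
        PolLaw.bcAlong u P (ν.toFun' P m) := by
    intro P _ _ _ _ m
    have h1 : ∀ m : P ⊗[R] M', PolLaw.bcAlong (f.restrictScalars R) P m =
        prj Q P M'' ((f.restrictScalars R).lTensor P m) := by
      intro m
      induction m using TensorProduct.induction_on with
      | zero => simp
      | add y y' hy hy' => simp only [map_add, hy, hy']
      | tmul p m => simp
    have h2 : ∀ y : P ⊗[R] N, PolLaw.bcAlong u P y = prj Q P N'' (u.lTensor P y) := by
      intro y
      induction y using TensorProduct.induction_on with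
      | zero => simp
      | add y y' hy hy' => simp only [map_add, hy, hy']
      | tmul p m => simp
    rw [h1, toFun'_prj, h2, hu']
    rfl
  refine ⟨u, hcompat, ?_⟩
  set uQ : Q ⊗[R] N →ₗ[Q] N'' := u.liftBaseChange Q with huQ
  have huv : uQ ∘ₗ v = LinearMap.id := by
    apply (hν''.2 N'' ν'' hν''.1).unique
    · apply Groth.Agent.Lib.Helper14.GammaUniv.law_ext_P
      intro n w
      show (uQ ∘ₗ v).lTensor (MvPolynomial (Fin n) Q) (ν''.toFun' (MvPolynomial (Fin n) Q) w) =
        ν''.toFun' (MvPolynomial (Fin n) Q) w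
      rw [LinearMap.lTensor_comp, LinearMap.comp_apply, hv', lam_toFun']
      have h3 : ∀ z : (MvPolynomial (Fin n) Q) ⊗[R] N,
          uQ.lTensor _ ((tau Q _ N).symm z) = PolLaw.bcAlong u _ z := by
        intro z
        induction z using TensorProduct.induction_on with
        | zero => simp
        | add y y' hy hy' => simp only [map_add, hy, hy']
        | tmul p m =>
          simp [huQ, TensorProduct.AlgebraTensorModule.cancelBaseChange_symm_tmul]
      rw [h3, ← hcompat]
      congr 1
      have h4 := Bet_tau (R := R) (Q := Q) f hf (MvPolynomial (Fin n) Q) w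
      rw [Bet] at h4
      simpa using h4
    · exact Groth.Agent.Lib.Helper14.LawBC.postcomp_id _
  have hkey : (v.restrictScalars R) ∘ₗ u = iot Q N := by
    apply (hν.2 (Q ⊗[R] N) (PolLaw.postcomp (iot Q N) ν)
      (isNormic_postcomp (iot Q N) ν hν.1)).unique ?_ rfl
    ext S _ _ m
    show ((v.restrictScalars R) ∘ₗ u).lTensor S (ν.toFun' S m) =
      (iot Q N).lTensor S (ν.toFun' S m)
    have h6 : ∀ m : S ⊗[R] M', (eM (R := R) (Q := Q) f hf).symm.toLinearMap.lTensor (Q ⊗[R] S)
        ((sig (R := R) Q S M'').symm ((f.restrictScalars R).lTensor S m)) =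
        (sig (R := R) Q S (Q ⊗[R] M')).symm ((iot Q M').lTensor S m) := by
      intro m
      induction m using TensorProduct.induction_on with
      | zero => simp
      | add y y' hy hy' => simp only [map_add, hy, hy']
      | tmul p m =>
        simp [eM_symm_f]
    rw [LinearMap.lTensor_comp, LinearMap.comp_apply, hu', mu_toFun', ← sig_lTensor, hv',
      ← resM_extM, resM_toFun', lam_toFun', h6, extM_toFun', extFunM]
  have hvu : v ∘ₗ uQ = LinearMap.id := by
    apply TensorProduct.AlgebraTensorModule.ext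
    intro q n
    have h5 : v (u n) = (1 : Q) ⊗ₜ[R] n := by
      have := congrArg (fun l : N →ₗ[R] Q ⊗[R] N => l n) hkey
      exact this
    rw [LinearMap.comp_apply, huQ, LinearMap.liftBaseChange_tmul, map_smul, h5,
      TensorProduct.smul_tmul', smul_eq_mul, mul_one]
    rfl
  refine IsBaseChange.of_equiv (LinearEquiv.ofLinearMap uQ v huv hvu) (fun n => ?_)
  simp [huQ]

end Groth.Agent.Lib.Helper14.NormicBC
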