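import Groth.Agent.Lib.Helper25MultRigidB

/-!
# Base change of bialgebras and groups of multiplicative type (helper25)

* `cancelBC R S T B : T ⊗[S] (S ⊗[R] B) ≃ₐc[T] T ⊗[R] B`: cancellation of iterated base change, as
  an isomorphism of bialgebras.
* `bcEquiv T e`: base change of an isomorphism of bialgebras; `steBialg S T M : T ⊗[S] S[M] ≃ₐc[T] T[M]`.
* `isDiag_of_equiv`, `isDiag_baseChange`, `isDiag_baseChange_of_tower`.
* `isMultType_of_isMultTypeConst` (any base ring); over a field: `isMultTypeConst_of_isMultType`,
  `exists_field_isDiag`, `isMultTypeConst_of_field_isDiag`.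
-/

set_option autoImplicit false
set_option linter.style.haveILetI false
universe u v w

namespace Groth.Agent.Lib.Helper25.BCB


open TensorProduct Coalgebra

section Cancel

variable (R : Type u) (S : Type u) (T : Type u) [CommRing R] [CommRing S] [CommRing T]
  [Algebra R S] [Algebra S T] [Algebra R T] [IsScalarTower R S T]
  (B : Type u) [CommRing B] [Bialgebra R B]

theorem counit_cancel (z : T ⊗[S] (S ⊗[R] B)) :
    counit (R := T) (Algebra.TensorProduct.cancelBaseChange R S T T B z) = counit (R := T) z := by
  induction z using TensorProduct.induction_on with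
  | zero => simp
  | add x y hx hy => rw [map_add, map_add, map_add, hx, hy]
  | tmul t w =>
    induction w using TensorProduct.induction_on with
    | zero => simp
    | add x y hx hy => rw [TensorProduct.tmul_add, map_add, map_add, map_add, hx, hy]
    | tmul s b =>
      rw [Algebra.TensorProduct.cancelBaseChange_tmul, TensorProduct.counit_tmul,
        TensorProduct.counit_tmul, TensorProduct.counit_tmul]
      simp [CommSemiring.counit_apply, smul_assoc]

theorem comul_cancel_aux (z : B ⊗[R] B) :
    TensorProduct.map (Algebra.TensorProduct.cancelBaseChange R S T T B).toLinearMap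
      (Algebra.TensorProduct.cancelBaseChange R S T T B).toLinearMap
      (MRB.bcMap2 T (S ⊗[R] B) (MRB.bcMap2 S B z)) = MRB.bcMap2 T B z := by
  induction z using TensorProduct.induction_on with
  | zero => simp
  | add x y hx hy => rw [map_add, map_add, map_add, map_add, hx, hy]
  | tmul a b =>
    rw [MRB.bcMap2_tmul, MRB.bcMap2_tmul, MRB.bcMap2_tmul, TensorProduct.map_tmul]
    simp

end Cancel



open TensorProduct Coalgebra

section Cancel

variable (R : Type u) (S : Type u) (T : Type u) [CommRing R] [CommRing S] [CommRing T]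
  [Algebra R S] [Algebra S T] [Algebra R T] [IsScalarTower R S T]
  (B : Type u) [CommRing B] [Bialgebra R B]

theorem algHom_self_ext {X : Type*} [Semiring X] [Algebra T X] (f g : T →ₐ[T] X) : f = g := by
  apply AlgHom.ext
  intro t
  rw [← mul_one t, ← smul_eq_mul, map_smul, map_smul, map_one, map_one]

theorem comul_cancel :
    (Algebra.TensorProduct.map (Algebra.TensorProduct.cancelBaseChange R S T T B).toAlgHom
      (Algebra.TensorProduct.cancelBaseChange R S T T B).toAlgHom).comp
        (Bialgebra.comulAlgHom T (T ⊗[S] (S ⊗[R] B))) =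
      (Bialgebra.comulAlgHom T (T ⊗[R] B)).comp
        (Algebra.TensorProduct.cancelBaseChange R S T T B).toAlgHom := by
  apply Algebra.TensorProduct.ext
  · exact algHom_self_ext T _ _
  · apply Algebra.TensorProduct.ext
    · exact algHom_self_ext S _ _
    · apply AlgHom.ext
      intro b
      change Algebra.TensorProduct.map (Algebra.TensorProduct.cancelBaseChange R S T T B).toAlgHom
          (Algebra.TensorProduct.cancelBaseChange R S T T B).toAlgHom
          (comul (R := T) ((1 : T) ⊗ₜ[S] ((1 : S) ⊗ₜ[R] b))) =
        comul (R := T) (Algebra.TensorProduct.cancelBaseChange R S T T B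
          ((1 : T) ⊗ₜ[S] ((1 : S) ⊗ₜ[R] b)))
      rw [Algebra.TensorProduct.cancelBaseChange_tmul, one_smul, MRB.comul_one_tmul,
        MRB.comul_one_tmul, MRB.comul_one_tmul]
      exact comul_cancel_aux R S T B (comul (R := R) b)

/-- Cancellation of iterated base change, as an isomorphism of bialgebras. -/
noncomputable def cancelBC : T ⊗[S] (S ⊗[R] B) ≃ₐc[T] T ⊗[R] B :=
  BialgEquiv.ofAlgEquiv (Algebra.TensorProduct.cancelBaseChange R S T T B)
    (by
      apply AlgHom.ext
      intro z
      exact counit_cancel R S T B z)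
    (comul_cancel R S T B)

@[simp] theorem cancelBC_tmul (t : T) (s : S) (b : B) :
    cancelBC R S T B (t ⊗ₜ[S] (s ⊗ₜ[R] b)) = (s • t) ⊗ₜ[R] b :=
  Algebra.TensorProduct.cancelBaseChange_tmul R S T T B t s b

end Cancel



open TensorProduct Coalgebra

section BCEquiv

variable {S : Type u} [CommRing S] (T : Type u) [CommRing T] [Algebra S T]
  {H H' : Type u} [CommRing H] [Bialgebra S H] [CommRing H'] [Bialgebra S H']

/-- Base change of an isomorphism of bialgebras. -/
noncomputable def bcEquiv (e : H ≃ₐc[S] H') : T ⊗[S] H ≃ₐc[T] T ⊗[S] H' :=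
  BialgEquiv.ofBijective
    (Bialgebra.TensorProduct.map (BialgHom.id T T) (e : H →ₐc[S] H'))
    (by
      rw [Function.bijective_iff_has_inverse]
      refine ⟨Bialgebra.TensorProduct.map (BialgHom.id T T) (e.symm : H' →ₐc[S] H), ?_, ?_⟩
      · intro z
        induction z using TensorProduct.induction_on with
        | zero => simp
        | add x y hx hy => rw [map_add, map_add, hx, hy]
        | tmul t h => simp
      · intro z
        induction z using TensorProduct.induction_on with
        | zero => simp
        | add x y hx hy => rw [map_add, map_add, hx, hy]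
        | tmul t h => simp)

@[simp] theorem bcEquiv_tmul (e : H ≃ₐc[S] H') (t : T) (h : H) :
    bcEquiv T e (t ⊗ₜ[S] h) = t ⊗ₜ[S] e h := rfl

end BCEquiv

section STE

variable (S : Type u) [CommRing S] (T : Type u) [CommRing T] [Algebra S T]
  (M : Type u) [CommMonoid M]

theorem ste_counit :
    (Bialgebra.counitAlgHom T (MonoidAlgebra T M)).comp
      (MonoidAlgebra.scalarTensorEquiv (M := M) S T).toAlgHom =
    Bialgebra.counitAlgHom T (T ⊗[S] MonoidAlgebra S M) := by
  apply Algebra.TensorProduct.ext
  · exact algHom_self_ext T _ _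
  · apply MonoidAlgebra.algHom_ext
    · intro m
      change counit (R := T) (MonoidAlgebra.scalarTensorEquiv (M := M) S T
        ((1 : T) ⊗ₜ[S] MonoidAlgebra.single m 1)) =
        counit (R := T) ((1 : T) ⊗ₜ[S] (MonoidAlgebra.single m (1 : S)))
      rw [MonoidAlgebra.scalarTensorEquiv_tmul, TensorProduct.counit_tmul]
      simp
    · exact algHom_self_ext S _ _

theorem ste_comul :
    (Algebra.TensorProduct.map (MonoidAlgebra.scalarTensorEquiv (M := M) S T).toAlgHom
      (MonoidAlgebra.scalarTensorEquiv (M := M) S T).toAlgHom).comp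
        (Bialgebra.comulAlgHom T (T ⊗[S] MonoidAlgebra S M)) =
      (Bialgebra.comulAlgHom T (MonoidAlgebra T M)).comp
        (MonoidAlgebra.scalarTensorEquiv (M := M) S T).toAlgHom := by
  apply Algebra.TensorProduct.ext
  · exact algHom_self_ext T _ _
  · apply MonoidAlgebra.algHom_ext
    · intro m
      change Algebra.TensorProduct.map (MonoidAlgebra.scalarTensorEquiv (M := M) S T).toAlgHom
          (MonoidAlgebra.scalarTensorEquiv (M := M) S T).toAlgHom
          (comul (R := T) ((1 : T) ⊗ₜ[S] (MonoidAlgebra.single m (1 : S)))) =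
        comul (R := T) (MonoidAlgebra.scalarTensorEquiv (M := M) S T
          ((1 : T) ⊗ₜ[S] MonoidAlgebra.single m 1))
      rw [MRB.comul_one_tmul, MonoidAlgebra.scalarTensorEquiv_tmul]
      simp [MRB.bcMap2_tmul]
    · exact algHom_self_ext S _ _

/-- `T ⊗ S[M] ≃ T[M]` as bialgebras. -/
noncomputable def steBialg : T ⊗[S] MonoidAlgebra S M ≃ₐc[T] MonoidAlgebra T M :=
  BialgEquiv.ofAlgEquiv (MonoidAlgebra.scalarTensorEquiv (M := M) S T)
    (ste_counit S T M) (ste_comul S T M)

end STE



open TensorProduct Coalgebra SGA3b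

section Diag

variable {S : Type u} [CommRing S] {H H' : Type u} [CommRing H] [HopfAlgebra S H]
  [CommRing H'] [HopfAlgebra S H']

theorem isDiag_of_equiv (e : H ≃ₐc[S] H') (h : IsDiag S H') : IsDiag S H := by
  obtain ⟨M, _, ⟨e'⟩⟩ := h
  exact ⟨M, inferInstance, ⟨e.trans e'⟩⟩

theorem isDiag_baseChange (T : Type u) [CommRing T] [Algebra S T] (h : IsDiag S H) :
    IsDiag T (T ⊗[S] H) := by
  obtain ⟨M, _, ⟨e⟩⟩ := h
  exact ⟨M, inferInstance, ⟨(bcEquiv T e).trans (steBialg S T M)⟩⟩

/-- Diagonalisability passes to iterated base changes. -/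
theorem isDiag_baseChange_of_tower (R : Type u) [CommRing R] (B : Type u) [CommRing B]
    [HopfAlgebra R B] (S' T : Type u) [CommRing S'] [CommRing T] [Algebra R S'] [Algebra S' T]
    [Algebra R T] [IsScalarTower R S' T] (h : IsDiag S' (S' ⊗[R] B)) : IsDiag T (T ⊗[R] B) :=
  isDiag_of_equiv (cancelBC R S' T B).symm (isDiag_baseChange T h)

end Diag

section MultType

variable (R : Type u) [CommRing R] (H : Type u) [CommRing H] [HopfAlgebra R H]

attribute [local instance] Algebra.TensorProduct.rightAlgebra in
/-- Constant type implies locally constant type. -/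
theorem isMultType_of_isMultTypeConst (h : IsMultTypeConst R H) : IsMultType R H := by
  obtain ⟨R', _, _, hff, hD⟩ := h
  refine ⟨{1}, by simp, ?_⟩
  intro f hf
  rw [Set.mem_singleton_iff] at hf
  subst hf
  refine ⟨Localization.Away (1 : R) ⊗[R] R', inferInstance, inferInstance, inferInstance, ?_⟩
  have h1 : IsDiag (Localization.Away (1 : R) ⊗[R] R')
      ((Localization.Away (1 : R) ⊗[R] R') ⊗[R] H) :=
    isDiag_baseChange_of_tower R H R' (Localization.Away (1 : R) ⊗[R] R') hD
  exact isDiag_of_equiv
    (cancelBC R (Localization.Away (1 : R)) (Localization.Away (1 : R) ⊗[R] R') H) h1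

end MultType



open TensorProduct Coalgebra SGA3b

section Field

variable (k : Type u) [Field k] (H : Type u) [CommRing H] [HopfAlgebra k H]

theorem exists_ne_zero_of_span_eq_top (s : Set k) (hs : Ideal.span s = ⊤) :
    ∃ f ∈ s, f ≠ 0 := by
  by_contra hall
  push Not at hall
  have h1 : Ideal.span s ≤ ⊥ := Ideal.span_le.mpr (fun x hx => by
    rw [hall x hx]
    exact Ideal.zero_mem _)
  rw [hs] at h1
  exact top_ne_bot (eq_bot_iff.mpr h1)

theorem nontrivial_away {f : k} (hf : f ≠ 0) : Nontrivial (Localization.Away f) := by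
  have hinj : Function.Injective (algebraMap k (Localization.Away f)) :=
    IsLocalization.injective (Localization.Away f) (M := Submonoid.powers f)
      (powers_le_nonZeroDivisors_of_noZeroDivisors hf)
  exact hinj.nontrivial

/-- Over a field, multiplicative type (locally constant type) implies constant type. -/
theorem isMultTypeConst_of_isMultType (h : IsMultType k H) : IsMultTypeConst k H := by
  obtain ⟨s, hs, hmt⟩ := h
  obtain ⟨f, hfs, hf0⟩ := exists_ne_zero_of_span_eq_top k s hs
  obtain ⟨R', _, _, hff, hD⟩ := hmt f hfs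
  haveI := hff
  haveI : Nontrivial (Localization.Away f) := nontrivial_away k hf0
  haveI : Nontrivial R' :=
    (FaithfulSMul.algebraMap_injective (Localization.Away f) R').nontrivial
  letI : Algebra k R' :=
    ((algebraMap (Localization.Away f) R').comp (algebraMap k (Localization.Away f))).toAlgebra
  haveI : IsScalarTower k (Localization.Away f) R' := IsScalarTower.of_algebraMap_eq (fun _ => rfl)
  exact ⟨R', inferInstance, inferInstance, inferInstance,
    isDiag_of_equiv (cancelBC k (Localization.Away f) R' H).symm hD⟩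

/-- Over a field, a group of multiplicative type is diagonalised by a field extension. -/
theorem exists_field_isDiag (h : IsMultTypeConst k H) :
    ∃ (K : Type u) (_ : Field K) (_ : Algebra k K), IsDiag K (K ⊗[k] H) := by
  obtain ⟨R', _, _, hff, hD⟩ := h
  haveI := hff
  haveI : Nontrivial R' := (FaithfulSMul.algebraMap_injective k R').nontrivial
  obtain ⟨𝔪, h𝔪⟩ := Ideal.exists_maximal R'
  letI : Field (R' ⧸ 𝔪) := Ideal.Quotient.field 𝔪
  exact ⟨R' ⧸ 𝔪, inferInstance, inferInstance, isDiag_baseChange_of_tower k H R' (R' ⧸ 𝔪) hD⟩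

theorem isMultTypeConst_of_field_isDiag (K : Type u) [Field K] [Algebra k K]
    (h : IsDiag K (K ⊗[k] H)) : IsMultTypeConst k H :=
  ⟨K, inferInstance, inferInstance, inferInstance, h⟩

end Field


end Groth.Agent.Lib.Helper25.BCB
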