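import Groth.Agent.Lib.Helper25Torsion
import Groth.Agent.Lib.Helper25MultBC

/-!
# Finite groups of multiplicative type are those killed by an integer (helper25)

`IsKilled R A n`: the `n`-th power map is trivial; `torsionIdeal_eq_bot_iff`, `IsKilled.mul`,
`IsKilled.baseChange`, `IsKilled.of_equiv`, `IsKilled.of_baseChange`, `exists_isKilled_of_finite`,
`finite_of_isKilled`, `finite_iff_exists_torsionIdeal_eq_bot`.
-/

set_option autoImplicit false
set_option linter.style.haveILetI false
universe u v

namespace Groth.Agent.Lib.Helper25.Tors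


open TensorProduct WithConv SGA3b Coalgebra

section Killed

variable (R : Type u) [CommRing R] (A : Type u) [CommRing A] [HopfAlgebra R A]

/-- The `n`-th power map of the group is trivial. -/
def IsKilled (n : ℕ) : Prop :=
  ∀ a : A, powConv R A n a = algebraMap R A (counit (R := R) a)

variable {R A}

theorem torsionIdeal_eq_bot_iff (n : ℕ) : torsionIdeal R A n = ⊥ ↔ IsKilled R A n := by
  constructor
  · intro h a
    have h1 : a - algebraMap R A (counit (R := R) a) ∈ RingHom.ker (Bialgebra.counitAlgHom R A) := by
      rw [RingHom.mem_ker, map_sub, AlgHom.commutes]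
      change counit (R := R) a - algebraMap R R (counit (R := R) a) = 0
      simp
    have h2 : powConv R A n (a - algebraMap R A (counit (R := R) a)) ∈ torsionIdeal R A n :=
      Ideal.mem_map_of_mem _ h1
    rw [h, Ideal.mem_bot, map_sub, AlgHom.commutes, sub_eq_zero] at h2
    exact h2
  · intro h
    unfold torsionIdeal
    rw [eq_bot_iff, Ideal.map_le_iff_le_comap]
    intro x hx
    rw [Ideal.mem_comap, Ideal.mem_bot, h x]
    rw [RingHom.mem_ker] at hx
    have hx' : counit (R := R) x = 0 := hx
    rw [hx', map_zero]

theorem powConv_comp (m n : ℕ) :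
    (powConv R A m).comp (powConv R A n) = powConv R A (m * n) := by
  unfold powConv
  rw [comp_convPow]
  simp only [AlgHom.comp_id, toConv_ofConv, ← pow_mul]

theorem IsKilled.mul {n : ℕ} (h : IsKilled R A n) (m : ℕ) : IsKilled R A (m * n) := by
  intro a
  rw [← powConv_comp, AlgHom.comp_apply, h a, AlgHom.commutes]

theorem IsKilled.mul' {n : ℕ} (h : IsKilled R A n) (m : ℕ) : IsKilled R A (n * m) := by
  rw [mul_comm]
  exact h.mul m

theorem IsKilled.baseChange {n : ℕ} (h : IsKilled R A n) (T : Type u) [CommRing T] [Algebra R T] :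
    IsKilled T (T ⊗[R] A) n := by
  intro x
  induction x using TensorProduct.induction_on with
  | zero => simp
  | add x y hx hy => rw [map_add, map_add, map_add, hx, hy]
  | tmul t a =>
    rw [powConv_baseChange, h a, TensorProduct.counit_tmul, Algebra.TensorProduct.algebraMap_apply,
      Algebra.algebraMap_eq_smul_one (counit (R := R) a), TensorProduct.tmul_smul]
    simp [CommSemiring.counit_apply, TensorProduct.smul_tmul']

theorem IsKilled.of_equiv {B : Type u} [CommRing B] [HopfAlgebra R B] {n : ℕ} (e : A ≃ₐc[R] B)
    (h : IsKilled R B n) : IsKilled R A n := by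
  intro a
  have h1 : e (powConv R A n a) = powConv R B n (e a) := map_powConv e.toBialgHom n a
  have h2 : counit (R := R) (e a) = counit (R := R) a := CoalgHomClass.counit_comp_apply e a
  have h3 : e (algebraMap R A (counit (R := R) a)) = algebraMap R B (counit (R := R) a) :=
    AlgHomClass.commutes e.toBialgHom _
  have h4 : e (powConv R A n a) = e (algebraMap R A (counit (R := R) a)) := by
    rw [h1, h (e a), h2, h3]
  exact e.injective h4

/-- Descent of triviality of the `n`-th power map along an injective base change. -/
theorem IsKilled.of_baseChange {n : ℕ} (T : Type u) [CommRing T] [Algebra R T]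
    (hinj : Function.Injective (TensorProduct.mk R T A 1))
    (h : IsKilled T (T ⊗[R] A) n) : IsKilled R A n := by
  intro a
  apply hinj
  rw [TensorProduct.mk_apply, TensorProduct.mk_apply, ← powConv_baseChange, h,
    TensorProduct.counit_tmul, Algebra.TensorProduct.algebraMap_apply,
    Algebra.algebraMap_eq_smul_one (counit (R := R) a), TensorProduct.tmul_smul]
  simp [CommSemiring.counit_apply, TensorProduct.smul_tmul']

theorem isKilled_monoidAlgebra (M : Type u) [CommGroup M] (n : ℕ) (hM : ∀ m : M, m ^ n = 1) :
    IsKilled R (MonoidAlgebra R M) n :=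
  fun y => powConv_eq_counit_of_pow_eq_one R n hM y

theorem pow_eq_one_of_isKilled_monoidAlgebra [Nontrivial R] (M : Type u) [CommGroup M] (n : ℕ)
    (h : IsKilled R (MonoidAlgebra R M) n) (m : M) : m ^ n = 1 := by
  have hgl : IsGroupLikeElem R (MonoidAlgebra.of R M m) := MonoidAlgebra.isGroupLikeElem_of m
  have h1 := h (MonoidAlgebra.of R M m)
  rw [powConv_groupLike n hgl.comul_eq_tmul_self hgl.counit_eq_one, hgl.counit_eq_one, map_one,
    ← map_pow] at h1
  have h2 : MonoidAlgebra.of R M (m ^ n) = MonoidAlgebra.of R M 1 := by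
    rw [h1, map_one]
  exact MonoidAlgebra.of_injective h2

end Killed



open TensorProduct WithConv SGA3b Coalgebra

section Local

variable (L : Type u) [CommRing L] (B : Type u) [CommRing B] [HopfAlgebra L B]

theorem IsKilled.one_tmul {R : Type u} [CommRing R] {A : Type u} [CommRing A] [HopfAlgebra R A]
    {n : ℕ} (T : Type u) [CommRing T] [Algebra R T] (h : IsKilled T (T ⊗[R] A) n) (a : A) :
    (1 : T) ⊗ₜ[R] (powConv R A n a - algebraMap R A (counit (R := R) a)) = 0 := by
  rw [TensorProduct.tmul_sub, sub_eq_zero, ← powConv_baseChange, h,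
    TensorProduct.counit_tmul, Algebra.TensorProduct.algebraMap_apply,
    Algebra.algebraMap_eq_smul_one (counit (R := R) a), TensorProduct.tmul_smul]
  simp [CommSemiring.counit_apply, TensorProduct.smul_tmul']

/-- A finite group of multiplicative type (with constant type) is killed by a positive integer. -/
theorem exists_isKilled_of_finite [Module.Finite L B] (h : IsMultTypeConst L B) :
    ∃ n, 0 < n ∧ IsKilled L B n := by
  obtain ⟨R', _, _, hff, M, _, ⟨e⟩⟩ := h
  haveI := hff
  by_cases hR' : Nontrivial R'
  · haveI h1 : Module.Finite R' (R' ⊗[L] B) := inferInstance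
    haveI h2 : Module.Finite R' (MonoidAlgebra R' M) :=
      Module.Finite.equiv e.toAlgEquiv.toLinearEquiv
    haveI h3 : Module.Finite R' (M →₀ R') :=
      Module.Finite.equiv (MonoidAlgebra.coeffLinearEquiv R')
    haveI : Finite M := Module.Finite.finite_basis (Finsupp.basisSingleOne (R := R') (ι := M))
    refine ⟨Nat.card M, Nat.card_pos, ?_⟩
    apply IsKilled.of_baseChange R'
      (Module.FaithfullyFlat.tensorProduct_mk_injective (A := L) (B := R') B)
    apply IsKilled.of_equiv e
    exact isKilled_monoidAlgebra M _ (fun m => pow_card_eq_one')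
  · rw [not_nontrivial_iff_subsingleton] at hR'
    haveI : Subsingleton L := (FaithfulSMul.algebraMap_injective L R').subsingleton
    haveI : Subsingleton B := Module.subsingleton L B
    exact ⟨1, Nat.one_pos, fun a => Subsingleton.elim _ _⟩

/-- A group of multiplicative type (with constant type) and of finite type killed by a positive
integer is finite. -/
theorem finite_of_isKilled (hft : Algebra.FiniteType L B) (h : IsMultTypeConst L B) {n : ℕ}
    (hn : 0 < n) (hk : IsKilled L B n) : Module.Finite L B := by
  obtain ⟨R', _, _, hff, M, _, ⟨e⟩⟩ := h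
  haveI := hff
  by_cases hR' : Nontrivial R'
  · haveI h1 : Algebra.FiniteType R' (R' ⊗[L] B) := inferInstance
    haveI h2 : Algebra.FiniteType R' (MonoidAlgebra R' M) :=
      Algebra.FiniteType.equiv h1 e.toAlgEquiv
    haveI : Group.FG M := MonoidAlgebra.finiteType_iff_group_fg.mp h2
    have hk' : IsKilled R' (MonoidAlgebra R' M) n := IsKilled.of_equiv e.symm (hk.baseChange R')
    have hM : ∀ m : M, m ^ n = 1 := pow_eq_one_of_isKilled_monoidAlgebra M n hk'
    haveI : Finite M := CommGroup.finite_of_fg_isMulTorsion M
      (fun m => isOfFinOrder_iff_pow_eq_one.mpr ⟨n, hn, hM m⟩)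
    haveI h3 : Module.Finite R' (M →₀ R') := inferInstance
    haveI h4 : Module.Finite R' (MonoidAlgebra R' M) :=
      Module.Finite.equiv (MonoidAlgebra.coeffLinearEquiv R').symm
    haveI h5 : Module.Finite R' (R' ⊗[L] B) := Module.Finite.equiv e.symm.toAlgEquiv.toLinearEquiv
    exact Module.Finite.of_finite_tensorProduct_of_faithfullyFlat R'
  · rw [not_nontrivial_iff_subsingleton] at hR'
    haveI : Subsingleton L := (FaithfulSMul.algebraMap_injective L R').subsingleton
    haveI : Subsingleton B := Module.subsingleton L B
    infer_instance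

end Local

section Global

variable (R : Type u) [CommRing R] (A : Type u) [CommRing A] [HopfAlgebra R A]

theorem finite_iff_exists_torsionIdeal_eq_bot (hft : Algebra.FiniteType R A)
    (h : IsMultType R A) :
    Module.Finite R A ↔ ∃ n : ℕ, 0 < n ∧ torsionIdeal R A n = ⊥ := by
  classical
  obtain ⟨s, hs, hmt⟩ := h
  constructor
  · intro hfin
    obtain ⟨t, hts, ht⟩ := (Ideal.span_eq_top_iff_finite s).mp hs
    have key : ∀ f : R, ∃ n, 0 < n ∧
        (f ∈ s → IsKilled (Localization.Away f) (Localization.Away f ⊗[R] A) n) := by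
      intro f
      by_cases hf : f ∈ s
      · obtain ⟨n, hn, hk⟩ := exists_isKilled_of_finite (Localization.Away f)
          (Localization.Away f ⊗[R] A) (hmt f hf)
        exact ⟨n, hn, fun _ => hk⟩
      · exact ⟨1, Nat.one_pos, fun h => absurd h hf⟩
    choose ν hν hνk using key
    refine ⟨∏ f ∈ t, ν f, Finset.prod_pos (fun f _ => hν f), ?_⟩
    rw [torsionIdeal_eq_bot_iff]
    intro a
    rw [← sub_eq_zero]
    apply Module.eq_zero_of_isLocalized_span (t : Set R) ht
      (fun r => Localization.Away r.1 ⊗[R] A)
      (fun r => TensorProduct.mk R (Localization.Away r.1) A 1)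
    intro r
    have hk : IsKilled (Localization.Away r.1) (Localization.Away r.1 ⊗[R] A) (∏ f ∈ t, ν f) := by
      rw [← Finset.mul_prod_erase t ν r.2]
      exact (hνk r.1 (hts r.2)).mul' _
    exact hk.one_tmul (Localization.Away r.1) a
  · rintro ⟨n, hn, hk⟩
    rw [torsionIdeal_eq_bot_iff] at hk
    apply Module.Finite.of_localizationSpan' s hs (Rₚ := fun r => Localization.Away r.1)
      (Mₚ := fun r => Localization.Away r.1 ⊗[R] A)
      (fun r => TensorProduct.mk R (Localization.Away r.1) A 1)
    intro r
    exact finite_of_isKilled _ _ inferInstance (hmt r.1 r.2) hn (hk.baseChange _)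

end Global


end Groth.Agent.Lib.Helper25.Tors
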