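import Mathlib
import Groth.Prelude.Def_W4c5ffgsreadingcourseOT
import Groth.Agent.Lib.Helper25Killed

set_option autoImplicit false
set_option linter.unusedVariables false
set_option linter.unusedSectionVars false
set_option linter.style.haveILetI false
universe u
open OortTate SGA3b WithConv Coalgebra

namespace Groth.Agent.Lib.Helper14OTEigen

variable {p : ℕ} [Fact p.Prime] {R : Type u} [CommRing R]
  {A : Type u} [CommRing A] [HopfAlgebra R A]

theorem powConv_mod (hp : (WithConv.toConv (AlgHom.id R A)) ^ p = 1) (n : ℕ) :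
    powConv R A n = powConv R A (n % p) := by
  unfold powConv
  congr 1
  conv_lhs => rw [← Nat.div_add_mod n p, pow_add, pow_mul, hp, one_pow, one_mul]

theorem counit_powConv (n : ℕ) (a : A) :
    counit (R := R) (powConv R A n a) = counit (R := R) a := by
  have h := Groth.Agent.Lib.Helper25.Tors.comp_convPow (A := A) (Bialgebra.counitAlgHom R A)
    (WithConv.toConv (AlgHom.id R A)) n
  have h2 := congrArg (fun f => f a) h
  simp only [AlgHom.comp_apply] at h2
  have h3 : toConv ((Bialgebra.counitAlgHom R A).comp (AlgHom.id R A)) = 1 := by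
    apply WithConv.ofConv_injective
    ext x
    simp [AlgHom.convOne_apply]
  rw [h3, one_pow] at h2
  simp only [AlgHom.convOne_apply] at h2
  exact h2

/-- the operator `[m]`. -/
noncomputable def T (R : Type u) [CommRing R] (A : Type u) [CommRing A] [HopfAlgebra R A]
    (m : (ZMod p)ˣ) : A →ₗ[R] A := (powConv R A (m : ZMod p).val).toLinearMap

theorem T_apply (m : (ZMod p)ˣ) (a : A) : T R A m a = powConv R A (m : ZMod p).val a := rfl

theorem T_mul (hp : (WithConv.toConv (AlgHom.id R A)) ^ p = 1) (m n : (ZMod p)ˣ) (a : A) :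
    T R A m (T R A n a) = T R A (m * n) a := by
  rw [T_apply, T_apply, T_apply, ← AlgHom.comp_apply, Groth.Agent.Lib.Helper25.Tors.powConv_comp,
    powConv_mod hp, Units.val_mul, ZMod.val_mul]

theorem T_one (a : A) : T R A (1 : (ZMod p)ˣ) a = a := by
  haveI : Fact (1 < p) := ⟨(Fact.out : p.Prime).one_lt⟩
  rw [T_apply, Units.val_one, ZMod.val_one]
  unfold powConv
  rw [pow_one]
  rfl

theorem counit_T (m : (ZMod p)ˣ) (a : A) : counit (R := R) (T R A m a) = counit (R := R) a :=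
  counit_powConv _ a

section chars

variable (χ : (ZMod p)ˣ →* Rˣ) (hχ : ∀ m : (ZMod p)ˣ, m ≠ 1 → IsUnit ((χ m : R) - 1))

theorem sum_eq_zero_of_twist (c : R) (hc : IsUnit (c - 1)) (h : (ZMod p)ˣ) (ψ : (ZMod p)ˣ → R)
    (hψ : ∀ m, ψ (h * m) = c * ψ m) : ∑ m, ψ m = 0 := by
  have h1 : ∑ m, ψ m = c * ∑ m, ψ m := by
    have e1 : ∑ m, ψ (h * m) = ∑ m, ψ m :=
      Fintype.sum_equiv (Equiv.mulLeft h) (fun m => ψ (h * m)) ψ (fun m => rfl)
    rw [Finset.mul_sum, ← e1]
    exact Finset.sum_congr rfl (fun m _ => hψ m)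
  have h2 : (c - 1) * ∑ m, ψ m = 0 := by
    rw [sub_mul, one_mul, ← h1, sub_self]
  exact hc.mul_right_eq_zero.mp h2

theorem chi_inv_mul (m : (ZMod p)ˣ) : (χ m⁻¹ : R) * (χ m : R) = 1 := by
  rw [← Units.val_mul, ← map_mul, inv_mul_cancel, map_one, Units.val_one]

include hχ in
theorem orth_ne (i j : ℕ) (hi : i < p - 1) (hj : j < p - 1) (hij : i ≠ j) :
    ∑ m : (ZMod p)ˣ, (χ m⁻¹ : R) ^ j * (χ m : R) ^ i = 0 := by
  obtain ⟨g, hg⟩ := IsCyclic.exists_generator (α := (ZMod p)ˣ)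
  have hord : orderOf g = p - 1 := by
    rw [orderOf_eq_card_of_forall_mem_zpowers hg, Nat.card_eq_fintype_card, ZMod.card_units]
  set h : (ZMod p)ˣ := g ^ i * (g⁻¹) ^ j with hh
  have hne : h ≠ 1 := by
    intro h1
    have h2 : g ^ i = g ^ j := by
      rw [hh, inv_pow, mul_inv_eq_one] at h1
      exact h1
    apply hij
    have := pow_injOn_Iio_orderOf (x := g) (by rw [hord]; exact hi) (by rw [hord]; exact hj) h2
    exact this
  have hc : IsUnit ((χ h : R) - 1) := hχ h hne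
  apply sum_eq_zero_of_twist (χ h : R) hc g
  intro m
  have e1 : (χ (g * m)⁻¹ : R) = (χ g⁻¹ : R) * (χ m⁻¹ : R) := by
    rw [mul_inv, ← Units.val_mul, ← map_mul]
  have e2 : (χ (g * m) : R) = (χ g : R) * (χ m : R) := by
    rw [map_mul, Units.val_mul]
  have e3 : (χ h : R) = (χ g : R) ^ i * (χ g⁻¹ : R) ^ j := by
    rw [hh, map_mul, map_pow, map_pow, Units.val_mul, Units.val_pow_eq_pow_val,
      Units.val_pow_eq_pow_val]
  rw [e1, e2, e3]
  ring

theorem orth_eq (i : ℕ) :
    ∑ m : (ZMod p)ˣ, (χ m⁻¹ : R) ^ i * (χ m : R) ^ i = ((p - 1 : ℕ) : R) := by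
  have : ∀ m : (ZMod p)ˣ, (χ m⁻¹ : R) ^ i * (χ m : R) ^ i = 1 := by
    intro m
    rw [← mul_pow, chi_inv_mul, one_pow]
  rw [Finset.sum_congr rfl (fun m _ => this m), Finset.sum_const, Finset.card_univ,
    ZMod.card_units, nsmul_eq_mul, mul_one]

include hχ in
theorem geom_zero (m : (ZMod p)ˣ) (hm : m ≠ 1) :
    ∑ i ∈ Finset.range (p - 1), (χ m⁻¹ : R) ^ i = 0 := by
  have hm' : m⁻¹ ≠ 1 := by simpa using hm
  have h1 : ((χ m⁻¹ : R) - 1) * ∑ i ∈ Finset.range (p - 1), (χ m⁻¹ : R) ^ i = 0 := by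
    rw [mul_geom_sum, ← Units.val_pow_eq_pow_val, ← map_pow, ZMod.units_pow_card_sub_one_eq_one,
      map_one, Units.val_one, sub_self]
  exact (hχ _ hm').mul_right_eq_zero.mp h1

theorem proj_apply (u : R) (i : ℕ) (f : A) :
    proj R A p u χ i f = u • ∑ m : (ZMod p)ˣ, ((χ m⁻¹ : R) ^ i) • T R A m f := by
  simp only [proj, LinearMap.smul_apply, LinearMap.sum_apply]
  rfl

theorem mem_eigenAug_iff (i : ℕ) (f : A) :
    f ∈ eigenAug R A p χ i ↔ counit (R := R) f = 0 ∧ ∀ m : (ZMod p)ˣ, T R A m f = ((χ m : R) ^ i) • f := by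
  simp only [eigenAug, Submodule.mem_inf, LinearMap.mem_ker, Submodule.mem_iInf,
    Module.End.mem_eigenspace_iff]
  rfl

theorem T_proj (hp : (WithConv.toConv (AlgHom.id R A)) ^ p = 1) (u : R) (i : ℕ) (k : (ZMod p)ˣ)
    (f : A) : T R A k (proj R A p u χ i f) = ((χ k : R) ^ i) • proj R A p u χ i f := by
  rw [proj_apply, map_smul, map_sum, smul_comm ((χ k : R) ^ i) u]
  congr 1
  rw [Finset.smul_sum]
  have e1 : ∑ m : (ZMod p)ˣ, T R A k (((χ m⁻¹ : R) ^ i) • T R A m f)
      = ∑ m : (ZMod p)ˣ, ((χ k : R) ^ i * (χ (k * m)⁻¹ : R) ^ i) • T R A (k * m) f := by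
    apply Finset.sum_congr rfl
    intro m _
    rw [map_smul, T_mul hp]
    congr 1
    rw [← mul_pow]
    congr 1
    rw [mul_inv, map_mul, Units.val_mul, ← mul_assoc, mul_comm (χ k : R), chi_inv_mul, one_mul]
  rw [e1]
  rw [Fintype.sum_equiv (Equiv.mulLeft k)
    (fun m => ((χ k : R) ^ i * (χ (k * m)⁻¹ : R) ^ i) • T R A (k * m) f)
    (fun m => ((χ k : R) ^ i * (χ m⁻¹ : R) ^ i) • T R A m f) (fun m => rfl)]
  apply Finset.sum_congr rfl
  intro m _
  rw [mul_smul]

theorem counit_proj (u : R) (i : ℕ) (f : A) (hf : counit (R := R) f = 0) :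
    counit (R := R) (proj R A p u χ i f) = 0 := by
  rw [proj_apply, map_smul, map_sum]
  simp only [map_smul, counit_T, hf, smul_zero, Finset.sum_const_zero]

theorem proj_mem (hp : (WithConv.toConv (AlgHom.id R A)) ^ p = 1) (u : R) (i : ℕ) (f : A)
    (hf : counit (R := R) f = 0) : proj R A p u χ i f ∈ eigenAug R A p χ i := by
  rw [mem_eigenAug_iff]
  exact ⟨counit_proj χ u i f hf, fun m => T_proj χ hp u i m f⟩

include hχ in
theorem proj_of_mem (u : R) (hu : u * ((p - 1 : ℕ) : R) = 1) (i j : ℕ) (hi : i < p - 1)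
    (hj : j < p - 1) (f : A) (hf : f ∈ eigenAug R A p χ i) :
    proj R A p u χ j f = if i = j then f else 0 := by
  rw [mem_eigenAug_iff] at hf
  rw [proj_apply]
  have e1 : ∑ m : (ZMod p)ˣ, ((χ m⁻¹ : R) ^ j) • T R A m f
      = (∑ m : (ZMod p)ˣ, (χ m⁻¹ : R) ^ j * (χ m : R) ^ i) • f := by
    rw [Finset.sum_smul]
    apply Finset.sum_congr rfl
    intro m _
    rw [hf.2 m, smul_smul]
  rw [e1]
  split_ifs with hij
  · subst hij
    rw [orth_eq, smul_smul, hu, one_smul]
  · rw [orth_ne χ hχ i j hi hj hij, zero_smul, smul_zero]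

include hχ in
theorem sum_proj (u : R) (hu : u * ((p - 1 : ℕ) : R) = 1) (f : A) :
    ∑ i ∈ Finset.range (p - 1), proj R A p u χ i f = f := by
  simp only [proj_apply]
  rw [← Finset.smul_sum, Finset.sum_comm]
  have e1 : ∀ m : (ZMod p)ˣ, ∑ i ∈ Finset.range (p - 1), ((χ m⁻¹ : R) ^ i) • T R A m f
      = if m = 1 then ((p - 1 : ℕ) : R) • f else 0 := by
    intro m
    rw [← Finset.sum_smul]
    split_ifs with hm
    · subst hm
      simp only [inv_one, map_one, Units.val_one, one_pow, Finset.sum_const, Finset.card_range,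
        nsmul_eq_mul, mul_one]
      rw [T_one]
    · rw [geom_zero χ hχ m hm, zero_smul]
  rw [Finset.sum_congr rfl (fun m _ => e1 m), Finset.sum_ite_eq' Finset.univ (1 : (ZMod p)ˣ)]
  simp only [Finset.mem_univ, if_true]
  rw [smul_smul, hu, one_smul]

end chars

theorem main (p : ℕ) [Fact p.Prime] (R : Type u) [CommRing R] (u : R)
    (hu : u * ((p - 1 : ℕ) : R) = 1)
    (χ : (ZMod p)ˣ →* Rˣ) (hχ : ∀ m : (ZMod p)ˣ, m ≠ 1 → IsUnit ((χ m : R) - 1))
    (A : Type u) [CommRing A] [HopfAlgebra R A]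
    (hp : (WithConv.toConv (AlgHom.id R A)) ^ p = 1) :
    iSupIndep (fun i : Fin (p - 1) => OortTate.eigenAug R A p χ (i : ℕ)) ∧
      (⨆ i : Fin (p - 1), OortTate.eigenAug R A p χ (i : ℕ)) =
        LinearMap.ker (Bialgebra.counitAlgHom R A).toLinearMap ∧
      ∀ i : Fin (p - 1), OortTate.eigenAug R A p χ (i : ℕ) =
        Submodule.map (OortTate.proj R A p u χ (i : ℕ))
          (LinearMap.ker (Bialgebra.counitAlgHom R A).toLinearMap) := by
  have hker : ∀ f : A, f ∈ LinearMap.ker (Bialgebra.counitAlgHom R A).toLinearMap ↔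
      counit (R := R) f = 0 := fun f => Iff.rfl
  refine ⟨?_, ?_, ?_⟩
  · rw [iSupIndep_def]
    intro i
    rw [Submodule.disjoint_def]
    intro x hx hx'
    have h1 : (⨆ j, ⨆ (_ : j ≠ i), eigenAug R A p χ (j : ℕ)) ≤
        LinearMap.ker (proj R A p u χ (i : ℕ)) := by
      apply iSup_le
      intro j
      apply iSup_le
      intro hji y hy
      rw [LinearMap.mem_ker, proj_of_mem χ hχ u hu j i j.2 i.2 y hy, if_neg]
      intro h
      exact hji (Fin.ext h)
    have h2 := h1 hx'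
    rw [LinearMap.mem_ker, proj_of_mem χ hχ u hu i i i.2 i.2 x hx, if_pos rfl] at h2
    exact h2
  · apply le_antisymm
    · apply iSup_le
      intro i f hf
      rw [mem_eigenAug_iff] at hf
      exact (hker f).mpr hf.1
    · intro f hf
      rw [← sum_proj χ hχ u hu f]
      apply Submodule.sum_mem
      intro i hi
      rw [Finset.mem_range] at hi
      exact Submodule.mem_iSup_of_mem (⟨i, hi⟩ : Fin (p - 1))
        (proj_mem χ hp u i f ((hker f).mp hf))
  · intro i
    ext f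
    rw [Submodule.mem_map]
    constructor
    · intro hf
      refine ⟨f, ?_, ?_⟩
      · rw [mem_eigenAug_iff] at hf
        exact (hker f).mpr hf.1
      · rw [proj_of_mem χ hχ u hu i i i.2 i.2 f hf, if_pos rfl]
    · rintro ⟨g, hg, rfl⟩
      exact proj_mem χ hp u i g ((hker g).mp hg)


end Groth.Agent.Lib.Helper14OTEigen
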