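import Mathlib
import Groth.Prelude.Def_W4c5ffgsreadingcourseOT
import Groth.Prelude.Def_CartDual
import Groth.Agent.Lib.Helper14OTEigen
import Groth.Agent.S18470

set_option autoImplicit false
set_option linter.unusedVariables false
set_option linter.unusedSectionVars false
set_option linter.style.haveILetI false
universe u
open TensorProduct WithConv Coalgebra CartDual SGA3b OortTate

namespace Groth.Agent.Lib.Helper14OTDual

section tr

variable {R : Type u} [CommRing R] {A : Type u} [CommRing A] [HopfAlgebra R A]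
  [Module.Finite R A] [Module.Projective R A]

/-- transpose of an endomorphism -/
noncomputable def tr (f : A →ₗ[R] A) : D R A →ₗ[R] D R A where
  toFun x := toConv (x.ofConv ∘ₗ f)
  map_add' x y := by
    apply WithConv.ofConv_injective
    ext a
    simp
  map_smul' r x := by
    apply WithConv.ofConv_injective
    ext a
    simp

theorem tr_apply (f : A →ₗ[R] A) (x : D R A) (a : A) : tr f x a = x (f a) := rfl

theorem ev₂_map_tr (f g : A →ₗ[R] A) (y : D R A ⊗[R] D R A) (t : A ⊗[R] A) :
    ev₂ R A (TensorProduct.map (tr f) (tr g) y) t = ev₂ R A y (TensorProduct.map f g t) := by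
  induction y using TensorProduct.induction_on with
  | zero => simp
  | add y y' hy hy' => simp only [map_add, LinearMap.add_apply, hy, hy']
  | tmul x x' =>
    induction t using TensorProduct.induction_on with
    | zero => simp
    | add t t' ht ht' => simp only [map_add, ht, ht']
    | tmul a b => simp [tr_apply]

theorem mul'_apply (y : D R A ⊗[R] D R A) (a : A) :
    (LinearMap.mul' R (D R A) y) a = ev₂ R A y (Coalgebra.comul (R := R) a) := by
  induction y using TensorProduct.induction_on with
  | zero => simp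
  | add y y' hy hy' =>
    simp only [map_add, LinearMap.add_apply]
    rw [← hy, ← hy']
    rfl
  | tmul x x' =>
    rw [LinearMap.mul'_apply, (ℛ R a).convMul_apply, ← (ℛ R a).eq, map_sum]
    apply Finset.sum_congr rfl
    intro i _
    simp

theorem tr_mul (f g : WithConv (A →ₗ[R] A)) :
    (toConv (tr (f * g).ofConv) : WithConv (D R A →ₗ[R] D R A)) =
      toConv (tr f.ofConv) * toConv (tr g.ofConv) := by
  apply WithConv.ofConv_injective
  apply LinearMap.ext
  intro x
  apply WithConv.ofConv_injective
  apply LinearMap.ext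
  intro a
  change x ((f * g) a) = ((toConv (tr f.ofConv) * toConv (tr g.ofConv)) x) a
  rw [LinearMap.convMul_apply, LinearMap.convMul_apply, mul'_apply]
  simp only [ofConv_toConv]
  rw [ev₂_map_tr]
  change _ = ev₂ R A (CartDual.comul R A x) _
  rw [ev₂_comul]
  rfl

theorem tr_one :
    (toConv (tr (1 : WithConv (A →ₗ[R] A)).ofConv) : WithConv (D R A →ₗ[R] D R A)) = 1 := by
  apply WithConv.ofConv_injective
  apply LinearMap.ext
  intro x
  apply WithConv.ofConv_injective
  apply LinearMap.ext
  intro a
  change x ((1 : WithConv (A →ₗ[R] A)) a) = ((1 : WithConv (D R A →ₗ[R] D R A)) x) a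
  rw [LinearMap.convOne_apply, LinearMap.convOne_apply]
  change _ = (algebraMap R (D R A) (x 1)) a
  rw [Algebra.algebraMap_eq_smul_one, Algebra.algebraMap_eq_smul_one, map_smul]
  change _ = (x 1) • ((1 : D R A) a)
  rw [LinearMap.convOne_apply]
  simp [mul_comm]

theorem tr_pow (f : WithConv (A →ₗ[R] A)) (n : ℕ) :
    (toConv (tr (f ^ n).ofConv) : WithConv (D R A →ₗ[R] D R A)) = toConv (tr f.ofConv) ^ n := by
  induction n with
  | zero => rw [pow_zero, pow_zero, tr_one]
  | succ n ih => rw [pow_succ, tr_mul, ih, pow_succ]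

theorem tr_id : tr (LinearMap.id : A →ₗ[R] A) = LinearMap.id := by
  apply LinearMap.ext
  intro x
  rfl

variable [Coalgebra.IsCocomm R A]

theorem powConv_dual (n : ℕ) (x : D R A) (a : A) :
    (powConv R (D R A) n x) a = x (powConv R A n a) := by
  have h1 : toConv (powConv R (D R A) n).toLinearMap =
      (toConv (LinearMap.id : D R A →ₗ[R] D R A)) ^ n := by
    have := AlgHom.toLinearMap_convPow (toConv (AlgHom.id R (D R A))) n
    rw [powConv]
    exact this
  have h2 : toConv (powConv R A n).toLinearMap = (toConv (LinearMap.id : A →ₗ[R] A)) ^ n := by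
    have := AlgHom.toLinearMap_convPow (toConv (AlgHom.id R A)) n
    rw [powConv]
    exact this
  have h3 : (toConv (powConv R (D R A) n).toLinearMap : WithConv (D R A →ₗ[R] D R A)) =
      toConv (tr (powConv R A n).toLinearMap) := by
    rw [h1]
    have h4 := tr_pow (toConv (LinearMap.id : A →ₗ[R] A)) n
    rw [← h2] at h4
    simp only [ofConv_toConv] at h4
    rw [h4, tr_id]
  have h5 := congrArg (fun F : WithConv (D R A →ₗ[R] D R A) => (F.ofConv x) a) h3
  exact h5

end tr

section main

open Groth.Agent.Lib.Helper14OTEigen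

variable {p : ℕ} [Fact p.Prime] {R : Type u} [CommRing R]
  {A : Type u} [CommRing A] [HopfAlgebra R A] [Coalgebra.IsCocomm R A]
  [Module.Finite R A] [Module.Projective R A]

theorem hpD (hp : (WithConv.toConv (AlgHom.id R A)) ^ p = 1) :
    (WithConv.toConv (AlgHom.id R (D R A))) ^ p = 1 := by
  apply WithConv.ofConv_injective
  apply AlgHom.ext
  intro x
  apply WithConv.ofConv_injective
  apply LinearMap.ext
  intro a
  have h1 : (powConv R (D R A) p x) a = x (powConv R A p a) := powConv_dual p x a
  have h2 : powConv R A p a = algebraMap R A (counit (R := R) a) := by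
    unfold powConv
    rw [hp]
    rfl
  change (powConv R (D R A) p x) a = ((1 : WithConv (D R A →ₐ[R] D R A)) x) a
  rw [h1, h2, AlgHom.convOne_apply]
  change _ = (algebraMap R (D R A) (x 1)) a
  rw [Algebra.algebraMap_eq_smul_one, Algebra.algebraMap_eq_smul_one, map_smul]
  change _ = (x 1) • ((1 : D R A) a)
  rw [LinearMap.convOne_apply]
  simp [mul_comm]

theorem T_dual (m : (ZMod p)ˣ) (x : D R A) (a : A) :
    (T R (D R A) m x) a = x (T R A m a) := powConv_dual _ x a

theorem proj_dual (u : R) (χ : (ZMod p)ˣ →* Rˣ) (i : ℕ) (x : D R A) (a : A) :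
    (proj R (D R A) p u χ i x) a = x (proj R A p u χ i a) := by
  rw [proj_apply, proj_apply, map_smul, map_sum]
  change u • ((∑ m : (ZMod p)ˣ, ((χ m⁻¹ : R) ^ i) • T R (D R A) m x : D R A) a) = _
  congr 1
  have : ∀ (s : Finset (ZMod p)ˣ) (F : (ZMod p)ˣ → D R A), ((∑ m ∈ s, F m : D R A)) a =
      ∑ m ∈ s, (F m) a := by
    intro s F
    induction s using Finset.induction_on with
    | empty => simp
    | insert b s hb ih =>
      rw [Finset.sum_insert hb, Finset.sum_insert hb, ← ih]
      rfl
  rw [this]
  apply Finset.sum_congr rfl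
  intro m _
  rw [map_smul]
  change ((χ m⁻¹ : R) ^ i) • ((T R (D R A) m x) a) = _
  rw [T_dual]

theorem proj_self_of_mem (u : R) (hu : u * ((p - 1 : ℕ) : R) = 1) (χ : (ZMod p)ˣ →* Rˣ)
    {B : Type u} [CommRing B] [HopfAlgebra R B] (i : ℕ) (f : B)
    (hf : f ∈ eigenAug R B p χ i) : proj R B p u χ i f = f := by
  rw [mem_eigenAug_iff] at hf
  rw [proj_apply]
  have e1 : ∑ m : (ZMod p)ˣ, ((χ m⁻¹ : R) ^ i) • T R B m f
      = (∑ m : (ZMod p)ˣ, (χ m⁻¹ : R) ^ i * (χ m : R) ^ i) • f := by
    rw [Finset.sum_smul]
    apply Finset.sum_congr rfl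
    intro m _
    rw [hf.2 m, smul_smul]
  rw [e1, orth_eq, smul_smul, hu, one_smul]

theorem main (p : ℕ) [Fact p.Prime] (R : Type u) [CommRing R] (u : R)
    (hu : u * ((p - 1 : ℕ) : R) = 1)
    (χ : (ZMod p)ˣ →* Rˣ) (hχ : ∀ m : (ZMod p)ˣ, m ≠ 1 → IsUnit ((χ m : R) - 1))
    (A : Type u) [CommRing A] [HopfAlgebra R A] [Coalgebra.IsCocomm R A]
    [Module.Finite R A] [Module.Projective R A]
    (hp : (WithConv.toConv (AlgHom.id R A)) ^ p = 1) (i : ℕ) :
    Function.Bijective (fun f : OortTate.eigenAug R (CartDual.D R A) p χ i =>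
      ((CartDual.toDual R A) (f : CartDual.D R A)).comp (OortTate.eigenAug R A p χ i).subtype) := by
  have hS := Groth.Agent.S18470.result R A
  have hkerA : ∀ a : A, a ∈ LinearMap.ker (Bialgebra.counitAlgHom R A).toLinearMap ↔
      counit (R := R) a = 0 := fun a => Iff.rfl
  have hkerD : ∀ x : D R A, x ∈ LinearMap.ker (Bialgebra.counitAlgHom R (D R A)).toLinearMap ↔
      counit (R := R) x = 0 := fun x => Iff.rfl
  have hDp := hpD (p := p) (R := R) (A := A) hp
  constructor
  · intro f g h
    apply Subtype.ext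
    have hf := (mem_eigenAug_iff χ i (f : D R A)).mp f.2
    have hg := (mem_eigenAug_iff χ i (g : D R A)).mp g.2
    have h1 := @hS.1 ⟨(f : D R A), (hkerD _).mpr hf.1⟩ ⟨(g : D R A), (hkerD _).mpr hg.1⟩ (by
      apply LinearMap.ext
      intro a
      simp only [LinearMap.comp_apply, Submodule.subtype_apply, CartDual.toDual_apply]
      have ha : counit (R := R) (a : A) = 0 := (hkerA _).mp a.2
      have e1 : (f : D R A) (a : A) = (f : D R A) (proj R A p u χ i (a : A)) := by
        rw [← proj_dual, proj_self_of_mem u hu χ i _ f.2]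
      have e2 : (g : D R A) (a : A) = (g : D R A) (proj R A p u χ i (a : A)) := by
        rw [← proj_dual, proj_self_of_mem u hu χ i _ g.2]
      change (f : D R A) (a : A) = (g : D R A) (a : A)
      rw [e1, e2]
      have h2 := LinearMap.congr_fun h ⟨_, proj_mem χ hp u i (a : A) ha⟩
      exact h2)
    exact congrArg (fun z : LinearMap.ker (Bialgebra.counitAlgHom R (D R A)).toLinearMap => (z : D R A)) h1
  · intro φ
    -- extend φ to the augmentation ideal
    let P : LinearMap.ker (Bialgebra.counitAlgHom R A).toLinearMap →ₗ[R] eigenAug R A p χ i :=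
      LinearMap.codRestrict _ ((proj R A p u χ i).comp (Submodule.subtype _))
        (fun a => proj_mem χ hp u i (a : A) ((hkerA _).mp a.2))
    obtain ⟨f₀, hf₀⟩ := hS.2 (φ.comp P)
    have hf₀c : counit (R := R) (f₀ : D R A) = 0 := (hkerD _).mp f₀.2
    refine ⟨⟨proj R (D R A) p u χ i (f₀ : D R A), proj_mem χ hDp u i _ hf₀c⟩, ?_⟩
    apply LinearMap.ext
    intro a
    simp only [LinearMap.comp_apply, Submodule.subtype_apply, CartDual.toDual_apply]
    change (proj R (D R A) p u χ i (f₀ : D R A)) (a : A) = φ a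
    rw [proj_dual, proj_self_of_mem u hu χ i _ a.2]
    have ha := (mem_eigenAug_iff χ i (a : A)).mp a.2
    have h3 := LinearMap.congr_fun hf₀ ⟨(a : A), (hkerA _).mpr ha.1⟩
    simp only [LinearMap.comp_apply, Submodule.subtype_apply, CartDual.toDual_apply] at h3
    change (f₀ : D R A) (a : A) = _ at h3
    rw [h3]
    congr 1
    apply Subtype.ext
    simp only [P, LinearMap.codRestrict_apply, LinearMap.comp_apply, Submodule.subtype_apply]
    exact proj_self_of_mem u hu χ i _ a.2

end main

end Groth.Agent.Lib.Helper14OTDual
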