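/-
Helper14ObsSpan (helper14): the obstruction `ω(p,u) ∈ V ⊗ J` of a vector-space obstruction theory
lies in `Ω ⊗ J`, `Ω` the span of the obstructions along tiny extensions.  Linear algebra: an element
of `V ⊗ J` all of whose contractions with functionals on `J` lie in `Ω` comes from `Ω ⊗ J`; for a
nonzero functional `l` the quotient `C'/ker l → C` is a small extension whose obstruction is the
contraction.
-/
import Mathlib
import Groth.Prelude.Def_ArtFun3

set_option autoImplicit false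
universe u v
open scoped TensorProduct
open CategoryTheory ArtFun ArtFun.Art

namespace Groth.Agent.Lib.Helper14.ObsSpan

section LA
variable {k : Type*} [Field k] {V J : Type*} [AddCommGroup V] [Module k V] [AddCommGroup J]
  [Module k J]

/-- contraction of `V ⊗ J` with a functional on `J` -/
noncomputable def contr (l : J →ₗ[k] k) : V ⊗[k] J →ₗ[k] V :=
  (TensorProduct.rid k V).toLinearMap ∘ₗ LinearMap.lTensor V l

lemma contr_tmul (l : J →ₗ[k] k) (v : V) (j : J) : contr l (v ⊗ₜ[k] j) = l j • v := by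
  simp [contr]

/-- an element of `W ⊗ J` all of whose contractions vanish is zero -/
lemma eq_zero_of_contr {W : Type*} [AddCommGroup W] [Module k W] (y : W ⊗[k] J)
    (h : ∀ l : J →ₗ[k] k, contr l y = 0) : y = 0 := by
  classical
  let b := Module.Basis.ofVectorSpace k J
  apply (TensorProduct.equivFinsuppOfBasisRight b).injective
  rw [map_zero]
  ext i
  have key : ∀ z : W ⊗[k] J, (TensorProduct.equivFinsuppOfBasisRight b) z i = contr (b.coord i) z := by
    intro z
    induction z using TensorProduct.induction_on with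
    | zero => simp
    | tmul w j =>
      rw [TensorProduct.equivFinsuppOfBasisRight_apply_tmul_apply, contr_tmul]
      rfl
    | add z1 z2 h1 h2 => rw [map_add, Finsupp.add_apply, h1, h2, map_add]
  rw [key, h]
  rfl

/-- if all contractions of `ω ∈ V ⊗ J` lie in a subspace `Ω`, then `ω` comes from `Ω ⊗ J` -/
lemma mem_range_rTensor_of_contr (Ω : Submodule k V) (ω : V ⊗[k] J)
    (h : ∀ l : J →ₗ[k] k, contr l ω ∈ Ω) :
    ω ∈ LinearMap.range (LinearMap.rTensor J Ω.subtype) := by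
  rw [← rTensor_mkQ, LinearMap.mem_ker]
  apply eq_zero_of_contr
  intro l
  have key : ∀ z : V ⊗[k] J, contr l (LinearMap.rTensor J Ω.mkQ z) = Ω.mkQ (contr l z) := by
    intro z
    induction z using TensorProduct.induction_on with
    | zero => simp
    | tmul v j =>
      rw [LinearMap.rTensor_tmul, contr_tmul, contr_tmul, map_smul]
    | add z1 z2 h1 h2 => simp only [map_add, h1, h2]
  rw [key]
  exact (Submodule.Quotient.mk_eq_zero _).mpr (h l)

end LA

section Art
variable {k : Type u} [Field k] {C' C : Art k k} (p : C' ⟶ C) (hp : IsSemismallExt p)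

lemma ker_le_max : RingHom.ker p.toAlgHom ≤ IsLocalRing.maximalIdeal C' := by
  intro c hc
  rw [mem_maximalIdeal_iff, ← res_app p c]
  rw [RingHom.mem_ker] at hc
  rw [hc, map_zero]

include hp in
lemma mul_eq_smul (c' c : C') (hc : c ∈ RingHom.ker p.toAlgHom) : c' * c = (C'.res c') • c := by
  have hn : c' - algebraMap k C' (C'.res c') ∈ IsLocalRing.maximalIdeal C' := by
    rw [mem_maximalIdeal_iff, map_sub, AlgHom.commutes, Algebra.algebraMap_self, RingHom.id_apply,
      sub_self]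
  have h0 : (c' - algebraMap k C' (C'.res c')) * c = 0 := by
    have : (c' - algebraMap k C' (C'.res c')) * c ∈
        IsLocalRing.maximalIdeal C' * RingHom.ker p.toAlgHom := Ideal.mul_mem_mul hn hc
    rw [hp.2] at this
    exact this
  rw [Algebra.smul_def]
  linear_combination h0

/-- the ideal `ker l ⊆ J` of `C'` for a functional `l` on `J = ker p` -/
def kerIdeal (l : ↥(RingHom.ker p.toAlgHom) →ₗ[k] k) : Ideal C' where
  carrier := {c | ∃ h : c ∈ RingHom.ker p.toAlgHom, l ⟨c, h⟩ = 0}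
  add_mem' := by
    rintro a b ⟨ha, ha'⟩ ⟨hb, hb'⟩
    refine ⟨(RingHom.ker p.toAlgHom).add_mem ha hb, ?_⟩
    have : (⟨a + b, (RingHom.ker p.toAlgHom).add_mem ha hb⟩ : ↥(RingHom.ker p.toAlgHom)) =
        ⟨a, ha⟩ + ⟨b, hb⟩ := rfl
    rw [this, map_add, ha', hb', add_zero]
  zero_mem' := by
    refine ⟨(RingHom.ker p.toAlgHom).zero_mem, ?_⟩
    have : (⟨0, (RingHom.ker p.toAlgHom).zero_mem⟩ : ↥(RingHom.ker p.toAlgHom)) = 0 := rfl
    rw [this, map_zero]
  smul_mem' := by
    rintro c' c ⟨hc, hc'⟩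
    refine ⟨(RingHom.ker p.toAlgHom).mul_mem_left c' hc, ?_⟩
    have : (⟨c' • c, (RingHom.ker p.toAlgHom).mul_mem_left c' hc⟩ : ↥(RingHom.ker p.toAlgHom)) =
        (C'.res c') • ⟨c, hc⟩ := Subtype.ext (mul_eq_smul p hp c' c hc)
    rw [this, map_smul, hc', smul_zero]

lemma mem_kerIdeal (l : ↥(RingHom.ker p.toAlgHom) →ₗ[k] k) (c : C') :
    c ∈ kerIdeal p hp l ↔ ∃ h : c ∈ RingHom.ker p.toAlgHom, l ⟨c, h⟩ = 0 := Iff.rfl

lemma kerIdeal_le_ker (l : ↥(RingHom.ker p.toAlgHom) →ₗ[k] k) :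
    kerIdeal p hp l ≤ RingHom.ker p.toAlgHom := fun _ hc => hc.1

lemma kerIdeal_le_max (l : ↥(RingHom.ker p.toAlgHom) →ₗ[k] k) :
    kerIdeal p hp l ≤ IsLocalRing.maximalIdeal C' :=
  (kerIdeal_le_ker p hp l).trans (ker_le_max p)

section Small
variable (l : ↥(RingHom.ker p.toAlgHom) →ₗ[k] k) (j0 : ↥(RingHom.ker p.toAlgHom)) (hj0 : l j0 = 1)

/-- the quotient object `C'/ker l` -/
noncomputable abbrev QQ : Art k k := quot C' (kerIdeal p hp l) (kerIdeal_le_max p hp l)

/-- the factored map `C'/ker l ⟶ C` -/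
noncomputable abbrev qq : QQ p hp l ⟶ C :=
  quotFactor (kerIdeal_le_max p hp l) p (kerIdeal_le_ker p hp l)

/-- the projection `C' → C'/ker l` -/
noncomputable abbrev mkq : C' →ₐ[k] QQ p hp l :=
  (quotMk C' (kerIdeal p hp l) (kerIdeal_le_max p hp l)).toAlgHom

lemma mkq_surjective : Function.Surjective (mkq p hp l) :=
  quotMk_surjective C' (kerIdeal p hp l) (kerIdeal_le_max p hp l)

lemma mkq_eq_zero_iff (c : C') : mkq p hp l c = 0 ↔ c ∈ kerIdeal p hp l :=
  Ideal.Quotient.eq_zero_iff_mem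

lemma qq_mkq (c : C') : (qq p hp l).toAlgHom (mkq p hp l c) = p.toAlgHom c := rfl

lemma exists_of_mem_ker_qq (x : QQ p hp l) (hx : x ∈ RingHom.ker (qq p hp l).toAlgHom) :
    ∃ j : ↥(RingHom.ker p.toAlgHom), x = mkq p hp l (j : C') := by
  obtain ⟨c, rfl⟩ := mkq_surjective p hp l x
  rw [RingHom.mem_ker, qq_mkq] at hx
  exact ⟨⟨c, hx⟩, rfl⟩

include hj0 in
lemma mkq_eq_smul (j : ↥(RingHom.ker p.toAlgHom)) :
    mkq p hp l (j : C') = (l j) • mkq p hp l (j0 : C') := by
  rw [← map_smul, ← sub_eq_zero, ← map_sub, mkq_eq_zero_iff, mem_kerIdeal]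
  have hmem : (j : C') - (l j) • (j0 : C') ∈ RingHom.ker p.toAlgHom :=
    (RingHom.ker p.toAlgHom).sub_mem j.2 ((l j) • j0).2
  refine ⟨hmem, ?_⟩
  have : (⟨(j : C') - (l j) • (j0 : C'), hmem⟩ : ↥(RingHom.ker p.toAlgHom)) = j - l j • j0 := rfl
  rw [this, map_sub, map_smul, hj0, smul_eq_mul, mul_one, sub_self]

lemma mkq_mem_ker_qq (j : ↥(RingHom.ker p.toAlgHom)) :
    mkq p hp l (j : C') ∈ RingHom.ker (qq p hp l).toAlgHom := by
  rw [RingHom.mem_ker, qq_mkq]
  exact j.2

include hj0 in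
lemma mkq_j0_ne_zero : mkq p hp l (j0 : C') ≠ 0 := by
  intro h
  rw [mkq_eq_zero_iff, mem_kerIdeal] at h
  obtain ⟨h1, h2⟩ := h
  have : (⟨(j0 : C'), h1⟩ : ↥(RingHom.ker p.toAlgHom)) = j0 := rfl
  rw [this, hj0] at h2
  exact one_ne_zero h2

include hj0 in
lemma isSmallExt_qq : IsSmallExt (qq p hp l) := by
  refine ⟨?_, ?_, ?_, ?_⟩
  · intro c
    obtain ⟨c', hc'⟩ := hp.1 c
    exact ⟨mkq p hp l c', hc'⟩
  · intro h
    have := mkq_mem_ker_qq p hp l j0
    rw [h, Ideal.mem_bot] at this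
    exact mkq_j0_ne_zero p hp l j0 hj0 this
  · refine ⟨⟨mkq p hp l (j0 : C'), le_antisymm ?_ ?_⟩⟩
    · intro x hx
      obtain ⟨j, rfl⟩ := exists_of_mem_ker_qq p hp l x hx
      rw [mkq_eq_smul p hp l j0 hj0 j, Algebra.smul_def]
      exact Ideal.mul_mem_left _ _ (Ideal.subset_span rfl)
    · change Ideal.span _ ≤ _
      rw [Ideal.span_le, Set.singleton_subset_iff]
      exact mkq_mem_ker_qq p hp l j0
  · rw [eq_bot_iff, Ideal.mul_le]
    intro m hm x hx
    obtain ⟨j, rfl⟩ := exists_of_mem_ker_qq p hp l x hx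
    obtain ⟨c, rfl⟩ := mkq_surjective p hp l m
    have hc : c ∈ IsLocalRing.maximalIdeal C' := by
      rw [mem_maximalIdeal_iff] at hm ⊢
      exact hm
    have h0 : c * (j : C') = 0 := by
      have : c * (j : C') ∈ IsLocalRing.maximalIdeal C' * RingHom.ker p.toAlgHom :=
        Ideal.mul_mem_mul hc j.2
      rw [hp.2] at this
      exact this
    rw [Ideal.mem_bot, ← map_mul, h0, map_zero]

/-- the generator of `ker qq` -/
noncomputable def x0 : ↥(RingHom.ker (qq p hp l).toAlgHom) :=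
  ⟨mkq p hp l (j0 : C'), mkq_mem_ker_qq p hp l j0⟩

/-- `a ↦ a • x0` -/
noncomputable def psi : k →ₗ[k] ↥(RingHom.ker (qq p hp l).toAlgHom) :=
  LinearMap.toSpanSingleton k _ (x0 p hp l j0)

lemma psi_apply (a : k) : psi p hp l j0 a = a • x0 p hp l j0 := rfl

include hj0 in
lemma psi_bijective : Function.Bijective (psi p hp l j0) := by
  constructor
  · rw [injective_iff_map_eq_zero]
    intro a ha
    by_contra hne
    have h1 : x0 p hp l j0 = 0 := by
      have := congrArg (fun y => a⁻¹ • y) ha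
      simpa [psi_apply, smul_smul, inv_mul_cancel₀ hne] using this
    exact mkq_j0_ne_zero p hp l j0 hj0 (congrArg Subtype.val h1)
  · intro x
    obtain ⟨j, hj⟩ := exists_of_mem_ker_qq p hp l x.1 x.2
    refine ⟨l j, Subtype.ext ?_⟩
    rw [hj, mkq_eq_smul p hp l j0 hj0 j]
    rfl

/-- the identification `ker qq ≃ k` -/
noncomputable def phi : ↥(RingHom.ker (qq p hp l).toAlgHom) ≃ₗ[k] k :=
  (LinearEquiv.ofBijective (psi p hp l j0) (psi_bijective p hp l j0 hj0)).symm

lemma phi_kerToQuot (j : ↥(RingHom.ker p.toAlgHom)) :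
    phi p hp l j0 hj0 (kerToQuot (kerIdeal_le_max p hp l) p (kerIdeal_le_ker p hp l) j) = l j := by
  rw [phi, LinearEquiv.symm_apply_eq]
  apply Subtype.ext
  change mkq p hp l (j : C') = _
  rw [mkq_eq_smul p hp l j0 hj0 j]
  rfl

end Small

theorem obs_mem {F : Art k k ⥤ Type v} {V : Type u} [AddCommGroup V] [Module k V]
    (T : ObsTheory F V) (u : F.obj C) :
    T.obs p hp u ∈ LinearMap.range (LinearMap.rTensor (↥(RingHom.ker p.toAlgHom))
      (Submodule.span k {v : V | ∃ (B' B : Art k k) (t : B' ⟶ B) (ht : IsSmallExt t)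
          (w : F.obj B) (φ : ↥(RingHom.ker t.toAlgHom) ≃ₗ[k] k),
          v = TensorProduct.rid k V (LinearMap.lTensor V φ.toLinearMap
            (T.obs t ht.isSemismallExt w))}).subtype) := by
  apply mem_range_rTensor_of_contr
  intro l
  by_cases hl : l = 0
  · subst hl
    have : contr (V := V) (0 : ↥(RingHom.ker p.toAlgHom) →ₗ[k] k) (T.obs p hp u) = 0 := by
      simp [contr]
    rw [this]
    exact zero_mem _
  · obtain ⟨j0, hj0⟩ : ∃ j0, l j0 = 1 := by
      have : ∃ j, l j ≠ 0 := by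
        by_contra h
        push Not at h
        exact hl (LinearMap.ext h)
      obtain ⟨j, hj⟩ := this
      exact ⟨(l j)⁻¹ • j, by rw [map_smul, smul_eq_mul, inv_mul_cancel₀ hj]⟩
    apply Submodule.subset_span
    refine ⟨QQ p hp l, C, qq p hp l, isSmallExt_qq p hp l j0 hj0, u, phi p hp l j0 hj0, ?_⟩
    rw [T.obs_quot p hp (kerIdeal p hp l) (kerIdeal_le_max p hp l) (kerIdeal_le_ker p hp l)
      (isSmallExt_qq p hp l j0 hj0).isSemismallExt u, ← LinearMap.comp_apply,
      ← LinearMap.lTensor_comp]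
    have : (phi p hp l j0 hj0).toLinearMap ∘ₗ
        (kerToQuot (kerIdeal_le_max p hp l) p (kerIdeal_le_ker p hp l)).restrictScalars k = l :=
      LinearMap.ext (phi_kerToQuot p hp l j0 hj0)
    rw [this]
    rfl

end Art

end Groth.Agent.Lib.Helper14.ObsSpan
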