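import Mathlib

/-!
# `A[T_i]/(T_i^p + p(..) − f_i)` over a local ring with `m² = 0`, `f̄_i` `p`-independent (helper14)

EGA 0_IV 22-type statement: `A'` is local with maximal ideal `mA'`.  Proof: reduced monomials span
`A'` over `A`; the ring hom `Φ : A' → K̄`, `T_i ↦ f̄_i^{1/p}` has `Φ(z)^p = Σ l̄_e^p f̄^e`, nonzero
unless all `l_e ∈ m` by `p`-independence; hence `ker Φ = mA'` and everything outside is a unit.
-/

namespace Groth.Agent.Lib.Helper14.PQuot

open IsLocalRing

universe u

variable {A : Type u} [CommRing A] (p : ℕ) {ι : Type u} (c : ι → Fin p → A) (f : ι → A)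

/-- `F_i = T_i^p + p Σ_{k=1}^{p-1} c_{ik} T_i^{p-k} − f_i`. -/
noncomputable def F (i : ι) : MvPolynomial ι A :=
  MvPolynomial.X i ^ p + (p : MvPolynomial ι A) * (Finset.univ.sum fun j : Fin p =>
    if (j : ℕ) = 0 then 0 else MvPolynomial.C (c i j) * MvPolynomial.X i ^ (p - (j : ℕ))) -
      MvPolynomial.C (f i)

/-- `A' = A[T_i]/(F_i)` -/
abbrev Q := MvPolynomial ι A ⧸ Ideal.span (Set.range (F p c f))

/-- the class of `T_i` -/
noncomputable def x (i : ι) : Q p c f := Ideal.Quotient.mk _ (MvPolynomial.X i)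

theorem rel (i : ι) :
    x p c f i ^ p = algebraMap A (Q p c f) (f i) - (p : Q p c f) * (Finset.univ.sum fun j : Fin p =>
      if (j : ℕ) = 0 then 0 else algebraMap A (Q p c f) (c i j) * x p c f i ^ (p - (j : ℕ))) := by
  have h : Ideal.Quotient.mk (Ideal.span (Set.range (F p c f))) (F p c f i) = 0 :=
    Ideal.Quotient.eq_zero_iff_mem.mpr (Ideal.subset_span ⟨i, rfl⟩)
  rw [F, map_sub, map_add, map_pow, map_mul, map_natCast, map_sum] at h
  have h2 : ∀ j : Fin p, (Ideal.Quotient.mk (Ideal.span (Set.range (F p c f))))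
      (if (j : ℕ) = 0 then 0 else MvPolynomial.C (c i j) * MvPolynomial.X i ^ (p - (j : ℕ))) =
      if (j : ℕ) = 0 then 0 else algebraMap A (Q p c f) (c i j) * x p c f i ^ (p - (j : ℕ)) := by
    intro j
    split_ifs
    · rw [map_zero]
    · rw [map_mul, map_pow]; rfl
  simp_rw [h2] at h
  have h3 : (Ideal.Quotient.mk (Ideal.span (Set.range (F p c f)))) (MvPolynomial.C (f i)) =
      algebraMap A (Q p c f) (f i) := rfl
  have hx : (Ideal.Quotient.mk (Ideal.span (Set.range (F p c f)))) (MvPolynomial.X i) =
      x p c f i := rfl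
  rw [h3, hx] at h
  linear_combination h

theorem smul_eq (a : A) (z : Q p c f) : a • z = algebraMap A (Q p c f) a * z :=
  Algebra.smul_def a z

/-- monomials in the `x_i` -/
noncomputable def mon (e : ι →₀ ℕ) : Q p c f := e.prod fun i n => x p c f i ^ n

theorem mon_add (e e' : ι →₀ ℕ) : mon p c f (e + e') = mon p c f e * mon p c f e' := by
  rw [mon, Finsupp.prod_add_index']
  · rfl
  · intro i; exact pow_zero _
  · intro i a b; exact pow_add _ _ _

theorem mon_single (i : ι) (n : ℕ) : mon p c f (Finsupp.single i n) = x p c f i ^ n := by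
  rw [mon, Finsupp.prod_single_index]
  exact pow_zero _

/-- the `A`-span of the reduced monomials -/
noncomputable def S : Submodule A (Q p c f) :=
  Submodule.span A (Set.range fun e : {e : ι →₀ ℕ // ∀ i, e i < p} => mon p c f e.1)

theorem mon_mem_S (hp : 0 < p) (e : ι →₀ ℕ) : mon p c f e ∈ S p c f := by
  induction' h : e.degree using Nat.strong_induction_on with n ih generalizing e
  by_cases he : ∀ i, e i < p
  · exact Submodule.subset_span ⟨⟨e, he⟩, rfl⟩
  · push Not at he
    obtain ⟨i, hi⟩ := he
    have hle : Finsupp.single i p ≤ e := Finsupp.single_le_iff.mpr hi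
    obtain ⟨e', he'⟩ : ∃ e', e = e' + Finsupp.single i p :=
      ⟨e - Finsupp.single i p, (tsub_add_cancel_of_le hle).symm⟩
    subst he'
    have hdeg : (e' + Finsupp.single i p).degree = e'.degree + p := by
      rw [map_add, Finsupp.degree_single]
    rw [mon_add, mon_single, rel, mul_sub, Finset.mul_sum, Finset.mul_sum]
    refine sub_mem ?_ (Submodule.sum_mem _ fun j _ => ?_)
    · have h1 := ih e'.degree (by rw [← h, hdeg]; omega) e' rfl
      have : mon p c f e' * algebraMap A (Q p c f) (f i) = f i • mon p c f e' := by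
        rw [smul_eq, mul_comm]
      rw [this]
      exact Submodule.smul_mem _ _ h1
    · split_ifs with hj
      · simp
      · have hjp : (j : ℕ) < p := j.2
        have h1 := ih (e' + Finsupp.single i (p - (j : ℕ))).degree (by
          rw [← h, hdeg, map_add, Finsupp.degree_single]; omega) _ rfl
        have : mon p c f e' * ((p : Q p c f) * (algebraMap A (Q p c f) (c i j) *
            x p c f i ^ (p - (j : ℕ)))) =
            ((p : A) * c i j) • mon p c f (e' + Finsupp.single i (p - (j : ℕ))) := by
          rw [mon_add, mon_single, smul_eq, map_mul, map_natCast]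
          ring
        rw [this]
        exact Submodule.smul_mem _ _ h1

theorem S_eq_top (hp : 0 < p) : S p c f = ⊤ := by
  rw [eq_top_iff]
  rintro z -
  obtain ⟨q, rfl⟩ := Ideal.Quotient.mk_surjective z
  induction q using MvPolynomial.induction_on' with
  | monomial u a =>
    rw [MvPolynomial.monomial_eq, map_mul, map_finsuppProd]
    have : (Ideal.Quotient.mk (Ideal.span (Set.range (F p c f)))) (MvPolynomial.C a) *
        (u.prod fun i n => (Ideal.Quotient.mk (Ideal.span (Set.range (F p c f))))
          (MvPolynomial.X i ^ n)) = a • mon p c f u := by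
      rw [smul_eq, mon]
      congr 1
    rw [this]
    exact Submodule.smul_mem _ _ (mon_mem_S p c f hp u)
  | add q q' hq hq' => rw [map_add]; exact add_mem hq hq'

section Local

variable [IsLocalRing A] [hpp : Fact p.Prime] [CharP (ResidueField A) p]

omit hpp in
/-- `p ∈ m` -/
theorem natCast_mem : (p : A) ∈ maximalIdeal A := by
  rw [← residue_eq_zero_iff, map_natCast]
  exact CharP.cast_eq_zero _ p

/-- `A → K̄` -/
noncomputable def phi : A →+* AlgebraicClosure (ResidueField A) :=
  (algebraMap (ResidueField A) (AlgebraicClosure (ResidueField A))).comp (residue A)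

omit [CharP (ResidueField A) p] in
include hpp in
theorem exists_rho (i : ι) : ∃ z : AlgebraicClosure (ResidueField A), z ^ p = phi (f i) :=
  IsAlgClosed.exists_pow_nat_eq _ hpp.out.pos

/-- a `p`-th root of `f̄_i` -/
noncomputable def rho (i : ι) : AlgebraicClosure (ResidueField A) :=
  Classical.choose (exists_rho p f i)

omit [CharP (ResidueField A) p] in
theorem rho_pow (i : ι) : rho p f i ^ p = phi (f i) := Classical.choose_spec (exists_rho p f i)

/-- `Φ : A' → K̄`, `T_i ↦ f̄_i^{1/p}`. -/
noncomputable def Phi : Q p c f →+* AlgebraicClosure (ResidueField A) :=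
  Ideal.Quotient.lift _ (MvPolynomial.eval₂Hom phi (rho p f)) (by
    intro q hq
    have : Ideal.span (Set.range (F p c f)) ≤
        RingHom.ker (MvPolynomial.eval₂Hom (phi (A := A)) (rho p f)) := by
      rw [Ideal.span_le]
      rintro _ ⟨i, rfl⟩
      rw [SetLike.mem_coe, RingHom.mem_ker, F, map_sub, map_add, map_mul, map_natCast,
        CharP.cast_eq_zero, zero_mul, add_zero, map_pow, MvPolynomial.eval₂Hom_X',
        MvPolynomial.eval₂Hom_C, rho_pow, sub_self]
    exact this hq)

theorem Phi_x (i : ι) : Phi p c f (x p c f i) = rho p f i := by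
  simp [Phi, x]

theorem Phi_algebraMap (a : A) : Phi p c f (algebraMap A (Q p c f) a) = phi a := by
  change Phi p c f (Ideal.Quotient.mk _ (MvPolynomial.C a)) = _
  simp [Phi]

theorem Phi_mon_pow (e : ι →₀ ℕ) : Phi p c f (mon p c f e) ^ p =
    algebraMap (ResidueField A) (AlgebraicClosure (ResidueField A))
      (e.prod fun i n => residue A (f i) ^ n) := by
  rw [mon, map_finsuppProd, map_finsuppProd, Finsupp.prod, Finsupp.prod, ← Finset.prod_pow]
  refine Finset.prod_congr rfl fun i _ => ?_
  rw [map_pow, map_pow, Phi_x, ← pow_mul, mul_comm, pow_mul, rho_pow]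
  rfl

theorem Phi_sum_pow (l : {e : ι →₀ ℕ // ∀ i, e i < p} →₀ A) :
    Phi p c f (l.sum fun e a => a • mon p c f e.1) ^ p =
    algebraMap (ResidueField A) (AlgebraicClosure (ResidueField A))
      (l.sum fun e a => residue A a ^ p * (e.1.prod fun i n => residue A (f i) ^ n)) := by
  rw [Finsupp.sum, Finsupp.sum, map_sum, sum_pow_char, map_sum]
  refine Finset.sum_congr rfl fun e _ => ?_
  rw [smul_eq, map_mul, mul_pow, Phi_mon_pow, Phi_algebraMap, map_mul, map_pow]
  rfl

theorem mem_of_sum_eq_zero
    (hind : LinearIndependent (↥(frobenius (ResidueField A) p).fieldRange)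
      (fun e : {e : ι →₀ ℕ // ∀ i, e i < p} => e.1.prod fun i n => residue A (f i) ^ n))
    (l : {e : ι →₀ ℕ // ∀ i, e i < p} →₀ A)
    (h : (l.sum fun e a => residue A a ^ p * (e.1.prod fun i n => residue A (f i) ^ n)) = 0)
    (e : {e : ι →₀ ℕ // ∀ i, e i < p}) : l e ∈ maximalIdeal A := by
  by_cases he : e ∈ l.support
  · rw [linearIndependent_iff'] at hind
    have h1 := hind l.support
      (fun e => ⟨residue A (l e) ^ p, ⟨residue A (l e), by rw [frobenius_def]⟩⟩) (by
        rw [← h, Finsupp.sum]
        rfl) e he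
    have h2 : residue A (l e) ^ p = 0 := congrArg Subtype.val h1
    rw [← residue_eq_zero_iff]
    exact pow_eq_zero_iff (hpp.out.ne_zero) |>.mp h2
  · rw [Finsupp.notMem_support_iff] at he
    rw [he]
    exact zero_mem _

theorem key
    (hind : LinearIndependent (↥(frobenius (ResidueField A) p).fieldRange)
      (fun e : {e : ι →₀ ℕ // ∀ i, e i < p} => e.1.prod fun i n => residue A (f i) ^ n))
    (z : Q p c f) :
    z ∈ Ideal.map (algebraMap A (Q p c f)) (maximalIdeal A) ∨
      ∃ u : ResidueField A, u ≠ 0 ∧ Phi p c f z ^ p =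
        algebraMap (ResidueField A) (AlgebraicClosure (ResidueField A)) u := by
  have hz : z ∈ S p c f := by rw [S_eq_top p c f hpp.out.pos]; trivial
  obtain ⟨l, rfl⟩ := Finsupp.mem_span_range_iff_exists_finsupp.mp hz
  by_cases h : (l.sum fun e a => residue A a ^ p *
      (e.1.prod fun i n => residue A (f i) ^ n)) = 0
  · left
    rw [Finsupp.sum]
    refine Ideal.sum_mem _ fun e _ => ?_
    rw [smul_eq]
    exact Ideal.mul_mem_right _ _ (Ideal.mem_map_of_mem _ (mem_of_sum_eq_zero p f hind l h e))
  · right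
    exact ⟨_, h, Phi_sum_pow p c f l⟩

theorem map_le_ker_Phi :
    Ideal.map (algebraMap A (Q p c f)) (maximalIdeal A) ≤ RingHom.ker (Phi p c f) := by
  rw [Ideal.map_le_iff_le_comap]
  intro a ha
  rw [Ideal.mem_comap, RingHom.mem_ker, Phi_algebraMap, phi, RingHom.comp_apply,
    (residue_eq_zero_iff a).mpr ha, map_zero]

theorem ker_Phi_le
    (hind : LinearIndependent (↥(frobenius (ResidueField A) p).fieldRange)
      (fun e : {e : ι →₀ ℕ // ∀ i, e i < p} => e.1.prod fun i n => residue A (f i) ^ n)) :
    RingHom.ker (Phi p c f) ≤ Ideal.map (algebraMap A (Q p c f)) (maximalIdeal A) := by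
  intro z hz
  rcases key p c f hind z with h | ⟨u, hu, h⟩
  · exact h
  · rw [RingHom.mem_ker] at hz
    rw [hz, zero_pow hpp.out.ne_zero] at h
    exact absurd ((map_eq_zero _).mp h.symm) hu

omit hpp [CharP (ResidueField A) p] in
theorem map_le_nilradical (hm : maximalIdeal A ^ 2 = ⊥) :
    Ideal.map (algebraMap A (Q p c f)) (maximalIdeal A) ≤ nilradical (Q p c f) := by
  have hmap2 : (Ideal.map (algebraMap A (Q p c f)) (maximalIdeal A)) ^ 2 = ⊥ := by
    rw [← Ideal.map_pow, hm, Ideal.map_bot]
  intro y hy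
  rw [mem_nilradical]
  refine ⟨2, ?_⟩
  have := Ideal.pow_mem_pow hy 2
  rw [hmap2] at this
  exact this

theorem isUnit_of_notMem (hm : maximalIdeal A ^ 2 = ⊥)
    (hind : LinearIndependent (↥(frobenius (ResidueField A) p).fieldRange)
      (fun e : {e : ι →₀ ℕ // ∀ i, e i < p} => e.1.prod fun i n => residue A (f i) ^ n))
    (z : Q p c f) (hz : z ∉ Ideal.map (algebraMap A (Q p c f)) (maximalIdeal A)) : IsUnit z := by
  rcases key p c f hind z with h | ⟨u, hu, h⟩
  · exact absurd h hz
  · obtain ⟨a, rfl⟩ := residue_surjective u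
    have hau : IsUnit a := by
      by_contra hcon
      exact hu ((residue_eq_zero_iff a).mpr hcon)
    have hw : z ^ p - algebraMap A (Q p c f) a ∈ RingHom.ker (Phi p c f) := by
      rw [RingHom.mem_ker, map_sub, map_pow, h, Phi_algebraMap, phi, RingHom.comp_apply, sub_self]
    have hnil : IsNilpotent (z ^ p - algebraMap A (Q p c f) a) :=
      mem_nilradical.mp (map_le_nilradical p c f hm (ker_Phi_le p c f hind hw))
    have := hnil.isUnit_add_left_of_commute (hau.map (algebraMap A (Q p c f))) (Commute.all _ _)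
    rw [add_sub_cancel] at this
    exact (isUnit_pow_iff hpp.out.ne_zero).mp this

theorem main (hm : maximalIdeal A ^ 2 = ⊥)
    (hind : LinearIndependent (↥(frobenius (ResidueField A) p).fieldRange)
      (fun e : {e : ι →₀ ℕ // ∀ i, e i < p} => e.1.prod fun i n => residue A (f i) ^ n)) :
    ∃ _ : IsLocalRing (Q p c f),
      maximalIdeal (Q p c f) = (maximalIdeal A).map (algebraMap A (Q p c f)) := by
  haveI : Nontrivial (Q p c f) := (Phi p c f).domain_nontrivial
  have hloc : IsLocalRing (Q p c f) := by
    refine IsLocalRing.of_isUnit_or_isUnit_one_sub_self fun z => ?_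
    by_cases hz : z ∈ Ideal.map (algebraMap A (Q p c f)) (maximalIdeal A)
    · exact Or.inr (mem_nilradical.mp (map_le_nilradical p c f hm hz)).isUnit_one_sub
    · exact Or.inl (isUnit_of_notMem p c f hm hind z hz)
  refine ⟨hloc, ?_⟩
  apply le_antisymm
  · intro z hz
    by_contra hcon
    exact (IsLocalRing.mem_maximalIdeal z).mp hz (isUnit_of_notMem p c f hm hind z hcon)
  · intro z hz
    rw [IsLocalRing.mem_maximalIdeal, mem_nonunits_iff]
    exact (mem_nilradical.mp (map_le_nilradical p c f hm hz)).not_isUnit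

end Local

end Groth.Agent.Lib.Helper14.PQuot
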