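/-
Helper14PerfRoot (helper14): for `k ⊆ K ⊆ Ω` of characteristic `p`, `Ω` algebraically closed, the
compositum `k^{p^{-e}} K` is separable over `k^{p^{-e}}` iff `x^{p^e}` is separable over `k` for
all `x ∈ K`.  Method: Frobenius-twisting of minimal polynomials (`Polynomial.lifts`,
`separable_map`).
-/
import Mathlib

set_option autoImplicit false
universe u
open Polynomial

namespace Groth.Agent.Lib.Helper14.PerfRoot

section root
variable {k : Type*} [Field k] (p : ℕ) [Fact p.Prime] [CharP k p]
  {Ω : Type*} [Field Ω] [Algebra k Ω] [IsAlgClosed Ω] (e : ℕ)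

/-- the field `k^{p^{-e}}` of `p^e`-th roots of elements of `k` -/
def rootField [CharP Ω p] : IntermediateField k Ω where
  carrier := {y | y ^ (p ^ e) ∈ Set.range (algebraMap k Ω)}
  mul_mem' := by
    rintro a b ⟨x, hx⟩ ⟨y, hy⟩
    exact ⟨x * y, by rw [map_mul, hx, hy, mul_pow]⟩
  one_mem' := ⟨1, by simp⟩
  add_mem' := by
    rintro a b ⟨x, hx⟩ ⟨y, hy⟩
    exact ⟨x + y, by rw [map_add, hx, hy, add_pow_char_pow]⟩
  zero_mem' := ⟨0, by simp [zero_pow (pow_ne_zero e (Fact.out : p.Prime).ne_zero)]⟩
  algebraMap_mem' := fun r => ⟨r ^ (p ^ e), by rw [map_pow]⟩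
  inv_mem' := by
    rintro a ⟨x, hx⟩
    exact ⟨x⁻¹, by rw [map_inv₀, hx, inv_pow]⟩

omit [CharP k p] [IsAlgClosed Ω] in
lemma adjoin_eq_rootField [CharP Ω p] :
    IntermediateField.adjoin k {y : Ω | y ^ (p ^ e) ∈ Set.range (algebraMap k Ω)} =
      rootField (k := k) (Ω := Ω) p e := by
  apply le_antisymm
  · rw [IntermediateField.adjoin_le_iff]
    intro y hy
    exact hy
  · intro y hy
    exact IntermediateField.subset_adjoin k _ hy

end root

section main
variable {k : Type*} [Field k] (p : ℕ) [Fact p.Prime]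
  {Ω : Type*} [Field Ω] [Algebra k Ω] [CharP Ω p] (e : ℕ)
  (L : IntermediateField k Ω)

/-- evaluation commutes with the iterated Frobenius -/
lemma eval_map_frob (g : Polynomial Ω) (x : Ω) :
    (g.map (iterateFrobenius Ω p e)).eval (x ^ p ^ e) = (g.eval x) ^ p ^ e := by
  rw [eval_map, ← iterateFrobenius_def, eval₂_at_apply, iterateFrobenius_def]

/-- if `x^{p^e}` is separable over `k` and `L ⊇ k^{p^{-e}}`, then `x` is separable over `L` -/
lemma isSeparable_of_pow [IsAlgClosed Ω]
    (hb : ∀ y : Ω, y ^ (p ^ e) ∈ Set.range (algebraMap k Ω) → y ∈ L)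
    (x : Ω) (hx : IsSeparable k (x ^ p ^ e)) : IsSeparable L x := by
  have hpe : 0 < p ^ e := pow_pos (Fact.out : p.Prime).pos e
  set f := minpoly k (x ^ p ^ e) with hf
  have hfsep : f.Separable := hx
  have hsurj : Function.Surjective (iterateFrobenius Ω p e) := by
    intro y
    obtain ⟨z, hz⟩ := IsAlgClosed.exists_pow_nat_eq y hpe
    exact ⟨z, by rw [iterateFrobenius_def, hz]⟩
  obtain ⟨gΩ, hgΩ⟩ := (mem_lifts _).mp
    (mem_lifts_of_surjective hsurj (f.map (algebraMap k Ω)))
  have hglift : gΩ ∈ lifts (algebraMap L Ω) := by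
    rw [lifts_iff_coeff_lifts]
    intro n
    have h1 : (gΩ.coeff n) ^ p ^ e = algebraMap k Ω (f.coeff n) := by
      have := congrArg (fun q => q.coeff n) hgΩ
      simpa [coeff_map, iterateFrobenius_def] using this
    exact ⟨⟨gΩ.coeff n, hb _ ⟨f.coeff n, h1.symm⟩⟩, rfl⟩
  obtain ⟨g, hg⟩ := (mem_lifts _).mp hglift
  have hgsep : g.Separable := by
    rw [← separable_map (algebraMap L Ω), hg, ← separable_map (iterateFrobenius Ω p e), hgΩ]
    exact hfsep.map
  have hroot : aeval x g = 0 := by
    rw [aeval_def, eval₂_eq_eval_map, hg]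
    have h2 : (gΩ.eval x) ^ p ^ e = 0 := by
      rw [← eval_map_frob, hgΩ, eval_map, ← aeval_def, hf]
      exact minpoly.aeval k _
    exact pow_eq_zero_iff (hpe.ne') |>.mp h2
  exact hgsep.of_dvd (minpoly.dvd L x hroot)

/-- if `x` is separable over `L ⊆ k^{p^{-e}}`, then `x^{p^e}` is separable over `k` -/
lemma isSeparable_pow_of
    (ha : ∀ c ∈ L, c ^ (p ^ e) ∈ Set.range (algebraMap k Ω))
    (x : Ω) (hx : IsSeparable L x) : IsSeparable k (x ^ p ^ e) := by
  set h := minpoly L x with hh
  have hsep : h.Separable := hx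
  set h' := (h.map (algebraMap L Ω)).map (iterateFrobenius Ω p e) with hh'
  have hlift : h' ∈ lifts (algebraMap k Ω) := by
    rw [lifts_iff_coeff_lifts]
    intro n
    rw [hh', coeff_map, coeff_map, iterateFrobenius_def]
    exact ha _ (h.coeff n).2
  obtain ⟨F, hF⟩ := (mem_lifts _).mp hlift
  have hFsep : F.Separable := by
    rw [← separable_map (algebraMap k Ω), hF, hh']
    exact hsep.map.map
  have hroot : aeval (x ^ p ^ e) F = 0 := by
    rw [aeval_def, eval₂_eq_eval_map, hF, hh', eval_map_frob, eval_map, ← aeval_def, hh,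
      minpoly.aeval, zero_pow (pow_pos (Fact.out : p.Prime).pos e).ne']
  exact hFsep.of_dvd (minpoly.dvd k _ hroot)

end main

section final
variable {k : Type*} [Field k] (p : ℕ) [Fact p.Prime] [CharP k p]
  {K : Type*} [Field K] [Algebra k K]
  {Ω : Type*} [Field Ω] [Algebra k Ω] [Algebra K Ω] [IsScalarTower k K Ω] [IsAlgClosed Ω] (e : ℕ)

theorem main_iff :
    (∀ x : Ω, x ∈ IntermediateField.adjoin k {y : Ω | y ^ (p ^ e) ∈ Set.range (algebraMap k Ω)} ⊔
        IntermediateField.adjoin k (Set.range (algebraMap K Ω)) →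
      IsSeparable (IntermediateField.adjoin k {y : Ω | y ^ (p ^ e) ∈ Set.range (algebraMap k Ω)}) x) ↔
    ∀ x : K, x ^ (p ^ e) ∈ separableClosure k K := by
  have : CharP Ω p := charP_of_injective_algebraMap (algebraMap k Ω).injective p
  rw [adjoin_eq_rootField p e]
  have ha : ∀ c ∈ rootField (k := k) (Ω := Ω) p e, c ^ (p ^ e) ∈ Set.range (algebraMap k Ω) :=
    fun c hc => hc
  have hb : ∀ y : Ω, y ^ (p ^ e) ∈ Set.range (algebraMap k Ω) →
      y ∈ rootField (k := k) (Ω := Ω) p e := fun y hy => hy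
  constructor
  · intro H x
    rw [mem_separableClosure_iff]
    have h1 := H (algebraMap K Ω x) ((le_sup_right :
      IntermediateField.adjoin k (Set.range (algebraMap K Ω)) ≤ _)
        (IntermediateField.subset_adjoin k _ ⟨x, rfl⟩))
    have h2 := isSeparable_pow_of p e _ ha _ h1
    rw [← map_pow] at h2
    rwa [IsSeparable, minpoly.algebraMap_eq (algebraMap K Ω).injective] at h2
  · intro H x hx
    have hle : rootField (k := k) (Ω := Ω) p e ⊔
        IntermediateField.adjoin k (Set.range (algebraMap K Ω)) ≤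
        (separableClosure (rootField (k := k) (Ω := Ω) p e) Ω).restrictScalars k := by
      apply sup_le
      · intro c hc
        exact (separableClosure (rootField (k := k) (Ω := Ω) p e) Ω).algebraMap_mem ⟨c, hc⟩
      · rw [IntermediateField.adjoin_le_iff]
        rintro _ ⟨x, rfl⟩
        change algebraMap K Ω x ∈ separableClosure (rootField (k := k) (Ω := Ω) p e) Ω
        rw [mem_separableClosure_iff]
        apply isSeparable_of_pow p e _ hb
        rw [← map_pow]
        have := H x
        rw [mem_separableClosure_iff] at this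
        rwa [IsSeparable, minpoly.algebraMap_eq (algebraMap K Ω).injective]
    exact mem_separableClosure_iff.mp (hle hx)

end final

end Groth.Agent.Lib.Helper14.PerfRoot
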