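import Mathlib
import Groth.Prelude.Def_PolLaw
import Groth.Prelude.Def_PolLaw2
import Groth.Agent.Lib.Helper14PolLawCH7

/-!
# Fibres of the image of a family of zero-cycles have at most `d` points (helper14)

`card_le_of_maximal` (any finite set of maximal ideals of `K ⊗ B` containing the extension of `ker F` has
at most `d` elements; CRT over the test ring `K[Y]` and counting roots of the characteristic polynomial),
`isIntegral_fibre`, `finite_fibre`.
-/

set_option autoImplicit false
universe u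
open TensorProduct

namespace Groth.Agent.Lib.Helper14.PolLawCH8

open Groth.Agent.Lib.Helper14.PolLawDiag
open Groth.Agent.Lib.Helper14.PolLawCH
open Groth.Agent.Lib.Helper14.PolLawCH2
open Groth.Agent.Lib.Helper14.PolLawCH3
open Groth.Agent.Lib.Helper14.PolLawCH4
open Groth.Agent.Lib.Helper14.PolLawCH7
open Groth.Agent.Lib.Helper14.PolLawMvKer (rTensor_mem_ext map_mem_ext)
open Groth.Agent.Lib.Helper14.PolLawPoly (map_map_apply map_ker_le_kerBC)
open Groth.Agent.Lib.Helper14.PolLawRed (toFun'_map rTensor_eq_map exists_lift₂)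

section fibre
variable {A : Type u} [CommRing A] {B : Type u} [CommRing B] [Algebra A B]
  (K : Type u) [Field K] [Algebra A K]

open Polynomial in
/-- the projection `K[Y] ⊗_A B → K[Y] ⊗_K ((K ⊗_A B) ⧸ M)` -/
noncomputable def proj (M : Ideal (K ⊗[A] B)) :
    K[X] ⊗[A] B →ₐ[K[X]] K[X] ⊗[K] ((K ⊗[A] B) ⧸ M) :=
  (Algebra.TensorProduct.map (AlgHom.id K[X] K[X]) (Ideal.Quotient.mkₐ K M)).comp
    (Algebra.TensorProduct.cancelBaseChange A K K[X] K[X] B).symm.toAlgHom

open Polynomial in
lemma proj_tmul (M : Ideal (K ⊗[A] B)) (y : K[X]) (b : B) :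
    proj K M (y ⊗ₜ[A] b) = y ⊗ₜ[K] (Ideal.Quotient.mk M ((1 : K) ⊗ₜ[A] b)) := by
  simp [proj, Algebra.TensorProduct.cancelBaseChange_symm_tmul]

open Polynomial in
lemma proj_inc (M : Ideal (K ⊗[A] B)) (r : K ⊗[A] B) :
    proj K M (inc A K K[X] B r) = (1 : K[X]) ⊗ₜ[K] (Ideal.Quotient.mk M r) := by
  induction r using TensorProduct.induction_on with
  | zero => simp
  | tmul k b =>
    rw [inc, Algebra.TensorProduct.map_tmul, proj_tmul, AlgHom.id_apply,
      IsScalarTower.coe_toAlgHom', Algebra.algebraMap_eq_smul_one, TensorProduct.smul_tmul,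
      ← Ideal.Quotient.mkₐ_eq_mk K, ← map_smul, TensorProduct.smul_tmul', smul_eq_mul, mul_one]
  | add x y hx hy => simp only [map_add, hx, hy, TensorProduct.tmul_add]

open Polynomial in
theorem card_le_of_maximal {d : ℕ} (F : PolLaw.MulLaw A B A d) (s : Finset (Ideal (K ⊗[A] B)))
    (hs : ∀ M ∈ s, M.IsMaximal ∧ PolLawMvKer.ext (PolLaw.ker F.law) K ≤ M) : s.card ≤ d := by
  classical
  set e := s.equivFin with he
  set c : s → K[X] := fun M => X ^ (e M : ℕ) with hc
  have hcinj : Function.Injective c := by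
    intro M M' h
    have h1 := congrArg Polynomial.natDegree h
    simp only [hc, Polynomial.natDegree_X_pow] at h1
    exact e.injective (Fin.ext h1)
  set N : s → Ideal (K[X] ⊗[A] B) := fun M => RingHom.ker (proj K M.1) with hN
  have hcop : Pairwise (Function.onFun IsCoprime N) := by
    intro M M' hne
    have := (hs M.1 M.2).1
    have := (hs M'.1 M'.2).1
    have h1 : IsCoprime M.1 M'.1 := Ideal.isCoprime_of_isMaximal (fun h => hne (Subtype.ext h))
    obtain ⟨m, hm, m', hm', hsum⟩ := Ideal.isCoprime_iff_exists.mp h1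
    rw [Function.onFun, Ideal.isCoprime_iff_exists]
    refine ⟨inc A K K[X] B m, ?_, inc A K K[X] B m', ?_, by rw [← map_add, hsum, map_one]⟩
    · rw [hN, RingHom.mem_ker, proj_inc, Ideal.Quotient.eq_zero_iff_mem.mpr hm,
        TensorProduct.tmul_zero]
    · rw [hN, RingHom.mem_ker, proj_inc, Ideal.Quotient.eq_zero_iff_mem.mpr hm',
        TensorProduct.tmul_zero]
  obtain ⟨z, hz⟩ := Ideal.exists_forall_sub_mem_ideal hcop (fun M => c M ⊗ₜ[A] (1 : B))
  set p := mcharpoly F K[X] z with hp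
  have hroot : ∀ M : s, p.IsRoot (c M) := by
    intro M
    have := (hs M.1 M.2).1
    have h1 := aeval_mcharpoly_mem_ext F K[X] z
    have h2 : PolLawMvKer.ext (PolLaw.ker F.law) K[X] ≤ RingHom.ker (proj K M.1) := by
      rw [PolLawMvKer.ext, Ideal.map_le_iff_le_comap]
      intro b hb
      have hmem : ((1 : K) ⊗ₜ[A] b : K ⊗[A] B) ∈ M.1 :=
        (hs M.1 M.2).2 (Ideal.mem_map_of_mem
          (Algebra.TensorProduct.includeRight : B →ₐ[A] K ⊗[A] B) hb)
      rw [Ideal.mem_comap, RingHom.mem_ker, Algebra.TensorProduct.includeRight_apply, proj_tmul,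
        Ideal.Quotient.eq_zero_iff_mem.mpr hmem, TensorProduct.tmul_zero]
    have h3 : proj K M.1 (Polynomial.aeval z p) = 0 := h2 h1
    have h3' : Polynomial.aeval (R := K[X]) (A := K[X] ⊗[K] ((K ⊗[A] B) ⧸ M.1)) (proj K M.1 z) p =
        proj K M.1 (Polynomial.aeval z p) := Polynomial.aeval_algHom_apply (proj K M.1) z p
    rw [← h3'] at h3
    have h4 : proj K M.1 z = (c M) ⊗ₜ[K] (1 : (K ⊗[A] B) ⧸ M.1) := by
      have := hz M
      rw [hN, RingHom.mem_ker, map_sub, sub_eq_zero] at this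
      rw [this, proj_tmul, ← Algebra.TensorProduct.one_def, map_one]
    have h4' : (c M) ⊗ₜ[K] (1 : (K ⊗[A] B) ⧸ M.1) =
        (Algebra.TensorProduct.includeLeft : K[X] →ₐ[K[X]] K[X] ⊗[K] ((K ⊗[A] B) ⧸ M.1)) (c M) := rfl
    have hinj : Function.Injective
        (Algebra.TensorProduct.includeLeft : K[X] →ₐ[K[X]] K[X] ⊗[K] ((K ⊗[A] B) ⧸ M.1)) :=
      Algebra.TensorProduct.includeLeft_injective (S := K[X])
        (algebraMap K ((K ⊗[A] B) ⧸ M.1)).injective
    rw [h4, h4', Polynomial.aeval_algHom_apply] at h3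
    have h5 : Polynomial.aeval (c M) p = 0 := hinj (by rw [h3, map_zero])
    rwa [Polynomial.coe_aeval_eq_eval] at h5
  have hp0 : p ≠ 0 := (mcharpoly_monic F K[X] z).ne_zero
  have hsub : (Finset.univ.image c).val ⊆ p.roots := by
    intro x hx
    obtain ⟨M, -, rfl⟩ := Finset.mem_image.mp hx
    exact (Polynomial.mem_roots hp0).mpr (hroot M)
  calc s.card = (Finset.univ.image c).card := by
        rw [Finset.card_image_of_injective _ hcinj, Finset.card_univ, Fintype.card_coe]
    _ ≤ p.natDegree := Polynomial.card_le_degree_of_subset_roots hsub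
    _ ≤ d := mcharpoly_natDegree_le F K[X] z

/-- the quotient map `K ⊗ B → K ⊗ (B ⧸ ker F)` -/
noncomputable def quot {d : ℕ} (F : PolLaw.MulLaw A B A d) :
    K ⊗[A] B →ₐ[K] K ⊗[A] PolLaw.image F.law :=
  Algebra.TensorProduct.map (AlgHom.id K K) (Ideal.Quotient.mkₐ A (PolLaw.ker F.law))

lemma quot_surjective {d : ℕ} (F : PolLaw.MulLaw A B A d) : Function.Surjective (quot K F) := by
  have := LinearMap.lTensor_surjective K
    (g := (Ideal.Quotient.mkₐ A (PolLaw.ker F.law)).toLinearMap)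
    (Ideal.Quotient.mkₐ_surjective A _)
  intro y
  obtain ⟨x, hx⟩ := this y
  refine ⟨x, ?_⟩
  rw [← hx, PolLaw.lTensor_algHom_apply]
  rfl

lemma ker_quot {d : ℕ} (F : PolLaw.MulLaw A B A d) :
    RingHom.ker (quot K F) = PolLawMvKer.ext (PolLaw.ker F.law) K := by
  have h := Algebra.TensorProduct.lTensor_ker (A := K)
    (Ideal.Quotient.mkₐ A (PolLaw.ker F.law)) (Ideal.Quotient.mkₐ_surjective A _)
  have hk : RingHom.ker (Ideal.Quotient.mkₐ A (PolLaw.ker F.law)) = PolLaw.ker F.law := by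
    ext x
    rw [RingHom.mem_ker, Ideal.Quotient.mkₐ_eq_mk, Ideal.Quotient.eq_zero_iff_mem]
  rw [hk] at h
  rw [PolLawMvKer.ext, ← h]
  ext x
  rw [RingHom.mem_ker, RingHom.mem_ker]
  rfl

lemma isIntegral_fibre {d : ℕ} (F : PolLaw.MulLaw A B A d) :
    Algebra.IsIntegral K (K ⊗[A] PolLaw.image F.law) := by
  refine ⟨fun q => ?_⟩
  obtain ⟨z, rfl⟩ := quot_surjective K F q
  refine ⟨mcharpoly F K z, mcharpoly_monic F K z, ?_⟩
  have h1 := aeval_mcharpoly_mem_ext F K z
  rw [← ker_quot, RingHom.mem_ker] at h1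
  rw [← Polynomial.aeval_def, Polynomial.aeval_algHom_apply, h1]

theorem finite_fibre {d : ℕ} (F : PolLaw.MulLaw A B A d) :
    Finite (PrimeSpectrum (K ⊗[A] PolLaw.image F.law)) ∧
      Nat.card (PrimeSpectrum (K ⊗[A] PolLaw.image F.law)) ≤ d := by
  classical
  have hint := isIntegral_fibre K F
  have hmax : ∀ P : PrimeSpectrum (K ⊗[A] PolLaw.image F.law), P.asIdeal.IsMaximal := by
    intro P
    apply Ideal.isMaximal_of_isIntegral_of_isMaximal_comap (R := K) P.asIdeal
    have hprime : (P.asIdeal.comap (algebraMap K (K ⊗[A] PolLaw.image F.law))).IsPrime :=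
      Ideal.comap_isPrime _ _
    rcases Ideal.eq_bot_or_top (P.asIdeal.comap (algebraMap K (K ⊗[A] PolLaw.image F.law)))
      with h | h
    · rw [h]; exact Ideal.bot_isMaximal
    · exact absurd h hprime.ne_top
  set Ψ : PrimeSpectrum (K ⊗[A] PolLaw.image F.law) → Ideal (K ⊗[A] B) :=
    fun P => P.asIdeal.comap (quot K F) with hΨ
  have hΨinj : Function.Injective Ψ := by
    intro P P' h
    exact PrimeSpectrum.ext (Ideal.comap_injective_of_surjective _ (quot_surjective K F) h)
  have hcard : ∀ t : Finset (PrimeSpectrum (K ⊗[A] PolLaw.image F.law)), t.card ≤ d := by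
    intro t
    rw [← Finset.card_image_of_injective t hΨinj]
    apply card_le_of_maximal K F
    intro M hM
    obtain ⟨P, -, rfl⟩ := Finset.mem_image.mp hM
    refine ⟨?_, ?_⟩
    · have := hmax P
      exact Ideal.comap_isMaximal_of_surjective _ (quot_surjective K F)
    · rw [← ker_quot]
      exact Ideal.comap_mono bot_le
  let _ := fintypeOfFinsetCardLe d hcard
  refine ⟨inferInstance, ?_⟩
  rw [Nat.card_eq_fintype_card, ← Finset.card_univ]
  exact hcard _

end fibre

end Groth.Agent.Lib.Helper14.PolLawCH8
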