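import Mathlib
import Groth.Prelude.Def_PolLaw
import Groth.Prelude.Def_PolLaw2
import Groth.Agent.Lib.Helper14PolLawCH8
import Groth.Agent.Lib.Helper14BddDeg

/-!
# Families of zero-cycles over a field: at most `d` closed points, finite separable degree (helper14)
-/

set_option autoImplicit false
universe u
open TensorProduct

namespace Groth.Agent.Lib.Helper14.PolLawCH10

open Groth.Agent.Lib.Helper14.PolLawCH2
open Groth.Agent.Lib.Helper14.PolLawCH3
open Groth.Agent.Lib.Helper14.PolLawCH8
open Groth.Agent.Lib.Helper14.BddDeg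

section field
variable {k : Type u} [Field k] {B : Type u} [CommRing B] [Algebra k B] {d : ℕ}

lemma mchi_natDegree_le {A : Type u} [CommRing A] {B : Type u} [CommRing B] [Algebra A B]
    (F : PolLaw.MulLaw A B A d) (b : B) : (mchi F b).natDegree ≤ d := by
  have h := chi_coeff F b
  rw [Polynomial.natDegree_le_iff_coeff_eq_zero]
  intro n hn
  rw [mchi, Polynomial.coeff_C_mul, h.1 n hn, mul_zero]

theorem field_case (F : PolLaw.MulLaw k B k d) :
    Finite (PrimeSpectrum (PolLaw.image F.law)) ∧ Nat.card (PrimeSpectrum (PolLaw.image F.law)) ≤ d ∧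
      ∀ P : PrimeSpectrum (PolLaw.image F.law), P.asIdeal.IsMaximal ∧
        Finite (Field.Emb k P.asIdeal.ResidueField) := by
  have hint : Algebra.IsIntegral k (PolLaw.image F.law) := isIntegral_image F
  have hfib := finite_fibre k F
  have e : PrimeSpectrum (k ⊗[k] PolLaw.image F.law) ≃ PrimeSpectrum (PolLaw.image F.law) :=
    (PrimeSpectrum.comapEquiv
      (Algebra.TensorProduct.lid k (PolLaw.image F.law)).toRingEquiv).toEquiv
  have hmax : ∀ P : PrimeSpectrum (PolLaw.image F.law), P.asIdeal.IsMaximal := by
    intro P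
    apply Ideal.isMaximal_of_isIntegral_of_isMaximal_comap (R := k) P.asIdeal
    have hprime : (P.asIdeal.comap (algebraMap k (PolLaw.image F.law))).IsPrime :=
      Ideal.comap_isPrime _ _
    rcases Ideal.eq_bot_or_top (P.asIdeal.comap (algebraMap k (PolLaw.image F.law))) with h | h
    · rw [h]; exact Ideal.bot_isMaximal
    · exact absurd h hprime.ne_top
  have := hfib.1
  refine ⟨Finite.of_equiv _ e, ?_, fun P => ⟨hmax P, ?_⟩⟩
  · rw [← Nat.card_congr e]
    exact hfib.2
  · have := hmax P
    -- every element of the residue field is the image of an element of `B`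
    have hsurj : ∀ x : P.asIdeal.ResidueField, ∃ b : B,
        algebraMap (PolLaw.image F.law) P.asIdeal.ResidueField (Ideal.Quotient.mk _ b) = x := by
      intro x
      obtain ⟨y, rfl⟩ := (Ideal.bijective_algebraMap_quotient_residueField P.asIdeal).2 x
      obtain ⟨q, rfl⟩ := Ideal.Quotient.mk_surjective y
      obtain ⟨b, rfl⟩ := Ideal.Quotient.mk_surjective q
      exact ⟨b, rfl⟩
    have hroot : ∀ b : B, Polynomial.aeval
        (algebraMap (PolLaw.image F.law) P.asIdeal.ResidueField (Ideal.Quotient.mk _ b))
        (mchi F b) = 0 := by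
      intro b
      have h1 := aeval_mchi_mem_ker F b
      rw [← Ideal.Quotient.eq_zero_iff_mem] at h1
      have h2 := Polynomial.aeval_algHom_apply
        ((IsScalarTower.toAlgHom k (PolLaw.image F.law) P.asIdeal.ResidueField).comp
          (Ideal.Quotient.mkₐ k (PolLaw.ker F.law))) b (mchi F b)
      simp only [AlgHom.comp_apply, Ideal.Quotient.mkₐ_eq_mk, IsScalarTower.coe_toAlgHom'] at h2
      rw [h2, h1, map_zero]
    have halg : Algebra.IsAlgebraic k P.asIdeal.ResidueField := by
      refine ⟨fun x => ?_⟩
      obtain ⟨b, rfl⟩ := hsurj x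
      exact ⟨mchi F b, (mchi_monic F b).ne_zero, hroot b⟩
    apply finite_emb_of_forall_natDegree_le d
    intro x
    obtain ⟨b, rfl⟩ := hsurj x
    have h1 := minpoly.min k _ (mchi_monic F b) (hroot b)
    have h2 := Polynomial.natDegree_le_natDegree h1
    exact h2.trans (mchi_natDegree_le F b)

end field

end Groth.Agent.Lib.Helper14.PolLawCH10
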