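import Mathlib
import Groth.Prelude.Def_PolLaw
import Groth.Prelude.Def_PolLaw2
import Groth.Agent.Lib.Helper14PolLawCH4

/-!
# A finitely generated ideal with the same radical as the kernel of a multiplicative law (helper14)

`exists_fg_ideal`: for `B` of finite type over `A` and `F : B → A` multiplicative of degree `d`, there is a
finitely generated ideal `J ≤ ker F` with `J.radical = (ker F).radical`.
-/

set_option autoImplicit false
universe u
open TensorProduct

namespace Groth.Agent.Lib.Helper14.PolLawCH5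

open Groth.Agent.Lib.Helper14.PolLawDiag
open Groth.Agent.Lib.Helper14.PolLawCH
open Groth.Agent.Lib.Helper14.PolLawCH2
open Groth.Agent.Lib.Helper14.PolLawCH3
open Groth.Agent.Lib.Helper14.PolLawCH4
open Groth.Agent.Lib.Helper14.PolLawMvKer
open Groth.Agent.Lib.Helper14.PolLawPoly (map_map_apply map_ker_le_kerBC)
open Groth.Agent.Lib.Helper14.PolLawRed (toFun'_map rTensor_eq_map exists_lift₂)

section fg
variable {A : Type u} [CommRing A] {B : Type u} [CommRing B] [Algebra A B] {d : ℕ}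

lemma lid_mem_of_mem_ext (I : Ideal B) {y : A ⊗[A] B} (hy : y ∈ ext I A) :
    Algebra.TensorProduct.lid A B y ∈ I := by
  have h1 : PolLawMvKer.ext I A ≤ I.comap (Algebra.TensorProduct.lid A B : A ⊗[A] B →ₐ[A] B) := by
    rw [PolLawMvKer.ext, Ideal.map_le_iff_le_comap]
    intro b hb
    rw [Ideal.mem_comap, Ideal.mem_comap]
    simpa using hb
  exact h1 hy

lemma isIntegral_quotient_of_span (F : PolLaw.MulLaw A B A d) (s : Finset B)
    (hs : Algebra.adjoin A (s : Set B) = ⊤) (J₁ : Ideal B)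
    (hJ₁ : ∀ g ∈ s, Polynomial.aeval g (mchi F g) ∈ J₁) : Algebra.IsIntegral A (B ⧸ J₁) := by
  rw [← integralClosure_eq_top_iff, eq_top_iff]
  have h1 : (⊤ : Subalgebra A (B ⧸ J₁)) =
      Algebra.adjoin A ((Ideal.Quotient.mkₐ A J₁) '' (s : Set B)) := by
    rw [Algebra.adjoin_image, hs, Algebra.map_top]
    exact ((AlgHom.range_eq_top _).mpr (Ideal.Quotient.mkₐ_surjective A J₁)).symm
  rw [h1, Algebra.adjoin_le_iff]
  rintro _ ⟨g, hg, rfl⟩
  refine ⟨mchi F g, mchi_monic F g, ?_⟩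
  have h := hJ₁ g hg
  rw [← Ideal.Quotient.eq_zero_iff_mem] at h
  rw [← Polynomial.aeval_def, ← h]
  exact (Polynomial.aeval_algHom_apply (Ideal.Quotient.mkₐ A J₁) g (mchi F g))

lemma chi_of_mem_ker' (F : PolLaw.MulLaw A B A d) (b : B) (hb : b ∈ PolLaw.ker F.law) :
    Polynomial.aeval b (chi F.law b) = (-1) ^ d * b ^ d := by
  rw [chi_of_mem_ker F b hb, map_pow, map_neg, Polynomial.aeval_X, neg_pow]

theorem exists_fg_ideal [Algebra.FiniteType A B] (F : PolLaw.MulLaw A B A d) :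
    ∃ J : Ideal B, J.FG ∧ J ≤ PolLaw.ker F.law ∧ J.radical = (PolLaw.ker F.law).radical := by
  classical
  obtain ⟨s, hs⟩ := (Algebra.FiniteType.out : (⊤ : Subalgebra A B).FG)
  set J₁ : Ideal B := Ideal.span ((s.image fun g => Polynomial.aeval g (mchi F g) : Finset B) : Set B)
    with hJ₁
  have hJ₁fg : J₁.FG := ⟨_, rfl⟩
  have hJ₁mem : ∀ g ∈ s, Polynomial.aeval g (mchi F g) ∈ J₁ := fun g hg =>
    Ideal.subset_span (Finset.mem_coe.mpr (Finset.mem_image_of_mem _ hg))
  have hJ₁le : J₁ ≤ PolLaw.ker F.law := by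
    rw [hJ₁, Ideal.span_le]
    intro x hx
    obtain ⟨g, -, rfl⟩ := Finset.mem_image.mp (Finset.mem_coe.mp hx)
    exact aeval_mchi_mem_ker F g
  have : Algebra.IsIntegral A (B ⧸ J₁) := isIntegral_quotient_of_span F s hs J₁ hJ₁mem
  have : Module.Finite A (B ⧸ J₁) := Algebra.IsIntegral.finite
  obtain ⟨m, cgen, hc⟩ := Module.Finite.exists_fin (R := A) (M := B ⧸ J₁)
  choose bgen hbgen using fun k => Ideal.Quotient.mk_surjective (cgen k)
  -- the generic element
  set Z : MvPolynomial (Fin m) A ⊗[A] B :=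
    ∑ k, (MvPolynomial.X k : MvPolynomial (Fin m) A) ⊗ₜ[A] bgen k with hZ
  set c := Polynomial.aeval Z (charpoly F.law (MvPolynomial (Fin m) A) Z) with hcdef
  have hcext : c ∈ ext (PolLaw.ker F.law) (MvPolynomial (Fin m) A) :=
    aeval_charpoly_mem_ext F _ Z
  set β := MvPolynomial.basisMonomials (Fin m) A with hβ
  obtain ⟨K, hK⟩ := expand (S := A) β B c
  have hcK := hK K subset_rfl
  set J₂ : Ideal B := Ideal.span ((K.image fun κ =>
    Algebra.TensorProduct.lid A B (coef β B κ c) : Finset B) : Set B) with hJ₂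
  have hJ₂fg : J₂.FG := ⟨_, rfl⟩
  have hJ₂le : J₂ ≤ PolLaw.ker F.law := by
    rw [hJ₂, Ideal.span_le]
    intro x hx
    obtain ⟨κ, -, rfl⟩ := Finset.mem_image.mp (Finset.mem_coe.mp hx)
    exact lid_mem_of_mem_ext _ (rTensor_mem_ext _ _ hcext)
  have hcJ₂ : c ∈ ext J₂ (MvPolynomial (Fin m) A) := by
    rw [hcK]
    refine Ideal.sum_mem _ (fun κ hκ => Ideal.mul_mem_left _ _ ?_)
    have h1 : coef β B κ c = (1 : A) ⊗ₜ[A] Algebra.TensorProduct.lid A B (coef β B κ c) := by
      rw [← Algebra.TensorProduct.lid_symm_apply, AlgEquiv.symm_apply_apply]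
    rw [h1, inc, Algebra.TensorProduct.map_tmul, map_one]
    exact Ideal.mem_map_of_mem _
      (Ideal.subset_span (Finset.mem_coe.mpr (Finset.mem_image_of_mem _ hκ)))
  refine ⟨J₁ ⊔ J₂, Submodule.FG.sup hJ₁fg hJ₂fg, sup_le hJ₁le hJ₂le, ?_⟩
  apply le_antisymm (Ideal.radical_mono (sup_le hJ₁le hJ₂le))
  rw [Ideal.radical_le_radical_iff]
  intro b hb
  refine ⟨d, ?_⟩
  -- write `b` as a combination of the `bgen k` modulo `J₁`
  have hbspan : Ideal.Quotient.mk J₁ b ∈ Submodule.span A (Set.range cgen) := hc ▸ Submodule.mem_top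
  obtain ⟨a, ha⟩ := (Submodule.mem_span_range_iff_exists_fun A).mp hbspan
  set b' : B := ∑ k, a k • bgen k with hb'
  have hbb' : b - b' ∈ J₁ := by
    rw [← Ideal.Quotient.eq, ← ha, hb', map_sum]
    refine Finset.sum_congr rfl (fun k _ => ?_)
    rw [← hbgen k]
    rfl
  have hb'ker : b' ∈ PolLaw.ker F.law := by
    have := (PolLaw.ker F.law).sub_mem hb (hJ₁le hbb')
    rwa [sub_sub_cancel] at this
  -- specialise the generic element
  set ψ : MvPolynomial (Fin m) A →ₐ[A] A := MvPolynomial.aeval a with hψ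
  have hz : Algebra.TensorProduct.map ψ (AlgHom.id A B) Z = (1 : A) ⊗ₜ[A] b' := by
    rw [hZ, map_sum, hb', TensorProduct.tmul_sum]
    refine Finset.sum_congr rfl (fun k _ => ?_)
    rw [Algebra.TensorProduct.map_tmul, hψ, MvPolynomial.aeval_X, AlgHom.id_apply,
      TensorProduct.tmul_smul, TensorProduct.smul_tmul', smul_eq_mul, mul_one]
  have h2 := map_mem_ext J₂ ψ hcJ₂
  rw [hcdef, ← aeval_map, ← charpoly_map, hz, charpoly_one_tmul] at h2
  have h3 := lid_mem_of_mem_ext J₂ h2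
  have h4 : Algebra.TensorProduct.lid A B (Polynomial.aeval ((1 : A) ⊗ₜ[A] b')
      ((chi F.law b').map (algebraMap A A))) = Polynomial.aeval b' (chi F.law b') := by
    rw [Algebra.algebraMap_self, Polynomial.map_id]
    have := Polynomial.aeval_algHom_apply
      (Algebra.TensorProduct.includeRight : B →ₐ[A] A ⊗[A] B) b' (chi F.law b')
    rw [Algebra.TensorProduct.includeRight_apply] at this
    rw [this, Algebra.TensorProduct.includeRight_apply, Algebra.TensorProduct.lid_tmul, one_smul]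
  rw [h4, chi_of_mem_ker' F b' hb'ker] at h3
  have h5 : b' ^ d ∈ J₂ := by
    have := Ideal.mul_mem_left J₂ ((-1) ^ d) h3
    rwa [← mul_assoc, ← mul_pow, neg_one_mul, neg_neg, one_pow, one_mul] at this
  have h6 : b ^ d - b' ^ d ∈ J₁ := by
    rw [← Ideal.Quotient.eq, map_pow, map_pow, Ideal.Quotient.eq.mpr hbb']
  have : b ^ d = (b ^ d - b' ^ d) + b' ^ d := by ring
  rw [this]
  exact add_mem (Ideal.mem_sup_left h6) (Ideal.mem_sup_right h5)

end fg

end Groth.Agent.Lib.Helper14.PolLawCH5
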