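import Mathlib
import Groth.Prelude.Def_PolLaw
import Groth.Prelude.Def_PolLaw2
import Groth.Agent.Lib.Helper14PolLawCH3

/-!
# Multiplicative laws over a domain: the kernel is saturated, components of the support dominate (helper14)

`mem_ker_of_smul_mem_ker` (A domain, `a ≠ 0`, `a • b ∈ ker F → b ∈ ker F`, any law `B → A`),
`minimalPrimes_ker` (minimal primes over `ker F` contract to `0`; lying over above them).
-/

set_option autoImplicit false
universe u
open TensorProduct

namespace Groth.Agent.Lib.Helper14.PolLawCH6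

open Groth.Agent.Lib.Helper14.PolLawDiag
open Groth.Agent.Lib.Helper14.PolLawCH
open Groth.Agent.Lib.Helper14.PolLawCH2
open Groth.Agent.Lib.Helper14.PolLawCH3
open Groth.Agent.Lib.Helper14.PolLawPoly (map_map_apply map_ker_le_kerBC)
open Groth.Agent.Lib.Helper14.PolLawRed (toFun'_map rTensor_eq_map exists_lift₂)

section sat
variable {A : Type u} [CommRing A] [IsDomain A] {B : Type u} [CommRing B] [Algebra A B]

theorem mem_ker_of_smul_mem_ker (F : B →ₚₗ[A] A) {a : A} (ha : a ≠ 0) {b : B}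
    (h : a • b ∈ PolLaw.ker F) : b ∈ PolLaw.ker F := by
  intro S _ _ x w
  obtain ⟨n, ψ, x', w', rfl, rfl⟩ := exists_lift₂ x w
  suffices h1 : F.toFun' (MvPolynomial (Fin n) A) (x' + w' * (1 ⊗ₜ[A] b)) =
      F.toFun' (MvPolynomial (Fin n) A) x' by
    have h2 := congrArg (Algebra.TensorProduct.map ψ (AlgHom.id A A)) h1
    rw [← toFun'_map, ← toFun'_map, map_add, map_mul, Algebra.TensorProduct.map_tmul, map_one]
      at h2
    exact h2
  apply toFun'_eq_of_bar_eq
  set S₀ := MvPolynomial (Fin n) A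
  set j : S₀ →ₐ[A] FractionRing S₀ := IsScalarTower.toAlgHom A S₀ (FractionRing S₀) with hj
  have hjinj : Function.Injective j := IsFractionRing.injective S₀ (FractionRing S₀)
  apply hjinj
  rw [← bar_map, ← bar_map, map_add, map_mul, Algebra.TensorProduct.map_tmul, map_one]
  have ha' : (algebraMap A (FractionRing S₀) a) ≠ 0 := by
    rw [IsScalarTower.algebraMap_apply A S₀ (FractionRing S₀)]
    intro h0
    have := hjinj (a₁ := algebraMap A S₀ a) (a₂ := 0) (by rw [map_zero]; exact h0)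
    exact ha (MvPolynomial.C_injective (Fin n) A (by simpa using this))
  set W := Algebra.TensorProduct.map j (AlgHom.id A B) w' with hW
  have key : W * ((1 : FractionRing S₀) ⊗ₜ[A] b) =
      (((algebraMap A (FractionRing S₀) a)⁻¹ ⊗ₜ[A] (1 : B)) * W) *
        ((1 : FractionRing S₀) ⊗ₜ[A] (a • b)) := by
    have : ((1 : FractionRing S₀) ⊗ₜ[A] (a • b)) =
        ((algebraMap A (FractionRing S₀) a) ⊗ₜ[A] (1 : B)) * ((1 : FractionRing S₀) ⊗ₜ[A] b) := by
      rw [Algebra.TensorProduct.tmul_mul_tmul, one_mul, mul_one, TensorProduct.tmul_smul,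
        TensorProduct.smul_tmul', Algebra.smul_def, mul_one]
    rw [this]
    have h3 : ((algebraMap A (FractionRing S₀) a)⁻¹ ⊗ₜ[A] (1 : B)) *
        ((algebraMap A (FractionRing S₀) a) ⊗ₜ[A] (1 : B)) = 1 := by
      rw [Algebra.TensorProduct.tmul_mul_tmul, inv_mul_cancel₀ ha', one_mul,
        Algebra.TensorProduct.one_def]
    calc W * ((1 : FractionRing S₀) ⊗ₜ[A] b)
        = (((algebraMap A (FractionRing S₀) a)⁻¹ ⊗ₜ[A] (1 : B)) *
          ((algebraMap A (FractionRing S₀) a) ⊗ₜ[A] (1 : B))) * (W * ((1 : FractionRing S₀) ⊗ₜ[A] b)) := by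
          rw [h3, one_mul]
      _ = _ := by ring
  rw [AlgHom.id_apply, key]
  unfold bar
  rw [h (FractionRing S₀)]

theorem minimalPrimes_ker {d : ℕ} (F : PolLaw.MulLaw A B A d) {P : Ideal B}
    (hP : P ∈ (PolLaw.ker F.law).minimalPrimes) :
    P.comap (algebraMap A B) = ⊥ ∧
      ∀ q : Ideal A, q.IsPrime → ∃ Q : Ideal B, Q.IsPrime ∧ P ≤ Q ∧
        Q.comap (algebraMap A B) = q := by
  have hPprime : P.IsPrime := hP.1.1
  have hPle : PolLaw.ker F.law ≤ P := hP.1.2
  have h1 : P.comap (algebraMap A B) = ⊥ := by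
    rw [eq_bot_iff]
    intro a ha
    rw [Ideal.mem_comap] at ha
    rw [Ideal.mem_bot]
    by_contra h0
    obtain ⟨y, hy, hxy⟩ := Ideal.exists_mul_mem_of_mem_minimalPrimes hP ha
    rw [← Algebra.smul_def] at hxy
    exact hy (mem_ker_of_smul_mem_ker F.law h0 hxy)
  refine ⟨h1, fun q hq => ?_⟩
  have hint : Algebra.IsIntegral A (PolLaw.image F.law) := isIntegral_image F
  have hint' : Algebra.IsIntegral A (B ⧸ P) :=
    Algebra.IsIntegral.of_surjective (Ideal.Quotient.factorₐ A hPle)
      (Ideal.Quotient.factor_surjective hPle)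
  have hker : RingHom.ker (algebraMap A (B ⧸ P)) ≤ q := by
    have : RingHom.ker (algebraMap A (B ⧸ P)) = P.comap (algebraMap A B) := by
      ext a
      rw [RingHom.mem_ker, Ideal.mem_comap, ← Ideal.Quotient.eq_zero_iff_mem]
      rfl
    rw [this, h1]
    exact bot_le
  obtain ⟨Q', hQ'prime, hQ'⟩ := Ideal.exists_ideal_over_prime_of_isIntegral_of_isDomain q hker
  refine ⟨Q'.comap (Ideal.Quotient.mk P), Ideal.comap_isPrime _ _, ?_, ?_⟩
  · intro x hx
    rw [Ideal.mem_comap, Ideal.Quotient.eq_zero_iff_mem.mpr hx]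
    exact zero_mem _
  · rw [Ideal.comap_comap]
    exact hQ'

end sat

end Groth.Agent.Lib.Helper14.PolLawCH6
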