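import Mathlib
import Groth.Prelude.Def_PolLaw
import Groth.Prelude.Def_PolLaw2
import Groth.Agent.Lib.Helper14PolLawCH8

/-!
# The image of a family of zero-cycles over a semilocal base is semilocal (helper14)
-/

set_option autoImplicit false
universe u
open TensorProduct

namespace Groth.Agent.Lib.Helper14.PolLawCH9

open Groth.Agent.Lib.Helper14.PolLawCH3
open Groth.Agent.Lib.Helper14.PolLawCH8

section semilocal
variable {A : Type u} [CommRing A] {B : Type u} [CommRing B] [Algebra A B] {d : ℕ}

theorem finite_maximalSpectrum [Finite (MaximalSpectrum A)] (F : PolLaw.MulLaw A B A d) :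
    Finite (MaximalSpectrum (PolLaw.image F.law)) := by
  have hint : Algebra.IsIntegral A (PolLaw.image F.law) := isIntegral_image F
  let g : MaximalSpectrum (PolLaw.image F.law) → MaximalSpectrum A := fun N =>
    ⟨N.asIdeal.comap (algebraMap A (PolLaw.image F.law)),
      Ideal.isMaximal_comap_of_isIntegral_of_isMaximal N.asIdeal⟩
  rw [← Set.finite_univ_iff]
  apply Set.Finite.of_finite_fibers g (Set.toFinite _)
  intro m _
  have hfin : Finite ((PrimeSpectrum.comap (algebraMap A (PolLaw.image F.law))) ⁻¹'
      {m.toPrimeSpectrum}) := by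
    have e := PrimeSpectrum.preimageEquivFiber A (PolLaw.image F.law) m.toPrimeSpectrum
    have := (finite_fibre (m.toPrimeSpectrum.asIdeal.ResidueField) F).1
    exact Finite.of_equiv _ e.symm
  let h : (Set.univ ∩ g ⁻¹' {m} : Set (MaximalSpectrum (PolLaw.image F.law))) →
      ((PrimeSpectrum.comap (algebraMap A (PolLaw.image F.law))) ⁻¹' {m.toPrimeSpectrum}) :=
    fun N => ⟨N.1.toPrimeSpectrum, by
      have hN : g N.1 = m := N.2.2
      rw [Set.mem_preimage, Set.mem_singleton_iff]
      exact congrArg MaximalSpectrum.toPrimeSpectrum hN⟩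
  have hinj : Function.Injective h := by
    intro N N' hNN'
    have h1 : N.1.toPrimeSpectrum = N'.1.toPrimeSpectrum := congrArg Subtype.val hNN'
    have h2 : N.1.asIdeal = N'.1.asIdeal := congrArg PrimeSpectrum.asIdeal h1
    exact Subtype.ext (MaximalSpectrum.ext h2)
  exact Set.finite_coe_iff.mp (Finite.of_injective h hinj)

end semilocal

end Groth.Agent.Lib.Helper14.PolLawCH9
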