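import Mathlib
import Groth.Prelude.Def_PolLaw
import Groth.Agent.Lib.Helper14PolLawFin

/-!
# The kernel of a base-changed law on a finite algebra and filtered colimits of the base (helper14)
-/

set_option autoImplicit false
universe u
open TensorProduct

namespace Groth.Agent.Lib.Helper14.PolLawFin

open Groth.Agent.Lib.Helper14.PolLawRed (toFun'_map)
open Groth.Agent.Lib.Helper14.PolLawPoly (map_map_apply map_ker_le_kerBC)

section Dz
variable {A : Type u} [CommRing A] {B : Type u} [CommRing B] [Algebra A B]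
  (F : B →ₚₗ[A] A) {n : ℕ} (b : Fin n → B)

/-- the universal defect polynomial of `z` -/
noncomputable def Dz (A' : Type u) [CommRing A'] [Algebra A A'] (z : A' ⊗[A] B) :
    MvPolynomial (Fin n ⊕ Fin n) A' :=
  TensorProduct.rid A _ (F.toFun' (MvPolynomial (Fin n ⊕ Fin n) A') (xu b A' + wu b A' *
    Algebra.TensorProduct.map
      (IsScalarTower.toAlgHom A A' (MvPolynomial (Fin n ⊕ Fin n) A')) (AlgHom.id A B) z)) -
  TensorProduct.rid A _ (F.toFun' (MvPolynomial (Fin n ⊕ Fin n) A') (xu b A'))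

theorem mem_kerBC_iff_Dz (hb : Submodule.span A (Set.range b) = ⊤) (A' : Type u) [CommRing A']
    [Algebra A A'] (z : A' ⊗[A] B) : z ∈ PolLaw.kerBC F A' ↔ Dz F b A' z = 0 := by
  rw [mem_kerBC_iff_univ F b hb, Dz, sub_eq_zero]
  exact ((TensorProduct.rid A _).injective.eq_iff).symm

theorem Dz_map {A₁ A₂ : Type u} [CommRing A₁] [Algebra A A₁] [CommRing A₂] [Algebra A A₂]
    (θ : A₁ →ₐ[A] A₂) (z : A₁ ⊗[A] B) :
    MvPolynomial.map (θ : A₁ →+* A₂) (Dz F b A₁ z) =
      Dz F b A₂ (Algebra.TensorProduct.map θ (AlgHom.id A B) z) := by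
  set ρ : MvPolynomial (Fin n ⊕ Fin n) A₁ →ₐ[A] MvPolynomial (Fin n ⊕ Fin n) A₂ :=
    MvPolynomial.mapAlgHom θ with hρ
  have h0 : ∀ p, MvPolynomial.map (θ : A₁ →+* A₂) p = ρ p := fun p => rfl
  have hx : Algebra.TensorProduct.map ρ (AlgHom.id A B) (xu b A₁) = xu b A₂ := by
    simp [xu, hρ, Algebra.TensorProduct.map_tmul]
  have hw : Algebra.TensorProduct.map ρ (AlgHom.id A B) (wu b A₁) = wu b A₂ := by
    simp [wu, hρ, Algebra.TensorProduct.map_tmul]
  have hz : Algebra.TensorProduct.map ρ (AlgHom.id A B) (Algebra.TensorProduct.map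
      (IsScalarTower.toAlgHom A A₁ (MvPolynomial (Fin n ⊕ Fin n) A₁)) (AlgHom.id A B) z) =
      Algebra.TensorProduct.map
      (IsScalarTower.toAlgHom A A₂ (MvPolynomial (Fin n ⊕ Fin n) A₂)) (AlgHom.id A B)
        (Algebra.TensorProduct.map θ (AlgHom.id A B) z) := by
    rw [map_map_apply, map_map_apply]
    congr 2
    ext a
    simp [hρ]
  rw [h0, Dz, Dz, map_sub, ← rid_map, ← rid_map, ← toFun'_map, ← toFun'_map, map_add, map_mul, hx,
    hw, hz]

end Dz

section colim
variable {A : Type u} [CommRing A] {B : Type u} [CommRing B] [Algebra A B]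
  {A' : Type u} [CommRing A'] [Algebra A A'] {ι : Type u} [Preorder ι]
  [IsDirected ι (fun i j => i ≤ j)] [Nonempty ι]
  (Ai : ι → Type u) [∀ i, CommRing (Ai i)] [∀ i, Algebra A (Ai i)]
  (t : ∀ i j : ι, i ≤ j → (Ai i →ₐ[A] Ai j)) (φ : ∀ i : ι, Ai i →ₐ[A] A')

include t in
lemma exists_lift_left (hcomp : ∀ (i j : ι) (h : i ≤ j), (φ j).comp (t i j h) = φ i)
    (hsurj : ∀ a : A', ∃ (i : ι) (x : Ai i), φ i x = a) (z : A' ⊗[A] B) :
    ∃ (i : ι) (z' : Ai i ⊗[A] B), Algebra.TensorProduct.map (φ i) (AlgHom.id A B) z' = z := by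
  induction z using TensorProduct.induction_on with
  | zero => exact ⟨Classical.arbitrary ι, 0, map_zero _⟩
  | tmul a c =>
    obtain ⟨i, x, hx⟩ := hsurj a
    exact ⟨i, x ⊗ₜ[A] c, by rw [Algebra.TensorProduct.map_tmul, hx]; rfl⟩
  | add z₁ z₂ h₁ h₂ =>
    obtain ⟨j₁, z₁', e₁⟩ := h₁
    obtain ⟨j₂, z₂', e₂⟩ := h₂
    obtain ⟨j, h1, h2⟩ := exists_ge_ge j₁ j₂
    refine ⟨j, Algebra.TensorProduct.map (t j₁ j h1) (AlgHom.id A B) z₁' +
      Algebra.TensorProduct.map (t j₂ j h2) (AlgHom.id A B) z₂', ?_⟩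
    rw [map_add, map_map_apply, map_map_apply, hcomp, hcomp, e₁, e₂]

lemma exists_ge_forall_eq_zero
    (hzero : ∀ (i : ι) (x : Ai i), φ i x = 0 → ∃ (j : ι) (h : i ≤ j), t i j h x = 0)
    (htrans : ∀ (i j k : ι) (hij : i ≤ j) (hjk : j ≤ k),
      (t j k hjk).comp (t i j hij) = t i k (hij.trans hjk))
    (i : ι) (s : Finset (Ai i)) (h : ∀ x ∈ s, φ i x = 0) :
    ∃ (j : ι) (hj : i ≤ j), ∀ x ∈ s, t i j hj x = 0 := by
  classical
  induction s using Finset.induction_on with
  | empty => exact ⟨i, le_rfl, by simp⟩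
  | insert a s _ ih =>
    obtain ⟨j₁, h1, hs⟩ := ih (fun x hx => h x (Finset.mem_insert_of_mem hx))
    obtain ⟨j₂, h2, ha⟩ := hzero i a (h a (Finset.mem_insert_self a s))
    obtain ⟨j, g1, g2⟩ := exists_ge_ge j₁ j₂
    refine ⟨j, h1.trans g1, fun x hx => ?_⟩
    rcases Finset.mem_insert.mp hx with rfl | hx
    · have := htrans i j₂ j h2 g2
      rw [← this, AlgHom.comp_apply, ha, map_zero]
    · rw [← htrans i j₁ j h1 g1, AlgHom.comp_apply, hs x hx, map_zero]

theorem kerBC_colimit [Module.Finite A B] (F : B →ₚₗ[A] A)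
    (hcomp : ∀ (i j : ι) (h : i ≤ j), (φ j).comp (t i j h) = φ i)
    (hsurj : ∀ a : A', ∃ (i : ι) (x : Ai i), φ i x = a)
    (hzero : ∀ (i : ι) (x : Ai i), φ i x = 0 → ∃ (j : ι) (h : i ≤ j), t i j h x = 0)
    (htrans : ∀ (i j k : ι) (hij : i ≤ j) (hjk : j ≤ k),
      (t j k hjk).comp (t i j hij) = t i k (hij.trans hjk)) :
    PolLaw.kerBC F A' =
      ⨆ i : ι, (PolLaw.kerBC F (Ai i)).map (Algebra.TensorProduct.map (φ i) (AlgHom.id A B)) := by
  classical
  apply le_antisymm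
  · intro z hz
    obtain ⟨n, b, hb⟩ := Module.Finite.exists_fin (R := A) (M := B)
    obtain ⟨i, zi, rfl⟩ := exists_lift_left Ai t φ hcomp hsurj z
    have h1 : MvPolynomial.map ((φ i : Ai i →ₐ[A] A') : Ai i →+* A') (Dz F b (Ai i) zi) = 0 := by
      rw [Dz_map]
      exact (mem_kerBC_iff_Dz F b hb A' _).mp hz
    set D := Dz F b (Ai i) zi with hD
    obtain ⟨j, hj, hcoef⟩ := exists_ge_forall_eq_zero Ai t φ hzero htrans i
      (D.support.image (fun α => D.coeff α)) (by
        intro x hx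
        obtain ⟨α, -, rfl⟩ := Finset.mem_image.mp hx
        have := congrArg (MvPolynomial.coeff α) h1
        rw [MvPolynomial.coeff_map, MvPolynomial.coeff_zero] at this
        exact this)
    have h2 : MvPolynomial.map ((t i j hj : Ai i →ₐ[A] Ai j) : Ai i →+* Ai j) D = 0 := by
      ext α
      rw [MvPolynomial.coeff_map, MvPolynomial.coeff_zero]
      by_cases hα : α ∈ D.support
      · exact hcoef _ (Finset.mem_image_of_mem _ hα)
      · rw [MvPolynomial.notMem_support_iff.mp hα, map_zero]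
    rw [hD, Dz_map] at h2
    have h3 := (mem_kerBC_iff_Dz F b hb (Ai j) _).mpr h2
    have h4 : Algebra.TensorProduct.map (φ i) (AlgHom.id A B) zi =
        Algebra.TensorProduct.map (φ j) (AlgHom.id A B)
          (Algebra.TensorProduct.map (t i j hj) (AlgHom.id A B) zi) := by
      rw [map_map_apply, hcomp]
    rw [h4]
    exact (le_iSup (fun i => (PolLaw.kerBC F (Ai i)).map
      (Algebra.TensorProduct.map (φ i) (AlgHom.id A B))) j) (Ideal.mem_map_of_mem _ h3)
  · refine iSup_le (fun i => ?_)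
    rw [Ideal.map_le_iff_le_comap]
    intro zi hzi
    show _ ∈ PolLaw.kerBC F A'
    intro R _ _ _ _ x w
    letI : Algebra (Ai i) R := ((algebraMap A' R).comp (φ i : Ai i →+* A')).toAlgebra
    haveI : IsScalarTower A (Ai i) R := IsScalarTower.of_algebraMap_eq (fun a => by
      rw [RingHom.algebraMap_toAlgebra, RingHom.comp_apply]
      show _ = algebraMap A' R (φ i (algebraMap A (Ai i) a))
      rw [(φ i).commutes, ← IsScalarTower.algebraMap_apply])
    have h := hzi R x w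
    rw [map_map_apply]
    have e : (IsScalarTower.toAlgHom A A' R).comp (φ i) = IsScalarTower.toAlgHom A (Ai i) R := by
      ext a
      rfl
    rw [e]
    exact h

end colim

end Groth.Agent.Lib.Helper14.PolLawFin
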