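import Mathlib
import Groth.Prelude.Def_PolLaw
import Groth.Agent.Lib.Helper14PolLawFin2
import Groth.Agent.Lib.Helper14PolLawEtale

/-!
# Kernels of polynomial laws over `ℚ`-algebras and flat base change (helper14)
-/

set_option autoImplicit false
universe u
open Polynomial TensorProduct

namespace Groth.Agent.Lib.Helper14.PolLawChar0

open Groth.Agent.Lib.Helper14.PolLawRed (toFun'_map)
open Groth.Agent.Lib.Helper14.PolLawPoly (map_map_apply map_ker_le_kerBC)
open Groth.Agent.Lib.Helper14.PolLawFin (rid_map xu wu univ_spec mem_kerBC_iff_univ mem_ker_iff_univ)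

section pure
variable {S : Type*} [CommRing S]

/-- coefficient `1` of `Q(ε, ε)` -/
lemma coeff_one_eval_X (Q : S[X][X]) :
    (Q.eval X).coeff 1 = (Q.coeff 0).coeff 1 + (Q.coeff 1).coeff 0 := by
  have h1 : Q = (Q.divX.divX * X + C (Q.divX.coeff 0)) * X + C (Q.coeff 0) := by
    rw [divX_mul_X_add, divX_mul_X_add]
  have h2 : Q.divX.coeff 0 = Q.coeff 1 := by rw [coeff_divX]
  rw [h2] at h1
  conv_lhs => rw [h1]
  simp only [eval_add, eval_mul, eval_X, eval_C]
  rw [coeff_add, coeff_mul_X, coeff_add, coeff_mul_X_zero, zero_add, add_comm]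

/-- the `δ`-coefficient of `p(ε + δ)` is `p'(ε)` -/
lemma coeff_one_aeval_add (p : S[X]) :
    (aeval (C X + X : S[X][X]) p).coeff 1 = derivative p := by
  have h1 : aeval (C X + X : S[X][X]) p = taylor (X : S[X]) (p.map (C : S →+* S[X])) := by
    rw [taylor_apply, aeval_def, eval₂_eq_eval_map, comp, eval₂_eq_eval_map, Polynomial.map_map,
      add_comm]
    rfl
  rw [h1, taylor_coeff_one, derivative_map, eval_map, eval₂_C_X]

lemma eq_C_of_derivative_eq_zero' [Algebra ℚ S] (p : S[X]) (h : derivative p = 0) :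
    p.eval 1 = p.eval 0 := by
  have h1 : ∀ k, p.coeff (k + 1) = 0 := by
    intro k
    have h2 := congrArg (fun q => q.coeff k) h
    simp only [coeff_derivative, coeff_zero] at h2
    have h3 : ((k : S) + 1) * algebraMap ℚ S (1 / ((k : ℚ) + 1)) = 1 := by
      have : ((k : S) + 1) = algebraMap ℚ S ((k : ℚ) + 1) := by simp
      rw [this, ← map_mul, mul_one_div_cancel (by positivity), map_one]
    calc p.coeff (k + 1) = p.coeff (k + 1) * (((k : S) + 1) * algebraMap ℚ S (1 / ((k : ℚ) + 1))) := by
          rw [h3, mul_one]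
      _ = 0 := by rw [← mul_assoc, h2, zero_mul]
  have h4 : p = C (p.coeff 0) := by
    ext k
    rcases k with _ | k
    · simp
    · rw [h1, coeff_C_succ]
  rw [h4, eval_C, eval_C]

end pure

section pol
variable {A : Type u} [CommRing A] {B : Type u} [CommRing B] [Algebra A B] (F : B →ₚₗ[A] A)

/-- constants `S ⊗ B → S[X] ⊗ B` -/
noncomputable abbrev cst (S : Type u) [CommRing S] [Algebra A S] : S ⊗[A] B →ₐ[A] S[X] ⊗[A] B :=
  Algebra.TensorProduct.map (CAlgHom (R := A) (A := S)) (AlgHom.id A B)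

/-- the polynomial `ε ↦ F (x + ε v)` -/
noncomputable def pol (S : Type u) [CommRing S] [Algebra A S] (x v : S ⊗[A] B) : S[X] :=
  TensorProduct.rid A S[X] (F.toFun' S[X] (cst S x + ((X : S[X]) ⊗ₜ[A] (1 : B)) * cst S v))

/-- the first-order term of `F` at `x` in the direction `v` -/
noncomputable def L (S : Type u) [CommRing S] [Algebra A S] (x v : S ⊗[A] B) : S :=
  (pol F S x v).coeff 1

/-- a general specialisation formula -/
lemma map_pol {S S' : Type u} [CommRing S] [Algebra A S] [CommRing S'] [Algebra A S']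
    (θ : S[X] →ₐ[A] S') (x v : S ⊗[A] B) :
    θ (pol F S x v) = TensorProduct.rid A S' (F.toFun' S'
      (Algebra.TensorProduct.map (θ.comp (CAlgHom (R := A) (A := S))) (AlgHom.id A B) x +
        ((θ X) ⊗ₜ[A] (1 : B)) *
          Algebra.TensorProduct.map (θ.comp (CAlgHom (R := A) (A := S))) (AlgHom.id A B) v)) := by
  rw [pol, ← rid_map, ← toFun'_map, map_add, map_mul, map_map_apply, map_map_apply,
    Algebra.TensorProduct.map_tmul, AlgHom.id_apply]

lemma pol_eval (S : Type u) [CommRing S] [Algebra A S] (x v : S ⊗[A] B) (r : S) :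
    (pol F S x v).eval r = TensorProduct.rid A S (F.toFun' S (x + (r ⊗ₜ[A] (1 : B)) * v)) := by
  have h := map_pol F ((aeval (R := S) r).restrictScalars A) x v
  have e : ((aeval (R := S) r).restrictScalars A).comp (CAlgHom (R := A) (A := S)) =
      AlgHom.id A S := AlgHom.ext (fun s => by simp)
  rw [e, Algebra.TensorProduct.map_id] at h
  simpa using h

lemma pol_map {S S' : Type u} [CommRing S] [Algebra A S] [CommRing S'] [Algebra A S']
    (ψ : S →ₐ[A] S') (x v : S ⊗[A] B) :
    (pol F S x v).map (ψ : S →+* S') = pol F S'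
      (Algebra.TensorProduct.map ψ (AlgHom.id A B) x)
      (Algebra.TensorProduct.map ψ (AlgHom.id A B) v) := by
  have h := map_pol F (mapAlgHom ψ) x v
  have e : (mapAlgHom ψ).comp (CAlgHom (R := A) (A := S)) =
      (CAlgHom (R := A) (A := S')).comp ψ := AlgHom.ext (fun s => by simp)
  rw [e] at h
  have h2 : (mapAlgHom ψ) (pol F S x v) = (pol F S x v).map (ψ : S →+* S') := rfl
  rw [← h2, h, pol, cst, map_map_apply, map_map_apply]
  simp

lemma L_map {S S' : Type u} [CommRing S] [Algebra A S] [CommRing S'] [Algebra A S']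
    (ψ : S →ₐ[A] S') (x v : S ⊗[A] B) :
    ψ (L F S x v) = L F S' (Algebra.TensorProduct.map ψ (AlgHom.id A B) x)
      (Algebra.TensorProduct.map ψ (AlgHom.id A B) v) := by
  rw [L, L, ← pol_map, coeff_map]
  rfl

lemma pol_smul (S : Type u) [CommRing S] [Algebra A S] (x v : S ⊗[A] B) (s : S) :
    pol F S x ((s ⊗ₜ[A] (1 : B)) * v) = (pol F S x v).comp (C s * X) := by
  have h := map_pol F ((aeval (R := S) (C s * X : S[X])).restrictScalars A) x v
  have e : ((aeval (R := S) (C s * X : S[X])).restrictScalars A).comp (CAlgHom (R := A) (A := S)) =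
      CAlgHom (R := A) (A := S) := AlgHom.ext (fun r => by simp)
  rw [e] at h
  have h2 : ((aeval (R := S) (C s * X : S[X])).restrictScalars A) (pol F S x v) =
      (pol F S x v).comp (C s * X) := by
    simp [comp, aeval_def]
  rw [← h2, h, pol]
  congr 3
  simp only [AlgHom.coe_restrictScalars', aeval_X, cst, map_mul, Algebra.TensorProduct.map_tmul,
    AlgHom.id_apply, CAlgHom_apply, map_one]
  rw [← mul_assoc, Algebra.TensorProduct.tmul_mul_tmul, mul_one, mul_comm (C s) X]

lemma L_smul (S : Type u) [CommRing S] [Algebra A S] (x v : S ⊗[A] B) (s : S) :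
    L F S x ((s ⊗ₜ[A] (1 : B)) * v) = L F S x v * s := by
  rw [L, pol_smul, comp_C_mul_X_coeff, pow_one, L]

end pol

section pol2
variable {A : Type u} [CommRing A] {B : Type u} [CommRing B] [Algebra A B] (F : B →ₚₗ[A] A)

lemma L_add (S : Type u) [CommRing S] [Algebra A S] (x v v' : S ⊗[A] B) :
    L F S x (v + v') = L F S x v + L F S x v' := by
  set x₁ : S[X] ⊗[A] B := cst S x + ((X : S[X]) ⊗ₜ[A] (1 : B)) * cst S v with hx₁
  set Q : S[X][X] := pol F S[X] x₁ (cst S v') with hQ
  have h0 : Q.coeff 0 = pol F S x v := by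
    rw [coeff_zero_eq_eval_zero, hQ, pol_eval, TensorProduct.zero_tmul, zero_mul, add_zero, pol]
  have h3 : Q.eval X = pol F S x (v + v') := by
    rw [hQ, pol_eval, pol, hx₁, map_add, mul_add, add_assoc]
  have h2 : (Q.coeff 1).coeff 0 = L F S x v' := by
    have h := pol_map F ((aeval (R := S) (0 : S)).restrictScalars A) x₁ (cst S v')
    have e : ((aeval (R := S) (0 : S)).restrictScalars A).comp (CAlgHom (R := A) (A := S)) =
        AlgHom.id A S := AlgHom.ext (fun s => by simp)
    have e1 : Algebra.TensorProduct.map ((aeval (R := S) (0 : S)).restrictScalars A)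
        (AlgHom.id A B) x₁ = x := by
      rw [hx₁, map_add, map_mul, cst, map_map_apply, map_map_apply, e,
        Algebra.TensorProduct.map_id, Algebra.TensorProduct.map_tmul]
      simp
    have e2 : Algebra.TensorProduct.map ((aeval (R := S) (0 : S)).restrictScalars A)
        (AlgHom.id A B) (cst S v') = v' := by
      rw [cst, map_map_apply, e, Algebra.TensorProduct.map_id]
      rfl
    rw [e1, e2] at h
    rw [L, ← h, ← hQ, coeff_map, coeff_zero_eq_eval_zero]
    simp
  rw [L, ← h3, coeff_one_eval_X, h0, h2]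
  rfl

lemma pol_derivative (S : Type u) [CommRing S] [Algebra A S] (x v : S ⊗[A] B) :
    derivative (pol F S x v) =
      L F S[X] (cst S x + ((X : S[X]) ⊗ₜ[A] (1 : B)) * cst S v) (cst S v) := by
  have h := map_pol F ((aeval (R := S) (C X + X : S[X][X])).restrictScalars A) x v
  have e : ((aeval (R := S) (C X + X : S[X][X])).restrictScalars A).comp
      (CAlgHom (R := A) (A := S)) =
      (CAlgHom (R := A) (A := S[X])).comp (CAlgHom (R := A) (A := S)) :=
    AlgHom.ext (fun s => by simp)
  rw [e] at h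
  have h2 : ((aeval (R := S) (C X + X : S[X][X])).restrictScalars A) (pol F S x v) =
      aeval (C X + X : S[X][X]) (pol F S x v) := rfl
  rw [← coeff_one_aeval_add, ← h2, h, L, pol]
  congr 3
  simp only [AlgHom.coe_restrictScalars', aeval_X, cst, map_add, map_mul, map_map_apply,
    Algebra.TensorProduct.map_tmul, AlgHom.id_apply, CAlgHom_apply, map_one]
  rw [TensorProduct.add_tmul, add_mul, add_assoc]

lemma L_zero (S : Type u) [CommRing S] [Algebra A S] (x : S ⊗[A] B) : L F S x 0 = 0 := by
  have h := L_add F S x 0 0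
  rw [add_zero] at h
  exact left_eq_add.mp h

/-- over a `ℚ`-algebra, vanishing of the first-order term along the segment gives constancy -/
lemma toFun'_add_eq_of_L_eq_zero (S : Type u) [CommRing S] [Algebra A S] [Algebra ℚ S]
    (x v : S ⊗[A] B)
    (h : L F S[X] (cst S x + ((X : S[X]) ⊗ₜ[A] (1 : B)) * cst S v) (cst S v) = 0) :
    F.toFun' S (x + v) = F.toFun' S x := by
  have h1 := eq_C_of_derivative_eq_zero' (pol F S x v) (by rw [pol_derivative, h])
  rw [pol_eval, pol_eval, TensorProduct.zero_tmul, zero_mul, add_zero,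
    ← Algebra.TensorProduct.one_def, one_mul] at h1
  exact (TensorProduct.rid A S).injective h1

end pol2

section main
variable {A : Type u} [CommRing A] {B : Type u} [CommRing B] [Algebra A B] (F : B →ₚₗ[A] A)
  {n : ℕ} (b : Fin n → B)

lemma algebraMap_tmul_mul {S : Type u} [CommRing S] [Algebra A S] (a : A) (y : S ⊗[A] B) :
    ((algebraMap A S a) ⊗ₜ[A] (1 : B)) * y = a • y := by
  induction y using TensorProduct.induction_on with
  | zero => simp
  | tmul s c => rw [Algebra.TensorProduct.tmul_mul_tmul, one_mul, TensorProduct.smul_tmul',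
      Algebra.smul_def]
  | add y y' hy hy' => rw [mul_add, hy, hy', smul_add]

/-- the linear functional cutting out the kernel over `ℚ` -/
noncomputable def lam : B →ₗ[A] MvPolynomial (Fin n ⊕ Fin n) A where
  toFun c := L F _ (xu b A) (wu b A * ((1 : MvPolynomial (Fin n ⊕ Fin n) A) ⊗ₜ[A] c))
  map_add' c c' := by rw [TensorProduct.tmul_add, mul_add, L_add]
  map_smul' a c := by
    have h : wu b A * ((1 : MvPolynomial (Fin n ⊕ Fin n) A) ⊗ₜ[A] (a • c)) =
        ((algebraMap A (MvPolynomial (Fin n ⊕ Fin n) A) a) ⊗ₜ[A] (1 : B)) *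
          (wu b A * ((1 : MvPolynomial (Fin n ⊕ Fin n) A) ⊗ₜ[A] c)) := by
      rw [algebraMap_tmul_mul, TensorProduct.tmul_smul, mul_smul_comm]
    rw [h, L_smul, RingHom.id_apply, Algebra.smul_def, mul_comm]

/-- over `ℚ`: the kernel of `lam` lies in the kernel of `F` -/
lemma mem_ker_of_lam_eq_zero [Algebra ℚ A] (hb : Submodule.span A (Set.range b) = ⊤) (c : B)
    (hc : lam F b c = 0) : c ∈ PolLaw.ker F := by
  rw [mem_ker_iff_univ F b hb]
  set T := MvPolynomial (Fin n ⊕ Fin n) A with hT
  apply toFun'_add_eq_of_L_eq_zero F T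
  obtain ⟨ψ, hx, hw⟩ := univ_spec b hb A T[X]
    (cst T (xu b A) + ((X : T[X]) ⊗ₜ[A] (1 : B)) * cst T (wu b A * ((1 : T) ⊗ₜ[A] c)))
    (cst T (wu b A))
  have h2 : cst T (wu b A * ((1 : T) ⊗ₜ[A] c)) = cst T (wu b A) * ((1 : T[X]) ⊗ₜ[A] c) := by
    rw [map_mul, cst, Algebra.TensorProduct.map_tmul, map_one, AlgHom.id_apply]
  have hψ : Algebra.TensorProduct.map (ψ.restrictScalars A) (AlgHom.id A B)
      (wu b A * ((1 : T) ⊗ₜ[A] c)) = cst T (wu b A * ((1 : T) ⊗ₜ[A] c)) := by
    rw [h2, map_mul, hw, Algebra.TensorProduct.map_tmul, map_one, AlgHom.id_apply]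
  have h1 := L_map F (ψ.restrictScalars A) (xu b A) (wu b A * ((1 : T) ⊗ₜ[A] c))
  rw [hx, hψ] at h1
  have h3 : L F T (xu b A) (wu b A * ((1 : T) ⊗ₜ[A] c)) = 0 := hc
  rw [← h1, h3, map_zero]

/-- membership in `kerBC` kills the first-order term -/
lemma L_eq_zero_of_mem_kerBC (A' : Type u) [CommRing A'] [Algebra A A'] (z : A' ⊗[A] B)
    (hz : z ∈ PolLaw.kerBC F A') :
    L F (MvPolynomial (Fin n ⊕ Fin n) A') (xu b A') (wu b A' * Algebra.TensorProduct.map
      (IsScalarTower.toAlgHom A A' (MvPolynomial (Fin n ⊕ Fin n) A')) (AlgHom.id A B) z) = 0 := by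
  set T' := MvPolynomial (Fin n ⊕ Fin n) A' with hT'
  have h1 := hz T'[X] (cst T' (xu b A')) (((X : T'[X]) ⊗ₜ[A] (1 : B)) * cst T' (wu b A'))
  have e : (CAlgHom (R := A) (A := T')).comp (IsScalarTower.toAlgHom A A' T') =
      IsScalarTower.toAlgHom A A' T'[X] := AlgHom.ext (fun a => by simp)
  have h2 : pol F T' (xu b A') (wu b A' * Algebra.TensorProduct.map
      (IsScalarTower.toAlgHom A A' T') (AlgHom.id A B) z) =
      C (TensorProduct.rid A T' (F.toFun' T' (xu b A'))) := by
    rw [pol, map_mul, cst, map_map_apply, e, ← mul_assoc, h1, toFun'_map, rid_map]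
    rfl
  rw [L, h2, coeff_C_succ]

end main

section final
variable {A : Type u} [CommRing A] {B : Type u} [CommRing B] [Algebra A B] (F : B →ₚₗ[A] A)
  {n : ℕ} (b : Fin n → B)

/-- comparison of the first-order functional over `A'` with the base change of `lam` -/
lemma L_univ_eq (A' : Type u) [CommRing A'] [Algebra A A'] (z : A' ⊗[A] B) :
    L F (MvPolynomial (Fin n ⊕ Fin n) A') (xu b A') (wu b A' * Algebra.TensorProduct.map
      (IsScalarTower.toAlgHom A A' (MvPolynomial (Fin n ⊕ Fin n) A')) (AlgHom.id A B) z) =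
    MvPolynomial.algebraTensorAlgEquiv A A' ((lam F b).lTensor A' z) := by
  set T := MvPolynomial (Fin n ⊕ Fin n) A with hT
  set T' := MvPolynomial (Fin n ⊕ Fin n) A' with hT'
  induction z using TensorProduct.induction_on with
  | zero => rw [map_zero, mul_zero, L_zero, map_zero, map_zero]
  | tmul a' c =>
    set ρ : T →ₐ[A] T' := MvPolynomial.mapAlgHom (Algebra.ofId A A') with hρ
    have hX : ∀ j, ρ (MvPolynomial.X j) = MvPolynomial.X j := fun j => MvPolynomial.map_X _ j
    have hx : Algebra.TensorProduct.map ρ (AlgHom.id A B) (xu b A) = xu b A' := by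
      simp only [xu, map_sum, Algebra.TensorProduct.map_tmul, hX, AlgHom.id_apply]
    have hw : Algebra.TensorProduct.map ρ (AlgHom.id A B) (wu b A) = wu b A' := by
      simp only [wu, map_sum, Algebra.TensorProduct.map_tmul, hX, AlgHom.id_apply]
    have h1 := L_map F ρ (xu b A) (wu b A * ((1 : T) ⊗ₜ[A] c))
    rw [hx, map_mul, hw, Algebra.TensorProduct.map_tmul, map_one, AlgHom.id_apply] at h1
    have h2 : wu b A' * Algebra.TensorProduct.map (IsScalarTower.toAlgHom A A' T')
        (AlgHom.id A B) (a' ⊗ₜ[A] c) =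
        ((algebraMap A' T' a') ⊗ₜ[A] (1 : B)) * (wu b A' * ((1 : T') ⊗ₜ[A] c)) := by
      rw [Algebra.TensorProduct.map_tmul, AlgHom.id_apply, mul_left_comm,
        Algebra.TensorProduct.tmul_mul_tmul, mul_one, one_mul]
      rfl
    rw [h2, L_smul, ← h1, LinearMap.lTensor_tmul, MvPolynomial.algebraTensorAlgEquiv_tmul,
      Algebra.smul_def, mul_comm]
    rfl
  | add z z' hz hz' =>
    rw [map_add, mul_add, L_add, hz, hz', map_add, map_add]

end final

section thm
variable {A : Type u} [CommRing A] [Algebra ℚ A] {B : Type u} [CommRing B] [Algebra A B]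
  [Module.Finite A B] (F : B →ₚₗ[A] A)

theorem kerBC_flat (A' : Type u) [CommRing A'] [Algebra A A'] [Module.Flat A A'] :
    (PolLaw.ker F).map (Algebra.TensorProduct.includeRight : B →ₐ[A] A' ⊗[A] B) =
      PolLaw.kerBC F A' := by
  refine le_antisymm (map_ker_le_kerBC F A') (fun z hz => ?_)
  obtain ⟨n, b, hb⟩ := Module.Finite.exists_fin (R := A) (M := B)
  have h1 := L_eq_zero_of_mem_kerBC F b A' z hz
  rw [L_univ_eq] at h1
  have h2 : (lam F b).lTensor A' z = 0 :=
    (MvPolynomial.algebraTensorAlgEquiv A A').injective (by rw [h1, map_zero])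
  have hex := Module.Flat.lTensor_exact A' (LinearMap.exact_subtype_ker_map (lam F b))
  have key : ∀ y : A' ⊗[A] (LinearMap.ker (lam F b)),
      (LinearMap.ker (lam F b)).subtype.lTensor A' y ∈
        (PolLaw.ker F).map (Algebra.TensorProduct.includeRight : B →ₐ[A] A' ⊗[A] B) := by
    intro y
    induction y using TensorProduct.induction_on with
    | zero => rw [map_zero]; exact zero_mem _
    | tmul a' c =>
      rw [LinearMap.lTensor_tmul]
      have hc : (c : B) ∈ PolLaw.ker F := mem_ker_of_lam_eq_zero F b hb c c.2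
      have h3 : a' ⊗ₜ[A] ((LinearMap.ker (lam F b)).subtype c) =
          (a' ⊗ₜ[A] (1 : B)) *
            (Algebra.TensorProduct.includeRight : B →ₐ[A] A' ⊗[A] B) (c : B) := by
        rw [Algebra.TensorProduct.includeRight_apply, Algebra.TensorProduct.tmul_mul_tmul, mul_one,
          one_mul]
        rfl
      rw [h3]
      exact Ideal.mul_mem_left _ _ (Ideal.mem_map_of_mem _ hc)
    | add y y' hy hy' =>
      rw [map_add]
      exact add_mem hy hy'
  obtain ⟨y, rfl⟩ := (hex z).mp h2
  exact key y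

end thm

end Groth.Agent.Lib.Helper14.PolLawChar0
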