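import Mathlib
import Groth.Prelude.Def_PolLaw
import Groth.Agent.Lib.Helper14PolLawProd
import Groth.Agent.Lib.Helper14PolLawMvKer
import Groth.Agent.Lib.Helper14PolLawCH2

/-!
# Connected components of the image of a family of zero-cycles over a connected base (helper14)

`toFun'_add_of_mem_map` (a law is constant on cosets of the extension of its kernel),
`toFun'_eq_of_pi_eq`, `exists_pow_idem` (`F(1 - b + s b) = s ^ k` for `b` idempotent mod `ker F`),
`mem_ker_of_uu_zero`, `card_le_of_orthogonal_idem`, `card_connectedComponents_le` (topology),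
`exists_idem_of_clopen_cover`, `card_connectedComponents_image_le`.
-/

set_option autoImplicit false
universe u
open Polynomial TensorProduct

namespace Groth.Agent.Lib.Helper14.PolLawConn

open Groth.Agent.Lib.Helper14.PolLawRed (toFun'_map)
open Groth.Agent.Lib.Helper14.PolLawFin (rid_map)
open Groth.Agent.Lib.Helper14.PolLawProd (eq_X_pow rid_mul X_pow_tmul_inj)
open Groth.Agent.Lib.Helper14.PolLawCH2 (mem_ker_of_forall_ring)

section factor
variable {A : Type u} [CommRing A] {B E : Type u} [CommRing B] [Algebra A B] [CommRing E]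
  [Algebra A E]

/-- a law is constant on cosets of the extension of its kernel -/
lemma toFun'_add_of_mem_map (F : B →ₚₗ[A] E) (S : Type u) [CommSemiring S] [Algebra A S]
    {y : S ⊗[A] B}
    (hy : y ∈ (PolLaw.ker F).map (Algebra.TensorProduct.includeRight : B →ₐ[A] S ⊗[A] B)) :
    ∀ w x : S ⊗[A] B, F.toFun' S (x + w * y) = F.toFun' S x := by
  rw [Ideal.map] at hy
  induction hy using Submodule.span_induction with
  | mem y hy =>
    obtain ⟨b, hb, rfl⟩ := hy
    intro w x
    exact hb S x w
  | zero => intro w x; simp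
  | add y₁ y₂ _ _ h₁ h₂ =>
    intro w x
    rw [mul_add, ← add_assoc, h₂, h₁]
  | smul c y _ h =>
    intro w x
    rw [smul_eq_mul, ← mul_assoc]
    exact h _ x

/-- the quotient map `S ⊗ B → S ⊗ B/ker F` -/
noncomputable abbrev pi (F : B →ₚₗ[A] E) (S : Type u) [CommRing S] [Algebra A S] :
    S ⊗[A] B →ₐ[A] S ⊗[A] PolLaw.image F :=
  Algebra.TensorProduct.map (AlgHom.id A S) (Ideal.Quotient.mkₐ A (PolLaw.ker F))

lemma toFun'_eq_of_pi_eq (F : B →ₚₗ[A] E) (S : Type u) [CommRing S] [Algebra A S]
    {x x' : S ⊗[A] B} (h : pi F S x = pi F S x') : F.toFun' S x = F.toFun' S x' := by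
  have hk : RingHom.ker (Ideal.Quotient.mkₐ A (PolLaw.ker F)) = PolLaw.ker F := by
    ext b
    rw [RingHom.mem_ker, Ideal.Quotient.mkₐ_eq_mk, Ideal.Quotient.eq_zero_iff_mem]
  have hker : RingHom.ker (pi F S) =
      (PolLaw.ker F).map (Algebra.TensorProduct.includeRight : B →ₐ[A] S ⊗[A] B) := by
    rw [Algebra.TensorProduct.lTensor_ker _ (Ideal.Quotient.mkₐ_surjective A _), hk]
  have h1 : x' - x ∈ RingHom.ker (pi F S) := by
    rw [RingHom.mem_ker, map_sub, h, sub_self]
  rw [hker] at h1
  have := toFun'_add_of_mem_map F S h1 1 x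
  rw [one_mul, add_sub_cancel] at this
  exact this.symm

end factor

section idem
variable {A : Type u} [CommRing A] {B : Type u} [CommRing B] [Algebra A B] {d : ℕ}
  (F : PolLaw.MulLaw A B A d)

/-- the element `1 ⊗ (1 - b) + s ⊗ b` -/
noncomputable abbrev uu (S : Type u) [CommSemiring S] [Algebra A S] (s : S) (b : B) : S ⊗[A] B :=
  (1 : S) ⊗ₜ[A] (1 - b) + s ⊗ₜ[A] b

lemma pi_uu (S : Type u) [CommRing S] [Algebra A S] (s : S) (b : B) :
    pi F.law S (uu S s b) =
      1 + (s - 1) ⊗ₜ[A] (Ideal.Quotient.mk (PolLaw.ker F.law) b) := by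
  simp only [uu, map_add, Algebra.TensorProduct.map_tmul, AlgHom.id_apply,
    Ideal.Quotient.mkₐ_eq_mk, map_sub, map_one, TensorProduct.tmul_sub, TensorProduct.sub_tmul,
    Algebra.TensorProduct.one_def]
  abel

/-- for `b` idempotent modulo `ker F`, the value `F(1 - b + s b)` is a fixed power of `s` -/
theorem exists_pow_idem [ConnectedSpace (PrimeSpectrum A)] (b : B)
    (hb : IsIdempotentElem (Ideal.Quotient.mk (PolLaw.ker F.law) b)) :
    ∃ k : ℕ, ∀ (S : Type u) [CommRing S] [Algebra A S] (s : S),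
      F.law.toFun' S (uu S s b) = (s ^ k) ⊗ₜ[A] (1 : A) := by
  set P : A[X] := TensorProduct.rid A A[X] (F.law.toFun' A[X] (uu A[X] X b)) with hP
  -- naturality
  have hN : ∀ (S : Type u) [CommRing S] [Algebra A S] (s : S),
      TensorProduct.rid A S (F.law.toFun' S (uu S s b)) = aeval s P := by
    intro S _ _ s
    have h1 : uu S s b =
        Algebra.TensorProduct.map (aeval s : A[X] →ₐ[A] S) (AlgHom.id A B) (uu A[X] X b) := by
      rw [uu, uu, map_add, Algebra.TensorProduct.map_tmul, Algebra.TensorProduct.map_tmul, map_one,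
        aeval_X]
      rfl
    rw [h1, toFun'_map, rid_map]
  -- multiplicativity
  have hM : ∀ (S : Type u) [CommRing S] [Algebra A S] (s s' : S),
      aeval (s * s') P = aeval s P * aeval s' P := by
    intro S _ _ s s'
    rw [← hN, ← hN, ← hN, ← rid_mul, ← (F.mult S).2]
    congr 1
    apply toFun'_eq_of_pi_eq
    rw [map_mul, pi_uu, pi_uu, pi_uu]
    set e := Ideal.Quotient.mk (PolLaw.ker F.law) b
    have he : ((s - 1) ⊗ₜ[A] e) * ((s' - 1) ⊗ₜ[A] e) = ((s - 1) * (s' - 1)) ⊗ₜ[A] e := by
      rw [Algebra.TensorProduct.tmul_mul_tmul, hb.eq]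
    rw [mul_add, add_mul, add_mul, he, one_mul, one_mul, mul_one, add_assoc,
      ← TensorProduct.add_tmul, ← TensorProduct.add_tmul]
    congr 2
    ring
  have h1 : P.eval 1 = 1 := by
    have := hN A 1
    rw [uu, ← TensorProduct.tmul_add, sub_add_cancel, ← Algebra.TensorProduct.one_def,
      (F.mult A).1, Algebra.TensorProduct.one_def, TensorProduct.rid_tmul, one_smul,
      coe_aeval_eq_eval] at this
    exact this.symm
  obtain ⟨k, hk⟩ := eq_X_pow P (hM A[X][X] (C X) X) h1
  refine ⟨k, fun S _ _ s => ?_⟩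
  apply (TensorProduct.rid A S).injective
  rw [hN, hk, map_pow, aeval_X, TensorProduct.rid_tmul, one_smul]

/-- if `F(1 - b) = 1` universally and `b` is idempotent modulo `ker F` then `b ∈ ker F` -/
lemma mem_ker_of_uu_zero (b : B)
    (hb : IsIdempotentElem (Ideal.Quotient.mk (PolLaw.ker F.law) b))
    (h0 : ∀ (S : Type u) [CommRing S] [Algebra A S], F.law.toFun' S (uu S 0 b) = 1) :
    b ∈ PolLaw.ker F.law := by
  apply mem_ker_of_forall_ring
  intro S _ _ x w
  have hx : ∀ z : S ⊗[A] B, F.law.toFun' S z = F.law.toFun' S (z * uu S 0 b) := by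
    intro z
    rw [(F.mult S).2, h0, mul_one]
  rw [hx x, hx (x + w * (1 ⊗ₜ b))]
  apply toFun'_eq_of_pi_eq
  rw [map_mul, map_mul, map_add, map_mul, pi_uu, Algebra.TensorProduct.map_tmul,
    Ideal.Quotient.mkₐ_eq_mk]
  set e := Ideal.Quotient.mk (PolLaw.ker F.law) b
  have key : ((AlgHom.id A S) 1 ⊗ₜ[A] e) * (1 + ((0 : S) - 1) ⊗ₜ[A] e) = 0 := by
    rw [mul_add, mul_one, Algebra.TensorProduct.tmul_mul_tmul, hb.eq, ← TensorProduct.add_tmul]
    simp
  rw [add_mul, mul_assoc, key, mul_zero, add_zero]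

/-- product of `1 + T εᵢ` for orthogonal `εᵢ` -/
lemma prod_one_add {R : Type*} [CommRing R] {ι : Type*} [DecidableEq ι] (T : R) (ε : ι → R)
    (horth : ∀ i j, i ≠ j → ε i * ε j = 0) (J : Finset ι) :
    ∏ i ∈ J, (1 + T * ε i) = 1 + T * ∑ i ∈ J, ε i := by
  induction J using Finset.induction_on with
  | empty => simp
  | insert j J hj ih =>
    rw [Finset.prod_insert hj, Finset.sum_insert hj, ih]
    have h0 : ε j * ∑ i ∈ J, ε i = 0 := by
      rw [Finset.mul_sum]
      apply Finset.sum_eq_zero
      intro i hi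
      exact horth j i (fun h => hj (h ▸ hi))
    have : (1 + T * ε j) * (1 + T * ∑ i ∈ J, ε i) =
        1 + T * (ε j + ∑ i ∈ J, ε i) + T * T * (ε j * ∑ i ∈ J, ε i) := by ring
    rw [this, h0, mul_zero, add_zero]

lemma toFun'_prod (S : Type u) [CommSemiring S] [Algebra A S] {ι : Type*} [DecidableEq ι]
    (J : Finset ι) (z : ι → S ⊗[A] B) :
    F.law.toFun' S (∏ i ∈ J, z i) = ∏ i ∈ J, F.law.toFun' S (z i) := by
  induction J using Finset.induction_on with
  | empty => simp [(F.mult S).1]
  | insert j J hj ih => rw [Finset.prod_insert hj, Finset.prod_insert hj, (F.mult S).2, ih]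

theorem card_le_of_orthogonal_idem [ConnectedSpace (PrimeSpectrum A)] {n : ℕ}
    (e : Fin n → PolLaw.image F.law) (he : ∀ i, IsIdempotentElem (e i)) (hne : ∀ i, e i ≠ 0)
    (horth : ∀ i j, i ≠ j → e i * e j = 0) (hsum : ∑ i, e i = 1) : n ≤ d := by
  have : Nontrivial A := by
    obtain ⟨p⟩ := (inferInstance : Nonempty (PrimeSpectrum A))
    exact ⟨⟨0, 1, fun h01 => p.2.ne_top ((Ideal.eq_top_iff_one _).mpr (h01 ▸ p.asIdeal.zero_mem))⟩⟩
  have hb : ∀ i, ∃ b : B, Ideal.Quotient.mk (PolLaw.ker F.law) b = e i :=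
    fun i => Ideal.Quotient.mk_surjective (e i)
  choose b hbe using hb
  have hk : ∀ i, ∃ k : ℕ, ∀ (S : Type u) [CommRing S] [Algebra A S] (s : S),
      F.law.toFun' S (uu S s (b i)) = (s ^ k) ⊗ₜ[A] (1 : A) := fun i =>
    exists_pow_idem F (b i) (by rw [hbe]; exact he i)
  choose k hk using hk
  have hk0 : ∀ i, 1 ≤ k i := by
    intro i
    by_contra h
    have hki : k i = 0 := by omega
    have : b i ∈ PolLaw.ker F.law := by
      apply mem_ker_of_uu_zero F (b i) (by rw [hbe]; exact he i)
      intro S _ _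
      rw [hk i S 0, hki, pow_zero, Algebra.TensorProduct.one_def]
    apply hne i
    rw [← hbe i]
    exact Ideal.Quotient.eq_zero_iff_mem.mpr this
  have hsumk : ∑ i, k i = d := by
    apply X_pow_tmul_inj (A := A)
    have h1 : F.law.toFun' A[X] (∏ i ∈ Finset.univ, uu A[X] X (b i)) =
        (X ^ ∑ i, k i) ⊗ₜ[A] (1 : A) := by
      rw [toFun'_prod]
      simp_rw [hk _ A[X] X]
      rw [← Finset.prod_pow_eq_pow_sum]
      clear hsum horth hne he hbe hk0 hk
      induction (Finset.univ : Finset (Fin n)) using Finset.induction_on with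
      | empty => simp [Algebra.TensorProduct.one_def]
      | insert j J hj ih =>
        rw [Finset.prod_insert hj, Finset.prod_insert hj, ih,
          Algebra.TensorProduct.tmul_mul_tmul, mul_one]
    have hX : (X : A[X]) • (1 : A[X] ⊗[A] B) = (X : A[X]) ⊗ₜ[A] (1 : B) := by
      rw [Algebra.TensorProduct.one_def, TensorProduct.smul_tmul', smul_eq_mul, mul_one]
    have h2 : F.law.toFun' A[X] (∏ i ∈ Finset.univ, uu A[X] X (b i)) =
        F.law.toFun' A[X] ((X : A[X]) • (1 : A[X] ⊗[A] B)) := by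
      rw [hX]
      apply toFun'_eq_of_pi_eq
      rw [map_prod]
      simp_rw [pi_uu, hbe]
      have h3 : ∀ i, (1 : A[X] ⊗[A] PolLaw.image F.law) + ((X : A[X]) - 1) ⊗ₜ[A] e i =
          1 + (((X : A[X]) - 1) ⊗ₜ[A] (1 : PolLaw.image F.law)) * ((1 : A[X]) ⊗ₜ[A] e i) := by
        intro i
        rw [Algebra.TensorProduct.tmul_mul_tmul, mul_one, one_mul]
      simp_rw [h3]
      rw [prod_one_add, ← TensorProduct.tmul_sum, hsum, Algebra.TensorProduct.tmul_mul_tmul,
        mul_one, one_mul, Algebra.TensorProduct.one_def, ← TensorProduct.add_tmul,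
        add_sub_cancel, Algebra.TensorProduct.map_tmul, map_one]
      · rfl
      · intro i j hij
        rw [Algebra.TensorProduct.tmul_mul_tmul, horth i j hij, TensorProduct.tmul_zero]
    rw [← h1, h2, F.homog, (F.mult _).1, Algebra.TensorProduct.one_def, TensorProduct.smul_tmul',
      smul_eq_mul, mul_one]
  calc n = ∑ _i : Fin n, 1 := by simp
    _ ≤ ∑ i, k i := Finset.sum_le_sum (fun i _ => hk0 i)
    _ = d := hsumk

end idem

section top
variable {X : Type*} [TopologicalSpace X]

lemma card_connectedComponents_le (d : ℕ)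
    (h : ∀ (n : ℕ) (U : Fin n → Set X), (∀ i, IsClopen (U i)) → (∀ i, (U i).Nonempty) →
      Pairwise (Function.onFun Disjoint U) → ⋃ i, U i = Set.univ → n ≤ d) :
    Finite (ConnectedComponents X) ∧ Nat.card (ConnectedComponents X) ≤ d := by
  have hfin : Finite (ConnectedComponents X) := by
    by_contra hinf
    rw [not_finite_iff_infinite] at hinf
    obtain ⟨U, hU1, hU2, hU3, hU4⟩ := ConnectedComponents.exists_fun_isClopen_of_infinite X (d + 1) (by simp)
    have := h _ U hU1 hU2 hU3 hU4
    omega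
  refine ⟨hfin, ?_⟩
  cases nonempty_fintype (ConnectedComponents X)
  rw [Nat.card_eq_fintype_card]
  refine h _ (fun i ↦ ConnectedComponents.mk ⁻¹' {(Fintype.equivFin _).symm i}) (fun i ↦ ?_)
      (fun i ↦ ?_) (fun i j hij ↦ Disjoint.preimage _ (by simp [hij])) ?_
  · exact (isClopen_discrete _).preimage ConnectedComponents.continuous_coe
  · exact (Set.singleton_nonempty _).preimage ConnectedComponents.surjective_coe
  · simp [← Set.preimage_iUnion]

end top

section spec
variable {C : Type*} [CommRing C]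

lemma eq_zero_of_idem_of_nilpotent {x : C} (hx : IsIdempotentElem x) (hn : IsNilpotent x) :
    x = 0 := by
  obtain ⟨n, hn⟩ := hn
  rcases n with _ | n
  · rw [pow_zero] at hn
    rw [← mul_one x, hn, mul_zero]
  · rw [hx.pow_succ_eq] at hn
    exact hn

theorem exists_idem_of_clopen_cover {n : ℕ} (U : Fin n → Set (PrimeSpectrum C))
    (hU1 : ∀ i, IsClopen (U i)) (hU2 : ∀ i, (U i).Nonempty)
    (hU3 : Pairwise (Function.onFun Disjoint U)) (hU4 : ⋃ i, U i = Set.univ) :
    ∃ e : Fin n → C, (∀ i, IsIdempotentElem (e i)) ∧ (∀ i, e i ≠ 0) ∧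
      (∀ i j, i ≠ j → e i * e j = 0) ∧ ∑ i, e i = 1 := by
  have h := fun i => PrimeSpectrum.isClopen_iff.mp (hU1 i)
  choose e he heU using h
  have horth : ∀ i j, i ≠ j → e i * e j = 0 := by
    intro i j hij
    apply eq_zero_of_idem_of_nilpotent ((he i).mul (he j))
    rw [← PrimeSpectrum.basicOpen_eq_bot_iff, PrimeSpectrum.basicOpen_mul]
    apply TopologicalSpace.Opens.ext
    rw [TopologicalSpace.Opens.coe_inf, ← heU, ← heU]
    exact Set.disjoint_iff_inter_eq_empty.mp (hU3 hij)
  refine ⟨e, he, fun i h0 => ?_, horth, ?_⟩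
  · obtain ⟨x, hx⟩ := hU2 i
    rw [heU i, h0, PrimeSpectrum.basicOpen_zero] at hx
    exact hx
  · have hs : IsIdempotentElem (1 - ∑ i, e i) := by
      apply IsIdempotentElem.one_sub
      rw [IsIdempotentElem, Finset.sum_mul]
      apply Finset.sum_congr rfl
      intro i _
      rw [Finset.mul_sum, Finset.sum_eq_single i]
      · exact (he i).eq
      · intro j _ hji
        exact horth i j (Ne.symm hji)
      · intro hi
        exact absurd (Finset.mem_univ i) hi
    have hnil : IsNilpotent (1 - ∑ i, e i) := by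
      rw [← mem_nilradical, nilradical_eq_sInf, Ideal.mem_sInf]
      intro p hp
      have hpU : (⟨p, hp⟩ : PrimeSpectrum C) ∈ ⋃ i, U i := by
        rw [hU4]
        exact Set.mem_univ _
      obtain ⟨i, hi⟩ := Set.mem_iUnion.mp hpU
      rw [heU i] at hi
      have hei : e i ∉ p := hi
      have h0 : (1 - ∑ j, e j) * e i = 0 := by
        rw [sub_mul, one_mul, Finset.sum_mul, Finset.sum_eq_single i, (he i).eq, sub_self]
        · intro j _ hji
          exact horth j i hji
        · intro hi
          exact absurd (Finset.mem_univ i) hi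
      have : (1 - ∑ j, e j) * e i ∈ p := by
        rw [h0]
        exact zero_mem _
      exact (hp.mem_or_mem this).resolve_right hei
    have := eq_zero_of_idem_of_nilpotent hs hnil
    exact (sub_eq_zero.mp this).symm

end spec

section final
variable {A : Type u} [CommRing A] {B : Type u} [CommRing B] [Algebra A B] {d : ℕ}

theorem card_connectedComponents_image_le [ConnectedSpace (PrimeSpectrum A)]
    (F : PolLaw.MulLaw A B A d) :
    Finite (ConnectedComponents (PrimeSpectrum (PolLaw.image F.law))) ∧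
      Nat.card (ConnectedComponents (PrimeSpectrum (PolLaw.image F.law))) ≤ d := by
  apply card_connectedComponents_le
  intro n U hU1 hU2 hU3 hU4
  obtain ⟨e, he, hne, horth, hsum⟩ := exists_idem_of_clopen_cover U hU1 hU2 hU3 hU4
  exact card_le_of_orthogonal_idem F e he hne horth hsum

end final

end Groth.Agent.Lib.Helper14.PolLawConn
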