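import Mathlib
import Groth.Prelude.Def_PolLaw
import Groth.Prelude.Def_PolLaw2
import Groth.Agent.Lib.Helper14PolLawCH4
import Groth.Agent.Lib.Helper14PolLawCH6

/-!
# The image of a family of zero-cycles is universally generizing (helper14)

`mem_kerBC_of_forall_mvPolynomial` (test rings `A'[X₁..Xₙ]` suffice for `kerBC`),
`mem_kerBC_of_smul_mem_kerBC` (`A'` a domain: `kerBC F A'` is saturated),
`isNilpotent_of_smul` (`A''` a domain: `A'' ⊗ B/ker F` mod nilradical is torsion free),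
`mem_radical_of_mul_mem_radical`, `comap_eq_of_mem_minimalPrimes`, `hasGoingDown`.
-/

set_option autoImplicit false
universe u
open TensorProduct

namespace Groth.Agent.Lib.Helper14.PolLawGen

open Groth.Agent.Lib.Helper14.PolLawDiag
open Groth.Agent.Lib.Helper14.PolLawCH4
open Groth.Agent.Lib.Helper14.PolLawMvKer (ext)
open Groth.Agent.Lib.Helper14.PolLawPoly (map_map_apply map_ker_le_kerBC)
open Groth.Agent.Lib.Helper14.PolLawRed (toFun'_map rTensor_eq_map exists_lift₂)

section kerBC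
variable {A : Type u} [CommRing A] {B E : Type u} [CommRing B] [Algebra A B] [CommRing E]
  [Algebra A E]

lemma mem_kerBC_of_forall_mvPolynomial (F : B →ₚₗ[A] E) (A' : Type u) [CommRing A'] [Algebra A A']
    (z : A' ⊗[A] B)
    (h : ∀ (n : ℕ) (x w : MvPolynomial (Fin n) A' ⊗[A] B),
      F.toFun' (MvPolynomial (Fin n) A') (x + w * Algebra.TensorProduct.map
        (IsScalarTower.toAlgHom A A' (MvPolynomial (Fin n) A')) (AlgHom.id A B) z) =
        F.toFun' (MvPolynomial (Fin n) A') x) :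
    z ∈ PolLaw.kerBC F A' := by
  intro R _ _ _ _ x w
  obtain ⟨n, ψ₀, x', w', rfl, rfl⟩ := exists_lift₂ x w
  set ψ : MvPolynomial (Fin n) A' →ₐ[A'] R := MvPolynomial.aeval (fun j => ψ₀ (MvPolynomial.X j))
    with hψ
  set j₀ : MvPolynomial (Fin n) A →ₐ[A] MvPolynomial (Fin n) A' :=
    MvPolynomial.mapAlgHom (Algebra.ofId A A') with hj₀
  have hcomp : (ψ.restrictScalars A).comp j₀ = ψ₀ := by
    apply MvPolynomial.algHom_ext
    intro j
    simp [hψ, hj₀]
  have h1 := h n (Algebra.TensorProduct.map j₀ (AlgHom.id A B) x')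
    (Algebra.TensorProduct.map j₀ (AlgHom.id A B) w')
  have h2 := congrArg (Algebra.TensorProduct.map (ψ.restrictScalars A) (AlgHom.id A E)) h1
  rw [← toFun'_map, ← toFun'_map, map_add, map_mul, map_map_apply, map_map_apply, map_map_apply,
    hcomp] at h2
  have e : (ψ.restrictScalars A).comp (IsScalarTower.toAlgHom A A' (MvPolynomial (Fin n) A')) =
      IsScalarTower.toAlgHom A A' R := by
    ext a
    simp
  rw [e] at h2
  exact h2

end kerBC

section sat
variable {A : Type u} [CommRing A] {B : Type u} [CommRing B] [Algebra A B]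
  {A' : Type u} [CommRing A'] [Algebra A A'] [IsDomain A']

theorem mem_kerBC_of_smul_mem_kerBC (F : B →ₚₗ[A] A) {a : A'} (ha : a ≠ 0) {z : A' ⊗[A] B}
    (h : a • z ∈ PolLaw.kerBC F A') : z ∈ PolLaw.kerBC F A' := by
  apply mem_kerBC_of_forall_mvPolynomial
  intro n x w
  apply toFun'_eq_of_bar_eq
  set S₀ := MvPolynomial (Fin n) A'
  set K := FractionRing S₀
  set j : S₀ →ₐ[A] K := IsScalarTower.toAlgHom A S₀ K with hj
  have hjinj : Function.Injective j := IsFractionRing.injective S₀ K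
  apply hjinj
  rw [← bar_map, ← bar_map, map_add, map_mul, map_map_apply]
  have e : j.comp (IsScalarTower.toAlgHom A A' S₀) = IsScalarTower.toAlgHom A A' K := by
    ext a
    simp [hj, ← IsScalarTower.algebraMap_apply]
  rw [e]
  have ha' : (algebraMap A' K a) ≠ 0 := by
    rw [IsScalarTower.algebraMap_apply A' S₀ K]
    intro h0
    have := hjinj (a₁ := algebraMap A' S₀ a) (a₂ := 0) (by rw [map_zero]; exact h0)
    exact ha (MvPolynomial.C_injective (Fin n) A' (by simpa using this))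
  set W := Algebra.TensorProduct.map j (AlgHom.id A B) w with hW
  set ι := Algebra.TensorProduct.map (IsScalarTower.toAlgHom A A' K) (AlgHom.id A B) with hι
  have key : W * ι z = ((((algebraMap A' K a)⁻¹ : K) ⊗ₜ[A] (1 : B)) * W) * ι (a • z) := by
    have : ι (a • z) = ((algebraMap A' K a) ⊗ₜ[A] (1 : B)) * ι z := by
      rw [Algebra.smul_def, map_mul, Algebra.TensorProduct.algebraMap_apply, hι,
        Algebra.TensorProduct.map_tmul, map_one]
      rfl
    rw [this]
    have h3 : (((algebraMap A' K a)⁻¹ : K) ⊗ₜ[A] (1 : B)) *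
        ((algebraMap A' K a) ⊗ₜ[A] (1 : B)) = 1 := by
      rw [Algebra.TensorProduct.tmul_mul_tmul, inv_mul_cancel₀ ha', one_mul,
        Algebra.TensorProduct.one_def]
    calc W * ι z
        = ((((algebraMap A' K a)⁻¹ : K) ⊗ₜ[A] (1 : B)) *
          ((algebraMap A' K a) ⊗ₜ[A] (1 : B))) * (W * ι z) := by
          rw [h3, one_mul]
      _ = _ := by ring
  rw [key]
  unfold bar
  rw [h K]

end sat

section nil
variable {A : Type u} [CommRing A] {B : Type u} [CommRing B] [Algebra A B] {d : ℕ}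

lemma smul_eq_tmul_one_mul {S T : Type u} [CommRing S] [Algebra A S] [CommRing T] [Algebra A T]
    (c : S) (t : S ⊗[A] T) : c • t = (c ⊗ₜ[A] (1 : T)) * t := by
  induction t using TensorProduct.induction_on with
  | zero => simp
  | tmul x e =>
    rw [TensorProduct.smul_tmul', Algebra.TensorProduct.tmul_mul_tmul, one_mul, smul_eq_mul]
  | add x y hx hy => rw [smul_add, mul_add, hx, hy]

theorem isNilpotent_of_smul (F : PolLaw.MulLaw A B A d) {A'' : Type u} [CommRing A'']
    [Algebra A A''] [IsDomain A''] {a : A''} (ha : a ≠ 0) (y : A'' ⊗[A] PolLaw.image F.law)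
    (h : IsNilpotent (a • y)) : IsNilpotent y := by
  set Ψ : A'' ⊗[A] B →ₐ[A] A'' ⊗[A] PolLaw.image F.law :=
    Algebra.TensorProduct.map (AlgHom.id A A'') (Ideal.Quotient.mkₐ A (PolLaw.ker F.law)) with hΨ
  have hsurj : Function.Surjective Ψ :=
    Algebra.TensorProduct.map_surjective (f := AlgHom.id A A'')
      (g := Ideal.Quotient.mkₐ A (PolLaw.ker F.law)) Function.surjective_id
      (Ideal.Quotient.mkₐ_surjective A _)
  have hker : RingHom.ker Ψ = ext (PolLaw.ker F.law) A'' := by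
    have hk : RingHom.ker (Ideal.Quotient.mkₐ A (PolLaw.ker F.law)) = PolLaw.ker F.law := by
      ext b
      rw [RingHom.mem_ker, Ideal.Quotient.mkₐ_eq_mk, Ideal.Quotient.eq_zero_iff_mem]
    rw [hΨ, Algebra.TensorProduct.lTensor_ker _ (Ideal.Quotient.mkₐ_surjective A _), hk]
  obtain ⟨z, rfl⟩ := hsurj y
  obtain ⟨n, hn⟩ := h
  have h1 : (a • z) ^ n ∈ RingHom.ker Ψ := by
    rw [RingHom.mem_ker, map_pow]
    have : Ψ (a • z) = a • Ψ z :=
      map_smul (Algebra.TensorProduct.map (AlgHom.id A'' A'')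
        (Ideal.Quotient.mkₐ A (PolLaw.ker F.law))) a z
    rw [this]
    exact hn
  rw [hker, smul_pow] at h1
  have h2 : z ^ n ∈ PolLaw.kerBC F.law A'' :=
    mem_kerBC_of_smul_mem_kerBC F.law (pow_ne_zero n ha) (map_ker_le_kerBC F.law A'' h1)
  have h3 : z ∈ (ext (PolLaw.ker F.law) A'').radical := by
    rw [← radical_kerBC]
    exact ⟨n, h2⟩
  obtain ⟨m, hm⟩ := h3
  refine ⟨m, ?_⟩
  rw [← map_pow, ← RingHom.mem_ker, hker]
  exact hm

theorem mem_radical_of_mul_mem_radical (F : PolLaw.MulLaw A B A d) (A' : Type u) [CommRing A']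
    [Algebra A A'] (p : Ideal A') [p.IsPrime] {a : A'} (ha : a ∉ p)
    (y : A' ⊗[A] PolLaw.image F.law)
    (h : algebraMap A' (A' ⊗[A] PolLaw.image F.law) a * y ∈
      (p.map (algebraMap A' (A' ⊗[A] PolLaw.image F.law))).radical) :
    y ∈ (p.map (algebraMap A' (A' ⊗[A] PolLaw.image F.law))).radical := by
  set E := PolLaw.image F.law
  set Φ : A' ⊗[A] E →ₐ[A] (A' ⧸ p) ⊗[A] E :=
    Algebra.TensorProduct.map (Ideal.Quotient.mkₐ A p) (AlgHom.id A E) with hΦ
  have hk : RingHom.ker (Ideal.Quotient.mkₐ A p) = p := by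
    ext b
    rw [RingHom.mem_ker, Ideal.Quotient.mkₐ_eq_mk, Ideal.Quotient.eq_zero_iff_mem]
  have hker : RingHom.ker Φ = p.map (algebraMap A' (A' ⊗[A] E)) := by
    rw [hΦ, Algebra.TensorProduct.rTensor_ker _ (Ideal.Quotient.mkₐ_surjective A _), hk]
    rfl
  have hΦa : ∀ y : A' ⊗[A] E, Φ (algebraMap A' (A' ⊗[A] E) a * y) =
      (Ideal.Quotient.mk p a) • Φ y := by
    intro y
    rw [map_mul, Algebra.TensorProduct.algebraMap_apply, hΦ, Algebra.TensorProduct.map_tmul,
      map_one, smul_eq_tmul_one_mul]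
    rfl
  obtain ⟨n, hn⟩ := h
  rw [← hker, RingHom.mem_ker, map_pow, hΦa] at hn
  have hane : Ideal.Quotient.mk p a ≠ 0 := by
    rw [Ne, Ideal.Quotient.eq_zero_iff_mem]
    exact ha
  obtain ⟨m, hm⟩ := isNilpotent_of_smul F hane (Φ y) ⟨n, hn⟩
  refine ⟨m, ?_⟩
  rw [← hker, RingHom.mem_ker, map_pow]
  exact hm

theorem comap_eq_of_mem_minimalPrimes (F : PolLaw.MulLaw A B A d) (A' : Type u) [CommRing A']
    [Algebra A A'] (p : Ideal A') [p.IsPrime] (P : Ideal (A' ⊗[A] PolLaw.image F.law))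
    (hP : P ∈ (p.map (algebraMap A' (A' ⊗[A] PolLaw.image F.law))).minimalPrimes) :
    P.comap (algebraMap A' (A' ⊗[A] PolLaw.image F.law)) = p := by
  apply le_antisymm
  · intro a ha
    rw [Ideal.mem_comap] at ha
    by_contra hap
    have hP' : P ∈ (p.map (algebraMap A' (A' ⊗[A] PolLaw.image F.law))).radical.minimalPrimes := by
      rw [Ideal.radical_minimalPrimes]
      exact hP
    obtain ⟨y, hy, hxy⟩ := Ideal.exists_mul_mem_of_mem_minimalPrimes hP' ha
    exact hy (mem_radical_of_mul_mem_radical F A' p hap y hxy)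
  · rw [← Ideal.map_le_iff_le_comap]
    exact hP.1.2

theorem hasGoingDown (F : PolLaw.MulLaw A B A d) (A' : Type u) [CommRing A'] [Algebra A A'] :
    Algebra.HasGoingDown A' (A' ⊗[A] PolLaw.image F.law) := by
  refine ⟨fun {p} _ Q _ hlt => ?_⟩
  have hle : p.map (algebraMap A' (A' ⊗[A] PolLaw.image F.law)) ≤ Q :=
    Ideal.map_le_iff_le_comap.mpr hlt.le
  obtain ⟨P, hP, hPQ⟩ := Ideal.exists_minimalPrimes_le hle
  exact ⟨P, hPQ, hP.1.1, ⟨(comap_eq_of_mem_minimalPrimes F A' p P hP).symm⟩⟩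

end nil

end Groth.Agent.Lib.Helper14.PolLawGen
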