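import Mathlib
import Groth.Prelude.Def_PolLaw
import Groth.Prelude.Def_PolLaw2
import Groth.Agent.Lib.Helper14PolLawCH7
import Groth.Agent.Lib.Helper14PolLawGen

/-!
# The image of a family of zero-cycles is universally open (helper14)

`charpoly_of_pow_mem_kerBC` (over a domain, an element nilpotent modulo `kerBC` has characteristic
polynomial `(-X)^d`), `image_basicOpen` (the image of `D(g)` in `Spec A'` is the locus where some
lower coefficient of the characteristic polynomial of `g` does not vanish), `isOpenMap_comap`.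
-/

set_option autoImplicit false
universe u
open TensorProduct

namespace Groth.Agent.Lib.Helper14.PolLawOpen

open Groth.Agent.Lib.Helper14.PolLawDiag
open Groth.Agent.Lib.Helper14.PolLawCH
open Groth.Agent.Lib.Helper14.PolLawCH4
open Groth.Agent.Lib.Helper14.PolLawCH7
open Groth.Agent.Lib.Helper14.PolLawMvKer (ext)
open Groth.Agent.Lib.Helper14.PolLawPoly (map_map_apply map_ker_le_kerBC)
open Groth.Agent.Lib.Helper14.PolLawRed (toFun'_map rTensor_eq_map exists_lift₂)

section nil
variable {A : Type u} [CommRing A] {B : Type u} [CommRing B] [Algebra A B] {d : ℕ}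

/-- over a domain, a polynomial dividing a unit multiple of a power of `X` with prescribed
coefficient in degree `d` -/
lemma eq_of_mul_eq_X_pow {k : Type*} [CommRing k] [IsDomain k] (χ Q : Polynomial k) (N d : ℕ)
    (c : k) (hc : c ≠ 0) (hχ : χ.coeff d = c) (u : k) (hu : IsUnit u)
    (h : Q * χ = Polynomial.C u * Polynomial.X ^ N) : χ = Polynomial.C c * Polynomial.X ^ d := by
  have hdvd : χ ∣ Polynomial.X ^ N := by
    have h1 : χ ∣ Polynomial.C u * Polynomial.X ^ N := ⟨Q, by rw [← h, mul_comm]⟩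
    exact ((Polynomial.isUnit_C.mpr hu).dvd_mul_left).mp h1
  obtain ⟨j, _, hj⟩ := (dvd_prime_pow Polynomial.prime_X N).mp hdvd
  obtain ⟨v, hv⟩ := hj
  obtain ⟨a, ha, hav⟩ := Polynomial.isUnit_iff.mp v.isUnit
  have hχ' : χ = Polynomial.C (↑(ha.unit⁻¹) : k) * Polynomial.X ^ j := by
    have h2 : χ * Polynomial.C a = Polynomial.X ^ j := by rw [hav]; exact hv
    have h3 : Polynomial.C a * Polynomial.C (↑(ha.unit⁻¹) : k) = 1 := by
      rw [← Polynomial.C_mul, IsUnit.mul_val_inv, Polynomial.C_1]
    calc χ = χ * (Polynomial.C a * Polynomial.C (↑(ha.unit⁻¹) : k)) := by rw [h3, mul_one]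
      _ = (χ * Polynomial.C a) * Polynomial.C (↑(ha.unit⁻¹) : k) := by ring
      _ = _ := by rw [h2, mul_comm]
  have h4 : χ.coeff d = if d = j then (↑(ha.unit⁻¹) : k) else 0 := by
    rw [hχ', Polynomial.coeff_C_mul, Polynomial.coeff_X_pow]
    split_ifs <;> simp
  rw [hχ] at h4
  by_cases hdj : d = j
  · rw [if_pos hdj] at h4
    rw [hχ', ← hdj, ← h4]
  · rw [if_neg hdj] at h4
    exact absurd h4 hc

theorem charpoly_of_pow_mem_kerBC (F : PolLaw.MulLaw A B A d) (k : Type u) [CommRing k]
    [IsDomain k] [Algebra A k] (z : k ⊗[A] B) (m : ℕ) (hz : z ^ m ∈ PolLaw.kerBC F.law k) :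
    charpoly F.law k z = (-Polynomial.X) ^ d := by
  set Z := inc A k (Polynomial k) B z with hZ
  set T : Polynomial k ⊗[A] B := (Polynomial.X : Polynomial k) ⊗ₜ[A] (1 : B) with hT
  set W := ∑ i ∈ Finset.range m, Z ^ i * T ^ (m - 1 - i) with hW
  have h1 : W * (Z - T) = Z ^ m - T ^ m := by
    rw [hW]
    exact Commute.geom_sum₂_mul (Commute.all Z T) m
  have h2 : F.law.toFun' (Polynomial k) (Z ^ m - T ^ m) = F.law.toFun' (Polynomial k) (-T ^ m) := by
    have := hz (Polynomial k) (-T ^ m) 1
    rw [one_mul, map_pow] at this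
    rw [← this]
    congr 1
    ring
  have h3 : -T ^ m = (-(Polynomial.X : Polynomial k) ^ m) • (1 : Polynomial k ⊗[A] B) := by
    rw [hT, Algebra.TensorProduct.tmul_pow, one_pow, Algebra.TensorProduct.one_def,
      TensorProduct.smul_tmul', smul_eq_mul, mul_one, TensorProduct.neg_tmul]
  have h4 : bar F.law (Polynomial k) W * charpoly F.law k z =
      (-(Polynomial.X : Polynomial k) ^ m) ^ d := by
    rw [charpoly, ← bar_mul F.mult, h1]
    unfold bar
    rw [h2, h3, F.homog, (F.mult _).1, map_smul, map_one, smul_eq_mul, mul_one]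
  have h5 : (-(Polynomial.X : Polynomial k) ^ m) ^ d =
      Polynomial.C ((-1 : k) ^ d) * Polynomial.X ^ (m * d) := by
    rw [neg_pow, ← pow_mul, map_pow, map_neg, map_one]
  rw [h5] at h4
  have h6 := eq_of_mul_eq_X_pow (charpoly F.law k z) (bar F.law (Polynomial k) W) (m * d) d
    ((-1) ^ d) (pow_ne_zero d (neg_ne_zero.mpr one_ne_zero)) (charpoly_coeff F k z).2
    ((-1) ^ d) ((isUnit_one.neg).pow d) h4
  rw [h6, neg_pow (Polynomial.X : Polynomial k), map_pow, map_neg, map_one]

end nil

section open_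
variable {A : Type u} [CommRing A] {B : Type u} [CommRing B] [Algebra A B] {d : ℕ}
  (F : PolLaw.MulLaw A B A d) (A' : Type u) [CommRing A'] [Algebra A A']

/-- the quotient map `A' ⊗ B → A' ⊗ B/ker F` as an `A'`-algebra map -/
noncomputable abbrev Psi : A' ⊗[A] B →ₐ[A'] A' ⊗[A] PolLaw.image F.law :=
  Algebra.TensorProduct.map (AlgHom.id A' A') (Ideal.Quotient.mkₐ A (PolLaw.ker F.law))

lemma Psi_surjective : Function.Surjective (Psi F A') :=
  Algebra.TensorProduct.map_surjective (f := AlgHom.id A' A')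
    (g := Ideal.Quotient.mkₐ A (PolLaw.ker F.law)) Function.surjective_id
    (Ideal.Quotient.mkₐ_surjective A _)

lemma mem_ext_of_Psi_eq_zero {x : A' ⊗[A] B} (hx : Psi F A' x = 0) :
    x ∈ ext (PolLaw.ker F.law) A' := by
  have hk : RingHom.ker (Ideal.Quotient.mkₐ A (PolLaw.ker F.law)) = PolLaw.ker F.law := by
    ext b
    rw [RingHom.mem_ker, Ideal.Quotient.mkₐ_eq_mk, Ideal.Quotient.eq_zero_iff_mem]
  have hker := Algebra.TensorProduct.lTensor_ker (A := A')
    (Ideal.Quotient.mkₐ A (PolLaw.ker F.law)) (Ideal.Quotient.mkₐ_surjective A _)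
  rw [hk] at hker
  have h1 : x ∈ RingHom.ker (Algebra.TensorProduct.map (AlgHom.id A A')
      (Ideal.Quotient.mkₐ A (PolLaw.ker F.law))) := by
    rw [RingHom.mem_ker]
    exact hx
  rw [hker] at h1
  exact h1

lemma Psi_eq_zero_of_mem_ext {x : A' ⊗[A] B} (hx : x ∈ ext (PolLaw.ker F.law) A') :
    Psi F A' x = 0 := by
  have hk : RingHom.ker (Ideal.Quotient.mkₐ A (PolLaw.ker F.law)) = PolLaw.ker F.law := by
    ext b
    rw [RingHom.mem_ker, Ideal.Quotient.mkₐ_eq_mk, Ideal.Quotient.eq_zero_iff_mem]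
  have hker := Algebra.TensorProduct.lTensor_ker (A := A')
    (Ideal.Quotient.mkₐ A (PolLaw.ker F.law)) (Ideal.Quotient.mkₐ_surjective A _)
  rw [hk] at hker
  have h1 : x ∈ RingHom.ker (Algebra.TensorProduct.map (AlgHom.id A A')
      (Ideal.Quotient.mkₐ A (PolLaw.ker F.law))) := by
    rw [hker]
    exact hx
  rw [RingHom.mem_ker] at h1
  exact h1

lemma aeval_Psi_charpoly (g : A' ⊗[A] B) :
    Polynomial.aeval (Psi F A' g) (charpoly F.law A' g) = 0 := by
  rw [Polynomial.aeval_algHom_apply]
  exact Psi_eq_zero_of_mem_ext F A' (aeval_charpoly_mem_ext F A' g)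

theorem image_basicOpen (g : A' ⊗[A] B) :
    PrimeSpectrum.comap (algebraMap A' (A' ⊗[A] PolLaw.image F.law)) ''
      (PrimeSpectrum.basicOpen (Psi F A' g) : Set _) =
    (PrimeSpectrum.zeroLocus
      (Set.range (charpoly F.law A' g - (-Polynomial.X) ^ d).coeff))ᶜ := by
  set χ := charpoly F.law A' g with hχ
  set δ := χ - (-Polynomial.X) ^ d with hδ
  set gb := Psi F A' g with hgb
  apply Set.Subset.antisymm
  · rintro _ ⟨q, hq, rfl⟩
    intro hmem
    rw [PrimeSpectrum.mem_zeroLocus] at hmem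
    apply hq
    have hcoef : ∀ i, algebraMap A' (A' ⊗[A] PolLaw.image F.law) (δ.coeff i) ∈ q.asIdeal :=
      fun i => hmem ⟨i, rfl⟩
    have h1 : Polynomial.aeval gb δ ∈ q.asIdeal := by
      rw [Polynomial.aeval_eq_sum_range]
      apply Ideal.sum_mem
      intro i _
      rw [Algebra.smul_def]
      exact Ideal.mul_mem_right _ _ (hcoef i)
    have h2 : Polynomial.aeval gb δ = -((-gb) ^ d) := by
      rw [hδ, map_sub, aeval_Psi_charpoly, zero_sub, map_pow, map_neg, Polynomial.aeval_X]
    rw [h2] at h1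
    have h3 : (-gb) ^ d ∈ q.asIdeal := by
      have := q.asIdeal.neg_mem h1
      rwa [neg_neg] at this
    have h4 := q.2.mem_of_pow_mem d h3
    have := q.asIdeal.neg_mem h4
    rwa [neg_neg] at this
  · intro p' hp'
    rw [Set.mem_compl_iff, PrimeSpectrum.mem_zeroLocus, Set.not_subset] at hp'
    obtain ⟨_, ⟨i, rfl⟩, hi⟩ := hp'
    set k := p'.asIdeal.ResidueField
    set φ : A' →ₐ[A] k := IsScalarTower.toAlgHom A A' k with hφ
    set θ : A' ⊗[A] PolLaw.image F.law →ₐ[A] k ⊗[A] PolLaw.image F.law :=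
      Algebra.TensorProduct.map φ (AlgHom.id A (PolLaw.image F.law)) with hθ
    set gk : k ⊗[A] B := Algebra.TensorProduct.map φ (AlgHom.id A B) g with hgk
    have hnat : θ gb = Psi F k gk := by
      rw [hgb, hgk, hθ]
      generalize g = g'
      induction g' using TensorProduct.induction_on with
      | zero => simp
      | tmul a b => simp [Algebra.TensorProduct.map_tmul]
      | add x y hx hy => simp only [map_add, hx, hy]
    have hnn : ¬ IsNilpotent (θ gb) := by
      rintro ⟨m, hm⟩
      rw [hnat, ← map_pow] at hm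
      have h1 : gk ^ m ∈ PolLaw.kerBC F.law k :=
        map_ker_le_kerBC F.law k (mem_ext_of_Psi_eq_zero F k hm)
      have h2 := charpoly_of_pow_mem_kerBC F k gk m h1
      rw [hgk, charpoly_map] at h2
      have h3 : (δ.map (φ : A' →+* k)) = 0 := by
        rw [hδ, Polynomial.map_sub, h2, Polynomial.map_pow, Polynomial.map_neg, Polynomial.map_X,
          sub_self]
      have h4 : φ (δ.coeff i) = 0 := by
        have := congrArg (fun q => q.coeff i) h3
        simpa [Polynomial.coeff_map] using this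
      apply hi
      have h5 : algebraMap A' k (δ.coeff i) = 0 := h4
      rwa [Ideal.algebraMap_residueField_eq_zero] at h5
    rw [← mem_nilradical, nilradical_eq_sInf, Ideal.mem_sInf] at hnn
    push Not at hnn
    obtain ⟨Q, hQ, hgQ⟩ := hnn
    have hQ' : Q.IsPrime := hQ
    refine ⟨⟨Q.comap θ.toRingHom, Ideal.comap_isPrime _ _⟩, ?_, ?_⟩
    · intro hmem
      exact hgQ hmem
    · ext a
      rw [PrimeSpectrum.comap_asIdeal, Ideal.mem_comap]
      show θ (algebraMap A' (A' ⊗[A] PolLaw.image F.law) a) ∈ Q ↔ a ∈ p'.asIdeal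
      have h1 : θ (algebraMap A' (A' ⊗[A] PolLaw.image F.law) a) =
          algebraMap k (k ⊗[A] PolLaw.image F.law) (algebraMap A' k a) := by
        rw [Algebra.TensorProduct.algebraMap_apply, Algebra.TensorProduct.algebraMap_apply, hθ,
          Algebra.TensorProduct.map_tmul, map_one]
        rfl
      rw [h1]
      constructor
      · intro h
        by_contra ha
        have hne : algebraMap A' k a ≠ 0 := by
          rwa [Ne, Ideal.algebraMap_residueField_eq_zero]
        have hu : IsUnit (algebraMap k (k ⊗[A] PolLaw.image F.law) (algebraMap A' k a)) :=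
          (IsUnit.mk0 _ hne).map _
        exact hQ'.ne_top (Ideal.eq_top_of_isUnit_mem _ h hu)
      · intro ha
        rw [Ideal.algebraMap_residueField_eq_zero.mpr ha, map_zero]
        exact zero_mem _

theorem isOpenMap_comap :
    IsOpenMap (PrimeSpectrum.comap (algebraMap A' (A' ⊗[A] PolLaw.image F.law))) := by
  rw [PrimeSpectrum.isTopologicalBasis_basic_opens.isOpenMap_iff]
  rintro _ ⟨s, rfl⟩
  obtain ⟨g, rfl⟩ := Psi_surjective F A' s
  rw [image_basicOpen]
  exact (PrimeSpectrum.isClosed_zeroLocus _).isOpen_compl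

end open_

end Groth.Agent.Lib.Helper14.PolLawOpen
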