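import Mathlib

/-!
# Potential good reduction: auxiliary results (helper14)

* `exists_formA`, `exists_formB`: normal forms `y² = x³ + a x² + x` (char ≠ 2) and Deuring form
  `y² + α x y + y = x³` (char ≠ 3) of an elliptic curve over an algebraically closed field.
* `formA_val`, `formB_val`: integrality of the parameter and unit discriminant when `j` is integral.
* `hasGoodReduction_minimal`: an integral model with unit discriminant forces good reduction of the
  minimal model.
-/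

set_option autoImplicit false
set_option linter.unusedVariables false
set_option linter.unusedSectionVars false
set_option linter.style.haveILetI false

namespace Groth.Agent.Lib.Helper14PotGoodA

open WeierstrassCurve Polynomial

variable {F : Type*} [Field F] [IsAlgClosed F]

lemma exists_root_monic (n : ℕ) (hn : 0 < n) (q : F[X]) (hq : q.degree < n) :
    ∃ x : F, x ^ n + q.eval x = 0 := by
  have hdeg : (X ^ n + q).degree = (n : WithBot ℕ) := by
    rw [Polynomial.degree_add_eq_left_of_degree_lt (by rwa [Polynomial.degree_X_pow]),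
      Polynomial.degree_X_pow]
  obtain ⟨x, hx⟩ := IsAlgClosed.exists_root (X ^ n + q) (by
    rw [hdeg]; exact_mod_cast hn.ne')
  exact ⟨x, by simpa using hx⟩

lemma exists_cubic_root (a b c : F) : ∃ x : F, x ^ 3 + a * x ^ 2 + b * x + c = 0 := by
  obtain ⟨x, hx⟩ := exists_root_monic (F := F) 3 (by norm_num) (C a * X ^ 2 + C b * X + C c) (by
    refine lt_of_le_of_lt (Polynomial.degree_quadratic_le) ?_
    norm_num)
  exact ⟨x, by simp at hx; linear_combination hx⟩

lemma exists_quartic_root (a b c d : F) : ∃ x : F, x ^ 4 + a * x ^ 3 + b * x ^ 2 + c * x + d = 0 := by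
  obtain ⟨x, hx⟩ := exists_root_monic (F := F) 4 (by norm_num) (C a * X ^ 3 + C b * X ^ 2 + C c * X + C d) (by
    refine lt_of_le_of_lt (Polynomial.degree_cubic_le) ?_
    norm_num)
  exact ⟨x, by simp at hx; linear_combination hx⟩

lemma exists_quadratic_root (b c : F) : ∃ x : F, x ^ 2 + b * x + c = 0 := by
  obtain ⟨x, hx⟩ := exists_root_monic (F := F) 2 (by norm_num) (C b * X + C c) (by
    refine lt_of_le_of_lt (Polynomial.degree_linear_le) ?_
    norm_num)
  exact ⟨x, by simp at hx; linear_combination hx⟩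

/-- Normal form A (char ≠ 2): `y² = x³ + a x² + x`. -/
theorem exists_formA (W : WeierstrassCurve F) (hΔ : W.Δ ≠ 0) (h2 : (2 : F) ≠ 0) :
    ∃ C : VariableChange F, (C • W).a₁ = 0 ∧ (C • W).a₃ = 0 ∧ (C • W).a₄ = 1 ∧ (C • W).a₆ = 0 := by
  have h4 : (4 : F) ≠ 0 := by
    have : (4 : F) = 2 * 2 := by norm_num
    rw [this]; exact mul_ne_zero h2 h2
  obtain ⟨r, hr⟩ := exists_cubic_root (F := F) (W.a₂ + W.a₁ ^ 2 / 4) (W.a₄ + W.a₁ * W.a₃ / 2)
    (W.a₆ + W.a₃ ^ 2 / 4)
  set s : F := -W.a₁ / 2 with hs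
  set t : F := -(W.a₃ + r * W.a₁) / 2 with ht
  set C₀ : VariableChange F := ⟨1, r, s, t⟩ with hC₀
  set W₀ := C₀ • W with hW₀
  have e1 : W₀.a₁ = 0 := by
    simp only [hW₀, variableChange_a₁, hC₀, hs, inv_one, Units.val_one, one_mul]
    field_simp
    ring
  have e3 : W₀.a₃ = 0 := by
    simp only [hW₀, variableChange_a₃, hC₀, ht, inv_one, Units.val_one, one_pow, one_mul]
    field_simp
    ring
  have e6 : W₀.a₆ = 0 := by
    simp only [hW₀, variableChange_a₆, hC₀, ht, hs, inv_one, Units.val_one, one_pow, one_mul]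
    field_simp
    field_simp at hr
    refine mul_left_cancel₀ h2 ?_
    linear_combination hr
  have hΔ₀ : W₀.Δ = W.Δ := by
    simp only [hW₀, variableChange_Δ, hC₀]
    simp
  have e4 : W₀.a₄ ≠ 0 := by
    intro h
    apply hΔ
    rw [← hΔ₀]
    simp only [WeierstrassCurve.Δ, b₂, b₄, b₆, b₈, e1, e3, e6, h]
    ring
  obtain ⟨u, hu⟩ := IsAlgClosed.exists_pow_nat_eq W₀.a₄ (n := 4) (by norm_num)
  have hu0 : u ≠ 0 := by
    rintro rfl
    apply e4
    rw [← hu]; norm_num
  set C₁ : VariableChange F := ⟨Units.mk0 u hu0, 0, 0, 0⟩ with hC₁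
  refine ⟨C₁ * C₀, ?_⟩
  rw [mul_smul, ← hW₀]
  refine ⟨?_, ?_, ?_, ?_⟩
  · simp only [variableChange_a₁, hC₁, e1]; simp
  · simp only [variableChange_a₃, hC₁, e3]; simp
  · simp only [variableChange_a₄, hC₁]
    simp
    rw [← hu]
    field_simp
  · simp only [variableChange_a₆, hC₁, e6]; simp

/-- Normal form B (char ≠ 3), Deuring form: `y² + α x y + y = x³`. -/
theorem exists_formB (W : WeierstrassCurve F) (hΔ : W.Δ ≠ 0) (h3 : (3 : F) ≠ 0) :
    ∃ C : VariableChange F, (C • W).a₂ = 0 ∧ (C • W).a₃ = 1 ∧ (C • W).a₄ = 0 ∧ (C • W).a₆ = 0 := by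
  obtain ⟨r, hr⟩ := exists_quartic_root (F := F) (W.b₂ / 3) W.b₄ W.b₆ (W.b₈ / 3)
  obtain ⟨t, ht⟩ := exists_quadratic_root (F := F) (W.a₁ * r + W.a₃)
    (-(r ^ 3 + W.a₂ * r ^ 2 + W.a₄ * r + W.a₆))
  set C₀ : VariableChange F := ⟨1, r, 0, t⟩ with hC₀
  set W₀ := C₀ • W with hW₀
  have e6 : W₀.a₆ = 0 := by
    simp only [hW₀, variableChange_a₆, hC₀, inv_one, Units.val_one, one_pow, one_mul]
    linear_combination (-1 : F) * ht
  have eb8 : W₀.b₈ = 0 := by
    simp only [hW₀, variableChange_b₈, hC₀, inv_one, Units.val_one, one_pow, one_mul]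
    field_simp at hr
    linear_combination hr
  have hΔ₀ : W₀.Δ = W.Δ := by
    simp only [hW₀, variableChange_Δ, hC₀]
    simp
  have e3 : W₀.a₃ ≠ 0 := by
    intro h
    have h4 : W₀.a₄ = 0 := by
      have := eb8
      simp only [b₈, e6, h] at this
      have h' : W₀.a₄ ^ 2 = 0 := by linear_combination (-1 : F) * this
      exact pow_eq_zero_iff (two_ne_zero) |>.mp h'
    apply hΔ
    rw [← hΔ₀]
    simp only [WeierstrassCurve.Δ, b₂, b₄, b₆, b₈, e6, h, h4]
    ring
  -- step 2: kill a₄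
  set C₁ : VariableChange F := ⟨1, 0, W₀.a₄ / W₀.a₃, 0⟩ with hC₁
  set W₁ := C₁ • W₀ with hW₁
  have f3 : W₁.a₃ = W₀.a₃ := by
    simp only [hW₁, variableChange_a₃, hC₁, inv_one, Units.val_one, one_pow, one_mul]
    ring
  have f4 : W₁.a₄ = 0 := by
    simp only [hW₁, variableChange_a₄, hC₁, inv_one, Units.val_one, one_pow, one_mul]
    field_simp
    ring
  have f6 : W₁.a₆ = 0 := by
    simp only [hW₁, variableChange_a₆, hC₁, inv_one, Units.val_one, one_pow, one_mul, e6]
    ring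
  have fb8 : W₁.b₈ = 0 := by
    simp only [hW₁, variableChange_b₈, hC₁, inv_one, Units.val_one, one_pow, one_mul, eb8]
    ring
  have f2 : W₁.a₂ = 0 := by
    have := fb8
    simp only [b₈, f4, f6, f3] at this
    have h' : W₁.a₂ * W₀.a₃ ^ 2 = 0 := by linear_combination this
    rcases mul_eq_zero.mp h' with h | h
    · exact h
    · exact absurd (pow_eq_zero_iff (two_ne_zero) |>.mp h) e3
  -- step 3: scale a₃ to 1
  obtain ⟨u, hu⟩ := IsAlgClosed.exists_pow_nat_eq W₀.a₃ (n := 3) (by norm_num)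
  have hu0 : u ≠ 0 := by
    rintro rfl
    apply e3
    rw [← hu]; norm_num
  set C₂ : VariableChange F := ⟨Units.mk0 u hu0, 0, 0, 0⟩ with hC₂
  refine ⟨C₂ * (C₁ * C₀), ?_⟩
  rw [mul_smul, mul_smul, ← hW₀, ← hW₁]
  refine ⟨?_, ?_, ?_, ?_⟩
  · simp only [variableChange_a₂, hC₂, f2]; simp
  · simp only [variableChange_a₃, hC₂, f3]
    simp
    rw [← hu]
    field_simp
  · simp only [variableChange_a₄, hC₂, f4]; simp
  · simp only [variableChange_a₆, hC₂, f6]; simp

end Groth.Agent.Lib.Helper14PotGoodA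

namespace Groth.Agent.Lib.Helper14PotGoodB

section Val
variable {L : Type*} [Field L] {Γ₀ : Type*} [LinearOrderedCommGroupWithZero Γ₀] (v : Valuation L Γ₀)

lemma formA_val (a j : L) (h2 : v 2 = 1) (h3 : v 3 ≤ 1) (hj : v j ≤ 1)
    (h : j * (a ^ 2 - 4) = 256 * (a ^ 2 - 3) ^ 3) : v a ≤ 1 ∧ v (16 * (a ^ 2 - 4)) = 1 := by
  have h4 : v 4 = 1 := by
    have : (4 : L) = 2 * 2 := by norm_num
    rw [this, map_mul, h2, one_mul]
  have h16 : v 16 = 1 := by
    have : (16 : L) = 4 * 4 := by norm_num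
    rw [this, map_mul, h4, one_mul]
  have h256 : v 256 = 1 := by
    have : (256 : L) = 16 * 16 := by norm_num
    rw [this, map_mul, h16, one_mul]
  have hv := congrArg v h
  rw [map_mul, map_mul, map_pow, h256, one_mul] at hv
  have ha : v a ≤ 1 := by
    by_contra hcon
    rw [not_le] at hcon
    have ha2 : 1 < v (a ^ 2) := by
      rw [map_pow]; exact one_lt_pow₀ hcon (by norm_num)
    have e1 : v (a ^ 2 - 3) = v (a ^ 2) :=
      Valuation.map_sub_eq_of_lt_left v (lt_of_le_of_lt h3 ha2)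
    have e2 : v (a ^ 2 - 4) = v (a ^ 2) :=
      Valuation.map_sub_eq_of_lt_left v (by rw [h4]; exact ha2)
    rw [e1, e2, map_pow, ← pow_mul] at hv
    have h6 : v a ^ 2 < v a ^ (2 * 3) := pow_lt_pow_right₀ hcon (by norm_num)
    have : v j * v a ^ 2 ≤ v a ^ 2 := mul_le_of_le_one_left' hj
    rw [hv] at this
    exact absurd this (not_le.mpr h6)
  refine ⟨ha, ?_⟩
  have ha2 : v (a ^ 2) ≤ 1 := by rw [map_pow]; exact pow_le_one₀ zero_le ha
  have hle : v (a ^ 2 - 4) ≤ 1 := Valuation.map_sub_le v ha2 h4.le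
  rw [map_mul, h16, one_mul]
  refine le_antisymm hle ?_
  by_contra hcon
  rw [not_le] at hcon
  have e1 : v (a ^ 2 - 3) = 1 := by
    have : a ^ 2 - 3 = (a ^ 2 - 4) + 1 := by ring
    rw [this, Valuation.map_add_eq_of_lt_right v (by rw [map_one]; exact hcon), map_one]
  rw [e1, one_pow] at hv
  have : v j * v (a ^ 2 - 4) < 1 := lt_of_le_of_lt (mul_le_of_le_one_left' hj) hcon
  rw [hv] at this
  exact lt_irrefl _ this

lemma formB_val (α j : L) (h2 : v 2 ≤ 1) (h3 : v 3 = 1) (hj : v j ≤ 1)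
    (h : j * (α ^ 3 - 27) = α ^ 3 * (α ^ 3 - 24) ^ 3) : v α ≤ 1 ∧ v (α ^ 3 - 27) = 1 := by
  have h27 : v 27 = 1 := by
    have : (27 : L) = 3 * 3 * 3 := by norm_num
    rw [this, map_mul, map_mul, h3, one_mul, one_mul]
  have h24 : v 24 ≤ 1 := by
    have : (24 : L) = 3 * (2 * 2 * 2) := by norm_num
    rw [this, map_mul, map_mul, map_mul, h3, one_mul]
    calc v 2 * v 2 * v 2 ≤ 1 * 1 * 1 := by gcongr
      _ = 1 := by simp
  have hv := congrArg v h
  rw [map_mul, map_mul, map_pow, map_pow] at hv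
  have ha : v α ≤ 1 := by
    by_contra hcon
    rw [not_le] at hcon
    have ha3 : 1 < v (α ^ 3) := by
      rw [map_pow]; exact one_lt_pow₀ hcon (by norm_num)
    have e1 : v (α ^ 3 - 24) = v (α ^ 3) :=
      Valuation.map_sub_eq_of_lt_left v (lt_of_le_of_lt h24 ha3)
    have e2 : v (α ^ 3 - 27) = v (α ^ 3) :=
      Valuation.map_sub_eq_of_lt_left v (by rw [h27]; exact ha3)
    rw [e1, e2, map_pow, ← pow_mul, ← pow_add] at hv
    have h6 : v α ^ 3 < v α ^ (3 + 3 * 3) := pow_lt_pow_right₀ hcon (by norm_num)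
    have : v j * v α ^ 3 ≤ v α ^ 3 := mul_le_of_le_one_left' hj
    rw [hv] at this
    exact absurd this (not_le.mpr h6)
  refine ⟨ha, ?_⟩
  have ha3 : v (α ^ 3) ≤ 1 := by rw [map_pow]; exact pow_le_one₀ zero_le ha
  have hle : v (α ^ 3 - 27) ≤ 1 := Valuation.map_sub_le v ha3 h27.le
  refine le_antisymm hle ?_
  by_contra hcon
  rw [not_le] at hcon
  have e1 : v (α ^ 3 - 24) = 1 := by
    have : α ^ 3 - 24 = (α ^ 3 - 27) + 3 := by ring
    rw [this, Valuation.map_add_eq_of_lt_right v (by rw [h3]; exact hcon), h3]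
  have e2 : v (α ^ 3) = 1 := by
    have : α ^ 3 = (α ^ 3 - 27) + 27 := by ring
    rw [this, Valuation.map_add_eq_of_lt_right v (by rw [h27]; exact hcon), h27]
  rw [← map_pow, e1, e2, one_pow, one_mul] at hv
  have : v j * v (α ^ 3 - 27) < 1 := lt_of_le_of_lt (mul_le_of_le_one_left' hj) hcon
  rw [hv] at this
  exact lt_irrefl _ this

end Val

end Groth.Agent.Lib.Helper14PotGoodB

namespace Groth.Agent.Lib.Helper14PotGoodC

open WeierstrassCurve IsDedekindDomain.HeightOneSpectrum IsDiscreteValuationRing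

section Minimal
variable (R : Type*) [CommRing R] [IsDomain R] [IsDiscreteValuationRing R]
variable {K : Type*} [Field K] [Algebra R K] [IsFractionRing R K]

theorem hasGoodReduction_minimal (W : WeierstrassCurve K) (C : VariableChange K)
    (hint : IsIntegral R (C • W)) (hΔ : valuation K (maximalIdeal R) (C • W).Δ = 1) :
    (W.minimal R).HasGoodReduction R := by
  have hmin : IsMinimal R (W.minimal R) := inferInstance
  obtain ⟨C₀, hC₀⟩ : ∃ C₀ : VariableChange K, W.minimal R = C₀ • W := ⟨_, rfl⟩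
  have hmax := hmin.val_Δ_maximal
  have hsm : (C * C₀⁻¹) • (W.minimal R) = C • W := by
    rw [hC₀, ← mul_smul, inv_mul_cancel_right]
  have hP : IsIntegral R ((C * C₀⁻¹) • (W.minimal R)) := by
    rw [hsm]; exact hint
  have hint1 : IsIntegral R (W.minimal R) := inferInstance
  have hval : (valuation_Δ_aux R ((C * C₀⁻¹) • (W.minimal R)) : WithZero (Multiplicative ℤ)) = 1 := by
    rw [valuation_Δ_aux_eq_of_isIntegral (hW := hP), hsm, hΔ]
  have h1 := hmax.2 hP (by
    rw [← Subtype.coe_le_coe, hval]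
    exact (valuation_Δ_aux R ((1 : VariableChange K) • W.minimal R)).2)
  rw [← Subtype.coe_le_coe, hval] at h1
  simp only [one_smul] at h1
  rw [valuation_Δ_aux_eq_of_isIntegral] at h1
  refine ⟨?_⟩
  refine le_antisymm ?_ h1
  obtain ⟨r, hr⟩ := Δ_integral_of_isIntegral R (W.minimal R)
  rw [← hr]
  exact valuation_le_one _ r

end Minimal

end Groth.Agent.Lib.Helper14PotGoodC
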