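import Mathlib
import Groth.Agent.Lib.Helper14PotGood
import Groth.Agent.Lib.Helper4DVRDom

/-!
# Integral `j`-invariant iff potential good reduction (helper14, S0614)
-/

set_option autoImplicit false
set_option linter.unusedVariables false
set_option linter.unusedSectionVars false
set_option linter.style.haveILetI false

namespace Groth.Agent.Lib.Helper14PotGoodMain

open WeierstrassCurve IsDedekindDomain.HeightOneSpectrum IsDiscreteValuationRing

universe u

section Descent

variable {K : Type u} [Field K] (Ω : Type u) [Field Ω] [Algebra K Ω] [Algebra.IsAlgebraic K Ω]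

theorem descent (W : WeierstrassCurve K) (C : VariableChange Ω) :
    ∃ (L : IntermediateField K Ω) (_ : FiniteDimensional K L) (CL : VariableChange L),
      (CL • W.baseChange L).map (algebraMap L Ω) = C • W.baseChange Ω := by
  classical
  let S : Finset Ω := {C.u.val, C.r, C.s, C.t}
  let L : IntermediateField K Ω := IntermediateField.adjoin K (S : Set Ω)
  have hfin : FiniteDimensional K L :=
    IntermediateField.finiteDimensional_adjoin (fun x _ => Algebra.IsIntegral.isIntegral x)
  have hmem : ∀ x ∈ S, x ∈ L := fun x hx => IntermediateField.subset_adjoin K _ (by exact_mod_cast hx)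
  have hu : C.u.val ∈ L := hmem _ (by simp [S])
  have hr : C.r ∈ L := hmem _ (by simp [S])
  have hs : C.s ∈ L := hmem _ (by simp [S])
  have ht : C.t ∈ L := hmem _ (by simp [S])
  have hu0 : (⟨C.u.val, hu⟩ : L) ≠ 0 := by
    intro h
    exact C.u.ne_zero (congrArg Subtype.val h)
  let CL : VariableChange L := ⟨Units.mk0 ⟨C.u.val, hu⟩ hu0, ⟨C.r, hr⟩, ⟨C.s, hs⟩, ⟨C.t, ht⟩⟩
  refine ⟨L, hfin, CL, ?_⟩
  have hCL : CL.map (algebraMap L Ω) = C := by
    ext <;> rfl
  rw [← map_variableChange, hCL, baseChange, baseChange, map_map]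
  congr 2

end Descent

section Main

variable {R : Type u} [CommRing R] [IsDomain R] [IsDiscreteValuationRing R]
  {K : Type u} [Field K] [Algebra R K] [IsFractionRing R K]

open Groth.Agent.Lib.Helper14PotGoodA Groth.Agent.Lib.Helper14PotGoodB
  Groth.Agent.Lib.Helper14PotGoodC

lemma jΔ (F : Type*) [Field F] (W : WeierstrassCurve F) [W.IsElliptic] : W.j * W.Δ = W.c₄ ^ 3 := by
  rw [WeierstrassCurve.j, ← W.coe_Δ', mul_comm, ← mul_assoc, Units.mul_inv, one_mul]

theorem forward (W : WeierstrassCurve K) [W.IsElliptic] (r₀ : R) (hr₀ : algebraMap R K r₀ = W.j) :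
    ∃ (L : Type u) (_ : Field L) (_ : Algebra K L) (_ : FiniteDimensional K L) (RL : Type u)
        (_ : CommRing RL) (_ : IsDomain RL) (_ : IsDiscreteValuationRing RL) (_ : Algebra RL L)
        (_ : IsFractionRing RL L) (φ : R →+* RL), IsLocalHom φ ∧
        (∀ r : R, algebraMap K L (algebraMap R K r) = algebraMap RL L (φ r)) ∧
        ((W.baseChange L).minimal RL).HasGoodReduction RL := by
  classical
  -- key: for any finite L/K, variable change CL over L, get the DVR
  have key : ∀ (L : Type u) [Field L] [Algebra K L] [FiniteDimensional K L]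
      (CL : VariableChange L),
      (∀ (RL : ValuationSubring L) [IsDiscreteValuationRing RL] (φ : R →+* RL), IsLocalHom φ →
        (∀ r : R, algebraMap K L (algebraMap R K r) = algebraMap RL L (φ r)) →
        WeierstrassCurve.IsIntegral RL (CL • W.baseChange L) ∧
          valuation L (maximalIdeal RL) (CL • W.baseChange L).Δ = 1) →
      ∃ (L : Type u) (_ : Field L) (_ : Algebra K L) (_ : FiniteDimensional K L) (RL : Type u)
        (_ : CommRing RL) (_ : IsDomain RL) (_ : IsDiscreteValuationRing RL) (_ : Algebra RL L)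
        (_ : IsFractionRing RL L) (φ : R →+* RL), IsLocalHom φ ∧
        (∀ r : R, algebraMap K L (algebraMap R K r) = algebraMap RL L (φ r)) ∧
        ((W.baseChange L).minimal RL).HasGoodReduction RL := by
    intro L _ _ _ CL hgood
    letI : Algebra R L := ((algebraMap K L).comp (algebraMap R K)).toAlgebra
    haveI : IsScalarTower R K L := IsScalarTower.of_algebraMap_eq (fun _ => rfl)
    have hinj : Function.Injective (algebraMap R L) := by
      rw [IsScalarTower.algebraMap_eq R K L]
      exact (algebraMap K L).injective.comp (IsFractionRing.injective R K)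
    haveI : FaithfulSMul R L := (faithfulSMul_iff_algebraMap_injective R L).mpr hinj
    haveI : Algebra.EssFiniteType R K := Algebra.EssFiniteType.of_isLocalization K (nonZeroDivisors R)
    haveI : Algebra.EssFiniteType R L := Algebra.EssFiniteType.comp R K L
    obtain ⟨V, hV, hVmem, hVm⟩ := Groth.Agent.Lib.Helper4.DVRDom.exists_dvr_dominating' (R := R) (L := L)
      (IsDiscreteValuationRing.not_isField R)
    let φ : R →+* V := (algebraMap R L).codRestrict V.toSubring hVmem
    have hφ : ∀ r : R, ((φ r : V) : L) = algebraMap R L r := fun r => rfl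
    have hloc : IsLocalHom φ := by
      refine ⟨fun r hr => ?_⟩
      by_contra hnu
      have hm : r ∈ IsLocalRing.maximalIdeal R := hnu
      have := hVm r hm
      rw [ValuationSubring.mem_nonunits_iff] at this
      have h1 := (V.valuation_eq_one_iff (φ r)).mp hr
      rw [hφ] at h1
      rw [h1] at this
      exact lt_irrefl _ this
    have hcompat : ∀ r : R, algebraMap K L (algebraMap R K r) = algebraMap V L (φ r) := fun r => rfl
    obtain ⟨hint, hΔ⟩ := hgood V φ hloc hcompat
    exact ⟨L, inferInstance, inferInstance, inferInstance, V, inferInstance, inferInstance, hV,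
      inferInstance, inferInstance, φ, hloc, hcompat,
      hasGoodReduction_minimal V (W.baseChange L) CL hint hΔ⟩
  let Ω := AlgebraicClosure K
  have hΔΩ : (W.baseChange Ω).Δ ≠ 0 := by
    rw [baseChange, map_Δ]; exact (map_ne_zero _).mpr W.isUnit_Δ.ne_zero
  have h23 : IsUnit (2 : R) ∨ IsUnit (3 : R) := by
    by_contra h
    push Not at h
    have h2 : (2 : R) ∈ IsLocalRing.maximalIdeal R := h.1
    have h3 : (3 : R) ∈ IsLocalRing.maximalIdeal R := h.2
    have h1 : (1 : R) ∈ IsLocalRing.maximalIdeal R := by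
      convert Ideal.sub_mem _ h3 h2 using 1
      norm_num
    exact (IsLocalRing.maximalIdeal.isMaximal R).ne_top ((Ideal.eq_top_iff_one _).mpr h1)
  -- common valuation facts
  have hvals : ∀ (L : Type u) [Field L] [Algebra K L] (RL : ValuationSubring L)
      [IsDiscreteValuationRing RL] (φ : R →+* RL),
      (∀ r : R, algebraMap K L (algebraMap R K r) = algebraMap RL L (φ r)) →
      (∀ n : ℕ, valuation L (maximalIdeal RL) (n : L) ≤ 1) ∧
      (∀ n : ℕ, IsUnit (n : R) → valuation L (maximalIdeal RL) (n : L) = 1) ∧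
      valuation L (maximalIdeal RL) (algebraMap K L W.j) ≤ 1 := by
    intro L _ _ RL _ φ hcompat
    refine ⟨fun n => ?_, fun n hn => ?_, ?_⟩
    · have : (n : L) = algebraMap RL L (n : RL) := by simp
      rw [this]; exact valuation_le_one _ _
    · have : (n : L) = algebraMap RL L (n : RL) := by simp
      rw [this, valuation_eq_one_iff_notMem]
      have hu : IsUnit ((n : RL)) := by
        have := hn.map φ
        simpa using this
      exact (IsLocalRing.notMem_maximalIdeal.mpr hu)
    · rw [← hr₀, hcompat]; exact valuation_le_one _ _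
  rcases h23 with h2 | h3
  · -- case A
    have h2Ω : (2 : Ω) ≠ 0 := by
      have := (h2.map (algebraMap R K)).map (algebraMap K Ω)
      simp only [map_ofNat] at this
      exact this.ne_zero
    obtain ⟨C, c1, c3, c4, c6⟩ := exists_formA (W.baseChange Ω) hΔΩ h2Ω
    obtain ⟨L, hfin, CL, hCL⟩ := descent Ω W C
    refine key L CL ?_
    intro RL _ φ hloc hcompat
    obtain ⟨hv1, hv2, hvj⟩ := hvals L RL φ hcompat
    haveI hell0 : (W.baseChange L).IsElliptic := by unfold baseChange; infer_instance
    haveI hell : (CL • W.baseChange L).IsElliptic := inferInstance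
    have hj' : (CL • W.baseChange L).j = algebraMap K L W.j := by
      rw [variableChange_j]; unfold baseChange; rw [map_j]
    have hjΔ := jΔ L (CL • W.baseChange L)
    set W' := CL • W.baseChange L with hW'
    have hinjΩ : Function.Injective (algebraMap L Ω) := (algebraMap L Ω).injective
    have d1 : W'.a₁ = 0 := hinjΩ (by rw [← map_a₁, hCL, c1, map_zero])
    have d3 : W'.a₃ = 0 := hinjΩ (by rw [← map_a₃, hCL, c3, map_zero])
    have d4 : W'.a₄ = 1 := hinjΩ (by rw [← map_a₄, hCL, c4, map_one])
    have d6 : W'.a₆ = 0 := hinjΩ (by rw [← map_a₆, hCL, c6, map_zero])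
    have hΔ' : W'.Δ = 16 * (W'.a₂ ^ 2 - 4) := by
      simp only [WeierstrassCurve.Δ, b₂, b₄, b₆, b₈, d1, d3, d4, d6]; ring
    have hc4 : W'.c₄ = 16 * (W'.a₂ ^ 2 - 3) := by
      simp only [c₄, b₂, b₄, d1, d3, d4]; ring
    have v2 : valuation L (maximalIdeal RL) 2 = 1 := by
      have := hv2 2 (by simpa using h2)
      simpa using this
    have v3 : valuation L (maximalIdeal RL) 3 ≤ 1 := by
      have := hv1 3
      simpa using this
    have h16 : (16 : L) ≠ 0 := by
      intro h
      have h2' : (2 : L) = 0 := by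
        have : (2 : L) ^ 4 = 0 := by rw [← h]; norm_num
        exact pow_eq_zero_iff (by norm_num) |>.mp this
      rw [h2', map_zero] at v2
      exact zero_ne_one v2
    have heq : W'.j * (W'.a₂ ^ 2 - 4) = 256 * (W'.a₂ ^ 2 - 3) ^ 3 := by
      have := hjΔ
      rw [hΔ', hc4] at this
      apply mul_left_cancel₀ h16
      linear_combination this
    obtain ⟨va, vΔ⟩ := formA_val _ W'.a₂ W'.j v2 v3 (by rw [hj']; exact hvj) heq
    refine ⟨?_, by rw [hΔ']; exact vΔ⟩
    apply isIntegral_of_exists_lift
    · exact ⟨0, by rw [map_zero, d1]⟩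
    · exact exists_lift_of_le_one va
    · exact ⟨0, by rw [map_zero, d3]⟩
    · exact ⟨1, by rw [map_one, d4]⟩
    · exact ⟨0, by rw [map_zero, d6]⟩
  · -- case B
    have h3Ω : (3 : Ω) ≠ 0 := by
      have := (h3.map (algebraMap R K)).map (algebraMap K Ω)
      simp only [map_ofNat] at this
      exact this.ne_zero
    obtain ⟨C, c2, c3, c4, c6⟩ := exists_formB (W.baseChange Ω) hΔΩ h3Ω
    obtain ⟨L, hfin, CL, hCL⟩ := descent Ω W C
    refine key L CL ?_
    intro RL _ φ hloc hcompat
    obtain ⟨hv1, hv2, hvj⟩ := hvals L RL φ hcompat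
    haveI hell0 : (W.baseChange L).IsElliptic := by unfold baseChange; infer_instance
    haveI hell : (CL • W.baseChange L).IsElliptic := inferInstance
    have hj' : (CL • W.baseChange L).j = algebraMap K L W.j := by
      rw [variableChange_j]; unfold baseChange; rw [map_j]
    have hjΔ := jΔ L (CL • W.baseChange L)
    set W' := CL • W.baseChange L with hW'
    have hinjΩ : Function.Injective (algebraMap L Ω) := (algebraMap L Ω).injective
    have d2 : W'.a₂ = 0 := hinjΩ (by rw [← map_a₂, hCL, c2, map_zero])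
    have d3 : W'.a₃ = 1 := hinjΩ (by rw [← map_a₃, hCL, c3, map_one])
    have d4 : W'.a₄ = 0 := hinjΩ (by rw [← map_a₄, hCL, c4, map_zero])
    have d6 : W'.a₆ = 0 := hinjΩ (by rw [← map_a₆, hCL, c6, map_zero])
    have hΔ' : W'.Δ = W'.a₁ ^ 3 - 27 := by
      simp only [WeierstrassCurve.Δ, b₂, b₄, b₆, b₈, d2, d3, d4, d6]; ring
    have hc4 : W'.c₄ = W'.a₁ * (W'.a₁ ^ 3 - 24) := by
      simp only [c₄, b₂, b₄, d2, d3, d4]; ring
    have v3 : valuation L (maximalIdeal RL) 3 = 1 := by
      have := hv2 3 (by simpa using h3)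
      simpa using this
    have v2 : valuation L (maximalIdeal RL) 2 ≤ 1 := by
      have := hv1 2
      simpa using this
    have heq : W'.j * (W'.a₁ ^ 3 - 27) = W'.a₁ ^ 3 * (W'.a₁ ^ 3 - 24) ^ 3 := by
      have := hjΔ
      rw [hΔ', hc4] at this
      linear_combination this
    obtain ⟨va, vΔ⟩ := formB_val _ W'.a₁ W'.j v2 v3 (by rw [hj']; exact hvj) heq
    refine ⟨?_, by rw [hΔ']; exact vΔ⟩
    apply isIntegral_of_exists_lift
    · exact exists_lift_of_le_one va
    · exact ⟨0, by rw [map_zero, d2]⟩
    · exact ⟨1, by rw [map_one, d3]⟩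
    · exact ⟨0, by rw [map_zero, d4]⟩
    · exact ⟨0, by rw [map_zero, d6]⟩

theorem backward (W : WeierstrassCurve K) [W.IsElliptic]
    (L : Type u) [Field L] [Algebra K L] (RL : Type u)
    [CommRing RL] [IsDomain RL] [IsDiscreteValuationRing RL] [Algebra RL L]
    [IsFractionRing RL L] (φ : R →+* RL) (hloc : IsLocalHom φ)
    (hcompat : ∀ r : R, algebraMap K L (algebraMap R K r) = algebraMap RL L (φ r))
    (hgood : ((W.baseChange L).minimal RL).HasGoodReduction RL) :
    ∃ r : R, algebraMap R K r = W.j := by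
  haveI hell0 : (W.baseChange L).IsElliptic := by unfold baseChange; infer_instance
  obtain ⟨C₀, hC₀⟩ : ∃ C₀ : VariableChange L, (W.baseChange L).minimal RL = C₀ • W.baseChange L :=
    ⟨_, rfl⟩
  haveI hmin : IsMinimal RL ((W.baseChange L).minimal RL) := hgood.toIsMinimal
  haveI hint : WeierstrassCurve.IsIntegral RL ((W.baseChange L).minimal RL) := inferInstance
  have hΔ1 := hgood.goodReduction
  rw [hC₀] at hΔ1 hint
  have hj' : (C₀ • W.baseChange L).j = algebraMap K L W.j := by
    rw [variableChange_j]; unfold baseChange; rw [map_j]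
  have hjΔ := jΔ L (C₀ • W.baseChange L)
  -- integral model
  set Wi := integralModel RL (C₀ • W.baseChange L) with hWi
  have eΔ : algebraMap RL L Wi.Δ = (C₀ • W.baseChange L).Δ := integralModel_Δ_eq RL _
  have ec4 : algebraMap RL L Wi.c₄ = (C₀ • W.baseChange L).c₄ := integralModel_c₄_eq RL _
  rw [← eΔ, valuation_eq_one_iff_notMem] at hΔ1
  have hu : IsUnit Wi.Δ := IsLocalRing.notMem_maximalIdeal.mp hΔ1
  obtain ⟨d, hd⟩ := hu
  -- j = c₄³ d⁻¹
  have hjy : algebraMap K L W.j = algebraMap RL L (Wi.c₄ ^ 3 * (d⁻¹ : RLˣ)) := by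
    rw [← hj']
    have h1 : (C₀ • W.baseChange L).j * algebraMap RL L (d : RL) = algebraMap RL L (Wi.c₄ ^ 3) := by
      rw [hd, eΔ, map_pow, ec4, hjΔ]
    rw [map_mul, ← h1, mul_assoc, ← map_mul, Units.mul_inv, map_one, mul_one]
  -- descend to R
  by_cases hv : valuation K (maximalIdeal R) W.j ≤ 1
  · exact exists_lift_of_le_one hv
  · exfalso
    rw [not_le] at hv
    have hj0 : W.j ≠ 0 := by
      intro h; rw [h, map_zero] at hv; exact absurd hv (by simp)
    have hv' : valuation K (maximalIdeal R) (W.j)⁻¹ < 1 := by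
      rw [map_inv₀]; exact inv_lt_one_of_one_lt₀ hv
    obtain ⟨r, hr⟩ := exists_lift_of_le_one hv'.le
    rw [← hr, valuation_lt_one_iff_mem] at hv'
    have hnu : ¬ IsUnit r := fun h => (IsLocalRing.notMem_maximalIdeal.mpr h) hv'
    apply hnu
    apply hloc.map_nonunit
    have h2 : algebraMap RL L (φ r * (Wi.c₄ ^ 3 * (d⁻¹ : RLˣ))) = 1 := by
      rw [map_mul, ← hcompat, hr, ← hjy, map_inv₀, inv_mul_cancel₀]
      exact (map_ne_zero _).mpr hj0
    have h3 : φ r * (Wi.c₄ ^ 3 * (d⁻¹ : RLˣ)) = 1 :=
      IsFractionRing.injective RL L (by rw [h2, map_one])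
    exact IsUnit.of_mul_eq_one _ h3

theorem main (W : WeierstrassCurve K) [W.IsElliptic] :
    (∃ r : R, algebraMap R K r = W.j) ↔
      ∃ (L : Type u) (_ : Field L) (_ : Algebra K L) (_ : FiniteDimensional K L) (RL : Type u)
        (_ : CommRing RL) (_ : IsDomain RL) (_ : IsDiscreteValuationRing RL) (_ : Algebra RL L)
        (_ : IsFractionRing RL L) (φ : R →+* RL), IsLocalHom φ ∧
        (∀ r : R, algebraMap K L (algebraMap R K r) = algebraMap RL L (φ r)) ∧
        ((W.baseChange L).minimal RL).HasGoodReduction RL := by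
  constructor
  · rintro ⟨r₀, hr₀⟩
    exact forward W r₀ hr₀
  · rintro ⟨L, _, _, _, RL, _, _, _, _, _, φ, hloc, hcompat, hgood⟩
    exact backward W L RL φ hloc hcompat hgood

end Main

end Groth.Agent.Lib.Helper14PotGoodMain
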