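import Groth.Agent.Lib.Helper14ProjLimFilt

/-! Helper14: limits of finite projective modules along an inverse system of rings with surjective
transition maps with nil kernels.

* `exists_compatible` : surjective inverse systems have compatible sequences through any element.
* `exists_retract_of_projective` : a finite projective `B`-module, `B = A/ker π`, is an `A`-linear
  retract of `(A/ker π)^m`.
* `assembly` : the module of compatible sequences is finite projective over `A = lim A_n`.
-/

set_option autoImplicit false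
universe u v w

namespace Groth.Agent.Lib.Helper14.ProjLimAsm

open Groth.Agent.Lib.Helper14

theorem exists_compatible : ∀ (n : ℕ) (X : ℕ → Type u) (t : ∀ n, X (n + 1) → X n)
    (_ : ∀ n, Function.Surjective (t n)) (y : X n),
    ∃ x : ∀ n, X n, (∀ k, t k (x (k + 1)) = x k) ∧ x n = y := by
  intro n
  induction n with
  | zero =>
    intro X t ht y
    exact ⟨fun n => Nat.rec (motive := fun k => X k) y (fun k xk => Classical.choose (ht k xk)) n,
      fun k => Classical.choose_spec (ht k _), rfl⟩
  | succ n ih =>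
    intro X t ht y
    obtain ⟨x', hx', hxn⟩ := ih (fun m => X (m + 1)) (fun m => t (m + 1)) (fun m => ht (m + 1)) y
    refine ⟨fun k => Nat.rec (motive := fun k => X k) (t 0 (x' 0)) (fun m _ => x' m) k, ?_, hxn⟩
    intro k
    cases k with
    | zero => rfl
    | succ k => exact hx' k

theorem exists_retract_of_projective {A B : Type*} [CommRing A] [CommRing B] (π : A →+* B)
    (hπ : Function.Surjective π) (M : Type*) [AddCommGroup M] [Module B M] [Module A M]
    (hsm : ∀ (a : A) (x : M), a • x = π a • x) [Module.Finite B M] [Module.Projective B M] :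
    ∃ (m : ℕ) (i : M →ₗ[A] (Fin m → A ⧸ RingHom.ker π))
      (r : (Fin m → A ⧸ RingHom.ker π) →ₗ[A] M), r ∘ₗ i = LinearMap.id := by
  obtain ⟨m, fb, gb, -, -, hfg⟩ := Module.Finite.exists_comp_eq_id_of_projective B M
  let e : (A ⧸ RingHom.ker π) ≃+* B := RingHom.quotientKerEquivOfSurjective hπ
  have he : ∀ a : A, e (Ideal.Quotient.mk _ a) = π a := fun a => rfl
  have hsmq : ∀ (a : A) (q : A ⧸ RingHom.ker π), e (a • q) = π a * e q := by
    intro a q
    rw [Algebra.smul_def, Ideal.Quotient.algebraMap_eq, map_mul, he]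
  have hsmq' : ∀ (a : A) (b : B), e.symm (π a * b) = a • e.symm b := by
    intro a b
    apply e.injective
    rw [hsmq, e.apply_symm_apply, e.apply_symm_apply]
  let i : M →ₗ[A] (Fin m → A ⧸ RingHom.ker π) :=
    { toFun := fun x j => e.symm (gb x j)
      map_add' := fun x y => by
        funext j
        simp
      map_smul' := fun a x => by
        funext j
        simp only [RingHom.id_apply, Pi.smul_apply]
        rw [hsm, map_smul, Pi.smul_apply, smul_eq_mul, hsmq'] }
  let r : (Fin m → A ⧸ RingHom.ker π) →ₗ[A] M :=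
    { toFun := fun w => fb (fun j => e (w j))
      map_add' := fun w w' => by
        rw [← map_add]
        congr 1
        funext j
        simp
      map_smul' := fun a w => by
        simp only [RingHom.id_apply]
        rw [hsm, ← map_smul]
        congr 1
        funext j
        simp [hsmq] }
  refine ⟨m, i, r, ?_⟩
  ext x
  change fb (fun j => e (e.symm (gb x j))) = x
  simp only [RingEquiv.apply_symm_apply]
  exact LinearMap.congr_fun hfg x

theorem assembly {A : Type u} [CommRing A] (An : ℕ → Type u) [∀ n, CommRing (An n)]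
    (t : ∀ n, An (n + 1) →+* An n) (π : ∀ n, A →+* An n)
    (ht : ∀ n, Function.Surjective (t n)) (hnil : ∀ n (x : An (n + 1)), t n x = 0 → IsNilpotent x)
    (hA1 : ∀ n, (t n).comp (π (n + 1)) = π n)
    (hA2 : ∀ a b : A, (∀ n, π n a = π n b) → a = b)
    (hA3 : ∀ x : ∀ n, An n, (∀ n, t n (x (n + 1)) = x n) → ∃ a : A, ∀ n, π n a = x n)
    (M : ℕ → Type u) [∀ n, AddCommGroup (M n)] [∀ n, Module (An n) (M n)] [∀ n, Module A (M n)]
    (hsm : ∀ n (a : A) (x : M n), a • x = π n a • x)
    (u : ∀ n, M (n + 1) →ₛₗ[t n] M n)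
    [∀ n, Module.Finite (An n) (M n)] [∀ n, Module.Projective (An n) (M n)]
    (hu : ∀ n, Function.Surjective (u n) ∧
      LinearMap.ker (u n) = RingHom.ker (t n) • (⊤ : Submodule (An (n + 1)) (M (n + 1)))) :
    ∃ P : Submodule A (∀ n, M n), (∀ x, x ∈ P ↔ ∀ n, u n (x (n + 1)) = x n) ∧
      Module.Finite A P ∧ Module.Projective A P ∧
      ∀ n, Function.Surjective (fun x : P => x.1 n) ∧
        ∀ x : P, x.1 n = 0 ↔ x ∈ (RingHom.ker (π n) • ⊤ : Submodule A P) := by
  classical
  have hπt : ∀ n (a : A), t n (π (n + 1) a) = π n a := fun n a => RingHom.congr_fun (hA1 n) a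
  have hπsurj : ∀ n, Function.Surjective (π n) := by
    intro n y
    obtain ⟨x, hx, hxn⟩ := exists_compatible n An (fun k => t k) ht y
    obtain ⟨a, ha⟩ := hA3 x hx
    exact ⟨a, by rw [ha, hxn]⟩
  -- A-linear transition maps
  let f : ∀ n, M (n + 1) →ₗ[A] M n := fun n =>
    { toFun := u n
      map_add' := map_add (u n)
      map_smul' := fun a x => by
        simp only [RingHom.id_apply]
        rw [hsm, hsm, map_smulₛₗ, hπt] }
  have hfu : ∀ n x, f n x = u n x := fun n x => rfl
  let I : ℕ → Ideal A := fun n => RingHom.ker (π n)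
  have hI : ∀ n, I (n + 1) ≤ I n := by
    intro n a ha
    rw [RingHom.mem_ker] at ha ⊢
    rw [← hπt, ha, map_zero]
  have hsep : ∀ a : A, (∀ n, a ∈ I n) → a = 0 := by
    intro a ha
    apply hA2
    intro n
    rw [map_zero]
    exact ha n
  have hcomp : ∀ z : ℕ → A, (∀ n, z (n + 1) - z n ∈ I n) → ∃ x : A, ∀ n, x - z n ∈ I n := by
    intro z hz
    obtain ⟨x, hx⟩ := hA3 (fun n => π n (z n)) (by
      intro n
      rw [hπt]
      have := hz n
      rw [RingHom.mem_ker, map_sub, sub_eq_zero] at this
      exact this)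
    exact ⟨x, fun n => by rw [RingHom.mem_ker, map_sub, hx, sub_self]⟩
  have hrad : ∀ n, I n ≤ Ideal.jacobson (I (n + 1)) := by
    intro n a ha
    apply Ideal.radical_le_jacobson
    rw [RingHom.mem_ker] at ha
    obtain ⟨k, hk⟩ := hnil n (π (n + 1) a) (by rw [hπt, ha])
    exact ⟨k, by rw [RingHom.mem_ker, map_pow, hk]⟩
  have hk : ∀ n, I n • (⊤ : Submodule A (M n)) = ⊥ := by
    intro n
    rw [eq_bot_iff, Submodule.smul_le]
    intro a ha x _
    rw [Submodule.mem_bot, hsm, (RingHom.mem_ker.mp ha), zero_smul]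
  have hker : ∀ n, LinearMap.ker (f n) = I n • (⊤ : Submodule A (M (n + 1))) := by
    intro n
    apply le_antisymm
    · intro x hx
      have hx' : x ∈ LinearMap.ker (u n) := by
        rw [LinearMap.mem_ker] at hx ⊢
        exact hx
      rw [(hu n).2] at hx'
      refine Submodule.smul_induction_on hx' ?_ ?_
      · intro b hb y _
        obtain ⟨a, rfl⟩ := hπsurj (n + 1) b
        rw [← hsm]
        refine Submodule.smul_mem_smul ?_ Submodule.mem_top
        rw [RingHom.mem_ker] at hb ⊢
        rw [← hπt]
        exact hb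
      · intro y z hy hz
        exact Submodule.add_mem _ hy hz
    · rw [Submodule.smul_le]
      intro a ha x _
      rw [LinearMap.mem_ker, map_smul, hsm, RingHom.mem_ker.mp ha, zero_smul]
  -- the limit
  let P : Submodule A (∀ n, M n) :=
    { carrier := {x | ∀ n, u n (x (n + 1)) = x n}
      add_mem' := fun {x y} hx hy n => by
        change u n (x (n + 1) + y (n + 1)) = x n + y n
        rw [map_add, hx n, hy n]
      zero_mem' := fun n => by
        change u n 0 = 0
        exact map_zero _
      smul_mem' := fun a x hx n => by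
        change u n (a • x (n + 1)) = a • x n
        rw [← hfu, map_smul, hfu, hx n] }
  let πL : ∀ n, P →ₗ[A] M n := fun n => (LinearMap.proj n).comp P.subtype
  have hproj : ∀ n, ∃ (m : ℕ) (i : M n →ₗ[A] (Fin m → A ⧸ I n))
      (r : (Fin m → A ⧸ I n) →ₗ[A] M n), r ∘ₗ i = LinearMap.id :=
    fun n => exists_retract_of_projective (π n) (hπsurj n) (M n) (hsm n)
  obtain ⟨h1, h2, h3⟩ := ProjLimFilt.main' I hI hsep hcomp hrad M f (fun n => (hu n).1) hk hker
    P πL (fun n => by ext x; exact x.2 n)
    (fun x hx => Subtype.ext (funext hx))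
    (fun y hy => ⟨⟨y, hy⟩, fun n => rfl⟩) hproj
  refine ⟨P, fun x => Iff.rfl, h1, h2, fun n => ⟨(h3 n).1, fun x => ?_⟩⟩
  rw [← (h3 n).2, LinearMap.mem_ker]
  rfl

end Groth.Agent.Lib.Helper14.ProjLimAsm
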