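import Groth.Agent.Lib.Helper14ProjLim

/-! Helper14: finite projective inverse systems over a ring complete for a decreasing filtration
`I 0 ≥ I 1 ≥ …` with `I n ≤ rad (I (n+1))` (generalisation of Stacks 0D4B to non-adic filtrations).

* `exists_lift_of_completeF` : maps into a module complete for the filtration `I n • ⊤`.
* `exists_splitting_step'` : one-step correction (Nakayama + Orzech instead of `δ² = 0`).
* `main'` : the limit of a system of retracts of `(A/I n)^k` is finite projective.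
-/

set_option autoImplicit false
universe u v w

namespace Groth.Agent.Lib.Helper14.ProjLimFilt

open Groth.Agent.Lib.Helper14.ProjLim

variable {A : Type u} [CommRing A]

section Complete

variable (I : ℕ → Ideal A) (F : Type v) [AddCommGroup F] [Module A F]

/-- the truncations of a module along a filtration -/
abbrev TruncF (n : ℕ) : Type v := F ⧸ (I n • ⊤ : Submodule A F)

theorem smul_top_le (hI : ∀ n, I (n + 1) ≤ I n) (n : ℕ) :
    (I (n + 1) • ⊤ : Submodule A F) ≤ (I n • ⊤ : Submodule A F) :=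
  Submodule.smul_mono_left (hI n)

/-- transition maps of the truncations -/
noncomputable abbrev transF (hI : ∀ n, I (n + 1) ≤ I n) (n : ℕ) :
    TruncF I F (n + 1) →ₗ[A] TruncF I F n :=
  Submodule.factor (smul_top_le I F hI n)

/-- Maps into a module complete for the filtration from compatible maps into its truncations. -/
theorem exists_lift_of_completeF (hI : ∀ n, I (n + 1) ≤ I n)
    (hsep : ∀ x : F, (∀ n, x ∈ (I n • ⊤ : Submodule A F)) → x = 0)
    (hcomp : ∀ z : ℕ → F, (∀ n, z (n + 1) - z n ∈ (I n • ⊤ : Submodule A F)) →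
      ∃ x : F, ∀ n, x - z n ∈ (I n • ⊤ : Submodule A F))
    {X : Type*} [AddCommGroup X] [Module A X] (g : ∀ n, X →ₗ[A] TruncF I F n)
    (hg : ∀ n, transF I F hI n ∘ₗ g (n + 1) = g n) :
    ∃ G : X →ₗ[A] F, ∀ n, (I n • ⊤ : Submodule A F).mkQ ∘ₗ G = g n := by
  refine exists_lift_of_limit (M := TruncF I F) (transF I F hI)
    (fun n => (I n • ⊤ : Submodule A F).mkQ) ?_ ?_ g hg
  · intro x hx
    apply hsep
    intro n
    have := hx n
    rwa [Submodule.mkQ_apply, Submodule.Quotient.mk_eq_zero] at this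
  · intro y hy
    have hz : ∀ n, ∃ z : F, (I n • ⊤ : Submodule A F).mkQ z = y n :=
      fun n => Submodule.mkQ_surjective _ _
    choose z hz using hz
    have hstep : ∀ n, z (n + 1) - z n ∈ (I n • ⊤ : Submodule A F) := by
      intro n
      rw [← Submodule.Quotient.mk_eq_zero, Submodule.Quotient.mk_sub, sub_eq_zero]
      have h1 := hy n
      rw [← hz (n + 1), ← hz n] at h1
      exact h1
    obtain ⟨x, hx⟩ := hcomp z hstep
    refine ⟨x, fun n => ?_⟩
    rw [← hz n, Submodule.mkQ_apply, Submodule.mkQ_apply, Submodule.Quotient.eq]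
    exact hx n

theorem pi_sep (hsep : ∀ a : A, (∀ n, a ∈ I n) → a = 0) (m : ℕ) (x : Fin m → A)
    (hx : ∀ n, x ∈ (I n • ⊤ : Submodule A (Fin m → A))) : x = 0 := by
  funext i
  apply hsep
  intro n
  exact (mem_smul_top_pi_iff (I n) x).mp (hx n) i

theorem pi_comp (hcomp : ∀ z : ℕ → A, (∀ n, z (n + 1) - z n ∈ I n) → ∃ x : A, ∀ n, x - z n ∈ I n)
    (m : ℕ) (z : ℕ → (Fin m → A))
    (hz : ∀ n, z (n + 1) - z n ∈ (I n • ⊤ : Submodule A (Fin m → A))) :
    ∃ x : Fin m → A, ∀ n, x - z n ∈ (I n • ⊤ : Submodule A (Fin m → A)) := by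
  have h : ∀ i, ∃ x : A, ∀ n, x - z n i ∈ I n := by
    intro i
    apply hcomp (fun n => z n i)
    intro n
    exact (mem_smul_top_pi_iff (I n) _).mp (hz n) i
  choose x hx using h
  exact ⟨x, fun n => (mem_smul_top_pi_iff (I n) _).mpr (fun i => hx i n)⟩

theorem truncF_smul_eq_zero (n : ℕ) (a : A) (ha : a ∈ I n) (x : TruncF I F n) : a • x = 0 := by
  obtain ⟨y, rfl⟩ := Submodule.mkQ_surjective _ x
  rw [← map_smul, Submodule.mkQ_apply, Submodule.Quotient.mk_eq_zero]
  exact Submodule.smul_mem_smul ha trivial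

end Complete

section Step

/-- The one-step correction: a lift `τ` of `σ ∘ f` whose composite with the projection is
`1 + δ` with `δ` landing in `K M₁`, `K ≤ rad J`, `J M₁ = 0`, can be corrected to a compatible
splitting. -/
theorem exists_splitting_step' {M₁ M₀ T₁ T₀ : Type*} [AddCommGroup M₁] [Module A M₁]
    [AddCommGroup M₀] [Module A M₀] [AddCommGroup T₁] [Module A T₁] [AddCommGroup T₀] [Module A T₀]
    [Module.Finite A M₁]
    (K J : Ideal A) (hKJ : K ≤ Ideal.jacobson J) (hJ : J • (⊤ : Submodule A M₁) = ⊥)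
    (f : M₁ →ₗ[A] M₀) (t : T₁ →ₗ[A] T₀) (q₁ : T₁ →ₗ[A] M₁) (q₀ : T₀ →ₗ[A] M₀)
    (hcomm : q₀ ∘ₗ t = f ∘ₗ q₁) (hker : LinearMap.ker f = K • (⊤ : Submodule A M₁))
    (σ : M₀ →ₗ[A] T₀) (hσ : q₀ ∘ₗ σ = LinearMap.id) (τ : M₁ →ₗ[A] T₁) (hτ : t ∘ₗ τ = σ ∘ₗ f) :
    ∃ σ' : M₁ →ₗ[A] T₁, q₁ ∘ₗ σ' = LinearMap.id ∧ t ∘ₗ σ' = σ ∘ₗ f := by
  set g : M₁ →ₗ[A] M₁ := q₁ ∘ₗ τ with hg
  have hfg : f ∘ₗ g = f := by
    rw [hg, ← LinearMap.comp_assoc, ← hcomm, LinearMap.comp_assoc, hτ, ← LinearMap.comp_assoc, hσ,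
      LinearMap.id_comp]
  have hrange : ∀ x, g x - x ∈ (K • ⊤ : Submodule A M₁) := by
    intro x
    rw [← hker, LinearMap.mem_ker, map_sub, ← LinearMap.comp_apply, hfg, sub_self]
  have hsurj : Function.Surjective g := by
    rw [← LinearMap.range_eq_top]
    have h1 : (⊤ : Submodule A M₁) ≤ LinearMap.range g ⊔ K • (⊤ : Submodule A M₁) := by
      intro x _
      have : x = g x + -(g x - x) := by abel
      rw [this]
      exact Submodule.add_mem_sup ⟨x, rfl⟩ (Submodule.neg_mem _ (hrange x))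
    have h2 := Submodule.sup_eq_sup_smul_of_le_smul_of_le_jacobson (N := LinearMap.range g)
      (N' := ⊤) Module.Finite.fg_top hKJ h1
    rw [hJ, sup_bot_eq, sup_top_eq] at h2
    exact h2.symm
  have hinj : Function.Injective g := OrzechProperty.injective_of_surjective_endomorphism g hsurj
  let ge : M₁ ≃ₗ[A] M₁ := LinearEquiv.ofBijective g ⟨hinj, hsurj⟩
  have hge : g ∘ₗ ge.symm.toLinearMap = LinearMap.id := by
    ext x
    exact ge.apply_symm_apply x
  have hfge : f ∘ₗ ge.symm.toLinearMap = f := by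
    conv_lhs => rw [← hfg]
    rw [LinearMap.comp_assoc, hge, LinearMap.comp_id]
  refine ⟨τ ∘ₗ ge.symm.toLinearMap, ?_, ?_⟩
  · rw [← LinearMap.comp_assoc, ← hg, hge]
  · rw [← LinearMap.comp_assoc, hτ, LinearMap.comp_assoc, hfge]

end Step

section Final

theorem main' (I : ℕ → Ideal A) (hI : ∀ n, I (n + 1) ≤ I n)
    (hsep : ∀ a : A, (∀ n, a ∈ I n) → a = 0)
    (hcomp : ∀ z : ℕ → A, (∀ n, z (n + 1) - z n ∈ I n) → ∃ x : A, ∀ n, x - z n ∈ I n)
    (hrad : ∀ n, I n ≤ Ideal.jacobson (I (n + 1)))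
    (M : ℕ → Type v) [∀ n, AddCommGroup (M n)] [∀ n, Module A (M n)]
    (f : ∀ n, M (n + 1) →ₗ[A] M n) (hf : ∀ n, Function.Surjective (f n))
    (hk : ∀ n, I n • (⊤ : Submodule A (M n)) = ⊥)
    (hker : ∀ n, LinearMap.ker (f n) = I n • (⊤ : Submodule A (M (n + 1))))
    (L : Type v) [AddCommGroup L] [Module A L] (π : ∀ n, L →ₗ[A] M n)
    (hπ : ∀ n, f n ∘ₗ π (n + 1) = π n)
    (hinj : ∀ x : L, (∀ n, π n x = 0) → x = 0)
    (hlift : ∀ y : (∀ n, M n), (∀ n, f n (y (n + 1)) = y n) → ∃ x : L, ∀ n, π n x = y n)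
    (hproj : ∀ n, ∃ (m : ℕ) (i : M n →ₗ[A] (Fin m → A ⧸ I n))
      (r : (Fin m → A ⧸ I n) →ₗ[A] M n), r ∘ₗ i = LinearMap.id) :
    Module.Finite A L ∧ Module.Projective A L ∧
      ∀ n, Function.Surjective (π n) ∧ LinearMap.ker (π n) = I n • (⊤ : Submodule A L) := by
  classical
  obtain ⟨m, i0, r0, h0⟩ := hproj 0
  have hsepF := pi_sep I hsep m
  have hcompF := pi_comp I hcomp m
  -- the surjection F → M 0
  let c0 : (Fin m → A) →ₗ[A] (Fin m → A ⧸ I 0) :=
    ((Ideal.Quotient.mkₐ A (I 0)).toLinearMap).compLeft (Fin m)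
  have hc0 : Function.Surjective c0 := by
    intro w
    choose v hv using fun j => Ideal.Quotient.mk_surjective (w j)
    exact ⟨v, funext hv⟩
  have hr0 : Function.Surjective r0 := fun y => ⟨i0 y, LinearMap.congr_fun h0 y⟩
  -- compatible maps q n : F → M n
  obtain ⟨q, hq0, hqs⟩ : ∃ q : ∀ n, (Fin m → A) →ₗ[A] M n, q 0 = r0 ∘ₗ c0 ∧
      ∀ n, f n ∘ₗ q (n + 1) = q n :=
    ⟨fun n => Nat.rec (r0 ∘ₗ c0)
      (fun n g => Classical.choose (Module.projective_lifting_property (f n) g (hf n))) n, rfl,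
      fun n => Classical.choose_spec (Module.projective_lifting_property (f n) _ (hf n))⟩
  have hqk : ∀ n, (I n • ⊤ : Submodule A (Fin m → A)) ≤ LinearMap.ker (q n) := by
    intro n x hx
    rw [LinearMap.mem_ker]
    have := map_mem_smul_top (I n) (q n) hx
    rw [hk n] at this
    exact (Submodule.mem_bot A).mp this
  -- induced maps on truncations
  obtain ⟨qb, hqb⟩ : ∃ qb : ∀ n, TruncF I (Fin m → A) n →ₗ[A] M n,
      ∀ n, qb n ∘ₗ (I n • ⊤ : Submodule A (Fin m → A)).mkQ = q n :=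
    ⟨fun n => Submodule.liftQ _ (q n) (hqk n), fun n => Submodule.liftQ_mkQ _ _ _⟩
  have hqbt : ∀ n, qb n ∘ₗ transF I (Fin m → A) hI n = f n ∘ₗ qb (n + 1) := by
    intro n
    apply Submodule.linearMap_qext
    rw [LinearMap.comp_assoc, LinearMap.comp_assoc, hqb (n + 1), hqs n, Submodule.factor_comp_mk,
      hqb n]
  have hqb0 : Function.Surjective (qb 0) := by
    have h1 : Function.Surjective (q 0) := by rw [hq0]; exact hr0.comp hc0
    intro y
    obtain ⟨x, rfl⟩ := h1 y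
    exact ⟨Submodule.mkQ _ x, LinearMap.congr_fun (hqb 0) x⟩
  -- compatible splittings
  have hstep : ∀ n (σ : {σ : M n →ₗ[A] TruncF I (Fin m → A) n // qb n ∘ₗ σ = LinearMap.id}),
      ∃ σ' : {σ' : M (n + 1) →ₗ[A] TruncF I (Fin m → A) (n + 1) //
        qb (n + 1) ∘ₗ σ' = LinearMap.id},
        transF I (Fin m → A) hI n ∘ₗ σ'.1 = σ.1 ∘ₗ f n := by
    rintro n ⟨σ, hσ⟩
    obtain ⟨k, i, r, hri⟩ := hproj (n + 1)
    haveI : Module.Finite A (M (n + 1)) :=
      Module.Finite.of_surjective r (fun y => ⟨i y, LinearMap.congr_fun hri y⟩)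
    obtain ⟨τ, hτ⟩ := exists_lift_of_retract (I (n + 1)) i r hri
      (truncF_smul_eq_zero I (Fin m → A) (n + 1)) (transF I (Fin m → A) hI n)
      (Submodule.factor_surjective _) (σ ∘ₗ f n)
    obtain ⟨σ', h1, h2⟩ := exists_splitting_step' (I n) (I (n + 1)) (hrad n) (hk (n + 1)) (f n)
      (transF I (Fin m → A) hI n) (qb (n + 1)) (qb n) (hqbt n) (hker n) σ hσ τ hτ
    exact ⟨⟨σ', h1⟩, h2⟩
  obtain ⟨σ0, hσ0⟩ := exists_lift_of_retract (I 0) i0 r0 h0
    (truncF_smul_eq_zero I (Fin m → A) 0) (qb 0) hqb0 LinearMap.id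
  obtain ⟨sq, hsq⟩ : ∃ sq : ∀ n, {σ : M n →ₗ[A] TruncF I (Fin m → A) n //
      qb n ∘ₗ σ = LinearMap.id},
      ∀ n, transF I (Fin m → A) hI n ∘ₗ (sq (n + 1)).1 = (sq n).1 ∘ₗ f n :=
    ⟨fun n => Nat.rec ⟨σ0, hσ0⟩ (fun n s => Classical.choose (hstep n s)) n,
      fun n => Classical.choose_spec (hstep n _)⟩
  -- the map σ : L → F
  obtain ⟨σ, hσ⟩ := exists_lift_of_completeF I (Fin m → A) hI hsepF hcompF
    (fun n => (sq n).1 ∘ₗ π n) (by
    intro n
    rw [← LinearMap.comp_assoc, hsq n, LinearMap.comp_assoc, hπ n])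
  -- the map qL : F → L
  obtain ⟨qL, hqL⟩ := exists_lift_of_limit f π hinj hlift q hqs
  have hqσ : qL ∘ₗ σ = LinearMap.id := by
    ext x
    rw [LinearMap.comp_apply, LinearMap.id_apply, ← sub_eq_zero]
    apply hinj
    intro n
    rw [map_sub, sub_eq_zero]
    have h1 : π n (qL (σ x)) = q n (σ x) := LinearMap.congr_fun (hqL n) (σ x)
    have h2 : (I n • ⊤ : Submodule A (Fin m → A)).mkQ (σ x) = (sq n).1 (π n x) :=
      LinearMap.congr_fun (hσ n) x
    have h3 : q n (σ x) = qb n ((I n • ⊤ : Submodule A (Fin m → A)).mkQ (σ x)) :=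
      (LinearMap.congr_fun (hqb n) (σ x)).symm
    rw [h1, h3, h2]
    exact LinearMap.congr_fun (sq n).2 (π n x)
  have hqLsurj : Function.Surjective qL := fun y => ⟨σ y, LinearMap.congr_fun hqσ y⟩
  refine ⟨Module.Finite.of_surjective qL hqLsurj, Module.Projective.of_split σ qL hqσ,
    fun n => ⟨?_, ?_⟩⟩
  · -- surjectivity of π n
    intro y
    have h1 : qb n ((sq n).1 y) = y := LinearMap.congr_fun (sq n).2 y
    obtain ⟨z, hz⟩ := Submodule.mkQ_surjective _ ((sq n).1 y)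
    refine ⟨qL z, ?_⟩
    have h2 : π n (qL z) = q n z := LinearMap.congr_fun (hqL n) z
    rw [h2, ← hqb n, LinearMap.comp_apply, hz, h1]
  · apply le_antisymm
    · intro x hx
      rw [LinearMap.mem_ker] at hx
      have h2 : (I n • ⊤ : Submodule A (Fin m → A)).mkQ (σ x) = (sq n).1 (π n x) :=
        LinearMap.congr_fun (hσ n) x
      rw [hx, map_zero, Submodule.mkQ_apply, Submodule.Quotient.mk_eq_zero] at h2
      have h3 := map_mem_smul_top (I n) qL h2
      rwa [show qL (σ x) = x from LinearMap.congr_fun hqσ x] at h3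
    · intro x hx
      rw [LinearMap.mem_ker]
      have := map_mem_smul_top (I n) (π n) hx
      rw [hk n] at this
      exact (Submodule.mem_bot A).mp this

end Final

end Groth.Agent.Lib.Helper14.ProjLimFilt
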