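import Mathlib

/-! Helper14: finite flat modules are projective iff closed generalization-stable subsets of
`Spec R` are open (Stacks 052U). -/

set_option autoImplicit false

open PrimeSpectrum Module

universe u

namespace Groth.Agent.Lib.Helper14.PureOpen



section A
variable {R : Type u} [CommRing R] {M : Type u} [AddCommGroup M] [Module R M] [Module.Finite R M]
  [Module.Flat R M]

attribute [local instance] Module.free_of_flat_of_isLocalRing

/-- upper semicontinuity of the rank of a finite flat module -/
lemma exists_isOpen_rankAtStalk_le (p : PrimeSpectrum R) :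
    ∃ U : Set (PrimeSpectrum R), IsOpen U ∧ p ∈ U ∧
      ∀ q ∈ U, rankAtStalk M q ≤ rankAtStalk M p := by
  let Rₚ := Localization.AtPrime p.asIdeal
  let n := rankAtStalk M p
  let f : (Fin n →₀ R) →ₗ[R] Fin n →₀ Rₚ := Finsupp.mapRange.linearMap (Algebra.linearMap R Rₚ)
  let g : M →ₗ[R] LocalizedModule.AtPrime p.asIdeal M :=
    LocalizedModule.mkLinearMap p.asIdeal.primeCompl M
  obtain ⟨φ, -, -, hφps⟩ := exists_localizedMap_surjective_of_surjective p.asIdeal.primeCompl f g
      ((finBasis Rₚ (LocalizedModule.AtPrime p.asIdeal M)).repr.restrictScalars R).symm.surjective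
  have hp : Function.Surjective (LocalizedModule.map p.asIdeal.primeCompl φ) := by
    simpa [LocalizedModule.coe_map_eq f g]
  refine ⟨(Module.support R (M ⧸ LinearMap.range φ))ᶜ, ?_, ?_, ?_⟩
  · exact Module.isClosed_support.isOpen_compl
  · rw [Set.mem_compl_iff, Module.notMem_support_iff,
      ← φ.localizedMap_surjective_iff_subsingleton_localized_coker]
    exact hp
  · intro q hq
    rw [Set.mem_compl_iff, Module.notMem_support_iff,
      ← φ.localizedMap_surjective_iff_subsingleton_localized_coker] at hq
    have h1 := LinearMap.finrank_le_finrank_of_surjective hq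
    haveI : Nontrivial R := nontrivial_of_ne (0 : R) 1
      (fun h => p.2.ne_top ((Ideal.eq_top_iff_one _).mpr (h ▸ p.asIdeal.zero_mem)))
    have h2 : rankAtStalk (Fin n →₀ R) q = n := by
      rw [rankAtStalk_eq_finrank_of_free]; simp
    calc rankAtStalk M q ≤ rankAtStalk (Fin n →₀ R) q := h1
      _ = n := h2
end A

section C
variable {S : Type u} [CommRing S] {N : Type u} [AddCommGroup N] [Module S N] [Module.Finite S N]
  [Module.Flat S N]

lemma finitePresentation_of_rankAtStalk_constant (n : ℕ) (h : ∀ q : PrimeSpectrum S, rankAtStalk N q = n) :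
    Module.FinitePresentation S N := by
  apply Module.FinitePresentation.of_localizationSpan
    {a : S | Module.Free (Localization.Away a) (LocalizedModule.Away a N)}
  · by_contra hne
    obtain ⟨m, hm, hle⟩ := Ideal.exists_le_maximal _ hne
    haveI := hm.isPrime
    obtain ⟨a, ha, hfree⟩ := Module.Free.away_of_finite_of_flat_of_rankAtStalk_constant N m
      (fun m' _ => by rw [h, h])
    exact ha (hle (Ideal.subset_span hfree))
  · rintro ⟨a, ha⟩
    haveI : Module.Free (Localization.Away a) (LocalizedModule.Away a N) := ha
    exact Module.finitePresentation_of_projective _ _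
end C

section Main
variable {R : Type u} [CommRing R] {M : Type u} [AddCommGroup M] [Module R M] [Module.Finite R M]
  [Module.Flat R M]

theorem projective_of_finite_flat
    (H : ∀ Z : Set (PrimeSpectrum R), IsClosed Z → StableUnderGeneralization Z → IsOpen Z) :
    Module.Projective R M := by
  have hopen : ∀ n, IsOpen {q : PrimeSpectrum R | rankAtStalk M q ≤ n} := by
    intro n
    rw [isOpen_iff_forall_mem_open]
    intro p hp
    obtain ⟨U, hU, hpU, hle⟩ := exists_isOpen_rankAtStalk_le (M := M) p
    exact ⟨U, fun q hq => (hle q hq).trans hp, hU, hpU⟩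
  have hopen' : ∀ n, IsOpen {q : PrimeSpectrum R | n ≤ rankAtStalk M q} := by
    intro n
    apply H
    · rcases n with _ | n
      · simp
      · have : {q : PrimeSpectrum R | n + 1 ≤ rankAtStalk M q} = {q : PrimeSpectrum R | rankAtStalk M q ≤ n}ᶜ := by
          ext q
          change n + 1 ≤ rankAtStalk M q ↔ ¬ (rankAtStalk M q ≤ n)
          omega
        rw [this]; exact (hopen n).isClosed_compl
    · intro x y hxy hx
      change n ≤ rankAtStalk M x at hx
      change n ≤ rankAtStalk M y
      rwa [rankAtStalk_eq_of_le_of_finite_of_flat M ((le_iff_specializes _ _).mpr hxy)]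
  have hfp : Module.FinitePresentation R M := by
    apply Module.FinitePresentation.of_localizationSpan
      {g : R | Module.FinitePresentation (Localization.Away g) (LocalizedModule.Away g M)}
    · by_contra hne
      obtain ⟨m, hm, hle⟩ := Ideal.exists_le_maximal _ hne
      let p : PrimeSpectrum R := ⟨m, hm.isPrime⟩
      have hU : IsOpen ({q | rankAtStalk M q ≤ rankAtStalk M p} ∩
          {q | rankAtStalk M p ≤ rankAtStalk M q}) := (hopen _).inter (hopen' _)
      have hpU : p ∈ ({q | rankAtStalk M q ≤ rankAtStalk M p} ∩
          {q | rankAtStalk M p ≤ rankAtStalk M q}) := ⟨le_refl (rankAtStalk M p), le_refl (rankAtStalk M p)⟩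
      obtain ⟨_, ⟨g, rfl⟩, hpg, hgU⟩ :=
        PrimeSpectrum.isTopologicalBasis_basic_opens.exists_subset_of_mem_open hpU hU
      have hg : g ∈ {g : R | Module.FinitePresentation (Localization.Away g)
          (LocalizedModule.Away g M)} := by
        apply finitePresentation_of_rankAtStalk_constant (rankAtStalk M p)
        intro q
        rw [rankAtStalk_isBaseChange (LocalizedModule.isBaseChange (Submonoid.powers g) _)]
        have hq : (q.comap (algebraMap R (Localization.Away g))) ∈
            (PrimeSpectrum.basicOpen g : Set (PrimeSpectrum R)) := by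
          intro hmem
          exact q.2.ne_top (Ideal.eq_top_of_isUnit_mem _ hmem
            (IsLocalization.Away.algebraMap_isUnit g))
        have := hgU hq
        exact le_antisymm this.1 this.2
      exact hpg (hle (Ideal.subset_span hg))
    · intro g; exact g.2
  exact Module.Flat.projective_of_finitePresentation
end Main



section Conv
variable {R : Type u} [CommRing R]

theorem isOpen_of_forall_projective
    (H : ∀ (M : Type u) [AddCommGroup M] [Module R M], Module.Finite R M → Module.Flat R M →
      Module.Projective R M)
    (Z : Set (PrimeSpectrum R)) (hZ : IsClosed Z) (hgen : StableUnderGeneralization Z) :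
    IsOpen Z := by
  let J := vanishingIdeal Z
  have hJ : zeroLocus (J : Set R) = Z := by
    rw [zeroLocus_vanishingIdeal_eq_closure, hZ.closure_eq]
  let S : Submonoid R :=
    { carrier := {s | s - 1 ∈ J}
      one_mem' := by simp
      mul_mem' := by
        intro a b ha hb
        have : a * b - 1 = (a - 1) * b + (b - 1) := by ring
        change a * b - 1 ∈ J
        rw [this]
        exact J.add_mem (J.mul_mem_right _ ha) hb }
  have hS : ∀ s, s ∈ S ↔ s - 1 ∈ J := fun s => Iff.rfl
  let T := Localization S
  have hdisj : ∀ p : PrimeSpectrum R, Disjoint (S : Set R) p.asIdeal ↔ p ∈ Z := by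
    intro p
    constructor
    · intro hd
      have hne : p.asIdeal ⊔ J ≠ ⊤ := by
        intro htop
        obtain ⟨x, hx, j, hj, hxj⟩ := Submodule.mem_sup.mp ((Ideal.eq_top_iff_one _).mp htop)
        have hxS : x ∈ S := by
          rw [hS]
          have : x - 1 = -j := by rw [← hxj]; ring
          rw [this]; exact J.neg_mem hj
        exact Set.disjoint_left.mp hd hxS hx
      obtain ⟨m, hm, hle⟩ := Ideal.exists_le_maximal _ hne
      have hmZ : (⟨m, hm.isPrime⟩ : PrimeSpectrum R) ∈ Z := by
        rw [← hJ, mem_zeroLocus]
        exact fun j hj => hle (Ideal.mem_sup_right hj)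
      have hpm : p ⤳ (⟨m, hm.isPrime⟩ : PrimeSpectrum R) := by
        rw [← le_iff_specializes]
        exact le_sup_left.trans hle
      exact hgen hpm hmZ
    · intro hp
      rw [← hJ, mem_zeroLocus] at hp
      rw [Set.disjoint_left]
      intro s hs hsp
      have : (1 : R) ∈ p.asIdeal := by
        have h1 : (1 : R) = s - (s - 1) := by ring
        rw [h1]
        exact p.asIdeal.sub_mem hsp (hp ((hS s).mp hs))
      exact p.2.ne_top ((Ideal.eq_top_iff_one _).mpr this)
  have hnil : ∀ j ∈ J, IsNilpotent (algebraMap R T j) := by
    intro j hj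
    rw [nilpotent_iff_mem_prime]
    intro P hP
    have hd : Disjoint (S : Set R) (P.comap (algebraMap R T) : Set R) :=
      ((IsLocalization.isPrime_iff_isPrime_disjoint S T P).mp hP).2
    have hpZ : (⟨P.comap (algebraMap R T), Ideal.IsPrime.comap _⟩ : PrimeSpectrum R) ∈ Z :=
      (hdisj _).mp hd
    rw [← hJ, mem_zeroLocus] at hpZ
    exact hpZ hj
  have hsurj : Function.Surjective (algebraMap R T) := by
    intro x
    obtain ⟨r, s, rfl⟩ := IsLocalization.exists_mk'_eq S x
    obtain ⟨n, hn⟩ := hnil ((s : R) - 1) ((hS s).mp s.2)
    have hgeom := mul_neg_geom_sum (-(algebraMap R T ((s : R) - 1))) n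
    have hs1 : algebraMap R T (s : R) * ∑ i ∈ Finset.range n,
        (-(algebraMap R T ((s : R) - 1))) ^ i = 1 := by
      have h2 : (1 - -(algebraMap R T ((s : R) - 1))) = algebraMap R T (s : R) := by
        rw [map_sub, map_one]; ring
      rw [h2] at hgeom
      rw [hgeom, neg_pow, hn, mul_zero, sub_zero]
    refine ⟨r * ∑ i ∈ Finset.range n, (-((s : R) - 1)) ^ i, ?_⟩
    rw [IsLocalization.eq_mk'_iff_mul_eq, map_mul, map_sum]
    simp only [map_pow, map_neg]
    rw [mul_assoc, mul_comm _ (algebraMap R T (s : R)), hs1, mul_one]
  haveI : Module.Finite R T := Module.Finite.of_surjective (Algebra.linearMap R T) hsurj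
  haveI : Module.Flat R T := IsLocalization.flat T S
  haveI : Module.Projective R T := H T inferInstance inferInstance
  haveI : Module.FinitePresentation R T := Module.finitePresentation_of_projective R T
  have hlc := Module.isLocallyConstant_rankAtStalk (R := R) (M := T)
  have hann : Module.annihilator R T = RingHom.ker (algebraMap R T) := by
    ext r
    rw [Module.mem_annihilator, RingHom.mem_ker]
    constructor
    · intro h
      have := h 1
      rwa [Algebra.smul_def, mul_one] at this
    · intro h m
      rw [Algebra.smul_def, h, zero_mul]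
  have hsupp : Module.support R T = Z := by
    rw [Module.support_eq_zeroLocus, hann, ← range_comap_of_surjective _ _ hsurj,
      localization_comap_range T S]
    ext p
    exact hdisj p
  have hpre : Module.support R T = (rankAtStalk (R := R) T) ⁻¹' {n | 0 < n} := by
    ext p
    rw [Set.mem_preimage]
    exact (rankAtStalk_pos_iff_mem_support p).symm
  rw [← hsupp, hpre]
  exact hlc _

end Conv

end Groth.Agent.Lib.Helper14.PureOpen
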