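import Mathlib

/-! Helper14: the external direct sum `⨁ d, 𝒱 d` of a graded monoid of submodules `𝒱 d ⊆ B` is a
graded algebra, graded by the ranges of the inclusions `lof d`. -/

set_option autoImplicit false

open DirectSum

namespace Groth.Agent.Lib.Helper14.Rees

universe u v

variable {R : Type u} [CommRing R] {B : Type v} [CommRing B] [Algebra R B]
variable (𝒱 : ℕ → Submodule R B) [SetLike.GradedMonoid 𝒱]

/-- instance search does not find this by itself (the `AddCommGroup` structure has to be the one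
coming from the ring structure). -/
instance addSubgroupClass_directSum :
    AddSubgroupClass (Submodule R (⨁ d : ℕ, ↥(𝒱 d))) (⨁ d : ℕ, ↥(𝒱 d)) :=
  @Submodule.addSubgroupClass R (⨁ d : ℕ, ↥(𝒱 d)) _ (Ring.toAddCommGroup) _

/-- The graded pieces of the external direct sum. -/
def piece (d : ℕ) : Submodule R (⨁ d : ℕ, ↥(𝒱 d)) :=
  LinearMap.range (DirectSum.lof R ℕ (fun d => ↥(𝒱 d)) d)

theorem mem_piece {d : ℕ} {x : ⨁ d : ℕ, ↥(𝒱 d)} :
    x ∈ piece 𝒱 d ↔ ∃ y : ↥(𝒱 d), DirectSum.of (fun d => ↥(𝒱 d)) d y = x := Iff.rfl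

theorem of_mem_piece (d : ℕ) (y : ↥(𝒱 d)) :
    DirectSum.of (fun d => ↥(𝒱 d)) d y ∈ piece 𝒱 d := ⟨y, rfl⟩

instance gradedMonoid_piece : SetLike.GradedMonoid (piece 𝒱) where
  one_mem := by
    refine ⟨(⟨1, SetLike.GradedOne.one_mem⟩ : ↥(𝒱 0)), ?_⟩
    rw [DirectSum.lof_eq_of]
    exact (DirectSum.one_def (fun d => ↥(𝒱 d))).symm
  mul_mem := by
    rintro i j _ _ ⟨a, rfl⟩ ⟨b, rfl⟩
    refine ⟨(⟨(a : B) * (b : B), SetLike.mul_mem_graded a.2 b.2⟩ : ↥(𝒱 (i + j))), ?_⟩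
    rw [DirectSum.lof_eq_of, DirectSum.lof_eq_of, DirectSum.lof_eq_of, DirectSum.of_mul_of]
    rfl

/-- The decomposition map. -/
noncomputable def decomposeLin : (⨁ d : ℕ, ↥(𝒱 d)) →ₗ[R] ⨁ d : ℕ, ↥(piece 𝒱 d) :=
  DirectSum.toModule R ℕ _ fun d =>
    (DirectSum.lof R ℕ (fun d => ↥(piece 𝒱 d)) d) ∘ₗ
      (DirectSum.lof R ℕ (fun d => ↥(𝒱 d)) d).rangeRestrict

theorem decomposeLin_of (d : ℕ) (y : ↥(𝒱 d)) :
    decomposeLin 𝒱 (DirectSum.of (fun d => ↥(𝒱 d)) d y) =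
      DirectSum.of (fun d => ↥(piece 𝒱 d)) d ⟨DirectSum.of (fun d => ↥(𝒱 d)) d y, ⟨y, rfl⟩⟩ := by
  change decomposeLin 𝒱 (DirectSum.lof R ℕ (fun d => ↥(𝒱 d)) d y) = _
  rw [decomposeLin, DirectSum.toModule_lof]
  rfl

noncomputable instance decomposition_piece : DirectSum.Decomposition (piece 𝒱) :=
  DirectSum.Decomposition.ofLinearMap (piece 𝒱) (decomposeLin 𝒱)
    (by
      apply DirectSum.linearMap_ext
      intro d
      refine LinearMap.ext fun y => ?_
      change DirectSum.coeLinearMap (piece 𝒱) (decomposeLin 𝒱 (DirectSum.of _ d y)) =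
        DirectSum.of _ d y
      rw [decomposeLin_of, DirectSum.coeLinearMap_of])
    (by
      apply DirectSum.linearMap_ext
      intro d
      refine LinearMap.ext fun z => ?_
      obtain ⟨x, y, rfl⟩ := z
      change decomposeLin 𝒱 (DirectSum.coeLinearMap (piece 𝒱)
        (DirectSum.of (fun d => ↥(piece 𝒱 d)) d ⟨_, _⟩)) = DirectSum.of _ d ⟨_, _⟩
      rw [DirectSum.coeLinearMap_of]
      exact decomposeLin_of 𝒱 d y)

noncomputable instance gradedAlgebra_piece : GradedAlgebra (piece 𝒱) where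
  toGradedMonoid := gradedMonoid_piece 𝒱
  toDecomposition := decomposition_piece 𝒱

end Groth.Agent.Lib.Helper14.Rees
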