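import Mathlib

/-!
# A graded algebra map `⊕ I^{nc} → A[T_1, …, T_r]` attached to maps `φ_j : I^c → A`
with `x = Σ f_j φ_j(x)` (helper14)
-/

set_option autoImplicit false
set_option linter.unusedVariables false
set_option linter.unusedSectionVars false
set_option linter.style.haveILetI false
universe u
open MvPolynomial

namespace Groth.Agent.Lib.Helper14.ReesPoly

variable {A : Type u} [CommRing A] {r : ℕ} (f : Fin r → A) (I : Ideal A) (c : ℕ)
  (φ : Fin r → (↥(I ^ c) →ₗ[A] A))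

/-- `φ_j` extended by zero -/
noncomputable def phi (j : Fin r) (x : A) : A := by
  classical
  exact if h : x ∈ I ^ c then φ j ⟨x, h⟩ else 0

lemma phi_of_mem (j : Fin r) {x : A} (h : x ∈ I ^ c) : phi I c φ j x = φ j ⟨x, h⟩ := by
  unfold phi
  rw [dif_pos h]

lemma phi_add (j : Fin r) {x y : A} (hx : x ∈ I ^ c) (hy : y ∈ I ^ c) :
    phi I c φ j (x + y) = phi I c φ j x + phi I c φ j y := by
  rw [phi_of_mem I c φ j hx, phi_of_mem I c φ j hy, phi_of_mem I c φ j (Ideal.add_mem _ hx hy),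
    ← map_add]
  rfl

lemma phi_smul (j : Fin r) (a : A) {x : A} (hx : x ∈ I ^ c) :
    phi I c φ j (a * x) = a * phi I c φ j x := by
  rw [phi_of_mem I c φ j hx, phi_of_mem I c φ j (Ideal.mul_mem_left _ a hx), ← smul_eq_mul a (φ j _),
    ← map_smul]
  rfl

lemma pow_succ_mul_le (m : ℕ) : I ^ ((m + 1) * c) ≤ I ^ c := by
  apply Ideal.pow_le_pow_right
  nlinarith

lemma phi_mem (j : Fin r) (m : ℕ) {x : A} (hx : x ∈ I ^ ((m + 1) * c)) :
    phi I c φ j x ∈ I ^ (m * c) := by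
  have e : I ^ ((m + 1) * c) = I ^ (m * c) * I ^ c := by rw [← pow_add]; congr 1; ring
  rw [e] at hx
  have key : x ∈ I ^ c ∧ phi I c φ j x ∈ I ^ (m * c) := by
    refine Submodule.mul_induction_on hx ?_ ?_
    · intro a ha y hy
      refine ⟨Ideal.mul_mem_left _ a hy, ?_⟩
      rw [phi_smul I c φ j a hy]
      exact Ideal.mul_mem_right _ _ ha
    · intro u v hu hv
      refine ⟨Ideal.add_mem _ hu.1 hv.1, ?_⟩
      rw [phi_add I c φ j hu.1 hv.1]
      exact Ideal.add_mem _ hu.2 hv.2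
  exact key.2

/-- the maps `Φ_n` -/
noncomputable def Phi : ℕ → A → MvPolynomial (Fin r) A
  | 0, g => C g
  | (n + 1), g => ∑ j, X j * Phi n (phi I c φ j g)

lemma Phi_zero (g : A) : Phi I c φ 0 g = C g := rfl

lemma Phi_succ (n : ℕ) (g : A) :
    Phi I c φ (n + 1) g = ∑ j, X j * Phi I c φ n (phi I c φ j g) := rfl

lemma Phi_add : ∀ (n : ℕ) {g h : A}, g ∈ I ^ (n * c) → h ∈ I ^ (n * c) →
    Phi I c φ n (g + h) = Phi I c φ n g + Phi I c φ n h
  | 0, g, h, _, _ => by simp [Phi_zero]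
  | (n + 1), g, h, hg, hh => by
    rw [Phi_succ, Phi_succ, Phi_succ, ← Finset.sum_add_distrib]
    refine Finset.sum_congr rfl fun j _ => ?_
    rw [phi_add I c φ j (pow_succ_mul_le I c n hg) (pow_succ_mul_le I c n hh),
      Phi_add n (phi_mem I c φ j n hg) (phi_mem I c φ j n hh), mul_add]

lemma Phi_smul : ∀ (n : ℕ) (a : A) {g : A}, g ∈ I ^ (n * c) →
    Phi I c φ n (a * g) = a • Phi I c φ n g
  | 0, a, g, _ => by simp [Phi_zero, smul_eq_C_mul]
  | (n + 1), a, g, hg => by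
    rw [Phi_succ, Phi_succ, Finset.smul_sum]
    refine Finset.sum_congr rfl fun j _ => ?_
    rw [phi_smul I c φ j a (pow_succ_mul_le I c n hg), Phi_smul n a (phi_mem I c φ j n hg),
      mul_smul_comm]

lemma Phi_isHomogeneous : ∀ (n : ℕ) (g : A), (Phi I c φ n g).IsHomogeneous n
  | 0, g => by rw [Phi_zero]; exact isHomogeneous_C _ _
  | (n + 1), g => by
    rw [Phi_succ]
    refine IsHomogeneous.sum _ _ _ fun j _ => ?_
    have := (isHomogeneous_X A j).mul (Phi_isHomogeneous n (phi I c φ j g))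
    rwa [add_comm] at this

lemma Phi_mul : ∀ (n m : ℕ) {g h : A}, g ∈ I ^ (n * c) → h ∈ I ^ (m * c) →
    Phi I c φ (n + m) (g * h) = Phi I c φ n g * Phi I c φ m h
  | 0, m, g, h, _, hh => by
    rw [zero_add, Phi_smul I c φ m g hh, Phi_zero, smul_eq_C_mul]
  | (n + 1), m, g, h, hg, hh => by
    have e : n + 1 + m = (n + m) + 1 := by omega
    rw [e, Phi_succ, Phi_succ, Finset.sum_mul]
    refine Finset.sum_congr rfl fun j _ => ?_
    rw [mul_comm g h, phi_smul I c φ j h (pow_succ_mul_le I c n hg), mul_comm h,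
      Phi_mul n m (phi_mem I c φ j n hg) hh, mul_assoc]

lemma Phi_one {g : A} (hg : g ∈ I ^ c) :
    Phi I c φ 1 g = ∑ j, C (φ j ⟨g, hg⟩) * X j := by
  rw [Phi_succ]
  refine Finset.sum_congr rfl fun j _ => ?_
  rw [Phi_zero, phi_of_mem I c φ j hg, mul_comm]

lemma aeval_Phi (hφ : ∀ x : ↥(I ^ c), (x : A) = ∑ j, f j * φ j x) :
    ∀ (n : ℕ) {g : A}, g ∈ I ^ (n * c) → aeval f (Phi I c φ n g) = g
  | 0, g, _ => by rw [Phi_zero, aeval_C]; rfl
  | (n + 1), g, hg => by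
    rw [Phi_succ, map_sum]
    have hg' : g ∈ I ^ c := pow_succ_mul_le I c n hg
    have : g = ∑ j, f j * φ j ⟨g, hg'⟩ := hφ ⟨g, hg'⟩
    conv_rhs => rw [this]
    refine Finset.sum_congr rfl fun j _ => ?_
    rw [map_mul, aeval_X, aeval_Phi hφ n (phi_mem I c φ j n hg), phi_of_mem I c φ j hg']

/-- uniqueness -/
lemma Phi_unique (Ψ : ℕ → A → MvPolynomial (Fin r) A)
    (hadd : ∀ n : ℕ, ∀ g ∈ I ^ (n * c), ∀ h ∈ I ^ (n * c), Ψ n (g + h) = Ψ n g + Ψ n h)
    (hmul : ∀ n m : ℕ, ∀ g ∈ I ^ (n * c), ∀ h ∈ I ^ (m * c), Ψ (n + m) (g * h) = Ψ n g * Ψ m h)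
    (h0 : ∀ a : A, Ψ 0 a = C a)
    (h1 : ∀ (g : A) (hg : g ∈ I ^ c), Ψ 1 g = ∑ j, C (φ j ⟨g, hg⟩) * X j) :
    ∀ (n : ℕ) (g : A), g ∈ I ^ (n * c) → Ψ n g = Phi I c φ n g
  | 0, g, _ => by rw [h0, Phi_zero]
  | (n + 1), g, hg => by
    have e : I ^ ((n + 1) * c) = I ^ (1 * c) * I ^ (n * c) := by rw [← pow_add]; congr 1; ring
    have hg2 := hg
    rw [e] at hg2
    have key : g ∈ I ^ ((n + 1) * c) ∧ Ψ (n + 1) g = Phi I c φ (n + 1) g := by
      refine Submodule.mul_induction_on hg2 ?_ ?_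
      · intro x hx y hy
        have hxy : x * y ∈ I ^ ((n + 1) * c) := by rw [e]; exact Ideal.mul_mem_mul hx hy
        refine ⟨hxy, ?_⟩
        have e2 : n + 1 = 1 + n := by omega
        rw [e2, hmul 1 n x hx y hy, Phi_mul I c φ 1 n hx hy, Phi_unique Ψ hadd hmul h0 h1 n y hy]
        congr 1
        have hx' : x ∈ I ^ c := by rwa [one_mul] at hx
        rw [h1 x hx', Phi_one I c φ hx']
      · intro u v hu hv
        refine ⟨Ideal.add_mem _ hu.1 hv.1, ?_⟩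
        rw [hadd (n + 1) u hu.1 v hv.1, Phi_add I c φ (n + 1) hu.1 hv.1, hu.2, hv.2]
    exact key.2

end Groth.Agent.Lib.Helper14.ReesPoly
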