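import Mathlib
import Groth.Agent.Lib.Helper14RigClosed5
import Groth.Agent.Lib.Helper14RigClosed4

set_option autoImplicit false
set_option linter.style.haveILetI false
universe u

namespace Groth.Agent.Lib.Helper14.RigClosed6

open Groth.Agent.Lib.Helper14

section general
variable {R S : Type*} [CommRing R] [CommRing S] (f : R →+* S) (q : Ideal S) [q.IsPrime]

theorem map_localRingHom_maximalIdeal (h1 : (q.comap f).map f = q) :
    (IsLocalRing.maximalIdeal (Localization.AtPrime (q.comap f))).map
      (Localization.localRingHom (q.comap f) q f rfl) =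
    IsLocalRing.maximalIdeal (Localization.AtPrime q) := by
  rw [← Localization.AtPrime.map_eq_maximalIdeal, ← Localization.AtPrime.map_eq_maximalIdeal,
    Ideal.map_map]
  have : (Localization.localRingHom (q.comap f) q f rfl).comp
      (algebraMap R (Localization.AtPrime (q.comap f))) =
      (algebraMap S (Localization.AtPrime q)).comp f := IsLocalization.map_comp _
  rw [this, ← Ideal.map_map, h1]

theorem mem_pow_of_localRingHom_mem (hf : f.Flat) (h1 : (q.comap f).map f = q) (m : ℕ)
    (x : Localization.AtPrime (q.comap f))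
    (hx : Localization.localRingHom (q.comap f) q f rfl x ∈
      (IsLocalRing.maximalIdeal (Localization.AtPrime q)) ^ m) :
    x ∈ (IsLocalRing.maximalIdeal (Localization.AtPrime (q.comap f))) ^ m := by
  have hflat := RingHom.Flat.localRingHom hf q (q.comap f) rfl
  letI := (Localization.localRingHom (q.comap f) q f rfl).toAlgebra
  haveI : Module.Flat (Localization.AtPrime (q.comap f)) (Localization.AtPrime q) := hflat
  haveI : IsLocalHom (algebraMap (Localization.AtPrime (q.comap f)) (Localization.AtPrime q)) :=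
    Localization.isLocalHom_localRingHom _ _ _ rfl
  haveI : Module.FaithfullyFlat (Localization.AtPrime (q.comap f)) (Localization.AtPrime q) :=
    Module.FaithfullyFlat.of_flat_of_isLocalHom
  rw [← map_localRingHom_maximalIdeal f q h1, ← Ideal.map_pow] at hx
  have := Ideal.comap_map_eq_self_of_faithfullyFlat (B := Localization.AtPrime q)
    ((IsLocalRing.maximalIdeal (Localization.AtPrime (q.comap f))) ^ m)
  rw [← this]
  exact hx

theorem exists_sub_localRingHom_mem (m : ℕ) (hm : 1 ≤ m)
    (h2 : ∀ c : S, ∃ p : R, c - f p ∈ q ^ m) (y : Localization.AtPrime q) :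
    ∃ x : Localization.AtPrime (q.comap f),
      y - Localization.localRingHom (q.comap f) q f rfl x ∈
        (IsLocalRing.maximalIdeal (Localization.AtPrime q)) ^ m := by
  obtain ⟨c, s, rfl⟩ := IsLocalization.exists_mk'_eq q.primeCompl y
  obtain ⟨c', hc'⟩ := h2 c
  obtain ⟨s', hs'⟩ := h2 s
  have hqm : q ^ m ≤ q := Ideal.pow_le_self (by omega)
  have hs'q : s' ∈ (q.comap f).primeCompl := by
    intro hmem
    have h3 : f s' ∈ q := hmem
    have h4 : (s : S) ∈ q := by
      have := q.add_mem (hqm hs') h3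
      rwa [sub_add_cancel] at this
    exact s.2 h4
  refine ⟨IsLocalization.mk' _ c' ⟨s', hs'q⟩, ?_⟩
  rw [Localization.localRingHom_mk', ← Localization.AtPrime.map_eq_maximalIdeal, ← Ideal.map_pow,
    ← IsLocalization.mk'_sub, IsLocalization.mk'_mem_map_algebraMap_iff q.primeCompl]
  refine ⟨1, Submonoid.one_mem _, ?_⟩
  rw [one_mul]
  have : c * f s' - f c' * (s : S) = (c - f c') * f s' - f c' * ((s : S) - f s') := by ring
  change c * f s' - f c' * (s : S) ∈ q ^ m
  rw [this]
  exact Ideal.sub_mem _ (Ideal.mul_mem_right _ _ hc') (Ideal.mul_mem_left _ _ hs')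

end general

section
variable (A : Type u) [CommRing A] [IsNoetherianRing A] (I : Ideal A) [IsAdicComplete I A] (n : ℕ)

local notation "P" => MvPolynomial (Fin n) A
local notation "J" => Ideal.map (algebraMap A (MvPolynomial (Fin n) A)) I
local notation "C" =>
  AdicCompletion (Ideal.map (algebraMap A (MvPolynomial (Fin n) A)) I) (MvPolynomial (Fin n) A)

omit [IsNoetherianRing A] [IsAdicComplete I A] in
theorem map_algebraMap_C :
    I.map (algebraMap A C) = Ideal.map (algebraMap P C) J := by
  rw [Ideal.map_map]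
  rfl

instance : IsNoetherianRing C := Groth.Agent.Lib.Helper19.isNoetherianRing_adicCompletion _

theorem isAdicComplete_C : IsAdicComplete (I.map (algebraMap A C)) C := by
  rw [map_algebraMap_C]
  exact AdicCompletion.isAdicComplete_self _ (IsNoetherian.noetherian (J : Ideal P))

theorem exists_sub_mem (c : C) : ∃ p : P, c - algebraMap P C p ∈ I.map (algebraMap A C) := by
  obtain ⟨p, hp⟩ := Ideal.Quotient.mk_surjective (AdicCompletion.evalOneₐ J c)
  refine ⟨p, ?_⟩
  have hker := AdicCompletion.ker_evalOneₐ_eq_map (I := (J : Ideal P))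
    (IsNoetherian.noetherian (J : Ideal P))
  rw [map_algebraMap_C, ← hker, RingHom.mem_ker, map_sub, sub_eq_zero]
  change AdicCompletion.evalOneₐ J c = AdicCompletion.evalOneₐ J (AdicCompletion.of J P p)
  rw [AdicCompletion.evalOneₐ_of, hp]

theorem finiteType_quotient_C : Algebra.FiniteType A (C ⧸ I.map (algebraMap A C)) := by
  let φ : P →ₐ[A] (C ⧸ I.map (algebraMap A C)) :=
    (Ideal.Quotient.mkₐ A _).comp (IsScalarTower.toAlgHom A P C)
  refine Algebra.FiniteType.of_surjective φ ?_
  intro y
  obtain ⟨c, rfl⟩ := Ideal.Quotient.mk_surjective y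
  obtain ⟨p, hp⟩ := exists_sub_mem A I n c
  refine ⟨p, ?_⟩
  symm
  change Ideal.Quotient.mk _ c = Ideal.Quotient.mk _ (algebraMap P C p)
  rw [Ideal.Quotient.eq]
  exact hp

theorem finite_quotient_q (q : PrimeSpectrum C)
    (hq : ¬ (I.map (algebraMap A C)) ≤ q.asIdeal ∧ ∀ y : PrimeSpectrum C, q ≤ y →
      ¬ (I.map (algebraMap A C)) ≤ y.asIdeal → y = q)
    (hp : ¬ I ≤ (PrimeSpectrum.comap (algebraMap A C) q).asIdeal ∧ ∀ y : PrimeSpectrum A,
      (PrimeSpectrum.comap (algebraMap A C) q) ≤ y → ¬ I ≤ y.asIdeal →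
        y = (PrimeSpectrum.comap (algebraMap A C) q)) :
    Module.Finite A (C ⧸ q.asIdeal) := by
  haveI := isAdicComplete_C A I n
  exact RigClosed2.finite_quotient_of_forall_maximal A I C q hq (fun m hm hqm =>
    RigClosed2.finite_quotient_of_rigClosed_comap A I C q (finiteType_quotient_C A I n) hp m hm hqm)

/-- (α) -/
theorem finite_quotient_comap (Q : Ideal C) (h : Module.Finite A (C ⧸ Q)) :
    Module.Finite A (P ⧸ Q.comap (algebraMap P C)) := by
  haveI : IsNoetherian A (C ⧸ Q) := isNoetherian_of_isNoetherianRing_of_finite A _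
  let f : (P ⧸ Q.comap (algebraMap P C)) →ₐ[A] (C ⧸ Q) :=
    Ideal.quotientMapₐ Q (IsScalarTower.toAlgHom A P C) le_rfl
  have hf : Function.Injective f := by
    have : Function.Injective (Ideal.quotientMap Q (algebraMap P C) le_rfl) :=
      Ideal.quotientMap_injective
    exact this
  exact Module.Finite.of_injective f.toLinearMap hf

/-- (β) -/
theorem exists_sub_mem_map (K : Ideal P) (hK : Module.Finite A (P ⧸ K)) (c : C) :
    ∃ p : P, c - algebraMap P C p ∈ K.map (algebraMap P C) := by
  haveI := isAdicComplete_C A I n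
  set KC : Ideal C := K.map (algebraMap P C) with hKC
  -- Step 1
  have h1 : Module.Finite A (C ⧸ (KC ⊔ I.map (algebraMap A C))) := by
    let ψ : (P ⧸ K) →ₐ[A] (C ⧸ (KC ⊔ I.map (algebraMap A C))) :=
      Ideal.quotientMapₐ _ (IsScalarTower.toAlgHom A P C)
        (Ideal.le_comap_map.trans (Ideal.comap_mono le_sup_left))
    refine Module.Finite.of_surjective ψ.toLinearMap ?_
    intro y
    obtain ⟨c, rfl⟩ := Ideal.Quotient.mk_surjective y
    obtain ⟨p, hp⟩ := exists_sub_mem A I n c
    refine ⟨Ideal.Quotient.mk K p, ?_⟩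
    symm
    change Ideal.Quotient.mk _ c = Ideal.Quotient.mk _ (algebraMap P C p)
    rw [Ideal.Quotient.eq]
    exact Ideal.mem_sup_right hp
  -- Step 2
  have h2 : Module.Finite A (C ⧸ KC) :=
    RigClosed4.finite_quotient_of_finite_quotient_sup A I C KC h1
  -- Step 3
  let g : P →ₗ[A] (C ⧸ KC) := ((Ideal.Quotient.mkₐ A KC).comp (IsScalarTower.toAlgHom A P C)).toLinearMap
  have h3 : (⊤ : Submodule A (C ⧸ KC)) ≤ LinearMap.range g := by
    refine Submodule.le_of_le_smul_of_le_jacobson_bot h2.fg_top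
      (IsAdicComplete.le_jacobson_bot I) ?_
    intro y _
    obtain ⟨c, rfl⟩ := Ideal.Quotient.mk_surjective y
    obtain ⟨p, hp⟩ := exists_sub_mem A I n c
    have hdec : Ideal.Quotient.mk KC c = g p + Ideal.Quotient.mk KC (c - algebraMap P C p) := by
      change _ = Ideal.Quotient.mk KC (algebraMap P C p) + _
      rw [← map_add]
      congr 1
      ring
    rw [hdec]
    refine Submodule.add_mem_sup ⟨p, rfl⟩ ?_
    rw [Ideal.smul_top_eq_map, Submodule.restrictScalars_mem]
    have : I.map (algebraMap A (C ⧸ KC)) = (I.map (algebraMap A C)).map (Ideal.Quotient.mk KC) := by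
      rw [Ideal.map_map]; rfl
    rw [this]
    exact Ideal.mem_map_of_mem _ hp
  obtain ⟨p, hp⟩ := h3 (Submodule.mem_top : Ideal.Quotient.mk KC c ∈ ⊤)
  refine ⟨p, ?_⟩
  rw [← Ideal.Quotient.eq]
  exact hp.symm

/-- (γ) -/
theorem map_comap_eq (q : Ideal C) (h : Module.Finite A (C ⧸ q)) :
    (q.comap (algebraMap P C)).map (algebraMap P C) = q := by
  apply le_antisymm Ideal.map_comap_le
  intro c hc
  obtain ⟨p, hp⟩ := exists_sub_mem_map A I n _ (finite_quotient_comap A I n q h) c
  have hpq : algebraMap P C p ∈ q := by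
    have := q.sub_mem hc (Ideal.map_comap_le hp)
    rwa [sub_sub_cancel] at this
  have : c = (c - algebraMap P C p) + algebraMap P C p := by ring
  rw [this]
  exact Ideal.add_mem _ hp (Ideal.mem_map_of_mem _ hpq)

theorem exists_sub_mem_pow_aux (q : Ideal C) (h : Module.Finite A (C ⧸ q)) (m : ℕ) (z : C)
    (hz : z ∈ ((q.comap (algebraMap P C)) ^ m).map (algebraMap P C)) :
    ∃ p ∈ (q.comap (algebraMap P C)) ^ m, z - algebraMap P C p ∈ q ^ (m + 1) := by
  have hβ : ∀ c : C, ∃ p : P, c - algebraMap P C p ∈ q := fun c => by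
    obtain ⟨p, hp⟩ := exists_sub_mem_map A I n _ (finite_quotient_comap A I n q h) c
    exact ⟨p, Ideal.map_comap_le hp⟩
  have hpow : ∀ p ∈ (q.comap (algebraMap P C)) ^ m, algebraMap P C p ∈ q ^ m := by
    intro p hp
    have h1 := Ideal.mem_map_of_mem (algebraMap P C) hp
    rw [Ideal.map_pow] at h1
    exact Ideal.pow_right_mono Ideal.map_comap_le m h1
  change z ∈ Submodule.span C ((algebraMap P C) '' ((q.comap (algebraMap P C)) ^ m : Ideal P)) at hz
  induction hz using Submodule.span_induction with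
  | mem z hz =>
    obtain ⟨a, ha, rfl⟩ := hz
    exact ⟨a, ha, by rw [sub_self]; exact Ideal.zero_mem _⟩
  | zero => exact ⟨0, Ideal.zero_mem _, by rw [map_zero, sub_self]; exact Ideal.zero_mem _⟩
  | add x y _ _ hx hy =>
    obtain ⟨p₁, hp₁, h₁⟩ := hx
    obtain ⟨p₂, hp₂, h₂⟩ := hy
    refine ⟨p₁ + p₂, Ideal.add_mem _ hp₁ hp₂, ?_⟩
    have : x + y - algebraMap P C (p₁ + p₂) =
        (x - algebraMap P C p₁) + (y - algebraMap P C p₂) := by rw [map_add]; ring
    rw [this]
    exact Ideal.add_mem _ h₁ h₂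
  | smul c' z _ hz =>
    obtain ⟨p, hp, h₁⟩ := hz
    obtain ⟨p', hp'⟩ := hβ c'
    refine ⟨p' * p, Ideal.mul_mem_left _ _ hp, ?_⟩
    have : c' • z - algebraMap P C (p' * p) =
        c' * (z - algebraMap P C p) + (c' - algebraMap P C p') * algebraMap P C p := by
      rw [map_mul, smul_eq_mul]; ring
    rw [this]
    refine Ideal.add_mem _ (Ideal.mul_mem_left _ _ h₁) ?_
    rw [pow_succ']
    exact Ideal.mul_mem_mul hp' (hpow p hp)

/-- (δ) -/
theorem exists_sub_mem_pow (q : Ideal C) (h : Module.Finite A (C ⧸ q)) (m : ℕ) (c : C) :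
    ∃ p : P, c - algebraMap P C p ∈ q ^ m := by
  induction m with
  | zero => exact ⟨0, by rw [pow_zero, Ideal.one_eq_top]; trivial⟩
  | succ m ih =>
    obtain ⟨p, hp⟩ := ih
    have hz : c - algebraMap P C p ∈ ((q.comap (algebraMap P C)) ^ m).map (algebraMap P C) := by
      rw [Ideal.map_pow, map_comap_eq A I n q h]
      exact hp
    obtain ⟨p₂, -, h₂⟩ := exists_sub_mem_pow_aux A I n q h m _ hz
    refine ⟨p + p₂, ?_⟩
    have : c - algebraMap P C (p + p₂) = c - algebraMap P C p - algebraMap P C p₂ := by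
      rw [map_add]; ring
    rw [this]
    exact h₂

/-- **S8839**: `A[x]_{q'} → A{x}_q` is an isomorphism modulo every power of the maximal ideals. -/
theorem main (q : PrimeSpectrum C)
    (hq : ¬ (I.map (algebraMap A C)) ≤ q.asIdeal ∧ ∀ y : PrimeSpectrum C, q ≤ y →
      ¬ (I.map (algebraMap A C)) ≤ y.asIdeal → y = q)
    (hp : ¬ I ≤ (PrimeSpectrum.comap (algebraMap A C) q).asIdeal ∧ ∀ y : PrimeSpectrum A,
      (PrimeSpectrum.comap (algebraMap A C) q) ≤ y → ¬ I ≤ y.asIdeal →
        y = (PrimeSpectrum.comap (algebraMap A C) q)) (m : ℕ) (hm : 1 ≤ m) :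
    (∀ x : Localization.AtPrime (q.asIdeal.comap (algebraMap P C)),
      Localization.localRingHom (q.asIdeal.comap (algebraMap P C)) q.asIdeal (algebraMap P C) rfl x ∈
        (IsLocalRing.maximalIdeal (Localization.AtPrime q.asIdeal)) ^ m →
      x ∈ (IsLocalRing.maximalIdeal (Localization.AtPrime (q.asIdeal.comap (algebraMap P C)))) ^ m) ∧
    (∀ y : Localization.AtPrime q.asIdeal, ∃ x : Localization.AtPrime (q.asIdeal.comap (algebraMap P C)),
      y - Localization.localRingHom (q.asIdeal.comap (algebraMap P C)) q.asIdeal (algebraMap P C) rfl x ∈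
        (IsLocalRing.maximalIdeal (Localization.AtPrime q.asIdeal)) ^ m) := by
  have hfin := finite_quotient_q A I n q hq hp
  have hflat : (algebraMap P C).Flat := RingHom.flat_algebraMap_iff.mpr inferInstance
  refine ⟨fun x hx => ?_, fun y => ?_⟩
  · exact mem_pow_of_localRingHom_mem (algebraMap P C) q.asIdeal hflat
      (map_comap_eq A I n q.asIdeal hfin) m x hx
  · exact exists_sub_localRingHom_mem (algebraMap P C) q.asIdeal m hm
      (exists_sub_mem_pow A I n q.asIdeal hfin m) y

end

end Groth.Agent.Lib.Helper14.RigClosed6
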