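import Mathlib
import Groth.Agent.Lib.Helper14HDTD

/-! # S2-ification along a specialization-stable subset: elementary algebra (helper14)

`M` a `T`-torsion-free module, `J` a `T`-ideal such that `x • φ` is multiplication by an element
for every `x ∈ J` and every `φ : J' → M` (`J'` a `T`-ideal).  Then every homomorphism
`I → Hom(J, M)` (`I` a `T`-ideal) is multiplication by an element. -/

set_option autoImplicit false
set_option linter.unusedVariables false
set_option linter.unusedSectionVars false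
set_option linter.style.haveILetI false
set_option maxHeartbeats 400000

universe u v

namespace Groth.Agent.Lib.Helper14.S2

open Groth.Agent.Lib.Helper14.HDT

variable {A : Type u} [CommRing A] (T : Set (PrimeSpectrum A))

/-- `T`-torsion-free -/
def TF (M : Type v) [AddCommGroup M] [Module A M] : Prop :=
  ∀ (I : Ideal A), PrimeSpectrum.zeroLocus (I : Set A) ⊆ T → ∀ m : M, (∀ a ∈ I, a • m = 0) → m = 0

/-- property (K): `J` kills `colim Hom(J', M) / M` -/
def KProp (J : Ideal A) (M : Type v) [AddCommGroup M] [Module A M] : Prop :=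
  ∀ (J' : Ideal A), PrimeSpectrum.zeroLocus (J' : Set A) ⊆ T → ∀ (φ : J' →ₗ[A] M) (x : A), x ∈ J →
    ∃ m : M, ∀ y : J', x • φ y = (y : A) • m

/-- a linear map from a functional relation -/
theorem exists_linearMap_of_rel {N : Type*} {P : Type*} [AddCommGroup N] [Module A N]
    [AddCommGroup P] [Module A P] (R : N → P → Prop) (hex : ∀ n, ∃ p, R n p)
    (huniq : ∀ n p p', R n p → R n p' → p = p')
    (hadd : ∀ n n' p p', R n p → R n' p' → R (n + n') (p + p'))
    (hsmul : ∀ (c : A) n p, R n p → R (c • n) (c • p)) :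
    ∃ f : N →ₗ[A] P, ∀ n, R n (f n) := by
  classical
  choose f hf using hex
  refine ⟨{ toFun := f, map_add' := ?_, map_smul' := ?_ }, hf⟩
  · intro n n'
    exact huniq _ _ _ (hf (n + n')) (hadd n n' _ _ (hf n) (hf n'))
  · intro c n
    exact huniq _ _ _ (hf (c • n)) (hsmul c n _ (hf n))

variable {T}
variable {M : Type v} [AddCommGroup M] [Module A M]

theorem TF.eq_of_mul {I J : Ideal A} (hTF : TF T M)
    (hI : PrimeSpectrum.zeroLocus (I : Set A) ⊆ T) (hJ : PrimeSpectrum.zeroLocus (J : Set A) ⊆ T)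
    (m m' : M) (h : ∀ (a : I) (b : J), ((a : A) * (b : A)) • m = ((a : A) * (b : A)) • m') :
    m = m' := by
  rw [← sub_eq_zero]
  refine hTF (I * J) (zeroLocus_mul_subset T hI hJ) _ (fun c hc => ?_)
  refine Submodule.mul_induction_on hc (fun a ha b hb => ?_) (fun x y hx hy => ?_)
  · rw [smul_sub, sub_eq_zero]
    exact h ⟨a, ha⟩ ⟨b, hb⟩
  · rw [add_smul, hx, hy, add_zero]

theorem TF.hom (hTF : TF T M) (J : Ideal A) : TF T (J →ₗ[A] M) := by
  intro I hI g hg
  apply LinearMap.ext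
  intro x
  refine hTF I hI _ (fun a ha => ?_)
  have := congrArg (fun φ : J →ₗ[A] M => φ x) (hg a ha)
  simpa using this

section Swap

variable {I J : Ideal A} (ψ : I →ₗ[A] (J →ₗ[A] M))

omit [AddCommGroup M] [Module A M] in
theorem swapI_aux (a y : I) : (a : A) • y = (y : A) • a := by
  apply Subtype.ext
  simp [mul_comm]

theorem swapI (a y : I) : (a : A) • ψ y = (y : A) • ψ a := by
  rw [← map_smul, ← map_smul, swapI_aux]

theorem swapJ (g : J →ₗ[A] M) (b x : J) : (b : A) • g x = (x : A) • g b := by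
  rw [← map_smul, ← map_smul, swapI_aux]

theorem key_swap (a y : I) (b x : J) :
    ((a : A) * (b : A)) • ψ y x = ((y : A) * (x : A)) • ψ a b := by
  calc ((a : A) * (b : A)) • ψ y x = (a : A) • ((b : A) • ψ y x) := by rw [mul_smul]
    _ = (a : A) • ((x : A) • ψ y b) := by rw [swapJ]
    _ = (x : A) • (((a : A) • ψ y) b) := by rw [smul_comm]; rfl
    _ = (x : A) • (((y : A) • ψ a) b) := by rw [swapI]
    _ = ((y : A) * (x : A)) • ψ a b := by
      rw [LinearMap.smul_apply, ← mul_smul, mul_comm]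

end Swap

/-- every homomorphism from a `T`-ideal to `Hom(J, M)` is multiplication by an element -/
theorem hom_eq_smul (hTF : TF T M) (J : Ideal A)
    (hJ : PrimeSpectrum.zeroLocus (J : Set A) ⊆ T) (hK : KProp T J M) (I : Ideal A)
    (hI : PrimeSpectrum.zeroLocus (I : Set A) ⊆ T) (ψ : I →ₗ[A] (J →ₗ[A] M)) :
    ∃ φ₀ : J →ₗ[A] M, ∀ y : I, ψ y = (y : A) • φ₀ := by
  -- Step 1 : θ on I * J
  obtain ⟨θ, hθ⟩ := exists_linearMap_of_rel (A := A) (N := ↥(I * J)) (P := M)
    (fun z m => ∀ (a : I) (b : J), ((a : A) * (b : A)) • m = (z : A) • ψ a b)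
    (by
      rintro ⟨z, hz⟩
      have hex : ∀ z ∈ I * J, ∃ p : M, ∀ (a : I) (b : J),
          ((a : A) * (b : A)) • p = z • ψ a b := by
        intro z hz
        refine Submodule.mul_induction_on (C := fun z => ∃ p : M, ∀ (a : I) (b : J),
          ((a : A) * (b : A)) • p = z • ψ a b) hz (fun y hy x hx => ?_) (fun z₁ z₂ h₁ h₂ => ?_)
        · exact ⟨ψ ⟨y, hy⟩ ⟨x, hx⟩, fun a b => key_swap ψ a ⟨y, hy⟩ b ⟨x, hx⟩⟩
        · obtain ⟨m₁, hm₁⟩ := h₁
          obtain ⟨m₂, hm₂⟩ := h₂
          exact ⟨m₁ + m₂, fun a b => by rw [smul_add, hm₁, hm₂, add_smul]⟩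
      exact hex z hz)
    (by
      intro z m m' hm hm'
      exact hTF.eq_of_mul hI hJ m m' (fun a b => by rw [hm, hm']))
    (by
      intro z z' m m' hm hm' a b
      rw [smul_add, hm, hm', Submodule.coe_add, add_smul])
    (by
      intro c z m hm a b
      rw [smul_comm, hm, Submodule.coe_smul, smul_eq_mul, mul_smul])
  -- Step 2 + 3 : φ₀
  obtain ⟨φ₀, hφ₀⟩ := exists_linearMap_of_rel (A := A) (N := ↥J) (P := M)
    (fun x m => ∀ (a : I) (b : J), (x : A) • ψ a b = ((a : A) * (b : A)) • m)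
    (by
      intro x
      obtain ⟨m, hm⟩ := hK (I * J) (zeroLocus_mul_subset T hI hJ) θ (x : A) x.2
      refine ⟨m, fun a b => ?_⟩
      have h1 := hm ⟨(a : A) * (b : A), Ideal.mul_mem_mul a.2 b.2⟩
      have h2 := hθ ⟨(a : A) * (b : A), Ideal.mul_mem_mul a.2 b.2⟩ a b
      -- θ(ab) = ψ a b
      have h3 : θ ⟨(a : A) * (b : A), Ideal.mul_mem_mul a.2 b.2⟩ = ψ a b := by
        refine hTF.eq_of_mul hI hJ _ _ (fun a' b' => ?_)
        rw [hθ ⟨(a : A) * (b : A), Ideal.mul_mem_mul a.2 b.2⟩ a' b']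
        exact (key_swap ψ a' a b' b).symm
      rw [h3] at h1
      exact h1)
    (by
      intro x m m' hm hm'
      exact hTF.eq_of_mul hI hJ m m' (fun a b => by rw [← hm, ← hm']))
    (by
      intro x x' m m' hm hm' a b
      rw [smul_add, ← hm, ← hm', Submodule.coe_add, add_smul])
    (by
      intro c x m hm a b
      rw [smul_comm, ← hm, Submodule.coe_smul, smul_eq_mul, mul_smul])
  refine ⟨φ₀, fun y => ?_⟩
  apply LinearMap.ext
  intro x
  refine hTF.eq_of_mul hI hJ _ _ (fun a b => ?_)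
  rw [LinearMap.smul_apply, smul_comm, ← hφ₀ x a b, key_swap ψ a y b x, mul_smul]

section Map

variable (T) (M₀ : Type v) [AddCommGroup M₀] [Module A M₀]

/-- the map `M₀ → Hom(J, M₀ / T-torsion)`, `m ↦ (x ↦ x • [m])` -/
noncomputable def toHull (J : Ideal A) : M₀ →ₗ[A] (J →ₗ[A] (M₀ ⧸ torsT T M₀)) :=
  ((LinearMap.lsmul A (M₀ ⧸ torsT T M₀)).domRestrict J).flip ∘ₗ (torsT T M₀).mkQ

theorem toHull_apply (J : Ideal A) (m : M₀) (x : J) :
    toHull T M₀ J m x = (x : A) • (Submodule.Quotient.mk m : M₀ ⧸ torsT T M₀) := rfl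

theorem TF_quot [IsNoetherian A M₀] : TF T (M₀ ⧸ torsT T M₀) := by
  intro I hI q hq
  obtain ⟨m, rfl⟩ := Submodule.Quotient.mk_surjective _ q
  rw [Submodule.Quotient.mk_eq_zero]
  refine mem_torsT_of_smul_mem T m I hI (fun a ha => ?_)
  rw [← Submodule.Quotient.mk_eq_zero, Submodule.Quotient.mk_smul]
  exact hq a ha

theorem exists_mem_notMem {J : Ideal A} (hJ : PrimeSpectrum.zeroLocus (J : Set A) ⊆ T)
    (p : PrimeSpectrum A) (hp : p ∉ T) : ∃ x ∈ J, x ∉ p.asIdeal := by
  by_contra h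
  push Not at h
  exact hp (hJ (show (J : Set A) ⊆ p.asIdeal from fun x hx => h x hx))

theorem toHull_loc_bijective [IsNoetherian A M₀] (J : Ideal A)
    (hJ : PrimeSpectrum.zeroLocus (J : Set A) ⊆ T) (p : PrimeSpectrum A) (hp : p ∉ T) :
    Function.Bijective (LocalizedModule.map p.asIdeal.primeCompl (toHull T M₀ J)) := by
  obtain ⟨x₀, hx₀J, hx₀p⟩ := exists_mem_notMem T hJ p hp
  constructor
  · rw [injective_iff_map_eq_zero]
    intro z hz
    induction z using LocalizedModule.induction_on with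
    | h m s =>
      rw [LocalizedModule.map_mk, ← LocalizedModule.zero_mk s, LocalizedModule.mk_eq] at hz
      obtain ⟨t, ht⟩ := hz
      have h1 : (t.1 * s.1 * x₀) • m ∈ torsT T M₀ := by
        rw [← Submodule.Quotient.mk_eq_zero, Submodule.Quotient.mk_smul]
        have h2 := congrArg (fun φ : J →ₗ[A] (M₀ ⧸ torsT T M₀) => φ ⟨x₀, hx₀J⟩) ht
        simp only [smul_zero, LinearMap.zero_apply] at h2
        rw [mul_smul, mul_smul]
        exact h2
      obtain ⟨J', hJ', hkill⟩ := h1
      obtain ⟨y, hyJ', hyp⟩ := exists_mem_notMem T hJ' p hp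
      rw [← LocalizedModule.zero_mk s, LocalizedModule.mk_eq]
      refine ⟨⟨y * (t.1 * x₀), ?_⟩, ?_⟩
      · exact p.asIdeal.primeCompl.mul_mem hyp (p.asIdeal.primeCompl.mul_mem t.2 hx₀p)
      · change (y * (t.1 * x₀)) • s.1 • m = (y * (t.1 * x₀)) • s.1 • (0 : M₀)
        rw [smul_zero, smul_zero, smul_smul]
        have := hkill y hyJ'
        rw [smul_smul] at this
        rw [← this]
        congr 1
        ring
  · intro z
    induction z using LocalizedModule.induction_on with
    | h φ s =>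
      obtain ⟨m, hm⟩ := Submodule.Quotient.mk_surjective _ (φ ⟨x₀, hx₀J⟩)
      have hfm : toHull T M₀ J m = x₀ • φ := by
        apply LinearMap.ext
        intro x
        rw [toHull_apply, hm, LinearMap.smul_apply]
        exact swapJ φ x ⟨x₀, hx₀J⟩
      refine ⟨LocalizedModule.mk m (⟨x₀, hx₀p⟩ * s), ?_⟩
      rw [LocalizedModule.map_mk, LocalizedModule.mk_eq]
      refine ⟨1, ?_⟩
      rw [one_smul, one_smul, hfm]
      change s.1 • x₀ • φ = (x₀ * s.1) • φ
      rw [smul_smul, mul_comm]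

end Map

end Groth.Agent.Lib.Helper14.S2
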