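import Mathlib
import Groth.Agent.Lib.Helper14HDTI
import Groth.Agent.Lib.Helper8BridgeT4
import Groth.Agent.Lib.Helper8LC2
import Groth.Agent.Lib.Helper14S2A

/-! # Property (K) from annihilation of `H^1_T` (helper14) -/

set_option autoImplicit false
set_option linter.unusedVariables false
set_option linter.unusedSectionVars false
set_option linter.style.haveILetI false
set_option maxHeartbeats 400000

universe u

open CategoryTheory CategoryTheory.Limits Opposite CategoryTheory.Abelian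

namespace Groth.Agent.Lib.Helper14.S2

open Groth.Agent.Lib.Helper8.ExtLES Groth.Agent.Lib.Helper8.Bridge Groth.Agent.Lib.Helper8.LC
  Groth.Agent.Lib.Helper14.HDT

variable {A : Type u} [CommRing A]

/-- naturality of the connecting homomorphism in the first variable -/
theorem preδ_naturality {S₁ S₂ : ShortComplex (ModuleCat.{u} A)} (h₁ : S₁.ShortExact)
    (h₂ : S₂.ShortExact) (f : S₁ ⟶ S₂) (Y : ModuleCat.{u} A) (n : ℕ) (x : E n S₂.X₁ Y) :
    preδ S₁ h₁ Y n ((Epre n f.τ₁ Y).hom x) = (Epre (n + 1) f.τ₃ Y).hom (preδ S₂ h₂ Y n x) := by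
  apply (Ψ (n + 1) S₁.X₃ Y).injective
  rw [Ψ_preδ, Ψ_Epre, Ψ_Epre, Ψ_preδ, ← Ext.comp_assoc_of_second_deg_zero,
    ShortComplex.ShortExact.extClass_naturality h₁ h₂ f]
  exact Ext.comp_assoc _ _ _ (zero_add 1) (Nat.add_comm 1 n) (by omega)

/-- `0 → J → A → A/J → 0` -/
noncomputable abbrev SJ (J : Ideal A) : ShortComplex (ModuleCat.{u} A) :=
  Sfg (J.subtype) (J.mkQ) (LinearMap.exact_subtype_mkQ J)

theorem SJ_shortExact (J : Ideal A) : (SJ J).ShortExact :=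
  Sfg_shortExact _ _ (Submodule.injective_subtype _) (Submodule.mkQ_surjective _) _

/-- the morphism of short exact sequences for `J'' ≤ J'` -/
noncomputable def SJmap {J'' J' : Ideal A} (h : J'' ≤ J') : SJ J'' ⟶ SJ J' where
  τ₁ := ModuleCat.ofHom (Submodule.inclusion h)
  τ₂ := 𝟙 _
  τ₃ := qM h
  comm₁₂ := by
    apply ModuleCat.hom_ext
    apply LinearMap.ext
    intro x
    rfl
  comm₂₃ := by
    apply ModuleCat.hom_ext
    apply LinearMap.ext
    intro x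
    rfl

theorem KProp_of_ann (T : Set (PrimeSpectrum A)) (M : Type u) [AddCommGroup M] [Module A M]
    (hTF : TF T M) (J : Ideal A)
    (hkill : ∀ a ∈ J, ∀ x : Dual2.HT T 1 M, a • x = 0) : KProp T J M := by
  intro J' hJ' φ x hx
  let Mc : ModuleCat.{u} A := ModuleCat.of A M
  let X' : Dual2.IdealsIn T := mkI T J' hJ'
  let φc : (SJ J').X₁ ⟶ Mc := ModuleCat.ofHom φ
  let e : E 0 (SJ J').X₁ Mc := (θ (SJ J').X₁ Mc).hom φc
  let d : E 1 (XJ J') Mc := preδ (SJ J') (SJ_shortExact J') Mc 0 e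
  have h1 : (clsT T 1 Mc X').hom (x • d) = 0 :=
    (map_smul (clsT T 1 Mc X').hom x d).trans (hkill x hx _)
  obtain ⟨Y, hle, hY⟩ := (clsT_eq_zero_iff T 1 Mc (X := X') (x • d)).mp h1
  have hle' : Y.obj ≤ J' := hle
  have h2 : preδ (SJ Y.obj) (SJ_shortExact Y.obj) Mc 0
      ((Epre 0 (SJmap hle').τ₁ Mc).hom (x • e)) = 0 := by
    rw [preδ_naturality (SJ_shortExact Y.obj) (SJ_shortExact J') (SJmap hle'), map_smul]
    exact hY
  obtain ⟨e₂, he₂⟩ := pre_exact₁ (SJ Y.obj) (SJ_shortExact Y.obj) Mc 0 _ h2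
  obtain ⟨g, rfl⟩ := (θ_bijective (SJ Y.obj).X₂ Mc).2 e₂
  have hxe : x • e = (θ (SJ J').X₁ Mc).hom (x • φc) := (map_smul _ x φc).symm
  rw [hxe] at he₂
  have he₃ : (θ (SJ Y.obj).X₁ Mc).hom ((SJ Y.obj).f ≫ g) =
      (θ (SJ Y.obj).X₁ Mc).hom ((SJmap hle').τ₁ ≫ (x • φc)) :=
    ((Epre_θ (SJ Y.obj).f Mc g).symm.trans he₂).trans (Epre_θ (SJmap hle').τ₁ Mc (x • φc))
  have he₄ := (θ_bijective (SJ Y.obj).X₁ Mc).1 he₃
  have key : ∀ z : Y.obj, x • φ ⟨z.1, hle' z.2⟩ = (z : A) • g.hom (1 : A) := by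
    intro z
    have h5 := congrArg (fun ψ : (SJ Y.obj).X₁ ⟶ Mc => ψ.hom z) he₄
    have h6 : g.hom (z : A) = x • φ ⟨z.1, hle' z.2⟩ := h5
    rw [← h6, ← map_smul, smul_eq_mul, mul_one]
  refine ⟨g.hom (1 : A), fun y => ?_⟩
  rw [← sub_eq_zero]
  refine hTF Y.obj Y.property _ (fun z hz => ?_)
  rw [smul_sub, sub_eq_zero]
  calc z • x • φ y = x • φ (z • y) := by rw [smul_comm, map_smul]
    _ = x • φ ((y : A) • ⟨z, hle' hz⟩) := by
      congr 2
      apply Subtype.ext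
      simp [mul_comm]
    _ = (y : A) • (x • φ ⟨z, hle' hz⟩) := by rw [map_smul, smul_comm]
    _ = (y : A) • (z • g.hom (1 : A)) := by rw [key ⟨z, hz⟩]
    _ = z • ((y : A) • g.hom (1 : A)) := smul_comm _ _ _

end Groth.Agent.Lib.Helper14.S2
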