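import Groth.Prelude.Def_W4bk5brsh16IT
import Mathlib

set_option autoImplicit false
universe u
open CategoryTheory CategoryTheory.Limits Opposite LocCoh

namespace Groth.Agent.Lib.Helper8.DT

variable {R : Type u} [CommRing R] (I : Ideal R) (M : Type u) [AddCommGroup M] [Module R M]

/-- The evaluated diagram `n ↦ Hom_R(I^n, M)`. -/
noncomputable abbrev evalDiagram : ℕᵒᵖᵒᵖ ⥤ ModuleCat.{u} R :=
  transformDiagram I ⋙ (evaluation _ _).obj (ModuleCat.of R M)

/-- The colimit cocone of the evaluated diagram with point `D_I(M)`. -/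
noncomputable def evalCocone : Cocone (evalDiagram I M) :=
  ((evaluation _ _).obj (ModuleCat.of R M)).mapCocone (colimit.cocone (transformDiagram I))

noncomputable def evalIsColimit : IsColimit (evalCocone I M) :=
  isColimitOfPreserves ((evaluation _ _).obj (ModuleCat.of R M)) (colimit.isColimit (transformDiagram I))

example : (evalCocone I M).pt = ModuleCat.of R (DT I M) := rfl
example (n : ℕ) : ((evalDiagram I M).obj (op (op n)) : Type u) = (ModuleCat.of R ↥(I ^ n) ⟶ ModuleCat.of R M) := rfl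

instance : PreservesColimitsOfShape ℕᵒᵖᵒᵖ (forget (ModuleCat.{u} R)) :=
  have := preservesSmallestFilteredColimits_of_preservesFilteredColimits.{u, u} (forget (ModuleCat.{u} R))
  PreservesFilteredColimitsOfSize.preserves_filtered_colimits ℕᵒᵖᵒᵖ

/-- class of `f : I^n → M` in `D_I(M)`. -/
noncomputable def cls (n : ℕ) : (↥(I ^ n) →ₗ[R] M) →ₗ[R] DT I M :=
  ((colimit.ι (transformDiagram I) (op (op n))).app (ModuleCat.of R M)).hom ∘ₗ
    (ModuleCat.homLinearEquiv (S := R) (M := ModuleCat.of R ↥(I ^ n)) (N := ModuleCat.of R M)).symm.toLinearMap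

theorem cls_apply (n : ℕ) (f : ↥(I ^ n) →ₗ[R] M) :
    cls I M n f = ((colimit.ι (transformDiagram I) (op (op n))).app (ModuleCat.of R M)).hom (ModuleCat.ofHom f) := rfl

theorem cls_hom (n : ℕ) (f : ModuleCat.of R ↥(I ^ n) ⟶ ModuleCat.of R M) :
    ((colimit.ι (transformDiagram I) (op (op n))).app (ModuleCat.of R M)).hom f = cls I M n f.hom := rfl

theorem exists_rep (x : DT I M) : ∃ (n : ℕ) (f : ↥(I ^ n) →ₗ[R] M), cls I M n f = x := by
  obtain ⟨j, y, hy⟩ := Concrete.isColimit_exists_rep (evalDiagram I M) (evalIsColimit I M) x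
  exact ⟨j.unop.unop, y.hom, hy⟩

/-- restriction `I^k → I^n` for `n ≤ k`. -/
def incl {n k : ℕ} (h : n ≤ k) : ↥(I ^ k) →ₗ[R] ↥(I ^ n) :=
  Submodule.inclusion (Ideal.pow_le_pow_right h)

@[simp] theorem incl_coe {n k : ℕ} (h : n ≤ k) (x : ↥(I ^ k)) : ((incl I h x : ↥(I ^ n)) : R) = x := rfl

theorem evalDiagram_map {n k : ℕ} (h : n ≤ k) (f : ModuleCat.of R ↥(I ^ n) ⟶ ModuleCat.of R M) :
    ((evalDiagram I M).map (homOfLE h).op.op : _ ⟶ (evalDiagram I M).obj (op (op k))).hom f =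
      ModuleCat.ofHom (f.hom ∘ₗ incl I h) := rfl

theorem cls_restrict {n k : ℕ} (h : n ≤ k) (f : ↥(I ^ n) →ₗ[R] M) :
    cls I M k (f ∘ₗ incl I h) = cls I M n f := by
  have := (evalCocone I M).w (homOfLE h).op.op
  have h2 := congrArg (fun φ => φ.hom (ModuleCat.ofHom f)) this
  exact h2

theorem cls_eq_iff {n m : ℕ} (f : ↥(I ^ n) →ₗ[R] M) (g : ↥(I ^ m) →ₗ[R] M) :
    cls I M n f = cls I M m g ↔
      ∃ (k : ℕ) (hn : n ≤ k) (hm : m ≤ k), f ∘ₗ incl I hn = g ∘ₗ incl I hm := by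
  constructor
  · intro h
    let x : ToType ((evalDiagram I M).obj (op (op n))) :=
      (ModuleCat.ofHom f : ModuleCat.of R ↥(I ^ n) ⟶ ModuleCat.of R M)
    let y : ToType ((evalDiagram I M).obj (op (op m))) :=
      (ModuleCat.ofHom g : ModuleCat.of R ↥(I ^ m) ⟶ ModuleCat.of R M)
    obtain ⟨k, a, b, hab⟩ := (Concrete.isColimit_rep_eq_iff_exists (C := ModuleCat.{u} R)
      (evalDiagram I M) (i := op (op n)) (j := op (op m)) (evalIsColimit I M) x y).mp h
    have hn : n ≤ k.unop.unop := a.unop.unop.le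
    have hm : m ≤ k.unop.unop := b.unop.unop.le
    refine ⟨k.unop.unop, hn, hm, ?_⟩
    have ha : a = (homOfLE hn).op.op := Subsingleton.elim _ _
    have hb : b = (homOfLE hm).op.op := Subsingleton.elim _ _
    rw [ha, hb] at hab
    have := congrArg ModuleCat.Hom.hom hab
    exact this
  · rintro ⟨k, hn, hm, h⟩
    rw [← cls_restrict I M hn, ← cls_restrict I M hm, h]

variable {M} in
theorem map_cls {N : Type u} [AddCommGroup N] [Module R N] (φ : M →ₗ[R] N) (n : ℕ)
    (f : ↥(I ^ n) →ₗ[R] M) :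
    ((idealTransform I).map (ModuleCat.ofHom φ)).hom (cls I M n f) = cls I N n (φ ∘ₗ f) := by
  have := (colimit.ι (transformDiagram I) (op (op n))).naturality (ModuleCat.ofHom φ)
  have h2 := congrArg (fun ψ => ψ.hom (ModuleCat.ofHom f)) this
  exact h2.symm

theorem toDT_eq (m : M) :
    toDT I M m = cls I M 0 ((LinearMap.toSpanSingleton R M m) ∘ₗ (I ^ 0).subtype) := by
  rw [cls_apply]
  change ((colimit.ι (transformDiagram I) (op (op 0))).app (ModuleCat.of R M)).hom _ = _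
  congr 1

theorem toDT_eq' (m : M) (n : ℕ) :
    toDT I M m = cls I M n ((LinearMap.toSpanSingleton R M m) ∘ₗ (I ^ n).subtype) := by
  rw [toDT_eq, ← cls_restrict I M (Nat.zero_le n)]
  rfl

variable {I} in
theorem DTmapOfLE_cls {J : Ideal R} (h : I ≤ J) (n : ℕ) (f : ↥(J ^ n) →ₗ[R] M) :
    ((DTmapOfLE h).app (ModuleCat.of R M)).hom (cls J M n f) =
      cls I M n (f ∘ₗ Submodule.inclusion (Ideal.pow_right_mono h n)) := by
  have := congrArg (fun ψ => ψ.app (ModuleCat.of R M)) (ι_colimMap (Functor.whiskerRight (NatTrans.op (Functor.whiskerRight (powLE h) idealModFunctor))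
    (linearCoyoneda R (ModuleCat.{u} R))) (op (op n)))
  have h2 := congrArg (fun ψ => ψ.hom (ModuleCat.ofHom f)) this
  exact h2

theorem cls_eq_zero_iff {n : ℕ} (f : ↥(I ^ n) →ₗ[R] M) :
    cls I M n f = 0 ↔ ∃ (k : ℕ) (hn : n ≤ k), f ∘ₗ incl I hn = 0 := by
  have h0 : (0 : DT I M) = cls I M n 0 := (map_zero _).symm
  rw [h0, cls_eq_iff]
  constructor
  · rintro ⟨k, hn, _, h⟩
    exact ⟨k, hn, by rw [h, LinearMap.zero_comp]⟩
  · rintro ⟨k, hn, h⟩
    exact ⟨k, hn, hn, by rw [h, LinearMap.zero_comp]⟩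

/-- `a • [f] = η (f a)` for `a ∈ I^n`. -/
theorem smul_cls {n : ℕ} (f : ↥(I ^ n) →ₗ[R] M) (a : ↥(I ^ n)) :
    (a : R) • cls I M n f = toDT I M (f a) := by
  rw [toDT_eq' I M _ n, ← map_smul]
  congr 1
  apply LinearMap.ext
  intro b
  simp only [LinearMap.smul_apply, LinearMap.comp_apply, Submodule.subtype_apply,
    LinearMap.toSpanSingleton_apply]
  rw [← map_smul, ← map_smul]
  congr 1
  apply Subtype.ext
  simp [mul_comm]

variable {M} in
theorem map_toDT {N : Type u} [AddCommGroup N] [Module R N] (φ : M →ₗ[R] N) (m : M) :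
    ((idealTransform I).map (ModuleCat.ofHom φ)).hom (toDT I M m) = toDT I N (φ m) := by
  rw [toDT_eq, toDT_eq, map_cls]
  congr 1
  apply LinearMap.ext
  intro b
  simp

/-! ### module-theoretic lemmas -/

variable {I M}

/-- a finitely generated submodule of the torsion submodule is killed by a power of `I`. -/
theorem exists_pow_kills_of_fg (N : Submodule R M) (hN : N.FG) (hle : N ≤ DRing.torsionSub I M) :
    ∃ s : ℕ, ∀ b ∈ I ^ s, ∀ x ∈ N, b • x = 0 := by
  revert hle
  refine Submodule.fg_induction (motive := fun N _ => N ≤ DRing.torsionSub I M →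
    ∃ s : ℕ, ∀ b ∈ I ^ s, ∀ x ∈ N, b • x = 0) ?_ ?_ N hN
  · intro x hx
    obtain ⟨s, hs⟩ := hx (Submodule.mem_span_singleton_self x)
    refine ⟨s, fun b hb y hy => ?_⟩
    obtain ⟨r, rfl⟩ := Submodule.mem_span_singleton.mp hy
    rw [smul_comm, hs b hb, smul_zero]
  · intro N₁ N₂ _ _ h₁ h₂ hle
    obtain ⟨s₁, hs₁⟩ := h₁ (le_sup_left.trans hle)
    obtain ⟨s₂, hs₂⟩ := h₂ (le_sup_right.trans hle)
    refine ⟨s₁ + s₂, fun b hb y hy => ?_⟩
    obtain ⟨y₁, hy₁, y₂, hy₂, rfl⟩ := Submodule.mem_sup.mp hy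
    rw [smul_add, hs₁ b (Ideal.pow_le_pow_right (Nat.le_add_right _ _) hb) y₁ hy₁,
      hs₂ b (Ideal.pow_le_pow_right (Nat.le_add_left _ _) hb) y₂ hy₂, add_zero]

/-- elements of `I^(s+n)` as `I^s`-combinations, in dependent form. -/
theorem pow_add_induction {s n : ℕ} {P : ∀ x : R, x ∈ I ^ n → Prop}
    (hmul : ∀ (b : R) (_ : b ∈ I ^ s) (c : R) (hc : c ∈ I ^ n), P (b * c) (Ideal.mul_mem_left _ b hc))
    (hadd : ∀ x y hx hy, P x hx → P y hy → P (x + y) (Ideal.add_mem _ hx hy))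
    (x : R) (hx : x ∈ I ^ (s + n)) (hx' : x ∈ I ^ n) : P x hx' := by
  rw [pow_add] at hx
  have : ∃ h : x ∈ I ^ n, P x h := by
    refine Submodule.mul_induction_on hx ?_ ?_
    · intro b hb c hc
      exact ⟨_, hmul b hb c hc⟩
    · rintro x y ⟨hx, px⟩ ⟨hy, py⟩
      exact ⟨_, hadd x y hx hy px py⟩
  exact this.2

variable (I) in
/-- a map `I^n → M` with torsion values vanishes on a higher power. -/
theorem exists_restrict_eq_zero [IsNoetherianRing R] {n : ℕ} (f : ↥(I ^ n) →ₗ[R] M)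
    (hf : ∀ x, f x ∈ DRing.torsionSub I M) : ∃ (k : ℕ) (h : n ≤ k), f ∘ₗ incl I h = 0 := by
  have hfg : (LinearMap.range f).FG := by
    rw [LinearMap.range_eq_map]
    exact Submodule.FG.map f (Module.Finite.fg_top)
  obtain ⟨s, hs⟩ := exists_pow_kills_of_fg (I := I) (LinearMap.range f) hfg (by
    rintro _ ⟨x, rfl⟩
    exact hf x)
  refine ⟨s + n, Nat.le_add_left _ _, ?_⟩
  apply LinearMap.ext
  intro x
  rw [LinearMap.comp_apply, LinearMap.zero_apply]
  have key : ∀ (y : R) (hy : y ∈ I ^ (s + n)) (hy' : y ∈ I ^ n), f ⟨y, hy'⟩ = 0 := by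
    intro y hy hy'
    refine pow_add_induction (I := I) (s := s) (n := n) (P := fun y hy' => f ⟨y, hy'⟩ = 0)
      ?_ ?_ y hy hy'
    · intro b hb c hc
      have : (⟨b * c, Ideal.mul_mem_left _ b hc⟩ : ↥(I ^ n)) = b • ⟨c, hc⟩ := rfl
      rw [this, map_smul]
      exact hs b hb _ ⟨_, rfl⟩
    · intro x y hx hy px py
      have : (⟨x + y, Ideal.add_mem _ hx hy⟩ : ↥(I ^ n)) = ⟨x, hx⟩ + ⟨y, hy⟩ := rfl
      rw [this, map_add, px, py, add_zero]
  exact key x.1 x.2 _

/-- `D_I(M)` has no `I`-power torsion. -/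
theorem torsionSub_DT_eq_bot [IsNoetherianRing R] (I : Ideal R) (M : Type u) [AddCommGroup M]
    [Module R M] : DRing.torsionSub I (DT I M) = ⊥ := by
  rw [eq_bot_iff]
  rintro x ⟨s, hs⟩
  rw [Submodule.mem_bot]
  obtain ⟨n, f, rfl⟩ := exists_rep I M x
  -- wlog s ≤ n: restrict f to I^(s+n) and use elements of I^(s+n) ⊆ I^s
  rw [← cls_restrict I M (Nat.le_add_left n s)]
  set g := f ∘ₗ incl I (Nat.le_add_left n s) with hg
  have hker : ∀ y : ↥(I ^ (s + n)), g y ∈ DRing.torsionSub I M := by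
    intro y
    have h1 : (y : R) • cls I M n f = 0 := hs _ (Ideal.pow_le_pow_right (Nat.le_add_right s n) y.2)
    rw [← cls_restrict I M (Nat.le_add_left n s), smul_cls] at h1
    rw [toDT_eq, cls_eq_zero_iff] at h1
    obtain ⟨k, _, hk⟩ := h1
    refine ⟨k, fun a ha => ?_⟩
    have := LinearMap.congr_fun hk ⟨a, ha⟩
    simpa [hg] using this
  obtain ⟨k, hk, hk0⟩ := exists_restrict_eq_zero I g hker
  rw [cls_eq_zero_iff]
  exact ⟨k, hk, hk0⟩

/-- Artin–Rees core: if `I^s` kills `F(K)` then `F` vanishes on `K ⊓ I^m V` for `m` large. -/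
theorem exists_pow_smul_top_inf_le_ker {A : Type u} [CommRing A] [IsNoetherianRing A] (I : Ideal A)
    {V : Type u} [AddCommGroup V] [Module A V] [Module.Finite A V]
    {M : Type u} [AddCommGroup M] [Module A M] (K : Submodule A V) (F : V →ₗ[A] M) (s : ℕ)
    (hs : ∀ c ∈ K, ∀ b ∈ I ^ s, b • F c = 0) :
    ∃ m : ℕ, ∀ c ∈ I ^ m • (⊤ : Submodule A V), c ∈ K → F c = 0 := by
  obtain ⟨c₀, hc₀⟩ := Ideal.exists_pow_inf_eq_pow_smul I K
  refine ⟨s + c₀, fun c hc hcK => ?_⟩
  have h1 : c ∈ I ^ (s + c₀) • (⊤ : Submodule A V) ⊓ K := ⟨hc, hcK⟩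
  rw [hc₀ (s + c₀) (Nat.le_add_left _ _), Nat.add_sub_cancel] at h1
  refine Submodule.smul_induction_on h1 ?_ ?_
  · intro b hb k hk
    rw [map_smul]
    exact hs k hk.2 b hb
  · intro x y hx hy
    rw [map_add, hx, hy, add_zero]

/-- descent of a linear map along `p` restricted to a submodule. -/
theorem exists_descend {A : Type u} [CommRing A] {V W M : Type u} [AddCommGroup V] [Module A V]
    [AddCommGroup W] [Module A W] [AddCommGroup M] [Module A M] (p : V →ₗ[A] W) (F : V →ₗ[A] M)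
    (N : Submodule A V) (h : ∀ c ∈ N, p c = 0 → F c = 0) :
    ∃ f : ↥(N.map p) →ₗ[A] M, ∀ c (hc : c ∈ N), f ⟨p c, Submodule.mem_map_of_mem hc⟩ = F c := by
  classical
  have hch : ∀ y : ↥(N.map p), ∃ c, c ∈ N ∧ p c = y := fun y => (Submodule.mem_map.mp y.2)
  choose σ hσN hσp using hch
  have key : ∀ (y : ↥(N.map p)) (c : V), c ∈ N → p c = y → F (σ y) = F c := by
    intro y c hc hpc
    have : F (σ y - c) = 0 := h _ (N.sub_mem (hσN y) hc) (by rw [map_sub, hσp, hpc, sub_self])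
    rw [map_sub, sub_eq_zero] at this
    exact this
  refine ⟨{ toFun := fun y => F (σ y), map_add' := ?_, map_smul' := ?_ }, ?_⟩
  · intro y y'
    rw [← map_add]
    exact key _ _ (N.add_mem (hσN y) (hσN y')) (by rw [map_add, hσp, hσp]; rfl)
  · intro a y
    rw [RingHom.id_apply, ← map_smul]
    exact key _ _ (N.smul_mem a (hσN y)) (by rw [map_smul, hσp]; rfl)
  · intro c hc
    exact key _ c hc rfl

/-- elements of `I^(m+n)` lie in `I^m • ⊤` inside `I^n`. -/
theorem incl_mem_smul_top (I : Ideal R) (m n : ℕ) (x : ↥(I ^ (m + n))) :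
    incl I (Nat.le_add_left n m) x ∈ I ^ m • (⊤ : Submodule R ↥(I ^ n)) := by
  have key : ∀ (y : R) (hy : y ∈ I ^ (m + n)) (hy' : y ∈ I ^ n),
      (⟨y, hy'⟩ : ↥(I ^ n)) ∈ I ^ m • (⊤ : Submodule R ↥(I ^ n)) := by
    intro y hy hy'
    refine pow_add_induction (I := I) (s := m) (n := n)
      (P := fun y hy' => (⟨y, hy'⟩ : ↥(I ^ n)) ∈ I ^ m • (⊤ : Submodule R ↥(I ^ n))) ?_ ?_ y hy hy'
    · intro b hb c hc
      have : (⟨b * c, Ideal.mul_mem_left _ b hc⟩ : ↥(I ^ n)) = b • ⟨c, hc⟩ := rfl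
      rw [this]
      exact Submodule.smul_mem_smul hb trivial
    · intro x y hx hy px py
      have : (⟨x + y, Ideal.add_mem _ hx hy⟩ : ↥(I ^ n)) = ⟨x, hx⟩ + ⟨y, hy⟩ := rfl
      rw [this]
      exact Submodule.add_mem _ px py
  exact key x.1 x.2 _

/-- lifting lemma: maps `I^n → M''` with values in the image of `q` (torsion kernel) lift to `M`
after restriction to a higher power of `I`. -/
theorem exists_lift [IsNoetherianRing R] (I : Ideal R) {M M'' : Type u} [AddCommGroup M] [Module R M]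
    [AddCommGroup M''] [Module R M''] (q : M →ₗ[R] M'')
    (hq : LinearMap.ker q ≤ DRing.torsionSub I M) {n : ℕ} (g : ↥(I ^ n) →ₗ[R] M'')
    (hg : ∀ x, g x ∈ LinearMap.range q) :
    ∃ (k : ℕ) (h : n ≤ k) (f : ↥(I ^ k) →ₗ[R] M), q ∘ₗ f = g ∘ₗ incl I h := by
  obtain ⟨r, a, ha⟩ := Module.Finite.exists_fin (R := R) (M := ↥(I ^ n))
  choose μ hμ using fun j => hg (a j)
  let pI : (Fin r → R) →ₗ[R] ↥(I ^ n) := Fintype.linearCombination R a
  let F : (Fin r → R) →ₗ[R] M := Fintype.linearCombination R μ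
  have hqF : ∀ c, q (F c) = g (pI c) := by
    intro c
    simp only [F, pI, Fintype.linearCombination_apply, map_sum, map_smul, hμ]
  have hsurj : LinearMap.range pI = ⊤ := by
    rw [Fintype.range_linearCombination, ha]
  have hKfg : (LinearMap.ker pI).FG := IsNoetherian.noetherian _
  obtain ⟨s, hs⟩ := exists_pow_kills_of_fg (I := I) ((LinearMap.ker pI).map F) (hKfg.map F) (by
    rintro _ ⟨c, hc, rfl⟩
    apply hq
    rw [LinearMap.mem_ker, hqF, LinearMap.mem_ker.mp hc, map_zero])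
  obtain ⟨m, hm⟩ := exists_pow_smul_top_inf_le_ker I (LinearMap.ker pI) F s
    (fun c hc b hb => hs b hb _ ⟨c, hc, rfl⟩)
  obtain ⟨f₀, hf₀⟩ := exists_descend pI F (I ^ m • (⊤ : Submodule R (Fin r → R)))
    (fun c hc hpc => hm c hc hpc)
  have hmap : (I ^ m • (⊤ : Submodule R (Fin r → R))).map pI = I ^ m • (⊤ : Submodule R ↥(I ^ n)) := by
    rw [Submodule.map_smul'', Submodule.map_top, hsurj]
  let j : ↥(I ^ (m + n)) →ₗ[R] ↥((I ^ m • (⊤ : Submodule R (Fin r → R))).map pI) :=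
    LinearMap.codRestrict _ (incl I (Nat.le_add_left n m)) (fun x => by
      rw [hmap]
      exact incl_mem_smul_top I m n x)
  refine ⟨m + n, Nat.le_add_left n m, f₀ ∘ₗ j, ?_⟩
  apply LinearMap.ext
  intro x
  obtain ⟨c, hc, hc2⟩ := Submodule.mem_map.mp (j x).2
  have hjx : j x = ⟨pI c, Submodule.mem_map_of_mem hc⟩ := Subtype.ext hc2.symm
  rw [LinearMap.comp_apply, LinearMap.comp_apply, LinearMap.comp_apply, hjx, hf₀ c hc, hqF, hc2]
  rfl

/-- the kernel of `η_M` is the `I`-power torsion. -/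
theorem ker_toDT (I : Ideal R) (M : Type u) [AddCommGroup M] [Module R M] :
    LinearMap.ker (toDT I M) = DRing.torsionSub I M := by
  ext m
  rw [LinearMap.mem_ker, toDT_eq, cls_eq_zero_iff]
  constructor
  · rintro ⟨k, _, hk⟩
    refine ⟨k, fun a ha => ?_⟩
    have := LinearMap.congr_fun hk ⟨a, ha⟩
    simpa using this
  · rintro ⟨k, hk⟩
    refine ⟨k, Nat.zero_le k, ?_⟩
    apply LinearMap.ext
    intro a
    have := hk a.1 a.2
    simpa using this

/-- `D_I(e)` is bijective when `e` has torsion kernel and cokernel. -/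
theorem map_bijective_of_torsion [IsNoetherianRing R] (I : Ideal R) {M M' : Type u}
    [AddCommGroup M] [Module R M] [AddCommGroup M'] [Module R M'] (e : M →ₗ[R] M')
    (hker : LinearMap.ker e ≤ DRing.torsionSub I M)
    (hcoker : IsPowerTorsion I (M' ⧸ LinearMap.range e)) :
    Function.Bijective ((idealTransform I).map (ModuleCat.ofHom e)).hom := by
  constructor
  · rw [injective_iff_map_eq_zero]
    intro x hx
    obtain ⟨n, f, rfl⟩ := exists_rep I M x
    rw [map_cls, cls_eq_zero_iff] at hx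
    obtain ⟨k, hk, hk0⟩ := hx
    obtain ⟨k', hk', hk0'⟩ := exists_restrict_eq_zero I (f ∘ₗ incl I hk) (fun y => by
      apply hker
      rw [LinearMap.mem_ker]
      exact LinearMap.congr_fun hk0 y)
    rw [← cls_restrict I M hk, ← cls_restrict I M hk', hk0', map_zero]
  · intro y
    obtain ⟨n, g, rfl⟩ := exists_rep I M' y
    obtain ⟨k, hk, hk0⟩ := exists_restrict_eq_zero I ((LinearMap.range e).mkQ ∘ₗ g)
      (fun y => hcoker _)
    have hg' : ∀ y, (g ∘ₗ incl I hk) y ∈ LinearMap.range e := by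
      intro y
      have := LinearMap.congr_fun hk0 y
      rw [LinearMap.comp_apply, LinearMap.comp_apply, LinearMap.zero_apply, Submodule.mkQ_apply,
        Submodule.Quotient.mk_eq_zero] at this
      exact this
    obtain ⟨k', hk', f, hf⟩ := exists_lift I e hker (g ∘ₗ incl I hk) hg'
    refine ⟨cls I M k' f, ?_⟩
    rw [map_cls, hf, cls_restrict, cls_restrict]

theorem isPowerTorsion_coker_toDT (I : Ideal R) (M : Type u) [AddCommGroup M] [Module R M] :
    IsPowerTorsion I (DT I M ⧸ LinearMap.range (toDT I M)) := by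
  intro y
  obtain ⟨x, rfl⟩ := Submodule.Quotient.mk_surjective _ y
  obtain ⟨n, f, rfl⟩ := exists_rep I M x
  refine ⟨n, fun a ha => ?_⟩
  rw [← Submodule.Quotient.mk_smul, Submodule.Quotient.mk_eq_zero]
  have := smul_cls I M f ⟨a, ha⟩
  rw [this]
  exact ⟨_, rfl⟩

theorem map_toDT_bijective [IsNoetherianRing R] (I : Ideal R) (M : Type u) [AddCommGroup M]
    [Module R M] :
    Function.Bijective ((idealTransform I).map (ModuleCat.ofHom (toDT I M))).hom :=
  map_bijective_of_torsion I (toDT I M) (le_of_eq (ker_toDT I M)) (isPowerTorsion_coker_toDT I M)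

theorem map_toDT_apply (I : Ideal R) (M : Type u) [AddCommGroup M] [Module R M] (x : DT I M) :
    ((idealTransform I).map (ModuleCat.ofHom (toDT I M))).hom x = toDT I (DT I M) x := by
  obtain ⟨n, f, rfl⟩ := exists_rep I M x
  rw [map_cls, toDT_eq' I (DT I M) _ n]
  congr 1
  apply LinearMap.ext
  intro a
  rw [LinearMap.comp_apply, LinearMap.comp_apply, Submodule.subtype_apply,
    LinearMap.toSpanSingleton_apply, smul_cls]

theorem toDT_DT_bijective [IsNoetherianRing R] (I : Ideal R) (M : Type u) [AddCommGroup M]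
    [Module R M] : Function.Bijective (toDT I (DT I M)) := by
  have h := map_toDT_bijective I M
  have : ⇑(toDT I (DT I M)) = ⇑((idealTransform I).map (ModuleCat.ofHom (toDT I M))).hom := by
    funext x
    rw [map_toDT_apply]
  rw [this]
  exact h

end Groth.Agent.Lib.Helper8.DT
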