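import Mathlib
import Groth.Agent.Lib.Helper8LCDepth
import Groth.Agent.Lib.Helper8DT
import Groth.Agent.S11591
import Groth.Agent.S11617

/-! # Depth ≥ 2 from vanishing of `H^0_p`, `H^1_p` (helper14) -/

set_option autoImplicit false
set_option linter.unusedVariables false
set_option linter.unusedSectionVars false
set_option linter.style.haveILetI false
set_option maxHeartbeats 400000

universe u

open CategoryTheory CategoryTheory.Limits Opposite

namespace Groth.Agent.Lib.Helper14.S2

open Groth.Agent.Lib.Helper8.LC Groth.Agent.Lib.Helper28 LocCoh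

variable {A : Type u} [CommRing A] [IsNoetherianRing A]

/-- no `I`-power torsion ⟹ `H^0_I = 0` -/
theorem subsingleton_H_zero (I : Ideal A) (N : Type u) [AddCommGroup N] [Module A N]
    (h0 : DRing.torsionSub I N = ⊥) : Subsingleton (LocCoh.H I 0 N) := by
  refine ⟨fun x y => ?_⟩
  apply Φ_injective I (ModuleCat.of A N)
  have hx := Φ_mem_torsionSub I (ModuleCat.of A N) x
  have hy := Φ_mem_torsionSub I (ModuleCat.of A N) y
  rw [h0, Submodule.mem_bot] at hx hy
  exact hx.trans hy.symm

/-- every hom `I^k → N` is multiplication by an element ⟹ `H^1_I = 0` -/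
theorem subsingleton_H_one (I : Ideal A) (N : Type u) [AddCommGroup N] [Module A N]
    (h1 : ∀ (k : ℕ) (f : ↥(I ^ k) →ₗ[A] N), ∃ n : N, ∀ y : ↥(I ^ k), f y = (y : A) • n) :
    Subsingleton (LocCoh.H I 1 N) := by
  obtain ⟨e⟩ := Groth.Agent.S11591.result A I N
  have hsurj : LinearMap.range (LocCoh.toDT I N) = ⊤ := by
    rw [LinearMap.range_eq_top]
    intro x
    obtain ⟨k, f, rfl⟩ := Groth.Agent.Lib.Helper8.DT.exists_rep I N x
    obtain ⟨n, hn⟩ := h1 k f
    refine ⟨n, ?_⟩
    rw [Groth.Agent.Lib.Helper8.DT.toDT_eq' I N n k]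
    congr 1
    apply LinearMap.ext
    intro y
    rw [hn y]
    rfl
  haveI : Subsingleton (LocCoh.DT I N ⧸ LinearMap.range (LocCoh.toDT I N)) := by
    rw [hsurj]
    exact Submodule.Quotient.subsingleton_iff.mpr rfl
  exact e.symm.toEquiv.subsingleton

/-- depth criterion -/
theorem two_le_depth_of_subsingleton (I : Ideal A) [I.IsPrime] (N : Type u) [AddCommGroup N]
    [Module A N] [Module.Finite A N] (hH0 : Subsingleton (LocCoh.H I 0 N))
    (hH1 : Subsingleton (LocCoh.H I 1 N)) :
    2 ≤ LocCoh.depth (Localization.AtPrime I) (LocalizedModule I.primeCompl N) := by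
  let R' := Localization.AtPrime I
  let N' := TensorProduct A R' N
  let I' : Ideal R' := Ideal.map (algebraMap A R') I
  have hI' : I' = IsLocalRing.maximalIdeal R' := Localization.AtPrime.map_eq_maximalIdeal
  -- vanishing over R'
  have hv : ∀ i : ℕ, i < 2 → Subsingleton (LocCoh.H I' i N') := by
    intro i hi
    obtain ⟨e⟩ := Groth.Agent.S11617.result A R' I N i
    have : Subsingleton (LocCoh.H I i N) := by
      interval_cases i
      · exact hH0
      · exact hH1
    haveI : Subsingleton (TensorProduct A R' (LocCoh.H I i N)) := by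
      refine ⟨fun x y => ?_⟩
      have h0 : ∀ z : TensorProduct A R' (LocCoh.H I i N), z = 0 := by
        intro z
        induction z using TensorProduct.induction_on with
        | zero => rfl
        | tmul r h => rw [Subsingleton.elim h 0, TensorProduct.tmul_zero]
        | add a b ha hb => rw [ha, hb, add_zero]
      rw [h0 x, h0 y]
    exact e.symm.toEquiv.subsingleton
  -- depth of N'
  have hd : 2 ≤ LocCoh.idealDepth I' N' := by
    by_cases hIM : I' • (⊤ : Submodule R' N') = ⊤
    · rw [idealDepth_eq_top_of_smul_top_eq_top I' N' hIM]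
      exact le_top
    · have hne := idealDepth_ne_top (I := I') (M := N') hIM
      obtain ⟨n, hn⟩ := ENat.ne_top_iff_exists.mp hne
      obtain ⟨y, hy⟩ := H_ne_zero_of_depth_eq I' n N' hIM hn.symm
      rw [← hn]
      by_contra hlt
      have hlt' : n < 2 := by
        by_contra h2
        apply hlt
        exact_mod_cast (not_lt.mp h2)
      haveI := hv n hlt'
      exact hy (Subsingleton.elim _ _)
  -- transfer
  have hbc : IsBaseChange R' (LocalizedModule.mkLinearMap I.primeCompl N) :=
    IsLocalizedModule.isBaseChange I.primeCompl R' _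
  have e : N' ≃ₗ[R'] LocalizedModule I.primeCompl N := hbc.equiv
  unfold LocCoh.depth
  rw [← hI', ← idealDepth_congr e I']
  exact hd

end Groth.Agent.Lib.Helper14.S2
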