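import Mathlib
import Groth.Agent.Lib.Helper14S2A
import Groth.Agent.Lib.Helper14S2B
import Groth.Agent.Lib.Helper14S2C
import Groth.Agent.Lib.Helper14FaltK
import Groth.Agent.Lib.Helper28DepthMore

/-! # S2-ification along a specialization-stable subset (helper14) -/

set_option autoImplicit false
set_option linter.unusedVariables false
set_option linter.unusedSectionVars false
set_option linter.style.haveILetI false
set_option maxHeartbeats 400000

universe u

open CategoryTheory
attribute [local instance] HasDerivedCategory.standard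

namespace Groth.Agent.Lib.Helper14.S2

open Groth.Agent.Lib.Helper14.HDT Groth.Agent.Lib.Helper28 LocCoh

variable {A : Type u} [CommRing A]

theorem one_le_krullDim_Icc (p q : PrimeSpectrum A) (h : p < q) :
    (1 : WithBot ℕ∞) ≤ Order.krullDim (Set.Icc p q) := by
  let a : Set.Icc p q := ⟨p, le_rfl, h.le⟩
  let b : Set.Icc p q := ⟨q, h.le, le_rfl⟩
  have hab : a < b := h
  let s : LTSeries (Set.Icc p q) := (RelSeries.singleton _ a).snoc b hab
  have h1 := Order.LTSeries.length_le_krullDim s
  have hl : s.length = 1 := rfl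
  rw [hl] at h1
  exact_mod_cast h1

theorem two_le_krullDim_Icc (p r q : PrimeSpectrum A) (h1 : p < r) (h2 : r < q) :
    (2 : WithBot ℕ∞) ≤ Order.krullDim (Set.Icc p q) := by
  let a : Set.Icc p q := ⟨p, le_rfl, (h1.trans h2).le⟩
  let c : Set.Icc p q := ⟨r, h1.le, h2.le⟩
  let b : Set.Icc p q := ⟨q, (h1.trans h2).le, le_rfl⟩
  have hac : a < c := h1
  have hcb : c < b := h2
  let s₁ : LTSeries (Set.Icc p q) := (RelSeries.singleton _ a).snoc c hac
  have hlast : s₁.last = c := RelSeries.last_snoc _ _ _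
  let s : LTSeries (Set.Icc p q) := s₁.snoc b (by rw [hlast]; exact hcb)
  have h3 := Order.LTSeries.length_le_krullDim s
  have hl : s.length = 2 := rfl
  rw [hl] at h3
  exact_mod_cast h3

theorem zeroLocus_pow_subset (I : Ideal A) (k : ℕ) :
    PrimeSpectrum.zeroLocus ((I ^ k : Ideal A) : Set A) ⊆ PrimeSpectrum.zeroLocus (I : Set A) := by
  rcases Nat.eq_zero_or_pos k with rfl | hk
  · rw [pow_zero, Ideal.one_eq_top]
    intro x hx
    exact absurd (show ((⊤ : Ideal A) : Set A) ⊆ x.asIdeal from hx)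
      (fun h => x.isPrime.ne_top (top_le_iff.mp h))
  · rw [PrimeSpectrum.zeroLocus_pow I hk.ne']

theorem zeroLocus_subset_of_mem {T : Set (PrimeSpectrum A)} (hT : StableUnderSpecialization T)
    (p : PrimeSpectrum A) (hp : p ∈ T) : PrimeSpectrum.zeroLocus (p.asIdeal : Set A) ⊆ T := by
  intro y hy
  have hpy : p ≤ y := hy
  exact hT ((PrimeSpectrum.le_iff_specializes _ _).mp hpy) hp

/-- localization of the quotient by the `T`-torsion at a prime outside `T` -/
theorem mkQ_loc_bijective (T : Set (PrimeSpectrum A)) (M : Type u) [AddCommGroup M] [Module A M]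
    (p : PrimeSpectrum A) (hp : p ∉ T) :
    Function.Bijective (LocalizedModule.map p.asIdeal.primeCompl (torsT T M).mkQ) := by
  constructor
  · rw [injective_iff_map_eq_zero]
    intro z hz
    induction z using LocalizedModule.induction_on with
    | h m s =>
      rw [LocalizedModule.map_mk, ← LocalizedModule.zero_mk s, LocalizedModule.mk_eq] at hz
      obtain ⟨t, ht⟩ := hz
      have h1 : (t.1 * s.1) • m ∈ torsT T M := by
        rw [← Submodule.Quotient.mk_eq_zero, Submodule.Quotient.mk_smul, mul_smul]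
        rw [smul_zero, smul_zero] at ht
        exact ht
      obtain ⟨J', hJ', hkill⟩ := h1
      obtain ⟨y, hyJ', hyp⟩ := exists_mem_notMem T hJ' p hp
      rw [← LocalizedModule.zero_mk s, LocalizedModule.mk_eq]
      refine ⟨⟨y * t.1, p.asIdeal.primeCompl.mul_mem hyp t.2⟩, ?_⟩
      change (y * t.1) • s.1 • m = (y * t.1) • s.1 • (0 : M)
      rw [smul_zero, smul_zero, smul_smul]
      have := hkill y hyJ'
      rw [smul_smul] at this
      rw [← this]
      congr 1
      ring
  · exact LocalizedModule.map_surjective _ _ (Submodule.mkQ_surjective _)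

theorem depth_quot_eq [IsNoetherianRing A] (T : Set (PrimeSpectrum A)) (M : Type u)
    [AddCommGroup M] [Module A M] (p : PrimeSpectrum A) (hp : p ∉ T) :
    LocCoh.depth (Localization.AtPrime p.asIdeal)
      (LocalizedModule p.asIdeal.primeCompl (M ⧸ torsT T M)) =
    LocCoh.depth (Localization.AtPrime p.asIdeal) (LocalizedModule p.asIdeal.primeCompl M) := by
  let g := LocalizedModule.map p.asIdeal.primeCompl (torsT T M).mkQ
  have hg : Function.Bijective g := mkQ_loc_bijective T M p hp
  exact (idealDepth_congr (LinearEquiv.ofBijective g hg) _).symm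

/-- **S2-ification along `T'`**. -/
theorem main [IsNoetherianRing A] (hA : ∃ ω : Dual.D A, Dual.IsDualizing A ω)
    (T' : Set (PrimeSpectrum A)) (hT : StableUnderSpecialization T') (M : Type u)
    [AddCommGroup M] [Module A M] [Module.Finite A M]
    (hM : ∀ p q : PrimeSpectrum A, p ⋖ q → q ∈ T' → p ∉ T' →
      1 ≤ LocCoh.depth (Localization.AtPrime p.asIdeal) (LocalizedModule p.asIdeal.primeCompl M)) :
    ∃ (M'' : Type u) (_ : AddCommGroup M'') (_ : Module A M'') (_ : Module.Finite A M'')
      (f : M →ₗ[A] M''),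
      (∀ p : PrimeSpectrum A, p ∉ T' →
        Function.Bijective (LocalizedModule.map p.asIdeal.primeCompl f)) ∧
      ∀ p : PrimeSpectrum A, p ∈ T' → 2 ≤ LocCoh.depth (Localization.AtPrime p.asIdeal)
        (LocalizedModule p.asIdeal.primeCompl M'') := by
  haveI : IsNoetherian A M := isNoetherian_of_isNoetherianRing_of_finite A M
  have hTF : TF T' (M ⧸ torsT T' M) := TF_quot T' M
  -- the pair condition
  have hpair : ∀ p q : PrimeSpectrum A, p ∉ T' → q ∈ T' → p ≤ q →
      ((1 : ℕ) : WithBot ℕ∞) < ((LocCoh.depth (Localization.AtPrime p.asIdeal)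
        (LocalizedModule p.asIdeal.primeCompl (M ⧸ torsT T' M)) : ℕ∞) : WithBot ℕ∞) +
        Order.krullDim (Set.Icc p q) := by
    intro p q hp hq hpq
    rw [depth_quot_eq T' M p hp]
    have hlt : p < q := lt_of_le_of_ne hpq (fun h => hp (h ▸ hq))
    by_cases hcov : p ⋖ q
    · have hd := hM p q hcov hq hp
      have hk := one_le_krullDim_Icc p q hlt
      have hd' : (1 : WithBot ℕ∞) ≤ ((LocCoh.depth (Localization.AtPrime p.asIdeal)
          (LocalizedModule p.asIdeal.primeCompl M) : ℕ∞) : WithBot ℕ∞) := by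
        exact_mod_cast hd
      calc ((1 : ℕ) : WithBot ℕ∞) < 1 + 1 := by decide
        _ ≤ _ := add_le_add hd' hk
    · obtain ⟨r, hpr, hrq⟩ : ∃ r, p < r ∧ r < q := by
        by_contra hne
        push Not at hne
        exact hcov ⟨hlt, fun r hpr hrq => hne r hpr hrq⟩
      have hk := two_le_krullDim_Icc p r q hpr hrq
      have hd' : (0 : WithBot ℕ∞) ≤ ((LocCoh.depth (Localization.AtPrime p.asIdeal)
          (LocalizedModule p.asIdeal.primeCompl M) : ℕ∞) : WithBot ℕ∞) := by
        exact_mod_cast (zero_le : (0 : ℕ∞) ≤ LocCoh.depth (Localization.AtPrime p.asIdeal)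
          (LocalizedModule p.asIdeal.primeCompl M))
      calc ((1 : ℕ) : WithBot ℕ∞) < 0 + 2 := by decide
        _ ≤ _ := add_le_add hd' hk
  obtain ⟨J, hJ, hkill⟩ :=
    (Groth.Agent.Lib.Helper14.Falt.faltings (M ⧸ torsT T' M) T' T' hT hT hA 1).mpr hpair
  have hK : KProp T' J (M ⧸ torsT T' M) :=
    KProp_of_ann T' (M ⧸ torsT T' M) hTF J (fun a ha x => hkill 1 le_rfl a ha x)
  refine ⟨J →ₗ[A] (M ⧸ torsT T' M), inferInstance, inferInstance, inferInstance,
    toHull T' M J, fun p hp => toHull_loc_bijective T' M J hJ p hp, fun p hp => ?_⟩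
  have hpT : PrimeSpectrum.zeroLocus (p.asIdeal : Set A) ⊆ T' := zeroLocus_subset_of_mem hT p hp
  have hpk : ∀ k : ℕ, PrimeSpectrum.zeroLocus ((p.asIdeal ^ k : Ideal A) : Set A) ⊆ T' :=
    fun k => (zeroLocus_pow_subset p.asIdeal k).trans hpT
  have hTF'' : TF T' (J →ₗ[A] (M ⧸ torsT T' M)) := hTF.hom J
  apply two_le_depth_of_subsingleton
  · apply subsingleton_H_zero
    rw [eq_bot_iff]
    rintro n ⟨k, hk⟩
    rw [Submodule.mem_bot]
    exact hTF'' _ (hpk k) n hk
  · apply subsingleton_H_one
    intro k f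
    obtain ⟨φ₀, hφ₀⟩ := hom_eq_smul hTF J hJ hK _ (hpk k) f
    exact ⟨φ₀, hφ₀⟩

end Groth.Agent.Lib.Helper14.S2
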