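/-
Helper library (helper14): the "Segre" subalgebra `C` of the tensor power `T^d_A(B)` of a graded
algebra `B` (generated by the pure tensors all of whose entries have the same degree), its prime
ideals (each gives `d` graded prime families of `B`), and the radical statements for
`D = C ⊓ TS^d_A(B)`.
-/
import Mathlib
import Groth.Prelude.Def_SymTen
import Groth.Agent.Lib.Helper14TSFinType
import Groth.Agent.Lib.Helper14GradedAvoid

set_option autoImplicit false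
set_option linter.unusedVariables false
set_option linter.unusedSectionVars false
set_option linter.style.haveILetI false
universe u
open TensorProduct

namespace Groth.Agent.Lib.Helper14.SegreRad

open Groth.Agent.Lib.Helper14.GradedAvoid

variable {A B : Type u} [CommRing A] [CommRing B] [Algebra A B]
  (𝒜 : ℕ → Submodule A B) [GradedAlgebra 𝒜] (d : ℕ)

/-- the generators of the Segre subalgebra -/
def gens : Set (⨂[A] _ : Fin d, B) :=
  {t | ∃ (k : ℕ) (b : Fin d → B), (∀ i, b i ∈ 𝒜 k) ∧ t = PiTensorProduct.tprod A b}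

/-- the Segre subalgebra -/
noncomputable def Cc : Subalgebra A (⨂[A] _ : Fin d, B) := Algebra.adjoin A (gens 𝒜 d)

variable {𝒜 d}

lemma tprod_mem_Cc {k : ℕ} {b : Fin d → B} (hb : ∀ i, b i ∈ 𝒜 k) :
    PiTensorProduct.tprod A b ∈ Cc 𝒜 d :=
  Algebra.subset_adjoin ⟨k, b, hb, rfl⟩

lemma update_mul_update (c₁ c₂ : Fin d → B) (i : Fin d) (u v : B) :
    Function.update c₁ i u * Function.update c₂ i v = Function.update (c₁ * c₂) i (u * v) := by
  funext l
  by_cases hl : l = i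
  · subst hl; simp
  · simp [Function.update_of_ne hl]

lemma tprod_update_mul (c₁ c₂ : Fin d → B) (i : Fin d) (u v : B) :
    PiTensorProduct.tprod A (Function.update c₁ i u) *
      PiTensorProduct.tprod A (Function.update c₂ i v) =
      PiTensorProduct.tprod A (Function.update (c₁ * c₂) i (u * v)) := by
  rw [PiTensorProduct.tprod_mul_tprod, update_mul_update]

section prime
variable (Q : Ideal (Cc 𝒜 d))

/-- membership in an ideal of the Segre subalgebra, for elements of the ambient tensor power -/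
def inQ (x : ⨂[A] _ : Fin d, B) : Prop := ∃ h : x ∈ Cc 𝒜 d, (⟨x, h⟩ : Cc 𝒜 d) ∈ Q

variable {Q}

lemma inQ_mem {x : ⨂[A] _ : Fin d, B} (h : inQ Q x) : x ∈ Cc 𝒜 d := h.1

lemma inQ_iff {x : ⨂[A] _ : Fin d, B} (hx : x ∈ Cc 𝒜 d) : inQ Q x ↔ (⟨x, hx⟩ : Cc 𝒜 d) ∈ Q :=
  ⟨fun ⟨_, h⟩ => h, fun h => ⟨hx, h⟩⟩

lemma inQ_zero : inQ Q (0 : ⨂[A] _ : Fin d, B) := ⟨zero_mem _, Q.zero_mem⟩

lemma inQ_add {x y : ⨂[A] _ : Fin d, B} (hx : inQ Q x) (hy : inQ Q y) : inQ Q (x + y) := by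
  obtain ⟨hx, hxQ⟩ := hx
  obtain ⟨hy, hyQ⟩ := hy
  exact ⟨add_mem hx hy, Q.add_mem hxQ hyQ⟩

lemma inQ_mul_left {c x : ⨂[A] _ : Fin d, B} (hc : c ∈ Cc 𝒜 d) (hx : inQ Q x) :
    inQ Q (c * x) := by
  obtain ⟨hx, hxQ⟩ := hx
  exact ⟨mul_mem hc hx, Q.mul_mem_left ⟨c, hc⟩ hxQ⟩

lemma inQ_mul_right {c x : ⨂[A] _ : Fin d, B} (hc : c ∈ Cc 𝒜 d) (hx : inQ Q x) :
    inQ Q (x * c) := by
  rw [mul_comm]; exact inQ_mul_left hc hx

lemma inQ_smul (a : A) {x : ⨂[A] _ : Fin d, B} (hx : inQ Q x) : inQ Q (a • x) := by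
  rw [Algebra.smul_def]
  exact inQ_mul_left (Subalgebra.algebraMap_mem _ a) hx

lemma inQ_neg {x : ⨂[A] _ : Fin d, B} (hx : inQ Q x) : inQ Q (-x) := by
  have := inQ_smul (-1 : A) hx
  simpa using this

lemma inQ_sum {ι : Type*} (s : Finset ι) (x : ι → ⨂[A] _ : Fin d, B)
    (h : ∀ i ∈ s, inQ Q (x i)) : inQ Q (∑ i ∈ s, x i) := by
  classical
  induction s using Finset.induction_on with
  | empty => simpa using inQ_zero
  | insert a s ha ih =>
    rw [Finset.sum_insert ha]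
    exact inQ_add (h a (Finset.mem_insert_self a s))
      (ih (fun i hi => h i (Finset.mem_insert_of_mem hi)))

variable [hQ : Q.IsPrime]

lemma inQ_prime {x y : ⨂[A] _ : Fin d, B} (hx : x ∈ Cc 𝒜 d) (hy : y ∈ Cc 𝒜 d)
    (h : inQ Q (x * y)) : inQ Q x ∨ inQ Q y := by
  obtain ⟨hxy, hQxy⟩ := h
  have : (⟨x, hx⟩ : Cc 𝒜 d) * ⟨y, hy⟩ ∈ Q := hQxy
  rcases hQ.mem_or_mem this with h1 | h1
  · exact Or.inl ⟨hx, h1⟩
  · exact Or.inr ⟨hy, h1⟩

lemma not_inQ_one : ¬ inQ Q (1 : ⨂[A] _ : Fin d, B) := by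
  rintro ⟨h1, hQ1⟩
  exact hQ.ne_top ((Ideal.eq_top_iff_one Q).mpr hQ1)

lemma not_inQ_prod {ι : Type*} (s : Finset ι) (x : ι → ⨂[A] _ : Fin d, B)
    (hx : ∀ i ∈ s, x i ∈ Cc 𝒜 d) (hn : ∀ i ∈ s, ¬ inQ Q (x i)) :
    ¬ inQ Q (∏ i ∈ s, x i) := by
  classical
  induction s using Finset.induction_on with
  | empty => simpa using not_inQ_one
  | insert a s ha ih =>
    rw [Finset.prod_insert ha]
    intro h
    rcases inQ_prime (hx a (Finset.mem_insert_self a s))
      (Subalgebra.prod_mem _ (fun i hi => hx i (Finset.mem_insert_of_mem hi))) h with h1 | h1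
    · exact hn a (Finset.mem_insert_self a s) h1
    · exact ih (fun i hi => hx i (Finset.mem_insert_of_mem hi))
        (fun i hi => hn i (Finset.mem_insert_of_mem hi)) h1

variable (Q)

/-- the graded prime family of `B` attached to the `i`-th factor and a prime of the Segre
subalgebra -/
def pFam (i : Fin d) : GPrime 𝒜 where
  H n :=
    { carrier := {β | β ∈ 𝒜 n ∧ ∀ (m : ℕ) (a : B) (c : Fin d → B), a ∈ 𝒜 m →
        (∀ l, c l ∈ 𝒜 (m + n)) → inQ Q (PiTensorProduct.tprod A (Function.update c i (a * β)))}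
      add_mem' := by
        rintro β β' ⟨hβ, hβ2⟩ ⟨hβ', hβ2'⟩
        refine ⟨add_mem hβ hβ', fun m a c ha hc => ?_⟩
        rw [mul_add, MultilinearMap.map_update_add]
        exact inQ_add (hβ2 m a c ha hc) (hβ2' m a c ha hc)
      zero_mem' := by
        refine ⟨zero_mem _, fun m a c ha hc => ?_⟩
        rw [mul_zero, MultilinearMap.map_update_zero]
        exact inQ_zero
      smul_mem' := by
        rintro r β ⟨hβ, hβ2⟩
        refine ⟨Submodule.smul_mem _ r hβ, fun m a c ha hc => ?_⟩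
        rw [mul_smul_comm, MultilinearMap.map_update_smul]
        exact inQ_smul r (hβ2 m a c ha hc) }
  le n := fun β hβ => hβ.1
  ideal := by
    rintro m' n a' β ha' ⟨hβ, hβ2⟩
    refine ⟨SetLike.mul_mem_graded ha' hβ, fun m a c ha hc => ?_⟩
    rw [← mul_assoc]
    refine hβ2 (m + m') (a * a') c (SetLike.mul_mem_graded ha ha') (fun l => ?_)
    rw [add_assoc]; exact hc l
  prime := by
    intro m n x y hx hy hxn hyn hxy
    have hx' : ∃ (m₁ : ℕ) (a₁ : B) (c₁ : Fin d → B), a₁ ∈ 𝒜 m₁ ∧ (∀ l, c₁ l ∈ 𝒜 (m₁ + m)) ∧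
        ¬ inQ Q (PiTensorProduct.tprod A (Function.update c₁ i (a₁ * x))) := by
      by_contra hcon
      push Not at hcon
      exact hxn ⟨hx, fun m₁ a₁ c₁ h1 h2 => hcon m₁ a₁ c₁ h1 h2⟩
    have hy' : ∃ (m₂ : ℕ) (a₂ : B) (c₂ : Fin d → B), a₂ ∈ 𝒜 m₂ ∧ (∀ l, c₂ l ∈ 𝒜 (m₂ + n)) ∧
        ¬ inQ Q (PiTensorProduct.tprod A (Function.update c₂ i (a₂ * y))) := by
      by_contra hcon
      push Not at hcon
      exact hyn ⟨hy, fun m₁ a₁ c₁ h1 h2 => hcon m₁ a₁ c₁ h1 h2⟩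
    obtain ⟨m₁, a₁, c₁, ha₁, hc₁, hn₁⟩ := hx'
    obtain ⟨m₂, a₂, c₂, ha₂, hc₂, hn₂⟩ := hy'
    have h3 := hxy.2 (m₁ + m₂) (a₁ * a₂) (c₁ * c₂) (SetLike.mul_mem_graded ha₁ ha₂) (fun l => by
      have := SetLike.mul_mem_graded (hc₁ l) (hc₂ l)
      have e : m₁ + m + (m₂ + n) = m₁ + m₂ + (m + n) := by omega
      rw [e] at this
      exact this)
    have e2 : a₁ * a₂ * (x * y) = (a₁ * x) * (a₂ * y) := by ring
    rw [e2, ← tprod_update_mul] at h3
    have hmem₁ : PiTensorProduct.tprod A (Function.update c₁ i (a₁ * x)) ∈ Cc 𝒜 d := by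
      refine tprod_mem_Cc (k := m₁ + m) (fun l => ?_)
      by_cases hl : l = i
      · subst hl; simpa using SetLike.mul_mem_graded ha₁ hx
      · simpa [Function.update_of_ne hl] using hc₁ l
    have hmem₂ : PiTensorProduct.tprod A (Function.update c₂ i (a₂ * y)) ∈ Cc 𝒜 d := by
      refine tprod_mem_Cc (k := m₂ + n) (fun l => ?_)
      by_cases hl : l = i
      · subst hl; simpa using SetLike.mul_mem_graded ha₂ hy
      · simpa [Function.update_of_ne hl] using hc₂ l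
    rcases inQ_prime hmem₁ hmem₂ h3 with h4 | h4
    · exact hn₁ h4
    · exact hn₂ h4

variable {Q}

/-- a pure tensor outside `Q` gives elements outside the prime families -/
lemma not_mem_pFam_of_tprod {k : ℕ} {b : Fin d → B} (hb : ∀ i, b i ∈ 𝒜 k)
    (hn : ¬ inQ Q (PiTensorProduct.tprod A b)) (i : Fin d) : b i ∉ (pFam Q i).H k := by
  rintro ⟨-, h2⟩
  have := h2 0 1 b (SetLike.one_mem_graded 𝒜) (fun l => by rw [zero_add]; exact hb l)
  rw [one_mul, Function.update_eq_self] at this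
  exact hn this

/-- an element outside all the prime families has its diagonal tensor outside `Q` -/
theorem tpow_not_inQ {n : ℕ} {f : B} (hf : f ∈ 𝒜 n) (hfn : ∀ i, f ∉ (pFam Q i).H n) :
    ¬ inQ Q (PiTensorProduct.tprod A (fun _ : Fin d => f)) := by
  classical
  have hw : ∀ i : Fin d, ∃ (m : ℕ) (a : B) (c : Fin d → B), a ∈ 𝒜 m ∧ (∀ l, c l ∈ 𝒜 (m + n)) ∧
      ¬ inQ Q (PiTensorProduct.tprod A (Function.update c i (a * f))) := by
    intro i
    by_contra hcon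
    push Not at hcon
    exact hfn i ⟨hf, fun m a c h1 h2 => hcon m a c h1 h2⟩
  choose m a c ha hc hnot using hw
  intro hin
  -- the product of the witnesses
  have hxmem : ∀ i ∈ (Finset.univ : Finset (Fin d)),
      PiTensorProduct.tprod A (Function.update (c i) i (a i * f)) ∈ Cc 𝒜 d := by
    intro i _
    refine tprod_mem_Cc (k := m i + n) (fun l => ?_)
    by_cases hl : l = i
    · subst hl; simpa using SetLike.mul_mem_graded (ha l) hf
    · simpa [Function.update_of_ne hl] using hc i l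
  have hprod := not_inQ_prod (Q := Q) Finset.univ
    (fun i => PiTensorProduct.tprod A (Function.update (c i) i (a i * f))) hxmem
    (fun i _ => hnot i)
  apply hprod
  rw [← PiTensorProduct.tprod_prod]
  -- the other factor
  let g : Fin d → B := fun l => a l * ∏ i ∈ Finset.univ.erase l, c i l
  have hfg : (∏ i : Fin d, Function.update (c i) i (a i * f)) = (fun _ : Fin d => f) * g := by
    funext l
    rw [Finset.prod_apply, Pi.mul_apply]
    rw [← Finset.mul_prod_erase Finset.univ _ (Finset.mem_univ l)]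
    rw [Function.update_self]
    have : ∏ i ∈ Finset.univ.erase l, Function.update (c i) i (a i * f) l =
        ∏ i ∈ Finset.univ.erase l, c i l := by
      refine Finset.prod_congr rfl (fun i hi => ?_)
      rw [Function.update_of_ne (Finset.ne_of_mem_erase hi).symm]
    rw [this]
    simp only [g]
    ring
  rw [hfg, ← PiTensorProduct.tprod_mul_tprod]
  refine inQ_mul_right ?_ hin
  -- `tprod g ∈ Cc`
  set total : ℕ := ∑ i : Fin d, (m i + n) with htotal
  refine tprod_mem_Cc (k := total - n) (fun l => ?_)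
  have h1 : ∏ i ∈ Finset.univ.erase l, c i l ∈ 𝒜 (∑ i ∈ Finset.univ.erase l, (m i + n)) :=
    SetLike.prod_mem_graded 𝒜 (fun i => m i + n) (fun i => c i l) (fun i _ => hc i l)
  have h2 := SetLike.mul_mem_graded (ha l) h1
  have e : m l + ∑ i ∈ Finset.univ.erase l, (m i + n) = total - n := by
    have := Finset.add_sum_erase Finset.univ (fun i : Fin d => m i + n) (Finset.mem_univ l)
    omega
  rw [e] at h2
  exact h2

end prime

section lyingOver
open Groth.Agent.Lib.Helper14.NormDesc (perm_perm)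
open Groth.Agent.Lib.Helper14.TSFinType (perm_one)

variable (𝒜 d)

/-- the symmetric part of the Segre subalgebra -/
noncomputable def Dd : Subalgebra A (⨂[A] _ : Fin d, B) := Cc 𝒜 d ⊓ SymTen.TS A B d

variable {𝒜 d}

lemma perm_gens (σ : Equiv.Perm (Fin d)) : SymTen.perm A B d σ '' gens 𝒜 d ⊆ gens 𝒜 d := by
  rintro _ ⟨t, ⟨k, b, hb, rfl⟩, rfl⟩
  exact ⟨k, fun i => b (σ.symm i), fun i => hb _, SymTen.perm_tprod A B d σ b⟩

lemma perm_mem_Cc (σ : Equiv.Perm (Fin d)) {x : ⨂[A] _ : Fin d, B} (hx : x ∈ Cc 𝒜 d) :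
    SymTen.perm A B d σ x ∈ Cc 𝒜 d := by
  have h1 : (Cc 𝒜 d).map (SymTen.perm A B d σ) ≤ Cc 𝒜 d := by
    unfold Cc
    rw [AlgHom.map_adjoin]
    exact Algebra.adjoin_mono (perm_gens σ)
  exact h1 ⟨x, hx, rfl⟩

/-- the permutation action on the Segre subalgebra -/
@[instance_reducible]
noncomputable def actC : MulSemiringAction (Equiv.Perm (Fin d)) (Cc 𝒜 d) where
  smul σ x := ⟨SymTen.perm A B d σ x.1, perm_mem_Cc σ x.2⟩
  one_smul x := Subtype.ext (perm_one A B d x.1)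
  mul_smul σ ρ x := Subtype.ext (perm_perm d σ ρ x.1).symm
  smul_zero σ := Subtype.ext (map_zero _)
  smul_add σ x y := Subtype.ext (map_add _ _ _)
  smul_one σ := Subtype.ext (map_one _)
  smul_mul σ x y := Subtype.ext (map_mul _ _ _)

/-- the algebra structure of the Segre subalgebra over its symmetric part -/
@[instance_reducible]
noncomputable def algDC : Algebra (Dd 𝒜 d) (Cc 𝒜 d) :=
  (Subalgebra.inclusion (inf_le_left : Dd 𝒜 d ≤ Cc 𝒜 d)).toRingHom.toAlgebra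

attribute [local instance] actC algDC

lemma algebraMap_DC_apply (x : Dd 𝒜 d) :
    ((algebraMap (Dd 𝒜 d) (Cc 𝒜 d) x : Cc 𝒜 d) : ⨂[A] _ : Fin d, B) = x.1 := rfl

instance isInvariant_DC :
    Algebra.IsInvariant (Dd 𝒜 d) (Cc 𝒜 d) (Equiv.Perm (Fin d)) where
  isInvariant c hc := by
    have hTS : c.1 ∈ SymTen.TS A B d := by
      intro σ
      rw [← SymTen.perm_apply]
      exact congrArg Subtype.val (hc σ)
    exact ⟨⟨c.1, ⟨c.2, hTS⟩⟩, Subtype.ext rfl⟩

theorem isIntegral_DC : Algebra.IsIntegral (Dd 𝒜 d) (Cc 𝒜 d) :=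
  Algebra.IsInvariant.isIntegral (Dd 𝒜 d) (Cc 𝒜 d) (Equiv.Perm (Fin d))

/-- lying over for the symmetric part of the Segre subalgebra -/
theorem exists_prime_over (P : Ideal (Dd 𝒜 d)) [P.IsPrime] :
    ∃ Q : Ideal (Cc 𝒜 d), Q.IsPrime ∧ ∀ x : Dd 𝒜 d, x ∈ P ↔ inQ Q x.1 := by
  haveI := isIntegral_DC (𝒜 := 𝒜) (d := d)
  have hinj : Function.Injective (algebraMap (Dd 𝒜 d) (Cc 𝒜 d)) :=
    Subalgebra.inclusion_injective _
  obtain ⟨Q, -, hQ, hQP⟩ := Ideal.exists_ideal_over_prime_of_isIntegral P (⊥ : Ideal (Cc 𝒜 d))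
    (by rw [Ideal.comap_bot_of_injective _ hinj]; exact bot_le)
  refine ⟨Q, hQ, fun x => ?_⟩
  rw [← hQP, Ideal.mem_comap]
  constructor
  · intro h
    exact ⟨x.2.1, h⟩
  · rintro ⟨h1, h2⟩
    exact h2

/-- the main radical criterion -/
theorem radical_main (S : Set (Dd 𝒜 d))
    (hS : ∀ Q : Ideal (Cc 𝒜 d), Q.IsPrime → (∀ x ∈ S, inQ Q (x : Dd 𝒜 d).1) →
      ∀ k : ℕ, 0 < k → ∀ b : Fin d → B, (∀ i, b i ∈ 𝒜 k) → inQ Q (PiTensorProduct.tprod A b))
    {k : ℕ} (hk : 0 < k) {t : ⨂[A] _ : Fin d, B} (htD : t ∈ Dd 𝒜 d)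
    (htk : t ∈ Submodule.span A
      {s | ∃ b : Fin d → B, (∀ i, b i ∈ 𝒜 k) ∧ s = PiTensorProduct.tprod A b}) :
    ∃ m : ℕ, 0 < m ∧ (⟨t, htD⟩ : Dd 𝒜 d) ^ m ∈ Ideal.span S := by
  have hrad : (⟨t, htD⟩ : Dd 𝒜 d) ∈ (Ideal.span S).radical := by
    rw [Ideal.radical_eq_sInf, Ideal.mem_sInf]
    rintro P ⟨hSP, hP⟩
    obtain ⟨Q, hQ, hQP⟩ := exists_prime_over P
    rw [hQP]
    have hall := hS Q hQ (fun x hx => (hQP x).mp (hSP (Ideal.subset_span hx))) k hk
    show inQ Q t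
    refine Submodule.span_induction (p := fun x _ => inQ Q x) ?_ inQ_zero
      (fun x y _ _ hx hy => inQ_add hx hy) (fun a x _ hx => inQ_smul a hx) htk
    rintro x ⟨b, hb, rfl⟩
    exact hall b hb
  obtain ⟨n, hn⟩ := Ideal.mem_radical_iff.mp hrad
  exact ⟨n + 1, Nat.succ_pos n, by rw [pow_succ]; exact Ideal.mul_mem_right _ _ hn⟩

end lyingOver

section S13391

/-- the statement of S13391 for `Dd` -/
theorem main_tpow {k : ℕ} (hk : 0 < k) {t : ⨂[A] _ : Fin d, B} (htD : t ∈ Dd 𝒜 d)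
    (htk : t ∈ Submodule.span A
      {s | ∃ b : Fin d → B, (∀ i, b i ∈ 𝒜 k) ∧ s = PiTensorProduct.tprod A b}) :
    ∃ m : ℕ, 0 < m ∧ (⟨t, htD⟩ : Dd 𝒜 d) ^ m ∈
      Ideal.span {x : Dd 𝒜 d | ∃ (n : ℕ) (f : B), 0 < n ∧ f ∈ 𝒜 n ∧
        (x : ⨂[A] _ : Fin d, B) = PiTensorProduct.tprod A (fun _ : Fin d => f)} := by
  classical
  refine radical_main _ ?_ hk htD htk
  intro Q hQ hSQ k hk b hb
  by_contra hcon
  have h1 : ∀ i ∈ (Finset.univ : Finset (Fin d)),
      ∃ k : ℕ, 0 < k ∧ ∃ β ∈ 𝒜 k, β ∉ (pFam Q i).H k :=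
    fun i _ => ⟨k, hk, b i, hb i, not_mem_pFam_of_tprod hb hcon i⟩
  obtain ⟨n, hn, f, hf, hfn⟩ := avoid 𝒜 (fun i => pFam Q i) Finset.univ h1
  have h2 := tpow_not_inQ (Q := Q) hf (fun i => hfn i (Finset.mem_univ i))
  apply h2
  have hmemD : PiTensorProduct.tprod A (fun _ : Fin d => f) ∈ Dd 𝒜 d :=
    ⟨tprod_mem_Cc (fun _ => hf), (SymTen.tpow A B d f).2⟩
  exact hSQ ⟨_, hmemD⟩ ⟨n, f, hn, hf, rfl⟩

end S13391

end Groth.Agent.Lib.Helper14.SegreRad
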