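/-
Helper library (helper14): degree-one avoidance for the Segre subalgebra (S13392):
generation in degree one, saturation of the prime families, avoidance of `d` saturated
submodules when the residue field has at least `d` elements.
-/
import Mathlib
import Groth.Prelude.Def_SymTen
import Groth.Agent.Lib.Helper14SegreRad

set_option autoImplicit false
set_option linter.unusedVariables false
set_option linter.unusedSectionVars false
set_option linter.style.haveILetI false
universe u
open TensorProduct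

namespace Groth.Agent.Lib.Helper14.SegreRad

open Groth.Agent.Lib.Helper14.GradedAvoid

variable {A B : Type u} [CommRing A] [CommRing B] [Algebra A B]
  {𝒜 : ℕ → Submodule A B} [GradedAlgebra 𝒜] {d : ℕ}

section generation

lemma graded_mul_le (i j : ℕ) : 𝒜 i * 𝒜 j ≤ 𝒜 (i + j) := by
  rw [Submodule.mul_le]
  intro a ha b hb
  exact SetLike.mul_mem_graded ha hb

/-- a graded algebra generated in degree one: `𝒜 (k+1) = 𝒜 k * 𝒜 1` -/
theorem deg_succ_le (hgen : Algebra.adjoin A (𝒜 1 : Set B) = ⊤) (k : ℕ) :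
    𝒜 (k + 1) ≤ 𝒜 k * 𝒜 1 := by
  have key : ∀ x : B, ∀ k : ℕ,
      ((DirectSum.decompose 𝒜 x (k + 1) : 𝒜 (k + 1)) : B) ∈ 𝒜 k * 𝒜 1 := by
    intro x
    have hx : x ∈ Algebra.adjoin A (𝒜 1 : Set B) := by rw [hgen]; trivial
    induction hx using Algebra.adjoin_induction with
    | mem x hx =>
      intro k
      by_cases hk : k = 0
      · subst hk
        have h1 : ((DirectSum.decompose 𝒜 x (0 + 1) : 𝒜 (0 + 1)) : B) = x :=
          DirectSum.decompose_of_mem_same 𝒜 hx
        rw [h1]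
        have := Submodule.mul_mem_mul (SetLike.one_mem_graded 𝒜) hx
        rwa [one_mul] at this
      · rw [DirectSum.decompose_of_mem_ne 𝒜 hx (by omega)]
        exact zero_mem _
    | algebraMap a =>
      intro k
      rw [DirectSum.decompose_of_mem_ne 𝒜 (SetLike.algebraMap_mem_graded 𝒜 a)
        (by omega : (0 : ℕ) ≠ k + 1)]
      exact zero_mem _
    | add x y _ _ hx hy =>
      intro k
      rw [DirectSum.decompose_add, DirectSum.add_apply, Submodule.coe_add]
      exact add_mem (hx k) (hy k)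
    | mul x y _ _ hx hy =>
      intro k
      rw [DirectSum.decompose_mul, DirectSum.coe_mul_apply_eq_sum_antidiagonal]
      refine Submodule.sum_mem _ (fun ij hij => ?_)
      have hij' := Finset.HasAntidiagonal.mem_antidiagonal.mp hij
      obtain ⟨i, j⟩ := ij
      simp only at hij' ⊢
      rcases j with _ | j'
      · -- `j = 0`, `i = k + 1`
        have h1 : i = k + 1 := by omega
        subst h1
        have hXY := Submodule.mul_mem_mul (hx k) (DirectSum.decompose 𝒜 y 0).2
        rw [mul_right_comm] at hXY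
        exact mul_le_mul' (graded_mul_le k 0) (le_refl _) hXY
      · -- `j = j' + 1`, `i + j' = k`
        have h1 : i + j' = k := by omega
        subst h1
        have hXY := Submodule.mul_mem_mul (DirectSum.decompose 𝒜 x i).2 (hy j')
        rw [← mul_assoc] at hXY
        exact mul_le_mul' (graded_mul_le i j') (le_refl _) hXY
  intro x hx
  have := key x k
  rwa [DirectSum.decompose_of_mem_same 𝒜 hx] at this

end generation

section degOne

/-- if `𝒜 1 ≤ H 1` then `𝒜 (k+1) ≤ H (k+1)` -/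
lemma le_of_deg_one (P : GPrime 𝒜) (hgen : Algebra.adjoin A (𝒜 1 : Set B) = ⊤)
    (h1 : 𝒜 1 ≤ P.H 1) : ∀ k : ℕ, 𝒜 (k + 1) ≤ P.H (k + 1) := by
  intro k
  induction k with
  | zero => simpa using h1
  | succ k ih =>
    refine (deg_succ_le hgen (k + 1)).trans ?_
    rw [Submodule.mul_le]
    intro a ha β hβ
    exact P.ideal ha (h1 hβ)

lemma exists_deg_one (P : GPrime 𝒜) (hgen : Algebra.adjoin A (𝒜 1 : Set B) = ⊤)
    {k : ℕ} (hk : 0 < k) {b : B} (hb : b ∈ 𝒜 k) (hbn : b ∉ P.H k) :
    ∃ β ∈ 𝒜 1, β ∉ P.H 1 := by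
  by_contra hcon
  push Not at hcon
  obtain ⟨k', rfl⟩ : ∃ k', k = k' + 1 := ⟨k - 1, by omega⟩
  exact hbn (le_of_deg_one P hgen hcon k' hb)

end degOne

section saturation
variable {Q : Ideal (Cc 𝒜 d)} [hQ : Q.IsPrime]

lemma sat (i : Fin d) {a : A} (ha : algebraMap A (Cc 𝒜 d) a ∉ Q) {n : ℕ} {β : B}
    (hβ : β ∈ 𝒜 n) (h : a • β ∈ (pFam Q i).H n) : β ∈ (pFam Q i).H n := by
  refine ⟨hβ, fun m a' c ha' hc => ?_⟩
  have h1 := h.2 m a' c ha' hc
  rw [mul_smul_comm, MultilinearMap.map_update_smul, Algebra.smul_def] at h1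
  have hX : PiTensorProduct.tprod A (Function.update c i (a' * β)) ∈ Cc 𝒜 d := by
    refine tprod_mem_Cc (k := m + n) (fun l => ?_)
    by_cases hl : l = i
    · subst hl; simpa using SetLike.mul_mem_graded ha' hβ
    · simpa [Function.update_of_ne hl] using hc l
  rcases inQ_prime (Subalgebra.algebraMap_mem _ a) hX h1 with h2 | h2
  · exfalso
    obtain ⟨h3, h4⟩ := h2
    exact ha h4
  · exact h2

end saturation

section avoidSat

/-- avoidance of `d` saturated proper submodules, given `d` representatives pairwise distinct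
modulo the "non-units" -/
theorem avoid_sat {M : Submodule A B} (W : Fin d → Submodule A B) (U : Set A)
    (hsat : ∀ i, ∀ a ∈ U, ∀ β ∈ M, a • β ∈ W i → β ∈ W i)
    (reps : Fin d → A) (hreps : ∀ j j', j ≠ j' → reps j - reps j' ∈ U)
    (hprop : ∀ i, ∃ u ∈ M, u ∉ W i) : ∃ f ∈ M, ∀ i, f ∉ W i := by
  classical
  suffices h : ∀ s : Finset (Fin d), ∃ f ∈ M, ∀ i ∈ s, f ∉ W i by
    obtain ⟨f, hf, hfn⟩ := h Finset.univ
    exact ⟨f, hf, fun i => hfn i (Finset.mem_univ i)⟩
  intro s
  induction s using Finset.induction_on with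
  | empty => exact ⟨0, zero_mem _, by simp⟩
  | insert i₀ s hi₀ ih =>
    obtain ⟨v, hvM, hv⟩ := ih
    by_cases hv0 : v ∈ W i₀
    · obtain ⟨u, huM, hu⟩ := hprop i₀
      by_contra hcon
      push Not at hcon
      have hφ : ∀ j : Fin d, ∃ i ∈ s, u + reps j • v ∈ W i := by
        intro j
        obtain ⟨i, hi, hmem⟩ := hcon (u + reps j • v)
          (add_mem huM (Submodule.smul_mem _ _ hvM))
        rcases Finset.mem_insert.mp hi with rfl | his
        · exfalso
          apply hu
          have := Submodule.sub_mem _ hmem (Submodule.smul_mem _ (reps j) hv0)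
          simpa using this
        · exact ⟨i, his, hmem⟩
      choose φ hφs hφW using hφ
      have hcard : s.card < (Finset.univ : Finset (Fin d)).card := by
        have h1 : (insert i₀ s).card ≤ (Finset.univ : Finset (Fin d)).card :=
          Finset.card_le_card (Finset.subset_univ _)
        rw [Finset.card_insert_of_notMem hi₀] at h1
        omega
      obtain ⟨j, -, j', -, hne, heq⟩ := Finset.exists_ne_map_eq_of_card_lt_of_maps_to hcard
        (f := φ) (fun j _ => hφs j)
      have h1 := hφW j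
      have h2 := hφW j'
      rw [heq] at h1
      have h3 := Submodule.sub_mem _ h1 h2
      have e : u + reps j • v - (u + reps j' • v) = (reps j - reps j') • v := by
        rw [sub_smul]; abel
      rw [e] at h3
      exact hv (φ j') (hφs j') (hsat _ _ (hreps j j' hne) v hvM h3)
    · refine ⟨v, hvM, fun i hi => ?_⟩
      rcases Finset.mem_insert.mp hi with rfl | his
      · exact hv0
      · exact hv i his

end avoidSat

section reps

lemma exists_reps (𝔮 : Ideal A) [𝔮.IsPrime] (d : ℕ)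
    (h : (d : Cardinal.{u}) ≤ Cardinal.mk 𝔮.ResidueField) :
    ∃ reps : Fin d → A, ∀ j j', j ≠ j' → reps j - reps j' ∉ 𝔮 := by
  have h' : (d : Cardinal.{u}) ≤ Cardinal.mk (A ⧸ 𝔮) := by
    rcases finite_or_infinite (A ⧸ 𝔮) with hfin | hinf
    · have hfield : IsField (A ⧸ 𝔮) := Finite.isField_of_domain (A ⧸ 𝔮)
      haveI : 𝔮.IsMaximal := Ideal.Quotient.maximal_of_isField 𝔮 hfield
      have hb := Ideal.bijective_algebraMap_quotient_residueField 𝔮
      rw [Cardinal.mk_congr (Equiv.ofBijective _ hb)]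
      exact h
    · exact (Cardinal.natCast_lt_aleph0 (n := d)).le.trans (Cardinal.aleph0_le_mk (A ⧸ 𝔮))
  have hemb : Nonempty (Fin d ↪ A ⧸ 𝔮) := by
    rw [← Cardinal.lift_mk_le']
    simpa using h'
  obtain ⟨g⟩ := hemb
  refine ⟨fun j => (Ideal.Quotient.mk_surjective (g j)).choose, fun j j' hne hmem => ?_⟩
  apply hne
  apply g.injective
  have h1 := (Ideal.Quotient.mk_surjective (g j)).choose_spec
  have h2 := (Ideal.Quotient.mk_surjective (g j')).choose_spec
  rw [← h1, ← h2]
  exact (Ideal.Quotient.eq).mpr hmem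

end reps

section S13392

/-- the statement of S13392 for `Dd` -/
theorem main_deg_one (hgen : Algebra.adjoin A (𝒜 1 : Set B) = ⊤)
    (hres : ∀ p : PrimeSpectrum A, (d : Cardinal) ≤ Cardinal.mk p.asIdeal.ResidueField)
    {k : ℕ} (hk : 0 < k) {t : ⨂[A] _ : Fin d, B} (htD : t ∈ Dd 𝒜 d)
    (htk : t ∈ Submodule.span A
      {s | ∃ b : Fin d → B, (∀ i, b i ∈ 𝒜 k) ∧ s = PiTensorProduct.tprod A b}) :
    ∃ m : ℕ, 0 < m ∧ (⟨t, htD⟩ : Dd 𝒜 d) ^ m ∈
      Ideal.span {x : Dd 𝒜 d | ∃ f : B, f ∈ 𝒜 1 ∧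
        (x : ⨂[A] _ : Fin d, B) = PiTensorProduct.tprod A (fun _ : Fin d => f)} := by
  classical
  refine radical_main _ ?_ hk htD htk
  intro Q hQ hSQ k hk b hb
  by_contra hcon
  -- the prime of `A`
  set 𝔮 : Ideal A := Q.comap (algebraMap A (Cc 𝒜 d)) with h𝔮
  haveI : 𝔮.IsPrime := Ideal.comap_isPrime _ Q
  obtain ⟨reps, hreps⟩ := exists_reps 𝔮 d (hres ⟨𝔮, inferInstance⟩)
  have hprop : ∀ i : Fin d, ∃ u ∈ 𝒜 1, u ∉ (pFam Q i).H 1 := fun i =>
    exists_deg_one (pFam Q i) hgen hk (hb i) (not_mem_pFam_of_tprod hb hcon i)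
  obtain ⟨f, hf, hfn⟩ := avoid_sat (M := 𝒜 1) (fun i => (pFam Q i).H 1) {a | a ∉ 𝔮}
    (fun i a ha β hβ h => sat i (fun hmem => ha hmem) hβ h) reps hreps hprop
  have h2 := tpow_not_inQ (Q := Q) hf hfn
  apply h2
  have hmemD : PiTensorProduct.tprod A (fun _ : Fin d => f) ∈ Dd 𝒜 d :=
    ⟨tprod_mem_Cc (fun _ => hf), (SymTen.tpow A B d f).2⟩
  exact hSQ ⟨_, hmemD⟩ ⟨f, hf, rfl⟩

end S13392

end Groth.Agent.Lib.Helper14.SegreRad
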