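/-
Helper library (helper14): the polynomial trick for the Segre subalgebra (S13390): the symmetric
part of degree one generates an ideal whose radical contains all positive degrees.
-/
import Mathlib
import Groth.Prelude.Def_SymTen
import Groth.Agent.Lib.Helper14SegreRad2
import Groth.Agent.Lib.Helper14TSFree

set_option autoImplicit false
set_option linter.unusedVariables false
set_option linter.unusedSectionVars false
set_option linter.style.haveILetI false
universe u
open TensorProduct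

namespace Groth.Agent.Lib.Helper14.SegreRad

open Groth.Agent.Lib.Helper14.GradedAvoid
open Groth.Agent.Lib.Helper14.TSFree (type type_comp_perm prod_X_eq_monomial)

variable {A B : Type u} [CommRing A] [CommRing B] [Algebra A B]
  {𝒜 : ℕ → Submodule A B} [GradedAlgebra 𝒜] {d : ℕ}

section comput

/-- the product of the "witness tensors" -/
lemma prod_tprod_update (c : Fin d → Fin d → B) (a : Fin d → B) (y : Fin d → B) :
    ∏ i : Fin d, PiTensorProduct.tprod A (Function.update (c i) i (a i * y i)) =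
      PiTensorProduct.tprod A y *
        PiTensorProduct.tprod A (fun l => a l * ∏ i ∈ Finset.univ.erase l, c i l) := by
  classical
  rw [← PiTensorProduct.tprod_prod, PiTensorProduct.tprod_mul_tprod]
  congr 1
  funext l
  rw [Finset.prod_apply, Pi.mul_apply]
  rw [← Finset.mul_prod_erase Finset.univ _ (Finset.mem_univ l)]
  rw [Function.update_self]
  have : ∏ i ∈ Finset.univ.erase l, Function.update (c i) i (a i * y i) l =
      ∏ i ∈ Finset.univ.erase l, c i l := by
    refine Finset.prod_congr rfl (fun i hi => ?_)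
    rw [Function.update_of_ne (Finset.ne_of_mem_erase hi).symm]
  rw [this]
  ring

lemma tprod_g_mem {n : ℕ} (m : Fin d → ℕ) (c : Fin d → Fin d → B) (a : Fin d → B)
    (ha : ∀ i, a i ∈ 𝒜 (m i)) (hc : ∀ i l, c i l ∈ 𝒜 (m i + n)) :
    PiTensorProduct.tprod A (fun l => a l * ∏ i ∈ Finset.univ.erase l, c i l) ∈ Cc 𝒜 d := by
  classical
  set total : ℕ := ∑ i : Fin d, (m i + n) with htotal
  refine tprod_mem_Cc (k := total - n) (fun l => ?_)
  have h1 : ∏ i ∈ Finset.univ.erase l, c i l ∈ 𝒜 (∑ i ∈ Finset.univ.erase l, (m i + n)) :=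
    SetLike.prod_mem_graded 𝒜 (fun i => m i + n) (fun i => c i l) (fun i _ => hc i l)
  have h2 := SetLike.mul_mem_graded (ha l) h1
  have e : m l + ∑ i ∈ Finset.univ.erase l, (m i + n) = total - n := by
    have := Finset.add_sum_erase Finset.univ (fun i : Fin d => m i + n) (Finset.mem_univ l)
    omega
  rw [e] at h2
  exact h2

end comput

section symm

/-- the orbit sums of pure tensors in a finite family -/
noncomputable def orbSum {N : ℕ} (φ : Fin N → B) (μ : Fin N →₀ ℕ) : ⨂[A] _ : Fin d, B :=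
  ∑ c ∈ (Finset.univ : Finset (Fin d → Fin N)).filter (fun c => type c = μ),
    PiTensorProduct.tprod A (fun i => φ (c i))

lemma orbSum_mem_TS {N : ℕ} (φ : Fin N → B) (μ : Fin N →₀ ℕ) :
    orbSum (A := A) (d := d) φ μ ∈ SymTen.TS A B d := by
  classical
  intro σ
  rw [← SymTen.perm_apply]
  unfold orbSum
  rw [map_sum]
  simp only [SymTen.perm_tprod]
  refine Finset.sum_equiv (Equiv.arrowCongr σ (Equiv.refl _)) ?_ ?_
  · intro c
    simp only [Finset.mem_filter, Finset.mem_univ, true_and]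
    have : (Equiv.arrowCongr σ (Equiv.refl (Fin N))) c = c ∘ σ.symm := by
      funext i; simp [Equiv.arrowCongr]
    rw [this, type_comp_perm]
  · intro c _
    congr 1

lemma orbSum_mem_span {N : ℕ} (φ : Fin N → B) (hφ : ∀ j, φ j ∈ 𝒜 1) (μ : Fin N →₀ ℕ) :
    orbSum (A := A) (d := d) φ μ ∈ Submodule.span A
      {s | ∃ b : Fin d → B, (∀ i, b i ∈ 𝒜 1) ∧ s = PiTensorProduct.tprod A b} := by
  unfold orbSum
  refine Submodule.sum_mem _ (fun c _ => Submodule.subset_span ⟨_, fun i => hφ (c i), rfl⟩)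

lemma orbSum_mem_Cc {N : ℕ} (φ : Fin N → B) (hφ : ∀ j, φ j ∈ 𝒜 1) (μ : Fin N →₀ ℕ) :
    orbSum (A := A) (d := d) φ μ ∈ Cc 𝒜 d := by
  unfold orbSum
  exact Subalgebra.sum_mem _ (fun c _ => tprod_mem_Cc (fun i => hφ (c i)))

end symm

section polyTrick

/-- the polynomial trick, abstractly -/
theorem poly_trick {C' K : Type*} [CommRing C'] [CommRing K] [IsDomain K] (ρ : C' →+* K)
    {N : ℕ} (F : Fin d → Fin N → C') (G : C') (P : (Fin d → Fin N) → C')
    (hFP : ∀ c' : Fin d → Fin N, ∏ i, F i (c' i) = P c' * G)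
    (hP : ∀ μ : Fin N →₀ ℕ,
      ρ (∑ c' ∈ (Finset.univ : Finset (Fin d → Fin N)).filter (fun c' => type c' = μ), P c') = 0) :
    ∃ i, ∀ j, ρ (F i j) = 0 := by
  classical
  by_contra hcon
  push Not at hcon
  choose jj hjj using hcon
  let Φ : Fin d → MvPolynomial (Fin N) K := fun i =>
    ∑ j, MvPolynomial.C (ρ (F i j)) * MvPolynomial.X j
  have hΦ : ∀ i, Φ i ≠ 0 := by
    intro i h0
    have h1 := congrArg (MvPolynomial.coeff (Finsupp.single (jj i) 1)) h0
    simp only [Φ, MvPolynomial.coeff_sum, MvPolynomial.coeff_C_mul, MvPolynomial.coeff_X,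
      MvPolynomial.coeff_zero] at h1
    rw [Finset.sum_eq_single (jj i)] at h1
    · rw [if_pos rfl, mul_one] at h1
      exact hjj i h1
    · intro j _ hne
      rw [if_neg, mul_zero]
      intro h
      exact hne (Finsupp.single_left_injective one_ne_zero h)
    · intro h; exact absurd (Finset.mem_univ _) h
  have hprod : ∏ i, Φ i ≠ 0 := Finset.prod_ne_zero_iff.mpr (fun i _ => hΦ i)
  apply hprod
  simp only [Φ]
  rw [Finset.prod_univ_sum, Fintype.piFinset_univ]
  have key : ∀ c' : Fin d → Fin N,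
      ∏ i, (MvPolynomial.C (ρ (F i (c' i))) *
        (MvPolynomial.X (c' i) : MvPolynomial (Fin N) K)) =
      MvPolynomial.C (ρ G) * MvPolynomial.monomial (type c') (ρ (P c')) := by
    intro c'
    rw [Finset.prod_mul_distrib, prod_X_eq_monomial, ← map_prod, ← map_prod,
      MvPolynomial.C_mul_monomial, MvPolynomial.C_mul_monomial, mul_one, ← map_mul, hFP c',
      mul_comm]
  rw [Finset.sum_congr rfl (fun c' _ => key c'), ← Finset.mul_sum]
  have hΨ : ∑ c' : Fin d → Fin N, MvPolynomial.monomial (type c') (ρ (P c')) =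
      (0 : MvPolynomial (Fin N) K) := by
    ext μ
    rw [MvPolynomial.coeff_sum, MvPolynomial.coeff_zero]
    simp only [MvPolynomial.coeff_monomial]
    rw [← Finset.sum_filter, ← map_sum]
    exact hP μ
  rw [hΨ, mul_zero]

end polyTrick

section S13390

/-- the statement of S13390 for `Dd` -/
theorem main_symm (hgen : Algebra.adjoin A (𝒜 1 : Set B) = ⊤) (hfg : (𝒜 1).FG)
    {k : ℕ} (hk : 0 < k) {t : ⨂[A] _ : Fin d, B} (htD : t ∈ Dd 𝒜 d)
    (htk : t ∈ Submodule.span A
      {s | ∃ b : Fin d → B, (∀ i, b i ∈ 𝒜 k) ∧ s = PiTensorProduct.tprod A b}) :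
    ∃ m : ℕ, 0 < m ∧ (⟨t, htD⟩ : Dd 𝒜 d) ^ m ∈
      Ideal.span {x : Dd 𝒜 d | (x : ⨂[A] _ : Fin d, B) ∈ Submodule.span A
        {s | ∃ b : Fin d → B, (∀ i, b i ∈ 𝒜 1) ∧ s = PiTensorProduct.tprod A b}} := by
  classical
  refine radical_main _ ?_ hk htD htk
  intro Q hQ hSQ k hk b hb
  by_contra hcon
  obtain ⟨N, φ, hφ⟩ := Submodule.fg_iff_exists_fin_generating_family.mp hfg
  have hφmem : ∀ j, φ j ∈ 𝒜 1 := fun j => by
    rw [← hφ]; exact Submodule.subset_span ⟨j, rfl⟩
  have hj : ∀ i : Fin d, ∃ j, φ j ∉ (pFam Q i).H 1 := by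
    intro i
    by_contra hc
    push Not at hc
    obtain ⟨β, hβ, hβn⟩ := exists_deg_one (pFam Q i) hgen hk (hb i)
      (not_mem_pFam_of_tprod hb hcon i)
    apply hβn
    rw [← hφ] at hβ
    exact (Submodule.span_le.mpr (by rintro _ ⟨j, rfl⟩; exact hc j)) hβ
  choose jj hjj using hj
  have hw : ∀ i : Fin d, ∃ (m : ℕ) (a : B) (c : Fin d → B), a ∈ 𝒜 m ∧
      (∀ l, c l ∈ 𝒜 (m + 1)) ∧
      ¬ inQ Q (PiTensorProduct.tprod A (Function.update c i (a * φ (jj i)))) := by
    intro i
    by_contra hc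
    push Not at hc
    exact hjj i ⟨hφmem _, fun m a c h1 h2 => hc m a c h1 h2⟩
  choose m a c ha hc hnot using hw
  -- all orbit sums are in `Q`
  have horb : ∀ μ : Fin N →₀ ℕ, inQ Q (orbSum (A := A) (d := d) φ μ) := fun μ =>
    hSQ ⟨_, ⟨orbSum_mem_Cc φ hφmem μ, orbSum_mem_TS φ μ⟩⟩ (orbSum_mem_span φ hφmem μ)
  -- elements of `Cc`
  have hFmem : ∀ (i : Fin d) (j : Fin N),
      PiTensorProduct.tprod A (Function.update (c i) i (a i * φ j)) ∈ Cc 𝒜 d := by
    intro i j
    refine tprod_mem_Cc (k := m i + 1) (fun l => ?_)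
    by_cases hl : l = i
    · subst hl; simpa using SetLike.mul_mem_graded (ha l) (hφmem j)
    · simpa [Function.update_of_ne hl] using hc i l
  haveI : IsDomain (Cc 𝒜 d ⧸ Q) := Ideal.Quotient.isDomain Q
  obtain ⟨i, hi⟩ := poly_trick (d := d) (C' := Cc 𝒜 d) (K := Cc 𝒜 d ⧸ Q) (Ideal.Quotient.mk Q)
    (fun i j => (⟨_, hFmem i j⟩ : Cc 𝒜 d))
    (⟨_, tprod_g_mem (n := 1) m c a ha hc⟩ : Cc 𝒜 d)
    (fun c' => (⟨PiTensorProduct.tprod A (fun i => φ (c' i)),
      tprod_mem_Cc (fun i => hφmem (c' i))⟩ : Cc 𝒜 d))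
    (by
      intro c'
      apply Subtype.ext
      rw [Subalgebra.coe_mul]
      have h1 : ((∏ i, (⟨_, hFmem i (c' i)⟩ : Cc 𝒜 d) : Cc 𝒜 d) : ⨂[A] _ : Fin d, B) =
          ∏ i, PiTensorProduct.tprod A (Function.update (c i) i (a i * φ (c' i))) := by
        simp
      rw [h1]
      exact prod_tprod_update c a (fun i => φ (c' i)))
    (by
      intro μ
      rw [Ideal.Quotient.eq_zero_iff_mem]
      obtain ⟨h1, h2⟩ := horb μ
      have e : (∑ c' ∈ (Finset.univ : Finset (Fin d → Fin N)).filter (fun c' => type c' = μ),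
          (⟨PiTensorProduct.tprod A (fun i => φ (c' i)),
            tprod_mem_Cc (fun i => hφmem (c' i))⟩ : Cc 𝒜 d))
          = ⟨orbSum (A := A) (d := d) φ μ, h1⟩ := by
        apply Subtype.ext
        simp [orbSum]
      rw [e]
      exact h2)
  exact hnot i ⟨hFmem i (jj i), Ideal.Quotient.eq_zero_iff_mem.mp (hi (jj i))⟩

end S13390

end Groth.Agent.Lib.Helper14.SegreRad
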