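import Mathlib
import Groth.Agent.Lib.Helper19ComplDVR

set_option autoImplicit false
universe u
open IsLocalRing

namespace Groth.Agent.Lib.Helper14SmoothDvrPt

set_option maxHeartbeats 1600000 in
theorem main (B : Type u) [CommRing B] [IsDomain B] [IsDiscreteValuationRing B]
    (A : Type u) [CommRing A] [Algebra B A]
    (p : Ideal A) [p.IsPrime] (hp : p.comap (algebraMap B A) = IsLocalRing.maximalIdeal B)
    [Algebra.IsSmoothAt B p]
    (hres : Function.Surjective ((algebraMap A p.ResidueField).comp (algebraMap B A))) :
    ∃ (B' : Type u) (_ : CommRing B') (_ : IsDomain B') (_ : IsDiscreteValuationRing B')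
      (ψ : A →+* B'),
      Ideal.comap ψ (IsLocalRing.maximalIdeal B') = p ∧
      Function.Injective (ψ.comp (algebraMap B A)) ∧
      Ideal.map (ψ.comp (algebraMap B A)) (IsLocalRing.maximalIdeal B) =
        IsLocalRing.maximalIdeal B' ∧
      Function.Surjective ((IsLocalRing.residue B').comp (ψ.comp (algebraMap B A))) := by
  obtain ⟨hdom, hdvr⟩ := (Groth.Agent.Lib.Helper19.isDiscreteValuationRing_iff_adicCompletion B).1
    ⟨inferInstance, inferInstance⟩
  -- the map B → κ(p)
  have hsurj : Function.Surjective (Algebra.ofId B p.ResidueField) := by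
    intro z
    obtain ⟨b, hb⟩ := hres z
    refine ⟨b, ?_⟩
    rw [← hb]
    simp only [Algebra.ofId_apply, RingHom.comp_apply]
    exact IsScalarTower.algebraMap_apply B A p.ResidueField b
  have hker : RingHom.ker (Algebra.ofId B p.ResidueField) = maximalIdeal B := by
    ext b
    rw [RingHom.mem_ker, ← hp, Ideal.mem_comap, ← Ideal.algebraMap_residueField_eq_zero,
      Algebra.ofId_apply, IsScalarTower.algebraMap_apply B A p.ResidueField b]
  let e : (B ⧸ maximalIdeal B) ≃ₐ[B] p.ResidueField :=
    (Ideal.quotientEquivAlgOfEq B hker.symm).trans (Ideal.quotientKerAlgEquivOfSurjective hsurj)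
  let f : Localization.AtPrime p →ₐ[B] B ⧸ maximalIdeal B :=
    e.symm.toAlgHom.comp (IsScalarTower.toAlgHom B (Localization.AtPrime p) p.ResidueField)
  obtain ⟨g, hg⟩ := Algebra.FormallySmooth.exists_adicCompletionEvalOneₐ_comp_eq f
  have hkerEval : ∀ z : AdicCompletion (maximalIdeal B) B,
      z ∈ maximalIdeal (AdicCompletion (maximalIdeal B) B) ↔
        AdicCompletion.evalOneₐ (maximalIdeal B) z = 0 := by
    intro z
    letI : Field (B ⧸ maximalIdeal B) := Ideal.Quotient.field _
    have hmax : (RingHom.ker (AdicCompletion.evalOneₐ (maximalIdeal B)).toRingHom).IsMaximal :=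
      RingHom.ker_isMaximal_of_surjective (AdicCompletion.evalOneₐ (maximalIdeal B)).toRingHom
        (AdicCompletion.evalOneₐ_surjective _)
    rw [← IsLocalRing.eq_maximalIdeal hmax]
    rfl
  refine ⟨AdicCompletion (maximalIdeal B) B, inferInstance, hdom, hdvr,
    g.toRingHom.comp (algebraMap A (Localization.AtPrime p)), ?_, ?_, ?_, ?_⟩
  · ext x
    rw [Ideal.mem_comap, hkerEval]
    have h1 : AdicCompletion.evalOneₐ (maximalIdeal B)
        ((g.toRingHom.comp (algebraMap A (Localization.AtPrime p))) x) =
        f (algebraMap A (Localization.AtPrime p) x) := by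
      rw [← hg]; rfl
    rw [h1]
    show e.symm _ = 0 ↔ _
    rw [map_eq_zero_iff _ e.symm.injective]
    show algebraMap (Localization.AtPrime p) p.ResidueField _ = 0 ↔ _
    rw [← IsScalarTower.algebraMap_apply A (Localization.AtPrime p) p.ResidueField,
      Ideal.algebraMap_residueField_eq_zero]
  · have h2 : (g.toRingHom.comp (algebraMap A (Localization.AtPrime p))).comp (algebraMap B A) =
        algebraMap B (AdicCompletion (maximalIdeal B) B) := by
      refine RingHom.ext fun b => ?_
      simp only [RingHom.comp_apply]
      rw [← IsScalarTower.algebraMap_apply B A (Localization.AtPrime p)]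
      exact g.commutes b
    rw [h2]
    exact AdicCompletion.of_injective (maximalIdeal B) B
  · have h2 : (g.toRingHom.comp (algebraMap A (Localization.AtPrime p))).comp (algebraMap B A) =
        algebraMap B (AdicCompletion (maximalIdeal B) B) := by
      refine RingHom.ext fun b => ?_
      simp only [RingHom.comp_apply]
      rw [← IsScalarTower.algebraMap_apply B A (Localization.AtPrime p)]
      exact g.commutes b
    rw [h2]
    exact AdicCompletion.maximalIdeal_eq_map.symm
  · have h2 : (g.toRingHom.comp (algebraMap A (Localization.AtPrime p))).comp (algebraMap B A) =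
        algebraMap B (AdicCompletion (maximalIdeal B) B) := by
      refine RingHom.ext fun b => ?_
      simp only [RingHom.comp_apply]
      rw [← IsScalarTower.algebraMap_apply B A (Localization.AtPrime p)]
      exact g.commutes b
    rw [h2]
    intro z
    obtain ⟨w, hw⟩ := (AdicCompletion.residueField_map_bijective B).2 z
    obtain ⟨b, rfl⟩ := residue_surjective w
    refine ⟨b, ?_⟩
    rw [← hw, IsLocalRing.ResidueField.map_residue]
    rfl

end Groth.Agent.Lib.Helper14SmoothDvrPt
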