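import Mathlib
import Groth.Prelude.Def_PolLaw
import Groth.Agent.Lib.Helper14PolLawProd
import Groth.Agent.Lib.Helper14PolLawCH4

/-!
# Multiplicative laws on an algebra that splits after base change (helper14)

`B` an `A`-algebra, `W` an `A`-algebra with `α : W ⊗[A] B ≃ₐ[W] (Fin d → W)`.  For a multiplicative
law `G : B → A` of degree `d` we compute `G_R` on every `W`-algebra `R`:
`G_R (∑ s_i ε_i) = ∏ P_i(s_i)` for the component polynomials `P_i`, and `P_i = X` as soon as
`P_i(0) = 0` for all `i`.
-/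

set_option autoImplicit false
set_option linter.unusedVariables false
set_option linter.unusedSectionVars false
set_option linter.style.haveILetI false
universe u
open Polynomial TensorProduct

namespace Groth.Agent.Lib.Helper14.SplitLaw

open Groth.Agent.Lib.Helper14.PolLawRed (toFun'_map)
open Groth.Agent.Lib.Helper14.PolLawFin (rid_map)
open Groth.Agent.Lib.Helper14.PolLawPoly (map_map_apply map_ker_le_kerBC)
open Groth.Agent.Lib.Helper14.PolLawProd (coeff_mul_coeff rid_mul)

section idem
variable {R : Type*} [CommRing R] {T : Type*} [CommRing T] [Algebra R T] {ι : Type*}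
  [DecidableEq ι]

lemma prod_one_add (s : Finset ι) (ε : ι → T) (t : ι → R)
    (horth : ∀ i j, i ≠ j → ε i * ε j = 0) :
    ∏ i ∈ s, (1 + t i • ε i) = 1 + ∑ i ∈ s, t i • ε i := by
  induction s using Finset.induction_on with
  | empty => simp
  | insert a s ha ih =>
    rw [Finset.prod_insert ha, ih, Finset.sum_insert ha]
    have h0 : (t a • ε a) * ∑ i ∈ s, t i • ε i = 0 := by
      rw [Finset.mul_sum]
      refine Finset.sum_eq_zero (fun i hi => ?_)
      have hai : a ≠ i := fun h => ha (h ▸ hi)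
      rw [smul_mul_smul_comm, horth a i hai, smul_zero]
    linear_combination h0

lemma mul_add_mul_pow (u v x w : R) (huv : u * v = 0) (k : ℕ) :
    u * (x + v * w) ^ k = u * x ^ k := by
  induction k with
  | zero => simp
  | succ k ih =>
    rw [pow_succ, ← mul_assoc, ih, pow_succ]
    linear_combination (x ^ k * w) * huv

end idem

section tmul
variable {A : Type*} [CommRing A]

lemma eq_rid_tmul {S : Type*} [CommSemiring S] [Algebra A S] (t : S ⊗[A] A) :
    t = (TensorProduct.rid A S t) ⊗ₜ[A] (1 : A) := by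
  conv_lhs => rw [← (TensorProduct.rid A S).symm_apply_apply t]
  rfl

lemma tmul_one_inj {S : Type*} [CommSemiring S] [Algebra A S] {a b : S}
    (h : a ⊗ₜ[A] (1 : A) = b ⊗ₜ[A] (1 : A)) : a = b := by
  simpa using congrArg (TensorProduct.rid A S) h

lemma tmap_smul {B : Type*} [CommRing B] [Algebra A B] {S S' : Type*} [CommRing S] [Algebra A S]
    [CommRing S'] [Algebra A S'] (φ : S →ₐ[A] S') (r : S) (y : S ⊗[A] B) :
    Algebra.TensorProduct.map φ (AlgHom.id A B) (r • y) =
      φ r • Algebra.TensorProduct.map φ (AlgHom.id A B) y := by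
  induction y using TensorProduct.induction_on with
  | zero => simp
  | tmul a b =>
    rw [TensorProduct.smul_tmul', Algebra.TensorProduct.map_tmul, Algebra.TensorProduct.map_tmul,
      TensorProduct.smul_tmul', smul_eq_mul, smul_eq_mul, map_mul]
  | add y y' hy hy' => rw [smul_add, map_add, hy, hy', map_add, smul_add]

lemma prod_tmul_one {S : Type*} [CommRing S] [Algebra A S] {ι : Type*} (s : Finset ι)
    (f : ι → S) : ∏ i ∈ s, ((f i) ⊗ₜ[A] (1 : A)) = (∏ i ∈ s, f i) ⊗ₜ[A] (1 : A) := by
  exact (map_prod (Algebra.TensorProduct.includeLeft : S →ₐ[A] S ⊗[A] A) f s).symm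

end tmul

section law
variable {A : Type u} [CommRing A] {B : Type u} [CommRing B] [Algebra A B] {d : ℕ}

lemma law_prod (G : PolLaw.MulLaw A B A d) (S : Type u) [CommRing S] [Algebra A S] {ι : Type*}
    (s : Finset ι) (f : ι → S ⊗[A] B) :
    G.law.toFun' S (∏ i ∈ s, f i) = ∏ i ∈ s, G.law.toFun' S (f i) := by
  classical
  induction s using Finset.induction_on with
  | empty => simpa using (G.mult S).1
  | insert a s ha ih => rw [Finset.prod_insert ha, Finset.prod_insert ha, (G.mult S).2, ih]

end law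

section split
variable {A : Type u} [CommRing A] {B : Type u} [CommRing B] [Algebra A B]
  {W : Type u} [CommRing W] [Algebra A W] {d : ℕ} (α : W ⊗[A] B ≃ₐ[W] (Fin d → W))

/-- the idempotents of the splitting -/
noncomputable def e (i : Fin d) : W ⊗[A] B := α.symm (Pi.single i 1)

lemma α_e (i : Fin d) : α (e α i) = Pi.single i 1 := by
  rw [e, AlgEquiv.apply_symm_apply]

lemma e_mul_e (i j : Fin d) : e α i * e α j = if i = j then e α i else 0 := by
  apply α.injective
  rw [map_mul, α_e, α_e]
  split_ifs with h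
  · subst h
    rw [α_e]
    funext k
    by_cases hk : k = i <;> simp [hk]
  · rw [map_zero]
    funext k
    by_cases hk : k = i
    · subst hk
      simp [h]
    · simp [Pi.single_apply, hk]

lemma sum_e : ∑ i, e α i = 1 := by
  apply α.injective
  rw [map_sum, map_one]
  simp only [α_e]
  funext k
  simp [Finset.sum_apply, Pi.single_apply]

lemma eq_sum_smul_e (z : W ⊗[A] B) : z = ∑ i, (α z i) • e α i := by
  apply α.injective
  rw [map_sum]
  simp only [map_smul, α_e]
  funext k
  simp [Finset.sum_apply, Pi.single_apply]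

variable (R : Type u) [CommRing R] [Algebra A R] [Algebra W R] [IsScalarTower A W R]

/-- the comparison map `W ⊗ B → R ⊗ B` -/
noncomputable def θ : W ⊗[A] B →ₐ[A] R ⊗[A] B :=
  Algebra.TensorProduct.map (IsScalarTower.toAlgHom A W R) (AlgHom.id A B)

lemma θ_smul (ω : W) (z : W ⊗[A] B) :
    θ (B := B) R (ω • z) = algebraMap W R ω • θ R z := by
  rw [θ, tmap_smul]
  rfl

/-- the idempotents in `R ⊗ B` -/
noncomputable def ε (i : Fin d) : R ⊗[A] B := θ R (e α i)

lemma ε_mul_ε (i j : Fin d) : ε α R i * ε α R j = if i = j then ε α R i else 0 := by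
  rw [ε, ε, ← map_mul, e_mul_e]
  split_ifs <;> simp

lemma ε_orth (i j : Fin d) (h : i ≠ j) : ε α R i * ε α R j = 0 := by
  rw [ε_mul_ε, if_neg h]

lemma ε_idem (i : Fin d) : ε α R i * ε α R i = ε α R i := by
  rw [ε_mul_ε, if_pos rfl]

lemma sum_ε : ∑ i, ε α R i = 1 := by
  simp only [ε]
  rw [← map_sum, sum_e, map_one]

lemma θ_eq_sum (z : W ⊗[A] B) : θ R z = ∑ i, algebraMap W R (α z i) • ε α R i := by
  conv_lhs => rw [eq_sum_smul_e α z]
  rw [map_sum]
  simp only [θ_smul, ε]

/-- every element of `R ⊗ B` is a combination of the idempotents -/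
lemma exists_eq_comb (x : R ⊗[A] B) : ∃ s : Fin d → R, x = ∑ i, s i • ε α R i := by
  induction x using TensorProduct.induction_on with
  | zero => exact ⟨0, by simp⟩
  | tmul r b =>
    refine ⟨fun i => r * algebraMap W R (α ((1 : W) ⊗ₜ[A] b) i), ?_⟩
    have h1 : r ⊗ₜ[A] b = r • θ R ((1 : W) ⊗ₜ[A] b) := by
      rw [θ, Algebra.TensorProduct.map_tmul, map_one, TensorProduct.smul_tmul', smul_eq_mul,
        mul_one]
      rfl
    rw [h1, θ_eq_sum α R, Finset.smul_sum]
    simp only [smul_smul]
  | add x y hx hy =>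
    obtain ⟨s, rfl⟩ := hx
    obtain ⟨s', rfl⟩ := hy
    refine ⟨s + s', ?_⟩
    simp only [Pi.add_apply, add_smul, Finset.sum_add_distrib]

lemma comb_mul_smul_ε (s : Fin d → R) (a : R) (i : Fin d) :
    (∑ j, s j • ε α R j) * (a • ε α R i) = (s i * a) • ε α R i := by
  rw [Finset.sum_mul, Finset.sum_eq_single i]
  · rw [smul_mul_smul_comm, ε_idem]
  · intro j _ hji
    rw [smul_mul_smul_comm, ε_orth α R j i hji, smul_zero]
  · intro h; exact absurd (Finset.mem_univ i) h

lemma comb_add_single (s : Fin d → R) (t : R) (i : Fin d) :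
    ∑ j, ((s + Pi.single i t : Fin d → R) j) • ε α R j = (∑ j, s j • ε α R j) + t • ε α R i := by
  simp only [Pi.add_apply, add_smul, Finset.sum_add_distrib]
  congr 1
  rw [Finset.sum_eq_single i]
  · rw [Pi.single_eq_same]
  · intro j _ hji
    rw [Pi.single_eq_of_ne hji, zero_smul]
  · intro h; exact absurd (Finset.mem_univ i) h

lemma comb_eq_prod (s : Fin d → R) :
    ∑ i, s i • ε α R i = ∏ i, (1 + (s i - 1) • ε α R i) := by
  rw [prod_one_add Finset.univ (ε α R) (fun i => s i - 1) (ε_orth α R)]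
  simp only [sub_smul, one_smul, Finset.sum_sub_distrib, sum_ε]
  ring

lemma ε_map {R' : Type u} [CommRing R'] [Algebra A R'] [Algebra W R'] [IsScalarTower A W R']
    (φ : R →ₐ[W] R') (i : Fin d) :
    Algebra.TensorProduct.map (φ.restrictScalars A) (AlgHom.id A B) (ε α R i) = ε α R' i := by
  rw [ε, θ, map_map_apply, ε, θ]
  congr 2
  ext ω
  simp

lemma θ_self (z : W ⊗[A] B) : θ (B := B) W z = z := by
  have : (IsScalarTower.toAlgHom A W W) = AlgHom.id A W := AlgHom.ext fun _ => rfl
  rw [θ, this, Algebra.TensorProduct.map_id]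
  rfl

lemma ε_self (i : Fin d) : ε α W i = e α i := θ_self _

variable (G : PolLaw.MulLaw A B A d)

/-- the `i`-th component polynomial of the law -/
noncomputable def Pc (i : Fin d) : W[X] :=
  TensorProduct.rid A W[X] (G.law.toFun' W[X] (1 + (X - 1 : W[X]) • ε α (Polynomial W) i))

lemma law_single (i : Fin d) (s : R) :
    G.law.toFun' R (1 + (s - 1) • ε α R i) = (aeval s (Pc α G i)) ⊗ₜ[A] (1 : A) := by
  have h1 : (1 + (s - 1) • ε α R i : R ⊗[A] B) =
      Algebra.TensorProduct.map ((aeval s : W[X] →ₐ[W] R).restrictScalars A) (AlgHom.id A B)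
        (1 + (X - 1 : W[X]) • ε α (Polynomial W) i) := by
    rw [map_add, map_one, tmap_smul, ε_map]
    simp
  rw [h1, toFun'_map, eq_rid_tmul (G.law.toFun' W[X] _), Algebra.TensorProduct.map_tmul]
  rfl

lemma law_comb (s : Fin d → R) :
    G.law.toFun' R (∑ i, s i • ε α R i) = (∏ i, aeval (s i) (Pc α G i)) ⊗ₜ[A] (1 : A) := by
  rw [comb_eq_prod, law_prod, ← prod_tmul_one]
  exact Finset.prod_congr rfl (fun i _ => law_single α R G i (s i))

lemma aeval_mul (i : Fin d) (s s' : R) :
    aeval (s * s') (Pc α G i) = aeval s (Pc α G i) * aeval s' (Pc α G i) := by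
  apply tmul_one_inj (A := A)
  rw [← law_single, ← one_mul (1 : A), ← Algebra.TensorProduct.tmul_mul_tmul, ← law_single,
    ← law_single, ← (G.mult R).2]
  congr 1
  have h2 : ((s - 1) • ε α R i) * ((s' - 1) • ε α R i) = ((s - 1) * (s' - 1)) • ε α R i := by
    rw [smul_mul_smul_comm, ε_idem]
  have h3 : (1 + (s - 1) • ε α R i) * (1 + (s' - 1) • ε α R i) =
      1 + (s - 1) • ε α R i + (s' - 1) • ε α R i + ((s - 1) • ε α R i) * ((s' - 1) • ε α R i) := by
    ring
  rw [h3, h2, add_assoc, add_assoc, ← add_smul, ← add_smul]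
  congr 2
  ring

lemma coeff_orth (i : Fin d) (k l : ℕ) :
    (Pc α G i).coeff k * (Pc α G i).coeff l = if k = l then (Pc α G i).coeff l else 0 :=
  coeff_mul_coeff _ (aeval_mul α (Polynomial (Polynomial W)) G i (C X) X) k l

lemma eval_one (i : Fin d) : (Pc α G i).eval 1 = 1 := by
  have h := law_single α W G i 1
  rw [sub_self, zero_smul, add_zero, (G.mult W).1, Algebra.TensorProduct.one_def] at h
  have h2 := tmul_one_inj h
  rw [coe_aeval_eq_eval] at h2
  exact h2.symm

lemma prod_aeval (s : R) : ∏ i, aeval s (Pc α G i) = s ^ d := by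
  apply tmul_one_inj (A := A)
  rw [← law_comb, ← Finset.smul_sum, sum_ε, G.homog, (G.mult R).1, Algebra.TensorProduct.one_def,
    TensorProduct.smul_tmul', smul_eq_mul, mul_one]

lemma prod_Pc : ∏ i, Pc α G i = X ^ d := by
  have h := prod_aeval α (Polynomial W) G X
  simpa using h

/-- the key step: if all component polynomials vanish at `0`, they are all equal to `X` -/
theorem Pc_eq_X (h0 : ∀ i, (Pc α G i).coeff 0 = 0) (i : Fin d) : Pc α G i = X := by
  have hdiv : ∀ j, Pc α G j = X * (Pc α G j).divX := by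
    intro j
    conv_lhs => rw [← Polynomial.X_mul_divX_add (Pc α G j), h0 j, map_zero, add_zero]
  have hprod : X ^ d * ∏ j, (Pc α G j).divX = X ^ d := by
    conv_rhs => rw [← prod_Pc α G]
    rw [Finset.prod_congr rfl (fun j _ => hdiv j), Finset.prod_mul_distrib, Finset.prod_const,
      Finset.card_univ, Fintype.card_fin]
  have hc : (∏ j, (Pc α G j).divX).coeff 0 = 1 := by
    have h : (X ^ d * ∏ j, (Pc α G j).divX).coeff (0 + d) = (X ^ d : W[X]).coeff (0 + d) := by
      rw [hprod]
    rw [coeff_X_pow_mul] at h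
    rw [h, zero_add, coeff_X_pow, if_pos rfl]
  rw [coeff_zero_eq_eval_zero, eval_prod] at hc
  simp only [← coeff_zero_eq_eval_zero, coeff_divX, zero_add] at hc
  -- each `coeff 1` is a unit idempotent, hence `1`
  have hunit : IsUnit ((Pc α G i).coeff 1) := by
    apply IsUnit.of_mul_eq_one (∏ j ∈ Finset.univ.erase i, (Pc α G j).coeff 1)
    rw [Finset.mul_prod_erase Finset.univ (fun j => (Pc α G j).coeff 1) (Finset.mem_univ i)]
    exact hc
  have hidem : (Pc α G i).coeff 1 * (Pc α G i).coeff 1 = (Pc α G i).coeff 1 := by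
    rw [coeff_orth, if_pos rfl]
  have hone : (Pc α G i).coeff 1 = 1 := by
    obtain ⟨u, hu⟩ := hunit
    have := congrArg (fun x => (↑u⁻¹ : W) * x) hidem
    simp only [← hu, ← mul_assoc, Units.inv_mul, one_mul] at this
    rw [← hu]; exact this
  ext k
  rw [coeff_X]
  split_ifs with hk
  · rw [← hk, hone]
  · have := coeff_orth α G i k 1
    rw [if_neg (Ne.symm hk), hone, mul_one] at this
    exact this

theorem law_comb_eq (h0 : ∀ i, (Pc α G i).coeff 0 = 0) (s : Fin d → R) :
    G.law.toFun' R (∑ i, s i • ε α R i) = (∏ i, s i) ⊗ₜ[A] (1 : A) := by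
  rw [law_comb]
  congr 1
  exact Finset.prod_congr rfl (fun i _ => by rw [Pc_eq_X α G h0 i, aeval_X])

end split

end Groth.Agent.Lib.Helper14.SplitLaw
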