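import Mathlib
import Groth.Prelude.Def_PolLaw
import Groth.Agent.Lib.Helper14SplitLaw

/-!
# Split laws II: vanishing of the constant coefficients, norm laws, and flat-local descent (helper14)
-/

set_option autoImplicit false
set_option linter.unusedVariables false
set_option linter.unusedSectionVars false
set_option linter.style.haveILetI false
universe u
open Polynomial TensorProduct

namespace Groth.Agent.Lib.Helper14.SplitLaw

open Groth.Agent.Lib.Helper14.PolLawCH4 (mem_kerBC_of_forall_ring radical_kerBC)
open Groth.Agent.Lib.Helper14.PolLawMvKer (ext)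

section aeval
variable {W : Type*} [CommRing W] {R : Type*} [CommRing R] [Algebra W R]

lemma aeval_add_coeff_zero (P : W[X])
    (horth : ∀ k l, P.coeff k * P.coeff l = if k = l then P.coeff l else 0) (x w : R) :
    aeval (x + w * algebraMap W R (P.coeff 0)) P = aeval x P := by
  rw [aeval_eq_sum_range, aeval_eq_sum_range]
  refine Finset.sum_congr rfl (fun k _ => ?_)
  rw [Algebra.smul_def, Algebra.smul_def]
  by_cases hk : k = 0
  · subst hk; simp
  · rw [mul_comm w]
    exact mul_add_mul_pow _ _ _ _ (by rw [← map_mul, horth, if_neg hk, map_zero]) k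

end aeval

section norm

lemma norm_smul_eq_zero {R S : Type*} [CommRing R] [CommRing S] [Algebra R S] [Module.Free R S]
    [Module.Finite R S] (y z : S) (h : y * z = 0) : Algebra.norm R y • z = 0 := by
  classical
  let b := Module.Free.chooseBasis R S
  have h1 : Algebra.norm R y = (Algebra.leftMulMatrix b y).det := Algebra.norm_eq_matrix_det b y
  have h2 : (Algebra.leftMulMatrix b y).mulVec (b.repr z) = 0 := by
    rw [Algebra.leftMulMatrix_mulVec_repr, h, map_zero]
    rfl
  have h3 : (Algebra.leftMulMatrix b y).det • (⇑(b.repr z)) = 0 := by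
    have := congrArg (fun v => (Algebra.leftMulMatrix b y).adjugate.mulVec v) h2
    simp only [Matrix.mulVec_mulVec, Matrix.adjugate_mul, Matrix.mulVec_zero, Matrix.smul_mulVec,
      Matrix.one_mulVec] at this
    exact this
  apply b.repr.injective
  rw [map_zero, map_smul, h1]
  ext j
  have := congrFun h3 j
  simpa using this

end norm

section split
variable {A : Type u} [CommRing A] {B : Type u} [CommRing B] [Algebra A B]
  {W : Type u} [CommRing W] [Algebra A W] {d : ℕ} (α : W ⊗[A] B ≃ₐ[W] (Fin d → W))

/-- a law whose kernel is nil has component polynomials without constant term -/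
theorem coeff_zero_of_ker_le (F : PolLaw.MulLaw A B A d)
    (hker : PolLaw.ker F.law ≤ nilradical B) (i : Fin d) : (Pc α F i).coeff 0 = 0 := by
  set a := (Pc α F i).coeff 0 with ha
  have haa : a * a = a := by rw [ha, coeff_orth, if_pos rfl]
  set c : W ⊗[A] B := a • e α i with hc
  have hcc : c * c = c := by rw [hc, smul_mul_smul_comm, haa, e_mul_e, if_pos rfl]
  have hmem : c ∈ PolLaw.kerBC F.law W := by
    apply mem_kerBC_of_forall_ring
    intro R _ _ _ _ x w
    obtain ⟨s, rfl⟩ := exists_eq_comb α R x
    obtain ⟨s', rfl⟩ := exists_eq_comb α R w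
    have h1 : Algebra.TensorProduct.map (IsScalarTower.toAlgHom A W R) (AlgHom.id A B) c =
        algebraMap W R a • ε α R i := by
      rw [hc]; exact θ_smul R a (e α i)
    rw [h1, comb_mul_smul_ε, ← comb_add_single, law_comb, law_comb]
    congr 1
    refine Finset.prod_congr rfl (fun j _ => ?_)
    by_cases hj : j = i
    · subst hj
      rw [Pi.add_apply, Pi.single_eq_same]
      exact aeval_add_coeff_zero _ (coeff_orth α F j) _ _
    · rw [Pi.add_apply, Pi.single_eq_of_ne hj, add_zero]
  have hrad : c ∈ (PolLaw.kerBC F.law W).radical := Ideal.le_radical hmem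
  rw [radical_kerBC] at hrad
  have hle : ext (PolLaw.ker F.law) W ≤ nilradical (W ⊗[A] B) := by
    rw [Ideal.map_le_iff_le_comap]
    intro b hb
    have hb' : IsNilpotent b := mem_nilradical.mp (hker hb)
    exact mem_nilradical.mpr (hb'.map _)
  obtain ⟨n, hn⟩ := hrad
  have hnil : IsNilpotent c := (mem_nilradical.mp (hle hn)).of_pow
  have hc0 : c = 0 := IsIdempotentElem.eq_zero_of_isNilpotent hcc hnil
  have h5 := congrArg (fun z => α z i) hc0
  simpa [hc, α_e] using h5

/-- the norm law has component polynomials without constant term -/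
theorem coeff_zero_of_norm [Module.Free A B] [Module.Finite A B] (N : PolLaw.MulLaw A B A d)
    (hN : ∀ (S : Type u) [CommRing S] [Algebra A S] (x : S ⊗[A] B),
      N.law.toFun' S x = Algebra.norm S x ⊗ₜ[A] (1 : A)) (i : Fin d) :
    (Pc α N i).coeff 0 = 0 := by
  have h := law_single α W N i 0
  rw [hN] at h
  have h2 := tmul_one_inj h
  rw [coe_aeval_eq_eval, ← coeff_zero_eq_eval_zero] at h2
  rw [← h2]
  have h3 : (1 + (0 - 1 : W) • ε α W i) * e α i = 0 := by
    rw [ε_self, zero_sub, neg_smul, one_smul, add_mul, one_mul, neg_mul, e_mul_e, if_pos rfl,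
      add_neg_cancel]
  have h4 := norm_smul_eq_zero (R := W) _ _ h3
  have h5 := congrArg (fun z => α z i) h4
  simpa [α_e] using h5

end split

section descent
variable {A : Type u} [CommRing A]

/-- an element of a module is zero if it dies in flat algebras covering all primes -/
theorem eq_zero_of_forall_prime {M : Type*} [AddCommGroup M] [Module A M] (m : M)
    (h : ∀ p : PrimeSpectrum A, ∃ (W : Type u) (_ : CommRing W) (_ : Algebra A W)
      (_ : Module.Flat A W) (P : PrimeSpectrum W),
        P.comap (algebraMap A W) = p ∧ (1 : W) ⊗ₜ[A] m = 0) : m = 0 := by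
  by_contra hm
  set I : Ideal A := LinearMap.ker (LinearMap.toSpanSingleton A M m) with hI
  have hI1 : I ≠ ⊤ := by
    intro htop
    have h1 : (1 : A) ∈ I := htop ▸ Submodule.mem_top
    rw [hI, LinearMap.mem_ker, LinearMap.toSpanSingleton_apply, one_smul] at h1
    exact hm h1
  obtain ⟨p, hpmax, hIp⟩ := Ideal.exists_le_maximal I hI1
  obtain ⟨W, _, _, _, P, hP, h0⟩ := h ⟨p, hpmax.isPrime⟩
  let f : A ⧸ I →ₗ[A] M := Submodule.liftQ I (LinearMap.toSpanSingleton A M m) le_rfl
  have hf : Function.Injective f := by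
    rw [← LinearMap.ker_eq_bot]
    exact Submodule.ker_liftQ_eq_bot _ _ _ le_rfl
  have hf' := Module.Flat.lTensor_preserves_injective_linearMap (M := W) f hf
  have h1 : (f.lTensor W) ((1 : W) ⊗ₜ[A] (Ideal.Quotient.mk I 1)) = 0 := by
    rw [LinearMap.lTensor_tmul]
    have : f (Ideal.Quotient.mk I 1) = m := by
      show f (Submodule.Quotient.mk 1) = m
      rw [Submodule.liftQ_apply, LinearMap.toSpanSingleton_apply, one_smul]
    rw [this, h0]
  have h2 : (1 : W) ⊗ₜ[A] (Ideal.Quotient.mk I 1) = 0 := hf' (by rw [h1, map_zero])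
  have hIP : ∀ a ∈ I, (Algebra.ofId A (W ⧸ P.asIdeal)) a = 0 := by
    intro a ha
    have hap : a ∈ p := hIp ha
    have : a ∈ (P.comap (algebraMap A W)).asIdeal := by rw [hP]; exact hap
    rw [Algebra.ofId_apply, IsScalarTower.algebraMap_apply A W (W ⧸ P.asIdeal),
      Ideal.Quotient.algebraMap_eq, Ideal.Quotient.eq_zero_iff_mem]
    exact this
  let g : A ⧸ I →ₐ[A] W ⧸ P.asIdeal := Ideal.Quotient.liftₐ I (Algebra.ofId A (W ⧸ P.asIdeal)) hIP
  rw [map_one] at h2
  have h3 := congrArg (Algebra.TensorProduct.productMap (Ideal.Quotient.mkₐ A P.asIdeal) g) h2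
  rw [Algebra.TensorProduct.productMap_apply_tmul, map_one, map_one, map_zero, one_mul] at h3
  have : (1 : W) ∈ P.asIdeal := by
    rw [← Ideal.Quotient.eq_zero_iff_mem, map_one]
    exact h3
  exact P.2.ne_top ((Ideal.eq_top_iff_one _).mpr this)

end descent

end Groth.Agent.Lib.Helper14.SplitLaw
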