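/-
helper14: the symmetric algebra of a module is smooth iff the module is finite projective
(uses helper10's `kaehler_symmetricAlgebra_bijective`).
-/
import Mathlib
import Groth.Agent.Lib.Helper10SymKaehler

set_option autoImplicit false
set_option linter.unusedSectionVars false
set_option linter.style.haveILetI false
universe u

open TensorProduct MvPolynomial

namespace Groth.Agent.Lib.Helper14.SymSmooth

variable {A M : Type u} [CommRing A] [AddCommGroup M] [Module A M]

/-- the augmentation `Sym M → A` -/
noncomputable def aug : SymmetricAlgebra A M →ₐ[A] A := SymmetricAlgebra.lift (0 : M →ₗ[A] A)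

/-- `Sym M` smooth implies `M` finite projective. -/
theorem finite_projective_of_smooth [Algebra.Smooth A (SymmetricAlgebra A M)] :
    Module.Finite A M ∧ Module.Projective A M := by
  let C := SymmetricAlgebra A M
  let e : (C ⊗[A] M) ≃ₗ[C] Ω[C⁄A] :=
    LinearEquiv.ofBijective _ (Groth.Agent.Lib.Helper10.kaehler_symmetricAlgebra_bijective A M)
  haveI : Module.Finite C (C ⊗[A] M) := Module.Finite.equiv e.symm
  haveI : Module.Projective C (C ⊗[A] M) := Module.Projective.of_equiv e.symm
  letI : Algebra C A := (aug (A := A) (M := M)).toRingHom.toAlgebra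
  haveI : IsScalarTower A C A := IsScalarTower.of_algebraMap_eq fun a => by
    change a = aug (algebraMap A C a)
    rw [AlgHom.commutes]; rfl
  let e2 : A ⊗[C] (C ⊗[A] M) ≃ₗ[A] M :=
    (TensorProduct.AlgebraTensorModule.cancelBaseChange A C A A M) ≪≫ₗ TensorProduct.lid A M
  haveI : Module.Finite A (A ⊗[C] (C ⊗[A] M)) := inferInstance
  haveI : Module.Projective A (A ⊗[C] (C ⊗[A] M)) := inferInstance
  exact ⟨Module.Finite.equiv e2, Module.Projective.of_equiv e2⟩

theorem formallySmooth_of_projective [Module.Projective A M] :
    Algebra.FormallySmooth A (SymmetricAlgebra A M) := by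
  refine Algebra.FormallySmooth.of_comp_surjective fun B _ _ I _ g => ?_
  obtain ⟨l, hl⟩ := Module.projective_lifting_property
    ((Ideal.Quotient.mkₐ A I).toLinearMap) (g.toLinearMap ∘ₗ SymmetricAlgebra.ι A M)
    (Ideal.Quotient.mkₐ_surjective A I)
  refine ⟨SymmetricAlgebra.lift l, ?_⟩
  apply SymmetricAlgebra.algHom_ext
  ext m
  have := congrArg (fun φ : M →ₗ[A] B ⧸ I => φ m) hl
  simpa using this

theorem finitePresentation_of_finite_projective [Module.Finite A M] [Module.Projective A M] :
    Algebra.FinitePresentation A (SymmetricAlgebra A M) := by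
  classical
  obtain ⟨n, f, g, -, -, hfg⟩ := Module.Finite.exists_comp_eq_id_of_projective A M
  let S := SymmetricAlgebra A M
  let P := MvPolynomial (Fin n) A
  let r : P →ₐ[A] S := aeval (fun j => SymmetricAlgebra.ι A M (f (Pi.single j 1)))
  let lin : M →ₗ[A] P := (Fintype.linearCombination A (fun j : Fin n => (X j : P))) ∘ₗ g
  let i : S →ₐ[A] P := SymmetricAlgebra.lift lin
  have hlin : ∀ m, lin m = ∑ j, g m j • (X j : P) := fun m => by
    simp [lin, Fintype.linearCombination_apply]
  have hri : r.comp i = AlgHom.id A S := by
    apply SymmetricAlgebra.algHom_ext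
    ext m
    change r (i (SymmetricAlgebra.ι A M m)) = SymmetricAlgebra.ι A M m
    rw [show i (SymmetricAlgebra.ι A M m) = lin m from SymmetricAlgebra.lift_ι_apply lin m, hlin,
      map_sum]
    simp only [map_smul, r]
    have h0 : ∀ j : Fin n, (aeval fun j => (SymmetricAlgebra.ι A M) (f (Pi.single j 1)) :
        MvPolynomial (Fin n) A →ₐ[A] SymmetricAlgebra A M) (X j) =
          SymmetricAlgebra.ι A M (f (Pi.single j 1)) := fun j => aeval_X _ j
    simp only [h0]
    simp only [← map_smul, ← map_sum]
    congr 1
    have h1 : ∑ j, g m j • (Pi.single j (1 : A) : Fin n → A) = g m := by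
      funext k
      simp [Finset.sum_apply, Pi.single_apply]
    rw [h1]
    exact congrArg (fun φ : M →ₗ[A] M => φ m) hfg
  have hri' : ∀ c, r (i c) = c := fun c => congrArg (fun φ : S →ₐ[A] S => φ c) hri
  have hsurj : Function.Surjective r := fun c => ⟨i c, hri' c⟩
  let J : Ideal P := Ideal.span (Set.range fun j : Fin n => (X j : P) - i (r (X j)))
  have hJ : ∀ y : P, y - i (r y) ∈ J := by
    intro y
    induction y using MvPolynomial.induction_on with
    | C a =>
      have : i (r (C a)) = C a := by
        rw [← algebraMap_eq, AlgHom.commutes, AlgHom.commutes]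
      rw [this, sub_self]; exact J.zero_mem
    | add p q hp hq =>
      have : p + q - i (r (p + q)) = (p - i (r p)) + (q - i (r q)) := by
        rw [map_add, map_add]; ring
      rw [this]; exact J.add_mem hp hq
    | mul_X p j hp =>
      have : p * X j - i (r (p * X j)) =
          (p - i (r p)) * X j + i (r p) * (X j - i (r (X j))) := by
        rw [map_mul, map_mul]; ring
      rw [this]
      exact J.add_mem (J.mul_mem_right _ hp) (J.mul_mem_left _ (Ideal.subset_span ⟨j, rfl⟩))
  have hker : RingHom.ker r.toRingHom = J := by
    apply le_antisymm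
    · intro y hy
      have hy' : r y = 0 := hy
      have := hJ y
      rwa [hy', map_zero, sub_zero] at this
    · rw [Ideal.span_le]
      rintro _ ⟨j, rfl⟩
      change r (X j - i (r (X j))) = 0
      rw [map_sub, hri', sub_self]
  refine Algebra.FinitePresentation.of_surjective (f := r) hsurj ?_
  rw [hker]
  exact ⟨(Finset.univ.image fun j : Fin n => (X j : P) - i (r (X j))), by
    rw [Finset.coe_image, Finset.coe_univ, Set.image_univ]⟩

end Groth.Agent.Lib.Helper14.SymSmooth
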