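/-
Helper14TSAlt: symmetric tensors `TS^d_R(A)` preserve the span of pure tensors with two equal
factors in `T^d_R(P)`, `P` an `A`-module finite projective over `R` (`tpowAct_mem`).
`projective_end`/`flat_end` (`End_R(P)` is projective/flat), `altMap` (pure tensors modulo `altSpan`
as an alternating map), `orbit_mem`, `Lam`, `tpowAct_eq`, `Lam_symT_mem`.
-/
import Mathlib
import Groth.Prelude.Def_W4c5normfunctorschNorm
import Groth.Agent.Lib.Helper14TSFree
import Groth.Agent.Lib.Helper14FlatStage2

set_option autoImplicit false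
universe u
open TensorProduct

namespace Groth.Agent.Lib.Helper14.TSAlt

open Groth.Agent.Lib.Helper14.TSFree
open Groth.Agent.Lib.Helper14.FlatStage (Tmap)

section flatEnd
variable (R : Type u) [CommRing R] (P : Type u) [AddCommGroup P] [Module R P]
  [Module.Finite R P] [Module.Projective R P]

lemma projective_end : Module.Projective R (Module.End R P) := by
  obtain ⟨n, π, σ, -, -, hπσ⟩ := Module.Finite.exists_comp_eq_id_of_projective R P
  let i : Module.End R P →ₗ[R] ((Fin n → R) →ₗ[R] (Fin n → R)) :=
    { toFun := fun φ => σ ∘ₗ φ ∘ₗ π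
      map_add' := fun φ ψ => by ext; simp
      map_smul' := fun r φ => by ext; simp }
  let s : ((Fin n → R) →ₗ[R] (Fin n → R)) →ₗ[R] Module.End R P :=
    { toFun := fun ψ => π ∘ₗ ψ ∘ₗ σ
      map_add' := fun φ ψ => by ext; simp
      map_smul' := fun r φ => by ext; simp }
  refine Module.Projective.of_split i s ?_
  ext φ x
  have h : ∀ y, π (σ y) = y := fun y => LinearMap.congr_fun hπσ y
  simp [i, s, h]

lemma flat_end : Module.Flat R (Module.End R P) := by
  have := projective_end R P
  infer_instance

end flatEnd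

section alt
variable (R : Type u) [CommRing R] (P : Type u) [AddCommGroup P] [Module R P] (d : ℕ)

/-- the class of a pure tensor modulo `altSpan`, as an alternating map -/
noncomputable def altMap : P [⋀^Fin d]→ₗ[R] ((⨂[R] _ : Fin d, P) ⧸ SymTen.altSpan R P d) :=
  { (SymTen.altSpan R P d).mkQ.compMultilinearMap (PiTensorProduct.tprod R) with
    map_eq_zero_of_eq' := fun v i j hv hij => by
      show (SymTen.altSpan R P d).mkQ (PiTensorProduct.tprod R v) = 0
      rw [Submodule.mkQ_apply, Submodule.Quotient.mk_eq_zero]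
      exact Submodule.subset_span ⟨v, i, j, hij, hv, rfl⟩ }

lemma altMap_apply (v : Fin d → P) :
    altMap R P d v = Submodule.Quotient.mk (PiTensorProduct.tprod R v) := rfl

/-- an orbit sum of pure tensors of endomorphisms maps alternating generators into `altSpan` -/
theorem orbit_mem {m : ℕ} (e : Fin m → Module.End R P) (μ : Fin m →₀ ℕ) (p : Fin d → P)
    (i0 j0 : Fin d) (hij : i0 ≠ j0) (hp : p i0 = p j0) :
    ∑ c ∈ Finset.univ.filter (fun c : Fin d → Fin m => type c = μ),
      PiTensorProduct.tprod R (fun i => e (c i) (p i)) ∈ SymTen.altSpan R P d := by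
  classical
  rw [← Submodule.Quotient.mk_eq_zero, ← Submodule.mkQ_apply, map_sum]
  simp only [Submodule.mkQ_apply]
  have hps : p ∘ Equiv.swap i0 j0 = p := by
    funext i
    by_cases h1 : i = i0
    · subst h1
      simp [hp]
    · by_cases h2 : i = j0
      · subst h2
        simp [hp]
      · simp [Equiv.swap_apply_of_ne_of_ne h1 h2]
  refine Finset.sum_involution (fun c _ => c ∘ Equiv.swap i0 j0) ?_ ?_ ?_ ?_
  · intro c _
    have h1 : (fun i => e ((c ∘ Equiv.swap i0 j0) i) (p i)) =
        (fun i => e (c i) (p i)) ∘ Equiv.swap i0 j0 := by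
      funext i
      show e (c (Equiv.swap i0 j0 i)) (p i) = e (c (Equiv.swap i0 j0 i)) (p (Equiv.swap i0 j0 i))
      rw [show p (Equiv.swap i0 j0 i) = p i from congrFun hps i]
    rw [h1, ← altMap_apply, ← altMap_apply, add_comm]
    exact AlternatingMap.map_swap_add (altMap R P d) _ hij
  · intro c _ hne hfix
    apply hne
    have hc : c i0 = c j0 := by
      have := congrFun hfix i0
      simpa using this.symm
    rw [← altMap_apply]
    exact (altMap R P d).map_eq_zero_of_eq _ (by rw [hc, hp]) hij
  · intro c hc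
    rw [Finset.mem_filter] at hc ⊢
    exact ⟨Finset.mem_univ _, (type_comp_perm c _).trans hc.2⟩
  · intro c _
    funext i
    simp

end alt


section main
variable (R : Type u) [CommRing R] (A : Type u) [CommRing A] [Algebra R A]
    (P : Type u) [AddCommGroup P] [Module R P] [Module A P] [IsScalarTower R A P] (d : ℕ)

/-- the action of tensors of endomorphisms -/
noncomputable def Lam :
    (⨂[R] _ : Fin d, Module.End R P) →ₗ[R] Module.End R (⨂[R] _ : Fin d, P) :=
  PiTensorProduct.lift (PiTensorProduct.mapMultilinear R (fun _ : Fin d => P) (fun _ : Fin d => P))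

lemma Lam_tprod (ε : Fin d → Module.End R P) (p : Fin d → P) :
    Lam R P d (PiTensorProduct.tprod R ε) (PiTensorProduct.tprod R p) =
      PiTensorProduct.tprod R (fun i => ε i (p i)) := by
  rw [Lam, PiTensorProduct.lift.tprod, PiTensorProduct.mapMultilinear_apply,
    PiTensorProduct.map_tprod]

/-- scalar multiplication as a linear map into endomorphisms -/
noncomputable def lsm : A →ₗ[R] Module.End R P :=
  (Algebra.lsmul R R P : A →ₐ[R] Module.End R P).toLinearMap

lemma tpowAct_eq (a : ⨂[R] _ : Fin d, A) :
    SymTen.tpowAct R A P d a = Lam R P d (PiTensorProduct.map (fun _ => lsm R A P) a) := by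
  rw [Lam, ← LinearMap.comp_apply, PiTensorProduct.lift_comp_map]
  rfl

lemma Lam_symT_mem {m : ℕ} (u : (Fin m → R) →ₗ[R] Module.End R P) (μ : Fin m →₀ ℕ)
    (x : ⨂[R] _ : Fin d, P) (hx : x ∈ SymTen.altSpan R P d) :
    Lam R P d (Tmap d u (symT R d m μ)) x ∈ SymTen.altSpan R P d := by
  classical
  have hle : SymTen.altSpan R P d ≤
      (SymTen.altSpan R P d).comap (Lam R P d (Tmap d u (symT R d m μ))) := by
    rw [SymTen.altSpan, Submodule.span_le]
    rintro _ ⟨p, i0, j0, hij, hp, rfl⟩
    rw [SetLike.mem_coe, Submodule.mem_comap, symT, map_sum, map_sum, LinearMap.sum_apply]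
    have h1 : ∀ c : Fin d → Fin m, Lam R P d (Tmap d u (bTb R d m c)) (PiTensorProduct.tprod R p) =
        PiTensorProduct.tprod R (fun i => (u (Pi.single (c i) (1 : R))) (p i)) := by
      intro c
      rw [bTb_apply, Tmap, PiTensorProduct.map_tprod, Lam_tprod]
    simp only [h1]
    exact orbit_mem R P d (fun k => u (Pi.single k (1 : R))) μ p i0 j0 hij hp
  exact hle hx

theorem tpowAct_mem [Module.Finite R P] [Module.Projective R P]
    (a : ⨂[R] _ : Fin d, A) (ha : a ∈ SymTen.TS R A d)
    (x : ⨂[R] _ : Fin d, P) (hx : x ∈ SymTen.altSpan R P d) :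
    SymTen.tpowAct R A P d a x ∈ SymTen.altSpan R P d := by
  classical
  have := flat_end R P
  set t := PiTensorProduct.map (fun _ : Fin d => lsm R A P) a with ht
  have htsym : ∀ σ : Equiv.Perm (Fin d),
      PiTensorProduct.reindex R (fun _ : Fin d => Module.End R P) σ t = t := by
    intro σ
    have h := PiTensorProduct.map_reindex (fun _ : Fin d => lsm R A P) σ a
    rw [ha σ] at h
    exact h.symm
  obtain ⟨m, u, z₀, hz0⟩ := FlatStage.exists_symm_rep_family_fin (A := R)
    (M := Module.End R P) d ({()} : Finset Unit) (fun _ => t) (fun _ _ => htsym)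
  obtain ⟨hsym, hmap⟩ := hz0 () (Finset.mem_singleton_self _)
  have hdec := symm_decomp R d m hsym
  rw [tpowAct_eq, ← ht, ← hmap, hdec, map_sum, map_sum, LinearMap.sum_apply]
  apply Submodule.sum_mem
  intro c _
  rw [map_smul, map_smul, LinearMap.smul_apply]
  exact Submodule.smul_mem _ _ (Lam_symT_mem R P d u _ x hx)

end main

end Groth.Agent.Lib.Helper14.TSAlt
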