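import Mathlib
import Groth.Prelude.Def_SymTen

/-!
# Tensor powers and symmetric tensors commute with filtered colimits (helper14)
-/

set_option autoImplicit false
universe u
open scoped TensorProduct

namespace Groth.Agent.Lib.Helper14.TSColim

section tmap
variable (A : Type u) [CommRing A] {B C D : Type u} [CommRing B] [Algebra A B] [CommRing C]
  [Algebra A C] [CommRing D] [Algebra A D] (d : ℕ)

lemma tmap_comp (f : B →ₐ[A] C) (g : C →ₐ[A] D) (x : ⨂[A] _ : Fin d, B) :
    SymTen.tmap A d g (SymTen.tmap A d f x) = SymTen.tmap A d (g.comp f) x := by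
  induction x using PiTensorProduct.induction_on with
  | smul_tprod r v => simp
  | add x y hx hy => simp [hx, hy]

lemma tmap_id (x : ⨂[A] _ : Fin d, B) : SymTen.tmap A d (AlgHom.id A B) x = x := by
  induction x using PiTensorProduct.induction_on with
  | smul_tprod r v => simp
  | add x y hx hy => simp [hx, hy]

end tmap

section colim
variable {A : Type u} [CommRing A] {B : Type u} [CommRing B] [Algebra A B]
  {ι : Type u} [Preorder ι] [IsDirected ι (fun i j => i ≤ j)] [Nonempty ι]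
  (Bi : ι → Type u) [∀ i, CommRing (Bi i)] [∀ i, Algebra A (Bi i)]
  (t : ∀ i j : ι, i ≤ j → (Bi i →ₐ[A] Bi j)) (φ : ∀ i : ι, Bi i →ₐ[A] B)

/-- the hypotheses saying that `B` is the filtered colimit of the `Bi` -/
structure IsColim : Prop where
  hcomp : ∀ (i j : ι) (h : i ≤ j), (φ j).comp (t i j h) = φ i
  hsurj : ∀ b : B, ∃ (i : ι) (x : Bi i), φ i x = b
  hzero : ∀ (i : ι) (x : Bi i), φ i x = 0 → ∃ (j : ι) (h : i ≤ j), t i j h x = 0
  hid : ∀ (i : ι) (h : i ≤ i), t i i h = AlgHom.id A (Bi i)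
  htrans : ∀ (i j k : ι) (hij : i ≤ j) (hjk : j ≤ k),
    (t j k hjk).comp (t i j hij) = t i k (hij.trans hjk)

variable {Bi t φ}

lemma IsColim.φ_t (H : IsColim Bi t φ) {i j : ι} (h : i ≤ j) (x : Bi i) :
    φ j (t i j h x) = φ i x := by
  rw [← AlgHom.comp_apply, H.hcomp]

lemma IsColim.t_t (H : IsColim Bi t φ) {i j k : ι} (hij : i ≤ j) (hjk : j ≤ k) (x : Bi i) :
    t j k hjk (t i j hij x) = t i k (hij.trans hjk) x := by
  rw [← AlgHom.comp_apply, H.htrans]

/-- two tuples at the same stage with the same images agree at a later stage -/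
lemma IsColim.exists_stage_eq (H : IsColim Bi t φ) {d : ℕ} {j : ι} (x x' : Fin d → Bi j)
    (h : ∀ k, φ j (x k) = φ j (x' k)) :
    ∃ (j' : ι) (hj : j ≤ j'), ∀ k, t j j' hj (x k) = t j j' hj (x' k) := by
  have h1 : ∀ k, ∃ (jk : ι) (hk : j ≤ jk), t j jk hk (x k - x' k) = 0 := fun k =>
    H.hzero j _ (by rw [map_sub, h k, sub_self])
  choose jk hk hjk using h1
  obtain ⟨j', hj'⟩ := Finite.exists_le (fun o : Option (Fin d) => o.elim j jk)
  refine ⟨j', hj' none, fun k => ?_⟩
  have h2 : t j j' (hj' none) (x k - x' k) = 0 := by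
    rw [← H.t_t (hk k) (hj' (some k)), hjk, map_zero]
  rw [map_sub] at h2
  exact sub_eq_zero.mp h2

/-- every tuple lifts to some stage -/
lemma IsColim.exists_lift_tuple (H : IsColim Bi t φ) {d : ℕ} (b : Fin d → B) :
    ∃ (j : ι) (x : Fin d → Bi j), ∀ k, φ j (x k) = b k := by
  choose ik xk hxk using fun k => H.hsurj (b k)
  obtain ⟨j, hj⟩ := Finite.exists_le ik
  exact ⟨j, fun k => t (ik k) j (hj k) (xk k), fun k => by rw [H.φ_t, hxk]⟩

end colim

section dlim
variable {A : Type u} [CommRing A] {B : Type u} [CommRing B] [Algebra A B]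
  {ι : Type u} [Preorder ι] [IsDirected ι (fun i j => i ≤ j)] [Nonempty ι] [DecidableEq ι]
  {Bi : ι → Type u} [∀ i, CommRing (Bi i)] [∀ i, Algebra A (Bi i)]
  {t : ∀ i j : ι, i ≤ j → (Bi i →ₐ[A] Bi j)} {φ : ∀ i : ι, Bi i →ₐ[A] B} (d : ℕ)

/-- the direct limit of the tensor powers -/
abbrev Lim (t : ∀ i j : ι, i ≤ j → (Bi i →ₐ[A] Bi j)) (d : ℕ) : Type u :=
  Module.DirectLimit (fun i => ⨂[A] _ : Fin d, Bi i)
    (fun i j h => (SymTen.tmap A d (t i j h)).toLinearMap)

/-- the structure map into the direct limit -/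
noncomputable abbrev ofL (t : ∀ i j : ι, i ≤ j → (Bi i →ₐ[A] Bi j)) (d : ℕ) (i : ι) :
    (⨂[A] _ : Fin d, Bi i) →ₗ[A] Lim t d :=
  Module.DirectLimit.of A ι (fun i => ⨂[A] _ : Fin d, Bi i)
    (fun i j h => (SymTen.tmap A d (t i j h)).toLinearMap) i

lemma ofL_tmap {i j : ι} (h : i ≤ j) (y : ⨂[A] _ : Fin d, Bi i) :
    ofL t d j (SymTen.tmap A d (t i j h) y) = ofL t d i y :=
  Module.DirectLimit.of_f

/-- well-definedness: the class of a pure tensor depends only on the images in `B` -/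
lemma IsColim.ofL_tprod_eq (H : IsColim Bi t φ) {j j' : ι} (x : Fin d → Bi j) (x' : Fin d → Bi j')
    (h : ∀ k, φ j (x k) = φ j' (x' k)) :
    ofL t d j (PiTensorProduct.tprod A x) = ofL t d j' (PiTensorProduct.tprod A x') := by
  obtain ⟨j₂, h1, h2⟩ := exists_ge_ge j j'
  obtain ⟨j₃, h3, h4⟩ := H.exists_stage_eq (fun k => t j j₂ h1 (x k)) (fun k => t j' j₂ h2 (x' k))
    (fun k => by rw [H.φ_t, H.φ_t, h k])
  rw [← ofL_tmap d (h1.trans h3), ← ofL_tmap d (h2.trans h3), SymTen.tmap_tprod, SymTen.tmap_tprod]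
  congr 2
  funext k
  rw [← H.t_t h1 h3, ← H.t_t h2 h3]
  exact h4 k

end dlim

section mu
variable {A : Type u} [CommRing A] {B : Type u} [CommRing B] [Algebra A B]
  {ι : Type u} [Preorder ι] [IsDirected ι (fun i j => i ≤ j)] [Nonempty ι] [DecidableEq ι]
  {Bi : ι → Type u} [∀ i, CommRing (Bi i)] [∀ i, Algebra A (Bi i)]
  {t : ∀ i j : ι, i ≤ j → (Bi i →ₐ[A] Bi j)} {φ : ∀ i : ι, Bi i →ₐ[A] B} (d : ℕ)
  (H : IsColim Bi t φ)

/-- the class in the direct limit of a tuple of elements of `B` -/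
noncomputable def muFun (b : Fin d → B) : Lim t d :=
  ofL t d (H.exists_lift_tuple b).choose
    (PiTensorProduct.tprod A (H.exists_lift_tuple b).choose_spec.choose)

lemma muFun_eq (b : Fin d → B) {j : ι} (x : Fin d → Bi j) (hx : ∀ k, φ j (x k) = b k) :
    muFun d H b = ofL t d j (PiTensorProduct.tprod A x) :=
  H.ofL_tprod_eq d _ _ (fun k => by
    rw [(H.exists_lift_tuple b).choose_spec.choose_spec k, hx k])

/-- a common stage for a tuple and two more elements -/
lemma IsColim.exists_lift_tuple₂ (H : IsColim Bi t φ) (b : Fin d → B) (c c' : B) :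
    ∃ (j : ι) (x : Fin d → Bi j) (y y' : Bi j), (∀ k, φ j (x k) = b k) ∧ φ j y = c ∧
      φ j y' = c' := by
  obtain ⟨j₀, x₀, hx₀⟩ := H.exists_lift_tuple b
  obtain ⟨j₁, y₁, hy₁⟩ := H.hsurj c
  obtain ⟨j₂, y₂, hy₂⟩ := H.hsurj c'
  obtain ⟨j₃, h1, h2⟩ := exists_ge_ge j₀ j₁
  obtain ⟨j, h3, h4⟩ := exists_ge_ge j₃ j₂
  exact ⟨j, fun k => t j₀ j (h1.trans h3) (x₀ k), t j₁ j (h2.trans h3) y₁, t j₂ j h4 y₂,
    fun k => by rw [H.φ_t, hx₀], by rw [H.φ_t, hy₁], by rw [H.φ_t, hy₂]⟩

/-- the multilinear map `B^d → lim ⨂^d B_i` -/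
noncomputable def mu : MultilinearMap A (fun _ : Fin d => B) (Lim t d) where
  toFun := muFun d H
  map_update_add' := by
    intro inst m k c c'
    obtain ⟨j, x, y, y', hx, hy, hy'⟩ := H.exists_lift_tuple₂ d m c c'
    have e : inst = instDecidableEqFin d := Subsingleton.elim _ _
    subst e
    rw [muFun_eq d H (Function.update m k (c + c')) (Function.update x k (y + y')),
      muFun_eq d H (Function.update m k c) (Function.update x k y),
      muFun_eq d H (Function.update m k c') (Function.update x k y'),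
      (PiTensorProduct.tprod A).map_update_add, map_add]
    · intro l
      by_cases hl : l = k
      · subst hl; simp [hy']
      · simp [Function.update_of_ne hl, hx]
    · intro l
      by_cases hl : l = k
      · subst hl; simp [hy]
      · simp [Function.update_of_ne hl, hx]
    · intro l
      by_cases hl : l = k
      · subst hl; simp [hy, hy']
      · simp [Function.update_of_ne hl, hx]
  map_update_smul' := by
    intro inst m k a c
    obtain ⟨j, x, y, -, hx, hy, -⟩ := H.exists_lift_tuple₂ d m c c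
    have e : inst = instDecidableEqFin d := Subsingleton.elim _ _
    subst e
    rw [muFun_eq d H (Function.update m k (a • c)) (Function.update x k (a • y)),
      muFun_eq d H (Function.update m k c) (Function.update x k y),
      (PiTensorProduct.tprod A).map_update_smul, map_smul]
    · intro l
      by_cases hl : l = k
      · subst hl; simp [hy]
      · simp [Function.update_of_ne hl, hx]
    · intro l
      by_cases hl : l = k
      · subst hl; simp [hy]
      · simp [Function.update_of_ne hl, hx]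

end mu

section main
variable {A : Type u} [CommRing A] {B : Type u} [CommRing B] [Algebra A B]
  {ι : Type u} [Preorder ι] [IsDirected ι (fun i j => i ≤ j)] [Nonempty ι] [DecidableEq ι]
  {Bi : ι → Type u} [∀ i, CommRing (Bi i)] [∀ i, Algebra A (Bi i)]
  {t : ∀ i j : ι, i ≤ j → (Bi i →ₐ[A] Bi j)} {φ : ∀ i : ι, Bi i →ₐ[A] B} (d : ℕ)
  (H : IsColim Bi t φ)

/-- `lim ⨂^d B_i → ⨂^d B` -/
noncomputable def Phi : Lim t d →ₗ[A] (⨂[A] _ : Fin d, B) :=
  Module.DirectLimit.lift A ι (fun i => ⨂[A] _ : Fin d, Bi i)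
    (fun i j h => (SymTen.tmap A d (t i j h)).toLinearMap)
    (fun i => (SymTen.tmap A d (φ i)).toLinearMap)
    (fun i j h x => by
      show SymTen.tmap A d (φ j) (SymTen.tmap A d (t i j h) x) = SymTen.tmap A d (φ i) x
      rw [tmap_comp, H.hcomp])

lemma Phi_ofL (i : ι) (y : ⨂[A] _ : Fin d, Bi i) :
    Phi d H (ofL t d i y) = SymTen.tmap A d (φ i) y :=
  Module.DirectLimit.lift_of _ _ _

/-- `⨂^d B → lim ⨂^d B_i` -/
noncomputable def Psi : (⨂[A] _ : Fin d, B) →ₗ[A] Lim t d := PiTensorProduct.lift (mu d H)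

lemma Psi_Phi (z : Lim t d) : Psi d H (Phi d H z) = z := by
  induction z using Module.DirectLimit.induction_on with
  | ih i y =>
    show Psi d H (Phi d H (ofL t d i y)) = ofL t d i y
    rw [Phi_ofL]
    induction y using PiTensorProduct.induction_on with
    | smul_tprod r v =>
      rw [map_smul, map_smul, map_smul, SymTen.tmap_tprod, Psi, PiTensorProduct.lift.tprod]
      congr 1
      exact muFun_eq d H _ v (fun k => rfl)
    | add x y hx hy => rw [map_add, map_add, hx, hy, map_add]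

include H in
/-- vanishing in the colimit is detected at a finite stage -/
theorem exists_tmap_eq_zero {i : ι} (y : ⨂[A] _ : Fin d, Bi i)
    (hy : SymTen.tmap A d (φ i) y = 0) : ∃ (j : ι) (h : i ≤ j), SymTen.tmap A d (t i j h) y = 0 := by
  haveI : DirectedSystem (fun i => ⨂[A] _ : Fin d, Bi i)
      (fun i j h => (SymTen.tmap A d (t i j h)).toLinearMap) :=
    ⟨fun i x => by
      show SymTen.tmap A d (t i i le_rfl) x = x
      rw [H.hid, tmap_id],
     fun k j i hij hjk x => by
      show SymTen.tmap A d (t j k hjk) (SymTen.tmap A d (t i j hij) x) =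
        SymTen.tmap A d (t i k (hij.trans hjk)) x
      rw [tmap_comp, H.htrans]⟩
  have h1 : ofL t d i y = 0 := by
    rw [← Psi_Phi d H (ofL t d i y), Phi_ofL, hy, map_zero]
  exact Module.DirectLimit.of.zero_exact h1

include H in
/-- every tensor comes from a finite stage -/
theorem exists_tmap_eq (z : ⨂[A] _ : Fin d, B) :
    ∃ (i : ι) (y : ⨂[A] _ : Fin d, Bi i), SymTen.tmap A d (φ i) y = z := by
  induction z using PiTensorProduct.induction_on with
  | smul_tprod r v =>
    obtain ⟨j, x, hx⟩ := H.exists_lift_tuple v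
    refine ⟨j, r • PiTensorProduct.tprod A x, ?_⟩
    rw [map_smul, SymTen.tmap_tprod]
    congr 2
    funext k
    exact hx k
  | add z z' hz hz' =>
    obtain ⟨i, y, rfl⟩ := hz
    obtain ⟨i', y', rfl⟩ := hz'
    obtain ⟨j, h1, h2⟩ := exists_ge_ge i i'
    refine ⟨j, SymTen.tmap A d (t i j h1) y + SymTen.tmap A d (t i' j h2) y', ?_⟩
    rw [map_add, tmap_comp, tmap_comp, H.hcomp, H.hcomp]

end main

section ts
variable {A : Type u} [CommRing A] {B : Type u} [CommRing B] [Algebra A B]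
  {ι : Type u} [Preorder ι] [IsDirected ι (fun i j => i ≤ j)] [Nonempty ι]
  {Bi : ι → Type u} [∀ i, CommRing (Bi i)] [∀ i, Algebra A (Bi i)]
  {t : ∀ i j : ι, i ≤ j → (Bi i →ₐ[A] Bi j)} {φ : ∀ i : ι, Bi i →ₐ[A] B}

theorem ts_colim (H : IsColim Bi t φ) (d : ℕ) :
    (∀ z : SymTen.TS A B d, ∃ (i : ι) (y : SymTen.TS A (Bi i) d), SymTen.TSmap A d (φ i) y = z) ∧
      ∀ (i : ι) (y : SymTen.TS A (Bi i) d), SymTen.TSmap A d (φ i) y = 0 →
        ∃ (j : ι) (h : i ≤ j), SymTen.TSmap A d (t i j h) y = 0 := by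
  classical
  constructor
  · intro z
    obtain ⟨i, y, hy⟩ := exists_tmap_eq d H z.1
    have h1 : ∀ σ : Equiv.Perm (Fin d), ∃ (j : ι) (h : i ≤ j), SymTen.tmap A d (t i j h)
        (PiTensorProduct.reindex A (fun _ : Fin d => Bi i) σ y - y) = 0 := by
      intro σ
      apply exists_tmap_eq_zero d H
      rw [map_sub, SymTen.tmap_reindex, hy, z.2 σ, sub_self]
    choose jσ hσ hjσ using h1
    obtain ⟨j, hj⟩ := Finite.exists_le jσ
    have hij : i ≤ j := (hσ 1).trans (hj 1)
    have h2 : ∀ σ : Equiv.Perm (Fin d), PiTensorProduct.reindex A (fun _ : Fin d => Bi j) σ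
        (SymTen.tmap A d (t i j hij) y) = SymTen.tmap A d (t i j hij) y := by
      intro σ
      have h3 : SymTen.tmap A d (t i j hij)
          (PiTensorProduct.reindex A (fun _ : Fin d => Bi i) σ y - y) = 0 := by
        rw [← H.htrans i (jσ σ) j (hσ σ) (hj σ), ← tmap_comp, hjσ, map_zero]
      rw [map_sub, SymTen.tmap_reindex] at h3
      exact sub_eq_zero.mp h3
    refine ⟨j, ⟨SymTen.tmap A d (t i j hij) y, h2⟩, Subtype.ext ?_⟩
    show SymTen.tmap A d (φ j) (SymTen.tmap A d (t i j hij) y) = z.1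
    rw [tmap_comp, H.hcomp, hy]
  · intro i y hy
    have h1 : SymTen.tmap A d (φ i) y.1 = 0 := congrArg Subtype.val hy
    obtain ⟨j, h, hj⟩ := exists_tmap_eq_zero d H y.1 h1
    exact ⟨j, h, Subtype.ext hj⟩

end ts

end Groth.Agent.Lib.Helper14.TSColim
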