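/-
Helper14TSResidue2: trivial residue field extensions for `Γ^d_A(B) → TS^d_A(B)`
(`residue_surjective`), and the generic ring-theoretic lemmas for a ring map `f` with
`ker f` killed by `n`-th powers and `y ^ n ∈ range f` (`isIntegral_of_pow_mem_range`,
`comap_injective_of_pow_mem_range`, `comap_surjective_of_pow`).
-/
import Mathlib
import Groth.Prelude.Def_PolLaw
import Groth.Prelude.Def_PolLaw2
import Groth.Agent.Lib.Helper14TSResidue
import Groth.Agent.Lib.Helper14NormDesc3

set_option autoImplicit false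
universe u
open TensorProduct

namespace Groth.Agent.Lib.Helper14.TSResidue

open Groth.Agent.Lib.Helper14.PolLawExt (P Hyp)
open Groth.Agent.Lib.Helper14.GammaFin (gen cf)
open Groth.Agent.Lib.Helper14.TSFree
open Groth.Agent.Lib.Helper14.TSGamma
open Groth.Agent.Lib.Helper14.NormDesc (IsCanon phi_gamma)

section general

lemma residue_surj_of_forall {R S : Type u} [CommRing R] [CommRing S] (f : R →+* S) (J : Ideal S)
    [J.IsPrime]
    (h : ∀ y : S, algebraMap S J.ResidueField y ∈
      Set.range (Ideal.ResidueField.map (J.comap f) J f rfl)) :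
    Function.Surjective (Ideal.ResidueField.map (J.comap f) J f rfl) := by
  intro z
  obtain ⟨x, y, hy, rfl⟩ := IsFractionRing.div_surjective (A := S ⧸ J) z
  obtain ⟨x', rfl⟩ := Ideal.Quotient.mk_surjective x
  obtain ⟨y', rfl⟩ := Ideal.Quotient.mk_surjective y
  obtain ⟨a, ha⟩ := h x'
  obtain ⟨b, hb⟩ := h y'
  refine ⟨a / b, ?_⟩
  rw [map_div₀, ha, hb]
  rfl

end general

section symB
variable {A : Type u} [CommRing A] {B : Type u} [CommRing B] [Algebra A B] (d : ℕ)

lemma symB_eq_zero_or {m : ℕ} (b : Fin m → B) (ν : Fin m →₀ ℕ) :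
    (∃ c : Fin d → Fin m, type c = ν) ∨ symB (A := A) d b ν = 0 := by
  classical
  by_cases h : ∃ c : Fin d → Fin m, type c = ν
  · exact Or.inl h
  · right
    rw [symB]
    apply Finset.sum_eq_zero
    intro c hc
    exact absurd ⟨c, (Finset.mem_filter.mp hc).2⟩ h

end symB

section main
variable {A : Type u} [CommRing A] {B C : Type u} [CommRing B] [Algebra A B] [CommRing C]
  [Algebra A C] {d : ℕ} {γ : PolLaw.MulLaw A B C d} {φ : C →ₐ[A] SymTen.TS A B d}

/-- `φ` maps the coefficients of `γ` to the orbit sums -/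
lemma phi_cf (hφ : IsCanon γ φ) {m : ℕ} (b : Fin m → B) (c : Fin d → Fin m) :
    ((φ (cf γ b (type c)) : SymTen.TS A B d) : ⨂[A] _ : Fin d, B) = symB d b (type c) := by
  classical
  have h1 : φ (cf γ b (type c)) = cf (tau (A := A) (B := B) d) b (type c) := by
    rw [cf, cf, ← phi_gamma hφ, GammaModGen.equivFinsupp_lTensor]
    rfl
  rw [h1, cf_tau]

end main


section main2
variable {A : Type u} [CommRing A] {B C : Type u} [CommRing B] [Algebra A B] [CommRing C]
  [Algebra A C] {d : ℕ} {γ : PolLaw.MulLaw A B C d} {φ : C →ₐ[A] SymTen.TS A B d}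

/-- **trivial residue field extensions** for `Γ^d_A(B) → TS^d_A(B)` -/
theorem residue_surjective (hφ : IsCanon γ φ) (q : Ideal (SymTen.TS A B d)) [q.IsPrime] :
    Function.Surjective
      (Ideal.ResidueField.map (q.comap φ.toRingHom) q φ.toRingHom rfl) := by
  classical
  apply residue_surj_of_forall
  intro y
  -- a prime of the tensor power over `q`
  have hint : Algebra.IsIntegral (SymTen.TS A B d) (⨂[A] _ : Fin d, B) :=
    TSFinType.isIntegral_TS A B d
  have hker : (⊥ : Ideal (⨂[A] _ : Fin d, B)).comap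
      (algebraMap (SymTen.TS A B d) (⨂[A] _ : Fin d, B)) ≤ q := by
    intro t ht
    have : t = 0 := Subtype.val_injective (by simpa using ht)
    rw [this]; exact zero_mem _
  obtain ⟨Q, -, hQp, hQ⟩ := Ideal.exists_ideal_over_prime_of_isIntegral q
    (⊥ : Ideal (⨂[A] _ : Fin d, B)) hker
  set p : Ideal C := q.comap φ.toRingHom with hp
  set ι : p.ResidueField →+* q.ResidueField :=
    Ideal.ResidueField.map p q φ.toRingHom rfl with hι
  set j : q.ResidueField →+* Q.ResidueField :=
    Ideal.ResidueField.map q Q (algebraMap (SymTen.TS A B d) (⨂[A] _ : Fin d, B)) hQ.symm with hj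
  let algΩk : Algebra p.ResidueField Q.ResidueField := (j.comp ι).toAlgebra
  let algΩ : Algebra A Q.ResidueField :=
    ((algebraMap (⨂[A] _ : Fin d, B) Q.ResidueField).comp
      (algebraMap A (⨂[A] _ : Fin d, B))).toAlgebra
  have hjy : ∀ t : SymTen.TS A B d, j (algebraMap _ q.ResidueField t) =
      algebraMap (⨂[A] _ : Fin d, B) Q.ResidueField (t : ⨂[A] _ : Fin d, B) := by
    intro t
    rw [hj, Ideal.ResidueField.map_algebraMap]
    rfl
  have hιc : ∀ c : C, ι (algebraMap C p.ResidueField c) =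
      algebraMap _ q.ResidueField (φ c) := by
    intro c
    rw [hι, Ideal.ResidueField.map_algebraMap]
    rfl
  have tower : IsScalarTower A p.ResidueField Q.ResidueField := by
    apply IsScalarTower.of_algebraMap_eq
    intro a
    show algebraMap (⨂[A] _ : Fin d, B) Q.ResidueField (algebraMap A (⨂[A] _ : Fin d, B) a) =
      j (ι (algebraMap A p.ResidueField a))
    rw [IsScalarTower.algebraMap_apply A C p.ResidueField, hιc, hjy, AlgHom.commutes]
    rfl
  let x : (⨂[A] _ : Fin d, B) →ₐ[A] Q.ResidueField :=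
    { (algebraMap (⨂[A] _ : Fin d, B) Q.ResidueField) with commutes' := fun a => rfl }
  have : Module.Flat p.ResidueField (p.ResidueField ⊗[A] B) := inferInstance
  have hx := mem_range_of_symB (k := p.ResidueField) x (fun m b ν => by
    rcases symB_eq_zero_or (A := A) d b ν with ⟨c, rfl⟩ | h0
    · refine ⟨algebraMap C p.ResidueField (cf γ b (type c)), ?_⟩
      show j (ι (algebraMap C p.ResidueField (cf γ b (type c)))) = _
      rw [hιc, hjy, phi_cf hφ]
      rfl
    · rw [h0, map_zero]
      exact ⟨0, map_zero _⟩) (y : ⨂[A] _ : Fin d, B) y.2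
  obtain ⟨a, ha⟩ := hx
  refine ⟨a, ?_⟩
  apply j.injective
  rw [hjy]
  exact ha

end main2

section powhom
variable {R S : Type u} [CommRing R] [CommRing S] (f : R →+* S) (n : ℕ)

lemma isIntegral_of_pow_mem_range (hn : n ≠ 0) (hrange : ∀ y : S, y ^ n ∈ f.range) :
    f.IsIntegral := by
  intro y
  obtain ⟨x, hx⟩ := hrange y
  refine ⟨Polynomial.X ^ n - Polynomial.C x, Polynomial.monic_X_pow_sub_C x hn, ?_⟩
  simp [Polynomial.eval₂_sub, Polynomial.eval₂_pow, hx]

lemma comap_injective_of_pow_mem_range (hn : n ≠ 0) (hrange : ∀ y : S, y ^ n ∈ f.range) :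
    Function.Injective (PrimeSpectrum.comap f) := by
  intro q1 q2 h
  have key : ∀ q1 q2 : PrimeSpectrum S, PrimeSpectrum.comap f q1 = PrimeSpectrum.comap f q2 →
      q1.asIdeal ≤ q2.asIdeal := by
    intro q1 q2 h y hy
    obtain ⟨x, hx⟩ := hrange y
    have h1 : x ∈ (PrimeSpectrum.comap f q1).asIdeal := by
      show f x ∈ q1.asIdeal
      rw [hx]
      exact Ideal.pow_mem_of_mem _ hy n (Nat.pos_of_ne_zero hn)
    rw [h] at h1
    have h2 : y ^ n ∈ q2.asIdeal := by
      rw [← hx]; exact h1
    exact q2.isPrime.mem_of_pow_mem n h2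
  exact PrimeSpectrum.ext (le_antisymm (key q1 q2 h) (key q2 q1 h.symm))

lemma comap_surjective_of_pow (hn : n ≠ 0) (hker : ∀ x : R, f x = 0 → x ^ n = 0)
    (hrange : ∀ y : S, y ^ n ∈ f.range) :
    Function.Surjective (PrimeSpectrum.comap f) := by
  have hint := isIntegral_of_pow_mem_range f n hn hrange
  intro ⟨p, hp⟩
  algebraize [f]
  have hle : (⊥ : Ideal S).comap (algebraMap R S) ≤ p := by
    intro x hx
    have h0 : f x = 0 := by
      have : (algebraMap R S) x = 0 := by simpa using hx
      exact this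
    have := hker x h0
    exact hp.mem_of_pow_mem n (this ▸ zero_mem _)
  obtain ⟨Q, -, hQ, hQp⟩ := Ideal.exists_ideal_over_prime_of_isIntegral p (⊥ : Ideal S) hle
  exact ⟨⟨Q, hQ⟩, PrimeSpectrum.ext hQp⟩

end powhom

end Groth.Agent.Lib.Helper14.TSResidue
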