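import Mathlib
import Groth.Agent.Lib.Helper28GeomRed1
import Groth.Agent.Lib.Helper24G0

set_option autoImplicit false
set_option linter.unusedVariables false
set_option linter.unusedSectionVars false
set_option linter.style.haveILetI false

universe u

namespace Groth.Agent.Lib.Helper14TameUnif

open Polynomial IsLocalRing

theorem X_pow_sub_C_irreducible (A : Type u) [CommRing A] [IsDomain A] [IsDiscreteValuationRing A]
    (a : A) (ha : Irreducible a) (n : ℕ) (hn : 0 < n) : Irreducible (X ^ n - C a : A[X]) := by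
  have hmax : maximalIdeal A = Ideal.span {a} :=
    (IsDiscreteValuationRing.irreducible_iff_uniformizer a).mp ha
  have hmonic : (X ^ n - C a : A[X]).Monic := monic_X_pow_sub_C a hn.ne'
  have hdeg : (X ^ n - C a : A[X]).natDegree = n := natDegree_X_pow_sub_C
  have hcoeff : ∀ i, i < n → (X ^ n - C a : A[X]).coeff i = - (if i = 0 then a else 0) := by
    intro i hi
    rw [coeff_sub, coeff_X_pow, if_neg (by omega), zero_sub, coeff_C]
  refine Polynomial.IsEisensteinAt.irreducible (𝓟 := maximalIdeal A) ?_ inferInstance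
    hmonic.isPrimitive (by rw [hdeg]; exact hn)
  refine ⟨?_, ?_, ?_⟩
  · rw [hmonic.leadingCoeff]
    exact fun h => (Ideal.ne_top_iff_one _).mp (maximalIdeal.isMaximal A).ne_top h
  · intro i hi
    rw [hdeg] at hi
    rw [hcoeff i hi, hmax, Ideal.neg_mem_iff]
    split_ifs
    · exact Ideal.mem_span_singleton_self a
    · exact Ideal.zero_mem _
  · rw [hcoeff 0 hn, if_pos rfl, hmax, Ideal.span_singleton_pow,
      Ideal.neg_mem_iff, Ideal.mem_span_singleton]
    rintro ⟨c, hc⟩
    have h1 : a * 1 = a * (a * c) := by rw [mul_one, ← mul_assoc, ← sq]; exact hc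
    have h2 := mul_left_cancel₀ ha.ne_zero h1
    exact ha.not_isUnit (IsUnit.of_mul_eq_one _ h2.symm)

theorem main (A B : Type u) [CommRing A] [IsDomain A] [IsDiscreteValuationRing A]
    [IsAdicComplete (maximalIdeal A) A]
    [CommRing B] [IsDedekindDomain B] [Algebra A B] [Module.Finite A B] [Module.IsTorsionFree A B]
    (M : Ideal B) [M.IsMaximal] (hram : M.ramificationIdx A = Module.finrank A B)
    (hm : IsUnit ((Module.finrank A B : ℕ) : A)) :
    ∃ u : B, u ∈ M ∧ u ∉ M ^ 2 ∧ u ^ Module.finrank A B ∈ (algebraMap A B).range ∧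
      (minpoly A u).natDegree = Module.finrank A B := by
  classical
  haveI hH : HenselianRing A (IsLocalRing.maximalIdeal A) := inferInstance
  haveI : HenselianLocalRing A :=
    { is_henselian := fun f hf a₀ h₁ h₂ =>
        hH.is_henselian f hf a₀ h₁ (h₂.map (Ideal.Quotient.mk (IsLocalRing.maximalIdeal A))) }
  haveI : IsLocalRing B :=
    Groth.Agent.Lib.Helper28.GeomRed.isLocalRing_of_finite_of_isDomain A B
  haveI : HenselianLocalRing B := Groth.Agent.Lib.Helper24G0.henselian_of_finite A B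
  have hM : M = IsLocalRing.maximalIdeal B := IsLocalRing.eq_maximalIdeal ‹_›
  set m := IsLocalRing.maximalIdeal A with hmdef
  have hm0 : m ≠ ⊥ := IsDiscreteValuationRing.not_a_field A
  haveI : Algebra.IsIntegral A B := Algebra.IsIntegral.of_finite A B
  haveI hLO : M.LiesOver m := by
    constructor
    haveI : (M.under A).IsMaximal := Ideal.isMaximal_comap_of_isIntegral_of_isMaximal M
    exact (IsLocalRing.eq_maximalIdeal ‹(M.under A).IsMaximal›).symm
  have hM0 : M ≠ ⊥ := by
    intro h0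
    apply hm0
    have := hLO.over
    rw [this, h0]
    exact Ideal.under_bot A B
  have huniq : ∀ Q ∈ m.primesOver B, Q = M := by
    intro Q hQ
    haveI := hQ.1
    haveI := hQ.2
    haveI : Q.IsMaximal := Ideal.IsMaximal.of_liesOver_isMaximal Q m
    rw [hM]
    exact IsLocalRing.eq_maximalIdeal ‹_›
  have hMmem : M ∈ m.primesOver B := ⟨inferInstance, hLO⟩
  have hmap : Ideal.map (algebraMap A B) m = M ^ M.ramificationIdx A := by
    rw [Ideal.map_algebraMap_eq_finsetProd_pow hm0]
    rw [Finset.prod_eq_single_of_mem M (by simpa using hMmem)]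
    intro Q hQ hne
    exact absurd (huniq Q (by simpa using hQ)) hne
  have hef : M.ramificationIdx A * M.inertiaDeg A = Module.finrank A B := by
    haveI : Fintype (m.primesOver B) := Fintype.ofFinite _
    rw [← Ideal.sum_ramification_inertia_eq_finrank m B]
    rw [Fintype.sum_eq_single (⟨M, hMmem⟩ : m.primesOver B)]
    intro Q hne
    exact absurd (Subtype.ext (huniq Q.1 Q.2)) hne
  obtain ⟨n, hn⟩ : ∃ n : ℕ, n = Module.finrank A B := ⟨_, rfl⟩
  rw [← hn] at hram hm hef ⊢
  have hn0 : 0 < n := by rw [← hram]; exact Ideal.ramificationIdx_pos (R := A) (q := M)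
  have hf1 : M.inertiaDeg A = 1 := by
    rw [hram] at hef
    exact Nat.eq_of_mul_eq_mul_left hn0 (by rw [hef, mul_one])
  -- residue fields agree
  have hres : ∀ b : B, ∃ a : A, b - algebraMap A B a ∈ M := by
    intro b
    have h1 : Module.finrank (A ⧸ m) (B ⧸ M) = 1 := by
      rw [← Ideal.inertiaDeg_eq_of_isMaximal m M]; exact hf1
    letI : Field (A ⧸ m) := Ideal.Quotient.field m
    obtain ⟨c, hc⟩ := (finrank_eq_one_iff_of_nonzero' (1 : B ⧸ M) one_ne_zero).mp h1
      (Ideal.Quotient.mk M b)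
    obtain ⟨a, rfl⟩ := Ideal.Quotient.mk_surjective c
    refine ⟨a, ?_⟩
    rw [← Ideal.Quotient.eq_zero_iff_mem, map_sub, ← hc, Algebra.smul_def, mul_one,
      Ideal.Quotient.algebraMap_mk_of_liesOver, sub_self]
  have hnf : ¬ IsField B := by
    intro hf
    exact hM0 (hM ▸ IsLocalRing.isField_iff_maximalIdeal_eq.mp hf)
  haveI : IsDiscreteValuationRing B :=
    ((IsDiscreteValuationRing.TFAE B hnf).out 2 0).mp (inferInstance : IsDedekindDomain B)
  obtain ⟨π, hπ⟩ := IsDiscreteValuationRing.exists_irreducible B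
  obtain ⟨ϖ, hϖ⟩ := IsDiscreteValuationRing.exists_irreducible A
  have hMπ : M = Ideal.span {π} :=
    hM ▸ (IsDiscreteValuationRing.irreducible_iff_uniformizer π).mp hπ
  have hmϖ : m = Ideal.span {ϖ} := (IsDiscreteValuationRing.irreducible_iff_uniformizer ϖ).mp hϖ
  have hass : Associated (algebraMap A B ϖ) (π ^ n) := by
    rw [← Ideal.span_singleton_eq_span_singleton, ← Ideal.span_singleton_pow, ← hMπ, ← hram,
      ← hmap, hmϖ, Ideal.map_span, Set.image_singleton]
  obtain ⟨w, hw⟩ := hass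
  obtain ⟨c, hc⟩ := hres (w : B)
  have hcu : IsUnit c := by
    by_contra hcn
    have h1 : c ∈ m := (IsLocalRing.mem_maximalIdeal c).mpr hcn
    have h2 : algebraMap A B c ∈ M := by
      rw [hLO.over] at h1; exact h1
    have h3 : (w : B) ∈ M := by
      have := M.add_mem hc h2
      simpa using this
    exact (Ideal.IsPrime.ne_top inferInstance) (Ideal.eq_top_of_isUnit_mem M h3 w.isUnit)
  obtain ⟨c', rfl⟩ := hcu
  obtain ⟨w₁, hw₁def⟩ : ∃ w₁ : B, w₁ = (w : B) * algebraMap A B ((c'⁻¹ : Aˣ) : A) := ⟨_, rfl⟩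
  have hw₁ : 1 - w₁ ∈ M := by
    have h1 : 1 - w₁ = -(((w : B) - algebraMap A B (c' : A)) * algebraMap A B ((c'⁻¹ : Aˣ) : A)) := by
      rw [hw₁def, sub_mul, ← map_mul, Units.mul_inv, map_one]; ring
    rw [h1]
    exact M.neg_mem (M.mul_mem_right _ hc)
  have hnB : IsUnit ((n : ℕ) : B) := by
    have := hm.map (algebraMap A B)
    rwa [map_natCast] at this
  obtain ⟨z, hz, hz1⟩ := HenselianLocalRing.is_henselian (X ^ n - C w₁ : B[X])
    (monic_X_pow_sub_C w₁ hn0.ne') 1
    (by
      rw [eval_sub, eval_pow, eval_X, eval_C, one_pow, ← hM]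
      exact hw₁)
    (by
      rw [derivative_sub, derivative_C, sub_zero, derivative_X_pow, eval_mul, eval_C, eval_pow,
        eval_X, one_pow, mul_one]
      exact_mod_cast hnB)
  have hzn : z ^ n = w₁ := by
    have : eval z (X ^ n - C w₁ : B[X]) = 0 := hz
    rw [eval_sub, eval_pow, eval_X, eval_C, sub_eq_zero] at this
    exact this
  have hzu : IsUnit z := by
    by_contra hzn'
    have h1 : z ∈ IsLocalRing.maximalIdeal B := (IsLocalRing.mem_maximalIdeal z).mpr hzn'
    have h2 : (1 : B) ∈ IsLocalRing.maximalIdeal B := by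
      have h3 := (IsLocalRing.maximalIdeal B).sub_mem h1 hz1
      rwa [sub_sub_cancel] at h3
    exact (Ideal.ne_top_iff_one _).mp (IsLocalRing.maximalIdeal.isMaximal B).ne_top h2
  obtain ⟨zu, rfl⟩ := hzu
  have hirra : Irreducible (ϖ * (c' : A)) := (irreducible_mul_isUnit c'.isUnit).mpr hϖ
  refine ⟨π * ((zu⁻¹ : Bˣ) : B), ?_, ?_, ?_, ?_⟩
  · rw [hMπ]
    exact Ideal.mul_mem_right _ _ (Ideal.mem_span_singleton_self π)
  · rw [hMπ, Ideal.span_singleton_pow, Ideal.mem_span_singleton]
    rintro ⟨y, hy⟩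
    have h1 : π * ((zu⁻¹ : Bˣ) : B) = π * (π * y) := by rw [hy]; ring
    have h2 := mul_left_cancel₀ hπ.ne_zero h1
    have h3 : IsUnit (π * y) := h2 ▸ (zu⁻¹).isUnit
    exact hπ.not_isUnit (isUnit_of_mul_isUnit_left h3)
  · refine ⟨ϖ * (c' : A), ?_⟩
    have hwz : (w : B) = (zu : B) ^ n * algebraMap A B (c' : A) := by
      rw [hzn, hw₁def, mul_assoc, ← map_mul, Units.inv_mul, map_one, mul_one]
    rw [mul_pow, ← hw, hwz, map_mul]
    have : ((zu⁻¹ : Bˣ) : B) ^ n * (zu : B) ^ n = 1 := by
      rw [← mul_pow, Units.inv_mul, one_pow]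
    linear_combination (-(algebraMap A B ϖ * algebraMap A B (c' : A))) * this
  · have hu_pow : (π * ((zu⁻¹ : Bˣ) : B)) ^ n = algebraMap A B (ϖ * (c' : A)) := by
      have hwz : (w : B) = (zu : B) ^ n * algebraMap A B (c' : A) := by
        rw [hzn, hw₁def, mul_assoc, ← map_mul, Units.inv_mul, map_one, mul_one]
      rw [mul_pow, ← hw, hwz, map_mul]
      have : ((zu⁻¹ : Bˣ) : B) ^ n * (zu : B) ^ n = 1 := by
        rw [← mul_pow, Units.inv_mul, one_pow]
      linear_combination (algebraMap A B ϖ * algebraMap A B (c' : A)) * this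
    set u : B := π * ((zu⁻¹ : Bˣ) : B) with hu
    have hirr := X_pow_sub_C_irreducible A (ϖ * (c' : A)) hirra n hn0
    have haev : aeval u (X ^ n - C (ϖ * (c' : A)) : A[X]) = 0 := by
      rw [map_sub, map_pow, aeval_X, aeval_C, hu_pow, sub_self]
    have hint : IsIntegral A u := Algebra.IsIntegral.isIntegral u
    have hdvd := minpoly.isIntegrallyClosed_dvd hint haev
    rcases hirr.dvd_iff.mp hdvd with h | h
    · exact absurd h (minpoly.not_isUnit A u)
    · have := eq_of_monic_of_associated (monic_X_pow_sub_C _ hn0.ne') (minpoly.monic hint) h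
      rw [← this, natDegree_X_pow_sub_C]

end Groth.Agent.Lib.Helper14TameUnif
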