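import Mathlib
import Groth.Agent.S0300
import Groth.Agent.S0311

/-!
# Power-torsion modules over a Noetherian local ring embed into sums of the injective hull (helper14)

For a Noetherian local ring `R` with injective hull `e : κ → E` of the residue field and an
`𝔪`-power torsion module `M`, we construct a set `J` and an injective `R`-linear map
`φ : M → (J →₀ E)` whose range contains the socle of `J →₀ E`.
-/

set_option autoImplicit false
set_option linter.unusedVariables false
set_option linter.unusedSectionVars false
set_option linter.style.haveILetI false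

universe u v

namespace Groth.Agent.Lib.Helper14.TorsHull

open IsLocalRing

section General

variable {R : Type u} [CommRing R]

/-- In a power torsion module every nonzero element has a nonzero multiple in the socle. -/
theorem exists_smul_mem_socle {M : Type v} [AddCommGroup M] [Module R M] (I : Ideal R)
    (hM : LocCoh.IsPowerTorsion I M) {z : M} (hz : z ≠ 0) :
    ∃ a : R, a • z ≠ 0 ∧ ∀ b ∈ I, b • (a • z) = 0 := by
  classical
  have hex := hM z
  set n := Nat.find hex with hn
  have hspec : ∀ a ∈ I ^ n, a • z = 0 := Nat.find_spec hex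
  have hn0 : n ≠ 0 := by
    intro h0
    have : (1 : R) • z = 0 := hspec 1 (by rw [h0, pow_zero, Ideal.one_eq_top]; trivial)
    rw [one_smul] at this
    exact hz this
  obtain ⟨k, hk⟩ := Nat.exists_eq_succ_of_ne_zero hn0
  have hmin : ¬ ∀ a ∈ I ^ k, a • z = 0 := Nat.find_min hex (by omega)
  push Not at hmin
  obtain ⟨a, ha, haz⟩ := hmin
  refine ⟨a, haz, fun b hb => ?_⟩
  rw [smul_smul]
  apply hspec
  rw [hk, Nat.succ_eq_add_one, pow_succ']
  exact Ideal.mul_mem_mul hb ha

/-- A finitely supported function with power torsion values is power torsion. -/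
theorem isPowerTorsion_finsupp (I : Ideal R) {J : Type*} {E : Type*} [AddCommGroup E] [Module R E]
    (hE : LocCoh.IsPowerTorsion I E) : LocCoh.IsPowerTorsion I (J →₀ E) := by
  classical
  intro w
  induction w using Finsupp.induction_linear with
  | zero => exact ⟨0, fun a _ => smul_zero a⟩
  | add f g hf hg =>
    obtain ⟨n, hn⟩ := hf
    obtain ⟨m, hm⟩ := hg
    refine ⟨max n m, fun a ha => ?_⟩
    rw [smul_add, hn a (Ideal.pow_le_pow_right (le_max_left n m) ha),
      hm a (Ideal.pow_le_pow_right (le_max_right n m) ha), add_zero]
  | single j x =>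
    obtain ⟨n, hn⟩ := hE x
    refine ⟨n, fun a ha => ?_⟩
    rw [Finsupp.smul_single, hn a ha, Finsupp.single_zero]

end General

section Local

variable {R : Type u} [CommRing R] [IsLocalRing R]

/-- The socle of an essential extension of the residue field is the residue field. -/
theorem socle_le_range {E : Type u} [AddCommGroup E] [Module R E]
    (e : ResidueField R →ₗ[R] E) (he : InjHull.IsEssentialInj e) {w : E}
    (hw : ∀ b ∈ maximalIdeal R, b • w = 0) : w ∈ LinearMap.range e := by
  by_cases hw0 : w = 0
  · rw [hw0]; exact Submodule.zero_mem _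
  have hN : Submodule.span R {w} ≠ ⊥ := by
    rw [Ne, Submodule.span_singleton_eq_bot]
    exact hw0
  have hne := he.essential _ hN
  rw [Ne, Submodule.eq_bot_iff] at hne
  push Not at hne
  obtain ⟨y, hy, hy0⟩ := hne
  obtain ⟨hy1, hy2⟩ := Submodule.mem_inf.1 hy
  obtain ⟨r, rfl⟩ := Submodule.mem_span_singleton.1 hy1
  have hr : IsUnit r := by
    by_contra hr
    exact hy0 (hw r ((mem_maximalIdeal r).2 hr))
  obtain ⟨s, rfl⟩ := hr
  have := Submodule.smul_mem (LinearMap.range e) (↑s⁻¹ : R) hy2
  rwa [smul_smul, Units.inv_mul, one_smul] at this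

end Local

section Embedding

variable {R : Type u} [CommRing R] [IsLocalRing R] [IsNoetherianRing R]

/-- Over a Noetherian ring `J →₀ E` is injective when `E` is. -/
theorem injective_finsupp (J : Type u) (E : Type u) [AddCommGroup E] [Module R E]
    [Module.Injective R E] : Module.Injective R (J →₀ E) := by
  classical
  have h1 : Module.Injective R (DirectSum J fun _ => E) :=
    Groth.Agent.S0300.result R (fun _ : J => E) (fun _ => inferInstance)
  let e : (DirectSum J fun _ => E) ≃ₗ[R] (J →₀ E) := (finsuppLEquivDirectSum R E J).symm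
  exact (Module.Baer.of_equiv e (Module.Baer.of_injective h1)).injective

/-- A power torsion module over a Noetherian local ring embeds into a sum of copies of the
injective hull of the residue field, the embedding being onto the socle. -/
theorem exists_embedding {E : Type u} [AddCommGroup E] [Module R E]
    (e : ResidueField R →ₗ[R] E) (he : InjHull.IsInjectiveHull e)
    (M : Type u) [AddCommGroup M] [Module R M]
    (hM : LocCoh.IsPowerTorsion (maximalIdeal R) M) :
    ∃ (J : Type u) (φ : M →ₗ[R] (J →₀ E)), Function.Injective φ ∧
      ∀ w : J →₀ E, (∀ b ∈ maximalIdeal R, b • w = 0) → w ∈ LinearMap.range φ := by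
  classical
  letI : Field (R ⧸ maximalIdeal R) := Ideal.Quotient.field (maximalIdeal R)
  let V : Submodule R M := Submodule.torsionBySet R M ((maximalIdeal R : Ideal R) : Set R)
  let J := Module.Basis.ofVectorSpaceIndex (R ⧸ maximalIdeal R) V
  let b : Module.Basis J (R ⧸ maximalIdeal R) V := Module.Basis.ofVectorSpace (R ⧸ maximalIdeal R) V
  let e' : (R ⧸ maximalIdeal R) →ₗ[R] E := e
  have he' : Function.Injective e' := he.injective
  let ψ₀ : V →ₗ[R] (J →₀ E) :=
    (Finsupp.mapRange.linearMap e') ∘ₗ (b.repr.toLinearMap.restrictScalars R)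
  have hψ₀ : Function.Injective ψ₀ := by
    intro x y hxy
    apply b.repr.injective
    ext j
    have := DFunLike.congr_fun hxy j
    exact he' this
  haveI : Module.Injective R E := he.isInjective
  have hinj : Module.Injective R (J →₀ E) := injective_finsupp J E
  obtain ⟨φ, hφ⟩ := (Module.Baer.of_injective hinj).extension_property V.subtype
    V.injective_subtype ψ₀
  have hφV : ∀ v : V, φ v = ψ₀ v := fun v => LinearMap.congr_fun hφ v
  refine ⟨J, φ, ?_, ?_⟩
  · rw [← LinearMap.ker_eq_bot, Submodule.eq_bot_iff]
    intro z hz
    by_contra hz0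
    obtain ⟨a, haz, hsoc⟩ := exists_smul_mem_socle (maximalIdeal R) hM hz0
    have hmem : a • z ∈ V := by
      rw [Submodule.mem_torsionBySet_iff]
      rintro ⟨c, hc⟩
      exact hsoc c hc
    have h1 : ψ₀ ⟨a • z, hmem⟩ = 0 := by
      rw [← hφV]
      change φ (a • z) = 0
      rw [map_smul, LinearMap.mem_ker.1 hz, smul_zero]
    have h2 : (⟨a • z, hmem⟩ : V) = 0 := hψ₀ (by rw [h1, map_zero])
    exact haz (congrArg Subtype.val h2)
  · intro w hw
    have hwj : ∀ j, w j ∈ LinearMap.range e := by
      intro j
      apply socle_le_range e he.toIsEssentialInj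
      intro c hc
      have := DFunLike.congr_fun (hw c hc) j
      simpa using this
    choose c hc using hwj
    let cf : J →₀ (R ⧸ maximalIdeal R) := Finsupp.onFinset w.support c (by
      intro j hj
      rw [Finsupp.mem_support_iff]
      intro h0
      apply hj
      have : e (c j) = e 0 := by rw [hc j, h0, map_zero]
      exact he.injective this)
    refine ⟨(b.repr.symm cf : V), ?_⟩
    rw [hφV]
    ext j
    change e' ((b.repr (b.repr.symm cf)) j) = w j
    rw [LinearEquiv.apply_symm_apply]
    exact hc j

end Embedding

end Groth.Agent.Lib.Helper14.TorsHull
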