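import Mathlib

/-!
# Integration in torsion `D`-modules via the Euler operator (helper14)

Let `A` be a commutative ring, `x : ι → A` a finite family of elements generating the ideal `𝔪`,
and `M` an `A`-module with additive operators `D i` satisfying
`D i (x j • z) = δ_ij z + x j • D i z`.  If the positive integers are units of `A`, then every
compatible family `u j` (`x i • u j = x j • u i`) of elements killed by a power of `𝔪` can be
integrated: there is `z` with `x j • z = u j`.

As a consequence, an injective linear map `φ : M → W` whose range contains the socle of `W` has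
range containing every element of `W` killed by a power of `𝔪`.
-/

set_option autoImplicit false
set_option linter.unusedVariables false
set_option linter.unusedSectionVars false
set_option linter.style.haveILetI false

universe u v

namespace Groth.Agent.Lib.Helper14.TorsHull

open scoped BigOperators

variable {A : Type u} [CommRing A] {ι : Type*} [Fintype ι] [DecidableEq ι] (x : ι → A)
  {M : Type v} [AddCommGroup M] [Module A M] (D : ι → M →+ M)

/-- The Euler operator `∑ x_i D_i`. -/
def euler (z : M) : M := ∑ i, x i • D i z

/-- Being killed by the `n`-th power of the ideal generated by the `x i`. -/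
def Killed (n : ℕ) (z : M) : Prop := ∀ a ∈ Ideal.span (Set.range x) ^ n, a • z = 0

variable {x D}

theorem killed_zero_iff {z : M} : Killed x 0 z ↔ z = 0 := by
  constructor
  · intro h
    have := h 1 (by rw [pow_zero, Ideal.one_eq_top]; trivial)
    rwa [one_smul] at this
  · rintro rfl a _
    exact smul_zero a

theorem Killed.smul_x {n : ℕ} {z : M} (h : Killed x (n + 1) z) (j : ι) : Killed x n (x j • z) := by
  intro a ha
  rw [smul_smul]
  apply h
  rw [pow_succ]
  exact Ideal.mul_mem_mul ha (Ideal.subset_span ⟨j, rfl⟩)

theorem killed_succ_of_smul_x {n : ℕ} {z : M} (h : ∀ j, Killed x n (x j • z)) :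
    Killed x (n + 1) z := by
  intro a ha
  rw [pow_succ] at ha
  refine Submodule.mul_induction_on ha ?_ ?_
  · intro b hb c hc
    -- `c ∈ span (range x)`
    refine Submodule.span_induction ?_ ?_ ?_ ?_ hc
    · rintro _ ⟨j, rfl⟩
      rw [← smul_smul]
      exact h j b hb
    · rw [mul_zero, zero_smul]
    · intro c₁ c₂ _ _ h₁ h₂
      rw [mul_add, add_smul, h₁, h₂, add_zero]
    · intro r c₁ _ h₁
      rw [smul_eq_mul, mul_left_comm, ← smul_smul, h₁, smul_zero]
  · intro a₁ a₂ h₁ h₂
    rw [add_smul, h₁, h₂, add_zero]

theorem Killed.mono {n m : ℕ} (hnm : n ≤ m) {z : M} (h : Killed x n z) : Killed x m z :=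
  fun a ha => h a (Ideal.pow_le_pow_right hnm ha)

theorem Killed.add {n : ℕ} {z w : M} (hz : Killed x n z) (hw : Killed x n w) :
    Killed x n (z + w) := fun a ha => by rw [smul_add, hz a ha, hw a ha, add_zero]

theorem Killed.smul {n : ℕ} {z : M} (hz : Killed x n z) (c : A) : Killed x n (c • z) :=
  fun a ha => by rw [smul_comm, hz a ha, smul_zero]

section Leibniz

variable (hD : ∀ i j z, D i (x j • z) = (if i = j then z else 0) + x j • D i z)
include hD

theorem euler_smul_x (j : ι) (z : M) : euler x D (x j • z) = x j • z + x j • euler x D z := by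
  unfold euler
  have : ∀ i, x i • D i (x j • z) = (if i = j then x j • z else 0) + x j • (x i • D i z) := by
    intro i
    rw [hD, smul_add, smul_comm (x i) (x j)]
    congr 1
    split_ifs with h
    · rw [h]
    · rw [smul_zero]
  rw [Finset.sum_congr rfl (fun i _ => this i), Finset.sum_add_distrib, Finset.smul_sum,
    Finset.sum_ite_eq' Finset.univ j, if_pos (Finset.mem_univ j)]

theorem euler_of_socle {z : M} (hz : ∀ j, x j • z = 0) :
    euler x D z + (Fintype.card ι : A) • z = 0 := by
  unfold euler
  have : ∀ i, x i • D i z = -z := by
    intro i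
    have h := hD i i z
    rw [hz i, map_zero, if_pos rfl] at h
    exact (neg_eq_of_add_eq_zero_right h.symm).symm
  rw [Finset.sum_congr rfl (fun i _ => this i), Finset.sum_const, Finset.card_univ,
    Nat.cast_smul_eq_nsmul, smul_neg, neg_add_cancel]

theorem killed_euler_add {n : ℕ} {z : M} (hz : Killed x (n + 1) z) :
    Killed x n (euler x D z + ((Fintype.card ι : A) + (n : A)) • z) := by
  induction n generalizing z with
  | zero =>
    rw [killed_zero_iff, Nat.cast_zero, add_zero]
    apply euler_of_socle hD
    intro j
    exact killed_zero_iff.1 (hz.smul_x j)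
  | succ n ih =>
    apply killed_succ_of_smul_x
    intro j
    have h1 := ih (hz.smul_x j)
    rw [euler_smul_x hD] at h1
    have h2 : x j • (euler x D z + ((Fintype.card ι : A) + ((n + 1 : ℕ) : A)) • z) =
        x j • z + x j • euler x D z + ((Fintype.card ι : A) + (n : A)) • x j • z := by
      rw [smul_add, smul_comm (x j), Nat.cast_succ, ← add_assoc, add_smul _ (1 : A), one_smul]
      abel
    rw [h2]
    exact h1

/-- Integration of compatible families. -/
theorem exists_integral (hunit : ∀ n : ℕ, n ≠ 0 → IsUnit (n : A)) (n : ℕ) (u : ι → M)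
    (hu : ∀ j, Killed x n (u j)) (hc : ∀ i j, x i • u j = x j • u i) :
    ∃ z : M, ∀ j, x j • z = u j := by
  induction n generalizing u with
  | zero =>
    exact ⟨0, fun j => by rw [smul_zero, killed_zero_iff.1 (hu j)]⟩
  | succ n ih =>
    -- the family `v j = (euler + d + n) u j`
    set c : A := (Fintype.card ι : A) + (n : A) with hcdef
    have hv : ∀ j, Killed x n (euler x D (u j) + c • u j) := fun j => killed_euler_add hD (hu j)
    have hxe : ∀ i j, x i • euler x D (u j) = euler x D (x i • u j) - x i • u j := by
      intro i j
      rw [euler_smul_x hD]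
      abel
    have hvc : ∀ i j, x i • (euler x D (u j) + c • u j) = x j • (euler x D (u i) + c • u i) := by
      intro i j
      rw [smul_add, smul_add, hxe, hxe, smul_comm (x i) c, smul_comm (x j) c, hc i j]
    obtain ⟨z', hz'⟩ := ih _ hv hvc
    -- the element `z'' = ∑ D i (u i)`
    set z'' : M := ∑ i, D i (u i) with hz''def
    have hz'' : ∀ j, x j • z'' = (Fintype.card ι : A) • u j + euler x D (u j) - u j := by
      intro j
      rw [hz''def, Finset.smul_sum]
      have : ∀ i, x j • D i (u i) = (u j + x i • D i (u j)) - (if i = j then u i else 0) := by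
        intro i
        have h1 := hD i j (u i)
        have h2 := hD i i (u j)
        rw [if_pos rfl] at h2
        rw [← hc j i] at h2
        rw [← h2, h1]
        abel
      rw [Finset.sum_congr rfl (fun i _ => this i), Finset.sum_sub_distrib,
        Finset.sum_add_distrib, Finset.sum_const, Finset.card_univ,
        Finset.sum_ite_eq' Finset.univ j, if_pos (Finset.mem_univ j), Nat.cast_smul_eq_nsmul]
      rfl
    obtain ⟨s, hs⟩ := hunit (n + 1) (Nat.succ_ne_zero n)
    refine ⟨(↑s⁻¹ : A) • (z' - z''), fun j => ?_⟩
    rw [smul_comm, smul_sub, hz', hz'']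
    have : euler x D (u j) + c • u j - ((Fintype.card ι : A) • u j + euler x D (u j) - u j) =
        ((n + 1 : ℕ) : A) • u j := by
      rw [hcdef, add_smul, Nat.cast_succ, add_smul, one_smul]
      abel
    rw [this, ← hs, smul_smul, Units.inv_mul, one_smul]

/-- If `φ : M → W` is injective and its range contains the socle of `W`, then its range contains
every element of `W` killed by a power of the ideal. -/
theorem mem_range_of_killed (hunit : ∀ n : ℕ, n ≠ 0 → IsUnit (n : A))
    {W : Type*} [AddCommGroup W] [Module A W] (φ : M →ₗ[A] W) (hφ : Function.Injective φ)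
    (hsoc : ∀ w : W, (∀ j, x j • w = 0) → w ∈ LinearMap.range φ) (n : ℕ) (w : W)
    (hw : Killed x n w) : w ∈ LinearMap.range φ := by
  induction n generalizing w with
  | zero =>
    rw [killed_zero_iff.1 hw]
    exact Submodule.zero_mem _
  | succ n ih =>
    have h1 : ∀ j, x j • w ∈ LinearMap.range φ := fun j => ih _ (hw.smul_x j)
    choose u hu using h1
    have huK : ∀ j, Killed x n (u j) := by
      intro j a ha
      apply hφ
      rw [map_smul, hu j, map_zero]
      exact hw.smul_x j a ha
    have huc : ∀ i j, x i • u j = x j • u i := by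
      intro i j
      apply hφ
      rw [map_smul, map_smul, hu, hu, smul_comm]
    obtain ⟨z, hz⟩ := exists_integral hD hunit n u huK huc
    have h2 : w - φ z ∈ LinearMap.range φ := by
      apply hsoc
      intro j
      rw [smul_sub, ← map_smul, hz, hu, sub_self]
    have := Submodule.add_mem _ h2 (LinearMap.mem_range_self φ z)
    rwa [sub_add_cancel] at this

end Leibniz

end Groth.Agent.Lib.Helper14.TorsHull
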