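import Mathlib

/-!
# The twisted square of a module along a derivation (helper14)

For a derivation `θ : A → A` and an `A`-module `M`, `Tw θ M = M × M` with
`a • (x, y) = (a x, θ(a) x + a y)`.  This is an exact functor of `M`, with natural linear maps
`inc : M → Tw θ M`, `pr : Tw θ M → M`, and the additive second projection satisfies the Leibniz rule.
-/

set_option autoImplicit false
set_option linter.unusedVariables false
set_option linter.unusedSectionVars false
set_option linter.style.haveILetI false

universe u v w

namespace Groth.Agent.Lib.Helper14.TwDer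

variable {A : Type u} [CommRing A]

/-- the twisted square -/
def Tw (θ : Derivation ℤ A A) (M : Type v) : Type v := M × M

namespace Tw

variable {θ : Derivation ℤ A A} {M : Type v} [AddCommGroup M] [Module A M]
  {N : Type w} [AddCommGroup N] [Module A N]

instance : AddCommGroup (Tw θ M) := inferInstanceAs (AddCommGroup (M × M))

/-- constructor -/
def mk (x y : M) : Tw θ M := ((x, y) : M × M)

/-- first component -/
def fst (p : Tw θ M) : M := (show M × M from p).1

/-- second component -/
def snd (p : Tw θ M) : M := (show M × M from p).2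

@[simp] theorem fst_mk (x y : M) : (mk x y : Tw θ M).fst = x := rfl
@[simp] theorem snd_mk (x y : M) : (mk x y : Tw θ M).snd = y := rfl
@[simp] theorem fst_add (p q : Tw θ M) : (p + q).fst = p.fst + q.fst := rfl
@[simp] theorem snd_add (p q : Tw θ M) : (p + q).snd = p.snd + q.snd := rfl
@[simp] theorem fst_zero : (0 : Tw θ M).fst = 0 := rfl
@[simp] theorem snd_zero : (0 : Tw θ M).snd = 0 := rfl
@[simp] theorem fst_neg (p : Tw θ M) : (-p).fst = -p.fst := rfl
@[simp] theorem snd_neg (p : Tw θ M) : (-p).snd = -p.snd := rfl
@[simp] theorem fst_sub (p q : Tw θ M) : (p - q).fst = p.fst - q.fst := rfl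
@[simp] theorem snd_sub (p q : Tw θ M) : (p - q).snd = p.snd - q.snd := rfl

@[ext] theorem ext {p q : Tw θ M} (h1 : p.fst = q.fst) (h2 : p.snd = q.snd) : p = q :=
  Prod.ext h1 h2

theorem mk_fst_snd (p : Tw θ M) : mk p.fst p.snd = p := rfl

instance : SMul A (Tw θ M) := ⟨fun a p => mk (a • p.fst) (θ a • p.fst + a • p.snd)⟩

@[simp] theorem fst_smul (a : A) (p : Tw θ M) : (a • p).fst = a • p.fst := rfl
@[simp] theorem snd_smul (a : A) (p : Tw θ M) : (a • p).snd = θ a • p.fst + a • p.snd := rfl

instance : Module A (Tw θ M) where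
  one_smul p := by
    ext
    · simp
    · simp
  mul_smul a b p := by
    ext
    · simp [mul_smul]
    · simp only [snd_smul, fst_smul, Derivation.leibniz, smul_eq_mul, add_smul, mul_smul, smul_add]
      rw [smul_comm b (θ a)]
      abel
  smul_zero a := by ext <;> simp
  smul_add a p q := by
    ext
    · simp
    · simp only [snd_smul, fst_add, snd_add, smul_add]; abel
  add_smul a b p := by
    ext
    · simp [add_smul]
    · simp only [snd_smul, map_add, add_smul, snd_add]; abel
  zero_smul p := by ext <;> simp

/-- functoriality -/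
def map (θ : Derivation ℤ A A) (g : M →ₗ[A] N) : Tw θ M →ₗ[A] Tw θ N where
  toFun p := mk (g p.fst) (g p.snd)
  map_add' p q := by ext <;> simp
  map_smul' a p := by ext <;> simp

@[simp] theorem fst_map (g : M →ₗ[A] N) (p : Tw θ M) : (map θ g p).fst = g p.fst := rfl
@[simp] theorem snd_map (g : M →ₗ[A] N) (p : Tw θ M) : (map θ g p).snd = g p.snd := rfl

/-- the projection to the first component (linear) -/
def pr (θ : Derivation ℤ A A) (M : Type v) [AddCommGroup M] [Module A M] : Tw θ M →ₗ[A] M where
  toFun p := p.fst
  map_add' p q := rfl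
  map_smul' a p := rfl

@[simp] theorem pr_apply (p : Tw θ M) : pr θ M p = p.fst := rfl

/-- the inclusion of the second component (linear) -/
def inc (θ : Derivation ℤ A A) (M : Type v) [AddCommGroup M] [Module A M] : M →ₗ[A] Tw θ M where
  toFun y := mk 0 y
  map_add' x y := by ext <;> simp
  map_smul' a y := by ext <;> simp

@[simp] theorem fst_inc (y : M) : (inc θ M y).fst = 0 := rfl
@[simp] theorem snd_inc (y : M) : (inc θ M y).snd = y := rfl

/-- the additive second projection -/
def sndHom (θ : Derivation ℤ A A) (M : Type v) [AddCommGroup M] [Module A M] : Tw θ M →+ M where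
  toFun p := p.snd
  map_zero' := rfl
  map_add' p q := rfl

@[simp] theorem sndHom_apply (p : Tw θ M) : sndHom θ M p = p.snd := rfl

/-- the section `a ↦ (a, θ a)` of `pr` over `A` itself -/
def sec (θ : Derivation ℤ A A) : A →ₗ[A] Tw θ A where
  toFun a := mk a (θ a)
  map_add' a b := by ext <;> simp
  map_smul' a b := by
    ext
    · simp
    · simp only [snd_mk, smul_eq_mul, Derivation.leibniz, snd_smul, fst_mk, RingHom.id_apply]
      ring

@[simp] theorem fst_sec (a : A) : (sec θ a).fst = a := rfl
@[simp] theorem snd_sec (a : A) : (sec θ a).snd = θ a := rfl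

theorem pr_comp_sec : (pr θ A).comp (sec θ) = LinearMap.id := rfl

theorem map_id : map θ (LinearMap.id : M →ₗ[A] M) = LinearMap.id := rfl

theorem map_comp {P : Type*} [AddCommGroup P] [Module A P] (g : M →ₗ[A] N) (h : N →ₗ[A] P) :
    map θ (h.comp g) = (map θ h).comp (map θ g) := rfl

theorem pr_comp_map (g : M →ₗ[A] N) : (pr θ N).comp (map θ g) = g.comp (pr θ M) := rfl

theorem map_comp_inc (g : M →ₗ[A] N) : (map θ g).comp (inc θ M) = (inc θ N).comp g := by
  ext y <;> simp

theorem map_injective {g : M →ₗ[A] N} (hg : Function.Injective g) :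
    Function.Injective (map θ g) := by
  intro p q h
  ext
  · exact hg (congrArg fst h)
  · exact hg (congrArg snd h)

theorem map_surjective {g : M →ₗ[A] N} (hg : Function.Surjective g) :
    Function.Surjective (map θ g) := by
  intro p
  obtain ⟨x, hx⟩ := hg p.fst
  obtain ⟨y, hy⟩ := hg p.snd
  exact ⟨mk x y, by ext <;> simp [hx, hy]⟩

theorem map_exact {P : Type*} [AddCommGroup P] [Module A P] {g : M →ₗ[A] N} {h : N →ₗ[A] P}
    (hex : Function.Exact g h) : Function.Exact (map θ g) (map θ h) := by
  intro p
  constructor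
  · intro hp
    obtain ⟨x, hx⟩ := (hex p.fst).mp (congrArg fst hp)
    obtain ⟨y, hy⟩ := (hex p.snd).mp (congrArg snd hp)
    exact ⟨mk x y, by ext <;> simp [hx, hy]⟩
  · rintro ⟨q, rfl⟩
    ext
    · exact (hex _).mpr ⟨q.fst, rfl⟩
    · exact (hex _).mpr ⟨q.snd, rfl⟩

theorem inc_injective : Function.Injective (inc θ M) := by
  intro x y h
  exact congrArg snd h

theorem pr_surjective : Function.Surjective (pr θ M) := fun x => ⟨mk x 0, rfl⟩

theorem inc_pr_exact : Function.Exact (inc θ M) (pr θ M) := by
  intro p
  constructor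
  · intro hp
    refine ⟨p.snd, ?_⟩
    ext
    · exact hp.symm
    · rfl
  · rintro ⟨y, rfl⟩
    rfl

end Tw

end Groth.Agent.Lib.Helper14.TwDer
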