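import Mathlib
import Groth.Agent.Lib.Helper14TwDerA
import Groth.Agent.Lib.Helper9LCDelta

/-!
# Derivations act on local cohomology (helper14)

The twisted square functor `TwF θ` on `ModuleCat A`, and by dimension shifting along the effaceable
δ-functor `H^i_I`, additive "second projections" `H^i_I(Tw θ M) → H^i_I(M)` with the Leibniz rule.
-/

set_option autoImplicit false
set_option linter.unusedVariables false
set_option linter.unusedSectionVars false
set_option linter.style.haveILetI false

universe u

namespace Groth.Agent.Lib.Helper14.TwDer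

open CategoryTheory CategoryTheory.Limits Groth.Agent.Lib.Helper8.LC Groth.Agent.Lib.Helper9.LCDelta

variable {A : Type u} [CommRing A] (θ : Derivation ℤ A A)

/-- the twisted square functor -/
noncomputable def TwF : ModuleCat.{u} A ⥤ ModuleCat.{u} A where
  obj M := ModuleCat.of A (Tw θ M)
  map g := ModuleCat.ofHom (Tw.map θ g.hom)
  map_id M := by
    apply ModuleCat.hom_ext
    rfl
  map_comp g h := by
    apply ModuleCat.hom_ext
    rfl

/-- the natural projection -/
noncomputable def prN (M : ModuleCat.{u} A) : (TwF θ).obj M ⟶ M := ModuleCat.ofHom (Tw.pr θ M)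

/-- the natural inclusion -/
noncomputable def incN (M : ModuleCat.{u} A) : M ⟶ (TwF θ).obj M := ModuleCat.ofHom (Tw.inc θ M)

/-- the section over `A` -/
noncomputable def secN : ModuleCat.of A A ⟶ (TwF θ).obj (ModuleCat.of A A) :=
  ModuleCat.ofHom (Tw.sec θ)

theorem secN_prN : secN θ ≫ prN θ (ModuleCat.of A A) = 𝟙 _ := by
  apply ModuleCat.hom_ext
  rfl

theorem map_prN {M N : ModuleCat.{u} A} (g : M ⟶ N) :
    (TwF θ).map g ≫ prN θ N = prN θ M ≫ g := by
  apply ModuleCat.hom_ext
  rfl

/-- the twisted square of a short complex -/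
noncomputable def twSC (S : ShortComplex (ModuleCat.{u} A)) : ShortComplex (ModuleCat.{u} A) :=
  ShortComplex.mk ((TwF θ).map S.f) ((TwF θ).map S.g) (by
    rw [← Functor.map_comp, S.zero]
    apply ModuleCat.hom_ext
    rfl)

theorem twSC_shortExact {S : ShortComplex (ModuleCat.{u} A)} (hS : S.ShortExact) :
    (twSC θ S).ShortExact :=
  ModuleCat.shortComplex_shortExact _
    (Tw.map_exact ((ShortComplex.ShortExact.moduleCat_exact_iff_function_exact S).mp hS.exact))
    (Tw.map_injective hS.moduleCat_injective_f) (Tw.map_surjective hS.moduleCat_surjective_g)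

/-- the projection morphism of short complexes -/
noncomputable def prSC (S : ShortComplex (ModuleCat.{u} A)) : twSC θ S ⟶ S where
  τ₁ := prN θ S.X₁
  τ₂ := prN θ S.X₂
  τ₃ := prN θ S.X₃
  comm₁₂ := (map_prN θ S.f).symm
  comm₂₃ := (map_prN θ S.g).symm

/-- functoriality of `twSC` -/
noncomputable def twSCMap {S S' : ShortComplex (ModuleCat.{u} A)} (φ : S ⟶ S') :
    twSC θ S ⟶ twSC θ S' where
  τ₁ := (TwF θ).map φ.τ₁
  τ₂ := (TwF θ).map φ.τ₂
  τ₃ := (TwF θ).map φ.τ₃
  comm₁₂ := by
    change (TwF θ).map φ.τ₁ ≫ (TwF θ).map S'.f = (TwF θ).map S.f ≫ (TwF θ).map φ.τ₂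
    rw [← Functor.map_comp, ← Functor.map_comp, φ.comm₁₂]
  comm₂₃ := by
    change (TwF θ).map φ.τ₂ ≫ (TwF θ).map S'.g = (TwF θ).map S.g ≫ (TwF θ).map φ.τ₃
    rw [← Functor.map_comp, ← Functor.map_comp, φ.comm₂₃]

/-- the short exact sequence `0 → M → Tw M → M → 0` -/
noncomputable def ipSC (M : ModuleCat.{u} A) : ShortComplex (ModuleCat.{u} A) :=
  ShortComplex.mk (incN θ M) (prN θ M) (by
    apply ModuleCat.hom_ext
    rfl)

theorem ipSC_shortExact (M : ModuleCat.{u} A) : (ipSC θ M).ShortExact :=
  ModuleCat.shortComplex_shortExact _ Tw.inc_pr_exact Tw.inc_injective Tw.pr_surjective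

variable (I : Ideal A)

/-- positive local cohomology of the twisted square of an injective module vanishes -/
theorem tw_injective_eq_zero (J : ModuleCat.{u} A) [Injective J] (n : ℕ)
    (y : (localCohomology I (n + 1)).obj ((TwF θ).obj J)) : y = 0 := by
  have h1 : (localCohomology I (n + 1)).map (ipSC θ J).g y = 0 :=
    H_succ_eq_zero_of_injective I J n _
  obtain ⟨x, hx⟩ := H_exact₂ I (n + 1) (ipSC θ J) (ipSC_shortExact θ J) y h1
  have hx0 : x = 0 := H_succ_eq_zero_of_injective I J n x
  rw [← hx, hx0]
  exact map_zero _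

/-- an injective embedding of `M` as a short exact sequence -/
noncomputable def embSC (M : ModuleCat.{u} A) : ShortComplex (ModuleCat.{u} A) :=
  ShortComplex.mk (Injective.ι M) (cokernel.π (Injective.ι M)) (cokernel.condition _)

theorem embSC_shortExact (M : ModuleCat.{u} A) : (embSC M).ShortExact where
  exact := ShortComplex.exact_cokernel _
  mono_f := by dsimp [embSC]; infer_instance
  epi_g := by dsimp [embSC]; infer_instance

instance (M : ModuleCat.{u} A) : Injective (embSC M).X₂ := by
  dsimp [embSC]; infer_instance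

/-- a lift of a morphism to the chosen injective hulls -/
noncomputable def embLift {M N : ModuleCat.{u} A} (g : M ⟶ N) :
    Injective.under M ⟶ Injective.under N :=
  Injective.factorThru (g ≫ Injective.ι N) (Injective.ι M)

theorem ι_embLift {M N : ModuleCat.{u} A} (g : M ⟶ N) :
    Injective.ι M ≫ embLift g = g ≫ Injective.ι N :=
  Injective.comp_factorThru _ _

/-- extension of a morphism to the chosen injective embeddings -/
noncomputable def embMap {M N : ModuleCat.{u} A} (g : M ⟶ N) : embSC M ⟶ embSC N where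
  τ₁ := g
  τ₂ := embLift g
  τ₃ := cokernel.map (Injective.ι M) (Injective.ι N) g (embLift g) (ι_embLift g)
  comm₁₂ := (ι_embLift g).symm
  comm₂₃ := by
    dsimp [embSC]
    simp

@[simp] theorem embMap_τ₁ {M N : ModuleCat.{u} A} (g : M ⟶ N) : (embMap g).τ₁ = g := rfl

end Groth.Agent.Lib.Helper14.TwDer
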