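import Mathlib
import Groth.Agent.Lib.Helper14TwDerB

/-!
# Derivations act on local cohomology: dimension shifting (helper14)
-/

set_option autoImplicit false
set_option linter.unusedVariables false
set_option linter.unusedSectionVars false
set_option linter.style.haveILetI false

universe u

namespace Groth.Agent.Lib.Helper14.TwDer

open CategoryTheory CategoryTheory.Limits Groth.Agent.Lib.Helper8.LC Groth.Agent.Lib.Helper9.LCDelta

variable {A : Type u} [CommRing A] (θ : Derivation ℤ A A) (I : Ideal A)

/-- a family of additive "second projections" `H^i_I(Tw M) → H^i_I(M)` with the Leibniz rule,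
natural in `M` -/
structure SndFamily (i : ℕ) where
  c : ∀ M : ModuleCat.{u} A,
    (localCohomology I i).obj ((TwF θ).obj M) →+ (localCohomology I i).obj M
  leib : ∀ (M : ModuleCat.{u} A) (a : A) (u : (localCohomology I i).obj ((TwF θ).obj M)),
    c M (a • u) = θ a • (localCohomology I i).map (prN θ M) u + a • c M u
  nat : ∀ {M N : ModuleCat.{u} A} (g : M ⟶ N) (u : (localCohomology I i).obj ((TwF θ).obj M)),
    c N ((localCohomology I i).map ((TwF θ).map g) u) = (localCohomology I i).map g (c M u)

section base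

theorem snd_mem_torsionSub (M : ModuleCat.{u} A) (p : Tw θ M)
    (hp : p ∈ DRing.torsionSub I (Tw θ M)) : p.snd ∈ DRing.torsionSub I M := by
  obtain ⟨k, hk⟩ := hp
  refine ⟨k + k, fun a ha => ?_⟩
  rw [pow_add] at ha
  refine Submodule.mul_induction_on ha (fun b hb c hc => ?_)
    (fun x y hx hy => by rw [add_smul, hx, hy, add_zero])
  have h1 := hk b hb
  have h2 := hk c hc
  have hb1 : b • p.fst = 0 := congrArg Tw.fst h1
  have hc2 : θ c • p.fst + c • p.snd = 0 := congrArg Tw.snd h2
  rw [mul_smul, eq_neg_of_add_eq_zero_right hc2, smul_neg, smul_comm, hb1, smul_zero,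
    neg_zero]

/-- the degree zero second projection, as a function -/
noncomputable def c0fun (M : ModuleCat.{u} A) (u : (localCohomology I 0).obj ((TwF θ).obj M)) :
    (localCohomology I 0).obj M :=
  Classical.choose (exists_Φ_eq I M (Tw.snd (θ := θ) (M := M) (Φ I ((TwF θ).obj M) u))
    (snd_mem_torsionSub θ I M _ (Φ_mem_torsionSub I _ u)))

theorem Φ_c0fun (M : ModuleCat.{u} A) (u : (localCohomology I 0).obj ((TwF θ).obj M)) :
    Φ I M (c0fun θ I M u) = Tw.snd (θ := θ) (M := M) (Φ I ((TwF θ).obj M) u) :=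
  Classical.choose_spec (exists_Φ_eq I M (Tw.snd (θ := θ) (M := M) (Φ I ((TwF θ).obj M) u))
    (snd_mem_torsionSub θ I M _ (Φ_mem_torsionSub I _ u)))

/-- the family in degree `0` -/
noncomputable def sndFamilyZero : SndFamily θ I 0 where
  c M := AddMonoidHom.mk' (c0fun θ I M) (fun u v => Φ_injective I M (by
    rw [map_add, Φ_c0fun, Φ_c0fun, Φ_c0fun, map_add]
    rfl))
  leib M a u := by
    apply Φ_injective I M
    change Φ I M (c0fun θ I M (a • u)) = Φ I M (θ a • (localCohomology I 0).map (prN θ M) u
      + a • c0fun θ I M u)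
    rw [Φ_c0fun, map_add, map_smul, map_smul, map_smul, Φ_c0fun, Φ_naturality]
    rfl
  nat {M N} g u := by
    apply Φ_injective I N
    change Φ I N (c0fun θ I N ((localCohomology I 0).map ((TwF θ).map g) u)) =
      Φ I N ((localCohomology I 0).map g (c0fun θ I M u))
    rw [Φ_c0fun, Φ_naturality, Φ_naturality, Φ_c0fun]
    rfl

end base

section step

variable {i : ℕ} (F : SndFamily θ I i)

/-- the connecting map of the twisted embedding sequence -/
noncomputable def dTw (i : ℕ) (M : ModuleCat.{u} A) :
    ↑((localCohomology I i).obj ((TwF θ).obj (embSC M).X₃)) →ₗ[A]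
      ↑((localCohomology I (i + 1)).obj ((TwF θ).obj M)) :=
  (Hδ I i (twSC θ (embSC M)) (twSC_shortExact θ (embSC_shortExact M))).hom

/-- the connecting map of the embedding sequence -/
noncomputable def dS (i : ℕ) (M : ModuleCat.{u} A) :
    ↑((localCohomology I i).obj (embSC M).X₃) →ₗ[A] ↑((localCohomology I (i + 1)).obj M) :=
  (Hδ I i (embSC M) (embSC_shortExact M)).hom

theorem dTw_surj (M : ModuleCat.{u} A)
    (u : (localCohomology I (i + 1)).obj ((TwF θ).obj M)) : ∃ z, dTw θ I i M z = u := by
  apply H_exact₁ I i (twSC θ (embSC M)) (twSC_shortExact θ (embSC_shortExact M))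
  exact tw_injective_eq_zero θ I (embSC M).X₂ i _

theorem dTw_ker (M : ModuleCat.{u} A) (z : (localCohomology I i).obj ((TwF θ).obj (embSC M).X₃))
    (hz : dTw θ I i M z = 0) :
    ∃ y : (localCohomology I i).obj ((TwF θ).obj (embSC M).X₂),
      (localCohomology I i).map ((TwF θ).map (embSC M).g) y = z :=
  H_exact₃ I i (twSC θ (embSC M)) (twSC_shortExact θ (embSC_shortExact M)) z hz

theorem dS_map_g (M : ModuleCat.{u} A) (y : (localCohomology I i).obj (embSC M).X₂) :
    dS I i M ((localCohomology I i).map (embSC M).g y) = 0 :=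
  Hδ_map_g I i (embSC M) (embSC_shortExact M) y

theorem dS_pr (M : ModuleCat.{u} A) (z : (localCohomology I i).obj ((TwF θ).obj (embSC M).X₃)) :
    dS I i M ((localCohomology I i).map (prN θ (embSC M).X₃) z) =
      (localCohomology I (i + 1)).map (prN θ M) (dTw θ I i M z) :=
  (Hδ_naturalityS (prSC θ (embSC M)) (twSC_shortExact θ (embSC_shortExact M))
      (embSC_shortExact M) I i z).symm

theorem dTw_nat {M N : ModuleCat.{u} A} (g : M ⟶ N)
    (z : (localCohomology I i).obj ((TwF θ).obj (embSC M).X₃)) :
    (localCohomology I (i + 1)).map ((TwF θ).map g) (dTw θ I i M z) =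
      dTw θ I i N ((localCohomology I i).map ((TwF θ).map (embMap g).τ₃) z) :=
  Hδ_naturalityS (twSCMap θ (embMap g)) (twSC_shortExact θ (embSC_shortExact M))
      (twSC_shortExact θ (embSC_shortExact N)) I i z

theorem dS_nat {M N : ModuleCat.{u} A} (g : M ⟶ N)
    (w : (localCohomology I i).obj (embSC M).X₃) :
    (localCohomology I (i + 1)).map g (dS I i M w) =
      dS I i N ((localCohomology I i).map (embMap g).τ₃ w) :=
  Hδ_naturalityS (embMap g) (embSC_shortExact M) (embSC_shortExact N) I i w

/-- the shifted second projection, as a function -/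
noncomputable def stepFun (M : ModuleCat.{u} A)
    (u : (localCohomology I (i + 1)).obj ((TwF θ).obj M)) : (localCohomology I (i + 1)).obj M :=
  dS I i M (F.c (embSC M).X₃ (Classical.choose (dTw_surj θ I M u)))

theorem stepFun_dTw (M : ModuleCat.{u} A)
    (z : (localCohomology I i).obj ((TwF θ).obj (embSC M).X₃)) :
    stepFun θ I F M (dTw θ I i M z) = dS I i M (F.c (embSC M).X₃ z) := by
  have hspec := Classical.choose_spec (dTw_surj θ I M (dTw θ I i M z))
  set z0 := Classical.choose (dTw_surj θ I M (dTw θ I i M z)) with hz0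
  have hdiff : dTw θ I i M (z - z0) = 0 := by
    rw [map_sub, hspec, sub_self]
  obtain ⟨y, hy⟩ := dTw_ker θ I M (z - z0) hdiff
  have h1 : F.c (embSC M).X₃ (z - z0) = (localCohomology I i).map (embSC M).g (F.c _ y) := by
    rw [← hy]
    exact F.nat (embSC M).g y
  have h2 : dS I i M (F.c (embSC M).X₃ (z - z0)) = 0 := by
    rw [h1]
    exact dS_map_g I M _
  rw [map_sub, map_sub, sub_eq_zero] at h2
  exact h2.symm

/-- the family in degree `i + 1` -/
noncomputable def sndFamilySucc : SndFamily θ I (i + 1) where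
  c M := AddMonoidHom.mk' (stepFun θ I F M) (fun u v => by
    obtain ⟨z, rfl⟩ := dTw_surj θ I M u
    obtain ⟨z', rfl⟩ := dTw_surj θ I M v
    rw [← map_add, stepFun_dTw, stepFun_dTw, stepFun_dTw, map_add, map_add])
  leib M a u := by
    obtain ⟨z, rfl⟩ := dTw_surj θ I M u
    change stepFun θ I F M (a • dTw θ I i M z) = θ a • _ + a • stepFun θ I F M (dTw θ I i M z)
    rw [← map_smul, stepFun_dTw, stepFun_dTw, F.leib, map_add, map_smul, map_smul, dS_pr]
  nat {M N} g u := by
    obtain ⟨z, rfl⟩ := dTw_surj θ I M u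
    change stepFun θ I F N _ = (localCohomology I (i + 1)).map g (stepFun θ I F M _)
    rw [dTw_nat, stepFun_dTw, stepFun_dTw, dS_nat, F.nat]

end step

theorem nonempty_sndFamily : ∀ i : ℕ, Nonempty (SndFamily θ I i)
  | 0 => ⟨sndFamilyZero θ I⟩
  | (i + 1) => by
    obtain ⟨F⟩ := nonempty_sndFamily i
    exact ⟨sndFamilySucc θ I F⟩

theorem exists_derivation_operator (i : ℕ) :
    ∃ D : (localCohomology I i).obj (ModuleCat.of A A) →+ (localCohomology I i).obj (ModuleCat.of A A),
      ∀ (a : A) (ξ : (localCohomology I i).obj (ModuleCat.of A A)),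
        D (a • ξ) = θ a • ξ + a • D ξ := by
  obtain ⟨F⟩ := nonempty_sndFamily θ I i
  refine ⟨(F.c (ModuleCat.of A A)).comp
    ((localCohomology I i).map (secN θ)).hom.toAddMonoidHom, fun a ξ => ?_⟩
  change F.c _ ((localCohomology I i).map (secN θ) (a • ξ)) =
    θ a • ξ + a • F.c _ ((localCohomology I i).map (secN θ) ξ)
  rw [map_smul, F.leib]
  congr 2
  have h := congrArg (fun φ => φ.hom ξ) ((localCohomology I i).map_comp (secN θ) (prN θ _))
  rw [secN_prN, CategoryTheory.Functor.map_id] at h
  exact h.symm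

end Groth.Agent.Lib.Helper14.TwDer
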