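import Mathlib

/-!
# Topological formal unramifiedness via Kähler differentials (helper14)

Shared lemmas for S4560 and S4559 (EGA 0_IV 20.7.4 / 20.7.5 style).

* `eq_algebraMap_of_smul_top_eq_top`, `algHom_ext_of_smul_top_eq_top`: if `Ω[B/A] = 𝔟 Ω[B/A]`, two
  `A`-algebra maps `B → E` killing a power of `𝔟` and agreeing modulo a nilpotent ideal are equal.
* `smul_top_eq_top_of_subsingleton_quotient`: if `Ω[(B/K)/A] = 0`, `K ≤ 𝔟`, `d K ⊆ 𝔟 Ω` then `Ω = 𝔟 Ω`.
-/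

set_option autoImplicit false
universe u
open KaehlerDifferential

namespace Groth.Agent.Lib.Helper14Unram

/-- Step lemma: if `Ω[B/A] = 𝔟 Ω[B/A]`, `I` is a square-zero ideal of a `B`-algebra `C` killed by `𝔟`,
then any `A`-algebra lift `f : B → C` of the structure map modulo `I` equals the structure map. -/
theorem eq_algebraMap_of_smul_top_eq_top {A B C : Type*} [CommRing A] [CommRing B] [CommRing C]
    [Algebra A B] [Algebra A C] [Algebra B C] [IsScalarTower A B C]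
    (𝔟 : Ideal B) (h𝔟 : (𝔟 • ⊤ : Submodule B Ω[B⁄A]) = ⊤)
    (I : Ideal C) (hI : I ^ 2 = ⊥) (hkill : ∀ x ∈ 𝔟, ∀ y ∈ I, algebraMap B C x * y = 0)
    (f : B →ₐ[A] C)
    (e : (Ideal.Quotient.mkₐ A I).comp f = IsScalarTower.toAlgHom A B (C ⧸ I)) (b : B) :
    f b = algebraMap B C b := by
  let D' := derivationToSquareZeroOfLift I hI f e
  let L := D'.liftKaehlerDifferential
  have hL : ∀ ω : Ω[B⁄A], L ω = 0 := by
    intro ω
    have hω : ω ∈ (𝔟 • ⊤ : Submodule B Ω[B⁄A]) := by rw [h𝔟]; trivial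
    refine Submodule.smul_induction_on hω ?_ ?_
    · intro x hx ω' _
      rw [map_smul]
      apply Subtype.ext
      rw [Submodule.coe_smul_of_tower, Algebra.smul_def]
      exact hkill x hx _ (L ω').2
    · intro y z hy hz
      rw [map_add, hy, hz, add_zero]
  have h1 : L (D A B b) = D' b := Derivation.liftKaehlerDifferential_comp_D D' b
  have h2 : (D' b : C) = f b - algebraMap B C b := derivationToSquareZeroOfLift_apply I hI f e b
  rw [← h1, hL] at h2
  exact sub_eq_zero.mp h2.symm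


/-- Lemma X: if `Ω[B/A] = 𝔟 Ω[B/A]`, two `A`-algebra maps `B → E` which kill a power of `𝔟` and agree
modulo a nilpotent ideal are equal. -/
theorem algHom_ext_of_smul_top_eq_top {A B : Type*} [CommRing A] [CommRing B] [Algebra A B]
    (𝔟 : Ideal B) (h𝔟 : (𝔟 • ⊤ : Submodule B Ω[B⁄A]) = ⊤)
    {E : Type*} [CommRing E] [Algebra A E] (J : Ideal E) (hJ : IsNilpotent J) (v₁ v₂ : B →ₐ[A] E)
    (h1 : ∃ m : ℕ, ∀ x ∈ 𝔟 ^ m, v₁ x = 0) (h2 : ∃ m : ℕ, ∀ x ∈ 𝔟 ^ m, v₂ x = 0)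
    (hv : ∀ b : B, Ideal.Quotient.mk J (v₁ b) = Ideal.Quotient.mk J (v₂ b)) : v₁ = v₂ := by
  -- the nilpotent ideal N
  have hnil : ∀ v : B →ₐ[A] E, (∃ m : ℕ, ∀ x ∈ 𝔟 ^ m, v x = 0) → IsNilpotent (𝔟.map v) := by
    rintro v ⟨m, hm⟩
    refine ⟨m, ?_⟩
    rw [← Ideal.map_pow, Ideal.zero_eq_bot, Ideal.map_eq_bot_iff_le_ker]
    exact fun x hx => hm x hx
  have hsup : ∀ I₁ I₂ : Ideal E, IsNilpotent I₁ → IsNilpotent I₂ → IsNilpotent (I₁ ⊔ I₂) := by
    rintro I₁ I₂ ⟨a, ha⟩ ⟨b, hb⟩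
    refine ⟨a + b, ?_⟩
    have := Ideal.sup_pow_add_le_pow_sup_pow (I := I₁) (J := I₂) (n := a) (m := b)
    rw [ha, hb, Ideal.zero_eq_bot, sup_bot_eq] at this
    exact le_bot_iff.mp this
  set N : Ideal E := J ⊔ 𝔟.map v₁ ⊔ 𝔟.map v₂ with hN
  have hNnil : IsNilpotent N := hsup _ _ (hsup _ _ hJ (hnil v₁ h1)) (hnil v₂ h2)
  have hJN : J ≤ N := le_sup_of_le_left le_sup_left
  have hv₂N : ∀ x ∈ 𝔟, v₂ x ∈ N := fun x hx =>
    (le_sup_right : 𝔟.map v₂ ≤ N) (Ideal.mem_map_of_mem _ hx)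
  -- induction on the filtration
  have key : ∀ i : ℕ, ∀ b : B, v₁ b - v₂ b ∈ N ^ (i + 1) := by
    intro i
    induction i with
    | zero =>
      intro b
      rw [zero_add, pow_one]
      exact hJN (Ideal.Quotient.eq.mp (hv b))
    | succ i ih =>
      intro b
      set C := E ⧸ N ^ (i + 1 + 1) with hC
      let π : E →ₐ[A] C := Ideal.Quotient.mkₐ A _
      let w₁ : B →ₐ[A] C := π.comp v₁
      let w₂ : B →ₐ[A] C := π.comp v₂
      let _ : Algebra B C := w₂.toRingHom.toAlgebra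
      have : IsScalarTower A B C := IsScalarTower.of_algebraMap_eq fun a => (w₂.commutes a).symm
      let I : Ideal C := (N ^ (i + 1)).map π
      have hI : I ^ 2 = ⊥ := by
        rw [← Ideal.map_pow, ← pow_mul, Ideal.map_eq_bot_iff_le_ker]
        intro x hx
        rw [RingHom.mem_ker]
        refine Ideal.Quotient.eq_zero_iff_mem.mpr (Ideal.pow_le_pow_right ?_ hx)
        omega
      have hkill : ∀ x ∈ 𝔟, ∀ y ∈ I, algebraMap B C x * y = 0 := by
        intro x hx y hy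
        have h3 : algebraMap B C x ∈ N.map π := Ideal.mem_map_of_mem _ (hv₂N x hx)
        have h4 : algebraMap B C x * y ∈ N.map π * I := Ideal.mul_mem_mul h3 hy
        rw [← Ideal.map_mul, ← pow_succ'] at h4
        have h5 : (N ^ (i + 1 + 1)).map π = ⊥ := by
          rw [Ideal.map_eq_bot_iff_le_ker]
          intro z hz
          rw [RingHom.mem_ker]
          exact Ideal.Quotient.eq_zero_iff_mem.mpr hz
        rw [h5] at h4
        exact h4
      have e : (Ideal.Quotient.mkₐ A I).comp w₁ = IsScalarTower.toAlgHom A B (C ⧸ I) := by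
        ext b'
        change Ideal.Quotient.mk I (w₁ b') = Ideal.Quotient.mk I (w₂ b')
        rw [Ideal.Quotient.eq]
        have : w₁ b' - w₂ b' = π (v₁ b' - v₂ b') := by simp [w₁, w₂]
        rw [this]
        exact Ideal.mem_map_of_mem _ (ih b')
      have hfin := eq_algebraMap_of_smul_top_eq_top 𝔟 h𝔟 I hI hkill w₁ e b
      have h6 : π (v₁ b - v₂ b) = 0 := by
        have : π (v₁ b - v₂ b) = w₁ b - w₂ b := by simp [w₁, w₂]
        rw [this, hfin]
        exact sub_self _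
      exact Ideal.Quotient.eq_zero_iff_mem.mp h6
  obtain ⟨n, hn⟩ := hNnil
  ext b
  have h7 := key n b
  have h8 : N ^ (n + 1) = ⊥ := by rw [pow_succ, hn, Ideal.zero_eq_bot, Ideal.bot_mul]
  rw [h8] at h7
  exact sub_eq_zero.mp h7


open TensorProduct in
/-- Lemma Y: if `Ω[(B/K)/A] = 0`, `K ≤ 𝔟` and `d(K) ⊆ 𝔟 Ω[B/A]`, then `Ω[B/A] = 𝔟 Ω[B/A]`. -/
theorem smul_top_eq_top_of_subsingleton_quotient {A B : Type*} [CommRing A] [CommRing B]
    [Algebra A B] (K 𝔟 : Ideal B) (hK : K ≤ 𝔟)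
    (hd : ∀ x ∈ K, D A B x ∈ (𝔟 • ⊤ : Submodule B Ω[B⁄A]))
    [Subsingleton Ω[(B ⧸ K)⁄A]] : (𝔟 • ⊤ : Submodule B Ω[B⁄A]) = ⊤ := by
  rw [eq_top_iff]
  intro ω _
  have hex := KaehlerDifferential.exact_kerCotangentToTensor_mapBaseChange A B (B ⧸ K)
    Ideal.Quotient.mk_surjective
  have h0 : mapBaseChange A B (B ⧸ K) ((1 : B ⧸ K) ⊗ₜ[B] ω) = 0 := Subsingleton.elim _ _
  obtain ⟨c, hc⟩ := (hex _).mp h0
  obtain ⟨x, rfl⟩ := Ideal.toCotangent_surjective _ c
  rw [kerCotangentToTensor_toCotangent] at hc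
  have hxK : (x : B) ∈ K := by
    have h := x.2
    rw [RingHom.mem_ker] at h
    exact Ideal.Quotient.eq_zero_iff_mem.mp h
  have h1 : (1 : B ⧸ K) ⊗ₜ[B] (ω - D A B (x : B)) = 0 := by
    rw [TensorProduct.tmul_sub, hc, sub_self]
  have h2 : ω - D A B (x : B) ∈ (K • ⊤ : Submodule B Ω[B⁄A]) := by
    have := congrArg (TensorProduct.quotTensorEquivQuotSMul Ω[B⁄A] K) h1
    rw [map_zero, ← map_one (Ideal.Quotient.mk K), TensorProduct.quotTensorEquivQuotSMul_mk_tmul,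
      one_smul, Submodule.Quotient.mk_eq_zero] at this
    exact this
  have h3 : ω = (ω - D A B (x : B)) + D A B (x : B) := by abel
  rw [h3]
  exact Submodule.add_mem _ (Submodule.smul_mono_left hK h2) (hd _ hxK)

end Groth.Agent.Lib.Helper14Unram
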