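/-
Helper14UnramModel (helper14): an unramified `R`-algebra `S` is a quotient of `R ⊗[R₀] S₀` for a
finite type `ℤ`-subalgebra `R₀ ⊆ R` and an unramified `R₀`-algebra `S₀` (`main`).
Tools: `exists_ker_pderiv` (for a surjection `R[X₁..Xₙ] → S` with `S` formally unramified, each
`Xᵢ` differs from an element of the kernel by a polynomial all of whose partials lie in the kernel),
`derivation_eq_sum` (chain rule for derivations of `R[X₁..Xₙ]`), `formallyUnramified_quotient`.
-/
import Mathlib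

set_option autoImplicit false
universe u

namespace Groth.Agent.Lib.Helper14.UnramModel

open TensorProduct MvPolynomial

section PartA

variable {R : Type u} [CommRing R] {n : ℕ} {S : Type u} [CommRing S] [Algebra R S]
  [Algebra (MvPolynomial (Fin n) R) S] [IsScalarTower R (MvPolynomial (Fin n) R) S]

theorem exists_ker_pderiv
    (hsurj : Function.Surjective (algebraMap (MvPolynomial (Fin n) R) S))
    [Algebra.FormallyUnramified R S] (i : Fin n) :
    ∃ h ∈ RingHom.ker (algebraMap (MvPolynomial (Fin n) R) S),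
      ∀ k, algebraMap (MvPolynomial (Fin n) R) S (pderiv k (X i - h)) = 0 := by
  have hex := KaehlerDifferential.exact_kerCotangentToTensor_mapBaseChange R
    (MvPolynomial (Fin n) R) S hsurj
  obtain ⟨c, hc⟩ := (hex ((1 : S) ⊗ₜ[MvPolynomial (Fin n) R]
    KaehlerDifferential.D R (MvPolynomial (Fin n) R) (X i))).1 (Subsingleton.elim _ _)
  obtain ⟨h, rfl⟩ := Ideal.toCotangent_surjective _ c
  rw [KaehlerDifferential.kerCotangentToTensor_toCotangent] at hc
  refine ⟨h.1, h.2, fun k => ?_⟩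
  let dk : Derivation R (MvPolynomial (Fin n) R) S :=
    (Algebra.linearMap (MvPolynomial (Fin n) R) S).compDer (pderiv k)
  have h1 := congrArg (LinearMap.liftBaseChange S dk.liftKaehlerDifferential) hc
  simp only [LinearMap.liftBaseChange_tmul, one_smul, Derivation.liftKaehlerDifferential_comp_D]
    at h1
  have h2 : dk (X i - h.1) = 0 := by rw [map_sub, h1, sub_self]
  exact h2

end PartA
section PartC

variable {R₀ : Type u} [CommRing R₀] {n : ℕ}

/-- chain rule for derivations of a polynomial ring -/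
theorem derivation_eq_sum {M : Type*} [AddCommGroup M] [Module R₀ M]
    [Module (MvPolynomial (Fin n) R₀) M] [IsScalarTower R₀ (MvPolynomial (Fin n) R₀) M]
    (D : Derivation R₀ (MvPolynomial (Fin n) R₀) M) (p : MvPolynomial (Fin n) R₀) :
    D p = ∑ k, pderiv k p • D (X k) := by
  induction p using MvPolynomial.induction_on with
  | C a => simp
  | add p q hp hq => simp only [map_add, hp, hq, add_smul, Finset.sum_add_distrib]
  | mul_X p i hp =>
    rw [Derivation.leibniz, hp]
    simp only [Derivation.leibniz, pderiv_X, smul_eq_mul, add_smul, Finset.sum_add_distrib]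
    rw [Finset.smul_sum]
    congr 1
    · rw [Finset.sum_eq_single i]
      · simp
      · intro b _ hb
        simp [hb]
      · intro hi; exact absurd (Finset.mem_univ i) hi
    · refine Finset.sum_congr rfl fun k _ => ?_
      rw [smul_smul, mul_comm]

variable (I₀ : Ideal (MvPolynomial (Fin n) R₀)) (h : Fin n → MvPolynomial (Fin n) R₀)

theorem formallyUnramified_quotient (hI : ∀ i, h i ∈ I₀) (hI' : ∀ i k, pderiv k (X i - h i) ∈ I₀) :
    Algebra.FormallyUnramified R₀ (MvPolynomial (Fin n) R₀ ⧸ I₀) := by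
  rw [Algebra.formallyUnramified_iff]
  set S₀ := MvPolynomial (Fin n) R₀ ⧸ I₀
  let D := KaehlerDifferential.D R₀ S₀
  let D' : Derivation R₀ (MvPolynomial (Fin n) R₀) (Ω[S₀⁄R₀]) :=
    D.compAlgebraMap (MvPolynomial (Fin n) R₀)
  have hD'X : ∀ i, D' (X i) = 0 := by
    intro i
    have h1 : D' (h i) = 0 := by
      show D (algebraMap _ S₀ (h i)) = 0
      have : algebraMap (MvPolynomial (Fin n) R₀) S₀ (h i) = 0 :=
        Ideal.Quotient.eq_zero_iff_mem.2 (hI i)
      rw [this, map_zero]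
    have h2 : D' (X i - h i) = 0 := by
      rw [derivation_eq_sum D']
      refine Finset.sum_eq_zero fun k _ => ?_
      rw [← algebraMap_smul S₀]
      have : algebraMap (MvPolynomial (Fin n) R₀) S₀ (pderiv k (X i - h i)) = 0 :=
        Ideal.Quotient.eq_zero_iff_mem.2 (hI' i k)
      rw [this]
      exact zero_smul S₀ (D' (X k))
    rw [map_sub, h1, sub_zero] at h2
    exact h2
  have hadj : Algebra.adjoin R₀ (Set.range fun i : Fin n => (Ideal.Quotient.mkₐ R₀ I₀) (X i)) = ⊤ := by
    have : (Set.range fun i : Fin n => (Ideal.Quotient.mkₐ R₀ I₀) (X i)) =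
        (Ideal.Quotient.mkₐ R₀ I₀) '' (Set.range (X : Fin n → MvPolynomial (Fin n) R₀)) := by
      rw [← Set.range_comp]; rfl
    rw [this, ← AlgHom.map_adjoin, MvPolynomial.adjoin_range_X, Algebra.map_top]
    exact (AlgHom.range_eq_top _).2 (Ideal.Quotient.mkₐ_surjective R₀ I₀)
  have hD0 : D = 0 := by
    apply Derivation.ext_of_adjoin_eq_top _ hadj
    rintro _ ⟨i, rfl⟩
    exact hD'X i
  have hspan := KaehlerDifferential.span_range_derivation R₀ S₀
  have hr : Set.range (KaehlerDifferential.D R₀ S₀) = {0} := by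
    ext x
    constructor
    · rintro ⟨s, rfl⟩
      show D s = 0
      rw [hD0]; rfl
    · rintro rfl
      exact ⟨0, map_zero _⟩
  rw [hr, Submodule.span_zero_singleton] at hspan
  exact (Submodule.subsingleton_iff S₀).1 (subsingleton_of_bot_eq_top hspan)

end PartC

section Main

theorem partD {R : Type u} [CommRing R] {S : Type u} [CommRing S] [Algebra R S]
    (R₀ : Type u) [CommRing R₀] [Algebra R₀ R] (n : ℕ)
    (π : MvPolynomial (Fin n) R →ₐ[R] S) (hπ : Function.Surjective π)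
    (h : Fin n → MvPolynomial (Fin n) R) (hker : ∀ i, π (h i) = 0)
    (hpd : ∀ i k, π (pderiv k (X i - h i)) = 0)
    (h₀ : Fin n → MvPolynomial (Fin n) R₀)
    (hh₀ : ∀ i, MvPolynomial.map (algebraMap R₀ R) (h₀ i) = h i) :
    ∃ (S₀ : Type u) (_ : CommRing S₀) (_ : Algebra R₀ S₀) (_ : Algebra.Unramified R₀ S₀)
      (ψ : R ⊗[R₀] S₀ →ₐ[R] S), Function.Surjective ψ := by
  classical
  let _ : Algebra R₀ S := ((algebraMap R S).comp (algebraMap R₀ R)).toAlgebra
  have : IsScalarTower R₀ R S := IsScalarTower.of_algebraMap_eq' rfl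
  let I₀ : Ideal (MvPolynomial (Fin n) R₀) :=
    Ideal.span (Set.range h₀ ∪ Set.range (fun ik : Fin n × Fin n => pderiv ik.2 (X ik.1 - h₀ ik.1)))
  have hI : ∀ i, h₀ i ∈ I₀ := fun i => Ideal.subset_span (Or.inl ⟨i, rfl⟩)
  have hI' : ∀ i k, pderiv k (X i - h₀ i) ∈ I₀ := fun i k =>
    Ideal.subset_span (Or.inr ⟨(i, k), rfl⟩)
  have hunr : Algebra.Unramified R₀ (MvPolynomial (Fin n) R₀ ⧸ I₀) :=
    { formallyUnramified := formallyUnramified_quotient I₀ h₀ hI hI'
      finiteType := Algebra.FiniteType.of_surjective (Ideal.Quotient.mkₐ R₀ I₀)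
        (Ideal.Quotient.mkₐ_surjective R₀ I₀) }
  -- the map to `S`
  let φ₀ : MvPolynomial (Fin n) R₀ →ₐ[R₀] S := aeval (fun i => π (X i))
  have hφ₀ : ∀ p, φ₀ p = π (MvPolynomial.map (algebraMap R₀ R) p) := by
    intro p
    have h1 : π = aeval (fun i => π (X i)) := MvPolynomial.aeval_unique π
    rw [h1]
    exact (MvPolynomial.aeval_map_algebraMap R (fun i => π (X i)) p).symm
  have hkill : ∀ a ∈ I₀, φ₀ a = 0 := by
    intro a ha
    have hle : I₀ ≤ RingHom.ker φ₀.toRingHom := by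
      rw [Ideal.span_le]
      rintro _ (⟨i, rfl⟩ | ⟨ik, rfl⟩)
      · show φ₀ (h₀ i) = 0
        rw [hφ₀, hh₀]
        exact hker i
      · show φ₀ (pderiv ik.2 (X ik.1 - h₀ ik.1)) = 0
        rw [hφ₀, ← MvPolynomial.pderiv_map, map_sub, MvPolynomial.map_X, hh₀]
        exact hpd ik.1 ik.2
    exact hle ha
  let ψ₀ : (MvPolynomial (Fin n) R₀ ⧸ I₀) →ₐ[R₀] S := Ideal.Quotient.liftₐ I₀ φ₀ hkill
  let ψ : R ⊗[R₀] (MvPolynomial (Fin n) R₀ ⧸ I₀) →ₐ[R] S :=
    Algebra.TensorProduct.lift (Algebra.ofId R S) ψ₀ (fun _ _ => Commute.all _ _)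
  refine ⟨MvPolynomial (Fin n) R₀ ⧸ I₀, inferInstance, inferInstance, hunr, ψ, ?_⟩
  rw [← AlgHom.range_eq_top, eq_top_iff]
  have hadj : Algebra.adjoin R (Set.range fun i : Fin n => π (X i)) = ⊤ := by
    have : (Set.range fun i : Fin n => π (X i)) =
        π '' (Set.range (X : Fin n → MvPolynomial (Fin n) R)) := by
      rw [← Set.range_comp]; rfl
    rw [this, ← AlgHom.map_adjoin, MvPolynomial.adjoin_range_X, Algebra.map_top]
    exact (AlgHom.range_eq_top _).2 hπ
  rw [← hadj]
  apply Algebra.adjoin_le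
  rintro _ ⟨i, rfl⟩
  refine ⟨(1 : R) ⊗ₜ[R₀] (Ideal.Quotient.mk I₀ (X i)), ?_⟩
  show ψ ((1 : R) ⊗ₜ[R₀] (Ideal.Quotient.mk I₀ (X i))) = π (X i)
  rw [Algebra.TensorProduct.lift_tmul, map_one, one_mul]
  show φ₀ (X i) = π (X i)
  simp [φ₀]

theorem main (R : Type u) [CommRing R] (S : Type u) [CommRing S] [Algebra R S]
    [Algebra.Unramified R S] :
    ∃ (R₀ : Type u) (_ : CommRing R₀) (_ : Algebra.FiniteType ℤ R₀) (S₀ : Type u) (_ : CommRing S₀)
      (_ : Algebra R₀ S₀) (_ : Algebra.Unramified R₀ S₀) (_ : Algebra R₀ R)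
      (ψ : R ⊗[R₀] S₀ →ₐ[R] S), Function.Surjective ψ := by
  classical
  have hft : Algebra.FiniteType R S := Algebra.Unramified.finiteType
  have hfu : Algebra.FormallyUnramified R S := Algebra.Unramified.formallyUnramified
  obtain ⟨n, π, hπ⟩ := Algebra.FiniteType.iff_quotient_mvPolynomial''.1 hft
  obtain ⟨h, hker, hpd⟩ : ∃ h : Fin n → MvPolynomial (Fin n) R, (∀ i, π (h i) = 0) ∧
      ∀ i k, π (pderiv k (X i - h i)) = 0 := by
    let _ : Algebra (MvPolynomial (Fin n) R) S := π.toRingHom.toAlgebra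
    have : IsScalarTower R (MvPolynomial (Fin n) R) S :=
      IsScalarTower.of_algebraMap_eq' π.comp_algebraMap.symm
    have hsurj : Function.Surjective (algebraMap (MvPolynomial (Fin n) R) S) := hπ
    choose h hker hpd using exists_ker_pderiv (R := R) (S := S) (n := n) hsurj
    exact ⟨h, hker, hpd⟩
  -- the coefficient ring
  let T : Set R := ⋃ i, ((h i).coeffs : Set R)
  have hT : T.Finite := Set.finite_iUnion fun _ => Finset.finite_toSet _
  have hmem : ∀ i, h i ∈ Set.range (MvPolynomial.map (algebraMap (Algebra.adjoin ℤ T) R)) := by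
    intro i
    rw [MvPolynomial.mem_range_map_iff_coeffs_subset]
    intro c hc
    refine ⟨⟨c, Algebra.subset_adjoin (Set.mem_iUnion.2 ⟨i, hc⟩)⟩, rfl⟩
  choose h₀ hh₀ using hmem
  have hR₀ : Algebra.FiniteType ℤ (Algebra.adjoin ℤ T) := Algebra.FiniteType.adjoin_of_finite hT
  obtain ⟨S₀, i1, i2, i3, ψ, hψ⟩ := partD (Algebra.adjoin ℤ T) n π hπ h hker hpd h₀ hh₀
  refine ⟨Algebra.adjoin ℤ T, inferInstance, ?_, S₀, i1, i2, i3, inferInstance, ψ, hψ⟩
  convert hR₀

end Main

end Groth.Agent.Lib.Helper14.UnramModel
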