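import Groth.Agent.Lib.Helper14WEField
import Groth.Prelude.Def_EtAlgD

/-!
# The maximal weakly étale subalgebra over a field (helper14)

`sepSub K A`: the subalgebra of elements of `A` that are roots of separable polynomials over `K`;
`maxWeaklyEtale_eq_sepSub`: it is the maximal weakly étale subalgebra `EtAlgD.maxWeaklyEtale K A`.
-/

set_option autoImplicit false
universe u
open TensorProduct Polynomial CategoryTheory

namespace Groth.Agent.Lib.Helper14.WEField


/-- The subalgebra generated by finitely many roots of separable polynomials is étale. -/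
theorem etale_adjoin (K A : Type u) [Field K] [CommRing A] [Algebra K A] (t : Set A) (ht : t.Finite)
    (h : ∀ x ∈ t, ∃ f : K[X], f.Separable ∧ aeval x f = 0) :
    Algebra.Etale K (Algebra.adjoin K t) := by
  refine etale_of_adjoin_eq_top K (Algebra.adjoin K t)
    (((↑) : Algebra.adjoin K t → A) ⁻¹' t) (ht.preimage Subtype.val_injective.injOn)
    Algebra.adjoin_adjoin_coe_preimage ?_
  intro x hx
  obtain ⟨f, hf, hfx⟩ := h x hx
  refine ⟨f, hf, Subtype.val_injective ?_⟩
  rw [← Subalgebra.aeval_coe, hfx]
  rfl

/-- Elements of the subalgebra generated by roots of separable polynomials are roots of separable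
polynomials. -/
theorem sep_of_mem_adjoin (K A : Type u) [Field K] [CommRing A] [Algebra K A] (t : Set A)
    (ht : t.Finite) (h : ∀ x ∈ t, ∃ f : K[X], f.Separable ∧ aeval x f = 0) {z : A}
    (hz : z ∈ Algebra.adjoin K t) : ∃ f : K[X], f.Separable ∧ aeval z f = 0 := by
  haveI := etale_adjoin K A t ht h
  obtain ⟨f, hf, hfz⟩ := exists_separable_aeval_eq_zero K (Algebra.adjoin K t) ⟨z, hz⟩
  refine ⟨f, hf, ?_⟩
  have := congrArg Subtype.val hfz
  rwa [← Subalgebra.aeval_coe] at this

/-- The subalgebra of elements that are roots of separable polynomials. -/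
def sepSub (K A : Type u) [Field K] [CommRing A] [Algebra K A] : Subalgebra K A where
  carrier := {x | ∃ f : K[X], f.Separable ∧ aeval x f = 0}
  mul_mem' := by
    intro x y hx hy
    refine sep_of_mem_adjoin K A {x, y} (Set.toFinite _) ?_
      (Subalgebra.mul_mem _ (Algebra.subset_adjoin (by simp)) (Algebra.subset_adjoin (by simp)))
    rintro z (rfl | rfl)
    · exact hx
    · exact hy
  add_mem' := by
    intro x y hx hy
    refine sep_of_mem_adjoin K A {x, y} (Set.toFinite _) ?_
      (Subalgebra.add_mem _ (Algebra.subset_adjoin (by simp)) (Algebra.subset_adjoin (by simp)))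
    rintro z (rfl | rfl)
    · exact hx
    · exact hy
  algebraMap_mem' r := ⟨X - C r, separable_X_sub_C, by simp⟩

theorem mem_sepSub_iff {K A : Type u} [Field K] [CommRing A] [Algebra K A] {x : A} :
    x ∈ sepSub K A ↔ ∃ f : K[X], f.Separable ∧ aeval x f = 0 := Iff.rfl

theorem isSepAlg_of_le_sepSub {K A : Type u} [Field K] [CommRing A] [Algebra K A] (S : Subalgebra K A)
    (h : S ≤ sepSub K A) : IsSepAlg K S := by
  intro x
  obtain ⟨f, hf, hfx⟩ := h x.2
  refine ⟨f, hf, Subtype.val_injective ?_⟩
  rw [← Subalgebra.aeval_coe, hfx]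
  rfl

theorem le_sepSub_of_weaklyEtale {K A : Type u} [Field K] [CommRing A] [Algebra K A] (S : Subalgebra K A)
    [Algebra.WeaklyEtale K S] : S ≤ sepSub K A := by
  intro x hx
  obtain ⟨f, hf, hfx⟩ := exists_separable_aeval_eq_zero K S ⟨x, hx⟩
  refine ⟨f, hf, ?_⟩
  have := congrArg Subtype.val hfx
  rwa [← Subalgebra.aeval_coe] at this

theorem maxWeaklyEtale_eq_sepSub (K A : Type u) [Field K] [CommRing A] [Algebra K A] :
    EtAlgD.maxWeaklyEtale K A = sepSub K A := by
  apply le_antisymm
  · apply sSup_le
    intro S hS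
    haveI : Algebra.WeaklyEtale K S := hS
    exact le_sepSub_of_weaklyEtale S
  · apply le_sSup
    exact (isSepAlg_of_le_sepSub _ le_rfl).weaklyEtale

end Groth.Agent.Lib.Helper14.WEField
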