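import Groth.Agent.Lib.Helper14WEField2

set_option autoImplicit false
universe u
open TensorProduct Polynomial

namespace Groth.Agent.Lib.Helper14.WEField

/-- a nilpotent root of a separable polynomial is zero -/
theorem eq_zero_of_isNilpotent_of_separable {K A : Type*} [Field K] [CommRing A] [Algebra K A] {z : A}
    (hz : IsNilpotent z) {f : K[X]} (hf : f.Separable) (hfz : aeval z f = 0) : z = 0 := by
  rcases subsingleton_or_nontrivial A with hA | hA
  · exact Subsingleton.elim _ _
  have hdec : aeval z (divX f) * z + algebraMap K A (f.coeff 0) = 0 := by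
    have := congrArg (aeval z) (divX_mul_X_add f)
    rw [hfz] at this
    simpa using this
  by_cases h0 : f.coeff 0 = 0
  · have h' : IsUnit (aeval z (derivative f)) := by
      obtain ⟨a, b, hab⟩ := hf
      have := congrArg (aeval z) hab
      simp only [map_add, map_mul, hfz, mul_zero, zero_add, map_one] at this
      exact IsUnit.of_mul_eq_one _ (by rwa [mul_comm] at this)
    have hu := existsUnique_nilpotent_sub_and_aeval_eq_zero (P := f) (x := z)
      (by rw [hfz]; exact IsNilpotent.zero) h'
    refine hu.unique ⟨by simp, hfz⟩ ⟨by simpa using hz, ?_⟩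
    rw [← coeff_zero_eq_aeval_zero', h0, map_zero]
  · exfalso
    have hunit : IsUnit (algebraMap K A (f.coeff 0)) := (IsUnit.mk0 _ h0).map _
    have hnil : IsNilpotent (algebraMap K A (f.coeff 0)) := by
      have : algebraMap K A (f.coeff 0) = -(aeval z (divX f)) * z := by
        rw [neg_mul]
        exact eq_neg_of_add_eq_zero_right hdec
      rw [this]
      exact Commute.isNilpotent_mul_left (Commute.all _ _) hz
    exact hnil.not_isUnit hunit

/-- (2): the separable elements of a subalgebra -/
theorem sepSub_map_val {K A : Type u} [Field K] [CommRing A] [Algebra K A] (A' : Subalgebra K A) :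
    (sepSub K A').map A'.val = sepSub K A ⊓ A' := by
  ext x
  constructor
  · rintro ⟨⟨x', hx'⟩, ⟨f, hf, hfx⟩, rfl⟩
    refine ⟨⟨f, hf, ?_⟩, hx'⟩
    have := congrArg Subtype.val hfx
    rwa [← Subalgebra.aeval_coe] at this
  · rintro ⟨⟨f, hf, hfx⟩, hxA'⟩
    refine ⟨⟨x, hxA'⟩, ⟨f, hf, Subtype.val_injective ?_⟩, rfl⟩
    rw [← Subalgebra.aeval_coe]
    exact hfx

/-- (4): reduction modulo the nilradical is a bijection on separable elements -/
theorem bijOn_mk_sepSub (K A : Type u) [Field K] [CommRing A] [Algebra K A] :
    Set.BijOn (Ideal.Quotient.mkₐ K (nilradical A)) (sepSub K A) (sepSub K (A ⧸ nilradical A)) := by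
  refine ⟨?_, ?_, ?_⟩
  · rintro x ⟨f, hf, hfx⟩
    refine ⟨f, hf, ?_⟩
    rw [Polynomial.aeval_algHom_apply, hfx, map_zero]
  · intro x hx y hy hxy
    have hsub : x - y ∈ sepSub K A := Subalgebra.sub_mem _ hx hy
    obtain ⟨f, hf, hfz⟩ := hsub
    have hnil : IsNilpotent (x - y) := by
      rw [← mem_nilradical, ← Ideal.Quotient.eq]
      exact hxy
    exact sub_eq_zero.1 (eq_zero_of_isNilpotent_of_separable hnil hf hfz)
  · rintro y' ⟨f, hf, hfy⟩
    obtain ⟨y, rfl⟩ := Ideal.Quotient.mkₐ_surjective K (nilradical A) y'
    have hnil : IsNilpotent (aeval y f) := by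
      rw [← mem_nilradical, ← Ideal.Quotient.eq_zero_iff_mem]
      have := Polynomial.aeval_algHom_apply (Ideal.Quotient.mkₐ K (nilradical A)) y f
      rw [hfy] at this
      exact this.symm
    have hunit : IsUnit (aeval y (derivative f)) := by
      obtain ⟨a, b, hab⟩ := hf
      have h1 := congrArg (aeval y) hab
      simp only [map_add, map_mul, map_one] at h1
      have h2 : aeval y b * aeval y (derivative f) = 1 - aeval y a * aeval y f := by
        rw [← h1]; ring
      have h3 : IsUnit (aeval y b * aeval y (derivative f)) := by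
        rw [h2]
        exact (Commute.isNilpotent_mul_left (Commute.all _ _) hnil).isUnit_one_sub
      exact isUnit_of_mul_isUnit_right h3
    obtain ⟨r, ⟨hr1, hr2⟩, -⟩ := existsUnique_nilpotent_sub_and_aeval_eq_zero hnil hunit
    refine ⟨r, ⟨f, hf, hr2⟩, ?_⟩
    symm
    change Ideal.Quotient.mk (nilradical A) y = Ideal.Quotient.mk (nilradical A) r
    rw [Ideal.Quotient.eq, mem_nilradical]
    exact hr1

/-- a nonzero root of a separable polynomial in a connected algebra is invertible -/
theorem exists_mul_eq_one_of_separable {K R : Type*} [Field K] [CommRing R] [Algebra K R]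
    (hidem : ∀ e : R, IsIdempotentElem e → e = 0 ∨ e = 1) {a : R} (ha : a ≠ 0) {f : K[X]}
    (hf : f.Separable) (hfa : aeval a f = 0) : ∃ b : R, a * b = 1 := by
  have hdec : aeval a (divX f) * a + algebraMap K R (f.coeff 0) = 0 := by
    have := congrArg (aeval a) (divX_mul_X_add f)
    rw [hfa] at this
    simpa using this
  by_cases h0 : f.coeff 0 = 0
  · have hfg : f = divX f * X := by
      conv_lhs => rw [← divX_mul_X_add f, h0, map_zero, add_zero]
    have hcop : IsCoprime (divX f) X := by
      rw [hfg] at hf
      exact hf.isCoprime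
    obtain ⟨p, q, hpq⟩ := hcop
    have h1 := congrArg (aeval a) hpq
    simp only [map_add, map_mul, map_one, aeval_X] at h1
    have hga : aeval a (divX f) * a = 0 := by
      rw [h0, map_zero, add_zero] at hdec
      exact hdec
    have he : IsIdempotentElem (aeval a q * a) := by
      have h2 : aeval a q * a = 1 - aeval a p * aeval a (divX f) := by rw [← h1]; ring
      change aeval a q * a * (aeval a q * a) = aeval a q * a
      have h3 : aeval a p * aeval a (divX f) * (aeval a q * a) = 0 := by
        have : aeval a p * aeval a (divX f) * (aeval a q * a) =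
            aeval a p * aeval a q * (aeval a (divX f) * a) := by ring
        rw [this, hga, mul_zero]
      calc aeval a q * a * (aeval a q * a)
          = (1 - aeval a p * aeval a (divX f)) * (aeval a q * a) := by rw [← h2]
        _ = aeval a q * a - aeval a p * aeval a (divX f) * (aeval a q * a) := by ring
        _ = aeval a q * a := by rw [h3, sub_zero]
    rcases hidem _ he with h | h
    · exfalso
      rw [h, add_zero] at h1
      apply ha
      calc a = a * (aeval a p * aeval a (divX f)) := by rw [h1, mul_one]
        _ = aeval a p * (aeval a (divX f) * a) := by ring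
        _ = 0 := by rw [hga, mul_zero]
    · exact ⟨aeval a q, by rw [mul_comm]; exact h⟩
  · refine ⟨-(algebraMap K R (f.coeff 0)⁻¹) * aeval a (divX f), ?_⟩
    have h2 : aeval a (divX f) * a = -algebraMap K R (f.coeff 0) :=
      eq_neg_of_add_eq_zero_left hdec
    calc a * (-(algebraMap K R (f.coeff 0)⁻¹) * aeval a (divX f))
        = -(algebraMap K R (f.coeff 0)⁻¹) * (aeval a (divX f) * a) := by ring
      _ = algebraMap K R ((f.coeff 0)⁻¹ * f.coeff 0) := by rw [h2, map_mul]; ring
      _ = 1 := by rw [inv_mul_cancel₀ h0, map_one]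

/-- (6): in a connected algebra the separable elements form a separable field extension -/
theorem isField_sepSub (K A : Type u) [Field K] [CommRing A] [Algebra K A] [Nontrivial A]
    (hidem : ∀ e : A, IsIdempotentElem e → e = 0 ∨ e = 1) :
    IsField (sepSub K A) ∧ Algebra.IsSeparable K (sepSub K A) := by
  constructor
  · refine ⟨⟨0, 1, zero_ne_one⟩, mul_comm, ?_⟩
    intro a ha
    obtain ⟨f, hf, hfa⟩ := isSepAlg_of_le_sepSub (sepSub K A) le_rfl a
    refine exists_mul_eq_one_of_separable ?_ ha hf hfa
    intro e he
    have he' : IsIdempotentElem (e : A) := by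
      have := congrArg Subtype.val he
      exact this
    rcases hidem _ he' with h | h
    · left; exact Subtype.val_injective h
    · right; exact Subtype.val_injective h
  · refine ⟨fun a => ?_⟩
    obtain ⟨f, hf, hfa⟩ := isSepAlg_of_le_sepSub (sepSub K A) le_rfl a
    exact hf.of_dvd (minpoly.dvd K a hfa)

end Groth.Agent.Lib.Helper14.WEField
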