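/- helper14: weakly associated primes (`FlatCA.weakAss`): elementwise criterion `IsWA`,
   transfer along localizations (`IsLocalizedModule`), semilinear isomorphisms, finitely
   supported functions; flat base change of annihilators of elements. -/
import Mathlib
import Groth.Prelude.Def_FlatCA
import Groth.Agent.Lib.Helper13WeakAss

set_option autoImplicit false
set_option linter.unusedSectionVars false

namespace Groth.Agent.Lib.Helper14.WeakAss

open TensorProduct

universe u v

section basic

variable {R : Type*} [CommRing R] {N : Type*} [AddCommGroup N] [Module R N]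

/-- `z` witnesses that `q` is weakly associated to `N`. -/
def IsWA (q : Ideal R) (z : N) : Prop :=
  (∀ a : R, a • z = 0 → a ∈ q) ∧ ∀ x ∈ q, ∃ s, s ∉ q ∧ ∃ n : ℕ, (s * x ^ n) • z = 0

theorem IsWA.mem_minimalPrimes {q : Ideal R} [q.IsPrime] {z : N} (h : IsWA q z) :
    q ∈ (Submodule.span R {z}).annihilator.minimalPrimes := by
  refine ⟨⟨inferInstance, fun a ha => h.1 a ((Submodule.mem_annihilator_span_singleton z a).mp ha)⟩,
    fun q' hq' hq'q x hx => ?_⟩
  obtain ⟨s, hs, n, hn⟩ := h.2 x hx
  have h1 : s * x ^ n ∈ q' :=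
    hq'.2 ((Submodule.mem_annihilator_span_singleton z _).mpr hn)
  have := hq'.1
  rcases hq'.1.mem_or_mem h1 with h2 | h2
  · exact absurd (hq'q h2) hs
  · exact hq'.1.mem_of_pow_mem n h2

theorem isWA_of_mem_minimalPrimes {q : Ideal R} {z : N}
    (h : q ∈ (Submodule.span R {z}).annihilator.minimalPrimes) : IsWA q z := by
  refine ⟨fun a ha => h.1.2 ((Submodule.mem_annihilator_span_singleton z a).mpr ha),
    fun x hx => ?_⟩
  obtain ⟨s, hs, n, hn⟩ := Groth.Agent.Helper13WeakAss.exists_notMem_mul_pow_mem h hx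
  exact ⟨s, hs, n, (Submodule.mem_annihilator_span_singleton z _).mp hn⟩

end basic

theorem mem_weakAss_iff_isWA {R : Type u} [CommRing R] {N : Type v} [AddCommGroup N] [Module R N]
    (q : Ideal R) [q.IsPrime] : q ∈ FlatCA.weakAss R N ↔ ∃ z : N, IsWA q z :=
  ⟨fun ⟨z, hz⟩ => ⟨z, isWA_of_mem_minimalPrimes hz⟩, fun ⟨z, hz⟩ => ⟨z, hz.mem_minimalPrimes⟩⟩

section transfer

variable {R : Type*} [CommRing R]

/-- transfer along a semilinear injective additive map over a ring isomorphism -/
theorem IsWA.map_semilinear {R' : Type*} [CommRing R'] (σ : R ≃+* R')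
    {N N' : Type*} [AddCommGroup N] [Module R N] [AddCommGroup N'] [Module R' N']
    (f : N →+ N') (hf : Function.Injective f) (hsm : ∀ (r : R) (z : N), f (r • z) = σ r • f z)
    (q' : Ideal R') {z : N} (h : IsWA (q'.comap (σ : R →+* R')) z) : IsWA q' (f z) := by
  constructor
  · intro a' ha'
    obtain ⟨a, rfl⟩ := σ.surjective a'
    rw [← hsm, ← map_zero f] at ha'
    exact h.1 a (hf ha')
  · intro x' hx'
    obtain ⟨x, rfl⟩ := σ.surjective x'
    obtain ⟨s, hs, n, hn⟩ := h.2 x hx'
    refine ⟨σ s, hs, n, ?_⟩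
    rw [← map_pow, ← map_mul, ← hsm, hn, map_zero]

variable {R' : Type*} [CommRing R'] [Algebra R R'] (T : Submonoid R) [IsLocalization T R']
  {N N' : Type*} [AddCommGroup N] [Module R N] [AddCommGroup N'] [Module R N'] [Module R' N']
  [IsScalarTower R R' N'] (f : N →ₗ[R] N') [IsLocalizedModule T f]

include T in
theorem IsWA.map_localized (q' : Ideal R') [q'.IsPrime] {z : N}
    (h : IsWA (q'.comap (algebraMap R R')) z) : IsWA q' (f z) := by
  have hunit : ∀ c : T, algebraMap R R' c ∉ q' := fun c hc =>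
    (Ideal.IsPrime.ne_top ‹_›) (Ideal.eq_top_of_isUnit_mem _ hc (IsLocalization.map_units R' c))
  constructor
  · intro a' ha'
    obtain ⟨a, τ, rfl⟩ := IsLocalization.exists_mk'_eq T a'
    rw [IsLocalization.mk'_mem_iff]
    have h1 : algebraMap R R' a • f z = 0 := by
      have : algebraMap R R' a = algebraMap R R' τ * IsLocalization.mk' R' a τ := by
        rw [mul_comm, IsLocalization.mk'_spec]
      rw [this, mul_smul, ha', smul_zero]
    rw [algebraMap_smul, ← map_smul, IsLocalizedModule.eq_zero_iff T] at h1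
    obtain ⟨c, hc⟩ := h1
    have h2 : (c : R) * a ∈ q'.comap (algebraMap R R') := h.1 _ (by rw [mul_smul]; exact hc)
    rw [Ideal.mem_comap, map_mul] at h2
    exact (Ideal.IsPrime.mem_or_mem ‹_› h2).resolve_left (hunit c)
  · intro x' hx'
    obtain ⟨x, τ, rfl⟩ := IsLocalization.exists_mk'_eq T x'
    rw [IsLocalization.mk'_mem_iff] at hx'
    obtain ⟨s, hs, n, hn⟩ := h.2 x hx'
    refine ⟨algebraMap R R' s * algebraMap R R' (τ ^ n : T), ?_, n, ?_⟩
    · intro hmem
      rcases Ideal.IsPrime.mem_or_mem ‹_› hmem with h1 | h1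
      · exact hs h1
      · exact hunit _ h1
    · have : algebraMap R R' s * algebraMap R R' (τ ^ n : T) * IsLocalization.mk' R' x τ ^ n
          = algebraMap R R' (s * x ^ n) := by
        rw [← IsLocalization.mk'_pow, mul_assoc, IsLocalization.mk'_spec', ← map_mul]
      rw [this, algebraMap_smul, ← map_smul, hn, map_zero]

include T f in
theorem IsWA.exists_of_localized (q' : Ideal R') [q'.IsPrime] {z' : N'} (h : IsWA q' z') :
    ∃ z : N, IsWA (q'.comap (algebraMap R R')) z := by
  have hunit : ∀ c : T, algebraMap R R' c ∉ q' := fun c hc =>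
    (Ideal.IsPrime.ne_top ‹_›) (Ideal.eq_top_of_isUnit_mem _ hc (IsLocalization.map_units R' c))
  obtain ⟨⟨z, τ⟩, hz⟩ := IsLocalizedModule.surj T f z'
  simp only at hz
  refine ⟨z, ?_, ?_⟩
  · intro a ha
    have h1 : algebraMap R R' (a * τ) • z' = 0 := by
      rw [algebraMap_smul, mul_smul]
      have : (τ : R) • z' = f z := hz
      rw [this, ← map_smul, ha, map_zero]
    have h2 := h.1 _ h1
    rw [map_mul] at h2
    exact (Ideal.IsPrime.mem_or_mem ‹_› h2).resolve_right (hunit τ)
  · intro x hx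
    obtain ⟨s', hs', n, hn⟩ := h.2 _ hx
    obtain ⟨s, σ, rfl⟩ := IsLocalization.exists_mk'_eq T s'
    rw [IsLocalization.mk'_mem_iff] at hs'
    have h1 : algebraMap R R' (s * x ^ n) • z' = 0 := by
      have : algebraMap R R' (s * x ^ n) =
          algebraMap R R' σ * (IsLocalization.mk' R' s σ * algebraMap R R' x ^ n) := by
        rw [← mul_assoc, mul_comm (algebraMap R R' σ), IsLocalization.mk'_spec, map_mul, map_pow]
      rw [this, mul_smul, hn, smul_zero]
    have h2 : f ((s * x ^ n) • z) = 0 := by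
      rw [map_smul, ← hz]
      have : (τ : R) • z' = algebraMap R R' τ • z' := (algebraMap_smul R' _ _).symm
      rw [Submonoid.smul_def, this, ← algebraMap_smul R' (s * x ^ n), smul_comm, h1, smul_zero]
    rw [IsLocalizedModule.eq_zero_iff T] at h2
    obtain ⟨c, hc⟩ := h2
    refine ⟨c * s, ?_, n, ?_⟩
    · intro hmem
      rcases Ideal.IsPrime.mem_or_mem (Ideal.comap_isPrime _ q') hmem with h3 | h3
      · exact hunit c h3
      · exact hs' h3
    · rw [mul_assoc, mul_smul]; exact hc

end transfer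

/-- weakly associated primes and localization, for arbitrary models of the localizations -/
theorem mem_weakAss_localized_iff {R : Type u} [CommRing R] {R' : Type u} [CommRing R']
    [Algebra R R'] (T : Submonoid R) [IsLocalization T R']
    {N N' : Type v} [AddCommGroup N] [Module R N] [AddCommGroup N'] [Module R N'] [Module R' N']
    [IsScalarTower R R' N'] (f : N →ₗ[R] N') [IsLocalizedModule T f]
    (q' : Ideal R') [q'.IsPrime] :
    q'.comap (algebraMap R R') ∈ FlatCA.weakAss R N ↔ q' ∈ FlatCA.weakAss R' N' := by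
  rw [mem_weakAss_iff_isWA, mem_weakAss_iff_isWA]
  exact ⟨fun ⟨z, hz⟩ => ⟨f z, hz.map_localized T f q'⟩,
    fun ⟨z', hz'⟩ => hz'.exists_of_localized T f q'⟩

section finsupp

variable {R : Type*} [CommRing R] {N : Type*} [AddCommGroup N] [Module R N]

theorem IsWA.exists_finsupp {ι : Type*} (q : Ideal R) [q.IsPrime] {v : ι →₀ N} (h : IsWA q v) :
    ∃ i, IsWA q (v i) := by
  classical
  by_contra hcon
  push Not at hcon
  have h2 : ∀ i, ∀ x ∈ q, ∃ s, s ∉ q ∧ ∃ n : ℕ, (s * x ^ n) • v i = 0 := by
    intro i x hx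
    obtain ⟨s, hs, n, hn⟩ := h.2 x hx
    exact ⟨s, hs, n, by rw [← Finsupp.smul_apply, hn, Finsupp.zero_apply]⟩
  have h3 : ∀ i, ∃ a : R, a • v i = 0 ∧ a ∉ q := by
    intro i
    have := hcon i
    unfold IsWA at this
    push Not at this
    by_contra hc
    push Not at hc
    exact absurd (h2 i) (by
      intro h4
      obtain ⟨x, hx, hx'⟩ := this hc
      obtain ⟨s, hs, n, hn⟩ := h4 x hx
      exact hx' s hs n hn)
  choose a ha ha' using h3
  have h4 : (∏ i ∈ v.support, a i) • v = 0 := by
    ext j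
    rw [Finsupp.smul_apply, Finsupp.zero_apply]
    by_cases hj : j ∈ v.support
    · rw [← Finset.mul_prod_erase _ _ hj, mul_comm, mul_smul, ha j, smul_zero]
    · rw [Finsupp.notMem_support_iff.mp hj, smul_zero]
  have h5 := h.1 _ h4
  rw [Ideal.IsPrime.prod_mem_iff] at h5
  obtain ⟨i, -, hi⟩ := h5
  exact ha' i hi

end finsupp

end Groth.Agent.Lib.Helper14.WeakAss
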