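/- helper14: weakly associated primes and flat base change: annihilator of `1 ⊗ m`,
   the easy direction (`p ∈ WeakAss M`, no prime of the fibre strictly below `t` ⇒
   `t ∈ WeakAss (B ⊗ M)`), and the finite flat case. -/
import Mathlib
import Groth.Prelude.Def_FlatCA
import Groth.Agent.Lib.Helper14WeakAssA
import Groth.Agent.Lib.Helper2FinPush

set_option autoImplicit false
set_option linter.unusedSectionVars false

namespace Groth.Agent.Lib.Helper14.WeakAss

open TensorProduct

universe u

section ann

variable {A B M : Type*} [CommRing A] [CommRing B] [Algebra A B] [Module.Flat A B]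
  [AddCommGroup M] [Module A M]

theorem tmul_eq_zero_iff_of_flat (m : M) (b : B) :
    b ⊗ₜ[A] m = 0 ↔
      b ∈ Ideal.map (algebraMap A B) (LinearMap.ker (LinearMap.toSpanSingleton A M m)) := by
  set I : Ideal A := LinearMap.ker (LinearMap.toSpanSingleton A M m) with hI
  constructor
  · intro hb
    let φ : (A ⧸ I) →ₗ[A] M := Submodule.liftQ I (LinearMap.toSpanSingleton A M m) le_rfl
    have hφ : Function.Injective φ := by
      rw [← LinearMap.ker_eq_bot]
      exact Submodule.ker_liftQ_eq_bot _ _ _ le_rfl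
    have hinj := Module.Flat.lTensor_preserves_injective_linearMap (M := B) φ hφ
    have h1 : (LinearMap.lTensor B φ) (b ⊗ₜ[A] (Submodule.Quotient.mk 1 : A ⧸ I)) = 0 := by
      rw [LinearMap.lTensor_tmul]
      simp only [φ, Submodule.liftQ_apply, LinearMap.toSpanSingleton_apply, one_smul]
      exact hb
    have h2 : b ⊗ₜ[A] (Submodule.Quotient.mk 1 : A ⧸ I) = 0 := hinj (by rw [h1, map_zero])
    have h3 := congrArg (TensorProduct.tensorQuotEquivQuotSMul B I) h2
    rw [map_zero] at h3
    have h4 : (TensorProduct.tensorQuotEquivQuotSMul B I)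
        (b ⊗ₜ[A] (Submodule.Quotient.mk 1 : A ⧸ I)) = Submodule.Quotient.mk ((1 : A) • b) :=
      TensorProduct.tensorQuotEquivQuotSMul_tmul_mk (M := B) I b 1
    rw [h4, one_smul, Submodule.Quotient.mk_eq_zero, Ideal.smul_top_eq_map] at h3
    exact h3
  · intro hb
    have hle : I.map (algebraMap A B) ≤
        (LinearMap.ker (LinearMap.toSpanSingleton B (B ⊗[A] M) ((1 : B) ⊗ₜ[A] m)) : Ideal B) := by
      rw [Ideal.map_le_iff_le_comap]
      intro a ha
      rw [Ideal.mem_comap, LinearMap.mem_ker, LinearMap.toSpanSingleton_apply,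
        TensorProduct.smul_tmul', smul_eq_mul, mul_one, Algebra.algebraMap_eq_smul_one,
        TensorProduct.smul_tmul]
      have : a • m = 0 := by
        rw [hI, LinearMap.mem_ker, LinearMap.toSpanSingleton_apply] at ha; exact ha
      rw [this, tmul_zero]
    have := hle hb
    rw [LinearMap.mem_ker, LinearMap.toSpanSingleton_apply, TensorProduct.smul_tmul',
      smul_eq_mul, mul_one] at this
    exact this

end ann

/-- `p ∈ WeakAss_A(M)`, `A → B` flat, `t` over `p` with no prime of the fibre strictly below it: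
then `t ∈ WeakAss_B(B ⊗ M)`. -/
theorem mem_weakAss_baseChange_of_mem {A B : Type u} [CommRing A] [CommRing B] [Algebra A B]
    [Module.Flat A B] (M : Type u) [AddCommGroup M] [Module A M] (p : Ideal A) [p.IsPrime]
    (t : Ideal B) [t.IsPrime] [t.LiesOver p]
    (hinc : ∀ t' : Ideal B, t'.IsPrime → t' ≤ t → t'.under A = p → t' = t)
    (hp : p ∈ FlatCA.weakAss A M) : t ∈ FlatCA.weakAss B (B ⊗[A] M) := by
  rw [mem_weakAss_iff_isWA] at hp ⊢
  obtain ⟨m, hm⟩ := hp
  set I : Ideal A := LinearMap.ker (LinearMap.toSpanSingleton A M m) with hI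
  have hIp : I ≤ p := fun a ha => hm.1 a (by
    rw [hI, LinearMap.mem_ker, LinearMap.toSpanSingleton_apply] at ha; exact ha)
  have hpt : p.map (algebraMap A B) ≤ t := by
    rw [Ideal.map_le_iff_le_comap]
    exact (Ideal.LiesOver.over (p := p) (P := t)).le
  have hmin : p ∈ I.minimalPrimes := by
    have := hm.mem_minimalPrimes
    convert this using 2
    ext a
    simp [hI]
  have htmin : t ∈ (I.map (algebraMap A B)).minimalPrimes := by
    refine ⟨⟨inferInstance, (Ideal.map_mono hIp).trans hpt⟩, fun t' ht' ht't => ?_⟩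
    have := ht'.1
    have h1 : I ≤ t'.under A := by
      rw [Ideal.under_def, ← Ideal.map_le_iff_le_comap]; exact ht'.2
    have h2 : t'.under A ≤ p := by
      rw [Ideal.LiesOver.over (p := p) (P := t)]
      exact Ideal.comap_mono ht't
    have h3 : p ≤ t'.under A := hmin.2 ⟨inferInstance, h1⟩ h2
    exact (hinc t' ht'.1 ht't (le_antisymm h2 h3)).ge
  refine ⟨(1 : B) ⊗ₜ[A] m, ?_, ?_⟩
  · intro b hb
    rw [TensorProduct.smul_tmul', smul_eq_mul, mul_one, tmul_eq_zero_iff_of_flat] at hb
    exact htmin.1.2 hb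
  · intro y hy
    obtain ⟨s, hs, n, hn⟩ := Groth.Agent.Helper13WeakAss.exists_notMem_mul_pow_mem htmin hy
    refine ⟨s, hs, n, ?_⟩
    rw [TensorProduct.smul_tmul', smul_eq_mul, mul_one, tmul_eq_zero_iff_of_flat]
    exact hn

/-- restriction of scalars along a finite ring map (helper2's element form of Stacks 10.66.13) -/
theorem mem_weakAss_under_of_finite {A B : Type u} [CommRing A] [CommRing B] [Algebra A B]
    [Module.Finite A B] (N : Type u) [AddCommGroup N] [Module B N] [Module A N]
    [IsScalarTower A B N] (t : Ideal B) [t.IsPrime] (ht : t ∈ FlatCA.weakAss B N) :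
    t.under A ∈ FlatCA.weakAss A N := by
  obtain ⟨z, hz⟩ := ht
  have hz' : t ∈ Ideal.minimalPrimes (LinearMap.ker (LinearMap.toSpanSingleton B N z)) := by
    convert hz using 2
    ext b
    simp
  obtain ⟨y, -, h1, h2⟩ :=
    Groth.Agent.Lib.Helper2.FinPush.exists_smul_weakAss_of_finite (B := A) (A := B) z t hz'
  rw [mem_weakAss_iff_isWA]
  refine ⟨y • z, ?_, ?_⟩
  · intro a ha
    exact h1 a (by rw [algebraMap_smul]; exact ha)
  · intro a ha
    obtain ⟨k, s, hs, hk⟩ := h2 a ha
    refine ⟨s, hs, k, ?_⟩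
    rw [mul_smul, ← algebraMap_smul B s, ← algebraMap_smul B (a ^ k), map_pow]
    exact hk

end Groth.Agent.Lib.Helper14.WeakAss
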