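/- helper14: weakly associated primes of `P ⊗ M` for a finite flat module `P`:
   `WeakAss_A(P ⊗ M) ⊆ WeakAss_A(M)`. -/
import Mathlib
import Groth.Prelude.Def_FlatCA
import Groth.Agent.Lib.Helper14WeakAssA

set_option autoImplicit false
set_option linter.unusedSectionVars false

namespace Groth.Agent.Lib.Helper14.WeakAss

open TensorProduct

universe u

theorem IsWA.map_of_smul {R : Type*} [CommRing R] {N N' : Type*} [AddCommGroup N] [Module R N]
    [AddCommGroup N'] [Module R N'] (g : N → N') (h0 : ∀ z, g z = 0 → z = 0)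
    (hsm : ∀ (r : R) (z : N), g (r • z) = r • g z) {q : Ideal R} {z : N} (h : IsWA q z) :
    IsWA q (g z) := by
  have hg0 : g 0 = 0 := by
    have := hsm 0 0
    rwa [zero_smul, zero_smul] at this
  constructor
  · intro a ha
    rw [← hsm] at ha
    exact h.1 a (h0 _ ha)
  · intro x hx
    obtain ⟨s, hs, n, hn⟩ := h.2 x hx
    exact ⟨s, hs, n, by rw [← hsm, hn, hg0]⟩

theorem mem_weakAss_of_mem_weakAss_tensor_finite_flat {A : Type u} [CommRing A]
    (P : Type u) [AddCommGroup P] [Module A P] [Module.Finite A P] [Module.Flat A P]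
    (M : Type u) [AddCommGroup M] [Module A M] (p : Ideal A) [p.IsPrime]
    (h : p ∈ FlatCA.weakAss A (P ⊗[A] M)) : p ∈ FlatCA.weakAss A M := by
  classical
  rw [mem_weakAss_iff_isWA] at h ⊢
  obtain ⟨w, hw⟩ := h
  let Ap := Localization.AtPrime p
  have hcomap : (IsLocalRing.maximalIdeal Ap).comap (algebraMap A Ap) = p :=
    Localization.AtPrime.under_maximalIdeal ..
  have hw' : IsWA (IsLocalRing.maximalIdeal Ap) (TensorProduct.mk A Ap (P ⊗[A] M) 1 w) :=
    IsWA.map_localized p.primeCompl (TensorProduct.mk A Ap (P ⊗[A] M) 1) _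
      (by rw [hcomap]; exact hw)
  have : Module.Free Ap (Ap ⊗[A] P) := Module.free_of_flat_of_isLocalRing
  let ι := Module.Free.ChooseBasisIndex Ap (Ap ⊗[A] P)
  let bas : Module.Basis ι Ap (Ap ⊗[A] P) := Module.Free.chooseBasis Ap (Ap ⊗[A] P)
  let e1 : Ap ⊗[A] (P ⊗[A] M) ≃ₗ[Ap] (Ap ⊗[A] P) ⊗[A] M :=
    (TensorProduct.AlgebraTensorModule.assoc A A Ap Ap P M).symm
  let e2 : (Ap ⊗[A] P) ⊗[A] M ≃ₗ[Ap] (ι →₀ Ap) ⊗[A] M :=
    TensorProduct.AlgebraTensorModule.congr bas.repr (LinearEquiv.refl A M)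
  let e3 : (ι →₀ Ap) ⊗[A] M ≃ₗ[Ap] ι →₀ (Ap ⊗[A] M) := TensorProduct.finsuppLeft A Ap Ap M ι
  have hw'' : IsWA (IsLocalRing.maximalIdeal Ap)
      (e3 (e2 (e1 (TensorProduct.mk A Ap (P ⊗[A] M) 1 w)))) :=
    IsWA.map_of_smul (fun z => e3 (e2 (e1 z)))
      (fun z hz => by
        rwa [LinearEquiv.map_eq_zero_iff, LinearEquiv.map_eq_zero_iff,
          LinearEquiv.map_eq_zero_iff] at hz)
      (fun r z => by rw [map_smul, map_smul, map_smul]) hw'
  obtain ⟨i, hi⟩ := IsWA.exists_finsupp _ hw''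
  have := IsWA.exists_of_localized p.primeCompl (TensorProduct.mk A Ap M 1)
    (IsLocalRing.maximalIdeal Ap) hi
  rw [hcomap] at this
  exact this

end Groth.Agent.Lib.Helper14.WeakAss
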