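/- helper14: weakly associated primes and etale base change (Stacks 05FP, ring form):
   for `A → B` etale, `t ∈ WeakAss_B(B ⊗ M)` implies `t ∩ A ∈ WeakAss_A(M)`.
   Via the local structure of etale algebras (standard etale). -/
import Mathlib
import Groth.Prelude.Def_FlatCA
import Groth.Agent.Lib.Helper14WeakAssB
import Groth.Agent.Lib.Helper14WeakAssC

set_option autoImplicit false
set_option linter.unusedSectionVars false
set_option linter.style.haveILetI false

namespace Groth.Agent.Lib.Helper14.WeakAss

open TensorProduct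

universe u

/-- the finite flat case, `⇒` direction -/
theorem mem_weakAss_under_of_finite_flat {A B : Type u} [CommRing A] [CommRing B] [Algebra A B]
    [Module.Finite A B] [Module.Flat A B] (M : Type u) [AddCommGroup M] [Module A M]
    (t : Ideal B) [t.IsPrime] (ht : t ∈ FlatCA.weakAss B (B ⊗[A] M)) :
    t.under A ∈ FlatCA.weakAss A M :=
  mem_weakAss_of_mem_weakAss_tensor_finite_flat B M (t.under A)
    (mem_weakAss_under_of_finite (A := A) (B ⊗[A] M) t ht)

/-- localization of the algebra in `B ⊗ M` -/
theorem mem_weakAss_tensor_localization_iff {A B B' : Type u} [CommRing A] [CommRing B]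
    [CommRing B'] [Algebra A B] [Algebra B B'] [Algebra A B'] [IsScalarTower A B B']
    (T : Submonoid B) [IsLocalization T B'] (M : Type u) [AddCommGroup M] [Module A M]
    (t' : Ideal B') [t'.IsPrime] :
    t'.comap (algebraMap B B') ∈ FlatCA.weakAss B (B ⊗[A] M) ↔
      t' ∈ FlatCA.weakAss B' (B' ⊗[A] M) := by
  haveI : IsLocalizedModule T (Algebra.linearMap B B') :=
    (isLocalizedModule_iff_isLocalization).mpr inferInstance
  exact mem_weakAss_localized_iff T
    (TensorProduct.AlgebraTensorModule.rTensor A M (Algebra.linearMap B B')) t'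

/-- transport along an isomorphism of `A`-algebras -/
theorem mem_weakAss_tensor_algEquiv {A B B' : Type u} [CommRing A] [CommRing B]
    [CommRing B'] [Algebra A B] [Algebra A B'] (e : B ≃ₐ[A] B') (M : Type u) [AddCommGroup M]
    [Module A M] (t' : Ideal B') [t'.IsPrime]
    (h : t'.comap (e : B →+* B') ∈ FlatCA.weakAss B (B ⊗[A] M)) :
    t' ∈ FlatCA.weakAss B' (B' ⊗[A] M) := by
  haveI : (t'.comap (e : B →+* B')).IsPrime := Ideal.comap_isPrime _ _
  rw [mem_weakAss_iff_isWA] at h ⊢
  obtain ⟨z, hz⟩ := h
  let F : B ⊗[A] M ≃ₗ[A] B' ⊗[A] M :=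
    TensorProduct.congr e.toLinearEquiv (LinearEquiv.refl A M)
  have hF : ∀ (b : B) (z : B ⊗[A] M), F (b • z) = e b • F z := by
    intro b z
    induction z using TensorProduct.induction_on with
    | zero => simp
    | tmul x m =>
      simp only [F, TensorProduct.smul_tmul', TensorProduct.congr_tmul, smul_eq_mul,
        AlgEquiv.toLinearEquiv_apply, map_mul, LinearEquiv.refl_apply]
    | add x y hx hy => rw [smul_add, map_add, hx, hy, map_add, smul_add]
  refine ⟨F z, IsWA.map_semilinear e.toRingEquiv F.toLinearMap.toAddMonoidHom F.injective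
    (fun r z => hF r z) t' hz⟩

theorem mem_weakAss_under_of_etale {A B : Type u} [CommRing A] [CommRing B] [Algebra A B]
    [Algebra.Etale A B] (M : Type u) [AddCommGroup M] [Module A M]
    (t : Ideal B) [t.IsPrime] (ht : t ∈ FlatCA.weakAss B (B ⊗[A] M)) :
    t.under A ∈ FlatCA.weakAss A M := by
  obtain ⟨g, hgt, hstd⟩ := Algebra.IsEtaleAt.exists_isStandardEtale (R := A) t
  let Bg := Localization.Away g
  have hdisj : Disjoint (Submonoid.powers g : Set B) (t : Set B) :=
    (Ideal.disjoint_powers_iff_notMem_of_isPrime _).mpr hgt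
  let tg : Ideal Bg := t.map (algebraMap B Bg)
  haveI : tg.IsPrime := IsLocalization.isPrime_of_isPrime_disjoint (.powers g) Bg t ‹_› hdisj
  have htg : tg.comap (algebraMap B Bg) = t :=
    IsLocalization.comap_map_of_isPrime_disjoint (.powers g) Bg ‹_› hdisj
  have h2 : tg ∈ FlatCA.weakAss Bg (Bg ⊗[A] M) :=
    (mem_weakAss_tensor_localization_iff (.powers g) M tg).mp (by rw [htg]; exact ht)
  obtain ⟨P⟩ := hstd.nonempty_standardEtalePresentation
  let C := AdjoinRoot P.f
  let h : C := AdjoinRoot.mk P.f P.g
  let Ch := Localization.Away h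
  let e : Bg ≃ₐ[A] Ch := P.equivRing.trans P.P.equivAwayAdjoinRoot
  let th : Ideal Ch := tg.comap (e.symm : Ch →+* Bg)
  haveI : th.IsPrime := Ideal.comap_isPrime _ _
  have hth : th.comap (e : Bg →+* Ch) = tg := by
    ext x
    simp [th, Ideal.mem_comap]
  have h3 : th ∈ FlatCA.weakAss Ch (Ch ⊗[A] M) :=
    mem_weakAss_tensor_algEquiv e M th (by rw [hth]; exact h2)
  let tC : Ideal C := th.comap (algebraMap C Ch)
  haveI : tC.IsPrime := Ideal.comap_isPrime _ _
  have h4 : tC ∈ FlatCA.weakAss C (C ⊗[A] M) :=
    (mem_weakAss_tensor_localization_iff (.powers h) M th).mpr h3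
  haveI : Module.Finite A C := P.monic_f.finite_adjoinRoot
  haveI : Module.Free A C := P.monic_f.free_adjoinRoot
  have h5 := mem_weakAss_under_of_finite_flat M tC h4
  have h6 : tC.under A = t.under A := by
    ext a
    simp only [Ideal.under_def, Ideal.mem_comap, tC, th]
    rw [← IsScalarTower.algebraMap_apply A C Ch]
    have : (e.symm : Ch →+* Bg) (algebraMap A Ch a) = algebraMap A Bg a := by
      simp
    rw [this, IsScalarTower.algebraMap_apply A B Bg, ← Ideal.mem_comap, htg]
  rw [h6] at h5
  exact h5

end Groth.Agent.Lib.Helper14.WeakAss
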