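/- helper14: weakly associated primes and (strict) henselization:
   if a local `R`-algebra `S` is a directed union of local rings of etale `R`-algebras over which
   it is flat, then `m_S ∈ WeakAss_S(S ⊗ M)` implies `m_R ∈ WeakAss_R(M)`. Applied to helper3's
   models of the henselization and strict henselization. -/
import Mathlib
import Groth.Prelude.Def_FlatCA
import Groth.Agent.Lib.Helper14WeakAssD
import Groth.Agent.Lib.Helper3HzP

set_option autoImplicit false
set_option linter.unusedSectionVars false
set_option linter.style.haveILetI false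

namespace Groth.Agent.Lib.Helper14.WeakAss

open TensorProduct IsLocalRing

universe u

theorem mem_weakAss_of_local_indEtale {R : Type u} [CommRing R] [IsLocalRing R] {S : Type u}
    [CommRing S] [IsLocalRing S] [Algebra R S] (M : Type u) [AddCommGroup M] [Module R M]
    (H : ∀ F : Finset S, ∃ (C : Type u) (_ : CommRing C) (_ : Algebra R C)
      (_ : Algebra.Etale R C) (Q : Ideal C) (_ : Q.IsPrime) (L : Type u) (_ : CommRing L)
      (_ : Algebra R L) (_ : Algebra C L) (_ : IsScalarTower R C L)
      (_ : IsLocalization.AtPrime L Q) (_ : IsLocalRing L) (ψ : L →ₐ[R] S),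
      Q.under R = maximalIdeal R ∧ IsLocalHom ψ.toRingHom ∧
        (letI := ψ.toRingHom.toAlgebra; Module.Flat L S) ∧ ∀ x ∈ F, x ∈ Set.range ψ)
    (h : maximalIdeal S ∈ FlatCA.weakAss S (S ⊗[R] M)) :
    maximalIdeal R ∈ FlatCA.weakAss R M := by
  classical
  rw [mem_weakAss_iff_isWA] at h
  obtain ⟨z, hz⟩ := h
  obtain ⟨T, hT⟩ := TensorProduct.exists_finset z
  obtain ⟨C, _, _, _, Q, _, L, _, _, _, _, _, _, ψ, hQ, hloc, hflat, hF⟩ :=
    H (T.image Prod.fst)
  have hpre : ∀ i ∈ T, ∃ y : L, ψ y = i.1 := fun i hi => hF i.1 (Finset.mem_image_of_mem _ hi)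
  choose! y hy using hpre
  let zL : L ⊗[R] M := ∑ i ∈ T, y i ⊗ₜ[R] i.2
  let Φ : L ⊗[R] M →ₗ[R] S ⊗[R] M := LinearMap.rTensor M ψ.toLinearMap
  have hΦz : Φ zL = z := by
    rw [hT, map_sum]
    refine Finset.sum_congr rfl (fun i hi => ?_)
    simp only [Φ, LinearMap.rTensor_tmul, AlgHom.toLinearMap_apply, hy i hi]
  letI : Algebra L S := ψ.toRingHom.toAlgebra
  haveI : IsScalarTower R L S := IsScalarTower.of_algebraMap_eq (fun r => (ψ.commutes r).symm)
  haveI : IsLocalHom (algebraMap L S) := hloc
  haveI : Module.Flat L S := hflat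
  haveI : Module.FaithfullyFlat L S := Module.FaithfullyFlat.of_flat_of_isLocalHom
  have hΦeq : ∀ w, Φ w = (TensorProduct.AlgebraTensorModule.cancelBaseChange R L S S M)
      (TensorProduct.mk L S (L ⊗[R] M) 1 w) := by
    intro w
    induction w using TensorProduct.induction_on with
    | zero => simp
    | tmul a m =>
      simp only [Φ, LinearMap.rTensor_tmul, AlgHom.toLinearMap_apply, TensorProduct.mk_apply,
        TensorProduct.AlgebraTensorModule.cancelBaseChange_tmul, Algebra.smul_def, mul_one]
      rfl
    | add a b ha hb => rw [map_add, ha, hb, map_add, map_add]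
  have hΦinj : Function.Injective Φ := by
    have h1 := Module.FaithfullyFlat.tensorProduct_mk_injective (A := L) (B := S) (L ⊗[R] M)
    intro a b hab
    rw [hΦeq, hΦeq] at hab
    exact h1 ((LinearEquiv.injective _) hab)
  have hΦsm : ∀ (l : L) (w : L ⊗[R] M), Φ (l • w) = ψ l • Φ w := by
    intro l w
    induction w using TensorProduct.induction_on with
    | zero => simp
    | tmul a m =>
      simp only [Φ, TensorProduct.smul_tmul', LinearMap.rTensor_tmul, AlgHom.toLinearMap_apply,
        smul_eq_mul, map_mul]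
    | add a b ha hb => rw [smul_add, map_add, ha, hb, map_add, smul_add]
  have hzne : z ≠ 0 := by
    intro h0
    have := hz.1 1 (by rw [h0, smul_zero])
    exact (Ideal.ne_top_iff_one _).mp (IsLocalRing.maximalIdeal.isMaximal S).ne_top this
  have hWA : IsWA (maximalIdeal L) zL := by
    constructor
    · intro a ha
      by_contra hna
      have hu : IsUnit a := by
        rwa [mem_maximalIdeal, mem_nonunits_iff, not_not] at hna
      have h0 : zL = 0 := (hu.smul_eq_zero).mp ha
      exact hzne (by rw [← hΦz, h0, map_zero])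
    · intro x hx
      have hx' : ψ x ∈ maximalIdeal S := by
        rw [mem_maximalIdeal, mem_nonunits_iff]
        intro hu
        exact hx (hloc.map_nonunit x hu)
      obtain ⟨s, hs, n, hn⟩ := hz.2 _ hx'
      have hsu : IsUnit s := by
        rwa [mem_maximalIdeal, mem_nonunits_iff, not_not] at hs
      have h3 : (ψ x) ^ n • z = 0 := by
        rw [mul_smul] at hn
        exact (hsu.smul_eq_zero).mp hn
      refine ⟨1, fun h1 => (Ideal.ne_top_iff_one _).mp
        (IsLocalRing.maximalIdeal.isMaximal L).ne_top h1, n, ?_⟩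
      rw [one_mul]
      apply hΦinj
      rw [hΦsm, map_pow, hΦz, h3, map_zero]
  have h5 : maximalIdeal L ∈ FlatCA.weakAss L (L ⊗[R] M) :=
    (mem_weakAss_iff_isWA _).mpr ⟨zL, hWA⟩
  have h6 : (maximalIdeal L).comap (algebraMap C L) = Q :=
    IsLocalization.AtPrime.comap_maximalIdeal L Q
  have h7 : Q ∈ FlatCA.weakAss C (C ⊗[R] M) := by
    have := (mem_weakAss_tensor_localization_iff (A := R) Q.primeCompl M (maximalIdeal L)).mpr h5
    rwa [h6] at this
  have h8 := mem_weakAss_under_of_etale (A := R) M Q h7
  rwa [hQ] at h8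

end Groth.Agent.Lib.Helper14.WeakAss
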