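/- helper14: `m_{A^h} ∈ WeakAss(A^h ⊗ M) ⇒ m_A ∈ WeakAss(M)` for any henselization / strict
   henselization (via helper3's models), and the converse directions. -/
import Mathlib
import Groth.Prelude.Def_FlatCA
import Groth.Agent.Lib.Helper14WeakAssE
import Groth.Agent.Lib.Helper3HzP

set_option autoImplicit false
set_option linter.unusedSectionVars false
set_option linter.style.haveILetI false

namespace Groth.Agent.Lib.Helper14.WeakAss

open TensorProduct IsLocalRing Groth.Agent.Lib.Helper3

universe u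

theorem maximalIdeal_comap_algEquiv {R S T : Type*} [CommRing R] [CommRing S] [IsLocalRing S]
    [CommRing T] [IsLocalRing T] [Algebra R S] [Algebra R T] (e : S ≃ₐ[R] T) :
    (maximalIdeal T).comap (e : S →+* T) = maximalIdeal S := by
  ext x
  rw [Ideal.mem_comap, mem_maximalIdeal, mem_maximalIdeal, mem_nonunits_iff, mem_nonunits_iff]
  constructor
  · intro h hu
    exact h (hu.map e)
  · intro h hu
    have : IsUnit (e.symm (e x)) := hu.map e.symm
    rw [e.symm_apply_apply] at this
    exact h this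

section Hz

variable (R : Type u) [CommRing R] [IsLocalRing R] (M : Type u) [AddCommGroup M] [Module R M]

theorem hz_model_mem_weakAss
    (h : maximalIdeal (Hz.Rh R) ∈ FlatCA.weakAss (Hz.Rh R) (Hz.Rh R ⊗[R] M)) :
    maximalIdeal R ∈ FlatCA.weakAss R M := by
  classical
  refine mem_weakAss_of_local_indEtale M ?_ h
  intro F
  obtain ⟨i, x', hx'⟩ := Hz.exists_ofL_fin (fun k : Fin F.card => ((F.equivFin.symm k : F) : Hz.Rh R))
  refine ⟨i.C, inferInstance, inferInstance, inferInstance, i.Q, inferInstance, i.L, inferInstance,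
    inferInstance, inferInstance, inferInstance, inferInstance, inferInstance, Hz.ofLₐ i,
    i.comap_Q, inferInstanceAs (IsLocalHom (Hz.ofL i)), Hz.flat_over_L i, ?_⟩
  intro x hx
  refine ⟨x' (F.equivFin ⟨x, hx⟩), ?_⟩
  rw [Hz.ofLₐ_apply, hx', Equiv.symm_apply_apply]

variable (S : Type u) [CommRing S] [IsLocalRing S] [Algebra R S] [IsLocalHom (algebraMap R S)]

theorem hz_mem_weakAss [Hensel.IsHenselization R S]
    (h : maximalIdeal S ∈ FlatCA.weakAss S (S ⊗[R] M)) : maximalIdeal R ∈ FlatCA.weakAss R M := by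
  obtain ⟨e⟩ := Hz.nonempty_algEquiv (R := R) S
  apply hz_model_mem_weakAss R M
  refine mem_weakAss_tensor_algEquiv e M (maximalIdeal (Hz.Rh R)) ?_
  rw [maximalIdeal_comap_algEquiv e]
  exact h

theorem hz_mem_weakAss_of_mem [Hensel.IsHenselization R S]
    (h : maximalIdeal R ∈ FlatCA.weakAss R M) : maximalIdeal S ∈ FlatCA.weakAss S (S ⊗[R] M) := by
  haveI : Module.FaithfullyFlat R S := HzP.hz_faithfullyFlat R S
  haveI : (maximalIdeal S).LiesOver (maximalIdeal R) := ⟨by
    rw [Ideal.under_def]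
    exact (((local_hom_TFAE (algebraMap R S)).out 0 4 rfl rfl).mp inferInstance).symm⟩
  refine mem_weakAss_baseChange_of_mem M (maximalIdeal R) (maximalIdeal S) ?_ h
  intro t' ht' hle hunder
  haveI := ht'
  refine HzP.hz_incomparable R S t' (maximalIdeal S) hle ?_
  rw [hunder]
  exact Ideal.LiesOver.over

end Hz

section Sh

variable (R : Type u) [CommRing R] [IsLocalRing R] (M : Type u) [AddCommGroup M] [Module R M]
  (S : Type u) [CommRing S] [IsLocalRing S] [Algebra R S] [IsLocalHom (algebraMap R S)]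

theorem sh_mem_weakAss [Hensel.IsStrictHenselization R S]
    (h : maximalIdeal S ∈ FlatCA.weakAss S (S ⊗[R] M)) : maximalIdeal R ∈ FlatCA.weakAss R M := by
  classical
  obtain ⟨Ω, _, _, _, _, _, ⟨e⟩⟩ := HzP.sh_exists_model R S
  have h' : maximalIdeal (Sh.Rsh R Ω) ∈ FlatCA.weakAss (Sh.Rsh R Ω) (Sh.Rsh R Ω ⊗[R] M) := by
    refine mem_weakAss_tensor_algEquiv e M (maximalIdeal (Sh.Rsh R Ω)) ?_
    rw [maximalIdeal_comap_algEquiv e]
    exact h
  refine mem_weakAss_of_local_indEtale M ?_ h'
  intro F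
  obtain ⟨i, x', hx'⟩ :=
    Sh.exists_ofL_fin (fun k : Fin F.card => ((F.equivFin.symm k : F) : Sh.Rsh R Ω))
  refine ⟨i.C, inferInstance, inferInstance, inferInstance, i.Q, inferInstance, i.L, inferInstance,
    inferInstance, inferInstance, inferInstance, inferInstance, inferInstance, Sh.ofLₐ i,
    i.comap_Q, inferInstanceAs (IsLocalHom (Sh.ofL i)), Sh.flat_over_L i, ?_⟩
  intro x hx
  refine ⟨x' (F.equivFin ⟨x, hx⟩), ?_⟩
  rw [Sh.ofLₐ_apply, hx', Equiv.symm_apply_apply]

theorem sh_mem_weakAss_of_mem [Hensel.IsStrictHenselization R S]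
    (h : maximalIdeal R ∈ FlatCA.weakAss R M) : maximalIdeal S ∈ FlatCA.weakAss S (S ⊗[R] M) := by
  haveI : Module.FaithfullyFlat R S := HzP.sh_faithfullyFlat R S
  haveI : (maximalIdeal S).LiesOver (maximalIdeal R) := ⟨by
    rw [Ideal.under_def]
    exact (((local_hom_TFAE (algebraMap R S)).out 0 4 rfl rfl).mp inferInstance).symm⟩
  refine mem_weakAss_baseChange_of_mem M (maximalIdeal R) (maximalIdeal S) ?_ h
  intro t' ht' hle hunder
  haveI := ht'
  refine HzP.sh_incomparable R S t' (maximalIdeal S) hle ?_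
  rw [hunder]
  exact Ideal.LiesOver.over

end Sh

end Groth.Agent.Lib.Helper14.WeakAss
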