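import Mathlib
import Groth.Agent.Lib.Helper19RegPres
import Groth.Agent.Lib.Helper10Weier

/-!
# Regularity of the affine Weierstrass scheme over a DVR (S11104)

`y² + a₁xy + a₃y = x³ + a₂x² + a₄x + a₆` over a DVR with `Δ ≠ 0`, `a₃, a₄, a₆ ∈ m`, `a₆ ∉ m²`
has regular local rings everywhere.  The coordinate ring is a hypersurface in the regular ring
`R[X][Y]`; at a prime `Q` the equation `W` lies in `Q²` locally only if both partial derivatives
vanish at the point (dual numbers), which by nonsingularity of the generic fibre and the shape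
of the special fibre forces the origin of the special fibre, treated in `Helper10Weier`.
-/

set_option autoImplicit false
set_option linter.unusedSectionVars false
set_option linter.unusedVariables false
set_option linter.style.haveILetI false
universe u

namespace Groth.Agent.Lib.Helper14WeierReg

open IsLocalRing

/-- hypersurface in a regular ring: regular at primes where the equation is not in the square
of the prime, locally. -/
theorem reg_of_not_mem_sq (S : Type u) [CommRing S] [IsRegularRing S] (w : S) (I : Ideal S)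
    (hI : I = Ideal.span {w})
    (P : Ideal (S ⧸ I)) [P.IsPrime]
    (h : ∀ s : S, s ∉ P.comap (Ideal.Quotient.mk I) →
      s * w ∉ (P.comap (Ideal.Quotient.mk I)) ^ 2) :
    IsRegularLocalRing (Localization.AtPrime P) := by
  set Q : Ideal S := P.comap (Ideal.Quotient.mk I) with hQ
  haveI : Q.IsPrime := Ideal.comap_isPrime _ _
  have hwQ : w ∈ Q := by
    rw [hQ, Ideal.mem_comap]
    have : Ideal.Quotient.mk I w = 0 :=
      Ideal.Quotient.eq_zero_iff_mem.2 (hI ▸ Ideal.subset_span rfl)
    rw [this]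
    exact P.zero_mem
  set x : Localization.AtPrime Q := algebraMap S _ w with hx
  have hmap : I.map (algebraMap S (Localization.AtPrime Q)) = Ideal.span {x} := by
    rw [hI, Ideal.map_span, Set.image_singleton]
  have hxm : x ∈ maximalIdeal (Localization.AtPrime Q) := by
    rw [← Localization.AtPrime.map_eq_maximalIdeal]
    exact Ideal.mem_map_of_mem _ hwQ
  have hxm2 : x ∉ maximalIdeal (Localization.AtPrime Q) ^ 2 := by
    rw [← Localization.AtPrime.map_eq_maximalIdeal, ← Ideal.map_pow]
    intro hmem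
    rw [IsLocalization.mem_map_algebraMap_iff Q.primeCompl] at hmem
    obtain ⟨⟨a, s⟩, has⟩ := hmem
    rw [hx, ← map_mul] at has
    obtain ⟨t, ht⟩ := (IsLocalization.eq_iff_exists Q.primeCompl _).1 has
    have hts : (t : S) * (s : S) ∉ Q := fun hh =>
      (Ideal.IsPrime.mem_or_mem inferInstance hh).elim t.2 s.2
    apply h _ hts
    have : (t : S) * (s : S) * w = t * (w * s) := by ring
    rw [this, ht]
    exact Ideal.mul_mem_left _ _ a.2
  haveI : IsLocalRing (Localization.AtPrime Q ⧸ Ideal.span {x}) :=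
    Groth.Agent.Lib.Helper19.isLocalRing_quot_of_le_maximalIdeal _
      ((Ideal.span_singleton_le_iff_mem _).2 hxm)
  have hreg := (Groth.Agent.Lib.Helper19.isRegularLocalRing_quot_singleton hxm hxm2).1
  have hM : Algebra.algebraMapSubmonoid (S ⧸ I) Q.primeCompl = P.primeCompl := by
    ext y
    constructor
    · rintro ⟨z, hz, rfl⟩
      exact hz
    · intro hy
      obtain ⟨z, rfl⟩ := Ideal.Quotient.mk_surjective y
      exact ⟨z, hy, rfl⟩
  have hloc : IsLocalization (Algebra.algebraMapSubmonoid (S ⧸ I) Q.primeCompl)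
      (Localization.AtPrime Q ⧸ I.map (algebraMap S (Localization.AtPrime Q))) :=
    inferInstance
  rw [hM] at hloc
  haveI : IsRegularLocalRing (Localization.AtPrime Q ⧸ I.map (algebraMap S (Localization.AtPrime Q))) := by
    rw [hmap]
    exact hreg
  exact IsRegularLocalRing.of_ringEquiv
    (IsLocalization.algEquiv P.primeCompl (Localization.AtPrime P)
      (Localization.AtPrime Q ⧸ I.map (algebraMap S (Localization.AtPrime Q)))).symm.toRingEquiv

end Groth.Agent.Lib.Helper14WeierReg


namespace Groth.Agent.Lib.Helper14WeierReg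

open Polynomial
open scoped Polynomial.Bivariate

section Dual

variable {S F : Type u} [CommRing S] [Field F]

theorem snd_eq_zero_of_mul_mem_sq (Q : Ideal S) (θ : S →+* DualNumber F)
    (hθ : ∀ q ∈ Q, (θ q).fst = 0) (s w : S) (hs : (θ s).fst ≠ 0)
    (hw : w ∈ Q) (hsw : s * w ∈ Q ^ 2) : (θ w).snd = 0 := by
  have hker : Q ^ 2 ≤ RingHom.ker θ := by
    rw [pow_two, Ideal.mul_le]
    intro a ha b hb
    rw [RingHom.mem_ker, map_mul]
    apply TrivSqZeroExt.ext
    · rw [TrivSqZeroExt.fst_mul, hθ a ha, zero_mul, TrivSqZeroExt.fst_zero]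
    · rw [TrivSqZeroExt.snd_mul, hθ a ha, hθ b hb]
      simp
  have h0 : θ s * θ w = 0 := by
    rw [← map_mul]
    exact hker hsw
  have h1 := congrArg TrivSqZeroExt.snd h0
  rw [TrivSqZeroExt.snd_mul, hθ w hw] at h1
  simp only [smul_eq_mul, MulOpposite.op_zero, zero_smul, add_zero, TrivSqZeroExt.snd_zero] at h1
  rcases mul_eq_zero.1 h1 with h | h
  · exact absurd h hs
  · exact h

end Dual

section Weier

variable {R F : Type u} [CommRing R] [Field F] (W : WeierstrassCurve.Affine R) (φ₀ : R →+* F)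
  (x y : F)

/-- evaluation at `(x, y)` -/
noncomputable def ev : R[X][Y] →+* F := eval₂RingHom (eval₂RingHom φ₀ x) y

/-- evaluation at `(x + ε, y)` -/
noncomputable def evX : R[X][Y] →+* DualNumber F :=
  eval₂RingHom (eval₂RingHom ((TrivSqZeroExt.inlHom F F).comp φ₀)
    (TrivSqZeroExt.inl x + DualNumber.eps)) (TrivSqZeroExt.inl y)

/-- evaluation at `(x, y + ε)` -/
noncomputable def evY : R[X][Y] →+* DualNumber F :=
  eval₂RingHom (eval₂RingHom ((TrivSqZeroExt.inlHom F F).comp φ₀)
    (TrivSqZeroExt.inl x)) (TrivSqZeroExt.inl y + DualNumber.eps)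

theorem fst_evX (p : R[X][Y]) : (evX φ₀ x y p).fst = ev φ₀ x y p := by
  have h : (TrivSqZeroExt.fstHom F F F).toRingHom.comp (evX φ₀ x y) = ev φ₀ x y := by
    apply Polynomial.ringHom_ext'
    · apply Polynomial.ringHom_ext'
      · ext r
        simp [evX, ev]
      · simp [evX, ev]
    · simp [evX, ev]
  exact congrArg (fun f => f p) h

theorem fst_evY (p : R[X][Y]) : (evY φ₀ x y p).fst = ev φ₀ x y p := by
  have h : (TrivSqZeroExt.fstHom F F F).toRingHom.comp (evY φ₀ x y) = ev φ₀ x y := by
    apply Polynomial.ringHom_ext'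
    · apply Polynomial.ringHom_ext'
      · ext r
        simp [evY, ev]
      · simp [evY, ev]
    · simp [evY, ev]
  exact congrArg (fun f => f p) h

theorem ev_polynomial : ev φ₀ x y W.polynomial =
    y ^ 2 + φ₀ W.a₁ * x * y + φ₀ W.a₃ * y - (x ^ 3 + φ₀ W.a₂ * x ^ 2 + φ₀ W.a₄ * x + φ₀ W.a₆) := by
  simp only [ev, WeierstrassCurve.Affine.polynomial, coe_eval₂RingHom, eval₂_sub, eval₂_add,
    eval₂_mul, eval₂_pow, eval₂_X, eval₂_C]
  ring

theorem snd_evX_polynomial : (evX φ₀ x y W.polynomial).snd =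
    φ₀ W.a₁ * y - (3 * x ^ 2 + 2 * φ₀ W.a₂ * x + φ₀ W.a₄) := by
  simp only [evX, WeierstrassCurve.Affine.polynomial, coe_eval₂RingHom, eval₂_sub, eval₂_add,
    eval₂_mul, eval₂_pow, eval₂_X, eval₂_C, RingHom.comp_apply, TrivSqZeroExt.inlHom_apply]
  simp only [pow_succ, pow_zero, one_mul, TrivSqZeroExt.snd_sub, TrivSqZeroExt.snd_add,
    TrivSqZeroExt.snd_mul, TrivSqZeroExt.fst_mul, TrivSqZeroExt.fst_add, TrivSqZeroExt.fst_inl,
    TrivSqZeroExt.snd_inl, DualNumber.fst_eps, DualNumber.snd_eps, smul_eq_mul,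
    MulOpposite.smul_eq_mul_unop, MulOpposite.unop_op]
  ring

theorem snd_evY_polynomial : (evY φ₀ x y W.polynomial).snd =
    2 * y + φ₀ W.a₁ * x + φ₀ W.a₃ := by
  simp only [evY, WeierstrassCurve.Affine.polynomial, coe_eval₂RingHom, eval₂_sub, eval₂_add,
    eval₂_mul, eval₂_pow, eval₂_X, eval₂_C, RingHom.comp_apply, TrivSqZeroExt.inlHom_apply]
  simp only [pow_succ, pow_zero, one_mul, TrivSqZeroExt.snd_sub, TrivSqZeroExt.snd_add,
    TrivSqZeroExt.snd_mul, TrivSqZeroExt.fst_mul, TrivSqZeroExt.fst_add, TrivSqZeroExt.fst_inl,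
    TrivSqZeroExt.snd_inl, DualNumber.fst_eps, DualNumber.snd_eps, smul_eq_mul,
    MulOpposite.smul_eq_mul_unop, MulOpposite.unop_op]
  ring

end Weier

end Groth.Agent.Lib.Helper14WeierReg


namespace Groth.Agent.Lib.Helper14WeierReg

/-- a Weierstrass cubic with `a₃ = a₄ = a₆ = 0` has no singular point other than the origin. -/
theorem eq_zero_of_singular {F : Type u} [Field F] (a₁ a₂ x y : F)
    (heq : y ^ 2 + a₁ * x * y = x ^ 3 + a₂ * x ^ 2)
    (hx : a₁ * y - (3 * x ^ 2 + 2 * a₂ * x) = 0) (hy : 2 * y + a₁ * x = 0) : x = 0 ∧ y = 0 := by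
  by_cases hx0 : x = 0
  · subst hx0
    refine ⟨rfl, ?_⟩
    have : y ^ 2 = 0 := by linear_combination heq
    exact pow_eq_zero_iff (two_ne_zero) |>.1 this
  · exfalso
    have E1 : x ^ 2 * (4 * x + 4 * a₂ + a₁ ^ 2) = 0 := by
      linear_combination (-4) * heq + (2 * y + a₁ * x) * hy
    have E2 : x * (6 * x + 4 * a₂ + a₁ ^ 2) = 0 := by
      linear_combination a₁ * hy - 2 * hx
    have e1 : 4 * x + 4 * a₂ + a₁ ^ 2 = 0 := by
      rcases mul_eq_zero.1 E1 with h | h
      · exact absurd (pow_eq_zero_iff two_ne_zero |>.1 h) hx0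
      · exact h
    have e2 : 6 * x + 4 * a₂ + a₁ ^ 2 = 0 := by
      rcases mul_eq_zero.1 E2 with h | h
      · exact absurd h hx0
      · exact h
    have h2x : (2 : F) * x = 0 := by linear_combination e2 - e1
    have h2 : (2 : F) = 0 := by
      rcases mul_eq_zero.1 h2x with h | h
      · exact h
      · exact absurd h hx0
    have ha₁x : a₁ * x = 0 := by linear_combination hy - y * h2
    have ha₁ : a₁ = 0 := by
      rcases mul_eq_zero.1 ha₁x with h | h
      · exact h
      · exact absurd h hx0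
    have hxx : x ^ 2 = 0 := by
      linear_combination (-1) * hx + y * ha₁ - (x ^ 2 + a₂ * x) * h2
    exact hx0 (pow_eq_zero_iff two_ne_zero |>.1 hxx)

end Groth.Agent.Lib.Helper14WeierReg


namespace Groth.Agent.Lib.Helper14WeierReg

open Polynomial IsLocalRing
open scoped Polynomial.Bivariate
open WeierstrassCurve.Affine

set_option maxHeartbeats 1600000 in
theorem main (R : Type u) [CommRing R] [IsDomain R] [IsDiscreteValuationRing R]
    (W : WeierstrassCurve.Affine R) (hΔ : W.Δ ≠ 0)
    (h3 : W.a₃ ∈ maximalIdeal R) (h4 : W.a₄ ∈ maximalIdeal R)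
    (h6 : W.a₆ ∈ maximalIdeal R) (h6' : W.a₆ ∉ maximalIdeal R ^ 2)
    (P : Ideal W.CoordinateRing) [P.IsPrime] :
    IsRegularLocalRing (Localization.AtPrime P) := by
  classical
  have hPprime : P.IsPrime := inferInstance
  let φ : W.CoordinateRing →+* P.ResidueField := algebraMap W.CoordinateRing P.ResidueField
  have hφ : ∀ a, φ a = 0 ↔ a ∈ P := fun a => Ideal.algebraMap_residueField_eq_zero
  let φ₀ : R →+* P.ResidueField := φ.comp (algebraMap R W.CoordinateRing)
  set x : P.ResidueField := φ (CoordinateRing.mk W (C X)) with hx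
  set y : P.ResidueField := φ (CoordinateRing.mk W Y) with hy
  have hev : ∀ p : R[X][Y], ev φ₀ x y p = φ (CoordinateRing.mk W p) := by
    intro p
    have h : ev φ₀ x y = φ.comp (CoordinateRing.mk W) := by
      apply Polynomial.ringHom_ext'
      · apply Polynomial.ringHom_ext'
        · ext r
          simp [ev, φ₀]
          rfl
        · simp [ev]
          rfl
      · simp [ev]
        rfl
    exact congrArg (fun f => f p) h
  have heq : y ^ 2 + φ₀ W.a₁ * x * y + φ₀ W.a₃ * y -
      (x ^ 3 + φ₀ W.a₂ * x ^ 2 + φ₀ W.a₄ * x + φ₀ W.a₆) = 0 := by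
    rw [← ev_polynomial, hev, show CoordinateRing.mk W W.polynomial = 0 from AdjoinRoot.mk_self,
      map_zero]
  have key : (¬ IsRegularLocalRing (Localization.AtPrime P)) →
      φ₀ W.a₁ * y - (3 * x ^ 2 + 2 * φ₀ W.a₂ * x + φ₀ W.a₄) = 0 ∧
        2 * y + φ₀ W.a₁ * x + φ₀ W.a₃ = 0 := by
    intro hnot
    by_contra hcon
    apply hnot
    refine @reg_of_not_mem_sq (R[X][Y]) _ _ W.polynomial (Ideal.span {W.polynomial}) rfl P
      hPprime ?_
    intro s hs hsw
    apply hcon
    have hQ : ∀ q ∈ P.comap (Ideal.Quotient.mk (Ideal.span {W.polynomial})),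
        ev φ₀ x y q = 0 := by
      intro q hq
      rw [hev]
      exact (hφ _).2 hq
    have hsne : ev φ₀ x y s ≠ 0 := by
      rw [hev]
      intro h0
      exact hs ((hφ _).1 h0)
    have hWQ : W.polynomial ∈ P.comap (Ideal.Quotient.mk (Ideal.span {W.polynomial})) := by
      have h0 : CoordinateRing.mk W W.polynomial ∈ P := by
        rw [show CoordinateRing.mk W W.polynomial = 0 from AdjoinRoot.mk_self]
        exact P.zero_mem
      exact h0
    constructor
    · rw [← snd_evX_polynomial]
      exact snd_eq_zero_of_mul_mem_sq _ (evX φ₀ x y)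
        (fun q hq => by rw [fst_evX]; exact hQ q hq) s _
        (by rw [fst_evX]; exact hsne) hWQ hsw
    · rw [← snd_evY_polynomial]
      exact snd_eq_zero_of_mul_mem_sq _ (evY φ₀ x y)
        (fun q hq => by rw [fst_evY]; exact hQ q hq) s _
        (by rw [fst_evY]; exact hsne) hWQ hsw
  by_contra hnot
  obtain ⟨hpx, hpy⟩ := key hnot
  by_cases hΔ0 : φ₀ W.Δ = 0
  · have hker : RingHom.ker φ₀ = maximalIdeal R := by
      have hne : RingHom.ker φ₀ ≠ ⊥ := fun h =>
        hΔ ((RingHom.injective_iff_ker_eq_bot φ₀).2 h (by rw [hΔ0, map_zero]))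
      haveI : (RingHom.ker φ₀).IsPrime := RingHom.ker_isPrime φ₀
      exact IsLocalRing.eq_maximalIdeal (IsPrime.to_maximal_ideal hne)
    have hm : ∀ r ∈ maximalIdeal R, φ₀ r = 0 := fun r hr => by
      rw [← RingHom.mem_ker, hker]
      exact hr
    have h30 := hm _ h3
    have h40 := hm _ h4
    have h60 := hm _ h6
    rw [h30, h40, h60] at heq
    rw [h40] at hpx
    rw [h30] at hpy
    obtain ⟨hx0, hy0⟩ := eq_zero_of_singular (φ₀ W.a₁) (φ₀ W.a₂) x y
      (by linear_combination heq) (by linear_combination hpx) (by linear_combination hpy)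
    apply hnot
    have hxP : CoordinateRing.mk W (C X) ∈ P := (hφ _).1 hx0
    have hyP : CoordinateRing.mk W Y ∈ P := (hφ _).1 hy0
    have hmP : ∀ r ∈ maximalIdeal R, algebraMap R W.CoordinateRing r ∈ P := fun r hr =>
      (hφ _).1 (hm r hr)
    have hspan : Ideal.span {CoordinateRing.mk W (C X), CoordinateRing.mk W Y} ≤ P := by
      rw [Ideal.span_le]
      rintro _ (rfl | rfl)
      · exact hxP
      · exact hyP
    haveI : P.IsMaximal := by
      rw [Ideal.isMaximal_iff]
      refine ⟨fun h1 => (Ideal.IsPrime.ne_top inferInstance) ((Ideal.eq_top_iff_one P).2 h1), ?_⟩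
      intro J a hPJ haP haJ
      obtain ⟨r, hr⟩ := Groth.Agent.Lib.Helper10.Weier.exists_decomp W a
      have hrm : r ∉ maximalIdeal R := fun hrm => haP (by
        have := P.add_mem (hspan hr) (hmP r hrm)
        rwa [sub_add_cancel] at this)
      have hu : IsUnit r := by
        by_contra h
        exact hrm ((mem_maximalIdeal _).2 h)
      have hrJ : algebraMap R W.CoordinateRing r ∈ J := by
        have := J.sub_mem haJ (hPJ (hspan hr))
        rwa [sub_sub_cancel] at this
      exact (Ideal.eq_top_iff_one J).1 (Ideal.eq_top_of_isUnit_mem _ hrJ (hu.map _))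
    exact Groth.Agent.Lib.Helper10.Weier.main h6 h6' P hmP hxP hyP
  · have hE : (W.map φ₀).Equation x y := by
      rw [WeierstrassCurve.Affine.equation_iff']
      simpa using heq
    have hns := (WeierstrassCurve.Affine.equation_iff_nonsingular_of_Δ_ne_zero (W := W.map φ₀)
      (by rwa [WeierstrassCurve.map_Δ])).1 hE
    rw [WeierstrassCurve.Affine.nonsingular_iff'] at hns
    rcases hns.2 with h | h
    · exact h (by simpa using hpx)
    · exact h (by simpa using hpy)

end Groth.Agent.Lib.Helper14WeierReg
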