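/- Helper14: ghost-component estimates for Witt vectors over a `p`-torsion-free ring, and
solving `p^u x = a` in `W_m(R)` by a `p`-adic limit. -/
import Mathlib

set_option autoImplicit false

namespace Groth.Agent.Lib.Helper14.WittDiv

open WittVector Finset

variable {p : ℕ} [hp : Fact p.Prime] {R : Type*} [CommRing R]

theorem ghost_eq (n : ℕ) (x : WittVector p R) :
    ghostComponent n x = ∑ i ∈ range (n + 1), (p : R) ^ i * x.coeff i ^ p ^ (n - i) := by
  rw [ghostComponent_apply, wittPolynomial_eq_sum_C_mul_X_pow, map_sum]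
  refine Finset.sum_congr rfl fun i _ => ?_
  simp

theorem ghost_pow_mul (n u : ℕ) (x : WittVector p R) :
    ghostComponent n ((p : WittVector p R) ^ u * x) = (p : R) ^ u * ghostComponent n x := by
  rw [map_mul, map_pow, map_natCast]

theorem add_le_mul_pow (s k : ℕ) (hs : 1 ≤ s) : s + k ≤ s * p ^ k := by
  have h1 : k + 1 ≤ p ^ k := Nat.succ_le_of_lt (Nat.lt_pow_self hp.out.one_lt)
  calc s + k ≤ s * (k + 1) := by nlinarith
    _ ≤ s * p ^ k := Nat.mul_le_mul_left s h1

/-- one term of the ghost component -/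
theorem term_dvd (s n i : ℕ) (hs : 1 ≤ s) (hi : i ≤ n) (y : R) (hy : (p : R) ^ s ∣ y) :
    (p : R) ^ (s + n) ∣ (p : R) ^ i * y ^ p ^ (n - i) := by
  obtain ⟨c, rfl⟩ := hy
  have h1 : (p : R) ^ i * ((p : R) ^ s * c) ^ p ^ (n - i) =
      (p : R) ^ (i + s * p ^ (n - i)) * c ^ p ^ (n - i) := by
    rw [mul_pow, ← pow_mul, pow_add]; ring
  rw [h1]
  refine Dvd.dvd.mul_right (pow_dvd_pow _ ?_) _
  have := add_le_mul_pow (p := p) s (n - i) hs
  omega

/-- (G1) -/
theorem ghost_dvd (s n : ℕ) (hs : 1 ≤ s) (y : WittVector p R)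
    (h : ∀ i ≤ n, (p : R) ^ s ∣ y.coeff i) : (p : R) ^ (s + n) ∣ ghostComponent n y := by
  rw [ghost_eq]
  refine Finset.dvd_sum fun i hi => ?_
  have hi' : i ≤ n := by
    have := Finset.mem_range.mp hi
    omega
  exact term_dvd s n i hs hi' _ (h i hi')

omit hp in
theorem pow_mul_cancel (hR : ∀ y : R, (p : R) * y = 0 → y = 0) (n : ℕ) (a b : R)
    (h : (p : R) ^ n * a = (p : R) ^ n * b) : a = b := by
  induction n with
  | zero => simpa using h
  | succ n ih =>
    apply ih
    have h1 : (p : R) * ((p : R) ^ n * a - (p : R) ^ n * b) = 0 := by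
      have : (p : R) * ((p : R) ^ n * a - (p : R) ^ n * b) =
          (p : R) ^ (n + 1) * a - (p : R) ^ (n + 1) * b := by ring
      rw [this, h, sub_self]
    exact sub_eq_zero.mp (hR _ h1)

omit hp in
theorem dvd_of_pow_mul_dvd (hR : ∀ y : R, (p : R) * y = 0 → y = 0) (n t : ℕ) (a : R)
    (h : (p : R) ^ (n + t) ∣ (p : R) ^ n * a) : (p : R) ^ t ∣ a := by
  obtain ⟨c, hc⟩ := h
  refine ⟨c, pow_mul_cancel hR n _ _ ?_⟩
  rw [hc, pow_add, mul_assoc]

/-- (G2) -/
theorem coeff_dvd_of_ghost (hR : ∀ y : R, (p : R) * y = 0 → y = 0) (s m : ℕ) (hs : 1 ≤ s)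
    (y : WittVector p R) (h : ∀ n < m, (p : R) ^ (s + n) ∣ ghostComponent n y) :
    ∀ n < m, (p : R) ^ s ∣ y.coeff n := by
  intro n
  induction n using Nat.strong_induction_on with
  | _ n ih =>
    intro hn
    have h1 := h n hn
    rw [ghost_eq, Finset.sum_range_succ, Nat.sub_self, pow_zero, pow_one] at h1
    have h2 : (p : R) ^ (s + n) ∣ ∑ i ∈ range n, (p : R) ^ i * y.coeff i ^ p ^ (n - i) := by
      refine Finset.dvd_sum fun i hi => ?_
      have hi' : i < n := Finset.mem_range.mp hi
      exact term_dvd s n i hs hi'.le _ (ih i hi' (by omega))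
    have h3 : (p : R) ^ (n + s) ∣ (p : R) ^ n * y.coeff n := by
      rw [add_comm n s]
      exact (dvd_add_right h2).mp h1
    exact dvd_of_pow_mul_dvd hR n s _ h3

/-- (Z1) -/
theorem ghost_eq_zero (m : ℕ) (y : WittVector p R) (h : ∀ i < m, y.coeff i = 0) :
    ∀ n < m, ghostComponent n y = 0 := by
  intro n hn
  rw [ghost_eq]
  refine Finset.sum_eq_zero fun i hi => ?_
  have hi' : i < n + 1 := Finset.mem_range.mp hi
  rw [h i (by omega), zero_pow (pow_ne_zero _ hp.out.ne_zero), mul_zero]

/-- (Z2) -/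
theorem coeff_eq_zero_of_ghost (hR : ∀ y : R, (p : R) * y = 0 → y = 0) (m : ℕ)
    (y : WittVector p R) (h : ∀ n < m, ghostComponent n y = 0) :
    ∀ n < m, y.coeff n = 0 := by
  intro n
  induction n using Nat.strong_induction_on with
  | _ n ih =>
    intro hn
    have h1 := h n hn
    rw [ghost_eq, Finset.sum_range_succ, Nat.sub_self, pow_zero, pow_one] at h1
    have h2 : ∑ i ∈ range n, (p : R) ^ i * y.coeff i ^ p ^ (n - i) = 0 := by
      refine Finset.sum_eq_zero fun i hi => ?_
      have hi' : i < n := Finset.mem_range.mp hi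
      rw [ih i hi' (by omega), zero_pow (pow_ne_zero _ hp.out.ne_zero), mul_zero]
    rw [h2, zero_add] at h1
    exact pow_mul_cancel hR n _ _ (by rw [h1, mul_zero])

/-- `p^u y ∈ I_m ⇒ y ∈ I_m` -/
theorem mem_ker_truncate_of_pow_mul (hR : ∀ y : R, (p : R) * y = 0 → y = 0) (m u : ℕ)
    (y : WittVector p R)
    (h : (p : WittVector p R) ^ u * y ∈ RingHom.ker (truncate (p := p) (R := R) m)) :
    y ∈ RingHom.ker (truncate (p := p) (R := R) m) := by
  rw [mem_ker_truncate] at h ⊢
  apply coeff_eq_zero_of_ghost hR m y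
  intro n hn
  have h1 := ghost_eq_zero m _ h n hn
  rw [ghost_pow_mul] at h1
  exact pow_mul_cancel hR u _ _ (by rw [h1, mul_zero])

variable (p R) in
/-- reduction to `W_m(R/p^s)` -/
noncomputable def ρ (m s : ℕ) :
    WittVector p R →+* TruncatedWittVector p m (R ⧸ Ideal.span {(p : R) ^ s}) :=
  (truncate m).comp (WittVector.map (Ideal.Quotient.mk (Ideal.span {(p : R) ^ s})))

theorem sub_mem_ker_ρ_iff (m s : ℕ) (x y : WittVector p R) :
    x - y ∈ RingHom.ker (ρ p R m s) ↔
      ∀ i < m, (p : R) ^ s ∣ x.coeff i - y.coeff i := by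
  rw [RingHom.mem_ker, map_sub, sub_eq_zero]
  constructor
  · intro h i hi
    have h1 := congrArg (fun w => TruncatedWittVector.coeff ⟨i, hi⟩ w) h
    simp only [ρ, RingHom.comp_apply, coeff_truncate, WittVector.map_coeff] at h1
    exact Ideal.mem_span_singleton.mp (Ideal.Quotient.eq.mp h1)
  · intro h
    ext i
    simp only [ρ, RingHom.comp_apply, coeff_truncate, WittVector.map_coeff]
    exact Ideal.Quotient.eq.mpr (Ideal.mem_span_singleton.mpr (h i i.2))

theorem mem_ker_ρ_iff (m s : ℕ) (x : WittVector p R) :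
    x ∈ RingHom.ker (ρ p R m s) ↔ ∀ i < m, (p : R) ^ s ∣ x.coeff i := by
  have := sub_mem_ker_ρ_iff m s x 0
  simpa using this

theorem ker_ρ_anti (m : ℕ) {s t : ℕ} (h : s ≤ t) :
    RingHom.ker (ρ p R m t) ≤ RingHom.ker (ρ p R m s) := by
  intro x hx
  rw [mem_ker_ρ_iff] at hx ⊢
  exact fun i hi => (pow_dvd_pow _ h).trans (hx i hi)

/-- coefficientwise limit -/
theorem exists_limit [IsPrecomplete (Ideal.span {(p : R)}) R] (m : ℕ) (z : ℕ → WittVector p R)
    (hz : ∀ t, z (t + 1) - z t ∈ RingHom.ker (ρ p R m t)) :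
    ∃ x : WittVector p R, ∀ t, x - z t ∈ RingHom.ker (ρ p R m t) := by
  have hstep : ∀ n i, i < m → (p : R) ^ n ∣ (z (n + 1)).coeff i - (z n).coeff i :=
    fun n i hi => (sub_mem_ker_ρ_iff m n _ _).mp (hz n) i hi
  have htel : ∀ i n k, i < m → n ≤ k → (p : R) ^ n ∣ (z k).coeff i - (z n).coeff i := by
    intro i n k hin hnk
    induction k, hnk using Nat.le_induction with
    | base => rw [sub_self]; exact dvd_zero _
    | succ k hnk ih =>
      have h1 : (z (k + 1)).coeff i - (z n).coeff i =
          ((z (k + 1)).coeff i - (z k).coeff i) + ((z k).coeff i - (z n).coeff i) := by ring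
      rw [h1]
      exact dvd_add ((pow_dvd_pow _ hnk).trans (hstep k i hin)) ih
  have hlim : ∀ i, i < m → ∃ L : R, ∀ n, (p : R) ^ n ∣ L - (z n).coeff i := by
    intro i hi
    obtain ⟨L, hL⟩ := IsPrecomplete.prec (I := Ideal.span {(p : R)}) (M := R) inferInstance
      (f := fun n => (z n).coeff i) (by
      intro a b hab
      rw [SModEq.sub_mem, smul_eq_mul, Ideal.mul_top, Ideal.span_singleton_pow,
        Ideal.mem_span_singleton]
      have h1 := htel i a b hi hab
      rw [← neg_sub]
      exact (dvd_neg).mpr h1)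
    refine ⟨L, fun n => ?_⟩
    have h1 := hL n
    rw [SModEq.sub_mem, smul_eq_mul, Ideal.mul_top, Ideal.span_singleton_pow,
      Ideal.mem_span_singleton] at h1
    rw [← neg_sub]
    exact (dvd_neg).mpr h1
  classical
  refine ⟨WittVector.mk p (fun i => if h : i < m then (hlim i h).choose else 0), fun t => ?_⟩
  rw [sub_mem_ker_ρ_iff]
  intro i hi
  change (p : R) ^ t ∣ (if h : i < m then (hlim i h).choose else 0) - (z t).coeff i
  rw [dif_pos hi]
  exact (hlim i hi).choose_spec t

/-- the key solvability statement (S14861) -/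
theorem exists_solution (hR : ∀ y : R, (p : R) * y = 0 → y = 0)
    [IsAdicComplete (Ideal.span {(p : R)}) R] (a : WittVector p R) (m u : ℕ)
    (h : ∀ s : ℕ, ∃ z : WittVector p R,
      (p : WittVector p R) ^ u * z - a ∈ RingHom.ker (ρ p R m s)) :
    ∃ x : WittVector p R, (p : WittVector p R) ^ u * x - a ∈ RingHom.ker (truncate m) := by
  choose z hz using h
  -- the shifted sequence
  have hstep : ∀ t, z (u + (t + 1)) - z (u + t) ∈ RingHom.ker (ρ p R m t) := by
    intro t
    rcases Nat.eq_zero_or_pos t with rfl | ht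
    · rw [mem_ker_ρ_iff]
      intro i _
      rw [pow_zero]
      exact one_dvd _
    set d := z (u + (t + 1)) - z (u + t) with hd
    have h1 : (p : WittVector p R) ^ u * d ∈ RingHom.ker (ρ p R m (u + t)) := by
      have : (p : WittVector p R) ^ u * d =
          ((p : WittVector p R) ^ u * z (u + (t + 1)) - a) -
            ((p : WittVector p R) ^ u * z (u + t) - a) := by rw [hd]; ring
      rw [this]
      exact sub_mem (ker_ρ_anti m (by omega) (hz (u + (t + 1)))) (hz (u + t))
    rw [mem_ker_ρ_iff] at h1 ⊢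
    apply coeff_dvd_of_ghost hR t m ht
    intro n hn
    have h2 := ghost_dvd (u + t) n (by omega) _ (fun i hi => h1 i (by omega))
    rw [ghost_pow_mul] at h2
    apply dvd_of_pow_mul_dvd hR u
    rw [← add_assoc]
    exact h2
  obtain ⟨x, hx⟩ := exists_limit m (fun t => z (u + t)) hstep
  refine ⟨x, ?_⟩
  have hmem : ∀ t, (p : WittVector p R) ^ u * x - a ∈ RingHom.ker (ρ p R m t) := by
    intro t
    have : (p : WittVector p R) ^ u * x - a =
        (p : WittVector p R) ^ u * (x - z (u + t)) + ((p : WittVector p R) ^ u * z (u + t) - a) := by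
      ring
    rw [this]
    exact add_mem (Ideal.mul_mem_left _ _ (hx t)) (ker_ρ_anti m (by omega) (hz (u + t)))
  rw [mem_ker_truncate]
  intro i hi
  apply IsHausdorff.haus (I := Ideal.span {(p : R)}) (M := R) inferInstance
  intro n
  rw [SModEq.sub_mem, sub_zero, smul_eq_mul, Ideal.mul_top, Ideal.span_singleton_pow,
    Ideal.mem_span_singleton]
  exact (mem_ker_ρ_iff m n _).mp (hmem n) i hi

theorem ker_truncate_anti {m k : ℕ} (h : m ≤ k) :
    RingHom.ker (truncate (p := p) (R := R) k) ≤ RingHom.ker (truncate (p := p) (R := R) m) := by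
  intro x hx
  rw [mem_ker_truncate] at hx ⊢
  exact fun i hi => hx i (by omega)

theorem sub_mem_ker_truncate_iff (m : ℕ) (x y : WittVector p R) :
    x - y ∈ RingHom.ker (truncate (p := p) (R := R) m) ↔ ∀ i < m, x.coeff i = y.coeff i := by
  rw [RingHom.mem_ker, map_sub, sub_eq_zero]
  constructor
  · intro h i hi
    have h1 := congrArg (fun w => TruncatedWittVector.coeff ⟨i, hi⟩ w) h
    simpa only [coeff_truncate] using h1
  · intro h
    ext i
    simp only [coeff_truncate]
    exact h i i.2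

/-- closedness of `p^u W` (S14862) -/
theorem mem_span_of_forall (hR : ∀ y : R, (p : R) * y = 0 → y = 0)
    [IsAdicComplete (Ideal.span {(p : R)}) R] (u : ℕ) (a : WittVector p R)
    (h : ∀ r s : ℕ, a ∈ Ideal.span {(p : WittVector p R) ^ u} ⊔
      RingHom.ker (truncate (p := p) (R := R) r) ⊔
        RingHom.ker (WittVector.map (p := p) (Ideal.Quotient.mk (Ideal.span {(p : R) ^ s})))) :
    a ∈ Ideal.span {(p : WittVector p R) ^ u} := by
  have h1 : ∀ m : ℕ, ∃ x : WittVector p R,
      (p : WittVector p R) ^ u * x - a ∈ RingHom.ker (truncate (p := p) (R := R) m) := by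
    intro m
    apply exists_solution hR a m u
    intro s
    obtain ⟨y, hy, c, hc, rfl⟩ := Submodule.mem_sup.mp (h m s)
    obtain ⟨e, he, b, hb, rfl⟩ := Submodule.mem_sup.mp hy
    obtain ⟨w, rfl⟩ := Ideal.mem_span_singleton'.mp he
    refine ⟨w, ?_⟩
    have : (p : WittVector p R) ^ u * w - (w * (p : WittVector p R) ^ u + b + c) = -(b + c) := by
      ring
    rw [this]
    refine neg_mem (add_mem ?_ ?_)
    · rw [mem_ker_ρ_iff]
      intro i hi
      rw [(mem_ker_truncate m b).mp hb i hi]
      exact dvd_zero _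
    · rw [mem_ker_ρ_iff]
      intro i _
      have h2 := congrArg (fun w => WittVector.coeff w i) (RingHom.mem_ker.mp hc)
      simp only [WittVector.map_coeff, WittVector.zero_coeff] at h2
      exact Ideal.mem_span_singleton.mp (Ideal.Quotient.eq_zero_iff_mem.mp h2)
  choose x hx using h1
  have h2 : ∀ m, x (m + 1) - x m ∈ RingHom.ker (truncate (p := p) (R := R) m) := by
    intro m
    apply mem_ker_truncate_of_pow_mul hR m u
    have : (p : WittVector p R) ^ u * (x (m + 1) - x m) =
        ((p : WittVector p R) ^ u * x (m + 1) - a) - ((p : WittVector p R) ^ u * x m - a) := by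
      ring
    rw [this]
    exact sub_mem (ker_truncate_anti (Nat.le_succ m) (hx (m + 1))) (hx m)
  have h3 : ∀ i k, i + 1 ≤ k → (x k).coeff i = (x (i + 1)).coeff i := by
    intro i k hk
    induction k, hk using Nat.le_induction with
    | base => rfl
    | succ k hk ih =>
      rw [← ih]
      exact (sub_mem_ker_truncate_iff k _ _).mp (h2 k) i (by omega)
  set y : WittVector p R := WittVector.mk p (fun i => (x (i + 1)).coeff i) with hy
  have h4 : ∀ m, y - x m ∈ RingHom.ker (truncate (p := p) (R := R) m) := by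
    intro m
    rw [sub_mem_ker_truncate_iff]
    intro i hi
    exact (h3 i m (by omega)).symm
  have h5 : (p : WittVector p R) ^ u * y - a = 0 := by
    ext i
    have h6 : (p : WittVector p R) ^ u * y - a ∈
        RingHom.ker (truncate (p := p) (R := R) (i + 1)) := by
      have : (p : WittVector p R) ^ u * y - a =
          (p : WittVector p R) ^ u * (y - x (i + 1)) +
            ((p : WittVector p R) ^ u * x (i + 1) - a) := by ring
      rw [this]
      exact add_mem (Ideal.mul_mem_left _ _ (h4 (i + 1))) (hx (i + 1))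
    rw [WittVector.zero_coeff]
    exact (mem_ker_truncate (i + 1) _).mp h6 i (by omega)
  refine Ideal.mem_span_singleton'.mpr ⟨y, ?_⟩
  rw [mul_comm]
  exact sub_eq_zero.mp h5

end Groth.Agent.Lib.Helper14.WittDiv
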