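import Mathlib.RingTheory.WittVector.Truncated
import Mathlib.RingTheory.WittVector.Identities
import Mathlib.RingTheory.WittVector.Domain

/-!
# Helper22: ideals of the ring of Witt vectors (`I = V W`, `p`-adic vs `I`-adic vs `V`-adic)
-/

set_option autoImplicit false

namespace Groth.Agent.Lib.Helper22

open WittVector

variable {p : ℕ} [Fact p.Prime] {R : Type*} [CommRing R]

theorem verschiebung_mul_verschiebung (a b : WittVector p R) :
    verschiebung a * verschiebung b = (p : WittVector p R) * verschiebung (a * b) := by
  rw [← verschiebung_mul_frobenius, frobenius_verschiebung, ← mul_assoc]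
  have : a * b * (p : WittVector p R) = (p : ℕ) • (a * b) := by
    rw [nsmul_eq_mul, mul_comm]
  rw [this, map_nsmul, nsmul_eq_mul]

theorem mem_ker_constantCoeff_iff (x : WittVector p R) :
    x ∈ RingHom.ker (constantCoeff : WittVector p R →+* R) ↔ ∃ y, x = verschiebung y := by
  constructor
  · intro hx
    have hx0 : x.coeff 0 = 0 := hx
    refine ⟨x.shift 1, ?_⟩
    have := eq_iterate_verschiebung (p := p) (x := x) (n := 1) (by
      intro i hi
      obtain rfl : i = 0 := by omega
      exact hx0)
    simpa using this
  · rintro ⟨y, rfl⟩
    show (verschiebung y).coeff 0 = 0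
    exact verschiebung_coeff_zero y

theorem kerCC_mul_le :
    RingHom.ker (constantCoeff : WittVector p R →+* R) *
        RingHom.ker (constantCoeff : WittVector p R →+* R) ≤
      Ideal.span {(p : WittVector p R)} * RingHom.ker (constantCoeff : WittVector p R →+* R) := by
  rw [Ideal.mul_le]
  intro a ha b hb
  obtain ⟨a', rfl⟩ := (mem_ker_constantCoeff_iff a).mp ha
  obtain ⟨b', rfl⟩ := (mem_ker_constantCoeff_iff b).mp hb
  rw [verschiebung_mul_verschiebung]
  exact Ideal.mul_mem_mul (Ideal.mem_span_singleton_self _)
    ((mem_ker_constantCoeff_iff _).mpr ⟨_, rfl⟩)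

theorem kerCC_pow_succ_le (m : ℕ) :
    RingHom.ker (constantCoeff : WittVector p R →+* R) ^ (m + 1) ≤
      Ideal.span {(p : WittVector p R)} ^ m *
        RingHom.ker (constantCoeff : WittVector p R →+* R) := by
  induction m with
  | zero => simp
  | succ m ih =>
    rw [pow_succ]
    calc RingHom.ker (constantCoeff : WittVector p R →+* R) ^ (m + 1) *
          RingHom.ker (constantCoeff : WittVector p R →+* R)
        ≤ (Ideal.span {(p : WittVector p R)} ^ m *
            RingHom.ker (constantCoeff : WittVector p R →+* R)) *
            RingHom.ker (constantCoeff : WittVector p R →+* R) := Ideal.mul_mono_left ih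
      _ = Ideal.span {(p : WittVector p R)} ^ m *
            (RingHom.ker (constantCoeff : WittVector p R →+* R) *
              RingHom.ker (constantCoeff : WittVector p R →+* R)) := by rw [mul_assoc]
      _ ≤ Ideal.span {(p : WittVector p R)} ^ m *
            (Ideal.span {(p : WittVector p R)} *
              RingHom.ker (constantCoeff : WittVector p R →+* R)) :=
          Ideal.mul_mono_right kerCC_mul_le
      _ = Ideal.span {(p : WittVector p R)} ^ (m + 1) *
            RingHom.ker (constantCoeff : WittVector p R →+* R) := by rw [← mul_assoc, ← pow_succ]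

theorem iterate_frobenius_natCast_pow (k N : ℕ) :
    (frobenius : WittVector p R →+* WittVector p R)^[k] ((p : WittVector p R) ^ N)
      = (p : WittVector p R) ^ N := by
  induction k with
  | zero => rfl
  | succ k ih => rw [Function.iterate_succ_apply', ih, map_pow, map_natCast]

theorem mul_mem_ker_truncate_succ (N k : ℕ)
    (hN : (p : WittVector p R) ^ N ∈ RingHom.ker (constantCoeff : WittVector p R →+* R))
    (x : WittVector p R) (hx : x ∈ RingHom.ker (truncate (p := p) (R := R) k)) :
    (p : WittVector p R) ^ N * x ∈ RingHom.ker (truncate (p := p) (R := R) (k + 1)) := by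
  rw [mem_ker_truncate] at hx ⊢
  have hxV := eq_iterate_verschiebung (p := p) hx
  have e : (p : WittVector p R) ^ N * x
      = verschiebung^[k] (x.shift k * (p : WittVector p R) ^ N) := by
    conv_lhs => rw [hxV, mul_comm, iterate_verschiebung_mul_left, iterate_frobenius_natCast_pow]
  have h0 : (x.shift k * (p : WittVector p R) ^ N).coeff 0 = 0 := by
    have : x.shift k * (p : WittVector p R) ^ N
        ∈ RingHom.ker (constantCoeff : WittVector p R →+* R) := Ideal.mul_mem_left _ _ hN
    exact this
  intro i hi
  rw [e]
  rcases Nat.lt_or_ge i k with h | h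
  · exact iterate_verschiebung_coeff_eq_zero _ h
  · obtain rfl : i = k := by omega
    have := iterate_verschiebung_coeff (p := p) (x.shift i * (p : WittVector p R) ^ N) i 0
    rw [zero_add] at this
    rw [this, h0]

theorem pow_mem_ker_truncate (N : ℕ)
    (hN : (p : WittVector p R) ^ N ∈ RingHom.ker (constantCoeff : WittVector p R →+* R)) (k : ℕ) :
    (p : WittVector p R) ^ (N * k) ∈ RingHom.ker (truncate (p := p) (R := R) k) := by
  induction k with
  | zero =>
    rw [mem_ker_truncate]
    intro i hi
    omega
  | succ k ih =>
    rw [Nat.mul_succ, pow_add, mul_comm]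
    exact mul_mem_ker_truncate_succ N k hN _ ih

end Groth.Agent.Lib.Helper22
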