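import Mathlib
import Groth.Agent.Lib.Helper22Witt

/-! Helper14: the `V`-adic filtration `ker (truncate n)` on the ring of Witt vectors: separated,
complete, and (when `p` is nilpotent) each step is nil modulo the next. -/

set_option autoImplicit false

namespace Groth.Agent.Lib.Helper14.WittFilt

open WittVector Groth.Agent.Lib.Helper22

variable {p : ℕ} [Fact p.Prime] {R : Type*} [CommRing R]

theorem sub_mem_ker_truncate_iff (n : ℕ) (x y : WittVector p R) :
    x - y ∈ RingHom.ker (truncate (p := p) (R := R) n) ↔ ∀ i < n, x.coeff i = y.coeff i := by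
  rw [RingHom.mem_ker, map_sub, sub_eq_zero]
  constructor
  · intro h i hi
    have := congrArg (fun w => TruncatedWittVector.coeff ⟨i, hi⟩ w) h
    simpa using this
  · intro h
    ext i
    rw [coeff_truncate, coeff_truncate]
    exact h i i.2

theorem ker_truncate_anti {m n : ℕ} (h : m ≤ n) :
    RingHom.ker (truncate (p := p) (R := R) n) ≤ RingHom.ker (truncate (p := p) (R := R) m) := by
  intro x hx
  rw [mem_ker_truncate] at hx ⊢
  exact fun i hi => hx i (lt_of_lt_of_le hi h)

theorem ker_truncate_zero : RingHom.ker (truncate (p := p) (R := R) 0) = ⊤ := by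
  rw [eq_top_iff]
  intro x _
  rw [mem_ker_truncate]
  intro i hi
  omega

theorem eq_zero_of_forall_mem (c : ℕ) (a : WittVector p R)
    (h : ∀ n, a ∈ RingHom.ker (truncate (p := p) (R := R) (n + c))) : a = 0 := by
  ext i
  have := (mem_ker_truncate (i + 1 + c) a).mp (h (i + 1)) i (by omega)
  rw [this, WittVector.zero_coeff]

theorem exists_limit (c : ℕ) (z : ℕ → WittVector p R)
    (hz : ∀ n, z (n + 1) - z n ∈ RingHom.ker (truncate (p := p) (R := R) (n + c))) :
    ∃ x : WittVector p R, (∀ i, x.coeff i = (z (i + 1)).coeff i) ∧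
      ∀ n, x - z n ∈ RingHom.ker (truncate (p := p) (R := R) (n + c)) := by
  have htel : ∀ n m, n ≤ m → z m - z n ∈ RingHom.ker (truncate (p := p) (R := R) (n + c)) := by
    intro n m hnm
    induction m, hnm using Nat.le_induction with
    | base => rw [sub_self]; exact Ideal.zero_mem _
    | succ m hnm ih =>
      have h1 : z (m + 1) - z n = (z (m + 1) - z m) + (z m - z n) := by abel
      rw [h1]
      exact Ideal.add_mem _ (ker_truncate_anti (by omega) (hz m)) ih
  refine ⟨WittVector.mk p (fun i => (z (i + 1)).coeff i), fun i => rfl, fun n => ?_⟩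
  rw [sub_mem_ker_truncate_iff]
  intro i hi
  change (z (i + 1)).coeff i = (z n).coeff i
  rcases Nat.le_total n (i + 1) with h | h
  · exact (sub_mem_ker_truncate_iff _ _ _).mp (htel n (i + 1) h) i hi
  · exact ((sub_mem_ker_truncate_iff _ _ _).mp (htel (i + 1) n h) i (by omega)).symm

theorem natCast_pow_mem_kerCC {N : ℕ} (hN : (p : R) ^ N = 0) :
    (p : WittVector p R) ^ N ∈ RingHom.ker (constantCoeff : WittVector p R →+* R) := by
  rw [RingHom.mem_ker, map_pow, map_natCast, hN]

theorem ker_truncate_le_kerCC {n : ℕ} (hn : 1 ≤ n) :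
    RingHom.ker (truncate (p := p) (R := R) n) ≤
      RingHom.ker (constantCoeff : WittVector p R →+* R) := by
  intro a ha
  rw [mem_ker_truncate] at ha
  exact ha 0 (by omega)

theorem pow_mem_ker_truncate_succ (N : ℕ)
    (hN : (p : WittVector p R) ^ N ∈ RingHom.ker (constantCoeff : WittVector p R →+* R))
    (n : ℕ) (hn : 1 ≤ n) (a : WittVector p R)
    (ha : a ∈ RingHom.ker (truncate (p := p) (R := R) n)) :
    a ^ (N + 2) ∈ RingHom.ker (truncate (p := p) (R := R) (n + 1)) := by
  have ha0 : a ∈ RingHom.ker (constantCoeff : WittVector p R →+* R) :=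
    ker_truncate_le_kerCC hn ha
  have h1 : a ^ (N + 1) ∈ Ideal.span {(p : WittVector p R) ^ N} := by
    have h2 : a ^ (N + 1) ∈ RingHom.ker (constantCoeff : WittVector p R →+* R) ^ (N + 1) :=
      Ideal.pow_mem_pow ha0 _
    have h3 := kerCC_pow_succ_le (p := p) (R := R) N h2
    have h4 := Ideal.mul_le_left h3
    rwa [Ideal.span_singleton_pow] at h4
  obtain ⟨c, hc⟩ := Ideal.mem_span_singleton'.mp h1
  have h5 : a ^ (N + 2) = (p : WittVector p R) ^ N * (c * a) := by
    rw [pow_succ, ← hc]
    ring
  rw [h5]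
  exact mul_mem_ker_truncate_succ N n hN _ (Ideal.mul_mem_left _ _ ha)

end Groth.Agent.Lib.Helper14.WittFilt
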