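import Mathlib

/-!
# Local rings essentially of finite type with zero-dimensional closed fibre (helper14)

`exists_subalgebra_fg_isLocalization`: a local `R`-algebra `S` essentially of finite type over the
local ring `R` (local homomorphism), with finite residue field extension and `dim S/m_R S = 0`, is the
localization at a prime of a module-finite `R`-subalgebra of `S` (via Mathlib's Zariski main theorem).
-/

namespace Groth.Agent.Lib.Helper14.ZMTLoc

open IsLocalRing

universe u v

section
variable {R : Type u} {S : Type v} [CommRing R] [CommRing S] [IsLocalRing R] [IsLocalRing S]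
  [Algebra R S] [IsLocalHom (algebraMap R S)]

omit [IsLocalRing S] [IsLocalHom (algebraMap R S)] in
theorem isNoetherianRing_quotient_map_maximalIdeal [Algebra.EssFiniteType R S] :
    IsNoetherianRing (S ⧸ (maximalIdeal R).map (algebraMap R S)) := by
  haveI : IsNoetherianRing (R ⧸ maximalIdeal R) :=
    inferInstanceAs (IsNoetherianRing (ResidueField R))
  exact Algebra.EssFiniteType.isNoetherianRing (R ⧸ maximalIdeal R) _

theorem map_maximalIdeal_le : (maximalIdeal R).map (algebraMap R S) ≤ maximalIdeal S :=
  ((IsLocalRing.local_hom_TFAE (algebraMap R S)).out 0 2).mp ‹_›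

/-- Step 1: the closed fibre is finite over R -/
theorem finite_quotient_map_maximalIdeal [Algebra.EssFiniteType R S]
    (hres : Module.Finite (ResidueField R) (ResidueField S))
    (hdim : ringKrullDim (S ⧸ (maximalIdeal R).map (algebraMap R S)) = 0) :
    Module.Finite R (S ⧸ (maximalIdeal R).map (algebraMap R S)) := by
  set I := (maximalIdeal R).map (algebraMap R S) with hI
  have hIle : I ≤ maximalIdeal S := map_maximalIdeal_le
  have hne : I ≠ ⊤ := fun h => (maximalIdeal.isMaximal S).ne_top (top_le_iff.mp (h ▸ hIle))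
  haveI : Nontrivial (S ⧸ I) := Ideal.Quotient.nontrivial_iff.mpr hne
  haveI : IsLocalRing (S ⧸ I) :=
    IsLocalRing.of_surjective' (Ideal.Quotient.mk I) Ideal.Quotient.mk_surjective
  haveI : IsNoetherianRing (S ⧸ I) := isNoetherianRing_quotient_map_maximalIdeal
  haveI : Ring.KrullDimLE 0 (S ⧸ I) := by
    rw [Ring.krullDimLE_iff, hdim]; rfl
  -- the map S ⧸ I → ResidueField S
  let f : (S ⧸ I) →ₐ[R] ResidueField S :=
    Ideal.Quotient.liftₐ I (IsScalarTower.toAlgHom R S (ResidueField S)) (by
      intro a ha
      exact (IsLocalRing.residue_eq_zero_iff a).mpr (hIle ha))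
  have hf : Function.Surjective f := by
    intro x
    obtain ⟨s, rfl⟩ := IsLocalRing.residue_surjective x
    exact ⟨Ideal.Quotient.mk I s, by simp [f]⟩
  haveI : Module.Finite R (ResidueField R) :=
    Module.Finite.of_surjective (Algebra.linearMap R (ResidueField R)) IsLocalRing.residue_surjective
  haveI : Module.Finite R (ResidueField S) := Module.Finite.trans (ResidueField R) _
  refine Module.finite_of_surjective_of_ker_le_nilradical f hf ?_ ?_
  · rw [Ring.KrullDimLE.nilradical_eq_maximalIdeal]
    intro x hx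
    by_contra hx'
    have hu : IsUnit x := by
      by_contra h
      exact hx' ((IsLocalRing.mem_maximalIdeal x).mpr h)
    have := hu.map f
    rw [RingHom.mem_ker.mp hx] at this
    exact not_isUnit_zero this
  · exact IsNoetherian.noetherian _


omit [IsLocalRing R] [IsLocalHom (algebraMap R S)] in
theorem isLocalization_atPrime_subalgebra [Algebra.EssFiniteType R S] :
    IsLocalization.AtPrime S
      ((maximalIdeal S).comap (algebraMap (Algebra.EssFiniteType.subalgebra R S) S)) := by
  have h : Algebra.EssFiniteType.submonoid R S =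
      ((maximalIdeal S).comap
        (algebraMap (Algebra.EssFiniteType.subalgebra R S) S)).primeCompl := by
    ext x
    simp [Algebra.EssFiniteType.submonoid, IsUnit.mem_submonoid_iff]
  have := Algebra.EssFiniteType.isLocalization R S
  rw [h] at this
  exact this

theorem under_comap_maximalIdeal (S₀ : Subalgebra R S) :
    ((maximalIdeal S).comap (algebraMap S₀ S)).under R = maximalIdeal R := by
  have h := ((IsLocalRing.local_hom_TFAE (algebraMap R S)).out 0 4).mp ‹_›
  rw [Ideal.under, Ideal.comap_comap, ← IsScalarTower.algebraMap_eq]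
  exact h

theorem weaklyQuasiFiniteAt_subalgebra [Algebra.EssFiniteType R S]
    (hres : Module.Finite (ResidueField R) (ResidueField S))
    (hdim : ringKrullDim (S ⧸ (maximalIdeal R).map (algebraMap R S)) = 0) :
    Algebra.WeaklyQuasiFiniteAt R
      ((maximalIdeal S).comap (algebraMap (Algebra.EssFiniteType.subalgebra R S) S)) := by
  set S₀ := Algebra.EssFiniteType.subalgebra R S with hS₀
  set q₀ := (maximalIdeal S).comap (algebraMap S₀ S) with hq₀
  haveI : IsLocalization.AtPrime S q₀ := isLocalization_atPrime_subalgebra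
  rw [Algebra.weaklyQuasiFiniteAt_iff, under_comap_maximalIdeal]
  let e : S ≃ₐ[S₀] Localization.AtPrime q₀ :=
    IsLocalization.algEquiv q₀.primeCompl S (Localization.AtPrime q₀)
  haveI : Module.Finite R (S ⧸ (maximalIdeal R).map (algebraMap R S)) :=
    finite_quotient_map_maximalIdeal hres hdim
  have H : (maximalIdeal R).map (algebraMap R S) ≤
      ((maximalIdeal R).map (algebraMap R (Localization.AtPrime q₀))).comap
        (e.toAlgHom.restrictScalars R) := by
    rw [Ideal.map_le_iff_le_comap]
    intro x hx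
    rw [Ideal.mem_comap, Ideal.mem_comap]
    have : (e.toAlgHom.restrictScalars R) (algebraMap R S x) =
        algebraMap R (Localization.AtPrime q₀) x := (e.toAlgHom.restrictScalars R).commutes x
    rw [this]
    exact Ideal.mem_map_of_mem _ hx
  refine Algebra.QuasiFinite.of_surjective_algHom
    (Ideal.quotientMapₐ _ (e.toAlgHom.restrictScalars R) H) ?_
  exact Ideal.quotientMap_surjective (H := H) e.surjective


omit [IsLocalRing R] [IsLocalHom (algebraMap R S)] in
/-- A subalgebra `T` of a local ring `S` such that every element of `S` is a fraction of elements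
of `T` with denominator a unit of `S`: then `S` is the localization of `T` at `m_S ∩ T`. -/
theorem isLocalization_atPrime_of_forall_exists (T : Subalgebra R S)
    (H : ∀ z : S, ∃ y ∈ T, IsUnit y ∧ z * y ∈ T) :
    IsLocalization.AtPrime S ((maximalIdeal S).comap (algebraMap T S)) := by
  refine ⟨⟨?_, ?_, ?_⟩⟩
  · rintro ⟨y, hy⟩
    have : algebraMap T S y ∉ maximalIdeal S := hy
    simpa [IsLocalRing.mem_maximalIdeal] using this
  · intro z
    obtain ⟨y, hyT, hyu, hzy⟩ := H z
    refine ⟨⟨⟨z * y, hzy⟩, ⟨⟨y, hyT⟩, ?_⟩⟩, rfl⟩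
    change (⟨y, hyT⟩ : T) ∉ (maximalIdeal S).comap (algebraMap T S)
    rw [Ideal.mem_comap, IsLocalRing.mem_maximalIdeal]
    simpa using hyu
  · intro x y hxy
    exact ⟨1, by rw [Subtype.ext (show (x : S) = y from hxy)]⟩

theorem exists_subalgebra_fg_isLocalization [Algebra.EssFiniteType R S]
    (hres : Module.Finite (ResidueField R) (ResidueField S))
    (hdim : ringKrullDim (S ⧸ (maximalIdeal R).map (algebraMap R S)) = 0) :
    ∃ T : Subalgebra R S, T.toSubmodule.FG ∧
      IsLocalization.AtPrime S ((maximalIdeal S).comap (algebraMap T S)) := by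
  set S₀ := Algebra.EssFiniteType.subalgebra R S with hS₀
  set q₀ := (maximalIdeal S).comap (algebraMap S₀ S) with hq₀
  haveI : Algebra.WeaklyQuasiFiniteAt R q₀ := weaklyQuasiFiniteAt_subalgebra hres hdim
  obtain ⟨S', hfg, r, hr, hbij⟩ :=
    Algebra.QuasiFiniteAt.exists_fg_and_exists_notMem_and_awayMap_bijective (R := R) q₀
  have hsurj := Localization.awayMap_surjective_iff.mp hbij.2
  have hru : IsUnit ((r : S₀) : S) := by
    have : algebraMap S₀ S r ∉ maximalIdeal S := hr
    simpa [IsLocalRing.mem_maximalIdeal] using this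
  refine ⟨S'.map S₀.val, ?_, isLocalization_atPrime_of_forall_exists _ ?_⟩
  · rw [Subalgebra.map_toSubmodule]
    exact hfg.map _
  · have hrT : ((r : S₀) : S) ∈ S'.map S₀.val := ⟨r, r.2, rfl⟩
    have key : ∀ a : S₀, ∃ N : ℕ, ((r : S₀) : S) ^ N * (a : S) ∈ S'.map S₀.val := by
      intro a
      obtain ⟨b, m, hb⟩ := hsurj a
      refine ⟨m, ⟨b, b.2, ?_⟩⟩
      have := congrArg (fun x : S₀ => (x : S)) hb
      simpa using this
    intro z
    obtain ⟨t, ht, htu, hzt⟩ : ∃ t ∈ S₀, IsUnit t ∧ z * t ∈ S₀ := by
      obtain ⟨⟨x, ⟨t, ht⟩⟩, h⟩ := IsLocalization.surj (Algebra.EssFiniteType.submonoid R S) z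
      exact ⟨t, t.2, ht, by rw [show z * (t : S) = x from h]; exact x.2⟩
    obtain ⟨N, hN⟩ := key ⟨z * t, hzt⟩
    obtain ⟨M, hM⟩ := key ⟨t, ht⟩
    refine ⟨((r : S₀) : S) ^ N * (((r : S₀) : S) ^ M * t), ?_, ?_, ?_⟩
    · exact mul_mem (pow_mem hrT _) hM
    · exact (hru.pow _).mul ((hru.pow _).mul htu)
    · have : z * (((r : S₀) : S) ^ N * (((r : S₀) : S) ^ M * t)) =
          ((r : S₀) : S) ^ M * (((r : S₀) : S) ^ N * (z * t)) := by ring
      rw [this]
      exact mul_mem (pow_mem hrT _) hN

end
end Groth.Agent.Lib.Helper14.ZMTLoc
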