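import Mathlib
import Groth.Agent.Lib.Helper14ZMTLoc
import Groth.Agent.S3433

namespace Groth.Agent.Lib.Helper14.ZMTLoc

open IsLocalRing

universe u

theorem le_zero_of_add_one_le_one {x : WithBot ℕ∞} (h : x + 1 ≤ 1) : x ≤ 0 := by
  induction x using WithBot.recBotCoe with
  | bot => exact bot_le
  | coe n =>
    have h' : ((n + 1 : ℕ∞) : WithBot ℕ∞) ≤ ((1 : ℕ∞) : WithBot ℕ∞) := by exact_mod_cast h
    rw [WithBot.coe_le_coe] at h'
    have : n ≤ 0 :=
      (ENat.add_le_add_iff_right (k := 1) (n := n) (m := 0) (by simp)).mp (by simpa using h')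
    exact_mod_cast this

section
variable {A B : Type u} [CommRing A] [CommRing B] [IsLocalRing A] [IsLocalRing B]
  [Algebra A B] [IsLocalHom (algebraMap A B)] [Algebra.EssFiniteType A B]

/-- A one-dimensional quotient domain `B/q` of a local `A`-algebra essentially of finite type (with
finite residue extension) on which some element of `m_A` is nonzero is quasi-finite over `A`. -/
theorem quasiFinite_quotient_of_ringKrullDim_eq_one
    [Module.Finite (ResidueField A) (ResidueField B)]
    (q : Ideal B) [q.IsPrime] (hdim : ringKrullDim (B ⧸ q) = 1)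
    (a : A) (ha : a ∈ maximalIdeal A) (haq : algebraMap A B a ∉ q) :
    Algebra.QuasiFinite A (B ⧸ q) := by
  haveI : IsLocalRing (B ⧸ q) :=
    IsLocalRing.of_surjective' (Ideal.Quotient.mk q) Ideal.Quotient.mk_surjective
  haveI hloc1 : IsLocalHom (Ideal.Quotient.mk q) :=
    IsLocalHom.of_surjective _ Ideal.Quotient.mk_surjective
  haveI hloc : IsLocalHom (algebraMap A (B ⧸ q)) := by
    have : algebraMap A (B ⧸ q) = (Ideal.Quotient.mk q).comp (algebraMap A B) := rfl
    rw [this]
    infer_instance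
  haveI hloc2 : IsLocalHom (Ideal.Quotient.mkₐ A q) := ⟨fun x hx => hloc1.map_nonunit x hx⟩
  have hres : Module.Finite (ResidueField A) (ResidueField (B ⧸ q)) := by
    refine Module.Finite.of_surjective
      (ResidueField.mapAlgHom' (Ideal.Quotient.mkₐ A q)).toLinearMap ?_
    intro x
    obtain ⟨x, rfl⟩ := IsLocalRing.residue_surjective x
    obtain ⟨x, rfl⟩ := Ideal.Quotient.mk_surjective x
    exact ⟨IsLocalRing.residue B x, rfl⟩
  set J := (maximalIdeal A).map (algebraMap A (B ⧸ q)) with hJ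
  have hdim0 : ringKrullDim ((B ⧸ q) ⧸ J) = 0 := by
    have hJlt : J < ⊤ := IsLocalRing.map_maximalIdeal_lt_top _
    haveI : Nontrivial ((B ⧸ q) ⧸ J) := Ideal.Quotient.nontrivial_iff.mpr hJlt.ne
    refine le_antisymm ?_ ringKrullDim_nonneg_of_nontrivial
    have hane : algebraMap A (B ⧸ q) a ≠ 0 := by
      intro h
      exact haq (Ideal.Quotient.eq_zero_iff_mem.mp h)
    have h1 := ringKrullDim_succ_le_of_surjective (Ideal.Quotient.mk J)
      Ideal.Quotient.mk_surjective (mem_nonZeroDivisors_of_ne_zero hane)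
      (Ideal.Quotient.eq_zero_iff_mem.mpr (Ideal.mem_map_of_mem _ ha))
    rw [hdim] at h1
    exact le_zero_of_add_one_le_one h1
  obtain ⟨T, hfg, hT⟩ := exists_subalgebra_fg_isLocalization hres hdim0
  haveI : Module.Finite A T := ⟨(Submodule.fg_top _).mpr hfg⟩
  exact Algebra.QuasiFinite.of_isLocalization
    ((maximalIdeal (B ⧸ q)).comap (algebraMap T (B ⧸ q))).primeCompl

theorem exists_quasiFinite_quotient [IsNoetherianRing A]
    [Module.Finite (ResidueField A) (ResidueField B)]
    (V : Set (PrimeSpectrum B)) (hV : IsOpen V)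
    (hne : ∃ q ∈ V, q.asIdeal.comap (algebraMap A B) ≠ maximalIdeal A) :
    ∃ q ∈ V, q.asIdeal.comap (algebraMap A B) ≠ maximalIdeal A ∧
      Algebra.QuasiFinite A (B ⧸ q.asIdeal) := by
  haveI : IsNoetherianRing B := Algebra.EssFiniteType.isNoetherianRing A B
  obtain ⟨q₁, hq₁V, hq₁⟩ := hne
  have hle : q₁.asIdeal.comap (algebraMap A B) ≤ maximalIdeal A :=
    IsLocalRing.le_maximalIdeal (Ideal.IsPrime.ne_top inferInstance)
  obtain ⟨a, ha, haq⟩ : ∃ a ∈ maximalIdeal A, algebraMap A B a ∉ q₁.asIdeal := by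
    by_contra h
    push Not at h
    exact hq₁ (le_antisymm hle (fun a ha => h a ha))
  obtain ⟨hJ, hcl⟩ := Groth.Agent.S3433.result B
  have haB : algebraMap A B a ∈ maximalIdeal B :=
    map_maximalIdeal_le (R := A) (S := B) (Ideal.mem_map_of_mem _ ha)
  let W : Set ↥({IsLocalRing.closedPoint B}ᶜ : Set (PrimeSpectrum B)) :=
    Subtype.val ⁻¹' (V ∩ (PrimeSpectrum.basicOpen (algebraMap A B a) : Set (PrimeSpectrum B)))
  have hWo : IsOpen W :=
    (hV.inter (PrimeSpectrum.basicOpen _).isOpen).preimage continuous_subtype_val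
  have hq₁Y : q₁ ∈ ({IsLocalRing.closedPoint B}ᶜ : Set (PrimeSpectrum B)) := by
    intro h
    rw [Set.mem_singleton_iff] at h
    apply haq
    rw [h]
    exact haB
  have hWne : W.Nonempty := ⟨⟨q₁, hq₁Y⟩, hq₁V, haq⟩
  obtain ⟨y, hyW, hycl⟩ := nonempty_inter_closedPoints hWne hWo.isLocallyClosed
  have hdim := (hcl y).mp hycl
  refine ⟨y.1, hyW.1, ?_, ?_⟩
  · intro h
    apply hyW.2
    have : a ∈ y.1.asIdeal.comap (algebraMap A B) := h ▸ ha
    exact this
  · exact quasiFinite_quotient_of_ringKrullDim_eq_one y.1.asIdeal hdim a ha hyW.2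

end
end Groth.Agent.Lib.Helper14.ZMTLoc
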