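import Mathlib
import Groth.Prelude.Def_AssocGrMod

/-!
Successive approximation for filtered modules over an adically precomplete ring: if the initial
forms of a family generate (the relevant part of) the associated graded module, the family generates.
-/

set_option autoImplicit false
universe u

open Polynomial

namespace Groth.Agent.Lib.Helper15AdicGr

open AssocGr

variable {A : Type u} [CommRing A] {I : Ideal A} {M : Type u} [AddCommGroup M] [Module A M]
  (F : I.Filtration M)

theorem coeff_smul_monomM (f : ↥(FiltBl.IdealFiltration.adic I).rees) (m : ℕ) (x : F.N m) (n : ℕ) :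
    ReesM.coeff F (f • monomM F m x) n =
      if m ≤ n then (f : A[X]).coeff (n - m) • (x : M) else 0 := by
  rw [ReesM.coeff_smul]
  simp only [ReesM.coeff_monomM]
  split_ifs with h
  · rw [Finset.sum_eq_single (n - m, m)]
    · simp
    · rintro ⟨p, q⟩ hp hne
      rw [Finset.HasAntidiagonal.mem_antidiagonal] at hp
      simp only at hp
      have : m ≠ q := by
        rintro rfl
        apply hne
        ext
        · simp only; omega
        · rfl
      simp [this]
    · intro h'
      exfalso
      apply h'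
      rw [Finset.HasAntidiagonal.mem_antidiagonal]
      simp only
      omega
  · refine Finset.sum_eq_zero ?_
    rintro ⟨p, q⟩ hp
    rw [Finset.HasAntidiagonal.mem_antidiagonal] at hp
    simp only at hp
    have : m ≠ q := by rintro rfl; omega
    simp [this]

theorem coeff_mem_pow (f : ↥(FiltBl.IdealFiltration.adic I).rees) (n : ℕ) :
    (f : A[X]).coeff n ∈ I ^ n := f.2 n

/-- one approximation step -/
theorem piece {ι : Type*} [Fintype ι] (d : ι → ℕ) (x : (i : ι) → ↥(F.N (d i)))
    (n : ℕ) (y : M) (hy : y ∈ F.N n)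
    (hmem : (inDegM F n ⟨y, hy⟩ : GrMod F) ∈
      Submodule.span (GrRing (FiltBl.IdealFiltration.adic I))
        (Set.range fun i => (inDegM F (d i) (x i) : GrMod F))) :
    ∃ a : ι → A, (∀ i, a i ∈ I ^ (n - d i)) ∧ y - ∑ i, a i • (x i : M) ∈ F.N (n + 1) := by
  classical
  obtain ⟨c, hc⟩ := (Submodule.mem_span_range_iff_exists_fun _).mp hmem
  choose f hf using fun i => mkG_surjective (FiltBl.IdealFiltration.adic I) (c i)
  have h1 : mkGM F (monomM F n ⟨y, hy⟩ - ∑ i, f i • monomM F (d i) (x i)) = 0 := by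
    rw [map_sub, map_sum, sub_eq_zero, ← coe_inDegM, ← hc]
    refine Finset.sum_congr rfl fun i _ => ?_
    rw [← hf i, coe_inDegM, mkG_smul_mkGM]
  rw [mkGM_eq_zero_iff, mem_succMod_iff] at h1
  have h2 := h1 n
  rw [← ReesM.coeffHom_apply, map_sub, map_sum] at h2
  simp only [ReesM.coeffHom_apply, coeff_smul_monomM, ReesM.coeff_monomM, if_true] at h2
  refine ⟨fun i => if d i ≤ n then ((f i : ↥(FiltBl.IdealFiltration.adic I).rees) : A[X]).coeff (n - d i)
    else 0, ?_, ?_⟩
  · intro i
    dsimp only
    split_ifs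
    · exact coeff_mem_pow (f i) _
    · exact Ideal.zero_mem _
  · have h3 : ∑ i, (if d i ≤ n then
          ((f i : ↥(FiltBl.IdealFiltration.adic I).rees) : A[X]).coeff (n - d i) else 0) • (x i : M) =
        ∑ i, if d i ≤ n then
          ((f i : ↥(FiltBl.IdealFiltration.adic I).rees) : A[X]).coeff (n - d i) • (x i : M) else 0 :=
      Finset.sum_congr rfl fun i _ => by split_ifs <;> simp
    dsimp only
    rw [h3]
    exact h2

/-- successive approximation inside a submodule `P` -/
theorem core [IsPrecomplete I A] (hsep : ⨅ n, F.N n = ⊥) (P : Submodule A M)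
    {ι : Type*} [Fintype ι] (d : ι → ℕ) (x : (i : ι) → ↥(F.N (d i)))
    (hxP : ∀ i, (x i : M) ∈ P)
    (hgen : ∀ (n : ℕ) (y : M) (hy : y ∈ F.N n), y ∈ P →
      (inDegM F n ⟨y, hy⟩ : GrMod F) ∈
        Submodule.span (GrRing (FiltBl.IdealFiltration.adic I))
          (Set.range fun i => (inDegM F (d i) (x i) : GrMod F)))
    (h0 : F.N 0 = ⊤) :
    P ≤ Submodule.span A (Set.range fun i => ((x i : ↥(F.N (d i))) : M)) := by
  classical
  intro y0 hy0
  have hpiece : ∀ n, ∀ y : M, (y ∈ F.N n ∧ y ∈ P) →
      ∃ a : ι → A, (∀ i, a i ∈ I ^ (n - d i)) ∧ y - ∑ i, a i • (x i : M) ∈ F.N (n + 1) := by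
    rintro n y ⟨hy, hyP⟩
    exact piece F d x n y hy (hgen n y hy hyP)
  choose! α hα hαy using hpiece
  let D : ℕ := Finset.univ.sup d
  have hD : ∀ i, d i ≤ D := fun i => Finset.le_sup (Finset.mem_univ i)
  let r : ℕ → M := fun n => Nat.rec y0 (fun n rn => rn - ∑ i, α n rn i • (x i : M)) n
  have hr0 : r 0 = y0 := rfl
  have hrs : ∀ n, r (n + 1) = r n - ∑ i, α n (r n) i • (x i : M) := fun n => rfl
  have hrmem : ∀ n, r n ∈ F.N n ∧ r n ∈ P := by
    intro n
    induction n with
    | zero => rw [hr0, h0]; exact ⟨trivial, hy0⟩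
    | succ n ih =>
      rw [hrs]
      refine ⟨hαy n (r n) ih, P.sub_mem ih.2 ?_⟩
      exact P.sum_mem fun i _ => P.smul_mem _ (hxP i)
  let a : ℕ → ι → A := fun n i => α n (r n) i
  have hamem : ∀ n i, a n i ∈ I ^ (n - d i) := fun n i => hα n (r n) (hrmem n) i
  let S : ι → ℕ → A := fun i n => ∑ t ∈ Finset.range n, a t i
  have hS : ∀ n, y0 - ∑ i, S i n • (x i : M) = r n := by
    intro n
    induction n with
    | zero => simp [S, hr0]
    | succ n ih =>
      have h1 : ∀ i, S i (n + 1) = S i n + a n i := fun i => Finset.sum_range_succ _ _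
      have h2 : ∑ i, S i (n + 1) • (x i : M) =
          ∑ i, S i n • (x i : M) + ∑ i, a n i • (x i : M) := by
        simp only [h1, add_smul, Finset.sum_add_distrib]
      rw [h2, hrs, ← sub_sub, ih]
  let g : ι → ℕ → A := fun i m => S i (m + D)
  have hgdiff : ∀ i m n, m ≤ n → g i n - g i m ∈ I ^ m := by
    intro i m n hmn
    have : g i n - g i m = ∑ t ∈ Finset.Ico (m + D) (n + D), a t i :=
      (Finset.sum_Ico_eq_sub _ (by omega)).symm
    rw [this]
    refine Ideal.sum_mem _ fun t ht => ?_
    have ht' := (Finset.mem_Ico.mp ht).1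
    have := hD i
    exact Ideal.pow_le_pow_right (by omega) (hamem t i)
  have hcau : ∀ i, ∀ {m n}, m ≤ n → g i m ≡ g i n [SMOD (I ^ m • ⊤ : Submodule A A)] := by
    intro i m n hmn
    rw [SModEq.comm, SModEq.sub_mem, smul_eq_mul, Ideal.mul_top]
    exact hgdiff i m n hmn
  choose L hL using fun i => IsPrecomplete.prec' (I := I) (g i) (hcau i)
  have hL' : ∀ i n, g i n - L i ∈ I ^ n := by
    intro i n
    have := hL i n
    rwa [SModEq.sub_mem, smul_eq_mul, Ideal.mul_top] at this
  have hz : y0 - ∑ i, L i • (x i : M) = 0 := by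
    have : y0 - ∑ i, L i • (x i : M) ∈ ⨅ n, F.N n := by
      rw [Submodule.mem_iInf]
      intro m
      have h1 : y0 - ∑ i, L i • (x i : M) =
          r (m + D) + ∑ i, (g i m - L i) • (x i : M) := by
        rw [← hS (m + D)]
        simp only [sub_smul, Finset.sum_sub_distrib]
        abel
      rw [h1]
      refine (F.N m).add_mem (F.antitone (by omega) (hrmem (m + D)).1) ?_
      refine (F.N m).sum_mem fun i _ => ?_
      have h2 : (g i m - L i) • (x i : M) ∈ I ^ m • F.N (d i) :=
        Submodule.smul_mem_smul (hL' i m) (x i).2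
      exact F.antitone (by omega) (F.pow_smul_le m (d i) h2)
    rw [hsep] at this
    exact (Submodule.mem_bot A).mp this
  rw [sub_eq_zero] at hz
  rw [hz]
  exact Submodule.sum_mem _ fun i _ =>
    Submodule.smul_mem _ _ (Submodule.subset_span ⟨i, rfl⟩)

end Groth.Agent.Lib.Helper15AdicGr
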