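-- helper15: algebraic heart of descent for affine morphisms (split fork + flat base change).
import Mathlib

set_option autoImplicit false
open CategoryTheory CategoryTheory.Limits TensorProduct

universe u

namespace Groth.Agent.Lib.Helper15AffDescAlg

/-- For a pushout square in `CommRingCat` whose two legs are algebra maps, the canonical map from
the tensor product is a ring isomorphism. -/
lemma exists_ringEquiv_of_isPushout (R A B : Type u) [CommRing R] [CommRing A] [CommRing B]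
    [Algebra R A] [Algebra R B] {X : CommRingCat.{u}} {a : CommRingCat.of A ⟶ X}
    {b : CommRingCat.of B ⟶ X}
    (H : IsPushout (CommRingCat.ofHom (algebraMap R A)) (CommRingCat.ofHom (algebraMap R B)) a b) :
    ∃ κ : A ⊗[R] B ≃+* X, ∀ x y, κ (x ⊗ₜ y) = a x * b y := by
  let e := ((CommRingCat.isPushout_tensorProduct R A B).isoIsPushout _ _ H)
  refine ⟨e.commRingCatIsoToRingEquiv, fun x y => ?_⟩
  have h1 : e.hom (x ⊗ₜ 1) = a x :=
    congr($((CommRingCat.isPushout_tensorProduct R A B).inl_isoIsPushout_hom _ _ H).hom x)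
  have h2 : e.hom (1 ⊗ₜ y) = b y :=
    congr($((CommRingCat.isPushout_tensorProduct R A B).inr_isoIsPushout_hom _ _ H).hom y)
  have : (x ⊗ₜ[R] y : A ⊗[R] B) = (x ⊗ₜ 1) * (1 ⊗ₜ y) := by simp
  change e.hom (x ⊗ₜ y) = _
  rw [this, map_mul, h1, h2]

/-- The algebraic heart of descent for affine morphisms: a split fork plus flat base change. -/
theorem isPushout_of_fork {A B C C0 G Q R : CommRingCat.{u}} (f : A ⟶ B) (g : B ⟶ C)
    (j : A ⟶ C0) (ι : C0 ⟶ C) (hjι : j ≫ ι = f ≫ g)
    (d₁ d₂ : C ⟶ G) (hd : (f ≫ g) ≫ d₁ = (f ≫ g) ≫ d₂)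
    (hι_inj : Function.Injective ι) (hι_range : ∀ c, d₁ c = d₂ c ↔ ∃ c0, ι c0 = c)
    (iB : B ⟶ Q) (iC : C ⟶ Q) (hQ : IsPushout f (f ≫ g) iB iC)
    (jB : B ⟶ R) (jG : G ⟶ R) (hR : IsPushout f ((f ≫ g) ≫ d₁) jB jG)
    (ρ : C ⟶ Q) (σ : Q ⟶ C) (hρσ : ρ ≫ σ = 𝟙 C)
    (α β : Q ⟶ R) (hαB : iB ≫ α = jB) (hαC : iC ≫ α = d₁ ≫ jG)
    (hβB : iB ≫ β = jB) (hβC : iC ≫ β = d₂ ≫ jG)
    (hfork : ρ ≫ α = ρ ≫ β) (hρB : g ≫ ρ = iB) (hρ0 : ∀ c, d₁ c = d₂ c → ρ c = iC c)
    (hflat : f.hom.Flat) :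
    IsPushout f j g ι := by
  let : Algebra A B := f.hom.toAlgebra
  let : Algebra B C := g.hom.toAlgebra
  let : Algebra A C := (f ≫ g).hom.toAlgebra
  let : Algebra A C0 := j.hom.toAlgebra
  let : Algebra A G := ((f ≫ g) ≫ d₁).hom.toAlgebra
  have : Module.Flat A B := hflat
  let ιa : C0 →ₐ[A] C := { ι.hom with commutes' := fun r => congr($hjι r) }
  let d₁a : C →ₐ[A] G := { d₁.hom with commutes' := fun r => rfl }
  let d₂a : C →ₐ[A] G := { d₂.hom with commutes' := fun r => (congr($hd r)).symm }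
  let ga : B →ₐ[A] C := { g.hom with commutes' := fun r => rfl }
  let m : B ⊗[A] C0 →ₐ[A] C := Algebra.TensorProduct.productMap ga ιa
  obtain ⟨κ₁, hκ₁⟩ := exists_ringEquiv_of_isPushout A B C (X := Q) (a := iB) (b := iC) hQ
  obtain ⟨κ₂, hκ₂⟩ := exists_ringEquiv_of_isPushout A B G (X := R) (a := jB) (b := jG) hR
  let δ : C →ₗ[A] G := d₁a.toLinearMap - d₂a.toLinearMap
  have hexact : Function.Exact ιa.toLinearMap δ := by
    intro c
    change d₁ c - d₂ c = 0 ↔ c ∈ Set.range ι
    rw [sub_eq_zero, hι_range c]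
    rfl
  have hF1 : Function.Injective (ιa.toLinearMap.lTensor B) :=
    Module.Flat.lTensor_preserves_injective_linearMap _ hι_inj
  have hF2 := Module.Flat.lTensor_exact B hexact
  have K1 : ∀ y : B ⊗[A] C, α (κ₁ y) = κ₂ (d₁a.toLinearMap.lTensor B y) := by
    intro y
    induction y using TensorProduct.induction_on with
    | zero => simp
    | tmul b c =>
      rw [hκ₁, map_mul, LinearMap.lTensor_tmul, hκ₂]
      have e1 : α (iB b) = jB b := congr($hαB b)
      have e2 : α (iC c) = jG (d₁ c) := congr($hαC c)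
      rw [e1, e2]; rfl
    | add x y hx hy => simp only [map_add, hx, hy]
  have K1' : ∀ y : B ⊗[A] C, β (κ₁ y) = κ₂ (d₂a.toLinearMap.lTensor B y) := by
    intro y
    induction y using TensorProduct.induction_on with
    | zero => simp
    | tmul b c =>
      rw [hκ₁, map_mul, LinearMap.lTensor_tmul, hκ₂]
      have e1 : β (iB b) = jB b := congr($hβB b)
      have e2 : β (iC c) = jG (d₂ c) := congr($hβC c)
      rw [e1, e2]; rfl
    | add x y hx hy => simp only [map_add, hx, hy]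
  have K2 : ∀ z : B ⊗[A] C0, ρ (m z) = κ₁ (ιa.toLinearMap.lTensor B z) := by
    intro z
    induction z using TensorProduct.induction_on with
    | zero => simp
    | tmul b c0 =>
      rw [LinearMap.lTensor_tmul, hκ₁]
      change ρ (g b * ι c0) = _
      rw [map_mul]
      have e1 : ρ (g b) = iB b := congr($hρB b)
      have e2 : ρ (ι c0) = iC (ι c0) := hρ0 _ ((hι_range _).2 ⟨c0, rfl⟩)
      rw [e1, e2]; rfl
    | add x y hx hy => simp only [map_add, hx, hy]
  have hσ : ∀ c, σ (ρ c) = c := fun c => congr($hρσ c)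
  have hbij : Function.Bijective m := by
    constructor
    · intro z z' hz
      apply hF1
      apply κ₁.injective
      rw [← K2, ← K2, hz]
    · intro c
      have h0 : δ.lTensor B (κ₁.symm (ρ c)) = 0 := by
        have : δ.lTensor B = d₁a.toLinearMap.lTensor B - d₂a.toLinearMap.lTensor B :=
          LinearMap.lTensor_sub _ _
        rw [this, LinearMap.sub_apply, sub_eq_zero]
        apply κ₂.injective
        rw [← K1, ← K1', RingEquiv.apply_symm_apply]
        exact congr($hfork c)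
      obtain ⟨z, hz⟩ := (hF2 _).1 h0
      refine ⟨z, ?_⟩
      rw [← hσ (m z), K2, hz, RingEquiv.apply_symm_apply, hσ]
  let e : CommRingCat.of (B ⊗[A] C0) ≅ C :=
    (RingEquiv.ofBijective m.toRingHom hbij).toCommRingCatIso
  refine (CommRingCat.isPushout_tensorProduct A B C0).of_iso (Iso.refl _) (Iso.refl _) (Iso.refl _) e
    ?_ ?_ ?_ ?_
  · simp; rfl
  · simp; rfl
  · ext b
    change m (b ⊗ₜ 1) = g b
    simp [m, ga]
  · ext c0
    change m (1 ⊗ₜ c0) = ι c0
    simp [m, ιa]

end Groth.Agent.Lib.Helper15AffDescAlg
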