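-- helper15: effectivity of descent data for affine schemes along a flat morphism of affine schemes (Desc.SchDD form).
import Mathlib
import Groth.Prelude.Def_Desc
import Groth.Agent.Lib.Helper15AffDescAlg

set_option autoImplicit false
open CategoryTheory CategoryTheory.Limits AlgebraicGeometry

universe u

namespace Groth.Agent.Lib.Helper15AffDescCore

open Desc

variable {X S : Scheme.{u}} {p : X ⟶ S} (D : Desc.SchDD p)

/-- The gluing bijections only depend on the points. -/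
lemma φ_congr {T : Scheme.{u}} {x₀ x₀' x₁ x₁' : T ⟶ X} (e₀ : x₀ = x₀') (e₁ : x₁ = x₁')
    (h : x₀ ≫ p = x₁ ≫ p) (h' : x₀' ≫ p = x₁' ≫ p) (v : Lifts D.obj x₀) (v' : Lifts D.obj x₀')
    (hv : v.1 = v'.1) : (D.φ x₀ x₁ h v).1 = (D.φ x₀' x₁' h' v').1 := by
  subst e₀ e₁
  have : v = v' := Subtype.ext hv
  subst this
  rfl

/-- Transport of a point `v` of the scheme of the descent datum to a point over `x₁`. -/
noncomputable def tr {T : Scheme.{u}} (x₁ : T ⟶ X) (v : T ⟶ D.obj.left)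
    (h : (v ≫ D.obj.hom) ≫ p = x₁ ≫ p) : T ⟶ D.obj.left :=
  (D.φ (v ≫ D.obj.hom) x₁ h ⟨v, rfl⟩).1

lemma tr_hom {T : Scheme.{u}} (x₁ : T ⟶ X) (v : T ⟶ D.obj.left)
    (h : (v ≫ D.obj.hom) ≫ p = x₁ ≫ p) : tr D x₁ v h ≫ D.obj.hom = x₁ :=
  (D.φ (v ≫ D.obj.hom) x₁ h ⟨v, rfl⟩).2

lemma φ_eq_tr {T : Scheme.{u}} (x₀ x₁ : T ⟶ X) (h : x₀ ≫ p = x₁ ≫ p) (v : Lifts D.obj x₀) :
    (D.φ x₀ x₁ h v).1 = tr D x₁ v.1 (by rw [v.2]; exact h) := by
  obtain ⟨v, rfl⟩ := v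
  rfl

lemma tr_congr {T : Scheme.{u}} {x₁ x₁' : T ⟶ X} {v v' : T ⟶ D.obj.left} (e₁ : x₁ = x₁')
    (ev : v = v') (h : (v ≫ D.obj.hom) ≫ p = x₁ ≫ p) :
    tr D x₁ v h = tr D x₁' v' (by subst e₁ ev; exact h) := by
  subst e₁ ev; rfl

lemma comp_tr {T T' : Scheme.{u}} (g : T' ⟶ T) (x₁ : T ⟶ X) (v : T ⟶ D.obj.left)
    (h : (v ≫ D.obj.hom) ≫ p = x₁ ≫ p) :
    g ≫ tr D x₁ v h = tr D (g ≫ x₁) (g ≫ v) (by
      simp only [Category.assoc] at h ⊢; rw [h]) := by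
  have h' : (g ≫ v ≫ D.obj.hom) ≫ p = (g ≫ x₁) ≫ p := by
    simp only [Category.assoc] at h ⊢; rw [h]
  have := D.φ_natural g (v ≫ D.obj.hom) x₁ h h' ⟨v, rfl⟩ ⟨g ≫ v, by rw [Category.assoc]⟩ rfl
  unfold tr
  rw [← this]
  exact (φ_congr D (Category.assoc _ _ _) rfl _ _ _ _ rfl)

lemma tr_self {T : Scheme.{u}} (x₁ : T ⟶ X) (v : T ⟶ D.obj.left) (hx : x₁ = v ≫ D.obj.hom) :
    tr D x₁ v (by rw [hx]) = v := by
  subst hx
  exact congrArg Subtype.val (D.φ_self (v ≫ D.obj.hom) ⟨v, rfl⟩)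

lemma tr_tr {T : Scheme.{u}} (x₁ x₂ : T ⟶ X) (v : T ⟶ D.obj.left)
    (h : (v ≫ D.obj.hom) ≫ p = x₁ ≫ p) (h' : x₁ ≫ p = x₂ ≫ p) :
    tr D x₂ (tr D x₁ v h) (by rw [tr_hom]; exact h') = tr D x₂ v (h.trans h') := by
  have := D.φ_comp (v ≫ D.obj.hom) x₁ x₂ h h' ⟨v, rfl⟩
  unfold tr
  rw [← this]
  exact φ_congr D (tr_hom D x₁ v h) rfl _ _ _ _ rfl

/-- Criterion for effectivity: an invariant morphism to a scheme over `S` making the square cartesian. -/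
theorem nonempty_iso_of_invariant (U : Over S) (q : D.obj.left ⟶ U.left)
    (sq : IsPullback D.obj.hom q p U.hom)
    (hq : ∀ ⦃T : Scheme.{u}⦄ (x₁ : T ⟶ X) (v : T ⟶ D.obj.left) (h : (v ≫ D.obj.hom) ≫ p = x₁ ≫ p),
      tr D x₁ v h ≫ q = v ≫ q) :
    Nonempty ((Desc.toDD p).obj U ≅ D) := by
  let e := sq.isoPullback
  have e1 : e.hom ≫ pullback.fst p U.hom = D.obj.hom := sq.isoPullback_hom_fst
  have e2 : e.hom ≫ pullback.snd p U.hom = q := sq.isoPullback_hom_snd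
  have e3 : e.inv ≫ D.obj.hom = pullback.fst p U.hom := sq.isoPullback_inv_fst
  have e4 : e.inv ≫ q = pullback.snd p U.hom := sq.isoPullback_inv_snd
  let F : (Desc.toDD p).obj U ⟶ D :=
    ⟨Over.homMk e.inv e3, fun T x₀ x₁ h v w hw => by
      have key : ∀ (v₀ : T ⟶ pullback p U.hom) (hv₀ : v₀ ≫ pullback.fst p U.hom = x₀),
          w.1 = v₀ ≫ e.inv →
          (D.φ x₀ x₁ h w).1 = (canMap p U x₀ x₁ h ⟨v₀, hv₀⟩).1 ≫ e.inv := by
        intro v₀ hv₀ hw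
        apply sq.hom_ext
        · rw [(D.φ x₀ x₁ h w).2, Category.assoc, e3]
          exact (canMap p U x₀ x₁ h ⟨v₀, hv₀⟩).2.symm
        · rw [φ_eq_tr, hq, Category.assoc, e4, hw, Category.assoc, e4, canMap_val,
            pullback.lift_snd]
      exact key v.1 v.2 hw⟩
  let G : D ⟶ (Desc.toDD p).obj U :=
    ⟨Over.homMk e.hom e1, fun T x₀ x₁ h v w hw => by
      have key : ∀ (w₀ : T ⟶ pullback p U.hom) (hw₀ : w₀ ≫ pullback.fst p U.hom = x₀),
          w₀ = v.1 ≫ e.hom →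
          (canMap p U x₀ x₁ h ⟨w₀, hw₀⟩).1 = (D.φ x₀ x₁ h v).1 ≫ e.hom := by
        intro w₀ hw₀ hw
        apply pullback.hom_ext
        · rw [canMap_val, pullback.lift_fst, Category.assoc, e1]
          exact (D.φ x₀ x₁ h v).2.symm
        · rw [canMap_val, pullback.lift_snd, Category.assoc, e2, φ_eq_tr, hq]
          change w₀ ≫ pullback.snd p U.hom = _
          rw [hw, Category.assoc, e2]
      exact key w.1 w.2 hw⟩
  refine ⟨⟨F, G, ?_, ?_⟩⟩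
  · apply SchDD.hom_ext
    apply Over.OverMorphism.ext
    change e.inv ≫ e.hom = 𝟙 _
    simp
  · apply SchDD.hom_ext
    apply Over.OverMorphism.ext
    change e.hom ≫ e.inv = 𝟙 _
    simp

lemma tr_eq {T : Scheme.{u}} {x₁ x₁' : T ⟶ X} {v v' : T ⟶ D.obj.left} (e₁ : x₁ = x₁')
    (ev : v = v') (h : (v ≫ D.obj.hom) ≫ p = x₁ ≫ p) (h' : (v' ≫ D.obj.hom) ≫ p = x₁' ≫ p) :
    tr D x₁ v h = tr D x₁' v' h' := by
  subst e₁ ev; rfl

section Objects

/-- `V ×_S X` -/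
noncomputable abbrev W : Scheme.{u} := pullback (D.obj.hom ≫ p) p
noncomputable abbrev w₁ : W D ⟶ D.obj.left := pullback.fst (D.obj.hom ≫ p) p
noncomputable abbrev w₂ : W D ⟶ X := pullback.snd (D.obj.hom ≫ p) p

lemma w_cond : (w₁ D ≫ D.obj.hom) ≫ p = w₂ D ≫ p := by
  rw [Category.assoc]; exact pullback.condition

/-- the universal transport `V ×_S X ⟶ V` -/
noncomputable def ψ : W D ⟶ D.obj.left := tr D (w₂ D) (w₁ D) (w_cond D)

lemma ψ_hom : ψ D ≫ D.obj.hom = w₂ D := tr_hom D _ _ _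

/-- `X ×_S V` -/
noncomputable abbrev Y₁ : Scheme.{u} := pullback p (D.obj.hom ≫ p)
noncomputable abbrev y₁X : Y₁ D ⟶ X := pullback.fst p (D.obj.hom ≫ p)
noncomputable abbrev y₁V : Y₁ D ⟶ D.obj.left := pullback.snd p (D.obj.hom ≫ p)

lemma y₁_cond : (y₁V D ≫ D.obj.hom) ≫ p = y₁X D ≫ p := by
  rw [Category.assoc]; exact pullback.condition.symm

noncomputable def e : Y₁ D ⟶ D.obj.left := tr D (y₁X D) (y₁V D) (y₁_cond D)

lemma e_hom : e D ≫ D.obj.hom = y₁X D := tr_hom D _ _ _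

noncomputable def s : D.obj.left ⟶ Y₁ D := pullback.lift D.obj.hom (𝟙 _) (by simp)

lemma s_e : s D ≫ e D = 𝟙 _ := by
  rw [e, comp_tr]
  have h1 : s D ≫ y₁X D = D.obj.hom := pullback.lift_fst _ _ _
  have h2 : s D ≫ y₁V D = 𝟙 _ := pullback.lift_snd _ _ _
  rw [tr_eq D h1 h2 _ (by simp)]
  exact tr_self D D.obj.hom (𝟙 _) (by simp)

noncomputable def swap : Y₁ D ⟶ W D := pullback.lift (y₁V D) (y₁X D) pullback.condition.symm

lemma swap_ψ : swap D ≫ ψ D = e D := by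
  rw [ψ, comp_tr]
  exact tr_eq D (pullback.lift_snd _ _ _) (pullback.lift_fst _ _ _) _ _

lemma swap_w₁ : swap D ≫ w₁ D = y₁V D := pullback.lift_fst _ _ _

/-- `X ×_S W` -/
noncomputable abbrev Y₂ : Scheme.{u} := pullback p (w₁ D ≫ D.obj.hom ≫ p)
noncomputable abbrev y₂X : Y₂ D ⟶ X := pullback.fst p (w₁ D ≫ D.obj.hom ≫ p)
noncomputable abbrev y₂W : Y₂ D ⟶ W D := pullback.snd p (w₁ D ≫ D.obj.hom ≫ p)

noncomputable def a : Y₂ D ⟶ Y₁ D :=
  pullback.lift (y₂X D) (y₂W D ≫ w₁ D) (by rw [pullback.condition, Category.assoc])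

noncomputable def b : Y₂ D ⟶ Y₁ D :=
  pullback.lift (y₂X D) (y₂W D ≫ ψ D) (by
    rw [pullback.condition, Category.assoc, ← Category.assoc (ψ D), ψ_hom, ← w_cond, Category.assoc])

lemma a_X : a D ≫ y₁X D = y₂X D := pullback.lift_fst _ _ _
lemma a_V : a D ≫ y₁V D = y₂W D ≫ w₁ D := pullback.lift_snd _ _ _
lemma b_X : b D ≫ y₁X D = y₂X D := pullback.lift_fst _ _ _
lemma b_V : b D ≫ y₁V D = y₂W D ≫ ψ D := pullback.lift_snd _ _ _

lemma a_e : a D ≫ e D = b D ≫ e D := by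
  have hA : ((y₂W D ≫ w₁ D) ≫ D.obj.hom) ≫ p = y₂X D ≫ p := by
    rw [pullback.condition]; simp only [Category.assoc]
  have hB : ((y₂W D ≫ w₁ D) ≫ D.obj.hom) ≫ p = (y₂W D ≫ w₂ D) ≫ p := by
    simp only [Category.assoc]; rw [pullback.condition]
  have hC : (y₂W D ≫ w₂ D) ≫ p = y₂X D ≫ p := hB.symm.trans hA
  have e1 : a D ≫ e D = tr D (y₂X D) (y₂W D ≫ w₁ D) hA := by
    rw [e, comp_tr]
    exact tr_eq D (a_X D) (a_V D) _ _
  have e2 : y₂W D ≫ ψ D = tr D (y₂W D ≫ w₂ D) (y₂W D ≫ w₁ D) hB := by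
    rw [ψ, comp_tr]
  have e3 : b D ≫ e D = tr D (y₂X D) (tr D (y₂W D ≫ w₂ D) (y₂W D ≫ w₁ D) hB)
      (by rw [tr_hom]; exact hC) := by
    rw [e, comp_tr]
    exact tr_eq D (b_X D) ((b_V D).trans e2) _ _
  rw [e1, e3, tr_tr D _ _ _ hB hC]

end Objects

section Affine

/-- the ring of invariant functions -/
noncomputable def C0 : CommRingCat.{u} :=
  CommRingCat.of (RingHom.eqLocus (w₁ D).appTop.hom (ψ D).appTop.hom)

noncomputable def ι : C0 D ⟶ Γ(D.obj.left, ⊤) :=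
  CommRingCat.ofHom (RingHom.eqLocus (w₁ D).appTop.hom (ψ D).appTop.hom).subtype

lemma hd : (p.appTop ≫ D.obj.hom.appTop) ≫ (w₁ D).appTop =
    (p.appTop ≫ D.obj.hom.appTop) ≫ (ψ D).appTop := by
  simp only [← Scheme.Hom.comp_appTop]
  congr 1
  rw [← Category.assoc (ψ D), ψ_hom, ← w_cond, Category.assoc]

noncomputable def j : Γ(S, ⊤) ⟶ C0 D :=
  CommRingCat.ofHom (RingHom.codRestrict (p.appTop ≫ D.obj.hom.appTop).hom
    (RingHom.eqLocus (w₁ D).appTop.hom (ψ D).appTop.hom) (fun r => congr($(hd D) r)))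

lemma j_ι : j D ≫ ι D = p.appTop ≫ D.obj.hom.appTop := rfl

lemma ι_eq : ι D ≫ (w₁ D).appTop = ι D ≫ (ψ D).appTop := by
  ext x
  exact x.2

/-- the invariant morphism -/
noncomputable def q : D.obj.left ⟶ Spec (C0 D) := D.obj.left.toSpecΓ ≫ Spec.map (ι D)

lemma w₁_q : w₁ D ≫ q D = ψ D ≫ q D := by
  rw [q, Scheme.toSpecΓ_naturality_assoc, Scheme.toSpecΓ_naturality_assoc, ← Spec.map_comp,
    ← Spec.map_comp, ι_eq]

lemma tr_q {T : Scheme.{u}} (x₁ : T ⟶ X) (v : T ⟶ D.obj.left)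
    (h : (v ≫ D.obj.hom) ≫ p = x₁ ≫ p) : tr D x₁ v h ≫ q D = v ≫ q D := by
  let g : T ⟶ W D := pullback.lift v x₁ (by rw [← Category.assoc]; exact h)
  have h1 : g ≫ w₁ D = v := pullback.lift_fst _ _ _
  have h2 : g ≫ w₂ D = x₁ := pullback.lift_snd _ _ _
  have h3 : g ≫ ψ D = tr D x₁ v h := by
    rw [ψ, comp_tr]
    exact tr_eq D h2 h1 _ _
  rw [← h3, Category.assoc, ← w₁_q, ← Category.assoc, h1]

variable [IsAffine S]

/-- the descended scheme -/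
noncomputable def U : Over S := Over.mk (Spec.map (j D) ≫ S.isoSpec.inv)

lemma q_U : D.obj.hom ≫ p = q D ≫ (U D).hom := by
  change _ = (D.obj.left.toSpecΓ ≫ Spec.map (ι D)) ≫ Spec.map (j D) ≫ S.isoSpec.inv
  rw [Category.assoc, ← Spec.map_comp_assoc, j_ι, ← Scheme.Hom.comp_appTop,
    ← Scheme.toSpecΓ_naturality_assoc]
  simp

variable [IsAffine X] [IsAffine D.obj.left] [Flat p]

lemma isPushout_C0 : IsPushout p.appTop (j D) D.obj.hom.appTop (ι D) := by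
  have hQ : IsPushout p.appTop (p.appTop ≫ D.obj.hom.appTop) (y₁X D).appTop (y₁V D).appTop := by
    have := isPushout_appTop_of_isPullback (IsPullback.of_hasPullback p (D.obj.hom ≫ p))
    rwa [Scheme.Hom.comp_appTop] at this
  have hR : IsPushout p.appTop ((p.appTop ≫ D.obj.hom.appTop) ≫ (w₁ D).appTop)
      (y₂X D).appTop (y₂W D).appTop := by
    have := isPushout_appTop_of_isPullback
      (IsPullback.of_hasPullback p (w₁ D ≫ D.obj.hom ≫ p))
    rwa [Scheme.Hom.comp_appTop, Scheme.Hom.comp_appTop, ← Category.assoc] at this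
  refine Helper15AffDescAlg.isPushout_of_fork p.appTop D.obj.hom.appTop (j D) (ι D) (j_ι D)
    (w₁ D).appTop (ψ D).appTop (hd D) ?_ ?_ (y₁X D).appTop (y₁V D).appTop hQ
    (y₂X D).appTop (y₂W D).appTop hR (e D).appTop (s D).appTop ?_ (a D).appTop (b D).appTop
    ?_ ?_ ?_ ?_ ?_ ?_ ?_ (Scheme.Hom.flat_appTop p)
  · exact Subtype.val_injective
  · intro c
    constructor
    · intro hc
      exact ⟨⟨c, hc⟩, rfl⟩
    · rintro ⟨c0, rfl⟩
      exact c0.2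
  · rw [← Scheme.Hom.comp_appTop, s_e, Scheme.Hom.id_appTop]
  · rw [← Scheme.Hom.comp_appTop, a_X]
  · rw [← Scheme.Hom.comp_appTop, a_V, Scheme.Hom.comp_appTop]
  · rw [← Scheme.Hom.comp_appTop, b_X]
  · rw [← Scheme.Hom.comp_appTop, b_V, Scheme.Hom.comp_appTop]
  · rw [← Scheme.Hom.comp_appTop, ← Scheme.Hom.comp_appTop, a_e]
  · rw [← Scheme.Hom.comp_appTop, e_hom]
  · intro c hc
    rw [← swap_ψ, Scheme.Hom.comp_appTop, ← swap_w₁, Scheme.Hom.comp_appTop]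
    change (swap D).appTop ((ψ D).appTop c) = (swap D).appTop ((w₁ D).appTop c)
    rw [hc]

lemma isPullback_q : IsPullback D.obj.hom (q D) p (U D).hom := by
  have H := isPullback_SpecMap_of_isPushout _ _ _ _ (isPushout_C0 D)
  refine H.of_iso D.obj.left.isoSpec.symm X.isoSpec.symm (Iso.refl _) S.isoSpec.symm ?_ ?_ ?_ ?_
  · exact Scheme.isoSpec_inv_naturality _
  · change _ = D.obj.left.isoSpec.inv ≫ D.obj.left.toSpecΓ ≫ Spec.map (ι D)
    rw [← Category.assoc]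
    have : D.obj.left.isoSpec.inv ≫ D.obj.left.toSpecΓ = 𝟙 _ := D.obj.left.isoSpec.inv_hom_id
    rw [this, Category.id_comp]
    exact Category.comp_id _
  · exact Scheme.isoSpec_inv_naturality _
  · exact (Category.id_comp _).symm

/-- Descent data for affine schemes relative to a flat morphism of affine schemes are effective. -/
theorem exists_effective :
    ∃ U : Over S, IsAffine U.left ∧ Nonempty ((Desc.toDD p).obj U ≅ D) :=
  ⟨U D, by change IsAffine (Spec _); infer_instance,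
    nonempty_iso_of_invariant D (U D) (q D) (isPullback_q D) (fun _ x₁ v h => tr_q D x₁ v h)⟩

end Affine

end Groth.Agent.Lib.Helper15AffDescCore
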