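-- helper15: descent datum on a scheme over a cover attached to a sheaf over the base (for S9894).
import Mathlib
import Groth.Prelude.Def_AlgSp
import Groth.Prelude.Def_Desc

set_option autoImplicit false
open CategoryTheory CategoryTheory.Limits AlgebraicGeometry Opposite

universe u

namespace Groth.Agent.Lib.Helper15EffDescA

variable {S : Scheme.{u}} {T T' X' : Over S} (p : T' ⟶ T) (x' : X' ⟶ T') {E : AlgSp.Sp S}
  (e₂ : E ⟶ (AlgSp.yon S).obj T) (θ : (AlgSp.yon S).obj X' ⟶ E)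

/-- Two points of `X'` have the same component in the sheaf `E`. -/
def Rel {Z₀ : Scheme.{u}} (v v' : Z₀ ⟶ X'.left) : Prop :=
  ∀ (Z : Over S) (a a' : Z ⟶ X') (c : Z.left ⟶ Z₀), a.left = c ≫ v → a'.left = c ≫ v' →
    (AlgSp.yon S).map a ≫ θ = (AlgSp.yon S).map a' ≫ θ

variable {θ}

theorem rel_refl {Z₀ : Scheme.{u}} (v : Z₀ ⟶ X'.left) : Rel θ v v := by
  intro Z a a' c ha ha'
  have : a = a' := by
    apply Over.OverMorphism.ext
    rw [ha, ha']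
  rw [this]

theorem rel_symm {Z₀ : Scheme.{u}} {v v' : Z₀ ⟶ X'.left} (h : Rel θ v v') : Rel θ v' v :=
  fun Z a a' c ha ha' => (h Z a' a c ha' ha).symm

theorem rel_trans {Z₀ : Scheme.{u}} {v v' v'' : Z₀ ⟶ X'.left} (hv : v ≫ X'.hom = v' ≫ X'.hom)
    (h : Rel θ v v') (h' : Rel θ v' v'') : Rel θ v v'' := by
  intro Z a a'' c ha ha''
  have hw : (c ≫ v') ≫ X'.hom = Z.hom := by
    rw [Category.assoc, ← hv, ← Category.assoc, ← ha]
    exact Over.w a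
  exact (h Z a (Over.homMk (c ≫ v') hw) c ha rfl).trans
    (h' Z (Over.homMk (c ≫ v') hw) a'' c rfl ha'')

theorem rel_comp {Z₀ Z₁ : Scheme.{u}} (g : Z₁ ⟶ Z₀) {v v' : Z₀ ⟶ X'.left} (h : Rel θ v v') :
    Rel θ (g ≫ v) (g ≫ v') := by
  intro Z a a' c ha ha'
  exact h Z a a' (c ≫ g) (by rw [ha, Category.assoc]) (by rw [ha', Category.assoc])

theorem rel_of_single {Z₀ : Scheme.{u}} (v v' : Z₀ ⟶ X'.left) (hv : v' ≫ X'.hom = v ≫ X'.hom)
    (h : (AlgSp.yon S).map (Over.homMk v rfl : Over.mk (v ≫ X'.hom) ⟶ X') ≫ θ =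
      (AlgSp.yon S).map (Over.homMk v' hv : Over.mk (v ≫ X'.hom) ⟶ X') ≫ θ) : Rel θ v v' := by
  intro Z a a' c ha ha'
  have hk : c ≫ (Over.mk (v ≫ X'.hom)).hom = Z.hom := by
    change c ≫ v ≫ X'.hom = Z.hom
    rw [← Category.assoc, ← ha]
    exact Over.w a
  have e1 : a = Over.homMk c hk ≫ (Over.homMk v rfl : Over.mk (v ≫ X'.hom) ⟶ X') := by
    apply Over.OverMorphism.ext
    simp [ha]
  have e2 : a' = Over.homMk c hk ≫ (Over.homMk v' hv : Over.mk (v ≫ X'.hom) ⟶ X') := by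
    apply Over.OverMorphism.ext
    simp [ha']
  rw [e1, e2, Functor.map_comp, Functor.map_comp, Category.assoc, Category.assoc, h]

variable {p x' e₂}
variable (sqθ : IsPullback θ ((AlgSp.yon S).map x') e₂ ((AlgSp.yon S).map p))
include sqθ

theorem eq_of_rel {Z₀ : Scheme.{u}} {v' v'' : Z₀ ⟶ X'.left}
    (hx : v' ≫ x'.left = v'' ≫ x'.left) (h : Rel θ v' v'') : v' = v'' := by
  have hv : v'' ≫ X'.hom = v' ≫ X'.hom := by
    rw [← Over.w x', ← Category.assoc, ← Category.assoc, hx]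
  have h1 := h (Over.mk (v' ≫ X'.hom)) (Over.homMk v' rfl) (Over.homMk v'' hv) (𝟙 _)
    (by simp) (by simp)
  have h2 : (Over.homMk v' rfl : Over.mk (v' ≫ X'.hom) ⟶ X') ≫ x' =
      (Over.homMk v'' hv : Over.mk (v' ≫ X'.hom) ⟶ X') ≫ x' := by
    apply Over.OverMorphism.ext
    simpa using hx
  have h3 : (AlgSp.yon S).map (Over.homMk v' rfl : Over.mk (v' ≫ X'.hom) ⟶ X') =
      (AlgSp.yon S).map (Over.homMk v'' hv : Over.mk (v' ≫ X'.hom) ⟶ X') := by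
    apply sqθ.hom_ext h1
    rw [← Functor.map_comp, ← Functor.map_comp, h2]
  have h4 := (AlgSp.yon S).map_injective h3
  have h5 := congrArg CommaMorphism.left h4
  simpa using h5

theorem exists_rel {Z₀ : Scheme.{u}} {x₀ x₁ : Z₀ ⟶ T'.left} (h : x₀ ≫ p.left = x₁ ≫ p.left)
    (v : Z₀ ⟶ X'.left) (hv : v ≫ x'.left = x₀) :
    ∃ v' : Z₀ ⟶ X'.left, v' ≫ x'.left = x₁ ∧ Rel θ v v' := by
  have hx₁ : x₁ ≫ T'.hom = v ≫ X'.hom := by
    rw [← Over.w x', ← Category.assoc, hv, ← Over.w p, ← Category.assoc, ← Category.assoc, h]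
  let Z : Over S := Over.mk (v ≫ X'.hom)
  let vt : Z ⟶ X' := Over.homMk v rfl
  let xt : Z ⟶ T' := Over.homMk x₁ hx₁
  have hcomp : vt ≫ x' ≫ p = xt ≫ p := by
    apply Over.OverMorphism.ext
    simp only [Over.comp_left, vt, xt, Over.homMk_left]
    rw [← Category.assoc, hv, h]
  have cond : ((AlgSp.yon S).map vt ≫ θ) ≫ e₂ = (AlgSp.yon S).map xt ≫ (AlgSp.yon S).map p := by
    rw [Category.assoc, sqθ.w, ← Functor.map_comp, ← Functor.map_comp, ← Functor.map_comp, hcomp]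
  obtain ⟨b, hb⟩ := (AlgSp.yon S).map_surjective (sqθ.lift _ _ cond)
  have hb1 : (AlgSp.yon S).map b ≫ θ = (AlgSp.yon S).map vt ≫ θ := by
    rw [hb, sqθ.lift_fst]
  have hb2 : b ≫ x' = xt := by
    apply (AlgSp.yon S).map_injective
    rw [Functor.map_comp, hb, sqθ.lift_snd]
  refine ⟨b.left, ?_, ?_⟩
  · have := congrArg CommaMorphism.left hb2
    simpa [xt] using this
  · have hbv : b.left ≫ X'.hom = v ≫ X'.hom := Over.w b
    refine rel_of_single v b.left hbv ?_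
    have : (Over.homMk b.left hbv : Over.mk (v ≫ X'.hom) ⟶ X') = b := by
      apply Over.OverMorphism.ext
      simp
    rw [this, hb1]

/-- The transport of points between fibres. -/
noncomputable def phiFun {Z₀ : Scheme.{u}} (x₀ x₁ : Z₀ ⟶ T'.left) (h : x₀ ≫ p.left = x₁ ≫ p.left)
    (v : Desc.Lifts (Over.mk x'.left) x₀) : Desc.Lifts (Over.mk x'.left) x₁ :=
  ⟨Classical.choose (exists_rel sqθ h v.1 v.2), (Classical.choose_spec (exists_rel sqθ h v.1 v.2)).1⟩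

theorem phiFun_spec {Z₀ : Scheme.{u}} (x₀ x₁ : Z₀ ⟶ T'.left) (h : x₀ ≫ p.left = x₁ ≫ p.left)
    (v : Desc.Lifts (Over.mk x'.left) x₀) : Rel θ v.1 (phiFun sqθ x₀ x₁ h v).1 :=
  (Classical.choose_spec (exists_rel sqθ h v.1 v.2)).2

omit sqθ in
theorem lifts_hom_eq {Z₀ : Scheme.{u}} {x₀ x₁ : Z₀ ⟶ T'.left} (h : x₀ ≫ p.left = x₁ ≫ p.left)
    (v : Desc.Lifts (Over.mk x'.left) x₀) (v' : Desc.Lifts (Over.mk x'.left) x₁) :
    v.1 ≫ X'.hom = v'.1 ≫ X'.hom := by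
  have e0 : v.1 ≫ x'.left = x₀ := v.2
  have e1 : v'.1 ≫ x'.left = x₁ := v'.2
  rw [← Over.w x', ← Category.assoc, ← Category.assoc, e0, e1, ← Over.w p, ← Category.assoc,
    ← Category.assoc, h]

theorem phiFun_unique {Z₀ : Scheme.{u}} (x₀ x₁ : Z₀ ⟶ T'.left) (h : x₀ ≫ p.left = x₁ ≫ p.left)
    (v : Desc.Lifts (Over.mk x'.left) x₀) (v' : Desc.Lifts (Over.mk x'.left) x₁)
    (hr : Rel θ v.1 v'.1) : phiFun sqθ x₀ x₁ h v = v' := by
  apply Subtype.ext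
  refine eq_of_rel sqθ ?_ ?_
  · exact (phiFun sqθ x₀ x₁ h v).2.trans v'.2.symm
  · exact rel_trans (lifts_hom_eq h v (phiFun sqθ x₀ x₁ h v)).symm
      (rel_symm (phiFun_spec sqθ x₀ x₁ h v)) hr

/-- The descent datum on `X'` over `T'` relative to `p`, whose gluing bijections identify points
with the same component in `E`. -/
noncomputable def dd : Desc.SchDD p.left where
  obj := Over.mk x'.left
  φ Z₀ x₀ x₁ h :=
    { toFun := phiFun sqθ x₀ x₁ h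
      invFun := phiFun sqθ x₁ x₀ h.symm
      left_inv := fun v => phiFun_unique sqθ _ _ _ _ _ (rel_symm (phiFun_spec sqθ x₀ x₁ h v))
      right_inv := fun v => phiFun_unique sqθ _ _ _ _ _ (rel_symm (phiFun_spec sqθ x₁ x₀ h.symm v)) }
  φ_natural Z₀ Z₁ g x₀ x₁ h h' v v' hv' := by
    have hl : (g ≫ (phiFun sqθ x₀ x₁ h v).1) ≫ (Over.mk x'.left).hom = g ≫ x₁ := by
      rw [Category.assoc]
      congr 1
      exact (phiFun sqθ x₀ x₁ h v).2
    have := phiFun_unique sqθ (g ≫ x₀) (g ≫ x₁) h' v' ⟨g ≫ (phiFun sqθ x₀ x₁ h v).1, hl⟩ (by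
      rw [hv']
      exact rel_comp g (phiFun_spec sqθ x₀ x₁ h v))
    exact congrArg Subtype.val this
  φ_self Z₀ x v := phiFun_unique sqθ x x rfl v v (rel_refl (θ := θ) v.1)
  φ_comp Z₀ x₀ x₁ x₂ h₀₁ h₁₂ v := by
    change phiFun sqθ x₁ x₂ h₁₂ (phiFun sqθ x₀ x₁ h₀₁ v) = phiFun sqθ x₀ x₂ (h₀₁.trans h₁₂) v
    symm
    refine phiFun_unique sqθ _ _ _ _ _ ?_
    exact rel_trans (lifts_hom_eq h₀₁ v _) (phiFun_spec sqθ x₀ x₁ h₀₁ v)
      (phiFun_spec sqθ x₁ x₂ h₁₂ _)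

@[simp] theorem dd_obj : (dd sqθ).obj = Over.mk x'.left := rfl

theorem dd_φ_rel {Z₀ : Scheme.{u}} (x₀ x₁ : Z₀ ⟶ T'.left) (h : x₀ ≫ p.left = x₁ ≫ p.left)
    (v : Desc.Lifts (dd sqθ).obj x₀) : Rel θ v.1 ((dd sqθ).φ x₀ x₁ h v).1 :=
  phiFun_spec sqθ x₀ x₁ h v

end Groth.Agent.Lib.Helper15EffDescA
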