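-- helper15: effectivity of the descent datum attached to a sheaf gives representability (for S9894).
import Mathlib
import Groth.Prelude.Def_AlgSp
import Groth.Prelude.Def_Desc
import Groth.Agent.Lib.Helper15EffDescA
import Groth.Agent.Lib.Helper12EqvRelSp
import Groth.Agent.S9885

set_option autoImplicit false
open CategoryTheory CategoryTheory.Limits AlgebraicGeometry Opposite

universe u

namespace Groth.Agent.Lib.Helper15EffDescB

open Groth.Agent.Lib.Helper15EffDescA Groth.Agent.Lib.Helper9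

/-- In a topos-like category, a map whose base change along an epimorphism is an isomorphism is an
isomorphism. -/
theorem isIso_of_isPullback_of_epi {E : Type*} [Category E] [ToposLike E] {A' A B' B : E}
    {a : A' ⟶ A} {c' : A' ⟶ B'} {c : A ⟶ B} {q : B' ⟶ B} (sq : IsPullback a c' c q) [Epi q]
    [IsIso c'] : IsIso c := by
  have hepi : Epi c := by
    have : Epi (a ≫ c) := by
      rw [sq.w]
      exact epi_comp _ _
    exact epi_of_epi a c
  have hmono : Mono c := by
    refine ⟨fun {Z} u₁ u₂ h => ?_⟩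
    have sqZ := IsPullback.of_hasPullback (u₁ ≫ c) q
    have he : Epi (pullback.fst (u₁ ≫ c) q) := ToposLike.epi_of_isPullback sqZ inferInstance
    have c1 : (pullback.fst (u₁ ≫ c) q ≫ u₁) ≫ c = pullback.snd (u₁ ≫ c) q ≫ q := by
      rw [Category.assoc]
      exact pullback.condition
    have c2 : (pullback.fst (u₁ ≫ c) q ≫ u₂) ≫ c = pullback.snd (u₁ ≫ c) q ≫ q := by
      rw [Category.assoc, ← h]
      exact pullback.condition
    have e12 : sq.lift _ _ c1 = sq.lift _ _ c2 := by
      rw [← cancel_mono c', sq.lift_snd, sq.lift_snd]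
    have h1 := sq.lift_fst _ _ c1
    have h2 := sq.lift_fst _ _ c2
    rw [e12] at h1
    rw [← cancel_epi (pullback.fst (u₁ ≫ c) q), ← h1, h2]
  exact ToposLike.isIso_of_mono_of_epi c hmono hepi

variable {S : Scheme.{u}} {T T' X' : Over S} {p : T' ⟶ T} {x' : X' ⟶ T'} {E : AlgSp.Sp S}
  {e₂ : E ⟶ (AlgSp.yon S).obj T} {θ : (AlgSp.yon S).obj X' ⟶ E}
  (sqθ : IsPullback θ ((AlgSp.yon S).map x') e₂ ((AlgSp.yon S).map p))

/-- a flat, locally finitely presented, surjective morphism of schemes over `S` induces an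
epimorphism of fppf sheaves. -/
theorem epi_yon_map {A B : Over S} (f : A ⟶ B) (h₁ : Flat f.left)
    (h₂ : LocallyOfFinitePresentation f.left) (h₃ : Surjective f.left) :
    Epi ((AlgSp.yon S).map f) := by
  haveI := Groth.Agent.S9885.isLocallySurjective_of_repWith ((AlgSp.yon S).map f)
    ((AlgSp.repWith_yon_map_iff _ _).2 h₁) ((AlgSp.repWith_yon_map_iff _ _).2 h₂)
    ((AlgSp.repWith_yon_map_iff _ _).2 h₃)
  exact (Sheaf.isLocallySurjective_iff_epi _).1 inferInstance

section Objs

variable (p) (W₀ : Over T.left)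

/-- the descended scheme, over `S`. -/
noncomputable def Wobj : Over S := Over.mk (W₀.hom ≫ T.hom)

/-- its structure map to `T`. -/
noncomputable def wmap : Wobj W₀ ⟶ T := Over.homMk W₀.hom rfl

/-- its base change to `T'`, over `S`. -/
noncomputable def Wobj' : Over S := Over.mk (pullback.fst p.left W₀.hom ≫ T'.hom)

/-- first projection. -/
noncomputable def pr₁ : Wobj' p W₀ ⟶ T' := Over.homMk (pullback.fst p.left W₀.hom) rfl

/-- second projection. -/
noncomputable def pr₂ : Wobj' p W₀ ⟶ Wobj W₀ := Over.homMk (pullback.snd p.left W₀.hom) (by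
  change pullback.snd p.left W₀.hom ≫ W₀.hom ≫ T.hom = pullback.fst p.left W₀.hom ≫ T'.hom
  rw [← pullback.condition_assoc, Over.w p])

@[simp] theorem wmap_left : (wmap W₀).left = W₀.hom := rfl
@[simp] theorem pr₁_left : (pr₁ p W₀).left = pullback.fst p.left W₀.hom := rfl
@[simp] theorem pr₂_left : (pr₂ p W₀).left = pullback.snd p.left W₀.hom := rfl
@[simp] theorem Wobj'_left : (Wobj' p W₀).left = pullback p.left W₀.hom := rfl

theorem sqW : IsPullback (pr₂ p W₀) (pr₁ p W₀) (wmap W₀) p := by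
  refine IsPullback.of_map (Over.forget S) ?_ ?_
  · apply Over.OverMorphism.ext
    simp only [Over.comp_left, pr₂_left, wmap_left, pr₁_left]
    exact pullback.condition.symm
  · exact (IsPullback.of_hasPullback p.left W₀.hom).flip

end Objs

include sqθ in
/-- If the descent datum attached to `E` is effective, then `E` is representable over `T`. -/
theorem exists_rep [Surjective p.left] [Flat p.left] [LocallyOfFinitePresentation p.left]
    (W₀ : Over T.left) (i : (Desc.toDD p.left).obj W₀ ≅ dd sqθ) :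
    ∃ (W : Over S) (w : W ⟶ T) (c : (AlgSp.yon S).obj W ⟶ E), IsIso c ∧
      c ≫ e₂ = (AlgSp.yon S).map w := by
  -- the isomorphism `a : W' ≅ X'`
  obtain ⟨ihl, hihl⟩ : ∃ ihl : pullback p.left W₀.hom ⟶ X'.left, ihl = i.hom.hom.left := ⟨_, rfl⟩
  obtain ⟨iil, hiil⟩ : ∃ iil : X'.left ⟶ pullback p.left W₀.hom, iil = i.inv.hom.left := ⟨_, rfl⟩
  have hi1 : ihl ≫ x'.left = pullback.fst p.left W₀.hom := by
    rw [hihl]; exact Over.w i.hom.hom
  have hid1 : ihl ≫ iil = 𝟙 _ := by
    rw [hihl, hiil]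
    exact congrArg (fun f => f.hom.left) i.hom_inv_id
  have hid2 : iil ≫ ihl = 𝟙 _ := by
    rw [hihl, hiil]
    exact congrArg (fun f => f.hom.left) i.inv_hom_id
  have ha0 : ihl ≫ X'.hom = (Wobj' p W₀).hom := by
    change ihl ≫ X'.hom = pullback.fst p.left W₀.hom ≫ T'.hom
    rw [← hi1, Category.assoc, Over.w x']
  let a : Wobj' p W₀ ⟶ X' := Over.homMk ihl ha0
  have ha_left : a.left = ihl := rfl
  have : IsIso a.left := ⟨iil, hid1, hid2⟩
  have haiso : IsIso a := by
    have : IsIso ((Over.forget S).map a) := ‹IsIso a.left›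
    exact isIso_of_reflects_iso a (Over.forget S)
  have hax : a ≫ x' = pr₁ p W₀ := by
    apply Over.OverMorphism.ext
    simp only [Over.comp_left, ha_left, pr₁_left]
    exact hi1
  -- the key compatibility
  have key : ∀ (Z : Over S) (b₁ b₂ : Z ⟶ Wobj' p W₀), b₁ ≫ pr₂ p W₀ = b₂ ≫ pr₂ p W₀ →
      (AlgSp.yon S).map (b₁ ≫ a) ≫ θ = (AlgSp.yon S).map (b₂ ≫ a) ≫ θ := by
    intro Z b₁ b₂ hb
    obtain ⟨β₁, hβ₁⟩ : ∃ β₁ : Z.left ⟶ pullback p.left W₀.hom, β₁ = b₁.left := ⟨_, rfl⟩
    obtain ⟨β₂, hβ₂⟩ : ∃ β₂ : Z.left ⟶ pullback p.left W₀.hom, β₂ = b₂.left := ⟨_, rfl⟩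
    have hbl : β₁ ≫ pullback.snd p.left W₀.hom = β₂ ≫ pullback.snd p.left W₀.hom := by
      rw [hβ₁, hβ₂]
      exact congrArg CommaMorphism.left hb
    have h : (β₁ ≫ pullback.fst p.left W₀.hom) ≫ p.left =
        (β₂ ≫ pullback.fst p.left W₀.hom) ≫ p.left := by
      rw [Category.assoc, Category.assoc, pullback.condition, ← Category.assoc, hbl,
        Category.assoc]
    let v : Desc.Lifts ((Desc.toDD p.left).obj W₀).obj (β₁ ≫ pullback.fst p.left W₀.hom) :=
      ⟨β₁, rfl⟩
    have hwv : (β₁ ≫ ihl) ≫ x'.left = β₁ ≫ pullback.fst p.left W₀.hom := by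
      rw [Category.assoc, hi1]
    let wv : Desc.Lifts (dd sqθ).obj (β₁ ≫ pullback.fst p.left W₀.hom) := ⟨β₁ ≫ ihl, hwv⟩
    have hcomm := i.hom.comm _ _ h v wv (by rw [← hihl]; rfl)
    have hcan : (((Desc.toDD p.left).obj W₀).φ _ _ h v).1 = β₂ := by
      change pullback.lift _ _ _ = β₂
      apply pullback.hom_ext
      · rw [pullback.lift_fst]
      · rw [pullback.lift_snd]; exact hbl
    have hrel := dd_φ_rel sqθ _ _ h wv
    rw [hcomm, hcan, ← hihl] at hrel
    refine hrel Z (b₁ ≫ a) (b₂ ≫ a) (𝟙 _) ?_ ?_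
    · rw [Category.id_comp, Over.comp_left, ha_left, ← hβ₁]; rfl
    · rw [Category.id_comp, Over.comp_left, ha_left, ← hβ₂]; rfl
  -- the epimorphism
  have hepi : Epi ((AlgSp.yon S).map (pr₂ p W₀)) := by
    refine epi_yon_map _ ?_ ?_ ?_
    · rw [pr₂_left]; exact MorphismProperty.pullback_snd (P := @Flat) _ _ inferInstance
    · rw [pr₂_left]
      exact MorphismProperty.pullback_snd (P := @LocallyOfFinitePresentation) _ _ inferInstance
    · rw [pr₂_left]; exact MorphismProperty.pullback_snd (P := @Surjective) _ _ inferInstance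
  obtain ⟨c, hc⟩ := ToposLike.exists_desc_of_epi ((AlgSp.yon S).map (pr₂ p W₀)) hepi
    ((AlgSp.yon S).map a ≫ θ) (by
      intro A a₁ a₂ h12
      refine Groth.Agent.Lib.Helper12.EqvRelSp.hom_ext_yon _ _ (fun Z z => ?_)
      obtain ⟨b₁, hb₁⟩ := (AlgSp.yon S).map_surjective (z ≫ a₁)
      obtain ⟨b₂, hb₂⟩ := (AlgSp.yon S).map_surjective (z ≫ a₂)
      have hb : b₁ ≫ pr₂ p W₀ = b₂ ≫ pr₂ p W₀ := by
        apply (AlgSp.yon S).map_injective
        rw [Functor.map_comp, Functor.map_comp, hb₁, hb₂, Category.assoc, Category.assoc, h12]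
      have := key Z b₁ b₂ hb
      rw [Functor.map_comp, Functor.map_comp, hb₁, hb₂] at this
      simpa [Category.assoc] using this)
  have hce : c ≫ e₂ = (AlgSp.yon S).map (wmap W₀) := by
    rw [← cancel_epi ((AlgSp.yon S).map (pr₂ p W₀)), ← Category.assoc, hc, Category.assoc, sqθ.w,
      ← Functor.map_comp, ← Functor.map_comp, ← Functor.map_comp, ← Category.assoc, hax,
      (sqW p W₀).w]
  refine ⟨Wobj W₀, wmap W₀, c, ?_, hce⟩
  have big : IsPullback ((AlgSp.yon S).map (pr₂ p W₀)) ((AlgSp.yon S).map a ≫ (AlgSp.yon S).map x')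
      (c ≫ e₂) ((AlgSp.yon S).map p) := by
    rw [hce, ← Functor.map_comp, hax]
    exact (sqW p W₀).map (AlgSp.yon S)
  have sqc : IsPullback ((AlgSp.yon S).map (pr₂ p W₀)) ((AlgSp.yon S).map a) c θ :=
    IsPullback.of_bot big hc sqθ
  have hθ : Epi θ := by
    have : Epi ((AlgSp.yon S).map p) := epi_yon_map p inferInstance inferInstance inferInstance
    exact ToposLike.epi_of_isPullback sqθ inferInstance
  exact isIso_of_isPullback_of_epi sqc

end Groth.Agent.Lib.Helper15EffDescB
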