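-- helper15: sheaves over an affine scheme that are affine schemes after an affine fppf base change are affine schemes.
import Mathlib
import Groth.Prelude.Def_AlgSp
import Groth.Prelude.Def_Desc
import Groth.Agent.Lib.Helper15EffDescA
import Groth.Agent.Lib.Helper15EffDescB
import Groth.Agent.Lib.Helper15AffDescCore

set_option autoImplicit false
open CategoryTheory CategoryTheory.Limits AlgebraicGeometry Opposite

universe u

namespace Groth.Agent.Lib.Helper15AffDescSp

open Groth.Agent.Lib.Helper15EffDescA Groth.Agent.Lib.Helper15EffDescB Groth.Agent.Lib.Helper9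

/-- A flat, locally finitely presented, surjective morphism to an affine scheme can be refined by
one from an affine scheme. -/
lemma exists_affine_refinement {T T'' : Scheme.{u}} [IsAffine T] (q : T'' ⟶ T)
    [Flat q] [LocallyOfFinitePresentation q] [Surjective q] :
    ∃ (T' : Scheme.{u}) (r : T' ⟶ T''), IsAffine T' ∧ Surjective (r ≫ q) ∧
      ∀ (P : MorphismProperty Scheme.{u}) [IsZariskiLocalAtSource P], P q → P (r ≫ q) := by
  let 𝒰 := T''.affineCover
  have hopen : IsOpenMap q.base := q.isOpenMap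
  have hcov : (Set.univ : Set T) ⊆ ⋃ i : 𝒰.I₀, q.base '' Set.range (𝒰.f i).base := by
    intro x _
    obtain ⟨y, rfl⟩ := q.surjective x
    exact Set.mem_iUnion.2 ⟨𝒰.idx y, y, 𝒰.covers y, rfl⟩
  obtain ⟨s, hs⟩ := isCompact_univ.elim_finite_subcover _
    (fun i => hopen _ (𝒰.f i).isOpenEmbedding.isOpen_range) hcov
  refine ⟨∐ fun i : s => 𝒰.X i.1, Sigma.desc fun i : s => 𝒰.f i.1, inferInstance, ?_, ?_⟩
  · refine ⟨fun x => ?_⟩
    have hx := hs (Set.mem_univ x)
    simp only [Set.mem_iUnion] at hx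
    obtain ⟨i, hi, y, ⟨z, rfl⟩, rfl⟩ := hx
    refine ⟨(Sigma.ι (fun i : s => 𝒰.X i.1) ⟨i, hi⟩) z, ?_⟩
    rw [← Scheme.Hom.comp_apply, ← Category.assoc, Sigma.ι_desc]
    rfl
  · intro P _ hq
    have : (Sigma.desc fun i : s => 𝒰.f i.1) ≫ q = Sigma.desc fun i : s => 𝒰.f i.1 ≫ q := by
      apply Sigma.hom_ext
      intro i
      rw [Sigma.ι_desc, ← Category.assoc, Sigma.ι_desc]
    rw [this]
    exact IsZariskiLocalAtSource.sigmaDesc (fun i => IsZariskiLocalAtSource.comp hq _)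

variable {S : Scheme.{u}} {T T' X' : Over S} {p : T' ⟶ T} {x' : X' ⟶ T'} {E : AlgSp.Sp S}
  {e₂ : E ⟶ (AlgSp.yon S).obj T} {θ : (AlgSp.yon S).obj X' ⟶ E}
  (sqθ : IsPullback θ ((AlgSp.yon S).map x') e₂ ((AlgSp.yon S).map p))

include sqθ in
/-- If the descent datum attached to `E` is effective, then `E` is representable over `T`. -/
theorem exists_rep' [Surjective p.left] [Flat p.left] [LocallyOfFinitePresentation p.left]
    (W₀ : Over T.left) (i : (Desc.toDD p.left).obj W₀ ≅ dd sqθ) :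
    ∃ (c : (AlgSp.yon S).obj (Wobj W₀) ⟶ E), IsIso c ∧
      c ≫ e₂ = (AlgSp.yon S).map (wmap W₀) := by
  -- the isomorphism `a : W' ≅ X'`
  obtain ⟨ihl, hihl⟩ : ∃ ihl : pullback p.left W₀.hom ⟶ X'.left, ihl = i.hom.hom.left := ⟨_, rfl⟩
  obtain ⟨iil, hiil⟩ : ∃ iil : X'.left ⟶ pullback p.left W₀.hom, iil = i.inv.hom.left := ⟨_, rfl⟩
  have hi1 : ihl ≫ x'.left = pullback.fst p.left W₀.hom := by
    rw [hihl]; exact Over.w i.hom.hom
  have hid1 : ihl ≫ iil = 𝟙 _ := by
    rw [hihl, hiil]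
    exact congrArg (fun f => f.hom.left) i.hom_inv_id
  have hid2 : iil ≫ ihl = 𝟙 _ := by
    rw [hihl, hiil]
    exact congrArg (fun f => f.hom.left) i.inv_hom_id
  have ha0 : ihl ≫ X'.hom = (Wobj' p W₀).hom := by
    change ihl ≫ X'.hom = pullback.fst p.left W₀.hom ≫ T'.hom
    rw [← hi1, Category.assoc, Over.w x']
  let a : Wobj' p W₀ ⟶ X' := Over.homMk ihl ha0
  have ha_left : a.left = ihl := rfl
  have : IsIso a.left := ⟨iil, hid1, hid2⟩
  have haiso : IsIso a := by
    have : IsIso ((Over.forget S).map a) := ‹IsIso a.left›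
    exact isIso_of_reflects_iso a (Over.forget S)
  have hax : a ≫ x' = pr₁ p W₀ := by
    apply Over.OverMorphism.ext
    simp only [Over.comp_left, ha_left, pr₁_left]
    exact hi1
  -- the key compatibility
  have key : ∀ (Z : Over S) (b₁ b₂ : Z ⟶ Wobj' p W₀), b₁ ≫ pr₂ p W₀ = b₂ ≫ pr₂ p W₀ →
      (AlgSp.yon S).map (b₁ ≫ a) ≫ θ = (AlgSp.yon S).map (b₂ ≫ a) ≫ θ := by
    intro Z b₁ b₂ hb
    obtain ⟨β₁, hβ₁⟩ : ∃ β₁ : Z.left ⟶ pullback p.left W₀.hom, β₁ = b₁.left := ⟨_, rfl⟩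
    obtain ⟨β₂, hβ₂⟩ : ∃ β₂ : Z.left ⟶ pullback p.left W₀.hom, β₂ = b₂.left := ⟨_, rfl⟩
    have hbl : β₁ ≫ pullback.snd p.left W₀.hom = β₂ ≫ pullback.snd p.left W₀.hom := by
      rw [hβ₁, hβ₂]
      exact congrArg CommaMorphism.left hb
    have h : (β₁ ≫ pullback.fst p.left W₀.hom) ≫ p.left =
        (β₂ ≫ pullback.fst p.left W₀.hom) ≫ p.left := by
      rw [Category.assoc, Category.assoc, pullback.condition, ← Category.assoc, hbl,
        Category.assoc]
    let v : Desc.Lifts ((Desc.toDD p.left).obj W₀).obj (β₁ ≫ pullback.fst p.left W₀.hom) :=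
      ⟨β₁, rfl⟩
    have hwv : (β₁ ≫ ihl) ≫ x'.left = β₁ ≫ pullback.fst p.left W₀.hom := by
      rw [Category.assoc, hi1]
    let wv : Desc.Lifts (dd sqθ).obj (β₁ ≫ pullback.fst p.left W₀.hom) := ⟨β₁ ≫ ihl, hwv⟩
    have hcomm := i.hom.comm _ _ h v wv (by rw [← hihl]; rfl)
    have hcan : (((Desc.toDD p.left).obj W₀).φ _ _ h v).1 = β₂ := by
      change pullback.lift _ _ _ = β₂
      apply pullback.hom_ext
      · rw [pullback.lift_fst]
      · rw [pullback.lift_snd]; exact hbl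
    have hrel := dd_φ_rel sqθ _ _ h wv
    rw [hcomm, hcan, ← hihl] at hrel
    refine hrel Z (b₁ ≫ a) (b₂ ≫ a) (𝟙 _) ?_ ?_
    · rw [Category.id_comp, Over.comp_left, ha_left, ← hβ₁]; rfl
    · rw [Category.id_comp, Over.comp_left, ha_left, ← hβ₂]; rfl
  -- the epimorphism
  have hepi : Epi ((AlgSp.yon S).map (pr₂ p W₀)) := by
    refine epi_yon_map _ ?_ ?_ ?_
    · rw [pr₂_left]; exact MorphismProperty.pullback_snd (P := @Flat) _ _ inferInstance
    · rw [pr₂_left]
      exact MorphismProperty.pullback_snd (P := @LocallyOfFinitePresentation) _ _ inferInstance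
    · rw [pr₂_left]; exact MorphismProperty.pullback_snd (P := @Surjective) _ _ inferInstance
  obtain ⟨c, hc⟩ := ToposLike.exists_desc_of_epi ((AlgSp.yon S).map (pr₂ p W₀)) hepi
    ((AlgSp.yon S).map a ≫ θ) (by
      intro A a₁ a₂ h12
      refine Groth.Agent.Lib.Helper12.EqvRelSp.hom_ext_yon _ _ (fun Z z => ?_)
      obtain ⟨b₁, hb₁⟩ := (AlgSp.yon S).map_surjective (z ≫ a₁)
      obtain ⟨b₂, hb₂⟩ := (AlgSp.yon S).map_surjective (z ≫ a₂)
      have hb : b₁ ≫ pr₂ p W₀ = b₂ ≫ pr₂ p W₀ := by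
        apply (AlgSp.yon S).map_injective
        rw [Functor.map_comp, Functor.map_comp, hb₁, hb₂, Category.assoc, Category.assoc, h12]
      have := key Z b₁ b₂ hb
      rw [Functor.map_comp, Functor.map_comp, hb₁, hb₂] at this
      simpa [Category.assoc] using this)
  have hce : c ≫ e₂ = (AlgSp.yon S).map (wmap W₀) := by
    rw [← cancel_epi ((AlgSp.yon S).map (pr₂ p W₀)), ← Category.assoc, hc, Category.assoc, sqθ.w,
      ← Functor.map_comp, ← Functor.map_comp, ← Functor.map_comp, ← Category.assoc, hax,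
      (sqW p W₀).w]
  refine ⟨c, ?_, hce⟩
  have big : IsPullback ((AlgSp.yon S).map (pr₂ p W₀)) ((AlgSp.yon S).map a ≫ (AlgSp.yon S).map x')
      (c ≫ e₂) ((AlgSp.yon S).map p) := by
    rw [hce, ← Functor.map_comp, hax]
    exact (sqW p W₀).map (AlgSp.yon S)
  have sqc : IsPullback ((AlgSp.yon S).map (pr₂ p W₀)) ((AlgSp.yon S).map a) c θ :=
    IsPullback.of_bot big hc sqθ
  have hθ : Epi θ := by
    have : Epi ((AlgSp.yon S).map p) := epi_yon_map p inferInstance inferInstance inferInstance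
    exact ToposLike.epi_of_isPullback sqθ inferInstance
  exact isIso_of_isPullback_of_epi sqc


include sqθ in
/-- A sheaf over an affine scheme whose base change along a flat, locally finitely presented,
surjective morphism from an affine scheme is an affine scheme, is an affine scheme. -/
theorem exists_affine_rep [Surjective p.left] [Flat p.left] [LocallyOfFinitePresentation p.left]
    [IsAffine T.left] [IsAffine T'.left] [IsAffine X'.left] :
    ∃ (W₀ : Over T.left), IsAffine W₀.left ∧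
      Nonempty (Over.mk (pullback.fst p.left W₀.hom) ≅ Over.mk x'.left) ∧
      ∃ c : (AlgSp.yon S).obj (Wobj W₀) ⟶ E, IsIso c ∧ c ≫ e₂ = (AlgSp.yon S).map (wmap W₀) := by
  have : IsAffine (dd sqθ).obj.left := ‹IsAffine X'.left›
  obtain ⟨W₀, hW₀, ⟨i⟩⟩ := Groth.Agent.Lib.Helper15AffDescCore.exists_effective (dd sqθ)
  refine ⟨W₀, hW₀, ⟨⟨i.hom.hom, i.inv.hom, ?_, ?_⟩⟩, exists_rep' sqθ W₀ i⟩
  · exact congrArg (fun f => f.hom) i.hom_inv_id
  · exact congrArg (fun f => f.hom) i.inv_hom_id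

end Groth.Agent.Lib.Helper15AffDescSp
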