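-- helper15: descent of (affine + Q) along a surjective etale chart of the target, for maps of fppf sheaves.
import Mathlib
import Groth.Prelude.Def_AlgSp
import Groth.Prelude.Def_Desc
import Groth.Agent.Lib.Helper15AffDescSp

set_option autoImplicit false
open CategoryTheory CategoryTheory.Limits AlgebraicGeometry Opposite

universe u

namespace Groth.Agent.Lib.Helper15AffDescChart

open Groth.Agent.Lib.Helper15EffDescB

/-- Descent of "affine with property `Q`" along a surjective etale chart of the target. -/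
theorem chart_descent {S : Scheme.{u}} {X Y : AlgSp.Sp S} (f : X ⟶ Y) (V : Over S)
    (p : (AlgSp.yon S).obj V ⟶ Y) (hp : AlgSp.RepWith @Etale p) (hps : AlgSp.RepWith @Surjective p)
    {P : AlgSp.Sp S} (fst : P ⟶ X) (snd : P ⟶ (AlgSp.yon S).obj V) (sq : IsPullback fst snd f p)
    (Q : MorphismProperty Scheme.{u}) [Q.RespectsIso]
    (hQd : Q.DescendsAlong (@Surjective ⊓ @Flat ⊓ @QuasiCompact : MorphismProperty Scheme.{u}))
    (h : ∀ ⦃Z : Over S⦄, IsAffine Z.left → ∀ (g : (AlgSp.yon S).obj Z ⟶ (AlgSp.yon S).obj V),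
      ∃ (W : Over S) (i : W ⟶ Z) (fst' : (AlgSp.yon S).obj W ⟶ P),
        IsPullback fst' ((AlgSp.yon S).map i) snd g ∧ IsAffine W.left ∧ Q i.left)
    ⦃Z : Over S⦄ (hZ : IsAffine Z.left) (g : (AlgSp.yon S).obj Z ⟶ Y) :
    ∃ (W : Over S) (i : W ⟶ Z) (fst' : (AlgSp.yon S).obj W ⟶ X),
      IsPullback fst' ((AlgSp.yon S).map i) f g ∧ IsAffine W.left ∧ Q i.left := by
  have : IsAffine Z.left := hZ
  -- the etale chart of `Z`
  obtain ⟨T₁, pr, t, sqT⟩ := hp.1 g
  have : Etale pr.left := hp.2 _ _ pr sqT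
  have : Surjective pr.left := hps.2 _ _ pr sqT
  -- an affine refinement
  obtain ⟨T₂, r, hT₂, hrs, hrP⟩ :=
    Groth.Agent.Lib.Helper15AffDescSp.exists_affine_refinement pr.left
  let T' : Over S := Over.mk (r ≫ T₁.hom)
  let rO : T' ⟶ T₁ := Over.homMk r rfl
  let pT : T' ⟶ Z := rO ≫ pr
  have hpT : pT.left = r ≫ pr.left := rfl
  have : IsAffine T'.left := hT₂
  have : Surjective pT.left := by rw [hpT]; exact hrs
  have : Flat pT.left := by rw [hpT]; exact hrP @Flat inferInstance
  have : LocallyOfFinitePresentation pT.left := by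
    rw [hpT]; exact hrP @LocallyOfFinitePresentation inferInstance
  -- the base change of `snd` to `T'` is an affine scheme
  obtain ⟨X', x', fst', sqX', hX', hQx⟩ := h hT₂ ((AlgSp.yon S).map rO ≫ t)
  have : IsAffine X'.left := hX'
  have sqX := sqX'.paste_horiz sq
  have hw0 : ((AlgSp.yon S).map rO ≫ t) ≫ p = (AlgSp.yon S).map pT ≫ g := by
    rw [Category.assoc, sqT.w, ← Category.assoc, ← Functor.map_comp]
  rw [hw0] at sqX
  have sqE := IsPullback.of_hasPullback f g
  have hw : (fst' ≫ fst) ≫ f = ((AlgSp.yon S).map x' ≫ (AlgSp.yon S).map pT) ≫ g := by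
    rw [sqX.w, Category.assoc]
  have sqθ : IsPullback (sqE.lift _ _ hw) ((AlgSp.yon S).map x')
      (pullback.snd f g) ((AlgSp.yon S).map pT) := by
    refine IsPullback.of_right ?_ (sqE.lift_snd _ _ hw) sqE
    rw [sqE.lift_fst]
    exact sqX
  obtain ⟨W₀, hW₀, ⟨e⟩, c, hc, hce⟩ := Groth.Agent.Lib.Helper15AffDescSp.exists_affine_rep sqθ
  refine ⟨Wobj W₀, wmap W₀, c ≫ pullback.fst f g, ?_, hW₀, ?_⟩
  · exact IsPullback.of_iso sqE (asIso c).symm (Iso.refl _) (Iso.refl _) (Iso.refl _)
      (by simp) (by simp [hce]) (by simp) (by simp)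
  · change Q W₀.hom
    have h1 : Q (pullback.fst pT.left W₀.hom) := by
      have he : e.hom.left ≫ x'.left = pullback.fst pT.left W₀.hom := Over.w e.hom
      rw [← he]
      have : IsIso e.hom.left := inferInstanceAs (IsIso ((Over.forget _).map e.hom))
      exact (Q.cancel_left_of_respectsIso _ _).2 hQx
    exact MorphismProperty.of_pullback_fst_of_descendsAlong (P := Q)
      (Q := (@Surjective ⊓ @Flat ⊓ @QuasiCompact : MorphismProperty Scheme.{u}))
      (f := pT.left) (g := W₀.hom) ⟨⟨inferInstance, inferInstance⟩, inferInstance⟩ h1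

end Groth.Agent.Lib.Helper15AffDescChart
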