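-- helper17: shared lemmas on fibred categories (FibCat.* cluster).
import Groth.Prelude.Def_FibCat2

set_option autoImplicit false
open CategoryTheory CategoryTheory.Functor

universe v₁ u₁ v₂ u₂ v₃ u₃

namespace Groth.Agent.Lib.Helper17

section Comp

variable {𝒜 : Type u₁} [Category.{v₁} 𝒜] {ℬ : Type u₂} [Category.{v₂} ℬ]
  {𝒞 : Type u₃} [Category.{v₃} 𝒞]

/-- Lifting along a composite `F ⋙ G` is lifting the `F`-image along `G`. -/
theorem isHomLift_comp_iff (F : 𝒜 ⥤ ℬ) (G : ℬ ⥤ 𝒞) {R S : 𝒞} (f : R ⟶ S) {a b : 𝒜} (φ : a ⟶ b) :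
    (F ⋙ G).IsHomLift f φ ↔ G.IsHomLift f (F.map φ) := by
  constructor
  · intro h
    obtain ⟨⟩ := h
    exact IsHomLift.map G (F.map φ)
  · intro h
    have h1 := IsHomLift.fac G f (F.map φ)
    exact IsHomLift.of_fac (F ⋙ G) f φ (IsHomLift.domain_eq G f (F.map φ))
      (IsHomLift.codomain_eq G f (F.map φ)) h1

/-- A morphism lifting `h : F a ⟶ F b` has image exactly `h`. -/
theorem map_eq_of_isHomLift (F : 𝒜 ⥤ ℬ) {a b : 𝒜} (h : F.obj a ⟶ F.obj b) (χ : a ⟶ b)
    [F.IsHomLift h χ] : F.map χ = h :=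
  (IsHomLift.eq_of_isHomLift F h χ).symm

/-- A morphism that is strongly cartesian for `F` and whose image is strongly cartesian for `G`
is strongly cartesian for `F ⋙ G`. -/
theorem isStronglyCartesian_comp_functor (F : 𝒜 ⥤ ℬ) (G : ℬ ⥤ 𝒞) {x y : 𝒜} (φ : x ⟶ y)
    [F.IsStronglyCartesian (F.map φ) φ] [G.IsStronglyCartesian (G.map (F.map φ)) (F.map φ)] :
    (F ⋙ G).IsStronglyCartesian ((F ⋙ G).map φ) φ := by
  refine { toIsHomLift := inferInstance, universal_property' := ?_ }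
  intro a' g φ' hφ'
  have h1 : G.IsHomLift (g ≫ G.map (F.map φ)) (F.map φ') :=
    (isHomLift_comp_iff F G _ φ').mp hφ'
  obtain ⟨h, ⟨hh1, hh2⟩, hhu⟩ := IsStronglyCartesian.universal_property G (G.map (F.map φ))
    (F.map φ) g (g ≫ G.map (F.map φ)) rfl (F.map φ')
  have h2 : F.IsHomLift (h ≫ F.map φ) φ' := by
    rw [hh2]; infer_instance
  obtain ⟨χ, ⟨hχ1, hχ2⟩, hχu⟩ := IsStronglyCartesian.universal_property F (F.map φ) φ h
    (h ≫ F.map φ) rfl φ'
  have hFχ : F.map χ = h := map_eq_of_isHomLift F h χ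
  refine ⟨χ, ⟨?_, hχ2⟩, ?_⟩
  · rw [isHomLift_comp_iff, hFχ]; exact hh1
  · rintro χ' ⟨hχ'1, hχ'2⟩
    have h3 : G.IsHomLift g (F.map χ') := (isHomLift_comp_iff F G _ χ').mp hχ'1
    have h4 : F.map χ' = h := hhu (F.map χ') ⟨h3, by rw [← F.map_comp, hχ'2]⟩
    have h5 : F.IsHomLift h χ' := by rw [← h4]; infer_instance
    exact hχu χ' ⟨h5, hχ'2⟩

end Comp

section Transport

variable {𝒮 : Type u₁} [Category.{v₁} 𝒮] {𝒳 : Type u₂} [Category.{v₂} 𝒳]

/-- A strongly cartesian morphism over `f` is strongly cartesian over its own image. -/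
theorem isStronglyCartesian_map (p : 𝒳 ⥤ 𝒮) {R S : 𝒮} (f : R ⟶ S) {a b : 𝒳} (φ : a ⟶ b)
    [p.IsStronglyCartesian f φ] : p.IsStronglyCartesian (p.map φ) φ := by
  subst_hom_lift p f φ
  infer_instance

/-- A morphism lifting `f` which is strongly cartesian over its own image is strongly cartesian
over `f`. -/
theorem isStronglyCartesian_of_map (p : 𝒳 ⥤ 𝒮) {R S : 𝒮} (f : R ⟶ S) {a b : 𝒳} (φ : a ⟶ b)
    [p.IsHomLift f φ] [p.IsStronglyCartesian (p.map φ) φ] : p.IsStronglyCartesian f φ := by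
  subst_hom_lift p f φ
  infer_instance

/-- In a category fibred in groupoids every lift is strongly cartesian. -/
theorem IsFibGrpd.isStronglyCartesian_of_isHomLift {p : 𝒳 ⥤ 𝒮} (hp : FibCat.IsFibGrpd p)
    {R S : 𝒮} (f : R ⟶ S) {a b : 𝒳} (φ : a ⟶ b) [p.IsHomLift f φ] :
    p.IsStronglyCartesian f φ := by
  have := hp.isStronglyCartesian φ
  exact isStronglyCartesian_of_map p f φ

/-- A category fibred in groupoids is fibred. -/
theorem IsFibGrpd.isFibered {p : 𝒳 ⥤ 𝒮} (hp : FibCat.IsFibGrpd p) : p.IsFibered := by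
  apply IsFibered.of_exists_isStronglyCartesian
  intro a R f
  obtain ⟨b, φ, hφ⟩ := hp.exists_lift f
  exact ⟨b, φ, IsFibGrpd.isStronglyCartesian_of_isHomLift hp f φ⟩

end Transport

section Comp2

variable {𝒜 : Type u₁} [Category.{v₁} 𝒜] {ℬ : Type u₂} [Category.{v₂} ℬ]
  {𝒞 : Type u₃} [Category.{v₃} 𝒞]

/-- The composite of two fibred functors is fibred. -/
theorem isFibered_comp (F : 𝒜 ⥤ ℬ) (G : ℬ ⥤ 𝒞) [F.IsFibered] [G.IsFibered] :
    (F ⋙ G).IsFibered := by
  apply IsFibered.of_exists_isStronglyCartesian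
  intro a R f
  obtain ⟨u, g, hg⟩ := IsPreFibered.exists_isCartesian' (p := G) (a := F.obj a) f
  have hg' : G.IsStronglyCartesian f g := inferInstance
  obtain ⟨b, φ, hφ⟩ := IsPreFibered.exists_isCartesian F (a := a) rfl g
  have hφ' : F.IsStronglyCartesian g φ := inferInstance
  have h1 : F.IsStronglyCartesian (F.map φ) φ := isStronglyCartesian_map F g φ
  have hu : F.obj b = u := IsHomLift.domain_eq F g φ
  subst hu
  have hgeq : g = F.map φ := IsHomLift.eq_of_isHomLift F g φ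
  subst hgeq
  have h2 : G.IsStronglyCartesian (G.map (F.map φ)) (F.map φ) :=
    isStronglyCartesian_map G f (F.map φ)
  have h3 := isStronglyCartesian_comp_functor F G φ
  refine ⟨b, φ, ?_⟩
  have : (F ⋙ G).IsHomLift f φ := (isHomLift_comp_iff F G f φ).mpr inferInstance
  exact isStronglyCartesian_of_map (F ⋙ G) f φ

/-- The composite of two functors fibred in groupoids is fibred in groupoids. -/
theorem isFibGrpd_comp (F : 𝒜 ⥤ ℬ) (G : ℬ ⥤ 𝒞) (hF : FibCat.IsFibGrpd F)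
    (hG : FibCat.IsFibGrpd G) : FibCat.IsFibGrpd (F ⋙ G) := by
  refine ⟨?_, ?_⟩
  · intro x V f
    obtain ⟨u, g, hg⟩ := hG.exists_lift (x := F.obj x) f
    obtain ⟨y, φ, hφ⟩ := hF.exists_lift (x := x) g
    refine ⟨y, φ, ?_⟩
    have hu : F.obj y = u := IsHomLift.domain_eq F g φ
    subst hu
    have hgeq : g = F.map φ := IsHomLift.eq_of_isHomLift F g φ
    subst hgeq
    exact (isHomLift_comp_iff F G f φ).mpr hg
  · intro y x φ
    have := hF.isStronglyCartesian φ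
    have := hG.isStronglyCartesian (F.map φ)
    exact isStronglyCartesian_comp_functor F G φ

end Comp2

section Groupoid

variable {𝒮 : Type u₁} [Category.{v₁} 𝒮] {𝒳 : Type u₂} [Category.{v₂} 𝒳]

/-- In a category fibred in groupoids, a morphism lying over an identity is an isomorphism. -/
theorem IsFibGrpd.isIso_of_isHomLift_id {p : 𝒳 ⥤ 𝒮} (hp : FibCat.IsFibGrpd p) (U : 𝒮)
    {a b : 𝒳} (α : a ⟶ b) [p.IsHomLift (𝟙 U) α] : IsIso α := by
  have := IsFibGrpd.isStronglyCartesian_of_isHomLift hp (𝟙 U) α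
  exact IsStronglyCartesian.isIso_of_base_isIso p (𝟙 U) α

/-- The fibres of a category fibred in groupoids are groupoids. -/
theorem IsFibGrpd.isGroupoid_fiber {p : 𝒳 ⥤ 𝒮} (hp : FibCat.IsFibGrpd p) (U : 𝒮) :
    IsGroupoid (p.Fiber U) := by
  refine ⟨fun {X Y} f => ?_⟩
  have hlift : p.IsHomLift (𝟙 U) f.1 := f.2
  have hiso : IsIso f.1 := IsFibGrpd.isIso_of_isHomLift_id hp U f.1
  refine ⟨⟨inv f.1, inferInstance⟩, ?_, ?_⟩
  · exact Subtype.ext (IsIso.hom_inv_id f.1)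
  · exact Subtype.ext (IsIso.inv_hom_id f.1)

/-- A fibred category whose fibres are groupoids is fibred in groupoids. -/
theorem isFibGrpd_of_isFibered_of_isGroupoid_fiber (p : 𝒳 ⥤ 𝒮) [p.IsFibered]
    (h : ∀ U : 𝒮, IsGroupoid (p.Fiber U)) : FibCat.IsFibGrpd p := by
  refine ⟨?_, ?_⟩
  · intro x V f
    obtain ⟨y, φ, hφ⟩ := IsPreFibered.exists_isCartesian' (p := p) f
    exact ⟨y, φ, inferInstance⟩
  · intro y x φ
    obtain ⟨y', ψ, hψ⟩ := IsPreFibered.exists_isCartesian' (p := p) (a := x) (p.map φ)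
    have hψ' : p.IsStronglyCartesian (p.map φ) ψ := inferInstance
    let χ : y ⟶ y' := IsCartesian.map p (p.map φ) ψ φ
    have hχ : p.IsHomLift (𝟙 (p.obj y)) χ := inferInstance
    have hfac : χ ≫ ψ = φ := IsCartesian.fac p (p.map φ) ψ φ
    let X : p.Fiber (p.obj y) := ⟨y, rfl⟩
    let Y : p.Fiber (p.obj y) := ⟨y', IsHomLift.domain_eq p (p.map φ) ψ⟩
    let m : X ⟶ Y := ⟨χ, hχ⟩
    have hm : IsIso m := (h (p.obj y)).all_isIso m
    have hχiso : IsIso χ := by
      have : IsIso (Fiber.fiberInclusion.map m) := inferInstance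
      exact this
    have h1 : p.IsStronglyCartesian (𝟙 (p.obj y)) χ := inferInstance
    have h2 : p.IsStronglyCartesian (𝟙 (p.obj y) ≫ p.map φ) (χ ≫ ψ) := inferInstance
    rw [Category.id_comp, hfac] at h2
    exact h2

/-- Fibred in groupoids iff fibred with groupoid fibres. -/
theorem isFibGrpd_iff_isFibered_and_isGroupoid_fiber (p : 𝒳 ⥤ 𝒮) :
    FibCat.IsFibGrpd p ↔ (p.IsFibered ∧ ∀ U : 𝒮, IsGroupoid (p.Fiber U)) := by
  constructor
  · intro hp
    exact ⟨IsFibGrpd.isFibered hp, IsFibGrpd.isGroupoid_fiber hp⟩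
  · rintro ⟨hfib, hg⟩
    exact isFibGrpd_of_isFibered_of_isGroupoid_fiber p hg

end Groupoid

end Groth.Agent.Lib.Helper17
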