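-- helper17: equivalences over the base (FibCat.IsEquivOver).
import Groth.Agent.Lib.Helper17FibCat

set_option autoImplicit false
open CategoryTheory CategoryTheory.Functor

universe v₁ u₁ v₂ u₂ v₃ u₃

namespace Groth.Agent.Lib.Helper17

section EquivOver

variable {C : Type u₁} [Category.{v₁} C] {𝒳 : BasedCategory.{v₂, u₂} C}
  {𝒴 : BasedCategory.{v₃, u₃} C}

/-- Transport of a lift of an identity along an equality of objects of the base. -/
theorem isHomLift_id_of_eq {𝒮 : Type u₂} [Category.{v₂} 𝒮] (p : 𝒮 ⥤ C) {S S' : C} (h : S = S')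
    {a b : 𝒮} (φ : a ⟶ b) [hφ : p.IsHomLift (𝟙 S) φ] : p.IsHomLift (𝟙 S') φ := by
  subst h; exact hφ

/-- The data underlying an equivalence over `C`. -/
theorem IsEquivOver.exists_data (F : 𝒳 ⥤ᵇ 𝒴) (hF : FibCat.IsEquivOver F) :
    ∃ (G : 𝒴 ⥤ᵇ 𝒳) (α : F.toFunctor ⋙ G.toFunctor ≅ 𝟭 𝒳.obj)
      (β : G.toFunctor ⋙ F.toFunctor ≅ 𝟭 𝒴.obj),
      (∀ a, 𝒳.p.IsHomLift (𝟙 (𝒳.p.obj a)) (α.hom.app a)) ∧
      (∀ b, 𝒴.p.IsHomLift (𝟙 (𝒴.p.obj b)) (β.hom.app b)) := by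
  obtain ⟨G, ⟨α⟩, ⟨β⟩⟩ := hF
  refine ⟨G, (BasedNatTrans.forgetful 𝒳 𝒳).mapIso α, (BasedNatTrans.forgetful 𝒴 𝒴).mapIso β,
    ?_, ?_⟩
  · intro a
    exact α.hom.isHomLift' a
  · intro b
    exact β.hom.isHomLift' b

/-- Building an equivalence over `C` from its data. -/
theorem IsEquivOver.of_data (F : 𝒳 ⥤ᵇ 𝒴) (G : 𝒴 ⥤ᵇ 𝒳)
    (α : F.toFunctor ⋙ G.toFunctor ≅ 𝟭 𝒳.obj) (β : G.toFunctor ⋙ F.toFunctor ≅ 𝟭 𝒴.obj)
    (hα : ∀ a, 𝒳.p.IsHomLift (𝟙 (𝒳.p.obj a)) (α.hom.app a))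
    (hβ : ∀ b, 𝒴.p.IsHomLift (𝟙 (𝒴.p.obj b)) (β.hom.app b)) : FibCat.IsEquivOver F := by
  refine ⟨G, ⟨?_⟩, ⟨?_⟩⟩
  · exact BasedNatIso.mkNatIso (F := BasedFunctor.comp F G) (G := BasedFunctor.id 𝒳) α hα
  · exact BasedNatIso.mkNatIso (F := BasedFunctor.comp G F) (G := BasedFunctor.id 𝒴) β hβ

/-- The underlying functor of an equivalence over `C` is an equivalence. -/
theorem IsEquivOver.isEquivalence (F : 𝒳 ⥤ᵇ 𝒴) (hF : FibCat.IsEquivOver F) :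
    F.toFunctor.IsEquivalence := by
  obtain ⟨G, α, β, -, -⟩ := IsEquivOver.exists_data F hF
  exact (CategoryTheory.Equivalence.mk F.toFunctor G.toFunctor α.symm β).isEquivalence_functor

/-- Essential surjectivity over the base. -/
def EssSurjOver (F : 𝒳 ⥤ᵇ 𝒴) : Prop :=
  ∀ η : 𝒴.obj, ∃ (ξ : 𝒳.obj) (e : F.toFunctor.obj ξ ≅ η), 𝒴.p.IsHomLift (𝟙 (𝒴.p.obj η)) e.hom

theorem IsEquivOver.essSurjOver (F : 𝒳 ⥤ᵇ 𝒴) (hF : FibCat.IsEquivOver F) : EssSurjOver F := by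
  obtain ⟨G, α, β, -, hβ⟩ := IsEquivOver.exists_data F hF
  intro η
  exact ⟨G.obj η, β.app η, hβ η⟩

/-- A fully faithful functor over `C` which is essentially surjective over `C` is an equivalence
over `C`. -/
theorem isEquivOver_of_fullyFaithful_of_essSurjOver (F : 𝒳 ⥤ᵇ 𝒴) [F.toFunctor.Full]
    [F.toFunctor.Faithful] (hes : EssSurjOver F) : FibCat.IsEquivOver F := by
  choose ξ e he using hes
  have heinv : ∀ η, 𝒴.p.IsHomLift (𝟙 (𝒴.p.obj η)) (e η).inv := fun η => by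
    have := he η
    exact IsHomLift.lift_id_inv 𝒴.p (𝒴.p.obj η) (e η)
  let Ginv : 𝒴.obj ⥤ 𝒳.obj :=
    { obj := ξ
      map := fun {η η'} g => F.toFunctor.preimage ((e η).hom ≫ g ≫ (e η').inv)
      map_id := fun η => by
        apply F.toFunctor.map_injective
        simp
      map_comp := fun {η₁ η₂ η₃} g g' => by
        apply F.toFunctor.map_injective
        simp }
  have hFG : ∀ {η η' : 𝒴.obj} (g : η ⟶ η'),
      F.toFunctor.map (Ginv.map g) = (e η).hom ≫ g ≫ (e η').inv := fun g => by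
    simp [Ginv]
  have hlift : ∀ {η η' : 𝒴.obj} (g : η ⟶ η'), 𝒳.p.IsHomLift (𝒴.p.map g) (Ginv.map g) := by
    intro η η' g
    have h1 := he η
    have h2 := heinv η'
    have h3 : 𝒴.p.IsHomLift (𝒴.p.map g) ((e η).hom ≫ g ≫ (e η').inv) := inferInstance
    have h4 : 𝒴.p.IsHomLift (𝒴.p.map g) (F.map (Ginv.map g)) := by
      rw [hFG]; exact h3
    exact BasedFunctor.isHomLift_map F (𝒴.p.map g) (Ginv.map g)
  have hobj : ∀ η, 𝒳.p.obj (ξ η) = 𝒴.p.obj η := fun η => by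
    have := hlift (𝟙 η)
    exact IsHomLift.domain_eq 𝒳.p (𝒴.p.map (𝟙 η)) (Ginv.map (𝟙 η))
  let Gb : 𝒴 ⥤ᵇ 𝒳 :=
    { toFunctor := Ginv
      w := by
        refine Functor.ext hobj ?_
        intro η η' g
        have := hlift g
        exact IsHomLift.fac' 𝒳.p (𝒴.p.map g) (Ginv.map g) }
  let α : F.toFunctor ⋙ Ginv ≅ 𝟭 𝒳.obj :=
    NatIso.ofComponents (fun a => F.toFunctor.preimageIso (e (F.toFunctor.obj a))) (by
      intro a a' φ
      apply F.toFunctor.map_injective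
      simp [Ginv])
  let β : Ginv ⋙ F.toFunctor ≅ 𝟭 𝒴.obj :=
    NatIso.ofComponents (fun η => e η) (by
      intro η η' g
      simp [Ginv])
  refine IsEquivOver.of_data F Gb α β ?_ ?_
  · intro a
    have h1 : 𝒴.p.IsHomLift (𝟙 (𝒴.p.obj (F.toFunctor.obj a))) (e (F.toFunctor.obj a)).hom :=
      he _
    have h2 : 𝒴.p.IsHomLift (𝟙 (𝒳.p.obj a)) (e (F.toFunctor.obj a)).hom :=
      isHomLift_id_of_eq 𝒴.p (F.w_obj a) _
    have h3 : 𝒴.p.IsHomLift (𝟙 (𝒳.p.obj a)) (F.map (α.hom.app a)) := by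
      have : F.map (α.hom.app a) = (e (F.toFunctor.obj a)).hom := by
        simp [α]
      rw [this]; exact h2
    exact BasedFunctor.isHomLift_map F _ _
  · intro b
    exact he b

/-- Characterization of equivalences over `C`. -/
theorem isEquivOver_iff_fullyFaithful_and_essSurjOver (F : 𝒳 ⥤ᵇ 𝒴) :
    FibCat.IsEquivOver F ↔ (F.toFunctor.Full ∧ F.toFunctor.Faithful) ∧ EssSurjOver F := by
  constructor
  · intro hF
    have := IsEquivOver.isEquivalence F hF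
    exact ⟨⟨inferInstance, inferInstance⟩, IsEquivOver.essSurjOver F hF⟩
  · rintro ⟨⟨hfull, hfaith⟩, hes⟩
    exact isEquivOver_of_fullyFaithful_of_essSurjOver F hes

end EquivOver

end Groth.Agent.Lib.Helper17
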