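-- helper17: equivalences over the base preserve and reflect (strongly) cartesian morphisms.
import Groth.Agent.Lib.Helper17FibEquiv

set_option autoImplicit false
open CategoryTheory CategoryTheory.Functor

universe v₁ u₁ v₂ u₂ v₃ u₃

namespace Groth.Agent.Lib.Helper17

section Preserve

variable {C : Type u₁} [Category.{v₁} C] {𝒳 : BasedCategory.{v₂, u₂} C}
  {𝒴 : BasedCategory.{v₃, u₃} C}

/-- A fully faithful functor over `C` reflects strongly cartesian morphisms. -/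
theorem isStronglyCartesian_of_map_of_ff (F : 𝒳 ⥤ᵇ 𝒴) [F.toFunctor.Full] [F.toFunctor.Faithful]
    {R S : C} (f : R ⟶ S) {a b : 𝒳.obj} (φ : a ⟶ b) [h : 𝒴.p.IsStronglyCartesian f (F.map φ)] :
    𝒳.p.IsStronglyCartesian f φ := by
  have hl : 𝒳.p.IsHomLift f φ := BasedFunctor.isHomLift_map F f φ
  refine { toIsHomLift := hl, universal_property' := ?_ }
  intro a' g φ' hφ'
  have h1 : 𝒴.p.IsHomLift (g ≫ f) (F.map φ') := inferInstance
  obtain ⟨χ, ⟨hχ1, hχ2⟩, hχu⟩ := IsStronglyCartesian.universal_property 𝒴.p f (F.map φ) g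
    (g ≫ f) rfl (F.map φ')
  obtain ⟨χ₀, rfl⟩ := F.toFunctor.map_surjective χ
  have hχ₀ : 𝒳.p.IsHomLift g χ₀ := BasedFunctor.isHomLift_map F g χ₀
  refine ⟨χ₀, ⟨hχ₀, ?_⟩, ?_⟩
  · apply F.toFunctor.map_injective
    rw [Functor.map_comp]
    exact hχ2
  · rintro χ' ⟨hχ'1, hχ'2⟩
    apply F.toFunctor.map_injective
    apply hχu
    refine ⟨inferInstance, ?_⟩
    change F.toFunctor.map χ' ≫ F.toFunctor.map φ = F.toFunctor.map φ'
    rw [← Functor.map_comp, hχ'2]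

/-- A fully faithful functor over `C`, essentially surjective over `C`, preserves strongly
cartesian morphisms. -/
theorem isStronglyCartesian_map_of_ff_ess (F : 𝒳 ⥤ᵇ 𝒴) [F.toFunctor.Full]
    [F.toFunctor.Faithful] (hes : EssSurjOver F) {R S : C} (f : R ⟶ S) {a b : 𝒳.obj}
    (φ : a ⟶ b) [h : 𝒳.p.IsStronglyCartesian f φ] : 𝒴.p.IsStronglyCartesian f (F.map φ) := by
  refine { toIsHomLift := inferInstance, universal_property' := ?_ }
  intro a' g φ' hφ'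
  obtain ⟨ξ, e, he⟩ := hes a'
  have heinv : 𝒴.p.IsHomLift (𝟙 (𝒴.p.obj a')) e.inv := IsHomLift.lift_id_inv 𝒴.p _ e
  obtain ⟨ψ, hψ⟩ := F.toFunctor.map_surjective (e.hom ≫ φ')
  have h1 : 𝒴.p.IsHomLift (g ≫ f) (F.map ψ) := by
    change 𝒴.p.IsHomLift (g ≫ f) (F.toFunctor.map ψ)
    rw [hψ]; infer_instance
  have h2 : 𝒳.p.IsHomLift (g ≫ f) ψ := BasedFunctor.isHomLift_map F (g ≫ f) ψ
  obtain ⟨χ₀, ⟨hχ1, hχ2⟩, hχu⟩ := IsStronglyCartesian.universal_property 𝒳.p f φ g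
    (g ≫ f) rfl ψ
  have h3 : 𝒴.p.IsHomLift g (F.map χ₀) := inferInstance
  refine ⟨e.inv ≫ F.map χ₀, ⟨inferInstance, ?_⟩, ?_⟩
  · change (e.inv ≫ F.toFunctor.map χ₀) ≫ F.toFunctor.map φ = φ'
    rw [Category.assoc, ← Functor.map_comp, hχ2, hψ, Iso.inv_hom_id_assoc]
  · rintro χ' ⟨hχ'1, hχ'2⟩
    obtain ⟨χ₀', hχ₀'⟩ := F.toFunctor.map_surjective (e.hom ≫ χ')
    have h4 : 𝒴.p.IsHomLift g (F.map χ₀') := by
      change 𝒴.p.IsHomLift g (F.toFunctor.map χ₀')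
      rw [hχ₀']; infer_instance
    have h5 : 𝒳.p.IsHomLift g χ₀' := BasedFunctor.isHomLift_map F g χ₀'
    have h6 : χ₀' ≫ φ = ψ := by
      apply F.toFunctor.map_injective
      rw [Functor.map_comp, hχ₀', hψ, Category.assoc]
      congr 1
    have h7 : χ₀' = χ₀ := hχu χ₀' ⟨h5, h6⟩
    rw [← h7]
    change χ' = e.inv ≫ F.toFunctor.map χ₀'
    rw [hχ₀', Iso.inv_hom_id_assoc]

/-- An equivalence over `C` preserves strongly cartesian morphisms. -/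
theorem IsEquivOver.isStronglyCartesian_map (F : 𝒳 ⥤ᵇ 𝒴) (hF : FibCat.IsEquivOver F)
    {R S : C} (f : R ⟶ S) {a b : 𝒳.obj} (φ : a ⟶ b) [𝒳.p.IsStronglyCartesian f φ] :
    𝒴.p.IsStronglyCartesian f (F.map φ) := by
  have := IsEquivOver.isEquivalence F hF
  exact isStronglyCartesian_map_of_ff_ess F (IsEquivOver.essSurjOver F hF) f φ

/-- The inverse of an equivalence over `C` is an equivalence over `C`. -/
theorem IsEquivOver.exists_inverse (F : 𝒳 ⥤ᵇ 𝒴) (hF : FibCat.IsEquivOver F) :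
    ∃ G : 𝒴 ⥤ᵇ 𝒳, FibCat.IsEquivOver G := by
  obtain ⟨G, α, β, hα, hβ⟩ := IsEquivOver.exists_data F hF
  exact ⟨G, IsEquivOver.of_data G F β α hβ hα⟩

/-- An equivalence over `C` transports fibredness. -/
theorem IsEquivOver.isFibered_of_isFibered (F : 𝒳 ⥤ᵇ 𝒴) (hF : FibCat.IsEquivOver F)
    [𝒳.p.IsFibered] : 𝒴.p.IsFibered := by
  apply IsFibered.of_exists_isStronglyCartesian
  intro η R f
  obtain ⟨ξ, e, he⟩ := IsEquivOver.essSurjOver F hF η
  have hξ : 𝒳.p.obj ξ = 𝒴.p.obj η := by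
    rw [← F.w_obj ξ]
    exact IsHomLift.domain_eq 𝒴.p (𝟙 (𝒴.p.obj η)) e.hom
  obtain ⟨ξ', ψ, hψ⟩ := IsPreFibered.exists_isCartesian 𝒳.p (a := ξ) hξ f
  have hψ' : 𝒳.p.IsStronglyCartesian f ψ := IsFibered.isStronglyCartesian_of_isCartesian 𝒳.p f ψ
  have h1 : 𝒴.p.IsStronglyCartesian f (F.map ψ) := IsEquivOver.isStronglyCartesian_map F hF f ψ
  have h2 : 𝒴.p.IsStronglyCartesian (𝟙 (𝒴.p.obj η)) e.hom := inferInstance
  have h3 : 𝒴.p.IsStronglyCartesian (f ≫ 𝟙 (𝒴.p.obj η)) (F.map ψ ≫ e.hom) := inferInstance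
  rw [Category.comp_id] at h3
  exact ⟨_, _, h3⟩

theorem IsEquivOver.isFibered_iff (F : 𝒳 ⥤ᵇ 𝒴) (hF : FibCat.IsEquivOver F) :
    𝒳.p.IsFibered ↔ 𝒴.p.IsFibered := by
  constructor
  · intro h
    exact IsEquivOver.isFibered_of_isFibered F hF
  · intro h
    obtain ⟨G, α, β, hα, hβ⟩ := IsEquivOver.exists_data F hF
    exact IsEquivOver.isFibered_of_isFibered G (IsEquivOver.of_data G F β α hβ hα)

end Preserve

end Groth.Agent.Lib.Helper17
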