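-- helper17: equivalences over the base preserve and reflect cartesian morphisms.
import Groth.Agent.Lib.Helper17FibEquiv2

set_option autoImplicit false
open CategoryTheory CategoryTheory.Functor

universe v₁ u₁ v₂ u₂ v₃ u₃

namespace Groth.Agent.Lib.Helper17

section PreserveCart

variable {C : Type u₁} [Category.{v₁} C] {𝒳 : BasedCategory.{v₂, u₂} C}
  {𝒴 : BasedCategory.{v₃, u₃} C}

/-- A fully faithful functor over `C` reflects cartesian morphisms. -/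
theorem isCartesian_of_map_of_ff (F : 𝒳 ⥤ᵇ 𝒴) [F.toFunctor.Full] [F.toFunctor.Faithful]
    {R S : C} (f : R ⟶ S) {a b : 𝒳.obj} (φ : a ⟶ b) [h : 𝒴.p.IsCartesian f (F.map φ)] :
    𝒳.p.IsCartesian f φ := by
  have hl : 𝒳.p.IsHomLift f φ := BasedFunctor.isHomLift_map F f φ
  refine { toIsHomLift := hl, universal_property := ?_ }
  intro a' φ' hφ'
  have h1 : 𝒴.p.IsHomLift f (F.map φ') := inferInstance
  obtain ⟨χ, ⟨hχ1, hχ2⟩, hχu⟩ := IsCartesian.universal_property (p := 𝒴.p) (f := f)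
    (φ := F.map φ) (F.map φ')
  obtain ⟨χ₀, rfl⟩ := F.toFunctor.map_surjective χ
  have hχ₀ : 𝒳.p.IsHomLift (𝟙 R) χ₀ := BasedFunctor.isHomLift_map F (𝟙 R) χ₀
  refine ⟨χ₀, ⟨hχ₀, ?_⟩, ?_⟩
  · apply F.toFunctor.map_injective
    rw [Functor.map_comp]
    exact hχ2
  · rintro χ' ⟨hχ'1, hχ'2⟩
    apply F.toFunctor.map_injective
    apply hχu
    refine ⟨inferInstance, ?_⟩
    change F.toFunctor.map χ' ≫ F.toFunctor.map φ = F.toFunctor.map φ'
    rw [← Functor.map_comp, hχ'2]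

/-- A fully faithful functor over `C`, essentially surjective over `C`, preserves cartesian
morphisms. -/
theorem isCartesian_map_of_ff_ess (F : 𝒳 ⥤ᵇ 𝒴) [F.toFunctor.Full]
    [F.toFunctor.Faithful] (hes : EssSurjOver F) {R S : C} (f : R ⟶ S) {a b : 𝒳.obj}
    (φ : a ⟶ b) [h : 𝒳.p.IsCartesian f φ] : 𝒴.p.IsCartesian f (F.map φ) := by
  refine { toIsHomLift := inferInstance, universal_property := ?_ }
  intro a' φ' hφ'
  obtain ⟨ξ, e, he⟩ := hes a'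
  have hR : 𝒴.p.obj a' = R := IsHomLift.domain_eq 𝒴.p f φ'
  have he' : 𝒴.p.IsHomLift (𝟙 R) e.hom := isHomLift_id_of_eq 𝒴.p hR e.hom
  have heinv : 𝒴.p.IsHomLift (𝟙 R) e.inv := IsHomLift.lift_id_inv 𝒴.p R e
  obtain ⟨ψ, hψ⟩ := F.toFunctor.map_surjective (e.hom ≫ φ')
  have h1 : 𝒴.p.IsHomLift f (F.map ψ) := by
    change 𝒴.p.IsHomLift f (F.toFunctor.map ψ)
    rw [hψ]; infer_instance
  have h2 : 𝒳.p.IsHomLift f ψ := BasedFunctor.isHomLift_map F f ψ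
  obtain ⟨χ₀, ⟨hχ1, hχ2⟩, hχu⟩ := IsCartesian.universal_property (p := 𝒳.p) (f := f)
    (φ := φ) ψ
  have h3 : 𝒴.p.IsHomLift (𝟙 R) (F.map χ₀) := inferInstance
  refine ⟨e.inv ≫ F.map χ₀, ⟨inferInstance, ?_⟩, ?_⟩
  · change (e.inv ≫ F.toFunctor.map χ₀) ≫ F.toFunctor.map φ = φ'
    rw [Category.assoc, ← Functor.map_comp, hχ2, hψ, Iso.inv_hom_id_assoc]
  · rintro χ' ⟨hχ'1, hχ'2⟩
    obtain ⟨χ₀', hχ₀'⟩ := F.toFunctor.map_surjective (e.hom ≫ χ')
    have h4 : 𝒴.p.IsHomLift (𝟙 R) (F.map χ₀') := by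
      change 𝒴.p.IsHomLift (𝟙 R) (F.toFunctor.map χ₀')
      rw [hχ₀']; infer_instance
    have h5 : 𝒳.p.IsHomLift (𝟙 R) χ₀' := BasedFunctor.isHomLift_map F (𝟙 R) χ₀'
    have h6 : χ₀' ≫ φ = ψ := by
      apply F.toFunctor.map_injective
      rw [Functor.map_comp, hχ₀', hψ, Category.assoc]
      congr 1
    have h7 : χ₀' = χ₀ := hχu χ₀' ⟨h5, h6⟩
    rw [← h7]
    change χ' = e.inv ≫ F.toFunctor.map χ₀'
    rw [hχ₀', Iso.inv_hom_id_assoc]

/-- For an equivalence over `C`, a morphism is cartesian iff its image is. -/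
theorem IsEquivOver.isCartesian_map_iff (F : 𝒳 ⥤ᵇ 𝒴) (hF : FibCat.IsEquivOver F)
    {R S : C} (f : R ⟶ S) {a b : 𝒳.obj} (φ : a ⟶ b) :
    𝒴.p.IsCartesian f (F.toFunctor.map φ) ↔ 𝒳.p.IsCartesian f φ := by
  have := IsEquivOver.isEquivalence F hF
  constructor
  · intro h
    exact isCartesian_of_map_of_ff F f φ
  · intro h
    exact isCartesian_map_of_ff_ess F (IsEquivOver.essSurjOver F hF) f φ

end PreserveCart

end Groth.Agent.Lib.Helper17
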