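-- helper17: transportable structure functors and equivalences over the base.
import Groth.Agent.Lib.Helper17FibEquiv3

set_option autoImplicit false
open CategoryTheory CategoryTheory.Functor

universe v₁ u₁ v₂ u₂ v₃ u₃

namespace Groth.Agent.Lib.Helper17

section Transportable

variable {C : Type u₁} [Category.{v₁} C] {𝒳 : BasedCategory.{v₂, u₂} C}
  {𝒴 : BasedCategory.{v₃, u₃} C}

/-- If isomorphisms of the base lift to `𝒳`, a functor over `C` out of `𝒳` which is an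
equivalence of categories is an equivalence over `C`. -/
theorem isEquivOver_of_isEquivalence_of_exists_lift_iso
    (h𝒳 : ∀ ⦃T S : C⦄ (α : T ≅ S) (ξ : 𝒳.obj), 𝒳.p.obj ξ = T →
      ∃ (ξ' : 𝒳.obj) (e : ξ ≅ ξ'), 𝒳.p.IsHomLift α.hom e.hom)
    (F : 𝒳 ⥤ᵇ 𝒴) [F.toFunctor.IsEquivalence] : FibCat.IsEquivOver F := by
  apply isEquivOver_of_fullyFaithful_of_essSurjOver
  intro η
  let ξ₀ := F.toFunctor.objPreimage η
  let i : F.toFunctor.obj ξ₀ ≅ η := F.toFunctor.objObjPreimageIso η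
  let α : 𝒳.p.obj ξ₀ ≅ 𝒴.p.obj η := eqToIso (F.w_obj ξ₀).symm ≪≫ 𝒴.p.mapIso i
  have hi : 𝒴.p.IsHomLift α.hom i.hom :=
    IsHomLift.of_fac 𝒴.p α.hom i.hom (F.w_obj ξ₀) rfl (by simp [α])
  obtain ⟨ξ', e, he⟩ := h𝒳 α ξ₀ rfl
  have h1 : 𝒴.p.IsHomLift α.hom (F.map e.hom) := inferInstance
  have h2 : 𝒴.p.IsHomLift α.hom (F.toFunctor.mapIso e).hom := h1
  have h3 : 𝒴.p.IsHomLift α.inv (F.toFunctor.mapIso e).inv :=
    IsHomLift.inv_lift_inv 𝒴.p α (F.toFunctor.mapIso e)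
  have h4 : 𝒴.p.IsHomLift (α.inv ≫ α.hom) ((F.toFunctor.mapIso e).inv ≫ i.hom) := inferInstance
  rw [Iso.inv_hom_id] at h4
  exact ⟨ξ', (F.toFunctor.mapIso e).symm ≪≫ i, h4⟩

end Transportable

end Groth.Agent.Lib.Helper17
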