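-- helper17: full faithfulness of functors over a base, tested on fibres.
import Groth.Agent.Lib.Helper17FibCat
import Groth.Prelude.Def_W4stkcategoriessitesFib

set_option autoImplicit false
open CategoryTheory CategoryTheory.Functor

universe v₁ u₁ v₂ u₂ v₃ u₃

namespace Groth.Agent.Lib.Helper17

section FF

variable {C : Type u₁} [Category.{v₁} C] {𝒳 : BasedCategory.{v₂, u₂} C}
  {𝒴 : BasedCategory.{v₃, u₃} C}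

/-- `G` has enough strongly cartesian lifts that stay strongly cartesian. -/
def HasGoodLifts (G : 𝒳 ⥤ᵇ 𝒴) : Prop :=
  ∀ (b : 𝒳.obj) (R : C) (f : R ⟶ 𝒳.p.obj b), ∃ (a' : 𝒳.obj) (ψ : a' ⟶ b),
    𝒳.p.IsStronglyCartesian f ψ ∧ 𝒴.p.IsStronglyCartesian f (G.map ψ)

/-- Faithfulness on morphisms over identities. -/
def FiberwiseFaithful (G : 𝒳 ⥤ᵇ 𝒴) : Prop :=
  ∀ (U : C) (a a' : 𝒳.obj) (χ₁ χ₂ : a ⟶ a'), 𝒳.p.IsHomLift (𝟙 U) χ₁ → 𝒳.p.IsHomLift (𝟙 U) χ₂ →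
    G.map χ₁ = G.map χ₂ → χ₁ = χ₂

/-- Fullness on morphisms over identities. -/
def FiberwiseFull (G : 𝒳 ⥤ᵇ 𝒴) : Prop :=
  ∀ (U : C) (a a' : 𝒳.obj), 𝒳.p.obj a = U → 𝒳.p.obj a' = U → ∀ τ : G.obj a ⟶ G.obj a',
    𝒴.p.IsHomLift (𝟙 U) τ → ∃ χ : a ⟶ a', 𝒳.p.IsHomLift (𝟙 U) χ ∧ G.map χ = τ

theorem faithful_of_fiberwise (G : 𝒳 ⥤ᵇ 𝒴) (h1 : HasGoodLifts G) (h2 : FiberwiseFaithful G) :
    G.toFunctor.Faithful := by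
  refine ⟨fun {a b} φ₁ φ₂ h => ?_⟩
  change G.map φ₁ = G.map φ₂ at h
  obtain ⟨a', ψ, hψ, hGψ⟩ := h1 b (𝒳.p.obj a) (𝒳.p.map φ₁)
  have hl1 : 𝒳.p.IsHomLift (𝒳.p.map φ₁) φ₁ := inferInstance
  have hl2 : 𝒳.p.IsHomLift (𝒳.p.map φ₁) φ₂ := by
    rw [← BasedFunctor.isHomLift_iff G, ← h]
    infer_instance
  obtain ⟨χ₁, ⟨hχ1, hχ1'⟩, -⟩ := IsStronglyCartesian.universal_property 𝒳.p (𝒳.p.map φ₁) ψ
    (𝟙 _) (𝒳.p.map φ₁) (by simp) φ₁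
  obtain ⟨χ₂, ⟨hχ2, hχ2'⟩, -⟩ := IsStronglyCartesian.universal_property 𝒳.p (𝒳.p.map φ₁) ψ
    (𝟙 _) (𝒳.p.map φ₁) (by simp) φ₂
  have e : G.map χ₁ = G.map χ₂ := by
    apply IsStronglyCartesian.ext 𝒴.p (𝒳.p.map φ₁) (G.map ψ) (𝟙 _)
    rw [← G.map_comp, ← G.map_comp, hχ1', hχ2', h]
  have := h2 _ _ _ χ₁ χ₂ hχ1 hχ2 e
  rw [← hχ1', ← hχ2', this]

theorem full_of_fiberwise (G : 𝒳 ⥤ᵇ 𝒴) (h1 : HasGoodLifts G) (h2 : FiberwiseFull G) :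
    G.toFunctor.Full := by
  refine ⟨fun {a b} θ => ?_⟩
  change G.obj a ⟶ G.obj b at θ
  -- the morphism of `C` under `θ`
  let f : 𝒳.p.obj a ⟶ 𝒳.p.obj b :=
    eqToHom (G.w_obj a).symm ≫ 𝒴.p.map θ ≫ eqToHom (G.w_obj b)
  have hθ : 𝒴.p.IsHomLift f θ := IsHomLift.of_fac 𝒴.p f θ (G.w_obj a) (G.w_obj b) rfl
  obtain ⟨a', ψ, hψ, hGψ⟩ := h1 b (𝒳.p.obj a) f
  obtain ⟨τ, ⟨hτ1, hτ2⟩, -⟩ := IsStronglyCartesian.universal_property 𝒴.p f (G.map ψ)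
    (𝟙 _) f (by simp) θ
  obtain ⟨χ, hχ1, hχ2⟩ := h2 (𝒳.p.obj a) a a' rfl (IsHomLift.domain_eq 𝒳.p f ψ) τ hτ1
  refine ⟨χ ≫ ψ, ?_⟩
  change G.map (χ ≫ ψ) = θ
  rw [G.map_comp, hχ2, hτ2]

end FF

section FiberFunctor

variable {C : Type u₁} [Category.{v₁} C] {𝒳 : BasedCategory.{v₂, u₂} C}
  {𝒴 : BasedCategory.{v₃, u₃} C}

theorem hasGoodLifts_of_isFibGrpd (G : 𝒳 ⥤ᵇ 𝒴) (h𝒳 : FibCat.IsFibGrpd 𝒳.p)
    (h𝒴 : FibCat.IsFibGrpd 𝒴.p) : HasGoodLifts G := by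
  intro b R f
  obtain ⟨a', ψ, hψ⟩ := h𝒳.exists_lift f
  refine ⟨a', ψ, IsFibGrpd.isStronglyCartesian_of_isHomLift h𝒳 f ψ, ?_⟩
  have : 𝒴.p.IsHomLift f (G.map ψ) := inferInstance
  exact IsFibGrpd.isStronglyCartesian_of_isHomLift h𝒴 f (G.map ψ)

theorem fiberwiseFaithful_iff (G : 𝒳 ⥤ᵇ 𝒴) :
    FiberwiseFaithful G ↔ ∀ U : C, (FibCat.fiberFunctor G U).Faithful := by
  constructor
  · intro h U
    refine ⟨fun {X Y} m₁ m₂ e => ?_⟩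
    have e' : G.map m₁.1 = G.map m₂.1 := congrArg Subtype.val e
    exact Subtype.ext (h U X.1 Y.1 m₁.1 m₂.1 m₁.2 m₂.2 e')
  · intro h U a a' χ₁ χ₂ h1 h2 e
    let X : 𝒳.p.Fiber U := ⟨a, IsHomLift.domain_eq 𝒳.p (𝟙 U) χ₁⟩
    let Y : 𝒳.p.Fiber U := ⟨a', IsHomLift.codomain_eq 𝒳.p (𝟙 U) χ₁⟩
    let m₁ : X ⟶ Y := ⟨χ₁, h1⟩
    let m₂ : X ⟶ Y := ⟨χ₂, h2⟩
    have e' : (FibCat.fiberFunctor G U).map m₁ = (FibCat.fiberFunctor G U).map m₂ :=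
      Subtype.ext e
    have := (h U).map_injective e'
    exact congrArg Subtype.val this

theorem fiberwiseFull_of_full (G : 𝒳 ⥤ᵇ 𝒴) (h : ∀ U : C, (FibCat.fiberFunctor G U).Full) :
    FiberwiseFull G := by
  intro U a a' ha ha' τ hτ
  let X : 𝒳.p.Fiber U := ⟨a, ha⟩
  let Y : 𝒳.p.Fiber U := ⟨a', ha'⟩
  let n : (FibCat.fiberFunctor G U).obj X ⟶ (FibCat.fiberFunctor G U).obj Y := ⟨τ, hτ⟩
  obtain ⟨m, hm⟩ := (h U).map_surjective n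
  exact ⟨m.1, m.2, congrArg Subtype.val hm⟩

theorem fiberFunctor_full_of_full_faithful (G : 𝒳 ⥤ᵇ 𝒴) [G.toFunctor.Full]
    [G.toFunctor.Faithful] (U : C) : (FibCat.fiberFunctor G U).Full := by
  refine ⟨fun {X Y} n => ?_⟩
  obtain ⟨φ, hφ⟩ := G.toFunctor.map_surjective (X := X.1) (Y := Y.1) n.1
  have hl : 𝒴.p.IsHomLift (𝟙 U) (G.map φ) := by
    change 𝒴.p.IsHomLift (𝟙 U) (G.toFunctor.map φ)
    rw [hφ]; exact n.2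
  have hl' : 𝒳.p.IsHomLift (𝟙 U) φ := (BasedFunctor.isHomLift_iff G (𝟙 U) φ).mp hl
  exact ⟨⟨φ, hl'⟩, Subtype.ext hφ⟩

/-- Faithfulness can be tested on fibres (categories fibred in groupoids). -/
theorem faithful_iff_fiberFunctor_faithful (G : 𝒳 ⥤ᵇ 𝒴) (h𝒳 : FibCat.IsFibGrpd 𝒳.p)
    (h𝒴 : FibCat.IsFibGrpd 𝒴.p) :
    G.toFunctor.Faithful ↔ ∀ U : C, (FibCat.fiberFunctor G U).Faithful := by
  constructor
  · intro hG U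
    refine ⟨fun {X Y} m₁ m₂ e => ?_⟩
    have e' : G.toFunctor.map m₁.1 = G.toFunctor.map m₂.1 := congrArg Subtype.val e
    exact Subtype.ext (G.toFunctor.map_injective e')
  · intro h
    exact faithful_of_fiberwise G (hasGoodLifts_of_isFibGrpd G h𝒳 h𝒴)
      ((fiberwiseFaithful_iff G).mpr h)

/-- Full faithfulness can be tested on fibres (categories fibred in groupoids). -/
theorem fullyFaithful_iff_fiberFunctor_fullyFaithful (G : 𝒳 ⥤ᵇ 𝒴) (h𝒳 : FibCat.IsFibGrpd 𝒳.p)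
    (h𝒴 : FibCat.IsFibGrpd 𝒴.p) :
    (G.toFunctor.Full ∧ G.toFunctor.Faithful) ↔
      ∀ U : C, (FibCat.fiberFunctor G U).Full ∧ (FibCat.fiberFunctor G U).Faithful := by
  constructor
  · rintro ⟨hfull, hfaith⟩ U
    exact ⟨fiberFunctor_full_of_full_faithful G U,
      (faithful_iff_fiberFunctor_faithful G h𝒳 h𝒴).mp hfaith U⟩
  · intro h
    have hgl := hasGoodLifts_of_isFibGrpd G h𝒳 h𝒴
    exact ⟨full_of_fiberwise G hgl (fiberwiseFull_of_full G fun U => (h U).1),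
      faithful_of_fiberwise G hgl ((fiberwiseFaithful_iff G).mpr fun U => (h U).2)⟩

end FiberFunctor

end Groth.Agent.Lib.Helper17
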