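-- helper17: fibre functors given abstractly (GU with GU ⋙ incl = incl ⋙ G) and cartesian functors.
import Groth.Agent.Lib.Helper17FibFF

set_option autoImplicit false
open CategoryTheory CategoryTheory.Functor

universe v₁ u₁ v₂ u₂ v₃ u₃

namespace Groth.Agent.Lib.Helper17

section GU

variable {C : Type u₁} [Category.{v₁} C] {𝒳 : BasedCategory.{v₂, u₂} C}
  {𝒴 : BasedCategory.{v₃, u₃} C}

/-- A functor between fibres commuting strictly with the inclusions is the induced one. -/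
theorem GU_eq_fiberFunctor (G : 𝒳 ⥤ᵇ 𝒴) (U : C) (GU : 𝒳.p.Fiber U ⥤ 𝒴.p.Fiber U)
    (h : GU ⋙ Functor.Fiber.fiberInclusion = Functor.Fiber.fiberInclusion ⋙ G.toFunctor) :
    GU = FibCat.fiberFunctor G U := by
  refine Functor.ext (fun X => ?_) (fun X Y m => ?_)
  · exact Functor.Fiber.fiberInclusion_obj_inj (Functor.congr_obj h X)
  · apply Functor.Fiber.hom_ext
    have := Functor.congr_hom h m
    simp only [Functor.comp_map] at this
    rw [this, Functor.map_comp, Functor.map_comp, eqToHom_map, eqToHom_map]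
    rfl

/-- Good lifts for a cartesian functor between fibred categories. -/
theorem hasGoodLifts_of_isFibered (G : 𝒳 ⥤ᵇ 𝒴) [𝒳.p.IsFibered]
    (hG : ∀ ⦃a b : 𝒳.obj⦄ (φ : a ⟶ b), 𝒳.p.IsStronglyCartesian (𝒳.p.map φ) φ →
      𝒴.p.IsStronglyCartesian (𝒳.p.map φ) (G.toFunctor.map φ)) : HasGoodLifts G := by
  intro b R f
  obtain ⟨a', ψ, hψ⟩ := IsPreFibered.exists_isCartesian' (p := 𝒳.p) (a := b) f
  have hψ' : 𝒳.p.IsStronglyCartesian f ψ := IsFibered.isStronglyCartesian_of_isCartesian 𝒳.p f ψ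
  refine ⟨a', ψ, hψ', ?_⟩
  have h1 : 𝒳.p.IsStronglyCartesian (𝒳.p.map ψ) ψ := isStronglyCartesian_map 𝒳.p f ψ
  have h2 : 𝒴.p.IsStronglyCartesian (𝒳.p.map ψ) (G.map ψ) := hG ψ h1
  have h3 : 𝒴.p.IsHomLift f (G.map ψ) := inferInstance
  have h4 : 𝒴.p.IsStronglyCartesian (𝒴.p.map (G.map ψ)) (G.map ψ) :=
    isStronglyCartesian_map 𝒴.p (𝒳.p.map ψ) (G.map ψ)
  exact isStronglyCartesian_of_map 𝒴.p f (G.map ψ)

/-- A cartesian functor between fibred categories which is fully faithful on fibres is fully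
faithful. -/
theorem full_and_faithful_of_fiber_of_isFibered (G : 𝒳 ⥤ᵇ 𝒴) [𝒳.p.IsFibered]
    (hG : ∀ ⦃a b : 𝒳.obj⦄ (φ : a ⟶ b), 𝒳.p.IsStronglyCartesian (𝒳.p.map φ) φ →
      𝒴.p.IsStronglyCartesian (𝒳.p.map φ) (G.toFunctor.map φ))
    (GU : ∀ U : C, 𝒳.p.Fiber U ⥤ 𝒴.p.Fiber U)
    (hGU : ∀ U : C, GU U ⋙ Functor.Fiber.fiberInclusion =
      Functor.Fiber.fiberInclusion ⋙ G.toFunctor)
    (hfull : ∀ U : C, (GU U).Full) (hfaith : ∀ U : C, (GU U).Faithful) :
    G.toFunctor.Full ∧ G.toFunctor.Faithful := by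
  have e : ∀ U, GU U = FibCat.fiberFunctor G U := fun U => GU_eq_fiberFunctor G U (GU U) (hGU U)
  have hfull' : ∀ U : C, (FibCat.fiberFunctor G U).Full := fun U => by rw [← e U]; exact hfull U
  have hfaith' : ∀ U : C, (FibCat.fiberFunctor G U).Faithful :=
    fun U => by rw [← e U]; exact hfaith U
  have hgl := hasGoodLifts_of_isFibered G hG
  exact ⟨full_of_fiberwise G hgl (fiberwiseFull_of_full G hfull'),
    faithful_of_fiberwise G hgl ((fiberwiseFaithful_iff G).mpr hfaith')⟩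

end GU

end Groth.Agent.Lib.Helper17
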