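-- helper17: equivalences over the base tested on fibres.
import Groth.Agent.Lib.Helper17FibEquiv4
import Groth.Agent.Lib.Helper17FibGU

set_option autoImplicit false
open CategoryTheory CategoryTheory.Functor

universe v₁ u₁ v₂ u₂ v₃ u₃

namespace Groth.Agent.Lib.Helper17

section FiberEquiv

variable {C : Type u₁} [Category.{v₁} C] {𝒳 : BasedCategory.{v₂, u₂} C}
  {𝒴 : BasedCategory.{v₃, u₃} C}

theorem essSurjOver_iff_fiberFunctor_essSurj (G : 𝒳 ⥤ᵇ 𝒴) :
    EssSurjOver G ↔ ∀ U : C, (FibCat.fiberFunctor G U).EssSurj := by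
  constructor
  · intro h U
    refine ⟨fun η => ?_⟩
    obtain ⟨ξ, e, he⟩ := h η.1
    have hξ : 𝒳.p.obj ξ = U := by
      rw [← G.w_obj ξ]
      exact (IsHomLift.domain_eq 𝒴.p (𝟙 (𝒴.p.obj η.1)) e.hom).trans η.2
    have he' : 𝒴.p.IsHomLift (𝟙 U) e.hom := isHomLift_id_of_eq 𝒴.p η.2 e.hom
    have heinv : 𝒴.p.IsHomLift (𝟙 U) e.inv := IsHomLift.lift_id_inv 𝒴.p U e
    let X : 𝒳.p.Fiber U := ⟨ξ, hξ⟩
    refine ⟨X, ⟨?_⟩⟩
    exact
      { hom := ⟨e.hom, he'⟩
        inv := ⟨e.inv, heinv⟩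
        hom_inv_id := Subtype.ext e.hom_inv_id
        inv_hom_id := Subtype.ext e.inv_hom_id }
  · intro h η
    let U := 𝒴.p.obj η
    let Y : 𝒴.p.Fiber U := ⟨η, rfl⟩
    have := h U
    let X := (FibCat.fiberFunctor G U).objPreimage Y
    let i : (FibCat.fiberFunctor G U).obj X ≅ Y := (FibCat.fiberFunctor G U).objObjPreimageIso Y
    refine ⟨X.1, Functor.Fiber.fiberInclusion.mapIso i, ?_⟩
    exact i.hom.2

/-- A fully faithful functor over `C` is fully faithful on each fibre. -/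
theorem fiberFunctor_faithful_of_faithful (G : 𝒳 ⥤ᵇ 𝒴) [G.toFunctor.Faithful] (U : C) :
    (FibCat.fiberFunctor G U).Faithful := by
  refine ⟨fun {X Y} m₁ m₂ e => ?_⟩
  have e' : G.toFunctor.map m₁.1 = G.toFunctor.map m₂.1 := congrArg Subtype.val e
  exact Subtype.ext (G.toFunctor.map_injective e')

/-- An equivalence over `C` induces equivalences on all fibres. -/
theorem IsEquivOver.fiberFunctor_isEquivalence (G : 𝒳 ⥤ᵇ 𝒴) (hG : FibCat.IsEquivOver G)
    (U : C) : (FibCat.fiberFunctor G U).IsEquivalence := by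
  have := IsEquivOver.isEquivalence G hG
  have h1 := fiberFunctor_full_of_full_faithful G U
  have h2 := fiberFunctor_faithful_of_faithful G U
  have h3 := (essSurjOver_iff_fiberFunctor_essSurj G).mp (IsEquivOver.essSurjOver G hG) U
  exact { }

/-- A cartesian functor between fibred categories is an equivalence over `C` iff it induces
equivalences on all fibres. -/
theorem isEquivOver_iff_fiber_isEquivalence_of_isFibered (G : 𝒳 ⥤ᵇ 𝒴) [𝒳.p.IsFibered]
    (hG : ∀ ⦃a b : 𝒳.obj⦄ (φ : a ⟶ b), 𝒳.p.IsStronglyCartesian (𝒳.p.map φ) φ →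
      𝒴.p.IsStronglyCartesian (𝒳.p.map φ) (G.toFunctor.map φ))
    (GU : ∀ U : C, 𝒳.p.Fiber U ⥤ 𝒴.p.Fiber U)
    (hGU : ∀ U : C, GU U ⋙ Functor.Fiber.fiberInclusion =
      Functor.Fiber.fiberInclusion ⋙ G.toFunctor) :
    FibCat.IsEquivOver G ↔ ∀ U : C, (GU U).IsEquivalence := by
  have e : ∀ U, GU U = FibCat.fiberFunctor G U := fun U => GU_eq_fiberFunctor G U (GU U) (hGU U)
  constructor
  · intro h U
    rw [e U]
    exact IsEquivOver.fiberFunctor_isEquivalence G h U
  · intro h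
    have h' : ∀ U, (FibCat.fiberFunctor G U).IsEquivalence := fun U => by rw [← e U]; exact h U
    have hff := full_and_faithful_of_fiber_of_isFibered G hG GU hGU
      (fun U => by have := h U; infer_instance) (fun U => by have := h U; infer_instance)
    have := hff.1
    have := hff.2
    apply isEquivOver_of_fullyFaithful_of_essSurjOver
    rw [essSurjOver_iff_fiberFunctor_essSurj]
    intro U
    have := h' U
    infer_instance

/-- In a category fibred in groupoids isomorphisms of the base lift. -/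
theorem IsFibGrpd.exists_lift_iso (h𝒳 : FibCat.IsFibGrpd 𝒳.p) ⦃T S : C⦄ (α : T ≅ S)
    (ξ : 𝒳.obj) (hξ : 𝒳.p.obj ξ = T) :
    ∃ (ξ' : 𝒳.obj) (e : ξ ≅ ξ'), 𝒳.p.IsHomLift α.hom e.hom := by
  subst hξ
  obtain ⟨ξ', ψ, hψ⟩ := h𝒳.exists_lift (x := ξ) α.inv
  have hsc : 𝒳.p.IsStronglyCartesian α.inv ψ :=
    IsFibGrpd.isStronglyCartesian_of_isHomLift h𝒳 α.inv ψ
  have hiso : IsIso ψ := IsStronglyCartesian.isIso_of_base_isIso 𝒳.p α.inv ψ
  refine ⟨ξ', (asIso ψ).symm, ?_⟩
  have h1 : 𝒳.p.IsHomLift α.symm.hom (asIso ψ).hom := hψ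
  have h2 : 𝒳.p.IsHomLift α.symm.inv (asIso ψ).inv :=
    IsHomLift.inv_lift_inv 𝒳.p α.symm (asIso ψ)
  exact h2

/-- For categories fibred in groupoids: an equivalence of categories over `C` iff equivalences
on all fibres. -/
theorem isEquivalence_iff_fiberFunctor_isEquivalence (G : 𝒳 ⥤ᵇ 𝒴) (h𝒳 : FibCat.IsFibGrpd 𝒳.p)
    (h𝒴 : FibCat.IsFibGrpd 𝒴.p) :
    G.toFunctor.IsEquivalence ↔ ∀ U : C, (FibCat.fiberFunctor G U).IsEquivalence := by
  constructor
  · intro h U
    have hG : FibCat.IsEquivOver G :=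
      isEquivOver_of_isEquivalence_of_exists_lift_iso (IsFibGrpd.exists_lift_iso h𝒳) G
    exact IsEquivOver.fiberFunctor_isEquivalence G hG U
  · intro h
    have hff := (fullyFaithful_iff_fiberFunctor_fullyFaithful G h𝒳 h𝒴).mpr
      (fun U => by have := h U; exact ⟨inferInstance, inferInstance⟩)
    have := hff.1
    have := hff.2
    have hes : EssSurjOver G := (essSurjOver_iff_fiberFunctor_essSurj G).mpr
      (fun U => by have := h U; infer_instance)
    exact IsEquivOver.isEquivalence G (isEquivOver_of_fullyFaithful_of_essSurjOver G hes)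

end FiberEquiv

end Groth.Agent.Lib.Helper17
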