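-- helper17: categories fibred in sets (FibCat.IsFibSet) and composition.
import Groth.Agent.Lib.Helper17FibCat
import Groth.Agent.S11722

set_option autoImplicit false
open CategoryTheory CategoryTheory.Functor

universe v₁ u₁ v₂ u₂ v₃ u₃

namespace Groth.Agent.Lib.Helper17

section FibSet

variable {C : Type u₁} [Category.{v₁} C] {𝒢 : Type u₂} [Category.{v₂} 𝒢]

/-- In a category fibred in sets, two lifts of the same morphism with the same target agree. -/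
theorem IsFibSet.lift_unique {G : 𝒢 ⥤ C} (hG : FibCat.IsFibSet G) {η : 𝒢} {U : C}
    (f : U ⟶ G.obj η) {ξ ξ' : 𝒢} (φ : ξ ⟶ η) (φ' : ξ' ⟶ η) [h : G.IsHomLift f φ]
    [h' : G.IsHomLift f φ'] : ∃ e : ξ = ξ', φ = eqToHom e ≫ φ' := by
  obtain ⟨z, -, hz⟩ := (Groth.Agent.S11722.result G).mp hG η U f
  have e1 := hz ⟨ξ, φ⟩ h
  have e2 := hz ⟨ξ', φ'⟩ h'
  have e3 := e1.trans e2.symm
  rw [Sigma.mk.inj_iff] at e3
  obtain ⟨h1, h2⟩ := e3
  subst h1
  exact ⟨rfl, by simpa using eq_of_heq h2⟩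

/-- Existence of lifts in a category fibred in sets. -/
theorem IsFibSet.exists_lift {G : 𝒢 ⥤ C} (hG : FibCat.IsFibSet G) {η : 𝒢} {U : C}
    (f : U ⟶ G.obj η) : ∃ (ξ : 𝒢) (φ : ξ ⟶ η), G.IsHomLift f φ :=
  hG.1.exists_lift f

/-- A functor with unique lifts is fibred in sets. -/
theorem isFibSet_of_unique_lifts (G : 𝒢 ⥤ C)
    (hex : ∀ (η : 𝒢) (U : C) (f : U ⟶ G.obj η), ∃ (ξ : 𝒢) (φ : ξ ⟶ η), G.IsHomLift f φ)
    (huniq : ∀ (η : 𝒢) (U : C) (f : U ⟶ G.obj η) (ξ ξ' : 𝒢) (φ : ξ ⟶ η) (φ' : ξ' ⟶ η),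
      G.IsHomLift f φ → G.IsHomLift f φ' → ∃ e : ξ = ξ', φ = eqToHom e ≫ φ') :
    FibCat.IsFibSet G := by
  rw [Groth.Agent.S11722.result]
  intro η U f
  obtain ⟨ξ, φ, hφ⟩ := hex η U f
  refine ⟨⟨ξ, φ⟩, hφ, ?_⟩
  rintro ⟨ξ', φ'⟩ hφ'
  obtain ⟨e, he⟩ := huniq η U f ξ' ξ φ' φ hφ' hφ
  subst e
  simp only [eqToHom_refl, Category.id_comp] at he
  rw [he]

/-- A functor fibred in sets is faithful. -/
theorem IsFibSet.map_injective {G : 𝒢 ⥤ C} (hG : FibCat.IsFibSet G) {u v : 𝒢} (h h' : u ⟶ v)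
    (e : G.map h = G.map h') : h = h' := by
  have h2 : G.IsHomLift (G.map h) h' := by rw [e]; infer_instance
  obtain ⟨e', he'⟩ := IsFibSet.lift_unique hG (G.map h) h h'
  simpa using he'

end FibSet

section CompFibSet

variable {C : Type u₁} [Category.{v₁} C] {𝒢 : Type u₂} [Category.{v₂} 𝒢]
  {ℱ : Type u₃} [Category.{v₃} ℱ]

/-- A lift of `g` along `F` is a lift of `G g` along `F ⋙ G`. -/
theorem isHomLift_comp_of_isHomLift (F : ℱ ⥤ 𝒢) (G : 𝒢 ⥤ C) {u v : 𝒢} (g : u ⟶ v) {a b : ℱ}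
    (φ : a ⟶ b) [F.IsHomLift g φ] : (F ⋙ G).IsHomLift (G.map g) φ := by
  subst_hom_lift F g φ
  exact IsHomLift.map (F ⋙ G) φ

/-- If `G` is fibred in sets, a morphism `φ` of `ℱ` with `F b` the target of `g` which lifts
`G g` along `F ⋙ G` lifts `g` along `F`. -/
theorem IsFibSet.isHomLift_of_comp {G : 𝒢 ⥤ C} (hG : FibCat.IsFibSet G) (F : ℱ ⥤ 𝒢)
    {a b : ℱ} (φ : a ⟶ b) {u : 𝒢} (g : u ⟶ F.obj b) [h : (F ⋙ G).IsHomLift (G.map g) φ] :
    F.IsHomLift g φ := by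
  have h1 : G.IsHomLift (G.map g) (F.map φ) := (isHomLift_comp_iff F G _ φ).mp h
  obtain ⟨e, he⟩ := IsFibSet.lift_unique hG (G.map g) g (F.map φ)
  subst e
  simp only [eqToHom_refl, Category.id_comp] at he
  rw [he]
  infer_instance

/-- If `G` is fibred in sets, strongly cartesian for `F ⋙ G` implies strongly cartesian
for `F`. -/
theorem IsFibSet.isStronglyCartesian_of_comp {G : 𝒢 ⥤ C} (hG : FibCat.IsFibSet G) (F : ℱ ⥤ 𝒢)
    {x y : ℱ} (φ : x ⟶ y) [h : (F ⋙ G).IsStronglyCartesian ((F ⋙ G).map φ) φ] :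
    F.IsStronglyCartesian (F.map φ) φ := by
  refine { toIsHomLift := inferInstance, universal_property' := ?_ }
  intro a' k φ' hφ'
  have h1 : (F ⋙ G).IsHomLift (G.map k ≫ (F ⋙ G).map φ) φ' := by
    rw [isHomLift_comp_iff]
    have : G.map k ≫ (F ⋙ G).map φ = G.map (k ≫ F.map φ) := by simp
    rw [this, ← map_eq_of_isHomLift F (k ≫ F.map φ) φ']
    infer_instance
  obtain ⟨χ, ⟨hχ1, hχ2⟩, hχu⟩ := IsStronglyCartesian.universal_property (F ⋙ G)
    ((F ⋙ G).map φ) φ (G.map k) (G.map k ≫ (F ⋙ G).map φ) rfl φ'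
  have hχ3 : F.IsHomLift k χ := IsFibSet.isHomLift_of_comp hG F χ k
  refine ⟨χ, ⟨hχ3, hχ2⟩, ?_⟩
  rintro χ' ⟨hχ'1, hχ'2⟩
  have h2 : (F ⋙ G).IsHomLift (G.map k) χ' := by
    rw [isHomLift_comp_iff, map_eq_of_isHomLift F k χ']
    infer_instance
  exact hχu χ' ⟨h2, hχ'2⟩

/-- `F` is fibred iff `F ⋙ G` is, for `G` fibred in sets. -/
theorem IsFibSet.isFibered_iff_comp {G : 𝒢 ⥤ C} (hG : FibCat.IsFibSet G) (F : ℱ ⥤ 𝒢) :
    F.IsFibered ↔ (F ⋙ G).IsFibered := by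
  constructor
  · intro hF
    have := IsFibGrpd.isFibered hG.1
    exact isFibered_comp F G
  · intro hFG
    apply IsFibered.of_exists_isStronglyCartesian
    intro a u g
    obtain ⟨b, φ, hφ⟩ := IsPreFibered.exists_isCartesian' (p := F ⋙ G) (a := a) (G.map g)
    have hφ' : (F ⋙ G).IsStronglyCartesian (G.map g) φ := inferInstance
    have h1 : F.IsHomLift g φ := IsFibSet.isHomLift_of_comp hG F φ g
    have h2 : (F ⋙ G).IsStronglyCartesian ((F ⋙ G).map φ) φ :=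
      isStronglyCartesian_map (F ⋙ G) (G.map g) φ
    have h3 : F.IsStronglyCartesian (F.map φ) φ := IsFibSet.isStronglyCartesian_of_comp hG F φ
    exact ⟨b, φ, isStronglyCartesian_of_map F g φ⟩

/-- `F` is fibred in groupoids iff `F ⋙ G` is, for `G` fibred in sets. -/
theorem IsFibSet.isFibGrpd_iff_comp {G : 𝒢 ⥤ C} (hG : FibCat.IsFibSet G) (F : ℱ ⥤ 𝒢) :
    FibCat.IsFibGrpd F ↔ FibCat.IsFibGrpd (F ⋙ G) := by
  constructor
  · intro hF
    exact isFibGrpd_comp F G hF hG.1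
  · intro hFG
    refine ⟨?_, ?_⟩
    · intro x u g
      obtain ⟨y, φ, hφ⟩ := hFG.exists_lift (x := x) (G.map g)
      exact ⟨y, φ, IsFibSet.isHomLift_of_comp hG F φ g⟩
    · intro y x φ
      have := hFG.isStronglyCartesian φ
      exact IsFibSet.isStronglyCartesian_of_comp hG F φ

/-- `F` is fibred in sets iff `F ⋙ G` is, for `G` fibred in sets. -/
theorem IsFibSet.isFibSet_iff_comp {G : 𝒢 ⥤ C} (hG : FibCat.IsFibSet G) (F : ℱ ⥤ 𝒢) :
    FibCat.IsFibSet F ↔ FibCat.IsFibSet (F ⋙ G) := by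
  constructor
  · intro hF
    apply isFibSet_of_unique_lifts
    · intro η U f
      obtain ⟨u, g, hg⟩ := IsFibSet.exists_lift hG (η := F.obj η) f
      obtain ⟨ξ, φ, hφ⟩ := IsFibSet.exists_lift hF (η := η) g
      refine ⟨ξ, φ, ?_⟩
      have hu : F.obj ξ = u := IsHomLift.domain_eq F g φ
      subst hu
      have hgeq : g = F.map φ := IsHomLift.eq_of_isHomLift F g φ
      subst hgeq
      exact (isHomLift_comp_iff F G f φ).mpr hg
    · intro η U f ξ ξ' φ φ' hφ hφ'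
      have h1 : G.IsHomLift f (F.map φ) := (isHomLift_comp_iff F G f φ).mp hφ
      have h2 : G.IsHomLift f (F.map φ') := (isHomLift_comp_iff F G f φ').mp hφ'
      obtain ⟨e, he⟩ := IsFibSet.lift_unique hG f (F.map φ) (F.map φ')
      have h3 : F.IsHomLift (F.map φ) φ' := by
        rw [he]
        infer_instance
      exact IsFibSet.lift_unique hF (F.map φ) φ φ'
  · intro hFG
    apply isFibSet_of_unique_lifts
    · intro η u g
      obtain ⟨ξ, φ, hφ⟩ := IsFibSet.exists_lift hFG (η := η) (G.map g)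
      exact ⟨ξ, φ, IsFibSet.isHomLift_of_comp hG F φ g⟩
    · intro η u g ξ ξ' φ φ' hφ hφ'
      have h1 : (F ⋙ G).IsHomLift (G.map g) φ := isHomLift_comp_of_isHomLift F G g φ
      have h2 : (F ⋙ G).IsHomLift (G.map g) φ' := isHomLift_comp_of_isHomLift F G g φ'
      exact IsFibSet.lift_unique hFG (G.map g) φ φ'

end CompFibSet

end Groth.Agent.Lib.Helper17
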