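-- helper17: fibred in sets / setoids and equivalences over the base; 2-morphisms between
-- categories fibred in sets.
import Groth.Agent.Lib.Helper17FibEquiv5
import Groth.Agent.Lib.Helper17FibSet

set_option autoImplicit false
open CategoryTheory CategoryTheory.Functor

universe v₁ u₁ v₂ u₂ v₃ u₃

namespace Groth.Agent.Lib.Helper17

section Setoid

variable {C : Type u₁} [Category.{v₁} C] {𝒳 : BasedCategory.{v₂, u₂} C}
  {𝒴 : BasedCategory.{v₃, u₃} C}

/-- Fibredness in groupoids is reflected by fully faithful functors over `C` with fibred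
source. -/
theorem isFibGrpd_of_ff_of_isFibGrpd (G : 𝒳 ⥤ᵇ 𝒴) [G.toFunctor.Full] [G.toFunctor.Faithful]
    [𝒳.p.IsFibered] (h𝒴 : FibCat.IsFibGrpd 𝒴.p) : FibCat.IsFibGrpd 𝒳.p := by
  refine ⟨?_, ?_⟩
  · intro x V f
    obtain ⟨y, φ, hφ⟩ := IsPreFibered.exists_isCartesian' (p := 𝒳.p) f
    exact ⟨y, φ, inferInstance⟩
  · intro y x φ
    have h1 : 𝒴.p.IsHomLift (𝒳.p.map φ) (G.map φ) := inferInstance
    have h2 : 𝒴.p.IsStronglyCartesian (𝒳.p.map φ) (G.map φ) :=
      IsFibGrpd.isStronglyCartesian_of_isHomLift h𝒴 (𝒳.p.map φ) (G.map φ)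
    exact isStronglyCartesian_of_map_of_ff G (𝒳.p.map φ) φ

/-- A fibred category equivalent over `C` to a category fibred in sets is fibred in setoids. -/
theorem isFibSetoid_of_isEquivOver_isFibSet [𝒳.p.IsFibered] (h𝒴 : FibCat.IsFibSet 𝒴.p)
    (G : 𝒳 ⥤ᵇ 𝒴) (hG : FibCat.IsEquivOver G) : FibCat.IsFibSetoid 𝒳.p := by
  have := IsEquivOver.isEquivalence G hG
  refine ⟨isFibGrpd_of_ff_of_isFibGrpd G h𝒴.1, ?_⟩
  intro U X Y
  refine ⟨fun m₁ m₂ => ?_⟩
  have hf := fiberFunctor_faithful_of_faithful G U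
  apply (FibCat.fiberFunctor G U).map_injective
  exact @Subsingleton.elim _ ((h𝒴.2 U).subsingleton _ _) _ _

end Setoid

section TwoMorphisms

variable {C : Type u₁} [Category.{v₁} C] {𝒳 : BasedCategory.{v₂, u₂} C}
  {𝒴 : BasedCategory.{v₃, u₃} C}

/-- In a category fibred in sets a morphism over an identity is an `eqToHom`. -/
theorem IsFibSet.eq_of_isHomLift_id {𝒮 : Type u₂} [Category.{v₂} 𝒮] {p : 𝒮 ⥤ C}
    (hp : FibCat.IsFibSet p) (U : C) {a b : 𝒮} (α : a ⟶ b) [hα : p.IsHomLift (𝟙 U) α] :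
    ∃ h : a = b, α = eqToHom h := by
  let X : p.Fiber U := ⟨a, IsHomLift.domain_eq p (𝟙 U) α⟩
  let Y : p.Fiber U := ⟨b, IsHomLift.codomain_eq p (𝟙 U) α⟩
  let m : X ⟶ Y := ⟨α, hα⟩
  have hXY : X = Y := (hp.2 U).eq_of_hom m
  have hab : a = b := congrArg Subtype.val hXY
  subst hab
  refine ⟨rfl, ?_⟩
  have : m = 𝟙 X := @Subsingleton.elim _ ((hp.2 U).subsingleton X X) m (𝟙 X)
  exact congrArg Subtype.val this

/-- Between categories fibred in sets the only 2-morphisms over `C` are identities. -/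
theorem basedNatTrans_eq_eqToHom_of_isFibSet (h𝒴 : FibCat.IsFibSet 𝒴.p) {F G : 𝒳 ⥤ᵇ 𝒴}
    (α : F ⟶ G) : ∃ h : F = G, α = eqToHom h := by
  have hcomp : ∀ a : 𝒳.obj, ∃ h : F.obj a = G.obj a, α.toNatTrans.app a = eqToHom h := by
    intro a
    have := α.isHomLift' a
    exact IsFibSet.eq_of_isHomLift_id h𝒴 (𝒳.p.obj a) (α.toNatTrans.app a)
  have hfun : F.toFunctor = G.toFunctor := by
    refine Functor.ext (fun a => (hcomp a).1) ?_
    intro a b φ
    have nat := α.toNatTrans.naturality φ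
    obtain ⟨ha, hα⟩ := hcomp a
    obtain ⟨hb, hβ⟩ := hcomp b
    rw [hα, hβ] at nat
    have nat' : F.map φ = eqToHom ha ≫ G.map φ ≫ eqToHom hb.symm := by
      rw [← Category.assoc, ← nat]
      simp
    exact nat'
  have hFG : F = G := by
    cases F
    cases G
    simp only at hfun
    subst hfun
    rfl
  subst hFG
  refine ⟨rfl, ?_⟩
  apply BasedNatTrans.homCategory.ext
  ext a
  obtain ⟨ha, hα⟩ := hcomp a
  rw [hα]
  simp

end TwoMorphisms

end Groth.Agent.Lib.Helper17
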