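-- helper17: the category fibred in sets attached to a category fibred in setoids.
import Groth.Agent.Lib.Helper17FibSet2
import Mathlib.CategoryTheory.IsomorphismClasses

set_option autoImplicit false
open CategoryTheory CategoryTheory.Functor

universe v₁ u₁ v₂ u₂

namespace Groth.Agent.Lib.Helper17

section Quot

variable {C : Type u₁} [Category.{v₁} C] (𝒳 : BasedCategory.{v₂, u₂} C)

/-- Objects: an object of the base and an isomorphism class of the fibre. -/
structure QObj where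
  base : C
  cls : Quotient (isIsomorphicSetoid (𝒳.p.Fiber base))

variable {𝒳}

/-- There is a morphism over `f` between representatives. -/
def QRel {U V : C} (f : U ⟶ V) (a : Quotient (isIsomorphicSetoid (𝒳.p.Fiber U)))
    (b : Quotient (isIsomorphicSetoid (𝒳.p.Fiber V))) : Prop :=
  Quotient.liftOn₂ a b (fun x y => ∃ φ : x.1 ⟶ y.1, 𝒳.p.IsHomLift f φ) (by
    rintro x y x' y' ⟨ex⟩ ⟨ey⟩
    apply propext
    constructor
    · rintro ⟨φ, hφ⟩
      refine ⟨ex.inv.1 ≫ φ ≫ ey.hom.1, ?_⟩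
      have := ex.inv.2
      have := ey.hom.2
      have : 𝒳.p.IsHomLift (𝟙 U ≫ f ≫ 𝟙 V) (ex.inv.1 ≫ φ ≫ ey.hom.1) := inferInstance
      simpa using this
    · rintro ⟨φ, hφ⟩
      refine ⟨ex.hom.1 ≫ φ ≫ ey.inv.1, ?_⟩
      have := ex.hom.2
      have := ey.inv.2
      have : 𝒳.p.IsHomLift (𝟙 U ≫ f ≫ 𝟙 V) (ex.hom.1 ≫ φ ≫ ey.inv.1) := inferInstance
      simpa using this)

theorem qRel_mk {U V : C} (f : U ⟶ V) (x : 𝒳.p.Fiber U) (y : 𝒳.p.Fiber V) :
    QRel f (Quotient.mk _ x) (Quotient.mk _ y) ↔ ∃ φ : x.1 ⟶ y.1, 𝒳.p.IsHomLift f φ := Iff.rfl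

theorem qRel_id {U : C} (a : Quotient (isIsomorphicSetoid (𝒳.p.Fiber U))) : QRel (𝟙 U) a a := by
  induction a using Quotient.inductionOn with
  | h x => exact ⟨𝟙 x.1, IsHomLift.id x.2⟩

theorem qRel_comp {U V W : C} (f : U ⟶ V) (g : V ⟶ W)
    (a : Quotient (isIsomorphicSetoid (𝒳.p.Fiber U)))
    (b : Quotient (isIsomorphicSetoid (𝒳.p.Fiber V)))
    (c : Quotient (isIsomorphicSetoid (𝒳.p.Fiber W))) (h1 : QRel f a b) (h2 : QRel g b c) :
    QRel (f ≫ g) a c := by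
  induction a using Quotient.inductionOn with
  | h x =>
  induction b using Quotient.inductionOn with
  | h y =>
  induction c using Quotient.inductionOn with
  | h z =>
  obtain ⟨φ, hφ⟩ := h1
  obtain ⟨ψ, hψ⟩ := h2
  exact ⟨φ ≫ ψ, inferInstance⟩

instance : Category (QObj 𝒳) where
  Hom a b := {f : a.base ⟶ b.base // QRel f a.cls b.cls}
  id a := ⟨𝟙 _, qRel_id _⟩
  comp f g := ⟨f.1 ≫ g.1, qRel_comp _ _ _ _ _ f.2 g.2⟩
  id_comp f := Subtype.ext (Category.id_comp _)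
  comp_id f := Subtype.ext (Category.comp_id _)
  assoc f g h := Subtype.ext (Category.assoc _ _ _)

variable (𝒳)

/-- The projection to the base. -/
def qProj : QObj 𝒳 ⥤ C where
  obj a := a.base
  map f := f.1

/-- The quotient as a category over the base. -/
def qBased : BasedCategory.{v₁, max u₁ u₂} C where
  obj := QObj 𝒳
  p := qProj 𝒳

/-- The quotient functor. -/
def toQ : 𝒳 ⥤ᵇ qBased 𝒳 where
  toFunctor :=
    { obj := fun x => ⟨𝒳.p.obj x, Quotient.mk _ ⟨x, rfl⟩⟩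
      map := fun {x y} φ => ⟨𝒳.p.map φ, ⟨φ, inferInstance⟩⟩
      map_id := fun x => Subtype.ext (𝒳.p.map_id x)
      map_comp := fun φ ψ => Subtype.ext (𝒳.p.map_comp φ ψ) }
  w := rfl

theorem qProj_isHomLift {a b : QObj 𝒳} (m : a ⟶ b) : (qProj 𝒳).IsHomLift m.1 m :=
  IsHomLift.map (qProj 𝒳) m

/-- The quotient of a category fibred in groupoids is fibred in sets. -/
theorem isFibSet_qProj (h𝒳 : FibCat.IsFibGrpd 𝒳.p) : FibCat.IsFibSet (qProj 𝒳) := by
  apply isFibSet_of_unique_lifts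
  · rintro ⟨V, b⟩ U f
    change U ⟶ V at f
    induction b using Quotient.inductionOn with
    | h y =>
    obtain ⟨x, φ, hφ⟩ := h𝒳.exists_lift (x := y.1) (f ≫ eqToHom y.2.symm)
    have hφ' : 𝒳.p.IsHomLift f φ :=
      (IsHomLift.lift_comp_eqToHom_iff (p := 𝒳.p) f φ y.2.symm).1 hφ
    have hx : 𝒳.p.obj x = U := IsHomLift.domain_eq 𝒳.p f φ
    let ξ : QObj 𝒳 := ⟨U, Quotient.mk _ ⟨x, hx⟩⟩
    let m : ξ ⟶ (⟨V, Quotient.mk _ y⟩ : QObj 𝒳) := ⟨f, ⟨φ, hφ'⟩⟩
    exact ⟨ξ, m, qProj_isHomLift 𝒳 m⟩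
  · intro η U f ξ ξ' m m' hm hm'
    have h1 : ξ.base = U := IsHomLift.domain_eq (qProj 𝒳) f m
    have h2 : ξ'.base = U := IsHomLift.domain_eq (qProj 𝒳) f m'
    have e1 : m.1 = eqToHom h1 ≫ f := by
      have := IsHomLift.fac' (qProj 𝒳) f m
      simp only [eqToHom_refl, Category.comp_id] at this
      exact this
    have e2 : m'.1 = eqToHom h2 ≫ f := by
      have := IsHomLift.fac' (qProj 𝒳) f m'
      simp only [eqToHom_refl, Category.comp_id] at this
      exact this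
    obtain ⟨U₁, a⟩ := ξ
    obtain ⟨U₂, a'⟩ := ξ'
    obtain ⟨V, b⟩ := η
    dsimp only at h1 h2
    subst h1
    subst h2
    simp only [eqToHom_refl, Category.id_comp] at e1 e2
    change U₂ ⟶ V at f
    have haa' : a = a' := by
      have hm1 := m.2
      have hm1' := m'.2
      rw [e1] at hm1
      rw [e2] at hm1'
      dsimp only at hm1 hm1'
      induction a using Quotient.inductionOn with
      | h x =>
      induction a' using Quotient.inductionOn with
      | h x' =>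
      induction b using Quotient.inductionOn with
      | h y =>
      obtain ⟨φ, hφ⟩ := hm1
      obtain ⟨φ', hφ'⟩ := hm1'
      have hsc : 𝒳.p.IsStronglyCartesian f φ' :=
        IsFibGrpd.isStronglyCartesian_of_isHomLift h𝒳 f φ'
      obtain ⟨χ, ⟨hχ1, hχ2⟩, -⟩ := IsStronglyCartesian.universal_property 𝒳.p f φ' (𝟙 _) f
        (by simp) φ
      have := IsFibGrpd.isGroupoid_fiber h𝒳 U₂
      let k : x ⟶ x' := ⟨χ, hχ1⟩
      apply Quotient.sound
      exact ⟨asIso k⟩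
    subst haa'
    refine ⟨rfl, ?_⟩
    rw [eqToHom_refl, Category.id_comp]
    exact Subtype.ext (e1.trans e2.symm)

/-- For a category fibred in setoids the quotient functor is an equivalence over the base. -/
theorem isEquivOver_toQ (h𝒳 : FibCat.IsFibSetoid 𝒳.p) : FibCat.IsEquivOver (toQ 𝒳) := by
  have hfaith : (toQ 𝒳).toFunctor.Faithful := by
    refine ⟨fun {x y} φ φ' h => ?_⟩
    have e : 𝒳.p.map φ = 𝒳.p.map φ' := congrArg Subtype.val h
    have hsc := h𝒳.1.isStronglyCartesian φ'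
    have hφ : 𝒳.p.IsHomLift (𝒳.p.map φ') φ := by rw [← e]; infer_instance
    obtain ⟨χ, ⟨hχ1, hχ2⟩, -⟩ := IsStronglyCartesian.universal_property 𝒳.p (𝒳.p.map φ') φ'
      (𝟙 (𝒳.p.obj x)) (𝒳.p.map φ') (by simp) φ
    let X : 𝒳.p.Fiber (𝒳.p.obj x) := ⟨x, rfl⟩
    let k : X ⟶ X := ⟨χ, hχ1⟩
    have hk : k = 𝟙 X := @Subsingleton.elim _ ((h𝒳.2 _) X X) _ _
    have hχ : χ = 𝟙 x := congrArg Subtype.val hk
    rw [← hχ2, hχ, Category.id_comp]
  have hfull : (toQ 𝒳).toFunctor.Full := by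
    refine ⟨fun {x y} m => ?_⟩
    obtain ⟨f, φ, hφ⟩ := m
    refine ⟨φ, ?_⟩
    apply Subtype.ext
    exact @map_eq_of_isHomLift _ _ _ _ 𝒳.p x y f φ hφ
  apply isEquivOver_of_fullyFaithful_of_essSurjOver
  rintro ⟨U, a⟩
  induction a using Quotient.inductionOn with
  | h x =>
  obtain ⟨x, hx⟩ := x
  subst hx
  exact ⟨x, Iso.refl _, IsHomLift.id rfl⟩

/-- A category fibred in setoids is equivalent over the base to a category fibred in sets. -/
theorem exists_isFibSet_equivOver (h𝒳 : FibCat.IsFibSetoid 𝒳.p) :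
    FibCat.IsFibSet (qBased 𝒳).p ∧ FibCat.IsEquivOver (toQ 𝒳) :=
  ⟨isFibSet_qProj 𝒳 h𝒳.1, isEquivOver_toQ 𝒳 h𝒳⟩

end Quot

end Groth.Agent.Lib.Helper17
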