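-- helper17: the forgetful functor `Over U ⥤ C` is fibred in sets, and consequences.
import Groth.Agent.Lib.Helper17FibSet

set_option autoImplicit false
open CategoryTheory CategoryTheory.Functor

universe v₁ u₁ v₂ u₂ v₃ u₃

namespace Groth.Agent.Lib.Helper17

section OverForget

variable {C : Type u₁} [Category.{v₁} C] (U : C)

/-- The forgetful functor from a slice category is fibred in sets. -/
theorem isFibSet_overForget : FibCat.IsFibSet (Over.forget U) := by
  apply isFibSet_of_unique_lifts
  · intro η V f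
    refine ⟨Over.mk (f ≫ η.hom), Over.homMk f rfl, ?_⟩
    exact IsHomLift.of_fac _ _ _ rfl rfl (by simp)
  · intro η V f ξ ξ' φ φ' hφ hφ'
    have h1 : ξ.left = V := IsHomLift.domain_eq (Over.forget U) f φ
    have h2 : ξ'.left = V := IsHomLift.domain_eq (Over.forget U) f φ'
    obtain ⟨L, ⟨⟨⟩⟩, h⟩ := ξ
    obtain ⟨L', ⟨⟨⟩⟩, h'⟩ := ξ'
    change L = V at h1
    change L' = V at h2
    subst h1
    subst h2
    have e1 : f = φ.left := by
      have := IsHomLift.fac (Over.forget U) f φ
      simpa using this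
    have e2 : f = φ'.left := by
      have := IsHomLift.fac (Over.forget U) f φ'
      simpa using this
    have w1 : φ.left ≫ η.hom = h := Over.w φ
    have w2 : φ'.left ≫ η.hom = h' := Over.w φ'
    have hh : h = h' := by rw [← w1, ← w2, ← e1, ← e2]
    subst hh
    refine ⟨rfl, ?_⟩
    simp only [eqToHom_refl, Category.id_comp]
    apply Over.OverMorphism.ext
    rw [← e1, ← e2]

variable {𝒮 : Type u₂} [Category.{v₂} 𝒮]

/-- If `p' ⋙ Over.forget U` is fibred, so is `p'`. -/
theorem isFibered_of_comp_overForget (p' : 𝒮 ⥤ Over U) [h : (p' ⋙ Over.forget U).IsFibered] :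
    p'.IsFibered :=
  (IsFibSet.isFibered_iff_comp (isFibSet_overForget U) p').mpr h

/-- If `p' ⋙ Over.forget U` is fibred in groupoids, so is `p'`. -/
theorem isFibGrpd_of_comp_overForget (p' : 𝒮 ⥤ Over U)
    (h : FibCat.IsFibGrpd (p' ⋙ Over.forget U)) : FibCat.IsFibGrpd p' :=
  (IsFibSet.isFibGrpd_iff_comp (isFibSet_overForget U) p').mpr h

end OverForget

end Groth.Agent.Lib.Helper17
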