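-- helper17: categories fibred in setoids: morphisms are determined by their image.
import Groth.Agent.Lib.Helper17FibSet2

set_option autoImplicit false
open CategoryTheory CategoryTheory.Functor

universe v₁ u₁ v₂ u₂ v₃ u₃

namespace Groth.Agent.Lib.Helper17

section Setoid

variable {C : Type u₁} [Category.{v₁} C] {𝒮 : Type u₂} [Category.{v₂} 𝒮] {p : 𝒮 ⥤ C}

/-- In a category fibred in setoids two morphisms with the same source and target lying over the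
same morphism are equal. -/
theorem IsFibSetoid.hom_ext (hp : FibCat.IsFibSetoid p) {R S : C} (f : R ⟶ S) {a b : 𝒮}
    (φ φ' : a ⟶ b) [hφ : p.IsHomLift f φ] [hφ' : p.IsHomLift f φ'] : φ = φ' := by
  have hsc : p.IsStronglyCartesian f φ' :=
    IsFibGrpd.isStronglyCartesian_of_isHomLift hp.1 f φ'
  obtain ⟨χ, ⟨hχ1, hχ2⟩, -⟩ := IsStronglyCartesian.universal_property p f φ' (𝟙 R) f
    (by simp) φ
  have ha : p.obj a = R := IsHomLift.domain_eq p f φ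
  let X : p.Fiber R := ⟨a, ha⟩
  let k : X ⟶ X := ⟨χ, hχ1⟩
  have hk : k = 𝟙 X := @Subsingleton.elim _ ((hp.2 R) X X) _ _
  have hχ : χ = 𝟙 a := congrArg Subtype.val hk
  rw [← hχ2, hχ, Category.id_comp]

end Setoid

section UniqueIso

variable {C : Type u₁} [Category.{v₁} C] {𝒳 : BasedCategory.{v₂, u₂} C}
  {𝒴 : BasedCategory.{v₃, u₃} C}

/-- S6407 -/
theorem unique_iso_of_fiberwise_iso (h𝒴 : FibCat.IsFibSetoid 𝒴.p) (f g : 𝒳 ⥤ᵇ 𝒴)
    (hfg : ∀ (U : C) (x : 𝒳.p.Fiber U),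
      Nonempty ((FibCat.fiberFunctor f U).obj x ≅ (FibCat.fiberFunctor g U).obj x)) :
    Nonempty (Unique (f ≅ g)) := by
  have key : ∀ x : 𝒳.obj, ∃ α : f.obj x ≅ g.obj x, 𝒴.p.IsHomLift (𝟙 (𝒳.p.obj x)) α.hom := by
    intro x
    obtain ⟨i⟩ := hfg (𝒳.p.obj x) ⟨x, rfl⟩
    exact ⟨Functor.Fiber.fiberInclusion.mapIso i, i.hom.2⟩
  choose α hα using key
  have nat : ∀ {x y : 𝒳.obj} (φ : x ⟶ y),
      f.toFunctor.map φ ≫ (α y).hom = (α x).hom ≫ g.toFunctor.map φ := by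
    intro x y φ
    have := hα x
    have := hα y
    have h1 : 𝒴.p.IsHomLift (𝒳.p.map φ) (f.map φ ≫ (α y).hom) := by
      have : 𝒴.p.IsHomLift (𝒳.p.map φ ≫ 𝟙 _) (f.map φ ≫ (α y).hom) := inferInstance
      simpa using this
    have h2 : 𝒴.p.IsHomLift (𝒳.p.map φ) ((α x).hom ≫ g.map φ) := by
      have : 𝒴.p.IsHomLift (𝟙 _ ≫ 𝒳.p.map φ) ((α x).hom ≫ g.map φ) := inferInstance
      simpa using this
    exact IsFibSetoid.hom_ext h𝒴 (𝒳.p.map φ) _ _
  let e : f ≅ g := BasedNatIso.mkNatIso (NatIso.ofComponents α (fun φ => nat φ)) hα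
  refine ⟨{ default := e, uniq := ?_ }⟩
  intro e'
  apply Iso.ext
  apply BasedNatTrans.homCategory.ext
  ext x
  have h1 : 𝒴.p.IsHomLift (𝟙 (𝒳.p.obj x)) (e'.hom.toNatTrans.app x) := e'.hom.isHomLift' x
  have h2 : 𝒴.p.IsHomLift (𝟙 (𝒳.p.obj x)) (e.hom.toNatTrans.app x) := e.hom.isHomLift' x
  exact IsFibSetoid.hom_ext h𝒴 (𝟙 (𝒳.p.obj x)) _ _

end UniqueIso

end Groth.Agent.Lib.Helper17
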