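-- helper17: representable categories over the base: the representing object is unique.
import Groth.Agent.Lib.Helper17FibSetoid
import Groth.Agent.Lib.Helper17FibOver
import Groth.Agent.Lib.Helper17FibEquiv

set_option autoImplicit false
open CategoryTheory CategoryTheory.Functor

universe v₁ u₁ v₂ u₂

namespace Groth.Agent.Lib.Helper17

section ReprPlain

variable {C : Type u₁} [Category.{v₁} C] {𝒜 : Type u₂} [Category.{v₂} 𝒜] {p : 𝒜 ⥤ C} {X : C}
  (J : 𝒜 ⥤ Over X) (hJ : J ⋙ Over.forget X = p)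

/-- The morphism to `X` attached to an object by a functor `J` to `C/X` over `C`. -/
def reprHom (x : 𝒜) : p.obj x ⟶ X :=
  eqToHom (Functor.congr_obj hJ x).symm ≫ (J.obj x).hom

theorem reprHom_naturality {x y : 𝒜} (φ : x ⟶ y) :
    reprHom J hJ x = p.map φ ≫ reprHom J hJ y := by
  subst hJ
  simp only [reprHom, eqToHom_refl, Category.id_comp]
  exact (Over.w (J.map φ)).symm

theorem exists_hom_of_reprHom_eq [J.Full] {x y : 𝒜} (f : p.obj x ⟶ p.obj y)
    (h : reprHom J hJ x = f ≫ reprHom J hJ y) : ∃ φ : x ⟶ y, p.map φ = f := by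
  subst hJ
  simp only [reprHom, eqToHom_refl, Category.id_comp] at h
  obtain ⟨φ, hφ⟩ := J.map_surjective (Over.homMk (U := J.obj x) (V := J.obj y) f h.symm)
  refine ⟨φ, ?_⟩
  change (J.map φ).left = f
  rw [hφ]
  rfl

theorem exists_obj_of_reprHom
    (hes : ∀ η : Over X, ∃ (ξ : 𝒜) (e : J.obj ξ ≅ η), (Over.forget X).IsHomLift (𝟙 η.left) e.hom)
    {U : C} (f : U ⟶ X) : ∃ (x : 𝒜) (h : p.obj x = U), reprHom J hJ x = eqToHom h ≫ f := by
  subst hJ
  obtain ⟨ξ, e, he⟩ := hes (Over.mk f)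
  have he' : (Over.forget X).IsHomLift (𝟙 U) e.hom := he
  have hξ : (J.obj ξ).left = U := IsHomLift.domain_eq (Over.forget X) (𝟙 U) e.hom
  refine ⟨ξ, hξ, ?_⟩
  have h1 : e.hom.left ≫ f = (J.obj ξ).hom := Over.w e.hom
  have h2 : e.hom.left = eqToHom hξ := by
    have := IsHomLift.fac' (Over.forget X) (𝟙 U) e.hom
    simpa using this
  simp only [reprHom, eqToHom_refl, Category.id_comp]
  rw [← h1, h2]
  rfl

theorem reprHom_comp_map {X' : C} (g : X ⟶ X') (x : 𝒜) :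
    reprHom (J ⋙ Over.map g) (p := p) (by rw [Functor.assoc, Over.mapForget_eq, hJ]) x =
      reprHom J hJ x ≫ g := by
  subst hJ
  simp [reprHom]

/-- Two functors to `C/X` over `C` with the same `reprHom` are objectwise isomorphic over
identities. -/
theorem exists_iso_of_reprHom_eq (J' : 𝒜 ⥤ Over X) (hJ' : J' ⋙ Over.forget X = p)
    (h : ∀ x, reprHom J hJ x = reprHom J' hJ' x) (x : 𝒜) :
    ∃ e : J'.obj x ≅ J.obj x, (Over.forget X).IsHomLift (𝟙 (p.obj x)) e.hom := by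
  subst hJ
  have hx : (J'.obj x).left = (J.obj x).left := Functor.congr_obj hJ' x
  have hw : (eqToIso hx).hom ≫ (J.obj x).hom = (J'.obj x).hom := by
    have := h x
    simp only [reprHom, eqToHom_refl, Category.id_comp] at this
    rw [this]
    simp
  refine ⟨Over.isoMk (eqToIso hx) hw, ?_⟩
  apply IsHomLift.of_fac' (Over.forget X) _ _ hx rfl
  simp

end ReprPlain

section ReprUnique

variable {C : Type u₁} [Category.{v₁} C] {𝒜 : Type u₂} [Category.{v₂} 𝒜] {p : 𝒜 ⥤ C} {X X' : C}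
  (J : 𝒜 ⥤ Over X) (hJ : J ⋙ Over.forget X = p) (J' : 𝒜 ⥤ Over X')
  (hJ' : J' ⋙ Over.forget X' = p)

/-- One half of the comparison. -/
theorem reprHom_factor [J'.Full] {x₀ : 𝒜} (h₀ : p.obj x₀ = X')
    (hx₀ : reprHom J' hJ' x₀ = eqToHom h₀ ≫ 𝟙 X') (x : 𝒜) :
    reprHom J hJ x = reprHom J' hJ' x ≫ eqToHom h₀.symm ≫ reprHom J hJ x₀ := by
  obtain ⟨φ, hφ⟩ := exists_hom_of_reprHom_eq J' hJ' (x := x) (y := x₀)
    (reprHom J' hJ' x ≫ eqToHom h₀.symm) (by rw [hx₀]; simp)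
  rw [reprHom_naturality J hJ φ, hφ, Category.assoc]

/-- The representing object is unique up to isomorphism, compatibly with the functors. -/
theorem exists_iso_reprHom [J.Full] [J'.Full]
    (hes : ∀ η : Over X, ∃ (ξ : 𝒜) (e : J.obj ξ ≅ η), (Over.forget X).IsHomLift (𝟙 η.left) e.hom)
    (hes' : ∀ η : Over X', ∃ (ξ : 𝒜) (e : J'.obj ξ ≅ η),
      (Over.forget X').IsHomLift (𝟙 η.left) e.hom) :
    ∃ e : X' ≅ X, ∀ x, reprHom J hJ x = reprHom J' hJ' x ≫ e.hom := by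
  obtain ⟨x₀, h₀, hx₀⟩ := exists_obj_of_reprHom J' hJ' hes' (𝟙 X')
  obtain ⟨x₁, h₁, hx₁⟩ := exists_obj_of_reprHom J hJ hes (𝟙 X)
  have c1 := reprHom_factor J hJ J' hJ' h₀ hx₀
  have c2 := reprHom_factor J' hJ' J hJ h₁ hx₁
  refine ⟨⟨eqToHom h₀.symm ≫ reprHom J hJ x₀, eqToHom h₁.symm ≫ reprHom J' hJ' x₁, ?_, ?_⟩, c1⟩
  · rw [Category.assoc, ← c2 x₀, hx₀]; simp
  · rw [Category.assoc, ← c1 x₁, hx₁]; simp

end ReprUnique

section ReprBased

variable {C : Type u₁} [Category.{v₁} C] {𝒮 : BasedCategory.{v₂, u₂} C} {X X' : C}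

/-- S6443 -/
theorem representing_object_unique (j : 𝒮 ⥤ᵇ FibCat.overCat X) (j' : 𝒮 ⥤ᵇ FibCat.overCat X')
    (hj : FibCat.IsEquivOver j) (hj' : FibCat.IsEquivOver j') :
    ∃ e : X' ≅ X, Nonempty (BasedFunctor.comp j'
      (⟨Over.map e.hom, Over.mapForget_eq e.hom⟩ : FibCat.overCat X' ⥤ᵇ FibCat.overCat X) ≅ j) := by
  obtain ⟨⟨hfull, hfaith⟩, hes⟩ := (isEquivOver_iff_fullyFaithful_and_essSurjOver j).1 hj
  obtain ⟨⟨hfull', hfaith'⟩, hes'⟩ := (isEquivOver_iff_fullyFaithful_and_essSurjOver j').1 hj'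
  have hJfull : (j.toFunctor : 𝒮.obj ⥤ Over X).Full := hfull
  have hJ'full : (j'.toFunctor : 𝒮.obj ⥤ Over X').Full := hfull'
  obtain ⟨e, he⟩ := @exists_iso_reprHom C _ 𝒮.obj _ 𝒮.p X X' j.toFunctor j.w j'.toFunctor j'.w
    hfull hfull' hes hes'
  refine ⟨e, ?_⟩
  have hSet : FibCat.IsFibSetoid (FibCat.overCat X).p := by
    have h := isFibSet_overForget X
    exact ⟨h.1, fun U a b => (h.2 U).subsingleton a b⟩
  obtain ⟨u⟩ := unique_iso_of_fiberwise_iso hSet (BasedFunctor.comp j'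
      (⟨Over.map e.hom, Over.mapForget_eq e.hom⟩ : FibCat.overCat X' ⥤ᵇ FibCat.overCat X)) j (by
    rintro U ⟨x, rfl⟩
    have key := exists_iso_of_reprHom_eq (p := 𝒮.p) (j.toFunctor : 𝒮.obj ⥤ Over X) j.w
      ((j'.toFunctor : 𝒮.obj ⥤ Over X') ⋙ Over.map e.hom)
      j'.w
      (fun y => by rw [he y]; exact (reprHom_comp_map (p := 𝒮.p) j'.toFunctor j'.w e.hom y).symm) x
    obtain ⟨i, hi⟩ := key
    have hiinv : (Over.forget X).IsHomLift (𝟙 (𝒮.p.obj x)) i.inv :=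
      IsHomLift.lift_id_inv (Over.forget X) _ i
    refine ⟨?_⟩
    exact
      { hom := ⟨i.hom, hi⟩
        inv := ⟨i.inv, hiinv⟩
        hom_inv_id := Subtype.ext i.hom_inv_id
        inv_hom_id := Subtype.ext i.inv_hom_id })
  exact ⟨u.default⟩

end ReprBased

end Groth.Agent.Lib.Helper17
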