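-- helper17: representable categories over the base: characterization by a terminal object.
import Groth.Agent.Lib.Helper17FibRepr

set_option autoImplicit false
open CategoryTheory CategoryTheory.Functor

universe v₁ u₁ v₂ u₂

namespace Groth.Agent.Lib.Helper17

section ReprTerminal

variable {C : Type u₁} [Category.{v₁} C] {𝒳 : BasedCategory.{v₂, u₂} C}

/-- A representable fibred category is fibred in groupoids and has a terminal object. -/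
theorem exists_terminal_of_isEquivOver [𝒳.p.IsFibered] {U : C} (F : 𝒳 ⥤ᵇ FibCat.overCat U)
    (hF : FibCat.IsEquivOver F) :
    FibCat.IsFibGrpd 𝒳.p ∧ ∃ ξ : 𝒳.obj, ∀ ρ : 𝒳.obj, Nonempty (Unique (ρ ⟶ ξ)) := by
  obtain ⟨⟨hfull, hfaith⟩, hes⟩ := (isEquivOver_iff_fullyFaithful_and_essSurjOver F).1 hF
  refine ⟨isFibGrpd_of_ff_of_isFibGrpd F (isFibSet_overForget U).1, ?_⟩
  obtain ⟨ξ, e, -⟩ := hes (Over.mk (𝟙 U))
  refine ⟨ξ, fun ρ => ?_⟩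
  have hT : Limits.IsTerminal (F.obj ξ) :=
    Limits.IsTerminal.ofIso Over.mkIdTerminal e.symm
  refine ⟨{ default := F.toFunctor.preimage (hT.from (F.obj ρ)), uniq := ?_ }⟩
  intro φ
  apply F.toFunctor.map_injective
  exact hT.hom_ext _ _

/-- A category fibred in groupoids with a terminal object is representable. -/
theorem isEquivOver_of_terminal (h𝒳 : FibCat.IsFibGrpd 𝒳.p) (ξ : 𝒳.obj)
    (hξ : ∀ ρ : 𝒳.obj, Nonempty (Unique (ρ ⟶ ξ))) :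
    ∃ F : 𝒳 ⥤ᵇ FibCat.overCat (𝒳.p.obj ξ), FibCat.IsEquivOver F := by
  have huniq : ∀ {ρ : 𝒳.obj} (a b : ρ ⟶ ξ), a = b := fun {ρ} a b => by
    obtain ⟨u⟩ := hξ ρ
    exact (u.uniq a).trans (u.uniq b).symm
  let t : ∀ ρ : 𝒳.obj, ρ ⟶ ξ := fun ρ => (hξ ρ).some.default
  let Fun : 𝒳.obj ⥤ Over (𝒳.p.obj ξ) :=
    { obj := fun ρ => Over.mk (𝒳.p.map (t ρ))
      map := fun {ρ ρ'} φ => Over.homMk (𝒳.p.map φ) (by
        change 𝒳.p.map φ ≫ 𝒳.p.map (t ρ') = 𝒳.p.map (t ρ)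
        rw [← 𝒳.p.map_comp, huniq (φ ≫ t ρ') (t ρ)])
      map_id := fun ρ => by ext; simp
      map_comp := fun φ ψ => by ext; simp }
  let F : 𝒳 ⥤ᵇ FibCat.overCat (𝒳.p.obj ξ) := { toFunctor := Fun, w := rfl }
  refine ⟨F, ?_⟩
  have hsc : ∀ ρ, 𝒳.p.IsStronglyCartesian (𝒳.p.map (t ρ)) (t ρ) := fun ρ =>
    h𝒳.isStronglyCartesian (t ρ)
  have hfaith : F.toFunctor.Faithful := by
    refine ⟨fun {ρ ρ'} φ φ' h => ?_⟩
    have e : 𝒳.p.map φ = 𝒳.p.map φ' := congrArg (fun m => m.left) h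
    have := hsc ρ'
    have h1 : 𝒳.p.IsHomLift (𝒳.p.map φ) φ' := by rw [e]; infer_instance
    apply IsStronglyCartesian.ext 𝒳.p (𝒳.p.map (t ρ')) (t ρ') (𝒳.p.map φ)
    exact huniq _ _
  have hfull : F.toFunctor.Full := by
    refine ⟨fun {ρ ρ'} m => ?_⟩
    have := hsc ρ'
    have hw : m.left ≫ 𝒳.p.map (t ρ') = 𝒳.p.map (t ρ) := Over.w m
    obtain ⟨ml, hml⟩ : ∃ ml : 𝒳.p.obj ρ ⟶ 𝒳.p.obj ρ', ml = m.left := ⟨_, rfl⟩
    have h1 : 𝒳.p.IsHomLift (ml ≫ 𝒳.p.map (t ρ')) (t ρ) := by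
      rw [hml, hw]; infer_instance
    obtain ⟨φ, ⟨hφ1, -⟩, -⟩ := IsStronglyCartesian.universal_property 𝒳.p (𝒳.p.map (t ρ'))
      (t ρ') ml _ rfl (t ρ)
    refine ⟨φ, ?_⟩
    apply Over.OverMorphism.ext
    change 𝒳.p.map φ = m.left
    rw [← hml]
    exact map_eq_of_isHomLift 𝒳.p ml φ
  apply isEquivOver_of_fullyFaithful_of_essSurjOver
  intro η
  obtain ⟨ρ, φ, hφ⟩ := h𝒳.exists_lift (x := ξ) η.hom
  have hρ : 𝒳.p.obj ρ = η.left := IsHomLift.domain_eq 𝒳.p η.hom φ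
  have e1 : 𝒳.p.map (t ρ) = eqToHom hρ ≫ η.hom := by
    rw [huniq (t ρ) φ]
    have := IsHomLift.fac' 𝒳.p η.hom φ
    simpa using this
  refine ⟨ρ, Over.isoMk (eqToIso hρ) e1.symm, ?_⟩
  have hρ' : (Over.forget (𝒳.p.obj ξ)).obj (F.obj ρ) = η.left := hρ
  apply IsHomLift.of_fac' (Over.forget (𝒳.p.obj ξ)) _ _ hρ' rfl
  change eqToHom hρ = eqToHom hρ' ≫ 𝟙 _ ≫ eqToHom rfl
  simp

/-- S11728 -/
theorem isRepresentable_iff [𝒳.p.IsFibered] :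
    FibCat.IsRepresentable 𝒳 ↔
      (FibCat.IsFibGrpd 𝒳.p ∧ ∃ ξ : 𝒳.obj, ∀ ρ : 𝒳.obj, Nonempty (Unique (ρ ⟶ ξ))) := by
  constructor
  · rintro ⟨U, F, hF⟩
    exact exists_terminal_of_isEquivOver F hF
  · rintro ⟨h𝒳, ξ, hξ⟩
    obtain ⟨F, hF⟩ := isEquivOver_of_terminal h𝒳 ξ hξ
    exact ⟨𝒳.p.obj ξ, F, hF⟩

end ReprTerminal

end Groth.Agent.Lib.Helper17
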