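-- helper17: the relative inertia of a functor over the base.
import Groth.Agent.Lib.Helper17FibEquiv5
import Groth.Agent.Lib.Helper17FibGU

set_option autoImplicit false
open CategoryTheory CategoryTheory.Functor

universe v₁ u₁ v₂ u₂ v₃ u₃

namespace Groth.Agent.Lib.Helper17

section Inertia

variable {C : Type u₁} [Category.{v₁} C] {𝒳 : BasedCategory.{v₂, u₂} C}
  {𝒴 : BasedCategory.{v₃, u₃} C}

/-- Every morphism is strongly cartesian for the identity functor. -/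
theorem id_isStronglyCartesian_of_isHomLift {R S : C} (f : R ⟶ S) {a b : C} (k : a ⟶ b)
    [h : (𝟭 C).IsHomLift f k] : (𝟭 C).IsStronglyCartesian f k := by
  subst_hom_lift (𝟭 C) f k
  refine { toIsHomLift := inferInstance, universal_property' := ?_ }
  intro a' g φ' hφ'
  have e : g ≫ k = φ' := by
    have := IsHomLift.eq_of_isHomLift (𝟭 C) (g ≫ (𝟭 C).map k) φ'
    simpa using this
  refine ⟨g, ⟨?_, e⟩, ?_⟩
  · exact IsHomLift.map (𝟭 C) g
  · rintro χ' ⟨hχ'1, -⟩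
    have := IsHomLift.eq_of_isHomLift (𝟭 C) g χ'
    simpa using this.symm

/-- Lifting along the structure functor of the inertia is lifting the underlying morphism. -/
theorem inertia_isHomLift_iff (F : 𝒳 ⥤ᵇ 𝒴) {R S : C} (f : R ⟶ S) {x y : FibCat.InertiaObj F}
    (φ : x ⟶ y) : (FibCat.inertia F).p.IsHomLift f φ ↔ 𝒳.p.IsHomLift f φ.hom :=
  isHomLift_comp_iff FibCat.InertiaObj.forget 𝒳.p f φ

/-- The automorphism of an object of the inertia lies over an identity. -/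
theorem inertia_aut_isHomLift (F : 𝒳 ⥤ᵇ 𝒴) (x : FibCat.InertiaObj F) :
    𝒳.p.IsHomLift (𝟙 (𝒳.p.obj x.pt)) x.aut.hom := by
  have h1 : 𝒴.p.IsHomLift (𝟙 (𝒳.p.obj x.pt)) (F.map x.aut.hom) := by
    rw [x.map_aut]
    infer_instance
  exact BasedFunctor.isHomLift_map F _ _

/-- Key construction: pulling back an object of the inertia along a strongly cartesian
morphism, when `F` sends that morphism to a strongly cartesian one. -/
theorem inertia_exists_pullback (F : 𝒳 ⥤ᵇ 𝒴) (x : FibCat.InertiaObj F) {R : C}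
    (f : R ⟶ 𝒳.p.obj x.pt) {y : 𝒳.obj} (ψ : y ⟶ x.pt) [𝒳.p.IsStronglyCartesian f ψ]
    [𝒴.p.IsStronglyCartesian f (F.map ψ)] :
    ∃ (y' : FibCat.InertiaObj F) (φ : y' ⟶ x), y'.pt = y ∧ HEq φ.hom ψ := by
  have hα := inertia_aut_isHomLift F x
  have hαinv : 𝒳.p.IsHomLift (𝟙 (𝒳.p.obj x.pt)) x.aut.inv :=
    IsHomLift.lift_id_inv 𝒳.p _ x.aut
  have h1 : 𝒳.p.IsHomLift f (ψ ≫ x.aut.hom) := inferInstance
  have h2 : 𝒳.p.IsHomLift f (ψ ≫ x.aut.inv) := inferInstance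
  obtain ⟨β, ⟨hβ1, hβ2⟩, -⟩ := IsStronglyCartesian.universal_property 𝒳.p f ψ (𝟙 R) f
    (by simp) (ψ ≫ x.aut.hom)
  obtain ⟨β', ⟨hβ'1, hβ'2⟩, -⟩ := IsStronglyCartesian.universal_property 𝒳.p f ψ (𝟙 R) f
    (by simp) (ψ ≫ x.aut.inv)
  have hy : 𝒳.p.obj y = R := IsHomLift.domain_eq 𝒳.p f ψ
  have e1 : β ≫ β' = 𝟙 y := by
    have : 𝒳.p.IsHomLift (𝟙 R) (𝟙 y) := IsHomLift.id hy
    apply IsStronglyCartesian.ext 𝒳.p f ψ (𝟙 R)
    rw [Category.assoc, hβ'2, ← Category.assoc, hβ2, Category.assoc, Iso.hom_inv_id,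
      Category.comp_id, Category.id_comp]
  have e2 : β' ≫ β = 𝟙 y := by
    have : 𝒳.p.IsHomLift (𝟙 R) (𝟙 y) := IsHomLift.id hy
    apply IsStronglyCartesian.ext 𝒳.p f ψ (𝟙 R)
    rw [Category.assoc, hβ2, ← Category.assoc, hβ'2, Category.assoc, Iso.inv_hom_id,
      Category.comp_id, Category.id_comp]
  have e3 : F.map β = 𝟙 (F.obj y) := by
    have h3 : 𝒴.p.IsHomLift (𝟙 R) (F.map β) := inferInstance
    have h4 : 𝒴.p.IsHomLift (𝟙 R) (𝟙 (F.obj y)) := IsHomLift.id ((F.w_obj y).trans hy)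
    apply IsStronglyCartesian.ext 𝒴.p f (F.map ψ) (𝟙 R)
    rw [← F.map_comp, hβ2, F.map_comp, x.map_aut, Category.comp_id, Category.id_comp]
  let y' : FibCat.InertiaObj F := ⟨y, ⟨β, β', e1, e2⟩, e3⟩
  exact ⟨y', ⟨ψ, hβ2⟩, rfl, HEq.rfl⟩

/-- A morphism of the inertia whose underlying morphism is strongly cartesian (and stays so
under `F`)... is strongly cartesian: here in the form needed, for the underlying morphism
strongly cartesian in `𝒳`. -/
theorem inertia_isStronglyCartesian (F : 𝒳 ⥤ᵇ 𝒴) {R S : C} (f : R ⟶ S)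
    {y x : FibCat.InertiaObj F} (φ : y ⟶ x) [h : 𝒳.p.IsStronglyCartesian f φ.hom] :
    (FibCat.inertia F).p.IsStronglyCartesian f φ := by
  have hl : (FibCat.inertia F).p.IsHomLift f φ := (inertia_isHomLift_iff F f φ).mpr inferInstance
  refine { toIsHomLift := hl, universal_property' := ?_ }
  intro z g φ' hφ'
  change 𝒳.p.obj z.pt ⟶ R at g
  have h1 : 𝒳.p.IsHomLift (g ≫ f) φ'.hom := (inertia_isHomLift_iff F (g ≫ f) φ').mp hφ'
  obtain ⟨χ, ⟨hχ1, hχ2⟩, hχu⟩ := IsStronglyCartesian.universal_property 𝒳.p f φ.hom g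
    (g ≫ f) rfl φ'.hom
  have hγ := inertia_aut_isHomLift F z
  have hβ := inertia_aut_isHomLift F y
  have hcomm : z.aut.hom ≫ χ = χ ≫ y.aut.hom := by
    have h2 : 𝒳.p.IsHomLift g (z.aut.hom ≫ χ) := inferInstance
    have hyR : 𝒳.p.obj y.pt = R := IsHomLift.domain_eq 𝒳.p f φ.hom
    have hβ' : 𝒳.p.IsHomLift (𝟙 R) y.aut.hom := isHomLift_id_of_eq 𝒳.p hyR y.aut.hom
    have h3 : 𝒳.p.IsHomLift g (χ ≫ y.aut.hom) := inferInstance
    apply IsStronglyCartesian.ext 𝒳.p f φ.hom g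
    calc (z.aut.hom ≫ χ) ≫ φ.hom = z.aut.hom ≫ φ'.hom := by rw [Category.assoc, hχ2]
      _ = φ'.hom ≫ x.aut.hom := φ'.comm
      _ = χ ≫ (φ.hom ≫ x.aut.hom) := by rw [← hχ2, Category.assoc]
      _ = (χ ≫ y.aut.hom) ≫ φ.hom := by rw [← φ.comm, Category.assoc]
  refine ⟨⟨χ, hcomm⟩, ⟨?_, ?_⟩, ?_⟩
  · exact (inertia_isHomLift_iff F g _).mpr hχ1
  · exact FibCat.InertiaObj.hom_ext hχ2
  · rintro χ' ⟨hχ'1, hχ'2⟩
    apply FibCat.InertiaObj.hom_ext
    apply hχu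
    refine ⟨(inertia_isHomLift_iff F g χ').mp hχ'1, ?_⟩
    exact congrArg FibCat.InertiaObj.Hom.hom hχ'2

/-- The relative inertia of a cartesian functor between fibred categories is fibred. -/
theorem isFibered_inertia [𝒳.p.IsFibered] (F : 𝒳 ⥤ᵇ 𝒴)
    (hF : FibCat.PreservesStronglyCartesian F) : (FibCat.inertia F).p.IsFibered := by
  apply IsFibered.of_exists_isStronglyCartesian
  intro x R f
  change R ⟶ 𝒳.p.obj x.pt at f
  obtain ⟨y, ψ, hψ⟩ := IsPreFibered.exists_isCartesian' (p := 𝒳.p) (a := x.pt) f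
  have hψ' : 𝒳.p.IsStronglyCartesian f ψ := IsFibered.isStronglyCartesian_of_isCartesian 𝒳.p f ψ
  have hFψ : 𝒴.p.IsStronglyCartesian f (F.map ψ) := hF f ψ hψ'
  obtain ⟨y', φ, hy, hφ⟩ := inertia_exists_pullback F x f ψ
  obtain ⟨pt, aut, map_aut⟩ := y'
  dsimp only at hy
  subst hy
  have hφ' : φ.hom = ψ := eq_of_heq hφ
  have : 𝒳.p.IsStronglyCartesian f φ.hom := by rw [hφ']; exact hψ'
  exact ⟨_, φ, inertia_isStronglyCartesian F f φ⟩

/-- The inertia of a category fibred in groupoids is fibred in groupoids. -/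
theorem isFibGrpd_inertia (h𝒳 : FibCat.IsFibGrpd 𝒳.p) :
    FibCat.IsFibGrpd (FibCat.inertia (FibCat.toSelf 𝒳)).p := by
  refine ⟨?_, ?_⟩
  · intro x V f
    change V ⟶ 𝒳.p.obj x.pt at f
    obtain ⟨y, ψ, hψ⟩ := h𝒳.exists_lift (x := x.pt) f
    have hψ' : 𝒳.p.IsStronglyCartesian f ψ := IsFibGrpd.isStronglyCartesian_of_isHomLift h𝒳 f ψ
    have hFψ : (FibCat.selfOver C).p.IsStronglyCartesian f ((FibCat.toSelf 𝒳).map ψ) := by
      have hl : (FibCat.selfOver C).p.IsHomLift f ((FibCat.toSelf 𝒳).map ψ) := inferInstance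
      exact id_isStronglyCartesian_of_isHomLift f ((FibCat.toSelf 𝒳).map ψ) (h := hl)
    obtain ⟨y', φ, hy, hφ⟩ := inertia_exists_pullback (FibCat.toSelf 𝒳) x f ψ
    obtain ⟨pt, aut, map_aut⟩ := y'
    dsimp only at hy
    subst hy
    have hφ' : φ.hom = ψ := eq_of_heq hφ
    refine ⟨_, φ, ?_⟩
    rw [inertia_isHomLift_iff, hφ']
    exact hψ
  · intro y x φ
    have h1 : 𝒳.p.IsStronglyCartesian (𝒳.p.map φ.hom) φ.hom := h𝒳.isStronglyCartesian φ.hom
    exact inertia_isStronglyCartesian (FibCat.toSelf 𝒳) (𝒳.p.map φ.hom) φ (h := h1)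

end Inertia

end Groth.Agent.Lib.Helper17
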