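-- helper17: the 2-fibre product `fp F G` over the base: cartesian morphisms, fibredness.
import Groth.Agent.Lib.Helper17FibInertia

set_option autoImplicit false
open CategoryTheory CategoryTheory.Functor

universe v₁ u₁ v₂ u₂ v₃ u₃ v₄ u₄

namespace Groth.Agent.Lib.Helper17

section Fp

variable {C : Type u₁} [Category.{v₁} C] {𝒳 : BasedCategory.{v₂, u₂} C}
  {𝒴 : BasedCategory.{v₃, u₃} C} {𝒮 : BasedCategory.{v₄, u₄} C}
  (F : 𝒳 ⥤ᵇ 𝒮) (G : 𝒴 ⥤ᵇ 𝒮)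

/-- Lifting along the structure functor of `fp F G` is lifting the first component. -/
theorem fp_isHomLift_iff {R S : C} (f : R ⟶ S) {x y : (FibCat.fp F G).obj} (φ : x ⟶ y) :
    (FibCat.fp F G).p.IsHomLift f φ ↔ 𝒳.p.IsHomLift f φ.hom.fst :=
  isHomLift_comp_iff (FibCat.fpFst F G).toFunctor 𝒳.p f φ

/-- The second component lies over the same morphism. -/
theorem fp_isHomLift_snd' {R S : C} (f : R ⟶ S) {x y : (FibCat.fp F G).obj} (φ : x ⟶ y)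
    [h : (FibCat.fp F G).p.IsHomLift f φ] : 𝒴.p.IsHomLift f φ.hom.snd := by
  subst_hom_lift (FibCat.fp F G).p f φ
  infer_instance

theorem fp_isHomLift_fst' {R S : C} (f : R ⟶ S) {x y : (FibCat.fp F G).obj} (φ : x ⟶ y)
    [h : (FibCat.fp F G).p.IsHomLift f φ] : 𝒳.p.IsHomLift f φ.hom.fst :=
  (fp_isHomLift_iff F G f φ).1 h

/-- The second component of an object lies over the same object as the first. -/
theorem fp_snd_obj (x : (FibCat.fp F G).obj) : 𝒴.p.obj x.obj.snd = 𝒳.p.obj x.obj.fst :=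
  (FibCat.fpSnd F G).w_obj x

/-- The structural isomorphism of an object of `fp F G` over `R` lies over `𝟙 R`. -/
theorem fp_iso_isHomLift (x : (FibCat.fp F G).obj) {R : C} (hx : 𝒳.p.obj x.obj.fst = R) :
    𝒮.p.IsHomLift (𝟙 R) x.obj.iso.hom := by
  subst hx
  exact x.property

theorem fp_iso_inv_isHomLift (x : (FibCat.fp F G).obj) {R : C} (hx : 𝒳.p.obj x.obj.fst = R) :
    𝒮.p.IsHomLift (𝟙 R) x.obj.iso.inv := by
  have := fp_iso_isHomLift F G x hx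
  exact IsHomLift.lift_id_inv 𝒮.p _ x.obj.iso

/-- A morphism of `fp F G` whose components are strongly cartesian (the second one staying so
under `G`) is strongly cartesian. -/
theorem fp_isStronglyCartesian {R S : C} (f : R ⟶ S) {x y : (FibCat.fp F G).obj} (φ : x ⟶ y)
    [h1 : 𝒳.p.IsStronglyCartesian f φ.hom.fst] [h2 : 𝒴.p.IsStronglyCartesian f φ.hom.snd]
    [h3 : 𝒮.p.IsStronglyCartesian f (G.map φ.hom.snd)] :
    (FibCat.fp F G).p.IsStronglyCartesian f φ := by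
  have h0 : (FibCat.fp F G).p.IsHomLift f φ := (fp_isHomLift_iff F G f φ).2 inferInstance
  refine { toIsHomLift := h0, universal_property' := ?_ }
  intro z g ψ hψ
  have hψ1 : 𝒳.p.IsHomLift (g ≫ f) ψ.hom.fst := fp_isHomLift_fst' F G _ ψ
  have hψ2 : 𝒴.p.IsHomLift (g ≫ f) ψ.hom.snd := fp_isHomLift_snd' F G _ ψ
  obtain ⟨χ₁, ⟨hχ₁, eχ₁⟩, uχ₁⟩ := IsStronglyCartesian.universal_property 𝒳.p f φ.hom.fst g
    (g ≫ f) rfl ψ.hom.fst
  obtain ⟨χ₂, ⟨hχ₂, eχ₂⟩, uχ₂⟩ := IsStronglyCartesian.universal_property 𝒴.p f φ.hom.snd g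
    (g ≫ f) rfl ψ.hom.snd
  have hxR : 𝒳.p.obj x.obj.fst = R := IsHomLift.domain_eq 𝒳.p f φ.hom.fst
  have hzR : 𝒳.p.obj z.obj.fst = (FibCat.fp F G).p.obj z := rfl
  have hx := fp_iso_isHomLift F G x hxR
  have hz := fp_iso_isHomLift F G z hzR
  have w : F.map χ₁ ≫ x.obj.iso.hom = z.obj.iso.hom ≫ G.map χ₂ := by
    have k1 : 𝒮.p.IsHomLift g (F.map χ₁ ≫ x.obj.iso.hom) := by
      have : 𝒮.p.IsHomLift (g ≫ 𝟙 R) (F.map χ₁ ≫ x.obj.iso.hom) := inferInstance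
      simpa using this
    have k2 : 𝒮.p.IsHomLift g (z.obj.iso.hom ≫ G.map χ₂) := by
      have : 𝒮.p.IsHomLift (𝟙 _ ≫ g) (z.obj.iso.hom ≫ G.map χ₂) := inferInstance
      simpa using this
    apply IsStronglyCartesian.ext 𝒮.p f (G.map φ.hom.snd) g
    rw [Category.assoc, Category.assoc, ← G.map_comp, eχ₂, ← ψ.hom.w, ← φ.hom.w,
      ← Category.assoc, ← F.map_comp, eχ₁]
  refine ⟨ObjectProperty.homMk ⟨χ₁, χ₂, w⟩, ⟨?_, ?_⟩, ?_⟩
  · exact (fp_isHomLift_iff F G g _).2 hχ₁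
  · apply ObjectProperty.hom_ext
    apply Limits.CategoricalPullback.hom_ext
    · exact eχ₁
    · exact eχ₂
  · rintro χ' ⟨hχ'1, hχ'2⟩
    apply ObjectProperty.hom_ext
    apply Limits.CategoricalPullback.hom_ext
    · have := fp_isHomLift_fst' F G g χ'
      exact uχ₁ χ'.hom.fst ⟨this, by rw [← hχ'2]; rfl⟩
    · have := fp_isHomLift_snd' F G g χ'
      exact uχ₂ χ'.hom.snd ⟨this, by rw [← hχ'2]; rfl⟩

/-- Strongly cartesian lifts in `fp F G` built from strongly cartesian lifts of the components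
which stay strongly cartesian in `𝒮`. -/
theorem fp_exists_isStronglyCartesian (y : (FibCat.fp F G).obj) {R : C}
    (f : R ⟶ 𝒳.p.obj y.obj.fst) {x₁ : 𝒳.obj} (φ₁ : x₁ ⟶ y.obj.fst) {x₂ : 𝒴.obj}
    (φ₂ : x₂ ⟶ y.obj.snd) [h1 : 𝒳.p.IsStronglyCartesian f φ₁]
    [h2 : 𝒴.p.IsStronglyCartesian f φ₂] [h3 : 𝒮.p.IsStronglyCartesian f (F.map φ₁)]
    [h4 : 𝒮.p.IsStronglyCartesian f (G.map φ₂)] :
    ∃ (x : (FibCat.fp F G).obj) (φ : x ⟶ y), (FibCat.fp F G).p.IsStronglyCartesian f φ ∧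
      x.obj.fst = x₁ ∧ x.obj.snd = x₂ ∧ HEq φ.hom.fst φ₁ ∧ HEq φ.hom.snd φ₂ := by
  have hR : 𝒳.p.obj x₁ = R := IsHomLift.domain_eq 𝒳.p f φ₁
  subst hR
  have hy : 𝒮.p.IsHomLift (𝟙 (𝒳.p.obj y.obj.fst)) y.obj.iso.hom := y.property
  have h5 : 𝒮.p.IsStronglyCartesian f (F.map φ₁ ≫ y.obj.iso.hom) := by
    have : 𝒮.p.IsStronglyCartesian (f ≫ 𝟙 _) (F.map φ₁ ≫ y.obj.iso.hom) := inferInstance
    simpa using this
  let i : F.obj x₁ ≅ G.obj x₂ :=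
    IsCartesian.domainUniqueUpToIso 𝒮.p f (G.map φ₂) (F.map φ₁ ≫ y.obj.iso.hom)
  have hi : 𝒮.p.IsHomLift (𝟙 (𝒳.p.obj x₁)) i.hom := by
    dsimp only [i]; infer_instance
  have wi : F.map φ₁ ≫ y.obj.iso.hom = i.hom ≫ G.map φ₂ :=
    (IsCartesian.fac 𝒮.p f (G.map φ₂) (F.map φ₁ ≫ y.obj.iso.hom)).symm
  let x : (FibCat.fp F G).obj := ⟨⟨x₁, x₂, i⟩, hi⟩
  let φ : x ⟶ y := ObjectProperty.homMk ⟨φ₁, φ₂, wi⟩
  have k1 : 𝒳.p.IsStronglyCartesian f φ.hom.fst := h1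
  have k2 : 𝒴.p.IsStronglyCartesian f φ.hom.snd := h2
  have k3 : 𝒮.p.IsStronglyCartesian f (G.map φ.hom.snd) := h4
  exact ⟨x, φ, fp_isStronglyCartesian F G f φ, rfl, rfl, HEq.rfl, HEq.rfl⟩

/-- The 2-fibre product of fibred categories along functors preserving strongly cartesian
morphisms is fibred (no hypothesis on the base `𝒮` of the fibre product is needed). -/
theorem isFibered_fp [𝒳.p.IsFibered] [𝒴.p.IsFibered]
    (hF : ∀ {R S : C} (f : R ⟶ S) {a b : 𝒳.obj} (φ : a ⟶ b),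
      𝒳.p.IsStronglyCartesian f φ → 𝒮.p.IsStronglyCartesian f (F.map φ))
    (hG : ∀ {R S : C} (f : R ⟶ S) {a b : 𝒴.obj} (φ : a ⟶ b),
      𝒴.p.IsStronglyCartesian f φ → 𝒮.p.IsStronglyCartesian f (G.map φ)) :
    (FibCat.fp F G).p.IsFibered := by
  apply IsFibered.of_exists_isStronglyCartesian
  intro y R f
  change R ⟶ 𝒳.p.obj y.obj.fst at f
  obtain ⟨x₁, φ₁, h₁⟩ := IsPreFibered.exists_isCartesian' (p := 𝒳.p) (a := y.obj.fst) f
  obtain ⟨x₂, φ₂, h₂⟩ := IsPreFibered.exists_isCartesian 𝒴.p (a := y.obj.snd)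
    (fp_snd_obj F G y) f
  have h1 : 𝒳.p.IsStronglyCartesian f φ₁ :=
    IsFibered.isStronglyCartesian_of_isCartesian 𝒳.p f φ₁
  have h2 : 𝒴.p.IsStronglyCartesian f φ₂ :=
    IsFibered.isStronglyCartesian_of_isCartesian 𝒴.p f φ₂
  have h3 := hF f φ₁ h1
  have h4 := hG f φ₂ h2
  obtain ⟨x, φ, hφ, -⟩ := fp_exists_isStronglyCartesian F G y f φ₁ φ₂
  exact ⟨x, φ, hφ⟩

/-- The 2-fibre product of categories fibred in groupoids is fibred in groupoids. -/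
theorem isFibGrpd_fp (h𝒳 : FibCat.IsFibGrpd 𝒳.p) (h𝒴 : FibCat.IsFibGrpd 𝒴.p)
    (h𝒮 : FibCat.IsFibGrpd 𝒮.p) : FibCat.IsFibGrpd (FibCat.fp F G).p := by
  refine ⟨?_, ?_⟩
  · intro y R f
    change R ⟶ 𝒳.p.obj y.obj.fst at f
    obtain ⟨x₁, φ₁, h₁⟩ := h𝒳.exists_lift (x := y.obj.fst) f
    obtain ⟨x₂, φ₂, h₂⟩ := h𝒴.exists_lift (x := y.obj.snd)
      (f ≫ eqToHom (fp_snd_obj F G y).symm)
    have h₂' : 𝒴.p.IsHomLift f φ₂ :=
      (IsHomLift.lift_comp_eqToHom_iff (p := 𝒴.p) f φ₂ (fp_snd_obj F G y).symm).1 h₂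
    have h₁' : 𝒳.p.IsHomLift f φ₁ := h₁
    have h1 : 𝒳.p.IsStronglyCartesian f φ₁ :=
      IsFibGrpd.isStronglyCartesian_of_isHomLift h𝒳 f φ₁
    have h2 : 𝒴.p.IsStronglyCartesian f φ₂ :=
      IsFibGrpd.isStronglyCartesian_of_isHomLift h𝒴 f φ₂
    have h3 : 𝒮.p.IsStronglyCartesian f (F.map φ₁) :=
      IsFibGrpd.isStronglyCartesian_of_isHomLift h𝒮 f _
    have h4 : 𝒮.p.IsStronglyCartesian f (G.map φ₂) :=
      IsFibGrpd.isStronglyCartesian_of_isHomLift h𝒮 f _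
    obtain ⟨x, φ, hφ, -⟩ := fp_exists_isStronglyCartesian F G y f φ₁ φ₂
    exact ⟨x, φ, hφ.toIsHomLift⟩
  · intro x y φ
    have h1 : 𝒳.p.IsStronglyCartesian ((FibCat.fp F G).p.map φ) φ.hom.fst :=
      h𝒳.isStronglyCartesian φ.hom.fst
    have h2 : 𝒴.p.IsStronglyCartesian ((FibCat.fp F G).p.map φ) φ.hom.snd :=
      IsFibGrpd.isStronglyCartesian_of_isHomLift h𝒴 _ _
    have h3 : 𝒮.p.IsStronglyCartesian ((FibCat.fp F G).p.map φ) (G.map φ.hom.snd) :=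
      IsFibGrpd.isStronglyCartesian_of_isHomLift h𝒮 _ _
    exact fp_isStronglyCartesian F G _ φ

end Fp

end Groth.Agent.Lib.Helper17
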