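-- helper17: projections of the 2-fibre product are fibred in groupoids.
import Groth.Agent.Lib.Helper17FibFp
import Groth.Agent.Lib.Helper17FibOver

set_option autoImplicit false
open CategoryTheory CategoryTheory.Functor

universe v₁ u₁ v₂ u₂ v₃ u₃ v₄ u₄

namespace Groth.Agent.Lib.Helper17

section CompMap

variable {C : Type u₁} [Category.{v₁} C] {𝒢 : Type u₂} [Category.{v₂} 𝒢]
  {ℱ : Type u₃} [Category.{v₃} ℱ]

/-- If `φ` is strongly cartesian for `F ⋙ G` and `F φ` is strongly cartesian for `G`, then `φ` is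
strongly cartesian for `F`. -/
theorem isStronglyCartesian_of_comp_of_map (F : ℱ ⥤ 𝒢) (G : 𝒢 ⥤ C) {x y : ℱ} (φ : x ⟶ y)
    [h : (F ⋙ G).IsStronglyCartesian ((F ⋙ G).map φ) φ]
    [h' : G.IsStronglyCartesian (G.map (F.map φ)) (F.map φ)] :
    F.IsStronglyCartesian (F.map φ) φ := by
  refine { toIsHomLift := inferInstance, universal_property' := ?_ }
  intro a' k φ' hφ'
  have e1 : F.map φ' = k ≫ F.map φ := map_eq_of_isHomLift F (k ≫ F.map φ) φ'
  have h1 : (F ⋙ G).IsHomLift (G.map k ≫ (F ⋙ G).map φ) φ' := by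
    rw [isHomLift_comp_iff]
    have : G.map k ≫ (F ⋙ G).map φ = G.map (k ≫ F.map φ) := by simp
    rw [this, ← e1]
    infer_instance
  obtain ⟨χ, ⟨hχ1, hχ2⟩, hχu⟩ := IsStronglyCartesian.universal_property (F ⋙ G)
    ((F ⋙ G).map φ) φ (G.map k) (G.map k ≫ (F ⋙ G).map φ) rfl φ'
  have hχ3 : F.map χ = k := by
    have k1 : G.IsHomLift (G.map k) (F.map χ) := (isHomLift_comp_iff F G _ χ).mp hχ1
    have k2 : G.IsHomLift (G.map k) k := inferInstance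
    apply IsStronglyCartesian.ext G (G.map (F.map φ)) (F.map φ) (G.map k)
    rw [← F.map_comp, hχ2, e1]
  refine ⟨χ, ⟨?_, hχ2⟩, ?_⟩
  · rw [← hχ3]; infer_instance
  · rintro χ' ⟨hχ'1, hχ'2⟩
    have h2 : (F ⋙ G).IsHomLift (G.map k) χ' := by
      rw [isHomLift_comp_iff, map_eq_of_isHomLift F k χ']
      infer_instance
    exact hχu χ' ⟨h2, hχ'2⟩

end CompMap

section Fp

variable {C : Type u₁} [Category.{v₁} C] {𝒳 : BasedCategory.{v₂, u₂} C}
  {𝒴 : BasedCategory.{v₃, u₃} C} {𝒮 : BasedCategory.{v₄, u₄} C}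
  (F : 𝒳 ⥤ᵇ 𝒮) (G : 𝒴 ⥤ᵇ 𝒮)

/-- The second projection of a 2-fibre product of categories fibred in groupoids is fibred in
groupoids. -/
theorem isFibGrpd_fpSnd (h𝒳 : FibCat.IsFibGrpd 𝒳.p) (h𝒴 : FibCat.IsFibGrpd 𝒴.p)
    (h𝒮 : FibCat.IsFibGrpd 𝒮.p) : FibCat.IsFibGrpd (FibCat.fpSnd F G).toFunctor := by
  have hfp := isFibGrpd_fp F G h𝒳 h𝒴 h𝒮
  refine ⟨?_, ?_⟩
  · intro y y' g
    change y' ⟶ y.obj.snd at g
    obtain ⟨f, hf⟩ : ∃ f : 𝒴.p.obj y' ⟶ 𝒳.p.obj y.obj.fst,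
        f = 𝒴.p.map g ≫ eqToHom (fp_snd_obj F G y) := ⟨_, rfl⟩
    have hg : 𝒴.p.IsHomLift f g := by rw [hf]; infer_instance
    obtain ⟨x₁, φ₁, h₁⟩ := h𝒳.exists_lift (x := y.obj.fst) f
    have h1 : 𝒳.p.IsStronglyCartesian f φ₁ :=
      IsFibGrpd.isStronglyCartesian_of_isHomLift h𝒳 f φ₁
    have h2 : 𝒴.p.IsStronglyCartesian f g :=
      IsFibGrpd.isStronglyCartesian_of_isHomLift h𝒴 f g
    have h3 : 𝒮.p.IsStronglyCartesian f (F.map φ₁) :=
      IsFibGrpd.isStronglyCartesian_of_isHomLift h𝒮 f _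
    have h4 : 𝒮.p.IsStronglyCartesian f (G.map g) :=
      IsFibGrpd.isStronglyCartesian_of_isHomLift h𝒮 f _
    obtain ⟨x, φ, hφ, e1, e2, he1, he2⟩ := fp_exists_isStronglyCartesian F G y f φ₁ g
    subst e2
    have he2' : φ.hom.snd = g := eq_of_heq he2
    refine ⟨x, φ, ?_⟩
    rw [← he2']
    exact IsHomLift.map (FibCat.fpSnd F G).toFunctor φ
  · intro x y φ
    have k1 : ((FibCat.fpSnd F G).toFunctor ⋙ 𝒴.p).IsStronglyCartesian
        (((FibCat.fpSnd F G).toFunctor ⋙ 𝒴.p).map φ) φ := by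
      have := hfp.isStronglyCartesian φ
      have e : (FibCat.fpSnd F G).toFunctor ⋙ 𝒴.p = (FibCat.fp F G).p := (FibCat.fpSnd F G).w
      rw [e]
      exact this
    have k2 := h𝒴.isStronglyCartesian ((FibCat.fpSnd F G).toFunctor.map φ)
    exact isStronglyCartesian_of_comp_of_map (FibCat.fpSnd F G).toFunctor 𝒴.p φ

end Fp

end Groth.Agent.Lib.Helper17
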