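-- helper17: 2-fibre products and setoid fibres.
import Groth.Agent.Lib.Helper17FibFp2

set_option autoImplicit false
open CategoryTheory CategoryTheory.Functor

universe v₁ u₁ v₂ u₂ v₃ u₃ v₄ u₄

namespace Groth.Agent.Lib.Helper17

section FpSetoid

variable {C : Type u₁} [Category.{v₁} C] {𝒳 : BasedCategory.{v₂, u₂} C}
  {𝒴 : BasedCategory.{v₃, u₃} C} {𝒮 : BasedCategory.{v₄, u₄} C}
  (F : 𝒳 ⥤ᵇ 𝒮) (G : 𝒴 ⥤ᵇ 𝒮)

/-- If `F` is faithful and the fibres of `𝒴` are thin, the fibres of `𝒳 ×_𝒮 𝒴` are thin. -/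
theorem fp_fiber_isThin [F.toFunctor.Faithful] (h𝒴 : ∀ U : C, Quiver.IsThin (𝒴.p.Fiber U))
    (U : C) : Quiver.IsThin ((FibCat.fp F G).p.Fiber U) := by
  intro X Y
  refine ⟨fun m m' => ?_⟩
  apply Subtype.ext
  have hm : (FibCat.fp F G).p.IsHomLift (𝟙 U) m.1 := m.2
  have hm' : (FibCat.fp F G).p.IsHomLift (𝟙 U) m'.1 := m'.2
  have h2 : 𝒴.p.IsHomLift (𝟙 U) m.1.hom.snd := fp_isHomLift_snd' F G (𝟙 U) m.1
  have h2' : 𝒴.p.IsHomLift (𝟙 U) m'.1.hom.snd := fp_isHomLift_snd' F G (𝟙 U) m'.1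
  have hXs : 𝒴.p.obj X.1.obj.snd = U := IsHomLift.domain_eq 𝒴.p (𝟙 U) m.1.hom.snd
  have hYs : 𝒴.p.obj Y.1.obj.snd = U := IsHomLift.codomain_eq 𝒴.p (𝟙 U) m.1.hom.snd
  have esnd : m.1.hom.snd = m'.1.hom.snd := by
    let A : 𝒴.p.Fiber U := ⟨X.1.obj.snd, hXs⟩
    let B : 𝒴.p.Fiber U := ⟨Y.1.obj.snd, hYs⟩
    let k : A ⟶ B := ⟨m.1.hom.snd, h2⟩
    let k' : A ⟶ B := ⟨m'.1.hom.snd, h2'⟩
    have : k = k' := @Subsingleton.elim _ ((h𝒴 U) A B) _ _
    exact congrArg Subtype.val this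
  apply ObjectProperty.hom_ext
  apply Limits.CategoricalPullback.hom_ext
  · apply F.toFunctor.map_injective
    have w := m.1.hom.w
    have w' := m'.1.hom.w
    rw [← cancel_mono Y.1.obj.iso.hom]
    change F.map m.1.hom.fst ≫ _ = F.map m'.1.hom.fst ≫ _
    rw [w, w', esnd]
  · exact esnd

/-- S12800: the 2-fibre product is fibred in setoids. -/
theorem isFibSetoid_fp [F.toFunctor.Faithful] (h𝒳 : FibCat.IsFibGrpd 𝒳.p)
    (h𝒴 : FibCat.IsFibSetoid 𝒴.p) (h𝒮 : FibCat.IsFibGrpd 𝒮.p) :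
    FibCat.IsFibSetoid (FibCat.fp F G).p :=
  ⟨isFibGrpd_fp F G h𝒳 h𝒴.1 h𝒮, fp_fiber_isThin F G h𝒴.2⟩

end FpSetoid

section FpFst

variable {C : Type u₁} [Category.{v₁} C] {𝒳 : BasedCategory.{v₂, u₂} C}
  {𝒴 : BasedCategory.{v₃, u₃} C} {𝒮 : BasedCategory.{v₄, u₄} C}
  (F : 𝒳 ⥤ᵇ 𝒮) (G : 𝒴 ⥤ᵇ 𝒮)

/-- The first projection of a 2-fibre product of categories fibred in groupoids is fibred in
groupoids. -/
theorem isFibGrpd_fpFst (h𝒳 : FibCat.IsFibGrpd 𝒳.p) (h𝒴 : FibCat.IsFibGrpd 𝒴.p)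
    (h𝒮 : FibCat.IsFibGrpd 𝒮.p) : FibCat.IsFibGrpd (FibCat.fpFst F G).toFunctor := by
  have hfp := isFibGrpd_fp F G h𝒳 h𝒴 h𝒮
  refine ⟨?_, ?_⟩
  · intro y x' g
    change x' ⟶ y.obj.fst at g
    obtain ⟨f, hf⟩ : ∃ f : 𝒳.p.obj x' ⟶ 𝒳.p.obj y.obj.fst, f = 𝒳.p.map g := ⟨_, rfl⟩
    have hg : 𝒳.p.IsHomLift f g := by rw [hf]; infer_instance
    obtain ⟨x₂, φ₂, h₂⟩ := h𝒴.exists_lift (x := y.obj.snd)
      (f ≫ eqToHom (fp_snd_obj F G y).symm)
    have h₂' : 𝒴.p.IsHomLift f φ₂ :=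
      (IsHomLift.lift_comp_eqToHom_iff (p := 𝒴.p) f φ₂ (fp_snd_obj F G y).symm).1 h₂
    have h1 : 𝒳.p.IsStronglyCartesian f g :=
      IsFibGrpd.isStronglyCartesian_of_isHomLift h𝒳 f g
    have h2 : 𝒴.p.IsStronglyCartesian f φ₂ :=
      IsFibGrpd.isStronglyCartesian_of_isHomLift h𝒴 f φ₂
    have h3 : 𝒮.p.IsStronglyCartesian f (F.map g) :=
      IsFibGrpd.isStronglyCartesian_of_isHomLift h𝒮 f _
    have h4 : 𝒮.p.IsStronglyCartesian f (G.map φ₂) :=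
      IsFibGrpd.isStronglyCartesian_of_isHomLift h𝒮 f _
    obtain ⟨x, φ, hφ, e1, e2, he1, he2⟩ := fp_exists_isStronglyCartesian F G y f g φ₂
    subst e1
    have he1' : φ.hom.fst = g := eq_of_heq he1
    refine ⟨x, φ, ?_⟩
    rw [← he1']
    exact IsHomLift.map (FibCat.fpFst F G).toFunctor φ
  · intro x y φ
    have k1 : ((FibCat.fpFst F G).toFunctor ⋙ 𝒳.p).IsStronglyCartesian
        (((FibCat.fpFst F G).toFunctor ⋙ 𝒳.p).map φ) φ := hfp.isStronglyCartesian φ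
    have k2 := h𝒳.isStronglyCartesian ((FibCat.fpFst F G).toFunctor.map φ)
    exact isStronglyCartesian_of_comp_of_map (FibCat.fpFst F G).toFunctor 𝒳.p φ

/-- If `G` is faithful, so is the first projection of the 2-fibre product. -/
theorem fpFst_faithful [G.toFunctor.Faithful] : (FibCat.fpFst F G).toFunctor.Faithful := by
  refine ⟨fun {a b} m m' h => ?_⟩
  have e1 : m.hom.fst = m'.hom.fst := h
  apply ObjectProperty.hom_ext
  apply Limits.CategoricalPullback.hom_ext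
  · exact e1
  · apply G.toFunctor.map_injective
    have w := m.hom.w
    have w' := m'.hom.w
    rw [← cancel_epi a.obj.iso.hom]
    change _ ≫ G.map m.hom.snd = _ ≫ G.map m'.hom.snd
    rw [← w, ← w', e1]

/-- If `F` is faithful, so is the second projection of the 2-fibre product. -/
theorem fpSnd_faithful [F.toFunctor.Faithful] : (FibCat.fpSnd F G).toFunctor.Faithful := by
  refine ⟨fun {a b} m m' h => ?_⟩
  have e1 : m.hom.snd = m'.hom.snd := h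
  apply ObjectProperty.hom_ext
  apply Limits.CategoricalPullback.hom_ext
  · apply F.toFunctor.map_injective
    have w := m.hom.w
    have w' := m'.hom.w
    rw [← cancel_mono b.obj.iso.hom]
    change F.map m.hom.fst ≫ _ = F.map m'.hom.fst ≫ _
    rw [w, w', e1]
  · exact e1

end FpFst

section Misc

variable {𝒜 : Type u₁} [Category.{v₁} 𝒜] {ℬ : Type u₂} [Category.{v₂} ℬ]

/-- The fibres of a faithful functor are thin. -/
theorem fiber_isThin_of_faithful (P : 𝒜 ⥤ ℬ) [P.Faithful] (c : ℬ) :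
    Quiver.IsThin (P.Fiber c) := by
  intro X Y
  refine ⟨fun m m' => ?_⟩
  apply Subtype.ext
  apply P.map_injective
  have hm : P.IsHomLift (𝟙 c) m.1 := m.2
  have hm' : P.IsHomLift (𝟙 c) m'.1 := m'.2
  rw [IsHomLift.fac' P (𝟙 c) m.1, IsHomLift.fac' P (𝟙 c) m'.1]

variable (C : Type u₁) [Category.{v₁} C]

/-- The base category over itself is fibred in groupoids. -/
theorem isFibGrpd_selfOver : FibCat.IsFibGrpd (FibCat.selfOver C).p := by
  refine ⟨?_, ?_⟩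
  · intro x V f
    exact ⟨V, f, IsHomLift.map (𝟭 C) f⟩
  · intro y x φ
    exact id_isStronglyCartesian_of_isHomLift ((𝟭 C).map φ) φ

end Misc

end Groth.Agent.Lib.Helper17
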