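-- helper17: the 2-Yoneda lemma for fibred categories (evaluation at the identity).
import Groth.Agent.Lib.Helper17FibOver
import Groth.Agent.Lib.Helper17FibEquiv
import Groth.Prelude.Def_W4stkcategoriessitesFib

set_option autoImplicit false
open CategoryTheory CategoryTheory.Functor

universe v₁ u₁ v₂ u₂

namespace Groth.Agent.Lib.Helper17

section Yoneda

variable {C : Type u₁} [Category.{v₁} C] {𝒳 : BasedCategory.{v₂, u₂} C} (U : C)

/-- The morphism from an object of `C/U` to the terminal object `𝟙 U`. -/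
def overTerm (f : Over U) : f ⟶ Over.mk (𝟙 U) := Over.homMk f.hom (by simp)

@[simp] theorem overTerm_left (f : Over U) : (overTerm U f).left = f.hom := rfl

theorem overTerm_comp {f' f : Over U} (h : f' ⟶ f) : h ≫ overTerm U f = overTerm U f' := by
  ext; simp [overTerm]

theorem overTerm_id : overTerm U (Over.mk (𝟙 U)) = 𝟙 _ := by
  ext; simp [overTerm]

theorem overTerm_isHomLift (f : Over U) : (Over.forget U).IsHomLift f.hom (overTerm U f) :=
  IsHomLift.map (Over.forget U) (overTerm U f)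

/-- The functor `H` sends every morphism to the terminal object of `C/U` to a strongly cartesian
morphism. -/
def TermCart (H : FibCat.overCat U ⥤ᵇ 𝒳) : Prop :=
  ∀ f : Over U, 𝒳.p.IsStronglyCartesian f.hom (H.map (overTerm U f))

theorem termCart_of_preservesStronglyCartesian (H : FibCat.overCat U ⥤ᵇ 𝒳)
    (hH : FibCat.PreservesStronglyCartesian H) : TermCart U H := by
  intro f
  apply hH
  have := overTerm_isHomLift U f
  exact IsFibGrpd.isStronglyCartesian_of_isHomLift (isFibSet_overForget U).1 f.hom (overTerm U f)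

theorem termCart_of_isFibGrpd (h𝒳 : FibCat.IsFibGrpd 𝒳.p) (H : FibCat.overCat U ⥤ᵇ 𝒳) :
    TermCart U H := by
  intro f
  have h1 : (FibCat.overCat U).p.IsHomLift f.hom (overTerm U f) := overTerm_isHomLift U f
  have h2 : 𝒳.p.IsHomLift f.hom (H.map (overTerm U f)) := inferInstance
  exact IsFibGrpd.isStronglyCartesian_of_isHomLift h𝒳 f.hom _

/-- Faithfulness of evaluation at the identity. -/
theorem yoneda_faithful {G H : FibCat.overCat U ⥤ᵇ 𝒳} (hH : TermCart U H) (α β : G ⟶ H)
    (h : α.toNatTrans.app (Over.mk (𝟙 U)) = β.toNatTrans.app (Over.mk (𝟙 U))) : α = β := by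
  apply BasedNatTrans.homCategory.ext
  ext f
  have := hH f
  have h1 := α.toNatTrans.naturality (overTerm U f)
  have h2 := β.toNatTrans.naturality (overTerm U f)
  have k1 : 𝒳.p.IsHomLift (𝟙 f.left) (α.toNatTrans.app f) := α.isHomLift' f
  have k2 : 𝒳.p.IsHomLift (𝟙 f.left) (β.toNatTrans.app f) := β.isHomLift' f
  apply IsStronglyCartesian.ext 𝒳.p f.hom (H.map (overTerm U f)) (𝟙 f.left)
  rw [← h1, ← h2, h]

/-- Fullness of evaluation at the identity. -/
theorem yoneda_full {G H : FibCat.overCat U ⥤ᵇ 𝒳} (hH : TermCart U H)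
    (m : G.obj (Over.mk (𝟙 U)) ⟶ H.obj (Over.mk (𝟙 U))) [hm : 𝒳.p.IsHomLift (𝟙 U) m] :
    ∃ α : G ⟶ H, α.toNatTrans.app (Over.mk (𝟙 U)) = m := by
  have hG : ∀ f : Over U, 𝒳.p.IsHomLift f.hom (G.map (overTerm U f) ≫ m) := fun f => by
    have h1 : (FibCat.overCat U).p.IsHomLift f.hom (overTerm U f) := overTerm_isHomLift U f
    have h2 : 𝒳.p.IsHomLift f.hom (G.map (overTerm U f)) := inferInstance
    have : 𝒳.p.IsHomLift (f.hom ≫ 𝟙 U) (G.map (overTerm U f) ≫ m) := inferInstance
    simpa using this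
  have key : ∀ f : Over U, ∃ χ : G.obj f ⟶ H.obj f, 𝒳.p.IsHomLift (𝟙 f.left) χ ∧
      χ ≫ H.map (overTerm U f) = G.map (overTerm U f) ≫ m := fun f => by
    have := hH f
    have := hG f
    obtain ⟨χ, hχ, -⟩ := IsStronglyCartesian.universal_property 𝒳.p f.hom (H.map (overTerm U f))
      (𝟙 f.left) f.hom (by simp) (G.map (overTerm U f) ≫ m)
    exact ⟨χ, hχ⟩
  choose χ hχ1 hχ2 using key
  have nat : ∀ {f' f : Over U} (h : f' ⟶ f), G.map h ≫ χ f = χ f' ≫ H.map h := by
    intro f' f h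
    have := hH f
    have := hχ1 f
    have := hχ1 f'
    have h0 : (FibCat.overCat U).p.IsHomLift h.left h := IsHomLift.map (Over.forget U) h
    have k1 : 𝒳.p.IsHomLift h.left (G.map h ≫ χ f) := by
      have : 𝒳.p.IsHomLift (h.left ≫ 𝟙 f.left) (G.map h ≫ χ f) := inferInstance
      simpa using this
    have k2 : 𝒳.p.IsHomLift h.left (χ f' ≫ H.map h) := by
      have : 𝒳.p.IsHomLift (𝟙 f'.left ≫ h.left) (χ f' ≫ H.map h) := inferInstance
      simpa using this
    have eG : G.map h ≫ G.map (overTerm U f) = G.map (overTerm U f') := by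
      rw [← G.map_comp]
      exact congrArg (fun k => G.map k) (overTerm_comp U h)
    have eH : H.map h ≫ H.map (overTerm U f) = H.map (overTerm U f') := by
      rw [← H.map_comp]
      exact congrArg (fun k => H.map k) (overTerm_comp U h)
    apply IsStronglyCartesian.ext 𝒳.p f.hom (H.map (overTerm U f)) h.left
    rw [Category.assoc, hχ2 f, ← Category.assoc, eG, Category.assoc, eH, hχ2 f']
  refine ⟨{ toNatTrans := { app := χ, naturality := fun _ _ h => nat h }, isHomLift' := hχ1 }, ?_⟩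
  change χ (Over.mk (𝟙 U)) = m
  have h3 := hχ2 (Over.mk (𝟙 U))
  have e1 : H.map (overTerm U (Over.mk (𝟙 U))) = 𝟙 _ := by
    rw [overTerm_id]; exact H.map_id _
  have e2 : G.map (overTerm U (Over.mk (𝟙 U))) = 𝟙 _ := by
    rw [overTerm_id]; exact G.map_id _
  rw [e1, e2, Category.comp_id, Category.id_comp] at h3
  exact h3

section EssSurj

variable {U} [𝒳.p.IsFibered] {x : 𝒳.obj} (hx : 𝒳.p.obj x = U)

/-- The chosen pullback of `x` along an object of `C/U`. -/
noncomputable def yonedaObj (f : Over U) : 𝒳.obj := IsPreFibered.pullbackObj hx f.hom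

/-- The chosen cartesian morphism. -/
noncomputable def yonedaCart (f : Over U) : yonedaObj hx f ⟶ x := IsPreFibered.pullbackMap hx f.hom

instance yonedaCart_isStronglyCartesian (f : Over U) :
    𝒳.p.IsStronglyCartesian f.hom (yonedaCart hx f) := by
  have : 𝒳.p.IsCartesian f.hom (yonedaCart hx f) :=
    IsPreFibered.pullbackMap.IsCartesian hx f.hom
  infer_instance

theorem yonedaObj_proj (f : Over U) : 𝒳.p.obj (yonedaObj hx f) = f.left :=
  IsHomLift.domain_eq 𝒳.p f.hom (yonedaCart hx f)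

/-- The action on morphisms. -/
noncomputable def yonedaMap {f' f : Over U} (h : f' ⟶ f) : yonedaObj hx f' ⟶ yonedaObj hx f :=
  IsStronglyCartesian.map 𝒳.p f.hom (yonedaCart hx f) (Over.w h).symm (yonedaCart hx f')

instance yonedaMap_isHomLift {f' f : Over U} (h : f' ⟶ f) :
    𝒳.p.IsHomLift h.left (yonedaMap hx h) := by
  unfold yonedaMap; infer_instance

@[simp] theorem yonedaMap_fac {f' f : Over U} (h : f' ⟶ f) :
    yonedaMap hx h ≫ yonedaCart hx f = yonedaCart hx f' :=
  IsStronglyCartesian.fac 𝒳.p f.hom (yonedaCart hx f) (Over.w h).symm (yonedaCart hx f')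

theorem yonedaMap_uniq {f' f : Over U} (h : f' ⟶ f) (ψ : yonedaObj hx f' ⟶ yonedaObj hx f)
    [𝒳.p.IsHomLift h.left ψ] (hψ : ψ ≫ yonedaCart hx f = yonedaCart hx f') :
    ψ = yonedaMap hx h :=
  IsStronglyCartesian.map_uniq 𝒳.p f.hom (yonedaCart hx f) (Over.w h).symm (yonedaCart hx f') ψ hψ

theorem yonedaMap_id (f : Over U) : yonedaMap hx (𝟙 f) = 𝟙 (yonedaObj hx f) := by
  have : 𝒳.p.IsHomLift (𝟙 f : f ⟶ f).left (𝟙 (yonedaObj hx f)) :=
    IsHomLift.id (yonedaObj_proj hx f)
  exact (yonedaMap_uniq hx (𝟙 f) (𝟙 _) (by simp)).symm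

theorem yonedaMap_comp {f'' f' f : Over U} (h : f'' ⟶ f') (h' : f' ⟶ f) :
    yonedaMap hx (h ≫ h') = yonedaMap hx h ≫ yonedaMap hx h' := by
  have : 𝒳.p.IsHomLift (h ≫ h').left (yonedaMap hx h ≫ yonedaMap hx h') := by
    change 𝒳.p.IsHomLift (h.left ≫ h'.left) _
    infer_instance
  exact (yonedaMap_uniq hx (h ≫ h') (yonedaMap hx h ≫ yonedaMap hx h') (by simp)).symm

/-- The functor `C/U ⟶ 𝒳` over `C` attached to an object of the fibre over `U`. -/
noncomputable def yonedaFunctor : FibCat.overCat U ⥤ᵇ 𝒳 where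
  toFunctor :=
    { obj := fun f => yonedaObj hx f
      map := fun {f' f} h => yonedaMap hx h
      map_id := fun f => yonedaMap_id hx f
      map_comp := fun {f'' f' f} h h' => yonedaMap_comp hx h h' }
  w := by
    apply Functor.ext
    · intro f' f h
      exact IsHomLift.fac' 𝒳.p h.left (yonedaMap hx h)
    · intro f
      exact yonedaObj_proj hx f

theorem yonedaFunctor_map {f' f : Over U} (h : f' ⟶ f) :
    (yonedaFunctor hx).map h = yonedaMap hx h := rfl

theorem yonedaFunctor_preserves : FibCat.PreservesStronglyCartesian (yonedaFunctor hx) := by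
  intro R S g a b φ hφ
  have h0 : (Over.forget U).IsHomLift g φ := hφ.toIsHomLift
  change 𝒳.p.IsStronglyCartesian g (yonedaMap hx φ)
  have hg : 𝒳.p.IsHomLift g (yonedaMap hx φ) := by
    have : (FibCat.overCat U).p.IsHomLift g φ := h0
    exact BasedFunctor.preserves_isHomLift (yonedaFunctor hx) g φ
  have hS : b.left = S := IsHomLift.codomain_eq (Over.forget U) g φ
  subst hS
  have h1 : 𝒳.p.IsStronglyCartesian (g ≫ b.hom) (yonedaMap hx φ ≫ yonedaCart hx b) := by
    rw [yonedaMap_fac]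
    have hR : a.left = R := IsHomLift.domain_eq (Over.forget U) g φ
    subst hR
    have e : g = φ.left := by
      have := IsHomLift.fac (Over.forget U) g φ
      simpa using this
    rw [e, Over.w φ]
    infer_instance
  exact IsStronglyCartesian.of_comp 𝒳.p (f := g) (g := b.hom) (φ := yonedaMap hx φ)
    (ψ := yonedaCart hx b)

/-- The value of the functor at the identity is isomorphic to `x` over `𝟙 U`. -/
theorem yonedaFunctor_iso : ∃ e : (yonedaFunctor hx).obj (Over.mk (𝟙 U)) ≅ x,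
    𝒳.p.IsHomLift (𝟙 U) e.hom := by
  have h1 : 𝒳.p.IsStronglyCartesian (𝟙 U) (yonedaCart hx (Over.mk (𝟙 U))) :=
    yonedaCart_isStronglyCartesian hx (Over.mk (𝟙 U))
  have h2 : IsIso (yonedaCart hx (Over.mk (𝟙 U))) :=
    IsStronglyCartesian.isIso_of_base_isIso 𝒳.p (𝟙 U) _
  exact ⟨(asIso (yonedaCart hx (Over.mk (𝟙 U))) : yonedaObj hx (Over.mk (𝟙 U)) ≅ x),
    h1.toIsHomLift⟩

end EssSurj

section Main

/-- Evaluation at the identity on a full subcategory of functors all of which send morphisms to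
the terminal object to strongly cartesian morphisms, and containing the functors
`yonedaFunctor`, is an equivalence. -/
theorem evalAtId_isEquivalence_of (P : ObjectProperty (FibCat.overCat U ⥤ᵇ 𝒳)) [𝒳.p.IsFibered]
    (hP : ∀ H, P H → TermCart U H)
    (hP' : ∀ {x : 𝒳.obj} (hx : 𝒳.p.obj x = U), P (yonedaFunctor hx)) :
    (P.ι ⋙ FibCat.evalAtId 𝒳 U).IsEquivalence := by
  have hfaith : (P.ι ⋙ FibCat.evalAtId 𝒳 U).Faithful := by
    refine ⟨fun {a b} f g h => ?_⟩
    apply ObjectProperty.hom_ext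
    apply yoneda_faithful U (hP _ b.property)
    exact congrArg Subtype.val h
  have hfull : (P.ι ⋙ FibCat.evalAtId 𝒳 U).Full := by
    refine ⟨fun {a b} k => ?_⟩
    have hk : 𝒳.p.IsHomLift (𝟙 U) k.1 := k.2
    obtain ⟨α, hα⟩ := yoneda_full U (G := a.obj) (H := b.obj) (hP _ b.property) k.1 (hm := hk)
    refine ⟨ObjectProperty.homMk α, ?_⟩
    exact Subtype.ext hα
  have hess : (P.ι ⋙ FibCat.evalAtId 𝒳 U).EssSurj := by
    refine ⟨fun X => ?_⟩
    obtain ⟨e, he⟩ := yonedaFunctor_iso X.2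
    have heinv : 𝒳.p.IsHomLift (𝟙 U) e.inv := IsHomLift.lift_id_inv 𝒳.p U e
    refine ⟨⟨yonedaFunctor X.2, hP' X.2⟩, ⟨?_⟩⟩
    exact
      { hom := ⟨e.hom, he⟩
        inv := ⟨e.inv, heinv⟩
        hom_inv_id := Subtype.ext e.hom_inv_id
        inv_hom_id := Subtype.ext e.inv_hom_id }
  exact { }

/-- 2-Yoneda for fibred categories: evaluation at the identity, restricted to functors preserving
strongly cartesian morphisms, is an equivalence. -/
theorem evalAtId_isEquivalence_of_isFibered [𝒳.p.IsFibered] :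
    ((ObjectProperty.ι (FibCat.PreservesStronglyCartesian (𝒳 := FibCat.overCat U) (𝒴 := 𝒳))) ⋙
      FibCat.evalAtId 𝒳 U).IsEquivalence :=
  evalAtId_isEquivalence_of U _ (fun H hH => termCart_of_preservesStronglyCartesian U H hH)
    (fun hx => yonedaFunctor_preserves hx)

/-- 2-Yoneda for categories fibred in groupoids. -/
theorem evalAtId_isEquivalence_of_isFibGrpd (h𝒳 : FibCat.IsFibGrpd 𝒳.p) :
    (FibCat.evalAtId 𝒳 U).IsEquivalence := by
  have := IsFibGrpd.isFibered h𝒳
  have h1 := evalAtId_isEquivalence_of U (⊤ : ObjectProperty (FibCat.overCat U ⥤ᵇ 𝒳))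
    (fun H _ => termCart_of_isFibGrpd U h𝒳 H) (fun _ => trivial)
  have hfaith : (FibCat.evalAtId 𝒳 U).Faithful := by
    refine ⟨fun {a b} f g h => ?_⟩
    apply yoneda_faithful U (termCart_of_isFibGrpd U h𝒳 b)
    exact congrArg Subtype.val h
  have hfull : (FibCat.evalAtId 𝒳 U).Full := by
    refine ⟨fun {a b} k => ?_⟩
    have hk : 𝒳.p.IsHomLift (𝟙 U) k.1 := k.2
    obtain ⟨α, hα⟩ := yoneda_full U (G := a) (H := b) (termCart_of_isFibGrpd U h𝒳 b) k.1
      (hm := hk)
    exact ⟨α, Subtype.ext hα⟩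
  have hess : (FibCat.evalAtId 𝒳 U).EssSurj := by
    refine ⟨fun X => ?_⟩
    have := h1.essSurj
    obtain ⟨Y, ⟨i⟩⟩ := this.mem_essImage X
    exact ⟨Y.obj, ⟨i⟩⟩
  exact { }

end Main

end Yoneda

end Groth.Agent.Lib.Helper17
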