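-- helper17: universe-polymorphic post-composition on categories of functors over the base,
-- and invariance of stack conditions under equivalences over the base (any universes).
import Groth.Prelude.Def_AlgSt
import Groth.Agent.Lib.Helper17FibSet2
import Groth.Agent.Lib.Helper17FibEquiv2

set_option autoImplicit false
open CategoryTheory CategoryTheory.Functor

universe v₁ u₁ v₂ u₂ v₃ u₃ v₄ u₄ v u

namespace Groth.Agent.Lib.Helper17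

section Post

variable {C : Type u} [Category.{v} C]
variable (𝒜 : BasedCategory.{v₁, u₁} C) {ℬ : BasedCategory.{v₄, u₄} C}
  {𝒳 : BasedCategory.{v₂, u₂} C} {𝒴 : BasedCategory.{v₃, u₃} C}

/-- Post-composition with a functor over `C`, on categories of functors over `C`. -/
def post (F : 𝒳 ⥤ᵇ 𝒴) : (𝒜 ⥤ᵇ 𝒳) ⥤ (𝒜 ⥤ᵇ 𝒴) where
  obj G := BasedFunctor.comp G F
  map α := BasedCategory.whiskerRight α F
  map_id G := by apply BasedNatTrans.homCategory.ext; ext a; exact F.map_id _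
  map_comp α β := by apply BasedNatTrans.homCategory.ext; ext a; exact F.map_comp _ _

@[simp] theorem post_obj (F : 𝒳 ⥤ᵇ 𝒴) (G : 𝒜 ⥤ᵇ 𝒳) : (post 𝒜 F).obj G = BasedFunctor.comp G F := rfl

@[simp] theorem post_map_app (F : 𝒳 ⥤ᵇ 𝒴) {G G' : 𝒜 ⥤ᵇ 𝒳} (α : G ⟶ G') (a : 𝒜.obj) :
    ((post 𝒜 F).map α).toNatTrans.app a = F.map (α.toNatTrans.app a) := rfl

/-- A 2-isomorphism `F ≅ F'` induces an isomorphism of post-composition functors. -/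
def postIso {F F' : 𝒳 ⥤ᵇ 𝒴} (e : F ≅ F') : post 𝒜 F ≅ post 𝒜 F' :=
  NatIso.ofComponents
    (fun G =>
      { hom := BasedCategory.whiskerLeft G e.hom
        inv := BasedCategory.whiskerLeft G e.inv
        hom_inv_id := by
          apply BasedNatTrans.homCategory.ext; ext a
          have := congrArg (fun t => t.toNatTrans.app (G.obj a)) e.hom_inv_id
          exact this
        inv_hom_id := by
          apply BasedNatTrans.homCategory.ext; ext a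
          have := congrArg (fun t => t.toNatTrans.app (G.obj a)) e.inv_hom_id
          exact this })
    (by
      intro G G' α
      apply BasedNatTrans.homCategory.ext; ext a
      exact (e.hom.toNatTrans.naturality (α.toNatTrans.app a)))

theorem post_comp {𝒵 : BasedCategory.{v₄, u₄} C} (F : 𝒳 ⥤ᵇ 𝒴) (G : 𝒴 ⥤ᵇ 𝒵) :
    post 𝒜 (BasedFunctor.comp F G) = post 𝒜 F ⋙ post 𝒜 G := rfl

theorem post_id : post 𝒜 (BasedFunctor.id 𝒳) = 𝟭 _ := rfl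

theorem restr_comp_post {𝒜 : BasedCategory.{v₁, u₁} C} (ι : 𝒜 ⥤ᵇ ℬ) (F : 𝒳 ⥤ᵇ 𝒴) :
    Stk.restr ι 𝒳 ⋙ post 𝒜 F = post ℬ F ⋙ Stk.restr ι 𝒴 := rfl

theorem IsEquivOver.post_isEquivalence (F : 𝒳 ⥤ᵇ 𝒴) (hF : FibCat.IsEquivOver F) :
    (post 𝒜 F).IsEquivalence := by
  obtain ⟨G, ⟨e₁⟩, ⟨e₂⟩⟩ := hF
  let η : 𝟭 (𝒜 ⥤ᵇ 𝒳) ≅ post 𝒜 F ⋙ post 𝒜 G := (postIso 𝒜 e₁).symm
  let ε : post 𝒜 G ⋙ post 𝒜 F ≅ 𝟭 (𝒜 ⥤ᵇ 𝒴) := postIso 𝒜 e₂
  exact (CategoryTheory.Equivalence.mk (post 𝒜 F) (post 𝒜 G) η ε).isEquivalence_functor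

end Post

section Invariance

variable {C : Type u} [Category.{v} C]
variable {𝒜 : BasedCategory.{v₁, u₁} C} {ℬ : BasedCategory.{v₄, u₄} C}
  {𝒳 : BasedCategory.{v₂, u₂} C} {𝒴 : BasedCategory.{v₃, u₃} C}

theorem IsEquivOver.exists_inverse_isEquivOver' (F : 𝒳 ⥤ᵇ 𝒴) (hF : FibCat.IsEquivOver F) :
    ∃ G : 𝒴 ⥤ᵇ 𝒳, FibCat.IsEquivOver G ∧
      Nonempty (BasedFunctor.comp F G ≅ BasedFunctor.id 𝒳) ∧
      Nonempty (BasedFunctor.comp G F ≅ BasedFunctor.id 𝒴) := by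
  obtain ⟨G, h₁, h₂⟩ := hF
  exact ⟨G, ⟨F, h₂, h₁⟩, h₁, h₂⟩

theorem IsEquivOver.isFibGrpd_of_isFibGrpd' (F : 𝒳 ⥤ᵇ 𝒴) (hF : FibCat.IsEquivOver F)
    (h𝒴 : FibCat.IsFibGrpd 𝒴.p) : FibCat.IsFibGrpd 𝒳.p := by
  have := IsEquivOver.isEquivalence F hF
  have h𝒴f : 𝒴.p.IsFibered := IsFibGrpd.isFibered h𝒴
  have : 𝒳.p.IsFibered := (IsEquivOver.isFibered_iff F hF).2 h𝒴f
  exact isFibGrpd_of_ff_of_isFibGrpd F h𝒴

theorem IsEquivOver.isFibGrpd_iff' (F : 𝒳 ⥤ᵇ 𝒴) (hF : FibCat.IsEquivOver F) :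
    FibCat.IsFibGrpd 𝒳.p ↔ FibCat.IsFibGrpd 𝒴.p := by
  obtain ⟨G, hG, -, -⟩ := IsEquivOver.exists_inverse_isEquivOver' F hF
  exact ⟨IsEquivOver.isFibGrpd_of_isFibGrpd' G hG, IsEquivOver.isFibGrpd_of_isFibGrpd' F hF⟩

theorem IsEquivOver.isFibSetoid_of_isFibSetoid' (F : 𝒳 ⥤ᵇ 𝒴) (hF : FibCat.IsEquivOver F)
    (h𝒴 : FibCat.IsFibSetoid 𝒴.p) : FibCat.IsFibSetoid 𝒳.p := by
  have := IsEquivOver.isEquivalence F hF
  refine ⟨IsEquivOver.isFibGrpd_of_isFibGrpd' F hF h𝒴.1, ?_⟩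
  intro U X Y
  refine ⟨fun m₁ m₂ => ?_⟩
  have hf := fiberFunctor_faithful_of_faithful F U
  apply (FibCat.fiberFunctor F U).map_injective
  exact @Subsingleton.elim _ ((h𝒴.2 U) _ _) _ _

theorem IsEquivOver.isFibSetoid_iff' (F : 𝒳 ⥤ᵇ 𝒴) (hF : FibCat.IsEquivOver F) :
    FibCat.IsFibSetoid 𝒳.p ↔ FibCat.IsFibSetoid 𝒴.p := by
  obtain ⟨G, hG, -, -⟩ := IsEquivOver.exists_inverse_isEquivOver' F hF
  exact ⟨IsEquivOver.isFibSetoid_of_isFibSetoid' G hG,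
    IsEquivOver.isFibSetoid_of_isFibSetoid' F hF⟩

theorem restr_isEquivalence_of_isEquivOver' (ι : 𝒜 ⥤ᵇ ℬ) (F : 𝒳 ⥤ᵇ 𝒴)
    (hF : FibCat.IsEquivOver F) (h : (Stk.restr ι 𝒳).IsEquivalence) :
    (Stk.restr ι 𝒴).IsEquivalence := by
  have h1 := IsEquivOver.post_isEquivalence 𝒜 F hF
  have h2 := IsEquivOver.post_isEquivalence ℬ F hF
  have h3 : (post ℬ F ⋙ Stk.restr ι 𝒴).IsEquivalence := by
    rw [← restr_comp_post]
    infer_instance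
  exact Functor.isEquivalence_of_comp_left (post ℬ F) _

theorem restr_ff_of_isEquivOver' (ι : 𝒜 ⥤ᵇ ℬ) (F : 𝒳 ⥤ᵇ 𝒴) (hF : FibCat.IsEquivOver F)
    (h : (Stk.restr ι 𝒳).Full ∧ (Stk.restr ι 𝒳).Faithful) :
    (Stk.restr ι 𝒴).Full ∧ (Stk.restr ι 𝒴).Faithful := by
  obtain ⟨hfull, hfaith⟩ := h
  have h1 := IsEquivOver.post_isEquivalence 𝒜 F hF
  have h2 := IsEquivOver.post_isEquivalence ℬ F hF
  let P := post ℬ F
  have hP : P.IsEquivalence := h2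
  have h3 : (P ⋙ Stk.restr ι 𝒴).Full := by
    rw [← restr_comp_post]
    infer_instance
  have h4 : (P ⋙ Stk.restr ι 𝒴).Faithful := by
    rw [← restr_comp_post]
    infer_instance
  let e : Stk.restr ι 𝒴 ≅ P.inv ⋙ (P ⋙ Stk.restr ι 𝒴) :=
    (Functor.leftUnitor _).symm ≪≫ Functor.isoWhiskerRight P.asEquivalence.counitIso.symm _ ≪≫
      Functor.associator _ _ _
  exact ⟨Functor.Full.of_iso e.symm, Functor.Faithful.of_iso e.symm⟩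

theorem isStack_of_isEquivOver' (J : GrothendieckTopology C) (F : 𝒳 ⥤ᵇ 𝒴)
    (hF : FibCat.IsEquivOver F) (h : Stk.IsStack J 𝒳) : Stk.IsStack J 𝒴 :=
  ⟨(IsEquivOver.isFibGrpd_iff' F hF).1 h.1, fun _ R hR =>
    restr_isEquivalence_of_isEquivOver' (Stk.sieveIncl R) F hF (h.2 R hR)⟩

theorem isStack_iff_of_isEquivOver' (J : GrothendieckTopology C) (F : 𝒳 ⥤ᵇ 𝒴)
    (hF : FibCat.IsEquivOver F) : Stk.IsStack J 𝒳 ↔ Stk.IsStack J 𝒴 := by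
  obtain ⟨G, hG, -, -⟩ := IsEquivOver.exists_inverse_isEquivOver' F hF
  exact ⟨isStack_of_isEquivOver' J F hF, isStack_of_isEquivOver' J G hG⟩

theorem isPrestack_of_isEquivOver' (J : GrothendieckTopology C) (F : 𝒳 ⥤ᵇ 𝒴)
    (hF : FibCat.IsEquivOver F) (h : Stk.IsPrestack J 𝒳) : Stk.IsPrestack J 𝒴 :=
  ⟨(IsEquivOver.isFibGrpd_iff' F hF).1 h.1, fun _ R hR =>
    restr_ff_of_isEquivOver' (Stk.sieveIncl R) F hF (h.2 R hR)⟩

theorem isPrestack_iff_of_isEquivOver' (J : GrothendieckTopology C) (F : 𝒳 ⥤ᵇ 𝒴)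
    (hF : FibCat.IsEquivOver F) : Stk.IsPrestack J 𝒳 ↔ Stk.IsPrestack J 𝒴 := by
  obtain ⟨G, hG, -, -⟩ := IsEquivOver.exists_inverse_isEquivOver' F hF
  exact ⟨isPrestack_of_isEquivOver' J F hF, isPrestack_of_isEquivOver' J G hG⟩

end Invariance

end Groth.Agent.Lib.Helper17
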