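-- helper17: full faithfulness of a functor over the base, tested on functors out of slices.
import Groth.Agent.Lib.Helper17FibYoneda
import Groth.Agent.Lib.Helper17FibFF
import Groth.Agent.Lib.Helper17Stk2

set_option autoImplicit false
open CategoryTheory CategoryTheory.Functor

universe v₁ u₁ v₂ u₂ v₃ u₃ v₄ u₄ v u

namespace Groth.Agent.Lib.Helper17


theorem ff_iff_of_square {A : Type u₁} [Category.{v₁} A] {B : Type u₂} [Category.{v₂} B]
    {A' : Type u₃} [Category.{v₃} A'] {B' : Type u₄} [Category.{v₄} B']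
    (P : A ⥤ B) (Q : A' ⥤ B') (E : A ⥤ A') (E' : B ⥤ B') [E.IsEquivalence] [E'.IsEquivalence]
    (h : P ⋙ E' ≅ E ⋙ Q) : (P.Full ∧ P.Faithful) ↔ (Q.Full ∧ Q.Faithful) := by
  constructor
  · rintro ⟨h1, h2⟩
    have h3 : (E ⋙ Q).Full := Functor.Full.of_iso h
    have h4 : (E ⋙ Q).Faithful := Functor.Faithful.of_iso h
    let e : Q ≅ E.inv ⋙ (E ⋙ Q) :=
      (Functor.leftUnitor _).symm ≪≫ Functor.isoWhiskerRight E.asEquivalence.counitIso.symm _ ≪≫
        Functor.associator _ _ _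
    exact ⟨Functor.Full.of_iso e.symm, Functor.Faithful.of_iso e.symm⟩
  · rintro ⟨h1, h2⟩
    have h3 : (P ⋙ E').Full := Functor.Full.of_iso h.symm
    have h4 : (P ⋙ E').Faithful := Functor.Faithful.of_iso h.symm
    exact ⟨Functor.Full.of_comp_faithful P E', Functor.Faithful.of_comp P E'⟩

variable {C : Type u} [Category.{v} C]

theorem post_comp_evalAtId {𝒳 : BasedCategory.{v₂, u₂} C} {𝒴 : BasedCategory.{v₃, u₃} C}
    (F : 𝒳 ⥤ᵇ 𝒴) (U : C) :
    post (FibCat.overCat U) F ⋙ FibCat.evalAtId 𝒴 U =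
      FibCat.evalAtId 𝒳 U ⋙ FibCat.fiberFunctor F U := rfl


theorem fullyFaithful_iff_post_overCat {𝒳 : BasedCategory.{v₂, u₂} C}
    {𝒴 : BasedCategory.{v₃, u₃} C} (h𝒳 : FibCat.IsFibGrpd 𝒳.p) (h𝒴 : FibCat.IsFibGrpd 𝒴.p)
    (F : 𝒳 ⥤ᵇ 𝒴) :
    (F.toFunctor.Full ∧ F.toFunctor.Faithful) ↔
      ∀ U : C, (post (FibCat.overCat U) F).Full ∧ (post (FibCat.overCat U) F).Faithful := by
  rw [fullyFaithful_iff_fiberFunctor_fullyFaithful F h𝒳 h𝒴]
  refine forall_congr' fun U => ?_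
  have := evalAtId_isEquivalence_of_isFibGrpd U h𝒳
  have := evalAtId_isEquivalence_of_isFibGrpd U h𝒴
  exact (ff_iff_of_square (post _ F) (FibCat.fiberFunctor F U) (FibCat.evalAtId 𝒳 U)
    (FibCat.evalAtId 𝒴 U) (eqToIso (post_comp_evalAtId F U))).symm

end Groth.Agent.Lib.Helper17
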