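-- helper17: restriction functors and 2-fibre products over the base; the 2-fibre product of stacks.
import Groth.Agent.Lib.Helper17Stk2
import Groth.Agent.Lib.Helper17FibFp

set_option autoImplicit false
open CategoryTheory CategoryTheory.Functor

universe v₁ u₁ v₂ u₂ v₃ u₃ v₄ u₄ v₅ u₅ v u

namespace Groth.Agent.Lib.Helper17

section FpHom

variable {C : Type u} [Category.{v} C]
variable {𝒜 : BasedCategory.{v₁, u₁} C} {ℬ : BasedCategory.{v₅, u₅} C}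
  {𝒳 : BasedCategory.{v₂, u₂} C} {𝒴 : BasedCategory.{v₃, u₃} C} {𝒮 : BasedCategory.{v₄, u₄} C}
  (F : 𝒳 ⥤ᵇ 𝒮) (G : 𝒴 ⥤ᵇ 𝒮)

/-- A 2-morphism between functors into `fp F G` from its two components. -/
def fpHomMk {H K : 𝒜 ⥤ᵇ FibCat.fp F G}
    (a₁ : BasedFunctor.comp H (FibCat.fpFst F G) ⟶ BasedFunctor.comp K (FibCat.fpFst F G))
    (a₂ : BasedFunctor.comp H (FibCat.fpSnd F G) ⟶ BasedFunctor.comp K (FibCat.fpSnd F G))
    (w : ∀ a : 𝒜.obj, F.map (a₁.toNatTrans.app a) ≫ (K.obj a).obj.iso.hom =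
      (H.obj a).obj.iso.hom ≫ G.map (a₂.toNatTrans.app a)) : H ⟶ K where
  toNatTrans :=
    { app := fun a => ObjectProperty.homMk ⟨a₁.toNatTrans.app a, a₂.toNatTrans.app a, w a⟩
      naturality := fun a a' f => by
        apply ObjectProperty.hom_ext
        apply Limits.CategoricalPullback.hom_ext
        · exact a₁.toNatTrans.naturality f
        · exact a₂.toNatTrans.naturality f }
  isHomLift' := fun a => by
    rw [fp_isHomLift_iff]
    exact a₁.isHomLift' a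

@[simp] theorem fpHomMk_app_fst {H K : 𝒜 ⥤ᵇ FibCat.fp F G}
    (a₁ : BasedFunctor.comp H (FibCat.fpFst F G) ⟶ BasedFunctor.comp K (FibCat.fpFst F G))
    (a₂ : BasedFunctor.comp H (FibCat.fpSnd F G) ⟶ BasedFunctor.comp K (FibCat.fpSnd F G))
    (w) (a : 𝒜.obj) : ((fpHomMk F G a₁ a₂ w).toNatTrans.app a).hom.fst = a₁.toNatTrans.app a := rfl

@[simp] theorem fpHomMk_app_snd {H K : 𝒜 ⥤ᵇ FibCat.fp F G}
    (a₁ : BasedFunctor.comp H (FibCat.fpFst F G) ⟶ BasedFunctor.comp K (FibCat.fpFst F G))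
    (a₂ : BasedFunctor.comp H (FibCat.fpSnd F G) ⟶ BasedFunctor.comp K (FibCat.fpSnd F G))
    (w) (a : 𝒜.obj) : ((fpHomMk F G a₁ a₂ w).toNatTrans.app a).hom.snd = a₂.toNatTrans.app a := rfl

theorem fp_twoHom_ext {H K : 𝒜 ⥤ᵇ FibCat.fp F G} (α β : H ⟶ K)
    (h₁ : ∀ a, (α.toNatTrans.app a).hom.fst = (β.toNatTrans.app a).hom.fst)
    (h₂ : ∀ a, (α.toNatTrans.app a).hom.snd = (β.toNatTrans.app a).hom.snd) : α = β := by
  apply BasedNatTrans.homCategory.ext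
  apply NatTrans.ext
  funext a
  apply ObjectProperty.hom_ext
  apply Limits.CategoricalPullback.hom_ext
  · exact h₁ a
  · exact h₂ a

end FpHom

section RestrFp


variable {C : Type u} [Category.{v} C]
variable {𝒜 : BasedCategory.{v₁, u₁} C} {ℬ : BasedCategory.{v₅, u₅} C}
  {𝒳 : BasedCategory.{v₂, u₂} C} {𝒴 : BasedCategory.{v₃, u₃} C} {𝒮 : BasedCategory.{v₄, u₄} C}
  (ι : 𝒜 ⥤ᵇ ℬ) (F : 𝒳 ⥤ᵇ 𝒮) (G : 𝒴 ⥤ᵇ 𝒮)

theorem restr_fp_faithful (h1 : (Stk.restr ι 𝒳).Faithful) (h2 : (Stk.restr ι 𝒴).Faithful) :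
    (Stk.restr ι (FibCat.fp F G)).Faithful := by
  refine ⟨fun {H H'} α β hαβ => ?_⟩
  have e1 : (post ℬ (FibCat.fpFst F G)).map α = (post ℬ (FibCat.fpFst F G)).map β := by
    apply (Stk.restr ι 𝒳).map_injective
    exact congrArg (post 𝒜 (FibCat.fpFst F G)).map hαβ
  have e2 : (post ℬ (FibCat.fpSnd F G)).map α = (post ℬ (FibCat.fpSnd F G)).map β := by
    apply (Stk.restr ι 𝒴).map_injective
    exact congrArg (post 𝒜 (FibCat.fpSnd F G)).map hαβ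
  apply fp_twoHom_ext
  · intro b
    exact congrArg (fun t => t.toNatTrans.app b) e1
  · intro b
    exact congrArg (fun t => t.toNatTrans.app b) e2

theorem restr_fp_full (h1 : (Stk.restr ι 𝒳).Full) (h2 : (Stk.restr ι 𝒴).Full)
    (h3 : (Stk.restr ι 𝒮).Faithful) :
    (Stk.restr ι (FibCat.fp F G)).Full := by
  refine ⟨fun {H H'} γ => ?_⟩
  obtain ⟨α₁, hα₁⟩ := (Stk.restr ι 𝒳).map_surjective
    (X := BasedFunctor.comp H (FibCat.fpFst F G)) (Y := BasedFunctor.comp H' (FibCat.fpFst F G))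
    ((post 𝒜 (FibCat.fpFst F G)).map γ)
  obtain ⟨α₂, hα₂⟩ := (Stk.restr ι 𝒴).map_surjective
    (X := BasedFunctor.comp H (FibCat.fpSnd F G)) (Y := BasedFunctor.comp H' (FibCat.fpSnd F G))
    ((post 𝒜 (FibCat.fpSnd F G)).map γ)
  have w : (post ℬ F).map α₁ ≫ BasedCategory.whiskerLeft H' (FibCat.fpIso F G).hom =
      BasedCategory.whiskerLeft H (FibCat.fpIso F G).hom ≫ (post ℬ G).map α₂ := by
    apply (Stk.restr ι 𝒮).map_injective
    apply BasedNatTrans.homCategory.ext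
    apply NatTrans.ext
    funext a
    have k1 : α₁.toNatTrans.app (ι.obj a) = (γ.toNatTrans.app a).hom.fst :=
      congrArg (fun t => t.toNatTrans.app a) hα₁
    have k2 : α₂.toNatTrans.app (ι.obj a) = (γ.toNatTrans.app a).hom.snd :=
      congrArg (fun t => t.toNatTrans.app a) hα₂
    change F.map (α₁.toNatTrans.app (ι.obj a)) ≫ (H'.obj (ι.obj a)).obj.iso.hom =
      (H.obj (ι.obj a)).obj.iso.hom ≫ G.map (α₂.toNatTrans.app (ι.obj a))
    rw [k1, k2]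
    exact (γ.toNatTrans.app a).hom.w
  refine ⟨fpHomMk F G α₁ α₂ (fun b => congrArg (fun t => t.toNatTrans.app b) w), ?_⟩
  apply fp_twoHom_ext
  · intro a
    exact congrArg (fun t => t.toNatTrans.app a) hα₁
  · intro a
    exact congrArg (fun t => t.toNatTrans.app a) hα₂



theorem aux_inv_square {D : Type*} [Category D] {X X' Y Y' : D} (f : X ⟶ X') (f' : X' ⟶ X)
    (g : Y ⟶ Y') (g' : Y' ⟶ Y) (hx : X ⟶ Y) (kx : X' ⟶ Y') (w : f ≫ kx = hx ≫ g)
    (h1 : f' ≫ f = 𝟙 _) (h2 : g ≫ g' = 𝟙 _) : f' ≫ hx = kx ≫ g' := by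
  calc f' ≫ hx = f' ≫ (hx ≫ g) ≫ g' := by rw [Category.assoc, h2, Category.comp_id]
    _ = f' ≫ (f ≫ kx) ≫ g' := by rw [w]
    _ = kx ≫ g' := by rw [Category.assoc, ← Category.assoc, h1, Category.id_comp]

theorem aux_cancel_tail {D : Type*} [Category D] {X Y Z W : D} (a : X ⟶ Y) (k : Y ⟶ Z)
    (c' : Z ⟶ W) (c : W ⟶ Z) (h : c' ≫ c = 𝟙 Z) : a ≫ k = (a ≫ k ≫ c') ≫ c := by
  rw [Category.assoc, Category.assoc, h, Category.comp_id]

/-- An isomorphism between functors into `fp F G` from isomorphisms of components. -/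
def fpIsoMk {H K : 𝒜 ⥤ᵇ FibCat.fp F G}
    (e₁ : BasedFunctor.comp H (FibCat.fpFst F G) ≅ BasedFunctor.comp K (FibCat.fpFst F G))
    (e₂ : BasedFunctor.comp H (FibCat.fpSnd F G) ≅ BasedFunctor.comp K (FibCat.fpSnd F G))
    (w : ∀ a : 𝒜.obj, F.map (e₁.hom.toNatTrans.app a) ≫ (K.obj a).obj.iso.hom =
      (H.obj a).obj.iso.hom ≫ G.map (e₂.hom.toNatTrans.app a)) : H ≅ K where
  hom := fpHomMk F G e₁.hom e₂.hom w
  inv := fpHomMk F G e₁.inv e₂.inv (fun a => by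
    have h1 : e₁.inv.toNatTrans.app a ≫ e₁.hom.toNatTrans.app a = 𝟙 _ :=
      congrArg (fun t => t.toNatTrans.app a) e₁.inv_hom_id
    have h2 : e₂.hom.toNatTrans.app a ≫ e₂.inv.toNatTrans.app a = 𝟙 _ :=
      congrArg (fun t => t.toNatTrans.app a) e₂.hom_inv_id
    have h1' : F.map (e₁.inv.toNatTrans.app a) ≫ F.map (e₁.hom.toNatTrans.app a) = 𝟙 _ := by
      rw [← F.map_comp, h1, F.map_id]
    have h2' : G.map (e₂.hom.toNatTrans.app a) ≫ G.map (e₂.inv.toNatTrans.app a) = 𝟙 _ := by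
      rw [← G.map_comp, h2, G.map_id]
    exact aux_inv_square _ _ _ _ _ _ (w a) h1' h2')
  hom_inv_id := by
    apply fp_twoHom_ext
    · intro a
      exact congrArg (fun t => t.toNatTrans.app a) e₁.hom_inv_id
    · intro a
      exact congrArg (fun t => t.toNatTrans.app a) e₂.hom_inv_id
  inv_hom_id := by
    apply fp_twoHom_ext
    · intro a
      exact congrArg (fun t => t.toNatTrans.app a) e₁.inv_hom_id
    · intro a
      exact congrArg (fun t => t.toNatTrans.app a) e₂.inv_hom_id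

theorem restr_fp_essSurj (h1 : (Stk.restr ι 𝒳).EssSurj) (h2 : (Stk.restr ι 𝒴).EssSurj)
    (h3 : (Stk.restr ι 𝒮).Full) (h4 : (Stk.restr ι 𝒮).Faithful) :
    (Stk.restr ι (FibCat.fp F G)).EssSurj := by
  refine ⟨fun K => ?_⟩
  obtain ⟨H₁, ⟨e₁⟩⟩ := h1.mem_essImage (BasedFunctor.comp K (FibCat.fpFst F G))
  obtain ⟨H₂, ⟨e₂⟩⟩ := h2.mem_essImage (BasedFunctor.comp K (FibCat.fpSnd F G))
  let κ : BasedFunctor.comp (BasedFunctor.comp K (FibCat.fpFst F G)) F ≅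
      BasedFunctor.comp (BasedFunctor.comp K (FibCat.fpSnd F G)) G :=
    (postIso 𝒜 (FibCat.fpIso F G)).app K
  let θ' : (Stk.restr ι 𝒮).obj (BasedFunctor.comp H₁ F) ≅
      (Stk.restr ι 𝒮).obj (BasedFunctor.comp H₂ G) :=
    (post 𝒜 F).mapIso e₁ ≪≫ κ ≪≫ ((post 𝒜 G).mapIso e₂).symm
  let θ : BasedFunctor.comp H₁ F ≅ BasedFunctor.comp H₂ G :=
    (Functor.FullyFaithful.ofFullyFaithful (Stk.restr ι 𝒮)).preimageIso θ'
  have hθ : (Stk.restr ι 𝒮).map θ.hom = θ'.hom :=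
    (Functor.FullyFaithful.ofFullyFaithful (Stk.restr ι 𝒮)).map_preimage θ'.hom
  refine ⟨FibCat.fpLift H₁ H₂ θ, ⟨?_⟩⟩
  refine fpIsoMk F G (H := (Stk.restr ι (FibCat.fp F G)).obj (FibCat.fpLift H₁ H₂ θ)) (K := K)
    e₁ e₂ ?_
  intro a
  have k : θ.hom.toNatTrans.app (ι.obj a) = θ'.hom.toNatTrans.app a :=
    congrArg (fun t => t.toNatTrans.app a) hθ
  have k' : θ'.hom.toNatTrans.app a = F.map (e₁.hom.toNatTrans.app a) ≫ (K.obj a).obj.iso.hom ≫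
      G.map (e₂.inv.toNatTrans.app a) := rfl
  have h2 : e₂.inv.toNatTrans.app a ≫ e₂.hom.toNatTrans.app a = 𝟙 _ :=
    congrArg (fun t => t.toNatTrans.app a) e₂.inv_hom_id
  have h2' : G.map (e₂.inv.toNatTrans.app a) ≫ G.map (e₂.hom.toNatTrans.app a) = 𝟙 _ := by
    rw [← G.map_comp, h2, G.map_id]
  change _ = θ.hom.toNatTrans.app (ι.obj a) ≫ _
  rw [k, k']
  exact aux_cancel_tail _ _ _ _ h2'


theorem restr_fp_isEquivalence (h1 : (Stk.restr ι 𝒳).IsEquivalence)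
    (h2 : (Stk.restr ι 𝒴).IsEquivalence) (h3 : (Stk.restr ι 𝒮).Full)
    (h4 : (Stk.restr ι 𝒮).Faithful) : (Stk.restr ι (FibCat.fp F G)).IsEquivalence :=
  { faithful := restr_fp_faithful ι F G inferInstance inferInstance
    full := restr_fp_full ι F G inferInstance inferInstance h4
    essSurj := restr_fp_essSurj ι F G inferInstance inferInstance h3 h4 }

theorem isStack_fp (J : GrothendieckTopology C) (h𝒳 : Stk.IsStack J 𝒳) (h𝒴 : Stk.IsStack J 𝒴)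
    (h𝒮 : Stk.IsPrestack J 𝒮) : Stk.IsStack J (FibCat.fp F G) :=
  ⟨isFibGrpd_fp F G h𝒳.1 h𝒴.1 h𝒮.1, fun _ R hR =>
    restr_fp_isEquivalence (Stk.sieveIncl R) F G (h𝒳.2 R hR) (h𝒴.2 R hR) (h𝒮.2 R hR).1
      (h𝒮.2 R hR).2⟩

theorem IsStack.isPrestack (J : GrothendieckTopology C) (h𝒮 : Stk.IsStack J 𝒮) :
    Stk.IsPrestack J 𝒮 :=
  ⟨h𝒮.1, fun _ R hR => by
    have : (Stk.resSieve R 𝒮).IsEquivalence := h𝒮.2 R hR
    exact ⟨inferInstance, inferInstance⟩⟩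

end RestrFp

end Groth.Agent.Lib.Helper17
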