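-- helper17: fully faithful functors between stacks that are locally essentially surjective.
import Groth.Agent.Lib.Helper17StkFp
import Groth.Agent.Lib.Helper17FibYoneda

set_option autoImplicit false
open CategoryTheory CategoryTheory.Functor

universe v₁ u₁ v₂ u₂ v₃ u₃ v u

namespace Groth.Agent.Lib.Helper17

section LiftFF

variable {C : Type u} [Category.{v} C]
variable {𝒜 : BasedCategory.{v₁, u₁} C} {𝒳 : BasedCategory.{v₂, u₂} C}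
  {𝒴 : BasedCategory.{v₃, u₃} C}

/-- A functor over `C` whose values lie objectwise in the essential image (over identities) of a
fully faithful functor `F` over `C` factors through `F` up to 2-isomorphism. -/
theorem exists_lift_of_ff (F : 𝒳 ⥤ᵇ 𝒴) [F.toFunctor.Full] [F.toFunctor.Faithful]
    (K : 𝒜 ⥤ᵇ 𝒴)
    (h : ∀ a : 𝒜.obj, ∃ (x : 𝒳.obj) (e : F.obj x ≅ K.obj a),
      𝒴.p.IsHomLift (𝟙 (𝒜.p.obj a)) e.hom) :
    ∃ D : 𝒜 ⥤ᵇ 𝒳, Nonempty (BasedFunctor.comp D F ≅ K) := by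
  choose ξ e he using h
  have heinv : ∀ a, 𝒴.p.IsHomLift (𝟙 (𝒜.p.obj a)) (e a).inv := fun a => by
    have := he a
    exact IsHomLift.lift_id_inv 𝒴.p (𝒜.p.obj a) (e a)
  let D₀ : 𝒜.obj ⥤ 𝒳.obj :=
    { obj := ξ
      map := fun {a a'} m => F.toFunctor.preimage ((e a).hom ≫ K.map m ≫ (e a').inv)
      map_id := fun a => by
        apply F.toFunctor.map_injective
        simp
      map_comp := fun {a₁ a₂ a₃} m m' => by
        apply F.toFunctor.map_injective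
        simp }
  have hFD : ∀ {a a' : 𝒜.obj} (m : a ⟶ a'),
      F.toFunctor.map (D₀.map m) = (e a).hom ≫ K.map m ≫ (e a').inv := fun m => by
    simp [D₀]
  have hlift : ∀ {a a' : 𝒜.obj} (m : a ⟶ a'), 𝒳.p.IsHomLift (𝒜.p.map m) (D₀.map m) := by
    intro a a' m
    have h1 := he a
    have h2 := heinv a'
    have h0 : 𝒴.p.IsHomLift (𝒜.p.map m) (K.map m) := inferInstance
    have h3 : 𝒴.p.IsHomLift (𝒜.p.map m) ((e a).hom ≫ K.map m ≫ (e a').inv) := inferInstance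
    have h4 : 𝒴.p.IsHomLift (𝒜.p.map m) (F.map (D₀.map m)) := by
      rw [hFD]; exact h3
    exact BasedFunctor.isHomLift_map F (𝒜.p.map m) (D₀.map m)
  have hobj : ∀ a, 𝒳.p.obj (ξ a) = 𝒜.p.obj a := fun a => by
    have := hlift (𝟙 a)
    exact IsHomLift.domain_eq 𝒳.p (𝒜.p.map (𝟙 a)) (D₀.map (𝟙 a))
  let D : 𝒜 ⥤ᵇ 𝒳 :=
    { toFunctor := D₀
      w := by
        refine CategoryTheory.Functor.ext hobj ?_
        intro a a' m
        have := hlift m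
        exact IsHomLift.fac' 𝒳.p (𝒜.p.map m) (D₀.map m) }
  refine ⟨D, ⟨BasedNatIso.mkNatIso (NatIso.ofComponents (fun a => e a) ?_) ?_⟩⟩
  · intro a a' m
    change F.toFunctor.map (D₀.map m) ≫ (e a').hom = (e a).hom ≫ K.map m
    rw [hFD]
    simp
  · intro a
    exact he a

/-- In a category fibred in groupoids two morphisms with the same target over the same morphism
of the base have isomorphic sources, by an isomorphism over the identity. -/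
theorem IsFibGrpd.exists_iso_of_lifts (h𝒴 : FibCat.IsFibGrpd 𝒴.p) {R S : C} (f : R ⟶ S)
    {a b y : 𝒴.obj} (φ : a ⟶ y) (ψ : b ⟶ y) [𝒴.p.IsHomLift f φ] [𝒴.p.IsHomLift f ψ] :
    ∃ e : a ≅ b, 𝒴.p.IsHomLift (𝟙 R) e.hom ∧ e.hom ≫ ψ = φ := by
  have sc := IsFibGrpd.isStronglyCartesian_of_isHomLift h𝒴 f ψ
  obtain ⟨χ, ⟨hχ, eχ⟩, -⟩ := IsStronglyCartesian.universal_property 𝒴.p f ψ (𝟙 R) f
    (Category.id_comp f).symm φ
  have hiso : IsIso χ := IsFibGrpd.isIso_of_isHomLift_id h𝒴 R χ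
  exact ⟨asIso χ, hχ, eχ⟩

end LiftFF


section LocallyEssSurj

variable {C : Type u} [Category.{v} C] {𝒳 𝒴 : BasedCategory.{v, max u v} C}

theorem essSurjOver_of_locally (J : GrothendieckTopology C) (h𝒳 : Stk.IsStack J 𝒳)
    (h𝒴 : Stk.IsPrestack J 𝒴) (F : 𝒳 ⥤ᵇ 𝒴) [F.toFunctor.Full] [F.toFunctor.Faithful]
    (hloc : ∀ y : 𝒴.obj, ∃ R ∈ J (𝒴.p.obj y), ∀ ⦃V : C⦄ (f : V ⟶ 𝒴.p.obj y), R f →
      ∃ (x : 𝒳.obj) (φ : F.obj x ⟶ y), 𝒴.p.IsHomLift f φ) : EssSurjOver F := by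
  intro y
  obtain ⟨R, hR, hloc'⟩ := hloc y
  have hfib := IsFibGrpd.isFibered h𝒴.1
  let Y : FibCat.overCat (𝒴.p.obj y) ⥤ᵇ 𝒴 := yonedaFunctor (𝒳 := 𝒴) (x := y) rfl
  let YR := (Stk.resSieve R 𝒴).obj Y
  have hobj : ∀ a : (Stk.sieveCat R).obj, ∃ (x : 𝒳.obj) (e : F.obj x ≅ YR.obj a),
      𝒴.p.IsHomLift (𝟙 ((Stk.sieveCat R).p.obj a)) e.hom := by
    intro a
    obtain ⟨x, φ, hφ⟩ := hloc' a.obj.hom a.property
    obtain ⟨e, he, -⟩ := IsFibGrpd.exists_iso_of_lifts h𝒴.1 a.obj.hom φ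
      (yonedaCart (𝒳 := 𝒴) (x := y) rfl a.obj)
    exact ⟨x, e, he⟩
  obtain ⟨D, ⟨eD⟩⟩ := exists_lift_of_ff F YR hobj
  have hX : (Stk.resSieve R 𝒳).IsEquivalence := h𝒳.2 R hR
  obtain ⟨H, ⟨eH⟩⟩ := hX.essSurj.mem_essImage D
  let θ' : (Stk.resSieve R 𝒴).obj (BasedFunctor.comp H F) ≅ (Stk.resSieve R 𝒴).obj Y :=
    (post (Stk.sieveCat R) F).mapIso eH ≪≫ eD
  have hYfull : (Stk.resSieve R 𝒴).Full := (h𝒴.2 R hR).1
  have hYfaith : (Stk.resSieve R 𝒴).Faithful := (h𝒴.2 R hR).2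
  let θ : BasedFunctor.comp H F ≅ Y :=
    (Functor.FullyFaithful.ofFullyFaithful (Stk.resSieve R 𝒴)).preimageIso θ'
  obtain ⟨e0, he0⟩ := yonedaFunctor_iso (𝒳 := 𝒴) (x := y) rfl
  let θ0 : F.obj (H.obj (Over.mk (𝟙 (𝒴.p.obj y)))) ≅ Y.obj (Over.mk (𝟙 (𝒴.p.obj y))) :=
    ((BasedNatTrans.forgetful _ _).mapIso θ).app (Over.mk (𝟙 (𝒴.p.obj y)))
  have hθ0 : 𝒴.p.IsHomLift (𝟙 (𝒴.p.obj y)) θ0.hom :=
    θ.hom.isHomLift' (Over.mk (𝟙 (𝒴.p.obj y)))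
  refine ⟨H.obj (Over.mk (𝟙 (𝒴.p.obj y))), θ0 ≪≫ e0, ?_⟩
  have : 𝒴.p.IsHomLift (𝟙 (𝒴.p.obj y) ≫ 𝟙 (𝒴.p.obj y)) (θ0.hom ≫ e0.hom) := inferInstance
  simpa using this


theorem isEquivOver_iff_locally_essSurj (J : GrothendieckTopology C) (h𝒳 : Stk.IsStack J 𝒳)
    (h𝒴 : Stk.IsStack J 𝒴) (F : 𝒳 ⥤ᵇ 𝒴) [F.toFunctor.Full] [F.toFunctor.Faithful] :
    FibCat.IsEquivOver F ↔
      ∀ y : 𝒴.obj, ∃ R ∈ J (𝒴.p.obj y), ∀ ⦃V : C⦄ (f : V ⟶ 𝒴.p.obj y), R f →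
        ∃ (x : 𝒳.obj) (φ : F.obj x ⟶ y), 𝒴.p.IsHomLift f φ := by
  constructor
  · intro hF y
    refine ⟨⊤, J.top_mem _, fun V f _ => ?_⟩
    obtain ⟨y', ψ, hψ⟩ := h𝒴.1.exists_lift (x := y) f
    obtain ⟨x, e, he⟩ := IsEquivOver.essSurjOver F hF y'
    have hV : 𝒴.p.obj y' = V := IsHomLift.domain_eq 𝒴.p f ψ
    subst hV
    refine ⟨x, e.hom ≫ ψ, ?_⟩
    have : 𝒴.p.IsHomLift (𝟙 _ ≫ f) (e.hom ≫ ψ) := inferInstance
    simpa using this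
  · intro hloc
    exact isEquivOver_of_fullyFaithful_of_essSurjOver F
      (essSurjOver_of_locally J h𝒳 (IsStack.isPrestack J h𝒴) F hloc)

end LocallyEssSurj

end Groth.Agent.Lib.Helper17
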