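-- helper17: faithfulness descends along locally essentially surjective base change.
import Groth.Agent.Lib.Helper17StkLoc
import Groth.Agent.Lib.Helper17StkFF

set_option autoImplicit false
open CategoryTheory CategoryTheory.Functor

universe v₁ u₁ v₂ u₂ v₃ u₃ v₄ u₄ v u

namespace Groth.Agent.Lib.Helper17

theorem faithful_iff_of_square {A : Type u₁} [Category.{v₁} A] {B : Type u₂} [Category.{v₂} B]
    {A' : Type u₃} [Category.{v₃} A'] {B' : Type u₄} [Category.{v₄} B']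
    (P : A ⥤ B) (Q : A' ⥤ B') (E : A ⥤ A') (E' : B ⥤ B') [E.IsEquivalence] [E'.IsEquivalence]
    (h : P ⋙ E' ≅ E ⋙ Q) : P.Faithful ↔ Q.Faithful := by
  constructor
  · intro h2
    have h4 : (E ⋙ Q).Faithful := Functor.Faithful.of_iso h
    let e : Q ≅ E.inv ⋙ (E ⋙ Q) :=
      (Functor.leftUnitor _).symm ≪≫ Functor.isoWhiskerRight E.asEquivalence.counitIso.symm _ ≪≫
        Functor.associator _ _ _
    exact Functor.Faithful.of_iso e.symm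
  · intro h2
    have h4 : (P ⋙ E').Faithful := Functor.Faithful.of_iso h.symm
    exact Functor.Faithful.of_comp P E'

variable {C : Type u} [Category.{v} C]

theorem faithful_iff_post_overCat {𝒳 : BasedCategory.{v₂, u₂} C}
    {𝒴 : BasedCategory.{v₃, u₃} C} (h𝒳 : FibCat.IsFibGrpd 𝒳.p) (h𝒴 : FibCat.IsFibGrpd 𝒴.p)
    (F : 𝒳 ⥤ᵇ 𝒴) :
    F.toFunctor.Faithful ↔ ∀ U : C, (post (FibCat.overCat U) F).Faithful := by
  rw [faithful_iff_fiberFunctor_faithful F h𝒳 h𝒴]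
  refine forall_congr' fun U => ?_
  have := evalAtId_isEquivalence_of_isFibGrpd U h𝒳
  have := evalAtId_isEquivalence_of_isFibGrpd U h𝒴
  exact (faithful_iff_of_square (post _ F) (FibCat.fiberFunctor F U) (FibCat.evalAtId 𝒳 U)
    (FibCat.evalAtId 𝒴 U) (eqToIso (post_comp_evalAtId F U))).symm


section FaithfulDescent

variable {𝒮₁ 𝒮₂ 𝒯₁ : BasedCategory.{v, max u v} C}

theorem post_faithful_of_faithful_fpFst (J : GrothendieckTopology C)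
    (h₁ : FibCat.IsFibGrpd 𝒮₁.p) (h₃ : Stk.IsPrestack J 𝒯₁)
    (F : 𝒮₂ ⥤ᵇ 𝒮₁) (G : 𝒯₁ ⥤ᵇ 𝒮₁)
    (hF : ∀ y : 𝒮₁.obj, ∃ R ∈ J (𝒮₁.p.obj y), ∀ ⦃V : C⦄ (f : V ⟶ 𝒮₁.p.obj y), R f →
      ∃ (x : 𝒮₂.obj) (φ : F.obj x ⟶ y), 𝒮₁.p.IsHomLift f φ)
    (hG' : (FibCat.fpFst F G).toFunctor.Faithful) (U : C) :
    (post (FibCat.overCat U) G).Faithful := by
  refine ⟨fun {T T'} α β hαβ => ?_⟩
  have hcomp : ∀ b : Over U, G.map (α.toNatTrans.app b) = G.map (β.toNatTrans.app b) :=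
    fun b => congrArg (fun t => t.toNatTrans.app b) hαβ
  -- the object of `𝒮₁` to be covered
  let y : 𝒮₁.obj := G.obj (T.obj (Over.mk (𝟙 U)))
  have hy : 𝒮₁.p.obj y = U := (G.w_obj _).trans (T.w_obj _)
  obtain ⟨R₀, hR₀, hloc⟩ := hF y
  -- transport the sieve to `U`
  obtain ⟨R, hR, hloc'⟩ : ∃ R ∈ J U, ∀ ⦃V : C⦄ (f : V ⟶ U), R f →
      ∃ (x : 𝒮₂.obj) (φ : F.obj x ⟶ y), 𝒮₁.p.IsHomLift f φ := by
    clear_value y
    subst hy
    exact ⟨R₀, hR₀, hloc⟩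
  have hfaith : (Stk.resSieve R 𝒯₁).Faithful := (h₃.2 R hR).2
  apply (Stk.resSieve R 𝒯₁).map_injective
  apply BasedNatTrans.homCategory.ext
  apply NatTrans.ext
  funext a
  change α.toNatTrans.app a.obj = β.toNatTrans.app a.obj
  obtain ⟨x, φ, hφ⟩ := hloc' a.obj.hom a.property
  -- `G T(a) ⟶ G T(𝟙)` over `a.hom`
  have hψ : 𝒮₁.p.IsHomLift a.obj.hom (G.map (T.map (overTerm U a.obj))) := by
    have h0 : (FibCat.overCat U).p.IsHomLift a.obj.hom (overTerm U a.obj) :=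
      overTerm_isHomLift U a.obj
    have h1 : 𝒯₁.p.IsHomLift a.obj.hom (T.map (overTerm U a.obj)) :=
      BasedFunctor.preserves_isHomLift T a.obj.hom (overTerm U a.obj)
    exact BasedFunctor.preserves_isHomLift G a.obj.hom (T.map (overTerm U a.obj))
  obtain ⟨e, he, -⟩ := IsFibGrpd.exists_iso_of_lifts h₁ a.obj.hom φ
    (G.map (T.map (overTerm U a.obj)))
  have hx : 𝒮₂.p.obj x = a.obj.left :=
    (F.w_obj x).symm.trans (IsHomLift.domain_eq 𝒮₁.p a.obj.hom φ)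
  have he' : 𝒮₁.p.IsHomLift (𝟙 (𝒮₂.p.obj x)) e.hom := isHomLift_id_of_eq 𝒮₁.p hx.symm e.hom
  have hGα : 𝒮₁.p.IsHomLift (𝟙 a.obj.left) (G.map (α.toNatTrans.app a.obj)) := by
    have : 𝒯₁.p.IsHomLift (𝟙 a.obj.left) (α.toNatTrans.app a.obj) := α.isHomLift' a.obj
    exact BasedFunctor.preserves_isHomLift G (𝟙 a.obj.left) (α.toNatTrans.app a.obj)
  have hαiso : IsIso (α.toNatTrans.app a.obj) := by
    have : 𝒯₁.p.IsHomLift (𝟙 a.obj.left) (α.toNatTrans.app a.obj) := α.isHomLift' a.obj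
    exact IsFibGrpd.isIso_of_isHomLift_id h₃.1 a.obj.left (α.toNatTrans.app a.obj)
  let e' : F.obj x ≅ G.obj (T'.obj a.obj) :=
    e ≪≫ G.toFunctor.mapIso (asIso (α.toNatTrans.app a.obj))
  have he'' : 𝒮₁.p.IsHomLift (𝟙 (𝒮₂.p.obj x)) e'.hom := by
    have h2 : 𝒮₁.p.IsHomLift (𝟙 (𝒮₂.p.obj x)) (G.map (α.toNatTrans.app a.obj)) :=
      isHomLift_id_of_eq 𝒮₁.p hx.symm _
    have : 𝒮₁.p.IsHomLift (𝟙 (𝒮₂.p.obj x) ≫ 𝟙 (𝒮₂.p.obj x))
        (e.hom ≫ G.map (α.toNatTrans.app a.obj)) := inferInstance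
    rw [Category.comp_id] at this
    exact this
  let w : (FibCat.fp F G).obj := ⟨⟨x, T.obj a.obj, e⟩, he'⟩
  let w' : (FibCat.fp F G).obj := ⟨⟨x, T'.obj a.obj, e'⟩, he''⟩
  let m₁ : w ⟶ w' := ObjectProperty.homMk ⟨𝟙 x, α.toNatTrans.app a.obj, by
    change F.map (𝟙 x) ≫ e.hom ≫ G.map (α.toNatTrans.app a.obj) = e.hom ≫ _
    rw [F.map_id, Category.id_comp]⟩
  let m₂ : w ⟶ w' := ObjectProperty.homMk ⟨𝟙 x, β.toNatTrans.app a.obj, by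
    change F.map (𝟙 x) ≫ e.hom ≫ G.map (α.toNatTrans.app a.obj) = e.hom ≫ _
    rw [F.map_id, Category.id_comp, hcomp a.obj]⟩
  have hm : m₁ = m₂ := hG'.map_injective (a₁ := m₁) (a₂ := m₂) rfl
  exact congrArg (fun m => m.hom.snd) hm


theorem faithful_of_faithful_fpFst (J : GrothendieckTopology C)
    (h₁ : FibCat.IsFibGrpd 𝒮₁.p) (h₃ : Stk.IsPrestack J 𝒯₁)
    (F : 𝒮₂ ⥤ᵇ 𝒮₁) (G : 𝒯₁ ⥤ᵇ 𝒮₁)
    (hF : ∀ y : 𝒮₁.obj, ∃ R ∈ J (𝒮₁.p.obj y), ∀ ⦃V : C⦄ (f : V ⟶ 𝒮₁.p.obj y), R f →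
      ∃ (x : 𝒮₂.obj) (φ : F.obj x ⟶ y), 𝒮₁.p.IsHomLift f φ)
    (hG' : (FibCat.fpFst F G).toFunctor.Faithful) : G.toFunctor.Faithful :=
  (faithful_iff_post_overCat h₃.1 h₁ G).2
    (fun U => post_faithful_of_faithful_fpFst J h₁ h₃ F G hF hG' U)

end FaithfulDescent

end Groth.Agent.Lib.Helper17
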