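-- helper17: base change of an equivalence over the base; descent of fibredness in setoids.
import Groth.Agent.Lib.Helper17StkLoc2
import Groth.Agent.Lib.Helper17FibFp3

set_option autoImplicit false
open CategoryTheory CategoryTheory.Functor

universe v₁ u₁ v₂ u₂ v₃ u₃ v₄ u₄ v u

namespace Groth.Agent.Lib.Helper17

section FpSndEquiv

variable {C : Type u} [Category.{v} C] {𝒳 : BasedCategory.{v₂, u₂} C}
  {𝒴 : BasedCategory.{v₃, u₃} C} {𝒮 : BasedCategory.{v₄, u₄} C}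
  (F : 𝒳 ⥤ᵇ 𝒮) (G : 𝒴 ⥤ᵇ 𝒮)

theorem fpSnd_faithful_of_faithful [F.toFunctor.Faithful] :
    (FibCat.fpSnd F G).toFunctor.Faithful := by
  refine ⟨fun {w w'} m m' h => ?_⟩
  have hs : m.hom.snd = m'.hom.snd := h
  apply ObjectProperty.hom_ext
  apply Limits.CategoricalPullback.hom_ext
  · apply F.toFunctor.map_injective
    have e1 := m.hom.w
    have e2 := m'.hom.w
    rw [← cancel_mono w'.obj.iso.hom]
    change F.map m.hom.fst ≫ _ = F.map m'.hom.fst ≫ _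
    rw [e1, e2, hs]
  · exact hs

theorem fpSnd_full_of_ff [F.toFunctor.Full] [F.toFunctor.Faithful] :
    (FibCat.fpSnd F G).toFunctor.Full := by
  refine ⟨fun {w w'} b₀ => ?_⟩
  obtain ⟨b, hb⟩ : ∃ t : w.obj.snd ⟶ w'.obj.snd, t = b₀ := ⟨b₀, rfl⟩
  let a : w.obj.fst ⟶ w'.obj.fst :=
    F.toFunctor.preimage (w.obj.iso.hom ≫ G.map b ≫ w'.obj.iso.inv)
  have ha : F.map a = w.obj.iso.hom ≫ G.map b ≫ w'.obj.iso.inv :=
    F.toFunctor.map_preimage _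
  have hw : F.map a ≫ w'.obj.iso.hom = w.obj.iso.hom ≫ G.map b := by
    rw [ha, Category.assoc, Category.assoc, Iso.inv_hom_id, Category.comp_id]
  exact ⟨ObjectProperty.homMk ⟨a, b, hw⟩, hb⟩

theorem fpSnd_essSurjOver_of_essSurjOver (hF : EssSurjOver F) :
    EssSurjOver (FibCat.fpSnd F G) := by
  intro t
  obtain ⟨x, e, he⟩ := hF (G.obj t)
  have hx : 𝒳.p.obj x = 𝒴.p.obj t := by
    have h1 := IsHomLift.domain_eq 𝒮.p (𝟙 (𝒮.p.obj (G.obj t))) e.hom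
    exact (F.w_obj x).symm.trans (h1.trans (G.w_obj t))
  have he' : 𝒮.p.IsHomLift (𝟙 (𝒳.p.obj x)) e.hom :=
    isHomLift_id_of_eq 𝒮.p ((G.w_obj t).trans hx.symm) e.hom
  let w : (FibCat.fp F G).obj := ⟨⟨x, t, e⟩, he'⟩
  exact ⟨w, Iso.refl _, IsHomLift.id rfl⟩

theorem isEquivOver_fpSnd (hF : FibCat.IsEquivOver F) : FibCat.IsEquivOver (FibCat.fpSnd F G) := by
  have := IsEquivOver.isEquivalence F hF
  have h1 := fpSnd_faithful_of_faithful F G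
  have h2 := fpSnd_full_of_ff F G
  exact isEquivOver_of_fullyFaithful_of_essSurjOver _
    (fpSnd_essSurjOver_of_essSurjOver F G (IsEquivOver.essSurjOver F hF))

end FpSndEquiv


section SetoidDescent

variable {C : Type u} [Category.{v} C] {𝒮₁ 𝒮₂ 𝒯₁ : BasedCategory.{v, max u v} C}

theorem isFibSetoid_of_isFibSetoid_fp (J : GrothendieckTopology C)
    (h₁ : Stk.IsStack J 𝒮₁) (h₂ : Stk.IsStack J 𝒮₂) (F : 𝒮₂ ⥤ᵇ 𝒮₁)
    [F.toFunctor.Full] [F.toFunctor.Faithful]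
    (hF : ∀ y : 𝒮₁.obj, ∃ R ∈ J (𝒮₁.p.obj y), ∀ ⦃V : C⦄ (f : V ⟶ 𝒮₁.p.obj y), R f →
      ∃ (x : 𝒮₂.obj) (φ : F.obj x ⟶ y), 𝒮₁.p.IsHomLift f φ)
    (G : 𝒯₁ ⥤ᵇ 𝒮₁) (h : FibCat.IsFibSetoid (FibCat.fp F G).p) : FibCat.IsFibSetoid 𝒯₁.p := by
  have hFe : FibCat.IsEquivOver F := (isEquivOver_iff_locally_essSurj J h₂ h₁ F).2 hF
  have hsnd := isEquivOver_fpSnd F G hFe
  exact (IsEquivOver.isFibSetoid_iff' (FibCat.fpSnd F G) hsnd).1 h

end SetoidDescent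

end Groth.Agent.Lib.Helper17
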