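-- helper17: composition of equivalences over the base; invariance of representability;
-- functoriality of the 2-fibre product over the base in its cospan.
import Groth.Agent.Lib.Helper17StkLoc3
import Groth.Agent.Lib.Helper17FibRepr2

set_option autoImplicit false
open CategoryTheory CategoryTheory.Functor

universe v₁ u₁ v₂ u₂ v₃ u₃ v₄ u₄ v₅ u₅ v₆ u₆ v₇ u₇ v u

namespace Groth.Agent.Lib.Helper17

section Comp

variable {C : Type u} [Category.{v} C] {𝒳 : BasedCategory.{v₂, u₂} C}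
  {𝒴 : BasedCategory.{v₃, u₃} C} {𝒵 : BasedCategory.{v₄, u₄} C}

theorem essSurjOver_comp (F : 𝒳 ⥤ᵇ 𝒴) (G : 𝒴 ⥤ᵇ 𝒵) (hF : EssSurjOver F) (hG : EssSurjOver G) :
    EssSurjOver (BasedFunctor.comp F G) := by
  intro ζ
  obtain ⟨η, e, he⟩ := hG ζ
  obtain ⟨ξ, e', he'⟩ := hF η
  have hη : 𝒴.p.obj η = 𝒵.p.obj ζ := by
    have h1 := IsHomLift.domain_eq 𝒵.p (𝟙 (𝒵.p.obj ζ)) e.hom
    exact (G.w_obj η).symm.trans h1
  have h2 : 𝒵.p.IsHomLift (𝟙 (𝒴.p.obj η)) (G.map e'.hom) :=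
    BasedFunctor.preserves_isHomLift G _ e'.hom
  have h3 : 𝒵.p.IsHomLift (𝟙 (𝒵.p.obj ζ)) (G.map e'.hom) := isHomLift_id_of_eq 𝒵.p hη _
  refine ⟨ξ, G.toFunctor.mapIso e' ≪≫ e, ?_⟩
  change 𝒵.p.IsHomLift (𝟙 (𝒵.p.obj ζ)) (G.map e'.hom ≫ e.hom)
  have : 𝒵.p.IsHomLift (𝟙 (𝒵.p.obj ζ) ≫ 𝟙 (𝒵.p.obj ζ)) (G.map e'.hom ≫ e.hom) := inferInstance
  simpa using this

theorem IsEquivOver.comp (F : 𝒳 ⥤ᵇ 𝒴) (G : 𝒴 ⥤ᵇ 𝒵) (hF : FibCat.IsEquivOver F)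
    (hG : FibCat.IsEquivOver G) : FibCat.IsEquivOver (BasedFunctor.comp F G) := by
  have h1 := IsEquivOver.isEquivalence F hF
  have h2 := IsEquivOver.isEquivalence G hG
  have h3 : (BasedFunctor.comp F G).toFunctor.Full :=
    inferInstanceAs (F.toFunctor ⋙ G.toFunctor).Full
  have h4 : (BasedFunctor.comp F G).toFunctor.Faithful :=
    inferInstanceAs (F.toFunctor ⋙ G.toFunctor).Faithful
  exact isEquivOver_of_fullyFaithful_of_essSurjOver _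
    (essSurjOver_comp F G (IsEquivOver.essSurjOver F hF) (IsEquivOver.essSurjOver G hG))

theorem isRepresentable_of_isEquivOver (E : 𝒳 ⥤ᵇ 𝒴) (hE : FibCat.IsEquivOver E)
    (h : FibCat.IsRepresentable 𝒴) : FibCat.IsRepresentable 𝒳 := by
  obtain ⟨U, F, hF⟩ := h
  exact ⟨U, BasedFunctor.comp E F, IsEquivOver.comp E F hE hF⟩

theorem isRepresentable_of_isEquivOver' (E : 𝒳 ⥤ᵇ 𝒴) (hE : FibCat.IsEquivOver E)
    (h : FibCat.IsRepresentable 𝒳) : FibCat.IsRepresentable 𝒴 := by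
  obtain ⟨E', hE'⟩ := IsEquivOver.exists_inverse_isEquivOver' E hE
  exact isRepresentable_of_isEquivOver E' hE'.1 h

end Comp

section FpMap

variable {C : Type u} [Category.{v} C]
  {𝒳 : BasedCategory.{v₂, u₂} C} {𝒴 : BasedCategory.{v₃, u₃} C} {𝒮 : BasedCategory.{v₄, u₄} C}
  {𝒳' : BasedCategory.{v₅, u₅} C} {𝒴' : BasedCategory.{v₆, u₆} C}
  {𝒮' : BasedCategory.{v₇, u₇} C}
  (F : 𝒳 ⥤ᵇ 𝒮) (G : 𝒴 ⥤ᵇ 𝒮) (F' : 𝒳' ⥤ᵇ 𝒮') (G' : 𝒴' ⥤ᵇ 𝒮')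
  (a : 𝒳' ⥤ᵇ 𝒳) (b : 𝒴' ⥤ᵇ 𝒴) (c : 𝒮' ⥤ᵇ 𝒮)
  (eF : BasedFunctor.comp F' c ≅ BasedFunctor.comp a F)
  (eG : BasedFunctor.comp G' c ≅ BasedFunctor.comp b G)

/-- The component isomorphism of a 2-isomorphism of functors over the base. -/
def bApp {𝒜 : BasedCategory.{v₁, u₁} C} {ℬ : BasedCategory.{v₂, u₂} C} {H K : 𝒜 ⥤ᵇ ℬ}
    (e : H ≅ K) (x : 𝒜.obj) : H.obj x ≅ K.obj x :=
  ((BasedNatTrans.forgetful _ _).mapIso e).app x

theorem bApp_hom {𝒜 : BasedCategory.{v₁, u₁} C} {ℬ : BasedCategory.{v₂, u₂} C} {H K : 𝒜 ⥤ᵇ ℬ}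
    (e : H ≅ K) (x : 𝒜.obj) : (bApp e x).hom = e.hom.toNatTrans.app x := rfl

theorem bApp_inv {𝒜 : BasedCategory.{v₁, u₁} C} {ℬ : BasedCategory.{v₂, u₂} C} {H K : 𝒜 ⥤ᵇ ℬ}
    (e : H ≅ K) (x : 𝒜.obj) : (bApp e x).inv = e.inv.toNatTrans.app x := rfl

theorem bApp_naturality {𝒜 : BasedCategory.{v₁, u₁} C} {ℬ : BasedCategory.{v₂, u₂} C}
    {H K : 𝒜 ⥤ᵇ ℬ} (e : H ≅ K) {x y : 𝒜.obj} (f : x ⟶ y) :
    H.map f ≫ (bApp e y).hom = (bApp e x).hom ≫ K.map f :=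
  e.hom.toNatTrans.naturality f

theorem bApp_inv_naturality {𝒜 : BasedCategory.{v₁, u₁} C} {ℬ : BasedCategory.{v₂, u₂} C}
    {H K : 𝒜 ⥤ᵇ ℬ} (e : H ≅ K) {x y : 𝒜.obj} (f : x ⟶ y) :
    K.map f ≫ (bApp e y).inv = (bApp e x).inv ≫ H.map f :=
  e.inv.toNatTrans.naturality f

theorem bApp_isHomLift {𝒜 : BasedCategory.{v₁, u₁} C} {ℬ : BasedCategory.{v₂, u₂} C}
    {H K : 𝒜 ⥤ᵇ ℬ} (e : H ≅ K) (x : 𝒜.obj) :
    ℬ.p.IsHomLift (𝟙 (𝒜.p.obj x)) (bApp e x).hom :=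
  e.hom.isHomLift' x

theorem bApp_inv_isHomLift {𝒜 : BasedCategory.{v₁, u₁} C} {ℬ : BasedCategory.{v₂, u₂} C}
    {H K : 𝒜 ⥤ᵇ ℬ} (e : H ≅ K) (x : 𝒜.obj) :
    ℬ.p.IsHomLift (𝟙 (𝒜.p.obj x)) (bApp e x).inv :=
  e.inv.isHomLift' x

/-- The comparison isomorphism on components used by `fpMap`. -/
def fpMapIso (z : (FibCat.fp F' G').obj) :
    F.obj (a.obj z.obj.fst) ≅ G.obj (b.obj z.obj.snd) :=
  (bApp eF z.obj.fst).symm ≪≫ c.toFunctor.mapIso z.obj.iso ≪≫ bApp eG z.obj.snd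

theorem fpMapIso_hom (z : (FibCat.fp F' G').obj) :
    (fpMapIso F G F' G' a b c eF eG z).hom =
      (bApp eF z.obj.fst).inv ≫ c.map z.obj.iso.hom ≫ (bApp eG z.obj.snd).hom := rfl

theorem aux_three_squares {D : Type*} [Category D] {X₁ X₂ X₃ X₄ Y₁ Y₂ Y₃ Y₄ : D}
    (A : X₁ ⟶ Y₁) (B : X₂ ⟶ Y₂) (D' : X₃ ⟶ Y₃) (E : X₄ ⟶ Y₄)
    (i : X₁ ⟶ X₂) (i' : Y₁ ⟶ Y₂) (p : X₂ ⟶ X₃) (p' : Y₂ ⟶ Y₃) (q : X₃ ⟶ X₄) (q' : Y₃ ⟶ Y₄)
    (h1 : A ≫ i' = i ≫ B) (h3 : B ≫ p' = p ≫ D') (h2 : D' ≫ q' = q ≫ E) :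
    A ≫ (i' ≫ p' ≫ q') = (i ≫ p ≫ q) ≫ E := by
  rw [← Category.assoc, h1, Category.assoc, ← Category.assoc B, h3, Category.assoc, h2]
  simp only [Category.assoc]

theorem fpMapIso_naturality {z z' : (FibCat.fp F' G').obj} (m : z ⟶ z') :
    F.map (a.map m.hom.fst) ≫ (fpMapIso F G F' G' a b c eF eG z').hom =
      (fpMapIso F G F' G' a b c eF eG z).hom ≫ G.map (b.map m.hom.snd) := by
  have h1 := bApp_inv_naturality eF m.hom.fst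
  have h2 := bApp_naturality eG m.hom.snd
  have h3 : c.map (F'.map m.hom.fst) ≫ c.map z'.obj.iso.hom =
      c.map z.obj.iso.hom ≫ c.map (G'.map m.hom.snd) := by
    rw [← c.toFunctor.map_comp, ← c.toFunctor.map_comp]
    exact congrArg c.toFunctor.map m.hom.w
  exact aux_three_squares _ _ _ _ _ _ _ _ _ _ h1 h3 h2

theorem isHomLift_id_comp {𝒜 : Type*} [Category 𝒜] (p : 𝒜 ⥤ C) (R : C) {x y z : 𝒜}
    (f : x ⟶ y) (g : y ⟶ z) (hf : p.IsHomLift (𝟙 R) f) (hg : p.IsHomLift (𝟙 R) g) :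
    p.IsHomLift (𝟙 R) (f ≫ g) := by
  have : p.IsHomLift (𝟙 R ≫ 𝟙 R) (f ≫ g) := inferInstance
  simpa using this

theorem fpMapIso_isHomLift (z : (FibCat.fp F' G').obj) :
    𝒮.p.IsHomLift (𝟙 (𝒳'.p.obj z.obj.fst)) (fpMapIso F G F' G' a b c eF eG z).hom := by
  have h1 := bApp_inv_isHomLift eF z.obj.fst
  have hz : 𝒮'.p.IsHomLift (𝟙 (𝒳'.p.obj z.obj.fst)) z.obj.iso.hom := z.property
  have h2 : 𝒮.p.IsHomLift (𝟙 (𝒳'.p.obj z.obj.fst)) (c.map z.obj.iso.hom) :=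
    BasedFunctor.preserves_isHomLift c _ z.obj.iso.hom
  have h3 : 𝒮.p.IsHomLift (𝟙 (𝒳'.p.obj z.obj.fst)) (bApp eG z.obj.snd).hom :=
    isHomLift_id_of_eq 𝒮.p (fp_snd_obj F' G' z) _ (hφ := bApp_isHomLift eG z.obj.snd)
  exact isHomLift_id_comp 𝒮.p _ _ _ h1 (isHomLift_id_comp 𝒮.p _ _ _ h2 h3)

/-- The functor over the base induced on 2-fibre products by a map of cospans. -/
def fpMap : FibCat.fp F' G' ⥤ᵇ FibCat.fp F G :=
  FibCat.fpLift (BasedFunctor.comp (FibCat.fpFst F' G') a) (BasedFunctor.comp (FibCat.fpSnd F' G') b)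
    (BasedNatIso.mkNatIso
      (NatIso.ofComponents (fun z => fpMapIso F G F' G' a b c eF eG z)
        (fun m => fpMapIso_naturality F G F' G' a b c eF eG m))
      (fun z => fpMapIso_isHomLift F G F' G' a b c eF eG z))

theorem fpMap_obj_fst (z : (FibCat.fp F' G').obj) :
    ((fpMap F G F' G' a b c eF eG).obj z).obj.fst = a.obj z.obj.fst := rfl

theorem fpMap_obj_snd (z : (FibCat.fp F' G').obj) :
    ((fpMap F G F' G' a b c eF eG).obj z).obj.snd = b.obj z.obj.snd := rfl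

theorem fpMap_obj_iso (z : (FibCat.fp F' G').obj) :
    ((fpMap F G F' G' a b c eF eG).obj z).obj.iso = fpMapIso F G F' G' a b c eF eG z := rfl

theorem fpMap_map_fst {z z' : (FibCat.fp F' G').obj} (m : z ⟶ z') :
    ((fpMap F G F' G' a b c eF eG).map m).hom.fst = a.map m.hom.fst := rfl

theorem fpMap_map_snd {z z' : (FibCat.fp F' G').obj} (m : z ⟶ z') :
    ((fpMap F G F' G' a b c eF eG).map m).hom.snd = b.map m.hom.snd := rfl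

theorem fpMap_faithful [a.toFunctor.Faithful] [b.toFunctor.Faithful] :
    (fpMap F G F' G' a b c eF eG).toFunctor.Faithful := by
  refine ⟨fun {z z'} m m' h => ?_⟩
  apply ObjectProperty.hom_ext
  apply Limits.CategoricalPullback.hom_ext
  · apply a.toFunctor.map_injective
    exact congrArg (fun t => t.hom.fst) h
  · apply b.toFunctor.map_injective
    exact congrArg (fun t => t.hom.snd) h

theorem aux_middle_square {D : Type*} [Category D] {X₁ X₂ X₃ X₄ Y₁ Y₂ Y₃ Y₄ : D}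
    (A : X₁ ⟶ Y₁) (B : X₂ ⟶ Y₂) (D' : X₃ ⟶ Y₃) (E : X₄ ⟶ Y₄)
    (i : X₁ ⟶ X₂) (i' : Y₁ ⟶ Y₂) (p : X₂ ⟶ X₃) (p' : Y₂ ⟶ Y₃) (q : X₃ ⟶ X₄) (q' : Y₃ ⟶ Y₄)
    [Epi i] [Mono q']
    (h1 : A ≫ i' = i ≫ B) (h2 : D' ≫ q' = q ≫ E)
    (ho : A ≫ (i' ≫ p' ≫ q') = (i ≫ p ≫ q) ≫ E) : B ≫ p' = p ≫ D' := by
  rw [← cancel_epi i, ← cancel_mono q']
  calc (i ≫ B ≫ p') ≫ q' = (A ≫ i') ≫ p' ≫ q' := by rw [h1]; simp only [Category.assoc]
    _ = (i ≫ p ≫ q) ≫ E := by rw [← ho]; simp only [Category.assoc]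
    _ = (i ≫ p ≫ D') ≫ q' := by simp only [Category.assoc]; rw [h2]

theorem fpMap_full [a.toFunctor.Full] [b.toFunctor.Full] [c.toFunctor.Faithful] :
    (fpMap F G F' G' a b c eF eG).toFunctor.Full := by
  refine ⟨fun {z z'} n => ?_⟩
  obtain ⟨m₁, hm₁⟩ := a.toFunctor.map_surjective (X := z.obj.fst) (Y := z'.obj.fst) n.hom.fst
  obtain ⟨m₂, hm₂⟩ := b.toFunctor.map_surjective (X := z.obj.snd) (Y := z'.obj.snd) n.hom.snd
  have hw : F'.map m₁ ≫ z'.obj.iso.hom = z.obj.iso.hom ≫ G'.map m₂ := by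
    apply c.toFunctor.map_injective
    rw [c.toFunctor.map_comp, c.toFunctor.map_comp]
    have h1 := bApp_inv_naturality eF m₁
    have h2 := bApp_naturality eG m₂
    have ho : F.map (a.map m₁) ≫ (fpMapIso F G F' G' a b c eF eG z').hom =
        (fpMapIso F G F' G' a b c eF eG z).hom ≫ G.map (b.map m₂) := by
      have := n.hom.w
      change F.map (a.toFunctor.map m₁) ≫ _ = _ ≫ G.map (b.toFunctor.map m₂)
      rw [hm₁, hm₂]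
      exact this
    exact aux_middle_square _ _ _ _ _ _ _ _ _ _ h1 h2 ho
  refine ⟨ObjectProperty.homMk ⟨m₁, m₂, hw⟩, ?_⟩
  apply ObjectProperty.hom_ext
  apply Limits.CategoricalPullback.hom_ext
  · exact hm₁
  · exact hm₂

theorem aux_ess {D : Type*} [Category D] {P Q M T V W : D} (i : P ≅ Q) (A : Q ⟶ M) (t : M ⟶ T)
    (g : V ≅ T) (q : W ≅ V) :
    A ≫ t = (i.inv ≫ (i.hom ≫ A ≫ t ≫ g.inv ≫ q.inv) ≫ q.hom) ≫ g.hom := by
  simp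

theorem fpMap_essSurjOver (ha : EssSurjOver a) (hb : EssSurjOver b) [c.toFunctor.Full]
    [c.toFunctor.Faithful] : EssSurjOver (fpMap F G F' G' a b c eF eG) := by
  intro w
  obtain ⟨x', α, hα⟩ := ha w.obj.fst
  obtain ⟨y', β, hβ⟩ := hb w.obj.snd
  -- all the relevant objects of the base coincide
  have ex : 𝒳'.p.obj x' = 𝒳.p.obj w.obj.fst :=
    (a.w_obj x').symm.trans (IsHomLift.domain_eq 𝒳.p (𝟙 (𝒳.p.obj w.obj.fst)) α.hom)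
  have ey : 𝒴'.p.obj y' = 𝒴.p.obj w.obj.snd :=
    (b.w_obj y').symm.trans (IsHomLift.domain_eq 𝒴.p (𝟙 (𝒴.p.obj w.obj.snd)) β.hom)
  have eyx : 𝒴.p.obj w.obj.snd = 𝒳.p.obj w.obj.fst := fp_snd_obj F G w
  let R := 𝒳.p.obj w.obj.fst
  have k1 : 𝒮.p.IsHomLift (𝟙 R) (bApp eF x').hom :=
    isHomLift_id_of_eq 𝒮.p ex _ (hφ := bApp_isHomLift eF x')
  have k2 : 𝒮.p.IsHomLift (𝟙 R) (F.map α.hom) :=
    BasedFunctor.preserves_isHomLift F _ α.hom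
  have k3 : 𝒮.p.IsHomLift (𝟙 R) w.obj.iso.hom := w.property
  have hβinv : 𝒴.p.IsHomLift (𝟙 (𝒴.p.obj w.obj.snd)) β.inv :=
    IsHomLift.lift_id_inv 𝒴.p _ β
  have k4 : 𝒮.p.IsHomLift (𝟙 R) (G.map β.inv) :=
    isHomLift_id_of_eq 𝒮.p eyx _ (hφ := BasedFunctor.preserves_isHomLift G _ β.inv)
  have k5 : 𝒮.p.IsHomLift (𝟙 R) (bApp eG y').inv :=
    isHomLift_id_of_eq 𝒮.p (ey.trans eyx) _ (hφ := bApp_inv_isHomLift eG y')
  let φ₀ : c.obj (F'.obj x') ≅ c.obj (G'.obj y') :=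
    bApp eF x' ≪≫ F.toFunctor.mapIso α ≪≫ w.obj.iso ≪≫ (G.toFunctor.mapIso β).symm ≪≫
      (bApp eG y').symm
  have hφ₀ : 𝒮.p.IsHomLift (𝟙 R) φ₀.hom :=
    isHomLift_id_comp 𝒮.p _ _ _ k1 (isHomLift_id_comp 𝒮.p _ _ _ k2
      (isHomLift_id_comp 𝒮.p _ _ _ k3 (isHomLift_id_comp 𝒮.p _ _ _ k4 k5)))
  let φ' : F'.obj x' ≅ G'.obj y' := c.toFunctor.preimageIso φ₀
  have hcφ' : c.map φ'.hom = φ₀.hom := c.toFunctor.map_preimage _
  have hφ' : 𝒮'.p.IsHomLift (𝟙 (𝒳'.p.obj x')) φ'.hom := by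
    have h1 : 𝒮.p.IsHomLift (𝟙 (𝒳'.p.obj x')) (c.map φ'.hom) := by
      rw [hcφ']
      exact isHomLift_id_of_eq 𝒮.p ex.symm _ (hφ := hφ₀)
    exact BasedFunctor.isHomLift_map c _ _
  let z : (FibCat.fp F' G').obj := ⟨⟨x', y', φ'⟩, hφ'⟩
  have hw : F.map α.hom ≫ w.obj.iso.hom =
      ((fpMap F G F' G' a b c eF eG).obj z).obj.iso.hom ≫ G.map β.hom := by
    rw [fpMap_obj_iso, fpMapIso_hom]
    change _ = ((bApp eF x').inv ≫ c.map φ'.hom ≫ (bApp eG y').hom) ≫ G.map β.hom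
    rw [hcφ']
    exact aux_ess (bApp eF x') (F.map α.hom) w.obj.iso.hom (G.toFunctor.mapIso β) (bApp eG y')
  refine ⟨z, ObjectProperty.isoMk _ (Limits.CategoricalPullback.mkIso
    (x := ((fpMap F G F' G' a b c eF eG).obj z).obj) (y := w.obj) α β hw), ?_⟩
  rw [fp_isHomLift_iff]
  exact hα

theorem isEquivOver_fpMap (ha : FibCat.IsEquivOver a) (hb : FibCat.IsEquivOver b)
    [c.toFunctor.Full] [c.toFunctor.Faithful] :
    FibCat.IsEquivOver (fpMap F G F' G' a b c eF eG) := by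
  have := IsEquivOver.isEquivalence a ha
  have := IsEquivOver.isEquivalence b hb
  have := fpMap_faithful F G F' G' a b c eF eG
  have := fpMap_full F G F' G' a b c eF eG
  exact isEquivOver_of_fullyFaithful_of_essSurjOver _
    (fpMap_essSurjOver F G F' G' a b c eF eG (IsEquivOver.essSurjOver a ha)
      (IsEquivOver.essSurjOver b hb))

end FpMap

section Whisker

variable {C : Type u} [Category.{v} C]
  {𝒜 : BasedCategory.{v₁, u₁} C} {ℬ : BasedCategory.{v₂, u₂} C} {𝒞 : BasedCategory.{v₃, u₃} C}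

/-- Left whiskering of a 2-isomorphism over the base. -/
def whiskerLeftIso (H : 𝒜 ⥤ᵇ ℬ) {K L : ℬ ⥤ᵇ 𝒞} (e : K ≅ L) :
    BasedFunctor.comp H K ≅ BasedFunctor.comp H L :=
  BasedNatIso.mkNatIso
    (NatIso.ofComponents (fun x => bApp e (H.obj x)) (fun m => bApp_naturality e (H.map m)))
    (fun x => isHomLift_id_of_eq 𝒞.p (H.w_obj x) _ (hφ := bApp_isHomLift e (H.obj x)))

theorem whiskerLeftIso_app (H : 𝒜 ⥤ᵇ ℬ) {K L : ℬ ⥤ᵇ 𝒞} (e : K ≅ L) (x : 𝒜.obj) :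
    bApp (whiskerLeftIso H e) x = bApp e (H.obj x) := by
  ext; rfl

/-- Right whiskering of a 2-isomorphism over the base. -/
def whiskerRightIso {H K : 𝒜 ⥤ᵇ ℬ} (e : H ≅ K) (L : ℬ ⥤ᵇ 𝒞) :
    BasedFunctor.comp H L ≅ BasedFunctor.comp K L :=
  BasedNatIso.mkNatIso
    (NatIso.ofComponents (fun x => L.toFunctor.mapIso (bApp e x)) (fun m => by
      change L.map (H.map m) ≫ L.map (bApp e _).hom = L.map (bApp e _).hom ≫ L.map (K.map m)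
      rw [← L.toFunctor.map_comp, ← L.toFunctor.map_comp]
      exact congrArg L.toFunctor.map (bApp_naturality e m)))
    (fun x => by
      have := bApp_isHomLift e x
      exact BasedFunctor.preserves_isHomLift L _ (bApp e x).hom)

theorem whiskerRightIso_app {H K : 𝒜 ⥤ᵇ ℬ} (e : H ≅ K) (L : ℬ ⥤ᵇ 𝒞) (x : 𝒜.obj) :
    bApp (whiskerRightIso e L) x = L.toFunctor.mapIso (bApp e x) := by
  ext; rfl

theorem isEquivOver_id (𝒳 : BasedCategory.{v₂, u₂} C) :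
    FibCat.IsEquivOver (BasedFunctor.id 𝒳) := by
  have h1 : (BasedFunctor.id 𝒳).toFunctor.Full := inferInstanceAs (𝟭 𝒳.obj).Full
  have h2 : (BasedFunctor.id 𝒳).toFunctor.Faithful := inferInstanceAs (𝟭 𝒳.obj).Faithful
  exact isEquivOver_of_fullyFaithful_of_essSurjOver _
    (fun η => ⟨η, Iso.refl _, IsHomLift.id rfl⟩)

end Whisker

end Groth.Agent.Lib.Helper17
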