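-- helper17: the category over `C` of a presheaf of sets is fibred in sets.
import Groth.Prelude.Def_AlgSt
import Groth.Agent.Lib.Helper17FibSet
import Groth.Agent.Lib.Helper17Stk2

set_option autoImplicit false
open CategoryTheory CategoryTheory.Functor Opposite

universe w v u

namespace Groth.Agent.Lib.Helper17

section OfPsh

variable {C : Type u} [Category.{v} C] (P : Cᵒᵖ ⥤ Type w)

theorem isFibSet_ofPsh : FibCat.IsFibSet (Stk.EltObj.forget P) := by
  apply isFibSet_of_unique_lifts
  · intro η U f
    exact (Stk.isFibGrpd_ofPsh P).exists_lift f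
  · intro η U f ξ ξ' φ φ' hφ hφ'
    have h1 : ξ.base = U := IsHomLift.domain_eq (Stk.EltObj.forget P) f φ
    have h1' : ξ'.base = U := IsHomLift.domain_eq (Stk.EltObj.forget P) f φ'
    obtain ⟨b, s⟩ := ξ
    obtain ⟨b', s'⟩ := ξ'
    dsimp at h1 h1'
    subst h1
    subst h1'
    have e1 : φ.hom = f := by
      have := IsHomLift.fac (Stk.EltObj.forget P) f φ
      simpa using this.symm
    have e2 : φ'.hom = f := by
      have := IsHomLift.fac (Stk.EltObj.forget P) f φ'
      simpa using this.symm
    have hs : s = s' := by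
      have k1 := φ.map_sec
      have k2 := φ'.map_sec
      dsimp at k1 k2
      rw [← k1, ← k2, e1, e2]
    subst hs
    refine ⟨rfl, ?_⟩
    rw [eqToHom_refl, Category.id_comp]
    apply Stk.EltObj.hom_ext
    rw [e1, e2]

theorem isFibSetoid_ofPsh : FibCat.IsFibSetoid (Stk.EltObj.forget P) := by
  obtain ⟨h1, h2⟩ := isFibSet_ofPsh P
  refine ⟨h1, fun U => ?_⟩
  intro X Y
  exact (h2 U).subsingleton X Y

end OfPsh

end Groth.Agent.Lib.Helper17
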