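-- helper17: functors over the base into the category of a presheaf, via compatible families of sections.
import Groth.Agent.Lib.Helper17StkPsh

set_option autoImplicit false
set_option backward.isDefEq.respectTransparency false
set_option backward.isDefEq.respectTransparency.types false
open CategoryTheory CategoryTheory.Functor Opposite

universe w v₁ u₁ v₂ u₂ v u

namespace Groth.Agent.Lib.Helper17

section PshFunctors

variable {C : Type u} [Category.{v} C]

theorem psh_map_op_map_op (P : Cᵒᵖ ⥤ Type w) {X Y Z : C} (f : X ⟶ Y) (g : Y ⟶ Z)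
    (x : P.obj (op Z)) : P.map f.op (P.map g.op x) = P.map (f ≫ g).op x := by
  simp

theorem psh_map_id_op (P : Cᵒᵖ ⥤ Type w) {X : C} (x : P.obj (op X)) :
    P.map (𝟙 X).op x = x := by
  simp

variable {P : Cᵒᵖ ⥤ Type w}
variable {𝒜 : BasedCategory.{v₁, u₁} C} {ℬ : BasedCategory.{v₂, u₂} C}

theorem pshBase (H : 𝒜 ⥤ᵇ Stk.ofPsh P) (a : 𝒜.obj) : (H.obj a).base = 𝒜.p.obj a := H.w_obj a

/-- The section over `𝒜.p a` determined by a functor `H : 𝒜 ⟶ ofPsh P` over `C`. -/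
def pshSec (H : 𝒜 ⥤ᵇ Stk.ofPsh P) (a : 𝒜.obj) : P.obj (op (𝒜.p.obj a)) :=
  P.map (eqToHom (pshBase H a).symm).op (H.obj a).sec

theorem pshHom (H : 𝒜 ⥤ᵇ Stk.ofPsh P) {a a' : 𝒜.obj} (f : a ⟶ a') :
    (H.map f).hom = eqToHom (pshBase H a) ≫ 𝒜.p.map f ≫ eqToHom (pshBase H a').symm :=
  have : (Stk.ofPsh P).p.IsHomLift (𝒜.p.map f) (H.map f) :=
    BasedFunctor.preserves_isHomLift H (𝒜.p.map f) f
  IsHomLift.fac' (Stk.ofPsh P).p (𝒜.p.map f) (H.map f)

theorem pshSec_map (H : 𝒜 ⥤ᵇ Stk.ofPsh P) {a a' : 𝒜.obj} (f : a ⟶ a') :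
    P.map (𝒜.p.map f).op (pshSec H a') = pshSec H a := by
  have h1 := (H.map f).map_sec
  have h2 := pshHom H f
  unfold pshSec
  rw [← h1, h2, psh_map_op_map_op, psh_map_op_map_op]
  congr 2
  simp


/-- The functor over `C` into `ofPsh P` determined by a compatible family of sections. -/
def pshOfFam (s : ∀ a : 𝒜.obj, P.obj (op (𝒜.p.obj a)))
    (hs : ∀ {a a' : 𝒜.obj} (f : a ⟶ a'), P.map (𝒜.p.map f).op (s a') = s a) :
    𝒜 ⥤ᵇ Stk.ofPsh P where
  toFunctor :=
    { obj := fun a => ⟨𝒜.p.obj a, s a⟩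
      map := fun f => ⟨𝒜.p.map f, hs f⟩
      map_id := fun a => Stk.EltObj.hom_ext (𝒜.p.map_id a)
      map_comp := fun f g => Stk.EltObj.hom_ext (𝒜.p.map_comp f g) }
  w := rfl

theorem pshSec_ofFam (s : ∀ a : 𝒜.obj, P.obj (op (𝒜.p.obj a)))
    (hs : ∀ {a a' : 𝒜.obj} (f : a ⟶ a'), P.map (𝒜.p.map f).op (s a') = s a) (a : 𝒜.obj) :
    pshSec (pshOfFam s hs) a = s a := by
  unfold pshSec
  exact psh_map_id_op P (s a)

theorem pshAppHom {H H' : 𝒜 ⥤ᵇ Stk.ofPsh P} (α : H ⟶ H') (a : 𝒜.obj) :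
    (α.toNatTrans.app a).hom = eqToHom ((pshBase H a).trans (pshBase H' a).symm) := by
  have : (Stk.ofPsh P).p.IsHomLift (𝟙 (𝒜.p.obj a)) (α.toNatTrans.app a) := α.isHomLift' a
  have h := IsHomLift.fac' (Stk.ofPsh P).p (𝟙 (𝒜.p.obj a)) (α.toNatTrans.app a)
  have h' : (α.toNatTrans.app a).hom =
      eqToHom (pshBase H a) ≫ 𝟙 (𝒜.p.obj a) ≫ eqToHom (pshBase H' a).symm := h
  rw [h']
  simp

theorem pshSec_eq_of_hom {H H' : 𝒜 ⥤ᵇ Stk.ofPsh P} (α : H ⟶ H') (a : 𝒜.obj) :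
    pshSec H a = pshSec H' a := by
  have h1 := (α.toNatTrans.app a).map_sec
  rw [pshAppHom α a] at h1
  unfold pshSec
  rw [← h1, psh_map_op_map_op]
  congr 2
  simp

theorem psh_hom_subsingleton {H H' : 𝒜 ⥤ᵇ Stk.ofPsh P} (α β : H ⟶ H') : α = β := by
  apply BasedNatTrans.homCategory.ext
  apply NatTrans.ext
  funext a
  apply Stk.EltObj.hom_ext
  rw [pshAppHom α a, pshAppHom β a]

/-- Functors into `ofPsh P` with the same sections are related by a (unique) 2-morphism. -/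
def pshHomOfSecEq {H H' : 𝒜 ⥤ᵇ Stk.ofPsh P} (h : ∀ a, pshSec H a = pshSec H' a) : H ⟶ H' where
  toNatTrans :=
    { app := fun a => ⟨eqToHom ((pshBase H a).trans (pshBase H' a).symm), by
        have h1 := h a
        unfold pshSec at h1
        have h2 := congrArg (P.map (eqToHom (pshBase H a)).op) h1
        rw [psh_map_op_map_op, psh_map_op_map_op] at h2
        simp only [eqToHom_trans, eqToHom_refl] at h2
        rw [psh_map_id_op] at h2
        exact h2.symm⟩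
      naturality := fun a a' f => by
        apply Stk.EltObj.hom_ext
        rw [Stk.EltObj.comp_hom, Stk.EltObj.comp_hom, pshHom H f, pshHom H' f]
        simp }
  isHomLift' := fun a => by
    apply IsHomLift.of_fac' (Stk.ofPsh P).p (𝟙 (𝒜.p.obj a)) _ (pshBase H a) (pshBase H' a)
    dsimp only [Stk.EltObj.forget_map]
    simp

/-- Functors into `ofPsh P` with the same sections are isomorphic. -/
def pshIsoOfSecEq {H H' : 𝒜 ⥤ᵇ Stk.ofPsh P} (h : ∀ a, pshSec H a = pshSec H' a) : H ≅ H' where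
  hom := pshHomOfSecEq h
  inv := pshHomOfSecEq (fun a => (h a).symm)
  hom_inv_id := psh_hom_subsingleton _ _
  inv_hom_id := psh_hom_subsingleton _ _

end PshFunctors

end Groth.Agent.Lib.Helper17
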