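-- helper17: the category of a presheaf is a stack iff the presheaf is a sheaf.
import Groth.Agent.Lib.Helper17StkPsh2
import Groth.Agent.Lib.Helper17FibYoneda
import Mathlib.CategoryTheory.Sites.IsSheafFor
import Mathlib.CategoryTheory.Sites.SheafOfTypes

set_option autoImplicit false
set_option backward.isDefEq.respectTransparency false
set_option backward.isDefEq.respectTransparency.types false
open CategoryTheory CategoryTheory.Functor Opposite

universe w v u

namespace Groth.Agent.Lib.Helper17

section PshSheaf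

variable {C : Type u} [Category.{v} C] {P : Cᵒᵖ ⥤ Type w} {U : C}

/-- sections of a functor `C/U ⟶ ofPsh P` are restrictions of the section at the identity -/
theorem pshSec_over (H : FibCat.overCat U ⥤ᵇ Stk.ofPsh P) (b : Over U) :
    pshSec H b = P.map b.hom.op (pshSec H (Over.mk (𝟙 U))) :=
  (pshSec_map H (overTerm U b)).symm

theorem pshOfSection_compat (t : P.obj (op U)) {b b' : (FibCat.overCat U).obj} (h : b ⟶ b') :
    P.map ((FibCat.overCat U).p.map h).op (P.map b'.hom.op t) = P.map b.hom.op t := by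
  change P.map h.left.op (P.map b'.hom.op t) = P.map b.hom.op t
  rw [psh_map_op_map_op, Over.w h]

/-- the functor `C/U ⟶ ofPsh P` of a section over `U` -/
def pshOfSection (t : P.obj (op U)) : FibCat.overCat U ⥤ᵇ Stk.ofPsh P :=
  pshOfFam (𝒜 := FibCat.overCat U) (fun b => P.map b.hom.op t)
    (fun {_ _} h => pshOfSection_compat t h)

theorem pshSec_ofSection (t : P.obj (op U)) (b : Over U) :
    pshSec (pshOfSection t) b = P.map b.hom.op t :=
  pshSec_ofFam (𝒜 := FibCat.overCat U) (fun b => P.map b.hom.op t)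
    (fun {_ _} h => pshOfSection_compat t h) b

variable (R : Sieve U)

/-- the object of `sieveCat R` of an arrow of `R` -/
def sieveObj {V : C} (f : V ⟶ U) (hf : R f) : (Stk.sieveCat R).obj := ⟨Over.mk f, hf⟩

theorem pshSec_restr (H : FibCat.overCat U ⥤ᵇ Stk.ofPsh P) (a : (Stk.sieveCat R).obj) :
    pshSec ((Stk.resSieve R (Stk.ofPsh P)).obj H) a = pshSec H a.obj := rfl


theorem resSieve_psh_isEquivalence_of_isSheafFor (h : Presieve.IsSheafFor P R.arrows) :
    (Stk.resSieve R (Stk.ofPsh P)).IsEquivalence := by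
  have hfaith : (Stk.resSieve R (Stk.ofPsh P)).Faithful :=
    ⟨fun {H H'} α β _ => psh_hom_subsingleton α β⟩
  have hfull : (Stk.resSieve R (Stk.ofPsh P)).Full := by
    refine ⟨fun {H H'} γ => ?_⟩
    have key : pshSec H (Over.mk (𝟙 U)) = pshSec H' (Over.mk (𝟙 U)) := by
      apply h.isSeparatedFor.ext
      intro V f hf
      have e1 := pshSec_eq_of_hom γ (sieveObj R f hf)
      rw [pshSec_restr, pshSec_restr] at e1
      rw [pshSec_over H, pshSec_over H'] at e1
      exact e1
    exact ⟨pshHomOfSecEq (fun b => by rw [pshSec_over H, pshSec_over H', key]),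
      psh_hom_subsingleton _ _⟩
  have hess : (Stk.resSieve R (Stk.ofPsh P)).EssSurj := by
    refine ⟨fun K => ?_⟩
    let x : Presieve.FamilyOfElements P R.arrows := fun V f hf => pshSec K (sieveObj R f hf)
    have hx : x.Compatible := by
      rw [Presieve.compatible_iff_sieveCompatible]
      intro V W f g hf
      let m : sieveObj R (g ≫ f) (R.downward_closed hf g) ⟶ sieveObj R f hf :=
        ObjectProperty.homMk (Over.homMk g rfl)
      exact (pshSec_map K m).symm
    obtain ⟨t, ht, -⟩ := h x hx
    refine ⟨pshOfSection t, ⟨pshIsoOfSecEq (fun a => ?_)⟩⟩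
    rw [pshSec_restr, pshSec_ofSection]
    exact ht a.obj.hom a.property
  exact { faithful := hfaith, full := hfull, essSurj := hess }


theorem famOfElements_congr (x : Presieve.FamilyOfElements P R.arrows) {V : C} {f f' : V ⟶ U}
    (e : f = f') (hf : R f) (hf' : R f') : x f hf = x f' hf' := by
  subst e
  rfl

theorem isSheafFor_of_resSieve_psh_isEquivalence
    (h : (Stk.resSieve R (Stk.ofPsh P)).IsEquivalence) : Presieve.IsSheafFor P R.arrows := by
  rw [← Presieve.isSeparatedFor_and_exists_isAmalgamation_iff_isSheafFor]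
  constructor
  · intro x t₁ t₂ h₁ h₂
    have hsec : ∀ a : (Stk.sieveCat R).obj,
        pshSec ((Stk.resSieve R (Stk.ofPsh P)).obj (pshOfSection t₁)) a =
          pshSec ((Stk.resSieve R (Stk.ofPsh P)).obj (pshOfSection t₂)) a := by
      intro a
      rw [pshSec_restr, pshSec_restr, pshSec_ofSection, pshSec_ofSection,
        h₁ a.obj.hom a.property, h₂ a.obj.hom a.property]
    obtain ⟨α, -⟩ := (Stk.resSieve R (Stk.ofPsh P)).map_surjective (pshHomOfSecEq hsec)
    have := pshSec_eq_of_hom α (Over.mk (𝟙 U))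
    rw [pshSec_ofSection, pshSec_ofSection] at this
    have e1 : P.map (𝟙 U).op t₁ = P.map (𝟙 U).op t₂ := this
    rw [psh_map_id_op, psh_map_id_op] at e1
    exact e1
  · intro x hx
    rw [Presieve.compatible_iff_sieveCompatible] at hx
    have hcompat : ∀ {a a' : (Stk.sieveCat R).obj} (m : a ⟶ a'),
        P.map ((Stk.sieveCat R).p.map m).op (x a'.obj.hom a'.property) =
          x a.obj.hom a.property := by
      intro a a' m
      have h1 := hx a'.obj.hom m.hom.left a'.property
      have h2 : m.hom.left ≫ a'.obj.hom = a.obj.hom := Over.w m.hom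
      rw [← famOfElements_congr R x h2 (R.downward_closed a'.property m.hom.left) a.property]
      exact h1.symm
    let K : Stk.sieveCat R ⥤ᵇ Stk.ofPsh P :=
      pshOfFam (𝒜 := Stk.sieveCat R) (fun a => x a.obj.hom a.property) hcompat
    obtain ⟨H, ⟨e⟩⟩ := h.essSurj.mem_essImage K
    refine ⟨pshSec H (Over.mk (𝟙 U)), ?_⟩
    intro V f hf
    have e1 := pshSec_eq_of_hom e.hom (sieveObj R f hf)
    rw [pshSec_restr, pshSec_over H, pshSec_ofFam] at e1
    exact e1

theorem resSieve_psh_isEquivalence_iff :
    (Stk.resSieve R (Stk.ofPsh P)).IsEquivalence ↔ Presieve.IsSheafFor P R.arrows :=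
  ⟨isSheafFor_of_resSieve_psh_isEquivalence R, resSieve_psh_isEquivalence_of_isSheafFor R⟩

theorem isStack_ofPsh_iff_isSheaf (J : GrothendieckTopology C) (P : Cᵒᵖ ⥤ Type w) :
    Stk.IsStack J (Stk.ofPsh P) ↔ Presieve.IsSheaf J P := by
  constructor
  · intro h U R hR
    exact isSheafFor_of_resSieve_psh_isEquivalence R (h.2 R hR)
  · intro h
    exact ⟨Stk.isFibGrpd_ofPsh P, fun U R hR =>
      resSieve_psh_isEquivalence_of_isSheafFor R (h R hR)⟩

end PshSheaf

end Groth.Agent.Lib.Helper17
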