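-- helper17: the slice `C/U` over `C` is the category of the representable presheaf.
import Groth.Agent.Lib.Helper17StkPsh3

set_option autoImplicit false
set_option backward.isDefEq.respectTransparency false
set_option backward.isDefEq.respectTransparency.types false
open CategoryTheory CategoryTheory.Functor Opposite

universe w v u

namespace Groth.Agent.Lib.Helper17

section OverYoneda

variable {C : Type u} [Category.{v} C] (U : C)

/-- `C/U ⟶ ofPsh h_U` -/
def overToYon : FibCat.overCat U ⥤ᵇ Stk.ofPsh (yoneda.obj U) where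
  toFunctor :=
    { obj := fun b => ⟨b.left, b.hom⟩
      map := fun {b b'} h => ⟨h.left, Over.w h⟩ }
  w := rfl

/-- `ofPsh h_U ⟶ C/U` -/
def yonToOver : Stk.ofPsh (yoneda.obj U) ⥤ᵇ FibCat.overCat U where
  toFunctor :=
    { obj := fun a => Over.mk a.sec
      map := fun {a a'} f => Over.homMk f.hom f.map_sec }
  w := rfl

theorem overToYon_comp_yonToOver :
    BasedFunctor.comp (overToYon U) (yonToOver U) = BasedFunctor.id _ := rfl

theorem yonToOver_comp_overToYon :
    BasedFunctor.comp (yonToOver U) (overToYon U) = BasedFunctor.id _ := rfl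

theorem isEquivOver_overToYon : FibCat.IsEquivOver (overToYon U) :=
  ⟨yonToOver U, ⟨eqToIso (overToYon_comp_yonToOver U)⟩, ⟨eqToIso (yonToOver_comp_overToYon U)⟩⟩

theorem isStack_overCat_iff_isSheaf_yoneda (J : GrothendieckTopology C) :
    Stk.IsStack J (FibCat.overCat U) ↔ Presieve.IsSheaf J (yoneda.obj U) := by
  rw [isStack_iff_of_isEquivOver' J (overToYon U) (isEquivOver_overToYon U)]
  exact isStack_ofPsh_iff_isSheaf J (yoneda.obj U)

end OverYoneda

end Groth.Agent.Lib.Helper17
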