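-- helper15: presheaves and categories fibred in sets/setoids; the 2-fibre product of a slice and a presheaf map.
import Groth.Agent.Lib.Helper17StkPsh4
import Groth.Agent.Lib.Helper17FibQuot
import Groth.Agent.Lib.Helper17FpMap
import Groth.Prelude.Def_AlgSt2
import Groth.Prelude.Def_AlgSpRep

set_option autoImplicit false
set_option backward.isDefEq.respectTransparency false
set_option backward.isDefEq.respectTransparency.types false
open CategoryTheory CategoryTheory.Functor CategoryTheory.Limits Opposite AlgebraicGeometry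

universe w v₁ u₁ v₂ u₂ v₃ u₃ v u

namespace Groth.Agent.Lib.Helper15PshFib

open Groth.Agent.Lib.Helper17



section PshMap

variable {C : Type u} [Category.{v} C] {P Q : Cᵒᵖ ⥤ Type w}

/-- The map of presheaves determined by a functor over the base between the categories of two
presheaves. -/
def pshMapOf (Φ : Stk.ofPsh P ⥤ᵇ Stk.ofPsh Q) : P ⟶ Q where
  app T := ↾fun s => pshSec Φ ⟨T.unop, s⟩
  naturality T T' g := by
    ext s
    let m : (⟨T'.unop, P.map g s⟩ : Stk.EltObj P) ⟶ ⟨T.unop, s⟩ := ⟨g.unop, rfl⟩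
    exact (pshSec_map Φ m).symm

theorem pshMapOf_app (Φ : Stk.ofPsh P ⥤ᵇ Stk.ofPsh Q) (T : C) (s : P.obj (op T)) :
    (pshMapOf Φ).app (op T) s = pshSec Φ ⟨T, s⟩ := rfl

theorem pshSec_ofPshMap (φ : P ⟶ Q) (c : (Stk.ofPsh P).obj) :
    pshSec (Stk.ofPshMap φ) c = φ.app _ c.sec := by
  unfold pshSec
  exact psh_map_id_op Q _

/-- A functor over the base between categories of presheaves is isomorphic to the functor of its
map of presheaves. -/
def ofPshMapIso (Φ : Stk.ofPsh P ⥤ᵇ Stk.ofPsh Q) : Stk.ofPshMap (pshMapOf Φ) ≅ Φ :=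
  pshIsoOfSecEq (fun c => by rw [pshSec_ofPshMap]; rfl)

end PshMap




section Comp

variable {C : Type u} [Category.{v} C] {P Q : Cᵒᵖ ⥤ Type w}
variable {𝒜 : BasedCategory.{v₁, u₁} C} {ℬ : BasedCategory.{v₂, u₂} C}

theorem pshSec_comp (K : 𝒜 ⥤ᵇ ℬ) (H : ℬ ⥤ᵇ Stk.ofPsh P) (c : 𝒜.obj) :
    pshSec (BasedFunctor.comp K H) c = P.map (eqToHom (K.w_obj c).symm).op (pshSec H (K.obj c)) := by
  unfold pshSec
  rw [psh_map_op_map_op, eqToHom_trans]
  rfl

theorem pshSec_comp_ofPshMap (H : 𝒜 ⥤ᵇ Stk.ofPsh P) (φ : P ⟶ Q) (c : 𝒜.obj) :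
    pshSec (BasedFunctor.comp H (Stk.ofPshMap φ)) c = φ.app _ (pshSec H c) := by
  unfold pshSec
  exact (NatTrans.naturality_apply φ _ _).symm

/-- The structure morphism to `U` of the value of a functor over the base into the slice `C/U`. -/
def ovSec {U : C} (H : 𝒜 ⥤ᵇ FibCat.overCat U) (c : 𝒜.obj) : 𝒜.p.obj c ⟶ U :=
  eqToHom (H.w_obj c).symm ≫ (H.obj c).hom

theorem ovSec_map {U : C} (H : 𝒜 ⥤ᵇ FibCat.overCat U) {c c' : 𝒜.obj} (f : c ⟶ c') :
    𝒜.p.map f ≫ ovSec H c' = ovSec H c := by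
  have h1 : (H.map f).left ≫ (H.obj c').hom = (H.obj c).hom := Over.w (H.map f)
  have : (FibCat.overCat U).p.IsHomLift (𝒜.p.map f) (H.map f) :=
    BasedFunctor.preserves_isHomLift H (𝒜.p.map f) f
  have h2 : (H.map f).left = eqToHom (H.w_obj c) ≫ 𝒜.p.map f ≫ eqToHom (H.w_obj c').symm :=
    IsHomLift.fac' (FibCat.overCat U).p (𝒜.p.map f) (H.map f)
  simp only [ovSec, ← h1, h2, Category.assoc, eqToHom_trans_assoc, eqToHom_refl, Category.id_comp]

theorem ovSec_comp {U : C} (K : 𝒜 ⥤ᵇ ℬ) (H : ℬ ⥤ᵇ FibCat.overCat U) (c : 𝒜.obj) :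
    ovSec (BasedFunctor.comp K H) c = eqToHom (K.w_obj c).symm ≫ ovSec H (K.obj c) := by
  unfold ovSec
  rw [eqToHom_trans_assoc]
  rfl

theorem ovSec_eq_of_hom {U : C} {H H' : 𝒜 ⥤ᵇ FibCat.overCat U} (α : H ⟶ H') (c : 𝒜.obj) :
    ovSec H c = ovSec H' c := by
  have h1 : (α.toNatTrans.app c).left ≫ (H'.obj c).hom = (H.obj c).hom := Over.w (α.toNatTrans.app c)
  have : (FibCat.overCat U).p.IsHomLift (𝟙 (𝒜.p.obj c)) (α.toNatTrans.app c) := α.isHomLift' c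
  have h2 : (α.toNatTrans.app c).left =
      eqToHom (H.w_obj c) ≫ 𝟙 _ ≫ eqToHom (H'.w_obj c).symm :=
    IsHomLift.fac' (FibCat.overCat U).p (𝟙 (𝒜.p.obj c)) (α.toNatTrans.app c)
  simp only [ovSec, ← h1, h2, Category.assoc, Category.id_comp, eqToHom_trans_assoc]

theorem pshSec_comp_ofSection {U : C} (H : 𝒜 ⥤ᵇ FibCat.overCat U) (x : P.obj (op U)) (c : 𝒜.obj) :
    pshSec (BasedFunctor.comp H (pshOfSection x)) c = P.map (ovSec H c).op x := by
  rw [pshSec_comp, pshSec_ofSection]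
  exact psh_map_op_map_op P (eqToHom (H.w_obj c).symm) (H.obj c).hom x

end Comp




section FibSetPsh

variable {C : Type u₁} [Category.{v₁} C] (𝒵 : BasedCategory.{v₂, u₂} C)
  (hZ : FibCat.IsFibSet 𝒵.p)

include hZ in
theorem hom_unique {z' z : 𝒵.obj} {T' T : C} (f : T' ⟶ T) (φ φ' : z' ⟶ z)
    [𝒵.p.IsHomLift f φ] [𝒵.p.IsHomLift f φ'] : φ = φ' := by
  apply IsFibSet.map_injective hZ
  rw [IsHomLift.fac' 𝒵.p f φ, IsHomLift.fac' 𝒵.p f φ']

theorem base_eq_of_lift {z' z : 𝒵.obj} {T' T : C} {f f' : T' ⟶ T} (φ : z' ⟶ z)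
    [𝒵.p.IsHomLift f φ] [𝒵.p.IsHomLift f' φ] : f = f' := by
  rw [IsHomLift.fac 𝒵.p f φ, IsHomLift.fac 𝒵.p f' φ]

include hZ in
theorem existsUnique_restr {T' T : C} (f : T' ⟶ T) (z : {z : 𝒵.obj // 𝒵.p.obj z = T}) :
    ∃! z' : {z : 𝒵.obj // 𝒵.p.obj z = T'}, ∃ φ : z'.1 ⟶ z.1, 𝒵.p.IsHomLift f φ := by
  obtain ⟨ξ, φ, hφ⟩ := IsFibSet.exists_lift hZ (f ≫ eqToHom z.2.symm)
  have hφ' : 𝒵.p.IsHomLift f φ := (IsHomLift.lift_comp_eqToHom_iff (p := 𝒵.p) f φ z.2.symm).1 hφ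
  refine ⟨⟨ξ, IsHomLift.domain_eq 𝒵.p f φ⟩, ⟨φ, hφ'⟩, ?_⟩
  rintro ⟨ξ', hξ'⟩ ⟨ψ, hψ⟩
  have hψ' : 𝒵.p.IsHomLift (f ≫ eqToHom z.2.symm) ψ := inferInstance
  obtain ⟨e, -⟩ := IsFibSet.lift_unique hZ (f ≫ eqToHom z.2.symm) ψ φ
  exact Subtype.ext e

/-- Restriction of an object of a category fibred in sets. -/
noncomputable def restr {T' T : C} (f : T' ⟶ T) (z : {z : 𝒵.obj // 𝒵.p.obj z = T}) :
    {z : 𝒵.obj // 𝒵.p.obj z = T'} :=
  (existsUnique_restr 𝒵 hZ f z).choose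

theorem restr_spec {T' T : C} (f : T' ⟶ T) (z : {z : 𝒵.obj // 𝒵.p.obj z = T}) :
    ∃ φ : (restr 𝒵 hZ f z).1 ⟶ z.1, 𝒵.p.IsHomLift f φ :=
  (existsUnique_restr 𝒵 hZ f z).choose_spec.1

theorem restr_unique {T' T : C} (f : T' ⟶ T) (z : {z : 𝒵.obj // 𝒵.p.obj z = T})
    (z' : {z : 𝒵.obj // 𝒵.p.obj z = T'}) (φ : z'.1 ⟶ z.1) [h : 𝒵.p.IsHomLift f φ] :
    z' = restr 𝒵 hZ f z :=
  (existsUnique_restr 𝒵 hZ f z).choose_spec.2 z' ⟨φ, h⟩

/-- The presheaf of objects of a category fibred in sets. -/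
noncomputable def fibPsh : Cᵒᵖ ⥤ Type u₂ where
  obj T := {z : 𝒵.obj // 𝒵.p.obj z = T.unop}
  map {T T'} g := ↾fun z => restr 𝒵 hZ g.unop z
  map_id T := by
    ext z
    have : 𝒵.p.IsHomLift (𝟙 T.unop) (𝟙 z.1) := IsHomLift.id z.2
    exact congrArg Subtype.val (restr_unique 𝒵 hZ (𝟙 T.unop) z z (𝟙 z.1)).symm
  map_comp {T T' T''} g g' := by
    ext z
    obtain ⟨φ, hφ⟩ := restr_spec 𝒵 hZ g.unop z
    obtain ⟨φ', hφ'⟩ := restr_spec 𝒵 hZ g'.unop (restr 𝒵 hZ g.unop z)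
    have : 𝒵.p.IsHomLift (g'.unop ≫ g.unop) (φ' ≫ φ) := inferInstance
    exact congrArg Subtype.val (restr_unique 𝒵 hZ (g'.unop ≫ g.unop) z _ (φ' ≫ φ)).symm

theorem fibPsh_exists_hom {c c' : (Stk.ofPsh (fibPsh 𝒵 hZ)).obj} (m : c ⟶ c') :
    ∃ φ : c.sec.1 ⟶ c'.sec.1, 𝒵.p.IsHomLift m.hom φ := by
  have h := restr_spec 𝒵 hZ m.hom c'.sec
  have e : restr 𝒵 hZ m.hom c'.sec = c.sec := m.map_sec
  rw [e] at h
  exact h

/-- The functor over the base from the category of the presheaf of objects. -/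
noncomputable def fibPshFunctor : Stk.ofPsh (fibPsh 𝒵 hZ) ⥤ᵇ 𝒵 where
  toFunctor :=
    { obj := fun c => c.sec.1
      map := fun {c c'} m => (fibPsh_exists_hom 𝒵 hZ m).choose
      map_id := fun c => by
        have h1 := (fibPsh_exists_hom 𝒵 hZ (𝟙 c)).choose_spec
        have h2 : 𝒵.p.IsHomLift (𝟙 c.base) (𝟙 c.sec.1) := IsHomLift.id c.sec.2
        exact hom_unique 𝒵 hZ (𝟙 c.base) _ _
      map_comp := fun {c c' c''} m m' => by
        have h0 := (fibPsh_exists_hom 𝒵 hZ (m ≫ m')).choose_spec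
        have h1 := (fibPsh_exists_hom 𝒵 hZ m).choose_spec
        have h2 := (fibPsh_exists_hom 𝒵 hZ m').choose_spec
        exact hom_unique 𝒵 hZ (m.hom ≫ m'.hom) _ _ }
  w := by
    refine CategoryTheory.Functor.ext (fun (c : Stk.EltObj (fibPsh 𝒵 hZ)) => c.sec.2) (fun c c' m => ?_)
    have h1 := (fibPsh_exists_hom 𝒵 hZ m).choose_spec
    exact IsHomLift.fac' 𝒵.p m.hom _

theorem fibPshFunctor_map_isHomLift {c c' : (Stk.ofPsh (fibPsh 𝒵 hZ)).obj} (m : c ⟶ c') :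
    𝒵.p.IsHomLift m.hom ((fibPshFunctor 𝒵 hZ).map m) :=
  (fibPsh_exists_hom 𝒵 hZ m).choose_spec

theorem isEquivOver_fibPshFunctor : FibCat.IsEquivOver (fibPshFunctor 𝒵 hZ) := by
  have hfaith : (fibPshFunctor 𝒵 hZ).toFunctor.Faithful := by
    refine ⟨fun {c c'} m m' h => ?_⟩
    apply Stk.EltObj.hom_ext
    have h1 := fibPshFunctor_map_isHomLift 𝒵 hZ m
    have h2 := fibPshFunctor_map_isHomLift 𝒵 hZ m'
    have h2' : 𝒵.p.IsHomLift m'.hom ((fibPshFunctor 𝒵 hZ).map m) := by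
      have h' : (fibPshFunctor 𝒵 hZ).map m = (fibPshFunctor 𝒵 hZ).map m' := h
      rw [h']; exact h2
    exact base_eq_of_lift 𝒵 ((fibPshFunctor 𝒵 hZ).map m)
  have hfull : (fibPshFunctor 𝒵 hZ).toFunctor.Full := by
    refine ⟨fun {c c'} φ => ?_⟩
    change c.sec.1 ⟶ c'.sec.1 at φ
    let f : c.base ⟶ c'.base := eqToHom c.sec.2.symm ≫ 𝒵.p.map φ ≫ eqToHom c'.sec.2
    have hf : 𝒵.p.IsHomLift f φ := by
      apply IsHomLift.of_fac' 𝒵.p f φ c.sec.2 c'.sec.2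
      simp [f]
    have e : restr 𝒵 hZ f c'.sec = c.sec := (restr_unique 𝒵 hZ f c'.sec c.sec φ).symm
    let m : c ⟶ c' := ⟨f, e⟩
    refine ⟨m, ?_⟩
    have h1 := fibPshFunctor_map_isHomLift 𝒵 hZ m
    exact hom_unique 𝒵 hZ f _ _
  apply isEquivOver_of_fullyFaithful_of_essSurjOver
  intro z
  exact ⟨⟨𝒵.p.obj z, ⟨z, rfl⟩⟩, Iso.refl _, IsHomLift.id rfl⟩

end FibSetPsh

section Setoid

variable {C : Type u₁} [Category.{v₁} C] (𝒲 : BasedCategory.{v₂, u₂} C)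

/-- A category fibred in setoids is equivalent over the base to the category of a presheaf. -/
theorem exists_psh_equivOver (h𝒲 : FibCat.IsFibSetoid 𝒲.p) :
    ∃ (P : Cᵒᵖ ⥤ Type (max u₁ u₂)) (E : Stk.ofPsh P ⥤ᵇ 𝒲), FibCat.IsEquivOver E := by
  have h1 : FibCat.IsFibSet (qBased 𝒲).p := isFibSet_qProj 𝒲 h𝒲.1
  have h2 := isEquivOver_toQ 𝒲 h𝒲
  obtain ⟨I, hI, -, -⟩ := IsEquivOver.exists_inverse_isEquivOver' (toQ 𝒲) h2
  exact ⟨fibPsh (qBased 𝒲) h1, BasedFunctor.comp (fibPshFunctor (qBased 𝒲) h1) I,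
    IsEquivOver.comp _ _ (isEquivOver_fibPshFunctor (qBased 𝒲) h1) hI⟩

end Setoid




section PB

variable {C : Type u} [Category.{v} C] {P Q : Cᵒᵖ ⥤ Type w} (a : P ⟶ Q) {U : C}
  (x : Q.obj (op U))

/-- The 2-fibre product of the slice `C/U` (through a section `x` of `Q` over `U`) and the category
of `P` over the category of `Q`. -/
abbrev PB := FibCat.fp (pshOfSection x) (Stk.ofPshMap a)

theorem PB_base (w : (PB a x).obj) : w.obj.snd.base = w.obj.fst.left :=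
  pshBase (FibCat.fpSnd (pshOfSection x) (Stk.ofPshMap a)) w

theorem PB_iso_hom (w : (PB a x).obj) :
    w.obj.iso.hom.hom = eqToHom (PB_base a x w).symm := by
  have hw : (Stk.ofPsh Q).p.IsHomLift (𝟙 w.obj.fst.left) w.obj.iso.hom := w.property
  have h := IsHomLift.fac' (Stk.ofPsh Q).p (𝟙 w.obj.fst.left) w.obj.iso.hom
  have h' : w.obj.iso.hom.hom = eqToHom (IsHomLift.domain_eq (Stk.ofPsh Q).p (𝟙 w.obj.fst.left)
      w.obj.iso.hom) ≫ 𝟙 _ ≫ eqToHom (IsHomLift.codomain_eq (Stk.ofPsh Q).p (𝟙 w.obj.fst.left)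
      w.obj.iso.hom).symm := h
  rw [h']
  simp

theorem psh_transport {X X' Y Y' : C} (hX : X' = X) (hY : Y' = Y) (f : X ⟶ Y)
    (s : P.obj (op Y')) (s' : P.obj (op X'))
    (h : P.map f.op (P.map (eqToHom hY.symm).op s) = P.map (eqToHom hX.symm).op s') :
    P.map (eqToHom hX ≫ f ≫ eqToHom hY.symm).op s = s' := by
  subst hX hY
  simpa using h

/-- Morphisms of `PB a x` from compatible base morphisms. -/
theorem PB_exists_hom (w w' : (PB a x).obj) (f : (PB a x).p.obj w ⟶ (PB a x).p.obj w')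
    (h₁ : f ≫ w'.obj.fst.hom = w.obj.fst.hom)
    (h₂ : P.map f.op (pshSec (FibCat.fpSnd (pshOfSection x) (Stk.ofPshMap a)) w') =
      pshSec (FibCat.fpSnd (pshOfSection x) (Stk.ofPshMap a)) w) :
    ∃ n : w ⟶ w', (PB a x).p.map n = f := by
  let n₁ : w.obj.fst ⟶ w'.obj.fst := Over.homMk f h₁
  let g : w.obj.snd.base ⟶ w'.obj.snd.base :=
    eqToHom (PB_base a x w) ≫ f ≫ eqToHom (PB_base a x w').symm
  have hg : P.map g.op w'.obj.snd.sec = w.obj.snd.sec :=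
    psh_transport (PB_base a x w) (PB_base a x w') f _ _ h₂
  let n₂ : w.obj.snd ⟶ w'.obj.snd := ⟨g, hg⟩
  have hw : (pshOfSection x).map n₁ ≫ w'.obj.iso.hom = w.obj.iso.hom ≫ (Stk.ofPshMap a).map n₂ := by
    apply Stk.EltObj.hom_ext
    rw [Stk.EltObj.comp_hom, Stk.EltObj.comp_hom, PB_iso_hom, PB_iso_hom]
    change f ≫ eqToHom _ = eqToHom _ ≫ g
    simp [g]
  exact ⟨ObjectProperty.homMk ⟨n₁, n₂, hw⟩, rfl⟩

theorem PB_mk_eq {T : C} (t : T ⟶ U) (p : P.obj (op T)) (h : a.app (op T) p = Q.map t.op x) :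
    (pshOfSection x).obj (Over.mk t) = (Stk.ofPshMap a).obj ⟨T, p⟩ := by
  change (⟨T, Q.map t.op x⟩ : Stk.EltObj Q) = ⟨T, a.app (op T) p⟩
  rw [h]

/-- Objects of `PB a x` from compatible sections. -/
def PB_mk {T : C} (t : T ⟶ U) (p : P.obj (op T)) (h : a.app (op T) p = Q.map t.op x) :
    (PB a x).obj :=
  ⟨{ fst := Over.mk t
     snd := ⟨T, p⟩
     iso := eqToIso (PB_mk_eq a x t p h) },
    by
      change (Stk.ofPsh Q).p.IsHomLift (𝟙 T) (eqToIso (PB_mk_eq a x t p h)).hom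
      rw [eqToIso.hom]
      exact IsHomLift.eqToHom_domain_lift_id _ rfl⟩

theorem PB_mk_proj {T : C} (t : T ⟶ U) (p : P.obj (op T)) (h : a.app (op T) p = Q.map t.op x) :
    (PB a x).p.obj (PB_mk a x t p h) = T := rfl

theorem PB_mk_fst_hom {T : C} (t : T ⟶ U) (p : P.obj (op T)) (h : a.app (op T) p = Q.map t.op x) :
    (PB_mk a x t p h).obj.fst.hom = t := rfl

theorem PB_mk_sec {T : C} (t : T ⟶ U) (p : P.obj (op T)) (h : a.app (op T) p = Q.map t.op x) :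
    pshSec (FibCat.fpSnd (pshOfSection x) (Stk.ofPshMap a)) (PB_mk a x t p h) = p := by
  unfold pshSec
  exact psh_map_id_op P p

end PB


section K

variable {S : Scheme.{u}} {F G F₁ : AlgSp.PSp S}

/-- The map of presheaves to `h_T` determined by a functor over the base to the slice over `T`. -/
def ovMapOf {T : Over S} (Φ : Stk.ofPsh F₁ ⥤ᵇ FibCat.overCat T) : F₁ ⟶ (AlgSp.pyon S).obj T where
  app T' := ↾fun s => ⟨ovSec Φ ⟨T'.unop, s⟩⟩
  naturality T' T'' g := by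
    ext s
    let m : (⟨T''.unop, F₁.map g s⟩ : Stk.EltObj F₁) ⟶ ⟨T'.unop, s⟩ := ⟨g.unop, rfl⟩
    apply ULift.ext
    exact (ovSec_map Φ m).symm

theorem spMapOfOver_hom {F₂ : AlgSp.Sp S} {T : Over S} (Φ : AlgSt.ofSp F₂ ⥤ᵇ FibCat.overCat T) :
    (AlgSt.spMapOfOver Φ).hom = ovMapOf Φ := rfl

variable (a : F ⟶ G) {T : Over S} (x : G.obj (op T)) (e : Stk.ofPsh F₁ ⥤ᵇ PB a x)

theorem K_comm (c : (Stk.ofPsh F₁).obj) :
    a.app _ (pshSec (BasedFunctor.comp e (FibCat.fpSnd _ _)) c) =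
      G.map (ovSec (BasedFunctor.comp e (FibCat.fpFst _ _)) c).op x := by
  have ι := whiskerLeftIso e (FibCat.fpIso (pshOfSection x) (Stk.ofPshMap a))
  have h := pshSec_eq_of_hom ι.hom c
  have h1 := pshSec_comp_ofSection (BasedFunctor.comp e (FibCat.fpFst _ _)) x c
  have h2 := pshSec_comp_ofPshMap (BasedFunctor.comp e (FibCat.fpSnd _ _)) a c
  rw [← h1, ← h2]
  exact h.symm

theorem transport2 {P : (Over S)ᵒᵖ ⥤ Type (u + 1)} {X Y Z : Over S} (hX : X = Z) (hY : Y = Z)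
    (z : P.obj (op X)) (z' : P.obj (op Y))
    (h : P.map (eqToHom hX.symm).op z = P.map (eqToHom hY.symm).op z') :
    P.map (eqToHom hX ≫ eqToHom hY.symm).op z' = z := by
  subst hX
  subst hY
  simpa using h.symm

theorem transport3 {P : (Over S)ᵒᵖ ⥤ Type (u + 1)} {X Z : Over S} (hX : X = Z) (k : X ⟶ Z)
    (hk : k = eqToHom hX) (p : P.obj (op Z)) :
    P.map (eqToHom hX.symm).op (P.map k.op p) = p := by
  subst hk
  subst hX
  simp

theorem K_inj (he : FibCat.IsEquivOver e) {T' : Over S} (s s' : F₁.obj (op T'))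
    (h1 : ovSec (BasedFunctor.comp e (FibCat.fpFst _ _)) ⟨T', s⟩ =
      ovSec (BasedFunctor.comp e (FibCat.fpFst _ _)) ⟨T', s'⟩)
    (h2 : pshSec (BasedFunctor.comp e (FibCat.fpSnd _ _)) ⟨T', s⟩ =
      pshSec (BasedFunctor.comp e (FibCat.fpSnd _ _)) ⟨T', s'⟩) : s = s' := by
  have := IsEquivOver.isEquivalence e he
  let c : (Stk.ofPsh F₁).obj := ⟨T', s⟩
  let c' : (Stk.ofPsh F₁).obj := ⟨T', s'⟩
  have hw : (PB a x).p.obj (e.obj c) = T' := e.w_obj c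
  have hw' : (PB a x).p.obj (e.obj c') = T' := e.w_obj c'
  let f : (PB a x).p.obj (e.obj c) ⟶ (PB a x).p.obj (e.obj c') := eqToHom hw ≫ eqToHom hw'.symm
  have k1 : f ≫ (e.obj c').obj.fst.hom = (e.obj c).obj.fst.hom := by
    have h1' : eqToHom hw.symm ≫ (e.obj c).obj.fst.hom = eqToHom hw'.symm ≫ (e.obj c').obj.fst.hom := h1
    rw [Category.assoc, ← h1', eqToHom_trans_assoc, eqToHom_refl, Category.id_comp]
  have k2 : F.map f.op (pshSec (FibCat.fpSnd (pshOfSection x) (Stk.ofPshMap a)) (e.obj c')) =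
      pshSec (FibCat.fpSnd (pshOfSection x) (Stk.ofPshMap a)) (e.obj c) := by
    rw [pshSec_comp, pshSec_comp] at h2
    exact transport2 hw hw' _ _ h2
  obtain ⟨n, hn⟩ := PB_exists_hom a x (e.obj c) (e.obj c') f k1 k2
  let m : c ⟶ c' := e.toFunctor.preimage n
  have hm : e.toFunctor.map m = n := e.toFunctor.map_preimage n
  have h3 : (e.toFunctor ⋙ (PB a x).p).map m = eqToHom hw ≫ m.hom ≫ eqToHom hw'.symm :=
    Functor.congr_hom e.w m
  have h4 : (e.toFunctor ⋙ (PB a x).p).map m = f := by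
    rw [Functor.comp_map, hm, hn]
  have h5 : m.hom = 𝟙 T' := by
    have h6 : eqToHom hw ≫ m.hom ≫ eqToHom hw'.symm = eqToHom hw ≫ 𝟙 T' ≫ eqToHom hw'.symm := by
      rw [← h3, h4, Category.id_comp]
    exact (cancel_mono (eqToHom hw'.symm)).1 ((cancel_epi (eqToHom hw)).1 h6)
  have h7 := m.map_sec
  rw [h5] at h7
  exact ((psh_map_id_op F₁ s').symm.trans h7).symm

theorem K_surj (he : FibCat.IsEquivOver e) {T' : Over S} (p : F.obj (op T')) (t : T' ⟶ T)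
    (h : a.app (op T') p = G.map t.op x) :
    ∃ s : F₁.obj (op T'), pshSec (BasedFunctor.comp e (FibCat.fpSnd _ _)) ⟨T', s⟩ = p ∧
      ovSec (BasedFunctor.comp e (FibCat.fpFst _ _)) ⟨T', s⟩ = t := by
  obtain ⟨c, ι, hι⟩ := (IsEquivOver.essSurjOver e he) (PB_mk a x t p h)
  obtain ⟨T'', s⟩ := c
  have hι' : (PB a x).p.IsHomLift (𝟙 T') ι.hom := hι
  have hw : (PB a x).p.obj (e.obj ⟨T'', s⟩) = T'' := e.w_obj ⟨T'', s⟩
  have hT : T'' = T' := hw.symm.trans (IsHomLift.domain_eq (PB a x).p (𝟙 T') ι.hom)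
  subst hT
  have hk : (PB a x).p.map ι.hom = eqToHom hw := by
    have := IsHomLift.fac' (PB a x).p (𝟙 T'') ι.hom
    rw [this]
    simp
  refine ⟨s, ?_, ?_⟩
  · rw [pshSec_comp]
    have h1 := pshSec_map (FibCat.fpSnd (pshOfSection x) (Stk.ofPshMap a)) ι.hom
    rw [PB_mk_sec] at h1
    rw [← h1]
    exact transport3 hw _ hk p
  · rw [ovSec_comp]
    have h1 := ovSec_map (FibCat.fpFst (pshOfSection x) (Stk.ofPshMap a)) ι.hom
    have h2 : ovSec (FibCat.fpFst (pshOfSection x) (Stk.ofPshMap a)) (PB_mk a x t p h) = t :=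
      Category.id_comp t
    rw [← h1, h2, hk, eqToHom_trans_assoc, eqToHom_refl, Category.id_comp]

/-- The square of presheaves attached to an equivalence from the category of a presheaf to the
2-fibre product of the slice over `T` and a presheaf map is a pullback square. -/
theorem isPullback_of_isEquivOver (he : FibCat.IsEquivOver e) :
    IsPullback (pshMapOf (BasedFunctor.comp e (FibCat.fpSnd _ _)))
      (ovMapOf (BasedFunctor.comp e (FibCat.fpFst _ _))) a (uliftYonedaEquiv.symm x) := by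
  apply IsPullback.of_forall_isPullback_app
  intro T'
  rw [Limits.Types.isPullback_iff]
  refine ⟨?_, ?_, ?_⟩
  · ext s
    exact K_comm a x e ⟨T'.unop, s⟩
  · rintro s s' ⟨h2, h1⟩
    exact K_inj a x e he s s' (congrArg ULift.down h1) h2
  · intro p t h
    obtain ⟨s, hs1, hs2⟩ := K_surj a x e he p t.down h
    exact ⟨s, hs1, ULift.ext _ _ hs2⟩

end K


end Groth.Agent.Lib.Helper15PshFib
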