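-- helper17: pasting of 2-fibre products over the base.
import Groth.Agent.Lib.Helper17FpMap

set_option autoImplicit false
open CategoryTheory CategoryTheory.Functor

universe v₁ u₁ v₂ u₂ v₃ u₃ v₄ u₄ v₅ u₅ v u

namespace Groth.Agent.Lib.Helper17

section PasteLeft

variable {C : Type u} [Category.{v} C]
  {𝒳 : BasedCategory.{v₂, u₂} C} {𝒴 : BasedCategory.{v₃, u₃} C} {𝒵 : BasedCategory.{v₄, u₄} C}
  {𝒲 : BasedCategory.{v₅, u₅} C}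
  (f : 𝒳 ⥤ᵇ 𝒴) (g : 𝒵 ⥤ᵇ 𝒴) (H : 𝒲 ⥤ᵇ 𝒵)

/-- The 2-isomorphism used to define `pasteL`. -/
def pasteLIso :
    BasedFunctor.comp (FibCat.fpFst H (FibCat.fpFst g f)) (BasedFunctor.comp H g) ≅
      BasedFunctor.comp (BasedFunctor.comp (FibCat.fpSnd H (FibCat.fpFst g f)) (FibCat.fpSnd g f)) f :=
  (whiskerRightIso (FibCat.fpIso H (FibCat.fpFst g f)) g : _ ≅
    BasedFunctor.comp (FibCat.fpSnd H (FibCat.fpFst g f)) (BasedFunctor.comp (FibCat.fpFst g f) g)) ≪≫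
  whiskerLeftIso (FibCat.fpSnd H (FibCat.fpFst g f)) (FibCat.fpIso g f)

/-- The comparison `𝒲 ×_𝒵 (𝒵 ×_𝒴 𝒳) ⟶ 𝒲 ×_𝒴 𝒳`. -/
def pasteL : FibCat.fp H (FibCat.fpFst g f) ⥤ᵇ FibCat.fp (BasedFunctor.comp H g) f :=
  FibCat.fpLift (FibCat.fpFst H (FibCat.fpFst g f))
    (BasedFunctor.comp (FibCat.fpSnd H (FibCat.fpFst g f)) (FibCat.fpSnd g f)) (pasteLIso f g H)

theorem pasteL_obj_fst (s : (FibCat.fp H (FibCat.fpFst g f)).obj) :
    ((pasteL f g H).obj s).obj.fst = s.obj.fst := rfl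

theorem pasteL_obj_snd (s : (FibCat.fp H (FibCat.fpFst g f)).obj) :
    ((pasteL f g H).obj s).obj.snd = s.obj.snd.obj.snd := rfl

theorem pasteL_obj_iso_hom (s : (FibCat.fp H (FibCat.fpFst g f)).obj) :
    ((pasteL f g H).obj s).obj.iso.hom = g.map s.obj.iso.hom ≫ s.obj.snd.obj.iso.hom := rfl

theorem pasteL_map_fst {s s' : (FibCat.fp H (FibCat.fpFst g f)).obj} (m : s ⟶ s') :
    ((pasteL f g H).map m).hom.fst = m.hom.fst := rfl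

theorem pasteL_map_snd {s s' : (FibCat.fp H (FibCat.fpFst g f)).obj} (m : s ⟶ s') :
    ((pasteL f g H).map m).hom.snd = m.hom.snd.hom.snd := rfl

theorem pasteL_faithful : (pasteL f g H).toFunctor.Faithful := by
  refine ⟨fun {s s'} m m' h => ?_⟩
  have h1 : m.hom.fst = m'.hom.fst := congrArg (fun t => t.hom.fst) h
  have h2 : m.hom.snd.hom.snd = m'.hom.snd.hom.snd := congrArg (fun t => t.hom.snd) h
  have h3 : m.hom.snd.hom.fst = m'.hom.snd.hom.fst := by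
    have e1 : H.map m.hom.fst ≫ s'.obj.iso.hom = s.obj.iso.hom ≫ m.hom.snd.hom.fst := m.hom.w
    have e2 : H.map m'.hom.fst ≫ s'.obj.iso.hom = s.obj.iso.hom ≫ m'.hom.snd.hom.fst := m'.hom.w
    have e3 : s.obj.iso.hom ≫ m.hom.snd.hom.fst = s.obj.iso.hom ≫ m'.hom.snd.hom.fst := by
      rw [← e1, ← e2, h1]
    exact (cancel_epi s.obj.iso.hom).1 e3
  apply ObjectProperty.hom_ext
  apply Limits.CategoricalPullback.hom_ext
  · exact h1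
  · apply ObjectProperty.hom_ext
    apply Limits.CategoricalPullback.hom_ext
    · exact h3
    · exact h2

theorem aux_pasteL_full {D : Type*} [Category D] {X₁ X₂ X₃ Y₁ Y₂ Y₃ : D}
    (A : X₁ ⟶ Y₁) (E : X₃ ⟶ Y₃) (ψ : X₁ ≅ X₂) (ψ' : Y₁ ≅ Y₂) (φ : X₂ ⟶ X₃) (φ' : Y₂ ⟶ Y₃)
    (h : A ≫ (ψ'.hom ≫ φ') = (ψ.hom ≫ φ) ≫ E) :
    (ψ.inv ≫ A ≫ ψ'.hom) ≫ φ' = φ ≫ E := by
  rw [← cancel_epi ψ.hom]
  simp only [Category.assoc, Iso.hom_inv_id_assoc]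
  simpa using h

theorem aux_hom_inv {D : Type*} [Category D] {X Y Z : D} (ψ : X ≅ Y) (k : X ⟶ Z) :
    k = ψ.hom ≫ ψ.inv ≫ k := by simp

theorem pasteL_full : (pasteL f g H).toFunctor.Full := by
  refine ⟨fun {s s'} n => ?_⟩
  obtain ⟨n₁, hn₁⟩ : ∃ t : s.obj.fst ⟶ s'.obj.fst, t = n.hom.fst := ⟨_, rfl⟩
  obtain ⟨n₂, hn₂⟩ : ∃ t : s.obj.snd.obj.snd ⟶ s'.obj.snd.obj.snd, t = n.hom.snd := ⟨_, rfl⟩
  have hn : g.map (H.map n₁) ≫ (g.map s'.obj.iso.hom ≫ s'.obj.snd.obj.iso.hom) =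
      (g.map s.obj.iso.hom ≫ s.obj.snd.obj.iso.hom) ≫ f.map n₂ := by
    rw [hn₁, hn₂]
    exact n.hom.w
  let β : s.obj.snd.obj.fst ⟶ s'.obj.snd.obj.fst :=
    s.obj.iso.inv ≫ H.map n₁ ≫ s'.obj.iso.hom
  have hβ : g.map β ≫ s'.obj.snd.obj.iso.hom = s.obj.snd.obj.iso.hom ≫ f.map n₂ := by
    have := aux_pasteL_full (g.map (H.map n₁)) (f.map n₂) (g.toFunctor.mapIso s.obj.iso)
      (g.toFunctor.mapIso s'.obj.iso) s.obj.snd.obj.iso.hom s'.obj.snd.obj.iso.hom hn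
    have e : g.map β = g.map s.obj.iso.inv ≫ g.map (H.map n₁) ≫ g.map s'.obj.iso.hom := by
      change g.toFunctor.map (s.obj.iso.inv ≫ H.map n₁ ≫ s'.obj.iso.hom) = _
      rw [g.toFunctor.map_comp, g.toFunctor.map_comp]
    rw [e]
    exact this
  let t : s.obj.snd ⟶ s'.obj.snd := ObjectProperty.homMk ⟨β, n₂, hβ⟩
  have hw : H.map n₁ ≫ s'.obj.iso.hom = s.obj.iso.hom ≫ (FibCat.fpFst g f).map t := by
    exact aux_hom_inv s.obj.iso (H.map n₁ ≫ s'.obj.iso.hom)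
  refine ⟨ObjectProperty.homMk ⟨n₁, t, hw⟩, ?_⟩
  apply ObjectProperty.hom_ext
  apply Limits.CategoricalPullback.hom_ext
  · exact hn₁
  · exact hn₂

theorem pasteL_essSurjOver : EssSurjOver (pasteL f g H) := by
  intro v
  have hv : 𝒴.p.IsHomLift (𝟙 (𝒲.p.obj v.obj.fst)) v.obj.iso.hom := v.property
  have hv' : 𝒴.p.IsHomLift (𝟙 (𝒵.p.obj (H.obj v.obj.fst))) v.obj.iso.hom :=
    isHomLift_id_of_eq 𝒴.p (H.w_obj v.obj.fst).symm _
  let t : (FibCat.fp g f).obj := ⟨⟨H.obj v.obj.fst, v.obj.snd, v.obj.iso⟩, hv'⟩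
  let s : (FibCat.fp H (FibCat.fpFst g f)).obj :=
    ⟨⟨v.obj.fst, t, Iso.refl _⟩, IsHomLift.id (H.w_obj v.obj.fst)⟩
  have hw : (BasedFunctor.comp H g).map (Iso.refl v.obj.fst).hom ≫ v.obj.iso.hom =
      ((pasteL f g H).obj s).obj.iso.hom ≫ f.map (Iso.refl v.obj.snd).hom := by
    rw [pasteL_obj_iso_hom]
    change g.map (H.map (𝟙 _)) ≫ _ = (g.map (𝟙 _) ≫ v.obj.iso.hom) ≫ f.map (𝟙 _)
    rw [H.toFunctor.map_id, g.toFunctor.map_id, f.toFunctor.map_id, Category.comp_id]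
  refine ⟨s, ObjectProperty.isoMk _ (Limits.CategoricalPullback.mkIso
    (x := ((pasteL f g H).obj s).obj) (y := v.obj) (Iso.refl _) (Iso.refl _) hw), ?_⟩
  rw [fp_isHomLift_iff]
  change 𝒲.p.IsHomLift (𝟙 (𝒲.p.obj v.obj.fst)) (𝟙 v.obj.fst)
  infer_instance

theorem isEquivOver_pasteL : FibCat.IsEquivOver (pasteL f g H) := by
  have := pasteL_faithful f g H
  have := pasteL_full f g H
  exact isEquivOver_of_fullyFaithful_of_essSurjOver _ (pasteL_essSurjOver f g H)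

end PasteLeft

section PasteRight

variable {C : Type u} [Category.{v} C]
  {𝒳 : BasedCategory.{v₂, u₂} C} {𝒴 : BasedCategory.{v₃, u₃} C} {𝒵 : BasedCategory.{v₄, u₄} C}
  {𝒲 : BasedCategory.{v₅, u₅} C}
  (G : 𝒲 ⥤ᵇ 𝒵) (f : 𝒳 ⥤ᵇ 𝒴) (g : 𝒴 ⥤ᵇ 𝒵)

/-- The 2-isomorphism used to define `pasteR`. -/
def pasteRIso :
    BasedFunctor.comp (BasedFunctor.comp (FibCat.fpFst (FibCat.fpSnd G g) f) (FibCat.fpFst G g)) G ≅
      BasedFunctor.comp (FibCat.fpSnd (FibCat.fpSnd G g) f) (BasedFunctor.comp f g) :=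
  (whiskerLeftIso (FibCat.fpFst (FibCat.fpSnd G g) f) (FibCat.fpIso G g) : _ ≅
    BasedFunctor.comp (BasedFunctor.comp (FibCat.fpFst (FibCat.fpSnd G g) f) (FibCat.fpSnd G g)) g) ≪≫
  whiskerRightIso (FibCat.fpIso (FibCat.fpSnd G g) f) g

/-- The comparison `(𝒲 ×_𝒵 𝒴) ×_𝒴 𝒳 ⟶ 𝒲 ×_𝒵 𝒳`. -/
def pasteR : FibCat.fp (FibCat.fpSnd G g) f ⥤ᵇ FibCat.fp G (BasedFunctor.comp f g) :=
  FibCat.fpLift (BasedFunctor.comp (FibCat.fpFst (FibCat.fpSnd G g) f) (FibCat.fpFst G g))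
    (FibCat.fpSnd (FibCat.fpSnd G g) f) (pasteRIso G f g)

theorem pasteR_obj_fst (s : (FibCat.fp (FibCat.fpSnd G g) f).obj) :
    ((pasteR G f g).obj s).obj.fst = s.obj.fst.obj.fst := rfl

theorem pasteR_obj_snd (s : (FibCat.fp (FibCat.fpSnd G g) f).obj) :
    ((pasteR G f g).obj s).obj.snd = s.obj.snd := rfl

theorem pasteR_obj_iso_hom (s : (FibCat.fp (FibCat.fpSnd G g) f).obj) :
    ((pasteR G f g).obj s).obj.iso.hom = s.obj.fst.obj.iso.hom ≫ g.map s.obj.iso.hom := rfl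

theorem pasteR_map_fst {s s' : (FibCat.fp (FibCat.fpSnd G g) f).obj} (m : s ⟶ s') :
    ((pasteR G f g).map m).hom.fst = m.hom.fst.hom.fst := rfl

theorem pasteR_map_snd {s s' : (FibCat.fp (FibCat.fpSnd G g) f).obj} (m : s ⟶ s') :
    ((pasteR G f g).map m).hom.snd = m.hom.snd := rfl

theorem pasteR_faithful : (pasteR G f g).toFunctor.Faithful := by
  refine ⟨fun {s s'} m m' h => ?_⟩
  have h1 : m.hom.fst.hom.fst = m'.hom.fst.hom.fst := congrArg (fun t => t.hom.fst) h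
  have h2 : m.hom.snd = m'.hom.snd := congrArg (fun t => t.hom.snd) h
  have h3 : m.hom.fst.hom.snd = m'.hom.fst.hom.snd := by
    have e1 : m.hom.fst.hom.snd ≫ s'.obj.iso.hom = s.obj.iso.hom ≫ f.map m.hom.snd := m.hom.w
    have e2 : m'.hom.fst.hom.snd ≫ s'.obj.iso.hom = s.obj.iso.hom ≫ f.map m'.hom.snd := m'.hom.w
    have e3 : m.hom.fst.hom.snd ≫ s'.obj.iso.hom = m'.hom.fst.hom.snd ≫ s'.obj.iso.hom := by
      rw [e1, e2, h2]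
    exact (cancel_mono s'.obj.iso.hom).1 e3
  apply ObjectProperty.hom_ext
  apply Limits.CategoricalPullback.hom_ext
  · apply ObjectProperty.hom_ext
    apply Limits.CategoricalPullback.hom_ext
    · exact h1
    · exact h3
  · exact h2

theorem aux_pasteR_full {D : Type*} [Category D] {X₁ X₂ X₃ Y₁ Y₂ Y₃ : D}
    (A : X₁ ⟶ Y₁) (E : X₃ ⟶ Y₃) (φ : X₁ ⟶ X₂) (φ' : Y₁ ⟶ Y₂) (ψ : X₂ ≅ X₃) (ψ' : Y₂ ≅ Y₃)
    (h : A ≫ (φ' ≫ ψ'.hom) = (φ ≫ ψ.hom) ≫ E) :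
    A ≫ φ' = φ ≫ (ψ.hom ≫ E ≫ ψ'.inv) := by
  rw [← cancel_mono ψ'.hom]
  simp only [Category.assoc, Iso.inv_hom_id, Category.comp_id]
  simpa using h

theorem aux_inv_hom {D : Type*} [Category D] {X Y Z W : D} (ψ : X ≅ Y) (a : Z ⟶ W) (b : W ⟶ Y) :
    (a ≫ b ≫ ψ.inv) ≫ ψ.hom = a ≫ b := by simp

theorem pasteR_full : (pasteR G f g).toFunctor.Full := by
  refine ⟨fun {s s'} n => ?_⟩
  obtain ⟨n₁, hn₁⟩ : ∃ t : s.obj.fst.obj.fst ⟶ s'.obj.fst.obj.fst, t = n.hom.fst := ⟨_, rfl⟩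
  obtain ⟨n₂, hn₂⟩ : ∃ t : s.obj.snd ⟶ s'.obj.snd, t = n.hom.snd := ⟨_, rfl⟩
  have hn : G.map n₁ ≫ (s'.obj.fst.obj.iso.hom ≫ g.map s'.obj.iso.hom) =
      (s.obj.fst.obj.iso.hom ≫ g.map s.obj.iso.hom) ≫ g.map (f.map n₂) := by
    rw [hn₁, hn₂]
    exact n.hom.w
  let β : s.obj.fst.obj.snd ⟶ s'.obj.fst.obj.snd :=
    s.obj.iso.hom ≫ f.map n₂ ≫ s'.obj.iso.inv
  have hβ : G.map n₁ ≫ s'.obj.fst.obj.iso.hom = s.obj.fst.obj.iso.hom ≫ g.map β := by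
    have := aux_pasteR_full (G.map n₁) (g.map (f.map n₂)) s.obj.fst.obj.iso.hom
      s'.obj.fst.obj.iso.hom (g.toFunctor.mapIso s.obj.iso) (g.toFunctor.mapIso s'.obj.iso) hn
    have e : g.map β = g.map s.obj.iso.hom ≫ g.map (f.map n₂) ≫ g.map s'.obj.iso.inv := by
      change g.toFunctor.map (s.obj.iso.hom ≫ f.map n₂ ≫ s'.obj.iso.inv) = _
      rw [g.toFunctor.map_comp, g.toFunctor.map_comp]
    rw [e]
    exact this
  let t : s.obj.fst ⟶ s'.obj.fst := ObjectProperty.homMk ⟨n₁, β, hβ⟩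
  have hw : (FibCat.fpSnd G g).map t ≫ s'.obj.iso.hom = s.obj.iso.hom ≫ f.map n₂ := by
    exact aux_inv_hom s'.obj.iso s.obj.iso.hom (f.map n₂)
  refine ⟨ObjectProperty.homMk ⟨t, n₂, hw⟩, ?_⟩
  apply ObjectProperty.hom_ext
  apply Limits.CategoricalPullback.hom_ext
  · exact hn₁
  · exact hn₂

theorem pasteR_essSurjOver : EssSurjOver (pasteR G f g) := by
  intro v
  have hv : 𝒵.p.IsHomLift (𝟙 (𝒲.p.obj v.obj.fst)) v.obj.iso.hom := v.property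
  let t : (FibCat.fp G g).obj := ⟨⟨v.obj.fst, f.obj v.obj.snd, v.obj.iso⟩, hv⟩
  have hx : 𝒴.p.obj (f.obj v.obj.snd) = 𝒲.p.obj v.obj.fst :=
    (f.w_obj v.obj.snd).trans (fp_snd_obj G (BasedFunctor.comp f g) v)
  let s : (FibCat.fp (FibCat.fpSnd G g) f).obj :=
    ⟨⟨t, v.obj.snd, Iso.refl _⟩, IsHomLift.id hx⟩
  have hw : G.map (Iso.refl v.obj.fst).hom ≫ v.obj.iso.hom =
      ((pasteR G f g).obj s).obj.iso.hom ≫ (BasedFunctor.comp f g).map (Iso.refl v.obj.snd).hom := by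
    rw [pasteR_obj_iso_hom]
    change G.map (𝟙 _) ≫ _ = (v.obj.iso.hom ≫ g.map (𝟙 _)) ≫ g.map (f.map (𝟙 _))
    rw [G.toFunctor.map_id, f.toFunctor.map_id, g.toFunctor.map_id, Category.comp_id]
    exact (Category.id_comp _).trans (Category.comp_id _).symm
  refine ⟨s, ObjectProperty.isoMk _ (Limits.CategoricalPullback.mkIso
    (x := ((pasteR G f g).obj s).obj) (y := v.obj) (Iso.refl _) (Iso.refl _) hw), ?_⟩
  rw [fp_isHomLift_iff]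
  change 𝒲.p.IsHomLift (𝟙 (𝒲.p.obj v.obj.fst)) (𝟙 v.obj.fst)
  infer_instance

theorem isEquivOver_pasteR : FibCat.IsEquivOver (pasteR G f g) := by
  have := pasteR_faithful G f g
  have := pasteR_full G f g
  exact isEquivOver_of_fullyFaithful_of_essSurjOver _ (pasteR_essSurjOver G f g)

end PasteRight

end Groth.Agent.Lib.Helper17
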