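-- helper17: pasting of 2-fibre products over the base, second projection variant.
import Groth.Agent.Lib.Helper17FpPaste

set_option autoImplicit false
open CategoryTheory CategoryTheory.Functor

universe v₁ u₁ v₂ u₂ v₃ u₃ v₄ u₄ v₅ u₅ v u

namespace Groth.Agent.Lib.Helper17

section PasteLeftSnd

variable {C : Type u} [Category.{v} C]
  {𝒳 : BasedCategory.{v₂, u₂} C} {𝒴 : BasedCategory.{v₃, u₃} C} {𝒵 : BasedCategory.{v₄, u₄} C}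
  {𝒲 : BasedCategory.{v₅, u₅} C}
  (z : 𝒵 ⥤ᵇ 𝒴) (f : 𝒳 ⥤ᵇ 𝒴) (H : 𝒲 ⥤ᵇ 𝒳)

/-- The 2-isomorphism used to define `pasteS`. -/
def pasteSIso :
    BasedFunctor.comp (FibCat.fpFst H (FibCat.fpSnd z f)) (BasedFunctor.comp H f) ≅
      BasedFunctor.comp (BasedFunctor.comp (FibCat.fpSnd H (FibCat.fpSnd z f)) (FibCat.fpFst z f)) z :=
  (whiskerRightIso (FibCat.fpIso H (FibCat.fpSnd z f)) f : _ ≅
    BasedFunctor.comp (FibCat.fpSnd H (FibCat.fpSnd z f)) (BasedFunctor.comp (FibCat.fpSnd z f) f)) ≪≫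
  whiskerLeftIso (FibCat.fpSnd H (FibCat.fpSnd z f)) (FibCat.fpIso z f).symm

/-- The comparison `𝒲 ×_𝒳 (𝒵 ×_𝒴 𝒳) ⟶ 𝒲 ×_𝒴 𝒵`. -/
def pasteS : FibCat.fp H (FibCat.fpSnd z f) ⥤ᵇ FibCat.fp (BasedFunctor.comp H f) z :=
  FibCat.fpLift (FibCat.fpFst H (FibCat.fpSnd z f))
    (BasedFunctor.comp (FibCat.fpSnd H (FibCat.fpSnd z f)) (FibCat.fpFst z f)) (pasteSIso z f H)

theorem pasteS_obj_fst (s : (FibCat.fp H (FibCat.fpSnd z f)).obj) :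
    ((pasteS z f H).obj s).obj.fst = s.obj.fst := rfl

theorem pasteS_obj_snd (s : (FibCat.fp H (FibCat.fpSnd z f)).obj) :
    ((pasteS z f H).obj s).obj.snd = s.obj.snd.obj.fst := rfl

theorem pasteS_obj_iso_hom (s : (FibCat.fp H (FibCat.fpSnd z f)).obj) :
    ((pasteS z f H).obj s).obj.iso.hom = f.map s.obj.iso.hom ≫ s.obj.snd.obj.iso.inv := rfl

theorem pasteS_map_fst {s s' : (FibCat.fp H (FibCat.fpSnd z f)).obj} (m : s ⟶ s') :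
    ((pasteS z f H).map m).hom.fst = m.hom.fst := rfl

theorem pasteS_map_snd {s s' : (FibCat.fp H (FibCat.fpSnd z f)).obj} (m : s ⟶ s') :
    ((pasteS z f H).map m).hom.snd = m.hom.snd.hom.fst := rfl

theorem pasteS_faithful : (pasteS z f H).toFunctor.Faithful := by
  refine ⟨fun {s s'} m m' h => ?_⟩
  have h1 : m.hom.fst = m'.hom.fst := congrArg (fun t => t.hom.fst) h
  have h2 : m.hom.snd.hom.fst = m'.hom.snd.hom.fst := congrArg (fun t => t.hom.snd) h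
  have h3 : m.hom.snd.hom.snd = m'.hom.snd.hom.snd := by
    have e1 : H.map m.hom.fst ≫ s'.obj.iso.hom = s.obj.iso.hom ≫ m.hom.snd.hom.snd := m.hom.w
    have e2 : H.map m'.hom.fst ≫ s'.obj.iso.hom = s.obj.iso.hom ≫ m'.hom.snd.hom.snd := m'.hom.w
    have e3 : s.obj.iso.hom ≫ m.hom.snd.hom.snd = s.obj.iso.hom ≫ m'.hom.snd.hom.snd := by
      rw [← e1, ← e2, h1]
    exact (cancel_epi s.obj.iso.hom).1 e3
  apply ObjectProperty.hom_ext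
  apply Limits.CategoricalPullback.hom_ext
  · exact h1
  · apply ObjectProperty.hom_ext
    apply Limits.CategoricalPullback.hom_ext
    · exact h2
    · exact h3

theorem aux_pasteS_full {D : Type*} [Category D] {X₁ X₂ X₃ Y₁ Y₂ Y₃ : D}
    (A : X₁ ⟶ Y₁) (E : X₃ ⟶ Y₃) (Ψ : X₁ ≅ X₂) (Ψ' : Y₁ ≅ Y₂) (φ : X₃ ≅ X₂) (φ' : Y₃ ≅ Y₂)
    (h : A ≫ (Ψ'.hom ≫ φ'.inv) = (Ψ.hom ≫ φ.inv) ≫ E) :
    E ≫ φ'.hom = φ.hom ≫ (Ψ.inv ≫ A ≫ Ψ'.hom) := by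
  have h' := h =≫ φ'.hom
  simp only [Category.assoc, Iso.inv_hom_id, Category.comp_id] at h'
  rw [← cancel_epi φ.inv, ← cancel_epi Ψ.hom]
  simp only [Iso.inv_hom_id_assoc, Iso.hom_inv_id_assoc]
  exact h'.symm

theorem pasteS_full : (pasteS z f H).toFunctor.Full := by
  refine ⟨fun {s s'} n => ?_⟩
  obtain ⟨n₁, hn₁⟩ : ∃ t : s.obj.fst ⟶ s'.obj.fst, t = n.hom.fst := ⟨_, rfl⟩
  obtain ⟨n₂, hn₂⟩ : ∃ t : s.obj.snd.obj.fst ⟶ s'.obj.snd.obj.fst, t = n.hom.snd := ⟨_, rfl⟩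
  have hn : f.map (H.map n₁) ≫ (f.map s'.obj.iso.hom ≫ s'.obj.snd.obj.iso.inv) =
      (f.map s.obj.iso.hom ≫ s.obj.snd.obj.iso.inv) ≫ z.map n₂ := by
    rw [hn₁, hn₂]
    exact n.hom.w
  let β : s.obj.snd.obj.snd ⟶ s'.obj.snd.obj.snd :=
    s.obj.iso.inv ≫ H.map n₁ ≫ s'.obj.iso.hom
  have hβ : z.map n₂ ≫ s'.obj.snd.obj.iso.hom = s.obj.snd.obj.iso.hom ≫ f.map β := by
    have := aux_pasteS_full (f.map (H.map n₁)) (z.map n₂) (f.toFunctor.mapIso s.obj.iso)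
      (f.toFunctor.mapIso s'.obj.iso) s.obj.snd.obj.iso s'.obj.snd.obj.iso hn
    have e : f.map β = f.map s.obj.iso.inv ≫ f.map (H.map n₁) ≫ f.map s'.obj.iso.hom := by
      change f.toFunctor.map (s.obj.iso.inv ≫ H.map n₁ ≫ s'.obj.iso.hom) = _
      rw [f.toFunctor.map_comp, f.toFunctor.map_comp]
    rw [e]
    exact this
  let t : s.obj.snd ⟶ s'.obj.snd := ObjectProperty.homMk ⟨n₂, β, hβ⟩
  have hw : H.map n₁ ≫ s'.obj.iso.hom = s.obj.iso.hom ≫ (FibCat.fpSnd z f).map t := by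
    exact aux_hom_inv s.obj.iso (H.map n₁ ≫ s'.obj.iso.hom)
  refine ⟨ObjectProperty.homMk ⟨n₁, t, hw⟩, ?_⟩
  apply ObjectProperty.hom_ext
  apply Limits.CategoricalPullback.hom_ext
  · exact hn₁
  · exact hn₂

theorem pasteS_essSurjOver : EssSurjOver (pasteS z f H) := by
  intro v
  have hv : 𝒴.p.IsHomLift (𝟙 (𝒲.p.obj v.obj.fst)) v.obj.iso.hom := v.property
  have hvi : 𝒴.p.IsHomLift (𝟙 (𝒲.p.obj v.obj.fst)) v.obj.iso.inv :=
    IsHomLift.lift_id_inv 𝒴.p _ v.obj.iso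
  have hζ : 𝒵.p.obj v.obj.snd = 𝒲.p.obj v.obj.fst := fp_snd_obj (BasedFunctor.comp H f) z v
  have hv' : 𝒴.p.IsHomLift (𝟙 (𝒵.p.obj v.obj.snd)) v.obj.iso.symm.hom :=
    isHomLift_id_of_eq 𝒴.p hζ.symm _ (hφ := hvi)
  let t : (FibCat.fp z f).obj := ⟨⟨v.obj.snd, H.obj v.obj.fst, v.obj.iso.symm⟩, hv'⟩
  let s : (FibCat.fp H (FibCat.fpSnd z f)).obj :=
    ⟨⟨v.obj.fst, t, Iso.refl _⟩, IsHomLift.id (H.w_obj v.obj.fst)⟩
  have hw : (BasedFunctor.comp H f).map (Iso.refl v.obj.fst).hom ≫ v.obj.iso.hom =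
      ((pasteS z f H).obj s).obj.iso.hom ≫ z.map (Iso.refl v.obj.snd).hom := by
    rw [pasteS_obj_iso_hom]
    change f.map (H.map (𝟙 _)) ≫ _ = (f.map (𝟙 _) ≫ v.obj.iso.hom) ≫ z.map (𝟙 _)
    rw [H.toFunctor.map_id, f.toFunctor.map_id, z.toFunctor.map_id, Category.comp_id]
  refine ⟨s, ObjectProperty.isoMk _ (Limits.CategoricalPullback.mkIso
    (x := ((pasteS z f H).obj s).obj) (y := v.obj) (Iso.refl _) (Iso.refl _) hw), ?_⟩
  rw [fp_isHomLift_iff]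
  change 𝒲.p.IsHomLift (𝟙 (𝒲.p.obj v.obj.fst)) (𝟙 v.obj.fst)
  infer_instance

theorem isEquivOver_pasteS : FibCat.IsEquivOver (pasteS z f H) := by
  have := pasteS_faithful z f H
  have := pasteS_full z f H
  exact isEquivOver_of_fullyFaithful_of_essSurjOver _ (pasteS_essSurjOver z f H)

end PasteLeftSnd

end Groth.Agent.Lib.Helper17
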