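-- helper17: representability by algebraic spaces with a property: invariance and base change.
import Groth.Agent.Lib.Helper17FpPaste2
import Groth.Prelude.Def_AlgSt2

set_option autoImplicit false
set_option backward.isDefEq.respectTransparency false
set_option backward.isDefEq.respectTransparency.types false

open CategoryTheory CategoryTheory.Functor AlgebraicGeometry Opposite

universe w' v' w v u

namespace Groth.Agent.Lib.Helper17

section SpMap

variable {S : Scheme.{u}}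

theorem secHom_eq_of_iso {F : AlgSp.Sp S} {U : Over S} (Φ Φ' : AlgSt.ofSp F ⥤ᵇ FibCat.overCat U)
    (e : Φ ≅ Φ') (a : (AlgSt.ofSp F).obj) : AlgSt.secHom Φ a = AlgSt.secHom Φ' a := by
  have h1 : (bApp e a).hom.left ≫ (Φ'.obj a).hom = (Φ.obj a).hom := Over.w (bApp e a).hom
  have hl := bApp_isHomLift e a
  have h2 : (bApp e a).hom.left =
      eqToHom (Φ.w_obj a) ≫ 𝟙 _ ≫ eqToHom (Φ'.w_obj a).symm :=
    IsHomLift.fac' (FibCat.overCat U).p (𝟙 ((AlgSt.ofSp F).p.obj a)) (bApp e a).hom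
  simp only [AlgSt.secHom, ← h1, h2, Category.assoc, Category.id_comp, eqToHom_trans_assoc,
    eqToHom_refl]

theorem spMapOfOver_eq_of_iso {F : AlgSp.Sp S} {U : Over S}
    (Φ Φ' : AlgSt.ofSp F ⥤ᵇ FibCat.overCat U) (e : Φ ≅ Φ') :
    AlgSt.spMapOfOver Φ = AlgSt.spMapOfOver Φ' := by
  apply ObjectProperty.hom_ext
  apply NatTrans.ext
  funext T
  ext x
  change (⟨AlgSt.secHom Φ ⟨T.unop, x⟩⟩ : ULift _) = ⟨AlgSt.secHom Φ' ⟨T.unop, x⟩⟩
  rw [secHom_eq_of_iso Φ Φ' e]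

end SpMap

section Transfer

variable {S : Scheme.{u}}

/-- Transfer of a representation by an algebraic space with property `P` along an equivalence over
the base compatible with the projections to `(Sch/U)`. -/
theorem repWith_transfer {𝒜 : BasedCategory.{v, w} (Over S)} {ℬ : BasedCategory.{v', w'} (Over S)}
    {U : Over S} (pA : 𝒜 ⥤ᵇ FibCat.overCat U) (pB : ℬ ⥤ᵇ FibCat.overCat U) (E : 𝒜 ⥤ᵇ ℬ)
    (hE : FibCat.IsEquivOver E) (ε : BasedFunctor.comp E pB ≅ pA)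
    (P : MorphismProperty (AlgSp.Sp S))
    (h : ∃ (F : AlgSp.Space S) (e : AlgSt.ofSp F.obj ⥤ᵇ 𝒜),
      FibCat.IsEquivOver e ∧ P (AlgSt.spMapOfOver (BasedFunctor.comp e pA))) :
    ∃ (F : AlgSp.Space S) (e : AlgSt.ofSp F.obj ⥤ᵇ ℬ),
      FibCat.IsEquivOver e ∧ P (AlgSt.spMapOfOver (BasedFunctor.comp e pB)) := by
  obtain ⟨F, e, he, hP⟩ := h
  refine ⟨F, BasedFunctor.comp e E, IsEquivOver.comp e E he hE, ?_⟩
  have := spMapOfOver_eq_of_iso (BasedFunctor.comp (BasedFunctor.comp e E) pB)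
    (BasedFunctor.comp e pA) (whiskerLeftIso e ε)
  rw [this]
  exact hP

/-- Transfer in the other direction. -/
theorem repWith_transfer' {𝒜 : BasedCategory.{v, w} (Over S)} {ℬ : BasedCategory.{v', w'} (Over S)}
    {U : Over S} (pA : 𝒜 ⥤ᵇ FibCat.overCat U) (pB : ℬ ⥤ᵇ FibCat.overCat U) (E : 𝒜 ⥤ᵇ ℬ)
    (hE : FibCat.IsEquivOver E) (ε : BasedFunctor.comp E pB ≅ pA)
    (P : MorphismProperty (AlgSp.Sp S))
    (h : ∃ (F : AlgSp.Space S) (e : AlgSt.ofSp F.obj ⥤ᵇ ℬ),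
      FibCat.IsEquivOver e ∧ P (AlgSt.spMapOfOver (BasedFunctor.comp e pB))) :
    ∃ (F : AlgSp.Space S) (e : AlgSt.ofSp F.obj ⥤ᵇ 𝒜),
      FibCat.IsEquivOver e ∧ P (AlgSt.spMapOfOver (BasedFunctor.comp e pA)) := by
  obtain ⟨E', hE', -, ⟨β⟩⟩ := IsEquivOver.exists_inverse_isEquivOver' E hE
  refine repWith_transfer pB pA E' hE' ?_ P h
  exact (whiskerLeftIso E' ε).symm ≪≫ whiskerRightIso β pB

end Transfer

section Rows

variable {S : Scheme.{u}} {𝒳 : BasedCategory.{v, w} (Over S)} {𝒴 : BasedCategory.{v, w} (Over S)}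
  {𝒵 : BasedCategory.{v, w} (Over S)}

/-- Base change (first projection) of a morphism representable by algebraic spaces with `P`. -/
theorem repByAlgSpWith_fpFst (P : MorphismProperty (AlgSp.Sp S)) (f : 𝒳 ⥤ᵇ 𝒴) (g : 𝒵 ⥤ᵇ 𝒴)
    (hf : AlgSt.RepByAlgSpWith P f) : AlgSt.RepByAlgSpWith P (FibCat.fpFst g f) := by
  intro U y
  exact repWith_transfer' (FibCat.fpFst y (FibCat.fpFst g f))
    (FibCat.fpFst (BasedFunctor.comp y g) f) (pasteL f g y) (isEquivOver_pasteL f g y)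
    (Iso.refl _) P (hf U (BasedFunctor.comp y g))

/-- Base change (second projection) of a morphism representable by algebraic spaces with `P`. -/
theorem repByAlgSpWith_fpSnd (P : MorphismProperty (AlgSp.Sp S)) (z : 𝒵 ⥤ᵇ 𝒴) (f : 𝒳 ⥤ᵇ 𝒴)
    (hz : AlgSt.RepByAlgSpWith P z) : AlgSt.RepByAlgSpWith P (FibCat.fpSnd z f) := by
  intro U y
  exact repWith_transfer' (FibCat.fpFst y (FibCat.fpSnd z f))
    (FibCat.fpFst (BasedFunctor.comp y f) z) (pasteS z f y) (isEquivOver_pasteS z f y)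
    (Iso.refl _) P (hz U (BasedFunctor.comp y f))

end Rows

end Groth.Agent.Lib.Helper17
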