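-- helper17: Over.map as a functor over the base and its composition isomorphism.
import Groth.Agent.Lib.Helper17FpMap
set_option autoImplicit false
open CategoryTheory CategoryTheory.Functor
universe v u
namespace Groth.Agent.Lib.Helper17
variable {C : Type u} [Category.{v} C]

/-- `Over.map` as a functor over the base. -/
def ovMap {U V : C} (h : V ⟶ U) : FibCat.overCat V ⥤ᵇ FibCat.overCat U :=
  ⟨Over.map h, Over.mapForget_eq h⟩

def ovMapCompNat {W V U : C} (k : W ⟶ V) (h : V ⟶ U) :
    (BasedFunctor.comp (ovMap k) (ovMap h)).toFunctor ≅ (ovMap (k ≫ h)).toFunctor :=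
  NatIso.ofComponents (fun a => Over.isoMk (Iso.refl a.left) (by
        change 𝟙 a.left ≫ (a.hom ≫ k ≫ h) = (a.hom ≫ k) ≫ h
        simp))
      (fun {a b} m => by
        apply Over.OverMorphism.ext
        change m.left ≫ 𝟙 _ = 𝟙 _ ≫ m.left
        simp)

def ovMapComp {W V U : C} (k : W ⟶ V) (h : V ⟶ U) :
    BasedFunctor.comp (ovMap k) (ovMap h) ≅ ovMap (k ≫ h) :=
  BasedNatIso.mkNatIso (ovMapCompNat k h)
    (fun a => by
      obtain ⟨φ, hφ⟩ : ∃ φ : ((BasedFunctor.comp (ovMap k) (ovMap h)).obj a) ⟶ (ovMap (k ≫ h)).obj a,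
        φ = (ovMapCompNat k h).hom.app a := ⟨_, rfl⟩
      rw [← hφ]
      have h1 : (Over.forget U).map φ = 𝟙 a.left := by rw [hφ]; rfl
      have : (Over.forget U).IsHomLift ((Over.forget U).map φ) φ := IsHomLift.map _ φ
      rw [h1] at this
      exact this)

end Groth.Agent.Lib.Helper17
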