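-- helper17: the base as a category over itself; products of slices over the base.
import Groth.Agent.Lib.Helper17OvMap
import Groth.Agent.Lib.Helper17FpPaste2

set_option autoImplicit false
open CategoryTheory CategoryTheory.Functor

universe v₁ u₁ v₂ u₂ v u

namespace Groth.Agent.Lib.Helper17

section SelfOver

variable {C : Type u} [Category.{v} C]

/-- The base over itself is faithful over the base. -/
theorem selfOver_hom_ext' {x y : (FibCat.selfOver C).obj} {R S : C} (f : R ⟶ S) (φ ψ : x ⟶ y)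
    (hφ : (FibCat.selfOver C).p.IsHomLift f φ) (hψ : (FibCat.selfOver C).p.IsHomLift f ψ) :
    φ = ψ := by
  have h1 := IsHomLift.fac' (FibCat.selfOver C).p f φ
  have h2 := IsHomLift.fac' (FibCat.selfOver C).p f ψ
  have e1 : φ = (FibCat.selfOver C).p.map φ := rfl
  have e2 : ψ = (FibCat.selfOver C).p.map ψ := rfl
  rw [e1, e2, h1, h2]

/-- Fibres of the base over itself are thin. -/
theorem selfOver_hom_ext {x y : (FibCat.selfOver C).obj} {R : C} (φ ψ : x ⟶ y)
    (hφ : (FibCat.selfOver C).p.IsHomLift (𝟙 R) φ) (hψ : (FibCat.selfOver C).p.IsHomLift (𝟙 R) ψ) :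
    φ = ψ := selfOver_hom_ext' (𝟙 R) φ ψ hφ hψ

theorem selfOver_obj_eq {𝒜 : BasedCategory.{v₁, u₁} C} (A B : 𝒜 ⥤ᵇ FibCat.selfOver C)
    (x : 𝒜.obj) : A.obj x = B.obj x :=
  (A.w_obj x).trans (B.w_obj x).symm

/-- Any two functors over the base into the base are isomorphic. -/
def selfOverIso {𝒜 : BasedCategory.{v₁, u₁} C} (A B : 𝒜 ⥤ᵇ FibCat.selfOver C) : A ≅ B :=
  BasedNatIso.mkNatIso
    (NatIso.ofComponents (fun x => eqToIso (selfOver_obj_eq A B x)) (fun {x y} m => by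
      change A.map m ≫ eqToHom (selfOver_obj_eq A B y) = eqToHom (selfOver_obj_eq A B x) ≫ B.map m
      have hy : (FibCat.selfOver C).p.IsHomLift (𝟙 (𝒜.p.obj y)) (eqToHom (selfOver_obj_eq A B y)) :=
        IsHomLift.eqToHom_domain_lift_id _ (A.w_obj y)
      have hx : (FibCat.selfOver C).p.IsHomLift (𝟙 (𝒜.p.obj x)) (eqToHom (selfOver_obj_eq A B x)) :=
        IsHomLift.eqToHom_domain_lift_id _ (A.w_obj x)
      exact selfOver_hom_ext' (𝒜.p.map m) _ _
        (IsHomLift.comp_lift_id_right (FibCat.selfOver C).p (𝒜.p.map m) (A.map m) _)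
        (IsHomLift.comp_lift_id_left (FibCat.selfOver C).p (𝒜.p.map m) (B.map m) _)))
    (fun x => by
      change (FibCat.selfOver C).p.IsHomLift (𝟙 (𝒜.p.obj x)) (eqToHom (selfOver_obj_eq A B x))
      exact IsHomLift.eqToHom_domain_lift_id _ (A.w_obj x))

theorem selfOver_twoHom_ext {𝒜 : BasedCategory.{v₁, u₁} C} {A B : 𝒜 ⥤ᵇ FibCat.selfOver C}
    (α β : A ⟶ B) : α = β := by
  apply BasedNatTrans.homCategory.ext
  apply NatTrans.ext
  funext x
  exact selfOver_hom_ext _ _ (α.isHomLift' x) (β.isHomLift' x)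

end SelfOver

section ProdSlice

variable {C : Type u} [Category.{v} C] [Limits.HasBinaryProducts C] (V U : C)

/-- The product over the base of two slices. -/
abbrev prodSlice : BasedCategory.{v, max u v} C :=
  FibCat.fp (FibCat.toSelf (FibCat.overCat V)) (FibCat.toSelf (FibCat.overCat U))

/-- The comparison functor `C/(V × U) ⟶ C/V ×_C C/U`. -/
noncomputable def toProdSlice : FibCat.overCat (V ⨯ U) ⥤ᵇ prodSlice V U :=
  FibCat.fpLift (ovMap Limits.prod.fst) (ovMap Limits.prod.snd) (selfOverIso _ _)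

theorem toProdSlice_faithful : (toProdSlice V U).toFunctor.Faithful := by
  refine ⟨fun {t t'} m m' h => ?_⟩
  apply Over.OverMorphism.ext
  exact congrArg (fun k => k.hom.fst.left) h

theorem over_isHomLift_of_left {W : C} {x y : Over W} (φ : x ⟶ y) {R S : C} (f : R ⟶ S)
    (hx : x.left = R) (hy : y.left = S) (h : φ.left = eqToHom hx ≫ f ≫ eqToHom hy.symm) :
    (Over.forget W).IsHomLift f φ :=
  IsHomLift.of_fac' (Over.forget W) f φ hx hy h

theorem over_left_of_isHomLift {W : C} {x y : Over W} (φ : x ⟶ y) (f : x.left ⟶ y.left)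
    (h : (Over.forget W).IsHomLift f φ) : φ.left = f := by
  have := IsHomLift.fac' (Over.forget W) f φ
  simpa using this

theorem toProdSlice_full : (toProdSlice V U).toFunctor.Full := by
  refine ⟨fun {t t'} n => ?_⟩
  obtain ⟨n₁, hn₁⟩ : ∃ k : (ovMap (Limits.prod.fst : V ⨯ U ⟶ V)).obj t ⟶
      (ovMap (Limits.prod.fst : V ⨯ U ⟶ V)).obj t', k = n.hom.fst := ⟨_, rfl⟩
  obtain ⟨n₂, hn₂⟩ : ∃ k : (ovMap (Limits.prod.snd : V ⨯ U ⟶ U)).obj t ⟶
      (ovMap (Limits.prod.snd : V ⨯ U ⟶ U)).obj t', k = n.hom.snd := ⟨_, rfl⟩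
  have h12 : n₂.left = n₁.left := by
    have hl : (Over.forget U).IsHomLift ((prodSlice V U).p.map n) n.hom.snd :=
      FibCat.fp_isHomLift_snd _ _ n
    rw [hn₁, hn₂]
    exact over_left_of_isHomLift n.hom.snd n.hom.fst.left hl
  have w1 : n₁.left ≫ (t'.hom ≫ Limits.prod.fst) = t.hom ≫ Limits.prod.fst := Over.w n₁
  have w2 : n₂.left ≫ (t'.hom ≫ Limits.prod.snd) = t.hom ≫ Limits.prod.snd := Over.w n₂
  have hw : n₁.left ≫ t'.hom = t.hom := by
    apply Limits.prod.hom_ext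
    · exact (Category.assoc _ _ _).trans w1
    · rw [h12] at w2
      exact (Category.assoc _ _ _).trans w2
  refine ⟨Over.homMk n₁.left hw, ?_⟩
  apply ObjectProperty.hom_ext
  apply Limits.CategoricalPullback.hom_ext
  · apply Over.OverMorphism.ext
    exact congrArg (fun k => k.left) hn₁
  · apply Over.OverMorphism.ext
    change n₁.left = n.hom.snd.left
    rw [← h12, hn₂]

theorem toProdSlice_essSurjOver : EssSurjOver (toProdSlice V U) := by
  intro q
  obtain ⟨v, hv⟩ : ∃ v : Over V, v = q.obj.fst := ⟨_, rfl⟩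
  obtain ⟨u', hu'⟩ : ∃ u' : Over U, u' = q.obj.snd := ⟨_, rfl⟩
  obtain ⟨ι, hι⟩ : ∃ ι : q.obj.fst.left ≅ q.obj.snd.left, ι = q.obj.iso := ⟨_, rfl⟩
  have hq : (FibCat.selfOver C).p.IsHomLift (𝟙 q.obj.fst.left) q.obj.iso.hom := q.property
  let t : Over (V ⨯ U) := Over.mk (Limits.prod.lift q.obj.fst.hom (ι.hom ≫ q.obj.snd.hom))
  let i₁ : (ovMap (Limits.prod.fst : V ⨯ U ⟶ V)).obj t ≅ q.obj.fst :=
    Over.isoMk (Iso.refl _) (by
      change 𝟙 _ ≫ q.obj.fst.hom = Limits.prod.lift q.obj.fst.hom (ι.hom ≫ q.obj.snd.hom) ≫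
        Limits.prod.fst
      exact (Category.id_comp _).trans (Limits.prod.lift_fst _ _).symm)
  let i₂ : (ovMap (Limits.prod.snd : V ⨯ U ⟶ U)).obj t ≅ q.obj.snd :=
    Over.isoMk ι (by
      change ι.hom ≫ q.obj.snd.hom = Limits.prod.lift q.obj.fst.hom (ι.hom ≫ q.obj.snd.hom) ≫
        Limits.prod.snd
      exact (Limits.prod.lift_snd _ _).symm)
  have hw : (FibCat.toSelf (FibCat.overCat V)).map i₁.hom ≫ q.obj.iso.hom =
      ((toProdSlice V U).obj t).obj.iso.hom ≫ (FibCat.toSelf (FibCat.overCat U)).map i₂.hom := by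
    have k1 : (FibCat.selfOver C).p.IsHomLift (𝟙 q.obj.fst.left)
        ((FibCat.toSelf (FibCat.overCat V)).map i₁.hom) := by
      change (FibCat.selfOver C).p.IsHomLift (𝟙 q.obj.fst.left) (𝟙 q.obj.fst.left)
      exact IsHomLift.id rfl
    have k2 : (FibCat.selfOver C).p.IsHomLift (𝟙 q.obj.fst.left)
        ((toProdSlice V U).obj t).obj.iso.hom := ((toProdSlice V U).obj t).property
    have k3 : (FibCat.selfOver C).p.IsHomLift (𝟙 q.obj.fst.left)
        ((FibCat.toSelf (FibCat.overCat U)).map i₂.hom) := by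
      change (FibCat.selfOver C).p.IsHomLift (𝟙 q.obj.fst.left) ι.hom
      rw [hι]; exact hq
    exact selfOver_hom_ext _ _ (isHomLift_id_comp _ _ _ _ k1 hq) (isHomLift_id_comp _ _ _ _ k2 k3)
  refine ⟨t, ObjectProperty.isoMk _ (Limits.CategoricalPullback.mkIso
    (x := ((toProdSlice V U).obj t).obj) (y := q.obj) i₁ i₂ hw), ?_⟩
  rw [fp_isHomLift_iff]
  apply over_isHomLift_of_left _ _ rfl rfl
  change 𝟙 _ = 𝟙 _ ≫ 𝟙 _ ≫ 𝟙 _
  simp

theorem isEquivOver_toProdSlice : FibCat.IsEquivOver (toProdSlice V U) := by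
  have := toProdSlice_faithful V U
  have := toProdSlice_full V U
  exact isEquivOver_of_fullyFaithful_of_essSurjOver _ (toProdSlice_essSurjOver V U)

end ProdSlice

end Groth.Agent.Lib.Helper17
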