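-- helper17: the magic square `𝒳 ×_𝒮 𝒴 ≃ (𝒳 ×_C 𝒴) ×_{𝒮 ×_C 𝒮} 𝒮` over the base.
import Groth.Agent.Lib.Helper17SelfOver
import Groth.Agent.Lib.Helper17StkFp

set_option autoImplicit false
open CategoryTheory CategoryTheory.Functor

universe v₁ u₁ v₂ u₂ v₃ u₃ v₄ u₄ v u

namespace Groth.Agent.Lib.Helper17

section MagicSq

variable {C : Type u} [Category.{v} C]
  {𝒳 : BasedCategory.{v₂, u₂} C} {𝒴 : BasedCategory.{v₃, u₃} C} {𝒮 : BasedCategory.{v₄, u₄} C}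
  (G' : 𝒳 ⥤ᵇ 𝒮) (G : 𝒴 ⥤ᵇ 𝒮)

/-- The product functor `𝒳 ×_C 𝒴 ⟶ 𝒮 ×_C 𝒮`. -/
def prodFun : FibCat.fp (FibCat.toSelf 𝒳) (FibCat.toSelf 𝒴) ⥤ᵇ
    FibCat.fp (FibCat.toSelf 𝒮) (FibCat.toSelf 𝒮) :=
  fpMap (FibCat.toSelf 𝒮) (FibCat.toSelf 𝒮) (FibCat.toSelf 𝒳) (FibCat.toSelf 𝒴) G' G
    (BasedFunctor.id (FibCat.selfOver C)) (selfOverIso _ _) (selfOverIso _ _)

/-- The functor `𝒳 ×_𝒮 𝒴 ⟶ 𝒳 ×_C 𝒴`. -/
def toProdOver : FibCat.fp G' G ⥤ᵇ FibCat.fp (FibCat.toSelf 𝒳) (FibCat.toSelf 𝒴) :=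
  FibCat.fpLift (FibCat.fpFst G' G) (FibCat.fpSnd G' G) (selfOverIso _ _)

/-- The 2-isomorphism filling the magic square. -/
def magicIso : BasedFunctor.comp (toProdOver G' G) (prodFun G' G) ≅
    BasedFunctor.comp (BasedFunctor.comp (FibCat.fpSnd G' G) G) (FibCat.diag (FibCat.toSelf 𝒮)) :=
  fpIsoMk (FibCat.toSelf 𝒮) (FibCat.toSelf 𝒮)
    (H := BasedFunctor.comp (toProdOver G' G) (prodFun G' G))
    (K := BasedFunctor.comp (BasedFunctor.comp (FibCat.fpSnd G' G) G) (FibCat.diag (FibCat.toSelf 𝒮)))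
    (FibCat.fpIso G' G) (Iso.refl _) (fun z => by
      have hz : 𝒮.p.IsHomLift (𝟙 (𝒳.p.obj z.obj.fst)) z.obj.iso.hom := z.property
      have e1 : 𝒮.p.obj (G'.obj z.obj.fst) = 𝒳.p.obj z.obj.fst := G'.w_obj z.obj.fst
      have e2 : 𝒮.p.obj (G.obj z.obj.snd) = 𝒳.p.obj z.obj.fst :=
        (G.w_obj z.obj.snd).trans (fp_snd_obj G' G z)
      apply selfOver_hom_ext (R := 𝒳.p.obj z.obj.fst)
      · refine isHomLift_id_comp _ _ _ _ ?_ ?_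
        · exact BasedFunctor.preserves_isHomLift (FibCat.toSelf 𝒮) _ z.obj.iso.hom
        · exact fp_iso_isHomLift (FibCat.toSelf 𝒮) (FibCat.toSelf 𝒮) _ e2
      · refine isHomLift_id_comp _ _ _ _ ?_ ?_
        · exact fp_iso_isHomLift (FibCat.toSelf 𝒮) (FibCat.toSelf 𝒮) _ e1
        · have : 𝒮.p.IsHomLift (𝟙 (𝒳.p.obj z.obj.fst)) (𝟙 (G.obj z.obj.snd)) := IsHomLift.id e2
          exact BasedFunctor.preserves_isHomLift (FibCat.toSelf 𝒮) _ (𝟙 (G.obj z.obj.snd)))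

/-- The comparison functor of the magic square. -/
def magic : FibCat.fp G' G ⥤ᵇ FibCat.fp (prodFun G' G) (FibCat.diag (FibCat.toSelf 𝒮)) :=
  FibCat.fpLift (toProdOver G' G) (BasedFunctor.comp (FibCat.fpSnd G' G) G) (magicIso G' G)

theorem magic_obj_fst_fst (z : (FibCat.fp G' G).obj) :
    ((magic G' G).obj z).obj.fst.obj.fst = z.obj.fst := rfl

theorem magic_obj_fst_snd (z : (FibCat.fp G' G).obj) :
    ((magic G' G).obj z).obj.fst.obj.snd = z.obj.snd := rfl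

theorem magic_obj_snd (z : (FibCat.fp G' G).obj) :
    ((magic G' G).obj z).obj.snd = G.obj z.obj.snd := rfl

theorem magic_obj_iso_fst (z : (FibCat.fp G' G).obj) :
    ((magic G' G).obj z).obj.iso.hom.hom.fst = z.obj.iso.hom := rfl

theorem magic_obj_iso_snd (z : (FibCat.fp G' G).obj) :
    ((magic G' G).obj z).obj.iso.hom.hom.snd = 𝟙 (G.obj z.obj.snd) := rfl

theorem magic_map_fst_fst {z z' : (FibCat.fp G' G).obj} (m : z ⟶ z') :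
    ((magic G' G).map m).hom.fst.hom.fst = m.hom.fst := rfl

theorem magic_map_fst_snd {z z' : (FibCat.fp G' G).obj} (m : z ⟶ z') :
    ((magic G' G).map m).hom.fst.hom.snd = m.hom.snd := rfl

theorem magic_map_snd {z z' : (FibCat.fp G' G).obj} (m : z ⟶ z') :
    ((magic G' G).map m).hom.snd = G.map m.hom.snd := rfl

theorem prodFun_map_fst {q q' : (FibCat.fp (FibCat.toSelf 𝒳) (FibCat.toSelf 𝒴)).obj} (n : q ⟶ q') :
    ((prodFun G' G).map n).hom.fst = G'.map n.hom.fst := rfl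

theorem prodFun_map_snd {q q' : (FibCat.fp (FibCat.toSelf 𝒳) (FibCat.toSelf 𝒴)).obj} (n : q ⟶ q') :
    ((prodFun G' G).map n).hom.snd = G.map n.hom.snd := rfl

theorem magic_faithful : (magic G' G).toFunctor.Faithful := by
  refine ⟨fun {z z'} m m' h => ?_⟩
  apply ObjectProperty.hom_ext
  apply Limits.CategoricalPullback.hom_ext
  · exact congrArg (fun t => t.hom.fst.hom.fst) h
  · exact congrArg (fun t => t.hom.fst.hom.snd) h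

theorem magic_full : (magic G' G).toFunctor.Full := by
  refine ⟨fun {z z'} n => ?_⟩
  obtain ⟨α, hα⟩ : ∃ α : z.obj.fst ⟶ z'.obj.fst, α = n.hom.fst.hom.fst := ⟨_, rfl⟩
  obtain ⟨β, hβ⟩ : ∃ β : z.obj.snd ⟶ z'.obj.snd, β = n.hom.fst.hom.snd := ⟨_, rfl⟩
  obtain ⟨σ, hσ⟩ : ∃ σ : G.obj z.obj.snd ⟶ G.obj z'.obj.snd, σ = n.hom.snd := ⟨_, rfl⟩
  have hw := n.hom.w
  have h1 : G'.map α ≫ z'.obj.iso.hom = z.obj.iso.hom ≫ σ := by
    rw [hα, hσ]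
    exact congrArg (fun t => t.hom.fst) hw
  have h2 : G.map β ≫ 𝟙 _ = 𝟙 _ ≫ σ := by
    rw [hβ, hσ]
    exact congrArg (fun t => t.hom.snd) hw
  have h3 : σ = G.map β := by
    rw [Category.comp_id, Category.id_comp] at h2
    exact h2.symm
  have hm : G'.map α ≫ z'.obj.iso.hom = z.obj.iso.hom ≫ G.map β := by rw [h1, h3]
  refine ⟨ObjectProperty.homMk ⟨α, β, hm⟩, ?_⟩
  apply ObjectProperty.hom_ext
  apply Limits.CategoricalPullback.hom_ext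
  · apply ObjectProperty.hom_ext
    apply Limits.CategoricalPullback.hom_ext
    · exact hα
    · exact hβ
  · exact h3.symm.trans hσ

theorem diag_map_fst {s s' : 𝒮.obj} (σ : s ⟶ s') :
    ((FibCat.diag (FibCat.toSelf 𝒮)).map σ).hom.fst = σ := rfl

theorem diag_map_snd {s s' : 𝒮.obj} (σ : s ⟶ s') :
    ((FibCat.diag (FibCat.toSelf 𝒮)).map σ).hom.snd = σ := rfl

theorem magic_essSurjOver : EssSurjOver (magic G' G) := by
  intro w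
  obtain ⟨q, hq⟩ : ∃ q : (FibCat.fp (FibCat.toSelf 𝒳) (FibCat.toSelf 𝒴)).obj, q = w.obj.fst :=
    ⟨_, rfl⟩
  have hκ : (FibCat.fp (FibCat.toSelf 𝒮) (FibCat.toSelf 𝒮)).p.IsHomLift
      (𝟙 (𝒳.p.obj w.obj.fst.obj.fst)) w.obj.iso.hom := w.property
  let κ₁ : G'.obj w.obj.fst.obj.fst ≅ w.obj.snd :=
    (FibCat.fpFst (FibCat.toSelf 𝒮) (FibCat.toSelf 𝒮)).toFunctor.mapIso w.obj.iso
  let κ₂ : G.obj w.obj.fst.obj.snd ≅ w.obj.snd :=
    (FibCat.fpSnd (FibCat.toSelf 𝒮) (FibCat.toSelf 𝒮)).toFunctor.mapIso w.obj.iso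
  have hκ₁ : 𝒮.p.IsHomLift (𝟙 (𝒳.p.obj w.obj.fst.obj.fst)) κ₁.hom :=
    fp_isHomLift_fst' (FibCat.toSelf 𝒮) (FibCat.toSelf 𝒮) _ w.obj.iso.hom
  have hκ₂ : 𝒮.p.IsHomLift (𝟙 (𝒳.p.obj w.obj.fst.obj.fst)) κ₂.hom :=
    fp_isHomLift_snd' (FibCat.toSelf 𝒮) (FibCat.toSelf 𝒮) _ w.obj.iso.hom
  have hκ₂i : 𝒮.p.IsHomLift (𝟙 (𝒳.p.obj w.obj.fst.obj.fst)) κ₂.inv :=
    IsHomLift.lift_id_inv 𝒮.p _ κ₂
  let φ : G'.obj w.obj.fst.obj.fst ≅ G.obj w.obj.fst.obj.snd := κ₁ ≪≫ κ₂.symm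
  have hφ : 𝒮.p.IsHomLift (𝟙 (𝒳.p.obj w.obj.fst.obj.fst)) φ.hom :=
    isHomLift_id_comp _ _ _ _ hκ₁ hκ₂i
  let z : (FibCat.fp G' G).obj := ⟨⟨w.obj.fst.obj.fst, w.obj.fst.obj.snd, φ⟩, hφ⟩
  have hthin : (FibCat.toSelf 𝒳).map (Iso.refl w.obj.fst.obj.fst).hom ≫ w.obj.fst.obj.iso.hom =
      ((toProdOver G' G).obj z).obj.iso.hom ≫
        (FibCat.toSelf 𝒴).map (Iso.refl w.obj.fst.obj.snd).hom := by
    have e2 : 𝒴.p.obj w.obj.fst.obj.snd = 𝒳.p.obj w.obj.fst.obj.fst :=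
      fp_snd_obj (FibCat.toSelf 𝒳) (FibCat.toSelf 𝒴) w.obj.fst
    apply selfOver_hom_ext (R := 𝒳.p.obj w.obj.fst.obj.fst)
    · refine isHomLift_id_comp _ _ _ _ ?_ ?_
      · have : 𝒳.p.IsHomLift (𝟙 (𝒳.p.obj w.obj.fst.obj.fst)) (𝟙 w.obj.fst.obj.fst) :=
          IsHomLift.id rfl
        exact BasedFunctor.preserves_isHomLift (FibCat.toSelf 𝒳) _ (𝟙 w.obj.fst.obj.fst)
      · exact w.obj.fst.property
    · refine isHomLift_id_comp _ _ _ _ ?_ ?_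
      · exact ((toProdOver G' G).obj z).property
      · have : 𝒴.p.IsHomLift (𝟙 (𝒳.p.obj w.obj.fst.obj.fst)) (𝟙 w.obj.fst.obj.snd) :=
          IsHomLift.id e2
        exact BasedFunctor.preserves_isHomLift (FibCat.toSelf 𝒴) _ (𝟙 w.obj.fst.obj.snd)
  let i₁ : (toProdOver G' G).obj z ≅ w.obj.fst :=
    ObjectProperty.isoMk _ (Limits.CategoricalPullback.mkIso
      (x := ((toProdOver G' G).obj z).obj) (y := w.obj.fst.obj) (Iso.refl _) (Iso.refl _) hthin)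
  have hw : (prodFun G' G).map i₁.hom ≫ w.obj.iso.hom =
      ((magic G' G).obj z).obj.iso.hom ≫ (FibCat.diag (FibCat.toSelf 𝒮)).map κ₂.hom := by
    apply ObjectProperty.hom_ext
    apply Limits.CategoricalPullback.hom_ext
    · change G'.map (𝟙 _) ≫ κ₁.hom = (κ₁.hom ≫ κ₂.inv) ≫ κ₂.hom
      rw [G'.toFunctor.map_id, Category.id_comp, Category.assoc, Iso.inv_hom_id, Category.comp_id]
    · change G.map (𝟙 _) ≫ κ₂.hom = 𝟙 _ ≫ κ₂.hom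
      rw [G.toFunctor.map_id]
  refine ⟨z, ObjectProperty.isoMk _ (Limits.CategoricalPullback.mkIso
    (x := ((magic G' G).obj z).obj) (y := w.obj) i₁ κ₂ hw), ?_⟩
  rw [fp_isHomLift_iff, fp_isHomLift_iff]
  change 𝒳.p.IsHomLift (𝟙 (𝒳.p.obj w.obj.fst.obj.fst)) (𝟙 w.obj.fst.obj.fst)
  exact IsHomLift.id rfl

theorem isEquivOver_magic : FibCat.IsEquivOver (magic G' G) := by
  have := magic_faithful G' G
  have := magic_full G' G
  exact isEquivOver_of_fullyFaithful_of_essSurjOver _ (magic_essSurjOver G' G)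

end MagicSq

end Groth.Agent.Lib.Helper17
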