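-- helper17: invariance of algebraicity under equivalences over the base.
import Groth.Agent.Lib.Helper17AlgStRep
import Groth.Agent.Lib.Helper17MagicSq

set_option autoImplicit false
set_option backward.isDefEq.respectTransparency false
set_option backward.isDefEq.respectTransparency.types false

open CategoryTheory CategoryTheory.Functor AlgebraicGeometry Opposite

universe w' v' w v u

namespace Groth.Agent.Lib.Helper17

section Inv

variable {S : Scheme.{u}}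

theorem repByAlgSp_of_isEquivOver {𝒜 : BasedCategory.{v, w} (Over S)}
    {ℬ : BasedCategory.{v', w'} (Over S)} (E : 𝒜 ⥤ᵇ ℬ) (hE : FibCat.IsEquivOver E)
    (h : AlgSt.RepByAlgSp 𝒜) : AlgSt.RepByAlgSp ℬ := by
  obtain ⟨F, e, he⟩ := h
  exact ⟨F, BasedFunctor.comp e E, IsEquivOver.comp e E he hE⟩

theorem repByAlgSp_of_isEquivOver' {𝒜 : BasedCategory.{v, w} (Over S)}
    {ℬ : BasedCategory.{v', w'} (Over S)} (E : 𝒜 ⥤ᵇ ℬ) (hE : FibCat.IsEquivOver E)
    (h : AlgSt.RepByAlgSp ℬ) : AlgSt.RepByAlgSp 𝒜 := by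
  obtain ⟨E', hE', -, -⟩ := IsEquivOver.exists_inverse_isEquivOver' E hE
  exact repByAlgSp_of_isEquivOver E' hE' h

variable {𝒳 𝒴 𝒳' 𝒴' : BasedCategory.{v, w} (Over S)}

/-- Representability by algebraic spaces of a 1-morphism is invariant under equivalences. -/
theorem repByAlgSp1_of_square (f : 𝒳 ⥤ᵇ 𝒴) (f' : 𝒳' ⥤ᵇ 𝒴') (a : 𝒳' ⥤ᵇ 𝒳) (b : 𝒴' ⥤ᵇ 𝒴)
    (ha : FibCat.IsEquivOver a) (hb : FibCat.IsEquivOver b)
    (e : BasedFunctor.comp f' b ≅ BasedFunctor.comp a f) :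
    AlgSt.RepByAlgSp1 f ↔ AlgSt.RepByAlgSp1 f' := by
  constructor
  · intro hf U y'
    have := IsEquivOver.isEquivalence b hb
    have hE := isEquivOver_fpMap (BasedFunctor.comp y' b) f y' f' (BasedFunctor.id _) a b
      (Iso.refl _) e (isEquivOver_id _) ha
    exact repByAlgSp_of_isEquivOver' _ hE (hf U (BasedFunctor.comp y' b))
  · intro hf' U y
    obtain ⟨b', hb', -, ⟨β⟩⟩ := IsEquivOver.exists_inverse_isEquivOver' b hb
    have := IsEquivOver.isEquivalence b hb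
    have hE := isEquivOver_fpMap y f (BasedFunctor.comp y b') f' (BasedFunctor.id _) a b
      (whiskerLeftIso y β) e (isEquivOver_id _) ha
    exact repByAlgSp_of_isEquivOver _ hE (hf' U (BasedFunctor.comp y b'))

/-- Representability by algebraic spaces with a property is invariant under equivalences. -/
theorem repByAlgSpWith_of_square (P : MorphismProperty (AlgSp.Sp S))
    (f : 𝒳 ⥤ᵇ 𝒴) (f' : 𝒳' ⥤ᵇ 𝒴') (a : 𝒳' ⥤ᵇ 𝒳) (b : 𝒴' ⥤ᵇ 𝒴)
    (ha : FibCat.IsEquivOver a) (hb : FibCat.IsEquivOver b)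
    (e : BasedFunctor.comp f' b ≅ BasedFunctor.comp a f) :
    AlgSt.RepByAlgSpWith P f ↔ AlgSt.RepByAlgSpWith P f' := by
  constructor
  · intro hf U y'
    have := IsEquivOver.isEquivalence b hb
    have hE := isEquivOver_fpMap (BasedFunctor.comp y' b) f y' f' (BasedFunctor.id _) a b
      (Iso.refl _) e (isEquivOver_id _) ha
    exact repWith_transfer' (FibCat.fpFst y' f') (FibCat.fpFst (BasedFunctor.comp y' b) f) _ hE
      (Iso.refl _) P (hf U (BasedFunctor.comp y' b))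
  · intro hf' U y
    obtain ⟨b', hb', -, ⟨β⟩⟩ := IsEquivOver.exists_inverse_isEquivOver' b hb
    have := IsEquivOver.isEquivalence b hb
    have hE := isEquivOver_fpMap y f (BasedFunctor.comp y b') f' (BasedFunctor.id _) a b
      (whiskerLeftIso y β) e (isEquivOver_id _) ha
    exact repWith_transfer (FibCat.fpFst (BasedFunctor.comp y b') f') (FibCat.fpFst y f) _ hE
      (Iso.refl _) P (hf' U (BasedFunctor.comp y b'))

end Inv

section DiagSquare

variable {C : Type u} [Category.{v} C] {𝒳 : BasedCategory.{v', w'} C} {𝒴 : BasedCategory.{v, w} C}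
  (e : 𝒳 ⥤ᵇ 𝒴)

/-- The functor `𝒳 ×_C 𝒳 ⟶ 𝒴 ×_C 𝒴` induced by `e`. -/
def sqFun : FibCat.fp (FibCat.toSelf 𝒳) (FibCat.toSelf 𝒳) ⥤ᵇ
    FibCat.fp (FibCat.toSelf 𝒴) (FibCat.toSelf 𝒴) := prodFun e e

theorem isEquivOver_sqFun (he : FibCat.IsEquivOver e) : FibCat.IsEquivOver (sqFun e) := by
  have i1 : (BasedFunctor.id (FibCat.selfOver C)).toFunctor.Full := inferInstanceAs (𝟭 _).Full
  have i2 : (BasedFunctor.id (FibCat.selfOver C)).toFunctor.Faithful :=
    inferInstanceAs (𝟭 _).Faithful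
  exact isEquivOver_fpMap _ _ _ _ e e (BasedFunctor.id (FibCat.selfOver C)) _ _ he he

/-- The diagonal is compatible with `sqFun`. -/
def diagSqIso : BasedFunctor.comp (FibCat.diag (FibCat.toSelf 𝒳)) (sqFun e) ≅
    BasedFunctor.comp e (FibCat.diag (FibCat.toSelf 𝒴)) :=
  fpIsoMk (FibCat.toSelf 𝒴) (FibCat.toSelf 𝒴)
    (H := BasedFunctor.comp (FibCat.diag (FibCat.toSelf 𝒳)) (sqFun e))
    (K := BasedFunctor.comp e (FibCat.diag (FibCat.toSelf 𝒴)))
    (Iso.refl _) (Iso.refl _) (fun x => by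
      have e1 : 𝒴.p.obj (e.obj x) = 𝒳.p.obj x := e.w_obj x
      have hid : 𝒴.p.IsHomLift (𝟙 (𝒳.p.obj x)) (𝟙 (e.obj x)) := IsHomLift.id e1
      apply selfOver_hom_ext (R := 𝒳.p.obj x)
      · refine isHomLift_id_comp _ _ _ _ ?_ ?_
        · exact BasedFunctor.preserves_isHomLift (FibCat.toSelf 𝒴) _ (𝟙 (e.obj x))
        · exact fp_iso_isHomLift (FibCat.toSelf 𝒴) (FibCat.toSelf 𝒴) _ e1
      · refine isHomLift_id_comp _ _ _ _ ?_ ?_
        · exact fp_iso_isHomLift (FibCat.toSelf 𝒴) (FibCat.toSelf 𝒴) _ e1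
        · exact BasedFunctor.preserves_isHomLift (FibCat.toSelf 𝒴) _ (𝟙 (e.obj x)))

end DiagSquare

end Groth.Agent.Lib.Helper17

namespace Groth.Agent.Lib.Helper17

section AlgStackInv

variable {S : Scheme.{u}}

theorem hasAtlas_of_isEquivOver {𝒳 𝒴 : AlgSt.Cat S} (P : MorphismProperty (AlgSp.Sp S))
    (e : 𝒳 ⥤ᵇ 𝒴) (he : FibCat.IsEquivOver e) (h : AlgSt.HasAtlas P 𝒳) : AlgSt.HasAtlas P 𝒴 := by
  obtain ⟨U, x, h1, h2⟩ := h
  refine ⟨U, BasedFunctor.comp x e, ?_, ?_⟩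
  · exact (repByAlgSpWith_of_square P (BasedFunctor.comp x e) x (BasedFunctor.id _) e
      (isEquivOver_id _) he (Iso.refl _)).2 h1
  · exact (repByAlgSpWith_of_square AlgSp.IsSurjectiveMor (BasedFunctor.comp x e) x
      (BasedFunctor.id _) e (isEquivOver_id _) he (Iso.refl _)).2 h2

theorem isAlgStack_of_isEquivOver {𝒳 𝒴 : AlgSt.Cat S} (K : Precoverage Scheme.{u})
    (e : 𝒳 ⥤ᵇ 𝒴) (he : FibCat.IsEquivOver e) (h : AlgSt.IsAlgStack K 𝒳) :
    AlgSt.IsAlgStack K 𝒴 where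
  isStack := (isStack_iff_of_isEquivOver' _ e he).1 h.isStack
  diag := (repByAlgSp1_of_square (FibCat.diag (FibCat.toSelf 𝒴)) (FibCat.diag (FibCat.toSelf 𝒳))
    e (sqFun e) he (isEquivOver_sqFun e he) (diagSqIso e)).2 h.diag
  atlas := hasAtlas_of_isEquivOver _ e he h.atlas

theorem isAlgStack_iff_of_isEquivOver {𝒳 𝒴 : AlgSt.Cat S} (K : Precoverage Scheme.{u})
    (e : 𝒳 ⥤ᵇ 𝒴) (he : FibCat.IsEquivOver e) :
    AlgSt.IsAlgStack K 𝒳 ↔ AlgSt.IsAlgStack K 𝒴 := by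
  constructor
  · exact isAlgStack_of_isEquivOver K e he
  · obtain ⟨e', he', -, -⟩ := IsEquivOver.exists_inverse_isEquivOver' e he
    exact isAlgStack_of_isEquivOver K e' he'

theorem isDM_iff_of_isEquivOver {𝒳 𝒴 : AlgSt.Cat S} (K : Precoverage Scheme.{u})
    (e : 𝒳 ⥤ᵇ 𝒴) (he : FibCat.IsEquivOver e) :
    AlgSt.IsDM K 𝒳 ↔ AlgSt.IsDM K 𝒴 := by
  obtain ⟨e', he', -, -⟩ := IsEquivOver.exists_inverse_isEquivOver' e he
  constructor
  · rintro ⟨h1, h2⟩
    exact ⟨isAlgStack_of_isEquivOver K e he h1, hasAtlas_of_isEquivOver _ e he h2⟩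
  · rintro ⟨h1, h2⟩
    exact ⟨isAlgStack_of_isEquivOver K e' he' h1, hasAtlas_of_isEquivOver _ e' he' h2⟩

end AlgStackInv

end Groth.Agent.Lib.Helper17
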