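-- helper17: a 1-morphism representable by algebraic spaces is faithful.
import Groth.Agent.Lib.Helper17FibYoneda
import Groth.Agent.Lib.Helper17Stk2
import Groth.Agent.Lib.Helper17StkPsh
import Groth.Agent.Lib.Helper17FibFp
import Groth.Prelude.Def_AlgSt2

set_option autoImplicit false
set_option backward.isDefEq.respectTransparency false
set_option backward.isDefEq.respectTransparency.types false
open CategoryTheory CategoryTheory.Functor AlgebraicGeometry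

universe v₁ u₁ v₂ u₂ v₃ u₃ u

namespace Groth.Agent.Lib.Helper17

section Faithful

variable {C : Type u₁} [Category.{v₁} C] {𝒳 : BasedCategory.{v₂, u₂} C}
  {𝒴 : BasedCategory.{v₃, u₃} C}

/-- A functor over the base between categories fibred in groupoids is faithful as soon as it
detects identities among the automorphisms lying over identities. -/
theorem faithful_of_autos (h𝒳 : FibCat.IsFibGrpd 𝒳.p) (h𝒴 : FibCat.IsFibGrpd 𝒴.p) (f : 𝒳 ⥤ᵇ 𝒴)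
    (H : ∀ (x : 𝒳.obj) (χ : x ⟶ x), 𝒳.p.IsHomLift (𝟙 (𝒳.p.obj x)) χ → f.map χ = 𝟙 _ → χ = 𝟙 x) :
    f.toFunctor.Faithful := by
  refine ⟨fun {x x'} φ ψ h => ?_⟩
  have hφ : 𝒳.p.IsStronglyCartesian (𝒳.p.map φ) φ := h𝒳.isStronglyCartesian φ
  have hψl : 𝒳.p.IsHomLift (𝒳.p.map φ) ψ := by
    rw [← BasedFunctor.isHomLift_iff f]
    change 𝒴.p.IsHomLift (𝒳.p.map φ) (f.toFunctor.map ψ)
    rw [← h]
    exact BasedFunctor.preserves_isHomLift f _ φ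
  have hψl' : 𝒳.p.IsHomLift (𝟙 _ ≫ 𝒳.p.map φ) ψ := by simpa using hψl
  let χ : x ⟶ x := IsStronglyCartesian.map 𝒳.p (𝒳.p.map φ) φ (g := 𝟙 _) rfl ψ
  have hχ : 𝒳.p.IsHomLift (𝟙 (𝒳.p.obj x)) χ :=
    IsStronglyCartesian.map_isHomLift 𝒳.p (𝒳.p.map φ) φ rfl ψ
  have eχ : χ ≫ φ = ψ := IsStronglyCartesian.fac 𝒳.p (𝒳.p.map φ) φ rfl ψ
  have hfφ : 𝒴.p.IsHomLift (𝒳.p.map φ) (f.map φ) := BasedFunctor.preserves_isHomLift f _ φ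
  have hfφs : 𝒴.p.IsStronglyCartesian (𝒳.p.map φ) (f.map φ) :=
    IsFibGrpd.isStronglyCartesian_of_isHomLift h𝒴 _ _
  have hfχ : 𝒴.p.IsHomLift (𝟙 (𝒳.p.obj x)) (f.map χ) := BasedFunctor.preserves_isHomLift f _ χ
  have hid : 𝒴.p.IsHomLift (𝟙 (𝒳.p.obj x)) (𝟙 (f.obj x)) := IsHomLift.id (f.w_obj x)
  have e1 : f.map χ = 𝟙 _ := by
    apply IsStronglyCartesian.ext 𝒴.p (𝒳.p.map φ) (f.map φ) (𝟙 (𝒳.p.obj x))
    rw [Category.id_comp]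
    change f.toFunctor.map χ ≫ f.toFunctor.map φ = f.toFunctor.map φ
    rw [← f.toFunctor.map_comp, eχ, h]
  have e2 := H x χ hχ e1
  rw [← eχ, e2, Category.id_comp]

end Faithful

section Rep

variable {S : Scheme.{u}} {𝒳 : BasedCategory.{v₂, u₂} (Over S)} {𝒴 : BasedCategory.{v₃, u₃} (Over S)}

theorem auto_eq_id_of_repByAlgSp1 (h𝒴 : FibCat.IsFibGrpd 𝒴.p) (f : 𝒳 ⥤ᵇ 𝒴)
    (hf : AlgSt.RepByAlgSp1 f) (x : 𝒳.obj) (χ : x ⟶ x)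
    (hχ : 𝒳.p.IsHomLift (𝟙 (𝒳.p.obj x)) χ) (e : f.map χ = 𝟙 _) : χ = 𝟙 x := by
  have := IsFibGrpd.isFibered h𝒴
  have hx : 𝒴.p.obj (f.obj x) = 𝒳.p.obj x := f.w_obj x
  obtain ⟨e₀, he₀⟩ := yonedaFunctor_iso (𝒳 := 𝒴) hx
  let A : (FibCat.fp (yonedaFunctor (𝒳 := 𝒴) hx) f).obj :=
    ⟨⟨Over.mk (𝟙 (𝒳.p.obj x)), x, e₀⟩, he₀⟩
  have w : (yonedaFunctor (𝒳 := 𝒴) hx).map (𝟙 (Over.mk (𝟙 (𝒳.p.obj x)))) ≫ e₀.hom =
      e₀.hom ≫ f.map χ := by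
    rw [e]
    have h0 : (yonedaFunctor (𝒳 := 𝒴) hx).map (𝟙 (Over.mk (𝟙 (𝒳.p.obj x)))) = 𝟙 _ :=
      (yonedaFunctor (𝒳 := 𝒴) hx).toFunctor.map_id _
    rw [h0, Category.comp_id]
    exact Category.id_comp _
  let m : A ⟶ A := ObjectProperty.homMk ⟨𝟙 _, χ, w⟩
  have hm : (FibCat.fp (yonedaFunctor (𝒳 := 𝒴) hx) f).p.IsHomLift (𝟙 (𝒳.p.obj x)) m := by
    rw [fp_isHomLift_iff]
    exact IsHomLift.id rfl
  obtain ⟨F, E, hE⟩ := hf (𝒳.p.obj x) (yonedaFunctor (𝒳 := 𝒴) hx)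
  have hset : FibCat.IsFibSetoid (FibCat.fp (yonedaFunctor (𝒳 := 𝒴) hx) f).p :=
    (IsEquivOver.isFibSetoid_iff' E hE).1 (isFibSetoid_ofPsh F.obj.obj)
  have hthin := hset.2 (𝒳.p.obj x)
  let a : (FibCat.fp (yonedaFunctor (𝒳 := 𝒴) hx) f).p.Fiber (𝒳.p.obj x) := ⟨A, rfl⟩
  let m₁ : a ⟶ a := ⟨m, hm⟩
  have h1 : m₁ = 𝟙 a := @Subsingleton.elim _ (hthin a a) _ _
  have h2 : m = 𝟙 A := congrArg Subtype.val h1
  exact congrArg (fun t => t.hom.snd) h2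

theorem faithful_of_repByAlgSp1 (h𝒳 : FibCat.IsFibGrpd 𝒳.p) (h𝒴 : FibCat.IsFibGrpd 𝒴.p)
    (f : 𝒳 ⥤ᵇ 𝒴) (hf : AlgSt.RepByAlgSp1 f) : f.toFunctor.Faithful :=
  faithful_of_autos h𝒳 h𝒴 f (fun x χ hχ e => auto_eq_id_of_repByAlgSp1 h𝒴 f hf x χ hχ e)

end Rep

end Groth.Agent.Lib.Helper17
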