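-- helper15: composition of morphisms representable by algebraic spaces with a property.
import Groth.Agent.Lib.Helper15PshFib
import Groth.Agent.Lib.Helper17AlgStEquiv
import Groth.Agent.Lib.Helper17RepFaithful
import Groth.Agent.Lib.Helper17FibFp3
import Groth.Agent.S10091
import Groth.Prelude.Def_AlgSt2
import Groth.Prelude.Def_AlgSpRep

set_option autoImplicit false
set_option backward.isDefEq.respectTransparency false
set_option backward.isDefEq.respectTransparency.types false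
open CategoryTheory CategoryTheory.Functor CategoryTheory.Limits Opposite AlgebraicGeometry

universe w v₁ u₁ v₂ u₂ v₃ u₃ v₄ u₄ v u

namespace Groth.Agent.Lib.Helper15RepComp

open Groth.Agent.Lib.Helper17 Groth.Agent.Lib.Helper15PshFib

section Thin

variable {C : Type u₁} [Category.{v₁} C] {𝒳 : BasedCategory.{v₂, u₂} C}
  {𝒴 : BasedCategory.{v₃, u₃} C} {𝒮 : BasedCategory.{v₄, u₄} C}
  (F : 𝒳 ⥤ᵇ 𝒮) (G : 𝒴 ⥤ᵇ 𝒮)

/-- If `G` is faithful and the fibres of `𝒳` are thin, the fibres of `𝒳 ×_𝒮 𝒴` are thin. -/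
theorem fp_fiber_isThin_left [G.toFunctor.Faithful] (h𝒳 : ∀ U : C, Quiver.IsThin (𝒳.p.Fiber U))
    (U : C) : Quiver.IsThin ((FibCat.fp F G).p.Fiber U) := by
  intro X Y
  refine ⟨fun m m' => ?_⟩
  apply Subtype.ext
  have hm : (FibCat.fp F G).p.IsHomLift (𝟙 U) m.1 := m.2
  have hm' : (FibCat.fp F G).p.IsHomLift (𝟙 U) m'.1 := m'.2
  have h1 : 𝒳.p.IsHomLift (𝟙 U) m.1.hom.fst := fp_isHomLift_fst' F G (𝟙 U) m.1
  have h1' : 𝒳.p.IsHomLift (𝟙 U) m'.1.hom.fst := fp_isHomLift_fst' F G (𝟙 U) m'.1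
  have hXf : 𝒳.p.obj X.1.obj.fst = U := IsHomLift.domain_eq 𝒳.p (𝟙 U) m.1.hom.fst
  have hYf : 𝒳.p.obj Y.1.obj.fst = U := IsHomLift.codomain_eq 𝒳.p (𝟙 U) m.1.hom.fst
  have efst : m.1.hom.fst = m'.1.hom.fst := by
    let A : 𝒳.p.Fiber U := ⟨X.1.obj.fst, hXf⟩
    let B : 𝒳.p.Fiber U := ⟨Y.1.obj.fst, hYf⟩
    let k : A ⟶ B := ⟨m.1.hom.fst, h1⟩
    let k' : A ⟶ B := ⟨m'.1.hom.fst, h1'⟩
    have : k = k' := @Subsingleton.elim _ ((h𝒳 U) A B) _ _
    exact congrArg Subtype.val this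
  apply ObjectProperty.hom_ext
  apply Limits.CategoricalPullback.hom_ext
  · exact efst
  · apply G.toFunctor.map_injective
    have w := m.1.hom.w
    have w' := m'.1.hom.w
    rw [← cancel_epi X.1.obj.iso.hom]
    change _ ≫ G.map m.1.hom.snd = _ ≫ G.map m'.1.hom.snd
    rw [← w, ← w', efst]

theorem isFibSetoid_fp_left [G.toFunctor.Faithful] (h𝒳 : FibCat.IsFibSetoid 𝒳.p)
    (h𝒴 : FibCat.IsFibGrpd 𝒴.p) (h𝒮 : FibCat.IsFibGrpd 𝒮.p) :
    FibCat.IsFibSetoid (FibCat.fp F G).p :=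
  ⟨isFibGrpd_fp F G h𝒳.1 h𝒴 h𝒮, fp_fiber_isThin_left F G h𝒳.2⟩

end Thin

section OvSec

variable {C : Type u} [Category.{v} C] {P : Cᵒᵖ ⥤ Type w}
variable {𝒜 : BasedCategory.{v₁, u₁} C}

theorem ovSec_pshSec {U : C} (K : 𝒜 ⥤ᵇ Stk.ofPsh P) (H' : Stk.ofPsh P ⥤ᵇ FibCat.overCat U)
    (c : 𝒜.obj) :
    ovSec (BasedFunctor.comp K H') c = ovSec H' ⟨𝒜.p.obj c, pshSec K c⟩ := by
  let m : (⟨𝒜.p.obj c, pshSec K c⟩ : Stk.EltObj P) ⟶ K.obj c :=
    ⟨eqToHom (pshBase K c).symm, rfl⟩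
  have h1 := ovSec_map H' m
  rw [ovSec_comp, ← h1]
  rfl

theorem over_hom_congr {U X : C} (A B : Over U) (h : A = B) (hA : A.left = X) (hB : B.left = X) :
    eqToHom hA.symm ≫ A.hom = eqToHom hB.symm ≫ B.hom := by
  subst h
  rfl

theorem ovSec_congr_obj {U : C} (Φ Φ' : 𝒜 ⥤ᵇ FibCat.overCat U) (c : 𝒜.obj)
    (h : Φ.obj c = Φ'.obj c) : ovSec Φ c = ovSec Φ' c :=
  over_hom_congr (Φ.obj c) (Φ'.obj c) h (Φ.w_obj c) (Φ'.w_obj c)

end OvSec

section L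

variable {S : Scheme.{u}} {𝒳 𝒴 : AlgSt.Cat S}

/-- The 2-fibre product of a functor representable by algebraic spaces (with `Q`) with a functor
from the category of an algebraic space is the category of an algebraic space, whose base changes to
schemes are the representing spaces. -/
theorem exists_space_of_fp (h𝒳 : FibCat.IsFibGrpd 𝒳.p) (h𝒴 : FibCat.IsFibGrpd 𝒴.p)
    (Q : MorphismProperty (AlgSp.Sp S)) (f : 𝒳 ⥤ᵇ 𝒴) (hf : AlgSt.RepByAlgSpWith Q f)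
    (G : AlgSp.Sp S) (hG : AlgSp.IsAlgSpace G) (y : AlgSt.ofSp G ⥤ᵇ 𝒴) :
    ∃ (H : AlgSp.Space S) (E : AlgSt.ofSp H.obj ⥤ᵇ FibCat.fp y f), FibCat.IsEquivOver E ∧
      ∀ (T : Over S) (x : G.obj.obj (op T)),
        ∃ (F_T : AlgSp.Space S) (fst : F_T.obj ⟶ H.obj) (snd : F_T.obj ⟶ (AlgSp.yon S).obj T),
          IsPullback fst.hom snd.hom (pshMapOf (BasedFunctor.comp E (FibCat.fpFst y f)))
            (uliftYonedaEquiv.symm x) ∧ Q snd := by
  have hf1 : AlgSt.RepByAlgSp1 f := fun U y => by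
    obtain ⟨F, e, he, -⟩ := hf U y
    exact ⟨F, e, he⟩
  have hfaith : f.toFunctor.Faithful := faithful_of_repByAlgSp1 h𝒳 h𝒴 f hf1
  have hW : FibCat.IsFibSetoid (FibCat.fp y f).p :=
    isFibSetoid_fp_left y f (isFibSetoid_ofPsh G.obj) h𝒳 h𝒴
  obtain ⟨P, E, hE⟩ := exists_psh_equivOver (FibCat.fp y f) hW
  let a : P ⟶ G.obj := pshMapOf (BasedFunctor.comp E (FibCat.fpFst y f))
  have hfst : AlgSt.RepByAlgSpWith Q (FibCat.fpFst y f) := repByAlgSpWith_fpFst Q f y hf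
  have ha : AlgSt.RepByAlgSpWith Q (Stk.ofPshMap a) :=
    (repByAlgSpWith_of_square Q (FibCat.fpFst y f) (Stk.ofPshMap a) E (BasedFunctor.id _) hE
      (isEquivOver_id _) (ofPshMapIso _)).1 hfst
  have key : ∀ (T : Over S) (x : G.obj.obj (op T)),
      ∃ (F_T : AlgSp.Space S) (p₂ : F_T.obj.obj ⟶ P) (snd : F_T.obj ⟶ (AlgSp.yon S).obj T),
        IsPullback p₂ snd.hom a (uliftYonedaEquiv.symm x) ∧ Q snd := by
    intro T x
    obtain ⟨F_T, e_T, he_T, hQ⟩ := ha T (pshOfSection x)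
    exact ⟨F_T, _, _, isPullback_of_isEquivOver a x e_T he_T, hQ⟩
  have hRep : AlgSp.RepBySp a := by
    intro U ξ F' fst snd sq
    obtain ⟨F_T, p₂, snd', sq', -⟩ := key U (uliftYonedaEquiv ξ)
    rw [Equiv.symm_apply_apply] at sq'
    exact ((AlgSp.isAlgSpaceP_obj_iff F_T.obj).2 F_T.property).of_iso (sq'.isoIsPullback _ _ sq)
  obtain ⟨h, hAlg⟩ := Groth.Agent.S10091.result S P G.obj a hRep
    ((AlgSp.isAlgSpaceP_obj_iff G).2 hG)
  refine ⟨⟨⟨P, h⟩, hAlg⟩, E, hE, fun T x => ?_⟩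
  obtain ⟨F_T, p₂, snd, sq, hQ⟩ := key T x
  exact ⟨F_T, ObjectProperty.homMk p₂, snd, sq, hQ⟩

end L

section Comp

variable {S : Scheme.{u}}

/-- The condition on a property `Q` of morphisms of algebraic spaces under which morphisms
representable by algebraic spaces with `Q` compose. -/
def CompCond (Q : MorphismProperty (AlgSp.Sp S)) : Prop :=
  ∀ ⦃H G : AlgSp.Sp S⦄ ⦃U : Over S⦄ (a : H ⟶ G) (b : G ⟶ (AlgSp.yon S).obj U),
    AlgSp.IsAlgSpace H → AlgSp.IsAlgSpace G → Q b →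
    (∀ (T : Over S) (ξ : (AlgSp.yon S).obj T ⟶ G),
      ∃ (F_T : AlgSp.Sp S) (fst : F_T ⟶ H) (snd : F_T ⟶ (AlgSp.yon S).obj T),
        AlgSp.IsAlgSpace F_T ∧ IsPullback fst snd a ξ ∧ Q snd) → Q (a ≫ b)

variable {𝒳 𝒴 𝒵 : AlgSt.Cat S}

theorem repByAlgSpWith_comp_of_compCond (h𝒳 : FibCat.IsFibGrpd 𝒳.p) (h𝒴 : FibCat.IsFibGrpd 𝒴.p)
    (Q : MorphismProperty (AlgSp.Sp S)) (hQ : CompCond Q) (f : 𝒳 ⥤ᵇ 𝒴) (g : 𝒴 ⥤ᵇ 𝒵)
    (hf : AlgSt.RepByAlgSpWith Q f) (hg : AlgSt.RepByAlgSpWith Q g) :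
    AlgSt.RepByAlgSpWith Q (BasedFunctor.comp f g) := by
  intro U z
  obtain ⟨G, e_G, he_G, hQb⟩ := hg U z
  let y : AlgSt.ofSp G.obj ⥤ᵇ 𝒴 := BasedFunctor.comp e_G (FibCat.fpSnd z g)
  obtain ⟨H, E, hE, hpb⟩ := exists_space_of_fp h𝒳 h𝒴 Q f hf G.obj G.property y
  have := IsEquivOver.isEquivalence (BasedFunctor.id 𝒴) (isEquivOver_id 𝒴)
  let M : FibCat.fp y f ⥤ᵇ FibCat.fp (FibCat.fpSnd z g) f :=
    fpMap (FibCat.fpSnd z g) f y f e_G (BasedFunctor.id 𝒳) (BasedFunctor.id 𝒴) (Iso.refl _)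
      (Iso.refl _)
  have hM : FibCat.IsEquivOver M :=
    isEquivOver_fpMap (FibCat.fpSnd z g) f y f e_G (BasedFunctor.id 𝒳) (BasedFunctor.id 𝒴)
      (Iso.refl _) (Iso.refl _) he_G (isEquivOver_id 𝒳)
  let R := pasteR z f g
  have hR : FibCat.IsEquivOver R := isEquivOver_pasteR z f g
  let E' : AlgSt.ofSp H.obj ⥤ᵇ FibCat.fp z (BasedFunctor.comp f g) :=
    BasedFunctor.comp E (BasedFunctor.comp M R)
  have hE' : FibCat.IsEquivOver E' := IsEquivOver.comp _ _ hE (IsEquivOver.comp _ _ hM hR)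
  refine ⟨H, E', hE', ?_⟩
  let a' : H.obj ⟶ G.obj := ObjectProperty.homMk (pshMapOf (BasedFunctor.comp E (FibCat.fpFst y f)))
  let b : G.obj ⟶ (AlgSp.yon S).obj U := AlgSt.spMapOfOver (BasedFunctor.comp e_G (FibCat.fpFst z g))
  have hab : AlgSt.spMapOfOver (BasedFunctor.comp E' (FibCat.fpFst z (BasedFunctor.comp f g))) =
      a' ≫ b := by
    apply ObjectProperty.hom_ext
    apply NatTrans.ext
    funext T
    ext s
    apply ULift.ext
    let c : (AlgSt.ofSp H.obj).obj := ⟨T.unop, s⟩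
    change ovSec (BasedFunctor.comp E' (FibCat.fpFst z (BasedFunctor.comp f g))) c =
      ovSec (BasedFunctor.comp e_G (FibCat.fpFst z g))
        ⟨T.unop, pshSec (BasedFunctor.comp E (FibCat.fpFst y f)) c⟩
    exact (ovSec_congr_obj (BasedFunctor.comp E' (FibCat.fpFst z (BasedFunctor.comp f g)))
      (BasedFunctor.comp (BasedFunctor.comp E (FibCat.fpFst y f))
        (BasedFunctor.comp e_G (FibCat.fpFst z g))) c rfl).trans
      (ovSec_pshSec (BasedFunctor.comp E (FibCat.fpFst y f))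
        (BasedFunctor.comp e_G (FibCat.fpFst z g)) c)
  rw [hab]
  refine hQ a' b H.property G.property hQb (fun T ξ => ?_)
  obtain ⟨F_T, fst, snd, sq, hQs⟩ := hpb T (uliftYonedaEquiv ξ.hom)
  rw [Equiv.symm_apply_apply] at sq
  refine ⟨F_T.obj, fst, snd, F_T.property, ?_, hQs⟩
  exact IsPullback.of_map (sheafToPresheaf (AlgSp.J S) (Type (u + 1)))
    (ObjectProperty.hom_ext _ sq.w) sq

end Comp

section Shape

variable {S : Scheme.{u}}

/-- Properties of the shape "every base change to an affine scheme is an affine scheme whose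
structure morphism has `R`" satisfy the composition condition when `R` is stable under
composition. -/
theorem compCond_of_shape (R : ∀ ⦃W Z : Over S⦄, (W ⟶ Z) → Prop)
    (hR : ∀ ⦃W₂ W₁ Z : Over S⦄ (i₂ : W₂ ⟶ W₁) (i₁ : W₁ ⟶ Z), R i₂ → R i₁ → R (i₂ ≫ i₁))
    (Q : MorphismProperty (AlgSp.Sp S))
    (hQ : ∀ ⦃F G : AlgSp.Sp S⦄ (f : F ⟶ G), Q f ↔
      ∀ ⦃Z : Over S⦄, IsAffine Z.left → ∀ (g : (AlgSp.yon S).obj Z ⟶ G),
        ∃ (W : Over S) (i : W ⟶ Z) (fst : (AlgSp.yon S).obj W ⟶ F),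
          IsPullback fst ((AlgSp.yon S).map i) f g ∧ IsAffine W.left ∧ R i) :
    CompCond Q := by
  intro H G U a b _ _ hb hpb
  rw [hQ]
  intro Z hZ g
  obtain ⟨W₁, i₁, fst₁, sq₁, hW₁, hR₁⟩ := (hQ b).1 hb hZ g
  obtain ⟨F_T, fst, snd, -, sq, hsnd⟩ := hpb W₁ fst₁
  obtain ⟨W₂, i₂, fst₂, sq₂, hW₂, hR₂⟩ := (hQ snd).1 hsnd hW₁ (𝟙 _)
  have h1 := sq₂.paste_horiz sq
  rw [Category.id_comp] at h1
  have h2 := h1.paste_vert sq₁
  refine ⟨W₂, i₂ ≫ i₁, fst₂ ≫ fst, ?_, hW₂, hR _ _ hR₂ hR₁⟩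
  rw [Functor.map_comp]
  exact h2

theorem compCond_isAffineMor : CompCond (AlgSp.IsAffineMor (S := S)) :=
  compCond_of_shape (fun _ _ _ => True) (fun _ _ _ _ _ _ _ => trivial) _ (fun F G f =>
    ⟨fun h Z hZ g => by
      obtain ⟨W, i, fst, h1, h2⟩ := h hZ g
      exact ⟨W, i, fst, h1, h2, trivial⟩,
    fun h Z hZ g => by
      obtain ⟨W, i, fst, h1, h2, -⟩ := h hZ g
      exact ⟨W, i, fst, h1, h2⟩⟩)

theorem compCond_isIntegralMor : CompCond (AlgSp.IsIntegralMor (S := S)) :=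
  compCond_of_shape (fun _ _ i => IsIntegralHom i.left)
    (fun _ _ _ i₂ i₁ h₂ h₁ => by
      rw [Over.comp_left]
      infer_instance) _ (fun F G f => Iff.rfl)

theorem compCond_isFiniteMor : CompCond (AlgSp.IsFiniteMor (S := S)) :=
  compCond_of_shape (fun _ _ i => IsFinite i.left)
    (fun _ _ _ i₂ i₁ h₂ h₁ => by
      rw [Over.comp_left]
      infer_instance) _ (fun F G f => Iff.rfl)

end Shape

end Groth.Agent.Lib.Helper15RepComp
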