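-- helper15: the composition condition for representable properties and for monomorphisms.
import Mathlib
import Groth.Agent.Lib.Helper15RepComp

set_option autoImplicit false
set_option backward.isDefEq.respectTransparency false
set_option backward.isDefEq.respectTransparency.types false
open CategoryTheory CategoryTheory.Functor CategoryTheory.Limits Opposite AlgebraicGeometry

universe u

namespace Groth.Agent.Lib.Helper15RepComp

section RW

variable {S : Scheme.{u}}

/-- Representable properties stable under base change and composition satisfy the composition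
condition. -/
theorem compCond_repWith (P : MorphismProperty Scheme.{u}) [P.IsStableUnderBaseChange]
    [P.IsMultiplicative] : CompCond (AlgSp.RepWith (S := S) P) := by
  intro H G U a b _ _ hb hpb
  have hrep : AlgSp.Representable b := hb.rep
  obtain ⟨W, snd, fst, sq⟩ := hrep (𝟙 ((AlgSp.yon S).obj U))
  have hfst : IsIso fst := sq.isIso_fst_of_isIso
  obtain ⟨F_T, fst', snd', -, sq', hsnd'⟩ := hpb W fst
  have hfst' : IsIso fst' := sq'.isIso_fst_of_isIso
  have ha : a = inv fst' ≫ snd' ≫ fst := by
    rw [IsIso.eq_inv_comp]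
    exact sq'.w
  have hPa : AlgSp.RepWith P a := by
    rw [ha]
    exact MorphismProperty.RespectsIso.precomp _ _ _
      (MorphismProperty.RespectsIso.postcomp _ _ _ hsnd')
  exact MorphismProperty.comp_mem _ _ _ hPa hb

end RW

section Mono

variable {S : Scheme.{u}}

theorem sp_mono_iff_injective {F G : AlgSp.Sp S} (f : F ⟶ G) :
    Mono f ↔ ∀ T : (Over S)ᵒᵖ, Function.Injective (f.hom.app T) := by
  rw [Sheaf.Hom.mono_iff_presheaf_mono, NatTrans.mono_iff_mono_app]
  exact forall_congr' fun T => mono_iff_injective _

theorem compCond_mono : CompCond (MorphismProperty.monomorphisms (AlgSp.Sp S)) := by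
  intro H G U a b _ _ hb hpb
  have hbm : Mono b := hb
  have ham : Mono a := by
    rw [sp_mono_iff_injective]
    intro T s s' hss'
    let x : G.obj.obj T := a.hom.app T s
    let ξ : (AlgSp.yon S).obj T.unop ⟶ G := ObjectProperty.homMk (uliftYonedaEquiv.symm x)
    obtain ⟨F_T, fst, snd, -, sq, hsnd⟩ := hpb T.unop ξ
    have hsm : Mono snd := hsnd
    have hinj := (sp_mono_iff_injective snd).1 hsm T
    have sq' := (sq.map (sheafToPresheaf (AlgSp.J S) (Type (u + 1)))).app T
    have hx : a.hom.app T s = ξ.hom.app T ⟨𝟙 T.unop⟩ := by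
      change x = G.obj.map (𝟙 T.unop).op x
      simp
    have hx' : a.hom.app T s' = ξ.hom.app T ⟨𝟙 T.unop⟩ := by
      rw [← hss']
      exact hx
    obtain ⟨q, hq1, hq2⟩ := Limits.Types.exists_of_isPullback sq' s ⟨𝟙 T.unop⟩ hx
    obtain ⟨q', hq1', hq2'⟩ := Limits.Types.exists_of_isPullback sq' s' ⟨𝟙 T.unop⟩ hx'
    have hqq : q = q' := hinj (hq2.trans hq2'.symm)
    rw [← hq1, ← hq1', hqq]
  exact mono_comp a b

end Mono

end Groth.Agent.Lib.Helper15RepComp
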