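-- helper17: the relative magic square `𝒜 ×_𝒴 𝒳 ≃ (𝒜 ×_𝒵 𝒳) ×_{𝒴 ×_𝒵 𝒴} 𝒴` over the base.
import Groth.Agent.Lib.Helper17MagicSq

set_option autoImplicit false
open CategoryTheory CategoryTheory.Functor

universe v₁ u₁ v₂ u₂ v₃ u₃ v₄ u₄ v u

namespace Groth.Agent.Lib.Helper17

section MagicRel

variable {C : Type u} [Category.{v} C]
  {𝒜 : BasedCategory.{v₁, u₁} C} {𝒳 : BasedCategory.{v₂, u₂} C} {𝒴 : BasedCategory.{v₃, u₃} C}
  {𝒵 : BasedCategory.{v₄, u₄} C}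
  (y : 𝒜 ⥤ᵇ 𝒴) (f : 𝒳 ⥤ᵇ 𝒴) (g : 𝒴 ⥤ᵇ 𝒵)

/-- The functor `𝒜 ×_𝒵 𝒳 ⟶ 𝒴 ×_𝒵 𝒴`. -/
def relProd : FibCat.fp (BasedFunctor.comp y g) (BasedFunctor.comp f g) ⥤ᵇ FibCat.fp g g :=
  FibCat.fpLift
    (BasedFunctor.comp (FibCat.fpFst (BasedFunctor.comp y g) (BasedFunctor.comp f g)) y)
    (BasedFunctor.comp (FibCat.fpSnd (BasedFunctor.comp y g) (BasedFunctor.comp f g)) f)
    (FibCat.fpIso (BasedFunctor.comp y g) (BasedFunctor.comp f g) : _ ≅ _)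

/-- The functor `𝒜 ×_𝒴 𝒳 ⟶ 𝒜 ×_𝒵 𝒳`. -/
def toRel : FibCat.fp y f ⥤ᵇ FibCat.fp (BasedFunctor.comp y g) (BasedFunctor.comp f g) :=
  FibCat.fpLift (FibCat.fpFst y f) (FibCat.fpSnd y f)
    (whiskerRightIso (FibCat.fpIso y f) g : _ ≅ _)

theorem relProd_obj_iso (q : (FibCat.fp (BasedFunctor.comp y g) (BasedFunctor.comp f g)).obj) :
    ((relProd y f g).obj q).obj.iso.hom = q.obj.iso.hom := rfl

theorem toRel_obj_iso (z : (FibCat.fp y f).obj) :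
    ((toRel y f g).obj z).obj.iso.hom = g.map z.obj.iso.hom := rfl

theorem aux_hq {D : Type*} [Category D] {X Y Z : D} (A : X ⟶ Z) (Q : X ⟶ Y) (B : Y ⟶ Z)
    (B' : Z ⟶ Y) (hB : B ≫ B' = 𝟙 Y) (h : A ≫ 𝟙 Z = Q ≫ B) : Q = A ≫ B' := by
  rw [Category.comp_id] at h
  rw [h, Category.assoc, hB, Category.comp_id]

theorem aux_thin {D : Type*} [Category D] {X Y : D} (Q Q' : X ⟶ Y) (i : X ⟶ X) (j : Y ⟶ Y)
    (hi : i = 𝟙 X) (hj : j = 𝟙 Y) (h : Q = Q') : i ≫ Q = Q' ≫ j := by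
  rw [hi, hj, h, Category.id_comp, Category.comp_id]

/-- The 2-isomorphism filling the relative magic square. -/
def magicRelIso : BasedFunctor.comp (toRel y f g) (relProd y f g) ≅
    BasedFunctor.comp (BasedFunctor.comp (FibCat.fpSnd y f) f) (FibCat.diag g) :=
  fpIsoMk g g
    (H := BasedFunctor.comp (toRel y f g) (relProd y f g))
    (K := BasedFunctor.comp (BasedFunctor.comp (FibCat.fpSnd y f) f) (FibCat.diag g))
    (FibCat.fpIso y f) (Iso.refl _) (fun z => by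
      change g.map z.obj.iso.hom ≫ 𝟙 _ = g.map z.obj.iso.hom ≫ g.map (𝟙 _)
      rw [g.toFunctor.map_id])

/-- The comparison functor of the relative magic square. -/
def magicRel : FibCat.fp y f ⥤ᵇ FibCat.fp (relProd y f g) (FibCat.diag g) :=
  FibCat.fpLift (toRel y f g) (BasedFunctor.comp (FibCat.fpSnd y f) f) (magicRelIso y f g)

theorem magicRel_obj_iso_fst (z : (FibCat.fp y f).obj) :
    ((magicRel y f g).obj z).obj.iso.hom.hom.fst = z.obj.iso.hom := rfl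

theorem magicRel_obj_iso_snd (z : (FibCat.fp y f).obj) :
    ((magicRel y f g).obj z).obj.iso.hom.hom.snd = 𝟙 (f.obj z.obj.snd) := rfl

theorem magicRel_faithful : (magicRel y f g).toFunctor.Faithful := by
  refine ⟨fun {z z'} m m' h => ?_⟩
  apply ObjectProperty.hom_ext
  apply Limits.CategoricalPullback.hom_ext
  · exact congrArg (fun t => t.hom.fst.hom.fst) h
  · exact congrArg (fun t => t.hom.fst.hom.snd) h

theorem magicRel_full : (magicRel y f g).toFunctor.Full := by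
  refine ⟨fun {z z'} n => ?_⟩
  obtain ⟨α, hα⟩ : ∃ α : z.obj.fst ⟶ z'.obj.fst, α = n.hom.fst.hom.fst := ⟨_, rfl⟩
  obtain ⟨β, hβ⟩ : ∃ β : z.obj.snd ⟶ z'.obj.snd, β = n.hom.fst.hom.snd := ⟨_, rfl⟩
  obtain ⟨σ, hσ⟩ : ∃ σ : f.obj z.obj.snd ⟶ f.obj z'.obj.snd, σ = n.hom.snd := ⟨_, rfl⟩
  have hw := n.hom.w
  have h1 : y.map α ≫ z'.obj.iso.hom = z.obj.iso.hom ≫ σ := by
    rw [hα, hσ]
    exact congrArg (fun t => t.hom.fst) hw
  have h2 : f.map β ≫ 𝟙 _ = 𝟙 _ ≫ σ := by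
    rw [hβ, hσ]
    exact congrArg (fun t => t.hom.snd) hw
  have h3 : σ = f.map β := by
    rw [Category.comp_id, Category.id_comp] at h2
    exact h2.symm
  have hm : y.map α ≫ z'.obj.iso.hom = z.obj.iso.hom ≫ f.map β := by rw [h1, h3]
  refine ⟨ObjectProperty.homMk ⟨α, β, hm⟩, ?_⟩
  apply ObjectProperty.hom_ext
  apply Limits.CategoricalPullback.hom_ext
  · apply ObjectProperty.hom_ext
    apply Limits.CategoricalPullback.hom_ext
    · exact hα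
    · exact hβ
  · exact h3.symm.trans hσ

theorem magicRel_essSurjOver : EssSurjOver (magicRel y f g) := by
  intro w
  have hκ : (FibCat.fp g g).p.IsHomLift (𝟙 (𝒜.p.obj w.obj.fst.obj.fst)) w.obj.iso.hom := w.property
  let κ₁ : y.obj w.obj.fst.obj.fst ≅ w.obj.snd :=
    (FibCat.fpFst g g).toFunctor.mapIso w.obj.iso
  let κ₂ : f.obj w.obj.fst.obj.snd ≅ w.obj.snd :=
    (FibCat.fpSnd g g).toFunctor.mapIso w.obj.iso
  have hκ₁ : 𝒴.p.IsHomLift (𝟙 (𝒜.p.obj w.obj.fst.obj.fst)) κ₁.hom :=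
    fp_isHomLift_fst' g g _ w.obj.iso.hom
  have hκ₂ : 𝒴.p.IsHomLift (𝟙 (𝒜.p.obj w.obj.fst.obj.fst)) κ₂.hom :=
    fp_isHomLift_snd' g g _ w.obj.iso.hom
  have hκ₂i : 𝒴.p.IsHomLift (𝟙 (𝒜.p.obj w.obj.fst.obj.fst)) κ₂.inv :=
    IsHomLift.lift_id_inv 𝒴.p _ κ₂
  let φ : y.obj w.obj.fst.obj.fst ≅ f.obj w.obj.fst.obj.snd := κ₁ ≪≫ κ₂.symm
  have hφ : 𝒴.p.IsHomLift (𝟙 (𝒜.p.obj w.obj.fst.obj.fst)) φ.hom :=
    isHomLift_id_comp _ _ _ _ hκ₁ hκ₂i
  let z : (FibCat.fp y f).obj := ⟨⟨w.obj.fst.obj.fst, w.obj.fst.obj.snd, φ⟩, hφ⟩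
  -- compatibility of `w.obj.iso` with the structural isomorphisms
  have hcomp : g.map κ₁.hom ≫ 𝟙 _ = w.obj.fst.obj.iso.hom ≫ g.map κ₂.hom := w.obj.iso.hom.hom.w
  have hB : g.map κ₂.hom ≫ g.map κ₂.inv = 𝟙 _ := by
    change g.toFunctor.map κ₂.hom ≫ g.toFunctor.map κ₂.inv = 𝟙 _
    rw [← g.toFunctor.map_comp, Iso.hom_inv_id, g.toFunctor.map_id]
  have hq : w.obj.fst.obj.iso.hom = g.map φ.hom := by
    have h1 := aux_hq (g.map κ₁.hom) w.obj.fst.obj.iso.hom (g.map κ₂.hom) (g.map κ₂.inv) hB hcomp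
    have h2 : g.map φ.hom = g.map κ₁.hom ≫ g.map κ₂.inv := g.toFunctor.map_comp κ₁.hom κ₂.inv
    exact h1.trans h2.symm
  have hthin : (BasedFunctor.comp y g).map (Iso.refl w.obj.fst.obj.fst).hom ≫
      w.obj.fst.obj.iso.hom =
      ((toRel y f g).obj z).obj.iso.hom ≫
        (BasedFunctor.comp f g).map (Iso.refl w.obj.fst.obj.snd).hom := by
    exact aux_thin w.obj.fst.obj.iso.hom (g.map φ.hom) _ _
      ((BasedFunctor.comp y g).toFunctor.map_id _) ((BasedFunctor.comp f g).toFunctor.map_id _) hq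
  let i₁ : (toRel y f g).obj z ≅ w.obj.fst :=
    ObjectProperty.isoMk _ (Limits.CategoricalPullback.mkIso
      (x := ((toRel y f g).obj z).obj) (y := w.obj.fst.obj) (Iso.refl _) (Iso.refl _) hthin)
  have hw : (relProd y f g).map i₁.hom ≫ w.obj.iso.hom =
      ((magicRel y f g).obj z).obj.iso.hom ≫ (FibCat.diag g).map κ₂.hom := by
    apply ObjectProperty.hom_ext
    apply Limits.CategoricalPullback.hom_ext
    · change y.map (𝟙 _) ≫ κ₁.hom = (κ₁.hom ≫ κ₂.inv) ≫ κ₂.hom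
      rw [y.toFunctor.map_id, Category.id_comp, Category.assoc, Iso.inv_hom_id, Category.comp_id]
    · change f.map (𝟙 _) ≫ κ₂.hom = 𝟙 _ ≫ κ₂.hom
      rw [f.toFunctor.map_id]
  refine ⟨z, ObjectProperty.isoMk _ (Limits.CategoricalPullback.mkIso
    (x := ((magicRel y f g).obj z).obj) (y := w.obj) i₁ κ₂ hw), ?_⟩
  rw [fp_isHomLift_iff, fp_isHomLift_iff]
  change 𝒜.p.IsHomLift (𝟙 (𝒜.p.obj w.obj.fst.obj.fst)) (𝟙 w.obj.fst.obj.fst)
  exact IsHomLift.id rfl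

theorem isEquivOver_magicRel : FibCat.IsEquivOver (magicRel y f g) := by
  have := magicRel_faithful y f g
  have := magicRel_full y f g
  exact isEquivOver_of_fullyFaithful_of_essSurjOver _ (magicRel_essSurjOver y f g)

end MagicRel

end Groth.Agent.Lib.Helper17
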