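-- helper15: base change of the diagonal: comparison, graph and section functors.
import Mathlib
import Groth.Agent.Lib.Helper17MagicRel
import Groth.Agent.Lib.Helper17AlgStEquiv
import Groth.Agent.Lib.Helper17StkLoc3
import Groth.Agent.Lib.Helper15RepComp2

set_option autoImplicit false
set_option backward.isDefEq.respectTransparency false
set_option backward.isDefEq.respectTransparency.types false
open CategoryTheory CategoryTheory.Functor CategoryTheory.Limits Opposite AlgebraicGeometry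

universe v₁ u₁ v₂ u₂ v₃ u₃ v₄ u₄ w v u

namespace Groth.Agent.Lib.Helper15DiagBase

open Groth.Agent.Lib.Helper17

section FpFstEquiv

variable {C : Type u} [Category.{v} C] {𝒳 : BasedCategory.{v₂, u₂} C}
  {𝒴 : BasedCategory.{v₃, u₃} C} {𝒮 : BasedCategory.{v₄, u₄} C}
  (F : 𝒳 ⥤ᵇ 𝒮) (G : 𝒴 ⥤ᵇ 𝒮)

theorem fpFst_faithful_of_faithful [G.toFunctor.Faithful] :
    (FibCat.fpFst F G).toFunctor.Faithful := by
  refine ⟨fun {w w'} m m' h => ?_⟩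
  have hs : m.hom.fst = m'.hom.fst := h
  apply ObjectProperty.hom_ext
  apply Limits.CategoricalPullback.hom_ext
  · exact hs
  · apply G.toFunctor.map_injective
    have e1 := m.hom.w
    have e2 := m'.hom.w
    rw [← cancel_epi w.obj.iso.hom]
    rw [← e1, ← e2, hs]

theorem fpFst_full_of_ff [G.toFunctor.Full] [G.toFunctor.Faithful] :
    (FibCat.fpFst F G).toFunctor.Full := by
  refine ⟨fun {w w'} a₀ => ?_⟩
  obtain ⟨a, ha⟩ : ∃ t : w.obj.fst ⟶ w'.obj.fst, t = a₀ := ⟨a₀, rfl⟩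
  let b : w.obj.snd ⟶ w'.obj.snd :=
    G.toFunctor.preimage (w.obj.iso.inv ≫ F.map a ≫ w'.obj.iso.hom)
  have hb : G.map b = w.obj.iso.inv ≫ F.map a ≫ w'.obj.iso.hom :=
    G.toFunctor.map_preimage _
  have hw : F.map a ≫ w'.obj.iso.hom = w.obj.iso.hom ≫ G.map b := by
    rw [hb, Iso.hom_inv_id_assoc]
  exact ⟨ObjectProperty.homMk ⟨a, b, hw⟩, ha⟩

theorem fpFst_essSurjOver_of_essSurjOver (hG : EssSurjOver G) :
    EssSurjOver (FibCat.fpFst F G) := by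
  intro x
  obtain ⟨t, e, he⟩ := hG (F.obj x)
  have he' : 𝒮.p.IsHomLift (𝟙 (𝒳.p.obj x)) e.inv := by
    have h0 : 𝒮.p.IsHomLift (𝟙 (𝒮.p.obj (F.obj x))) e.inv :=
      IsHomLift.lift_id_inv 𝒮.p (𝒮.p.obj (F.obj x)) e
    exact isHomLift_id_of_eq 𝒮.p (F.w_obj x) e.inv
  let w : (FibCat.fp F G).obj := ⟨⟨x, t, e.symm⟩, he'⟩
  exact ⟨w, Iso.refl _, IsHomLift.id rfl⟩

theorem isEquivOver_fpFst (hG : FibCat.IsEquivOver G) :
    FibCat.IsEquivOver (FibCat.fpFst F G) := by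
  have := IsEquivOver.isEquivalence G hG
  have h1 := fpFst_faithful_of_faithful F G
  have h2 := fpFst_full_of_ff F G
  exact isEquivOver_of_fullyFaithful_of_essSurjOver _
    (fpFst_essSurjOver_of_essSurjOver F G (IsEquivOver.essSurjOver G hG))

end FpFstEquiv

section General

variable {S : Scheme.{u}} {𝒜 𝒳 𝒴 𝒵 : AlgSt.Cat S}

/-- If the diagonal of `g` is representable by algebraic spaces with `Q`, so is the comparison
functor `𝒜 ×_𝒴 𝒳 ⟶ 𝒜 ×_𝒵 𝒳`. -/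
theorem repByAlgSpWith_toRel (Q : MorphismProperty (AlgSp.Sp S)) (y : 𝒜 ⥤ᵇ 𝒴) (f : 𝒳 ⥤ᵇ 𝒴)
    (g : 𝒴 ⥤ᵇ 𝒵) (hd : AlgSt.RepByAlgSpWith Q (FibCat.diag g)) :
    AlgSt.RepByAlgSpWith Q (toRel y f g) := by
  have h1 := repByAlgSpWith_fpFst Q (FibCat.diag g) (relProd y f g) hd
  exact (repByAlgSpWith_of_square Q (FibCat.fpFst (relProd y f g) (FibCat.diag g)) (toRel y f g)
    (magicRel y f g) (BasedFunctor.id _) (isEquivOver_magicRel y f g) (isEquivOver_id _)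
    (Iso.refl _)).1 h1

/-- The statement's form of the comparison functor. -/
theorem fpLift_eq_toRel (y : 𝒜 ⥤ᵇ 𝒴) (f : 𝒳 ⥤ᵇ 𝒴) (g : 𝒴 ⥤ᵇ 𝒵)
    (e : BasedFunctor.comp (FibCat.fpFst y f) (BasedFunctor.comp y g) ≅
      BasedFunctor.comp (FibCat.fpSnd y f) (BasedFunctor.comp f g))
    (he : ∀ x, e.hom.toNatTrans.app x = g.map x.obj.iso.hom) :
    FibCat.fpLift (FibCat.fpFst y f) (FibCat.fpSnd y f) e = toRel y f g := by
  have : e = (whiskerRightIso (FibCat.fpIso y f) g : _ ≅ _) := by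
    apply Iso.ext
    apply BasedNatTrans.ext
    apply NatTrans.ext
    funext x
    rw [he x]
    rfl
  rw [this]
  rfl

/-- The comparison functor, in the statement's form. -/
theorem repByAlgSpWith_fpComparison (Q : MorphismProperty (AlgSp.Sp S)) (y : 𝒜 ⥤ᵇ 𝒴)
    (f : 𝒳 ⥤ᵇ 𝒴) (g : 𝒴 ⥤ᵇ 𝒵)
    (e : BasedFunctor.comp (FibCat.fpFst y f) (BasedFunctor.comp y g) ≅
      BasedFunctor.comp (FibCat.fpSnd y f) (BasedFunctor.comp f g))
    (he : ∀ x, e.hom.toNatTrans.app x = g.map x.obj.iso.hom)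
    (hd : AlgSt.RepByAlgSpWith Q (FibCat.diag g)) :
    AlgSt.RepByAlgSpWith Q (FibCat.fpLift (FibCat.fpFst y f) (FibCat.fpSnd y f) e) := by
  rw [fpLift_eq_toRel y f g e he]
  exact repByAlgSpWith_toRel Q y f g hd

end General

section Graph

theorem aux_graph {D : Type*} [Category D] {X Y Z : D} (i : X ⟶ X) (hi : i = 𝟙 X) (E : X ⟶ Y)
    (A : Y ⟶ Z) (B : Z ⟶ Y) (hAB : A ≫ B = 𝟙 Y) : i ≫ E = (E ≫ A ≫ 𝟙 Z) ≫ B := by
  rw [hi, Category.id_comp, Category.comp_id, Category.assoc, hAB, Category.comp_id]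

variable {S : Scheme.{u}} {𝒳 𝒴 𝒯 : AlgSt.Cat S}

/-- The cospan map used to compare the graph with the comparison functor. -/
def graphB (p : 𝒳 ⥤ᵇ 𝒯) (q : 𝒴 ⥤ᵇ 𝒯) (g : 𝒳 ⥤ᵇ 𝒴)
    (e : BasedFunctor.comp (BasedFunctor.id 𝒳) p ≅ BasedFunctor.comp g q) :
    FibCat.fp (BasedFunctor.comp g q) (BasedFunctor.comp (BasedFunctor.id 𝒴) q) ⥤ᵇ FibCat.fp p q :=
  fpMap p q (BasedFunctor.comp g q) (BasedFunctor.comp (BasedFunctor.id 𝒴) q)
    (BasedFunctor.id 𝒳) (BasedFunctor.id 𝒴) (BasedFunctor.id 𝒯) e.symm (Iso.refl _)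

theorem isEquivOver_graphB (p : 𝒳 ⥤ᵇ 𝒯) (q : 𝒴 ⥤ᵇ 𝒯) (g : 𝒳 ⥤ᵇ 𝒴)
    (e : BasedFunctor.comp (BasedFunctor.id 𝒳) p ≅ BasedFunctor.comp g q) :
    FibCat.IsEquivOver (graphB p q g e) := by
  have := IsEquivOver.isEquivalence (BasedFunctor.id 𝒯) (isEquivOver_id _)
  exact isEquivOver_fpMap p q (BasedFunctor.comp g q) (BasedFunctor.comp (BasedFunctor.id 𝒴) q)
    (BasedFunctor.id 𝒳) (BasedFunctor.id 𝒴) (BasedFunctor.id 𝒯) e.symm (Iso.refl _)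
    (isEquivOver_id _) (isEquivOver_id _)

def graphIso (p : 𝒳 ⥤ᵇ 𝒯) (q : 𝒴 ⥤ᵇ 𝒯) (g : 𝒳 ⥤ᵇ 𝒴)
    (e : BasedFunctor.comp (BasedFunctor.id 𝒳) p ≅ BasedFunctor.comp g q) :
    BasedFunctor.comp (toRel g (BasedFunctor.id 𝒴) q) (graphB p q g e) ≅
      BasedFunctor.comp (FibCat.fpFst g (BasedFunctor.id 𝒴))
        (FibCat.fpLift (BasedFunctor.id 𝒳) g e) :=
  fpIsoMk p q
    (H := BasedFunctor.comp (toRel g (BasedFunctor.id 𝒴) q) (graphB p q g e))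
    (K := BasedFunctor.comp (FibCat.fpFst g (BasedFunctor.id 𝒴))
        (FibCat.fpLift (BasedFunctor.id 𝒳) g e))
    (Iso.refl _) (FibCat.fpIso g (BasedFunctor.id 𝒴)).symm (fun a => by
      change p.map (𝟙 _) ≫ e.hom.toNatTrans.app a.obj.fst =
        (e.hom.toNatTrans.app a.obj.fst ≫ q.map a.obj.iso.hom ≫ 𝟙 _) ≫ q.map a.obj.iso.inv
      exact aux_graph _ (p.toFunctor.map_id _) _ _ _
        (by rw [← q.toFunctor.map_comp, Iso.hom_inv_id, q.toFunctor.map_id]; rfl))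

theorem repByAlgSpWith_graph (Q : MorphismProperty (AlgSp.Sp S)) (p : 𝒳 ⥤ᵇ 𝒯) (q : 𝒴 ⥤ᵇ 𝒯)
    (g : 𝒳 ⥤ᵇ 𝒴) (e : BasedFunctor.comp (BasedFunctor.id 𝒳) p ≅ BasedFunctor.comp g q)
    (hd : AlgSt.RepByAlgSpWith Q (FibCat.diag q)) :
    AlgSt.RepByAlgSpWith Q (FibCat.fpLift (BasedFunctor.id 𝒳) g e) := by
  have h1 := repByAlgSpWith_toRel Q g (BasedFunctor.id 𝒴) q hd
  have ha : FibCat.IsEquivOver (FibCat.fpFst g (BasedFunctor.id 𝒴)) :=
    isEquivOver_fpFst g (BasedFunctor.id 𝒴) (isEquivOver_id _)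
  exact (repByAlgSpWith_of_square Q (FibCat.fpLift (BasedFunctor.id 𝒳) g e)
    (toRel g (BasedFunctor.id 𝒴) q) (FibCat.fpFst g (BasedFunctor.id 𝒴)) (graphB p q g e)
    ha (isEquivOver_graphB p q g e) (graphIso p q g e)).2 h1

end Graph

section Section

variable {S : Scheme.{u}} {𝒳 𝒯 : AlgSt.Cat S}

/-- A section of a morphism whose diagonal is representable by algebraic spaces with `Q` is
representable by algebraic spaces with `Q`. -/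
theorem repByAlgSpWith_section (Q : MorphismProperty (AlgSp.Sp S)) (f : 𝒳 ⥤ᵇ 𝒯) (s : 𝒯 ⥤ᵇ 𝒳)
    (e : BasedFunctor.comp s f ≅ BasedFunctor.id 𝒯)
    (hd : AlgSt.RepByAlgSpWith Q (FibCat.diag f)) : AlgSt.RepByAlgSpWith Q s := by
  let e' : BasedFunctor.comp (BasedFunctor.id 𝒯) (BasedFunctor.id 𝒯) ≅ BasedFunctor.comp s f :=
    e.symm
  have h1 := repByAlgSpWith_graph Q (BasedFunctor.id 𝒯) f s e' hd
  have hb : FibCat.IsEquivOver (FibCat.fpSnd (BasedFunctor.id 𝒯) f) :=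
    isEquivOver_fpSnd (BasedFunctor.id 𝒯) f (isEquivOver_id _)
  exact (repByAlgSpWith_of_square Q s (FibCat.fpLift (BasedFunctor.id 𝒯) s e')
    (BasedFunctor.id 𝒯) (FibCat.fpSnd (BasedFunctor.id 𝒯) f) (isEquivOver_id _) hb
    (Iso.refl _)).2 h1

end Section

section Triangle

variable {S : Scheme.{u}} {𝒳 𝒴 𝒵 : AlgSt.Cat S}

/-- Cancellation in a triangle, for a property satisfying the composition condition. -/
theorem repByAlgSpWith_of_triangle (h𝒳 : FibCat.IsFibGrpd 𝒳.p) (h𝒴 : FibCat.IsFibGrpd 𝒴.p)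
    (h𝒵 : FibCat.IsFibGrpd 𝒵.p) (Q : MorphismProperty (AlgSp.Sp S))
    (hQ : Groth.Agent.Lib.Helper15RepComp.CompCond Q)
    (f : 𝒳 ⥤ᵇ 𝒴) (a : 𝒳 ⥤ᵇ 𝒵) (b : 𝒴 ⥤ᵇ 𝒵) (e : BasedFunctor.comp f b ≅ a)
    (ha : AlgSt.RepByAlgSpWith Q a) (hd : AlgSt.RepByAlgSpWith Q (FibCat.diag b)) :
    AlgSt.RepByAlgSpWith Q f := by
  let e' : BasedFunctor.comp (BasedFunctor.id 𝒳) a ≅ BasedFunctor.comp f b := e.symm
  have h1 := repByAlgSpWith_graph Q a b f e' hd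
  have h2 := repByAlgSpWith_fpSnd Q a b ha
  exact Groth.Agent.Lib.Helper15RepComp.repByAlgSpWith_comp_of_compCond h𝒳
    (isFibGrpd_fp a b h𝒳 h𝒴 h𝒵) Q hQ (FibCat.fpLift (BasedFunctor.id 𝒳) f e')
    (FibCat.fpSnd a b) h1 h2

end Triangle

end Groth.Agent.Lib.Helper15DiagBase
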