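-- helper15: the diagonal of a composite; etale-local composition condition.
import Mathlib
import Groth.Agent.Lib.Helper15DiagBase
import Groth.Agent.S9906
import Groth.Prelude.Def_AlgSpCov

set_option autoImplicit false
set_option backward.isDefEq.respectTransparency false
set_option backward.isDefEq.respectTransparency.types false
open CategoryTheory CategoryTheory.Functor CategoryTheory.Limits Opposite AlgebraicGeometry

universe u

namespace Groth.Agent.Lib.Helper15DiagComp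

open Groth.Agent.Lib.Helper17 Groth.Agent.Lib.Helper15RepComp Groth.Agent.Lib.Helper15DiagBase

variable {S : Scheme.{u}}

theorem isEtCover_atlas {G : AlgSp.Sp S} (hG : AlgSp.IsAlgSpace G) {V : Over S}
    (p : (AlgSp.yon S).obj V ⟶ G) (hpe : AlgSp.RepWith @Etale p)
    (hps : AlgSp.RepWith @Surjective p) :
    AlgSp.IsEtCover (fun _ : PUnit.{u + 1} => (AlgSp.yon S).obj V) (fun _ => p) := by
  let X : AlgSp.Space S := ⟨(AlgSp.yon S).obj V, AlgSp.IsAlgSpace.yon_obj V⟩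
  let Y : AlgSp.Space S := ⟨G, hG⟩
  let f : X ⟶ Y := ObjectProperty.homMk p
  have hrep : AlgSp.Representable f.hom := hG.representable_from_yon p
  refine ⟨fun _ => ?_, fun x => ?_⟩
  · intro U φ hφ
    exact MorphismProperty.comp_mem _ _ _ hφ hpe
  · have hs : AlgSp.IsSurjectiveMor f.hom := (Groth.Agent.S9906.result f hrep).1 hps
    obtain ⟨x', hx'⟩ := hs x
    exact ⟨PUnit.unit, x', hx'⟩

theorem compCond_of_local_et (P : MorphismProperty (AlgSp.Sp S))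
    (hPc : ∀ ⦃X Y Z : AlgSp.Sp S⦄, AlgSp.IsAlgSpace X → AlgSp.IsAlgSpace Y → AlgSp.IsAlgSpace Z →
      ∀ (a : X ⟶ Y) (b : Y ⟶ Z), P a → P b → P (a ≫ b))
    (hP : AlgSp.IsLocalOnBase AlgSp.IsEtCover P) : CompCond P := by
  intro H G U a b hH hG hb hpb
  refine hPc hH hG (AlgSp.IsAlgSpace.yon_obj U) a b ?_ hb
  obtain ⟨V, p, hpe, hps⟩ := hG.atlas
  obtain ⟨F_V, fst, snd, hF, sq, hsnd⟩ := hpb V p
  exact (hP (fun _ : PUnit.{u + 1} => (AlgSp.yon S).obj V) (fun _ => p) hG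
    (fun _ => AlgSp.IsAlgSpace.yon_obj V) (isEtCover_atlas hG p hpe hps) a hH (fun _ => F_V)
    (fun _ => snd) (fun _ => fst) (fun _ => hF) (fun _ => sq)).2 (fun _ => hsnd)

variable {𝒳 𝒴 𝒵 : AlgSt.Cat S}

/-- `Δ_f ≫ toRel ≅ Δ_{f ≫ g}`. -/
def diagCompIso (f : 𝒳 ⥤ᵇ 𝒴) (g : 𝒴 ⥤ᵇ 𝒵) :
    BasedFunctor.comp (FibCat.diag f) (toRel f f g) ≅ FibCat.diag (BasedFunctor.comp f g) :=
  fpIsoMk (BasedFunctor.comp f g) (BasedFunctor.comp f g)
    (H := BasedFunctor.comp (FibCat.diag f) (toRel f f g))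
    (K := FibCat.diag (BasedFunctor.comp f g)) (Iso.refl _) (Iso.refl _) (fun a => by
      change (BasedFunctor.comp f g).map (𝟙 _) ≫ 𝟙 _ = g.map (𝟙 _) ≫ (BasedFunctor.comp f g).map (𝟙 _)
      rw [(BasedFunctor.comp f g).toFunctor.map_id, g.toFunctor.map_id]
      rfl)

theorem repByAlgSpWith_diag_comp (h𝒳 : FibCat.IsFibGrpd 𝒳.p) (h𝒴 : FibCat.IsFibGrpd 𝒴.p)
    (P : MorphismProperty (AlgSp.Sp S))
    (hPc : ∀ ⦃X Y Z : AlgSp.Sp S⦄, AlgSp.IsAlgSpace X → AlgSp.IsAlgSpace Y → AlgSp.IsAlgSpace Z →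
      ∀ (a : X ⟶ Y) (b : Y ⟶ Z), P a → P b → P (a ≫ b))
    (hP : AlgSp.IsLocalOnBase AlgSp.IsEtCover P)
    (f : 𝒳 ⥤ᵇ 𝒴) (g : 𝒴 ⥤ᵇ 𝒵)
    (hf : AlgSt.RepByAlgSpWith P (FibCat.diag f)) (hg : AlgSt.RepByAlgSpWith P (FibCat.diag g)) :
    AlgSt.RepByAlgSpWith P (FibCat.diag (BasedFunctor.comp f g)) := by
  have h1 : AlgSt.RepByAlgSpWith P (toRel f f g) := repByAlgSpWith_toRel P f f g hg
  have h2 := repByAlgSpWith_comp_of_compCond h𝒳 (isFibGrpd_fp f f h𝒳 h𝒳 h𝒴) P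
    (compCond_of_local_et P hPc hP) (FibCat.diag f) (toRel f f g) hf h1
  exact (repByAlgSpWith_of_square P (FibCat.diag (BasedFunctor.comp f g))
    (BasedFunctor.comp (FibCat.diag f) (toRel f f g)) (BasedFunctor.id _) (BasedFunctor.id _)
    (isEquivOver_id _) (isEquivOver_id _) (diagCompIso f g)).2 h2

end Groth.Agent.Lib.Helper15DiagComp
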