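-- helper15: the diagonal of a composite for properties satisfying the composition condition.
import Mathlib
import Groth.Agent.Lib.Helper15DiagComp
import Groth.Agent.S10274
import Groth.Agent.S10276
import Groth.Prelude.Def_AlgSt3

set_option autoImplicit false
set_option backward.isDefEq.respectTransparency false
set_option backward.isDefEq.respectTransparency.types false
open CategoryTheory CategoryTheory.Functor CategoryTheory.Limits Opposite AlgebraicGeometry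

universe u

namespace Groth.Agent.Lib.Helper15DiagComp

open Groth.Agent.Lib.Helper17 Groth.Agent.Lib.Helper15RepComp Groth.Agent.Lib.Helper15DiagBase

variable {S : Scheme.{u}}

theorem compCond_isProperMor : CompCond (AlgSp.IsProperMor (S := S)) := by
  intro H G U a b hH hG hb hpb
  obtain ⟨V, p, hpe, hps⟩ := hG.atlas
  obtain ⟨F_V, fst, snd, hF, sq, hsnd⟩ := hpb V p
  let X : AlgSp.Space S := ⟨H, hH⟩
  let Y : AlgSp.Space S := ⟨G, hG⟩
  let Z : AlgSp.Space S := ⟨(AlgSp.yon S).obj U, AlgSp.IsAlgSpace.yon_obj U⟩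
  let a' : X ⟶ Y := ObjectProperty.homMk a
  let b' : Y ⟶ Z := ObjectProperty.homMk b
  have ha : AlgSp.IsProperMor a'.hom := Groth.Agent.S10274.result a' V p hpe hps fst snd sq hsnd
  exact Groth.Agent.S10276.result a' b' ha hb

variable {𝒳 𝒴 𝒵 : AlgSt.Cat S}

theorem repByAlgSpWith_diag_comp_of_compCond (h𝒳 : FibCat.IsFibGrpd 𝒳.p)
    (h𝒴 : FibCat.IsFibGrpd 𝒴.p) (Q : MorphismProperty (AlgSp.Sp S)) (hQ : CompCond Q)
    (f : 𝒳 ⥤ᵇ 𝒴) (g : 𝒴 ⥤ᵇ 𝒵)
    (hf : AlgSt.RepByAlgSpWith Q (FibCat.diag f)) (hg : AlgSt.RepByAlgSpWith Q (FibCat.diag g)) :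
    AlgSt.RepByAlgSpWith Q (FibCat.diag (BasedFunctor.comp f g)) := by
  have h1 : AlgSt.RepByAlgSpWith Q (toRel f f g) := repByAlgSpWith_toRel Q f f g hg
  have h2 := repByAlgSpWith_comp_of_compCond h𝒳 (isFibGrpd_fp f f h𝒳 h𝒳 h𝒴) Q hQ
    (FibCat.diag f) (toRel f f g) hf h1
  exact (repByAlgSpWith_of_square Q (FibCat.diag (BasedFunctor.comp f g))
    (BasedFunctor.comp (FibCat.diag f) (toRel f f g)) (BasedFunctor.id _) (BasedFunctor.id _)
    (isEquivOver_id _) (isEquivOver_id _) (diagCompIso f g)).2 h2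

theorem isSeparatedMor_comp (h𝒳 : FibCat.IsFibGrpd 𝒳.p) (h𝒴 : FibCat.IsFibGrpd 𝒴.p)
    (f : 𝒳 ⥤ᵇ 𝒴) (g : 𝒴 ⥤ᵇ 𝒵) (hf : AlgSt.IsSeparatedMor f) (hg : AlgSt.IsSeparatedMor g) :
    AlgSt.IsSeparatedMor (BasedFunctor.comp f g) :=
  repByAlgSpWith_diag_comp_of_compCond h𝒳 h𝒴 _ compCond_isProperMor f g hf hg

end Groth.Agent.Lib.Helper15DiagComp
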