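-- helper15: the diagonal of a base change is a base change of the diagonal (2-fibre products over
-- the base), on top of helper17's FibCat library.
import Groth.Agent.Lib.Helper17AlgStEquiv

set_option autoImplicit false
open CategoryTheory CategoryTheory.Functor

universe v₁ u₁ v₂ u₂ v₃ u₃ v₄ u₄ v u

namespace Groth.Agent.Lib.Helper15.DiagBC

open Groth.Agent.Lib.Helper17

section

variable {C : Type u} [Category.{v} C]
  {𝒳 : BasedCategory.{v₂, u₂} C} {𝒴 : BasedCategory.{v₃, u₃} C} {𝒵 : BasedCategory.{v₄, u₄} C}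
  (f : 𝒳 ⥤ᵇ 𝒴) (g : 𝒵 ⥤ᵇ 𝒴)

/-- the base change `f' : 𝒵 ×_𝒴 𝒳 ⟶ 𝒵` -/
abbrev f' : FibCat.fp g f ⥤ᵇ 𝒵 := FibCat.fpFst g f

/-- the projection `𝒵 ×_𝒴 𝒳 ⟶ 𝒳` -/
abbrev pr : FibCat.fp g f ⥤ᵇ 𝒳 := FibCat.fpSnd g f

/-- The 2-isomorphism used to define `GG`. -/
def GGIso :
    BasedFunctor.comp (BasedFunctor.comp (FibCat.fpFst (f' f g) (f' f g)) (pr f g)) f ≅
      BasedFunctor.comp (BasedFunctor.comp (FibCat.fpSnd (f' f g) (f' f g)) (pr f g)) f :=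
  (whiskerLeftIso (FibCat.fpFst (f' f g) (f' f g)) (FibCat.fpIso g f).symm : _ ≅
    BasedFunctor.comp (BasedFunctor.comp (FibCat.fpFst (f' f g) (f' f g)) (f' f g)) g) ≪≫
  (whiskerRightIso (FibCat.fpIso (f' f g) (f' f g)) g : _ ≅
    BasedFunctor.comp (FibCat.fpSnd (f' f g) (f' f g)) (BasedFunctor.comp (f' f g) g)) ≪≫
  whiskerLeftIso (FibCat.fpSnd (f' f g) (f' f g)) (FibCat.fpIso g f)

/-- The functor `𝒳' ×_𝒵 𝒳' ⟶ 𝒳 ×_𝒴 𝒳` induced by the projection `𝒳' ⟶ 𝒳`. -/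
def GG : FibCat.fp (f' f g) (f' f g) ⥤ᵇ FibCat.fp f f :=
  FibCat.fpLift (BasedFunctor.comp (FibCat.fpFst (f' f g) (f' f g)) (pr f g))
    (BasedFunctor.comp (FibCat.fpSnd (f' f g) (f' f g)) (pr f g)) (GGIso f g)

theorem GG_obj_fst (c : (FibCat.fp (f' f g) (f' f g)).obj) :
    ((GG f g).obj c).obj.fst = c.obj.fst.obj.snd := rfl

theorem GG_obj_snd (c : (FibCat.fp (f' f g) (f' f g)).obj) :
    ((GG f g).obj c).obj.snd = c.obj.snd.obj.snd := rfl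

theorem GG_obj_iso_hom (c : (FibCat.fp (f' f g) (f' f g)).obj) :
    ((GG f g).obj c).obj.iso.hom =
      c.obj.fst.obj.iso.inv ≫ g.map c.obj.iso.hom ≫ c.obj.snd.obj.iso.hom := rfl

theorem GG_map_fst {c c' : (FibCat.fp (f' f g) (f' f g)).obj} (m : c ⟶ c') :
    ((GG f g).map m).hom.fst = m.hom.fst.hom.snd := rfl

theorem GG_map_snd {c c' : (FibCat.fp (f' f g) (f' f g)).obj} (m : c ⟶ c') :
    ((GG f g).map m).hom.snd = m.hom.snd.hom.snd := rfl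

/-- `Δ_{f'} ≫ GG ≅ pr ≫ Δ_f`. -/
def diagIso : BasedFunctor.comp (FibCat.diag (f' f g)) (GG f g) ≅
    BasedFunctor.comp (pr f g) (FibCat.diag f) :=
  fpIsoMk f f
    (H := BasedFunctor.comp (FibCat.diag (f' f g)) (GG f g))
    (K := BasedFunctor.comp (pr f g) (FibCat.diag f))
    (Iso.refl _) (Iso.refl _) (fun a => by
      change f.map (𝟙 _) ≫ 𝟙 _ = (a.obj.iso.inv ≫ g.map (𝟙 _) ≫ a.obj.iso.hom) ≫ f.map (𝟙 _)
      rw [f.toFunctor.map_id, g.toFunctor.map_id]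
      simp)

/-- The comparison functor `𝒳' ⟶ (𝒳' ×_𝒵 𝒳') ×_{𝒳 ×_𝒴 𝒳} 𝒳`. -/
def EE : FibCat.fp g f ⥤ᵇ FibCat.fp (GG f g) (FibCat.diag f) :=
  FibCat.fpLift (FibCat.diag (f' f g)) (pr f g) (diagIso f g)

theorem EE_obj_fst (a : (FibCat.fp g f).obj) :
    ((EE f g).obj a).obj.fst = (FibCat.diag (f' f g)).obj a := rfl

theorem EE_obj_snd (a : (FibCat.fp g f).obj) :
    ((EE f g).obj a).obj.snd = a.obj.snd := rfl

theorem EE_obj_iso_hom_fst (a : (FibCat.fp g f).obj) :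
    ((EE f g).obj a).obj.iso.hom.hom.fst = 𝟙 _ := rfl

theorem EE_obj_iso_hom_snd (a : (FibCat.fp g f).obj) :
    ((EE f g).obj a).obj.iso.hom.hom.snd = 𝟙 _ := rfl

theorem EE_map_fst_fst {a a' : (FibCat.fp g f).obj} (m : a ⟶ a') :
    ((EE f g).map m).hom.fst.hom.fst = m := rfl

theorem EE_map_snd {a a' : (FibCat.fp g f).obj} (m : a ⟶ a') :
    ((EE f g).map m).hom.snd = m.hom.snd := rfl

theorem EE_faithful : (EE f g).toFunctor.Faithful := by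
  refine ⟨fun {a a'} m m' h => ?_⟩
  exact congrArg (fun t => t.hom.fst.hom.fst) h

theorem EE_full : (EE f g).toFunctor.Full := by
  refine ⟨fun {a a'} n => ?_⟩
  -- components of `n`
  obtain ⟨m, hm⟩ : ∃ t : a ⟶ a', t = n.hom.fst.hom.fst := ⟨_, rfl⟩
  obtain ⟨m', hm'⟩ : ∃ t : a ⟶ a', t = n.hom.fst.hom.snd := ⟨_, rfl⟩
  obtain ⟨n₂, hn₂⟩ : ∃ t : a.obj.snd ⟶ a'.obj.snd, t = n.hom.snd := ⟨_, rfl⟩
  -- compatibility inside `fp f' f'`
  have h1 : m.hom.fst ≫ 𝟙 _ = 𝟙 _ ≫ m'.hom.fst := by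
    rw [hm, hm']
    exact n.hom.fst.hom.w
  -- compatibility inside `fp GG (diag f)`
  have hw := n.hom.w
  have h2 : m.hom.snd ≫ 𝟙 _ = 𝟙 _ ≫ n₂ := by
    rw [hm, hn₂]
    exact congrArg (fun t => t.hom.fst) hw
  have h3 : m'.hom.snd ≫ 𝟙 _ = 𝟙 _ ≫ n₂ := by
    rw [hm', hn₂]
    exact congrArg (fun t => t.hom.snd) hw
  rw [Category.comp_id, Category.id_comp] at h1 h2 h3
  have hmm' : m = m' := by
    apply ObjectProperty.hom_ext
    apply Limits.CategoricalPullback.hom_ext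
    · exact h1
    · rw [h2, h3]
  refine ⟨m, ?_⟩
  apply ObjectProperty.hom_ext
  apply Limits.CategoricalPullback.hom_ext
  · apply ObjectProperty.hom_ext
    apply Limits.CategoricalPullback.hom_ext
    · exact hm
    · change m = n.hom.fst.hom.snd
      rw [hmm', hm']
  · change m.hom.snd = n.hom.snd
    rw [h2, hn₂]

theorem aux_beta {D : Type*} [Category D] {A A' B B' X : D} (ι₁ : A ≅ A') (ι₂ : B ≅ B')
    (t : A ⟶ B) (p₁ : A' ≅ X) (p₂ : B' ≅ X)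
    (h : p₁.hom ≫ 𝟙 X = (ι₁.inv ≫ t ≫ ι₂.hom) ≫ p₂.hom) :
    t ≫ ι₂.hom = ι₁.hom ≫ (p₁.hom ≫ p₂.inv) := by
  rw [Category.comp_id] at h
  rw [h]
  simp

theorem EE_essSurjOver : EssSurjOver (EE f g) := by
  intro η
  -- unpack `η = (c, x, ψ)`, `c = (a, b, θ)`
  obtain ⟨c, hc⟩ : ∃ t : (FibCat.fp (f' f g) (f' f g)).obj, t = η.obj.fst := ⟨_, rfl⟩
  obtain ⟨a, ha⟩ : ∃ t : (FibCat.fp g f).obj, t = η.obj.fst.obj.fst := ⟨_, rfl⟩
  obtain ⟨b, hb⟩ : ∃ t : (FibCat.fp g f).obj, t = η.obj.fst.obj.snd := ⟨_, rfl⟩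
  let ψ : (GG f g).obj η.obj.fst ≅ (FibCat.diag f).obj η.obj.snd := η.obj.iso
  let ψ₁ : η.obj.fst.obj.fst.obj.snd ≅ η.obj.snd := (FibCat.fpFst f f).toFunctor.mapIso ψ
  let ψ₂ : η.obj.fst.obj.snd.obj.snd ≅ η.obj.snd := (FibCat.fpSnd f f).toFunctor.mapIso ψ
  let θ : η.obj.fst.obj.fst.obj.fst ≅ η.obj.fst.obj.snd.obj.fst := η.obj.fst.obj.iso
  have hψw : f.map ψ₁.hom ≫ 𝟙 _ =
      (η.obj.fst.obj.fst.obj.iso.inv ≫ g.map θ.hom ≫ η.obj.fst.obj.snd.obj.iso.hom) ≫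
        f.map ψ₂.hom := ψ.hom.hom.w
  have wβ : g.map θ.hom ≫ η.obj.fst.obj.snd.obj.iso.hom =
      η.obj.fst.obj.fst.obj.iso.hom ≫ f.map (ψ₁ ≪≫ ψ₂.symm).hom := by
    have := aux_beta η.obj.fst.obj.fst.obj.iso η.obj.fst.obj.snd.obj.iso (g.map θ.hom)
      (f.toFunctor.mapIso ψ₁) (f.toFunctor.mapIso ψ₂) hψw
    rw [this]
    change _ = _ ≫ f.toFunctor.map (ψ₁.hom ≫ ψ₂.inv)
    rw [f.toFunctor.map_comp]
    rfl
  let β : η.obj.fst.obj.fst ≅ η.obj.fst.obj.snd :=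
    ObjectProperty.isoMk _ (Limits.CategoricalPullback.mkIso
      (x := η.obj.fst.obj.fst.obj) (y := η.obj.fst.obj.snd.obj) θ (ψ₁ ≪≫ ψ₂.symm) wβ)
  have w₁ : (f' f g).map (Iso.refl η.obj.fst.obj.fst).hom ≫ η.obj.fst.obj.iso.hom =
      ((FibCat.diag (f' f g)).obj η.obj.fst.obj.fst).obj.iso.hom ≫ (f' f g).map β.hom := by
    change (f' f g).map (𝟙 _) ≫ θ.hom = 𝟙 _ ≫ θ.hom
    rw [(f' f g).toFunctor.map_id]
    rfl
  let e₁ : (FibCat.diag (f' f g)).obj η.obj.fst.obj.fst ≅ η.obj.fst :=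
    ObjectProperty.isoMk _ (Limits.CategoricalPullback.mkIso
      (x := ((FibCat.diag (f' f g)).obj η.obj.fst.obj.fst).obj) (y := η.obj.fst.obj)
      (Iso.refl _) β w₁)
  have w : (GG f g).map e₁.hom ≫ η.obj.iso.hom =
      ((EE f g).obj η.obj.fst.obj.fst).obj.iso.hom ≫ (FibCat.diag f).map ψ₁.hom := by
    apply ObjectProperty.hom_ext
    apply Limits.CategoricalPullback.hom_ext
    · change 𝟙 _ ≫ ψ₁.hom = 𝟙 _ ≫ ψ₁.hom
      rfl
    · change (ψ₁.hom ≫ ψ₂.inv) ≫ ψ₂.hom = 𝟙 _ ≫ ψ₁.hom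
      simp
  refine ⟨η.obj.fst.obj.fst, ObjectProperty.isoMk _ (Limits.CategoricalPullback.mkIso
    (x := ((EE f g).obj η.obj.fst.obj.fst).obj) (y := η.obj) e₁ ψ₁ w), ?_⟩
  rw [fp_isHomLift_iff, fp_isHomLift_iff, fp_isHomLift_iff]
  change 𝒵.p.IsHomLift (𝟙 (𝒵.p.obj η.obj.fst.obj.fst.obj.fst)) (𝟙 η.obj.fst.obj.fst.obj.fst)
  infer_instance

theorem isEquivOver_EE : FibCat.IsEquivOver (EE f g) := by
  have := EE_faithful f g
  have := EE_full f g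
  exact isEquivOver_of_fullyFaithful_of_essSurjOver _ (EE_essSurjOver f g)

end

section Rep

open AlgebraicGeometry

universe w

variable {S : Scheme.{w}} {𝒳 𝒴 𝒵 : AlgSt.Cat S}

/-- If the diagonal of `f` is representable by algebraic spaces with property `P`, so is the
diagonal of every base change of `f` (for any property `P`). -/
theorem repByAlgSpWith_diag_fpFst (P : MorphismProperty (AlgSp.Sp S)) (f : 𝒳 ⥤ᵇ 𝒴) (g : 𝒵 ⥤ᵇ 𝒴)
    (hf : AlgSt.RepByAlgSpWith P (FibCat.diag f)) :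
    AlgSt.RepByAlgSpWith P (FibCat.diag (FibCat.fpFst g f)) := by
  have h1 : AlgSt.RepByAlgSpWith P (FibCat.fpFst (GG f g) (FibCat.diag f)) :=
    repByAlgSpWith_fpFst P (FibCat.diag f) (GG f g) hf
  refine (repByAlgSpWith_of_square P (FibCat.fpFst (GG f g) (FibCat.diag f))
    (FibCat.diag (f' f g)) (EE f g) (BasedFunctor.id _) (isEquivOver_EE f g)
    (isEquivOver_id _) ?_).mp h1
  exact Iso.refl _

end Rep

end Groth.Agent.Lib.Helper15.DiagBC
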