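-- helper15: the composition condition for properties defined etale locally.
import Mathlib
import Groth.Agent.Lib.Helper15DiagComp2
import Groth.Agent.S10556
import Groth.Agent.S10555
import Groth.Agent.S9907

set_option autoImplicit false
set_option backward.isDefEq.respectTransparency false
set_option backward.isDefEq.respectTransparency.types false
open CategoryTheory CategoryTheory.Functor CategoryTheory.Limits Opposite AlgebraicGeometry

universe u

namespace Groth.Agent.Lib.Helper15DiagComp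

open Groth.Agent.Lib.Helper17 Groth.Agent.Lib.Helper15RepComp Groth.Agent.Lib.Helper15DiagBase

variable {S : Scheme.{u}}

/-- The composition condition for properties defined etale locally on source and target, when
they compose, cancel etale morphisms and are etale local on the source. -/
theorem compCond_locP (P : MorphismProperty Scheme.{u}) [P.IsStableUnderComposition]
    (hcancel : ∀ ⦃X Y Z : Scheme.{u}⦄ (h : X ⟶ Y) (β : Y ⟶ Z), Etale β → P (h ≫ β) → P h)
    (hloc : AlgSp.IsLocalOnSource (AlgSp.IsEtCover (S := S)) (AlgSp.LocP P)) :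
    CompCond (AlgSp.LocP (S := S) P) := by
  intro H G U a b hH hG hb hpb
  obtain ⟨V, p, hpe, hps⟩ := hG.atlas
  obtain ⟨F_V, fst, snd, hF, sq, hsnd⟩ := hpb V p
  -- the cover `fst : F_V ⟶ H`
  have hfst_et : AlgSp.RepWith @Etale fst :=
    MorphismProperty.of_isPullback (P := AlgSp.RepWith (S := S) @Etale) sq.flip hpe
  have hcov : AlgSp.IsEtCover (fun _ : PUnit.{u + 1} => F_V) (fun _ => fst) := by
    refine ⟨fun _ => ?_, fun x => ?_⟩
    · intro W φ hφ
      exact MorphismProperty.comp_mem _ _ _ hφ hfst_et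
    · let X : AlgSp.Space S := ⟨(AlgSp.yon S).obj V, AlgSp.IsAlgSpace.yon_obj V⟩
      let Y : AlgSp.Space S := ⟨G, hG⟩
      let Y' : AlgSp.Space S := ⟨H, hH⟩
      let p' : X ⟶ Y := ObjectProperty.homMk p
      let a' : Y' ⟶ Y := ObjectProperty.homMk a
      have hrep : AlgSp.Representable p'.hom := hG.representable_from_yon p
      have hs : AlgSp.IsSurjectiveMor p'.hom := (Groth.Agent.S9906.result p' hrep).1 hps
      have hs' : AlgSp.IsSurjectiveMor fst :=
        Groth.Agent.S9907.result p' a' snd fst sq.flip hs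
      obtain ⟨x', hx'⟩ := hs' x
      exact ⟨PUnit.unit, x', hx'⟩
  rw [hloc (fun _ : PUnit.{u + 1} => F_V) (fun _ => fst) hH (fun _ => hF) hcov (a ≫ b)
    (AlgSp.IsAlgSpace.yon_obj U)]
  intro _
  -- `fst ≫ a ≫ b = snd ≫ h_v`
  obtain ⟨v, hv⟩ := (AlgSp.yon S).map_surjective (p ≫ b)
  have hPv : P v.left := by
    refine hb p (𝟙 _) v hpe (AlgSp.repWith_id _ U) ?_
    rw [Category.comp_id, hv]
  have e1 : fst ≫ a ≫ b = snd ≫ (AlgSp.yon S).map v := by
    rw [← Category.assoc, sq.w, Category.assoc, hv]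
  rw [e1]
  intro W V' α' β' h hα' hβ' hcomm
  obtain ⟨h₁, hh₁⟩ := (AlgSp.yon S).map_surjective (α' ≫ snd)
  obtain ⟨β₀, hβ₀⟩ := (AlgSp.yon S).map_surjective β'
  have hPh₁ : P h₁.left := by
    refine hsnd α' (𝟙 _) h₁ hα' (AlgSp.repWith_id _ V) ?_
    rw [Category.comp_id, hh₁]
  have hβ₀et : Etale β₀.left := by
    rw [← hβ₀] at hβ'
    exact (AlgSp.repWith_yon_map_iff _ _).1 hβ'
  have e2 : h₁ ≫ v = h ≫ β₀ := by
    apply (AlgSp.yon S).map_injective
    rw [Functor.map_comp, Functor.map_comp, hh₁, hβ₀, Category.assoc, hcomm]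
  have e3 : h₁.left ≫ v.left = h.left ≫ β₀.left := by
    rw [← Over.comp_left, ← Over.comp_left, e2]
  apply hcancel h.left β₀.left hβ₀et
  rw [← e3]
  exact MorphismProperty.comp_mem _ _ _ hPh₁ hPv

theorem compCond_locP_unramified :
    CompCond (AlgSp.LocP (S := S) (@LocallyOfFiniteType ⊓ @FormallyUnramified)) := by
  refine compCond_locP _ (fun X Y Z h β _ hh => ?_) (Groth.Agent.S10556.result S)
  have h1 : LocallyOfFiniteType (h ≫ β) := hh.1
  have h2 : FormallyUnramified (h ≫ β) := hh.2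
  exact ⟨locallyOfFiniteType_of_comp h β, FormallyUnramified.of_comp h β⟩

theorem compCond_locP_lqf :
    CompCond (AlgSp.LocP (S := S) (@LocallyQuasiFinite ⊓ @LocallyOfFiniteType)) := by
  refine compCond_locP _ (fun X Y Z h β _ hh => ?_) (Groth.Agent.S10555.result S)
  have h1 : LocallyQuasiFinite (h ≫ β) := hh.1
  have h2 : LocallyOfFiniteType (h ≫ β) := hh.2
  exact ⟨LocallyQuasiFinite.of_comp h β, locallyOfFiniteType_of_comp h β⟩

variable {𝒳 𝒴 𝒵 : AlgSt.Cat S}

theorem isDMMor_comp (h𝒳 : FibCat.IsFibGrpd 𝒳.p) (h𝒴 : FibCat.IsFibGrpd 𝒴.p)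
    (f : 𝒳 ⥤ᵇ 𝒴) (g : 𝒴 ⥤ᵇ 𝒵) (hf : AlgSt.IsDMMor f) (hg : AlgSt.IsDMMor g) :
    AlgSt.IsDMMor (BasedFunctor.comp f g) :=
  repByAlgSpWith_diag_comp_of_compCond h𝒳 h𝒴 _ compCond_locP_unramified f g hf hg

theorem isQuasiDMMor_comp (h𝒳 : FibCat.IsFibGrpd 𝒳.p) (h𝒴 : FibCat.IsFibGrpd 𝒴.p)
    (f : 𝒳 ⥤ᵇ 𝒴) (g : 𝒴 ⥤ᵇ 𝒵) (hf : AlgSt.IsQuasiDMMor f) (hg : AlgSt.IsQuasiDMMor g) :
    AlgSt.IsQuasiDMMor (BasedFunctor.comp f g) :=
  repByAlgSpWith_diag_comp_of_compCond h𝒳 h𝒴 _ compCond_locP_lqf f g hf hg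

end Groth.Agent.Lib.Helper15DiagComp
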