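-- helper15: functors of presheaf maps and representability by algebraic spaces.
import Mathlib
import Groth.Agent.Lib.Helper15RepComp
import Groth.Agent.S9874

set_option autoImplicit false
set_option backward.isDefEq.respectTransparency false
set_option backward.isDefEq.respectTransparency.types false
open CategoryTheory CategoryTheory.Functor CategoryTheory.Limits Opposite AlgebraicGeometry

universe u

namespace Groth.Agent.Lib.Helper15RepPsh

open Groth.Agent.Lib.Helper17 Groth.Agent.Lib.Helper15PshFib Groth.Agent.Lib.Helper15RepComp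

section A

variable {S : Scheme.{u}} {F G : AlgSp.PSp S} (a : F ⟶ G)

theorem ofPshMap_faithful : (Stk.ofPshMap a).toFunctor.Faithful := by
  refine ⟨fun {c c'} m m' h => ?_⟩
  apply Stk.EltObj.hom_ext
  exact congrArg (fun t => t.hom) h

/-- Every functor from a slice to the category of a presheaf is the functor of a section. -/
def isoOfSection {U : Over S} (y : FibCat.overCat U ⥤ᵇ Stk.ofPsh G) :
    y ≅ pshOfSection (pshSec y (Over.mk (𝟙 U))) :=
  pshIsoOfSecEq (fun b => by
    rw [pshSec_ofSection]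
    let m : b ⟶ Over.mk (𝟙 U) := Over.homMk b.hom (by simp)
    exact (pshSec_map y m).symm)

/-- The 2-fibre product of a slice with the functor of a map of presheaves is the category of a
presheaf, which is the fibre product of presheaves. -/
theorem exists_pullback_fp {U : Over S} (y : FibCat.overCat U ⥤ᵇ Stk.ofPsh G) :
    ∃ (P' : AlgSp.PSp S) (E : Stk.ofPsh P' ⥤ᵇ FibCat.fp y (Stk.ofPshMap a)) (fst : P' ⟶ F),
      FibCat.IsEquivOver E ∧
        IsPullback fst (ovMapOf (BasedFunctor.comp E (FibCat.fpFst y (Stk.ofPshMap a)))) a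
          (uliftYonedaEquiv.symm (pshSec y (Over.mk (𝟙 U)))) := by
  let x : G.obj (op U) := pshSec y (Over.mk (𝟙 U))
  have hfaith := ofPshMap_faithful a
  have hset : FibCat.IsFibSetoid (PB a x).p :=
    isFibSetoid_fp_left (pshOfSection x) (Stk.ofPshMap a) ⟨(isFibSet_overForget U).1, fun V a b => ((isFibSet_overForget U).2 V).subsingleton a b⟩
      (isFibSetoid_ofPsh F).1 (isFibSetoid_ofPsh G).1
  obtain ⟨P', E₀, hE₀⟩ := exists_psh_equivOver (PB a x) hset
  have sq := isPullback_of_isEquivOver a x E₀ hE₀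
  have := IsEquivOver.isEquivalence (BasedFunctor.id (Stk.ofPsh G)) (isEquivOver_id _)
  let M : PB a x ⥤ᵇ FibCat.fp y (Stk.ofPshMap a) :=
    fpMap y (Stk.ofPshMap a) (pshOfSection x) (Stk.ofPshMap a) (BasedFunctor.id _)
      (BasedFunctor.id _) (BasedFunctor.id _) (isoOfSection y).symm (Iso.refl _)
  have hM : FibCat.IsEquivOver M :=
    isEquivOver_fpMap y (Stk.ofPshMap a) (pshOfSection x) (Stk.ofPshMap a) (BasedFunctor.id _)
      (BasedFunctor.id _) (BasedFunctor.id _) (isoOfSection y).symm (Iso.refl _)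
      (isEquivOver_id _) (isEquivOver_id _)
  exact ⟨P', BasedFunctor.comp E₀ M, _, IsEquivOver.comp E₀ M hE₀ hM, sq⟩

end A

section B

variable {S : Scheme.{u}}

theorem repByAlgSp1_ofPshMap_iff {F G : AlgSp.PSp S} (a : F ⟶ G) :
    AlgSp.RepBySp a ↔ AlgSt.RepByAlgSp1 (Stk.ofPshMap a) := by
  constructor
  · intro h U y
    obtain ⟨P', E, fst, hE, sq⟩ := exists_pullback_fp a y
    obtain ⟨hs, hA⟩ := h _ fst _ sq
    exact ⟨⟨⟨P', hs⟩, hA⟩, E, hE⟩
  · intro h U ξ F' fst snd sq
    obtain ⟨H, e, he⟩ := h U (pshOfSection (uliftYonedaEquiv ξ))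
    have sq' := isPullback_of_isEquivOver a (uliftYonedaEquiv ξ) e he
    rw [Equiv.symm_apply_apply] at sq'
    exact ((AlgSp.isAlgSpaceP_obj_iff H.obj).2 H.property).of_iso (sq'.isoIsPullback _ _ sq)

/-- A map between algebraic spaces is representable by algebraic spaces. -/
theorem repBySp_of_spaces (F G : AlgSp.Space S) (a : F.obj ⟶ G.obj) :
    AlgSp.RepBySp a.hom := by
  rw [AlgSp.repBySp_hom_iff]
  intro U ξ F' fst snd sq
  exact Groth.Agent.S9874.result S G.obj G.property.diag F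
    ⟨(AlgSp.yon S).obj U, AlgSp.IsAlgSpace.yon_obj U⟩ a ξ F' fst snd sq

/-- Functors between categories representable by algebraic spaces are representable by algebraic
spaces. -/
theorem repByAlgSp1_of_repByAlgSp {𝒳 𝒴 : AlgSt.Cat S}
    (hX : AlgSt.RepByAlgSp 𝒳) (hY : AlgSt.RepByAlgSp 𝒴) (f : 𝒳 ⥤ᵇ 𝒴) :
    AlgSt.RepByAlgSp1 f := by
  obtain ⟨F, eX, heX⟩ := hX
  obtain ⟨G, eY, heY⟩ := hY
  obtain ⟨eY', heY', -, ⟨β⟩⟩ := IsEquivOver.exists_inverse_isEquivOver' eY heY
  let f' : AlgSt.ofSp F.obj ⥤ᵇ AlgSt.ofSp G.obj := BasedFunctor.comp eX (BasedFunctor.comp f eY')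
  let a : F.obj ⟶ G.obj := ObjectProperty.homMk (pshMapOf f')
  have hrep : AlgSp.RepBySp a.hom := repBySp_of_spaces F G a
  have h1 : AlgSt.RepByAlgSp1 (Stk.ofPshMap (pshMapOf f')) :=
    (repByAlgSp1_ofPshMap_iff (pshMapOf f')).1 hrep
  have h2 : AlgSt.RepByAlgSp1 f' :=
    (repByAlgSp1_of_square f' (Stk.ofPshMap (pshMapOf f')) (BasedFunctor.id _) (BasedFunctor.id _)
      (isEquivOver_id _) (isEquivOver_id _) (ofPshMapIso f')).2 h1
  exact (repByAlgSp1_of_square f f' eX eY heX heY
    (whiskerLeftIso (BasedFunctor.comp eX f) β)).2 h2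

end B

end Groth.Agent.Lib.Helper15RepPsh
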