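-- helper17: representability of the diagonal versus representability of maps from slices.
import Groth.Agent.Lib.Helper17MagicSq

set_option autoImplicit false
open CategoryTheory CategoryTheory.Functor

universe v u

namespace Groth.Agent.Lib.Helper17

section DiagRepForward

variable {C : Type u} [Category.{v} C] [Limits.HasBinaryProducts C]
  {𝒮 : BasedCategory.{v, max u v} C}

theorem isRepresentable1_of_isRepresentable1_diag
    (hΔ : FibCat.IsRepresentable1 (FibCat.diag (FibCat.toSelf 𝒮))) (U : C)
    (G : FibCat.overCat U ⥤ᵇ 𝒮) : FibCat.IsRepresentable1 G := by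
  intro V G'
  have h1 := hΔ (V ⨯ U) (BasedFunctor.comp (toProdSlice V U) (prodFun G' G))
  have i1 : (BasedFunctor.id (FibCat.fp (FibCat.toSelf 𝒮) (FibCat.toSelf 𝒮))).toFunctor.Full :=
    inferInstanceAs (𝟭 _).Full
  have i2 : (BasedFunctor.id (FibCat.fp (FibCat.toSelf 𝒮) (FibCat.toSelf 𝒮))).toFunctor.Faithful :=
    inferInstanceAs (𝟭 _).Faithful
  have h2 := isEquivOver_fpMap (prodFun G' G) (FibCat.diag (FibCat.toSelf 𝒮))
    (BasedFunctor.comp (toProdSlice V U) (prodFun G' G)) (FibCat.diag (FibCat.toSelf 𝒮))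
    (toProdSlice V U) (BasedFunctor.id 𝒮) (BasedFunctor.id _) (Iso.refl _) (Iso.refl _)
    (isEquivOver_toProdSlice V U) (isEquivOver_id _)
  have h3 := isRepresentable_of_isEquivOver' _ h2 h1
  exact isRepresentable_of_isEquivOver _ (isEquivOver_magic G' G) h3

end DiagRepForward

end Groth.Agent.Lib.Helper17
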