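-- helper15: representability of diagonals by algebraic spaces.
import Mathlib
import Groth.Agent.Lib.Helper15RepPsh
import Groth.Agent.Lib.Helper15DiagBase
import Groth.Agent.Lib.Helper17DiagRep

set_option autoImplicit false
set_option backward.isDefEq.respectTransparency false
set_option backward.isDefEq.respectTransparency.types false
open CategoryTheory CategoryTheory.Functor CategoryTheory.Limits Opposite AlgebraicGeometry

universe u

namespace Groth.Agent.Lib.Helper15DiagRepSp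

open Groth.Agent.Lib.Helper17 Groth.Agent.Lib.Helper15PshFib Groth.Agent.Lib.Helper15RepComp
  Groth.Agent.Lib.Helper15RepPsh

section Fwd

variable {S : Scheme.{u}} {𝒮 : AlgSt.Cat S}

/-- If the diagonal of `𝒮` is representable by algebraic spaces, so is every functor from a slice. -/
theorem repByAlgSp1_of_repByAlgSp1_diag
    (hΔ : AlgSt.RepByAlgSp1 (FibCat.diag (FibCat.toSelf 𝒮))) (U : Over S)
    (G : FibCat.overCat U ⥤ᵇ 𝒮) : AlgSt.RepByAlgSp1 G := by
  intro V G'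
  have h1 := hΔ (V ⨯ U) (BasedFunctor.comp (toProdSlice V U) (prodFun G' G))
  have i1 : (BasedFunctor.id (FibCat.fp (FibCat.toSelf 𝒮) (FibCat.toSelf 𝒮))).toFunctor.Full :=
    inferInstanceAs (𝟭 _).Full
  have i2 : (BasedFunctor.id (FibCat.fp (FibCat.toSelf 𝒮) (FibCat.toSelf 𝒮))).toFunctor.Faithful :=
    inferInstanceAs (𝟭 _).Faithful
  have h2 := isEquivOver_fpMap (prodFun G' G) (FibCat.diag (FibCat.toSelf 𝒮))
    (BasedFunctor.comp (toProdSlice V U) (prodFun G' G)) (FibCat.diag (FibCat.toSelf 𝒮))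
    (toProdSlice V U) (BasedFunctor.id 𝒮) (BasedFunctor.id _) (Iso.refl _) (Iso.refl _)
    (isEquivOver_toProdSlice V U) (isEquivOver_id _)
  have h3 := repByAlgSp_of_isEquivOver _ h2 h1
  exact repByAlgSp_of_isEquivOver' _ (isEquivOver_magic G' G) h3

end Fwd

section Slices

variable {S : Scheme.{u}}

theorem isEquivOver_toOverCat (U : Over S) : FibCat.IsEquivOver (AlgSt.toOverCat U) :=
  ⟨AlgSt.ofOverCat U, ⟨Iso.refl _⟩, ⟨Iso.refl _⟩⟩

theorem isEquivOver_ofOverCat (U : Over S) : FibCat.IsEquivOver (AlgSt.ofOverCat U) :=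
  ⟨AlgSt.toOverCat U, ⟨Iso.refl _⟩, ⟨Iso.refl _⟩⟩

theorem repByAlgSp_overCat (U : Over S) : AlgSt.RepByAlgSp (FibCat.overCat U) :=
  ⟨⟨(AlgSp.yon S).obj U, AlgSp.IsAlgSpace.yon_obj U⟩, AlgSt.toOverCat U, isEquivOver_toOverCat U⟩

/-- Fibre products of slices over the base are representable. -/
theorem repByAlgSp_fp_selfOver (V U : Over S) (y₁ : FibCat.overCat V ⥤ᵇ FibCat.selfOver (Over S))
    (y₂ : FibCat.overCat U ⥤ᵇ FibCat.selfOver (Over S)) : AlgSt.RepByAlgSp (FibCat.fp y₁ y₂) := by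
  have := IsEquivOver.isEquivalence (BasedFunctor.id (FibCat.selfOver (Over S))) (isEquivOver_id _)
  have hM := isEquivOver_fpMap y₁ y₂ (FibCat.toSelf (FibCat.overCat V))
    (FibCat.toSelf (FibCat.overCat U)) (BasedFunctor.id _) (BasedFunctor.id _) (BasedFunctor.id _)
    (selfOverIso _ _) (selfOverIso _ _) (isEquivOver_id _) (isEquivOver_id _)
  have h1 := repByAlgSp_of_isEquivOver _ (isEquivOver_toProdSlice V U) (repByAlgSp_overCat (V ⨯ U))
  exact repByAlgSp_of_isEquivOver _ hM h1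

end Slices

section DiagRep

variable {S : Scheme.{u}} {𝒳 𝒴 : AlgSt.Cat S}

theorem aux_id_comm {D : Type*} [Category D] {X Y : D} (i : X ⟶ X) (j : Y ⟶ Y) (hi : i = 𝟙 X)
    (hj : j = 𝟙 Y) (A : X ⟶ Y) : i ≫ A = A ≫ j := by
  rw [hi, hj, Category.id_comp, Category.comp_id]

/-- The diagonal of a functor is representable by algebraic spaces as soon as the fibre products of
slices over source and target are. -/
theorem repByAlgSp1_diag (f : 𝒳 ⥤ᵇ 𝒴)
    (hX : ∀ (U : Over S) (x₁ x₂ : FibCat.overCat U ⥤ᵇ 𝒳), AlgSt.RepByAlgSp (FibCat.fp x₁ x₂))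
    (hY : ∀ (U : Over S) (y₁ y₂ : FibCat.overCat U ⥤ᵇ 𝒴), AlgSt.RepByAlgSp (FibCat.fp y₁ y₂)) :
    AlgSt.RepByAlgSp1 (FibCat.diag f) := by
  intro T w
  let x₁ : FibCat.overCat T ⥤ᵇ 𝒳 := BasedFunctor.comp w (FibCat.fpFst f f)
  let x₂ : FibCat.overCat T ⥤ᵇ 𝒳 := BasedFunctor.comp w (FibCat.fpSnd f f)
  let α : BasedFunctor.comp (BasedFunctor.id (FibCat.overCat T)) (BasedFunctor.comp x₁ f) ≅
      BasedFunctor.comp (BasedFunctor.id (FibCat.overCat T)) (BasedFunctor.comp x₂ f) :=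
    whiskerLeftIso w (FibCat.fpIso f f)
  let σ : FibCat.overCat T ⥤ᵇ FibCat.fp (BasedFunctor.comp x₁ f) (BasedFunctor.comp x₂ f) :=
    FibCat.fpLift (BasedFunctor.id _) (BasedFunctor.id _) α
  let ι : BasedFunctor.comp σ (relProd x₁ x₂ f) ≅ w :=
    fpIsoMk f f (H := BasedFunctor.comp σ (relProd x₁ x₂ f)) (K := w) (Iso.refl _) (Iso.refl _)
      (fun a => aux_id_comm _ _ (f.toFunctor.map_id _) (f.toFunctor.map_id _) _)
  have hrel : AlgSt.RepByAlgSp1 (toRel x₁ x₂ f) :=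
    repByAlgSp1_of_repByAlgSp (hX T x₁ x₂) (hY T _ _) _
  have hfst : AlgSt.RepByAlgSp1 (FibCat.fpFst (relProd x₁ x₂ f) (FibCat.diag f)) :=
    (repByAlgSp1_of_square (FibCat.fpFst (relProd x₁ x₂ f) (FibCat.diag f)) (toRel x₁ x₂ f)
      (magicRel x₁ x₂ f) (BasedFunctor.id _) (isEquivOver_magicRel x₁ x₂ f) (isEquivOver_id _)
      (Iso.refl _)).2 hrel
  have h1 : AlgSt.RepByAlgSp (FibCat.fp σ (FibCat.fpFst (relProd x₁ x₂ f) (FibCat.diag f))) :=
    hfst T σ
  have h2 := repByAlgSp_of_isEquivOver _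
    (isEquivOver_pasteL (FibCat.diag f) (relProd x₁ x₂ f) σ) h1
  have := IsEquivOver.isEquivalence (BasedFunctor.id (FibCat.fp f f)) (isEquivOver_id _)
  have hM := isEquivOver_fpMap w (FibCat.diag f) (BasedFunctor.comp σ (relProd x₁ x₂ f))
    (FibCat.diag f) (BasedFunctor.id _) (BasedFunctor.id _) (BasedFunctor.id _) ι (Iso.refl _)
    (isEquivOver_id _) (isEquivOver_id _)
  exact repByAlgSp_of_isEquivOver _ hM h2

/-- The diagonal of `𝒳` over the base is representable by algebraic spaces if and only if every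
functor from a slice is. -/
theorem repByAlgSp1_diag_toSelf_iff {𝒳 : AlgSt.Cat S} :
    AlgSt.RepByAlgSp1 (FibCat.diag (FibCat.toSelf 𝒳)) ↔
      ∀ (U : Over S) (x : FibCat.overCat U ⥤ᵇ 𝒳), AlgSt.RepByAlgSp1 x :=
  ⟨fun hΔ U x => repByAlgSp1_of_repByAlgSp1_diag hΔ U x,
    fun hall => repByAlgSp1_diag (FibCat.toSelf 𝒳) (fun U x₁ x₂ => hall U x₂ U x₁)
      (fun U y₁ y₂ => repByAlgSp_fp_selfOver U U y₁ y₂)⟩

/-- The diagonal of a functor between categories with diagonals representable by algebraic spaces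
is representable by algebraic spaces. -/
theorem repByAlgSp1_diag_of_diag {𝒳 𝒴 : AlgSt.Cat S} (f : 𝒳 ⥤ᵇ 𝒴)
    (hX : AlgSt.RepByAlgSp1 (FibCat.diag (FibCat.toSelf 𝒳)))
    (hY : AlgSt.RepByAlgSp1 (FibCat.diag (FibCat.toSelf 𝒴))) :
    AlgSt.RepByAlgSp1 (FibCat.diag f) :=
  repByAlgSp1_diag f (fun U x₁ x₂ => repByAlgSp1_of_repByAlgSp1_diag hX U x₂ U x₁)
    (fun U y₁ y₂ => repByAlgSp1_of_repByAlgSp1_diag hY U y₂ U y₁)

end DiagRep

end Groth.Agent.Lib.Helper15DiagRepSp
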