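-- helper15: fppf descent of properties of functors representable by algebraic spaces.
import Mathlib
import Groth.Agent.Lib.Helper15BaseChange
import Groth.Agent.S9906
import Groth.Prelude.Def_AlgSpCov

set_option autoImplicit false
set_option backward.isDefEq.respectTransparency false
set_option backward.isDefEq.respectTransparency.types false
open CategoryTheory CategoryTheory.Functor CategoryTheory.Limits Opposite AlgebraicGeometry

universe u

namespace Groth.Agent.Lib.Helper15Descent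

open Groth.Agent.Lib.Helper17 Groth.Agent.Lib.Helper15PshFib Groth.Agent.Lib.Helper15RepComp
  Groth.Agent.Lib.Helper15RepPsh Groth.Agent.Lib.Helper15DiagRepSp
  Groth.Agent.Lib.Helper15BaseChange

section M

variable {S : Scheme.{u}} {𝒳 𝒴 : AlgSt.Cat S}

/-- An isomorphism of functors into a slice from an isomorphism after the identification of the
slice with the category of `h_U`. -/
def isoOfOverCat {𝒜 : AlgSt.Cat S} {U : Over S} {Φ Ψ : 𝒜 ⥤ᵇ FibCat.overCat U}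
    (h : ∀ c, ovSec Φ c = ovSec Ψ c) : Φ ≅ Ψ :=
  whiskerRightIso (pshIsoOfSecEq (H := BasedFunctor.comp Φ (AlgSt.ofOverCat U))
    (H' := BasedFunctor.comp Ψ (AlgSt.ofOverCat U)) (fun c => by
      rw [pshSec_comp_ofOverCat, pshSec_comp_ofOverCat, h c])) (AlgSt.toOverCat U)

theorem ovSec_overMap {U V : Over S} (v : V ⟶ U) (c : Over V) :
    ovSec (AlgSt.overMap v) c = c.hom ≫ v := by
  unfold ovSec
  change eqToHom _ ≫ (c.hom ≫ v) = c.hom ≫ v
  simp

theorem ovSec_id {U : Over S} (c : Over U) :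
    ovSec (BasedFunctor.id (FibCat.overCat U)) c = c.hom := by
  unfold ovSec
  change eqToHom _ ≫ c.hom = c.hom
  simp

def overMapIdIso (U : Over S) : BasedFunctor.id (FibCat.overCat U) ≅ AlgSt.overMap (𝟙 U) :=
  isoOfOverCat (fun c => by rw [ovSec_overMap, ovSec_id, Category.comp_id])

/-- Two sheaves representing the same fibre product are isomorphic over the base scheme. -/
theorem exists_iso_of_two_reps (f : 𝒳 ⥤ᵇ 𝒴) {U : Over S} (y : FibCat.overCat U ⥤ᵇ 𝒴)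
    (F₁ : AlgSp.Sp S) (e₁ : AlgSt.ofSp F₁ ⥤ᵇ FibCat.fp y f) (he₁ : FibCat.IsEquivOver e₁)
    (F₂ : AlgSp.Sp S) (e₂ : AlgSt.ofSp F₂ ⥤ᵇ FibCat.fp y f) (he₂ : FibCat.IsEquivOver e₂) :
    ∃ i : F₂ ≅ F₁, i.hom ≫ AlgSt.spMapOfOver (BasedFunctor.comp e₁ (FibCat.fpFst y f)) =
      AlgSt.spMapOfOver (BasedFunctor.comp e₂ (FibCat.fpFst y f)) := by
  obtain ⟨q, sq⟩ := exists_isPullback_baseChange f y F₁ e₁ he₁ (𝟙 U) y
    (whiskerRightIso (overMapIdIso U) y) F₂ e₂ he₂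
  have h1 : IsIso ((AlgSp.yon S).map (𝟙 U)) := by
    rw [CategoryTheory.Functor.map_id]; infer_instance
  have h2 : IsIso q := sq.isIso_fst_of_isIso
  refine ⟨asIso q, ?_⟩
  have := sq.w
  rw [CategoryTheory.Functor.map_id, Category.comp_id] at this
  exact this

end M

section Cover

variable {S : Scheme.{u}}

theorem locP_precomp_etale (P : MorphismProperty Scheme.{u}) {F' G H : AlgSp.Sp S} (p : F' ⟶ G)
    (b : G ⟶ H) (hp : AlgSp.RepWith @Etale p) (hb : AlgSp.LocP P b) : AlgSp.LocP P (p ≫ b) := by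
  intro U' V' α β h hα hβ hcomm
  refine hb (α ≫ p) β h (MorphismProperty.comp_mem _ _ _ hα hp) hβ ?_
  rw [Category.assoc, hcomm]

theorem repWith_etale_of_isIso {F G : AlgSp.Sp S} (f : F ⟶ G) [IsIso f] :
    AlgSp.RepWith @Etale f := by
  apply MorphismProperty.relative.of_exists
  intro a g
  refine ⟨a, g ≫ inv f, 𝟙 a, ?_, ?_⟩
  · have : IsIso ((AlgSp.yon S).map (𝟙 a)) := by
      rw [CategoryTheory.Functor.map_id]; infer_instance
    exact IsPullback.of_vert_isIso ⟨by simp⟩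
  · exact (inferInstance : Etale (𝟙 a.left))

theorem locP_of_iso_comp (P : MorphismProperty Scheme.{u}) {F' G H : AlgSp.Sp S} (i : F' ≅ G)
    (b : G ⟶ H) (hb : AlgSp.LocP P (i.hom ≫ b)) : AlgSp.LocP P b := by
  have := locP_precomp_etale P i.inv (i.hom ≫ b) (repWith_etale_of_isIso i.inv) hb
  rwa [Iso.inv_hom_id_assoc] at this

theorem isSurjectiveMor_of_iso_comp {F' G H : AlgSp.Sp S} (i : F' ≅ G) (b : G ⟶ H)
    (hb : AlgSp.IsSurjectiveMor (i.hom ≫ b)) : AlgSp.IsSurjectiveMor b := by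
  intro x
  obtain ⟨x', hx'⟩ := hb x
  exact ⟨AlgSp.Points.map i.hom x', by rw [← AlgSp.Points.map_comp]; exact hx'⟩

end Cover

section CoverLemma

variable {S : Scheme.{u}} {𝒴 𝒵 : AlgSt.Cat S}

theorem pshSec_ofOverCat {V : Over S} (c : Over V) :
    pshSec (AlgSt.ofOverCat V) c = ⟨c.hom⟩ := by
  have := pshSec_comp_ofOverCat (BasedFunctor.id (FibCat.overCat V)) c
  rw [ovSec_id] at this
  exact this

theorem ovSec_eq_spMapOfOver {F : AlgSp.Sp S} {U : Over S} (Φ : AlgSt.ofSp F ⥤ᵇ FibCat.overCat U)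
    (T : Over S) (s : F.obj.obj (op T)) :
    ovSec Φ ⟨T, s⟩ = ((AlgSt.spMapOfOver Φ).hom.app (op T) s).down := rfl

theorem yon_map_app_down {U V : Over S} (v : V ⟶ U) {T : Over S} (g : T ⟶ V) :
    (((AlgSp.yon S).map v).hom.app (op T) ⟨g⟩).down = g ≫ v := rfl

/-- A flat, locally finitely presented, surjective functor representable by algebraic spaces can be
refined, over any scheme, by an fppf covering by a scheme. -/
theorem exists_scheme_cover (z : 𝒵 ⥤ᵇ 𝒴)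
    (hz₁ : AlgSt.RepByAlgSpWith (AlgSp.LocP @Flat) z)
    (hz₂ : AlgSt.RepByAlgSpWith (AlgSp.LocP @LocallyOfFinitePresentation) z)
    (hz₃ : AlgSt.RepByAlgSpWith AlgSp.IsSurjectiveMor z)
    {U : Over S} (y : FibCat.overCat U ⥤ᵇ 𝒴) :
    ∃ (V : Over S) (v : V ⟶ U) (t : FibCat.overCat V ⥤ᵇ 𝒵),
      Nonempty (BasedFunctor.comp t z ≅ BasedFunctor.comp (AlgSt.overMap v) y) ∧
      AlgSp.IsFppfCover (fun _ : PUnit.{u + 1} => (AlgSp.yon S).obj V)
        (fun _ => (AlgSp.yon S).map v) := by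
  obtain ⟨G, e_G, he_G, hflat⟩ := hz₁ U y
  obtain ⟨G₂, e₂, he₂, hlfp₂⟩ := hz₂ U y
  obtain ⟨G₃, e₃, he₃, hsurj₃⟩ := hz₃ U y
  let Ψ : AlgSt.ofSp G.obj ⥤ᵇ FibCat.overCat U := BasedFunctor.comp e_G (FibCat.fpFst y z)
  let b : G.obj ⟶ (AlgSp.yon S).obj U := AlgSt.spMapOfOver Ψ
  obtain ⟨i₂, hi₂⟩ := exists_iso_of_two_reps z y G.obj e_G he_G G₂.obj e₂ he₂
  obtain ⟨i₃, hi₃⟩ := exists_iso_of_two_reps z y G.obj e_G he_G G₃.obj e₃ he₃
  have hlfp : AlgSp.LocP @LocallyOfFinitePresentation b :=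
    locP_of_iso_comp _ i₂ b (by rw [hi₂]; exact hlfp₂)
  have hsurj : AlgSp.IsSurjectiveMor b :=
    isSurjectiveMor_of_iso_comp i₃ b (by rw [hi₃]; exact hsurj₃)
  obtain ⟨V, p, hpe, hps⟩ := G.property.atlas
  obtain ⟨v, hv⟩ := (AlgSp.yon S).map_surjective (p ≫ b)
  let A : FibCat.overCat V ⥤ᵇ AlgSt.ofSp G.obj :=
    BasedFunctor.comp (AlgSt.ofOverCat V) (AlgSt.ofSpMap p)
  let t : FibCat.overCat V ⥤ᵇ 𝒵 :=
    BasedFunctor.comp (BasedFunctor.comp A e_G) (FibCat.fpSnd y z)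
  let lam : BasedFunctor.comp A Ψ ≅ AlgSt.overMap v := isoOfOverCat (fun c => by
    rw [ovSec_pshSec, ovSec_overMap, ovSec_eq_spMapOfOver]
    have h1 : pshSec A c = p.hom.app _ (⟨c.hom⟩ : ((AlgSp.yon S).obj V).obj.obj (op c.left)) := by
      change pshSec (BasedFunctor.comp (AlgSt.ofOverCat V) (Stk.ofPshMap p.hom)) c = _
      rw [pshSec_comp_ofPshMap, pshSec_ofOverCat]
      rfl
    rw [h1]
    change ((p ≫ b).hom.app (op c.left) ⟨c.hom⟩).down = c.hom ≫ v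
    rw [← hv]
    rfl)
  let κ : BasedFunctor.comp t z ≅ BasedFunctor.comp (AlgSt.overMap v) y :=
    (whiskerLeftIso (BasedFunctor.comp A e_G) (FibCat.fpIso y z).symm : _ ≅
      BasedFunctor.comp (BasedFunctor.comp A Ψ) y) ≪≫ whiskerRightIso lam y
  refine ⟨V, v, t, ⟨κ⟩, ?_⟩
  rw [hv]
  refine ⟨fun _ => ⟨locP_precomp_etale _ p b hpe hflat, locP_precomp_etale _ p b hpe hlfp⟩,
    fun x => ?_⟩
  let X : AlgSp.Space S := ⟨(AlgSp.yon S).obj V, AlgSp.IsAlgSpace.yon_obj V⟩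
  let p' : X ⟶ G := ObjectProperty.homMk p
  have hrep : AlgSp.Representable p'.hom := G.property.representable_from_yon p
  have hs : AlgSp.IsSurjectiveMor p'.hom := (Groth.Agent.S9906.result p' hrep).1 hps
  obtain ⟨x₁, hx₁⟩ := hsurj x
  obtain ⟨x₂, hx₂⟩ := hs x₁
  exact ⟨PUnit.unit, x₂, by rw [AlgSp.Points.map_comp]; change AlgSp.Points.map b (AlgSp.Points.map p x₂) = x; rw [← hx₁]; exact congrArg _ hx₂⟩

end CoverLemma

section Descent

variable {S : Scheme.{u}} {𝒳 𝒴 𝒵 : AlgSt.Cat S}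

/-- Descent of a property local on the base along a flat, locally finitely presented, surjective
functor. -/
theorem repByAlgSpWith_of_fpFst_of_cover (P : MorphismProperty (AlgSp.Sp S))
    (hP : AlgSp.IsLocalOnBase AlgSp.IsFppfCover P)
    (f : 𝒳 ⥤ᵇ 𝒴) (hf : AlgSt.RepByAlgSp1 f) (z : 𝒵 ⥤ᵇ 𝒴)
    (hz₁ : AlgSt.RepByAlgSpWith (AlgSp.LocP @Flat) z)
    (hz₂ : AlgSt.RepByAlgSpWith (AlgSp.LocP @LocallyOfFinitePresentation) z)
    (hz₃ : AlgSt.RepByAlgSpWith AlgSp.IsSurjectiveMor z)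
    (h' : AlgSt.RepByAlgSpWith P (FibCat.fpFst z f)) : AlgSt.RepByAlgSpWith P f := by
  intro U y
  obtain ⟨F, e, he⟩ := hf U y
  refine ⟨F, e, he, ?_⟩
  obtain ⟨V, v, t, ⟨κ⟩, hcov⟩ := exists_scheme_cover z hz₁ hz₂ hz₃ y
  obtain ⟨F_t, e_t, he_t, hPt⟩ := h' V t
  let e' : AlgSt.ofSp F_t.obj ⥤ᵇ FibCat.fp (BasedFunctor.comp t z) f :=
    BasedFunctor.comp e_t (pasteL f z t)
  have he' : FibCat.IsEquivOver e' := IsEquivOver.comp _ _ he_t (isEquivOver_pasteL f z t)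
  obtain ⟨q, sq⟩ := exists_isPullback_baseChange f y F.obj e he v (BasedFunctor.comp t z) κ
    F_t.obj e' he'
  exact (hP (fun _ : PUnit.{u + 1} => (AlgSp.yon S).obj V) (fun _ => (AlgSp.yon S).map v)
    (AlgSp.IsAlgSpace.yon_obj U) (fun _ => AlgSp.IsAlgSpace.yon_obj V) hcov
    (AlgSt.spMapOfOver (BasedFunctor.comp e (FibCat.fpFst y f))) F.property (fun _ => F_t.obj)
    (fun _ => AlgSt.spMapOfOver (BasedFunctor.comp e' (FibCat.fpFst (BasedFunctor.comp t z) f)))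
    (fun _ => q) (fun _ => F_t.property) (fun _ => sq)).2 (fun _ => hPt)

end Descent

end Groth.Agent.Lib.Helper15Descent
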