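-- helper15: descent of properties of the diagonal along flat coverings.
import Mathlib
import Groth.Agent.Lib.Helper15Descent
import Groth.Agent.Lib.Helper15DiagBC
import Groth.Agent.Lib.Helper15DiagRepSp
import Groth.Agent.S10505

set_option autoImplicit false
set_option backward.isDefEq.respectTransparency false
set_option backward.isDefEq.respectTransparency.types false
open CategoryTheory CategoryTheory.Functor CategoryTheory.Limits Opposite AlgebraicGeometry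

universe u

namespace Groth.Agent.Lib.Helper15DiagDescent

open Groth.Agent.Lib.Helper17 Groth.Agent.Lib.Helper15PshFib Groth.Agent.Lib.Helper15RepComp
  Groth.Agent.Lib.Helper15RepPsh Groth.Agent.Lib.Helper15DiagBase Groth.Agent.Lib.Helper15DiagRepSp
  Groth.Agent.Lib.Helper15BaseChange Groth.Agent.Lib.Helper15Descent
  Groth.Agent.Lib.Helper15.DiagBC

section A

variable {S : Scheme.{u}} {𝒳 𝒴 𝒵 : AlgSt.Cat S}

/-- `z` admits liftings of scheme-valued points locally for fppf coverings by a scheme. -/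
def HasSchemeCovers (z : 𝒵 ⥤ᵇ 𝒴) : Prop :=
  ∀ (U : Over S) (y : FibCat.overCat U ⥤ᵇ 𝒴),
    ∃ (V : Over S) (v : V ⟶ U) (t : FibCat.overCat V ⥤ᵇ 𝒵),
      Nonempty (BasedFunctor.comp t z ≅ BasedFunctor.comp (AlgSt.overMap v) y) ∧
      AlgSp.IsFppfCover (fun _ : PUnit.{u + 1} => (AlgSp.yon S).obj V)
        (fun _ => (AlgSp.yon S).map v)

theorem hasSchemeCovers_of_cover (z : 𝒵 ⥤ᵇ 𝒴)
    (hz₁ : AlgSt.RepByAlgSpWith (AlgSp.LocP @Flat) z)
    (hz₂ : AlgSt.RepByAlgSpWith (AlgSp.LocP @LocallyOfFinitePresentation) z)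
    (hz₃ : AlgSt.RepByAlgSpWith AlgSp.IsSurjectiveMor z) : HasSchemeCovers z :=
  fun _ y => exists_scheme_cover z hz₁ hz₂ hz₃ y

theorem repByAlgSpWith_of_fpFst_of_hasSchemeCovers (P : MorphismProperty (AlgSp.Sp S))
    (hP : AlgSp.IsLocalOnBase AlgSp.IsFppfCover P)
    (f : 𝒳 ⥤ᵇ 𝒴) (hf : AlgSt.RepByAlgSp1 f) (z : 𝒵 ⥤ᵇ 𝒴) (hz : HasSchemeCovers z)
    (h' : AlgSt.RepByAlgSpWith P (FibCat.fpFst z f)) : AlgSt.RepByAlgSpWith P f := by
  intro U y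
  obtain ⟨F, e, he⟩ := hf U y
  refine ⟨F, e, he, ?_⟩
  obtain ⟨V, v, t, ⟨κ⟩, hcov⟩ := hz U y
  obtain ⟨F_t, e_t, he_t, hPt⟩ := h' V t
  let e' : AlgSt.ofSp F_t.obj ⥤ᵇ FibCat.fp (BasedFunctor.comp t z) f :=
    BasedFunctor.comp e_t (pasteL f z t)
  have he' : FibCat.IsEquivOver e' := IsEquivOver.comp _ _ he_t (isEquivOver_pasteL f z t)
  obtain ⟨q, sq⟩ := exists_isPullback_baseChange f y F.obj e he v (BasedFunctor.comp t z) κ
    F_t.obj e' he'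
  exact (hP (fun _ : PUnit.{u + 1} => (AlgSp.yon S).obj V) (fun _ => (AlgSp.yon S).map v)
    (AlgSp.IsAlgSpace.yon_obj U) (fun _ => AlgSp.IsAlgSpace.yon_obj V) hcov
    (AlgSt.spMapOfOver (BasedFunctor.comp e (FibCat.fpFst y f))) F.property (fun _ => F_t.obj)
    (fun _ => AlgSt.spMapOfOver (BasedFunctor.comp e' (FibCat.fpFst (BasedFunctor.comp t z) f)))
    (fun _ => q) (fun _ => F_t.property) (fun _ => sq)).2 (fun _ => hPt)

theorem aux_conj {D : Type*} [Category D] {A B C' : D} (k : A ≅ B) (i : B ⟶ C') (p : B ⟶ B)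
    (q : A ⟶ A) (r : C' ⟶ C') (hp : p = 𝟙 _) (hq : q = 𝟙 _) (hr : r = 𝟙 _) :
    p ≫ i = (k.inv ≫ q ≫ (k.hom ≫ i)) ≫ r := by
  subst hp hq hr
  simp

/-- The functor on double fibre products induced by a base change inherits local liftings. -/
theorem hasSchemeCovers_GG (f : 𝒳 ⥤ᵇ 𝒴) (w : 𝒵 ⥤ᵇ 𝒴) (hw : HasSchemeCovers w) :
    HasSchemeCovers (GG f w) := by
  intro U y
  obtain ⟨V, v, t₀, ⟨κ⟩, hcov⟩ := hw U (BasedFunctor.comp y (BasedFunctor.comp (FibCat.fpFst f f) f))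
  let yv : FibCat.overCat V ⥤ᵇ FibCat.fp f f := BasedFunctor.comp (AlgSt.overMap v) y
  let a₁ : FibCat.overCat V ⥤ᵇ 𝒳 := BasedFunctor.comp yv (FibCat.fpFst f f)
  let a₂ : FibCat.overCat V ⥤ᵇ 𝒳 := BasedFunctor.comp yv (FibCat.fpSnd f f)
  let κ₁ : BasedFunctor.comp t₀ w ≅ BasedFunctor.comp a₁ f := κ
  let κ₂ : BasedFunctor.comp t₀ w ≅ BasedFunctor.comp a₂ f :=
    κ₁ ≪≫ whiskerLeftIso yv (FibCat.fpIso f f)
  let x₁ : FibCat.overCat V ⥤ᵇ FibCat.fp w f := FibCat.fpLift t₀ a₁ κ₁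
  let x₂ : FibCat.overCat V ⥤ᵇ FibCat.fp w f := FibCat.fpLift t₀ a₂ κ₂
  let t : FibCat.overCat V ⥤ᵇ FibCat.fp (f' f w) (f' f w) :=
    FibCat.fpLift x₁ x₂ (Iso.refl _)
  refine ⟨V, v, t, ⟨?_⟩, hcov⟩
  exact fpIsoMk f f (H := BasedFunctor.comp t (GG f w)) (K := yv) (Iso.refl _) (Iso.refl _)
    (fun a => by
      change f.map (𝟙 _) ≫ (yv.obj a).obj.iso.hom =
        ((bApp κ₁ a).inv ≫ w.map (𝟙 _) ≫ (bApp κ₂ a).hom) ≫ f.map (𝟙 _)
      exact aux_conj (bApp κ₁ a) (yv.obj a).obj.iso.hom _ _ _ (f.toFunctor.map_id _)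
        (w.toFunctor.map_id _) (f.toFunctor.map_id _))

/-- Descent of a property of the diagonal along a base change admitting local liftings. -/
theorem repByAlgSpWith_diag_of_fpFst (Q : MorphismProperty (AlgSp.Sp S))
    (hQ : AlgSp.IsLocalOnBase AlgSp.IsFppfCover Q)
    (hX : AlgSt.RepByAlgSp1 (FibCat.diag (FibCat.toSelf 𝒳)))
    (hY : AlgSt.RepByAlgSp1 (FibCat.diag (FibCat.toSelf 𝒴)))
    (f : 𝒳 ⥤ᵇ 𝒴) (w : 𝒵 ⥤ᵇ 𝒴) (hw : HasSchemeCovers w)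
    (h : AlgSt.RepByAlgSpWith Q (FibCat.diag (FibCat.fpFst w f))) :
    AlgSt.RepByAlgSpWith Q (FibCat.diag f) := by
  have h1 : AlgSt.RepByAlgSpWith Q (FibCat.fpFst (GG f w) (FibCat.diag f)) :=
    (repByAlgSpWith_of_square Q (FibCat.fpFst (GG f w) (FibCat.diag f))
      (FibCat.diag (f' f w)) (EE f w) (BasedFunctor.id _) (isEquivOver_EE f w)
      (isEquivOver_id _) (Iso.refl _)).mpr h
  exact repByAlgSpWith_of_fpFst_of_hasSchemeCovers Q hQ (FibCat.diag f)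
    (repByAlgSp1_diag_of_diag f hX hY) (GG f w) (hasSchemeCovers_GG f w hw) h1

end A

section Loc

variable {S : Scheme.{u}}

theorem isLocalOnBase_fppf_of_fpqc (Q : MorphismProperty (AlgSp.Sp S))
    (h : AlgSp.IsLocalOnBase AlgSp.IsFpqcCover Q) : AlgSp.IsLocalOnBase AlgSp.IsFppfCover Q := by
  intro ι Y Yi g hY hYi hcov X f hX Xi p q hXi sq
  exact h Yi g hY hYi (Groth.Agent.S10505.result ⟨Y, hY⟩ (fun i => ⟨Yi i, hYi i⟩)
    (fun i => ObjectProperty.homMk (g i)) hcov) f hX Xi p q hXi sq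

theorem isLocalOnBase_inf (τ : AlgSp.CovNotion S) (P Q : MorphismProperty (AlgSp.Sp S))
    (hP : AlgSp.IsLocalOnBase τ P) (hQ : AlgSp.IsLocalOnBase τ Q) :
    AlgSp.IsLocalOnBase τ (P ⊓ Q) := by
  intro ι Y Yi g hY hYi hcov X f hX Xi p q hXi sq
  have h1 := hP Yi g hY hYi hcov f hX Xi p q hXi sq
  have h2 := hQ Yi g hY hYi hcov f hX Xi p q hXi sq
  constructor
  · intro h i
    exact ⟨h1.1 h.1 i, h2.1 h.2 i⟩
  · intro h
    exact ⟨h1.2 (fun i => (h i).1), h2.2 (fun i => (h i).2)⟩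

end Loc

end Groth.Agent.Lib.Helper15DiagDescent
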