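-- helper17: the diagonal of a functor over the base.
import Groth.Agent.Lib.Helper17FibFp2
import Groth.Agent.Lib.Helper17FibFF

set_option autoImplicit false
open CategoryTheory CategoryTheory.Functor

universe v₁ u₁ v₂ u₂ v₃ u₃ v₄ u₄

namespace Groth.Agent.Lib.Helper17

section Diag

variable {C : Type u₁} [Category.{v₁} C] {𝒳 : BasedCategory.{v₂, u₂} C}
  {𝒴 : BasedCategory.{v₃, u₃} C} (G : 𝒳 ⥤ᵇ 𝒴)

@[simp] theorem diag_obj_fst (w : 𝒳.obj) : ((FibCat.diag G).obj w).obj.fst = w := rfl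
@[simp] theorem diag_obj_snd (w : 𝒳.obj) : ((FibCat.diag G).obj w).obj.snd = w := rfl
@[simp] theorem diag_obj_iso_hom (w : 𝒳.obj) :
    ((FibCat.diag G).obj w).obj.iso.hom = 𝟙 (G.obj w) := rfl
@[simp] theorem diag_obj_iso_inv (w : 𝒳.obj) :
    ((FibCat.diag G).obj w).obj.iso.inv = 𝟙 (G.obj w) := rfl
@[simp] theorem diag_map_hom_fst {w w' : 𝒳.obj} (g : w ⟶ w') :
    ((FibCat.diag G).map g).hom.fst = g := rfl
@[simp] theorem diag_map_hom_snd {w w' : 𝒳.obj} (g : w ⟶ w') :
    ((FibCat.diag G).map g).hom.snd = g := rfl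

/-- The diagonal is always faithful. -/
theorem diag_faithful : (FibCat.diag G).toFunctor.Faithful :=
  ⟨fun {a b} f g h => by
    have := congrArg (fun k => k.hom.fst) h
    exact this⟩

/-- The diagonal of a faithful functor is full. -/
theorem diag_full [G.toFunctor.Faithful] : (FibCat.diag G).toFunctor.Full :=
  ⟨fun {a b} k => by
    have hw := k.hom.w
    have e : k.hom.fst = k.hom.snd := by
      apply G.toFunctor.map_injective
      have h1 : G.map k.hom.fst ≫ 𝟙 _ = 𝟙 _ ≫ G.map k.hom.snd := hw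
      simpa using h1
    refine ⟨k.hom.fst, ?_⟩
    apply ObjectProperty.hom_ext
    apply Limits.CategoricalPullback.hom_ext
    · rfl
    · exact e⟩

/-- The diagonal of a fully faithful functor over `C` is an equivalence over `C`. -/
theorem isEquivOver_diag_of_fullyFaithful [G.toFunctor.Full] [G.toFunctor.Faithful] :
    FibCat.IsEquivOver (FibCat.diag G) := by
  have := diag_faithful G
  have := diag_full G
  apply isEquivOver_of_fullyFaithful_of_essSurjOver
  intro η
  obtain ⟨u, hu⟩ := G.toFunctor.map_surjective η.obj.iso.hom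
  have h1 : IsIso (G.toFunctor.map u) := by rw [hu]; infer_instance
  have h2 : IsIso u := isIso_of_fully_faithful G.toFunctor u
  have w : G.toFunctor.map (Iso.refl η.obj.fst).hom ≫ η.obj.iso.hom =
      ((FibCat.diag G).obj η.obj.fst).obj.iso.hom ≫ G.toFunctor.map (asIso u).hom := by
    change G.toFunctor.map (𝟙 _) ≫ η.obj.iso.hom = 𝟙 _ ≫ G.toFunctor.map u
    rw [hu]; simp
  refine ⟨η.obj.fst, ObjectProperty.isoMk _
    (Limits.CategoricalPullback.mkIso (Iso.refl _) (asIso u : η.obj.fst ≅ η.obj.snd) w), ?_⟩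
  rw [fp_isHomLift_iff]
  change 𝒳.p.IsHomLift (𝟙 (𝒳.p.obj η.obj.fst)) (𝟙 η.obj.fst)
  infer_instance

/-- If the diagonal is full, the functor is faithful. -/
theorem faithful_of_diag_full [(FibCat.diag G).toFunctor.Full] : G.toFunctor.Faithful :=
  ⟨fun {a b} f g h => by
    let k : (FibCat.diag G).obj a ⟶ (FibCat.diag G).obj b :=
      ObjectProperty.homMk ⟨f, g, by
        change G.map f ≫ 𝟙 _ = 𝟙 _ ≫ G.map g
        simpa using h⟩
    obtain ⟨c, hc⟩ := (FibCat.diag G).toFunctor.map_surjective k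
    have e1 : c = f := congrArg (fun k => k.hom.fst) hc
    have e2 : c = g := congrArg (fun k => k.hom.snd) hc
    exact e1.symm.trans e2⟩

/-- If the diagonal is an equivalence over `C` and the categories are fibred in groupoids, the
functor is fully faithful. -/
theorem fullyFaithful_of_isEquivOver_diag (h𝒳 : FibCat.IsFibGrpd 𝒳.p)
    (h𝒴 : FibCat.IsFibGrpd 𝒴.p) (h : FibCat.IsEquivOver (FibCat.diag G)) :
    G.toFunctor.Full ∧ G.toFunctor.Faithful := by
  obtain ⟨⟨hfull, hfaith⟩, hes⟩ := (isEquivOver_iff_fullyFaithful_and_essSurjOver _).1 h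
  have hGf : G.toFunctor.Faithful := faithful_of_diag_full G
  refine ⟨?_, hGf⟩
  apply full_of_fiberwise G (hasGoodLifts_of_isFibGrpd G h𝒳 h𝒴)
  intro U a a' ha ha' τ hτ
  subst ha
  have hτiso : IsIso τ := IsFibGrpd.isIso_of_isHomLift_id h𝒴 (𝒳.p.obj a) τ
  let η : (FibCat.fp G G).obj := ⟨⟨a, a', asIso τ⟩, hτ⟩
  obtain ⟨w, e, he⟩ := hes η
  have hα : IsIso e.hom.hom := by
    have : IsIso e.hom := inferInstance
    exact (ObjectProperty.isIso_hom_iff e.hom).2 this
  have hα1 : IsIso e.hom.hom.fst := inferInstance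
  obtain ⟨α, hαdef⟩ : ∃ α : w ⟶ a, α = e.hom.hom.fst := ⟨_, rfl⟩
  obtain ⟨β, hβdef⟩ : ∃ β : w ⟶ a', β = e.hom.hom.snd := ⟨_, rfl⟩
  have hα2 : IsIso α := by rw [hαdef]; exact hα1
  have hw' : G.map α ≫ τ = G.map β := by
    have h1 : G.map e.hom.hom.fst ≫ τ = 𝟙 _ ≫ G.map e.hom.hom.snd := e.hom.hom.w
    rw [hαdef, hβdef]
    simpa using h1
  have hGχ : G.map (inv α ≫ β) = τ := by
    rw [G.map_comp, ← hw', ← Category.assoc, ← G.map_comp, IsIso.inv_hom_id, G.map_id,
      Category.id_comp]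
  refine ⟨inv α ≫ β, ?_, hGχ⟩
  rw [← BasedFunctor.isHomLift_iff G, hGχ]
  exact hτ

/-- A functor over `C` between categories fibred in groupoids is fully faithful iff its diagonal
is an equivalence over `C`. -/
theorem fullyFaithful_iff_isEquivOver_diag (h𝒳 : FibCat.IsFibGrpd 𝒳.p)
    (h𝒴 : FibCat.IsFibGrpd 𝒴.p) :
    (G.toFunctor.Full ∧ G.toFunctor.Faithful) ↔ FibCat.IsEquivOver (FibCat.diag G) := by
  constructor
  · rintro ⟨h1, h2⟩
    exact isEquivOver_diag_of_fullyFaithful G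
  · exact fullyFaithful_of_isEquivOver_diag G h𝒳 h𝒴

end Diag

end Groth.Agent.Lib.Helper17
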