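-- helper15: fully faithful functors representable by algebraic spaces are monomorphisms.
import Mathlib
import Groth.Agent.Lib.Helper15DiagRepSp
import Groth.Agent.Lib.Helper17FibDiag
import Groth.Prelude.Def_AlgSt3

set_option autoImplicit false
set_option backward.isDefEq.respectTransparency false
set_option backward.isDefEq.respectTransparency.types false
open CategoryTheory CategoryTheory.Functor CategoryTheory.Limits Opposite AlgebraicGeometry

universe u

namespace Groth.Agent.Lib.Helper15MonoFF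

open Groth.Agent.Lib.Helper17 Groth.Agent.Lib.Helper15PshFib Groth.Agent.Lib.Helper15RepComp
  Groth.Agent.Lib.Helper15RepPsh Groth.Agent.Lib.Helper15DiagBase

section Mono

variable {S : Scheme.{u}}

/-- A fully faithful functor over the base from the category of a sheaf to a slice induces a
monomorphism of sheaves. -/
theorem mono_spMapOfOver_of_ff {H : AlgSp.Sp S} {U : Over S}
    (Φ : AlgSt.ofSp H ⥤ᵇ FibCat.overCat U) [Φ.toFunctor.Full] [Φ.toFunctor.Faithful] :
    Mono (AlgSt.spMapOfOver Φ) := by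
  rw [sp_mono_iff_injective]
  intro T s s' hss'
  have h1 : AlgSt.secHom Φ ⟨T.unop, s⟩ = AlgSt.secHom Φ ⟨T.unop, s'⟩ := congrArg ULift.down hss'
  let c : (AlgSt.ofSp H).obj := ⟨T.unop, s⟩
  let c' : (AlgSt.ofSp H).obj := ⟨T.unop, s'⟩
  have hw : (Φ.obj c).left = T.unop := Φ.w_obj c
  have hw' : (Φ.obj c').left = T.unop := Φ.w_obj c'
  let f : (Φ.obj c).left ⟶ (Φ.obj c').left := eqToHom hw ≫ eqToHom hw'.symm
  have k1 : f ≫ (Φ.obj c').hom = (Φ.obj c).hom := by
    have h1' : eqToHom hw.symm ≫ (Φ.obj c).hom = eqToHom hw'.symm ≫ (Φ.obj c').hom := h1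
    rw [Category.assoc, ← h1', eqToHom_trans_assoc, eqToHom_refl, Category.id_comp]
  let n : Φ.obj c ⟶ Φ.obj c' := Over.homMk f k1
  let m : c ⟶ c' := Φ.toFunctor.preimage n
  have hm : Φ.toFunctor.map m = n := Φ.toFunctor.map_preimage n
  have h3 : (Φ.toFunctor ⋙ (FibCat.overCat U).p).map m = eqToHom hw ≫ m.hom ≫ eqToHom hw'.symm :=
    Functor.congr_hom Φ.w m
  have h4 : (Φ.toFunctor ⋙ (FibCat.overCat U).p).map m = f := by
    rw [Functor.comp_map, hm]
    rfl
  have h5 : m.hom = 𝟙 T.unop := by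
    have h6 : eqToHom hw ≫ m.hom ≫ eqToHom hw'.symm = eqToHom hw ≫ 𝟙 T.unop ≫ eqToHom hw'.symm := by
      rw [← h3, h4, Category.id_comp]
    exact (cancel_mono (eqToHom hw'.symm)).1 ((cancel_epi (eqToHom hw)).1 h6)
  have h7 := m.map_sec
  rw [h5] at h7
  exact ((psh_map_id_op H.obj s').symm.trans h7).symm

variable {𝒜 ℬ : AlgSt.Cat S}

/-- A fully faithful functor representable by algebraic spaces is a monomorphism. -/
theorem isMono_of_ff (k : 𝒜 ⥤ᵇ ℬ) [k.toFunctor.Full] [k.toFunctor.Faithful]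
    (hk : AlgSt.RepByAlgSp1 k) : AlgSt.IsMono k := by
  intro U y
  obtain ⟨H, e, he⟩ := hk U y
  refine ⟨H, e, he, ?_⟩
  have := IsEquivOver.isEquivalence e he
  have h1 := fpFst_faithful_of_faithful y k
  have h2 := fpFst_full_of_ff y k
  have i1 : (BasedFunctor.comp e (FibCat.fpFst y k)).toFunctor.Full :=
    inferInstanceAs (e.toFunctor ⋙ (FibCat.fpFst y k).toFunctor).Full
  have i2 : (BasedFunctor.comp e (FibCat.fpFst y k)).toFunctor.Faithful :=
    inferInstanceAs (e.toFunctor ⋙ (FibCat.fpFst y k).toFunctor).Faithful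
  exact mono_spMapOfOver_of_ff _

/-- The diagonal of a functor representable by algebraic spaces between categories with
representable diagonals is a monomorphism. -/
theorem isMono_diag_of_repByAlgSp1 (h𝒜 : FibCat.IsFibGrpd 𝒜.p) (hℬ : FibCat.IsFibGrpd ℬ.p)
    (hA : AlgSt.RepByAlgSp1 (FibCat.diag (FibCat.toSelf 𝒜)))
    (hB : AlgSt.RepByAlgSp1 (FibCat.diag (FibCat.toSelf ℬ)))
    (f : 𝒜 ⥤ᵇ ℬ) (hf : AlgSt.RepByAlgSp1 f) : AlgSt.IsMono (FibCat.diag f) := by
  have hfaith : f.toFunctor.Faithful := faithful_of_repByAlgSp1 h𝒜 hℬ f hf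
  have h1 := diag_faithful f
  have h2 := diag_full f
  exact isMono_of_ff (FibCat.diag f)
    (Groth.Agent.Lib.Helper15DiagRepSp.repByAlgSp1_diag_of_diag f hA hB)

end Mono

end Groth.Agent.Lib.Helper15MonoFF
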