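-- helper17: a monomorphism (representable by algebraic spaces) is fully faithful.
import Groth.Agent.Lib.Helper17RepFaithful
import Groth.Prelude.Def_AlgSt3

set_option autoImplicit false
set_option backward.isDefEq.respectTransparency false
set_option backward.isDefEq.respectTransparency.types false
open CategoryTheory CategoryTheory.Functor AlgebraicGeometry Opposite

universe v₁ u₁ v₂ u₂ v₃ u₃ v₄ u₄ u

namespace Groth.Agent.Lib.Helper17.MonoFF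

open Groth.Agent.Lib.Helper17

section Generic

variable {C : Type u₁} [Category.{v₁} C] {𝒜 : BasedCategory.{v₂, u₂} C}
  {ℬ : BasedCategory.{v₃, u₃} C} {𝒞 : BasedCategory.{v₄, u₄} C}

theorem full_of_full_comp (E : 𝒜 ⥤ᵇ ℬ) (hE : FibCat.IsEquivOver E) (H : ℬ ⥤ᵇ 𝒞)
    (h : (E.toFunctor ⋙ H.toFunctor).Full) : H.toFunctor.Full := by
  have := IsEquivOver.isEquivalence E hE
  let iso : E.toFunctor.inv ⋙ (E.toFunctor ⋙ H.toFunctor) ≅ H.toFunctor :=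
    (Functor.associator _ _ _).symm ≪≫
      isoWhiskerRight E.toFunctor.asEquivalence.counitIso H.toFunctor ≪≫ H.toFunctor.leftUnitor
  exact Functor.Full.of_iso iso

end Generic

section Sp

variable {S : Scheme.{u}}

theorem injective_of_mono {F G : AlgSp.Sp S} (f : F ⟶ G)
    (hf : MorphismProperty.monomorphisms (AlgSp.Sp S) f) (T : Over S) :
    Function.Injective (f.hom.app (op T)) := by
  have : Mono f := hf
  have h1 : Mono f.hom := inferInstance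
  have h2 := (NatTrans.mono_iff_mono_app f.hom).1 h1 (op T)
  exact (mono_iff_injective _).1 h2

theorem full_of_injective {F : AlgSp.Sp S} {U : Over S} (Φ : AlgSt.ofSp F ⥤ᵇ FibCat.overCat U)
    (hΦ : ∀ T : Over S, Function.Injective ((AlgSt.spMapOfOver Φ).hom.app (op T))) :
    Φ.toFunctor.Full := by
  refine ⟨fun {a b} k => ?_⟩
  let g : a.base ⟶ b.base := eqToHom (Φ.w_obj a).symm ≫ k.left ≫ eqToHom (Φ.w_obj b)
  let a'' : (AlgSt.ofSp F).obj := ⟨a.base, F.obj.map g.op b.sec⟩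
  let ψ : a'' ⟶ b := ⟨g, rfl⟩
  have h1 : g ≫ AlgSt.secHom Φ b = AlgSt.secHom Φ a'' := AlgSt.secHom_comp Φ ψ
  have h2 : g ≫ AlgSt.secHom Φ b = AlgSt.secHom Φ a := by
    have hk : k.left ≫ (Φ.obj b).hom = (Φ.obj a).hom := Over.w k
    simp only [AlgSt.secHom, g, Category.assoc, eqToHom_trans_assoc, eqToHom_refl,
      Category.id_comp, hk]
  have hsec : F.obj.map g.op b.sec = a.sec := by
    apply hΦ a.base
    rw [AlgSt.spMapOfOver_app, AlgSt.spMapOfOver_app]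
    apply ULift.ext
    change AlgSt.secHom Φ a'' = AlgSt.secHom Φ ⟨a.base, a.sec⟩
    rw [← h1, h2]
  refine ⟨⟨g, hsec⟩, ?_⟩
  apply Over.OverMorphism.ext
  have := IsHomLift.fac' (FibCat.overCat U).p ((AlgSt.ofSp F).p.map (⟨g, hsec⟩ : a ⟶ b))
    (Φ.map (⟨g, hsec⟩ : a ⟶ b))
  change (Φ.map (⟨g, hsec⟩ : a ⟶ b)).left = _ at this
  rw [this]
  simp [g]

end Sp

section Main

variable {S : Scheme.{u}} {𝒳 : BasedCategory.{v₂, u₂} (Over S)}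
  {𝒴 : BasedCategory.{v₃, u₃} (Over S)}

theorem fpFst_full_of_isMono (f : 𝒳 ⥤ᵇ 𝒴) (hf : AlgSt.IsMono f) (U : Over S)
    (y : FibCat.overCat U ⥤ᵇ 𝒴) : (FibCat.fpFst y f).toFunctor.Full := by
  obtain ⟨F, e, he, hP⟩ := hf U y
  apply full_of_full_comp e he
  exact full_of_injective (BasedFunctor.comp e (FibCat.fpFst y f))
    (fun T => injective_of_mono _ hP T)

theorem full_of_isMono (h𝒴 : FibCat.IsFibGrpd 𝒴.p) (f : 𝒳 ⥤ᵇ 𝒴) (hf : AlgSt.IsMono f) :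
    f.toFunctor.Full := by
  refine ⟨fun {x x'} β => ?_⟩
  have := IsFibGrpd.isFibered h𝒴
  have hx' : 𝒴.p.obj (f.obj x') = 𝒳.p.obj x' := f.w_obj x'
  obtain ⟨e₀, he₀⟩ := yonedaFunctor_iso (𝒳 := 𝒴) hx'
  let A : (FibCat.fp (yonedaFunctor (𝒳 := 𝒴) hx') f).obj :=
    ⟨⟨Over.mk (𝟙 (𝒳.p.obj x')), x', e₀⟩, he₀⟩
  let b : 𝒳.p.obj x ⟶ 𝒳.p.obj x' := eqToHom (f.w_obj x).symm ≫ 𝒴.p.map β ≫ eqToHom hx'
  have hβ : 𝒴.p.IsHomLift b β := by
    apply IsHomLift.of_fac' 𝒴.p _ _ (f.w_obj x) hx'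
    simp [b]
  let k : Over.mk b ⟶ Over.mk (𝟙 (𝒳.p.obj x')) := Over.homMk b (by simp)
  have l0 : (FibCat.overCat (𝒳.p.obj x')).p.IsHomLift b k :=
    IsHomLift.map (Over.forget (𝒳.p.obj x')) k
  have l1 : 𝒴.p.IsHomLift b ((yonedaFunctor (𝒳 := 𝒴) hx').map k ≫ e₀.hom) := by
    have h1 : 𝒴.p.IsHomLift b ((yonedaFunctor (𝒳 := 𝒴) hx').map k) :=
      BasedFunctor.preserves_isHomLift (yonedaFunctor (𝒳 := 𝒴) hx') b k
    have : 𝒴.p.IsHomLift (b ≫ 𝟙 _) ((yonedaFunctor (𝒳 := 𝒴) hx').map k ≫ e₀.hom) :=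
      inferInstance
    simpa using this
  have sc : 𝒴.p.IsStronglyCartesian b β := IsFibGrpd.isStronglyCartesian_of_isHomLift h𝒴 b β
  obtain ⟨ι, ⟨hι, eι⟩, -⟩ := IsStronglyCartesian.universal_property 𝒴.p b β (𝟙 _) b (by simp)
    ((yonedaFunctor (𝒳 := 𝒴) hx').map k ≫ e₀.hom)
  have iι : IsIso ι := IsFibGrpd.isIso_of_isHomLift_id h𝒴 (𝒳.p.obj x) ι
  let B : (FibCat.fp (yonedaFunctor (𝒳 := 𝒴) hx') f).obj :=
    ⟨⟨Over.mk b, x, asIso ι⟩, hι⟩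
  have hfull := fpFst_full_of_isMono f hf _ (yonedaFunctor (𝒳 := 𝒴) hx')
  obtain ⟨m, hm⟩ := hfull.map_surjective (X := B) (Y := A) k
  refine ⟨m.hom.snd, ?_⟩
  have w := m.hom.w
  have e1 : m.hom.fst = k := hm
  have w' : (yonedaFunctor (𝒳 := 𝒴) hx').map m.hom.fst ≫ e₀.hom = ι ≫ f.map m.hom.snd := w
  rw [← cancel_epi ι, eι, ← e1]
  exact w'.symm

theorem full_faithful_of_isMono (h𝒳 : FibCat.IsFibGrpd 𝒳.p) (h𝒴 : FibCat.IsFibGrpd 𝒴.p)
    (f : 𝒳 ⥤ᵇ 𝒴) (hf : AlgSt.IsMono f) : f.toFunctor.Full ∧ f.toFunctor.Faithful := by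
  refine ⟨full_of_isMono h𝒴 f hf, faithful_of_repByAlgSp1 h𝒳 h𝒴 f ?_⟩
  intro U y
  obtain ⟨F, e, he, -⟩ := hf U y
  exact ⟨F, e, he⟩

end Main

end Groth.Agent.Lib.Helper17.MonoFF
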