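-- helper15: equivalences over the base are representable with every property of identities.
import Mathlib
import Groth.Agent.Lib.Helper15MonoFF
import Groth.Agent.Lib.Helper17MonoFF
import Groth.Agent.S10277
import Groth.Agent.S10265

set_option autoImplicit false
set_option backward.isDefEq.respectTransparency false
set_option backward.isDefEq.respectTransparency.types false
open CategoryTheory CategoryTheory.Functor CategoryTheory.Limits Opposite AlgebraicGeometry

universe u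

namespace Groth.Agent.Lib.Helper15EquivRep

open Groth.Agent.Lib.Helper17 Groth.Agent.Lib.Helper15PshFib Groth.Agent.Lib.Helper15RepComp
  Groth.Agent.Lib.Helper15RepPsh Groth.Agent.Lib.Helper15DiagBase Groth.Agent.Lib.Helper15DiagRepSp

section Equiv

variable {S : Scheme.{u}}

theorem spMapOfOver_toOverCat (U : Over S) :
    AlgSt.spMapOfOver (AlgSt.toOverCat U) = 𝟙 ((AlgSp.yon S).obj U) := by
  apply ObjectProperty.hom_ext
  apply NatTrans.ext
  funext T
  ext x
  change (⟨AlgSt.secHom (AlgSt.toOverCat U) ⟨T.unop, x⟩⟩ : ULift _) = x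
  apply ULift.ext
  simp [AlgSt.secHom, AlgSt.toOverCat]

variable {𝒜 ℬ : AlgSt.Cat S}

/-- An equivalence over the base is representable by algebraic spaces with every property
satisfied by the identities of schemes. -/
theorem repByAlgSpWith_of_isEquivOver (Q : MorphismProperty (AlgSp.Sp S))
    (hQ : ∀ U : Over S, Q (𝟙 ((AlgSp.yon S).obj U))) (E : 𝒜 ⥤ᵇ ℬ) (hE : FibCat.IsEquivOver E) :
    AlgSt.RepByAlgSpWith Q E := by
  intro U y
  have h1 : FibCat.IsEquivOver (FibCat.fpFst y E) := isEquivOver_fpFst y E hE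
  obtain ⟨I, hI, -, ⟨β⟩⟩ := IsEquivOver.exists_inverse_isEquivOver' (FibCat.fpFst y E) h1
  refine ⟨⟨(AlgSp.yon S).obj U, AlgSp.IsAlgSpace.yon_obj U⟩,
    BasedFunctor.comp (AlgSt.toOverCat U) I,
    IsEquivOver.comp _ _ (isEquivOver_toOverCat U) hI, ?_⟩
  have h2 := spMapOfOver_eq_of_iso
    (BasedFunctor.comp (BasedFunctor.comp (AlgSt.toOverCat U) I) (FibCat.fpFst y E))
    (AlgSt.toOverCat U) (whiskerLeftIso (AlgSt.toOverCat U) β)
  rw [h2, spMapOfOver_toOverCat]
  exact hQ U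

theorem isProperMor_id (U : Over S) : AlgSp.IsProperMor (𝟙 ((AlgSp.yon S).obj U)) := by
  let X : AlgSp.Space S := ⟨(AlgSp.yon S).obj U, AlgSp.IsAlgSpace.yon_obj U⟩
  have h : AlgSp.RepWith @IsClosedImmersion (𝟙 ((AlgSp.yon S).obj U)) := AlgSp.repWith_id _ U
  exact Groth.Agent.S10277.result (𝟙 X) h

theorem isEtaleMor_id (U : Over S) : AlgSp.IsEtaleMor (𝟙 ((AlgSp.yon S).obj U)) := by
  intro V φ hφ
  rwa [Category.comp_id]

theorem locP_unramified_id (U : Over S) :
    AlgSp.LocP (@LocallyOfFiniteType ⊓ @FormallyUnramified) (𝟙 ((AlgSp.yon S).obj U)) := by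
  let X : AlgSp.Space S := ⟨(AlgSp.yon S).obj U, AlgSp.IsAlgSpace.yon_obj U⟩
  exact (Groth.Agent.S10265.result (𝟙 X) (isEtaleMor_id U)).2.2.2.2.2

theorem locP_lqf_id (U : Over S) :
    AlgSp.LocP (@LocallyQuasiFinite ⊓ @LocallyOfFiniteType) (𝟙 ((AlgSp.yon S).obj U)) := by
  let X : AlgSp.Space S := ⟨(AlgSp.yon S).obj U, AlgSp.IsAlgSpace.yon_obj U⟩
  exact (Groth.Agent.S10265.result (𝟙 X) (isEtaleMor_id U)).1

/-- A monomorphism of categories fibred in groupoids is separated and DM. -/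
theorem isSeparatedMor_and_isDMMor_of_isMono (h𝒜 : FibCat.IsFibGrpd 𝒜.p)
    (hℬ : FibCat.IsFibGrpd ℬ.p) (f : 𝒜 ⥤ᵇ ℬ) (hf : AlgSt.IsMono f) :
    AlgSt.IsSeparatedMor f ∧ AlgSt.IsDMMor f := by
  obtain ⟨h1, h2⟩ := Groth.Agent.Lib.Helper17.MonoFF.full_faithful_of_isMono h𝒜 hℬ f hf
  have hΔ := isEquivOver_diag_of_fullyFaithful f
  exact ⟨repByAlgSpWith_of_isEquivOver _ isProperMor_id _ hΔ,
    repByAlgSpWith_of_isEquivOver _ locP_unramified_id _ hΔ⟩

end Equiv

end Groth.Agent.Lib.Helper15EquivRep
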