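-- helper15: functors of maps of algebraic spaces and representability with a property.
import Mathlib
import Groth.Agent.Lib.Helper15Descent
import Groth.Agent.Lib.Helper15EquivRep
import Groth.Agent.S12780
import Groth.Agent.S9874

set_option autoImplicit false
set_option backward.isDefEq.respectTransparency false
set_option backward.isDefEq.respectTransparency.types false
open CategoryTheory CategoryTheory.Functor CategoryTheory.Limits Opposite AlgebraicGeometry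

universe u

namespace Groth.Agent.Lib.Helper15SpMapRep

open Groth.Agent.Lib.Helper17 Groth.Agent.Lib.Helper15PshFib Groth.Agent.Lib.Helper15RepComp
  Groth.Agent.Lib.Helper15RepPsh Groth.Agent.Lib.Helper15DiagBase Groth.Agent.Lib.Helper15DiagRepSp
  Groth.Agent.Lib.Helper15EquivRep Groth.Agent.Lib.Helper15BaseChange Groth.Agent.Lib.Helper15Descent

section A

variable {S : Scheme.{u}} {𝒳 𝒴 : AlgSt.Cat S}

/-- The fibre product of an algebraic space with a functor having `P` is an algebraic space whose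
map to the given one has `P`. -/
theorem exists_space_map_of_repByAlgSpWith (h𝒳 : FibCat.IsFibGrpd 𝒳.p) (h𝒴 : FibCat.IsFibGrpd 𝒴.p)
    (P : MorphismProperty (AlgSp.Sp S)) (hP : AlgSp.IsLocalOnBase AlgSp.IsFppfCover P)
    (f : 𝒳 ⥤ᵇ 𝒴) (hf : AlgSt.RepByAlgSpWith P f) (Z : AlgSp.Space S)
    (z : AlgSt.ofSp Z.obj ⥤ᵇ 𝒴) :
    ∃ (V : AlgSp.Space S) (a : V ⟶ Z) (e : AlgSt.ofSp V.obj ⥤ᵇ FibCat.fp z f),
      FibCat.IsEquivOver e ∧
        Nonempty (BasedFunctor.comp e (FibCat.fpFst z f) ≅ AlgSt.ofSpMap a.hom) ∧ P a.hom := by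
  obtain ⟨H, E, hE, hpb⟩ := exists_space_of_fp h𝒳 h𝒴 P f hf Z.obj Z.property z
  let a₀ : H.obj ⟶ Z.obj := ObjectProperty.homMk (pshMapOf (BasedFunctor.comp E (FibCat.fpFst z f)))
  refine ⟨H, ObjectProperty.homMk a₀, E, hE, ⟨(ofPshMapIso _).symm⟩, ?_⟩
  change P a₀
  obtain ⟨T, p, hpe, hps⟩ := Z.property.atlas
  obtain ⟨F_T, fst, snd, sq, hsnd⟩ := hpb T (uliftYonedaEquiv p.hom)
  rw [Equiv.symm_apply_apply] at sq
  have sq' : IsPullback fst snd a₀ p :=
    IsPullback.of_map_of_faithful (sheafToPresheaf (AlgSp.J S) (Type (u + 1))) sq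
  exact (hP (fun _ : PUnit.{u + 1} => (AlgSp.yon S).obj T) (fun _ => p) Z.property
    (fun _ => AlgSp.IsAlgSpace.yon_obj T) (Groth.Agent.S12780.Aux.isFppfCover_atlas Z.property p hpe hps)
    a₀ H.property (fun _ => F_T.obj)
    (fun _ => snd) (fun _ => fst) (fun _ => F_T.property) (fun _ => sq')).2 (fun _ => hsnd)

end A

section B

variable {S : Scheme.{u}}

theorem spMapOfOver_ofSpMap_toOverCat {F : AlgSp.Sp S} {U : Over S} (a : F ⟶ (AlgSp.yon S).obj U) :
    AlgSt.spMapOfOver (BasedFunctor.comp (AlgSt.ofSpMap a) (AlgSt.toOverCat U)) = a := by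
  apply ObjectProperty.hom_ext
  apply NatTrans.ext
  funext T
  ext x
  change (⟨AlgSt.secHom (BasedFunctor.comp (AlgSt.ofSpMap a) (AlgSt.toOverCat U)) ⟨T.unop, x⟩⟩ : ULift _) = _
  apply ULift.ext
  simp [AlgSt.secHom, AlgSt.toOverCat]
  rfl

end B

section C

variable {S : Scheme.{u}} {𝒳 𝒴 : AlgSt.Cat S}

/-- A representing space over the sheaf of a scheme gives a representing space over the slice. -/
theorem exists_rep_of_sch (P : MorphismProperty (AlgSp.Sp S)) (f : 𝒳 ⥤ᵇ 𝒴) {U : Over S}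
    (y : FibCat.overCat U ⥤ᵇ 𝒴) (V : AlgSp.Sp S) (a : V ⟶ (AlgSp.yon S).obj U)
    (e : AlgSt.ofSp V ⥤ᵇ FibCat.fp (BasedFunctor.comp (AlgSt.toOverCat U) y) f)
    (he : FibCat.IsEquivOver e)
    (ι : BasedFunctor.comp e (FibCat.fpFst (BasedFunctor.comp (AlgSt.toOverCat U) y) f) ≅
      AlgSt.ofSpMap a) (ha : P a) :
    ∃ (e₀ : AlgSt.ofSp V ⥤ᵇ FibCat.fp y f), FibCat.IsEquivOver e₀ ∧
      P (AlgSt.spMapOfOver (BasedFunctor.comp e₀ (FibCat.fpFst y f))) := by
  have iY := IsEquivOver.isEquivalence (BasedFunctor.id 𝒴) (isEquivOver_id _)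
  let z := BasedFunctor.comp (AlgSt.toOverCat U) y
  let M : FibCat.fp z f ⥤ᵇ FibCat.fp y f :=
    fpMap y f z f (AlgSt.toOverCat U) (BasedFunctor.id _) (BasedFunctor.id _) (Iso.refl _) (Iso.refl _)
  have hM : FibCat.IsEquivOver M :=
    isEquivOver_fpMap y f z f (AlgSt.toOverCat U) (BasedFunctor.id _) (BasedFunctor.id _) (Iso.refl _)
      (Iso.refl _) (isEquivOver_toOverCat U) (isEquivOver_id _)
  refine ⟨BasedFunctor.comp e M, IsEquivOver.comp _ _ he hM, ?_⟩
  have h := spMapOfOver_eq_of_iso (BasedFunctor.comp (BasedFunctor.comp e M) (FibCat.fpFst y f))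
    (BasedFunctor.comp (AlgSt.ofSpMap a) (AlgSt.toOverCat U)) (whiskerRightIso ι (AlgSt.toOverCat U))
  rw [h, spMapOfOver_ofSpMap_toOverCat]
  exact ha

end C

section D

variable {S : Scheme.{u}}

/-- The functor of a map of algebraic spaces with a property stable under base change is
representable by algebraic spaces with that property. -/
theorem repByAlgSpWith_ofSpMap (P : MorphismProperty (AlgSp.Sp S))
    (hPb : ∀ ⦃X₁ Y₁ X₂ Y₂ : AlgSp.Sp S⦄, AlgSp.IsAlgSpace X₁ → AlgSp.IsAlgSpace Y₁ → AlgSp.IsAlgSpace X₂ →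
      AlgSp.IsAlgSpace Y₂ → ∀ (a : X₁ ⟶ Y₁) (b : Y₂ ⟶ Y₁) (a' : X₂ ⟶ Y₂) (b' : X₂ ⟶ X₁),
      IsPullback b' a' a b → P a → P a')
    (V W : AlgSp.Space S) (a : V ⟶ W) (ha : P a.hom) :
    AlgSt.RepByAlgSpWith P (AlgSt.ofSpMap a.hom) := by
  intro U t
  obtain ⟨P', E, fst, hE, sq⟩ := exists_pullback_fp a.hom.hom t
  obtain ⟨hs, hA⟩ := (repBySp_of_spaces V W a.hom) _ fst _ sq
  let V' : AlgSp.Space S := ⟨⟨P', hs⟩, hA⟩
  refine ⟨V', E, hE, ?_⟩
  let ξ : (AlgSp.yon S).obj U ⟶ W.obj :=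
    ObjectProperty.homMk (uliftYonedaEquiv.symm (pshSec t (Over.mk (𝟙 U))))
  let b' : V'.obj ⟶ V.obj := ObjectProperty.homMk fst
  have sq' : IsPullback b' (AlgSt.spMapOfOver (BasedFunctor.comp E (FibCat.fpFst t (AlgSt.ofSpMap a.hom))))
      a.hom ξ :=
    IsPullback.of_map_of_faithful (sheafToPresheaf (AlgSp.J S) (Type (u + 1))) sq
  exact hPb V.property W.property V'.property (AlgSp.IsAlgSpace.yon_obj U) a.hom ξ _ b' sq' ha

end D

end Groth.Agent.Lib.Helper15SpMapRep
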