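-- helper15: the diagonal of a functor between algebraic stacks is locally of finite type.
import Mathlib
import Groth.Agent.Lib.Helper15SpMapRep
import Groth.Agent.Lib.Helper15DiagDescent
import Groth.Agent.Lib.Helper17StkLoc3
import Groth.Agent.Lib.Helper12Proper
import Groth.Agent.S10526
import Groth.Agent.S9952

set_option autoImplicit false
set_option backward.isDefEq.respectTransparency false
set_option backward.isDefEq.respectTransparency.types false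
open CategoryTheory CategoryTheory.Functor CategoryTheory.Limits Opposite AlgebraicGeometry

universe u

namespace Groth.Agent.Lib.Helper15DiagLft

open Groth.Agent.Lib.Helper17 Groth.Agent.Lib.Helper15PshFib Groth.Agent.Lib.Helper15RepComp
  Groth.Agent.Lib.Helper15RepPsh Groth.Agent.Lib.Helper15DiagBase Groth.Agent.Lib.Helper15DiagRepSp
  Groth.Agent.Lib.Helper15EquivRep Groth.Agent.Lib.Helper15BaseChange Groth.Agent.Lib.Helper15Descent
  Groth.Agent.Lib.Helper15SpMapRep Groth.Agent.Lib.Helper15DiagDescent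

section Basics

variable {S : Scheme.{u}}

/-- Stability under base change among algebraic spaces, in the form used by the statements. -/
def BCStable (Q : MorphismProperty (AlgSp.Sp S)) : Prop :=
  ∀ ⦃X₁ Y₁ X₂ Y₂ : AlgSp.Sp S⦄, AlgSp.IsAlgSpace X₁ → AlgSp.IsAlgSpace Y₁ → AlgSp.IsAlgSpace X₂ →
    AlgSp.IsAlgSpace Y₂ → ∀ (a : X₁ ⟶ Y₁) (b : Y₂ ⟶ Y₁) (a' : X₂ ⟶ Y₂) (b' : X₂ ⟶ X₁),
    IsPullback b' a' a b → Q a → Q a'

theorem precomp_iso_of_bcStable (Q : MorphismProperty (AlgSp.Sp S)) (hQb : BCStable Q)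
    {A' A Y : AlgSp.Sp S} (hA' : AlgSp.IsAlgSpace A') (hA : AlgSp.IsAlgSpace A)
    (hY : AlgSp.IsAlgSpace Y) (i : A' ≅ A) (m : A ⟶ Y) (hm : Q m) : Q (i.hom ≫ m) := by
  refine hQb hA hY hA' hY m (𝟙 Y) (i.hom ≫ m) i.hom ?_ hm
  exact IsPullback.of_horiz_isIso ⟨by simp⟩

theorem spMapOfOver_ofSpMap_comp {F G : AlgSp.Sp S} {U : Over S} (a : F ⟶ G)
    (Φ : AlgSt.ofSp G ⥤ᵇ FibCat.overCat U) :
    AlgSt.spMapOfOver (BasedFunctor.comp (AlgSt.ofSpMap a) Φ) = a ≫ AlgSt.spMapOfOver Φ := by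
  apply ObjectProperty.hom_ext
  apply NatTrans.ext
  funext T
  ext x
  rfl

end Basics

section C2

variable {S : Scheme.{u}} {𝒜 ℬ : AlgSt.Cat S}

/-- If `g`, with values in a slice, has `Q`, then so does the map of sheaves attached to any
presentation of its source by an algebraic space. -/
theorem prop_spMapOfOver_of_repByAlgSpWith (Q : MorphismProperty (AlgSp.Sp S)) (hQb : BCStable Q)
    {T : Over S} (g : 𝒜 ⥤ᵇ FibCat.overCat T) (h : AlgSt.RepByAlgSpWith Q g)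
    (A : AlgSp.Space S) (eA : AlgSt.ofSp A.obj ⥤ᵇ 𝒜) (heA : FibCat.IsEquivOver eA) :
    Q (AlgSt.spMapOfOver (BasedFunctor.comp eA g)) := by
  obtain ⟨F, e, he, hQ⟩ := h T (BasedFunctor.id _)
  have hsnd : FibCat.IsEquivOver (FibCat.fpSnd (BasedFunctor.id (FibCat.overCat T)) g) :=
    isEquivOver_fpSnd (BasedFunctor.id _) g (isEquivOver_id _)
  obtain ⟨I, hI, -, ⟨β⟩⟩ := IsEquivOver.exists_inverse_isEquivOver' _ hsnd
  let e₂ : AlgSt.ofSp A.obj ⥤ᵇ FibCat.fp (BasedFunctor.id (FibCat.overCat T)) g :=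
    BasedFunctor.comp eA I
  have he₂ : FibCat.IsEquivOver e₂ := IsEquivOver.comp _ _ heA hI
  obtain ⟨i, hi⟩ := exists_iso_of_two_reps g (BasedFunctor.id _) F.obj e he A.obj e₂ he₂
  let ι : BasedFunctor.comp e₂ (FibCat.fpFst (BasedFunctor.id (FibCat.overCat T)) g) ≅
      BasedFunctor.comp eA g :=
    (whiskerLeftIso e₂ (FibCat.fpIso (BasedFunctor.id (FibCat.overCat T)) g) : _ ≅
      BasedFunctor.comp (BasedFunctor.comp eA (BasedFunctor.comp I (FibCat.fpSnd _ g))) g) ≪≫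
    whiskerLeftIso eA (whiskerRightIso β g)
  have h2 := spMapOfOver_eq_of_iso _ _ ι
  rw [← h2, ← hi]
  exact precomp_iso_of_bcStable Q hQb A.property F.property (AlgSp.IsAlgSpace.yon_obj T) i _ hQ

/-- Cancellation for functors between categories representable by algebraic spaces, over a
slice. -/
theorem repByAlgSpWith_of_comp_to_slice (Q : MorphismProperty (AlgSp.Sp S)) (hQb : BCStable Q)
    (hcancel : ∀ {X Y Z : AlgSp.Space S} (f : X ⟶ Y) (g : Y ⟶ Z), Q (f ≫ g).hom → Q f.hom)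
    (h𝒜 : AlgSt.RepByAlgSp 𝒜) (hℬ : AlgSt.RepByAlgSp ℬ) (r : 𝒜 ⥤ᵇ ℬ) {T : Over S}
    (p : ℬ ⥤ᵇ FibCat.overCat T) (h : AlgSt.RepByAlgSpWith Q (BasedFunctor.comp r p)) :
    AlgSt.RepByAlgSpWith Q r := by
  obtain ⟨A, eA, heA⟩ := h𝒜
  obtain ⟨B, eB, heB⟩ := hℬ
  obtain ⟨eB', heB', -, ⟨β⟩⟩ := IsEquivOver.exists_inverse_isEquivOver' eB heB
  let r' : AlgSt.ofSp A.obj ⥤ᵇ AlgSt.ofSp B.obj :=
    BasedFunctor.comp eA (BasedFunctor.comp r eB')
  let a₀ : A.obj ⟶ B.obj := ObjectProperty.homMk (pshMapOf r')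
  let a : A ⟶ B := ObjectProperty.homMk a₀
  let TT : AlgSp.Space S := ⟨(AlgSp.yon S).obj T, AlgSp.IsAlgSpace.yon_obj T⟩
  let b : B ⟶ TT := ObjectProperty.homMk (AlgSt.spMapOfOver (BasedFunctor.comp eB p))
  -- the square relating `r` and the functor of `a₀`
  let σ : BasedFunctor.comp (AlgSt.ofSpMap a₀) eB ≅ BasedFunctor.comp eA r :=
    (whiskerRightIso (ofPshMapIso r') eB : _ ≅
      BasedFunctor.comp (BasedFunctor.comp eA r) (BasedFunctor.comp eB' eB)) ≪≫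
    whiskerLeftIso (BasedFunctor.comp eA r) β
  have h1 : Q (a ≫ b).hom := by
    change Q (a₀ ≫ AlgSt.spMapOfOver (BasedFunctor.comp eB p))
    rw [← spMapOfOver_ofSpMap_comp]
    have h2 := spMapOfOver_eq_of_iso
      (BasedFunctor.comp (AlgSt.ofSpMap a₀) (BasedFunctor.comp eB p))
      (BasedFunctor.comp eA (BasedFunctor.comp r p)) (whiskerRightIso σ p)
    rw [h2]
    exact prop_spMapOfOver_of_repByAlgSpWith Q hQb _ h A eA heA
  have h3 : Q a.hom := hcancel a b h1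
  have h4 : AlgSt.RepByAlgSpWith Q (AlgSt.ofSpMap a.hom) := repByAlgSpWith_ofSpMap Q hQb A B a h3
  exact (repByAlgSpWith_of_square Q r (AlgSt.ofSpMap a₀) eA eB heA heB σ).2 h4

end C2

section LocLift

variable {S : Scheme.{u}} {𝒳 𝒴 𝒵 : AlgSt.Cat S}

/-- A scheme-valued point of `𝒴` lifts to `𝒵` after finitely many successive fppf coverings by
schemes. -/
inductive LocLift (z : 𝒵 ⥤ᵇ 𝒴) : (U : Over S) → (FibCat.overCat U ⥤ᵇ 𝒴) → Prop
  | base {U : Over S} (y : FibCat.overCat U ⥤ᵇ 𝒴) (t : FibCat.overCat U ⥤ᵇ 𝒵)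
      (κ : BasedFunctor.comp t z ≅ y) : LocLift z U y
  | step {U : Over S} (y : FibCat.overCat U ⥤ᵇ 𝒴) {V : Over S} (v : V ⟶ U)
      (hv : AlgSp.IsFppfCover (fun _ : PUnit.{u + 1} => (AlgSp.yon S).obj V)
        (fun _ => (AlgSp.yon S).map v))
      (h : LocLift z V (BasedFunctor.comp (AlgSt.overMap v) y)) : LocLift z U y

theorem isFppfCover_id (U : Over S) :
    AlgSp.IsFppfCover (fun _ : PUnit.{u + 1} => (AlgSp.yon S).obj U)
      (fun _ => (AlgSp.yon S).map (𝟙 U)) := by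
  let X : AlgSp.Space S := ⟨(AlgSp.yon S).obj U, AlgSp.IsAlgSpace.yon_obj U⟩
  have h := Groth.Agent.S10265.result (𝟙 X) (isEtaleMor_id U)
  refine ⟨fun _ => ?_, fun x => ⟨PUnit.unit, x, ?_⟩⟩
  · rw [CategoryTheory.Functor.map_id]
    exact ⟨h.2.2.1, h.2.2.2.1⟩
  · rw [CategoryTheory.Functor.map_id]
    exact AlgSp.Points.map_id x

/-- One step of descent of a property along a covering by a scheme. -/
theorem prop_of_baseChange (P : MorphismProperty (AlgSp.Sp S))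
    (hP : AlgSp.IsLocalOnBase AlgSp.IsFppfCover P) (f : 𝒳 ⥤ᵇ 𝒴) {U : Over S}
    (y : FibCat.overCat U ⥤ᵇ 𝒴) (F : AlgSp.Space S) (e : AlgSt.ofSp F.obj ⥤ᵇ FibCat.fp y f)
    (he : FibCat.IsEquivOver e) {V : Over S} (v : V ⟶ U)
    (hv : AlgSp.IsFppfCover (fun _ : PUnit.{u + 1} => (AlgSp.yon S).obj V)
      (fun _ => (AlgSp.yon S).map v))
    (y' : FibCat.overCat V ⥤ᵇ 𝒴) (κ : y' ≅ BasedFunctor.comp (AlgSt.overMap v) y)
    (F' : AlgSp.Space S) (e' : AlgSt.ofSp F'.obj ⥤ᵇ FibCat.fp y' f) (he' : FibCat.IsEquivOver e')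
    (h : P (AlgSt.spMapOfOver (BasedFunctor.comp e' (FibCat.fpFst y' f)))) :
    P (AlgSt.spMapOfOver (BasedFunctor.comp e (FibCat.fpFst y f))) := by
  obtain ⟨q, sq⟩ := exists_isPullback_baseChange f y F.obj e he v y' κ F'.obj e' he'
  exact (hP (fun _ : PUnit.{u + 1} => (AlgSp.yon S).obj V) (fun _ => (AlgSp.yon S).map v)
    (AlgSp.IsAlgSpace.yon_obj U) (fun _ => AlgSp.IsAlgSpace.yon_obj V) hv
    (AlgSt.spMapOfOver (BasedFunctor.comp e (FibCat.fpFst y f))) F.property (fun _ => F'.obj)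
    (fun _ => AlgSt.spMapOfOver (BasedFunctor.comp e' (FibCat.fpFst y' f)))
    (fun _ => q) (fun _ => F'.property) (fun _ => sq)).2 (fun _ => h)

theorem prop_of_locLift (P : MorphismProperty (AlgSp.Sp S))
    (hP : AlgSp.IsLocalOnBase AlgSp.IsFppfCover P) (f : 𝒳 ⥤ᵇ 𝒴) (hf : AlgSt.RepByAlgSp1 f)
    (z : 𝒵 ⥤ᵇ 𝒴) (h' : AlgSt.RepByAlgSpWith P (FibCat.fpFst z f)) {U : Over S}
    (y : FibCat.overCat U ⥤ᵇ 𝒴) (hy : LocLift z U y) :
    ∀ (F : AlgSp.Space S) (e : AlgSt.ofSp F.obj ⥤ᵇ FibCat.fp y f), FibCat.IsEquivOver e →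
      P (AlgSt.spMapOfOver (BasedFunctor.comp e (FibCat.fpFst y f))) := by
  induction hy with
  | base y t κ =>
    intro F e he
    obtain ⟨F_t, e_t, he_t, hPt⟩ := h' _ t
    let e' : AlgSt.ofSp F_t.obj ⥤ᵇ FibCat.fp (BasedFunctor.comp t z) f :=
      BasedFunctor.comp e_t (pasteL f z t)
    have he' : FibCat.IsEquivOver e' := IsEquivOver.comp _ _ he_t (isEquivOver_pasteL f z t)
    exact prop_of_baseChange P hP f y F e he (𝟙 _) (isFppfCover_id _) (BasedFunctor.comp t z)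
      (κ ≪≫ whiskerRightIso (overMapIdIso _) y) F_t e' he' hPt
  | step y v hv _ ih =>
    intro F e he
    obtain ⟨F', e', he'⟩ := hf _ (BasedFunctor.comp (AlgSt.overMap v) y)
    exact prop_of_baseChange P hP f y F e he v hv _ (Iso.refl _) F' e' he' (ih F' e' he')

theorem repByAlgSpWith_of_fpFst_of_locLift (P : MorphismProperty (AlgSp.Sp S))
    (hP : AlgSp.IsLocalOnBase AlgSp.IsFppfCover P) (f : 𝒳 ⥤ᵇ 𝒴) (hf : AlgSt.RepByAlgSp1 f)
    (z : 𝒵 ⥤ᵇ 𝒴) (hz : ∀ (U : Over S) (y : FibCat.overCat U ⥤ᵇ 𝒴), LocLift z U y)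
    (h' : AlgSt.RepByAlgSpWith P (FibCat.fpFst z f)) : AlgSt.RepByAlgSpWith P f := by
  intro U y
  obtain ⟨F, e, he⟩ := hf U y
  exact ⟨F, e, he, prop_of_locLift P hP f hf z h' y (hz U y) F e he⟩

theorem aux_lift {D : Type*} [Category D] {X Y Z W : D} (A : X ⟶ Y) (I : Y ⟶ Z) (B' : Z ⟶ W)
    (B : W ⟶ Z) (h : B' ≫ B = 𝟙 Z) : A ≫ I = (A ≫ I ≫ B') ≫ B := by
  rw [Category.assoc, Category.assoc, h, Category.comp_id]

/-- Points of the relative double fibre product lift, after two coverings, along the functor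
induced by a chart admitting local liftings. -/
theorem locLift_relProd {𝒰 : AlgSt.Cat S} (u : 𝒰 ⥤ᵇ 𝒳) (hu : HasSchemeCovers u) (f : 𝒳 ⥤ᵇ 𝒴)
    {T : Over S} (w : FibCat.overCat T ⥤ᵇ FibCat.fp f f) : LocLift (relProd u u f) T w := by
  let x₁ : FibCat.overCat T ⥤ᵇ 𝒳 := BasedFunctor.comp w (FibCat.fpFst f f)
  let x₂ : FibCat.overCat T ⥤ᵇ 𝒳 := BasedFunctor.comp w (FibCat.fpSnd f f)
  obtain ⟨V₁, v₁, t₁, ⟨κ₁⟩, hv₁⟩ := hu T x₁
  obtain ⟨V₂, v₂, t₂, ⟨κ₂⟩, hv₂⟩ := hu V₁ (BasedFunctor.comp (AlgSt.overMap v₁) x₂)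
  let w₂ : FibCat.overCat V₂ ⥤ᵇ FibCat.fp f f :=
    BasedFunctor.comp (AlgSt.overMap v₂) (BasedFunctor.comp (AlgSt.overMap v₁) w)
  let e₁ : BasedFunctor.comp (BasedFunctor.comp (AlgSt.overMap v₂) t₁) u ≅
      BasedFunctor.comp w₂ (FibCat.fpFst f f) := whiskerLeftIso (AlgSt.overMap v₂) κ₁
  let e₂ : BasedFunctor.comp t₂ u ≅ BasedFunctor.comp w₂ (FibCat.fpSnd f f) := κ₂
  let τ : BasedFunctor.comp (BasedFunctor.comp (AlgSt.overMap v₂) t₁) (BasedFunctor.comp u f) ≅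
      BasedFunctor.comp t₂ (BasedFunctor.comp u f) :=
    (whiskerRightIso e₁ f : _ ≅ BasedFunctor.comp w₂ (BasedFunctor.comp (FibCat.fpFst f f) f)) ≪≫
    (whiskerLeftIso w₂ (FibCat.fpIso f f) : _ ≅
      BasedFunctor.comp (BasedFunctor.comp w₂ (FibCat.fpSnd f f)) f) ≪≫
    (whiskerRightIso e₂ f).symm
  let t : FibCat.overCat V₂ ⥤ᵇ FibCat.fp (BasedFunctor.comp u f) (BasedFunctor.comp u f) :=
    FibCat.fpLift (BasedFunctor.comp (AlgSt.overMap v₂) t₁) t₂ τ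
  have κ : BasedFunctor.comp t (relProd u u f) ≅ w₂ :=
    fpIsoMk f f (H := BasedFunctor.comp t (relProd u u f)) (K := w₂) e₁ e₂ (fun a => by
      refine aux_lift (f.map (bApp e₁ a).hom) (w₂.obj a).obj.iso.hom (f.map (bApp e₂ a).inv)
        (f.map (bApp e₂ a).hom) ?_
      rw [← f.toFunctor.map_comp, Iso.inv_hom_id, f.toFunctor.map_id])
  exact LocLift.step w v₁ hv₁ (LocLift.step _ v₂ hv₂ (LocLift.base _ t κ))

end LocLift

section Main

variable {S : Scheme.{u}} {𝒳 𝒴 : AlgSt.Cat S}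

/-- The diagonal of a functor between categories with representable diagonals has every property
`Q` that is stable under base change, fppf local on the base, can be cancelled on the right, and
is enjoyed by a chart of the source admitting local liftings. -/
theorem repByAlgSpWith_diag_of_chart (Q : MorphismProperty (AlgSp.Sp S)) (hQb : BCStable Q)
    (hQloc : AlgSp.IsLocalOnBase AlgSp.IsFppfCover Q)
    (hcancel : ∀ {X Y Z : AlgSp.Space S} (f : X ⟶ Y) (g : Y ⟶ Z), Q (f ≫ g).hom → Q f.hom)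
    (hX : AlgSt.RepByAlgSp1 (FibCat.diag (FibCat.toSelf 𝒳)))
    (hY : AlgSt.RepByAlgSp1 (FibCat.diag (FibCat.toSelf 𝒴)))
    {U : Over S} (u : FibCat.overCat U ⥤ᵇ 𝒳) (hu : HasSchemeCovers u)
    (huQ : AlgSt.RepByAlgSpWith Q u) (f : 𝒳 ⥤ᵇ 𝒴) :
    AlgSt.RepByAlgSpWith Q (FibCat.diag f) := by
  have hΔ : AlgSt.RepByAlgSp1 (FibCat.diag f) := repByAlgSp1_diag_of_diag f hX hY
  have h𝒜 : AlgSt.RepByAlgSp (FibCat.fp u u) := repByAlgSp1_of_repByAlgSp1_diag hX U u U u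
  have hℬ : AlgSt.RepByAlgSp (FibCat.fp (BasedFunctor.comp u f) (BasedFunctor.comp u f)) :=
    repByAlgSp1_of_repByAlgSp1_diag hY U (BasedFunctor.comp u f) U (BasedFunctor.comp u f)
  have h1 : AlgSt.RepByAlgSpWith Q (FibCat.fpFst u u) := repByAlgSpWith_fpFst Q u u huQ
  have h2 : AlgSt.RepByAlgSpWith Q (toRel u u f) :=
    repByAlgSpWith_of_comp_to_slice Q hQb hcancel h𝒜 hℬ (toRel u u f)
      (FibCat.fpFst (BasedFunctor.comp u f) (BasedFunctor.comp u f)) h1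
  have h3 : AlgSt.RepByAlgSpWith Q (FibCat.fpFst (relProd u u f) (FibCat.diag f)) :=
    (repByAlgSpWith_of_square Q (FibCat.fpFst (relProd u u f) (FibCat.diag f)) (toRel u u f)
      (magicRel u u f) (BasedFunctor.id _) (isEquivOver_magicRel u u f) (isEquivOver_id _)
      (Iso.refl _)).2 h2
  exact repByAlgSpWith_of_fpFst_of_locLift Q hQloc (FibCat.diag f) hΔ (relProd u u f)
    (fun T w => locLift_relProd u hu f w) h3

theorem locP_mono {P P' : MorphismProperty Scheme.{u}} (h : ∀ ⦃A B : Scheme.{u}⦄ (g : A ⟶ B), P g → P' g)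
    {F G : AlgSp.Sp S} (f : F ⟶ G) (hf : AlgSp.LocP P f) : AlgSp.LocP P' f :=
  fun _ _ a b k ha hb hc => h _ (hf a b k ha hb hc)

theorem repByAlgSpWith_mono {P P' : MorphismProperty (AlgSp.Sp S)}
    (h : ∀ ⦃F G : AlgSp.Sp S⦄ (f : F ⟶ G), P f → P' f) {𝒜 ℬ : AlgSt.Cat S} (g : 𝒜 ⥤ᵇ ℬ)
    (hg : AlgSt.RepByAlgSpWith P g) : AlgSt.RepByAlgSpWith P' g := by
  intro U y
  obtain ⟨F, e, he, hP⟩ := hg U y
  exact ⟨F, e, he, h _ hP⟩

theorem bcStable_lft : BCStable (AlgSp.LocP (S := S) @LocallyOfFiniteType) :=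
  fun _ _ _ _ hX₁ hY₁ _ hY₂ _ _ _ _ sq ha =>
    Groth.Agent.Lib.Helper12.Proper.locP_lft_baseChange hX₁ hY₁ hY₂ sq ha

/-- The diagonal of a functor from an algebraic stack is locally of finite type. -/
theorem repByAlgSpWith_lft_diag' (h𝒳 : AlgSt.IsAlgStack Scheme.fppfPrecoverage 𝒳)
    (hY : AlgSt.RepByAlgSp1 (FibCat.diag (FibCat.toSelf 𝒴))) (f : 𝒳 ⥤ᵇ 𝒴) :
    AlgSt.RepByAlgSpWith (AlgSp.LocP @LocallyOfFiniteType) (FibCat.diag f) := by
  obtain ⟨U, u, hu₁, hu₂⟩ := h𝒳.atlas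
  have hflat : AlgSt.RepByAlgSpWith (AlgSp.LocP @Flat) u :=
    repByAlgSpWith_mono (fun _ _ g hg => locP_mono (fun _ _ k hk => by have := hk; infer_instance) g hg) u hu₁
  have hlfp : AlgSt.RepByAlgSpWith (AlgSp.LocP @LocallyOfFinitePresentation) u :=
    repByAlgSpWith_mono (fun _ _ g hg => locP_mono (fun _ _ k hk => by have := hk; infer_instance) g hg) u hu₁
  have hlft : AlgSt.RepByAlgSpWith (AlgSp.LocP @LocallyOfFiniteType) u :=
    repByAlgSpWith_mono (fun _ _ g hg => locP_mono (fun _ _ k hk => by have := hk; infer_instance) g hg) u hu₁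
  exact repByAlgSpWith_diag_of_chart _ bcStable_lft
    (isLocalOnBase_fppf_of_fpqc _ (Groth.Agent.S10526.result S))
    (fun f g h => Groth.Agent.S9952.result f g h) h𝒳.diag hY u
    (hasSchemeCovers_of_cover u hflat hlfp hu₂) hlft f

/-- The diagonal of a functor between algebraic stacks is locally of finite type. -/
theorem repByAlgSpWith_lft_diag (h𝒳 : AlgSt.IsAlgStack Scheme.fppfPrecoverage 𝒳)
    (h𝒴 : AlgSt.IsAlgStack Scheme.fppfPrecoverage 𝒴) (f : 𝒳 ⥤ᵇ 𝒴) :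
    AlgSt.RepByAlgSpWith (AlgSp.LocP @LocallyOfFiniteType) (FibCat.diag f) :=
  repByAlgSpWith_lft_diag' h𝒳 h𝒴.diag f

/-- The diagonal of an algebraic stack over the base is locally of finite type. -/
theorem repByAlgSpWith_lft_diag_toSelf (h𝒳 : AlgSt.IsAlgStack Scheme.fppfPrecoverage 𝒳) :
    AlgSt.RepByAlgSpWith (AlgSp.LocP @LocallyOfFiniteType) (FibCat.diag (FibCat.toSelf 𝒳)) :=
  repByAlgSpWith_lft_diag' h𝒳
    (repByAlgSp1_diag_toSelf_iff.2 (fun U x V y => repByAlgSp_fp_selfOver V U y x)) (FibCat.toSelf 𝒳)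

end Main

end Groth.Agent.Lib.Helper15DiagLft
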