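-- helper15: monomorphisms of sheaves are separated.
import Mathlib
import Groth.Agent.Lib.Helper15MonoFF

set_option autoImplicit false
set_option backward.isDefEq.respectTransparency false
set_option backward.isDefEq.respectTransparency.types false
open CategoryTheory CategoryTheory.Functor CategoryTheory.Limits Opposite AlgebraicGeometry

universe u

namespace Groth.Agent.Lib.Helper15MonoSep

section A

variable {S : Scheme.{u}}

theorem repWith_of_isIso (P : MorphismProperty Scheme.{u}) [P.ContainsIdentities] [P.RespectsIso]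
    {F G : AlgSp.Sp S} (f : F ⟶ G) [IsIso f] : AlgSp.RepWith P f := by
  apply MorphismProperty.relative.of_exists
  intro a g
  refine ⟨a, g ≫ inv f, 𝟙 a, ?_, ?_⟩
  · have : IsIso ((AlgSp.yon S).map (𝟙 a)) := by rw [CategoryTheory.Functor.map_id]; infer_instance
    exact IsPullback.of_vert_isIso ⟨by simp⟩
  · exact P.id_mem a.left

theorem isSeparatedMor_of_mono {F G : AlgSp.Sp S} (f : F ⟶ G) [Mono f] :
    AlgSp.IsSeparatedMor f := by
  have : IsIso (pullback.diagonal f) := inferInstance
  exact repWith_of_isIso @IsClosedImmersion (pullback.diagonal f)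

variable {𝒜 ℬ : AlgSt.Cat S}

/-- A monomorphism is representable by algebraic spaces and separated. -/
theorem repByAlgSpWith_isSeparatedMor_of_isMono (k : 𝒜 ⥤ᵇ ℬ) (hk : AlgSt.IsMono k) :
    AlgSt.RepByAlgSpWith AlgSp.IsSeparatedMor k := by
  intro U y
  obtain ⟨F, e, he, hm⟩ := hk U y
  have : Mono (AlgSt.spMapOfOver (BasedFunctor.comp e (FibCat.fpFst y k))) := hm
  exact ⟨F, e, he, isSeparatedMor_of_mono _⟩

end A

end Groth.Agent.Lib.Helper15MonoSep
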