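-- helper15: monomorphisms locally of finite type are unramified.
import Mathlib
import Groth.Agent.Lib.Helper15DiagLft
import Groth.Agent.Lib.Helper15MonoSep
import Groth.Agent.Lib.Helper15MonoFF
import Groth.Agent.S10262

set_option autoImplicit false
set_option backward.isDefEq.respectTransparency false
set_option backward.isDefEq.respectTransparency.types false
open CategoryTheory CategoryTheory.Functor CategoryTheory.Limits Opposite AlgebraicGeometry

universe u

namespace Groth.Agent.Lib.Helper15MonoUnram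

open Groth.Agent.Lib.Helper17 Groth.Agent.Lib.Helper15Descent Groth.Agent.Lib.Helper15MonoSep

section A

variable {S : Scheme.{u}}

/-- A monomorphism of algebraic spaces which is locally of finite type is unramified. -/
theorem locP_unramified_of_mono_lft {X Y : AlgSp.Space S} (f : X ⟶ Y) [Mono f.hom]
    (h : AlgSp.LocP @LocallyOfFiniteType f.hom) :
    AlgSp.LocP (@LocallyOfFiniteType ⊓ @FormallyUnramified) f.hom :=
  (Groth.Agent.S10262.result f).2 h (repWith_of_isIso @IsOpenImmersion (pullback.diagonal f.hom))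

variable {𝒜 ℬ : AlgSt.Cat S}

/-- A monomorphism which is locally of finite type is unramified. -/
theorem repByAlgSpWith_unramified_of_isMono_of_lft (g : 𝒜 ⥤ᵇ ℬ) (hm : AlgSt.IsMono g)
    (hl : AlgSt.RepByAlgSpWith (AlgSp.LocP @LocallyOfFiniteType) g) :
    AlgSt.RepByAlgSpWith (AlgSp.LocP (@LocallyOfFiniteType ⊓ @FormallyUnramified)) g := by
  intro T w
  obtain ⟨F₁, e₁, he₁, hlft⟩ := hl T w
  obtain ⟨F₂, e₂, he₂, hmono⟩ := hm T w
  refine ⟨F₁, e₁, he₁, ?_⟩
  obtain ⟨i, hi⟩ := exists_iso_of_two_reps g w F₂.obj e₂ he₂ F₁.obj e₁ he₁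
  have hmono' : Mono (AlgSt.spMapOfOver (BasedFunctor.comp e₂ (FibCat.fpFst w g))) := hmono
  have hm1 : Mono (AlgSt.spMapOfOver (BasedFunctor.comp e₁ (FibCat.fpFst w g))) := by
    rw [← hi]
    infer_instance
  let TT : AlgSp.Space S := ⟨(AlgSp.yon S).obj T, AlgSp.IsAlgSpace.yon_obj T⟩
  let a : F₁ ⟶ TT := ObjectProperty.homMk (AlgSt.spMapOfOver (BasedFunctor.comp e₁ (FibCat.fpFst w g)))
  have : Mono a.hom := hm1
  exact locP_unramified_of_mono_lft a hlft

end A

end Groth.Agent.Lib.Helper15MonoUnram
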