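-- helper15: cancellation for diagonals (DM and quasi-DM functors).
import Mathlib
import Groth.Agent.Lib.Helper15MonoUnram
import Groth.Agent.Lib.Helper15DiagComp3
import Groth.Agent.Lib.Helper15DiagBC
import Groth.Agent.S12946

set_option autoImplicit false
set_option backward.isDefEq.respectTransparency false
set_option backward.isDefEq.respectTransparency.types false
open CategoryTheory CategoryTheory.Functor CategoryTheory.Limits Opposite AlgebraicGeometry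

universe u

namespace Groth.Agent.Lib.Helper15DiagOfComp

open Groth.Agent.Lib.Helper17 Groth.Agent.Lib.Helper15PshFib Groth.Agent.Lib.Helper15RepComp
  Groth.Agent.Lib.Helper15RepPsh Groth.Agent.Lib.Helper15DiagBase Groth.Agent.Lib.Helper15DiagRepSp
  Groth.Agent.Lib.Helper15Descent Groth.Agent.Lib.Helper15DiagLft Groth.Agent.Lib.Helper15MonoUnram
  Groth.Agent.Lib.Helper15.DiagBC

section B1

variable {S : Scheme.{u}} {𝒳 𝒴 𝒵 : AlgSt.Cat S}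

theorem repByAlgSpWith_top_iff {𝒜 ℬ : AlgSt.Cat S} (h : 𝒜 ⥤ᵇ ℬ) :
    AlgSt.RepByAlgSpWith (⊤ : MorphismProperty (AlgSp.Sp S)) h ↔ AlgSt.RepByAlgSp1 h := by
  constructor
  · intro hh U y
    obtain ⟨F, e, he, -⟩ := hh U y
    exact ⟨F, e, he⟩
  · intro hh U y
    obtain ⟨F, e, he⟩ := hh U y
    exact ⟨F, e, he, trivial⟩

/-- The diagonal over the base of a 2-fibre product of categories with representable diagonals is
representable by algebraic spaces. -/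
theorem repByAlgSp1_diag_toSelf_fp (h𝒳 : FibCat.IsFibGrpd 𝒳.p) (h𝒴 : FibCat.IsFibGrpd 𝒴.p)
    (h𝒵 : FibCat.IsFibGrpd 𝒵.p)
    (hX : AlgSt.RepByAlgSp1 (FibCat.diag (FibCat.toSelf 𝒳)))
    (hY : AlgSt.RepByAlgSp1 (FibCat.diag (FibCat.toSelf 𝒴)))
    (hZ : AlgSt.RepByAlgSp1 (FibCat.diag (FibCat.toSelf 𝒵)))
    (f : 𝒳 ⥤ᵇ 𝒵) (g : 𝒴 ⥤ᵇ 𝒵) :
    AlgSt.RepByAlgSp1 (FibCat.diag (FibCat.toSelf (FibCat.fp f g))) := by
  rw [repByAlgSp1_diag_toSelf_iff]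
  intro U x V y
  let pr : FibCat.fp f g ⥤ᵇ 𝒳 := FibCat.fpFst f g
  have hfp : FibCat.IsFibGrpd (FibCat.fp f g).p := isFibGrpd_fp f g h𝒳 h𝒴 h𝒵
  have hdg : AlgSt.RepByAlgSp1 (FibCat.diag g) := repByAlgSp1_diag_of_diag g hY hZ
  have hpr : AlgSt.RepByAlgSpWith (⊤ : MorphismProperty (AlgSp.Sp S)) (FibCat.diag pr) :=
    repByAlgSpWith_diag_fpFst ⊤ g f ((repByAlgSpWith_top_iff _).2 hdg)
  have hB : AlgSt.RepByAlgSp (FibCat.fp (BasedFunctor.comp y pr) (BasedFunctor.comp x pr)) :=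
    repByAlgSp1_of_repByAlgSp1_diag hX U (BasedFunctor.comp x pr) V (BasedFunctor.comp y pr)
  obtain ⟨B, eB, heB⟩ := hB
  obtain ⟨H, E, hE, -⟩ := exists_space_of_fp hfp (isFibGrpd_fp pr pr hfp hfp h𝒳) ⊤ (FibCat.diag pr)
    hpr B.obj B.property (BasedFunctor.comp eB (relProd y x pr))
  have iD := IsEquivOver.isEquivalence (BasedFunctor.id (FibCat.fp pr pr)) (isEquivOver_id _)
  have hM := isEquivOver_fpMap (relProd y x pr) (FibCat.diag pr)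
    (BasedFunctor.comp eB (relProd y x pr)) (FibCat.diag pr) eB (BasedFunctor.id _)
    (BasedFunctor.id _) (Iso.refl _) (Iso.refl _) heB (isEquivOver_id _)
  have h1 : AlgSt.RepByAlgSp (FibCat.fp (relProd y x pr) (FibCat.diag pr)) :=
    repByAlgSp_of_isEquivOver _ hM ⟨H, E, hE⟩
  exact repByAlgSp_of_isEquivOver' _ (isEquivOver_magicRel y x pr) h1

end B1

section B2

variable {S : Scheme.{u}} {𝒳 𝒴 𝒵 ℬ : AlgSt.Cat S}

/-- A functor representable by algebraic spaces from an algebraic stack to a category fibred in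
groupoids with representable diagonal is DM. -/
theorem isDMMor_of_repByAlgSp1' (h𝒳 : AlgSt.IsAlgStack Scheme.fppfPrecoverage 𝒳)
    (hℬ : FibCat.IsFibGrpd ℬ.p) (hB : AlgSt.RepByAlgSp1 (FibCat.diag (FibCat.toSelf ℬ)))
    (f : 𝒳 ⥤ᵇ ℬ) (hf : AlgSt.RepByAlgSp1 f) : AlgSt.IsDMMor f :=
  repByAlgSpWith_unramified_of_isMono_of_lft (FibCat.diag f)
    (Groth.Agent.Lib.Helper15MonoFF.isMono_diag_of_repByAlgSp1 h𝒳.isStack.1 hℬ h𝒳.diag hB f hf)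
    (repByAlgSpWith_lft_diag' h𝒳 hB f)

/-- The diagonal of a functor between algebraic stacks is DM. -/
theorem isDMMor_diag (h𝒴 : AlgSt.IsAlgStack Scheme.fppfPrecoverage 𝒴)
    (h𝒵 : AlgSt.IsAlgStack Scheme.fppfPrecoverage 𝒵) (g : 𝒴 ⥤ᵇ 𝒵) :
    AlgSt.IsDMMor (FibCat.diag g) :=
  isDMMor_of_repByAlgSp1' h𝒴 (isFibGrpd_fp g g h𝒴.isStack.1 h𝒴.isStack.1 h𝒵.isStack.1)
    (repByAlgSp1_diag_toSelf_fp h𝒴.isStack.1 h𝒴.isStack.1 h𝒵.isStack.1 h𝒴.diag h𝒴.diag h𝒵.diag g g)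
    (FibCat.diag g) (repByAlgSp1_diag_of_diag g h𝒴.diag h𝒵.diag)

end B2

section B3

variable {S : Scheme.{u}} {𝒜 𝒜' ℬ : AlgSt.Cat S}

/-- The diagonal of a functor precomposed with an equivalence. -/
theorem repByAlgSpWith_diag_equiv_source (Q : MorphismProperty (AlgSp.Sp S)) (E : 𝒜' ⥤ᵇ 𝒜)
    (hE : FibCat.IsEquivOver E) (h : 𝒜 ⥤ᵇ ℬ) :
    AlgSt.RepByAlgSpWith Q (FibCat.diag h) ↔
      AlgSt.RepByAlgSpWith Q (FibCat.diag (BasedFunctor.comp E h)) := by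
  have iB := IsEquivOver.isEquivalence (BasedFunctor.id ℬ) (isEquivOver_id _)
  let M : FibCat.fp (BasedFunctor.comp E h) (BasedFunctor.comp E h) ⥤ᵇ FibCat.fp h h :=
    fpMap h h (BasedFunctor.comp E h) (BasedFunctor.comp E h) E E (BasedFunctor.id ℬ)
      (Iso.refl _) (Iso.refl _)
  have hM : FibCat.IsEquivOver M :=
    isEquivOver_fpMap h h (BasedFunctor.comp E h) (BasedFunctor.comp E h) E E (BasedFunctor.id ℬ)
      (Iso.refl _) (Iso.refl _) hE hE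
  refine repByAlgSpWith_of_square Q (FibCat.diag h) (FibCat.diag (BasedFunctor.comp E h)) E M hE hM
    ?_
  exact fpIsoMk h h (H := BasedFunctor.comp (FibCat.diag (BasedFunctor.comp E h)) M)
    (K := BasedFunctor.comp E (FibCat.diag h)) (Iso.refl _) (Iso.refl _) (fun a => by
      change h.map (𝟙 _) ≫ 𝟙 _ = (𝟙 _ ≫ (BasedFunctor.id ℬ).map (𝟙 _) ≫ 𝟙 _) ≫ h.map (𝟙 _)
      rw [h.toFunctor.map_id]
      simp)

end B3

section B4

variable {S : Scheme.{u}} {𝒳 𝒴 𝒵 : AlgSt.Cat S}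

/-- Cancellation for diagonals: if the diagonal of `f ≫ g` has `Q` and so does the diagonal of the
diagonal of `g`, then the diagonal of `f` has `Q`. -/
theorem repByAlgSpWith_diag_of_comp (h𝒳 : FibCat.IsFibGrpd 𝒳.p) (h𝒴 : FibCat.IsFibGrpd 𝒴.p)
    (h𝒵 : FibCat.IsFibGrpd 𝒵.p) (Q : MorphismProperty (AlgSp.Sp S)) (hQ : CompCond Q)
    (f : 𝒳 ⥤ᵇ 𝒴) (g : 𝒴 ⥤ᵇ 𝒵)
    (hΔΔ : AlgSt.RepByAlgSpWith Q (FibCat.diag (FibCat.diag g)))
    (h : AlgSt.RepByAlgSpWith Q (FibCat.diag (BasedFunctor.comp f g))) :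
    AlgSt.RepByAlgSpWith Q (FibCat.diag f) := by
  have h1 : AlgSt.RepByAlgSpWith Q (FibCat.diag (FibCat.fpFst (relProd f f g) (FibCat.diag g))) :=
    repByAlgSpWith_diag_fpFst Q (FibCat.diag g) (relProd f f g) hΔΔ
  have h2 := (repByAlgSpWith_diag_equiv_source Q (magicRel f f g) (isEquivOver_magicRel f f g)
    (FibCat.fpFst (relProd f f g) (FibCat.diag g))).1 h1
  have h3 : AlgSt.RepByAlgSpWith Q (FibCat.diag (toRel f f g)) := h2
  exact repByAlgSpWith_of_triangle h𝒳 (isFibGrpd_fp f f h𝒳 h𝒳 h𝒴)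
    (isFibGrpd_fp (BasedFunctor.comp f g) (BasedFunctor.comp f g) h𝒳 h𝒳 h𝒵) Q hQ (FibCat.diag f)
    (FibCat.diag (BasedFunctor.comp f g)) (toRel f f g)
    (Groth.Agent.Lib.Helper15DiagComp.diagCompIso f g) h h3

theorem isDMMor_of_comp (h𝒳 : AlgSt.IsAlgStack Scheme.fppfPrecoverage 𝒳)
    (h𝒴 : AlgSt.IsAlgStack Scheme.fppfPrecoverage 𝒴)
    (h𝒵 : AlgSt.IsAlgStack Scheme.fppfPrecoverage 𝒵) (f : 𝒳 ⥤ᵇ 𝒴) (g : 𝒴 ⥤ᵇ 𝒵)
    (h : AlgSt.IsDMMor (BasedFunctor.comp f g)) : AlgSt.IsDMMor f :=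
  repByAlgSpWith_diag_of_comp h𝒳.isStack.1 h𝒴.isStack.1 h𝒵.isStack.1 _
    Groth.Agent.Lib.Helper15DiagComp.compCond_locP_unramified f g (isDMMor_diag h𝒴 h𝒵 g) h

theorem isQuasiDMMor_of_comp (h𝒳 : AlgSt.IsAlgStack Scheme.fppfPrecoverage 𝒳)
    (h𝒴 : AlgSt.IsAlgStack Scheme.fppfPrecoverage 𝒴)
    (h𝒵 : AlgSt.IsAlgStack Scheme.fppfPrecoverage 𝒵) (f : 𝒳 ⥤ᵇ 𝒴) (g : 𝒴 ⥤ᵇ 𝒵)
    (h : AlgSt.IsQuasiDMMor (BasedFunctor.comp f g)) : AlgSt.IsQuasiDMMor f := by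
  have hqd : AlgSt.RepByAlgSpWith (AlgSp.LocP (@LocallyQuasiFinite ⊓ @LocallyOfFiniteType))
      (FibCat.diag (FibCat.diag g)) :=
    repByAlgSpWith_mono (fun _ _ k hk => locP_mono (fun _ _ m hm =>
      ⟨Groth.Agent.S12946.locallyQuasiFinite_of_unramified m hm.1 hm.2, hm.1⟩) k hk) _
      (isDMMor_diag h𝒴 h𝒵 g)
  exact repByAlgSpWith_diag_of_comp h𝒳.isStack.1 h𝒴.isStack.1 h𝒵.isStack.1 _
    Groth.Agent.Lib.Helper15DiagComp.compCond_locP_lqf f g hqd h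

end B4

end Groth.Agent.Lib.Helper15DiagOfComp
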