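-- helper15: the symmetry of the 2-fibre product over the base.
import Mathlib
import Groth.Agent.Lib.Helper15DiagRepSp
import Groth.Agent.S12766

set_option autoImplicit false
set_option backward.isDefEq.respectTransparency false
set_option backward.isDefEq.respectTransparency.types false
open CategoryTheory CategoryTheory.Functor CategoryTheory.Limits Opposite AlgebraicGeometry

universe v₁ u₁ v₂ u₂ v₃ u₃ v₄ u₄ v u

namespace Groth.Agent.Lib.Helper15FpSwap

open Groth.Agent.Lib.Helper17 Groth.Agent.Lib.Helper15DiagRepSp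

section Swap

variable {C : Type u} [Category.{v} C] {𝒳 : BasedCategory.{v₂, u₂} C}
  {𝒴 : BasedCategory.{v₃, u₃} C} {𝒮 : BasedCategory.{v₄, u₄} C}
  (F : 𝒳 ⥤ᵇ 𝒮) (G : 𝒴 ⥤ᵇ 𝒮)

/-- The symmetry of the 2-fibre product. -/
def fpSwap : FibCat.fp F G ⥤ᵇ FibCat.fp G F :=
  FibCat.fpLift (FibCat.fpSnd F G) (FibCat.fpFst F G) (FibCat.fpIso F G).symm

def fpSwapSwapIso : BasedFunctor.comp (fpSwap F G) (fpSwap G F) ≅ BasedFunctor.id _ :=
  fpIsoMk F G (H := BasedFunctor.comp (fpSwap F G) (fpSwap G F)) (K := BasedFunctor.id _)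
    (Iso.refl _) (Iso.refl _)
    (fun _ => aux_id_comm _ _ (F.toFunctor.map_id _) (G.toFunctor.map_id _) _)

theorem isEquivOver_fpSwap : FibCat.IsEquivOver (fpSwap F G) :=
  ⟨fpSwap G F, ⟨fpSwapSwapIso F G⟩, ⟨fpSwapSwapIso G F⟩⟩

end Swap

section Rep

variable {S : Scheme.{u}} {𝒳 : AlgSt.Cat S}

/-- Functors from categories representable by algebraic spaces are representable by algebraic
spaces as soon as those from slices are. -/
theorem repByAlgSp1_from_repByAlgSp (h𝒳 : FibCat.IsFibGrpd 𝒳.p)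
    (hall : ∀ (U : Over S) (x : FibCat.overCat U ⥤ᵇ 𝒳), AlgSt.RepByAlgSp1 x)
    (𝒰 : AlgSt.Cat S) (h𝒰 : FibCat.IsFibGrpd 𝒰.p) (hU : AlgSt.RepByAlgSp 𝒰) (x : 𝒰 ⥤ᵇ 𝒳) :
    AlgSt.RepByAlgSp1 x := by
  intro T y
  have h1 : AlgSt.RepByAlgSp (FibCat.fp x y) :=
    Groth.Agent.S12766.result (isFibSet_overForget T).1 h𝒳 h𝒰 y x (hall T y) hU
  exact repByAlgSp_of_isEquivOver _ (isEquivOver_fpSwap x y) h1

end Rep

end Groth.Agent.Lib.Helper15FpSwap
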