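-- helper15: charts from algebraic spaces and properties of the diagonal.
import Mathlib
import Groth.Agent.Lib.Helper15DiagOfComp
import Groth.Agent.S10543
import Groth.Agent.S10541
import Groth.Agent.S10263
import Groth.Agent.S9956

set_option autoImplicit false
set_option backward.isDefEq.respectTransparency false
set_option backward.isDefEq.respectTransparency.types false
open CategoryTheory CategoryTheory.Functor CategoryTheory.Limits Opposite AlgebraicGeometry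

universe u

namespace Groth.Agent.Lib.Helper15ChartSp

open Groth.Agent.Lib.Helper17 Groth.Agent.Lib.Helper15PshFib Groth.Agent.Lib.Helper15RepComp
  Groth.Agent.Lib.Helper15RepPsh Groth.Agent.Lib.Helper15DiagBase Groth.Agent.Lib.Helper15DiagRepSp
  Groth.Agent.Lib.Helper15Descent Groth.Agent.Lib.Helper15DiagLft Groth.Agent.Lib.Helper15MonoUnram
  Groth.Agent.Lib.Helper15DiagDescent Groth.Agent.Lib.Helper15SpMapRep

section LL

variable {S : Scheme.{u}} {𝒳 𝒴 𝒰 𝒲 : AlgSt.Cat S}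

theorem locLift_of_hasSchemeCovers (z : 𝒰 ⥤ᵇ 𝒳) (hz : HasSchemeCovers z) {T : Over S}
    (y : FibCat.overCat T ⥤ᵇ 𝒳) : LocLift z T y := by
  obtain ⟨V, v, t, ⟨κ⟩, hv⟩ := hz T y
  exact LocLift.step y v hv (LocLift.base _ t κ)

/-- Local liftings compose. -/
theorem locLift_comp (a : 𝒲 ⥤ᵇ 𝒰) (ha : HasSchemeCovers a) (z : 𝒰 ⥤ᵇ 𝒳) (hz : HasSchemeCovers z)
    {T : Over S} (y : FibCat.overCat T ⥤ᵇ 𝒳) : LocLift (BasedFunctor.comp a z) T y := by
  obtain ⟨V, v, t, ⟨κ⟩, hv⟩ := hz T y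
  obtain ⟨V', v', t', ⟨κ'⟩, hv'⟩ := ha V t
  refine LocLift.step y v hv (LocLift.step _ v' hv' (LocLift.base _ t' ?_))
  exact (whiskerRightIso κ' z : _ ≅ BasedFunctor.comp (AlgSt.overMap v') (BasedFunctor.comp t z)) ≪≫
    whiskerLeftIso (AlgSt.overMap v') κ

theorem aux_lift2 {D : Type*} [Category D] {X Y Z W : D} (A : X ⟶ Y) (I : Y ⟶ Z) (B' : Z ⟶ W)
    (B : W ⟶ Z) (h : B' ≫ B = 𝟙 Z) : A ≫ I = (A ≫ I ≫ B') ≫ B := by
  rw [Category.assoc, Category.assoc, h, Category.comp_id]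

/-- Inner induction: the second component lifts locally. -/
theorem locLift_relProd_inner (u : 𝒰 ⥤ᵇ 𝒳) (f : 𝒳 ⥤ᵇ 𝒴) {T : Over S}
    (y : FibCat.overCat T ⥤ᵇ 𝒳) (hy : LocLift u T y) :
    ∀ (w : FibCat.overCat T ⥤ᵇ FibCat.fp f f) (_ : y ≅ BasedFunctor.comp w (FibCat.fpSnd f f))
      (t₁ : FibCat.overCat T ⥤ᵇ 𝒰)
      (_ : BasedFunctor.comp t₁ u ≅ BasedFunctor.comp w (FibCat.fpFst f f)),
      LocLift (relProd u u f) T w := by
  induction hy with
  | base y t₂ κ₂ =>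
    intro w ι t₁ κ₁
    let e₁ : BasedFunctor.comp t₁ u ≅ BasedFunctor.comp w (FibCat.fpFst f f) := κ₁
    let e₂ : BasedFunctor.comp t₂ u ≅ BasedFunctor.comp w (FibCat.fpSnd f f) := κ₂ ≪≫ ι
    let τ : BasedFunctor.comp t₁ (BasedFunctor.comp u f) ≅
        BasedFunctor.comp t₂ (BasedFunctor.comp u f) :=
      (whiskerRightIso e₁ f : _ ≅ BasedFunctor.comp w (BasedFunctor.comp (FibCat.fpFst f f) f)) ≪≫
      (whiskerLeftIso w (FibCat.fpIso f f) : _ ≅
        BasedFunctor.comp (BasedFunctor.comp w (FibCat.fpSnd f f)) f) ≪≫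
      (whiskerRightIso e₂ f).symm
    let t : FibCat.overCat _ ⥤ᵇ FibCat.fp (BasedFunctor.comp u f) (BasedFunctor.comp u f) :=
      FibCat.fpLift t₁ t₂ τ
    have κ : BasedFunctor.comp t (relProd u u f) ≅ w :=
      fpIsoMk f f (H := BasedFunctor.comp t (relProd u u f)) (K := w) e₁ e₂ (fun a => by
        refine aux_lift2 (f.map (bApp e₁ a).hom) (w.obj a).obj.iso.hom (f.map (bApp e₂ a).inv)
          (f.map (bApp e₂ a).hom) ?_
        rw [← f.toFunctor.map_comp, Iso.inv_hom_id, f.toFunctor.map_id])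
    exact LocLift.base w t κ
  | step y v hv _ ih =>
    intro w ι t₁ κ₁
    exact LocLift.step w v hv (ih (BasedFunctor.comp (AlgSt.overMap v) w)
      (whiskerLeftIso (AlgSt.overMap v) ι) (BasedFunctor.comp (AlgSt.overMap v) t₁)
      (whiskerLeftIso (AlgSt.overMap v) κ₁))

/-- Outer induction: the first component lifts locally. -/
theorem locLift_relProd_outer (u : 𝒰 ⥤ᵇ 𝒳)
    (hu : ∀ (T : Over S) (y : FibCat.overCat T ⥤ᵇ 𝒳), LocLift u T y) (f : 𝒳 ⥤ᵇ 𝒴) {T : Over S}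
    (y : FibCat.overCat T ⥤ᵇ 𝒳) (hy : LocLift u T y) :
    ∀ (w : FibCat.overCat T ⥤ᵇ FibCat.fp f f) (_ : y ≅ BasedFunctor.comp w (FibCat.fpFst f f)),
      LocLift (relProd u u f) T w := by
  induction hy with
  | base y t₁ κ₁ =>
    intro w ι
    exact locLift_relProd_inner u f _ (hu _ _) w (Iso.refl _) t₁ (κ₁ ≪≫ ι)
  | step y v hv _ ih =>
    intro w ι
    exact LocLift.step w v hv (ih (BasedFunctor.comp (AlgSt.overMap v) w)
      (whiskerLeftIso (AlgSt.overMap v) ι))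

theorem locLift_relProd' (u : 𝒰 ⥤ᵇ 𝒳)
    (hu : ∀ (T : Over S) (y : FibCat.overCat T ⥤ᵇ 𝒳), LocLift u T y) (f : 𝒳 ⥤ᵇ 𝒴) {T : Over S}
    (w : FibCat.overCat T ⥤ᵇ FibCat.fp f f) : LocLift (relProd u u f) T w :=
  locLift_relProd_outer u hu f _ (hu T _) w (Iso.refl _)

/-- The chart criterion for properties of the diagonal, with iterated local liftings. -/
theorem repByAlgSpWith_diag_of_chart' (Q : MorphismProperty (AlgSp.Sp S)) (hQb : BCStable Q)
    (hQloc : AlgSp.IsLocalOnBase AlgSp.IsFppfCover Q)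
    (hcancel : ∀ {X Y Z : AlgSp.Space S} (f : X ⟶ Y) (g : Y ⟶ Z), Q (f ≫ g).hom → Q f.hom)
    (hX : AlgSt.RepByAlgSp1 (FibCat.diag (FibCat.toSelf 𝒳)))
    (hY : AlgSt.RepByAlgSp1 (FibCat.diag (FibCat.toSelf 𝒴)))
    {U : Over S} (u : FibCat.overCat U ⥤ᵇ 𝒳)
    (hu : ∀ (T : Over S) (y : FibCat.overCat T ⥤ᵇ 𝒳), LocLift u T y)
    (huQ : AlgSt.RepByAlgSpWith Q u) (f : 𝒳 ⥤ᵇ 𝒴) :
    AlgSt.RepByAlgSpWith Q (FibCat.diag f) := by
  have hΔ : AlgSt.RepByAlgSp1 (FibCat.diag f) := repByAlgSp1_diag_of_diag f hX hY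
  have h𝒜 : AlgSt.RepByAlgSp (FibCat.fp u u) := repByAlgSp1_of_repByAlgSp1_diag hX U u U u
  have hℬ : AlgSt.RepByAlgSp (FibCat.fp (BasedFunctor.comp u f) (BasedFunctor.comp u f)) :=
    repByAlgSp1_of_repByAlgSp1_diag hY U (BasedFunctor.comp u f) U (BasedFunctor.comp u f)
  have h1 : AlgSt.RepByAlgSpWith Q (FibCat.fpFst u u) := repByAlgSpWith_fpFst Q u u huQ
  have h2 : AlgSt.RepByAlgSpWith Q (toRel u u f) :=
    repByAlgSpWith_of_comp_to_slice Q hQb hcancel h𝒜 hℬ (toRel u u f)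
      (FibCat.fpFst (BasedFunctor.comp u f) (BasedFunctor.comp u f)) h1
  have h3 : AlgSt.RepByAlgSpWith Q (FibCat.fpFst (relProd u u f) (FibCat.diag f)) :=
    (repByAlgSpWith_of_square Q (FibCat.fpFst (relProd u u f) (FibCat.diag f)) (toRel u u f)
      (magicRel u u f) (BasedFunctor.id _) (isEquivOver_magicRel u u f) (isEquivOver_id _)
      (Iso.refl _)).2 h2
  exact repByAlgSpWith_of_fpFst_of_locLift Q hQloc (FibCat.diag f) hΔ (relProd u u f)
    (fun T w => locLift_relProd' u hu f w) h3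

end LL

section Atlas

variable {S : Scheme.{u}}

/-- The functor of a representable etale surjective chart of an algebraic space has every property
enjoyed by representable etale surjective morphisms to schemes. -/
theorem repByAlgSpWith_atlas (Q : MorphismProperty (AlgSp.Sp S))
    (hQ : ∀ (X : AlgSp.Space S) (T : Over S) (s : X.obj ⟶ (AlgSp.yon S).obj T),
      AlgSp.RepWith @Etale s → AlgSp.RepWith @Surjective s → Q s)
    (W : AlgSp.Space S) {U : Over S} (a : (AlgSp.yon S).obj U ⟶ W.obj)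
    (hae : AlgSp.RepWith @Etale a) (has : AlgSp.RepWith @Surjective a) :
    AlgSt.RepByAlgSpWith Q (BasedFunctor.comp (AlgSt.ofOverCat U) (AlgSt.ofSpMap a)) := by
  have h1 : AlgSt.RepByAlgSpWith Q (AlgSt.ofSpMap a) := by
    intro T y
    let UU : AlgSp.Space S := ⟨(AlgSp.yon S).obj U, AlgSp.IsAlgSpace.yon_obj U⟩
    let a₁ : UU ⟶ W := ObjectProperty.homMk a
    obtain ⟨P', E, fst, hE, sq⟩ := exists_pullback_fp a.hom y
    obtain ⟨hs, hA⟩ := (repBySp_of_spaces UU W a₁.hom) _ fst _ sq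
    let V' : AlgSp.Space S := ⟨⟨P', hs⟩, hA⟩
    refine ⟨V', E, hE, ?_⟩
    let ξ : (AlgSp.yon S).obj T ⟶ W.obj :=
      ObjectProperty.homMk (uliftYonedaEquiv.symm (pshSec y (Over.mk (𝟙 T))))
    let b' : V'.obj ⟶ (AlgSp.yon S).obj U := ObjectProperty.homMk fst
    have sq' : IsPullback b'
        (AlgSt.spMapOfOver (BasedFunctor.comp E (FibCat.fpFst y (AlgSt.ofSpMap a)))) a ξ :=
      IsPullback.of_map_of_faithful (sheafToPresheaf (AlgSp.J S) (Type (u + 1))) sq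
    exact hQ V' T _
      (MorphismProperty.of_isPullback (P := AlgSp.RepWith (S := S) @Etale) sq' hae)
      (MorphismProperty.of_isPullback (P := AlgSp.RepWith (S := S) @Surjective) sq' has)
  exact (repByAlgSpWith_of_square Q (AlgSt.ofSpMap a)
    (BasedFunctor.comp (AlgSt.ofOverCat U) (AlgSt.ofSpMap a)) (AlgSt.ofOverCat U)
    (BasedFunctor.id _) (isEquivOver_ofOverCat U) (isEquivOver_id _) (Iso.refl _)).1 h1

theorem props_of_etale_surjective (X : AlgSp.Space S) (T : Over S)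
    (s : X.obj ⟶ (AlgSp.yon S).obj T) (he : AlgSp.RepWith @Etale s)
    (hs : AlgSp.RepWith @Surjective s) :
    AlgSp.LocP @Flat s ∧ AlgSp.LocP @LocallyOfFinitePresentation s ∧ AlgSp.IsSurjectiveMor s ∧
      AlgSp.LocP (@LocallyOfFiniteType ⊓ @FormallyUnramified) s ∧
      AlgSp.LocP (@LocallyQuasiFinite ⊓ @LocallyOfFiniteType) s := by
  let TT : AlgSp.Space S := ⟨(AlgSp.yon S).obj T, AlgSp.IsAlgSpace.yon_obj T⟩
  let f : X ⟶ TT := ObjectProperty.homMk s
  have het : AlgSp.IsEtaleMor f.hom := fun V φ hφ => MorphismProperty.comp_mem _ _ _ hφ he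
  have h := Groth.Agent.S10265.result f het
  have hrep : AlgSp.Representable f.hom := ((AlgSp.repWith_iff _ _).1 he).1
  exact ⟨h.2.2.1, h.2.2.2.1, (Groth.Agent.S9906.result f hrep).1 hs, h.2.2.2.2.2, h.1⟩

theorem bcStable_unramified :
    BCStable (AlgSp.LocP (S := S) (@LocallyOfFiniteType ⊓ @FormallyUnramified)) := by
  intro X₁ Y₁ X₂ Y₂ hX₁ hY₁ _ hY₂ a b a' b' sq ha
  have : MorphismProperty.ContainsIdentities
      (@LocallyOfFiniteType ⊓ @FormallyUnramified : MorphismProperty Scheme.{u}) :=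
    ⟨fun X => ⟨inferInstance, inferInstance⟩⟩
  have : MorphismProperty.IsMultiplicative
      (@LocallyOfFiniteType ⊓ @FormallyUnramified : MorphismProperty Scheme.{u}) := {}
  refine Groth.Agent.Lib.Helper12.LocPGen.locP_baseChange
    (@LocallyOfFiniteType ⊓ @FormallyUnramified)
    (fun g hg => by have := hg; exact ⟨inferInstance, inferInstance⟩)
    (fun e k _ _ h => by
      have := h.1
      have := h.2
      exact ⟨(Groth.Agent.S1180.result e k).2, (Groth.Agent.S1180.result e k).1⟩)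
    (fun u k hk h => ?_) hX₁ hY₁ hY₂ sq ha
  exact Groth.Agent.Lib.Helper12.SrcLocal.cancel_etale (@LocallyOfFiniteType ⊓ @FormallyUnramified)
    (fun j hj => by have := hj; exact ⟨inferInstance, inferInstance⟩) u k hk h

theorem bcStable_lqf :
    BCStable (AlgSp.LocP (S := S) (@LocallyQuasiFinite ⊓ @LocallyOfFiniteType)) := by
  intro X₁ Y₁ X₂ Y₂ hX₁ hY₁ _ hY₂ a b a' b' sq ha
  have : MorphismProperty.ContainsIdentities
      (@LocallyQuasiFinite ⊓ @LocallyOfFiniteType : MorphismProperty Scheme.{u}) :=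
    ⟨fun X => ⟨inferInstance, inferInstance⟩⟩
  have : MorphismProperty.IsMultiplicative
      (@LocallyQuasiFinite ⊓ @LocallyOfFiniteType : MorphismProperty Scheme.{u}) := {}
  have := Groth.Agent.Lib.Helper12.descendsAlong_locallyQuasiFinite_inf_locallyOfFiniteType.{u}
  refine Groth.Agent.Lib.Helper12.LocPGen.locP_baseChange
    (@LocallyQuasiFinite ⊓ @LocallyOfFiniteType)
    (fun g hg => by
      have := hg
      exact ⟨Groth.Agent.S10555.lqf_of_etale g, inferInstance⟩)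
    (fun e k _ _ h => by
      have := h.1
      have := h.2
      exact Groth.Agent.S1179.result e k)
    (fun u k hk h => ?_) hX₁ hY₁ hY₂ sq ha
  exact Groth.Agent.Lib.Helper12.SrcLocal.cancel_etale (@LocallyQuasiFinite ⊓ @LocallyOfFiniteType)
    (fun j hj => by
      have := hj
      exact ⟨Groth.Agent.S10555.lqf_of_etale j, inferInstance⟩) u k hk h

end Atlas

section Final

variable {S : Scheme.{u}} {𝒳 𝒴 : AlgSt.Cat S}

/-- The chart criterion for properties of the diagonal, for a flat, locally finitely presented,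
surjective chart from an algebraic space. -/
theorem repByAlgSpWith_diag_of_space_chart (Q : MorphismProperty (AlgSp.Sp S)) (hQb : BCStable Q)
    (hQloc : AlgSp.IsLocalOnBase AlgSp.IsFppfCover Q)
    (hcancel : ∀ {X Y Z : AlgSp.Space S} (f : X ⟶ Y) (g : Y ⟶ Z), Q (f ≫ g).hom → Q f.hom)
    (hcomp : CompCond Q)
    (hQet : ∀ (X : AlgSp.Space S) (T : Over S) (s : X.obj ⟶ (AlgSp.yon S).obj T),
      AlgSp.RepWith @Etale s → AlgSp.RepWith @Surjective s → Q s)
    (hX : AlgSt.RepByAlgSp1 (FibCat.diag (FibCat.toSelf 𝒳)))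
    (hY : AlgSt.RepByAlgSp1 (FibCat.diag (FibCat.toSelf 𝒴)))
    (W : AlgSp.Space S) (w : AlgSt.ofSp W.obj ⥤ᵇ 𝒳)
    (hw₁ : AlgSt.RepByAlgSpWith (AlgSp.LocP @Flat) w)
    (hw₂ : AlgSt.RepByAlgSpWith (AlgSp.LocP @LocallyOfFinitePresentation) w)
    (hw₃ : AlgSt.RepByAlgSpWith AlgSp.IsSurjectiveMor w)
    (hw₄ : AlgSt.RepByAlgSpWith Q w) (f : 𝒳 ⥤ᵇ 𝒴) :
    AlgSt.RepByAlgSpWith Q (FibCat.diag f) := by
  obtain ⟨U, a, hae, has⟩ := W.property.atlas
  let a' : FibCat.overCat U ⥤ᵇ AlgSt.ofSp W.obj :=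
    BasedFunctor.comp (AlgSt.ofOverCat U) (AlgSt.ofSpMap a)
  have ha₁ : AlgSt.RepByAlgSpWith (AlgSp.LocP @Flat) a' :=
    repByAlgSpWith_atlas _ (fun X T s he hs => (props_of_etale_surjective X T s he hs).1) W a hae has
  have ha₂ : AlgSt.RepByAlgSpWith (AlgSp.LocP @LocallyOfFinitePresentation) a' :=
    repByAlgSpWith_atlas _ (fun X T s he hs => (props_of_etale_surjective X T s he hs).2.1) W a hae
      has
  have ha₃ : AlgSt.RepByAlgSpWith AlgSp.IsSurjectiveMor a' :=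
    repByAlgSpWith_atlas _ (fun X T s he hs => (props_of_etale_surjective X T s he hs).2.2.1) W a hae
      has
  have ha₄ : AlgSt.RepByAlgSpWith Q a' := repByAlgSpWith_atlas Q hQet W a hae has
  have hu : ∀ (T : Over S) (y : FibCat.overCat T ⥤ᵇ 𝒳),
      LocLift (BasedFunctor.comp a' w) T y := fun T y =>
    locLift_comp a' (hasSchemeCovers_of_cover a' ha₁ ha₂ ha₃) w
      (hasSchemeCovers_of_cover w hw₁ hw₂ hw₃) y
  have huQ : AlgSt.RepByAlgSpWith Q (BasedFunctor.comp a' w) :=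
    repByAlgSpWith_comp_of_compCond (isFibSet_overForget U).1 (isFibSetoid_ofPsh W.obj.obj).1 Q hcomp
      a' w ha₄ hw₄
  exact repByAlgSpWith_diag_of_chart' Q hQb hQloc hcancel hX hY (BasedFunctor.comp a' w) hu huQ f

theorem isDMOver_of_unramified_cover {𝒳 : AlgSt.Cat S}
    (hX : AlgSt.RepByAlgSp1 (FibCat.diag (FibCat.toSelf 𝒳)))
    (W : AlgSp.Space S) (w : AlgSt.ofSp W.obj ⥤ᵇ 𝒳)
    (hw₁ : AlgSt.RepByAlgSpWith (AlgSp.LocP @Flat) w)
    (hw₂ : AlgSt.RepByAlgSpWith (AlgSp.LocP @LocallyOfFinitePresentation) w)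
    (hw₃ : AlgSt.RepByAlgSpWith AlgSp.IsSurjectiveMor w)
    (hw₄ : AlgSt.RepByAlgSpWith (AlgSp.LocP (@LocallyOfFiniteType ⊓ @FormallyUnramified)) w) :
    AlgSt.IsDMOver 𝒳 :=
  repByAlgSpWith_diag_of_space_chart _ bcStable_unramified
    (isLocalOnBase_fppf_of_fpqc _ (Groth.Agent.S10543.result S))
    (fun f g h => Groth.Agent.S10263.result f g h)
    Groth.Agent.Lib.Helper15DiagComp.compCond_locP_unramified
    (fun X T s he hs => (props_of_etale_surjective X T s he hs).2.2.2.1) hX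
    (repByAlgSp1_diag_toSelf_iff.2 (fun U x V y => repByAlgSp_fp_selfOver V U y x))
    W w hw₁ hw₂ hw₃ hw₄ (FibCat.toSelf 𝒳)

theorem isQuasiDMOver_of_lqf_cover {𝒳 : AlgSt.Cat S}
    (hX : AlgSt.RepByAlgSp1 (FibCat.diag (FibCat.toSelf 𝒳)))
    (W : AlgSp.Space S) (w : AlgSt.ofSp W.obj ⥤ᵇ 𝒳)
    (hw₁ : AlgSt.RepByAlgSpWith (AlgSp.LocP @Flat) w)
    (hw₂ : AlgSt.RepByAlgSpWith (AlgSp.LocP @LocallyOfFinitePresentation) w)
    (hw₃ : AlgSt.RepByAlgSpWith AlgSp.IsSurjectiveMor w)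
    (hw₄ : AlgSt.RepByAlgSpWith (AlgSp.LocP (@LocallyQuasiFinite ⊓ @LocallyOfFiniteType)) w) :
    AlgSt.IsQuasiDMOver 𝒳 :=
  repByAlgSpWith_diag_of_space_chart _ bcStable_lqf
    (isLocalOnBase_fppf_of_fpqc _ (Groth.Agent.S10541.result S).1)
    (fun f g h => Groth.Agent.S9956.result f g h)
    Groth.Agent.Lib.Helper15DiagComp.compCond_locP_lqf
    (fun X T s he hs => (props_of_etale_surjective X T s he hs).2.2.2.2) hX
    (repByAlgSp1_diag_toSelf_iff.2 (fun U x V y => repByAlgSp_fp_selfOver V U y x))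
    W w hw₁ hw₂ hw₃ hw₄ (FibCat.toSelf 𝒳)

end Final

end Groth.Agent.Lib.Helper15ChartSp
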