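-- helper15: cancellation of a covering functor on the source for properties local on the source.
import Mathlib
import Groth.Agent.Lib.Helper15ChartSp
import Groth.Agent.S10542
import Groth.Agent.S10544
import Groth.Agent.S10527
import Groth.Agent.S10530

set_option autoImplicit false
set_option backward.isDefEq.respectTransparency false
set_option backward.isDefEq.respectTransparency.types false
open CategoryTheory CategoryTheory.Functor CategoryTheory.Limits Opposite AlgebraicGeometry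

universe u

namespace Groth.Agent.Lib.Helper15SrcCancel

open Groth.Agent.Lib.Helper17 Groth.Agent.Lib.Helper15PshFib Groth.Agent.Lib.Helper15RepComp
  Groth.Agent.Lib.Helper15RepPsh Groth.Agent.Lib.Helper15DiagBase Groth.Agent.Lib.Helper15DiagRepSp
  Groth.Agent.Lib.Helper15Descent Groth.Agent.Lib.Helper15DiagLft
  Groth.Agent.Lib.Helper15DiagDescent Groth.Agent.Lib.Helper15SpMapRep

section X

variable {S : Scheme.{u}} {𝒳 𝒴 : AlgSt.Cat S}

/-- The 2-fibre product of a functor representable by algebraic spaces with a functor from the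
category of an algebraic space is the category of an algebraic space; its base changes to schemes
have every property `Q` for which the functor is representable by algebraic spaces with `Q`. -/
theorem exists_space_map_all (h𝒳 : FibCat.IsFibGrpd 𝒳.p) (h𝒴 : FibCat.IsFibGrpd 𝒴.p)
    (f : 𝒳 ⥤ᵇ 𝒴) (hf1 : AlgSt.RepByAlgSp1 f) (G : AlgSp.Space S) (y : AlgSt.ofSp G.obj ⥤ᵇ 𝒴) :
    ∃ (H : AlgSp.Space S) (a : H ⟶ G) (E : AlgSt.ofSp H.obj ⥤ᵇ FibCat.fp y f),
      FibCat.IsEquivOver E ∧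
      a.hom.hom = pshMapOf (BasedFunctor.comp E (FibCat.fpFst y f)) ∧
      ∀ (Q : MorphismProperty (AlgSp.Sp S)), AlgSt.RepByAlgSpWith Q f →
        ∀ (T : Over S) (ξ : (AlgSp.yon S).obj T ⟶ G.obj),
          ∃ (F_T : AlgSp.Space S) (fst : F_T.obj ⟶ H.obj) (snd : F_T.obj ⟶ (AlgSp.yon S).obj T),
            IsPullback fst snd a.hom ξ ∧ Q snd := by
  have hfaith : f.toFunctor.Faithful := faithful_of_repByAlgSp1 h𝒳 h𝒴 f hf1
  have hW : FibCat.IsFibSetoid (FibCat.fp y f).p :=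
    isFibSetoid_fp_left y f (isFibSetoid_ofPsh G.obj.obj) h𝒳 h𝒴
  obtain ⟨P, E, hE⟩ := exists_psh_equivOver (FibCat.fp y f) hW
  let a : P ⟶ G.obj.obj := pshMapOf (BasedFunctor.comp E (FibCat.fpFst y f))
  have key : ∀ (Q : MorphismProperty (AlgSp.Sp S)), AlgSt.RepByAlgSpWith Q f →
      ∀ (T : Over S) (x : G.obj.obj.obj (op T)),
      ∃ (F_T : AlgSp.Space S) (p₂ : F_T.obj.obj ⟶ P) (snd : F_T.obj ⟶ (AlgSp.yon S).obj T),
        IsPullback p₂ snd.hom a (uliftYonedaEquiv.symm x) ∧ Q snd := by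
    intro Q hf T x
    have hfst : AlgSt.RepByAlgSpWith Q (FibCat.fpFst y f) := repByAlgSpWith_fpFst Q f y hf
    have ha : AlgSt.RepByAlgSpWith Q (Stk.ofPshMap a) :=
      (repByAlgSpWith_of_square Q (FibCat.fpFst y f) (Stk.ofPshMap a) E (BasedFunctor.id _) hE
        (isEquivOver_id _) (ofPshMapIso _)).1 hfst
    obtain ⟨F_T, e_T, he_T, hQ⟩ := ha T (pshOfSection x)
    exact ⟨F_T, _, _, isPullback_of_isEquivOver a x e_T he_T, hQ⟩
  have hftop : AlgSt.RepByAlgSpWith (⊤ : MorphismProperty (AlgSp.Sp S)) f := fun U y => by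
    obtain ⟨F, e, he⟩ := hf1 U y
    exact ⟨F, e, he, trivial⟩
  have hRep : AlgSp.RepBySp a := by
    intro U ξ F' fst snd sq
    obtain ⟨F_T, p₂, snd', sq', -⟩ := key ⊤ hftop U (uliftYonedaEquiv ξ)
    rw [Equiv.symm_apply_apply] at sq'
    exact ((AlgSp.isAlgSpaceP_obj_iff F_T.obj).2 F_T.property).of_iso (sq'.isoIsPullback _ _ sq)
  obtain ⟨h, hAlg⟩ := Groth.Agent.S10091.result S P G.obj.obj a hRep
    ((AlgSp.isAlgSpaceP_obj_iff G.obj).2 G.property)
  let H : AlgSp.Space S := ⟨⟨P, h⟩, hAlg⟩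
  let a₀ : H.obj ⟶ G.obj := ObjectProperty.homMk a
  refine ⟨H, ObjectProperty.homMk a₀, E, hE, rfl, fun Q hf T ξ => ?_⟩
  obtain ⟨F_T, p₂, snd, sq, hQ⟩ := key Q hf T (uliftYonedaEquiv ξ.hom)
  rw [Equiv.symm_apply_apply] at sq
  refine ⟨F_T, ObjectProperty.homMk p₂, snd, ?_, hQ⟩
  exact IsPullback.of_map_of_faithful (sheafToPresheaf (AlgSp.J S) (Type (u + 1))) sq

end X

section Core

variable {S : Scheme.{u}} {𝒳 𝒴 𝒵 : AlgSt.Cat S}

/-- Cancellation of a covering functor on the source of a functor representable by algebraic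
spaces, for a property local on the source for the covering notion `τ`. -/
theorem repByAlgSpWith_of_comp_of_cover (h𝒳 : FibCat.IsFibGrpd 𝒳.p) (h𝒴 : FibCat.IsFibGrpd 𝒴.p)
    (P : MorphismProperty (AlgSp.Sp S)) (hPb : BCStable P)
    (τ : AlgSp.CovNotion S) (hP' : AlgSp.IsLocalOnSource τ P)
    (x : 𝒳 ⥤ᵇ 𝒴) (y : 𝒴 ⥤ᵇ 𝒵) (hy : AlgSt.RepByAlgSp1 y) (hx1 : AlgSt.RepByAlgSp1 x)
    (hcov : ∀ (H G : AlgSp.Space S) (a : H ⟶ G),
      (∀ (Q : MorphismProperty (AlgSp.Sp S)), AlgSt.RepByAlgSpWith Q x →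
        ∀ (T : Over S) (ξ : (AlgSp.yon S).obj T ⟶ G.obj),
          ∃ (F_T : AlgSp.Space S) (fst : F_T.obj ⟶ H.obj) (snd : F_T.obj ⟶ (AlgSp.yon S).obj T),
            IsPullback fst snd a.hom ξ ∧ Q snd) →
      τ (fun _ : PUnit.{u + 1} => H.obj) (fun _ => a.hom))
    (h : AlgSt.RepByAlgSpWith P (BasedFunctor.comp x y)) : AlgSt.RepByAlgSpWith P y := by
  intro U z
  obtain ⟨G, e_G, he_G⟩ := hy U z
  refine ⟨G, e_G, he_G, ?_⟩
  let z' : AlgSt.ofSp G.obj ⥤ᵇ 𝒴 := BasedFunctor.comp e_G (FibCat.fpSnd z y)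
  obtain ⟨H, a, E, hE, haE, hpb⟩ := exists_space_map_all h𝒳 h𝒴 x hx1 G z'
  have := IsEquivOver.isEquivalence (BasedFunctor.id 𝒴) (isEquivOver_id 𝒴)
  let M : FibCat.fp z' x ⥤ᵇ FibCat.fp (FibCat.fpSnd z y) x :=
    fpMap (FibCat.fpSnd z y) x z' x e_G (BasedFunctor.id 𝒳) (BasedFunctor.id 𝒴) (Iso.refl _)
      (Iso.refl _)
  have hM : FibCat.IsEquivOver M :=
    isEquivOver_fpMap (FibCat.fpSnd z y) x z' x e_G (BasedFunctor.id 𝒳) (BasedFunctor.id 𝒴)
      (Iso.refl _) (Iso.refl _) he_G (isEquivOver_id 𝒳)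
  let R := pasteR z x y
  have hR : FibCat.IsEquivOver R := isEquivOver_pasteR z x y
  let E' : AlgSt.ofSp H.obj ⥤ᵇ FibCat.fp z (BasedFunctor.comp x y) :=
    BasedFunctor.comp E (BasedFunctor.comp M R)
  have hE' : FibCat.IsEquivOver E' := IsEquivOver.comp _ _ hE (IsEquivOver.comp _ _ hM hR)
  let b : G.obj ⟶ (AlgSp.yon S).obj U := AlgSt.spMapOfOver (BasedFunctor.comp e_G (FibCat.fpFst z y))
  have hab : AlgSt.spMapOfOver (BasedFunctor.comp E' (FibCat.fpFst z (BasedFunctor.comp x y))) =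
      a.hom ≫ b := by
    apply ObjectProperty.hom_ext
    apply NatTrans.ext
    funext T
    ext s
    apply ULift.ext
    let c : (AlgSt.ofSp H.obj).obj := ⟨T.unop, s⟩
    change ovSec (BasedFunctor.comp E' (FibCat.fpFst z (BasedFunctor.comp x y))) c =
      ovSec (BasedFunctor.comp e_G (FibCat.fpFst z y))
        ⟨T.unop, a.hom.hom.app T s⟩
    rw [haE]
    change ovSec (BasedFunctor.comp E' (FibCat.fpFst z (BasedFunctor.comp x y))) c =
      ovSec (BasedFunctor.comp e_G (FibCat.fpFst z y))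
        ⟨T.unop, pshSec (BasedFunctor.comp E (FibCat.fpFst z' x)) c⟩
    exact (ovSec_congr_obj (BasedFunctor.comp E' (FibCat.fpFst z (BasedFunctor.comp x y)))
      (BasedFunctor.comp (BasedFunctor.comp E (FibCat.fpFst z' x))
        (BasedFunctor.comp e_G (FibCat.fpFst z y))) c rfl).trans
      (ovSec_pshSec (BasedFunctor.comp E (FibCat.fpFst z' x))
        (BasedFunctor.comp e_G (FibCat.fpFst z y)) c)
  -- the composite has `P`
  have hPab : P (a.hom ≫ b) := by
    rw [← hab]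
    obtain ⟨F, e, he, hPe⟩ := h U z
    obtain ⟨i, hi⟩ := exists_iso_of_two_reps (BasedFunctor.comp x y) z F.obj e he H.obj E' hE'
    rw [← hi]
    exact precomp_iso_of_bcStable P hPb H.property F.property (AlgSp.IsAlgSpace.yon_obj U) i _ hPe
  exact (hP' (fun _ : PUnit.{u + 1} => H.obj) (fun _ => a.hom) G.property (fun _ => H.property)
    (hcov H G a hpb) b (AlgSp.IsAlgSpace.yon_obj U)).2 (fun _ => hPab)

end Core

section Cov

variable {S : Scheme.{u}}

/-- A representable etale surjective chart of an algebraic space is an fppf covering. -/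
theorem isFppfCover_atlas (G : AlgSp.Space S) {W : Over S} (s : (AlgSp.yon S).obj W ⟶ G.obj)
    (hse : AlgSp.RepWith @Etale s) (hss : AlgSp.RepWith @Surjective s) :
    AlgSp.IsFppfCover (fun _ : PUnit.{u + 1} => (AlgSp.yon S).obj W) (fun _ => s) := by
  let WW : AlgSp.Space S := ⟨(AlgSp.yon S).obj W, AlgSp.IsAlgSpace.yon_obj W⟩
  let f : WW ⟶ G := ObjectProperty.homMk s
  have het : AlgSp.IsEtaleMor f.hom := fun V φ hφ => MorphismProperty.comp_mem _ _ _ hφ hse
  have h := Groth.Agent.S10265.result f het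
  have hrep : AlgSp.Representable f.hom := ((AlgSp.repWith_iff _ _).1 hse).1
  have hsurj : AlgSp.IsSurjectiveMor f.hom := (Groth.Agent.S9906.result f hrep).1 hss
  exact ⟨fun _ => ⟨h.2.2.1, h.2.2.2.1⟩, fun x => ⟨PUnit.unit, hsurj x⟩⟩

/-- A property that is fppf local on the base holds for a morphism of algebraic spaces all of
whose base changes to schemes have it. -/
theorem prop_of_baseChange_to_schemes (Q : MorphismProperty (AlgSp.Sp S))
    (hQ : AlgSp.IsLocalOnBase AlgSp.IsFppfCover Q) {H G : AlgSp.Space S} (a : H ⟶ G)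
    (hpb : ∀ (T : Over S) (ξ : (AlgSp.yon S).obj T ⟶ G.obj),
      ∃ (F_T : AlgSp.Space S) (fst : F_T.obj ⟶ H.obj) (snd : F_T.obj ⟶ (AlgSp.yon S).obj T),
        IsPullback fst snd a.hom ξ ∧ Q snd) : Q a.hom := by
  obtain ⟨W, s, hse, hss⟩ := G.property.atlas
  obtain ⟨F_W, fst, snd, sq, hQs⟩ := hpb W s
  exact (hQ (fun _ : PUnit.{u + 1} => (AlgSp.yon S).obj W) (fun _ => s) G.property
    (fun _ => AlgSp.IsAlgSpace.yon_obj W) (isFppfCover_atlas G s hse hss) a.hom H.property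
    (fun _ => F_W.obj) (fun _ => snd) (fun _ => fst) (fun _ => F_W.property) (fun _ => sq)).2
    (fun _ => hQs)

/-- A morphism of sheaves all of whose base changes to schemes are surjective is surjective. -/
theorem isSurjectiveMor_of_baseChange_to_schemes {H G : AlgSp.Sp S} (a : H ⟶ G)
    (hpb : ∀ (T : Over S) (ξ : (AlgSp.yon S).obj T ⟶ G),
      ∃ (F_T : AlgSp.Sp S) (fst : F_T ⟶ H) (snd : F_T ⟶ (AlgSp.yon S).obj T),
        IsPullback fst snd a ξ ∧ AlgSp.IsSurjectiveMor snd) : AlgSp.IsSurjectiveMor a := by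
  intro x
  induction x using AlgSp.Points.ind with
  | h p =>
    let T : Over S := p.pt
    let ξ : (AlgSp.yon S).obj T ⟶ G := ObjectProperty.homMk (uliftYonedaEquiv.symm p.val)
    let q₀ : AlgSp.FieldPt ((AlgSp.yon S).obj T) := ⟨p.K, p.str, ⟨𝟙 _⟩⟩
    obtain ⟨F_T, fst, snd, sq, hs⟩ := hpb T ξ
    obtain ⟨r, hr⟩ := hs (AlgSp.Points.mk q₀)
    refine ⟨AlgSp.Points.map fst r, ?_⟩
    rw [← AlgSp.Points.map_comp, sq.w, AlgSp.Points.map_comp, hr, AlgSp.Points.map_mk]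
    congr 1
    cases p with
    | mk K str val =>
      change AlgSp.FieldPt.mk K str _ = _
      congr 1
      exact (uliftYonedaEquiv.{u + 1}).apply_symm_apply val

end Cov

section Final

variable {S : Scheme.{u}} {𝒳 𝒴 𝒵 : AlgSt.Cat S}

theorem repByAlgSp1_of_repByAlgSpWith (Q : MorphismProperty (AlgSp.Sp S)) (x : 𝒳 ⥤ᵇ 𝒴)
    (hx : AlgSt.RepByAlgSpWith Q x) : AlgSt.RepByAlgSp1 x := fun U y => by
  obtain ⟨F, e, he, -⟩ := hx U y
  exact ⟨F, e, he⟩

/-- Cancellation of a surjective functor with a property `C` that is fppf local on the base, for a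
property local on the source for the coverings by morphisms with `C`. -/
theorem repByAlgSpWith_of_comp_of_isCover (h𝒳 : FibCat.IsFibGrpd 𝒳.p) (h𝒴 : FibCat.IsFibGrpd 𝒴.p)
    (P : MorphismProperty (AlgSp.Sp S)) (hPb : BCStable P)
    (C : MorphismProperty (AlgSp.Sp S)) (hC : AlgSp.IsLocalOnBase AlgSp.IsFppfCover C)
    (hP' : AlgSp.IsLocalOnSource (fun _ _ Y g => AlgSp.IsCover C Y g) P)
    (x : 𝒳 ⥤ᵇ 𝒴) (y : 𝒴 ⥤ᵇ 𝒵) (hy : AlgSt.RepByAlgSp1 y)
    (hx₁ : AlgSt.RepByAlgSpWith C x) (hx₂ : AlgSt.RepByAlgSpWith AlgSp.IsSurjectiveMor x)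
    (h : AlgSt.RepByAlgSpWith P (BasedFunctor.comp x y)) : AlgSt.RepByAlgSpWith P y := by
  refine repByAlgSpWith_of_comp_of_cover h𝒳 h𝒴 P hPb _ hP' x y hy
    (repByAlgSp1_of_repByAlgSpWith _ x hx₂) (fun H G a hpb => ⟨fun _ => ?_, fun p => ⟨PUnit.unit, ?_⟩⟩) h
  · exact prop_of_baseChange_to_schemes C hC a (hpb C hx₁)
  · refine isSurjectiveMor_of_baseChange_to_schemes a.hom (fun T ξ => ?_) p
    obtain ⟨F_T, fst, snd, sq, hs⟩ := hpb AlgSp.IsSurjectiveMor hx₂ T ξ
    exact ⟨F_T.obj, fst, snd, sq, hs⟩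

end Final

end Groth.Agent.Lib.Helper15SrcCancel
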