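-- helper17: the topology inherited by a category fibred in groupoids from its base.
import Mathlib.CategoryTheory.Sites.InducedTopology
import Groth.Prelude.Def_AlgSt
import Groth.Agent.Lib.Helper17FibCat

set_option autoImplicit false
open CategoryTheory CategoryTheory.Functor

universe v₂ u₂ v u

namespace Groth.Agent.Lib.Helper17

section InheritedTopology

variable {C : Type u} [Category.{v} C] {𝒳 : Type u₂} [Category.{v₂} 𝒳] {p : 𝒳 ⥤ C}

/-- For `p` fibred in groupoids, pushing forward commutes with pulling back sieves. -/
theorem functorPushforward_pullback_of_isFibGrpd (hp : FibCat.IsFibGrpd p) {x y : 𝒳} (φ : y ⟶ x)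
    (S : Sieve x) :
    (S.pullback φ).functorPushforward p = (S.functorPushforward p).pullback (p.map φ) := by
  ext V g
  constructor
  · rintro ⟨z, ψ, h, hψ, rfl⟩
    exact ⟨z, ψ ≫ φ, h, hψ, by simp⟩
  · rintro ⟨z, ψ, h, hψ, e⟩
    obtain ⟨z', χ, hχ⟩ := hp.exists_lift (x := z) h
    obtain rfl := IsHomLift.domain_eq p h χ
    have hsc := hp.isStronglyCartesian φ
    have hl : p.IsHomLift (g ≫ p.map φ) (χ ≫ ψ) := by
      rw [e]
      infer_instance
    obtain ⟨τ, ⟨hτ, eτ⟩, -⟩ := IsStronglyCartesian.universal_property p (p.map φ) φ g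
      (g ≫ p.map φ) rfl (χ ≫ ψ)
    refine ⟨z', τ, 𝟙 _, ?_, ?_⟩
    · change S (τ ≫ φ)
      rw [eτ]
      exact S.downward_closed hψ χ
    · rw [Category.id_comp]
      exact IsHomLift.eq_of_isHomLift p g τ

/-- The sieves on objects of `𝒳` whose image in `C` generates a covering sieve, as a topology
(for `p` fibred in groupoids). -/
def inheritedTopology (hp : FibCat.IsFibGrpd p) (J : GrothendieckTopology C) :
    GrothendieckTopology 𝒳 where
  sieves x := {S | S.functorPushforward p ∈ J (p.obj x)}
  top_mem' x := by
    change (⊤ : Sieve x).functorPushforward p ∈ J (p.obj x)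
    rw [Sieve.functorPushforward_top]
    exact J.top_mem _
  pullback_stable' := by
    intro x y S φ hS
    change (S.pullback φ).functorPushforward p ∈ J (p.obj y)
    rw [functorPushforward_pullback_of_isFibGrpd hp]
    exact J.pullback_stable _ hS
  transitive' := by
    intro x S hS R hR
    change R.functorPushforward p ∈ J (p.obj x)
    refine J.transitive hS _ ?_
    rintro V g ⟨z, ψ, h, hψ, rfl⟩
    have h1 : (R.pullback ψ).functorPushforward p ∈ J (p.obj z) := hR hψ
    rw [functorPushforward_pullback_of_isFibGrpd hp] at h1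
    rw [Sieve.pullback_comp]
    exact J.pullback_stable _ h1

theorem mem_inheritedTopology_iff (hp : FibCat.IsFibGrpd p) (J : GrothendieckTopology C) {x : 𝒳}
    (S : Sieve x) : S ∈ inheritedTopology hp J x ↔ S.functorPushforward p ∈ J (p.obj x) :=
  Iff.rfl

theorem restrictedTopology_eq_inheritedTopology (hp : FibCat.IsFibGrpd p)
    (J : GrothendieckTopology C) : p.restrictedTopology J = inheritedTopology hp J := by
  apply le_antisymm
  · rw [Functor.restrictedTopology, Precoverage.toGrothendieck_le_iff_le_toPrecoverage]
    intro x R hR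
    rw [GrothendieckTopology.mem_toPrecoverage_iff, mem_inheritedTopology_iff,
      ← Sieve.generate_map_eq_functorPushforward]
    exact hR
  · intro x S hS
    exact Functor.mem_restrictedTopology_of_functorPushforward_mem hS

theorem mem_restrictedTopology_iff_of_isFibGrpd (hp : FibCat.IsFibGrpd p)
    (J : GrothendieckTopology C) {x : 𝒳} (S : Sieve x) :
    S ∈ p.restrictedTopology J x ↔ S.functorPushforward p ∈ J (p.obj x) := by
  rw [restrictedTopology_eq_inheritedTopology hp J]
  rfl

end InheritedTopology

end Groth.Agent.Lib.Helper17
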