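-- helper17: elementwise form of the stack conditions for a category fibred in groupoids.
import Groth.Agent.Lib.Helper17FibYoneda
import Groth.Agent.Lib.Helper17StkPsh3
import Groth.Prelude.Def_AlgSt

set_option autoImplicit false
set_option backward.isDefEq.respectTransparency false
set_option backward.isDefEq.respectTransparency.types false
open CategoryTheory CategoryTheory.Functor

universe v₂ u₂ v u

namespace Groth.Agent.Lib.Helper17.Elem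

variable {C : Type u} [Category.{v} C] {U : C} (R : Sieve U) {𝒳 : BasedCategory.{v₂, u₂} C}

/-- The morphism `φ` lies over an arrow of the sieve `R`. -/
def OverR {a x : 𝒳.obj} (φ : a ⟶ x) : Prop :=
  ∃ (W : C) (f : W ⟶ U), R f ∧ 𝒳.p.IsHomLift f φ

variable {R}

theorem OverR.precomp {a x : 𝒳.obj} {φ : a ⟶ x} (h : OverR R φ) {a' : 𝒳.obj} (ψ : a' ⟶ a) :
    OverR R (ψ ≫ φ) := by
  obtain ⟨W, f, hf, hφ⟩ := h
  have hW : 𝒳.p.obj a = W := IsHomLift.domain_eq 𝒳.p f φ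
  subst hW
  exact ⟨_, 𝒳.p.map ψ ≫ f, R.downward_closed hf _, inferInstance⟩

theorem OverR.mk {a x : 𝒳.obj} (φ : a ⟶ x) {W : C} (f : W ⟶ U) (hf : R f)
    (hφ : 𝒳.p.IsHomLift f φ) : OverR R φ := ⟨W, f, hf, hφ⟩

variable (R 𝒳)

/-- Elementwise faithfulness of restriction to the sieve. -/
def PSFaithful : Prop :=
  ∀ ⦃x y : 𝒳.obj⦄ (θ θ' : x ⟶ y), 𝒳.p.IsHomLift (𝟙 U) θ → 𝒳.p.IsHomLift (𝟙 U) θ' →
    (∀ ⦃a : 𝒳.obj⦄ (φ : a ⟶ x), OverR R φ → φ ≫ θ = φ ≫ θ') → θ = θ'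

/-- Elementwise fullness of restriction to the sieve. -/
def PSFull : Prop :=
  ∀ ⦃x y : 𝒳.obj⦄, 𝒳.p.obj x = U → 𝒳.p.obj y = U →
    ∀ (m : ∀ ⦃a : 𝒳.obj⦄ (φ : a ⟶ x), OverR R φ → (a ⟶ y)),
      (∀ ⦃a : 𝒳.obj⦄ (φ : a ⟶ x) (h : OverR R φ) ⦃W : C⦄ (f : W ⟶ U),
        𝒳.p.IsHomLift f φ → 𝒳.p.IsHomLift f (m φ h)) →
      (∀ ⦃a : 𝒳.obj⦄ (φ : a ⟶ x) (h : OverR R φ) ⦃a' : 𝒳.obj⦄ (ψ : a' ⟶ a),
        m (ψ ≫ φ) (h.precomp ψ) = ψ ≫ m φ h) →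
      ∃ θ : x ⟶ y, 𝒳.p.IsHomLift (𝟙 U) θ ∧
        ∀ ⦃a : 𝒳.obj⦄ (φ : a ⟶ x) (h : OverR R φ), φ ≫ θ = m φ h

variable {R 𝒳} in
/-- A cocone under a functor from the sieve, with vertex `x`. -/
structure Cocone (D : Stk.sieveCat R ⥤ᵇ 𝒳) (x : 𝒳.obj) where
  c : ∀ a : (Stk.sieveCat R).obj, D.obj a ⟶ x
  lift : ∀ a, 𝒳.p.IsHomLift a.obj.hom (c a)
  nat : ∀ ⦃a a' : (Stk.sieveCat R).obj⦄ (k : a ⟶ a'), D.map k ≫ c a' = c a

/-- Every functor from the sieve has a cocone with vertex over `U`. -/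
def HasCocone : Prop :=
  ∀ D : Stk.sieveCat R ⥤ᵇ 𝒳, ∃ x : 𝒳.obj, 𝒳.p.obj x = U ∧ Nonempty (Cocone D x)

variable {R 𝒳}

section Basic

/-- factorisation of a lift of `f` with target `H (𝟙 U)` through `H f` -/
theorem exists_fac_overTerm (h𝒳 : FibCat.IsFibGrpd 𝒳.p) (H : FibCat.overCat U ⥤ᵇ 𝒳)
    {b : 𝒳.obj} (φ : b ⟶ H.obj (Over.mk (𝟙 U))) {W : C} (f : W ⟶ U) (g : Over U) {k : W ⟶ g.left}
    (hk : k ≫ g.hom = f)
    (hφ : 𝒳.p.IsHomLift f φ) :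
    ∃ ι : b ⟶ H.obj g, 𝒳.p.IsHomLift k ι ∧ ι ≫ H.map (overTerm U g) = φ := by
  have := termCart_of_isFibGrpd U h𝒳 H g
  obtain ⟨ι, hι, -⟩ := IsStronglyCartesian.universal_property 𝒳.p g.hom
    (H.map (overTerm U g)) k f hk.symm φ
  exact ⟨ι, hι⟩

theorem resSieve_map_app {H H' : FibCat.overCat U ⥤ᵇ 𝒳} (α : H ⟶ H')
    (a : (Stk.sieveCat R).obj) :
    ((Stk.resSieve R 𝒳).map α).toNatTrans.app a = α.toNatTrans.app a.obj := rfl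

theorem resSieve_obj_obj (H : FibCat.overCat U ⥤ᵇ 𝒳) (a : (Stk.sieveCat R).obj) :
    ((Stk.resSieve R 𝒳).obj H).obj a = H.obj a.obj := rfl

theorem resSieve_obj_map (H : FibCat.overCat U ⥤ᵇ 𝒳) {a a' : (Stk.sieveCat R).obj} (k : a ⟶ a') :
    ((Stk.resSieve R 𝒳).obj H).map k = H.map k.hom := rfl

end Basic

section Faithful

theorem isHomLift_base_unique {𝒴 : Type u₂} [Category.{v₂} 𝒴] (p : 𝒴 ⥤ C) {a b : 𝒴} (φ : a ⟶ b)
    {W V W' : C} (f : W ⟶ V) (f' : W' ⟶ V) (h : p.IsHomLift f φ) (h' : p.IsHomLift f' φ) :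
    ∃ e : W = W', f = eqToHom e ≫ f' := by
  have e1 := IsHomLift.domain_eq p f φ
  have e2 := IsHomLift.domain_eq p f' φ
  have e3 := IsHomLift.codomain_eq p f φ
  subst e1
  subst e2
  subst e3
  refine ⟨rfl, ?_⟩
  rw [eqToHom_refl, Category.id_comp, IsHomLift.eq_of_isHomLift p f φ,
    IsHomLift.eq_of_isHomLift p f' φ]

theorem faithful_of_psFaithful (h𝒳 : FibCat.IsFibGrpd 𝒳.p) (h : PSFaithful R 𝒳) :
    (Stk.resSieve R 𝒳).Faithful := by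
  refine ⟨fun {H H'} α β hαβ => ?_⟩
  apply yoneda_faithful U (termCart_of_isFibGrpd U h𝒳 H')
  have h1 : 𝒳.p.IsHomLift (𝟙 U) (α.toNatTrans.app (Over.mk (𝟙 U))) :=
    α.isHomLift' (Over.mk (𝟙 U))
  have h2 : 𝒳.p.IsHomLift (𝟙 U) (β.toNatTrans.app (Over.mk (𝟙 U))) :=
    β.isHomLift' (Over.mk (𝟙 U))
  apply h _ _ h1 h2
  rintro b φ ⟨W, f, hf, hφ⟩
  obtain ⟨ι, hι, rfl⟩ := exists_fac_overTerm h𝒳 H φ f (Over.mk f) (k := 𝟙 W) (by simp) hφ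
  have e : α.toNatTrans.app (Over.mk f) = β.toNatTrans.app (Over.mk f) :=
    congrArg (fun t => t.toNatTrans.app (sieveObj R f hf)) hαβ
  rw [Category.assoc, Category.assoc, α.toNatTrans.naturality, β.toNatTrans.naturality, e]

theorem psFaithful_of_faithful (h𝒳 : FibCat.IsFibGrpd 𝒳.p)
    (hR : (Stk.resSieve R 𝒳).Faithful) : PSFaithful R 𝒳 := by
  intro x y θ θ' hθ hθ' h
  have hx : 𝒳.p.obj x = U := IsHomLift.domain_eq 𝒳.p (𝟙 U) θ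
  have hy : 𝒳.p.obj y = U := IsHomLift.codomain_eq 𝒳.p (𝟙 U) θ
  have := IsFibGrpd.isFibered h𝒳
  obtain ⟨e, he⟩ := yonedaFunctor_iso hx
  obtain ⟨e', he'⟩ := yonedaFunctor_iso hy
  have he'inv : 𝒳.p.IsHomLift (𝟙 U) e'.inv := IsHomLift.lift_id_inv 𝒳.p U e'
  have hm : 𝒳.p.IsHomLift (𝟙 U) (e.hom ≫ θ ≫ e'.inv) := by
    have : 𝒳.p.IsHomLift (𝟙 U ≫ 𝟙 U ≫ 𝟙 U) (e.hom ≫ θ ≫ e'.inv) := inferInstance
    simpa using this
  have hm' : 𝒳.p.IsHomLift (𝟙 U) (e.hom ≫ θ' ≫ e'.inv) := by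
    have : 𝒳.p.IsHomLift (𝟙 U ≫ 𝟙 U ≫ 𝟙 U) (e.hom ≫ θ' ≫ e'.inv) := inferInstance
    simpa using this
  have hT := termCart_of_isFibGrpd U h𝒳 (yonedaFunctor hy)
  obtain ⟨α, hα⟩ := yoneda_full U (G := yonedaFunctor hx) (H := yonedaFunctor hy) hT
    (e.hom ≫ θ ≫ e'.inv)
  obtain ⟨α', hα'⟩ := yoneda_full U (G := yonedaFunctor hx) (H := yonedaFunctor hy) hT
    (e.hom ≫ θ' ≫ e'.inv)
  have key : (Stk.resSieve R 𝒳).map α = (Stk.resSieve R 𝒳).map α' := by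
    apply BasedNatTrans.homCategory.ext
    ext a
    rw [resSieve_map_app, resSieve_map_app]
    have := hT a.obj
    have k1 : 𝒳.p.IsHomLift (𝟙 a.obj.left) (α.toNatTrans.app a.obj) := α.isHomLift' a.obj
    have k2 : 𝒳.p.IsHomLift (𝟙 a.obj.left) (α'.toNatTrans.app a.obj) := α'.isHomLift' a.obj
    apply IsStronglyCartesian.ext 𝒳.p a.obj.hom ((yonedaFunctor hy).map (overTerm U a.obj))
      (𝟙 a.obj.left)
    rw [← α.toNatTrans.naturality, ← α'.toNatTrans.naturality, hα, hα']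
    have hl : 𝒳.p.IsHomLift a.obj.hom ((yonedaFunctor hx).map (overTerm U a.obj) ≫ e.hom) := by
      have h0 : (FibCat.overCat U).p.IsHomLift a.obj.hom (overTerm U a.obj) :=
        overTerm_isHomLift U a.obj
      have : 𝒳.p.IsHomLift (a.obj.hom ≫ 𝟙 U)
        ((yonedaFunctor hx).map (overTerm U a.obj) ≫ e.hom) := inferInstance
      simpa using this
    have h3 := h _ (OverR.mk _ a.obj.hom a.property hl)
    simp only [Category.assoc] at h3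
    have h4 := congrArg (fun t => t ≫ e'.inv) h3
    simpa using h4
  have eq := hR.map_injective key
  have h5 : e.hom ≫ θ ≫ e'.inv = e.hom ≫ θ' ≫ e'.inv := by rw [← hα, ← hα', eq]
  have h6 := congrArg (fun t => e.inv ≫ t ≫ e'.hom) h5
  simpa using h6

theorem faithful_iff_psFaithful (h𝒳 : FibCat.IsFibGrpd 𝒳.p) :
    (Stk.resSieve R 𝒳).Faithful ↔ PSFaithful R 𝒳 :=
  ⟨psFaithful_of_faithful h𝒳, faithful_of_psFaithful h𝒳⟩

/-- the general form: morphisms over an arbitrary morphism of the base -/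
theorem PSFaithful.general (h𝒳 : FibCat.IsFibGrpd 𝒳.p) (h : PSFaithful R 𝒳) {x y : 𝒳.obj}
    {V : C} (g : U ⟶ V) (θ θ' : x ⟶ y) (hθ : 𝒳.p.IsHomLift g θ) (hθ' : 𝒳.p.IsHomLift g θ')
    (hh : ∀ ⦃a : 𝒳.obj⦄ (φ : a ⟶ x), OverR R φ → φ ≫ θ = φ ≫ θ') : θ = θ' := by
  have hy : 𝒳.p.obj y = V := IsHomLift.codomain_eq 𝒳.p g θ
  subst hy
  obtain ⟨y', κ, hκ⟩ := h𝒳.exists_lift (x := y) g
  have scκ := IsFibGrpd.isStronglyCartesian_of_isHomLift h𝒳 g κ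
  obtain ⟨θ₁, ⟨hθ₁, eθ₁⟩, -⟩ := IsStronglyCartesian.universal_property 𝒳.p g κ (𝟙 U) g
    (Category.id_comp g).symm θ
  obtain ⟨θ₁', ⟨hθ₁', eθ₁'⟩, -⟩ := IsStronglyCartesian.universal_property 𝒳.p g κ (𝟙 U) g
    (Category.id_comp g).symm θ'
  have : θ₁ = θ₁' := by
    apply h θ₁ θ₁' hθ₁ hθ₁'
    rintro a φ ⟨W, f, hf, hφ'⟩
    have l1 : 𝒳.p.IsHomLift f (φ ≫ θ₁) := by
      have : 𝒳.p.IsHomLift (f ≫ 𝟙 U) (φ ≫ θ₁) := inferInstance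
      simpa using this
    have l2 : 𝒳.p.IsHomLift f (φ ≫ θ₁') := by
      have : 𝒳.p.IsHomLift (f ≫ 𝟙 U) (φ ≫ θ₁') := inferInstance
      simpa using this
    apply IsStronglyCartesian.ext 𝒳.p g κ f
    rw [Category.assoc, Category.assoc, eθ₁, eθ₁']
    exact hh φ ⟨W, f, hf, hφ'⟩
  rw [← eθ₁, ← eθ₁', this]

end Faithful

section Full

/-- the general form: morphisms over an arbitrary morphism of the base -/
theorem PSFull.general (h𝒳 : FibCat.IsFibGrpd 𝒳.p) (h : PSFull R 𝒳) {x y : 𝒳.obj}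
    (hx : 𝒳.p.obj x = U) {V : C} (g : U ⟶ V) (hy : 𝒳.p.obj y = V)
    (m : ∀ ⦃a : 𝒳.obj⦄ (φ : a ⟶ x), OverR R φ → (a ⟶ y))
    (hm : ∀ ⦃a : 𝒳.obj⦄ (φ : a ⟶ x) (h : OverR R φ) ⦃W : C⦄ (f : W ⟶ U),
      𝒳.p.IsHomLift f φ → 𝒳.p.IsHomLift (f ≫ g) (m φ h))
    (hc : ∀ ⦃a : 𝒳.obj⦄ (φ : a ⟶ x) (h : OverR R φ) ⦃a' : 𝒳.obj⦄ (ψ : a' ⟶ a),
      m (ψ ≫ φ) (h.precomp ψ) = ψ ≫ m φ h) :
    ∃ θ : x ⟶ y, 𝒳.p.IsHomLift g θ ∧
      ∀ ⦃a : 𝒳.obj⦄ (φ : a ⟶ x) (h : OverR R φ), φ ≫ θ = m φ h := by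
  subst hy
  obtain ⟨y', κ, hκ⟩ := h𝒳.exists_lift (x := y) g
  have scκ := IsFibGrpd.isStronglyCartesian_of_isHomLift h𝒳 g κ
  have hy' : 𝒳.p.obj y' = U := IsHomLift.domain_eq 𝒳.p g κ
  have key : ∀ ⦃a : 𝒳.obj⦄ (φ : a ⟶ x) (hφ : OverR R φ), ∃ μ : a ⟶ y', μ ≫ κ = m φ hφ ∧
      ∀ ⦃W : C⦄ (f : W ⟶ U), 𝒳.p.IsHomLift f φ → 𝒳.p.IsHomLift f μ := by
    intro a φ hφ
    obtain ⟨W, f, hf, hφ'⟩ := id hφ
    have := hm φ hφ f hφ'
    obtain ⟨μ, ⟨hμ, eμ⟩, -⟩ := IsStronglyCartesian.universal_property 𝒳.p g κ f (f ≫ g) rfl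
      (m φ hφ)
    refine ⟨μ, eμ, fun W' f' hf' => ?_⟩
    obtain ⟨rfl, e⟩ := isHomLift_base_unique 𝒳.p φ f' f hf' hφ'
    rw [eqToHom_refl, Category.id_comp] at e
    subst e
    exact hμ
  choose m₁ hm₁ hm₁' using key
  have compat : ∀ ⦃a : 𝒳.obj⦄ (φ : a ⟶ x) (h : OverR R φ) ⦃a' : 𝒳.obj⦄ (ψ : a' ⟶ a),
      m₁ (ψ ≫ φ) (h.precomp ψ) = ψ ≫ m₁ φ h := by
    intro a φ h a' ψ
    obtain ⟨W, f, hf, hφ'⟩ := id h
    have hW : 𝒳.p.obj a = W := IsHomLift.domain_eq 𝒳.p f φ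
    subst hW
    have l0 : 𝒳.p.IsHomLift (𝒳.p.map ψ ≫ f) (ψ ≫ φ) := inferInstance
    have l1 : 𝒳.p.IsHomLift (𝒳.p.map ψ ≫ f) (m₁ (ψ ≫ φ) (h.precomp ψ)) := hm₁' _ _ _ l0
    have l2 : 𝒳.p.IsHomLift (𝒳.p.map ψ ≫ f) (ψ ≫ m₁ φ h) := by
      have := hm₁' φ h f hφ'
      infer_instance
    apply IsStronglyCartesian.ext 𝒳.p g κ (𝒳.p.map ψ ≫ f)
    rw [hm₁, Category.assoc, hm₁, hc]
  obtain ⟨θ₁, hθ₁, eθ₁⟩ := h hx hy' m₁ hm₁' compat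
  refine ⟨θ₁ ≫ κ, ?_, fun a φ hφ => ?_⟩
  · have : 𝒳.p.IsHomLift (𝟙 U ≫ g) (θ₁ ≫ κ) := inferInstance
    simpa using this
  · rw [← Category.assoc, eθ₁, hm₁]

theorem psFull_of_full (h𝒳 : FibCat.IsFibGrpd 𝒳.p) (hR : (Stk.resSieve R 𝒳).Full) :
    PSFull R 𝒳 := by
  intro x y hx hy m hm hc
  have := IsFibGrpd.isFibered h𝒳
  obtain ⟨e, he⟩ := yonedaFunctor_iso hx
  obtain ⟨e', he'⟩ := yonedaFunctor_iso hy
  have heinv : 𝒳.p.IsHomLift (𝟙 U) e.inv := IsHomLift.lift_id_inv 𝒳.p U e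
  have hT := termCart_of_isFibGrpd U h𝒳 (yonedaFunctor hy)
  have hφa : ∀ a : (Stk.sieveCat R).obj, 𝒳.p.IsHomLift a.obj.hom
      ((yonedaFunctor hx).map (overTerm U a.obj) ≫ e.hom) := by
    intro a
    have h0 : (FibCat.overCat U).p.IsHomLift a.obj.hom (overTerm U a.obj) :=
      overTerm_isHomLift U a.obj
    have : 𝒳.p.IsHomLift (a.obj.hom ≫ 𝟙 U)
      ((yonedaFunctor hx).map (overTerm U a.obj) ≫ e.hom) := inferInstance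
    simpa using this
  have hφa' : ∀ a : (Stk.sieveCat R).obj, 𝒳.p.IsHomLift a.obj.hom
      ((yonedaFunctor hy).map (overTerm U a.obj) ≫ e'.hom) := by
    intro a
    have h0 : (FibCat.overCat U).p.IsHomLift a.obj.hom (overTerm U a.obj) :=
      overTerm_isHomLift U a.obj
    have : 𝒳.p.IsHomLift (a.obj.hom ≫ 𝟙 U)
      ((yonedaFunctor hy).map (overTerm U a.obj) ≫ e'.hom) := inferInstance
    simpa using this
  have hOa : ∀ a : (Stk.sieveCat R).obj,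
      OverR R ((yonedaFunctor hx).map (overTerm U a.obj) ≫ e.hom) :=
    fun a => OverR.mk _ a.obj.hom a.property (hφa a)
  have key : ∀ a : (Stk.sieveCat R).obj, ∃ χ : (yonedaFunctor hx).obj a.obj ⟶
      (yonedaFunctor hy).obj a.obj, 𝒳.p.IsHomLift (𝟙 a.obj.left) χ ∧
      χ ≫ (yonedaFunctor hy).map (overTerm U a.obj) ≫ e'.hom = m _ (hOa a) := by
    intro a
    have := hφa' a
    have sc := IsFibGrpd.isStronglyCartesian_of_isHomLift h𝒳 a.obj.hom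
      ((yonedaFunctor hy).map (overTerm U a.obj) ≫ e'.hom)
    have := hm _ (hOa a) a.obj.hom (hφa a)
    obtain ⟨χ, hχ, -⟩ := IsStronglyCartesian.universal_property 𝒳.p a.obj.hom
      ((yonedaFunctor hy).map (overTerm U a.obj) ≫ e'.hom) (𝟙 a.obj.left) a.obj.hom
      (Category.id_comp _).symm (m _ (hOa a))
    exact ⟨χ, hχ⟩
  choose χ hχ1 hχ2 using key
  have nat : ∀ {a a' : (Stk.sieveCat R).obj} (k : a ⟶ a'),
      (yonedaFunctor hx).map k.hom ≫ χ a' = χ a ≫ (yonedaFunctor hy).map k.hom := by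
    intro a a' k
    have := hφa' a'
    have sc := IsFibGrpd.isStronglyCartesian_of_isHomLift h𝒳 a'.obj.hom
      ((yonedaFunctor hy).map (overTerm U a'.obj) ≫ e'.hom)
    have h0 : (FibCat.overCat U).p.IsHomLift k.hom.left k.hom :=
      IsHomLift.map (Over.forget U) k.hom
    have := hχ1 a
    have := hχ1 a'
    have k1 : 𝒳.p.IsHomLift k.hom.left ((yonedaFunctor hx).map k.hom ≫ χ a') := by
      have : 𝒳.p.IsHomLift (k.hom.left ≫ 𝟙 a'.obj.left)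
        ((yonedaFunctor hx).map k.hom ≫ χ a') := inferInstance
      simpa using this
    have k2 : 𝒳.p.IsHomLift k.hom.left (χ a ≫ (yonedaFunctor hy).map k.hom) := by
      have : 𝒳.p.IsHomLift (𝟙 a.obj.left ≫ k.hom.left)
        (χ a ≫ (yonedaFunctor hy).map k.hom) := inferInstance
      simpa using this
    have eG : (yonedaFunctor hx).map k.hom ≫ (yonedaFunctor hx).map (overTerm U a'.obj) =
        (yonedaFunctor hx).map (overTerm U a.obj) := by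
      rw [← (yonedaFunctor hx).map_comp]
      exact congrArg (fun t => (yonedaFunctor hx).map t) (overTerm_comp U k.hom)
    have eH : (yonedaFunctor hy).map k.hom ≫ (yonedaFunctor hy).map (overTerm U a'.obj) =
        (yonedaFunctor hy).map (overTerm U a.obj) := by
      rw [← (yonedaFunctor hy).map_comp]
      exact congrArg (fun t => (yonedaFunctor hy).map t) (overTerm_comp U k.hom)
    apply IsStronglyCartesian.ext 𝒳.p a'.obj.hom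
      ((yonedaFunctor hy).map (overTerm U a'.obj) ≫ e'.hom) k.hom.left
    rw [Category.assoc, hχ2 a', Category.assoc, ← Category.assoc ((yonedaFunctor hy).map k.hom),
      eH, hχ2 a, ← hc]
    simp only [← Category.assoc, eG]
  let β : (Stk.resSieve R 𝒳).obj (yonedaFunctor hx) ⟶ (Stk.resSieve R 𝒳).obj (yonedaFunctor hy) :=
    { toNatTrans := { app := χ, naturality := fun _ _ k => nat k }
      isHomLift' := hχ1 }
  obtain ⟨α, hα⟩ := hR.map_surjective β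
  have hαid : 𝒳.p.IsHomLift (𝟙 U) (α.toNatTrans.app (Over.mk (𝟙 U))) :=
    α.isHomLift' (Over.mk (𝟙 U))
  refine ⟨e.inv ≫ α.toNatTrans.app (Over.mk (𝟙 U)) ≫ e'.hom, ?_, ?_⟩
  · have : 𝒳.p.IsHomLift (𝟙 U ≫ 𝟙 U ≫ 𝟙 U)
      (e.inv ≫ α.toNatTrans.app (Over.mk (𝟙 U)) ≫ e'.hom) := inferInstance
    simpa using this
  · intro b φ hφ
    obtain ⟨W, f, hf, hφ'⟩ := id hφ
    have l : 𝒳.p.IsHomLift f (φ ≫ e.inv) := by
      have : 𝒳.p.IsHomLift (f ≫ 𝟙 U) (φ ≫ e.inv) := inferInstance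
      simpa using this
    obtain ⟨ι, hι, eι⟩ := exists_fac_overTerm h𝒳 (yonedaFunctor hx) (φ ≫ e.inv) f (Over.mk f)
      (k := 𝟙 W) (by simp) l
    have eφ : φ = ι ≫ ((yonedaFunctor hx).map (overTerm U (Over.mk f)) ≫ e.hom) := by
      rw [← Category.assoc, eι]
      simp
    subst eφ
    have eα : α.toNatTrans.app (Over.mk f) = χ (sieveObj R f hf) :=
      congrArg (fun t => t.toNatTrans.app (sieveObj R f hf)) hα
    have h9 : m (ι ≫ (yonedaFunctor hx).map (overTerm U (Over.mk f)) ≫ e.hom) hφ =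
        ι ≫ m _ (hOa (sieveObj R f hf)) := hc _ (hOa (sieveObj R f hf)) ι
    rw [h9, ← hχ2 (sieveObj R f hf), ← eα]
    simp only [Category.assoc, Iso.hom_inv_id_assoc]
    rw [← Category.assoc ((yonedaFunctor hx).map _), α.toNatTrans.naturality]
    simp only [Category.assoc]
    rfl

/-- independence of the chosen factorisation -/
theorem indep_aux (h𝒳 : FibCat.IsFibGrpd 𝒳.p) {H H' : FibCat.overCat U ⥤ᵇ 𝒳}
    (β : (Stk.resSieve R 𝒳).obj H ⟶ (Stk.resSieve R 𝒳).obj H') {b : 𝒳.obj}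
    (a₁ a₂ : (Stk.sieveCat R).obj) (ι₁ : b ⟶ H.obj a₁.obj) (ι₂ : b ⟶ H.obj a₂.obj) {W : C}
    (k₁ : W ⟶ a₁.obj.left) (k₂ : W ⟶ a₂.obj.left) (h₁ : 𝒳.p.IsHomLift k₁ ι₁)
    (h₂ : 𝒳.p.IsHomLift k₂ ι₂)
    (e : ι₁ ≫ H.map (overTerm U a₁.obj) = ι₂ ≫ H.map (overTerm U a₂.obj)) :
    ι₁ ≫ β.toNatTrans.app a₁ ≫ H'.map (overTerm U a₁.obj) =
      ι₂ ≫ β.toNatTrans.app a₂ ≫ H'.map (overTerm U a₂.obj) := by
  have o1 : (FibCat.overCat U).p.IsHomLift a₁.obj.hom (overTerm U a₁.obj) :=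
    overTerm_isHomLift U a₁.obj
  have o2 : (FibCat.overCat U).p.IsHomLift a₂.obj.hom (overTerm U a₂.obj) :=
    overTerm_isHomLift U a₂.obj
  have l1 : 𝒳.p.IsHomLift (k₁ ≫ a₁.obj.hom) (ι₁ ≫ H.map (overTerm U a₁.obj)) := inferInstance
  have l2 : 𝒳.p.IsHomLift (k₂ ≫ a₂.obj.hom) (ι₁ ≫ H.map (overTerm U a₁.obj)) := by
    rw [e]; infer_instance
  obtain ⟨e0, ef⟩ := isHomLift_base_unique 𝒳.p _ _ _ l1 l2
  rw [eqToHom_refl, Category.id_comp] at ef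
  -- the common object of the sieve
  let a₀ : (Stk.sieveCat R).obj := sieveObj R (k₁ ≫ a₁.obj.hom) (R.downward_closed a₁.property k₁)
  let u₁ : a₀ ⟶ a₁ := ObjectProperty.homMk (Over.homMk k₁ rfl)
  let u₂ : a₀ ⟶ a₂ := ObjectProperty.homMk (Over.homMk k₂ ef.symm)
  have hu₁ : (FibCat.overCat U).p.IsHomLift k₁ u₁.hom := IsHomLift.map (Over.forget U) u₁.hom
  have hu₂ : (FibCat.overCat U).p.IsHomLift k₂ u₂.hom := IsHomLift.map (Over.forget U) u₂.hom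
  have sc₁ := IsFibGrpd.isStronglyCartesian_of_isHomLift h𝒳 k₁ (H.map u₁.hom)
  have sc₂ := IsFibGrpd.isStronglyCartesian_of_isHomLift h𝒳 k₂ (H.map u₂.hom)
  obtain ⟨j₁, ⟨hj₁, ej₁⟩, -⟩ := IsStronglyCartesian.universal_property 𝒳.p k₁ (H.map u₁.hom)
    (𝟙 W) k₁ (Category.id_comp _).symm ι₁
  obtain ⟨j₂, ⟨hj₂, ej₂⟩, -⟩ := IsStronglyCartesian.universal_property 𝒳.p k₂ (H.map u₂.hom)
    (𝟙 W) k₂ (Category.id_comp _).symm ι₂
  have eH₁ : H.map u₁.hom ≫ H.map (overTerm U a₁.obj) = H.map (overTerm U a₀.obj) := by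
    rw [← H.map_comp]
    exact congrArg (fun t => H.map t) (overTerm_comp U u₁.hom)
  have eH₂ : H.map u₂.hom ≫ H.map (overTerm U a₂.obj) = H.map (overTerm U a₀.obj) := by
    rw [← H.map_comp]
    exact congrArg (fun t => H.map t) (overTerm_comp U u₂.hom)
  have eH₁' : H'.map u₁.hom ≫ H'.map (overTerm U a₁.obj) = H'.map (overTerm U a₀.obj) := by
    rw [← H'.map_comp]
    exact congrArg (fun t => H'.map t) (overTerm_comp U u₁.hom)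
  have eH₂' : H'.map u₂.hom ≫ H'.map (overTerm U a₂.obj) = H'.map (overTerm U a₀.obj) := by
    rw [← H'.map_comp]
    exact congrArg (fun t => H'.map t) (overTerm_comp U u₂.hom)
  have ej : j₁ = j₂ := by
    have := termCart_of_isFibGrpd U h𝒳 H a₀.obj
    apply IsStronglyCartesian.ext 𝒳.p a₀.obj.hom (H.map (overTerm U a₀.obj)) (𝟙 W)
    calc j₁ ≫ H.map (overTerm U a₀.obj) = (j₁ ≫ H.map u₁.hom) ≫ H.map (overTerm U a₁.obj) := by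
          rw [Category.assoc, eH₁]
      _ = (j₂ ≫ H.map u₂.hom) ≫ H.map (overTerm U a₂.obj) := by rw [ej₁, ej₂, e]
      _ = j₂ ≫ H.map (overTerm U a₀.obj) := by rw [Category.assoc, eH₂]
  have n₁ : H.map u₁.hom ≫ β.toNatTrans.app a₁ = β.toNatTrans.app a₀ ≫ H'.map u₁.hom :=
    β.toNatTrans.naturality u₁
  have n₂ : H.map u₂.hom ≫ β.toNatTrans.app a₂ = β.toNatTrans.app a₀ ≫ H'.map u₂.hom :=
    β.toNatTrans.naturality u₂
  rw [← ej₁, ← ej₂, ej]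
  simp only [Category.assoc]
  rw [← Category.assoc (H.map u₁.hom), n₁, ← Category.assoc (H.map u₂.hom), n₂]
  simp only [Category.assoc]
  rw [eH₁', eH₂']

theorem full_of_psFull (h𝒳 : FibCat.IsFibGrpd 𝒳.p) (h : PSFull R 𝒳) :
    (Stk.resSieve R 𝒳).Full := by
  refine ⟨fun {H H'} β => ?_⟩
  have hx : 𝒳.p.obj (H.obj (Over.mk (𝟙 U))) = U := H.w_obj (Over.mk (𝟙 U))
  have hy : 𝒳.p.obj (H'.obj (Over.mk (𝟙 U))) = U := H'.w_obj (Over.mk (𝟙 U))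
  have key : ∀ ⦃b : 𝒳.obj⦄ (φ : b ⟶ H.obj (Over.mk (𝟙 U))) (_ : OverR R φ),
      ∃ μ : b ⟶ H'.obj (Over.mk (𝟙 U)), ∀ (a₁ : (Stk.sieveCat R).obj) (ι₁ : b ⟶ H.obj a₁.obj)
        {W : C} (k₁ : W ⟶ a₁.obj.left), 𝒳.p.IsHomLift k₁ ι₁ →
        ι₁ ≫ H.map (overTerm U a₁.obj) = φ →
        μ = ι₁ ≫ β.toNatTrans.app a₁ ≫ H'.map (overTerm U a₁.obj) := by
    rintro b φ ⟨W, f, hf, hφ⟩
    obtain ⟨ι, hι, eι⟩ := exists_fac_overTerm h𝒳 H φ f (Over.mk f) (k := 𝟙 W) (by simp) hφ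
    refine ⟨ι ≫ β.toNatTrans.app (sieveObj R f hf) ≫ H'.map (overTerm U (Over.mk f)), ?_⟩
    intro a₁ ι₁ W₁ k₁ hk₁ e₁
    have hW : 𝒳.p.obj b = W := IsHomLift.domain_eq 𝒳.p f φ
    have hW₁ : 𝒳.p.obj b = W₁ := IsHomLift.domain_eq 𝒳.p k₁ ι₁
    subst hW
    subst hW₁
    exact indep_aux h𝒳 β (sieveObj R f hf) a₁ ι ι₁ (𝟙 _) k₁ hι hk₁ (eι.trans e₁.symm)
  choose m hmchar using key
  have hm : ∀ ⦃a : 𝒳.obj⦄ (φ : a ⟶ H.obj (Over.mk (𝟙 U))) (h : OverR R φ) ⦃W : C⦄ (f : W ⟶ U),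
      𝒳.p.IsHomLift f φ → 𝒳.p.IsHomLift f (m φ h) := by
    intro b φ hφ W f hf'
    obtain ⟨W₀, f₀, hf₀, hφ₀⟩ := id hφ
    obtain ⟨rfl, e⟩ := isHomLift_base_unique 𝒳.p φ f f₀ hf' hφ₀
    rw [eqToHom_refl, Category.id_comp] at e
    subst e
    obtain ⟨ι, hι, eι⟩ := exists_fac_overTerm h𝒳 H φ f (Over.mk f) (k := 𝟙 W) (by simp) hf'
    have e9 : m φ hφ = ι ≫ β.toNatTrans.app (sieveObj R f hf₀) ≫
        H'.map (overTerm U (Over.mk f)) := hmchar φ hφ (sieveObj R f hf₀) ι (𝟙 W) hι eι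
    rw [e9]
    have h1 : 𝒳.p.IsHomLift (𝟙 W) (β.toNatTrans.app (sieveObj R f hf₀)) :=
      β.isHomLift' (sieveObj R f hf₀)
    have o1 : (FibCat.overCat U).p.IsHomLift f (overTerm U (Over.mk f)) :=
      overTerm_isHomLift U (Over.mk f)
    have h2 : 𝒳.p.IsHomLift f (H'.map (overTerm U (Over.mk f))) := inferInstance
    have : 𝒳.p.IsHomLift (𝟙 W ≫ 𝟙 W ≫ f) (ι ≫ β.toNatTrans.app (sieveObj R f hf₀) ≫
      H'.map (overTerm U (Over.mk f))) := inferInstance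
    simpa using this
  have hc : ∀ ⦃a : 𝒳.obj⦄ (φ : a ⟶ H.obj (Over.mk (𝟙 U))) (h : OverR R φ) ⦃a' : 𝒳.obj⦄
      (ψ : a' ⟶ a), m (ψ ≫ φ) (h.precomp ψ) = ψ ≫ m φ h := by
    intro b φ hφ b' ψ
    obtain ⟨W, f, hf, hφ'⟩ := id hφ
    have hW : 𝒳.p.obj b = W := IsHomLift.domain_eq 𝒳.p f φ
    subst hW
    obtain ⟨ι, hι, eι⟩ := exists_fac_overTerm h𝒳 H φ f (Over.mk f) (k := 𝟙 _) (by simp) hφ'
    have l : 𝒳.p.IsHomLift (𝒳.p.map ψ ≫ 𝟙 (𝒳.p.obj b)) (ψ ≫ ι) := inferInstance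
    rw [hmchar φ hφ (sieveObj R f hf) ι (𝟙 _) hι eι,
      hmchar (ψ ≫ φ) (hφ.precomp ψ) (sieveObj R f hf) (ψ ≫ ι) (𝒳.p.map ψ ≫ 𝟙 (𝒳.p.obj b)) l
        (by rw [Category.assoc]; exact congrArg (fun t => ψ ≫ t) eι)]
    simp only [Category.assoc]
  obtain ⟨θ, hθ, eθ⟩ := h hx hy m hm hc
  obtain ⟨α, hα⟩ := yoneda_full U (G := H) (H := H') (termCart_of_isFibGrpd U h𝒳 H') θ
  refine ⟨α, ?_⟩
  apply BasedNatTrans.homCategory.ext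
  ext a
  rw [resSieve_map_app]
  have := termCart_of_isFibGrpd U h𝒳 H' a.obj
  have k1 : 𝒳.p.IsHomLift (𝟙 a.obj.left) (α.toNatTrans.app a.obj) := α.isHomLift' a.obj
  have k2 : 𝒳.p.IsHomLift (𝟙 a.obj.left) (β.toNatTrans.app a) := β.isHomLift' a
  apply IsStronglyCartesian.ext 𝒳.p a.obj.hom (H'.map (overTerm U a.obj)) (𝟙 a.obj.left)
  rw [← α.toNatTrans.naturality, hα]
  have o1 : (FibCat.overCat U).p.IsHomLift a.obj.hom (overTerm U a.obj) :=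
    overTerm_isHomLift U a.obj
  have l : 𝒳.p.IsHomLift a.obj.hom (H.map (overTerm U a.obj)) := inferInstance
  have hO : OverR R (H.map (overTerm U a.obj)) := OverR.mk _ a.obj.hom a.property l
  have l' : 𝒳.p.IsHomLift (𝟙 a.obj.left) (𝟙 (H.obj a.obj)) :=
    IsHomLift.id (H.w_obj a.obj)
  rw [eθ _ hO, hmchar _ hO a (𝟙 _) (𝟙 a.obj.left) l' (Category.id_comp _), Category.id_comp]

theorem full_iff_psFull (h𝒳 : FibCat.IsFibGrpd 𝒳.p) :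
    (Stk.resSieve R 𝒳).Full ↔ PSFull R 𝒳 :=
  ⟨psFull_of_full h𝒳, full_of_psFull h𝒳⟩

end Full

section EssSurj

theorem hasCocone_of_essSurj (hR : (Stk.resSieve R 𝒳).EssSurj) : HasCocone R 𝒳 := by
  intro D
  obtain ⟨H, ⟨ε⟩⟩ := hR.mem_essImage D
  refine ⟨H.obj (Over.mk (𝟙 U)), H.w_obj (Over.mk (𝟙 U)), ⟨{
    c := fun a => ε.inv.toNatTrans.app a ≫ H.map (overTerm U a.obj)
    lift := ?_
    nat := ?_ }⟩⟩
  · intro a
    have h1 : 𝒳.p.IsHomLift (𝟙 a.obj.left) (ε.inv.toNatTrans.app a) := ε.inv.isHomLift' a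
    have o1 : (FibCat.overCat U).p.IsHomLift a.obj.hom (overTerm U a.obj) :=
      overTerm_isHomLift U a.obj
    have h2 : 𝒳.p.IsHomLift a.obj.hom (H.map (overTerm U a.obj)) := inferInstance
    have : 𝒳.p.IsHomLift (𝟙 a.obj.left ≫ a.obj.hom)
      (ε.inv.toNatTrans.app a ≫ H.map (overTerm U a.obj)) := inferInstance
    simpa using this
  · intro a a' k
    have n := ε.inv.toNatTrans.naturality k
    have eH : H.map k.hom ≫ H.map (overTerm U a'.obj) = H.map (overTerm U a.obj) := by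
      rw [← H.map_comp]
      exact congrArg (fun t => H.map t) (overTerm_comp U k.hom)
    rw [← Category.assoc, n, Category.assoc]
    congr 1

theorem essSurj_of_hasCocone (h𝒳 : FibCat.IsFibGrpd 𝒳.p) (h : HasCocone R 𝒳) :
    (Stk.resSieve R 𝒳).EssSurj := by
  refine ⟨fun D => ?_⟩
  obtain ⟨x, hx, ⟨c⟩⟩ := h D
  have := IsFibGrpd.isFibered h𝒳
  refine ⟨yonedaFunctor hx, ⟨?_⟩⟩
  have key : ∀ a : (Stk.sieveCat R).obj, ∃ χ : D.obj a ⟶ yonedaObj hx a.obj,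
      𝒳.p.IsHomLift (𝟙 a.obj.left) χ ∧ χ ≫ yonedaCart hx a.obj = c.c a := by
    intro a
    have := c.lift a
    obtain ⟨χ, hχ, -⟩ := IsStronglyCartesian.universal_property 𝒳.p a.obj.hom
      (yonedaCart hx a.obj) (𝟙 a.obj.left) a.obj.hom (Category.id_comp _).symm (c.c a)
    exact ⟨χ, hχ⟩
  choose χ hχ1 hχ2 using key
  have nat : ∀ {a a' : (Stk.sieveCat R).obj} (k : a ⟶ a'),
      D.map k ≫ χ a' = χ a ≫ yonedaMap hx k.hom := by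
    intro a a' k
    have := hχ1 a
    have := hχ1 a'
    have h0 : (Stk.sieveCat R).p.IsHomLift k.hom.left k := IsHomLift.map (Stk.sieveCat R).p k
    have k1 : 𝒳.p.IsHomLift k.hom.left (D.map k ≫ χ a') := by
      have : 𝒳.p.IsHomLift (k.hom.left ≫ 𝟙 a'.obj.left) (D.map k ≫ χ a') := inferInstance
      simpa using this
    have k2 : 𝒳.p.IsHomLift k.hom.left (χ a ≫ yonedaMap hx k.hom) := by
      have : 𝒳.p.IsHomLift (𝟙 a.obj.left ≫ k.hom.left) (χ a ≫ yonedaMap hx k.hom) :=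
        inferInstance
      simpa using this
    apply IsStronglyCartesian.ext 𝒳.p a'.obj.hom (yonedaCart hx a'.obj) k.hom.left
    rw [Category.assoc, hχ2, c.nat, Category.assoc, yonedaMap_fac, hχ2]
  let γ : D ⟶ (Stk.resSieve R 𝒳).obj (yonedaFunctor hx) :=
    { toNatTrans := { app := χ, naturality := fun _ _ k => nat k }
      isHomLift' := hχ1 }
  have hiso : ∀ a, IsIso (γ.toNatTrans.app a) := fun a => by
    have := hχ1 a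
    exact IsFibGrpd.isIso_of_isHomLift_id h𝒳 a.obj.left (χ a)
  have : IsIso (X := D.toFunctor) γ.toNatTrans := NatIso.isIso_of_isIso_app _
  have : IsIso γ := BasedNatIso.isIso_of_toNatTrans_isIso γ
  exact (asIso γ).symm

theorem essSurj_iff_hasCocone (h𝒳 : FibCat.IsFibGrpd 𝒳.p) :
    (Stk.resSieve R 𝒳).EssSurj ↔ HasCocone R 𝒳 :=
  ⟨hasCocone_of_essSurj, essSurj_of_hasCocone h𝒳⟩

end EssSurj

section CoconeDesc

/-- the canonical cocone of the restriction of a functor on the slice -/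
def coconeOfFunctor (H : FibCat.overCat U ⥤ᵇ 𝒳) :
    Cocone ((Stk.resSieve R 𝒳).obj H) (H.obj (Over.mk (𝟙 U))) where
  c := fun a => H.map (overTerm U a.obj)
  lift := fun a => by
    have o1 : (FibCat.overCat U).p.IsHomLift a.obj.hom (overTerm U a.obj) :=
      overTerm_isHomLift U a.obj
    infer_instance
  nat := fun a a' k => by
    change H.map k.hom ≫ H.map (overTerm U a'.obj) = H.map (overTerm U a.obj)
    rw [← H.map_comp]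
    exact congrArg (fun t => H.map t) (overTerm_comp U k.hom)

/-- independence of the chosen factorisation through a cocone -/
theorem cocone_indep (h𝒳 : FibCat.IsFibGrpd 𝒳.p) {D : Stk.sieveCat R ⥤ᵇ 𝒳} {x : 𝒳.obj}
    (c : Cocone D x) {y : 𝒳.obj} (c' : ∀ a : (Stk.sieveCat R).obj, D.obj a ⟶ y)
    (nat' : ∀ ⦃a a' : (Stk.sieveCat R).obj⦄ (k : a ⟶ a'), D.map k ≫ c' a' = c' a) {b : 𝒳.obj}
    (a₁ a₂ : (Stk.sieveCat R).obj) (ι₁ : b ⟶ D.obj a₁) (ι₂ : b ⟶ D.obj a₂) {W : C}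
    (k₁ : W ⟶ a₁.obj.left) (k₂ : W ⟶ a₂.obj.left) (h₁ : 𝒳.p.IsHomLift k₁ ι₁)
    (h₂ : 𝒳.p.IsHomLift k₂ ι₂) (e : ι₁ ≫ c.c a₁ = ι₂ ≫ c.c a₂) :
    ι₁ ≫ c' a₁ = ι₂ ≫ c' a₂ := by
  have := c.lift a₁
  have := c.lift a₂
  have l1 : 𝒳.p.IsHomLift (k₁ ≫ a₁.obj.hom) (ι₁ ≫ c.c a₁) := inferInstance
  have l2 : 𝒳.p.IsHomLift (k₂ ≫ a₂.obj.hom) (ι₁ ≫ c.c a₁) := by
    rw [e]; infer_instance
  obtain ⟨e0, ef⟩ := isHomLift_base_unique 𝒳.p _ _ _ l1 l2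
  rw [eqToHom_refl, Category.id_comp] at ef
  let a₀ : (Stk.sieveCat R).obj := sieveObj R (k₁ ≫ a₁.obj.hom) (R.downward_closed a₁.property k₁)
  let u₁ : a₀ ⟶ a₁ := ObjectProperty.homMk (Over.homMk k₁ rfl)
  let u₂ : a₀ ⟶ a₂ := ObjectProperty.homMk (Over.homMk k₂ ef.symm)
  have hu₁ : (Stk.sieveCat R).p.IsHomLift k₁ u₁ := IsHomLift.map (Stk.sieveCat R).p u₁
  have hu₂ : (Stk.sieveCat R).p.IsHomLift k₂ u₂ := IsHomLift.map (Stk.sieveCat R).p u₂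
  have sc₁ := IsFibGrpd.isStronglyCartesian_of_isHomLift h𝒳 k₁ (D.map u₁)
  have sc₂ := IsFibGrpd.isStronglyCartesian_of_isHomLift h𝒳 k₂ (D.map u₂)
  obtain ⟨j₁, ⟨hj₁, ej₁⟩, -⟩ := IsStronglyCartesian.universal_property 𝒳.p k₁ (D.map u₁)
    (𝟙 W) k₁ (Category.id_comp _).symm ι₁
  obtain ⟨j₂, ⟨hj₂, ej₂⟩, -⟩ := IsStronglyCartesian.universal_property 𝒳.p k₂ (D.map u₂)
    (𝟙 W) k₂ (Category.id_comp _).symm ι₂
  have ej : j₁ = j₂ := by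
    have := c.lift a₀
    have := IsFibGrpd.isStronglyCartesian_of_isHomLift h𝒳 a₀.obj.hom (c.c a₀)
    apply IsStronglyCartesian.ext 𝒳.p a₀.obj.hom (c.c a₀) (𝟙 W)
    calc j₁ ≫ c.c a₀ = (j₁ ≫ D.map u₁) ≫ c.c a₁ := by rw [Category.assoc, c.nat u₁]
      _ = (j₂ ≫ D.map u₂) ≫ c.c a₂ := by rw [ej₁, ej₂, e]
      _ = j₂ ≫ c.c a₀ := by rw [Category.assoc, c.nat u₂]
  rw [← ej₁, ← ej₂, ej, Category.assoc, Category.assoc, nat' u₁, nat' u₂]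

theorem Cocone.desc_unique (h𝒳 : FibCat.IsFibGrpd 𝒳.p) (hfa : PSFaithful R 𝒳)
    {D : Stk.sieveCat R ⥤ᵇ 𝒳} {x : 𝒳.obj} (c : Cocone D x) {y : 𝒳.obj} {V : C} (g : U ⟶ V)
    (θ θ' : x ⟶ y) (hθ : 𝒳.p.IsHomLift g θ) (hθ' : 𝒳.p.IsHomLift g θ')
    (h : ∀ a, c.c a ≫ θ = c.c a ≫ θ') : θ = θ' := by
  apply hfa.general h𝒳 g θ θ' hθ hθ'
  rintro b φ ⟨W, f, hf, hφ⟩
  have l0 : 𝒳.p.IsHomLift f (c.c (sieveObj R f hf)) := c.lift (sieveObj R f hf)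
  have sc := IsFibGrpd.isStronglyCartesian_of_isHomLift h𝒳 f (c.c (sieveObj R f hf))
  obtain ⟨ι, ⟨hι, eι⟩, -⟩ := IsStronglyCartesian.universal_property 𝒳.p f
    (c.c (sieveObj R f hf)) (𝟙 W) f (Category.id_comp _).symm φ
  rw [← eι, Category.assoc, Category.assoc, h]

theorem Cocone.exists_desc (h𝒳 : FibCat.IsFibGrpd 𝒳.p) (hfu : PSFull R 𝒳)
    {D : Stk.sieveCat R ⥤ᵇ 𝒳} {x : 𝒳.obj} (hx : 𝒳.p.obj x = U) (c : Cocone D x) {y : 𝒳.obj}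
    {V : C} (g : U ⟶ V) (hy : 𝒳.p.obj y = V)
    (c' : ∀ a : (Stk.sieveCat R).obj, D.obj a ⟶ y)
    (hc' : ∀ a : (Stk.sieveCat R).obj, 𝒳.p.IsHomLift (a.obj.hom ≫ g) (c' a))
    (nat' : ∀ ⦃a a' : (Stk.sieveCat R).obj⦄ (k : a ⟶ a'), D.map k ≫ c' a' = c' a) :
    ∃ θ : x ⟶ y, 𝒳.p.IsHomLift g θ ∧ ∀ a, c.c a ≫ θ = c' a := by
  have key : ∀ ⦃b : 𝒳.obj⦄ (φ : b ⟶ x) (_ : OverR R φ),
      ∃ μ : b ⟶ y, ∀ (a₁ : (Stk.sieveCat R).obj) (ι₁ : b ⟶ D.obj a₁)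
        {W : C} (k₁ : W ⟶ a₁.obj.left), 𝒳.p.IsHomLift k₁ ι₁ →
        ι₁ ≫ c.c a₁ = φ → μ = ι₁ ≫ c' a₁ := by
    rintro b φ ⟨W, f, hf, hφ⟩
    have l0 : 𝒳.p.IsHomLift f (c.c (sieveObj R f hf)) := c.lift (sieveObj R f hf)
    have sc := IsFibGrpd.isStronglyCartesian_of_isHomLift h𝒳 f (c.c (sieveObj R f hf))
    obtain ⟨ι, ⟨hι, eι⟩, -⟩ := IsStronglyCartesian.universal_property 𝒳.p f
      (c.c (sieveObj R f hf)) (𝟙 W) f (Category.id_comp _).symm φ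
    refine ⟨ι ≫ c' (sieveObj R f hf), ?_⟩
    intro a₁ ι₁ W₁ k₁ hk₁ e₁
    have hW : 𝒳.p.obj b = W := IsHomLift.domain_eq 𝒳.p f φ
    have hW₁ : 𝒳.p.obj b = W₁ := IsHomLift.domain_eq 𝒳.p k₁ ι₁
    subst hW
    subst hW₁
    exact cocone_indep h𝒳 c c' nat' (sieveObj R f hf) a₁ ι ι₁ (𝟙 _) k₁ hι hk₁ (eι.trans e₁.symm)
  choose m hmchar using key
  have hm : ∀ ⦃a : 𝒳.obj⦄ (φ : a ⟶ x) (h : OverR R φ) ⦃W : C⦄ (f : W ⟶ U),
      𝒳.p.IsHomLift f φ → 𝒳.p.IsHomLift (f ≫ g) (m φ h) := by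
    intro b φ hφ W f hf'
    obtain ⟨W₀, f₀, hf₀, hφ₀⟩ := id hφ
    obtain ⟨rfl, e⟩ := isHomLift_base_unique 𝒳.p φ f f₀ hf' hφ₀
    rw [eqToHom_refl, Category.id_comp] at e
    subst e
    have l0 : 𝒳.p.IsHomLift f (c.c (sieveObj R f hf₀)) := c.lift (sieveObj R f hf₀)
    have sc := IsFibGrpd.isStronglyCartesian_of_isHomLift h𝒳 f (c.c (sieveObj R f hf₀))
    obtain ⟨ι, ⟨hι, eι⟩, -⟩ := IsStronglyCartesian.universal_property 𝒳.p f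
      (c.c (sieveObj R f hf₀)) (𝟙 W) f (Category.id_comp _).symm φ
    rw [hmchar φ hφ (sieveObj R f hf₀) ι (𝟙 W) hι eι]
    have l1 : 𝒳.p.IsHomLift (f ≫ g) (c' (sieveObj R f hf₀)) := hc' (sieveObj R f hf₀)
    have : 𝒳.p.IsHomLift (𝟙 W ≫ (f ≫ g)) (ι ≫ c' (sieveObj R f hf₀)) := inferInstance
    simpa using this
  have hc : ∀ ⦃a : 𝒳.obj⦄ (φ : a ⟶ x) (h : OverR R φ) ⦃a' : 𝒳.obj⦄
      (ψ : a' ⟶ a), m (ψ ≫ φ) (h.precomp ψ) = ψ ≫ m φ h := by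
    intro b φ hφ b' ψ
    obtain ⟨W, f, hf, hφ'⟩ := id hφ
    have hW : 𝒳.p.obj b = W := IsHomLift.domain_eq 𝒳.p f φ
    subst hW
    have l0 : 𝒳.p.IsHomLift f (c.c (sieveObj R f hf)) := c.lift (sieveObj R f hf)
    have sc := IsFibGrpd.isStronglyCartesian_of_isHomLift h𝒳 f (c.c (sieveObj R f hf))
    obtain ⟨ι, ⟨hι, eι⟩, -⟩ := IsStronglyCartesian.universal_property 𝒳.p f
      (c.c (sieveObj R f hf)) (𝟙 _) f (Category.id_comp _).symm φ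
    have l : 𝒳.p.IsHomLift (𝒳.p.map ψ ≫ 𝟙 (𝒳.p.obj b)) (ψ ≫ ι) := inferInstance
    rw [hmchar φ hφ (sieveObj R f hf) ι (𝟙 _) hι eι,
      hmchar (ψ ≫ φ) (hφ.precomp ψ) (sieveObj R f hf) (ψ ≫ ι) (𝒳.p.map ψ ≫ 𝟙 (𝒳.p.obj b)) l
        (by rw [Category.assoc]; exact congrArg (fun t => ψ ≫ t) eι)]
    simp only [Category.assoc]
  obtain ⟨θ, hθ, eθ⟩ := hfu.general h𝒳 hx g hy m hm hc
  refine ⟨θ, hθ, fun a => ?_⟩
  have l := c.lift a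
  have hO : OverR R (c.c a) := OverR.mk _ a.obj.hom a.property l
  have l' : 𝒳.p.IsHomLift (𝟙 a.obj.left) (𝟙 (D.obj a)) := IsHomLift.id (D.w_obj a)
  rw [eθ _ hO, hmchar _ hO a (𝟙 _) (𝟙 a.obj.left) l' (Category.id_comp _), Category.id_comp]

end CoconeDesc

theorem isStackFor_iff (h𝒳 : FibCat.IsFibGrpd 𝒳.p) :
    Stk.IsStackFor R 𝒳 ↔ PSFaithful R 𝒳 ∧ PSFull R 𝒳 ∧ HasCocone R 𝒳 := by
  constructor
  · intro h
    have h' : (Stk.resSieve R 𝒳).IsEquivalence := h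
    exact ⟨psFaithful_of_faithful h𝒳 h'.faithful, psFull_of_full h𝒳 h'.full,
      hasCocone_of_essSurj h'.essSurj⟩
  · rintro ⟨h1, h2, h3⟩
    have f1 := faithful_of_psFaithful h𝒳 h1
    have f2 := full_of_psFull h𝒳 h2
    have f3 := essSurj_of_hasCocone h𝒳 h3
    exact ({ } : (Stk.resSieve R 𝒳).IsEquivalence)

theorem isPrestackFor_iff (h𝒳 : FibCat.IsFibGrpd 𝒳.p) :
    Stk.IsPrestackFor R 𝒳 ↔ PSFaithful R 𝒳 ∧ PSFull R 𝒳 := by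
  constructor
  · rintro ⟨h1, h2⟩
    exact ⟨psFaithful_of_faithful h𝒳 h2, psFull_of_full h𝒳 h1⟩
  · rintro ⟨h1, h2⟩
    exact ⟨full_of_psFull h𝒳 h2, faithful_of_psFaithful h𝒳 h1⟩

end Groth.Agent.Lib.Helper17.Elem
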