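-- helper17: functors between sieves (inclusion, pullback) and refinement of the stack condition.
import Groth.Agent.Lib.Helper17StkElem

set_option autoImplicit false
set_option backward.isDefEq.respectTransparency false
set_option backward.isDefEq.respectTransparency.types false
open CategoryTheory CategoryTheory.Functor

universe v₂ u₂ v u

namespace Groth.Agent.Lib.Helper17.Elem

variable {C : Type u} [Category.{v} C] {U : C} {𝒳 : BasedCategory.{v₂, u₂} C}

theorem OverR.mono {S R : Sieve U} (hSR : S ≤ R) {a x : 𝒳.obj} {φ : a ⟶ x} (h : OverR S φ) :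
    OverR R φ := by
  obtain ⟨W, f, hf, hφ⟩ := h
  exact ⟨W, f, hSR _ hf, hφ⟩

/-- the inclusion of a smaller sieve -/
def sieveLE {S R : Sieve U} (hSR : S ≤ R) : Stk.sieveCat S ⥤ᵇ Stk.sieveCat R where
  toFunctor := ObjectProperty.ιOfLE (fun a ha => hSR _ ha)
  w := rfl

/-- the functor from the pulled back sieve -/
def sievePb {V : C} (f : V ⟶ U) (S : Sieve U) : Stk.sieveCat (S.pullback f) ⥤ᵇ Stk.sieveCat S where
  toFunctor := ObjectProperty.lift _ (ObjectProperty.ι _ ⋙ Over.map f) (fun a => a.property)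
  w := rfl

theorem sievePb_obj_hom {V : C} (f : V ⟶ U) (S : Sieve U) (t : (Stk.sieveCat (S.pullback f)).obj) :
    ((sievePb f S).obj t).obj.hom = t.obj.hom ≫ f := rfl

theorem sievePb_map_left {V : C} (f : V ⟶ U) (S : Sieve U)
    {t t' : (Stk.sieveCat (S.pullback f)).obj} (k : t ⟶ t') :
    ((sievePb f S).map k).hom.left = k.hom.left := rfl

theorem sieveLE_map_left {S R : Sieve U} (hSR : S ≤ R) {s s' : (Stk.sieveCat S).obj}
    (k : s ⟶ s') : ((sieveLE hSR).map k).hom.left = k.hom.left := rfl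

theorem psFaithful_of_le {S R : Sieve U} (hSR : S ≤ R) (h : PSFaithful S 𝒳) : PSFaithful R 𝒳 := by
  intro x y θ θ' hθ hθ' hh
  exact h θ θ' hθ hθ' (fun a φ hφ => hh φ (hφ.mono hSR))

theorem psFull_of_le (h𝒳 : FibCat.IsFibGrpd 𝒳.p) {S R : Sieve U} (hSR : S ≤ R)
    (hfu : PSFull S 𝒳)
    (hR : ∀ ⦃V : C⦄ (f : V ⟶ U), R f → PSFaithful (S.pullback f) 𝒳) : PSFull R 𝒳 := by
  intro x y hx hy m hm hc
  obtain ⟨θ, hθ, eθ⟩ := hfu hx hy (fun a φ hφ => m φ (hφ.mono hSR))
    (fun a φ h W f hf => hm φ _ f hf) (fun a φ h a' ψ => hc φ _ ψ)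
  refine ⟨θ, hθ, ?_⟩
  rintro a φ hφ
  obtain ⟨W, f, hf, hφ'⟩ := id hφ
  have l1 : 𝒳.p.IsHomLift f (φ ≫ θ) := by
    have : 𝒳.p.IsHomLift (f ≫ 𝟙 U) (φ ≫ θ) := inferInstance
    simpa using this
  apply (hR f hf).general h𝒳 f (φ ≫ θ) (m φ hφ) l1 (hm φ hφ f hφ')
  rintro b ψ ⟨W', k, hk, hψ⟩
  have hO : OverR S (ψ ≫ φ) := ⟨W', k ≫ f, hk, inferInstance⟩
  rw [← Category.assoc, eθ (ψ ≫ φ) hO, ← hc φ hφ ψ]

theorem hasCocone_of_le (h𝒳 : FibCat.IsFibGrpd 𝒳.p) {S R : Sieve U} (hSR : S ≤ R)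
    (hco : HasCocone S 𝒳)
    (hRfa : ∀ ⦃V : C⦄ (f : V ⟶ U), R f → PSFaithful (S.pullback f) 𝒳)
    (hRfu : ∀ ⦃V : C⦄ (f : V ⟶ U), R f → PSFull (S.pullback f) 𝒳) : HasCocone R 𝒳 := by
  intro D
  obtain ⟨x, hx, ⟨c⟩⟩ := hco (BasedFunctor.comp (sieveLE hSR) D)
  -- the morphism from the image of an object of the pulled back sieve
  let v : ∀ (a : (Stk.sieveCat R).obj) (t : (Stk.sieveCat (S.pullback a.obj.hom)).obj),
      (sieveLE hSR).obj ((sievePb a.obj.hom S).obj t) ⟶ a :=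
    fun a t => ObjectProperty.homMk (Over.homMk t.obj.hom rfl)
  have hv : ∀ a t, (Stk.sieveCat R).p.IsHomLift t.obj.hom (v a t) :=
    fun a t => IsHomLift.map (Stk.sieveCat R).p (v a t)
  -- the cocone with vertex `D a`
  let ca : ∀ a : (Stk.sieveCat R).obj,
      Cocone (BasedFunctor.comp (sievePb a.obj.hom S) (BasedFunctor.comp (sieveLE hSR) D))
        (D.obj a) :=
    fun a =>
      { c := fun t => D.map (v a t)
        lift := fun t => by
          have := hv a t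
          infer_instance
        nat := fun t t' k => by
          change D.map ((sieveLE hSR).map ((sievePb a.obj.hom S).map k)) ≫ D.map (v a t') =
            D.map (v a t)
          rw [← D.map_comp]
          congr 1
          apply ObjectProperty.hom_ext
          apply Over.OverMorphism.ext
          exact Over.w k.hom }
  have key : ∀ a : (Stk.sieveCat R).obj, ∃ θ : D.obj a ⟶ x, 𝒳.p.IsHomLift a.obj.hom θ ∧
      ∀ t, D.map (v a t) ≫ θ = c.c ((sievePb a.obj.hom S).obj t) := by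
    intro a
    exact Cocone.exists_desc h𝒳 (hRfu a.obj.hom a.property) (D.w_obj a) (ca a) a.obj.hom hx
      (fun t => c.c ((sievePb a.obj.hom S).obj t))
      (fun t => c.lift ((sievePb a.obj.hom S).obj t))
      (fun t t' k => c.nat ((sievePb a.obj.hom S).map k))
  choose θ hθ1 hθ2 using key
  refine ⟨x, hx, ⟨{ c := θ, lift := hθ1, nat := ?_ }⟩⟩
  intro a a' u
  have hu : (Stk.sieveCat R).p.IsHomLift u.hom.left u := IsHomLift.map (Stk.sieveCat R).p u
  have := hθ1 a'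
  have l1 : 𝒳.p.IsHomLift a.obj.hom (D.map u ≫ θ a') := by
    have : 𝒳.p.IsHomLift (u.hom.left ≫ a'.obj.hom) (D.map u ≫ θ a') := inferInstance
    rw [Over.w u.hom] at this
    exact this
  apply Cocone.desc_unique h𝒳 (hRfa a.obj.hom a.property) (ca a) a.obj.hom _ _ l1 (hθ1 a)
  intro t
  change D.map (v a t) ≫ D.map u ≫ θ a' = D.map (v a t) ≫ θ a
  rw [hθ2 a t]
  -- the corresponding object of the other pulled back sieve
  let t' : (Stk.sieveCat (S.pullback a'.obj.hom)).obj :=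
    ⟨Over.mk (t.obj.hom ≫ u.hom.left), by
      change S ((t.obj.hom ≫ u.hom.left) ≫ a'.obj.hom)
      rw [Category.assoc, Over.w u.hom]
      exact t.property⟩
  let w : (sievePb a.obj.hom S).obj t ⟶ (sievePb a'.obj.hom S).obj t' :=
    ObjectProperty.homMk (Over.homMk (𝟙 _) (by
      change 𝟙 _ ≫ ((t.obj.hom ≫ u.hom.left) ≫ a'.obj.hom) = t.obj.hom ≫ a.obj.hom
      rw [Category.id_comp, Category.assoc, Over.w u.hom]))
  have e1 : v a t ≫ u = (sieveLE hSR).map w ≫ v a' t' := by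
    apply ObjectProperty.hom_ext
    apply Over.OverMorphism.ext
    change t.obj.hom ≫ u.hom.left = 𝟙 _ ≫ (t.obj.hom ≫ u.hom.left)
    rw [Category.id_comp]
  rw [← Category.assoc, ← D.map_comp, e1, D.map_comp, Category.assoc, hθ2 a' t']
  exact c.nat w

/-- refinement: a stack for a smaller sieve whose pullbacks are prestack conditions -/
theorem isStackFor_of_le (h𝒳 : FibCat.IsFibGrpd 𝒳.p) {S R : Sieve U} (hSR : S ≤ R)
    (hS : Stk.IsStackFor S 𝒳)
    (hR : ∀ ⦃V : C⦄ (f : V ⟶ U), R f → Stk.IsPrestackFor (S.pullback f) 𝒳) :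
    Stk.IsStackFor R 𝒳 := by
  rw [isStackFor_iff h𝒳] at hS ⊢
  obtain ⟨hSfa, hSfu, hSco⟩ := hS
  have hRfa : ∀ ⦃V : C⦄ (f : V ⟶ U), R f → PSFaithful (S.pullback f) 𝒳 :=
    fun V f hf => ((isPrestackFor_iff h𝒳).1 (hR f hf)).1
  have hRfu : ∀ ⦃V : C⦄ (f : V ⟶ U), R f → PSFull (S.pullback f) 𝒳 :=
    fun V f hf => ((isPrestackFor_iff h𝒳).1 (hR f hf)).2
  exact ⟨psFaithful_of_le hSR hSfa, psFull_of_le h𝒳 hSR hSfu hRfa,
    hasCocone_of_le h𝒳 hSR hSco hRfa hRfu⟩

end Groth.Agent.Lib.Helper17.Elem
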