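-- helper17: for `p` fibred in groupoids, `𝒳/x ⥤ C/p(x)` is an equivalence identifying the
-- localised topologies.
import Mathlib.CategoryTheory.Sites.Over
import Groth.Agent.Lib.Helper17StkTop

set_option autoImplicit false
open CategoryTheory CategoryTheory.Functor

universe v₂ u₂ v u

namespace Groth.Agent.Lib.Helper17

section OverPost

variable {C : Type u} [Category.{v} C] {𝒳 : Type u₂} [Category.{v₂} 𝒳] {p : 𝒳 ⥤ C}

theorem overPost_faithful (hp : FibCat.IsFibGrpd p) (x : 𝒳) :
    (Over.post p : Over x ⥤ Over (p.obj x)).Faithful := by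
  refine ⟨fun {a b} f g h => ?_⟩
  have hl : p.map f.left = p.map g.left := congrArg CommaMorphism.left h
  let bφ : b.left ⟶ x := b.hom
  have sc : p.IsStronglyCartesian (p.map bφ) bφ := hp.isStronglyCartesian bφ
  have h1 : p.IsHomLift (p.map f.left) g.left := by rw [hl]; infer_instance
  apply Over.OverMorphism.ext
  apply IsStronglyCartesian.ext p (p.map bφ) bφ (p.map f.left)
  exact (Over.w f).trans (Over.w g).symm

theorem overPost_full (hp : FibCat.IsFibGrpd p) (x : 𝒳) :
    (Over.post p : Over x ⥤ Over (p.obj x)).Full := by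
  refine ⟨fun {a b} h => ?_⟩
  obtain ⟨aφ, haφ⟩ : ∃ t : a.left ⟶ x, t = a.hom := ⟨_, rfl⟩
  obtain ⟨bφ, hbφ⟩ : ∃ t : b.left ⟶ x, t = b.hom := ⟨_, rfl⟩
  have sc : p.IsStronglyCartesian (p.map bφ) bφ := hp.isStronglyCartesian bφ
  obtain ⟨hl, hhl⟩ : ∃ t : p.obj a.left ⟶ p.obj b.left, t = h.left := ⟨_, rfl⟩
  have hw : hl ≫ p.map bφ = p.map aφ := by rw [haφ, hbφ, hhl]; exact Over.w h
  obtain ⟨χ, ⟨hχ, eχ⟩, -⟩ := IsStronglyCartesian.universal_property p (p.map bφ) bφ
    hl (p.map aφ) hw.symm aφ
  refine ⟨Over.homMk χ (by rw [← haφ, ← hbφ]; exact eχ), ?_⟩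
  apply Over.OverMorphism.ext
  rw [← hhl]
  exact (IsHomLift.eq_of_isHomLift p hl χ).symm

theorem overPost_essSurj (hp : FibCat.IsFibGrpd p) (x : 𝒳) :
    (Over.post p : Over x ⥤ Over (p.obj x)).EssSurj := by
  refine ⟨fun b => ?_⟩
  obtain ⟨y, φ, hφ⟩ := hp.exists_lift (x := x) b.hom
  have hy : p.obj y = b.left := IsHomLift.domain_eq p b.hom φ
  refine ⟨Over.mk φ, ⟨Over.isoMk (eqToIso hy) ?_⟩⟩
  have := IsHomLift.fac' p b.hom φ
  simp only [eqToHom_refl, Category.comp_id] at this
  exact this.symm

theorem overPost_isEquivalence (hp : FibCat.IsFibGrpd p) (x : 𝒳) :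
    (Over.post p : Over x ⥤ Over (p.obj x)).IsEquivalence :=
  { faithful := overPost_faithful hp x
    full := overPost_full hp x
    essSurj := overPost_essSurj hp x }

theorem mem_over_restrictedTopology_iff (hp : FibCat.IsFibGrpd p) (J : GrothendieckTopology C)
    (x : 𝒳) (a : Over x) (S : Sieve a) :
    S ∈ (p.restrictedTopology J).over x a ↔
      S.functorPushforward (Over.post p) ∈ (J.over (p.obj x)) ((Over.post p).obj a) := by
  rw [GrothendieckTopology.mem_over_iff, GrothendieckTopology.mem_over_iff,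
    mem_restrictedTopology_iff_of_isFibGrpd hp]
  have key : (Sieve.overEquiv a S).functorPushforward p =
      Sieve.overEquiv ((Over.post p).obj a) (S.functorPushforward (Over.post p)) := by
    change (S.functorPushforward (Over.forget x)).functorPushforward p =
      (S.functorPushforward (Over.post p)).functorPushforward (Over.forget (p.obj x))
    exact ((Sieve.functorPushforward_comp (Over.forget x) p S).symm.trans rfl).trans
      (Sieve.functorPushforward_comp (Over.post p) (Over.forget (p.obj x)) S)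
  rw [key]
  rfl

end OverPost

end Groth.Agent.Lib.Helper17
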