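-- helper17: tools for stacks over stacks: the lifted sieve, lifting functors along a category
-- fibred in groupoids, and cocones along a full essentially surjective functor.
import Groth.Agent.Lib.Helper17StkSieve
import Groth.Agent.Lib.Helper17StkTop3

set_option autoImplicit false
set_option backward.isDefEq.respectTransparency false
set_option backward.isDefEq.respectTransparency.types false
open CategoryTheory CategoryTheory.Functor

universe v₃ u₃ v₂ u₂ v u

namespace Groth.Agent.Lib.Helper17.Elem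

section LiftedSieve

variable {C : Type u} [Category.{v} C] {𝒳 : Type u₂} [Category.{v₂} 𝒳] (p : 𝒳 ⥤ C)

theorem functorPullback_mem_restrictedTopology (hp : FibCat.IsFibGrpd p)
    (J : GrothendieckTopology C) {x : 𝒳} (R : Sieve (p.obj x)) (hR : R ∈ J (p.obj x)) :
    R.functorPullback p ∈ p.restrictedTopology J x := by
  rw [mem_restrictedTopology_iff_of_isFibGrpd hp]
  refine J.superset_covering ?_ hR
  intro W f hf
  obtain ⟨b, ψ, hψ⟩ := hp.exists_lift (x := x) f
  have hW : p.obj b = W := IsHomLift.domain_eq p f ψ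
  subst hW
  have e : f = p.map ψ := IsHomLift.eq_of_isHomLift p f ψ
  refine ⟨b, ψ, 𝟙 _, ?_, ?_⟩
  · change R (p.map ψ)
    rw [← e]
    exact hf
  · rw [Category.id_comp, e]

variable {x : 𝒳} (R : Sieve (p.obj x))

/-- The functor from the lifted sieve to the sieve. -/
def sieveT : (R.functorPullback p).arrows.category ⥤ R.arrows.category :=
  ObjectProperty.lift _ (ObjectProperty.ι _ ⋙ Over.post p) (fun t => t.property)

theorem sieveT_obj_hom (t : (R.functorPullback p).arrows.category) :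
    ((sieveT p R).obj t).obj.hom = p.map t.obj.hom := rfl

theorem sieveT_map_left {t t' : (R.functorPullback p).arrows.category} (k : t ⟶ t') :
    ((sieveT p R).map k).hom.left = p.map k.hom.left := rfl

theorem sieveT_faithful (hp : FibCat.IsFibGrpd p) : (sieveT p R).Faithful := by
  have := overPost_faithful hp x
  unfold sieveT
  infer_instance

theorem sieveT_full (hp : FibCat.IsFibGrpd p) : (sieveT p R).Full := by
  have := overPost_full hp x
  unfold sieveT
  infer_instance

theorem sieveT_essSurj (hp : FibCat.IsFibGrpd p) : (sieveT p R).EssSurj := by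
  refine ⟨fun a => ?_⟩
  have := overPost_essSurj hp x
  obtain ⟨b, ⟨i⟩⟩ := this.mem_essImage a.obj
  have hb : (R.functorPullback p).arrows b.hom := by
    change R (p.map b.hom)
    have e : p.map b.hom = i.hom.left ≫ a.obj.hom := (Over.w i.hom).symm
    rw [e]
    exact R.downward_closed a.property _
  exact ⟨⟨b, hb⟩, ⟨ObjectProperty.isoMk _ i⟩⟩

end LiftedSieve

section LiftFunctor

variable {𝒳 : Type u₂} [Category.{v₂} 𝒳] {𝒜 : BasedCategory.{v₃, u₃} 𝒳}
  {𝒴 : BasedCategory.{v, u} 𝒳}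

/-- Lifting a functor along a category fibred in groupoids: given `E : 𝒜 ⥤ 𝒴` and a natural
transformation `τ` from the structure functor of `𝒜` to `E ⋙ q`, there is a functor over the base
with a natural transformation to `E` lying over `τ`. -/
theorem exists_lift_functor (hq : FibCat.IsFibGrpd 𝒴.p) (E : 𝒜.obj ⥤ 𝒴.obj)
    (τ : 𝒜.p ⟶ E ⋙ 𝒴.p) :
    ∃ (E' : 𝒜 ⥤ᵇ 𝒴) (lam : E'.toFunctor ⟶ E), ∀ t, 𝒴.p.IsHomLift (τ.app t) (lam.app t) := by
  have key : ∀ t : 𝒜.obj, ∃ (y : 𝒴.obj) (l : y ⟶ E.obj t), 𝒴.p.IsHomLift (τ.app t) l :=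
    fun t => hq.exists_lift (x := E.obj t) (τ.app t)
  choose o l hl using key
  have sc : ∀ t, 𝒴.p.IsStronglyCartesian (τ.app t) (l t) := fun t => by
    have := hl t
    exact IsFibGrpd.isStronglyCartesian_of_isHomLift hq _ _
  have keym : ∀ {t t' : 𝒜.obj} (k : t ⟶ t'), ∃ χ : o t ⟶ o t',
      𝒴.p.IsHomLift (𝒜.p.map k) χ ∧ χ ≫ l t' = l t ≫ E.map k := by
    intro t t' k
    have := sc t'
    have := hl t
    have hh : 𝒴.p.IsHomLift (𝒜.p.map k ≫ τ.app t') (l t ≫ E.map k) := by
      rw [τ.naturality k]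
      change 𝒴.p.IsHomLift (τ.app t ≫ 𝒴.p.map (E.map k)) (l t ≫ E.map k)
      infer_instance
    obtain ⟨χ, hχ, -⟩ := IsStronglyCartesian.universal_property 𝒴.p (τ.app t') (l t')
      (𝒜.p.map k) (𝒜.p.map k ≫ τ.app t') rfl (l t ≫ E.map k)
    exact ⟨χ, hχ⟩
  choose m hm1 hm2 using @keym
  have uniq : ∀ {t t' : 𝒜.obj} (k : t ⟶ t') (χ : o t ⟶ o t'), 𝒴.p.IsHomLift (𝒜.p.map k) χ →
      χ ≫ l t' = l t ≫ E.map k → χ = m k := by
    intro t t' k χ h1 h2
    have := sc t'
    have := hm1 k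
    apply IsStronglyCartesian.ext 𝒴.p (τ.app t') (l t') (𝒜.p.map k)
    rw [h2, hm2]
  have ho : ∀ t, 𝒴.p.obj (o t) = 𝒜.p.obj t := fun t => IsHomLift.domain_eq 𝒴.p (τ.app t) (l t)
  refine ⟨{ toFunctor := { obj := o, map := m, map_id := ?_, map_comp := ?_ }, w := ?_ },
    { app := l, naturality := fun t t' k => hm2 k }, hl⟩
  · intro t
    refine (uniq (𝟙 t) (𝟙 _) ?_ (by simp)).symm
    rw [𝒜.p.map_id]
    exact IsHomLift.id (ho t)
  · intro t t' t'' k k'
    refine (uniq (k ≫ k') (m k ≫ m k') ?_ ?_).symm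
    · rw [𝒜.p.map_comp]
      have := hm1 k
      have := hm1 k'
      infer_instance
    · rw [Category.assoc, hm2, ← Category.assoc, hm2, Category.assoc, E.map_comp]
  · apply CategoryTheory.Functor.ext
    · intro t t' k
      have := hm1 k
      exact IsHomLift.fac' 𝒴.p (𝒜.p.map k) (m k)
    · intro t
      exact ho t

end LiftFunctor

section Cofinal

variable {C : Type u} [Category.{v} C] {U : C} {R : Sieve U} {𝒵 : BasedCategory.{v₂, u₂} C}

/-- A cocone along a full and essentially surjective functor to the sieve gives a cocone. -/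
theorem cocone_of_full_essSurj {ℐ : Type u₃} [Category.{v₃} ℐ] (T : ℐ ⥤ (Stk.sieveCat R).obj)
    [T.Full] [T.EssSurj] (D : Stk.sieveCat R ⥤ᵇ 𝒵) (y : 𝒵.obj)
    (κ : ∀ t, D.obj (T.obj t) ⟶ y) (hκ : ∀ t, 𝒵.p.IsHomLift (T.obj t).obj.hom (κ t))
    (nat : ∀ ⦃t t' : ℐ⦄ (k : t ⟶ t'), D.map (T.map k) ≫ κ t' = κ t) :
    Nonempty (Cocone D y) := by
  have key : ∀ a : (Stk.sieveCat R).obj, ∃ t : ℐ, Nonempty (T.obj t ≅ a) :=
    fun a => Functor.EssSurj.mem_essImage (F := T) a
  choose t hε using key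
  have ε : ∀ a, T.obj (t a) ≅ a := fun a => (hε a).some
  refine ⟨{ c := fun a => D.map (ε a).inv ≫ κ (t a), lift := ?_, nat := ?_ }⟩
  · intro a
    have h1 : (Stk.sieveCat R).p.IsHomLift (ε a).inv.hom.left (ε a).inv :=
      IsHomLift.map (Stk.sieveCat R).p (ε a).inv
    have := hκ (t a)
    have : 𝒵.p.IsHomLift ((ε a).inv.hom.left ≫ (T.obj (t a)).obj.hom)
      (D.map (ε a).inv ≫ κ (t a)) := inferInstance
    rw [Over.w (ε a).inv.hom] at this
    exact this
  · intro a a' u
    obtain ⟨k, hk⟩ := T.map_surjective ((ε a).hom ≫ u ≫ (ε a').inv)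
    rw [← nat k, hk, ← Category.assoc, ← Category.assoc, ← D.map_comp, ← D.map_comp]
    congr 2
    simp

end Cofinal

end Groth.Agent.Lib.Helper17.Elem
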