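-- helper17: a stack in groupoids over a stack in groupoids is a stack in groupoids over the base.
import Groth.Agent.Lib.Helper17StkOver

set_option autoImplicit false
set_option backward.isDefEq.respectTransparency false
set_option backward.isDefEq.respectTransparency.types false
open CategoryTheory CategoryTheory.Functor

universe v₃ u₃ v₂ u₂ v u

namespace Groth.Agent.Lib.Helper17.Elem

section HomLiftComp

variable {C : Type u} [Category.{v} C] {𝒳 : Type u₂} [Category.{v₂} 𝒳] {𝒴 : Type u₃}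
  [Category.{v₃} 𝒴] {q : 𝒴 ⥤ 𝒳} {p : 𝒳 ⥤ C}

theorem isHomLift_base_of_comp {a b : 𝒴} {μ : a ⟶ b} {x x' : 𝒳} {ν : x ⟶ x'}
    (hν : q.IsHomLift ν μ) {W V : C} {f : W ⟶ V} (hμ : (q ⋙ p).IsHomLift f μ) :
    p.IsHomLift f ν := by
  cases hν
  exact (isHomLift_comp_iff q p f μ).1 hμ

theorem isHomLift_comp_of_base {a b : 𝒴} {μ : a ⟶ b} {x x' : 𝒳} {ν : x ⟶ x'}
    (hν : q.IsHomLift ν μ) {W V : C} {f : W ⟶ V} (hf : p.IsHomLift f ν) :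
    (q ⋙ p).IsHomLift f μ := by
  cases hν
  exact (isHomLift_comp_iff q p f μ).2 hf

end HomLiftComp

section Comp

variable {C : Type u} [Category.{v} C] {𝒳 : BasedCategory.{v₂, u₂} C}
  (𝒴 : BasedCategory.{v₃, u₃} 𝒳.obj)

/-- the composite category over the base -/
abbrev compCat : BasedCategory.{v₃, u₃} C := BasedCategory.ofFunctor (𝒴.p ⋙ 𝒳.p)

variable {𝒴}

theorem overR_comp_of_lifted {z : 𝒴.obj} (R : Sieve (𝒳.p.obj (𝒴.p.obj z))) {a : 𝒴.obj}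
    {φ : a ⟶ z} (h : OverR (𝒳 := 𝒴) (R.functorPullback 𝒳.p) φ) :
    OverR (𝒳 := compCat 𝒴) R φ := by
  obtain ⟨b, ψ, hψ, hφ⟩ := h
  exact ⟨_, 𝒳.p.map ψ, hψ, isHomLift_comp_of_base hφ inferInstance⟩

theorem overR_lifted_of_comp {z : 𝒴.obj} (R : Sieve (𝒳.p.obj (𝒴.p.obj z))) {a : 𝒴.obj}
    {φ : a ⟶ z} (h : OverR (𝒳 := compCat 𝒴) R φ) :
    OverR (𝒳 := 𝒴) (R.functorPullback 𝒳.p) φ := by
  obtain ⟨W, f, hf, hφ⟩ := h
  have hW : 𝒳.p.obj (𝒴.p.obj a) = W := IsHomLift.domain_eq (compCat 𝒴).p f φ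
  subst hW
  have e : f = 𝒳.p.map (𝒴.p.map φ) := IsHomLift.eq_of_isHomLift (compCat 𝒴).p f φ
  refine ⟨_, 𝒴.p.map φ, ?_, inferInstance⟩
  change R (𝒳.p.map (𝒴.p.map φ))
  rw [← e]
  exact hf

theorem overR_base_of_lifted {x : 𝒳.obj} (R : Sieve (𝒳.p.obj x)) {b : 𝒳.obj} {ψ : b ⟶ x}
    (h : (R.functorPullback 𝒳.p) ψ) : OverR (𝒳 := 𝒳) R ψ :=
  ⟨_, 𝒳.p.map ψ, h, inferInstance⟩

theorem psFaithful_comp (J : GrothendieckTopology C) (hp : FibCat.IsFibGrpd 𝒳.p)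
    (hq : FibCat.IsFibGrpd 𝒴.p)
    (h1 : ∀ ⦃U : C⦄ (R : Sieve U), R ∈ J U → PSFaithful R 𝒳)
    (h2 : ∀ ⦃x : 𝒳.obj⦄ (S : Sieve x), S ∈ 𝒳.p.restrictedTopology J x → PSFaithful S 𝒴)
    ⦃U : C⦄ (R : Sieve U) (hR : R ∈ J U) : PSFaithful R (compCat 𝒴) := by
  intro z z' θ θ' hθ hθ' h
  have hz : 𝒳.p.obj (𝒴.p.obj z) = U := IsHomLift.domain_eq (compCat 𝒴).p (𝟙 U) θ
  subst hz
  have hθp : 𝒳.p.IsHomLift (𝟙 _) (𝒴.p.map θ) := (isHomLift_comp_iff 𝒴.p 𝒳.p _ _).1 hθ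
  have hθp' : 𝒳.p.IsHomLift (𝟙 _) (𝒴.p.map θ') := (isHomLift_comp_iff 𝒴.p 𝒳.p _ _).1 hθ'
  have e1 : 𝒴.p.map θ = 𝒴.p.map θ' := by
    apply h1 R hR _ _ hθp hθp'
    rintro b ψ ⟨W, f, hf, hψ⟩
    obtain ⟨a, φ, hφ⟩ := hq.exists_lift (x := z) ψ
    have hO : OverR (𝒳 := compCat 𝒴) R φ := ⟨W, f, hf, isHomLift_comp_of_base hφ hψ⟩
    have e := congrArg (fun t => 𝒴.p.map t) (h φ hO)
    simp only [Functor.map_comp] at e
    have hb : 𝒴.p.obj a = b := IsHomLift.domain_eq 𝒴.p ψ φ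
    subst hb
    have eψ : ψ = 𝒴.p.map φ := IsHomLift.eq_of_isHomLift 𝒴.p ψ φ
    rw [eψ]
    exact e
  have hS' := functorPullback_mem_restrictedTopology 𝒳.p hp J R hR
  apply (h2 _ hS').general hq (𝒴.p.map θ) θ θ' inferInstance (by rw [e1]; infer_instance)
  intro a φ hφ
  exact h φ (overR_comp_of_lifted R hφ)

theorem psFull_comp (J : GrothendieckTopology C) (hp : FibCat.IsFibGrpd 𝒳.p)
    (hq : FibCat.IsFibGrpd 𝒴.p)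
    (h1 : ∀ ⦃U : C⦄ (R : Sieve U), R ∈ J U → PSFull R 𝒳)
    (h2 : ∀ ⦃x : 𝒳.obj⦄ (S : Sieve x), S ∈ 𝒳.p.restrictedTopology J x → PSFull S 𝒴)
    ⦃U : C⦄ (R : Sieve U) (hR : R ∈ J U) : PSFull R (compCat 𝒴) := by
  intro z z' hz hz' m hm hc
  change 𝒳.p.obj (𝒴.p.obj z) = U at hz
  subst hz
  change 𝒳.p.obj (𝒴.p.obj z') = 𝒳.p.obj (𝒴.p.obj z) at hz'
  have lift_over : ∀ {b : 𝒳.obj} (ψ : b ⟶ 𝒴.p.obj z) (_ : OverR (𝒳 := 𝒳) R ψ) {a : 𝒴.obj}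
      (φ : a ⟶ z), 𝒴.p.IsHomLift ψ φ → OverR (𝒳 := compCat 𝒴) R φ := by
    rintro b ψ ⟨W, f, hf, hψ⟩ a φ hφ
    exact ⟨W, f, hf, isHomLift_comp_of_base hφ hψ⟩
  have key : ∀ ⦃b : 𝒳.obj⦄ (ψ : b ⟶ 𝒴.p.obj z) (hψ : OverR (𝒳 := 𝒳) R ψ),
      ∃ ν : b ⟶ 𝒴.p.obj z', ∀ {a : 𝒴.obj} (φ : a ⟶ z) (hφ : 𝒴.p.IsHomLift ψ φ),
        𝒴.p.IsHomLift ν (m φ (lift_over ψ hψ φ hφ)) := by
    intro b ψ hψ
    obtain ⟨a₀, φ₀, hφ₀⟩ := hq.exists_lift (x := z) ψ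
    have hb : 𝒴.p.obj a₀ = b := IsHomLift.domain_eq 𝒴.p ψ φ₀
    subst hb
    refine ⟨𝒴.p.map (m φ₀ (lift_over ψ hψ φ₀ hφ₀)), ?_⟩
    intro a φ hφ
    have sc := IsFibGrpd.isStronglyCartesian_of_isHomLift hq ψ φ₀
    obtain ⟨ι, ⟨hι, eι⟩, -⟩ := IsStronglyCartesian.universal_property 𝒴.p ψ φ₀ (𝟙 _) ψ
      (Category.id_comp _).symm φ
    subst eι
    rw [hc φ₀ (lift_over ψ hψ φ₀ hφ₀) ι]
    have : 𝒴.p.IsHomLift (𝟙 _ ≫ 𝒴.p.map (m φ₀ (lift_over ψ hψ φ₀ hφ₀)))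
      (ι ≫ m φ₀ (lift_over ψ hψ φ₀ hφ₀)) := inferInstance
    simpa using this
  choose n hn using key
  have hn1 : ∀ ⦃b : 𝒳.obj⦄ (ψ : b ⟶ 𝒴.p.obj z) (h : OverR (𝒳 := 𝒳) R ψ) ⦃W : C⦄
      (f : W ⟶ 𝒳.p.obj (𝒴.p.obj z)), 𝒳.p.IsHomLift f ψ → 𝒳.p.IsHomLift f (n ψ h) := by
    intro b ψ hψ W f hf
    obtain ⟨a₀, φ₀, hφ₀⟩ := hq.exists_lift (x := z) ψ
    have h3 := hn ψ hψ φ₀ hφ₀
    have h4 := hm φ₀ (lift_over ψ hψ φ₀ hφ₀) f (isHomLift_comp_of_base hφ₀ hf)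
    exact isHomLift_base_of_comp h3 h4
  have hn2 : ∀ ⦃b : 𝒳.obj⦄ (ψ : b ⟶ 𝒴.p.obj z) (h : OverR (𝒳 := 𝒳) R ψ) ⦃b' : 𝒳.obj⦄
      (ψ' : b' ⟶ b), n (ψ' ≫ ψ) (h.precomp ψ') = ψ' ≫ n ψ h := by
    intro b ψ hψ b' ψ'
    obtain ⟨a₀, φ₀, hφ₀⟩ := hq.exists_lift (x := z) ψ
    have hb : 𝒴.p.obj a₀ = b := IsHomLift.domain_eq 𝒴.p ψ φ₀
    subst hb
    obtain ⟨a', φ', hφ'⟩ := hq.exists_lift (x := a₀) ψ'
    have l : 𝒴.p.IsHomLift (ψ' ≫ ψ) (φ' ≫ φ₀) := inferInstance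
    have A := hn (ψ' ≫ ψ) (hψ.precomp ψ') (φ' ≫ φ₀) l
    rw [hc φ₀ (lift_over ψ hψ φ₀ hφ₀) φ'] at A
    have h3 := hn ψ hψ φ₀ hφ₀
    have B : 𝒴.p.IsHomLift (ψ' ≫ n ψ hψ) (φ' ≫ m φ₀ (lift_over ψ hψ φ₀ hφ₀)) := inferInstance
    obtain ⟨e0, e⟩ := isHomLift_base_unique 𝒴.p _ _ _ A B
    rw [eqToHom_refl, Category.id_comp] at e
    exact e
  obtain ⟨ξ, hξ, eξ⟩ := h1 R hR (x := 𝒴.p.obj z) (y := 𝒴.p.obj z') rfl hz' n hn1 hn2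
  have hS' := functorPullback_mem_restrictedTopology 𝒳.p hp J R hR
  obtain ⟨θ, hθ, eθ⟩ := (h2 _ hS').general hq (x := z) (y := z') rfl ξ rfl
    (fun a φ h => m φ (overR_comp_of_lifted R h))
    (by
      rintro a φ h b ψ hφ
      have hψ : OverR (𝒳 := 𝒳) R ψ := by
        obtain ⟨b', ψ', hψ', hφ'⟩ := id h
        obtain ⟨rfl, e⟩ := isHomLift_base_unique 𝒴.p φ ψ ψ' hφ hφ'
        rw [eqToHom_refl, Category.id_comp] at e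
        subst e
        exact overR_base_of_lifted R hψ'
      rw [eξ ψ hψ]
      exact hn ψ hψ φ hφ)
    (fun a φ h a' ψ => hc φ (overR_comp_of_lifted R h) ψ)
  refine ⟨θ, isHomLift_comp_of_base hθ hξ, ?_⟩
  intro a φ hφ
  exact eθ φ (overR_lifted_of_comp R hφ)

theorem hasCocone_comp (J : GrothendieckTopology C) (hp : FibCat.IsFibGrpd 𝒳.p)
    (hq : FibCat.IsFibGrpd 𝒴.p)
    (h1 : ∀ ⦃U : C⦄ (R : Sieve U), R ∈ J U → HasCocone R 𝒳)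
    (h2 : ∀ ⦃x : 𝒳.obj⦄ (S : Sieve x), S ∈ 𝒳.p.restrictedTopology J x → HasCocone S 𝒴)
    ⦃U : C⦄ (R : Sieve U) (hR : R ∈ J U) : HasCocone R (compCat 𝒴) := by
  intro D
  let qb : compCat 𝒴 ⥤ᵇ 𝒳 := { toFunctor := 𝒴.p, w := rfl }
  obtain ⟨x, hx, ⟨c⟩⟩ := h1 R hR (BasedFunctor.comp D qb)
  subst hx
  have hS' := functorPullback_mem_restrictedTopology 𝒳.p hp J R hR
  have hTfull := sieveT_full 𝒳.p R hp
  have hTess := sieveT_essSurj 𝒳.p R hp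
  -- the comparison morphisms in `𝒳`
  have hcl : ∀ t : (R.functorPullback 𝒳.p).arrows.category,
      𝒳.p.IsHomLift (𝒳.p.map t.obj.hom) (c.c ((sieveT 𝒳.p R).obj t)) :=
    fun t => c.lift ((sieveT 𝒳.p R).obj t)
  have keyτ : ∀ t : (R.functorPullback 𝒳.p).arrows.category,
      ∃ τ : t.obj.left ⟶ 𝒴.p.obj (D.obj ((sieveT 𝒳.p R).obj t)),
        𝒳.p.IsHomLift (𝟙 (𝒳.p.obj t.obj.left)) τ ∧ τ ≫ c.c ((sieveT 𝒳.p R).obj t) = t.obj.hom := by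
    intro t
    have := hcl t
    have sc := IsFibGrpd.isStronglyCartesian_of_isHomLift hp (𝒳.p.map t.obj.hom)
      (c.c ((sieveT 𝒳.p R).obj t))
    obtain ⟨τ, hτ, -⟩ := IsStronglyCartesian.universal_property 𝒳.p (𝒳.p.map t.obj.hom)
      (c.c ((sieveT 𝒳.p R).obj t)) (𝟙 _) (𝒳.p.map t.obj.hom) (Category.id_comp _).symm t.obj.hom
    exact ⟨τ, hτ⟩
  choose τ hτ1 hτ2 using keyτ
  have τnat : ∀ {t t' : (R.functorPullback 𝒳.p).arrows.category} (k : t ⟶ t'),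
      k.hom.left ≫ τ t' = τ t ≫ 𝒴.p.map (D.map ((sieveT 𝒳.p R).map k)) := by
    intro t t' k
    have := hcl t'
    have sc := IsFibGrpd.isStronglyCartesian_of_isHomLift hp (𝒳.p.map t'.obj.hom)
      (c.c ((sieveT 𝒳.p R).obj t'))
    have := hτ1 t
    have := hτ1 t'
    have l1 : 𝒳.p.IsHomLift (𝒳.p.map k.hom.left) (k.hom.left ≫ τ t') := by
      have : 𝒳.p.IsHomLift (𝒳.p.map k.hom.left ≫ 𝟙 _) (k.hom.left ≫ τ t') := inferInstance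
      simpa using this
    have l0 : (Stk.sieveCat R).p.IsHomLift (𝒳.p.map k.hom.left) ((sieveT 𝒳.p R).map k) :=
      IsHomLift.map (Stk.sieveCat R).p ((sieveT 𝒳.p R).map k)
    have l2' : 𝒳.p.IsHomLift (𝒳.p.map k.hom.left)
        (𝒴.p.map (D.map ((sieveT 𝒳.p R).map k))) :=
      BasedFunctor.preserves_isHomLift (BasedFunctor.comp D qb) _ _
    have l2 : 𝒳.p.IsHomLift (𝒳.p.map k.hom.left)
        (τ t ≫ 𝒴.p.map (D.map ((sieveT 𝒳.p R).map k))) := by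
      have : 𝒳.p.IsHomLift (𝟙 _ ≫ 𝒳.p.map k.hom.left)
        (τ t ≫ 𝒴.p.map (D.map ((sieveT 𝒳.p R).map k))) := inferInstance
      simpa using this
    apply IsStronglyCartesian.ext 𝒳.p (𝒳.p.map t'.obj.hom) (c.c ((sieveT 𝒳.p R).obj t'))
      (𝒳.p.map k.hom.left)
    have n1 : 𝒴.p.map (D.map ((sieveT 𝒳.p R).map k)) ≫ c.c ((sieveT 𝒳.p R).obj t') =
        c.c ((sieveT 𝒳.p R).obj t) := c.nat ((sieveT 𝒳.p R).map k)
    rw [Category.assoc, hτ2, Category.assoc, n1, hτ2]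
    exact Over.w k.hom
  let E : (Stk.sieveCat (R.functorPullback 𝒳.p)).obj ⥤ 𝒴.obj := sieveT 𝒳.p R ⋙ D.toFunctor
  let τn : (Stk.sieveCat (R.functorPullback 𝒳.p)).p ⟶ E ⋙ 𝒴.p :=
    { app := τ, naturality := fun t t' k => τnat k }
  obtain ⟨D', lam, hlam⟩ := exists_lift_functor hq E τn
  obtain ⟨y, hy, ⟨c'⟩⟩ := h2 _ hS' D'
  have hτiso : ∀ t, IsIso (τ t) := fun t => by
    have := hτ1 t
    exact IsFibGrpd.isIso_of_isHomLift_id hp (𝒳.p.obj t.obj.left) (τ t)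
  have hlamiso : ∀ t, IsIso (lam.app t) := fun t => by
    have h0 : 𝒴.p.IsHomLift (τ t) (lam.app t) := hlam t
    have := IsFibGrpd.isStronglyCartesian_of_isHomLift hq (τ t) (lam.app t)
    have := hτiso t
    exact IsStronglyCartesian.isIso_of_base_isIso 𝒴.p (τ t) (lam.app t)
  have hκ : ∀ t : (R.functorPullback 𝒳.p).arrows.category,
      (compCat 𝒴).p.IsHomLift ((sieveT 𝒳.p R).obj t).obj.hom (inv (lam.app t) ≫ c'.c t) := by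
    intro t
    have h0 : 𝒴.p.IsHomLift (τ t) (lam.app t) := hlam t
    have := hτiso t
    have := hlamiso t
    have h3 : 𝒴.p.IsHomLift (inv (τ t)) (inv (lam.app t)) := inferInstance
    have h4 : 𝒴.p.IsHomLift t.obj.hom (c'.c t) := c'.lift t
    have h5 : 𝒴.p.IsHomLift (inv (τ t) ≫ t.obj.hom) (inv (lam.app t) ≫ c'.c t) := inferInstance
    have := hτ1 t
    have h6 : 𝒳.p.IsHomLift (𝟙 (𝒳.p.obj t.obj.left)) (inv (τ t)) := inferInstance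
    have h7 : 𝒳.p.IsHomLift (𝒳.p.map t.obj.hom) (inv (τ t) ≫ t.obj.hom) := by
      have : 𝒳.p.IsHomLift (𝟙 (𝒳.p.obj t.obj.left) ≫ 𝒳.p.map t.obj.hom)
        (inv (τ t) ≫ t.obj.hom) := inferInstance
      simpa using this
    exact isHomLift_comp_of_base h5 h7
  have hnat : ∀ ⦃t t' : (R.functorPullback 𝒳.p).arrows.category⦄ (k : t ⟶ t'),
      D.map ((sieveT 𝒳.p R).map k) ≫ (inv (lam.app t') ≫ c'.c t') = inv (lam.app t) ≫ c'.c t := by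
    intro t t' k
    have := hlamiso t
    have := hlamiso t'
    have n1 : D'.map k ≫ lam.app t' = lam.app t ≫ D.map ((sieveT 𝒳.p R).map k) :=
      lam.naturality k
    have n2 : inv (lam.app t) ≫ D'.map k = D.map ((sieveT 𝒳.p R).map k) ≫ inv (lam.app t') := by
      rw [IsIso.eq_comp_inv, Category.assoc, n1, IsIso.inv_hom_id_assoc]
    rw [← Category.assoc, ← n2, Category.assoc, c'.nat k]
  obtain ⟨cz⟩ := cocone_of_full_essSurj (R := R) (𝒵 := compCat 𝒴) (sieveT 𝒳.p R) D y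
    (fun t => inv (lam.app t) ≫ c'.c t) hκ hnat
  exact ⟨y, congrArg 𝒳.p.obj hy, ⟨cz⟩⟩

/-- a stack in groupoids over a stack in groupoids is a stack in groupoids over the base -/
theorem isStack_comp (J : GrothendieckTopology C) (h𝒳 : Stk.IsStack J 𝒳)
    (h𝒴 : Stk.IsStack (𝒳.p.restrictedTopology J) 𝒴) : Stk.IsStack J (compCat 𝒴) := by
  have hp := h𝒳.1
  have hq := h𝒴.1
  have hr : FibCat.IsFibGrpd (compCat 𝒴).p := isFibGrpd_comp 𝒴.p 𝒳.p hq hp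
  refine ⟨hr, fun U R hR => ?_⟩
  rw [isStackFor_iff hr]
  have a1 : ∀ ⦃U : C⦄ (R : Sieve U), R ∈ J U →
      PSFaithful R 𝒳 ∧ PSFull R 𝒳 ∧ HasCocone R 𝒳 :=
    fun U R hR => (isStackFor_iff hp).1 (h𝒳.2 R hR)
  have a2 : ∀ ⦃x : 𝒳.obj⦄ (S : Sieve x), S ∈ 𝒳.p.restrictedTopology J x →
      PSFaithful S 𝒴 ∧ PSFull S 𝒴 ∧ HasCocone S 𝒴 :=
    fun x S hS => (isStackFor_iff hq).1 (h𝒴.2 S hS)
  exact ⟨psFaithful_comp J hp hq (fun U R hR => (a1 R hR).1) (fun x S hS => (a2 S hS).1) R hR,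
    psFull_comp J hp hq (fun U R hR => (a1 R hR).2.1) (fun x S hS => (a2 S hS).2.1) R hR,
    hasCocone_comp J hp hq (fun U R hR => (a1 R hR).2.2) (fun x S hS => (a2 S hS).2.2) R hR⟩

end Comp

end Groth.Agent.Lib.Helper17.Elem
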