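-- helper17: if the composite of a category fibred in groupoids over a stack is a stack over the
-- base, it is a stack over the stack.
import Groth.Agent.Lib.Helper17StkComp

set_option autoImplicit false
set_option backward.isDefEq.respectTransparency false
set_option backward.isDefEq.respectTransparency.types false
open CategoryTheory CategoryTheory.Functor

universe v₃ u₃ v₂ u₂ v u

namespace Groth.Agent.Lib.Helper17.Elem

section PullbackPushforward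

variable {C : Type u} [Category.{v} C] {𝒳 : Type u₂} [Category.{v₂} 𝒳] (p : 𝒳 ⥤ C)

theorem functorPullback_functorPushforward_eq (hp : FibCat.IsFibGrpd p) {x : 𝒳} (S : Sieve x) :
    (S.functorPushforward p).functorPullback p = S := by
  ext b ψ
  constructor
  · rintro ⟨b', ψ', h, hψ', e⟩
    have sc := hp.isStronglyCartesian ψ'
    obtain ⟨k, ⟨hk, ek⟩, -⟩ := IsStronglyCartesian.universal_property p (p.map ψ') ψ' h
      (p.map ψ) e ψ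
    rw [← ek]
    exact S.downward_closed hψ' k
  · intro hψ
    exact ⟨b, ψ, 𝟙 _, hψ, (Category.id_comp _).symm⟩

theorem map_eq_of_isHomLift_codomain {𝒴 : Type u₃} [Category.{v₃} 𝒴] {q : 𝒴 ⥤ 𝒳} {a z' : 𝒴}
    {x : 𝒳} (ν : q.obj a ⟶ x) (μ : a ⟶ z') (h : q.IsHomLift ν μ) (hz' : q.obj z' = x) :
    q.map μ = ν ≫ eqToHom hz'.symm := by
  subst hz'
  rw [eqToHom_refl, Category.comp_id]
  exact (IsHomLift.eq_of_isHomLift q ν μ).symm

theorem exists_base_lift {𝒴 : Type u₃} [Category.{v₃} 𝒴] {q : 𝒴 ⥤ 𝒳} {a a' : 𝒴} (μ : a ⟶ a')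
    {b : 𝒳} (h : q.obj a = b) : ∃ ν : b ⟶ q.obj a', q.IsHomLift ν μ := by
  subst h
  exact ⟨q.map μ, inferInstance⟩

theorem mem_of_overR {𝒳' : BasedCategory.{v₂, u₂} C} {x : 𝒳'.obj} (R : Sieve (𝒳'.p.obj x))
    {b : 𝒳'.obj} {ψ : b ⟶ x} (h : OverR (𝒳 := 𝒳') R ψ) : R (𝒳'.p.map ψ) := by
  obtain ⟨W, f, hf, hψ⟩ := h
  have hW : 𝒳'.p.obj b = W := IsHomLift.domain_eq 𝒳'.p f ψ
  subst hW
  have e : f = 𝒳'.p.map ψ := IsHomLift.eq_of_isHomLift 𝒳'.p f ψ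
  rw [← e]
  exact hf

/-- the functor from the lifted sieve, as a functor over the base -/
def sieveTb {𝒳' : BasedCategory.{v₂, u₂} C} {x : 𝒳'.obj} (R : Sieve (𝒳'.p.obj x)) :
    BasedCategory.ofFunctor ((Stk.sieveCat (R.functorPullback 𝒳'.p)).p ⋙ 𝒳'.p) ⥤ᵇ
      Stk.sieveCat R where
  toFunctor := sieveT 𝒳'.p R
  w := rfl

theorem sieveTb_essSurjOver {𝒳' : BasedCategory.{v₂, u₂} C} (hp : FibCat.IsFibGrpd 𝒳'.p)
    {x : 𝒳'.obj} (R : Sieve (𝒳'.p.obj x)) : EssSurjOver (sieveTb R) := by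
  intro a
  obtain ⟨b, ψ, hψ⟩ := hp.exists_lift (x := x) a.obj.hom
  have hb : 𝒳'.p.obj b = a.obj.left := IsHomLift.domain_eq 𝒳'.p a.obj.hom ψ
  have e1 : 𝒳'.p.map ψ = eqToHom hb ≫ a.obj.hom := by
    have := IsHomLift.fac' 𝒳'.p a.obj.hom ψ
    simpa using this
  have hmem : (R.functorPullback 𝒳'.p).arrows ψ := by
    change R (𝒳'.p.map ψ)
    rw [e1]
    exact R.downward_closed a.property _
  let t : (R.functorPullback 𝒳'.p).arrows.category := ⟨Over.mk ψ, hmem⟩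
  let i : ((sieveTb R).toFunctor.obj t).obj ≅ a.obj := Over.isoMk (eqToIso hb) e1.symm
  refine ⟨t, ObjectProperty.isoMk _ i, ?_⟩
  apply IsHomLift.of_fac' (Stk.sieveCat R).p (𝟙 a.obj.left) (ObjectProperty.isoMk _ i).hom hb rfl
  change eqToHom hb = eqToHom hb ≫ 𝟙 _ ≫ eqToHom rfl
  simp

end PullbackPushforward

section Rel

variable {C : Type u} [Category.{v} C] {𝒳 : BasedCategory.{v₂, u₂} C}
  {𝒴 : BasedCategory.{v₃, u₃} 𝒳.obj}

theorem psFaithful_of_comp {x : 𝒳.obj} (R : Sieve (𝒳.p.obj x))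
    (h : PSFaithful R (compCat 𝒴)) : PSFaithful (R.functorPullback 𝒳.p) 𝒴 := by
  intro z z' θ θ' hθ hθ' hh
  have hz : 𝒴.p.obj z = x := IsHomLift.domain_eq 𝒴.p (𝟙 x) θ
  subst hz
  have l0 : 𝒳.p.IsHomLift (𝟙 (𝒳.p.obj (𝒴.p.obj z))) (𝟙 (𝒴.p.obj z)) := inferInstance
  apply h θ θ' (isHomLift_comp_of_base hθ l0) (isHomLift_comp_of_base hθ' l0)
  intro a φ hφ
  exact hh φ (overR_lifted_of_comp R hφ)

theorem psFull_of_comp (hp : FibCat.IsFibGrpd 𝒳.p) (hq : FibCat.IsFibGrpd 𝒴.p) {x : 𝒳.obj}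
    (R : Sieve (𝒳.p.obj x)) (hfa : PSFaithful R 𝒳)
    (h : PSFull R (compCat 𝒴)) : PSFull (R.functorPullback 𝒳.p) 𝒴 := by
  intro z z' hz hz' m hm hc
  subst hz
  have hm' : ∀ ⦃a : 𝒴.obj⦄ (φ : a ⟶ z) (h : OverR (𝒳 := compCat 𝒴) R φ) ⦃W : C⦄
      (f : W ⟶ 𝒳.p.obj (𝒴.p.obj z)), (compCat 𝒴).p.IsHomLift f φ →
      (compCat 𝒴).p.IsHomLift f (m φ (overR_lifted_of_comp R h)) := by
    intro a φ h W f hf
    have h1 : 𝒴.p.IsHomLift (𝒴.p.map φ) (m φ (overR_lifted_of_comp R h)) :=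
      hm φ (overR_lifted_of_comp R h) (𝒴.p.map φ) inferInstance
    have h2 : 𝒳.p.IsHomLift f (𝒴.p.map φ) := (isHomLift_comp_iff 𝒴.p 𝒳.p f φ).1 hf
    exact isHomLift_comp_of_base h1 h2
  obtain ⟨θ, hθ, eθ⟩ := h (x := z) (y := z') rfl (congrArg 𝒳.p.obj hz')
    (fun a φ h => m φ (overR_lifted_of_comp R h)) hm'
    (fun a φ h a' ψ => hc φ (overR_lifted_of_comp R h) ψ)
  refine ⟨θ, ?_, fun a φ hφ => eθ φ (overR_comp_of_lifted R hφ)⟩
  -- the image of `θ` in `𝒳` is the identity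
  have hθp : 𝒳.p.IsHomLift (𝟙 _) (𝒴.p.map θ) := (isHomLift_comp_iff 𝒴.p 𝒳.p _ _).1 hθ
  have key : 𝒴.p.map θ ≫ eqToHom hz' = 𝟙 (𝒴.p.obj z) := by
    have l1 : 𝒳.p.IsHomLift (𝟙 (𝒳.p.obj (𝒴.p.obj z))) (𝒴.p.map θ ≫ eqToHom hz') := inferInstance
    have l2 : 𝒳.p.IsHomLift (𝟙 (𝒳.p.obj (𝒴.p.obj z))) (𝟙 (𝒴.p.obj z)) := inferInstance
    apply hfa _ _ l1 l2
    rintro b ψ ⟨W, f, hf, hψ⟩
    obtain ⟨a, φ, hφ⟩ := hq.exists_lift (x := z) ψ
    have hb : 𝒴.p.obj a = b := IsHomLift.domain_eq 𝒴.p ψ φ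
    subst hb
    have eψ : ψ = 𝒴.p.map φ := IsHomLift.eq_of_isHomLift 𝒴.p ψ φ
    subst eψ
    have hO : OverR (𝒳 := compCat 𝒴) R φ :=
      ⟨W, f, hf, (isHomLift_comp_iff 𝒴.p 𝒳.p f φ).2 hψ⟩
    have e1 := eθ φ hO
    have h1 : 𝒴.p.IsHomLift (𝒴.p.map φ) (m φ (overR_lifted_of_comp R hO)) :=
      hm φ (overR_lifted_of_comp R hO) (𝒴.p.map φ) inferInstance
    have e2 := map_eq_of_isHomLift_codomain (𝒴.p.map φ) (m φ (overR_lifted_of_comp R hO)) h1 hz'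
    rw [Category.comp_id, ← Category.assoc, ← Functor.map_comp, e1, e2]
    simp
  have e3 : 𝒴.p.map θ = eqToHom hz'.symm := by
    have := congrArg (fun t => t ≫ eqToHom hz'.symm) key
    simpa using this
  exact IsHomLift.of_fac' 𝒴.p (𝟙 _) θ rfl hz' (by rw [e3]; simp)

theorem hasCocone_of_comp (hp : FibCat.IsFibGrpd 𝒳.p) (hq : FibCat.IsFibGrpd 𝒴.p) {x : 𝒳.obj}
    (R : Sieve (𝒳.p.obj x)) (hfu : PSFull R 𝒳)
    (h : HasCocone R (compCat 𝒴)) : HasCocone (R.functorPullback 𝒳.p) 𝒴 := by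
  intro D'
  have hfull : (sieveTb R).toFunctor.Full := sieveT_full 𝒳.p R hp
  have hfaith : (sieveTb R).toFunctor.Faithful := sieveT_faithful 𝒳.p R hp
  have hTb := isEquivOver_of_fullyFaithful_of_essSurjOver (sieveTb R) (sieveTb_essSurjOver hp R)
  obtain ⟨G, α, β, hα, hβ⟩ := IsEquivOver.exists_data (sieveTb R) hTb
  let D'C : BasedCategory.ofFunctor ((Stk.sieveCat (R.functorPullback 𝒳.p)).p ⋙ 𝒳.p) ⥤ᵇ
      compCat 𝒴 :=
    { toFunctor := D'.toFunctor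
      w := by
        change (D'.toFunctor ⋙ 𝒴.p) ⋙ 𝒳.p = _
        rw [D'.w]
        rfl }
  obtain ⟨z₀, hz₀, ⟨c⟩⟩ := h (BasedFunctor.comp G D'C)
  -- the morphisms to `z₀`
  obtain ⟨μ, hμ⟩ : ∃ μ : ∀ t : (R.functorPullback 𝒳.p).arrows.category, D'.obj t ⟶ z₀,
      ∀ t, μ t = D'.map (α.inv.app t) ≫ c.c ((sieveT 𝒳.p R).obj t) := ⟨_, fun t => rfl⟩
  have μ_nat : ∀ {t t' : (R.functorPullback 𝒳.p).arrows.category} (k : t ⟶ t'),
      D'.map k ≫ μ t' = μ t := by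
    intro t t' k
    have n1 : k ≫ α.inv.app t' = α.inv.app t ≫ G.map ((sieveT 𝒳.p R).map k) :=
      α.inv.naturality k
    have n2 : D'.map (G.map ((sieveT 𝒳.p R).map k)) ≫ c.c ((sieveT 𝒳.p R).obj t') =
        c.c ((sieveT 𝒳.p R).obj t) := c.nat ((sieveT 𝒳.p R).map k)
    rw [hμ, hμ, ← Category.assoc, ← D'.map_comp, n1, D'.map_comp, Category.assoc, n2]
  have μ_lift : ∀ t : (R.functorPullback 𝒳.p).arrows.category,
      (compCat 𝒴).p.IsHomLift (𝒳.p.map t.obj.hom) (μ t) := by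
    intro t
    have h1 : (BasedCategory.ofFunctor
        ((Stk.sieveCat (R.functorPullback 𝒳.p)).p ⋙ 𝒳.p)).p.IsHomLift
        (𝟙 (𝒳.p.obj t.obj.left)) (α.app t).hom := hα t
    have h2 : (BasedCategory.ofFunctor ((Stk.sieveCat (R.functorPullback 𝒳.p)).p ⋙ 𝒳.p)).p.IsHomLift
        (𝟙 (𝒳.p.obj t.obj.left)) (α.inv.app t) :=
      IsHomLift.lift_id_inv _ (𝒳.p.obj t.obj.left) (α.app t)
    have h3 : (compCat 𝒴).p.IsHomLift (𝟙 (𝒳.p.obj t.obj.left)) (D'C.map (α.inv.app t)) :=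
      inferInstance
    have h4 : (compCat 𝒴).p.IsHomLift (𝒳.p.map t.obj.hom) (c.c ((sieveT 𝒳.p R).obj t)) :=
      c.lift ((sieveT 𝒳.p R).obj t)
    rw [hμ]
    have : (compCat 𝒴).p.IsHomLift (𝟙 (𝒳.p.obj t.obj.left) ≫ 𝒳.p.map t.obj.hom)
      (D'C.map (α.inv.app t) ≫ c.c ((sieveT 𝒳.p R).obj t)) := inferInstance
    simpa using this
  have keyν : ∀ t : (R.functorPullback 𝒳.p).arrows.category,
      ∃ ν : t.obj.left ⟶ 𝒴.p.obj z₀, 𝒴.p.IsHomLift ν (μ t) :=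
    fun t => exists_base_lift (μ t) (D'.w_obj t)
  choose ν hν using keyν
  have ν_lift : ∀ t : (R.functorPullback 𝒳.p).arrows.category,
      𝒳.p.IsHomLift (𝒳.p.map t.obj.hom) (ν t) :=
    fun t => isHomLift_base_of_comp (hν t) (μ_lift t)
  have ν_nat : ∀ {t t' : (R.functorPullback 𝒳.p).arrows.category} (k : t ⟶ t'),
      k.hom.left ≫ ν t' = ν t := by
    intro t t' k
    have h0 : (Stk.sieveCat (R.functorPullback 𝒳.p)).p.IsHomLift k.hom.left k :=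
      IsHomLift.map (Stk.sieveCat (R.functorPullback 𝒳.p)).p k
    have h1 : 𝒴.p.IsHomLift k.hom.left (D'.map k) := inferInstance
    have h2 := hν t'
    have A : 𝒴.p.IsHomLift (k.hom.left ≫ ν t') (D'.map k ≫ μ t') := inferInstance
    rw [μ_nat k] at A
    obtain ⟨e0, e⟩ := isHomLift_base_unique 𝒴.p _ _ _ A (hν t)
    rw [eqToHom_refl, Category.id_comp] at e
    exact e
  obtain ⟨ϑ, hϑ, eϑ⟩ := hfu (x := x) (y := 𝒴.p.obj z₀) rfl hz₀
    (fun b ψ hψ => ν ⟨Over.mk ψ, mem_of_overR R hψ⟩)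
    (by
      intro b ψ hψ W f hf
      have h1 := ν_lift ⟨Over.mk ψ, mem_of_overR R hψ⟩
      obtain ⟨rfl, e⟩ := isHomLift_base_unique 𝒳.p ψ f (𝒳.p.map ψ) hf inferInstance
      rw [eqToHom_refl, Category.id_comp] at e
      subst e
      exact h1)
    (by
      intro b ψ hψ b' ψ'
      let k : (⟨Over.mk (ψ' ≫ ψ), mem_of_overR R (hψ.precomp ψ')⟩ :
          (R.functorPullback 𝒳.p).arrows.category) ⟶ ⟨Over.mk ψ, mem_of_overR R hψ⟩ :=
        ObjectProperty.homMk (Over.homMk ψ' rfl)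
      exact (ν_nat k).symm)
  obtain ⟨z, κ, hκ⟩ := hq.exists_lift (x := z₀) ϑ
  have hz : 𝒴.p.obj z = x := IsHomLift.domain_eq 𝒴.p ϑ κ
  have scκ := IsFibGrpd.isStronglyCartesian_of_isHomLift hq ϑ κ
  have key2 : ∀ t : (R.functorPullback 𝒳.p).arrows.category, ∃ ℓ : D'.obj t ⟶ z,
      𝒴.p.IsHomLift t.obj.hom ℓ ∧ ℓ ≫ κ = μ t := by
    intro t
    have hO : OverR (𝒳 := 𝒳) R t.obj.hom := overR_base_of_lifted R t.property
    have e1 : t.obj.hom ≫ ϑ = ν t := eϑ t.obj.hom hO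
    have h1 : 𝒴.p.IsHomLift (t.obj.hom ≫ ϑ) (μ t) := by rw [e1]; exact hν t
    obtain ⟨ℓ, hℓ, -⟩ := IsStronglyCartesian.universal_property 𝒴.p ϑ κ t.obj.hom
      (t.obj.hom ≫ ϑ) rfl (μ t)
    exact ⟨ℓ, hℓ⟩
  choose ℓ hℓ1 hℓ2 using key2
  refine ⟨z, hz, ⟨{ c := ℓ, lift := hℓ1, nat := ?_ }⟩⟩
  intro t t' k
  have h0 : (Stk.sieveCat (R.functorPullback 𝒳.p)).p.IsHomLift k.hom.left k :=
    IsHomLift.map (Stk.sieveCat (R.functorPullback 𝒳.p)).p k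
  have h1 : 𝒴.p.IsHomLift k.hom.left (D'.map k) := inferInstance
  have := hℓ1 t
  have := hℓ1 t'
  have l1 : 𝒴.p.IsHomLift t.obj.hom (D'.map k ≫ ℓ t') := by
    have : 𝒴.p.IsHomLift (k.hom.left ≫ t'.obj.hom) (D'.map k ≫ ℓ t') := inferInstance
    rw [Over.w k.hom] at this
    exact this
  apply IsStronglyCartesian.ext 𝒴.p ϑ κ t.obj.hom
  rw [Category.assoc, hℓ2, hℓ2, μ_nat k]

/-- If the composite of a category fibred in groupoids over a stack in groupoids is a stack in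
groupoids over the base, it is a stack in groupoids over the stack. -/
theorem isStack_of_isStack_comp (J : GrothendieckTopology C) (h𝒳 : Stk.IsStack J 𝒳)
    (hq : FibCat.IsFibGrpd 𝒴.p) (h𝒵 : Stk.IsStack J (compCat 𝒴)) :
    Stk.IsStack (𝒳.p.restrictedTopology J) 𝒴 := by
  have hp := h𝒳.1
  have hr := h𝒵.1
  refine ⟨hq, fun x S hS => ?_⟩
  rw [mem_restrictedTopology_iff_of_isFibGrpd hp] at hS
  rw [← functorPullback_functorPushforward_eq 𝒳.p hp S]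
  obtain ⟨R, hR⟩ : ∃ R : Sieve (𝒳.p.obj x), R = S.functorPushforward 𝒳.p := ⟨_, rfl⟩
  rw [← hR] at hS ⊢
  rw [isStackFor_iff hq]
  obtain ⟨a1, a2, a3⟩ := (isStackFor_iff hp).1 (h𝒳.2 R hS)
  obtain ⟨b1, b2, b3⟩ := (isStackFor_iff hr).1 (h𝒵.2 R hS)
  exact ⟨psFaithful_of_comp R b1, psFull_of_comp hp hq R a1 b2, hasCocone_of_comp hp hq R a2 b3⟩

end Rel

end Groth.Agent.Lib.Helper17.Elem
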