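-- helper17: a category fibred in groupoids with a faithful functor to a stack whose fibre
-- products with slices are stacks is a stack.
import Groth.Agent.Lib.Helper17StkRel
import Mathlib.CategoryTheory.Sites.Over

set_option autoImplicit false
set_option backward.isDefEq.respectTransparency false
set_option backward.isDefEq.respectTransparency.types false
open CategoryTheory CategoryTheory.Functor CategoryTheory.Limits

universe v u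

namespace Groth.Agent.Lib.Helper17.Elem

section Faith

variable {C : Type u} [Category.{v} C] {𝒮 𝒯 : BasedCategory.{v, max u v} C}

theorem exists_isHomLift_of_eq {𝒴 : Type*} [Category 𝒴] (p : 𝒴 ⥤ C) {a b : 𝒴} (φ : a ⟶ b)
    {W V : C} (ha : p.obj a = W) (hb : p.obj b = V) : ∃ k : W ⟶ V, p.IsHomLift k φ := by
  subst ha
  subst hb
  exact ⟨p.map φ, inferInstance⟩

theorem psFaithful_of_faithful_functor (h𝒮 : FibCat.IsFibGrpd 𝒮.p) (h𝒯 : FibCat.IsFibGrpd 𝒯.p)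
    (F : 𝒮 ⥤ᵇ 𝒯) [F.toFunctor.Faithful] {U : C} (R : Sieve U) (h : PSFaithful R 𝒯) :
    PSFaithful R 𝒮 := by
  intro s s' θ θ' hθ hθ' hh
  apply F.toFunctor.map_injective
  have l1 : 𝒯.p.IsHomLift (𝟙 U) (F.map θ) := inferInstance
  have l2 : 𝒯.p.IsHomLift (𝟙 U) (F.map θ') := inferInstance
  apply h _ _ l1 l2
  rintro b ψ ⟨W, f, hf, hψ⟩
  have hs : 𝒮.p.obj s = U := IsHomLift.domain_eq 𝒮.p (𝟙 U) θ
  subst hs
  obtain ⟨a, φ, hφ⟩ := h𝒮.exists_lift (x := s) f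
  have lF : 𝒯.p.IsHomLift f (F.map φ) := inferInstance
  have sc := IsFibGrpd.isStronglyCartesian_of_isHomLift h𝒯 f (F.map φ)
  obtain ⟨ι, ⟨hι, eι⟩, -⟩ := IsStronglyCartesian.universal_property 𝒯.p f (F.map φ) (𝟙 W) f
    (Category.id_comp _).symm ψ
  have e1 := hh φ ⟨W, f, hf, hφ⟩
  rw [← eι, Category.assoc, Category.assoc]
  change ι ≫ F.map φ ≫ F.map θ = ι ≫ F.map φ ≫ F.map θ'
  rw [← F.map_comp, ← F.map_comp, e1]

/-- gluing the images of a compatible family of morphisms -/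
theorem exists_glue_image (h𝒮 : FibCat.IsFibGrpd 𝒮.p) (h𝒯 : FibCat.IsFibGrpd 𝒯.p)
    (F : 𝒮 ⥤ᵇ 𝒯) {U : C} (R : Sieve U) (hfu : PSFull R 𝒯) {s s' : 𝒮.obj}
    (hs : 𝒮.p.obj s = U) (hs' : 𝒮.p.obj s' = U)
    (m : ∀ ⦃a : 𝒮.obj⦄ (φ : a ⟶ s), OverR R φ → (a ⟶ s'))
    (hm : ∀ ⦃a : 𝒮.obj⦄ (φ : a ⟶ s) (h : OverR R φ) ⦃W : C⦄ (f : W ⟶ U),
      𝒮.p.IsHomLift f φ → 𝒮.p.IsHomLift f (m φ h))
    (hc : ∀ ⦃a : 𝒮.obj⦄ (φ : a ⟶ s) (h : OverR R φ) ⦃a' : 𝒮.obj⦄ (ψ : a' ⟶ a),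
      m (ψ ≫ φ) (h.precomp ψ) = ψ ≫ m φ h) :
    ∃ ξ : F.obj s ⟶ F.obj s', 𝒯.p.IsHomLift (𝟙 U) ξ ∧
      ∀ ⦃a : 𝒮.obj⦄ (φ : a ⟶ s) (h : OverR R φ), F.map φ ≫ ξ = F.map (m φ h) := by
  subst hs
  have key : ∀ ⦃b : 𝒯.obj⦄ (ψ : b ⟶ F.obj s) (_ : OverR R ψ), ∃ ν : b ⟶ F.obj s',
      ∀ ⦃a : 𝒮.obj⦄ (φ : a ⟶ s) (hφ : OverR R φ) (ι : b ⟶ F.obj a), ι ≫ F.map φ = ψ →
        ν = ι ≫ F.map (m φ hφ) := by
    rintro b ψ ⟨W, f, hf, hψ⟩
    obtain ⟨a₀, φ₀, hφ₀⟩ := h𝒮.exists_lift (x := s) f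
    have hO₀ : OverR R φ₀ := ⟨W, f, hf, hφ₀⟩
    have lF : 𝒯.p.IsHomLift f (F.map φ₀) := inferInstance
    have sc := IsFibGrpd.isStronglyCartesian_of_isHomLift h𝒯 f (F.map φ₀)
    obtain ⟨ι₀, ⟨hι₀, eι₀⟩, -⟩ := IsStronglyCartesian.universal_property 𝒯.p f (F.map φ₀) (𝟙 W) f
      (Category.id_comp _).symm ψ
    refine ⟨ι₀ ≫ F.map (m φ₀ hO₀), ?_⟩
    intro a φ hφ ι eι
    obtain ⟨W₁, f₁, hf₁, hφ₁⟩ := id hφ
    have hb : 𝒯.p.obj b = W := IsHomLift.domain_eq 𝒯.p f ψ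
    have ha : 𝒯.p.obj (F.obj a) = W₁ :=
      (F.w_obj a).trans (IsHomLift.domain_eq 𝒮.p f₁ φ)
    obtain ⟨k, hk⟩ := exists_isHomLift_of_eq 𝒯.p ι hb ha
    have lFφ : 𝒯.p.IsHomLift f₁ (F.map φ) := inferInstance
    have l1 : 𝒯.p.IsHomLift (k ≫ f₁) ψ := by rw [← eι]; infer_instance
    obtain ⟨e0, ef⟩ := isHomLift_base_unique 𝒯.p ψ (k ≫ f₁) f l1 hψ
    rw [eqToHom_refl, Category.id_comp] at ef
    have scφ := IsFibGrpd.isStronglyCartesian_of_isHomLift h𝒮 f₁ φ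
    obtain ⟨j, ⟨hj, ej⟩, -⟩ := IsStronglyCartesian.universal_property 𝒮.p f₁ φ k f ef.symm φ₀
    subst ej
    have lFj : 𝒯.p.IsHomLift k (F.map j) := inferInstance
    have scFφ := IsFibGrpd.isStronglyCartesian_of_isHomLift h𝒯 f₁ (F.map φ)
    have l2 : 𝒯.p.IsHomLift k (ι₀ ≫ F.map j) := by
      have : 𝒯.p.IsHomLift (𝟙 W ≫ k) (ι₀ ≫ F.map j) := inferInstance
      simpa using this
    have e2 : ι = ι₀ ≫ F.map j := by
      apply IsStronglyCartesian.ext 𝒯.p f₁ (F.map φ) k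
      rw [eι, Category.assoc, ← eι₀]
      change ι₀ ≫ F.map (j ≫ φ) = ι₀ ≫ F.map j ≫ F.map φ
      rw [F.map_comp]
    rw [e2, Category.assoc]
    change ι₀ ≫ F.map (m (j ≫ φ) hO₀) = ι₀ ≫ F.map j ≫ F.map (m φ hφ)
    rw [← F.map_comp, ← hc φ hφ j]
  choose n hn using key
  have hn1 : ∀ ⦃b : 𝒯.obj⦄ (ψ : b ⟶ F.obj s) (h : OverR R ψ) ⦃W : C⦄ (f : W ⟶ 𝒮.p.obj s),
      𝒯.p.IsHomLift f ψ → 𝒯.p.IsHomLift f (n ψ h) := by
    intro b ψ hψ W f hf'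
    obtain ⟨W₀, f₀, hf₀, hψ₀⟩ := id hψ
    obtain ⟨rfl, e⟩ := isHomLift_base_unique 𝒯.p ψ f f₀ hf' hψ₀
    rw [eqToHom_refl, Category.id_comp] at e
    subst e
    obtain ⟨a₀, φ₀, hφ₀⟩ := h𝒮.exists_lift (x := s) f
    have hO₀ : OverR R φ₀ := ⟨W, f, hf₀, hφ₀⟩
    have lF : 𝒯.p.IsHomLift f (F.map φ₀) := inferInstance
    have sc := IsFibGrpd.isStronglyCartesian_of_isHomLift h𝒯 f (F.map φ₀)
    obtain ⟨ι₀, ⟨hι₀, eι₀⟩, -⟩ := IsStronglyCartesian.universal_property 𝒯.p f (F.map φ₀) (𝟙 W) f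
      (Category.id_comp _).symm ψ
    rw [hn ψ hψ φ₀ hO₀ ι₀ eι₀]
    have := hm φ₀ hO₀ f hφ₀
    have l3 : 𝒯.p.IsHomLift f (F.map (m φ₀ hO₀)) := inferInstance
    have : 𝒯.p.IsHomLift (𝟙 W ≫ f) (ι₀ ≫ F.map (m φ₀ hO₀)) := inferInstance
    simpa using this
  have hn2 : ∀ ⦃b : 𝒯.obj⦄ (ψ : b ⟶ F.obj s) (h : OverR R ψ) ⦃b' : 𝒯.obj⦄ (ψ' : b' ⟶ b),
      n (ψ' ≫ ψ) (h.precomp ψ') = ψ' ≫ n ψ h := by
    intro b ψ hψ b' ψ'
    obtain ⟨W, f, hf, hψ₀⟩ := id hψ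
    obtain ⟨a₀, φ₀, hφ₀⟩ := h𝒮.exists_lift (x := s) f
    have hO₀ : OverR R φ₀ := ⟨W, f, hf, hφ₀⟩
    have lF : 𝒯.p.IsHomLift f (F.map φ₀) := inferInstance
    have sc := IsFibGrpd.isStronglyCartesian_of_isHomLift h𝒯 f (F.map φ₀)
    obtain ⟨ι₀, ⟨hι₀, eι₀⟩, -⟩ := IsStronglyCartesian.universal_property 𝒯.p f (F.map φ₀) (𝟙 W) f
      (Category.id_comp _).symm ψ
    rw [hn ψ hψ φ₀ hO₀ ι₀ eι₀, hn (ψ' ≫ ψ) (hψ.precomp ψ') φ₀ hO₀ (ψ' ≫ ι₀)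
      (by rw [Category.assoc, eι₀]), Category.assoc]
  have hFs : 𝒯.p.obj (F.obj s) = 𝒮.p.obj s := F.w_obj s
  have hFs' : 𝒯.p.obj (F.obj s') = 𝒮.p.obj s := (F.w_obj s').trans hs'
  obtain ⟨ξ, hξ, eξ⟩ := hfu hFs hFs' n hn1 hn2
  refine ⟨ξ, hξ, fun a φ hφ => ?_⟩
  obtain ⟨W, f, hf, hφ'⟩ := id hφ
  have lF : 𝒯.p.IsHomLift f (F.map φ) := inferInstance
  have hO : OverR R (F.map φ) := ⟨W, f, hf, lF⟩
  rw [eξ (F.map φ) hO, hn (F.map φ) hO φ hφ (𝟙 _) (Category.id_comp _), Category.id_comp]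

/-- the fibre product with a slice, as a category over the slice -/
abbrev fpOver {U : C} (y : FibCat.overCat U ⥤ᵇ 𝒯) (F : 𝒮 ⥤ᵇ 𝒯) :
    BasedCategory.{v, max u v} (Over U) :=
  BasedCategory.ofFunctor ((FibCat.fpFst y F).toFunctor : (FibCat.fp y F).obj ⥤ Over U)

theorem fpOver_isHomLift_snd {U : C} (y : FibCat.overCat U ⥤ᵇ 𝒯) (F : 𝒮 ⥤ᵇ 𝒯)
    {A B : (FibCat.fp y F).obj} (Φ : A ⟶ B) {W V : Over U} (g : W ⟶ V)
    (h : (fpOver y F).p.IsHomLift g Φ) : 𝒮.p.IsHomLift g.left Φ.hom.snd := by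
  have h1 : (FibCat.fp y F).p.IsHomLift g.left Φ :=
    isHomLift_comp_of_base (q := (fpOver y F).p) (p := Over.forget U) h
      (IsHomLift.map (Over.forget U) g)
  exact BasedFunctor.preserves_isHomLift (FibCat.fpSnd y F) g.left Φ

theorem psFull_of_fp (J : GrothendieckTopology C) (h𝒮 : FibCat.IsFibGrpd 𝒮.p)
    (h𝒯 : Stk.IsStack J 𝒯) (F : 𝒮 ⥤ᵇ 𝒯)
    (h3 : ∀ (U : C) (y : FibCat.overCat U ⥤ᵇ 𝒯), Stk.IsStack (J.over U) (fpOver y F))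
    {U : C} (R : Sieve U) (hR : R ∈ J U) : PSFull R 𝒮 := by
  intro s s' hs hs' m hm hc
  have h𝒯fu : PSFull R 𝒯 := ((isStackFor_iff h𝒯.1).1 (h𝒯.2 R hR)).2.1
  obtain ⟨ξ, hξ, eξ⟩ := exists_glue_image h𝒮 h𝒯.1 F R h𝒯fu hs hs' m hm hc
  have hFs : 𝒯.p.obj (F.obj s) = U := (F.w_obj s).trans hs
  have := IsFibGrpd.isFibered h𝒯.1
  obtain ⟨e, he⟩ := yonedaFunctor_iso hFs
  have hR' : (Sieve.overEquiv (Over.mk (𝟙 U))).symm R ∈ (J.over U) (Over.mk (𝟙 U)) :=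
    GrothendieckTopology.overEquiv_symm_mem_over J (Over.mk (𝟙 U)) R hR
  have hst := h3 U (yonedaFunctor hFs)
  obtain ⟨-, hfu, -⟩ := (isStackFor_iff hst.1).1 (hst.2 _ hR')
  have hξiso : IsIso ξ := IsFibGrpd.isIso_of_isHomLift_id h𝒯.1 U ξ
  have hl2 : 𝒯.p.IsHomLift (𝟙 U) (e.hom ≫ ξ) := by
    have : 𝒯.p.IsHomLift (𝟙 U ≫ 𝟙 U) (e.hom ≫ ξ) := inferInstance
    simpa using this
  let P₁ : (FibCat.fp (yonedaFunctor hFs) F).obj :=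
    ⟨{ fst := Over.mk (𝟙 U), snd := s, iso := e }, he⟩
  let P₂ : (FibCat.fp (yonedaFunctor hFs) F).obj :=
    ⟨{ fst := Over.mk (𝟙 U), snd := s', iso := e ≪≫ asIso ξ }, hl2⟩
  have conv : ∀ ⦃A : (FibCat.fp (yonedaFunctor hFs) F).obj⦄ (Φ : A ⟶ P₁),
      OverR (𝒳 := fpOver (yonedaFunctor hFs) F) ((Sieve.overEquiv (Over.mk (𝟙 U))).symm R) Φ →
      OverR (𝒳 := 𝒮) R Φ.hom.snd := by
    rintro A Φ ⟨W, g, hg, hΦ⟩
    exact ⟨W.left, g.left, hg, fpOver_isHomLift_snd _ F Φ g hΦ⟩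
  let M : ∀ ⦃A : (FibCat.fp (yonedaFunctor hFs) F).obj⦄ (Φ : A ⟶ P₁),
      OverR (𝒳 := fpOver (yonedaFunctor hFs) F) ((Sieve.overEquiv (Over.mk (𝟙 U))).symm R) Φ →
      (A ⟶ P₂) :=
    fun A Φ h => ObjectProperty.homMk
      { fst := Φ.hom.fst
        snd := m Φ.hom.snd (conv Φ h)
        w := by
          have w1 := Φ.hom.w
          change (yonedaFunctor hFs).map Φ.hom.fst ≫ e.hom ≫ ξ =
            A.obj.iso.hom ≫ F.map (m Φ.hom.snd (conv Φ h))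
          change (yonedaFunctor hFs).map Φ.hom.fst ≫ e.hom = A.obj.iso.hom ≫ F.map Φ.hom.snd at w1
          rw [← eξ Φ.hom.snd (conv Φ h), ← Category.assoc, w1, Category.assoc] }
  obtain ⟨Θ, hΘ, eΘ⟩ := hfu (x := P₁) (y := P₂) rfl rfl M
    (by
      intro A Φ h W g hg
      have e1 := IsHomLift.fac' (fpOver (yonedaFunctor hFs) F).p g Φ
      exact IsHomLift.of_fac' (fpOver (yonedaFunctor hFs) F).p g (M Φ h)
        (IsHomLift.domain_eq (fpOver (yonedaFunctor hFs) F).p g Φ) rfl e1)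
    (by
      intro A Φ h A' Ψ
      apply ObjectProperty.hom_ext
      apply CategoricalPullback.hom_ext
      · rfl
      · exact hc Φ.hom.snd (conv Φ h) Ψ.hom.snd)
  refine ⟨Θ.hom.snd, ?_, ?_⟩
  · exact fpOver_isHomLift_snd _ F Θ (𝟙 (Over.mk (𝟙 U))) hΘ
  · intro a φ hφ
    obtain ⟨W, f, hf, hφ'⟩ := id hφ
    have lF : 𝒯.p.IsHomLift f (F.map φ) := inferInstance
    have sc := IsFibGrpd.isStronglyCartesian_of_isHomLift h𝒯.1 f (F.map φ)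
    have o1 : (FibCat.overCat U).p.IsHomLift f (overTerm U (Over.mk f)) :=
      overTerm_isHomLift U (Over.mk f)
    have l1 : 𝒯.p.IsHomLift f ((yonedaFunctor hFs).map (overTerm U (Over.mk f)) ≫ e.hom) := by
      have : 𝒯.p.IsHomLift (f ≫ 𝟙 U)
        ((yonedaFunctor hFs).map (overTerm U (Over.mk f)) ≫ e.hom) := inferInstance
      simpa using this
    obtain ⟨ι, ⟨hι, eι⟩, -⟩ := IsStronglyCartesian.universal_property 𝒯.p f (F.map φ) (𝟙 W) f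
      (Category.id_comp _).symm ((yonedaFunctor hFs).map (overTerm U (Over.mk f)) ≫ e.hom)
    have hιiso : IsIso ι := IsFibGrpd.isIso_of_isHomLift_id h𝒯.1 W ι
    let A : (FibCat.fp (yonedaFunctor hFs) F).obj :=
      ⟨{ fst := Over.mk f, snd := a, iso := asIso ι }, hι⟩
    let Φ : A ⟶ P₁ := ObjectProperty.homMk
      { fst := overTerm U (Over.mk f)
        snd := φ
        w := eι.symm }
    have hO : OverR (𝒳 := fpOver (yonedaFunctor hFs) F)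
        ((Sieve.overEquiv (Over.mk (𝟙 U))).symm R) Φ :=
      ⟨Over.mk f, overTerm U (Over.mk f), hf,
        IsHomLift.map (fpOver (yonedaFunctor hFs) F).p Φ⟩
    have e1 := congrArg (fun t => t.hom.snd) (eΘ Φ hO)
    exact e1

theorem hasCocone_of_fp (J : GrothendieckTopology C)
    (h𝒯 : Stk.IsStack J 𝒯) (F : 𝒮 ⥤ᵇ 𝒯)
    (h3 : ∀ (U : C) (y : FibCat.overCat U ⥤ᵇ 𝒯), Stk.IsStack (J.over U) (fpOver y F))
    {U : C} (R : Sieve U) (hR : R ∈ J U) : HasCocone R 𝒮 := by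
  intro D
  have hess : (Stk.resSieve R 𝒯).EssSurj :=
    (h𝒯.2 R hR : (Stk.resSieve R 𝒯).IsEquivalence).essSurj
  obtain ⟨y, ⟨ε⟩⟩ := hess.mem_essImage (BasedFunctor.comp D F)
  have hR' : (Sieve.overEquiv (Over.mk (𝟙 U))).symm R ∈ (J.over U) (Over.mk (𝟙 U)) :=
    GrothendieckTopology.overEquiv_symm_mem_over J (Over.mk (𝟙 U)) R hR
  have hst := h3 U y
  obtain ⟨-, -, hco⟩ := (isStackFor_iff hst.1).1 (hst.2 _ hR')
  let Fw : (Stk.sieveCat ((Sieve.overEquiv (Over.mk (𝟙 U))).symm R)).obj ⥤ (Stk.sieveCat R).obj :=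
    ObjectProperty.lift _ (ObjectProperty.ι _ ⋙ Over.forget (Over.mk (𝟙 U))) (fun g => by
      have h1 : R g.obj.hom.left := g.property
      have h2 : g.obj.hom.left ≫ 𝟙 U = g.obj.left.hom := Over.w g.obj.hom
      have h4 : g.obj.hom.left = g.obj.left.hom := (Category.comp_id _).symm.trans h2
      change R g.obj.left.hom
      rw [← h4]
      exact h1)
  let Dt : Stk.sieveCat ((Sieve.overEquiv (Over.mk (𝟙 U))).symm R) ⥤ᵇ fpOver y F :=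
    { toFunctor := Fw ⋙ (FibCat.fpLift (Stk.sieveIncl R) D ε).toFunctor
      w := rfl }
  obtain ⟨P, hP, ⟨c'⟩⟩ := hco Dt
  have hPs : 𝒮.p.obj P.obj.snd = U := by
    have h1 := (FibCat.fpSnd y F).w_obj P
    have h2 : P.obj.fst = Over.mk (𝟙 U) := hP
    have h3 : (FibCat.fp y F).p.obj P = U := by
      change P.obj.fst.left = U
      rw [h2]
      rfl
    exact h1.trans h3
  let gOf : ∀ a : (Stk.sieveCat R).obj,
      (Stk.sieveCat ((Sieve.overEquiv (Over.mk (𝟙 U))).symm R)).obj :=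
    fun a => ⟨Over.mk (overTerm U a.obj), a.property⟩
  refine ⟨P.obj.snd, hPs, ⟨{
    c := fun a => (c'.c (gOf a)).hom.snd
    lift := fun a => fpOver_isHomLift_snd y F (c'.c (gOf a)) (overTerm U a.obj) (c'.lift (gOf a))
    nat := ?_ }⟩⟩
  intro a a' u
  let k : gOf a ⟶ gOf a' := ObjectProperty.homMk (Over.homMk u.hom (overTerm_comp U u.hom))
  have e1 := congrArg (fun t => t.hom.snd) (c'.nat k)
  exact e1

/-- A category fibred in groupoids with a faithful functor to a stack in groupoids, all of whose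
fibre products with slices are stacks over the slices, is a stack in groupoids. -/
theorem isStack_of_faithful_of_fp (J : GrothendieckTopology C) (h𝒮 : FibCat.IsFibGrpd 𝒮.p)
    (h𝒯 : Stk.IsStack J 𝒯) (F : 𝒮 ⥤ᵇ 𝒯) [F.toFunctor.Faithful]
    (h3 : ∀ (U : C) (y : FibCat.overCat U ⥤ᵇ 𝒯), Stk.IsStack (J.over U) (fpOver y F)) :
    Stk.IsStack J 𝒮 := by
  refine ⟨h𝒮, fun U R hR => ?_⟩
  rw [isStackFor_iff h𝒮]
  have h𝒯fa : PSFaithful R 𝒯 := ((isStackFor_iff h𝒯.1).1 (h𝒯.2 R hR)).1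
  exact ⟨psFaithful_of_faithful_functor h𝒮 h𝒯.1 F R h𝒯fa, psFull_of_fp J h𝒮 h𝒯 F h3 R hR,
    hasCocone_of_fp J h𝒯 F h3 R hR⟩

end Faith

end Groth.Agent.Lib.Helper17.Elem
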