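-- helper17: the source of a 1-morphism representable by algebraic spaces into a stack is a stack.
import Groth.Agent.Lib.Helper17RepFaithful
import Groth.Agent.Lib.Helper17StkPsh4
import Groth.Agent.Lib.Helper17FibFp3
import Groth.Agent.Lib.Helper17StkTop
import Groth.Agent.S12804
import Groth.Agent.S12809

set_option autoImplicit false
set_option backward.isDefEq.respectTransparency false
set_option backward.isDefEq.respectTransparency.types false
open CategoryTheory CategoryTheory.Functor AlgebraicGeometry Opposite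

universe v u

namespace Groth.Agent.Lib.Helper17.RepStack

open Groth.Agent.Lib.Helper17

section Top

variable {C : Type u} [Category.{v} C] (J : GrothendieckTopology C) (U : C)

theorem restrictedTopology_overForget : (Over.forget U).restrictedTopology J = J.over U := by
  ext Y S
  rw [mem_restrictedTopology_iff_of_isFibGrpd (p := Over.forget U) (isFibSet_overForget U).1 J S,
    GrothendieckTopology.mem_over_iff]
  rfl

end Top

section Main

variable {S : Scheme.{u}} {𝒳 𝒴 : AlgSt.Cat S}

theorem isStack_ofSp (F : AlgSp.Sp S) :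
    Stk.IsStack (QuotSh.J Scheme.fppfPrecoverage S) (AlgSt.ofSp F) :=
  (isStack_ofPsh_iff_isSheaf _ F.obj).2 ((isSheaf_iff_isSheaf_of_type _ _).1 F.property)

theorem isStack_overCat (U : Over S) :
    Stk.IsStack (QuotSh.J Scheme.fppfPrecoverage S) (FibCat.overCat U) :=
  (isStack_overCat_iff_isSheaf_yoneda U _).2
    (GrothendieckTopology.Subcanonical.isSheaf_of_isRepresentable _)

theorem isStack_of_repByAlgSp1 (h𝒳 : FibCat.IsFibGrpd 𝒳.p)
    (h𝒴 : Stk.IsStack (QuotSh.J Scheme.fppfPrecoverage S) 𝒴)
    (j : 𝒳 ⥤ᵇ 𝒴) (hj : AlgSt.RepByAlgSp1 j) :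
    Stk.IsStack (QuotSh.J Scheme.fppfPrecoverage S) 𝒳 := by
  have hfaith := faithful_of_repByAlgSp1 h𝒳 h𝒴.1 j hj
  apply Groth.Agent.S12809.result (QuotSh.J Scheme.fppfPrecoverage S) h𝒳 h𝒴 j
  intro U y
  obtain ⟨F, e, he⟩ := hj U y
  have hW : Stk.IsStack (QuotSh.J Scheme.fppfPrecoverage S) (FibCat.fp y j) :=
    isStack_of_isEquivOver' _ e he (isStack_ofSp F.obj)
  have hU := isStack_overCat U
  have hfib := isFibGrpd_fpFst y j (isFibSet_overForget U).1 h𝒳 h𝒴.1
  have key := Groth.Agent.S12804.result (QuotSh.J Scheme.fppfPrecoverage S) hW hU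
    (FibCat.fpFst y j) hfib
  have etop : (FibCat.overCat U).p.restrictedTopology (QuotSh.J Scheme.fppfPrecoverage S) =
      (QuotSh.J Scheme.fppfPrecoverage S).over U := restrictedTopology_overForget _ U
  rw [etop] at key
  exact key

end Main

end Groth.Agent.Lib.Helper17.RepStack
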