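-- helper17: 2-fibre products with a representable leg over a stack are stacks.
import Groth.Agent.Lib.Helper17RepStack
import Groth.Agent.Lib.Helper17AlgStRep

set_option autoImplicit false
set_option backward.isDefEq.respectTransparency false
set_option backward.isDefEq.respectTransparency.types false
open CategoryTheory CategoryTheory.Functor AlgebraicGeometry Opposite

universe v w v' w' u

namespace Groth.Agent.Lib.Helper17.RepStack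

open Groth.Agent.Lib.Helper17

section

variable {S : Scheme.{u}} {𝒳 : BasedCategory.{v, w} (Over S)} {𝒴 : BasedCategory.{v', w'} (Over S)}

theorem repByAlgSp1_iff_top (f : 𝒳 ⥤ᵇ 𝒴) :
    AlgSt.RepByAlgSp1 f ↔ AlgSt.RepByAlgSpWith ⊤ f := by
  constructor
  · intro h U y
    obtain ⟨F, e, he⟩ := h U y
    exact ⟨F, e, he, trivial⟩
  · intro h U y
    obtain ⟨F, e, he, -⟩ := h U y
    exact ⟨F, e, he⟩

end

section

variable {S : Scheme.{u}} {𝒳 𝒴 𝒵 : AlgSt.Cat S}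

theorem repByAlgSp1_fpSnd (z : 𝒵 ⥤ᵇ 𝒴) (f : 𝒳 ⥤ᵇ 𝒴) (hz : AlgSt.RepByAlgSp1 z) :
    AlgSt.RepByAlgSp1 (FibCat.fpSnd z f) :=
  (repByAlgSp1_iff_top _).2 (repByAlgSpWith_fpSnd ⊤ z f ((repByAlgSp1_iff_top _).1 hz))

theorem repByAlgSp1_fpFst (f : 𝒳 ⥤ᵇ 𝒴) (g : 𝒵 ⥤ᵇ 𝒴) (hf : AlgSt.RepByAlgSp1 f) :
    AlgSt.RepByAlgSp1 (FibCat.fpFst g f) :=
  (repByAlgSp1_iff_top _).2 (repByAlgSpWith_fpFst ⊤ f g ((repByAlgSp1_iff_top _).1 hf))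

theorem isStack_fp_of_repByAlgSp1 (h𝒳 : FibCat.IsFibGrpd 𝒳.p) (h𝒵 : FibCat.IsFibGrpd 𝒵.p)
    (h𝒴 : Stk.IsStack (QuotSh.J Scheme.fppfPrecoverage S) 𝒴)
    (f : 𝒳 ⥤ᵇ 𝒵) (g : 𝒴 ⥤ᵇ 𝒵) (hf : AlgSt.RepByAlgSp1 f) :
    Stk.IsStack (QuotSh.J Scheme.fppfPrecoverage S) (FibCat.fp f g) :=
  isStack_of_repByAlgSp1 (isFibGrpd_fp f g h𝒳 h𝒴.1 h𝒵) h𝒴 (FibCat.fpSnd f g)
    (repByAlgSp1_fpSnd f g hf)

end

end Groth.Agent.Lib.Helper17.RepStack
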