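-- helper17: pre/post-composition with an equivalence 1-cell of a bicategory is an equivalence.
import Mathlib.CategoryTheory.Bicategory.Basic
import Mathlib.CategoryTheory.Equivalence

set_option autoImplicit false
open CategoryTheory Bicategory

universe w v u

namespace Groth.Agent.Lib.Helper17

section Bicat

variable {B : Type u} [Bicategory.{w, v} B] {a b : B}

theorem precomp_isEquivalence (c : B) (f : a ⟶ b) (g : b ⟶ a) (e₁ : f ≫ g ≅ 𝟙 a)
    (e₂ : g ≫ f ≅ 𝟙 b) : (Bicategory.precomp c f).IsEquivalence := by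
  let η : 𝟭 (b ⟶ c) ≅ Bicategory.precomp c f ⋙ Bicategory.precomp c g :=
    ((associatorNatIsoRight g f c).symm ≪≫ (precomposing b b c).mapIso e₂ ≪≫
      leftUnitorNatIso b c).symm
  let ε : Bicategory.precomp c g ⋙ Bicategory.precomp c f ≅ 𝟭 (a ⟶ c) :=
    (associatorNatIsoRight f g c).symm ≪≫ (precomposing a a c).mapIso e₁ ≪≫
      leftUnitorNatIso a c
  exact (CategoryTheory.Equivalence.mk (Bicategory.precomp c f) (Bicategory.precomp c g)
    η ε).isEquivalence_functor

theorem postcomp_isEquivalence (c : B) (f : a ⟶ b) (g : b ⟶ a) (e₁ : f ≫ g ≅ 𝟙 a)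
    (e₂ : g ≫ f ≅ 𝟙 b) : (Bicategory.postcomp c f).IsEquivalence := by
  let η : 𝟭 (c ⟶ a) ≅ Bicategory.postcomp c f ⋙ Bicategory.postcomp c g :=
    (associatorNatIsoLeft c f g ≪≫ (postcomposing c a a).mapIso e₁ ≪≫
      rightUnitorNatIso c a).symm
  let ε : Bicategory.postcomp c g ⋙ Bicategory.postcomp c f ≅ 𝟭 (c ⟶ b) :=
    associatorNatIsoLeft c g f ≪≫ (postcomposing c b b).mapIso e₂ ≪≫
      rightUnitorNatIso c b
  exact (CategoryTheory.Equivalence.mk (Bicategory.postcomp c f) (Bicategory.postcomp c g)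
    η ε).isEquivalence_functor

end Bicat

end Groth.Agent.Lib.Helper17
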