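-- helper17: invariance of the stack / prestack conditions under equivalence over the base.
import Groth.Prelude.Def_AlgSt
import Groth.Agent.Lib.Helper17Bicat
import Groth.Agent.Lib.Helper17FibSet2
import Groth.Agent.Lib.Helper17FibEquiv2

set_option autoImplicit false
open CategoryTheory CategoryTheory.Functor

universe v u

namespace Groth.Agent.Lib.Helper17

section StkEquiv

variable {C : Type u} [Category.{v} C]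

/-- The inverse of an equivalence over `C` is an equivalence over `C`. -/
theorem IsEquivOver.exists_inverse_isEquivOver {𝒳 𝒴 : BasedCategory.{v, max u v} C}
    (F : 𝒳 ⥤ᵇ 𝒴) (hF : FibCat.IsEquivOver F) :
    ∃ G : 𝒴 ⥤ᵇ 𝒳, FibCat.IsEquivOver G ∧
      Nonempty (BasedFunctor.comp F G ≅ BasedFunctor.id 𝒳) ∧
      Nonempty (BasedFunctor.comp G F ≅ BasedFunctor.id 𝒴) := by
  obtain ⟨G, h₁, h₂⟩ := hF
  exact ⟨G, ⟨F, h₂, h₁⟩, h₁, h₂⟩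

theorem IsEquivOver.isFibGrpd_of_isFibGrpd {𝒳 𝒴 : BasedCategory.{v, max u v} C}
    (F : 𝒳 ⥤ᵇ 𝒴) (hF : FibCat.IsEquivOver F) (h𝒴 : FibCat.IsFibGrpd 𝒴.p) :
    FibCat.IsFibGrpd 𝒳.p := by
  have := IsEquivOver.isEquivalence F hF
  have h𝒴f : 𝒴.p.IsFibered := IsFibGrpd.isFibered h𝒴
  have : 𝒳.p.IsFibered := (IsEquivOver.isFibered_iff F hF).2 h𝒴f
  exact isFibGrpd_of_ff_of_isFibGrpd F h𝒴

theorem IsEquivOver.isFibGrpd_iff {𝒳 𝒴 : BasedCategory.{v, max u v} C}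
    (F : 𝒳 ⥤ᵇ 𝒴) (hF : FibCat.IsEquivOver F) :
    FibCat.IsFibGrpd 𝒳.p ↔ FibCat.IsFibGrpd 𝒴.p := by
  obtain ⟨G, hG, -, -⟩ := IsEquivOver.exists_inverse_isEquivOver F hF
  exact ⟨IsEquivOver.isFibGrpd_of_isFibGrpd G hG, IsEquivOver.isFibGrpd_of_isFibGrpd F hF⟩



theorem restr_comp_postcomp {𝒜 ℬ 𝒳 𝒴 : BasedCategory.{v, max u v} C} (ι : 𝒜 ⥤ᵇ ℬ) (F : 𝒳 ⟶ 𝒴) :
    Stk.restr ι 𝒳 ⋙ Bicategory.postcomp 𝒜 F = Bicategory.postcomp ℬ F ⋙ Stk.restr ι 𝒴 := rfl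

theorem IsEquivOver.postcomp_isEquivalence {𝒳 𝒴 : BasedCategory.{v, max u v} C}
    (F : 𝒳 ⥤ᵇ 𝒴) (hF : FibCat.IsEquivOver F) (𝒜 : BasedCategory.{v, max u v} C) :
    (Bicategory.postcomp 𝒜 (show 𝒳 ⟶ 𝒴 from F)).IsEquivalence := by
  obtain ⟨G, ⟨e₁⟩, ⟨e₂⟩⟩ := hF
  exact Groth.Agent.Lib.Helper17.postcomp_isEquivalence 𝒜 (show 𝒳 ⟶ 𝒴 from F) (show 𝒴 ⟶ 𝒳 from G) e₁ e₂

theorem restr_isEquivalence_of_isEquivOver {𝒜 ℬ 𝒳 𝒴 : BasedCategory.{v, max u v} C}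
    (ι : 𝒜 ⥤ᵇ ℬ) (F : 𝒳 ⥤ᵇ 𝒴) (hF : FibCat.IsEquivOver F)
    (h : (Stk.restr ι 𝒳).IsEquivalence) : (Stk.restr ι 𝒴).IsEquivalence := by
  have h1 := IsEquivOver.postcomp_isEquivalence F hF 𝒜
  have h2 := IsEquivOver.postcomp_isEquivalence F hF ℬ
  have h3 : (Bicategory.postcomp ℬ (show 𝒳 ⟶ 𝒴 from F) ⋙ Stk.restr ι 𝒴).IsEquivalence := by
    rw [← restr_comp_postcomp]
    infer_instance
  exact Functor.isEquivalence_of_comp_left (Bicategory.postcomp ℬ (show 𝒳 ⟶ 𝒴 from F)) _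

theorem restr_ff_of_isEquivOver {𝒜 ℬ 𝒳 𝒴 : BasedCategory.{v, max u v} C}
    (ι : 𝒜 ⥤ᵇ ℬ) (F : 𝒳 ⥤ᵇ 𝒴) (hF : FibCat.IsEquivOver F)
    (h : (Stk.restr ι 𝒳).Full ∧ (Stk.restr ι 𝒳).Faithful) :
    (Stk.restr ι 𝒴).Full ∧ (Stk.restr ι 𝒴).Faithful := by
  obtain ⟨hfull, hfaith⟩ := h
  have h1 := IsEquivOver.postcomp_isEquivalence F hF 𝒜
  have h2 := IsEquivOver.postcomp_isEquivalence F hF ℬ
  let P := Bicategory.postcomp ℬ (show 𝒳 ⟶ 𝒴 from F)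
  have hP : P.IsEquivalence := h2
  have h3 : (P ⋙ Stk.restr ι 𝒴).Full := by
    rw [← restr_comp_postcomp]
    infer_instance
  have h4 : (P ⋙ Stk.restr ι 𝒴).Faithful := by
    rw [← restr_comp_postcomp]
    infer_instance
  let e : Stk.restr ι 𝒴 ≅ P.inv ⋙ (P ⋙ Stk.restr ι 𝒴) :=
    (Functor.leftUnitor _).symm ≪≫ Functor.isoWhiskerRight P.asEquivalence.counitIso.symm _ ≪≫
      Functor.associator _ _ _
  exact ⟨Functor.Full.of_iso e.symm, Functor.Faithful.of_iso e.symm⟩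


theorem isStack_of_isEquivOver (J : GrothendieckTopology C) {𝒳 𝒴 : BasedCategory.{v, max u v} C}
    (F : 𝒳 ⥤ᵇ 𝒴) (hF : FibCat.IsEquivOver F) (h : Stk.IsStack J 𝒳) : Stk.IsStack J 𝒴 :=
  ⟨(IsEquivOver.isFibGrpd_iff F hF).1 h.1, fun _ R hR =>
    restr_isEquivalence_of_isEquivOver (Stk.sieveIncl R) F hF (h.2 R hR)⟩

theorem isStack_iff_of_isEquivOver (J : GrothendieckTopology C) {𝒳 𝒴 : BasedCategory.{v, max u v} C}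
    (F : 𝒳 ⥤ᵇ 𝒴) (hF : FibCat.IsEquivOver F) : Stk.IsStack J 𝒳 ↔ Stk.IsStack J 𝒴 := by
  obtain ⟨G, hG, -, -⟩ := IsEquivOver.exists_inverse_isEquivOver F hF
  exact ⟨isStack_of_isEquivOver J F hF, isStack_of_isEquivOver J G hG⟩

theorem isPrestack_of_isEquivOver (J : GrothendieckTopology C) {𝒳 𝒴 : BasedCategory.{v, max u v} C}
    (F : 𝒳 ⥤ᵇ 𝒴) (hF : FibCat.IsEquivOver F) (h : Stk.IsPrestack J 𝒳) : Stk.IsPrestack J 𝒴 :=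
  ⟨(IsEquivOver.isFibGrpd_iff F hF).1 h.1, fun _ R hR =>
    restr_ff_of_isEquivOver (Stk.sieveIncl R) F hF (h.2 R hR)⟩

theorem isPrestack_iff_of_isEquivOver (J : GrothendieckTopology C) {𝒳 𝒴 : BasedCategory.{v, max u v} C}
    (F : 𝒳 ⥤ᵇ 𝒴) (hF : FibCat.IsEquivOver F) : Stk.IsPrestack J 𝒳 ↔ Stk.IsPrestack J 𝒴 := by
  obtain ⟨G, hG, -, -⟩ := IsEquivOver.exists_inverse_isEquivOver F hF
  exact ⟨isPrestack_of_isEquivOver J F hF, isPrestack_of_isEquivOver J G hG⟩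

theorem IsEquivOver.isFibSetoid_of_isFibSetoid {𝒳 𝒴 : BasedCategory.{v, max u v} C}
    (F : 𝒳 ⥤ᵇ 𝒴) (hF : FibCat.IsEquivOver F) (h𝒴 : FibCat.IsFibSetoid 𝒴.p) :
    FibCat.IsFibSetoid 𝒳.p := by
  have := IsEquivOver.isEquivalence F hF
  refine ⟨IsEquivOver.isFibGrpd_of_isFibGrpd F hF h𝒴.1, ?_⟩
  intro U X Y
  refine ⟨fun m₁ m₂ => ?_⟩
  have hf := fiberFunctor_faithful_of_faithful F U
  apply (FibCat.fiberFunctor F U).map_injective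
  exact @Subsingleton.elim _ ((h𝒴.2 U) _ _) _ _

theorem IsEquivOver.isFibSetoid_iff {𝒳 𝒴 : BasedCategory.{v, max u v} C}
    (F : 𝒳 ⥤ᵇ 𝒴) (hF : FibCat.IsEquivOver F) :
    FibCat.IsFibSetoid 𝒳.p ↔ FibCat.IsFibSetoid 𝒴.p := by
  obtain ⟨G, hG, -, -⟩ := IsEquivOver.exists_inverse_isEquivOver F hF
  exact ⟨IsEquivOver.isFibSetoid_of_isFibSetoid G hG, IsEquivOver.isFibSetoid_of_isFibSetoid F hF⟩

end StkEquiv

end Groth.Agent.Lib.Helper17
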