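-- helper15: smooth surjective charts compose; algebraicity of fibre products, products and sources of representable functors.
import Mathlib
import Groth.Agent.Lib.Helper15SrcCancel
import Groth.Agent.Lib.Helper17RepStack2
import Groth.Agent.S12780
import Groth.Agent.S12770
import Groth.Agent.S12792
import Groth.Agent.S12793

set_option autoImplicit false
set_option backward.isDefEq.respectTransparency false
set_option backward.isDefEq.respectTransparency.types false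
open CategoryTheory CategoryTheory.Functor CategoryTheory.Limits Opposite AlgebraicGeometry

universe u

namespace Groth.Agent.Lib.Helper15Atlas

open Groth.Agent.Lib.Helper17 Groth.Agent.Lib.Helper15PshFib Groth.Agent.Lib.Helper15RepComp
  Groth.Agent.Lib.Helper15RepPsh Groth.Agent.Lib.Helper15DiagBase Groth.Agent.Lib.Helper15DiagRepSp
  Groth.Agent.Lib.Helper15Descent Groth.Agent.Lib.Helper15DiagLft
  Groth.Agent.Lib.Helper15DiagDescent Groth.Agent.Lib.Helper15SpMapRep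
  Groth.Agent.Lib.Helper15SrcCancel Groth.Agent.Lib.Helper15ChartSp

section Props

variable {S : Scheme.{u}}

theorem compCond_isSurjectiveMor : CompCond (AlgSp.IsSurjectiveMor (S := S)) := by
  intro H G U a b hH hG hb hpb
  have ha : AlgSp.IsSurjectiveMor a := isSurjectiveMor_of_baseChange_to_schemes a (fun T ξ => by
    obtain ⟨F_T, fst, snd, -, sq, hs⟩ := hpb T ξ
    exact ⟨F_T, fst, snd, sq, hs⟩)
  intro x
  obtain ⟨y, hy⟩ := hb x
  obtain ⟨z, hz⟩ := ha y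
  exact ⟨z, by rw [AlgSp.Points.map_comp, hz, hy]⟩

theorem locP_smooth_comp {X Y Z : AlgSp.Sp S} (hY : AlgSp.IsAlgSpace Y) (hZ : AlgSp.IsAlgSpace Z)
    (a : X ⟶ Y) (b : Y ⟶ Z) (ha : AlgSp.LocP @Smooth a) (hb : AlgSp.LocP @Smooth b) :
    AlgSp.LocP @Smooth (a ≫ b) := by
  have : MorphismProperty.ContainsIdentities (@Smooth : MorphismProperty Scheme.{u}) :=
    ⟨fun X => (inferInstance : Smooth (𝟙 X))⟩
  have : MorphismProperty.IsMultiplicative (@Smooth : MorphismProperty Scheme.{u}) := {}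
  exact Groth.Agent.Lib.Helper12.LocPGen.locP_comp (@Smooth)
    (fun e k _ _ h => by
      have : Smooth (e ≫ k) := h
      exact Groth.Agent.Lib.Helper12.SmoothSrc.smooth_of_etale_cover_source e k)
    hY hZ a b ha hb

theorem compCond_smooth : CompCond (AlgSp.LocP (S := S) @Smooth) :=
  Groth.Agent.S12780.Aux.compCond_of_local _
    (fun _ _ _ _ hY hZ a b ha hb => locP_smooth_comp hY hZ a b ha hb)
    (isLocalOnBase_fppf_of_fpqc _ (Groth.Agent.S10542.result S))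

end Props

section Atlas

variable {S : Scheme.{u}} {𝒜 𝒲 : AlgSt.Cat S}

/-- A smooth surjective functor from a category with a smooth surjective chart gives a smooth
surjective chart of the target. -/
theorem hasAtlas_of_cover (h𝒜 : FibCat.IsFibGrpd 𝒜.p)
    (a : 𝒜 ⥤ᵇ 𝒲) (ha₁ : AlgSt.RepByAlgSpWith (AlgSp.LocP @Smooth) a)
    (ha₂ : AlgSt.RepByAlgSpWith AlgSp.IsSurjectiveMor a)
    (hA : AlgSt.HasAtlas (AlgSp.LocP @Smooth) 𝒜) : AlgSt.HasAtlas (AlgSp.LocP @Smooth) 𝒲 := by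
  obtain ⟨U, x, hx₁, hx₂⟩ := hA
  have hU : FibCat.IsFibGrpd (FibCat.overCat U).p := (isFibSet_overForget U).1
  exact ⟨U, BasedFunctor.comp x a,
    repByAlgSpWith_comp_of_compCond hU h𝒜 _ compCond_smooth x a hx₁ ha₁,
    repByAlgSpWith_comp_of_compCond hU h𝒜 _ compCond_isSurjectiveMor x a hx₂ ha₂⟩

/-- A category equivalent to that of an algebraic space has a surjective chart with every
property enjoyed by representable etale surjective morphisms to schemes. -/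
theorem hasAtlas_of_repByAlgSp (Q : MorphismProperty (AlgSp.Sp S))
    (hQ : ∀ (X : AlgSp.Space S) (T : Over S) (s : X.obj ⟶ (AlgSp.yon S).obj T),
      AlgSp.RepWith @Etale s → AlgSp.RepWith @Surjective s → Q s)
    (h : AlgSt.RepByAlgSp 𝒜) : AlgSt.HasAtlas Q 𝒜 := by
  obtain ⟨F, e, he⟩ := h
  obtain ⟨U, a, hae, has⟩ := F.property.atlas
  refine ⟨U, BasedFunctor.comp (BasedFunctor.comp (AlgSt.ofOverCat U) (AlgSt.ofSpMap a)) e, ?_, ?_⟩
  · exact (repByAlgSpWith_of_square Q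
      (BasedFunctor.comp (BasedFunctor.comp (AlgSt.ofOverCat U) (AlgSt.ofSpMap a)) e)
      (BasedFunctor.comp (AlgSt.ofOverCat U) (AlgSt.ofSpMap a)) (BasedFunctor.id _) e
      (isEquivOver_id _) he (Iso.refl _)).2 (repByAlgSpWith_atlas Q hQ F a hae has)
  · exact (repByAlgSpWith_of_square AlgSp.IsSurjectiveMor
      (BasedFunctor.comp (BasedFunctor.comp (AlgSt.ofOverCat U) (AlgSt.ofSpMap a)) e)
      (BasedFunctor.comp (AlgSt.ofOverCat U) (AlgSt.ofSpMap a)) (BasedFunctor.id _) e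
      (isEquivOver_id _) he (Iso.refl _)).2
      (repByAlgSpWith_atlas _ (fun X T s he hs => (props_of_etale_surjective X T s he hs).2.2.1)
        F a hae has)

theorem locP_smooth_of_etale_surjective (X : AlgSp.Space S) (T : Over S)
    (s : X.obj ⟶ (AlgSp.yon S).obj T) (he : AlgSp.RepWith @Etale s)
    (_ : AlgSp.RepWith @Surjective s) : AlgSp.LocP @Smooth s := by
  let TT : AlgSp.Space S := ⟨(AlgSp.yon S).obj T, AlgSp.IsAlgSpace.yon_obj T⟩
  let f : X ⟶ TT := ObjectProperty.homMk s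
  have het : AlgSp.IsEtaleMor f.hom := fun V φ hφ => MorphismProperty.comp_mem _ _ _ hφ he
  exact (Groth.Agent.S10265.result f het).2.1

theorem isEtaleMor_of_etale_surjective (X : AlgSp.Space S) (T : Over S)
    (s : X.obj ⟶ (AlgSp.yon S).obj T) (he : AlgSp.RepWith @Etale s)
    (_ : AlgSp.RepWith @Surjective s) : AlgSp.IsEtaleMor s :=
  fun _ _ hφ => MorphismProperty.comp_mem _ _ _ hφ he

end Atlas

section Diag

variable {S : Scheme.{u}} {𝒳 𝒴 : AlgSt.Cat S}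

/-- If `j : 𝒳 ⟶ 𝒴` is representable by algebraic spaces and the diagonal of `𝒴` over the base is
representable by algebraic spaces, so is the diagonal of `𝒳`. -/
theorem repByAlgSp1_diag_toSelf_of_repByAlgSp1
    (hΔ : AlgSt.RepByAlgSp1 (FibCat.diag (FibCat.toSelf 𝒴))) (j : 𝒳 ⥤ᵇ 𝒴)
    (hj : AlgSt.RepByAlgSp1 j) : AlgSt.RepByAlgSp1 (FibCat.diag (FibCat.toSelf 𝒳)) := by
  rw [repByAlgSp1_diag_toSelf_iff]
  intro U x V y
  let yj : FibCat.overCat V ⥤ᵇ 𝒴 := BasedFunctor.comp y j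
  let q : FibCat.fp yj j ⥤ᵇ 𝒳 := FibCat.fpSnd yj j
  have hA : AlgSt.RepByAlgSp (FibCat.fp yj j) := hj V yj
  let s : FibCat.overCat V ⥤ᵇ FibCat.fp yj j :=
    FibCat.fpLift (BasedFunctor.id _) y (Iso.refl _)
  have h1 : AlgSt.RepByAlgSp (FibCat.fp q x) :=
    repByAlgSp_of_isEquivOver' _ (isEquivOver_pasteR yj x j)
      (repByAlgSp1_of_repByAlgSp1_diag hΔ U (BasedFunctor.comp x j) V yj)
  have h2 : AlgSt.RepByAlgSp1 (FibCat.fpFst q x) := repByAlgSp1_of_repByAlgSp h1 hA _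
  have h3 : AlgSt.RepByAlgSp (FibCat.fp s (FibCat.fpFst q x)) := h2 V s
  have h4 : AlgSt.RepByAlgSp (FibCat.fp (BasedFunctor.comp s q) x) :=
    repByAlgSp_of_isEquivOver _ (isEquivOver_pasteL x q s) h3
  have := IsEquivOver.isEquivalence (BasedFunctor.id 𝒳) (isEquivOver_id 𝒳)
  have hM := isEquivOver_fpMap y x (BasedFunctor.comp s q) x (BasedFunctor.id _)
    (BasedFunctor.id _) (BasedFunctor.id _) (Iso.refl _) (Iso.refl _)
    (isEquivOver_id _) (isEquivOver_id _)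
  exact repByAlgSp_of_isEquivOver _ hM h4

end Diag

section Main

variable {S : Scheme.{u}} {𝒳 𝒴 𝒵 : AlgSt.Cat S}

/-- A category fibred in groupoids with a functor representable by algebraic spaces to an
algebraic stack is an algebraic stack. -/
theorem isAlgStack_of_repByAlgSp1 (h𝒳 : FibCat.IsFibGrpd 𝒳.p)
    (h𝒴 : AlgSt.IsAlgStack Scheme.fppfPrecoverage 𝒴) (j : 𝒳 ⥤ᵇ 𝒴) (hj : AlgSt.RepByAlgSp1 j) :
    AlgSt.IsAlgStack Scheme.fppfPrecoverage 𝒳 := by
  refine ⟨Groth.Agent.Lib.Helper17.RepStack.isStack_of_repByAlgSp1 h𝒳 h𝒴.isStack j hj,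
    repByAlgSp1_diag_toSelf_of_repByAlgSp1 h𝒴.diag j hj, ?_⟩
  obtain ⟨V, y, hy₁, hy₂⟩ := h𝒴.atlas
  have hV : FibCat.IsFibGrpd (FibCat.overCat V).p := (isFibSet_overForget V).1
  have hA : AlgSt.RepByAlgSp (FibCat.fp y j) := hj V y
  have hAt : AlgSt.HasAtlas (AlgSp.LocP @Smooth) (FibCat.fp y j) :=
    hasAtlas_of_repByAlgSp _ locP_smooth_of_etale_surjective hA
  exact hasAtlas_of_cover (isFibGrpd_fp y j hV h𝒳 h𝒴.isStack.1) (FibCat.fpSnd y j)
    (repByAlgSpWith_fpSnd _ y j hy₁) (repByAlgSpWith_fpSnd _ y j hy₂) hAt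

/-- The 2-fibre product of algebraic stacks over a prestack with diagonal representable by
algebraic spaces is an algebraic stack. -/
theorem isAlgStack_fp_of_isPrestack
    (h𝒵 : Stk.IsPrestack (QuotSh.J Scheme.fppfPrecoverage S) 𝒵)
    (hΔ : AlgSt.RepByAlgSp1 (FibCat.diag (FibCat.toSelf 𝒵)))
    (h𝒳 : AlgSt.IsAlgStack Scheme.fppfPrecoverage 𝒳) (h𝒴 : AlgSt.IsAlgStack Scheme.fppfPrecoverage 𝒴)
    (f : 𝒳 ⥤ᵇ 𝒵) (g : 𝒴 ⥤ᵇ 𝒵) :
    AlgSt.IsAlgStack Scheme.fppfPrecoverage (FibCat.fp f g) := by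
  refine ⟨Groth.Agent.S12792.result _ f g h𝒳.isStack h𝒴.isStack h𝒵,
    Groth.Agent.Lib.Helper15DiagOfComp.repByAlgSp1_diag_toSelf_fp h𝒳.isStack.1 h𝒴.isStack.1 h𝒵.1
      h𝒳.diag h𝒴.diag hΔ f g, ?_⟩
  obtain ⟨U, x, hx₁, hx₂⟩ := h𝒳.atlas
  have hU : FibCat.IsFibGrpd (FibCat.overCat U).p := (isFibSet_overForget U).1
  let pr : FibCat.fp f g ⥤ᵇ 𝒳 := FibCat.fpFst f g
  have ha₁ := repByAlgSpWith_fpSnd (AlgSp.LocP @Smooth) x pr hx₁
  have ha₂ := repByAlgSpWith_fpSnd AlgSp.IsSurjectiveMor x pr hx₂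
  have hxf : AlgSt.RepByAlgSp1 (BasedFunctor.comp x f) :=
    repByAlgSp1_of_repByAlgSp1_diag hΔ U (BasedFunctor.comp x f)
  have hsnd : AlgSt.RepByAlgSp1 (FibCat.fpSnd (BasedFunctor.comp x f) g) :=
    Groth.Agent.Lib.Helper17.RepStack.repByAlgSp1_fpSnd (BasedFunctor.comp x f) g hxf
  have hB : AlgSt.IsAlgStack Scheme.fppfPrecoverage (FibCat.fp (BasedFunctor.comp x f) g) :=
    isAlgStack_of_repByAlgSp1 (isFibGrpd_fp _ g hU h𝒴.isStack.1 h𝒵.1) h𝒴 _ hsnd
  have hAalg : AlgSt.IsAlgStack Scheme.fppfPrecoverage (FibCat.fp x pr) :=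
    (Groth.Agent.S12770.result (pasteL g f x) (isEquivOver_pasteL g f x)).2 hB
  exact hasAtlas_of_cover hAalg.isStack.1 (FibCat.fpSnd x pr) ha₁ ha₂ hAalg.atlas

/-- A category fibred in groupoids equivalent to that of an algebraic space is a Deligne-Mumford
stack. -/
theorem isDM_of_repByAlgSp (hr : AlgSt.RepByAlgSp 𝒳) :
    AlgSt.IsDM Scheme.fppfPrecoverage 𝒳 := by
  obtain ⟨F, e, he⟩ := hr
  have hst : Stk.IsStack (QuotSh.J Scheme.fppfPrecoverage S) 𝒳 :=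
    (Groth.Agent.S12793.result _ e he).1 (Groth.Agent.Lib.Helper17.RepStack.isStack_ofSp F.obj)
  have hd : AlgSt.RepByAlgSp1 (FibCat.diag (FibCat.toSelf 𝒳)) :=
    repByAlgSp1_diag_toSelf_iff.2 (fun U x =>
      repByAlgSp1_of_repByAlgSp (repByAlgSp_overCat U) ⟨F, e, he⟩ x)
  exact ⟨⟨hst, hd, hasAtlas_of_repByAlgSp _ locP_smooth_of_etale_surjective ⟨F, e, he⟩⟩,
    hasAtlas_of_repByAlgSp _ isEtaleMor_of_etale_surjective ⟨F, e, he⟩⟩

theorem isPrestack_selfOver :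
    Stk.IsPrestack (QuotSh.J Scheme.fppfPrecoverage S) (FibCat.selfOver (Over S)) :=
  ⟨isFibGrpd_selfOver _, fun _ _ _ =>
    ⟨⟨fun {G G'} _ => ⟨(selfOverIso G G').hom, selfOver_twoHom_ext _ _⟩⟩,
      ⟨fun {_ _} α β _ => selfOver_twoHom_ext α β⟩⟩⟩

theorem repByAlgSp1_diag_selfOver :
    AlgSt.RepByAlgSp1 (FibCat.diag (FibCat.toSelf (FibCat.selfOver (Over S)))) :=
  repByAlgSp1_diag_toSelf_iff.2 (fun U x V y => repByAlgSp_fp_selfOver V U y x)

/-- The product over the base of two algebraic stacks is an algebraic stack. -/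
theorem isAlgStack_prod (h𝒳 : AlgSt.IsAlgStack Scheme.fppfPrecoverage 𝒳)
    (h𝒴 : AlgSt.IsAlgStack Scheme.fppfPrecoverage 𝒴) :
    AlgSt.IsAlgStack Scheme.fppfPrecoverage (FibCat.fp (FibCat.toSelf 𝒳) (FibCat.toSelf 𝒴)) :=
  isAlgStack_fp_of_isPrestack isPrestack_selfOver repByAlgSp1_diag_selfOver h𝒳 h𝒴 _ _

theorem exists_overMap_iso {U V : Over S} (Φ : FibCat.overCat U ⥤ᵇ FibCat.overCat V) :
    ∃ a : U ⟶ V, Nonempty (Φ ≅ AlgSt.overMap a) := by
  refine ⟨ovSec Φ (Over.mk (𝟙 U)), ⟨isoOfOverCat (fun c => ?_)⟩⟩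
  rw [ovSec_overMap]
  exact (ovSec_map Φ (Over.homMk c.hom : c ⟶ Over.mk (𝟙 U))).symm

/-- Over a smooth surjective chart of the target there is a smooth surjective chart of the
source. -/
theorem exists_smooth_surjective_chart_over (h𝒳 : AlgSt.IsAlgStack Scheme.fppfPrecoverage 𝒳)
    (h𝒴 : AlgSt.IsAlgStack Scheme.fppfPrecoverage 𝒴) (f : 𝒳 ⥤ᵇ 𝒴) (V : Over S)
    (y : FibCat.overCat V ⥤ᵇ 𝒴) (hy : AlgSt.RepByAlgSpWith (AlgSp.LocP @Smooth) y)
    (hy' : AlgSt.RepByAlgSpWith AlgSp.IsSurjectiveMor y) :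
    ∃ (U : Over S) (a : U ⟶ V) (x : FibCat.overCat U ⥤ᵇ 𝒳),
      AlgSt.RepByAlgSpWith (AlgSp.LocP @Smooth) x ∧ AlgSt.RepByAlgSpWith AlgSp.IsSurjectiveMor x ∧
        Nonempty (BasedFunctor.comp x f ≅ BasedFunctor.comp (AlgSt.overMap a) y) := by
  have hV : AlgSt.IsAlgStack Scheme.fppfPrecoverage (FibCat.overCat V) :=
    (isDM_of_repByAlgSp (repByAlgSp_overCat V)).1
  have hW : AlgSt.IsAlgStack Scheme.fppfPrecoverage (FibCat.fp y f) :=
    isAlgStack_fp_of_isPrestack (IsStack.isPrestack _ h𝒴.isStack) h𝒴.diag hV h𝒳 y f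
  obtain ⟨U, w, hw₁, hw₂⟩ := hW.atlas
  have hU : FibCat.IsFibGrpd (FibCat.overCat U).p := (isFibSet_overForget U).1
  obtain ⟨a, ⟨ι⟩⟩ := exists_overMap_iso (BasedFunctor.comp w (FibCat.fpFst y f))
  refine ⟨U, a, BasedFunctor.comp w (FibCat.fpSnd y f),
    repByAlgSpWith_comp_of_compCond hU hW.isStack.1 _ compCond_smooth w _ hw₁
      (repByAlgSpWith_fpSnd _ y f hy),
    repByAlgSpWith_comp_of_compCond hU hW.isStack.1 _ compCond_isSurjectiveMor w _ hw₂
      (repByAlgSpWith_fpSnd _ y f hy'), ⟨?_⟩⟩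
  exact (whiskerLeftIso w (FibCat.fpIso y f).symm : _ ≅
    BasedFunctor.comp (BasedFunctor.comp w (FibCat.fpFst y f)) y) ≪≫ whiskerRightIso ι y

end Main

end Groth.Agent.Lib.Helper15Atlas
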