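-- helper17: points of categories over (Sch/S): functoriality and invariance under equivalence.
import Groth.Prelude.Def_AlgSt4
import Groth.Agent.Lib.Helper17FibEquiv

set_option autoImplicit false
open CategoryTheory CategoryTheory.Functor AlgebraicGeometry

universe w'' v'' w' v' w v u

namespace Groth.Agent.Lib.Helper17

section Pts

variable {S : Scheme.{u}} {𝒳 : BasedCategory.{v, w} (Over S)} {𝒴 : BasedCategory.{v', w'} (Over S)}
  {𝒵 : BasedCategory.{v'', w''} (Over S)}

theorem points_map_comp (F : 𝒳 ⥤ᵇ 𝒴) (G : 𝒴 ⥤ᵇ 𝒵) (x : AlgSt.Points 𝒳) :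
    AlgSt.Points.map (BasedFunctor.comp F G) x = AlgSt.Points.map G (AlgSt.Points.map F x) := by
  obtain ⟨p, rfl⟩ := AlgSt.Points.mk_surjective x
  rfl

theorem points_map_id (x : AlgSt.Points 𝒳) : AlgSt.Points.map (BasedFunctor.id 𝒳) x = x := by
  obtain ⟨p, rfl⟩ := AlgSt.Points.mk_surjective x
  rfl

/-- Naturally isomorphic functors induce the same map on points. -/
theorem points_map_congr (F F' : 𝒳 ⥤ᵇ 𝒴) (e : F.toFunctor ≅ F'.toFunctor) (x : AlgSt.Points 𝒳) :
    AlgSt.Points.map F x = AlgSt.Points.map F' x := by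
  obtain ⟨p, rfl⟩ := AlgSt.Points.mk_surjective x
  rw [AlgSt.Points.map_mk, AlgSt.Points.map_mk]
  apply AlgSt.Points.sound
  exact ⟨p.map F, 𝟙 _, e.hom.app p.obj, trivial⟩

/-- An equivalence over the base is injective on points. -/
theorem points_map_injective_of_isEquivOver (E : 𝒳 ⥤ᵇ 𝒴) (hE : FibCat.IsEquivOver E) :
    Function.Injective (AlgSt.Points.map E) := by
  obtain ⟨G, α, β, -, -⟩ := IsEquivOver.exists_data E hE
  have h : ∀ x, AlgSt.Points.map G (AlgSt.Points.map E x) = x := by
    intro x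
    rw [← points_map_comp, points_map_congr (BasedFunctor.comp E G) (BasedFunctor.id 𝒳) α,
      points_map_id]
  exact Function.LeftInverse.injective h

end Pts

end Groth.Agent.Lib.Helper17
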