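-- helper15: composition of universally injective and of quasi-compact morphisms of algebraic stacks.
import Mathlib
import Groth.Agent.Lib.Helper15Atlas
import Groth.Agent.Lib.Helper17StkPts3

set_option autoImplicit false
set_option backward.isDefEq.respectTransparency false
set_option backward.isDefEq.respectTransparency.types false
open CategoryTheory CategoryTheory.Functor CategoryTheory.Limits Opposite AlgebraicGeometry

universe u

namespace Groth.Agent.Lib.Helper15UnivComp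

open Groth.Agent.Lib.Helper17 Groth.Agent.Lib.Helper15Atlas

section A

variable {S : Scheme.{u}} {𝒳 𝒴 𝒵 : AlgSt.Cat S}

theorem points_map_surjective_of_isEquivOver (E : 𝒳 ⥤ᵇ 𝒴) (hE : FibCat.IsEquivOver E) :
    Function.Surjective (AlgSt.Points.map E) := by
  obtain ⟨G, α, β, -, -⟩ := IsEquivOver.exists_data E hE
  intro y
  refine ⟨AlgSt.Points.map G y, ?_⟩
  rw [← points_map_comp, points_map_congr (BasedFunctor.comp G E) (BasedFunctor.id 𝒴) β,
    points_map_id]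

theorem isUnivInjective_comp (h𝒴 : AlgSt.IsAlgStack Scheme.fppfPrecoverage 𝒴)
    (h𝒵 : AlgSt.IsAlgStack Scheme.fppfPrecoverage 𝒵)
    (f : 𝒳 ⥤ᵇ 𝒴) (g : 𝒴 ⥤ᵇ 𝒵) (hf : AlgSt.IsUnivInjective Scheme.fppfPrecoverage f)
    (hg : AlgSt.IsUnivInjective Scheme.fppfPrecoverage g) :
    AlgSt.IsUnivInjective Scheme.fppfPrecoverage (BasedFunctor.comp f g) := by
  intro 𝒵' h𝒵' g'
  have hW : AlgSt.IsAlgStack Scheme.fppfPrecoverage (FibCat.fp g' g) :=
    isAlgStack_fp_of_isPrestack (IsStack.isPrestack _ h𝒵.isStack) h𝒵.diag h𝒵' h𝒴 g' g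
  have h1 := hf (FibCat.fp g' g) hW (FibCat.fpSnd g' g)
  have h2 := hg 𝒵' h𝒵' g'
  have hR := points_map_surjective_of_isEquivOver (pasteR g' f g) (isEquivOver_pasteR g' f g)
  intro p₁ p₂ h
  obtain ⟨q₁, rfl⟩ := hR p₁
  obtain ⟨q₂, rfl⟩ := hR p₂
  rw [← points_map_comp, ← points_map_comp] at h
  have h' : AlgSt.Points.map (BasedFunctor.comp (FibCat.fpFst (FibCat.fpSnd g' g) f)
      (FibCat.fpFst g' g)) q₁ = AlgSt.Points.map (BasedFunctor.comp
      (FibCat.fpFst (FibCat.fpSnd g' g) f) (FibCat.fpFst g' g)) q₂ := h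
  rw [points_map_comp, points_map_comp] at h'
  rw [h1 (h2 h')]

theorem isQuasiCompact_of_isEquivOver (E : 𝒳 ⥤ᵇ 𝒴) (hE : FibCat.IsEquivOver E)
    (h : AlgSt.IsQuasiCompact 𝒳) : AlgSt.IsQuasiCompact 𝒴 := by
  obtain ⟨U, x, hU, hx₁, hx₂⟩ := h
  refine ⟨U, BasedFunctor.comp x E, hU, ?_, ?_⟩
  · exact (repByAlgSpWith_of_square _ (BasedFunctor.comp x E) x (BasedFunctor.id _) E
      (isEquivOver_id _) hE (Iso.refl _)).2 hx₁
  · exact (repByAlgSpWith_of_square _ (BasedFunctor.comp x E) x (BasedFunctor.id _) E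
      (isEquivOver_id _) hE (Iso.refl _)).2 hx₂

theorem isQuasiCompactMor_comp (h𝒴 : AlgSt.IsAlgStack Scheme.fppfPrecoverage 𝒴)
    (h𝒵 : AlgSt.IsAlgStack Scheme.fppfPrecoverage 𝒵)
    (f : 𝒳 ⥤ᵇ 𝒴) (g : 𝒴 ⥤ᵇ 𝒵) (hf : AlgSt.IsQuasiCompactMor Scheme.fppfPrecoverage f)
    (hg : AlgSt.IsQuasiCompactMor Scheme.fppfPrecoverage g) :
    AlgSt.IsQuasiCompactMor Scheme.fppfPrecoverage (BasedFunctor.comp f g) := by
  intro 𝒵' h𝒵' hqc g'
  have hW : AlgSt.IsAlgStack Scheme.fppfPrecoverage (FibCat.fp g' g) :=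
    isAlgStack_fp_of_isPrestack (IsStack.isPrestack _ h𝒵.isStack) h𝒵.diag h𝒵' h𝒴 g' g
  have h2 := hg 𝒵' h𝒵' hqc g'
  have h1 := hf (FibCat.fp g' g) hW h2 (FibCat.fpSnd g' g)
  exact isQuasiCompact_of_isEquivOver (pasteR g' f g) (isEquivOver_pasteR g' f g) h1

end A

end Groth.Agent.Lib.Helper15UnivComp
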