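-- helper17: field-valued points of categories fibred in groupoids over schemes.
import Groth.Prelude.Def_AlgSt4
import Groth.Agent.Lib.Helper17StkLoc
import Mathlib.AlgebraicGeometry.PullbackCarrier

set_option autoImplicit false
set_option backward.isDefEq.respectTransparency false
set_option backward.isDefEq.respectTransparency.types false
open CategoryTheory CategoryTheory.Limits AlgebraicGeometry Opposite

universe u

namespace Groth.Agent.Lib.Helper17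

section Points

variable {S : Scheme.{u}} {𝒳 : AlgSt.Cat S}

theorem fpt_left_eq (p : AlgSt.FPt 𝒳) :
    (𝒳.p.obj p.obj).left = Spec (CommRingCat.of p.K) := congrArg (fun t => t.left) p.lies

theorem fpt_nonempty (p : AlgSt.FPt 𝒳) : Nonempty ↥(𝒳.p.obj p.obj).left := by
  rw [fpt_left_eq p]
  exact inferInstanceAs (Nonempty (PrimeSpectrum p.K))

theorem fpt_subsingleton (p : AlgSt.FPt 𝒳) : Subsingleton ↥(𝒳.p.obj p.obj).left := by
  rw [fpt_left_eq p]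
  exact inferInstanceAs (Subsingleton (PrimeSpectrum p.K))

/-- Amalgamation: two field points mapping to a third have a common refinement. -/
theorem fpt_amalgam (h𝒳 : FibCat.IsFibGrpd 𝒳.p) {q r r' : AlgSt.FPt 𝒳}
    (b : r.obj ⟶ q.obj) (c : r'.obj ⟶ q.obj) :
    ∃ (m : AlgSt.FPt 𝒳) (μ₁ : m.obj ⟶ r.obj) (μ₂ : m.obj ⟶ r'.obj), μ₁ ≫ b = μ₂ ≫ c := by
  let f₁ : (𝒳.p.obj r.obj).left ⟶ (𝒳.p.obj q.obj).left := (𝒳.p.map b).left
  let f₂ : (𝒳.p.obj r'.obj).left ⟶ (𝒳.p.obj q.obj).left := (𝒳.p.map c).left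
  obtain ⟨x⟩ := fpt_nonempty r
  obtain ⟨y⟩ := fpt_nonempty r'
  have hsub := fpt_subsingleton q
  obtain ⟨t, -, -⟩ := Scheme.Pullback.exists_preimage_pullback (f := f₁) (g := f₂) x y
    (Subsingleton.elim _ _)
  let P := pullback f₁ f₂
  let str : Spec (CommRingCat.of ↥(P.residueField t)) ⟶ S :=
    P.fromSpecResidueField t ≫ pullback.fst f₁ f₂ ≫ (𝒳.p.obj r.obj).hom
  let ρ : Over.mk str ⟶ 𝒳.p.obj r.obj :=
    Over.homMk (P.fromSpecResidueField t ≫ pullback.fst f₁ f₂) (by simp [str])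
  have hw : (P.fromSpecResidueField t ≫ pullback.snd f₁ f₂) ≫ (𝒳.p.obj r'.obj).hom = str := by
    have e1 : f₁ ≫ (𝒳.p.obj q.obj).hom = (𝒳.p.obj r.obj).hom := Over.w (𝒳.p.map b)
    have e2 : f₂ ≫ (𝒳.p.obj q.obj).hom = (𝒳.p.obj r'.obj).hom := Over.w (𝒳.p.map c)
    simp only [str, ← e1, ← e2, Category.assoc]
    rw [← Category.assoc (pullback.snd f₁ f₂), ← pullback.condition, Category.assoc]
  let ρ' : Over.mk str ⟶ 𝒳.p.obj r'.obj :=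
    Over.homMk (P.fromSpecResidueField t ≫ pullback.snd f₁ f₂) hw
  have hρ : ρ ≫ 𝒳.p.map b = ρ' ≫ 𝒳.p.map c := by
    apply Over.OverMorphism.ext
    change (P.fromSpecResidueField t ≫ pullback.fst f₁ f₂) ≫ f₁ =
      (P.fromSpecResidueField t ≫ pullback.snd f₁ f₂) ≫ f₂
    rw [Category.assoc, Category.assoc, pullback.condition]
  obtain ⟨m₁, μ₁, hμ₁⟩ := h𝒳.exists_lift (x := r.obj) ρ
  obtain ⟨m₂, μ₂, hμ₂⟩ := h𝒳.exists_lift (x := r'.obj) ρ'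
  have h1 : 𝒳.p.IsHomLift (ρ ≫ 𝒳.p.map b) (μ₁ ≫ b) := inferInstance
  have h2 : 𝒳.p.IsHomLift (ρ ≫ 𝒳.p.map b) (μ₂ ≫ c) := by rw [hρ]; infer_instance
  obtain ⟨e, -, he⟩ := IsFibGrpd.exists_iso_of_lifts (𝒴 := 𝒳) h𝒳 (ρ ≫ 𝒳.p.map b)
    (μ₁ ≫ b) (μ₂ ≫ c)
  refine ⟨{ K := ↥(P.residueField t), str := str, obj := m₁,
            lies := IsHomLift.domain_eq 𝒳.p ρ μ₁ }, μ₁, e.hom ≫ μ₂, ?_⟩
  rw [Category.assoc]
  exact he.symm


theorem fpt_rel_equivalence (𝒳 : AlgSt.Cat S) (h𝒳 : FibCat.IsFibGrpd 𝒳.p) :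
    _root_.Equivalence (@AlgSt.FPt.Rel S 𝒳) where
  refl p := ⟨p, 𝟙 _, 𝟙 _, trivial⟩
  symm := fun ⟨r, a, b, _⟩ => ⟨r, b, a, trivial⟩
  trans := by
    rintro p q s ⟨r, a, b, -⟩ ⟨r', c, d, -⟩
    obtain ⟨m, μ₁, μ₂, -⟩ := fpt_amalgam h𝒳 b c
    exact ⟨m, μ₁ ≫ a, μ₂ ≫ d, trivial⟩

theorem fpt_rel_of_mk_eq (h𝒳 : FibCat.IsFibGrpd 𝒳.p) {p q : AlgSt.FPt 𝒳}
    (h : AlgSt.Points.mk p = AlgSt.Points.mk q) : AlgSt.FPt.Rel p q := by
  have h1 : Relation.EqvGen (@AlgSt.FPt.Rel S 𝒳) p q := Quot.eqvGen_exact h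
  exact (fpt_rel_equivalence 𝒳 h𝒳).eqvGen_iff.1 h1

end Points

end Groth.Agent.Lib.Helper17
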