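-- helper17: points of 2-fibre products surject onto fibre products of points.
import Groth.Agent.Lib.Helper17StkPts

set_option autoImplicit false
set_option backward.isDefEq.respectTransparency false
set_option backward.isDefEq.respectTransparency.types false
open CategoryTheory CategoryTheory.Limits AlgebraicGeometry Opposite

universe u

namespace Groth.Agent.Lib.Helper17

section PointsFp

variable {S : Scheme.{u}} {𝒳 𝒴 𝒵 : AlgSt.Cat S}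

/-- lifting a morphism `a : r ⟶ g z` of the target to a morphism of the source with iso image -/
theorem exists_lift_over_map (h𝒵 : FibCat.IsFibGrpd 𝒵.p) (h𝒴 : FibCat.IsFibGrpd 𝒴.p)
    (g : 𝒵 ⥤ᵇ 𝒴) {r : 𝒴.obj} {z : 𝒵.obj} (a : r ⟶ g.obj z) :
    ∃ (z' : 𝒵.obj) (π : z' ⟶ z) (e : g.obj z' ≅ r),
      𝒴.p.IsHomLift (𝟙 (𝒴.p.obj r)) e.hom ∧ 𝒵.p.obj z' = 𝒴.p.obj r := by
  let α : 𝒴.p.obj r ⟶ 𝒵.p.obj z := 𝒴.p.map a ≫ eqToHom (g.w_obj z)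
  obtain ⟨z', π, hπ⟩ := h𝒵.exists_lift (x := z) α
  have h1 : 𝒴.p.IsHomLift α (g.map π) := BasedFunctor.preserves_isHomLift g α π
  have h2 : 𝒴.p.IsHomLift α a := by
    apply IsHomLift.of_fac 𝒴.p α a rfl (g.w_obj z)
    simp [α]
  obtain ⟨e, he, -⟩ := IsFibGrpd.exists_iso_of_lifts (𝒴 := 𝒴) h𝒴 α (g.map π) a
  exact ⟨z', π, e, he, IsHomLift.domain_eq 𝒵.p α π⟩

theorem points_fp_surjective (h𝒳 : FibCat.IsFibGrpd 𝒳.p) (h𝒴 : FibCat.IsFibGrpd 𝒴.p)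
    (h𝒵 : FibCat.IsFibGrpd 𝒵.p) (f : 𝒳 ⥤ᵇ 𝒴) (g : 𝒵 ⥤ᵇ 𝒴)
    (z : AlgSt.Points 𝒵) (x : AlgSt.Points 𝒳)
    (h : AlgSt.Points.map g z = AlgSt.Points.map f x) :
    ∃ w : AlgSt.Points (FibCat.fp g f),
      AlgSt.Points.map (FibCat.fpFst g f) w = z ∧ AlgSt.Points.map (FibCat.fpSnd g f) w = x := by
  obtain ⟨p, rfl⟩ := AlgSt.Points.mk_surjective z
  obtain ⟨q, rfl⟩ := AlgSt.Points.mk_surjective x
  rw [AlgSt.Points.map_mk, AlgSt.Points.map_mk] at h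
  obtain ⟨r, a, b, -⟩ := fpt_rel_of_mk_eq h𝒴 h
  obtain ⟨p', π, e₁, he₁, hp'⟩ := exists_lift_over_map h𝒵 h𝒴 g (r := r.obj) (z := p.obj) a
  obtain ⟨q', κ, e₂, he₂, hq'⟩ := exists_lift_over_map h𝒳 h𝒴 f (r := r.obj) (z := q.obj) b
  have he₂inv : 𝒴.p.IsHomLift (𝟙 (𝒴.p.obj r.obj)) e₂.inv :=
    IsHomLift.lift_id_inv 𝒴.p _ e₂
  have he : 𝒴.p.IsHomLift (𝟙 (𝒵.p.obj p')) (e₁ ≪≫ e₂.symm).hom := by
    have : 𝒴.p.IsHomLift (𝟙 (𝒴.p.obj r.obj) ≫ 𝟙 (𝒴.p.obj r.obj)) (e₁.hom ≫ e₂.inv) :=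
      inferInstance
    rw [Category.comp_id] at this
    have h3 : 𝒴.p.IsHomLift (𝟙 (𝒴.p.obj r.obj)) (e₁ ≪≫ e₂.symm).hom := this
    exact isHomLift_id_of_eq 𝒴.p hp'.symm _
  let w₀ : (FibCat.fp g f).obj := ⟨⟨p', q', e₁ ≪≫ e₂.symm⟩, he⟩
  let W : AlgSt.FPt (FibCat.fp g f) :=
    { K := r.K, str := r.str, obj := w₀, lies := hp'.trans r.lies }
  refine ⟨AlgSt.Points.mk W, ?_, ?_⟩
  · rw [AlgSt.Points.map_mk]
    apply AlgSt.Points.sound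
    exact ⟨W.map (FibCat.fpFst g f), 𝟙 _, π, trivial⟩
  · rw [AlgSt.Points.map_mk]
    apply AlgSt.Points.sound
    exact ⟨W.map (FibCat.fpSnd g f), 𝟙 _, κ, trivial⟩

end PointsFp

end Groth.Agent.Lib.Helper17
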