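-- helper15: comparison of the points of a sheaf with the points of its category; surjectivity of representable functors.
import Mathlib
import Groth.Agent.Lib.Helper15UnivComp
import Groth.Agent.Lib.Helper17StkPts3
import Groth.Agent.Lib.Helper17StkPts2
import Groth.Agent.Lib.Helper17FibYoneda
import Groth.Agent.S12825

set_option autoImplicit false
set_option backward.isDefEq.respectTransparency false
set_option backward.isDefEq.respectTransparency.types false
open CategoryTheory CategoryTheory.Functor CategoryTheory.Limits Opposite AlgebraicGeometry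

universe u

namespace Groth.Agent.Lib.Helper15PtsComp

open Groth.Agent.Lib.Helper17 Groth.Agent.Lib.Helper15UnivComp

section Basic

variable {S : Scheme.{u}}

/-- The field-valued point of the category of a sheaf attached to a field-valued point of the
sheaf. -/
noncomputable def fptOf {F : AlgSp.Sp S} (p : AlgSp.FieldPt F) : AlgSt.FPt (AlgSt.ofSp F) :=
  { K := p.K, str := p.str, obj := ⟨Over.mk p.str, p.val⟩, lies := rfl }

theorem rel_fptOf {F : AlgSp.Sp S} {p q : AlgSp.FieldPt F} (h : AlgSp.FieldPt.Rel p q) :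
    AlgSt.FPt.Rel (fptOf p) (fptOf q) := by
  obtain ⟨Ω, _, w, a, b, h⟩ := h
  let r : AlgSt.FPt (AlgSt.ofSp F) :=
    { K := Ω, str := w, obj := ⟨Over.mk w, F.obj.map a.op p.val⟩, lies := rfl }
  exact ⟨r, ⟨a, rfl⟩, ⟨b, h.symm⟩, trivial⟩

theorem psh_eqToHom_cancel {P : (Over S)ᵒᵖ ⥤ Type (u + 1)} {X Y Z : Over S} (hX : X = Y)
    (m : Y ⟶ Z) (m' : X ⟶ Z) (hm : m' = eqToHom hX ≫ m) (s : P.obj (op Z)) :
    P.map (eqToHom hX).op (P.map m.op s) = P.map m'.op s := by
  subst hX
  subst hm
  simp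

theorem rel_of_rel_fptOf {F : AlgSp.Sp S} {p q : AlgSp.FieldPt F}
    (h : AlgSt.FPt.Rel (fptOf p) (fptOf q)) : AlgSp.FieldPt.Rel p q := by
  obtain ⟨r, m₁, m₂, -⟩ := h
  have hr : r.obj.base = Over.mk r.str := r.lies
  refine ⟨r.K, r.field, r.str, eqToHom hr.symm ≫ m₁.hom, eqToHom hr.symm ≫ m₂.hom, ?_⟩
  have h1 := m₁.map_sec
  have h2 := m₂.map_sec
  change F.obj.map m₁.hom.op p.val = r.obj.sec at h1
  change F.obj.map m₂.hom.op q.val = r.obj.sec at h2
  have e1 := psh_eqToHom_cancel (P := F.obj) hr.symm m₁.hom (eqToHom hr.symm ≫ m₁.hom) rfl p.val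
  have e2 := psh_eqToHom_cancel (P := F.obj) hr.symm m₂.hom (eqToHom hr.symm ≫ m₂.hom) rfl q.val
  rw [h1] at e1
  rw [h2] at e2
  exact e1.symm.trans e2

/-- The comparison from the points of a sheaf to the points of its category. -/
noncomputable def toSt (F : AlgSp.Sp S) : AlgSp.Points F → AlgSt.Points (AlgSt.ofSp F) :=
  Quotient.lift (fun p => AlgSt.Points.mk (fptOf p)) (fun _ _ h => AlgSt.Points.sound (rel_fptOf h))

theorem toSt_mk {F : AlgSp.Sp S} (p : AlgSp.FieldPt F) :
    toSt F (AlgSp.Points.mk p) = AlgSt.Points.mk (fptOf p) := rfl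

theorem toSt_injective (F : AlgSp.Sp S) : Function.Injective (toSt F) := by
  intro x y h
  induction x using AlgSp.Points.ind with
  | h p =>
    induction y using AlgSp.Points.ind with
    | h q =>
      rw [toSt_mk, toSt_mk] at h
      have hfib : FibCat.IsFibGrpd (AlgSt.ofSp F).p := (isFibSetoid_ofPsh F.obj).1
      exact AlgSp.Points.sound (rel_of_rel_fptOf (fpt_rel_of_mk_eq hfib h))

theorem toSt_surjective (F : AlgSp.Sp S) : Function.Surjective (toSt F) := by
  intro y
  obtain ⟨r, rfl⟩ := AlgSt.Points.mk_surjective y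
  have hr : r.obj.base = Over.mk r.str := r.lies
  let p : AlgSp.FieldPt F :=
    { K := r.K, str := r.str, val := F.obj.map (eqToHom hr.symm).op r.obj.sec }
  refine ⟨AlgSp.Points.mk p, ?_⟩
  rw [toSt_mk]
  apply AlgSt.Points.sound
  exact ⟨fptOf p, 𝟙 _, ⟨eqToHom hr.symm, rfl⟩, trivial⟩

theorem toSt_bijective (F : AlgSp.Sp S) : Function.Bijective (toSt F) :=
  ⟨toSt_injective F, toSt_surjective F⟩

theorem toSt_map {F G : AlgSp.Sp S} (a : F ⟶ G) (x : AlgSp.Points F) :
    AlgSt.Points.map (AlgSt.ofSpMap a) (toSt F x) = toSt G (AlgSp.Points.map a x) := by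
  induction x using AlgSp.Points.ind with
  | h p => rfl

/-- The comparison from the points of `h_T` to the points of the slice over `T`. -/
noncomputable def toStOver (T : Over S) :
    AlgSp.Points ((AlgSp.yon S).obj T) → AlgSt.Points (FibCat.overCat T) :=
  fun x => AlgSt.Points.map (AlgSt.toOverCat T) (toSt _ x)

theorem toStOver_bijective (T : Over S) : Function.Bijective (toStOver T) :=
  ⟨(points_map_injective_of_isEquivOver _ (Groth.Agent.Lib.Helper15DiagRepSp.isEquivOver_toOverCat T)).comp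
      (toSt_injective _),
    (points_map_surjective_of_isEquivOver _
      (Groth.Agent.Lib.Helper15DiagRepSp.isEquivOver_toOverCat T)).comp (toSt_surjective _)⟩

theorem toStOver_map {F : AlgSp.Sp S} {T : Over S} (Φ : AlgSt.ofSp F ⥤ᵇ FibCat.overCat T)
    (x : AlgSp.Points F) :
    AlgSt.Points.map Φ (toSt F x) = toStOver T (AlgSp.Points.map (AlgSt.spMapOfOver Φ) x) := by
  induction x using AlgSp.Points.ind with
  | h p =>
    change AlgSt.Points.mk ((fptOf p).map Φ) = AlgSt.Points.mk
      ((fptOf (p.map (AlgSt.spMapOfOver Φ))).map (AlgSt.toOverCat T))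
    apply AlgSt.Points.sound
    let a : (AlgSt.ofSp F).obj := ⟨Over.mk p.str, p.val⟩
    let m : Over.mk (AlgSt.secHom Φ a) ⟶ Φ.obj a :=
      Over.homMk (eqToHom (Φ.w_obj a).symm) rfl
    exact ⟨(fptOf (p.map (AlgSt.spMapOfOver Φ))).map (AlgSt.toOverCat T), m, 𝟙 _, trivial⟩

/-- Surjectivity of the map of sheaves attached to a functor to a slice, in terms of the points of
the categories. -/
theorem isSurjectiveMor_spMapOfOver_iff {F : AlgSp.Sp S} {T : Over S}
    (Φ : AlgSt.ofSp F ⥤ᵇ FibCat.overCat T) :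
    AlgSp.IsSurjectiveMor (AlgSt.spMapOfOver Φ) ↔ Function.Surjective (AlgSt.Points.map Φ) := by
  constructor
  · intro h y
    obtain ⟨y', rfl⟩ := (toStOver_bijective T).2 y
    obtain ⟨x, rfl⟩ := h y'
    exact ⟨toSt F x, toStOver_map Φ x⟩
  · intro h y
    obtain ⟨x', hx'⟩ := h (toStOver T y)
    obtain ⟨x, rfl⟩ := toSt_surjective F x'
    rw [toStOver_map] at hx'
    exact ⟨x, (toStOver_bijective T).1 hx'⟩

end Basic

section Surj

variable {S : Scheme.{u}} {𝒳 𝒴 : AlgSt.Cat S}

open Groth.Agent.Lib.Helper15Atlas Groth.Agent.Lib.Helper15DiagRepSp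

theorem isAlgStack_overCat (T : Over S) :
    AlgSt.IsAlgStack Scheme.fppfPrecoverage (FibCat.overCat T) :=
  (isDM_of_repByAlgSp (repByAlgSp_overCat T)).1

/-- For a functor between algebraic stacks representable by algebraic spaces, surjectivity on
points is the same as being representable by algebraic spaces and surjective. -/
theorem isSurjective_iff_repByAlgSpWith (h𝒳 : AlgSt.IsAlgStack Scheme.fppfPrecoverage 𝒳)
    (h𝒴 : AlgSt.IsAlgStack Scheme.fppfPrecoverage 𝒴) (f : 𝒳 ⥤ᵇ 𝒴) (hf : AlgSt.RepByAlgSp1 f) :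
    AlgSt.IsSurjective f ↔ AlgSt.RepByAlgSpWith AlgSp.IsSurjectiveMor f := by
  constructor
  · intro h T y
    obtain ⟨F, e, he⟩ := hf T y
    refine ⟨F, e, he, ?_⟩
    rw [isSurjectiveMor_spMapOfOver_iff]
    have h1 : Function.Surjective (AlgSt.Points.map (FibCat.fpFst y f)) :=
      Groth.Agent.S12825.result h𝒳 h𝒴 (isAlgStack_overCat T) f y h
    intro z
    obtain ⟨w, rfl⟩ := h1 z
    obtain ⟨v, rfl⟩ := points_map_surjective_of_isEquivOver e he w
    exact ⟨v, points_map_comp _ _ _⟩
  · intro h η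
    obtain ⟨q, rfl⟩ := AlgSt.Points.mk_surjective η
    let T : Over S := Over.mk q.str
    have hq : 𝒴.p.obj q.obj = T := q.lies
    have := IsFibGrpd.isFibered h𝒴.isStack.1
    let y : FibCat.overCat T ⥤ᵇ 𝒴 := yonedaFunctor hq
    obtain ⟨F, e, he, hs⟩ := h T y
    rw [isSurjectiveMor_spMapOfOver_iff] at hs
    let z₀ : AlgSt.FPt (FibCat.overCat T) :=
      { K := q.K, str := q.str, obj := Over.mk (𝟙 T), lies := rfl }
    obtain ⟨v, hv⟩ := hs (AlgSt.Points.mk z₀)
    refine ⟨AlgSt.Points.map (BasedFunctor.comp e (FibCat.fpSnd y f)) v, ?_⟩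
    rw [← points_map_comp]
    have h2 := points_map_congr
      (BasedFunctor.comp (BasedFunctor.comp e (FibCat.fpSnd y f)) f)
      (BasedFunctor.comp (BasedFunctor.comp e (FibCat.fpFst y f)) y)
      ((BasedNatTrans.forgetful _ _).mapIso (whiskerLeftIso e (FibCat.fpIso y f)).symm) v
    rw [h2, points_map_comp, hv, AlgSt.Points.map_mk]
    obtain ⟨ι, -⟩ := yonedaFunctor_iso hq
    exact AlgSt.Points.sound ⟨z₀.map y, 𝟙 _, ι.hom, trivial⟩

end Surj

end Groth.Agent.Lib.Helper15PtsComp
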