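-- helper15: descent of properties along locally essentially surjective functors (covering sieves).
import Mathlib
import Groth.Agent.Lib.Helper15DiagLft
import Groth.Agent.S9947

set_option autoImplicit false
set_option backward.isDefEq.respectTransparency false
set_option backward.isDefEq.respectTransparency.types false
open CategoryTheory CategoryTheory.Functor CategoryTheory.Limits Opposite AlgebraicGeometry

universe u

namespace Groth.Agent.Lib.Helper15LocEss

open Groth.Agent.Lib.Helper17 Groth.Agent.Lib.Helper15Descent Groth.Agent.Lib.Helper15DiagLft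
  Groth.Agent.Lib.Helper15BaseChange

section Cov

variable {S : Scheme.{u}}

theorem locP_yon_map_of_flat {U V : Over S} (h : U ⟶ V) (hh : Flat h.left) :
    AlgSp.LocP @Flat ((AlgSp.yon S).map h) := by
  let X : AlgSp.Space S := ⟨(AlgSp.yon S).obj U, AlgSp.IsAlgSpace.yon_obj U⟩
  let Y : AlgSp.Space S := ⟨(AlgSp.yon S).obj V, AlgSp.IsAlgSpace.yon_obj V⟩
  let f : X ⟶ Y := ObjectProperty.homMk ((AlgSp.yon S).map h)
  exact Groth.Agent.S9947.result @Flat (Or.inr (Or.inr (Or.inl rfl))) f (𝟙 _) (𝟙 _) h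
    (AlgSp.repWith_id _ U) (AlgSp.repWith_id _ U) (AlgSp.repWith_id _ V)
    (by rw [Category.id_comp, Category.comp_id]; rfl) hh

theorem locP_yon_map_of_lfp {U V : Over S} (h : U ⟶ V) (hh : LocallyOfFinitePresentation h.left) :
    AlgSp.LocP @LocallyOfFinitePresentation ((AlgSp.yon S).map h) := by
  let X : AlgSp.Space S := ⟨(AlgSp.yon S).obj U, AlgSp.IsAlgSpace.yon_obj U⟩
  let Y : AlgSp.Space S := ⟨(AlgSp.yon S).obj V, AlgSp.IsAlgSpace.yon_obj V⟩
  let f : X ⟶ Y := ObjectProperty.homMk ((AlgSp.yon S).map h)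
  exact Groth.Agent.S9947.result @LocallyOfFinitePresentation (Or.inr (Or.inl rfl)) f (𝟙 _) (𝟙 _) h
    (AlgSp.repWith_id _ U) (AlgSp.repWith_id _ U) (AlgSp.repWith_id _ V)
    (by rw [Category.id_comp, Category.comp_id]; rfl) hh

theorem points_map_yon_ofScheme {U V : Over S} (h : V ⟶ U) (v : ↥V.left) :
    AlgSp.Points.map ((AlgSp.yon S).map h) (AlgSp.Points.ofScheme V v) =
      AlgSp.Points.ofScheme U (h.left v) := by
  have h1 : AlgSp.Points.map ((AlgSp.yon S).map h) (AlgSp.Points.ofScheme V v) =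
      AlgSp.Points.ofPt ((AlgSp.yon S).map h) v := by
    rw [AlgSp.Points.map_ofPt, Category.id_comp]
  rw [h1, ← AlgSp.Points.ofScheme_toScheme U (AlgSp.Points.ofPt ((AlgSp.yon S).map h) v),
    AlgSp.Points.toScheme_ofPt]

/-- A jointly surjective family of flat, locally finitely presented morphisms of schemes is an
fppf covering. -/
theorem isFppfCover_of_schemes {ι : Type u} {U : Over S} (V : ι → Over S) (h : ∀ i, V i ⟶ U)
    (hfl : ∀ i, Flat (h i).left) (hfp : ∀ i, LocallyOfFinitePresentation (h i).left)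
    (hs : ∀ x : ↥U.left, ∃ i, x ∈ Set.range (h i).left) :
    AlgSp.IsFppfCover (fun i => (AlgSp.yon S).obj (V i)) (fun i => (AlgSp.yon S).map (h i)) := by
  refine ⟨fun i => ⟨locP_yon_map_of_flat _ (hfl i), locP_yon_map_of_lfp _ (hfp i)⟩, fun x => ?_⟩
  obtain ⟨i, v, hv⟩ := hs (AlgSp.Points.toScheme U x)
  refine ⟨i, AlgSp.Points.ofScheme (V i) v, ?_⟩
  rw [points_map_yon_ofScheme, hv, AlgSp.Points.ofScheme_toScheme]

end Cov

section Fam

variable {S : Scheme.{u}} {𝒳 𝒴 𝒵 : AlgSt.Cat S}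

/-- One step of descent of a property along a covering family of schemes. -/
theorem prop_of_baseChange_family (P : MorphismProperty (AlgSp.Sp S))
    (hP : AlgSp.IsLocalOnBase AlgSp.IsFppfCover P) (f : 𝒳 ⥤ᵇ 𝒴) {U : Over S}
    (y : FibCat.overCat U ⥤ᵇ 𝒴) (F : AlgSp.Space S) (e : AlgSt.ofSp F.obj ⥤ᵇ FibCat.fp y f)
    (he : FibCat.IsEquivOver e) {ι : Type u} (V : ι → Over S) (v : ∀ i, V i ⟶ U)
    (hv : AlgSp.IsFppfCover (fun i => (AlgSp.yon S).obj (V i)) (fun i => (AlgSp.yon S).map (v i)))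
    (y' : ∀ i, FibCat.overCat (V i) ⥤ᵇ 𝒴)
    (κ : ∀ i, y' i ≅ BasedFunctor.comp (AlgSt.overMap (v i)) y)
    (F' : ι → AlgSp.Space S) (e' : ∀ i, AlgSt.ofSp (F' i).obj ⥤ᵇ FibCat.fp (y' i) f)
    (he' : ∀ i, FibCat.IsEquivOver (e' i))
    (h : ∀ i, P (AlgSt.spMapOfOver (BasedFunctor.comp (e' i) (FibCat.fpFst (y' i) f)))) :
    P (AlgSt.spMapOfOver (BasedFunctor.comp e (FibCat.fpFst y f))) := by
  choose q sq using fun i =>
    exists_isPullback_baseChange f y F.obj e he (v i) (y' i) (κ i) (F' i).obj (e' i) (he' i)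
  exact (hP (fun i => (AlgSp.yon S).obj (V i)) (fun i => (AlgSp.yon S).map (v i))
    (AlgSp.IsAlgSpace.yon_obj U) (fun i => AlgSp.IsAlgSpace.yon_obj (V i)) hv
    (AlgSt.spMapOfOver (BasedFunctor.comp e (FibCat.fpFst y f))) F.property (fun i => (F' i).obj)
    (fun i => AlgSt.spMapOfOver (BasedFunctor.comp (e' i) (FibCat.fpFst (y' i) f)))
    q (fun i => (F' i).property) sq).2 h

/-- A covering sieve for the fppf topology contains a small fppf covering family. -/
theorem exists_family_of_mem_J {U : Over S} (R : Sieve U)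
    (hR : R ∈ (QuotSh.J Scheme.fppfPrecoverage S) U) :
    ∃ (V : ↥U.left → Over S) (v : ∀ x, V x ⟶ U), (∀ x, R.arrows (v x)) ∧
      AlgSp.IsFppfCover (fun x => (AlgSp.yon S).obj (V x)) (fun x => (AlgSp.yon S).map (v x)) := by
  rw [GrothendieckTopology.mem_over_iff,
    Precoverage.mem_toGrothendieck_iff_of_isStableUnderComposition] at hR
  obtain ⟨R', hR', hle⟩ := hR
  have hjs : ∀ x : ↥U.left, ∃ (Y : Scheme.{u}) (g : Y ⟶ U.left), R' g ∧ x ∈ Set.range g := by
    intro x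
    have h1 := hR'.1
    rw [Scheme.jointlySurjectivePrecoverage,
      Presieve.mem_comap_jointlySurjectivePrecoverage_iff] at h1
    obtain ⟨Y, g, hg, hx⟩ := h1 x
    exact ⟨Y, g, hg, hx⟩
  choose Y g hg hx using hjs
  refine ⟨fun x => Over.mk (g x ≫ U.hom), fun x => Over.homMk (g x) rfl, fun x => ?_, ?_⟩
  · have h4 := hle _ _ (hg x)
    rw [Sieve.overEquiv_iff] at h4
    exact h4
  · refine isFppfCover_of_schemes _ _ (fun x => ?_) (fun x => ?_) (fun x => ⟨x, hx x⟩)
    · exact (hR'.2 (hg x)).1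
    · exact (hR'.2 (hg x)).2

/-- Descent of a property along a functor that is locally essentially surjective for the fppf
topology. -/
theorem repByAlgSpWith_of_fpFst_of_locally_essSurj (P : MorphismProperty (AlgSp.Sp S))
    (hP : AlgSp.IsLocalOnBase AlgSp.IsFppfCover P) (f : 𝒳 ⥤ᵇ 𝒴) (hf : AlgSt.RepByAlgSp1 f)
    (g : 𝒵 ⥤ᵇ 𝒴)
    (hg : ∀ (U : Over S) (y : FibCat.overCat U ⥤ᵇ 𝒴),
      ∃ R ∈ (QuotSh.J Scheme.fppfPrecoverage S) U, ∀ ⦃V : Over S⦄ (h : V ⟶ U), R.arrows h →
        ∃ z : FibCat.overCat V ⥤ᵇ 𝒵,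
          Nonempty (BasedFunctor.comp z g ≅ BasedFunctor.comp (AlgSt.overMap h) y))
    (h' : AlgSt.RepByAlgSpWith P (FibCat.fpFst g f)) : AlgSt.RepByAlgSpWith P f := by
  intro U y
  obtain ⟨F, e, he⟩ := hf U y
  refine ⟨F, e, he, ?_⟩
  obtain ⟨R, hR, hlift⟩ := hg U y
  obtain ⟨V, v, hvR, hcov⟩ := exists_family_of_mem_J R hR
  choose z hz using fun x => hlift (v x) (hvR x)
  choose F_t e_t he_t hPt using fun x => h' (V x) (z x)
  exact prop_of_baseChange_family P hP f y F e he V v hcov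
    (fun x => BasedFunctor.comp (z x) g) (fun x => (hz x).some) F_t
    (fun x => BasedFunctor.comp (e_t x) (pasteL f g (z x)))
    (fun x => IsEquivOver.comp _ _ (he_t x) (isEquivOver_pasteL f g (z x))) hPt

end Fam

end Groth.Agent.Lib.Helper15LocEss
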