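-- helper15: independence of smooth charts for smooth-local properties of schemes; quasi-compactness on charts.
import Mathlib
import Groth.Agent.Lib.Helper15UnivComp
import Groth.Agent.Lib.Helper15LocEss
import Groth.Agent.Lib.Helper15EquivRep

set_option autoImplicit false
set_option backward.isDefEq.respectTransparency false
set_option backward.isDefEq.respectTransparency.types false
open CategoryTheory CategoryTheory.Functor CategoryTheory.Limits Opposite AlgebraicGeometry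

universe u

namespace Groth.Agent.Lib.Helper15SmLoc

open Groth.Agent.Lib.Helper17 Groth.Agent.Lib.Helper15PshFib Groth.Agent.Lib.Helper15RepComp
  Groth.Agent.Lib.Helper15RepPsh Groth.Agent.Lib.Helper15DiagBase Groth.Agent.Lib.Helper15DiagRepSp
  Groth.Agent.Lib.Helper15Descent Groth.Agent.Lib.Helper15DiagLft
  Groth.Agent.Lib.Helper15DiagDescent Groth.Agent.Lib.Helper15SpMapRep
  Groth.Agent.Lib.Helper15SrcCancel Groth.Agent.Lib.Helper15ChartSp Groth.Agent.Lib.Helper15Atlas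
  Groth.Agent.Lib.Helper15LocEss Groth.Agent.Lib.Helper15UnivComp

section Props

variable {S : Scheme.{u}}

theorem bcStable_smooth : BCStable (AlgSp.LocP (S := S) @Smooth) := by
  intro X₁ Y₁ X₂ Y₂ hX₁ hY₁ _ hY₂ a b a' b' sq ha
  have : MorphismProperty.ContainsIdentities (@Smooth : MorphismProperty Scheme.{u}) :=
    ⟨fun X => (inferInstance : Smooth (𝟙 X))⟩
  have : MorphismProperty.IsMultiplicative (@Smooth : MorphismProperty Scheme.{u}) := {}
  refine Groth.Agent.Lib.Helper12.LocPGen.locP_baseChange (@Smooth)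
    (fun g hg => by have := hg; infer_instance)
    (fun e k _ _ h => by
      have : Smooth (e ≫ k) := h
      exact Groth.Agent.Lib.Helper12.SmoothSrc.smooth_of_etale_cover_source e k)
    (fun u k hk h => ?_) hX₁ hY₁ hY₂ sq ha
  exact Groth.Agent.Lib.Helper12.SrcLocal.cancel_etale (@Smooth)
    (fun j hj => by have := hj; infer_instance) u k hk h

theorem bcStable_isSurjectiveMor : BCStable (AlgSp.IsSurjectiveMor (S := S)) := by
  intro X₁ Y₁ X₂ Y₂ hX₁ hY₁ _ hY₂ a b a' b' sq ha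
  exact Groth.Agent.S9907.result (X := ⟨X₁, hX₁⟩) (Y := ⟨Y₁, hY₁⟩) (Y' := ⟨Y₂, hY₂⟩)
    (ObjectProperty.homMk a) (ObjectProperty.homMk b) b' a' sq ha

theorem surjective_of_isSurjectiveMor_yon_map {U V : Over S} (h : V ⟶ U)
    (hs : AlgSp.IsSurjectiveMor ((AlgSp.yon S).map h)) : Function.Surjective h.left := by
  intro t
  obtain ⟨p, hp⟩ := hs (AlgSp.Points.ofScheme U t)
  refine ⟨AlgSp.Points.toScheme V p, ?_⟩
  have h1 := points_map_yon_ofScheme h (AlgSp.Points.toScheme V p)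
  rw [AlgSp.Points.ofScheme_toScheme, hp] at h1
  have h2 := congrArg (AlgSp.Points.toScheme U) h1
  rw [AlgSp.Points.toScheme_ofScheme, AlgSp.Points.toScheme_ofScheme] at h2
  exact h2.symm

/-- A property local for smooth coverings passes to the source of a smooth morphism. -/
theorem prop_of_smooth (P : Scheme.{u} → Prop)
    (hP : ∀ (U : Scheme.{u}) (R : Presieve U), R ∈ Scheme.precoverage @Smooth U →
      (P U ↔ ∀ ⦃V : Scheme.{u}⦄ (g : V ⟶ U), R g → P V))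
    {W U : Scheme.{u}} (g : W ⟶ U) (hg : Smooth g) (h : P U) : P W := by
  let R : Presieve U := fun V => {k | Smooth k}
  have hR : R ∈ Scheme.precoverage @Smooth U := by
    refine ⟨?_, fun {Y} k hk => hk⟩
    rw [Scheme.jointlySurjectivePrecoverage, Presieve.mem_comap_jointlySurjectivePrecoverage_iff]
    intro x
    exact ⟨U, 𝟙 U, (inferInstance : Smooth (𝟙 U)), ⟨x, rfl⟩⟩
  exact (hP U R hR).1 h g hg

/-- A property local for smooth coverings descends along a smooth surjective morphism. -/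
theorem prop_of_smooth_surjective (P : Scheme.{u} → Prop)
    (hP : ∀ (U : Scheme.{u}) (R : Presieve U), R ∈ Scheme.precoverage @Smooth U →
      (P U ↔ ∀ ⦃V : Scheme.{u}⦄ (g : V ⟶ U), R g → P V))
    {W U : Scheme.{u}} (g : W ⟶ U) (hg : Smooth g) (hs : Function.Surjective g)
    (h : P W) : P U := by
  have hR : Presieve.singleton g ∈ Scheme.precoverage @Smooth U :=
    (Scheme.singleton_mem_precoverage_iff _ g).2 ⟨hs, hg⟩
  refine (hP U _ hR).2 (fun V k hk => ?_)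
  cases hk
  exact h

end Props

section Key

variable {S : Scheme.{u}} {𝒳 : AlgSt.Cat S}

theorem isSurjectiveMor_atlas (G : AlgSp.Space S) {W : Over S} (s : (AlgSp.yon S).obj W ⟶ G.obj)
    (hse : AlgSp.RepWith @Etale s) (hss : AlgSp.RepWith @Surjective s) :
    AlgSp.IsSurjectiveMor s := by
  intro p
  obtain ⟨_, q, hq⟩ := (isFppfCover_atlas G s hse hss).2 p
  exact ⟨q, hq⟩

/-- A property of schemes local for smooth coverings which holds on one smooth surjective chart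
holds on every smooth chart. -/
theorem prop_of_two_charts (P : Scheme.{u} → Prop)
    (hP : ∀ (U : Scheme.{u}) (R : Presieve U), R ∈ Scheme.precoverage @Smooth U →
      (P U ↔ ∀ ⦃V : Scheme.{u}⦄ (g : V ⟶ U), R g → P V))
    {U U' : Over S} (x : FibCat.overCat U ⥤ᵇ 𝒳)
    (hx₁ : AlgSt.RepByAlgSpWith (AlgSp.LocP @Smooth) x)
    (hx₂ : AlgSt.RepByAlgSpWith AlgSp.IsSurjectiveMor x) (x' : FibCat.overCat U' ⥤ᵇ 𝒳)
    (hx' : AlgSt.RepByAlgSpWith (AlgSp.LocP @Smooth) x') (h : P U.left) : P U'.left := by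
  obtain ⟨F, e, he, -⟩ := hx₁ U' x'
  have hp₁ : AlgSp.LocP @Smooth
      (AlgSt.spMapOfOver (BasedFunctor.comp e (FibCat.fpFst x' x))) :=
    prop_spMapOfOver_of_repByAlgSpWith _ bcStable_smooth (FibCat.fpFst x' x)
      (repByAlgSpWith_fpFst _ x x' hx₁) F e he
  have hp₁s : AlgSp.IsSurjectiveMor
      (AlgSt.spMapOfOver (BasedFunctor.comp e (FibCat.fpFst x' x))) :=
    prop_spMapOfOver_of_repByAlgSpWith _ bcStable_isSurjectiveMor (FibCat.fpFst x' x)
      (repByAlgSpWith_fpFst _ x x' hx₂) F e he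
  have hp₂ : AlgSp.LocP @Smooth
      (AlgSt.spMapOfOver (BasedFunctor.comp e (FibCat.fpSnd x' x))) :=
    prop_spMapOfOver_of_repByAlgSpWith _ bcStable_smooth (FibCat.fpSnd x' x)
      (repByAlgSpWith_fpSnd _ x' x hx') F e he
  obtain ⟨W, s, hse, hss⟩ := F.property.atlas
  obtain ⟨h₁, hh₁⟩ := (AlgSp.yon S).map_surjective
    (s ≫ AlgSt.spMapOfOver (BasedFunctor.comp e (FibCat.fpFst x' x)))
  obtain ⟨h₂, hh₂⟩ := (AlgSp.yon S).map_surjective
    (s ≫ AlgSt.spMapOfOver (BasedFunctor.comp e (FibCat.fpSnd x' x)))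
  have hsm₁ : Smooth h₁.left :=
    hp₁ s (𝟙 _) h₁ hse (AlgSp.repWith_id _ U') (by rw [Category.comp_id, hh₁])
  have hsm₂ : Smooth h₂.left :=
    hp₂ s (𝟙 _) h₂ hse (AlgSp.repWith_id _ U) (by rw [Category.comp_id, hh₂])
  have hs_surj := isSurjectiveMor_atlas F s hse hss
  have hsurj₁ : Function.Surjective h₁.left := by
    apply surjective_of_isSurjectiveMor_yon_map h₁
    rw [hh₁]
    intro p
    obtain ⟨q, hq⟩ := hp₁s p
    obtain ⟨r, hr⟩ := hs_surj q
    exact ⟨r, by rw [AlgSp.Points.map_comp, hr, hq]⟩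
  exact prop_of_smooth_surjective P hP h₁.left hsm₁ hsurj₁ (prop_of_smooth P hP h₂.left hsm₂ h)

end Key

section Charts

variable {S : Scheme.{u}} {𝒳 : AlgSt.Cat S}

theorem locP_smooth_id (U : Over S) : AlgSp.LocP @Smooth (𝟙 ((AlgSp.yon S).obj U)) := by
  let X : AlgSp.Space S := ⟨(AlgSp.yon S).obj U, AlgSp.IsAlgSpace.yon_obj U⟩
  exact (Groth.Agent.S10265.result (𝟙 X) (Groth.Agent.Lib.Helper15EquivRep.isEtaleMor_id U)).2.1

theorem isSurjectiveMor_id (U : Over S) : AlgSp.IsSurjectiveMor (𝟙 ((AlgSp.yon S).obj U)) :=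
  fun p => ⟨p, AlgSp.Points.map_id p⟩

/-- Precomposing a chart with an equivalence keeps it smooth and surjective. -/
theorem chart_precomp_equiv {𝒜 ℬ : AlgSt.Cat S} (h𝒜 : FibCat.IsFibGrpd 𝒜.p)
    (hℬ : FibCat.IsFibGrpd ℬ.p) (E : 𝒜 ⥤ᵇ ℬ) (hE : FibCat.IsEquivOver E) (x : ℬ ⥤ᵇ 𝒳) :
    (AlgSt.RepByAlgSpWith (AlgSp.LocP @Smooth) x →
      AlgSt.RepByAlgSpWith (AlgSp.LocP @Smooth) (BasedFunctor.comp E x)) ∧
    (AlgSt.RepByAlgSpWith AlgSp.IsSurjectiveMor x →
      AlgSt.RepByAlgSpWith AlgSp.IsSurjectiveMor (BasedFunctor.comp E x)) :=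
  ⟨fun hx => repByAlgSpWith_comp_of_compCond h𝒜 hℬ _ compCond_smooth E x
    (Groth.Agent.Lib.Helper15EquivRep.repByAlgSpWith_of_isEquivOver _ locP_smooth_id E hE) hx,
   fun hx => repByAlgSpWith_comp_of_compCond h𝒜 hℬ _ compCond_isSurjectiveMor E x
    (Groth.Agent.Lib.Helper15EquivRep.repByAlgSpWith_of_isEquivOver _ isSurjectiveMor_id E hE) hx⟩

/-- Precomposing a chart from an algebraic space with an etale surjective chart of the space by a
scheme keeps it smooth, and surjective. -/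
theorem chart_precomp_atlas (U : AlgSp.Space S) {W : Over S} (p : (AlgSp.yon S).obj W ⟶ U.obj)
    (hpe : AlgSp.RepWith @Etale p) (hps : AlgSp.RepWith @Surjective p)
    (x : AlgSt.ofSp U.obj ⥤ᵇ 𝒳) :
    (AlgSt.RepByAlgSpWith (AlgSp.LocP @Smooth) x → AlgSt.RepByAlgSpWith (AlgSp.LocP @Smooth)
      (BasedFunctor.comp (BasedFunctor.comp (AlgSt.ofOverCat W) (AlgSt.ofSpMap p)) x)) ∧
    (AlgSt.RepByAlgSpWith AlgSp.IsSurjectiveMor x → AlgSt.RepByAlgSpWith AlgSp.IsSurjectiveMor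
      (BasedFunctor.comp (BasedFunctor.comp (AlgSt.ofOverCat W) (AlgSt.ofSpMap p)) x)) := by
  have hW : FibCat.IsFibGrpd (FibCat.overCat W).p := (isFibSet_overForget W).1
  have hU : FibCat.IsFibGrpd (AlgSt.ofSp U.obj).p := (isFibSetoid_ofPsh U.obj.obj).1
  exact ⟨fun hx => repByAlgSpWith_comp_of_compCond hW hU _ compCond_smooth _ x
    (repByAlgSpWith_atlas _ locP_smooth_of_etale_surjective U p hpe hps) hx,
   fun hx => repByAlgSpWith_comp_of_compCond hW hU _ compCond_isSurjectiveMor _ x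
    (repByAlgSpWith_atlas _ (fun X T s he hs => (props_of_etale_surjective X T s he hs).2.2.1)
      U p hpe hps) hx⟩

end Charts

section Statements

variable {S : Scheme.{u}} {𝒳 : AlgSt.Cat S}

theorem smoothLocally_iff_exists_chart (h𝒳 : AlgSt.IsAlgStack Scheme.fppfPrecoverage 𝒳)
    (P : Scheme.{u} → Prop)
    (hP : ∀ (U : Scheme.{u}) (R : Presieve U), R ∈ Scheme.precoverage @Smooth U →
      (P U ↔ ∀ ⦃V : Scheme.{u}⦄ (g : V ⟶ U), R g → P V)) :
    AlgSt.SmoothLocally P 𝒳 ↔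
      ∃ (U : Over S) (x : FibCat.overCat U ⥤ᵇ 𝒳),
        AlgSt.RepByAlgSpWith (AlgSp.LocP @Smooth) x ∧
          AlgSt.RepByAlgSpWith AlgSp.IsSurjectiveMor x ∧ P U.left := by
  constructor
  · intro h
    obtain ⟨U, x, hx₁, hx₂⟩ := h𝒳.atlas
    exact ⟨U, x, hx₁, hx₂, h U x hx₁⟩
  · rintro ⟨U, x, hx₁, hx₂, hPU⟩ U' x' hx'
    exact prop_of_two_charts P hP x hx₁ hx₂ x' hx' hPU

theorem smoothLocally_iff_exists_space_chart (h𝒳 : AlgSt.IsAlgStack Scheme.fppfPrecoverage 𝒳)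
    (P : Scheme.{u} → Prop)
    (hP : ∀ (U : Scheme.{u}) (R : Presieve U), R ∈ Scheme.precoverage @Smooth U →
      (P U ↔ ∀ ⦃V : Scheme.{u}⦄ (g : V ⟶ U), R g → P V)) :
    AlgSt.SmoothLocally P 𝒳 ↔
      ∃ (U : AlgSp.Space S) (x : AlgSt.ofSp U.obj ⥤ᵇ 𝒳),
        AlgSt.RepByAlgSpWith (AlgSp.LocP @Smooth) x ∧
          AlgSt.RepByAlgSpWith AlgSp.IsSurjectiveMor x ∧ AlgSp.EtaleLocally P U.obj := by
  constructor
  · intro h
    obtain ⟨U, x, hx₁, hx₂⟩ := h𝒳.atlas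
    have hU : FibCat.IsFibGrpd (FibCat.overCat U).p := (isFibSet_overForget U).1
    have hU' : FibCat.IsFibGrpd (AlgSt.ofSch U).p :=
      (isFibSetoid_ofPsh ((AlgSp.yon S).obj U).obj).1
    have hc := chart_precomp_equiv hU' hU (AlgSt.toOverCat U) (isEquivOver_toOverCat U) x
    exact ⟨⟨(AlgSp.yon S).obj U, AlgSp.IsAlgSpace.yon_obj U⟩,
      BasedFunctor.comp (AlgSt.toOverCat U) x, hc.1 hx₁, hc.2 hx₂,
      ⟨U, 𝟙 _, AlgSp.repWith_id _ U, AlgSp.repWith_id _ U, h U x hx₁⟩⟩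
  · rintro ⟨U, x, hx₁, hx₂, ⟨W, p, hpe, hps, hPW⟩⟩ U' x' hx'
    have hc := chart_precomp_atlas U p hpe hps x
    exact prop_of_two_charts P hP _ (hc.1 hx₁) (hc.2 hx₂) x' hx' hPW

theorem smoothLocally_iff_forall_space_chart (P : Scheme.{u} → Prop)
    (hP : ∀ (U : Scheme.{u}) (R : Presieve U), R ∈ Scheme.precoverage @Smooth U →
      (P U ↔ ∀ ⦃V : Scheme.{u}⦄ (g : V ⟶ U), R g → P V)) :
    AlgSt.SmoothLocally P 𝒳 ↔
      ∀ (U : AlgSp.Space S) (x : AlgSt.ofSp U.obj ⥤ᵇ 𝒳),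
        AlgSt.RepByAlgSpWith (AlgSp.LocP @Smooth) x → AlgSp.EtaleLocally P U.obj := by
  constructor
  · intro h U x hx
    obtain ⟨W, p, hpe, hps⟩ := U.property.atlas
    exact ⟨W, p, hpe, hps, h W _ ((chart_precomp_atlas U p hpe hps x).1 hx)⟩
  · intro h U x hx
    have hU : FibCat.IsFibGrpd (FibCat.overCat U).p := (isFibSet_overForget U).1
    have hU' : FibCat.IsFibGrpd (AlgSt.ofSch U).p :=
      (isFibSetoid_ofPsh ((AlgSp.yon S).obj U).obj).1
    have hc := chart_precomp_equiv hU' hU (AlgSt.toOverCat U) (isEquivOver_toOverCat U) x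
    obtain ⟨W, p, hpe, hps, hPW⟩ := h ⟨(AlgSp.yon S).obj U, AlgSp.IsAlgSpace.yon_obj U⟩
      (BasedFunctor.comp (AlgSt.toOverCat U) x) (hc.1 hx)
    obtain ⟨g, rfl⟩ := (AlgSp.yon S).map_surjective p
    have hge : Etale g.left := (AlgSp.repWith_yon_map_iff _ _).1 hpe
    have hgs : Surjective g.left := (AlgSp.repWith_yon_map_iff _ _).1 hps
    exact prop_of_smooth_surjective P hP g.left inferInstance hgs.surj hPW

theorem smoothLocally_ofSch_iff (U : Over S) (P : Scheme.{u} → Prop)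
    (hP : ∀ (U : Scheme.{u}) (R : Presieve U), R ∈ Scheme.precoverage @Smooth U →
      (P U ↔ ∀ ⦃V : Scheme.{u}⦄ (g : V ⟶ U), R g → P V)) :
    AlgSt.SmoothLocally P (AlgSt.ofSch U) ↔ P U.left := by
  have h1 : AlgSt.RepByAlgSpWith (AlgSp.LocP @Smooth) (AlgSt.ofOverCat U) :=
    Groth.Agent.Lib.Helper15EquivRep.repByAlgSpWith_of_isEquivOver _ locP_smooth_id _
      (isEquivOver_ofOverCat U)
  have h2 : AlgSt.RepByAlgSpWith AlgSp.IsSurjectiveMor (AlgSt.ofOverCat U) :=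
    Groth.Agent.Lib.Helper15EquivRep.repByAlgSpWith_of_isEquivOver _ isSurjectiveMor_id _
      (isEquivOver_ofOverCat U)
  exact ⟨fun h => h U _ h1, fun h U' x' hx' => prop_of_two_charts P hP _ h1 h2 x' hx' h⟩

theorem smoothLocally_ofSp_iff (X : AlgSp.Space S) (P : Scheme.{u} → Prop)
    (hP : ∀ (U : Scheme.{u}) (R : Presieve U), R ∈ Scheme.precoverage @Smooth U →
      (P U ↔ ∀ ⦃V : Scheme.{u}⦄ (g : V ⟶ U), R g → P V)) :
    AlgSt.SmoothLocally P (AlgSt.ofSp X.obj) ↔ AlgSp.EtaleLocally P X.obj := by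
  have hQ : ∀ {W : Over S} (p : (AlgSp.yon S).obj W ⟶ X.obj), AlgSp.RepWith @Etale p →
      AlgSp.RepWith @Surjective p →
      AlgSt.RepByAlgSpWith (AlgSp.LocP @Smooth)
        (BasedFunctor.comp (AlgSt.ofOverCat W) (AlgSt.ofSpMap p)) ∧
      AlgSt.RepByAlgSpWith AlgSp.IsSurjectiveMor
        (BasedFunctor.comp (AlgSt.ofOverCat W) (AlgSt.ofSpMap p)) := fun p hpe hps =>
    ⟨repByAlgSpWith_atlas _ locP_smooth_of_etale_surjective X p hpe hps,
      repByAlgSpWith_atlas _ (fun X T s he hs => (props_of_etale_surjective X T s he hs).2.2.1)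
        X p hpe hps⟩
  constructor
  · intro h
    obtain ⟨W, p, hpe, hps⟩ := X.property.atlas
    exact ⟨W, p, hpe, hps, h W _ (hQ p hpe hps).1⟩
  · rintro ⟨W, p, hpe, hps, hPW⟩ U' x' hx'
    exact prop_of_two_charts P hP _ (hQ p hpe hps).1 (hQ p hpe hps).2 x' hx' hPW

theorem exists_affine_etale_surjective (X : Scheme.{u}) [CompactSpace X] :
    ∃ (Y : Scheme.{u}) (f : Y ⟶ X), IsAffine Y ∧ Etale f ∧ Function.Surjective f := by
  let 𝒰 : X.OpenCover := X.affineCover.finiteSubcover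
  have : Finite 𝒰.I₀ := by dsimp [𝒰]; infer_instance
  have : ∀ i, IsAffine (𝒰.X i) := by intro i; dsimp [𝒰]; infer_instance
  exact ⟨∐ 𝒰.X, Sigma.desc 𝒰.f, inferInstance,
    IsZariskiLocalAtSource.sigmaDesc (P := @Etale) (fun i => inferInstance), Surjective.surj⟩

theorem isQuasiCompact_of_compact_chart {U : Over S} (x : FibCat.overCat U ⥤ᵇ 𝒳)
    (hU : CompactSpace ↥U.left) (hx₁ : AlgSt.RepByAlgSpWith (AlgSp.LocP @Smooth) x)
    (hx₂ : AlgSt.RepByAlgSpWith AlgSp.IsSurjectiveMor x) : AlgSt.IsQuasiCompact 𝒳 := by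
  obtain ⟨Y, f, hY, hfe, hfs⟩ := exists_affine_etale_surjective U.left
  let V : Over S := Over.mk (f ≫ U.hom)
  let g : V ⟶ U := Over.homMk f rfl
  have hge : AlgSp.RepWith @Etale ((AlgSp.yon S).map g) := (AlgSp.repWith_yon_map_iff _ _).2 hfe
  have hgs : AlgSp.RepWith @Surjective ((AlgSp.yon S).map g) :=
    (AlgSp.repWith_yon_map_iff _ _).2 ⟨hfs⟩
  have hUf : FibCat.IsFibGrpd (FibCat.overCat U).p := (isFibSet_overForget U).1
  have hU' : FibCat.IsFibGrpd (AlgSt.ofSch U).p :=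
    (isFibSetoid_ofPsh ((AlgSp.yon S).obj U).obj).1
  have hc := chart_precomp_equiv hU' hUf (AlgSt.toOverCat U) (isEquivOver_toOverCat U) x
  have hc' := chart_precomp_atlas ⟨(AlgSp.yon S).obj U, AlgSp.IsAlgSpace.yon_obj U⟩
    ((AlgSp.yon S).map g) hge hgs (BasedFunctor.comp (AlgSt.toOverCat U) x)
  exact ⟨V, _, hY, hc'.1 (hc.1 hx₁), hc'.2 (hc.2 hx₂)⟩

theorem isQuasiCompact_iff_exists_compact_chart :
    AlgSt.IsQuasiCompact 𝒳 ↔
      ∃ (U : Over S) (x : FibCat.overCat U ⥤ᵇ 𝒳), CompactSpace ↥U.left ∧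
        AlgSt.RepByAlgSpWith (AlgSp.LocP @Smooth) x ∧
          AlgSt.RepByAlgSpWith AlgSp.IsSurjectiveMor x := by
  constructor
  · rintro ⟨U, x, hU, hx₁, hx₂⟩
    exact ⟨U, x, inferInstance, hx₁, hx₂⟩
  · rintro ⟨U, x, hU, hx₁, hx₂⟩
    exact isQuasiCompact_of_compact_chart x hU hx₁ hx₂

theorem isQuasiCompact_iff_exists_qc_space_chart :
    AlgSt.IsQuasiCompact 𝒳 ↔
      ∃ (U : AlgSp.Space S) (x : AlgSt.ofSp U.obj ⥤ᵇ 𝒳), AlgSp.IsQuasiCompactSp U.obj ∧
        AlgSt.RepByAlgSpWith (AlgSp.LocP @Smooth) x ∧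
          AlgSt.RepByAlgSpWith AlgSp.IsSurjectiveMor x := by
  constructor
  · rintro ⟨U, x, hU, hx₁, hx₂⟩
    have hUf : FibCat.IsFibGrpd (FibCat.overCat U).p := (isFibSet_overForget U).1
    have hU' : FibCat.IsFibGrpd (AlgSt.ofSch U).p :=
      (isFibSetoid_ofPsh ((AlgSp.yon S).obj U).obj).1
    have hc := chart_precomp_equiv hU' hUf (AlgSt.toOverCat U) (isEquivOver_toOverCat U) x
    exact ⟨⟨(AlgSp.yon S).obj U, AlgSp.IsAlgSpace.yon_obj U⟩,
      BasedFunctor.comp (AlgSt.toOverCat U) x,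
      ⟨U, 𝟙 _, AlgSp.repWith_id _ U, AlgSp.repWith_id _ U, inferInstance⟩, hc.1 hx₁, hc.2 hx₂⟩
  · rintro ⟨U, x, ⟨W, p, hpe, hps, hW⟩, hx₁, hx₂⟩
    have hc := chart_precomp_atlas U p hpe hps x
    exact isQuasiCompact_of_compact_chart _ hW (hc.1 hx₁) (hc.2 hx₂)

end Statements

end Groth.Agent.Lib.Helper15SmLoc
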