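-- helper15: the topology on the points of an algebraic stack: continuity, openness of flat finitely presented charts.
import Mathlib
import Groth.Agent.Lib.Helper15PtsComp
import Groth.Agent.Lib.Helper15SmLoc
import Groth.Agent.S10527
import Groth.Agent.S10530

set_option autoImplicit false
set_option backward.isDefEq.respectTransparency false
set_option backward.isDefEq.respectTransparency.types false
open CategoryTheory CategoryTheory.Functor CategoryTheory.Limits Opposite AlgebraicGeometry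

universe u

namespace Groth.Agent.Lib.Helper15PtsTop

open Groth.Agent.Lib.Helper17 Groth.Agent.Lib.Helper15PshFib Groth.Agent.Lib.Helper15RepComp
  Groth.Agent.Lib.Helper15RepPsh Groth.Agent.Lib.Helper15DiagBase Groth.Agent.Lib.Helper15DiagRepSp
  Groth.Agent.Lib.Helper15Descent Groth.Agent.Lib.Helper15DiagLft
  Groth.Agent.Lib.Helper15DiagDescent Groth.Agent.Lib.Helper15SpMapRep
  Groth.Agent.Lib.Helper15SrcCancel Groth.Agent.Lib.Helper15ChartSp Groth.Agent.Lib.Helper15Atlas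
  Groth.Agent.Lib.Helper15LocEss Groth.Agent.Lib.Helper15UnivComp Groth.Agent.Lib.Helper15SmLoc
  Groth.Agent.Lib.Helper15PtsComp

section Square

variable {S : Scheme.{u}} {𝒴 : AlgSt.Cat S}

/-- The square of schemes over a chart of the fibre product of two functors from slices. -/
theorem exists_chart_square {U V₀ : Over S} (y : FibCat.overCat U ⥤ᵇ 𝒴)
    (y₀ : FibCat.overCat V₀ ⥤ᵇ 𝒴) (F : AlgSp.Space S)
    (e : AlgSt.ofSp F.obj ⥤ᵇ FibCat.fp y y₀) {W : Over S} (s : (AlgSp.yon S).obj W ⟶ F.obj) :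
    ∃ (h₁ : W ⟶ U) (h₂ : W ⟶ V₀),
      (AlgSp.yon S).map h₁ = s ≫ AlgSt.spMapOfOver (BasedFunctor.comp e (FibCat.fpFst y y₀)) ∧
      (AlgSp.yon S).map h₂ = s ≫ AlgSt.spMapOfOver (BasedFunctor.comp e (FibCat.fpSnd y y₀)) ∧
      Nonempty (BasedFunctor.comp (AlgSt.overMap h₁) y ≅
        BasedFunctor.comp (AlgSt.overMap h₂) y₀) := by
  let Ψ₁ : AlgSt.ofSp F.obj ⥤ᵇ FibCat.overCat U := BasedFunctor.comp e (FibCat.fpFst y y₀)
  let Ψ₂ : AlgSt.ofSp F.obj ⥤ᵇ FibCat.overCat V₀ := BasedFunctor.comp e (FibCat.fpSnd y y₀)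
  obtain ⟨h₁, hh₁⟩ := (AlgSp.yon S).map_surjective (s ≫ AlgSt.spMapOfOver Ψ₁)
  obtain ⟨h₂, hh₂⟩ := (AlgSp.yon S).map_surjective (s ≫ AlgSt.spMapOfOver Ψ₂)
  let A : FibCat.overCat W ⥤ᵇ AlgSt.ofSp F.obj :=
    BasedFunctor.comp (AlgSt.ofOverCat W) (AlgSt.ofSpMap s)
  have hA : ∀ c : Over W, pshSec A c =
      s.hom.app _ (⟨c.hom⟩ : ((AlgSp.yon S).obj W).obj.obj (op c.left)) := by
    intro c
    change pshSec (BasedFunctor.comp (AlgSt.ofOverCat W) (Stk.ofPshMap s.hom)) c = _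
    rw [pshSec_comp_ofPshMap, pshSec_ofOverCat]
    rfl
  let lam₁ : BasedFunctor.comp A Ψ₁ ≅ AlgSt.overMap h₁ := isoOfOverCat (fun c => by
    rw [ovSec_pshSec, ovSec_overMap, ovSec_eq_spMapOfOver, hA]
    change ((s ≫ AlgSt.spMapOfOver Ψ₁).hom.app (op c.left) ⟨c.hom⟩).down = c.hom ≫ h₁
    rw [← hh₁]
    rfl)
  let lam₂ : BasedFunctor.comp A Ψ₂ ≅ AlgSt.overMap h₂ := isoOfOverCat (fun c => by
    rw [ovSec_pshSec, ovSec_overMap, ovSec_eq_spMapOfOver, hA]
    change ((s ≫ AlgSt.spMapOfOver Ψ₂).hom.app (op c.left) ⟨c.hom⟩).down = c.hom ≫ h₂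
    rw [← hh₂]
    rfl)
  refine ⟨h₁, h₂, hh₁, hh₂, ⟨?_⟩⟩
  exact (whiskerRightIso lam₁ y).symm ≪≫
    (whiskerLeftIso (BasedFunctor.comp A e) (FibCat.fpIso y y₀) : 
      BasedFunctor.comp (BasedFunctor.comp A Ψ₁) y ≅ BasedFunctor.comp (BasedFunctor.comp A Ψ₂) y₀) ≪≫
    whiskerRightIso lam₂ y₀

end Square

section Charts

variable {S : Scheme.{u}} {𝒳 𝒴 : AlgSt.Cat S}

theorem ofChart_congr {U : Over S} {x x' : FibCat.overCat U ⥤ᵇ 𝒳} (i : x ≅ x') :
    AlgSt.Points.ofChart x = AlgSt.Points.ofChart x' := by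
  funext t
  apply AlgSt.Points.sound
  exact ⟨_, 𝟙 _, (bApp i _).hom, trivial⟩

theorem ofChart_comp {U : Over S} (x : FibCat.overCat U ⥤ᵇ 𝒳) (f : 𝒳 ⥤ᵇ 𝒴) (t : ↥U.left) :
    AlgSt.Points.ofChart (BasedFunctor.comp x f) t =
      AlgSt.Points.map f (AlgSt.Points.ofChart x t) := rfl

theorem ofChart_overMap {U W : Over S} (a : W ⟶ U) (y : FibCat.overCat U ⥤ᵇ 𝒳) (t : ↥W.left) :
    AlgSt.Points.ofChart (BasedFunctor.comp (AlgSt.overMap a) y) t =
      AlgSt.Points.ofChart y (a.left t) := by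
  apply AlgSt.Points.sound
  refine ⟨_, 𝟙 _, y.map ?_, trivial⟩
  refine Over.homMk (Over.homMk (Spec.map (a.left.residueFieldMap t)) ?_) ?_
  · simp
    rfl
  · ext
    simp
    rfl

end Charts

section Props

variable {S : Scheme.{u}}

theorem bcStable_flat : BCStable (AlgSp.LocP (S := S) @Flat) := by
  intro X₁ Y₁ X₂ Y₂ hX₁ hY₁ _ hY₂ a b a' b' sq ha
  have := Groth.Agent.Lib.Helper12.descendsAlong_flat.{u}
  refine Groth.Agent.Lib.Helper12.LocPGen.locP_baseChange (@Flat)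
    (fun g hg => by have := hg; infer_instance)
    (fun e k _ _ h => by
      have : Flat (e ≫ k) := h
      exact Groth.Agent.Lib.Helper12.flat_of_comp_of_flat_of_surjective e k)
    (fun u k hk h => ?_) hX₁ hY₁ hY₂ sq ha
  exact Groth.Agent.Lib.Helper12.SrcLocal.cancel_etale (@Flat)
    (fun j hj => by have := hj; infer_instance) u k hk h

theorem bcStable_lfp : BCStable (AlgSp.LocP (S := S) @LocallyOfFinitePresentation) := by
  intro X₁ Y₁ X₂ Y₂ hX₁ hY₁ _ hY₂ a b a' b' sq ha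
  have : MorphismProperty.ContainsIdentities
      (@LocallyOfFinitePresentation : MorphismProperty Scheme.{u}) :=
    ⟨fun X => (inferInstance : LocallyOfFinitePresentation (𝟙 X))⟩
  have : MorphismProperty.IsMultiplicative
      (@LocallyOfFinitePresentation : MorphismProperty Scheme.{u}) := {}
  refine Groth.Agent.Lib.Helper12.LocPGen.locP_baseChange (@LocallyOfFinitePresentation)
    (fun g hg => by have := hg; infer_instance)
    (fun e k _ _ h => by
      have : LocallyOfFinitePresentation (e ≫ k) := h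
      exact Groth.Agent.Lib.Helper12.FPDescent.locallyOfFinitePresentation_of_etale_cover_source e k)
    (fun u k hk h => ?_) hX₁ hY₁ hY₂ sq ha
  exact Groth.Agent.Lib.Helper12.SrcLocal.cancel_etale (@LocallyOfFinitePresentation)
    (fun j hj => by have := hj; infer_instance) u k hk h

theorem locP_mono {P Q : MorphismProperty Scheme.{u}} (h : P ≤ Q) {F G : AlgSp.Sp S} {f : F ⟶ G}
    (hf : AlgSp.LocP P f) : AlgSp.LocP Q f :=
  fun _ _ a b k ha hb hk => h _ (hf a b k ha hb hk)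

theorem repByAlgSpWith_mono {P Q : MorphismProperty (AlgSp.Sp S)} (h : P ≤ Q)
    {𝒳 𝒴 : AlgSt.Cat S} {f : 𝒳 ⥤ᵇ 𝒴} (hf : AlgSt.RepByAlgSpWith P f) :
    AlgSt.RepByAlgSpWith Q f := by
  intro U y
  obtain ⟨F, e, he, hP⟩ := hf U y
  exact ⟨F, e, he, h _ hP⟩

theorem flat_of_smooth {𝒳 𝒴 : AlgSt.Cat S} {f : 𝒳 ⥤ᵇ 𝒴}
    (hf : AlgSt.RepByAlgSpWith (AlgSp.LocP @Smooth) f) :
    AlgSt.RepByAlgSpWith (AlgSp.LocP @Flat) f :=
  repByAlgSpWith_mono (fun _ _ _ h => locP_mono (fun _ _ g hg => by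
    have : Smooth g := hg
    exact (inferInstance : Flat g)) h) hf

theorem lfp_of_smooth {𝒳 𝒴 : AlgSt.Cat S} {f : 𝒳 ⥤ᵇ 𝒴}
    (hf : AlgSt.RepByAlgSpWith (AlgSp.LocP @Smooth) f) :
    AlgSt.RepByAlgSpWith (AlgSp.LocP @LocallyOfFinitePresentation) f :=
  repByAlgSpWith_mono (fun _ _ _ h => locP_mono (fun _ _ g hg => by
    have : Smooth g := hg
    exact (inferInstance : LocallyOfFinitePresentation g)) h) hf

end Props

section SchemePts

variable {S : Scheme.{u}} {𝒳 𝒴 : AlgSt.Cat S}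

/-- The point of the slice over `T` at a point of `T`. -/
noncomputable def ptOver (T : Over S) (t : ↥T.left) : AlgSt.Points (FibCat.overCat T) :=
  AlgSt.Points.ofChart (BasedFunctor.id (FibCat.overCat T)) t

theorem toStOver_ofScheme (T : Over S) (t : ↥T.left) :
    toStOver T (AlgSp.Points.ofScheme T t) = ptOver T t := rfl

theorem ptOver_bijective (T : Over S) : Function.Bijective (ptOver T) := by
  have h : ptOver T = toStOver T ∘ (AlgSp.Points.schemeEquiv T) := by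
    funext t
    exact (toStOver_ofScheme T t).symm
  rw [h]
  exact (toStOver_bijective T).comp (AlgSp.Points.schemeEquiv T).bijective

theorem ofChart_eq_map_ptOver {U : Over S} (x : FibCat.overCat U ⥤ᵇ 𝒳) (t : ↥U.left) :
    AlgSt.Points.ofChart x t = AlgSt.Points.map x (ptOver U t) := rfl

theorem ptOver_map {U W : Over S} (a : W ⟶ U) (t : ↥W.left) :
    AlgSt.Points.map (AlgSt.overMap a) (ptOver W t) = ptOver U (a.left t) := by
  have h := ofChart_overMap a (BasedFunctor.id (FibCat.overCat U)) t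
  exact h

end SchemePts

section Top

variable {S : Scheme.{u}} {𝒴 : AlgSt.Cat S}

/-- The scheme-level square attached to two charts, the second of which is representable with
flat, locally finitely presented projections. -/
theorem exists_scheme_square (h𝒴 : FibCat.IsFibGrpd 𝒴.p) {U V : Over S}
    (y : FibCat.overCat U ⥤ᵇ 𝒴)
    (x : FibCat.overCat V ⥤ᵇ 𝒴)
    (hx₁ : AlgSt.RepByAlgSpWith (AlgSp.LocP @Flat) x)
    (hx₂ : AlgSt.RepByAlgSpWith (AlgSp.LocP @LocallyOfFinitePresentation) x) :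
    ∃ (W : Over S) (h₁ : W ⟶ U) (h₂ : W ⟶ V), Flat h₁.left ∧
      LocallyOfFinitePresentation h₁.left ∧
      Nonempty (BasedFunctor.comp (AlgSt.overMap h₁) y ≅ BasedFunctor.comp (AlgSt.overMap h₂) x) ∧
      (AlgSt.RepByAlgSpWith AlgSp.IsSurjectiveMor x → Function.Surjective h₁.left) ∧
      ∀ (u : ↥U.left) (v : ↥V.left), AlgSt.Points.ofChart y u = AlgSt.Points.ofChart x v →
        ∃ w : ↥W.left, h₁.left w = u ∧ h₂.left w = v := by
  obtain ⟨F, e, he, -⟩ := hx₁ U y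
  have hp₁ : AlgSp.LocP @Flat
      (AlgSt.spMapOfOver (BasedFunctor.comp e (FibCat.fpFst y x))) :=
    prop_spMapOfOver_of_repByAlgSpWith _ bcStable_flat (FibCat.fpFst y x)
      (repByAlgSpWith_fpFst _ x y hx₁) F e he
  have hp₂ : AlgSp.LocP @LocallyOfFinitePresentation
      (AlgSt.spMapOfOver (BasedFunctor.comp e (FibCat.fpFst y x))) :=
    prop_spMapOfOver_of_repByAlgSpWith _ bcStable_lfp (FibCat.fpFst y x)
      (repByAlgSpWith_fpFst _ x y hx₂) F e he
  obtain ⟨W, s, hse, hss⟩ := F.property.atlas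
  obtain ⟨h₁, h₂, hh₁, hh₂, hi⟩ := exists_chart_square y x F e s
  have hs_surj := isSurjectiveMor_atlas F s hse hss
  refine ⟨W, h₁, h₂, ?_, ?_, hi, ?_, ?_⟩
  · exact hp₁ s (𝟙 _) h₁ hse (AlgSp.repWith_id _ U) (by rw [Category.comp_id, hh₁])
  · exact hp₂ s (𝟙 _) h₁ hse (AlgSp.repWith_id _ U) (by rw [Category.comp_id, hh₁])
  · intro hx₃
    have hp₁s : AlgSp.IsSurjectiveMor
        (AlgSt.spMapOfOver (BasedFunctor.comp e (FibCat.fpFst y x))) :=
      prop_spMapOfOver_of_repByAlgSpWith _ bcStable_isSurjectiveMor (FibCat.fpFst y x)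
        (repByAlgSpWith_fpFst _ x y hx₃) F e he
    apply surjective_of_isSurjectiveMor_yon_map h₁
    rw [hh₁]
    intro p
    obtain ⟨q, hq⟩ := hp₁s p
    obtain ⟨r, hr⟩ := hs_surj q
    exact ⟨r, by rw [AlgSp.Points.map_comp, hr, hq]⟩
  · intro u v huv
    rw [ofChart_eq_map_ptOver, ofChart_eq_map_ptOver] at huv
    obtain ⟨w, hw₁, hw₂⟩ := points_fp_surjective (isFibSet_overForget V).1 h𝒴
      (isFibSet_overForget U).1 x y (ptOver U u) (ptOver V v) huv
    obtain ⟨w', rfl⟩ := points_map_surjective_of_isEquivOver e he w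
    obtain ⟨q, rfl⟩ := toSt_surjective F.obj w'
    obtain ⟨r, rfl⟩ := hs_surj q
    obtain ⟨t, rfl⟩ := (AlgSp.Points.schemeEquiv W).surjective r
    refine ⟨t, ?_, ?_⟩
    · apply (ptOver_bijective U).1
      rw [← hw₁, ← toStOver_ofScheme, ← points_map_yon_ofScheme h₁ t, hh₁, AlgSp.Points.map_comp,
        ← toStOver_map, points_map_comp]
      rfl
    · apply (ptOver_bijective V).1
      rw [← hw₂, ← toStOver_ofScheme, ← points_map_yon_ofScheme h₂ t, hh₂, AlgSp.Points.map_comp,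
        ← toStOver_map, points_map_comp]
      rfl

theorem continuous_ofChart (h𝒴 : AlgSt.IsAlgStack Scheme.fppfPrecoverage 𝒴) {U : Over S}
    (y : FibCat.overCat U ⥤ᵇ 𝒴) : Continuous (AlgSt.Points.ofChart y) := by
  obtain ⟨V₀, y₀, hy₀s, hy₀surj⟩ := h𝒴.atlas
  obtain ⟨W, h₁, h₂, hfl, hfp, ⟨i⟩, hsurj, -⟩ :=
    exists_scheme_square h𝒴.isStack.1 y y₀ (flat_of_smooth hy₀s) (lfp_of_smooth hy₀s)
  have hsurj₁ := hsurj hy₀surj
  rw [continuous_def]
  intro A hA
  have key : h₁.left ⁻¹' (AlgSt.Points.ofChart y ⁻¹' A) =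
      h₂.left ⁻¹' (AlgSt.Points.ofChart y₀ ⁻¹' A) := by
    ext t
    simp only [Set.mem_preimage]
    rw [← ofChart_overMap h₁ y t, ← ofChart_overMap h₂ y₀ t, ofChart_congr i]
  have hopen : IsOpen (h₁.left ⁻¹' (AlgSt.Points.ofChart y ⁻¹' A)) := by
    rw [key]
    exact (hA V₀ y₀ hy₀s).preimage h₂.left.continuous
  rw [← Set.image_preimage_eq (AlgSt.Points.ofChart y ⁻¹' A) hsurj₁]
  exact h₁.left.isOpenMap _ hopen

theorem isOpenMap_ofChart (h𝒴 : AlgSt.IsAlgStack Scheme.fppfPrecoverage 𝒴) {V : Over S}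
    (x : FibCat.overCat V ⥤ᵇ 𝒴)
    (hx₁ : AlgSt.RepByAlgSpWith (AlgSp.LocP @Flat) x)
    (hx₂ : AlgSt.RepByAlgSpWith (AlgSp.LocP @LocallyOfFinitePresentation) x) :
    IsOpenMap (AlgSt.Points.ofChart x) := by
  intro A hA U y hy
  obtain ⟨W, h₁, h₂, hfl, hfp, ⟨i⟩, -, hlift⟩ :=
    exists_scheme_square h𝒴.isStack.1 y x hx₁ hx₂
  have key : AlgSt.Points.ofChart y ⁻¹' (AlgSt.Points.ofChart x '' A) =
      h₁.left '' (h₂.left ⁻¹' A) := by
    ext u
    constructor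
    · rintro ⟨v, hvA, hv⟩
      obtain ⟨w, hw₁, hw₂⟩ := hlift u v hv.symm
      exact ⟨w, by simpa [hw₂] using hvA, hw₁⟩
    · rintro ⟨w, hw, rfl⟩
      refine ⟨h₂.left w, hw, ?_⟩
      rw [← ofChart_overMap h₁ y w, ← ofChart_overMap h₂ x w, ofChart_congr i]
  rw [key]
  exact h₁.left.isOpenMap _ (hA.preimage h₂.left.continuous)

theorem continuous_points_map {𝒳 : AlgSt.Cat S} (h𝒴 : AlgSt.IsAlgStack Scheme.fppfPrecoverage 𝒴)
    (f : 𝒳 ⥤ᵇ 𝒴) : Continuous (AlgSt.Points.map f) := by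
  rw [continuous_def]
  intro A hA U x hx
  exact (continuous_ofChart h𝒴 (BasedFunctor.comp x f)).isOpen_preimage A hA

end Top

section Comp

variable {S : Scheme.{u}} {𝒳 : AlgSt.Cat S}

theorem locP_flat_comp {X Y Z : AlgSp.Sp S} (hY : AlgSp.IsAlgSpace Y) (hZ : AlgSp.IsAlgSpace Z)
    (a : X ⟶ Y) (b : Y ⟶ Z) (ha : AlgSp.LocP @Flat a) (hb : AlgSp.LocP @Flat b) :
    AlgSp.LocP @Flat (a ≫ b) :=
  Groth.Agent.Lib.Helper12.LocPGen.locP_comp (@Flat)
    (fun e k _ _ h => by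
      have : Flat (e ≫ k) := h
      exact Groth.Agent.Lib.Helper12.flat_of_comp_of_flat_of_surjective e k)
    hY hZ a b ha hb

theorem locP_lfp_comp {X Y Z : AlgSp.Sp S} (hY : AlgSp.IsAlgSpace Y) (hZ : AlgSp.IsAlgSpace Z)
    (a : X ⟶ Y) (b : Y ⟶ Z) (ha : AlgSp.LocP @LocallyOfFinitePresentation a)
    (hb : AlgSp.LocP @LocallyOfFinitePresentation b) :
    AlgSp.LocP @LocallyOfFinitePresentation (a ≫ b) :=
  Groth.Agent.Lib.Helper12.LocPGen.locP_comp (@LocallyOfFinitePresentation)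
    (fun e k _ _ h => by
      have : LocallyOfFinitePresentation (e ≫ k) := h
      exact Groth.Agent.Lib.Helper12.FPDescent.locallyOfFinitePresentation_of_etale_cover_source e k)
    hY hZ a b ha hb

theorem compCond_flat : CompCond (AlgSp.LocP (S := S) @Flat) :=
  Groth.Agent.S12780.Aux.compCond_of_local _
    (fun _ _ _ _ hY hZ a b ha hb => locP_flat_comp hY hZ a b ha hb)
    (isLocalOnBase_fppf_of_fpqc _ (Groth.Agent.S10530.result S))

theorem compCond_lfp : CompCond (AlgSp.LocP (S := S) @LocallyOfFinitePresentation) :=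
  Groth.Agent.S12780.Aux.compCond_of_local _
    (fun _ _ _ _ hY hZ a b ha hb => locP_lfp_comp hY hZ a b ha hb)
    (isLocalOnBase_fppf_of_fpqc _ (Groth.Agent.S10527.result S))

/-- Precomposing a flat, locally finitely presented functor from an algebraic space with an etale
surjective chart of the space by a scheme gives a flat, locally finitely presented chart. -/
theorem chart_precomp_atlas_flat_lfp (U : AlgSp.Space S) {W : Over S}
    (p : (AlgSp.yon S).obj W ⟶ U.obj)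
    (hpe : AlgSp.RepWith @Etale p) (hps : AlgSp.RepWith @Surjective p)
    (x : AlgSt.ofSp U.obj ⥤ᵇ 𝒳) :
    (AlgSt.RepByAlgSpWith (AlgSp.LocP @Flat) x → AlgSt.RepByAlgSpWith (AlgSp.LocP @Flat)
      (BasedFunctor.comp (BasedFunctor.comp (AlgSt.ofOverCat W) (AlgSt.ofSpMap p)) x)) ∧
    (AlgSt.RepByAlgSpWith (AlgSp.LocP @LocallyOfFinitePresentation) x →
      AlgSt.RepByAlgSpWith (AlgSp.LocP @LocallyOfFinitePresentation)
      (BasedFunctor.comp (BasedFunctor.comp (AlgSt.ofOverCat W) (AlgSt.ofSpMap p)) x)) := by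
  have hW : FibCat.IsFibGrpd (FibCat.overCat W).p := (isFibSet_overForget W).1
  have hU : FibCat.IsFibGrpd (AlgSt.ofSp U.obj).p := (isFibSetoid_ofPsh U.obj.obj).1
  exact ⟨fun hx => repByAlgSpWith_comp_of_compCond hW hU _ compCond_flat _ x
    (repByAlgSpWith_atlas _ (fun X T s he hs => (props_of_etale_surjective X T s he hs).1)
      U p hpe hps) hx,
   fun hx => repByAlgSpWith_comp_of_compCond hW hU _ compCond_lfp _ x
    (repByAlgSpWith_atlas _ (fun X T s he hs => (props_of_etale_surjective X T s he hs).2.1)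
      U p hpe hps) hx⟩

end Comp

section Results

variable {S : Scheme.{u}} {𝒳 : AlgSt.Cat S}

theorem isAlgStack_ofSp (U : AlgSp.Space S) :
    AlgSt.IsAlgStack Scheme.fppfPrecoverage (AlgSt.ofSp U.obj) :=
  (isDM_of_repByAlgSp ⟨U, BasedFunctor.id _, isEquivOver_id _⟩).1

theorem surjective_ofChart (h𝒳 : AlgSt.IsAlgStack Scheme.fppfPrecoverage 𝒳) {V : Over S}
    (x : FibCat.overCat V ⥤ᵇ 𝒳) (hx : AlgSt.RepByAlgSpWith AlgSp.IsSurjectiveMor x) :
    Function.Surjective (AlgSt.Points.ofChart x) := by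
  have h := (isSurjective_iff_repByAlgSpWith (isAlgStack_overCat V) h𝒳 x
    (repByAlgSp1_of_repByAlgSpWith _ _ hx)).2 hx
  intro η
  obtain ⟨z, rfl⟩ := h η
  obtain ⟨t, rfl⟩ := (ptOver_bijective V).2 z
  exact ⟨t, rfl⟩

theorem isOpenMap_points_map_of_flat_lfp_space (h𝒳 : AlgSt.IsAlgStack Scheme.fppfPrecoverage 𝒳)
    (U : AlgSp.Space S) (u : AlgSt.ofSp U.obj ⥤ᵇ 𝒳)
    (hu₁ : AlgSt.RepByAlgSpWith (AlgSp.LocP @Flat) u)
    (hu₂ : AlgSt.RepByAlgSpWith (AlgSp.LocP @LocallyOfFinitePresentation) u) :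
    IsOpenMap (AlgSt.Points.map u) := by
  obtain ⟨W, s, hse, hss⟩ := U.property.atlas
  let c : FibCat.overCat W ⥤ᵇ AlgSt.ofSp U.obj :=
    BasedFunctor.comp (AlgSt.ofOverCat W) (AlgSt.ofSpMap s)
  have hc := chart_precomp_atlas_flat_lfp U s hse hss u
  have hopen := isOpenMap_ofChart h𝒳 (BasedFunctor.comp c u) (hc.1 hu₁) (hc.2 hu₂)
  have hUalg := isAlgStack_ofSp U
  have hcont : Continuous (AlgSt.Points.ofChart c) := continuous_ofChart hUalg c
  have hsurj : Function.Surjective (AlgSt.Points.ofChart c) :=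
    surjective_ofChart hUalg c
      (repByAlgSpWith_atlas _ (fun X T s he hs => (props_of_etale_surjective X T s he hs).2.2.1)
        U s hse hss)
  intro A hA
  have h1 : AlgSt.Points.map u '' A =
      AlgSt.Points.ofChart (BasedFunctor.comp c u) '' (AlgSt.Points.ofChart c ⁻¹' A) := by
    rw [show AlgSt.Points.ofChart (BasedFunctor.comp c u) =
      AlgSt.Points.map u ∘ AlgSt.Points.ofChart c from rfl, Set.image_comp,
      Set.image_preimage_eq _ hsurj]
  rw [h1]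
  exact hopen _ (hcont.isOpen_preimage A hA)

theorem isOpen_points_iff_preimage (h𝒳 : AlgSt.IsAlgStack Scheme.fppfPrecoverage 𝒳)
    (U : AlgSp.Space S) (p : AlgSt.ofSp U.obj ⥤ᵇ 𝒳)
    (hp₁ : AlgSt.RepByAlgSpWith (AlgSp.LocP @Flat) p)
    (hp₂ : AlgSt.RepByAlgSpWith (AlgSp.LocP @LocallyOfFinitePresentation) p)
    (hp₃ : AlgSt.RepByAlgSpWith AlgSp.IsSurjectiveMor p) (W : Set (AlgSt.Points 𝒳)) :
    IsOpen W ↔ IsOpen (AlgSt.Points.map p ⁻¹' W) := by
  constructor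
  · intro hW
    exact (continuous_points_map h𝒳 p).isOpen_preimage W hW
  · intro hW
    have hsurj : Function.Surjective (AlgSt.Points.map p) :=
      (isSurjective_iff_repByAlgSpWith (isAlgStack_ofSp U) h𝒳 p
        (repByAlgSp1_of_repByAlgSpWith _ _ hp₃)).2 hp₃
    rw [← Set.image_preimage_eq W hsurj]
    exact isOpenMap_points_map_of_flat_lfp_space h𝒳 U p hp₁ hp₂ _ hW

theorem exists_isOpen_isCompact_nhd (h𝒳 : AlgSt.IsAlgStack Scheme.fppfPrecoverage 𝒳)
    (x : AlgSt.Points 𝒳) (W : Set (AlgSt.Points 𝒳)) (hW : IsOpen W) (hx : x ∈ W) :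
    ∃ V : Set (AlgSt.Points 𝒳), IsOpen V ∧ IsCompact V ∧ x ∈ V ∧ V ⊆ W := by
  obtain ⟨V₀, y₀, hy₀s, hy₀surj⟩ := h𝒳.atlas
  obtain ⟨v, rfl⟩ := surjective_ofChart h𝒳 y₀ hy₀surj x
  have hopen : IsOpen (AlgSt.Points.ofChart y₀ ⁻¹' W) := hW V₀ y₀ hy₀s
  obtain ⟨A, hAaff, hvA, hAW⟩ :=
    TopologicalSpace.Opens.isBasis_iff_nbhd.mp (V₀.left.isBasis_affineOpens)
      (show v ∈ (⟨_, hopen⟩ : TopologicalSpace.Opens ↥V₀.left) from hx)
  refine ⟨AlgSt.Points.ofChart y₀ '' A,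
    isOpenMap_ofChart h𝒳 y₀ (flat_of_smooth hy₀s) (lfp_of_smooth hy₀s) _ A.2,
    (IsAffineOpen.isCompact hAaff).image (continuous_ofChart h𝒳 y₀), ⟨v, hvA, rfl⟩, ?_⟩
  rintro _ ⟨a, ha, rfl⟩
  exact hAW ha

end Results

end Groth.Agent.Lib.Helper15PtsTop
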