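-- helper15: quasi-compactness of algebraic stacks through the space of points.
import Mathlib
import Groth.Agent.Lib.Helper15PtsTop

set_option autoImplicit false
set_option backward.isDefEq.respectTransparency false
set_option backward.isDefEq.respectTransparency.types false
open CategoryTheory CategoryTheory.Functor CategoryTheory.Limits Opposite AlgebraicGeometry

universe u

namespace Groth.Agent.Lib.Helper15PtsQc

open Groth.Agent.Lib.Helper17 Groth.Agent.Lib.Helper15PshFib Groth.Agent.Lib.Helper15RepComp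
  Groth.Agent.Lib.Helper15RepPsh Groth.Agent.Lib.Helper15DiagBase Groth.Agent.Lib.Helper15DiagRepSp
  Groth.Agent.Lib.Helper15Descent Groth.Agent.Lib.Helper15DiagLft
  Groth.Agent.Lib.Helper15DiagDescent Groth.Agent.Lib.Helper15SpMapRep
  Groth.Agent.Lib.Helper15SrcCancel Groth.Agent.Lib.Helper15ChartSp Groth.Agent.Lib.Helper15Atlas
  Groth.Agent.Lib.Helper15LocEss Groth.Agent.Lib.Helper15UnivComp Groth.Agent.Lib.Helper15SmLoc
  Groth.Agent.Lib.Helper15PtsComp Groth.Agent.Lib.Helper15PtsTop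

section EtChart

variable {S : Scheme.{u}} {𝒳 : AlgSt.Cat S}

/-- The functor of a representable etale map from a scheme to an algebraic space has every
property enjoyed by representable etale morphisms to schemes. -/
theorem repByAlgSpWith_etale_chart (Q : MorphismProperty (AlgSp.Sp S))
    (hQ : ∀ (X : AlgSp.Space S) (T : Over S) (s : X.obj ⟶ (AlgSp.yon S).obj T),
      AlgSp.RepWith @Etale s → Q s)
    (W : AlgSp.Space S) {U : Over S} (a : (AlgSp.yon S).obj U ⟶ W.obj)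
    (hae : AlgSp.RepWith @Etale a) :
    AlgSt.RepByAlgSpWith Q (BasedFunctor.comp (AlgSt.ofOverCat U) (AlgSt.ofSpMap a)) := by
  have h1 : AlgSt.RepByAlgSpWith Q (AlgSt.ofSpMap a) := by
    intro T y
    let UU : AlgSp.Space S := ⟨(AlgSp.yon S).obj U, AlgSp.IsAlgSpace.yon_obj U⟩
    let a₁ : UU ⟶ W := ObjectProperty.homMk a
    obtain ⟨P', E, fst, hE, sq⟩ := exists_pullback_fp a.hom y
    obtain ⟨hs, hA⟩ := (repBySp_of_spaces UU W a₁.hom) _ fst _ sq
    let V' : AlgSp.Space S := ⟨⟨P', hs⟩, hA⟩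
    refine ⟨V', E, hE, ?_⟩
    let ξ : (AlgSp.yon S).obj T ⟶ W.obj :=
      ObjectProperty.homMk (uliftYonedaEquiv.symm (pshSec y (Over.mk (𝟙 T))))
    let b' : V'.obj ⟶ (AlgSp.yon S).obj U := ObjectProperty.homMk fst
    have sq' : IsPullback b'
        (AlgSt.spMapOfOver (BasedFunctor.comp E (FibCat.fpFst y (AlgSt.ofSpMap a)))) a ξ :=
      IsPullback.of_map_of_faithful (sheafToPresheaf (AlgSp.J S) (Type (u + 1))) sq
    exact hQ V' T _
      (MorphismProperty.of_isPullback (P := AlgSp.RepWith (S := S) @Etale) sq' hae)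
  exact (repByAlgSpWith_of_square Q (AlgSt.ofSpMap a)
    (BasedFunctor.comp (AlgSt.ofOverCat U) (AlgSt.ofSpMap a)) (AlgSt.ofOverCat U)
    (BasedFunctor.id _) (isEquivOver_ofOverCat U) (isEquivOver_id _) (Iso.refl _)).1 h1

/-- The slice functor of a morphism of schemes is the composite through the categories of the
represented sheaves. -/
theorem nonempty_iso_overMap {W V : Over S} (g : W ⟶ V) :
    Nonempty (BasedFunctor.comp (BasedFunctor.comp (AlgSt.ofOverCat W)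
      (AlgSt.ofSpMap ((AlgSp.yon S).map g))) (AlgSt.toOverCat V) ≅ AlgSt.overMap g) := by
  let A : FibCat.overCat W ⥤ᵇ AlgSt.ofSp ((AlgSp.yon S).obj V) :=
    BasedFunctor.comp (AlgSt.ofOverCat W) (AlgSt.ofSpMap ((AlgSp.yon S).map g))
  have hA : ∀ c : Over W, pshSec A c =
      ((AlgSp.yon S).map g).hom.app _ (⟨c.hom⟩ : ((AlgSp.yon S).obj W).obj.obj (op c.left)) := by
    intro c
    change pshSec (BasedFunctor.comp (AlgSt.ofOverCat W)
      (Stk.ofPshMap ((AlgSp.yon S).map g).hom)) c = _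
    rw [pshSec_comp_ofPshMap, pshSec_ofOverCat]
    rfl
  exact ⟨isoOfOverCat (fun c => by
    rw [ovSec_pshSec, ovSec_overMap, ovSec_eq_spMapOfOver, hA,
      Groth.Agent.Lib.Helper15EquivRep.spMapOfOver_toOverCat]
    rfl)⟩

/-- Precomposing a smooth chart with an etale morphism of schemes gives a smooth chart. -/
theorem smooth_overMap_comp {W V : Over S} (g : W ⟶ V) (hg : Etale g.left)
    (y : FibCat.overCat V ⥤ᵇ 𝒳) (hy : AlgSt.RepByAlgSpWith (AlgSp.LocP @Smooth) y) :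
    AlgSt.RepByAlgSpWith (AlgSp.LocP @Smooth) (BasedFunctor.comp (AlgSt.overMap g) y) := by
  have hge : AlgSp.RepWith @Etale ((AlgSp.yon S).map g) := (AlgSp.repWith_yon_map_iff _ _).2 hg
  have hW : FibCat.IsFibGrpd (FibCat.overCat W).p := (isFibSet_overForget W).1
  have hVf : FibCat.IsFibGrpd (FibCat.overCat V).p := (isFibSet_overForget V).1
  have hV' : FibCat.IsFibGrpd (AlgSt.ofSch V).p :=
    (isFibSetoid_ofPsh ((AlgSp.yon S).obj V).obj).1
  have hc := chart_precomp_equiv hV' hVf (AlgSt.toOverCat V) (isEquivOver_toOverCat V) y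
  let VV : AlgSp.Space S := ⟨(AlgSp.yon S).obj V, AlgSp.IsAlgSpace.yon_obj V⟩
  have h1 : AlgSt.RepByAlgSpWith (AlgSp.LocP @Smooth)
      (BasedFunctor.comp (BasedFunctor.comp (AlgSt.ofOverCat W)
        (AlgSt.ofSpMap ((AlgSp.yon S).map g))) (BasedFunctor.comp (AlgSt.toOverCat V) y)) :=
    repByAlgSpWith_comp_of_compCond hW hV' _ compCond_smooth _ _
      (repByAlgSpWith_etale_chart _
        (fun X T s he => by
          let TT : AlgSp.Space S := ⟨(AlgSp.yon S).obj T, AlgSp.IsAlgSpace.yon_obj T⟩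
          let f : X ⟶ TT := ObjectProperty.homMk s
          have het : AlgSp.IsEtaleMor f.hom :=
            fun V φ hφ => MorphismProperty.comp_mem _ _ _ hφ he
          exact (Groth.Agent.S10265.result f het).2.1) VV ((AlgSp.yon S).map g) hge)
      (hc.1 hy)
  obtain ⟨lam⟩ := nonempty_iso_overMap g
  refine (repByAlgSpWith_of_square _ _ (BasedFunctor.comp (AlgSt.overMap g) y)
    (BasedFunctor.id _) (BasedFunctor.id _) (isEquivOver_id _) (isEquivOver_id _) ?_).1 h1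
  exact (whiskerRightIso lam y).symm

end EtChart

section Qc

variable {S : Scheme.{u}} {𝒳 : AlgSt.Cat S}

theorem isQuasiCompact_iff_compactSpace (h𝒳 : AlgSt.IsAlgStack Scheme.fppfPrecoverage 𝒳) :
    AlgSt.IsQuasiCompact 𝒳 ↔ CompactSpace (AlgSt.Points 𝒳) := by
  constructor
  · rintro ⟨U, x, hU, hx₁, hx₂⟩
    have hsurj := surjective_ofChart h𝒳 x hx₂
    have hcont := continuous_ofChart h𝒳 x
    refine ⟨?_⟩
    rw [← Set.image_univ_of_surjective hsurj]
    exact isCompact_univ.image hcont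
  · intro hc
    obtain ⟨V₀, y₀, hy₀s, hy₀surj⟩ := h𝒳.atlas
    have hsurj := surjective_ofChart h𝒳 y₀ hy₀surj
    have hopenmap := isOpenMap_ofChart h𝒳 y₀ (flat_of_smooth hy₀s) (lfp_of_smooth hy₀s)
    let 𝒰 := V₀.left.affineCover
    have hcover : (Set.univ : Set (AlgSt.Points 𝒳)) ⊆
        ⋃ i : 𝒰.I₀, AlgSt.Points.ofChart y₀ '' Set.range (𝒰.f i) := by
      intro η _
      obtain ⟨v, rfl⟩ := hsurj η
      obtain ⟨i, w, hw⟩ := 𝒰.exists_eq v
      exact Set.mem_iUnion.2 ⟨i, v, ⟨w, hw⟩, rfl⟩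
    obtain ⟨t, ht⟩ := isCompact_univ.elim_finite_subcover _
      (fun i => hopenmap _ (𝒰.f i).isOpenEmbedding.isOpen_range) hcover
    let W₀ : Scheme.{u} := ∐ fun i : t => 𝒰.X i
    let g₀ : W₀ ⟶ V₀.left := Sigma.desc fun i : t => 𝒰.f i
    have hW₀ : IsAffine W₀ := inferInstance
    have hg₀ : Etale g₀ := IsZariskiLocalAtSource.sigmaDesc (P := @Etale) (fun i => inferInstance)
    let W : Over S := Over.mk (g₀ ≫ V₀.hom)
    let g : W ⟶ V₀ := Over.homMk g₀ rfl
    have hx₁ := smooth_overMap_comp g hg₀ y₀ hy₀s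
    have hxs : Function.Surjective
        (AlgSt.Points.map (BasedFunctor.comp (AlgSt.overMap g) y₀)) := by
      intro η
      have h1 := ht (Set.mem_univ η)
      simp only [Set.mem_iUnion] at h1
      obtain ⟨i, hi, v, ⟨w, rfl⟩, rfl⟩ := h1
      refine ⟨ptOver W ((Sigma.ι (fun i : t => 𝒰.X i) ⟨i, hi⟩) w), ?_⟩
      rw [← ofChart_eq_map_ptOver, ofChart_overMap]
      congr 1
      change g₀ (Sigma.ι (fun i : t => 𝒰.X i) ⟨i, hi⟩ w) = _
      rw [← Scheme.Hom.comp_apply, Sigma.ι_desc]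
    have hx₂ : AlgSt.RepByAlgSpWith AlgSp.IsSurjectiveMor
        (BasedFunctor.comp (AlgSt.overMap g) y₀) :=
      (isSurjective_iff_repByAlgSpWith (isAlgStack_overCat W) h𝒳 _
        (repByAlgSp1_of_repByAlgSpWith _ _ hx₁)).1 hxs
    exact ⟨W, _, hW₀, hx₁, hx₂⟩

end Qc

section Qc2

variable {S : Scheme.{u}} {𝒰 𝒳 𝒴 𝒵 : AlgSt.Cat S}

theorem isQuasiCompact_of_isSurjective (h𝒰 : AlgSt.IsAlgStack Scheme.fppfPrecoverage 𝒰)
    (h𝒳 : AlgSt.IsAlgStack Scheme.fppfPrecoverage 𝒳) (f : 𝒰 ⥤ᵇ 𝒳) (hf : AlgSt.IsSurjective f)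
    (h𝒰' : AlgSt.IsQuasiCompact 𝒰) : AlgSt.IsQuasiCompact 𝒳 := by
  rw [isQuasiCompact_iff_compactSpace h𝒳]
  have hc : CompactSpace (AlgSt.Points 𝒰) := (isQuasiCompact_iff_compactSpace h𝒰).1 h𝒰'
  refine ⟨?_⟩
  rw [← Set.image_univ_of_surjective hf]
  exact isCompact_univ.image (continuous_points_map h𝒳 f)

theorem isQuasiCompactMor_of_isSurjective_of_triangle
    (h𝒳 : AlgSt.IsAlgStack Scheme.fppfPrecoverage 𝒳)
    (h𝒴 : AlgSt.IsAlgStack Scheme.fppfPrecoverage 𝒴)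
    (h𝒵 : AlgSt.IsAlgStack Scheme.fppfPrecoverage 𝒵)
    (f : 𝒳 ⥤ᵇ 𝒴) (p : 𝒳 ⥤ᵇ 𝒵) (q : 𝒴 ⥤ᵇ 𝒵) (e : BasedFunctor.comp f q ≅ p)
    (hf : AlgSt.IsSurjective f) (hp : AlgSt.IsQuasiCompactMor Scheme.fppfPrecoverage p) :
    AlgSt.IsQuasiCompactMor Scheme.fppfPrecoverage q := by
  intro 𝒵' h𝒵' hqc g'
  have h1 : AlgSt.IsQuasiCompact (FibCat.fp g' p) := hp 𝒵' h𝒵' hqc g'
  have hWq : AlgSt.IsAlgStack Scheme.fppfPrecoverage (FibCat.fp g' q) :=
    isAlgStack_fp_of_isPrestack (IsStack.isPrestack _ h𝒵.isStack) h𝒵.diag h𝒵' h𝒴 g' q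
  have hWW : AlgSt.IsAlgStack Scheme.fppfPrecoverage (FibCat.fp (FibCat.fpSnd g' q) f) :=
    isAlgStack_fp_of_isPrestack (IsStack.isPrestack _ h𝒴.isStack) h𝒴.diag hWq h𝒳
      (FibCat.fpSnd g' q) f
  have : (BasedFunctor.id 𝒵).toFunctor.Full := inferInstanceAs (𝟭 𝒵.obj).Full
  have : (BasedFunctor.id 𝒵).toFunctor.Faithful := inferInstanceAs (𝟭 𝒵.obj).Faithful
  have hE₁ := isEquivOver_fpMap g' (BasedFunctor.comp f q) g' p (BasedFunctor.id _)
    (BasedFunctor.id _) (BasedFunctor.id _) (Iso.refl _) e.symm (isEquivOver_id _)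
    (isEquivOver_id _)
  obtain ⟨I, hI, -, -⟩ := IsEquivOver.exists_inverse_isEquivOver' (pasteR g' f q)
    (isEquivOver_pasteR g' f q)
  have h2 := isQuasiCompact_of_isEquivOver _ hE₁ h1
  have h3 := isQuasiCompact_of_isEquivOver I hI h2
  exact isQuasiCompact_of_isSurjective hWW hWq (FibCat.fpFst (FibCat.fpSnd g' q) f)
    (Groth.Agent.S12825.result h𝒳 h𝒴 hWq f (FibCat.fpSnd g' q) hf) h3

end Qc2

end Groth.Agent.Lib.Helper15PtsQc
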