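-- helper15: universal injectivity of functors between algebraic stacks can be tested on covers.
import Mathlib
import Groth.Agent.Lib.Helper15PtsQc

set_option autoImplicit false
set_option backward.isDefEq.respectTransparency false
set_option backward.isDefEq.respectTransparency.types false
open CategoryTheory CategoryTheory.Functor CategoryTheory.Limits Opposite AlgebraicGeometry

universe u

namespace Groth.Agent.Lib.Helper15PtsInj

open Groth.Agent.Lib.Helper17 Groth.Agent.Lib.Helper15PshFib Groth.Agent.Lib.Helper15RepComp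
  Groth.Agent.Lib.Helper15RepPsh Groth.Agent.Lib.Helper15DiagBase Groth.Agent.Lib.Helper15DiagRepSp
  Groth.Agent.Lib.Helper15Descent Groth.Agent.Lib.Helper15DiagLft
  Groth.Agent.Lib.Helper15DiagDescent Groth.Agent.Lib.Helper15SpMapRep
  Groth.Agent.Lib.Helper15SrcCancel Groth.Agent.Lib.Helper15ChartSp Groth.Agent.Lib.Helper15Atlas
  Groth.Agent.Lib.Helper15LocEss Groth.Agent.Lib.Helper15UnivComp Groth.Agent.Lib.Helper15SmLoc
  Groth.Agent.Lib.Helper15PtsComp Groth.Agent.Lib.Helper15PtsTop Groth.Agent.Lib.Helper15PtsQc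

section Inj

variable {S : Scheme.{u}} {𝒳 𝒴 𝒵 𝒵' : AlgSt.Cat S}

/-- Injectivity on points of a base change can be tested after a further base change hitting the
point in question. -/
theorem injective_fpFst_of_cover (h𝒳 : FibCat.IsFibGrpd 𝒳.p) (h𝒴 : FibCat.IsFibGrpd 𝒴.p)
    (h𝒵 : FibCat.IsFibGrpd 𝒵.p) (f : 𝒳 ⥤ᵇ 𝒴) (g : 𝒵 ⥤ᵇ 𝒴)
    (h : ∀ ζ : AlgSt.Points 𝒵, ∃ (𝒵' : AlgSt.Cat S) (_ : FibCat.IsFibGrpd 𝒵'.p) (c : 𝒵' ⥤ᵇ 𝒵),
      ζ ∈ Set.range (AlgSt.Points.map c) ∧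
        Function.Injective (AlgSt.Points.map (FibCat.fpFst (BasedFunctor.comp c g) f))) :
    Function.Injective (AlgSt.Points.map (FibCat.fpFst g f)) := by
  intro w₁ w₂ hw
  obtain ⟨𝒵', h𝒵', c, ⟨ζ', hζ'⟩, hinj⟩ := h (AlgSt.Points.map (FibCat.fpFst g f) w₁)
  have hfp : FibCat.IsFibGrpd (FibCat.fp g f).p := isFibGrpd_fp g f h𝒵 h𝒳 h𝒴
  obtain ⟨η₁, h11, h12⟩ := points_fp_surjective hfp h𝒵 h𝒵' (FibCat.fpFst g f) c ζ' w₁ hζ'
  obtain ⟨η₂, h21, h22⟩ := points_fp_surjective hfp h𝒵 h𝒵' (FibCat.fpFst g f) c ζ' w₂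
    (hζ'.trans hw)
  have hL := points_map_injective_of_isEquivOver (pasteL f g c) (isEquivOver_pasteL f g c)
  have h3 : AlgSt.Points.map (FibCat.fpFst (BasedFunctor.comp c g) f)
      (AlgSt.Points.map (pasteL f g c) η₁) =
      AlgSt.Points.map (FibCat.fpFst (BasedFunctor.comp c g) f)
        (AlgSt.Points.map (pasteL f g c) η₂) := by
    rw [← points_map_comp, ← points_map_comp]
    exact h11.trans h21.symm
  have h4 : η₁ = η₂ := hL (hinj h3)
  rw [← h12, ← h22, h4]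

/-- Injectivity on points of the first projection only depends on the first functor up to
isomorphism. -/
theorem injective_fpFst_of_iso (f : 𝒳 ⥤ᵇ 𝒴) (g g' : 𝒵 ⥤ᵇ 𝒴) (e : g ≅ g')
    (h : Function.Injective (AlgSt.Points.map (FibCat.fpFst g' f))) :
    Function.Injective (AlgSt.Points.map (FibCat.fpFst g f)) := by
  have : (BasedFunctor.id 𝒴).toFunctor.Full := inferInstanceAs (𝟭 𝒴.obj).Full
  have : (BasedFunctor.id 𝒴).toFunctor.Faithful := inferInstanceAs (𝟭 𝒴.obj).Faithful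
  have hM := isEquivOver_fpMap g' f g f (BasedFunctor.id _) (BasedFunctor.id _)
    (BasedFunctor.id _) e (Iso.refl _) (isEquivOver_id _) (isEquivOver_id _)
  have hMi := points_map_injective_of_isEquivOver _ hM
  intro a b hab
  apply hMi
  apply h
  rw [← points_map_comp, ← points_map_comp]
  exact hab

theorem injective_of_isUnivInjective (h𝒴 : AlgSt.IsAlgStack Scheme.fppfPrecoverage 𝒴)
    (φ : 𝒳 ⥤ᵇ 𝒴) (h : AlgSt.IsUnivInjective Scheme.fppfPrecoverage φ) :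
    Function.Injective (AlgSt.Points.map φ) := by
  have h1 := h 𝒴 h𝒴 (BasedFunctor.id 𝒴)
  have hE : FibCat.IsEquivOver (FibCat.fpSnd (BasedFunctor.id 𝒴) φ) :=
    isEquivOver_fpSnd _ _ (isEquivOver_id _)
  have hs := points_map_surjective_of_isEquivOver _ hE
  intro a b hab
  obtain ⟨a', rfl⟩ := hs a
  obtain ⟨b', rfl⟩ := hs b
  have h2 : ∀ x, AlgSt.Points.map φ (AlgSt.Points.map (FibCat.fpSnd (BasedFunctor.id 𝒴) φ) x) =
      AlgSt.Points.map (FibCat.fpFst (BasedFunctor.id 𝒴) φ) x := by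
    intro x
    rw [← points_map_comp]
    exact (points_map_congr _ _
      ((BasedNatTrans.forgetful _ _).mapIso (FibCat.fpIso (BasedFunctor.id 𝒴) φ)) x).symm
  rw [h2, h2] at hab
  rw [h1 hab]

end Inj

section Results

variable {S : Scheme.{u}} {𝒳 𝒴 : AlgSt.Cat S}

theorem isUnivInjective_of_fpFst_cover (h𝒳 : AlgSt.IsAlgStack Scheme.fppfPrecoverage 𝒳)
    (h𝒴 : AlgSt.IsAlgStack Scheme.fppfPrecoverage 𝒴) (f : 𝒳 ⥤ᵇ 𝒴)
    (W : AlgSp.Space S) (w : AlgSt.ofSp W.obj ⥤ᵇ 𝒴)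
    (hw₃ : AlgSt.RepByAlgSpWith AlgSp.IsSurjectiveMor w)
    (h : AlgSt.IsUnivInjective Scheme.fppfPrecoverage (FibCat.fpFst w f)) :
    AlgSt.IsUnivInjective Scheme.fppfPrecoverage f := by
  intro 𝒵 h𝒵 g
  have hWalg := isAlgStack_ofSp W
  have hwsurj : AlgSt.IsSurjective w :=
    (isSurjective_iff_repByAlgSpWith hWalg h𝒴 w (repByAlgSp1_of_repByAlgSpWith _ _ hw₃)).2 hw₃
  have h𝒵' : AlgSt.IsAlgStack Scheme.fppfPrecoverage (FibCat.fp g w) :=
    isAlgStack_fp_of_isPrestack (IsStack.isPrestack _ h𝒴.isStack) h𝒴.diag h𝒵 hWalg g w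
  have hc : AlgSt.IsSurjective (FibCat.fpFst g w) :=
    Groth.Agent.S12825.result hWalg h𝒴 h𝒵 w g hwsurj
  apply injective_fpFst_of_cover h𝒳.isStack.1 h𝒴.isStack.1 h𝒵.isStack.1 f g
  intro ζ
  refine ⟨FibCat.fp g w, h𝒵'.isStack.1, FibCat.fpFst g w, hc ζ, ?_⟩
  apply injective_fpFst_of_iso f _ _ (FibCat.fpIso g w)
  have h1 := h (FibCat.fp g w) h𝒵' (FibCat.fpSnd g w)
  have hL := points_map_surjective_of_isEquivOver (pasteL f w (FibCat.fpSnd g w))
    (isEquivOver_pasteL f w (FibCat.fpSnd g w))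
  intro a b hab
  obtain ⟨a', rfl⟩ := hL a
  obtain ⟨b', rfl⟩ := hL b
  rw [← points_map_comp, ← points_map_comp] at hab
  rw [h1 hab]

theorem isUnivInjective_of_forall_affine_fpFst
    (h𝒳 : AlgSt.IsAlgStack Scheme.fppfPrecoverage 𝒳)
    (h𝒴 : AlgSt.IsAlgStack Scheme.fppfPrecoverage 𝒴) (f : 𝒳 ⥤ᵇ 𝒴)
    (h : ∀ (Z : Over S) [IsAffine Z.left] (z : FibCat.overCat Z ⥤ᵇ 𝒴),
      AlgSt.IsUnivInjective Scheme.fppfPrecoverage (FibCat.fpFst z f)) :
    AlgSt.IsUnivInjective Scheme.fppfPrecoverage f := by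
  intro 𝒵 h𝒵 g
  apply injective_fpFst_of_cover h𝒳.isStack.1 h𝒴.isStack.1 h𝒵.isStack.1 f g
  intro ζ
  obtain ⟨q, rfl⟩ := AlgSt.Points.mk_surjective ζ
  let T : Over S := Over.mk q.str
  have hq : 𝒵.p.obj q.obj = T := q.lies
  have := IsFibGrpd.isFibered h𝒵.isStack.1
  let z : FibCat.overCat T ⥤ᵇ 𝒵 := yonedaFunctor hq
  have hT : IsAffine T.left := inferInstanceAs (IsAffine (Spec (CommRingCat.of q.K)))
  refine ⟨FibCat.overCat T, (isFibSet_overForget T).1, z, ?_, ?_⟩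
  · let z₀ : AlgSt.FPt (FibCat.overCat T) :=
      { K := q.K, str := q.str, obj := Over.mk (𝟙 T), lies := rfl }
    refine ⟨AlgSt.Points.mk z₀, ?_⟩
    rw [AlgSt.Points.map_mk]
    obtain ⟨ι, -⟩ := yonedaFunctor_iso hq
    exact AlgSt.Points.sound ⟨z₀.map z, 𝟙 _, ι.hom, trivial⟩
  · exact injective_of_isUnivInjective (isAlgStack_overCat T) _ (h T (BasedFunctor.comp z g))

end Results

end Groth.Agent.Lib.Helper15PtsInj
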