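-- helper15: quasi-compactness of functors between algebraic stacks is local on the base for flat finitely presented covers.
import Mathlib
import Groth.Agent.Lib.Helper15PtsInj
import Groth.Agent.Lib.Helper15FpSwap

set_option autoImplicit false
set_option backward.isDefEq.respectTransparency false
set_option backward.isDefEq.respectTransparency.types false
open CategoryTheory CategoryTheory.Functor CategoryTheory.Limits Opposite AlgebraicGeometry

universe u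

namespace Groth.Agent.Lib.Helper15QcLocal

open Groth.Agent.Lib.Helper17 Groth.Agent.Lib.Helper15PshFib Groth.Agent.Lib.Helper15RepComp
  Groth.Agent.Lib.Helper15RepPsh Groth.Agent.Lib.Helper15DiagBase Groth.Agent.Lib.Helper15DiagRepSp
  Groth.Agent.Lib.Helper15Descent Groth.Agent.Lib.Helper15DiagLft
  Groth.Agent.Lib.Helper15DiagDescent Groth.Agent.Lib.Helper15SpMapRep
  Groth.Agent.Lib.Helper15SrcCancel Groth.Agent.Lib.Helper15ChartSp Groth.Agent.Lib.Helper15Atlas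
  Groth.Agent.Lib.Helper15LocEss Groth.Agent.Lib.Helper15UnivComp Groth.Agent.Lib.Helper15SmLoc
  Groth.Agent.Lib.Helper15PtsComp Groth.Agent.Lib.Helper15PtsTop Groth.Agent.Lib.Helper15PtsQc
  Groth.Agent.Lib.Helper15FpSwap

section Open

variable {S : Scheme.{u}} {𝒵 𝒵' : AlgSt.Cat S}

/-- A flat, locally finitely presented functor between algebraic stacks is open on points. -/
theorem isOpenMap_points_map_of_flat_lfp (h𝒵' : AlgSt.IsAlgStack Scheme.fppfPrecoverage 𝒵')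
    (h𝒵 : AlgSt.IsAlgStack Scheme.fppfPrecoverage 𝒵) (c : 𝒵' ⥤ᵇ 𝒵)
    (hc₁ : AlgSt.RepByAlgSpWith (AlgSp.LocP @Flat) c)
    (hc₂ : AlgSt.RepByAlgSpWith (AlgSp.LocP @LocallyOfFinitePresentation) c) :
    IsOpenMap (AlgSt.Points.map c) := by
  obtain ⟨V, v, hv₁, hv₂⟩ := h𝒵'.atlas
  have hV : FibCat.IsFibGrpd (FibCat.overCat V).p := (isFibSet_overForget V).1
  have h1 := repByAlgSpWith_comp_of_compCond hV h𝒵'.isStack.1 _ compCond_flat v c
    (flat_of_smooth hv₁) hc₁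
  have h2 := repByAlgSpWith_comp_of_compCond hV h𝒵'.isStack.1 _ compCond_lfp v c
    (lfp_of_smooth hv₁) hc₂
  have hopen := isOpenMap_ofChart h𝒵 (BasedFunctor.comp v c) h1 h2
  have hcont := continuous_ofChart h𝒵' v
  have hsurj := surjective_ofChart h𝒵' v hv₂
  intro B hB
  have h3 : AlgSt.Points.map c '' B =
      AlgSt.Points.ofChart (BasedFunctor.comp v c) '' (AlgSt.Points.ofChart v ⁻¹' B) := by
    rw [show AlgSt.Points.ofChart (BasedFunctor.comp v c) =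
      AlgSt.Points.map c ∘ AlgSt.Points.ofChart v from rfl, Set.image_comp,
      Set.image_preimage_eq _ hsurj]
  rw [h3]
  exact hopen _ (hcont.isOpen_preimage B hB)

/-- Over a quasi-compact algebraic stack, a flat, locally finitely presented, surjective functor
admits an affine chart of its source which is still surjective onto the target. -/
theorem exists_affine_chart_surjective (h𝒵' : AlgSt.IsAlgStack Scheme.fppfPrecoverage 𝒵')
    (h𝒵 : AlgSt.IsAlgStack Scheme.fppfPrecoverage 𝒵) (hqc : AlgSt.IsQuasiCompact 𝒵)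
    (c : 𝒵' ⥤ᵇ 𝒵)
    (hc₁ : AlgSt.RepByAlgSpWith (AlgSp.LocP @Flat) c)
    (hc₂ : AlgSt.RepByAlgSpWith (AlgSp.LocP @LocallyOfFinitePresentation) c)
    (hcs : AlgSt.IsSurjective c) :
    ∃ (A : Over S) (a : FibCat.overCat A ⥤ᵇ 𝒵'), IsAffine A.left ∧
      AlgSt.IsSurjective (BasedFunctor.comp a c) := by
  have hcomp : CompactSpace (AlgSt.Points 𝒵) := (isQuasiCompact_iff_compactSpace h𝒵).1 hqc
  obtain ⟨V, v, hv₁, hv₂⟩ := h𝒵'.atlas
  have hV : FibCat.IsFibGrpd (FibCat.overCat V).p := (isFibSet_overForget V).1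
  have h1 := repByAlgSpWith_comp_of_compCond hV h𝒵'.isStack.1 _ compCond_flat v c
    (flat_of_smooth hv₁) hc₁
  have h2 := repByAlgSpWith_comp_of_compCond hV h𝒵'.isStack.1 _ compCond_lfp v c
    (lfp_of_smooth hv₁) hc₂
  have hopenmap := isOpenMap_ofChart h𝒵 (BasedFunctor.comp v c) h1 h2
  have hsurj : Function.Surjective (AlgSt.Points.ofChart (BasedFunctor.comp v c)) := by
    intro ζ
    obtain ⟨ζ', rfl⟩ := hcs ζ
    obtain ⟨t, rfl⟩ := surjective_ofChart h𝒵' v hv₂ ζ'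
    exact ⟨t, rfl⟩
  let 𝒰 := V.left.affineCover
  have hcover : (Set.univ : Set (AlgSt.Points 𝒵)) ⊆
      ⋃ i : 𝒰.I₀, AlgSt.Points.ofChart (BasedFunctor.comp v c) '' Set.range (𝒰.f i) := by
    intro η _
    obtain ⟨t, rfl⟩ := hsurj η
    obtain ⟨i, w, hw⟩ := 𝒰.exists_eq t
    exact Set.mem_iUnion.2 ⟨i, t, ⟨w, hw⟩, rfl⟩
  obtain ⟨t, ht⟩ := isCompact_univ.elim_finite_subcover _
    (fun i => hopenmap _ (𝒰.f i).isOpenEmbedding.isOpen_range) hcover
  let W₀ : Scheme.{u} := ∐ fun i : t => 𝒰.X i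
  let g₀ : W₀ ⟶ V.left := Sigma.desc fun i : t => 𝒰.f i
  have hW₀ : IsAffine W₀ := inferInstance
  let W : Over S := Over.mk (g₀ ≫ V.hom)
  let g : W ⟶ V := Over.homMk g₀ rfl
  refine ⟨W, BasedFunctor.comp (AlgSt.overMap g) v, hW₀, ?_⟩
  intro η
  have h3 := ht (Set.mem_univ η)
  simp only [Set.mem_iUnion] at h3
  obtain ⟨i, hi, t', ⟨w, rfl⟩, rfl⟩ := h3
  refine ⟨ptOver W ((Sigma.ι (fun i : t => 𝒰.X i) ⟨i, hi⟩) w), ?_⟩
  have h4 : AlgSt.Points.map (BasedFunctor.comp (BasedFunctor.comp (AlgSt.overMap g) v) c)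
      (ptOver W ((Sigma.ι (fun i : t => 𝒰.X i) ⟨i, hi⟩) w)) =
      AlgSt.Points.ofChart (BasedFunctor.comp (AlgSt.overMap g) (BasedFunctor.comp v c))
        ((Sigma.ι (fun i : t => 𝒰.X i) ⟨i, hi⟩) w) := rfl
  rw [h4, ofChart_overMap]
  congr 1
  change g₀ (Sigma.ι (fun i : t => 𝒰.X i) ⟨i, hi⟩ w) = _
  rw [← Scheme.Hom.comp_apply, Sigma.ι_desc]

end Open

section Main

variable {S : Scheme.{u}} {𝒳 𝒴 : AlgSt.Cat S}

theorem isQuasiCompact_overCat (A : Over S) (hA : IsAffine A.left) :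
    AlgSt.IsQuasiCompact (FibCat.overCat A) :=
  ⟨A, BasedFunctor.id _, hA,
    Groth.Agent.Lib.Helper15EquivRep.repByAlgSpWith_of_isEquivOver _ locP_smooth_id
      (BasedFunctor.id _) (isEquivOver_id _),
    Groth.Agent.Lib.Helper15EquivRep.repByAlgSpWith_of_isEquivOver _ isSurjectiveMor_id
      (BasedFunctor.id _) (isEquivOver_id _)⟩

theorem isQuasiCompactMor_of_fpFst_cover (h𝒳 : AlgSt.IsAlgStack Scheme.fppfPrecoverage 𝒳)
    (h𝒴 : AlgSt.IsAlgStack Scheme.fppfPrecoverage 𝒴) (f : 𝒳 ⥤ᵇ 𝒴)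
    (W : AlgSp.Space S) (w : AlgSt.ofSp W.obj ⥤ᵇ 𝒴)
    (hw₁ : AlgSt.RepByAlgSpWith (AlgSp.LocP @Flat) w)
    (hw₂ : AlgSt.RepByAlgSpWith (AlgSp.LocP @LocallyOfFinitePresentation) w)
    (hw₃ : AlgSt.RepByAlgSpWith AlgSp.IsSurjectiveMor w)
    (hfq : AlgSt.IsQuasiCompactMor Scheme.fppfPrecoverage (FibCat.fpFst w f)) :
    AlgSt.IsQuasiCompactMor Scheme.fppfPrecoverage f := by
  intro 𝒵 h𝒵 hqc g
  have hWalg := isAlgStack_ofSp W
  have hwsurj : AlgSt.IsSurjective w :=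
    (isSurjective_iff_repByAlgSpWith hWalg h𝒴 w (repByAlgSp1_of_repByAlgSpWith _ _ hw₃)).2 hw₃
  have hpre𝒴 := IsStack.isPrestack _ h𝒴.isStack
  have h𝒵' : AlgSt.IsAlgStack Scheme.fppfPrecoverage (FibCat.fp g w) :=
    isAlgStack_fp_of_isPrestack hpre𝒴 h𝒴.diag h𝒵 hWalg g w
  have hcs : AlgSt.IsSurjective (FibCat.fpFst g w) :=
    Groth.Agent.S12825.result hWalg h𝒴 h𝒵 w g hwsurj
  obtain ⟨A, a, hA, has⟩ := exists_affine_chart_surjective h𝒵' h𝒵 hqc (FibCat.fpFst g w)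
    (repByAlgSpWith_fpFst _ w g hw₁) (repByAlgSpWith_fpFst _ w g hw₂) hcs
  have hAalg := isAlgStack_overCat A
  have h1 : AlgSt.IsQuasiCompact
      (FibCat.fp (BasedFunctor.comp a (FibCat.fpSnd g w)) (FibCat.fpFst w f)) :=
    hfq (FibCat.overCat A) hAalg (isQuasiCompact_overCat A hA)
      (BasedFunctor.comp a (FibCat.fpSnd g w))
  have h2 := isQuasiCompact_of_isEquivOver _
    (isEquivOver_pasteL f w (BasedFunctor.comp a (FibCat.fpSnd g w))) h1
  have : (BasedFunctor.id 𝒴).toFunctor.Full := inferInstanceAs (𝟭 𝒴.obj).Full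
  have : (BasedFunctor.id 𝒴).toFunctor.Faithful := inferInstanceAs (𝟭 𝒴.obj).Faithful
  have hM := isEquivOver_fpMap
    (BasedFunctor.comp (BasedFunctor.comp a (FibCat.fpFst g w)) g) f
    (BasedFunctor.comp (BasedFunctor.comp a (FibCat.fpSnd g w)) w) f
    (BasedFunctor.id _) (BasedFunctor.id _) (BasedFunctor.id _)
    (whiskerLeftIso a (FibCat.fpIso g w).symm) (Iso.refl _) (isEquivOver_id _) (isEquivOver_id _)
  have h3 := isQuasiCompact_of_isEquivOver _ hM h2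
  obtain ⟨I, hI, -, -⟩ := IsEquivOver.exists_inverse_isEquivOver'
    (pasteL f g (BasedFunctor.comp a (FibCat.fpFst g w)))
    (isEquivOver_pasteL f g (BasedFunctor.comp a (FibCat.fpFst g w)))
  have h4 := isQuasiCompact_of_isEquivOver I hI h3
  have h5 := isQuasiCompact_of_isEquivOver _
    (isEquivOver_fpSwap (BasedFunctor.comp a (FibCat.fpFst g w)) (FibCat.fpFst g f)) h4
  have hfpalg : AlgSt.IsAlgStack Scheme.fppfPrecoverage (FibCat.fp g f) :=
    isAlgStack_fp_of_isPrestack hpre𝒴 h𝒴.diag h𝒵 h𝒳 g f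
  have hpre𝒵 := IsStack.isPrestack _ h𝒵.isStack
  have hsrc : AlgSt.IsAlgStack Scheme.fppfPrecoverage
      (FibCat.fp (FibCat.fpFst g f) (BasedFunctor.comp a (FibCat.fpFst g w))) :=
    isAlgStack_fp_of_isPrestack hpre𝒵 h𝒵.diag hfpalg hAalg _ _
  exact isQuasiCompact_of_isSurjective hsrc hfpalg _
    (Groth.Agent.S12825.result hAalg h𝒵 hfpalg (BasedFunctor.comp a (FibCat.fpFst g w))
      (FibCat.fpFst g f) has) h5

end Main

end Groth.Agent.Lib.Helper15QcLocal
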