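-- helper15: open immersions of algebraic stacks on points; finite subcovers by open substacks.
import Mathlib
import Groth.Agent.Lib.Helper15QcLocal

set_option autoImplicit false
set_option backward.isDefEq.respectTransparency false
set_option backward.isDefEq.respectTransparency.types false
open CategoryTheory CategoryTheory.Functor CategoryTheory.Limits Opposite AlgebraicGeometry

universe u w

namespace Groth.Agent.Lib.Helper15OpenSub

open Groth.Agent.Lib.Helper17 Groth.Agent.Lib.Helper15PtsComp Groth.Agent.Lib.Helper15PtsTop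
  Groth.Agent.Lib.Helper15PtsQc Groth.Agent.Lib.Helper15QcLocal Groth.Agent.Lib.Helper15DiagLft

section OpenImm

variable {S : Scheme.{u}} {𝒳 𝒴 : AlgSt.Cat S}

theorem repWith_mono {P Q : MorphismProperty Scheme.{u}} (h : ∀ ⦃A B : Scheme.{u}⦄ (g : A ⟶ B), P g → Q g)
    {F G : AlgSp.Sp S} {f : F ⟶ G} (hf : AlgSp.RepWith P f) : AlgSp.RepWith Q f :=
  ⟨hf.1, fun _ _ g fst snd sq => h _ (hf.2 g fst snd sq)⟩

/-- A representable etale map from an algebraic space to a scheme is flat and locally of finite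
presentation. -/
theorem flat_lfp_of_repWith_etale (X : AlgSp.Space S) (T : Over S)
    (s : X.obj ⟶ (AlgSp.yon S).obj T) (he : AlgSp.RepWith @Etale s) :
    AlgSp.LocP @Flat s ∧ AlgSp.LocP @LocallyOfFinitePresentation s := by
  let TT : AlgSp.Space S := ⟨(AlgSp.yon S).obj T, AlgSp.IsAlgSpace.yon_obj T⟩
  let f : X ⟶ TT := ObjectProperty.homMk s
  have het : AlgSp.IsEtaleMor f.hom := fun V φ hφ => MorphismProperty.comp_mem _ _ _ hφ he
  have h := Groth.Agent.S10265.result f het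
  exact ⟨h.2.2.1, h.2.2.2.1⟩

theorem flat_lfp_of_isOpenImm (i : 𝒴 ⥤ᵇ 𝒳) (hi : AlgSt.IsOpenImm i) :
    AlgSt.RepByAlgSpWith (AlgSp.LocP @Flat) i ∧
      AlgSt.RepByAlgSpWith (AlgSp.LocP @LocallyOfFinitePresentation) i := by
  constructor
  · intro U y
    obtain ⟨F, e, he, hP⟩ := hi U y
    exact ⟨F, e, he, (flat_lfp_of_repWith_etale F U _
      (repWith_mono (fun _ _ g hg => by have : IsOpenImmersion g := hg; infer_instance) hP)).1⟩
  · intro U y
    obtain ⟨F, e, he, hP⟩ := hi U y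
    exact ⟨F, e, he, (flat_lfp_of_repWith_etale F U _
      (repWith_mono (fun _ _ g hg => by have : IsOpenImmersion g := hg; infer_instance) hP)).2⟩

theorem isOpen_range_of_isOpenImm (h𝒴 : AlgSt.IsAlgStack Scheme.fppfPrecoverage 𝒴)
    (h𝒳 : AlgSt.IsAlgStack Scheme.fppfPrecoverage 𝒳) (i : 𝒴 ⥤ᵇ 𝒳) (hi : AlgSt.IsOpenImm i) :
    IsOpen (Set.range (AlgSt.Points.map i)) :=
  (isOpenMap_points_map_of_flat_lfp h𝒴 h𝒳 i (flat_lfp_of_isOpenImm i hi).1
    (flat_lfp_of_isOpenImm i hi).2).isOpen_range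

theorem exists_finset_subcover (h𝒳 : AlgSt.IsAlgStack Scheme.fppfPrecoverage 𝒳)
    (Q' : 𝒳.obj → Prop) (hQ' : AlgSt.IsOpenSubstack 𝒳 Q' Scheme.fppfPrecoverage)
    (hqc : AlgSt.IsQuasiCompact (AlgSt.fullSub 𝒳 Q'))
    {ι : Type w} (Q : ι → 𝒳.obj → Prop)
    (hQ : ∀ i, AlgSt.IsOpenSubstack 𝒳 (Q i) Scheme.fppfPrecoverage)
    (hcov : Set.range (AlgSt.Points.map (AlgSt.subIncl 𝒳 Q')) ⊆
      ⋃ i, Set.range (AlgSt.Points.map (AlgSt.subIncl 𝒳 (Q i)))) :
    ∃ I' : Finset ι, Set.range (AlgSt.Points.map (AlgSt.subIncl 𝒳 Q')) ⊆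
      ⋃ i ∈ I', Set.range (AlgSt.Points.map (AlgSt.subIncl 𝒳 (Q i))) := by
  have hc : CompactSpace (AlgSt.Points (AlgSt.fullSub 𝒳 Q')) :=
    (isQuasiCompact_iff_compactSpace hQ'.2.1).1 hqc
  have hK : IsCompact (Set.range (AlgSt.Points.map (AlgSt.subIncl 𝒳 Q'))) :=
    isCompact_range (continuous_points_map h𝒳 _)
  exact hK.elim_finite_subcover _
    (fun i => isOpen_range_of_isOpenImm (hQ i).2.1 h𝒳 _ (hQ i).2.2) hcov

end OpenImm

end Groth.Agent.Lib.Helper15OpenSub
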