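-- helper15: closed immersions of algebraic stacks are quasi-compact.
import Mathlib
import Groth.Agent.Lib.Helper15OpenSub

set_option autoImplicit false
set_option backward.isDefEq.respectTransparency false
set_option backward.isDefEq.respectTransparency.types false
open CategoryTheory CategoryTheory.Functor CategoryTheory.Limits Opposite AlgebraicGeometry

universe u

namespace Groth.Agent.Lib.Helper15ClosedQc

open Groth.Agent.Lib.Helper17 Groth.Agent.Lib.Helper15PshFib Groth.Agent.Lib.Helper15RepComp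
  Groth.Agent.Lib.Helper15RepPsh Groth.Agent.Lib.Helper15DiagBase Groth.Agent.Lib.Helper15DiagRepSp
  Groth.Agent.Lib.Helper15Descent Groth.Agent.Lib.Helper15DiagLft
  Groth.Agent.Lib.Helper15DiagDescent Groth.Agent.Lib.Helper15SpMapRep
  Groth.Agent.Lib.Helper15SrcCancel Groth.Agent.Lib.Helper15ChartSp Groth.Agent.Lib.Helper15Atlas
  Groth.Agent.Lib.Helper15LocEss Groth.Agent.Lib.Helper15UnivComp Groth.Agent.Lib.Helper15SmLoc
  Groth.Agent.Lib.Helper15PtsComp Groth.Agent.Lib.Helper15PtsTop Groth.Agent.Lib.Helper15PtsQc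
  Groth.Agent.Lib.Helper15FpSwap Groth.Agent.Lib.Helper15QcLocal

section Surj

variable {S : Scheme.{u}} {𝒜 ℬ 𝒞 : AlgSt.Cat S}

theorem isSurjective_comp (a : 𝒜 ⥤ᵇ ℬ) (b : ℬ ⥤ᵇ 𝒞) (ha : AlgSt.IsSurjective a)
    (hb : AlgSt.IsSurjective b) : AlgSt.IsSurjective (BasedFunctor.comp a b) := by
  intro z
  obtain ⟨y, rfl⟩ := hb z
  obtain ⟨x, rfl⟩ := ha y
  exact ⟨x, points_map_comp a b x⟩

theorem isSurjective_of_isEquivOver (a : 𝒜 ⥤ᵇ ℬ) (ha : FibCat.IsEquivOver a) :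
    AlgSt.IsSurjective a :=
  points_map_surjective_of_isEquivOver a ha

theorem isSurjective_ofSpMap {F G : AlgSp.Sp S} (a : F ⟶ G) (ha : AlgSp.IsSurjectiveMor a) :
    AlgSt.IsSurjective (AlgSt.ofSpMap a) := by
  intro y
  obtain ⟨y₀, rfl⟩ := toSt_surjective G y
  obtain ⟨x₀, rfl⟩ := ha y₀
  exact ⟨toSt F x₀, toSt_map a x₀⟩

end Surj

section Main

variable {S : Scheme.{u}} {𝒳 𝒴 : AlgSt.Cat S}

/-- The base change of a functor with affine-type representing spaces to a quasi-compact algebraic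
stack is quasi-compact, as soon as the representing space over an affine chart is covered by an
affine scheme. -/
theorem isQuasiCompact_fp_of_affine_cover (h𝒳 : AlgSt.IsAlgStack Scheme.fppfPrecoverage 𝒳)
    (h𝒴 : AlgSt.IsAlgStack Scheme.fppfPrecoverage 𝒴) (f : 𝒳 ⥤ᵇ 𝒴)
    {𝒵 : AlgSt.Cat S} (h𝒵 : AlgSt.IsAlgStack Scheme.fppfPrecoverage 𝒵) (g : 𝒵 ⥤ᵇ 𝒴)
    {U : Over S} (u : FibCat.overCat U ⥤ᵇ 𝒵) (hu : AlgSt.IsSurjective u)
    {V : Over S} (hV : IsAffine V.left)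
    (c : FibCat.overCat V ⥤ᵇ FibCat.fp (BasedFunctor.comp u g) f) (hc : AlgSt.IsSurjective c) :
    AlgSt.IsQuasiCompact (FibCat.fp g f) := by
  have hpre𝒴 := IsStack.isPrestack _ h𝒴.isStack
  have hpre𝒵 := IsStack.isPrestack _ h𝒵.isStack
  have hUalg := isAlgStack_overCat U
  have hfpalg : AlgSt.IsAlgStack Scheme.fppfPrecoverage (FibCat.fp g f) :=
    isAlgStack_fp_of_isPrestack hpre𝒴 h𝒴.diag h𝒵 h𝒳 g f
  obtain ⟨I, hI, -, -⟩ := IsEquivOver.exists_inverse_isEquivOver' (pasteL f g u)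
    (isEquivOver_pasteL f g u)
  let Φ : FibCat.overCat V ⥤ᵇ FibCat.fp g f :=
    BasedFunctor.comp (BasedFunctor.comp (BasedFunctor.comp c I)
      (fpSwap u (FibCat.fpFst g f))) (FibCat.fpFst (FibCat.fpFst g f) u)
  have hΦ : AlgSt.IsSurjective Φ :=
    isSurjective_comp _ _ (isSurjective_comp _ _ (isSurjective_comp _ _ hc
      (isSurjective_of_isEquivOver I hI))
      (isSurjective_of_isEquivOver _ (isEquivOver_fpSwap u (FibCat.fpFst g f))))
      (Groth.Agent.S12825.result hUalg h𝒵 hfpalg u (FibCat.fpFst g f) hu)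
  exact isQuasiCompact_of_isSurjective (isAlgStack_overCat V) hfpalg Φ hΦ
    (isQuasiCompact_overCat V hV)

theorem isQuasiCompactMor_of_isClosedImm (h𝒳 : AlgSt.IsAlgStack Scheme.fppfPrecoverage 𝒳)
    (h𝒴 : AlgSt.IsAlgStack Scheme.fppfPrecoverage 𝒴) (f : 𝒳 ⥤ᵇ 𝒴) (hf : AlgSt.IsClosedImm f) :
    AlgSt.IsQuasiCompactMor Scheme.fppfPrecoverage f := by
  intro 𝒵 h𝒵 hqc g
  obtain ⟨U, u, hU, hu₁, hu₂⟩ := hqc
  have hus : AlgSt.IsSurjective u :=
    (isSurjective_iff_repByAlgSpWith (isAlgStack_overCat U) h𝒵 u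
      (repByAlgSp1_of_repByAlgSpWith _ _ hu₂)).2 hu₂
  obtain ⟨F, e, he, hcl⟩ := hf U (BasedFunctor.comp u g)
  obtain ⟨V, snd, fst, sq⟩ := hcl.1 (𝟙 ((AlgSp.yon S).obj U))
  have hsnd : IsClosedImmersion snd.left := hcl.2 _ _ _ sq
  have hV : IsAffine V.left := isAffine_of_isAffineHom snd.left
  have hfst : IsIso fst := sq.isIso_fst_of_isIso
  have hfs : AlgSp.IsSurjectiveMor fst := by
    intro y
    refine ⟨AlgSp.Points.map (inv fst) y, ?_⟩
    rw [← AlgSp.Points.map_comp, IsIso.inv_hom_id, AlgSp.Points.map_id]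
  let c : FibCat.overCat V ⥤ᵇ FibCat.fp (BasedFunctor.comp u g) f :=
    BasedFunctor.comp (BasedFunctor.comp (AlgSt.ofOverCat V) (AlgSt.ofSpMap fst)) e
  have hc : AlgSt.IsSurjective c :=
    isSurjective_comp _ _ (isSurjective_comp _ _
      (isSurjective_of_isEquivOver _ (isEquivOver_ofOverCat V)) (isSurjective_ofSpMap fst hfs))
      (isSurjective_of_isEquivOver e he)
  exact isQuasiCompact_fp_of_affine_cover h𝒳 h𝒴 f h𝒵 g u hus hV c hc

end Main

end Groth.Agent.Lib.Helper15ClosedQc
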