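-- helper15: universally open, closed, injective, submersive, homeomorphic functors between algebraic stacks versus their representing maps.
import Mathlib
import Groth.Agent.Lib.Helper15ClosedQc
import Groth.Agent.S10211
import Groth.Agent.S10175

set_option autoImplicit false
set_option backward.isDefEq.respectTransparency false
set_option backward.isDefEq.respectTransparency.types false
open CategoryTheory CategoryTheory.Functor CategoryTheory.Limits Opposite AlgebraicGeometry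

universe u

namespace Groth.Agent.Lib.Helper15UnivPts

section Topology

variable {A V W Z : Type*} [TopologicalSpace A] [TopologicalSpace V] [TopologicalSpace W]
  [TopologicalSpace Z]

/-- The data of a square of spaces `π ∘ r = q ∘ π'` which surjects onto the fibre product, with `q`
a continuous open surjection and `r` continuous. -/
structure CartSq (π' : A → V) (r : A → W) (π : W → Z) (q : V → Z) : Prop where
  comm : ∀ a, π (r a) = q (π' a)
  cart : ∀ v w, q v = π w → ∃ a, π' a = v ∧ r a = w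
  q_cont : Continuous q
  q_open : IsOpenMap q
  q_surj : Function.Surjective q
  r_cont : Continuous r

variable {π' : A → V} {r : A → W} {π : W → Z} {q : V → Z}

theorem CartSq.preimage_image (h : CartSq π' r π q) (s : Set W) :
    q ⁻¹' (π '' s) = π' '' (r ⁻¹' s) := by
  ext v
  constructor
  · rintro ⟨w, hw, hv⟩
    obtain ⟨a, ha1, ha2⟩ := h.cart v w hv.symm
    exact ⟨a, by simpa [ha2] using hw, ha1⟩
  · rintro ⟨a, ha, rfl⟩
    exact ⟨r a, ha, h.comm a⟩

theorem CartSq.isOpenMap (h : CartSq π' r π q) (hπ' : IsOpenMap π') : IsOpenMap π := by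
  intro s hs
  rw [← Set.image_preimage_eq (π '' s) h.q_surj, h.preimage_image]
  exact h.q_open _ (hπ' _ (hs.preimage h.r_cont))

theorem CartSq.isClosedMap (h : CartSq π' r π q) (hπ' : IsClosedMap π') : IsClosedMap π := by
  intro s hs
  have hq : Topology.IsQuotientMap q := h.q_open.isQuotientMap h.q_cont h.q_surj
  rw [← hq.isClosed_preimage, h.preimage_image]
  exact hπ' _ (hs.preimage h.r_cont)

theorem CartSq.injective (h : CartSq π' r π q) (hπ' : Function.Injective π') :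
    Function.Injective π := by
  intro w₁ w₂ hw
  obtain ⟨v, hv⟩ := h.q_surj (π w₁)
  obtain ⟨a₁, h11, h12⟩ := h.cart v w₁ hv
  obtain ⟨a₂, h21, h22⟩ := h.cart v w₂ (hv.trans hw)
  have : a₁ = a₂ := hπ' (h11.trans h21.symm)
  rw [← h12, ← h22, this]

theorem CartSq.surjective (h : CartSq π' r π q) (hπ' : Function.Surjective π') :
    Function.Surjective π := by
  intro z
  obtain ⟨v, rfl⟩ := h.q_surj z
  obtain ⟨a, rfl⟩ := hπ' v
  exact ⟨r a, h.comm a⟩

theorem CartSq.isQuotientMap (h : CartSq π' r π q) (hπc : Continuous π)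
    (hπ' : Topology.IsQuotientMap π') : Topology.IsQuotientMap π := by
  have hq : Topology.IsQuotientMap q := h.q_open.isQuotientMap h.q_cont h.q_surj
  rw [Topology.isQuotientMap_iff, Topology.isCoinducing_iff]
  refine ⟨fun s => ⟨fun hs => ?_, fun hs => hs.preimage hπc⟩, h.surjective hπ'.surjective⟩
  rw [← hq.isOpen_preimage, ← hπ'.isOpen_preimage]
  have : π' ⁻¹' (q ⁻¹' s) = r ⁻¹' (π ⁻¹' s) := by
    ext a
    simp only [Set.mem_preimage, h.comm a]
  rw [this]
  exact hs.preimage h.r_cont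

end Topology

section Good

/-- Properties of maps between topological spaces which are invariant under composition with
homeomorphisms and descend along cartesian squares with a continuous open surjective base. -/
structure GoodProp
    (X : ∀ {A B : Type (u + 1)} [TopologicalSpace A] [TopologicalSpace B], (A → B) → Prop) :
    Prop where
  comp_left : ∀ {A B C : Type (u + 1)} [TopologicalSpace A] [TopologicalSpace B]
    [TopologicalSpace C] (f : A → B) (h : B → C), IsHomeomorph h → X f → X (h ∘ f)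
  comp_right : ∀ {A B C : Type (u + 1)} [TopologicalSpace A] [TopologicalSpace B]
    [TopologicalSpace C] (h : A → B) (f : B → C), IsHomeomorph h → X f → X (f ∘ h)
  descend : ∀ {A V W Z : Type (u + 1)} [TopologicalSpace A] [TopologicalSpace V]
    [TopologicalSpace W] [TopologicalSpace Z] {π' : A → V} {r : A → W} {π : W → Z} {q : V → Z},
    CartSq π' r π q → Continuous π → X π' → X π

theorem goodProp_isOpenMap : GoodProp.{u} (fun f => IsOpenMap f) where
  comp_left _ _ hh hf := hh.isOpenMap.comp hf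
  comp_right _ _ hh hf := hf.comp hh.isOpenMap
  descend h _ hπ' := h.isOpenMap hπ'

theorem goodProp_isClosedMap : GoodProp.{u} (fun f => IsClosedMap f) where
  comp_left _ _ hh hf := hh.isClosedMap.comp hf
  comp_right _ _ hh hf := hf.comp hh.isClosedMap
  descend h _ hπ' := h.isClosedMap hπ'

theorem goodProp_injective : GoodProp.{u} (fun f => Function.Injective f) where
  comp_left _ _ hh hf := hh.injective.comp hf
  comp_right _ _ hh hf := hf.comp hh.injective
  descend h _ hπ' := h.injective hπ'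

theorem goodProp_isQuotientMap : GoodProp.{u} (fun f => Topology.IsQuotientMap f) where
  comp_left _ _ hh hf := hh.isQuotientMap.comp hf
  comp_right _ _ hh hf := hf.comp hh.isQuotientMap
  descend h hπ hπ' := h.isQuotientMap hπ hπ'

theorem goodProp_isHomeomorph : GoodProp.{u} (fun f => IsHomeomorph f) where
  comp_left _ _ hh hf := hh.comp hf
  comp_right _ _ hh hf := hf.comp hh
  descend h hπ hπ' := ⟨hπ, h.isOpenMap hπ'.isOpenMap,
    ⟨h.injective hπ'.injective, h.surjective hπ'.surjective⟩⟩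

end Good

open Groth.Agent.Lib.Helper17 Groth.Agent.Lib.Helper15PshFib Groth.Agent.Lib.Helper15RepComp
  Groth.Agent.Lib.Helper15RepPsh Groth.Agent.Lib.Helper15DiagBase Groth.Agent.Lib.Helper15DiagRepSp
  Groth.Agent.Lib.Helper15Descent Groth.Agent.Lib.Helper15DiagLft
  Groth.Agent.Lib.Helper15DiagDescent Groth.Agent.Lib.Helper15SpMapRep
  Groth.Agent.Lib.Helper15SrcCancel Groth.Agent.Lib.Helper15ChartSp Groth.Agent.Lib.Helper15Atlas
  Groth.Agent.Lib.Helper15LocEss Groth.Agent.Lib.Helper15UnivComp Groth.Agent.Lib.Helper15SmLoc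
  Groth.Agent.Lib.Helper15PtsComp Groth.Agent.Lib.Helper15PtsTop Groth.Agent.Lib.Helper15PtsQc
  Groth.Agent.Lib.Helper15FpSwap Groth.Agent.Lib.Helper15QcLocal Groth.Agent.Lib.Helper15ClosedQc
  Groth.Agent.Lib.Helper15BaseChange

section Homeo

variable {S : Scheme.{u}}

theorem toSt_ofPt {F : AlgSp.Sp S} {T : Over S} (g : (AlgSp.yon S).obj T ⟶ F) (t : ↥T.left) :
    toSt F (AlgSp.Points.ofPt g t) =
      AlgSt.Points.ofChart (BasedFunctor.comp (AlgSt.ofOverCat T) (AlgSt.ofSpMap g)) t := rfl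

theorem continuous_toSt (F : AlgSp.Space S) : Continuous (toSt F.obj) := by
  rw [continuous_def]
  intro W hW
  rw [AlgSp.Points.isOpen_iff]
  intro T g
  exact (continuous_ofChart (isAlgStack_ofSp F)
    (BasedFunctor.comp (AlgSt.ofOverCat T) (AlgSt.ofSpMap g))).isOpen_preimage W hW

/-- Every functor from a slice to the category of a sheaf is the functor of a map of sheaves. -/
theorem exists_map_of_chart {F : AlgSp.Sp S} {U : Over S}
    (x : FibCat.overCat U ⥤ᵇ AlgSt.ofSp F) :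
    ∃ g : (AlgSp.yon S).obj U ⟶ F,
      Nonempty (x ≅ BasedFunctor.comp (AlgSt.ofOverCat U) (AlgSt.ofSpMap g)) := by
  let s₀ : F.obj.obj (op U) := pshSec x (Over.mk (𝟙 U))
  let g : (AlgSp.yon S).obj U ⟶ F := ObjectProperty.homMk (uliftYonedaEquiv.symm s₀)
  refine ⟨g, ⟨pshIsoOfSecEq (fun c => ?_)⟩⟩
  have hA : pshSec (BasedFunctor.comp (AlgSt.ofOverCat U) (AlgSt.ofSpMap g)) c =
      g.hom.app _ (⟨c.hom⟩ : ((AlgSp.yon S).obj U).obj.obj (op c.left)) := by
    change pshSec (BasedFunctor.comp (AlgSt.ofOverCat U) (Stk.ofPshMap g.hom)) c = _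
    rw [pshSec_comp_ofPshMap, pshSec_ofOverCat]
    rfl
  rw [hA]
  let m : c ⟶ Over.mk (𝟙 U) := Over.homMk c.hom (by simp)
  rw [← pshSec_map x m]
  rfl

theorem isOpenMap_toSt (F : AlgSp.Space S) : IsOpenMap (toSt F.obj) := by
  intro A hA U x hx
  obtain ⟨g, ⟨i⟩⟩ := exists_map_of_chart x
  have h1 : AlgSt.Points.ofChart x = toSt F.obj ∘ AlgSp.Points.ofPt g := by
    rw [ofChart_congr i]
    rfl
  have h2 : AlgSt.Points.ofChart x ⁻¹' (toSt F.obj '' A) = AlgSp.Points.ofPt g ⁻¹' A := by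
    rw [h1, Set.preimage_comp, Set.preimage_image_eq _ (toSt_injective F.obj)]
  rw [h2]
  exact (AlgSp.Points.continuous_ofPt g).isOpen_preimage A hA

theorem isHomeomorph_toSt (F : AlgSp.Space S) : IsHomeomorph (toSt F.obj) :=
  ⟨continuous_toSt F, isOpenMap_toSt F, toSt_bijective F.obj⟩

theorem isHomeomorph_of_isEquivOver {𝒜 ℬ : AlgSt.Cat S}
    (h𝒜 : AlgSt.IsAlgStack Scheme.fppfPrecoverage 𝒜)
    (hℬ : AlgSt.IsAlgStack Scheme.fppfPrecoverage ℬ) (E : 𝒜 ⥤ᵇ ℬ) (hE : FibCat.IsEquivOver E) :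
    IsHomeomorph (AlgSt.Points.map E) := by
  have hsm : AlgSt.RepByAlgSpWith (AlgSp.LocP @Smooth) E :=
    Groth.Agent.Lib.Helper15EquivRep.repByAlgSpWith_of_isEquivOver _ locP_smooth_id E hE
  exact ⟨continuous_points_map hℬ E,
    isOpenMap_points_map_of_flat_lfp h𝒜 hℬ E (flat_of_smooth hsm) (lfp_of_smooth hsm),
    ⟨points_map_injective_of_isEquivOver E hE, points_map_surjective_of_isEquivOver E hE⟩⟩

theorem isHomeomorph_toStOver (T : Over S) : IsHomeomorph (toStOver T) := by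
  let TT : AlgSp.Space S := ⟨(AlgSp.yon S).obj T, AlgSp.IsAlgSpace.yon_obj T⟩
  exact (isHomeomorph_of_isEquivOver (isAlgStack_ofSp TT) (isAlgStack_overCat T)
    (AlgSt.toOverCat T) (isEquivOver_toOverCat T)).comp (isHomeomorph_toSt TT)

theorem isHomeomorph_points_map_of_isIso {F G : AlgSp.Sp S} (i : F ⟶ G) [IsIso i] :
    IsHomeomorph (AlgSp.Points.map i) := by
  have h1 : Function.LeftInverse (AlgSp.Points.map (inv i)) (AlgSp.Points.map i) := fun x => by
    rw [← AlgSp.Points.map_comp, IsIso.hom_inv_id, AlgSp.Points.map_id]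
  have h2 : Function.RightInverse (AlgSp.Points.map (inv i)) (AlgSp.Points.map i) := fun x => by
    rw [← AlgSp.Points.map_comp, IsIso.inv_hom_id, AlgSp.Points.map_id]
  exact (Homeomorph.mk ⟨AlgSp.Points.map i, AlgSp.Points.map (inv i), h1, h2⟩
    (AlgSp.Points.continuous_map i) (AlgSp.Points.continuous_map (inv i))).isHomeomorph

end Homeo

section Conj

variable {S : Scheme.{u}}
  {X : ∀ {A B : Type (u + 1)} [TopologicalSpace A] [TopologicalSpace B], (A → B) → Prop}

/-- Transfer of a good property between the map of points of a functor to a slice and the map of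
points of its map of sheaves. -/
theorem prop_points_iff (hX : GoodProp.{u} X) (F : AlgSp.Space S) {T : Over S}
    (Φ : AlgSt.ofSp F.obj ⥤ᵇ FibCat.overCat T) :
    X (AlgSt.Points.map Φ) ↔ X (AlgSp.Points.map (AlgSt.spMapOfOver Φ)) := by
  have h₁ := isHomeomorph_toSt F
  have h₂ := isHomeomorph_toStOver T
  let H₁ := h₁.homeomorph
  let H₂ := h₂.homeomorph
  have comm : ∀ x, AlgSt.Points.map Φ (toSt F.obj x) =
      toStOver T (AlgSp.Points.map (AlgSt.spMapOfOver Φ) x) := toStOver_map Φ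
  constructor
  · intro h
    have h3 : AlgSp.Points.map (AlgSt.spMapOfOver Φ) =
        H₂.symm ∘ (AlgSt.Points.map Φ ∘ toSt F.obj) := by
      funext x
      change _ = H₂.symm (AlgSt.Points.map Φ (toSt F.obj x))
      rw [comm]
      exact (H₂.symm_apply_apply _).symm
    rw [h3]
    exact hX.comp_left _ _ H₂.symm.isHomeomorph (hX.comp_right _ _ h₁ h)
  · intro h
    have h3 : AlgSt.Points.map Φ =
        (toStOver T ∘ AlgSp.Points.map (AlgSt.spMapOfOver Φ)) ∘ H₁.symm := by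
      funext y
      obtain ⟨x, rfl⟩ := h₁.bijective.2 y
      change _ = toStOver T (AlgSp.Points.map (AlgSt.spMapOfOver Φ) (H₁.symm (H₁ x)))
      rw [H₁.symm_apply_apply, comm]
    rw [h3]
    exact hX.comp_right _ _ H₁.symm.isHomeomorph (hX.comp_left _ _ h₂ h)

end Conj

section Main

variable {S : Scheme.{u}} {𝒳 𝒴 : AlgSt.Cat S}
  {X : ∀ {A B : Type (u + 1)} [TopologicalSpace A] [TopologicalSpace B], (A → B) → Prop}

theorem univ_of_rep (hX : GoodProp.{u} X) (h𝒳 : AlgSt.IsAlgStack Scheme.fppfPrecoverage 𝒳)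
    (h𝒴 : AlgSt.IsAlgStack Scheme.fppfPrecoverage 𝒴) (f : 𝒳 ⥤ᵇ 𝒴)
    (hQ : AlgSt.RepByAlgSpWith (AlgSp.UnivSp (fun _ _ a => X (AlgSp.Points.map a))) f)
    {𝒵 : AlgSt.Cat S} (h𝒵 : AlgSt.IsAlgStack Scheme.fppfPrecoverage 𝒵) (g : 𝒵 ⥤ᵇ 𝒴) :
    X (AlgSt.Points.map (FibCat.fpFst g f)) := by
  obtain ⟨V, z₀, hz₁, hz₂⟩ := h𝒵.atlas
  obtain ⟨F, e, he, hU⟩ := hQ V (BasedFunctor.comp z₀ g)
  let Φ := BasedFunctor.comp e (FibCat.fpFst (BasedFunctor.comp z₀ g) f)
  have h1 : X (AlgSp.Points.map (AlgSt.spMapOfOver Φ)) :=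
    hU (AlgSp.IsAlgSpace.yon_obj V) (𝟙 _) (𝟙 _) (AlgSt.spMapOfOver Φ)
      (IsPullback.of_horiz_isIso ⟨(Category.id_comp _).trans (Category.comp_id _).symm⟩)
  have h2 : X (AlgSt.Points.map Φ) := (prop_points_iff hX F Φ).2 h1
  have hpre𝒴 := IsStack.isPrestack _ h𝒴.isStack
  have hVa := isAlgStack_overCat V
  have hfp1 : AlgSt.IsAlgStack Scheme.fppfPrecoverage (FibCat.fp (BasedFunctor.comp z₀ g) f) :=
    isAlgStack_fp_of_isPrestack hpre𝒴 h𝒴.diag hVa h𝒳 _ f
  have hfp : AlgSt.IsAlgStack Scheme.fppfPrecoverage (FibCat.fp g f) :=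
    isAlgStack_fp_of_isPrestack hpre𝒴 h𝒴.diag h𝒵 h𝒳 g f
  have hpre𝒵 := IsStack.isPrestack _ h𝒵.isStack
  have h𝒜 : AlgSt.IsAlgStack Scheme.fppfPrecoverage (FibCat.fp z₀ (FibCat.fpFst g f)) :=
    isAlgStack_fp_of_isPrestack hpre𝒵 h𝒵.diag hVa hfp z₀ (FibCat.fpFst g f)
  have he' := isHomeomorph_of_isEquivOver (isAlgStack_ofSp F) hfp1 e he
  have h3 : X (AlgSt.Points.map (FibCat.fpFst (BasedFunctor.comp z₀ g) f)) := by
    let H := he'.homeomorph
    have h31 : AlgSt.Points.map (FibCat.fpFst (BasedFunctor.comp z₀ g) f) =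
        AlgSt.Points.map Φ ∘ H.symm := by
      funext y
      obtain ⟨x, rfl⟩ := he'.bijective.2 y
      change _ = AlgSt.Points.map Φ (H.symm (H x))
      rw [Homeomorph.symm_apply_apply]
      exact (points_map_comp e _ x).symm
    rw [h31]
    exact hX.comp_right _ _ H.symm.isHomeomorph h2
  have hL := isHomeomorph_of_isEquivOver h𝒜 hfp1 (pasteL f g z₀) (isEquivOver_pasteL f g z₀)
  have h4 : X (AlgSt.Points.map (FibCat.fpFst z₀ (FibCat.fpFst g f))) := by
    have h41 : AlgSt.Points.map (FibCat.fpFst z₀ (FibCat.fpFst g f)) =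
        AlgSt.Points.map (FibCat.fpFst (BasedFunctor.comp z₀ g) f) ∘
          AlgSt.Points.map (pasteL f g z₀) := by
      funext y
      exact points_map_comp (pasteL f g z₀) (FibCat.fpFst (BasedFunctor.comp z₀ g) f) y
    rw [h41]
    exact hX.comp_right _ _ hL h3
  have hz₀s : AlgSt.IsSurjective z₀ :=
    (isSurjective_iff_repByAlgSpWith hVa h𝒵 z₀ (repByAlgSp1_of_repByAlgSpWith _ _ hz₂)).2 hz₂
  have hsq : CartSq (AlgSt.Points.map (FibCat.fpFst z₀ (FibCat.fpFst g f)))
      (AlgSt.Points.map (FibCat.fpSnd z₀ (FibCat.fpFst g f)))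
      (AlgSt.Points.map (FibCat.fpFst g f)) (AlgSt.Points.map z₀) :=
    { comm := fun a => by
        rw [← points_map_comp, ← points_map_comp]
        exact (points_map_congr _ _
          ((BasedNatTrans.forgetful _ _).mapIso (FibCat.fpIso z₀ (FibCat.fpFst g f))) a).symm
      cart := fun v w hvw => points_fp_surjective hfp.isStack.1 h𝒵.isStack.1 hVa.isStack.1
        (FibCat.fpFst g f) z₀ v w hvw
      q_cont := continuous_points_map h𝒵 z₀
      q_open := isOpenMap_points_map_of_flat_lfp hVa h𝒵 z₀ (flat_of_smooth hz₁)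
        (lfp_of_smooth hz₁)
      q_surj := hz₀s
      r_cont := continuous_points_map hfp _ }
  exact hX.descend hsq (continuous_points_map h𝒵 _) h4

end Main

section Main2

variable {S : Scheme.{u}} {𝒳 𝒴 : AlgSt.Cat S}
  {X : ∀ {A B : Type (u + 1)} [TopologicalSpace A] [TopologicalSpace B], (A → B) → Prop}

theorem rep_of_univ (hX : GoodProp.{u} X) (h𝒳 : AlgSt.IsAlgStack Scheme.fppfPrecoverage 𝒳)
    (h𝒴 : AlgSt.IsAlgStack Scheme.fppfPrecoverage 𝒴) (f : 𝒳 ⥤ᵇ 𝒴) (hf : AlgSt.RepByAlgSp1 f)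
    (hU : ∀ (𝒵 : AlgSt.Cat S), AlgSt.IsAlgStack Scheme.fppfPrecoverage 𝒵 → ∀ g : 𝒵 ⥤ᵇ 𝒴,
      X (AlgSt.Points.map (FibCat.fpFst g f))) :
    AlgSt.RepByAlgSpWith (AlgSp.UnivSp (fun _ _ a => X (AlgSp.Points.map a))) f := by
  intro T y
  obtain ⟨F, e, he⟩ := hf T y
  refine ⟨F, e, he, ?_⟩
  intro Z Z' hZ g' fst snd sq
  obtain ⟨W, p, hpe, hps⟩ := hZ.atlas
  obtain ⟨t, ht⟩ := (AlgSp.yon S).map_surjective (p ≫ g')
  let y' := BasedFunctor.comp (AlgSt.overMap t) y
  obtain ⟨F', e', he'⟩ := hf W y'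
  let Φ' := BasedFunctor.comp e' (FibCat.fpFst y' f)
  have hpre𝒴 := IsStack.isPrestack _ h𝒴.isStack
  have hWa := isAlgStack_overCat W
  have hfp' : AlgSt.IsAlgStack Scheme.fppfPrecoverage (FibCat.fp y' f) :=
    isAlgStack_fp_of_isPrestack hpre𝒴 h𝒴.diag hWa h𝒳 y' f
  have hE' := isHomeomorph_of_isEquivOver (isAlgStack_ofSp F') hfp' e' he'
  have h1 : X (AlgSt.Points.map Φ') := by
    have h11 : AlgSt.Points.map Φ' =
        AlgSt.Points.map (FibCat.fpFst y' f) ∘ AlgSt.Points.map e' := by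
      funext x
      exact points_map_comp e' _ x
    rw [h11]
    exact hX.comp_right _ _ hE' (hU _ hWa y')
  have h2 : X (AlgSp.Points.map (AlgSt.spMapOfOver Φ')) := (prop_points_iff hX F' Φ').1 h1
  obtain ⟨q, hq⟩ := exists_isPullback_baseChange f y F.obj e he t y' (Iso.refl _) F'.obj e' he'
  rw [ht] at hq
  let k : F'.obj ⟶ Z' := sq.lift q (AlgSt.spMapOfOver Φ' ≫ p)
    (by rw [Category.assoc]; exact hq.w)
  have hk1 : k ≫ fst = q := sq.lift_fst _ _ _
  have hk2 : k ≫ snd = AlgSt.spMapOfOver Φ' ≫ p := sq.lift_snd _ _ _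
  have hleft : IsPullback k (AlgSt.spMapOfOver Φ') snd p :=
    IsPullback.of_right (by rw [hk1]; exact hq) hk2 sq
  let WW : AlgSp.Space S := ⟨(AlgSp.yon S).obj W, AlgSp.IsAlgSpace.yon_obj W⟩
  let ZZ : AlgSp.Space S := ⟨Z, hZ⟩
  let pp : WW ⟶ ZZ := ObjectProperty.homMk p
  have hpet : AlgSp.IsEtaleMor pp.hom := fun V φ hφ => MorphismProperty.comp_mem _ _ _ hφ hpe
  have hsq : CartSq (AlgSp.Points.map (AlgSt.spMapOfOver Φ')) (AlgSp.Points.map k)
      (AlgSp.Points.map snd) (AlgSp.Points.map p) :=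
    { comm := fun a => by
        rw [← AlgSp.Points.map_comp, ← AlgSp.Points.map_comp, hk2]
      cart := fun v w hvw =>
        Groth.Agent.S10175.exists_point_of_isPullback hleft.flip v w hvw
      q_cont := AlgSp.Points.continuous_map p
      q_open := Groth.Agent.S10211.result pp hpet
      q_surj := isSurjectiveMor_atlas ZZ p hpe hps
      r_cont := AlgSp.Points.continuous_map k }
  exact hX.descend hsq (AlgSp.Points.continuous_map snd) h2

theorem rep_iff_univ (hX : GoodProp.{u} X) (h𝒳 : AlgSt.IsAlgStack Scheme.fppfPrecoverage 𝒳)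
    (h𝒴 : AlgSt.IsAlgStack Scheme.fppfPrecoverage 𝒴) (f : 𝒳 ⥤ᵇ 𝒴) (hf : AlgSt.RepByAlgSp1 f) :
    AlgSt.RepByAlgSpWith (AlgSp.UnivSp (fun _ _ a => X (AlgSp.Points.map a))) f ↔
      ∀ (𝒵 : AlgSt.Cat S), AlgSt.IsAlgStack Scheme.fppfPrecoverage 𝒵 → ∀ g : 𝒵 ⥤ᵇ 𝒴,
        X (AlgSt.Points.map (FibCat.fpFst g f)) :=
  ⟨fun hQ 𝒵 h𝒵 g => univ_of_rep hX h𝒳 h𝒴 f hQ h𝒵 g, rep_of_univ hX h𝒳 h𝒴 f hf⟩

end Main2

end Groth.Agent.Lib.Helper15UnivPts
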