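-- helper15: quasi-compact functors between algebraic stacks versus quasi-compact representing maps.
import Mathlib
import Groth.Agent.Lib.Helper15UnivPts
import Groth.Agent.S10174
import Groth.Agent.S10180
import Groth.Agent.S9874

set_option autoImplicit false
set_option backward.isDefEq.respectTransparency false
set_option backward.isDefEq.respectTransparency.types false
open CategoryTheory CategoryTheory.Functor CategoryTheory.Limits Opposite AlgebraicGeometry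

universe u

namespace Groth.Agent.Lib.Helper15QcRep

open Groth.Agent.Lib.Helper17 Groth.Agent.Lib.Helper15PshFib Groth.Agent.Lib.Helper15RepComp
  Groth.Agent.Lib.Helper15RepPsh Groth.Agent.Lib.Helper15DiagBase Groth.Agent.Lib.Helper15DiagRepSp
  Groth.Agent.Lib.Helper15Descent Groth.Agent.Lib.Helper15DiagLft
  Groth.Agent.Lib.Helper15DiagDescent Groth.Agent.Lib.Helper15SpMapRep
  Groth.Agent.Lib.Helper15SrcCancel Groth.Agent.Lib.Helper15ChartSp Groth.Agent.Lib.Helper15Atlas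
  Groth.Agent.Lib.Helper15LocEss Groth.Agent.Lib.Helper15UnivComp Groth.Agent.Lib.Helper15SmLoc
  Groth.Agent.Lib.Helper15PtsComp Groth.Agent.Lib.Helper15PtsTop Groth.Agent.Lib.Helper15PtsQc
  Groth.Agent.Lib.Helper15FpSwap Groth.Agent.Lib.Helper15QcLocal Groth.Agent.Lib.Helper15ClosedQc
  Groth.Agent.Lib.Helper15UnivPts Groth.Agent.Lib.Helper15BaseChange

variable {S : Scheme.{u}} {𝒳 𝒴 : AlgSt.Cat S}

theorem isQuasiCompactSp_yon (U : Over S) (hU : IsAffine U.left) :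
    AlgSp.IsQuasiCompactSp ((AlgSp.yon S).obj U) := by
  let UU : AlgSp.Space S := ⟨(AlgSp.yon S).obj U, AlgSp.IsAlgSpace.yon_obj U⟩
  exact (Groth.Agent.S10180.result UU).2 ⟨U, 𝟙 _, hU, AlgSp.repWith_id _ U, AlgSp.repWith_id _ U⟩

theorem isQuasiCompactMor_of_rep (h𝒳 : AlgSt.IsAlgStack Scheme.fppfPrecoverage 𝒳)
    (h𝒴 : AlgSt.IsAlgStack Scheme.fppfPrecoverage 𝒴) (f : 𝒳 ⥤ᵇ 𝒴)
    (hQ : AlgSt.RepByAlgSpWith AlgSp.IsQuasiCompactMor f) :
    AlgSt.IsQuasiCompactMor Scheme.fppfPrecoverage f := by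
  intro 𝒵 h𝒵 hqc g
  obtain ⟨U, u, hU, hu₁, hu₂⟩ := hqc
  have hus : AlgSt.IsSurjective u :=
    (isSurjective_iff_repByAlgSpWith (isAlgStack_overCat U) h𝒵 u
      (repByAlgSp1_of_repByAlgSpWith _ _ hu₂)).2 hu₂
  obtain ⟨F, e, he, hq⟩ := hQ U (BasedFunctor.comp u g)
  have hFqc : AlgSp.IsQuasiCompactSp F.obj :=
    hq (AlgSp.IsAlgSpace.yon_obj U) (isQuasiCompactSp_yon U hU) (𝟙 _) (𝟙 _) _
      (IsPullback.of_id_fst)
  obtain ⟨A, p, hA, hp₁, hp₂⟩ := (Groth.Agent.S10180.result F).1 hFqc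
  have hps : AlgSp.IsSurjectiveMor p := isSurjectiveMor_atlas F p hp₁ hp₂
  let c : FibCat.overCat A ⥤ᵇ FibCat.fp (BasedFunctor.comp u g) f :=
    BasedFunctor.comp (BasedFunctor.comp (AlgSt.ofOverCat A) (AlgSt.ofSpMap p)) e
  have hc : AlgSt.IsSurjective c :=
    isSurjective_comp _ _ (isSurjective_comp _ _
      (isSurjective_of_isEquivOver _ (isEquivOver_ofOverCat A)) (isSurjective_ofSpMap p hps))
      (isSurjective_of_isEquivOver e he)
  exact isQuasiCompact_fp_of_affine_cover h𝒳 h𝒴 f h𝒵 g u hus hA c hc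

theorem rep_of_isQuasiCompactMor (h𝒳 : AlgSt.IsAlgStack Scheme.fppfPrecoverage 𝒳)
    (h𝒴 : AlgSt.IsAlgStack Scheme.fppfPrecoverage 𝒴) (f : 𝒳 ⥤ᵇ 𝒴) (hf : AlgSt.RepByAlgSp1 f)
    (hU : AlgSt.IsQuasiCompactMor Scheme.fppfPrecoverage f) :
    AlgSt.RepByAlgSpWith AlgSp.IsQuasiCompactMor f := by
  intro T y
  obtain ⟨F, e, he⟩ := hf T y
  refine ⟨F, e, he, ?_⟩
  intro Z Z' hZ hZqc g' fst snd sq
  let ZZ : AlgSp.Space S := ⟨Z, hZ⟩
  obtain ⟨W, p, hW, hpe, hps⟩ := (Groth.Agent.S10180.result ZZ).1 hZqc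
  obtain ⟨t, ht⟩ := (AlgSp.yon S).map_surjective (p ≫ g')
  let y' := BasedFunctor.comp (AlgSt.overMap t) y
  obtain ⟨F', e', he'⟩ := hf W y'
  let Φ' := BasedFunctor.comp e' (FibCat.fpFst y' f)
  have hpre𝒴 := IsStack.isPrestack _ h𝒴.isStack
  have hWa := isAlgStack_overCat W
  have hfp' : AlgSt.IsAlgStack Scheme.fppfPrecoverage (FibCat.fp y' f) :=
    isAlgStack_fp_of_isPrestack hpre𝒴 h𝒴.diag hWa h𝒳 y' f
  have hE' := isHomeomorph_of_isEquivOver (isAlgStack_ofSp F') hfp' e' he'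
  have hc1 : CompactSpace (AlgSt.Points (FibCat.fp y' f)) :=
    (isQuasiCompact_iff_compactSpace hfp').1 (hU _ hWa (isQuasiCompact_overCat W hW) y')
  have hc2 : CompactSpace (AlgSt.Points (AlgSt.ofSp F'.obj)) :=
    (hE'.homeomorph).symm.compactSpace
  have hc3 : CompactSpace (AlgSp.Points F'.obj) :=
    ((isHomeomorph_toSt F').homeomorph).symm.compactSpace
  obtain ⟨q, hq⟩ := exists_isPullback_baseChange f y F.obj e he t y' (Iso.refl _) F'.obj e' he'
  rw [ht] at hq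
  let k : F'.obj ⟶ Z' := sq.lift q (AlgSt.spMapOfOver Φ' ≫ p)
    (by rw [Category.assoc]; exact hq.w)
  have hk1 : k ≫ fst = q := sq.lift_fst _ _ _
  have hk2 : k ≫ snd = AlgSt.spMapOfOver Φ' ≫ p := sq.lift_snd _ _ _
  have hleft : IsPullback k (AlgSt.spMapOfOver Φ') snd p :=
    IsPullback.of_right (by rw [hk1]; exact hq) hk2 sq
  have hpsurj : AlgSp.IsSurjectiveMor p := isSurjectiveMor_atlas ZZ p hpe hps
  have hksurj : Function.Surjective (AlgSp.Points.map k) := by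
    intro z'
    obtain ⟨w, hw⟩ := hpsurj (AlgSp.Points.map snd z')
    obtain ⟨x, hx1, -⟩ := Groth.Agent.S10175.exists_point_of_isPullback hleft z' w hw.symm
    exact ⟨x, hx1⟩
  have hc4 : CompactSpace (AlgSp.Points Z') :=
    hksurj.compactSpace (AlgSp.Points.continuous_map k)
  let TT : AlgSp.Space S := ⟨(AlgSp.yon S).obj T, AlgSp.IsAlgSpace.yon_obj T⟩
  have hZ' : AlgSp.IsAlgSpace Z' :=
    Groth.Agent.S9874.result S TT.obj TT.property.diag F ZZ _ g' Z' fst snd sq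
  let ZZ' : AlgSp.Space S := ⟨Z', hZ'⟩
  exact (Groth.Agent.S10174.result ZZ').2 hc4

end Groth.Agent.Lib.Helper15QcRep
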