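-- helper15: base change of representing sheaves along morphisms of schemes, with the second projections.
import Mathlib
import Groth.Agent.Lib.Helper15BaseChange

set_option autoImplicit false
set_option backward.isDefEq.respectTransparency false
set_option backward.isDefEq.respectTransparency.types false
open CategoryTheory CategoryTheory.Functor CategoryTheory.Limits Opposite AlgebraicGeometry

universe u

namespace Groth.Agent.Lib.Helper15BaseChange2

open Groth.Agent.Lib.Helper17 Groth.Agent.Lib.Helper15PshFib Groth.Agent.Lib.Helper15RepComp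
  Groth.Agent.Lib.Helper15RepPsh Groth.Agent.Lib.Helper15DiagRepSp
  Groth.Agent.Lib.Helper15BaseChange

section Sq

variable {S : Scheme.{u}} {𝒳 𝒴 : AlgSt.Cat S}

/-- Base change of a representing sheaf along a morphism of schemes: the square of sheaves is a
pullback square, and the map of sheaves is compatible with the second projections. -/
theorem exists_isPullback_baseChange' (f : 𝒳 ⥤ᵇ 𝒴) {U V : Over S} (y : FibCat.overCat U ⥤ᵇ 𝒴)
    (F : AlgSp.Sp S) (e : AlgSt.ofSp F ⥤ᵇ FibCat.fp y f) (he : FibCat.IsEquivOver e)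
    (v : V ⟶ U) (y' : FibCat.overCat V ⥤ᵇ 𝒴) (κ : y' ≅ BasedFunctor.comp (AlgSt.overMap v) y)
    (F' : AlgSp.Sp S) (e' : AlgSt.ofSp F' ⥤ᵇ FibCat.fp y' f) (he' : FibCat.IsEquivOver e') :
    ∃ q : F' ⟶ F, IsPullback q (AlgSt.spMapOfOver (BasedFunctor.comp e' (FibCat.fpFst y' f)))
      (AlgSt.spMapOfOver (BasedFunctor.comp e (FibCat.fpFst y f))) ((AlgSp.yon S).map v) ∧
      Nonempty (BasedFunctor.comp (AlgSt.ofSpMap q) (BasedFunctor.comp e (FibCat.fpSnd y f)) ≅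
        BasedFunctor.comp e' (FibCat.fpSnd y' f)) := by
  let Φ : AlgSt.ofSp F ⥤ᵇ FibCat.overCat U := BasedFunctor.comp e (FibCat.fpFst y f)
  let a : F.obj ⟶ ((AlgSp.yon S).obj U).obj := (AlgSt.spMapOfOver Φ).hom
  have iU := IsEquivOver.isEquivalence (AlgSt.ofOverCat U) (isEquivOver_ofOverCat U)
  let Θ₁ : FibCat.fp (AlgSt.overMap v) Φ ⥤ᵇ PB a (⟨v⟩ : ((AlgSp.pyon S).obj U).obj (op V)) :=
    fpMap (pshOfSection (P := ((AlgSp.yon S).obj U).obj) ⟨v⟩) (Stk.ofPshMap a) (AlgSt.overMap v) Φ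
      (BasedFunctor.id _) (BasedFunctor.id _) (AlgSt.ofOverCat U) (overMapIso v) (spMapIso Φ)
  have hΘ₁ : FibCat.IsEquivOver Θ₁ :=
    isEquivOver_fpMap (pshOfSection (P := ((AlgSp.yon S).obj U).obj) ⟨v⟩) (Stk.ofPshMap a)
      (AlgSt.overMap v) Φ (BasedFunctor.id _) (BasedFunctor.id _) (AlgSt.ofOverCat U)
      (overMapIso v) (spMapIso Φ) (isEquivOver_id _) (isEquivOver_id _)
  have iO := IsEquivOver.isEquivalence (BasedFunctor.id (FibCat.overCat U)) (isEquivOver_id _)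
  let Θ₂ : FibCat.fp (AlgSt.overMap v) Φ ⥤ᵇ FibCat.fp (AlgSt.overMap v) (FibCat.fpFst y f) :=
    fpMap (AlgSt.overMap v) (FibCat.fpFst y f) (AlgSt.overMap v) Φ (BasedFunctor.id _) e
      (BasedFunctor.id _) (Iso.refl _) (Iso.refl _)
  have hΘ₂ : FibCat.IsEquivOver Θ₂ :=
    isEquivOver_fpMap (AlgSt.overMap v) (FibCat.fpFst y f) (AlgSt.overMap v) Φ (BasedFunctor.id _) e
      (BasedFunctor.id _) (Iso.refl _) (Iso.refl _) (isEquivOver_id _) he
  let Θ₃ := pasteL f y (AlgSt.overMap v)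
  have hΘ₃ : FibCat.IsEquivOver Θ₃ := isEquivOver_pasteL f y (AlgSt.overMap v)
  have iY := IsEquivOver.isEquivalence (BasedFunctor.id 𝒴) (isEquivOver_id _)
  let Θ₄ : FibCat.fp y' f ⥤ᵇ FibCat.fp (BasedFunctor.comp (AlgSt.overMap v) y) f :=
    fpMap (BasedFunctor.comp (AlgSt.overMap v) y) f y' f (BasedFunctor.id _) (BasedFunctor.id _)
      (BasedFunctor.id _) κ (Iso.refl _)
  have hΘ₄ : FibCat.IsEquivOver Θ₄ :=
    isEquivOver_fpMap (BasedFunctor.comp (AlgSt.overMap v) y) f y' f (BasedFunctor.id _)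
      (BasedFunctor.id _) (BasedFunctor.id _) κ (Iso.refl _) (isEquivOver_id _) (isEquivOver_id _)
  let Θ := BasedFunctor.comp Θ₂ Θ₃
  have hΘ : FibCat.IsEquivOver Θ := IsEquivOver.comp Θ₂ Θ₃ hΘ₂ hΘ₃
  obtain ⟨I, hI, -, ⟨β⟩⟩ := IsEquivOver.exists_inverse_isEquivOver' Θ hΘ
  let E'' : AlgSt.ofSp F' ⥤ᵇ PB a (⟨v⟩ : ((AlgSp.pyon S).obj U).obj (op V)) :=
    BasedFunctor.comp (BasedFunctor.comp (BasedFunctor.comp e' Θ₄) I) Θ₁
  have hE'' : FibCat.IsEquivOver E'' :=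
    IsEquivOver.comp _ _ (IsEquivOver.comp _ _ (IsEquivOver.comp _ _ he' hΘ₄) hI) hΘ₁
  have sq := isPullback_of_isEquivOver a (⟨v⟩ : ((AlgSp.pyon S).obj U).obj (op V)) E'' hE''
  let ε : BasedFunctor.comp E'' (FibCat.fpFst _ _) ≅ BasedFunctor.comp e' (FibCat.fpFst y' f) :=
    whiskerLeftIso (BasedFunctor.comp e' Θ₄)
      (whiskerRightIso β (FibCat.fpFst (BasedFunctor.comp (AlgSt.overMap v) y) f))
  have h1 := spMapOfOver_eq_of_iso (BasedFunctor.comp E'' (FibCat.fpFst _ _))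
    (BasedFunctor.comp e' (FibCat.fpFst y' f)) ε
  have h2 : ovMapOf (BasedFunctor.comp E'' (FibCat.fpFst _ _)) =
      (AlgSt.spMapOfOver (BasedFunctor.comp e' (FibCat.fpFst y' f))).hom := by
    rw [← h1]
    rfl
  rw [h2] at sq
  have sq' : IsPullback (pshMapOf (BasedFunctor.comp E'' (FibCat.fpSnd _ _)))
      (AlgSt.spMapOfOver (BasedFunctor.comp e' (FibCat.fpFst y' f))).hom a
      ((AlgSp.pyon S).map v) := by
    rw [← uliftYonedaEquiv_symm_up v]
    exact sq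
  refine ⟨ObjectProperty.homMk (pshMapOf (BasedFunctor.comp E'' (FibCat.fpSnd _ _))), ?_, ⟨?_⟩⟩
  · exact IsPullback.of_map_of_faithful (sheafToPresheaf (AlgSp.J S) (Type (u + 1))) sq'
  · let ε₂ : BasedFunctor.comp (BasedFunctor.comp E'' (FibCat.fpSnd _ _))
        (BasedFunctor.comp e (FibCat.fpSnd y f)) ≅ BasedFunctor.comp e' (FibCat.fpSnd y' f) :=
      whiskerLeftIso (BasedFunctor.comp e' Θ₄)
        (whiskerRightIso β (FibCat.fpSnd (BasedFunctor.comp (AlgSt.overMap v) y) f))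
    exact whiskerRightIso (ofPshMapIso (BasedFunctor.comp E'' (FibCat.fpSnd _ _)))
      (BasedFunctor.comp e (FibCat.fpSnd y f)) ≪≫ ε₂

end Sq

end Groth.Agent.Lib.Helper15BaseChange2
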