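import Mathlib
set_option autoImplicit false
universe u

namespace Groth.Agent.Lib.Helper2.NoethDesc
open AlgebraicGeometry CategoryTheory TopologicalSpace

/-- Noetherianity descends along faithfully flat ring maps (copy of helper28's lemma). -/
theorem isNoetherianRing_of_faithfullyFlat {R S : Type*} [CommRing R] [CommRing S] [Algebra R S]
    [Module.FaithfullyFlat R S] [IsNoetherianRing S] : IsNoetherianRing R := by
  have hmono : StrictMono (fun I : Ideal R => I.map (algebraMap R S)) :=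
    Monotone.strictMono_of_injective (fun _ _ h => Ideal.map_mono h)
      Ideal.map_injective_of_faithfullyFlat
  have hwf : WellFoundedGT (Ideal S) := (isNoetherian_iff' (R := S) (M := S)).mp inferInstance
  have : WellFoundedGT (Ideal R) := hmono.wellFoundedGT
  exact (isNoetherian_iff' (R := R) (M := R)).mpr this

theorem noeth_of_family {A : Type u} [CommRing A] {ι : Type*} [Finite ι] (B : ι → Type u)
    [∀ i, CommRing (B i)] (φ : ∀ i, A →+* B i) (hflat : ∀ i, (φ i).Flat)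
    (hnoeth : ∀ i, IsNoetherianRing (B i))
    (hsurj : ∀ p : PrimeSpectrum A, ∃ i, ∃ q : PrimeSpectrum (B i), q.asIdeal.comap (φ i) = p.asIdeal) :
    IsNoetherianRing A := by
  classical
  letI : ∀ i, Algebra A (B i) := fun i => (φ i).toAlgebra
  haveI : ∀ i, Module.Flat A (B i) := fun i => hflat i
  haveI : Fintype ι := Fintype.ofFinite ι
  haveI : Module.Flat A (Π i, B i) :=
    Module.Flat.of_linearEquiv (DirectSum.linearEquivFunOnFintype A ι B).symm
  haveI : Module.FaithfullyFlat A (Π i, B i) := by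
    rw [Module.faithfullyFlat_iff]
    refine ⟨inferInstance, fun m hm htop => ?_⟩
    obtain ⟨i, q, hq⟩ := hsurj ⟨m, hm.isPrime⟩
    have h1 : (1 : Π i, B i) ∈ (m • ⊤ : Submodule A (Π i, B i)) := by rw [htop]; trivial
    have h2 : ∀ z ∈ (m • ⊤ : Submodule A (Π i, B i)), z i ∈ q.asIdeal := by
      intro z hz
      refine Submodule.smul_induction_on hz ?_ ?_
      · intro a ha b _
        show (a • b) i ∈ q.asIdeal
        rw [Pi.smul_apply, Algebra.smul_def]
        refine Ideal.mul_mem_right _ _ ?_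
        have : a ∈ q.asIdeal.comap (φ i) := by rw [hq]; exact ha
        exact this
      · intro x y hx hy
        rw [Pi.add_apply]; exact Ideal.add_mem _ hx hy
    exact q.2.ne_top ((Ideal.eq_top_iff_one _).mpr (h2 1 h1))
  exact isNoetherianRing_of_faithfullyFlat (R := A) (S := Π i, B i)

/-- scheme level: finitely many affine opens over an affine open `V`, jointly covering `V`. -/
theorem noeth_sections {X Y : Scheme.{u}} (f : X ⟶ Y) [Flat f] [IsLocallyNoetherian X]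
    (V : Y.Opens) (hV : IsAffineOpen V) {ι : Type*} [Finite ι] (U : ι → X.Opens)
    (hU : ∀ i, IsAffineOpen (U i)) (hUV : ∀ i, U i ≤ f ⁻¹ᵁ V)
    (hcov : ∀ y ∈ V, ∃ i, ∃ x ∈ U i, f x = y) : IsNoetherianRing Γ(Y, V) := by
  refine noeth_of_family (fun i => Γ(X, U i)) (fun i => (f.appLE V (U i) (hUV i)).hom)
    (fun i => f.flat_appLE hV (hU i) (hUV i))
    (fun i => IsLocallyNoetherian.component_noetherian ⟨U i, hU i⟩) ?_
  intro p
  obtain ⟨y, hy⟩ : ∃ y : V, hV.primeIdealOf y = p := by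
    refine ⟨hV.isoSpec.inv p, ?_⟩
    show hV.isoSpec.hom (hV.isoSpec.inv p) = p
    rw [← Scheme.Hom.comp_apply, Iso.inv_hom_id]; rfl
  obtain ⟨i, x, hxU, hfx⟩ := hcov y.1 y.2
  refine ⟨i, (hU i).primeIdealOf ⟨x, hxU⟩, ?_⟩
  have := IsAffineOpen.comap_primeIdealOf_appLE V hV (U i) (hU i) (hUV i) hxU
  rw [PrimeSpectrum.ext_iff] at this
  rw [← hy]
  have h3 : (⟨f x, hUV i hxU⟩ : V) = y := Subtype.ext hfx
  rw [← h3]
  exact this


theorem r2492 {X Y : Scheme.{u}} (f : X ⟶ Y)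
    [Flat f] [Surjective f] [QuasiCompact f] [IsLocallyNoetherian X] : IsLocallyNoetherian Y := by
  refine ⟨fun ⟨V, hV⟩ => ?_⟩
  have hc : IsCompact ((f ⁻¹ᵁ V : X.Opens) : Set X) :=
    QuasiCompact.isCompact_preimage (f := f) _ V.2 hV.isCompact
  obtain ⟨s, hsfin, hs⟩ := isCompact_and_isOpen_iff_finite_and_eq_biUnion_affineOpens.mp
    ⟨hc, (f ⁻¹ᵁ V).2⟩
  haveI : Finite ↥s := hsfin.to_subtype
  refine noeth_sections f V hV (fun i : s => i.1.1) (fun i => i.1.2) ?_ ?_
  · intro i x hx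
    have : x ∈ ((f ⁻¹ᵁ V : X.Opens) : Set X) := by
      rw [hs]; exact Set.mem_biUnion i.2 hx
    exact this
  · intro y hy
    obtain ⟨x, rfl⟩ := f.surjective y
    have : x ∈ ((f ⁻¹ᵁ V : X.Opens) : Set X) := hy
    rw [hs] at this
    obtain ⟨i, his, hxi⟩ := Set.mem_iUnion₂.mp this
    exact ⟨⟨i, his⟩, x, hxi, rfl⟩

theorem r0116 {X Y : Scheme.{u}} (f : X ⟶ Y) [Surjective f] [Flat f] [LocallyOfFinitePresentation f]
    [IsLocallyNoetherian X] : IsLocallyNoetherian Y := by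
  refine ⟨fun ⟨V, hV⟩ => ?_⟩
  let T := {W : X.affineOpens // W.1 ≤ f ⁻¹ᵁ V}
  have hopen : ∀ W : T, IsOpen (f '' (W.1.1 : Set X)) := fun W => f.isOpenMap _ W.1.1.2
  have hcov : (V : Set Y) ⊆ ⋃ W : T, f '' (W.1.1 : Set X) := by
    intro y hy
    obtain ⟨x, rfl⟩ := f.surjective y
    have hx : x ∈ f ⁻¹ᵁ V := hy
    obtain ⟨W, hW, hxW, hWV⟩ := Opens.isBasis_iff_nbhd.mp X.isBasis_affineOpens hx
    exact Set.mem_iUnion.mpr ⟨⟨⟨W, hW⟩, hWV⟩, x, hxW, rfl⟩
  obtain ⟨t, ht⟩ := hV.isCompact.elim_finite_subcover _ hopen hcov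
  refine noeth_sections f V hV (fun i : t => i.1.1.1) (fun i => i.1.1.2) (fun i => i.1.2) ?_
  intro y hy
  obtain ⟨W, hWt, x, hxW, hfx⟩ := Set.mem_iUnion₂.mp (ht hy)
  exact ⟨⟨W, hWt⟩, x, hxW, hfx⟩


end Groth.Agent.Lib.Helper2.NoethDesc
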