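-- helper15: chart squares of functors between algebraic stacks, first results on properties read on one square.
import Mathlib
import Groth.Agent.Lib.Helper15QcRep
import Groth.Agent.Lib.Helper15MonoSep
import Groth.Agent.S0116

set_option autoImplicit false
set_option backward.isDefEq.respectTransparency false
set_option backward.isDefEq.respectTransparency.types false
open CategoryTheory CategoryTheory.Functor CategoryTheory.Limits Opposite AlgebraicGeometry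

universe u

namespace Groth.Agent.Lib.Helper15LocQ

open Groth.Agent.Lib.Helper17 Groth.Agent.Lib.Helper15PshFib Groth.Agent.Lib.Helper15RepComp
  Groth.Agent.Lib.Helper15RepPsh Groth.Agent.Lib.Helper15DiagBase Groth.Agent.Lib.Helper15DiagRepSp
  Groth.Agent.Lib.Helper15Descent Groth.Agent.Lib.Helper15DiagLft
  Groth.Agent.Lib.Helper15DiagDescent Groth.Agent.Lib.Helper15SpMapRep
  Groth.Agent.Lib.Helper15SrcCancel Groth.Agent.Lib.Helper15ChartSp Groth.Agent.Lib.Helper15Atlas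
  Groth.Agent.Lib.Helper15LocEss Groth.Agent.Lib.Helper15UnivComp Groth.Agent.Lib.Helper15SmLoc
  Groth.Agent.Lib.Helper15PtsComp Groth.Agent.Lib.Helper15PtsTop Groth.Agent.Lib.Helper15PtsQc
  Groth.Agent.Lib.Helper15FpSwap Groth.Agent.Lib.Helper15QcLocal Groth.Agent.Lib.Helper15ClosedQc
  Groth.Agent.Lib.Helper15UnivPts Groth.Agent.Lib.Helper15BaseChange
  Groth.Agent.Lib.Helper15MonoSep

section Iso

variable {S : Scheme.{u}}

/-- The composite of a chart of a sheaf with a functor to a slice is the functor of a morphism of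
schemes. -/
noncomputable def isoOverMapOfChart {F : AlgSp.Sp S} {V U : Over S}
    (Ψ : AlgSt.ofSp F ⥤ᵇ FibCat.overCat V) (s : (AlgSp.yon S).obj U ⟶ F) (h : U ⟶ V)
    (hh : (AlgSp.yon S).map h = s ≫ AlgSt.spMapOfOver Ψ) :
    BasedFunctor.comp (BasedFunctor.comp (AlgSt.ofOverCat U) (AlgSt.ofSpMap s)) Ψ ≅
      AlgSt.overMap h := by
  have hA : ∀ c : Over U, pshSec (BasedFunctor.comp (AlgSt.ofOverCat U) (AlgSt.ofSpMap s)) c =
      s.hom.app _ (⟨c.hom⟩ : ((AlgSp.yon S).obj U).obj.obj (op c.left)) := by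
    intro c
    change pshSec (BasedFunctor.comp (AlgSt.ofOverCat U) (Stk.ofPshMap s.hom)) c = _
    rw [pshSec_comp_ofPshMap, pshSec_ofOverCat]
    rfl
  exact isoOfOverCat (fun c => by
    rw [ovSec_pshSec, ovSec_overMap, ovSec_eq_spMapOfOver, hA]
    change ((s ≫ AlgSt.spMapOfOver Ψ).hom.app (op c.left) ⟨c.hom⟩).down = c.hom ≫ h
    rw [← hh]
    rfl)

end Iso

section Easy

variable {S : Scheme.{u}} {𝒳 𝒴 : AlgSt.Cat S}

/-- The chart square of a functor representable by algebraic spaces over a smooth surjective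
chart of the target. -/
theorem exists_chart_of_rep (h𝒳 : FibCat.IsFibGrpd 𝒳.p) (h𝒴 : FibCat.IsFibGrpd 𝒴.p)
    (f : 𝒳 ⥤ᵇ 𝒴) {V : Over S} (y₀ : FibCat.overCat V ⥤ᵇ 𝒴)
    (hy₁ : AlgSt.RepByAlgSpWith (AlgSp.LocP @Smooth) y₀)
    (hy₂ : AlgSt.RepByAlgSpWith AlgSp.IsSurjectiveMor y₀)
    (F : AlgSp.Space S) (e : AlgSt.ofSp F.obj ⥤ᵇ FibCat.fp y₀ f) (he : FibCat.IsEquivOver e)
    {U : Over S} (s : (AlgSp.yon S).obj U ⟶ F.obj) (hse : AlgSp.RepWith @Etale s)
    (hss : AlgSp.RepWith @Surjective s) (h : U ⟶ V)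
    (hh : (AlgSp.yon S).map h = s ≫ AlgSt.spMapOfOver (BasedFunctor.comp e (FibCat.fpFst y₀ f))) :
    ∃ (x : FibCat.overCat U ⥤ᵇ 𝒳)
      (_ : BasedFunctor.comp x f ≅ BasedFunctor.comp (AlgSt.overMap h) y₀),
      AlgSt.RepByAlgSpWith (AlgSp.LocP @Smooth) x ∧ AlgSt.RepByAlgSpWith AlgSp.IsSurjectiveMor x := by
  have hV : FibCat.IsFibGrpd (FibCat.overCat V).p := (isFibSet_overForget V).1
  have hF : FibCat.IsFibGrpd (AlgSt.ofSp F.obj).p := (isFibSetoid_ofPsh F.obj.obj).1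
  have hfp : FibCat.IsFibGrpd (FibCat.fp y₀ f).p := isFibGrpd_fp y₀ f hV h𝒳 h𝒴
  let A : FibCat.overCat U ⥤ᵇ AlgSt.ofSp F.obj :=
    BasedFunctor.comp (AlgSt.ofOverCat U) (AlgSt.ofSpMap s)
  let x' : AlgSt.ofSp F.obj ⥤ᵇ 𝒳 := BasedFunctor.comp e (FibCat.fpSnd y₀ f)
  have hx'₁ : AlgSt.RepByAlgSpWith (AlgSp.LocP @Smooth) x' :=
    (chart_precomp_equiv hF hfp e he (FibCat.fpSnd y₀ f)).1 (repByAlgSpWith_fpSnd _ y₀ f hy₁)
  have hx'₂ : AlgSt.RepByAlgSpWith AlgSp.IsSurjectiveMor x' :=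
    (chart_precomp_equiv hF hfp e he (FibCat.fpSnd y₀ f)).2 (repByAlgSpWith_fpSnd _ y₀ f hy₂)
  refine ⟨BasedFunctor.comp A x', ?_, (chart_precomp_atlas F s hse hss x').1 hx'₁,
    (chart_precomp_atlas F s hse hss x').2 hx'₂⟩
  let lam := isoOverMapOfChart (BasedFunctor.comp e (FibCat.fpFst y₀ f)) s h hh
  exact (whiskerLeftIso (BasedFunctor.comp A e) (FibCat.fpIso y₀ f)).symm ≪≫
    (whiskerRightIso lam y₀ :
      BasedFunctor.comp (BasedFunctor.comp A (BasedFunctor.comp e (FibCat.fpFst y₀ f))) y₀ ≅ _)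

/-- A functor of algebraic stacks representable by algebraic spaces with `Q` has `P` on a smooth
chart square, as soon as `Q` on a space over a scheme gives `P` on every chart of the space. -/
theorem locQ_of_rep (h𝒳 : AlgSt.IsAlgStack Scheme.fppfPrecoverage 𝒳)
    (h𝒴 : AlgSt.IsAlgStack Scheme.fppfPrecoverage 𝒴) (f : 𝒳 ⥤ᵇ 𝒴)
    (Q P : MorphismProperty (AlgSp.Sp S)) (hf : AlgSt.RepByAlgSpWith Q f)
    (hQP : ∀ (F : AlgSp.Space S) (V : Over S) (p : F.obj ⟶ (AlgSp.yon S).obj V), Q p →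
      ∃ (U : Over S) (s : (AlgSp.yon S).obj U ⟶ F.obj) (h : U ⟶ V), AlgSp.RepWith @Etale s ∧
        AlgSp.RepWith @Surjective s ∧ (AlgSp.yon S).map h = s ≫ p ∧ P ((AlgSp.yon S).map h)) :
    AlgSt.LocQ P f := by
  obtain ⟨V, y₀, hy₁, hy₂⟩ := h𝒴.atlas
  obtain ⟨F, e, he, hq⟩ := hf V y₀
  obtain ⟨U, s, h, hse, hss, hh, hP⟩ := hQP F V _ hq
  obtain ⟨x, α, hx₁, hx₂⟩ := exists_chart_of_rep h𝒳.isStack.1 h𝒴.isStack.1 f y₀ hy₁ hy₂ F e he s
    hse hss h hh
  exact ⟨U, V, x, y₀, h, α, hx₁, hx₂, hy₁, hP⟩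

theorem locP_yon_map_of_lft {U V : Over S} (h : U ⟶ V) (hh : LocallyOfFiniteType h.left) :
    AlgSp.LocP @LocallyOfFiniteType ((AlgSp.yon S).map h) := by
  let X : AlgSp.Space S := ⟨(AlgSp.yon S).obj U, AlgSp.IsAlgSpace.yon_obj U⟩
  let Y : AlgSp.Space S := ⟨(AlgSp.yon S).obj V, AlgSp.IsAlgSpace.yon_obj V⟩
  let f : X ⟶ Y := ObjectProperty.homMk ((AlgSp.yon S).map h)
  exact Groth.Agent.S9947.result @LocallyOfFiniteType (Or.inl rfl) f (𝟙 _) (𝟙 _) h
    (AlgSp.repWith_id _ U) (AlgSp.repWith_id _ U) (AlgSp.repWith_id _ V)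
    (by rw [Category.id_comp, Category.comp_id]; rfl) hh

/-- A functor representable by schemes with a property `R` of morphisms of schemes has, on a
smooth chart square, any property which `R` implies. -/
theorem locQ_of_repWith (h𝒳 : AlgSt.IsAlgStack Scheme.fppfPrecoverage 𝒳)
    (h𝒴 : AlgSt.IsAlgStack Scheme.fppfPrecoverage 𝒴) (f : 𝒳 ⥤ᵇ 𝒴)
    (R : MorphismProperty Scheme.{u}) (P : MorphismProperty (AlgSp.Sp S))
    (hf : AlgSt.RepByAlgSpWith (AlgSp.RepWith R) f)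
    (hRP : ∀ {U V : Over S} (h : U ⟶ V), R h.left → P ((AlgSp.yon S).map h)) :
    AlgSt.LocQ P f := by
  refine locQ_of_rep h𝒳 h𝒴 f (AlgSp.RepWith R) P hf ?_
  intro F V p hp
  obtain ⟨X₀, snd, fst, sq⟩ := hp.1 (𝟙 ((AlgSp.yon S).obj V))
  have hsnd : R snd.left := hp.2 _ _ _ sq
  have hfst : IsIso fst := sq.isIso_fst_of_isIso
  refine ⟨X₀, fst, snd, repWith_of_isIso @Etale fst, repWith_of_isIso @Surjective fst, ?_,
    hRP snd hsnd⟩
  rw [sq.w, Category.comp_id]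

theorem locQ_lft_of_isImm (h𝒳 : AlgSt.IsAlgStack Scheme.fppfPrecoverage 𝒳)
    (h𝒴 : AlgSt.IsAlgStack Scheme.fppfPrecoverage 𝒴) (f : 𝒳 ⥤ᵇ 𝒴) (hf : AlgSt.IsImm f) :
    AlgSt.LocQ (AlgSp.LocP @LocallyOfFiniteType) f :=
  locQ_of_repWith h𝒳 h𝒴 f @IsImmersion _ hf
    (fun h hh => locP_yon_map_of_lft h (by have := hh; infer_instance))

theorem locQ_lfp_of_isOpenImm (h𝒳 : AlgSt.IsAlgStack Scheme.fppfPrecoverage 𝒳)
    (h𝒴 : AlgSt.IsAlgStack Scheme.fppfPrecoverage 𝒴) (f : 𝒳 ⥤ᵇ 𝒴) (hf : AlgSt.IsOpenImm f) :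
    AlgSt.LocQ (AlgSp.LocP @LocallyOfFinitePresentation) f :=
  locQ_of_repWith h𝒳 h𝒴 f @IsOpenImmersion _ hf
    (fun h hh => locP_yon_map_of_lfp h (by have := hh; infer_instance))

end Easy

section Noeth

variable {S : Scheme.{u}} {𝒳 𝒴 : AlgSt.Cat S}

theorem isLocallyNoetherian_smoothLocal (U : Scheme.{u}) (R : Presieve U)
    (hR : R ∈ Scheme.precoverage @Smooth U) :
    IsLocallyNoetherian U ↔ ∀ ⦃V : Scheme.{u}⦄ (g : V ⟶ U), R g → IsLocallyNoetherian V := by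
  obtain ⟨hjs, hsm⟩ := hR
  constructor
  · intro hU V g hg
    have : Smooth g := hsm hg
    exact LocallyOfFiniteType.isLocallyNoetherian g
  · intro h
    rw [Scheme.jointlySurjectivePrecoverage, Presieve.mem_comap_jointlySurjectivePrecoverage_iff]
      at hjs
    choose V g hg hx using hjs
    have : ∀ x, Smooth (g x) := fun x => hsm (hg x)
    let W : Scheme.{u} := ∐ V
    let G : W ⟶ U := Sigma.desc g
    have hG : Smooth G := IsZariskiLocalAtSource.sigmaDesc (P := @Smooth) (fun i => inferInstance)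
    have : Surjective G := ⟨fun x => by
      obtain ⟨v, hv⟩ := hx x
      refine ⟨(Sigma.ι V x) v, ?_⟩
      rw [← Scheme.Hom.comp_apply, Sigma.ι_desc]
      exact hv⟩
    have : IsLocallyNoetherian W :=
      (isLocallyNoetherian_iff_openCover (sigmaOpenCover V)).2 (fun x => h (g x) (hg x))
    exact Groth.Agent.S0116.result G

theorem smoothLocally_noeth_of_locQ_lft
    (f : 𝒳 ⥤ᵇ 𝒴) (hf : AlgSt.LocQ (AlgSp.LocP @LocallyOfFiniteType) f)
    (hN : AlgSt.SmoothLocally (fun T ↦ IsLocallyNoetherian T) 𝒴) :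
    AlgSt.SmoothLocally (fun T ↦ IsLocallyNoetherian T) 𝒳 := by
  obtain ⟨U, V, x, y, h, α, hx₁, hx₂, hy, hh⟩ := hf
  have hV : IsLocallyNoetherian V.left := hN V y hy
  have hlft : LocallyOfFiniteType h.left := AlgSp.locP_yon_map hh
  have hU : IsLocallyNoetherian U.left := LocallyOfFiniteType.isLocallyNoetherian h.left
  intro U' x' hx'
  exact prop_of_two_charts (fun T => IsLocallyNoetherian T) isLocallyNoetherian_smoothLocal x hx₁
    hx₂ x' hx' hU

theorem locQ_lfp_of_locQ_lft_of_noeth (f : 𝒳 ⥤ᵇ 𝒴)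
    (hN : AlgSt.SmoothLocally (fun T ↦ IsLocallyNoetherian T) 𝒴)
    (hf : AlgSt.LocQ (AlgSp.LocP @LocallyOfFiniteType) f) :
    AlgSt.LocQ (AlgSp.LocP @LocallyOfFinitePresentation) f := by
  obtain ⟨U, V, x, y, h, α, hx₁, hx₂, hy, hh⟩ := hf
  have hV : IsLocallyNoetherian V.left := hN V y hy
  have hlft : LocallyOfFiniteType h.left := AlgSp.locP_yon_map hh
  exact ⟨U, V, x, y, h, α, hx₁, hx₂, hy, locP_yon_map_of_lfp h inferInstance⟩

end Noeth

end Groth.Agent.Lib.Helper15LocQ
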