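-- helper15: chart independence for properties smooth local on source-and-target of functors between algebraic stacks.
import Mathlib
import Groth.Agent.Lib.Helper15LocQ
import Groth.Agent.Lib.Helper15BaseChange2
import Groth.Agent.S10565
import Groth.Agent.S10542

set_option autoImplicit false
set_option backward.isDefEq.respectTransparency false
set_option backward.isDefEq.respectTransparency.types false
open CategoryTheory CategoryTheory.Functor CategoryTheory.Limits Opposite AlgebraicGeometry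

universe u

namespace Groth.Agent.Lib.Helper15LocQEngine

open Groth.Agent.Lib.Helper17 Groth.Agent.Lib.Helper15PshFib Groth.Agent.Lib.Helper15RepComp
  Groth.Agent.Lib.Helper15RepPsh Groth.Agent.Lib.Helper15DiagBase Groth.Agent.Lib.Helper15DiagRepSp
  Groth.Agent.Lib.Helper15Descent Groth.Agent.Lib.Helper15DiagLft
  Groth.Agent.Lib.Helper15DiagDescent Groth.Agent.Lib.Helper15SpMapRep
  Groth.Agent.Lib.Helper15SrcCancel Groth.Agent.Lib.Helper15ChartSp Groth.Agent.Lib.Helper15Atlas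
  Groth.Agent.Lib.Helper15LocEss Groth.Agent.Lib.Helper15UnivComp Groth.Agent.Lib.Helper15SmLoc
  Groth.Agent.Lib.Helper15PtsComp Groth.Agent.Lib.Helper15PtsTop Groth.Agent.Lib.Helper15PtsQc
  Groth.Agent.Lib.Helper15FpSwap Groth.Agent.Lib.Helper15QcLocal Groth.Agent.Lib.Helper15ClosedQc
  Groth.Agent.Lib.Helper15UnivPts Groth.Agent.Lib.Helper15BaseChange
  Groth.Agent.Lib.Helper15BaseChange2
  Groth.Agent.Lib.Helper15MonoSep Groth.Agent.Lib.Helper15QcRep Groth.Agent.Lib.Helper15LocQ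

section L1

variable {S : Scheme.{u}} {𝒰 𝒱 𝒳 𝒴 : AlgSt.Cat S}

/-- The functor `U ×_Y V ⟶ X ×_Y V` induced by `x : U ⟶ X`. -/
noncomputable def fpMapLeft (x : 𝒰 ⥤ᵇ 𝒳) (f : 𝒳 ⥤ᵇ 𝒴) (y : 𝒱 ⥤ᵇ 𝒴) :
    FibCat.fp (BasedFunctor.comp x f) y ⥤ᵇ FibCat.fp f y :=
  have := IsEquivOver.isEquivalence (BasedFunctor.id 𝒴) (isEquivOver_id _)
  fpMap f y (BasedFunctor.comp x f) y x (BasedFunctor.id 𝒱) (BasedFunctor.id 𝒴)
    (Iso.refl _) (Iso.refl _)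

/-- `fpMapLeft` is a base change of `x`. -/
noncomputable def fpMapLeftIso (x : 𝒰 ⥤ᵇ 𝒳) (f : 𝒳 ⥤ᵇ 𝒴) (y : 𝒱 ⥤ᵇ 𝒴) :
    BasedFunctor.comp (pasteL y f x) (fpMapLeft x f y) ≅ FibCat.fpSnd x (FibCat.fpFst f y) :=
  fpIsoMk f y (H := BasedFunctor.comp (pasteL y f x) (fpMapLeft x f y))
    (K := FibCat.fpSnd x (FibCat.fpFst f y)) (FibCat.fpIso x (FibCat.fpFst f y)) (Iso.refl _)
    (fun a => by
      change f.map a.obj.iso.hom ≫ a.obj.snd.obj.iso.hom =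
        (𝟙 _ ≫ (BasedFunctor.id 𝒴).map (f.map a.obj.iso.hom ≫ a.obj.snd.obj.iso.hom) ≫ 𝟙 _) ≫
          y.map (𝟙 _)
      rw [y.toFunctor.map_id]
      change _ = (𝟙 _ ≫ (f.map a.obj.iso.hom ≫ a.obj.snd.obj.iso.hom) ≫ 𝟙 _) ≫ 𝟙 _
      simp)

theorem repByAlgSpWith_fpMapLeft (Q : MorphismProperty (AlgSp.Sp S)) (x : 𝒰 ⥤ᵇ 𝒳) (f : 𝒳 ⥤ᵇ 𝒴)
    (y : 𝒱 ⥤ᵇ 𝒴) (hx : AlgSt.RepByAlgSpWith Q x) :
    AlgSt.RepByAlgSpWith Q (fpMapLeft x f y) := by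
  have h1 : AlgSt.RepByAlgSpWith Q (FibCat.fpSnd x (FibCat.fpFst f y)) :=
    repByAlgSpWith_fpSnd Q x (FibCat.fpFst f y) hx
  exact (repByAlgSpWith_of_square Q (fpMapLeft x f y) (FibCat.fpSnd x (FibCat.fpFst f y))
    (pasteL y f x) (BasedFunctor.id _) (isEquivOver_pasteL y f x) (isEquivOver_id _)
    (fpMapLeftIso x f y).symm).2 h1

theorem spMapOfOver_comp_overMap {F : AlgSp.Sp S} {U V : Over S}
    (Φ : AlgSt.ofSp F ⥤ᵇ FibCat.overCat U) (h : U ⟶ V) :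
    AlgSt.spMapOfOver (BasedFunctor.comp Φ (AlgSt.overMap h)) =
      AlgSt.spMapOfOver Φ ≫ (AlgSp.yon S).map h := by
  apply ObjectProperty.hom_ext
  apply NatTrans.ext
  funext T
  ext x
  apply ULift.ext
  change AlgSt.secHom (BasedFunctor.comp Φ (AlgSt.overMap h)) ⟨T.unop, x⟩ =
    AlgSt.secHom Φ ⟨T.unop, x⟩ ≫ h
  unfold AlgSt.secHom
  rw [Category.assoc]
  rfl

end L1

section Engine

variable {S : Scheme.{u}} {𝒳 𝒴 : AlgSt.Cat S}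

theorem isLocalOnBase_fppf_smooth :
    AlgSp.IsLocalOnBase AlgSp.IsFppfCover (AlgSp.LocP (S := S) @Smooth) :=
  isLocalOnBase_fppf_of_fpqc _ (Groth.Agent.S10542.result S)

/-- Chart independence: a property smooth local on source-and-target which holds on one smooth
chart square with surjective source chart holds on every smooth chart square whose source chart is
smooth over the base change of the target chart. -/
theorem prop_of_good_square (P : MorphismProperty (AlgSp.Sp S)) (hP : AlgSp.IsSmoothLocalST P)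
    (h𝒳 : AlgSt.IsAlgStack Scheme.fppfPrecoverage 𝒳)
    (h𝒴 : AlgSt.IsAlgStack Scheme.fppfPrecoverage 𝒴) (f : 𝒳 ⥤ᵇ 𝒴)
    {U₁ V₁ : Over S} (x₁ : FibCat.overCat U₁ ⥤ᵇ 𝒳) (y₁ : FibCat.overCat V₁ ⥤ᵇ 𝒴) (h₁ : U₁ ⟶ V₁)
    (α₁ : BasedFunctor.comp x₁ f ≅ BasedFunctor.comp (AlgSt.overMap h₁) y₁)
    (hx₁ : AlgSt.RepByAlgSpWith (AlgSp.LocP @Smooth) x₁)
    (hx₁s : AlgSt.RepByAlgSpWith AlgSp.IsSurjectiveMor x₁)
    (hy₁ : AlgSt.RepByAlgSpWith (AlgSp.LocP @Smooth) y₁) (hP₁ : P ((AlgSp.yon S).map h₁))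
    {U₂ V₂ : Over S} (x₂ : FibCat.overCat U₂ ⥤ᵇ 𝒳) (y₂ : FibCat.overCat V₂ ⥤ᵇ 𝒴) (h₂ : U₂ ⟶ V₂)
    (α₂ : BasedFunctor.comp x₂ f ≅ BasedFunctor.comp (AlgSt.overMap h₂) y₂)
    (hy₂ : AlgSt.RepByAlgSpWith (AlgSp.LocP @Smooth) y₂)
    (hℓ₂ : AlgSt.RepByAlgSpWith (AlgSp.LocP @Smooth) (FibCat.fpLift x₂ (AlgSt.overMap h₂) α₂)) :
    P ((AlgSp.yon S).map h₂) := by
  have hfib𝒳 := h𝒳.isStack.1
  have hfib𝒴 := h𝒴.isStack.1
  have hU₁ : FibCat.IsFibGrpd (FibCat.overCat U₁).p := (isFibSet_overForget U₁).1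
  have hU₂ : FibCat.IsFibGrpd (FibCat.overCat U₂).p := (isFibSet_overForget U₂).1
  have hV₂ : FibCat.IsFibGrpd (FibCat.overCat V₂).p := (isFibSet_overForget V₂).1
  -- the space `B = V₁ ×_𝒴 V₂`
  obtain ⟨B, e_B, he_B, hb₁⟩ := hy₂ V₁ y₁
  have hb₂ : AlgSp.LocP @Smooth
      (AlgSt.spMapOfOver (BasedFunctor.comp e_B (FibCat.fpSnd y₁ y₂))) :=
    prop_spMapOfOver_of_repByAlgSpWith _ bcStable_smooth (FibCat.fpSnd y₁ y₂)
      (repByAlgSpWith_fpSnd _ y₁ y₂ hy₁) B e_B he_B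
  -- the space `T = U₁ ×_𝒴 V₂`
  obtain ⟨T, e_T, he_T, -⟩ := hy₂ U₁ (BasedFunctor.comp x₁ f)
  obtain ⟨q, sq, ⟨iq⟩⟩ := exists_isPullback_baseChange' y₂ y₁ B.obj e_B he_B h₁
    (BasedFunctor.comp x₁ f) α₁ T.obj e_T he_T
  let p_T : T.obj ⟶ (AlgSp.yon S).obj V₂ :=
    AlgSt.spMapOfOver (BasedFunctor.comp e_T (FibCat.fpSnd (BasedFunctor.comp x₁ f) y₂))
  have hqb : q ≫ AlgSt.spMapOfOver (BasedFunctor.comp e_B (FibCat.fpSnd y₁ y₂)) = p_T := by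
    rw [← spMapOfOver_ofSpMap_comp]
    exact spMapOfOver_eq_of_iso _ _ iq
  have hPq : P q :=
    hP.baseChange (AlgSp.IsAlgSpace.yon_obj U₁) (AlgSp.IsAlgSpace.yon_obj V₁) T.property B.property
      ((AlgSp.yon S).map h₁) _ q _ sq.flip hb₁ hP₁
  have hPpT : P p_T := by
    rw [← hqb]
    let V₂' : AlgSp.Space S := ⟨(AlgSp.yon S).obj V₂, AlgSp.IsAlgSpace.yon_obj V₂⟩
    let qq : T ⟶ B := ObjectProperty.homMk q
    let bb : B ⟶ V₂' := ObjectProperty.homMk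
      (AlgSt.spMapOfOver (BasedFunctor.comp e_B (FibCat.fpSnd y₁ y₂)))
    exact (Groth.Agent.S10565.result hP).2.2 qq bb hPq hb₂
  -- the chart `τ : T ⟶ 𝒳 ×_𝒴 V₂`
  have hT : FibCat.IsFibGrpd (AlgSt.ofSp T.obj).p := (isFibSetoid_ofPsh T.obj.obj).1
  have hfpT : FibCat.IsFibGrpd (FibCat.fp (BasedFunctor.comp x₁ f) y₂).p :=
    isFibGrpd_fp (BasedFunctor.comp x₁ f) y₂ hU₁ hV₂ hfib𝒴
  have hZ : FibCat.IsFibGrpd (FibCat.fp f y₂).p := isFibGrpd_fp f y₂ hfib𝒳 hV₂ hfib𝒴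
  let τ : AlgSt.ofSp T.obj ⥤ᵇ FibCat.fp f y₂ := BasedFunctor.comp e_T (fpMapLeft x₁ f y₂)
  have hτ₁ : AlgSt.RepByAlgSpWith (AlgSp.LocP @Smooth) τ :=
    (chart_precomp_equiv hT hfpT e_T he_T (fpMapLeft x₁ f y₂)).1
      (repByAlgSpWith_fpMapLeft _ x₁ f y₂ hx₁)
  have hτ₂ : AlgSt.RepByAlgSpWith AlgSp.IsSurjectiveMor τ :=
    (chart_precomp_equiv hT hfpT e_T he_T (fpMapLeft x₁ f y₂)).2
      (repByAlgSpWith_fpMapLeft _ x₁ f y₂ hx₁s)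
  -- the space `G = T ×_Z U₂`
  let ℓ₂ := FibCat.fpLift x₂ (AlgSt.overMap h₂) α₂
  obtain ⟨G, a_G, e_G, he_G, ⟨ι_G⟩, ha_G⟩ :=
    exists_space_map_of_repByAlgSpWith hU₂ hZ (AlgSp.LocP @Smooth) isLocalOnBase_fppf_smooth ℓ₂ hℓ₂
      T τ
  let g₂ : G.obj ⟶ (AlgSp.yon S).obj U₂ :=
    AlgSt.spMapOfOver (BasedFunctor.comp e_G (FibCat.fpSnd τ ℓ₂))
  have hg₂ : AlgSp.LocP @Smooth g₂ :=
    prop_spMapOfOver_of_repByAlgSpWith _ bcStable_smooth (FibCat.fpSnd τ ℓ₂)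
      (repByAlgSpWith_fpSnd _ τ ℓ₂ hτ₁) G e_G he_G
  have hg₂s : AlgSp.IsSurjectiveMor g₂ :=
    prop_spMapOfOver_of_repByAlgSpWith _ bcStable_isSurjectiveMor (FibCat.fpSnd τ ℓ₂)
      (repByAlgSpWith_fpSnd _ τ ℓ₂ hτ₂) G e_G he_G
  -- commutativity
  have comm : g₂ ≫ (AlgSp.yon S).map h₂ = a_G.hom ≫ p_T := by
    rw [← spMapOfOver_comp_overMap, ← spMapOfOver_ofSpMap_comp]
    apply spMapOfOver_eq_of_iso
    exact (whiskerLeftIso e_G (whiskerRightIso (FibCat.fpIso τ ℓ₂).symm (FibCat.fpSnd f y₂)) :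
      BasedFunctor.comp (BasedFunctor.comp e_G (FibCat.fpSnd τ ℓ₂)) (AlgSt.overMap h₂) ≅
        BasedFunctor.comp (BasedFunctor.comp e_G (FibCat.fpFst τ ℓ₂))
          (BasedFunctor.comp e_T (FibCat.fpSnd (BasedFunctor.comp x₁ f) y₂))) ≪≫
      whiskerRightIso ι_G (BasedFunctor.comp e_T (FibCat.fpSnd (BasedFunctor.comp x₁ f) y₂))
  -- locality
  refine (hP.locality (AlgSp.IsAlgSpace.yon_obj U₂) (AlgSp.IsAlgSpace.yon_obj V₂)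
    ((AlgSp.yon S).map h₂)).2 (fun p => ?_)
  obtain ⟨v, hv⟩ := hg₂s p
  exact ⟨G.obj, (AlgSp.yon S).obj V₂, g₂, 𝟙 _, a_G.hom ≫ p_T, v, G.property,
    AlgSp.IsAlgSpace.yon_obj V₂, hg₂, locP_smooth_id V₂, by rw [comm, Category.comp_id], hv,
    hP.precomp G.property T.property (AlgSp.IsAlgSpace.yon_obj V₂) a_G.hom p_T ha_G hPpT⟩

end Engine

section Good

variable {S : Scheme.{u}} {𝒳 𝒴 : AlgSt.Cat S}

/-- Every functor over the base between slices is the functor of a morphism of schemes. -/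
theorem exists_iso_overMap {U V : Over S} (Φ : FibCat.overCat U ⥤ᵇ FibCat.overCat V) :
    ∃ h : U ⟶ V, Nonempty (Φ ≅ AlgSt.overMap h) := by
  refine ⟨ovSec Φ (Over.mk (𝟙 U)), ⟨isoOfOverCat (fun c => ?_)⟩⟩
  rw [ovSec_overMap]
  let m : c ⟶ Over.mk (𝟙 U) := Over.homMk c.hom (by simp)
  exact (ovSec_map Φ m).symm

theorem repByAlgSpWith_of_iso {𝒜 ℬ : AlgSt.Cat S} (Q : MorphismProperty (AlgSp.Sp S))
    {a a' : 𝒜 ⥤ᵇ ℬ} (e : a ≅ a') (h : AlgSt.RepByAlgSpWith Q a) : AlgSt.RepByAlgSpWith Q a' :=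
  (repByAlgSpWith_of_square Q a a' (BasedFunctor.id _) (BasedFunctor.id _) (isEquivOver_id _)
    (isEquivOver_id _) e.symm).1 h

/-- A chart square whose source chart is a smooth surjective chart of the base change of the
target chart. -/
theorem exists_good_square (h𝒳 : AlgSt.IsAlgStack Scheme.fppfPrecoverage 𝒳)
    (h𝒴 : AlgSt.IsAlgStack Scheme.fppfPrecoverage 𝒴) (f : 𝒳 ⥤ᵇ 𝒴) :
    ∃ (U V : Over S) (x : FibCat.overCat U ⥤ᵇ 𝒳) (y : FibCat.overCat V ⥤ᵇ 𝒴) (h : U ⟶ V)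
      (α : BasedFunctor.comp x f ≅ BasedFunctor.comp (AlgSt.overMap h) y),
      AlgSt.RepByAlgSpWith (AlgSp.LocP @Smooth) x ∧ AlgSt.RepByAlgSpWith AlgSp.IsSurjectiveMor x ∧
      AlgSt.RepByAlgSpWith (AlgSp.LocP @Smooth) y ∧ AlgSt.RepByAlgSpWith AlgSp.IsSurjectiveMor y ∧
      AlgSt.RepByAlgSpWith (AlgSp.LocP @Smooth) (FibCat.fpLift x (AlgSt.overMap h) α) := by
  obtain ⟨V, y, hy₁, hy₂⟩ := h𝒴.atlas
  have hpre𝒴 := IsStack.isPrestack _ h𝒴.isStack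
  have hZ : AlgSt.IsAlgStack Scheme.fppfPrecoverage (FibCat.fp f y) :=
    isAlgStack_fp_of_isPrestack hpre𝒴 h𝒴.diag h𝒳 (isAlgStack_overCat V) f y
  obtain ⟨U, ℓ, hℓ₁, hℓ₂⟩ := hZ.atlas
  have hU : FibCat.IsFibGrpd (FibCat.overCat U).p := (isFibSet_overForget U).1
  obtain ⟨h, ⟨lam⟩⟩ := exists_iso_overMap (BasedFunctor.comp ℓ (FibCat.fpSnd f y))
  let x : FibCat.overCat U ⥤ᵇ 𝒳 := BasedFunctor.comp ℓ (FibCat.fpFst f y)
  have hx₁ : AlgSt.RepByAlgSpWith (AlgSp.LocP @Smooth) x :=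
    repByAlgSpWith_comp_of_compCond hU hZ.isStack.1 _ compCond_smooth ℓ (FibCat.fpFst f y) hℓ₁
      (repByAlgSpWith_fpFst _ y f hy₁)
  have hx₂ : AlgSt.RepByAlgSpWith AlgSp.IsSurjectiveMor x :=
    repByAlgSpWith_comp_of_compCond hU hZ.isStack.1 _ compCond_isSurjectiveMor ℓ (FibCat.fpFst f y)
      hℓ₂ (repByAlgSpWith_fpFst _ y f hy₂)
  let α : BasedFunctor.comp x f ≅ BasedFunctor.comp (AlgSt.overMap h) y :=
    (whiskerLeftIso ℓ (FibCat.fpIso f y) : BasedFunctor.comp x f ≅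
      BasedFunctor.comp (BasedFunctor.comp ℓ (FibCat.fpSnd f y)) y) ≪≫ whiskerRightIso lam y
  refine ⟨U, V, x, y, h, α, hx₁, hx₂, hy₁, hy₂, ?_⟩
  refine repByAlgSpWith_of_iso _ ?_ hℓ₁
  exact fpIsoMk f y (H := ℓ) (K := FibCat.fpLift x (AlgSt.overMap h) α) (Iso.refl _) lam
    (fun a => by
      change f.map (𝟙 _) ≫ ((ℓ.obj a).obj.iso.hom ≫ y.map (lam.hom.toNatTrans.app a)) = _
      rw [f.toFunctor.map_id, Category.id_comp])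

end Good

section S12990

variable {S : Scheme.{u}} {𝒳 𝒴 : AlgSt.Cat S}

theorem locQ_iff_forall_good (P : MorphismProperty (AlgSp.Sp S)) (hP : AlgSp.IsSmoothLocalST P)
    (h𝒳 : AlgSt.IsAlgStack Scheme.fppfPrecoverage 𝒳)
    (h𝒴 : AlgSt.IsAlgStack Scheme.fppfPrecoverage 𝒴) (f : 𝒳 ⥤ᵇ 𝒴) :
    AlgSt.LocQ P f ↔
      ∀ (U V : Over S) (x : FibCat.overCat U ⥤ᵇ 𝒳) (y : FibCat.overCat V ⥤ᵇ 𝒴) (h : U ⟶ V)
        (α : BasedFunctor.comp x f ≅ BasedFunctor.comp (AlgSt.overMap h) y),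
        AlgSt.RepByAlgSpWith (AlgSp.LocP @Smooth) x → AlgSt.RepByAlgSpWith (AlgSp.LocP @Smooth) y →
        AlgSt.RepByAlgSpWith (AlgSp.LocP @Smooth) (FibCat.fpLift x (AlgSt.overMap h) α) →
          P ((AlgSp.yon S).map h) := by
  constructor
  · rintro ⟨U₁, V₁, x₁, y₁, h₁, α₁, hx₁, hx₁s, hy₁, hP₁⟩ U V x y h α _ hy hℓ
    exact prop_of_good_square P hP h𝒳 h𝒴 f x₁ y₁ h₁ α₁ hx₁ hx₁s hy₁ hP₁ x y h α hy hℓ
  · intro hall
    obtain ⟨U, V, x, y, h, α, hx₁, hx₂, hy₁, -, hℓ⟩ := exists_good_square h𝒳 h𝒴 f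
    exact ⟨U, V, x, y, h, α, hx₁, hx₂, hy₁, hall U V x y h α hx₁ hy₁ hℓ⟩

end S12990

end Groth.Agent.Lib.Helper15LocQEngine
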