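-- helper15: concrete smooth-local properties (flat, lfp, lft, smooth) and openness of LocQ flat+lfp stack maps
import Mathlib
import Groth.Agent.Lib.Helper15LocQEngine
import Groth.Agent.Lib.Helper12SmSrcLocal
import Groth.Agent.Lib.Helper12SmoothST
import Groth.Agent.S10526
import Groth.Agent.S10527
import Groth.Agent.S10530
import Groth.Agent.S10548
import Groth.Agent.S10553
import Groth.Agent.S10567
import Groth.Agent.S10580

set_option autoImplicit false
set_option backward.isDefEq.respectTransparency false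
set_option backward.isDefEq.respectTransparency.types false
open CategoryTheory CategoryTheory.Functor CategoryTheory.Limits Opposite AlgebraicGeometry

universe u

namespace Groth.Agent.Lib.Helper15LocQProps

open Groth.Agent.Lib.Helper17 Groth.Agent.Lib.Helper15DiagDescent
  Groth.Agent.Lib.Helper15SmLoc
  Groth.Agent.Lib.Helper15PtsComp Groth.Agent.Lib.Helper15PtsTop
  Groth.Agent.Lib.Helper15LocQ Groth.Agent.Lib.Helper15LocQEngine

section Sp

variable {S : Scheme.{u}}

theorem isLocalOnBase_sm_of_fppf (Q : MorphismProperty (AlgSp.Sp S))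
    (h : AlgSp.IsLocalOnBase AlgSp.IsFppfCover Q) : AlgSp.IsLocalOnBase AlgSp.IsSmCover Q := by
  intro ι Y Yi g hY hYi hcov X f hX Xi p q hXi sq
  refine h Yi g hY hYi ⟨fun i => ?_, hcov.2⟩ f hX Xi p q hXi sq
  exact ⟨Groth.Agent.Lib.Helper15PtsTop.locP_mono (fun _ _ k hk => by have := hk; infer_instance)
      (hcov.1 i),
    Groth.Agent.Lib.Helper15PtsTop.locP_mono (fun _ _ k hk => by have := hk; infer_instance)
      (hcov.1 i)⟩

instance flat_isLocalAtSource_smooth :
    MorphismProperty.IsLocalAtSource (@Flat : MorphismProperty Scheme.{u})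
      (Scheme.precoverage @Smooth) :=
  Groth.Agent.Lib.Helper12.SmSrcLocal.isLocalAtSource_smooth_of_single _
    (fun e k he hk => by
      have := he; have := hk; exact (inferInstance : Flat (e ≫ k)))
    (fun e k he hs h => by
      have := he; have := hs; have : Flat (e ≫ k) := h
      exact Groth.Agent.Lib.Helper12.flat_of_comp_of_flat_of_surjective e k)

theorem isSmoothLocalST_flat : AlgSp.IsSmoothLocalST (AlgSp.LocP (S := S) @Flat) :=
  Groth.Agent.S10567.result _
    ((Groth.Agent.S10580.result S @Flat).2.2.1 inferInstance)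
    (isLocalOnBase_sm_of_fppf _ (isLocalOnBase_fppf_of_fpqc _ (Groth.Agent.S10530.result S)))
    (fun _ Y Z f g hf hg => locP_flat_comp Y.property Z.property f.hom g.hom hf
      (Groth.Agent.Lib.Helper15PtsTop.locP_mono (fun _ _ k hk => by have := hk; infer_instance) hg))

theorem isSmoothLocalST_lfp :
    AlgSp.IsSmoothLocalST (AlgSp.LocP (S := S) @LocallyOfFinitePresentation) :=
  Groth.Agent.S10567.result _
    ((Groth.Agent.S10580.result S @LocallyOfFinitePresentation).2.2.1 inferInstance)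
    (isLocalOnBase_sm_of_fppf _ (isLocalOnBase_fppf_of_fpqc _ (Groth.Agent.S10527.result S)))
    (fun _ Y Z f g hf hg => locP_lfp_comp Y.property Z.property f.hom g.hom hf
      (Groth.Agent.Lib.Helper15PtsTop.locP_mono (fun _ _ k hk => by have := hk; infer_instance) hg))

theorem locP_lft_comp {X Y Z : AlgSp.Sp S} (hY : AlgSp.IsAlgSpace Y) (hZ : AlgSp.IsAlgSpace Z)
    (a : X ⟶ Y) (b : Y ⟶ Z) (ha : AlgSp.LocP @LocallyOfFiniteType a)
    (hb : AlgSp.LocP @LocallyOfFiniteType b) : AlgSp.LocP @LocallyOfFiniteType (a ≫ b) :=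
  Groth.Agent.Lib.Helper12.LocPGen.locP_comp (@LocallyOfFiniteType)
    (fun e k _ _ h => Groth.Agent.Lib.Helper12.Proper.lft_hsrc e k h) hY hZ a b ha hb

theorem isSmoothLocalST_lft :
    AlgSp.IsSmoothLocalST (AlgSp.LocP (S := S) @LocallyOfFiniteType) :=
  Groth.Agent.S10567.result _
    ((Groth.Agent.S10580.result S @LocallyOfFiniteType).2.2.1 inferInstance)
    (isLocalOnBase_sm_of_fppf _ (isLocalOnBase_fppf_of_fpqc _ (Groth.Agent.S10526.result S)))
    (fun _ Y Z f g hf hg => locP_lft_comp Y.property Z.property f.hom g.hom hf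
      (Groth.Agent.Lib.Helper15PtsTop.locP_mono (fun _ _ k hk => by have := hk; infer_instance) hg))

theorem isSmoothLocalST_smooth : AlgSp.IsSmoothLocalST (AlgSp.LocP (S := S) @Smooth) :=
  Groth.Agent.S10567.result _
    (Groth.Agent.S10553.result S)
    (isLocalOnBase_sm_of_fppf _ isLocalOnBase_fppf_smooth)
    (fun _ Y Z f g hf hg =>
      Groth.Agent.Lib.Helper12.SmoothST.locP_smooth_comp Y.property Z.property f.hom g.hom hf hg)

end Sp

section Open

variable {S : Scheme.{u}} {𝒳 𝒴 : AlgSt.Cat S}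

theorem isOpenMor_of_locQ (h𝒳 : AlgSt.IsAlgStack Scheme.fppfPrecoverage 𝒳)
    (h𝒴 : AlgSt.IsAlgStack Scheme.fppfPrecoverage 𝒴) (f : 𝒳 ⥤ᵇ 𝒴)
    (h₁ : AlgSt.LocQ (AlgSp.LocP @Flat) f)
    (h₂ : AlgSt.LocQ (AlgSp.LocP @LocallyOfFinitePresentation) f) : AlgSt.IsOpenMor f := by
  obtain ⟨U, V, x, y, h, α, hx₁, hx₂, hy₁, -, hℓ⟩ := exists_good_square h𝒳 h𝒴 f
  have hfl : Flat h.left := AlgSp.locP_yon_map
    ((locQ_iff_forall_good _ isSmoothLocalST_flat h𝒳 h𝒴 f).1 h₁ U V x y h α hx₁ hy₁ hℓ)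
  have hfp : LocallyOfFinitePresentation h.left := AlgSp.locP_yon_map
    ((locQ_iff_forall_good _ isSmoothLocalST_lfp h𝒳 h𝒴 f).1 h₂ U V x y h α hx₁ hy₁ hℓ)
  have hxs := surjective_ofChart h𝒳 x hx₂
  have hxc := continuous_ofChart h𝒳 x
  have hyo := isOpenMap_ofChart h𝒴 y (flat_of_smooth hy₁) (lfp_of_smooth hy₁)
  have hho : IsOpenMap h.left := h.left.isOpenMap
  have key : ∀ t, AlgSt.Points.map f (AlgSt.Points.ofChart x t) =
      AlgSt.Points.ofChart y (h.left t) := by
    intro t
    rw [← ofChart_comp, ofChart_congr α, ofChart_overMap]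
  intro O hO
  have : AlgSt.Points.map f '' O =
      AlgSt.Points.ofChart y '' (h.left '' (AlgSt.Points.ofChart x ⁻¹' O)) := by
    ext η
    constructor
    · rintro ⟨ξ, hξ, rfl⟩
      obtain ⟨t, rfl⟩ := hxs ξ
      exact ⟨h.left t, ⟨t, hξ, rfl⟩, (key t).symm⟩
    · rintro ⟨_, ⟨t, ht, rfl⟩, rfl⟩
      exact ⟨AlgSt.Points.ofChart x t, ht, key t⟩
  rw [this]
  exact hyo _ (hho _ (hO.preimage hxc))

end Open

end Groth.Agent.Lib.Helper15LocQProps
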