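-- helper15: space chart squares for properties of functors of algebraic stacks read on one chart square
import Mathlib
import Groth.Agent.Lib.Helper15LocQProps

set_option autoImplicit false
set_option backward.isDefEq.respectTransparency false
set_option backward.isDefEq.respectTransparency.types false
open CategoryTheory CategoryTheory.Functor CategoryTheory.Limits Opposite AlgebraicGeometry

universe u

namespace Groth.Agent.Lib.Helper15LocQSpace

open Groth.Agent.Lib.Helper17 Groth.Agent.Lib.Helper15PshFib Groth.Agent.Lib.Helper15RepComp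
  Groth.Agent.Lib.Helper15RepPsh Groth.Agent.Lib.Helper15DiagBase Groth.Agent.Lib.Helper15DiagRepSp
  Groth.Agent.Lib.Helper15Descent Groth.Agent.Lib.Helper15DiagLft
  Groth.Agent.Lib.Helper15DiagDescent Groth.Agent.Lib.Helper15SpMapRep
  Groth.Agent.Lib.Helper15SrcCancel Groth.Agent.Lib.Helper15ChartSp Groth.Agent.Lib.Helper15Atlas
  Groth.Agent.Lib.Helper15LocEss Groth.Agent.Lib.Helper15UnivComp Groth.Agent.Lib.Helper15SmLoc
  Groth.Agent.Lib.Helper15PtsComp Groth.Agent.Lib.Helper15PtsTop Groth.Agent.Lib.Helper15PtsQc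
  Groth.Agent.Lib.Helper15FpSwap Groth.Agent.Lib.Helper15QcLocal Groth.Agent.Lib.Helper15ClosedQc
  Groth.Agent.Lib.Helper15UnivPts Groth.Agent.Lib.Helper15BaseChange
  Groth.Agent.Lib.Helper15MonoSep Groth.Agent.Lib.Helper15LocQ Groth.Agent.Lib.Helper15LocQEngine
  Groth.Agent.Lib.Helper15LocQProps

section Iso

variable {S : Scheme.{u}}

theorem pshSec_chart {F : AlgSp.Sp S} {U : Over S} (s : (AlgSp.yon S).obj U ⟶ F) (c : Over U) :
    pshSec (BasedFunctor.comp (AlgSt.ofOverCat U) (AlgSt.ofSpMap s)) c =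
      s.hom.app _ (⟨c.hom⟩ : ((AlgSp.yon S).obj U).obj.obj (op c.left)) := by
  change pshSec (BasedFunctor.comp (AlgSt.ofOverCat U) (Stk.ofPshMap s.hom)) c = _
  rw [pshSec_comp_ofPshMap, pshSec_ofOverCat]
  rfl

/-- The 2-cell of a commutative square of sheaves whose top row is a morphism of schemes. -/
noncomputable def chartSqIso {F G : AlgSp.Sp S} {U V : Over S} (a : (AlgSp.yon S).obj U ⟶ F)
    (φ : F ⟶ G) (h : U ⟶ V) (b : (AlgSp.yon S).obj V ⟶ G)
    (w : a ≫ φ = (AlgSp.yon S).map h ≫ b) :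
    BasedFunctor.comp (BasedFunctor.comp (AlgSt.ofOverCat U) (AlgSt.ofSpMap a)) (AlgSt.ofSpMap φ) ≅
      BasedFunctor.comp (AlgSt.overMap h)
        (BasedFunctor.comp (AlgSt.ofOverCat V) (AlgSt.ofSpMap b)) :=
  pshIsoOfSecEq (fun c => by
    change pshSec (BasedFunctor.comp (BasedFunctor.comp (AlgSt.ofOverCat U) (AlgSt.ofSpMap a))
      (Stk.ofPshMap φ.hom)) c = _
    rw [pshSec_comp_ofPshMap, pshSec_chart, pshSec_comp, pshSec_chart]
    have := congrArg (fun m : (AlgSp.yon S).obj U ⟶ G =>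
      m.hom.app (op c.left) (⟨c.hom⟩ : ((AlgSp.yon S).obj U).obj.obj (op c.left))) w
    refine Eq.trans this ?_
    exact (psh_map_id_op _ _).symm)

/-- The square comparing the identification of the category of `h_U` with the slice and the
functor of a morphism of schemes. -/
noncomputable def toOverCatSqIso {U V : Over S} (h : U ⟶ V) :
    BasedFunctor.comp (AlgSt.toOverCat U) (AlgSt.overMap h) ≅
      BasedFunctor.comp (AlgSt.ofSpMap ((AlgSp.yon S).map h)) (AlgSt.toOverCat V) :=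
  isoOfOverCat (fun c => by
    unfold ovSec
    rfl)

theorem locP_smooth_of_repWith_etale {X Y : AlgSp.Space S} (s : X.obj ⟶ Y.obj)
    (he : AlgSp.RepWith @Etale s) : AlgSp.LocP @Smooth s := by
  let f : X ⟶ Y := ObjectProperty.homMk s
  have het : AlgSp.IsEtaleMor f.hom := fun V φ hφ => MorphismProperty.comp_mem _ _ _ hφ he
  exact (Groth.Agent.S10265.result f het).2.1

end Iso

section S12991

variable {S : Scheme.{u}} {𝒳 𝒴 : AlgSt.Cat S}

theorem space_square_of_locQ (P : MorphismProperty (AlgSp.Sp S)) (f : 𝒳 ⥤ᵇ 𝒴)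
    (hf : AlgSt.LocQ P f) :
    ∃ (U V : AlgSp.Space S) (x : AlgSt.ofSp U.obj ⥤ᵇ 𝒳) (y : AlgSt.ofSp V.obj ⥤ᵇ 𝒴) (h : U ⟶ V)
      (_ : BasedFunctor.comp x f ≅ BasedFunctor.comp (AlgSt.ofSpMap h.hom) y),
      AlgSt.RepByAlgSpWith (AlgSp.LocP @Smooth) x ∧ AlgSt.RepByAlgSpWith AlgSp.IsSurjectiveMor x ∧
      AlgSt.RepByAlgSpWith (AlgSp.LocP @Smooth) y ∧ P h.hom := by
  obtain ⟨U, V, x, y, h, α, hx₁, hx₂, hy₁, hP⟩ := hf
  have hU : FibCat.IsFibGrpd (FibCat.overCat U).p := (isFibSet_overForget U).1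
  have hU' : FibCat.IsFibGrpd (AlgSt.ofSch U).p :=
    (isFibSetoid_ofPsh ((AlgSp.yon S).obj U).obj).1
  have hV : FibCat.IsFibGrpd (FibCat.overCat V).p := (isFibSet_overForget V).1
  have hV' : FibCat.IsFibGrpd (AlgSt.ofSch V).p :=
    (isFibSetoid_ofPsh ((AlgSp.yon S).obj V).obj).1
  have hcx := chart_precomp_equiv hU' hU (AlgSt.toOverCat U) (isEquivOver_toOverCat U) x
  have hcy := chart_precomp_equiv hV' hV (AlgSt.toOverCat V) (isEquivOver_toOverCat V) y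
  let UU : AlgSp.Space S := ⟨(AlgSp.yon S).obj U, AlgSp.IsAlgSpace.yon_obj U⟩
  let VV : AlgSp.Space S := ⟨(AlgSp.yon S).obj V, AlgSp.IsAlgSpace.yon_obj V⟩
  let hh : UU ⟶ VV := ObjectProperty.homMk ((AlgSp.yon S).map h)
  refine ⟨UU, VV, BasedFunctor.comp (AlgSt.toOverCat U) x, BasedFunctor.comp (AlgSt.toOverCat V) y,
    hh, ?_, hcx.1 hx₁, hcx.2 hx₂, hcy.1 hy₁, hP⟩
  exact (whiskerLeftIso (AlgSt.toOverCat U) α : BasedFunctor.comp (BasedFunctor.comp
      (AlgSt.toOverCat U) x) f ≅ BasedFunctor.comp (BasedFunctor.comp (AlgSt.toOverCat U)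
      (AlgSt.overMap h)) y) ≪≫ whiskerRightIso (toOverCatSqIso h) y

theorem locQ_of_space_square (P : MorphismProperty (AlgSp.Sp S)) (hP : AlgSp.IsSmoothLocalST P)
    (f : 𝒳 ⥤ᵇ 𝒴) (U V : AlgSp.Space S) (x : AlgSt.ofSp U.obj ⥤ᵇ 𝒳)
    (y : AlgSt.ofSp V.obj ⥤ᵇ 𝒴) (h : U ⟶ V)
    (α : BasedFunctor.comp x f ≅ BasedFunctor.comp (AlgSt.ofSpMap h.hom) y)
    (hx₁ : AlgSt.RepByAlgSpWith (AlgSp.LocP @Smooth) x)
    (hx₂ : AlgSt.RepByAlgSpWith AlgSp.IsSurjectiveMor x)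
    (hy₁ : AlgSt.RepByAlgSpWith (AlgSp.LocP @Smooth) y) (hPh : P h.hom) : AlgSt.LocQ P f := by
  obtain ⟨V₀, pV, hpVe, hpVs⟩ := V.property.atlas
  let VV₀ : AlgSp.Space S := ⟨(AlgSp.yon S).obj V₀, AlgSp.IsAlgSpace.yon_obj V₀⟩
  have sq := IsPullback.of_hasPullback h.hom pV
  have hW : AlgSp.IsAlgSpace (pullback h.hom pV) :=
    Groth.Agent.S9874.result S V.obj V.property.diag U VV₀ h.hom pV _ _ _ sq
  let WW : AlgSp.Space S := ⟨pullback h.hom pV, hW⟩
  obtain ⟨U₀, pW, hpWe, hpWs⟩ := hW.atlas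
  let UU₀ : AlgSp.Space S := ⟨(AlgSp.yon S).obj U₀, AlgSp.IsAlgSpace.yon_obj U₀⟩
  have hfe : AlgSp.RepWith @Etale (pullback.fst h.hom pV) :=
    MorphismProperty.of_isPullback (P := AlgSp.RepWith @Etale) sq.flip hpVe
  have hfs : AlgSp.RepWith @Surjective (pullback.fst h.hom pV) :=
    MorphismProperty.of_isPullback (P := AlgSp.RepWith @Surjective) sq.flip hpVs
  let s : (AlgSp.yon S).obj U₀ ⟶ U.obj := pW ≫ pullback.fst h.hom pV
  have hse : AlgSp.RepWith @Etale s := MorphismProperty.comp_mem _ _ _ hpWe hfe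
  have hss : AlgSp.RepWith @Surjective s := MorphismProperty.comp_mem _ _ _ hpWs hfs
  obtain ⟨h₀, hh₀⟩ := (AlgSp.yon S).map_surjective (pW ≫ pullback.snd h.hom pV)
  have hc := chart_precomp_atlas U s hse hss x
  have hw : s ≫ h.hom = (AlgSp.yon S).map h₀ ≫ pV := by
    rw [hh₀, Category.assoc, Category.assoc, pullback.condition]
  refine ⟨U₀, V₀, _, _, h₀, ?_, hc.1 hx₁, hc.2 hx₂,
    (chart_precomp_atlas V pV hpVe hpVs y).1 hy₁, ?_⟩
  · exact (whiskerLeftIso (BasedFunctor.comp (AlgSt.ofOverCat U₀) (AlgSt.ofSpMap s)) α :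
      BasedFunctor.comp (BasedFunctor.comp (BasedFunctor.comp (AlgSt.ofOverCat U₀)
        (AlgSt.ofSpMap s)) x) f ≅ BasedFunctor.comp (BasedFunctor.comp (BasedFunctor.comp
        (AlgSt.ofOverCat U₀) (AlgSt.ofSpMap s)) (AlgSt.ofSpMap h.hom)) y) ≪≫
      whiskerRightIso (chartSqIso s h.hom h₀ pV hw) y
  · rw [hh₀]
    have hsnd : P (pullback.snd h.hom pV) :=
      hP.baseChange U.property V.property hW VV₀.property h.hom pV _ _ sq
        (locP_smooth_of_repWith_etale (X := VV₀) (Y := V) pV hpVe) hPh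
    exact hP.precomp UU₀.property hW VV₀.property pW _
      (locP_smooth_of_repWith_etale (X := UU₀) (Y := WW) pW hpWe) hsnd

theorem locQ_iff_space_square (P : MorphismProperty (AlgSp.Sp S)) (hP : AlgSp.IsSmoothLocalST P)
    (f : 𝒳 ⥤ᵇ 𝒴) :
    AlgSt.LocQ P f ↔
      ∃ (U V : AlgSp.Space S) (x : AlgSt.ofSp U.obj ⥤ᵇ 𝒳) (y : AlgSt.ofSp V.obj ⥤ᵇ 𝒴) (h : U ⟶ V)
        (_ : BasedFunctor.comp x f ≅ BasedFunctor.comp (AlgSt.ofSpMap h.hom) y),
        AlgSt.RepByAlgSpWith (AlgSp.LocP @Smooth) x ∧ AlgSt.RepByAlgSpWith AlgSp.IsSurjectiveMor x ∧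
        AlgSt.RepByAlgSpWith (AlgSp.LocP @Smooth) y ∧ P h.hom :=
  ⟨space_square_of_locQ P f, fun ⟨U, V, x, y, h, α, hx₁, hx₂, hy₁, hPh⟩ =>
    locQ_of_space_square P hP f U V x y h α hx₁ hx₂ hy₁ hPh⟩

end S12991

end Groth.Agent.Lib.Helper15LocQSpace
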