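-- helper15: maps of algebraic spaces whose functor is representable with a property; LocQ for maps of spaces
import Mathlib
import Groth.Agent.Lib.Helper15LocQSpace
import Groth.Agent.S10566

set_option autoImplicit false
set_option backward.isDefEq.respectTransparency false
set_option backward.isDefEq.respectTransparency.types false
open CategoryTheory CategoryTheory.Functor CategoryTheory.Limits Opposite AlgebraicGeometry

universe u

namespace Groth.Agent.Lib.Helper15LocQSpace2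

open Groth.Agent.Lib.Helper17 Groth.Agent.Lib.Helper15PshFib Groth.Agent.Lib.Helper15RepComp
  Groth.Agent.Lib.Helper15RepPsh Groth.Agent.Lib.Helper15DiagBase Groth.Agent.Lib.Helper15DiagRepSp
  Groth.Agent.Lib.Helper15Descent Groth.Agent.Lib.Helper15DiagLft
  Groth.Agent.Lib.Helper15DiagDescent Groth.Agent.Lib.Helper15SpMapRep
  Groth.Agent.Lib.Helper15SrcCancel Groth.Agent.Lib.Helper15ChartSp Groth.Agent.Lib.Helper15Atlas
  Groth.Agent.Lib.Helper15LocEss Groth.Agent.Lib.Helper15UnivComp Groth.Agent.Lib.Helper15SmLoc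
  Groth.Agent.Lib.Helper15PtsComp Groth.Agent.Lib.Helper15PtsTop Groth.Agent.Lib.Helper15PtsQc
  Groth.Agent.Lib.Helper15FpSwap Groth.Agent.Lib.Helper15QcLocal Groth.Agent.Lib.Helper15ClosedQc
  Groth.Agent.Lib.Helper15UnivPts Groth.Agent.Lib.Helper15BaseChange
  Groth.Agent.Lib.Helper15MonoSep Groth.Agent.Lib.Helper15LocQ Groth.Agent.Lib.Helper15LocQEngine
  Groth.Agent.Lib.Helper15LocQProps Groth.Agent.Lib.Helper15LocQSpace

section B

variable {S : Scheme.{u}}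

theorem isLocalOnBase_isSurjectiveMor :
    AlgSp.IsLocalOnBase AlgSp.IsFppfCover (AlgSp.IsSurjectiveMor (S := S)) := by
  intro ι Y Yi g hY hYi hcov X f hX Xi p q hXi sq
  constructor
  · intro hf i
    exact bcStable_isSurjectiveMor hX hY (hXi i) (hYi i) f (g i) (p i) (q i) (sq i) hf
  · intro hp y
    obtain ⟨i, yi, hyi⟩ := hcov.2 y
    obtain ⟨xi, hxi⟩ := hp i yi
    exact ⟨AlgSp.Points.map (q i) xi, by
      rw [← AlgSp.Points.map_comp, (sq i).w, AlgSp.Points.map_comp, hxi, hyi]⟩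

/-- A map of algebraic spaces whose functor is representable by algebraic spaces with `Q` has
`Q`, for `Q` stable under base change and fppf local on the base. -/
theorem prop_of_repByAlgSpWith_ofSpMap (Q : MorphismProperty (AlgSp.Sp S)) (hQb : BCStable Q)
    (hQl : AlgSp.IsLocalOnBase AlgSp.IsFppfCover Q)
    (F G : AlgSp.Space S) (a : F ⟶ G) (h : AlgSt.RepByAlgSpWith Q (AlgSt.ofSpMap a.hom)) :
    Q a.hom := by
  obtain ⟨V₀, p, hpe, hps⟩ := G.property.atlas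
  let y : FibCat.overCat V₀ ⥤ᵇ AlgSt.ofSp G.obj :=
    BasedFunctor.comp (AlgSt.ofOverCat V₀) (AlgSt.ofSpMap p)
  obtain ⟨P', E, fst, hE, sq⟩ := exists_pullback_fp a.hom.hom y
  obtain ⟨hs, hA⟩ := (repBySp_of_spaces F G a.hom) _ fst _ sq
  let V' : AlgSp.Space S := ⟨⟨P', hs⟩, hA⟩
  let ξ : (AlgSp.yon S).obj V₀ ⟶ G.obj :=
    ObjectProperty.homMk (uliftYonedaEquiv.symm (pshSec y (Over.mk (𝟙 V₀))))
  let b' : V'.obj ⟶ F.obj := ObjectProperty.homMk fst
  let E' : AlgSt.ofSp V'.obj ⥤ᵇ FibCat.fp y (AlgSt.ofSpMap a.hom) := E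
  have hE' : FibCat.IsEquivOver E' := hE
  have sq' : IsPullback b'
      (AlgSt.spMapOfOver (BasedFunctor.comp E' (FibCat.fpFst y (AlgSt.ofSpMap a.hom)))) a.hom ξ :=
    IsPullback.of_map_of_faithful (sheafToPresheaf (AlgSp.J S) (Type (u + 1))) sq
  have hξ : ξ = p := by
    apply ObjectProperty.hom_ext
    change uliftYonedaEquiv.symm (pshSec y (Over.mk (𝟙 V₀))) = p.hom
    rw [pshSec_chart]
    exact uliftYonedaEquiv.symm_apply_apply p.hom
  rw [hξ] at sq'
  obtain ⟨F'', e'', he'', hQ''⟩ := h V₀ y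
  obtain ⟨i, hi⟩ := exists_iso_of_two_reps (AlgSt.ofSpMap a.hom) y F''.obj e'' he'' V'.obj E' hE'
  have hQE : Q (AlgSt.spMapOfOver
      (BasedFunctor.comp E' (FibCat.fpFst y (AlgSt.ofSpMap a.hom)))) := by
    rw [← hi]
    exact precomp_iso_of_bcStable Q hQb V'.property F''.property (AlgSp.IsAlgSpace.yon_obj V₀) i _
      hQ''
  exact ((hQl (fun _ : PUnit.{u + 1} => (AlgSp.yon S).obj V₀) (fun _ => p) G.property
    (fun _ => AlgSp.IsAlgSpace.yon_obj V₀) (isFppfCover_atlas G p hpe hps) a.hom F.property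
    (fun _ => V'.obj) (fun _ => _) (fun _ => b') (fun _ => V'.property) (fun _ => sq')).2
    (fun _ => hQE))

end B

section S12992

variable {S : Scheme.{u}}

theorem locQ_ofSpMap_of_prop (P : MorphismProperty (AlgSp.Sp S)) (hP : AlgSp.IsSmoothLocalST P)
    (F G : AlgSp.Space S) (a : F ⟶ G) (ha : P a.hom) : AlgSt.LocQ P (AlgSt.ofSpMap a.hom) := by
  have hid : ∀ X : AlgSp.Space S,
      AlgSt.RepByAlgSpWith (AlgSp.LocP @Smooth) (BasedFunctor.id (AlgSt.ofSp X.obj)) ∧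
      AlgSt.RepByAlgSpWith AlgSp.IsSurjectiveMor (BasedFunctor.id (AlgSt.ofSp X.obj)) := fun X =>
    ⟨Groth.Agent.Lib.Helper15EquivRep.repByAlgSpWith_of_isEquivOver _ locP_smooth_id _
      (isEquivOver_id _),
     Groth.Agent.Lib.Helper15EquivRep.repByAlgSpWith_of_isEquivOver _ isSurjectiveMor_id _
      (isEquivOver_id _)⟩
  refine locQ_of_space_square P hP _ F G (BasedFunctor.id _) (BasedFunctor.id _) a ?_ (hid F).1
    (hid F).2 (hid G).1 ha
  exact Iso.refl _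

theorem prop_of_locQ_ofSpMap (P : MorphismProperty (AlgSp.Sp S)) (hP : AlgSp.IsSmoothLocalST P)
    (F G : AlgSp.Space S) (a : F ⟶ G) (hL : AlgSt.LocQ P (AlgSt.ofSpMap a.hom)) : P a.hom := by
  obtain ⟨U, V, x, y, h, α, hx₁, hx₂, hy₁, hPh⟩ := hL
  obtain ⟨gx, ⟨ix⟩⟩ := exists_map_of_chart x
  obtain ⟨gy, ⟨iy⟩⟩ := exists_map_of_chart y
  let UU : AlgSp.Space S := ⟨(AlgSp.yon S).obj U, AlgSp.IsAlgSpace.yon_obj U⟩
  let VV : AlgSp.Space S := ⟨(AlgSp.yon S).obj V, AlgSp.IsAlgSpace.yon_obj V⟩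
  let ax : UU ⟶ F := ObjectProperty.homMk gx
  let ay : VV ⟶ G := ObjectProperty.homMk gy
  let hh : UU ⟶ VV := ObjectProperty.homMk ((AlgSp.yon S).map h)
  have hU : FibCat.IsFibGrpd (FibCat.overCat U).p := (isFibSet_overForget U).1
  have hU' : FibCat.IsFibGrpd (AlgSt.ofSch U).p :=
    (isFibSetoid_ofPsh ((AlgSp.yon S).obj U).obj).1
  have hV : FibCat.IsFibGrpd (FibCat.overCat V).p := (isFibSet_overForget V).1
  have hV' : FibCat.IsFibGrpd (AlgSt.ofSch V).p :=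
    (isFibSetoid_ofPsh ((AlgSp.yon S).obj V).obj).1
  have hcx := chart_precomp_equiv hU' hU (AlgSt.toOverCat U) (isEquivOver_toOverCat U) x
  have hcy := chart_precomp_equiv hV' hV (AlgSt.toOverCat V) (isEquivOver_toOverCat V) y
  let jx : BasedFunctor.comp (AlgSt.toOverCat U) x ≅ AlgSt.ofSpMap gx :=
    (whiskerLeftIso (AlgSt.toOverCat U) ix : _ ≅ BasedFunctor.comp (AlgSt.toOverCat U)
      (BasedFunctor.comp (AlgSt.ofOverCat U) (AlgSt.ofSpMap gx))) ≪≫ Iso.refl _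
  let jy : BasedFunctor.comp (AlgSt.toOverCat V) y ≅ AlgSt.ofSpMap gy :=
    (whiskerLeftIso (AlgSt.toOverCat V) iy : _ ≅ BasedFunctor.comp (AlgSt.toOverCat V)
      (BasedFunctor.comp (AlgSt.ofOverCat V) (AlgSt.ofSpMap gy))) ≪≫ Iso.refl _
  have hsx : AlgSp.LocP @Smooth ax.hom :=
    prop_of_repByAlgSpWith_ofSpMap _ bcStable_smooth isLocalOnBase_fppf_smooth UU F ax
      (repByAlgSpWith_of_iso _ jx (hcx.1 hx₁))
  have hjx : AlgSp.IsSurjectiveMor ax.hom :=
    prop_of_repByAlgSpWith_ofSpMap _ bcStable_isSurjectiveMor isLocalOnBase_isSurjectiveMor UU F ax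
      (repByAlgSpWith_of_iso _ jx (hcx.2 hx₂))
  have hsy : AlgSp.LocP @Smooth ay.hom :=
    prop_of_repByAlgSpWith_ofSpMap _ bcStable_smooth isLocalOnBase_fppf_smooth VV G ay
      (repByAlgSpWith_of_iso _ jy (hcy.1 hy₁))
  let β : BasedFunctor.comp (BasedFunctor.comp (AlgSt.ofOverCat U) (AlgSt.ofSpMap gx))
      (AlgSt.ofSpMap a.hom) ≅ BasedFunctor.comp (AlgSt.overMap h)
        (BasedFunctor.comp (AlgSt.ofOverCat V) (AlgSt.ofSpMap gy)) :=
    whiskerRightIso ix.symm _ ≪≫ α ≪≫ whiskerLeftIso (AlgSt.overMap h) iy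
  have hβ := pshSec_eq_of_hom β.hom (Over.mk (𝟙 U))
  have comm : gx ≫ a.hom = (AlgSp.yon S).map h ≫ gy := by
    apply ObjectProperty.hom_ext
    apply uliftYonedaEquiv.injective
    change pshSec (BasedFunctor.comp (BasedFunctor.comp (AlgSt.ofOverCat U) (AlgSt.ofSpMap gx))
      (Stk.ofPshMap a.hom.hom)) (Over.mk (𝟙 U)) = _ at hβ
    rw [pshSec_comp_ofPshMap, pshSec_chart, pshSec_comp, pshSec_chart] at hβ
    refine Eq.trans hβ ?_
    exact psh_map_id_op _ _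
  exact (Groth.Agent.S10566.result hP a).1.2 ⟨UU, VV, ax, ay, hh, hsx, hsy, hjx,
    ObjectProperty.hom_ext _ comm, hPh⟩

theorem locQ_ofSpMap_iff (P : MorphismProperty (AlgSp.Sp S)) (hP : AlgSp.IsSmoothLocalST P)
    (F G : AlgSp.Space S) (a : F ⟶ G) : AlgSt.LocQ P (AlgSt.ofSpMap a.hom) ↔ P a.hom :=
  ⟨prop_of_locQ_ofSpMap P hP F G a, locQ_ofSpMap_of_prop P hP F G a⟩

end S12992

end Groth.Agent.Lib.Helper15LocQSpace2
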