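-- helper15: chart-square properties of functors representable by algebraic spaces agree with the representable notion
import Mathlib
import Groth.Agent.Lib.Helper15LocQSpace2

set_option autoImplicit false
set_option backward.isDefEq.respectTransparency false
set_option backward.isDefEq.respectTransparency.types false
open CategoryTheory CategoryTheory.Functor CategoryTheory.Limits Opposite AlgebraicGeometry

universe u

namespace Groth.Agent.Lib.Helper15LocQRep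

open Groth.Agent.Lib.Helper17 Groth.Agent.Lib.Helper15PshFib Groth.Agent.Lib.Helper15RepComp
  Groth.Agent.Lib.Helper15RepPsh Groth.Agent.Lib.Helper15DiagBase Groth.Agent.Lib.Helper15DiagRepSp
  Groth.Agent.Lib.Helper15Descent Groth.Agent.Lib.Helper15DiagLft
  Groth.Agent.Lib.Helper15DiagDescent Groth.Agent.Lib.Helper15SpMapRep
  Groth.Agent.Lib.Helper15SrcCancel Groth.Agent.Lib.Helper15ChartSp Groth.Agent.Lib.Helper15Atlas
  Groth.Agent.Lib.Helper15LocEss Groth.Agent.Lib.Helper15UnivComp Groth.Agent.Lib.Helper15SmLoc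
  Groth.Agent.Lib.Helper15PtsComp Groth.Agent.Lib.Helper15PtsTop Groth.Agent.Lib.Helper15PtsQc
  Groth.Agent.Lib.Helper15FpSwap Groth.Agent.Lib.Helper15QcLocal Groth.Agent.Lib.Helper15ClosedQc
  Groth.Agent.Lib.Helper15UnivPts Groth.Agent.Lib.Helper15BaseChange
  Groth.Agent.Lib.Helper15MonoSep Groth.Agent.Lib.Helper15LocQ Groth.Agent.Lib.Helper15LocQEngine
  Groth.Agent.Lib.Helper15LocQProps Groth.Agent.Lib.Helper15LocQSpace
  Groth.Agent.Lib.Helper15LocQSpace2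

section Good

variable {S : Scheme.{u}} {𝒳 𝒴 : AlgSt.Cat S}

/-- The chart square of a functor representable by algebraic spaces over a smooth chart of the
target, attached to an etale chart of the representing space, is a good square. -/
theorem exists_good_chart_of_rep (h𝒳 : FibCat.IsFibGrpd 𝒳.p) (h𝒴 : FibCat.IsFibGrpd 𝒴.p)
    (f : 𝒳 ⥤ᵇ 𝒴) {V : Over S} (y₀ : FibCat.overCat V ⥤ᵇ 𝒴)
    (hy₁ : AlgSt.RepByAlgSpWith (AlgSp.LocP @Smooth) y₀)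
    (F : AlgSp.Space S) (e : AlgSt.ofSp F.obj ⥤ᵇ FibCat.fp y₀ f) (he : FibCat.IsEquivOver e)
    {U : Over S} (s : (AlgSp.yon S).obj U ⟶ F.obj) (hse : AlgSp.RepWith @Etale s) (h : U ⟶ V)
    (hh : (AlgSp.yon S).map h = s ≫ AlgSt.spMapOfOver (BasedFunctor.comp e (FibCat.fpFst y₀ f))) :
    ∃ (x : FibCat.overCat U ⥤ᵇ 𝒳)
      (α : BasedFunctor.comp x f ≅ BasedFunctor.comp (AlgSt.overMap h) y₀),
      AlgSt.RepByAlgSpWith (AlgSp.LocP @Smooth) x ∧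
      AlgSt.RepByAlgSpWith (AlgSp.LocP @Smooth) (FibCat.fpLift x (AlgSt.overMap h) α) := by
  have hU : FibCat.IsFibGrpd (FibCat.overCat U).p := (isFibSet_overForget U).1
  have hV : FibCat.IsFibGrpd (FibCat.overCat V).p := (isFibSet_overForget V).1
  have hF : FibCat.IsFibGrpd (AlgSt.ofSp F.obj).p := (isFibSetoid_ofPsh F.obj.obj).1
  have hfp : FibCat.IsFibGrpd (FibCat.fp y₀ f).p := isFibGrpd_fp y₀ f hV h𝒳 h𝒴
  let A : FibCat.overCat U ⥤ᵇ AlgSt.ofSp F.obj :=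
    BasedFunctor.comp (AlgSt.ofOverCat U) (AlgSt.ofSpMap s)
  have hA : AlgSt.RepByAlgSpWith (AlgSp.LocP @Smooth) A :=
    repByAlgSpWith_etale_chart _ (fun X T t ht => locP_smooth_of_repWith_etale (X := X)
      (Y := ⟨(AlgSp.yon S).obj T, AlgSp.IsAlgSpace.yon_obj T⟩) t ht) F s hse
  let x' : AlgSt.ofSp F.obj ⥤ᵇ 𝒳 := BasedFunctor.comp e (FibCat.fpSnd y₀ f)
  have hx'₁ : AlgSt.RepByAlgSpWith (AlgSp.LocP @Smooth) x' :=
    (chart_precomp_equiv hF hfp e he (FibCat.fpSnd y₀ f)).1 (repByAlgSpWith_fpSnd _ y₀ f hy₁)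
  let lam := isoOverMapOfChart (BasedFunctor.comp e (FibCat.fpFst y₀ f)) s h hh
  let α : BasedFunctor.comp (BasedFunctor.comp A x') f ≅
      BasedFunctor.comp (AlgSt.overMap h) y₀ :=
    (whiskerLeftIso (BasedFunctor.comp A e) (FibCat.fpIso y₀ f)).symm ≪≫
    (whiskerRightIso lam y₀ :
      BasedFunctor.comp (BasedFunctor.comp A (BasedFunctor.comp e (FibCat.fpFst y₀ f))) y₀ ≅ _)
  refine ⟨BasedFunctor.comp A x', α,
    repByAlgSpWith_comp_of_compCond hU hF _ compCond_smooth A x' hA hx'₁, ?_⟩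
  -- the lift is the chart followed by equivalences
  let K : FibCat.overCat U ⥤ᵇ FibCat.fp f y₀ :=
    BasedFunctor.comp A (BasedFunctor.comp e (fpSwap y₀ f))
  have hK : AlgSt.RepByAlgSpWith (AlgSp.LocP @Smooth) K :=
    repByAlgSpWith_comp_of_compCond hU hF _ compCond_smooth A _ hA
      (Groth.Agent.Lib.Helper15EquivRep.repByAlgSpWith_of_isEquivOver _ locP_smooth_id _
        (IsEquivOver.comp _ _ he (isEquivOver_fpSwap y₀ f)))
  refine repByAlgSpWith_of_iso _ ?_ hK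
  exact fpIsoMk f y₀ (H := K) (K := FibCat.fpLift (BasedFunctor.comp A x') (AlgSt.overMap h) α)
    (Iso.refl _) lam
    (fun a => by
      change f.map (𝟙 _) ≫ _ = _
      rw [f.toFunctor.map_id, Category.id_comp]
      rfl)

end Good

section S12993

variable {S : Scheme.{u}} {𝒳 𝒴 : AlgSt.Cat S}

/-- `P` of the representing space over one smooth chart, from `P` on a chart square. -/
theorem prop_atlas_of_locQ (P : MorphismProperty (AlgSp.Sp S)) (hP : AlgSp.IsSmoothLocalST P)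
    (h𝒳 : AlgSt.IsAlgStack Scheme.fppfPrecoverage 𝒳)
    (h𝒴 : AlgSt.IsAlgStack Scheme.fppfPrecoverage 𝒴) (f : 𝒳 ⥤ᵇ 𝒴) (hL : AlgSt.LocQ P f)
    {V : Over S} (y₀ : FibCat.overCat V ⥤ᵇ 𝒴)
    (hy₁ : AlgSt.RepByAlgSpWith (AlgSp.LocP @Smooth) y₀)
    (F : AlgSp.Space S) (e : AlgSt.ofSp F.obj ⥤ᵇ FibCat.fp y₀ f) (he : FibCat.IsEquivOver e) :
    P (AlgSt.spMapOfOver (BasedFunctor.comp e (FibCat.fpFst y₀ f))) := by
  obtain ⟨U, s, hse, hss⟩ := F.property.atlas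
  obtain ⟨h, hh⟩ := (AlgSp.yon S).map_surjective
    (s ≫ AlgSt.spMapOfOver (BasedFunctor.comp e (FibCat.fpFst y₀ f)))
  obtain ⟨x, α, hx₁, hgood⟩ := exists_good_chart_of_rep h𝒳.isStack.1 h𝒴.isStack.1 f y₀ hy₁ F e he
    s hse h hh
  have hPh : P ((AlgSp.yon S).map h) :=
    (locQ_iff_forall_good P hP h𝒳 h𝒴 f).1 hL U V x y₀ h α hx₁ hy₁ hgood
  rw [hh] at hPh
  let UU : AlgSp.Space S := ⟨(AlgSp.yon S).obj U, AlgSp.IsAlgSpace.yon_obj U⟩
  have hcov : AlgSp.IsSmCover (fun _ : PUnit.{u + 1} => (AlgSp.yon S).obj U) (fun _ => s) :=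
    ⟨fun _ => locP_smooth_of_repWith_etale (X := UU) (Y := F) s hse, fun p => by
      obtain ⟨q, hq⟩ := isSurjectiveMor_atlas F s hse hss p
      exact ⟨PUnit.unit, q, hq⟩⟩
  exact ((Groth.Agent.S10565.result hP).1 (fun _ : PUnit.{u + 1} => (AlgSp.yon S).obj U)
    (fun _ => s) F.property (fun _ => AlgSp.IsAlgSpace.yon_obj U) hcov _
    (AlgSp.IsAlgSpace.yon_obj V)).2 (fun _ => hPh)

theorem repByAlgSpWith_of_locQ (P : MorphismProperty (AlgSp.Sp S)) (hP : AlgSp.IsSmoothLocalST P)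
    (hP₁ : BCStable P) (hP₂ : AlgSp.IsLocalOnBase AlgSp.IsFppfCover P)
    (h𝒳 : AlgSt.IsAlgStack Scheme.fppfPrecoverage 𝒳)
    (h𝒴 : AlgSt.IsAlgStack Scheme.fppfPrecoverage 𝒴) (f : 𝒳 ⥤ᵇ 𝒴) (hf : AlgSt.RepByAlgSp1 f)
    (hL : AlgSt.LocQ P f) : AlgSt.RepByAlgSpWith P f := by
  intro T t
  obtain ⟨F, e, he⟩ := hf T t
  refine ⟨F, e, he, ?_⟩
  obtain ⟨V, y₀, hy₁, hy₂⟩ := h𝒴.atlas
  obtain ⟨F_V, e_V, he_V⟩ := hf V y₀
  have hPV := prop_atlas_of_locQ P hP h𝒳 h𝒴 f hL y₀ hy₁ F_V e_V he_V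
  obtain ⟨W, h₁, h₂, hfl, hfp, ⟨κ⟩, hsurj, -⟩ := exists_scheme_square h𝒴.isStack.1 t y₀
    (flat_of_smooth hy₁) (lfp_of_smooth hy₁)
  let y' : FibCat.overCat W ⥤ᵇ 𝒴 := BasedFunctor.comp (AlgSt.overMap h₂) y₀
  obtain ⟨F', e', he'⟩ := hf W y'
  obtain ⟨q, sq⟩ := exists_isPullback_baseChange f y₀ F_V.obj e_V he_V h₂ y' (Iso.refl _) F'.obj e'
    he'
  have hP' : P (AlgSt.spMapOfOver (BasedFunctor.comp e' (FibCat.fpFst y' f))) :=
    hP₁ F_V.property (AlgSp.IsAlgSpace.yon_obj V) F'.property (AlgSp.IsAlgSpace.yon_obj W) _ _ _ _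
      sq hPV
  have hs := hsurj hy₂
  exact prop_of_baseChange_family P hP₂ f t F e he (fun _ : PUnit.{u + 1} => W) (fun _ => h₁)
    (isFppfCover_of_schemes _ _ (fun _ => hfl) (fun _ => hfp)
      (fun x => ⟨PUnit.unit, hs x⟩))
    (fun _ => y') (fun _ => κ.symm) (fun _ => F') (fun _ => e') (fun _ => he') (fun _ => hP')

theorem locQ_of_repByAlgSpWith (P : MorphismProperty (AlgSp.Sp S)) (hP : AlgSp.IsSmoothLocalST P)
    (h𝒳 : AlgSt.IsAlgStack Scheme.fppfPrecoverage 𝒳)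
    (h𝒴 : AlgSt.IsAlgStack Scheme.fppfPrecoverage 𝒴) (f : 𝒳 ⥤ᵇ 𝒴)
    (hf : AlgSt.RepByAlgSpWith P f) : AlgSt.LocQ P f := by
  refine locQ_of_rep h𝒳 h𝒴 f P P hf (fun F V p hp => ?_)
  obtain ⟨U, s, hse, hss⟩ := F.property.atlas
  obtain ⟨h, hh⟩ := (AlgSp.yon S).map_surjective (s ≫ p)
  let UU : AlgSp.Space S := ⟨(AlgSp.yon S).obj U, AlgSp.IsAlgSpace.yon_obj U⟩
  refine ⟨U, s, h, hse, hss, hh, ?_⟩
  rw [hh]
  exact hP.precomp UU.property F.property (AlgSp.IsAlgSpace.yon_obj V) s p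
    (locP_smooth_of_repWith_etale (X := UU) (Y := F) s hse) hp

theorem locQ_iff_repByAlgSpWith (P : MorphismProperty (AlgSp.Sp S)) (hP : AlgSp.IsSmoothLocalST P)
    (hP₁ : BCStable P) (hP₂ : AlgSp.IsLocalOnBase AlgSp.IsFppfCover P)
    (h𝒳 : AlgSt.IsAlgStack Scheme.fppfPrecoverage 𝒳)
    (h𝒴 : AlgSt.IsAlgStack Scheme.fppfPrecoverage 𝒴) (f : 𝒳 ⥤ᵇ 𝒴) (hf : AlgSt.RepByAlgSp1 f) :
    AlgSt.LocQ P f ↔ AlgSt.RepByAlgSpWith P f :=
  ⟨repByAlgSpWith_of_locQ P hP hP₁ hP₂ h𝒳 h𝒴 f hf, locQ_of_repByAlgSpWith P hP h𝒳 h𝒴 f⟩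

end S12993

end Groth.Agent.Lib.Helper15LocQRep
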