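-- helper15: good chart squares over a given chart; composition of chart-square properties of functors of algebraic stacks
import Mathlib
import Groth.Agent.Lib.Helper15LocQRep

set_option autoImplicit false
set_option backward.isDefEq.respectTransparency false
set_option backward.isDefEq.respectTransparency.types false
open CategoryTheory CategoryTheory.Functor CategoryTheory.Limits Opposite AlgebraicGeometry

universe u

namespace Groth.Agent.Lib.Helper15LocQComp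

open Groth.Agent.Lib.Helper17 Groth.Agent.Lib.Helper15PshFib Groth.Agent.Lib.Helper15RepComp
  Groth.Agent.Lib.Helper15RepPsh Groth.Agent.Lib.Helper15DiagBase Groth.Agent.Lib.Helper15DiagRepSp
  Groth.Agent.Lib.Helper15Descent Groth.Agent.Lib.Helper15DiagLft
  Groth.Agent.Lib.Helper15DiagDescent Groth.Agent.Lib.Helper15SpMapRep
  Groth.Agent.Lib.Helper15SrcCancel Groth.Agent.Lib.Helper15ChartSp Groth.Agent.Lib.Helper15Atlas
  Groth.Agent.Lib.Helper15LocEss Groth.Agent.Lib.Helper15UnivComp Groth.Agent.Lib.Helper15SmLoc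
  Groth.Agent.Lib.Helper15PtsComp Groth.Agent.Lib.Helper15PtsTop Groth.Agent.Lib.Helper15PtsQc
  Groth.Agent.Lib.Helper15FpSwap Groth.Agent.Lib.Helper15QcLocal Groth.Agent.Lib.Helper15ClosedQc
  Groth.Agent.Lib.Helper15UnivPts Groth.Agent.Lib.Helper15BaseChange
  Groth.Agent.Lib.Helper15MonoSep Groth.Agent.Lib.Helper15LocQ Groth.Agent.Lib.Helper15LocQEngine
  Groth.Agent.Lib.Helper15LocQProps Groth.Agent.Lib.Helper15LocQSpace
  Groth.Agent.Lib.Helper15LocQSpace2 Groth.Agent.Lib.Helper15LocQRep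

section A

variable {S : Scheme.{u}} {𝒳 𝒴 𝒵 : AlgSt.Cat S}

/-- A good chart square over a given chart of the target. -/
theorem exists_good_square_over (h𝒳 : AlgSt.IsAlgStack Scheme.fppfPrecoverage 𝒳)
    (h𝒴 : AlgSt.IsAlgStack Scheme.fppfPrecoverage 𝒴) (f : 𝒳 ⥤ᵇ 𝒴) {V : Over S}
    (y : FibCat.overCat V ⥤ᵇ 𝒴) :
    ∃ (U : Over S) (x : FibCat.overCat U ⥤ᵇ 𝒳) (h : U ⟶ V)
      (α : BasedFunctor.comp x f ≅ BasedFunctor.comp (AlgSt.overMap h) y),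
      AlgSt.RepByAlgSpWith (AlgSp.LocP @Smooth) (FibCat.fpLift x (AlgSt.overMap h) α) ∧
      AlgSt.RepByAlgSpWith AlgSp.IsSurjectiveMor (FibCat.fpLift x (AlgSt.overMap h) α) ∧
      (AlgSt.RepByAlgSpWith (AlgSp.LocP @Smooth) y →
        AlgSt.RepByAlgSpWith (AlgSp.LocP @Smooth) x) ∧
      (AlgSt.RepByAlgSpWith AlgSp.IsSurjectiveMor y →
        AlgSt.RepByAlgSpWith AlgSp.IsSurjectiveMor x) := by
  have hpre𝒴 := IsStack.isPrestack _ h𝒴.isStack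
  have hZ : AlgSt.IsAlgStack Scheme.fppfPrecoverage (FibCat.fp f y) :=
    isAlgStack_fp_of_isPrestack hpre𝒴 h𝒴.diag h𝒳 (isAlgStack_overCat V) f y
  obtain ⟨U, ℓ, hℓ₁, hℓ₂⟩ := hZ.atlas
  have hU : FibCat.IsFibGrpd (FibCat.overCat U).p := (isFibSet_overForget U).1
  obtain ⟨h, ⟨lam⟩⟩ := exists_iso_overMap (BasedFunctor.comp ℓ (FibCat.fpSnd f y))
  let x : FibCat.overCat U ⥤ᵇ 𝒳 := BasedFunctor.comp ℓ (FibCat.fpFst f y)
  let α : BasedFunctor.comp x f ≅ BasedFunctor.comp (AlgSt.overMap h) y :=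
    (whiskerLeftIso ℓ (FibCat.fpIso f y) : BasedFunctor.comp x f ≅
      BasedFunctor.comp (BasedFunctor.comp ℓ (FibCat.fpSnd f y)) y) ≪≫ whiskerRightIso lam y
  have i : ℓ ≅ FibCat.fpLift x (AlgSt.overMap h) α :=
    fpIsoMk f y (H := ℓ) (K := FibCat.fpLift x (AlgSt.overMap h) α) (Iso.refl _) lam
      (fun a => by
        change f.map (𝟙 _) ≫ ((ℓ.obj a).obj.iso.hom ≫ y.map (lam.hom.toNatTrans.app a)) = _
        rw [f.toFunctor.map_id, Category.id_comp])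
  refine ⟨U, x, h, α, repByAlgSpWith_of_iso _ i hℓ₁, repByAlgSpWith_of_iso _ i hℓ₂, ?_, ?_⟩
  · intro hy₁
    exact repByAlgSpWith_comp_of_compCond hU hZ.isStack.1 _ compCond_smooth ℓ (FibCat.fpFst f y) hℓ₁
      (repByAlgSpWith_fpFst _ y f hy₁)
  · intro hy₂
    exact repByAlgSpWith_comp_of_compCond hU hZ.isStack.1 _ compCond_isSurjectiveMor ℓ
      (FibCat.fpFst f y) hℓ₂ (repByAlgSpWith_fpFst _ y f hy₂)

/-- The composite of two chart squares. -/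
noncomputable def compSquareIso (f : 𝒳 ⥤ᵇ 𝒴) (g : 𝒴 ⥤ᵇ 𝒵) {U V W : Over S}
    (x : FibCat.overCat U ⥤ᵇ 𝒳) (y : FibCat.overCat V ⥤ᵇ 𝒴) (z : FibCat.overCat W ⥤ᵇ 𝒵)
    (h : U ⟶ V) (k : V ⟶ W)
    (α : BasedFunctor.comp x f ≅ BasedFunctor.comp (AlgSt.overMap h) y)
    (β : BasedFunctor.comp y g ≅ BasedFunctor.comp (AlgSt.overMap k) z) :
    BasedFunctor.comp x (BasedFunctor.comp f g) ≅ BasedFunctor.comp (AlgSt.overMap (h ≫ k)) z :=
  (whiskerRightIso α g : BasedFunctor.comp x (BasedFunctor.comp f g) ≅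
    BasedFunctor.comp (AlgSt.overMap h) (BasedFunctor.comp y g)) ≪≫
  (whiskerLeftIso (AlgSt.overMap h) β : _ ≅ BasedFunctor.comp (BasedFunctor.comp (AlgSt.overMap h)
    (AlgSt.overMap k)) z) ≪≫
  whiskerRightIso (isoOfOverCat (fun c => by
    rw [ovSec_comp, ovSec_overMap, ovSec_overMap]
    change eqToHom _ ≫ (c.hom ≫ h) ≫ k = c.hom ≫ h ≫ k
    simp) : BasedFunctor.comp (AlgSt.overMap h) (AlgSt.overMap k) ≅ AlgSt.overMap (h ≫ k)) z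

end A

section S13038

variable {S : Scheme.{u}} {𝒳 𝒴 𝒵 : AlgSt.Cat S}

theorem locQ_comp (P : MorphismProperty (AlgSp.Sp S)) (hP : AlgSp.IsSmoothLocalST P)
    (hPc : ∀ ⦃X₁ Y₁ Z₁ : AlgSp.Sp S⦄, AlgSp.IsAlgSpace X₁ → AlgSp.IsAlgSpace Y₁ →
      AlgSp.IsAlgSpace Z₁ → ∀ (a : X₁ ⟶ Y₁) (b : Y₁ ⟶ Z₁), P a → P b → P (a ≫ b))
    (h𝒳 : AlgSt.IsAlgStack Scheme.fppfPrecoverage 𝒳)
    (h𝒴 : AlgSt.IsAlgStack Scheme.fppfPrecoverage 𝒴)
    (h𝒵 : AlgSt.IsAlgStack Scheme.fppfPrecoverage 𝒵)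
    (f : 𝒳 ⥤ᵇ 𝒴) (g : 𝒴 ⥤ᵇ 𝒵) (hf : AlgSt.LocQ P f) (hg : AlgSt.LocQ P g) :
    AlgSt.LocQ P (BasedFunctor.comp f g) := by
  obtain ⟨W, z, hz₁, hz₂⟩ := h𝒵.atlas
  obtain ⟨V, y, k, β, hβ₁, hβ₂, hy₁, hy₂⟩ := exists_good_square_over h𝒴 h𝒵 g z
  obtain ⟨U, x, h, α, hα₁, hα₂, hx₁, hx₂⟩ := exists_good_square_over h𝒳 h𝒴 f y
  have hPk : P ((AlgSp.yon S).map k) :=
    (locQ_iff_forall_good P hP h𝒴 h𝒵 g).1 hg V W y z k β (hy₁ hz₁) hz₁ hβ₁
  have hPh : P ((AlgSp.yon S).map h) :=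
    (locQ_iff_forall_good P hP h𝒳 h𝒴 f).1 hf U V x y h α (hx₁ (hy₁ hz₁)) (hy₁ hz₁) hα₁
  refine ⟨U, W, x, z, h ≫ k, compSquareIso f g x y z h k α β, hx₁ (hy₁ hz₁),
    hx₂ (hy₂ hz₂), hz₁, ?_⟩
  rw [Functor.map_comp]
  exact hPc (AlgSp.IsAlgSpace.yon_obj U) (AlgSp.IsAlgSpace.yon_obj V) (AlgSp.IsAlgSpace.yon_obj W)
    _ _ hPh hPk

end S13038

end Groth.Agent.Lib.Helper15LocQComp
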