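-- helper15: the composite of two good chart squares is good; cancellation of locally of finite type for functors of algebraic stacks
import Mathlib
import Groth.Agent.Lib.Helper15LocQComp

set_option autoImplicit false
set_option backward.isDefEq.respectTransparency false
set_option backward.isDefEq.respectTransparency.types false
open CategoryTheory CategoryTheory.Functor CategoryTheory.Limits Opposite AlgebraicGeometry

universe u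

namespace Groth.Agent.Lib.Helper15GoodComp

open Groth.Agent.Lib.Helper17 Groth.Agent.Lib.Helper15PshFib Groth.Agent.Lib.Helper15RepComp
  Groth.Agent.Lib.Helper15RepPsh Groth.Agent.Lib.Helper15DiagBase Groth.Agent.Lib.Helper15DiagRepSp
  Groth.Agent.Lib.Helper15Descent Groth.Agent.Lib.Helper15DiagLft
  Groth.Agent.Lib.Helper15DiagDescent Groth.Agent.Lib.Helper15SpMapRep
  Groth.Agent.Lib.Helper15SrcCancel Groth.Agent.Lib.Helper15ChartSp Groth.Agent.Lib.Helper15Atlas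
  Groth.Agent.Lib.Helper15LocEss Groth.Agent.Lib.Helper15UnivComp Groth.Agent.Lib.Helper15SmLoc
  Groth.Agent.Lib.Helper15PtsComp Groth.Agent.Lib.Helper15PtsTop Groth.Agent.Lib.Helper15PtsQc
  Groth.Agent.Lib.Helper15FpSwap Groth.Agent.Lib.Helper15QcLocal Groth.Agent.Lib.Helper15ClosedQc
  Groth.Agent.Lib.Helper15UnivPts Groth.Agent.Lib.Helper15BaseChange
  Groth.Agent.Lib.Helper15MonoSep Groth.Agent.Lib.Helper15LocQ Groth.Agent.Lib.Helper15LocQEngine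
  Groth.Agent.Lib.Helper15LocQProps Groth.Agent.Lib.Helper15LocQSpace
  Groth.Agent.Lib.Helper15LocQSpace2 Groth.Agent.Lib.Helper15LocQRep
  Groth.Agent.Lib.Helper15LocQComp

section C

variable {S : Scheme.{u}} {𝒰 𝒱 𝒲 𝒳 𝒴 𝒵 : AlgSt.Cat S}

/-- The 2-isomorphism used to define `fpCompMap`. -/
noncomputable def fpCompMapIso (f : 𝒳 ⥤ᵇ 𝒴) (g : 𝒴 ⥤ᵇ 𝒵) (z : 𝒲 ⥤ᵇ 𝒵)
    (ℓ : 𝒱 ⥤ᵇ FibCat.fp g z) :
    BasedFunctor.comp (FibCat.fpFst f (BasedFunctor.comp ℓ (FibCat.fpFst g z)))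
        (BasedFunctor.comp f g) ≅
      BasedFunctor.comp (BasedFunctor.comp (FibCat.fpSnd f (BasedFunctor.comp ℓ (FibCat.fpFst g z)))
        (BasedFunctor.comp ℓ (FibCat.fpSnd g z))) z :=
  (whiskerRightIso (FibCat.fpIso f (BasedFunctor.comp ℓ (FibCat.fpFst g z))) g : _ ≅
    BasedFunctor.comp (BasedFunctor.comp (FibCat.fpSnd f (BasedFunctor.comp ℓ (FibCat.fpFst g z))) ℓ)
      (BasedFunctor.comp (FibCat.fpFst g z) g)) ≪≫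
  whiskerLeftIso (BasedFunctor.comp (FibCat.fpSnd f (BasedFunctor.comp ℓ (FibCat.fpFst g z))) ℓ)
    (FibCat.fpIso g z)

/-- The functor `𝒳 ×_𝒴 𝒱 ⟶ 𝒳 ×_𝒵 𝒲` induced by `ℓ : 𝒱 ⟶ 𝒴 ×_𝒵 𝒲`. -/
noncomputable def fpCompMap (f : 𝒳 ⥤ᵇ 𝒴) (g : 𝒴 ⥤ᵇ 𝒵) (z : 𝒲 ⥤ᵇ 𝒵) (ℓ : 𝒱 ⥤ᵇ FibCat.fp g z) :
    FibCat.fp f (BasedFunctor.comp ℓ (FibCat.fpFst g z)) ⥤ᵇ FibCat.fp (BasedFunctor.comp f g) z :=
  FibCat.fpLift (FibCat.fpFst f (BasedFunctor.comp ℓ (FibCat.fpFst g z)))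
    (BasedFunctor.comp (FibCat.fpSnd f (BasedFunctor.comp ℓ (FibCat.fpFst g z)))
      (BasedFunctor.comp ℓ (FibCat.fpSnd g z))) (fpCompMapIso f g z ℓ)

/-- `fpCompMap` is a base change of `ℓ`. -/
noncomputable def fpCompMapSqIso (f : 𝒳 ⥤ᵇ 𝒴) (g : 𝒴 ⥤ᵇ 𝒵) (z : 𝒲 ⥤ᵇ 𝒵)
    (ℓ : 𝒱 ⥤ᵇ FibCat.fp g z) :
    BasedFunctor.comp (pasteR f ℓ (FibCat.fpFst g z)) (fpCompMap f g z ℓ) ≅
      BasedFunctor.comp (FibCat.fpFst (FibCat.fpSnd f (FibCat.fpFst g z)) ℓ) (pasteL z g f) :=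
  fpIsoMk (BasedFunctor.comp f g) z
    (H := BasedFunctor.comp (pasteR f ℓ (FibCat.fpFst g z)) (fpCompMap f g z ℓ))
    (K := BasedFunctor.comp (FibCat.fpFst (FibCat.fpSnd f (FibCat.fpFst g z)) ℓ) (pasteL z g f))
    (Iso.refl _)
    (whiskerRightIso (FibCat.fpIso (FibCat.fpSnd f (FibCat.fpFst g z)) ℓ).symm (FibCat.fpSnd g z))
    (fun s => by
      have hw := s.obj.iso.hom.hom.w
      have hinv : s.obj.iso.hom.hom.snd ≫ s.obj.iso.inv.hom.snd = 𝟙 _ :=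
        congrArg (fun m => m.hom.snd) s.obj.iso.hom_inv_id
      change g.map (f.map (𝟙 _)) ≫ (g.map s.obj.fst.obj.iso.hom ≫ s.obj.fst.obj.snd.obj.iso.hom) =
        (g.map (s.obj.fst.obj.iso.hom ≫ s.obj.iso.hom.hom.fst) ≫ (ℓ.obj s.obj.snd).obj.iso.hom) ≫
          z.map (s.obj.iso.inv.hom.snd)
      rw [f.toFunctor.map_id, g.toFunctor.map_id, Category.id_comp, g.toFunctor.map_comp,
        Category.assoc, Category.assoc]
      rw [reassoc_of% hw]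
      change _ = g.map s.obj.fst.obj.iso.hom ≫ s.obj.fst.obj.snd.obj.iso.hom ≫
        z.map s.obj.iso.hom.hom.snd ≫ z.map s.obj.iso.inv.hom.snd
      rw [← z.toFunctor.map_comp, hinv]
      erw [z.toFunctor.map_id, Category.comp_id])

theorem repByAlgSpWith_fpCompMap (Q : MorphismProperty (AlgSp.Sp S)) (f : 𝒳 ⥤ᵇ 𝒴) (g : 𝒴 ⥤ᵇ 𝒵)
    (z : 𝒲 ⥤ᵇ 𝒵) (ℓ : 𝒱 ⥤ᵇ FibCat.fp g z) (hℓ : AlgSt.RepByAlgSpWith Q ℓ) :
    AlgSt.RepByAlgSpWith Q (fpCompMap f g z ℓ) := by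
  have h1 : AlgSt.RepByAlgSpWith Q (FibCat.fpFst (FibCat.fpSnd f (FibCat.fpFst g z)) ℓ) :=
    repByAlgSpWith_fpFst Q ℓ (FibCat.fpSnd f (FibCat.fpFst g z)) hℓ
  have h2 : AlgSt.RepByAlgSpWith Q
      (BasedFunctor.comp (FibCat.fpFst (FibCat.fpSnd f (FibCat.fpFst g z)) ℓ) (pasteL z g f)) :=
    (repByAlgSpWith_of_square Q
      (BasedFunctor.comp (FibCat.fpFst (FibCat.fpSnd f (FibCat.fpFst g z)) ℓ) (pasteL z g f))
      (FibCat.fpFst (FibCat.fpSnd f (FibCat.fpFst g z)) ℓ) (BasedFunctor.id _) (pasteL z g f)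
      (isEquivOver_id _) (isEquivOver_pasteL z g f) (Iso.refl _)).2 h1
  exact (repByAlgSpWith_of_square Q (fpCompMap f g z ℓ)
    (BasedFunctor.comp (FibCat.fpFst (FibCat.fpSnd f (FibCat.fpFst g z)) ℓ) (pasteL z g f))
    (pasteR f ℓ (FibCat.fpFst g z)) (BasedFunctor.id _) (isEquivOver_pasteR f ℓ (FibCat.fpFst g z))
    (isEquivOver_id _) (fpCompMapSqIso f g z ℓ).symm).2 h2

end C

section Good

variable {S : Scheme.{u}} {𝒳 𝒴 𝒵 : AlgSt.Cat S}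

noncomputable def overMapCompIso {U V W : Over S} (h : U ⟶ V) (k : V ⟶ W) :
    BasedFunctor.comp (AlgSt.overMap h) (AlgSt.overMap k) ≅ AlgSt.overMap (h ≫ k) :=
  isoOfOverCat (fun c => by
    rw [ovSec_comp, ovSec_overMap, ovSec_overMap]
    change eqToHom _ ≫ (c.hom ≫ h) ≫ k = c.hom ≫ h ≫ k
    simp)

/-- The composite of two chart squares. -/
noncomputable def compSqIso (f : 𝒳 ⥤ᵇ 𝒴) (g : 𝒴 ⥤ᵇ 𝒵) {U V W : Over S}
    (x : FibCat.overCat U ⥤ᵇ 𝒳) (y : FibCat.overCat V ⥤ᵇ 𝒴) (z : FibCat.overCat W ⥤ᵇ 𝒵)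
    (h : U ⟶ V) (k : V ⟶ W)
    (α : BasedFunctor.comp x f ≅ BasedFunctor.comp (AlgSt.overMap h) y)
    (β : BasedFunctor.comp y g ≅ BasedFunctor.comp (AlgSt.overMap k) z) :
    BasedFunctor.comp x (BasedFunctor.comp f g) ≅ BasedFunctor.comp (AlgSt.overMap (h ≫ k)) z :=
  (whiskerRightIso α g : BasedFunctor.comp x (BasedFunctor.comp f g) ≅
    BasedFunctor.comp (AlgSt.overMap h) (BasedFunctor.comp y g)) ≪≫
  (whiskerLeftIso (AlgSt.overMap h) β : _ ≅ BasedFunctor.comp (BasedFunctor.comp (AlgSt.overMap h)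
    (AlgSt.overMap k)) z) ≪≫
  whiskerRightIso (overMapCompIso h k) z

/-- The composite of two good chart squares is good. -/
theorem good_comp (Q : MorphismProperty (AlgSp.Sp S)) (hQ : CompCond Q)
    (h𝒳 : FibCat.IsFibGrpd 𝒳.p) (h𝒴 : FibCat.IsFibGrpd 𝒴.p)
    (f : 𝒳 ⥤ᵇ 𝒴) (g : 𝒴 ⥤ᵇ 𝒵) {U V W : Over S}
    (x : FibCat.overCat U ⥤ᵇ 𝒳) (y : FibCat.overCat V ⥤ᵇ 𝒴) (z : FibCat.overCat W ⥤ᵇ 𝒵)
    (h : U ⟶ V) (k : V ⟶ W)
    (α : BasedFunctor.comp x f ≅ BasedFunctor.comp (AlgSt.overMap h) y)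
    (β : BasedFunctor.comp y g ≅ BasedFunctor.comp (AlgSt.overMap k) z)
    (hα : AlgSt.RepByAlgSpWith Q (FibCat.fpLift x (AlgSt.overMap h) α))
    (hβ : AlgSt.RepByAlgSpWith Q (FibCat.fpLift y (AlgSt.overMap k) β)) :
    AlgSt.RepByAlgSpWith Q
      (FibCat.fpLift x (AlgSt.overMap (h ≫ k)) (compSqIso f g x y z h k α β)) := by
  have hU : FibCat.IsFibGrpd (FibCat.overCat U).p := (isFibSet_overForget U).1
  have hV : FibCat.IsFibGrpd (FibCat.overCat V).p := (isFibSet_overForget V).1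
  let ℓg : FibCat.overCat V ⥤ᵇ FibCat.fp g z := FibCat.fpLift y (AlgSt.overMap k) β
  let ℓf : FibCat.overCat U ⥤ᵇ FibCat.fp f (BasedFunctor.comp ℓg (FibCat.fpFst g z)) :=
    FibCat.fpLift x (AlgSt.overMap h) α
  have hfp : FibCat.IsFibGrpd (FibCat.fp f (BasedFunctor.comp ℓg (FibCat.fpFst g z))).p :=
    isFibGrpd_fp f _ h𝒳 hV h𝒴
  have h1 : AlgSt.RepByAlgSpWith Q (BasedFunctor.comp ℓf (fpCompMap f g z ℓg)) :=
    repByAlgSpWith_comp_of_compCond hU hfp Q hQ ℓf (fpCompMap f g z ℓg) hα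
      (repByAlgSpWith_fpCompMap Q f g z ℓg hβ)
  refine repByAlgSpWith_of_iso Q ?_ h1
  exact fpIsoMk (BasedFunctor.comp f g) z (H := BasedFunctor.comp ℓf (fpCompMap f g z ℓg))
    (K := FibCat.fpLift x (AlgSt.overMap (h ≫ k)) (compSqIso f g x y z h k α β))
    (Iso.refl _) (overMapCompIso h k)
    (fun a => by
      change g.map (f.map (𝟙 _)) ≫ _ = _
      rw [f.toFunctor.map_id, g.toFunctor.map_id, Category.id_comp]
      exact (Category.assoc _ _ _).symm)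

end Good

section S13002

variable {S : Scheme.{u}} {𝒳 𝒴 𝒵 : AlgSt.Cat S}

/-- Compatible good chart squares for two composable functors of algebraic stacks. -/
theorem exists_good_squares (h𝒳 : AlgSt.IsAlgStack Scheme.fppfPrecoverage 𝒳)
    (h𝒴 : AlgSt.IsAlgStack Scheme.fppfPrecoverage 𝒴)
    (h𝒵 : AlgSt.IsAlgStack Scheme.fppfPrecoverage 𝒵) (f : 𝒳 ⥤ᵇ 𝒴) (g : 𝒴 ⥤ᵇ 𝒵) :
    ∃ (U V W : Over S) (x : FibCat.overCat U ⥤ᵇ 𝒳) (y : FibCat.overCat V ⥤ᵇ 𝒴)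
      (z : FibCat.overCat W ⥤ᵇ 𝒵) (h : U ⟶ V) (k : V ⟶ W)
      (α : BasedFunctor.comp x f ≅ BasedFunctor.comp (AlgSt.overMap h) y)
      (β : BasedFunctor.comp y g ≅ BasedFunctor.comp (AlgSt.overMap k) z),
      AlgSt.RepByAlgSpWith (AlgSp.LocP @Smooth) x ∧ AlgSt.RepByAlgSpWith AlgSp.IsSurjectiveMor x ∧
      AlgSt.RepByAlgSpWith (AlgSp.LocP @Smooth) y ∧ AlgSt.RepByAlgSpWith AlgSp.IsSurjectiveMor y ∧
      AlgSt.RepByAlgSpWith (AlgSp.LocP @Smooth) z ∧ AlgSt.RepByAlgSpWith AlgSp.IsSurjectiveMor z ∧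
      AlgSt.RepByAlgSpWith (AlgSp.LocP @Smooth) (FibCat.fpLift x (AlgSt.overMap h) α) ∧
      AlgSt.RepByAlgSpWith AlgSp.IsSurjectiveMor (FibCat.fpLift x (AlgSt.overMap h) α) ∧
      AlgSt.RepByAlgSpWith (AlgSp.LocP @Smooth) (FibCat.fpLift y (AlgSt.overMap k) β) ∧
      AlgSt.RepByAlgSpWith AlgSp.IsSurjectiveMor (FibCat.fpLift y (AlgSt.overMap k) β) ∧
      AlgSt.RepByAlgSpWith (AlgSp.LocP @Smooth)
        (FibCat.fpLift x (AlgSt.overMap (h ≫ k)) (compSqIso f g x y z h k α β)) := by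
  obtain ⟨W, z, hz₁, hz₂⟩ := h𝒵.atlas
  obtain ⟨V, y, k, β, hβ₁, hβ₂, hy₁, hy₂⟩ := exists_good_square_over h𝒴 h𝒵 g z
  obtain ⟨U, x, h, α, hα₁, hα₂, hx₁, hx₂⟩ := exists_good_square_over h𝒳 h𝒴 f y
  exact ⟨U, V, W, x, y, z, h, k, α, β, hx₁ (hy₁ hz₁), hx₂ (hy₂ hz₂), hy₁ hz₁, hy₂ hz₂, hz₁, hz₂,
    hα₁, hα₂, hβ₁, hβ₂,
    good_comp _ compCond_smooth h𝒳.isStack.1 h𝒴.isStack.1 f g x y z h k α β hα₁ hβ₁⟩

theorem locQ_lft_of_comp (h𝒳 : AlgSt.IsAlgStack Scheme.fppfPrecoverage 𝒳)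
    (h𝒴 : AlgSt.IsAlgStack Scheme.fppfPrecoverage 𝒴)
    (h𝒵 : AlgSt.IsAlgStack Scheme.fppfPrecoverage 𝒵) (f : 𝒳 ⥤ᵇ 𝒴) (g : 𝒴 ⥤ᵇ 𝒵)
    (hfg : AlgSt.LocQ (AlgSp.LocP @LocallyOfFiniteType) (BasedFunctor.comp f g)) :
    AlgSt.LocQ (AlgSp.LocP @LocallyOfFiniteType) f := by
  obtain ⟨U, V, W, x, y, z, h, k, α, β, hx₁, hx₂, hy₁, hy₂, hz₁, hz₂, hα₁, hα₂, hβ₁, hβ₂, hγ⟩ :=
    exists_good_squares h𝒳 h𝒴 h𝒵 f g
  have hP : AlgSp.LocP @LocallyOfFiniteType ((AlgSp.yon S).map (h ≫ k)) :=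
    (locQ_iff_forall_good _ isSmoothLocalST_lft h𝒳 h𝒵 (BasedFunctor.comp f g)).1 hfg U W x z
      (h ≫ k) _ hx₁ hz₁ hγ
  have h1 : LocallyOfFiniteType (h.left ≫ k.left) := AlgSp.locP_yon_map hP
  have h2 : LocallyOfFiniteType h.left := locallyOfFiniteType_of_comp h.left k.left
  exact ⟨U, V, x, y, h, α, hx₁, hx₂, hy₁, locP_yon_map_of_lft h h2⟩

end S13002

end Groth.Agent.Lib.Helper15GoodComp
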