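-- helper15: cancellation results for flat and locally finitely presented functors of algebraic stacks
import Mathlib
import Groth.Agent.Lib.Helper15GoodComp

set_option autoImplicit false
set_option backward.isDefEq.respectTransparency false
set_option backward.isDefEq.respectTransparency.types false
open CategoryTheory CategoryTheory.Functor CategoryTheory.Limits Opposite AlgebraicGeometry

universe u

namespace Groth.Agent.Lib.Helper15LocQCancel

open Groth.Agent.Lib.Helper17 Groth.Agent.Lib.Helper15PshFib Groth.Agent.Lib.Helper15RepComp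
  Groth.Agent.Lib.Helper15RepPsh Groth.Agent.Lib.Helper15DiagBase Groth.Agent.Lib.Helper15DiagRepSp
  Groth.Agent.Lib.Helper15Descent Groth.Agent.Lib.Helper15DiagLft
  Groth.Agent.Lib.Helper15DiagDescent Groth.Agent.Lib.Helper15SpMapRep
  Groth.Agent.Lib.Helper15SrcCancel Groth.Agent.Lib.Helper15ChartSp Groth.Agent.Lib.Helper15Atlas
  Groth.Agent.Lib.Helper15LocEss Groth.Agent.Lib.Helper15UnivComp Groth.Agent.Lib.Helper15SmLoc
  Groth.Agent.Lib.Helper15PtsComp Groth.Agent.Lib.Helper15PtsTop Groth.Agent.Lib.Helper15PtsQc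
  Groth.Agent.Lib.Helper15FpSwap Groth.Agent.Lib.Helper15QcLocal Groth.Agent.Lib.Helper15ClosedQc
  Groth.Agent.Lib.Helper15UnivPts Groth.Agent.Lib.Helper15BaseChange
  Groth.Agent.Lib.Helper15MonoSep Groth.Agent.Lib.Helper15LocQ Groth.Agent.Lib.Helper15LocQEngine
  Groth.Agent.Lib.Helper15LocQProps Groth.Agent.Lib.Helper15LocQSpace
  Groth.Agent.Lib.Helper15LocQSpace2 Groth.Agent.Lib.Helper15LocQRep
  Groth.Agent.Lib.Helper15LocQComp Groth.Agent.Lib.Helper15GoodComp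

section Sch

open AlgebraicGeometry.HasRingHomProperty in
theorem lfp_of_comp_of_lft {X Y Z : Scheme.{u}} (f : X ⟶ Y) (g : Y ⟶ Z)
    (h : LocallyOfFinitePresentation (f ≫ g)) (hg : LocallyOfFiniteType g) :
    LocallyOfFinitePresentation f := by
  wlog hZ : IsAffine Z generalizing X Y Z
  · rw [IsZariskiLocalAtTarget.iff_of_iSup_eq_top (P := @LocallyOfFinitePresentation) _
      (g.iSup_preimage_eq_top (iSup_affineOpens_eq_top Z))]
    intro U
    have H := IsZariskiLocalAtTarget.restrict h U.1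
    rw [morphismRestrict_comp] at H
    exact this _ _ H (IsZariskiLocalAtTarget.restrict hg U.1) inferInstance
  wlog hY : IsAffine Y generalizing X Y
  · rw [IsZariskiLocalAtTarget.iff_of_iSup_eq_top (P := @LocallyOfFinitePresentation) _
      (iSup_affineOpens_eq_top Y)]
    intro U
    have H := comp_of_isOpenImmersion @LocallyOfFinitePresentation (f ⁻¹ᵁ U.1).ι (f ≫ g) h
    rw [← morphismRestrict_ι_assoc] at H
    exact this _ _ H (comp_of_isOpenImmersion @LocallyOfFiniteType U.1.ι g hg) inferInstance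
  wlog hX : IsAffine X generalizing X
  · rw [IsZariskiLocalAtSource.iff_of_iSup_eq_top (P := @LocallyOfFinitePresentation) _
      (iSup_affineOpens_eq_top X)]
    intro U
    have H := comp_of_isOpenImmersion @LocallyOfFinitePresentation U.1.ι (f ≫ g) h
    rw [← Category.assoc] at H
    exact this _ H inferInstance
  rw [iff_of_isAffine (P := @LocallyOfFinitePresentation)] at h ⊢
  rw [iff_of_isAffine (P := @LocallyOfFiniteType)] at hg
  rw [Scheme.Hom.comp_appTop] at h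
  exact RingHom.FinitePresentation.of_comp_finiteType g.appTop.hom h hg

end Sch

section S13005

variable {S : Scheme.{u}} {𝒳 𝒴 𝒵 : AlgSt.Cat S}

theorem locQ_lfp_of_comp (h𝒳 : AlgSt.IsAlgStack Scheme.fppfPrecoverage 𝒳)
    (h𝒴 : AlgSt.IsAlgStack Scheme.fppfPrecoverage 𝒴)
    (h𝒵 : AlgSt.IsAlgStack Scheme.fppfPrecoverage 𝒵) (f : 𝒳 ⥤ᵇ 𝒴) (g : 𝒴 ⥤ᵇ 𝒵)
    (hfg : AlgSt.LocQ (AlgSp.LocP @LocallyOfFinitePresentation) (BasedFunctor.comp f g))
    (hg : AlgSt.LocQ (AlgSp.LocP @LocallyOfFiniteType) g) :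
    AlgSt.LocQ (AlgSp.LocP @LocallyOfFinitePresentation) f := by
  obtain ⟨U, V, W, x, y, z, h, k, α, β, hx₁, hx₂, hy₁, hy₂, hz₁, hz₂, hα₁, hα₂, hβ₁, hβ₂, hγ⟩ :=
    exists_good_squares h𝒳 h𝒴 h𝒵 f g
  have hP : AlgSp.LocP @LocallyOfFinitePresentation ((AlgSp.yon S).map (h ≫ k)) :=
    (locQ_iff_forall_good _ isSmoothLocalST_lfp h𝒳 h𝒵 (BasedFunctor.comp f g)).1 hfg U W x z
      (h ≫ k) _ hx₁ hz₁ hγ
  have hPk : AlgSp.LocP @LocallyOfFiniteType ((AlgSp.yon S).map k) :=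
    (locQ_iff_forall_good _ isSmoothLocalST_lft h𝒴 h𝒵 g).1 hg V W y z k β hy₁ hz₁ hβ₁
  have h1 : LocallyOfFinitePresentation (h.left ≫ k.left) := AlgSp.locP_yon_map hP
  have h2 : LocallyOfFiniteType k.left := AlgSp.locP_yon_map hPk
  have h3 : LocallyOfFinitePresentation h.left := lfp_of_comp_of_lft h.left k.left h1 h2
  exact ⟨U, V, x, y, h, α, hx₁, hx₂, hy₁, locP_yon_map_of_lfp h h3⟩

end S13005

section S13004

variable {S : Scheme.{u}} {𝒳 𝒴 𝒵 : AlgSt.Cat S}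

/-- The top arrow of a chart square with surjective lift over a surjective functor is
surjective. -/
theorem surjective_of_good_square (h𝒳 : AlgSt.IsAlgStack Scheme.fppfPrecoverage 𝒳)
    (h𝒴 : AlgSt.IsAlgStack Scheme.fppfPrecoverage 𝒴) (f : 𝒳 ⥤ᵇ 𝒴) (hf : AlgSt.IsSurjective f)
    {U V : Over S} (x : FibCat.overCat U ⥤ᵇ 𝒳) (y : FibCat.overCat V ⥤ᵇ 𝒴) (h : U ⟶ V)
    (α : BasedFunctor.comp x f ≅ BasedFunctor.comp (AlgSt.overMap h) y)
    (hα : AlgSt.RepByAlgSpWith AlgSp.IsSurjectiveMor (FibCat.fpLift x (AlgSt.overMap h) α)) :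
    Function.Surjective h.left := by
  have hpre𝒴 := IsStack.isPrestack _ h𝒴.isStack
  have hZ : AlgSt.IsAlgStack Scheme.fppfPrecoverage (FibCat.fp f y) :=
    isAlgStack_fp_of_isPrestack hpre𝒴 h𝒴.diag h𝒳 (isAlgStack_overCat V) f y
  intro v
  obtain ⟨ξ, hξ⟩ := hf (AlgSt.Points.ofChart y v)
  obtain ⟨w, hw₁, hw₂⟩ := points_fp_surjective (isFibSet_overForget V).1 h𝒴.isStack.1
    h𝒳.isStack.1 y f ξ (ptOver V v) (by rw [hξ]; rfl)
  obtain ⟨t, ht⟩ := surjective_ofChart hZ _ hα w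
  refine ⟨t, ?_⟩
  apply (ptOver_bijective V).1
  rw [← hw₂, ← ht, ← ptOver_map]
  rfl

theorem locQ_flat_of_comp (h𝒳 : AlgSt.IsAlgStack Scheme.fppfPrecoverage 𝒳)
    (h𝒴 : AlgSt.IsAlgStack Scheme.fppfPrecoverage 𝒴)
    (h𝒵 : AlgSt.IsAlgStack Scheme.fppfPrecoverage 𝒵) (f : 𝒳 ⥤ᵇ 𝒴) (g : 𝒴 ⥤ᵇ 𝒵)
    (hf₁ : AlgSt.LocQ (AlgSp.LocP @Flat) f) (hf₂ : AlgSt.IsSurjective f)
    (hfg : AlgSt.LocQ (AlgSp.LocP @Flat) (BasedFunctor.comp f g)) :
    AlgSt.LocQ (AlgSp.LocP @Flat) g := by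
  obtain ⟨U, V, W, x, y, z, h, k, α, β, hx₁, hx₂, hy₁, hy₂, hz₁, hz₂, hα₁, hα₂, hβ₁, hβ₂, hγ⟩ :=
    exists_good_squares h𝒳 h𝒴 h𝒵 f g
  have hP : AlgSp.LocP @Flat ((AlgSp.yon S).map (h ≫ k)) :=
    (locQ_iff_forall_good _ isSmoothLocalST_flat h𝒳 h𝒵 (BasedFunctor.comp f g)).1 hfg U W x z
      (h ≫ k) _ hx₁ hz₁ hγ
  have hPh : AlgSp.LocP @Flat ((AlgSp.yon S).map h) :=
    (locQ_iff_forall_good _ isSmoothLocalST_flat h𝒳 h𝒴 f).1 hf₁ U V x y h α hx₁ hy₁ hα₁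
  have h1 : Flat (h.left ≫ k.left) := AlgSp.locP_yon_map hP
  have h2 : Flat h.left := AlgSp.locP_yon_map hPh
  have h3 : Surjective h.left := ⟨surjective_of_good_square h𝒳 h𝒴 f hf₂ x y h α hα₂⟩
  have h4 : Flat k.left := Groth.Agent.Lib.Helper12.flat_of_comp_of_flat_of_surjective h.left k.left
  exact ⟨V, W, y, z, k, β, hy₁, hy₂, hz₁, locP_yon_map_of_flat k h4⟩

end S13004

end Groth.Agent.Lib.Helper15LocQCancel
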