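-- helper15: chart independence for base-change-stable properties over arbitrary charts; base change of chart-square properties
import Mathlib
import Groth.Agent.Lib.Helper15LocQCancel

set_option autoImplicit false
set_option backward.isDefEq.respectTransparency false
set_option backward.isDefEq.respectTransparency.types false
open CategoryTheory CategoryTheory.Functor CategoryTheory.Limits Opposite AlgebraicGeometry

universe u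

namespace Groth.Agent.Lib.Helper15LocQBC

open Groth.Agent.Lib.Helper17 Groth.Agent.Lib.Helper15PshFib Groth.Agent.Lib.Helper15RepComp
  Groth.Agent.Lib.Helper15RepPsh Groth.Agent.Lib.Helper15DiagBase Groth.Agent.Lib.Helper15DiagRepSp
  Groth.Agent.Lib.Helper15Descent Groth.Agent.Lib.Helper15DiagLft
  Groth.Agent.Lib.Helper15DiagDescent Groth.Agent.Lib.Helper15SpMapRep
  Groth.Agent.Lib.Helper15SrcCancel Groth.Agent.Lib.Helper15ChartSp Groth.Agent.Lib.Helper15Atlas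
  Groth.Agent.Lib.Helper15LocEss Groth.Agent.Lib.Helper15UnivComp Groth.Agent.Lib.Helper15SmLoc
  Groth.Agent.Lib.Helper15PtsComp Groth.Agent.Lib.Helper15PtsTop Groth.Agent.Lib.Helper15PtsQc
  Groth.Agent.Lib.Helper15FpSwap Groth.Agent.Lib.Helper15QcLocal Groth.Agent.Lib.Helper15ClosedQc
  Groth.Agent.Lib.Helper15UnivPts Groth.Agent.Lib.Helper15BaseChange
  Groth.Agent.Lib.Helper15BaseChange2
  Groth.Agent.Lib.Helper15MonoSep Groth.Agent.Lib.Helper15LocQ Groth.Agent.Lib.Helper15LocQEngine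
  Groth.Agent.Lib.Helper15LocQProps Groth.Agent.Lib.Helper15LocQSpace
  Groth.Agent.Lib.Helper15LocQSpace2 Groth.Agent.Lib.Helper15LocQRep
  Groth.Agent.Lib.Helper15LocQComp Groth.Agent.Lib.Helper15GoodComp
  Groth.Agent.Lib.Helper15LocQCancel

section Engine

variable {S : Scheme.{u}} {𝒳 𝒴 : AlgSt.Cat S}

/-- Chart independence for properties stable under base change: the second chart of the target
need not be smooth. -/
theorem prop_of_good_square_bc (P : MorphismProperty (AlgSp.Sp S)) (hP : AlgSp.IsSmoothLocalST P)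
    (hPb : BCStable P)
    (h𝒳 : AlgSt.IsAlgStack Scheme.fppfPrecoverage 𝒳)
    (h𝒴 : AlgSt.IsAlgStack Scheme.fppfPrecoverage 𝒴) (f : 𝒳 ⥤ᵇ 𝒴)
    {U₁ V₁ : Over S} (x₁ : FibCat.overCat U₁ ⥤ᵇ 𝒳) (y₁ : FibCat.overCat V₁ ⥤ᵇ 𝒴) (h₁ : U₁ ⟶ V₁)
    (α₁ : BasedFunctor.comp x₁ f ≅ BasedFunctor.comp (AlgSt.overMap h₁) y₁)
    (hx₁ : AlgSt.RepByAlgSpWith (AlgSp.LocP @Smooth) x₁)
    (hx₁s : AlgSt.RepByAlgSpWith AlgSp.IsSurjectiveMor x₁)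
    (hy₁ : AlgSt.RepByAlgSpWith (AlgSp.LocP @Smooth) y₁) (hP₁ : P ((AlgSp.yon S).map h₁))
    {U₂ V₂ : Over S} (x₂ : FibCat.overCat U₂ ⥤ᵇ 𝒳) (y₂ : FibCat.overCat V₂ ⥤ᵇ 𝒴) (h₂ : U₂ ⟶ V₂)
    (α₂ : BasedFunctor.comp x₂ f ≅ BasedFunctor.comp (AlgSt.overMap h₂) y₂)
    (hℓ₂ : AlgSt.RepByAlgSpWith (AlgSp.LocP @Smooth) (FibCat.fpLift x₂ (AlgSt.overMap h₂) α₂)) :
    P ((AlgSp.yon S).map h₂) := by
  have hfib𝒳 := h𝒳.isStack.1
  have hfib𝒴 := h𝒴.isStack.1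
  have hU₁ : FibCat.IsFibGrpd (FibCat.overCat U₁).p := (isFibSet_overForget U₁).1
  have hU₂ : FibCat.IsFibGrpd (FibCat.overCat U₂).p := (isFibSet_overForget U₂).1
  have hV₂ : FibCat.IsFibGrpd (FibCat.overCat V₂).p := (isFibSet_overForget V₂).1
  -- the space `B = V₁ ×_𝒴 V₂`
  have hrep₂ : AlgSt.RepByAlgSp1 y₂ := repByAlgSp1_of_repByAlgSp1_diag h𝒴.diag V₂ y₂
  obtain ⟨B, e_B, he_B⟩ := hrep₂ V₁ y₁
  have hb₂ : AlgSp.LocP @Smooth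
      (AlgSt.spMapOfOver (BasedFunctor.comp e_B (FibCat.fpSnd y₁ y₂))) :=
    prop_spMapOfOver_of_repByAlgSpWith _ bcStable_smooth (FibCat.fpSnd y₁ y₂)
      (repByAlgSpWith_fpSnd _ y₁ y₂ hy₁) B e_B he_B
  -- the space `T = U₁ ×_𝒴 V₂`
  obtain ⟨T, e_T, he_T⟩ := hrep₂ U₁ (BasedFunctor.comp x₁ f)
  obtain ⟨q, sq, ⟨iq⟩⟩ := exists_isPullback_baseChange' y₂ y₁ B.obj e_B he_B h₁
    (BasedFunctor.comp x₁ f) α₁ T.obj e_T he_T
  let p_T : T.obj ⟶ (AlgSp.yon S).obj V₂ :=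
    AlgSt.spMapOfOver (BasedFunctor.comp e_T (FibCat.fpSnd (BasedFunctor.comp x₁ f) y₂))
  have hqb : q ≫ AlgSt.spMapOfOver (BasedFunctor.comp e_B (FibCat.fpSnd y₁ y₂)) = p_T := by
    rw [← spMapOfOver_ofSpMap_comp]
    exact spMapOfOver_eq_of_iso _ _ iq
  have hPq : P q :=
    hPb (AlgSp.IsAlgSpace.yon_obj U₁) (AlgSp.IsAlgSpace.yon_obj V₁) T.property B.property
      ((AlgSp.yon S).map h₁) _ q _ sq.flip hP₁
  have hPpT : P p_T := by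
    rw [← hqb]
    let V₂' : AlgSp.Space S := ⟨(AlgSp.yon S).obj V₂, AlgSp.IsAlgSpace.yon_obj V₂⟩
    let qq : T ⟶ B := ObjectProperty.homMk q
    let bb : B ⟶ V₂' := ObjectProperty.homMk
      (AlgSt.spMapOfOver (BasedFunctor.comp e_B (FibCat.fpSnd y₁ y₂)))
    exact (Groth.Agent.S10565.result hP).2.2 qq bb hPq hb₂
  -- the chart `τ : T ⟶ 𝒳 ×_𝒴 V₂`
  have hT : FibCat.IsFibGrpd (AlgSt.ofSp T.obj).p := (isFibSetoid_ofPsh T.obj.obj).1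
  have hfpT : FibCat.IsFibGrpd (FibCat.fp (BasedFunctor.comp x₁ f) y₂).p :=
    isFibGrpd_fp (BasedFunctor.comp x₁ f) y₂ hU₁ hV₂ hfib𝒴
  have hZ : FibCat.IsFibGrpd (FibCat.fp f y₂).p := isFibGrpd_fp f y₂ hfib𝒳 hV₂ hfib𝒴
  let τ : AlgSt.ofSp T.obj ⥤ᵇ FibCat.fp f y₂ := BasedFunctor.comp e_T (fpMapLeft x₁ f y₂)
  have hτ₁ : AlgSt.RepByAlgSpWith (AlgSp.LocP @Smooth) τ :=
    (chart_precomp_equiv hT hfpT e_T he_T (fpMapLeft x₁ f y₂)).1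
      (repByAlgSpWith_fpMapLeft _ x₁ f y₂ hx₁)
  have hτ₂ : AlgSt.RepByAlgSpWith AlgSp.IsSurjectiveMor τ :=
    (chart_precomp_equiv hT hfpT e_T he_T (fpMapLeft x₁ f y₂)).2
      (repByAlgSpWith_fpMapLeft _ x₁ f y₂ hx₁s)
  -- the space `G = T ×_Z U₂`
  let ℓ₂ := FibCat.fpLift x₂ (AlgSt.overMap h₂) α₂
  obtain ⟨G, a_G, e_G, he_G, ⟨ι_G⟩, ha_G⟩ :=
    exists_space_map_of_repByAlgSpWith hU₂ hZ (AlgSp.LocP @Smooth) isLocalOnBase_fppf_smooth ℓ₂ hℓ₂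
      T τ
  let g₂ : G.obj ⟶ (AlgSp.yon S).obj U₂ :=
    AlgSt.spMapOfOver (BasedFunctor.comp e_G (FibCat.fpSnd τ ℓ₂))
  have hg₂ : AlgSp.LocP @Smooth g₂ :=
    prop_spMapOfOver_of_repByAlgSpWith _ bcStable_smooth (FibCat.fpSnd τ ℓ₂)
      (repByAlgSpWith_fpSnd _ τ ℓ₂ hτ₁) G e_G he_G
  have hg₂s : AlgSp.IsSurjectiveMor g₂ :=
    prop_spMapOfOver_of_repByAlgSpWith _ bcStable_isSurjectiveMor (FibCat.fpSnd τ ℓ₂)
      (repByAlgSpWith_fpSnd _ τ ℓ₂ hτ₂) G e_G he_G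
  -- commutativity
  have comm : g₂ ≫ (AlgSp.yon S).map h₂ = a_G.hom ≫ p_T := by
    rw [← spMapOfOver_comp_overMap, ← spMapOfOver_ofSpMap_comp]
    apply spMapOfOver_eq_of_iso
    exact (whiskerLeftIso e_G (whiskerRightIso (FibCat.fpIso τ ℓ₂).symm (FibCat.fpSnd f y₂)) :
      BasedFunctor.comp (BasedFunctor.comp e_G (FibCat.fpSnd τ ℓ₂)) (AlgSt.overMap h₂) ≅
        BasedFunctor.comp (BasedFunctor.comp e_G (FibCat.fpFst τ ℓ₂))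
          (BasedFunctor.comp e_T (FibCat.fpSnd (BasedFunctor.comp x₁ f) y₂))) ≪≫
      whiskerRightIso ι_G (BasedFunctor.comp e_T (FibCat.fpSnd (BasedFunctor.comp x₁ f) y₂))
  -- locality
  refine (hP.locality (AlgSp.IsAlgSpace.yon_obj U₂) (AlgSp.IsAlgSpace.yon_obj V₂)
    ((AlgSp.yon S).map h₂)).2 (fun p => ?_)
  obtain ⟨v, hv⟩ := hg₂s p
  exact ⟨G.obj, (AlgSp.yon S).obj V₂, g₂, 𝟙 _, a_G.hom ≫ p_T, v, G.property,
    AlgSp.IsAlgSpace.yon_obj V₂, hg₂, locP_smooth_id V₂, by rw [comm, Category.comp_id], hv,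
    hP.precomp G.property T.property (AlgSp.IsAlgSpace.yon_obj V₂) a_G.hom p_T ha_G hPpT⟩

end Engine

section S13039

variable {S : Scheme.{u}} {𝒳 𝒴 𝒴' : AlgSt.Cat S}

/-- For a property stable under base change, `P` holds on every good chart square over an
arbitrary chart of the target. -/
theorem prop_of_locQ_of_good_bc (P : MorphismProperty (AlgSp.Sp S)) (hP : AlgSp.IsSmoothLocalST P)
    (hPb : BCStable P)
    (h𝒳 : AlgSt.IsAlgStack Scheme.fppfPrecoverage 𝒳)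
    (h𝒴 : AlgSt.IsAlgStack Scheme.fppfPrecoverage 𝒴) (f : 𝒳 ⥤ᵇ 𝒴) (hL : AlgSt.LocQ P f)
    {U V : Over S} (x : FibCat.overCat U ⥤ᵇ 𝒳) (y : FibCat.overCat V ⥤ᵇ 𝒴) (h : U ⟶ V)
    (α : BasedFunctor.comp x f ≅ BasedFunctor.comp (AlgSt.overMap h) y)
    (hℓ : AlgSt.RepByAlgSpWith (AlgSp.LocP @Smooth) (FibCat.fpLift x (AlgSt.overMap h) α)) :
    P ((AlgSp.yon S).map h) := by
  obtain ⟨U₁, V₁, x₁, y₁, h₁, α₁, hx₁, hx₁s, hy₁, hP₁⟩ := hL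
  exact prop_of_good_square_bc P hP hPb h𝒳 h𝒴 f x₁ y₁ h₁ α₁ hx₁ hx₁s hy₁ hP₁ x y h α hℓ

theorem locQ_fpFst (P : MorphismProperty (AlgSp.Sp S)) (hP : AlgSp.IsSmoothLocalST P)
    (hPb : BCStable P)
    (h𝒳 : AlgSt.IsAlgStack Scheme.fppfPrecoverage 𝒳)
    (h𝒴 : AlgSt.IsAlgStack Scheme.fppfPrecoverage 𝒴)
    (h𝒴' : AlgSt.IsAlgStack Scheme.fppfPrecoverage 𝒴')
    (f : 𝒳 ⥤ᵇ 𝒴) (g : 𝒴' ⥤ᵇ 𝒴) (hL : AlgSt.LocQ P f) : AlgSt.LocQ P (FibCat.fpFst g f) := by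
  obtain ⟨V', y', hy'₁, hy'₂⟩ := h𝒴'.atlas
  let y₂ : FibCat.overCat V' ⥤ᵇ 𝒴 := BasedFunctor.comp y' g
  obtain ⟨U, x, h, α, hα₁, hα₂, -, -⟩ := exists_good_square_over h𝒳 h𝒴 f y₂
  have hPh := prop_of_locQ_of_good_bc P hP hPb h𝒳 h𝒴 f hL x y₂ h α hα₁
  have hU : FibCat.IsFibGrpd (FibCat.overCat U).p := (isFibSet_overForget U).1
  have hV' : FibCat.IsFibGrpd (FibCat.overCat V').p := (isFibSet_overForget V').1
  have hfp : FibCat.IsFibGrpd (FibCat.fp f y₂).p :=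
    isFibGrpd_fp f y₂ h𝒳.isStack.1 hV' h𝒴.isStack.1
  have hfp' : FibCat.IsFibGrpd (FibCat.fp y₂ f).p :=
    isFibGrpd_fp y₂ f hV' h𝒳.isStack.1 h𝒴.isStack.1
  let x' : FibCat.overCat U ⥤ᵇ FibCat.fp g f :=
    FibCat.fpLift (BasedFunctor.comp (AlgSt.overMap h) y') x
      (α.symm : BasedFunctor.comp (BasedFunctor.comp (AlgSt.overMap h) y') g ≅ BasedFunctor.comp x f)
  let ℓ := FibCat.fpLift x (AlgSt.overMap h) α
  let N : FibCat.fp f y₂ ⥤ᵇ FibCat.fp g f :=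
    BasedFunctor.comp (fpSwap f y₂) (fpMapLeft y' g f)
  have hN := chart_precomp_equiv (𝒳 := FibCat.fp g f) hfp hfp' (fpSwap f y₂)
    (isEquivOver_fpSwap f y₂) (fpMapLeft y' g f)
  have hN₁ : AlgSt.RepByAlgSpWith (AlgSp.LocP @Smooth) N :=
    hN.1 (repByAlgSpWith_fpMapLeft _ y' g f hy'₁)
  have hN₂ : AlgSt.RepByAlgSpWith AlgSp.IsSurjectiveMor N :=
    hN.2 (repByAlgSpWith_fpMapLeft _ y' g f hy'₂)
  have i : BasedFunctor.comp ℓ N ≅ x' :=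
    fpIsoMk g f (H := BasedFunctor.comp ℓ N) (K := x') (Iso.refl _) (Iso.refl _)
      (fun a => by
        change g.map (𝟙 _) ≫ _ = _ ≫ f.map (𝟙 _)
        rw [g.toFunctor.map_id, f.toFunctor.map_id, Category.id_comp, Category.comp_id]
        change α.inv.toNatTrans.app a = 𝟙 _ ≫ α.inv.toNatTrans.app a ≫ 𝟙 _
        rw [Category.id_comp, Category.comp_id])
  have hx'₁ : AlgSt.RepByAlgSpWith (AlgSp.LocP @Smooth) x' :=
    repByAlgSpWith_of_iso _ i (repByAlgSpWith_comp_of_compCond hU hfp _ compCond_smooth ℓ N hα₁ hN₁)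
  have hx'₂ : AlgSt.RepByAlgSpWith AlgSp.IsSurjectiveMor x' :=
    repByAlgSpWith_of_iso _ i
      (repByAlgSpWith_comp_of_compCond hU hfp _ compCond_isSurjectiveMor ℓ N hα₂ hN₂)
  exact ⟨U, V', x', y', h, Iso.refl _, hx'₁, hx'₂, hy'₁, hPh⟩

end S13039

end Groth.Agent.Lib.Helper15LocQBC
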