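-- helper15: the diagonal of a locally finite type functor of algebraic stacks is locally of finite presentation
import Mathlib
import Groth.Agent.Lib.Helper15LocQBC

set_option autoImplicit false
set_option backward.isDefEq.respectTransparency false
set_option backward.isDefEq.respectTransparency.types false
open CategoryTheory CategoryTheory.Functor CategoryTheory.Limits Opposite AlgebraicGeometry

universe u

namespace Groth.Agent.Lib.Helper15LocQDiag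

open Groth.Agent.Lib.Helper17 Groth.Agent.Lib.Helper15PshFib Groth.Agent.Lib.Helper15RepComp
  Groth.Agent.Lib.Helper15RepPsh Groth.Agent.Lib.Helper15DiagBase Groth.Agent.Lib.Helper15DiagRepSp
  Groth.Agent.Lib.Helper15Descent Groth.Agent.Lib.Helper15DiagLft
  Groth.Agent.Lib.Helper15DiagDescent Groth.Agent.Lib.Helper15SpMapRep
  Groth.Agent.Lib.Helper15SrcCancel Groth.Agent.Lib.Helper15ChartSp Groth.Agent.Lib.Helper15Atlas
  Groth.Agent.Lib.Helper15LocEss Groth.Agent.Lib.Helper15UnivComp Groth.Agent.Lib.Helper15SmLoc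
  Groth.Agent.Lib.Helper15PtsComp Groth.Agent.Lib.Helper15PtsTop Groth.Agent.Lib.Helper15PtsQc
  Groth.Agent.Lib.Helper15FpSwap Groth.Agent.Lib.Helper15QcLocal Groth.Agent.Lib.Helper15ClosedQc
  Groth.Agent.Lib.Helper15UnivPts Groth.Agent.Lib.Helper15BaseChange
  Groth.Agent.Lib.Helper15BaseChange2
  Groth.Agent.Lib.Helper15MonoSep Groth.Agent.Lib.Helper15LocQ Groth.Agent.Lib.Helper15LocQEngine
  Groth.Agent.Lib.Helper15LocQProps Groth.Agent.Lib.Helper15LocQSpace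
  Groth.Agent.Lib.Helper15LocQSpace2 Groth.Agent.Lib.Helper15LocQRep
  Groth.Agent.Lib.Helper15LocQComp Groth.Agent.Lib.Helper15GoodComp
  Groth.Agent.Lib.Helper15LocQCancel Groth.Agent.Lib.Helper15LocQBC

section S13006

variable {S : Scheme.{u}} {𝒳 𝒴 : AlgSt.Cat S}

/-- `LocQ` only depends on the functor up to isomorphism. -/
theorem locQ_of_iso (P : MorphismProperty (AlgSp.Sp S)) {f f' : 𝒳 ⥤ᵇ 𝒴} (i : f ≅ f')
    (h : AlgSt.LocQ P f) : AlgSt.LocQ P f' := by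
  obtain ⟨U, V, x, y, h, α, hx₁, hx₂, hy₁, hP⟩ := h
  exact ⟨U, V, x, y, h, (whiskerLeftIso x i).symm ≪≫ α, hx₁, hx₂, hy₁, hP⟩

theorem locQ_lfp_id (h𝒳 : AlgSt.IsAlgStack Scheme.fppfPrecoverage 𝒳) :
    AlgSt.LocQ (AlgSp.LocP @LocallyOfFinitePresentation) (BasedFunctor.id 𝒳) := by
  obtain ⟨U, x, hx₁, hx₂⟩ := h𝒳.atlas
  refine ⟨U, U, x, x, 𝟙 U, ?_, hx₁, hx₂, hx₁, locP_yon_map_of_lfp (𝟙 U) ?_⟩
  · exact (whiskerRightIso (overMapIdIso U) x : BasedFunctor.comp x (BasedFunctor.id 𝒳) ≅ _)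
  · change LocallyOfFinitePresentation (𝟙 U.left)
    infer_instance

theorem locQ_lfp_diag (h𝒳 : AlgSt.IsAlgStack Scheme.fppfPrecoverage 𝒳)
    (h𝒴 : AlgSt.IsAlgStack Scheme.fppfPrecoverage 𝒴) (f : 𝒳 ⥤ᵇ 𝒴)
    (hL : AlgSt.LocQ (AlgSp.LocP @LocallyOfFiniteType) f) :
    AlgSt.LocQ (AlgSp.LocP @LocallyOfFinitePresentation) (FibCat.diag f) := by
  have hpre𝒴 := IsStack.isPrestack _ h𝒴.isStack
  have h𝒫 : AlgSt.IsAlgStack Scheme.fppfPrecoverage (FibCat.fp f f) :=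
    isAlgStack_fp_of_isPrestack hpre𝒴 h𝒴.diag h𝒳 h𝒳 f f
  have h1 : AlgSt.LocQ (AlgSp.LocP @LocallyOfFiniteType) (FibCat.fpFst f f) :=
    locQ_fpFst _ isSmoothLocalST_lft bcStable_lft h𝒳 h𝒴 h𝒳 f f hL
  have h2 : AlgSt.LocQ (AlgSp.LocP @LocallyOfFinitePresentation)
      (BasedFunctor.comp (FibCat.diag f) (FibCat.fpFst f f)) :=
    locQ_of_iso _ (Iso.refl _ : BasedFunctor.id 𝒳 ≅ _) (locQ_lfp_id h𝒳)
  exact locQ_lfp_of_comp h𝒳 h𝒫 h𝒳 (FibCat.diag f) (FibCat.fpFst f f) h2 h1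

end S13006

end Groth.Agent.Lib.Helper15LocQDiag
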