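-- helper15: base change of good chart squares along a cover; descent of chart-square properties of functors of algebraic stacks
import Mathlib
import Groth.Agent.Lib.Helper15LocQDiag

set_option autoImplicit false
set_option backward.isDefEq.respectTransparency false
set_option backward.isDefEq.respectTransparency.types false
open CategoryTheory CategoryTheory.Functor CategoryTheory.Limits Opposite AlgebraicGeometry

universe u

namespace Groth.Agent.Lib.Helper15LocQDescent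

open Groth.Agent.Lib.Helper17 Groth.Agent.Lib.Helper15PshFib Groth.Agent.Lib.Helper15RepComp
  Groth.Agent.Lib.Helper15RepPsh Groth.Agent.Lib.Helper15DiagBase Groth.Agent.Lib.Helper15DiagRepSp
  Groth.Agent.Lib.Helper15Descent Groth.Agent.Lib.Helper15DiagLft
  Groth.Agent.Lib.Helper15DiagDescent Groth.Agent.Lib.Helper15SpMapRep
  Groth.Agent.Lib.Helper15SrcCancel Groth.Agent.Lib.Helper15ChartSp Groth.Agent.Lib.Helper15Atlas
  Groth.Agent.Lib.Helper15LocEss Groth.Agent.Lib.Helper15UnivComp Groth.Agent.Lib.Helper15SmLoc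
  Groth.Agent.Lib.Helper15PtsComp Groth.Agent.Lib.Helper15PtsTop Groth.Agent.Lib.Helper15PtsQc
  Groth.Agent.Lib.Helper15FpSwap Groth.Agent.Lib.Helper15QcLocal Groth.Agent.Lib.Helper15ClosedQc
  Groth.Agent.Lib.Helper15UnivPts Groth.Agent.Lib.Helper15BaseChange
  Groth.Agent.Lib.Helper15BaseChange2
  Groth.Agent.Lib.Helper15MonoSep Groth.Agent.Lib.Helper15LocQ Groth.Agent.Lib.Helper15LocQEngine
  Groth.Agent.Lib.Helper15LocQProps Groth.Agent.Lib.Helper15LocQSpace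
  Groth.Agent.Lib.Helper15LocQSpace2 Groth.Agent.Lib.Helper15LocQRep
  Groth.Agent.Lib.Helper15LocQComp Groth.Agent.Lib.Helper15GoodComp
  Groth.Agent.Lib.Helper15LocQCancel Groth.Agent.Lib.Helper15LocQBC
  Groth.Agent.Lib.Helper15LocQDiag

section Prep

variable {S : Scheme.{u}} {𝒳 𝒴 : AlgSt.Cat S}

/-- The functor of a morphism of schemes with a property stable under base change. -/
theorem repByAlgSpWith_overMap (Q : MorphismProperty (AlgSp.Sp S)) (hQb : BCStable Q)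
    {V' V : Over S} (v : V' ⟶ V) (hv : Q ((AlgSp.yon S).map v)) :
    AlgSt.RepByAlgSpWith Q (AlgSt.overMap v) := by
  let A : AlgSp.Space S := ⟨(AlgSp.yon S).obj V', AlgSp.IsAlgSpace.yon_obj V'⟩
  let B : AlgSp.Space S := ⟨(AlgSp.yon S).obj V, AlgSp.IsAlgSpace.yon_obj V⟩
  let a : A ⟶ B := ObjectProperty.homMk ((AlgSp.yon S).map v)
  have h1 : AlgSt.RepByAlgSpWith Q (AlgSt.ofSpMap a.hom) := repByAlgSpWith_ofSpMap Q hQb A B a hv
  exact (repByAlgSpWith_of_square Q (AlgSt.overMap v) (AlgSt.ofSpMap ((AlgSp.yon S).map v))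
    (AlgSt.toOverCat V') (AlgSt.toOverCat V) (isEquivOver_toOverCat V') (isEquivOver_toOverCat V)
    (toOverCatSqIso v).symm).2 h1

/-- Every functor from a slice to a fibre product over a slice is a lift of a chart square. -/
theorem exists_fpLift_iso (f : 𝒳 ⥤ᵇ 𝒴) {U V : Over S} (y : FibCat.overCat V ⥤ᵇ 𝒴)
    (L : FibCat.overCat U ⥤ᵇ FibCat.fp f y) :
    ∃ (h : U ⟶ V) (α : BasedFunctor.comp (BasedFunctor.comp L (FibCat.fpFst f y)) f ≅
        BasedFunctor.comp (AlgSt.overMap h) y),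
      Nonempty (L ≅ FibCat.fpLift (BasedFunctor.comp L (FibCat.fpFst f y)) (AlgSt.overMap h) α) ∧
      Nonempty (BasedFunctor.comp L (FibCat.fpSnd f y) ≅ AlgSt.overMap h) := by
  obtain ⟨h, ⟨lam⟩⟩ := exists_iso_overMap (BasedFunctor.comp L (FibCat.fpSnd f y))
  let x : FibCat.overCat U ⥤ᵇ 𝒳 := BasedFunctor.comp L (FibCat.fpFst f y)
  let α : BasedFunctor.comp x f ≅ BasedFunctor.comp (AlgSt.overMap h) y :=
    (whiskerLeftIso L (FibCat.fpIso f y) : BasedFunctor.comp x f ≅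
      BasedFunctor.comp (BasedFunctor.comp L (FibCat.fpSnd f y)) y) ≪≫ whiskerRightIso lam y
  refine ⟨h, α, ⟨?_⟩, ⟨lam⟩⟩
  exact fpIsoMk f y (H := L) (K := FibCat.fpLift x (AlgSt.overMap h) α) (Iso.refl _) lam
    (fun a => by
      change f.map (𝟙 _) ≫ ((L.obj a).obj.iso.hom ≫ y.map (lam.hom.toNatTrans.app a)) = _
      rw [f.toFunctor.map_id, Category.id_comp])

/-- Isomorphic functors of morphisms of schemes come from equal morphisms. -/
theorem eq_of_overMap_iso {U V : Over S} {a b : U ⟶ V} (i : AlgSt.overMap a ≅ AlgSt.overMap b) :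
    a = b := by
  have := ovSec_eq_of_hom i.hom (Over.mk (𝟙 U))
  rw [ovSec_overMap, ovSec_overMap] at this
  simpa using this

/-- The morphism of schemes attached to a chart followed by a functor to a slice. -/
theorem yon_map_eq_of_iso {F : AlgSp.Sp S} {V U : Over S}
    (Ψ : AlgSt.ofSp F ⥤ᵇ FibCat.overCat V) (s : (AlgSp.yon S).obj U ⟶ F) (h : U ⟶ V)
    (i : BasedFunctor.comp (BasedFunctor.comp (AlgSt.ofOverCat U) (AlgSt.ofSpMap s)) Ψ ≅
      AlgSt.overMap h) :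
    (AlgSp.yon S).map h = s ≫ AlgSt.spMapOfOver Ψ := by
  obtain ⟨h₀, hh₀⟩ := (AlgSp.yon S).map_surjective (s ≫ AlgSt.spMapOfOver Ψ)
  have j := isoOverMapOfChart Ψ s h₀ hh₀
  rw [← hh₀, eq_of_overMap_iso (i.symm ≪≫ j)]

end Prep

section DS

variable {S : Scheme.{u}} {𝒳 𝒴 𝒵 : AlgSt.Cat S}

/-- The base change of a good chart square of `f` along a chart square of `z` over the same chart
of the target: a good chart square for the base change of `f` to the source of `z`, on an etale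
chart of the fibre product of schemes. -/
theorem exists_descent_square (h𝒳 : FibCat.IsFibGrpd 𝒳.p) (h𝒴 : FibCat.IsFibGrpd 𝒴.p)
    (h𝒵 : FibCat.IsFibGrpd 𝒵.p)
    (f : 𝒳 ⥤ᵇ 𝒴) (z : 𝒵 ⥤ᵇ 𝒴) {U V V' : Over S}
    (x : FibCat.overCat U ⥤ᵇ 𝒳) (y : FibCat.overCat V ⥤ᵇ 𝒴) (h : U ⟶ V)
    (α : BasedFunctor.comp x f ≅ BasedFunctor.comp (AlgSt.overMap h) y)
    (hα : AlgSt.RepByAlgSpWith (AlgSp.LocP @Smooth) (FibCat.fpLift x (AlgSt.overMap h) α))
    (z' : FibCat.overCat V' ⥤ᵇ 𝒵) (v : V' ⟶ V)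
    (β : BasedFunctor.comp z' z ≅ BasedFunctor.comp (AlgSt.overMap v) y)
    (hz' : AlgSt.RepByAlgSpWith (AlgSp.LocP @Smooth) z') :
    ∃ (F' : AlgSp.Space S)
      (e' : AlgSt.ofSp F'.obj ⥤ᵇ FibCat.fp (AlgSt.overMap v) (AlgSt.overMap h))
      (_ : FibCat.IsEquivOver e') (U' : Over S) (s : (AlgSp.yon S).obj U' ⟶ F'.obj)
      (_ : AlgSp.RepWith @Etale s) (_ : AlgSp.RepWith @Surjective s) (h' : U' ⟶ V')
      (x' : FibCat.overCat U' ⥤ᵇ FibCat.fp z f)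
      (α' : BasedFunctor.comp x' (FibCat.fpFst z f) ≅ BasedFunctor.comp (AlgSt.overMap h') z'),
      (AlgSp.yon S).map h' = s ≫ AlgSt.spMapOfOver
        (BasedFunctor.comp e' (FibCat.fpFst (AlgSt.overMap v) (AlgSt.overMap h))) ∧
      AlgSt.RepByAlgSpWith (AlgSp.LocP @Smooth) x' ∧
      AlgSt.RepByAlgSpWith (AlgSp.LocP @Smooth) (FibCat.fpLift x' (AlgSt.overMap h') α') := by
  have hU : FibCat.IsFibGrpd (FibCat.overCat U).p := (isFibSet_overForget U).1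
  have hV : FibCat.IsFibGrpd (FibCat.overCat V).p := (isFibSet_overForget V).1
  have hV' : FibCat.IsFibGrpd (FibCat.overCat V').p := (isFibSet_overForget V').1
  have hrep : AlgSt.RepByAlgSp1 (AlgSt.overMap h) :=
    repByAlgSp1_of_repByAlgSp (repByAlgSp_overCat U) (repByAlgSp_overCat V) (AlgSt.overMap h)
  obtain ⟨F', e', he'⟩ := hrep V' (AlgSt.overMap v)
  obtain ⟨U', s, hse, hss⟩ := F'.property.atlas
  have hU' : FibCat.IsFibGrpd (FibCat.overCat U').p := (isFibSet_overForget U').1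
  have hF' : FibCat.IsFibGrpd (AlgSt.ofSp F'.obj).p := (isFibSetoid_ofPsh F'.obj.obj).1
  let A : FibCat.overCat U' ⥤ᵇ AlgSt.ofSp F'.obj :=
    BasedFunctor.comp (AlgSt.ofOverCat U') (AlgSt.ofSpMap s)
  have hA : AlgSt.RepByAlgSpWith (AlgSp.LocP @Smooth) A :=
    repByAlgSpWith_etale_chart _ (fun X T t ht => locP_smooth_of_repWith_etale (X := X)
      (Y := ⟨(AlgSp.yon S).obj T, AlgSp.IsAlgSpace.yon_obj T⟩) t ht) F' s hse
  let ℓ : FibCat.overCat U ⥤ᵇ FibCat.fp f y := FibCat.fpLift x (AlgSt.overMap h) α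
  -- the chart of the fibre product of schemes
  let E₁ : AlgSt.ofSp F'.obj ⥤ᵇ FibCat.fp (AlgSt.overMap h) (AlgSt.overMap v) :=
    BasedFunctor.comp e' (fpSwap (AlgSt.overMap v) (AlgSt.overMap h))
  have hE₁ : FibCat.IsEquivOver E₁ :=
    IsEquivOver.comp _ _ he' (isEquivOver_fpSwap (AlgSt.overMap v) (AlgSt.overMap h))
  let μ : FibCat.overCat U' ⥤ᵇ FibCat.fp (AlgSt.overMap h) (AlgSt.overMap v) :=
    BasedFunctor.comp A E₁
  have hμ : AlgSt.RepByAlgSpWith (AlgSp.LocP @Smooth) μ :=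
    repByAlgSpWith_comp_of_compCond hU' hF' _ compCond_smooth A E₁ hA
      (Groth.Agent.Lib.Helper15EquivRep.repByAlgSpWith_of_isEquivOver _ locP_smooth_id _ hE₁)
  -- base change of the lift
  let ℓ' : FibCat.fp (BasedFunctor.comp ℓ (FibCat.fpSnd f y)) (AlgSt.overMap v) ⥤ᵇ
      FibCat.fp f (BasedFunctor.comp (AlgSt.overMap v) y) :=
    BasedFunctor.comp (fpMapLeft ℓ (FibCat.fpSnd f y) (AlgSt.overMap v))
      (pasteR f (AlgSt.overMap v) y)
  have hfpA : FibCat.IsFibGrpd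
      (FibCat.fp (BasedFunctor.comp ℓ (FibCat.fpSnd f y)) (AlgSt.overMap v)).p :=
    isFibGrpd_fp _ _ hU hV' hV
  have hfpB : FibCat.IsFibGrpd (FibCat.fp (FibCat.fpSnd f y) (AlgSt.overMap v)).p :=
    isFibGrpd_fp _ _ (isFibGrpd_fp f y h𝒳 hV h𝒴) hV' hV
  have hℓ' : AlgSt.RepByAlgSpWith (AlgSp.LocP @Smooth) ℓ' :=
    repByAlgSpWith_comp_of_compCond hfpA hfpB _ compCond_smooth _ _
      (repByAlgSpWith_fpMapLeft _ ℓ (FibCat.fpSnd f y) (AlgSt.overMap v) hα)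
      (Groth.Agent.Lib.Helper15EquivRep.repByAlgSpWith_of_isEquivOver _ locP_smooth_id _
        (isEquivOver_pasteR f (AlgSt.overMap v) y))
  let L₁ : FibCat.overCat U' ⥤ᵇ FibCat.fp f (BasedFunctor.comp (AlgSt.overMap v) y) :=
    BasedFunctor.comp μ ℓ'
  have hL₁ : AlgSt.RepByAlgSpWith (AlgSp.LocP @Smooth) L₁ :=
    repByAlgSpWith_comp_of_compCond hU' hfpA _ compCond_smooth μ ℓ' hμ hℓ'
  -- transport to the base change of `f` to the source of `z`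
  have := IsEquivOver.isEquivalence (BasedFunctor.id 𝒴) (isEquivOver_id _)
  let T₁ : FibCat.fp f (BasedFunctor.comp (AlgSt.overMap v) y) ⥤ᵇ
      FibCat.fp f (BasedFunctor.comp z' z) :=
    fpMap f (BasedFunctor.comp z' z) f (BasedFunctor.comp (AlgSt.overMap v) y)
      (BasedFunctor.id 𝒳) (BasedFunctor.id _) (BasedFunctor.id 𝒴) (Iso.refl _) β.symm
  have hT₁ : FibCat.IsEquivOver T₁ :=
    isEquivOver_fpMap f (BasedFunctor.comp z' z) f (BasedFunctor.comp (AlgSt.overMap v) y)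
      (BasedFunctor.id 𝒳) (BasedFunctor.id _) (BasedFunctor.id 𝒴) (Iso.refl _) β.symm
      (isEquivOver_id _) (isEquivOver_id _)
  obtain ⟨I, hI, -, ⟨ι⟩⟩ := IsEquivOver.exists_inverse_isEquivOver' (pasteL f z z')
    (isEquivOver_pasteL f z z')
  let Eq : FibCat.fp f (BasedFunctor.comp (AlgSt.overMap v) y) ⥤ᵇ
      FibCat.fp (FibCat.fpFst z f) z' :=
    BasedFunctor.comp T₁ (BasedFunctor.comp (fpSwap f (BasedFunctor.comp z' z))
      (BasedFunctor.comp I (fpSwap z' (FibCat.fpFst z f))))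
  have hEq : FibCat.IsEquivOver Eq :=
    IsEquivOver.comp _ _ hT₁ (IsEquivOver.comp _ _ (isEquivOver_fpSwap _ _)
      (IsEquivOver.comp _ _ hI (isEquivOver_fpSwap _ _)))
  let L : FibCat.overCat U' ⥤ᵇ FibCat.fp (FibCat.fpFst z f) z' := BasedFunctor.comp L₁ Eq
  have hfpC : FibCat.IsFibGrpd (FibCat.fp f (BasedFunctor.comp (AlgSt.overMap v) y)).p :=
    isFibGrpd_fp _ _ h𝒳 hV' h𝒴
  have hL : AlgSt.RepByAlgSpWith (AlgSp.LocP @Smooth) L :=
    repByAlgSpWith_comp_of_compCond hU' hfpC _ compCond_smooth L₁ Eq hL₁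
      (Groth.Agent.Lib.Helper15EquivRep.repByAlgSpWith_of_isEquivOver _ locP_smooth_id _ hEq)
  obtain ⟨h', α', ⟨iL⟩, ⟨lam⟩⟩ := exists_fpLift_iso (FibCat.fpFst z f) z' L
  have hfpD : FibCat.IsFibGrpd (FibCat.fp (FibCat.fpFst z f) z').p :=
    isFibGrpd_fp _ _ (isFibGrpd_fp z f h𝒵 h𝒳 h𝒴) hV' h𝒵
  refine ⟨F', e', he', U', s, hse, hss, h', BasedFunctor.comp L (FibCat.fpFst (FibCat.fpFst z f) z'),
    α', ?_, ?_, repByAlgSpWith_of_iso _ iL hL⟩
  · refine yon_map_eq_of_iso _ s h' ?_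
    refine ?_ ≪≫ lam
    let K : FibCat.overCat U' ⥤ᵇ FibCat.fp (BasedFunctor.comp z' z) f :=
      BasedFunctor.comp L₁ (BasedFunctor.comp T₁ (fpSwap f (BasedFunctor.comp z' z)))
    exact (whiskerLeftIso K (whiskerRightIso ι (FibCat.fpFst (BasedFunctor.comp z' z) f))).symm
  · exact repByAlgSpWith_comp_of_compCond hU' hfpD _ compCond_smooth L _ hL
      (repByAlgSpWith_fpFst _ z' (FibCat.fpFst z f) hz')

end DS

section S12994

variable {S : Scheme.{u}} {𝒳 𝒴 𝒵 : AlgSt.Cat S}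

/-- The functor of a morphism of schemes, as a representable functor over the identity chart. -/
theorem exists_rep_overMap {U V : Over S} (h : U ⟶ V) :
    ∃ e₀ : AlgSt.ofSp ((AlgSp.yon S).obj U) ⥤ᵇ
        FibCat.fp (BasedFunctor.id (FibCat.overCat V)) (AlgSt.overMap h),
      FibCat.IsEquivOver e₀ ∧
      AlgSt.spMapOfOver (BasedFunctor.comp e₀
        (FibCat.fpFst (BasedFunctor.id (FibCat.overCat V)) (AlgSt.overMap h))) =
        (AlgSp.yon S).map h := by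
  have hsnd : FibCat.IsEquivOver
      (FibCat.fpSnd (BasedFunctor.id (FibCat.overCat V)) (AlgSt.overMap h)) :=
    isEquivOver_fpSnd (BasedFunctor.id _) (AlgSt.overMap h) (isEquivOver_id _)
  obtain ⟨J, hJ, -, ⟨β⟩⟩ := IsEquivOver.exists_inverse_isEquivOver' _ hsnd
  refine ⟨BasedFunctor.comp (AlgSt.toOverCat U) J,
    IsEquivOver.comp _ _ (isEquivOver_toOverCat U) hJ, ?_⟩
  let ι : BasedFunctor.comp (BasedFunctor.comp (AlgSt.toOverCat U) J)
      (FibCat.fpFst (BasedFunctor.id (FibCat.overCat V)) (AlgSt.overMap h)) ≅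
      BasedFunctor.comp (AlgSt.toOverCat U) (AlgSt.overMap h) :=
    (whiskerLeftIso (BasedFunctor.comp (AlgSt.toOverCat U) J)
      (FibCat.fpIso (BasedFunctor.id (FibCat.overCat V)) (AlgSt.overMap h)) : _ ≅
      BasedFunctor.comp (BasedFunctor.comp (AlgSt.toOverCat U) (BasedFunctor.comp J
        (FibCat.fpSnd (BasedFunctor.id (FibCat.overCat V)) (AlgSt.overMap h))))
        (AlgSt.overMap h)) ≪≫
    whiskerLeftIso (AlgSt.toOverCat U) (whiskerRightIso β (AlgSt.overMap h))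
  rw [spMapOfOver_eq_of_iso _ _ ι, spMapOfOver_comp_overMap,
    Groth.Agent.Lib.Helper15EquivRep.spMapOfOver_toOverCat,
    Category.id_comp]

/-- Descent of the top arrow of a good chart square along a flat, locally finitely presented,
surjective functor. -/
theorem locQ_of_locQ_fpFst (P : MorphismProperty (AlgSp.Sp S)) (hP : AlgSp.IsSmoothLocalST P)
    (hP₂ : AlgSp.IsLocalOnBase AlgSp.IsFppfCover P)
    (h𝒳 : AlgSt.IsAlgStack Scheme.fppfPrecoverage 𝒳)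
    (h𝒴 : AlgSt.IsAlgStack Scheme.fppfPrecoverage 𝒴)
    (h𝒵 : AlgSt.IsAlgStack Scheme.fppfPrecoverage 𝒵) (f : 𝒳 ⥤ᵇ 𝒴) (z : 𝒵 ⥤ᵇ 𝒴)
    (hz₁ : AlgSt.LocQ (AlgSp.LocP @Flat) z)
    (hz₂ : AlgSt.LocQ (AlgSp.LocP @LocallyOfFinitePresentation) z)
    (hz₃ : AlgSt.IsSurjective z) (hL : AlgSt.LocQ P (FibCat.fpFst z f)) : AlgSt.LocQ P f := by
  obtain ⟨V, y₀, hy₁, hy₂⟩ := h𝒴.atlas
  obtain ⟨U, x, h, α, hα₁, hα₂, hx₁, hx₂⟩ := exists_good_square_over h𝒳 h𝒴 f y₀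
  refine ⟨U, V, x, y₀, h, α, hx₁ hy₁, hx₂ hy₂, hy₁, ?_⟩
  obtain ⟨V', z', v, β, hβ₁, hβ₂, hz'₁, -⟩ := exists_good_square_over h𝒵 h𝒴 z y₀
  have hvfl : Flat v.left := AlgSp.locP_yon_map
    ((locQ_iff_forall_good _ isSmoothLocalST_flat h𝒵 h𝒴 z).1 hz₁ V' V z' y₀ v β (hz'₁ hy₁) hy₁ hβ₁)
  have hvfp : LocallyOfFinitePresentation v.left := AlgSp.locP_yon_map
    ((locQ_iff_forall_good _ isSmoothLocalST_lfp h𝒵 h𝒴 z).1 hz₂ V' V z' y₀ v β (hz'₁ hy₁) hy₁ hβ₁)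
  have hvs : Function.Surjective v.left := surjective_of_good_square h𝒵 h𝒴 z hz₃ z' y₀ v β hβ₂
  obtain ⟨F', e', he', U', s, hse, hss, h', x', α', hh', hx', hgood⟩ :=
    exists_descent_square h𝒳.isStack.1 h𝒴.isStack.1 h𝒵.isStack.1 f z x y₀ h α hα₁ z' v β
      (hz'₁ hy₁)
  have hpre𝒴 := IsStack.isPrestack _ h𝒴.isStack
  have hfp : AlgSt.IsAlgStack Scheme.fppfPrecoverage (FibCat.fp z f) :=
    isAlgStack_fp_of_isPrestack hpre𝒴 h𝒴.diag h𝒵 h𝒳 z f
  have hPh' : P ((AlgSp.yon S).map h') :=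
    (locQ_iff_forall_good P hP hfp h𝒵 (FibCat.fpFst z f)).1 hL U' V' x' z' h' α' hx' (hz'₁ hy₁)
      hgood
  rw [hh'] at hPh'
  let UU' : AlgSp.Space S := ⟨(AlgSp.yon S).obj U', AlgSp.IsAlgSpace.yon_obj U'⟩
  have hcov : AlgSp.IsSmCover (fun _ : PUnit.{u + 1} => (AlgSp.yon S).obj U') (fun _ => s) :=
    ⟨fun _ => locP_smooth_of_repWith_etale (X := UU') (Y := F') s hse, fun p => by
      obtain ⟨q, hq⟩ := isSurjectiveMor_atlas F' s hse hss p
      exact ⟨PUnit.unit, q, hq⟩⟩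
  have hPp₂ : P (AlgSt.spMapOfOver
      (BasedFunctor.comp e' (FibCat.fpFst (AlgSt.overMap v) (AlgSt.overMap h)))) :=
    ((Groth.Agent.S10565.result hP).1 (fun _ : PUnit.{u + 1} => (AlgSp.yon S).obj U')
      (fun _ => s) F'.property (fun _ => AlgSp.IsAlgSpace.yon_obj U') hcov _
      (AlgSp.IsAlgSpace.yon_obj V')).2 (fun _ => hPh')
  obtain ⟨e₀, he₀, hsp⟩ := exists_rep_overMap h
  rw [← hsp]
  let UU : AlgSp.Space S := ⟨(AlgSp.yon S).obj U, AlgSp.IsAlgSpace.yon_obj U⟩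
  exact prop_of_baseChange_family P hP₂ (AlgSt.overMap h) (BasedFunctor.id (FibCat.overCat V)) UU e₀
    he₀ (fun _ : PUnit.{u + 1} => V') (fun _ => v)
    (isFppfCover_of_schemes _ _ (fun _ => hvfl) (fun _ => hvfp) (fun t => ⟨PUnit.unit, hvs t⟩))
    (fun _ => AlgSt.overMap v) (fun _ => Iso.refl _) (fun _ => F') (fun _ => e') (fun _ => he')
    (fun _ => hPp₂)

theorem locQ_lft_of_fpFst_cover (h𝒳 : AlgSt.IsAlgStack Scheme.fppfPrecoverage 𝒳)
    (h𝒴 : AlgSt.IsAlgStack Scheme.fppfPrecoverage 𝒴) (f : 𝒳 ⥤ᵇ 𝒴)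
    (W : AlgSp.Space S) (w : AlgSt.ofSp W.obj ⥤ᵇ 𝒴)
    (hw₁ : AlgSt.RepByAlgSpWith (AlgSp.LocP @Flat) w)
    (hw₂ : AlgSt.RepByAlgSpWith (AlgSp.LocP @LocallyOfFinitePresentation) w)
    (hw₃ : AlgSt.RepByAlgSpWith AlgSp.IsSurjectiveMor w)
    (hL : AlgSt.LocQ (AlgSp.LocP @LocallyOfFiniteType) (FibCat.fpFst w f)) :
    AlgSt.LocQ (AlgSp.LocP @LocallyOfFiniteType) f := by
  have hW := isAlgStack_ofSp W
  exact locQ_of_locQ_fpFst _ isSmoothLocalST_lft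
    (isLocalOnBase_fppf_of_fpqc _ (Groth.Agent.S10526.result S)) h𝒳 h𝒴 hW f w
    (locQ_of_repByAlgSpWith _ isSmoothLocalST_flat hW h𝒴 w hw₁)
    (locQ_of_repByAlgSpWith _ isSmoothLocalST_lfp hW h𝒴 w hw₂)
    ((isSurjective_iff_repByAlgSpWith hW h𝒴 w (repByAlgSp1_of_repByAlgSpWith _ _ hw₃)).2 hw₃) hL

end S12994

section S13003

variable {S : Scheme.{u}} {𝒳 𝒴 𝒵 : AlgSt.Cat S}

theorem locQ_flat_of_fpFst (h𝒳 : AlgSt.IsAlgStack Scheme.fppfPrecoverage 𝒳)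
    (h𝒴 : AlgSt.IsAlgStack Scheme.fppfPrecoverage 𝒴)
    (h𝒵 : AlgSt.IsAlgStack Scheme.fppfPrecoverage 𝒵) (f : 𝒳 ⥤ᵇ 𝒴) (z : 𝒵 ⥤ᵇ 𝒴)
    (hz₁ : AlgSt.LocQ (AlgSp.LocP @Flat) z) (hz₃ : AlgSt.IsSurjective z)
    (hL : AlgSt.LocQ (AlgSp.LocP @Flat) (FibCat.fpFst z f)) : AlgSt.LocQ (AlgSp.LocP @Flat) f := by
  obtain ⟨V, y₀, hy₁, hy₂⟩ := h𝒴.atlas
  obtain ⟨U, x, h, α, hα₁, hα₂, hx₁, hx₂⟩ := exists_good_square_over h𝒳 h𝒴 f y₀
  refine ⟨U, V, x, y₀, h, α, hx₁ hy₁, hx₂ hy₂, hy₁, ?_⟩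
  obtain ⟨V', z', v, β, hβ₁, hβ₂, hz'₁, -⟩ := exists_good_square_over h𝒵 h𝒴 z y₀
  have hvP : AlgSp.LocP @Flat ((AlgSp.yon S).map v) :=
    (locQ_iff_forall_good _ isSmoothLocalST_flat h𝒵 h𝒴 z).1 hz₁ V' V z' y₀ v β (hz'₁ hy₁) hy₁ hβ₁
  have hvfl : Flat v.left := AlgSp.locP_yon_map hvP
  have hvs : Function.Surjective v.left := surjective_of_good_square h𝒵 h𝒴 z hz₃ z' y₀ v β hβ₂
  obtain ⟨F', e', he', U', s, hse, hss, h', x', α', hh', hx', hgood⟩ :=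
    exists_descent_square h𝒳.isStack.1 h𝒴.isStack.1 h𝒵.isStack.1 f z x y₀ h α hα₁ z' v β
      (hz'₁ hy₁)
  have hpre𝒴 := IsStack.isPrestack _ h𝒴.isStack
  have hfp : AlgSt.IsAlgStack Scheme.fppfPrecoverage (FibCat.fp z f) :=
    isAlgStack_fp_of_isPrestack hpre𝒴 h𝒴.diag h𝒵 h𝒳 z f
  have hPh' : AlgSp.LocP @Flat ((AlgSp.yon S).map h') :=
    (locQ_iff_forall_good _ isSmoothLocalST_flat hfp h𝒵 (FibCat.fpFst z f)).1 hL U' V' x' z' h' α'
      hx' (hz'₁ hy₁) hgood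
  have hh'fl : Flat h'.left := AlgSp.locP_yon_map hPh'
  -- the other projection
  let p₁ : F'.obj ⟶ (AlgSp.yon S).obj U := AlgSt.spMapOfOver
    (BasedFunctor.comp e' (FibCat.fpSnd (AlgSt.overMap v) (AlgSt.overMap h)))
  let p₂ : F'.obj ⟶ (AlgSp.yon S).obj V' := AlgSt.spMapOfOver
    (BasedFunctor.comp e' (FibCat.fpFst (AlgSt.overMap v) (AlgSt.overMap h)))
  obtain ⟨u, hu⟩ := (AlgSp.yon S).map_surjective (s ≫ p₁)
  have hsq : p₂ ≫ (AlgSp.yon S).map v = p₁ ≫ (AlgSp.yon S).map h := by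
    rw [← spMapOfOver_comp_overMap, ← spMapOfOver_comp_overMap]
    exact spMapOfOver_eq_of_iso _ _
      (whiskerLeftIso e' (FibCat.fpIso (AlgSt.overMap v) (AlgSt.overMap h)))
  have hcomm : u ≫ h = h' ≫ v := by
    apply (AlgSp.yon S).map_injective
    rw [Functor.map_comp, Functor.map_comp, hu, hh', Category.assoc, Category.assoc, hsq]
  have hp₁fl : AlgSp.LocP @Flat p₁ :=
    prop_spMapOfOver_of_repByAlgSpWith _ bcStable_flat _
      (repByAlgSpWith_fpSnd _ (AlgSt.overMap v) (AlgSt.overMap h)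
        (repByAlgSpWith_overMap _ bcStable_flat v hvP)) F' e' he'
  have hvS : AlgSp.IsSurjectiveMor ((AlgSp.yon S).map v) := by
    intro p
    obtain ⟨t, ht⟩ := hvs (AlgSp.Points.toScheme V p)
    refine ⟨AlgSp.Points.ofScheme V' t, ?_⟩
    rw [points_map_yon_ofScheme, ht, AlgSp.Points.ofScheme_toScheme]
  have hp₁s : AlgSp.IsSurjectiveMor p₁ :=
    prop_spMapOfOver_of_repByAlgSpWith _ bcStable_isSurjectiveMor _
      (repByAlgSpWith_fpSnd _ (AlgSt.overMap v) (AlgSt.overMap h)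
        (repByAlgSpWith_overMap _ bcStable_isSurjectiveMor v hvS)) F' e' he'
  let UU' : AlgSp.Space S := ⟨(AlgSp.yon S).obj U', AlgSp.IsAlgSpace.yon_obj U'⟩
  have hsfl : AlgSp.LocP @Flat s := by
    let sm : UU' ⟶ F' := ObjectProperty.homMk s
    have het : AlgSp.IsEtaleMor sm.hom := fun V φ hφ => MorphismProperty.comp_mem _ _ _ hφ hse
    exact (Groth.Agent.S10265.result sm het).2.2.1
  have hufl : Flat u.left := by
    apply AlgSp.locP_yon_map
    rw [hu]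
    exact locP_flat_comp F'.property (AlgSp.IsAlgSpace.yon_obj U) s p₁ hsfl hp₁fl
  have hus : Function.Surjective u.left := by
    apply surjective_of_isSurjectiveMor_yon_map u
    rw [hu]
    intro p
    obtain ⟨q, hq⟩ := hp₁s p
    obtain ⟨r, hr⟩ := isSurjectiveMor_atlas F' s hse hss q
    exact ⟨r, by rw [AlgSp.Points.map_comp, hr, hq]⟩
  have h1 : Flat (u.left ≫ h.left) := by
    have : u.left ≫ h.left = h'.left ≫ v.left := congrArg (fun m => m.left) hcomm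
    rw [this]
    infer_instance
  have h2 : Surjective u.left := ⟨hus⟩
  have h3 : Flat h.left := Groth.Agent.Lib.Helper12.flat_of_comp_of_flat_of_surjective u.left h.left
  exact locP_yon_map_of_flat h h3

end S13003

end Groth.Agent.Lib.Helper15LocQDescent
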