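-- helper15: fppf local lifts along flat lfp surjective functors of algebraic stacks; descent of representable properties
import Mathlib
import Groth.Agent.Lib.Helper15LocQDescent

set_option autoImplicit false
set_option backward.isDefEq.respectTransparency false
set_option backward.isDefEq.respectTransparency.types false
open CategoryTheory CategoryTheory.Functor CategoryTheory.Limits Opposite AlgebraicGeometry

universe u

namespace Groth.Agent.Lib.Helper15RepDescent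

open Groth.Agent.Lib.Helper17 Groth.Agent.Lib.Helper15PshFib Groth.Agent.Lib.Helper15RepComp
  Groth.Agent.Lib.Helper15RepPsh Groth.Agent.Lib.Helper15DiagBase Groth.Agent.Lib.Helper15DiagRepSp
  Groth.Agent.Lib.Helper15Descent Groth.Agent.Lib.Helper15DiagLft
  Groth.Agent.Lib.Helper15DiagDescent Groth.Agent.Lib.Helper15SpMapRep
  Groth.Agent.Lib.Helper15SrcCancel Groth.Agent.Lib.Helper15ChartSp Groth.Agent.Lib.Helper15Atlas
  Groth.Agent.Lib.Helper15LocEss Groth.Agent.Lib.Helper15UnivComp Groth.Agent.Lib.Helper15SmLoc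
  Groth.Agent.Lib.Helper15PtsComp Groth.Agent.Lib.Helper15PtsTop Groth.Agent.Lib.Helper15PtsQc
  Groth.Agent.Lib.Helper15FpSwap Groth.Agent.Lib.Helper15QcLocal Groth.Agent.Lib.Helper15ClosedQc
  Groth.Agent.Lib.Helper15UnivPts Groth.Agent.Lib.Helper15BaseChange
  Groth.Agent.Lib.Helper15BaseChange2
  Groth.Agent.Lib.Helper15MonoSep Groth.Agent.Lib.Helper15LocQ Groth.Agent.Lib.Helper15LocQEngine
  Groth.Agent.Lib.Helper15LocQProps Groth.Agent.Lib.Helper15LocQSpace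
  Groth.Agent.Lib.Helper15LocQSpace2 Groth.Agent.Lib.Helper15LocQRep
  Groth.Agent.Lib.Helper15LocQComp Groth.Agent.Lib.Helper15GoodComp
  Groth.Agent.Lib.Helper15LocQCancel Groth.Agent.Lib.Helper15LocQBC
  Groth.Agent.Lib.Helper15LocQDiag Groth.Agent.Lib.Helper15LocQDescent

section S12995

variable {S : Scheme.{u}} {𝒳 𝒴 𝒵 : AlgSt.Cat S}

/-- Descent of a property along a functor which admits lifts over one fppf covering of every
scheme. -/
theorem repByAlgSpWith_of_fpFst_of_cover (P : MorphismProperty (AlgSp.Sp S))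
    (hP : AlgSp.IsLocalOnBase AlgSp.IsFppfCover P) (f : 𝒳 ⥤ᵇ 𝒴) (hf : AlgSt.RepByAlgSp1 f)
    (g : 𝒵 ⥤ᵇ 𝒴)
    (hg : ∀ (U : Over S) (y : FibCat.overCat U ⥤ᵇ 𝒴),
      ∃ (V : Over S) (v : V ⟶ U) (z : FibCat.overCat V ⥤ᵇ 𝒵),
        Nonempty (BasedFunctor.comp z g ≅ BasedFunctor.comp (AlgSt.overMap v) y) ∧
        AlgSp.IsFppfCover (fun _ : PUnit.{u + 1} => (AlgSp.yon S).obj V)
          (fun _ => (AlgSp.yon S).map v))
    (h' : AlgSt.RepByAlgSpWith P (FibCat.fpFst g f)) : AlgSt.RepByAlgSpWith P f := by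
  intro U y
  obtain ⟨F, e, he⟩ := hf U y
  refine ⟨F, e, he, ?_⟩
  obtain ⟨V, v, z, ⟨κ⟩, hcov⟩ := hg U y
  obtain ⟨F_t, e_t, he_t, hPt⟩ := h' V z
  exact prop_of_baseChange_family P hP f y F e he (fun _ : PUnit.{u + 1} => V) (fun _ => v) hcov
    (fun _ => BasedFunctor.comp z g) (fun _ => κ) (fun _ => F_t)
    (fun _ => BasedFunctor.comp e_t (pasteL f g z))
    (fun _ => IsEquivOver.comp _ _ he_t (isEquivOver_pasteL f g z)) (fun _ => hPt)

/-- A flat, locally finitely presented, surjective functor of algebraic stacks admits lifts over an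
fppf covering of every scheme. -/
theorem exists_fppf_lift (h𝒴 : AlgSt.IsAlgStack Scheme.fppfPrecoverage 𝒴)
    (h𝒵 : AlgSt.IsAlgStack Scheme.fppfPrecoverage 𝒵) (z : 𝒵 ⥤ᵇ 𝒴)
    (hz₁ : AlgSt.LocQ (AlgSp.LocP @Flat) z)
    (hz₂ : AlgSt.LocQ (AlgSp.LocP @LocallyOfFinitePresentation) z)
    (hz₃ : AlgSt.IsSurjective z) (U : Over S) (y : FibCat.overCat U ⥤ᵇ 𝒴) :
    ∃ (V : Over S) (v : V ⟶ U) (z' : FibCat.overCat V ⥤ᵇ 𝒵),
      Nonempty (BasedFunctor.comp z' z ≅ BasedFunctor.comp (AlgSt.overMap v) y) ∧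
      AlgSp.IsFppfCover (fun _ : PUnit.{u + 1} => (AlgSp.yon S).obj V)
        (fun _ => (AlgSp.yon S).map v) := by
  obtain ⟨V, z', v, β, hβ₁, hβ₂, -, -⟩ := exists_good_square_over h𝒵 h𝒴 z y
  have hvfl : Flat v.left := AlgSp.locP_yon_map
    (prop_of_locQ_of_good_bc _ isSmoothLocalST_flat bcStable_flat h𝒵 h𝒴 z hz₁ z' y v β hβ₁)
  have hvfp : LocallyOfFinitePresentation v.left := AlgSp.locP_yon_map
    (prop_of_locQ_of_good_bc _ isSmoothLocalST_lfp bcStable_lfp h𝒵 h𝒴 z hz₂ z' y v β hβ₁)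
  have hvs : Function.Surjective v.left := surjective_of_good_square h𝒵 h𝒴 z hz₃ z' y v β hβ₂
  exact ⟨V, v, z', ⟨β⟩, isFppfCover_of_schemes _ _ (fun _ => hvfl) (fun _ => hvfp)
    (fun t => ⟨PUnit.unit, hvs t⟩)⟩

theorem repByAlgSpWith_iff_fpFst (P : MorphismProperty (AlgSp.Sp S))
    (hP₂ : AlgSp.IsLocalOnBase AlgSp.IsFppfCover P)
    (h𝒴 : AlgSt.IsAlgStack Scheme.fppfPrecoverage 𝒴)
    (h𝒵 : AlgSt.IsAlgStack Scheme.fppfPrecoverage 𝒵) (f : 𝒳 ⥤ᵇ 𝒴) (hf : AlgSt.RepByAlgSp1 f)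
    (z : 𝒵 ⥤ᵇ 𝒴) (hz₁ : AlgSt.LocQ (AlgSp.LocP @Flat) z)
    (hz₂ : AlgSt.LocQ (AlgSp.LocP @LocallyOfFinitePresentation) z)
    (hz₃ : AlgSt.IsSurjective z) :
    AlgSt.RepByAlgSpWith P f ↔ AlgSt.RepByAlgSpWith P (FibCat.fpFst z f) :=
  ⟨fun h => repByAlgSpWith_fpFst P f z h,
    fun h => repByAlgSpWith_of_fpFst_of_cover P hP₂ f hf z
      (exists_fppf_lift h𝒴 h𝒵 z hz₁ hz₂ hz₃) h⟩

end S12995

end Groth.Agent.Lib.Helper15RepDescent
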