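-- helper17: quasi-compactness of stacks is invariant under equivalences over the base.
import Groth.Agent.Lib.Helper17AlgStEquiv
import Groth.Prelude.Def_AlgSt4

set_option autoImplicit false
set_option backward.isDefEq.respectTransparency false
set_option backward.isDefEq.respectTransparency.types false

open CategoryTheory CategoryTheory.Functor AlgebraicGeometry Opposite

universe u

namespace Groth.Agent.Lib.Helper17

variable {S : Scheme.{u}}

theorem isQuasiCompact_of_isEquivOver {𝒳 𝒴 : AlgSt.Cat S}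
    (e : 𝒳 ⥤ᵇ 𝒴) (he : FibCat.IsEquivOver e) (h : AlgSt.IsQuasiCompact 𝒳) :
    AlgSt.IsQuasiCompact 𝒴 := by
  obtain ⟨U, x, hU, h1, h2⟩ := h
  refine ⟨U, BasedFunctor.comp x e, hU, ?_, ?_⟩
  · exact (repByAlgSpWith_of_square _ (BasedFunctor.comp x e) x (BasedFunctor.id _) e
      (isEquivOver_id _) he (Iso.refl _)).2 h1
  · exact (repByAlgSpWith_of_square AlgSp.IsSurjectiveMor (BasedFunctor.comp x e) x
      (BasedFunctor.id _) e (isEquivOver_id _) he (Iso.refl _)).2 h2

theorem isQuasiCompact_of_isEquivOver' {𝒳 𝒴 : AlgSt.Cat S}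
    (e : 𝒳 ⥤ᵇ 𝒴) (he : FibCat.IsEquivOver e) (h : AlgSt.IsQuasiCompact 𝒴) :
    AlgSt.IsQuasiCompact 𝒳 := by
  obtain ⟨e', he', -, -⟩ := IsEquivOver.exists_inverse_isEquivOver' e he
  exact isQuasiCompact_of_isEquivOver e' he' h

end Groth.Agent.Lib.Helper17
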