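-- helper15: quasi-compactness of functors of algebraic stacks descends along fppf covers by algebraic stacks
import Mathlib
import Groth.Agent.Lib.Helper15RepDescent
import Groth.Agent.S12982

set_option autoImplicit false
set_option backward.isDefEq.respectTransparency false
set_option backward.isDefEq.respectTransparency.types false
open CategoryTheory CategoryTheory.Functor CategoryTheory.Limits Opposite AlgebraicGeometry

universe u

namespace Groth.Agent.Lib.Helper15QcDescent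

open Groth.Agent.Lib.Helper17 Groth.Agent.Lib.Helper15PshFib Groth.Agent.Lib.Helper15RepComp
  Groth.Agent.Lib.Helper15RepPsh Groth.Agent.Lib.Helper15DiagBase Groth.Agent.Lib.Helper15DiagRepSp
  Groth.Agent.Lib.Helper15Descent Groth.Agent.Lib.Helper15DiagLft
  Groth.Agent.Lib.Helper15DiagDescent Groth.Agent.Lib.Helper15SpMapRep
  Groth.Agent.Lib.Helper15SrcCancel Groth.Agent.Lib.Helper15ChartSp Groth.Agent.Lib.Helper15Atlas
  Groth.Agent.Lib.Helper15LocEss Groth.Agent.Lib.Helper15UnivComp Groth.Agent.Lib.Helper15SmLoc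
  Groth.Agent.Lib.Helper15PtsComp Groth.Agent.Lib.Helper15PtsTop Groth.Agent.Lib.Helper15PtsQc
  Groth.Agent.Lib.Helper15FpSwap Groth.Agent.Lib.Helper15QcLocal Groth.Agent.Lib.Helper15ClosedQc
  Groth.Agent.Lib.Helper15UnivPts Groth.Agent.Lib.Helper15BaseChange
  Groth.Agent.Lib.Helper15BaseChange2
  Groth.Agent.Lib.Helper15MonoSep Groth.Agent.Lib.Helper15LocQ Groth.Agent.Lib.Helper15LocQEngine
  Groth.Agent.Lib.Helper15LocQProps Groth.Agent.Lib.Helper15LocQSpace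
  Groth.Agent.Lib.Helper15LocQSpace2 Groth.Agent.Lib.Helper15LocQRep
  Groth.Agent.Lib.Helper15LocQComp Groth.Agent.Lib.Helper15GoodComp
  Groth.Agent.Lib.Helper15LocQCancel Groth.Agent.Lib.Helper15LocQBC
  Groth.Agent.Lib.Helper15LocQDiag Groth.Agent.Lib.Helper15LocQDescent
  Groth.Agent.Lib.Helper15RepDescent

section S13009

variable {S : Scheme.{u}} {𝒳 𝒴 𝒵 : AlgSt.Cat S}

theorem isQuasiCompactMor_of_equiv_comp {𝒜' 𝒜 ℬ : AlgSt.Cat S} (E : 𝒜' ⥤ᵇ 𝒜)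
    (hE : FibCat.IsEquivOver E) (φ : 𝒜 ⥤ᵇ ℬ)
    (h : AlgSt.IsQuasiCompactMor Scheme.fppfPrecoverage (BasedFunctor.comp E φ)) :
    AlgSt.IsQuasiCompactMor Scheme.fppfPrecoverage φ := by
  intro 𝒯 h𝒯 hqc g
  have : (BasedFunctor.id ℬ).toFunctor.Full := inferInstanceAs (𝟭 ℬ.obj).Full
  have : (BasedFunctor.id ℬ).toFunctor.Faithful := inferInstanceAs (𝟭 ℬ.obj).Faithful
  have hM := isEquivOver_fpMap g φ g (BasedFunctor.comp E φ) (BasedFunctor.id _) E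
    (BasedFunctor.id _) (Iso.refl _) (Iso.refl _) (isEquivOver_id _) hE
  exact Groth.Agent.Lib.Helper15UnivComp.isQuasiCompact_of_isEquivOver _ hM (h 𝒯 h𝒯 hqc g)

theorem isQuasiCompactMor_of_fpFst_of_fppf (h𝒳 : AlgSt.IsAlgStack Scheme.fppfPrecoverage 𝒳)
    (h𝒴 : AlgSt.IsAlgStack Scheme.fppfPrecoverage 𝒴)
    (h𝒵 : AlgSt.IsAlgStack Scheme.fppfPrecoverage 𝒵) (f : 𝒳 ⥤ᵇ 𝒴) (z : 𝒵 ⥤ᵇ 𝒴)
    (hz₁ : AlgSt.LocQ (AlgSp.LocP @Flat) z)
    (hz₂ : AlgSt.LocQ (AlgSp.LocP @LocallyOfFinitePresentation) z)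
    (hz₃ : AlgSt.IsSurjective z)
    (hq : AlgSt.IsQuasiCompactMor Scheme.fppfPrecoverage (FibCat.fpFst z f)) :
    AlgSt.IsQuasiCompactMor Scheme.fppfPrecoverage f := by
  obtain ⟨A₀, a₀, ha₁, ha₂⟩ := h𝒵.atlas
  let W : AlgSp.Space S := ⟨(AlgSp.yon S).obj A₀, AlgSp.IsAlgSpace.yon_obj A₀⟩
  have hWalg := isAlgStack_ofSp W
  have hA : FibCat.IsFibGrpd (FibCat.overCat A₀).p := (isFibSet_overForget A₀).1
  have hA' : FibCat.IsFibGrpd (AlgSt.ofSch A₀).p :=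
    (isFibSetoid_ofPsh ((AlgSp.yon S).obj A₀).obj).1
  let a₀' : AlgSt.ofSp W.obj ⥤ᵇ 𝒵 := BasedFunctor.comp (AlgSt.toOverCat A₀) a₀
  have hc := chart_precomp_equiv hA' hA (AlgSt.toOverCat A₀) (isEquivOver_toOverCat A₀) a₀
  have ha₁' : AlgSt.RepByAlgSpWith (AlgSp.LocP @Smooth) a₀' := hc.1 ha₁
  have ha₂' : AlgSt.RepByAlgSpWith AlgSp.IsSurjectiveMor a₀' := hc.2 ha₂
  let w : AlgSt.ofSp W.obj ⥤ᵇ 𝒴 := BasedFunctor.comp a₀' z
  have hrep : AlgSt.RepByAlgSp1 w :=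
    repByAlgSp1_from_repByAlgSp h𝒴.isStack.1
      (fun U x => repByAlgSp1_of_repByAlgSp1_diag h𝒴.diag U x) _ hA'
      ⟨W, BasedFunctor.id _, isEquivOver_id _⟩ w
  have hw₁ : AlgSt.RepByAlgSpWith (AlgSp.LocP @Flat) w :=
    (locQ_iff_repByAlgSpWith _ isSmoothLocalST_flat bcStable_flat
      (isLocalOnBase_fppf_of_fpqc _ (Groth.Agent.S10530.result S)) hWalg h𝒴 w hrep).1
      (locQ_comp _ isSmoothLocalST_flat
        (fun _ _ _ _ hY hZ a b ha hb => locP_flat_comp hY hZ a b ha hb) hWalg h𝒵 h𝒴 a₀' z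
        (locQ_of_repByAlgSpWith _ isSmoothLocalST_flat hWalg h𝒵 a₀' (flat_of_smooth ha₁')) hz₁)
  have hw₂ : AlgSt.RepByAlgSpWith (AlgSp.LocP @LocallyOfFinitePresentation) w :=
    (locQ_iff_repByAlgSpWith _ isSmoothLocalST_lfp bcStable_lfp
      (isLocalOnBase_fppf_of_fpqc _ (Groth.Agent.S10527.result S)) hWalg h𝒴 w hrep).1
      (locQ_comp _ isSmoothLocalST_lfp
        (fun _ _ _ _ hY hZ a b ha hb => locP_lfp_comp hY hZ a b ha hb) hWalg h𝒵 h𝒴 a₀' z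
        (locQ_of_repByAlgSpWith _ isSmoothLocalST_lfp hWalg h𝒵 a₀' (lfp_of_smooth ha₁')) hz₂)
  have ha₀s : AlgSt.IsSurjective a₀' :=
    (isSurjective_iff_repByAlgSpWith hWalg h𝒵 a₀' (repByAlgSp1_of_repByAlgSpWith _ _ ha₂')).2 ha₂'
  have hw₃ : AlgSt.RepByAlgSpWith AlgSp.IsSurjectiveMor w :=
    (isSurjective_iff_repByAlgSpWith hWalg h𝒴 w hrep).1 (isSurjective_comp a₀' z ha₀s hz₃)
  have hpre𝒴 := IsStack.isPrestack _ h𝒴.isStack
  have hfp : AlgSt.IsAlgStack Scheme.fppfPrecoverage (FibCat.fp z f) :=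
    isAlgStack_fp_of_isPrestack hpre𝒴 h𝒴.diag h𝒵 h𝒳 z f
  have h1 : AlgSt.IsQuasiCompactMor Scheme.fppfPrecoverage (FibCat.fpFst a₀' (FibCat.fpFst z f)) :=
    Groth.Agent.S12982.result S _ _ _ hfp h𝒵 hWalg (FibCat.fpFst z f) a₀' hq
  have h2 : AlgSt.IsQuasiCompactMor Scheme.fppfPrecoverage (FibCat.fpFst w f) :=
    isQuasiCompactMor_of_equiv_comp (pasteL f z a₀') (isEquivOver_pasteL f z a₀')
      (FibCat.fpFst w f) h1
  exact isQuasiCompactMor_of_fpFst_cover h𝒳 h𝒴 f W w hw₁ hw₂ hw₃ h2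

end S13009

end Groth.Agent.Lib.Helper15QcDescent
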