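-- helper15: fppf covers lifting objects along jointly surjective flat lfp families of algebraic stacks
import Mathlib
import Groth.Agent.Lib.Helper15QcDescent

set_option autoImplicit false
set_option backward.isDefEq.respectTransparency false
set_option backward.isDefEq.respectTransparency.types false
open CategoryTheory CategoryTheory.Functor CategoryTheory.Limits Opposite AlgebraicGeometry

universe u

namespace Groth.Agent.Lib.Helper15FppfLiftFam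

open Groth.Agent.Lib.Helper17 Groth.Agent.Lib.Helper15PshFib Groth.Agent.Lib.Helper15RepComp
  Groth.Agent.Lib.Helper15RepPsh Groth.Agent.Lib.Helper15DiagBase Groth.Agent.Lib.Helper15DiagRepSp
  Groth.Agent.Lib.Helper15Descent Groth.Agent.Lib.Helper15DiagLft
  Groth.Agent.Lib.Helper15DiagDescent Groth.Agent.Lib.Helper15SpMapRep
  Groth.Agent.Lib.Helper15SrcCancel Groth.Agent.Lib.Helper15ChartSp Groth.Agent.Lib.Helper15Atlas
  Groth.Agent.Lib.Helper15LocEss Groth.Agent.Lib.Helper15UnivComp Groth.Agent.Lib.Helper15SmLoc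
  Groth.Agent.Lib.Helper15PtsComp Groth.Agent.Lib.Helper15PtsTop Groth.Agent.Lib.Helper15PtsQc
  Groth.Agent.Lib.Helper15FpSwap Groth.Agent.Lib.Helper15QcLocal Groth.Agent.Lib.Helper15ClosedQc
  Groth.Agent.Lib.Helper15UnivPts Groth.Agent.Lib.Helper15BaseChange
  Groth.Agent.Lib.Helper15BaseChange2
  Groth.Agent.Lib.Helper15MonoSep Groth.Agent.Lib.Helper15LocQ Groth.Agent.Lib.Helper15LocQEngine
  Groth.Agent.Lib.Helper15LocQProps Groth.Agent.Lib.Helper15LocQSpace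
  Groth.Agent.Lib.Helper15LocQSpace2 Groth.Agent.Lib.Helper15LocQRep
  Groth.Agent.Lib.Helper15LocQComp Groth.Agent.Lib.Helper15GoodComp
  Groth.Agent.Lib.Helper15LocQCancel Groth.Agent.Lib.Helper15LocQBC
  Groth.Agent.Lib.Helper15LocQDiag Groth.Agent.Lib.Helper15LocQDescent
  Groth.Agent.Lib.Helper15RepDescent Groth.Agent.Lib.Helper15QcDescent


section S13022

variable {S : Scheme.{u}} {𝒳 𝒴 𝒵 : AlgSt.Cat S}

/-- A point of the chart `V` whose image in `𝒴` lifts to a point of `𝒳` lies in the image of a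
good square over `V`. -/
theorem exists_preimage_of_good_square (h𝒳 : AlgSt.IsAlgStack Scheme.fppfPrecoverage 𝒳)
    (h𝒴 : AlgSt.IsAlgStack Scheme.fppfPrecoverage 𝒴) (f : 𝒳 ⥤ᵇ 𝒴)
    {U V : Over S} (x : FibCat.overCat U ⥤ᵇ 𝒳) (y : FibCat.overCat V ⥤ᵇ 𝒴) (h : U ⟶ V)
    (α : BasedFunctor.comp x f ≅ BasedFunctor.comp (AlgSt.overMap h) y)
    (hα : AlgSt.RepByAlgSpWith AlgSp.IsSurjectiveMor (FibCat.fpLift x (AlgSt.overMap h) α))
    (v : V.left) (hv : AlgSt.Points.ofChart y v ∈ Set.range (AlgSt.Points.map f)) :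
    ∃ t : U.left, h.left t = v := by
  have hpre𝒴 := IsStack.isPrestack _ h𝒴.isStack
  have hZ : AlgSt.IsAlgStack Scheme.fppfPrecoverage (FibCat.fp f y) :=
    isAlgStack_fp_of_isPrestack hpre𝒴 h𝒴.diag h𝒳 (isAlgStack_overCat V) f y
  obtain ⟨ξ, hξ⟩ := hv
  obtain ⟨w, hw₁, hw₂⟩ := points_fp_surjective (isFibSet_overForget V).1 h𝒴.isStack.1
    h𝒳.isStack.1 y f ξ (ptOver V v) (by rw [hξ]; rfl)
  obtain ⟨t, ht⟩ := surjective_ofChart hZ _ hα w
  refine ⟨t, ?_⟩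
  apply (ptOver_bijective V).1
  rw [← hw₂, ← ht, ← ptOver_map]
  rfl

theorem exists_fppf_cover_lifting (h𝒳 : AlgSt.IsAlgStack Scheme.fppfPrecoverage 𝒳)
    (J : Type u) (𝒳' : J → AlgSt.Cat S)
    (h𝒳' : ∀ j, AlgSt.IsAlgStack Scheme.fppfPrecoverage (𝒳' j))
    (f : ∀ j, 𝒳' j ⥤ᵇ 𝒳)
    (hf₁ : ∀ j, AlgSt.LocQ (AlgSp.LocP @Flat) (f j))
    (hf₂ : ∀ j, AlgSt.LocQ (AlgSp.LocP @LocallyOfFinitePresentation) (f j))
    (hf₃ : ∀ p : AlgSt.Points 𝒳, ∃ j, p ∈ Set.range (AlgSt.Points.map (f j)))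
    (U : Over S) (x : FibCat.overCat U ⥤ᵇ 𝒳) :
    ∃ (V : J → Over S) (g : ∀ i, V i ⟶ U),
      (Presieve.ofArrows (fun i ↦ (V i).left) fun i ↦ (g i).left) ∈
        Scheme.fppfPrecoverage U.left ∧
      ∀ i, ∃ x' : FibCat.overCat (V i) ⥤ᵇ 𝒳' i,
        Nonempty (BasedFunctor.comp x' (f i) ≅ BasedFunctor.comp (AlgSt.overMap (g i)) x) := by
  choose V x' g α hα₁ hα₂ _ _ using fun j => exists_good_square_over (h𝒳' j) h𝒳 (f j) x
  refine ⟨V, g, ?_, fun i => ⟨x' i, ⟨α i⟩⟩⟩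
  have hflat : ∀ j, Flat (g j).left := fun j =>
    AlgSp.locP_yon_map (prop_of_locQ_of_good_bc _ isSmoothLocalST_flat bcStable_flat (h𝒳' j) h𝒳
      (f j) (hf₁ j) (x' j) x (g j) (α j) (hα₁ j))
  have hlfp : ∀ j, LocallyOfFinitePresentation (g j).left := fun j =>
    AlgSp.locP_yon_map (prop_of_locQ_of_good_bc _ isSmoothLocalST_lfp bcStable_lfp (h𝒳' j) h𝒳
      (f j) (hf₂ j) (x' j) x (g j) (α j) (hα₁ j))
  show _ ∈ Scheme.precoverage (@Flat ⊓ @LocallyOfFinitePresentation) U.left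
  rw [Scheme.ofArrows_mem_precoverage_iff]
  refine ⟨fun u => ?_, fun j => ⟨hflat j, hlfp j⟩⟩
  obtain ⟨j, hj⟩ := hf₃ (AlgSt.Points.ofChart x u)
  obtain ⟨t, ht⟩ := exists_preimage_of_good_square (h𝒳' j) h𝒳 (f j) (x' j) x (g j) (α j)
    (hα₂ j) u hj
  exact ⟨j, t, ht⟩

end S13022

end Groth.Agent.Lib.Helper15FppfLiftFam
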