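-- helper15: valuation ring lifts along flat morphisms of algebraic stacks
import Mathlib
import Groth.Agent.Lib.Helper15FppfLiftFam

set_option autoImplicit false
set_option backward.isDefEq.respectTransparency false
set_option backward.isDefEq.respectTransparency.types false
open CategoryTheory CategoryTheory.Functor CategoryTheory.Limits Opposite AlgebraicGeometry

universe u

namespace Groth.Agent.Lib.Helper15ValLift

open Groth.Agent.Lib.Helper17 Groth.Agent.Lib.Helper15PshFib Groth.Agent.Lib.Helper15RepComp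
  Groth.Agent.Lib.Helper15RepPsh Groth.Agent.Lib.Helper15DiagBase Groth.Agent.Lib.Helper15DiagRepSp
  Groth.Agent.Lib.Helper15Descent Groth.Agent.Lib.Helper15DiagLft
  Groth.Agent.Lib.Helper15DiagDescent Groth.Agent.Lib.Helper15SpMapRep
  Groth.Agent.Lib.Helper15SrcCancel Groth.Agent.Lib.Helper15ChartSp Groth.Agent.Lib.Helper15Atlas
  Groth.Agent.Lib.Helper15LocEss Groth.Agent.Lib.Helper15UnivComp Groth.Agent.Lib.Helper15SmLoc
  Groth.Agent.Lib.Helper15PtsComp Groth.Agent.Lib.Helper15PtsTop Groth.Agent.Lib.Helper15PtsQc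
  Groth.Agent.Lib.Helper15FpSwap Groth.Agent.Lib.Helper15QcLocal Groth.Agent.Lib.Helper15ClosedQc
  Groth.Agent.Lib.Helper15UnivPts Groth.Agent.Lib.Helper15BaseChange
  Groth.Agent.Lib.Helper15BaseChange2
  Groth.Agent.Lib.Helper15MonoSep Groth.Agent.Lib.Helper15LocQ Groth.Agent.Lib.Helper15LocQEngine
  Groth.Agent.Lib.Helper15LocQProps Groth.Agent.Lib.Helper15LocQSpace
  Groth.Agent.Lib.Helper15LocQSpace2 Groth.Agent.Lib.Helper15LocQRep
  Groth.Agent.Lib.Helper15LocQComp Groth.Agent.Lib.Helper15GoodComp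
  Groth.Agent.Lib.Helper15LocQCancel Groth.Agent.Lib.Helper15LocQBC
  Groth.Agent.Lib.Helper15LocQDiag Groth.Agent.Lib.Helper15LocQDescent
  Groth.Agent.Lib.Helper15RepDescent Groth.Agent.Lib.Helper15QcDescent
  Groth.Agent.Lib.Helper15FppfLiftFam



section S13035

open IsLocalRing

theorem exists_valuationRing_lift_of_flat {U : Scheme.{u}} {A : Type u} [CommRing A] [IsDomain A]
    [ValuationRing A]
    (h : U ⟶ Spec (CommRingCat.of A)) [Flat h] (t : U) (ht : h t = IsLocalRing.closedPoint A) :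
    ∃ (A' : Type u) (_ : CommRing A') (_ : IsDomain A') (_ : ValuationRing A') (φ : A →+* A')
      (k : Spec (CommRingCat.of A') ⟶ U),
      Function.Injective φ ∧ IsLocalHom φ ∧ k ≫ h = Spec.map (CommRingCat.ofHom φ) := by
  let B : CommRingCat.{u} := U.presheaf.stalk t
  let ψ : CommRingCat.of A ⟶ B := StructureSheaf.toStalk A (h t) ≫ h.stalkMap t
  have hψ : Spec.map ψ = U.fromSpecStalk t ≫ h := by
    rw [Spec.map_comp, ← Scheme.SpecMap_stalkMap_fromSpecStalk, Spec.fromSpecStalk_eq']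
  have hflat : ψ.hom.Flat := by
    have h1 : (StructureSheaf.toStalk A (h t)).hom.Flat := by
      show Module.Flat A ((Spec.structureSheaf A).presheaf.stalk (h t))
      exact IsLocalization.flat _ (h t).asIdeal.primeCompl
    exact RingHom.Flat.comp h1 (Flat.stalkMap h t)
  have hloc : IsLocalHom ψ.hom := by
    rw [IsLocalRing.isLocalHom_iff_comap_closedPoint]
    have : (Spec.map ψ) (closedPoint B) = closedPoint A := by
      rw [hψ, Scheme.Hom.comp_apply, Scheme.fromSpecStalk_closedPoint, ht]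
    exact this
  algebraize [ψ.hom]
  have hff : Module.FaithfullyFlat A B := Module.FaithfullyFlat.of_flat_of_isLocalHom
  obtain ⟨q, hq⟩ := PrimeSpectrum.comap_surjective_of_faithfullyFlat (A := A) (B := B)
    ⟨⊥, Ideal.isPrime_bot⟩
  let K := FractionRing (B ⧸ q.asIdeal)
  let f : B →+* K := (algebraMap (B ⧸ q.asIdeal) K).comp (Ideal.Quotient.mk q.asIdeal)
  obtain ⟨A', hA', hA'loc⟩ := exists_factor_valuationRing f
  let ρ : B →+* A' := f.codRestrict A'.toSubring hA'
  refine ⟨A', inferInstance, inferInstance, inferInstance, ρ.comp ψ.hom,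
    Spec.map (CommRingCat.ofHom ρ) ≫ U.fromSpecStalk t, ?_, ?_, ?_⟩
  · rw [injective_iff_map_eq_zero]
    intro a ha
    have h1 : f (ψ.hom a) = 0 := congrArg Subtype.val ha
    have h2 : Ideal.Quotient.mk q.asIdeal (ψ.hom a) = 0 :=
      (IsFractionRing.injective (B ⧸ q.asIdeal) K) (by simpa [f] using h1)
    rw [Ideal.Quotient.eq_zero_iff_mem] at h2
    have h3 : a ∈ (PrimeSpectrum.comap (algebraMap A B) q).asIdeal := h2
    rw [hq] at h3
    exact h3
  · exact RingHom.isLocalHom_comp _ _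
  · rw [Category.assoc, ← hψ, ← Spec.map_comp]
    rfl


variable {S : Scheme.{u}} {𝒳 𝒴 𝒵 : AlgSt.Cat S}

theorem exists_valuationRing_lift_of_locQ_flat
    (h𝒳 : AlgSt.IsAlgStack Scheme.fppfPrecoverage 𝒳)
    (h𝒴 : AlgSt.IsAlgStack Scheme.fppfPrecoverage 𝒴)
    (f : 𝒳 ⥤ᵇ 𝒴)
    (hf : AlgSt.LocQ (AlgSp.LocP @Flat) f)
    (A : Type u) [CommRing A] [IsDomain A] [ValuationRing A] (sA : Spec (CommRingCat.of A) ⟶ S)
    (a : FibCat.overCat (Over.mk sA) ⥤ᵇ 𝒴)
    (ha : AlgSt.Points.ofChart a (IsLocalRing.closedPoint A) ∈ Set.range (AlgSt.Points.map f)) :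
    ∃ (A' : Type u) (_ : CommRing A') (_ : IsDomain A') (_ : ValuationRing A') (φ : A →+* A'),
      Function.Injective φ ∧ IsLocalHom φ ∧
      ∃ x : FibCat.overCat (Over.mk (Spec.map (CommRingCat.ofHom φ) ≫ sA)) ⥤ᵇ 𝒳,
        Nonempty (BasedFunctor.comp x f ≅
          BasedFunctor.comp (AlgSt.overMap (Over.homMk (Spec.map (CommRingCat.ofHom φ)) rfl :
            Over.mk (Spec.map (CommRingCat.ofHom φ) ≫ sA) ⟶ Over.mk sA)) a) := by
  obtain ⟨U, x, h, α, hα₁, hα₂, -, -⟩ := exists_good_square_over h𝒳 h𝒴 f a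
  have hflat : Flat h.left :=
    AlgSp.locP_yon_map (prop_of_locQ_of_good_bc _ isSmoothLocalST_flat bcStable_flat h𝒳 h𝒴
      f hf x a h α hα₁)
  obtain ⟨t, ht⟩ := exists_preimage_of_good_square h𝒳 h𝒴 f x a h α hα₂
    (IsLocalRing.closedPoint A) ha
  obtain ⟨A', i1, i2, i3, φ, k₀, hφ₁, hφ₂, hk⟩ :=
    exists_valuationRing_lift_of_flat (A := A) h.left t ht
  refine ⟨A', i1, i2, i3, φ, hφ₁, hφ₂, ?_⟩
  have hw : k₀ ≫ U.hom = Spec.map (CommRingCat.ofHom φ) ≫ sA := by
    have := Over.w h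
    rw [← this, ← Category.assoc, hk]
    rfl
  let k : Over.mk (Spec.map (CommRingCat.ofHom φ) ≫ sA) ⟶ U := Over.homMk k₀ hw
  have hkh : k ≫ h = (Over.homMk (Spec.map (CommRingCat.ofHom φ)) rfl :
      Over.mk (Spec.map (CommRingCat.ofHom φ) ≫ sA) ⟶ Over.mk sA) := by
    apply Over.OverMorphism.ext
    exact hk
  refine ⟨BasedFunctor.comp (AlgSt.overMap k) x, ⟨?_⟩⟩
  refine (whiskerLeftIso (AlgSt.overMap k) α : BasedFunctor.comp (BasedFunctor.comp
    (AlgSt.overMap k) x) f ≅ BasedFunctor.comp (BasedFunctor.comp (AlgSt.overMap k)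
      (AlgSt.overMap h)) a) ≪≫ whiskerRightIso (overMapCompIso k h) a ≪≫ ?_
  rw [hkh]

end S13035

end Groth.Agent.Lib.Helper15ValLift
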