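-- helper15: valuation ring witnesses for points in the closure of the image of a quasi-compact morphism of algebraic stacks
import Mathlib
import Groth.Agent.Lib.Helper15ValLift

set_option autoImplicit false
set_option backward.isDefEq.respectTransparency false
set_option backward.isDefEq.respectTransparency.types false
open CategoryTheory CategoryTheory.Functor CategoryTheory.Limits Opposite AlgebraicGeometry

universe u

namespace Groth.Agent.Lib.Helper15ValWit

open Groth.Agent.Lib.Helper17 Groth.Agent.Lib.Helper15PshFib Groth.Agent.Lib.Helper15RepComp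
  Groth.Agent.Lib.Helper15RepPsh Groth.Agent.Lib.Helper15DiagBase Groth.Agent.Lib.Helper15DiagRepSp
  Groth.Agent.Lib.Helper15Descent Groth.Agent.Lib.Helper15DiagLft
  Groth.Agent.Lib.Helper15DiagDescent Groth.Agent.Lib.Helper15SpMapRep
  Groth.Agent.Lib.Helper15SrcCancel Groth.Agent.Lib.Helper15ChartSp Groth.Agent.Lib.Helper15Atlas
  Groth.Agent.Lib.Helper15LocEss Groth.Agent.Lib.Helper15UnivComp Groth.Agent.Lib.Helper15SmLoc
  Groth.Agent.Lib.Helper15PtsComp Groth.Agent.Lib.Helper15PtsTop Groth.Agent.Lib.Helper15PtsQc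
  Groth.Agent.Lib.Helper15FpSwap Groth.Agent.Lib.Helper15QcLocal Groth.Agent.Lib.Helper15ClosedQc
  Groth.Agent.Lib.Helper15UnivPts Groth.Agent.Lib.Helper15BaseChange
  Groth.Agent.Lib.Helper15BaseChange2
  Groth.Agent.Lib.Helper15MonoSep Groth.Agent.Lib.Helper15LocQ Groth.Agent.Lib.Helper15LocQEngine
  Groth.Agent.Lib.Helper15LocQProps Groth.Agent.Lib.Helper15LocQSpace
  Groth.Agent.Lib.Helper15LocQSpace2 Groth.Agent.Lib.Helper15LocQRep
  Groth.Agent.Lib.Helper15LocQComp Groth.Agent.Lib.Helper15GoodComp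
  Groth.Agent.Lib.Helper15LocQCancel Groth.Agent.Lib.Helper15LocQBC
  Groth.Agent.Lib.Helper15LocQDiag Groth.Agent.Lib.Helper15LocQDescent
  Groth.Agent.Lib.Helper15RepDescent Groth.Agent.Lib.Helper15QcDescent
  Groth.Agent.Lib.Helper15FppfLiftFam Groth.Agent.Lib.Helper15ValLift




section S13036

open IsLocalRing

theorem exists_specializes_of_mem_closure_range_Spec {R B : CommRingCat.{u}} (φ : R ⟶ B)
    (p₀ : Spec R) (hp : p₀ ∈ closure (Set.range (Spec.map φ))) :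
    ∃ q : Spec B, (Spec.map φ) q ⤳ p₀ := by
  have h1 : p₀ ∈ PrimeSpectrum.zeroLocus (RingHom.ker φ.hom : Set R) := by
    rw [← PrimeSpectrum.closure_range_comap]
    exact hp
  have h2 : RingHom.ker φ.hom ≤ p₀.asIdeal := h1
  obtain ⟨p', hp'min, hp'le⟩ := Ideal.exists_minimalPrimes_le h2
  obtain ⟨q, hq, -, hqc⟩ := Ideal.exists_comap_eq_of_mem_minimalPrimes (I := ⊥) φ.hom p' hp'min
  refine ⟨(⟨q, hq⟩ : PrimeSpectrum B), ?_⟩
  refine (PrimeSpectrum.le_iff_specializes (R := R) _ _).1 ?_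
  show Ideal.comap φ.hom q ≤ p₀.asIdeal
  rw [hqc]
  exact hp'le

theorem exists_specializes_of_mem_closure_range {W V : Scheme.{u}} [IsAffine W] [IsAffine V]
    (h : W ⟶ V) (v₀ : V) (hv : v₀ ∈ closure (Set.range h)) :
    ∃ w₀ : W, h w₀ ⤳ v₀ := by
  have hnat := Scheme.isoSpec_hom_naturality h
  have h1 : V.isoSpec.hom v₀ ∈ closure (Set.range (Spec.map h.appTop)) := by
    refine map_mem_closure V.isoSpec.hom.continuous hv ?_
    rintro _ ⟨w, rfl⟩
    refine ⟨W.isoSpec.hom w, ?_⟩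
    rw [← Scheme.Hom.comp_apply, hnat, Scheme.Hom.comp_apply]
  obtain ⟨q, hq⟩ := exists_specializes_of_mem_closure_range_Spec h.appTop _ h1
  refine ⟨W.isoSpec.inv q, ?_⟩
  have h2 := hq.map V.isoSpec.inv.continuous
  rw [← Scheme.Hom.comp_apply, ← Scheme.Hom.comp_apply, Iso.hom_inv_id,
    Scheme.isoSpec_inv_naturality, Scheme.Hom.comp_apply] at h2
  exact h2

theorem exists_valuationRing_of_specializes {W V : Scheme.{u}} (h : W ⟶ V) (w₀ : W) (v₀ : V)
    (hs : h w₀ ⤳ v₀) :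
    ∃ (A : Type u) (_ : CommRing A) (_ : IsDomain A) (_ : ValuationRing A)
      (c : Spec (CommRingCat.of A) ⟶ V) (d : Spec (CommRingCat.of (FractionRing A)) ⟶ W),
      d ≫ h = Spec.map (CommRingCat.ofHom (algebraMap A (FractionRing A))) ≫ c ∧
      c (closedPoint A) = v₀ := by
  let K := W.residueField w₀
  let s : V.presheaf.stalk v₀ ⟶ W.residueField w₀ :=
    V.presheaf.stalkSpecializes hs ≫ h.stalkMap w₀ ≫ W.residue w₀
  obtain ⟨A, hA, hA_local⟩ := exists_factor_valuationRing s.hom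
  let sA : V.presheaf.stalk v₀ ⟶ .of A := CommRingCat.ofHom (s.hom.codRestrict _ hA)
  have w : W.fromSpecResidueField w₀ ≫ h =
      Spec.map (CommRingCat.ofHom (algebraMap A (W.residueField w₀))) ≫
        Spec.map sA ≫ V.fromSpecStalk v₀ := by
    rw [Scheme.fromSpecResidueField, Category.assoc, ← Scheme.SpecMap_stalkMap_fromSpecStalk,
      ← Scheme.SpecMap_stalkSpecializes_fromSpecStalk hs]
    simp_rw [← Spec.map_comp_assoc]
    rfl
  let e : FractionRing A ≃ₐ[A] K := FractionRing.algEquiv A K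
  refine ⟨A, inferInstance, inferInstance, inferInstance, Spec.map sA ≫ V.fromSpecStalk v₀,
    Spec.map (CommRingCat.ofHom (e.symm : K →+* FractionRing A)) ≫ W.fromSpecResidueField w₀,
    ?_, ?_⟩
  · rw [Category.assoc, w, ← Spec.map_comp_assoc]
    congr 2
    ext a
    exact e.symm.commutes a
  · rw [Scheme.Hom.comp_apply]
    have : Spec.map sA (closedPoint A) = closedPoint (V.presheaf.stalk v₀) :=
      comap_closedPoint (S := A) (s.hom.codRestrict A.toSubring hA)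
    rw [this, V.fromSpecStalk_closedPoint]


variable {S : Scheme.{u}} {𝒳 𝒴 𝒵 : AlgSt.Cat S}

/-- A chart of the 2-fibre product with a chart of the target gives a chart square. -/
theorem exists_square_of_fp_chart (f : 𝒳 ⥤ᵇ 𝒴) {V U : Over S} (y : FibCat.overCat V ⥤ᵇ 𝒴)
    (ℓ : FibCat.overCat U ⥤ᵇ FibCat.fp f y) :
    ∃ (x : FibCat.overCat U ⥤ᵇ 𝒳) (h : U ⟶ V)
      (α : BasedFunctor.comp x f ≅ BasedFunctor.comp (AlgSt.overMap h) y),
      Nonempty (ℓ ≅ FibCat.fpLift x (AlgSt.overMap h) α) := by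
  obtain ⟨h, ⟨lam⟩⟩ := exists_iso_overMap (BasedFunctor.comp ℓ (FibCat.fpSnd f y))
  let x : FibCat.overCat U ⥤ᵇ 𝒳 := BasedFunctor.comp ℓ (FibCat.fpFst f y)
  let α : BasedFunctor.comp x f ≅ BasedFunctor.comp (AlgSt.overMap h) y :=
    (whiskerLeftIso ℓ (FibCat.fpIso f y) : BasedFunctor.comp x f ≅
      BasedFunctor.comp (BasedFunctor.comp ℓ (FibCat.fpSnd f y)) y) ≪≫ whiskerRightIso lam y
  exact ⟨x, h, α, ⟨fpIsoMk f y (H := ℓ) (K := FibCat.fpLift x (AlgSt.overMap h) α) (Iso.refl _) lam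
      (fun a => by
        change f.map (𝟙 _) ≫ ((ℓ.obj a).obj.iso.hom ≫ y.map (lam.hom.toNatTrans.app a)) = _
        rw [f.toFunctor.map_id, Category.id_comp])⟩⟩

theorem exists_valuationRing_witness
    (h𝒳 : AlgSt.IsAlgStack Scheme.fppfPrecoverage 𝒳)
    (h𝒴 : AlgSt.IsAlgStack Scheme.fppfPrecoverage 𝒴)
    (f : 𝒳 ⥤ᵇ 𝒴)
    (hf : AlgSt.IsQuasiCompactMor Scheme.fppfPrecoverage f)
    (y : AlgSt.Points 𝒴) (hy : y ∈ closure (Set.range (AlgSt.Points.map f))) :
    ∃ (A : Type u) (_ : CommRing A) (_ : IsDomain A) (_ : ValuationRing A)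
      (sA : Spec (CommRingCat.of A) ⟶ S)
      (a : FibCat.overCat (Over.mk sA) ⥤ᵇ 𝒴)
      (x : FibCat.overCat (Over.mk (Spec.map (CommRingCat.ofHom
        (algebraMap A (FractionRing A))) ≫ sA)) ⥤ᵇ 𝒳),
      Nonempty (BasedFunctor.comp x f ≅
        BasedFunctor.comp (AlgSt.overMap (Over.homMk (Spec.map (CommRingCat.ofHom
          (algebraMap A (FractionRing A)))) rfl :
          Over.mk (Spec.map (CommRingCat.ofHom (algebraMap A (FractionRing A))) ≫ sA) ⟶
            Over.mk sA)) a) ∧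
      AlgSt.Points.ofChart a (IsLocalRing.closedPoint A) = y := by
  obtain ⟨V, v, hv₁, hv₂⟩ := h𝒴.atlas
  obtain ⟨v₀, rfl⟩ := surjective_ofChart h𝒴 v hv₂ y
  obtain ⟨Aop', hAaff, hv₀A, -⟩ :=
    TopologicalSpace.Opens.isBasis_iff_nbhd.mp (V.left.isBasis_affineOpens)
      (show v₀ ∈ (⊤ : V.left.Opens) from trivial)
  let Aop : V.left.Opens := Aop'
  let V₀ : Over S := Over.mk (Aop.ι ≫ V.hom)
  let ι : V₀ ⟶ V := Over.homMk Aop.ι rfl
  let y₀ : FibCat.overCat V₀ ⥤ᵇ 𝒴 := BasedFunctor.comp (AlgSt.overMap ι) v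
  have hV₀aff : IsAffine V₀.left := hAaff
  have hq : AlgSt.IsQuasiCompact (FibCat.fp y₀ f) :=
    hf _ (isAlgStack_overCat V₀) (isQuasiCompact_overCat V₀ hV₀aff) y₀
  have hq' : AlgSt.IsQuasiCompact (FibCat.fp f y₀) :=
    Groth.Agent.Lib.Helper15UnivComp.isQuasiCompact_of_isEquivOver _ (isEquivOver_fpSwap y₀ f) hq
  obtain ⟨W, ℓ, hWaff, hℓ₁, hℓ₂⟩ := hq'
  obtain ⟨x, h, α, ⟨i⟩⟩ := exists_square_of_fp_chart f y₀ ℓ
  have hsurj := repByAlgSpWith_of_iso _ i hℓ₂
  have hopen : IsOpenMap (AlgSt.Points.ofChart y₀) := by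
    have : AlgSt.Points.ofChart y₀ = AlgSt.Points.ofChart v ∘ ι.left :=
      funext (fun t => ofChart_overMap ι v t)
    rw [this]
    exact (isOpenMap_ofChart h𝒴 v (flat_of_smooth hv₁) (lfp_of_smooth hv₁)).comp
      Aop.ι.isOpenEmbedding.isOpenMap
  let v₀' : V₀.left := ⟨v₀, hv₀A⟩
  have hv₀' : AlgSt.Points.ofChart y₀ v₀' = AlgSt.Points.ofChart v v₀ := ofChart_overMap ι v v₀'
  have hrange : AlgSt.Points.ofChart y₀ ⁻¹' (Set.range (AlgSt.Points.map f)) =
      Set.range h.left := by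
    ext u
    constructor
    · intro hu
      obtain ⟨t, ht⟩ := exists_preimage_of_good_square h𝒳 h𝒴 f x y₀ h α hsurj u hu
      exact ⟨t, ht⟩
    · rintro ⟨t, rfl⟩
      refine ⟨AlgSt.Points.ofChart x t, ?_⟩
      rw [← ofChart_comp, ofChart_congr α, ofChart_overMap]
  have hcl : v₀' ∈ closure (Set.range h.left) := by
    rw [← hrange]
    apply hopen.preimage_closure_subset_closure_preimage
    rw [Set.mem_preimage, hv₀']
    exact hy
  have : IsAffine W.left := hWaff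
  obtain ⟨w₀, hw₀⟩ := exists_specializes_of_mem_closure_range h.left v₀' hcl
  obtain ⟨A, i1, i2, i3, c, d, hcd, hc⟩ := exists_valuationRing_of_specializes h.left w₀ v₀' hw₀
  let sA : Spec (CommRingCat.of A) ⟶ S := c ≫ V₀.hom
  let cO : Over.mk sA ⟶ V₀ := Over.homMk c rfl
  let a : FibCat.overCat (Over.mk sA) ⥤ᵇ 𝒴 := BasedFunctor.comp (AlgSt.overMap cO) y₀
  let j : Over.mk (Spec.map (CommRingCat.ofHom (algebraMap A (FractionRing A))) ≫ sA) ⟶
      Over.mk sA := Over.homMk (Spec.map (CommRingCat.ofHom (algebraMap A (FractionRing A)))) rfl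
  have hdw : d ≫ W.hom = Spec.map (CommRingCat.ofHom (algebraMap A (FractionRing A))) ≫ sA := by
    have := Over.w h
    rw [← this, ← Category.assoc, hcd, Category.assoc]
  let dO : Over.mk (Spec.map (CommRingCat.ofHom (algebraMap A (FractionRing A))) ≫ sA) ⟶ W :=
    Over.homMk d hdw
  have hsq : dO ≫ h = j ≫ cO := by
    apply Over.OverMorphism.ext
    exact hcd
  refine ⟨A, i1, i2, i3, sA, a, BasedFunctor.comp (AlgSt.overMap dO) x, ⟨?_⟩, ?_⟩
  · refine (whiskerLeftIso (AlgSt.overMap dO) α : BasedFunctor.comp (BasedFunctor.comp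
      (AlgSt.overMap dO) x) f ≅ BasedFunctor.comp (BasedFunctor.comp (AlgSt.overMap dO)
        (AlgSt.overMap h)) y₀) ≪≫ whiskerRightIso (overMapCompIso dO h) y₀ ≪≫ ?_ ≪≫
      (whiskerRightIso (overMapCompIso j cO) y₀).symm
    rw [hsq]
  · show AlgSt.Points.ofChart (BasedFunctor.comp (AlgSt.overMap cO) y₀) _ = _
    rw [ofChart_overMap]
    show AlgSt.Points.ofChart y₀ (c (IsLocalRing.closedPoint A)) = _
    rw [hc, hv₀']

end S13036

end Groth.Agent.Lib.Helper15ValWit
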