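-- helper15: quasi-compactness cancellation through quasi-separated morphisms of algebraic stacks
import Mathlib
import Groth.Agent.Lib.Helper15ValWit
import Groth.Agent.Lib.Helper15QcRep

set_option autoImplicit false
set_option backward.isDefEq.respectTransparency false
set_option backward.isDefEq.respectTransparency.types false
open CategoryTheory CategoryTheory.Functor CategoryTheory.Limits Opposite AlgebraicGeometry

universe u

namespace Groth.Agent.Lib.Helper15QcQs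

open Groth.Agent.Lib.Helper17 Groth.Agent.Lib.Helper15PshFib Groth.Agent.Lib.Helper15RepComp
  Groth.Agent.Lib.Helper15RepPsh Groth.Agent.Lib.Helper15DiagBase Groth.Agent.Lib.Helper15DiagRepSp
  Groth.Agent.Lib.Helper15Descent Groth.Agent.Lib.Helper15DiagLft
  Groth.Agent.Lib.Helper15DiagDescent Groth.Agent.Lib.Helper15SpMapRep
  Groth.Agent.Lib.Helper15SrcCancel Groth.Agent.Lib.Helper15ChartSp Groth.Agent.Lib.Helper15Atlas
  Groth.Agent.Lib.Helper15LocEss Groth.Agent.Lib.Helper15UnivComp Groth.Agent.Lib.Helper15SmLoc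
  Groth.Agent.Lib.Helper15PtsComp Groth.Agent.Lib.Helper15PtsTop Groth.Agent.Lib.Helper15PtsQc
  Groth.Agent.Lib.Helper15FpSwap Groth.Agent.Lib.Helper15QcLocal Groth.Agent.Lib.Helper15ClosedQc
  Groth.Agent.Lib.Helper15UnivPts Groth.Agent.Lib.Helper15BaseChange
  Groth.Agent.Lib.Helper15BaseChange2
  Groth.Agent.Lib.Helper15MonoSep Groth.Agent.Lib.Helper15LocQ Groth.Agent.Lib.Helper15LocQEngine
  Groth.Agent.Lib.Helper15LocQProps Groth.Agent.Lib.Helper15LocQSpace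
  Groth.Agent.Lib.Helper15LocQSpace2 Groth.Agent.Lib.Helper15LocQRep
  Groth.Agent.Lib.Helper15LocQComp Groth.Agent.Lib.Helper15GoodComp
  Groth.Agent.Lib.Helper15LocQCancel Groth.Agent.Lib.Helper15LocQBC
  Groth.Agent.Lib.Helper15LocQDiag Groth.Agent.Lib.Helper15LocQDescent
  Groth.Agent.Lib.Helper15RepDescent Groth.Agent.Lib.Helper15QcDescent
  Groth.Agent.Lib.Helper15FppfLiftFam Groth.Agent.Lib.Helper15ValLift
  Groth.Agent.Lib.Helper15ValWit Groth.Agent.Lib.Helper15QcRep Groth.Agent.Lib.Helper15UnivComp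





section S12986

variable {S : Scheme.{u}} {𝒳 𝒴 𝒵 : AlgSt.Cat S}

/-- Cancellation: if `f ⋙ g` is quasi-compact and the diagonal of `g` is representable and
quasi-compact, then `f` is quasi-compact.  The target `𝒵` only needs to be a prestack with
representable diagonal. -/
theorem isQuasiCompactMor_of_comp_of_diag
    (h𝒳 : AlgSt.IsAlgStack Scheme.fppfPrecoverage 𝒳)
    (h𝒴 : AlgSt.IsAlgStack Scheme.fppfPrecoverage 𝒴)
    (hpre𝒵 : Stk.IsPrestack (QuotSh.J Scheme.fppfPrecoverage S) 𝒵)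
    (hΔ𝒵 : AlgSt.RepByAlgSp1 (FibCat.diag (FibCat.toSelf 𝒵)))
    (f : 𝒳 ⥤ᵇ 𝒴) (g : 𝒴 ⥤ᵇ 𝒵)
    (hfg : ∀ (𝒯 : AlgSt.Cat S), AlgSt.IsAlgStack Scheme.fppfPrecoverage 𝒯 →
      AlgSt.IsQuasiCompact 𝒯 → ∀ (t : 𝒯 ⥤ᵇ 𝒵),
        AlgSt.IsQuasiCompact (FibCat.fp t (BasedFunctor.comp f g)))
    (hg : AlgSt.RepByAlgSpWith AlgSp.IsQuasiCompactMor (FibCat.diag g)) :
    AlgSt.IsQuasiCompactMor Scheme.fppfPrecoverage f := by
  intro 𝒯 h𝒯 hqc t
  have hpre𝒴 := IsStack.isPrestack _ h𝒴.isStack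
  have hP : AlgSt.IsAlgStack Scheme.fppfPrecoverage (FibCat.fp t f) :=
    isAlgStack_fp_of_isPrestack hpre𝒴 h𝒴.diag h𝒯 h𝒳 t f
  have hQ : AlgSt.IsAlgStack Scheme.fppfPrecoverage
      (FibCat.fp (BasedFunctor.comp t g) (BasedFunctor.comp f g)) :=
    isAlgStack_fp_of_isPrestack hpre𝒵 hΔ𝒵 h𝒯 h𝒳 _ _
  have hQqc : AlgSt.IsQuasiCompact (FibCat.fp (BasedFunctor.comp t g) (BasedFunctor.comp f g)) :=
    hfg 𝒯 h𝒯 hqc (BasedFunctor.comp t g)
  have hc : AlgSt.RepByAlgSpWith AlgSp.IsQuasiCompactMor (toRel t f g) :=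
    repByAlgSpWith_toRel _ t f g hg
  have hcq := isQuasiCompactMor_of_rep hP hQ (toRel t f g) hc
  have h1 := hcq _ hQ hQqc (BasedFunctor.id _)
  exact Groth.Agent.Lib.Helper15UnivComp.isQuasiCompact_of_isEquivOver _
    (isEquivOver_fpSnd (BasedFunctor.id _) (toRel t f g) (isEquivOver_id _)) h1

theorem isQuasiCompactMor_of_comp_of_isQuasiSeparatedMor
    (h𝒳 : AlgSt.IsAlgStack Scheme.fppfPrecoverage 𝒳)
    (h𝒴 : AlgSt.IsAlgStack Scheme.fppfPrecoverage 𝒴)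
    (h𝒵 : AlgSt.IsAlgStack Scheme.fppfPrecoverage 𝒵)
    (f : 𝒳 ⥤ᵇ 𝒴) (g : 𝒴 ⥤ᵇ 𝒵)
    (hfg : AlgSt.IsQuasiCompactMor Scheme.fppfPrecoverage (BasedFunctor.comp f g))
    (hg : AlgSt.IsQuasiSeparatedMor g) :
    AlgSt.IsQuasiCompactMor Scheme.fppfPrecoverage f :=
  isQuasiCompactMor_of_comp_of_diag h𝒳 h𝒴 (IsStack.isPrestack _ h𝒵.isStack) h𝒵.diag f g hfg
    (repByAlgSpWith_mono (fun _ _ _ h => h.1) _ hg)

end S12986

end Groth.Agent.Lib.Helper15QcQs
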