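-- helper15: products of quasi-compact algebraic stacks over a quasi-separated base; quasi-compactness of morphisms to quasi-separated stacks
import Mathlib
import Groth.Agent.Lib.Helper15QcQs
import Groth.Agent.S12825

set_option autoImplicit false
set_option backward.isDefEq.respectTransparency false
set_option backward.isDefEq.respectTransparency.types false
open CategoryTheory CategoryTheory.Functor CategoryTheory.Limits Opposite AlgebraicGeometry

universe u

namespace Groth.Agent.Lib.Helper15QcProd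

open Groth.Agent.Lib.Helper17 Groth.Agent.Lib.Helper15PshFib Groth.Agent.Lib.Helper15RepComp
  Groth.Agent.Lib.Helper15RepPsh Groth.Agent.Lib.Helper15DiagBase Groth.Agent.Lib.Helper15DiagRepSp
  Groth.Agent.Lib.Helper15Descent Groth.Agent.Lib.Helper15DiagLft
  Groth.Agent.Lib.Helper15DiagDescent Groth.Agent.Lib.Helper15SpMapRep
  Groth.Agent.Lib.Helper15SrcCancel Groth.Agent.Lib.Helper15ChartSp Groth.Agent.Lib.Helper15Atlas
  Groth.Agent.Lib.Helper15LocEss Groth.Agent.Lib.Helper15UnivComp Groth.Agent.Lib.Helper15SmLoc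
  Groth.Agent.Lib.Helper15PtsComp Groth.Agent.Lib.Helper15PtsTop Groth.Agent.Lib.Helper15PtsQc
  Groth.Agent.Lib.Helper15FpSwap Groth.Agent.Lib.Helper15QcLocal Groth.Agent.Lib.Helper15ClosedQc
  Groth.Agent.Lib.Helper15UnivPts Groth.Agent.Lib.Helper15BaseChange
  Groth.Agent.Lib.Helper15BaseChange2
  Groth.Agent.Lib.Helper15MonoSep Groth.Agent.Lib.Helper15LocQ Groth.Agent.Lib.Helper15LocQEngine
  Groth.Agent.Lib.Helper15LocQProps Groth.Agent.Lib.Helper15LocQSpace
  Groth.Agent.Lib.Helper15LocQSpace2 Groth.Agent.Lib.Helper15LocQRep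
  Groth.Agent.Lib.Helper15LocQComp Groth.Agent.Lib.Helper15GoodComp
  Groth.Agent.Lib.Helper15LocQCancel Groth.Agent.Lib.Helper15LocQBC
  Groth.Agent.Lib.Helper15LocQDiag Groth.Agent.Lib.Helper15LocQDescent
  Groth.Agent.Lib.Helper15RepDescent Groth.Agent.Lib.Helper15QcDescent
  Groth.Agent.Lib.Helper15FppfLiftFam Groth.Agent.Lib.Helper15ValLift
  Groth.Agent.Lib.Helper15ValWit Groth.Agent.Lib.Helper15QcRep Groth.Agent.Lib.Helper15UnivComp
  Groth.Agent.Lib.Helper15QcQs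






section S12987

variable {S : Scheme.{u}} {𝒳 𝒴 𝒵 𝒯 𝒰 : AlgSt.Cat S}

theorem compactSpace_prod_left [QuasiSeparatedSpace S] (V U : Over S) (hV : IsAffine V.left)
    (hU : IsAffine U.left) : CompactSpace ↥(V ⨯ U).left := by
  have h1 : QuasiCompact V.hom := inferInstance
  have h2 : QuasiCompact (pullback.snd V.hom U.hom) := inferInstance
  have h3 : CompactSpace ↥(pullback V.hom U.hom) :=
    QuasiCompact.compactSpace_of_compactSpace (pullback.snd V.hom U.hom)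
  exact (Over.prodLeftIsoPullback V U).symm.hom.homeomorph.compactSpace

theorem isQuasiCompact_overCat_of_compactSpace (P : Over S) (hP : CompactSpace ↥P.left) :
    AlgSt.IsQuasiCompact (FibCat.overCat P) := by
  rw [isQuasiCompact_iff_compactSpace (isAlgStack_overCat P)]
  have hs := surjective_ofChart (isAlgStack_overCat P) (BasedFunctor.id _)
    (Groth.Agent.Lib.Helper15EquivRep.repByAlgSpWith_of_isEquivOver _ isSurjectiveMor_id
      (BasedFunctor.id _) (isEquivOver_id _))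
  have hc := continuous_ofChart (isAlgStack_overCat P) (BasedFunctor.id (FibCat.overCat P))
  exact ⟨by rw [← Set.image_univ_of_surjective hs]; exact isCompact_univ.image hc⟩

/-- Quasi-compactness of a 2-fibre product can be checked after a surjective base change of the
second factor. -/
theorem isQuasiCompact_fp_of_surjective
    (hpre𝒵 : Stk.IsPrestack (QuotSh.J Scheme.fppfPrecoverage S) 𝒵)
    (hΔ𝒵 : AlgSt.RepByAlgSp1 (FibCat.diag (FibCat.toSelf 𝒵)))
    (h𝒯 : AlgSt.IsAlgStack Scheme.fppfPrecoverage 𝒯)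
    (h𝒳 : AlgSt.IsAlgStack Scheme.fppfPrecoverage 𝒳)
    (h𝒰 : AlgSt.IsAlgStack Scheme.fppfPrecoverage 𝒰)
    (t : 𝒯 ⥤ᵇ 𝒵) (q : 𝒳 ⥤ᵇ 𝒵) (b : 𝒰 ⥤ᵇ 𝒳) (hb : AlgSt.IsSurjective b)
    (h : AlgSt.IsQuasiCompact (FibCat.fp t (BasedFunctor.comp b q))) :
    AlgSt.IsQuasiCompact (FibCat.fp t q) := by
  have hWq : AlgSt.IsAlgStack Scheme.fppfPrecoverage (FibCat.fp t q) :=
    isAlgStack_fp_of_isPrestack hpre𝒵 hΔ𝒵 h𝒯 h𝒳 t q
  have hWW : AlgSt.IsAlgStack Scheme.fppfPrecoverage (FibCat.fp (FibCat.fpSnd t q) b) :=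
    isAlgStack_fp_of_isPrestack (IsStack.isPrestack _ h𝒳.isStack) h𝒳.diag hWq h𝒰
      (FibCat.fpSnd t q) b
  obtain ⟨I, hI, -, -⟩ := IsEquivOver.exists_inverse_isEquivOver' (pasteR t b q)
    (isEquivOver_pasteR t b q)
  have h3 := Groth.Agent.Lib.Helper15UnivComp.isQuasiCompact_of_isEquivOver I hI h
  exact isQuasiCompact_of_isSurjective hWW hWq (FibCat.fpFst (FibCat.fpSnd t q) b)
    (Groth.Agent.S12825.result h𝒰 h𝒳 hWq b (FibCat.fpSnd t q) hb) h3

/-- Over a quasi-separated base, the product of two quasi-compact algebraic stacks is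
quasi-compact. -/
theorem isQuasiCompact_prod [QuasiSeparatedSpace S]
    (h𝒯 : AlgSt.IsAlgStack Scheme.fppfPrecoverage 𝒯)
    (h𝒳 : AlgSt.IsAlgStack Scheme.fppfPrecoverage 𝒳)
    (hq𝒯 : AlgSt.IsQuasiCompact 𝒯) (hq𝒳 : AlgSt.IsQuasiCompact 𝒳)
    (t : 𝒯 ⥤ᵇ FibCat.selfOver (Over S)) (q : 𝒳 ⥤ᵇ FibCat.selfOver (Over S)) :
    AlgSt.IsQuasiCompact (FibCat.fp t q) := by
  obtain ⟨T, a, hT, ha₁, ha₂⟩ := hq𝒯
  obtain ⟨X, b, hX, hb₁, hb₂⟩ := hq𝒳
  have has : AlgSt.IsSurjective a :=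
    (isSurjective_iff_repByAlgSpWith (isAlgStack_overCat T) h𝒯 a
      (repByAlgSp1_of_repByAlgSpWith _ _ ha₂)).2 ha₂
  have hbs : AlgSt.IsSurjective b :=
    (isSurjective_iff_repByAlgSpWith (isAlgStack_overCat X) h𝒳 b
      (repByAlgSp1_of_repByAlgSpWith _ _ hb₂)).2 hb₂
  apply isQuasiCompact_fp_of_surjective isPrestack_selfOver repByAlgSp1_diag_selfOver h𝒯 h𝒳
    (isAlgStack_overCat X) t q b hbs
  apply Groth.Agent.Lib.Helper15UnivComp.isQuasiCompact_of_isEquivOver _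
    (isEquivOver_fpSwap (BasedFunctor.comp b q) t)
  apply isQuasiCompact_fp_of_surjective isPrestack_selfOver repByAlgSp1_diag_selfOver
    (isAlgStack_overCat X) h𝒯 (isAlgStack_overCat T) (BasedFunctor.comp b q) t a has
  have := IsEquivOver.isEquivalence (BasedFunctor.id (FibCat.selfOver (Over S))) (isEquivOver_id _)
  have hM := isEquivOver_fpMap (BasedFunctor.comp b q) (BasedFunctor.comp a t)
    (FibCat.toSelf (FibCat.overCat X))
    (FibCat.toSelf (FibCat.overCat T)) (BasedFunctor.id _) (BasedFunctor.id _) (BasedFunctor.id _)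
    (selfOverIso _ _) (selfOverIso _ _) (isEquivOver_id _) (isEquivOver_id _)
  have h1 := Groth.Agent.Lib.Helper15UnivComp.isQuasiCompact_of_isEquivOver _
    (isEquivOver_toProdSlice X T)
    (isQuasiCompact_overCat_of_compactSpace (X ⨯ T) (compactSpace_prod_left X T hX hT))
  exact Groth.Agent.Lib.Helper15UnivComp.isQuasiCompact_of_isEquivOver _ hM h1

theorem isQuasiCompactMor_of_isQuasiCompact_of_isQuasiSeparatedOver [QuasiSeparatedSpace S]
    (h𝒳 : AlgSt.IsAlgStack Scheme.fppfPrecoverage 𝒳)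
    (h𝒴 : AlgSt.IsAlgStack Scheme.fppfPrecoverage 𝒴)
    (f : 𝒳 ⥤ᵇ 𝒴) (hq : AlgSt.IsQuasiCompact 𝒳) (hs : AlgSt.IsQuasiSeparatedOver 𝒴) :
    AlgSt.IsQuasiCompactMor Scheme.fppfPrecoverage f :=
  isQuasiCompactMor_of_comp_of_diag h𝒳 h𝒴 isPrestack_selfOver repByAlgSp1_diag_selfOver f
    (FibCat.toSelf 𝒴)
    (fun _ h𝒯 hqc t => isQuasiCompact_prod h𝒯 h𝒳 hqc hq t _)
    (repByAlgSpWith_mono (fun _ _ _ h => h.1) _ hs)

end S12987

end Groth.Agent.Lib.Helper15QcProd
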