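-- helper15: universally injective iff the diagonal is surjective on points, for algebraic stacks
import Mathlib
import Groth.Agent.Lib.Helper15QcProd

set_option autoImplicit false
set_option backward.isDefEq.respectTransparency false
set_option backward.isDefEq.respectTransparency.types false
open CategoryTheory CategoryTheory.Functor CategoryTheory.Limits Opposite AlgebraicGeometry

universe u

namespace Groth.Agent.Lib.Helper15UnivInjDiag

open Groth.Agent.Lib.Helper17 Groth.Agent.Lib.Helper15PshFib Groth.Agent.Lib.Helper15RepComp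
  Groth.Agent.Lib.Helper15RepPsh Groth.Agent.Lib.Helper15DiagBase Groth.Agent.Lib.Helper15DiagRepSp
  Groth.Agent.Lib.Helper15Descent Groth.Agent.Lib.Helper15DiagLft
  Groth.Agent.Lib.Helper15DiagDescent Groth.Agent.Lib.Helper15SpMapRep
  Groth.Agent.Lib.Helper15SrcCancel Groth.Agent.Lib.Helper15ChartSp Groth.Agent.Lib.Helper15Atlas
  Groth.Agent.Lib.Helper15LocEss Groth.Agent.Lib.Helper15UnivComp Groth.Agent.Lib.Helper15SmLoc
  Groth.Agent.Lib.Helper15PtsComp Groth.Agent.Lib.Helper15PtsTop Groth.Agent.Lib.Helper15PtsQc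
  Groth.Agent.Lib.Helper15FpSwap Groth.Agent.Lib.Helper15QcLocal Groth.Agent.Lib.Helper15ClosedQc
  Groth.Agent.Lib.Helper15UnivPts Groth.Agent.Lib.Helper15BaseChange
  Groth.Agent.Lib.Helper15BaseChange2
  Groth.Agent.Lib.Helper15MonoSep Groth.Agent.Lib.Helper15LocQ Groth.Agent.Lib.Helper15LocQEngine
  Groth.Agent.Lib.Helper15LocQProps Groth.Agent.Lib.Helper15LocQSpace
  Groth.Agent.Lib.Helper15LocQSpace2 Groth.Agent.Lib.Helper15LocQRep
  Groth.Agent.Lib.Helper15LocQComp Groth.Agent.Lib.Helper15GoodComp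
  Groth.Agent.Lib.Helper15LocQCancel Groth.Agent.Lib.Helper15LocQBC
  Groth.Agent.Lib.Helper15LocQDiag Groth.Agent.Lib.Helper15LocQDescent
  Groth.Agent.Lib.Helper15RepDescent Groth.Agent.Lib.Helper15QcDescent
  Groth.Agent.Lib.Helper15FppfLiftFam Groth.Agent.Lib.Helper15ValLift
  Groth.Agent.Lib.Helper15ValWit Groth.Agent.Lib.Helper15QcRep Groth.Agent.Lib.Helper15UnivComp
  Groth.Agent.Lib.Helper15QcQs Groth.Agent.Lib.Helper15QcProd Groth.Agent.Lib.Helper15.DiagBC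







section S12831

variable {S : Scheme.{u}} {𝒳 𝒴 𝒵 : AlgSt.Cat S}

theorem isSurjective_diag_of_isUnivInjective (h𝒳 : AlgSt.IsAlgStack Scheme.fppfPrecoverage 𝒳)
    (f : 𝒳 ⥤ᵇ 𝒴) (hU : AlgSt.IsUnivInjective Scheme.fppfPrecoverage f) :
    AlgSt.IsSurjective (FibCat.diag f) := by
  intro w
  have hinj := hU 𝒳 h𝒳 f
  refine ⟨AlgSt.Points.map (FibCat.fpFst f f) w, hinj ?_⟩
  rw [← points_map_comp]
  exact (points_map_congr (BasedFunctor.comp (FibCat.diag f) (FibCat.fpFst f f))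
    (BasedFunctor.id 𝒳) (Iso.refl _) _).trans (points_map_id _)

theorem isSurjective_diag_fpFst (h𝒳 : AlgSt.IsAlgStack Scheme.fppfPrecoverage 𝒳)
    (h𝒴 : AlgSt.IsAlgStack Scheme.fppfPrecoverage 𝒴)
    (h𝒵 : AlgSt.IsAlgStack Scheme.fppfPrecoverage 𝒵) (f : 𝒳 ⥤ᵇ 𝒴) (g : 𝒵 ⥤ᵇ 𝒴)
    (hΔ : AlgSt.IsSurjective (FibCat.diag f)) :
    AlgSt.IsSurjective (FibCat.diag (FibCat.fpFst g f)) := by
  have hpre𝒴 := IsStack.isPrestack _ h𝒴.isStack
  have hP : AlgSt.IsAlgStack Scheme.fppfPrecoverage (FibCat.fp g f) :=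
    isAlgStack_fp_of_isPrestack hpre𝒴 h𝒴.diag h𝒵 h𝒳 g f
  have hff : AlgSt.IsAlgStack Scheme.fppfPrecoverage (FibCat.fp f f) :=
    isAlgStack_fp_of_isPrestack hpre𝒴 h𝒴.diag h𝒳 h𝒳 f f
  have hPP : AlgSt.IsAlgStack Scheme.fppfPrecoverage
      (FibCat.fp (FibCat.fpFst g f) (FibCat.fpFst g f)) :=
    isAlgStack_fp_of_isPrestack (IsStack.isPrestack _ h𝒵.isStack) h𝒵.diag hP hP _ _
  have h1 : AlgSt.IsSurjective (FibCat.fpFst (GG f g) (FibCat.diag f)) :=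
    Groth.Agent.S12825.result h𝒳 hff hPP (FibCat.diag f) (GG f g) hΔ
  have h2 := points_map_surjective_of_isEquivOver (EE f g) (isEquivOver_EE f g)
  intro w
  obtain ⟨v, rfl⟩ := h1 w
  obtain ⟨p, rfl⟩ := h2 v
  refine ⟨p, ?_⟩
  rw [← points_map_comp]
  exact points_map_congr (FibCat.diag (FibCat.fpFst g f))
    (BasedFunctor.comp (EE f g) (FibCat.fpFst (GG f g) (FibCat.diag f))) (Iso.refl _) _

theorem injective_of_isSurjective_diag (h𝒳 : FibCat.IsFibGrpd 𝒳.p) (h𝒴 : FibCat.IsFibGrpd 𝒴.p)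
    (f : 𝒳 ⥤ᵇ 𝒴) (hΔ : AlgSt.IsSurjective (FibCat.diag f)) :
    Function.Injective (AlgSt.Points.map f) := by
  intro p₁ p₂ h
  obtain ⟨w, hw₁, hw₂⟩ := points_fp_surjective h𝒳 h𝒴 h𝒳 f f p₁ p₂ h
  obtain ⟨p, rfl⟩ := hΔ w
  rw [← hw₁, ← hw₂, ← points_map_comp, ← points_map_comp]
  exact (points_map_congr (BasedFunctor.comp (FibCat.diag f) (FibCat.fpFst f f))
    (BasedFunctor.comp (FibCat.diag f) (FibCat.fpSnd f f)) (Iso.refl _) _)

theorem isUnivInjective_iff_isSurjective_diag (h𝒳 : AlgSt.IsAlgStack Scheme.fppfPrecoverage 𝒳)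
    (h𝒴 : AlgSt.IsAlgStack Scheme.fppfPrecoverage 𝒴) (f : 𝒳 ⥤ᵇ 𝒴) :
    AlgSt.IsUnivInjective Scheme.fppfPrecoverage f ↔ AlgSt.IsSurjective (FibCat.diag f) := by
  constructor
  · exact isSurjective_diag_of_isUnivInjective h𝒳 f
  · intro hΔ 𝒵 h𝒵 g
    have hpre𝒴 := IsStack.isPrestack _ h𝒴.isStack
    have hP : AlgSt.IsAlgStack Scheme.fppfPrecoverage (FibCat.fp g f) :=
      isAlgStack_fp_of_isPrestack hpre𝒴 h𝒴.diag h𝒵 h𝒳 g f
    exact injective_of_isSurjective_diag hP.isStack.1 h𝒵.isStack.1 _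
      (isSurjective_diag_fpFst h𝒳 h𝒴 h𝒵 f g hΔ)

end S12831

end Groth.Agent.Lib.Helper15UnivInjDiag
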