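-- helper15: invariance of diagonals under equivalences of arrows; diagonal of f via diagonals of base changes to schemes
import Mathlib
import Groth.Agent.Lib.Helper15UnivInjDiag

set_option autoImplicit false
set_option backward.isDefEq.respectTransparency false
set_option backward.isDefEq.respectTransparency.types false
open CategoryTheory CategoryTheory.Functor CategoryTheory.Limits Opposite AlgebraicGeometry

universe u

namespace Groth.Agent.Lib.Helper15DiagSq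

open Groth.Agent.Lib.Helper17 Groth.Agent.Lib.Helper15PshFib Groth.Agent.Lib.Helper15RepComp
  Groth.Agent.Lib.Helper15RepPsh Groth.Agent.Lib.Helper15DiagBase Groth.Agent.Lib.Helper15DiagRepSp
  Groth.Agent.Lib.Helper15Descent Groth.Agent.Lib.Helper15DiagLft
  Groth.Agent.Lib.Helper15DiagDescent Groth.Agent.Lib.Helper15SpMapRep
  Groth.Agent.Lib.Helper15SrcCancel Groth.Agent.Lib.Helper15ChartSp Groth.Agent.Lib.Helper15Atlas
  Groth.Agent.Lib.Helper15LocEss Groth.Agent.Lib.Helper15UnivComp Groth.Agent.Lib.Helper15SmLoc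
  Groth.Agent.Lib.Helper15PtsComp Groth.Agent.Lib.Helper15PtsTop Groth.Agent.Lib.Helper15PtsQc
  Groth.Agent.Lib.Helper15FpSwap Groth.Agent.Lib.Helper15QcLocal Groth.Agent.Lib.Helper15ClosedQc
  Groth.Agent.Lib.Helper15UnivPts Groth.Agent.Lib.Helper15BaseChange
  Groth.Agent.Lib.Helper15BaseChange2
  Groth.Agent.Lib.Helper15MonoSep Groth.Agent.Lib.Helper15LocQ Groth.Agent.Lib.Helper15LocQEngine
  Groth.Agent.Lib.Helper15LocQProps Groth.Agent.Lib.Helper15LocQSpace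
  Groth.Agent.Lib.Helper15LocQSpace2 Groth.Agent.Lib.Helper15LocQRep
  Groth.Agent.Lib.Helper15LocQComp Groth.Agent.Lib.Helper15GoodComp
  Groth.Agent.Lib.Helper15LocQCancel Groth.Agent.Lib.Helper15LocQBC
  Groth.Agent.Lib.Helper15LocQDiag Groth.Agent.Lib.Helper15LocQDescent
  Groth.Agent.Lib.Helper15RepDescent Groth.Agent.Lib.Helper15QcDescent
  Groth.Agent.Lib.Helper15FppfLiftFam Groth.Agent.Lib.Helper15ValLift
  Groth.Agent.Lib.Helper15ValWit Groth.Agent.Lib.Helper15QcRep Groth.Agent.Lib.Helper15UnivComp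
  Groth.Agent.Lib.Helper15QcQs Groth.Agent.Lib.Helper15QcProd Groth.Agent.Lib.Helper15.DiagBC
  Groth.Agent.Lib.Helper15UnivInjDiag








section A1

theorem aux_sq {D : Type*} [Category D] {X Y : D} (i : X ≅ Y) (p : X ⟶ X) (q r : Y ⟶ Y)
    (hp : p = 𝟙 _) (hq : q = 𝟙 _) (hr : r = 𝟙 _) : q ≫ 𝟙 Y = (i.inv ≫ p ≫ i.hom) ≫ r := by
  subst hp hq hr
  simp

variable {S : Scheme.{u}} {𝒜 𝒜' ℬ ℬ' : AlgSt.Cat S}

/-- The diagonal is invariant under equivalences of arrows. -/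
theorem repByAlgSpWith_diag_of_square (Q : MorphismProperty (AlgSp.Sp S))
    (k : 𝒜 ⥤ᵇ ℬ) (k' : 𝒜' ⥤ᵇ ℬ') (E : 𝒜' ⥤ᵇ 𝒜) (E' : ℬ' ⥤ᵇ ℬ)
    (hE : FibCat.IsEquivOver E) (hE' : FibCat.IsEquivOver E')
    (ι : BasedFunctor.comp k' E' ≅ BasedFunctor.comp E k) :
    AlgSt.RepByAlgSpWith Q (FibCat.diag k) ↔ AlgSt.RepByAlgSpWith Q (FibCat.diag k') := by
  have iB := IsEquivOver.isEquivalence E' hE'
  let M : FibCat.fp k' k' ⥤ᵇ FibCat.fp k k := fpMap k k k' k' E E E' ι ι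
  have hM : FibCat.IsEquivOver M := isEquivOver_fpMap k k k' k' E E E' ι ι hE hE
  refine repByAlgSpWith_of_square Q (FibCat.diag k) (FibCat.diag k') E M hE hM ?_
  exact fpIsoMk k k (H := BasedFunctor.comp (FibCat.diag k') M)
    (K := BasedFunctor.comp E (FibCat.diag k)) (Iso.refl _) (Iso.refl _) (fun a => by
      change k.map (𝟙 _) ≫ 𝟙 _ = ((bApp ι a).inv ≫ E'.map (𝟙 _) ≫ (bApp ι a).hom) ≫ k.map (𝟙 _)
      exact aux_sq (bApp ι a) _ _ _ (E'.toFunctor.map_id _) (k.toFunctor.map_id _)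
        (k.toFunctor.map_id _))

end A1

section A2

variable {S : Scheme.{u}} {𝒜 ℬ 𝒞 : AlgSt.Cat S}

/-- Representability with `Q` can be checked on base changes through which a given scheme-valued
point lifts. -/
theorem repByAlgSpWith_of_forall_lift (Q : MorphismProperty (AlgSp.Sp S)) (φ : 𝒜 ⥤ᵇ ℬ)
    (H : ∀ (U : Over S) (y : FibCat.overCat U ⥤ᵇ ℬ),
      ∃ (𝒞 : AlgSt.Cat S) (z : 𝒞 ⥤ᵇ ℬ) (t : FibCat.overCat U ⥤ᵇ 𝒞),
        Nonempty (BasedFunctor.comp t z ≅ y) ∧ AlgSt.RepByAlgSpWith Q (FibCat.fpFst z φ)) :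
    AlgSt.RepByAlgSpWith Q φ := by
  intro U y
  obtain ⟨𝒞, z, t, ⟨κ⟩, hz⟩ := H U y
  obtain ⟨F, e, he, hQ⟩ := hz U t
  have iB := IsEquivOver.isEquivalence (BasedFunctor.id ℬ) (isEquivOver_id _)
  let M : FibCat.fp (BasedFunctor.comp t z) φ ⥤ᵇ FibCat.fp y φ :=
    fpMap y φ (BasedFunctor.comp t z) φ (BasedFunctor.id _) (BasedFunctor.id _)
      (BasedFunctor.id _) κ (Iso.refl _)
  have hM : FibCat.IsEquivOver M :=
    isEquivOver_fpMap y φ (BasedFunctor.comp t z) φ (BasedFunctor.id _) (BasedFunctor.id _)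
      (BasedFunctor.id _) κ (Iso.refl _) (isEquivOver_id _) (isEquivOver_id _)
  refine ⟨F, BasedFunctor.comp (BasedFunctor.comp e (pasteL φ z t)) M,
    IsEquivOver.comp _ _ (IsEquivOver.comp _ _ he (isEquivOver_pasteL φ z t)) hM, ?_⟩
  have h := spMapOfOver_eq_of_iso
    (BasedFunctor.comp (BasedFunctor.comp (BasedFunctor.comp e (pasteL φ z t)) M)
      (FibCat.fpFst y φ))
    (BasedFunctor.comp e (FibCat.fpFst t (FibCat.fpFst z φ))) (Iso.refl _)
  rw [h]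
  exact hQ

end A2

section A3

variable {S : Scheme.{u}} {𝒳 𝒴 : AlgSt.Cat S}

theorem aux_conj' {D : Type*} [Category D] {A B C' : D} (i : B ⟶ C') (p : B ⟶ B)
    (q : A ⟶ A) (r : C' ⟶ C') (k : A ≅ B) (hp : p = 𝟙 _) (hq : q = 𝟙 _) (hr : r = 𝟙 _) :
    p ≫ i = (k.inv ≫ q ≫ (k.hom ≫ i)) ≫ r := by
  subst hp hq hr
  simp

/-- The diagonal of `f` has `Q` as soon as the diagonals of all base changes of `f` to schemes
do. -/
theorem repByAlgSpWith_diag_of_forall_fpFst (Q : MorphismProperty (AlgSp.Sp S)) (f : 𝒳 ⥤ᵇ 𝒴)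
    (h : ∀ (U : Over S) (y : FibCat.overCat U ⥤ᵇ 𝒴),
      AlgSt.RepByAlgSpWith Q (FibCat.diag (FibCat.fpFst y f))) :
    AlgSt.RepByAlgSpWith Q (FibCat.diag f) := by
  apply repByAlgSpWith_of_forall_lift
  intro T w
  let a₁ : FibCat.overCat T ⥤ᵇ 𝒳 := BasedFunctor.comp w (FibCat.fpFst f f)
  let a₂ : FibCat.overCat T ⥤ᵇ 𝒳 := BasedFunctor.comp w (FibCat.fpSnd f f)
  let y : FibCat.overCat T ⥤ᵇ 𝒴 := BasedFunctor.comp a₁ f
  let κ₁ : BasedFunctor.comp (BasedFunctor.id (FibCat.overCat T)) y ≅ BasedFunctor.comp a₁ f :=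
    Iso.refl _
  let κ₂ : BasedFunctor.comp (BasedFunctor.id (FibCat.overCat T)) y ≅ BasedFunctor.comp a₂ f :=
    κ₁ ≪≫ whiskerLeftIso w (FibCat.fpIso f f)
  let x₁ : FibCat.overCat T ⥤ᵇ FibCat.fp y f := FibCat.fpLift (BasedFunctor.id _) a₁ κ₁
  let x₂ : FibCat.overCat T ⥤ᵇ FibCat.fp y f := FibCat.fpLift (BasedFunctor.id _) a₂ κ₂
  let t : FibCat.overCat T ⥤ᵇ FibCat.fp (f' f y) (f' f y) := FibCat.fpLift x₁ x₂ (Iso.refl _)
  refine ⟨_, GG f y, t, ⟨?_⟩, ?_⟩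
  · exact fpIsoMk f f (H := BasedFunctor.comp t (GG f y)) (K := w) (Iso.refl _) (Iso.refl _)
      (fun a => by
        change f.map (𝟙 _) ≫ (w.obj a).obj.iso.hom =
          ((bApp κ₁ a).inv ≫ y.map (𝟙 _) ≫ (bApp κ₂ a).hom) ≫ f.map (𝟙 _)
        exact aux_conj (bApp κ₁ a) (w.obj a).obj.iso.hom _ _ _ (f.toFunctor.map_id _)
          (y.toFunctor.map_id _) (f.toFunctor.map_id _))
  · exact (repByAlgSpWith_of_square Q (FibCat.fpFst (GG f y) (FibCat.diag f))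
      (FibCat.diag (f' f y)) (EE f y) (BasedFunctor.id _) (isEquivOver_EE f y)
      (isEquivOver_id _) (Iso.refl _)).mpr (h T y)

end A3

end Groth.Agent.Lib.Helper15DiagSq
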