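-- helper15: the diagonal of a base change is the base change of the diagonal (abstract categories with pullbacks)
import Mathlib

set_option autoImplicit false
set_option backward.isDefEq.respectTransparency false
set_option backward.isDefEq.respectTransparency.types false
open CategoryTheory CategoryTheory.Limits

universe v u

namespace Groth.Agent.Lib.Helper15DiagPb

variable {C : Type u} [Category.{v} C] [HasPullbacks C] {X Y X' Y' : C}
  {f : X ⟶ Y} {g : Y' ⟶ Y} {q : X' ⟶ X} {p : X' ⟶ Y'}

/-- The map `X' ×_{Y'} X' ⟶ X ×_Y X` induced by a commutative square. -/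
noncomputable abbrev dmap (sq : IsPullback q p f g) : pullback p p ⟶ pullback f f :=
  pullback.map p p f f q q g sq.w.symm sq.w.symm

/-- `X' ×_{Y'} X'` is the base change of `X ×_Y X` along `Y' ⟶ Y`. -/
theorem isPullback_dmap (sq : IsPullback q p f g) :
    IsPullback (dmap sq) (pullback.fst p p ≫ p) (pullback.fst f f ≫ f) g := by
  refine ⟨⟨by simp [dmap, sq.w]⟩, ⟨PullbackCone.IsLimit.mk _
    (fun s => pullback.lift
      (sq.lift (s.fst ≫ pullback.fst f f) s.snd (by rw [Category.assoc]; exact s.condition))
      (sq.lift (s.fst ≫ pullback.snd f f) s.snd (by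
        rw [Category.assoc, ← pullback.condition]; exact s.condition))
      (by rw [sq.lift_snd, sq.lift_snd])) ?_ ?_ ?_⟩⟩
  · intro s
    apply pullback.hom_ext
    · simp [dmap]
    · simp [dmap]
  · intro s
    simp [dmap]
  · intro s m h1 h2
    apply pullback.hom_ext
    · apply sq.hom_ext
      · have := congrArg (fun t => t ≫ pullback.fst f f) h1
        simpa [dmap] using this
      · simpa [dmap] using h2
    · apply sq.hom_ext
      · have := congrArg (fun t => t ≫ pullback.snd f f) h1
        simpa [dmap] using this
      · have h3 : m ≫ pullback.snd p p ≫ p = s.snd := by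
          rw [← pullback.condition]; simpa using h2
        simpa [dmap] using h3

/-- The diagonal of a base change is the base change of the diagonal. -/
theorem isPullback_diagonal (sq : IsPullback q p f g) :
    IsPullback q (pullback.diagonal p) (pullback.diagonal f) (dmap sq) := by
  refine ⟨⟨by apply pullback.hom_ext <;> simp [dmap]⟩, ⟨PullbackCone.IsLimit.mk _
    (fun s => s.snd ≫ pullback.fst p p) ?_ ?_ ?_⟩⟩
  · intro s
    have h := s.condition
    have h1 := congrArg (fun t => t ≫ pullback.fst f f) h
    simpa [dmap] using h1.symm
  · intro s
    have h := s.condition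
    have h1 := congrArg (fun t => t ≫ pullback.fst f f) h
    have h2 := congrArg (fun t => t ≫ pullback.snd f f) h
    simp only [dmap, Category.assoc, pullback.diagonal_fst, pullback.diagonal_snd, Category.comp_id,
      pullback.lift_fst, pullback.lift_snd] at h1 h2
    have h3 : s.snd ≫ pullback.fst p p = s.snd ≫ pullback.snd p p := by
      apply sq.hom_ext
      · rw [Category.assoc, Category.assoc, ← h1, ← h2]
      · rw [Category.assoc, Category.assoc, pullback.condition]
    apply pullback.hom_ext
    · simp
    · simp [h3]
  · intro s m h1 h2
    rw [← h2]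
    simp

end Groth.Agent.Lib.Helper15DiagPb
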