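-- helper15: open immersions, isomorphisms and monomorphisms of algebraic spaces are fpqc local on the base
import Mathlib
import Groth.Agent.S10544
import Groth.Agent.S10524
import Groth.Agent.S10261
import Groth.Agent.S9938
import Groth.Agent.S9928
import Groth.Agent.S9874
import Groth.Agent.Lib.Helper15PtsTop
import Groth.Agent.Lib.Helper15DiagPb

set_option autoImplicit false
set_option backward.isDefEq.respectTransparency false
set_option backward.isDefEq.respectTransparency.types false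
open CategoryTheory CategoryTheory.Functor CategoryTheory.Limits Opposite AlgebraicGeometry

universe u

namespace Groth.Agent.Lib.Helper15FpqcImm

section OI

variable {S : Scheme.{u}}

theorem repWith_mono' {P Q : MorphismProperty Scheme.{u}}
    (h : ∀ ⦃A B : Scheme.{u}⦄ (g : A ⟶ B), P g → Q g)
    {F G : AlgSp.Sp S} (f : F ⟶ G) (hf : AlgSp.RepWith P f) : AlgSp.RepWith Q f :=
  ⟨hf.1, fun _ _ g fst snd sq => h _ (hf.2 g fst snd sq)⟩

theorem mono_of_repWith_isOpenImmersion {F G : AlgSp.Sp S} (f : F ⟶ G)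
    (hf : AlgSp.RepWith @IsOpenImmersion f) : Mono f :=
  Groth.Agent.S9928.mono_of_repWith @IsOpenImmersion
    (fun _ _ g hg => by have : IsOpenImmersion g := hg; infer_instance) f hf

theorem isEtaleMor_of_repWith_isOpenImmersion {F G : AlgSp.Sp S} (f : F ⟶ G)
    (hf : AlgSp.RepWith @IsOpenImmersion f) : AlgSp.IsEtaleMor f := by
  intro U φ hφ
  have h1 : AlgSp.RepWith @Etale f :=
    repWith_mono' (fun _ _ g hg => by have : IsOpenImmersion g := hg; infer_instance) f hf
  exact MorphismProperty.comp_mem _ _ _ hφ h1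

theorem isUnivInjectiveMor_of_mono {X Y : AlgSp.Space S} (f : X ⟶ Y) [Mono f.hom] :
    AlgSp.IsUnivInjectiveMor f.hom :=
  (Groth.Agent.S9938.result f).1.1 (fun _ _ _ a b (hab : a ≫ f.hom = b ≫ f.hom) =>
    (cancel_mono f.hom).1 hab)

/-- Open immersions of algebraic spaces are fpqc local on the base. -/
theorem isLocalOnBase_fpqc_isOpenImmersion :
    AlgSp.IsLocalOnBase (AlgSp.IsFpqcCover (S := S)) (AlgSp.RepWith @IsOpenImmersion) := by
  intro ι Y Yi g hY hYi hcov X f hX Xi p q hXi sq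
  constructor
  · intro hf i
    exact MorphismProperty.of_isPullback (P := AlgSp.RepWith @IsOpenImmersion) (sq i) hf
  · intro H
    have het : AlgSp.IsEtaleMor f :=
      (Groth.Agent.S10544.result S Yi g hY hYi hcov f hX Xi p q hXi sq).2
        (fun i => isEtaleMor_of_repWith_isOpenImmersion (p i) (H i))
    have hinj : AlgSp.IsUnivInjectiveMor f :=
      (Groth.Agent.S10524.result S Yi g hY hYi hcov f hX Xi p q hXi sq).2 (fun i => by
        haveI := mono_of_repWith_isOpenImmersion (p i) (H i)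
        let a : (⟨Xi i, hXi i⟩ : AlgSp.Space S) ⟶ ⟨Yi i, hYi i⟩ := ObjectProperty.homMk (p i)
        haveI : Mono a.hom := by assumption
        exact isUnivInjectiveMor_of_mono a)
    let a : (⟨X, hX⟩ : AlgSp.Space S) ⟶ ⟨Y, hY⟩ := ObjectProperty.homMk f
    exact Groth.Agent.S10261.result a het hinj

end OI

section Iso

variable {S : Scheme.{u}}

/-- A representable open immersion of sheaves through which, fpqc locally on affine schemes,
every section of the target lifts, is an isomorphism: the lifting part. -/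
theorem exists_lift_of_fpqc_lift {X Y : AlgSp.Sp S} (f : X ⟶ Y)
    (hOI : AlgSp.RepWith @IsOpenImmersion f)
    (hl : ∀ (Z : Over S), IsAffine Z.left → ∀ (h : (AlgSp.yon S).obj Z ⟶ Y),
      ∃ (m : ℕ) (W : Fin m → Over S) (c : ∀ j, W j ⟶ Z),
        (∀ z : ↥Z.left, ∃ j, z ∈ Set.range (c j).left) ∧
        ∀ j, ∃ l : (AlgSp.yon S).obj (W j) ⟶ X, l ≫ f = (AlgSp.yon S).map (c j) ≫ h)
    (Z : Over S) (h : (AlgSp.yon S).obj Z ⟶ Y) :
    ∃ l : (AlgSp.yon S).obj Z ⟶ X, l ≫ f = h := by
  obtain ⟨V, snd, fst, sqV⟩ := hOI.1 h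
  haveI : IsOpenImmersion snd.left := hOI.2 h fst snd sqV
  have hs : ∀ z : ↥Z.left, z ∈ Set.range snd.left := by
    intro z
    obtain ⟨_, ⟨Z₀, hZ₀ : IsAffineOpen Z₀, rfl⟩, hz₀, -⟩ :=
      (Z.left.isBasis_affineOpens).exists_subset_of_mem_open (Set.mem_univ z) isOpen_univ
    obtain ⟨Z', hZ', hz⟩ : ∃ Z' : Z.left.Opens, IsAffineOpen Z' ∧ z ∈ Z' := ⟨Z₀, hZ₀, hz₀⟩
    let Z'o : Over S := Over.mk (Z'.ι ≫ Z.hom)
    let ι' : Z'o ⟶ Z := Over.homMk Z'.ι rfl
    have haff : IsAffine Z'o.left := hZ'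
    obtain ⟨m, W, c, hjs, hlift⟩ := hl Z'o haff ((AlgSp.yon S).map ι' ≫ h)
    obtain ⟨j, w, hw⟩ := hjs ⟨z, hz⟩
    obtain ⟨l, hl'⟩ := hlift j
    have hcomm : l ≫ f = (AlgSp.yon S).map (c j ≫ ι') ≫ h := by
      rw [hl', Functor.map_comp, Category.assoc]
    obtain ⟨k₀, hk₀⟩ := (AlgSp.yon S).map_surjective (sqV.lift l ((AlgSp.yon S).map (c j ≫ ι')) hcomm)
    have h2 : (AlgSp.yon S).map (k₀ ≫ snd) = (AlgSp.yon S).map (c j ≫ ι') := by
      rw [Functor.map_comp, hk₀, sqV.lift_snd]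
    have h3 : k₀ ≫ snd = c j ≫ ι' := (AlgSp.yon S).map_injective h2
    refine ⟨k₀.left w, ?_⟩
    have h4 : (k₀ ≫ snd).left w = (c j ≫ ι').left w := by rw [h3]
    rw [Over.comp_left, Over.comp_left] at h4
    change snd.left (k₀.left w) = z
    have h5 : snd.left (k₀.left w) = ι'.left ((c j).left w) := h4
    rw [h5, hw]
    rfl
  have htop : snd.left.opensRange = ⊤ := by
    ext z
    simpa using hs z
  haveI : IsIso snd.left := isIso_of_isOpenImmersion_of_opensRange_eq_top snd.left htop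
  haveI : IsIso snd := by
    have : IsIso ((Over.forget S).map snd) := by assumption
    exact isIso_of_reflects_iso snd (Over.forget S)
  exact ⟨inv ((AlgSp.yon S).map snd) ≫ fst, by rw [Category.assoc, sqV.w, IsIso.inv_hom_id_assoc]⟩

theorem isIso_of_mono_of_lift {X Y : AlgSp.Sp S} (f : X ⟶ Y) [Mono f]
    (h : ∀ (Z : Over S) (h : (AlgSp.yon S).obj Z ⟶ Y), ∃ l : (AlgSp.yon S).obj Z ⟶ X, l ≫ f = h) :
    IsIso f := by
  haveI : Epi f := ⟨fun {W} a b hab => by
    apply Groth.Agent.S9928.sp_hom_ext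
    intro T x
    obtain ⟨l, rfl⟩ := h T x
    rw [Category.assoc, Category.assoc, hab]⟩
  exact isIso_of_mono_of_epi f

end Iso

section IsoLocal

variable {S : Scheme.{u}}

/-- Isomorphisms of algebraic spaces are fpqc local on the base. -/
theorem isLocalOnBase_fpqc_isomorphisms :
    AlgSp.IsLocalOnBase (AlgSp.IsFpqcCover (S := S)) (MorphismProperty.isomorphisms (AlgSp.Sp S)) := by
  intro ι Y Yi g hY hYi hcov X f hX Xi p q hXi sq
  constructor
  · intro hf i
    haveI : IsIso f := hf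
    exact (sq i).isIso_snd_of_isIso
  · intro H
    have hOI : AlgSp.RepWith @IsOpenImmersion f :=
      (isLocalOnBase_fpqc_isOpenImmersion Yi g hY hYi hcov f hX Xi p q hXi sq).2 (fun i => by
        haveI : IsIso (p i) := H i
        exact MorphismProperty.of_isIso _ (p i))
    haveI := mono_of_repWith_isOpenImmersion f hOI
    refine isIso_of_mono_of_lift f (exists_lift_of_fpqc_lift f hOI ?_)
    intro Z hZ h
    obtain ⟨m, W, c, -, -, hjs, hl⟩ := hcov.2 Z hZ h
    refine ⟨m, W, c, hjs, fun j => ?_⟩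
    obtain ⟨i, l, hli⟩ := hl j
    haveI : IsIso (p i) := H i
    exact ⟨l ≫ inv (p i) ≫ q i, by
      rw [Category.assoc, Category.assoc, (sq i).w, IsIso.inv_hom_id_assoc, hli]⟩

end IsoLocal

section MonoLocal

variable {S : Scheme.{u}}

open Groth.Agent.Lib.Helper15DiagPb Groth.Agent.Lib.Helper15DiagLft

/-- The base change of an fpqc covering is an fpqc covering. -/
theorem isFpqcCover_baseChange {ι : Type u} {Y Y' : AlgSp.Sp S} (Yi Yi' : ι → AlgSp.Sp S)
    (g : ∀ i, Yi i ⟶ Y) (g' : ∀ i, Yi' i ⟶ Y') (b : Y' ⟶ Y) (r : ∀ i, Yi' i ⟶ Yi i)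
    (hY : AlgSp.IsAlgSpace Y) (hYi : ∀ i, AlgSp.IsAlgSpace (Yi i)) (hY' : AlgSp.IsAlgSpace Y')
    (hYi' : ∀ i, AlgSp.IsAlgSpace (Yi' i)) (sq : ∀ i, IsPullback (g' i) (r i) b (g i))
    (hcov : AlgSp.IsFpqcCover Yi g) : AlgSp.IsFpqcCover Yi' g' := by
  refine ⟨fun i => ?_, fun Z hZ h => ?_⟩
  · exact Groth.Agent.Lib.Helper15PtsTop.bcStable_flat (hYi i) hY (hYi' i) hY' (g i) b (g' i)
      (r i) (sq i).flip (hcov.1 i)
  · obtain ⟨m, W, c, hWaff, hflat, hjs, hl⟩ := hcov.2 Z hZ (h ≫ b)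
    refine ⟨m, W, c, hWaff, hflat, hjs, fun j => ?_⟩
    obtain ⟨i, l, hli⟩ := hl j
    refine ⟨i, (sq i).lift ((AlgSp.yon S).map (c j) ≫ h) l (by rw [Category.assoc, hli]), ?_⟩
    exact (sq i).lift_fst _ _ _

/-- Monomorphisms of algebraic spaces are fpqc local on the base. -/
theorem isLocalOnBase_fpqc_monomorphisms :
    AlgSp.IsLocalOnBase (AlgSp.IsFpqcCover (S := S))
      (MorphismProperty.monomorphisms (AlgSp.Sp S)) := by
  intro ι Y Yi g hY hYi hcov X f hX Xi p q hXi sq
  constructor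
  · intro hf i
    exact MorphismProperty.of_isPullback (P := MorphismProperty.monomorphisms (AlgSp.Sp S))
      (sq i) hf
  · intro H
    have hXX : AlgSp.IsAlgSpace (pullback f f) :=
      Groth.Agent.S9874.isAlgSpace_of_isPullback hY.diag hX hX (IsPullback.of_hasPullback _ _)
    have hXXi : ∀ i, AlgSp.IsAlgSpace (pullback (p i) (p i)) := fun i =>
      Groth.Agent.S9874.isAlgSpace_of_isPullback (hYi i).diag (hXi i) (hXi i)
        (IsPullback.of_hasPullback _ _)
    have hcov' : AlgSp.IsFpqcCover (fun i => pullback (p i) (p i)) (fun i => dmap (sq i)) :=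
      isFpqcCover_baseChange Yi _ g _ (pullback.fst f f ≫ f) (fun i => pullback.fst (p i) (p i) ≫ p i)
        hY hYi hXX hXXi (fun i => isPullback_dmap (sq i)) hcov
    have h1 := (isLocalOnBase_fpqc_isomorphisms (fun i => pullback (p i) (p i))
      (fun i => dmap (sq i)) hXX hXXi hcov' (pullback.diagonal f) hX Xi
      (fun i => pullback.diagonal (p i)) q hXi (fun i => isPullback_diagonal (sq i))).2
      (fun i => (pullback.isIso_diagonal_iff (p i)).2 (H i))
    exact (pullback.isIso_diagonal_iff f).1 h1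

end MonoLocal

end Groth.Agent.Lib.Helper15FpqcImm
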