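-- helper15: the category of a pullback of presheaves is the 2-fibre product; diagonal of a map of presheaves
import Mathlib
import Groth.Agent.Lib.Helper15PshFib

set_option autoImplicit false
set_option backward.isDefEq.respectTransparency false
set_option backward.isDefEq.respectTransparency.types false
open CategoryTheory CategoryTheory.Functor CategoryTheory.Limits Opposite AlgebraicGeometry

universe w v₁ u₁ v₂ u₂ v₃ u₃ v u

namespace Groth.Agent.Lib.Helper15PshPb

open Groth.Agent.Lib.Helper17 Groth.Agent.Lib.Helper15PshFib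

section PshPb

variable {C : Type u} [Category.{v} C] {P₁ P₂ P₀ P' : Cᵒᵖ ⥤ Type w}
  (a : P₁ ⟶ P₀) (b : P₂ ⟶ P₀) (fst : P' ⟶ P₁) (snd : P' ⟶ P₂)

/-- An isomorphism in the category of a presheaf from an isomorphism of base objects matching
the sections. -/
def eltIsoMk {P : Cᵒᵖ ⥤ Type w} {x y : Stk.EltObj P} (i : x.base ≅ y.base)
    (h : P.map i.hom.op y.sec = x.sec) : x ≅ y where
  hom := ⟨i.hom, h⟩
  inv := ⟨i.inv, by
    rw [← h, ← Functor.map_comp_apply, ← op_comp, i.inv_hom_id]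
    simp⟩
  hom_inv_id := by
    apply Stk.EltObj.hom_ext
    exact i.hom_inv_id
  inv_hom_id := by
    apply Stk.EltObj.hom_ext
    exact i.inv_hom_id

/-- The 2-isomorphism of a commutative square of presheaves. -/
def pbSqIso (hw : fst ≫ a = snd ≫ b) :
    BasedFunctor.comp (Stk.ofPshMap fst) (Stk.ofPshMap a) ≅
      BasedFunctor.comp (Stk.ofPshMap snd) (Stk.ofPshMap b) :=
  pshIsoOfSecEq (fun c => by
    rw [pshSec_comp_ofPshMap, pshSec_comp_ofPshMap, pshSec_ofPshMap, pshSec_ofPshMap]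
    have h1 := NatTrans.comp_app_apply fst a (op c.base) c.sec
    have h2 := NatTrans.comp_app_apply snd b (op c.base) c.sec
    rw [hw] at h1
    exact h1.symm.trans h2)

/-- The comparison functor from the category of the apex of a commutative square of presheaves
to the 2-fibre product. -/
def pbFun (hw : fst ≫ a = snd ≫ b) :
    Stk.ofPsh P' ⥤ᵇ FibCat.fp (Stk.ofPshMap a) (Stk.ofPshMap b) :=
  FibCat.fpLift (Stk.ofPshMap fst) (Stk.ofPshMap snd) (pbSqIso a b fst snd hw)

theorem pbFun_iso_hom_hom (hw : fst ≫ a = snd ≫ b) (x : (Stk.ofPsh P').obj) :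
    ((pbFun a b fst snd hw).obj x).obj.iso.hom.hom = 𝟙 x.base := by
  change ((pbSqIso a b fst snd hw).hom.toNatTrans.app x).hom = _
  rw [pshAppHom]
  rfl

theorem pbFun_faithful (hw : fst ≫ a = snd ≫ b) :
    (pbFun a b fst snd hw).toFunctor.Faithful := by
  refine ⟨fun {x x'} m m' h => ?_⟩
  apply Stk.EltObj.hom_ext
  exact congrArg (fun t => t.hom.fst.hom) h

theorem pb_pointwise (sq : IsPullback fst snd a b) (V : C) :
    IsPullback (fst.app (op V)) (snd.app (op V)) (a.app (op V)) (b.app (op V)) :=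
  sq.map ((evaluation Cᵒᵖ (Type w)).obj (op V))

theorem pb_ext (sq : IsPullback fst snd a b) {V : C} (s s' : P'.obj (op V))
    (h1 : fst.app _ s = fst.app _ s') (h2 : snd.app _ s = snd.app _ s') : s = s' :=
  ((Limits.Types.isPullback_iff _ _ _ _).1 (pb_pointwise a b fst snd sq V)).2.1 s s' ⟨h1, h2⟩

theorem pb_exists (sq : IsPullback fst snd a b) {V : C} (s₁ : P₁.obj (op V))
    (s₂ : P₂.obj (op V)) (h : a.app _ s₁ = b.app _ s₂) :
    ∃ s' : P'.obj (op V), fst.app _ s' = s₁ ∧ snd.app _ s' = s₂ :=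
  ((Limits.Types.isPullback_iff _ _ _ _).1 (pb_pointwise a b fst snd sq V)).2.2 s₁ s₂ h

theorem pbFun_full (sq : IsPullback fst snd a b) :
    (pbFun a b fst snd sq.w).toFunctor.Full := by
  refine ⟨fun {x x'} n => ?_⟩
  obtain ⟨g, hg⟩ : ∃ t : x.base ⟶ x'.base, t = n.hom.fst.hom := ⟨_, rfl⟩
  obtain ⟨g', hg'⟩ : ∃ t : x.base ⟶ x'.base, t = n.hom.snd.hom := ⟨_, rfl⟩
  have hgg' : g = g' := by
    have hw := congrArg (fun t => t.hom) n.hom.w
    simp only [Stk.EltObj.comp_hom] at hw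
    rw [pbFun_iso_hom_hom, pbFun_iso_hom_hom] at hw
    change n.hom.fst.hom ≫ 𝟙 _ = 𝟙 _ ≫ n.hom.snd.hom at hw
    rw [Category.comp_id, Category.id_comp] at hw
    rw [hg, hg', hw]
  have h1 : P₁.map g.op (fst.app _ x'.sec) = fst.app _ x.sec := by
    rw [hg]; exact n.hom.fst.map_sec
  have h2 : P₂.map g.op (snd.app _ x'.sec) = snd.app _ x.sec := by
    rw [hgg', hg']; exact n.hom.snd.map_sec
  have hsec : P'.map g.op x'.sec = x.sec := by
    apply pb_ext a b fst snd sq
    · rw [NatTrans.naturality_apply, h1]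
    · rw [NatTrans.naturality_apply, h2]
  refine ⟨⟨g, hsec⟩, ?_⟩
  apply ObjectProperty.hom_ext
  apply Limits.CategoricalPullback.hom_ext
  · apply Stk.EltObj.hom_ext
    exact hg
  · apply Stk.EltObj.hom_ext
    exact hgg'.trans hg'

theorem pbFun_essSurjOver (sq : IsPullback fst snd a b) :
    EssSurjOver (pbFun a b fst snd sq.w) := by
  intro η
  have hη : (Stk.ofPsh P₀).p.IsHomLift (𝟙 η.obj.fst.base) η.obj.iso.hom := η.property
  let θ : η.obj.fst.base ≅ η.obj.snd.base := (Stk.EltObj.forget P₀).mapIso η.obj.iso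
  have hθ : P₀.map θ.hom.op (b.app _ η.obj.snd.sec) = a.app _ η.obj.fst.sec :=
    η.obj.iso.hom.map_sec
  have hb : a.app _ η.obj.fst.sec = b.app _ (P₂.map θ.hom.op η.obj.snd.sec) := by
    rw [NatTrans.naturality_apply, hθ]
  obtain ⟨s', hs₁, hs₂⟩ := pb_exists a b fst snd sq η.obj.fst.sec
    (P₂.map θ.hom.op η.obj.snd.sec) hb
  let ξ : (Stk.ofPsh P').obj := ⟨η.obj.fst.base, s'⟩
  let e₁ : (Stk.ofPshMap fst).obj ξ ≅ η.obj.fst :=
    eltIsoMk (Iso.refl _) (by
      change P₁.map (𝟙 _).op η.obj.fst.sec = fst.app _ s'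
      rw [hs₁]
      simp)
  let e₂ : (Stk.ofPshMap snd).obj ξ ≅ η.obj.snd :=
    eltIsoMk θ (by
      change P₂.map θ.hom.op η.obj.snd.sec = snd.app _ s'
      rw [hs₂])
  have hw : (Stk.ofPshMap a).map e₁.hom ≫ η.obj.iso.hom =
      ((pbFun a b fst snd sq.w).obj ξ).obj.iso.hom ≫ (Stk.ofPshMap b).map e₂.hom := by
    apply Stk.EltObj.hom_ext
    simp only [Stk.EltObj.comp_hom]
    rw [pbFun_iso_hom_hom]
    change 𝟙 _ ≫ θ.hom = 𝟙 _ ≫ θ.hom
    rfl
  refine ⟨ξ, ObjectProperty.isoMk _ (Limits.CategoricalPullback.mkIso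
    (x := ((pbFun a b fst snd sq.w).obj ξ).obj) (y := η.obj) e₁ e₂ hw), ?_⟩
  rw [fp_isHomLift_iff]
  change (Stk.ofPsh P₁).p.IsHomLift (𝟙 η.obj.fst.base) e₁.hom
  exact IsHomLift.map (Stk.ofPsh P₁).p e₁.hom

theorem isEquivOver_pbFun (sq : IsPullback fst snd a b) :
    FibCat.IsEquivOver (pbFun a b fst snd sq.w) := by
  have := pbFun_faithful a b fst snd sq.w
  have := pbFun_full a b fst snd sq
  exact isEquivOver_of_fullyFaithful_of_essSurjOver _ (pbFun_essSurjOver a b fst snd sq)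

end PshPb

section PshDiag

variable {C : Type u} [Category.{v} C] {P₁ P₀ P' : Cᵒᵖ ⥤ Type w}
  (a : P₁ ⟶ P₀) (fst snd : P' ⟶ P₁) (δ : P₁ ⟶ P')

theorem pshSec_id (c : (Stk.ofPsh P₁).obj) :
    pshSec (BasedFunctor.id (Stk.ofPsh P₁)) c = c.sec := by
  unfold pshSec
  exact psh_map_id_op P₁ _

/-- The diagonal of the functor of a map of presheaves is the functor of the diagonal map
followed by the comparison functor to the 2-fibre product. -/
def diagIso (hw : fst ≫ a = snd ≫ a) (h1 : δ ≫ fst = 𝟙 _) (h2 : δ ≫ snd = 𝟙 _) :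
    FibCat.diag (Stk.ofPshMap a) ≅
      BasedFunctor.comp (Stk.ofPshMap δ) (pbFun a a fst snd hw) :=
  fpIsoMk (Stk.ofPshMap a) (Stk.ofPshMap a) (H := FibCat.diag (Stk.ofPshMap a))
    (K := BasedFunctor.comp (Stk.ofPshMap δ) (pbFun a a fst snd hw))
    (pshIsoOfSecEq (fun c => by
      change pshSec (BasedFunctor.id _) c =
        pshSec (BasedFunctor.comp (Stk.ofPshMap δ) (Stk.ofPshMap fst)) c
      rw [pshSec_comp_ofPshMap, pshSec_ofPshMap, pshSec_id]
      have h := NatTrans.comp_app_apply δ fst (op c.base) c.sec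
      rw [h1] at h
      exact h))
    (pshIsoOfSecEq (fun c => by
      change pshSec (BasedFunctor.id _) c =
        pshSec (BasedFunctor.comp (Stk.ofPshMap δ) (Stk.ofPshMap snd)) c
      rw [pshSec_comp_ofPshMap, pshSec_ofPshMap, pshSec_id]
      have h := NatTrans.comp_app_apply δ snd (op c.base) c.sec
      rw [h2] at h
      exact h))
    (fun c => by
      apply Stk.EltObj.hom_ext
      simp only [Stk.EltObj.comp_hom]
      change ((Stk.ofPshMap a).map _).hom ≫
        ((pbFun a a fst snd hw).obj ((Stk.ofPshMap δ).obj c)).obj.iso.hom.hom = _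
      rw [pbFun_iso_hom_hom]
      have hd : ((FibCat.diag (Stk.ofPshMap a)).obj c).obj.iso.hom.hom = 𝟙 c.base := rfl
      have hm : ∀ {x y : (Stk.ofPsh P₁).obj} (m : x ⟶ y),
          ((Stk.ofPshMap a).map m).hom = m.hom := fun _ => rfl
      rw [hd, hm, hm]
      erw [pshAppHom]
      exact (Category.comp_id _).trans (Category.id_comp _).symm)

end PshDiag

end Groth.Agent.Lib.Helper15PshPb
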