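-- helper15: bridge between the diagonal of a functor representable by algebraic spaces and the diagonals of the representing maps
import Mathlib
import Groth.Agent.Lib.Helper15DiagSq
import Groth.Agent.Lib.Helper15PshPb
import Groth.Agent.S9874

set_option autoImplicit false
set_option backward.isDefEq.respectTransparency false
set_option backward.isDefEq.respectTransparency.types false
open CategoryTheory CategoryTheory.Functor CategoryTheory.Limits Opposite AlgebraicGeometry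

universe u

namespace Groth.Agent.Lib.Helper15DiagBridge

open Groth.Agent.Lib.Helper17 Groth.Agent.Lib.Helper15PshFib Groth.Agent.Lib.Helper15RepComp
  Groth.Agent.Lib.Helper15RepPsh Groth.Agent.Lib.Helper15DiagBase Groth.Agent.Lib.Helper15DiagRepSp
  Groth.Agent.Lib.Helper15Descent Groth.Agent.Lib.Helper15DiagLft
  Groth.Agent.Lib.Helper15DiagDescent Groth.Agent.Lib.Helper15SpMapRep
  Groth.Agent.Lib.Helper15SrcCancel Groth.Agent.Lib.Helper15ChartSp Groth.Agent.Lib.Helper15Atlas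
  Groth.Agent.Lib.Helper15LocEss Groth.Agent.Lib.Helper15UnivComp Groth.Agent.Lib.Helper15SmLoc
  Groth.Agent.Lib.Helper15PtsComp Groth.Agent.Lib.Helper15PtsTop Groth.Agent.Lib.Helper15PtsQc
  Groth.Agent.Lib.Helper15FpSwap Groth.Agent.Lib.Helper15QcLocal Groth.Agent.Lib.Helper15ClosedQc
  Groth.Agent.Lib.Helper15UnivPts Groth.Agent.Lib.Helper15BaseChange
  Groth.Agent.Lib.Helper15BaseChange2
  Groth.Agent.Lib.Helper15MonoSep Groth.Agent.Lib.Helper15LocQ Groth.Agent.Lib.Helper15LocQEngine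
  Groth.Agent.Lib.Helper15LocQProps Groth.Agent.Lib.Helper15LocQSpace
  Groth.Agent.Lib.Helper15LocQSpace2 Groth.Agent.Lib.Helper15LocQRep
  Groth.Agent.Lib.Helper15LocQComp Groth.Agent.Lib.Helper15GoodComp
  Groth.Agent.Lib.Helper15LocQCancel Groth.Agent.Lib.Helper15LocQBC
  Groth.Agent.Lib.Helper15LocQDiag Groth.Agent.Lib.Helper15LocQDescent
  Groth.Agent.Lib.Helper15RepDescent Groth.Agent.Lib.Helper15QcDescent
  Groth.Agent.Lib.Helper15FppfLiftFam Groth.Agent.Lib.Helper15ValLift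
  Groth.Agent.Lib.Helper15ValWit Groth.Agent.Lib.Helper15QcRep Groth.Agent.Lib.Helper15UnivComp
  Groth.Agent.Lib.Helper15QcQs Groth.Agent.Lib.Helper15QcProd Groth.Agent.Lib.Helper15.DiagBC
  Groth.Agent.Lib.Helper15UnivInjDiag Groth.Agent.Lib.Helper15DiagSq
  Groth.Agent.Lib.Helper15PshPb









section B3

variable {S : Scheme.{u}}

theorem isPullback_psh {F G : AlgSp.Sp S} (a : F ⟶ G) :
    IsPullback (pullback.fst a a).hom (pullback.snd a a).hom a.hom a.hom :=
  (IsPullback.of_hasPullback a a).map (sheafToPresheaf (AlgSp.J S) (Type (u + 1)))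

theorem repByAlgSpWith_diag_ofSpMap_iff (Q : MorphismProperty (AlgSp.Sp S)) {F G : AlgSp.Sp S}
    (a : F ⟶ G) :
    AlgSt.RepByAlgSpWith Q (FibCat.diag (AlgSt.ofSpMap a)) ↔
      AlgSt.RepByAlgSpWith Q (AlgSt.ofSpMap (pullback.diagonal a)) := by
  have sq := isPullback_psh a
  refine repByAlgSpWith_of_square Q (FibCat.diag (AlgSt.ofSpMap a))
    (AlgSt.ofSpMap (pullback.diagonal a)) (BasedFunctor.id _)
    (pbFun a.hom a.hom (pullback.fst a a).hom (pullback.snd a a).hom sq.w) (isEquivOver_id _)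
    (isEquivOver_pbFun _ _ _ _ sq) ?_
  have h1 : (pullback.diagonal a).hom ≫ (pullback.fst a a).hom = 𝟙 _ :=
    congrArg (fun t => t.hom) (pullback.diagonal_fst a)
  have h2 : (pullback.diagonal a).hom ≫ (pullback.snd a a).hom = 𝟙 _ :=
    congrArg (fun t => t.hom) (pullback.diagonal_snd a)
  exact (diagIso a.hom (pullback.fst a a).hom (pullback.snd a a).hom (pullback.diagonal a).hom
    sq.w h1 h2).symm

end B3

section C1

variable {S : Scheme.{u}} {𝒳 𝒴 : AlgSt.Cat S}

theorem repByAlgSpWith_diag_fpFst_iff (Q : MorphismProperty (AlgSp.Sp S)) (f : 𝒳 ⥤ᵇ 𝒴)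
    {U : Over S} (y : FibCat.overCat U ⥤ᵇ 𝒴) (F : AlgSp.Sp S)
    (e : AlgSt.ofSp F ⥤ᵇ FibCat.fp y f) (he : FibCat.IsEquivOver e) :
    AlgSt.RepByAlgSpWith Q (FibCat.diag (FibCat.fpFst y f)) ↔
      AlgSt.RepByAlgSpWith Q (FibCat.diag (AlgSt.ofSpMap
        (AlgSt.spMapOfOver (BasedFunctor.comp e (FibCat.fpFst y f))))) := by
  refine repByAlgSpWith_diag_of_square Q (FibCat.fpFst y f)
    (AlgSt.ofSpMap (AlgSt.spMapOfOver (BasedFunctor.comp e (FibCat.fpFst y f)))) e
    (AlgSt.toOverCat U) he (isEquivOver_toOverCat U) ?_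
  exact whiskerRightIso (spMapIso (BasedFunctor.comp e (FibCat.fpFst y f))).symm
    (AlgSt.toOverCat U) ≪≫ Iso.refl _

end C1

section Bridge

variable {S : Scheme.{u}} {𝒳 𝒴 : AlgSt.Cat S}

/-- The diagonal of `f` has `Q` as soon as the diagonals of the maps of algebraic spaces
representing the base changes of `f` do. -/
theorem repByAlgSpWith_diag_of_diagonal (Q : MorphismProperty (AlgSp.Sp S)) (hQb : BCStable Q)
    (f : 𝒳 ⥤ᵇ 𝒴)
    (h : ∀ (U : Over S) (y : FibCat.overCat U ⥤ᵇ 𝒴),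
      ∃ (F : AlgSp.Space S) (e : AlgSt.ofSp F.obj ⥤ᵇ FibCat.fp y f), FibCat.IsEquivOver e ∧
        Q (pullback.diagonal (AlgSt.spMapOfOver (BasedFunctor.comp e (FibCat.fpFst y f))))) :
    AlgSt.RepByAlgSpWith Q (FibCat.diag f) := by
  apply repByAlgSpWith_diag_of_forall_fpFst
  intro U y
  obtain ⟨F, e, he, hQ⟩ := h U y
  rw [repByAlgSpWith_diag_fpFst_iff Q f y F.obj e he, repByAlgSpWith_diag_ofSpMap_iff]
  let TT : AlgSp.Space S := ⟨(AlgSp.yon S).obj U, AlgSp.IsAlgSpace.yon_obj U⟩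
  let a : F ⟶ TT :=
    ObjectProperty.homMk (AlgSt.spMapOfOver (BasedFunctor.comp e (FibCat.fpFst y f)))
  let PP : AlgSp.Space S := ⟨pullback a.hom a.hom,
    Groth.Agent.S9874.isAlgSpace_of_isPullback TT.property.diag F.property F.property
      (IsPullback.of_hasPullback _ _)⟩
  let δ : F ⟶ PP := ObjectProperty.homMk (pullback.diagonal a.hom)
  exact repByAlgSpWith_ofSpMap Q hQb F PP δ hQ

/-- Conversely, if the diagonal of `f` has `Q`, the diagonals of all maps of algebraic spaces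
representing base changes of `f` have `Q`. -/
theorem diagonal_of_repByAlgSpWith_diag (Q : MorphismProperty (AlgSp.Sp S)) (hQb : BCStable Q)
    (hQl : AlgSp.IsLocalOnBase AlgSp.IsFppfCover Q) (f : 𝒳 ⥤ᵇ 𝒴)
    (h : AlgSt.RepByAlgSpWith Q (FibCat.diag f)) {U : Over S} (y : FibCat.overCat U ⥤ᵇ 𝒴)
    (F : AlgSp.Space S) (e : AlgSt.ofSp F.obj ⥤ᵇ FibCat.fp y f) (he : FibCat.IsEquivOver e) :
    Q (pullback.diagonal (AlgSt.spMapOfOver (BasedFunctor.comp e (FibCat.fpFst y f)))) := by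
  have h1 := repByAlgSpWith_diag_fpFst Q f y h
  rw [repByAlgSpWith_diag_fpFst_iff Q f y F.obj e he, repByAlgSpWith_diag_ofSpMap_iff] at h1
  let TT : AlgSp.Space S := ⟨(AlgSp.yon S).obj U, AlgSp.IsAlgSpace.yon_obj U⟩
  let a : F ⟶ TT :=
    ObjectProperty.homMk (AlgSt.spMapOfOver (BasedFunctor.comp e (FibCat.fpFst y f)))
  let PP : AlgSp.Space S := ⟨pullback a.hom a.hom,
    Groth.Agent.S9874.isAlgSpace_of_isPullback TT.property.diag F.property F.property
      (IsPullback.of_hasPullback _ _)⟩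
  let δ : F ⟶ PP := ObjectProperty.homMk (pullback.diagonal a.hom)
  exact prop_of_repByAlgSpWith_ofSpMap Q hQb hQl F PP δ h1

end Bridge

end Groth.Agent.Lib.Helper15DiagBridge
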