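-- helper15: quasi-separated functors between algebraic stacks are stable under composition.
import Mathlib
import Groth.Agent.Lib.Helper15LocQ
import Groth.Agent.Lib.Helper15DiagComp
import Groth.Agent.S10519
import Groth.Agent.S10520
import Groth.Agent.S9912

set_option autoImplicit false
set_option backward.isDefEq.respectTransparency false
set_option backward.isDefEq.respectTransparency.types false
open CategoryTheory CategoryTheory.Functor CategoryTheory.Limits Opposite AlgebraicGeometry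

universe u

namespace Groth.Agent.Lib.Helper15QsComp

open Groth.Agent.Lib.Helper17 Groth.Agent.Lib.Helper15DiagDescent Groth.Agent.Lib.Helper15DiagLft
  Groth.Agent.Lib.Helper15DiagComp

section Sp

variable {S : Scheme.{u}}

theorem isLocalOnBase_et_of_fppf (Q : MorphismProperty (AlgSp.Sp S))
    (h : AlgSp.IsLocalOnBase AlgSp.IsFppfCover Q) : AlgSp.IsLocalOnBase AlgSp.IsEtCover Q := by
  intro ι Y Yi g hY hYi hcov X f hX Xi p q hXi sq
  refine h Yi g hY hYi ⟨fun i => ?_, hcov.2⟩ f hX Xi p q hXi sq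
  let A : AlgSp.Space S := ⟨Yi i, hYi i⟩
  let B : AlgSp.Space S := ⟨Y, hY⟩
  let gi : A ⟶ B := ObjectProperty.homMk (g i)
  have := Groth.Agent.S10265.result gi (hcov.1 i)
  exact ⟨this.2.2.1, this.2.2.2.1⟩

theorem isQuasiCompactMor_comp {X Y Z : AlgSp.Sp S} (hZ : AlgSp.IsAlgSpace Z)
    (hY : AlgSp.IsAlgSpace Y) (a : X ⟶ Y) (b : Y ⟶ Z)
    (ha : AlgSp.IsQuasiCompactMor a) (hb : AlgSp.IsQuasiCompactMor b) :
    AlgSp.IsQuasiCompactMor (a ≫ b) := by
  intro W W' hW hWqc g fst snd sq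
  have hP : AlgSp.IsAlgSpace (pullback b g) :=
    Groth.Agent.S9874.isAlgSpace_of_isPullback hZ.diag hY hW (IsPullback.of_hasPullback b g)
  have hPqc : AlgSp.IsQuasiCompactSp (pullback b g) :=
    hb hW hWqc g (pullback.fst b g) (pullback.snd b g) (IsPullback.of_hasPullback b g)
  let k : W' ⟶ pullback b g := pullback.lift (fst ≫ a) snd (by rw [Category.assoc]; exact sq.w)
  have hk1 : k ≫ pullback.fst b g = fst ≫ a := pullback.lift_fst _ _ _
  have hk2 : k ≫ pullback.snd b g = snd := pullback.lift_snd _ _ _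
  have hleft : IsPullback fst k a (pullback.fst b g) :=
    IsPullback.of_bot (by rw [hk2]; exact sq) hk1.symm (IsPullback.of_hasPullback b g)
  exact ha hP hPqc (pullback.fst b g) fst k hleft

theorem isQuasiSeparatedMor_comp {X Y Z : AlgSp.Sp S} (a : X ⟶ Y) (b : Y ⟶ Z)
    (ha : AlgSp.IsQuasiSeparatedMor a) (hb : AlgSp.IsQuasiSeparatedMor b) :
    AlgSp.IsQuasiSeparatedMor (a ≫ b) := by
  have : (AlgSp.RepWith (S := S) @QuasiCompact).diagonal.IsStableUnderComposition := inferInstance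
  exact MorphismProperty.comp_mem (AlgSp.RepWith (S := S) @QuasiCompact).diagonal a b ha hb

end Sp

section St

variable {S : Scheme.{u}} {𝒳 𝒴 𝒵 : AlgSt.Cat S}

theorem comp_toSelf (j : 𝒳 ⥤ᵇ 𝒴) : BasedFunctor.comp j (FibCat.toSelf 𝒴) = FibCat.toSelf 𝒳 := by
  have key : ∀ (A B : 𝒳 ⥤ᵇ FibCat.selfOver (Over S)), A.toFunctor = B.toFunctor → A = B := by
    rintro ⟨A, _⟩ ⟨B, _⟩ h
    cases h
    rfl
  exact key _ _ j.w

theorem isLocalOnBase_et_qcqs : AlgSp.IsLocalOnBase AlgSp.IsEtCover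
    (AlgSp.IsQuasiCompactMor (S := S) ⊓ AlgSp.IsQuasiSeparatedMor) :=
  isLocalOnBase_et_of_fppf _ (isLocalOnBase_inf _ _ _
    (isLocalOnBase_fppf_of_fpqc _ (Groth.Agent.S10519.result S))
    (isLocalOnBase_fppf_of_fpqc _ (Groth.Agent.S10520.result S)))

theorem isQuasiSeparatedMor_comp_st (h𝒳 : FibCat.IsFibGrpd 𝒳.p) (h𝒴 : FibCat.IsFibGrpd 𝒴.p)
    (f : 𝒳 ⥤ᵇ 𝒴) (g : 𝒴 ⥤ᵇ 𝒵) (hf : AlgSt.IsQuasiSeparatedMor f)
    (hg : AlgSt.IsQuasiSeparatedMor g) : AlgSt.IsQuasiSeparatedMor (BasedFunctor.comp f g) :=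
  repByAlgSpWith_diag_comp h𝒳 h𝒴 (AlgSp.IsQuasiCompactMor ⊓ AlgSp.IsQuasiSeparatedMor)
    (fun _ _ _ _ hY hZ a b ha hb =>
      ⟨isQuasiCompactMor_comp hZ hY a b ha.1 hb.1, isQuasiSeparatedMor_comp a b ha.2 hb.2⟩)
    isLocalOnBase_et_qcqs f g hf hg

end St

end Groth.Agent.Lib.Helper15QsComp
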