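-- helper15: applications of the diagonal bridge: quasi-separated / separated functors representable by algebraic spaces via their diagonals
import Mathlib
import Groth.Agent.Lib.Helper15DiagBridge
import Groth.Agent.S9912
import Groth.Agent.S9900
import Groth.Agent.S10280
import Groth.Agent.S10521
import Groth.Agent.S10519
import Groth.Agent.Lib.Helper15QsComp
import Groth.Agent.Lib.Helper15MonoFF

set_option autoImplicit false
set_option backward.isDefEq.respectTransparency false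
set_option backward.isDefEq.respectTransparency.types false
open CategoryTheory CategoryTheory.Functor CategoryTheory.Limits Opposite AlgebraicGeometry

universe u

namespace Groth.Agent.Lib.Helper15DiagApps

open Groth.Agent.Lib.Helper17 Groth.Agent.Lib.Helper15PshFib Groth.Agent.Lib.Helper15RepComp
  Groth.Agent.Lib.Helper15RepPsh Groth.Agent.Lib.Helper15DiagBase Groth.Agent.Lib.Helper15DiagRepSp
  Groth.Agent.Lib.Helper15Descent Groth.Agent.Lib.Helper15DiagLft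
  Groth.Agent.Lib.Helper15DiagDescent Groth.Agent.Lib.Helper15SpMapRep
  Groth.Agent.Lib.Helper15SrcCancel Groth.Agent.Lib.Helper15ChartSp Groth.Agent.Lib.Helper15Atlas
  Groth.Agent.Lib.Helper15LocEss Groth.Agent.Lib.Helper15UnivComp Groth.Agent.Lib.Helper15SmLoc
  Groth.Agent.Lib.Helper15PtsComp Groth.Agent.Lib.Helper15PtsTop Groth.Agent.Lib.Helper15PtsQc
  Groth.Agent.Lib.Helper15FpSwap Groth.Agent.Lib.Helper15QcLocal Groth.Agent.Lib.Helper15ClosedQc
  Groth.Agent.Lib.Helper15UnivPts Groth.Agent.Lib.Helper15BaseChange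
  Groth.Agent.Lib.Helper15BaseChange2
  Groth.Agent.Lib.Helper15MonoSep Groth.Agent.Lib.Helper15LocQ Groth.Agent.Lib.Helper15LocQEngine
  Groth.Agent.Lib.Helper15LocQProps Groth.Agent.Lib.Helper15LocQSpace
  Groth.Agent.Lib.Helper15LocQSpace2 Groth.Agent.Lib.Helper15LocQRep
  Groth.Agent.Lib.Helper15LocQComp Groth.Agent.Lib.Helper15GoodComp
  Groth.Agent.Lib.Helper15LocQCancel Groth.Agent.Lib.Helper15LocQBC
  Groth.Agent.Lib.Helper15LocQDiag Groth.Agent.Lib.Helper15LocQDescent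
  Groth.Agent.Lib.Helper15RepDescent Groth.Agent.Lib.Helper15QcDescent
  Groth.Agent.Lib.Helper15FppfLiftFam Groth.Agent.Lib.Helper15ValLift
  Groth.Agent.Lib.Helper15ValWit Groth.Agent.Lib.Helper15QcRep Groth.Agent.Lib.Helper15UnivComp
  Groth.Agent.Lib.Helper15QcQs Groth.Agent.Lib.Helper15QcProd Groth.Agent.Lib.Helper15.DiagBC
  Groth.Agent.Lib.Helper15UnivInjDiag Groth.Agent.Lib.Helper15DiagSq
  Groth.Agent.Lib.Helper15PshPb Groth.Agent.Lib.Helper15DiagBridge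










section Gen

variable {S : Scheme.{u}} {𝒜 ℬ : AlgSt.Cat S}

/-- If `φ` has `Q`, then every presentation of a base change of `φ` by an algebraic space
has `Q`. -/
theorem prop_of_repByAlgSpWith_all (Q : MorphismProperty (AlgSp.Sp S)) (hQb : BCStable Q)
    (φ : 𝒜 ⥤ᵇ ℬ) (h : AlgSt.RepByAlgSpWith Q φ) {U : Over S} (y : FibCat.overCat U ⥤ᵇ ℬ)
    (F : AlgSp.Space S) (e : AlgSt.ofSp F.obj ⥤ᵇ FibCat.fp y φ) (he : FibCat.IsEquivOver e) :
    Q (AlgSt.spMapOfOver (BasedFunctor.comp e (FibCat.fpFst y φ))) := by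
  obtain ⟨F', e', he', hQ⟩ := h U y
  obtain ⟨i, hi⟩ := exists_iso_of_two_reps φ y F'.obj e' he' F.obj e he
  rw [← hi]
  exact precomp_iso_of_bcStable Q hQb F.property F'.property (AlgSp.IsAlgSpace.yon_obj U) i _ hQ

theorem repByAlgSpWith_inf (Q₁ Q₂ : MorphismProperty (AlgSp.Sp S)) (hQb : BCStable Q₁)
    (φ : 𝒜 ⥤ᵇ ℬ) (h₁ : AlgSt.RepByAlgSpWith Q₁ φ) (h₂ : AlgSt.RepByAlgSpWith Q₂ φ) :
    AlgSt.RepByAlgSpWith (Q₁ ⊓ Q₂) φ := by
  intro U y
  obtain ⟨F, e, he, hQ⟩ := h₂ U y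
  exact ⟨F, e, he, prop_of_repByAlgSpWith_all Q₁ hQb φ h₁ y F e he, hQ⟩

theorem repByAlgSpWith_mono_sp {P P' : MorphismProperty (AlgSp.Sp S)} (φ : 𝒜 ⥤ᵇ ℬ)
    (h : ∀ (F : AlgSp.Space S) (U : Over S) (π : F.obj ⟶ (AlgSp.yon S).obj U), P π → P' π)
    (hφ : AlgSt.RepByAlgSpWith P φ) : AlgSt.RepByAlgSpWith P' φ := by
  intro U y
  obtain ⟨F, e, he, hP⟩ := hφ U y
  exact ⟨F, e, he, h F U _ hP⟩

theorem bcStable_repWith (P : MorphismProperty Scheme.{u}) [P.IsStableUnderBaseChange] :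
    BCStable (AlgSp.RepWith (S := S) P) :=
  fun _ _ _ _ _ _ _ _ _ _ _ _ sq h => MorphismProperty.of_isPullback (P := AlgSp.RepWith P) sq h

theorem bcStable_qc : BCStable (AlgSp.IsQuasiCompactMor (S := S)) :=
  fun _ _ _ _ _ _ _ _ _ _ _ _ sq h =>
    Groth.Agent.Lib.Helper12.Proper.isQuasiCompactMor_baseChange sq h

theorem bcStable_univClosed : BCStable (AlgSp.IsUnivClosedMor (S := S)) :=
  fun _ _ _ _ _ _ _ _ _ _ _ _ sq h =>
    Groth.Agent.Lib.Helper12.Proper.isUnivClosedMor_baseChange sq h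

theorem bcStable_representable : BCStable (AlgSp.Representable (S := S)) :=
  fun _ _ _ _ _ _ _ _ _ _ _ _ sq h =>
    MorphismProperty.of_isPullback (P := AlgSp.Representable) sq h

end Gen

section Sp

variable {S : Scheme.{u}}

theorem isAlgSpace_pullback_self {F G : AlgSp.Space S} (a : F ⟶ G) :
    AlgSp.IsAlgSpace (pullback a.hom a.hom) :=
  Groth.Agent.S9874.isAlgSpace_of_isPullback G.property.diag F.property F.property
    (IsPullback.of_hasPullback _ _)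

/-- A map of algebraic spaces is quasi-separated iff its diagonal is quasi-compact. -/
theorem isQuasiSeparatedMor_iff_qc_diagonal {F G : AlgSp.Space S} (a : F ⟶ G) :
    AlgSp.IsQuasiSeparatedMor a.hom ↔ AlgSp.IsQuasiCompactMor (pullback.diagonal a.hom) := by
  obtain ⟨hrep, -⟩ := Groth.Agent.S9900.result a
  exact ⟨fun h => Groth.Agent.S9912.isQuasiCompactMor_of_repWith F.property
      (isAlgSpace_pullback_self a).diag _ h,
    fun h => Groth.Agent.S9912.repWith_quasiCompact_of_isQuasiCompactMor _ hrep h⟩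

end Sp

section St

variable {S : Scheme.{u}} {𝒳 𝒴 : AlgSt.Cat S}

/-- The space `h_U` as an algebraic space. -/
noncomputable abbrev yonSp (U : Over S) : AlgSp.Space S :=
  ⟨(AlgSp.yon S).obj U, AlgSp.IsAlgSpace.yon_obj U⟩

theorem repByAlgSpWith_qc_diag_of_qs (f : 𝒳 ⥤ᵇ 𝒴)
    (h : AlgSt.RepByAlgSpWith AlgSp.IsQuasiSeparatedMor f) :
    AlgSt.RepByAlgSpWith AlgSp.IsQuasiCompactMor (FibCat.diag f) := by
  apply repByAlgSpWith_diag_of_diagonal _ bcStable_qc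
  intro U y
  obtain ⟨F, e, he, hQ⟩ := h U y
  refine ⟨F, e, he, ?_⟩
  let a : F ⟶ yonSp U :=
    ObjectProperty.homMk (AlgSt.spMapOfOver (BasedFunctor.comp e (FibCat.fpFst y f)))
  exact (isQuasiSeparatedMor_iff_qc_diagonal a).1 hQ

theorem repByAlgSpWith_qs_of_qc_diag (f : 𝒳 ⥤ᵇ 𝒴) (hf : AlgSt.RepByAlgSp1 f)
    (h : AlgSt.RepByAlgSpWith AlgSp.IsQuasiCompactMor (FibCat.diag f)) :
    AlgSt.RepByAlgSpWith AlgSp.IsQuasiSeparatedMor f := by
  intro U y
  obtain ⟨F, e, he⟩ := hf U y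
  refine ⟨F, e, he, ?_⟩
  have h1 := diagonal_of_repByAlgSpWith_diag _ bcStable_qc
    (isLocalOnBase_fppf_of_fpqc _ (Groth.Agent.S10519.result S)) f h y F e he
  let a : F ⟶ yonSp U :=
    ObjectProperty.homMk (AlgSt.spMapOfOver (BasedFunctor.comp e (FibCat.fpFst y f)))
  exact (isQuasiSeparatedMor_iff_qc_diagonal a).2 h1

/-- A monomorphism of sheaves is quasi-separated. -/
theorem isQuasiSeparatedMor_of_mono {F G : AlgSp.Sp S} (a : F ⟶ G) [Mono a] :
    AlgSp.IsQuasiSeparatedMor a := by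
  have : IsIso (pullback.diagonal a) := (pullback.isIso_diagonal_iff a).2 inferInstance
  exact MorphismProperty.of_isIso (AlgSp.RepWith @QuasiCompact) (pullback.diagonal a)

theorem repByAlgSpWith_qs_of_isMono {𝒜 ℬ : AlgSt.Cat S} (k : 𝒜 ⥤ᵇ ℬ) (hk : AlgSt.IsMono k) :
    AlgSt.RepByAlgSpWith AlgSp.IsQuasiSeparatedMor k :=
  repByAlgSpWith_mono (fun _ _ a (_ : Mono a) => isQuasiSeparatedMor_of_mono a) k hk

end St

section St2

variable {S : Scheme.{u}} {𝒳 𝒴 : AlgSt.Cat S}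

theorem tfae_qs (h𝒳 : AlgSt.IsAlgStack Scheme.fppfPrecoverage 𝒳)
    (h𝒴 : AlgSt.IsAlgStack Scheme.fppfPrecoverage 𝒴) (f : 𝒳 ⥤ᵇ 𝒴) (hf : AlgSt.RepByAlgSp1 f) :
    [AlgSt.RepByAlgSpWith AlgSp.IsQuasiSeparatedMor f,
      AlgSt.RepByAlgSpWith AlgSp.IsQuasiCompactMor (FibCat.diag f),
      AlgSt.RepByAlgSpWith AlgSp.IsFiniteTypeMor (FibCat.diag f)].TFAE := by
  tfae_have 1 → 2 := repByAlgSpWith_qc_diag_of_qs f
  tfae_have 2 → 1 := repByAlgSpWith_qs_of_qc_diag f hf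
  tfae_have 3 → 2 := fun h => repByAlgSpWith_mono (fun _ _ a ha => ha.2) _ h
  tfae_have 2 → 3 := fun h =>
    repByAlgSpWith_inf _ _ bcStable_lft _ (repByAlgSpWith_lft_diag h𝒳 h𝒴 f) h
  tfae_finish

theorem isQuasiSeparatedMor_iff_of_repByAlgSp1 (h𝒳 : AlgSt.IsAlgStack Scheme.fppfPrecoverage 𝒳)
    (h𝒴 : AlgSt.IsAlgStack Scheme.fppfPrecoverage 𝒴) (f : 𝒳 ⥤ᵇ 𝒴) (hf : AlgSt.RepByAlgSp1 f) :
    AlgSt.IsQuasiSeparatedMor f ↔ AlgSt.RepByAlgSpWith AlgSp.IsQuasiSeparatedMor f := by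
  constructor
  · intro h
    exact repByAlgSpWith_qs_of_qc_diag f hf (repByAlgSpWith_mono (fun _ _ a ha => ha.1) _ h)
  · intro h
    have hmono : AlgSt.IsMono (FibCat.diag f) :=
      Groth.Agent.Lib.Helper15MonoFF.isMono_diag_of_repByAlgSp1 h𝒳.isStack.1 h𝒴.isStack.1 h𝒳.diag h𝒴.diag f hf
    exact repByAlgSpWith_inf _ _ bcStable_qc _ (repByAlgSpWith_qc_diag_of_qs f h)
      (repByAlgSpWith_qs_of_isMono _ hmono)

theorem isQuasiSeparatedMor_iff_diags (f : 𝒳 ⥤ᵇ 𝒴) :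
    AlgSt.IsQuasiSeparatedMor f ↔
      AlgSt.RepByAlgSpWith AlgSp.IsQuasiCompactMor (FibCat.diag f) ∧
        AlgSt.RepByAlgSpWith AlgSp.IsQuasiCompactMor (FibCat.diag (FibCat.diag f)) := by
  constructor
  · intro h
    refine ⟨repByAlgSpWith_mono (fun _ _ a ha => ha.1) _ h, ?_⟩
    exact repByAlgSpWith_qc_diag_of_qs _ (repByAlgSpWith_mono (fun _ _ a ha => ha.2) _ h)
  · rintro ⟨h1, h2⟩
    have hrep : AlgSt.RepByAlgSp1 (FibCat.diag f) := fun U y => by
      obtain ⟨F, e, he, -⟩ := h1 U y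
      exact ⟨F, e, he⟩
    exact repByAlgSpWith_inf _ _ bcStable_qc _ h1 (repByAlgSpWith_qs_of_qc_diag _ hrep h2)

end St2

section St3

variable {S : Scheme.{u}} {𝒳 𝒴 : AlgSt.Cat S}

theorem tfae_sep (f : 𝒳 ⥤ᵇ 𝒴) (hf : AlgSt.RepByAlgSp1 f) :
    [AlgSt.RepByAlgSpWith AlgSp.IsSeparatedMor f, AlgSt.IsClosedImm (FibCat.diag f),
      AlgSt.IsSeparatedMor f,
      AlgSt.RepByAlgSpWith AlgSp.IsUnivClosedMor (FibCat.diag f)].TFAE := by
  tfae_have 1 → 2 := fun h => by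
    change AlgSt.RepByAlgSpWith (AlgSp.RepWith @IsClosedImmersion) (FibCat.diag f)
    apply repByAlgSpWith_diag_of_diagonal _ (bcStable_repWith _)
    intro U y
    obtain ⟨F, e, he, hQ⟩ := h U y
    exact ⟨F, e, he, hQ⟩
  tfae_have 2 → 3 := fun h =>
    repByAlgSpWith_mono_sp _ (fun F U π hπ =>
      Groth.Agent.Lib.Helper12.Proper.isProperMor_of_isClosedImmersion
        (AlgSp.IsAlgSpace.yon_obj U) π hπ) h
  tfae_have 3 → 4 := fun h => repByAlgSpWith_mono (fun _ _ a ha => ha.2.2) _ h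
  tfae_have 4 → 1 := fun h U y => by
    obtain ⟨F, e, he⟩ := hf U y
    refine ⟨F, e, he, ?_⟩
    have h1 := diagonal_of_repByAlgSpWith_diag _ bcStable_univClosed
      (isLocalOnBase_fppf_of_fpqc _ (Groth.Agent.S10521.result S)) f h y F e he
    let a : F ⟶ yonSp U :=
      ObjectProperty.homMk (AlgSt.spMapOfOver (BasedFunctor.comp e (FibCat.fpFst y f)))
    exact ((Groth.Agent.S10280.result a).1).2 h1
  tfae_finish

theorem isEquivOver_ofSpMap_of_iso {F G : AlgSp.Sp S} (i : F ≅ G) :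
    FibCat.IsEquivOver (AlgSt.ofSpMap i.hom) := by
  refine ⟨AlgSt.ofSpMap i.inv, ⟨pshIsoOfSecEq (fun c => ?_)⟩, ⟨pshIsoOfSecEq (fun c => ?_)⟩⟩
  · rw [pshSec_comp_ofPshMap, pshSec_ofPshMap, pshSec_id]
    have h := NatTrans.comp_app_apply i.hom.hom i.inv.hom (op c.base) c.sec
    have h2 : i.hom.hom ≫ i.inv.hom = 𝟙 _ := congrArg (fun t => t.hom) i.hom_inv_id
    rw [h2] at h
    exact h.symm
  · rw [pshSec_comp_ofPshMap, pshSec_ofPshMap, pshSec_id]
    have h := NatTrans.comp_app_apply i.inv.hom i.hom.hom (op c.base) c.sec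
    have h2 : i.inv.hom ≫ i.hom.hom = 𝟙 _ := congrArg (fun t => t.hom) i.inv_hom_id
    rw [h2] at h
    exact h.symm

theorem isRepresentable_of_representable (F : AlgSp.Sp S) {T : Over S}
    (π : F ⟶ (AlgSp.yon S).obj T) (h : AlgSp.Representable π) :
    FibCat.IsRepresentable (AlgSt.ofSp F) := by
  obtain ⟨V, snd, fst, sq⟩ := h (𝟙 ((AlgSp.yon S).obj T))
  have : IsIso fst := sq.isIso_fst_of_isIso
  let i : (AlgSp.yon S).obj V ≅ F := asIso fst
  exact ⟨V, BasedFunctor.comp (AlgSt.ofSpMap i.inv) (AlgSt.toOverCat V),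
    IsEquivOver.comp _ _ (isEquivOver_ofSpMap_of_iso i.symm) (isEquivOver_toOverCat V)⟩

theorem isRepresentable1_diag_of_repByAlgSp1 (f : 𝒳 ⥤ᵇ 𝒴) (hf : AlgSt.RepByAlgSp1 f) :
    FibCat.IsRepresentable1 (FibCat.diag f) := by
  have h : AlgSt.RepByAlgSpWith AlgSp.Representable (FibCat.diag f) := by
    apply repByAlgSpWith_diag_of_diagonal _ bcStable_representable
    intro U y
    obtain ⟨F, e, he⟩ := hf U y
    let a : F ⟶ yonSp U :=
      ObjectProperty.homMk (AlgSt.spMapOfOver (BasedFunctor.comp e (FibCat.fpFst y f)))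
    exact ⟨F, e, he, (Groth.Agent.S9900.result a).1⟩
  intro T w
  obtain ⟨F, e, he, hrep⟩ := h T w
  exact isRepresentable_of_isEquivOver' e he (isRepresentable_of_representable F.obj _ hrep)

end St3

end Groth.Agent.Lib.Helper15DiagApps
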