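-- helper15: cancellation for properties of diagonals (separated, quasi-separated) via the second diagonal
import Mathlib
import Groth.Agent.Lib.Helper15DiagApps
import Groth.Agent.Lib.Helper15DiagComp2
import Groth.Agent.Lib.Helper15Atlas

set_option autoImplicit false
set_option backward.isDefEq.respectTransparency false
set_option backward.isDefEq.respectTransparency.types false
open CategoryTheory CategoryTheory.Functor CategoryTheory.Limits Opposite AlgebraicGeometry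

universe u

namespace Groth.Agent.Lib.Helper15DiagCancel

open Groth.Agent.Lib.Helper17 Groth.Agent.Lib.Helper15PshFib Groth.Agent.Lib.Helper15RepComp
  Groth.Agent.Lib.Helper15RepPsh Groth.Agent.Lib.Helper15DiagBase Groth.Agent.Lib.Helper15DiagRepSp
  Groth.Agent.Lib.Helper15Descent Groth.Agent.Lib.Helper15DiagLft
  Groth.Agent.Lib.Helper15DiagDescent Groth.Agent.Lib.Helper15SpMapRep
  Groth.Agent.Lib.Helper15SrcCancel Groth.Agent.Lib.Helper15ChartSp Groth.Agent.Lib.Helper15Atlas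
  Groth.Agent.Lib.Helper15LocEss Groth.Agent.Lib.Helper15UnivComp Groth.Agent.Lib.Helper15SmLoc
  Groth.Agent.Lib.Helper15PtsComp Groth.Agent.Lib.Helper15PtsTop Groth.Agent.Lib.Helper15PtsQc
  Groth.Agent.Lib.Helper15FpSwap Groth.Agent.Lib.Helper15QcLocal Groth.Agent.Lib.Helper15ClosedQc
  Groth.Agent.Lib.Helper15UnivPts Groth.Agent.Lib.Helper15BaseChange
  Groth.Agent.Lib.Helper15BaseChange2
  Groth.Agent.Lib.Helper15MonoSep Groth.Agent.Lib.Helper15LocQ Groth.Agent.Lib.Helper15LocQEngine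
  Groth.Agent.Lib.Helper15LocQProps Groth.Agent.Lib.Helper15LocQSpace
  Groth.Agent.Lib.Helper15LocQSpace2 Groth.Agent.Lib.Helper15LocQRep
  Groth.Agent.Lib.Helper15LocQComp Groth.Agent.Lib.Helper15GoodComp
  Groth.Agent.Lib.Helper15LocQCancel Groth.Agent.Lib.Helper15LocQBC
  Groth.Agent.Lib.Helper15LocQDiag Groth.Agent.Lib.Helper15LocQDescent
  Groth.Agent.Lib.Helper15RepDescent Groth.Agent.Lib.Helper15QcDescent
  Groth.Agent.Lib.Helper15FppfLiftFam Groth.Agent.Lib.Helper15ValLift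
  Groth.Agent.Lib.Helper15ValWit Groth.Agent.Lib.Helper15QcRep Groth.Agent.Lib.Helper15UnivComp
  Groth.Agent.Lib.Helper15QcQs Groth.Agent.Lib.Helper15QcProd Groth.Agent.Lib.Helper15.DiagBC
  Groth.Agent.Lib.Helper15UnivInjDiag Groth.Agent.Lib.Helper15DiagSq
  Groth.Agent.Lib.Helper15PshPb Groth.Agent.Lib.Helper15DiagBridge Groth.Agent.Lib.Helper15DiagApps
  Groth.Agent.Lib.Helper15DiagComp Groth.Agent.Lib.Helper15QsComp Groth.Agent.Lib.Helper15MonoFF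











section Cancel

variable {S : Scheme.{u}} {𝒳 𝒴 𝒵 : AlgSt.Cat S}

/-- The diagonal of the comparison functor `𝒳 ×_𝒴 𝒳 ⟶ 𝒳 ×_𝒵 𝒳` is a base change of the
second diagonal of `g`. -/
theorem repByAlgSpWith_diag_toRel (Q : MorphismProperty (AlgSp.Sp S)) {𝒜 : AlgSt.Cat S}
    (y : 𝒜 ⥤ᵇ 𝒴) (f : 𝒳 ⥤ᵇ 𝒴) (g : 𝒴 ⥤ᵇ 𝒵)
    (h : AlgSt.RepByAlgSpWith Q (FibCat.diag (FibCat.diag g))) :
    AlgSt.RepByAlgSpWith Q (FibCat.diag (toRel y f g)) := by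
  have h1 := repByAlgSpWith_diag_fpFst Q (FibCat.diag g) (relProd y f g) h
  exact (repByAlgSpWith_diag_of_square Q (FibCat.fpFst (relProd y f g) (FibCat.diag g))
    (toRel y f g) (magicRel y f g) (BasedFunctor.id _) (isEquivOver_magicRel y f g)
    (isEquivOver_id _) (Iso.refl _)).1 h1

/-- Cancellation for properties of the diagonal. -/
theorem repByAlgSpWith_diag_of_comp (h𝒳 : FibCat.IsFibGrpd 𝒳.p) (h𝒴 : FibCat.IsFibGrpd 𝒴.p)
    (h𝒵 : FibCat.IsFibGrpd 𝒵.p) (Q : MorphismProperty (AlgSp.Sp S)) (hQ : CompCond Q)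
    (f : 𝒳 ⥤ᵇ 𝒴) (g : 𝒴 ⥤ᵇ 𝒵)
    (hgf : AlgSt.RepByAlgSpWith Q (FibCat.diag (BasedFunctor.comp f g)))
    (hΔΔ : AlgSt.RepByAlgSpWith Q (FibCat.diag (FibCat.diag g))) :
    AlgSt.RepByAlgSpWith Q (FibCat.diag f) :=
  repByAlgSpWith_of_triangle h𝒳 (isFibGrpd_fp f f h𝒳 h𝒳 h𝒴)
    (isFibGrpd_fp (BasedFunctor.comp f g) (BasedFunctor.comp f g) h𝒳 h𝒳 h𝒵) Q hQ (FibCat.diag f)
    (FibCat.diag (BasedFunctor.comp f g)) (toRel f f g) (diagCompIso f g) hgf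
    (repByAlgSpWith_diag_toRel Q f f g hΔΔ)

theorem isSeparatedMor_of_comp (h𝒳 : FibCat.IsFibGrpd 𝒳.p) (h𝒴 : FibCat.IsFibGrpd 𝒴.p)
    (h𝒵 : FibCat.IsFibGrpd 𝒵.p) (f : 𝒳 ⥤ᵇ 𝒴) (g : 𝒴 ⥤ᵇ 𝒵)
    (hgf : AlgSt.IsSeparatedMor (BasedFunctor.comp f g))
    (hΔ : AlgSt.RepByAlgSpWith AlgSp.IsSeparatedMor (FibCat.diag g)) :
    AlgSt.IsSeparatedMor f := by
  have hrep : AlgSt.RepByAlgSp1 (FibCat.diag g) := fun U y => by
    obtain ⟨F, e, he, -⟩ := hΔ U y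
    exact ⟨F, e, he⟩
  have hΔΔ : AlgSt.IsSeparatedMor (FibCat.diag g) :=
    ((tfae_sep (FibCat.diag g) hrep).out 0 2).1 hΔ
  exact repByAlgSpWith_diag_of_comp h𝒳 h𝒴 h𝒵 _ compCond_isProperMor f g hgf hΔΔ

theorem compCond_qcqs :
    CompCond (AlgSp.IsQuasiCompactMor (S := S) ⊓ AlgSp.IsQuasiSeparatedMor) :=
  compCond_of_local_et _
    (fun _ _ _ _ hY hZ a b ha hb =>
      ⟨Groth.Agent.Lib.Helper15QsComp.isQuasiCompactMor_comp hZ hY a b ha.1 hb.1,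
        Groth.Agent.Lib.Helper15QsComp.isQuasiSeparatedMor_comp a b ha.2 hb.2⟩)
    isLocalOnBase_et_qcqs

theorem isQuasiSeparatedMor_of_comp (h𝒳 : FibCat.IsFibGrpd 𝒳.p)
    (h𝒴 : AlgSt.IsAlgStack Scheme.fppfPrecoverage 𝒴)
    (h𝒵 : AlgSt.IsAlgStack Scheme.fppfPrecoverage 𝒵) (f : 𝒳 ⥤ᵇ 𝒴) (g : 𝒴 ⥤ᵇ 𝒵)
    (hgf : AlgSt.IsQuasiSeparatedMor (BasedFunctor.comp f g))
    (hΔ : AlgSt.RepByAlgSpWith AlgSp.IsQuasiSeparatedMor (FibCat.diag g)) :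
    AlgSt.IsQuasiSeparatedMor f := by
  have hrep : AlgSt.RepByAlgSp1 (FibCat.diag g) := fun U y => by
    obtain ⟨F, e, he, -⟩ := hΔ U y
    exact ⟨F, e, he⟩
  have hfp : AlgSt.IsAlgStack Scheme.fppfPrecoverage (FibCat.fp g g) :=
    isAlgStack_fp_of_isPrestack (IsStack.isPrestack _ h𝒵.isStack) h𝒵.diag h𝒴 h𝒴 g g
  have hmono : AlgSt.IsMono (FibCat.diag (FibCat.diag g)) :=
    isMono_diag_of_repByAlgSp1 h𝒴.isStack.1 hfp.isStack.1 h𝒴.diag hfp.diag (FibCat.diag g) hrep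
  have hΔΔ : AlgSt.RepByAlgSpWith (AlgSp.IsQuasiCompactMor ⊓ AlgSp.IsQuasiSeparatedMor)
      (FibCat.diag (FibCat.diag g)) :=
    repByAlgSpWith_inf _ _ bcStable_qc _ (repByAlgSpWith_qc_diag_of_qs _ hΔ)
      (repByAlgSpWith_qs_of_isMono _ hmono)
  exact repByAlgSpWith_diag_of_comp h𝒳 h𝒴.isStack.1 h𝒵.isStack.1 _ compCond_qcqs f g hgf hΔΔ

end Cancel

end Groth.Agent.Lib.Helper15DiagCancel
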