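-- helper17: the relative inertia as a 2-fibre product of diagonals.
import Groth.Agent.Lib.Helper17FibDiag
import Groth.Agent.Lib.Helper17FibInertia

set_option autoImplicit false
open CategoryTheory CategoryTheory.Functor

universe v₁ u₁ v₂ u₂ v₃ u₃ v₄ u₄

namespace Groth.Agent.Lib.Helper17

section InertiaDiag

variable {C : Type u₁} [Category.{v₁} C] {𝒳 : BasedCategory.{v₂, u₂} C}
  {𝒴 : BasedCategory.{v₃, u₃} C} (F : 𝒳 ⥤ᵇ 𝒴)

/-- The automorphism `(α, 𝟙)` of `Δ x` in `𝒳 ×_𝒴 𝒳` attached to an object `(x, α)` of the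
inertia. -/
def inertiaDiagIso (x : FibCat.InertiaObj F) :
    (FibCat.diag F).obj x.pt ≅ (FibCat.diag F).obj x.pt :=
  ObjectProperty.isoMk _ (Limits.CategoricalPullback.mkIso
    (x := ((FibCat.diag F).obj x.pt).obj) (y := ((FibCat.diag F).obj x.pt).obj)
    x.aut (Iso.refl x.pt) (by
      change F.map x.aut.hom ≫ 𝟙 _ = 𝟙 _ ≫ F.map (𝟙 _)
      rw [x.map_aut]; simp))

@[simp] theorem inertiaDiagIso_hom_fst (x : FibCat.InertiaObj F) :
    (inertiaDiagIso F x).hom.hom.fst = x.aut.hom := rfl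

@[simp] theorem inertiaDiagIso_hom_snd (x : FibCat.InertiaObj F) :
    (inertiaDiagIso F x).hom.hom.snd = 𝟙 x.pt := rfl

/-- The comparison functor `I_{𝒳/𝒴} ⟶ 𝒳 ×_{Δ, 𝒳 ×_𝒴 𝒳, Δ} 𝒳`, `(x, α) ↦ (x, x, (α, 𝟙))`. -/
def inertiaToFpDiag : FibCat.inertia F ⥤ᵇ FibCat.fp (FibCat.diag F) (FibCat.diag F) where
  toFunctor :=
    { obj := fun x => ⟨⟨x.pt, x.pt, inertiaDiagIso F x⟩, by
        change (FibCat.fp F F).p.IsHomLift (𝟙 (𝒳.p.obj x.pt)) (inertiaDiagIso F x).hom
        rw [fp_isHomLift_iff]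
        exact inertia_aut_isHomLift F x⟩
      map := fun {x y} f => ObjectProperty.homMk ⟨f.hom, f.hom, by
        apply ObjectProperty.hom_ext
        apply Limits.CategoricalPullback.hom_ext
        · change f.hom ≫ y.aut.hom = x.aut.hom ≫ f.hom
          exact f.comm.symm
        · change f.hom ≫ 𝟙 _ = 𝟙 _ ≫ f.hom
          simp⟩
      map_id := fun x => by
        apply ObjectProperty.hom_ext; apply Limits.CategoricalPullback.hom_ext <;> rfl
      map_comp := fun f g => by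
        apply ObjectProperty.hom_ext; apply Limits.CategoricalPullback.hom_ext <;> rfl }
  w := rfl

theorem inertiaToFpDiag_fst :
    BasedFunctor.comp (inertiaToFpDiag F) (FibCat.fpFst _ _) = FibCat.inertiaToBase F := rfl

theorem inertiaToFpDiag_snd :
    BasedFunctor.comp (inertiaToFpDiag F) (FibCat.fpSnd _ _) = FibCat.inertiaToBase F := rfl

theorem inertiaToFpDiag_faithful : (inertiaToFpDiag F).toFunctor.Faithful :=
  ⟨fun {a b} f g h => by
    apply FibCat.InertiaObj.hom_ext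
    exact congrArg (fun k => k.hom.fst) h⟩

theorem inertiaToFpDiag_full : (inertiaToFpDiag F).toFunctor.Full :=
  ⟨fun {a b} k => by
    obtain ⟨k₁, hk₁⟩ : ∃ k₁ : a.pt ⟶ b.pt, k₁ = k.hom.fst := ⟨_, rfl⟩
    obtain ⟨k₂, hk₂⟩ : ∃ k₂ : a.pt ⟶ b.pt, k₂ = k.hom.snd := ⟨_, rfl⟩
    have hw := k.hom.w
    have hw1 : k₁ ≫ b.aut.hom = a.aut.hom ≫ k₂ := by
      rw [hk₁, hk₂]
      exact congrArg (fun m => m.hom.fst) hw
    have hw2 : k₁ = k₂ := by
      have : k₁ ≫ 𝟙 _ = 𝟙 _ ≫ k₂ := by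
        rw [hk₁, hk₂]
        exact congrArg (fun m => m.hom.snd) hw
      simpa using this
    refine ⟨⟨k₁, by rw [hw1, hw2]⟩, ?_⟩
    apply ObjectProperty.hom_ext
    apply Limits.CategoricalPullback.hom_ext
    · exact hk₁
    · exact hw2.trans hk₂⟩

theorem inertiaToFpDiag_essSurjOver : EssSurjOver (inertiaToFpDiag F) := by
  intro η
  -- the two components of the structural isomorphism
  let i₁ : η.obj.fst ≅ η.obj.snd := (FibCat.fpFst F F).toFunctor.mapIso η.obj.iso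
  let i₂ : η.obj.fst ≅ η.obj.snd := (FibCat.fpSnd F F).toFunctor.mapIso η.obj.iso
  have hi : F.map i₁.hom = F.map i₂.hom := by
    have := η.obj.iso.hom.hom.w
    have h1 : F.map i₁.hom ≫ 𝟙 _ = 𝟙 _ ≫ F.map i₂.hom := this
    simpa using h1
  let ξ : FibCat.InertiaObj F := ⟨η.obj.fst, i₁ ≪≫ i₂.symm, by
    rw [Iso.trans_hom, F.map_comp, hi, ← F.map_comp, Iso.symm_hom, Iso.hom_inv_id, F.map_id]⟩
  have w : (FibCat.diag F).toFunctor.map (Iso.refl η.obj.fst).hom ≫ η.obj.iso.hom =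
      ((inertiaToFpDiag F).obj ξ).obj.iso.hom ≫ (FibCat.diag F).toFunctor.map i₂.hom := by
    apply ObjectProperty.hom_ext
    apply Limits.CategoricalPullback.hom_ext
    · change 𝟙 _ ≫ i₁.hom = (i₁ ≪≫ i₂.symm).hom ≫ i₂.hom
      simp
    · change 𝟙 _ ≫ i₂.hom = 𝟙 _ ≫ i₂.hom
      rfl
  refine ⟨ξ, ObjectProperty.isoMk _ (Limits.CategoricalPullback.mkIso
    (x := ((inertiaToFpDiag F).obj ξ).obj) (y := η.obj) (Iso.refl η.obj.fst) i₂ w), ?_⟩
  rw [fp_isHomLift_iff]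
  change 𝒳.p.IsHomLift (𝟙 (𝒳.p.obj η.obj.fst)) (𝟙 η.obj.fst)
  infer_instance

/-- The comparison functor from the inertia to the 2-fibre product of the diagonals is an
equivalence over `C`. -/
theorem isEquivOver_inertiaToFpDiag : FibCat.IsEquivOver (inertiaToFpDiag F) := by
  have := inertiaToFpDiag_faithful F
  have := inertiaToFpDiag_full F
  exact isEquivOver_of_fullyFaithful_of_essSurjOver _ (inertiaToFpDiag_essSurjOver F)

end InertiaDiag

end Groth.Agent.Lib.Helper17
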