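-- helper15: relative inertia versus diagonals (separated, quasi-separated, unramified); two universally closed diagonals give separated
import Mathlib
import Groth.Agent.Lib.Helper15DiagCancel
import Groth.Agent.Lib.Helper17FibInertia3
import Groth.Agent.S9925
import Groth.Agent.S10262

set_option autoImplicit false
set_option backward.isDefEq.respectTransparency false
set_option backward.isDefEq.respectTransparency.types false
open CategoryTheory CategoryTheory.Functor CategoryTheory.Limits Opposite AlgebraicGeometry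

universe u

namespace Groth.Agent.Lib.Helper15DiagInertia

open Groth.Agent.Lib.Helper17 Groth.Agent.Lib.Helper15PshFib Groth.Agent.Lib.Helper15RepComp
  Groth.Agent.Lib.Helper15RepPsh Groth.Agent.Lib.Helper15DiagBase Groth.Agent.Lib.Helper15DiagRepSp
  Groth.Agent.Lib.Helper15Descent Groth.Agent.Lib.Helper15DiagLft
  Groth.Agent.Lib.Helper15DiagDescent Groth.Agent.Lib.Helper15SpMapRep
  Groth.Agent.Lib.Helper15SrcCancel Groth.Agent.Lib.Helper15ChartSp Groth.Agent.Lib.Helper15Atlas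
  Groth.Agent.Lib.Helper15LocEss Groth.Agent.Lib.Helper15UnivComp Groth.Agent.Lib.Helper15SmLoc
  Groth.Agent.Lib.Helper15PtsComp Groth.Agent.Lib.Helper15PtsTop Groth.Agent.Lib.Helper15PtsQc
  Groth.Agent.Lib.Helper15FpSwap Groth.Agent.Lib.Helper15QcLocal Groth.Agent.Lib.Helper15ClosedQc
  Groth.Agent.Lib.Helper15UnivPts Groth.Agent.Lib.Helper15BaseChange
  Groth.Agent.Lib.Helper15BaseChange2
  Groth.Agent.Lib.Helper15MonoSep Groth.Agent.Lib.Helper15LocQ Groth.Agent.Lib.Helper15LocQEngine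
  Groth.Agent.Lib.Helper15LocQProps Groth.Agent.Lib.Helper15LocQSpace
  Groth.Agent.Lib.Helper15LocQSpace2 Groth.Agent.Lib.Helper15LocQRep
  Groth.Agent.Lib.Helper15LocQComp Groth.Agent.Lib.Helper15GoodComp
  Groth.Agent.Lib.Helper15LocQCancel Groth.Agent.Lib.Helper15LocQBC
  Groth.Agent.Lib.Helper15LocQDiag Groth.Agent.Lib.Helper15LocQDescent
  Groth.Agent.Lib.Helper15RepDescent Groth.Agent.Lib.Helper15QcDescent
  Groth.Agent.Lib.Helper15FppfLiftFam Groth.Agent.Lib.Helper15ValLift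
  Groth.Agent.Lib.Helper15ValWit Groth.Agent.Lib.Helper15QcRep Groth.Agent.Lib.Helper15UnivComp
  Groth.Agent.Lib.Helper15QcQs Groth.Agent.Lib.Helper15QcProd Groth.Agent.Lib.Helper15.DiagBC
  Groth.Agent.Lib.Helper15UnivInjDiag Groth.Agent.Lib.Helper15DiagSq
  Groth.Agent.Lib.Helper15PshPb Groth.Agent.Lib.Helper15DiagBridge Groth.Agent.Lib.Helper15DiagApps Groth.Agent.Lib.Helper15DiagCancel
  Groth.Agent.Lib.Helper15DiagComp Groth.Agent.Lib.Helper15QsComp Groth.Agent.Lib.Helper15MonoFF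













section Sep

variable {S : Scheme.{u}} {𝒳 𝒴 : AlgSt.Cat S}

theorem bcStable_separated : BCStable (AlgSp.IsSeparatedMor (S := S)) :=
  fun _ _ _ _ _ _ _ _ _ _ _ _ sq h =>
    Groth.Agent.Lib.Helper12.Proper.isSeparatedMor_baseChange sq h

/-- If the first and second diagonals of `f` are universally closed, `f` is separated. -/
theorem isSeparatedMor_of_univClosed_diags (h𝒳 : AlgSt.IsAlgStack Scheme.fppfPrecoverage 𝒳)
    (h𝒴 : AlgSt.IsAlgStack Scheme.fppfPrecoverage 𝒴) (f : 𝒳 ⥤ᵇ 𝒴)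
    (h1 : AlgSt.RepByAlgSpWith AlgSp.IsUnivClosedMor (FibCat.diag f))
    (h2 : AlgSt.RepByAlgSpWith AlgSp.IsUnivClosedMor (FibCat.diag (FibCat.diag f))) :
    AlgSt.IsSeparatedMor f := by
  have hrep : AlgSt.RepByAlgSp1 (FibCat.diag f) := fun U y => by
    obtain ⟨F, e, he, -⟩ := h1 U y
    exact ⟨F, e, he⟩
  have hsep : AlgSt.RepByAlgSpWith AlgSp.IsSeparatedMor (FibCat.diag f) :=
    ((tfae_sep (FibCat.diag f) hrep).out 3 0).1 h2
  have hlft := repByAlgSpWith_lft_diag h𝒳 h𝒴 f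
  have h3 := repByAlgSpWith_inf _ _ bcStable_univClosed _ h1
    (repByAlgSpWith_inf _ _ bcStable_lft _ hlft hsep)
  refine repByAlgSpWith_mono_sp _ (fun F U π hπ => ?_) h3
  let a : F ⟶ yonSp U := ObjectProperty.homMk π
  exact ⟨hπ.2.2, ⟨hπ.2.1, Groth.Agent.S9925.result a hπ.1⟩, hπ.1⟩

end Sep

section RepWithBridge

variable {S : Scheme.{u}}

/-- If the functor of a map `a` of algebraic spaces is representable by algebraic spaces with
`Q`, every base change of `a` to a scheme has `Q`. -/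
theorem exists_pullback_of_repByAlgSpWith_ofSpMap (Q : MorphismProperty (AlgSp.Sp S))
    (hQb : BCStable Q) (F G : AlgSp.Space S) (a : F ⟶ G)
    (h : AlgSt.RepByAlgSpWith Q (AlgSt.ofSpMap a.hom)) {V₀ : Over S}
    (p : (AlgSp.yon S).obj V₀ ⟶ G.obj) :
    ∃ (V' : AlgSp.Space S) (b' : V'.obj ⟶ F.obj) (π : V'.obj ⟶ (AlgSp.yon S).obj V₀),
      IsPullback b' π a.hom p ∧ Q π := by
  let y : FibCat.overCat V₀ ⥤ᵇ AlgSt.ofSp G.obj :=
    BasedFunctor.comp (AlgSt.ofOverCat V₀) (AlgSt.ofSpMap p)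
  obtain ⟨P', E, fst, hE, sq⟩ := exists_pullback_fp a.hom.hom y
  obtain ⟨hs, hA⟩ := (repBySp_of_spaces F G a.hom) _ fst _ sq
  let V' : AlgSp.Space S := ⟨⟨P', hs⟩, hA⟩
  let ξ : (AlgSp.yon S).obj V₀ ⟶ G.obj :=
    ObjectProperty.homMk (uliftYonedaEquiv.symm (pshSec y (Over.mk (𝟙 V₀))))
  let b' : V'.obj ⟶ F.obj := ObjectProperty.homMk fst
  let E' : AlgSt.ofSp V'.obj ⥤ᵇ FibCat.fp y (AlgSt.ofSpMap a.hom) := E
  have hE' : FibCat.IsEquivOver E' := hE
  have sq' : IsPullback b'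
      (AlgSt.spMapOfOver (BasedFunctor.comp E' (FibCat.fpFst y (AlgSt.ofSpMap a.hom)))) a.hom ξ :=
    IsPullback.of_map_of_faithful (sheafToPresheaf (AlgSp.J S) (Type (u + 1))) sq
  have hξ : ξ = p := by
    apply ObjectProperty.hom_ext
    change uliftYonedaEquiv.symm (pshSec y (Over.mk (𝟙 V₀))) = p.hom
    rw [pshSec_chart]
    exact uliftYonedaEquiv.symm_apply_apply p.hom
  rw [hξ] at sq'
  obtain ⟨F'', e'', he'', hQ''⟩ := h V₀ y
  obtain ⟨i, hi⟩ := exists_iso_of_two_reps (AlgSt.ofSpMap a.hom) y F''.obj e'' he'' V'.obj E' hE'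
  have hQE : Q (AlgSt.spMapOfOver
      (BasedFunctor.comp E' (FibCat.fpFst y (AlgSt.ofSpMap a.hom)))) := by
    rw [← hi]
    exact precomp_iso_of_bcStable Q hQb V'.property F''.property (AlgSp.IsAlgSpace.yon_obj V₀) i _
      hQ''
  exact ⟨V', b', _, sq', hQE⟩

/-- A representable map of algebraic spaces whose functor is representable by algebraic spaces
with `RepWith P` has `RepWith P`. -/
theorem repWith_of_repByAlgSpWith_ofSpMap (P : MorphismProperty Scheme.{u})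
    [P.IsStableUnderBaseChange] (F G : AlgSp.Space S) (a : F ⟶ G)
    (hrep : AlgSp.Representable a.hom)
    (h : AlgSt.RepByAlgSpWith (AlgSp.RepWith P) (AlgSt.ofSpMap a.hom)) :
    AlgSp.RepWith P a.hom := by
  refine ⟨hrep, fun U V g fst snd sq => ?_⟩
  obtain ⟨V', b', π, sq', hπ⟩ :=
    exists_pullback_of_repByAlgSpWith_ofSpMap _ (bcStable_repWith P) F G a h g
  let j : (AlgSp.yon S).obj V ≅ V'.obj := sq.isoIsPullback _ _ sq'
  have hj : j.hom ≫ π = (AlgSp.yon S).map snd := IsPullback.isoIsPullback_hom_snd _ _ sq sq'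
  have sq₂ : IsPullback j.hom ((AlgSp.yon S).map snd) π (𝟙 _) :=
    IsPullback.of_horiz_isIso ⟨by rw [hj, Category.comp_id]⟩
  exact hπ.2 _ _ snd sq₂

end RepWithBridge

section Bridge2

variable {S : Scheme.{u}} {𝒳 𝒴 : AlgSt.Cat S}

/-- The converse direction of the bridge for properties of the form `RepWith P`. -/
theorem diagonal_repWith_of_repByAlgSpWith_diag (P : MorphismProperty Scheme.{u})
    [P.IsStableUnderBaseChange] (f : 𝒳 ⥤ᵇ 𝒴)
    (h : AlgSt.RepByAlgSpWith (AlgSp.RepWith P) (FibCat.diag f)) {U : Over S}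
    (y : FibCat.overCat U ⥤ᵇ 𝒴) (F : AlgSp.Space S) (e : AlgSt.ofSp F.obj ⥤ᵇ FibCat.fp y f)
    (he : FibCat.IsEquivOver e) :
    AlgSp.RepWith P
      (pullback.diagonal (AlgSt.spMapOfOver (BasedFunctor.comp e (FibCat.fpFst y f)))) := by
  have h1 := repByAlgSpWith_diag_fpFst (AlgSp.RepWith P) f y h
  rw [repByAlgSpWith_diag_fpFst_iff _ f y F.obj e he, repByAlgSpWith_diag_ofSpMap_iff] at h1
  let a : F ⟶ yonSp U :=
    ObjectProperty.homMk (AlgSt.spMapOfOver (BasedFunctor.comp e (FibCat.fpFst y f)))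
  let PP : AlgSp.Space S := ⟨pullback a.hom a.hom, isAlgSpace_pullback_self a⟩
  let δ : F ⟶ PP := ObjectProperty.homMk (pullback.diagonal a.hom)
  exact repWith_of_repByAlgSpWith_ofSpMap P F PP δ (Groth.Agent.S9900.result a).1 h1

end Bridge2

section Inertia

variable {S : Scheme.{u}} {𝒳 𝒴 : AlgSt.Cat S} (f : 𝒳 ⥤ᵇ 𝒴)

/-- The neutral section corresponds to the second diagonal. -/
def neutralIso : BasedFunctor.comp (FibCat.inertiaNeutral f) (inertiaToFpDiag f) ≅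
    BasedFunctor.comp (BasedFunctor.id 𝒳) (FibCat.diag (FibCat.diag f)) :=
  fpIsoMk (FibCat.diag f) (FibCat.diag f)
    (H := BasedFunctor.comp (FibCat.inertiaNeutral f) (inertiaToFpDiag f))
    (K := BasedFunctor.comp (BasedFunctor.id 𝒳) (FibCat.diag (FibCat.diag f)))
    (Iso.refl _) (Iso.refl _) (fun a => by
      apply ObjectProperty.hom_ext
      apply Limits.CategoricalPullback.hom_ext
      · change 𝟙 _ ≫ 𝟙 _ = 𝟙 _ ≫ 𝟙 _
        rfl
      · change 𝟙 _ ≫ 𝟙 _ = 𝟙 _ ≫ 𝟙 _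
        rfl)

theorem repByAlgSpWith_inertiaNeutral_iff (Q : MorphismProperty (AlgSp.Sp S)) :
    AlgSt.RepByAlgSpWith Q (FibCat.inertiaNeutral f) ↔
      AlgSt.RepByAlgSpWith Q (FibCat.diag (FibCat.diag f)) :=
  (repByAlgSpWith_of_square Q (FibCat.diag (FibCat.diag f)) (FibCat.inertiaNeutral f)
    (BasedFunctor.id 𝒳) (inertiaToFpDiag f) (isEquivOver_id _) (isEquivOver_inertiaToFpDiag f)
    (neutralIso f)).symm

theorem repByAlgSpWith_inertiaToBase_iff (Q : MorphismProperty (AlgSp.Sp S)) :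
    AlgSt.RepByAlgSpWith Q (FibCat.inertiaToBase f) ↔
      AlgSt.RepByAlgSpWith Q (FibCat.fpFst (FibCat.diag f) (FibCat.diag f)) :=
  (repByAlgSpWith_of_square Q (FibCat.fpFst (FibCat.diag f) (FibCat.diag f))
    (FibCat.inertiaToBase f) (inertiaToFpDiag f) (BasedFunctor.id 𝒳)
    (isEquivOver_inertiaToFpDiag f) (isEquivOver_id _) (Iso.refl _)).symm

theorem repByAlgSpWith_inertiaToBase_of_diag (Q : MorphismProperty (AlgSp.Sp S))
    (h : AlgSt.RepByAlgSpWith Q (FibCat.diag f)) :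
    AlgSt.RepByAlgSpWith Q (FibCat.inertiaToBase f) :=
  (repByAlgSpWith_inertiaToBase_iff f Q).2 (repByAlgSpWith_fpFst Q (FibCat.diag f) (FibCat.diag f) h)

theorem repByAlgSpWith_inertiaNeutral_of_diag (Q : MorphismProperty (AlgSp.Sp S))
    (h : AlgSt.RepByAlgSpWith Q (FibCat.diag (FibCat.inertiaToBase f))) :
    AlgSt.RepByAlgSpWith Q (FibCat.inertiaNeutral f) :=
  repByAlgSpWith_section Q (FibCat.inertiaToBase f) (FibCat.inertiaNeutral f) (Iso.refl _) h

end Inertia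

section InertiaApps

variable {S : Scheme.{u}} {𝒳 𝒴 : AlgSt.Cat S}

theorem tfae_inertia_sep (h𝒳 : AlgSt.IsAlgStack Scheme.fppfPrecoverage 𝒳)
    (h𝒴 : AlgSt.IsAlgStack Scheme.fppfPrecoverage 𝒴) (f : 𝒳 ⥤ᵇ 𝒴) :
    [AlgSt.RepByAlgSpWith AlgSp.IsSeparatedMor (FibCat.inertiaToBase f),
      AlgSt.RepByAlgSpWith AlgSp.IsSeparatedMor (FibCat.diag f),
      AlgSt.IsClosedImm (FibCat.inertiaNeutral f)].TFAE := by
  have hrepΔ : AlgSt.RepByAlgSp1 (FibCat.diag f) :=
    Groth.Agent.Lib.Helper15DiagRepSp.repByAlgSp1_diag_of_diag f h𝒳.diag h𝒴.diag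
  tfae_have 1 → 3 := fun h => by
    have hrep : AlgSt.RepByAlgSp1 (FibCat.inertiaToBase f) := fun U y => by
      obtain ⟨F, e, he, -⟩ := h U y
      exact ⟨F, e, he⟩
    exact repByAlgSpWith_inertiaNeutral_of_diag f _
      (((tfae_sep (FibCat.inertiaToBase f) hrep).out 0 1).1 h)
  tfae_have 3 → 2 := fun h =>
    ((tfae_sep (FibCat.diag f) hrepΔ).out 1 0).1
      ((repByAlgSpWith_inertiaNeutral_iff f _).1 h)
  tfae_have 2 → 1 := fun h => repByAlgSpWith_inertiaToBase_of_diag f _ h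
  tfae_finish

theorem tfae_inertia_qs (h𝒳 : AlgSt.IsAlgStack Scheme.fppfPrecoverage 𝒳)
    (h𝒴 : AlgSt.IsAlgStack Scheme.fppfPrecoverage 𝒴) (f : 𝒳 ⥤ᵇ 𝒴) :
    [AlgSt.RepByAlgSpWith AlgSp.IsQuasiSeparatedMor (FibCat.inertiaToBase f),
      AlgSt.RepByAlgSpWith AlgSp.IsQuasiSeparatedMor (FibCat.diag f),
      AlgSt.RepByAlgSpWith AlgSp.IsQuasiCompactMor (FibCat.inertiaNeutral f)].TFAE := by
  have hrepΔ : AlgSt.RepByAlgSp1 (FibCat.diag f) :=
    Groth.Agent.Lib.Helper15DiagRepSp.repByAlgSp1_diag_of_diag f h𝒳.diag h𝒴.diag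
  tfae_have 1 → 3 := fun h =>
    repByAlgSpWith_inertiaNeutral_of_diag f _ (repByAlgSpWith_qc_diag_of_qs _ h)
  tfae_have 3 → 2 := fun h =>
    repByAlgSpWith_qs_of_qc_diag (FibCat.diag f) hrepΔ
      ((repByAlgSpWith_inertiaNeutral_iff f _).1 h)
  tfae_have 2 → 1 := fun h => repByAlgSpWith_inertiaToBase_of_diag f _ h
  tfae_finish

theorem inertia_unramified_iff_isDMMor (h𝒳 : AlgSt.IsAlgStack Scheme.fppfPrecoverage 𝒳)
    (h𝒴 : AlgSt.IsAlgStack Scheme.fppfPrecoverage 𝒴) (f : 𝒳 ⥤ᵇ 𝒴) :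
    AlgSt.RepByAlgSpWith (AlgSp.LocP (@LocallyOfFiniteType ⊓ @FormallyUnramified))
      (FibCat.inertiaToBase f) ↔ AlgSt.IsDMMor f := by
  have hrepΔ : AlgSt.RepByAlgSp1 (FibCat.diag f) :=
    Groth.Agent.Lib.Helper15DiagRepSp.repByAlgSp1_diag_of_diag f h𝒳.diag h𝒴.diag
  constructor
  · intro h
    have h1 : AlgSt.RepByAlgSpWith (AlgSp.RepWith @IsOpenImmersion)
        (FibCat.diag (FibCat.inertiaToBase f)) := by
      apply repByAlgSpWith_diag_of_diagonal _ (bcStable_repWith _)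
      intro U y
      obtain ⟨F, e, he, hQ⟩ := h U y
      let a : F ⟶ yonSp U := ObjectProperty.homMk (AlgSt.spMapOfOver
        (BasedFunctor.comp e (FibCat.fpFst y (FibCat.inertiaToBase f))))
      exact ⟨F, e, he, (Groth.Agent.S10262.result a).1 hQ⟩
    have h2 : AlgSt.RepByAlgSpWith (AlgSp.RepWith @IsOpenImmersion)
        (FibCat.diag (FibCat.diag f)) :=
      (repByAlgSpWith_inertiaNeutral_iff f _).1 (repByAlgSpWith_inertiaNeutral_of_diag f _ h1)
    have hlft := repByAlgSpWith_lft_diag h𝒳 h𝒴 f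
    intro U y
    obtain ⟨F, e, he⟩ := hrepΔ U y
    refine ⟨F, e, he, ?_⟩
    let a : F ⟶ yonSp U := ObjectProperty.homMk (AlgSt.spMapOfOver
      (BasedFunctor.comp e (FibCat.fpFst y (FibCat.diag f))))
    exact (Groth.Agent.S10262.result a).2
      (prop_of_repByAlgSpWith_all _ bcStable_lft _ hlft y F e he)
      (diagonal_repWith_of_repByAlgSpWith_diag @IsOpenImmersion (FibCat.diag f) h2 y F e he)
  · intro h
    exact repByAlgSpWith_inertiaToBase_of_diag f _ h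

end InertiaApps

end Groth.Agent.Lib.Helper15DiagInertia
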