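-- helper17: full subcategories of stacks that are stacks.
import Groth.Agent.Lib.Helper17StkLoc3

set_option autoImplicit false
open CategoryTheory CategoryTheory.Functor

universe v₁ u₁ v₂ u₂ v₃ u₃ v₄ u₄ v u

namespace Groth.Agent.Lib.Helper17

section PostFF

variable {C : Type u} [Category.{v} C]
variable (𝒜 : BasedCategory.{v₁, u₁} C) {𝒳 : BasedCategory.{v₂, u₂} C}
  {𝒴 : BasedCategory.{v₃, u₃} C}

theorem post_faithful_of_faithful (F : 𝒳 ⥤ᵇ 𝒴) [F.toFunctor.Faithful] :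
    (post 𝒜 F).Faithful := by
  refine ⟨fun {G G'} α β h => ?_⟩
  apply BasedNatTrans.homCategory.ext
  apply NatTrans.ext
  funext a
  apply F.toFunctor.map_injective
  exact congrArg (fun t => t.toNatTrans.app a) h

theorem post_full_of_ff (F : 𝒳 ⥤ᵇ 𝒴) [F.toFunctor.Full] [F.toFunctor.Faithful] :
    (post 𝒜 F).Full := by
  refine ⟨fun {G G'} γ => ?_⟩
  obtain ⟨g, hg⟩ : ∃ g : ∀ a, F.obj (G.obj a) ⟶ F.obj (G'.obj a),
      ∀ a, g a = γ.toNatTrans.app a := ⟨fun a => γ.toNatTrans.app a, fun a => rfl⟩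
  have hnat : ∀ {a a' : 𝒜.obj} (m : a ⟶ a'),
      F.map (G.map m) ≫ g a' = g a ≫ F.map (G'.map m) := by
    intro a a' m
    rw [hg, hg]
    exact γ.toNatTrans.naturality m
  have hlift : ∀ a, 𝒴.p.IsHomLift (𝟙 (𝒜.p.obj a)) (g a) := by
    intro a
    rw [hg]
    exact γ.isHomLift' a
  refine ⟨{ toNatTrans :=
              { app := fun a => F.toFunctor.preimage (g a)
                naturality := fun a a' m => by
                  apply F.toFunctor.map_injective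
                  rw [F.toFunctor.map_comp, F.toFunctor.map_comp, F.toFunctor.map_preimage,
                    F.toFunctor.map_preimage]
                  exact hnat m }
            isHomLift' := fun a => by
              have h2 : 𝒴.p.IsHomLift (𝟙 (𝒜.p.obj a)) (F.map (F.toFunctor.preimage (g a))) := by
                rw [show F.map (F.toFunctor.preimage (g a)) = g a from
                  F.toFunctor.map_preimage _]
                exact hlift a
              exact BasedFunctor.isHomLift_map F _ _ }, ?_⟩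
  apply BasedNatTrans.homCategory.ext
  apply NatTrans.ext
  funext a
  exact (F.toFunctor.map_preimage (g a)).trans (hg a)

end PostFF


section FullSub

variable {C : Type u} [Category.{v} C] {𝒳 : BasedCategory.{v₂, u₂} C}
  (Q : ObjectProperty 𝒳.obj)

/-- the full subcategory on `Q` as a category over `C` -/
abbrev subCat : BasedCategory.{v₂, u₂} C := BasedCategory.ofFunctor (Q.ι ⋙ 𝒳.p)

/-- the inclusion of the full subcategory, over `C` -/
def subIncl : subCat Q ⥤ᵇ 𝒳 where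
  toFunctor := Q.ι
  w := rfl

instance : (subIncl Q).toFunctor.Full := inferInstanceAs Q.ι.Full
instance : (subIncl Q).toFunctor.Faithful := inferInstanceAs Q.ι.Faithful

theorem isFibGrpd_subCat (h𝒳 : FibCat.IsFibGrpd 𝒳.p)
    (h1 : ∀ ⦃y x : 𝒳.obj⦄ (φ : y ⟶ x), Q x →
      ∃ (y' : 𝒳.obj) (e : y ≅ y'), Q y' ∧ 𝒳.p.IsHomLift (𝟙 (𝒳.p.obj y)) e.hom) :
    FibCat.IsFibGrpd (subCat Q).p := by
  refine ⟨?_, ?_⟩
  · intro x V f₀
    obtain ⟨f, hf⟩ : ∃ t : V ⟶ 𝒳.p.obj x.obj, t = f₀ := ⟨f₀, rfl⟩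
    obtain ⟨y, ψ, hψ⟩ := h𝒳.exists_lift (x := x.obj) f
    obtain ⟨y', e, hy', he⟩ := h1 ψ x.property
    have hV : 𝒳.p.obj y = V := IsHomLift.domain_eq 𝒳.p f ψ
    have he' : 𝒳.p.IsHomLift (𝟙 V) e.hom := isHomLift_id_of_eq 𝒳.p hV e.hom
    have heinv : 𝒳.p.IsHomLift (𝟙 V) e.inv := IsHomLift.lift_id_inv 𝒳.p V e
    have hl : 𝒳.p.IsHomLift f (e.inv ≫ ψ) := by
      have : 𝒳.p.IsHomLift (𝟙 V ≫ f) (e.inv ≫ ψ) := inferInstance
      rw [Category.id_comp] at this
      exact this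
    let y'' : (subCat Q).obj := ⟨y', hy'⟩
    let φ : y'' ⟶ x := ObjectProperty.homMk (e.inv ≫ ψ)
    have hφ : (Q.ι ⋙ 𝒳.p).IsHomLift f φ := (isHomLift_comp_iff Q.ι 𝒳.p f φ).2 hl
    exact ⟨y'', φ, hf ▸ hφ⟩
  · intro y x φ
    have h2 : 𝒳.p.IsStronglyCartesian ((subCat Q).p.map φ) ((subIncl Q).map φ) :=
      h𝒳.isStronglyCartesian φ.hom
    exact isStronglyCartesian_of_map_of_ff (subIncl Q) ((subCat Q).p.map φ) φ

end FullSub


section FullSubStack

variable {C : Type u} [Category.{v} C] {𝒳 : BasedCategory.{v, max u v} C}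

theorem isStack_subCat (J : GrothendieckTopology C) (h𝒳 : Stk.IsStack J 𝒳)
    (Q : ObjectProperty 𝒳.obj)
    (h1 : ∀ ⦃y x : 𝒳.obj⦄ (φ : y ⟶ x), Q x →
      ∃ (y' : 𝒳.obj) (e : y ≅ y'), Q y' ∧ 𝒳.p.IsHomLift (𝟙 (𝒳.p.obj y)) e.hom)
    (h3 : ∀ ⦃U : C⦄ (R : Sieve U), R ∈ J U → ∀ (x : 𝒳.obj), 𝒳.p.obj x = U →
      (∀ ⦃V : C⦄ (f : V ⟶ U), R f → ∀ (y : 𝒳.obj) (φ : y ⟶ x), 𝒳.p.IsHomLift f φ →
        ∃ (y' : 𝒳.obj) (e : y ≅ y'), Q y' ∧ 𝒳.p.IsHomLift (𝟙 V) e.hom) →
      ∃ (x' : 𝒳.obj) (e : x ≅ x'), Q x' ∧ 𝒳.p.IsHomLift (𝟙 U) e.hom) :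
    Stk.IsStack J (subCat Q) := by
  refine ⟨isFibGrpd_subCat Q h𝒳.1 h1, fun U R hR => ?_⟩
  have hX : (Stk.resSieve R 𝒳).IsEquivalence := h𝒳.2 R hR
  have hpU_faith := post_faithful_of_faithful (FibCat.overCat U) (subIncl Q)
  have hpU_full := post_full_of_ff (FibCat.overCat U) (subIncl Q)
  have hpR_faith := post_faithful_of_faithful (Stk.sieveCat R) (subIncl Q)
  have hpR_full := post_full_of_ff (Stk.sieveCat R) (subIncl Q)
  have hsq : Stk.resSieve R (subCat Q) ⋙ post (Stk.sieveCat R) (subIncl Q) =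
      post (FibCat.overCat U) (subIncl Q) ⋙ Stk.resSieve R 𝒳 := rfl
  have hfaith : (Stk.resSieve R (subCat Q)).Faithful := by
    have : (Stk.resSieve R (subCat Q) ⋙ post (Stk.sieveCat R) (subIncl Q)).Faithful := by
      rw [hsq]; infer_instance
    exact Functor.Faithful.of_comp _ (post (Stk.sieveCat R) (subIncl Q))
  have hfull : (Stk.resSieve R (subCat Q)).Full := by
    have : (Stk.resSieve R (subCat Q) ⋙ post (Stk.sieveCat R) (subIncl Q)).Full := by
      rw [hsq]; infer_instance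
    exact Functor.Full.of_comp_faithful _ (post (Stk.sieveCat R) (subIncl Q))
  have hess : (Stk.resSieve R (subCat Q)).EssSurj := by
    refine ⟨fun K => ?_⟩
    obtain ⟨H, ⟨eH⟩⟩ := hX.essSurj.mem_essImage (BasedFunctor.comp K (subIncl Q))
    have key : ∀ b : (FibCat.overCat U).obj, ∃ (x : (subCat Q).obj)
        (e : (subIncl Q).obj x ≅ H.obj b),
        𝒳.p.IsHomLift (𝟙 ((FibCat.overCat U).p.obj b)) e.hom := by
      have h0 : ∃ (x' : 𝒳.obj) (e : H.obj (Over.mk (𝟙 U)) ≅ x'),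
          Q x' ∧ 𝒳.p.IsHomLift (𝟙 U) e.hom := by
        apply h3 R hR (H.obj (Over.mk (𝟙 U))) (H.w_obj _)
        intro V f hf y φ hφ
        have hψ : 𝒳.p.IsHomLift f (H.map (overTerm U (Over.mk f))) := by
          have h0 : (FibCat.overCat U).p.IsHomLift f (overTerm U (Over.mk f)) :=
            overTerm_isHomLift U (Over.mk f)
          exact BasedFunctor.preserves_isHomLift H f (overTerm U (Over.mk f))
        obtain ⟨e1, he1, -⟩ := IsFibGrpd.exists_iso_of_lifts h𝒳.1 f φ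
          (H.map (overTerm U (Over.mk f)))
        let a : (Stk.sieveCat R).obj := ⟨Over.mk f, hf⟩
        let e2 : H.obj (Over.mk f) ≅ (K.obj a).obj :=
          ((BasedNatTrans.forgetful _ _).mapIso eH).app a
        have he2 : 𝒳.p.IsHomLift (𝟙 V) e2.hom := eH.hom.isHomLift' a
        refine ⟨(K.obj a).obj, e1 ≪≫ e2, (K.obj a).property, ?_⟩
        have : 𝒳.p.IsHomLift (𝟙 V ≫ 𝟙 V) (e1.hom ≫ e2.hom) := inferInstance
        rw [Category.comp_id] at this
        exact this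
      obtain ⟨x', e0, hx', he0⟩ := h0
      intro b
      obtain ⟨y', e, hy', he⟩ := h1 (H.map (overTerm U b) ≫ e0.hom) hx'
      have hb : 𝒳.p.obj (H.obj b) = b.left := H.w_obj b
      have he' : 𝒳.p.IsHomLift (𝟙 b.left) e.hom := isHomLift_id_of_eq 𝒳.p hb e.hom
      have heinv : 𝒳.p.IsHomLift (𝟙 b.left) e.inv := IsHomLift.lift_id_inv 𝒳.p b.left e
      exact ⟨⟨y', hy'⟩, e.symm, heinv⟩
    obtain ⟨D, ⟨eD⟩⟩ := exists_lift_of_ff (subIncl Q) H key
    refine ⟨D, ⟨?_⟩⟩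
    let θ' : (post (Stk.sieveCat R) (subIncl Q)).obj ((Stk.resSieve R (subCat Q)).obj D) ≅
        (post (Stk.sieveCat R) (subIncl Q)).obj K :=
      (Stk.resSieve R 𝒳).mapIso eD ≪≫ eH
    exact (Functor.FullyFaithful.ofFullyFaithful
      (post (Stk.sieveCat R) (subIncl Q))).preimageIso θ'
  exact { faithful := hfaith, full := hfull, essSurj := hess }

end FullSubStack

end Groth.Agent.Lib.Helper17
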