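-- helper15: open substacks of an algebraic stack correspond to open subsets of its points.
import Mathlib
import Groth.Agent.Lib.Helper15DiagInertia
import Groth.Agent.Lib.Helper15OpenSub
import Groth.Agent.Lib.Helper15EquivRep
import Groth.Agent.Lib.Helper17StkSub
import Groth.Agent.Lib.Helper17FibYoneda

set_option autoImplicit false
set_option backward.isDefEq.respectTransparency false
set_option backward.isDefEq.respectTransparency.types false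
open CategoryTheory CategoryTheory.Functor CategoryTheory.Limits Opposite AlgebraicGeometry

universe u

namespace Groth.Agent.Lib.Helper15OpenSubst

open Groth.Agent.Lib.Helper17 Groth.Agent.Lib.Helper15PshFib Groth.Agent.Lib.Helper15RepComp
  Groth.Agent.Lib.Helper15RepPsh Groth.Agent.Lib.Helper15DiagBase Groth.Agent.Lib.Helper15DiagRepSp
  Groth.Agent.Lib.Helper15Descent Groth.Agent.Lib.Helper15DiagLft
  Groth.Agent.Lib.Helper15DiagDescent Groth.Agent.Lib.Helper15SpMapRep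
  Groth.Agent.Lib.Helper15SrcCancel Groth.Agent.Lib.Helper15ChartSp Groth.Agent.Lib.Helper15Atlas
  Groth.Agent.Lib.Helper15LocEss Groth.Agent.Lib.Helper15UnivComp Groth.Agent.Lib.Helper15SmLoc
  Groth.Agent.Lib.Helper15PtsComp Groth.Agent.Lib.Helper15PtsTop Groth.Agent.Lib.Helper15PtsQc
  Groth.Agent.Lib.Helper15FpSwap Groth.Agent.Lib.Helper15QcLocal Groth.Agent.Lib.Helper15ClosedQc
  Groth.Agent.Lib.Helper15UnivPts Groth.Agent.Lib.Helper15BaseChange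
  Groth.Agent.Lib.Helper15BaseChange2
  Groth.Agent.Lib.Helper15MonoSep Groth.Agent.Lib.Helper15LocQ Groth.Agent.Lib.Helper15LocQEngine
  Groth.Agent.Lib.Helper15LocQProps Groth.Agent.Lib.Helper15LocQSpace
  Groth.Agent.Lib.Helper15LocQSpace2 Groth.Agent.Lib.Helper15LocQRep
  Groth.Agent.Lib.Helper15LocQComp Groth.Agent.Lib.Helper15GoodComp
  Groth.Agent.Lib.Helper15LocQCancel Groth.Agent.Lib.Helper15LocQBC
  Groth.Agent.Lib.Helper15LocQDiag Groth.Agent.Lib.Helper15LocQDescent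
  Groth.Agent.Lib.Helper15RepDescent Groth.Agent.Lib.Helper15QcDescent
  Groth.Agent.Lib.Helper15FppfLiftFam Groth.Agent.Lib.Helper15ValLift
  Groth.Agent.Lib.Helper15ValWit Groth.Agent.Lib.Helper15QcRep Groth.Agent.Lib.Helper15UnivComp
  Groth.Agent.Lib.Helper15QcQs Groth.Agent.Lib.Helper15QcProd Groth.Agent.Lib.Helper15.DiagBC
  Groth.Agent.Lib.Helper15UnivInjDiag Groth.Agent.Lib.Helper15DiagSq
  Groth.Agent.Lib.Helper15PshPb Groth.Agent.Lib.Helper15DiagBridge Groth.Agent.Lib.Helper15DiagApps Groth.Agent.Lib.Helper15DiagCancel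
  Groth.Agent.Lib.Helper15DiagComp Groth.Agent.Lib.Helper15QsComp Groth.Agent.Lib.Helper15MonoFF
  Groth.Agent.Lib.Helper15DiagInertia Groth.Agent.Lib.Helper15OpenSub
  Groth.Agent.Lib.Helper15EquivRep

section QT

variable {S : Scheme.{u}} {𝒳 : AlgSt.Cat S}

/-- The objects all of whose field points lie in `T`. -/
def QT (T : Set (AlgSt.Points 𝒳)) : 𝒳.obj → Prop :=
  fun x => ∀ (p : AlgSt.FPt 𝒳) (_ : p.obj ⟶ x), AlgSt.Points.mk p ∈ T

theorem QT_of_hom {T : Set (AlgSt.Points 𝒳)} {y x : 𝒳.obj} (φ : y ⟶ x) (hx : QT T x) : QT T y :=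
  fun p a => hx p (a ≫ φ)

theorem QT_closedUnderIso (T : Set (AlgSt.Points 𝒳)) :
    ObjectProperty.IsClosedUnderIsomorphisms (QT T) :=
  ⟨fun e hx => QT_of_hom e.inv hx⟩

theorem QT_mono {T T' : Set (AlgSt.Points 𝒳)} (h : T ⊆ T') (x : 𝒳.obj) (hx : QT T x) : QT T' x :=
  fun p a => h (hx p a)

example (T : Set (AlgSt.Points 𝒳)) : AlgSt.fullSub 𝒳 (QT T) = subCat (QT T) := rfl

theorem isFibGrpd_fullSub_QT (h𝒳 : FibCat.IsFibGrpd 𝒳.p) (T : Set (AlgSt.Points 𝒳)) :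
    FibCat.IsFibGrpd (AlgSt.fullSub 𝒳 (QT T)).p :=
  isFibGrpd_subCat (QT T) h𝒳 (fun y x φ hx => ⟨y, Iso.refl y, QT_of_hom φ hx, by
    simp only [Iso.refl_hom]; infer_instance⟩)

end QT

section Engine

variable {S : Scheme.{u}} {𝒵 𝒳 : AlgSt.Cat S}

instance overMap_faithful {U' U : Over S} (ι : U' ⟶ U) : (AlgSt.overMap ι).toFunctor.Faithful := by
  refine ⟨fun {a b} f g h => ?_⟩
  apply Over.OverMorphism.ext
  have h' := congrArg (fun t => CommaMorphism.left t) h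
  exact h'

theorem overMap_full {U' U : Over S} (ι : U' ⟶ U) [Mono ι] : (AlgSt.overMap ι).toFunctor.Full := by
  refine ⟨fun {a b} f => ⟨Over.homMk f.left ?_, ?_⟩⟩
  · rw [← cancel_mono ι]
    have := Over.w f
    rw [Category.assoc]
    exact this
  · apply Over.OverMorphism.ext
    rfl

/-- A chart of a fully faithful functor: the fibre product is the slice over `U'` once every object
of the fibre product factors through the monomorphism `U' ⟶ U`. -/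
theorem isEquivOver_fpLift_of_factor {U' U : Over S} (ι : U' ⟶ U) [Mono ι]
    (j : 𝒵 ⥤ᵇ 𝒳) [j.toFunctor.Full] [j.toFunctor.Faithful]
    (y : FibCat.overCat U ⥤ᵇ 𝒳) (y' : FibCat.overCat U' ⥤ᵇ 𝒵)
    (e : BasedFunctor.comp (AlgSt.overMap ι) y ≅ BasedFunctor.comp y' j)
    (hfac : ∀ w : (FibCat.fp y j).obj, ∃ k : w.obj.fst.left ⟶ U', k ≫ ι = w.obj.fst.hom) :
    FibCat.IsEquivOver (FibCat.fpLift (AlgSt.overMap ι) y' e) := by
  have hfull₁ : (FibCat.fpFst y j).toFunctor.Full := fpFst_full_of_ff y j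
  have hfaith₁ : (FibCat.fpFst y j).toFunctor.Faithful := fpFst_faithful_of_faithful y j
  have hι : (AlgSt.overMap ι).toFunctor.Full := overMap_full ι
  have hcomp : (FibCat.fpLift (AlgSt.overMap ι) y' e).toFunctor ⋙ (FibCat.fpFst y j).toFunctor =
      (AlgSt.overMap ι).toFunctor := rfl
  have hfaith : (FibCat.fpLift (AlgSt.overMap ι) y' e).toFunctor.Faithful := by
    have : ((FibCat.fpLift (AlgSt.overMap ι) y' e).toFunctor ⋙
        (FibCat.fpFst y j).toFunctor).Faithful := by rw [hcomp]; infer_instance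
    exact Functor.Faithful.of_comp _ (FibCat.fpFst y j).toFunctor
  have hfull : (FibCat.fpLift (AlgSt.overMap ι) y' e).toFunctor.Full := by
    have : ((FibCat.fpLift (AlgSt.overMap ι) y' e).toFunctor ⋙
        (FibCat.fpFst y j).toFunctor).Full := by rw [hcomp]; infer_instance
    exact Functor.Full.of_comp_faithful _ (FibCat.fpFst y j).toFunctor
  refine isEquivOver_of_fullyFaithful_of_essSurjOver _ ?_
  intro w
  obtain ⟨k, hk⟩ := hfac w
  let z' : (FibCat.overCat U').obj := Over.mk k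
  let i₁ : (AlgSt.overMap ι).obj z' ≅ w.obj.fst := Over.isoMk (Iso.refl _) (by
    change 𝟙 _ ≫ w.obj.fst.hom = k ≫ ι
    rw [hk, Category.id_comp])
  let i : (FibCat.fpLift (AlgSt.overMap ι) y' e).obj z' ≅ w :=
    (FibCat.fpFst y j).toFunctor.preimageIso i₁
  refine ⟨z', i, ?_⟩
  rw [fp_isHomLift_iff]
  have : i.hom.hom.fst = i₁.hom := (FibCat.fpFst y j).toFunctor.map_preimage
    (X := (FibCat.fpLift (AlgSt.overMap ι) y' e).obj z') (Y := w) i₁.hom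
  rw [this]
  exact IsHomLift.of_fac _ _ _ rfl rfl (by simp [i₁]; rfl)

end Engine

section C3

variable {S : Scheme.{u}} {𝒳 : AlgSt.Cat S}

theorem QT_obj_imp {T : Set (AlgSt.Points 𝒳)} {U : Over S} (y : FibCat.overCat U ⥤ᵇ 𝒳) (z : Over U)
    (hz : QT T (y.obj z)) (w : ↥z.left.left) : AlgSt.Points.ofChart y (z.hom.left w) ∈ T := by
  rw [← ofChart_overMap z.hom y w]
  refine hz _ (y.map ?_)
  exact Over.homMk (Over.homMk (z.left.left.fromSpecResidueField w) rfl) rfl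

theorem QT_obj_of (h𝒳 : FibCat.IsFibGrpd 𝒳.p) {T : Set (AlgSt.Points 𝒳)} {U : Over S}
    (y : FibCat.overCat U ⥤ᵇ 𝒳) (z : Over U)
    (h : ∀ w : ↥z.left.left, AlgSt.Points.ofChart y (z.hom.left w) ∈ T) : QT T (y.obj z) := by
  intro p a
  let f' : Over.mk p.str ⟶ z.left := eqToHom p.lies.symm ≫ 𝒳.p.map a ≫ eqToHom (y.w_obj z)
  let z₁ : Over U := Over.mk (f' ≫ z.hom)
  let m : z₁ ⟶ z := Over.homMk f' rfl
  let p₀ : AlgSt.FPt (FibCat.overCat z.left) :=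
    { K := p.K, str := p.str, obj := Over.mk f', lies := rfl }
  have hrel : AlgSt.Points.mk p =
      AlgSt.Points.mk (p₀.map (BasedFunctor.comp (AlgSt.overMap z.hom) y)) := by
    apply AlgSt.Points.sound
    have h0 : (FibCat.overCat U).p.IsHomLift f' m := IsHomLift.map (FibCat.overCat U).p m
    have h1 : 𝒳.p.IsHomLift f' (y.map m) := inferInstance
    have h2 : 𝒳.p.IsHomLift f' a := IsHomLift.of_fac _ _ _ p.lies (y.w_obj z) rfl
    obtain ⟨e, -, -⟩ := IsFibGrpd.exists_iso_of_lifts h𝒳 f' a (y.map m)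
    exact ⟨p, 𝟙 _, e.hom, trivial⟩
  rw [hrel, ← AlgSt.Points.map_mk]
  obtain ⟨w, hw⟩ := (ptOver_bijective z.left).2 (AlgSt.Points.mk p₀)
  rw [← hw, ← ofChart_eq_map_ptOver, ofChart_overMap]
  exact h w

theorem QT_obj_iff (h𝒳 : FibCat.IsFibGrpd 𝒳.p) {T : Set (AlgSt.Points 𝒳)} {U : Over S}
    (y : FibCat.overCat U ⥤ᵇ 𝒳) (z : Over U) :
    QT T (y.obj z) ↔ ∀ w : ↥z.left.left, AlgSt.Points.ofChart y (z.hom.left w) ∈ T :=
  ⟨QT_obj_imp y z, QT_obj_of h𝒳 y z⟩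

end C3

section C4

variable {S : Scheme.{u}} {𝒳 : AlgSt.Cat S}

/-- Lift of a functor over the base into a full subcategory. -/
def liftSub (Q : 𝒳.obj → Prop) {𝒲 : AlgSt.Cat S} (G : 𝒲 ⥤ᵇ 𝒳) (h : ∀ w, Q (G.obj w)) :
    𝒲 ⥤ᵇ AlgSt.fullSub 𝒳 Q where
  toFunctor := ObjectProperty.lift Q G.toFunctor h
  w := G.w

instance subIncl_full (Q : 𝒳.obj → Prop) : (AlgSt.subIncl 𝒳 Q).toFunctor.Full :=
  inferInstanceAs (ObjectProperty.ι Q).Full

instance subIncl_faithful (Q : 𝒳.obj → Prop) : (AlgSt.subIncl 𝒳 Q).toFunctor.Faithful :=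
  inferInstanceAs (ObjectProperty.ι Q).Faithful

theorem exists_rep_of_factor (P : MorphismProperty (AlgSp.Sp S)) {𝒵 : AlgSt.Cat S}
    {U' U : Over S} (ι : U' ⟶ U) [Mono ι]
    (j : 𝒵 ⥤ᵇ 𝒳) [j.toFunctor.Full] [j.toFunctor.Faithful]
    (y : FibCat.overCat U ⥤ᵇ 𝒳) (y' : FibCat.overCat U' ⥤ᵇ 𝒵)
    (e : BasedFunctor.comp (AlgSt.overMap ι) y ≅ BasedFunctor.comp y' j)
    (hfac : ∀ w : (FibCat.fp y j).obj, ∃ k : w.obj.fst.left ⟶ U', k ≫ ι = w.obj.fst.hom)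
    (hP : P ((AlgSp.yon S).map ι)) :
    ∃ (F : AlgSp.Space S) (e' : AlgSt.ofSp F.obj ⥤ᵇ FibCat.fp y j),
      FibCat.IsEquivOver e' ∧
        P (AlgSt.spMapOfOver (BasedFunctor.comp e' (FibCat.fpFst y j))) := by
  refine ⟨⟨(AlgSp.yon S).obj U', AlgSp.IsAlgSpace.yon_obj U'⟩,
    BasedFunctor.comp (AlgSt.toOverCat U') (FibCat.fpLift (AlgSt.overMap ι) y' e),
    IsEquivOver.comp _ _ (isEquivOver_toOverCat U')
      (isEquivOver_fpLift_of_factor ι j y y' e hfac), ?_⟩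
  have : AlgSt.spMapOfOver (BasedFunctor.comp (BasedFunctor.comp (AlgSt.toOverCat U')
      (FibCat.fpLift (AlgSt.overMap ι) y' e)) (FibCat.fpFst y j)) = (AlgSp.yon S).map ι := by
    change AlgSt.spMapOfOver (BasedFunctor.comp (AlgSt.toOverCat U') (AlgSt.overMap ι)) = _
    rw [spMapOfOver_comp_overMap, spMapOfOver_toOverCat, Category.id_comp]
  rw [this]
  exact hP

theorem repByAlgSpWith_subIncl_of_charts (Q : 𝒳.obj → Prop)
    (hQ : ObjectProperty.IsClosedUnderIsomorphisms Q)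
    (P : MorphismProperty (AlgSp.Sp S))
    (hch : ∀ (U : Over S) (y : FibCat.overCat U ⥤ᵇ 𝒳), ∃ (U' : Over S) (ι : U' ⟶ U),
      Mono ι ∧ P ((AlgSp.yon S).map ι) ∧
       (∀ z' : Over U', Q (y.obj ((Over.map ι).obj z'))) ∧
       (∀ z : Over U, Q (y.obj z) → ∃ k : z.left ⟶ U', k ≫ ι = z.hom)) :
    AlgSt.RepByAlgSpWith P (AlgSt.subIncl 𝒳 Q) := by
  intro U y
  obtain ⟨U', ι, hι, hP, ha, hb⟩ := hch U y
  let y' : FibCat.overCat U' ⥤ᵇ AlgSt.fullSub 𝒳 Q :=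
    liftSub Q (BasedFunctor.comp (AlgSt.overMap ι) y) ha
  refine exists_rep_of_factor P ι (AlgSt.subIncl 𝒳 Q) y y' (Iso.refl _) ?_ hP
  intro w
  refine hb w.obj.fst ?_
  exact hQ.of_iso w.obj.iso.symm w.obj.snd.property

end C4

section Open

variable {S : Scheme.{u}} {𝒳 : AlgSt.Cat S}

theorem exists_factor_of_range {U' U : Over S} (ι : U' ⟶ U) [IsOpenImmersion ι.left]
    (z : Over U) (h : Set.range z.hom.left ⊆ Set.range ι.left) :
    ∃ k : z.left ⟶ U', k ≫ ι = z.hom := by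
  refine ⟨Over.homMk (IsOpenImmersion.lift ι.left z.hom.left h) ?_, ?_⟩
  · rw [← Over.w ι, ← Category.assoc, IsOpenImmersion.lift_fac]
    exact Over.w z.hom
  · apply Over.OverMorphism.ext
    exact IsOpenImmersion.lift_fac _ _ _

theorem mono_of_isOpenImmersion_left {U' U : Over S} (ι : U' ⟶ U) [IsOpenImmersion ι.left] :
    Mono ι := by
  have : Mono ((Over.forget S).map ι) := inferInstanceAs (Mono ι.left)
  exact (Over.forget S).mono_of_mono_map this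

theorem exists_chart_QT (h𝒳 : AlgSt.IsAlgStack Scheme.fppfPrecoverage 𝒳)
    {T : Set (AlgSt.Points 𝒳)} (hT : IsOpen T) (U : Over S) (y : FibCat.overCat U ⥤ᵇ 𝒳) :
    ∃ (U' : Over S) (ι : U' ⟶ U), Mono ι ∧ IsOpenImmersion ι.left ∧
      Set.range ι.left = AlgSt.Points.ofChart y ⁻¹' T ∧
       (∀ z' : Over U', QT T (y.obj ((Over.map ι).obj z'))) ∧
       (∀ z : Over U, QT T (y.obj z) → ∃ k : z.left ⟶ U', k ≫ ι = z.hom) := by
  let V : U.left.Opens := ⟨AlgSt.Points.ofChart y ⁻¹' T, (continuous_ofChart h𝒳 y).isOpen_preimage T hT⟩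
  let U' : Over S := Over.mk (V.ι ≫ U.hom)
  let ι : U' ⟶ U := Over.homMk V.ι rfl
  have hoi : IsOpenImmersion ι.left := inferInstanceAs (IsOpenImmersion V.ι)
  have hr : Set.range ι.left = AlgSt.Points.ofChart y ⁻¹' T := Scheme.Opens.range_ι V
  refine ⟨U', ι, mono_of_isOpenImmersion_left ι, hoi, hr, ?_, ?_⟩
  · intro z'
    apply QT_obj_of h𝒳.isStack.1
    intro w
    have : ((Over.map ι).obj z').hom.left w ∈ Set.range ι.left := ⟨z'.hom.left w, rfl⟩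
    rw [hr] at this
    exact this
  · intro z hz
    apply exists_factor_of_range
    rw [hr]
    rintro _ ⟨w, rfl⟩
    exact QT_obj_imp y z hz w

theorem isOpenImm_subIncl_QT (h𝒳 : AlgSt.IsAlgStack Scheme.fppfPrecoverage 𝒳)
    {T : Set (AlgSt.Points 𝒳)} (hT : IsOpen T) : AlgSt.IsOpenImm (AlgSt.subIncl 𝒳 (QT T)) := by
  apply repByAlgSpWith_subIncl_of_charts (QT T) (QT_closedUnderIso T)
  intro U y
  obtain ⟨U', ι, hm, hoi, -, ha, hb⟩ := exists_chart_QT h𝒳 hT U y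
  exact ⟨U', ι, hm, (AlgSp.repWith_yon_map_iff _ _).2 hoi, ha, hb⟩

theorem isOpenSubstack_QT (h𝒳 : AlgSt.IsAlgStack Scheme.fppfPrecoverage 𝒳)
    {T : Set (AlgSt.Points 𝒳)} (hT : IsOpen T) :
    AlgSt.IsOpenSubstack 𝒳 (QT T) Scheme.fppfPrecoverage := by
  have hj := isOpenImm_subIncl_QT h𝒳 hT
  exact ⟨QT_closedUnderIso T, isAlgStack_of_repByAlgSp1 (isFibGrpd_fullSub_QT h𝒳.isStack.1 T) h𝒳
    (AlgSt.subIncl 𝒳 (QT T)) (repByAlgSp1_of_repByAlgSpWith _ _ hj), hj⟩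

end Open

section Range

variable {S : Scheme.{u}} {𝒳 : AlgSt.Cat S}

theorem mem_range_subIncl_iff (Q : 𝒳.obj → Prop) (t : AlgSt.Points 𝒳) :
    t ∈ Set.range (AlgSt.Points.map (AlgSt.subIncl 𝒳 Q)) ↔
      ∃ p : AlgSt.FPt 𝒳, Q p.obj ∧ AlgSt.Points.mk p = t := by
  constructor
  · rintro ⟨s, rfl⟩
    obtain ⟨q, rfl⟩ := AlgSt.Points.mk_surjective s
    exact ⟨q.map (AlgSt.subIncl 𝒳 Q), q.obj.property, rfl⟩
  · rintro ⟨p, hp, rfl⟩
    let q : AlgSt.FPt (AlgSt.fullSub 𝒳 Q) :=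
      { K := p.K, str := p.str, obj := ⟨p.obj, hp⟩, lies := p.lies }
    exact ⟨AlgSt.Points.mk q, rfl⟩

theorem range_subIncl_QT (T : Set (AlgSt.Points 𝒳)) :
    Set.range (AlgSt.Points.map (AlgSt.subIncl 𝒳 (QT T))) = T := by
  ext t
  rw [mem_range_subIncl_iff]
  constructor
  · rintro ⟨p, hp, rfl⟩
    exact hp p (𝟙 _)
  · intro ht
    obtain ⟨p, rfl⟩ := AlgSt.Points.mk_surjective t
    refine ⟨p, fun p' a => ?_, rfl⟩
    have : AlgSt.Points.mk p' = AlgSt.Points.mk p := AlgSt.Points.sound ⟨p', 𝟙 _, a, trivial⟩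
    rw [this]
    exact ht

/-- A full subcategory closed under isomorphisms and fibred in groupoids is closed under sources of
morphisms. -/
theorem closed_under_src (h𝒳 : FibCat.IsFibGrpd 𝒳.p) (Q : 𝒳.obj → Prop)
    (hQ : ObjectProperty.IsClosedUnderIsomorphisms Q)
    (hfib : FibCat.IsFibGrpd (AlgSt.fullSub 𝒳 Q).p) {y x : 𝒳.obj} (φ : y ⟶ x) (hx : Q x) : Q y := by
  obtain ⟨y', ψ, hψ⟩ := hfib.exists_lift (x := (⟨x, hx⟩ : (AlgSt.fullSub 𝒳 Q).obj)) (𝒳.p.map φ)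
  have h1 : 𝒳.p.IsHomLift (𝒳.p.map φ) ψ.hom :=
    (isHomLift_comp_iff (ObjectProperty.ι Q) 𝒳.p (𝒳.p.map φ) ψ).1 hψ
  obtain ⟨e, -, -⟩ := IsFibGrpd.exists_iso_of_lifts h𝒳 (𝒳.p.map φ) φ ψ.hom
  exact hQ.of_iso e.symm y'.property

theorem le_QT_range (h𝒳 : FibCat.IsFibGrpd 𝒳.p) (Q : 𝒳.obj → Prop)
    (hQ : ObjectProperty.IsClosedUnderIsomorphisms Q)
    (hfib : FibCat.IsFibGrpd (AlgSt.fullSub 𝒳 Q).p) (x : 𝒳.obj) (hx : Q x) :
    QT (Set.range (AlgSt.Points.map (AlgSt.subIncl 𝒳 Q))) x := by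
  intro p a
  rw [mem_range_subIncl_iff]
  exact ⟨p, closed_under_src h𝒳 Q hQ hfib a hx, rfl⟩

end Range

section SurjOI

variable {S : Scheme.{u}} {𝒵 𝒳 : AlgSt.Cat S}

/-- A surjective open immersion to a scheme is an isomorphism. -/
theorem isIso_of_repWith_openImm_of_surj {F : AlgSp.Sp S} {U : Over S}
    (a : F ⟶ (AlgSp.yon S).obj U) (h : AlgSp.RepWith @IsOpenImmersion a)
    (hs : AlgSp.IsSurjectiveMor a) : IsIso a := by
  obtain ⟨hrep, hP⟩ := (AlgSp.repWith_iff _ a).1 h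
  obtain ⟨V, snd, fst, sq⟩ := hrep (𝟙 ((AlgSp.yon S).obj U))
  have hoi : IsOpenImmersion snd.left := hP _ fst snd sq
  have hfst : IsIso fst := sq.isIso_fst_of_isIso
  have hw : (AlgSp.yon S).map snd = fst ≫ a := by
    have := sq.w
    rw [Category.comp_id] at this
    exact this.symm
  have hsurj : AlgSp.IsSurjectiveMor ((AlgSp.yon S).map snd) := by
    rw [hw]
    intro x
    obtain ⟨x', rfl⟩ := hs x
    refine ⟨AlgSp.Points.map (inv fst) x', ?_⟩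
    rw [← AlgSp.Points.map_comp, IsIso.inv_hom_id_assoc]
  have hs' := surjective_of_isSurjectiveMor_yon_map snd hsurj
  have hiso : IsIso snd.left := (isIso_iff_isOpenImmersion_and_surjective _).2 ⟨hoi, ⟨hs'⟩⟩
  have hiso' : IsIso snd := by
    have : IsIso ((Over.forget S).map snd) := hiso
    exact isIso_of_reflects_iso snd (Over.forget S)
  have : a = inv fst ≫ (AlgSp.yon S).map snd := by
    rw [hw, IsIso.inv_hom_id_assoc]
  rw [this]
  infer_instance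

theorem exists_fp_obj_over_id (j : 𝒵 ⥤ᵇ 𝒳) {U : Over S} (y : FibCat.overCat U ⥤ᵇ 𝒳)
    (F : AlgSp.Space S) (e : AlgSt.ofSp F.obj ⥤ᵇ FibCat.fp y j) (he : FibCat.IsEquivOver e)
    (hoi : AlgSp.RepWith @IsOpenImmersion
      (AlgSt.spMapOfOver (BasedFunctor.comp e (FibCat.fpFst y j))))
    (hsurj : Function.Surjective (AlgSt.Points.map (FibCat.fpFst y j))) :
    ∃ w : (FibCat.fp y j).obj, Nonempty (w.obj.fst ≅ Over.mk (𝟙 U)) := by
  let Φ := BasedFunctor.comp e (FibCat.fpFst y j)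
  have hs : AlgSp.IsSurjectiveMor (AlgSt.spMapOfOver Φ) := by
    rw [isSurjectiveMor_spMapOfOver_iff]
    intro z
    obtain ⟨w, rfl⟩ := hsurj z
    obtain ⟨v, rfl⟩ := points_map_surjective_of_isEquivOver e he w
    exact ⟨v, points_map_comp _ _ _⟩
  have hiso := isIso_of_repWith_openImm_of_surj _ hoi hs
  let s : F.obj.obj.obj (op U) := (inv (AlgSt.spMapOfOver Φ)).hom.app (op U) ⟨𝟙 U⟩
  have hs' : (AlgSt.spMapOfOver Φ).hom.app (op U) s = ⟨𝟙 U⟩ := by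
    have := congrArg (fun t => t.hom.app (op U) ⟨𝟙 U⟩) (IsIso.inv_hom_id (AlgSt.spMapOfOver Φ))
    exact this
  let ξ : (AlgSt.ofSp F.obj).obj := ⟨U, s⟩
  have h1 : AlgSt.secHom Φ ξ = 𝟙 U := by
    have := AlgSt.spMapOfOver_app Φ U s
    rw [hs'] at this
    exact (congrArg ULift.down this).symm
  refine ⟨e.obj ξ, ⟨Over.isoMk (eqToIso (Φ.w_obj ξ)) ?_⟩⟩
  have key : ∀ (Z : Over U) (hZ : Z.left = U) (_ : eqToHom hZ.symm ≫ Z.hom = 𝟙 U),
      eqToHom hZ ≫ 𝟙 U = Z.hom := by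
    intro Z hZ h
    rw [Category.comp_id, ← cancel_epi (eqToHom hZ.symm), h, eqToHom_trans, eqToHom_refl]
  exact key (Φ.obj ξ) (Φ.w_obj ξ) h1

theorem surjective_points_fpFst_subIncl (h𝒳 : FibCat.IsFibGrpd 𝒳.p) (Q : 𝒳.obj → Prop)
    (hQ : ObjectProperty.IsClosedUnderIsomorphisms Q)
    (hfib : FibCat.IsFibGrpd (AlgSt.fullSub 𝒳 Q).p) {U : Over S}
    (y : FibCat.overCat U ⥤ᵇ 𝒳)
    (hy : ∀ u : ↥U.left, AlgSt.Points.ofChart y u ∈
      Set.range (AlgSt.Points.map (AlgSt.subIncl 𝒳 Q))) :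
    Function.Surjective (AlgSt.Points.map (FibCat.fpFst y (AlgSt.subIncl 𝒳 Q))) := by
  intro t
  obtain ⟨u, rfl⟩ := (ptOver_bijective U).2 t
  obtain ⟨p, hp, hpe⟩ := (mem_range_subIncl_iff Q _).1 (hy u)
  obtain ⟨r, α, β, -⟩ := fpt_rel_of_mk_eq h𝒳 hpe
  have hr : Q r.obj := closed_under_src h𝒳 Q hQ hfib α hp
  let z_u : Over U := Over.mk (Over.homMk (U.left.fromSpecResidueField u) rfl :
    Over.mk (U.left.fromSpecResidueField u ≫ U.hom) ⟶ U)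
  let f' : Over.mk r.str ⟶ z_u.left := eqToHom r.lies.symm ≫ 𝒳.p.map β ≫ eqToHom (y.w_obj z_u)
  let z_r : Over U := Over.mk (f' ≫ z_u.hom)
  let m : z_r ⟶ z_u := Over.homMk f' rfl
  have h0 : (FibCat.overCat U).p.IsHomLift f' m := IsHomLift.map (FibCat.overCat U).p m
  have h1 : 𝒳.p.IsHomLift f' (y.map m) := inferInstance
  have h2 : 𝒳.p.IsHomLift f' β := IsHomLift.of_fac _ _ _ r.lies (y.w_obj z_u) rfl
  obtain ⟨e, -, -⟩ := IsFibGrpd.exists_iso_of_lifts h𝒳 f' β (y.map m)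
  have hzr : Q (y.obj z_r) := hQ.of_iso e hr
  let w : (FibCat.fp y (AlgSt.subIncl 𝒳 Q)).obj :=
    ⟨⟨z_r, ⟨y.obj z_r, hzr⟩, Iso.refl _⟩, IsHomLift.id (y.w_obj z_r)⟩
  let q : AlgSt.FPt (FibCat.fp y (AlgSt.subIncl 𝒳 Q)) :=
    { K := r.K, str := r.str, obj := w, lies := rfl }
  refine ⟨AlgSt.Points.mk q, ?_⟩
  apply AlgSt.Points.sound
  exact ⟨q.map _, 𝟙 _, m, trivial⟩

/-- An object all of whose points lie in an open substack lies in the substack. -/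
theorem QT_range_le (h𝒳 : FibCat.IsFibGrpd 𝒳.p) (Q : 𝒳.obj → Prop)
    (hQ : ObjectProperty.IsClosedUnderIsomorphisms Q)
    (hfib : FibCat.IsFibGrpd (AlgSt.fullSub 𝒳 Q).p)
    (hoi : AlgSt.IsOpenImm (AlgSt.subIncl 𝒳 Q)) (x : 𝒳.obj)
    (hx : QT (Set.range (AlgSt.Points.map (AlgSt.subIncl 𝒳 Q))) x) : Q x := by
  let U : Over S := 𝒳.p.obj x
  have hxU : 𝒳.p.obj x = U := rfl
  have := IsFibGrpd.isFibered h𝒳
  let y : FibCat.overCat U ⥤ᵇ 𝒳 := yonedaFunctor hxU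
  obtain ⟨e₀, -⟩ := yonedaFunctor_iso hxU
  have hy : ∀ u : ↥U.left, AlgSt.Points.ofChart y u ∈
      Set.range (AlgSt.Points.map (AlgSt.subIncl 𝒳 Q)) := fun u =>
    QT_obj_imp y (Over.mk (𝟙 U)) (QT_of_hom e₀.hom hx) u
  obtain ⟨F, e, he, hP⟩ := hoi U y
  obtain ⟨w, ⟨i⟩⟩ := exists_fp_obj_over_id (AlgSt.subIncl 𝒳 Q) y F e he hP
    (surjective_points_fpFst_subIncl h𝒳 Q hQ hfib y hy)
  have h1 : Q w.obj.snd.obj := w.obj.snd.property
  have i₁ : y.obj w.obj.fst ≅ w.obj.snd.obj := w.obj.iso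
  have i₂ : y.obj w.obj.fst ≅ y.obj (Over.mk (𝟙 U)) := y.toFunctor.mapIso i
  exact hQ.of_iso (i₁.symm ≪≫ i₂ ≪≫ e₀) h1

theorem eq_QT_range (h𝒳 : FibCat.IsFibGrpd 𝒳.p) (Q : 𝒳.obj → Prop)
    (hQ : AlgSt.IsOpenSubstack 𝒳 Q Scheme.fppfPrecoverage) :
    Q = QT (Set.range (AlgSt.Points.map (AlgSt.subIncl 𝒳 Q))) := by
  funext x
  apply propext
  exact ⟨le_QT_range h𝒳 Q hQ.1 hQ.2.1.isStack.1 x,
    QT_range_le h𝒳 Q hQ.1 hQ.2.1.isStack.1 hQ.2.2 x⟩

end SurjOI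

section Main

universe w

variable {S : Scheme.{u}} {𝒳 : AlgSt.Cat S}

theorem range_subIncl_mono {Q Q' : 𝒳.obj → Prop} (h : ∀ y, Q y → Q' y) :
    Set.range (AlgSt.Points.map (AlgSt.subIncl 𝒳 Q)) ⊆
      Set.range (AlgSt.Points.map (AlgSt.subIncl 𝒳 Q')) := by
  intro t ht
  rw [mem_range_subIncl_iff] at ht ⊢
  obtain ⟨p, hp, rfl⟩ := ht
  exact ⟨p, h _ hp, rfl⟩

theorem openSubstack_bijOn (h𝒳 : AlgSt.IsAlgStack Scheme.fppfPrecoverage 𝒳) :
    Set.BijOn (fun Q : 𝒳.obj → Prop => Set.range (AlgSt.Points.map (AlgSt.subIncl 𝒳 Q)))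
        {Q | AlgSt.IsOpenSubstack 𝒳 Q Scheme.fppfPrecoverage} {T | IsOpen T} ∧
      ∀ (Q Q' : 𝒳.obj → Prop), AlgSt.IsOpenSubstack 𝒳 Q Scheme.fppfPrecoverage →
        AlgSt.IsOpenSubstack 𝒳 Q' Scheme.fppfPrecoverage →
        ((∀ y, Q y → Q' y) ↔ Set.range (AlgSt.Points.map (AlgSt.subIncl 𝒳 Q)) ⊆
          Set.range (AlgSt.Points.map (AlgSt.subIncl 𝒳 Q'))) := by
  refine ⟨⟨?_, ?_, ?_⟩, ?_⟩
  · intro Q hQ
    exact isOpen_range_of_isOpenImm hQ.2.1 h𝒳 _ hQ.2.2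
  · intro Q hQ Q' hQ' h
    have h' : Set.range (AlgSt.Points.map (AlgSt.subIncl 𝒳 Q)) =
      Set.range (AlgSt.Points.map (AlgSt.subIncl 𝒳 Q')) := h
    rw [eq_QT_range h𝒳.isStack.1 Q hQ, eq_QT_range h𝒳.isStack.1 Q' hQ', h']
  · intro T hT
    exact ⟨QT T, isOpenSubstack_QT h𝒳 hT, range_subIncl_QT T⟩
  · intro Q Q' hQ hQ'
    refine ⟨range_subIncl_mono, fun h => ?_⟩
    rw [eq_QT_range h𝒳.isStack.1 Q hQ, eq_QT_range h𝒳.isStack.1 Q' hQ']
    exact QT_mono h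

theorem exists_openSubstack_union (h𝒳 : AlgSt.IsAlgStack Scheme.fppfPrecoverage 𝒳)
    {ι : Type w} (Q : ι → 𝒳.obj → Prop)
    (hQ : ∀ i, AlgSt.IsOpenSubstack 𝒳 (Q i) Scheme.fppfPrecoverage) :
    ∃ Q' : 𝒳.obj → Prop, AlgSt.IsOpenSubstack 𝒳 Q' Scheme.fppfPrecoverage ∧
      (∀ i y, Q i y → Q' y) ∧
      Set.range (AlgSt.Points.map (AlgSt.subIncl 𝒳 Q')) =
        ⋃ i, Set.range (AlgSt.Points.map (AlgSt.subIncl 𝒳 (Q i))) := by
  have hopen : IsOpen (⋃ i, Set.range (AlgSt.Points.map (AlgSt.subIncl 𝒳 (Q i)))) :=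
    isOpen_iUnion fun i => isOpen_range_of_isOpenImm (hQ i).2.1 h𝒳 _ (hQ i).2.2
  refine ⟨QT (⋃ i, Set.range (AlgSt.Points.map (AlgSt.subIncl 𝒳 (Q i)))),
    isOpenSubstack_QT h𝒳 hopen, ?_, range_subIncl_QT _⟩
  intro i y hy
  have := le_QT_range h𝒳.isStack.1 (Q i) (hQ i).1 (hQ i).2.1.isStack.1 y hy
  exact QT_mono (Set.subset_iUnion _ i) y this

end Main

end Groth.Agent.Lib.Helper15OpenSubst
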