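-- helper15: the open substack image of a smooth chart; cancellation of fully faithful functors.
import Mathlib
import Groth.Agent.Lib.Helper15OpenSubst

set_option autoImplicit false
set_option backward.isDefEq.respectTransparency false
set_option backward.isDefEq.respectTransparency.types false
open CategoryTheory CategoryTheory.Functor CategoryTheory.Limits Opposite AlgebraicGeometry

universe u

namespace Groth.Agent.Lib.Helper15OpenImage

open Groth.Agent.Lib.Helper17 Groth.Agent.Lib.Helper15PshFib Groth.Agent.Lib.Helper15RepComp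
  Groth.Agent.Lib.Helper15RepPsh Groth.Agent.Lib.Helper15DiagBase Groth.Agent.Lib.Helper15DiagRepSp
  Groth.Agent.Lib.Helper15Descent Groth.Agent.Lib.Helper15DiagLft
  Groth.Agent.Lib.Helper15DiagDescent Groth.Agent.Lib.Helper15SpMapRep
  Groth.Agent.Lib.Helper15SrcCancel Groth.Agent.Lib.Helper15ChartSp Groth.Agent.Lib.Helper15Atlas
  Groth.Agent.Lib.Helper15LocEss Groth.Agent.Lib.Helper15UnivComp Groth.Agent.Lib.Helper15SmLoc
  Groth.Agent.Lib.Helper15PtsComp Groth.Agent.Lib.Helper15PtsTop Groth.Agent.Lib.Helper15PtsQc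
  Groth.Agent.Lib.Helper15FpSwap Groth.Agent.Lib.Helper15QcLocal Groth.Agent.Lib.Helper15ClosedQc
  Groth.Agent.Lib.Helper15UnivPts Groth.Agent.Lib.Helper15BaseChange
  Groth.Agent.Lib.Helper15BaseChange2
  Groth.Agent.Lib.Helper15MonoSep Groth.Agent.Lib.Helper15LocQ Groth.Agent.Lib.Helper15LocQEngine
  Groth.Agent.Lib.Helper15LocQProps Groth.Agent.Lib.Helper15LocQSpace
  Groth.Agent.Lib.Helper15LocQSpace2 Groth.Agent.Lib.Helper15LocQRep
  Groth.Agent.Lib.Helper15LocQComp Groth.Agent.Lib.Helper15GoodComp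
  Groth.Agent.Lib.Helper15LocQCancel Groth.Agent.Lib.Helper15LocQBC
  Groth.Agent.Lib.Helper15LocQDiag Groth.Agent.Lib.Helper15LocQDescent
  Groth.Agent.Lib.Helper15RepDescent Groth.Agent.Lib.Helper15QcDescent
  Groth.Agent.Lib.Helper15FppfLiftFam Groth.Agent.Lib.Helper15ValLift
  Groth.Agent.Lib.Helper15ValWit Groth.Agent.Lib.Helper15QcRep Groth.Agent.Lib.Helper15UnivComp
  Groth.Agent.Lib.Helper15QcQs Groth.Agent.Lib.Helper15QcProd Groth.Agent.Lib.Helper15.DiagBC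
  Groth.Agent.Lib.Helper15UnivInjDiag Groth.Agent.Lib.Helper15DiagSq
  Groth.Agent.Lib.Helper15PshPb Groth.Agent.Lib.Helper15DiagBridge Groth.Agent.Lib.Helper15DiagApps Groth.Agent.Lib.Helper15DiagCancel
  Groth.Agent.Lib.Helper15DiagComp Groth.Agent.Lib.Helper15QsComp Groth.Agent.Lib.Helper15MonoFF
  Groth.Agent.Lib.Helper15DiagInertia Groth.Agent.Lib.Helper15OpenSub
  Groth.Agent.Lib.Helper15EquivRep Groth.Agent.Lib.Helper15OpenSubst

section Image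

variable {S : Scheme.{u}} {𝒲 𝒴 𝒳 : AlgSt.Cat S}

/-- Cancellation of a fully faithful functor. -/
theorem repByAlgSpWith_of_comp_ff (P : MorphismProperty (AlgSp.Sp S)) (g : 𝒲 ⥤ᵇ 𝒴) (i : 𝒴 ⥤ᵇ 𝒳)
    [i.toFunctor.Full] [i.toFunctor.Faithful]
    (h : AlgSt.RepByAlgSpWith P (BasedFunctor.comp g i)) : AlgSt.RepByAlgSpWith P g := by
  intro W y
  let M : FibCat.fp y g ⥤ᵇ FibCat.fp (BasedFunctor.comp y i) (BasedFunctor.comp g i) :=
    fpMap (BasedFunctor.comp y i) (BasedFunctor.comp g i) y g (BasedFunctor.id _)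
      (BasedFunctor.id _) i (Iso.refl _) (Iso.refl _)
  have hM : FibCat.IsEquivOver M :=
    isEquivOver_fpMap (BasedFunctor.comp y i) (BasedFunctor.comp g i) y g (BasedFunctor.id _)
      (BasedFunctor.id _) i (Iso.refl _) (Iso.refl _) (isEquivOver_id _) (isEquivOver_id _)
  exact repWith_transfer' (FibCat.fpFst y g)
    (FibCat.fpFst (BasedFunctor.comp y i) (BasedFunctor.comp g i)) M hM (Iso.refl _) P
    (h W (BasedFunctor.comp y i))

/-- The objects in the image of a functor have all their points in the image. -/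
theorem QT_range_obj (h𝒲 : FibCat.IsFibGrpd 𝒲.p) (h𝒳 : FibCat.IsFibGrpd 𝒳.p) (f : 𝒲 ⥤ᵇ 𝒳)
    (w : 𝒲.obj) : QT (Set.range (AlgSt.Points.map f)) (f.obj w) := by
  intro p a
  let f' : Over.mk p.str ⟶ 𝒲.p.obj w := eqToHom p.lies.symm ≫ 𝒳.p.map a ≫ eqToHom (f.w_obj w)
  obtain ⟨w', ψ, hψ⟩ := h𝒲.exists_lift (x := w) f'
  have h1 : 𝒳.p.IsHomLift f' (f.map ψ) := inferInstance
  have h2 : 𝒳.p.IsHomLift f' a := IsHomLift.of_fac _ _ _ p.lies (f.w_obj w) rfl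
  obtain ⟨e, -, -⟩ := IsFibGrpd.exists_iso_of_lifts h𝒳 f' a (f.map ψ)
  let q : AlgSt.FPt 𝒲 :=
    { K := p.K, str := p.str, obj := w', lies := IsHomLift.domain_eq 𝒲.p f' ψ }
  refine ⟨AlgSt.Points.mk q, ?_⟩
  apply AlgSt.Points.sound
  exact ⟨p, e.hom, 𝟙 _, trivial⟩

theorem injective_points_subIncl_QT (h𝒳 : FibCat.IsFibGrpd 𝒳.p) (T : Set (AlgSt.Points 𝒳)) :
    Function.Injective (AlgSt.Points.map (AlgSt.subIncl 𝒳 (QT T))) := by
  intro s s' h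
  obtain ⟨q, rfl⟩ := AlgSt.Points.mk_surjective s
  obtain ⟨q', rfl⟩ := AlgSt.Points.mk_surjective s'
  obtain ⟨r, α, β, -⟩ := fpt_rel_of_mk_eq h𝒳 h
  have hr : QT T r.obj := QT_of_hom α q.obj.property
  let r' : AlgSt.FPt (AlgSt.fullSub 𝒳 (QT T)) :=
    { K := r.K, str := r.str, obj := ⟨r.obj, hr⟩, lies := r.lies }
  apply AlgSt.Points.sound
  exact ⟨r', ObjectProperty.homMk α, ObjectProperty.homMk β, trivial⟩

theorem exists_open_image (h𝒳 : AlgSt.IsAlgStack Scheme.fppfPrecoverage 𝒳) (V : AlgSp.Space S)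
    (v : AlgSt.ofSp V.obj ⥤ᵇ 𝒳) (hv : AlgSt.RepByAlgSpWith (AlgSp.LocP @Smooth) v) :
    ∃ (𝒴 : AlgSt.Cat S) (i : 𝒴 ⥤ᵇ 𝒳) (g : AlgSt.ofSp V.obj ⥤ᵇ 𝒴),
      AlgSt.IsAlgStack Scheme.fppfPrecoverage 𝒴 ∧ AlgSt.IsOpenImm i ∧
        AlgSt.RepByAlgSpWith (AlgSp.LocP @Smooth) g ∧
          AlgSt.RepByAlgSpWith AlgSp.IsSurjectiveMor g ∧
          Nonempty (BasedFunctor.comp g i ≅ v) := by
  have hVst := isAlgStack_ofSp V
  let T : Set (AlgSt.Points 𝒳) := Set.range (AlgSt.Points.map v)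
  have hT : IsOpen T :=
    (isOpenMap_points_map_of_flat_lfp_space h𝒳 V v (flat_of_smooth hv) (lfp_of_smooth hv)).isOpen_range
  have hsub := isOpenSubstack_QT h𝒳 hT
  let g : AlgSt.ofSp V.obj ⥤ᵇ AlgSt.fullSub 𝒳 (QT T) :=
    liftSub (QT T) v (fun w => QT_range_obj hVst.isStack.1 h𝒳.isStack.1 v w)
  have hg₁ : AlgSt.RepByAlgSpWith (AlgSp.LocP @Smooth) g :=
    repByAlgSpWith_of_comp_ff _ g (AlgSt.subIncl 𝒳 (QT T)) hv
  refine ⟨AlgSt.fullSub 𝒳 (QT T), AlgSt.subIncl 𝒳 (QT T), g, hsub.2.1, hsub.2.2, hg₁, ?_,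
    ⟨Iso.refl _⟩⟩
  rw [← isSurjective_iff_repByAlgSpWith hVst hsub.2.1 g (repByAlgSp1_of_repByAlgSpWith _ _ hg₁)]
  intro t
  have h1 : AlgSt.Points.map (AlgSt.subIncl 𝒳 (QT T)) t ∈ T :=
    (range_subIncl_QT T).subset ⟨t, rfl⟩
  obtain ⟨s, hs⟩ := h1
  refine ⟨s, injective_points_subIncl_QT h𝒳.isStack.1 T ?_⟩
  rw [← points_map_comp]
  exact hs

theorem exists_open_image_of_chart (h𝒳 : AlgSt.IsAlgStack Scheme.fppfPrecoverage 𝒳)
    (U : AlgSp.Space S) (u : AlgSt.ofSp U.obj ⥤ᵇ 𝒳)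
    (hu₁ : AlgSt.RepByAlgSpWith (AlgSp.LocP @Smooth) u)
    (V : AlgSp.Space S) (j : V ⟶ U) (hj : AlgSp.RepWith @IsOpenImmersion j.hom) :
    ∃ (𝒴 : AlgSt.Cat S) (i : 𝒴 ⥤ᵇ 𝒳) (g : AlgSt.ofSp V.obj ⥤ᵇ 𝒴),
      AlgSt.IsAlgStack Scheme.fppfPrecoverage 𝒴 ∧ AlgSt.IsOpenImm i ∧
        AlgSt.RepByAlgSpWith (AlgSp.LocP @Smooth) g ∧
          AlgSt.RepByAlgSpWith AlgSp.IsSurjectiveMor g ∧
          Nonempty (BasedFunctor.comp g i ≅ BasedFunctor.comp (AlgSt.ofSpMap j.hom) u) := by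
  have hj' : AlgSt.RepByAlgSpWith (AlgSp.LocP @Smooth) (AlgSt.ofSpMap j.hom) :=
    repByAlgSpWith_ofSpMap _ bcStable_smooth V U j
      (locP_smooth_of_repWith_etale j.hom
        (repWith_mono (fun _ _ g hg => by have : IsOpenImmersion g := hg; infer_instance) hj))
  have hv := repByAlgSpWith_comp_of_compCond (isAlgStack_ofSp V).isStack.1
    (isAlgStack_ofSp U).isStack.1 _ compCond_smooth (AlgSt.ofSpMap j.hom) u hj' hu₁
  exact exists_open_image h𝒳 V _ hv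

end Image

end Groth.Agent.Lib.Helper15OpenImage
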