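-- helper15: isomorphism classes and open immersions; open subfunctors of the presheaf of isomorphism classes give open substacks.
import Mathlib
import Groth.Agent.Lib.Helper15OpenImage
import Groth.Agent.Lib.Helper15FpqcImm
import Groth.Agent.Lib.Helper17MonoFF
import Groth.Prelude.Def_W4c2isonaturalstkIso

set_option autoImplicit false
set_option backward.isDefEq.respectTransparency false
set_option backward.isDefEq.respectTransparency.types false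
open CategoryTheory CategoryTheory.Functor CategoryTheory.Limits Opposite AlgebraicGeometry

universe u

namespace Groth.Agent.Lib.Helper15IsoNatOpen

open Groth.Agent.Lib.Helper17 Groth.Agent.Lib.Helper15PshFib Groth.Agent.Lib.Helper15RepComp
  Groth.Agent.Lib.Helper15RepPsh Groth.Agent.Lib.Helper15DiagBase Groth.Agent.Lib.Helper15DiagRepSp
  Groth.Agent.Lib.Helper15Descent Groth.Agent.Lib.Helper15DiagLft
  Groth.Agent.Lib.Helper15DiagDescent Groth.Agent.Lib.Helper15SpMapRep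
  Groth.Agent.Lib.Helper15SrcCancel Groth.Agent.Lib.Helper15ChartSp Groth.Agent.Lib.Helper15Atlas
  Groth.Agent.Lib.Helper15LocEss Groth.Agent.Lib.Helper15UnivComp Groth.Agent.Lib.Helper15SmLoc
  Groth.Agent.Lib.Helper15PtsComp Groth.Agent.Lib.Helper15PtsTop Groth.Agent.Lib.Helper15PtsQc
  Groth.Agent.Lib.Helper15FpSwap Groth.Agent.Lib.Helper15QcLocal Groth.Agent.Lib.Helper15ClosedQc
  Groth.Agent.Lib.Helper15UnivPts Groth.Agent.Lib.Helper15BaseChange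
  Groth.Agent.Lib.Helper15BaseChange2
  Groth.Agent.Lib.Helper15MonoSep Groth.Agent.Lib.Helper15LocQ Groth.Agent.Lib.Helper15LocQEngine
  Groth.Agent.Lib.Helper15LocQProps Groth.Agent.Lib.Helper15LocQSpace
  Groth.Agent.Lib.Helper15LocQSpace2 Groth.Agent.Lib.Helper15LocQRep
  Groth.Agent.Lib.Helper15LocQComp Groth.Agent.Lib.Helper15GoodComp
  Groth.Agent.Lib.Helper15LocQCancel Groth.Agent.Lib.Helper15LocQBC
  Groth.Agent.Lib.Helper15LocQDiag Groth.Agent.Lib.Helper15LocQDescent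
  Groth.Agent.Lib.Helper15RepDescent Groth.Agent.Lib.Helper15QcDescent
  Groth.Agent.Lib.Helper15FppfLiftFam Groth.Agent.Lib.Helper15ValLift
  Groth.Agent.Lib.Helper15ValWit Groth.Agent.Lib.Helper15QcRep Groth.Agent.Lib.Helper15UnivComp
  Groth.Agent.Lib.Helper15QcQs Groth.Agent.Lib.Helper15QcProd Groth.Agent.Lib.Helper15.DiagBC
  Groth.Agent.Lib.Helper15UnivInjDiag Groth.Agent.Lib.Helper15DiagSq
  Groth.Agent.Lib.Helper15PshPb Groth.Agent.Lib.Helper15DiagBridge Groth.Agent.Lib.Helper15DiagApps Groth.Agent.Lib.Helper15DiagCancel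
  Groth.Agent.Lib.Helper15DiagComp Groth.Agent.Lib.Helper15QsComp Groth.Agent.Lib.Helper15MonoFF
  Groth.Agent.Lib.Helper15DiagInertia Groth.Agent.Lib.Helper15OpenSub
  Groth.Agent.Lib.Helper15EquivRep Groth.Agent.Lib.Helper15OpenSubst
  Groth.Agent.Lib.Helper15OpenImage Groth.Agent.Lib.Helper15FpqcImm Groth.Agent.Lib.Helper17.MonoFF

section FibIso

variable {S : Scheme.{u}} {𝒳 𝒴 𝒴' : AlgSt.Cat S}

/-- An isomorphism of the fibre category from an isomorphism of the total category lying over the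
identity. -/
def fiberIsoMk {T : Over S} {a b : 𝒳.p.Fiber T} (e : a.1 ≅ b.1)
    (he : 𝒳.p.IsHomLift (𝟙 T) e.hom) : a ≅ b where
  hom := ⟨e.hom, he⟩
  inv := ⟨e.inv, IsHomLift.lift_id_inv 𝒳.p T e⟩
  hom_inv_id := Subtype.ext e.hom_inv_id
  inv_hom_id := Subtype.ext e.inv_hom_id

theorem cls_eq_of_iso {T : Over S} {a b : 𝒳.p.Fiber T} (e : a.1 ≅ b.1)
    (he : 𝒳.p.IsHomLift (𝟙 T) e.hom) : IsoNat.cls a = IsoNat.cls b :=
  Quotient.sound ⟨fiberIsoMk e he⟩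

theorem exists_iso_of_cls_eq {T : Over S} {a b : 𝒳.p.Fiber T} (h : IsoNat.cls a = IsoNat.cls b) :
    ∃ e : a.1 ≅ b.1, 𝒳.p.IsHomLift (𝟙 T) e.hom := by
  obtain ⟨e⟩ := Quotient.exact h
  exact ⟨Functor.Fiber.fiberInclusion.mapIso e, e.hom.2⟩

theorem cls_fp_eq_of_ff (f : 𝒳 ⥤ᵇ 𝒴) (i : 𝒴' ⥤ᵇ 𝒴) [i.toFunctor.Full] [i.toFunctor.Faithful]
    (T : Over S) (z₁ z₂ : (FibCat.fp f i).p.Fiber T)
    (h₁ : IsoNat.mapCls (FibCat.fpFst f i) T (IsoNat.cls z₁) =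
      IsoNat.mapCls (FibCat.fpFst f i) T (IsoNat.cls z₂)) :
    IsoNat.cls z₁ = IsoNat.cls z₂ := by
  have h₁' : IsoNat.cls ((IsoNat.fibFun (FibCat.fpFst f i) T).obj z₁) =
      IsoNat.cls ((IsoNat.fibFun (FibCat.fpFst f i) T).obj z₂) := h₁
  obtain ⟨α, hα⟩ := exists_iso_of_cls_eq h₁'
  have := fpFst_full_of_ff f i
  have := fpFst_faithful_of_faithful f i
  let e : z₁.1 ≅ z₂.1 := (FibCat.fpFst f i).toFunctor.preimageIso α
  apply cls_eq_of_iso e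
  rw [fp_isHomLift_iff]
  have h2 : e.hom.hom.fst = α.hom :=
    (FibCat.fpFst f i).toFunctor.map_preimage (X := z₁.1) (Y := z₂.1) α.hom
  rw [h2]
  exact hα

theorem full_faithful_of_isOpenImm (h𝒴' : FibCat.IsFibGrpd 𝒴'.p) (h𝒴 : FibCat.IsFibGrpd 𝒴.p)
    (i : 𝒴' ⥤ᵇ 𝒴) (hi : AlgSt.IsOpenImm i) : i.toFunctor.Full ∧ i.toFunctor.Faithful :=
  full_faithful_of_isMono h𝒴' h𝒴 i
    (repByAlgSpWith_mono (fun _ _ a ha => mono_of_repWith_isOpenImmersion a ha) hi)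

theorem cls_fp_eq_of_isOpenImm (h𝒴' : FibCat.IsFibGrpd 𝒴'.p) (h𝒴 : FibCat.IsFibGrpd 𝒴.p)
    (f : 𝒳 ⥤ᵇ 𝒴) (i : 𝒴' ⥤ᵇ 𝒴) (hi : AlgSt.IsOpenImm i)
    (T : Over S) (z₁ z₂ : (FibCat.fp f i).p.Fiber T)
    (h₁ : IsoNat.mapCls (FibCat.fpFst f i) T (IsoNat.cls z₁) =
      IsoNat.mapCls (FibCat.fpFst f i) T (IsoNat.cls z₂)) :
    IsoNat.cls z₁ = IsoNat.cls z₂ := by
  obtain ⟨h1, h2⟩ := full_faithful_of_isOpenImm h𝒴' h𝒴 i hi
  exact cls_fp_eq_of_ff f i T z₁ z₂ h₁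

end FibIso

section Charts

variable {S : Scheme.{u}} {𝒴 : AlgSt.Cat S}

/-- A full subcategory closed under sources of morphisms and cut out on every chart by an open
subscheme is an open substack. -/
theorem isOpenSubstack_of_charts (h𝒴 : AlgSt.IsAlgStack Scheme.fppfPrecoverage 𝒴)
    (Q : 𝒴.obj → Prop) (hsrc : ∀ ⦃y x : 𝒴.obj⦄ (_ : y ⟶ x), Q x → Q y)
    (hch : ∀ (U : Over S) (y : FibCat.overCat U ⥤ᵇ 𝒴), ∃ V : U.left.Opens,
      ∀ z : Over U, Q (y.obj z) ↔ Set.range z.hom.left ⊆ V) :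
    AlgSt.IsOpenSubstack 𝒴 Q Scheme.fppfPrecoverage := by
  have hiso : ObjectProperty.IsClosedUnderIsomorphisms Q := ⟨fun e hx => hsrc e.inv hx⟩
  have hfib : FibCat.IsFibGrpd (AlgSt.fullSub 𝒴 Q).p :=
    isFibGrpd_subCat Q h𝒴.isStack.1 (fun y x φ hx => ⟨y, Iso.refl y, hsrc φ hx, by
      simp only [Iso.refl_hom]; infer_instance⟩)
  have hj : AlgSt.IsOpenImm (AlgSt.subIncl 𝒴 Q) := by
    apply repByAlgSpWith_subIncl_of_charts Q hiso
    intro U y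
    obtain ⟨V, hV⟩ := hch U y
    let U' : Over S := Over.mk (V.ι ≫ U.hom)
    let ι : U' ⟶ U := Over.homMk V.ι rfl
    have hoi : IsOpenImmersion ι.left := inferInstanceAs (IsOpenImmersion V.ι)
    have hr : Set.range ι.left = V := Scheme.Opens.range_ι V
    refine ⟨U', ι, mono_of_isOpenImmersion_left ι, (AlgSp.repWith_yon_map_iff _ _).2 hoi, ?_, ?_⟩
    · intro z'
      rw [hV]
      rintro _ ⟨w, rfl⟩
      have : ((Over.map ι).obj z').hom.left w ∈ Set.range ι.left := ⟨z'.hom.left w, rfl⟩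
      rw [hr] at this
      exact this
    · intro z hz
      apply exists_factor_of_range
      rw [hr]
      exact (hV z).1 hz
  exact ⟨hiso, isAlgStack_of_repByAlgSp1 hfib h𝒴 (AlgSt.subIncl 𝒴 Q)
    (repByAlgSp1_of_repByAlgSpWith _ _ hj), hj⟩

theorem mem_iff_cls_mem (W : ∀ T : Over S, Set (IsoNat.IsoCl 𝒴 T)) {T : Over S}
    (x : 𝒴.p.Fiber T) :
    IsoNat.cls (⟨x.1, rfl⟩ : 𝒴.p.Fiber (𝒴.p.obj x.1)) ∈ W (𝒴.p.obj x.1) ↔ IsoNat.cls x ∈ W T := by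
  obtain ⟨η, h⟩ := x
  subst h
  exact Iff.rfl

theorem isOpenSubstack_of_open_subfunctor (h𝒴 : AlgSt.IsAlgStack Scheme.fppfPrecoverage 𝒴)
    (W : ∀ T : Over S, Set (IsoNat.IsoCl 𝒴 T))
    (hWpull : ∀ (T' T : Over S) (g : T' ⟶ T) (x' : 𝒴.p.Fiber T') (x : 𝒴.p.Fiber T) (a : x'.1 ⟶ x.1),
      𝒴.p.IsHomLift g a → IsoNat.cls x ∈ W T → IsoNat.cls x' ∈ W T')
    (hWopen : ∀ (T : Over S) (x : 𝒴.p.Fiber T), ∃ V : T.left.Opens,
      ∀ (T' : Over S) (g : T' ⟶ T) (x' : 𝒴.p.Fiber T') (a : x'.1 ⟶ x.1), 𝒴.p.IsHomLift g a →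
        (IsoNat.cls x' ∈ W T' ↔ ∃ g' : T'.left ⟶ ↑V, g' ≫ V.ι = g.left)) :
    AlgSt.IsOpenSubstack 𝒴
      (fun η => IsoNat.cls (⟨η, rfl⟩ : 𝒴.p.Fiber (𝒴.p.obj η)) ∈ W (𝒴.p.obj η))
      Scheme.fppfPrecoverage := by
  apply isOpenSubstack_of_charts h𝒴
  · intro y x φ hx
    exact hWpull _ _ (𝒴.p.map φ) ⟨y, rfl⟩ ⟨x, rfl⟩ φ (IsHomLift.map 𝒴.p φ) hx
  · intro U y
    let x₀ : 𝒴.p.Fiber U := ⟨y.obj (Over.mk (𝟙 U)), y.w_obj _⟩
    obtain ⟨V, hV⟩ := hWopen U x₀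
    refine ⟨V, fun z => ?_⟩
    let t : z ⟶ Over.mk (𝟙 U) := Over.homMk z.hom (by simp)
    have h0 : (FibCat.overCat U).p.IsHomLift z.hom t := IsHomLift.map (FibCat.overCat U).p t
    have h1 : 𝒴.p.IsHomLift z.hom (y.map t) := inferInstance
    let x' : 𝒴.p.Fiber z.left := ⟨y.obj z, y.w_obj z⟩
    have h2 := hV z.left z.hom x' (y.map t) h1
    rw [mem_iff_cls_mem W x', h2]
    constructor
    · rintro ⟨g', hg'⟩
      rw [← hg']
      rintro _ ⟨w, rfl⟩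
      have : (g' ≫ V.ι) w ∈ Set.range V.ι := ⟨g' w, rfl⟩
      rw [Scheme.Opens.range_ι] at this
      exact this
    · intro h
      refine ⟨IsOpenImmersion.lift V.ι z.hom.left ?_, IsOpenImmersion.lift_fac _ _ _⟩
      rw [Scheme.Opens.range_ι]
      exact h

end Charts

end Groth.Agent.Lib.Helper15IsoNatOpen
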