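-- helper15: the bijection on points induced by an isomorphism of presheaves of isomorphism classes.
import Mathlib
import Groth.Agent.Lib.Helper15IsoNatOpen

set_option autoImplicit false
set_option backward.isDefEq.respectTransparency false
set_option backward.isDefEq.respectTransparency.types false
open CategoryTheory CategoryTheory.Functor CategoryTheory.Limits Opposite AlgebraicGeometry

universe u

namespace Groth.Agent.Lib.Helper15IsoNatPts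

open Groth.Agent.Lib.Helper17 Groth.Agent.Lib.Helper15PshFib Groth.Agent.Lib.Helper15RepComp
  Groth.Agent.Lib.Helper15RepPsh Groth.Agent.Lib.Helper15DiagBase Groth.Agent.Lib.Helper15DiagRepSp
  Groth.Agent.Lib.Helper15Descent Groth.Agent.Lib.Helper15DiagLft
  Groth.Agent.Lib.Helper15DiagDescent Groth.Agent.Lib.Helper15SpMapRep
  Groth.Agent.Lib.Helper15SrcCancel Groth.Agent.Lib.Helper15ChartSp Groth.Agent.Lib.Helper15Atlas
  Groth.Agent.Lib.Helper15LocEss Groth.Agent.Lib.Helper15UnivComp Groth.Agent.Lib.Helper15SmLoc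
  Groth.Agent.Lib.Helper15PtsComp Groth.Agent.Lib.Helper15PtsTop Groth.Agent.Lib.Helper15PtsQc
  Groth.Agent.Lib.Helper15FpSwap Groth.Agent.Lib.Helper15QcLocal Groth.Agent.Lib.Helper15ClosedQc
  Groth.Agent.Lib.Helper15UnivPts Groth.Agent.Lib.Helper15BaseChange
  Groth.Agent.Lib.Helper15BaseChange2
  Groth.Agent.Lib.Helper15MonoSep Groth.Agent.Lib.Helper15LocQ Groth.Agent.Lib.Helper15LocQEngine
  Groth.Agent.Lib.Helper15LocQProps Groth.Agent.Lib.Helper15LocQSpace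
  Groth.Agent.Lib.Helper15LocQSpace2 Groth.Agent.Lib.Helper15LocQRep
  Groth.Agent.Lib.Helper15LocQComp Groth.Agent.Lib.Helper15GoodComp
  Groth.Agent.Lib.Helper15LocQCancel Groth.Agent.Lib.Helper15LocQBC
  Groth.Agent.Lib.Helper15LocQDiag Groth.Agent.Lib.Helper15LocQDescent
  Groth.Agent.Lib.Helper15RepDescent Groth.Agent.Lib.Helper15QcDescent
  Groth.Agent.Lib.Helper15FppfLiftFam Groth.Agent.Lib.Helper15ValLift
  Groth.Agent.Lib.Helper15ValWit Groth.Agent.Lib.Helper15QcRep Groth.Agent.Lib.Helper15UnivComp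
  Groth.Agent.Lib.Helper15QcQs Groth.Agent.Lib.Helper15QcProd Groth.Agent.Lib.Helper15.DiagBC
  Groth.Agent.Lib.Helper15UnivInjDiag Groth.Agent.Lib.Helper15DiagSq
  Groth.Agent.Lib.Helper15PshPb Groth.Agent.Lib.Helper15DiagBridge Groth.Agent.Lib.Helper15DiagApps Groth.Agent.Lib.Helper15DiagCancel
  Groth.Agent.Lib.Helper15DiagComp Groth.Agent.Lib.Helper15QsComp Groth.Agent.Lib.Helper15MonoFF
  Groth.Agent.Lib.Helper15DiagInertia Groth.Agent.Lib.Helper15OpenSub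
  Groth.Agent.Lib.Helper15EquivRep Groth.Agent.Lib.Helper15OpenSubst
  Groth.Agent.Lib.Helper15OpenImage Groth.Agent.Lib.Helper15FpqcImm Groth.Agent.Lib.Helper17.MonoFF Groth.Agent.Lib.Helper15IsoNatOpen

section Basic

variable {S : Scheme.{u}} {𝒳 𝒴 : AlgSt.Cat S}

/-- The object of the fibre category defined by a field point. -/
def fptFib (p : AlgSt.FPt 𝒳) : 𝒳.p.Fiber (Over.mk p.str) := ⟨p.obj, p.lies⟩

/-- The field point defined by an object of the fibre category over the spectrum of a field. -/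
def fptOfFib (K : Type u) [Field K] (str : Spec (CommRingCat.of K) ⟶ S)
    (y : 𝒴.p.Fiber (Over.mk str)) : AlgSt.FPt 𝒴 :=
  { K := K, str := str, obj := y.1, lies := y.2 }

theorem mk_fptOfFib_eq_of_cls_eq {K : Type u} [Field K] {str : Spec (CommRingCat.of K) ⟶ S}
    {y y' : 𝒴.p.Fiber (Over.mk str)} (h : IsoNat.cls y = IsoNat.cls y') :
    AlgSt.Points.mk (fptOfFib K str y) = AlgSt.Points.mk (fptOfFib K str y') := by
  obtain ⟨e, -⟩ := exists_iso_of_cls_eq h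
  exact AlgSt.Points.sound ⟨fptOfFib K str y, 𝟙 _, e.hom, trivial⟩

theorem natural' (φ : IsoNat.FIso 𝒳 𝒴) {T' T : Over S} (x' : 𝒳.p.Fiber T') (x : 𝒳.p.Fiber T)
    (a : x'.1 ⟶ x.1) :
    ∃ (y' : 𝒴.p.Fiber T') (y : 𝒴.p.Fiber T) (_ : y'.1 ⟶ y.1),
      φ.toEquiv T' (IsoNat.cls x') = IsoNat.cls y' ∧ φ.toEquiv T (IsoNat.cls x) = IsoNat.cls y := by
  have h : 𝒳.p.IsHomLift (eqToHom x'.2.symm ≫ 𝒳.p.map a ≫ eqToHom x.2) a :=
    IsHomLift.of_fac _ _ _ x'.2 x.2 rfl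
  obtain ⟨y', y, b, -, h1, h2⟩ := φ.natural _ x' x a h
  exact ⟨y', y, b, h1, h2⟩

/-- The map on field points induced by an isomorphism of the presheaves of isomorphism classes. -/
noncomputable def ptsMap₀ (φ : IsoNat.FIso 𝒳 𝒴) (p : AlgSt.FPt 𝒳) : AlgSt.Points 𝒴 :=
  AlgSt.Points.mk (fptOfFib p.K p.str (Quotient.out (φ.toEquiv _ (IsoNat.cls (fptFib p)))))

theorem ptsMap₀_eq (φ : IsoNat.FIso 𝒳 𝒴) (p : AlgSt.FPt 𝒳) (y : 𝒴.p.Fiber (Over.mk p.str))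
    (h : φ.toEquiv _ (IsoNat.cls (fptFib p)) = IsoNat.cls y) :
    ptsMap₀ φ p = AlgSt.Points.mk (fptOfFib p.K p.str y) :=
  mk_fptOfFib_eq_of_cls_eq (by rw [← h]; exact Quotient.out_eq _)

theorem ptsMap₀_of_hom (φ : IsoNat.FIso 𝒳 𝒴) {r p : AlgSt.FPt 𝒳} (α : r.obj ⟶ p.obj) :
    ptsMap₀ φ r = ptsMap₀ φ p := by
  obtain ⟨y', y, b, h', h⟩ := natural' φ (fptFib r) (fptFib p) α
  rw [ptsMap₀_eq φ r y' h', ptsMap₀_eq φ p y h]
  exact AlgSt.Points.sound ⟨fptOfFib _ _ y', 𝟙 _, b, trivial⟩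

/-- The map on points induced by an isomorphism of the presheaves of isomorphism classes. -/
noncomputable def ptsMap (φ : IsoNat.FIso 𝒳 𝒴) : AlgSt.Points 𝒳 → AlgSt.Points 𝒴 :=
  Quot.lift (ptsMap₀ φ) (fun _ _ h => by
    obtain ⟨r, a, b, -⟩ := h
    exact (ptsMap₀_of_hom φ a).symm.trans (ptsMap₀_of_hom φ b))

theorem ptsMap_mk (φ : IsoNat.FIso 𝒳 𝒴) (p : AlgSt.FPt 𝒳) :
    ptsMap φ (AlgSt.Points.mk p) = ptsMap₀ φ p := rfl

/-- The inverse of an isomorphism of presheaves of isomorphism classes. -/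
noncomputable def fIsoSymm (h𝒳 : FibCat.IsFibGrpd 𝒳.p) (h𝒴 : FibCat.IsFibGrpd 𝒴.p)
    (φ : IsoNat.FIso 𝒳 𝒴) : IsoNat.FIso 𝒴 𝒳 where
  toEquiv T := (φ.toEquiv T).symm
  natural := by
    intro T' T g y' y a ha
    let x : 𝒳.p.Fiber T := Quotient.out ((φ.toEquiv T).symm (IsoNat.cls y))
    have hx : φ.toEquiv T (IsoNat.cls x) = IsoNat.cls y := by
      have : IsoNat.cls x = (φ.toEquiv T).symm (IsoNat.cls y) := Quotient.out_eq _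
      rw [this, Equiv.apply_symm_apply]
    obtain ⟨x'₀, b₀, hb₀⟩ := h𝒳.exists_lift (x := x.1) (g ≫ eqToHom x.2.symm)
    have hb : 𝒳.p.IsHomLift g b₀ := by
      have h1 := IsHomLift.fac' 𝒳.p (g ≫ eqToHom x.2.symm) b₀
      refine IsHomLift.of_fac _ _ _ (IsHomLift.domain_eq 𝒳.p (g ≫ eqToHom x.2.symm) b₀) x.2 ?_
      rw [h1]
      simp
    let x' : 𝒳.p.Fiber T' := ⟨x'₀, IsHomLift.domain_eq 𝒳.p g b₀⟩
    obtain ⟨y'', y₀, b', hb', h1, h2⟩ := φ.natural g x' x b₀ hb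
    obtain ⟨e, he⟩ := exists_iso_of_cls_eq (h2.symm.trans hx)
    have hbe : 𝒴.p.IsHomLift g (b' ≫ e.hom) := by
      have : 𝒴.p.IsHomLift (g ≫ 𝟙 T) (b' ≫ e.hom) := inferInstance
      rwa [Category.comp_id] at this
    obtain ⟨e', he', -⟩ := IsFibGrpd.exists_iso_of_lifts h𝒴 g (b' ≫ e.hom) a
    have h3 : IsoNat.cls y'' = IsoNat.cls y' := cls_eq_of_iso e' he'
    refine ⟨x', x, b₀, hb, ?_, ?_⟩
    · rw [← h3, ← h1, Equiv.symm_apply_apply]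
    · rw [← hx, Equiv.symm_apply_apply]

theorem ptsMap_symm_ptsMap (h𝒳 : FibCat.IsFibGrpd 𝒳.p) (h𝒴 : FibCat.IsFibGrpd 𝒴.p)
    (φ : IsoNat.FIso 𝒳 𝒴) (s : AlgSt.Points 𝒳) :
    ptsMap (fIsoSymm h𝒳 h𝒴 φ) (ptsMap φ s) = s := by
  obtain ⟨p, rfl⟩ := AlgSt.Points.mk_surjective s
  rw [ptsMap_mk]
  unfold ptsMap₀
  rw [ptsMap_mk]
  refine (ptsMap₀_eq (fIsoSymm h𝒳 h𝒴 φ) _ (fptFib p) ?_).trans rfl
  change (φ.toEquiv _).symm (IsoNat.cls (Quotient.out (φ.toEquiv _ (IsoNat.cls (fptFib p))))) = _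
  have : IsoNat.cls (Quotient.out (φ.toEquiv _ (IsoNat.cls (fptFib p)))) =
      φ.toEquiv _ (IsoNat.cls (fptFib p)) := Quotient.out_eq _
  rw [this, Equiv.symm_apply_apply]

theorem fIsoSymm_symm_toEquiv (h𝒳 : FibCat.IsFibGrpd 𝒳.p) (h𝒴 : FibCat.IsFibGrpd 𝒴.p)
    (φ : IsoNat.FIso 𝒳 𝒴) (T : Over S) :
    (fIsoSymm h𝒴 h𝒳 (fIsoSymm h𝒳 h𝒴 φ)).toEquiv T = φ.toEquiv T := by
  ext c
  rfl

theorem ptsMap_congr (φ ψ : IsoNat.FIso 𝒳 𝒴) (h : ∀ T, φ.toEquiv T = ψ.toEquiv T)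
    (s : AlgSt.Points 𝒳) : ptsMap φ s = ptsMap ψ s := by
  obtain ⟨p, rfl⟩ := AlgSt.Points.mk_surjective s
  rw [ptsMap_mk, ptsMap_mk]
  unfold ptsMap₀
  rw [h]

theorem ptsMap_ptsMap_symm (h𝒳 : FibCat.IsFibGrpd 𝒳.p) (h𝒴 : FibCat.IsFibGrpd 𝒴.p)
    (φ : IsoNat.FIso 𝒳 𝒴) (t : AlgSt.Points 𝒴) :
    ptsMap φ (ptsMap (fIsoSymm h𝒳 h𝒴 φ) t) = t := by
  have := ptsMap_symm_ptsMap h𝒴 h𝒳 (fIsoSymm h𝒳 h𝒴 φ) t
  rw [ptsMap_congr _ φ (fIsoSymm_symm_toEquiv h𝒳 h𝒴 φ)] at this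
  exact this

/-- The bijection on points induced by an isomorphism of presheaves of isomorphism classes. -/
noncomputable def ptsEquiv (h𝒳 : FibCat.IsFibGrpd 𝒳.p) (h𝒴 : FibCat.IsFibGrpd 𝒴.p)
    (φ : IsoNat.FIso 𝒳 𝒴) : AlgSt.Points 𝒳 ≃ AlgSt.Points 𝒴 where
  toFun := ptsMap φ
  invFun := ptsMap (fIsoSymm h𝒳 h𝒴 φ)
  left_inv := ptsMap_symm_ptsMap h𝒳 h𝒴 φ
  right_inv := ptsMap_ptsMap_symm h𝒳 h𝒴 φ

end Basic

section Square

variable {S : Scheme.{u}} {𝒳 𝒴 𝒳' 𝒴' : AlgSt.Cat S}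

theorem ptsMap_comm {f : 𝒳 ⥤ᵇ 𝒴} {f' : 𝒳' ⥤ᵇ 𝒴'} (φ : IsoNat.FIsoSq f f')
    (s : AlgSt.Points 𝒳) :
    AlgSt.Points.map f' (ptsMap φ.src s) = ptsMap φ.tgt (AlgSt.Points.map f s) := by
  obtain ⟨p, rfl⟩ := AlgSt.Points.mk_surjective s
  rw [ptsMap_mk, AlgSt.Points.map_mk, ptsMap_mk]
  let T : Over S := Over.mk p.str
  let x' : 𝒳'.p.Fiber T := Quotient.out (φ.src.toEquiv T (IsoNat.cls (fptFib p)))
  have hx' : IsoNat.cls x' = φ.src.toEquiv T (IsoNat.cls (fptFib p)) := Quotient.out_eq _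
  have h1 : φ.tgt.toEquiv T (IsoNat.cls (fptFib (p.map f))) =
      IsoNat.cls ((IsoNat.fibFun f' T).obj x') := by
    have := φ.comm T (IsoNat.cls (fptFib p))
    rw [← hx'] at this
    exact this
  rw [ptsMap₀_eq φ.tgt (p.map f) ((IsoNat.fibFun f' T).obj x') h1]
  rfl

theorem isSurjective_of_fIsoSq (h𝒴 : FibCat.IsFibGrpd 𝒴.p) (h𝒴' : FibCat.IsFibGrpd 𝒴'.p)
    {f : 𝒳 ⥤ᵇ 𝒴} {f' : 𝒳' ⥤ᵇ 𝒴'} (φ : IsoNat.FIsoSq f f') (hf : AlgSt.IsSurjective f) :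
    AlgSt.IsSurjective f' := by
  intro t'
  obtain ⟨t, rfl⟩ := (ptsEquiv h𝒴 h𝒴' φ.tgt).surjective t'
  obtain ⟨s, rfl⟩ := hf t
  exact ⟨ptsMap φ.src s, ptsMap_comm φ s⟩

theorem repByAlgSpWith_surjective_of_fIsoSq
    (h𝒳 : AlgSt.IsAlgStack Scheme.fppfPrecoverage 𝒳) (h𝒴 : AlgSt.IsAlgStack Scheme.fppfPrecoverage 𝒴)
    (h𝒳' : AlgSt.IsAlgStack Scheme.fppfPrecoverage 𝒳')
    (h𝒴' : AlgSt.IsAlgStack Scheme.fppfPrecoverage 𝒴')
    {f : 𝒳 ⥤ᵇ 𝒴} {f' : 𝒳' ⥤ᵇ 𝒴'} (φ : IsoNat.FIsoSq f f') (hf' : AlgSt.RepByAlgSp1 f')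
    (hf : AlgSt.RepByAlgSpWith AlgSp.IsSurjectiveMor f) :
    AlgSt.RepByAlgSpWith AlgSp.IsSurjectiveMor f' := by
  rw [← isSurjective_iff_repByAlgSpWith h𝒳' h𝒴' f' hf']
  apply isSurjective_of_fIsoSq h𝒴.isStack.1 h𝒴'.isStack.1 φ
  rw [isSurjective_iff_repByAlgSpWith h𝒳 h𝒴 f (repByAlgSp1_of_repByAlgSpWith _ _ hf)]
  exact hf

end Square

end Groth.Agent.Lib.Helper15IsoNatPts
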