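-- helper15: the homeomorphism on points induced by an isomorphism of presheaves of isomorphism classes of algebraic stacks.
import Mathlib
import Groth.Agent.Lib.Helper15IsoNatPts

set_option autoImplicit false
set_option backward.isDefEq.respectTransparency false
set_option backward.isDefEq.respectTransparency.types false
open CategoryTheory CategoryTheory.Functor CategoryTheory.Limits Opposite AlgebraicGeometry

universe u

namespace Groth.Agent.Lib.Helper15IsoNatTop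

open Groth.Agent.Lib.Helper17 Groth.Agent.Lib.Helper15PshFib Groth.Agent.Lib.Helper15RepComp
  Groth.Agent.Lib.Helper15RepPsh Groth.Agent.Lib.Helper15DiagBase Groth.Agent.Lib.Helper15DiagRepSp
  Groth.Agent.Lib.Helper15Descent Groth.Agent.Lib.Helper15DiagLft
  Groth.Agent.Lib.Helper15DiagDescent Groth.Agent.Lib.Helper15SpMapRep
  Groth.Agent.Lib.Helper15SrcCancel Groth.Agent.Lib.Helper15ChartSp Groth.Agent.Lib.Helper15Atlas
  Groth.Agent.Lib.Helper15LocEss Groth.Agent.Lib.Helper15UnivComp Groth.Agent.Lib.Helper15SmLoc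
  Groth.Agent.Lib.Helper15PtsComp Groth.Agent.Lib.Helper15PtsTop Groth.Agent.Lib.Helper15PtsQc
  Groth.Agent.Lib.Helper15FpSwap Groth.Agent.Lib.Helper15QcLocal Groth.Agent.Lib.Helper15ClosedQc
  Groth.Agent.Lib.Helper15UnivPts Groth.Agent.Lib.Helper15BaseChange
  Groth.Agent.Lib.Helper15BaseChange2
  Groth.Agent.Lib.Helper15MonoSep Groth.Agent.Lib.Helper15LocQ Groth.Agent.Lib.Helper15LocQEngine
  Groth.Agent.Lib.Helper15LocQProps Groth.Agent.Lib.Helper15LocQSpace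
  Groth.Agent.Lib.Helper15LocQSpace2 Groth.Agent.Lib.Helper15LocQRep
  Groth.Agent.Lib.Helper15LocQComp Groth.Agent.Lib.Helper15GoodComp
  Groth.Agent.Lib.Helper15LocQCancel Groth.Agent.Lib.Helper15LocQBC
  Groth.Agent.Lib.Helper15LocQDiag Groth.Agent.Lib.Helper15LocQDescent
  Groth.Agent.Lib.Helper15RepDescent Groth.Agent.Lib.Helper15QcDescent
  Groth.Agent.Lib.Helper15FppfLiftFam Groth.Agent.Lib.Helper15ValLift
  Groth.Agent.Lib.Helper15ValWit Groth.Agent.Lib.Helper15QcRep Groth.Agent.Lib.Helper15UnivComp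
  Groth.Agent.Lib.Helper15QcQs Groth.Agent.Lib.Helper15QcProd Groth.Agent.Lib.Helper15.DiagBC
  Groth.Agent.Lib.Helper15UnivInjDiag Groth.Agent.Lib.Helper15DiagSq
  Groth.Agent.Lib.Helper15PshPb Groth.Agent.Lib.Helper15DiagBridge Groth.Agent.Lib.Helper15DiagApps Groth.Agent.Lib.Helper15DiagCancel
  Groth.Agent.Lib.Helper15DiagComp Groth.Agent.Lib.Helper15QsComp Groth.Agent.Lib.Helper15MonoFF
  Groth.Agent.Lib.Helper15DiagInertia Groth.Agent.Lib.Helper15OpenSub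
  Groth.Agent.Lib.Helper15EquivRep Groth.Agent.Lib.Helper15OpenSubst
  Groth.Agent.Lib.Helper15OpenImage Groth.Agent.Lib.Helper15FpqcImm Groth.Agent.Lib.Helper17.MonoFF Groth.Agent.Lib.Helper15IsoNatOpen
  Groth.Agent.Lib.Helper15IsoNatPts

section Cont

variable {S : Scheme.{u}} {𝒳 𝒴 : AlgSt.Cat S}

/-- The objects of `𝒳` whose class corresponds to the class of an object with all points in `T`. -/
def QPre (φ : IsoNat.FIso 𝒳 𝒴) (T : Set (AlgSt.Points 𝒴)) : 𝒳.obj → Prop :=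
  fun x => ∀ (T₀ : Over S) (h : 𝒳.p.obj x = T₀) (y : 𝒴.p.Fiber T₀),
    φ.toEquiv T₀ (IsoNat.cls ⟨x, h⟩) = IsoNat.cls y → QT T y.1

theorem QT_iff_of_cls_eq {T : Set (AlgSt.Points 𝒴)} {T₀ : Over S} {y y' : 𝒴.p.Fiber T₀}
    (h : IsoNat.cls y = IsoNat.cls y') : QT T y.1 ↔ QT T y'.1 := by
  obtain ⟨e, -⟩ := exists_iso_of_cls_eq h
  exact ⟨QT_of_hom e.inv, QT_of_hom e.hom⟩

theorem QPre_iff (φ : IsoNat.FIso 𝒳 𝒴) (T : Set (AlgSt.Points 𝒴)) {T₀ : Over S}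
    (x : 𝒳.p.Fiber T₀) (y : 𝒴.p.Fiber T₀) (hxy : φ.toEquiv T₀ (IsoNat.cls x) = IsoNat.cls y) :
    QPre φ T x.1 ↔ QT T y.1 := by
  constructor
  · intro h
    exact h T₀ x.2 y hxy
  · intro h T₁ h₁ y₁ hy₁
    obtain ⟨x1, hx⟩ := x
    subst hx
    subst h₁
    exact (QT_iff_of_cls_eq (hxy.symm.trans hy₁)).1 h

theorem QPre_of_hom (φ : IsoNat.FIso 𝒳 𝒴) (T : Set (AlgSt.Points 𝒴)) ⦃x' x : 𝒳.obj⦄
    (a : x' ⟶ x) (hx : QPre φ T x) : QPre φ T x' := by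
  obtain ⟨y'', y₀, b, h1, h2⟩ := natural' φ (⟨x', rfl⟩ : 𝒳.p.Fiber _) (⟨x, rfl⟩ : 𝒳.p.Fiber _) a
  have h3 : QT T y₀.1 := hx _ rfl y₀ h2
  exact (QPre_iff φ T (⟨x', rfl⟩ : 𝒳.p.Fiber _) y'' h1).2 (QT_of_hom b h3)

theorem QPre_chart (h𝒴 : AlgSt.IsAlgStack Scheme.fppfPrecoverage 𝒴) (φ : IsoNat.FIso 𝒳 𝒴)
    {T : Set (AlgSt.Points 𝒴)} (hT : IsOpen T) (U : Over S) (c : FibCat.overCat U ⥤ᵇ 𝒳) :
    ∃ V : U.left.Opens, ∀ z : Over U, QPre φ T (c.obj z) ↔ Set.range z.hom.left ⊆ V := by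
  let X₀ : 𝒳.p.Fiber U := ⟨c.obj (Over.mk (𝟙 U)), c.w_obj _⟩
  let Y₀ : 𝒴.p.Fiber U := Quotient.out (φ.toEquiv U (IsoNat.cls X₀))
  have hY₀ : IsoNat.cls Y₀ = φ.toEquiv U (IsoNat.cls X₀) := Quotient.out_eq _
  have := IsFibGrpd.isFibered h𝒴.isStack.1
  let d : FibCat.overCat U ⥤ᵇ 𝒴 := yonedaFunctor Y₀.2
  obtain ⟨e₀, he₀⟩ := yonedaFunctor_iso Y₀.2
  have he₀' : 𝒴.p.IsHomLift (𝟙 U) e₀.inv := IsHomLift.lift_id_inv 𝒴.p U e₀
  refine ⟨⟨AlgSt.Points.ofChart d ⁻¹' T, (continuous_ofChart h𝒴 d).isOpen_preimage T hT⟩,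
    fun z => ?_⟩
  let t : z ⟶ Over.mk (𝟙 U) := Over.homMk z.hom (by simp)
  have h0 : (FibCat.overCat U).p.IsHomLift z.hom t := IsHomLift.map (FibCat.overCat U).p t
  have h1 : 𝒳.p.IsHomLift z.hom (c.map t) := inferInstance
  let X_z : 𝒳.p.Fiber z.left := ⟨c.obj z, c.w_obj z⟩
  obtain ⟨y'', y₀, b, hb, h2, h3⟩ := φ.natural z.hom X_z X₀ (c.map t) h1
  obtain ⟨e₁, he₁⟩ := exists_iso_of_cls_eq (h3.symm.trans hY₀.symm)
  have hβ : 𝒴.p.IsHomLift z.hom (b ≫ e₁.hom ≫ e₀.inv) := by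
    have : 𝒴.p.IsHomLift (z.hom ≫ 𝟙 U ≫ 𝟙 U) (b ≫ e₁.hom ≫ e₀.inv) := inferInstance
    simpa using this
  have hd : 𝒴.p.IsHomLift z.hom (d.map t) := inferInstance
  obtain ⟨e₂, -, -⟩ := IsFibGrpd.exists_iso_of_lifts h𝒴.isStack.1 z.hom
    (b ≫ e₁.hom ≫ e₀.inv) (d.map t)
  rw [QPre_iff φ T X_z y'' h2]
  have h4 : QT T y''.1 ↔ QT T (d.obj z) := ⟨QT_of_hom e₂.inv, QT_of_hom e₂.hom⟩
  rw [h4, QT_obj_iff h𝒴.isStack.1 d z]
  constructor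
  · rintro h _ ⟨w, rfl⟩
    exact h w
  · intro h w
    exact h ⟨w, rfl⟩

theorem isOpenSubstack_QPre (h𝒳 : AlgSt.IsAlgStack Scheme.fppfPrecoverage 𝒳)
    (h𝒴 : AlgSt.IsAlgStack Scheme.fppfPrecoverage 𝒴) (φ : IsoNat.FIso 𝒳 𝒴)
    {T : Set (AlgSt.Points 𝒴)} (hT : IsOpen T) :
    AlgSt.IsOpenSubstack 𝒳 (QPre φ T) Scheme.fppfPrecoverage :=
  isOpenSubstack_of_charts h𝒳 (QPre φ T) (QPre_of_hom φ T) (QPre_chart h𝒴 φ hT)

theorem preimage_ptsMap_eq (φ : IsoNat.FIso 𝒳 𝒴) (T : Set (AlgSt.Points 𝒴)) :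
    ptsMap φ ⁻¹' T = Set.range (AlgSt.Points.map (AlgSt.subIncl 𝒳 (QPre φ T))) := by
  ext s
  rw [mem_range_subIncl_iff]
  constructor
  · intro hs
    obtain ⟨p, rfl⟩ := AlgSt.Points.mk_surjective s
    refine ⟨p, ?_, rfl⟩
    let y : 𝒴.p.Fiber (Over.mk p.str) := Quotient.out (φ.toEquiv _ (IsoNat.cls (fptFib p)))
    have hy : φ.toEquiv _ (IsoNat.cls (fptFib p)) = IsoNat.cls y := (Quotient.out_eq _).symm
    refine (QPre_iff φ T (fptFib p) y hy).2 ?_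
    intro p₂ a
    have h1 : AlgSt.Points.mk p₂ = AlgSt.Points.mk (fptOfFib p.K p.str y) :=
      AlgSt.Points.sound ⟨p₂, 𝟙 _, a, trivial⟩
    rw [h1]
    exact hs
  · rintro ⟨p, hp, rfl⟩
    let y : 𝒴.p.Fiber (Over.mk p.str) := Quotient.out (φ.toEquiv _ (IsoNat.cls (fptFib p)))
    have hy : φ.toEquiv _ (IsoNat.cls (fptFib p)) = IsoNat.cls y := (Quotient.out_eq _).symm
    have h1 : QT T y.1 := (QPre_iff φ T (fptFib p) y hy).1 hp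
    exact h1 (fptOfFib p.K p.str y) (𝟙 _)

theorem continuous_ptsMap (h𝒳 : AlgSt.IsAlgStack Scheme.fppfPrecoverage 𝒳)
    (h𝒴 : AlgSt.IsAlgStack Scheme.fppfPrecoverage 𝒴) (φ : IsoNat.FIso 𝒳 𝒴) :
    Continuous (ptsMap φ) := by
  rw [continuous_def]
  intro T hT
  rw [preimage_ptsMap_eq]
  have h := isOpenSubstack_QPre h𝒳 h𝒴 φ hT
  exact isOpen_range_of_isOpenImm h.2.1 h𝒳 _ h.2.2

/-- The homeomorphism on points induced by an isomorphism of presheaves of isomorphism classes of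
algebraic stacks. -/
noncomputable def ptsHomeo (h𝒳 : AlgSt.IsAlgStack Scheme.fppfPrecoverage 𝒳)
    (h𝒴 : AlgSt.IsAlgStack Scheme.fppfPrecoverage 𝒴) (φ : IsoNat.FIso 𝒳 𝒴) :
    AlgSt.Points 𝒳 ≃ₜ AlgSt.Points 𝒴 where
  toEquiv := ptsEquiv h𝒳.isStack.1 h𝒴.isStack.1 φ
  continuous_toFun := continuous_ptsMap h𝒳 h𝒴 φ
  continuous_invFun := continuous_ptsMap h𝒴 h𝒳 (fIsoSymm h𝒳.isStack.1 h𝒴.isStack.1 φ)

theorem isQuasiCompact_of_fIso (h𝒳 : AlgSt.IsAlgStack Scheme.fppfPrecoverage 𝒳)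
    (h𝒴 : AlgSt.IsAlgStack Scheme.fppfPrecoverage 𝒴) (φ : IsoNat.FIso 𝒳 𝒴)
    (hqc : AlgSt.IsQuasiCompact 𝒳) : AlgSt.IsQuasiCompact 𝒴 := by
  rw [isQuasiCompact_iff_compactSpace h𝒳] at hqc
  rw [isQuasiCompact_iff_compactSpace h𝒴]
  exact (ptsHomeo h𝒳 h𝒴 φ).compactSpace

end Cont

end Groth.Agent.Lib.Helper15IsoNatTop
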