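-- helper15: 2-fibre products of quasi-compact quasi-separated algebraic stacks
import Mathlib
import Groth.Agent.Lib.Helper15DiagCancel
import Groth.Agent.Lib.Helper15QcProd

set_option autoImplicit false
set_option backward.isDefEq.respectTransparency false
set_option backward.isDefEq.respectTransparency.types false
open CategoryTheory CategoryTheory.Functor CategoryTheory.Limits Opposite AlgebraicGeometry

universe u

namespace Groth.Agent.Lib.Helper15QsFp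

open Groth.Agent.Lib.Helper17 Groth.Agent.Lib.Helper15PshFib Groth.Agent.Lib.Helper15RepComp
  Groth.Agent.Lib.Helper15RepPsh Groth.Agent.Lib.Helper15DiagBase Groth.Agent.Lib.Helper15DiagRepSp
  Groth.Agent.Lib.Helper15Descent Groth.Agent.Lib.Helper15DiagLft
  Groth.Agent.Lib.Helper15DiagDescent Groth.Agent.Lib.Helper15SpMapRep
  Groth.Agent.Lib.Helper15SrcCancel Groth.Agent.Lib.Helper15ChartSp Groth.Agent.Lib.Helper15Atlas
  Groth.Agent.Lib.Helper15LocEss Groth.Agent.Lib.Helper15UnivComp Groth.Agent.Lib.Helper15SmLoc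
  Groth.Agent.Lib.Helper15PtsComp Groth.Agent.Lib.Helper15PtsTop Groth.Agent.Lib.Helper15PtsQc
  Groth.Agent.Lib.Helper15FpSwap Groth.Agent.Lib.Helper15QcLocal Groth.Agent.Lib.Helper15ClosedQc
  Groth.Agent.Lib.Helper15UnivPts Groth.Agent.Lib.Helper15BaseChange
  Groth.Agent.Lib.Helper15BaseChange2
  Groth.Agent.Lib.Helper15MonoSep Groth.Agent.Lib.Helper15LocQ Groth.Agent.Lib.Helper15LocQEngine
  Groth.Agent.Lib.Helper15LocQProps Groth.Agent.Lib.Helper15LocQSpace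
  Groth.Agent.Lib.Helper15LocQSpace2 Groth.Agent.Lib.Helper15LocQRep
  Groth.Agent.Lib.Helper15LocQComp Groth.Agent.Lib.Helper15GoodComp
  Groth.Agent.Lib.Helper15LocQCancel Groth.Agent.Lib.Helper15LocQBC
  Groth.Agent.Lib.Helper15LocQDiag Groth.Agent.Lib.Helper15LocQDescent
  Groth.Agent.Lib.Helper15RepDescent Groth.Agent.Lib.Helper15QcDescent
  Groth.Agent.Lib.Helper15FppfLiftFam Groth.Agent.Lib.Helper15ValLift
  Groth.Agent.Lib.Helper15ValWit Groth.Agent.Lib.Helper15QcRep Groth.Agent.Lib.Helper15UnivComp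
  Groth.Agent.Lib.Helper15QcQs Groth.Agent.Lib.Helper15QcProd Groth.Agent.Lib.Helper15.DiagBC
  Groth.Agent.Lib.Helper15UnivInjDiag Groth.Agent.Lib.Helper15DiagSq
  Groth.Agent.Lib.Helper15PshPb Groth.Agent.Lib.Helper15DiagBridge Groth.Agent.Lib.Helper15DiagApps Groth.Agent.Lib.Helper15DiagCancel
  Groth.Agent.Lib.Helper15DiagComp Groth.Agent.Lib.Helper15QsComp Groth.Agent.Lib.Helper15MonoFF












section QsFp

variable {S : Scheme.{u}} {𝒳 𝒴 𝒵 : AlgSt.Cat S}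

/-- Cancellation for quasi-separated functors, the target of `g` being only a prestack with
diagonal representable by algebraic spaces. -/
theorem isQuasiSeparatedMor_of_comp' (h𝒳 : FibCat.IsFibGrpd 𝒳.p)
    (h𝒴 : AlgSt.IsAlgStack Scheme.fppfPrecoverage 𝒴)
    (h𝒵 : Stk.IsPrestack (QuotSh.J Scheme.fppfPrecoverage S) 𝒵)
    (hΔ𝒵 : AlgSt.RepByAlgSp1 (FibCat.diag (FibCat.toSelf 𝒵)))
    (f : 𝒳 ⥤ᵇ 𝒴) (g : 𝒴 ⥤ᵇ 𝒵)
    (hgf : AlgSt.IsQuasiSeparatedMor (BasedFunctor.comp f g))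
    (hΔ : AlgSt.RepByAlgSpWith AlgSp.IsQuasiSeparatedMor (FibCat.diag g)) :
    AlgSt.IsQuasiSeparatedMor f := by
  have hrep : AlgSt.RepByAlgSp1 (FibCat.diag g) := fun U y => by
    obtain ⟨F, e, he, -⟩ := hΔ U y
    exact ⟨F, e, he⟩
  have hfp : AlgSt.IsAlgStack Scheme.fppfPrecoverage (FibCat.fp g g) :=
    isAlgStack_fp_of_isPrestack h𝒵 hΔ𝒵 h𝒴 h𝒴 g g
  have hmono : AlgSt.IsMono (FibCat.diag (FibCat.diag g)) :=
    isMono_diag_of_repByAlgSp1 h𝒴.isStack.1 hfp.isStack.1 h𝒴.diag hfp.diag (FibCat.diag g) hrep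
  have hΔΔ : AlgSt.RepByAlgSpWith (AlgSp.IsQuasiCompactMor ⊓ AlgSp.IsQuasiSeparatedMor)
      (FibCat.diag (FibCat.diag g)) :=
    repByAlgSpWith_inf _ _ bcStable_qc _ (repByAlgSpWith_qc_diag_of_qs _ hΔ)
      (repByAlgSpWith_qs_of_isMono _ hmono)
  exact repByAlgSpWith_diag_of_comp h𝒳 h𝒴.isStack.1 h𝒵.1 _ compCond_qcqs f g hgf hΔΔ

/-- A functor between algebraic stacks that are quasi-separated over the base is
quasi-separated. -/
theorem isQuasiSeparatedMor_of_isQuasiSeparatedOver (h𝒳 : FibCat.IsFibGrpd 𝒳.p)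
    (h𝒴 : AlgSt.IsAlgStack Scheme.fppfPrecoverage 𝒴) (f : 𝒳 ⥤ᵇ 𝒴)
    (hX : AlgSt.IsQuasiSeparatedOver 𝒳) (hY : AlgSt.IsQuasiSeparatedOver 𝒴) :
    AlgSt.IsQuasiSeparatedMor f := by
  refine isQuasiSeparatedMor_of_comp' h𝒳 h𝒴 isPrestack_selfOver repByAlgSp1_diag_selfOver f
    (FibCat.toSelf 𝒴) ?_ (repByAlgSpWith_mono (fun _ _ _ h => h.2) _ hY)
  rw [comp_toSelf]
  exact hX

theorem isQuasiSeparatedOver_fp (h𝒳 : AlgSt.IsAlgStack Scheme.fppfPrecoverage 𝒳)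
    (h𝒴 : AlgSt.IsAlgStack Scheme.fppfPrecoverage 𝒴)
    (h𝒵 : AlgSt.IsAlgStack Scheme.fppfPrecoverage 𝒵) (a : 𝒳 ⥤ᵇ 𝒴) (b : 𝒵 ⥤ᵇ 𝒴)
    (hX : AlgSt.IsQuasiSeparatedOver 𝒳) (hY : AlgSt.IsQuasiSeparatedOver 𝒴)
    (hZ : AlgSt.IsQuasiSeparatedOver 𝒵) : AlgSt.IsQuasiSeparatedOver (FibCat.fp a b) := by
  have hb : AlgSt.IsQuasiSeparatedMor b :=
    isQuasiSeparatedMor_of_isQuasiSeparatedOver h𝒵.isStack.1 h𝒴 b hZ hY
  have h1 : AlgSt.IsQuasiSeparatedMor (FibCat.fpFst a b) :=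
    repByAlgSpWith_diag_fpFst _ b a hb
  have h2 := isQuasiSeparatedMor_comp_st
    (isFibGrpd_fp a b h𝒳.isStack.1 h𝒵.isStack.1 h𝒴.isStack.1) h𝒳.isStack.1
    (FibCat.fpFst a b) (FibCat.toSelf 𝒳) h1 hX
  rw [comp_toSelf] at h2
  exact h2

theorem isQuasiCompact_fp [QuasiSeparatedSpace S]
    (h𝒳 : AlgSt.IsAlgStack Scheme.fppfPrecoverage 𝒳)
    (h𝒴 : AlgSt.IsAlgStack Scheme.fppfPrecoverage 𝒴)
    (h𝒵 : AlgSt.IsAlgStack Scheme.fppfPrecoverage 𝒵) (a : 𝒳 ⥤ᵇ 𝒴) (b : 𝒵 ⥤ᵇ 𝒴)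
    (hX : AlgSt.IsQuasiCompact 𝒳) (hY : AlgSt.IsQuasiSeparatedOver 𝒴)
    (hZ : AlgSt.IsQuasiCompact 𝒵) : AlgSt.IsQuasiCompact (FibCat.fp a b) :=
  isQuasiCompactMor_of_isQuasiCompact_of_isQuasiSeparatedOver h𝒵 h𝒴 b hZ hY 𝒳 h𝒳 hX a

end QsFp

end Groth.Agent.Lib.Helper15QsFp
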