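-- helper15: quasi-compact morphisms of algebraic stacks via points; transfer along isomorphisms of presheaves of isomorphism classes.
import Mathlib
import Groth.Agent.Lib.Helper15IsoNatTop
import Groth.Agent.Lib.Helper15QsFp
import Groth.Agent.Lib.Helper17StkPts2

set_option autoImplicit false
set_option backward.isDefEq.respectTransparency false
set_option backward.isDefEq.respectTransparency.types false
open CategoryTheory CategoryTheory.Functor CategoryTheory.Limits Opposite AlgebraicGeometry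

universe u

namespace Groth.Agent.Lib.Helper15IsoNatQc

open Groth.Agent.Lib.Helper17 Groth.Agent.Lib.Helper15PshFib Groth.Agent.Lib.Helper15RepComp
  Groth.Agent.Lib.Helper15RepPsh Groth.Agent.Lib.Helper15DiagBase Groth.Agent.Lib.Helper15DiagRepSp
  Groth.Agent.Lib.Helper15Descent Groth.Agent.Lib.Helper15DiagLft
  Groth.Agent.Lib.Helper15DiagDescent Groth.Agent.Lib.Helper15SpMapRep
  Groth.Agent.Lib.Helper15SrcCancel Groth.Agent.Lib.Helper15ChartSp Groth.Agent.Lib.Helper15Atlas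
  Groth.Agent.Lib.Helper15LocEss Groth.Agent.Lib.Helper15UnivComp Groth.Agent.Lib.Helper15SmLoc
  Groth.Agent.Lib.Helper15PtsComp Groth.Agent.Lib.Helper15PtsTop Groth.Agent.Lib.Helper15PtsQc
  Groth.Agent.Lib.Helper15FpSwap Groth.Agent.Lib.Helper15QcLocal Groth.Agent.Lib.Helper15ClosedQc
  Groth.Agent.Lib.Helper15UnivPts Groth.Agent.Lib.Helper15BaseChange
  Groth.Agent.Lib.Helper15BaseChange2
  Groth.Agent.Lib.Helper15MonoSep Groth.Agent.Lib.Helper15LocQ Groth.Agent.Lib.Helper15LocQEngine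
  Groth.Agent.Lib.Helper15LocQProps Groth.Agent.Lib.Helper15LocQSpace
  Groth.Agent.Lib.Helper15LocQSpace2 Groth.Agent.Lib.Helper15LocQRep
  Groth.Agent.Lib.Helper15LocQComp Groth.Agent.Lib.Helper15GoodComp
  Groth.Agent.Lib.Helper15LocQCancel Groth.Agent.Lib.Helper15LocQBC
  Groth.Agent.Lib.Helper15LocQDiag Groth.Agent.Lib.Helper15LocQDescent
  Groth.Agent.Lib.Helper15RepDescent Groth.Agent.Lib.Helper15QcDescent
  Groth.Agent.Lib.Helper15FppfLiftFam Groth.Agent.Lib.Helper15ValLift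
  Groth.Agent.Lib.Helper15ValWit Groth.Agent.Lib.Helper15QcRep Groth.Agent.Lib.Helper15UnivComp
  Groth.Agent.Lib.Helper15QcQs Groth.Agent.Lib.Helper15QcProd Groth.Agent.Lib.Helper15.DiagBC
  Groth.Agent.Lib.Helper15UnivInjDiag Groth.Agent.Lib.Helper15DiagSq
  Groth.Agent.Lib.Helper15PshPb Groth.Agent.Lib.Helper15DiagBridge Groth.Agent.Lib.Helper15DiagApps Groth.Agent.Lib.Helper15DiagCancel
  Groth.Agent.Lib.Helper15DiagComp Groth.Agent.Lib.Helper15QsComp Groth.Agent.Lib.Helper15MonoFF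
  Groth.Agent.Lib.Helper15DiagInertia Groth.Agent.Lib.Helper15OpenSub
  Groth.Agent.Lib.Helper15EquivRep Groth.Agent.Lib.Helper15OpenSubst
  Groth.Agent.Lib.Helper15OpenImage Groth.Agent.Lib.Helper15FpqcImm Groth.Agent.Lib.Helper17.MonoFF Groth.Agent.Lib.Helper15IsoNatOpen
  Groth.Agent.Lib.Helper15IsoNatPts Groth.Agent.Lib.Helper15IsoNatTop Groth.Agent.Lib.Helper15QsFp

section Embed

variable {S : Scheme.{u}} {𝒜 ℬ 𝒳 𝒴 𝒵 : AlgSt.Cat S}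

theorem injective_points_of_ff (h𝒜 : FibCat.IsFibGrpd 𝒜.p) (hℬ : FibCat.IsFibGrpd ℬ.p)
    (i : 𝒜 ⥤ᵇ ℬ) [i.toFunctor.Full] [i.toFunctor.Faithful] :
    Function.Injective (AlgSt.Points.map i) := by
  intro s s' h
  obtain ⟨p, rfl⟩ := AlgSt.Points.mk_surjective s
  obtain ⟨q, rfl⟩ := AlgSt.Points.mk_surjective s'
  obtain ⟨r, a, b, -⟩ := fpt_rel_of_mk_eq hℬ h
  obtain ⟨p', π, e, -, hp'⟩ := exists_lift_over_map h𝒜 hℬ i (r := r.obj) (z := p.obj) a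
  let β : p' ⟶ q.obj := i.toFunctor.preimage (e.hom ≫ b)
  let r' : AlgSt.FPt 𝒜 := { K := r.K, str := r.str, obj := p', lies := hp'.trans r.lies }
  apply AlgSt.Points.sound
  exact ⟨r', π, β, trivial⟩

theorem isOpenEmbedding_points_of_isOpenImm (h𝒜 : AlgSt.IsAlgStack Scheme.fppfPrecoverage 𝒜)
    (hℬ : AlgSt.IsAlgStack Scheme.fppfPrecoverage ℬ) (i : 𝒜 ⥤ᵇ ℬ) (hi : AlgSt.IsOpenImm i) :
    Topology.IsOpenEmbedding (AlgSt.Points.map i) := by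
  obtain ⟨h1, h2⟩ := full_faithful_of_isOpenImm h𝒜.isStack.1 hℬ.isStack.1 i hi
  exact Topology.IsOpenEmbedding.of_continuous_injective_isOpenMap (continuous_points_map hℬ i)
    (injective_points_of_ff h𝒜.isStack.1 hℬ.isStack.1 i)
    (isOpenMap_points_map_of_flat_lfp h𝒜 hℬ i (flat_lfp_of_isOpenImm i hi).1
      (flat_lfp_of_isOpenImm i hi).2)

theorem isQuasiCompact_iff_isCompact_range (h𝒜 : AlgSt.IsAlgStack Scheme.fppfPrecoverage 𝒜)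
    (hℬ : AlgSt.IsAlgStack Scheme.fppfPrecoverage ℬ) (i : 𝒜 ⥤ᵇ ℬ) (hi : AlgSt.IsOpenImm i) :
    AlgSt.IsQuasiCompact 𝒜 ↔ IsCompact (Set.range (AlgSt.Points.map i)) := by
  rw [isQuasiCompact_iff_compactSpace h𝒜, ← isCompact_univ_iff,
    (isOpenEmbedding_points_of_isOpenImm h𝒜 hℬ i hi).isEmbedding.isCompact_iff, Set.image_univ]

theorem range_points_fpSnd (h𝒳 : FibCat.IsFibGrpd 𝒳.p) (h𝒴 : FibCat.IsFibGrpd 𝒴.p)
    (h𝒵 : FibCat.IsFibGrpd 𝒵.p) (j : 𝒵 ⥤ᵇ 𝒴) (f : 𝒳 ⥤ᵇ 𝒴) :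
    Set.range (AlgSt.Points.map (FibCat.fpSnd j f)) =
      AlgSt.Points.map f ⁻¹' Set.range (AlgSt.Points.map j) := by
  ext x
  constructor
  · rintro ⟨w, rfl⟩
    refine ⟨AlgSt.Points.map (FibCat.fpFst j f) w, ?_⟩
    rw [← points_map_comp, ← points_map_comp]
    exact points_map_congr _ _ ((BasedNatTrans.forgetful _ _).mapIso (FibCat.fpIso j f)) w
  · rintro ⟨z, hz⟩
    obtain ⟨w, -, hw⟩ := points_fp_surjective h𝒳 h𝒴 h𝒵 f j z x hz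
    exact ⟨w, hw⟩

end Embed

section Crit

variable {S : Scheme.{u}} {𝒳 𝒴 𝒵 : AlgSt.Cat S}

theorem isQuasiCompact_fp_openImm_iff (h𝒳 : AlgSt.IsAlgStack Scheme.fppfPrecoverage 𝒳)
    (h𝒴 : AlgSt.IsAlgStack Scheme.fppfPrecoverage 𝒴) (h𝒵 : AlgSt.IsAlgStack Scheme.fppfPrecoverage 𝒵)
    (j : 𝒵 ⥤ᵇ 𝒴) (hj : AlgSt.IsOpenImm j) (f : 𝒳 ⥤ᵇ 𝒴) :
    AlgSt.IsQuasiCompact (FibCat.fp j f) ↔
      IsCompact (AlgSt.Points.map f ⁻¹' Set.range (AlgSt.Points.map j)) := by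
  have hfp : AlgSt.IsAlgStack Scheme.fppfPrecoverage (FibCat.fp j f) :=
    isAlgStack_fp_of_isPrestack (IsStack.isPrestack _ h𝒴.isStack) h𝒴.diag h𝒵 h𝒳 j f
  rw [isQuasiCompact_iff_isCompact_range hfp h𝒳 (FibCat.fpSnd j f)
    (repByAlgSpWith_fpSnd _ j f hj),
    range_points_fpSnd h𝒳.isStack.1 h𝒴.isStack.1 h𝒵.isStack.1 j f]

theorem isQuasiCompact_fullSub_QT (h𝒴 : AlgSt.IsAlgStack Scheme.fppfPrecoverage 𝒴)
    {T : Set (AlgSt.Points 𝒴)} (hT : IsOpen T) (hTc : IsCompact T) :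
    AlgSt.IsQuasiCompact (AlgSt.fullSub 𝒴 (QT T)) := by
  have h := isOpenSubstack_QT h𝒴 hT
  rw [isQuasiCompact_iff_isCompact_range h.2.1 h𝒴 _ h.2.2, range_subIncl_QT]
  exact hTc

theorem isQuasiSeparatedOver_fullSub_QT (h𝒴 : AlgSt.IsAlgStack Scheme.fppfPrecoverage 𝒴)
    (hqs : AlgSt.IsQuasiSeparatedOver 𝒴) {T : Set (AlgSt.Points 𝒴)} (hT : IsOpen T) :
    AlgSt.IsQuasiSeparatedOver (AlgSt.fullSub 𝒴 (QT T)) := by
  have h := isOpenSubstack_QT h𝒴 hT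
  have hmono : AlgSt.IsMono (AlgSt.subIncl 𝒴 (QT T)) :=
    repByAlgSpWith_mono (fun _ _ a ha => mono_of_repWith_isOpenImmersion a ha) h.2.2
  have hj : AlgSt.IsQuasiSeparatedMor (AlgSt.subIncl 𝒴 (QT T)) :=
    (isQuasiSeparatedMor_iff_of_repByAlgSp1 h.2.1 h𝒴 _
      (repByAlgSp1_of_repByAlgSpWith _ _ h.2.2)).2 (repByAlgSpWith_qs_of_isMono _ hmono)
  have := isQuasiSeparatedMor_comp_st h.2.1.isStack.1 h𝒴.isStack.1 (AlgSt.subIncl 𝒴 (QT T))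
    (FibCat.toSelf 𝒴) hj hqs
  rw [comp_toSelf] at this
  exact this

/-- Quasi-compactness of a morphism to a quasi-separated algebraic stack in terms of the spaces of
points. -/
theorem isQuasiCompactMor_iff_top [QuasiSeparatedSpace S]
    (h𝒳 : AlgSt.IsAlgStack Scheme.fppfPrecoverage 𝒳)
    (h𝒴 : AlgSt.IsAlgStack Scheme.fppfPrecoverage 𝒴) (hqs : AlgSt.IsQuasiSeparatedOver 𝒴)
    (f : 𝒳 ⥤ᵇ 𝒴) :
    AlgSt.IsQuasiCompactMor Scheme.fppfPrecoverage f ↔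
      ∀ T : Set (AlgSt.Points 𝒴), IsOpen T → IsCompact T →
        IsCompact (AlgSt.Points.map f ⁻¹' T) := by
  constructor
  · intro hf T hT hTc
    have h := isOpenSubstack_QT h𝒴 hT
    have h1 := hf _ h.2.1 (isQuasiCompact_fullSub_QT h𝒴 hT hTc) (AlgSt.subIncl 𝒴 (QT T))
    rw [isQuasiCompact_fp_openImm_iff h𝒳 h𝒴 h.2.1 _ h.2.2 f, range_subIncl_QT] at h1
    exact h1
  · intro hf 𝒵 h𝒵 hqc g
    have hc : CompactSpace (AlgSt.Points 𝒵) := (isQuasiCompact_iff_compactSpace h𝒵).1 hqc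
    have hK : IsCompact (Set.range (AlgSt.Points.map g)) :=
      isCompact_range (continuous_points_map h𝒴 g)
    choose V hVo hVc hVx _ using fun x : AlgSt.Points 𝒴 =>
      exists_isOpen_isCompact_nhd h𝒴 x Set.univ isOpen_univ (Set.mem_univ x)
    obtain ⟨t, -, ht⟩ := hK.elim_nhds_subcover V (fun x _ => (hVo x).mem_nhds (hVx x))
    let T : Set (AlgSt.Points 𝒴) := ⋃ x ∈ t, V x
    have hT : IsOpen T := isOpen_biUnion fun x _ => hVo x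
    have hTc : IsCompact T := t.isCompact_biUnion fun x _ => hVc x
    have h := isOpenSubstack_QT h𝒴 hT
    let g' : 𝒵 ⥤ᵇ AlgSt.fullSub 𝒴 (QT T) :=
      liftSub (QT T) g (fun z => QT_mono ht _ (QT_range_obj h𝒵.isStack.1 h𝒴.isStack.1 g z))
    have hfpj : AlgSt.IsAlgStack Scheme.fppfPrecoverage (FibCat.fp (AlgSt.subIncl 𝒴 (QT T)) f) :=
      isAlgStack_fp_of_isPrestack (IsStack.isPrestack _ h𝒴.isStack) h𝒴.diag h.2.1 h𝒳 _ f
    have hqcj : AlgSt.IsQuasiCompact (FibCat.fp (AlgSt.subIncl 𝒴 (QT T)) f) := by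
      rw [isQuasiCompact_fp_openImm_iff h𝒳 h𝒴 h.2.1 _ h.2.2 f, range_subIncl_QT]
      exact hf T hT hTc
    have h2 : AlgSt.IsQuasiCompact
        (FibCat.fp g' (FibCat.fpFst (AlgSt.subIncl 𝒴 (QT T)) f)) :=
      isQuasiCompact_fp h𝒵 h.2.1 hfpj g' (FibCat.fpFst (AlgSt.subIncl 𝒴 (QT T)) f) hqc
        (isQuasiSeparatedOver_fullSub_QT h𝒴 hqs hT) hqcj
    exact Groth.Agent.Lib.Helper15UnivComp.isQuasiCompact_of_isEquivOver
      (pasteL f (AlgSt.subIncl 𝒴 (QT T)) g') (isEquivOver_pasteL f (AlgSt.subIncl 𝒴 (QT T)) g') h2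

end Crit

section Rows

variable {S : Scheme.{u}} {𝒳 𝒴 𝒳' 𝒴' : AlgSt.Cat S}

theorem isQuasiSeparatedOver_of_sep_qc_diag
    (h : AlgSt.RepByAlgSpWith (AlgSp.IsSeparatedMor ⊓ AlgSp.IsQuasiCompactMor)
      (FibCat.diag (FibCat.toSelf 𝒴))) : AlgSt.IsQuasiSeparatedOver 𝒴 :=
  repByAlgSpWith_mono (fun _ _ a ha => ⟨ha.2,
    repWith_mono (fun _ _ g hg => by have : IsClosedImmersion g := hg; infer_instance) ha.1⟩) _ h

theorem isQuasiCompactMor_iff_forall_openImm [QuasiSeparatedSpace S]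
    (h𝒳 : AlgSt.IsAlgStack Scheme.fppfPrecoverage 𝒳)
    (h𝒴 : AlgSt.IsAlgStack Scheme.fppfPrecoverage 𝒴) (hqs : AlgSt.IsQuasiSeparatedOver 𝒴)
    (f : 𝒳 ⥤ᵇ 𝒴) :
    AlgSt.IsQuasiCompactMor Scheme.fppfPrecoverage f ↔
      ∀ (𝒴' : AlgSt.Cat S), AlgSt.IsAlgStack Scheme.fppfPrecoverage 𝒴' → AlgSt.IsQuasiCompact 𝒴' →
        ∀ (j : 𝒴' ⥤ᵇ 𝒴), AlgSt.IsOpenImm j → AlgSt.IsQuasiCompact (FibCat.fp j f) := by
  constructor
  · intro hf 𝒴' h𝒴' hqc j _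
    exact hf 𝒴' h𝒴' hqc j
  · intro H
    rw [isQuasiCompactMor_iff_top h𝒳 h𝒴 hqs f]
    intro T hT hTc
    have h := isOpenSubstack_QT h𝒴 hT
    have h1 := H _ h.2.1 (isQuasiCompact_fullSub_QT h𝒴 hT hTc) (AlgSt.subIncl 𝒴 (QT T)) h.2.2
    rw [isQuasiCompact_fp_openImm_iff h𝒳 h𝒴 h.2.1 _ h.2.2 f, range_subIncl_QT] at h1
    exact h1

theorem isQuasiCompactMor_of_fIsoSq [QuasiSeparatedSpace S]
    (h𝒳 : AlgSt.IsAlgStack Scheme.fppfPrecoverage 𝒳)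
    (h𝒴 : AlgSt.IsAlgStack Scheme.fppfPrecoverage 𝒴)
    (h𝒳' : AlgSt.IsAlgStack Scheme.fppfPrecoverage 𝒳')
    (h𝒴' : AlgSt.IsAlgStack Scheme.fppfPrecoverage 𝒴')
    (hqs : AlgSt.IsQuasiSeparatedOver 𝒴) (hqs' : AlgSt.IsQuasiSeparatedOver 𝒴')
    {f : 𝒳 ⥤ᵇ 𝒴} {f' : 𝒳' ⥤ᵇ 𝒴'} (φ : IsoNat.FIsoSq f f')
    (hf : AlgSt.IsQuasiCompactMor Scheme.fppfPrecoverage f) :
    AlgSt.IsQuasiCompactMor Scheme.fppfPrecoverage f' := by
  rw [isQuasiCompactMor_iff_top h𝒳' h𝒴' hqs' f']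
  intro T' hT' hT'c
  let b𝒳 := ptsHomeo h𝒳 h𝒳' φ.src
  let b𝒴 := ptsHomeo h𝒴 h𝒴' φ.tgt
  have hcomm : ∀ s, AlgSt.Points.map f' (b𝒳 s) = b𝒴 (AlgSt.Points.map f s) :=
    fun s => ptsMap_comm φ s
  have hT : IsOpen (b𝒴 ⁻¹' T') := b𝒴.continuous.isOpen_preimage T' hT'
  have hTc : IsCompact (b𝒴 ⁻¹' T') := b𝒴.isCompact_preimage.2 hT'c
  have hfT := (isQuasiCompactMor_iff_top h𝒳 h𝒴 hqs f).1 hf _ hT hTc
  have key : AlgSt.Points.map f' ⁻¹' T' = b𝒳 '' (AlgSt.Points.map f ⁻¹' (b𝒴 ⁻¹' T')) := by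
    ext s'
    constructor
    · intro hs'
      refine ⟨b𝒳.symm s', ?_, b𝒳.apply_symm_apply s'⟩
      change b𝒴 (AlgSt.Points.map f (b𝒳.symm s')) ∈ T'
      rw [← hcomm, b𝒳.apply_symm_apply]
      exact hs'
    · rintro ⟨s, hs, rfl⟩
      change AlgSt.Points.map f' (b𝒳 s) ∈ T'
      rw [hcomm]
      exact hs
  rw [key]
  exact hfT.image b𝒳.continuous

end Rows

end Groth.Agent.Lib.Helper15IsoNatQc
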