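-- helper15: the largest open substack on which a morphism of algebraic stacks is smooth.
import Mathlib
import Groth.Agent.Lib.Helper15IsoNatQc
import Groth.Agent.Lib.Helper15GoodComp
import Groth.Agent.Lib.Helper15FpSwap

set_option autoImplicit false
set_option backward.isDefEq.respectTransparency false
set_option backward.isDefEq.respectTransparency.types false
open CategoryTheory CategoryTheory.Functor CategoryTheory.Limits Opposite AlgebraicGeometry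

universe u

namespace Groth.Agent.Lib.Helper15SmoothLocus

open Groth.Agent.Lib.Helper17 Groth.Agent.Lib.Helper15PshFib Groth.Agent.Lib.Helper15RepComp
  Groth.Agent.Lib.Helper15RepPsh Groth.Agent.Lib.Helper15DiagBase Groth.Agent.Lib.Helper15DiagRepSp
  Groth.Agent.Lib.Helper15Descent Groth.Agent.Lib.Helper15DiagLft
  Groth.Agent.Lib.Helper15DiagDescent Groth.Agent.Lib.Helper15SpMapRep
  Groth.Agent.Lib.Helper15SrcCancel Groth.Agent.Lib.Helper15ChartSp Groth.Agent.Lib.Helper15Atlas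
  Groth.Agent.Lib.Helper15LocEss Groth.Agent.Lib.Helper15UnivComp Groth.Agent.Lib.Helper15SmLoc
  Groth.Agent.Lib.Helper15PtsComp Groth.Agent.Lib.Helper15PtsTop Groth.Agent.Lib.Helper15PtsQc
  Groth.Agent.Lib.Helper15FpSwap Groth.Agent.Lib.Helper15QcLocal Groth.Agent.Lib.Helper15ClosedQc
  Groth.Agent.Lib.Helper15UnivPts Groth.Agent.Lib.Helper15BaseChange
  Groth.Agent.Lib.Helper15BaseChange2
  Groth.Agent.Lib.Helper15MonoSep Groth.Agent.Lib.Helper15LocQ Groth.Agent.Lib.Helper15LocQEngine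
  Groth.Agent.Lib.Helper15LocQProps Groth.Agent.Lib.Helper15LocQSpace
  Groth.Agent.Lib.Helper15LocQSpace2 Groth.Agent.Lib.Helper15LocQRep
  Groth.Agent.Lib.Helper15LocQComp Groth.Agent.Lib.Helper15GoodComp
  Groth.Agent.Lib.Helper15LocQCancel Groth.Agent.Lib.Helper15LocQBC
  Groth.Agent.Lib.Helper15LocQDiag Groth.Agent.Lib.Helper15LocQDescent
  Groth.Agent.Lib.Helper15RepDescent Groth.Agent.Lib.Helper15QcDescent
  Groth.Agent.Lib.Helper15FppfLiftFam Groth.Agent.Lib.Helper15ValLift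
  Groth.Agent.Lib.Helper15ValWit Groth.Agent.Lib.Helper15QcRep Groth.Agent.Lib.Helper15UnivComp
  Groth.Agent.Lib.Helper15QcQs Groth.Agent.Lib.Helper15QcProd Groth.Agent.Lib.Helper15.DiagBC
  Groth.Agent.Lib.Helper15UnivInjDiag Groth.Agent.Lib.Helper15DiagSq
  Groth.Agent.Lib.Helper15PshPb Groth.Agent.Lib.Helper15DiagBridge Groth.Agent.Lib.Helper15DiagApps Groth.Agent.Lib.Helper15DiagCancel
  Groth.Agent.Lib.Helper15DiagComp Groth.Agent.Lib.Helper15QsComp Groth.Agent.Lib.Helper15MonoFF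
  Groth.Agent.Lib.Helper15DiagInertia Groth.Agent.Lib.Helper15OpenSub
  Groth.Agent.Lib.Helper15EquivRep Groth.Agent.Lib.Helper15OpenSubst
  Groth.Agent.Lib.Helper15OpenImage Groth.Agent.Lib.Helper15FpqcImm Groth.Agent.Lib.Helper17.MonoFF Groth.Agent.Lib.Helper15IsoNatOpen
  Groth.Agent.Lib.Helper15IsoNatPts Groth.Agent.Lib.Helper15IsoNatTop Groth.Agent.Lib.Helper15QsFp
  Groth.Agent.Lib.Helper15IsoNatQc

section Sch

theorem smooth_sSup_ι_comp {X Y : Scheme.{u}} (f : X ⟶ Y) (𝒲 : Set X.Opens)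
    (h : ∀ W ∈ 𝒲, Smooth (W.ι ≫ f)) : Smooth ((sSup 𝒲).ι ≫ f) := by
  let 𝒰 : (↑(sSup 𝒲) : Scheme.{u}).OpenCover :=
    { I₀ := 𝒲
      X := fun W => ↑(W : X.Opens)
      f := fun W => X.homOfLE (le_sSup W.2)
      mem₀ := by
        rw [Scheme.presieve₀_mem_precoverage_iff]
        refine ⟨fun x => ?_, inferInstance⟩
        have hx : x.1 ∈ sSup 𝒲 := x.2
        rw [TopologicalSpace.Opens.mem_sSup] at hx
        obtain ⟨W, hW, hxW⟩ := hx
        refine ⟨⟨W, hW⟩, ⟨x.1, hxW⟩, ?_⟩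
        apply Subtype.ext
        simp }
  refine IsZariskiLocalAtSource.of_openCover (P := @Smooth) 𝒰 (fun W => ?_)
  change Smooth (X.homOfLE (le_sSup W.2) ≫ (sSup 𝒲).ι ≫ f)
  rw [← Category.assoc, Scheme.homOfLE_ι]
  exact h W W.2

end Sch

section Restrict

variable {S : Scheme.{u}} {𝒳 𝒴 : AlgSt.Cat S}

theorem locP_yon_map_of_smooth {U V : Over S} (h : U ⟶ V) (hh : Smooth h.left) :
    AlgSp.LocP @Smooth ((AlgSp.yon S).map h) := by
  let X : AlgSp.Space S := ⟨(AlgSp.yon S).obj U, AlgSp.IsAlgSpace.yon_obj U⟩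
  let Y : AlgSp.Space S := ⟨(AlgSp.yon S).obj V, AlgSp.IsAlgSpace.yon_obj V⟩
  let f : X ⟶ Y := ObjectProperty.homMk ((AlgSp.yon S).map h)
  exact Groth.Agent.S9947.result @Smooth (Or.inr (Or.inr (Or.inr (Or.inl rfl)))) f (𝟙 _) (𝟙 _) h
    (AlgSp.repWith_id _ U) (AlgSp.repWith_id _ U) (AlgSp.repWith_id _ V)
    (by rw [Category.id_comp, Category.comp_id]; rfl) hh

/-- The restriction of a good chart square to the open substack attached to an open set of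
points. -/
theorem restricted_square (h𝒳 : AlgSt.IsAlgStack Scheme.fppfPrecoverage 𝒳)
    (f : 𝒳 ⥤ᵇ 𝒴) {U V : Over S} (x : FibCat.overCat U ⥤ᵇ 𝒳) (y : FibCat.overCat V ⥤ᵇ 𝒴)
    (h : U ⟶ V) (α : BasedFunctor.comp x f ≅ BasedFunctor.comp (AlgSt.overMap h) y)
    (hx : AlgSt.RepByAlgSpWith (AlgSp.LocP @Smooth) x)
    (hxs : AlgSt.RepByAlgSpWith AlgSp.IsSurjectiveMor x)
    (hℓ : AlgSt.RepByAlgSpWith (AlgSp.LocP @Smooth) (FibCat.fpLift x (AlgSt.overMap h) α))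
    {T' : Set (AlgSt.Points 𝒳)} (hT' : IsOpen T') (W : U.left.Opens)
    (hW : (W : Set ↥U.left) = AlgSt.Points.ofChart x ⁻¹' T') :
    ∃ (x' : FibCat.overCat (Over.mk (W.ι ≫ U.hom)) ⥤ᵇ AlgSt.fullSub 𝒳 (QT T'))
      (α' : BasedFunctor.comp x' (BasedFunctor.comp (AlgSt.subIncl 𝒳 (QT T')) f) ≅
        BasedFunctor.comp (AlgSt.overMap
          ((Over.homMk W.ι rfl : Over.mk (W.ι ≫ U.hom) ⟶ U) ≫ h)) y),
      AlgSt.RepByAlgSpWith (AlgSp.LocP @Smooth) x' ∧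
        AlgSt.RepByAlgSpWith AlgSp.IsSurjectiveMor x' ∧
        AlgSt.RepByAlgSpWith (AlgSp.LocP @Smooth) (FibCat.fpLift x' (AlgSt.overMap
          ((Over.homMk W.ι rfl : Over.mk (W.ι ≫ U.hom) ⟶ U) ≫ h)) α') := by
  have hsub := isOpenSubstack_QT h𝒳 hT'
  let U' : Over S := Over.mk (W.ι ≫ U.hom)
  let ι : U' ⟶ U := Over.homMk W.ι rfl
  have hoi : IsOpenImmersion ι.left := inferInstanceAs (IsOpenImmersion W.ι)
  have hmono : Mono ι := mono_of_isOpenImmersion_left ι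
  have hr : Set.range ι.left = AlgSt.Points.ofChart x ⁻¹' T' :=
    (Scheme.Opens.range_ι W).trans hW
  have ha : ∀ z' : Over U', QT T' (x.obj ((Over.map ι).obj z')) := by
    intro z'
    apply QT_obj_of h𝒳.isStack.1
    intro w
    have : ((Over.map ι).obj z').hom.left w ∈ Set.range ι.left := ⟨z'.hom.left w, rfl⟩
    rw [hr] at this
    exact this
  let j := AlgSt.subIncl 𝒳 (QT T')
  let x' : FibCat.overCat U' ⥤ᵇ AlgSt.fullSub 𝒳 (QT T') :=
    liftSub (QT T') (BasedFunctor.comp (AlgSt.overMap ι) x) ha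
  have hU' : FibCat.IsFibGrpd (FibCat.overCat U').p := (isFibSet_overForget U').1
  -- the source chart is smooth
  have hx'j : AlgSt.RepByAlgSpWith (AlgSp.LocP @Smooth) (BasedFunctor.comp x' j) :=
    smooth_overMap_comp ι inferInstance x hx
  have hx' : AlgSt.RepByAlgSpWith (AlgSp.LocP @Smooth) x' :=
    repByAlgSpWith_of_comp_ff _ x' j hx'j
  -- the source chart is surjective
  have hx's : AlgSt.RepByAlgSpWith AlgSp.IsSurjectiveMor x' := by
    rw [← isSurjective_iff_repByAlgSpWith (isAlgStack_overCat U') hsub.2.1 x'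
      (repByAlgSp1_of_repByAlgSpWith _ _ hx')]
    intro t
    have h1 : AlgSt.Points.map j t ∈ T' := (range_subIncl_QT T').subset ⟨t, rfl⟩
    obtain ⟨u, hu⟩ := surjective_ofChart h𝒳 x hxs (AlgSt.Points.map j t)
    have hu' : u ∈ Set.range ι.left := by
      rw [hr]
      change AlgSt.Points.ofChart x u ∈ T'
      rw [hu]
      exact h1
    obtain ⟨u', rfl⟩ := hu'
    refine ⟨ptOver U' u', injective_points_subIncl_QT h𝒳.isStack.1 T' ?_⟩
    rw [← points_map_comp, ← ofChart_eq_map_ptOver, ← hu]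
    exact ofChart_overMap ι x u'
  -- the square of the inclusion is good
  have hfac : ∀ w : (FibCat.fp x j).obj, ∃ k : w.obj.fst.left ⟶ U', k ≫ ι = w.obj.fst.hom := by
    intro w
    apply exists_factor_of_range
    rw [hr]
    rintro _ ⟨v, rfl⟩
    exact QT_obj_imp x w.obj.fst
      ((QT_closedUnderIso T').of_iso w.obj.iso.symm w.obj.snd.property) v
  let e₀ : BasedFunctor.comp (AlgSt.overMap ι) x ≅ BasedFunctor.comp x' j := Iso.refl _
  have hE : FibCat.IsEquivOver (FibCat.fpLift (AlgSt.overMap ι) x' e₀) :=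
    isEquivOver_fpLift_of_factor ι j x x' e₀ hfac
  let αj : BasedFunctor.comp x' j ≅ BasedFunctor.comp (AlgSt.overMap ι) x := Iso.refl _
  have hαj : AlgSt.RepByAlgSpWith (AlgSp.LocP @Smooth) (FibCat.fpLift x' (AlgSt.overMap ι) αj) := by
    have h1 : AlgSt.RepByAlgSpWith (AlgSp.LocP @Smooth)
        (BasedFunctor.comp (FibCat.fpLift (AlgSt.overMap ι) x' e₀) (fpSwap x j)) :=
      repByAlgSpWith_of_isEquivOver _
        (fun T => locP_yon_map_of_smooth (𝟙 T) (by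
          change Smooth (𝟙 T.left)
          infer_instance) |> fun h => by rwa [(AlgSp.yon S).map_id] at h) _
        (IsEquivOver.comp _ _ hE (isEquivOver_fpSwap x j))
    refine repByAlgSpWith_of_iso _ ?_ h1
    exact fpIsoMk j x (Iso.refl _) (Iso.refl _) (fun a => by
      change j.map (𝟙 _) ≫ _ = _ ≫ x.map (𝟙 _)
      rw [j.toFunctor.map_id, x.toFunctor.map_id, Category.id_comp, Category.comp_id]
      rfl)
  refine ⟨x', compSqIso j f x' x y ι h αj α, hx', hx's, ?_⟩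
  exact good_comp _ compCond_smooth hsub.2.1.isStack.1 h𝒳.isStack.1 j f x' x y ι h αj α hαj hℓ

theorem locQ_smooth_restrict_iff (h𝒳 : AlgSt.IsAlgStack Scheme.fppfPrecoverage 𝒳)
    (h𝒴 : AlgSt.IsAlgStack Scheme.fppfPrecoverage 𝒴)
    (f : 𝒳 ⥤ᵇ 𝒴) {U V : Over S} (x : FibCat.overCat U ⥤ᵇ 𝒳) (y : FibCat.overCat V ⥤ᵇ 𝒴)
    (h : U ⟶ V) (α : BasedFunctor.comp x f ≅ BasedFunctor.comp (AlgSt.overMap h) y)
    (hx : AlgSt.RepByAlgSpWith (AlgSp.LocP @Smooth) x)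
    (hxs : AlgSt.RepByAlgSpWith AlgSp.IsSurjectiveMor x)
    (hy : AlgSt.RepByAlgSpWith (AlgSp.LocP @Smooth) y)
    (hℓ : AlgSt.RepByAlgSpWith (AlgSp.LocP @Smooth) (FibCat.fpLift x (AlgSt.overMap h) α))
    {T' : Set (AlgSt.Points 𝒳)} (hT' : IsOpen T') (W : U.left.Opens)
    (hW : (W : Set ↥U.left) = AlgSt.Points.ofChart x ⁻¹' T') :
    AlgSt.LocQ (AlgSp.LocP @Smooth) (BasedFunctor.comp (AlgSt.subIncl 𝒳 (QT T')) f) ↔
      Smooth (W.ι ≫ h.left) := by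
  obtain ⟨x', α', hx', hx's, hgood⟩ := restricted_square h𝒳 f x y h α hx hxs hℓ hT' W hW
  have hsub := isOpenSubstack_QT h𝒳 hT'
  constructor
  · intro hL
    have := (locQ_iff_forall_good (AlgSp.LocP @Smooth) isSmoothLocalST_smooth hsub.2.1 h𝒴
      (BasedFunctor.comp (AlgSt.subIncl 𝒳 (QT T')) f)).1 hL _ _ x' y _ α' hx' hy hgood
    exact AlgSp.locP_yon_map this
  · intro hsm
    exact ⟨_, _, x', y, _, α', hx', hx's, hy, locP_yon_map_of_smooth _ hsm⟩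

theorem exists_largest_locQ_smooth (h𝒳 : AlgSt.IsAlgStack Scheme.fppfPrecoverage 𝒳)
    (h𝒴 : AlgSt.IsAlgStack Scheme.fppfPrecoverage 𝒴) (f : 𝒳 ⥤ᵇ 𝒴) :
    ∃ Q : 𝒳.obj → Prop, AlgSt.IsOpenSubstack 𝒳 Q Scheme.fppfPrecoverage ∧
      AlgSt.LocQ (AlgSp.LocP @Smooth) (BasedFunctor.comp (AlgSt.subIncl 𝒳 Q) f) ∧
      ∀ Q' : 𝒳.obj → Prop, AlgSt.IsOpenSubstack 𝒳 Q' Scheme.fppfPrecoverage →
        AlgSt.LocQ (AlgSp.LocP @Smooth) (BasedFunctor.comp (AlgSt.subIncl 𝒳 Q') f) →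
          ∀ a, Q' a → Q a := by
  obtain ⟨U, V, x, y, h, α, hx, hxs, hy, -, hℓ⟩ := exists_good_square h𝒳 h𝒴 f
  let 𝒯 : Set (Set (AlgSt.Points 𝒳)) := {T' | IsOpen T' ∧
    AlgSt.LocQ (AlgSp.LocP @Smooth) (BasedFunctor.comp (AlgSt.subIncl 𝒳 (QT T')) f)}
  let T : Set (AlgSt.Points 𝒳) := ⋃₀ 𝒯
  have hT : IsOpen T := isOpen_sUnion fun T' hT' => hT'.1
  let pre : ∀ T' : Set (AlgSt.Points 𝒳), IsOpen T' → U.left.Opens := fun T' hT' =>
    ⟨AlgSt.Points.ofChart x ⁻¹' T', (continuous_ofChart h𝒳 x).isOpen_preimage T' hT'⟩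
  let 𝒲 : Set U.left.Opens := {W | ∃ (T' : Set (AlgSt.Points 𝒳)) (hT' : T' ∈ 𝒯), W = pre T' hT'.1}
  have h𝒲 : ∀ W ∈ 𝒲, Smooth (W.ι ≫ h.left) := by
    rintro W ⟨T', hT', rfl⟩
    exact (locQ_smooth_restrict_iff h𝒳 h𝒴 f x y h α hx hxs hy hℓ hT'.1 (pre T' hT'.1) rfl).1 hT'.2
  have hsup : ((sSup 𝒲 : U.left.Opens) : Set ↥U.left) = AlgSt.Points.ofChart x ⁻¹' T := by
    ext u
    simp only [TopologicalSpace.Opens.coe_sSup, Set.mem_iUnion, SetLike.mem_coe, Set.mem_preimage,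
      exists_prop]
    constructor
    · rintro ⟨W, ⟨T', hT', rfl⟩, hu⟩
      exact ⟨T', hT', hu⟩
    · rintro ⟨T', hT', hu⟩
      exact ⟨pre T' hT'.1, ⟨T', hT', rfl⟩, hu⟩
  have hTL : AlgSt.LocQ (AlgSp.LocP @Smooth) (BasedFunctor.comp (AlgSt.subIncl 𝒳 (QT T)) f) :=
    (locQ_smooth_restrict_iff h𝒳 h𝒴 f x y h α hx hxs hy hℓ hT (sSup 𝒲) hsup).2
      (smooth_sSup_ι_comp h.left 𝒲 h𝒲)
  refine ⟨QT T, isOpenSubstack_QT h𝒳 hT, hTL, ?_⟩
  intro Q' hQ' hL a ha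
  have hQ'eq := eq_QT_range h𝒳.isStack.1 Q' hQ'
  have hopen : IsOpen (Set.range (AlgSt.Points.map (AlgSt.subIncl 𝒳 Q'))) :=
    isOpen_range_of_isOpenImm hQ'.2.1 h𝒳 _ hQ'.2.2
  have hmem : Set.range (AlgSt.Points.map (AlgSt.subIncl 𝒳 Q')) ∈ 𝒯 := by
    refine ⟨hopen, ?_⟩
    rw [← hQ'eq]
    exact hL
  rw [hQ'eq] at ha
  exact QT_mono (Set.subset_sUnion_of_mem hmem) a ha

end Restrict

end Groth.Agent.Lib.Helper15SmoothLocus
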