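-- helper15: 2-fibre products of algebraic stacks for an arbitrary topology.
import Mathlib
import Groth.Agent.Lib.Helper15SmoothLocus

set_option autoImplicit false
set_option backward.isDefEq.respectTransparency false
set_option backward.isDefEq.respectTransparency.types false
open CategoryTheory CategoryTheory.Functor CategoryTheory.Limits Opposite AlgebraicGeometry

universe u

namespace Groth.Agent.Lib.Helper15FpEtale

open Groth.Agent.Lib.Helper17 Groth.Agent.Lib.Helper15PshFib Groth.Agent.Lib.Helper15RepComp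
  Groth.Agent.Lib.Helper15RepPsh Groth.Agent.Lib.Helper15DiagBase Groth.Agent.Lib.Helper15DiagRepSp
  Groth.Agent.Lib.Helper15Descent Groth.Agent.Lib.Helper15DiagLft
  Groth.Agent.Lib.Helper15DiagDescent Groth.Agent.Lib.Helper15SpMapRep
  Groth.Agent.Lib.Helper15SrcCancel Groth.Agent.Lib.Helper15ChartSp Groth.Agent.Lib.Helper15Atlas
  Groth.Agent.Lib.Helper15LocEss Groth.Agent.Lib.Helper15UnivComp Groth.Agent.Lib.Helper15SmLoc
  Groth.Agent.Lib.Helper15PtsComp Groth.Agent.Lib.Helper15PtsTop Groth.Agent.Lib.Helper15PtsQc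
  Groth.Agent.Lib.Helper15FpSwap Groth.Agent.Lib.Helper15QcLocal Groth.Agent.Lib.Helper15ClosedQc
  Groth.Agent.Lib.Helper15UnivPts Groth.Agent.Lib.Helper15BaseChange
  Groth.Agent.Lib.Helper15BaseChange2
  Groth.Agent.Lib.Helper15MonoSep Groth.Agent.Lib.Helper15LocQ Groth.Agent.Lib.Helper15LocQEngine
  Groth.Agent.Lib.Helper15LocQProps Groth.Agent.Lib.Helper15LocQSpace
  Groth.Agent.Lib.Helper15LocQSpace2 Groth.Agent.Lib.Helper15LocQRep
  Groth.Agent.Lib.Helper15LocQComp Groth.Agent.Lib.Helper15GoodComp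
  Groth.Agent.Lib.Helper15LocQCancel Groth.Agent.Lib.Helper15LocQBC
  Groth.Agent.Lib.Helper15LocQDiag Groth.Agent.Lib.Helper15LocQDescent
  Groth.Agent.Lib.Helper15RepDescent Groth.Agent.Lib.Helper15QcDescent
  Groth.Agent.Lib.Helper15FppfLiftFam Groth.Agent.Lib.Helper15ValLift
  Groth.Agent.Lib.Helper15ValWit Groth.Agent.Lib.Helper15QcRep Groth.Agent.Lib.Helper15UnivComp
  Groth.Agent.Lib.Helper15QcQs Groth.Agent.Lib.Helper15QcProd Groth.Agent.Lib.Helper15.DiagBC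
  Groth.Agent.Lib.Helper15UnivInjDiag Groth.Agent.Lib.Helper15DiagSq
  Groth.Agent.Lib.Helper15PshPb Groth.Agent.Lib.Helper15DiagBridge Groth.Agent.Lib.Helper15DiagApps Groth.Agent.Lib.Helper15DiagCancel
  Groth.Agent.Lib.Helper15DiagComp Groth.Agent.Lib.Helper15QsComp Groth.Agent.Lib.Helper15MonoFF
  Groth.Agent.Lib.Helper15DiagInertia Groth.Agent.Lib.Helper15OpenSub
  Groth.Agent.Lib.Helper15EquivRep Groth.Agent.Lib.Helper15OpenSubst
  Groth.Agent.Lib.Helper15OpenImage Groth.Agent.Lib.Helper15FpqcImm Groth.Agent.Lib.Helper17.MonoFF Groth.Agent.Lib.Helper15IsoNatOpen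
  Groth.Agent.Lib.Helper15IsoNatPts Groth.Agent.Lib.Helper15IsoNatTop Groth.Agent.Lib.Helper15QsFp
  Groth.Agent.Lib.Helper15IsoNatQc Groth.Agent.Lib.Helper15SmoothLocus

section Fp

variable {S : Scheme.{u}} {𝒳 𝒴 𝒵 : AlgSt.Cat S}

/-- A category fibred in groupoids with a functor representable by algebraic spaces to one with a
smooth atlas has a smooth atlas. -/
theorem hasAtlas_of_repByAlgSp1 (h𝒳 : FibCat.IsFibGrpd 𝒳.p) (h𝒴 : FibCat.IsFibGrpd 𝒴.p)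
    (hat : AlgSt.HasAtlas (AlgSp.LocP @Smooth) 𝒴) (j : 𝒳 ⥤ᵇ 𝒴) (hj : AlgSt.RepByAlgSp1 j) :
    AlgSt.HasAtlas (AlgSp.LocP @Smooth) 𝒳 := by
  obtain ⟨V, y, hy₁, hy₂⟩ := hat
  have hV : FibCat.IsFibGrpd (FibCat.overCat V).p := (isFibSet_overForget V).1
  have hA : AlgSt.RepByAlgSp (FibCat.fp y j) := hj V y
  have hAt : AlgSt.HasAtlas (AlgSp.LocP @Smooth) (FibCat.fp y j) :=
    hasAtlas_of_repByAlgSp _ locP_smooth_of_etale_surjective hA
  exact hasAtlas_of_cover (isFibGrpd_fp y j hV h𝒳 h𝒴) (FibCat.fpSnd y j)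
    (repByAlgSpWith_fpSnd _ y j hy₁) (repByAlgSpWith_fpSnd _ y j hy₂) hAt

/-- The 2-fibre product of algebraic stacks is an algebraic stack, for any topology. -/
theorem isAlgStack_fp (K : Precoverage Scheme.{u}) (h𝒳 : AlgSt.IsAlgStack K 𝒳)
    (h𝒴 : AlgSt.IsAlgStack K 𝒴) (h𝒵 : AlgSt.IsAlgStack K 𝒵) (f : 𝒳 ⥤ᵇ 𝒵) (g : 𝒴 ⥤ᵇ 𝒵) :
    AlgSt.IsAlgStack K (FibCat.fp f g) := by
  have hpre := IsStack.isPrestack _ h𝒵.isStack
  refine ⟨Groth.Agent.S12792.result _ f g h𝒳.isStack h𝒴.isStack hpre,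
    Groth.Agent.Lib.Helper15DiagOfComp.repByAlgSp1_diag_toSelf_fp h𝒳.isStack.1 h𝒴.isStack.1
      h𝒵.isStack.1 h𝒳.diag h𝒴.diag h𝒵.diag f g, ?_⟩
  obtain ⟨U, x, hx₁, hx₂⟩ := h𝒳.atlas
  have hU : FibCat.IsFibGrpd (FibCat.overCat U).p := (isFibSet_overForget U).1
  let pr : FibCat.fp f g ⥤ᵇ 𝒳 := FibCat.fpFst f g
  have ha₁ := repByAlgSpWith_fpSnd (AlgSp.LocP @Smooth) x pr hx₁
  have ha₂ := repByAlgSpWith_fpSnd AlgSp.IsSurjectiveMor x pr hx₂
  have hxf : AlgSt.RepByAlgSp1 (BasedFunctor.comp x f) :=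
    repByAlgSp1_of_repByAlgSp1_diag h𝒵.diag U (BasedFunctor.comp x f)
  have hsnd : AlgSt.RepByAlgSp1 (FibCat.fpSnd (BasedFunctor.comp x f) g) :=
    Groth.Agent.Lib.Helper17.RepStack.repByAlgSp1_fpSnd (BasedFunctor.comp x f) g hxf
  have hBfib : FibCat.IsFibGrpd (FibCat.fp (BasedFunctor.comp x f) g).p :=
    isFibGrpd_fp _ g hU h𝒴.isStack.1 h𝒵.isStack.1
  have hB : AlgSt.HasAtlas (AlgSp.LocP @Smooth) (FibCat.fp (BasedFunctor.comp x f) g) :=
    hasAtlas_of_repByAlgSp1 hBfib h𝒴.isStack.1 h𝒴.atlas _ hsnd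
  obtain ⟨e', he', -, -⟩ := IsEquivOver.exists_inverse_isEquivOver' (pasteL g f x)
    (isEquivOver_pasteL g f x)
  have hA : AlgSt.HasAtlas (AlgSp.LocP @Smooth) (FibCat.fp x pr) :=
    Groth.Agent.Lib.Helper17.hasAtlas_of_isEquivOver _ e' he' hB
  have hfpfib : FibCat.IsFibGrpd (FibCat.fp f g).p :=
    isFibGrpd_fp f g h𝒳.isStack.1 h𝒴.isStack.1 h𝒵.isStack.1
  exact hasAtlas_of_cover (isFibGrpd_fp x pr hU hfpfib h𝒳.isStack.1) (FibCat.fpSnd x pr) ha₁ ha₂ hA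

end Fp

end Groth.Agent.Lib.Helper15FpEtale
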