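-- helper15: 2-fibre products of Deligne-Mumford stacks.
import Mathlib
import Groth.Agent.Lib.Helper15FpEtale
import Groth.Agent.S10544

set_option autoImplicit false
set_option backward.isDefEq.respectTransparency false
set_option backward.isDefEq.respectTransparency.types false
open CategoryTheory CategoryTheory.Functor CategoryTheory.Limits Opposite AlgebraicGeometry

universe u

namespace Groth.Agent.Lib.Helper15FpDM

open Groth.Agent.Lib.Helper17 Groth.Agent.Lib.Helper15PshFib Groth.Agent.Lib.Helper15RepComp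
  Groth.Agent.Lib.Helper15RepPsh Groth.Agent.Lib.Helper15DiagBase Groth.Agent.Lib.Helper15DiagRepSp
  Groth.Agent.Lib.Helper15Descent Groth.Agent.Lib.Helper15DiagLft
  Groth.Agent.Lib.Helper15DiagDescent Groth.Agent.Lib.Helper15SpMapRep
  Groth.Agent.Lib.Helper15SrcCancel Groth.Agent.Lib.Helper15ChartSp Groth.Agent.Lib.Helper15Atlas
  Groth.Agent.Lib.Helper15LocEss Groth.Agent.Lib.Helper15UnivComp Groth.Agent.Lib.Helper15SmLoc
  Groth.Agent.Lib.Helper15PtsComp Groth.Agent.Lib.Helper15PtsTop Groth.Agent.Lib.Helper15PtsQc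
  Groth.Agent.Lib.Helper15FpSwap Groth.Agent.Lib.Helper15QcLocal Groth.Agent.Lib.Helper15ClosedQc
  Groth.Agent.Lib.Helper15UnivPts Groth.Agent.Lib.Helper15BaseChange
  Groth.Agent.Lib.Helper15BaseChange2
  Groth.Agent.Lib.Helper15MonoSep Groth.Agent.Lib.Helper15LocQ Groth.Agent.Lib.Helper15LocQEngine
  Groth.Agent.Lib.Helper15LocQProps Groth.Agent.Lib.Helper15LocQSpace
  Groth.Agent.Lib.Helper15LocQSpace2 Groth.Agent.Lib.Helper15LocQRep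
  Groth.Agent.Lib.Helper15LocQComp Groth.Agent.Lib.Helper15GoodComp
  Groth.Agent.Lib.Helper15LocQCancel Groth.Agent.Lib.Helper15LocQBC
  Groth.Agent.Lib.Helper15LocQDiag Groth.Agent.Lib.Helper15LocQDescent
  Groth.Agent.Lib.Helper15RepDescent Groth.Agent.Lib.Helper15QcDescent
  Groth.Agent.Lib.Helper15FppfLiftFam Groth.Agent.Lib.Helper15ValLift
  Groth.Agent.Lib.Helper15ValWit Groth.Agent.Lib.Helper15QcRep Groth.Agent.Lib.Helper15UnivComp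
  Groth.Agent.Lib.Helper15QcQs Groth.Agent.Lib.Helper15QcProd Groth.Agent.Lib.Helper15.DiagBC
  Groth.Agent.Lib.Helper15UnivInjDiag Groth.Agent.Lib.Helper15DiagSq
  Groth.Agent.Lib.Helper15PshPb Groth.Agent.Lib.Helper15DiagBridge Groth.Agent.Lib.Helper15DiagApps Groth.Agent.Lib.Helper15DiagCancel
  Groth.Agent.Lib.Helper15DiagComp Groth.Agent.Lib.Helper15QsComp Groth.Agent.Lib.Helper15MonoFF
  Groth.Agent.Lib.Helper15DiagInertia Groth.Agent.Lib.Helper15OpenSub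
  Groth.Agent.Lib.Helper15EquivRep Groth.Agent.Lib.Helper15OpenSubst
  Groth.Agent.Lib.Helper15OpenImage Groth.Agent.Lib.Helper15FpqcImm Groth.Agent.Lib.Helper17.MonoFF Groth.Agent.Lib.Helper15IsoNatOpen
  Groth.Agent.Lib.Helper15IsoNatPts Groth.Agent.Lib.Helper15IsoNatTop Groth.Agent.Lib.Helper15QsFp
  Groth.Agent.Lib.Helper15IsoNatQc Groth.Agent.Lib.Helper15SmoothLocus Groth.Agent.Lib.Helper15FpEtale

section Fp

variable {S : Scheme.{u}} {𝒜 𝒲 𝒳 𝒴 𝒵 : AlgSt.Cat S}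

theorem compCond_isEtaleMor : CompCond (AlgSp.IsEtaleMor (S := S)) :=
  Groth.Agent.S12780.Aux.compCond_of_local _
    (fun _ _ _ _ _ _ a b ha hb => fun V φ hφ => by
      rw [← Category.assoc]
      exact hb _ (ha φ hφ))
    (isLocalOnBase_fppf_of_fpqc _ (Groth.Agent.S10544.result S))

theorem hasAtlas_etale_of_cover (h𝒜 : FibCat.IsFibGrpd 𝒜.p)
    (a : 𝒜 ⥤ᵇ 𝒲) (ha₁ : AlgSt.RepByAlgSpWith AlgSp.IsEtaleMor a)
    (ha₂ : AlgSt.RepByAlgSpWith AlgSp.IsSurjectiveMor a)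
    (hA : AlgSt.HasAtlas AlgSp.IsEtaleMor 𝒜) : AlgSt.HasAtlas AlgSp.IsEtaleMor 𝒲 := by
  obtain ⟨U, x, hx₁, hx₂⟩ := hA
  have hU : FibCat.IsFibGrpd (FibCat.overCat U).p := (isFibSet_overForget U).1
  exact ⟨U, BasedFunctor.comp x a,
    repByAlgSpWith_comp_of_compCond hU h𝒜 _ compCond_isEtaleMor x a hx₁ ha₁,
    repByAlgSpWith_comp_of_compCond hU h𝒜 _ compCond_isSurjectiveMor x a hx₂ ha₂⟩

theorem hasAtlas_etale_of_repByAlgSp1 (h𝒳 : FibCat.IsFibGrpd 𝒳.p) (h𝒴 : FibCat.IsFibGrpd 𝒴.p)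
    (hat : AlgSt.HasAtlas AlgSp.IsEtaleMor 𝒴) (j : 𝒳 ⥤ᵇ 𝒴) (hj : AlgSt.RepByAlgSp1 j) :
    AlgSt.HasAtlas AlgSp.IsEtaleMor 𝒳 := by
  obtain ⟨V, y, hy₁, hy₂⟩ := hat
  have hV : FibCat.IsFibGrpd (FibCat.overCat V).p := (isFibSet_overForget V).1
  have hA : AlgSt.RepByAlgSp (FibCat.fp y j) := hj V y
  have hAt : AlgSt.HasAtlas AlgSp.IsEtaleMor (FibCat.fp y j) :=
    hasAtlas_of_repByAlgSp _ isEtaleMor_of_etale_surjective hA
  exact hasAtlas_etale_of_cover (isFibGrpd_fp y j hV h𝒳 h𝒴) (FibCat.fpSnd y j)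
    (repByAlgSpWith_fpSnd _ y j hy₁) (repByAlgSpWith_fpSnd _ y j hy₂) hAt

/-- The 2-fibre product of Deligne-Mumford stacks is Deligne-Mumford, for any topology. -/
theorem isDM_fp (K : Precoverage Scheme.{u}) (h𝒳 : AlgSt.IsDM K 𝒳)
    (h𝒴 : AlgSt.IsDM K 𝒴) (h𝒵 : AlgSt.IsDM K 𝒵) (f : 𝒳 ⥤ᵇ 𝒵) (g : 𝒴 ⥤ᵇ 𝒵) :
    AlgSt.IsDM K (FibCat.fp f g) := by
  refine ⟨isAlgStack_fp K h𝒳.1 h𝒴.1 h𝒵.1 f g, ?_⟩
  obtain ⟨U, x, hx₁, hx₂⟩ := h𝒳.2
  have hU : FibCat.IsFibGrpd (FibCat.overCat U).p := (isFibSet_overForget U).1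
  let pr : FibCat.fp f g ⥤ᵇ 𝒳 := FibCat.fpFst f g
  have ha₁ := repByAlgSpWith_fpSnd AlgSp.IsEtaleMor x pr hx₁
  have ha₂ := repByAlgSpWith_fpSnd AlgSp.IsSurjectiveMor x pr hx₂
  have hxf : AlgSt.RepByAlgSp1 (BasedFunctor.comp x f) :=
    repByAlgSp1_of_repByAlgSp1_diag h𝒵.1.diag U (BasedFunctor.comp x f)
  have hsnd : AlgSt.RepByAlgSp1 (FibCat.fpSnd (BasedFunctor.comp x f) g) :=
    Groth.Agent.Lib.Helper17.RepStack.repByAlgSp1_fpSnd (BasedFunctor.comp x f) g hxf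
  have hBfib : FibCat.IsFibGrpd (FibCat.fp (BasedFunctor.comp x f) g).p :=
    isFibGrpd_fp _ g hU h𝒴.1.isStack.1 h𝒵.1.isStack.1
  have hB : AlgSt.HasAtlas AlgSp.IsEtaleMor (FibCat.fp (BasedFunctor.comp x f) g) :=
    hasAtlas_etale_of_repByAlgSp1 hBfib h𝒴.1.isStack.1 h𝒴.2 _ hsnd
  obtain ⟨e', he', -, -⟩ := IsEquivOver.exists_inverse_isEquivOver' (pasteL g f x)
    (isEquivOver_pasteL g f x)
  have hA : AlgSt.HasAtlas AlgSp.IsEtaleMor (FibCat.fp x pr) :=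
    Groth.Agent.Lib.Helper17.hasAtlas_of_isEquivOver _ e' he' hB
  have hfpfib : FibCat.IsFibGrpd (FibCat.fp f g).p :=
    isFibGrpd_fp f g h𝒳.1.isStack.1 h𝒴.1.isStack.1 h𝒵.1.isStack.1
  exact hasAtlas_etale_of_cover (isFibGrpd_fp x pr hU hfpfib h𝒳.1.isStack.1) (FibCat.fpSnd x pr)
    ha₁ ha₂ hA

end Fp

end Groth.Agent.Lib.Helper15FpDM
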