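-- helper15: a stack over an algebraic (resp. DM) stack whose base changes to schemes are algebraic (resp. DM) is algebraic (resp. DM).
import Mathlib
import Groth.Agent.Lib.Helper15FpDM
import Groth.Agent.Lib.Helper15DiagSq
import Groth.Agent.Lib.Helper15DiagComp2
import Groth.Agent.Lib.Helper15QsComp
import Groth.Agent.Lib.Helper15DiagOfComp

set_option autoImplicit false
set_option backward.isDefEq.respectTransparency false
set_option backward.isDefEq.respectTransparency.types false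
open CategoryTheory CategoryTheory.Functor CategoryTheory.Limits Opposite AlgebraicGeometry

universe u

namespace Groth.Agent.Lib.Helper15AlgOfFp

open Groth.Agent.Lib.Helper17 Groth.Agent.Lib.Helper15RepComp Groth.Agent.Lib.Helper15RepPsh Groth.Agent.Lib.Helper15DiagRepSp
  Groth.Agent.Lib.Helper15Atlas Groth.Agent.Lib.Helper15DiagSq Groth.Agent.Lib.Helper15DiagComp
  Groth.Agent.Lib.Helper15QsComp Groth.Agent.Lib.Helper15DiagOfComp Groth.Agent.Lib.Helper15FpDM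

variable {S : Scheme.{u}} {𝒳 𝒴 : AlgSt.Cat S}

theorem compCond_top : CompCond (⊤ : MorphismProperty (AlgSp.Sp S)) :=
  fun _ _ _ _ _ _ _ _ _ => trivial

/-- The diagonal over the base of a slice is representable by algebraic spaces. -/
theorem repByAlgSp1_diag_toSelf_overCat (T : Over S) :
    AlgSt.RepByAlgSp1 (FibCat.diag (FibCat.toSelf (FibCat.overCat T))) :=
  repByAlgSp1_diag_toSelf_iff.2 (fun U x =>
    repByAlgSp1_of_repByAlgSp (repByAlgSp_overCat U) (repByAlgSp_overCat T) x)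

/-- If all base changes of `f` to schemes have diagonals over the base representable by algebraic
spaces, and so does the target, then so does the source. -/
theorem repByAlgSp1_diag_toSelf_of_forall_fp (h𝒳 : FibCat.IsFibGrpd 𝒳.p)
    (h𝒴 : FibCat.IsFibGrpd 𝒴.p)
    (hΔ : AlgSt.RepByAlgSp1 (FibCat.diag (FibCat.toSelf 𝒴))) (f : 𝒳 ⥤ᵇ 𝒴)
    (hf : ∀ (U : Over S) (g : FibCat.overCat U ⥤ᵇ 𝒴),
      AlgSt.RepByAlgSp1 (FibCat.diag (FibCat.toSelf (FibCat.fp g f)))) :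
    AlgSt.RepByAlgSp1 (FibCat.diag (FibCat.toSelf 𝒳)) := by
  have h1 : AlgSt.RepByAlgSpWith (⊤ : MorphismProperty (AlgSp.Sp S)) (FibCat.diag f) := by
    apply repByAlgSpWith_diag_of_forall_fpFst
    intro U g
    exact (repByAlgSpWith_top_iff _).2
      (repByAlgSp1_diag_of_diag (FibCat.fpFst g f) (hf U g) (repByAlgSp1_diag_toSelf_overCat U))
  have h2 := repByAlgSpWith_diag_comp_of_compCond h𝒳 h𝒴 ⊤ compCond_top f (FibCat.toSelf 𝒴) h1
    ((repByAlgSpWith_top_iff _).2 hΔ)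
  rw [comp_toSelf] at h2
  exact (repByAlgSpWith_top_iff _).1 h2

/-- A stack in groupoids over an algebraic stack all of whose base changes to schemes are
algebraic stacks is an algebraic stack. -/
theorem isAlgStack_of_forall_fp (K : Precoverage Scheme.{u})
    (h𝒳 : Stk.IsStack (QuotSh.J K S) 𝒳) (h𝒴 : AlgSt.IsAlgStack K 𝒴) (f : 𝒳 ⥤ᵇ 𝒴)
    (hf : ∀ (U : Over S) (g : FibCat.overCat U ⥤ᵇ 𝒴), AlgSt.IsAlgStack K (FibCat.fp g f)) :
    AlgSt.IsAlgStack K 𝒳 := by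
  refine ⟨h𝒳, repByAlgSp1_diag_toSelf_of_forall_fp h𝒳.1 h𝒴.isStack.1 h𝒴.diag f
    (fun U g => (hf U g).diag), ?_⟩
  obtain ⟨V, y, hy₁, hy₂⟩ := h𝒴.atlas
  exact hasAtlas_of_cover (hf V y).isStack.1 (FibCat.fpSnd y f)
    (repByAlgSpWith_fpSnd _ y f hy₁) (repByAlgSpWith_fpSnd _ y f hy₂) (hf V y).atlas

/-- The same for Deligne-Mumford stacks. -/
theorem isDM_of_forall_fp (K : Precoverage Scheme.{u})
    (h𝒳 : Stk.IsStack (QuotSh.J K S) 𝒳) (h𝒴 : AlgSt.IsDM K 𝒴) (f : 𝒳 ⥤ᵇ 𝒴)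
    (hf : ∀ (U : Over S) (g : FibCat.overCat U ⥤ᵇ 𝒴), AlgSt.IsDM K (FibCat.fp g f)) :
    AlgSt.IsDM K 𝒳 := by
  refine ⟨isAlgStack_of_forall_fp K h𝒳 h𝒴.1 f (fun U g => (hf U g).1), ?_⟩
  obtain ⟨V, y, hy₁, hy₂⟩ := h𝒴.2
  exact hasAtlas_etale_of_cover (hf V y).1.isStack.1 (FibCat.fpSnd y f)
    (repByAlgSpWith_fpSnd _ y f hy₁) (repByAlgSpWith_fpSnd _ y f hy₂) (hf V y).2

end Groth.Agent.Lib.Helper15AlgOfFp
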