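-- helper15: the ring of elements of a group algebra constant modulo a square-zero ideal, its coefficient-at-identity homomorphism, and functorialities
import Mathlib
set_option autoImplicit false
universe u
open MonoidAlgebra

namespace Groth.Agent.Lib.Helper15Avg

section Cc

variable (R : Type u) {B : Type u} [CommRing R] [CommRing B] [Algebra R B] (I : Ideal B)
  (M : Type) [AddCommGroup M]

/-- the subalgebra of the group algebra of elements which are constant modulo `I`: all coefficients
away from the identity lie in `I`. -/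
def Cc : Subalgebra R (MonoidAlgebra B (Multiplicative M)) where
  carrier := {x | ∀ m : Multiplicative M, m ≠ 1 → x.coeff m ∈ I}
  mul_mem' := by
    intro x y hx hy m hm
    rw [coeff_mul_apply_left]
    refine Ideal.sum_mem _ (fun h _ => ?_)
    by_cases hh : h = 1
    · subst hh
      simpa using I.mul_mem_left _ (hy m hm)
    · exact I.mul_mem_right _ (hx h hh)
  add_mem' := by
    intro x y hx hy m hm
    rw [coeff_add]
    exact I.add_mem (hx m hm) (hy m hm)
  algebraMap_mem' := by
    intro r m hm
    rw [coe_algebraMap, Function.comp_apply, coeff_single, Finsupp.single_eq_of_ne hm]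
    exact I.zero_mem

variable {R I M}

lemma mem_Cc {x : MonoidAlgebra B (Multiplicative M)} :
    x ∈ Cc R I M ↔ ∀ m : Multiplicative M, m ≠ 1 → x.coeff m ∈ I := Iff.rfl

variable (R I M)

/-- the coefficient at the identity, a ring homomorphism on `Cc` when `I` has square zero. -/
def pi0 (hI : I * I = ⊥) : Cc R I M →ₐ[R] B where
  toFun x := x.1.coeff 1
  map_one' := by
    change (1 : MonoidAlgebra B (Multiplicative M)).coeff 1 = 1
    exact coeff_one_one
  map_mul' := by
    intro x y
    change (x.1 * y.1).coeff 1 = x.1.coeff 1 * y.1.coeff 1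
    rw [coeff_mul_apply_left]
    refine (Finsupp.sum_eq_single (1 : Multiplicative M) ?_ ?_).trans ?_
    · intro h _ hh
      have h1 : x.1.coeff h * y.1.coeff (h⁻¹ * 1) ∈ I * I :=
        Ideal.mul_mem_mul (x.2 h hh) (y.2 _ (by simpa using hh))
      rw [hI] at h1
      exact h1
    · intro _
      exact zero_mul _
    · simp
  map_zero' := rfl
  map_add' := by
    intro x y
    rfl
  commutes' := by
    intro r
    change (algebraMap R (MonoidAlgebra B (Multiplicative M)) r).coeff 1 = _
    rw [coe_algebraMap, Function.comp_apply, coeff_single, Finsupp.single_eq_same]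

@[simp] lemma pi0_apply (hI : I * I = ⊥) (x : Cc R I M) : pi0 R I M hI x = x.1.coeff 1 := rfl

/-- the augmentation of the group algebra. -/
noncomputable def aug (B : Type u) [CommRing B] [Algebra R B] :
    MonoidAlgebra B (Multiplicative M) →ₐ[R] B :=
  (MonoidAlgebra.lift B B (Multiplicative M) 1).restrictScalars R

lemma aug_apply (x : MonoidAlgebra B (Multiplicative M)) :
    aug R M B x = x.coeff.sum fun _ b => b := by
  change MonoidAlgebra.lift B B (Multiplicative M) 1 x = _
  rw [lift_apply]
  simp

variable {R I M} in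
/-- modulo `I`, the coefficient at the identity of an element of `Cc` is its augmentation. -/
lemma mk_aug_eq (x : Cc R I M) :
    Ideal.Quotient.mk I (aug R M B x.1) = Ideal.Quotient.mk I (x.1.coeff 1) := by
  rw [aug_apply, Finsupp.sum, map_sum]
  by_cases h1 : (1 : Multiplicative M) ∈ x.1.coeff.support
  · rw [Finset.sum_eq_single_of_mem 1 h1]
    intro m _ hm
    exact Ideal.Quotient.eq_zero_iff_mem.2 (x.2 m hm)
  · rw [Finsupp.notMem_support_iff.1 h1]
    refine (Finset.sum_eq_zero ?_).trans (map_zero _).symm
    intro m hm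
    have hm1 : m ≠ 1 := by
      rintro rfl
      exact h1 hm
    exact Ideal.Quotient.eq_zero_iff_mem.2 (x.2 m hm1)

variable {R I M} in
/-- every prime of `Cc` is the contraction of a prime of the group algebra. -/
theorem comap_val_surjective (hI : I * I = ⊥) :
    Function.Surjective (PrimeSpectrum.comap (Cc R I M).val.toRingHom) := by
  intro 𝔭
  obtain ⟨κ, hκ⟩ : ∃ κ : Cc R I M →+* B ⧸ I,
      κ = (Ideal.Quotient.mk I).comp (pi0 R I M hI).toRingHom := ⟨_, rfl⟩
  have hκs : Function.Surjective κ := by
    intro c
    obtain ⟨b, rfl⟩ := Ideal.Quotient.mk_surjective c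
    refine ⟨⟨single 1 b, ?_⟩, ?_⟩
    · intro m hm
      rw [coeff_single, Finsupp.single_eq_of_ne hm]
      exact I.zero_mem
    · rw [hκ]
      change Ideal.Quotient.mk I ((single (1 : Multiplicative M) b).coeff 1) = _
      rw [coeff_single, Finsupp.single_eq_same]
  have hker : RingHom.ker κ ≤ 𝔭.asIdeal := by
    intro x hx
    rw [RingHom.mem_ker, hκ] at hx
    have hx1 : x.1.coeff 1 ∈ I := Ideal.Quotient.eq_zero_iff_mem.1 hx
    have hall : ∀ m, x.1.coeff m ∈ I := by
      intro m
      by_cases hm : m = 1
      · rw [hm]; exact hx1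
      · exact x.2 m hm
    have hsq : x * x = 0 := by
      apply Subtype.ext
      apply MonoidAlgebra.ext
      ext g
      change (x.1 * x.1).coeff g = 0
      rw [coeff_mul_apply_left]
      refine Finset.sum_eq_zero (fun h _ => ?_)
      have : x.1.coeff h * x.1.coeff (h⁻¹ * g) ∈ I * I := Ideal.mul_mem_mul (hall _) (hall _)
      rw [hI] at this
      exact this
    have : x * x ∈ 𝔭.asIdeal := by rw [hsq]; exact 𝔭.asIdeal.zero_mem
    exact (𝔭.isPrime.mem_or_mem this).elim id id
  have hprime : (𝔭.asIdeal.map κ).IsPrime := Ideal.map_isPrime_of_surjective hκs hker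
  have hcm : (𝔭.asIdeal.map κ).comap κ = 𝔭.asIdeal := by
    rw [Ideal.comap_map_of_surjective κ hκs]
    exact sup_eq_left.2 (by rwa [← RingHom.ker_eq_comap_bot])
  have hfac : κ = ((Ideal.Quotient.mk I).comp (aug R M B).toRingHom).comp
      (Cc R I M).val.toRingHom := by
    rw [hκ]
    ext x
    exact (mk_aug_eq x).symm
  refine ⟨⟨(𝔭.asIdeal.map κ).comap ((Ideal.Quotient.mk I).comp (aug R M B).toRingHom),
    inferInstance⟩, ?_⟩
  apply PrimeSpectrum.ext
  change ((𝔭.asIdeal.map κ).comap _).comap _ = _
  rw [Ideal.comap_comap, ← hfac, hcm]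

end Cc

section MapC

variable (R : Type u) {B B' : Type u} [CommRing R] [CommRing B] [CommRing B'] [Algebra R B]
  [Algebra R B'] (I : Ideal B) (I' : Ideal B') (M : Type) [AddCommGroup M]
  (ψ : B →ₐ[R] B') (hψ : ∀ b ∈ I, ψ b ∈ I')

/-- functoriality of `Cc` in the coefficient ring. -/
noncomputable def mapC : Cc R I M →ₐ[R] Cc R I' M :=
  ((mapAlgHom (Multiplicative M) ψ).comp (Cc R I M).val).codRestrict (Cc R I' M) (by
    intro x m hm
    change (mapAlgHom (Multiplicative M) ψ x.1).coeff m ∈ I'
    rw [coeff_mapAlgHom]
    exact hψ _ (x.2 m hm))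

lemma val_comp_mapC :
    (Cc R I' M).val.comp (mapC R I I' M ψ hψ) =
      (mapAlgHom (Multiplicative M) ψ).comp (Cc R I M).val := by
  ext x
  rfl

lemma pi0_comp_mapC (hI : I * I = ⊥) (hI' : I' * I' = ⊥) :
    (pi0 R I' M hI').comp (mapC R I I' M ψ hψ) = ψ.comp (pi0 R I M hI) := by
  ext x
  change (mapAlgHom (Multiplicative M) ψ x.1).coeff 1 = ψ (x.1.coeff 1)
  rw [coeff_mapAlgHom]

end MapC

section Theta

variable (R : Type u) {B : Type u} [CommRing R] [CommRing B] [Algebra R B] (I : Ideal B)
  (M M' : Type) [AddCommGroup M] [AddCommGroup M']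
  (θ : MonoidAlgebra B (Multiplicative M) →ₐ[B] MonoidAlgebra B (Multiplicative M'))

variable {M M'} in
lemma theta_coeff (x : MonoidAlgebra B (Multiplicative M)) (m' : Multiplicative M') :
    (θ x).coeff m' = x.coeff.sum fun m b => b * (θ (single m 1)).coeff m' := by
  conv_lhs => rw [← sum_coeff_single x]
  rw [map_finsuppSum, coeff_finsuppSum, Finsupp.sum_apply]
  refine Finsupp.sum_congr (fun m _ => ?_)
  have h1 : single m (x.coeff m) = x.coeff m • (single m (1 : B) : MonoidAlgebra B _) := by
    rw [smul_single', _root_.mul_one]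
  rw [h1, map_smul, coeff_smul_apply, smul_eq_mul]

/-- functoriality of `Cc` for algebra maps between group algebras over the same ring. -/
noncomputable def thetaC : Cc R I M →ₐ[R] Cc R I M' :=
  ((θ.restrictScalars R).comp (Cc R I M).val).codRestrict (Cc R I M') (by
    intro x m' hm'
    change (θ x.1).coeff m' ∈ I
    rw [theta_coeff]
    refine Ideal.sum_mem _ (fun m _ => ?_)
    by_cases hm : m = 1
    · subst hm
      have h1 : (single (1 : Multiplicative M) (1 : B) : MonoidAlgebra B _) = 1 := rfl
      have h2 : (θ 1).coeff m' = 0 := by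
        rw [map_one θ, one_def, coeff_single, Finsupp.single_eq_of_ne hm']
      change (x.1.coeff 1) * (θ (single 1 1)).coeff m' ∈ I
      rw [h1, h2, mul_zero]
      exact I.zero_mem
    · exact I.mul_mem_right _ (x.2 m hm))

lemma val_comp_thetaC :
    (Cc R I M').val.comp (thetaC R I M M' θ) = (θ.restrictScalars R).comp (Cc R I M).val := by
  ext x
  rfl

lemma pi0_comp_thetaC (hI : I * I = ⊥)
    (hθ : ∀ m : Multiplicative M, m ≠ 1 → (θ (single m 1)).coeff 1 = 0) :
    (pi0 R I M' hI).comp (thetaC R I M M' θ) = pi0 R I M hI := by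
  ext x
  change (θ x.1).coeff 1 = x.1.coeff 1
  rw [theta_coeff]
  refine (Finsupp.sum_eq_single (1 : Multiplicative M) ?_ ?_).trans ?_
  · intro m _ hm
    rw [hθ m hm, mul_zero]
  · intro _
    exact zero_mul _
  · have h1 : (single (1 : Multiplicative M) (1 : B) : MonoidAlgebra B _) = 1 := rfl
    have h2 : (θ 1).coeff 1 = 1 := by
      rw [map_one θ]
      exact coeff_one_one
    rw [h1, h2, _root_.mul_one]

end Theta

section Level2

variable (R : Type u) {C : Type u} [CommRing R] [CommRing C] [Algebra R C] (I : Ideal C)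
  (M : Type) [AddCommGroup M]

/-- the ideal of the group algebra of elements with all coefficients in `I`. -/
def I1 : Ideal (MonoidAlgebra C (Multiplicative M)) where
  carrier := {x | ∀ m, x.coeff m ∈ I}
  add_mem' := by
    intro x y hx hy m
    rw [coeff_add]
    exact I.add_mem (hx m) (hy m)
  zero_mem' := by
    intro m
    exact I.zero_mem
  smul_mem' := by
    intro a x hx m
    rw [smul_eq_mul, coeff_mul_apply_left]
    exact Ideal.sum_mem _ (fun h _ => I.mul_mem_left _ (hx _))

variable {I M} in
lemma mem_I1 {x : MonoidAlgebra C (Multiplicative M)} : x ∈ I1 I M ↔ ∀ m, x.coeff m ∈ I := Iff.rfl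

lemma I1_sq (hI : I * I = ⊥) : I1 I M * I1 I M = ⊥ := by
  rw [eq_bot_iff, Ideal.mul_le]
  intro x hx y hy
  rw [Ideal.mem_bot]
  apply MonoidAlgebra.ext
  ext g
  rw [coeff_mul_apply_left]
  refine Finset.sum_eq_zero (fun h _ => ?_)
  have : x.coeff h * y.coeff (h⁻¹ * g) ∈ I * I := Ideal.mul_mem_mul (hx _) (hy _)
  rw [hI] at this
  exact this

/-- the constant character of the iterated group algebra. -/
noncomputable def chi1 : Multiplicative M →*
    MonoidAlgebra (MonoidAlgebra C (Multiplicative M)) (Multiplicative M) :=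
  ((algebraMap (MonoidAlgebra C (Multiplicative M))
    (MonoidAlgebra (MonoidAlgebra C (Multiplicative M)) (Multiplicative M)) : _ →* _)).comp
    (of C (Multiplicative M))

/-- the outer character of the iterated group algebra. -/
noncomputable def chi2 : Multiplicative M →*
    MonoidAlgebra (MonoidAlgebra C (Multiplicative M)) (Multiplicative M) :=
  of (MonoidAlgebra C (Multiplicative M)) (Multiplicative M)

/-- the comultiplication into the iterated group algebra. -/
noncomputable def mu : MonoidAlgebra C (Multiplicative M) →ₐ[C]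
    MonoidAlgebra (MonoidAlgebra C (Multiplicative M)) (Multiplicative M) :=
  MonoidAlgebra.lift C _ (Multiplicative M) (chi1 M * chi2 M)

/-- the base change of the group algebra to itself. -/
noncomputable def qq : MonoidAlgebra C (Multiplicative M) →ₐ[C]
    MonoidAlgebra (MonoidAlgebra C (Multiplicative M)) (Multiplicative M) :=
  MonoidAlgebra.lift C _ (Multiplicative M) (chi2 M)

/-- the constants of the iterated group algebra. -/
noncomputable def pp : MonoidAlgebra C (Multiplicative M) →ₐ[C]
    MonoidAlgebra (MonoidAlgebra C (Multiplicative M)) (Multiplicative M) :=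
  IsScalarTower.toAlgHom C _ _

variable {M}

lemma mu_single (m : Multiplicative M) (b : C) :
    mu M (single m b) = single m (single m b) := by
  unfold mu
  rw [lift_single, MonoidHom.mul_apply]
  unfold chi1 chi2
  simp only [MonoidHom.coe_comp, MonoidHom.coe_coe, Function.comp_apply, of_apply,
    coe_algebraMap, Algebra.algebraMap_self, RingHom.id_apply, single_mul_single, one_mul, mul_one]
  rw [smul_single, smul_single', _root_.mul_one]

lemma qq_single (m : Multiplicative M) (b : C) :
    qq M (single m b) = single m (single 1 b) := by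
  unfold qq
  rw [lift_single]
  unfold chi2
  rw [of_apply, smul_single]
  congr 1
  change b • (single (1 : Multiplicative M) (1 : C)) = _
  rw [smul_single', _root_.mul_one]

lemma mu_coeff (x : MonoidAlgebra C (Multiplicative M)) (m : Multiplicative M) :
    (mu M x).coeff m = single m (x.coeff m) := by
  induction x using MonoidAlgebra.induction_linear with
  | zero => simp
  | add x y hx hy => rw [map_add, coeff_add, Finsupp.add_apply, hx, hy, coeff_add,
      Finsupp.add_apply, single_add]
  | single a b =>
    rw [mu_single, coeff_single, coeff_single]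
    by_cases h : a = m
    · subst h
      rw [Finsupp.single_eq_same, Finsupp.single_eq_same]
    · rw [Finsupp.single_eq_of_ne (Ne.symm h), Finsupp.single_eq_of_ne (Ne.symm h), single_zero]

lemma qq_coeff (x : MonoidAlgebra C (Multiplicative M)) (m : Multiplicative M) :
    (qq M x).coeff m = single 1 (x.coeff m) := by
  induction x using MonoidAlgebra.induction_linear with
  | zero => simp
  | add x y hx hy => rw [map_add, coeff_add, Finsupp.add_apply, hx, hy, coeff_add,
      Finsupp.add_apply, single_add]
  | single a b =>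
    rw [qq_single, coeff_single, coeff_single]
    by_cases h : a = m
    · subst h
      rw [Finsupp.single_eq_same, Finsupp.single_eq_same]
    · rw [Finsupp.single_eq_of_ne (Ne.symm h), Finsupp.single_eq_of_ne (Ne.symm h), single_zero]

lemma pp_apply (a : MonoidAlgebra C (Multiplicative M)) : pp M a = single 1 a := rfl

lemma single_mem_I1 {m : Multiplicative M} {b : C} (hb : b ∈ I) :
    (single m b : MonoidAlgebra C (Multiplicative M)) ∈ I1 I M := by
  intro m'
  rw [coeff_single]
  by_cases h : m = m'
  · subst h
    rw [Finsupp.single_eq_same]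
    exact hb
  · rw [Finsupp.single_eq_of_ne (Ne.symm h)]
    exact I.zero_mem

variable (M)

/-- the comultiplication on `Cc`. -/
noncomputable def muC : Cc R I M →ₐ[R] Cc R (I1 I M) M :=
  (((mu M).restrictScalars R).comp (Cc R I M).val).codRestrict (Cc R (I1 I M) M) (by
    intro x m hm
    change (mu M x.1).coeff m ∈ I1 I M
    rw [mu_coeff]
    exact single_mem_I1 I (x.2 m hm))

/-- the base change on `Cc`. -/
noncomputable def qC : Cc R I M →ₐ[R] Cc R (I1 I M) M :=
  (((qq M).restrictScalars R).comp (Cc R I M).val).codRestrict (Cc R (I1 I M) M) (by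
    intro x m hm
    change (qq M x.1).coeff m ∈ I1 I M
    rw [qq_coeff]
    exact single_mem_I1 I (x.2 m hm))

/-- the constants of the second-level `Cc`. -/
noncomputable def sig2 : MonoidAlgebra C (Multiplicative M) →ₐ[R] Cc R (I1 I M) M :=
  ((pp M).restrictScalars R).codRestrict (Cc R (I1 I M) M) (by
    intro a m hm
    change (pp M a).coeff m ∈ I1 I M
    rw [pp_apply, coeff_single, Finsupp.single_eq_of_ne hm]
    exact (I1 I M).zero_mem)

lemma val_comp_muC : (Cc R (I1 I M) M).val.comp (muC R I M) =
    ((mu M).restrictScalars R).comp (Cc R I M).val := by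
  ext x
  rfl

lemma val_comp_qC : (Cc R (I1 I M) M).val.comp (qC R I M) =
    ((qq M).restrictScalars R).comp (Cc R I M).val := by
  ext x
  rfl

lemma val_comp_sig2 : (Cc R (I1 I M) M).val.comp (sig2 R I M) = (pp M).restrictScalars R :=
  AlgHom.ext (fun _ => rfl)

lemma pi0_comp_muC (hI : I * I = ⊥) :
    (pi0 R (I1 I M) M (I1_sq I M hI)).comp (muC R I M) =
      (IsScalarTower.toAlgHom R C (MonoidAlgebra C (Multiplicative M))).comp (pi0 R I M hI) := by
  refine AlgHom.ext (fun x => ?_)
  change (mu M x.1).coeff 1 = algebraMap C _ (x.1.coeff 1)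
  rw [mu_coeff]
  rfl

lemma pi0_comp_qC (hI : I * I = ⊥) :
    (pi0 R (I1 I M) M (I1_sq I M hI)).comp (qC R I M) =
      (IsScalarTower.toAlgHom R C (MonoidAlgebra C (Multiplicative M))).comp (pi0 R I M hI) := by
  refine AlgHom.ext (fun x => ?_)
  change (qq M x.1).coeff 1 = algebraMap C _ (x.1.coeff 1)
  rw [qq_coeff]
  rfl

lemma pi0_comp_sig2 (hI : I * I = ⊥) :
    (pi0 R (I1 I M) M (I1_sq I M hI)).comp (sig2 R I M) = AlgHom.id R _ := by
  refine AlgHom.ext (fun a => ?_)
  change (pp M a).coeff 1 = a
  rw [pp_apply, coeff_single, Finsupp.single_eq_same]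

variable {M} in
lemma mu_of (m : Multiplicative M) :
    mu (C := C) M (of C (Multiplicative M) m) = chi1 M m * chi2 M m := by
  unfold mu
  rw [lift_of, MonoidHom.mul_apply]

variable {M} in
lemma qq_of (m : Multiplicative M) : qq (C := C) M (of C (Multiplicative M) m) = chi2 M m := by
  unfold qq
  rw [lift_of]

variable {M} in
lemma pp_of (m : Multiplicative M) : pp (C := C) M (of C (Multiplicative M) m) = chi1 M m := rfl

end Level2

section GroupLike

variable {B : Type u} [CommRing B] {M M' : Type} [AddCommGroup M] [AddCommGroup M']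
  (Θ : Multiplicative M →* MonoidAlgebra B (Multiplicative M'))

/-- a character of `M` with values in the group algebra of `M'` which is group-like and induces an
injective map of group algebras has no constant term away from the identity. -/
theorem coeff_one_eq_zero_of_groupLike
    (hgl : ∀ m, mu M' (Θ m) = pp M' (Θ m) * qq M' (Θ m))
    (hinj : Function.Injective (MonoidAlgebra.lift B _ (Multiplicative M) Θ))
    (m : Multiplicative M) (hm : m ≠ 1) : (Θ m).coeff 1 = 0 := by
  obtain ⟨t, ht⟩ : ∃ t, t = Θ m := ⟨_, rfl⟩
  obtain ⟨c, hc⟩ : ∃ c, c = t.coeff 1 := ⟨_, rfl⟩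
  have h1 := congrArg (fun z => z.coeff 1) (hgl m)
  simp only [← ht] at h1
  rw [mu_coeff, pp_apply, coeff_single_mul_apply, inv_one, _root_.one_mul, qq_coeff, ← hc] at h1
  have h2 : MonoidAlgebra.lift B _ (Multiplicative M) Θ (single 1 c) =
      MonoidAlgebra.lift B _ (Multiplicative M) Θ (single m c) := by
    rw [lift_single, lift_single, map_one, ← ht]
    have e1 : c • (1 : MonoidAlgebra B (Multiplicative M')) = single 1 c := by
      rw [one_def, smul_single', _root_.mul_one]
    have e2 : c • t = t * single 1 c := by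
      rw [← e1, mul_smul_comm, _root_.mul_one]
    rw [e1, e2]
    exact h1
  have h3 := congrArg (fun z => z.coeff 1) (hinj h2)
  simp only [coeff_single, Finsupp.single_eq_same] at h3
  rw [Finsupp.single_eq_of_ne (Ne.symm hm)] at h3
  rw [← ht, ← hc]
  exact h3

end GroupLike

end Groth.Agent.Lib.Helper15Avg
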