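-- helper15: averaging over a diagonalisable group for a separated group-valued functor: existence-free core (solution property, canonicity, base change)
import Mathlib
import Groth.Agent.Lib.Helper15AvgRing
set_option autoImplicit false
universe u
open MonoidAlgebra

namespace Groth.Agent.Lib.Helper15Avg

/-- a separated group-valued functor on algebras over `R`. -/
structure AGF (R : Type u) [CommRing R] where
  G : ∀ (D : Type u) [CommRing D] [Algebra R D], GrpCat.{u}
  map : ∀ {D D' : Type u} [CommRing D] [CommRing D'] [Algebra R D] [Algebra R D'],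
    (D →ₐ[R] D') → (G D →* G D')
  map_id : ∀ {D : Type u} [CommRing D] [Algebra R D] (x : G D), map (AlgHom.id R D) x = x
  map_comp : ∀ {D D' D'' : Type u} [CommRing D] [CommRing D'] [CommRing D''] [Algebra R D]
    [Algebra R D'] [Algebra R D''] (ρ : D →ₐ[R] D') (ρ' : D' →ₐ[R] D'') (x : G D),
    map ρ' (map ρ x) = map (ρ'.comp ρ) x
  sep : ∀ {D D' : Type u} [CommRing D] [CommRing D'] [Algebra R D] [Algebra R D']
    (ρ : D →ₐ[R] D'), Function.Injective ρ →
      Function.Surjective (PrimeSpectrum.comap ρ.toRingHom) → Function.Injective (map ρ)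

variable {R : Type u} [CommRing R] (𝒢 : AGF R)

/-- a multiplicative natural family of points indexed by characters of `M`, over a base algebra
`C`. -/
structure Fam (C : Type u) [CommRing C] [Algebra R C] (M : Type) [AddCommGroup M] where
  pt : ∀ (D : Type u) [CommRing D] [Algebra R D] [Algebra C D] [IsScalarTower R C D],
    (Multiplicative M →* D) → 𝒢.G D
  mul : ∀ (D : Type u) [CommRing D] [Algebra R D] [Algebra C D] [IsScalarTower R C D]
    (χ χ' : Multiplicative M →* D), pt D (χ * χ') = pt D χ * pt D χ'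
  nat : ∀ {D D' : Type u} [CommRing D] [CommRing D'] [Algebra R D] [Algebra R D'] [Algebra C D]
    [Algebra C D'] [IsScalarTower R C D] [IsScalarTower R C D'] (ρ : D →ₐ[C] D')
    (χ : Multiplicative M →* D),
    𝒢.map (ρ.restrictScalars R) (pt D χ) = pt D' ((ρ : D →* D').comp χ)

variable {𝒢} {C : Type u} [CommRing C] [Algebra R C] {M : Type} [AddCommGroup M]

lemma Fam.pt_one (U : Fam 𝒢 C M) (D : Type u) [CommRing D] [Algebra R D] [Algebra C D]
    [IsScalarTower R C D] : U.pt D 1 = 1 := by
  have h := U.mul D 1 1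
  rw [_root_.mul_one] at h
  exact (mul_eq_left.1 h.symm)

variable (U V : Fam 𝒢 C M) (I : Ideal C) (hI : I * I = ⊥)

/-- `g` is the average of the difference of the two families over the universal character. -/
def IsAvg (g : 𝒢.G C) : Prop :=
  ∃ dC : 𝒢.G (Cc R I M), 𝒢.map (Cc R I M).val dC =
      V.pt (MonoidAlgebra C (Multiplicative M)) (of C (Multiplicative M)) *
        (U.pt (MonoidAlgebra C (Multiplicative M)) (of C (Multiplicative M)))⁻¹ ∧
    𝒢.map (pi0 R I M hI) dC = g

variable {U V I hI}

theorem IsAvg.unique {g g' : 𝒢.G C} (h : IsAvg U V I hI g) (h' : IsAvg U V I hI g') : g = g' := by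
  obtain ⟨dC, h1, rfl⟩ := h
  obtain ⟨dC', h1', rfl⟩ := h'
  have : dC = dC' := 𝒢.sep (Cc R I M).val Subtype.val_injective (comap_val_surjective hI)
    (h1.trans h1'.symm)
  rw [this]

lemma mu_comp_of : ((mu (C := C) M : MonoidAlgebra C (Multiplicative M) →*
    MonoidAlgebra (MonoidAlgebra C (Multiplicative M)) (Multiplicative M))).comp
      (of C (Multiplicative M)) = chi1 M * chi2 M := by
  refine MonoidHom.ext (fun m => ?_)
  exact mu_of m

lemma qq_comp_of : ((qq (C := C) M : MonoidAlgebra C (Multiplicative M) →*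
    MonoidAlgebra (MonoidAlgebra C (Multiplicative M)) (Multiplicative M))).comp
      (of C (Multiplicative M)) = chi2 M := by
  refine MonoidHom.ext (fun m => ?_)
  exact qq_of m

lemma pp_comp_of : ((pp (C := C) M : MonoidAlgebra C (Multiplicative M) →*
    MonoidAlgebra (MonoidAlgebra C (Multiplicative M)) (Multiplicative M))).comp
      (of C (Multiplicative M)) = chi1 M := by
  refine MonoidHom.ext (fun m => ?_)
  exact pp_of m

/-- the universal identity: over the group algebra, the second family is conjugate to the first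
by the average. -/
theorem IsAvg.solves_univ {g : 𝒢.G C} (h : IsAvg U V I hI g) :
    V.pt (MonoidAlgebra C (Multiplicative M)) (of C (Multiplicative M)) =
      𝒢.map (IsScalarTower.toAlgHom R C (MonoidAlgebra C (Multiplicative M))) g *
        U.pt (MonoidAlgebra C (Multiplicative M)) (of C (Multiplicative M)) *
        (𝒢.map (IsScalarTower.toAlgHom R C (MonoidAlgebra C (Multiplicative M))) g)⁻¹ := by
  obtain ⟨dC, hd, rfl⟩ := h
  obtain ⟨a, ha⟩ : ∃ a, a = V.pt (MonoidAlgebra C (Multiplicative M)) (of C (Multiplicative M)) :=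
    ⟨_, rfl⟩
  obtain ⟨b, hb⟩ : ∃ b, b = U.pt (MonoidAlgebra C (Multiplicative M)) (of C (Multiplicative M)) :=
    ⟨_, rfl⟩
  rw [← ha, ← hb] at hd ⊢
  -- the cocycle identity over the iterated group algebra
  have hμa : 𝒢.map ((mu M).restrictScalars R) a =
      𝒢.map ((pp M).restrictScalars R) a * 𝒢.map ((qq M).restrictScalars R) a := by
    rw [ha, V.nat, V.nat, V.nat, mu_comp_of, pp_comp_of, qq_comp_of, V.mul]
  have hμb : 𝒢.map ((mu M).restrictScalars R) b =
      𝒢.map ((pp M).restrictScalars R) b * 𝒢.map ((qq M).restrictScalars R) b := by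
    rw [hb, U.nat, U.nat, U.nat, mu_comp_of, pp_comp_of, qq_comp_of, U.mul]
  obtain ⟨L, hL⟩ : ∃ L, L = 𝒢.map (muC R I M) dC := ⟨_, rfl⟩
  obtain ⟨Rr, hRr⟩ : ∃ Rr, Rr = 𝒢.map (sig2 R I M) (a * b⁻¹) *
      (𝒢.map (sig2 R I M) b * 𝒢.map (qC R I M) dC * (𝒢.map (sig2 R I M) b)⁻¹) := ⟨_, rfl⟩
  have hLR : L = Rr := by
    apply 𝒢.sep (Cc R (I1 I M) M).val Subtype.val_injective
      (comap_val_surjective (I1_sq I M hI))
    rw [hL, hRr, 𝒢.map_comp, val_comp_muC, ← 𝒢.map_comp, hd]
    simp only [map_mul, map_inv, 𝒢.map_comp, val_comp_sig2, val_comp_qC]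
    rw [← 𝒢.map_comp _ ((qq M).restrictScalars R), hd]
    simp only [map_mul, map_inv]
    rw [hμa, hμb]
    group
  have key := congrArg (𝒢.map (pi0 R (I1 I M) M (I1_sq I M hI))) hLR
  rw [hL, hRr] at key
  simp only [map_mul, map_inv, 𝒢.map_comp] at key
  rw [pi0_comp_muC R I M hI, pi0_comp_qC R I M hI, pi0_comp_sig2 R I M hI] at key
  simp only [𝒢.map_id] at key
  rw [← 𝒢.map_comp] at key
  obtain ⟨γ, hγ⟩ : ∃ γ, γ = 𝒢.map (IsScalarTower.toAlgHom R C (MonoidAlgebra C (Multiplicative M)))
      (𝒢.map (pi0 R I M hI) dC) := ⟨_, rfl⟩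
  rw [← hγ] at key ⊢
  have : a = γ * b * γ⁻¹ := by
    have h2 : γ * b = a * γ := by
      conv_lhs => rw [key]
      group
    calc a = (a * γ) * γ⁻¹ := by group
      _ = γ * b * γ⁻¹ := by rw [← h2]
  exact this

/-- over any algebra, the second family is conjugate to the first by the average. -/
theorem IsAvg.solves {g : 𝒢.G C} (h : IsAvg U V I hI g) (D : Type u) [CommRing D] [Algebra R D]
    [Algebra C D] [IsScalarTower R C D] (χ : Multiplicative M →* D) :
    V.pt D χ = 𝒢.map (IsScalarTower.toAlgHom R C D) g * U.pt D χ *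
      (𝒢.map (IsScalarTower.toAlgHom R C D) g)⁻¹ := by
  have h1 := congrArg (𝒢.map ((MonoidAlgebra.lift C D (Multiplicative M) χ).restrictScalars R))
    h.solves_univ
  have hχ : ((MonoidAlgebra.lift C D (Multiplicative M) χ : MonoidAlgebra C (Multiplicative M) →* D)).comp
      (of C (Multiplicative M)) = χ := by
    refine MonoidHom.ext (fun m => ?_)
    exact lift_of χ m
  have hc : ((MonoidAlgebra.lift C D (Multiplicative M) χ).restrictScalars R).comp
      (IsScalarTower.toAlgHom R C (MonoidAlgebra C (Multiplicative M))) =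
        IsScalarTower.toAlgHom R C D := by
    refine AlgHom.ext (fun c => ?_)
    exact (MonoidAlgebra.lift C D (Multiplicative M) χ).commutes c
  simp only [map_mul, map_inv, 𝒢.map_comp] at h1
  rw [V.nat, U.nat, hχ, hc] at h1
  exact h1

/-- the average is trivial modulo `I`. -/
theorem IsAvg.mod {g : 𝒢.G C} (h : IsAvg U V I hI g) : 𝒢.map (Ideal.Quotient.mkₐ R I) g = 1 := by
  obtain ⟨dC, hd, rfl⟩ := h
  have hfac : (Ideal.Quotient.mkₐ R I).comp (pi0 R I M hI) =
      ((Ideal.Quotient.mkₐ R I).comp (aug R M C)).comp (Cc R I M).val := by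
    refine AlgHom.ext (fun x => ?_)
    exact (mk_aug_eq x).symm
  have h1 : ((MonoidAlgebra.lift C C (Multiplicative M) 1 : MonoidAlgebra C (Multiplicative M) →* C)).comp
      (of C (Multiplicative M)) = 1 := by
    refine MonoidHom.ext (fun m => ?_)
    exact lift_of _ m
  rw [𝒢.map_comp, hfac, ← 𝒢.map_comp, hd, ← 𝒢.map_comp]
  unfold aug
  rw [map_mul, map_inv, V.nat, U.nat, h1, V.pt_one, U.pt_one]
  simp

section Transfer

variable {M' : Type} [AddCommGroup M'] {U' V' : Fam 𝒢 C M'}
  (Θ : Multiplicative M →* MonoidAlgebra C (Multiplicative M'))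

lemma lift_of_eq_id (D : Type u) [CommRing D] (N : Type) [AddCommGroup N] :
    MonoidAlgebra.lift D (MonoidAlgebra D (Multiplicative N)) (Multiplicative N)
      (of D (Multiplicative N)) = AlgHom.id D _ := by
  have h : of D (Multiplicative N) =
      (MonoidAlgebra.lift D (MonoidAlgebra D (Multiplicative N)) (Multiplicative N)).symm
        (AlgHom.id D _) := by
    refine MonoidHom.ext (fun m => ?_)
    rfl
  rw [h, Equiv.apply_symm_apply]

/-- the average does not depend on the parametrisation of the families by characters. -/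
theorem IsAvg.transfer {g : 𝒢.G C} (h : IsAvg U V I hI g)
    (hU : ∀ (D : Type u) [CommRing D] [Algebra R D] [Algebra C D] [IsScalarTower R C D]
      (χ' : Multiplicative M' →* D), U'.pt D χ' = U.pt D
        (((MonoidAlgebra.lift C D (Multiplicative M') χ' :
          MonoidAlgebra C (Multiplicative M') →* D)).comp Θ))
    (hV : ∀ (D : Type u) [CommRing D] [Algebra R D] [Algebra C D] [IsScalarTower R C D]
      (χ' : Multiplicative M' →* D), V'.pt D χ' = V.pt D
        (((MonoidAlgebra.lift C D (Multiplicative M') χ' :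
          MonoidAlgebra C (Multiplicative M') →* D)).comp Θ))
    (hΘ : ∀ m : Multiplicative M, m ≠ 1 → (Θ m).coeff 1 = 0) : IsAvg U' V' I hI g := by
  obtain ⟨dC, hd, rfl⟩ := h
  obtain ⟨θ, hθ⟩ : ∃ θ, θ = MonoidAlgebra.lift C (MonoidAlgebra C (Multiplicative M'))
    (Multiplicative M) Θ := ⟨_, rfl⟩
  have hθs : ∀ m : Multiplicative M, θ (single m 1) = Θ m := by
    intro m
    rw [hθ, lift_single, one_smul]
  have hθo : ((θ : MonoidAlgebra C (Multiplicative M) →* MonoidAlgebra C (Multiplicative M'))).comp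
      (of C (Multiplicative M)) = Θ := by
    refine MonoidHom.ext (fun m => ?_)
    exact hθs m
  have hid : ∀ Θ' : Multiplicative M →* MonoidAlgebra C (Multiplicative M'),
      ((MonoidAlgebra.lift C _ (Multiplicative M') (of C (Multiplicative M')) :
        MonoidAlgebra C (Multiplicative M') →* MonoidAlgebra C (Multiplicative M'))).comp Θ' =
          Θ' := by
    intro Θ'
    rw [lift_of_eq_id]
    rfl
  refine ⟨𝒢.map (thetaC R I M M' θ) dC, ?_, ?_⟩
  · rw [𝒢.map_comp, val_comp_thetaC, ← 𝒢.map_comp, hd, map_mul, map_inv, V.nat, U.nat, hθo,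
      hU, hV, hid]
  · rw [𝒢.map_comp, pi0_comp_thetaC R I M M' θ hI (fun m hm => by rw [hθs]; exact hΘ m hm)]

end Transfer

section Restrict

variable {C'' : Type u} [CommRing C''] [Algebra R C''] (ψ : C →ₐ[R] C'')

/-- the algebra structure over `C` induced by `ψ` on an algebra over `C''`. -/
@[reducible] def algOf (D : Type u) [CommRing D] [Algebra C'' D] : Algebra C D :=
  ((algebraMap C'' D).comp ψ.toRingHom).toAlgebra

lemma towerOf (D : Type u) [CommRing D] [Algebra R D] [Algebra C'' D] [IsScalarTower R C'' D] :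
    @IsScalarTower R C D _ (algOf ψ D).toSMul _ := by
  letI := algOf ψ D
  refine IsScalarTower.of_algebraMap_eq (fun r => ?_)
  change algebraMap R D r = algebraMap C'' D (ψ (algebraMap R C r))
  rw [ψ.commutes, ← IsScalarTower.algebraMap_apply]

/-- an algebra map over `C''` is an algebra map over `C`. -/
def algHomOf {D D' : Type u} [CommRing D] [CommRing D'] [Algebra C'' D] [Algebra C'' D']
    (ρ : D →ₐ[C''] D') : @AlgHom C D D' _ _ _ (algOf ψ D) (algOf ψ D') :=
  letI := algOf ψ D
  letI := algOf ψ D'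
  { ρ.toRingHom with commutes' := fun c => ρ.commutes (ψ c) }

/-- restriction of a family along a map of base algebras. -/
def Fam.restrict (U : Fam 𝒢 C M) : Fam 𝒢 C'' M where
  pt D _ _ _ _ χ := @Fam.pt R _ 𝒢 C _ _ M _ U D _ _ (algOf ψ D) (towerOf ψ D) χ
  mul D _ _ _ _ χ χ' := @Fam.mul R _ 𝒢 C _ _ M _ U D _ _ (algOf ψ D) (towerOf ψ D) χ χ'
  nat {D D'} _ _ _ _ _ _ _ _ ρ χ :=
    @Fam.nat R _ 𝒢 C _ _ M _ U D D' _ _ _ _ (algOf ψ D) (algOf ψ D') (towerOf ψ D)
      (towerOf ψ D') (algHomOf ψ ρ) χ

variable {ψ} in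
/-- the average is compatible with base change. -/
theorem IsAvg.baseChange {g : 𝒢.G C} (h : IsAvg U V I hI g) (I'' : Ideal C'')
    (hI'' : I'' * I'' = ⊥) (hψ : ∀ c ∈ I, ψ c ∈ I'') :
    IsAvg (U.restrict ψ) (V.restrict ψ) I'' hI'' (𝒢.map ψ g) := by
  obtain ⟨dC, hd, rfl⟩ := h
  letI := algOf ψ (MonoidAlgebra C'' (Multiplicative M))
  haveI := towerOf ψ (MonoidAlgebra C'' (Multiplicative M))
  obtain ⟨ρ, hρ⟩ : ∃ ρ : MonoidAlgebra C (Multiplicative M) →ₐ[C]
      MonoidAlgebra C'' (Multiplicative M), ∀ x, ρ x = mapAlgHom (Multiplicative M) ψ x :=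
    ⟨{ (mapAlgHom (Multiplicative M) ψ).toRingHom with
        commutes' := fun c => by
          change mapAlgHom (Multiplicative M) ψ (single 1 c) = single 1 (ψ c)
          rw [mapAlgHom_single] }, fun _ => rfl⟩
  have hρR : ρ.restrictScalars R = mapAlgHom (Multiplicative M) ψ := AlgHom.ext hρ
  have hρo : ((ρ : MonoidAlgebra C (Multiplicative M) →* MonoidAlgebra C'' (Multiplicative M))).comp
      (of C (Multiplicative M)) = of C'' (Multiplicative M) := by
    refine MonoidHom.ext (fun m => ?_)
    change ρ (single m 1) = single m 1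
    rw [hρ, mapAlgHom_single, map_one]
  refine ⟨𝒢.map (mapC R I I'' M ψ hψ) dC, ?_, ?_⟩
  · rw [𝒢.map_comp, val_comp_mapC, ← 𝒢.map_comp, hd, map_mul, map_inv, ← hρR, V.nat, U.nat, hρo]
    rfl
  · rw [𝒢.map_comp, pi0_comp_mapC R I I'' M ψ hψ hI hI'', 𝒢.map_comp]

end Restrict

section NatHom

/-- a natural homomorphism of group-valued functors. -/
structure NatHom (ℋ 𝒢 : AGF R) where
  app : ∀ (D : Type u) [CommRing D] [Algebra R D], ℋ.G D →* 𝒢.G D
  nat : ∀ {D D' : Type u} [CommRing D] [CommRing D'] [Algebra R D] [Algebra R D']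
    (ρ : D →ₐ[R] D') (x : ℋ.G D), 𝒢.map ρ (app D x) = app D' (ℋ.map ρ x)

variable {ℋ : AGF R}

/-- the composite of a family with a natural homomorphism. -/
def Fam.comp (P : Fam ℋ C M) (w : NatHom ℋ 𝒢) : Fam 𝒢 C M where
  pt D _ _ _ _ χ := w.app D (P.pt D χ)
  mul D _ _ _ _ χ χ' := by rw [P.mul, map_mul]
  nat ρ χ := by rw [w.nat, P.nat]

lemma Fam.restrict_comp {C'' : Type u} [CommRing C''] [Algebra R C''] (ψ : C →ₐ[R] C'')
    (P : Fam ℋ C M) (w : NatHom ℋ 𝒢) : (P.comp w).restrict ψ = (P.restrict ψ).comp w := rfl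

end NatHom

section Theta

variable {ℋ : AGF R} {M' : Type} [AddCommGroup M'] (P : Fam ℋ C M) (P' : Fam ℋ C M')
  (hP : ∀ (D : Type u) [CommRing D] [Algebra R D] [Algebra C D] [IsScalarTower R C D],
    Function.Bijective (P.pt D))
  (hP' : ∀ (D : Type u) [CommRing D] [Algebra R D] [Algebra C D] [IsScalarTower R C D],
    Function.Bijective (P'.pt D))

lemma lift_chi1 (N : Type) [AddCommGroup N] :
    MonoidAlgebra.lift C _ (Multiplicative N) (chi1 (C := C) N) = pp N := by
  rw [← Equiv.eq_symm_apply]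
  refine MonoidHom.ext (fun m => ?_)
  rfl

include hP hP' in
/-- two bijective parametrisations of the same functor by characters differ by a group-like
character without constant terms. -/
theorem exists_theta : ∃ Θ : Multiplicative M →* MonoidAlgebra C (Multiplicative M'),
    (∀ (D : Type u) [CommRing D] [Algebra R D] [Algebra C D] [IsScalarTower R C D]
      (χ' : Multiplicative M' →* D), P'.pt D χ' = P.pt D
        (((MonoidAlgebra.lift C D (Multiplicative M') χ' :
          MonoidAlgebra C (Multiplicative M') →* D)).comp Θ)) ∧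
    ∀ m : Multiplicative M, m ≠ 1 → (Θ m).coeff 1 = 0 := by
  obtain ⟨Θ, hΘ⟩ := (hP (MonoidAlgebra C (Multiplicative M'))).2
    (P'.pt (MonoidAlgebra C (Multiplicative M')) (of C (Multiplicative M')))
  obtain ⟨Θ', hΘ'⟩ := (hP' (MonoidAlgebra C (Multiplicative M))).2
    (P.pt (MonoidAlgebra C (Multiplicative M)) (of C (Multiplicative M)))
  have rel : ∀ (D : Type u) [CommRing D] [Algebra R D] [Algebra C D] [IsScalarTower R C D]
      (χ' : Multiplicative M' →* D), P'.pt D χ' = P.pt D
        (((MonoidAlgebra.lift C D (Multiplicative M') χ' :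
          MonoidAlgebra C (Multiplicative M') →* D)).comp Θ) := by
    intro D _ _ _ _ χ'
    have hχ : ((MonoidAlgebra.lift C D (Multiplicative M') χ' :
        MonoidAlgebra C (Multiplicative M') →* D)).comp (of C (Multiplicative M')) = χ' := by
      refine MonoidHom.ext (fun m => ?_)
      exact lift_of χ' m
    rw [← P.nat, hΘ, P'.nat, hχ]
  have rel' : ∀ (D : Type u) [CommRing D] [Algebra R D] [Algebra C D] [IsScalarTower R C D]
      (χ : Multiplicative M →* D), P.pt D χ = P'.pt D
        (((MonoidAlgebra.lift C D (Multiplicative M) χ :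
          MonoidAlgebra C (Multiplicative M) →* D)).comp Θ') := by
    intro D _ _ _ _ χ
    have hχ : ((MonoidAlgebra.lift C D (Multiplicative M) χ :
        MonoidAlgebra C (Multiplicative M) →* D)).comp (of C (Multiplicative M)) = χ := by
      refine MonoidHom.ext (fun m => ?_)
      exact lift_of χ m
    rw [← P'.nat, hΘ', P.nat, hχ]
  refine ⟨Θ, rel, ?_⟩
  apply coeff_one_eq_zero_of_groupLike Θ
  · -- group-like
    intro m
    have h1 := P'.mul _ (chi1 (C := C) M') (chi2 M')
    rw [rel, rel, rel, ← P.mul] at h1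
    have h2 := (hP _).1 h1
    have h3 := congrArg (fun f => f m) h2
    simp only [MonoidHom.comp_apply, MonoidHom.mul_apply] at h3
    rw [lift_chi1] at h3
    exact h3
  · -- injectivity
    have h1 := hΘ'.symm
    rw [rel] at h1
    have h2 := (hP _).1 h1
    have hcomp : (MonoidAlgebra.lift C _ (Multiplicative M') Θ').comp
        (MonoidAlgebra.lift C _ (Multiplicative M) Θ) = AlgHom.id C _ := by
      apply (MonoidAlgebra.lift C _ (Multiplicative M)).symm.injective
      refine MonoidHom.ext (fun m => ?_)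
      rw [lift_symm_apply, lift_symm_apply]
      change MonoidAlgebra.lift C _ (Multiplicative M') Θ'
        (MonoidAlgebra.lift C _ (Multiplicative M) Θ (single m 1)) = single m 1
      rw [lift_single, one_smul]
      exact (congrArg (fun f => f m) h2).symm
    have hleft : Function.LeftInverse
        (MonoidAlgebra.lift C _ (Multiplicative M') Θ')
        (MonoidAlgebra.lift C _ (Multiplicative M) Θ) := by
      intro x
      exact congrArg (fun f => f x) hcomp
    exact hleft.injective

end Theta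

end Groth.Agent.Lib.Helper15Avg
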