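-- helper15: spectra of injective ring maps surjective on spectra are epimorphisms; the functor of points of a group scheme on affine test objects
import Mathlib
import Groth.Agent.Lib.Helper15AvgCore
set_option autoImplicit false
universe u
open CategoryTheory CategoryTheory.Limits AlgebraicGeometry MonoidalCategory
  CartesianMonoidalCategory MonObj GrpObj

namespace Groth.Agent.Lib.Helper15Avg

/-- the spectrum of an injective ring map which is surjective on spectra is an epimorphism of
schemes. -/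
theorem eq_of_specMap_comp_eq {D D' : Type u} [CommRing D] [CommRing D'] (ρ : D →+* D')
    (hinj : Function.Injective ρ) (hsurj : Function.Surjective (PrimeSpectrum.comap ρ))
    {Z : Scheme.{u}} (a b : Spec (CommRingCat.of D) ⟶ Z)
    (h : Spec.map (CommRingCat.ofHom ρ) ≫ a = Spec.map (CommRingCat.ofHom ρ) ≫ b) : a = b := by
  have hpt : ∀ x : Spec (CommRingCat.of D), a x = b x := by
    intro x
    obtain ⟨y, rfl⟩ := hsurj x
    have h1 := congrArg (fun f => f.base y) h
    simp only [Scheme.Hom.comp_base, TopCat.comp_app] at h1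
    exact h1
  apply Scheme.hom_ext_of_forall
  intro x
  obtain ⟨_, ⟨V, hV, rfl⟩, hxV, -⟩ :=
    Z.isBasis_affineOpens.exists_subset_of_mem_open (Set.mem_univ (a x)) isOpen_univ
  obtain ⟨V, rfl⟩ : ∃ V2 : Z.Opens, V2 = V := ⟨V, rfl⟩
  have hVa : IsAffineOpen V := hV
  have hxW : x ∈ ((a ⁻¹ᵁ V) ⊓ (b ⁻¹ᵁ V) : (Spec (CommRingCat.of D)).Opens) := by
    refine ⟨hxV, ?_⟩
    change b x ∈ V
    rw [← hpt]
    exact hxV
  obtain ⟨_, ⟨_, ⟨c, rfl⟩, rfl⟩, hxc, hcW⟩ := PrimeSpectrum.isBasis_basic_opens.exists_subset_of_mem_open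
    hxW ((a ⁻¹ᵁ V) ⊓ (b ⁻¹ᵁ V) : (Spec (CommRingCat.of D)).Opens).isOpen
  refine ⟨PrimeSpectrum.basicOpen c, hxc, ?_⟩
  obtain ⟨j, hj⟩ : ∃ j : Spec (CommRingCat.of (Localization.Away c)) ⟶ Spec (CommRingCat.of D),
      j = Spec.map (CommRingCat.ofHom (algebraMap D (Localization.Away c))) := ⟨_, rfl⟩
  have hjo : IsOpenImmersion j := by rw [hj]; infer_instance
  have hjr : j.opensRange = PrimeSpectrum.basicOpen c := by
    subst hj
    exact Scheme.Hom.opensRange_localizationAway (R := CommRingCat.of D) c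
  suffices hja : j ≫ a = j ≫ b by
    rw [← hjr, ← Scheme.Hom.isoOpensRange_inv_comp, Category.assoc, Category.assoc, hja]
  -- the localised map
  obtain ⟨ρc, hρc⟩ : ∃ ρc : Localization.Away c →+* Localization.Away (ρ c),
      ρc = Localization.awayMap ρ c := ⟨_, rfl⟩
  have hρci : Function.Injective ρc := by
    rw [hρc, Localization.awayMap_injective_iff]
    intro t ht
    refine ⟨0, ?_⟩
    rw [pow_zero, _root_.one_mul]
    exact hinj (ht.trans (map_zero ρ).symm)
  have hsq : Spec.map (CommRingCat.ofHom ρc) ≫ j =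
      Spec.map (CommRingCat.ofHom (algebraMap D' (Localization.Away (ρ c)))) ≫
        Spec.map (CommRingCat.ofHom ρ) := by
    rw [hj, ← Spec.map_comp, ← Spec.map_comp, ← CommRingCat.ofHom_comp, ← CommRingCat.ofHom_comp,
      hρc]
    congr 2
    exact IsLocalization.map_comp _
  -- both composites land in the affine open `V`
  have hra : Set.range (j ≫ a).base ⊆ Set.range V.ι.base := by
    rintro _ ⟨t, rfl⟩
    rw [Scheme.Opens.range_ι]
    have : j t ∈ (PrimeSpectrum.basicOpen c : (Spec (CommRingCat.of D)).Opens) := by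
      rw [← hjr]
      exact ⟨t, rfl⟩
    exact (hcW this).1
  have hrb : Set.range (j ≫ b).base ⊆ Set.range V.ι.base := by
    rintro _ ⟨t, rfl⟩
    rw [Scheme.Opens.range_ι]
    have : j t ∈ (PrimeSpectrum.basicOpen c : (Spec (CommRingCat.of D)).Opens) := by
      rw [← hjr]
      exact ⟨t, rfl⟩
    exact (hcW this).2
  obtain ⟨a', ha'⟩ : ∃ a', a' = IsOpenImmersion.lift V.ι (j ≫ a) hra ≫ hVa.isoSpec.hom := ⟨_, rfl⟩
  obtain ⟨b', hb'⟩ : ∃ b', b' = IsOpenImmersion.lift V.ι (j ≫ b) hrb ≫ hVa.isoSpec.hom := ⟨_, rfl⟩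
  have haf : j ≫ a = a' ≫ hVa.isoSpec.inv ≫ V.ι := by
    rw [ha', Category.assoc, Iso.hom_inv_id_assoc, IsOpenImmersion.lift_fac]
  have hbf : j ≫ b = b' ≫ hVa.isoSpec.inv ≫ V.ι := by
    rw [hb', Category.assoc, Iso.hom_inv_id_assoc, IsOpenImmersion.lift_fac]
  have hmono : Mono (hVa.isoSpec.inv ≫ V.ι) := inferInstance
  have h2 : Spec.map (CommRingCat.ofHom ρc) ≫ a' = Spec.map (CommRingCat.ofHom ρc) ≫ b' := by
    rw [← cancel_mono (hVa.isoSpec.inv ≫ V.ι), Category.assoc, Category.assoc, ← haf, ← hbf,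
      ← Category.assoc, ← Category.assoc, hsq, Category.assoc, Category.assoc, h]
  have h3 : a' = b' := by
    rw [← Spec.map_preimage a', ← Spec.map_preimage b'] at h2 ⊢
    rw [← Spec.map_comp, ← Spec.map_comp] at h2
    have h4 := Spec.map_injective h2
    congr 1
    apply CommRingCat.hom_ext
    apply RingHom.ext
    intro t
    have h5 := congrArg (fun f => f.hom t) h4
    exact hρci h5
  rw [haf, hbf, h3]

section Test

variable (R : Type u) [CommRing R]

/-- the affine test object attached to an algebra. -/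
noncomputable def T (D : Type u) [CommRing D] [Algebra R D] : Over (Spec (CommRingCat.of R)) :=
  Over.mk (Spec.map (CommRingCat.ofHom (algebraMap R D)))

variable {R}

/-- the morphism of test objects attached to an algebra map. -/
noncomputable def tm {D D' : Type u} [CommRing D] [CommRing D'] [Algebra R D] [Algebra R D']
    (ρ : D →ₐ[R] D') : T R D' ⟶ T R D :=
  Over.homMk (Spec.map (CommRingCat.ofHom ρ.toRingHom)) (by
    change Spec.map _ ≫ Spec.map _ = Spec.map _
    rw [← Spec.map_comp, ← CommRingCat.ofHom_comp]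
    exact congrArg (fun f => Spec.map (CommRingCat.ofHom f)) ρ.comp_algebraMap)

@[simp] lemma tm_left {D D' : Type u} [CommRing D] [CommRing D'] [Algebra R D] [Algebra R D']
    (ρ : D →ₐ[R] D') : (tm ρ).left = Spec.map (CommRingCat.ofHom ρ.toRingHom) := rfl

lemma tm_id (D : Type u) [CommRing D] [Algebra R D] : tm (AlgHom.id R D) = 𝟙 (T R D) := by
  apply Over.OverMorphism.ext
  rw [tm_left]
  exact Spec.map_id _

lemma tm_comp {D D' D'' : Type u} [CommRing D] [CommRing D'] [CommRing D''] [Algebra R D]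
    [Algebra R D'] [Algebra R D''] (ρ : D →ₐ[R] D') (ρ' : D' →ₐ[R] D'') :
    tm ρ' ≫ tm ρ = tm (ρ'.comp ρ) := by
  apply Over.OverMorphism.ext
  rw [Over.comp_left, tm_left, tm_left, tm_left]
  exact (Spec.map_comp _ _).symm

variable (G : Over (Spec (CommRingCat.of R))) [GrpObj G]

/-- the group-valued functor of points of a group scheme on affine test objects. -/
noncomputable def agf : AGF R where
  G D _ _ := GrpCat.of (T R D ⟶ G)
  map ρ :=
    { toFun := fun x => tm ρ ≫ x
      map_one' := MonObj.comp_one _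
      map_mul' := fun x y => MonObj.comp_mul _ x y }
  map_id {D} _ _ x := by
    change tm (AlgHom.id R D) ≫ x = x
    rw [tm_id, Category.id_comp]
  map_comp ρ ρ' x := by
    change tm ρ' ≫ tm ρ ≫ x = tm (ρ'.comp ρ) ≫ x
    rw [← Category.assoc, tm_comp]
  sep ρ hinj hsurj x y h := by
    apply Over.OverMorphism.ext
    refine eq_of_specMap_comp_eq ρ.toRingHom hinj hsurj x.left y.left ?_
    have h1 := congrArg (fun z => z.left) h
    exact h1

variable {G} {H : Over (Spec (CommRingCat.of R))} [GrpObj H] (w : H ⟶ G) [IsMonHom w]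

/-- the natural homomorphism induced by a homomorphism of group schemes. -/
noncomputable def natHom : NatHom (agf H) (agf G) where
  app D _ _ := IsMonHom.monoidHom w (T R D)
  nat ρ x := by
    change tm ρ ≫ x ≫ w = (tm ρ ≫ x) ≫ w
    rw [Category.assoc]

end Test

end Groth.Agent.Lib.Helper15Avg
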