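-- helper15: rigidity of actions of diagonalisable groups mod a nilpotent ideal, ring-valued-points form
import Mathlib
set_option autoImplicit false
universe u
open MonoidAlgebra

namespace Groth.Agent.Lib.Helper15DiagRigidAlg

section

variable {A : Type u} [CommRing A] {N : Type} [CommGroup N]

/-- coefficient formula for the diagonal lift. -/
lemma coeff_liftNC_diag (x : MonoidAlgebra A N) (n m : N) [DecidableEq N] :
    (liftNCRingHom (singleOneRingHom : A →+* MonoidAlgebra A (N × N))
      (((of A (N × N)).comp (MonoidHom.inl N N)) * ((of A (N × N)).comp (MonoidHom.inr N N)))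
      (fun _ _ => Commute.all _ _) x).coeff (n, m) = if n = m then x.coeff n else 0 := by
  induction x using MonoidAlgebra.induction_linear with
  | zero => simp
  | add x y hx hy =>
    rw [map_add, coeff_add, Finsupp.add_apply, hx, hy, coeff_add, Finsupp.add_apply]
    split_ifs <;> simp
  | single k b =>
    rw [liftNCRingHom_single]
    have h1 : (singleOneRingHom : A →+* MonoidAlgebra A (N × N)) b = single 1 b := rfl
    rw [h1]
    simp only [MonoidHom.mul_apply, MonoidHom.comp_apply, MonoidHom.inl_apply,
      MonoidHom.inr_apply, of_apply, single_mul_single, Prod.mk_mul_mk, mul_one, one_mul, coeff_single]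
    rw [Finsupp.single_apply, Finsupp.single_apply]
    by_cases hnm : n = m
    · subst hnm
      simp only [Prod.mk.injEq, and_self, if_true]
    · rw [if_neg hnm, if_neg]
      rintro h
      exact hnm ((Prod.mk.inj h).1.symm.trans (Prod.mk.inj h).2)

/-- coefficient formula for the right lift. -/
lemma coeff_liftNC_inr (z : MonoidAlgebra A N) (i j : N) [DecidableEq N] :
    (liftNCRingHom (singleOneRingHom : A →+* MonoidAlgebra A (N × N))
      ((of A (N × N)).comp (MonoidHom.inr N N)) (fun _ _ => Commute.all _ _) z).coeff (i, j) =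
      if i = 1 then z.coeff j else 0 := by
  induction z using MonoidAlgebra.induction_linear with
  | zero => simp
  | add x y hx hy =>
    rw [map_add, coeff_add, Finsupp.add_apply, hx, hy, coeff_add, Finsupp.add_apply]
    split_ifs <;> simp
  | single k b =>
    rw [liftNCRingHom_single]
    have h1 : (singleOneRingHom : A →+* MonoidAlgebra A (N × N)) b = single 1 b := rfl
    rw [h1]
    simp only [MonoidHom.comp_apply, MonoidHom.inr_apply, of_apply,
      single_mul_single, mul_one, one_mul, coeff_single]
    rw [Finsupp.single_apply, Finsupp.single_apply]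
    by_cases hi : i = 1
    · subst hi
      simp only [Prod.mk.injEq, true_and, if_true]
    · rw [if_neg hi, if_neg]
      rintro h
      exact hi (Prod.mk.inj h).1.symm

end

section main

variable {R A : Type u} [CommRing R] [CommRing A] [Algebra R A] {N : Type} [CommGroup N]

/-- **Rigidity of actions of diagonalisable groups, ring form.**  A natural action of the characters
`N →* C` on the ring-valued points `A →+* C`, which is linear over `R` and trivial on the points
killing a nilpotent ideal `J` of `R`, is trivial. -/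
theorem act_eq_of_nilpotent (J : Ideal R) (hJ : IsNilpotent J)
    (act : ∀ (C : Type u) [CommRing C], (N →* C) → (A →+* C) → (A →+* C))
    (nat : ∀ (C C' : Type u) [CommRing C] [CommRing C'] (ψ : C →+* C') (χ : N →* C) (φ : A →+* C),
      act C' ((ψ : C →* C').comp χ) (ψ.comp φ) = ψ.comp (act C χ φ))
    (one : ∀ (C : Type u) [CommRing C] (φ : A →+* C), act C 1 φ = φ)
    (mul : ∀ (C : Type u) [CommRing C] (χ χ' : N →* C) (φ : A →+* C),
      act C (χ * χ') φ = act C χ (act C χ' φ))
    (lin : ∀ (C : Type u) [CommRing C] (χ : N →* C) (φ : A →+* C) (r : R),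
      act C χ φ (algebraMap R A r) = φ (algebraMap R A r))
    (nil : ∀ (C : Type u) [CommRing C] (χ : N →* C) (φ : A →+* C),
      (∀ j ∈ J, φ (algebraMap R A j) = 0) → act C χ φ = φ)
    (C : Type u) [CommRing C] (χ : N →* C) (φ : A →+* C) : act C χ φ = φ := by
  classical
  obtain ⟨φ₁, hφ₁⟩ : ∃ φ₁ : A →+* MonoidAlgebra A N, φ₁ = singleOneRingHom := ⟨_, rfl⟩
  obtain ⟨χ₁, hχ₁⟩ : ∃ χ₁ : N →* MonoidAlgebra A N, χ₁ = of A N := ⟨_, rfl⟩
  obtain ⟨ρ, hρ⟩ : ∃ ρ : A →+* MonoidAlgebra A N, ρ = act (MonoidAlgebra A N) χ₁ φ₁ := ⟨_, rfl⟩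
  have hφ₁a : ∀ a, φ₁ a = single 1 a := fun a => by rw [hφ₁]; rfl
  -- the general formula
  have gen : ∀ (C : Type u) [CommRing C] (χ : N →* C) (φ : A →+* C),
      act C χ φ = (liftNCRingHom φ χ (fun _ _ => Commute.all _ _)).comp ρ := by
    intro C _ χ φ
    have h1 : (liftNCRingHom φ χ (fun _ _ => Commute.all _ _)).comp φ₁ = φ := by
      ext a
      rw [RingHom.comp_apply, hφ₁a, liftNCRingHom_single, map_one, mul_one]
    have h2 : ((liftNCRingHom φ χ (fun _ _ => Commute.all _ _) :
        MonoidAlgebra A N →+* C) : MonoidAlgebra A N →* C).comp χ₁ = χ := by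
      ext n
      rw [MonoidHom.comp_apply, hχ₁, of_apply]
      change liftNCRingHom φ χ (fun _ _ => Commute.all _ _) (single n 1) = χ n
      rw [liftNCRingHom_single, map_one, one_mul]
    have := nat (MonoidAlgebra A N) C (liftNCRingHom φ χ (fun _ _ => Commute.all _ _)) χ₁ φ₁
    rw [h1, h2, ← hρ] at this
    exact this
  -- suffices: ρ = φ₁
  suffices hmain : ρ = φ₁ by
    rw [gen C χ φ, hmain]
    ext a
    rw [RingHom.comp_apply, hφ₁a, liftNCRingHom_single, map_one, mul_one]
  -- coefficient functions
  obtain ⟨p, hp⟩ : ∃ p : N → A → A, p = fun n a => (ρ a).coeff n := ⟨_, rfl⟩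
  have hpa : ∀ n a, p n a = (ρ a).coeff n := fun n a => by rw [hp]
  have hp_add : ∀ n a b, p n (a + b) = p n a + p n b := fun n a b => by
    rw [hpa, hpa, hpa, map_add, coeff_add, Finsupp.add_apply]
  have hp_zero : ∀ n, p n 0 = 0 := fun n => by rw [hpa, map_zero, coeff_zero, Finsupp.zero_apply]
  -- linearity over R
  have hρlin : ∀ r, ρ (algebraMap R A r) = single 1 (algebraMap R A r) := fun r => by
    rw [hρ, lin, hφ₁a]
  have hp_smul : ∀ n (r : R) a, p n (r • a) = algebraMap R A r * p n a := fun n r a => by
    rw [hpa, hpa, Algebra.smul_def, map_mul, hρlin, coeff_single_one_mul]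
  -- idempotency
  have hidem : ∀ n m a, p m (p n a) = if n = m then p n a else 0 := by
    intro n m a
    have h := mul (MonoidAlgebra A (N × N)) ((of A (N × N)).comp (MonoidHom.inl N N))
      ((of A (N × N)).comp (MonoidHom.inr N N)) singleOneRingHom
    rw [gen, gen _ ((of A (N × N)).comp (MonoidHom.inl N N)), gen] at h
    have h' := congrArg (fun f : A →+* MonoidAlgebra A (N × N) => (f a).coeff (n, m)) h
    simp only [RingHom.comp_apply] at h'
    rw [coeff_liftNC_diag, ← hpa] at h'
    rw [h']
    -- compute the right side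
    have key : ∀ x : MonoidAlgebra A N,
        (liftNCRingHom ((liftNCRingHom (singleOneRingHom : A →+* MonoidAlgebra A (N × N))
          ((of A (N × N)).comp (MonoidHom.inr N N)) (fun _ _ => Commute.all _ _)).comp ρ)
          ((of A (N × N)).comp (MonoidHom.inl N N)) (fun _ _ => Commute.all _ _) x).coeff (n, m) =
          p m (x.coeff n) := by
      intro x
      induction x using MonoidAlgebra.induction_linear with
      | zero => simp [hp_zero]
      | add x y hx hy =>
        rw [map_add, coeff_add, Finsupp.add_apply, hx, hy, coeff_add, Finsupp.add_apply, hp_add]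
      | single k b =>
        rw [liftNCRingHom_single, RingHom.comp_apply, MonoidHom.comp_apply, MonoidHom.inl_apply,
          of_apply, coeff_mul_single_apply, mul_one, coeff_liftNC_inr, coeff_single,
          Finsupp.single_apply]
        simp only [Prod.inv_mk, inv_one, Prod.mk_mul_mk, mul_one]
        by_cases hk : k = n
        · subst hk
          rw [if_pos rfl, if_pos (mul_inv_cancel k), hpa]
        · rw [if_neg hk, if_neg, hp_zero]
          intro h0
          exact hk (mul_inv_eq_one.mp h0).symm
    rw [key, ← hpa]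
  -- triviality mod J
  have hmodJ : ∀ n a, n ≠ 1 → p n a ∈ Ideal.map (algebraMap R A) J := by
    intro n a hn
    obtain ⟨𝔞, h𝔞⟩ : ∃ 𝔞 : Ideal A, 𝔞 = Ideal.map (algebraMap R A) J := ⟨_, rfl⟩
    rw [← h𝔞]
    have h1 := nil (MonoidAlgebra (A ⧸ 𝔞) N)
      (((mapRingHom N (Ideal.Quotient.mk 𝔞) : MonoidAlgebra A N →+* MonoidAlgebra (A ⧸ 𝔞) N) :
        MonoidAlgebra A N →* MonoidAlgebra (A ⧸ 𝔞) N).comp χ₁)
      ((mapRingHom N (Ideal.Quotient.mk 𝔞)).comp φ₁) (by
        intro j hj
        rw [RingHom.comp_apply, hφ₁a, mapRingHom_single]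
        have : Ideal.Quotient.mk 𝔞 (algebraMap R A j) = 0 := by
          rw [Ideal.Quotient.eq_zero_iff_mem, h𝔞]
          exact Ideal.mem_map_of_mem _ hj
        rw [this, single_zero])
    rw [nat, ← hρ] at h1
    have h2 := congrArg (fun f : A →+* MonoidAlgebra (A ⧸ 𝔞) N => (f a).coeff n) h1
    simp only [RingHom.comp_apply, coeff_mapRingHom, hφ₁a, coeff_single] at h2
    rw [Finsupp.single_apply, if_neg (Ne.symm hn), map_zero, Ideal.Quotient.eq_zero_iff_mem, ← hpa] at h2
    exact h2
  -- the induction on powers of J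
  have hstep : ∀ (k : ℕ) (n : N), n ≠ 1 → ∀ b ∈ Ideal.map (algebraMap R A) (J ^ k),
      p n b ∈ Ideal.map (algebraMap R A) (J ^ (k + 1)) := by
    intro k n hn b hb
    have hb' : b ∈ (J ^ k • ⊤ : Submodule R A) := by
      rw [Ideal.smul_top_eq_map]
      exact hb
    refine Submodule.smul_induction_on hb' ?_ ?_
    · intro r hr a _
      rw [hp_smul, pow_succ, Ideal.map_mul]
      exact Ideal.mul_mem_mul (Ideal.mem_map_of_mem _ hr) (hmodJ n a hn)
    · intro x y hx hy
      rw [hp_add]
      exact Ideal.add_mem _ hx hy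
  have hpow : ∀ (k : ℕ) (n : N), n ≠ 1 → ∀ a, p n a ∈ Ideal.map (algebraMap R A) (J ^ (k + 1)) := by
    intro k
    induction k with
    | zero => intro n hn a; rw [zero_add, pow_one]; exact hmodJ n a hn
    | succ k ih =>
      intro n hn a
      have h1 := hidem n n a
      rw [if_pos rfl] at h1
      rw [← h1]
      exact hstep (k + 1) n hn _ (ih n hn a)
  have hvanish : ∀ n a, n ≠ 1 → p n a = 0 := by
    intro n a hn
    obtain ⟨k, hk⟩ := hJ
    have h1 := hpow k n hn a
    have h2 : J ^ (k + 1) = ⊥ := by rw [pow_succ, hk]; simp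
    rw [h2, Ideal.map_bot] at h1
    exact h1
  -- conclusion
  have hsingle : ∀ a, ρ a = single 1 (p 1 a) := by
    intro a
    ext n
    rw [coeff_single, Finsupp.single_apply]
    by_cases hn : 1 = n
    · subst hn; rw [if_pos rfl, hpa]
    · rw [if_neg hn, ← hpa]; exact hvanish n a (Ne.symm hn)
  have hcounit : ∀ a, p 1 a = a := by
    intro a
    have h1 := one A (RingHom.id A)
    rw [gen] at h1
    have h2 := congrArg (fun f : A →+* A => f a) h1
    simp only [RingHom.comp_apply, RingHom.id_apply] at h2
    rw [hsingle, liftNCRingHom_single, RingHom.id_apply, MonoidHom.one_apply, mul_one] at h2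
    exact h2
  ext a : 1
  rw [hsingle, hcounit, hφ₁a]

end main

end Groth.Agent.Lib.Helper15DiagRigidAlg
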