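-- helper15: rigidity of actions of diagonalisable groups modulo a nilpotent ideal (split case)
import Mathlib
import Groth.Agent.Lib.Helper15DiagRigidAlg
import Groth.Agent.Lib.Helper11MultGaA
import Groth.Prelude.Def_ActBC
set_option autoImplicit false
universe u
open CategoryTheory CategoryTheory.Limits AlgebraicGeometry MonoidalCategory CartesianMonoidalCategory
  MonObj GrpObj

namespace Groth.Agent.Lib.Helper15DiagRigid

section AffPts

variable {X : Scheme.{u}} {W : X.Opens} (hW : IsAffineOpen W)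

/-- the point of `X` with values in `C` attached to a ring map out of the coordinate ring of an
affine open. -/
noncomputable def ptW {C : Type u} [CommRing C] (φ : Γ(X, W) →+* C) :
    Spec (CommRingCat.of C) ⟶ X :=
  Spec.map (CommRingCat.ofHom φ) ≫ hW.fromSpec

lemma ptW_mem {C : Type u} [CommRing C] (φ : Γ(X, W) →+* C) (t : ↥(Spec (CommRingCat.of C))) :
    ptW hW φ t ∈ W := by
  unfold ptW
  rw [Scheme.Hom.comp_apply]
  have : hW.fromSpec (Spec.map (CommRingCat.ofHom φ) t) ∈ Set.range hW.fromSpec := ⟨_, rfl⟩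
  rw [hW.range_fromSpec] at this
  exact this

lemma ptW_injective {C : Type u} [CommRing C] {φ φ' : Γ(X, W) →+* C}
    (h : ptW hW φ = ptW hW φ') : φ = φ' := by
  unfold ptW at h
  rw [cancel_mono] at h
  have := Spec.map_injective h
  exact congrArg CommRingCat.Hom.hom this

lemma exists_eq_ptW {C : Type u} [CommRing C] (y : Spec (CommRingCat.of C) ⟶ X)
    (hy : ∀ t, y t ∈ W) : ∃ φ : Γ(X, W) →+* C, y = ptW hW φ := by
  have hr : Set.range y ⊆ Set.range hW.fromSpec := by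
    rw [hW.range_fromSpec]
    rintro _ ⟨t, rfl⟩
    exact hy t
  refine ⟨(Spec.preimage (IsOpenImmersion.lift hW.fromSpec y hr)).hom, ?_⟩
  unfold ptW
  rw [CommRingCat.ofHom_hom, Spec.map_preimage, IsOpenImmersion.lift_fac]

lemma specMap_comp_ptW {C C' : Type u} [CommRing C] [CommRing C'] (ψ : C →+* C')
    (φ : Γ(X, W) →+* C) :
    Spec.map (CommRingCat.ofHom ψ) ≫ ptW hW φ = ptW hW (ψ.comp φ) := by
  unfold ptW
  rw [← Category.assoc, ← Spec.map_comp]
  rfl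

/-- compatibility of ring-valued points with a morphism between affine opens. -/
lemma ptW_comp {Y : Scheme.{u}} (q : X ⟶ Y) {V : Y.Opens} (hV : IsAffineOpen V)
    (e : W ≤ q ⁻¹ᵁ V) {C : Type u} [CommRing C] (φ : Γ(X, W) →+* C) :
    ptW hW φ ≫ q = ptW hV (φ.comp (q.appLE V W e).hom) := by
  unfold ptW
  rw [Category.assoc, ← IsAffineOpen.SpecMap_appLE_fromSpec q hV hW e, ← Category.assoc,
    ← Spec.map_comp]
  rfl

end AffPts

section Nil

variable {S S₀ : Scheme.{u}} (i₀ : S₀ ⟶ S) [IsClosedImmersion i₀]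

/-- a ring-valued point of an affine open killing the ideal of a closed subscheme factors through
the closed subscheme. -/
lemma exists_factor_of_ker (V : S.affineOpens) {C : Type u} [CommRing C]
    (θ : Γ(S, V.1) →+* C) (hθ : ∀ j ∈ i₀.ker.ideal V, θ j = 0) :
    ∃ p : Spec (CommRingCat.of C) ⟶ S₀, p ≫ i₀ = ptW V.2 θ := by
  have h₀ : IsAffineOpen (i₀ ⁻¹ᵁ V.1) := V.2.preimage i₀
  have hsurj : Function.Surjective (i₀.app V.1).hom := i₀.app_surjective V.1 V.2
  have hker : RingHom.ker (i₀.app V.1).hom ≤ RingHom.ker θ := by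
    intro j hj
    rw [← Scheme.Hom.ker_apply] at hj
    exact hθ j hj
  obtain ⟨θ', hθ'⟩ : ∃ θ' : Γ(S₀, i₀ ⁻¹ᵁ V.1) →+* C, θ'.comp (i₀.app V.1).hom = θ :=
    ⟨RingHom.liftOfSurjective _ hsurj ⟨θ, hker⟩, RingHom.liftOfRightInverse_comp _ _ _ _⟩
  refine ⟨ptW h₀ θ', ?_⟩
  rw [ptW_comp h₀ i₀ V.2 le_rfl, ← hθ', ← Scheme.Hom.app_eq_appLE]

/-- a closed immersion with locally nilpotent ideal is surjective. -/
lemma surjective_of_locally_nilpotent
    (hnil : ∀ x : S, ∃ V : S.affineOpens, x ∈ V.1 ∧ IsNilpotent (i₀.ker.ideal V)) :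
    Surjective i₀ := by
  constructor
  intro s
  obtain ⟨V, hsV, hV⟩ := hnil s
  have h1 : s ∈ i₀.ker.support := by
    rw [Scheme.IdealSheafData.mem_support_iff_of_mem hsV, Scheme.mem_zeroLocus_iff]
    intro r hr
    obtain ⟨k, hk⟩ := hV
    have hrk : r ^ k ∈ i₀.ker.ideal V ^ k := Ideal.pow_mem_pow hr k
    rw [hk] at hrk
    have hrk0 : r ^ k = 0 := hrk
    have hrk1 : r ^ (k + 1) = 0 := by rw [pow_succ, hrk0, zero_mul]
    rw [← Scheme.basicOpen_pow S r (Nat.succ_pos k), hrk1, Scheme.basicOpen_zero]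
    exact fun h => h
  have h2 : (i₀.ker.support : Set S) = Set.range i₀ := by
    rw [Scheme.Hom.support_ker, i₀.isClosedEmbedding.isClosed_range.closure_eq]
  have h3 : s ∈ Set.range i₀ := h2 ▸ h1
  exact h3

end Nil

section Core

open Groth.Agent.Lib.Helper11MultGa Groth.Agent.Lib.Helper27.GaGm

variable {S S₀ U : Scheme.{u}} (i₀ : S₀ ⟶ S) [IsClosedImmersion i₀] (f : U ⟶ S)
  (M : Type) [AddCommGroup M] {X : Over U} (a : AlgGrp.Action (Red.DS U M) X)

/-- the action is trivial on the points lying over the closed subscheme. -/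
def TrivOn : Prop :=
  ∀ (Y : Over U), (∃ p : Y.left ⟶ S₀, p ≫ i₀ = Y.hom ≫ f) →
    ∀ (g : Y ⟶ Red.DS U M) (x : Y ⟶ X), lift g x ≫ a.act = x

variable {i₀ f M a}

omit [IsClosedImmersion i₀] in
/-- if the closed subscheme is the whole space topologically, the action is topologically
trivial. -/
lemma act_apply_eq (hsurj : Surjective i₀) (h0 : TrivOn i₀ f M a) (Y : Over U)
    (g : Y ⟶ Red.DS U M) (x : Y ⟶ X) (y : Y.left) :
    (lift g x ≫ a.act).left y = x.left y := by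
  obtain ⟨y₀, hy₀⟩ := (inferInstance : Surjective (pullback.fst (Y.hom ≫ f) i₀)).surj y
  obtain ⟨Y₀, hY₀⟩ : ∃ Y₀ : Over U, Y₀ = Over.mk (pullback.fst (Y.hom ≫ f) i₀ ≫ Y.hom) := ⟨_, rfl⟩
  subst hY₀
  obtain ⟨jj, hjj⟩ : ∃ jj : Over.mk (pullback.fst (Y.hom ≫ f) i₀ ≫ Y.hom) ⟶ Y,
      jj = Over.homMk (pullback.fst (Y.hom ≫ f) i₀) rfl := ⟨_, rfl⟩
  have h := h0 _ ⟨pullback.snd (Y.hom ≫ f) i₀, by
    rw [← pullback.condition]; simp⟩ (jj ≫ g) (jj ≫ x)
  rw [← comp_lift_assoc] at h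
  have h' : (jj ≫ lift g x ≫ a.act).left y₀ = (jj ≫ x).left y₀ := by rw [h]
  rw [Over.comp_left, Over.comp_left, hjj] at h'
  simp only [Over.homMk_left, Scheme.Hom.comp_apply] at h'
  rw [← hy₀]
  exact h'


section GOf

variable (M) {C : Type u} [CommRing C]

/-- the ring map out of `ℤ[M]` attached to a character. -/
noncomputable def thetaOf (χ : Multiplicative M →* C) : AM.{u} M →+* C :=
  MonoidAlgebra.liftNCRingHom
    ((Int.castRingHom C).comp (ULift.ringEquiv : ULift.{u} ℤ ≃+* ℤ).toRingHom) χ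
    (fun _ _ => Commute.all _ _)

lemma thetaOf_single (χ : Multiplicative M →* C) (m : Multiplicative M) :
    thetaOf M χ (MonoidAlgebra.single m 1) = χ m := by
  unfold thetaOf
  rw [MonoidAlgebra.liftNCRingHom_single]
  simp

/-- the point of the diagonalisable group attached to a character. -/
noncomputable def gOf (σ : Spec (CommRingCat.of C) ⟶ U) (χ : Multiplicative M →* C) :
    Over.mk σ ⟶ Red.DS U M :=
  ptOf M (X := Over.mk σ) (Spec.map (CommRingCat.ofHom (thetaOf M χ)))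

lemma gOf_comp {C' : Type u} [CommRing C'] (ψ : C →+* C') (σ : Spec (CommRingCat.of C) ⟶ U)
    (σ' : Spec (CommRingCat.of C') ⟶ U) (hs : Spec.map (CommRingCat.ofHom ψ) ≫ σ = σ')
    (χ : Multiplicative M →* C) :
    (Over.homMk (Spec.map (CommRingCat.ofHom ψ)) hs : Over.mk σ' ⟶ Over.mk σ) ≫ gOf M σ χ =
      gOf M σ' ((ψ : C →* C').comp χ) := by
  unfold gOf
  rw [ptOf_comp]
  congr 1
  change Spec.map (CommRingCat.ofHom ψ) ≫ Spec.map (CommRingCat.ofHom (thetaOf M χ)) = _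
  have hθ : ψ.comp (thetaOf M χ) = thetaOf M ((ψ : C →* C').comp χ) := by
    apply amRingHom_ext
    intro m
    change ψ (thetaOf M χ (MonoidAlgebra.single m 1)) = _
    rw [thetaOf_single, thetaOf_single]
    rfl
  rw [← Spec.map_comp, ← CommRingCat.ofHom_comp, hθ]

lemma gOf_mul (σ : Spec (CommRingCat.of C) ⟶ U) (χ χ' : Multiplicative M →* C) :
    gOf M σ χ * gOf M σ χ' = gOf M σ (χ * χ') := by
  unfold gOf
  apply ptOf_mul
  intro m
  rw [fn_specMap_id, fn_specMap_id, fn_specMap_id, thetaOf_single, thetaOf_single,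
    thetaOf_single, MonoidHom.mul_apply, map_mul]

lemma gOf_one (σ : Spec (CommRingCat.of C) ⟶ U) : gOf M σ (1 : Multiplicative M →* C) = 1 := by
  have h := gOf_mul M σ (1 : Multiplicative M →* C) 1
  rw [_root_.mul_one] at h
  obtain ⟨g, hg⟩ : ∃ g : Over.mk σ ⟶ Red.DS U M, g = gOf M σ 1 := ⟨_, rfl⟩
  rw [← hg] at h ⊢
  have h2 : g * g = g * 1 := by rw [h]; exact (_root_.mul_one g).symm
  exact @mul_left_cancel _ _ (@LeftCancelSemigroup.toIsLeftCancelMul _
    (@LeftCancelMonoid.toLeftCancelSemigroup _ (@CancelMonoid.toLeftCancelMonoid _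
      (@Group.toCancelMonoid _ Hom.group)))) _ _ _ h2

lemma exists_gOf (σ : Spec (CommRingCat.of C) ⟶ U) (g : Over.mk σ ⟶ Red.DS U M) :
    ∃ χ : Multiplicative M →* C, g = gOf M σ χ := by
  obtain ⟨y, hy⟩ : ∃ y : Spec (CommRingCat.of C) ⟶ Spec (CommRingCat.of (AM.{u} M)),
      y = (adjEquiv (tU U) (Red.diag (ULift.{u} ℤ) M) (Over.mk σ) g).left := ⟨_, rfl⟩
  have hg : g = ptOf M (X := Over.mk σ) y := by rw [hy, ptOf_adjEquiv]
  obtain ⟨θ, hθ⟩ : ∃ θ : AM.{u} M →+* C, θ = (Spec.preimage y).hom := ⟨_, rfl⟩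
  have hyθ : y = Spec.map (CommRingCat.ofHom θ) := by
    rw [hθ, CommRingCat.ofHom_hom, Spec.map_preimage]
  refine ⟨(θ : AM.{u} M →* C).comp (MonoidAlgebra.of (ULift.{u} ℤ) (Multiplicative M)), ?_⟩
  rw [hg, hyθ]
  unfold gOf
  congr 3
  apply amRingHom_ext
  intro m
  rw [thetaOf_single]
  rfl

end GOf

section Loc

variable (hsurj : Surjective i₀) (h0 : TrivOn i₀ f M a)
  {W : X.left.Opens} (hW : IsAffineOpen W) (V : S.affineOpens)
  (e : W ≤ (X.hom ≫ f) ⁻¹ᵁ V.1)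

/-- the point of `X` over the base point it defines. -/
noncomputable def xOf {C : Type u} [CommRing C] (φ : Γ(X.left, W) →+* C) :
    Over.mk (ptW hW φ ≫ X.hom) ⟶ X :=
  Over.homMk (ptW hW φ) rfl

include hsurj h0 in
lemma exists_actR {C : Type u} [CommRing C] (χ : Multiplicative M →* C)
    (φ : Γ(X.left, W) →+* C) :
    ∃ φ' : Γ(X.left, W) →+* C,
      (lift (gOf M (ptW hW φ ≫ X.hom) χ) (xOf hW φ) ≫ a.act).left = ptW hW φ' := by
  apply exists_eq_ptW
  intro t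
  rw [act_apply_eq hsurj h0]
  exact ptW_mem hW φ t

/-- the transported point. -/
noncomputable def actR (C : Type u) [CommRing C] (χ : Multiplicative M →* C)
    (φ : Γ(X.left, W) →+* C) : Γ(X.left, W) →+* C :=
  (exists_actR hsurj h0 hW χ φ).choose

lemma actR_spec {C : Type u} [CommRing C] (χ : Multiplicative M →* C)
    (φ : Γ(X.left, W) →+* C) (σ : Spec (CommRingCat.of C) ⟶ U) (x : Over.mk σ ⟶ X)
    (hx : x.left = ptW hW φ) :
    (lift (gOf M σ χ) x ≫ a.act).left = ptW hW (actR hsurj h0 hW C χ φ) := by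
  have hσ : σ = ptW hW φ ≫ X.hom := by
    rw [← hx]
    exact (Over.w x).symm
  subst hσ
  have hxx : x = xOf hW φ := by
    apply Over.OverMorphism.ext
    rw [hx]
    rfl
  rw [hxx]
  exact (exists_actR hsurj h0 hW χ φ).choose_spec


lemma actR_nat {C C' : Type u} [CommRing C] [CommRing C'] (ψ : C →+* C')
    (χ : Multiplicative M →* C) (φ : Γ(X.left, W) →+* C) :
    actR hsurj h0 hW C' ((ψ : C →* C').comp χ) (ψ.comp φ) =
      ψ.comp (actR hsurj h0 hW C χ φ) := by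
  apply ptW_injective hW
  obtain ⟨σ, hσ⟩ : ∃ σ : Spec (CommRingCat.of C) ⟶ U, σ = ptW hW φ ≫ X.hom := ⟨_, rfl⟩
  obtain ⟨σ', hσ'⟩ : ∃ σ' : Spec (CommRingCat.of C') ⟶ U,
      σ' = Spec.map (CommRingCat.ofHom ψ) ≫ σ := ⟨_, rfl⟩
  obtain ⟨x, hx⟩ : ∃ x : Over.mk σ ⟶ X, x.left = ptW hW φ :=
    ⟨Over.homMk (ptW hW φ) hσ.symm, rfl⟩
  obtain ⟨h, hh⟩ : ∃ h : Over.mk σ' ⟶ Over.mk σ, h.left = Spec.map (CommRingCat.ofHom ψ) :=
    ⟨Over.homMk (Spec.map (CommRingCat.ofHom ψ)) hσ'.symm, rfl⟩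
  have hg : h ≫ gOf M σ χ = gOf M σ' ((ψ : C →* C').comp χ) := by
    rw [← gOf_comp M ψ σ σ' hσ'.symm χ]
    congr 1
    apply Over.OverMorphism.ext
    rw [hh]
    rfl
  have hx' : (h ≫ x).left = ptW hW (ψ.comp φ) := by
    rw [Over.comp_left, hh, hx, specMap_comp_ptW]
  rw [← actR_spec hsurj h0 hW _ _ σ' (h ≫ x) hx', ← hg, ← comp_lift_assoc, Over.comp_left,
    actR_spec hsurj h0 hW χ φ σ x hx, hh, specMap_comp_ptW]

lemma actR_one {C : Type u} [CommRing C] (φ : Γ(X.left, W) →+* C) :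
    actR hsurj h0 hW C 1 φ = φ := by
  apply ptW_injective hW
  rw [← actR_spec hsurj h0 hW 1 φ _ (xOf hW φ) rfl, gOf_one, AlgGrp.Action.lift_one_act]
  rfl

lemma actR_mul {C : Type u} [CommRing C] (χ χ' : Multiplicative M →* C)
    (φ : Γ(X.left, W) →+* C) :
    actR hsurj h0 hW C (χ * χ') φ = actR hsurj h0 hW C χ (actR hsurj h0 hW C χ' φ) := by
  apply ptW_injective hW
  rw [← actR_spec hsurj h0 hW (χ * χ') φ _ (xOf hW φ) rfl, ← gOf_mul,
    AlgGrp.Action.lift_mul_act]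
  exact actR_spec hsurj h0 hW χ _ _ _ (actR_spec hsurj h0 hW χ' φ _ (xOf hW φ) rfl)

include e in
lemma actR_lin {C : Type u} [CommRing C] (χ : Multiplicative M →* C)
    (φ : Γ(X.left, W) →+* C) :
    (actR hsurj h0 hW C χ φ).comp ((X.hom ≫ f).appLE V.1 W e).hom =
      φ.comp ((X.hom ≫ f).appLE V.1 W e).hom := by
  apply ptW_injective V.2
  rw [← ptW_comp hW (X.hom ≫ f) V.2 e, ← ptW_comp hW (X.hom ≫ f) V.2 e,
    ← actR_spec hsurj h0 hW χ φ _ (xOf hW φ) rfl, ← Category.assoc, Over.w]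
  rfl

include e in
lemma actR_nil {C : Type u} [CommRing C] (χ : Multiplicative M →* C)
    (φ : Γ(X.left, W) →+* C)
    (hφ : ∀ j ∈ i₀.ker.ideal V, φ (((X.hom ≫ f).appLE V.1 W e).hom j) = 0) :
    actR hsurj h0 hW C χ φ = φ := by
  apply ptW_injective hW
  obtain ⟨p, hp⟩ := exists_factor_of_ker i₀ V (φ.comp ((X.hom ≫ f).appLE V.1 W e).hom) hφ
  rw [← actR_spec hsurj h0 hW χ φ _ (xOf hW φ) rfl]
  rw [h0 (Over.mk (ptW hW φ ≫ X.hom)) ⟨p, by
    rw [hp, ← ptW_comp hW (X.hom ≫ f) V.2 e]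
    simp⟩]
  rfl

include e in
theorem actR_eq (hJ : IsNilpotent (i₀.ker.ideal V)) {C : Type u} [CommRing C]
    (χ : Multiplicative M →* C) (φ : Γ(X.left, W) →+* C) :
    actR hsurj h0 hW C χ φ = φ := by
  let _ : Algebra Γ(S, V.1) Γ(X.left, W) := ((X.hom ≫ f).appLE V.1 W e).hom.toAlgebra
  exact Groth.Agent.Lib.Helper15DiagRigidAlg.act_eq_of_nilpotent (R := Γ(S, V.1))
    (A := Γ(X.left, W)) (N := Multiplicative M) (i₀.ker.ideal V) hJ
    (fun C _ χ φ => actR hsurj h0 hW C χ φ)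
    (fun C C' _ _ ψ χ φ => actR_nat hsurj h0 hW ψ χ φ)
    (fun C _ φ => actR_one hsurj h0 hW φ)
    (fun C _ χ χ' φ => actR_mul hsurj h0 hW χ χ' φ)
    (fun C _ χ φ r => congr($(actR_lin hsurj h0 hW V e χ φ) r))
    (fun C _ χ φ hφ => actR_nil hsurj h0 hW V e χ φ hφ) C χ φ

include hsurj h0 hW e in
/-- on points from an affine scheme landing in a small affine open, the action is trivial. -/
theorem act_eq_affine (hJ : IsNilpotent (i₀.ker.ideal V)) {C : Type u} [CommRing C]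
    (σ : Spec (CommRingCat.of C) ⟶ U) (g : Over.mk σ ⟶ Red.DS U M) (x : Over.mk σ ⟶ X)
    (hx : ∀ t, x.left t ∈ W) : lift g x ≫ a.act = x := by
  obtain ⟨χ, rfl⟩ := exists_gOf M σ g
  obtain ⟨φ, hφ⟩ := exists_eq_ptW hW x.left hx
  apply Over.OverMorphism.ext
  rw [actR_spec hsurj h0 hW χ φ σ x hφ, actR_eq hsurj h0 hW V e hJ, hφ]

end Loc


/-- **Rigidity, split case**: an action of a diagonalisable group on `X` which is trivial on
points over a closed subscheme with locally nilpotent ideal is trivial. -/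
theorem act_eq_of_trivOn
    (hnil : ∀ s : S, ∃ V : S.affineOpens, s ∈ V.1 ∧ IsNilpotent (i₀.ker.ideal V))
    (h0 : TrivOn i₀ f M a) (Y : Over U) (g : Y ⟶ Red.DS U M) (x : Y ⟶ X) :
    lift g x ≫ a.act = x := by
  have hsurj := surjective_of_locally_nilpotent i₀ hnil
  apply Over.OverMorphism.ext
  apply Scheme.hom_ext_of_forall
  intro y
  obtain ⟨V, hsV, hJ⟩ := hnil ((X.hom ≫ f) (x.left y))
  have hsV' : x.left y ∈ (X.hom ≫ f) ⁻¹ᵁ V.1 := hsV
  obtain ⟨W, hW, hyW, hWV⟩ := TopologicalSpace.Opens.isBasis_iff_nbhd.mp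
    X.left.isBasis_affineOpens hsV'
  have hyW' : y ∈ x.left ⁻¹ᵁ W := hyW
  obtain ⟨O, hO, hyO, hOW⟩ := TopologicalSpace.Opens.isBasis_iff_nbhd.mp
    Y.left.isBasis_affineOpens hyW'
  refine ⟨O, hyO, ?_⟩
  have hOa : IsAffineOpen O := hO
  have hWa : IsAffineOpen W := hW
  rw [← cancel_epi hOa.isoSpec.inv, IsAffineOpen.isoSpec_inv_ι_assoc,
    IsAffineOpen.isoSpec_inv_ι_assoc]
  obtain ⟨j, hj⟩ : ∃ j : Over.mk (hOa.fromSpec ≫ Y.hom) ⟶ Y, j.left = hOa.fromSpec :=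
    ⟨Over.homMk hOa.fromSpec rfl, rfl⟩
  have key := act_eq_affine hsurj h0 hWa V hWV hJ (hOa.fromSpec ≫ Y.hom) (j ≫ g) (j ≫ x) (by
    intro t
    rw [Over.comp_left, hj, Scheme.Hom.comp_apply]
    apply hOW
    have : hOa.fromSpec t ∈ Set.range hOa.fromSpec := ⟨_, rfl⟩
    rw [hOa.range_fromSpec] at this
    exact this)
  rw [← comp_lift_assoc] at key
  have key' := congrArg (fun z => z.left) key
  simp only [Over.comp_left, hj] at key'
  exact key'

end Core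

end Groth.Agent.Lib.Helper15DiagRigid
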