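-- helper15: free actions of diagonalisable groups, ring-valued-points form: weight elements generate the unit ideal
import Mathlib
import Groth.Agent.Lib.Helper15DiagRigidAlg
set_option autoImplicit false
universe u
open MonoidAlgebra

namespace Groth.Agent.Lib.Helper15FreeActAlg

open Groth.Agent.Lib.Helper15DiagRigidAlg

/-- a natural action of the characters `N →* C` on the ring-valued points `A →+* C`. -/
structure CharAct (A : Type u) [CommRing A] (N : Type) [CommGroup N] where
  act : ∀ (C : Type u) [CommRing C], (N →* C) → (A →+* C) → (A →+* C)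
  nat : ∀ (C C' : Type u) [CommRing C] [CommRing C'] (ψ : C →+* C') (χ : N →* C) (φ : A →+* C),
      act C' ((ψ : C →* C').comp χ) (ψ.comp φ) = ψ.comp (act C χ φ)
  one : ∀ (C : Type u) [CommRing C] (φ : A →+* C), act C 1 φ = φ
  mul : ∀ (C : Type u) [CommRing C] (χ χ' : N →* C) (φ : A →+* C),
      act C (χ * χ') φ = act C χ (act C χ' φ)

namespace CharAct

variable {A : Type u} [CommRing A] {N : Type} [CommGroup N] (T : CharAct A N)

/-- the coaction. -/
noncomputable def rho : A →+* MonoidAlgebra A N :=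
  T.act (MonoidAlgebra A N) (of A N) singleOneRingHom

lemma gen (C : Type u) [CommRing C] (χ : N →* C) (φ : A →+* C) :
    T.act C χ φ = (liftNCRingHom φ χ (fun _ _ => Commute.all _ _)).comp T.rho := by
  have h1 : (liftNCRingHom φ χ (fun _ _ => Commute.all _ _)).comp
      (singleOneRingHom : A →+* MonoidAlgebra A N) = φ := by
    ext a
    rw [RingHom.comp_apply]
    change liftNCRingHom φ χ _ (single 1 a) = φ a
    rw [liftNCRingHom_single, map_one, mul_one]
  have h2 : ((liftNCRingHom φ χ (fun _ _ => Commute.all _ _) :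
      MonoidAlgebra A N →+* C) : MonoidAlgebra A N →* C).comp (of A N) = χ := by
    ext n
    rw [MonoidHom.comp_apply, of_apply]
    change liftNCRingHom φ χ (fun _ _ => Commute.all _ _) (single n 1) = χ n
    rw [liftNCRingHom_single, map_one, one_mul]
  have := T.nat (MonoidAlgebra A N) C (liftNCRingHom φ χ (fun _ _ => Commute.all _ _)) (of A N)
    singleOneRingHom
  rw [h1, h2] at this
  exact this

/-- the weight components. -/
noncomputable def p (n : N) (a : A) : A := (T.rho a).coeff n

lemma p_add (n : N) (a b : A) : T.p n (a + b) = T.p n a + T.p n b := by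
  unfold p
  rw [map_add, coeff_add, Finsupp.add_apply]

lemma p_zero (n : N) : T.p n 0 = 0 := by
  unfold p
  rw [map_zero, coeff_zero, Finsupp.zero_apply]

lemma p_p [DecidableEq N] (n m : N) (a : A) :
    T.p m (T.p n a) = if n = m then T.p n a else 0 := by
  have h := T.mul (MonoidAlgebra A (N × N)) ((of A (N × N)).comp (MonoidHom.inl N N))
    ((of A (N × N)).comp (MonoidHom.inr N N)) singleOneRingHom
  rw [T.gen, T.gen _ ((of A (N × N)).comp (MonoidHom.inl N N)), T.gen] at h
  have h' := congrArg (fun f : A →+* MonoidAlgebra A (N × N) => (f a).coeff (n, m)) h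
  simp only [RingHom.comp_apply] at h'
  rw [coeff_liftNC_diag] at h'
  change (if n = m then T.p n a else 0) = _ at h'
  rw [h']
  have key : ∀ x : MonoidAlgebra A N,
      (liftNCRingHom ((liftNCRingHom (singleOneRingHom : A →+* MonoidAlgebra A (N × N))
        ((of A (N × N)).comp (MonoidHom.inr N N)) (fun _ _ => Commute.all _ _)).comp T.rho)
        ((of A (N × N)).comp (MonoidHom.inl N N)) (fun _ _ => Commute.all _ _) x).coeff (n, m) =
        T.p m (x.coeff n) := by
    intro x
    induction x using MonoidAlgebra.induction_linear with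
    | zero => simp [T.p_zero]
    | add x y hx hy =>
      rw [map_add, coeff_add, Finsupp.add_apply, hx, hy, coeff_add, Finsupp.add_apply, T.p_add]
    | single k b =>
      rw [liftNCRingHom_single, RingHom.comp_apply, MonoidHom.comp_apply, MonoidHom.inl_apply,
        of_apply, coeff_mul_single_apply, mul_one, coeff_liftNC_inr, coeff_single,
        Finsupp.single_apply]
      simp only [Prod.inv_mk, inv_one, Prod.mk_mul_mk, mul_one]
      by_cases hk : k = n
      · subst hk
        rw [if_pos rfl, if_pos (mul_inv_cancel k)]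
        rfl
      · rw [if_neg hk, if_neg, T.p_zero]
        intro h0
        exact hk (mul_inv_eq_one.mp h0).symm
  rw [key]
  rfl

/-- elements of weight `n`. -/
def IsWt (n : N) (a : A) : Prop := T.rho a = single n a

lemma isWt_p (n : N) (a : A) : T.IsWt n (T.p n a) := by
  classical
  unfold IsWt
  ext m
  rw [coeff_single, Finsupp.single_apply, ← T.p_p n m a]
  rfl

lemma isWt_zero (n : N) : T.IsWt n 0 := by
  unfold IsWt
  rw [map_zero, single_zero]

lemma isWt_one : T.IsWt 1 1 := by
  unfold IsWt
  rw [map_one, one_def]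

lemma isWt_mul {m m' : N} {a b : A} (ha : T.IsWt m a) (hb : T.IsWt m' b) :
    T.IsWt (m * m') (a * b) := by
  unfold IsWt at ha hb ⊢
  rw [map_mul, ha, hb, single_mul_single]

lemma act_of_isWt {n : N} {a : A} (h : T.IsWt n a) (C : Type u) [CommRing C] (χ : N →* C)
    (φ : A →+* C) : T.act C χ φ a = φ a * χ n := by
  rw [T.gen, RingHom.comp_apply, h, liftNCRingHom_single]

lemma liftNC_rho (a : A) :
    liftNCRingHom (RingHom.id A) (1 : N →* A) (fun _ _ => Commute.all _ _) (T.rho a) = a := by
  have h1 := T.one A (RingHom.id A)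
  rw [T.gen] at h1
  exact congr($h1 a)

/-- induction over the weight decomposition. -/
theorem hom_induction {P : A → Prop} (h0 : P 0) (hadd : ∀ a b, P a → P b → P (a + b))
    (hw : ∀ n a, T.IsWt n a → P a) (a : A) : P a := by
  classical
  have key : ∀ z : MonoidAlgebra A N, (∀ m, T.IsWt m (z.coeff m)) →
      P (liftNCRingHom (RingHom.id A) (1 : N →* A) (fun _ _ => Commute.all _ _) z) := by
    intro z
    induction z using MonoidAlgebra.induction with
    | zero => intro _; rw [map_zero]; exact h0
    | single_add m r x hm _ ih =>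
      intro hz
      have hxm : x.coeff m = 0 := Finsupp.notMem_support_iff.mp hm
      rw [map_add, liftNCRingHom_single, RingHom.id_apply, MonoidHom.one_apply, mul_one]
      apply hadd
      · have := hz m
        rw [coeff_add, Finsupp.add_apply, coeff_single, Finsupp.single_eq_same, hxm,
          add_zero] at this
        exact hw m r this
      · apply ih
        intro m'
        by_cases hmm : m' = m
        · subst hmm
          rw [hxm]
          exact T.isWt_zero _
        · have := hz m'
          rw [coeff_add, Finsupp.add_apply, coeff_single, Finsupp.single_apply,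
            if_neg (Ne.symm hmm), zero_add] at this
          exact this
  have := key (T.rho a) (fun m => T.isWt_p m a)
  rw [T.liftNC_rho] at this
  exact this

section Free

variable (hfree : ∀ (C : Type u) [CommRing C] (χ : N →* C) (φ : A →+* C), T.act C χ φ = φ → χ = 1)

include hfree in
/-- a point of a free action over a domain cannot kill all elements of some weight. -/
theorem false_of_vanish {K : Type u} [CommRing K] [IsDomain K] (x : A →+* K) (n : N)
    (hn : ∀ a, T.IsWt n a → x a = 0) : False := by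
  classical
  -- the monoid of weights not vanishing at `x`
  obtain ⟨Nx, hNx⟩ : ∃ Nx : Submonoid N, ∀ m, m ∈ Nx ↔ ∃ a, T.IsWt m a ∧ x a ≠ 0 := by
    refine ⟨{ carrier := {m | ∃ a, T.IsWt m a ∧ x a ≠ 0}
              mul_mem' := ?_
              one_mem' := ?_ }, fun m => Iff.rfl⟩
    · rintro m m' ⟨a, ha, hxa⟩ ⟨b, hb, hxb⟩
      exact ⟨a * b, T.isWt_mul ha hb, by rw [map_mul]; exact mul_ne_zero hxa hxb⟩
    · exact ⟨1, T.isWt_one, by rw [map_one]; exact one_ne_zero⟩
  obtain ⟨Ns, hNs⟩ : ∃ Ns : Subgroup N, ∀ m, m ∈ Ns ↔ m ∈ Nx ∧ m⁻¹ ∈ Nx := by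
    refine ⟨{ carrier := {m | m ∈ Nx ∧ m⁻¹ ∈ Nx}
              mul_mem' := ?_
              one_mem' := ?_
              inv_mem' := ?_ }, fun m => Iff.rfl⟩
    · rintro m m' ⟨h1, h2⟩ ⟨h3, h4⟩
      refine ⟨Nx.mul_mem h1 h3, ?_⟩
      rw [mul_inv]
      exact Nx.mul_mem h2 h4
    · exact ⟨Nx.one_mem, by rw [inv_one]; exact Nx.one_mem⟩
    · rintro m ⟨h1, h2⟩
      exact ⟨h2, by rw [inv_inv]; exact h1⟩
  have hNs_of_mul : ∀ m m', m ∈ Nx → m' ∈ Nx → m * m' ∈ Ns → m ∈ Ns ∧ m' ∈ Ns := by
    intro m m' hm hm' hmm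
    rw [hNs] at hmm
    have e1 : m⁻¹ = m' * (m * m')⁻¹ := by rw [mul_inv, mul_comm m⁻¹, mul_inv_cancel_left]
    have e2 : m'⁻¹ = m * (m * m')⁻¹ := by rw [mul_inv, mul_inv_cancel_left]
    refine ⟨(hNs m).mpr ⟨hm, ?_⟩, (hNs m').mpr ⟨hm', ?_⟩⟩
    · rw [e1]; exact Nx.mul_mem hm' hmm.2
    · rw [e2]; exact Nx.mul_mem hm hmm.2
  have hnNs : n ∉ Ns := by
    intro h
    obtain ⟨a, ha, hxa⟩ := (hNx n).mp ((hNs n).mp h).1
    exact hxa (hn a ha)
  -- the limit point
  obtain ⟨ind, hind⟩ : ∃ ind : N → K, ∀ m, ind m = if m ∈ Ns then 1 else 0 := ⟨_, fun _ => rfl⟩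
  obtain ⟨y0, hy0⟩ : ∃ y0 : A →+ K, ∀ m a, T.IsWt m a → y0 a = x a * ind m := by
    refine ⟨(liftNC (x : A →+ K) ind).comp (T.rho : A →+ MonoidAlgebra A N), ?_⟩
    intro m a ha
    rw [AddMonoidHom.comp_apply]
    change liftNC (x : A →+ K) ind (T.rho a) = _
    rw [ha, liftNC_single]
    rfl
  have hy_one : y0 1 = 1 := by
    rw [hy0 1 1 T.isWt_one, map_one, hind, if_pos Ns.one_mem, mul_one]
  have hy_mul : ∀ a b, y0 (a * b) = y0 a * y0 b := by
    intro a
    refine T.hom_induction (P := fun a => ∀ b, y0 (a * b) = y0 a * y0 b) ?_ ?_ ?_ a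
    · intro b; rw [zero_mul, map_zero, zero_mul]
    · intro a a' ha ha' b
      rw [add_mul, map_add, map_add, ha, ha', add_mul]
    · intro m a ha b
      refine T.hom_induction (P := fun b => y0 (a * b) = y0 a * y0 b) ?_ ?_ ?_ b
      · rw [mul_zero, map_zero, mul_zero]
      · intro b b' hb hb'
        rw [mul_add, map_add, map_add, hb, hb', mul_add]
      · intro m' b hb
        rw [hy0 _ _ (T.isWt_mul ha hb), hy0 _ _ ha, hy0 _ _ hb, map_mul]
        by_cases hxa : x a = 0
        · rw [hxa, zero_mul, zero_mul, zero_mul, zero_mul]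
        by_cases hxb : x b = 0
        · rw [hxb, mul_zero, zero_mul, zero_mul, mul_zero]
        have hm : m ∈ Nx := (hNx m).mpr ⟨a, ha, hxa⟩
        have hm' : m' ∈ Nx := (hNx m').mpr ⟨b, hb, hxb⟩
        have : ind (m * m') = ind m * ind m' := by
          rw [hind, hind, hind]
          by_cases hmm : m * m' ∈ Ns
          · obtain ⟨k1, k2⟩ := hNs_of_mul m m' hm hm' hmm
            rw [if_pos hmm, if_pos k1, if_pos k2, mul_one]
          · rw [if_neg hmm]
            by_cases k1 : m ∈ Ns
            · by_cases k2 : m' ∈ Ns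
              · exact absurd (Ns.mul_mem k1 k2) hmm
              · rw [if_neg k2, mul_zero]
            · rw [if_neg k1, zero_mul]
        rw [this]
        ring
  obtain ⟨y, hy⟩ : ∃ y : A →+* K, ∀ a, y a = y0 a :=
    ⟨{ toFun := y0
       map_one' := hy_one
       map_mul' := hy_mul
       map_zero' := map_zero y0
       map_add' := map_add y0 }, fun _ => rfl⟩
  -- the test point
  obtain ⟨χ, hχ⟩ : ∃ χ : N →* MonoidAlgebra K (N ⧸ Ns),
      χ = (of K (N ⧸ Ns)).comp (QuotientGroup.mk' Ns) := ⟨_, rfl⟩
  obtain ⟨φ, hφ⟩ : ∃ φ : A →+* MonoidAlgebra K (N ⧸ Ns),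
      φ = (singleOneRingHom : K →+* MonoidAlgebra K (N ⧸ Ns)).comp y := ⟨_, rfl⟩
  have hfix : T.act _ χ φ = φ := by
    ext1 a
    refine T.hom_induction (P := fun a => T.act _ χ φ a = φ a) ?_ ?_ ?_ a
    · rw [map_zero, map_zero]
    · intro a b ha hb
      rw [map_add, map_add, ha, hb]
    · intro m a ha
      rw [T.act_of_isWt ha]
      by_cases hm : m ∈ Ns
      · have : χ m = 1 := by
          rw [hχ, MonoidHom.comp_apply, QuotientGroup.mk'_apply,
            (QuotientGroup.eq_one_iff m).mpr hm, map_one]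
        rw [this, mul_one]
      · have : φ a = 0 := by
          rw [hφ, RingHom.comp_apply, hy, hy0 m a ha, hind, if_neg hm, mul_zero, map_zero]
        rw [this, zero_mul]
  have h1 := hfree _ χ φ hfix
  have h2 : χ n = 1 := by rw [h1]; rfl
  rw [hχ, MonoidHom.comp_apply, QuotientGroup.mk'_apply] at h2
  have h3 : ((n : N ⧸ Ns)) = 1 := by
    apply MonoidAlgebra.of_injective (R := K)
    rw [h2, map_one]
  exact hnNs ((QuotientGroup.eq_one_iff n).mp h3)

include hfree in
/-- for a free action the elements of any given weight generate the unit ideal. -/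
theorem one_mem_span (n : N) : (1 : A) ∈ Ideal.span {a | T.IsWt n a} := by
  by_contra h
  have hne : Ideal.span {a | T.IsWt n a} ≠ ⊤ := fun h' => h (by rw [h']; trivial)
  obtain ⟨𝔭, hmax, hle⟩ := Ideal.exists_le_maximal _ hne
  have : 𝔭.IsPrime := hmax.isPrime
  refine T.false_of_vanish hfree (Ideal.Quotient.mk 𝔭) n ?_
  intro a ha
  rw [Ideal.Quotient.eq_zero_iff_mem]
  exact hle (Ideal.subset_span ha)

include hfree in
/-- a subring containing the values of a point and of its transform contains the values of the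
character. -/
theorem chi_mem (C : Type u) [CommRing C] (χ : N →* C) (φ : A →+* C) (D' : Subring C)
    (h1 : ∀ a, φ a ∈ D') (h2 : ∀ a, T.act C χ φ a ∈ D') (n : N) : χ n ∈ D' := by
  have key : ∀ b ∈ Ideal.span {a | T.IsWt n a}, φ b * χ n ∈ D' := by
    intro b hb
    refine Submodule.span_induction (p := fun b _ => φ b * χ n ∈ D') ?_ ?_ ?_ ?_ hb
    · intro a ha
      rw [← T.act_of_isWt ha]
      exact h2 a
    · rw [map_zero, zero_mul]; exact D'.zero_mem
    · intro a b _ _ ha hb
      rw [map_add, add_mul]; exact D'.add_mem ha hb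
    · intro c b _ hb
      rw [smul_eq_mul, map_mul, mul_assoc]
      exact D'.mul_mem (h1 c) hb
  have := key 1 (T.one_mem_span hfree n)
  rw [map_one, one_mul] at this
  exact this

end Free

end CharAct

end Groth.Agent.Lib.Helper15FreeActAlg
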