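-- helper15: graph of a free action of a diagonalisable group on an affine scheme over an affine base is a closed immersion (ring-valued points)
import Mathlib
import Groth.Agent.Lib.Helper15DiagRigid
import Groth.Agent.Lib.Helper15FreeActAlg
import Groth.Prelude.Def_ActBC
set_option autoImplicit false
universe u
open CategoryTheory CategoryTheory.Limits AlgebraicGeometry MonoidalCategory CartesianMonoidalCategory
  MonObj GrpObj

namespace Groth.Agent.Lib.Helper15FreeActPts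

open Groth.Agent.Lib.Helper15DiagRigid Groth.Agent.Lib.Helper11MultGa Groth.Agent.Lib.Helper27.GaGm
open Groth.Agent.Lib.Helper15FreeActAlg

section Top

/-- ring-valued points of an affine scheme. -/
noncomputable abbrev ptT (P : Scheme.{u}) [IsAffine P] {C : Type u} [CommRing C]
    (φ : Γ(P, ⊤) →+* C) : Spec (CommRingCat.of C) ⟶ P :=
  ptW (isAffineOpen_top P) φ

variable {P Y : Scheme.{u}} [IsAffine P] [IsAffine Y]

lemma ptT_comp (q : P ⟶ Y) {C : Type u} [CommRing C] (φ : Γ(P, ⊤) →+* C) :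
    ptT P φ ≫ q = ptT Y (φ.comp q.appTop.hom) := by
  have h := ptW_comp (isAffineOpen_top P) q (isAffineOpen_top Y) (W := ⊤) (V := ⊤)
    (fun _ _ => trivial) φ
  rw [h]
  congr 3
  exact Scheme.Hom.appLE_eq_app q

lemma exists_eq_ptT {C : Type u} [CommRing C] (y : Spec (CommRingCat.of C) ⟶ P) :
    ∃ φ : Γ(P, ⊤) →+* C, y = ptT P φ :=
  exists_eq_ptW (isAffineOpen_top P) y (fun _ => trivial)

end Top

section Act

variable {U : Scheme.{u}} (M : Type) [AddCommGroup M] {X : Over U} [IsAffine X.left]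
  (a : AlgGrp.Action (Red.DS U M) X)

lemma exists_actT {C : Type u} [CommRing C] (χ : Multiplicative M →* C)
    (φ : Γ(X.left, ⊤) →+* C) :
    ∃ φ' : Γ(X.left, ⊤) →+* C,
      (lift (gOf M (ptT X.left φ ≫ X.hom) χ) (xOf (isAffineOpen_top X.left) φ) ≫ a.act).left =
        ptT X.left φ' :=
  exists_eq_ptT _

/-- the transported point. -/
noncomputable def actT (C : Type u) [CommRing C] (χ : Multiplicative M →* C)
    (φ : Γ(X.left, ⊤) →+* C) : Γ(X.left, ⊤) →+* C :=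
  (exists_actT M a χ φ).choose

lemma actT_spec {C : Type u} [CommRing C] (χ : Multiplicative M →* C)
    (φ : Γ(X.left, ⊤) →+* C) (σ : Spec (CommRingCat.of C) ⟶ U) (x : Over.mk σ ⟶ X)
    (hx : x.left = ptT X.left φ) :
    (lift (gOf M σ χ) x ≫ a.act).left = ptT X.left (actT M a C χ φ) := by
  have hσ : σ = ptT X.left φ ≫ X.hom := by
    rw [← hx]
    exact (Over.w x).symm
  subst hσ
  have hxx : x = xOf (isAffineOpen_top X.left) φ := by
    apply Over.OverMorphism.ext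
    rw [hx]
    rfl
  rw [hxx]
  exact (exists_actT M a χ φ).choose_spec

lemma actT_nat {C C' : Type u} [CommRing C] [CommRing C'] (ψ : C →+* C')
    (χ : Multiplicative M →* C) (φ : Γ(X.left, ⊤) →+* C) :
    actT M a C' ((ψ : C →* C').comp χ) (ψ.comp φ) = ψ.comp (actT M a C χ φ) := by
  apply ptW_injective (isAffineOpen_top X.left)
  obtain ⟨σ, hσ⟩ : ∃ σ : Spec (CommRingCat.of C) ⟶ U, σ = ptT X.left φ ≫ X.hom := ⟨_, rfl⟩
  obtain ⟨σ', hσ'⟩ : ∃ σ' : Spec (CommRingCat.of C') ⟶ U,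
      σ' = Spec.map (CommRingCat.ofHom ψ) ≫ σ := ⟨_, rfl⟩
  obtain ⟨x, hx⟩ : ∃ x : Over.mk σ ⟶ X, x.left = ptT X.left φ :=
    ⟨Over.homMk (ptT X.left φ) hσ.symm, rfl⟩
  obtain ⟨h, hh⟩ : ∃ h : Over.mk σ' ⟶ Over.mk σ, h.left = Spec.map (CommRingCat.ofHom ψ) :=
    ⟨Over.homMk (Spec.map (CommRingCat.ofHom ψ)) hσ'.symm, rfl⟩
  have hg : h ≫ gOf M σ χ = gOf M σ' ((ψ : C →* C').comp χ) := by
    rw [← gOf_comp M ψ σ σ' hσ'.symm χ]
    congr 1
    apply Over.OverMorphism.ext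
    rw [hh]
    rfl
  have hx' : (h ≫ x).left = ptT X.left (ψ.comp φ) := by
    rw [Over.comp_left, hh, hx, specMap_comp_ptW]
  have e1 := actT_spec M a ((ψ : C →* C').comp χ) (ψ.comp φ) σ' (h ≫ x) hx'
  have e2 := actT_spec M a χ φ σ x hx
  change ptT X.left _ = ptT X.left _
  rw [← e1, ← hg, ← comp_lift_assoc, Over.comp_left, e2, hh, specMap_comp_ptW]

lemma actT_one {C : Type u} [CommRing C] (φ : Γ(X.left, ⊤) →+* C) :
    actT M a C 1 φ = φ := by
  apply ptW_injective (isAffineOpen_top X.left)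
  have e1 := actT_spec M a 1 φ _ (xOf (isAffineOpen_top X.left) φ) rfl
  change ptT X.left _ = ptT X.left _
  rw [← e1, gOf_one, AlgGrp.Action.lift_one_act]
  rfl

lemma actT_mul {C : Type u} [CommRing C] (χ χ' : Multiplicative M →* C)
    (φ : Γ(X.left, ⊤) →+* C) :
    actT M a C (χ * χ') φ = actT M a C χ (actT M a C χ' φ) := by
  apply ptW_injective (isAffineOpen_top X.left)
  have e1 := actT_spec M a (χ * χ') φ _ (xOf (isAffineOpen_top X.left) φ) rfl
  change ptT X.left _ = ptT X.left _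
  rw [← e1, ← gOf_mul, AlgGrp.Action.lift_mul_act]
  exact actT_spec M a χ _ _ _ (actT_spec M a χ' φ _ (xOf (isAffineOpen_top X.left) φ) rfl)

/-- the action on ring-valued points. -/
noncomputable def charAct : CharAct Γ(X.left, ⊤) (Multiplicative M) where
  act C _ χ φ := actT M a C χ φ
  nat C C' _ _ ψ χ φ := actT_nat M a ψ χ φ
  one C _ φ := actT_one M a φ
  mul C _ χ χ' φ := actT_mul M a χ χ' φ

omit [IsAffine X.left] in
lemma gOf_injective {C : Type u} [CommRing C] (σ : Spec (CommRingCat.of C) ⟶ U)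
    {χ χ' : Multiplicative M →* C} (h : gOf M σ χ = gOf M σ χ') : χ = χ' := by
  unfold gOf at h
  have h1 := congrArg (fun g => (adjEquiv (tU U) (Red.diag (ULift.{u} ℤ) M) (Over.mk σ) g).left) h
  simp only [adjEquiv_ptOf] at h1
  have h2 := congrArg CommRingCat.Hom.hom (Spec.map_injective h1)
  ext m
  have h3 := congr($h2 (MonoidAlgebra.single m 1))
  change thetaOf M χ (MonoidAlgebra.single m 1) = thetaOf M χ' (MonoidAlgebra.single m 1) at h3
  rw [thetaOf_single, thetaOf_single] at h3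
  exact h3

lemma charAct_free
    (hfree : ∀ (Y : Over U) (g : Y ⟶ Red.DS U M) (x : Y ⟶ X), lift g x ≫ a.act = x → g = 1)
    (C : Type u) [CommRing C] (χ : Multiplicative M →* C) (φ : Γ(X.left, ⊤) →+* C)
    (h : (charAct M a).act C χ φ = φ) : χ = 1 := by
  change actT M a C χ φ = φ at h
  have e1 := actT_spec M a χ φ _ (xOf (isAffineOpen_top X.left) φ) rfl
  rw [h] at e1
  have e2 : lift (gOf M (ptT X.left φ ≫ X.hom) χ) (xOf (isAffineOpen_top X.left) φ) ≫ a.act =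
      xOf (isAffineOpen_top X.left) φ := by
    apply Over.OverMorphism.ext
    rw [e1]
    rfl
  have e3 := hfree _ _ _ e2
  rw [← gOf_one] at e3
  exact gOf_injective M _ e3

omit [IsAffine X.left] in
lemma isAffineHom_DS' (U : Scheme.{u}) (M : Type) [AddCommGroup M] :
    IsAffineHom (Red.DS U M).hom := by
  have h : IsAffineHom (Red.diag (ULift.{u} ℤ) M).hom := by
    have h1 : IsAffine (Red.diag (ULift.{u} ℤ) M).left := by
      show IsAffine (Spec _)
      infer_instance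
    exact isAffineHom_of_isAffine _
  exact MorphismProperty.pullback_snd (P := @IsAffineHom) _ _ h

/-- **graph of a free action of a diagonalisable group on an affine scheme over an affine base is a
closed immersion.** -/
theorem isClosedImmersion_graph [IsAffine U] (hX : IsAffineHom X.hom)
    (hfree : ∀ (Y : Over U) (g : Y ⟶ Red.DS U M) (x : Y ⟶ X), lift g x ≫ a.act = x → g = 1) :
    IsClosedImmersion (lift a.act (snd (Red.DS U M) X)).left := by
  have hDS : IsAffineHom (Red.DS U M).hom := isAffineHom_DS' U M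
  have hP : IsAffine (Red.DS U M ⊗ X).left := by
    show IsAffine (pullback (Red.DS U M).hom X.hom)
    infer_instance
  have hQ : IsAffine (X ⊗ X).left := by
    show IsAffine (pullback X.hom X.hom)
    infer_instance
  obtain ⟨Φ, hΦ⟩ : ∃ Φ : Red.DS U M ⊗ X ⟶ X ⊗ X, Φ = lift a.act (snd _ X) := ⟨_, rfl⟩
  rw [← hΦ]
  apply IsClosedImmersion.of_surjective_of_isAffine
  obtain ⟨τ, hτ⟩ : ∃ τ : Spec (CommRingCat.of Γ((Red.DS U M ⊗ X).left, ⊤)) ⟶ (Red.DS U M ⊗ X).left,
      τ = ptT (Red.DS U M ⊗ X).left (RingHom.id _) := ⟨_, rfl⟩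
  obtain ⟨σD, hσD⟩ : ∃ σD : Spec (CommRingCat.of Γ((Red.DS U M ⊗ X).left, ⊤)) ⟶ U,
      σD = τ ≫ (Red.DS U M ⊗ X).hom := ⟨_, rfl⟩
  obtain ⟨τo, hτo⟩ : ∃ τo : Over.mk σD ⟶ Red.DS U M ⊗ X, τo.left = τ :=
    ⟨Over.homMk τ hσD.symm, rfl⟩
  obtain ⟨χD, hχD⟩ := exists_gOf M σD (τo ≫ fst _ _)
  obtain ⟨φD, hφD⟩ : ∃ φD : Γ(X.left, ⊤) →+* Γ((Red.DS U M ⊗ X).left, ⊤),
      φD = (snd (Red.DS U M) X).left.appTop.hom := ⟨_, rfl⟩
  have hxD : (τo ≫ snd _ X).left = ptT X.left φD := by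
    rw [Over.comp_left, hτo, hτ, ptT_comp, hφD]
    rfl
  have hact : (τo ≫ a.act).left = ptT X.left a.act.left.appTop.hom := by
    rw [Over.comp_left, hτo, hτ, ptT_comp]
    rfl
  have hτlift : τo = lift (gOf M σD χD) (τo ≫ snd _ X) := by
    rw [← hχD, ← comp_lift, lift_fst_snd, Category.comp_id]
  have hψ : actT M a _ χD φD = a.act.left.appTop.hom := by
    apply ptW_injective (isAffineOpen_top X.left)
    have e1 := actT_spec M a χD φD σD (τo ≫ snd _ X) hxD
    rw [← hτlift, hact] at e1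
    exact e1.symm
  -- the image subring
  obtain ⟨D', hD'⟩ : ∃ D' : Subring Γ((Red.DS U M ⊗ X).left, ⊤),
      D' = Φ.left.appTop.hom.range := ⟨_, rfl⟩
  have h1 : ∀ b, φD b ∈ D' := by
    intro b
    have e : (snd (Red.DS U M) X).left = Φ.left ≫ (snd X X).left := by
      rw [← Over.comp_left, hΦ, lift_snd]
    rw [hφD, hD', e, Scheme.Hom.comp_appTop]
    exact ⟨_, rfl⟩
  have h2 : ∀ b, (charAct M a).act _ χD φD b ∈ D' := by
    intro b
    change actT M a _ χD φD b ∈ D'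
    have e : a.act.left = Φ.left ≫ (fst X X).left := by
      rw [← Over.comp_left, hΦ, lift_fst]
    rw [hψ, hD', e, Scheme.Hom.comp_appTop]
    exact ⟨_, rfl⟩
  have hχmem : ∀ n, χD n ∈ D' :=
    (charAct M a).chi_mem (charAct_free M a hfree) _ χD φD D' h1 h2
  obtain ⟨χ', hχ'⟩ : ∃ χ' : Multiplicative M →* D', ∀ n, ((χ' n : D') : Γ((Red.DS U M ⊗ X).left, ⊤)) = χD n :=
    ⟨χD.codRestrict D' hχmem, fun _ => rfl⟩
  obtain ⟨φ', hφ'⟩ : ∃ φ' : Γ(X.left, ⊤) →+* D', ∀ b, ((φ' b : D') : Γ((Red.DS U M ⊗ X).left, ⊤)) = φD b :=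
    ⟨φD.codRestrict D' h1, fun _ => rfl⟩
  have e1 : ((D'.subtype : D' →+* Γ((Red.DS U M ⊗ X).left, ⊤)) : D' →* Γ((Red.DS U M ⊗ X).left, ⊤)).comp χ' = χD := by
    ext n
    exact hχ' n
  have e2 : D'.subtype.comp φ' = φD := by
    ext b
    exact hφ' b
  obtain ⟨σ', hσ'⟩ : ∃ σ' : Spec (CommRingCat.of D') ⟶ U, σ' = ptT X.left φ' ≫ X.hom := ⟨_, rfl⟩
  obtain ⟨x', hx'⟩ : ∃ x' : Over.mk σ' ⟶ X, x'.left = ptT X.left φ' :=
    ⟨Over.homMk (ptT X.left φ') hσ'.symm, rfl⟩
  have hισ : Spec.map (CommRingCat.ofHom D'.subtype) ≫ σ' = σD := by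
    have hw := Over.w (τo ≫ snd _ X)
    rw [hxD] at hw
    rw [hσ', ← Category.assoc, specMap_comp_ptW, e2]
    exact hw
  obtain ⟨h, hh⟩ : ∃ h : Over.mk σD ⟶ Over.mk σ', h.left = Spec.map (CommRingCat.ofHom D'.subtype) :=
    ⟨Over.homMk (Spec.map (CommRingCat.ofHom D'.subtype)) hισ, rfl⟩
  have hg : h ≫ gOf M σ' χ' = gOf M σD χD := by
    rw [← e1, ← gOf_comp M D'.subtype σ' σD hισ χ']
    congr 1
    apply Over.OverMorphism.ext
    rw [hh]
    rfl
  have hx : h ≫ x' = τo ≫ snd _ X := by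
    apply Over.OverMorphism.ext
    rw [Over.comp_left, hh, hx', specMap_comp_ptW, e2, hxD]
  obtain ⟨ψ, hψ'⟩ := exists_eq_ptT (P := (Red.DS U M ⊗ X).left) (lift (gOf M σ' χ') x').left
  have hfin : Spec.map (CommRingCat.ofHom D'.subtype) ≫ ptT (Red.DS U M ⊗ X).left ψ = τ := by
    rw [← hψ', ← hh, ← Over.comp_left, comp_lift, hg, hx, ← hτlift, hτo]
  rw [hτ, specMap_comp_ptW] at hfin
  have hid := ptW_injective _ hfin
  intro d
  have hd1 : d = D'.subtype (ψ d) := by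
    rw [← RingHom.comp_apply, hid]
    rfl
  have hd : d ∈ D' := by
    rw [hd1]
    exact (ψ d).2
  rw [hD'] at hd
  obtain ⟨b, hb⟩ := hd
  exact ⟨b, hb⟩

end Act

end Groth.Agent.Lib.Helper15FreeActPts
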