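-- helper15: splittings of a group of multiplicative type as families of character points; existence of the average when the unit section lies in an affine open
import Mathlib
import Groth.Agent.Lib.Helper15AvgSchA
import Groth.Agent.Lib.Helper15FreeActPts
set_option autoImplicit false
universe u
open CategoryTheory CategoryTheory.Limits AlgebraicGeometry MonoidalCategory
  CartesianMonoidalCategory MonObj GrpObj

namespace Groth.Agent.Lib.Helper15Avg

open Groth.Agent.Lib.Helper15DiagRigid Groth.Agent.Lib.Helper15FreeActPts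

section Split

variable {R : Type u} [CommRing R] (H : Over (Spec (CommRingCat.of R))) [GrpObj H]
  (C : Type u) [CommRing C] [Algebra R C] (M : Type) [AddCommGroup M]
  (α : Red.DS (Spec (CommRingCat.of C)) M ⟶
    Red.bc (Spec.map (CommRingCat.ofHom (algebraMap R C))) H) [IsMonHom α] [IsIso α]

/-- the comparison of the test object with the object obtained by composing structure maps. -/
noncomputable def kap (D : Type u) [CommRing D] [Algebra R D] [Algebra C D] [IsScalarTower R C D] :
    T R D ⟶ (Over.map (Spec.map (CommRingCat.ofHom (algebraMap R C)))).obj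
      (Over.mk (Spec.map (CommRingCat.ofHom (algebraMap C D)))) :=
  Over.homMk (𝟙 _) (by
    change 𝟙 _ ≫ Spec.map _ ≫ Spec.map _ = Spec.map _
    rw [Category.id_comp, ← Spec.map_comp, ← CommRingCat.ofHom_comp,
      ← IsScalarTower.algebraMap_eq])

instance (D : Type u) [CommRing D] [Algebra R D] [Algebra C D] [IsScalarTower R C D] :
    IsIso (kap (R := R) C D) := by
  have : IsIso ((Over.forget _).map (kap (R := R) C D)) := by
    change IsIso (𝟙 _)
    infer_instance
  exact isIso_of_reflects_iso _ (Over.forget _)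

variable {C M}

/-- the point of `H` attached to a character through the splitting `α`. -/
noncomputable def ptE (D : Type u) [CommRing D] [Algebra R D] [Algebra C D] [IsScalarTower R C D]
    (χ : Multiplicative M →* D) : T R D ⟶ H :=
  kap C D ≫ ((Over.mapPullbackAdj (Spec.map (CommRingCat.ofHom (algebraMap R C)))).homEquiv _ _).symm
    (gOf M (Spec.map (CommRingCat.ofHom (algebraMap C D))) χ ≫ α)

lemma ptE_mul (D : Type u) [CommRing D] [Algebra R D] [Algebra C D] [IsScalarTower R C D]
    (χ χ' : Multiplicative M →* D) : ptE H α D (χ * χ') = ptE H α D χ * ptE H α D χ' := by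
  unfold ptE
  rw [← gOf_mul, MonObj.mul_comp _ _ α, ← MonObj.comp_mul]
  congr 1
  apply ((Over.mapPullbackAdj (Spec.map (CommRingCat.ofHom (algebraMap R C)))).homEquiv _ _).injective
  rw [AlgGrp.Action.homEquiv_mul, Equiv.apply_symm_apply, Equiv.apply_symm_apply,
    Equiv.apply_symm_apply]

lemma ptE_nat {D D' : Type u} [CommRing D] [CommRing D'] [Algebra R D] [Algebra R D'] [Algebra C D]
    [Algebra C D'] [IsScalarTower R C D] [IsScalarTower R C D'] (ρ : D →ₐ[C] D')
    (χ : Multiplicative M →* D) :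
    tm (ρ.restrictScalars R) ≫ ptE H α D χ = ptE H α D' ((ρ : D →* D').comp χ) := by
  unfold ptE
  obtain ⟨r, hr⟩ : ∃ r : (Over.mk (Spec.map (CommRingCat.ofHom (algebraMap C D'))) :
      Over (Spec (CommRingCat.of C))) ⟶ Over.mk (Spec.map (CommRingCat.ofHom (algebraMap C D))),
      r = Over.homMk (Spec.map (CommRingCat.ofHom ρ.toRingHom)) (by
        change Spec.map _ ≫ Spec.map _ = Spec.map _
        rw [← Spec.map_comp, ← CommRingCat.ofHom_comp]
        exact congrArg (fun f => Spec.map (CommRingCat.ofHom f)) ρ.comp_algebraMap) := ⟨_, rfl⟩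
  have h1 : tm (ρ.restrictScalars R) ≫ kap C D =
      kap C D' ≫ (Over.map (Spec.map (CommRingCat.ofHom (algebraMap R C)))).map r := by
    apply Over.OverMorphism.ext
    rw [hr]
    simp only [Over.comp_left, tm_left, Over.map_map_left, Over.homMk_left]
    change Spec.map _ ≫ 𝟙 _ = 𝟙 _ ≫ Spec.map _
    rw [Category.comp_id, Category.id_comp]
    rfl
  have h2 : r ≫ gOf M (Spec.map (CommRingCat.ofHom (algebraMap C D))) χ =
      gOf M (Spec.map (CommRingCat.ofHom (algebraMap C D'))) ((ρ : D →* D').comp χ) := by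
    rw [hr]
    exact gOf_comp M ρ.toRingHom _ _ _ χ
  rw [← Category.assoc, h1, Category.assoc, ← Adjunction.homEquiv_naturality_left_symm,
    ← Category.assoc, h2]

lemma ptE_bijective (D : Type u) [CommRing D] [Algebra R D] [Algebra C D] [IsScalarTower R C D] :
    Function.Bijective (ptE H α D) := by
  constructor
  · intro χ χ' h
    unfold ptE at h
    have h1 := (cancel_epi (kap C D)).1 h
    have h2 := ((Over.mapPullbackAdj (Spec.map (CommRingCat.ofHom (algebraMap R C)))).homEquiv
      _ _).symm.injective h1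
    have h3 := (cancel_mono α).1 h2
    exact gOf_injective M _ h3
  · intro x
    obtain ⟨y, hy⟩ : ∃ y, y = ((Over.mapPullbackAdj (Spec.map (CommRingCat.ofHom
        (algebraMap R C)))).homEquiv _ _) (inv (kap C D) ≫ x) ≫ inv α := ⟨_, rfl⟩
    obtain ⟨χ, hχ⟩ := exists_gOf M _ y
    refine ⟨χ, ?_⟩
    unfold ptE
    rw [← hχ, hy, Category.assoc, IsIso.inv_hom_id, Category.comp_id, Equiv.symm_apply_apply,
      IsIso.hom_inv_id_assoc]

/-- the family of points of `H` attached to the splitting `α`. -/
noncomputable def famE : Fam (agf H) C M where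
  pt D _ _ _ _ χ := ptE H α D χ
  mul D _ _ _ _ χ χ' := ptE_mul H α D χ χ'
  nat ρ χ := ptE_nat H α ρ χ

lemma famE_bijective (D : Type u) [CommRing D] [Algebra R D] [Algebra C D] [IsScalarTower R C D] :
    Function.Bijective ((famE H α).pt D) := ptE_bijective H α D

end Split

section Red

open MonoidAlgebra

variable (R : Type u) {C : Type u} [CommRing R] [CommRing C] [Algebra R C] (I : Ideal C)
  (M : Type) [AddCommGroup M]

/-- reduction of the group algebra modulo `I`. -/
noncomputable def red : MonoidAlgebra C (Multiplicative M) →ₐ[R]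
    MonoidAlgebra (C ⧸ I) (Multiplicative M) :=
  mapAlgHom (Multiplicative M) (Ideal.Quotient.mkₐ R I)

lemma red_coeff (x : MonoidAlgebra C (Multiplicative M)) (m : Multiplicative M) :
    (red R I M x).coeff m = Ideal.Quotient.mk I (x.coeff m) := by
  unfold red
  rw [coeff_mapAlgHom]
  rfl

lemma red_surjective : Function.Surjective (red R I M) := by
  have h := MonoidAlgebra.map_surjective (M := Multiplicative M)
    (Ideal.Quotient.mk I : C →+* C ⧸ I).toAddMonoidHom Ideal.Quotient.mk_surjective
  intro y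
  obtain ⟨x, hx⟩ := h y
  exact ⟨x, hx⟩

lemma comap_red_surjective (hI : I * I = ⊥) :
    Function.Surjective (PrimeSpectrum.comap (red R I M).toRingHom) := by
  rw [← Set.range_eq_univ, range_comap_of_surjective _ _ (red_surjective R I M),
    Set.eq_univ_iff_forall]
  intro 𝔭 x hx
  have hx' : ∀ m, x.coeff m ∈ I := by
    intro m
    have h1 := congrArg (fun z => z.coeff m) (RingHom.mem_ker.1 hx)
    change (red R I M x).coeff m = 0 at h1
    rw [red_coeff] at h1
    exact Ideal.Quotient.eq_zero_iff_mem.1 h1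
  have hsq : x * x = 0 := by
    have h1 : x * x ∈ I1 I M * I1 I M := Ideal.mul_mem_mul hx' hx'
    rw [I1_sq I M hI] at h1
    exact h1
  have : x * x ∈ 𝔭.asIdeal := by rw [hsq]; exact 𝔭.asIdeal.zero_mem
  exact (𝔭.isPrime.mem_or_mem this).elim id id

end Red

section Exist

open MonoidAlgebra

variable {R : Type u} [CommRing R] {G H : Over (Spec (CommRingCat.of R))} [GrpObj G] [GrpObj H]
  (u v : H ⟶ G) [IsMonHom u] [IsMonHom v]
  {C : Type u} [CommRing C] [Algebra R C] (I : Ideal C) (hI : I * I = ⊥)
  {M : Type} [AddCommGroup M]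
  (α : Red.DS (Spec (CommRingCat.of C)) M ⟶
    Red.bc (Spec.map (CommRingCat.ofHom (algebraMap R C))) H) [IsMonHom α] [IsIso α]
  (h0 : ∀ (X : Over (Spec (CommRingCat.of R))) (_ : X ⟶ T R (C ⧸ I)) (h : X ⟶ H),
    h ≫ u = h ≫ v)
  {W : G.left.Opens} (hW : IsAffineOpen W)
  (hW1 : ∀ t : Spec (CommRingCat.of C), (1 : T R C ⟶ G).left t ∈ W)

include h0 hW hW1 in
/-- existence of the average when the unit section lands in an affine open. -/
theorem exists_isAvg : ∃ g : T R C ⟶ G,
    IsAvg ((famE H α).comp (natHom u)) ((famE H α).comp (natHom v)) I hI g := by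
  obtain ⟨d, hd⟩ : ∃ d : T R (MonoidAlgebra C (Multiplicative M)) ⟶ G,
      d = (ptE H α _ (of C (Multiplicative M)) ≫ v) *
        (ptE H α _ (of C (Multiplicative M)) ≫ u)⁻¹ := ⟨_, rfl⟩
  -- the difference is trivial modulo `I`
  have h1 : tm (red R I M) ≫ d = 1 := by
    rw [hd, MonObj.comp_mul, GrpObj.comp_inv, ← Category.assoc, ← Category.assoc,
      h0 _ (tm (IsScalarTower.toAlgHom R (C ⧸ I) (MonoidAlgebra (C ⧸ I) (Multiplicative M))))
        (tm (red R I M) ≫ ptE H α _ (of C (Multiplicative M))), _root_.mul_inv_cancel]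
  -- unit points land in `W`
  have hone : ∀ (D : Type u) [CommRing D] [Algebra R D] [Algebra C D] [IsScalarTower R C D]
      (t : Spec (CommRingCat.of D)), (1 : T R D ⟶ G).left t ∈ W := by
    intro D _ _ _ _ t
    have e : (1 : T R D ⟶ G) = tm (IsScalarTower.toAlgHom R C D) ≫ (1 : T R C ⟶ G) :=
      (MonObj.comp_one _).symm
    rw [e, Over.comp_left, Scheme.Hom.comp_apply]
    exact hW1 _
  have hmem : ∀ t : Spec (CommRingCat.of (MonoidAlgebra C (Multiplicative M))),
      d.left t ∈ W := by
    intro t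
    obtain ⟨t₀, rfl⟩ := comap_red_surjective R I M hI t
    have e1 := congrArg (fun z => z.left) h1
    simp only [Over.comp_left] at e1
    have e2 := congrArg (fun z => z.base t₀) e1
    simp only [Scheme.Hom.comp_base, TopCat.comp_app] at e2
    change d.left ((tm (red R I M)).left t₀) ∈ W
    rw [show d.left ((tm (red R I M)).left t₀) = (1 : T R _ ⟶ G).left t₀ from e2]
    exact hone _ t₀
  obtain ⟨φ, hφ⟩ := exists_eq_ptW hW d.left hmem
  obtain ⟨φ₀, hφ₀⟩ := exists_eq_ptW hW (1 : T R (C ⧸ I) ⟶ G).left (hone (C ⧸ I))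
  have hred : (red R I M).toRingHom.comp φ =
      (algebraMap (C ⧸ I) (MonoidAlgebra (C ⧸ I) (Multiplicative M))).comp φ₀ := by
    apply ptW_injective hW
    rw [← specMap_comp_ptW, ← specMap_comp_ptW, ← hφ, ← hφ₀]
    have e1 := congrArg (fun z => z.left) h1
    simp only [Over.comp_left] at e1
    have e2 : (1 : T R (MonoidAlgebra (C ⧸ I) (Multiplicative M)) ⟶ G) =
        tm (IsScalarTower.toAlgHom R (C ⧸ I) (MonoidAlgebra (C ⧸ I) (Multiplicative M))) ≫
          (1 : T R (C ⧸ I) ⟶ G) := (MonObj.comp_one _).symm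
    rw [e2] at e1
    exact e1
  have hφC : ∀ a, φ a ∈ Cc R I M := by
    intro a m hm
    have e1 := congrArg (fun f => (f a).coeff m) hred
    change (red R I M (φ a)).coeff m =
      (algebraMap (C ⧸ I) (MonoidAlgebra (C ⧸ I) (Multiplicative M)) (φ₀ a)).coeff m at e1
    rw [red_coeff, coe_algebraMap, Function.comp_apply, coeff_single,
      Finsupp.single_eq_of_ne hm] at e1
    exact Ideal.Quotient.eq_zero_iff_mem.1 e1
  obtain ⟨φC, hφC'⟩ : ∃ φC : Γ(G.left, W) →+* Cc R I M,
      (Cc R I M).val.toRingHom.comp φC = φ :=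
    ⟨φ.codRestrict (Cc R I M) hφC, RingHom.ext (fun _ => rfl)⟩
  have hval : Spec.map (CommRingCat.ofHom (Cc R I M).val.toRingHom) ≫ ptW hW φC = d.left := by
    rw [specMap_comp_ptW, hφC', hφ]
  have htri : ptW hW φC ≫ G.hom =
      Spec.map (CommRingCat.ofHom (algebraMap R (Cc R I M))) := by
    apply eq_of_specMap_comp_eq (Cc R I M).val.toRingHom Subtype.val_injective
      (comap_val_surjective hI)
    rw [← Category.assoc, hval]
    exact (Over.w d).trans (Over.w (tm (Cc R I M).val)).symm
  obtain ⟨dC, hdC⟩ : ∃ dC : T R (Cc R I M) ⟶ G, dC.left = ptW hW φC :=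
    ⟨Over.homMk (ptW hW φC) htri, rfl⟩
  refine ⟨tm (pi0 R I M hI) ≫ dC, dC, ?_, rfl⟩
  change tm (Cc R I M).val ≫ dC = _
  apply Over.OverMorphism.ext
  rw [Over.comp_left, hdC, tm_left]
  refine hval.trans ?_
  rw [hd]
  rfl

end Exist

end Groth.Agent.Lib.Helper15Avg
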