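-- helper15: a sheaf fppf-locally representable by an affine scheme: the descent datum (part A)
import Mathlib
import Groth.Prelude.Def_Desc
import Groth.Prelude.Def_QuotSh
import Groth.Agent.Lib.Helper12QuotSh

set_option autoImplicit false
open CategoryTheory CategoryTheory.Limits AlgebraicGeometry Opposite
universe u

namespace Groth.Agent.Lib.Helper15FppfAffRepA

open Groth.Agent.Lib.Helper9 Groth.Agent.Lib.Helper12.QuotShLib Desc

/-- the representable sheaf functor for the fppf topology -/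
noncomputable abbrev y {S : Scheme.{u}} : Over S ⥤ QuotSh.Sh Scheme.fppfPrecoverage S :=
  repFunctor Scheme.fppfPrecoverage S

variable {S S' : Scheme.{u}} {f : S' ⟶ S}
  {Z : QuotSh.Sh Scheme.fppfPrecoverage S} {T' : Over S} {a : T' ⟶ Over.mk f}
  (φ : (y).obj T' ≅ Z ⨯ (y).obj (Over.mk f))
  (hφ : φ.hom ≫ prod.snd = (y).map a)

/-- the `Z`-component of a point of `T'` -/
noncomputable def ψ : (y (S := S)).obj T' ⟶ Z := φ.hom ≫ prod.fst

lemma lift_over {T : Scheme.{u}} {σ : T ⟶ S} {x : T ⟶ S'} (hx : x ≫ f = σ)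
    (u : Lifts (Over.mk a.left : Over S') x) : u.1 ≫ T'.hom = σ := by
  have h1 : a.left ≫ f = T'.hom := Over.w a
  have h2 : u.1 ≫ a.left = x := u.2
  rw [← h1, ← Category.assoc, h2, hx]

include hφ in
lemma y_map_ψ_inj {W : Over S} (t₁ t₂ : W ⟶ T') (h1 : t₁ ≫ a = t₂ ≫ a)
    (h2 : (y).map t₁ ≫ ψ φ = (y).map t₂ ≫ ψ φ) : t₁ = t₂ := by
  apply (y (S := S)).map_injective
  rw [← cancel_mono φ.hom]
  apply prod.hom_ext
  · simpa [ψ, Category.assoc] using h2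
  · rw [Category.assoc, Category.assoc, hφ]
    rw [← Functor.map_comp, ← Functor.map_comp, h1]

/-- points of `T'` over a point of `S'` are sections of `Z` -/
noncomputable def E {T : Scheme.{u}} (σ : T ⟶ S) (x : T ⟶ S') (hx : x ≫ f = σ) :
    Lifts (Over.mk a.left : Over S') x ≃ ((y (S := S)).obj (Over.mk σ) ⟶ Z) where
  toFun u := (y).map (Over.homMk u.1 (lift_over hx u) : Over.mk σ ⟶ T') ≫ ψ φ
  invFun ζ :=
    ⟨((repFunctorFullyFaithful Scheme.fppfPrecoverage).preimage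
      (prod.lift ζ ((y).map (Over.homMk x hx : Over.mk σ ⟶ Over.mk f)) ≫ φ.inv)).left, by
      have h1 : (y).map ((repFunctorFullyFaithful Scheme.fppfPrecoverage).preimage
          (prod.lift ζ ((y).map (Over.homMk x hx : Over.mk σ ⟶ Over.mk f)) ≫ φ.inv) ≫ a) =
          (y).map (Over.homMk x hx : Over.mk σ ⟶ Over.mk f) := by
        rw [Functor.map_comp]
        rw [(repFunctorFullyFaithful Scheme.fppfPrecoverage).map_preimage]
        rw [← hφ, Category.assoc, Iso.inv_hom_id_assoc, prod.lift_snd]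
      have h2 := (y (S := S)).map_injective h1
      exact congrArg CommaMorphism.left h2⟩
  left_inv u := by
    apply Subtype.ext
    have key : (repFunctorFullyFaithful Scheme.fppfPrecoverage).preimage
        (prod.lift ((y).map (Over.homMk u.1 (lift_over hx u) : Over.mk σ ⟶ T') ≫ ψ φ)
          ((y).map (Over.homMk x hx : Over.mk σ ⟶ Over.mk f)) ≫ φ.inv) =
        (Over.homMk u.1 (lift_over hx u) : Over.mk σ ⟶ T') := by
      apply (y (S := S)).map_injective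
      rw [(repFunctorFullyFaithful Scheme.fppfPrecoverage).map_preimage]
      rw [Iso.comp_inv_eq]
      apply prod.hom_ext
      · rw [prod.lift_fst, Category.assoc]; rfl
      · rw [prod.lift_snd, Category.assoc, hφ]
        rw [← Functor.map_comp]
        congr 1
        apply Over.OverMorphism.ext
        exact u.2.symm
    exact congrArg CommaMorphism.left key
  right_inv ζ := by
    change (y).map (Over.homMk ((repFunctorFullyFaithful Scheme.fppfPrecoverage).preimage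
      (prod.lift ζ ((y).map (Over.homMk x hx : Over.mk σ ⟶ Over.mk f)) ≫ φ.inv)).left _) ≫ ψ φ = ζ
    have e1 : (Over.homMk ((repFunctorFullyFaithful Scheme.fppfPrecoverage).preimage
        (prod.lift ζ ((y).map (Over.homMk x hx : Over.mk σ ⟶ Over.mk f)) ≫ φ.inv)).left
          (Over.w _) : Over.mk σ ⟶ T') =
        (repFunctorFullyFaithful Scheme.fppfPrecoverage).preimage
        (prod.lift ζ ((y).map (Over.homMk x hx : Over.mk σ ⟶ Over.mk f)) ≫ φ.inv) := by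
      apply Over.OverMorphism.ext; rfl
    rw [e1]
    rw [(repFunctorFullyFaithful Scheme.fppfPrecoverage).map_preimage, ψ, Category.assoc,
      Iso.inv_hom_id_assoc, prod.lift_fst]

lemma E_apply {T : Scheme.{u}} (σ : T ⟶ S) (x : T ⟶ S') (hx : x ≫ f = σ)
    (u : Lifts (Over.mk a.left : Over S') x) :
    E φ hφ σ x hx u = (y).map (Over.homMk u.1 (lift_over hx u) : Over.mk σ ⟶ T') ≫ ψ φ := rfl

lemma E_nat {T T₂ : Scheme.{u}} (g : T₂ ⟶ T) (σ : T ⟶ S) (σ₂ : T₂ ⟶ S) (hσ : g ≫ σ = σ₂)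
    (x : T ⟶ S') (hx : x ≫ f = σ) (x₂ : T₂ ⟶ S') (hx₂ : g ≫ x = x₂)
    (u : Lifts (Over.mk a.left : Over S') x) (u' : Lifts (Over.mk a.left : Over S') x₂)
    (hu : u'.1 = g ≫ u.1) :
    E φ hφ σ₂ x₂ (by rw [← hx₂, Category.assoc, hx, hσ]) u' =
      (y).map (Over.homMk g hσ : Over.mk σ₂ ⟶ Over.mk σ) ≫ E φ hφ σ x hx u := by
  rw [E_apply, E_apply, ← Functor.map_comp_assoc]
  congr 2
  apply Over.OverMorphism.ext
  exact hu

/-- the gluing bijections -/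
noncomputable def Φ {T : Scheme.{u}} (x₀ x₁ : T ⟶ S') (h : x₀ ≫ f = x₁ ≫ f) :
    Lifts (Over.mk a.left : Over S') x₀ ≃ Lifts (Over.mk a.left : Over S') x₁ :=
  (E φ hφ (x₀ ≫ f) x₀ rfl).trans (E φ hφ (x₀ ≫ f) x₁ h.symm).symm

lemma Φ_eq {T : Scheme.{u}} (x₀ x₁ : T ⟶ S') (σ : T ⟶ S) (h₀ : x₀ ≫ f = σ) (h₁ : x₁ ≫ f = σ) :
    Φ φ hφ x₀ x₁ (h₀.trans h₁.symm) = (E φ hφ σ x₀ h₀).trans (E φ hφ σ x₁ h₁).symm := by
  subst h₀
  rfl

lemma E_Φ {T : Scheme.{u}} (x₀ x₁ : T ⟶ S') (σ : T ⟶ S) (h₀ : x₀ ≫ f = σ) (h₁ : x₁ ≫ f = σ)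
    (v : Lifts (Over.mk a.left : Over S') x₀) :
    E φ hφ σ x₁ h₁ (Φ φ hφ x₀ x₁ (h₀.trans h₁.symm) v) = E φ hφ σ x₀ h₀ v := by
  rw [Φ_eq φ hφ x₀ x₁ σ h₀ h₁, Equiv.trans_apply, Equiv.apply_symm_apply]

/-- the descent datum on `T'` relative to `f` -/
noncomputable def D : SchDD f where
  obj := Over.mk a.left
  φ T x₀ x₁ h := Φ φ hφ x₀ x₁ h
  φ_natural T T₂ g x₀ x₁ h h' v v' hv' := by
    have hw : (g ≫ (Φ φ hφ x₀ x₁ h v).1) ≫ a.left = g ≫ x₁ := by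
      rw [Category.assoc]; exact congrArg (g ≫ ·) (Φ φ hφ x₀ x₁ h v).2
    have hσ : g ≫ x₀ ≫ f = (g ≫ x₀) ≫ f := (Category.assoc _ _ _).symm
    have key : Φ φ hφ (g ≫ x₀) (g ≫ x₁) h' v' = ⟨g ≫ (Φ φ hφ x₀ x₁ h v).1, hw⟩ := by
      apply (E φ hφ ((g ≫ x₀) ≫ f) (g ≫ x₁) h'.symm).injective
      rw [E_Φ φ hφ (g ≫ x₀) (g ≫ x₁) ((g ≫ x₀) ≫ f) rfl h'.symm]
      rw [E_nat φ hφ g (x₀ ≫ f) ((g ≫ x₀) ≫ f) hσ x₀ rfl (g ≫ x₀) rfl v v' hv']
      rw [E_nat φ hφ g (x₀ ≫ f) ((g ≫ x₀) ≫ f) hσ x₁ h.symm (g ≫ x₁) rfl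
        (Φ φ hφ x₀ x₁ h v) ⟨g ≫ (Φ φ hφ x₀ x₁ h v).1, hw⟩ rfl]
      rw [E_Φ φ hφ x₀ x₁ (x₀ ≫ f) rfl h.symm]
    exact congrArg Subtype.val key
  φ_self T x v := by
    change (E φ hφ (x ≫ f) x rfl).symm (E φ hφ (x ≫ f) x rfl v) = v
    rw [Equiv.symm_apply_apply]
  φ_comp T x₀ x₁ x₂ h₀₁ h₁₂ v := by
    apply (E φ hφ (x₀ ≫ f) x₂ (h₀₁.trans h₁₂).symm).injective
    rw [E_Φ φ hφ x₁ x₂ (x₀ ≫ f) h₀₁.symm (h₀₁.trans h₁₂).symm,
      E_Φ φ hφ x₀ x₁ (x₀ ≫ f) rfl h₀₁.symm,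
      E_Φ φ hφ x₀ x₂ (x₀ ≫ f) rfl (h₀₁.trans h₁₂).symm]

@[simp] lemma D_obj : (D φ hφ).obj = Over.mk a.left := rfl

lemma D_φ {T : Scheme.{u}} (x₀ x₁ : T ⟶ S') (h : x₀ ≫ f = x₁ ≫ f) :
    (D φ hφ).φ x₀ x₁ h = Φ φ hφ x₀ x₁ h := rfl

end Groth.Agent.Lib.Helper15FppfAffRepA
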