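-- helper15: affineness of a morphism descends along fppf morphisms
import Mathlib
import Groth.Agent.Lib.Helper12AffineDescent

set_option autoImplicit false
open CategoryTheory CategoryTheory.Limits AlgebraicGeometry Opposite
universe u

namespace Groth.Agent.Lib.Helper15FppfAffine

/-- affineness of a scheme descends along a flat surjective morphism of affine schemes, when the
base change is given through an affine morphism to the cover of the base. -/
lemma isAffine_pullback_of_fppf_local {S S' T S₀ T₀ : Scheme.{u}} (f : S' ⟶ S) (g : T ⟶ S)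
    [IsAffineHom (pullback.fst f g)] (j : S₀ ⟶ S) (k : T₀ ⟶ S') (f₀ : T₀ ⟶ S₀)
    (hk : f₀ ≫ j = k ≫ f) [IsAffine S₀] [IsAffine T₀] [Flat f₀] [Surjective f₀] :
    IsAffine (pullback g j) := by
  have hc : (pullback.snd (pullback.snd g j) f₀ ≫ k) ≫ f =
      (pullback.fst (pullback.snd g j) f₀ ≫ pullback.fst g j) ≫ g := by
    rw [Category.assoc, ← hk, ← Category.assoc, ← pullback.condition, Category.assoc,
      Category.assoc, ← pullback.condition]
  have big : IsPullback (pullback.fst (pullback.snd g j) f₀ ≫ pullback.fst g j)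
      (pullback.snd (pullback.snd g j) f₀) g (f₀ ≫ j) :=
    (IsPullback.of_hasPullback (pullback.snd g j) f₀).paste_horiz (IsPullback.of_hasPullback g j)
  rw [hk] at big
  have big' : IsPullback (pullback.lift (pullback.snd (pullback.snd g j) f₀ ≫ k)
      (pullback.fst (pullback.snd g j) f₀ ≫ pullback.fst g j) hc ≫ pullback.snd f g)
      (pullback.snd (pullback.snd g j) f₀) g (k ≫ f) := by
    rw [pullback.lift_snd]; exact big
  have left := IsPullback.of_right big' (pullback.lift_fst _ _ hc)
    (IsPullback.of_hasPullback f g).flip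
  have h1 : IsAffineHom (pullback.snd (pullback.snd g j) f₀) :=
    MorphismProperty.of_isPullback (P := @IsAffineHom) left inferInstance
  have : IsAffine (pullback (pullback.snd g j) f₀) :=
    isAffine_of_isAffineHom (pullback.snd (pullback.snd g j) f₀)
  exact Groth.Agent.Lib.Helper12.isAffine_of_isPullback
    (IsPullback.of_hasPullback (pullback.snd g j) f₀)

/-- affineness of a morphism descends along an fppf morphism (not necessarily quasi-compact). -/
theorem isAffineHom_of_fppf {S S' T : Scheme.{u}} (f : S' ⟶ S) [Flat f] [Surjective f]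
    [LocallyOfFinitePresentation f] (g : T ⟶ S) [IsAffineHom (pullback.fst f g)] :
    IsAffineHom g := by
  apply isAffineHom_of_forall_exists_isAffineOpen
  intro s
  obtain ⟨s', rfl⟩ := f.surjective s
  obtain ⟨_, ⟨V, hV, rfl⟩, hsV, -⟩ := S.isBasis_affineOpens.exists_subset_of_mem_open
    (Set.mem_univ (f s')) isOpen_univ
  obtain ⟨_, ⟨W', hW', rfl⟩, hsW', hW'V⟩ := S'.isBasis_affineOpens.exists_subset_of_mem_open
    (show s' ∈ ((f ⁻¹ᵁ V : S'.Opens) : Set S') from hsV) (f ⁻¹ᵁ V).isOpen
  have hopen : IsOpen (f '' (W' : Set S')) := f.isOpenMap _ W'.isOpen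
  obtain ⟨r, hr1, hr2⟩ := hV.exists_basicOpen_le (V := ⟨f '' (W' : Set S'), hopen⟩)
    ⟨f s', ⟨s', hsW', rfl⟩⟩ hsV
  refine ⟨S.basicOpen r, hr2, hV.basicOpen r, ?_⟩
  -- the affine open of `S'`
  have hT₀ : IsAffineOpen (S'.basicOpen (f.appLE V W' hW'V r)) := hW'.basicOpen _
  have hT₀eq : S'.basicOpen (f.appLE V W' hW'V r) = W' ⊓ f ⁻¹ᵁ (S.basicOpen r) :=
    Scheme.basicOpen_appLE f W' V hW'V r
  have hle : S'.basicOpen (f.appLE V W' hW'V r) ≤ f ⁻¹ᵁ (S.basicOpen r) := by
    rw [hT₀eq]; exact inf_le_right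
  have : IsAffine ((S.basicOpen r : S.Opens) : Scheme.{u}) := hV.basicOpen r
  have : IsAffine ((S'.basicOpen (f.appLE V W' hW'V r) : S'.Opens) : Scheme.{u}) := hT₀
  have hsurj : Surjective (f.resLE (S.basicOpen r) (S'.basicOpen (f.appLE V W' hW'V r)) hle) := by
    constructor
    intro u
    obtain ⟨w, hw, hwu⟩ := hr1 u.2
    have hw' : w ∈ S'.basicOpen (f.appLE V W' hW'V r) := by
      rw [hT₀eq]
      refine ⟨hw, ?_⟩
      change f w ∈ S.basicOpen r
      rw [hwu]; exact u.2
    refine ⟨⟨w, hw'⟩, ?_⟩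
    apply Subtype.ext
    have := congrArg (fun φ => φ.base ⟨w, hw'⟩)
      (Scheme.Hom.resLE_comp_ι f hle)
    simpa using this.trans hwu
  have haff := isAffine_pullback_of_fppf_local f g (S.basicOpen r).ι
    (S'.basicOpen (f.appLE V W' hW'V r)).ι
    (f.resLE (S.basicOpen r) (S'.basicOpen (f.appLE V W' hW'V r)) hle)
    (Scheme.Hom.resLE_comp_ι f hle)
  exact .of_isIso (pullbackRestrictIsoRestrict g (S.basicOpen r)).inv

end Groth.Agent.Lib.Helper15FppfAffine
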