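-- helper15: descent of an object of a topos along a covering object
import Mathlib
import Groth.Agent.Lib.Helper9ShfQuot

set_option autoImplicit false

namespace Groth.Agent.Lib.Helper15ToposDesc

open CategoryTheory Limits Groth.Agent.Lib.Helper9

variable {E : Type*} [Category* E] [ToposLike E] [HasBinaryProducts E]

/-- descent of an object along a covering object `A`, given an isomorphism of the products with `A`
compatible with the projections to `A` and with the (trivial) descent data. The compatibility is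
only tested on a separating class of objects. -/
theorem exists_iso_of_prod_iso {A B Z : E} {ι : Type*} (𝒢 : ι → E)
    (h𝒢 : ∀ (W Y : E) (f g : W ⟶ Y), (∀ (i : ι) (t : 𝒢 i ⟶ W), t ≫ f = t ≫ g) → f = g)
    (hA : ∀ X : E, Epi (prod.fst : X ⨯ A ⟶ X))
    (χ : B ⨯ A ≅ Z ⨯ A) (hχ : χ.hom ≫ prod.snd = prod.snd)
    (hc : ∀ (i : ι) (b : 𝒢 i ⟶ B) (a₁ a₂ : 𝒢 i ⟶ A),
      prod.lift b a₁ ≫ χ.hom ≫ prod.fst = prod.lift b a₂ ≫ χ.hom ≫ prod.fst) :
    ∃ β : B ⟶ Z, IsIso β ∧ prod.fst ≫ β = χ.hom ≫ prod.fst := by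
  obtain ⟨β, hβ⟩ := ToposLike.exists_desc_of_epi (prod.fst : B ⨯ A ⟶ B) (hA B)
    (χ.hom ≫ prod.fst) (by
      intro W w₁ w₂ hw
      apply h𝒢
      intro G t
      have e1 : t ≫ w₁ = prod.lift (t ≫ w₁ ≫ prod.fst) (t ≫ w₁ ≫ prod.snd) := by
        apply prod.hom_ext
        · rw [prod.lift_fst, Category.assoc]
        · rw [prod.lift_snd, Category.assoc]
      have e2 : t ≫ w₂ = prod.lift (t ≫ w₁ ≫ prod.fst) (t ≫ w₂ ≫ prod.snd) := by
        apply prod.hom_ext
        · rw [prod.lift_fst, Category.assoc, hw]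
        · rw [prod.lift_snd, Category.assoc]
      rw [← Category.assoc, ← Category.assoc t, e1, e2]
      exact hc G _ _ _)
  refine ⟨β, ?_, hβ⟩
  have hepi : Epi β := by
    have h1 : Epi (prod.fst ≫ β : B ⨯ A ⟶ Z) := by
      rw [hβ]
      have := hA Z
      exact epi_comp _ _
    exact epi_of_epi (prod.fst : B ⨯ A ⟶ B) β
  have hmono : Mono β := by
    constructor
    intro W b₁ b₂ hb
    have := hA W
    rw [← cancel_epi (prod.fst : W ⨯ A ⟶ W)]
    have key : prod.lift (prod.fst ≫ b₁) (prod.snd : W ⨯ A ⟶ A) ≫ χ.hom =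
        prod.lift (prod.fst ≫ b₂) (prod.snd : W ⨯ A ⟶ A) ≫ χ.hom := by
      apply prod.hom_ext
      · rw [Category.assoc, Category.assoc, ← hβ, prod.lift_fst_assoc, prod.lift_fst_assoc,
          Category.assoc, Category.assoc, hb]
      · rw [Category.assoc, Category.assoc, hχ, prod.lift_snd, prod.lift_snd]
    have key2 := (cancel_mono χ.hom).1 key
    have h3 : prod.lift (prod.fst ≫ b₁) (prod.snd : W ⨯ A ⟶ A) ≫ prod.fst =
        prod.lift (prod.fst ≫ b₂) (prod.snd : W ⨯ A ⟶ A) ≫ prod.fst := by rw [key2]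
    rw [prod.lift_fst, prod.lift_fst] at h3
    exact h3
  exact ToposLike.isIso_of_mono_of_epi β hmono hepi

end Groth.Agent.Lib.Helper15ToposDesc
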