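import Groth.Prelude.Def_MoreMor
import Mathlib.AlgebraicGeometry.QuasiAffine
import Mathlib.AlgebraicGeometry.Morphisms.QuasiSeparated

/-! Helper lemmas on ind-quasi-affine morphisms (helper2). -/

set_option autoImplicit false
universe u

namespace Groth.Agent.Lib.Helper2

open AlgebraicGeometry CategoryTheory Limits TopologicalSpace

/-- A quasi-compact scheme covered by quasi-affine basic opens of global sections is quasi-affine. -/
lemma isQuasiAffine_of_forall_exists_mem_basicOpen (X : Scheme.{u}) [CompactSpace X]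
    (H : ∀ x : X, ∃ r : Γ(X, ⊤), Scheme.IsQuasiAffine (X.basicOpen r).toScheme ∧ x ∈ X.basicOpen r) :
    X.IsQuasiAffine := by
  suffices IsOpenImmersion X.toSpecΓ by constructor
  have : QuasiSeparatedSpace X := by
    choose r hr hxr using H
    refine .of_isOpenCover (U := (X.basicOpen <| r ·))
      (eq_top_iff.mpr fun _ _ ↦ Opens.mem_iSup.mpr ⟨_, hxr _⟩)
      (fun _ ↦ isRetrocompact_basicOpen _) (fun x ↦ ?_)
    have := hr x
    refine (isQuasiSeparated_iff_quasiSeparatedSpace _ (X.basicOpen (r x)).2).mpr ?_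
    exact inferInstanceAs (QuasiSeparatedSpace (X.basicOpen (r x)).toScheme)
  refine IsZariskiLocalAtTarget.of_forall_source_exists_preimage _ fun x ↦ ?_
  obtain ⟨r, hr, hxr⟩ := H x
  refine ⟨PrimeSpectrum.basicOpen r, (X.toSpecΓ_preimage_basicOpen r).ge hxr, ?_⟩
  suffices IsOpenImmersion ((X.basicOpen r).ι ≫ X.toSpecΓ) by
    convert! this <;> rw [Scheme.toSpecΓ_preimage_basicOpen]
  rw [← Scheme.Opens.toSpecΓ_SpecMap_presheaf_map_top]
  have := isLocalization_basicOpen_of_qcqs isCompact_univ isQuasiSeparated_univ r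
  have h1 : IsOpenImmersion (X.basicOpen r).toSpecΓ := by
    delta Scheme.Opens.toSpecΓ
    infer_instance
  exact MorphismProperty.comp_mem _ (X.basicOpen r).toSpecΓ _ h1 (.of_isLocalization r)

lemma isQuasiAffine_of_iso {X Y : Scheme.{u}} (e : X ≅ Y) [Y.IsQuasiAffine] : X.IsQuasiAffine :=
  Scheme.IsQuasiAffine.of_isAffineHom e.hom

lemma isQuasiAffine_of_eq {X : Scheme.{u}} {U V : X.Opens} (h : U = V)
    (hV : Scheme.IsQuasiAffine V.toScheme) : Scheme.IsQuasiAffine U.toScheme := by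
  subst h; exact hV

/-- Reformulation of ind-quasi-affineness in terms of opens of the source. -/
lemma isIndQuasiAffineHom_iff {X Y : Scheme.{u}} (f : X ⟶ Y) :
    MoreMor.IsIndQuasiAffineHom f ↔ ∀ V : Y.Opens, IsAffineOpen V → ∀ U : X.Opens,
      U ≤ f ⁻¹ᵁ V → IsCompact (U : Set X) → Scheme.IsQuasiAffine U.toScheme := by
  constructor
  · intro hf V hV U hUV hU
    let U' : (f ⁻¹ᵁ V).toScheme.Opens := (f ⁻¹ᵁ V).ι ⁻¹ᵁ U
    have hU' : IsCompact (U' : Set (f ⁻¹ᵁ V).toScheme) := by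
      have : (U' : Set (f ⁻¹ᵁ V).toScheme) = (f ⁻¹ᵁ V).ι ⁻¹' (U : Set X) := rfl
      rw [this, (f ⁻¹ᵁ V).ι.isOpenEmbedding.isInducing.isCompact_preimage_iff]
      · exact hU
      · intro x hx
        simpa using hUV hx
    have := hf V hV U' hU'
    have himg : (f ⁻¹ᵁ V).ι ''ᵁ U' = U := by
      rw [Scheme.Hom.image_preimage_eq_opensRange_inf, Scheme.Opens.opensRange_ι]
      exact inf_eq_right.mpr hUV
    exact isQuasiAffine_of_eq himg.symm (isQuasiAffine_of_iso ((f ⁻¹ᵁ V).ι.isoImage U').symm)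
  · intro H V hV U' hU'
    have h1 : (f ⁻¹ᵁ V).ι ''ᵁ U' ≤ f ⁻¹ᵁ V := (f ⁻¹ᵁ V).ι_image_le U'
    have h2 : IsCompact (((f ⁻¹ᵁ V).ι ''ᵁ U' : X.Opens) : Set X) := by
      simpa using hU'.image (f ⁻¹ᵁ V).ι.continuous
    have := H V hV _ h1 h2
    exact isQuasiAffine_of_iso ((f ⁻¹ᵁ V).ι.isoImage U')

/-- A compact open covered by quasi-affine basic opens (of sections over it) is quasi-affine. -/
lemma isQuasiAffine_opens_of_cover {X : Scheme.{u}} (U : X.Opens) (hU : IsCompact (U : Set X))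
    (H : ∀ x : X, x ∈ U → ∃ r : Γ(U.toScheme, ⊤), x ∈ U.ι ''ᵁ (U.toScheme.basicOpen r) ∧
      Scheme.IsQuasiAffine (U.ι ''ᵁ (U.toScheme.basicOpen r)).toScheme) :
    Scheme.IsQuasiAffine U.toScheme := by
  have : CompactSpace U.toScheme := isCompact_iff_compactSpace.mp hU
  refine isQuasiAffine_of_forall_exists_mem_basicOpen _ fun x ↦ ?_
  obtain ⟨r, hxr, hr⟩ := H (U.ι x) x.2
  refine ⟨r, isQuasiAffine_of_iso (U.ι.isoImage _), ?_⟩
  obtain ⟨y, hy, hyx⟩ := hxr
  have := U.ι.isOpenEmbedding.injective hyx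
  exact this ▸ hy

/-- A compact open mapping into an open can be squeezed through a compact open. -/
lemma exists_isCompact_le_preimage {X Y : Scheme.{u}} (f : X ⟶ Y) (U : X.Opens)
    (hU : IsCompact (U : Set X)) (O : Y.Opens) (hUO : U ≤ f ⁻¹ᵁ O) :
    ∃ Q : Y.Opens, IsCompact (Q : Set Y) ∧ Q ≤ O ∧ U ≤ f ⁻¹ᵁ Q := by
  have key : ∀ x : U, ∃ V : Y.Opens, IsAffineOpen V ∧ f x.1 ∈ V ∧ V ≤ O := by
    intro x
    obtain ⟨_, ⟨V, hV, rfl⟩, hxV, hVO⟩ := Y.isBasis_affineOpens.exists_subset_of_mem_open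
      (hUO x.2) O.2
    exact ⟨V, hV, hxV, hVO⟩
  choose V hV hxV hVO using key
  obtain ⟨t, ht⟩ := hU.elim_finite_subcover (fun x : U => ((f ⁻¹ᵁ V x : X.Opens) : Set X))
    (fun x => (f ⁻¹ᵁ V x).2) (fun x hx => Set.mem_iUnion.mpr ⟨⟨x, hx⟩, hxV ⟨x, hx⟩⟩)
  refine ⟨⨆ x ∈ t, V x, ?_, ?_, ?_⟩
  · simp only [Opens.coe_iSup]
    exact t.isCompact_biUnion fun x _ => (hV x).isCompact
  · exact iSup₂_le fun x _ => hVO x
  · intro x hx
    obtain ⟨y, hy⟩ := Set.mem_iUnion.mp (ht hx)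
    obtain ⟨hyt, hy⟩ := Set.mem_iUnion.mp hy
    show f x ∈ ((⨆ x ∈ t, V x : Y.Opens) : Set Y)
    simp only [Opens.coe_iSup]
    exact Set.mem_iUnion₂.mpr ⟨y, hyt, hy⟩

/-- If `f` is ind-quasi-affine, then every compact open of the source lying over a quasi-affine
open of the target is quasi-affine. -/
lemma isQuasiAffine_of_le_preimage {X Y : Scheme.{u}} (f : X ⟶ Y)
    (hf : MoreMor.IsIndQuasiAffineHom f) (V : Y.Opens) [Scheme.IsQuasiAffine V.toScheme]
    (U : X.Opens) (hUV : U ≤ f ⁻¹ᵁ V) (hU : IsCompact (U : Set X)) :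
    Scheme.IsQuasiAffine U.toScheme := by
  rw [isIndQuasiAffineHom_iff] at hf
  have : CompactSpace U.toScheme := isCompact_iff_compactSpace.mp hU
  refine isQuasiAffine_opens_of_cover U hU fun x hx ↦ ?_
  let h : U.toScheme ⟶ V.toScheme := f.resLE V U hUV
  obtain ⟨_, ⟨_, ⟨r, hr, rfl⟩, rfl⟩, hxr, -⟩ :=
    (Scheme.IsQuasiAffine.isBasis_basicOpen V.toScheme).exists_subset_of_mem_open
      (Set.mem_univ (h ⟨x, hx⟩)) isOpen_univ
  have hpre : h ⁻¹ᵁ (V.toScheme.basicOpen r) = U.toScheme.basicOpen (h.appTop r) :=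
    Scheme.preimage_basicOpen_top h r
  refine ⟨h.appTop r, ⟨⟨x, hx⟩, ?_, rfl⟩, ?_⟩
  · rw [← hpre]; exact hxr
  · apply hf (V.ι ''ᵁ V.toScheme.basicOpen r) (hr.image_of_isOpenImmersion V.ι)
    · rintro _ ⟨y, hy, rfl⟩
      rw [← hpre] at hy
      refine ⟨h y, hy, ?_⟩
      exact congr($(Scheme.Hom.resLE_comp_ι f hUV) y)
    · have h1 : IsCompact (U.toScheme.basicOpen (h.appTop r) : Set U.toScheme) := by
        simpa using (isRetrocompact_basicOpen (h.appTop r)) isCompact_univ isOpen_univ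
      simpa using h1.image U.ι.continuous

end Groth.Agent.Lib.Helper2
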