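-- helper15: general lemmas on descent data for schemes (cartesian squares, lifting along monomorphisms, stable opens).
import Mathlib
import Groth.Prelude.Def_Desc
import Groth.Agent.S1131
import Groth.Agent.S1132

set_option autoImplicit false
open CategoryTheory CategoryTheory.Limits AlgebraicGeometry

universe u

namespace Groth.Agent.Lib.Helper15DescGlueA

open Desc

variable {X S : Scheme.{u}} {p : X ⟶ S}

lemma toDD_map_fst {A B : Over S} (g : A ⟶ B) :
    ((Desc.toDD p).map g).hom.left ≫ pullback.fst p B.hom = pullback.fst p A.hom := by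
  change pullback.map p A.hom p B.hom (𝟙 X) g.left (𝟙 S) (by simp) (by simp) ≫ _ = _
  simp only [pullback.map, Category.comp_id]
  exact pullback.lift_fst _ _ _

lemma toDD_map_snd {A B : Over S} (g : A ⟶ B) :
    ((Desc.toDD p).map g).hom.left ≫ pullback.snd p B.hom = pullback.snd p A.hom ≫ g.left := by
  change pullback.map p A.hom p B.hom (𝟙 X) g.left (𝟙 S) (by simp) (by simp) ≫ _ = _
  simp only [pullback.map, Category.comp_id]
  exact pullback.lift_snd _ _ _

/-- the square relating the canonical descent data of two schemes over the base is cartesian. -/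
lemma isPullback_toDD_map {A B : Over S} (g : A ⟶ B) :
    IsPullback ((Desc.toDD p).map g).hom.left (pullback.snd p A.hom) (pullback.snd p B.hom)
      g.left := by
  have hbig : IsPullback (((Desc.toDD p).map g).hom.left ≫ pullback.fst p B.hom)
      (pullback.snd p A.hom) p (g.left ≫ B.hom) := by
    rw [Over.w g, toDD_map_fst]
    exact IsPullback.of_hasPullback p A.hom
  exact IsPullback.of_right hbig (toDD_map_snd g) (IsPullback.of_hasPullback p B.hom)

lemma isOpenImmersion_toDD_map {A B : Over S} (g : A ⟶ B) [IsOpenImmersion g.left] :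
    IsOpenImmersion ((Desc.toDD p).map g).hom.left :=
  MorphismProperty.of_isPullback (P := @IsOpenImmersion) (isPullback_toDD_map g).flip inferInstance

/-- a morphism of descent data whose underlying morphism of schemes is invertible is invertible. -/
lemma isIso_of_isIso_left {D' D : Desc.SchDD p} (Φ : D' ⟶ D) [IsIso Φ.hom.left] : IsIso Φ := by
  have hw : inv Φ.hom.left ≫ D'.obj.hom = D.obj.hom := by
    rw [IsIso.inv_comp_eq]; exact (Over.w Φ.hom).symm
  refine ⟨⟨⟨Over.homMk (inv Φ.hom.left) hw, fun T x₀ x₁ h v w hw' => ?_⟩, ?_, ?_⟩⟩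
  · have hv : v.1 = w.1 ≫ Φ.hom.left := by
      rw [hw']; simp
    have := Φ.comm x₀ x₁ h w v hv
    rw [this]
    simp
  · apply SchDD.hom_ext
    apply Over.OverMorphism.ext
    simp
  · apply SchDD.hom_ext
    apply Over.OverMorphism.ext
    simp

/-- a morphism of schemes through which a morphism of descent data factors along a monomorphic
morphism of descent data is a morphism of descent data. -/
lemma exists_lift_dd {D₁ D₂ D : Desc.SchDD p} (c : D₁ ⟶ D) (c' : D₂ ⟶ D) [Mono c'.hom.left]
    (m : D₁.obj.left ⟶ D₂.obj.left) (hm : m ≫ c'.hom.left = c.hom.left) :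
    ∃ Φ : D₁ ⟶ D₂, Φ.hom.left = m ∧ Φ ≫ c' = c := by
  have hw : m ≫ D₂.obj.hom = D₁.obj.hom := by
    rw [← Over.w c'.hom, ← Category.assoc, hm, Over.w c.hom]
  refine ⟨⟨Over.homMk m hw, fun T x₀ x₁ h v w hw' => ?_⟩, rfl, ?_⟩
  · rw [← cancel_mono c'.hom.left, Category.assoc]
    have h1 := c'.comm x₀ x₁ h w (c'.push w) rfl
    have h2 := c.comm x₀ x₁ h v (c.push v) rfl
    have e : c'.push w = c.push v := by
      apply Subtype.ext
      change w.1 ≫ c'.hom.left = v.1 ≫ c.hom.left
      rw [hw', ← hm]
      simp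
    change _ = _ ≫ m ≫ c'.hom.left
    rw [hm, ← h1, ← h2, e]
  · apply SchDD.hom_ext
    apply Over.OverMorphism.ext
    exact hm

/-- An open subset of the scheme of a descent datum which is stable under the descent datum. -/
def Stable (D : Desc.SchDD p) (W : D.obj.left.Opens) : Prop :=
  ∀ ⦃T : Scheme.{u}⦄ (x₀ x₁ : T ⟶ X) (h : x₀ ≫ p = x₁ ≫ p) (v : Lifts D.obj x₀),
    Set.range v.1.base ⊆ (W : Set D.obj.left) →
      Set.range (D.φ x₀ x₁ h v).1.base ⊆ (W : Set D.obj.left)

lemma stable_inf {D : Desc.SchDD p} {W W' : D.obj.left.Opens} (h : Stable D W)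
    (h' : Stable D W') : Stable D (W ⊓ W') := by
  intro T x₀ x₁ hx v hv
  have h1 := h x₀ x₁ hx v (hv.trans Set.inter_subset_left)
  have h2 := h' x₀ x₁ hx v (hv.trans Set.inter_subset_right)
  exact Set.subset_inter h1 h2

/-- the range of an open immersion of descent data is stable. -/
lemma stable_opensRange {D' D : Desc.SchDD p} (c : D' ⟶ D) [IsOpenImmersion c.hom.left] :
    Stable D c.hom.left.opensRange := by
  intro T x₀ x₁ hx v hv
  -- `v` factors through `c`
  obtain ⟨v', hv'⟩ : ∃ v' : T ⟶ D'.obj.left, v' ≫ c.hom.left = v.1 :=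
    ⟨IsOpenImmersion.lift c.hom.left v.1 hv, IsOpenImmersion.lift_fac _ _ _⟩
  have hv'x : v' ≫ D'.obj.hom = x₀ := by
    rw [← Over.w c.hom, ← Category.assoc, hv']; exact v.2
  have := c.comm x₀ x₁ hx ⟨v', hv'x⟩ v hv'.symm
  rw [this]
  rintro _ ⟨t, rfl⟩
  exact ⟨_, rfl⟩

end Groth.Agent.Lib.Helper15DescGlueA
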