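-- helper15: a class of covering morphisms for gluing descent data of schemes, with the quasi-compact flat and the flat finitely presented instances.
import Mathlib
import Groth.Prelude.Def_Desc
import Groth.Agent.Lib.Helper15DescGlueA

set_option autoImplicit false
set_option linter.unusedSectionVars false
open CategoryTheory CategoryTheory.Limits AlgebraicGeometry

universe u

namespace Groth.Agent.Lib.Helper15DescCov

open Desc Groth.Agent.Lib.Helper15DescGlueA

/-- morphisms along which morphisms of schemes, open subsets and open immersions descend,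
universally. -/
class DescCover {X S : Scheme.{u}} (p : X ⟶ S) : Prop where
  full : (Desc.toDD p).Full
  faithful : (Desc.toDD p).Faithful
  quot : ∀ U : Over S, Topology.IsQuotientMap (pullback.snd p U.hom).base
  openImm : ∀ {A B : Over S} (f : A ⟶ B),
    IsOpenImmersion ((Desc.toDD p).map f).hom.left → IsOpenImmersion f.left

variable {X S : Scheme.{u}} (p : X ⟶ S)

/-- fullness of the canonical descent datum functor from effective epimorphisms. -/
theorem full_of_effectiveEpi (hEE : ∀ U : Over S, EffectiveEpi (pullback.snd p U.hom)) :
    (Desc.toDD p).Full := by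
  refine ⟨fun {U U'} F => ?_⟩
  let q : pullback p U.hom ⟶ U.left := pullback.snd p U.hom
  have hq : EffectiveEpi q := hEE U
  have hqepi : Epi q := inferInstance
  let Fl : pullback p U.hom ⟶ pullback p U'.hom := F.hom.left
  have hFl : Fl ≫ pullback.fst p U'.hom = pullback.fst p U.hom := Over.w F.hom
  let h : pullback p U.hom ⟶ U'.left := Fl ≫ pullback.snd p U'.hom
  have hcond : ∀ {Z : Scheme.{u}} (a b : Z ⟶ pullback p U.hom), a ≫ q = b ≫ q → a ≫ h = b ≫ h := by
    intro Z a b hab
    have hx : (a ≫ pullback.fst p U.hom) ≫ p = (b ≫ pullback.fst p U.hom) ≫ p := by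
      rw [Category.assoc, Category.assoc, pullback.condition, ← Category.assoc, ← Category.assoc]
      exact congrArg (· ≫ U.hom) hab
    have hc : (Desc.canMap p U' (a ≫ pullback.fst p U.hom) (b ≫ pullback.fst p U.hom) hx
        ⟨a ≫ Fl, by
          change (a ≫ Fl) ≫ pullback.fst p U'.hom = _
          rw [Category.assoc, hFl]⟩).1 =
        (Desc.canMap p U (a ≫ pullback.fst p U.hom) (b ≫ pullback.fst p U.hom) hx ⟨a, rfl⟩).1 ≫ Fl :=
      F.comm (a ≫ pullback.fst p U.hom) (b ≫ pullback.fst p U.hom) hx ⟨a, rfl⟩
        ⟨a ≫ Fl, by
          change (a ≫ Fl) ≫ pullback.fst p U'.hom = _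
          rw [Category.assoc, hFl]⟩ rfl
    have hb : (Desc.canMap p U (a ≫ pullback.fst p U.hom) (b ≫ pullback.fst p U.hom) hx ⟨a, rfl⟩).1 = b := by
      apply pullback.hom_ext
      · rw [Desc.canMap_val, pullback.lift_fst]
      · rw [Desc.canMap_val, pullback.lift_snd]
        exact hab
    rw [hb] at hc
    have := congrArg (· ≫ pullback.snd p U'.hom) hc
    rw [Desc.canMap_val, pullback.lift_snd] at this
    dsimp [h]
    rw [← Category.assoc, ← Category.assoc]
    exact this
  let g : U.left ⟶ U'.left := EffectiveEpi.desc q h hcond
  have hg : q ≫ g = h := EffectiveEpi.fac q h hcond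
  have hgS : g ≫ U'.hom = U.hom := by
    rw [← cancel_epi q, ← Category.assoc, hg]
    dsimp [h, q]
    rw [Category.assoc, ← pullback.condition, ← Category.assoc, hFl, pullback.condition]
  refine ⟨Over.homMk g hgS, ?_⟩
  apply Desc.SchDD.hom_ext
  apply Over.OverMorphism.ext
  apply pullback.hom_ext
  · change pullback.map p U.hom p U'.hom (𝟙 X) g (𝟙 S) (by simp) (by simp [hgS]) ≫
        pullback.fst p U'.hom = Fl ≫ pullback.fst p U'.hom
    rw [hFl, pullback.lift_fst, Category.comp_id]
  · change pullback.map p U.hom p U'.hom (𝟙 X) g (𝟙 S) (by simp) (by simp [hgS]) ≫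
        pullback.snd p U'.hom = Fl ≫ pullback.snd p U'.hom
    rw [pullback.lift_snd]
    exact hg

/-- faithfulness of the canonical descent datum functor from epimorphisms. -/
theorem faithful_of_epi (hE : ∀ U : Over S, Epi (pullback.snd p U.hom)) :
    (Desc.toDD p).Faithful := by
  refine ⟨fun {U U'} g g' h => ?_⟩
  have hepi : Epi (pullback.snd p U.hom) := hE U
  have e : ∀ g : U ⟶ U', (((Desc.toDD p).map g).hom.left : pullback p U.hom ⟶ pullback p U'.hom) ≫
      pullback.snd p U'.hom = pullback.snd p U.hom ≫ g.left := fun g =>
    pullback.lift_snd _ _ _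
  have h1 : pullback.snd p U.hom ≫ g.left = pullback.snd p U.hom ≫ g'.left := by
    rw [← e, ← e, h]
  ext
  exact (cancel_epi _).1 h1

/-- quasi-compact flat surjective morphisms are covers for descent. -/
instance descCover_of_fpqc [Surjective p] [Flat p] [QuasiCompact p] : DescCover p where
  full := full_of_effectiveEpi p (fun U => inferInstance)
  faithful := faithful_of_epi p (fun U => inferInstance)
  quot U := Flat.isQuotientMap_of_surjective _
  openImm {A B} f hf := by
    have s1 : Surjective (pullback.snd p B.hom) := inferInstance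
    have s2 : Flat (pullback.snd p B.hom) := inferInstance
    have s3 : QuasiCompact (pullback.snd p B.hom) := inferInstance
    exact MorphismProperty.of_isPullback_of_descendsAlong (P := @IsOpenImmersion)
      (Q := @Surjective ⊓ @Flat ⊓ @QuasiCompact) (isPullback_toDD_map f) ⟨⟨s1, s2⟩, s3⟩ hf

/-- flat surjective morphisms locally of finite presentation are covers for descent. -/
instance descCover_of_fppf [Surjective p] [Flat p] [LocallyOfFinitePresentation p] :
    DescCover p where
  full := full_of_effectiveEpi p (fun U => inferInstance)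
  faithful := faithful_of_epi p (fun U => inferInstance)
  quot U := by
    have h1 : IsOpenMap (pullback.snd p U.hom).base := (pullback.snd p U.hom).isOpenMap
    exact h1.isQuotientMap (pullback.snd p U.hom).continuous (pullback.snd p U.hom).surjective
  openImm {A B} f hf := by
    have s1 : Surjective (pullback.snd p B.hom) := inferInstance
    have s2 : Flat (pullback.snd p B.hom) := inferInstance
    have s3 : LocallyOfFinitePresentation (pullback.snd p B.hom) := inferInstance
    exact MorphismProperty.of_isPullback_of_descendsAlong (P := @IsOpenImmersion)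
      (Q := @Surjective ⊓ @Flat ⊓ @LocallyOfFinitePresentation) (isPullback_toDD_map f)
      ⟨⟨s1, s2⟩, s3⟩ hf

end Groth.Agent.Lib.Helper15DescCov
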