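-- helper15: covering morphisms for the fpqc precoverage are covers for gluing descent data of schemes.
import Mathlib
import Groth.Prelude.Def_Desc
import Groth.Prelude.Def_DescFam
import Groth.Agent.Lib.Helper15DescCov
import Groth.Agent.Lib.Helper12Torsor
import Groth.Agent.S11719

set_option autoImplicit false
open CategoryTheory CategoryTheory.Limits AlgebraicGeometry

universe u

namespace Groth.Agent.Lib.Helper15DescCovFpqc

open Desc Groth.Agent.Lib.Helper15DescCov

variable {X S : Scheme.{u}} (p : X ⟶ S)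

lemma singleton_pullback_snd_mem (hp : Presieve.singleton p ∈ Scheme.fpqcPrecoverage S)
    {Y : Scheme.{u}} (g : Y ⟶ S) :
    Presieve.singleton (pullback.snd p g) ∈ Scheme.fpqcPrecoverage Y := by
  rw [← Presieve.ofArrows_pUnit.{0}] at hp ⊢
  exact Precoverage.mem_coverings_of_isPullback _ hp g _ (fun _ => pullback.fst p g)
    (fun _ => (IsPullback.of_hasPullback p g).flip)

lemma surjective_of_mem (hp : Presieve.singleton p ∈ Scheme.fpqcPrecoverage S) : Surjective p := by
  have h2 := hp.2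
  rw [Scheme.singleton_mem_precoverage_iff] at h2
  exact ⟨h2.1⟩

lemma flat_of_mem (hp : Presieve.singleton p ∈ Scheme.fpqcPrecoverage S) : Flat p := by
  have h2 := hp.2
  rw [Scheme.singleton_mem_precoverage_iff] at h2
  exact h2.2

lemma quasiCompactCover_of_mem (hp : Presieve.singleton p ∈ Scheme.fpqcPrecoverage S) :
    QuasiCompactCover (PreZeroHypercover.singleton.{0} p) := by
  rw [← Scheme.presieve₀_mem_qcPrecoverage_iff]
  have h1 := hp.1
  rwa [PreZeroHypercover.presieve₀_singleton]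

/-- a flat covering morphism for the fpqc precoverage is a quotient map. -/
theorem isQuotientMap_of_mem (hp : Presieve.singleton p ∈ Scheme.fpqcPrecoverage S) :
    Topology.IsQuotientMap p.base := by
  have hsurj := surjective_of_mem p hp
  have hflat := flat_of_mem p hp
  have hqc := quasiCompactCover_of_mem p hp
  rw [Topology.isQuotientMap_iff]
  refine ⟨.of_isOpen_preimage_iff_isOpen fun s ↦
    ⟨fun hs ↦ ?_, fun hs ↦ hs.preimage p.continuous⟩, p.surjective⟩
  rw [isOpen_iff_forall_mem_open]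
  intro y hy
  obtain ⟨W, hW, hyW⟩ : ∃ W : S.Opens, IsAffineOpen W ∧ y ∈ W := by
    obtain ⟨_, ⟨W, hW, rfl⟩, hv, -⟩ :=
      (S.isBasis_affineOpens).exists_subset_of_mem_open (Set.mem_univ y) isOpen_univ
    exact ⟨W, hW, hv⟩
  obtain ⟨n, fi, V, hV, hU⟩ := QuasiCompactCover.exists_isAffineOpen_of_isCompact
    (PreZeroHypercover.singleton.{0} p) hW.isCompact
  obtain ⟨V', hV'⟩ : ∃ V' : Fin n → X.Opens, ∀ i, V' i = V i := ⟨fun i => V i, fun i => rfl⟩
  have hV'aff : ∀ i, IsAffineOpen (V' i) := fun i => by rw [hV' i]; exact hV i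
  have hU' : ⋃ i, p.base '' (V' i : Set X) = (W : Set S) := by
    rw [← hU]
    congr 1
    funext i
    rw [hV' i]
    rfl
  have hle : ∀ i, V' i ≤ p ⁻¹ᵁ W := by
    intro i x hx
    have : p.base x ∈ (W : Set S) := by
      rw [← hU']
      exact Set.mem_iUnion.2 ⟨i, x, hx, rfl⟩
    exact this
  have haffV : ∀ i, IsAffine ((V' i : X.Opens) : Scheme.{u}) := fun i => hV'aff i
  have haffW : IsAffine (W : Scheme.{u}) := hW
  obtain ⟨g, hg⟩ : ∃ g : (∐ fun i : Fin n => ((V' i : X.Opens) : Scheme.{u})) ⟶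
      ((p ⁻¹ᵁ W : X.Opens) : Scheme.{u}), g = Sigma.desc (fun i => X.homOfLE (hle i)) := ⟨_, rfl⟩
  have hgflat : Flat g := by
    rw [hg]; exact IsZariskiLocalAtSource.sigmaDesc (P := @Flat) (fun i => inferInstance)
  have sq : IsPullback (p ⁻¹ᵁ W).ι (p ∣_ W) p W.ι := (isPullback_morphismRestrict p W).flip
  have hrflat : Flat (p ∣_ W) := MorphismProperty.of_isPullback (P := @Flat) sq inferInstance
  obtain ⟨r, hr⟩ : ∃ r : (∐ fun i : Fin n => ((V' i : X.Opens) : Scheme.{u})) ⟶ (W : Scheme.{u}),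
      r = g ≫ (p ∣_ W) := ⟨_, rfl⟩
  have hrι : r ≫ W.ι = (g ≫ (p ⁻¹ᵁ W).ι) ≫ p := by
    rw [hr, Category.assoc, Category.assoc, sq.w]
  have hgι : ∀ i, Sigma.ι (fun i : Fin n => ((V' i : X.Opens) : Scheme.{u})) i ≫ g ≫ (p ⁻¹ᵁ W).ι =
      (V' i).ι := by
    intro i
    rw [hg, ← Category.assoc, Sigma.ι_desc, Scheme.homOfLE_ι]
  have hrfl : Flat r := by rw [hr]; infer_instance
  have hrsurj : Surjective r := by
    refine ⟨fun w => ?_⟩
    have hw : W.ι.base w ∈ (W : Set S) := by
      have h0 : Set.range W.ι.base = (W : Set S) := Scheme.Opens.range_ι W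
      rw [← h0]
      exact ⟨w, rfl⟩
    rw [← hU'] at hw
    obtain ⟨i, x, hx, hxw⟩ := Set.mem_iUnion.1 hw
    obtain ⟨x', hx'⟩ : ∃ x' : ((V' i : X.Opens) : Scheme.{u}), (V' i).ι.base x' = x :=
      ⟨⟨x, hx⟩, rfl⟩
    refine ⟨(Sigma.ι (fun i : Fin n => ((V' i : X.Opens) : Scheme.{u})) i).base x', ?_⟩
    apply W.ι.isOpenEmbedding.injective
    have e1 : W.ι.base (r.base ((Sigma.ι (fun i : Fin n => ((V' i : X.Opens) : Scheme.{u})) i).base x')) =
        (Sigma.ι (fun i : Fin n => ((V' i : X.Opens) : Scheme.{u})) i ≫ r ≫ W.ι).base x' := rfl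
    rw [e1, hrι, Category.assoc, ← Category.assoc, ← Category.assoc, Category.assoc _ g, hgι]
    rw [Scheme.Hom.comp_base, TopCat.comp_app, hx', hxw]
  have hrqc : QuasiCompact r := inferInstance
  have hq : Topology.IsQuotientMap r.base := Flat.isQuotientMap_of_surjective r
  have hopen : IsOpen (W.ι.base ⁻¹' s) := by
    rw [← hq.isOpen_preimage]
    have e2 : r.base ⁻¹' (W.ι.base ⁻¹' s) = (g ≫ (p ⁻¹ᵁ W).ι).base ⁻¹' (p.base ⁻¹' s) := by
      rw [← Set.preimage_comp, ← Set.preimage_comp]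
      have : (W.ι.base : _ → _) ∘ (r.base : _ → _) = (p.base : _ → _) ∘ ((g ≫ (p ⁻¹ᵁ W).ι).base : _ → _) := by
        have h3 := congrArg (fun m => (m.base : _ → _)) hrι
        simpa using h3
      rw [this]
    rw [e2]
    exact hs.preimage (g ≫ (p ⁻¹ᵁ W).ι).continuous
  refine ⟨W.ι.base '' (W.ι.base ⁻¹' s), ?_, W.ι.isOpenEmbedding.isOpenMap _ hopen, ?_⟩
  · rintro _ ⟨w, hw, rfl⟩
    exact hw
  · exact ⟨⟨y, hyW⟩, hy, rfl⟩

lemma toSchDD_full : (SchDDFam.toSchDD.{u, u} p).Full :=
  inferInstanceAs ((SchDDFam.oneEquiv.{u, u} p).functor).Full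

lemma toSchDD_faithful : (SchDDFam.toSchDD.{u, u} p).Faithful :=
  inferInstanceAs ((SchDDFam.oneEquiv.{u, u} p).functor).Faithful

lemma ofArrows_pUnit_mem (hp : Presieve.singleton p ∈ Scheme.fpqcPrecoverage S) :
    Presieve.ofArrows (fun _ : PUnit.{u + 1} => X) (fun _ : PUnit.{u + 1} => p) ∈
      Scheme.fpqcPrecoverage S := by
  rwa [Presieve.ofArrows_pUnit]

/-- covering morphisms for the fpqc precoverage are covers for descent. -/
theorem descCover_of_mem (hp : Presieve.singleton p ∈ Scheme.fpqcPrecoverage S) : DescCover p where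
  full := by
    have h := (Groth.Agent.S11719.result (fun _ : PUnit.{u + 1} => p) (ofArrows_pUnit_mem p hp)).1
    have h2 := toSchDD_full p
    have : (toDDFam (fun _ : PUnit.{u + 1} => p) ⋙ SchDDFam.toSchDD.{u, u} p).Full := inferInstance
    exact this
  faithful := by
    have h := (Groth.Agent.S11719.result (fun _ : PUnit.{u + 1} => p) (ofArrows_pUnit_mem p hp)).2
    have h2 := toSchDD_faithful p
    have : (toDDFam (fun _ : PUnit.{u + 1} => p) ⋙ SchDDFam.toSchDD.{u, u} p).Faithful :=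
      inferInstance
    exact this
  quot U := isQuotientMap_of_mem _ (singleton_pullback_snd_mem p hp U.hom)
  openImm {A B} f hf := by
    have hmem := singleton_pullback_snd_mem p hp B.hom
    refine Groth.Agent.Lib.Helper12.of_mem_fpqcPrecoverage (P := @IsOpenImmersion) inferInstance
      f.left (Presieve.singleton (pullback.snd p B.hom)) hmem ?_
    intro Y' g hg
    obtain ⟨⟩ := hg
    have sq := (Groth.Agent.Lib.Helper15DescGlueA.isPullback_toDD_map (p := p) f).flip
    have e := IsPullback.isoIsPullback_hom_snd _ _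
      (IsPullback.of_hasPullback f.left (pullback.snd p B.hom)) sq
    rw [← e]
    exact (MorphismProperty.cancel_left_of_respectsIso @IsOpenImmersion _ _).2 hf

end Groth.Agent.Lib.Helper15DescCovFpqc
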