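-- helper15: restriction of a descent datum for schemes to a stable open subscheme.
import Mathlib
import Groth.Prelude.Def_Desc
import Groth.Agent.Lib.Helper15DescGlueA

set_option autoImplicit false
set_option linter.unusedSectionVars false
open CategoryTheory CategoryTheory.Limits AlgebraicGeometry

universe u

namespace Groth.Agent.Lib.Helper15DescStable

open Desc Groth.Agent.Lib.Helper15DescGlueA

variable {X S : Scheme.{u}} {p : X ⟶ S} (D : Desc.SchDD p) (W : D.obj.left.Opens)

/-- a point of the open subscheme, seen as a point of the scheme of the descent datum. -/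
def inclLift {T : Scheme.{u}} {x : T ⟶ X} (v : Lifts (Over.mk (W.ι ≫ D.obj.hom)) x) :
    Lifts D.obj x :=
  ⟨v.1 ≫ W.ι, by rw [Category.assoc]; exact v.2⟩

lemma range_inclLift {T : Scheme.{u}} {x : T ⟶ X} (v : Lifts (Over.mk (W.ι ≫ D.obj.hom)) x) :
    Set.range (inclLift D W v).1.base ⊆ (W : Set D.obj.left) := by
  rintro _ ⟨t, rfl⟩
  change (v.1 ≫ W.ι).base t ∈ _
  rw [Scheme.Hom.comp_base]
  exact (v.1.base t).2

variable (hW : Stable D W)

/-- the gluing maps restricted to a stable open. -/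
noncomputable def resMap {T : Scheme.{u}} (x₀ x₁ : T ⟶ X) (h : x₀ ≫ p = x₁ ≫ p)
    (v : Lifts (Over.mk (W.ι ≫ D.obj.hom)) x₀) : Lifts (Over.mk (W.ι ≫ D.obj.hom)) x₁ :=
  ⟨IsOpenImmersion.lift W.ι (D.φ x₀ x₁ h (inclLift D W v)).1 (by
      rw [Scheme.Opens.range_ι]
      exact hW x₀ x₁ h _ (range_inclLift D W v)), by
    change IsOpenImmersion.lift W.ι _ _ ≫ W.ι ≫ D.obj.hom = x₁
    rw [← Category.assoc, IsOpenImmersion.lift_fac]
    exact (D.φ x₀ x₁ h (inclLift D W v)).2⟩

lemma inclLift_resMap {T : Scheme.{u}} (x₀ x₁ : T ⟶ X) (h : x₀ ≫ p = x₁ ≫ p)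
    (v : Lifts (Over.mk (W.ι ≫ D.obj.hom)) x₀) :
    inclLift D W (resMap D W hW x₀ x₁ h v) = D.φ x₀ x₁ h (inclLift D W v) :=
  Subtype.ext (IsOpenImmersion.lift_fac _ _ _)

lemma inclLift_injective {T : Scheme.{u}} {x : T ⟶ X}
    (v v' : Lifts (Over.mk (W.ι ≫ D.obj.hom)) x) (h : inclLift D W v = inclLift D W v') :
    v = v' := by
  apply Subtype.ext
  rw [← cancel_mono W.ι]
  exact congrArg Subtype.val h

/-- the restriction of a descent datum to a stable open subscheme. -/
noncomputable def restrictDD : Desc.SchDD p where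
  obj := Over.mk (W.ι ≫ D.obj.hom)
  φ T x₀ x₁ h :=
    { toFun := resMap D W hW x₀ x₁ h
      invFun := resMap D W hW x₁ x₀ h.symm
      left_inv := fun v => by
        apply inclLift_injective D W
        rw [inclLift_resMap, inclLift_resMap, D.φ_comp]
        exact D.φ_self x₀ _
      right_inv := fun v => by
        apply inclLift_injective D W
        rw [inclLift_resMap, inclLift_resMap, D.φ_comp]
        exact D.φ_self x₁ _ }
  φ_natural T T' g x₀ x₁ h h' v v' hv' := by
    have h1 := congrArg Subtype.val (inclLift_resMap D W hW (g ≫ x₀) (g ≫ x₁) h' v')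
    have h2 := congrArg Subtype.val (inclLift_resMap D W hW x₀ x₁ h v)
    change (resMap D W hW (g ≫ x₀) (g ≫ x₁) h' v').1 ≫ W.ι = _ at h1
    change (resMap D W hW x₀ x₁ h v).1 ≫ W.ι = _ at h2
    change (resMap D W hW (g ≫ x₀) (g ≫ x₁) h' v').1 = g ≫ (resMap D W hW x₀ x₁ h v).1
    have h3 : (D.φ (g ≫ x₀) (g ≫ x₁) h' (inclLift D W v')).1 =
        g ≫ (D.φ x₀ x₁ h (inclLift D W v)).1 := by
      refine D.φ_natural g x₀ x₁ h h' _ _ ?_
      change v'.1 ≫ W.ι = g ≫ v.1 ≫ W.ι
      rw [hv', Category.assoc]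
    rw [← cancel_mono W.ι, Category.assoc, h1, h2, h3]
  φ_self T x v := by
    apply inclLift_injective D W
    change inclLift D W (resMap D W hW x x rfl v) = _
    rw [inclLift_resMap]
    exact D.φ_self x _
  φ_comp T x₀ x₁ x₂ h₀₁ h₁₂ v := by
    apply inclLift_injective D W
    change inclLift D W (resMap D W hW x₁ x₂ h₁₂ (resMap D W hW x₀ x₁ h₀₁ v)) =
      inclLift D W (resMap D W hW x₀ x₂ _ v)
    rw [inclLift_resMap, inclLift_resMap, inclLift_resMap, D.φ_comp]

/-- the inclusion of the restriction of a descent datum to a stable open subscheme. -/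
noncomputable def restrictι : restrictDD D W hW ⟶ D :=
  ⟨Over.homMk W.ι rfl, fun T x₀ x₁ h v w hw => by
    have e : w = inclLift D W v := Subtype.ext hw
    subst e
    exact (congrArg Subtype.val (inclLift_resMap D W hW x₀ x₁ h v)).symm⟩

@[simp] lemma restrictι_left : (restrictι D W hW).hom.left = W.ι := rfl

@[simp] lemma restrictDD_hom : (restrictDD D W hW).obj.hom = W.ι ≫ D.obj.hom := rfl

end Groth.Agent.Lib.Helper15DescStable
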