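-- helper15: saturation of open subsets of the scheme of a descent datum along a universally open cover.
import Mathlib
import Groth.Prelude.Def_Desc
import Groth.Agent.Lib.Helper15AffDescCore
import Groth.Agent.Lib.Helper15DescGlueA
import Groth.Agent.Lib.Helper15DescStable

set_option autoImplicit false
set_option linter.unusedSectionVars false
open CategoryTheory CategoryTheory.Limits AlgebraicGeometry

universe u

namespace Groth.Agent.Lib.Helper15DescSat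

open Desc Groth.Agent.Lib.Helper15AffDescCore Groth.Agent.Lib.Helper15DescGlueA
  Groth.Agent.Lib.Helper15DescStable

variable {X S : Scheme.{u}} {p : X ⟶ S} (D : Desc.SchDD p)

lemma comp_ψ_cond {T : Scheme.{u}} (k : T ⟶ W D) :
    ((k ≫ w₁ D) ≫ D.obj.hom) ≫ p = (k ≫ w₂ D) ≫ p := by
  have := w_cond D
  simp only [Category.assoc] at this ⊢
  rw [this]

lemma comp_ψ {T : Scheme.{u}} (k : T ⟶ W D) :
    k ≫ ψ D = tr D (k ≫ w₂ D) (k ≫ w₁ D) (comp_ψ_cond D k) := by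
  unfold ψ
  exact comp_tr D k (w₂ D) (w₁ D) (w_cond D)

lemma τ_cond : ψ D ≫ D.obj.hom ≫ p = (w₁ D ≫ D.obj.hom) ≫ p := by
  rw [← Category.assoc, ψ_hom]
  exact (w_cond D).symm

/-- the twist exchanging the projection and the transport. -/
noncomputable def τ : W D ⟶ W D := pullback.lift (ψ D) (w₁ D ≫ D.obj.hom) (τ_cond D)

lemma τ_w₁ : τ D ≫ w₁ D = ψ D := pullback.lift_fst _ _ _

lemma τ_w₂ : τ D ≫ w₂ D = w₁ D ≫ D.obj.hom := pullback.lift_snd _ _ _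

lemma τ_ψ : τ D ≫ ψ D = w₁ D := by
  have h' : (ψ D ≫ D.obj.hom) ≫ p = (w₁ D ≫ D.obj.hom) ≫ p := by
    rw [Category.assoc]; exact τ_cond D
  have e1 : τ D ≫ ψ D = tr D (w₁ D ≫ D.obj.hom) (ψ D) h' := by
    rw [comp_ψ]
    exact tr_eq D (τ_w₂ D) (τ_w₁ D) _ _
  rw [e1]
  have e2 : tr D (w₁ D ≫ D.obj.hom) (ψ D) h' =
      tr D (w₁ D ≫ D.obj.hom) (w₁ D) ((w_cond D).trans (w_cond D).symm) := by
    unfold ψ
    exact tr_tr D (w₂ D) (w₁ D ≫ D.obj.hom) (w₁ D) (w_cond D) (w_cond D).symm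
  rw [e2]
  exact tr_self D _ _ rfl

lemma τ_τ : τ D ≫ τ D = 𝟙 _ := by
  apply pullback.hom_ext
  · rw [Category.assoc, τ_w₁, τ_ψ, Category.id_comp]
  · rw [Category.assoc, τ_w₂, ← Category.assoc, τ_w₁, ψ_hom, Category.id_comp]

instance : IsIso (τ D) := ⟨τ D, τ_τ D, τ_τ D⟩

lemma isOpenMap_ψ [UniversallyOpen p] : IsOpenMap (ψ D).base := by
  rw [← τ_w₁]
  exact (τ D ≫ w₁ D).isOpenMap

/-- the saturation of an open subset. -/
noncomputable def Sat [UniversallyOpen p] (W₀ : D.obj.left.Opens) : D.obj.left.Opens :=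
  ⟨(ψ D).base '' ((w₁ D ⁻¹ᵁ W₀ : (W D).Opens) : Set (W D)), isOpenMap_ψ D _ (w₁ D ⁻¹ᵁ W₀).2⟩

lemma mem_Sat [UniversallyOpen p] (W₀ : D.obj.left.Opens) (v : D.obj.left) :
    v ∈ Sat D W₀ ↔ ∃ r : W D, (w₁ D).base r ∈ W₀ ∧ (ψ D).base r = v := Iff.rfl

/-- the diagonal section. -/
noncomputable def σ : D.obj.left ⟶ W D := pullback.lift (𝟙 _) D.obj.hom (by simp)

lemma σ_w₁ : σ D ≫ w₁ D = 𝟙 _ := pullback.lift_fst _ _ _

lemma σ_w₂ : σ D ≫ w₂ D = D.obj.hom := pullback.lift_snd _ _ _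

lemma σ_ψ : σ D ≫ ψ D = 𝟙 _ := by
  rw [comp_ψ]
  rw [tr_eq D (σ_w₂ D) (σ_w₁ D) _ (by simp)]
  exact tr_self D D.obj.hom (𝟙 _) (by simp)

lemma le_Sat [UniversallyOpen p] (W₀ : D.obj.left.Opens) : W₀ ≤ Sat D W₀ := by
  intro v hv
  refine ⟨(σ D).base v, ?_, ?_⟩
  · change (σ D).base v ∈ (w₁ D ⁻¹ᵁ W₀ : (W D).Opens)
    change (w₁ D).base ((σ D).base v) ∈ W₀
    rw [← Scheme.Hom.comp_apply, σ_w₁]
    exact hv
  · rw [← Scheme.Hom.comp_apply, σ_ψ]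
    rfl

lemma isCompact_Sat [UniversallyOpen p] [QuasiCompact p] (W₀ : D.obj.left.Opens)
    (hW₀ : IsCompact (W₀ : Set D.obj.left)) : IsCompact (Sat D W₀ : Set D.obj.left) := by
  have h1 : IsCompact ((w₁ D ⁻¹ᵁ W₀ : (W D).Opens) : Set (W D)) :=
    QuasiCompact.isCompact_preimage (f := w₁ D) _ W₀.2 hW₀
  exact h1.image (ψ D).continuous

lemma stable_Sat [UniversallyOpen p] (W₀ : D.obj.left.Opens) : Stable D (Sat D W₀) := by
  intro T x₀ x₁ h v hv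
  rintro _ ⟨t, rfl⟩
  obtain ⟨r, hrW, hrv⟩ := hv ⟨t, rfl⟩
  obtain ⟨z, hz₁, hz₂⟩ := Scheme.Pullback.exists_preimage_pullback (f := ψ D) (g := v.1) r t hrv
  obtain ⟨a, ha⟩ : ∃ a : pullback (ψ D) v.1 ⟶ W D, a = pullback.fst _ _ := ⟨_, rfl⟩
  obtain ⟨b, hb⟩ : ∃ b : pullback (ψ D) v.1 ⟶ T, b = pullback.snd _ _ := ⟨_, rfl⟩
  have hab : a ≫ ψ D = b ≫ v.1 := by rw [ha, hb]; exact pullback.condition
  rw [← ha] at hz₁
  rw [← hb] at hz₂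
  have e0 : a ≫ w₂ D = b ≫ x₀ := by
    rw [← ψ_hom, ← Category.assoc, hab, Category.assoc, v.2]
  have hc : (a ≫ w₁ D) ≫ D.obj.hom ≫ p = (b ≫ x₁) ≫ p := by
    have := w_cond D
    simp only [Category.assoc] at this ⊢
    rw [this, ← Category.assoc, e0, Category.assoc, h]
  obtain ⟨ρ, hρ⟩ : ∃ ρ : pullback (ψ D) v.1 ⟶ W D, ρ = pullback.lift (a ≫ w₁ D) (b ≫ x₁) hc :=
    ⟨_, rfl⟩
  have hρ₁ : ρ ≫ w₁ D = a ≫ w₁ D := by rw [hρ]; exact pullback.lift_fst _ _ _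
  have hρ₂ : ρ ≫ w₂ D = b ≫ x₁ := by rw [hρ]; exact pullback.lift_snd _ _ _
  have hc' : ((a ≫ w₁ D) ≫ D.obj.hom) ≫ p = (b ≫ x₁) ≫ p := by
    simp only [Category.assoc] at hc ⊢; exact hc
  have e1 : ρ ≫ ψ D = tr D (b ≫ x₁) (a ≫ w₁ D) hc' := by
    rw [comp_ψ]
    exact tr_eq D hρ₂ hρ₁ _ _
  have hvx : (v.1 ≫ D.obj.hom) ≫ p = x₁ ≫ p := by rw [v.2]; exact h
  have e2 : b ≫ (D.φ x₀ x₁ h v).1 = tr D (b ≫ x₁) (a ≫ w₁ D) hc' := by
    rw [φ_eq_tr, comp_tr]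
    have hA : ((a ≫ w₁ D) ≫ D.obj.hom) ≫ p = (a ≫ w₂ D) ≫ p := by
      have := w_cond D
      simp only [Category.assoc] at this ⊢
      rw [this]
    have hB : (a ≫ w₂ D) ≫ p = (b ≫ x₁) ≫ p := hA.symm.trans hc'
    have e3 : b ≫ v.1 = tr D (a ≫ w₂ D) (a ≫ w₁ D) hA := by
      rw [← hab, comp_ψ]
    rw [tr_eq D rfl e3 _ (by rw [tr_hom]; exact hB)]
    exact tr_tr D _ _ _ hA hB
  refine ⟨ρ.base z, ?_, ?_⟩
  · change (w₁ D).base (ρ.base z) ∈ W₀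
    rw [← Scheme.Hom.comp_apply, hρ₁, Scheme.Hom.comp_apply, hz₁]
    exact hrW
  · rw [← Scheme.Hom.comp_apply, e1, ← e2, Scheme.Hom.comp_apply, hz₂]

end Groth.Agent.Lib.Helper15DescSat
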