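-- helper15: gluing descent data for schemes along charts, part 2: a descent datum covered by effective stable opens is effective.
import Mathlib
import Groth.Prelude.Def_Desc
import Groth.Agent.Lib.Helper15DescGlueA
import Groth.Agent.Lib.Helper15DescGlueB
import Groth.Agent.Lib.Helper15AffDescCore

set_option autoImplicit false
set_option linter.unusedSectionVars false
open CategoryTheory CategoryTheory.Limits AlgebraicGeometry

universe u

namespace Groth.Agent.Lib.Helper15DescGlueC

open Desc Groth.Agent.Lib.Helper15DescGlueA Groth.Agent.Lib.Helper15DescGlueB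

section General

variable {X S : Scheme.{u}} {p : X ⟶ S}

/-- A morphism over `X` between the schemes of two descent data which is compatible with the
descent data on a family of open immersions of descent data covering the source is a morphism of
descent data. -/
lemma exists_hom_of_cover {D₁ D₂ : Desc.SchDD p} (G : D₁.obj ⟶ D₂.obj) {ι : Type*}
    (E : ι → Desc.SchDD p) (e : ∀ i, E i ⟶ D₁) [∀ i, IsOpenImmersion (e i).hom.left]
    (hcov : ∀ z : D₁.obj.left, ∃ i, z ∈ Set.range (e i).hom.left.base)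
    (hG : ∀ i, ∃ Ψ : E i ⟶ D₂, Ψ.hom = (e i).hom ≫ G) :
    ∃ Φ : D₁ ⟶ D₂, Φ.hom = G := by
  refine ⟨⟨G, fun T x₀ x₁ h v w hw => ?_⟩, rfl⟩
  apply Scheme.hom_ext_of_forall
  intro t
  obtain ⟨i, hi⟩ := hcov (v.1.base t)
  obtain ⟨Ψ, hΨ⟩ := hG i
  obtain ⟨U, hU⟩ : ∃ U : T.Opens, U = v.1 ⁻¹ᵁ (e i).hom.left.opensRange := ⟨_, rfl⟩
  have htU : t ∈ U := by rw [hU]; exact hi
  refine ⟨U, htU, ?_⟩
  have hr : Set.range (U.ι ≫ v.1).base ⊆ Set.range (e i).hom.left.base := by
    subst hU
    rintro _ ⟨t', rfl⟩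
    exact t'.2
  obtain ⟨va, hva⟩ : ∃ va : (U : Scheme.{u}) ⟶ (E i).obj.left, va ≫ (e i).hom.left = U.ι ≫ v.1 :=
    ⟨IsOpenImmersion.lift (e i).hom.left (U.ι ≫ v.1) hr, IsOpenImmersion.lift_fac _ _ _⟩
  have hvax : va ≫ (E i).obj.hom = U.ι ≫ x₀ := by
    rw [← Over.w (e i).hom, ← Category.assoc, hva, Category.assoc, v.2]
  have h' : (U.ι ≫ x₀) ≫ p = (U.ι ≫ x₁) ≫ p := by
    rw [Category.assoc, Category.assoc, h]
  have hv' : (U.ι ≫ v.1) ≫ D₁.obj.hom = U.ι ≫ x₀ := by rw [Category.assoc, v.2]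
  have hw' : (U.ι ≫ w.1) ≫ D₂.obj.hom = U.ι ≫ x₀ := by rw [Category.assoc, w.2]
  have n1 := D₁.φ_natural U.ι x₀ x₁ h h' v ⟨U.ι ≫ v.1, hv'⟩ rfl
  have n2 := D₂.φ_natural U.ι x₀ x₁ h h' w ⟨U.ι ≫ w.1, hw'⟩ rfl
  have c1 := (e i).comm (U.ι ≫ x₀) (U.ι ≫ x₁) h' ⟨va, hvax⟩ ⟨U.ι ≫ v.1, hv'⟩ hva.symm
  have hΨl : Ψ.hom.left = (e i).hom.left ≫ G.left := by rw [hΨ]; rfl
  have c2 := Ψ.comm (U.ι ≫ x₀) (U.ι ≫ x₁) h' ⟨va, hvax⟩ ⟨U.ι ≫ w.1, hw'⟩ (by
    change U.ι ≫ w.1 = va ≫ Ψ.hom.left
    rw [hΨl, ← Category.assoc, hva, hw, Category.assoc])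
  rw [← n2, c2, hΨl, ← Category.assoc, ← c1, n1, Category.assoc]

end General

section Colim

variable {X S : Scheme.{u}} {p : X ⟶ S} [Surjective p] [Flat p] [QuasiCompact p]
  {D : Desc.SchDD p} {K : Type u} {Uo : K → Over S}
  (c : ∀ k, (Desc.toDD p).obj (Uo k) ⟶ D) [hc : ∀ k, IsOpenImmersion (c k).hom.left]

/-- the cocone of structure morphisms. -/
noncomputable def coconeS : Cocone (F c) where
  pt := S
  ι :=
    { app := fun a => (A c a).hom
      naturality := fun a b f => by
        change ((F' c).map f).left ≫ (A c b).hom = (A c a).hom ≫ 𝟙 S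
        rw [Category.comp_id]
        exact Over.w ((F' c).map f) }

/-- the glued scheme over the base. -/
noncomputable def Ugl : Over S := Over.mk (colimit.desc (F c) (coconeS c))

/-- the charts of the glued scheme. -/
noncomputable def ιO (a : Idx c) : A c a ⟶ Ugl c :=
  Over.homMk (colimit.ι (F c) a) (colimit.ι_desc (coconeS c) a)

lemma ιO_left (a : Idx c) : (ιO c a).left = colimit.ι (F c) a := rfl

instance (a : Idx c) : IsOpenImmersion (ιO c a).left :=
  (inferInstance : IsOpenImmersion (colimit.ι (F c) a))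

lemma map_ιO {a b : Idx c} (f : a ⟶ b) : (F' c).map f ≫ ιO c b = ιO c a := by
  apply Over.OverMorphism.ext
  change (F c).map f ≫ colimit.ι (F c) b = colimit.ι (F c) a
  exact colimit.w (F c) f

/-- the canonical descent datum of the glued scheme. -/
noncomputable abbrev PU : Scheme.{u} := pullback p (Ugl c).hom

/-- the charts upstairs. -/
noncomputable def pf (a : Idx c) : P' c a ⟶ PU c := ((Desc.toDD p).map (ιO c a)).hom.left

instance (a : Idx c) : IsOpenImmersion (pf c a) := isOpenImmersion_toDD_map (ιO c a)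

lemma Pmap_pf {a b : Idx c} (f : a ⟶ b) : Pmap c f ≫ pf c b = pf c a := by
  have := congrArg (fun Φ => Φ.hom.left) (congrArg (Desc.toDD p).map (map_ιO c f))
  rw [CategoryTheory.Functor.map_comp] at this
  exact this

lemma pf_snd (a : Idx c) :
    pf c a ≫ pullback.snd p (Ugl c).hom = sndA c a ≫ (ιO c a).left := toDD_map_snd _

lemma pf_fst (a : Idx c) :
    pf c a ≫ pullback.fst p (Ugl c).hom = pullback.fst p (A c a).hom := toDD_map_fst _

lemma isPullback_pf (a : Idx c) :
    IsPullback (pf c a) (sndA c a) (pullback.snd p (Ugl c).hom) (ιO c a).left :=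
  isPullback_toDD_map _

lemma pf_injective (a : Idx c) : Function.Injective (pf c a).base :=
  (pf c a).isOpenEmbedding.injective

lemma Pmap_pf_apply {a b : Idx c} (f : a ⟶ b) (z : ↥(P' c a)) :
    (pf c b).base ((Pmap c f).base z) = (pf c a).base z :=
  congrArg (fun g => g.base z) (Pmap_pf c f)

lemma pf_snd_apply (a : Idx c) (z : ↥(P' c a)) :
    (pullback.snd p (Ugl c).hom).base ((pf c a).base z) =
      (colimit.ι (F c) a).base ((sndA c a).base z) :=
  congrArg (fun g => g.base z) (pf_snd c a)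

/-- the open cover of the canonical descent datum of the glued scheme. -/
noncomputable abbrev coverU : (PU c).OpenCover where
  I₀ := Idx c
  X := P' c
  f := pf c
  mem₀ := by
    rw [Scheme.presieve₀_mem_precoverage_iff]
    refine ⟨fun z => ?_, fun a => inferInstance⟩
    obtain ⟨a, xa, hxa⟩ := Scheme.IsLocallyDirected.ι_jointly_surjective (F c)
      ((pullback.snd p (Ugl c).hom).base z)
    obtain ⟨y, hy, -⟩ := Scheme.exists_preimage_of_isPullback (isPullback_pf c a) z xa hxa.symm
    exact ⟨a, y, hy⟩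

noncomputable instance : (coverU c).LocallyDirected where
  trans f := Pmap c f
  trans_id a := Pmap_id c a
  trans_comp f g := Pmap_comp c f g
  w f := Pmap_pf c f
  directed {i j} x := by
    obtain ⟨za, hza⟩ : ∃ za : ↥(P' c i), za = (pullback.fst (pf c i) (pf c j)).base x := ⟨_, rfl⟩
    obtain ⟨zb, hzb⟩ : ∃ zb : ↥(P' c j), zb = (pullback.snd (pf c i) (pf c j)).base x := ⟨_, rfl⟩
    have hab : (pf c i).base za = (pf c j).base zb := by
      rw [hza, hzb]
      exact congrArg (fun g => g.base x) (pullback.condition (f := pf c i) (g := pf c j))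
    have h1 : (colimit.ι (F c) i).base ((sndA c i).base za) =
        (colimit.ι (F c) j).base ((sndA c j).base zb) := by
      rw [← pf_snd_apply, ← pf_snd_apply, hab]
    obtain ⟨k, fi, fj, y, hyi, hyj⟩ := (Scheme.IsLocallyDirected.ι_eq_ι_iff (F c)).1 h1
    obtain ⟨w, hw, -⟩ := Scheme.exists_preimage_of_isPullback (isPullback_Pmap c fi) za y
      hyi.symm
    have hwj : (Pmap c fj).base w = zb := by
      apply pf_injective c j
      rw [Pmap_pf_apply, ← Pmap_pf_apply c fi, hw, hab]
    refine ⟨k, fi, fj, w, ?_⟩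
    have : IsOpenImmersion (pullback.fst (pf c i) (pf c j) ≫ pf c i) := inferInstance
    apply (pullback.fst (pf c i) (pf c j) ≫ pf c i).isOpenEmbedding.injective
    rw [← Scheme.Hom.comp_apply, pullback.lift_fst_assoc]
    change (pf c i).base ((Pmap c fi).base w) = (pf c i).base ((pullback.fst (pf c i) (pf c j)).base x)
    rw [hw, hza]
  property_trans f := inferInstance

/-- the comparison morphism from the canonical descent datum of the glued scheme. -/
noncomputable def G : PU c ⟶ D.obj.left :=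
  (coverU c).glueMorphismsOfLocallyDirected (wf c) (fun f => Pmap_wf c f)

lemma pf_G (a : Idx c) : pf c a ≫ G c = wf c a :=
  (coverU c).map_glueMorphismsOfLocallyDirected _ _ a

lemma G_hom : G c ≫ D.obj.hom = pullback.fst p (Ugl c).hom := by
  refine (coverU c).hom_ext _ _ (fun a => ?_)
  change pf c a ≫ G c ≫ D.obj.hom = pf c a ≫ pullback.fst p (Ugl c).hom
  rw [← Category.assoc, pf_G, pf_fst]
  exact Over.w (ca c a).hom

variable (hcov : ∀ v : D.obj.left, ∃ k, v ∈ Set.range (c k).hom.left.base)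

/-- the inverse comparison morphism. -/
noncomputable def H : D.obj.left ⟶ PU c :=
  (cover c hcov).glueMorphismsOfLocallyDirected (pf c) (fun f => Pmap_pf c f)

lemma wf_H (a : Idx c) : wf c a ≫ H c hcov = pf c a :=
  (cover c hcov).map_glueMorphismsOfLocallyDirected _ _ a

lemma G_H : G c ≫ H c hcov = 𝟙 _ := by
  refine (coverU c).hom_ext _ _ (fun a => ?_)
  change pf c a ≫ G c ≫ H c hcov = pf c a ≫ 𝟙 _
  rw [← Category.assoc, pf_G, wf_H, Category.comp_id]

lemma H_G : H c hcov ≫ G c = 𝟙 _ := by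
  refine (cover c hcov).hom_ext _ _ (fun a => ?_)
  change wf c a ≫ H c hcov ≫ G c = wf c a ≫ 𝟙 _
  rw [← Category.assoc, wf_H, pf_G, Category.comp_id]

include hcov in
/-- A descent datum which is covered by stable opens on which it is effective is effective. -/
theorem exists_effective : ∃ U : Over S, Nonempty ((Desc.toDD p).obj U ≅ D) := by
  refine ⟨Ugl c, ?_⟩
  have hoi : ∀ a : Idx c, IsOpenImmersion ((Desc.toDD p).map (ιO c a)).hom.left :=
    fun a => isOpenImmersion_toDD_map (ιO c a)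
  obtain ⟨Φ, hΦ⟩ := exists_hom_of_cover (D₁ := (Desc.toDD p).obj (Ugl c)) (D₂ := D)
    (Over.homMk (G c) (G_hom c)) (fun a : Idx c => (Desc.toDD p).obj (A c a))
    (fun a => (Desc.toDD p).map (ιO c a))
    (fun z => by
      obtain ⟨a, y, hy⟩ := (coverU c).exists_eq z
      exact ⟨a, y, hy⟩)
    (fun a => ⟨ca c a, by
      apply Over.OverMorphism.ext
      change wf c a = pf c a ≫ G c
      rw [pf_G]⟩)
  have hΦl : Φ.hom.left = G c := by rw [hΦ]; rfl
  have : IsIso Φ.hom.left := by
    rw [hΦl]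
    exact ⟨H c hcov, G_H c hcov, H_G c hcov⟩
  have := isIso_of_isIso_left Φ
  exact ⟨asIso Φ⟩

end Colim

end Groth.Agent.Lib.Helper15DescGlueC
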