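-- helper15: pullback of descent data for schemes along a square, and effectivity after a flat surjective finitely presented refinement of the cover.
import Mathlib
import Groth.Prelude.Def_Desc
import Groth.Prelude.Def_DescFam
import Groth.Agent.Lib.Helper15AffDescCore

set_option autoImplicit false
set_option linter.unusedSectionVars false
open CategoryTheory CategoryTheory.Limits AlgebraicGeometry

universe u

namespace Groth.Agent.Lib.Helper15DescRefine

open Desc Groth.Agent.Lib.Helper15AffDescCore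

section Pull

variable {X S X' S' : Scheme.{u}} {p : X ⟶ S} (D : Desc.SchDD p)
  (g : X' ⟶ X) (j : S' ⟶ S) (p' : X' ⟶ S') (w : g ≫ p = p' ≫ j)

/-- pullback of a descent datum along a commutative square. -/
noncomputable def pullDD : Desc.SchDD p' :=
  (SchDDFam.toSchDD p').obj
    ((pullDDFam (f := fun _ : PUnit.{1} => p) (f' := fun _ : PUnit.{1} => p') (α := id) (p := j)
      (p' := fun _ => g) (fun _ => w)).obj ((SchDDFam.ofSchDD p).obj D))

lemma pullDD_obj : (pullDD D g j p' w).obj = Over.mk (pullback.snd D.obj.hom g) := rfl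

/-- the projection to the original scheme. -/
noncomputable def pr : (pullDD D g j p' w).obj.left ⟶ D.obj.left := pullback.fst D.obj.hom g

lemma pr_hom : pr D g j p' w ≫ D.obj.hom = (pullDD D g j p' w).obj.hom ≫ g := pullback.condition

lemma isPullback_pr :
    IsPullback (pr D g j p' w) (pullDD D g j p' w).obj.hom D.obj.hom g :=
  IsPullback.of_hasPullback D.obj.hom g

include w in
lemma compat {T : Scheme.{u}} {x₀ x₁ : T ⟶ X'} (h : x₀ ≫ p' = x₁ ≫ p') :
    (x₀ ≫ g) ≫ p = (x₁ ≫ g) ≫ p := by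
  rw [Category.assoc, Category.assoc, w, ← Category.assoc, ← Category.assoc, h]

lemma pr_compat {T : Scheme.{u}} (x₁ : T ⟶ X') (v : T ⟶ (pullDD D g j p' w).obj.left)
    (h : (v ≫ (pullDD D g j p' w).obj.hom) ≫ p' = x₁ ≫ p') :
    ((v ≫ pr D g j p' w) ≫ D.obj.hom) ≫ p = (x₁ ≫ g) ≫ p := by
  have e : (v ≫ pr D g j p' w) ≫ D.obj.hom = (v ≫ (pullDD D g j p' w).obj.hom) ≫ g := by
    rw [Category.assoc, pr_hom, Category.assoc]
  rw [e]
  exact compat g j p' w h

/-- transport in the pulled back descent datum. -/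
lemma tr_pullDD_pr {T : Scheme.{u}} (x₁ : T ⟶ X') (v : T ⟶ (pullDD D g j p' w).obj.left)
    (h : (v ≫ (pullDD D g j p' w).obj.hom) ≫ p' = x₁ ≫ p') :
    tr (pullDD D g j p' w) x₁ v h ≫ pr D g j p' w =
      tr D (x₁ ≫ g) (v ≫ pr D g j p' w) (pr_compat D g j p' w x₁ v h) := by
  unfold tr
  change (pullback.lift _ _ _) ≫ pullback.fst D.obj.hom g = _
  rw [pullback.lift_fst]
  refine φ_congr D ?_ rfl _ _ _ _ rfl
  change (v ≫ (pullDD D g j p' w).obj.hom) ≫ g = (v ≫ pr D g j p' w) ≫ D.obj.hom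
  rw [Category.assoc, Category.assoc, pr_hom]

end Pull

section Inv

variable {X S : Scheme.{u}} {p : X ⟶ S} (D : Desc.SchDD p)

/-- an effective descent datum has an invariant cartesian morphism to the descended scheme. -/
lemma exists_invariant_of_iso (U : Over S) (e : (Desc.toDD p).obj U ≅ D) :
    ∃ q : D.obj.left ⟶ U.left, IsPullback D.obj.hom q p U.hom ∧
      ∀ ⦃T : Scheme.{u}⦄ (x₁ : T ⟶ X) (v : T ⟶ D.obj.left)
        (h : (v ≫ D.obj.hom) ≫ p = x₁ ≫ p), tr D x₁ v h ≫ q = v ≫ q := by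
  obtain ⟨m, hm⟩ : ∃ m : D.obj.left ⟶ pullback p U.hom, m = e.inv.hom.left := ⟨_, rfl⟩
  obtain ⟨m', hm'⟩ : ∃ m' : pullback p U.hom ⟶ D.obj.left, m' = e.hom.hom.left := ⟨_, rfl⟩
  have h1 : m ≫ m' = 𝟙 _ := by
    rw [hm, hm']
    exact congrArg (fun Φ : D ⟶ D => Φ.hom.left) e.inv_hom_id
  have h2 : m' ≫ m = 𝟙 _ := by
    rw [hm, hm']
    exact congrArg (fun Φ : (Desc.toDD p).obj U ⟶ (Desc.toDD p).obj U => Φ.hom.left)
      e.hom_inv_id
  have hfst : m ≫ pullback.fst p U.hom = D.obj.hom := by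
    rw [hm]; exact Over.w e.inv.hom
  refine ⟨m ≫ pullback.snd p U.hom, ?_, ?_⟩
  · refine IsPullback.of_iso_pullback ⟨?_⟩ ⟨m, m', h1, h2⟩ hfst rfl
    rw [← hfst, Category.assoc, Category.assoc, pullback.condition]
  · intro T x₁ v h
    have := e.inv.comm (v ≫ D.obj.hom) x₁ h ⟨v, rfl⟩ (e.inv.push ⟨v, rfl⟩) rfl
    change (canMap p U (v ≫ D.obj.hom) x₁ h (e.inv.push ⟨v, rfl⟩)).1 =
      tr D x₁ v h ≫ e.inv.hom.left at this
    rw [canMap_val, ← hm] at this
    have h3 := congrArg (fun k => k ≫ pullback.snd p U.hom) this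
    simp only [pullback.lift_snd] at h3
    rw [← Category.assoc, ← Category.assoc]
    refine h3.symm.trans ?_
    rw [hm]
    rfl

end Inv

section Refine

variable {X S X' : Scheme.{u}} {p : X ⟶ S} (D : Desc.SchDD p) (g : X' ⟶ X)
  [Flat g] [Surjective g] [LocallyOfFinitePresentation g]
  (p' : X' ⟶ S) (w : g ≫ p = p' ≫ 𝟙 S)

include w in
lemma p'_eq : p' = g ≫ p := by rw [w, Category.comp_id]

local notation "D'" => pullDD D g (𝟙 S) p' w
local notation "prV" => pr D g (𝟙 S) p' w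

/-- A descent datum which becomes effective after refining the cover along a flat surjective
morphism locally of finite presentation is effective. -/
theorem effective_of_refinement (U : Over S)
    (e : (Desc.toDD p').obj U ≅ pullDD D g (𝟙 S) p' w) :
    Nonempty ((Desc.toDD p).obj U ≅ D) := by
  obtain ⟨q', sq', hq'⟩ := exists_invariant_of_iso D' U e
  have hp' : p' = g ≫ p := p'_eq g p' w
  have hpp : ∀ {Z : Scheme.{u}} (k : Z ⟶ X'), k ≫ p' = (k ≫ g) ≫ p := fun k => by
    rw [Category.assoc, ← hp']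
  have sqV : IsPullback prV (D').obj.hom D.obj.hom g := isPullback_pr D g (𝟙 S) p' w
  have hprV_flat : Flat prV := MorphismProperty.of_isPullback (P := @Flat) sqV.flip inferInstance
  have hprV_surj : Surjective prV :=
    MorphismProperty.of_isPullback (P := @Surjective) sqV.flip inferInstance
  have hprV_lfp : LocallyOfFinitePresentation prV :=
    MorphismProperty.of_isPullback (P := @LocallyOfFinitePresentation) sqV.flip inferInstance
  have hEE : EffectiveEpi prV := inferInstance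
  have hepi : Epi prV := inferInstance
  -- descending `q'`
  have hcompat : ∀ {Z : Scheme.{u}} (a b : Z ⟶ (D').obj.left),
      a ≫ prV = b ≫ prV → a ≫ q' = b ≫ q' := by
    intro Z a b hab
    have e0 : (a ≫ (D').obj.hom) ≫ g = (b ≫ (D').obj.hom) ≫ g := by
      rw [Category.assoc, Category.assoc, ← sqV.w, ← Category.assoc, hab, Category.assoc]
    have h : (a ≫ (D').obj.hom) ≫ p' = (b ≫ (D').obj.hom) ≫ p' := by
      rw [hpp, hpp, e0]
    have htr : tr D' (b ≫ (D').obj.hom) a h = b := by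
      apply sqV.hom_ext
      · rw [tr_pullDD_pr]
        have e1 : (b ≫ (D').obj.hom) ≫ g = (a ≫ prV) ≫ D.obj.hom := by
          rw [← e0, Category.assoc, Category.assoc, sqV.w]
        rw [tr_eq D e1 rfl _ rfl]
        rw [tr_self D _ _ rfl, hab]
      · exact tr_hom _ _ _ _
    have := hq' _ a h
    rw [htr] at this
    exact this.symm
  obtain ⟨q, hq⟩ : ∃ q : D.obj.left ⟶ U.left, prV ≫ q = q' :=
    ⟨EffectiveEpi.desc prV q' (fun a b hab => hcompat a b hab), EffectiveEpi.fac _ _ _⟩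
  have hw : D.obj.hom ≫ p = q ≫ U.hom := by
    rw [← cancel_epi prV, ← Category.assoc, sqV.w, ← Category.assoc, hq, ← sq'.w, hpp]
  -- the comparison morphism
  obtain ⟨H, hH⟩ : ∃ H : D.obj.left ⟶ pullback p U.hom, H = pullback.lift D.obj.hom q hw :=
    ⟨_, rfl⟩
  have hH1 : H ≫ pullback.fst p U.hom = D.obj.hom := by rw [hH, pullback.lift_fst]
  have hH2 : H ≫ pullback.snd p U.hom = q := by rw [hH, pullback.lift_snd]
  obtain ⟨gP, hgP⟩ : ∃ gP : pullback p' U.hom ⟶ pullback p U.hom,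
      gP = pullback.map p' U.hom p U.hom g (𝟙 _) (𝟙 S) (by rw [w]) (by simp) := ⟨_, rfl⟩
  have hgP1 : gP ≫ pullback.fst p U.hom = pullback.fst p' U.hom ≫ g := by
    rw [hgP]; simp only [pullback.map]; exact pullback.lift_fst _ _ _
  have hgP2 : gP ≫ pullback.snd p U.hom = pullback.snd p' U.hom := by
    rw [hgP]; simp only [pullback.map, Category.comp_id]; exact pullback.lift_snd _ _ _
  have sqR : IsPullback gP (pullback.fst p' U.hom) (pullback.fst p U.hom) g := by
    refine IsPullback.of_right ?_ hgP1 (IsPullback.of_hasPullback p U.hom).flip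
    rw [hgP2]
    have := (IsPullback.of_hasPullback p' U.hom).flip
    rw [hp'] at this ⊢
    exact this
  obtain ⟨H', hH'⟩ : ∃ H' : (D').obj.left ⟶ pullback p' U.hom,
      H' = sq'.isoPullback.hom := ⟨_, rfl⟩
  have hH'1 : H' ≫ pullback.fst p' U.hom = (D').obj.hom := by
    rw [hH']; exact sq'.isoPullback_hom_fst
  have hH'2 : H' ≫ pullback.snd p' U.hom = q' := by
    rw [hH']; exact sq'.isoPullback_hom_snd
  have hH'iso : IsIso H' := by rw [hH']; infer_instance
  have hcomm : H' ≫ gP = prV ≫ H := by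
    apply pullback.hom_ext
    · rw [Category.assoc, hgP1, ← Category.assoc, hH'1, Category.assoc, hH1, sqV.w]
    · rw [Category.assoc, hgP2, hH'2, Category.assoc, hH2, hq]
  have sqL : IsPullback H' prV gP H := by
    refine IsPullback.of_right ?_ hcomm sqR.flip
    rw [hH'1, hH1]
    exact sqV.flip
  have hgPQ : (@Surjective ⊓ @Flat ⊓ @LocallyOfFinitePresentation : MorphismProperty Scheme.{u})
      gP :=
    ⟨⟨MorphismProperty.of_isPullback (P := @Surjective) sqR.flip inferInstance,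
      MorphismProperty.of_isPullback (P := @Flat) sqR.flip inferInstance⟩,
      MorphismProperty.of_isPullback (P := @LocallyOfFinitePresentation) sqR.flip inferInstance⟩
  have hHiso : IsIso H :=
    MorphismProperty.of_isPullback_of_descendsAlong (P := MorphismProperty.isomorphisms Scheme.{u})
      (Q := @Surjective ⊓ @Flat ⊓ @LocallyOfFinitePresentation) sqL hgPQ hH'iso
  have sq : IsPullback D.obj.hom q p U.hom :=
    IsPullback.of_iso_pullback ⟨hw⟩ (asIso H) hH1 hH2
  -- invariance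
  refine nonempty_iso_of_invariant D U q sq ?_
  intro T x₁ v h
  obtain ⟨r₀, hr₀⟩ : ∃ r₀ : pullback (v ≫ D.obj.hom) g ⟶ T, r₀ = pullback.fst _ _ := ⟨_, rfl⟩
  obtain ⟨x₀', hx₀'⟩ : ∃ x₀' : pullback (v ≫ D.obj.hom) g ⟶ X', x₀' = pullback.snd _ _ :=
    ⟨_, rfl⟩
  have c₀ : r₀ ≫ v ≫ D.obj.hom = x₀' ≫ g := by rw [hr₀, hx₀']; exact pullback.condition
  have hr₀epi : Epi r₀ := by
    rw [hr₀]
    have : EffectiveEpi (pullback.fst (v ≫ D.obj.hom) g) := inferInstance
    infer_instance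
  obtain ⟨r₁, hr₁⟩ : ∃ r₁ : pullback (r₀ ≫ x₁) g ⟶ pullback (v ≫ D.obj.hom) g,
      r₁ = pullback.fst _ _ := ⟨_, rfl⟩
  obtain ⟨x₁', hx₁'⟩ : ∃ x₁' : pullback (r₀ ≫ x₁) g ⟶ X', x₁' = pullback.snd _ _ := ⟨_, rfl⟩
  have c₁ : r₁ ≫ r₀ ≫ x₁ = x₁' ≫ g := by rw [hr₁, hx₁']; exact pullback.condition
  have hr₁epi : Epi r₁ := by
    rw [hr₁]
    have : EffectiveEpi (pullback.fst (r₀ ≫ x₁) g) := inferInstance
    infer_instance
  have hrepi : Epi (r₁ ≫ r₀) := epi_comp _ _
  have cv : ((r₁ ≫ r₀) ≫ v) ≫ D.obj.hom = (r₁ ≫ x₀') ≫ g := by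
    simp only [Category.assoc]; rw [c₀]
  obtain ⟨v', hv'1, hv'2⟩ : ∃ v' : pullback (r₀ ≫ x₁) g ⟶ (D').obj.left,
      v' ≫ prV = (r₁ ≫ r₀) ≫ v ∧ v' ≫ (D').obj.hom = r₁ ≫ x₀' :=
    ⟨sqV.lift _ _ cv, sqV.lift_fst _ _ cv, sqV.lift_snd _ _ cv⟩
  have e1 : x₁' ≫ g = (r₁ ≫ r₀) ≫ x₁ := by rw [Category.assoc, c₁]
  have h' : (v' ≫ (D').obj.hom) ≫ p' = x₁' ≫ p' := by
    rw [hpp, hpp, hv'2, e1, ← cv]
    simp only [Category.assoc] at h ⊢
    rw [h]
  have key := hq' x₁' v' h'
  rw [← hq, ← Category.assoc, ← Category.assoc, hv'1, tr_pullDD_pr] at key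
  rw [tr_eq D e1 hv'1 _ (by
    simp only [Category.assoc] at h ⊢
    rw [h])] at key
  rw [← comp_tr D (r₁ ≫ r₀) x₁ v h] at key
  rw [← cancel_epi (r₁ ≫ r₀)]
  simpa only [Category.assoc] using key

end Refine

end Groth.Agent.Lib.Helper15DescRefine
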