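-- helper15: a descent datum for schemes whose restriction over an open of the base is effective has an effective chart.
import Mathlib
import Groth.Prelude.Def_Desc
import Groth.Prelude.Def_DescFam
import Groth.Agent.Lib.Helper15AffDescCore
import Groth.Agent.Lib.Helper15DescRefine

set_option autoImplicit false
set_option linter.unusedSectionVars false
open CategoryTheory CategoryTheory.Limits AlgebraicGeometry

universe u

namespace Groth.Agent.Lib.Helper15DescRestrict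

open Desc Groth.Agent.Lib.Helper15AffDescCore Groth.Agent.Lib.Helper15DescRefine

variable {X S X' S' : Scheme.{u}} {p : X ⟶ S} (D : Desc.SchDD p)
  (g : X' ⟶ X) (j : S' ⟶ S) (p' : X' ⟶ S') (sq : IsPullback g p' p j) [IsOpenImmersion j]

local notation "D'" => pullDD D g j p' sq.w
local notation "prV" => pr D g j p' sq.w

/-- A descent datum whose restriction over an open of the base is effective has an effective
chart. -/
theorem exists_chart_of_restrict (U' : Over S') (e : (Desc.toDD p').obj U' ≅ D') :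
    ∃ c : (Desc.toDD p).obj (Over.mk (U'.hom ≫ j)) ⟶ D, IsOpenImmersion c.hom.left ∧
      ∀ v : D.obj.left, D.obj.hom.base v ∈ Set.range g.base → v ∈ Set.range c.hom.left.base := by
  have hjmono : Mono j := inferInstance
  have hg : IsOpenImmersion g := MorphismProperty.of_isPullback (P := @IsOpenImmersion) sq.flip
    inferInstance
  have sqV : IsPullback prV (D').obj.hom D.obj.hom g := isPullback_pr D g j p' sq.w
  have hprV : IsOpenImmersion prV :=
    MorphismProperty.of_isPullback (P := @IsOpenImmersion) sqV.flip hg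
  -- the identification of the two fibre products
  have hκc : (pullback.fst p (U'.hom ≫ j)) ≫ p = (pullback.snd p (U'.hom ≫ j) ≫ U'.hom) ≫ j := by
    rw [Category.assoc]; exact pullback.condition
  obtain ⟨κ₁, hκ₁g, hκ₁p⟩ : ∃ κ₁ : pullback p (U'.hom ≫ j) ⟶ X',
      κ₁ ≫ g = pullback.fst p (U'.hom ≫ j) ∧ κ₁ ≫ p' = pullback.snd p (U'.hom ≫ j) ≫ U'.hom :=
    ⟨sq.lift _ _ hκc, sq.lift_fst _ _ hκc, sq.lift_snd _ _ hκc⟩
  obtain ⟨κ, hκ1, hκ2⟩ : ∃ κ : pullback p (U'.hom ≫ j) ⟶ pullback p' U'.hom,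
      κ ≫ pullback.fst p' U'.hom = κ₁ ∧
      κ ≫ pullback.snd p' U'.hom = pullback.snd p (U'.hom ≫ j) :=
    ⟨pullback.lift κ₁ (pullback.snd p (U'.hom ≫ j)) hκ₁p, pullback.lift_fst _ _ _,
      pullback.lift_snd _ _ _⟩
  have hκ'c : (pullback.fst p' U'.hom ≫ g) ≫ p = pullback.snd p' U'.hom ≫ U'.hom ≫ j := by
    rw [Category.assoc, sq.w, ← Category.assoc, pullback.condition, Category.assoc]
  obtain ⟨κ', hκ'1, hκ'2⟩ : ∃ κ' : pullback p' U'.hom ⟶ pullback p (U'.hom ≫ j),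
      κ' ≫ pullback.fst p (U'.hom ≫ j) = pullback.fst p' U'.hom ≫ g ∧
      κ' ≫ pullback.snd p (U'.hom ≫ j) = pullback.snd p' U'.hom :=
    ⟨pullback.lift _ _ hκ'c, pullback.lift_fst _ _ _, pullback.lift_snd _ _ _⟩
  have hκκ' : κ ≫ κ' = 𝟙 _ := by
    apply pullback.hom_ext
    · rw [Category.assoc, hκ'1, ← Category.assoc, hκ1, hκ₁g, Category.id_comp]
    · rw [Category.assoc, hκ'2, hκ2, Category.id_comp]
  have hκ'κ : κ' ≫ κ = 𝟙 _ := by
    apply pullback.hom_ext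
    · rw [Category.assoc, hκ1, Category.id_comp]
      have : Mono g := inferInstance
      rw [← cancel_mono g, Category.assoc, hκ₁g, hκ'1]
    · rw [Category.assoc, hκ2, hκ'2, Category.id_comp]
  have hκiso : IsIso κ := ⟨κ', hκκ', hκ'κ⟩
  obtain ⟨m, hm⟩ : ∃ m : pullback p' U'.hom ⟶ (D').obj.left, m = e.hom.hom.left := ⟨_, rfl⟩
  obtain ⟨m', hm'⟩ : ∃ m' : (D').obj.left ⟶ pullback p' U'.hom, m' = e.inv.hom.left := ⟨_, rfl⟩
  have hmm' : m ≫ m' = 𝟙 _ := by
    rw [hm, hm']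
    exact congrArg (fun Φ : (Desc.toDD p').obj U' ⟶ (Desc.toDD p').obj U' => Φ.hom.left)
      e.hom_inv_id
  have hm'm : m' ≫ m = 𝟙 _ := by
    rw [hm, hm']
    exact congrArg (fun Φ : D' ⟶ D' => Φ.hom.left) e.inv_hom_id
  have hmiso : IsIso m := ⟨m', hmm', hm'm⟩
  have hmfst : m ≫ (D').obj.hom = pullback.fst p' U'.hom := by
    rw [hm]; exact Over.w e.hom.hom
  obtain ⟨G, hG⟩ : ∃ G : pullback p (U'.hom ≫ j) ⟶ D.obj.left, G = κ ≫ m ≫ prV := ⟨_, rfl⟩
  have hGoi : IsOpenImmersion G := by rw [hG]; infer_instance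
  have hGπ : G ≫ D.obj.hom = pullback.fst p (U'.hom ≫ j) := by
    rw [hG, Category.assoc, Category.assoc, sqV.w, ← Category.assoc m, hmfst, ← Category.assoc,
      hκ1, hκ₁g]
  refine ⟨⟨Over.homMk G hGπ, ?_⟩, hGoi, ?_⟩
  · intro T x₀ x₁ h v₀ w₀ hw₀
    obtain ⟨vold, hvx'⟩ := v₀
    obtain ⟨w₁, hw₁⟩ := w₀
    obtain ⟨v, hv⟩ : ∃ v : T ⟶ pullback p (U'.hom ≫ j), v = vold := ⟨_, rfl⟩
    subst hv
    change w₁ = v ≫ G at hw₀
    have hvx : v ≫ pullback.fst p (U'.hom ≫ j) = x₀ := hvx'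
    change (D.φ x₀ x₁ h ⟨w₁, hw₁⟩).1 =
      (canMap p (Over.mk (U'.hom ≫ j)) x₀ x₁ h ⟨v, hvx'⟩).1 ≫ G
    rw [canMap_val, φ_eq_tr]
    change tr D x₁ w₁ _ = pullback.lift x₁ (v ≫ pullback.snd p (U'.hom ≫ j)) _ ≫ G
    -- lifting the points to `X'`
    have c₀ : x₀ ≫ p = ((v ≫ pullback.snd p (U'.hom ≫ j)) ≫ U'.hom) ≫ j := by
      rw [← hvx]
      simp only [Category.assoc]
      rw [pullback.condition]
    obtain ⟨x₀', hx₀'g, hx₀'p⟩ : ∃ x₀' : T ⟶ X', x₀' ≫ g = x₀ ∧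
        x₀' ≫ p' = (v ≫ pullback.snd p (U'.hom ≫ j)) ≫ U'.hom :=
      ⟨sq.lift _ _ c₀, sq.lift_fst _ _ c₀, sq.lift_snd _ _ c₀⟩
    have c₁ : x₁ ≫ p = ((v ≫ pullback.snd p (U'.hom ≫ j)) ≫ U'.hom) ≫ j := by rw [← h, c₀]
    obtain ⟨x₁', hx₁'g, hx₁'p⟩ : ∃ x₁' : T ⟶ X', x₁' ≫ g = x₁ ∧
        x₁' ≫ p' = (v ≫ pullback.snd p (U'.hom ≫ j)) ≫ U'.hom :=
      ⟨sq.lift _ _ c₁, sq.lift_fst _ _ c₁, sq.lift_snd _ _ c₁⟩
    have h' : x₀' ≫ p' = x₁' ≫ p' := by rw [hx₀'p, hx₁'p]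
    have hvκ : (v ≫ κ) ≫ pullback.fst p' U'.hom = x₀' := by
      have : Mono g := inferInstance
      rw [← cancel_mono g]
      calc ((v ≫ κ) ≫ pullback.fst p' U'.hom) ≫ g
          = v ≫ (κ ≫ pullback.fst p' U'.hom) ≫ g := by simp only [Category.assoc]
        _ = x₀' ≫ g := by rw [hκ1, hκ₁g, hvx, hx₀'g]
    have hcomm := e.hom.comm x₀' x₁' h' ⟨v ≫ κ, hvκ⟩ (e.hom.push ⟨v ≫ κ, hvκ⟩) rfl
    change ((D').φ x₀' x₁' h' (e.hom.push ⟨v ≫ κ, hvκ⟩)).1 =
      (canMap p' U' x₀' x₁' h' ⟨v ≫ κ, hvκ⟩).1 ≫ e.hom.hom.left at hcomm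
    rw [canMap_val, φ_eq_tr, ← hm] at hcomm
    have hpush : (e.hom.push ⟨v ≫ κ, hvκ⟩).1 = (v ≫ κ) ≫ m := by rw [hm]; rfl
    have hcomm' := congrArg (fun k => k ≫ prV) hcomm
    simp only [] at hcomm'
    rw [tr_pullDD_pr] at hcomm'
    have e2 : pullback.lift x₁' ((v ≫ κ) ≫ pullback.snd p' U'.hom) (by
        rw [hx₁'p]; congr 1; rw [Category.assoc, hκ2]) =
        pullback.lift x₁ (v ≫ pullback.snd p (U'.hom ≫ j)) (by rw [c₁, Category.assoc, Category.assoc]) ≫ κ := by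
      apply pullback.hom_ext
      · rw [pullback.lift_fst, Category.assoc, hκ1]
        have : Mono g := inferInstance
        rw [← cancel_mono g, Category.assoc, hκ₁g, pullback.lift_fst, hx₁'g]
      · simp only [pullback.lift_snd, Category.assoc, hκ2]
    rw [e2] at hcomm'
    rw [hG]
    simp only [Category.assoc] at hcomm' ⊢
    rw [← hcomm']
    apply tr_eq D hx₁'g.symm
    rw [hw₀, hG, hpush]
    simp only [Category.assoc]
  · intro v hv
    have hr : Set.range (prV).base = D.obj.hom.base ⁻¹' Set.range g.base := by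
      have := Scheme.Pullback.range_fst D.obj.hom g
      exact this
    have hv' : v ∈ Set.range (prV).base := by rw [hr]; exact hv
    obtain ⟨y, hy⟩ := hv'
    refine ⟨(inv κ).base ((inv m).base y), ?_⟩
    change G.base _ = v
    rw [hG, ← Scheme.Hom.comp_apply, ← Scheme.Hom.comp_apply]
    simp only [IsIso.inv_hom_id_assoc]
    exact hy

end Groth.Agent.Lib.Helper15DescRestrict
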