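-- helper15: effectivity of descent data for schemes with a base-change-stable property reduces to the case of a flat surjective morphism of affine schemes.
import Mathlib
import Groth.Prelude.Def_Desc
import Groth.Prelude.Def_DescFam
import Groth.Agent.Lib.Helper15DescGlueC
import Groth.Agent.Lib.Helper15DescRefine
import Groth.Agent.Lib.Helper15DescRestrict

set_option autoImplicit false
set_option linter.unusedSectionVars false
open CategoryTheory CategoryTheory.Limits AlgebraicGeometry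

universe u

namespace Groth.Agent.Lib.Helper15DescReduce

open Desc Groth.Agent.Lib.Helper15DescRefine Groth.Agent.Lib.Helper15DescRestrict

/-- effectivity over an affine base with quasi-compact cover, from the affine case. -/
theorem effective_of_affine_base (P : MorphismProperty Scheme.{u}) [P.IsStableUnderBaseChange]
    (h3 : ∀ (X S : Scheme.{u}) (p : X ⟶ S), IsAffine X → IsAffine S → Flat p → Surjective p →
      ∀ D : Desc.SchDD p, P D.obj.hom → ∃ U : Over S, Nonempty ((Desc.toDD p).obj U ≅ D))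
    {X S : Scheme.{u}} (p : X ⟶ S) [Surjective p] [Flat p] [IsAffine S] [CompactSpace X]
    (D : Desc.SchDD p) (hD : P D.obj.hom) : ∃ U : Over S, Nonempty ((Desc.toDD p).obj U ≅ D) := by
  obtain ⟨𝒰, h𝒰⟩ : ∃ 𝒰 : X.OpenCover, 𝒰 = X.affineCover.finiteSubcover := ⟨_, rfl⟩
  have hfin : Finite 𝒰.I₀ := by rw [h𝒰]; infer_instance
  have haff : ∀ i, IsAffine (𝒰.X i) := by
    rw [h𝒰]; intro i
    change IsAffine (X.affineCover.X _)
    infer_instance
  obtain ⟨g, hg⟩ : ∃ g : (∐ 𝒰.X) ⟶ X, g = Sigma.desc 𝒰.f := ⟨_, rfl⟩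
  have hgflat : Flat g := by
    rw [hg]; exact IsZariskiLocalAtSource.sigmaDesc (P := @Flat) (fun i => inferInstance)
  have hglfp : LocallyOfFinitePresentation g := by
    rw [hg]
    exact IsZariskiLocalAtSource.sigmaDesc (P := @LocallyOfFinitePresentation)
      (fun i => inferInstance)
  have hgsurj : Surjective g := by
    refine ⟨fun x => ?_⟩
    obtain ⟨i, y, hy⟩ := 𝒰.exists_eq x
    refine ⟨(Sigma.ι 𝒰.X i).base y, ?_⟩
    rw [hg, ← Scheme.Hom.comp_apply, Sigma.ι_desc]
    exact hy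
  have hXaff : IsAffine (∐ 𝒰.X) := inferInstance
  have w : g ≫ p = (g ≫ p) ≫ 𝟙 S := (Category.comp_id _).symm
  have hP' : P (pullDD D g (𝟙 S) (g ≫ p) w).obj.hom := by
    change P (pullback.snd D.obj.hom g)
    exact P.pullback_snd _ _ hD
  obtain ⟨U, ⟨e⟩⟩ := h3 _ _ (g ≫ p) hXaff inferInstance inferInstance inferInstance
    (pullDD D g (𝟙 S) (g ≫ p) w) hP'
  exact ⟨U, effective_of_refinement D g (g ≫ p) w U e⟩

/-- effectivity of descent data with a property of morphisms, from the case of a flat surjective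
morphism of affine schemes. -/
theorem effective_of_affine_case (P : MorphismProperty Scheme.{u}) [P.IsStableUnderBaseChange]
    (h3 : ∀ (X S : Scheme.{u}) (p : X ⟶ S), IsAffine X → IsAffine S → Flat p → Surjective p →
      ∀ D : Desc.SchDD p, P D.obj.hom → ∃ U : Over S, Nonempty ((Desc.toDD p).obj U ≅ D))
    {X S : Scheme.{u}} (p : X ⟶ S) [Surjective p] [Flat p] [QuasiCompact p]
    (D : Desc.SchDD p) (hD : P D.obj.hom) : ∃ U : Over S, Nonempty ((Desc.toDD p).obj U ≅ D) := by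
  have hchart : ∀ v : D.obj.left, ∃ (U : Over S) (c : (Desc.toDD p).obj U ⟶ D),
      IsOpenImmersion c.hom.left ∧ v ∈ Set.range c.hom.left.base := by
    intro v
    obtain ⟨S₀, hS₀, hv⟩ : ∃ S₀ : S.Opens, IsAffineOpen S₀ ∧ (D.obj.hom ≫ p).base v ∈ S₀ := by
      obtain ⟨_, ⟨S₀, hS₀, rfl⟩, hv, -⟩ :=
        (S.isBasis_affineOpens).exists_subset_of_mem_open (Set.mem_univ ((D.obj.hom ≫ p).base v))
          isOpen_univ
      exact ⟨S₀, hS₀, hv⟩
    have sq : IsPullback (p ⁻¹ᵁ S₀).ι (p ∣_ S₀) p S₀.ι := (isPullback_morphismRestrict p S₀).flip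
    have hS₀aff : IsAffine (S₀ : Scheme.{u}) := hS₀
    have hp₀surj : Surjective (p ∣_ S₀) :=
      MorphismProperty.of_isPullback (P := @Surjective) sq inferInstance
    have hp₀flat : Flat (p ∣_ S₀) := MorphismProperty.of_isPullback (P := @Flat) sq inferInstance
    have hcomp : CompactSpace ((p ⁻¹ᵁ S₀ : X.Opens) : Scheme.{u}) :=
      isCompact_iff_compactSpace.mp (QuasiCompact.isCompact_preimage (f := p) _ S₀.2 hS₀.isCompact)
    have hP₀ : P (pullDD D (p ⁻¹ᵁ S₀).ι S₀.ι (p ∣_ S₀) sq.w).obj.hom := by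
      change P (pullback.snd D.obj.hom (p ⁻¹ᵁ S₀).ι)
      exact P.pullback_snd _ _ hD
    obtain ⟨U₀, ⟨e₀⟩⟩ := effective_of_affine_base P h3 (p ∣_ S₀)
      (pullDD D (p ⁻¹ᵁ S₀).ι S₀.ι (p ∣_ S₀) sq.w) hP₀
    obtain ⟨c, hc, hcv⟩ := exists_chart_of_restrict D (p ⁻¹ᵁ S₀).ι S₀.ι (p ∣_ S₀) sq U₀ e₀
    refine ⟨_, c, hc, hcv v ?_⟩
    rw [Scheme.Opens.range_ι]
    exact hv
  choose Uo c hc hcv using hchart
  exact Groth.Agent.Lib.Helper15DescGlueC.exists_effective c (fun v => ⟨v, hcv v⟩)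

end Groth.Agent.Lib.Helper15DescReduce
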