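-- helper15: effectivity of descent data is local on the base; descent data along universally injective fpqc morphisms are effective.
import Mathlib
import Groth.Prelude.Def_Desc
import Groth.Agent.Lib.Helper15DescStable
import Groth.Agent.Lib.Helper15DescReduce
import Groth.Agent.S1133

set_option autoImplicit false
set_option linter.unusedSectionVars false
open CategoryTheory CategoryTheory.Limits AlgebraicGeometry

universe u

namespace Groth.Agent.Lib.Helper15DescUInj

open Desc Groth.Agent.Lib.Helper15DescGlueA Groth.Agent.Lib.Helper15DescStable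
  Groth.Agent.Lib.Helper15DescRefine Groth.Agent.Lib.Helper15DescRestrict

/-- effectivity of a descent datum is local on the base. -/
theorem effective_of_local_base {X S : Scheme.{u}} (p : X ⟶ S) [Surjective p] [Flat p]
    [QuasiCompact p] (D : Desc.SchDD p)
    (H : ∀ (S₀ : S.Opens), IsAffineOpen S₀ →
      ∃ U₀ : Over (S₀ : Scheme.{u}), Nonempty ((Desc.toDD (p ∣_ S₀)).obj U₀ ≅
        pullDD D (p ⁻¹ᵁ S₀).ι S₀.ι (p ∣_ S₀) (isPullback_morphismRestrict p S₀).flip.w)) :
    ∃ U : Over S, Nonempty ((Desc.toDD p).obj U ≅ D) := by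
  have hchart : ∀ v : D.obj.left, ∃ (U : Over S) (c : (Desc.toDD p).obj U ⟶ D),
      IsOpenImmersion c.hom.left ∧ v ∈ Set.range c.hom.left.base := by
    intro v
    obtain ⟨S₀, hS₀, hv⟩ : ∃ S₀ : S.Opens, IsAffineOpen S₀ ∧ (D.obj.hom ≫ p).base v ∈ S₀ := by
      obtain ⟨_, ⟨S₀, hS₀, rfl⟩, hv, -⟩ :=
        (S.isBasis_affineOpens).exists_subset_of_mem_open (Set.mem_univ ((D.obj.hom ≫ p).base v))
          isOpen_univ
      exact ⟨S₀, hS₀, hv⟩
    have sq : IsPullback (p ⁻¹ᵁ S₀).ι (p ∣_ S₀) p S₀.ι := (isPullback_morphismRestrict p S₀).flip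
    obtain ⟨U₀, ⟨e₀⟩⟩ := H S₀ hS₀
    obtain ⟨c, hc, hcv⟩ := exists_chart_of_restrict D (p ⁻¹ᵁ S₀).ι S₀.ι (p ∣_ S₀) sq U₀ e₀
    refine ⟨_, c, hc, hcv v ?_⟩
    rw [Scheme.Opens.range_ι]
    exact hv
  choose Uo c hc hcv using hchart
  exact Groth.Agent.Lib.Helper15DescGlueC.exists_effective c (fun v => ⟨v, hcv v⟩)

variable {X S : Scheme.{u}} {p : X ⟶ S}

/-- composing an isomorphism of descent data with an open immersion of descent data. -/
lemma chart_of_iso {D' D : Desc.SchDD p} (U : Over S) (e : (Desc.toDD p).obj U ≅ D')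
    (ι : D' ⟶ D) [IsOpenImmersion ι.hom.left] :
    IsOpenImmersion (e.hom ≫ ι).hom.left ∧
      Set.range (e.hom ≫ ι).hom.left.base = Set.range ι.hom.left.base := by
  have hiso : IsIso e.hom.hom.left := by
    refine ⟨e.inv.hom.left, ?_, ?_⟩
    · have h1 : (e.hom ≫ e.inv).hom.left = (𝟙 ((Desc.toDD p).obj U) : _ ⟶ _).hom.left := by
        rw [e.hom_inv_id]
      exact h1
    · have h1 : (e.inv ≫ e.hom).hom.left = (𝟙 D' : _ ⟶ _).hom.left := by
        rw [e.inv_hom_id]
      exact h1
  have hcl : (e.hom ≫ ι).hom.left = e.hom.hom.left ≫ ι.hom.left := rfl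
  refine ⟨by rw [hcl]; infer_instance, ?_⟩
  rw [hcl, Scheme.Hom.comp_base, TopCat.coe_comp, Set.range_comp,
    Set.range_eq_univ.mpr e.hom.hom.left.surjective, Set.image_univ]

/-- for a universally injective morphism, the gluing bijections do not move points. -/
lemma φ_base_eq [UniversallyInjective p] (D : Desc.SchDD p) {T : Scheme.{u}} (x₀ x₁ : T ⟶ X)
    (h : x₀ ≫ p = x₁ ≫ p) (v : Lifts D.obj x₀) (t : T) :
    (D.φ x₀ x₁ h v).1.base t = v.1.base t := by
  obtain ⟨g, hg⟩ : ∃ g : Spec (.of (T.residueField t)) ⟶ T, g = T.fromSpecResidueField t :=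
    ⟨_, rfl⟩
  have hinj : ∀ (K : Type u) [Field K],
      Function.Injective (fun g : Spec (.of K) ⟶ X ↦ g ≫ p) :=
    ((tfae_universallyInjective p).out 0 1).mp ‹UniversallyInjective p›
  have e : g ≫ x₀ = g ≫ x₁ := by
    apply hinj (T.residueField t)
    change (g ≫ x₀) ≫ p = (g ≫ x₁) ≫ p
    rw [Category.assoc, Category.assoc, h]
  have h' : (g ≫ x₀) ≫ p = (g ≫ x₁) ≫ p := by rw [e]
  have h1 := D.φ_natural g x₀ x₁ h h' v ⟨g ≫ v.1, by rw [Category.assoc, v.2]⟩ rfl
  have h2 : (D.φ (g ≫ x₀) (g ≫ x₁) h' ⟨g ≫ v.1, by rw [Category.assoc, v.2]⟩).1 = g ≫ v.1 := by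
    have key : ∀ (y : Spec (.of (T.residueField t)) ⟶ X) (ey : g ≫ x₀ = y)
        (hy : (g ≫ x₀) ≫ p = y ≫ p),
        (D.φ (g ≫ x₀) y hy ⟨g ≫ v.1, by rw [Category.assoc, v.2]⟩).1 = g ≫ v.1 := by
      intro y ey hy
      subst ey
      exact congrArg Subtype.val (D.φ_self (g ≫ x₀) _)
    exact key _ e h'
  have h3 : g ≫ (D.φ x₀ x₁ h v).1 = g ≫ v.1 := by rw [← h1, h2]
  have h4 := congrArg (fun a => a.base (IsLocalRing.closedPoint (T.residueField t))) h3
  simp only [Scheme.Hom.comp_base, TopCat.comp_app] at h4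
  rw [hg, Scheme.fromSpecResidueField_apply] at h4
  exact h4

/-- for a universally injective morphism, every open subscheme is stable. -/
lemma stable_of_universallyInjective [UniversallyInjective p] (D : Desc.SchDD p)
    (W : D.obj.left.Opens) : Stable D W := by
  intro T x₀ x₁ h v hv
  rintro _ ⟨t, rfl⟩
  rw [φ_base_eq D x₀ x₁ h v t]
  exact hv ⟨t, rfl⟩

/-- a universally injective morphism is separated. -/
lemma isSeparated_of_universallyInjective (p : X ⟶ S) [UniversallyInjective p] :
    IsSeparated p := by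
  have hs : Surjective (pullback.diagonal p) := (UniversallyInjective.iff_diagonal p).mp inferInstance
  refine ⟨IsClosedImmersion.of_isPreimmersion _ ?_⟩
  rw [Set.range_eq_univ.mpr (pullback.diagonal p).surjective]
  exact isClosed_univ

/-- descent data along a quasi-compact flat surjective universally injective morphism to an affine
scheme are effective. -/
theorem effective_of_universallyInjective_of_isAffine (p : X ⟶ S) [Surjective p] [Flat p]
    [QuasiCompact p] [UniversallyInjective p] [IsAffine S] (D : Desc.SchDD p) :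
    ∃ U : Over S, Nonempty ((Desc.toDD p).obj U ≅ D) := by
  have hsep : IsSeparated p := isSeparated_of_universallyInjective p
  have hchart : ∀ v : D.obj.left, ∃ (U : Over S) (c : (Desc.toDD p).obj U ⟶ D),
      IsOpenImmersion c.hom.left ∧ v ∈ Set.range c.hom.left.base := by
    intro v
    obtain ⟨W, hWaff, hvW⟩ : ∃ W : D.obj.left.Opens, IsAffineOpen W ∧ v ∈ W := by
      obtain ⟨_, ⟨W, hW, rfl⟩, hv, -⟩ :=
        (D.obj.left.isBasis_affineOpens).exists_subset_of_mem_open (Set.mem_univ v) isOpen_univ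
      exact ⟨W, hW, hv⟩
    have hW : Stable D W := stable_of_universallyInjective D W
    have hWa : IsAffine (W : Scheme.{u}) := hWaff
    have haff : IsAffineHom (restrictDD D W hW).obj.hom := by
      change IsAffineHom (W.ι ≫ D.obj.hom)
      have h1 : IsAffineHom ((W.ι ≫ D.obj.hom) ≫ p) := inferInstance
      exact IsAffineHom.of_comp (W.ι ≫ D.obj.hom) p
    obtain ⟨U, ⟨e⟩⟩ := Groth.Agent.S1133.result p (restrictDD D W hW)
    have hι : IsOpenImmersion (restrictι D W hW).hom.left := by
      change IsOpenImmersion W.ι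
      infer_instance
    obtain ⟨h1, h2⟩ := chart_of_iso U e (restrictι D W hW)
    refine ⟨U, e.hom ≫ restrictι D W hW, h1, ?_⟩
    rw [h2]
    change v ∈ Set.range W.ι.base
    rw [Scheme.Opens.range_ι]
    exact hvW
  choose Uo c hc hcv using hchart
  exact Groth.Agent.Lib.Helper15DescGlueC.exists_effective c (fun v => ⟨v, hcv v⟩)

/-- descent data along a quasi-compact flat surjective universally injective morphism are
effective. -/
theorem effective_of_universallyInjective (p : X ⟶ S) [Surjective p] [Flat p]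
    [QuasiCompact p] [UniversallyInjective p] (D : Desc.SchDD p) :
    ∃ U : Over S, Nonempty ((Desc.toDD p).obj U ≅ D) := by
  refine effective_of_local_base p D (fun S₀ hS₀ => ?_)
  have sq : IsPullback (p ⁻¹ᵁ S₀).ι (p ∣_ S₀) p S₀.ι := (isPullback_morphismRestrict p S₀).flip
  have hS₀aff : IsAffine (S₀ : Scheme.{u}) := hS₀
  have h1 : Surjective (p ∣_ S₀) :=
    MorphismProperty.of_isPullback (P := @Surjective) sq inferInstance
  have h2 : Flat (p ∣_ S₀) := MorphismProperty.of_isPullback (P := @Flat) sq inferInstance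
  have h3 : QuasiCompact (p ∣_ S₀) :=
    MorphismProperty.of_isPullback (P := @QuasiCompact) sq inferInstance
  have h4 : UniversallyInjective (p ∣_ S₀) :=
    MorphismProperty.of_isPullback (P := @UniversallyInjective) sq inferInstance
  exact effective_of_universallyInjective_of_isAffine (p ∣_ S₀) _

end Groth.Agent.Lib.Helper15DescUInj
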