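-- helper15: separated quasi-finite morphisms are quasi-affine (from the ind-quasi-affine statement).
import Mathlib
import Groth.Prelude.Def_Mor2
import Groth.Agent.S1402

set_option autoImplicit false
open CategoryTheory CategoryTheory.Limits AlgebraicGeometry

universe u

namespace Groth.Agent.Lib.Helper15QFQAff

/-- a separated, locally quasi-finite, quasi-compact morphism locally of finite type is
quasi-affine. -/
theorem isQuasiAffine_of_isSeparated_of_locallyQuasiFinite {X Y : Scheme.{u}} (f : X ⟶ Y)
    [IsSeparated f] [LocallyQuasiFinite f] [LocallyOfFiniteType f] [QuasiCompact f] :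
    Mor2.IsQuasiAffine f := by
  refine ⟨inferInstance, fun V hV => ?_⟩
  have hc : CompactSpace ((f ⁻¹ᵁ V : X.Opens) : Scheme.{u}) :=
    isCompact_iff_compactSpace.mp (QuasiCompact.isCompact_preimage (f := f) _ V.2 hV.isCompact)
  have h : Scheme.IsQuasiAffine ((⊤ : ((f ⁻¹ᵁ V : X.Opens) : Scheme.{u}).Opens) : Scheme.{u}) :=
    Groth.Agent.S1402.result f V hV ⊤ isCompact_univ
  exact Scheme.IsQuasiAffine.of_isAffineHom ((f ⁻¹ᵁ V : X.Opens) : Scheme.{u}).topIso.inv

end Groth.Agent.Lib.Helper15QFQAff
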