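-- helper15: effectivity of descent data for quasi-affine schemes along a flat surjective morphism of affine schemes.
import Mathlib
import Groth.Prelude.Def_Desc
import Groth.Agent.Lib.Helper15AffDescCore
import Groth.Agent.Lib.Helper12AffineDescent

set_option autoImplicit false
open CategoryTheory CategoryTheory.Limits AlgebraicGeometry

universe u

namespace Groth.Agent.Lib.Helper15QAffDescCore

open Desc Groth.Agent.Lib.Helper15AffDescCore

variable {X S : Scheme.{u}} {p : X ⟶ S} (D : Desc.SchDD p)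

section QCQS

variable [IsAffine S] [IsAffine X] [Flat p] [CompactSpace D.obj.left]
  [QuasiSeparatedSpace D.obj.left]

omit [Flat p] [QuasiSeparatedSpace D.obj.left] in
lemma compactSpace_W : CompactSpace (W D) :=
  QuasiCompact.compactSpace_of_compactSpace (w₁ D)

omit [IsAffine S] [Flat p] [CompactSpace D.obj.left] in
lemma quasiSeparatedSpace_W : QuasiSeparatedSpace (W D) :=
  quasiSeparatedSpace_of_quasiSeparated (w₁ D)

lemma isPushout_C0' : IsPushout p.appTop (j D) D.obj.hom.appTop (ι D) := by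
  have hQ : IsPushout p.appTop (p.appTop ≫ D.obj.hom.appTop) (y₁X D).appTop (y₁V D).appTop := by
    have := (Groth.Agent.Lib.Helper12.isPushout_appTop
      (IsPullback.of_hasPullback p (D.obj.hom ≫ p)).flip).flip
    rwa [Scheme.Hom.comp_appTop] at this
  have hR : IsPushout p.appTop ((p.appTop ≫ D.obj.hom.appTop) ≫ (w₁ D).appTop)
      (y₂X D).appTop (y₂W D).appTop := by
    have := compactSpace_W D
    have := quasiSeparatedSpace_W D
    have := (Groth.Agent.Lib.Helper12.isPushout_appTop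
      (IsPullback.of_hasPullback p (w₁ D ≫ D.obj.hom ≫ p)).flip).flip
    rwa [Scheme.Hom.comp_appTop, Scheme.Hom.comp_appTop, ← Category.assoc] at this
  refine Helper15AffDescAlg.isPushout_of_fork p.appTop D.obj.hom.appTop (j D) (ι D) (j_ι D)
    (w₁ D).appTop (ψ D).appTop (hd D) ?_ ?_ (y₁X D).appTop (y₁V D).appTop hQ
    (y₂X D).appTop (y₂W D).appTop hR (e D).appTop (s D).appTop ?_ (a D).appTop (b D).appTop
    ?_ ?_ ?_ ?_ ?_ ?_ ?_ (Scheme.Hom.flat_appTop p)
  · exact Subtype.val_injective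
  · intro c
    constructor
    · intro hc
      exact ⟨⟨c, hc⟩, rfl⟩
    · rintro ⟨c0, rfl⟩
      exact c0.2
  · rw [← Scheme.Hom.comp_appTop, s_e, Scheme.Hom.id_appTop]
  · rw [← Scheme.Hom.comp_appTop, a_X]
  · rw [← Scheme.Hom.comp_appTop, a_V, Scheme.Hom.comp_appTop]
  · rw [← Scheme.Hom.comp_appTop, b_X]
  · rw [← Scheme.Hom.comp_appTop, b_V, Scheme.Hom.comp_appTop]
  · rw [← Scheme.Hom.comp_appTop, ← Scheme.Hom.comp_appTop, a_e]
  · rw [← Scheme.Hom.comp_appTop, e_hom]
  · intro c hc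
    rw [← swap_ψ, Scheme.Hom.comp_appTop, ← swap_w₁, Scheme.Hom.comp_appTop]
    change (swap D).appTop ((ψ D).appTop c) = (swap D).appTop ((w₁ D).appTop c)
    rw [hc]

/-- the affine hull of the scheme of the descent datum, over `X` -/
noncomputable def vbar : Spec Γ(D.obj.left, ⊤) ⟶ X := Spec.map D.obj.hom.appTop ≫ X.isoSpec.inv

omit [IsAffine S] [Flat p] [CompactSpace D.obj.left] [QuasiSeparatedSpace D.obj.left] in
lemma toSpecΓ_vbar : D.obj.left.toSpecΓ ≫ vbar D = D.obj.hom := by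
  rw [vbar, ← Scheme.toSpecΓ_naturality_assoc]
  have : X.toSpecΓ ≫ X.isoSpec.inv = 𝟙 _ := X.isoSpec.hom_inv_id
  rw [this, Category.comp_id]

lemma isPullback_qbar : IsPullback (vbar D) (Spec.map (ι D)) p (U D).hom := by
  have H := isPullback_SpecMap_of_isPushout _ _ _ _ (isPushout_C0' D)
  refine H.of_iso (Iso.refl _) X.isoSpec.symm (Iso.refl _) S.isoSpec.symm ?_ ?_ ?_ ?_
  · exact (Category.id_comp _).symm
  · simp
  · exact Scheme.isoSpec_inv_naturality _
  · exact (Category.id_comp _).symm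

end QCQS


section QAff

variable [IsAffine S] [IsAffine X] [Flat p] [Surjective p] [D.obj.left.IsQuasiAffine]

omit [Surjective p] in
/-- saturation of the open subscheme `V` of its affine hull, with respect to the quotient map. -/
lemma mem_range_of_mem_image (z : Spec Γ(D.obj.left, ⊤))
    (hz : (Spec.map (ι D)).base z ∈
      (Spec.map (ι D)).base '' Set.range D.obj.left.toSpecΓ.base) :
    z ∈ Set.range D.obj.left.toSpecΓ.base := by
  obtain ⟨_, ⟨y, rfl⟩, hzz'⟩ := hz
  have hpb := isPullback_qbar D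
  obtain ⟨t, ht1, ht2⟩ := Scheme.Pullback.exists_preimage_pullback
    (f := Spec.map (ι D)) (g := Spec.map (ι D)) z (D.obj.left.toSpecΓ.base y) hzz'.symm
  obtain ⟨τ, hτ⟩ : ∃ τ, τ = (pullback (Spec.map (ι D)) (Spec.map (ι D))).fromSpecResidueField t :=
    ⟨_, rfl⟩
  obtain ⟨a, ha⟩ : ∃ a, a = τ ≫ pullback.fst (Spec.map (ι D)) (Spec.map (ι D)) := ⟨_, rfl⟩
  obtain ⟨b, hb⟩ : ∃ b, b = τ ≫ pullback.snd (Spec.map (ι D)) (Spec.map (ι D)) := ⟨_, rfl⟩
  have hab : a ≫ Spec.map (ι D) = b ≫ Spec.map (ι D) := by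
    rw [ha, hb, Category.assoc, Category.assoc, pullback.condition]
  have hrb : Set.range b.base ⊆ Set.range D.obj.left.toSpecΓ.base := by
    rw [hb, Scheme.Hom.comp_base, TopCat.coe_comp, Set.range_comp, hτ,
      Scheme.range_fromSpecResidueField, Set.image_singleton, Set.singleton_subset_iff, ht2]
    exact ⟨y, rfl⟩
  obtain ⟨b₀, hb₀⟩ : ∃ b₀ : _ ⟶ D.obj.left, b₀ ≫ D.obj.left.toSpecΓ = b :=
    ⟨IsOpenImmersion.lift D.obj.left.toSpecΓ b hrb, IsOpenImmersion.lift_fac _ _ _⟩
  have h : (b₀ ≫ D.obj.hom) ≫ p = (a ≫ vbar D) ≫ p := by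
    rw [← toSpecΓ_vbar D, ← Category.assoc b₀, hb₀, Category.assoc, Category.assoc, hpb.w,
      ← Category.assoc, ← hab, Category.assoc]
  have hc1 : tr D (a ≫ vbar D) b₀ h ≫ D.obj.hom = a ≫ vbar D := tr_hom D _ _ h
  have hc2 : tr D (a ≫ vbar D) b₀ h ≫ q D = b₀ ≫ q D := tr_q D _ _ h
  have hca : tr D (a ≫ vbar D) b₀ h ≫ D.obj.left.toSpecΓ = a := by
    apply hpb.hom_ext
    · rw [Category.assoc, toSpecΓ_vbar, hc1]
    · have hq : q D = D.obj.left.toSpecΓ ≫ Spec.map (ι D) := rfl
      rw [Category.assoc, ← hq, hc2, hq, ← Category.assoc, hb₀, hab]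
  obtain ⟨s₀⟩ : Nonempty (Spec ((pullback (Spec.map (ι D)) (Spec.map (ι D))).residueField t)) :=
    inferInstance
  refine ⟨(tr D (a ≫ vbar D) b₀ h).base s₀, ?_⟩
  rw [← Scheme.Hom.comp_apply, hca, ha, Scheme.Hom.comp_apply, hτ,
    Scheme.fromSpecResidueField_apply, ht1]

omit [Surjective p] in
lemma flat_qbar : Flat (Spec.map (ι D)) :=
  MorphismProperty.of_isPullback (P := @Flat) (isPullback_qbar D) inferInstance

lemma surjective_qbar : Surjective (Spec.map (ι D)) :=
  MorphismProperty.of_isPullback (P := @Surjective) (isPullback_qbar D) inferInstance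

lemma isOpen_image :
    IsOpen ((Spec.map (ι D)).base '' Set.range D.obj.left.toSpecΓ.base) := by
  have := flat_qbar D
  have := surjective_qbar D
  rw [← (Flat.isQuotientMap_of_surjective (Spec.map (ι D))).isOpen_preimage]
  have e : (Spec.map (ι D)).base ⁻¹' ((Spec.map (ι D)).base '' Set.range D.obj.left.toSpecΓ.base) =
      Set.range D.obj.left.toSpecΓ.base :=
    Set.Subset.antisymm (fun z hz => mem_range_of_mem_image D z hz) (fun z hz => ⟨z, hz, rfl⟩)
  rw [e]
  exact D.obj.left.toSpecΓ.isOpenEmbedding.isOpen_range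

/-- the descended open subscheme of the spectrum of the ring of invariants -/
noncomputable def Ω : (Spec (C0 D)).Opens :=
  ⟨(Spec.map (ι D)).base '' Set.range D.obj.left.toSpecΓ.base, isOpen_image D⟩

lemma range_q_subset : Set.range (q D).base ⊆ Set.range (Ω D).ι.base := by
  rintro _ ⟨y, rfl⟩
  rw [Scheme.Opens.range_ι]
  exact ⟨D.obj.left.toSpecΓ.base y, ⟨y, rfl⟩, rfl⟩

/-- the invariant morphism to the descended scheme -/
noncomputable def qW : D.obj.left ⟶ (Ω D : Scheme.{u}) :=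
  IsOpenImmersion.lift (Ω D).ι (q D) (range_q_subset D)

lemma qW_ι : qW D ≫ (Ω D).ι = q D := IsOpenImmersion.lift_fac _ _ _

/-- the descended scheme -/
noncomputable def UW : Over S := Over.mk ((Ω D).ι ≫ (U D).hom)

lemma isPullback_top : IsPullback D.obj.left.toSpecΓ (qW D) (Spec.map (ι D)) (Ω D).ι := by
  refine ⟨⟨by rw [qW_ι]; rfl⟩, ⟨PullbackCone.IsLimit.mk _ (fun c => IsOpenImmersion.lift
    D.obj.left.toSpecΓ c.fst ?_) (fun c => IsOpenImmersion.lift_fac _ _ _) (fun c => ?_)
    (fun c m hm₁ _ => ?_)⟩⟩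
  · rintro _ ⟨t, rfl⟩
    apply mem_range_of_mem_image D
    have h1 : (Spec.map (ι D)).base (c.fst.base t) = (Ω D).ι.base (c.snd.base t) := by
      rw [← Scheme.Hom.comp_apply, ← Scheme.Hom.comp_apply, c.condition]
    rw [h1]
    have := (c.snd.base t).2
    exact this
  · rw [← cancel_mono (Ω D).ι, Category.assoc, qW_ι]
    have hq : q D = D.obj.left.toSpecΓ ≫ Spec.map (ι D) := rfl
    rw [hq, ← Category.assoc, IsOpenImmersion.lift_fac, c.condition]
  · rw [← cancel_mono D.obj.left.toSpecΓ, hm₁, IsOpenImmersion.lift_fac]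

lemma isPullback_qW : IsPullback D.obj.hom (qW D) p (UW D).hom := by
  have := (isPullback_top D).paste_horiz (isPullback_qbar D)
  rwa [toSpecΓ_vbar] at this

omit [IsAffine S] [IsAffine X] [Flat p] [Surjective p] [D.obj.left.IsQuasiAffine] in
lemma tr_qW [IsAffine S] [IsAffine X] [Flat p] [Surjective p] [D.obj.left.IsQuasiAffine]
    {T : Scheme.{u}} (x₁ : T ⟶ X) (v : T ⟶ D.obj.left)
    (h : (v ≫ D.obj.hom) ≫ p = x₁ ≫ p) : tr D x₁ v h ≫ qW D = v ≫ qW D := by
  rw [← cancel_mono (Ω D).ι, Category.assoc, Category.assoc, qW_ι, tr_q]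

lemma isQuasiAffine_UW : (UW D).left.IsQuasiAffine := by
  have hs : Surjective (qW D) :=
    MorphismProperty.of_isPullback (P := @Surjective) (isPullback_qW D) inferInstance
  have : CompactSpace (Ω D : Scheme.{u}) := (qW D).surjective.compactSpace (qW D).continuous
  change (Ω D : Scheme.{u}).IsQuasiAffine
  have : IsImmersion (Ω D).ι := inferInstance
  exact Scheme.IsQuasiAffine.of_isImmersion (Ω D).ι

/-- Descent data for quasi-affine schemes relative to a flat surjective morphism of affine schemes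
are effective. -/
theorem exists_effective_qaff :
    ∃ U : Over S, U.left.IsQuasiAffine ∧ Nonempty ((Desc.toDD p).obj U ≅ D) :=
  ⟨UW D, isQuasiAffine_UW D,
    nonempty_iso_of_invariant D (UW D) (qW D) (isPullback_qW D) (fun _ x₁ v h => tr_qW D x₁ v h)⟩

end QAff

end Groth.Agent.Lib.Helper15QAffDescCore
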