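-- helper15: separated locally quasi-finite descent data along quasi-compact fppf covers with quasi-separated source are effective.
import Mathlib
import Groth.Prelude.Def_Desc
import Groth.Agent.Lib.Helper15DescSat
import Groth.Agent.Lib.Helper15DescUInj
import Groth.Agent.Lib.Helper15QFQAff
import Groth.Agent.S1134

set_option autoImplicit false
set_option linter.unusedSectionVars false
open CategoryTheory CategoryTheory.Limits AlgebraicGeometry

universe u

namespace Groth.Agent.Lib.Helper15DescQF

open Desc Groth.Agent.Lib.Helper15AffDescCore Groth.Agent.Lib.Helper15DescGlueA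
  Groth.Agent.Lib.Helper15DescStable Groth.Agent.Lib.Helper15DescSat
  Groth.Agent.Lib.Helper15DescUInj

variable {X S : Scheme.{u}} {p : X ⟶ S}

/-- separated locally quasi-finite descent data along a quasi-compact flat finitely presented
cover with quasi-separated source are effective. -/
theorem effective_of_qf_of_quasiCompact [Surjective p] [Flat p] [LocallyOfFinitePresentation p]
    [QuasiCompact p] [QuasiSeparatedSpace X] (D : Desc.SchDD p) [IsSeparated D.obj.hom]
    [LocallyQuasiFinite D.obj.hom] [LocallyOfFiniteType D.obj.hom] :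
    ∃ U : Over S, Nonempty ((Desc.toDD p).obj U ≅ D) := by
  have hchart : ∀ v : D.obj.left, ∃ (U : Over S) (c : (Desc.toDD p).obj U ⟶ D),
      IsOpenImmersion c.hom.left ∧ v ∈ Set.range c.hom.left.base := by
    intro v
    obtain ⟨W₀, hW₀aff, hvW₀⟩ : ∃ W₀ : D.obj.left.Opens, IsAffineOpen W₀ ∧ v ∈ W₀ := by
      obtain ⟨_, ⟨W, hW, rfl⟩, hv, -⟩ :=
        (D.obj.left.isBasis_affineOpens).exists_subset_of_mem_open (Set.mem_univ v) isOpen_univ
      exact ⟨W, hW, hv⟩
    obtain ⟨W', hW'⟩ : ∃ W' : D.obj.left.Opens, W' = Sat D W₀ := ⟨_, rfl⟩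
    have hst : Stable D W' := by rw [hW']; exact stable_Sat D W₀
    have hcomp : CompactSpace (W' : Scheme.{u}) := by
      rw [hW']
      exact isCompact_iff_compactSpace.mp (isCompact_Sat D W₀ hW₀aff.isCompact)
    have hvW' : v ∈ W' := by rw [hW']; exact le_Sat D W₀ hvW₀
    have h1 : IsSeparated (restrictDD D W' hst).obj.hom := by
      change IsSeparated (W'.ι ≫ D.obj.hom); infer_instance
    have h2 : LocallyQuasiFinite (restrictDD D W' hst).obj.hom := by
      change LocallyQuasiFinite (W'.ι ≫ D.obj.hom); infer_instance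
    have h3 : LocallyOfFiniteType (restrictDD D W' hst).obj.hom := by
      change LocallyOfFiniteType (W'.ι ≫ D.obj.hom); infer_instance
    have h4 : QuasiCompact (restrictDD D W' hst).obj.hom := by
      change QuasiCompact (W'.ι ≫ D.obj.hom); infer_instance
    have hqa : Mor2.IsQuasiAffine (restrictDD D W' hst).obj.hom :=
      Groth.Agent.Lib.Helper15QFQAff.isQuasiAffine_of_isSeparated_of_locallyQuasiFinite _
    obtain ⟨U, ⟨e⟩⟩ := Groth.Agent.S1134.result p (restrictDD D W' hst) hqa
    have hι : IsOpenImmersion (restrictι D W' hst).hom.left := by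
      change IsOpenImmersion W'.ι
      infer_instance
    obtain ⟨h5, h6⟩ := chart_of_iso U e (restrictι D W' hst)
    refine ⟨U, e.hom ≫ restrictι D W' hst, h5, ?_⟩
    rw [h6]
    change v ∈ Set.range W'.ι.base
    rw [Scheme.Opens.range_ι]
    exact hvW'
  choose Uo c hc hcv using hchart
  exact Groth.Agent.Lib.Helper15DescGlueC.exists_effective c (fun v => ⟨v, hcv v⟩)

end Groth.Agent.Lib.Helper15DescQF
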