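-- helper15: effectivity of separated locally quasi-finite descent data along fppf covers; refinement of covers without surjectivity.
import Mathlib
import Groth.Prelude.Def_Desc
import Groth.Prelude.Def_DescFam
import Groth.Agent.Lib.Helper15DescRefine
import Groth.Agent.Lib.Helper15DescRestrict
import Groth.Agent.Lib.Helper15DescCovC
import Groth.Agent.Lib.Helper15DescQF
import Groth.Agent.Lib.Helper12DescFF

set_option autoImplicit false
set_option linter.unusedSectionVars false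
open CategoryTheory CategoryTheory.Limits AlgebraicGeometry

universe u

namespace Groth.Agent.Lib.Helper15DescFppf

open Desc Groth.Agent.Lib.Helper15AffDescCore Groth.Agent.Lib.Helper15DescRefine
  Groth.Agent.Lib.Helper15DescRestrict Groth.Agent.Lib.Helper15DescCov

/-- effectivity of a descent datum is local on the base, for general covers. -/
theorem effective_of_local_base {X S : Scheme.{u}} (p : X ⟶ S) [DescCover p] (D : Desc.SchDD p)
    (H : ∀ (S₀ : S.Opens), IsAffineOpen S₀ →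
      ∃ U₀ : Over (S₀ : Scheme.{u}), Nonempty ((Desc.toDD (p ∣_ S₀)).obj U₀ ≅
        pullDD D (p ⁻¹ᵁ S₀).ι S₀.ι (p ∣_ S₀) (isPullback_morphismRestrict p S₀).flip.w)) :
    ∃ U : Over S, Nonempty ((Desc.toDD p).obj U ≅ D) := by
  have hchart : ∀ v : D.obj.left, ∃ (U : Over S) (c : (Desc.toDD p).obj U ⟶ D),
      IsOpenImmersion c.hom.left ∧ v ∈ Set.range c.hom.left.base := by
    intro v
    obtain ⟨S₀, hS₀, hv⟩ : ∃ S₀ : S.Opens, IsAffineOpen S₀ ∧ (D.obj.hom ≫ p).base v ∈ S₀ := by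
      obtain ⟨_, ⟨S₀, hS₀, rfl⟩, hv, -⟩ :=
        (S.isBasis_affineOpens).exists_subset_of_mem_open (Set.mem_univ ((D.obj.hom ≫ p).base v))
          isOpen_univ
      exact ⟨S₀, hS₀, hv⟩
    have sq : IsPullback (p ⁻¹ᵁ S₀).ι (p ∣_ S₀) p S₀.ι := (isPullback_morphismRestrict p S₀).flip
    obtain ⟨U₀, ⟨e₀⟩⟩ := H S₀ hS₀
    obtain ⟨c, hc, hcv⟩ := exists_chart_of_restrict D (p ⁻¹ᵁ S₀).ι S₀.ι (p ∣_ S₀) sq U₀ e₀
    refine ⟨_, c, hc, hcv v ?_⟩
    rw [Scheme.Opens.range_ι]
    exact hv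
  choose Uo c hc hcv using hchart
  exact Groth.Agent.Lib.Helper15DescCovC.exists_effective c (fun v => ⟨v, hcv v⟩)

section Refine

variable {X S X' : Scheme.{u}} {p : X ⟶ S} (g : X' ⟶ X) (p' : X' ⟶ S)
  (w : g ≫ p = p' ≫ 𝟙 S)

omit g p' w in
lemma tr_toDD_snd (U : Over S) {T : Scheme.{u}} (y : T ⟶ X) (v : T ⟶ pullback p U.hom)
    (h : (v ≫ pullback.fst p U.hom) ≫ p = y ≫ p) :
    tr ((Desc.toDD p).obj U) y v h ≫ pullback.snd p U.hom = v ≫ pullback.snd p U.hom := by
  unfold tr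
  exact pullback.lift_snd _ _ _

/-- the pullback of a canonical descent datum is canonical. -/
lemma nonempty_iso_pullDD_toDD (U : Over S) :
    Nonempty ((Desc.toDD p').obj U ≅ pullDD ((Desc.toDD p).obj U) g (𝟙 S) p' w) := by
  have hp' : p' = g ≫ p := by rw [w, Category.comp_id]
  refine nonempty_iso_of_invariant _ U
    (pr ((Desc.toDD p).obj U) g (𝟙 S) p' w ≫ pullback.snd p U.hom) ?_ ?_
  · have h1 := isPullback_pr ((Desc.toDD p).obj U) g (𝟙 S) p' w
    have h2 : IsPullback (pullback.fst p U.hom) (pullback.snd p U.hom) p U.hom :=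
      IsPullback.of_hasPullback p U.hom
    have h3 := h1.flip.paste_vert h2
    exact h3.of_iso (Iso.refl _) (Iso.refl _) (Iso.refl _) (Iso.refl _) (by simp) (by simp)
      (by simp [hp']) (by simp)
  · intro T x₁ v h
    have h1 := tr_pullDD_pr ((Desc.toDD p).obj U) g (𝟙 S) p' w x₁ v h
    have h2 : tr ((Desc.toDD p).obj U) (x₁ ≫ g) (v ≫ pr ((Desc.toDD p).obj U) g (𝟙 S) p' w)
        (pr_compat ((Desc.toDD p).obj U) g (𝟙 S) p' w x₁ v h) ≫ pullback.snd p U.hom =
        (v ≫ pr ((Desc.toDD p).obj U) g (𝟙 S) p' w) ≫ pullback.snd p U.hom := by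
      exact tr_toDD_snd U _ _ _
    rw [← Category.assoc, h1, h2, Category.assoc]

/-- A descent datum which becomes effective after pulling back to another cover mapping to the
given one is effective. -/
theorem effective_of_refinement' (D : Desc.SchDD p)
    (hp' : Presieve.singleton p' ∈ Scheme.fpqcPrecoverage S) (U : Over S)
    (e : (Desc.toDD p').obj U ≅ pullDD D g (𝟙 S) p' w) :
    Nonempty ((Desc.toDD p).obj U ≅ D) := by
  obtain ⟨e4⟩ := nonempty_iso_pullDD_toDD (p := p) g p' w U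
  have hu : Presieve.ofArrows (fun _ : PUnit.{1} => X') (fun _ => p') ∈
      Scheme.fpqcPrecoverage S := by
    rw [Presieve.ofArrows_pUnit]
    exact hp'
  have hc := fun j => Groth.Agent.Lib.Helper12.DescFF.facSieve_mem_of_cover
    (u := fun _ : PUnit.{1} => p') (v := fun _ : PUnit.{1} => p) hu j
  have hfull := Groth.Agent.Lib.Helper12.DescFF.full_of_cov
    (u := fun _ : PUnit.{1} => p') (v := fun _ : PUnit.{1} => p) (α := id) (g := fun _ => g)
    (fun _ => w) hc
  have hfaith := Groth.Agent.Lib.Helper12.DescFF.faithful_of_sep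
    (u := fun _ : PUnit.{1} => p') (v := fun _ : PUnit.{1} => p) (α := id) (g := fun _ => g)
    (fun _ => w) (Groth.Agent.Lib.Helper12.DescFF.sep_of_cov hc)
  obtain ⟨Φ, hΦ⟩ : ∃ Φ : SchDDFam (fun _ : PUnit.{1} => p) ⥤ SchDDFam (fun _ : PUnit.{1} => p'),
      Φ = pullDDFam (f := fun _ : PUnit.{1} => p) (f' := fun _ : PUnit.{1} => p') (α := id)
        (p := 𝟙 S) (p' := fun _ => g) (fun _ => w) := ⟨_, rfl⟩
  have hΦfull : Φ.Full := by rw [hΦ]; exact hfull
  have hΦfaith : Φ.Faithful := by rw [hΦ]; exact hfaith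
  have i : pullDD D g (𝟙 S) p' w ≅ pullDD ((Desc.toDD p).obj U) g (𝟙 S) p' w := e.symm ≪≫ e4
  have i' : Φ.obj ((SchDDFam.ofSchDD p).obj D) ≅
      Φ.obj ((SchDDFam.ofSchDD p).obj ((Desc.toDD p).obj U)) := by
    rw [hΦ]
    exact (SchDDFam.ofSchDD p').mapIso i
  have j : (SchDDFam.ofSchDD p).obj D ≅ (SchDDFam.ofSchDD p).obj ((Desc.toDD p).obj U) :=
    Φ.preimageIso i'
  have k : D ≅ (Desc.toDD p).obj U := (SchDDFam.toSchDD p).mapIso j
  exact ⟨k.symm⟩

end Refine

/-- a flat surjective morphism locally of finite presentation to an affine scheme is refined by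
one from an affine scheme. -/
lemma exists_affine_refinement {X S : Scheme.{u}} [IsAffine S] (p : X ⟶ S) [Surjective p]
    [Flat p] [LocallyOfFinitePresentation p] :
    ∃ (X' : Scheme.{u}) (g : X' ⟶ X), IsAffine X' ∧ Flat g ∧ LocallyOfFinitePresentation g ∧
      Surjective (g ≫ p) := by
  choose x hx using p.surjective
  have hex : ∀ s : S, ∃ W : X.Opens, IsAffineOpen W ∧ x s ∈ W := by
    intro s
    obtain ⟨_, ⟨W, hW, rfl⟩, hv, -⟩ :=
      (X.isBasis_affineOpens).exists_subset_of_mem_open (Set.mem_univ (x s)) isOpen_univ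
    exact ⟨W, hW, hv⟩
  choose Wf hWaff hxW using hex
  have hopen : ∀ s : S, IsOpen (p.base '' (Wf s : Set X)) := fun s =>
    p.isOpenMap _ (Wf s).2
  have hcov : (Set.univ : Set S) ⊆ ⋃ s, p.base '' (Wf s : Set X) := by
    intro s _
    exact Set.mem_iUnion.2 ⟨s, x s, hxW s, hx s⟩
  obtain ⟨t, ht⟩ := isCompact_univ.elim_finite_subcover _ hopen hcov
  have haff : ∀ i : ↥t, IsAffine ((Wf i.1 : X.Opens) : Scheme.{u}) := fun i => hWaff i.1
  obtain ⟨g, hg⟩ : ∃ g : (∐ fun i : ↥t => ((Wf i.1 : X.Opens) : Scheme.{u})) ⟶ X,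
      g = Sigma.desc (fun i : ↥t => (Wf i.1).ι) := ⟨_, rfl⟩
  have hgflat : Flat g := by
    rw [hg]; exact IsZariskiLocalAtSource.sigmaDesc (P := @Flat) (fun i => inferInstance)
  have hglfp : LocallyOfFinitePresentation g := by
    rw [hg]
    exact IsZariskiLocalAtSource.sigmaDesc (P := @LocallyOfFinitePresentation)
      (fun i => inferInstance)
  refine ⟨_, g, inferInstance, hgflat, hglfp, ⟨fun s => ?_⟩⟩
  have hs := ht (Set.mem_univ s)
  simp only [Set.mem_iUnion] at hs
  obtain ⟨i, hi, y, hy, hys⟩ := hs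
  obtain ⟨y', hy'⟩ : ∃ y' : ((Wf i : X.Opens) : Scheme.{u}), (Wf i).ι.base y' = y := ⟨⟨y, hy⟩, rfl⟩
  obtain ⟨k, hk⟩ : ∃ k : ((Wf i : X.Opens) : Scheme.{u}) ⟶
      (∐ fun i : ↥t => ((Wf i.1 : X.Opens) : Scheme.{u})),
      k = Sigma.ι (fun i : ↥t => ((Wf i.1 : X.Opens) : Scheme.{u})) ⟨i, hi⟩ := ⟨_, rfl⟩
  have hkg : k ≫ g = (Wf i).ι := by
    rw [hk, hg]
    exact Sigma.ι_desc (fun i : ↥t => (Wf i.1).ι) ⟨i, hi⟩
  refine ⟨k.base y', ?_⟩
  have h5 : (k ≫ g ≫ p).base y' = s := by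
    rw [← Category.assoc, hkg, Scheme.Hom.comp_base, TopCat.comp_app, hy']
    exact hys
  exact h5

/-- separated locally quasi-finite descent data along a flat surjective morphism locally of
finite presentation to an affine scheme are effective. -/
theorem effective_of_qf_of_isAffine {X S : Scheme.{u}} [IsAffine S] (p : X ⟶ S) [Surjective p]
    [Flat p] [LocallyOfFinitePresentation p] (D : Desc.SchDD p) [IsSeparated D.obj.hom]
    [LocallyQuasiFinite D.obj.hom] [LocallyOfFiniteType D.obj.hom] :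
    ∃ U : Over S, Nonempty ((Desc.toDD p).obj U ≅ D) := by
  obtain ⟨X', g, hX', hgf, hglfp, hsurj⟩ := exists_affine_refinement p
  obtain ⟨p', hp'⟩ : ∃ p' : X' ⟶ S, p' = g ≫ p := ⟨_, rfl⟩
  have w : g ≫ p = p' ≫ 𝟙 S := by rw [hp', Category.comp_id]
  have h1 : Surjective p' := by rw [hp']; exact hsurj
  have h2 : Flat p' := by rw [hp']; infer_instance
  have h3 : LocallyOfFinitePresentation p' := by rw [hp']; infer_instance
  have h4 : QuasiCompact p' := inferInstance
  have d1 : IsSeparated (pullDD D g (𝟙 S) p' w).obj.hom := by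
    change IsSeparated (pullback.snd D.obj.hom g); infer_instance
  have d2 : LocallyQuasiFinite (pullDD D g (𝟙 S) p' w).obj.hom := by
    change LocallyQuasiFinite (pullback.snd D.obj.hom g); infer_instance
  have d3 : LocallyOfFiniteType (pullDD D g (𝟙 S) p' w).obj.hom := by
    change LocallyOfFiniteType (pullback.snd D.obj.hom g); infer_instance
  obtain ⟨U, ⟨e⟩⟩ := Groth.Agent.Lib.Helper15DescQF.effective_of_qf_of_quasiCompact
    (pullDD D g (𝟙 S) p' w)
  exact ⟨U, effective_of_refinement' g p' w D p'.singleton_mem_fpqcPrecoverage U e⟩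

/-- separated locally quasi-finite descent data along a flat surjective morphism locally of
finite presentation are effective. -/
theorem effective_of_qf {X S : Scheme.{u}} (p : X ⟶ S) [Surjective p]
    [Flat p] [LocallyOfFinitePresentation p] (D : Desc.SchDD p) [IsSeparated D.obj.hom]
    [LocallyQuasiFinite D.obj.hom] [LocallyOfFiniteType D.obj.hom] :
    ∃ U : Over S, Nonempty ((Desc.toDD p).obj U ≅ D) := by
  refine effective_of_local_base p D (fun S₀ hS₀ => ?_)
  have sq : IsPullback (p ⁻¹ᵁ S₀).ι (p ∣_ S₀) p S₀.ι := (isPullback_morphismRestrict p S₀).flip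
  have hS₀aff : IsAffine (S₀ : Scheme.{u}) := hS₀
  have h1 : Surjective (p ∣_ S₀) :=
    MorphismProperty.of_isPullback (P := @Surjective) sq inferInstance
  have h2 : Flat (p ∣_ S₀) := MorphismProperty.of_isPullback (P := @Flat) sq inferInstance
  have h3 : LocallyOfFinitePresentation (p ∣_ S₀) :=
    MorphismProperty.of_isPullback (P := @LocallyOfFinitePresentation) sq inferInstance
  have d1 : IsSeparated (pullDD D (p ⁻¹ᵁ S₀).ι S₀.ι (p ∣_ S₀) sq.w).obj.hom := by
    change IsSeparated (pullback.snd D.obj.hom (p ⁻¹ᵁ S₀).ι); infer_instance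
  have d2 : LocallyQuasiFinite (pullDD D (p ⁻¹ᵁ S₀).ι S₀.ι (p ∣_ S₀) sq.w).obj.hom := by
    change LocallyQuasiFinite (pullback.snd D.obj.hom (p ⁻¹ᵁ S₀).ι); infer_instance
  have d3 : LocallyOfFiniteType (pullDD D (p ⁻¹ᵁ S₀).ι S₀.ι (p ∣_ S₀) sq.w).obj.hom := by
    change LocallyOfFiniteType (pullback.snd D.obj.hom (p ⁻¹ᵁ S₀).ι); infer_instance
  exact effective_of_qf_of_isAffine (p ∣_ S₀) _

end Groth.Agent.Lib.Helper15DescFppf
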