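-- helper15: points of coproducts of schemes: disjoint open covers of the source of a morphism to a coproduct, gluing along them, lifting into components.
import Mathlib

set_option autoImplicit false
open CategoryTheory CategoryTheory.Limits AlgebraicGeometry

universe w u

namespace Groth.Agent.Lib.Helper15SigmaPts

/-- an open cover whose members are pairwise disjoint. -/
def IsDisj {T : Scheme.{u}} (𝒰 : Scheme.OpenCover.{w} T) : Prop :=
  ∀ ⦃a b : 𝒰.I₀⦄, a ≠ b → ∀ ⦃Z : Scheme.{u}⦄ (s : Z ⟶ 𝒰.X a) (t : Z ⟶ 𝒰.X b),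
    s ≫ 𝒰.f a = t ≫ 𝒰.f b → IsEmpty Z

lemma hom_ext_of_isEmpty {Z Y : Scheme.{u}} [IsEmpty Z] (a b : Z ⟶ Y) : a = b :=
  (isInitialOfIsEmpty (X := Z)).hom_ext a b

/-- morphisms glue along a pairwise disjoint open cover. -/
theorem exists_glue {T Y : Scheme.{u}} (𝒰 : Scheme.OpenCover.{w} T) (h : IsDisj 𝒰)
    (c : ∀ a, 𝒰.X a ⟶ Y) : ∃ c' : T ⟶ Y, ∀ a, 𝒰.f a ≫ c' = c a := by
  classical
  refine ⟨𝒰.glueMorphisms c (fun a b => ?_), fun a => 𝒰.ι_glueMorphisms c _ a⟩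
  by_cases hab : a = b
  · subst hab
    have : pullback.fst (𝒰.f a) (𝒰.f a) = pullback.snd (𝒰.f a) (𝒰.f a) := by
      rw [← cancel_mono (𝒰.f a)]; exact pullback.condition
    rw [this]
  · haveI := h hab _ _ pullback.condition
    exact hom_ext_of_isEmpty _ _

section Cov

variable {κ : Type w} [Small.{u} κ] {W : κ → Scheme.{u}}

/-- the cover of the source of a morphism to a coproduct by the preimages of the components. -/
noncomputable def cov {T : Scheme.{u}} (b : T ⟶ ∐ W) : Scheme.OpenCover.{w} T where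
  I₀ := κ
  X k := pullback b (Sigma.ι W k)
  f k := pullback.fst b (Sigma.ι W k)
  mem₀ := by
    rw [Scheme.presieve₀_mem_precoverage_iff]
    refine ⟨fun t => ?_, fun k => inferInstance⟩
    obtain ⟨k, y, hy⟩ := (sigmaOpenCover W).exists_eq (b t)
    obtain ⟨z, hz, -⟩ := Scheme.Pullback.exists_preimage_pullback (f := b) (g := Sigma.ι W k) t y
      hy.symm
    exact ⟨k, z, hz⟩

lemma cov_disj_aux {T : Scheme.{u}} (b : T ⟶ ∐ W) (k k' : κ) (hkk' : k ≠ k') {Z : Scheme.{u}}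
    (s : Z ⟶ pullback b (Sigma.ι W k)) (t : Z ⟶ pullback b (Sigma.ι W k'))
    (hst : s ≫ pullback.fst b (Sigma.ι W k) = t ≫ pullback.fst b (Sigma.ι W k')) : IsEmpty Z := by
  refine isEmpty_of_commSq_sigmaι_of_ne (a := s ≫ pullback.snd b (Sigma.ι W k))
    (b := t ≫ pullback.snd b (Sigma.ι W k')) ⟨?_⟩ hkk'
  rw [Category.assoc, ← pullback.condition, Category.assoc, ← pullback.condition,
    ← Category.assoc, ← Category.assoc]
  exact congrArg (· ≫ b) hst

lemma isDisj_cov {T : Scheme.{u}} (b : T ⟶ ∐ W) : IsDisj (cov b) := by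
  intro k k' hkk' Z s t hst
  exact cov_disj_aux b k k' hkk' s t hst

end Cov

/-- the common refinement of two open covers. -/
noncomputable def inter {T : Scheme.{u}} (𝒰 𝒱 : Scheme.OpenCover.{w} T) : Scheme.OpenCover.{w} T where
  I₀ := 𝒰.I₀ × 𝒱.I₀
  X a := pullback (𝒰.f a.1) (𝒱.f a.2)
  f a := pullback.fst (𝒰.f a.1) (𝒱.f a.2) ≫ 𝒰.f a.1
  mem₀ := by
    rw [Scheme.presieve₀_mem_precoverage_iff]
    refine ⟨fun t => ?_, fun k => inferInstance⟩
    obtain ⟨a, y, hy⟩ := 𝒰.exists_eq t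
    obtain ⟨b, y', hy'⟩ := 𝒱.exists_eq t
    obtain ⟨z, hz, -⟩ := Scheme.Pullback.exists_preimage_pullback (f := 𝒰.f a) (g := 𝒱.f b) y y'
      (hy.trans hy'.symm)
    refine ⟨(a, b), z, ?_⟩
    rw [Scheme.Hom.comp_apply, hz, hy]

lemma inter_disj_aux {T : Scheme.{u}} (𝒰 𝒱 : Scheme.OpenCover.{w} T) (h𝒰 : IsDisj 𝒰)
    (h𝒱 : IsDisj 𝒱) (a b : 𝒰.I₀ × 𝒱.I₀) (hab : a ≠ b) {Z : Scheme.{u}}
    (s : Z ⟶ pullback (𝒰.f a.1) (𝒱.f a.2)) (t : Z ⟶ pullback (𝒰.f b.1) (𝒱.f b.2))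
    (hst : s ≫ pullback.fst (𝒰.f a.1) (𝒱.f a.2) ≫ 𝒰.f a.1 =
      t ≫ pullback.fst (𝒰.f b.1) (𝒱.f b.2) ≫ 𝒰.f b.1) : IsEmpty Z := by
  by_cases h1 : a.1 = b.1
  · have h2 : a.2 ≠ b.2 := fun h2 => hab (Prod.ext h1 h2)
    refine h𝒱 h2 (s ≫ pullback.snd _ _) (t ≫ pullback.snd _ _) ?_
    rw [Category.assoc, ← pullback.condition, Category.assoc, ← pullback.condition]
    exact hst
  · refine h𝒰 h1 (s ≫ pullback.fst _ _) (t ≫ pullback.fst _ _) ?_
    rw [Category.assoc, Category.assoc]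
    exact hst

lemma isDisj_inter {T : Scheme.{u}} (𝒰 𝒱 : Scheme.OpenCover.{w} T) (h𝒰 : IsDisj 𝒰)
    (h𝒱 : IsDisj 𝒱) : IsDisj (inter 𝒰 𝒱) := by
  intro a b hab Z s t hst
  exact inter_disj_aux 𝒰 𝒱 h𝒰 h𝒱 a b hab s t hst

section Lift

variable {ι : Type w} [Small.{u} ι] {A B : ι → Scheme.{u}} (q : ∀ i, A i ⟶ B i)

/-- a morphism to the coproduct of the sources lying over a component of the coproduct of the
targets factors through the corresponding component. -/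
lemma exists_lift_of_sigmaMap {T : Scheme.{u}} (a : T ⟶ ∐ A) (i : ι) (b : T ⟶ B i)
    (h : a ≫ Limits.Sigma.map q = b ≫ Sigma.ι B i) :
    ∃ a' : T ⟶ A i, a' ≫ Sigma.ι A i = a ∧ a' ≫ q i = b := by
  have hr : Set.range a.base ⊆ Set.range (Sigma.ι A i).base := by
    rintro _ ⟨t, rfl⟩
    obtain ⟨i', y, hy⟩ := (sigmaOpenCover A).exists_eq (a.base t)
    have hy' : (Sigma.ι A i').base y = a.base t := hy
    have h1 : (Sigma.ι B i').base ((q i').base y) = (Sigma.ι B i).base (b.base t) := by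
      have e1 : (Sigma.ι A i' ≫ Limits.Sigma.map q).base y = (a ≫ Limits.Sigma.map q).base t := by
        rw [Scheme.Hom.comp_base, TopCat.comp_app, hy', Scheme.Hom.comp_base, TopCat.comp_app]
      rw [h, Limits.Sigma.ι_map] at e1
      exact e1
    have h2 := (sigmaι_eq_iff B i' i _ _).1 h1
    have h3 : i' = i := congrArg Sigma.fst h2
    subst h3
    exact ⟨y, hy'⟩
  refine ⟨IsOpenImmersion.lift (Sigma.ι A i) a hr, IsOpenImmersion.lift_fac _ _ hr, ?_⟩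
  rw [← cancel_mono (Sigma.ι B i), Category.assoc, ← Limits.Sigma.ι_map, ← Category.assoc,
    IsOpenImmersion.lift_fac, h]

end Lift

end Groth.Agent.Lib.Helper15SigmaPts
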