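-- helper15: the descent datum on a disjoint union attached to a descent datum relative to a family of morphisms, and effectivity of the family datum from effectivity of the disjoint union.
import Mathlib
import Groth.Prelude.Def_Desc
import Groth.Prelude.Def_DescFam
import Groth.Agent.Lib.Helper15SigmaPts
import Groth.Agent.Lib.Helper10DescPull

set_option autoImplicit false
open CategoryTheory CategoryTheory.Limits AlgebraicGeometry

universe u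

namespace Groth.Agent.Lib.Helper15SigmaDD

open Desc Groth.Agent.Lib.Helper15SigmaPts

variable {S : Scheme.{u}} {ι : Type u} {X : ι → Scheme.{u}} {f : ∀ i, X i ⟶ S} (D : SchDDFam f)

/-- the structure morphism of the disjoint union of the members of a family descent datum. -/
noncomputable def sq : (∐ fun i => (D.obj i).left) ⟶ ∐ X :=
  Limits.Sigma.map (fun i => (D.obj i).hom)

lemma ι_sq (i : ι) : Sigma.ι (fun i => (D.obj i).left) i ≫ sq D = (D.obj i).hom ≫ Sigma.ι X i :=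
  Limits.Sigma.ι_map _ _

/-- the disjoint union of the members of a family descent datum. -/
noncomputable def sobj : Over (∐ X) := Over.mk (sq D)

lemma ι_desc' (i : ι) : Sigma.ι X i ≫ Sigma.desc f = f i := Sigma.ι_desc f i

lemma exists_lift {T : Scheme.{u}} (a : T ⟶ ∐ fun i => (D.obj i).left) (i : ι) (b : T ⟶ X i)
    (h : a ≫ sq D = b ≫ Sigma.ι X i) :
    ∃ a' : Lifts (D.obj i) b, a'.1 ≫ Sigma.ι (fun i => (D.obj i).left) i = a := by
  obtain ⟨a', h1, h2⟩ := exists_lift_of_sigmaMap (fun i => (D.obj i).hom) a i b h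
  exact ⟨⟨a', h2⟩, h1⟩

/-- the relation defining the gluing bijections of the disjoint union. -/
def Rel {T : Scheme.{u}} (x₀ x₁ : T ⟶ ∐ X) (v w : T ⟶ ∐ fun i => (D.obj i).left) : Prop :=
  ∀ ⦃T' : Scheme.{u}⦄ (g : T' ⟶ T) ⦃i j : ι⦄ (y₀ : T' ⟶ X i) (y₁ : T' ⟶ X j)
    (hy : y₀ ≫ f i = y₁ ≫ f j) (_ : g ≫ x₀ = y₀ ≫ Sigma.ι X i) (_ : g ≫ x₁ = y₁ ≫ Sigma.ι X j)
    (v' : Lifts (D.obj i) y₀), v'.1 ≫ Sigma.ι (fun i => (D.obj i).left) i = g ≫ v →
      (D.φ y₀ y₁ hy v').1 ≫ Sigma.ι (fun i => (D.obj i).left) j = g ≫ w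

variable {D}

lemma Rel.precomp {T T' : Scheme.{u}} {x₀ x₁ : T ⟶ ∐ X} {v w : T ⟶ ∐ fun i => (D.obj i).left}
    (h : Rel D x₀ x₁ v w) (g : T' ⟶ T) : Rel D (g ≫ x₀) (g ≫ x₁) (g ≫ v) (g ≫ w) := by
  intro T'' g₂ i j y₀ y₁ hy h₀ h₁ v' hv'
  rw [← Category.assoc]
  exact h (g₂ ≫ g) y₀ y₁ hy (by rw [Category.assoc, h₀]) (by rw [Category.assoc, h₁]) v'
    (by rw [hv', Category.assoc])

section Pieces

variable {T : Scheme.{u}} (x₀ x₁ : T ⟶ ∐ X)

/-- the piece of the source where the two points land in given components. -/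
noncomputable abbrev piece (i j : ι) : Scheme.{u} :=
  pullback (pullback.fst x₀ (Sigma.ι X i)) (pullback.fst x₁ (Sigma.ι X j))

noncomputable def pg (i j : ι) : piece x₀ x₁ i j ⟶ T :=
  pullback.fst _ _ ≫ pullback.fst x₀ (Sigma.ι X i)

noncomputable def py₀ (i j : ι) : piece x₀ x₁ i j ⟶ X i :=
  pullback.fst _ _ ≫ pullback.snd x₀ (Sigma.ι X i)

noncomputable def py₁ (i j : ι) : piece x₀ x₁ i j ⟶ X j :=
  pullback.snd _ _ ≫ pullback.snd x₁ (Sigma.ι X j)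

lemma pg_x₀ (i j : ι) : pg x₀ x₁ i j ≫ x₀ = py₀ x₀ x₁ i j ≫ Sigma.ι X i := by
  unfold pg py₀
  rw [Category.assoc, pullback.condition, Category.assoc]

lemma pg_x₁ (i j : ι) : pg x₀ x₁ i j ≫ x₁ = py₁ x₀ x₁ i j ≫ Sigma.ι X j := by
  have : pg x₀ x₁ i j = pullback.snd _ _ ≫ pullback.fst x₁ (Sigma.ι X j) := pullback.condition
  rw [this]
  unfold py₁
  rw [Category.assoc, pullback.condition, Category.assoc]

lemma py_compat (h : x₀ ≫ Sigma.desc f = x₁ ≫ Sigma.desc f) (i j : ι) :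
    py₀ x₀ x₁ i j ≫ f i = py₁ x₀ x₁ i j ≫ f j := by
  have e0 := pg_x₀ x₀ x₁ i j
  have e1 := pg_x₁ x₀ x₁ i j
  calc py₀ x₀ x₁ i j ≫ f i = (py₀ x₀ x₁ i j ≫ Sigma.ι X i) ≫ Sigma.desc f := by
        rw [Category.assoc, ι_desc']
    _ = (pg x₀ x₁ i j ≫ x₀) ≫ Sigma.desc f := by rw [e0]
    _ = (pg x₀ x₁ i j ≫ x₁) ≫ Sigma.desc f := by rw [Category.assoc, h, Category.assoc]
    _ = (py₁ x₀ x₁ i j ≫ Sigma.ι X j) ≫ Sigma.desc f := by rw [e1]
    _ = _ := by rw [Category.assoc, ι_desc']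

/-- factoring through a piece. -/
lemma exists_piece_lift {T' : Scheme.{u}} (g : T' ⟶ T) {i j : ι} (y₀ : T' ⟶ X i) (y₁ : T' ⟶ X j)
    (h₀ : g ≫ x₀ = y₀ ≫ Sigma.ι X i) (h₁ : g ≫ x₁ = y₁ ≫ Sigma.ι X j) :
    ∃ g' : T' ⟶ piece x₀ x₁ i j, g' ≫ pg x₀ x₁ i j = g ∧ g' ≫ py₀ x₀ x₁ i j = y₀ ∧
      g' ≫ py₁ x₀ x₁ i j = y₁ := by
  unfold pg py₀ py₁
  refine ⟨pullback.lift (pullback.lift g y₀ h₀) (pullback.lift g y₁ h₁) ?_, ?_, ?_, ?_⟩
  · rw [pullback.lift_fst, pullback.lift_fst]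
  · rw [pullback.lift_fst_assoc, pullback.lift_fst]
  · rw [pullback.lift_fst_assoc, pullback.lift_snd]
  · rw [pullback.lift_snd_assoc, pullback.lift_snd]

/-- the cover by the pieces. -/
noncomputable def pcov : Scheme.OpenCover.{u} T := inter (cov x₀) (cov x₁)

lemma isDisj_pcov : IsDisj (pcov x₀ x₁) := isDisj_inter _ _ (isDisj_cov _) (isDisj_cov _)

lemma hom_ext_pieces {Y : Scheme.{u}} (a b : T ⟶ Y)
    (h : ∀ i j, pg x₀ x₁ i j ≫ a = pg x₀ x₁ i j ≫ b) : a = b :=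
  (pcov x₀ x₁).hom_ext a b (fun c => h c.1 c.2)

lemma exists_glue_pieces {Y : Scheme.{u}} (c : ∀ i j, piece x₀ x₁ i j ⟶ Y) :
    ∃ c' : T ⟶ Y, ∀ i j, pg x₀ x₁ i j ≫ c' = c i j := by
  obtain ⟨c', hc'⟩ := exists_glue (pcov x₀ x₁) (isDisj_pcov x₀ x₁) (fun a => c a.1 a.2)
  exact ⟨c', fun i j => hc' (i, j)⟩

end Pieces

section Tr

variable {T : Scheme.{u}} (x₀ x₁ : T ⟶ ∐ X)

lemma Rel.unique {v w w' : T ⟶ ∐ fun i => (D.obj i).left} (hv : v ≫ sq D = x₀)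
    (h : x₀ ≫ Sigma.desc f = x₁ ≫ Sigma.desc f) (hw : Rel D x₀ x₁ v w)
    (hw' : Rel D x₀ x₁ v w') : w = w' := by
  apply hom_ext_pieces x₀ x₁
  intro i j
  obtain ⟨v', hv'⟩ := exists_lift D (pg x₀ x₁ i j ≫ v) i (py₀ x₀ x₁ i j)
    (by rw [Category.assoc, hv, pg_x₀])
  rw [← hw (pg x₀ x₁ i j) (py₀ x₀ x₁ i j) (py₁ x₀ x₁ i j) (py_compat x₀ x₁ h i j)
      (pg_x₀ x₀ x₁ i j) (pg_x₁ x₀ x₁ i j) v' hv',
    ← hw' (pg x₀ x₁ i j) (py₀ x₀ x₁ i j) (py₁ x₀ x₁ i j) (py_compat x₀ x₁ h i j)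
      (pg_x₀ x₀ x₁ i j) (pg_x₁ x₀ x₁ i j) v' hv']

lemma exists_rel {v : T ⟶ ∐ fun i => (D.obj i).left} (hv : v ≫ sq D = x₀)
    (h : x₀ ≫ Sigma.desc f = x₁ ≫ Sigma.desc f) :
    ∃ w : T ⟶ ∐ fun i => (D.obj i).left, w ≫ sq D = x₁ ∧ Rel D x₀ x₁ v w := by
  have hl : ∀ i j, ∃ v' : Lifts (D.obj i) (py₀ x₀ x₁ i j),
      v'.1 ≫ Sigma.ι (fun i => (D.obj i).left) i = pg x₀ x₁ i j ≫ v :=
    fun i j => exists_lift D _ i _ (by rw [Category.assoc, hv, pg_x₀])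
  choose vp hvp using hl
  obtain ⟨w, hw⟩ := exists_glue_pieces x₀ x₁ (fun i j =>
    (D.φ (py₀ x₀ x₁ i j) (py₁ x₀ x₁ i j) (py_compat x₀ x₁ h i j) (vp i j)).1 ≫
      Sigma.ι (fun i => (D.obj i).left) j)
  refine ⟨w, ?_, ?_⟩
  · apply hom_ext_pieces x₀ x₁
    intro i j
    rw [← Category.assoc, hw, Category.assoc, ι_sq, ← Category.assoc,
      (D.φ (py₀ x₀ x₁ i j) (py₁ x₀ x₁ i j) (py_compat x₀ x₁ h i j) (vp i j)).2, pg_x₁]
  · intro T' g i j y₀ y₁ hy h₀ h₁ v' hv'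
    obtain ⟨g', hg1, hg2, hg3⟩ := exists_piece_lift x₀ x₁ g y₀ y₁ h₀ h₁
    have e : v'.1 = g' ≫ (vp i j).1 := by
      rw [← cancel_mono (Sigma.ι (fun i => (D.obj i).left) i), hv', Category.assoc, hvp,
        ← Category.assoc, hg1]
    have hn := D.φ_natural g' (py₀ x₀ x₁ i j) (py₁ x₀ x₁ i j) (py_compat x₀ x₁ h i j) y₀ y₁
      hg2 hg3 hy (vp i j) v' e
    rw [hn, Category.assoc, ← hw i j, ← Category.assoc, hg1]

variable (D) in
/-- transport of points of the disjoint union. -/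
noncomputable def tr (h : x₀ ≫ Sigma.desc f = x₁ ≫ Sigma.desc f) (v : Lifts (sobj D) x₀) :
    Lifts (sobj D) x₁ :=
  ⟨(exists_rel x₀ x₁ (v := v.1) v.2 h).choose, (exists_rel x₀ x₁ (v := v.1) v.2 h).choose_spec.1⟩

lemma tr_rel (h : x₀ ≫ Sigma.desc f = x₁ ≫ Sigma.desc f) (v : Lifts (sobj D) x₀) :
    Rel D x₀ x₁ v.1 (tr D x₀ x₁ h v).1 :=
  (exists_rel x₀ x₁ (v := v.1) v.2 h).choose_spec.2

lemma tr_eq_of_rel (h : x₀ ≫ Sigma.desc f = x₁ ≫ Sigma.desc f) (v : Lifts (sobj D) x₀)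
    (w : Lifts (sobj D) x₁) (hw : Rel D x₀ x₁ v.1 w.1) : tr D x₀ x₁ h v = w :=
  Subtype.ext (Rel.unique x₀ x₁ v.2 h (tr_rel x₀ x₁ h v) hw)

end Tr

section RelProps

variable {T : Scheme.{u}}

lemma hom_ext_cov {κ : Type u} {W : κ → Scheme.{u}} {Y : Scheme.{u}} (b : T ⟶ ∐ W) (a a' : T ⟶ Y)
    (h : ∀ k : κ, pullback.fst b (Sigma.ι W k) ≫ a = pullback.fst b (Sigma.ι W k) ≫ a') : a = a' :=
  (cov b).hom_ext a a' h

lemma Rel.symm {x₀ x₁ : T ⟶ ∐ X} {v w : T ⟶ ∐ fun i => (D.obj i).left} (hv : v ≫ sq D = x₀)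
    (hr : Rel D x₀ x₁ v w) : Rel D x₁ x₀ w v := by
  intro T' g j i y₁ y₀ hy h₁ h₀ w' hw'
  obtain ⟨v'', hv''⟩ := exists_lift D (g ≫ v) i y₀ (by rw [Category.assoc, hv, h₀])
  have h1 := hr g y₀ y₁ hy.symm h₀ h₁ v'' hv''
  have h2 : D.φ y₀ y₁ hy.symm v'' = w' :=
    Subtype.ext (by rw [← cancel_mono (Sigma.ι (fun i => (D.obj i).left) j), h1, hw'])
  have h3 : D.φ y₁ y₀ hy w' = v'' := by rw [← h2, D.φ_comp, D.φ_self]
  rw [h3, hv'']

lemma rel_self {x : T ⟶ ∐ X} (v : T ⟶ ∐ fun i => (D.obj i).left) : Rel D x x v v := by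
  intro T' g i j y₀ y₁ hy h₀ h₁ v' hv'
  by_cases hij : i = j
  · subst hij
    have : y₀ = y₁ := by rw [← cancel_mono (Sigma.ι X i), ← h₀, h₁]
    subst this
    rw [D.φ_self, hv']
  · have : IsEmpty T' := isEmpty_of_commSq_sigmaι_of_ne ⟨h₀.symm.trans h₁⟩ hij
    exact hom_ext_of_isEmpty _ _

lemma Rel.trans {x₀ x₁ x₂ : T ⟶ ∐ X} {v w z : T ⟶ ∐ fun i => (D.obj i).left}
    (h₀₁ : x₀ ≫ Sigma.desc f = x₁ ≫ Sigma.desc f)
    (r₁ : Rel D x₀ x₁ v w) (r₂ : Rel D x₁ x₂ w z) : Rel D x₀ x₂ v z := by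
  intro T' g i k y₀ y₂ hy h₀ h₂ v' hv'
  apply hom_ext_cov (g ≫ x₁)
  intro j
  obtain ⟨r, hr⟩ : ∃ r : pullback (g ≫ x₁) (Sigma.ι X j) ⟶ T',
      r = pullback.fst (g ≫ x₁) (Sigma.ι X j) := ⟨_, rfl⟩
  obtain ⟨y₁, hy₁⟩ : ∃ y₁ : pullback (g ≫ x₁) (Sigma.ι X j) ⟶ X j,
      y₁ = pullback.snd (g ≫ x₁) (Sigma.ι X j) := ⟨_, rfl⟩
  have hc : r ≫ g ≫ x₁ = y₁ ≫ Sigma.ι X j := by rw [hr, hy₁]; exact pullback.condition
  rw [← hr]
  have hy₀₁ : (r ≫ y₀) ≫ f i = y₁ ≫ f j := by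
    calc (r ≫ y₀) ≫ f i = r ≫ (y₀ ≫ Sigma.ι X i) ≫ Sigma.desc f := by
          rw [Category.assoc, Category.assoc, ι_desc']
      _ = r ≫ g ≫ x₁ ≫ Sigma.desc f := by rw [← h₀, Category.assoc, h₀₁]
      _ = (y₁ ≫ Sigma.ι X j) ≫ Sigma.desc f := by rw [← hc, Category.assoc, Category.assoc]
      _ = y₁ ≫ f j := by rw [Category.assoc, ι_desc']
  obtain ⟨v'', hv''⟩ : ∃ v'' : Lifts (D.obj i) (r ≫ y₀), v''.1 = r ≫ v'.1 :=
    ⟨⟨r ≫ v'.1, by rw [Category.assoc, v'.2]⟩, rfl⟩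
  have e1 := r₁ (r ≫ g) (r ≫ y₀) y₁ hy₀₁ (by rw [Category.assoc, h₀, Category.assoc])
    (by rw [Category.assoc]; exact hc) v'' (by rw [hv'', Category.assoc, hv', Category.assoc])
  have hy₁₂ : y₁ ≫ f j = (r ≫ y₂) ≫ f k :=
    hy₀₁.symm.trans (by rw [Category.assoc, Category.assoc, hy])
  have e2 := r₂ (r ≫ g) y₁ (r ≫ y₂) hy₁₂ (by rw [Category.assoc]; exact hc)
    (by rw [Category.assoc, h₂, Category.assoc]) (D.φ (r ≫ y₀) y₁ hy₀₁ v'') e1
  rw [D.φ_comp] at e2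
  have hn := D.φ_natural r y₀ y₂ hy (r ≫ y₀) (r ≫ y₂) rfl rfl (hy₀₁.trans hy₁₂) v' v'' hv''
  rw [← Category.assoc, ← hn, e2, Category.assoc]

end RelProps

variable (D) in
/-- the descent datum on the disjoint union relative to the morphism from the disjoint union of
the members of the family. -/
noncomputable def sigmaDD : SchDD (Sigma.desc f) where
  obj := sobj D
  φ T x₀ x₁ h :=
    { toFun := tr D x₀ x₁ h
      invFun := tr D x₁ x₀ h.symm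
      left_inv := fun v => tr_eq_of_rel _ _ _ _ _ ((tr_rel x₀ x₁ h v).symm v.2)
      right_inv := fun w => tr_eq_of_rel _ _ _ _ _ ((tr_rel x₁ x₀ h.symm w).symm w.2) }
  φ_natural T T' g x₀ x₁ h h' v v' hv' := by
    have hw : (g ≫ (tr D x₀ x₁ h v).1) ≫ (sobj D).hom = g ≫ x₁ := by
      rw [Category.assoc, (tr D x₀ x₁ h v).2]
    have := tr_eq_of_rel (g ≫ x₀) (g ≫ x₁) h' v' ⟨g ≫ (tr D x₀ x₁ h v).1, hw⟩
      (by rw [hv']; exact (tr_rel x₀ x₁ h v).precomp g)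
    exact congrArg Subtype.val this
  φ_self T x v := tr_eq_of_rel x x rfl v v (rel_self v.1)
  φ_comp T x₀ x₁ x₂ h₀₁ h₁₂ v :=
    (tr_eq_of_rel x₀ x₂ (h₀₁.trans h₁₂) v _
      (Rel.trans h₀₁ (tr_rel x₀ x₁ h₀₁ v) (tr_rel x₁ x₂ h₁₂ _))).symm

@[simp] lemma sigmaDD_obj : (sigmaDD D).obj = sobj D := rfl

/-- the characterization of the gluing bijections of the disjoint union. -/
lemma sigmaDD_φ_rel {T : Scheme.{u}} (x₀ x₁ : T ⟶ ∐ X)
    (h : x₀ ≫ Sigma.desc f = x₁ ≫ Sigma.desc f) (v : Lifts (sigmaDD D).obj x₀) :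
    Rel D x₀ x₁ v.1 ((sigmaDD D).φ x₀ x₁ h v).1 := tr_rel x₀ x₁ h v

section Beta

variable (D)

/-- points of a member are the points of the disjoint union over the corresponding component. -/
noncomputable def βEquiv {T : Scheme.{u}} {i : ι} (x : T ⟶ X i) :
    Lifts (D.obj i) x ≃ Lifts (sigmaDD D).obj (x ≫ Sigma.ι X i) where
  toFun w := ⟨w.1 ≫ Sigma.ι (fun i => (D.obj i).left) i, by
    change (w.1 ≫ Sigma.ι (fun i => (D.obj i).left) i) ≫ sq D = _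
    rw [Category.assoc, ι_sq, ← Category.assoc, w.2]⟩
  invFun v := (exists_lift D v.1 i x v.2).choose
  left_inv w := by
    have hw : (w.1 ≫ Sigma.ι (fun i => (D.obj i).left) i) ≫ sq D = x ≫ Sigma.ι X i := by
      rw [Category.assoc, ι_sq, ← Category.assoc, w.2]
    apply Subtype.ext
    rw [← cancel_mono (Sigma.ι (fun i => (D.obj i).left) i)]
    exact (exists_lift D (w.1 ≫ Sigma.ι (fun i => (D.obj i).left) i) i x hw).choose_spec
  right_inv v := Subtype.ext (exists_lift D v.1 i x v.2).choose_spec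

lemma βEquiv_val {T : Scheme.{u}} {i : ι} (x : T ⟶ X i) (w : Lifts (D.obj i) x) :
    (βEquiv D x w).1 = w.1 ≫ Sigma.ι (fun i => (D.obj i).left) i := rfl

lemma βEquiv_symm_val {T : Scheme.{u}} {i : ι} (x : T ⟶ X i)
    (v : Lifts (sigmaDD D).obj (x ≫ Sigma.ι X i)) :
    ((βEquiv D x).symm v).1 ≫ Sigma.ι (fun i => (D.obj i).left) i = v.1 :=
  (exists_lift D v.1 i x v.2).choose_spec

lemma βEquiv_φ {T : Scheme.{u}} {i j : ι} (x₀ : T ⟶ X i) (x₁ : T ⟶ X j)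
    (hy : x₀ ≫ f i = x₁ ≫ f j)
    (h : (x₀ ≫ Sigma.ι X i) ≫ Sigma.desc f = (x₁ ≫ Sigma.ι X j) ≫ Sigma.desc f)
    (w : Lifts (D.obj i) x₀) :
    (sigmaDD D).φ (x₀ ≫ Sigma.ι X i) (x₁ ≫ Sigma.ι X j) h (βEquiv D x₀ w) =
      βEquiv D x₁ (D.φ x₀ x₁ hy w) := by
  apply Subtype.ext
  have h1 := sigmaDD_φ_rel (x₀ ≫ Sigma.ι X i) (x₁ ≫ Sigma.ι X j) h (βEquiv D x₀ w) (𝟙 T) x₀ x₁ hy
    (Category.id_comp _) (Category.id_comp _) w (by rw [Category.id_comp]; rfl)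
  rw [Category.id_comp] at h1
  rw [← h1]
  rfl

end Beta

section Eff

variable (f) (U : Over S)

lemma γ_cond₁ {T : Scheme.{u}} {i : ι} (x : T ⟶ X i) (m : T ⟶ pullback (f i) U.hom)
    (e : m ≫ pullback.fst (f i) U.hom = x) :
    (x ≫ Sigma.ι X i) ≫ Sigma.desc f = (m ≫ pullback.snd (f i) U.hom) ≫ U.hom := by
  rw [Category.assoc, ι_desc', Category.assoc, ← pullback.condition, ← Category.assoc, e]

lemma γ_cond₂ {T : Scheme.{u}} {i : ι} (x : T ⟶ X i) (m : T ⟶ pullback (Sigma.desc f) U.hom)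
    (e : m ≫ pullback.fst (Sigma.desc f) U.hom = x ≫ Sigma.ι X i) :
    x ≫ f i = (m ≫ pullback.snd (Sigma.desc f) U.hom) ≫ U.hom := by
  rw [Category.assoc, ← pullback.condition, ← Category.assoc, e, Category.assoc, ι_desc']

/-- points of the canonical family datum are points of the canonical datum of the disjoint
union over the corresponding component. -/
noncomputable def γEquiv {T : Scheme.{u}} {i : ι} (x : T ⟶ X i) :
    Lifts (((toDDFam f).obj U).obj i) x ≃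
      Lifts ((toDD (Sigma.desc f)).obj U).obj (x ≫ Sigma.ι X i) where
  toFun v := ⟨pullback.lift (x ≫ Sigma.ι X i) (v.1 ≫ pullback.snd (f i) U.hom)
    (γ_cond₁ f U x v.1 v.2), pullback.lift_fst _ _ _⟩
  invFun v := ⟨pullback.lift x (v.1 ≫ pullback.snd (Sigma.desc f) U.hom) (γ_cond₂ f U x v.1 v.2),
    pullback.lift_fst _ _ _⟩
  left_inv v := by
    apply Subtype.ext
    apply pullback.hom_ext
    · exact (pullback.lift_fst _ _ _).trans v.2.symm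
    · exact (pullback.lift_snd _ _ _).trans (pullback.lift_snd _ _ _)
  right_inv v := by
    apply Subtype.ext
    apply pullback.hom_ext
    · exact (pullback.lift_fst _ _ _).trans v.2.symm
    · exact (pullback.lift_snd _ _ _).trans (pullback.lift_snd _ _ _)

lemma γEquiv_snd {T : Scheme.{u}} {i : ι} (x : T ⟶ X i)
    (v : Lifts (((toDDFam f).obj U).obj i) x) :
    (γEquiv f U x v).1 ≫ pullback.snd (Sigma.desc f) U.hom = v.1 ≫ pullback.snd (f i) U.hom :=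
  pullback.lift_snd _ _ _

lemma γEquiv_φ {T : Scheme.{u}} {i j : ι} (x₀ : T ⟶ X i) (x₁ : T ⟶ X j)
    (hy : x₀ ≫ f i = x₁ ≫ f j)
    (h : (x₀ ≫ Sigma.ι X i) ≫ Sigma.desc f = (x₁ ≫ Sigma.ι X j) ≫ Sigma.desc f)
    (v : Lifts (((toDDFam f).obj U).obj i) x₀) :
    ((toDD (Sigma.desc f)).obj U).φ (x₀ ≫ Sigma.ι X i) (x₁ ≫ Sigma.ι X j) h (γEquiv f U x₀ v) =
      γEquiv f U x₁ (((toDDFam f).obj U).φ x₀ x₁ hy v) := by
  apply Subtype.ext
  apply pullback.hom_ext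
  · exact ((((toDD (Sigma.desc f)).obj U).φ _ _ h (γEquiv f U x₀ v)).2).trans
      ((γEquiv f U x₁ (((toDDFam f).obj U).φ x₀ x₁ hy v)).2).symm
  · refine Eq.trans ?_ (γEquiv_snd f U x₁ _).symm
    change (canMap (Sigma.desc f) U _ _ h (γEquiv f U x₀ v)).1 ≫ _ =
      (canMapFam f U x₀ x₁ hy v).1 ≫ _
    exact (pullback.lift_snd _ _ _).trans ((γEquiv_snd f U x₀ v).trans
      (pullback.lift_snd _ _ _).symm)

end Eff

section L1

variable (D) {U : Over S} (e : (toDD (Sigma.desc f)).obj U ≅ sigmaDD D)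

/-- the bijection on points induced by an isomorphism of descent data. -/
noncomputable def EEquiv {T : Scheme.{u}} (y : T ⟶ ∐ X) :
    Lifts ((toDD (Sigma.desc f)).obj U).obj y ≃ Lifts (sigmaDD D).obj y where
  toFun v := e.hom.push v
  invFun v := e.inv.push v
  left_inv v := by
    apply Subtype.ext
    change (v.1 ≫ e.hom.hom.left) ≫ e.inv.hom.left = v.1
    have h1 : e.hom.hom.left ≫ e.inv.hom.left = 𝟙 _ := by
      have := congrArg (fun a => a.hom.left) e.hom_inv_id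
      exact this
    rw [Category.assoc, h1, Category.comp_id]
  right_inv v := by
    apply Subtype.ext
    change (v.1 ≫ e.inv.hom.left) ≫ e.hom.hom.left = v.1
    have h1 : e.inv.hom.left ≫ e.hom.hom.left = 𝟙 _ := by
      have := congrArg (fun a => a.hom.left) e.inv_hom_id
      exact this
    rw [Category.assoc, h1, Category.comp_id]

lemma EEquiv_val {T : Scheme.{u}} (y : T ⟶ ∐ X) (v : Lifts ((toDD (Sigma.desc f)).obj U).obj y) :
    (EEquiv D e y v).1 = v.1 ≫ e.hom.hom.left := rfl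

lemma EEquiv_φ {T : Scheme.{u}} (y₀ y₁ : T ⟶ ∐ X) (h : y₀ ≫ Sigma.desc f = y₁ ≫ Sigma.desc f)
    (v : Lifts ((toDD (Sigma.desc f)).obj U).obj y₀) :
    (sigmaDD D).φ y₀ y₁ h (EEquiv D e y₀ v) =
      EEquiv D e y₁ (((toDD (Sigma.desc f)).obj U).φ y₀ y₁ h v) :=
  Subtype.ext (e.hom.comm y₀ y₁ h v (EEquiv D e y₀ v) rfl)

lemma γEquiv_nat {T T' : Scheme.{u}} (g : T' ⟶ T) {i : ι} (x : T ⟶ X i)
    (v : Lifts (((toDDFam f).obj U).obj i) x) (v' : Lifts (((toDDFam f).obj U).obj i) (g ≫ x))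
    (hv' : v'.1 = g ≫ v.1) : (γEquiv f U (g ≫ x) v').1 = g ≫ (γEquiv f U x v).1 := by
  apply pullback.hom_ext
  · refine (pullback.lift_fst _ _ _).trans ?_
    refine Eq.trans ?_ (Category.assoc _ _ _).symm
    refine Eq.trans (Category.assoc _ _ _) ?_
    exact congrArg (g ≫ ·) (pullback.lift_fst _ _ _).symm
  · refine (pullback.lift_snd _ _ _).trans ?_
    refine Eq.trans ?_ (Category.assoc _ _ _).symm
    refine Eq.trans ?_ (congrArg (g ≫ ·) (pullback.lift_snd _ _ _).symm)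
    refine Eq.trans ?_ (Category.assoc _ _ _)
    exact congrArg (· ≫ pullback.snd (f i) U.hom) hv'

open Groth.Agent.Lib.Helper10.DescPull in
/-- the bijections on points between the canonical family datum and a family datum whose
disjoint union is effective. -/
noncomputable def liftsIso : LiftsIso ((toDDFam f).obj U) D where
  e T i x := (γEquiv f U x).trans ((EEquiv D e (x ≫ Sigma.ι X i)).trans (βEquiv D x).symm)
  nat T T' g i x y hy v v' hv' := by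
    subst hy
    rw [← cancel_mono (Sigma.ι (fun i => (D.obj i).left) i)]
    simp only [Equiv.trans_apply]
    refine Eq.trans ?_ (Category.assoc _ _ _).symm
    refine (βEquiv_symm_val D (g ≫ x) _).trans ?_
    refine Eq.trans ?_ (congrArg (g ≫ ·) (βEquiv_symm_val D x _).symm)
    refine (EEquiv_val D e _ _).trans ?_
    refine Eq.trans ?_ (congrArg (g ≫ ·) (EEquiv_val D e _ _).symm)
    refine Eq.trans ?_ (Category.assoc _ _ _)
    exact congrArg (· ≫ e.hom.hom.left) (γEquiv_nat (f := f) (U := U) g x v v' hv')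
  comm T i j x₀ x₁ h v := by
    have h' : (x₀ ≫ Sigma.ι X i) ≫ Sigma.desc f = (x₁ ≫ Sigma.ι X j) ≫ Sigma.desc f := by
      rw [Category.assoc, Category.assoc, ι_desc', ι_desc', h]
    simp only [Equiv.trans_apply]
    apply (βEquiv D x₁).injective
    rw [Equiv.apply_symm_apply, ← βEquiv_φ D x₀ x₁ h h', Equiv.apply_symm_apply]
    rw [← γEquiv_φ f U x₀ x₁ h h']
    exact EEquiv_φ D e _ _ h' _

include e in
/-- a family descent datum whose disjoint union is effective is effective. -/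
theorem isEffective_of_sigmaDD : D.IsEffective :=
  ⟨U, ⟨(liftsIso D e).iso⟩⟩

end L1

end Groth.Agent.Lib.Helper15SigmaDD
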