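-- helper15: a morphism to a coproduct of schemes is the coproduct of its pieces; the component squares of a coproduct of morphisms are cartesian.
import Mathlib
import Groth.Agent.Lib.Helper15SigmaPts

set_option autoImplicit false
open CategoryTheory CategoryTheory.Limits AlgebraicGeometry

universe w u

namespace Groth.Agent.Lib.Helper15SigmaExt

open Groth.Agent.Lib.Helper15SigmaPts

section L1

variable {κ : Type w} [Small.{u} κ] {W : κ → Scheme.{u}} {T : Scheme.{u}} (b : T ⟶ ∐ W)

/-- the comparison morphism from the coproduct of the pieces of the source of a morphism to a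
coproduct. -/
noncomputable def piecesDesc : (∐ fun k => pullback b (Sigma.ι W k)) ⟶ T :=
  Sigma.desc (fun k => pullback.fst b (Sigma.ι W k))

lemma piecesDesc_comp :
    piecesDesc b ≫ b = Limits.Sigma.map (fun k => pullback.snd b (Sigma.ι W k)) := by
  apply Sigma.hom_ext
  intro k
  rw [piecesDesc, ← Category.assoc, Sigma.ι_desc, Limits.Sigma.ι_map, pullback.condition]

instance isIso_piecesDesc : IsIso (piecesDesc b) := by
  obtain ⟨r, hr⟩ := exists_glue (cov b) (isDisj_cov b)
    (fun k => Sigma.ι (fun k => pullback b (Sigma.ι W k)) k)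
  have hr' : ∀ k, pullback.fst b (Sigma.ι W k) ≫ r =
      Sigma.ι (fun k => pullback b (Sigma.ι W k)) k := hr
  refine ⟨r, ?_, ?_⟩
  · apply Sigma.hom_ext
    intro k
    rw [piecesDesc, ← Category.assoc, Sigma.ι_desc, hr', Category.comp_id]
  · apply (cov b).hom_ext
    intro k
    change pullback.fst b (Sigma.ι W k) ≫ r ≫ piecesDesc b = pullback.fst b (Sigma.ι W k) ≫ 𝟙 _
    rw [← Category.assoc, hr', piecesDesc, Sigma.ι_desc, Category.comp_id]

/-- a morphism to a coproduct has a property respecting isomorphisms as soon as the coproduct of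
its pieces does. -/
lemma prop_of_pieces (P : MorphismProperty Scheme.{u}) [P.RespectsIso]
    (h : P (Limits.Sigma.map (fun k => pullback.snd b (Sigma.ι W k)))) : P b := by
  rw [← piecesDesc_comp] at h
  exact (P.cancel_left_of_respectsIso (piecesDesc b) b).1 h

end L1

section L2

variable {ι : Type w} [Small.{u} ι] {A B : ι → Scheme.{u}} (q : ∀ i, A i ⟶ B i)

lemma isPullback_sigmaMap (i : ι) :
    IsPullback (Sigma.ι A i) (q i) (Limits.Sigma.map q) (Sigma.ι B i) := by
  refine ⟨⟨Limits.Sigma.ι_map q i⟩, ⟨PullbackCone.IsLimit.mk _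
    (fun s => (exists_lift_of_sigmaMap q s.fst i s.snd s.condition).choose)
    (fun s => (exists_lift_of_sigmaMap q s.fst i s.snd s.condition).choose_spec.1)
    (fun s => (exists_lift_of_sigmaMap q s.fst i s.snd s.condition).choose_spec.2)
    (fun s m h1 h2 => ?_)⟩⟩
  rw [← cancel_mono (Sigma.ι A i), h1]
  exact (exists_lift_of_sigmaMap q s.fst i s.snd s.condition).choose_spec.1.symm

end L2

end Groth.Agent.Lib.Helper15SigmaExt
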