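-- helper15: the map from the coproduct of an fpqc covering family is an fpqc covering morphism.
import Mathlib

set_option autoImplicit false
open CategoryTheory CategoryTheory.Limits AlgebraicGeometry

universe u

namespace Groth.Agent.Lib.Helper15SigmaMem

variable {S : Scheme.{u}} {ι : Type u} {X : ι → Scheme.{u}} (f : ∀ i, X i ⟶ S)

/-- the family as a pre-0-hypercover. -/
def fam : PreZeroHypercover.{u} S := ⟨ι, X, f⟩

lemma presieve₀_fam : (fam f).presieve₀ = Presieve.ofArrows X f := rfl

/-- the refinement of the one-member family of the map from the coproduct by the family. -/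
noncomputable def famHom : (fam f).Hom (PreZeroHypercover.singleton.{u} (Sigma.desc f)) where
  s₀ _ := ⟨⟩
  h₀ i := Sigma.ι X i
  w₀ i := Sigma.ι_desc f i

theorem singleton_sigmaDesc_mem (hf : Presieve.ofArrows X f ∈ Scheme.fpqcPrecoverage S) :
    Presieve.singleton (Sigma.desc f) ∈ Scheme.fpqcPrecoverage S := by
  have h1 := hf.1
  have h2 := hf.2
  rw [← presieve₀_fam, Scheme.presieve₀_mem_qcPrecoverage_iff] at h1
  rw [Scheme.ofArrows_mem_precoverage_iff] at h2
  refine ⟨?_, ?_⟩
  · rw [← PreZeroHypercover.presieve₀_singleton.{u}, Scheme.presieve₀_mem_qcPrecoverage_iff]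
    exact QuasiCompactCover.of_hom (famHom f)
  · rw [Scheme.singleton_mem_precoverage_iff]
    refine ⟨fun x => ?_, ?_⟩
    · obtain ⟨i, y, hy⟩ := h2.1 x
      refine ⟨(Sigma.ι X i).base y, ?_⟩
      have : (Sigma.ι X i ≫ Sigma.desc f).base y = x := by rw [Sigma.ι_desc]; exact hy
      exact this
    · have : ∀ i, Flat (f i) := h2.2
      exact IsZariskiLocalAtSource.sigmaDesc (P := @Flat) (fun i => this i)

end Groth.Agent.Lib.Helper15SigmaMem
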