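-- helper15: effectivity of descent data relative to fpqc covering families from the case of flat surjective morphisms of affine schemes.
import Mathlib
import Groth.Prelude.Def_Desc
import Groth.Prelude.Def_DescFam
import Groth.Agent.Lib.Helper15SigmaDD
import Groth.Agent.Lib.Helper15SigmaExt
import Groth.Agent.Lib.Helper15SigmaMem
import Groth.Agent.Lib.Helper15DescCovFpqc
import Groth.Agent.Lib.Helper15DescFppf

set_option autoImplicit false
open CategoryTheory CategoryTheory.Limits AlgebraicGeometry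

universe u

namespace Groth.Agent.Lib.Helper15FamDesc

open Desc Groth.Agent.Lib.Helper15SigmaDD Groth.Agent.Lib.Helper15SigmaExt
  Groth.Agent.Lib.Helper15SigmaMem Groth.Agent.Lib.Helper15DescCovFpqc
  Groth.Agent.Lib.Helper15DescFppf Groth.Agent.Lib.Helper15DescRefine
  Groth.Agent.Lib.Helper15DescCov

/-- the local step: over an affine open of the base, the disjoint union datum becomes effective. -/
theorem local_effective (P : MorphismProperty Scheme.{u}) [P.IsStableUnderBaseChange]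
    (h2 : ∀ (m : ℕ) (Y V : Fin m → Scheme.{u}) (q : ∀ j, Y j ⟶ V j), (∀ j, P (q j)) →
      P (Limits.Sigma.map q))
    (h3 : ∀ (X S : Scheme.{u}) (p : X ⟶ S), IsAffine X → IsAffine S → Flat p → Surjective p →
      ∀ D : Desc.SchDD p, P D.obj.hom → ∃ U : Over S, Nonempty ((Desc.toDD p).obj U ≅ D))
    {ι : Type u} {S : Scheme.{u}} {U : ι → Scheme.{u}} (u : ∀ i, U i ⟶ S)
    (hu : Presieve.ofArrows U u ∈ Scheme.fpqcPrecoverage S) (D : Desc.SchDDFam u)
    (hD : ∀ i, P (D.obj i).hom) (S₀ : S.Opens) (hS₀ : IsAffineOpen S₀) :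
    ∃ U₀ : Over (S₀ : Scheme.{u}), Nonempty ((Desc.toDD (Sigma.desc u ∣_ S₀)).obj U₀ ≅
      pullDD (sigmaDD D) (Sigma.desc u ⁻¹ᵁ S₀).ι S₀.ι (Sigma.desc u ∣_ S₀)
        (isPullback_morphismRestrict (Sigma.desc u) S₀).flip.w) := by
  let σ : ∐ U ⟶ S := Sigma.desc u
  have hσ : σ = Sigma.desc u := rfl
  change ∃ U₀ : Over (S₀ : Scheme.{u}), Nonempty ((Desc.toDD (σ ∣_ S₀)).obj U₀ ≅
      pullDD (sigmaDD D) (σ ⁻¹ᵁ S₀).ι S₀.ι (σ ∣_ S₀)
        (isPullback_morphismRestrict σ S₀).flip.w)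
  have hσmem : Presieve.singleton σ ∈ Scheme.fpqcPrecoverage S := by
    rw [hσ]; exact singleton_sigmaDesc_mem u hu
  have hσflat : Flat σ := flat_of_mem σ hσmem
  have hqc : QuasiCompactCover (fam u) := by
    have h1 := hu.1
    rwa [← presieve₀_fam, Scheme.presieve₀_mem_qcPrecoverage_iff] at h1
  obtain ⟨n, α, V, hV, hcov⟩ := QuasiCompactCover.exists_isAffineOpen_of_isCompact (fam u)
    hS₀.isCompact
  obtain ⟨V', hV'⟩ : ∃ V' : ∀ k : Fin n, (U (α k)).Opens, ∀ k, V' k = V k :=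
    ⟨fun k => V k, fun k => rfl⟩
  have hV'aff : ∀ k, IsAffineOpen (V' k) := fun k => by rw [hV' k]; exact hV k
  have hcov' : ⋃ k, (u (α k)).base '' (V' k : Set (U (α k))) = (S₀ : Set S) := by
    rw [← hcov]
    congr 1
    funext k
    rw [hV' k]
    rfl
  have haffV : ∀ k, IsAffine ((V' k : (U (α k)).Opens) : Scheme.{u}) := fun k => hV'aff k
  have haffS : IsAffine (S₀ : Scheme.{u}) := hS₀
  -- the refinement
  let W : Fin n → Scheme.{u} := fun k => ((V' k : (U (α k)).Opens) : Scheme.{u})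
  let a : ∀ k, W k ⟶ ∐ U := fun k => (V' k).ι ≫ Sigma.ι U (α k)
  have ha : ∀ k, Set.range (a k).base ⊆ Set.range (σ ⁻¹ᵁ S₀).ι.base := by
    intro k
    rintro _ ⟨x, rfl⟩
    rw [Scheme.Opens.range_ι]
    change σ.base ((a k).base x) ∈ (S₀ : Set S)
    have e1 : σ.base ((a k).base x) = (u (α k)).base ((V' k).ι.base x) := by
      have : a k ≫ σ = (V' k).ι ≫ u (α k) := by
        rw [hσ, Category.assoc, Sigma.ι_desc]
      exact congrArg (fun m => m.base x) this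
    rw [e1, ← hcov']
    refine Set.mem_iUnion.2 ⟨k, (V' k).ι.base x, ?_, rfl⟩
    have h0 : Set.range (V' k).ι.base = (V' k : Set (U (α k))) := Scheme.Opens.range_ι (V' k)
    rw [← h0]
    exact ⟨x, rfl⟩
  let gk : ∀ k, W k ⟶ ((σ ⁻¹ᵁ S₀ : (∐ U).Opens) : Scheme.{u}) := fun k =>
    IsOpenImmersion.lift (σ ⁻¹ᵁ S₀).ι (a k) (ha k)
  have hgk : ∀ k, gk k ≫ (σ ⁻¹ᵁ S₀).ι = a k := fun k => IsOpenImmersion.lift_fac _ _ _
  have hgkoi : ∀ k, IsOpenImmersion (gk k) := fun k => by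
    have : IsOpenImmersion (gk k ≫ (σ ⁻¹ᵁ S₀).ι) := by rw [hgk]; infer_instance
    exact IsOpenImmersion.of_comp (gk k) (σ ⁻¹ᵁ S₀).ι
  obtain ⟨g, hg⟩ : ∃ g : (∐ W) ⟶ ((σ ⁻¹ᵁ S₀ : (∐ U).Opens) : Scheme.{u}), g = Sigma.desc gk :=
    ⟨_, rfl⟩
  have hιg : ∀ k, Sigma.ι W k ≫ g = gk k := fun k => by rw [hg, Sigma.ι_desc]
  have sq : IsPullback (σ ⁻¹ᵁ S₀).ι (σ ∣_ S₀) σ S₀.ι := (isPullback_morphismRestrict σ S₀).flip
  have hp₀flat : Flat (σ ∣_ S₀) := MorphismProperty.of_isPullback (P := @Flat) sq hσflat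
  have hgflat : Flat g := by
    rw [hg]; exact IsZariskiLocalAtSource.sigmaDesc (P := @Flat) (fun k => inferInstance)
  obtain ⟨p', hp'⟩ : ∃ p' : (∐ W) ⟶ (S₀ : Scheme.{u}), p' = g ≫ (σ ∣_ S₀) := ⟨_, rfl⟩
  have w : g ≫ (σ ∣_ S₀) = p' ≫ 𝟙 _ := by rw [hp', Category.comp_id]
  have hp'flat : Flat p' := by rw [hp']; infer_instance
  have hp'ι : ∀ k, Sigma.ι W k ≫ p' ≫ S₀.ι = (V' k).ι ≫ u (α k) := by
    intro k
    rw [hp', Category.assoc, ← sq.w, ← Category.assoc, ← Category.assoc, hιg, hgk]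
    change ((V' k).ι ≫ Sigma.ι U (α k)) ≫ σ = _
    rw [hσ, Category.assoc, Sigma.ι_desc]
  have hp'surj : Surjective p' := by
    refine ⟨fun s => ?_⟩
    have hs : S₀.ι.base s ∈ (S₀ : Set S) := by
      have h0 : Set.range S₀.ι.base = (S₀ : Set S) := Scheme.Opens.range_ι S₀
      rw [← h0]
      exact ⟨s, rfl⟩
    rw [← hcov'] at hs
    obtain ⟨k, x, hx, hxs⟩ := Set.mem_iUnion.1 hs
    obtain ⟨x', hx'⟩ : ∃ x' : W k, (V' k).ι.base x' = x := ⟨⟨x, hx⟩, rfl⟩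
    refine ⟨(Sigma.ι W k).base x', ?_⟩
    apply S₀.ι.isOpenEmbedding.injective
    have e1 : S₀.ι.base (p'.base ((Sigma.ι W k).base x')) =
        (Sigma.ι W k ≫ p' ≫ S₀.ι).base x' := rfl
    rw [e1, hp'ι, Scheme.Hom.comp_base, TopCat.comp_app, hx', hxs]
  have : IsAffine (∐ W) := inferInstance
  have hp'mem : Presieve.singleton p' ∈ Scheme.fpqcPrecoverage (S₀ : Scheme.{u}) :=
    p'.singleton_mem_fpqcPrecoverage
  -- the pulled back data
  let D₀ : Desc.SchDD (σ ∣_ S₀) := pullDD (sigmaDD D) (σ ⁻¹ᵁ S₀).ι S₀.ι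
    (σ ∣_ S₀) (isPullback_morphismRestrict σ S₀).flip.w
  let D' : Desc.SchDD p' := pullDD D₀ g (𝟙 _) p' w
  have hPD' : P D'.obj.hom := by
    apply prop_of_pieces (W := W) D'.obj.hom P
    apply h2
    intro k
    have sq1 := IsPullback.of_hasPullback D'.obj.hom (Sigma.ι W k)
    have sq2 : IsPullback (pr D₀ g (𝟙 _) p' w) D'.obj.hom D₀.obj.hom g :=
      isPullback_pr D₀ g (𝟙 _) p' w
    have sq3 : IsPullback (pr (sigmaDD D) (σ ⁻¹ᵁ S₀).ι S₀.ι (σ ∣_ S₀)
        (isPullback_morphismRestrict σ S₀).flip.w) D₀.obj.hom (sigmaDD D).obj.hom (σ ⁻¹ᵁ S₀).ι :=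
      isPullback_pr (sigmaDD D) (σ ⁻¹ᵁ S₀).ι S₀.ι (σ ∣_ S₀)
        (isPullback_morphismRestrict σ S₀).flip.w
    have big := (sq1.paste_horiz sq2).paste_horiz sq3
    have sq4 := isPullback_sigmaMap (fun i => (D.obj i).hom) (α k)
    have hbot : (Sigma.ι W k ≫ g) ≫ (σ ⁻¹ᵁ S₀).ι = (V' k).ι ≫ Sigma.ι U (α k) := by
      rw [hιg, hgk]
    have hsobj : (sigmaDD D).obj.hom = Limits.Sigma.map (fun i => (D.obj i).hom) := rfl
    rw [hbot, hsobj] at big
    have hw : ((pullback.fst D'.obj.hom (Sigma.ι W k) ≫ pr D₀ g (𝟙 _) p' w) ≫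
        pr (sigmaDD D) (σ ⁻¹ᵁ S₀).ι S₀.ι (σ ∣_ S₀) (isPullback_morphismRestrict σ S₀).flip.w) ≫
        Limits.Sigma.map (fun i => (D.obj i).hom) =
        (pullback.snd D'.obj.hom (Sigma.ι W k) ≫ (V' k).ι) ≫ Sigma.ι U (α k) := by
      rw [big.w, Category.assoc]
    have left := IsPullback.of_right (h₁₁ := sq4.lift _ _ hw) (by rwa [sq4.lift_fst])
      (sq4.lift_snd _ _ hw) sq4
    exact P.of_isPullback left (hD (α k))
  obtain ⟨U₀, ⟨e'⟩⟩ := h3 _ _ p' inferInstance haffS hp'flat hp'surj D' hPD'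
  exact ⟨U₀, effective_of_refinement' g p' w D₀ hp'mem U₀ e'⟩

/-- effectivity of family descent data along fpqc covering families, for a class of structure
morphisms stable under base change and finite disjoint unions for which effectivity holds for
flat surjective morphisms of affine schemes. -/
theorem effective_of_family (P : MorphismProperty Scheme.{u}) [P.IsStableUnderBaseChange]
    (h2 : ∀ (m : ℕ) (Y V : Fin m → Scheme.{u}) (q : ∀ j, Y j ⟶ V j), (∀ j, P (q j)) →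
      P (Limits.Sigma.map q))
    (h3 : ∀ (X S : Scheme.{u}) (p : X ⟶ S), IsAffine X → IsAffine S → Flat p → Surjective p →
      ∀ D : Desc.SchDD p, P D.obj.hom → ∃ U : Over S, Nonempty ((Desc.toDD p).obj U ≅ D))
    {ι : Type u} {S : Scheme.{u}} {U : ι → Scheme.{u}} (u : ∀ i, U i ⟶ S)
    (hu : Presieve.ofArrows U u ∈ Scheme.fpqcPrecoverage S) (D : Desc.SchDDFam u)
    (hD : ∀ i, P (D.obj i).hom) : D.IsEffective := by
  have hσmem : Presieve.singleton (Sigma.desc u) ∈ Scheme.fpqcPrecoverage S :=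
    singleton_sigmaDesc_mem u hu
  have : DescCover (Sigma.desc u) := descCover_of_mem _ hσmem
  obtain ⟨Uo, ⟨e⟩⟩ := effective_of_local_base (Sigma.desc u) (sigmaDD D)
    (fun S₀ hS₀ => local_effective P h2 h3 u hu D hD S₀ hS₀)
  exact isEffective_of_sigmaDD D e

end Groth.Agent.Lib.Helper15FamDesc
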