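-- helper15: the groupoid scheme attached to a descent datum for schemes; stable opens from invariant opens; a stable open between quasi-compact opens.
import Mathlib
import Groth.Prelude.Def_Desc
import Groth.Prelude.Def_Grpd
import Groth.Agent.Lib.Helper15AffDescCore
import Groth.Agent.Lib.Helper15DescGlueA
import Groth.Agent.Lib.Helper15DescSat
import Groth.Agent.S1893
import Groth.Agent.S1894

set_option autoImplicit false
set_option linter.unusedSectionVars false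
open CategoryTheory CategoryTheory.Limits AlgebraicGeometry

universe u

namespace Groth.Agent.Lib.Helper15DDGrpd

open Desc Groth.Agent.Lib.Helper15AffDescCore Groth.Agent.Lib.Helper15DescGlueA
  Groth.Agent.Lib.Helper15DescSat

variable {X S : Scheme.{u}} {p : X ⟶ S} (D : Desc.SchDD p)

/-- a point of `V ×_S X` from its two components. -/
noncomputable def mkW {T : Scheme.{u}} (v : T ⟶ D.obj.left) (x : T ⟶ X)
    (h : (v ≫ D.obj.hom) ≫ p = x ≫ p) : T ⟶ W D :=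
  pullback.lift v x (by rw [← Category.assoc]; exact h)

lemma mkW_w₁ {T : Scheme.{u}} (v : T ⟶ D.obj.left) (x : T ⟶ X)
    (h : (v ≫ D.obj.hom) ≫ p = x ≫ p) : mkW D v x h ≫ w₁ D = v := pullback.lift_fst _ _ _

lemma mkW_w₂ {T : Scheme.{u}} (v : T ⟶ D.obj.left) (x : T ⟶ X)
    (h : (v ≫ D.obj.hom) ≫ p = x ≫ p) : mkW D v x h ≫ w₂ D = x := pullback.lift_snd _ _ _

lemma mkW_ψ {T : Scheme.{u}} (v : T ⟶ D.obj.left) (x : T ⟶ X)
    (h : (v ≫ D.obj.hom) ≫ p = x ≫ p) : mkW D v x h ≫ ψ D = tr D x v h := by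
  rw [comp_ψ]
  exact tr_eq D (mkW_w₂ D v x h) (mkW_w₁ D v x h) _ _

lemma w_hom_ext {T : Scheme.{u}} {a b : T ⟶ W D} (h1 : a ≫ w₁ D = b ≫ w₁ D)
    (h2 : a ≫ w₂ D = b ≫ w₂ D) : a = b := pullback.hom_ext h1 h2

lemma comp_cond {T : Scheme.{u}} (α β : T ⟶ W D) (h : α ≫ w₁ D = β ≫ ψ D) :
    ((β ≫ w₁ D) ≫ D.obj.hom) ≫ p = (α ≫ w₂ D) ≫ p := by
  calc ((β ≫ w₁ D) ≫ D.obj.hom) ≫ p = (β ≫ w₂ D) ≫ p := comp_ψ_cond D β
    _ = ((β ≫ ψ D) ≫ D.obj.hom) ≫ p := by rw [Category.assoc β (ψ D), ψ_hom]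
    _ = ((α ≫ w₁ D) ≫ D.obj.hom) ≫ p := by rw [h]
    _ = (α ≫ w₂ D) ≫ p := comp_ψ_cond D α

/-- composition of the groupoid attached to a descent datum. -/
noncomputable def cc : pullback (w₁ D) (ψ D) ⟶ W D :=
  mkW D (pullback.snd (w₁ D) (ψ D) ≫ w₁ D) (pullback.fst (w₁ D) (ψ D) ≫ w₂ D)
    (comp_cond D _ _ pullback.condition)

lemma lift_cc {T : Scheme.{u}} (α β : T ⟶ W D) (h : α ≫ w₁ D = β ≫ ψ D) :
    pullback.lift α β h ≫ cc D = mkW D (β ≫ w₁ D) (α ≫ w₂ D) (comp_cond D α β h) := by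
  apply w_hom_ext
  · rw [Category.assoc, cc, mkW_w₁, mkW_w₁, ← Category.assoc, pullback.lift_snd]
  · rw [Category.assoc, cc, mkW_w₂, mkW_w₂, ← Category.assoc, pullback.lift_fst]

/-- the groupoid scheme attached to a descent datum for schemes. -/
noncomputable def grpd : Grpd.GroupoidScheme S where
  U := D.obj.left
  R := W D
  pU := D.obj.hom ≫ p
  pR := w₁ D ≫ D.obj.hom ≫ p
  s := w₁ D
  t := ψ D
  e := σ D
  i := τ D
  c := cc D
  s_over := rfl
  t_over := by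
    rw [← Category.assoc, ψ_hom]
    exact (w_cond D).symm.trans (Category.assoc _ _ _)
  comp_s α β h := by
    rw [lift_cc, mkW_w₁]
  comp_t α β h := by
    rw [lift_cc, mkW_ψ]
    have e1 : α ≫ ψ D = tr D (α ≫ w₂ D) (α ≫ w₁ D) (comp_ψ_cond D α) := comp_ψ D α
    rw [e1]
    have e2 : β ≫ ψ D = tr D (β ≫ w₂ D) (β ≫ w₁ D) (comp_ψ_cond D β) := comp_ψ D β
    have h3 : (β ≫ w₂ D) ≫ p = (α ≫ w₂ D) ≫ p := by
      rw [← comp_ψ_cond D β]; exact comp_cond D α β h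
    have e3 := tr_tr D (β ≫ w₂ D) (α ≫ w₂ D) (β ≫ w₁ D) (comp_ψ_cond D β) h3
    rw [← e3]
    exact tr_eq D rfl (e2.symm.trans h.symm) _ _
  assoc α β γ h₁ h₂ := by
    rw [lift_cc D (pullback.lift α β h₁ ≫ cc D) γ, lift_cc D α (pullback.lift β γ h₂ ≫ cc D)]
    apply w_hom_ext
    · rw [mkW_w₁, mkW_w₁, lift_cc, mkW_w₁]
    · rw [mkW_w₂, mkW_w₂, lift_cc, mkW_w₂]
  e_s := σ_w₁ D
  e_t := σ_ψ D
  comp_e α := by
    rw [lift_cc]
    apply w_hom_ext
    · rw [mkW_w₁, Category.assoc, Category.assoc, σ_w₁, Category.comp_id]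
    · rw [mkW_w₂]
  e_comp α := by
    rw [lift_cc]
    apply w_hom_ext
    · rw [mkW_w₁]
    · rw [mkW_w₂, Category.assoc, Category.assoc, σ_w₂, ψ_hom]
  i_s := τ_w₁ D
  i_t := τ_ψ D
  comp_i α := by
    rw [lift_cc]
    apply w_hom_ext
    · rw [mkW_w₁, Category.assoc, τ_w₁, Category.assoc, Category.assoc, σ_w₁, Category.comp_id]
    · rw [mkW_w₂, Category.assoc, Category.assoc, σ_w₂, ψ_hom]
  i_comp α := by
    rw [lift_cc]
    apply w_hom_ext
    · rw [mkW_w₁, Category.assoc, Category.assoc, σ_w₁, Category.comp_id]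
    · rw [mkW_w₂, Category.assoc, τ_w₂, Category.assoc, Category.assoc, σ_w₂]

@[simp] lemma grpd_U : (grpd D).U = D.obj.left := rfl
@[simp] lemma grpd_R : (grpd D).R = W D := rfl
@[simp] lemma grpd_s : (grpd D).s = w₁ D := rfl
@[simp] lemma grpd_t : (grpd D).t = ψ D := rfl

instance flat_w₁ [Flat p] : Flat (w₁ D) := by unfold w₁; infer_instance
instance quasiCompact_w₁ [QuasiCompact p] : QuasiCompact (w₁ D) := by unfold w₁; infer_instance

lemma ψ_eq : ψ D = τ D ≫ w₁ D := (τ_w₁ D).symm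

instance flat_ψ [Flat p] : Flat (ψ D) := by rw [ψ_eq]; infer_instance
instance quasiCompact_ψ [QuasiCompact p] : QuasiCompact (ψ D) := by rw [ψ_eq]; infer_instance

instance [Flat p] : Flat (grpd D).s := flat_w₁ D
instance [Flat p] : Flat (grpd D).t := flat_ψ D
instance [QuasiCompact p] : QuasiCompact (grpd D).s := quasiCompact_w₁ D
instance [QuasiCompact p] : QuasiCompact (grpd D).t := quasiCompact_ψ D

/-- an open subset invariant under the groupoid is stable under the descent datum. -/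
lemma stable_of_invariant (O : D.obj.left.Opens) (h : w₁ D ⁻¹ᵁ O = ψ D ⁻¹ᵁ O) : Stable D O := by
  intro T x₀ x₁ hx v hv
  rw [φ_eq_tr]
  have hc : (v.1 ≫ D.obj.hom) ≫ p = x₁ ≫ p := by rw [v.2]; exact hx
  rw [← mkW_ψ D v.1 x₁ hc]
  rintro _ ⟨z, rfl⟩
  have hz : (mkW D v.1 x₁ hc).base z ∈ w₁ D ⁻¹ᵁ O := by
    change (w₁ D).base ((mkW D v.1 x₁ hc).base z) ∈ O
    have : (mkW D v.1 x₁ hc ≫ w₁ D).base z ∈ O := by
      rw [mkW_w₁]; exact hv ⟨z, rfl⟩
    exact this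
  rw [h] at hz
  exact hz

/-- the transport of a point of an open subset lies in its saturation. -/
lemma tr_mem_sat (O' : D.obj.left.Opens) {T : Scheme.{u}} (x : T ⟶ X) (v : T ⟶ D.obj.left)
    (h : (v ≫ D.obj.hom) ≫ p = x ≫ p) (hv : Set.range v.base ⊆ (O' : Set D.obj.left)) :
    Set.range (tr D x v h).base ⊆ (ψ D).base '' ((w₁ D).base ⁻¹' (O' : Set D.obj.left)) := by
  rw [← mkW_ψ D v x h]
  rintro _ ⟨z, rfl⟩
  refine ⟨(mkW D v x h).base z, ?_, rfl⟩
  change (w₁ D).base ((mkW D v x h).base z) ∈ O'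
  have : (mkW D v x h ≫ w₁ D).base z ∈ O' := by
    rw [mkW_w₁]; exact hv ⟨z, rfl⟩
  exact this

/-- around a quasi-compact open of the scheme of a descent datum along a flat quasi-compact
morphism there is a stable open contained in a quasi-compact open, whose saturation lies in another
quasi-compact open. -/
theorem exists_stable_between [Flat p] [QuasiCompact p] [QuasiSeparatedSpace D.obj.left]
    (O₀ : D.obj.left.Opens) (hO₀ : IsCompact (O₀ : Set D.obj.left)) :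
    ∃ O O' O'' : D.obj.left.Opens, Stable D O ∧ O₀ ≤ O ∧ O ≤ O' ∧
      IsCompact (O' : Set D.obj.left) ∧ IsCompact (O'' : Set D.obj.left) ∧
      (ψ D).base '' ((w₁ D).base ⁻¹' (O' : Set D.obj.left)) ⊆ (O'' : Set D.obj.left) := by
  have hqs : QuasiSeparatedSpace (grpd D).U := ‹QuasiSeparatedSpace D.obj.left›
  obtain ⟨O, O', hinv, hO'c, h1, h2⟩ : ∃ O O' : D.obj.left.Opens, w₁ D ⁻¹ᵁ O = ψ D ⁻¹ᵁ O ∧
      IsCompact (O' : Set D.obj.left) ∧ O₀ ≤ O ∧ O ≤ O' :=
    Groth.Agent.S1894.result S (grpd D) O₀ hO₀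
  have hK : IsCompact ((ψ D).base '' ((w₁ D).base ⁻¹' (O' : Set D.obj.left))) := by
    have hc : IsCompact ((w₁ D).base ⁻¹' (O' : Set D.obj.left)) :=
      QuasiCompact.isCompact_preimage (f := w₁ D) _ O'.2 hO'c
    exact hc.image (ψ D).continuous
  obtain ⟨O'', hO''c, hsub, -⟩ := Groth.Agent.S1893.exists_compact_open_between D.obj.left _
    Set.univ hK isOpen_univ (Set.subset_univ _)
  exact ⟨O, O', O'', stable_of_invariant D O hinv, h1, h2, hO'c, hO''c, hsub⟩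

end Groth.Agent.Lib.Helper15DDGrpd
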