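-- helper15: a descent datum openly immersed (compatibly, invariantly) in a pulled back scheme is effective
import Mathlib
import Groth.Prelude.Def_Desc
import Groth.Agent.Lib.Helper15AffDescCore

set_option autoImplicit false
set_option linter.unusedSectionVars false
open CategoryTheory CategoryTheory.Limits AlgebraicGeometry

universe u

namespace Groth.Agent.Lib.Helper15DescOpenImm

open Desc Groth.Agent.Lib.Helper15AffDescCore

variable {X S : Scheme.{u}} {p : X ⟶ S} (D : Desc.SchDD p) (U₁ : Over S)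
  (κ : D.obj.left ⟶ pullback p U₁.hom) [IsOpenImmersion κ]
  (hκ : κ ≫ pullback.fst p U₁.hom = D.obj.hom)
  (hinv : ∀ ⦃T : Scheme.{u}⦄ (x₁ : T ⟶ X) (v : T ⟶ D.obj.left)
    (h : (v ≫ D.obj.hom) ≫ p = x₁ ≫ p),
      tr D x₁ v h ≫ κ ≫ pullback.snd p U₁.hom = v ≫ κ ≫ pullback.snd p U₁.hom)

include hκ hinv in
/-- the range of the open immersion is saturated with respect to the second projection. -/
lemma mem_range_of_mem_image (z : ↥(pullback p U₁.hom))
    (hz : (pullback.snd p U₁.hom).base z ∈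
      (pullback.snd p U₁.hom).base '' Set.range κ.base) :
    z ∈ Set.range κ.base := by
  obtain ⟨_, ⟨y, rfl⟩, hzz'⟩ := hz
  obtain ⟨t, ht1, ht2⟩ := Scheme.Pullback.exists_preimage_pullback
    (f := pullback.snd p U₁.hom) (g := pullback.snd p U₁.hom) z (κ.base y) hzz'.symm
  obtain ⟨τ, hτ⟩ : ∃ τ, τ = (pullback (pullback.snd p U₁.hom)
    (pullback.snd p U₁.hom)).fromSpecResidueField t := ⟨_, rfl⟩
  obtain ⟨a, ha⟩ : ∃ a, a = τ ≫ pullback.fst (pullback.snd p U₁.hom) (pullback.snd p U₁.hom) :=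
    ⟨_, rfl⟩
  obtain ⟨b, hb⟩ : ∃ b, b = τ ≫ pullback.snd (pullback.snd p U₁.hom) (pullback.snd p U₁.hom) :=
    ⟨_, rfl⟩
  have hab : a ≫ pullback.snd p U₁.hom = b ≫ pullback.snd p U₁.hom := by
    rw [ha, hb, Category.assoc, Category.assoc, pullback.condition]
  have hrb : Set.range b.base ⊆ Set.range κ.base := by
    rw [hb, Scheme.Hom.comp_base, TopCat.coe_comp, Set.range_comp, hτ,
      Scheme.range_fromSpecResidueField, Set.image_singleton, Set.singleton_subset_iff, ht2]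
    exact ⟨y, rfl⟩
  obtain ⟨b₀, hb₀⟩ : ∃ b₀ : _ ⟶ D.obj.left, b₀ ≫ κ = b :=
    ⟨IsOpenImmersion.lift κ b hrb, IsOpenImmersion.lift_fac _ _ _⟩
  have h : (b₀ ≫ D.obj.hom) ≫ p = (a ≫ pullback.fst p U₁.hom) ≫ p := by
    have e1 : b₀ ≫ D.obj.hom = b ≫ pullback.fst p U₁.hom := by
      rw [← hκ, ← Category.assoc, hb₀]
    rw [e1, Category.assoc, Category.assoc, pullback.condition,
      ← Category.assoc, ← Category.assoc, hab]
  have hc1 : tr D (a ≫ pullback.fst p U₁.hom) b₀ h ≫ D.obj.hom = a ≫ pullback.fst p U₁.hom :=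
    tr_hom D _ _ h
  have hc2 := hinv (a ≫ pullback.fst p U₁.hom) b₀ h
  have hca : tr D (a ≫ pullback.fst p U₁.hom) b₀ h ≫ κ = a := by
    apply pullback.hom_ext
    · rw [Category.assoc, hκ, hc1]
    · rw [Category.assoc, hc2, ← Category.assoc, hb₀, hab]
  obtain ⟨s₀⟩ : Nonempty (Spec ((pullback (pullback.snd p U₁.hom)
    (pullback.snd p U₁.hom)).residueField t)) := inferInstance
  refine ⟨(tr D (a ≫ pullback.fst p U₁.hom) b₀ h).base s₀, ?_⟩
  rw [← Scheme.Hom.comp_apply, hca, ha, Scheme.Hom.comp_apply, hτ,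
    Scheme.fromSpecResidueField_apply, ht1]

variable [Flat p] [Surjective p] [QuasiCompact p]

include hκ hinv in
lemma isOpen_image :
    IsOpen ((pullback.snd p U₁.hom).base '' Set.range κ.base) := by
  rw [← (Flat.isQuotientMap_of_surjective (pullback.snd p U₁.hom)).isOpen_preimage]
  have e : (pullback.snd p U₁.hom).base ⁻¹' ((pullback.snd p U₁.hom).base '' Set.range κ.base) =
      Set.range κ.base :=
    Set.Subset.antisymm (fun z hz => mem_range_of_mem_image D U₁ κ hκ hinv z hz)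
      (fun z hz => ⟨z, hz, rfl⟩)
  rw [e]
  exact κ.isOpenEmbedding.isOpen_range

/-- the descended open subscheme. -/
noncomputable def Ω : U₁.left.Opens :=
  ⟨(pullback.snd p U₁.hom).base '' Set.range κ.base, isOpen_image D U₁ κ hκ hinv⟩

lemma range_subset : Set.range (κ ≫ pullback.snd p U₁.hom).base ⊆
    Set.range (Ω D U₁ κ hκ hinv).ι.base := by
  rintro _ ⟨y, rfl⟩
  rw [Scheme.Opens.range_ι]
  exact ⟨κ.base y, ⟨y, rfl⟩, rfl⟩

/-- the invariant morphism to the descended scheme -/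
noncomputable def qW : D.obj.left ⟶ (Ω D U₁ κ hκ hinv : Scheme.{u}) :=
  IsOpenImmersion.lift (Ω D U₁ κ hκ hinv).ι (κ ≫ pullback.snd p U₁.hom)
    (range_subset D U₁ κ hκ hinv)

lemma qW_ι : qW D U₁ κ hκ hinv ≫ (Ω D U₁ κ hκ hinv).ι = κ ≫ pullback.snd p U₁.hom :=
  IsOpenImmersion.lift_fac _ _ _

/-- the descended scheme -/
noncomputable def UW : Over S := Over.mk ((Ω D U₁ κ hκ hinv).ι ≫ U₁.hom)

lemma isPullback_top : IsPullback κ (qW D U₁ κ hκ hinv) (pullback.snd p U₁.hom)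
    (Ω D U₁ κ hκ hinv).ι := by
  refine ⟨⟨by rw [qW_ι]⟩, ⟨PullbackCone.IsLimit.mk _ (fun c => IsOpenImmersion.lift
    κ c.fst ?_) (fun c => IsOpenImmersion.lift_fac _ _ _) (fun c => ?_)
    (fun c m hm₁ _ => ?_)⟩⟩
  · rintro _ ⟨t, rfl⟩
    apply mem_range_of_mem_image D U₁ κ hκ hinv
    have h1 : (pullback.snd p U₁.hom).base (c.fst.base t) =
        (Ω D U₁ κ hκ hinv).ι.base (c.snd.base t) := by
      rw [← Scheme.Hom.comp_apply, ← Scheme.Hom.comp_apply, c.condition]
    rw [h1]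
    have := (c.snd.base t).2
    exact this
  · rw [← cancel_mono (Ω D U₁ κ hκ hinv).ι, Category.assoc, qW_ι, ← Category.assoc,
      IsOpenImmersion.lift_fac, c.condition]
  · rw [← cancel_mono κ, hm₁, IsOpenImmersion.lift_fac]

lemma isPullback_qW : IsPullback D.obj.hom (qW D U₁ κ hκ hinv) p (UW D U₁ κ hκ hinv).hom := by
  have := (isPullback_top D U₁ κ hκ hinv).paste_horiz (IsPullback.of_hasPullback p U₁.hom)
  rwa [hκ] at this

lemma tr_qW {T : Scheme.{u}} (x₁ : T ⟶ X) (v : T ⟶ D.obj.left)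
    (h : (v ≫ D.obj.hom) ≫ p = x₁ ≫ p) :
    tr D x₁ v h ≫ qW D U₁ κ hκ hinv = v ≫ qW D U₁ κ hκ hinv := by
  rw [← cancel_mono (Ω D U₁ κ hκ hinv).ι, Category.assoc, Category.assoc, qW_ι]
  exact hinv x₁ v h

include hκ hinv in
/-- A descent datum whose scheme is openly immersed, compatibly and invariantly, in a pulled
back scheme is effective. -/
theorem exists_effective : ∃ U : Over S, Nonempty ((Desc.toDD p).obj U ≅ D) :=
  ⟨UW D U₁ κ hκ hinv,
    nonempty_iso_of_invariant D (UW D U₁ κ hκ hinv) (qW D U₁ κ hκ hinv)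
      (isPullback_qW D U₁ κ hκ hinv) (fun _ x₁ v h => tr_qW D U₁ κ hκ hinv x₁ v h)⟩

end Groth.Agent.Lib.Helper15DescOpenImm
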