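-- helper15: flat base change preserves equalizers of rings, in pushout form.
import Mathlib
import Groth.Agent.Lib.Helper15AffDescAlg

set_option autoImplicit false
open CategoryTheory CategoryTheory.Limits TensorProduct

universe u

namespace Groth.Agent.Lib.Helper15FlatEq

open Groth.Agent.Lib.Helper15AffDescAlg

/-- flat base change preserves equalizers of ring maps: if `C` is the equalizer of `d₁, d₂ : B ⟶ G`
over `R` and `A` is flat over `R`, then `A ⊗ C` is the equalizer of `A ⊗ B ⇉ A ⊗ G`, the tensor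
products being given as pushouts. -/
theorem flat_equalizer {R A B G C QB QG QC : CommRingCat.{u}} (f : R ⟶ A) (hflat : f.hom.Flat)
    (gB : R ⟶ B) (d₁ d₂ : B ⟶ G) (hd : gB ≫ d₁ = gB ≫ d₂)
    (jC : R ⟶ C) (ιC : C ⟶ B) (hjι : jC ≫ ιC = gB) (hι_inj : Function.Injective ιC)
    (hι_range : ∀ b, d₁ b = d₂ b ↔ ∃ c, ιC c = b)
    (aB : A ⟶ QB) (bB : B ⟶ QB) (hQB : IsPushout f gB aB bB)
    (aG : A ⟶ QG) (bG : G ⟶ QG) (hQG : IsPushout f (gB ≫ d₁) aG bG)
    (aC : A ⟶ QC) (bC : C ⟶ QC) (hQC : IsPushout f jC aC bC)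
    (ζ : QC ⟶ QB) (hζa : aC ≫ ζ = aB) (hζb : bC ≫ ζ = ιC ≫ bB)
    (α β : QB ⟶ QG) (hαa : aB ≫ α = aG) (hαb : bB ≫ α = d₁ ≫ bG)
    (hβa : aB ≫ β = aG) (hβb : bB ≫ β = d₂ ≫ bG) :
    Function.Injective ζ ∧ ∀ F, α F = β F ↔ ∃ F', ζ F' = F := by
  let : Algebra R A := f.hom.toAlgebra
  let : Algebra R B := gB.hom.toAlgebra
  let : Algebra R C := jC.hom.toAlgebra
  let : Algebra R G := (gB ≫ d₁).hom.toAlgebra
  have : Module.Flat R A := hflat
  let ιa : C →ₐ[R] B := { ιC.hom with commutes' := fun r => congr($hjι r) }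
  let d₁a : B →ₐ[R] G := { d₁.hom with commutes' := fun r => rfl }
  let d₂a : B →ₐ[R] G := { d₂.hom with commutes' := fun r => (congr($hd r)).symm }
  obtain ⟨κB, hκB⟩ := exists_ringEquiv_of_isPushout R A B (X := QB) (a := aB) (b := bB) hQB
  obtain ⟨κG, hκG⟩ := exists_ringEquiv_of_isPushout R A G (X := QG) (a := aG) (b := bG) hQG
  obtain ⟨κC, hκC⟩ := exists_ringEquiv_of_isPushout R A C (X := QC) (a := aC) (b := bC) hQC
  let δ : B →ₗ[R] G := d₁a.toLinearMap - d₂a.toLinearMap
  have hexact : Function.Exact ιa.toLinearMap δ := by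
    intro b
    change d₁ b - d₂ b = 0 ↔ b ∈ Set.range ιC
    rw [sub_eq_zero, hι_range b]
    rfl
  have hF1 : Function.Injective (ιa.toLinearMap.lTensor A) :=
    Module.Flat.lTensor_preserves_injective_linearMap _ hι_inj
  have hF2 := Module.Flat.lTensor_exact A hexact
  have K1 : ∀ y : A ⊗[R] B, α (κB y) = κG (d₁a.toLinearMap.lTensor A y) := by
    intro y
    induction y using TensorProduct.induction_on with
    | zero => simp
    | tmul a b =>
      rw [hκB, map_mul, LinearMap.lTensor_tmul, hκG]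
      have e1 : α (aB a) = aG a := congr($hαa a)
      have e2 : α (bB b) = bG (d₁ b) := congr($hαb b)
      rw [e1, e2]; rfl
    | add x y hx hy => simp only [map_add, hx, hy]
  have K1' : ∀ y : A ⊗[R] B, β (κB y) = κG (d₂a.toLinearMap.lTensor A y) := by
    intro y
    induction y using TensorProduct.induction_on with
    | zero => simp
    | tmul a b =>
      rw [hκB, map_mul, LinearMap.lTensor_tmul, hκG]
      have e1 : β (aB a) = aG a := congr($hβa a)
      have e2 : β (bB b) = bG (d₂ b) := congr($hβb b)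
      rw [e1, e2]; rfl
    | add x y hx hy => simp only [map_add, hx, hy]
  have K2 : ∀ z : A ⊗[R] C, ζ (κC z) = κB (ιa.toLinearMap.lTensor A z) := by
    intro z
    induction z using TensorProduct.induction_on with
    | zero => simp
    | tmul a c =>
      rw [hκC, map_mul, LinearMap.lTensor_tmul, hκB]
      have e1 : ζ (aC a) = aB a := congr($hζa a)
      have e2 : ζ (bC c) = bB (ιC c) := congr($hζb c)
      rw [e1, e2]; rfl
    | add x y hx hy => simp only [map_add, hx, hy]
  refine ⟨?_, fun F => ⟨fun hF => ?_, ?_⟩⟩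
  · intro z z' hz
    obtain ⟨y, rfl⟩ := κC.surjective z
    obtain ⟨y', rfl⟩ := κC.surjective z'
    rw [K2, K2] at hz
    rw [hF1 (κB.injective hz)]
  · obtain ⟨y, rfl⟩ := κB.surjective F
    have h0 : δ.lTensor A y = 0 := by
      have : δ.lTensor A = d₁a.toLinearMap.lTensor A - d₂a.toLinearMap.lTensor A :=
        LinearMap.lTensor_sub _ _
      rw [this, LinearMap.sub_apply, sub_eq_zero]
      apply κG.injective
      rw [← K1, ← K1']
      exact hF
    obtain ⟨z, hz⟩ := (hF2 _).1 h0
    exact ⟨κC z, by rw [K2, hz]⟩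
  · rintro ⟨F', rfl⟩
    obtain ⟨z, rfl⟩ := κC.surjective F'
    rw [K2, K1, K1']
    congr 1
    induction z using TensorProduct.induction_on with
    | zero => simp
    | tmul a c =>
      rw [LinearMap.lTensor_tmul, LinearMap.lTensor_tmul, LinearMap.lTensor_tmul]
      congr 1
      exact (hι_range _).2 ⟨c, rfl⟩
    | add x y hx hy => simp only [map_add, hx, hy]

end Groth.Agent.Lib.Helper15FlatEq
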