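-- helper15: the ring of functions on a scheme equalizing two maps from another scheme, its spectrum, and flat base change of this equalizer.
import Mathlib
import Groth.Agent.Lib.Helper15FlatEq
import Groth.Agent.Lib.Helper12AffineDescent

set_option autoImplicit false
set_option linter.unusedSectionVars false
open CategoryTheory CategoryTheory.Limits AlgebraicGeometry

universe u

namespace Groth.Agent.Lib.Helper15InvRing

variable {X S : Scheme.{u}} (p : X ⟶ S) {O' N : Scheme.{u}} (g' : O' ⟶ S) (σ τ : N ⟶ O')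
  (hστ : σ ≫ g' = τ ≫ g')

/-- the ring of functions on `O'` equalizing the two maps from `N`. -/
noncomputable def C : CommRingCat.{u} :=
  CommRingCat.of (RingHom.eqLocus σ.appTop.hom τ.appTop.hom)

noncomputable def ιC : C σ τ ⟶ Γ(O', ⊤) :=
  CommRingCat.ofHom (RingHom.eqLocus σ.appTop.hom τ.appTop.hom).subtype

include hστ in
lemma hd : g'.appTop ≫ σ.appTop = g'.appTop ≫ τ.appTop := by
  rw [← Scheme.Hom.comp_appTop, ← Scheme.Hom.comp_appTop, hστ]

noncomputable def jC : Γ(S, ⊤) ⟶ C σ τ :=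
  CommRingCat.ofHom (RingHom.codRestrict g'.appTop.hom
    (RingHom.eqLocus σ.appTop.hom τ.appTop.hom) (fun r => congr($(hd g' σ τ hστ) r)))

lemma jC_ιC : jC g' σ τ hστ ≫ ιC σ τ = g'.appTop := rfl

lemma ιC_eq : ιC σ τ ≫ σ.appTop = ιC σ τ ≫ τ.appTop := by
  ext x
  exact x.2

lemma ιC_injective : Function.Injective (ιC σ τ) := Subtype.val_injective

lemma ιC_range (b : Γ(O', ⊤)) : σ.appTop b = τ.appTop b ↔ ∃ c, ιC σ τ c = b :=
  ⟨fun hb => ⟨⟨b, hb⟩, rfl⟩, by rintro ⟨c, rfl⟩; exact c.2⟩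

/-- the morphism to the spectrum of the ring of invariants. -/
noncomputable def q' : O' ⟶ Spec (C σ τ) := O'.toSpecΓ ≫ Spec.map (ιC σ τ)

lemma σ_q' : σ ≫ q' σ τ = τ ≫ q' σ τ := by
  rw [q', Scheme.toSpecΓ_naturality_assoc, Scheme.toSpecΓ_naturality_assoc, ← Spec.map_comp,
    ← Spec.map_comp, ιC_eq]

lemma q'_appTop : (q' σ τ).appTop = (Scheme.ΓSpecIso (C σ τ)).hom ≫ ιC σ τ := by
  rw [q', Scheme.Hom.comp_appTop, Scheme.toSpecΓ_appTop, Scheme.ΓSpecIso_naturality]

variable [IsAffine S]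

/-- the structure morphism of the spectrum of the ring of invariants. -/
noncomputable def uS : Spec (C σ τ) ⟶ S := Spec.map (jC g' σ τ hστ) ≫ S.isoSpec.inv

lemma q'_uS : q' σ τ ≫ uS g' σ τ hστ = g' := by
  change (O'.toSpecΓ ≫ Spec.map (ιC σ τ)) ≫ Spec.map (jC g' σ τ hστ) ≫ S.isoSpec.inv = g'
  rw [Category.assoc, ← Spec.map_comp_assoc, jC_ιC, ← Scheme.toSpecΓ_naturality_assoc]
  simp

/-- `X ×_S Spec C` -/
noncomputable abbrev Z : Scheme.{u} := pullback p (uS g' σ τ hστ)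
/-- `X ×_S O'` -/
noncomputable abbrev P' : Scheme.{u} := pullback p g'
/-- `X ×_S N` -/
noncomputable abbrev P'' : Scheme.{u} := pullback p (σ ≫ g')

noncomputable def a : P'' p g' σ ⟶ P' p g' :=
  pullback.map p (σ ≫ g') p g' (𝟙 X) σ (𝟙 S) (by simp) (by simp)

noncomputable def b : P'' p g' σ ⟶ P' p g' :=
  pullback.map p (σ ≫ g') p g' (𝟙 X) τ (𝟙 S) (by simp) (by simp [hστ])

noncomputable def ζ : P' p g' ⟶ Z p g' σ τ hστ :=
  pullback.map p g' p (uS g' σ τ hστ) (𝟙 X) (q' σ τ) (𝟙 S) (by simp)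
    (by rw [q'_uS, Category.comp_id])

lemma a_fst : a p g' σ ≫ pullback.fst p g' = pullback.fst p (σ ≫ g') := by
  rw [a, pullback.lift_fst, Category.comp_id]
lemma a_snd : a p g' σ ≫ pullback.snd p g' = pullback.snd p (σ ≫ g') ≫ σ := pullback.lift_snd _ _ _
lemma b_fst : b p g' σ τ hστ ≫ pullback.fst p g' = pullback.fst p (σ ≫ g') := by
  rw [b, pullback.lift_fst, Category.comp_id]
lemma b_snd : b p g' σ τ hστ ≫ pullback.snd p g' = pullback.snd p (σ ≫ g') ≫ τ :=
  pullback.lift_snd _ _ _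
lemma ζ_fst : ζ p g' σ τ hστ ≫ pullback.fst p (uS g' σ τ hστ) = pullback.fst p g' := by
  rw [ζ, pullback.lift_fst, Category.comp_id]
lemma ζ_snd : ζ p g' σ τ hστ ≫ pullback.snd p (uS g' σ τ hστ) =
    pullback.snd p g' ≫ q' σ τ := pullback.lift_snd _ _ _

lemma a_ζ : a p g' σ ≫ ζ p g' σ τ hστ = b p g' σ τ hστ ≫ ζ p g' σ τ hστ := by
  apply pullback.hom_ext
  · rw [Category.assoc, Category.assoc, ζ_fst, a_fst, b_fst]
  · rw [Category.assoc, Category.assoc, ζ_snd, ← Category.assoc, ← Category.assoc, a_snd, b_snd,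
      Category.assoc, Category.assoc, σ_q']

variable [IsAffine X] [Flat p] [CompactSpace O'] [QuasiSeparatedSpace O'] [CompactSpace N]
  [QuasiSeparatedSpace N]

/-- functions on `X ×_S Spec C` are the functions on `X ×_S O'` equalizing the two maps from
`X ×_S N`. -/
theorem zeta_appTop :
    Function.Injective (ζ p g' σ τ hστ).appTop ∧
      ∀ F : Γ(P' p g', ⊤), (a p g' σ).appTop F = (b p g' σ τ hστ).appTop F ↔
        ∃ F', (ζ p g' σ τ hστ).appTop F' = F := by
  have hQB : IsPushout p.appTop g'.appTop (pullback.fst p g').appTop (pullback.snd p g').appTop :=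
    (Groth.Agent.Lib.Helper12.isPushout_appTop (IsPullback.of_hasPullback p g').flip).flip
  have hQG : IsPushout p.appTop (g'.appTop ≫ σ.appTop) (pullback.fst p (σ ≫ g')).appTop
      (pullback.snd p (σ ≫ g')).appTop := by
    have := (Groth.Agent.Lib.Helper12.isPushout_appTop
      (IsPullback.of_hasPullback p (σ ≫ g')).flip).flip
    rwa [Scheme.Hom.comp_appTop] at this
  have hQC : IsPushout p.appTop (uS g' σ τ hστ).appTop
      (pullback.fst p (uS g' σ τ hστ)).appTop (pullback.snd p (uS g' σ τ hστ)).appTop :=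
    (Groth.Agent.Lib.Helper12.isPushout_appTop
      (IsPullback.of_hasPullback p (uS g' σ τ hστ)).flip).flip
  refine Groth.Agent.Lib.Helper15FlatEq.flat_equalizer p.appTop (Scheme.Hom.flat_appTop p)
    g'.appTop σ.appTop τ.appTop (hd g' σ τ hστ) (uS g' σ τ hστ).appTop (q' σ τ).appTop ?_ ?_ ?_
    _ _ hQB _ _ hQG _ _ hQC (ζ p g' σ τ hστ).appTop ?_ ?_ (a p g' σ).appTop
    (b p g' σ τ hστ).appTop ?_ ?_ ?_ ?_
  · rw [← Scheme.Hom.comp_appTop, q'_uS]
  · rw [q'_appTop]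
    intro x y hxy
    apply (ConcreteCategory.bijective_of_isIso (Scheme.ΓSpecIso (C σ τ)).hom).1
    exact ιC_injective σ τ hxy
  · intro b'
    rw [ιC_range, q'_appTop]
    constructor
    · rintro ⟨c, rfl⟩
      exact ⟨(Scheme.ΓSpecIso (C σ τ)).inv c, by simp⟩
    · rintro ⟨c, rfl⟩
      exact ⟨(Scheme.ΓSpecIso (C σ τ)).hom c, rfl⟩
  · rw [← Scheme.Hom.comp_appTop, ζ_fst]
  · rw [← Scheme.Hom.comp_appTop, ζ_snd, Scheme.Hom.comp_appTop]
  · rw [← Scheme.Hom.comp_appTop, a_fst]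
  · rw [← Scheme.Hom.comp_appTop, a_snd, Scheme.Hom.comp_appTop]
  · rw [← Scheme.Hom.comp_appTop, b_fst]
  · rw [← Scheme.Hom.comp_appTop, b_snd, Scheme.Hom.comp_appTop]

end Groth.Agent.Lib.Helper15InvRing
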