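-- helper15: sections on basic opens of a qcqs scheme (fractions, annihilation)
import Mathlib

set_option autoImplicit false
open CategoryTheory CategoryTheory.Limits AlgebraicGeometry

universe u

namespace Groth.Agent.Lib.Helper15BasicOpenSec

variable {Y : Scheme.{u}}

/-- restriction to an open subscheme, in terms of the presheaf. -/
lemma ι_appTop_topIso (U : Y.Opens) :
    U.ι.appTop ≫ U.topIso.hom = Y.presheaf.map (homOfLE (le_top : U ≤ ⊤)).op := by
  change Y.presheaf.map (homOfLE (x := U.ι ''ᵁ ⊤) le_top).op ≫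
    Y.presheaf.map (eqToIso U.ι_image_top.symm).op.hom = _
  rw [← Functor.map_comp]
  rfl

lemma topIso_ι_appTop (U : Y.Opens) (y : Γ(Y, ⊤)) :
    U.topIso.hom (U.ι.appTop y) = Y.presheaf.map (homOfLE (le_top : U ≤ ⊤)).op y := by
  have := congrArg (fun m => m.hom y) (ι_appTop_topIso U)
  exact this

/-- a function is invertible on its nonvanishing locus. -/
lemma isUnit_ι_appTop_basicOpen (h : Γ(Y, ⊤)) : IsUnit ((Y.basicOpen h).ι.appTop h) := by
  have h1 : IsUnit ((Y.basicOpen h).topIso.hom ((Y.basicOpen h).ι.appTop h)) := by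
    rw [topIso_ι_appTop]
    exact RingedSpace.isUnit_res_basicOpen Y.toRingedSpace h
  have h2 := h1.map (Y.basicOpen h).topIso.inv.hom
  have h3 : (Y.basicOpen h).topIso.inv.hom ((Y.basicOpen h).topIso.hom
      ((Y.basicOpen h).ι.appTop h)) = (Y.basicOpen h).ι.appTop h := by
    rw [← CommRingCat.comp_apply, Iso.hom_inv_id]; rfl
  rw [h3] at h2
  exact h2

/-- on a quasi-compact and quasi-separated scheme, functions on a nonvanishing locus are
fractions. -/
lemma exists_mul_pow_eq [CompactSpace Y] [QuasiSeparatedSpace Y] (h : Γ(Y, ⊤))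
    (z : Γ((Y.basicOpen h : Y.Opens), ⊤)) :
    ∃ (n : ℕ) (y : Γ(Y, ⊤)), z * ((Y.basicOpen h).ι.appTop h) ^ n = (Y.basicOpen h).ι.appTop y := by
  obtain ⟨n, y, hy⟩ := exists_eq_pow_mul_of_isCompact_of_isQuasiSeparated Y ⊤ isCompact_univ
    isQuasiSeparated_univ h ((Y.basicOpen h).topIso.hom z)
  refine ⟨n, y, ?_⟩
  apply (ConcreteCategory.bijective_of_isIso (Y.basicOpen h).topIso.hom).1
  rw [map_mul, map_pow, topIso_ι_appTop, topIso_ι_appTop, mul_comm]
  exact hy.symm

/-- on a quasi-compact scheme, a function vanishing on a nonvanishing locus is killed by a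
power. -/
lemma exists_pow_mul_eq_zero [CompactSpace Y] (g x : Γ(Y, ⊤))
    (hx : (Y.basicOpen g).ι.appTop x = 0) : ∃ n : ℕ, g ^ n * x = 0 := by
  refine exists_pow_mul_eq_zero_of_res_basicOpen_eq_zero_of_isCompact Y (U := ⊤) isCompact_univ x g
    ?_
  have := topIso_ι_appTop (Y.basicOpen g) x
  rw [hx, map_zero] at this
  exact this.symm

end Groth.Agent.Lib.Helper15BasicOpenSec
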