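-- helper15: transfer of a localization away from an element along a section-like function.
import Mathlib

set_option autoImplicit false

universe u

namespace Groth.Agent.Lib.Helper15LocTransfer

/-- transfer of a localization away from an element along a section-like function. -/
theorem isLocalization_away_of_section {E B M : Type u} [CommRing E] [CommRing B] [CommRing M]
    (ρ : E →+* M) (l : B →+* M) (h : B)
    (hl : letI := l.toAlgebra; IsLocalization.Away h M)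
    (θ₀ : B → E) (hθ : ∀ b, ρ (θ₀ b) = l b)
    (hker : ∀ F : E, ρ F = 0 → ∃ n : ℕ, (θ₀ h) ^ n * F = 0) :
    letI := ρ.toAlgebra; IsLocalization.Away (θ₀ h) M := by
  let _ := l.toAlgebra
  have hl' : IsLocalization.Away h M := hl
  have hunit : IsUnit (l h) := IsLocalization.Away.algebraMap_isUnit (S := M) h
  let _ := ρ.toAlgebra
  refine (isLocalization_iff (M := Submonoid.powers (θ₀ h)) (S := M)).2 ⟨?_, ?_, ?_⟩
  · rintro ⟨_, n, rfl⟩
    change IsUnit (ρ (θ₀ h ^ n))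
    rw [map_pow, hθ]
    exact hunit.pow n
  · intro z
    obtain ⟨⟨b, ⟨_, n, rfl⟩⟩, hb⟩ := IsLocalization.surj (M := Submonoid.powers h) z
    refine ⟨⟨θ₀ b, ⟨θ₀ h ^ n, n, rfl⟩⟩, ?_⟩
    change z * ρ (θ₀ h ^ n) = ρ (θ₀ b)
    rw [map_pow, hθ, hθ]
    have hb' : z * l (h ^ n) = l b := hb
    rw [map_pow] at hb'
    exact hb'
  · intro x y hxy
    have hxy' : ρ x = ρ y := hxy
    have h0 : ρ (x - y) = 0 := by rw [map_sub, hxy', sub_self]
    obtain ⟨n, hn⟩ := hker _ h0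
    refine ⟨⟨θ₀ h ^ n, n, rfl⟩, ?_⟩
    change θ₀ h ^ n * x = θ₀ h ^ n * y
    rw [mul_sub, sub_eq_zero] at hn
    exact hn

/-- variant with elementary hypotheses. -/
theorem isLocalization_away_of_section' {E B M : Type u} [CommRing E] [CommRing B] [CommRing M]
    (ρ : E →+* M) (l : B →+* M) (h : B)
    (hunit : IsUnit (l h)) (hsurj : ∀ z : M, ∃ (n : ℕ) (b : B), z * l h ^ n = l b)
    (θ₀ : B → E) (hθ : ∀ b, ρ (θ₀ b) = l b)
    (hker : ∀ F : E, ρ F = 0 → ∃ n : ℕ, (θ₀ h) ^ n * F = 0) :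
    letI := ρ.toAlgebra; IsLocalization.Away (θ₀ h) M := by
  let _ := ρ.toAlgebra
  refine (isLocalization_iff (M := Submonoid.powers (θ₀ h)) (S := M)).2 ⟨?_, ?_, ?_⟩
  · rintro ⟨_, n, rfl⟩
    change IsUnit (ρ (θ₀ h ^ n))
    rw [map_pow, hθ]
    exact hunit.pow n
  · intro z
    obtain ⟨n, b, hb⟩ := hsurj z
    refine ⟨⟨θ₀ b, ⟨θ₀ h ^ n, n, rfl⟩⟩, ?_⟩
    change z * ρ (θ₀ h ^ n) = ρ (θ₀ b)
    rw [map_pow, hθ, hθ]
    exact hb
  · intro x y hxy
    have hxy' : ρ x = ρ y := hxy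
    have h0 : ρ (x - y) = 0 := by rw [map_sub, hxy', sub_self]
    obtain ⟨n, hn⟩ := hker _ h0
    refine ⟨⟨θ₀ h ^ n, n, rfl⟩, ?_⟩
    change θ₀ h ^ n * x = θ₀ h ^ n * y
    rw [mul_sub, sub_eq_zero] at hn
    exact hn

end Groth.Agent.Lib.Helper15LocTransfer
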