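-- helper15: a criterion for a morphism to an affine scheme to be an open immersion via germs of functions from a quasi-affine scheme
import Mathlib
import Groth.Agent.Lib.Helper15BasicOpenSec
import Groth.Agent.Lib.Helper15LocTransfer

set_option autoImplicit false
open CategoryTheory CategoryTheory.Limits AlgebraicGeometry

universe u

namespace Groth.Agent.Lib.Helper15OpenImmCrit

open Groth.Agent.Lib.Helper15BasicOpenSec

/-- a morphism of affine schemes inducing a localization away from an element is an open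
immersion. -/
lemma isOpenImmersion_of_isLocalization {T Z : Scheme.{u}} [IsAffine T] [IsAffine Z] (k : T ⟶ Z)
    (F : Γ(Z, ⊤)) (h : letI := k.appTop.hom.toAlgebra; IsLocalization.Away F Γ(T, ⊤)) :
    IsOpenImmersion k := by
  let _ := k.appTop.hom.toAlgebra
  have h' : IsLocalization.Away F Γ(T, ⊤) := h
  have h1 : IsOpenImmersion (Spec.map (CommRingCat.ofHom (algebraMap Γ(Z, ⊤) Γ(T, ⊤)))) :=
    IsOpenImmersion.of_isLocalization F
  have h2 : CommRingCat.ofHom (algebraMap Γ(Z, ⊤) Γ(T, ⊤)) = k.appTop := rfl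
  rw [h2] at h1
  have e : k = T.isoSpec.hom ≫ Spec.map k.appTop ≫ Z.isoSpec.inv := by
    rw [Scheme.isoSpec_hom_naturality_assoc, Iso.hom_inv_id, Category.comp_id]
  rw [e]
  infer_instance

/-- an open immersion with the same range as an open subscheme. -/
lemma isOpenImmersion_ι_comp {O Z T : Scheme.{u}} (κ : O ⟶ Z) (W : O.Opens) (i : T ⟶ O)
    [IsOpenImmersion i] (hr : Set.range i.base = (W : Set O)) (h : IsOpenImmersion (i ≫ κ)) :
    IsOpenImmersion (W.ι ≫ κ) := by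
  have hr' : Set.range W.ι = Set.range i := by
    rw [Scheme.Opens.range_ι]
    exact hr.symm
  have e : W.ι = (IsOpenImmersion.isoOfRangeEq W.ι i hr').hom ≫ i :=
    (IsOpenImmersion.isoOfRangeEq_hom_fac _ _ _).symm
  rw [e, Category.assoc]
  infer_instance

variable {Z PP Y O : Scheme.{u}} (ζ : PP ⟶ Z) (Ψ : PP ⟶ Y) (jO : O ⟶ Y) (κ : O ⟶ Z) (γ : O ⟶ PP)

/-- a criterion for a morphism to an affine scheme to be an open immersion, in terms of germs
of functions coming from an auxiliary quasi-affine scheme. -/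
theorem isOpenImmersion_of_germs [IsAffine Z] [CompactSpace PP] [Y.IsQuasiAffine]
    [IsOpenImmersion jO] (hζ : Function.Injective ζ.appTop)
    (hγζ : γ ≫ ζ = κ) (hγΨ : γ ≫ Ψ = jO)
    (θ₀ : Γ(Y, ⊤) → Γ(Z, ⊤)) (hθ₀ : ∀ h, ζ.appTop (θ₀ h) = Ψ.appTop h)
    (K : ∀ {T : Scheme.{u}} (z : T ⟶ PP) (w : T ⟶ O), w ≫ jO = z ≫ Ψ → z ≫ ζ = w ≫ κ) :
    IsOpenImmersion κ := by
  refine IsZariskiLocalAtTarget.of_forall_source_exists_preimage (P := @IsOpenImmersion) κ
    fun x => ?_
  obtain ⟨_, ⟨_, ⟨h, hh, rfl⟩, rfl⟩, hxh, hhO⟩ := (Scheme.IsQuasiAffine.isBasis_basicOpen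
    Y).exists_subset_of_mem_open (show jO.base x ∈ (jO.opensRange : Set Y) from ⟨x, rfl⟩)
      jO.opensRange.2
  have hκθ : κ.appTop (θ₀ h) = jO.appTop h := by
    rw [← hγζ, ← hγΨ, Scheme.Hom.comp_appTop, Scheme.Hom.comp_appTop, CommRingCat.comp_apply,
      CommRingCat.comp_apply, hθ₀]
  have hpre : κ ⁻¹ᵁ Z.basicOpen (θ₀ h) = jO ⁻¹ᵁ Y.basicOpen h := by
    rw [Scheme.preimage_basicOpen_top, Scheme.preimage_basicOpen_top, hκθ]
  refine ⟨Z.basicOpen (θ₀ h), ?_, ?_⟩
  · have : x ∈ κ ⁻¹ᵁ Z.basicOpen (θ₀ h) := by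
      rw [hpre]
      exact hxh
    exact this
  -- the chart
  have hri : Set.range (Y.basicOpen h).ι.base ⊆ Set.range jO.base := by
    rw [Scheme.Opens.range_ι]
    exact hhO
  let i : ((Y.basicOpen h : Y.Opens) : Scheme.{u}) ⟶ O :=
    IsOpenImmersion.lift jO (Y.basicOpen h).ι hri
  have hi : i ≫ jO = (Y.basicOpen h).ι := IsOpenImmersion.lift_fac _ _ _
  have : IsOpenImmersion i := IsOpenImmersion.of_comp i jO
  have hrange : Set.range i.base = ((κ ⁻¹ᵁ Z.basicOpen (θ₀ h) : O.Opens) : Set O) := by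
    rw [hpre]
    ext y
    constructor
    · rintro ⟨t, rfl⟩
      change jO.base (i.base t) ∈ Y.basicOpen h
      rw [← Scheme.Hom.comp_apply, hi]
      exact t.2
    · intro hy
      have hy' : jO.base y ∈ Y.basicOpen h := hy
      refine ⟨⟨jO.base y, hy'⟩, ?_⟩
      apply jO.isOpenEmbedding.injective
      rw [← Scheme.Hom.comp_apply, hi]
      rfl
  refine isOpenImmersion_ι_comp κ _ i hrange ?_
  have : IsAffine ((Y.basicOpen h : Y.Opens) : Scheme.{u}) := hh
  have : CompactSpace Y := inferInstance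
  have : QuasiSeparatedSpace Y := inferInstance
  refine isOpenImmersion_of_isLocalization (i ≫ κ) (θ₀ h) ?_
  refine Groth.Agent.Lib.Helper15LocTransfer.isLocalization_away_of_section'
    (i ≫ κ).appTop.hom (Y.basicOpen h).ι.appTop.hom h (isUnit_ι_appTop_basicOpen h) ?_ θ₀ ?_ ?_
  · intro z
    exact exists_mul_pow_eq h z
  · intro b
    change (i ≫ κ).appTop (θ₀ b) = (Y.basicOpen h).ι.appTop b
    rw [← hi, ← hγΨ, ← hγζ]
    simp only [Scheme.Hom.comp_appTop, CommRingCat.comp_apply]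
    rw [hθ₀]
  · intro F hF
    have hF' : (i ≫ κ).appTop F = 0 := hF
    -- the open of `PP` where `h` is invertible
    have hPPh : PP.basicOpen (ζ.appTop (θ₀ h)) = Ψ ⁻¹ᵁ Y.basicOpen h := by
      rw [Scheme.preimage_basicOpen_top, hθ₀]
    have hrw : Set.range ((PP.basicOpen (ζ.appTop (θ₀ h))).ι ≫ Ψ).base ⊆
        Set.range (Y.basicOpen h).ι.base := by
      rintro _ ⟨t, rfl⟩
      rw [Scheme.Opens.range_ι]
      have ht : ((PP.basicOpen (ζ.appTop (θ₀ h))).ι.base t) ∈ Ψ ⁻¹ᵁ Y.basicOpen h := by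
        rw [← hPPh]
        exact t.2
      exact ht
    let wh : ((PP.basicOpen (ζ.appTop (θ₀ h)) : PP.Opens) : Scheme.{u}) ⟶
        ((Y.basicOpen h : Y.Opens) : Scheme.{u}) :=
      IsOpenImmersion.lift (Y.basicOpen h).ι ((PP.basicOpen (ζ.appTop (θ₀ h))).ι ≫ Ψ) hrw
    have hwh : wh ≫ (Y.basicOpen h).ι = (PP.basicOpen (ζ.appTop (θ₀ h))).ι ≫ Ψ :=
      IsOpenImmersion.lift_fac _ _ _
    have hK := K (PP.basicOpen (ζ.appTop (θ₀ h))).ι (wh ≫ i) (by
      rw [Category.assoc, hi, hwh])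
    have h0 : (PP.basicOpen (ζ.appTop (θ₀ h))).ι.appTop (ζ.appTop F) = 0 := by
      have := congrArg (fun m => m.appTop F) hK
      simp only [Scheme.Hom.comp_appTop, CommRingCat.comp_apply] at this
      rw [this]
      have h1 : i.appTop (κ.appTop F) = 0 := by
        simpa only [Scheme.Hom.comp_appTop, CommRingCat.comp_apply] using hF'
      rw [h1, map_zero]
    obtain ⟨n, hn⟩ := exists_pow_mul_eq_zero (ζ.appTop (θ₀ h)) (ζ.appTop F) h0
    refine ⟨n, hζ ?_⟩
    rw [map_mul, map_pow, hn, map_zero]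

end Groth.Agent.Lib.Helper15OpenImmCrit
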