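-- helper15: germs of invariant functions for a descent datum with quasi-affine compact opens; effectivity of the restriction to a stable open inside a compact open
import Mathlib
import Groth.Prelude.Def_Desc
import Groth.Agent.Lib.Helper15AffDescCore
import Groth.Agent.Lib.Helper15DescGlueA
import Groth.Agent.Lib.Helper15DescStable
import Groth.Agent.Lib.Helper15InvRing
import Groth.Agent.Lib.Helper15OpenImmCrit
import Groth.Agent.Lib.Helper15DescOpenImm

set_option autoImplicit false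
set_option linter.unusedSectionVars false
open CategoryTheory CategoryTheory.Limits AlgebraicGeometry

universe u

namespace Groth.Agent.Lib.Helper15IndQAGerm

open Desc Groth.Agent.Lib.Helper15AffDescCore Groth.Agent.Lib.Helper15DescGlueA
  Groth.Agent.Lib.Helper15DescStable Groth.Agent.Lib.Helper15InvRing

variable {X S : Scheme.{u}} {p : X ⟶ S} (D : Desc.SchDD p) (O' : D.obj.left.Opens)

/-- the structure morphism of an open subscheme of the scheme of a descent datum. -/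
noncomputable abbrev gO : (O' : Scheme.{u}) ⟶ S := O'.ι ≫ D.obj.hom ≫ p

/-- `O' ×_S X` -/
noncomputable abbrev RO : Scheme.{u} := pullback (gO D O') p
noncomputable abbrev rV : RO D O' ⟶ (O' : Scheme.{u}) := pullback.fst (gO D O') p
noncomputable abbrev rX : RO D O' ⟶ X := pullback.snd (gO D O') p

lemma r_cond : ((rV D O' ≫ O'.ι) ≫ D.obj.hom) ≫ p = rX D O' ≫ p := by
  simp only [Category.assoc]
  exact pullback.condition

/-- the transport map on `O' ×_S X`. -/
noncomputable def τR : RO D O' ⟶ D.obj.left := tr D (rX D O') (rV D O' ≫ O'.ι) (r_cond D O')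

lemma τR_hom : τR D O' ≫ D.obj.hom = rX D O' := tr_hom D _ _ _

/-- the arrows between points of `O'`. -/
noncomputable def NN : (RO D O').Opens := τR D O' ⁻¹ᵁ O'

noncomputable def σN : ((NN D O' : (RO D O').Opens) : Scheme.{u}) ⟶ (O' : Scheme.{u}) :=
  (NN D O').ι ≫ rV D O'

lemma range_τ : Set.range ((NN D O').ι ≫ τR D O').base ⊆ Set.range O'.ι.base := by
  rintro _ ⟨z, rfl⟩
  rw [Scheme.Opens.range_ι]
  have hz : (NN D O').ι.base z ∈ ((NN D O' : (RO D O').Opens) : Set (RO D O')) := by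
    have h0 : Set.range (NN D O').ι.base = ((NN D O' : (RO D O').Opens) : Set (RO D O')) :=
      Scheme.Opens.range_ι _
    rw [← h0]
    exact ⟨z, rfl⟩
  exact hz

noncomputable def τN : ((NN D O' : (RO D O').Opens) : Scheme.{u}) ⟶ (O' : Scheme.{u}) :=
  IsOpenImmersion.lift O'.ι ((NN D O').ι ≫ τR D O') (range_τ D O')

lemma τN_ι : τN D O' ≫ O'.ι = (NN D O').ι ≫ τR D O' := IsOpenImmersion.lift_fac _ _ _

lemma στ : σN D O' ≫ gO D O' = τN D O' ≫ gO D O' := by
  change σN D O' ≫ O'.ι ≫ D.obj.hom ≫ p = τN D O' ≫ O'.ι ≫ D.obj.hom ≫ p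
  rw [← Category.assoc (τN D O'), τN_ι, Category.assoc, ← Category.assoc (τR D O'), τR_hom, σN,
    Category.assoc]
  congr 1
  exact pullback.condition

/-- transport for the restriction of a descent datum to a stable open. -/
lemma tr_restrictDD (O : D.obj.left.Opens) (hO : Stable D O) {T : Scheme.{u}} (x₁ : T ⟶ X)
    (v : T ⟶ (O : Scheme.{u})) (h : (v ≫ O.ι ≫ D.obj.hom) ≫ p = x₁ ≫ p) :
    tr (restrictDD D O hO) x₁ v h ≫ O.ι =
      tr D x₁ (v ≫ O.ι) (by simpa only [Category.assoc] using h) := by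
  have h1 := congrArg Subtype.val
    (inclLift_resMap D O hO (v ≫ O.ι ≫ D.obj.hom) x₁ h ⟨v, rfl⟩)
  refine h1.trans ?_
  rw [φ_eq_tr]
  rfl

section Points

variable {T : Scheme.{u}} (v : T ⟶ (O' : Scheme.{u})) (x : T ⟶ X)
  (h : ((v ≫ O'.ι) ≫ D.obj.hom) ≫ p = x ≫ p)

/-- a point of `O' ×_S X`. -/
noncomputable def mkR : T ⟶ RO D O' :=
  pullback.lift v x (by
    change v ≫ O'.ι ≫ D.obj.hom ≫ p = x ≫ p
    simpa only [Category.assoc] using h)

lemma mkR_rV : mkR D O' v x h ≫ rV D O' = v := pullback.lift_fst _ _ _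
lemma mkR_rX : mkR D O' v x h ≫ rX D O' = x := pullback.lift_snd _ _ _

lemma mkR_τR : mkR D O' v x h ≫ τR D O' = tr D x (v ≫ O'.ι) h := by
  rw [τR, comp_tr]
  refine tr_eq D (mkR_rX D O' v x h) ?_ _ _
  rw [← Category.assoc, mkR_rV]

variable (hr : Set.range (tr D x (v ≫ O'.ι) h).base ⊆ (O' : Set D.obj.left))

include hr in
lemma range_mkR : Set.range (mkR D O' v x h).base ⊆ Set.range (NN D O').ι.base := by
  rintro _ ⟨z, rfl⟩
  rw [Scheme.Opens.range_ι]
  change (τR D O').base ((mkR D O' v x h).base z) ∈ O'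
  have : (mkR D O' v x h ≫ τR D O').base z ∈ O' := by
    rw [mkR_τR]
    exact hr ⟨z, rfl⟩
  exact this

/-- a point of the scheme of arrows between points of `O'`. -/
noncomputable def mkN : T ⟶ ((NN D O' : (RO D O').Opens) : Scheme.{u}) :=
  IsOpenImmersion.lift (NN D O').ι (mkR D O' v x h) (range_mkR D O' v x h hr)

lemma mkN_ι : mkN D O' v x h hr ≫ (NN D O').ι = mkR D O' v x h := IsOpenImmersion.lift_fac _ _ _

lemma mkN_σ : mkN D O' v x h hr ≫ σN D O' = v := by
  rw [σN, ← Category.assoc, mkN_ι, mkR_rV]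

lemma mkN_τ : mkN D O' v x h hr ≫ τN D O' ≫ O'.ι = tr D x (v ≫ O'.ι) h := by
  rw [τN_ι, ← Category.assoc, mkN_ι, mkR_τR]

end Points

section Germ

variable [IsAffine S]

/-- `X ×_S O'` -/
noncomputable abbrev PP : Scheme.{u} := pullback p (gO D O')
noncomputable abbrev pX : PP D O' ⟶ X := pullback.fst p (gO D O')
noncomputable abbrev pO : PP D O' ⟶ (O' : Scheme.{u}) := pullback.snd p (gO D O')

lemma p_cond : ((pO D O' ≫ O'.ι) ≫ D.obj.hom) ≫ p = pX D O' ≫ p := by
  simp only [Category.assoc]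
  exact pullback.condition.symm

/-- the transport map on `X ×_S O'`. -/
noncomputable def Ψ : PP D O' ⟶ D.obj.left := tr D (pX D O') (pO D O' ≫ O'.ι) (p_cond D O')

lemma Ψ_hom : Ψ D O' ≫ D.obj.hom = pX D O' := tr_hom D _ _ _

lemma comp_Ψ_cond {T : Scheme.{u}} (z : T ⟶ PP D O') :
    (((z ≫ pO D O') ≫ O'.ι) ≫ D.obj.hom) ≫ p = (z ≫ pX D O') ≫ p := by
  have := p_cond D O'
  simp only [Category.assoc] at this ⊢
  rw [this]

lemma comp_Ψ {T : Scheme.{u}} (z : T ⟶ PP D O') :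
    z ≫ Ψ D O' = tr D (z ≫ pX D O') ((z ≫ pO D O') ≫ O'.ι) (comp_Ψ_cond D O' z) := by
  rw [Ψ, comp_tr]
  exact tr_eq D rfl (Category.assoc _ _ _).symm _ _

/-- the two maps from `X ×_S N` to `X ×_S O'` have the same transport. -/
lemma a_Ψ : a p (gO D O') (σN D O') ≫ Ψ D O' =
    b p (gO D O') (σN D O') (τN D O') (στ D O') ≫ Ψ D O' := by
  rw [comp_Ψ, comp_Ψ]
  have e1 : (b p (gO D O') (σN D O') (τN D O') (στ D O') ≫ pO D O') ≫ O'.ι =
      tr D (pullback.snd p (σN D O' ≫ gO D O') ≫ (NN D O').ι ≫ rX D O')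
        (pullback.snd p (σN D O' ≫ gO D O') ≫ (NN D O').ι ≫ rV D O' ≫ O'.ι) (by
          have := r_cond D O'
          simp only [Category.assoc] at this ⊢
          rw [this]) := by
    rw [b_snd, Category.assoc, τN_ι, τR, comp_tr, comp_tr]
  have hx : (pullback.snd p (σN D O' ≫ gO D O') ≫ (NN D O').ι ≫ rX D O') ≫ p =
      (b p (gO D O') (σN D O') (τN D O') (στ D O') ≫ pX D O') ≫ p := by
    rw [b_fst]
    have h1 : pullback.fst p (σN D O' ≫ gO D O') ≫ p =
        pullback.snd p (σN D O' ≫ gO D O') ≫ σN D O' ≫ gO D O' := pullback.condition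
    rw [h1, σN]
    simp only [Category.assoc]
    congr 2
    exact pullback.condition.symm
  have e2 := tr_tr D (pullback.snd p (σN D O' ≫ gO D O') ≫ (NN D O').ι ≫ rX D O')
    (b p (gO D O') (σN D O') (τN D O') (στ D O') ≫ pX D O')
    (pullback.snd p (σN D O' ≫ gO D O') ≫ (NN D O').ι ≫ rV D O' ≫ O'.ι) (by
      have := r_cond D O'
      simp only [Category.assoc] at this ⊢
      rw [this]) hx
  refine Eq.trans ?_ ((tr_eq D rfl e1 _ (by rw [← e1]; exact comp_Ψ_cond D O' _)).trans e2).symm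
  refine tr_eq D ?_ ?_ _ _
  · rw [a_fst, b_fst]
  · rw [a_snd, σN]
    simp only [Category.assoc]

end Germ

section Main

variable [IsAffine S] [IsAffine X] [Flat p] [QuasiSeparatedSpace D.obj.left]

lemma quasiSeparatedSpace_O' : QuasiSeparatedSpace (O' : Scheme.{u}) :=
  quasiSeparatedSpace_of_quasiSeparated O'.ι

lemma quasiSeparatedSpace_RO : QuasiSeparatedSpace (RO D O') := by
  have := quasiSeparatedSpace_O' D O'
  exact quasiSeparatedSpace_of_quasiSeparated (rV D O')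

lemma quasiSeparatedSpace_NN :
    QuasiSeparatedSpace ((NN D O' : (RO D O').Opens) : Scheme.{u}) := by
  have := quasiSeparatedSpace_RO D O'
  exact quasiSeparatedSpace_of_quasiSeparated (NN D O').ι

variable (hO' : IsCompact (O' : Set D.obj.left))

include hO' in
lemma compactSpace_O' : CompactSpace (O' : Scheme.{u}) := isCompact_iff_compactSpace.mp hO'

include hO' in
lemma compactSpace_RO : CompactSpace (RO D O') := by
  have := compactSpace_O' D O' hO'
  exact QuasiCompact.compactSpace_of_compactSpace (rV D O')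

include hO' in
lemma compactSpace_NN : CompactSpace ((NN D O' : (RO D O').Opens) : Scheme.{u}) := by
  have := compactSpace_RO D O' hO'
  have : QuasiCompact (τR D O') := inferInstance
  exact isCompact_iff_compactSpace.mp
    (QuasiCompact.isCompact_preimage (f := τR D O') _ O'.2 hO')

include hO' in
lemma compactSpace_PP : CompactSpace (PP D O') := by
  have := compactSpace_O' D O' hO'
  exact QuasiCompact.compactSpace_of_compactSpace (pO D O')

/-- the invariant morphism. -/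
noncomputable abbrev qO : (O' : Scheme.{u}) ⟶ Spec (C (σN D O') (τN D O')) :=
  q' (σN D O') (τN D O')

noncomputable abbrev uO : Spec (C (σN D O') (τN D O')) ⟶ S :=
  uS (gO D O') (σN D O') (τN D O') (στ D O')

noncomputable abbrev ZZ : Scheme.{u} := pullback p (uO D O')

noncomputable abbrev ζZ : PP D O' ⟶ ZZ D O' := ζ p (gO D O') (σN D O') (τN D O') (στ D O')

/-- points of `O'` related by transport have the same image under the invariant morphism. -/
lemma qO_eq {T : Scheme.{u}} (v₁ v₂ : T ⟶ (O' : Scheme.{u})) (x : T ⟶ X)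
    (h : ((v₁ ≫ O'.ι) ≫ D.obj.hom) ≫ p = x ≫ p) (htr : tr D x (v₁ ≫ O'.ι) h = v₂ ≫ O'.ι) :
    v₁ ≫ qO D O' = v₂ ≫ qO D O' := by
  have hr : Set.range (tr D x (v₁ ≫ O'.ι) h).base ⊆ (O' : Set D.obj.left) := by
    rw [htr]
    rintro _ ⟨t, rfl⟩
    rw [Scheme.Hom.comp_base]
    exact (v₂.base t).2
  have h1 := mkN_σ D O' v₁ x h hr
  have h2 : mkN D O' v₁ x h hr ≫ τN D O' = v₂ := by
    rw [← cancel_mono O'.ι, Category.assoc, mkN_τ, htr]
  rw [← h1, ← h2, Category.assoc, Category.assoc, σ_q']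

section Step1

variable (O'' : D.obj.left.Opens) (hΨ : Set.range (Ψ D O').base ⊆ (O'' : Set D.obj.left))

noncomputable def Ψ'' : PP D O' ⟶ (O'' : Scheme.{u}) :=
  IsOpenImmersion.lift O''.ι (Ψ D O') (by rw [Scheme.Opens.range_ι]; exact hΨ)

lemma Ψ''_ι : Ψ'' D O' O'' hΨ ≫ O''.ι = Ψ D O' := IsOpenImmersion.lift_fac _ _ _

lemma a_Ψ'' : a p (gO D O') (σN D O') ≫ Ψ'' D O' O'' hΨ =
    b p (gO D O') (σN D O') (τN D O') (στ D O') ≫ Ψ'' D O' O'' hΨ := by
  rw [← cancel_mono O''.ι, Category.assoc, Category.assoc, Ψ''_ι, a_Ψ]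

include hO' in
lemma zeta_inj : Function.Injective (ζZ D O').appTop := by
  have := compactSpace_O' D O' hO'
  have := quasiSeparatedSpace_O' D O'
  have := compactSpace_NN D O' hO'
  have := quasiSeparatedSpace_NN D O'
  exact (zeta_appTop p (gO D O') (σN D O') (τN D O') (στ D O')).1

include hO' in
lemma exists_F (h : Γ((O'' : Scheme.{u}), ⊤)) :
    ∃ F : Γ(ZZ D O', ⊤), (ζZ D O').appTop F = (Ψ'' D O' O'' hΨ).appTop h := by
  have := compactSpace_O' D O' hO'
  have := quasiSeparatedSpace_O' D O'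
  have := compactSpace_NN D O' hO'
  have := quasiSeparatedSpace_NN D O'
  refine ((zeta_appTop p (gO D O') (σN D O') (τN D O') (στ D O')).2 _).1 ?_
  rw [← CommRingCat.comp_apply, ← CommRingCat.comp_apply, ← Scheme.Hom.comp_appTop,
    ← Scheme.Hom.comp_appTop, a_Ψ'']

variable (O : D.obj.left.Opens) (hOO' : O ≤ O')

noncomputable def iO : (O : Scheme.{u}) ⟶ (O' : Scheme.{u}) := D.obj.left.homOfLE hOO'

lemma iO_ι : iO D O' O hOO' ≫ O'.ι = O.ι := Scheme.homOfLE_ι _ _

lemma iO_gO : iO D O' O hOO' ≫ gO D O' = (O.ι ≫ D.obj.hom) ≫ p := by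
  change iO D O' O hOO' ≫ O'.ι ≫ D.obj.hom ≫ p = _
  rw [← Category.assoc, iO_ι, Category.assoc]

/-- the candidate open immersion. -/
noncomputable def κ : (O : Scheme.{u}) ⟶ ZZ D O' :=
  pullback.lift (O.ι ≫ D.obj.hom) (iO D O' O hOO' ≫ qO D O') (by
    have h1 : qO D O' ≫ uO D O' = gO D O' := q'_uS _ _ _ _
    calc (O.ι ≫ D.obj.hom) ≫ p = iO D O' O hOO' ≫ gO D O' := (iO_gO D O' O hOO').symm
      _ = (iO D O' O hOO' ≫ qO D O') ≫ uO D O' := by rw [Category.assoc, h1])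

lemma κ_fst : κ D O' O hOO' ≫ pullback.fst p (uO D O') = O.ι ≫ D.obj.hom :=
  pullback.lift_fst _ _ _

lemma κ_snd : κ D O' O hOO' ≫ pullback.snd p (uO D O') = iO D O' O hOO' ≫ qO D O' :=
  pullback.lift_snd _ _ _

/-- the graph. -/
noncomputable def γ : (O : Scheme.{u}) ⟶ PP D O' :=
  pullback.lift (O.ι ≫ D.obj.hom) (iO D O' O hOO') (by rw [iO_gO])

lemma γ_pX : γ D O' O hOO' ≫ pX D O' = O.ι ≫ D.obj.hom := pullback.lift_fst _ _ _
lemma γ_pO : γ D O' O hOO' ≫ pO D O' = iO D O' O hOO' := pullback.lift_snd _ _ _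

lemma γ_ζ : γ D O' O hOO' ≫ ζZ D O' = κ D O' O hOO' := by
  apply pullback.hom_ext
  · rw [Category.assoc, ζ_fst, κ_fst]
    exact γ_pX D O' O hOO'
  · rw [Category.assoc, ζ_snd, κ_snd, ← Category.assoc]
    congr 1
    exact γ_pO D O' O hOO'

lemma γ_Ψ : γ D O' O hOO' ≫ Ψ D O' = O.ι := by
  rw [comp_Ψ]
  have e1 : γ D O' O hOO' ≫ pX D O' = O.ι ≫ D.obj.hom := γ_pX D O' O hOO'
  have e2 : (γ D O' O hOO' ≫ pO D O') ≫ O'.ι = O.ι := by
    rw [γ_pO, iO_ι]
  rw [tr_eq D e1 e2 _ rfl]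
  exact tr_self D _ _ rfl

lemma key {T : Scheme.{u}} (z : T ⟶ PP D O') (w : T ⟶ (O : Scheme.{u}))
    (hw : w ≫ O.ι = z ≫ Ψ D O') : z ≫ ζZ D O' = w ≫ κ D O' O hOO' := by
  apply pullback.hom_ext
  · rw [Category.assoc, Category.assoc, ζ_fst, κ_fst, ← Category.assoc w, hw, Category.assoc,
      Ψ_hom]
  · rw [Category.assoc, Category.assoc, ζ_snd, κ_snd, ← Category.assoc, ← Category.assoc]
    refine qO_eq D O' (z ≫ pO D O') (w ≫ iO D O' O hOO') (z ≫ pX D O') (comp_Ψ_cond D O' z) ?_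
    rw [← comp_Ψ, ← hw, Category.assoc, iO_ι]

include hΨ hOO' in
lemma le_O'' : O ≤ O'' := by
  intro x hx
  have h1 : (γ D O' O hOO' ≫ Ψ D O').base ⟨x, hx⟩ = x := by
    rw [γ_Ψ]
    rfl
  rw [← h1, Scheme.Hom.comp_base]
  exact hΨ ⟨_, rfl⟩

include hO' hΨ in
theorem isOpenImmersion_κ [Scheme.IsQuasiAffine (O'' : Scheme.{u})] :
    IsOpenImmersion (κ D O' O hOO') := by
  have := compactSpace_PP D O' hO'
  have hOO'' : O ≤ O'' := le_O'' D O' O'' hΨ O hOO'
  have hj : γ D O' O hOO' ≫ Ψ'' D O' O'' hΨ = D.obj.left.homOfLE hOO'' := by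
    rw [← cancel_mono O''.ι, Category.assoc, Ψ''_ι, γ_Ψ, Scheme.homOfLE_ι]
  choose θ₀ hθ₀ using exists_F D O' hO' O'' hΨ
  refine Groth.Agent.Lib.Helper15OpenImmCrit.isOpenImmersion_of_germs (ζZ D O')
    (Ψ'' D O' O'' hΨ) (D.obj.left.homOfLE hOO'') (κ D O' O hOO') (γ D O' O hOO')
    (zeta_inj D O' hO') (γ_ζ D O' O hOO') hj θ₀ hθ₀ ?_
  intro T z w hw
  refine key D O' O hOO' z w ?_
  rw [← Ψ''_ι D O' O'' hΨ, ← Category.assoc, ← hw, Category.assoc, Scheme.homOfLE_ι]

include hO' hΨ hOO' in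
/-- the restriction of the descent datum to a stable open inside `O'` is effective. -/
theorem restrict_effective [Surjective p] [Scheme.IsQuasiAffine (O'' : Scheme.{u})]
    (hO : Stable D O) :
    ∃ U : Over S, Nonempty ((Desc.toDD p).obj U ≅ restrictDD D O hO) := by
  have hoi := isOpenImmersion_κ D O' hO' O'' hΨ O hOO'
  refine @Groth.Agent.Lib.Helper15DescOpenImm.exists_effective _ _ _ (restrictDD D O hO)
    (Over.mk (uO D O')) (κ D O' O hOO') hoi (κ_fst D O' O hOO') ?_ inferInstance inferInstance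
    inferInstance
  intro T x₁ v h
  have goal : ∀ (v' t : T ⟶ (O : Scheme.{u})) (h' : ((v' ≫ O.ι) ≫ D.obj.hom) ≫ p = x₁ ≫ p),
      t ≫ O.ι = tr D x₁ (v' ≫ O.ι) h' →
      t ≫ κ D O' O hOO' ≫ pullback.snd p (uO D O') =
        v' ≫ κ D O' O hOO' ≫ pullback.snd p (uO D O') := by
    intro v' t h' ht
    rw [κ_snd, ← Category.assoc, ← Category.assoc]
    have hv : (((v' ≫ iO D O' O hOO') ≫ O'.ι) ≫ D.obj.hom) ≫ p = x₁ ≫ p := by
      rw [Category.assoc v', iO_ι]
      exact h'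
    refine (qO_eq D O' (v' ≫ iO D O' O hOO') (t ≫ iO D O' O hOO') x₁ hv ?_).symm
    have e1 : (t ≫ iO D O' O hOO') ≫ O'.ι = t ≫ O.ι := by rw [Category.assoc, iO_ι]
    rw [e1, ht]
    refine tr_eq D rfl ?_ _ _
    rw [Category.assoc, iO_ι]
  exact goal v (tr (restrictDD D O hO) x₁ v h) _ (tr_restrictDD D O hO x₁ v h)

end Step1

end Main

end Groth.Agent.Lib.Helper15IndQAGerm
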