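-- helper15: descent data with ind-quasi-affine structure morphism along a flat surjective morphism of affine schemes are effective
import Mathlib
import Groth.Prelude.Def_Desc
import Groth.Prelude.Def_MoreMor
import Groth.Agent.Lib.Helper15IndQAGerm
import Groth.Agent.Lib.Helper15DDGrpd
import Groth.Agent.Lib.Helper15DescUInj
import Groth.Agent.Lib.Helper15DescGlueC
import Groth.Agent.Lib.Helper2IndQA

set_option autoImplicit false
set_option linter.unusedSectionVars false
open CategoryTheory CategoryTheory.Limits AlgebraicGeometry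

universe u

namespace Groth.Agent.Lib.Helper15IndQADesc

open Desc Groth.Agent.Lib.Helper15AffDescCore Groth.Agent.Lib.Helper15DescGlueA
  Groth.Agent.Lib.Helper15DescStable Groth.Agent.Lib.Helper15DescUInj
  Groth.Agent.Lib.Helper15IndQAGerm Groth.Agent.Lib.Helper15DDGrpd

/-- a scheme all of whose quasi-compact opens are quasi-affine is quasi-separated. -/
lemma quasiSeparatedSpace_of_forall_isQuasiAffine {V : Scheme.{u}}
    (hqa : ∀ U : V.Opens, IsCompact (U : Set V) → Scheme.IsQuasiAffine (U : Scheme.{u})) :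
    QuasiSeparatedSpace V := by
  constructor
  intro A B hAo hAc hBo hBc
  have hc : IsCompact (((⟨A, hAo⟩ : V.Opens) ⊔ ⟨B, hBo⟩ : V.Opens) : Set V) := hAc.union hBc
  have h1 := hqa _ hc
  have h2 : QuasiSeparatedSpace (((⟨A, hAo⟩ : V.Opens) ⊔ ⟨B, hBo⟩ : V.Opens) : Scheme.{u}) :=
    inferInstance
  have h3 := (isQuasiSeparated_iff_quasiSeparatedSpace _
    ((⟨A, hAo⟩ : V.Opens) ⊔ ⟨B, hBo⟩ : V.Opens).2).2 h2
  exact h3 A B Set.subset_union_left hAo hAc Set.subset_union_right hBo hBc

variable {X S : Scheme.{u}} {p : X ⟶ S}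

/-- descent data with ind-quasi-affine structure morphism along a flat surjective morphism of
affine schemes are effective. -/
theorem effective_affine [IsAffine X] [IsAffine S] [Flat p] [Surjective p]
    (D : Desc.SchDD p) (hD : MoreMor.IsIndQuasiAffineHom D.obj.hom) :
    ∃ U : Over S, Nonempty ((Desc.toDD p).obj U ≅ D) := by
  have hqa : ∀ U : D.obj.left.Opens, IsCompact (U : Set D.obj.left) →
      Scheme.IsQuasiAffine (U : Scheme.{u}) := fun U hU =>
    (Groth.Agent.Lib.Helper2.isIndQuasiAffineHom_iff D.obj.hom).1 hD ⊤ (isAffineOpen_top X) U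
      le_top hU
  have hqs : QuasiSeparatedSpace D.obj.left := quasiSeparatedSpace_of_forall_isQuasiAffine hqa
  have hchart : ∀ v : D.obj.left, ∃ (U : Over S) (c : (Desc.toDD p).obj U ⟶ D),
      IsOpenImmersion c.hom.left ∧ v ∈ Set.range c.hom.left.base := by
    intro v
    obtain ⟨O₀, hO₀aff, hvO₀⟩ : ∃ W₀ : D.obj.left.Opens, IsAffineOpen W₀ ∧ v ∈ W₀ := by
      obtain ⟨_, ⟨W, hW, rfl⟩, hv, -⟩ :=
        (D.obj.left.isBasis_affineOpens).exists_subset_of_mem_open (Set.mem_univ v) isOpen_univ
      exact ⟨W, hW, hv⟩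
    obtain ⟨O, O', O'', hst, h01, h12, hO'c, hO''c, hsat⟩ :=
      exists_stable_between D O₀ hO₀aff.isCompact
    have hΨ : Set.range (Ψ D O').base ⊆ (O'' : Set D.obj.left) := by
      refine Set.Subset.trans ?_ hsat
      refine tr_mem_sat D O' (pX D O') (pO D O' ≫ O'.ι) (p_cond D O') ?_
      rintro _ ⟨t, rfl⟩
      rw [Scheme.Hom.comp_base]
      exact ((pO D O').base t).2
    have := hqa O'' hO''c
    obtain ⟨U, ⟨e⟩⟩ := restrict_effective D O' hO'c O'' hΨ O h12 hst
    have hι : IsOpenImmersion (restrictι D O hst).hom.left := by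
      change IsOpenImmersion O.ι
      infer_instance
    obtain ⟨h5, h6⟩ := chart_of_iso U e (restrictι D O hst)
    refine ⟨U, e.hom ≫ restrictι D O hst, h5, ?_⟩
    rw [h6]
    change v ∈ Set.range O.ι.base
    rw [Scheme.Opens.range_ι]
    exact h01 hvO₀
  choose Uo c hc hcv using hchart
  exact Groth.Agent.Lib.Helper15DescGlueC.exists_effective c (fun v => ⟨v, hcv v⟩)

end Groth.Agent.Lib.Helper15IndQADesc
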