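-- helper15: finite coproducts of ind-quasi-affine morphisms are ind-quasi-affine; components of coproducts are closed immersions
import Mathlib
import Groth.Prelude.Def_MoreMor
import Groth.Agent.Lib.Helper15SigmaExt
import Groth.Agent.Lib.Helper2IndQA

set_option autoImplicit false
open CategoryTheory CategoryTheory.Limits AlgebraicGeometry

universe w u

namespace Groth.Agent.Lib.Helper15IndQASigma

open Groth.Agent.Lib.Helper15SigmaExt

section Closed

variable {σ : Type w} [Small.{u} σ] (V : σ → Scheme.{u})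

/-- the components of a coproduct of schemes are closed. -/
lemma isClosed_range_sigmaι (j : σ) : IsClosed (Set.range (Sigma.ι V j).base) := by
  rw [← isOpen_compl_iff]
  have e : (Set.range (Sigma.ι V j).base)ᶜ = ⋃ k ∈ {k : σ | k ≠ j}, Set.range (Sigma.ι V k).base := by
    ext x
    simp only [Set.mem_compl_iff, Set.mem_iUnion, Set.mem_ofPred_eq]
    constructor
    · intro hx
      obtain ⟨k, y, rfl⟩ := (sigmaOpenCover V).exists_eq x
      refine ⟨k, ?_, y, rfl⟩
      rintro rfl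
      exact hx ⟨y, rfl⟩
    · rintro ⟨k, hk, y, rfl⟩ ⟨y', hy'⟩
      have hd := disjoint_opensRange_sigmaι V k j hk
      have hd' : Disjoint ((Sigma.ι V k).opensRange : Set ↥(∐ V)) ((Sigma.ι V j).opensRange : Set ↥(∐ V)) := by
        rwa [TopologicalSpace.Opens.coe_disjoint]
      exact Set.disjoint_left.1 hd' ⟨y, rfl⟩ ⟨y', hy'⟩
  rw [e]
  exact isOpen_biUnion fun k _ => (Sigma.ι V k).isOpenEmbedding.isOpen_range

instance isClosedImmersion_sigmaι (j : σ) : IsClosedImmersion (Sigma.ι V j) :=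
  IsClosedImmersion.of_isPreimmersion _ (isClosed_range_sigmaι V j)

end Closed

/-- a finite coproduct of quasi-affine schemes is quasi-affine. -/
lemma isQuasiAffine_sigma {m : ℕ} (W : Fin m → Scheme.{u}) [∀ j, (W j).IsQuasiAffine] :
    (∐ W).IsQuasiAffine := by
  let α : ∀ j, W j ⟶ ∐ (fun j => Spec Γ(W j, ⊤)) := fun j =>
    (W j).toSpecΓ ≫ Sigma.ι (fun j => Spec Γ(W j, ⊤)) j
  have hα : ∀ j, IsOpenImmersion (α j) := fun j => inferInstance
  have hdisj : Pairwise (Function.onFun Disjoint (fun j => Set.range (α j).base)) := by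
    intro i j hij
    have hd := disjoint_opensRange_sigmaι (fun j => Spec Γ(W j, ⊤)) i j hij
    have hd' : Disjoint
        ((Sigma.ι (fun j => Spec Γ(W j, ⊤)) i).opensRange : Set ↥(∐ fun j => Spec Γ(W j, ⊤)))
        ((Sigma.ι (fun j => Spec Γ(W j, ⊤)) j).opensRange : Set ↥(∐ fun j => Spec Γ(W j, ⊤))) := by
      rwa [TopologicalSpace.Opens.coe_disjoint]
    refine Set.disjoint_of_subset ?_ ?_ hd'
    · rintro _ ⟨y, rfl⟩
      exact ⟨(W i).toSpecΓ.base y, rfl⟩
    · rintro _ ⟨y, rfl⟩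
      exact ⟨(W j).toSpecΓ.base y, rfl⟩
  have : IsOpenImmersion (Sigma.desc α) := isOpenImmersion_sigmaDesc _ α hdisj
  have : Finite (sigmaOpenCover W).I₀ := inferInstanceAs (Finite (Fin m))
  have : ∀ i, CompactSpace ((sigmaOpenCover W).X i) := fun i =>
    inferInstanceAs (CompactSpace (W i))
  have : CompactSpace ↥(∐ W) := (sigmaOpenCover W).compactSpace
  exact Scheme.IsQuasiAffine.of_isImmersion (Sigma.desc α)

/-- a finite coproduct of ind-quasi-affine morphisms is ind-quasi-affine. -/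
theorem isIndQuasiAffineHom_sigmaMap (m : ℕ) (Y V : Fin m → Scheme.{u}) (q : ∀ j, Y j ⟶ V j)
    (hq : ∀ j, MoreMor.IsIndQuasiAffineHom (q j)) :
    MoreMor.IsIndQuasiAffineHom (Limits.Sigma.map q) := by
  rw [Groth.Agent.Lib.Helper2.isIndQuasiAffineHom_iff]
  intro A hA U hUA hU
  have hpiece : ∀ j, Scheme.IsQuasiAffine (pullback U.ι (Sigma.ι Y j)) := by
    intro j
    have hAj : IsAffineOpen (Sigma.ι V j ⁻¹ᵁ A) := hA.preimage (Sigma.ι V j)
    have hUj : IsCompact ((Sigma.ι Y j ⁻¹ᵁ U : (Y j).Opens) : Set (Y j)) :=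
      QuasiCompact.isCompact_preimage (f := Sigma.ι Y j) _ U.2 hU
    have hle : Sigma.ι Y j ⁻¹ᵁ U ≤ q j ⁻¹ᵁ (Sigma.ι V j ⁻¹ᵁ A) := by
      intro y hy
      have h1 : (Sigma.ι Y j).base y ∈ Limits.Sigma.map q ⁻¹ᵁ A := hUA hy
      have h2 : (Limits.Sigma.map q).base ((Sigma.ι Y j).base y) =
          (Sigma.ι V j).base ((q j).base y) := by
        rw [← Scheme.Hom.comp_apply, ← Scheme.Hom.comp_apply, Limits.Sigma.ι_map]
      change (Sigma.ι V j).base ((q j).base y) ∈ A
      rw [← h2]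
      exact h1
    have h3 : Scheme.IsQuasiAffine ((Sigma.ι Y j ⁻¹ᵁ U : (Y j).Opens) : Scheme.{u}) :=
      (Groth.Agent.Lib.Helper2.isIndQuasiAffineHom_iff (q j)).1 (hq j) _ hAj _ hle hUj
    exact Groth.Agent.Lib.Helper2.isQuasiAffine_of_iso
      (pullbackSymmetry _ _ ≪≫ pullbackRestrictIsoRestrict (Sigma.ι Y j) U)
  have h4 : Scheme.IsQuasiAffine (∐ fun j => pullback U.ι (Sigma.ι Y j)) :=
    isQuasiAffine_sigma _
  exact Groth.Agent.Lib.Helper2.isQuasiAffine_of_iso (asIso (piecesDesc U.ι)).symm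

end Groth.Agent.Lib.Helper15IndQASigma
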