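-- helper15: sheaves fppf-locally representable by relatively affine schemes are representable
import Mathlib
import Groth.Agent.Lib.Helper15FppfAffRepA
import Groth.Agent.Lib.Helper15ToposDesc
import Groth.Agent.Lib.Helper15FppfAffine
import Groth.Agent.Lib.Helper2IndQA
import Groth.Agent.S7482

set_option autoImplicit false
open CategoryTheory CategoryTheory.Limits AlgebraicGeometry Opposite
universe u

namespace Groth.Agent.Lib.Helper15FppfAffRepC

open Groth.Agent.Lib.Helper9 Groth.Agent.Lib.Helper12.QuotShLib Desc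
  Groth.Agent.Lib.Helper15FppfAffRepA

lemma isIndQuasiAffineHom_of_isAffineHom {X Y : Scheme.{u}} (g : X ⟶ Y) [IsAffineHom g] :
    MoreMor.IsIndQuasiAffineHom g := by
  rw [Groth.Agent.Lib.Helper2.isIndQuasiAffineHom_iff]
  intro V hV U hUV hU
  have hA : IsAffineOpen (g ⁻¹ᵁ V) := hV.preimage g
  have : IsAffine (g ⁻¹ᵁ V).toScheme := hA
  have : CompactSpace (U : Scheme.{u}) := isCompact_iff_compactSpace.mp hU
  exact Scheme.IsQuasiAffine.of_isImmersion (X.homOfLE hUV)

variable {S S' : Scheme.{u}} {f : S' ⟶ S}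

/-- descent data with affine structure morphism relative to an fppf morphism are effective -/
theorem effective_of_isAffineHom [Flat f] [Surjective f] [LocallyOfFinitePresentation f]
    (D : SchDD f) [IsAffineHom D.obj.hom] :
    ∃ T : Over S, Nonempty ((toDD f).obj T ≅ D) := by
  have hf : Presieve.ofArrows (fun _ : PUnit.{u + 1} => S') (fun _ => f) ∈
      Scheme.fpqcPrecoverage S := by
    rw [Presieve.ofArrows_pUnit]
    exact Scheme.fppfPrecoverage_le_fpqcPrecoverage _ f.singleton_mem_fppfPrecoverage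
  obtain ⟨T, ⟨e⟩⟩ := Groth.Agent.S7482.result (fun _ : PUnit.{u + 1} => f) hf
    ((SchDDFam.ofSchDD.{u} f).obj D) (fun _ => isIndQuasiAffineHom_of_isAffineHom D.obj.hom)
  exact ⟨T, ⟨(SchDDFam.toSchDD.{u} f).mapIso e⟩⟩

/-- representable sheaves separate morphisms of sheaves -/
lemma hom_ext_y {W Y : QuotSh.Sh Scheme.fppfPrecoverage S} (g₁ g₂ : W ⟶ Y)
    (h : ∀ (V : Over S) (t : (y).obj V ⟶ W), t ≫ g₁ = t ≫ g₂) : g₁ = g₂ := by
  apply Sheaf.hom_ext
  ext V s
  have h1 := h V.unop ((repFunctorIso Scheme.fppfPrecoverage).hom.app V.unop ≫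
    (QuotSh.J Scheme.fppfPrecoverage S).uliftYonedaEquiv.symm s)
  rw [Category.assoc, Category.assoc, cancel_epi] at h1
  have h2 := congrArg (QuotSh.J Scheme.fppfPrecoverage S).uliftYonedaEquiv h1
  rw [GrothendieckTopology.uliftYonedaEquiv_comp, GrothendieckTopology.uliftYonedaEquiv_comp,
    Equiv.apply_symm_apply] at h2
  exact h2

section Main

set_option linter.unusedSectionVars false

variable [Flat f] [Surjective f] [LocallyOfFinitePresentation f]
  {Z : QuotSh.Sh Scheme.fppfPrecoverage S} {T' : Over S} {a : T' ⟶ Over.mk f}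
  (φ : (y).obj T' ≅ Z ⨯ (y).obj (Over.mk f)) (hφ : φ.hom ≫ prod.snd = (y).map a)
  (T : Over S) (e : (toDD f).obj T ≅ D φ hφ)

/-- the fibre product as an object over `S` -/
noncomputable abbrev Po : Over S := Over.mk (pullback.fst f T.hom ≫ f)

/-- projection to `T` -/
noncomputable abbrev prT : Po (f := f) T ⟶ T :=
  Over.homMk (pullback.snd f T.hom) pullback.condition.symm

/-- projection to `S'` -/
noncomputable abbrev prS : Po (f := f) T ⟶ Over.mk f := Over.homMk (pullback.fst f T.hom) rfl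

/-- the terminal object -/
noncomputable abbrev tT : T ⟶ Over.mk (𝟙 S) := Over.homMk T.hom (Category.comp_id _)

/-- the terminal object -/
noncomputable abbrev tS : Over.mk f ⟶ Over.mk (𝟙 S) := Over.homMk f (Category.comp_id _)

lemma isPullback_Po : IsPullback (prT (f := f) T) (prS T) (tT T) (tS (f := f)) := by
  refine IsPullback.of_map (Over.forget S) ?_ ?_
  · exact Over.mkIdTerminal.hom_ext _ _
  · exact (IsPullback.of_hasPullback f T.hom).flip

/-- the sheaf of the final object is final -/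
noncomputable def hterm : IsTerminal ((y (S := S)).obj (Over.mk (𝟙 S))) :=
  IsTerminal.isTerminalObj (y (S := S)) _ Over.mkIdTerminal

/-- the sheaf of the fibre product is the product of the sheaves -/
noncomputable def hprod :
    IsLimit (BinaryFan.mk ((y).map (prT (f := f) T)) ((y).map (prS (f := f) T))) :=
  isProductOfIsTerminalIsPullback ((y).map (tT T)) ((y).map (tS (f := f))) _ _ hterm
    (isPullback_repMap Scheme.fppfPrecoverage (isPullback_Po (f := f) T)).isLimit

/-- the comparison isomorphism -/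
noncomputable def κ : (y).obj (Po (f := f) T) ≅ (y).obj T ⨯ (y).obj (Over.mk f) :=
  (hprod (f := f) T).conePointUniqueUpToIso (limit.isLimit _)

lemma κ_fst : (κ (f := f) T).hom ≫ prod.fst = (y).map (prT (f := f) T) :=
  IsLimit.conePointUniqueUpToIso_hom_comp (hprod (f := f) T) (limit.isLimit _) ⟨WalkingPair.left⟩

lemma κ_snd : (κ (f := f) T).hom ≫ prod.snd = (y).map (prS (f := f) T) :=
  IsLimit.conePointUniqueUpToIso_hom_comp (hprod (f := f) T) (limit.isLimit _) ⟨WalkingPair.right⟩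

lemma epi_fst (X : QuotSh.Sh Scheme.fppfPrecoverage S) :
    Epi (prod.fst : X ⨯ (y).obj (Over.mk f) ⟶ X) := by
  have hpb : IsPullback (prod.fst : X ⨯ (y).obj (Over.mk f) ⟶ X) prod.snd
      (hterm.from X) (hterm.from ((y).obj (Over.mk f))) :=
    ⟨⟨hterm.hom_ext _ _⟩, ⟨isPullbackOfIsTerminalIsProduct _ _ _ _ hterm (prodIsProd _ _)⟩⟩
  have h1 : hterm.from ((y).obj (Over.mk f)) = (y).map (tS (f := f)) := hterm.hom_ext _ _
  have : Flat (tS (f := f)).left := ‹Flat f›
  have : Surjective (tS (f := f)).left := ‹Surjective f›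
  have : LocallyOfFinitePresentation (tS (f := f)).left := ‹LocallyOfFinitePresentation f›
  have h2 : Epi ((y).map (tS (f := f))) := epi_repMap_fppf (tS (f := f))
  rw [← h1] at h2
  exact ToposLike.epi_of_isPullback hpb h2

/-- the underlying morphism of schemes of `e.hom` -/
noncomputable def el : pullback f T.hom ⟶ T'.left := e.hom.hom.left

/-- the underlying morphism of schemes of `e.inv` -/
noncomputable def eli : T'.left ⟶ pullback f T.hom := e.inv.hom.left

lemma el_a : el φ hφ T e ≫ a.left = pullback.fst f T.hom := Over.w e.hom.hom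

lemma el_eli : el φ hφ T e ≫ eli φ hφ T e = 𝟙 _ := by
  have h0 : (e.hom ≫ e.inv).hom.left = (𝟙 ((toDD f).obj T) : _ ⟶ _).hom.left := by
    rw [e.hom_inv_id]
  exact h0

lemma eli_el : eli φ hφ T e ≫ el φ hφ T e = 𝟙 _ := by
  have h0 : (e.inv ≫ e.hom).hom.left = (𝟙 (D φ hφ) : _ ⟶ _).hom.left := by rw [e.inv_hom_id]
  exact h0

lemma e_w : el φ hφ T e ≫ T'.hom = pullback.fst f T.hom ≫ f := by
  have h2 : a.left ≫ f = T'.hom := Over.w a
  rw [← h2, ← Category.assoc, el_a]

/-- the isomorphism of schemes over `S` underlying `e` -/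
noncomputable def εIso : Po (f := f) T ≅ T' where
  hom := Over.homMk (el φ hφ T e) (e_w φ hφ T e)
  inv := Over.homMk (eli φ hφ T e) (by
    change eli φ hφ T e ≫ pullback.fst f T.hom ≫ f = T'.hom
    rw [← e_w φ hφ T e, ← Category.assoc, eli_el, Category.id_comp])
  hom_inv_id := by
    apply Over.OverMorphism.ext
    exact el_eli φ hφ T e
  inv_hom_id := by
    apply Over.OverMorphism.ext
    exact eli_el φ hφ T e

lemma εIso_hom_a : (εIso φ hφ T e).hom ≫ a = prS (f := f) T := by
  apply Over.OverMorphism.ext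
  exact el_a φ hφ T e

/-- the isomorphism of products -/
noncomputable def χ : (y).obj T ⨯ (y).obj (Over.mk f) ≅ Z ⨯ (y).obj (Over.mk f) :=
  (κ (f := f) T).symm ≪≫ (y).mapIso (εIso φ hφ T e) ≪≫ φ

lemma χ_snd : (χ φ hφ T e).hom ≫ prod.snd = prod.snd := by
  simp only [χ, Iso.trans_hom, Iso.symm_hom, Functor.mapIso_hom, Category.assoc]
  rw [hφ, ← Functor.map_comp, εIso_hom_a, ← κ_snd, Iso.inv_hom_id_assoc]

/-- the point of the fibre product with given components -/
noncomputable def lpt {V : Over S} (b₀ : V ⟶ T) (x : V ⟶ Over.mk f) : V ⟶ Po (f := f) T :=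
  Over.homMk (pullback.lift x.left b₀.left (by rw [Over.w b₀]; exact Over.w x)) (by
    change pullback.lift _ _ _ ≫ pullback.fst f T.hom ≫ f = V.hom
    rw [pullback.lift_fst_assoc]; exact Over.w x)

lemma lpt_κ {V : Over S} (b₀ : V ⟶ T) (x : V ⟶ Over.mk f) :
    (y).map (lpt (f := f) T b₀ x) ≫ (κ (f := f) T).hom = prod.lift ((y).map b₀) ((y).map x) := by
  apply prod.hom_ext
  · rw [Category.assoc, κ_fst, prod.lift_fst, ← Functor.map_comp]
    congr 1
    apply Over.OverMorphism.ext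
    exact pullback.lift_snd _ _ _
  · rw [Category.assoc, κ_snd, prod.lift_snd, ← Functor.map_comp]
    congr 1
    apply Over.OverMorphism.ext
    exact pullback.lift_fst _ _ _

lemma key {V : Over S} (b₀ : V ⟶ T) (x₁ x₂ : V ⟶ Over.mk f) :
    (y).map (lpt (f := f) T b₀ x₁ ≫ (εIso φ hφ T e).hom) ≫ ψ φ =
      (y).map (lpt (f := f) T b₀ x₂ ≫ (εIso φ hφ T e).hom) ≫ ψ φ := by
  have h₁ : x₁.left ≫ f = V.hom := Over.w x₁
  have h₂ : x₂.left ≫ f = V.hom := Over.w x₂
  let v : Lifts (Over.mk (pullback.fst f T.hom)) x₁.left :=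
    ⟨(lpt (f := f) T b₀ x₁).left, pullback.lift_fst _ _ _⟩
  let w : Lifts (Over.mk a.left : Over S') x₁.left :=
    ⟨(lpt (f := f) T b₀ x₁).left ≫ el φ hφ T e, by
      change ((lpt (f := f) T b₀ x₁).left ≫ el φ hφ T e) ≫ a.left = x₁.left
      rw [Category.assoc, el_a]; exact pullback.lift_fst _ _ _⟩
  have hc := e.hom.comm x₁.left x₂.left (h₁.trans h₂.symm) v w rfl
  have h3 : ((canonicalDD f T).φ x₁.left x₂.left (h₁.trans h₂.symm) v).1 =
      (lpt (f := f) T b₀ x₂).left := by
    change pullback.lift x₂.left (v.1 ≫ pullback.snd f T.hom) _ = pullback.lift x₂.left b₀.left _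
    congr 1
    exact pullback.lift_snd _ _ _
  have h4 := E_Φ φ hφ x₁.left x₂.left V.hom h₁ h₂ w
  rw [E_apply, E_apply] at h4
  refine Eq.trans ?_ (h4.symm.trans ?_)
  · congr 2
  · congr 2
    apply Over.OverMorphism.ext
    change (Φ φ hφ x₁.left x₂.left (h₁.trans h₂.symm) w).1 = (lpt (f := f) T b₀ x₂).left ≫ el φ hφ T e
    rw [← h3]
    exact hc

lemma hc_χ (V : Over S) (b : (y).obj V ⟶ (y).obj T)
    (a₁ a₂ : (y).obj V ⟶ (y).obj (Over.mk f)) :
    prod.lift b a₁ ≫ (χ φ hφ T e).hom ≫ prod.fst =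
      prod.lift b a₂ ≫ (χ φ hφ T e).hom ≫ prod.fst := by
  obtain ⟨b₀, rfl⟩ := (repFunctorFullyFaithful Scheme.fppfPrecoverage).map_surjective b
  obtain ⟨x₁, rfl⟩ := (repFunctorFullyFaithful Scheme.fppfPrecoverage).map_surjective a₁
  obtain ⟨x₂, rfl⟩ := (repFunctorFullyFaithful Scheme.fppfPrecoverage).map_surjective a₂
  have hχ : ∀ x : V ⟶ Over.mk f,
      prod.lift ((y).map b₀) ((y).map x) ≫ (χ φ hφ T e).hom ≫ prod.fst =
      (y).map (lpt (f := f) T b₀ x ≫ (εIso φ hφ T e).hom) ≫ ψ φ := by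
    intro x
    rw [← lpt_κ]
    simp only [χ, Iso.trans_hom, Iso.symm_hom, Functor.mapIso_hom, Category.assoc,
      Iso.hom_inv_id_assoc, Functor.map_comp, ψ]
  exact (hχ x₁).trans ((key φ hφ T e b₀ x₁ x₂).trans (hχ x₂).symm)

include e in
theorem exists_iso : ∃ β : (y).obj T ⟶ Z, IsIso β :=
  let ⟨β, hβ, _⟩ := Groth.Agent.Lib.Helper15ToposDesc.exists_iso_of_prod_iso
    (fun V : Over S => (y).obj V) (fun _ _ g₁ g₂ h => hom_ext_y g₁ g₂ h)
    (fun X => epi_fst (f := f) X) (χ φ hφ T e) (χ_snd φ hφ T e) (hc_χ φ hφ T e)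
  ⟨β, hβ⟩

include e in
lemma isAffineHom_T [IsAffineHom a.left] : IsAffineHom T.hom := by
  have h1 : pullback.fst f T.hom = el φ hφ T e ≫ a.left := (el_a φ hφ T e).symm
  have : IsIso (el φ hφ T e) := ⟨eli φ hφ T e, el_eli φ hφ T e, eli_el φ hφ T e⟩
  have : IsAffineHom (pullback.fst f T.hom) := by rw [h1]; infer_instance
  exact Groth.Agent.Lib.Helper15FppfAffine.isAffineHom_of_fppf f T.hom

end Main

/-- a sheaf which becomes representable by a scheme affine over an fppf cover is representable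
by a scheme affine over the base -/
theorem representable_of_fppf_locally_affine {S S' : Scheme.{u}} (f : S' ⟶ S) [Flat f]
    [Surjective f] [LocallyOfFinitePresentation f] (Z : QuotSh.Sh Scheme.fppfPrecoverage S)
    (T' : Over S) (a : T' ⟶ Over.mk f) [IsAffineHom a.left]
    (φ : (y).obj T' ≅ Z ⨯ (y).obj (Over.mk f)) (hφ : φ.hom ≫ prod.snd = (y).map a) :
    ∃ T : Over S, IsAffineHom T.hom ∧ Nonempty ((y).obj T ≅ Z) := by
  have : IsAffineHom (D φ hφ).obj.hom := ‹IsAffineHom a.left›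
  obtain ⟨T, ⟨e⟩⟩ := effective_of_isAffineHom (D φ hφ)
  obtain ⟨β, hβ⟩ := exists_iso φ hφ T e
  exact ⟨T, isAffineHom_T φ hφ T e, ⟨asIso β⟩⟩

end Groth.Agent.Lib.Helper15FppfAffRepC
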