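-- helper15: descent of closed subschemes along fpqc covering families; gluing closed subfunctors
import Mathlib
import Groth.Agent.Lib.Helper15FppfAffRepC
import Groth.Agent.Lib.Helper12Descent
import Groth.Agent.Lib.Helper12Torsor

set_option autoImplicit false
universe u
open CategoryTheory CategoryTheory.Limits AlgebraicGeometry

namespace Groth.Agent.Lib.Helper15ClDescFam

open Groth.Agent.Lib.Helper12

section MonoDD

variable {ι : Type u} {S : Scheme.{u}} {X : ι → Scheme.{u}} (f : ∀ i, X i ⟶ S)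

lemma subsingleton_lifts {Y : Scheme.{u}} (V : Over Y) [Mono V.hom] {T : Scheme.{u}} (x : T ⟶ Y) :
    Subsingleton (Desc.Lifts V x) := by
  constructor
  intro v w
  apply Subtype.ext
  rw [← cancel_mono V.hom, v.2, w.2]

variable (V : ∀ i, Over (X i)) [∀ i, Mono (V i).hom]
  (h : ∀ ⦃T : Scheme.{u}⦄ ⦃i j : ι⦄ (x₀ : T ⟶ X i) (x₁ : T ⟶ X j), x₀ ≫ f i = x₁ ≫ f j →
      (∃ v : T ⟶ (V i).left, v ≫ (V i).hom = x₀) → ∃ v : T ⟶ (V j).left, v ≫ (V j).hom = x₁)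

/-- transport of lifts. -/
noncomputable def tr {T : Scheme.{u}} {i j : ι} (x₀ : T ⟶ X i) (x₁ : T ⟶ X j)
    (e : x₀ ≫ f i = x₁ ≫ f j) (v : Desc.Lifts (V i) x₀) : Desc.Lifts (V j) x₁ :=
  ⟨(h x₀ x₁ e ⟨v.1, v.2⟩).choose, (h x₀ x₁ e ⟨v.1, v.2⟩).choose_spec⟩

/-- a family of subobjects stable under the equivalence relation of the family carries a descent
datum. -/
noncomputable def ofMonoFam : Desc.SchDDFam f where
  obj := V
  φ T i j x₀ x₁ e :=
    { toFun := tr f V h x₀ x₁ e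
      invFun := tr f V h x₁ x₀ e.symm
      left_inv := fun v => (subsingleton_lifts (V i) x₀).elim _ _
      right_inv := fun v => (subsingleton_lifts (V j) x₁).elim _ _ }
  φ_natural T T' g i j x₀ x₁ e y₀ y₁ hy₀ hy₁ e' v v' hv := by
    subst hy₀ hy₁
    rw [← cancel_mono (V j).hom]
    have h1 : (tr f V h (g ≫ x₀) (g ≫ x₁) e' v').1 ≫ (V j).hom = g ≫ x₁ :=
      (tr f V h _ _ e' v').2
    have h2 : (tr f V h x₀ x₁ e v).1 ≫ (V j).hom = x₁ := (tr f V h _ _ e v).2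
    change (tr f V h (g ≫ x₀) (g ≫ x₁) e' v').1 ≫ (V j).hom =
      (g ≫ (tr f V h x₀ x₁ e v).1) ≫ (V j).hom
    rw [h1, Category.assoc, h2]
  φ_self T i x v := (subsingleton_lifts (V i) x).elim _ _
  φ_comp T i j k x₀ x₁ x₂ e₁ e₂ v := (subsingleton_lifts (V k) x₂).elim _ _

end MonoDD

/-- descent of closed subschemes along an fpqc covering family. -/
theorem exists_closed_descent_fam {ι : Type u} {S : Scheme.{u}} {X : ι → Scheme.{u}}
    (f : ∀ i, X i ⟶ S) (hf : Presieve.ofArrows X f ∈ Scheme.fpqcPrecoverage S)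
    (V : ∀ i, Over (X i)) [∀ i, IsClosedImmersion (V i).hom]
    (h : ∀ ⦃T : Scheme.{u}⦄ ⦃i j : ι⦄ (x₀ : T ⟶ X i) (x₁ : T ⟶ X j), x₀ ≫ f i = x₁ ≫ f j →
      (∃ v : T ⟶ (V i).left, v ≫ (V i).hom = x₀) → ∃ v : T ⟶ (V j).left, v ≫ (V j).hom = x₁) :
    ∃ (W : Scheme.{u}) (i : W ⟶ S), IsClosedImmersion i ∧
      ∀ ⦃T : Scheme.{u}⦄ (k : ι) (x : T ⟶ X k),
        (∃ v : T ⟶ (V k).left, v ≫ (V k).hom = x) ↔ ∃ w : T ⟶ W, w ≫ i = x ≫ f k := by
  obtain ⟨W₀, ⟨e⟩⟩ := Groth.Agent.S7482.result f hf (ofMonoFam f V h)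
    (fun k => Groth.Agent.Lib.Helper15FppfAffRepC.isIndQuasiAffineHom_of_isAffineHom (V k).hom)
  have key : ∀ k, ∃ (a : pullback (f k) W₀.hom ⟶ (V k).left)
      (b : (V k).left ⟶ pullback (f k) W₀.hom), a ≫ (V k).hom = pullback.fst (f k) W₀.hom ∧
      b ≫ pullback.fst (f k) W₀.hom = (V k).hom ∧ a ≫ b = 𝟙 _ ∧ b ≫ a = 𝟙 _ := fun k =>
    ⟨(e.hom.hom k).left, (e.inv.hom k).left, Over.w (e.hom.hom k), Over.w (e.inv.hom k),
      congrArg (fun t => (t.hom k).left) e.hom_inv_id,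
      congrArg (fun t => (t.hom k).left) e.inv_hom_id⟩
  choose a b ha hb hab hba using key
  refine ⟨W₀.left, W₀.hom, ?_, ?_⟩
  · refine of_mem_fpqcPrecoverage descendsAlong_isClosedImmersion W₀.hom (Presieve.ofArrows X f)
      hf ?_
    rintro Y' _ ⟨k⟩
    have hiso : IsIso (a k) := ⟨b k, hab k, hba k⟩
    have h1 : pullback.snd W₀.hom (f k) = (pullbackSymmetry W₀.hom (f k)).hom ≫ a k ≫ (V k).hom := by
      rw [ha, pullbackSymmetry_hom_comp_fst]
    rw [h1]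
    infer_instance
  · intro T k x
    constructor
    · rintro ⟨v, hv⟩
      refine ⟨v ≫ b k ≫ pullback.snd (f k) W₀.hom, ?_⟩
      rw [Category.assoc, Category.assoc, ← pullback.condition, ← Category.assoc (b k),
        hb, ← Category.assoc, hv]
    · rintro ⟨w, hw⟩
      refine ⟨pullback.lift x w hw.symm ≫ a k, ?_⟩
      rw [Category.assoc, ha, pullback.lift_fst]

/-- factoring through a monomorphism can be checked on an fpqc covering. -/
theorem factors_of_fpqc {T S W : Scheme.{u}} (i : W ⟶ S) [Mono i] (ξ : T ⟶ S) (R : Presieve T)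
    (hR : R ∈ Scheme.fpqcPrecoverage T)
    (h : ∀ ⦃T' : Scheme.{u}⦄ (g : T' ⟶ T), R g → ∃ w : T' ⟶ W, w ≫ i = g ≫ ξ) :
    ∃ w : T ⟶ W, w ≫ i = ξ := by
  have hp : IsIso (pullback.fst ξ i) := by
    have := of_mem_fpqcPrecoverage (P := MorphismProperty.isomorphisms Scheme.{u}) inferInstance
      (pullback.fst ξ i) R hR ?_
    · exact this
    · intro T' g hg
      obtain ⟨w, hw⟩ := h g hg
      change IsIso _
      have hm : Mono (pullback.snd (pullback.fst ξ i) g) := inferInstance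
      have : IsSplitEpi (pullback.snd (pullback.fst ξ i) g) :=
        IsSplitEpi.mk' ⟨pullback.lift (pullback.lift g w hw.symm) (𝟙 _) (by
          rw [pullback.lift_fst, Category.id_comp]), pullback.lift_snd _ _ _⟩
      exact isIso_of_mono_of_isSplitEpi _
  exact ⟨inv (pullback.fst ξ i) ≫ pullback.snd ξ i, by
    rw [Category.assoc, ← pullback.condition, IsIso.inv_hom_id_assoc]⟩

/-- a subfunctor of a scheme which is fpqc-local and which is represented by closed subschemes over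
the members of an fpqc covering family is represented by a closed subscheme. -/
theorem exists_closed_of_local {ι : Type u} {S : Scheme.{u}} {X : ι → Scheme.{u}}
    (f : ∀ i, X i ⟶ S) (hf : Presieve.ofArrows X f ∈ Scheme.fpqcPrecoverage S)
    (F : ∀ ⦃T : Scheme.{u}⦄, (T ⟶ S) → Prop)
    (F1 : ∀ ⦃T T' : Scheme.{u}⦄ (g : T' ⟶ T) (ξ : T ⟶ S), F ξ → F (g ≫ ξ))
    (F2 : ∀ ⦃T : Scheme.{u}⦄ (ξ : T ⟶ S), (∀ i, F (pullback.snd (f i) ξ ≫ ξ)) → F ξ)
    (F3 : ∀ i, ∃ (Z : Scheme.{u}) (j : Z ⟶ X i), IsClosedImmersion j ∧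
      ∀ ⦃T : Scheme.{u}⦄ (ξ : T ⟶ X i), F (ξ ≫ f i) ↔ ∃ z : T ⟶ Z, z ≫ j = ξ) :
    ∃ (Z : Scheme.{u}) (j : Z ⟶ S), IsClosedImmersion j ∧
      ∀ ⦃T : Scheme.{u}⦄ (ξ : T ⟶ S), F ξ ↔ ∃ z : T ⟶ Z, z ≫ j = ξ := by
  choose Z j hj hF using F3
  have : ∀ i, IsClosedImmersion (Over.mk (j i)).hom := hj
  obtain ⟨W, i, hi, hW⟩ := exists_closed_descent_fam f hf (fun k => Over.mk (j k)) (by
    intro T k l x₀ x₁ e hx
    exact (hF l x₁).1 (e ▸ (hF k x₀).2 hx))
  refine ⟨W, i, hi, fun T ξ => ⟨fun hξ => ?_, ?_⟩⟩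
  · refine factors_of_fpqc i ξ _ (Precoverage.pullbackArrows_mem ξ hf) ?_
    rintro T' _ ⟨_, _, ⟨k⟩⟩
    have h1 : F (pullback.fst (f k) ξ ≫ f k) := by
      rw [pullback.condition]
      exact F1 _ ξ hξ
    obtain ⟨w, hw⟩ := (hW k (pullback.fst (f k) ξ)).1 ((hF k _).1 h1)
    exact ⟨w, by rw [hw, pullback.condition]⟩
  · rintro ⟨w, rfl⟩
    refine F2 _ fun k => ?_
    rw [← pullback.condition]
    refine (hF k _).2 ((hW k _).2 ⟨pullback.snd (f k) (w ≫ i) ≫ w, ?_⟩)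
    rw [Category.assoc, pullback.condition]

end Groth.Agent.Lib.Helper15ClDescFam
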