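-- helper15: Weil restriction of closed subschemes / coincidence loci over a general base, locally free case (generalizes helper11's FixGen)
import Mathlib
import Groth.Agent.Lib.Helper11FixGen

set_option autoImplicit false
set_option linter.unusedSectionVars false
universe u
open CategoryTheory CategoryTheory.Limits AlgebraicGeometry

namespace Groth.Agent.Lib.Helper15WeilCl

open Groth.Agent.Lib.Helper11FixSch Groth.Agent.Lib.Helper11FixRep Groth.Agent.Lib.Helper11FixGen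

variable {K Y X E : Scheme.{u}} {y : Y ⟶ K} {x₀ : X ⟶ K} {ε : E ⟶ pullback y x₀}

theorem isAffineOpen_boxOpen' {U : K.Opens} (hU : IsAffineOpen U) {T : Scheme.{u}} [IsAffine T]
    (t : T ⟶ K) (ht : (⊤ : T.Opens) ≤ t ⁻¹ᵁ U) (V : Y.affineOpens) (hV : V.1 ≤ y ⁻¹ᵁ U) :
    IsAffineOpen (boxOpen (y := y) t V.1) := by
  have H : IsPullback (pullback.fst y t) (pullback.snd y t) y t := IsPullback.of_hasPullback _ _
  have : IsAffine U := hU
  have : IsAffine (⊤ : T.Opens) := isAffineOpen_top T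
  have : IsAffine V.1 := V.2
  exact .of_isIso (Scheme.Hom.isPullback_resLE H ht hV rfl).isoPullback.hom

theorem isPushout_boxOpen' {U : K.Opens} (hU : IsAffineOpen U) {T : Scheme.{u}} [IsAffine T]
    (t : T ⟶ K) (ht : (⊤ : T.Opens) ≤ t ⁻¹ᵁ U) (V : Y.affineOpens) (hV : V.1 ≤ y ⁻¹ᵁ U) :
    IsPushout (t.appLE U ⊤ ht) (y.appLE U V.1 hV)
      ((pullback.snd y t).appLE ⊤ (boxOpen (y := y) t V.1) inf_le_right)
      ((pullback.fst y t).appLE V.1 (boxOpen (y := y) t V.1) inf_le_left) := by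
  have H : IsPullback (pullback.fst y t) (pullback.snd y t) y t := IsPullback.of_hasPullback _ _
  have hiso := isIso_pushoutSection_of_isAffineOpen H ht hV
    (UY := boxOpen (y := y) t V.1) rfl hU (isAffineOpen_top T) V.2
  exact ((isIso_pushoutSection_iff H ht hV rfl).mp hiso).flip

/-- **Dominant descent** over an affine open `U` of the base: if `x₀` lands in `U` and `y ⁻¹ U` is
covered by affine opens whose coordinate rings are free over `Γ(K, U)`, then `FixE` descends along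
families of morphisms of affine schemes which are jointly injective on global sections. -/
theorem FixE.of_family' [IsClosedImmersion ε] {U : K.Opens} (hU : IsAffineOpen U)
    (hx : ∀ p : X, x₀ p ∈ U)
    (𝒱 : Set Y.affineOpens) (hle : ∀ V ∈ 𝒱, V.1 ≤ y ⁻¹ᵁ U)
    (hcov : ∀ p : Y, y p ∈ U → ∃ V ∈ 𝒱, p ∈ V.1)
    (hfree : ∀ V (hV : V ∈ 𝒱),
      letI := (y.appLE U V.1 (hle V hV)).hom.toAlgebra; Module.Free Γ(K, U) Γ(Y, V.1))
    {T : Scheme.{u}} [IsAffine T] (t : T ⟶ K) (ξ : T ⟶ X) (h : ξ ≫ x₀ = t)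
    {ι : Type*} (T' : ι → Scheme.{u}) [∀ c, IsAffine (T' c)] (τ : ∀ c, T' c ⟶ T)
    (hinj : ∀ a : Γ(T, ⊤), (∀ c, (τ c).appLE ⊤ ⊤ le_top a = 0) → a = 0)
    (H : ∀ c, FixE y x₀ ε (τ c ≫ t) (τ c ≫ ξ) (by rw [Category.assoc, h])) :
    FixE y x₀ ε t ξ h := by
  have ht : (⊤ : T.Opens) ≤ t ⁻¹ᵁ U := by
    intro p _
    show t p ∈ U
    rw [← h, Scheme.Hom.comp_apply]
    exact hx _
  have ht' : ∀ c, (⊤ : (T' c).Opens) ≤ (τ c ≫ t) ⁻¹ᵁ U := by
    intro c p _
    show (τ c ≫ t) p ∈ U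
    rw [Scheme.Hom.comp_apply]
    exact ht (Set.mem_univ _)
  -- the pulled back closed subscheme
  obtain ⟨e, he0⟩ : ∃ e, e = pullback.fst (pm y x₀ t ξ h) ε := ⟨_, rfl⟩
  have he : IsClosedImmersion e := by rw [he0]; infer_instance
  -- the base change maps
  let m : ∀ c, pullback y (τ c ≫ t) ⟶ pullback y t := fun c =>
    pullback.map y (τ c ≫ t) y t (𝟙 Y) (τ c) (𝟙 K) (by simp) (by simp)
  have hm : ∀ c, ∃ l, l ≫ e = m c := by
    intro c
    obtain ⟨l, hl⟩ := H c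
    rw [pm_comp t ξ h (τ c) (τ c ≫ t) rfl] at hl
    refine ⟨pullback.lift (m c) l hl.symm, ?_⟩
    rw [he0, pullback.lift_fst]
  choose l hl using hm
  have hm1 : ∀ c, m c ≫ pullback.fst y t = pullback.fst y (τ c ≫ t) := fun c => by
    simp [m, pullback.lift_fst]
  have hm2 : ∀ c, m c ≫ pullback.snd y t = pullback.snd y (τ c ≫ t) ≫ τ c := fun c => by
    simp [m, pullback.lift_snd]
  suffices hiso : IsIso e by
    subst he0
    refine ⟨inv (pullback.fst (pm y x₀ t ξ h) ε) ≫ pullback.snd (pm y x₀ t ξ h) ε, ?_⟩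
    rw [Category.assoc, ← pullback.condition, IsIso.inv_hom_id_assoc]
  rw [IsClosedImmersion.isIso_iff_ker_eq_bot, ← le_bot_iff]
  refine Scheme.IdealSheafData.le_of_iSup_eq_top
    (fun V : 𝒱 => (⟨boxOpen (y := y) t V.1.1,
      isAffineOpen_boxOpen' hU t ht V.1 (hle V.1 V.2)⟩ : (pullback y t).affineOpens)) ?_ ?_
  · rw [eq_top_iff]
    intro p _
    have hp : y ((pullback.fst y t) p) ∈ U := by
      rw [← Scheme.Hom.comp_apply, pullback.condition, Scheme.Hom.comp_apply]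
      exact ht (Set.mem_univ _)
    obtain ⟨V, hV, hpV⟩ := hcov _ hp
    exact TopologicalSpace.Opens.mem_iSup.mpr ⟨⟨V, hV⟩, ⟨hpV, trivial⟩⟩
  · rintro ⟨V, hV⟩ s hs
    rw [Scheme.Hom.ker_apply, RingHom.mem_ker] at hs
    change s = 0
    have hle' : ∀ c, boxOpen (y := y) (τ c ≫ t) V.1 ≤ m c ⁻¹ᵁ boxOpen (y := y) t V.1 := by
      intro c p hp
      refine ⟨?_, trivial⟩
      show (pullback.fst y t) ((m c) p) ∈ V.1
      rw [← Scheme.Hom.comp_apply, hm1 c]
      exact hp.1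
    refine Groth.Agent.Lib.Helper11FixAlg.eq_zero_of_isPushout
      (isPushout_boxOpen' hU t ht V (hle V hV)) (hfree V hV)
      (fun c => (τ c ≫ t).appLE U ⊤ (ht' c))
      (fun c => (pullback.fst y (τ c ≫ t)).appLE V.1 (boxOpen (y := y) (τ c ≫ t) V.1) inf_le_left)
      (fun c => (pullback.snd y (τ c ≫ t)).appLE ⊤ (boxOpen (y := y) (τ c ≫ t) V.1) inf_le_right)
      (fun c => isPushout_boxOpen' hU (τ c ≫ t) (ht' c) V (hle V hV))
      (fun c => (τ c).appLE ⊤ ⊤ le_top)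
      (fun c => (m c).appLE (boxOpen (y := y) t V.1) (boxOpen (y := y) (τ c ≫ t) V.1) (hle' c))
      ?_ ?_ hinj s ?_
    · intro c
      rw [Scheme.Hom.appLE_comp_appLE]
      exact appLE_eq_of_eq (hm1 c) _ _ _
    · intro c
      rw [Scheme.Hom.appLE_comp_appLE, Scheme.Hom.appLE_comp_appLE]
      exact appLE_eq_of_eq (hm2 c) _ _ _
    · intro c
      have h1 : (m c).appLE (boxOpen (y := y) t V.1) (boxOpen (y := y) (τ c ≫ t) V.1) (hle' c) =
          (l c ≫ e).appLE (boxOpen (y := y) t V.1) (boxOpen (y := y) (τ c ≫ t) V.1)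
            ((hl c).symm ▸ hle' c) := appLE_eq_of_eq (hl c).symm _ _ _
      rw [h1, Scheme.Hom.comp_appLE, CommRingCat.comp_apply, hs, map_zero]

/-- descent of `FixE` along jointly injective families of ring maps. -/
def DescProp (y : Y ⟶ K) (x₀ : X ⟶ K) (ε : E ⟶ pullback y x₀) : Prop :=
  ∀ {R : CommRingCat.{u}} (ξ : Spec R ⟶ X) {ι : Type u} (R' : ι → CommRingCat.{u})
    (φ : ∀ c, R ⟶ R' c), (∀ r : R, (∀ c, φ c r = 0) → r = 0) →
    (∀ c, FixE y x₀ ε ((Spec.map (φ c) ≫ ξ) ≫ x₀) (Spec.map (φ c) ≫ ξ) rfl) →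
    FixE y x₀ ε (ξ ≫ x₀) ξ rfl

theorem descProp_of_free [IsClosedImmersion ε] {U : K.Opens} (hU : IsAffineOpen U)
    (hx : ∀ p : X, x₀ p ∈ U)
    (𝒱 : Set Y.affineOpens) (hle : ∀ V ∈ 𝒱, V.1 ≤ y ⁻¹ᵁ U)
    (hcov : ∀ p : Y, y p ∈ U → ∃ V ∈ 𝒱, p ∈ V.1)
    (hfree : ∀ V (hV : V ∈ 𝒱),
      letI := (y.appLE U V.1 (hle V hV)).hom.toAlgebra; Module.Free Γ(K, U) Γ(Y, V.1)) :
    DescProp y x₀ ε := by
  intro R ξ ι R' φ hinj H
  refine FixE.of_family' hU hx 𝒱 hle hcov hfree (ξ ≫ x₀) ξ rfl (fun c => Spec (R' c))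
    (fun c => Spec.map (φ c)) ?_ ?_
  · intro a ha
    obtain ⟨r, rfl⟩ : ∃ r, (Scheme.ΓSpecIso R).inv r = a :=
      ⟨(Scheme.ΓSpecIso R).hom a, by simp⟩
    have hr : r = 0 := by
      apply hinj
      intro c
      have h1 := congr($(Scheme.ΓSpecIso_inv_naturality (φ c)) r)
      rw [CommRingCat.comp_apply, CommRingCat.comp_apply] at h1
      have h2 : (Spec.map (φ c)).appTop ((Scheme.ΓSpecIso R).inv r) = 0 := ha c
      rw [h2] at h1
      have := congrArg (Scheme.ΓSpecIso (R' c)).hom h1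
      simpa using this
    rw [hr, map_zero]
  · intro c
    exact FixE.of_eq (H c) (Category.assoc _ _ _) rfl

section main

variable [IsClosedImmersion ε] (hD : DescProp y x₀ ε)
include hD

theorem fixEI_sInf (U : X.affineOpens) (S : Set (Ideal Γ(X, U)))
    (hS : ∀ I ∈ S, FixEI y x₀ ε U I) : FixEI y x₀ ε U (sInf S) := by
  unfold FixEI
  refine hD (ξI U (sInf S))
    (fun I : S => CommRingCat.of (Γ(X, U) ⧸ I.1))
    (fun I => CommRingCat.ofHom (Ideal.Quotient.factor (sInf_le I.2))) ?_ ?_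
  · intro r hr
    obtain ⟨a, rfl⟩ := Ideal.Quotient.mk_surjective r
    rw [Ideal.Quotient.eq_zero_iff_mem, Submodule.mem_sInf]
    intro I hI
    have := hr ⟨I, hI⟩
    change Ideal.Quotient.factor (sInf_le hI) (Ideal.Quotient.mk (sInf S) a) = 0 at this
    rw [Ideal.Quotient.factor_mk, Ideal.Quotient.eq_zero_iff_mem] at this
    exact this
  · intro I
    exact FixE.of_eq (hS I.1 I.2) (by rw [ξI_factor]) (ξI_factor U _).symm

theorem fixEI_JE (U : X.affineOpens) : FixEI y x₀ ε U (JE y x₀ ε U) :=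
  fixEI_sInf hD U _ (fun _ hI => hI)

theorem JE_le_ker_appLE {T : Scheme.{u}} (t : T ⟶ K) (ξ : T ⟶ X) (h : ξ ≫ x₀ = t)
    (hf : FixE y x₀ ε t ξ h) (U : X.affineOpens) (V : T.affineOpens) (hV : V.1 ≤ ξ ⁻¹ᵁ U.1) :
    JE y x₀ ε U ≤ RingHom.ker (ξ.appLE U.1 V.1 hV).hom := by
  apply sInf_le
  change FixEI y x₀ ε U _
  unfold FixEI
  obtain ⟨φ, hφ⟩ : ∃ φ, φ = (ξ.appLE U.1 V.1 hV).hom := ⟨_, rfl⟩
  rw [← hφ]
  refine hD (ξI U (RingHom.ker φ)) (fun _ : PUnit.{u + 1} => Γ(T, V.1))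
    (fun _ => CommRingCat.ofHom (RingHom.kerLift φ)) ?_ ?_
  · intro r hr
    exact RingHom.kerLift_injective φ (by rw [map_zero]; exact hr PUnit.unit)
  · intro _
    have e : Spec.map (CommRingCat.ofHom (RingHom.kerLift φ)) ≫ ξI U (RingHom.ker φ) =
        V.2.fromSpec ≫ ξ := by
      unfold ξI
      rw [← Category.assoc, ← Spec.map_comp, ← IsAffineOpen.SpecMap_appLE_fromSpec ξ U.2 V.2 hV]
      congr 2
      ext a
      rw [hφ]
      rfl
    exact FixE.of_eq (hf.precomp V.2.fromSpec (V.2.fromSpec ≫ t) rfl) (by rw [e, Category.assoc, h])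
      e.symm

theorem JE_le_ker_app {T : Scheme.{u}} (t : T ⟶ K) (ξ : T ⟶ X) (h : ξ ≫ x₀ = t)
    (hf : FixE y x₀ ε t ξ h) (U : X.affineOpens) :
    JE y x₀ ε U ≤ RingHom.ker (ξ.app U.1).hom := by
  intro a ha
  rw [RingHom.mem_ker]
  refine T.IsSheaf.section_ext fun x hx => ?_
  obtain ⟨_, ⟨V, hV, rfl⟩, hxV, hVU⟩ := T.isBasis_affineOpens.exists_subset_of_mem_open
    (show x ∈ (ξ ⁻¹ᵁ U.1 : Set T) from hx) (ξ ⁻¹ᵁ U.1).2
  refine ⟨V, hVU, hxV, ?_⟩
  rw [map_zero]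
  exact JE_le_ker_appLE hD t ξ h hf U ⟨V, hV⟩ hVU ha

theorem map_JE_basicOpen (U : X.affineOpens) (f : Γ(X, U)) :
    (JE y x₀ ε U).map (X.presheaf.map (homOfLE <| X.basicOpen_le f).op).hom =
      JE y x₀ ε (X.affineBasicOpen f) := by
  apply le_antisymm
  · rw [Ideal.map_le_iff_le_comap]
    apply sInf_le
    change FixEI y x₀ ε U _
    unfold FixEI
    refine hD (ξI U _)
      (fun _ : PUnit.{u + 1} => CommRingCat.of (Γ(X, X.basicOpen f) ⧸ JE y x₀ ε (X.affineBasicOpen f)))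
      (fun _ => CommRingCat.ofHom (Ideal.quotientMap (JE y x₀ ε (X.affineBasicOpen f))
        (X.presheaf.map (homOfLE <| X.basicOpen_le f).op).hom le_rfl)) ?_ ?_
    · intro r hr
      exact Ideal.quotientMap_injective (by rw [map_zero]; exact hr PUnit.unit)
    · intro _
      have e := ξI_quotientMap U f (Ideal.comap (X.presheaf.map (homOfLE <| X.basicOpen_le f).op).hom
        (JE y x₀ ε (X.affineBasicOpen f))) (JE y x₀ ε (X.affineBasicOpen f)) le_rfl
      exact FixE.of_eq (fixEI_JE hD (X.affineBasicOpen f))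
        (congrArg (· ≫ x₀) e.symm) e.symm
  · apply sInf_le
    change FixEI y x₀ ε (X.affineBasicOpen f) _
    unfold FixEI
    have e := ξI_quotientMap U f (JE y x₀ ε U)
      (Ideal.map (X.presheaf.map (homOfLE <| X.basicOpen_le f).op).hom (JE y x₀ ε U))
      Ideal.le_comap_map
    have h1 := (fixEI_JE (ε := ε) hD U)
    unfold FixEI at h1
    exact FixE.of_eq (h1.precomp _ _ rfl)
      (by rw [← Category.assoc]; exact congrArg (· ≫ x₀) e) e

/-- the ideal sheaf of the coincidence locus -/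
noncomputable def fixEIdeal : X.IdealSheafData where
  ideal U := JE y x₀ ε U
  map_ideal_basicOpen U f := map_JE_basicOpen hD U f

/-- **Main theorem (scheme form).** The coincidence locus of `α`, `β` is represented by a closed
subscheme of `X`. -/
theorem exists_closedImmersion_fixE :
    ∃ (Z : Scheme.{u}) (j : Z ⟶ X), IsClosedImmersion j ∧ FixE y x₀ ε (j ≫ x₀) j rfl ∧
      ∀ {T : Scheme.{u}} (t : T ⟶ K) (ξ : T ⟶ X) (h : ξ ≫ x₀ = t), FixE y x₀ ε t ξ h →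
        ∃ z : T ⟶ Z, z ≫ j = ξ := by
  obtain ⟨𝓙, h𝓙⟩ : ∃ 𝓙 : X.IdealSheafData, 𝓙 = fixEIdeal (y := y) (x₀ := x₀) (ε := ε) hD := ⟨_, rfl⟩
  refine ⟨𝓙.subscheme, 𝓙.subschemeι, inferInstance, ?_, ?_⟩
  · refine FixE.of_openCover _ _ rfl 𝓙.subschemeCover.openCover fun U => ?_
    have e : 𝓙.subschemeCover.openCover.f U ≫ 𝓙.subschemeι = ξI U (𝓙.ideal U) := by
      change 𝓙.subschemeCover.f U ≫ 𝓙.subschemeι = _
      rw [Scheme.IdealSheafData.subschemeCover_map_subschemeι,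
        Scheme.IdealSheafData.glueDataObjι_ι]
      rfl
    have h1 : FixEI y x₀ ε U (𝓙.ideal U) := by
      rw [h𝓙]; exact fixEI_JE hD U
    exact FixE.of_eq h1 (by rw [← Category.assoc]; exact congrArg (· ≫ x₀) e.symm) e.symm
  · intro T t ξ h hf
    refine ⟨IsClosedImmersion.lift 𝓙.subschemeι ξ ?_, IsClosedImmersion.lift_fac _ _ _⟩
    rw [Scheme.IdealSheafData.ker_subschemeι]
    change 𝓙 ≤ Scheme.IdealSheafData.ofIdeals _
    rw [Scheme.IdealSheafData.le_ofIdeals_iff]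
    intro U
    rw [h𝓙]
    exact JE_le_ker_app hD t ξ h hf U

end main

/-- **Coincidence locus, free case.** If `x₀` lands in the affine open `U` of the base, `y ⁻¹ U` is
covered by affine opens with coordinate rings free over `Γ(K, U)`, and `α`, `β` are morphisms into
a separated scheme, then the coincidence locus of `α`, `β` is a closed subscheme of `X`. -/
theorem exists_closedImmersion_fix_of_free {K' W : Scheme.{u}} (w : W ⟶ K') [IsSeparated w]
    {α β : pullback y x₀ ⟶ W} (hαβ : α ≫ w = β ≫ w)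
    {U : K.Opens} (hU : IsAffineOpen U) (hx : ∀ p : X, x₀ p ∈ U)
    (𝒱 : Set Y.affineOpens) (hle : ∀ V ∈ 𝒱, V.1 ≤ y ⁻¹ᵁ U)
    (hcov : ∀ p : Y, y p ∈ U → ∃ V ∈ 𝒱, p ∈ V.1)
    (hfree : ∀ V (hV : V ∈ 𝒱),
      letI := (y.appLE U V.1 (hle V hV)).hom.toAlgebra; Module.Free Γ(K, U) Γ(Y, V.1)) :
    ∃ (Z : Scheme.{u}) (j : Z ⟶ X), IsClosedImmersion j ∧
      ∀ {T : Scheme.{u}} (t : T ⟶ K) (ξ : T ⟶ X) (h : ξ ≫ x₀ = t),
        Fix y x₀ α β t ξ h ↔ ∃ z : T ⟶ Z, z ≫ j = ξ := by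
  obtain ⟨E, ε, hε, hεc, hεu⟩ := exists_equalizer_closedImmersion w α β hαβ
  have hD : DescProp y x₀ ε := descProp_of_free hU hx 𝒱 hle hcov hfree
  have hiff : ∀ {T : Scheme.{u}} (t : T ⟶ K) (ξ : T ⟶ X) (h : ξ ≫ x₀ = t),
      FixE y x₀ ε t ξ h ↔ Fix y x₀ α β t ξ h := by
    intro T t ξ h
    constructor
    · rintro ⟨l, hl⟩
      unfold Helper11FixSch.Fix
      rw [← hl, Category.assoc, Category.assoc, hεc]
    · intro hf
      exact hεu _ hf
  obtain ⟨Z, j, hj, hfix, huniv⟩ := exists_closedImmersion_fixE (ε := ε) hD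
  refine ⟨Z, j, hj, fun t ξ h => ⟨fun hf => huniv t ξ h ((hiff t ξ h).2 hf), ?_⟩⟩
  rintro ⟨z, rfl⟩
  exact (hiff t _ h).1 (FixE.of_eq (hfix.precomp z t (by rw [← h, Category.assoc])) rfl rfl)

end Groth.Agent.Lib.Helper15WeilCl
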