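-- helper15: coincidence loci / fixed points over a general base with Zariski-locally free affine G are closed subschemes
import Mathlib
import Groth.Agent.Lib.Helper15WeilCl
import Groth.Agent.Lib.Helper15ClDescFam

set_option autoImplicit false
universe u
open CategoryTheory CategoryTheory.Limits AlgebraicGeometry MonoidalCategory CartesianMonoidalCategory

namespace Groth.Agent.Lib.Helper15FixLoc

open Groth.Agent.Lib.Helper11FixSch Groth.Agent.Lib.Helper15WeilCl Groth.Agent.Lib.Helper15ClDescFam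

variable {S : Scheme.{u}} (G Y W : Over S) (α β : G ⊗ Y ⟶ W)

theorem fix_iff {T : Over S} (y : T ⟶ Y) :
    (G ◁ y) ≫ α = (G ◁ y) ≫ β ↔
      Helper11FixSch.Fix G.hom Y.hom α.left β.left T.hom y.left (Over.w y) := by
  constructor
  · intro h
    exact congrArg (fun f => f.left) h
  · intro h
    ext1
    exact h

/-- the coincidence predicate on morphisms of schemes into `Y`. -/
def F ⦃T : Scheme.{u}⦄ (ξ : T ⟶ Y.left) : Prop :=
  Helper11FixSch.Fix G.hom Y.hom α.left β.left (ξ ≫ Y.hom) ξ rfl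

theorem exists_closed_coincidence [IsSeparated W.hom] [IsAffineHom G.hom]
    (hfree : ∀ s : S, ∃ U : S.affineOpens, s ∈ (U : S.Opens) ∧
      @Module.Free Γ(S, U) Γ(G.left, G.hom ⁻¹ᵁ U) _ _ (G.hom.app U).hom.toAlgebra.toModule) :
    ∃ (Z : Over S) (i : Z ⟶ Y), IsClosedImmersion i.left ∧
      ∀ (T : Over S) (y : T ⟶ Y), (G ◁ y) ≫ α = (G ◁ y) ≫ β ↔ ∃ z : T ⟶ Z, z ≫ i = y := by
  choose U hsU hfreeU using hfree
  let 𝒰 : Y.left.OpenCover :=
    { I₀ := S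
      X := fun s => (Y.hom ⁻¹ᵁ (U s).1).toScheme
      f := fun s => (Y.hom ⁻¹ᵁ (U s).1).ι
      mem₀ := by
        rw [Scheme.ofArrows_mem_precoverage_iff]
        exact ⟨fun p => ⟨Y.hom p, ⟨p, hsU _⟩, rfl⟩, fun s => inferInstance⟩ }
  have hf : Presieve.ofArrows 𝒰.X 𝒰.f ∈ Scheme.fpqcPrecoverage Y.left :=
    Scheme.zariskiPrecoverage_le_fpqcPrecoverage _ 𝒰.mem₀
  have F1 : ∀ ⦃T T' : Scheme.{u}⦄ (g : T' ⟶ T) (ξ : T ⟶ Y.left),
      F G Y W α β ξ → F G Y W α β (g ≫ ξ) := fun T T' g ξ hξ =>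
    Fix.of_eq (hξ.precomp g (g ≫ ξ ≫ Y.hom) rfl) (Category.assoc _ _ _).symm rfl
  have F2 : ∀ ⦃T : Scheme.{u}⦄ (ξ : T ⟶ Y.left),
      (∀ s, F G Y W α β (pullback.snd (𝒰.f s) ξ ≫ ξ)) → F G Y W α β ξ := fun T ξ H =>
    Fix.of_openCover (ξ ≫ Y.hom) ξ rfl (𝒰.pullback₂ ξ) (fun s =>
      Fix.of_eq (H s) (Category.assoc _ _ _) rfl)
  have F3 : ∀ s, ∃ (Z : Scheme.{u}) (j : Z ⟶ 𝒰.X s), IsClosedImmersion j ∧
      ∀ ⦃T : Scheme.{u}⦄ (ξ : T ⟶ 𝒰.X s), F G Y W α β (ξ ≫ 𝒰.f s) ↔ ∃ z : T ⟶ Z, z ≫ j = ξ := by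
    intro s
    have hUaff : IsAffineOpen (U s).1 := (U s).2
    have hGaff : IsAffineOpen (G.hom ⁻¹ᵁ (U s).1) := hUaff.preimage G.hom
    have hx : ∀ p : 𝒰.X s, (𝒰.f s ≫ Y.hom) p ∈ (U s).1 := by
      intro p
      rw [Scheme.Hom.comp_apply]
      exact p.2
    have hαβ : (pm G.hom Y.hom (𝒰.f s ≫ Y.hom) (𝒰.f s) rfl ≫ α.left) ≫ W.hom =
        (pm G.hom Y.hom (𝒰.f s ≫ Y.hom) (𝒰.f s) rfl ≫ β.left) ≫ W.hom := by
      rw [Category.assoc, Category.assoc, Over.w α, Over.w β]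
    have hle : ∀ V ∈ ({⟨G.hom ⁻¹ᵁ (U s).1, hGaff⟩} : Set G.left.affineOpens),
        V.1 ≤ G.hom ⁻¹ᵁ (U s).1 := by
      intro V hV
      rw [Set.mem_singleton_iff.mp hV]
    have hfree' : ∀ V (hV : V ∈ ({⟨G.hom ⁻¹ᵁ (U s).1, hGaff⟩} : Set G.left.affineOpens)),
        letI := (G.hom.appLE (U s).1 V.1 (hle V hV)).hom.toAlgebra
        Module.Free Γ(S, (U s).1) Γ(G.left, V.1) := by
      intro V hV
      obtain rfl := Set.mem_singleton_iff.mp hV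
      have e : G.hom.appLE (U s).1 (G.hom ⁻¹ᵁ (U s).1) le_rfl = G.hom.app (U s).1 :=
        (Scheme.Hom.app_eq_appLE _).symm
      have := hfreeU s
      convert this using 3
      exact congrArg CommRingCat.Hom.hom e
    obtain ⟨Z, j, hj, hZ⟩ := exists_closedImmersion_fix_of_free (y := G.hom)
      (x₀ := 𝒰.f s ≫ Y.hom) W.hom hαβ hUaff hx _ hle
      (fun p hp => ⟨_, rfl, hp⟩) hfree'
    refine ⟨Z, j, hj, fun T ξ => ?_⟩
    rw [← hZ (ξ ≫ 𝒰.f s ≫ Y.hom) ξ rfl]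
    constructor
    · intro hF
      have h2 : Helper11FixSch.Fix G.hom Y.hom α.left β.left (ξ ≫ 𝒰.f s ≫ Y.hom) (ξ ≫ 𝒰.f s)
          (Category.assoc _ _ _) := Fix.of_eq hF (Category.assoc _ _ _) rfl
      unfold Helper11FixSch.Fix at h2 ⊢
      rw [pm_comp (𝒰.f s ≫ Y.hom) (𝒰.f s) rfl ξ _ rfl] at h2
      simpa only [Category.assoc] using h2
    · intro h2
      have h3 : Helper11FixSch.Fix G.hom Y.hom α.left β.left (ξ ≫ 𝒰.f s ≫ Y.hom) (ξ ≫ 𝒰.f s)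
          (Category.assoc _ _ _) := by
        unfold Helper11FixSch.Fix at h2 ⊢
        rw [pm_comp (𝒰.f s ≫ Y.hom) (𝒰.f s) rfl ξ _ rfl]
        simpa only [Category.assoc] using h2
      exact Fix.of_eq h3 (Category.assoc _ _ _).symm rfl
  obtain ⟨Z, j, hj, hZ⟩ := exists_closed_of_local 𝒰.f hf (F G Y W α β) F1 F2 F3
  refine ⟨Over.mk (j ≫ Y.hom), Over.homMk j rfl, hj, fun T y => ?_⟩
  rw [fix_iff]
  have h1 : Helper11FixSch.Fix G.hom Y.hom α.left β.left T.hom y.left (Over.w y) ↔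
      F G Y W α β y.left :=
    ⟨fun h => Fix.of_eq h (Over.w y).symm rfl, fun h => Fix.of_eq h (Over.w y) rfl⟩
  rw [h1, hZ]
  constructor
  · rintro ⟨z, hz⟩
    refine ⟨Over.homMk z ?_, ?_⟩
    · change z ≫ j ≫ Y.hom = T.hom
      rw [← Category.assoc, hz, Over.w y]
    · ext1
      exact hz
  · rintro ⟨z, rfl⟩
    exact ⟨z.left, rfl⟩

/-- a point is fixed under all points of `G` iff the two maps `G ⊗ T ⟶ Y` agree. -/
theorem fixed_iff {G Y : Over S} (act : G ⊗ Y ⟶ Y) {T : Over S} (y : T ⟶ Y) :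
    (∀ (T' : Over S) (t : T' ⟶ T) (g : T' ⟶ G), lift g (t ≫ y) ≫ act = t ≫ y) ↔
      (G ◁ y) ≫ act = (G ◁ y) ≫ snd G Y := by
  constructor
  · intro h
    have h1 := h (G ⊗ T) (snd G T) (fst G T)
    have h2 : lift (fst G T) (snd G T ≫ y) = G ◁ y := by
      apply CartesianMonoidalCategory.hom_ext <;> simp
    rw [h2] at h1
    rw [h1, whiskerLeft_snd]
  · intro h T' t g
    have h1 : lift g (t ≫ y) = lift g t ≫ (G ◁ y) := by
      rw [lift_whiskerLeft]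
    rw [h1, Category.assoc, h, ← Category.assoc, ← h1, lift_snd]

end Groth.Agent.Lib.Helper15FixLoc
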