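-- helper15: jointly injective families stay jointly injective after base change to a projective module (projective version of helper11 FixAlg)
import Mathlib

set_option autoImplicit false
universe u
open CategoryTheory CategoryTheory.Limits

namespace Groth.Agent.Lib.Helper15ProjAlg

section sep

variable {k B A P : Type u} [CommRing k] [CommRing B] [CommRing A] [CommRing P]
    [Algebra k B] [Algebra k A] [Algebra B P] [Algebra A P] [Algebra k P]
    [IsScalarTower k B P] [IsScalarTower k A P]

/-- the base change of a functional. -/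
noncomputable def Φ (h : IsBaseChange A (IsScalarTower.toAlgHom k B P).toLinearMap)
    (φ : B →ₗ[k] k) : P →ₗ[A] A :=
  h.lift ((Algebra.linearMap k A).comp φ)

lemma Φ_apply (h : IsBaseChange A (IsScalarTower.toAlgHom k B P).toLinearMap)
    (φ : B →ₗ[k] k) (b : B) : Φ h φ (algebraMap B P b) = algebraMap k A (φ b) :=
  h.lift_eq _ b

/-- functionals separate the points of the base change of a projective module. -/
theorem eq_zero_of_forall_Φ [Module.Projective k B]
    (h : IsBaseChange A (IsScalarTower.toAlgHom k B P).toLinearMap) (z : P)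
    (hz : ∀ φ : B →ₗ[k] k, Φ h φ z = 0) : z = 0 := by
  classical
  obtain ⟨s, hs⟩ := (Module.projective_def' (R := k) (P := B)).1 inferInstance
  let Ψ : P →ₗ[A] (B →₀ A) :=
    h.lift ((Finsupp.mapRange.linearMap (Algebra.linearMap k A)).comp s)
  let Θ : (B →₀ A) →ₗ[A] P := Finsupp.linearCombination A (fun b => algebraMap B P b)
  have h1 : Θ.comp Ψ = LinearMap.id := by
    apply h.algHom_ext
    intro b
    change Θ (Ψ (algebraMap B P b)) = algebraMap B P b
    have e1 : Ψ (algebraMap B P b) = Finsupp.mapRange (Algebra.linearMap k A) (map_zero _) (s b) :=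
      h.lift_eq _ b
    rw [e1]
    have e2 : b = Finsupp.linearCombination k id (s b) := (LinearMap.congr_fun hs b).symm
    conv_rhs => rw [e2]
    rw [Finsupp.linearCombination_apply, Finsupp.linearCombination_apply,
      Finsupp.sum_mapRange_index (by simp), map_finsuppSum]
    refine Finsupp.sum_congr fun i _ => ?_
    simp only [id_eq, Algebra.linearMap_apply]
    rw [algebraMap_smul, Algebra.smul_def, Algebra.smul_def, map_mul,
      ← IsScalarTower.algebraMap_apply k B P, IsScalarTower.algebraMap_apply k A P]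
  have h2 : ∀ i, (Ψ z) i = Φ h ((Finsupp.lapply i).comp s) z := by
    intro i
    have : (Finsupp.lapply i).comp Ψ = Φ h ((Finsupp.lapply i).comp s) := by
      apply h.algHom_ext
      intro b
      change (Ψ (algebraMap B P b)) i = Φ h _ (algebraMap B P b)
      have e1 : Ψ (algebraMap B P b) =
          Finsupp.mapRange (Algebra.linearMap k A) (map_zero _) (s b) := h.lift_eq _ b
      rw [e1, Φ_apply]
      simp
    exact LinearMap.congr_fun this z
  have h3 : Ψ z = 0 := by
    ext i
    rw [h2, hz]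
    rfl
  have := LinearMap.congr_fun h1 z
  simp only [LinearMap.comp_apply, LinearMap.id_apply] at this
  rw [← this, h3, map_zero]

end sep

theorem eq_zero_of_forall_map_eq_zero
    {k B A P : Type u} [CommRing k] [CommRing B] [CommRing A] [CommRing P]
    [Algebra k B] [Algebra k A] [Algebra B P] [Algebra A P] [Algebra k P]
    [IsScalarTower k B P] [IsScalarTower k A P] [Module.Projective k B]
    [Algebra.IsPushout k A B P]
    {ι : Type*} {C P' : ι → Type u} [∀ c, CommRing (C c)] [∀ c, CommRing (P' c)]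
    [∀ c, Algebra k (C c)] [∀ c, Algebra B (P' c)] [∀ c, Algebra (C c) (P' c)]
    [∀ c, Algebra k (P' c)]
    [∀ c, IsScalarTower k B (P' c)] [∀ c, IsScalarTower k (C c) (P' c)]
    [∀ c, Algebra.IsPushout k (C c) B (P' c)]
    (g : ∀ c, A →+* C c) (G : ∀ c, P →+* P' c)
    (hg : ∀ c (r : k), g c (algebraMap k A r) = algebraMap k (C c) r)
    (hG₁ : ∀ c (b : B), G c (algebraMap B P b) = algebraMap B (P' c) b)
    (hG₂ : ∀ c (a : A), G c (algebraMap A P a) = algebraMap (C c) (P' c) (g c a))
    (hinj : ∀ a : A, (∀ c, g c a = 0) → a = 0) (z : P) (hz : ∀ c, G c z = 0) : z = 0 := by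
  have h : IsBaseChange A (IsScalarTower.toAlgHom k B P).toLinearMap :=
    Algebra.IsPushout.out (R := k) (S := A) (R' := B) (S' := P)
  have h' : ∀ c, IsBaseChange (C c) (IsScalarTower.toAlgHom k B (P' c)).toLinearMap := fun c =>
    Algebra.IsPushout.out (R := k) (S := C c) (R' := B) (S' := P' c)
  apply eq_zero_of_forall_Φ h z
  intro φ
  apply hinj
  intro c
  have key : ∀ w : P, g c (Φ h φ w) = Φ (h' c) φ (G c w) := by
    intro w
    refine h.inductionOn w _ ?_ ?_ ?_ ?_
    · simp
    · intro b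
      change g c (Φ h φ (algebraMap B P b)) = Φ (h' c) φ (G c (algebraMap B P b))
      rw [Φ_apply, hG₁, Φ_apply, hg]
    · intro a n hn
      rw [map_smul, smul_eq_mul, map_mul, hn, Algebra.smul_def, map_mul, hG₂,
        ← Algebra.smul_def, map_smul, smul_eq_mul]
    · intro n₁ n₂ e₁ e₂
      rw [map_add, map_add, map_add, map_add, e₁, e₂]
  rw [key, hz, map_zero]

/-- `CommRingCat` pushout-square version. -/
theorem eq_zero_of_isPushout
    {k B A P : CommRingCat.{u}} {i₁ : k ⟶ B} {i₂ : k ⟶ A} {j₁ : B ⟶ P} {j₂ : A ⟶ P}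
    (hP : IsPushout i₂ i₁ j₂ j₁)
    (hproj : letI := i₁.hom.toAlgebra; Module.Projective k B)
    {ι : Type*} {C P' : ι → CommRingCat.{u}} (i₂' : ∀ c, k ⟶ C c) (j₁' : ∀ c, B ⟶ P' c)
    (j₂' : ∀ c, C c ⟶ P' c) (hP' : ∀ c, IsPushout (i₂' c) i₁ (j₂' c) (j₁' c))
    (g : ∀ c, A ⟶ C c) (G : ∀ c, P ⟶ P' c) (hg : ∀ c, i₂ ≫ g c = i₂' c)
    (hG₁ : ∀ c, j₁ ≫ G c = j₁' c) (hG₂ : ∀ c, j₂ ≫ G c = g c ≫ j₂' c)
    (hinj : ∀ a : A, (∀ c, g c a = 0) → a = 0) (z : P) (hz : ∀ c, G c z = 0) : z = 0 := by
  let _ : Algebra k B := i₁.hom.toAlgebra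
  let _ : Algebra k A := i₂.hom.toAlgebra
  let _ : Algebra B P := j₁.hom.toAlgebra
  let _ : Algebra A P := j₂.hom.toAlgebra
  let _ : Algebra k P := (i₁ ≫ j₁).hom.toAlgebra
  have : IsScalarTower k B P := .of_algebraMap_eq' rfl
  have : IsScalarTower k A P := .of_algebraMap_eq' (congrArg CommRingCat.Hom.hom hP.w.symm)
  have : Module.Projective k B := hproj
  let _ : ∀ c, Algebra k (C c) := fun c => (i₂' c).hom.toAlgebra
  let _ : ∀ c, Algebra B (P' c) := fun c => (j₁' c).hom.toAlgebra
  let _ : ∀ c, Algebra (C c) (P' c) := fun c => (j₂' c).hom.toAlgebra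
  let _ : ∀ c, Algebra k (P' c) := fun c => (i₁ ≫ j₁' c).hom.toAlgebra
  have : ∀ c, IsScalarTower k B (P' c) := fun c => .of_algebraMap_eq' rfl
  have : ∀ c, IsScalarTower k (C c) (P' c) := fun c =>
    .of_algebraMap_eq' (congrArg CommRingCat.Hom.hom (hP' c).w.symm)
  have : Algebra.IsPushout k A B P := CommRingCat.isPushout_iff_isPushout.mp hP
  have : ∀ c, Algebra.IsPushout k (C c) B (P' c) := fun c =>
    CommRingCat.isPushout_iff_isPushout.mp (hP' c)
  exact eq_zero_of_forall_map_eq_zero (k := k) (B := B) (A := A) (P := P) (C := fun c => C c)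
    (P' := fun c => P' c) (fun c => (g c).hom) (fun c => (G c).hom)
    (fun c r => congr($(hg c) r))
    (fun c b => congr($(hG₁ c) b)) (fun c a => congr($(hG₂ c) a)) hinj z hz

end Groth.Agent.Lib.Helper15ProjAlg
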