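-- helper15: projective version of the Weil restriction core (Helper15WeilCl), with the equalizer closedness as a hypothesis
import Mathlib
import Groth.Agent.Lib.Helper15WeilCl
import Groth.Agent.Lib.Helper15ProjAlg

set_option autoImplicit false
universe u
open CategoryTheory CategoryTheory.Limits AlgebraicGeometry

namespace Groth.Agent.Lib.Helper15WeilClP

open Groth.Agent.Lib.Helper11FixSch Groth.Agent.Lib.Helper11FixRep Groth.Agent.Lib.Helper11FixGen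
  Groth.Agent.Lib.Helper15WeilCl

variable {K Y X E : Scheme.{u}} {y : Y ⟶ K} {x₀ : X ⟶ K} {ε : E ⟶ pullback y x₀}

/-- **Dominant descent** over an affine open `U` of the base: if `x₀` lands in `U` and `y ⁻¹ U` is
covered by affine opens whose coordinate rings are projective over `Γ(K, U)`, then `FixE` descends along
families of morphisms of affine schemes which are jointly injective on global sections. -/
theorem FixE.of_family_proj [IsClosedImmersion ε] {U : K.Opens} (hU : IsAffineOpen U)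
    (hx : ∀ p : X, x₀ p ∈ U)
    (𝒱 : Set Y.affineOpens) (hle : ∀ V ∈ 𝒱, V.1 ≤ y ⁻¹ᵁ U)
    (hcov : ∀ p : Y, y p ∈ U → ∃ V ∈ 𝒱, p ∈ V.1)
    (hproj : ∀ V (hV : V ∈ 𝒱),
      letI := (y.appLE U V.1 (hle V hV)).hom.toAlgebra; Module.Projective Γ(K, U) Γ(Y, V.1))
    {T : Scheme.{u}} [IsAffine T] (t : T ⟶ K) (ξ : T ⟶ X) (h : ξ ≫ x₀ = t)
    {ι : Type*} (T' : ι → Scheme.{u}) [∀ c, IsAffine (T' c)] (τ : ∀ c, T' c ⟶ T)
    (hinj : ∀ a : Γ(T, ⊤), (∀ c, (τ c).appLE ⊤ ⊤ le_top a = 0) → a = 0)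
    (H : ∀ c, FixE y x₀ ε (τ c ≫ t) (τ c ≫ ξ) (by rw [Category.assoc, h])) :
    FixE y x₀ ε t ξ h := by
  have ht : (⊤ : T.Opens) ≤ t ⁻¹ᵁ U := by
    intro p _
    show t p ∈ U
    rw [← h, Scheme.Hom.comp_apply]
    exact hx _
  have ht' : ∀ c, (⊤ : (T' c).Opens) ≤ (τ c ≫ t) ⁻¹ᵁ U := by
    intro c p _
    show (τ c ≫ t) p ∈ U
    rw [Scheme.Hom.comp_apply]
    exact ht (Set.mem_univ _)
  -- the pulled back closed subscheme
  obtain ⟨e, he0⟩ : ∃ e, e = pullback.fst (pm y x₀ t ξ h) ε := ⟨_, rfl⟩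
  have he : IsClosedImmersion e := by rw [he0]; infer_instance
  -- the base change maps
  let m : ∀ c, pullback y (τ c ≫ t) ⟶ pullback y t := fun c =>
    pullback.map y (τ c ≫ t) y t (𝟙 Y) (τ c) (𝟙 K) (by simp) (by simp)
  have hm : ∀ c, ∃ l, l ≫ e = m c := by
    intro c
    obtain ⟨l, hl⟩ := H c
    rw [pm_comp t ξ h (τ c) (τ c ≫ t) rfl] at hl
    refine ⟨pullback.lift (m c) l hl.symm, ?_⟩
    rw [he0, pullback.lift_fst]
  choose l hl using hm
  have hm1 : ∀ c, m c ≫ pullback.fst y t = pullback.fst y (τ c ≫ t) := fun c => by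
    simp [m, pullback.lift_fst]
  have hm2 : ∀ c, m c ≫ pullback.snd y t = pullback.snd y (τ c ≫ t) ≫ τ c := fun c => by
    simp [m, pullback.lift_snd]
  suffices hiso : IsIso e by
    subst he0
    refine ⟨inv (pullback.fst (pm y x₀ t ξ h) ε) ≫ pullback.snd (pm y x₀ t ξ h) ε, ?_⟩
    rw [Category.assoc, ← pullback.condition, IsIso.inv_hom_id_assoc]
  rw [IsClosedImmersion.isIso_iff_ker_eq_bot, ← le_bot_iff]
  refine Scheme.IdealSheafData.le_of_iSup_eq_top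
    (fun V : 𝒱 => (⟨boxOpen (y := y) t V.1.1,
      isAffineOpen_boxOpen' hU t ht V.1 (hle V.1 V.2)⟩ : (pullback y t).affineOpens)) ?_ ?_
  · rw [eq_top_iff]
    intro p _
    have hp : y ((pullback.fst y t) p) ∈ U := by
      rw [← Scheme.Hom.comp_apply, pullback.condition, Scheme.Hom.comp_apply]
      exact ht (Set.mem_univ _)
    obtain ⟨V, hV, hpV⟩ := hcov _ hp
    exact TopologicalSpace.Opens.mem_iSup.mpr ⟨⟨V, hV⟩, ⟨hpV, trivial⟩⟩
  · rintro ⟨V, hV⟩ s hs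
    rw [Scheme.Hom.ker_apply, RingHom.mem_ker] at hs
    change s = 0
    have hle' : ∀ c, boxOpen (y := y) (τ c ≫ t) V.1 ≤ m c ⁻¹ᵁ boxOpen (y := y) t V.1 := by
      intro c p hp
      refine ⟨?_, trivial⟩
      show (pullback.fst y t) ((m c) p) ∈ V.1
      rw [← Scheme.Hom.comp_apply, hm1 c]
      exact hp.1
    refine Groth.Agent.Lib.Helper15ProjAlg.eq_zero_of_isPushout
      (isPushout_boxOpen' hU t ht V (hle V hV)) (hproj V hV)
      (fun c => (τ c ≫ t).appLE U ⊤ (ht' c))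
      (fun c => (pullback.fst y (τ c ≫ t)).appLE V.1 (boxOpen (y := y) (τ c ≫ t) V.1) inf_le_left)
      (fun c => (pullback.snd y (τ c ≫ t)).appLE ⊤ (boxOpen (y := y) (τ c ≫ t) V.1) inf_le_right)
      (fun c => isPushout_boxOpen' hU (τ c ≫ t) (ht' c) V (hle V hV))
      (fun c => (τ c).appLE ⊤ ⊤ le_top)
      (fun c => (m c).appLE (boxOpen (y := y) t V.1) (boxOpen (y := y) (τ c ≫ t) V.1) (hle' c))
      (fun c => Scheme.Hom.appLE_comp_appLE _ _ _ _ _ _ _) ?_ ?_ hinj s ?_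
    · intro c
      rw [Scheme.Hom.appLE_comp_appLE]
      exact appLE_eq_of_eq (hm1 c) _ _ _
    · intro c
      rw [Scheme.Hom.appLE_comp_appLE, Scheme.Hom.appLE_comp_appLE]
      exact appLE_eq_of_eq (hm2 c) _ _ _
    · intro c
      have h1 : (m c).appLE (boxOpen (y := y) t V.1) (boxOpen (y := y) (τ c ≫ t) V.1) (hle' c) =
          (l c ≫ e).appLE (boxOpen (y := y) t V.1) (boxOpen (y := y) (τ c ≫ t) V.1)
            ((hl c).symm ▸ hle' c) := appLE_eq_of_eq (hl c).symm _ _ _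
      rw [h1, Scheme.Hom.comp_appLE, CommRingCat.comp_apply, hs, map_zero]

theorem descProp_of_projective [IsClosedImmersion ε] {U : K.Opens} (hU : IsAffineOpen U)
    (hx : ∀ p : X, x₀ p ∈ U)
    (𝒱 : Set Y.affineOpens) (hle : ∀ V ∈ 𝒱, V.1 ≤ y ⁻¹ᵁ U)
    (hcov : ∀ p : Y, y p ∈ U → ∃ V ∈ 𝒱, p ∈ V.1)
    (hproj : ∀ V (hV : V ∈ 𝒱),
      letI := (y.appLE U V.1 (hle V hV)).hom.toAlgebra; Module.Projective Γ(K, U) Γ(Y, V.1)) :
    DescProp y x₀ ε := by
  intro R ξ ι R' φ hinj H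
  refine FixE.of_family_proj hU hx 𝒱 hle hcov hproj (ξ ≫ x₀) ξ rfl (fun c => Spec (R' c))
    (fun c => Spec.map (φ c)) ?_ ?_
  · intro a ha
    obtain ⟨r, rfl⟩ : ∃ r, (Scheme.ΓSpecIso R).inv r = a :=
      ⟨(Scheme.ΓSpecIso R).hom a, by simp⟩
    have hr : r = 0 := by
      apply hinj
      intro c
      have h1 := congr($(Scheme.ΓSpecIso_inv_naturality (φ c)) r)
      rw [CommRingCat.comp_apply, CommRingCat.comp_apply] at h1
      have h2 : (Spec.map (φ c)).appTop ((Scheme.ΓSpecIso R).inv r) = 0 := ha c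
      rw [h2] at h1
      have := congrArg (Scheme.ΓSpecIso (R' c)).hom h1
      simpa using this
    rw [hr, map_zero]
  · intro c
    exact FixE.of_eq (H c) (Category.assoc _ _ _) rfl

/-- **Coincidence locus, projective case.** If `x₀` lands in the affine open `U` of the base,
`y ⁻¹ U` is covered by affine opens with coordinate rings projective over `Γ(K, U)`, and the
equalizer of `α`, `β` is a closed subscheme, then the coincidence locus of `α`, `β` is a closed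
subscheme of `X`. -/
theorem exists_closedImmersion_fix_of_projective {W : Scheme.{u}}
    {α β : pullback y x₀ ⟶ W}
    (hE : ∃ (E : Scheme.{u}) (ε : E ⟶ pullback y x₀), IsClosedImmersion ε ∧ ε ≫ α = ε ≫ β ∧
      ∀ {M : Scheme.{u}} (m : M ⟶ pullback y x₀), m ≫ α = m ≫ β → ∃ l : M ⟶ E, l ≫ ε = m)
    {U : K.Opens} (hU : IsAffineOpen U) (hx : ∀ p : X, x₀ p ∈ U)
    (𝒱 : Set Y.affineOpens) (hle : ∀ V ∈ 𝒱, V.1 ≤ y ⁻¹ᵁ U)
    (hcov : ∀ p : Y, y p ∈ U → ∃ V ∈ 𝒱, p ∈ V.1)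
    (hproj : ∀ V (hV : V ∈ 𝒱),
      letI := (y.appLE U V.1 (hle V hV)).hom.toAlgebra; Module.Projective Γ(K, U) Γ(Y, V.1)) :
    ∃ (Z : Scheme.{u}) (j : Z ⟶ X), IsClosedImmersion j ∧
      ∀ {T : Scheme.{u}} (t : T ⟶ K) (ξ : T ⟶ X) (h : ξ ≫ x₀ = t),
        Helper11FixSch.Fix y x₀ α β t ξ h ↔ ∃ z : T ⟶ Z, z ≫ j = ξ := by
  obtain ⟨E, ε, hε, hεc, hεu⟩ := hE
  have hD : DescProp y x₀ ε := descProp_of_projective hU hx 𝒱 hle hcov hproj
  have hiff : ∀ {T : Scheme.{u}} (t : T ⟶ K) (ξ : T ⟶ X) (h : ξ ≫ x₀ = t),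
      FixE y x₀ ε t ξ h ↔ Helper11FixSch.Fix y x₀ α β t ξ h := by
    intro T t ξ h
    constructor
    · rintro ⟨l, hl⟩
      unfold Helper11FixSch.Fix
      rw [← hl, Category.assoc, Category.assoc, hεc]
    · intro hf
      exact hεu _ hf
  obtain ⟨Z, j, hj, hfix, huniv⟩ := exists_closedImmersion_fixE (ε := ε) hD
  refine ⟨Z, j, hj, fun t ξ h => ⟨fun hf => huniv t ξ h ((hiff t ξ h).2 hf), ?_⟩⟩
  rintro ⟨z, rfl⟩
  exact (hiff t _ h).1 (FixE.of_eq (hfix.precomp z t (by rw [← h, Category.assoc])) rfl rfl)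

end Groth.Agent.Lib.Helper15WeilClP
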