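-- helper15: coincidence loci for Zariski-locally projective y (plain and Over S forms); finite flat fp => locally projective
import Mathlib
import Groth.Agent.Lib.Helper15WeilClP
import Groth.Agent.Lib.Helper15ClDescFam
import Groth.Agent.Lib.Helper15FixLoc

set_option autoImplicit false
universe u
open CategoryTheory CategoryTheory.Limits AlgebraicGeometry MonoidalCategory CartesianMonoidalCategory

namespace Groth.Agent.Lib.Helper15FixLocP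

open Groth.Agent.Lib.Helper11FixSch Groth.Agent.Lib.Helper15WeilClP Groth.Agent.Lib.Helper15ClDescFam

/-- `ε` is a closed immersion which is an equalizer of `α` and `β`. -/
def HasClosedEq {P W : Scheme.{u}} (α β : P ⟶ W) : Prop :=
  ∃ (E : Scheme.{u}) (ε : E ⟶ P), IsClosedImmersion ε ∧ ε ≫ α = ε ≫ β ∧
    ∀ {M : Scheme.{u}} (m : M ⟶ P), m ≫ α = m ≫ β → ∃ l : M ⟶ E, l ≫ ε = m

lemma HasClosedEq.precomp {P P' W : Scheme.{u}} {α β : P ⟶ W} (h : HasClosedEq α β)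
    (m₀ : P' ⟶ P) : HasClosedEq (m₀ ≫ α) (m₀ ≫ β) := by
  obtain ⟨E, ε, hε, hεc, hεu⟩ := h
  refine ⟨pullback m₀ ε, pullback.fst m₀ ε, inferInstance, ?_, ?_⟩
  · rw [← Category.assoc, ← Category.assoc, pullback.condition, Category.assoc, Category.assoc, hεc]
  · intro M m hm
    obtain ⟨l₀, hl₀⟩ := hεu (m ≫ m₀) (by simpa only [Category.assoc] using hm)
    exact ⟨pullback.lift m l₀ hl₀.symm, pullback.lift_fst _ _ _⟩

lemma HasClosedEq.of_isSeparated {P W K : Scheme.{u}} (w : W ⟶ K) [IsSeparated w] (α β : P ⟶ W)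
    (h : α ≫ w = β ≫ w) : HasClosedEq α β := by
  obtain ⟨E, ε, h1, h2, h3⟩ := exists_equalizer_closedImmersion w α β h
  exact ⟨E, ε, h1, h2, h3⟩

/-- the local projectivity condition on `y : Y ⟶ K`. -/
def LocProj {K Y : Scheme.{u}} (y : Y ⟶ K) : Prop :=
  ∀ s : K, ∃ U : K.Opens, s ∈ U ∧ IsAffineOpen U ∧ ∃ 𝒱 : Set Y.affineOpens,
    (∀ p : Y, y p ∈ U → ∃ V ∈ 𝒱, p ∈ V.1) ∧
    ∀ V ∈ 𝒱, ∃ hV : V.1 ≤ y ⁻¹ᵁ U,
      letI := (y.appLE U V.1 hV).hom.toAlgebra; Module.Projective Γ(K, U) Γ(Y, V.1)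

/-- **Coincidence loci, Zariski-locally projective case** (plain scheme form). -/
theorem exists_closed_fix {K Y X W : Scheme.{u}} (y : Y ⟶ K) (x₀ : X ⟶ K)
    (α β : pullback y x₀ ⟶ W) (hE : HasClosedEq α β) (hloc : LocProj y) :
    ∃ (Z : Scheme.{u}) (j : Z ⟶ X), IsClosedImmersion j ∧
      ∀ {T : Scheme.{u}} (t : T ⟶ K) (ξ : T ⟶ X) (h : ξ ≫ x₀ = t),
        Helper11FixSch.Fix y x₀ α β t ξ h ↔ ∃ z : T ⟶ Z, z ≫ j = ξ := by
  choose U hsU hUaff 𝒱 hcov hproj using hloc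
  let 𝒰 : X.OpenCover :=
    { I₀ := K
      X := fun s => (x₀ ⁻¹ᵁ (U s)).toScheme
      f := fun s => (x₀ ⁻¹ᵁ (U s)).ι
      mem₀ := by
        rw [Scheme.ofArrows_mem_precoverage_iff]
        exact ⟨fun p => ⟨x₀ p, ⟨p, hsU _⟩, rfl⟩, fun s => inferInstance⟩ }
  have hf : Presieve.ofArrows 𝒰.X 𝒰.f ∈ Scheme.fpqcPrecoverage X :=
    Scheme.zariskiPrecoverage_le_fpqcPrecoverage _ 𝒰.mem₀
  let F : ∀ ⦃T : Scheme.{u}⦄, (T ⟶ X) → Prop := fun T ξ =>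
    Helper11FixSch.Fix y x₀ α β (ξ ≫ x₀) ξ rfl
  have F1 : ∀ ⦃T T' : Scheme.{u}⦄ (g : T' ⟶ T) (ξ : T ⟶ X), F ξ → F (g ≫ ξ) := fun T T' g ξ hξ =>
    Fix.of_eq (hξ.precomp g (g ≫ ξ ≫ x₀) rfl) (Category.assoc _ _ _).symm rfl
  have F2 : ∀ ⦃T : Scheme.{u}⦄ (ξ : T ⟶ X),
      (∀ s, F (pullback.snd (𝒰.f s) ξ ≫ ξ)) → F ξ := fun T ξ H =>
    Fix.of_openCover (ξ ≫ x₀) ξ rfl (𝒰.pullback₂ ξ) (fun s =>
      Fix.of_eq (H s) (Category.assoc _ _ _) rfl)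
  have F3 : ∀ s, ∃ (Z : Scheme.{u}) (j : Z ⟶ 𝒰.X s), IsClosedImmersion j ∧
      ∀ ⦃T : Scheme.{u}⦄ (ξ : T ⟶ 𝒰.X s), F (ξ ≫ 𝒰.f s) ↔ ∃ z : T ⟶ Z, z ≫ j = ξ := by
    intro s
    have hx : ∀ p : 𝒰.X s, (𝒰.f s ≫ x₀) p ∈ U s := by
      intro p
      rw [Scheme.Hom.comp_apply]
      exact p.2
    obtain ⟨Z, j, hj, hZ⟩ := exists_closedImmersion_fix_of_projective (y := y)
      (x₀ := 𝒰.f s ≫ x₀) (hE.precomp (pm y x₀ (𝒰.f s ≫ x₀) (𝒰.f s) rfl)) (hUaff s) hx (𝒱 s)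
      (fun V hV => (hproj s V hV).1) (hcov s) (fun V hV => (hproj s V hV).2)
    refine ⟨Z, j, hj, fun T ξ => ?_⟩
    rw [← hZ (ξ ≫ 𝒰.f s ≫ x₀) ξ rfl]
    constructor
    · intro hF
      have h2 : Helper11FixSch.Fix y x₀ α β (ξ ≫ 𝒰.f s ≫ x₀) (ξ ≫ 𝒰.f s)
          (Category.assoc _ _ _) := Fix.of_eq hF (Category.assoc _ _ _) rfl
      unfold Helper11FixSch.Fix at h2 ⊢
      rw [pm_comp (𝒰.f s ≫ x₀) (𝒰.f s) rfl ξ _ rfl] at h2
      simpa only [Category.assoc] using h2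
    · intro h2
      have h3 : Helper11FixSch.Fix y x₀ α β (ξ ≫ 𝒰.f s ≫ x₀) (ξ ≫ 𝒰.f s)
          (Category.assoc _ _ _) := by
        unfold Helper11FixSch.Fix at h2 ⊢
        rw [pm_comp (𝒰.f s ≫ x₀) (𝒰.f s) rfl ξ _ rfl]
        simpa only [Category.assoc] using h2
      exact Fix.of_eq h3 (Category.assoc _ _ _).symm rfl
  obtain ⟨Z, j, hj, hZ⟩ := exists_closed_of_local 𝒰.f hf F F1 F2 F3
  refine ⟨Z, j, hj, fun t ξ h => ?_⟩
  rw [← hZ]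
  exact ⟨fun hh => Fix.of_eq hh h.symm rfl, fun hh => Fix.of_eq hh h rfl⟩

variable {S : Scheme.{u}}

/-- **Coincidence loci, `Over S` form.** -/
theorem exists_closed_coincidence_over (G Y W : Over S) (α β : G ⊗ Y ⟶ W)
    (hE : HasClosedEq α.left β.left) (hloc : LocProj G.hom) :
    ∃ (Z : Over S) (i : Z ⟶ Y), IsClosedImmersion i.left ∧
      ∀ (T : Over S) (y : T ⟶ Y), (G ◁ y) ≫ α = (G ◁ y) ≫ β ↔ ∃ z : T ⟶ Z, z ≫ i = y := by
  obtain ⟨Z, j, hj, hZ⟩ := exists_closed_fix G.hom Y.hom α.left β.left hE hloc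
  refine ⟨Over.mk (j ≫ Y.hom), Over.homMk j rfl, hj, fun T y => ?_⟩
  rw [Groth.Agent.Lib.Helper15FixLoc.fix_iff, hZ]
  constructor
  · rintro ⟨z, hz⟩
    refine ⟨Over.homMk z ?_, ?_⟩
    · change z ≫ j ≫ Y.hom = T.hom
      rw [← Category.assoc, hz, Over.w y]
    · ext1
      exact hz
  · rintro ⟨z, rfl⟩
    exact ⟨z.left, rfl⟩

/-- two maps out of `G ⊗ Y` agree along `y` iff they agree on all points `(g, y)`. -/
theorem coinc_iff {G Y W : Over S} (α β : G ⊗ Y ⟶ W) {T : Over S} (y : T ⟶ Y) :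
    (∀ (T' : Over S) (t : T' ⟶ T) (g : T' ⟶ G),
      lift g (t ≫ y) ≫ α = lift g (t ≫ y) ≫ β) ↔ (G ◁ y) ≫ α = (G ◁ y) ≫ β := by
  constructor
  · intro h
    have h1 := h (G ⊗ T) (snd G T) (fst G T)
    have h2 : lift (fst G T) (snd G T ≫ y) = G ◁ y := by
      apply CartesianMonoidalCategory.hom_ext <;> simp
    rwa [h2] at h1
  · intro h T' t g
    have h1 : lift g (t ≫ y) = lift g t ≫ (G ◁ y) := by
      rw [lift_whiskerLeft]
    rw [h1, Category.assoc, Category.assoc, h]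

/-- a finite flat finitely presented morphism is locally projective. -/
theorem locProj_of_finite_flat {K Y : Scheme.{u}} (y : Y ⟶ K) [IsFinite y] [Flat y]
    [LocallyOfFinitePresentation y] : LocProj y := by
  intro s
  obtain ⟨_, ⟨U, hU, rfl⟩, hsU, -⟩ := K.isBasis_affineOpens.exists_subset_of_mem_open
    (Set.mem_univ s) isOpen_univ
  have hV : IsAffineOpen (y ⁻¹ᵁ U) := hU.preimage y
  refine ⟨U, hsU, hU, {⟨y ⁻¹ᵁ U, hV⟩}, fun p hp => ⟨_, rfl, hp⟩, ?_⟩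
  intro V hVm
  obtain rfl := Set.mem_singleton_iff.mp hVm
  refine ⟨le_rfl, ?_⟩
  have h1 : (y.appLE U (y ⁻¹ᵁ U) le_rfl).hom.Finite := by
    rw [← Scheme.Hom.app_eq_appLE]
    exact IsFinite.finite_app y U hU
  have h2 : (y.appLE U (y ⁻¹ᵁ U) le_rfl).hom.Flat :=
    HasRingHomProperty.appLE (P := @Flat) y inferInstance ⟨U, hU⟩ ⟨_, hV⟩ le_rfl
  have h3 : (y.appLE U (y ⁻¹ᵁ U) le_rfl).hom.FinitePresentation :=
    HasRingHomProperty.appLE (P := @LocallyOfFinitePresentation) y inferInstance ⟨U, hU⟩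
      ⟨_, hV⟩ le_rfl
  algebraize [(y.appLE U (y ⁻¹ᵁ U) le_rfl).hom]
  have : Module.FinitePresentation Γ(K, U) Γ(Y, y ⁻¹ᵁ U) :=
    Module.FinitePresentation.of_finite_of_finitePresentation _ _
  exact Module.Flat.projective_of_finitePresentation

end Groth.Agent.Lib.Helper15FixLocP
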