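-- helper15: coincidence/fixed loci are closed when the acting scheme is fpqc-locally (on the base) Zariski-locally projective
import Mathlib
import Groth.Agent.Lib.Helper15FixLocP

set_option autoImplicit false
universe u
open CategoryTheory CategoryTheory.Limits AlgebraicGeometry

namespace Groth.Agent.Lib.Helper15FixFpqc

open Groth.Agent.Lib.Helper11FixSch Groth.Agent.Lib.Helper15ClDescFam Groth.Agent.Lib.Helper15FixLocP

/-- equality of morphisms of schemes can be checked on an fpqc covering of the source. -/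
theorem hom_ext_of_fpqc {P W : Scheme.{u}} (a b : P ⟶ W) (R : Presieve P)
    (hR : R ∈ Scheme.fpqcPrecoverage P) (h : ∀ ⦃Q : Scheme.{u}⦄ (g : Q ⟶ P), R g → g ≫ a = g ≫ b) :
    a = b := by
  obtain ⟨w, hw⟩ := factors_of_fpqc (equalizer.ι a b) (𝟙 P) R hR (fun Q g hg =>
    ⟨equalizer.lift g (h g hg), by rw [equalizer.lift_ι, Category.comp_id]⟩)
  calc a = (w ≫ equalizer.ι a b) ≫ a := by rw [hw, Category.id_comp]
    _ = (w ≫ equalizer.ι a b) ≫ b := by rw [Category.assoc, equalizer.condition, Category.assoc]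
    _ = b := by rw [hw, Category.id_comp]

variable {K Y X W : Scheme.{u}} {y : Y ⟶ K} {x₀ : X ⟶ K} {α β : pullback y x₀ ⟶ W}

/-- `Fix` is local on `T` for the fpqc topology. -/
theorem fix_of_fpqc {T : Scheme.{u}} (t : T ⟶ K) (ξ : T ⟶ X) (h : ξ ≫ x₀ = t)
    (R : Presieve T) (hR : R ∈ Scheme.fpqcPrecoverage T)
    (H : ∀ ⦃T' : Scheme.{u}⦄ (τ : T' ⟶ T), R τ →
      Helper11FixSch.Fix y x₀ α β (τ ≫ t) (τ ≫ ξ) (by rw [Category.assoc, h])) :
    Helper11FixSch.Fix y x₀ α β t ξ h := by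
  unfold Helper11FixSch.Fix
  refine hom_ext_of_fpqc _ _ _ (Precoverage.pullbackArrows_mem (pullback.snd y t) hR) ?_
  rintro Q _ ⟨T', τ, hτ⟩
  have h1 := H τ hτ
  unfold Helper11FixSch.Fix at h1
  rw [pm_comp t ξ h τ (τ ≫ t) rfl] at h1
  have hc : pullback.snd τ (pullback.snd y t) =
      pullback.lift (pullback.snd τ (pullback.snd y t) ≫ pullback.fst y t)
        (pullback.fst τ (pullback.snd y t)) (by
          rw [Category.assoc, pullback.condition, ← Category.assoc, ← pullback.condition,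
            Category.assoc]) ≫
      pullback.map y (τ ≫ t) y t (𝟙 _) τ (𝟙 K) (by simp) (by simp) := by
    apply pullback.hom_ext
    · rw [Category.assoc, pullback.lift_fst, Category.comp_id, pullback.lift_fst]
    · rw [Category.assoc, pullback.lift_snd, ← Category.assoc, pullback.lift_snd, pullback.condition]
  rw [hc]
  simp only [Category.assoc] at h1 ⊢
  rw [h1]

section BC

variable {Kk : Scheme.{u}} (g : Kk ⟶ K) (y x₀)

/-- the comparison morphism `(Y ×[K] Kk) ×[Kk] (Kk ×[K] X) ⟶ Y ×[K] X`. -/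
noncomputable def θ : pullback (pullback.snd y g) (pullback.fst g x₀) ⟶ pullback y x₀ :=
  pullback.lift (pullback.fst _ _ ≫ pullback.fst y g) (pullback.snd _ _ ≫ pullback.snd g x₀) (by
    rw [Category.assoc, pullback.condition, ← Category.assoc, pullback.condition, Category.assoc,
      pullback.condition, Category.assoc])

variable {y x₀ g}

theorem fix_bc_iff {T : Scheme.{u}} (ξ : T ⟶ pullback g x₀) (t' : T ⟶ Kk)
    (ht' : ξ ≫ pullback.fst g x₀ = t') (ξ' : T ⟶ X) (hξ' : ξ ≫ pullback.snd g x₀ = ξ')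
    (t : T ⟶ K) (ht : ξ' ≫ x₀ = t) :
    Helper11FixSch.Fix (pullback.snd y g) (pullback.fst g x₀) (θ y x₀ g ≫ α) (θ y x₀ g ≫ β)
        t' ξ ht' ↔ Helper11FixSch.Fix y x₀ α β t ξ' ht := by
  have hcond : pullback.fst g x₀ ≫ g = pullback.snd g x₀ ≫ x₀ := pullback.condition
  have htg : t' ≫ g = t := by
    rw [← ht', ← ht, ← hξ', Category.assoc, Category.assoc, hcond]
  let c : pullback (pullback.snd y g) t' ⟶ pullback y t :=
    pullback.lift (pullback.fst _ _ ≫ pullback.fst y g) (pullback.snd _ _) (by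
      rw [Category.assoc, pullback.condition, ← Category.assoc, pullback.condition, Category.assoc,
        htg])
  let d : pullback y t ⟶ pullback (pullback.snd y g) t' :=
    pullback.lift (pullback.lift (pullback.fst _ _) (pullback.snd _ _ ≫ t') (by
      rw [pullback.condition, Category.assoc, htg])) (pullback.snd _ _) (by
      rw [pullback.lift_snd])
  have hdc : d ≫ c = 𝟙 _ := by
    apply pullback.hom_ext
    · rw [Category.assoc, pullback.lift_fst, ← Category.assoc, pullback.lift_fst,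
        pullback.lift_fst, Category.id_comp]
    · rw [Category.assoc, pullback.lift_snd, pullback.lift_snd, Category.id_comp]
  have hc : c ≫ pm y x₀ t ξ' ht =
      pm (pullback.snd y g) (pullback.fst g x₀) t' ξ ht' ≫ θ y x₀ g := by
    apply pullback.hom_ext
    · simp only [pm, θ, pullback.map, Category.assoc, pullback.lift_fst, Category.comp_id]
      rw [pullback.lift_fst_assoc]
      exact pullback.lift_fst _ _ _
    · simp only [pm, θ, pullback.map, Category.assoc, pullback.lift_snd]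
      rw [pullback.lift_snd_assoc, pullback.lift_snd_assoc, Category.assoc, hξ']
  unfold Helper11FixSch.Fix
  constructor
  · intro h1
    calc _ = d ≫ (c ≫ pm y x₀ t ξ' ht) ≫ α := by
          rw [← Category.assoc, ← Category.assoc, hdc, Category.id_comp]
      _ = d ≫ (c ≫ pm y x₀ t ξ' ht) ≫ β := by
          rw [hc, Category.assoc, h1, Category.assoc]
      _ = _ := by rw [← Category.assoc, ← Category.assoc, hdc, Category.id_comp]
  · intro h1
    rw [← Category.assoc, ← hc, Category.assoc, h1, ← Category.assoc, hc, Category.assoc]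

end BC

/-- **Coincidence loci, fpqc-locally (Zariski-locally projective) case** (plain scheme form). -/
theorem exists_closed_fix_fpqc {ι : Type u} (y : Y ⟶ K) (x₀ : X ⟶ K)
    (α β : pullback y x₀ ⟶ W) (hE : HasClosedEq α β) {Kk : ι → Scheme.{u}} (g : ∀ k, Kk k ⟶ K)
    (hg : Presieve.ofArrows Kk g ∈ Scheme.fpqcPrecoverage K)
    (hloc : ∀ k, LocProj (pullback.snd y (g k))) :
    ∃ (Z : Scheme.{u}) (j : Z ⟶ X), IsClosedImmersion j ∧
      ∀ {T : Scheme.{u}} (t : T ⟶ K) (ξ : T ⟶ X) (h : ξ ≫ x₀ = t),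
        Helper11FixSch.Fix y x₀ α β t ξ h ↔ ∃ z : T ⟶ Z, z ≫ j = ξ := by
  have hf : Presieve.ofArrows (fun k => pullback (g k) x₀) (fun k => pullback.snd (g k) x₀) ∈
      Scheme.fpqcPrecoverage X := by
    rw [Presieve.ofArrows_pullback]
    exact Precoverage.pullbackArrows_mem x₀ hg
  let F : ∀ ⦃T : Scheme.{u}⦄, (T ⟶ X) → Prop := fun T ξ =>
    Helper11FixSch.Fix y x₀ α β (ξ ≫ x₀) ξ rfl
  have F1 : ∀ ⦃T T' : Scheme.{u}⦄ (g : T' ⟶ T) (ξ : T ⟶ X), F ξ → F (g ≫ ξ) := fun T T' g ξ hξ =>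
    Fix.of_eq (hξ.precomp g (g ≫ ξ ≫ x₀) rfl) (Category.assoc _ _ _).symm rfl
  have F2 : ∀ ⦃T : Scheme.{u}⦄ (ξ : T ⟶ X),
      (∀ k, F (pullback.snd (pullback.snd (g k) x₀) ξ ≫ ξ)) → F ξ := fun T ξ H => by
    refine fix_of_fpqc (ξ ≫ x₀) ξ rfl _ (Precoverage.pullbackArrows_mem ξ hf) ?_
    rintro T' _ ⟨_, _, ⟨k⟩⟩
    exact Fix.of_eq (H k) (Category.assoc _ _ _) rfl
  have F3 : ∀ k, ∃ (Z : Scheme.{u}) (j : Z ⟶ pullback (g k) x₀), IsClosedImmersion j ∧
      ∀ ⦃T : Scheme.{u}⦄ (ξ : T ⟶ pullback (g k) x₀),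
        F (ξ ≫ pullback.snd (g k) x₀) ↔ ∃ z : T ⟶ Z, z ≫ j = ξ := by
    intro k
    obtain ⟨Z, j, hj, hZ⟩ := exists_closed_fix (pullback.snd y (g k)) (pullback.fst (g k) x₀)
      (θ y x₀ (g k) ≫ α) (θ y x₀ (g k) ≫ β) (hE.precomp _) (hloc k)
    refine ⟨Z, j, hj, fun T ξ => ?_⟩
    rw [← hZ (ξ ≫ pullback.fst (g k) x₀) ξ rfl]
    exact (fix_bc_iff ξ _ rfl _ rfl _ rfl).symm
  obtain ⟨Z, j, hj, hZ⟩ := exists_closed_of_local _ hf F F1 F2 F3
  refine ⟨Z, j, hj, fun t ξ h => ?_⟩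
  rw [← hZ]
  exact ⟨fun hh => Fix.of_eq hh h.symm rfl, fun hh => Fix.of_eq hh h rfl⟩

variable {S : Scheme.{u}}

open MonoidalCategory CartesianMonoidalCategory in
/-- **Coincidence loci, `Over S` form, fpqc-locally on the base.** -/
theorem exists_closed_coincidence_over_fpqc (G Y W : Over S) (α β : G ⊗ Y ⟶ W)
    (hE : HasClosedEq α.left β.left) {ι : Type u} {Sk : ι → Scheme.{u}} (g : ∀ k, Sk k ⟶ S)
    (hg : Presieve.ofArrows Sk g ∈ Scheme.fpqcPrecoverage S)
    (hloc : ∀ k, LocProj (pullback.snd G.hom (g k))) :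
    ∃ (Z : Over S) (i : Z ⟶ Y), IsClosedImmersion i.left ∧
      ∀ (T : Over S) (y : T ⟶ Y), (G ◁ y) ≫ α = (G ◁ y) ≫ β ↔ ∃ z : T ⟶ Z, z ≫ i = y := by
  obtain ⟨Z, j, hj, hZ⟩ := exists_closed_fix_fpqc G.hom Y.hom α.left β.left hE g hg hloc
  refine ⟨Over.mk (j ≫ Y.hom), Over.homMk j rfl, hj, fun T y => ?_⟩
  rw [Groth.Agent.Lib.Helper15FixLoc.fix_iff, hZ]
  constructor
  · rintro ⟨z, hz⟩
    refine ⟨Over.homMk z ?_, ?_⟩
    · change z ≫ j ≫ Y.hom = T.hom
      rw [← Category.assoc, hz, Over.w y]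
    · ext1
      exact hz
  · rintro ⟨z, rfl⟩
    exact ⟨z.left, rfl⟩

/-- a morphism to `Spec R` whose source is `Spec B` (up to iso) with `B` projective over `R` is
locally projective. -/
theorem locProj_of_spec {R B : Type u} [CommRing R] [CommRing B] [Algebra R B]
    [Module.Projective R B] {Y : Scheme.{u}} (y : Y ⟶ Spec (CommRingCat.of R))
    (e : Spec (CommRingCat.of B) ≅ Y)
    (he : e.hom ≫ y = Spec.map (CommRingCat.ofHom (algebraMap R B))) : LocProj y := by
  intro s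
  have hY : IsAffine Y := IsAffine.of_isIso e.inv
  refine ⟨⊤, trivial, isAffineOpen_top _, {⟨⊤, isAffineOpen_top Y⟩},
    fun p _ => ⟨⟨⊤, isAffineOpen_top Y⟩, rfl, trivial⟩, ?_⟩
  intro V hV
  obtain rfl := Set.mem_singleton_iff.mp hV
  refine ⟨le_top, ?_⟩
  have hy : y = e.inv ≫ Spec.map (CommRingCat.ofHom (algebraMap R B)) := by
    rw [← he, Iso.inv_hom_id_assoc]
  have happ : y.appLE ⊤ ⊤ le_top = y.appTop := (y.app_eq_appLE (U := ⊤)).symm
  have hcompat : CommRingCat.ofHom (algebraMap R B) ≫ (Scheme.ΓSpecIso (CommRingCat.of B)).inv ≫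
      e.inv.appTop = (Scheme.ΓSpecIso (CommRingCat.of R)).inv ≫ y.appLE ⊤ ⊤ le_top := by
    rw [happ, hy, Scheme.Hom.comp_appTop, ← Category.assoc, Scheme.ΓSpecIso_inv_naturality,
      Category.assoc]
  let _ := (y.appLE ⊤ ⊤ le_top).hom.toAlgebra
  let e₁ : R ≃+* Γ(Spec (CommRingCat.of R), ⊤) :=
    (Scheme.ΓSpecIso (CommRingCat.of R)).symm.commRingCatIsoToRingEquiv
  let e₂ : B ≃+* Γ(Y, ⊤) :=
    ((Scheme.ΓSpecIso (CommRingCat.of B)).symm ≪≫
      (Scheme.Γ.mapIso e.symm.op)).commRingCatIsoToRingEquiv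
  have h12 : ∀ r : R, e₂ (algebraMap R B r) = algebraMap Γ(Spec (CommRingCat.of R), ⊤) Γ(Y, ⊤)
      (e₁ r) := by
    intro r
    exact congrArg (fun φ => φ.hom r) hcompat
  have i1 : RingHomInvPair e₁.toRingHom e₁.symm.toRingHom := RingHomInvPair.of_ringEquiv e₁
  have i2 : RingHomInvPair e₁.symm.toRingHom e₁.toRingHom := RingHomInvPair.symm _ _
  let E : B ≃ₛₗ[e₁.toRingHom] Γ(Y, ⊤) :=
    { e₂.toAddEquiv with
      map_smul' := fun r b => by
        change e₂ (r • b) = e₁ r • e₂ b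
        rw [Algebra.smul_def, Algebra.smul_def, map_mul, h12] }
  exact Module.Projective.of_equiv E

end Groth.Agent.Lib.Helper15FixFpqc
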