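-- helper15: local projectivity is stable under base change; multiplicative type groups are fpqc-locally projective
import Mathlib
import Groth.Agent.Lib.Helper15FixFpqc
import Groth.Prelude.Def_SGA3x

set_option autoImplicit false
universe u
open CategoryTheory CategoryTheory.Limits AlgebraicGeometry

namespace Groth.Agent.Lib.Helper15LocProjBC

open Groth.Agent.Lib.Helper15FixLocP Groth.Agent.Lib.Helper15FixFpqc

/-- projectivity is preserved by cobase change, `CommRingCat` pushout-square form. -/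
theorem projective_of_isPushout {k A B P : CommRingCat.{u}} {f : k ⟶ A} {g : k ⟶ B} {a : A ⟶ P}
    {b : B ⟶ P} (h : IsPushout g f b a)
    (hproj : letI := f.hom.toAlgebra; Module.Projective k A) :
    letI := b.hom.toAlgebra; Module.Projective B P := by
  let _ : Algebra k A := f.hom.toAlgebra
  let _ : Algebra k B := g.hom.toAlgebra
  let _ : Algebra B P := b.hom.toAlgebra
  let _ : Algebra A P := a.hom.toAlgebra
  let _ : Algebra k P := (g ≫ b).hom.toAlgebra
  have : IsScalarTower k B P := .of_algebraMap_eq' rfl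
  have : IsScalarTower k A P := .of_algebraMap_eq' (congrArg CommRingCat.Hom.hom h.w)
  have : Module.Projective k A := hproj
  have hp : Algebra.IsPushout k B A P := CommRingCat.isPushout_iff_isPushout.mp h
  exact Module.Projective.of_equiv' hp.equiv.toLinearEquiv

/-- local projectivity is stable under base change (pullback-square form). -/
theorem LocProj.of_isPullback {K Y T P : Scheme.{u}} {y : Y ⟶ K} {t : T ⟶ K} {p₁ : P ⟶ Y}
    {p₂ : P ⟶ T} (H : IsPullback p₁ p₂ y t) (h : LocProj y) : LocProj p₂ := by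
  intro s
  obtain ⟨U, hsU, hU, 𝒱, hcov, hproj⟩ := h (t s)
  obtain ⟨_, ⟨W, hW, rfl⟩, hsW, hWU⟩ := T.isBasis_affineOpens.exists_subset_of_mem_open
    (show s ∈ ((t ⁻¹ᵁ U : T.Opens) : Set T) from hsU) (t ⁻¹ᵁ U).isOpen
  have hWU' : W ≤ t ⁻¹ᵁ U := hWU
  have haff : ∀ V : Y.affineOpens, V.1 ≤ y ⁻¹ᵁ U → IsAffineOpen (p₁ ⁻¹ᵁ V.1 ⊓ p₂ ⁻¹ᵁ W) := by
    intro V hV
    have : IsAffine U := hU
    have : IsAffine W := hW
    have : IsAffine V.1 := V.2
    exact .of_isIso (Scheme.Hom.isPullback_resLE H hWU' hV rfl).isoPullback.hom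
  refine ⟨W, hsW, hW, {B | ∃ V ∈ 𝒱, B.1 = p₁ ⁻¹ᵁ V.1 ⊓ p₂ ⁻¹ᵁ W}, ?_, ?_⟩
  · intro p hp
    have hyp : y (p₁ p) ∈ U := by
      rw [← Scheme.Hom.comp_apply, H.w, Scheme.Hom.comp_apply]
      exact hWU' hp
    obtain ⟨V, hV, hpV⟩ := hcov (p₁ p) hyp
    obtain ⟨hVU, -⟩ := hproj V hV
    exact ⟨⟨_, haff V hVU⟩, ⟨V, hV, rfl⟩, ⟨hpV, hp⟩⟩
  · rintro B ⟨V, hV, hB⟩
    obtain ⟨hVU, hpr⟩ := hproj V hV
    have hle : B.1 ≤ p₂ ⁻¹ᵁ W := hB ▸ inf_le_right
    refine ⟨hle, ?_⟩
    have hpo := ((isIso_pushoutSection_iff H hWU' hVU hB).mp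
      (isIso_pushoutSection_of_isAffineOpen H hWU' hVU hB hU hW V.2)).flip
    exact projective_of_isPushout hpo hpr

/-- local projectivity only depends on the isomorphism class of the source over the base. -/
theorem LocProj.of_iso {K Y Y' : Scheme.{u}} (e : Y ≅ Y') {y : Y ⟶ K} {y' : Y' ⟶ K}
    (he : e.hom ≫ y' = y) (h : LocProj y') : LocProj y :=
  LocProj.of_isPullback (IsPullback.of_horiz_isIso ⟨by rw [he, Category.comp_id]⟩ :
    IsPullback e.hom y y' (𝟙 K)) h

/-- diagonalisable groups over an affine base are (locally) projective. -/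
theorem locProj_diag (R : Type u) [CommRing R] (M : Type) [AddCommGroup M] :
    LocProj (Red.diag R M).hom :=
  locProj_of_spec (R := R) (B := MonoidAlgebra R (Multiplicative M))
    (Y := Spec (CommRingCat.of (MonoidAlgebra R (Multiplicative M))))
    (Spec.map (CommRingCat.ofHom (algebraMap R (MonoidAlgebra R (Multiplicative M)))))
    (Iso.refl _) (Category.id_comp _)

/-- diagonalisable groups over any base are locally projective. -/
theorem locProj_DS (U : Scheme.{u}) (M : Type) [AddCommGroup M] : LocProj (Red.DS U M).hom :=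
  LocProj.of_isPullback (IsPullback.of_hasPullback (Red.diag (ULift.{u} ℤ) M).hom
    (Limits.IsTerminal.from specULiftZIsTerminal U)) (locProj_diag _ M)

/-- A flat surjective morphism with the fpqc quasi-compactness condition is an fpqc covering. -/
lemma singleton_mem_fpqcPrecoverage {Z Y : Scheme.{u}} (q : Z ⟶ Y) [Flat q] [Surjective q]
    (hqc : ∀ V : Y.Opens, IsAffineOpen V →
      ∃ W : Z.Opens, IsCompact (W : Set Z) ∧ q.base '' (W : Set Z) = (V : Set Y)) :
    Presieve.singleton q ∈ Scheme.fpqcPrecoverage Y := by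
  refine ⟨?_, ?_⟩
  · rw [Scheme.qcPrecoverage, PreZeroHypercoverFamily.mem_precoverage_iff]
    refine ⟨(q.cover (P := ⊤) trivial).toPreZeroHypercover, ?_, by simp⟩
    simp only [Scheme.qcCoverFamily_property, Scheme.quasiCompactCover_iff]
    refine ⟨fun {U} hU => ?_⟩
    obtain ⟨W, hW, hWU⟩ := hqc U hU
    rw [← hWU]
    exact IsCompactOpenCovered.image (f := fun i => ((q.cover (P := ⊤) trivial).f i).base)
      (i := ⟨⟩) W hW
  · exact (Scheme.singleton_mem_precoverage_iff (P := @Flat) q).mpr ⟨‹Surjective q›.surj, ‹Flat q›⟩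

/-- a group of multiplicative type is fpqc-locally on the base Zariski-locally projective. -/
theorem exists_fpqc_family_of_multType {S : Scheme.{u}} (H : Over S) [GrpObj H]
    (hH : SGA3x.IsMultTypeFT H) :
    ∃ (ι : Type u) (Sk : ι → Scheme.{u}) (g : ∀ k, Sk k ⟶ S),
      Presieve.ofArrows Sk g ∈ Scheme.fpqcPrecoverage S ∧
        ∀ k, LocProj (pullback.snd H.hom (g k)) := by
  obtain ⟨S', f, hfl, hsu, hqc, hloc⟩ := hH
  choose U hU M hM hFG hiso using hloc
  have h1 : Presieve.ofArrows (fun _ : PUnit.{u+1} => S') (fun _ => f) ∈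
      Scheme.fpqcPrecoverage S := by
    rw [Presieve.ofArrows_pUnit]
    exact singleton_mem_fpqcPrecoverage f hqc
  let 𝒰 : S'.OpenCover :=
    { I₀ := S'
      X := fun s => (U s).toScheme
      f := fun s => (U s).ι
      mem₀ := by
        rw [Scheme.ofArrows_mem_precoverage_iff]
        exact ⟨fun p => ⟨p, ⟨p, hU p⟩, rfl⟩, fun s => inferInstance⟩ }
  have h2 : Presieve.ofArrows 𝒰.X 𝒰.f ∈ Scheme.fpqcPrecoverage S' :=
    Scheme.zariskiPrecoverage_le_fpqcPrecoverage _ 𝒰.mem₀
  have h3 := Precoverage.comp_mem_coverings (J := Scheme.fpqcPrecoverage.{u})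
    (fun _ : PUnit.{u+1} => f) h1 (fun _ s' => 𝒰.f s') (fun _ => h2)
  refine ⟨Σ _ : PUnit.{u+1}, S', fun p => (U p.2).toScheme, fun p => (U p.2).ι ≫ f, h3,
    fun p => ?_⟩
  obtain ⟨e⟩ := hiso p.2
  let _ := hM p.2
  let e' : Red.bc ((U p.2).ι ≫ f) H ≅ Red.DS (U p.2 : Scheme.{u}) (M p.2) :=
    (Grp.forget _).mapIso e
  exact LocProj.of_iso ((Over.forget _).mapIso e') (Over.w e'.hom) (locProj_DS _ _)

end Groth.Agent.Lib.Helper15LocProjBC
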