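-- helper15: rigidity of actions of groups of multiplicative type modulo a nilpotent ideal (fpqc-local reduction)
import Mathlib
import Groth.Agent.Lib.Helper15DiagRigid
import Groth.Agent.Lib.Helper15FixFpqc
import Groth.Agent.Lib.Helper15LocProjBC
import Groth.Prelude.Def_TwC
set_option autoImplicit false
universe u
open CategoryTheory CategoryTheory.Limits AlgebraicGeometry MonoidalCategory CartesianMonoidalCategory
  MonObj GrpObj

namespace Groth.Agent.Lib.Helper15DiagRigidLoc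

open Groth.Agent.Lib.Helper15DiagRigid

variable {S S₀ : Scheme.{u}} (i₀ : S₀ ⟶ S) [IsClosedImmersion i₀]
  (hnil : ∀ x : S, ∃ U : S.affineOpens, x ∈ (U : S.Opens) ∧ IsNilpotent (i₀.ker.ideal U))
  (G X : Over S) [GrpObj G] (a : AlgGrp.Action G X)
  (h0 : ∀ (Y : Over S) (_ : Y ⟶ Over.mk i₀) (g : Y ⟶ G) (x : Y ⟶ X), lift g x ≫ a.act = x)

include hnil h0 in
/-- the action is trivial on points over a base on which the group becomes diagonalisable. -/
theorem act_eq_of_iso {U : Scheme.{u}} (f : U ⟶ S) (M : Type) [AddCommGroup M]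
    (e : Grp.mk (Red.bc f G) ≅ Grp.mk (Red.DS U M)) (Y' : Over U)
    (g : (Over.map f).obj Y' ⟶ G) (x : (Over.map f).obj Y' ⟶ X) :
    lift g x ≫ a.act = x := by
  obtain ⟨ψ, hψ⟩ : ∃ ψ : Red.DS U M ⟶ Red.bc f G, ψ = e.inv.hom.hom := ⟨_, rfl⟩
  have hψm : IsMonHom ψ := by rw [hψ]; infer_instance
  obtain ⟨ψ', hψ'⟩ : ∃ ψ' : Red.bc f G ⟶ Red.DS U M, ψ' = e.hom.hom.hom := ⟨_, rfl⟩
  have hψψ : ψ' ≫ ψ = 𝟙 _ := by
    rw [hψ, hψ']
    have := e.hom_inv_id
    exact congr($(this).hom.hom)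
  have htriv : TrivOn i₀ f M ((a.bc f).restrict ψ) := by
    rintro Y'' ⟨p, hp⟩ g' x'
    rw [AlgGrp.Action.lift_restrict_act]
    obtain ⟨g₀, hg₀⟩ : ∃ g₀, (Over.mapPullbackAdj f).homEquiv Y'' G g₀ = g' ≫ ψ :=
      ⟨_, Equiv.apply_symm_apply _ _⟩
    obtain ⟨x₀, hx₀⟩ : ∃ x₀, (Over.mapPullbackAdj f).homEquiv Y'' X x₀ = x' :=
      ⟨_, Equiv.apply_symm_apply _ _⟩
    rw [← hg₀, ← hx₀, AlgGrp.Action.lift_homEquiv_bc_act]
    congr 1
    exact h0 _ (Over.homMk p (by simpa using hp)) g₀ x₀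
  have key := act_eq_of_trivOn hnil htriv Y'
    ((Over.mapPullbackAdj f).homEquiv Y' G g ≫ ψ')
    ((Over.mapPullbackAdj f).homEquiv Y' X x)
  rw [AlgGrp.Action.lift_restrict_act, Category.assoc, hψψ, Category.comp_id,
    AlgGrp.Action.lift_homEquiv_bc_act] at key
  exact ((Over.mapPullbackAdj f).homEquiv Y' X).injective key


omit [IsClosedImmersion i₀] in
/-- the fpqc family attached to a property holding fpqc-locally. -/
theorem exists_fpqc_family (P : ∀ (S' : Scheme.{u}), (S' ⟶ S) → Prop)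
    (hP : TwC.Locally S TwC.Topology.fpqc P) :
    ∃ (K : Type u) (Sk : K → Scheme.{u}) (g : ∀ k, Sk k ⟶ S),
      Presieve.ofArrows Sk g ∈ Scheme.fpqcPrecoverage S ∧ ∀ k, P (Sk k) (g k) := by
  obtain ⟨S', f, hfl, hsu, hqc, hloc⟩ := hP
  choose Uo hU hiso using hloc
  have h1 : Presieve.ofArrows (fun _ : PUnit.{u+1} => S') (fun _ => f) ∈
      Scheme.fpqcPrecoverage S := by
    rw [Presieve.ofArrows_pUnit]
    exact Groth.Agent.Lib.Helper15LocProjBC.singleton_mem_fpqcPrecoverage f hqc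
  let 𝒰 : S'.OpenCover :=
    { I₀ := S'
      X := fun s => (Uo s).toScheme
      f := fun s => (Uo s).ι
      mem₀ := by
        rw [Scheme.ofArrows_mem_precoverage_iff]
        exact ⟨fun p => ⟨p, ⟨p, hU p⟩, rfl⟩, fun s => inferInstance⟩ }
  have h2 : Presieve.ofArrows 𝒰.X 𝒰.f ∈ Scheme.fpqcPrecoverage S' :=
    Scheme.zariskiPrecoverage_le_fpqcPrecoverage _ 𝒰.mem₀
  have h3 := Precoverage.comp_mem_coverings (J := Scheme.fpqcPrecoverage.{u})
    (fun _ : PUnit.{u+1} => f) h1 (fun _ s' => 𝒰.f s') (fun _ => h2)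
  exact ⟨Σ _ : PUnit.{u+1}, S', fun p => (Uo p.2).toScheme, fun p => (Uo p.2).ι ≫ f, h3,
    fun p => hiso p.2⟩

include hnil h0 in
/-- **Rigidity**: an action of a group of multiplicative type which is trivial modulo a locally
nilpotent ideal is trivial. -/
theorem act_eq_of_locally
    (hG : TwC.Locally S TwC.Topology.fpqc (fun S' f => ∃ (M : Type) (_ : AddCommGroup M),
      Nonempty (Grp.mk (Red.bc f G) ≅ Grp.mk (Red.DS S' M))))
    (Z : Over S) (g : Z ⟶ G) (x : Z ⟶ X) : lift g x ≫ a.act = x := by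
  obtain ⟨K, Sk, gk, hcov, hloc⟩ := exists_fpqc_family _ hG
  apply Over.OverMorphism.ext
  refine Groth.Agent.Lib.Helper15FixFpqc.hom_ext_of_fpqc _ _ _
    (Precoverage.pullbackArrows_mem Z.hom hcov) ?_
  rintro Q _ ⟨T', τ, ⟨k⟩⟩
  obtain ⟨M, _, ⟨e⟩⟩ := hloc k
  obtain ⟨j, hj⟩ : ∃ j : (Over.map (gk k)).obj (Over.mk (pullback.fst (gk k) Z.hom)) ⟶ Z,
      j.left = pullback.snd (gk k) Z.hom :=
    ⟨Over.homMk (pullback.snd (gk k) Z.hom) (by simp [pullback.condition]), rfl⟩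
  have key := act_eq_of_iso i₀ hnil G X a h0 (gk k) M e _ (j ≫ g) (j ≫ x)
  rw [← comp_lift_assoc] at key
  have key' := congrArg (fun z => z.left) key
  simp only [Over.comp_left] at key'
  rw [hj] at key'
  rw [Over.comp_left]
  exact key'

end Groth.Agent.Lib.Helper15DiagRigidLoc
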