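-- helper15: base change of diagonalisable groups / trivialisations; common fpqc refinement of two local properties
import Mathlib
import Groth.Agent.Lib.Helper15DiagRigidLoc
set_option autoImplicit false
universe u
open CategoryTheory CategoryTheory.Limits AlgebraicGeometry MonoidalCategory CartesianMonoidalCategory
  MonObj GrpObj

namespace Groth.Agent.Lib.Helper15DSbc

section BC

variable {S U U' : Scheme.{u}}

/-- iterated base change of a group is base change along the composite, as groups. -/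
noncomputable def bcCompIso (f : U ⟶ S) (q : U' ⟶ U) (H : Over S) [GrpObj H] :
    Grp.mk (Red.bc q (Red.bc f H)) ≅ Grp.mk (Red.bc (q ≫ f) H) :=
  (Functor.mapGrpCompIso (F := Over.pullback f) (G := Over.pullback q)).symm.app (Grp.mk H) ≪≫
    (Functor.mapGrpNatIso (Over.pullbackComp q f).symm).app (Grp.mk H)

/-- base change of a diagonalisable group is diagonalisable. -/
theorem nonempty_DS_bc (q : U' ⟶ U) (M : Type) [AddCommGroup M] :
    Nonempty (Grp.mk (Red.bc q (Red.DS U M)) ≅ Grp.mk (Red.DS U' M)) := by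
  have key : ∀ x : U' ⟶ Spec (CommRingCat.of (ULift.{u} ℤ)),
      x = q ≫ Limits.IsTerminal.from specULiftZIsTerminal U →
      Nonempty (Grp.mk (Red.bc q (Red.DS U M)) ≅
        Grp.mk (Red.bc x (Red.diag (ULift.{u} ℤ) M))) := by
    rintro x rfl
    exact ⟨bcCompIso _ q _⟩
  exact key _ (specULiftZIsTerminal.hom_ext _ _)

/-- a trivialisation of a group over a base induces one over any further base change. -/
theorem nonempty_iso_bc (f : U ⟶ S) (q : U' ⟶ U) (H : Over S) [GrpObj H] (M : Type)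
    [AddCommGroup M] (e : Grp.mk (Red.bc f H) ≅ Grp.mk (Red.DS U M)) :
    Nonempty (Grp.mk (Red.bc (q ≫ f) H) ≅ Grp.mk (Red.DS U' M)) := by
  obtain ⟨e'⟩ := nonempty_DS_bc q M
  exact ⟨(bcCompIso f q H).symm ≪≫ (Over.pullback q).mapGrp.mapIso e ≪≫ e'⟩

end BC

section Family

variable {S : Scheme.{u}}

/-- a common fpqc family for two properties holding fpqc-locally, each stable under further base
change. -/
theorem exists_fpqc_family₂ (P Q : ∀ (S' : Scheme.{u}), (S' ⟶ S) → Prop)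
    (hPs : ∀ (S' S'' : Scheme.{u}) (f : S' ⟶ S) (q : S'' ⟶ S'), P S' f → P S'' (q ≫ f))
    (hQs : ∀ (S' S'' : Scheme.{u}) (f : S' ⟶ S) (q : S'' ⟶ S'), Q S' f → Q S'' (q ≫ f))
    (hP : TwC.Locally S TwC.Topology.fpqc P) (hQ : TwC.Locally S TwC.Topology.fpqc Q) :
    ∃ (K : Type u) (Sk : K → Scheme.{u}) (g : ∀ k, Sk k ⟶ S),
      Presieve.ofArrows Sk g ∈ Scheme.fpqcPrecoverage S ∧ ∀ k, P (Sk k) (g k) ∧ Q (Sk k) (g k) := by
  obtain ⟨J₁, S₁, g₁, hcov₁, hP₁⟩ :=
    Groth.Agent.Lib.Helper15DiagRigidLoc.exists_fpqc_family P hP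
  obtain ⟨J₂, S₂, g₂, hcov₂, hQ₂⟩ :=
    Groth.Agent.Lib.Helper15DiagRigidLoc.exists_fpqc_family Q hQ
  have h2 : ∀ k : J₁, Presieve.ofArrows (fun j : J₂ => pullback (g₂ j) (g₁ k))
      (fun j => pullback.snd (g₂ j) (g₁ k)) ∈ Scheme.fpqcPrecoverage (S₁ k) := by
    intro k
    rw [Presieve.ofArrows_pullback]
    exact Precoverage.pullbackArrows_mem (g₁ k) hcov₂
  have h3 := Precoverage.comp_mem_coverings (J := Scheme.fpqcPrecoverage.{u}) g₁ hcov₁
    (fun k j => pullback.snd (g₂ j) (g₁ k)) h2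
  refine ⟨Σ _ : J₁, J₂, fun p => pullback (g₂ p.2) (g₁ p.1),
    fun p => pullback.snd (g₂ p.2) (g₁ p.1) ≫ g₁ p.1, h3, fun p => ⟨?_, ?_⟩⟩
  · exact hPs _ _ _ _ (hP₁ p.1)
  · show Q (pullback (g₂ p.2) (g₁ p.1)) (pullback.snd (g₂ p.2) (g₁ p.1) ≫ g₁ p.1)
    rw [← pullback.condition]
    exact hQs _ _ _ _ (hQ₂ p.2)

end Family

end Groth.Agent.Lib.Helper15DSbc
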