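-- helper15: points formula and functoriality for homomorphisms of diagonalisable groups; morphisms locally of the form D(phi)
import Mathlib
import Groth.Agent.Lib.Helper15DiagRigid
import Groth.Prelude.Def_Red2
set_option autoImplicit false
universe u
open CategoryTheory CategoryTheory.Limits AlgebraicGeometry MonoidalCategory CartesianMonoidalCategory
  MonObj GrpObj

namespace Groth.Agent.Lib.Helper15DSmapPts

open Groth.Agent.Lib.Helper15DiagRigid
open Groth.Agent.Lib.Helper11MultGa Groth.Agent.Lib.Helper27.GaGm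

section Pts

variable {U : Scheme.{u}} {M N L : Type} [AddCommGroup M] [AddCommGroup N] [AddCommGroup L]

/-- the ring map `ℤ[M] → ℤ[N]` induced by a homomorphism of character groups. -/
noncomputable abbrev amMap (φ : M →+ N) : AM.{u} M →+* AM.{u} N :=
  (MonoidAlgebra.mapDomainAlgHom (ULift.{u} ℤ) (ULift.{u} ℤ)
    (AddMonoidHom.toMultiplicative φ)).toRingHom

lemma amMap_single (φ : M →+ N) (m : Multiplicative M) :
    amMap.{u} φ (MonoidAlgebra.single m 1) =
      MonoidAlgebra.single (AddMonoidHom.toMultiplicative φ m) 1 := by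
  simp [amMap]

lemma diagMap_left (φ : M →+ N) :
    (Red.diagMap (ULift.{u} ℤ) φ).left = Spec.map (CommRingCat.ofHom (amMap.{u} φ)) := rfl

lemma diagMap_comp (φ : M →+ N) (ψ : N →+ L) :
    Red.diagMap (ULift.{u} ℤ) (ψ.comp φ) =
      Red.diagMap (ULift.{u} ℤ) ψ ≫ Red.diagMap (ULift.{u} ℤ) φ := by
  have hcomp : Spec.map (CommRingCat.ofHom (amMap.{u} (ψ.comp φ))) =
      Spec.map (CommRingCat.ofHom (amMap.{u} ψ)) ≫ Spec.map (CommRingCat.ofHom (amMap.{u} φ)) := by
    rw [← Spec.map_comp, ← CommRingCat.ofHom_comp]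
    congr 2
    apply amRingHom_ext
    intro m
    rw [RingHom.comp_apply, amMap_single, amMap_single, amMap_single]
    rfl
  apply Over.OverMorphism.ext
  exact hcomp

lemma diagMap_id : Red.diagMap (ULift.{u} ℤ) (AddMonoidHom.id M) = 𝟙 _ := by
  have hid : Spec.map (CommRingCat.ofHom (amMap.{u} (AddMonoidHom.id M))) = 𝟙 _ := by
    have : amMap.{u} (AddMonoidHom.id M) = RingHom.id _ := by
      apply amRingHom_ext
      intro m
      rw [amMap_single]
      rfl
    rw [this]
    exact Spec.map_id _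
  apply Over.OverMorphism.ext
  exact hid

lemma DSmap_comp (φ : M →+ N) (ψ : N →+ L) :
    Red.DSmap U (ψ.comp φ) = Red.DSmap U ψ ≫ Red.DSmap U φ := by
  unfold Red.DSmap
  rw [diagMap_comp, CategoryTheory.Functor.map_comp]

lemma DSmap_id : Red.DSmap U (AddMonoidHom.id M) = 𝟙 _ := by
  unfold Red.DSmap
  rw [diagMap_id, CategoryTheory.Functor.map_id]

lemma isIso_DSmap (e : M ≃+ N) : IsIso (Red.DSmap U e.toAddMonoidHom) := by
  refine ⟨Red.DSmap U e.symm.toAddMonoidHom, ?_, ?_⟩
  · rw [← DSmap_comp]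
    have : e.toAddMonoidHom.comp e.symm.toAddMonoidHom = AddMonoidHom.id N := by
      ext x; simp
    rw [this, DSmap_id]
  · rw [← DSmap_comp]
    have : e.symm.toAddMonoidHom.comp e.toAddMonoidHom = AddMonoidHom.id M := by
      ext x; simp
    rw [this, DSmap_id]

lemma ptOf_comp_DSmap (φ : M →+ N) {X : Over U}
    (y : X.left ⟶ Spec (CommRingCat.of (AM.{u} N))) :
    ptOf N y ≫ Red.DSmap U φ = ptOf M (y ≫ Spec.map (CommRingCat.ofHom (amMap.{u} φ))) := by
  apply (adjEquiv (tU U) (Red.diag (ULift.{u} ℤ) M) X).injective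
  apply Over.OverMorphism.ext
  rw [adjEquiv_ptOf, adjEquiv_left, Over.comp_left, Category.assoc]
  have h1 : (Red.DSmap U φ).left ≫ pullback.fst (Red.diag (ULift.{u} ℤ) M).hom (tU U) =
      pullback.fst (Red.diag (ULift.{u} ℤ) N).hom (tU U) ≫
        (Red.diagMap (ULift.{u} ℤ) φ).left := by
    unfold Red.DSmap
    simp only [Over.pullback_map_left]
    exact pullback.lift_fst _ _ _
  rw [h1, ← Category.assoc, ← adjEquiv_left, adjEquiv_ptOf, diagMap_left]
  rfl

/-- the points formula for the homomorphism attached to a homomorphism of character groups. -/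
lemma gOf_comp_DSmap (φ : M →+ N) {C : Type u} [CommRing C] (σ : Spec (CommRingCat.of C) ⟶ U)
    (χ : Multiplicative N →* C) :
    gOf N σ χ ≫ Red.DSmap U φ = gOf M σ (χ.comp (AddMonoidHom.toMultiplicative φ)) := by
  unfold gOf
  rw [ptOf_comp_DSmap, ← Spec.map_comp, ← CommRingCat.ofHom_comp]
  congr 3
  apply amRingHom_ext
  intro m
  rw [RingHom.comp_apply, amMap_single, thetaOf_single, thetaOf_single]
  rfl

end Pts

section IsD

variable {T T' : Scheme.{u}}

/-- `w` is, up to isomorphisms of its source and target, the homomorphism of diagonalisable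
groups attached to the homomorphism `φ` of character groups. -/
def IsD {A B : Over T} (w : A ⟶ B) (M₁ M₂ : Type) [AddCommGroup M₁] [AddCommGroup M₂]
    (φ : M₂ →+ M₁) : Prop :=
  ∃ (a : A ≅ Red.DS T M₁) (b : B ≅ Red.DS T M₂), w ≫ b.hom = a.hom ≫ Red.DSmap T φ

variable {M₁ M₂ : Type} [AddCommGroup M₁] [AddCommGroup M₂] {φ : M₂ →+ M₁}

lemma isD_DSmap : IsD (Red.DSmap T φ) M₁ M₂ φ :=
  ⟨Iso.refl _, Iso.refl _, by rw [Iso.refl_hom, Iso.refl_hom, Category.comp_id, Category.id_comp]⟩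

lemma IsD.of_iso {A B A' B' : Over T} {w : A ⟶ B} {w' : A' ⟶ B'} (α : A ≅ A') (β : B ≅ B')
    (h : w ≫ β.hom = α.hom ≫ w') (hw' : IsD w' M₁ M₂ φ) : IsD w M₁ M₂ φ := by
  obtain ⟨a, b, hab⟩ := hw'
  refine ⟨α ≪≫ a, β ≪≫ b, ?_⟩
  rw [Iso.trans_hom, Iso.trans_hom, ← Category.assoc, h, Category.assoc, hab, Category.assoc]

lemma exists_bc_iso (q : T' ⟶ T) (x : T' ⟶ Spec (CommRingCat.of (ULift.{u} ℤ)))
    (hx : x = q ≫ tU T) :
    ∃ c : ∀ (M : Type) [AddCommGroup M],
        (Over.pullback q).obj (Red.DS T M) ≅ (Over.pullback x).obj (Red.diag (ULift.{u} ℤ) M),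
      ∀ (M₁ M₂ : Type) [AddCommGroup M₁] [AddCommGroup M₂] (φ : M₂ →+ M₁),
        (Over.pullback q).map (Red.DSmap T φ) ≫ (c M₂).hom =
          (c M₁).hom ≫ (Over.pullback x).map (Red.diagMap (ULift.{u} ℤ) φ) := by
  subst hx
  refine ⟨fun M _ => ((Over.pullbackComp q (tU T)).app (Red.diag (ULift.{u} ℤ) M)).symm, ?_⟩
  intro M₁ M₂ _ _ φ
  have := (Over.pullbackComp q (tU T)).inv.naturality (Red.diagMap (ULift.{u} ℤ) φ)
  exact this

lemma IsD.bc {A B : Over T} {w : A ⟶ B} (q : T' ⟶ T) (hw : IsD w M₁ M₂ φ) :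
    IsD ((Over.pullback q).map w) M₁ M₂ φ := by
  obtain ⟨a, b, hab⟩ := hw
  obtain ⟨c, hc⟩ := exists_bc_iso q (tU T') (specULiftZIsTerminal.hom_ext _ _)
  refine ⟨(Over.pullback q).mapIso a ≪≫ c M₁, (Over.pullback q).mapIso b ≪≫ c M₂, ?_⟩
  rw [Iso.trans_hom, Iso.trans_hom, Functor.mapIso_hom, Functor.mapIso_hom, ← Category.assoc,
    ← CategoryTheory.Functor.map_comp, hab, CategoryTheory.Functor.map_comp, Category.assoc, hc,
    Category.assoc]
  rfl

lemma IsD.comp_bc {S : Scheme.{u}} {G H : Over S} {w : G ⟶ H} (f : T ⟶ S) (q : T' ⟶ T)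
    (hw : IsD ((Over.pullback q).map ((Over.pullback f).map w)) M₁ M₂ φ) :
    IsD ((Over.pullback (q ≫ f)).map w) M₁ M₂ φ := by
  refine IsD.of_iso ((Over.pullbackComp q f).app G) ((Over.pullbackComp q f).app H) ?_ hw
  exact (Over.pullbackComp q f).hom.naturality w

lemma IsD.of_comp_bc {S : Scheme.{u}} {G H : Over S} {w : G ⟶ H} (f : T ⟶ S) (q : T' ⟶ T)
    (hw : IsD ((Over.pullback (q ≫ f)).map w) M₁ M₂ φ) :
    IsD ((Over.pullback q).map ((Over.pullback f).map w)) M₁ M₂ φ := by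
  refine IsD.of_iso ((Over.pullbackComp q f).app G).symm ((Over.pullbackComp q f).app H).symm ?_ hw
  exact (Over.pullbackComp q f).inv.naturality w

lemma isIso_left {A B : Over T} (a : A ≅ B) : IsIso a.hom.left :=
  inferInstanceAs (IsIso ((Over.forget T).map a.hom))

lemma IsD.prop_iff (P : MorphismProperty Scheme.{u}) [P.RespectsIso] {A B : Over T} {w : A ⟶ B}
    (hw : IsD w M₁ M₂ φ) : P w.left ↔ P (Red.DSmap T φ).left := by
  obtain ⟨a, b, hab⟩ := hw
  have := isIso_left a
  have := isIso_left b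
  have h1 : w.left ≫ b.hom.left = a.hom.left ≫ (Red.DSmap T φ).left := by
    rw [← Over.comp_left, hab, Over.comp_left]
  rw [← P.cancel_right_of_respectsIso w.left b.hom.left, h1, P.cancel_left_of_respectsIso]

/-- the analogous transfer for arbitrary conjugation by isomorphisms. -/
lemma prop_iff_of_iso (P : MorphismProperty Scheme.{u}) [P.RespectsIso] {A B A' B' : Over T}
    {w : A ⟶ B} {w' : A' ⟶ B'} (α : A ≅ A') (β : B ≅ B') (h : w ≫ β.hom = α.hom ≫ w') :
    P w.left ↔ P w'.left := by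
  have := isIso_left α
  have := isIso_left β
  have h1 : w.left ≫ β.hom.left = α.hom.left ≫ w'.left := by
    rw [← Over.comp_left, h, Over.comp_left]
  rw [← P.cancel_right_of_respectsIso w.left β.hom.left, h1, P.cancel_left_of_respectsIso]

end IsD

end Groth.Agent.Lib.Helper15DSmapPts
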