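-- helper15: natural transformations of character functors are given by orthogonal idempotents (grouplike elements of a group algebra)
import Mathlib
import Groth.Agent.Lib.Helper15DiagRigidAlg
set_option autoImplicit false
universe u
open MonoidAlgebra

namespace Groth.Agent.Lib.Helper15GrpLikeAlg

open Groth.Agent.Lib.Helper15DiagRigidAlg

section

variable {A : Type u} [CommRing A] {N : Type} [CommGroup N]

/-- coefficient formula for a product of a left lift and a right lift. -/
lemma coeff_inl_mul_inr (x y : MonoidAlgebra A N) (n n' : N) [DecidableEq N] :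
    (liftNCRingHom (singleOneRingHom : A →+* MonoidAlgebra A (N × N))
        ((of A (N × N)).comp (MonoidHom.inl N N)) (fun _ _ => Commute.all _ _) x *
      liftNCRingHom (singleOneRingHom : A →+* MonoidAlgebra A (N × N))
        ((of A (N × N)).comp (MonoidHom.inr N N)) (fun _ _ => Commute.all _ _) y).coeff (n, n') =
      x.coeff n * y.coeff n' := by
  induction x using MonoidAlgebra.induction_linear with
  | zero => simp
  | add x₁ x₂ h₁ h₂ =>
    rw [map_add, add_mul, coeff_add, Finsupp.add_apply, h₁, h₂, coeff_add, Finsupp.add_apply,
      add_mul]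
  | single a β =>
    rw [liftNCRingHom_single]
    have h1 : (singleOneRingHom : A →+* MonoidAlgebra A (N × N)) β = single 1 β := rfl
    rw [h1, MonoidHom.comp_apply, MonoidHom.inl_apply, of_apply, single_mul_single, one_mul,
      mul_one, coeff_single_mul_apply, Prod.inv_mk, inv_one, Prod.mk_mul_mk, one_mul,
      coeff_liftNC_inr, coeff_single, Finsupp.single_apply]
    by_cases h : a = n
    · subst h
      rw [if_pos rfl, if_pos (inv_mul_cancel a)]
    · rw [if_neg h, if_neg, mul_zero, zero_mul]
      intro h0
      exact h (inv_mul_eq_one.mp h0)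

end

section main

variable {B : Type u} [CommRing B] {N : Type} [CommGroup N]
  (θ : ∀ (C : Type u) [CommRing C], (B →+* C) → (N →* C) → (N →* C))

/-- the universal value of a natural transformation of character functors. -/
noncomputable def bOf (m : N) : MonoidAlgebra B N :=
  θ (MonoidAlgebra B N) singleOneRingHom (of B N) m

variable {θ}
  (nat : ∀ (C C' : Type u) [CommRing C] [CommRing C'] (ψ' : C →+* C') (ψ : B →+* C) (χ : N →* C),
      θ C' (ψ'.comp ψ) ((ψ' : C →* C').comp χ) = (ψ' : C →* C').comp (θ C ψ χ))

include nat in
/-- the general formula. -/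
lemma theta_eq (C : Type u) [CommRing C] (ψ : B →+* C) (χ : N →* C) (m : N) :
    θ C ψ χ m = liftNCRingHom ψ χ (fun _ _ => Commute.all _ _) (bOf θ m) := by
  have h1 : (liftNCRingHom ψ χ (fun _ _ => Commute.all _ _)).comp
      (singleOneRingHom : B →+* MonoidAlgebra B N) = ψ := by
    ext a
    rw [RingHom.comp_apply]
    change liftNCRingHom ψ χ (fun _ _ => Commute.all _ _) (single 1 a) = ψ a
    rw [liftNCRingHom_single, map_one, mul_one]
  have h2 : ((liftNCRingHom ψ χ (fun _ _ => Commute.all _ _) :
      MonoidAlgebra B N →+* C) : MonoidAlgebra B N →* C).comp (of B N) = χ := by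
    ext n
    rw [MonoidHom.comp_apply, of_apply]
    change liftNCRingHom ψ χ (fun _ _ => Commute.all _ _) (single n 1) = χ n
    rw [liftNCRingHom_single, map_one, one_mul]
  have := nat (MonoidAlgebra B N) C (liftNCRingHom ψ χ (fun _ _ => Commute.all _ _))
    singleOneRingHom (of B N)
  rw [h1, h2] at this
  rw [this]
  rfl

variable (mul : ∀ (C : Type u) [CommRing C] (ψ : B →+* C) (χ χ' : N →* C),
      θ C ψ (χ * χ') = θ C ψ χ * θ C ψ χ')

include nat mul in
/-- the coefficients of the universal value are orthogonal idempotents. -/
lemma coeff_bOf_mul (m n n' : N) [DecidableEq N] :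
    (bOf θ m).coeff n * (bOf θ m).coeff n' = if n = n' then (bOf θ m).coeff n else 0 := by
  have h := mul (MonoidAlgebra B (N × N)) singleOneRingHom
    ((of B (N × N)).comp (MonoidHom.inl N N)) ((of B (N × N)).comp (MonoidHom.inr N N))
  have h' := congrArg (fun f : N →* MonoidAlgebra B (N × N) => (f m).coeff (n, n')) h
  simp only [MonoidHom.mul_apply] at h'
  rw [theta_eq nat, theta_eq nat, theta_eq nat, coeff_liftNC_diag, coeff_inl_mul_inr] at h'
  exact h'.symm

include nat in
/-- if the diagonal coefficients are all one, the transformation is trivial. -/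
lemma theta_eq_self_of_coeff_eq_one (hone : ∀ m n n' : N, n ≠ n' →
      (bOf θ m).coeff n * (bOf θ m).coeff n' = 0) (h1 : ∀ m, (bOf θ m).coeff m = 1)
    (C : Type u) [CommRing C] (ψ : B →+* C) (χ : N →* C) : θ C ψ χ = χ := by
  classical
  ext m
  rw [theta_eq nat]
  have hb : bOf θ m = single m 1 := by
    ext n
    rw [coeff_single, Finsupp.single_apply]
    by_cases hn : m = n
    · subst hn
      rw [if_pos rfl, h1]
    · rw [if_neg hn]
      have := hone m n m (Ne.symm hn)
      rw [h1, mul_one] at this
      exact this
  rw [hb, liftNCRingHom_single, map_one, one_mul]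

/-- coefficients of a lift along a scalar extension. -/
lemma coeff_liftNC_comp {C : Type u} [CommRing C] (ψ : B →+* C) (x : MonoidAlgebra B N) (n : N)
    [DecidableEq N] :
    (liftNCRingHom ((singleOneRingHom : C →+* MonoidAlgebra C N).comp ψ) (of C N)
      (fun _ _ => Commute.all _ _) x).coeff n = ψ (x.coeff n) := by
  induction x using MonoidAlgebra.induction_linear with
  | zero => simp
  | add x y hx hy =>
    rw [map_add, coeff_add, Finsupp.add_apply, hx, hy, coeff_add, Finsupp.add_apply, map_add]
  | single k b =>
    rw [liftNCRingHom_single, RingHom.comp_apply]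
    have h1 : (singleOneRingHom : C →+* MonoidAlgebra C N) (ψ b) = single 1 (ψ b) := rfl
    rw [h1, of_apply, single_mul_single, one_mul, mul_one, coeff_single, coeff_single,
      Finsupp.single_apply, Finsupp.single_apply]
    split_ifs
    · rfl
    · rw [map_zero]

include nat in
/-- the coefficients of the value at the universal character over a point. -/
lemma coeff_theta_universal (C : Type u) [CommRing C] (ψ : B →+* C) (m n : N) :
    (θ (MonoidAlgebra C N) ((singleOneRingHom : C →+* MonoidAlgebra C N).comp ψ)
      (of C N) m).coeff n = ψ ((bOf θ m).coeff n) := by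
  classical
  rw [theta_eq nat, coeff_liftNC_comp]

include nat in
/-- the image of the diagonal coefficient under a point at which the transformation is
trivial. -/
lemma map_coeff_of_trivial (C : Type u) [CommRing C] (ψ : B →+* C)
    (htriv : θ (MonoidAlgebra C N) ((singleOneRingHom : C →+* MonoidAlgebra C N).comp ψ)
      (of C N) = of C N) (m n : N) [DecidableEq N] :
    ψ ((bOf θ m).coeff n) = if m = n then 1 else 0 := by
  rw [← coeff_theta_universal nat, htriv, of_apply, coeff_single, Finsupp.single_apply]

end main

end Groth.Agent.Lib.Helper15GrpLikeAlg
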