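-- helper15: families of endomorphisms of diagonalisable groups are locally constant (idempotent charts, clopen loci)
import Mathlib
import Groth.Agent.Lib.Helper15DiagRigid
import Groth.Agent.Lib.Helper15GrpLikeAlg
set_option autoImplicit false
universe u
open CategoryTheory CategoryTheory.Limits AlgebraicGeometry MonoidalCategory CartesianMonoidalCategory
  MonObj GrpObj

namespace Groth.Agent.Lib.Helper15GrpLike

open Groth.Agent.Lib.Helper15DiagRigid Groth.Agent.Lib.Helper15GrpLikeAlg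
open Groth.Agent.Lib.Helper11MultGa Groth.Agent.Lib.Helper27.GaGm

section Inj

variable {U : Scheme.{u}} (M : Type) [AddCommGroup M] {C : Type u} [CommRing C]

lemma thetaOf_injective {χ χ' : Multiplicative M →* C} (h : thetaOf M χ = thetaOf M χ') :
    χ = χ' := by
  apply MonoidHom.ext
  intro m
  rw [← thetaOf_single M χ m, ← thetaOf_single M χ' m, h]

lemma gOf_injective (σ : Spec (CommRingCat.of C) ⟶ U) {χ χ' : Multiplicative M →* C}
    (h : gOf M σ χ = gOf M σ χ') : χ = χ' := by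
  unfold gOf at h
  have h1 := congrArg (fun g => (adjEquiv (tU U) (Red.diag (ULift.{u} ℤ) M) (Over.mk σ) g).left) h
  simp only [adjEquiv_ptOf] at h1
  have h2 := Spec.map_injective h1
  apply thetaOf_injective M
  exact congrArg CommRingCat.Hom.hom h2

end Inj


section Chart

variable {U : Scheme.{u}} {K : Over U} (M : Type) [AddCommGroup M]
  (c : K ⊗ Red.DS U M ⟶ Red.DS U M)
  {O : K.left.Opens} (hO : IsAffineOpen O)

/-- the point of `K` attached to a ring-valued point of an affine open. -/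
noncomputable def kOf {C : Type u} [CommRing C] (ψ : Γ(K.left, O) →+* C) :
    Over.mk (ptW hO ψ ≫ K.hom) ⟶ K :=
  Over.homMk (ptW hO ψ) rfl

/-- the transformation of character functors induced by a family of endomorphisms of a
diagonalisable group parametrised by `K`. -/
noncomputable def thetaG (C : Type u) [CommRing C] (ψ : Γ(K.left, O) →+* C)
    (χ : Multiplicative M →* C) : Multiplicative M →* C :=
  (exists_gOf M _ (lift (kOf hO ψ) (gOf M (ptW hO ψ ≫ K.hom) χ) ≫ c)).choose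

lemma thetaG_spec {C : Type u} [CommRing C] (ψ : Γ(K.left, O) →+* C)
    (χ : Multiplicative M →* C) (σ : Spec (CommRingCat.of C) ⟶ U) (k : Over.mk σ ⟶ K)
    (hk : k.left = ptW hO ψ) :
    lift k (gOf M σ χ) ≫ c = gOf M σ (thetaG M c hO C ψ χ) := by
  have hσ : σ = ptW hO ψ ≫ K.hom := by
    rw [← hk]
    exact (Over.w k).symm
  subst hσ
  have hkk : k = kOf hO ψ := by
    apply Over.OverMorphism.ext
    rw [hk]
    rfl
  rw [hkk]
  exact (exists_gOf M _ (lift (kOf hO ψ) (gOf M (ptW hO ψ ≫ K.hom) χ) ≫ c)).choose_spec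

lemma thetaG_nat (C C' : Type u) [CommRing C] [CommRing C'] (ψ' : C →+* C')
    (ψ : Γ(K.left, O) →+* C) (χ : Multiplicative M →* C) :
    thetaG M c hO C' (ψ'.comp ψ) ((ψ' : C →* C').comp χ) =
      (ψ' : C →* C').comp (thetaG M c hO C ψ χ) := by
  obtain ⟨σ, hσ⟩ : ∃ σ : Spec (CommRingCat.of C) ⟶ U, σ = ptW hO ψ ≫ K.hom := ⟨_, rfl⟩
  obtain ⟨σ', hσ'⟩ : ∃ σ' : Spec (CommRingCat.of C') ⟶ U,
      σ' = Spec.map (CommRingCat.ofHom ψ') ≫ σ := ⟨_, rfl⟩
  obtain ⟨k, hk⟩ : ∃ k : Over.mk σ ⟶ K, k.left = ptW hO ψ :=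
    ⟨Over.homMk (ptW hO ψ) hσ.symm, rfl⟩
  obtain ⟨j, hj⟩ : ∃ j : Over.mk σ' ⟶ Over.mk σ, j.left = Spec.map (CommRingCat.ofHom ψ') :=
    ⟨Over.homMk (Spec.map (CommRingCat.ofHom ψ')) hσ'.symm, rfl⟩
  have hg : ∀ χ₀ : Multiplicative M →* C,
      j ≫ gOf M σ χ₀ = gOf M σ' ((ψ' : C →* C').comp χ₀) := by
    intro χ₀
    rw [← gOf_comp M ψ' σ σ' hσ'.symm χ₀]
    congr 1
    apply Over.OverMorphism.ext
    rw [hj]
    rfl
  have hjk : (j ≫ k).left = ptW hO (ψ'.comp ψ) := by
    rw [Over.comp_left, hj, hk, specMap_comp_ptW]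
  apply gOf_injective M σ'
  rw [← thetaG_spec M c hO (ψ'.comp ψ) _ σ' (j ≫ k) hjk, ← hg, ← comp_lift_assoc,
    thetaG_spec M c hO ψ χ σ k hk, hg]

variable (hmul : ∀ (Y : Over U) (k : Y ⟶ K) (h h' : Y ⟶ Red.DS U M),
    lift k (h * h') ≫ c = (lift k h ≫ c) * (lift k h' ≫ c))

include hmul in
lemma thetaG_mul (C : Type u) [CommRing C] (ψ : Γ(K.left, O) →+* C)
    (χ χ' : Multiplicative M →* C) :
    thetaG M c hO C ψ (χ * χ') = thetaG M c hO C ψ χ * thetaG M c hO C ψ χ' := by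
  apply gOf_injective M (ptW hO ψ ≫ K.hom)
  rw [← thetaG_spec M c hO ψ _ _ (kOf hO ψ) rfl, ← gOf_mul, hmul,
    thetaG_spec M c hO ψ χ _ (kOf hO ψ) rfl, thetaG_spec M c hO ψ χ' _ (kOf hO ψ) rfl, gOf_mul]

/-- the diagonal coefficient: an idempotent function on the affine open. -/
noncomputable def eOf (m : Multiplicative M) : Γ(K.left, O) :=
  (bOf (thetaG M c hO) m).coeff m

include hmul in
lemma eOf_mul_self (m : Multiplicative M) : eOf M c hO m * eOf M c hO m = eOf M c hO m := by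
  classical
  have := coeff_bOf_mul (θ := thetaG M c hO) (thetaG_nat M c hO) (thetaG_mul M c hO hmul) m m m
  rw [if_pos rfl] at this
  exact this

end Chart


section Compat

variable {U : Scheme.{u}} {K : Over U} (M : Type) [AddCommGroup M]
  (c : K ⊗ Red.DS U M ⟶ Red.DS U M)
  {O O' : K.left.Opens} (hO : IsAffineOpen O) (hO' : IsAffineOpen O') (hle : O' ≤ O)

lemma ptW_of_le {C : Type u} [CommRing C] (ψ' : Γ(K.left, O') →+* C) :
    ptW hO' ψ' = ptW hO (ψ'.comp (K.left.presheaf.map (homOfLE hle).op).hom) := by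
  unfold ptW
  rw [← hO.map_fromSpec hO' (homOfLE hle).op, ← Category.assoc, ← Spec.map_comp]
  rfl

lemma thetaG_of_le (C : Type u) [CommRing C] (ψ' : Γ(K.left, O') →+* C)
    (χ : Multiplicative M →* C) :
    thetaG M c hO' C ψ' χ =
      thetaG M c hO C (ψ'.comp (K.left.presheaf.map (homOfLE hle).op).hom) χ := by
  apply gOf_injective M (ptW hO' ψ' ≫ K.hom)
  rw [← thetaG_spec M c hO' ψ' χ _ (kOf hO' ψ') rfl]
  exact thetaG_spec M c hO _ χ _ (kOf hO' ψ') (ptW_of_le hO hO' hle ψ')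

lemma eOf_of_le (m : Multiplicative M) :
    eOf M c hO' m = (K.left.presheaf.map (homOfLE hle).op).hom (eOf M c hO m) := by
  unfold eOf
  rw [← coeff_theta_universal (θ := thetaG M c hO) (thetaG_nat M c hO)]
  unfold bOf
  rw [thetaG_of_le M c hO hO' hle]

end Compat


section Locus

variable {U : Scheme.{u}} {K : Over U} (M : Type) [AddCommGroup M]
  (c : K ⊗ Red.DS U M ⟶ Red.DS U M)

/-- the locus of `K` over which the family of endomorphisms fixes the character `m`. -/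
def Aset (m : Multiplicative M) : Set K.left :=
  {t | ∃ (O : K.left.Opens) (hO : IsAffineOpen O), t ∈ K.left.basicOpen (eOf M c hO m)}

lemma mem_basicOpen_eOf_of_le {O O' : K.left.Opens} (hO : IsAffineOpen O)
    (hO' : IsAffineOpen O') (hle : O' ≤ O) (m : Multiplicative M) (t : K.left) (ht : t ∈ O') :
    t ∈ K.left.basicOpen (eOf M c hO' m) ↔ t ∈ K.left.basicOpen (eOf M c hO m) := by
  rw [eOf_of_le M c hO hO' hle]
  have := K.left.basicOpen_res (eOf M c hO m) (homOfLE hle).op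
  rw [show K.left.basicOpen ((K.left.presheaf.map (homOfLE hle).op).hom (eOf M c hO m)) =
    O' ⊓ K.left.basicOpen (eOf M c hO m) from this]
  exact ⟨fun h => h.2, fun h => ⟨ht, h⟩⟩

lemma mem_basicOpen_eOf_iff {O O₂ : K.left.Opens} (hO : IsAffineOpen O)
    (hO₂ : IsAffineOpen O₂) (m : Multiplicative M) (t : K.left) (ht : t ∈ O) (ht₂ : t ∈ O₂) :
    t ∈ K.left.basicOpen (eOf M c hO m) ↔ t ∈ K.left.basicOpen (eOf M c hO₂ m) := by
  have ht' : t ∈ O ⊓ O₂ := ⟨ht, ht₂⟩
  obtain ⟨O₃, hO₃, ht₃, hle⟩ := TopologicalSpace.Opens.isBasis_iff_nbhd.mp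
    K.left.isBasis_affineOpens ht'
  have hO₃a : IsAffineOpen O₃ := hO₃
  rw [← mem_basicOpen_eOf_of_le M c hO hO₃a (hle.trans inf_le_left) m t ht₃,
    ← mem_basicOpen_eOf_of_le M c hO₂ hO₃a (hle.trans inf_le_right) m t ht₃]

lemma mem_Aset_iff {O : K.left.Opens} (hO : IsAffineOpen O) (m : Multiplicative M) (t : K.left)
    (ht : t ∈ O) : t ∈ Aset M c m ↔ t ∈ K.left.basicOpen (eOf M c hO m) := by
  constructor
  · rintro ⟨O₂, hO₂, h⟩
    exact (mem_basicOpen_eOf_iff M c hO₂ hO m t (K.left.basicOpen_le _ h) ht).mp h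
  · intro h
    exact ⟨O, hO, h⟩

lemma exists_affine_nhd (t : K.left) : ∃ O : K.left.Opens, IsAffineOpen O ∧ t ∈ O := by
  have ht' : t ∈ (⊤ : K.left.Opens) := trivial
  obtain ⟨O, hO, ht, -⟩ := TopologicalSpace.Opens.isBasis_iff_nbhd.mp
    K.left.isBasis_affineOpens ht'
  exact ⟨O, hO, ht⟩

variable (hmul : ∀ (Y : Over U) (k : Y ⟶ K) (h h' : Y ⟶ Red.DS U M),
    lift k (h * h') ≫ c = (lift k h ≫ c) * (lift k h' ≫ c))

include hmul in
lemma isClopen_Aset (m : Multiplicative M) : IsClopen (Aset M c m) := by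
  constructor
  · rw [← isOpen_compl_iff, isOpen_iff_forall_mem_open]
    intro t ht
    obtain ⟨O, hO, htO⟩ := exists_affine_nhd t
    obtain ⟨e, he⟩ : ∃ e, e = eOf M c hO m := ⟨_, rfl⟩
    have hee : e * e = e := by rw [he]; exact eOf_mul_self M c hO hmul m
    refine ⟨K.left.basicOpen (1 - e), ?_, (K.left.basicOpen (1 - e)).isOpen, ?_⟩
    · intro t' ht' hA
      have ht'O : t' ∈ O := K.left.basicOpen_le _ ht'
      rw [mem_Aset_iff M c hO m t' ht'O, ← he] at hA
      have h1 : t' ∈ K.left.basicOpen (e * (1 - e)) := by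
        rw [Scheme.basicOpen_mul]
        exact ⟨hA, ht'⟩
      rw [show e * (1 - e) = 0 by rw [mul_sub, _root_.mul_one, hee, sub_self],
        Scheme.basicOpen_zero] at h1
      exact h1
    · have h1 : t ∈ K.left.basicOpen (e + (1 - e)) := by
        rw [show e + (1 - e) = 1 by ring, Scheme.basicOpen_one]
        exact htO
      have h2 := K.left.basicOpen_add_le e (1 - e) h1
      rcases h2 with h2 | h2
      · exfalso
        apply ht
        rw [mem_Aset_iff M c hO m t htO, ← he]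
        exact h2
      · exact h2
  · rw [isOpen_iff_forall_mem_open]
    rintro t ⟨O, hO, h⟩
    exact ⟨K.left.basicOpen (eOf M c hO m), fun t' ht' => ⟨O, hO, ht'⟩,
      (K.left.basicOpen _).isOpen, h⟩

end Locus


section Unit

variable {U : Scheme.{u}} {K : Over U} [GrpObj K] (M : Type) [AddCommGroup M]
  (c : K ⊗ Red.DS U M ⟶ Red.DS U M)
  (h1 : ∀ (Y : Over U) (h : Y ⟶ Red.DS U M), lift (1 : Y ⟶ K) h ≫ c = h)

include h1 in
/-- the unit section lies in the locus. -/
lemma unit_mem_Aset (m : Multiplicative M) (u : U) :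
    (η[K]).left.base u ∈ Aset M c m := by
  classical
  suffices key : ∀ ε : U ⟶ K.left, ε = (η[K]).left → ε u ∈ Aset M c m from key _ rfl
  intro ε hε
  have hεK : ε ≫ K.hom = 𝟙 U := by rw [hε]; exact Over.w (η[K])
  obtain ⟨O, hO, htO⟩ := exists_affine_nhd (ε u)
  have htO' : u ∈ ε ⁻¹ᵁ O := htO
  obtain ⟨V, hV, huV, hle⟩ := TopologicalSpace.Opens.isBasis_iff_nbhd.mp
    U.isBasis_affineOpens htO'
  have hVa : IsAffineOpen V := hV
  obtain ⟨ψ, hψ⟩ : ∃ ψ : Γ(K.left, O) →+* Γ(U, V), ψ = (ε.appLE O V hle).hom := ⟨_, rfl⟩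
  have hpt : ptW hO ψ = hVa.fromSpec ≫ ε := by
    have := ptW_comp hVa ε hO hle (RingHom.id _)
    rw [RingHom.id_comp, ← hψ] at this
    rw [← this]
    unfold ptW
    rw [show CommRingCat.ofHom (RingHom.id Γ(U, V)) = 𝟙 _ from rfl, Spec.map_id, Category.id_comp]
  have htriv : thetaG M c hO (MonoidAlgebra Γ(U, V) (Multiplicative M))
      ((MonoidAlgebra.singleOneRingHom : Γ(U, V) →+* MonoidAlgebra Γ(U, V) (Multiplicative M)).comp ψ)
      (MonoidAlgebra.of Γ(U, V) (Multiplicative M)) = MonoidAlgebra.of Γ(U, V) (Multiplicative M) := by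
    obtain ⟨ψ', hψ'⟩ : ∃ ψ' : Γ(K.left, O) →+* MonoidAlgebra Γ(U, V) (Multiplicative M),
        ψ' = (MonoidAlgebra.singleOneRingHom).comp ψ := ⟨_, rfl⟩
    rw [← hψ']
    apply gOf_injective M (ptW hO ψ' ≫ K.hom)
    rw [← thetaG_spec M c hO ψ' _ _ (kOf hO ψ') rfl]
    have hk1 : kOf hO ψ' = 1 := by
      rw [Hom.one_def]
      apply Over.OverMorphism.ext
      rw [Over.comp_left, ← hε, Over.toUnit_left]
      show ptW hO ψ' = (ptW hO ψ' ≫ K.hom) ≫ ε
      rw [hψ', ← specMap_comp_ptW, hpt, Category.assoc, Category.assoc, Category.assoc,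
        reassoc_of% hεK]
    rw [hk1, h1]
  have he1 : ψ (eOf M c hO m) = 1 := by
    have := map_coeff_of_trivial (θ := thetaG M c hO) (thetaG_nat M c hO) Γ(U, V) ψ htriv m m
    rw [if_pos rfl] at this
    exact this
  rw [mem_Aset_iff M c hO m _ htO]
  have hb := U.basicOpen_appLE ε V O hle (eOf M c hO m)
  rw [show (ε.appLE O V hle) (eOf M c hO m) = ψ (eOf M c hO m) by rw [hψ], he1,
    Scheme.basicOpen_one] at hb
  have : u ∈ V ⊓ ε ⁻¹ᵁ K.left.basicOpen (eOf M c hO m) := by rw [← hb]; exact huV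
  exact this.2

end Unit


section Concl

variable {U : Scheme.{u}} {K : Over U} (M : Type) [AddCommGroup M]
  (c : K ⊗ Red.DS U M ⟶ Red.DS U M)
  (hmul : ∀ (Y : Over U) (k : Y ⟶ K) (h h' : Y ⟶ Red.DS U M),
    lift k (h * h') ≫ c = (lift k h ≫ c) * (lift k h' ≫ c))
  (hA : ∀ m, Aset M c m = Set.univ)

include hmul hA in
lemma eOf_eq_one {O : K.left.Opens} (hO : IsAffineOpen O) (m : Multiplicative M) :
    eOf M c hO m = 1 := by
  have hunit : IsUnit (eOf M c hO m) := by
    apply RingedSpace.isUnit_of_isUnit_germ K.left.toRingedSpace O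
    intro t ht
    have h1 : t ∈ Aset M c m := by rw [hA]; trivial
    rw [mem_Aset_iff M c hO m t ht] at h1
    exact (K.left.mem_basicOpen _ t ht).mp h1
  have hee := eOf_mul_self M c hO hmul m
  obtain ⟨v, hv⟩ := hunit
  rw [← hv] at hee ⊢
  calc (v : Γ(K.left, O)) = ↑v⁻¹ * (↑v * ↑v) := by rw [← _root_.mul_assoc, Units.inv_mul, _root_.one_mul]
    _ = 1 := by rw [hee, Units.inv_mul]

include hmul hA in
lemma thetaG_eq_self {O : K.left.Opens} (hO : IsAffineOpen O) (C : Type u) [CommRing C]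
    (ψ : Γ(K.left, O) →+* C) (χ : Multiplicative M →* C) : thetaG M c hO C ψ χ = χ := by
  classical
  refine theta_eq_self_of_coeff_eq_one (θ := thetaG M c hO) (thetaG_nat M c hO) ?_
    (fun m => eOf_eq_one M c hmul hA hO m) C ψ χ
  intro m n n' hnn'
  have := coeff_bOf_mul (θ := thetaG M c hO) (thetaG_nat M c hO) (thetaG_mul M c hO hmul) m n n'
  rw [if_neg hnn'] at this
  exact this

include hmul hA in
/-- on points from an affine scheme landing in an affine open, the family is trivial. -/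
lemma comp_eq_of_affine {O : K.left.Opens} (hO : IsAffineOpen O) {C : Type u} [CommRing C]
    (σ : Spec (CommRingCat.of C) ⟶ U) (k : Over.mk σ ⟶ K) (h : Over.mk σ ⟶ Red.DS U M)
    (hk : ∀ t, k.left t ∈ O) : lift k h ≫ c = h := by
  obtain ⟨χ, rfl⟩ := exists_gOf M σ h
  obtain ⟨ψ, hψ⟩ := exists_eq_ptW hO k.left hk
  rw [thetaG_spec M c hO ψ χ σ k hψ, thetaG_eq_self M c hmul hA hO]

include hmul hA in
/-- **if the loci are everything, the family of endomorphisms is trivial.** -/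
theorem comp_eq_of_Aset_eq_univ (Y : Over U) (k : Y ⟶ K) (h : Y ⟶ Red.DS U M) :
    lift k h ≫ c = h := by
  apply Over.OverMorphism.ext
  apply Scheme.hom_ext_of_forall
  intro y
  obtain ⟨O, hO, hyO⟩ := exists_affine_nhd (k.left y)
  have hyO' : y ∈ k.left ⁻¹ᵁ O := hyO
  obtain ⟨O', hO', hyO'', hle⟩ := TopologicalSpace.Opens.isBasis_iff_nbhd.mp
    Y.left.isBasis_affineOpens hyO'
  refine ⟨O', hyO'', ?_⟩
  have hOa : IsAffineOpen O' := hO'
  rw [← cancel_epi hOa.isoSpec.inv, IsAffineOpen.isoSpec_inv_ι_assoc,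
    IsAffineOpen.isoSpec_inv_ι_assoc]
  obtain ⟨j, hj⟩ : ∃ j : Over.mk (hOa.fromSpec ≫ Y.hom) ⟶ Y, j.left = hOa.fromSpec :=
    ⟨Over.homMk hOa.fromSpec rfl, rfl⟩
  have key := comp_eq_of_affine M c hmul hA hO (hOa.fromSpec ≫ Y.hom) (j ≫ k) (j ≫ h) (by
    intro t
    rw [Over.comp_left, hj, Scheme.Hom.comp_apply]
    apply hle
    have : hOa.fromSpec t ∈ Set.range hOa.fromSpec := ⟨_, rfl⟩
    rw [hOa.range_fromSpec] at this
    exact this)
  rw [← comp_lift_assoc] at key
  have key' := congrArg (fun z => z.left) key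
  simp only [Over.comp_left, hj] at key'
  exact key'

end Concl


section Main

variable {U : Scheme.{u}} {K : Over U} [GrpObj K] (M : Type) [AddCommGroup M]
  (c : K ⊗ Red.DS U M ⟶ Red.DS U M)

/-- **a family of endomorphisms of a diagonalisable group, parametrised by a group scheme with
connected fibres and trivial at the unit section, is trivial.** -/
theorem comp_eq_of_connected_fibres
    (hconn : ∀ u : U, _root_.IsPreconnected (K.hom ⁻¹' {u}))
    (h1 : ∀ (Y : Over U) (h : Y ⟶ Red.DS U M), lift (1 : Y ⟶ K) h ≫ c = h)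
    (hmul : ∀ (Y : Over U) (k : Y ⟶ K) (h h' : Y ⟶ Red.DS U M),
      lift k (h * h') ≫ c = (lift k h ≫ c) * (lift k h' ≫ c))
    (Y : Over U) (k : Y ⟶ K) (h : Y ⟶ Red.DS U M) : lift k h ≫ c = h := by
  refine comp_eq_of_Aset_eq_univ M c hmul (fun m => ?_) Y k h
  rw [Set.eq_univ_iff_forall]
  intro t
  obtain ⟨v, hv⟩ : ∃ v : U, v = K.hom t := ⟨_, rfl⟩
  have hsub := (hconn v).subset_isClopen (isClopen_Aset M c hmul m) ⟨(η[K]).left.base v, by
    show K.hom ((η[K]).left v) = v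
    rw [← Scheme.Hom.comp_apply]
    have := Over.w (η[K])
    rw [this]
    rfl, unit_mem_Aset M c h1 m v⟩
  exact hsub hv.symm

end Main

end Groth.Agent.Lib.Helper15GrpLike
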