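-- helper15: natural transformations of character functors trivial at a point where generators have diagonal coefficient one
import Mathlib
import Groth.Agent.Lib.Helper15GrpLikeAlg
set_option autoImplicit false
universe u
open MonoidAlgebra

namespace Groth.Agent.Lib.Helper15GrpLikeGen

open Groth.Agent.Lib.Helper15DiagRigidAlg Groth.Agent.Lib.Helper15GrpLikeAlg

section main

variable {B : Type u} [CommRing B] {N : Type} [CommGroup N]
  {θ : ∀ (C : Type u) [CommRing C], (B →+* C) → (N →* C) → (N →* C)}
  (nat : ∀ (C C' : Type u) [CommRing C] [CommRing C'] (ψ' : C →+* C') (ψ : B →+* C) (χ : N →* C),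
      θ C' (ψ'.comp ψ) ((ψ' : C →* C').comp χ) = (ψ' : C →* C').comp (θ C ψ χ))
  (mul : ∀ (C : Type u) [CommRing C] (ψ : B →+* C) (χ χ' : N →* C),
      θ C ψ (χ * χ') = θ C ψ χ * θ C ψ χ')

include nat mul in
/-- at a point where the diagonal coefficient is one, the universal value is the tautological
character. -/
lemma theta_univ_apply_of_map_coeff (C : Type u) [CommRing C] (ψ : B →+* C) (m : N)
    (h : ψ ((bOf θ m).coeff m) = 1) :
    θ (MonoidAlgebra C N) ((singleOneRingHom : C →+* MonoidAlgebra C N).comp ψ) (of C N) m =
      of C N m := by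
  classical
  ext n
  rw [coeff_theta_universal nat, of_apply, coeff_single, Finsupp.single_apply]
  by_cases hn : m = n
  · subst hn
    rw [if_pos rfl, h]
  · rw [if_neg hn]
    have h0 := coeff_bOf_mul nat mul m n m
    rw [if_neg (Ne.symm hn)] at h0
    have := congrArg ψ h0
    rw [map_mul, h, mul_one, map_zero] at this
    exact this

include nat in
/-- if the universal value over a point is the tautological character, the transformation is
trivial at that point. -/
lemma theta_eq_self_of_theta_univ (C : Type u) [CommRing C] (ψ : B →+* C)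
    (h : θ (MonoidAlgebra C N) ((singleOneRingHom : C →+* MonoidAlgebra C N).comp ψ) (of C N) =
      of C N) (χ : N →* C) : θ C ψ χ = χ := by
  obtain ⟨L, hL⟩ : ∃ L : MonoidAlgebra C N →+* C,
      L = liftNCRingHom (RingHom.id C) χ (fun _ _ => Commute.all _ _) := ⟨_, rfl⟩
  have h1 : L.comp ((singleOneRingHom : C →+* MonoidAlgebra C N).comp ψ) = ψ := by
    ext a
    rw [RingHom.comp_apply, RingHom.comp_apply, hL]
    change liftNCRingHom (RingHom.id C) χ (fun _ _ => Commute.all _ _) (single 1 (ψ a)) = ψ a
    rw [liftNCRingHom_single, map_one, mul_one, RingHom.id_apply]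
  have h2 : (L : MonoidAlgebra C N →* C).comp (of C N) = χ := by
    ext n
    rw [MonoidHom.comp_apply, of_apply, hL]
    change liftNCRingHom (RingHom.id C) χ (fun _ _ => Commute.all _ _) (single n 1) = χ n
    rw [liftNCRingHom_single, map_one, one_mul]
  have := nat (MonoidAlgebra C N) C L ((singleOneRingHom : C →+* MonoidAlgebra C N).comp ψ)
    (of C N)
  rw [h1, h2, h, h2] at this
  exact this

include nat mul in
/-- **if the diagonal coefficients of a generating set map to one at a point, the transformation
is trivial at that point.** -/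
theorem theta_eq_self_of_gens (s : Set N) (hs : Subgroup.closure s = ⊤)
    (C : Type u) [CommRing C] (ψ : B →+* C)
    (h : ∀ m ∈ s, ψ ((bOf θ m).coeff m) = 1) (χ : N →* C) : θ C ψ χ = χ := by
  refine theta_eq_self_of_theta_univ nat C ψ ?_ χ
  refine MonoidHom.eq_of_eqOn_dense hs ?_
  intro m hm
  exact theta_univ_apply_of_map_coeff nat mul C ψ m (h m hm)

end main

end Groth.Agent.Lib.Helper15GrpLikeGen
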