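-- helper15: fixed loci of families of endomorphisms of diagonalisable groups (points in the idempotent loci are exactly the fixed points)
import Mathlib
import Groth.Agent.Lib.Helper15GrpLike
import Groth.Agent.Lib.Helper15GrpLikeGen
set_option autoImplicit false
universe u
open CategoryTheory CategoryTheory.Limits AlgebraicGeometry MonoidalCategory CartesianMonoidalCategory
  MonObj GrpObj

namespace Groth.Agent.Lib.Helper15GrpLikeFix

open Groth.Agent.Lib.Helper15DiagRigid Groth.Agent.Lib.Helper15GrpLikeAlg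
open Groth.Agent.Lib.Helper15GrpLike Groth.Agent.Lib.Helper15GrpLikeGen
open Groth.Agent.Lib.Helper11MultGa Groth.Agent.Lib.Helper27.GaGm

/-- a function on an affine open which is nowhere vanishing along a ring-valued point maps to a
unit. -/
lemma isUnit_of_ptW_mem_basicOpen {X : Scheme.{u}} {W : X.Opens} (hW : IsAffineOpen W)
    {C : Type u} [CommRing C] (ψ : Γ(X, W) →+* C) (r : Γ(X, W))
    (h : ∀ t, ptW hW ψ t ∈ X.basicOpen r) : IsUnit (ψ r) := by
  by_contra hu
  obtain ⟨p, hp, hrp⟩ := exists_max_ideal_of_mem_nonunits (show ψ r ∈ nonunits C from hu)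
  have hpp : p.IsPrime := hp.isPrime
  obtain ⟨t, ht⟩ : ∃ t : ↥(Spec (CommRingCat.of C)), t = (⟨p, hpp⟩ : PrimeSpectrum C) := ⟨_, rfl⟩
  have h1 := h t
  unfold ptW at h1
  rw [Scheme.Hom.comp_apply] at h1
  have h2 : Spec.map (CommRingCat.ofHom ψ) t ∈ hW.fromSpec ⁻¹ᵁ X.basicOpen r := h1
  rw [hW.fromSpec_preimage_basicOpen] at h2
  have h3 : r ∉ (Spec.map (CommRingCat.ofHom ψ) t).asIdeal := h2
  apply h3
  change r ∈ (PrimeSpectrum.comap ψ t).asIdeal
  rw [PrimeSpectrum.comap_asIdeal, Ideal.mem_comap, ht]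
  exact hrp

section Fix

variable {U : Scheme.{u}} {K : Over U} (M : Type) [AddCommGroup M]
  (c : K ⊗ Red.DS U M ⟶ Red.DS U M)
  (hmul : ∀ (Y : Over U) (k : Y ⟶ K) (h h' : Y ⟶ Red.DS U M),
    lift k (h * h') ≫ c = (lift k h ≫ c) * (lift k h' ≫ c))

include hmul in
/-- along a ring-valued point lying in the locus, the diagonal idempotent maps to one. -/
lemma map_eOf_eq_one {O : K.left.Opens} (hO : IsAffineOpen O) {C : Type u} [CommRing C]
    (ψ : Γ(K.left, O) →+* C) (m : Multiplicative M)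
    (h : ∀ t, ptW hO ψ t ∈ Aset M c m) : ψ (eOf M c hO m) = 1 := by
  have hunit : IsUnit (ψ (eOf M c hO m)) := by
    apply isUnit_of_ptW_mem_basicOpen hO
    intro t
    exact (mem_Aset_iff M c hO m _ (ptW_mem hO ψ t)).mp (h t)
  have hee : ψ (eOf M c hO m) * ψ (eOf M c hO m) = ψ (eOf M c hO m) := by
    rw [← map_mul, eOf_mul_self M c hO hmul m]
  obtain ⟨v, hv⟩ := hunit
  rw [← hv] at hee ⊢
  calc (v : C) = ↑v⁻¹ * (↑v * ↑v) := by rw [← _root_.mul_assoc, Units.inv_mul, _root_.one_mul]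
    _ = 1 := by rw [hee, Units.inv_mul]

variable (s : Set (Multiplicative M)) (hs : Subgroup.closure s = ⊤)

include hmul hs in
/-- on points from an affine scheme landing in an affine open and in the loci of a generating
set, the family is trivial. -/
lemma comp_eq_of_affine_of_mem {O : K.left.Opens} (hO : IsAffineOpen O) {C : Type u} [CommRing C]
    (σ : Spec (CommRingCat.of C) ⟶ U) (k : Over.mk σ ⟶ K) (h : Over.mk σ ⟶ Red.DS U M)
    (hk : ∀ t, k.left t ∈ O) (hkA : ∀ t, ∀ m ∈ s, k.left t ∈ Aset M c m) :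
    lift k h ≫ c = h := by
  obtain ⟨χ, rfl⟩ := exists_gOf M σ h
  obtain ⟨ψ, hψ⟩ := exists_eq_ptW hO k.left hk
  rw [thetaG_spec M c hO ψ χ σ k hψ]
  congr 1
  refine theta_eq_self_of_gens (θ := thetaG M c hO) (thetaG_nat M c hO)
    (thetaG_mul M c hO hmul) s hs C ψ ?_ χ
  intro m hm
  refine map_eOf_eq_one M c hmul hO ψ m ?_
  intro t
  rw [← hψ]
  exact hkA t m hm

include hmul hs in
/-- **a point lying in the loci of a generating set of characters is fixed by the family of
endomorphisms.** -/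
theorem comp_eq_of_forall_mem_Aset (Y : Over U) (k : Y ⟶ K)
    (hkA : ∀ y, ∀ m ∈ s, k.left y ∈ Aset M c m) (h : Y ⟶ Red.DS U M) :
    lift k h ≫ c = h := by
  apply Over.OverMorphism.ext
  apply Scheme.hom_ext_of_forall
  intro y
  obtain ⟨O, hO, hyO⟩ := exists_affine_nhd (k.left y)
  have hyO' : y ∈ k.left ⁻¹ᵁ O := hyO
  obtain ⟨O', hO', hyO'', hle⟩ := TopologicalSpace.Opens.isBasis_iff_nbhd.mp
    Y.left.isBasis_affineOpens hyO'
  refine ⟨O', hyO'', ?_⟩
  have hOa : IsAffineOpen O' := hO'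
  rw [← cancel_epi hOa.isoSpec.inv, IsAffineOpen.isoSpec_inv_ι_assoc,
    IsAffineOpen.isoSpec_inv_ι_assoc]
  obtain ⟨j, hj⟩ : ∃ j : Over.mk (hOa.fromSpec ≫ Y.hom) ⟶ Y, j.left = hOa.fromSpec :=
    ⟨Over.homMk hOa.fromSpec rfl, rfl⟩
  have key := comp_eq_of_affine_of_mem M c hmul s hs hO (hOa.fromSpec ≫ Y.hom) (j ≫ k) (j ≫ h) (by
    intro t
    rw [Over.comp_left, hj, Scheme.Hom.comp_apply]
    apply hle
    have : hOa.fromSpec t ∈ Set.range hOa.fromSpec := ⟨_, rfl⟩
    rw [hOa.range_fromSpec] at this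
    exact this) (by
    intro t m hm
    rw [Over.comp_left, Scheme.Hom.comp_apply]
    exact hkA _ m hm)
  rw [← comp_lift_assoc] at key
  have key' := congrArg (fun z => z.left) key
  simp only [Over.comp_left, hj] at key'
  exact key'

/-- **a point all of whose specialisations are fixed by the family of endomorphisms lies in all
the loci.** -/
theorem mem_Aset_of_comp_eq (Y : Over U) (k : Y ⟶ K)
    (hk : ∀ (Y' : Over U) (x : Y' ⟶ Y) (h : Y' ⟶ Red.DS U M), lift (x ≫ k) h ≫ c = h)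
    (y : Y.left) (m : Multiplicative M) : k.left y ∈ Aset M c m := by
  classical
  obtain ⟨O, hO, htO⟩ := exists_affine_nhd (k.left y)
  have htO' : y ∈ k.left ⁻¹ᵁ O := htO
  obtain ⟨V, hV, huV, hle⟩ := TopologicalSpace.Opens.isBasis_iff_nbhd.mp
    Y.left.isBasis_affineOpens htO'
  have hVa : IsAffineOpen V := hV
  obtain ⟨ψ, hψ⟩ : ∃ ψ : Γ(K.left, O) →+* Γ(Y.left, V), ψ = (k.left.appLE O V hle).hom :=
    ⟨_, rfl⟩
  have hpt : ptW hO ψ = hVa.fromSpec ≫ k.left := by
    have := ptW_comp hVa k.left hO hle (RingHom.id _)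
    rw [RingHom.id_comp, ← hψ] at this
    rw [← this]
    unfold ptW
    rw [show CommRingCat.ofHom (RingHom.id Γ(Y.left, V)) = 𝟙 _ from rfl, Spec.map_id,
      Category.id_comp]
  have htriv : thetaG M c hO (MonoidAlgebra Γ(Y.left, V) (Multiplicative M))
      ((MonoidAlgebra.singleOneRingHom :
        Γ(Y.left, V) →+* MonoidAlgebra Γ(Y.left, V) (Multiplicative M)).comp ψ)
      (MonoidAlgebra.of Γ(Y.left, V) (Multiplicative M)) =
        MonoidAlgebra.of Γ(Y.left, V) (Multiplicative M) := by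
    obtain ⟨ψ', hψ'⟩ : ∃ ψ' : Γ(K.left, O) →+* MonoidAlgebra Γ(Y.left, V) (Multiplicative M),
        ψ' = (MonoidAlgebra.singleOneRingHom).comp ψ := ⟨_, rfl⟩
    rw [← hψ']
    apply gOf_injective M (ptW hO ψ' ≫ K.hom)
    rw [← thetaG_spec M c hO ψ' _ _ (kOf hO ψ') rfl]
    have hfac : ptW hO ψ' = (Spec.map (CommRingCat.ofHom
        (MonoidAlgebra.singleOneRingHom :
          Γ(Y.left, V) →+* MonoidAlgebra Γ(Y.left, V) (Multiplicative M))) ≫ hVa.fromSpec) ≫
        k.left := by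
      rw [hψ', ← specMap_comp_ptW, hpt, Category.assoc]
    obtain ⟨x, hx⟩ : ∃ x : Over.mk (ptW hO ψ' ≫ K.hom) ⟶ Y,
        x.left = Spec.map (CommRingCat.ofHom
        (MonoidAlgebra.singleOneRingHom :
          Γ(Y.left, V) →+* MonoidAlgebra Γ(Y.left, V) (Multiplicative M))) ≫ hVa.fromSpec := by
      refine ⟨Over.homMk _ ?_, rfl⟩
      show _ ≫ Y.hom = ptW hO ψ' ≫ K.hom
      rw [hfac, Category.assoc, Category.assoc, Category.assoc, Over.w k]
    have hk1 : kOf hO ψ' = x ≫ k := by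
      apply Over.OverMorphism.ext
      rw [Over.comp_left, hx]
      exact hfac
    rw [hk1, hk]
  have he1 : ψ (eOf M c hO m) = 1 := by
    have := map_coeff_of_trivial (θ := thetaG M c hO) (thetaG_nat M c hO) Γ(Y.left, V) ψ htriv m m
    rw [if_pos rfl] at this
    exact this
  rw [mem_Aset_iff M c hO m _ htO]
  have hb := Y.left.basicOpen_appLE k.left V O hle (eOf M c hO m)
  rw [show (k.left.appLE O V hle) (eOf M c hO m) = ψ (eOf M c hO m) by rw [hψ], he1,
    Scheme.basicOpen_one] at hb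
  have : y ∈ V ⊓ k.left ⁻¹ᵁ K.left.basicOpen (eOf M c hO m) := by rw [← hb]; exact huV
  exact this.2

include hmul in
/-- finite intersections of the loci are open and closed. -/
lemma isClopen_biInter_Aset (F : Finset (Multiplicative M)) :
    IsClopen (⋂ m ∈ F, Aset M c m) :=
  isClopen_biInter_finset (fun m _ => isClopen_Aset M c hmul m)

end Fix

end Groth.Agent.Lib.Helper15GrpLikeFix
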