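-- helper15: natural transformations between character functors of two groups (orthogonal idempotents; classification at points)
import Mathlib
import Groth.Agent.Lib.Helper15GrpLikeAlg
set_option autoImplicit false
universe u
open MonoidAlgebra

namespace Groth.Agent.Lib.Helper15TwoGrpAlg

open Groth.Agent.Lib.Helper15DiagRigidAlg Groth.Agent.Lib.Helper15GrpLikeAlg

section main

variable {B : Type u} [CommRing B] {N₁ N₂ : Type} [CommGroup N₁] [CommGroup N₂]
  (θ : ∀ (C : Type u) [CommRing C], (B →+* C) → (N₁ →* C) → (N₂ →* C))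

/-- the universal value of a natural transformation between character functors. -/
noncomputable def bOf (m : N₂) : MonoidAlgebra B N₁ :=
  θ (MonoidAlgebra B N₁) singleOneRingHom (of B N₁) m

variable {θ}
  (nat : ∀ (C C' : Type u) [CommRing C] [CommRing C'] (ψ' : C →+* C') (ψ : B →+* C) (χ : N₁ →* C),
      θ C' (ψ'.comp ψ) ((ψ' : C →* C').comp χ) = (ψ' : C →* C').comp (θ C ψ χ))

include nat in
/-- the general formula. -/
lemma theta_eq (C : Type u) [CommRing C] (ψ : B →+* C) (χ : N₁ →* C) (m : N₂) :
    θ C ψ χ m = liftNCRingHom ψ χ (fun _ _ => Commute.all _ _) (bOf θ m) := by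
  have h1 : (liftNCRingHom ψ χ (fun _ _ => Commute.all _ _)).comp
      (singleOneRingHom : B →+* MonoidAlgebra B N₁) = ψ := by
    ext a
    rw [RingHom.comp_apply]
    change liftNCRingHom ψ χ (fun _ _ => Commute.all _ _) (single 1 a) = ψ a
    rw [liftNCRingHom_single, map_one, mul_one]
  have h2 : ((liftNCRingHom ψ χ (fun _ _ => Commute.all _ _) :
      MonoidAlgebra B N₁ →+* C) : MonoidAlgebra B N₁ →* C).comp (of B N₁) = χ := by
    ext n
    rw [MonoidHom.comp_apply, of_apply]
    change liftNCRingHom ψ χ (fun _ _ => Commute.all _ _) (single n 1) = χ n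
    rw [liftNCRingHom_single, map_one, one_mul]
  have := nat (MonoidAlgebra B N₁) C (liftNCRingHom ψ χ (fun _ _ => Commute.all _ _))
    singleOneRingHom (of B N₁)
  rw [h1, h2] at this
  rw [this]
  rfl

variable (mul : ∀ (C : Type u) [CommRing C] (ψ : B →+* C) (χ χ' : N₁ →* C),
      θ C ψ (χ * χ') = θ C ψ χ * θ C ψ χ')

include nat mul in
/-- the coefficients of the universal value are orthogonal idempotents. -/
lemma coeff_bOf_mul (m : N₂) (n n' : N₁) [DecidableEq N₁] :
    (bOf θ m).coeff n * (bOf θ m).coeff n' = if n = n' then (bOf θ m).coeff n else 0 := by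
  have h := mul (MonoidAlgebra B (N₁ × N₁)) singleOneRingHom
    ((of B (N₁ × N₁)).comp (MonoidHom.inl N₁ N₁)) ((of B (N₁ × N₁)).comp (MonoidHom.inr N₁ N₁))
  have h' := congrArg (fun f : N₂ →* MonoidAlgebra B (N₁ × N₁) => (f m).coeff (n, n')) h
  simp only [MonoidHom.mul_apply] at h'
  rw [theta_eq nat, theta_eq nat, theta_eq nat, coeff_liftNC_diag, coeff_inl_mul_inr] at h'
  exact h'.symm

include nat in
/-- the coefficients of the value at the universal character over a point. -/
lemma coeff_theta_universal (C : Type u) [CommRing C] (ψ : B →+* C) (m : N₂) (n : N₁) :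
    (θ (MonoidAlgebra C N₁) ((singleOneRingHom : C →+* MonoidAlgebra C N₁).comp ψ)
      (of C N₁) m).coeff n = ψ ((bOf θ m).coeff n) := by
  classical
  rw [theta_eq nat, coeff_liftNC_comp]

include nat in
/-- the image of the coefficients under a point at which the universal value is a character. -/
lemma map_coeff_of_theta_univ (C : Type u) [CommRing C] (ψ : B →+* C) (m : N₂) (n₀ : N₁)
    (h : θ (MonoidAlgebra C N₁) ((singleOneRingHom : C →+* MonoidAlgebra C N₁).comp ψ)
      (of C N₁) m = of C N₁ n₀) (n : N₁) [DecidableEq N₁] :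
    ψ ((bOf θ m).coeff n) = if n₀ = n then 1 else 0 := by
  rw [← coeff_theta_universal nat, h, of_apply, coeff_single, Finsupp.single_apply]

include nat mul in
/-- at a point where a coefficient is one, the universal value is the corresponding
character. -/
lemma theta_univ_apply_of_map_coeff (C : Type u) [CommRing C] (ψ : B →+* C) (m : N₂) (n₀ : N₁)
    (h : ψ ((bOf θ m).coeff n₀) = 1) :
    θ (MonoidAlgebra C N₁) ((singleOneRingHom : C →+* MonoidAlgebra C N₁).comp ψ) (of C N₁) m =
      of C N₁ n₀ := by
  classical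
  ext n
  rw [coeff_theta_universal nat, of_apply, coeff_single, Finsupp.single_apply]
  by_cases hn : n₀ = n
  · subst hn
    rw [if_pos rfl, h]
  · rw [if_neg hn]
    have h0 := coeff_bOf_mul nat mul m n n₀
    rw [if_neg (Ne.symm hn)] at h0
    have := congrArg ψ h0
    rw [map_mul, h, mul_one, map_zero] at this
    exact this

include nat in
/-- if the universal value over a point is given by a homomorphism of character groups, so is the
transformation at that point. -/
lemma theta_eq_comp_of_theta_univ (φ : N₂ →* N₁) (C : Type u) [CommRing C] (ψ : B →+* C)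
    (h : θ (MonoidAlgebra C N₁) ((singleOneRingHom : C →+* MonoidAlgebra C N₁).comp ψ) (of C N₁) =
      (of C N₁).comp φ) (χ : N₁ →* C) : θ C ψ χ = χ.comp φ := by
  obtain ⟨L, hL⟩ : ∃ L : MonoidAlgebra C N₁ →+* C,
      L = liftNCRingHom (RingHom.id C) χ (fun _ _ => Commute.all _ _) := ⟨_, rfl⟩
  have h1 : L.comp ((singleOneRingHom : C →+* MonoidAlgebra C N₁).comp ψ) = ψ := by
    ext a
    rw [RingHom.comp_apply, RingHom.comp_apply, hL]
    change liftNCRingHom (RingHom.id C) χ (fun _ _ => Commute.all _ _) (single 1 (ψ a)) = ψ a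
    rw [liftNCRingHom_single, map_one, mul_one, RingHom.id_apply]
  have h2 : (L : MonoidAlgebra C N₁ →* C).comp (of C N₁) = χ := by
    ext n
    rw [MonoidHom.comp_apply, of_apply, hL]
    change liftNCRingHom (RingHom.id C) χ (fun _ _ => Commute.all _ _) (single n 1) = χ n
    rw [liftNCRingHom_single, map_one, one_mul]
  have := nat (MonoidAlgebra C N₁) C L ((singleOneRingHom : C →+* MonoidAlgebra C N₁).comp ψ)
    (of C N₁)
  rw [h1, h2, h, ← MonoidHom.comp_assoc, h2] at this
  exact this

include nat mul in
/-- **if the coefficients prescribed by a homomorphism of character groups map to one at a point,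
for a generating set, the transformation is given by that homomorphism at that point.** -/
theorem theta_eq_comp_of_gens (φ : N₂ →* N₁) (s : Set N₂) (hs : Subgroup.closure s = ⊤)
    (C : Type u) [CommRing C] (ψ : B →+* C)
    (h : ∀ m ∈ s, ψ ((bOf θ m).coeff (φ m)) = 1) (χ : N₁ →* C) : θ C ψ χ = χ.comp φ := by
  refine theta_eq_comp_of_theta_univ nat φ C ψ ?_ χ
  refine MonoidHom.eq_of_eqOn_dense hs ?_
  intro m hm
  rw [MonoidHom.comp_apply]
  exact theta_univ_apply_of_map_coeff nat mul C ψ m (φ m) (h m hm)

include mul in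
/-- the value at the trivial character is trivial. -/
lemma theta_one (C : Type u) [CommRing C] (ψ : B →+* C) : θ C ψ 1 = 1 := by
  have h := mul C ψ 1 1
  rw [one_mul] at h
  ext m
  have h1 := congrArg (fun f : N₂ →* C => f m) h
  simp only [MonoidHom.mul_apply] at h1
  have hu : IsUnit (θ C ψ 1 m) := by
    refine ⟨⟨θ C ψ 1 m, θ C ψ 1 m⁻¹, ?_, ?_⟩, rfl⟩
    · rw [← map_mul, mul_inv_cancel, map_one]
    · rw [← map_mul, inv_mul_cancel, map_one]
  rw [MonoidHom.one_apply]
  obtain ⟨v, hv⟩ := hu
  rw [← hv] at h1 ⊢
  calc (v : C) = ↑v⁻¹ * (↑v * ↑v) := by rw [← mul_assoc, Units.inv_mul, one_mul]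
    _ = 1 := by rw [← h1, Units.inv_mul]

include nat mul in
/-- the coefficients of the universal value sum to one. -/
lemma sum_coeff_bOf (m : N₂) : ((bOf θ m).coeff).sum (fun _ b => b) = 1 := by
  have h := theta_eq nat B (RingHom.id B) 1 m
  rw [theta_one mul, MonoidHom.one_apply] at h
  rw [h]
  induction (bOf θ m) using MonoidAlgebra.induction_linear with
  | zero => simp
  | add x y hx hy =>
    rw [map_add, ← hx, ← hy, coeff_add, Finsupp.sum_add_index' (fun _ => rfl) (fun _ _ _ => rfl)]
  | single a b =>
    rw [liftNCRingHom_single, MonoidHom.one_apply, mul_one, RingHom.id_apply, coeff_single,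
      Finsupp.sum_single_index rfl]

include nat mul in
/-- **at a point with values in a ring without non-trivial idempotents, the transformation is
given by a homomorphism of character groups.** -/
theorem exists_hom_of_idem (C : Type u) [CommRing C] [Nontrivial C]
    (hC : ∀ e : C, e * e = e → e = 0 ∨ e = 1) (ψ : B →+* C) :
    ∃ φ : N₂ →* N₁,
      θ (MonoidAlgebra C N₁) ((singleOneRingHom : C →+* MonoidAlgebra C N₁).comp ψ) (of C N₁) =
        (of C N₁).comp φ := by
  classical
  have hex : ∀ m : N₂, ∃ n : N₁, ψ ((bOf θ m).coeff n) = 1 := by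
    intro m
    by_contra hne
    push Not at hne
    have h0 : ∀ n, ψ ((bOf θ m).coeff n) = 0 := by
      intro n
      have hid : ψ ((bOf θ m).coeff n) * ψ ((bOf θ m).coeff n) = ψ ((bOf θ m).coeff n) := by
        have := coeff_bOf_mul nat mul m n n
        rw [if_pos rfl] at this
        rw [← map_mul, this]
      rcases hC _ hid with h | h
      · exact h
      · exact absurd h (hne n)
    have hs := congrArg ψ (sum_coeff_bOf nat mul m)
    rw [map_one, Finsupp.sum, map_sum] at hs
    rw [Finset.sum_eq_zero (fun n _ => h0 n)] at hs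
    exact zero_ne_one hs
  choose f hf using hex
  have hΘ : ∀ m, θ (MonoidAlgebra C N₁) ((singleOneRingHom : C →+* MonoidAlgebra C N₁).comp ψ)
      (of C N₁) m = of C N₁ (f m) :=
    fun m => theta_univ_apply_of_map_coeff nat mul C ψ m (f m) (hf m)
  have hinj : Function.Injective (of C N₁) := of_injective
  refine ⟨⟨⟨f, ?_⟩, ?_⟩, ?_⟩
  · apply hinj
    rw [← hΘ, map_one, map_one]
  · intro m m'
    apply hinj
    rw [← hΘ, map_mul, map_mul, hΘ, hΘ]
  · ext1 m
    rw [hΘ]
    rfl

end main

end Groth.Agent.Lib.Helper15TwoGrpAlg
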