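-- helper15: families of homomorphisms between two diagonalisable groups: idempotent charts, clopen loci, partition by homomorphisms of character groups
import Mathlib
import Groth.Agent.Lib.Helper15GrpLikeFix
import Groth.Agent.Lib.Helper15TwoGrpAlg
set_option autoImplicit false
universe u
open CategoryTheory CategoryTheory.Limits AlgebraicGeometry MonoidalCategory CartesianMonoidalCategory
  MonObj GrpObj

namespace Groth.Agent.Lib.Helper15TwoGrp

open Groth.Agent.Lib.Helper15DiagRigid Groth.Agent.Lib.Helper15TwoGrpAlg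
open Groth.Agent.Lib.Helper15GrpLike Groth.Agent.Lib.Helper15GrpLikeFix
open Groth.Agent.Lib.Helper11MultGa Groth.Agent.Lib.Helper27.GaGm

section Chart

variable {U : Scheme.{u}} {K : Over U} (M₁ M₂ : Type) [AddCommGroup M₁] [AddCommGroup M₂]
  (c : K ⊗ Red.DS U M₁ ⟶ Red.DS U M₂)
  {O : K.left.Opens} (hO : IsAffineOpen O)

/-- the transformation of character functors induced by a family of homomorphisms between
diagonalisable groups parametrised by `K`. -/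
noncomputable def thetaG (C : Type u) [CommRing C] (ψ : Γ(K.left, O) →+* C)
    (χ : Multiplicative M₁ →* C) : Multiplicative M₂ →* C :=
  (exists_gOf M₂ _ (lift (kOf hO ψ) (gOf M₁ (ptW hO ψ ≫ K.hom) χ) ≫ c)).choose

lemma thetaG_spec {C : Type u} [CommRing C] (ψ : Γ(K.left, O) →+* C)
    (χ : Multiplicative M₁ →* C) (σ : Spec (CommRingCat.of C) ⟶ U) (k : Over.mk σ ⟶ K)
    (hk : k.left = ptW hO ψ) :
    lift k (gOf M₁ σ χ) ≫ c = gOf M₂ σ (thetaG M₁ M₂ c hO C ψ χ) := by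
  have hσ : σ = ptW hO ψ ≫ K.hom := by
    rw [← hk]
    exact (Over.w k).symm
  subst hσ
  have hkk : k = kOf hO ψ := by
    apply Over.OverMorphism.ext
    rw [hk]
    rfl
  rw [hkk]
  exact (exists_gOf M₂ _ (lift (kOf hO ψ) (gOf M₁ (ptW hO ψ ≫ K.hom) χ) ≫ c)).choose_spec

lemma thetaG_nat (C C' : Type u) [CommRing C] [CommRing C'] (ψ' : C →+* C')
    (ψ : Γ(K.left, O) →+* C) (χ : Multiplicative M₁ →* C) :
    thetaG M₁ M₂ c hO C' (ψ'.comp ψ) ((ψ' : C →* C').comp χ) =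
      (ψ' : C →* C').comp (thetaG M₁ M₂ c hO C ψ χ) := by
  obtain ⟨σ, hσ⟩ : ∃ σ : Spec (CommRingCat.of C) ⟶ U, σ = ptW hO ψ ≫ K.hom := ⟨_, rfl⟩
  obtain ⟨σ', hσ'⟩ : ∃ σ' : Spec (CommRingCat.of C') ⟶ U,
      σ' = Spec.map (CommRingCat.ofHom ψ') ≫ σ := ⟨_, rfl⟩
  obtain ⟨k, hk⟩ : ∃ k : Over.mk σ ⟶ K, k.left = ptW hO ψ :=
    ⟨Over.homMk (ptW hO ψ) hσ.symm, rfl⟩
  obtain ⟨j, hj⟩ : ∃ j : Over.mk σ' ⟶ Over.mk σ, j.left = Spec.map (CommRingCat.ofHom ψ') :=
    ⟨Over.homMk (Spec.map (CommRingCat.ofHom ψ')) hσ'.symm, rfl⟩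
  have hg : ∀ (M : Type) [AddCommGroup M] (χ₀ : Multiplicative M →* C),
      j ≫ gOf M σ χ₀ = gOf M σ' ((ψ' : C →* C').comp χ₀) := by
    intro M _ χ₀
    rw [← gOf_comp M ψ' σ σ' hσ'.symm χ₀]
    congr 1
    apply Over.OverMorphism.ext
    rw [hj]
    rfl
  have hjk : (j ≫ k).left = ptW hO (ψ'.comp ψ) := by
    rw [Over.comp_left, hj, hk, specMap_comp_ptW]
  apply gOf_injective M₂ σ'
  rw [← thetaG_spec M₁ M₂ c hO (ψ'.comp ψ) _ σ' (j ≫ k) hjk, ← hg, ← comp_lift_assoc,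
    thetaG_spec M₁ M₂ c hO ψ χ σ k hk, hg]

variable (hmul : ∀ (Y : Over U) (k : Y ⟶ K) (h h' : Y ⟶ Red.DS U M₁),
    lift k (h * h') ≫ c = (lift k h ≫ c) * (lift k h' ≫ c))

include hmul in
lemma thetaG_mul (C : Type u) [CommRing C] (ψ : Γ(K.left, O) →+* C)
    (χ χ' : Multiplicative M₁ →* C) :
    thetaG M₁ M₂ c hO C ψ (χ * χ') =
      thetaG M₁ M₂ c hO C ψ χ * thetaG M₁ M₂ c hO C ψ χ' := by
  apply gOf_injective M₂ (ptW hO ψ ≫ K.hom)
  rw [← thetaG_spec M₁ M₂ c hO ψ _ _ (kOf hO ψ) rfl, ← gOf_mul, hmul,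
    thetaG_spec M₁ M₂ c hO ψ χ _ (kOf hO ψ) rfl, thetaG_spec M₁ M₂ c hO ψ χ' _ (kOf hO ψ) rfl,
    gOf_mul]

/-- the coefficients: idempotent functions on the affine open. -/
noncomputable def eOf (m : Multiplicative M₂) (n : Multiplicative M₁) : Γ(K.left, O) :=
  (bOf (thetaG M₁ M₂ c hO) m).coeff n

include hmul in
lemma eOf_mul_self (m : Multiplicative M₂) (n : Multiplicative M₁) :
    eOf M₁ M₂ c hO m n * eOf M₁ M₂ c hO m n = eOf M₁ M₂ c hO m n := by
  classical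
  have := coeff_bOf_mul (θ := thetaG M₁ M₂ c hO) (thetaG_nat M₁ M₂ c hO)
    (thetaG_mul M₁ M₂ c hO hmul) m n n
  rw [if_pos rfl] at this
  exact this

end Chart


section Compat

variable {U : Scheme.{u}} {K : Over U} (M₁ M₂ : Type) [AddCommGroup M₁] [AddCommGroup M₂]
  (c : K ⊗ Red.DS U M₁ ⟶ Red.DS U M₂)
  {O O' : K.left.Opens} (hO : IsAffineOpen O) (hO' : IsAffineOpen O') (hle : O' ≤ O)

lemma thetaG_of_le (C : Type u) [CommRing C] (ψ' : Γ(K.left, O') →+* C)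
    (χ : Multiplicative M₁ →* C) :
    thetaG M₁ M₂ c hO' C ψ' χ =
      thetaG M₁ M₂ c hO C (ψ'.comp (K.left.presheaf.map (homOfLE hle).op).hom) χ := by
  apply gOf_injective M₂ (ptW hO' ψ' ≫ K.hom)
  rw [← thetaG_spec M₁ M₂ c hO' ψ' χ _ (kOf hO' ψ') rfl]
  exact thetaG_spec M₁ M₂ c hO _ χ _ (kOf hO' ψ') (ptW_of_le hO hO' hle ψ')

lemma eOf_of_le (m : Multiplicative M₂) (n : Multiplicative M₁) :
    eOf M₁ M₂ c hO' m n = (K.left.presheaf.map (homOfLE hle).op).hom (eOf M₁ M₂ c hO m n) := by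
  unfold eOf
  rw [← coeff_theta_universal (θ := thetaG M₁ M₂ c hO) (thetaG_nat M₁ M₂ c hO)]
  unfold bOf
  rw [thetaG_of_le M₁ M₂ c hO hO' hle]

end Compat


section Locus

variable {U : Scheme.{u}} {K : Over U} (M₁ M₂ : Type) [AddCommGroup M₁] [AddCommGroup M₂]
  (c : K ⊗ Red.DS U M₁ ⟶ Red.DS U M₂)

/-- the locus of `K` over which the family of homomorphisms sends the character `m` of the target
to the character `n` of the source. -/
def Aset (m : Multiplicative M₂) (n : Multiplicative M₁) : Set K.left :=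
  {t | ∃ (O : K.left.Opens) (hO : IsAffineOpen O), t ∈ K.left.basicOpen (eOf M₁ M₂ c hO m n)}

lemma mem_basicOpen_eOf_of_le {O O' : K.left.Opens} (hO : IsAffineOpen O)
    (hO' : IsAffineOpen O') (hle : O' ≤ O) (m : Multiplicative M₂) (n : Multiplicative M₁)
    (t : K.left) (ht : t ∈ O') :
    t ∈ K.left.basicOpen (eOf M₁ M₂ c hO' m n) ↔ t ∈ K.left.basicOpen (eOf M₁ M₂ c hO m n) := by
  rw [eOf_of_le M₁ M₂ c hO hO' hle]
  have := K.left.basicOpen_res (eOf M₁ M₂ c hO m n) (homOfLE hle).op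
  rw [show K.left.basicOpen ((K.left.presheaf.map (homOfLE hle).op).hom (eOf M₁ M₂ c hO m n)) =
    O' ⊓ K.left.basicOpen (eOf M₁ M₂ c hO m n) from this]
  exact ⟨fun h => h.2, fun h => ⟨ht, h⟩⟩

lemma mem_basicOpen_eOf_iff {O O₂ : K.left.Opens} (hO : IsAffineOpen O)
    (hO₂ : IsAffineOpen O₂) (m : Multiplicative M₂) (n : Multiplicative M₁) (t : K.left)
    (ht : t ∈ O) (ht₂ : t ∈ O₂) :
    t ∈ K.left.basicOpen (eOf M₁ M₂ c hO m n) ↔ t ∈ K.left.basicOpen (eOf M₁ M₂ c hO₂ m n) := by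
  have ht' : t ∈ O ⊓ O₂ := ⟨ht, ht₂⟩
  obtain ⟨O₃, hO₃, ht₃, hle⟩ := TopologicalSpace.Opens.isBasis_iff_nbhd.mp
    K.left.isBasis_affineOpens ht'
  have hO₃a : IsAffineOpen O₃ := hO₃
  rw [← mem_basicOpen_eOf_of_le M₁ M₂ c hO hO₃a (hle.trans inf_le_left) m n t ht₃,
    ← mem_basicOpen_eOf_of_le M₁ M₂ c hO₂ hO₃a (hle.trans inf_le_right) m n t ht₃]

lemma mem_Aset_iff {O : K.left.Opens} (hO : IsAffineOpen O) (m : Multiplicative M₂)
    (n : Multiplicative M₁) (t : K.left) (ht : t ∈ O) :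
    t ∈ Aset M₁ M₂ c m n ↔ t ∈ K.left.basicOpen (eOf M₁ M₂ c hO m n) := by
  constructor
  · rintro ⟨O₂, hO₂, h⟩
    exact (mem_basicOpen_eOf_iff M₁ M₂ c hO₂ hO m n t (K.left.basicOpen_le _ h) ht).mp h
  · intro h
    exact ⟨O, hO, h⟩

variable (hmul : ∀ (Y : Over U) (k : Y ⟶ K) (h h' : Y ⟶ Red.DS U M₁),
    lift k (h * h') ≫ c = (lift k h ≫ c) * (lift k h' ≫ c))

include hmul in
lemma isClopen_Aset (m : Multiplicative M₂) (n : Multiplicative M₁) :
    IsClopen (Aset M₁ M₂ c m n) := by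
  constructor
  · rw [← isOpen_compl_iff, isOpen_iff_forall_mem_open]
    intro t ht
    obtain ⟨O, hO, htO⟩ := exists_affine_nhd (t := t)
    obtain ⟨e, he⟩ : ∃ e, e = eOf M₁ M₂ c hO m n := ⟨_, rfl⟩
    have hee : e * e = e := by rw [he]; exact eOf_mul_self M₁ M₂ c hO hmul m n
    refine ⟨K.left.basicOpen (1 - e), ?_, (K.left.basicOpen (1 - e)).isOpen, ?_⟩
    · intro t' ht' hA
      have ht'O : t' ∈ O := K.left.basicOpen_le _ ht'
      rw [mem_Aset_iff M₁ M₂ c hO m n t' ht'O, ← he] at hA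
      have h1 : t' ∈ K.left.basicOpen (e * (1 - e)) := by
        rw [Scheme.basicOpen_mul]
        exact ⟨hA, ht'⟩
      rw [show e * (1 - e) = 0 by rw [mul_sub, _root_.mul_one, hee, sub_self],
        Scheme.basicOpen_zero] at h1
      exact h1
    · have h1 : t ∈ K.left.basicOpen (e + (1 - e)) := by
        rw [show e + (1 - e) = 1 by ring, Scheme.basicOpen_one]
        exact htO
      have h2 := K.left.basicOpen_add_le e (1 - e) h1
      rcases h2 with h2 | h2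
      · exfalso
        apply ht
        rw [mem_Aset_iff M₁ M₂ c hO m n t htO, ← he]
        exact h2
      · exact h2
  · rw [isOpen_iff_forall_mem_open]
    rintro t ⟨O, hO, h⟩
    exact ⟨K.left.basicOpen (eOf M₁ M₂ c hO m n), fun t' ht' => ⟨O, hO, ht'⟩,
      (K.left.basicOpen _).isOpen, h⟩

include hmul in
/-- every point lies in the loci prescribed by some homomorphism of character groups. -/
theorem exists_hom_forall_mem_Aset (t : K.left) :
    ∃ φ : Multiplicative M₂ →* Multiplicative M₁, ∀ m, t ∈ Aset M₁ M₂ c m (φ m) := by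
  classical
  obtain ⟨O, hO, htO⟩ := exists_affine_nhd (t := t)
  obtain ⟨ψ, hψ⟩ : ∃ ψ : Γ(K.left, O) →+* K.left.residueField t,
      ψ = (K.left.evaluation O t htO).hom := ⟨_, rfl⟩
  obtain ⟨φ, hφ⟩ := exists_hom_of_idem (θ := thetaG M₁ M₂ c hO) (thetaG_nat M₁ M₂ c hO)
    (thetaG_mul M₁ M₂ c hO hmul) (K.left.residueField t) (fun e he => by
      rcases eq_or_ne e 0 with h0 | h0
      · exact Or.inl h0
      · right
        have : e * (e - 1) = 0 := by rw [mul_sub, he, _root_.mul_one, sub_self]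
        rcases mul_eq_zero.mp this with h | h
        · exact absurd h h0
        · exact sub_eq_zero.mp h) ψ
  refine ⟨φ, fun m => ?_⟩
  rw [mem_Aset_iff M₁ M₂ c hO m (φ m) t htO]
  have h1 := map_coeff_of_theta_univ (θ := thetaG M₁ M₂ c hO) (thetaG_nat M₁ M₂ c hO)
    (K.left.residueField t) ψ m (φ m) (by rw [hφ]; rfl) (φ m)
  rw [if_pos rfl] at h1
  rw [← Scheme.evaluation_ne_zero_iff_mem_basicOpen K.left t htO]
  have h2 : (K.left.evaluation O t htO) (eOf M₁ M₂ c hO m (φ m)) = 1 := by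
    rw [← h1, hψ]
    rfl
  rw [h2]
  exact one_ne_zero

include hmul in
/-- the loci attached to distinct characters of the source are disjoint. -/
lemma Aset_disjoint (m : Multiplicative M₂) {n n' : Multiplicative M₁} (hn : n ≠ n')
    (t : K.left) (h : t ∈ Aset M₁ M₂ c m n) (h' : t ∈ Aset M₁ M₂ c m n') : False := by
  classical
  obtain ⟨O, hO, htO⟩ := exists_affine_nhd (t := t)
  rw [mem_Aset_iff M₁ M₂ c hO m n t htO] at h
  rw [mem_Aset_iff M₁ M₂ c hO m n' t htO] at h'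
  have h1 : t ∈ K.left.basicOpen (eOf M₁ M₂ c hO m n * eOf M₁ M₂ c hO m n') := by
    rw [Scheme.basicOpen_mul]
    exact ⟨h, h'⟩
  have h0 := coeff_bOf_mul (θ := thetaG M₁ M₂ c hO) (thetaG_nat M₁ M₂ c hO)
    (thetaG_mul M₁ M₂ c hO hmul) m n n'
  rw [if_neg hn] at h0
  unfold eOf at h1
  rw [h0, Scheme.basicOpen_zero] at h1
  exact h1

end Locus

end Groth.Agent.Lib.Helper15TwoGrp
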