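-- helper15: points in the loci prescribed by a homomorphism of character groups <=> family equals the attached homomorphism (two diagonalisable groups)
import Mathlib
import Groth.Agent.Lib.Helper15TwoGrp
set_option autoImplicit false
universe u
open CategoryTheory CategoryTheory.Limits AlgebraicGeometry MonoidalCategory CartesianMonoidalCategory
  MonObj GrpObj

namespace Groth.Agent.Lib.Helper15TwoGrpFix

open Groth.Agent.Lib.Helper15DiagRigid Groth.Agent.Lib.Helper15TwoGrpAlg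
open Groth.Agent.Lib.Helper15GrpLike Groth.Agent.Lib.Helper15GrpLikeFix
open Groth.Agent.Lib.Helper15TwoGrp
open Groth.Agent.Lib.Helper11MultGa Groth.Agent.Lib.Helper27.GaGm

section Fix

variable {U : Scheme.{u}} {K : Over U} (M₁ M₂ : Type) [AddCommGroup M₁] [AddCommGroup M₂]
  (c : K ⊗ Red.DS U M₁ ⟶ Red.DS U M₂)
  (hmul : ∀ (Y : Over U) (k : Y ⟶ K) (h h' : Y ⟶ Red.DS U M₁),
    lift k (h * h') ≫ c = (lift k h ≫ c) * (lift k h' ≫ c))

include hmul in
/-- along a ring-valued point lying in a locus, the corresponding idempotent maps to one. -/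
lemma map_eOf_eq_one {O : K.left.Opens} (hO : IsAffineOpen O) {C : Type u} [CommRing C]
    (ψ : Γ(K.left, O) →+* C) (m : Multiplicative M₂) (n : Multiplicative M₁)
    (h : ∀ t, ptW hO ψ t ∈ Aset M₁ M₂ c m n) : ψ (eOf M₁ M₂ c hO m n) = 1 := by
  have hunit : IsUnit (ψ (eOf M₁ M₂ c hO m n)) := by
    apply isUnit_of_ptW_mem_basicOpen hO
    intro t
    exact (mem_Aset_iff M₁ M₂ c hO m n _ (ptW_mem hO ψ t)).mp (h t)
  have hee : ψ (eOf M₁ M₂ c hO m n) * ψ (eOf M₁ M₂ c hO m n) = ψ (eOf M₁ M₂ c hO m n) := by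
    rw [← map_mul, eOf_mul_self M₁ M₂ c hO hmul m n]
  obtain ⟨v, hv⟩ := hunit
  rw [← hv] at hee ⊢
  calc (v : C) = ↑v⁻¹ * (↑v * ↑v) := by rw [← _root_.mul_assoc, Units.inv_mul, _root_.one_mul]
    _ = 1 := by rw [hee, Units.inv_mul]

variable (φ : Multiplicative M₂ →* Multiplicative M₁) (d : Red.DS U M₁ ⟶ Red.DS U M₂)
  (hd : ∀ (C : Type u) [CommRing C] (σ : Spec (CommRingCat.of C) ⟶ U)
    (χ : Multiplicative M₁ →* C), gOf M₁ σ χ ≫ d = gOf M₂ σ (χ.comp φ))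
  (s : Set (Multiplicative M₂)) (hs : Subgroup.closure s = ⊤)

include hmul hd hs in
lemma comp_eq_of_affine_of_mem {O : K.left.Opens} (hO : IsAffineOpen O) {C : Type u} [CommRing C]
    (σ : Spec (CommRingCat.of C) ⟶ U) (k : Over.mk σ ⟶ K) (h : Over.mk σ ⟶ Red.DS U M₁)
    (hk : ∀ t, k.left t ∈ O) (hkA : ∀ t, ∀ m ∈ s, k.left t ∈ Aset M₁ M₂ c m (φ m)) :
    lift k h ≫ c = h ≫ d := by
  obtain ⟨χ, rfl⟩ := exists_gOf M₁ σ h
  obtain ⟨ψ, hψ⟩ := exists_eq_ptW hO k.left hk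
  rw [thetaG_spec M₁ M₂ c hO ψ χ σ k hψ, hd]
  congr 1
  refine theta_eq_comp_of_gens (θ := thetaG M₁ M₂ c hO) (thetaG_nat M₁ M₂ c hO)
    (thetaG_mul M₁ M₂ c hO hmul) φ s hs C ψ ?_ χ
  intro m hm
  refine map_eOf_eq_one M₁ M₂ c hmul hO ψ m (φ m) ?_
  intro t
  rw [← hψ]
  exact hkA t m hm

include hmul hd hs in
/-- **a point lying in the loci prescribed by a homomorphism `φ` of character groups, for a
generating set, is sent by the family to the homomorphism of groups attached to `φ`.** -/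
theorem comp_eq_of_forall_mem_Aset (Y : Over U) (k : Y ⟶ K)
    (hkA : ∀ y, ∀ m ∈ s, k.left y ∈ Aset M₁ M₂ c m (φ m)) (h : Y ⟶ Red.DS U M₁) :
    lift k h ≫ c = h ≫ d := by
  apply Over.OverMorphism.ext
  apply Scheme.hom_ext_of_forall
  intro y
  obtain ⟨O, hO, hyO⟩ := exists_affine_nhd (k.left y)
  have hyO' : y ∈ k.left ⁻¹ᵁ O := hyO
  obtain ⟨O', hO', hyO'', hle⟩ := TopologicalSpace.Opens.isBasis_iff_nbhd.mp
    Y.left.isBasis_affineOpens hyO'
  refine ⟨O', hyO'', ?_⟩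
  have hOa : IsAffineOpen O' := hO'
  rw [← cancel_epi hOa.isoSpec.inv, IsAffineOpen.isoSpec_inv_ι_assoc,
    IsAffineOpen.isoSpec_inv_ι_assoc]
  obtain ⟨j, hj⟩ : ∃ j : Over.mk (hOa.fromSpec ≫ Y.hom) ⟶ Y, j.left = hOa.fromSpec :=
    ⟨Over.homMk hOa.fromSpec rfl, rfl⟩
  have key := comp_eq_of_affine_of_mem M₁ M₂ c hmul φ d hd s hs hO (hOa.fromSpec ≫ Y.hom)
    (j ≫ k) (j ≫ h) (by
    intro t
    rw [Over.comp_left, hj, Scheme.Hom.comp_apply]
    apply hle
    have : hOa.fromSpec t ∈ Set.range hOa.fromSpec := ⟨_, rfl⟩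
    rw [hOa.range_fromSpec] at this
    exact this) (by
    intro t m hm
    rw [Over.comp_left, Scheme.Hom.comp_apply]
    exact hkA _ m hm)
  rw [← comp_lift_assoc, Category.assoc] at key
  have key' := congrArg (fun z => z.left) key
  simp only [Over.comp_left, hj] at key'
  exact key'

include hd in
/-- **a point all of whose specialisations are sent by the family to the homomorphism attached to
`φ` lies in all the loci prescribed by `φ`.** -/
theorem mem_Aset_of_comp_eq (Y : Over U) (k : Y ⟶ K)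
    (hk : ∀ (Y' : Over U) (x : Y' ⟶ Y) (h : Y' ⟶ Red.DS U M₁), lift (x ≫ k) h ≫ c = h ≫ d)
    (y : Y.left) (m : Multiplicative M₂) : k.left y ∈ Aset M₁ M₂ c m (φ m) := by
  classical
  obtain ⟨O, hO, htO⟩ := exists_affine_nhd (k.left y)
  have htO' : y ∈ k.left ⁻¹ᵁ O := htO
  obtain ⟨V, hV, huV, hle⟩ := TopologicalSpace.Opens.isBasis_iff_nbhd.mp
    Y.left.isBasis_affineOpens htO'
  have hVa : IsAffineOpen V := hV
  obtain ⟨ψ, hψ⟩ : ∃ ψ : Γ(K.left, O) →+* Γ(Y.left, V), ψ = (k.left.appLE O V hle).hom :=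
    ⟨_, rfl⟩
  have hpt : ptW hO ψ = hVa.fromSpec ≫ k.left := by
    have := ptW_comp hVa k.left hO hle (RingHom.id _)
    rw [RingHom.id_comp, ← hψ] at this
    rw [← this]
    unfold ptW
    rw [show CommRingCat.ofHom (RingHom.id Γ(Y.left, V)) = 𝟙 _ from rfl, Spec.map_id,
      Category.id_comp]
  have htriv : thetaG M₁ M₂ c hO (MonoidAlgebra Γ(Y.left, V) (Multiplicative M₁))
      ((MonoidAlgebra.singleOneRingHom :
        Γ(Y.left, V) →+* MonoidAlgebra Γ(Y.left, V) (Multiplicative M₁)).comp ψ)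
      (MonoidAlgebra.of Γ(Y.left, V) (Multiplicative M₁)) =
        (MonoidAlgebra.of Γ(Y.left, V) (Multiplicative M₁)).comp φ := by
    obtain ⟨ψ', hψ'⟩ : ∃ ψ' : Γ(K.left, O) →+* MonoidAlgebra Γ(Y.left, V) (Multiplicative M₁),
        ψ' = (MonoidAlgebra.singleOneRingHom).comp ψ := ⟨_, rfl⟩
    rw [← hψ']
    apply gOf_injective M₂ (ptW hO ψ' ≫ K.hom)
    rw [← thetaG_spec M₁ M₂ c hO ψ' _ _ (kOf hO ψ') rfl]
    have hfac : ptW hO ψ' = (Spec.map (CommRingCat.ofHom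
        (MonoidAlgebra.singleOneRingHom :
          Γ(Y.left, V) →+* MonoidAlgebra Γ(Y.left, V) (Multiplicative M₁))) ≫ hVa.fromSpec) ≫
        k.left := by
      rw [hψ', ← specMap_comp_ptW, hpt, Category.assoc]
    obtain ⟨x, hx⟩ : ∃ x : Over.mk (ptW hO ψ' ≫ K.hom) ⟶ Y,
        x.left = Spec.map (CommRingCat.ofHom
        (MonoidAlgebra.singleOneRingHom :
          Γ(Y.left, V) →+* MonoidAlgebra Γ(Y.left, V) (Multiplicative M₁))) ≫ hVa.fromSpec := by
      refine ⟨Over.homMk _ ?_, rfl⟩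
      show _ ≫ Y.hom = ptW hO ψ' ≫ K.hom
      rw [hfac, Category.assoc, Category.assoc, Category.assoc, Over.w k]
    have hk1 : kOf hO ψ' = x ≫ k := by
      apply Over.OverMorphism.ext
      rw [Over.comp_left, hx]
      exact hfac
    rw [hk1, hk, hd]
  have he1 : ψ (eOf M₁ M₂ c hO m (φ m)) = 1 := by
    have := map_coeff_of_theta_univ (θ := thetaG M₁ M₂ c hO) (thetaG_nat M₁ M₂ c hO)
      Γ(Y.left, V) ψ m (φ m) (by rw [htriv]; rfl) (φ m)
    rw [if_pos rfl] at this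
    exact this
  rw [mem_Aset_iff M₁ M₂ c hO m (φ m) _ htO]
  have hb := Y.left.basicOpen_appLE k.left V O hle (eOf M₁ M₂ c hO m (φ m))
  rw [show (k.left.appLE O V hle) (eOf M₁ M₂ c hO m (φ m)) = ψ (eOf M₁ M₂ c hO m (φ m)) by
    rw [hψ], he1, Scheme.basicOpen_one] at hb
  have : y ∈ V ⊓ k.left ⁻¹ᵁ K.left.basicOpen (eOf M₁ M₂ c hO m (φ m)) := by
    rw [← hb]; exact huV
  exact this.2

end Fix

end Groth.Agent.Lib.Helper15TwoGrpFix
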