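-- helper15: a homomorphism between diagonalisable groups is Zariski-locally on the base attached to a homomorphism of character groups
import Mathlib
import Groth.Agent.Lib.Helper15TwoGrpFix
import Groth.Agent.Lib.Helper15DSmapPts
set_option autoImplicit false
universe u
open CategoryTheory CategoryTheory.Limits AlgebraicGeometry MonoidalCategory CartesianMonoidalCategory
  MonObj GrpObj

namespace Groth.Agent.Lib.Helper15HomDiag

open Groth.Agent.Lib.Helper15DiagRigid
open Groth.Agent.Lib.Helper15TwoGrp Groth.Agent.Lib.Helper15TwoGrpFix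
open Groth.Agent.Lib.Helper15DSmapPts

section Single

variable {U : Scheme.{u}} (M₁ M₂ : Type) [AddCommGroup M₁] [AddCommGroup M₂]
  (v : Red.DS U M₁ ⟶ Red.DS U M₂)

/-- a single homomorphism seen as a family over the trivial parameter space. -/
noncomputable def cOf : (𝟙_ (Over U)) ⊗ Red.DS U M₁ ⟶ Red.DS U M₂ := snd _ _ ≫ v

variable [hv : IsMonHom v]

include hv in
lemma cOf_mul (Y : Over U) (k : Y ⟶ 𝟙_ (Over U)) (h h' : Y ⟶ Red.DS U M₁) :
    lift k (h * h') ≫ cOf M₁ M₂ v = (lift k h ≫ cOf M₁ M₂ v) * (lift k h' ≫ cOf M₁ M₂ v) := by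
  unfold cOf
  rw [lift_snd_assoc, lift_snd_assoc, lift_snd_assoc]
  exact MonObj.mul_comp h h' v

/-- the locus of the base where the homomorphism is the one attached to `φ`, tested on `s`. -/
def Wset (s : Set (Multiplicative M₂)) (φ : M₂ →+ M₁) : Set U :=
  {t | ∀ m ∈ s, (t : (𝟙_ (Over U)).left) ∈
    Aset M₁ M₂ (cOf M₁ M₂ v) m (AddMonoidHom.toMultiplicative φ m)}

include hv in
lemma isOpen_Wset (F : Finset (Multiplicative M₂)) (φ : M₂ →+ M₁) :
    IsOpen (Wset M₁ M₂ v (F : Set (Multiplicative M₂)) φ) := by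
  have : Wset M₁ M₂ v (F : Set (Multiplicative M₂)) φ =
      ⋂ m ∈ F, Aset M₁ M₂ (cOf M₁ M₂ v) m (AddMonoidHom.toMultiplicative φ m) := by
    ext t
    simp only [Wset, Set.mem_ofPred_eq, Set.mem_iInter, Finset.mem_coe]
  rw [this]
  exact (isClopen_biInter_finset (fun m _ => isClopen_Aset M₁ M₂ (cOf M₁ M₂ v)
    (cOf_mul M₁ M₂ v) m _)).isOpen

include hv in
lemma exists_mem_Wset (s : Set (Multiplicative M₂)) (t : U) :
    ∃ φ : M₂ →+ M₁, t ∈ Wset M₁ M₂ v s φ := by
  obtain ⟨φ, hφ⟩ := exists_hom_forall_mem_Aset M₁ M₂ (cOf M₁ M₂ v) (cOf_mul M₁ M₂ v)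
    (t : (𝟙_ (Over U)).left)
  refine ⟨AddMonoidHom.toMultiplicative.symm φ, fun m _ => ?_⟩
  rw [Equiv.apply_symm_apply]
  exact hφ m

include hv in
/-- over the locus attached to `φ`, the homomorphism is the one attached to `φ`. -/
lemma comp_eq_of_mem_Wset (s : Set (Multiplicative M₂)) (hs : Subgroup.closure s = ⊤)
    (φ : M₂ →+ M₁) (Y : Over U) (hY : ∀ y : Y.left, Y.hom y ∈ Wset M₁ M₂ v s φ)
    (h : Y ⟶ Red.DS U M₁) : h ≫ v = h ≫ Red.DSmap U φ := by
  have key := comp_eq_of_forall_mem_Aset M₁ M₂ (cOf M₁ M₂ v) (cOf_mul M₁ M₂ v)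
    (AddMonoidHom.toMultiplicative φ) (Red.DSmap U φ)
    (fun C _ σ χ => gOf_comp_DSmap φ σ χ) s hs Y (toUnit Y) (fun y m hm => by
      have h1 : (toUnit Y).left = Y.hom := by
        have := Over.w (toUnit Y)
        rw [← this]
        exact (Category.comp_id _).symm
      rw [h1]
      exact hY y m hm) h
  unfold cOf at key
  rw [lift_snd_assoc] at key
  exact key

include hv in
/-- **a homomorphism between diagonalisable groups, the target having a finitely generated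
character group, is Zariski-locally on the base attached to a homomorphism of character groups.** -/
theorem exists_opens_map_eq (hM₂ : AddGroup.FG M₂) (t : U) :
    ∃ (φ : M₂ →+ M₁) (W : U.Opens), t ∈ W ∧
      (Over.pullback W.ι).map v = (Over.pullback W.ι).map (Red.DSmap U φ) := by
  obtain ⟨n, F, -, hF⟩ := Group.fg_iff'.mp (AddGroup.fg_iff_mul_fg.mp hM₂)
  obtain ⟨φ, hφ⟩ := exists_mem_Wset M₁ M₂ v (F : Set (Multiplicative M₂)) t
  refine ⟨φ, ⟨_, isOpen_Wset M₁ M₂ v F φ⟩, hφ, ?_⟩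
  obtain ⟨W, hW⟩ : ∃ W : U.Opens, W = ⟨_, isOpen_Wset M₁ M₂ v F φ⟩ := ⟨_, rfl⟩
  rw [← hW]
  obtain ⟨ε, hε⟩ : ∃ ε : (Over.map W.ι).obj ((Over.pullback W.ι).obj (Red.DS U M₁)) ⟶
      Red.DS U M₁, ε = ((Over.mapPullbackAdj W.ι).homEquiv _ _).symm (𝟙 _) := ⟨_, rfl⟩
  have hε' : (Over.mapPullbackAdj W.ι).homEquiv _ _ ε = 𝟙 _ := by
    rw [hε, Equiv.apply_symm_apply]
  have h1 : ε ≫ v = ε ≫ Red.DSmap U φ := by
    refine comp_eq_of_mem_Wset M₁ M₂ v _ hF φ _ ?_ ε
    intro y
    have : ((Over.map W.ι).obj ((Over.pullback W.ι).obj (Red.DS U M₁))).hom y =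
        W.ι (((Over.pullback W.ι).obj (Red.DS U M₁)).hom y) := by
      simp only [Over.map_obj_hom, Scheme.Hom.comp_apply]
    have hWs : (W : Set U) = Wset M₁ M₂ v (F : Set (Multiplicative M₂)) φ := by rw [hW]; rfl
    rw [this, ← hWs]
    exact (((Over.pullback W.ι).obj (Red.DS U M₁)).hom y).2
  have h2 := congrArg ((Over.mapPullbackAdj W.ι).homEquiv _ _) h1
  rw [Adjunction.homEquiv_naturality_right, Adjunction.homEquiv_naturality_right, hε',
    Category.id_comp, Category.id_comp] at h2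
  exact h2

end Single

end Groth.Agent.Lib.Helper15HomDiag
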