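-- helper15: products of homomorphisms of diagonalisable groups; points with values in affine schemes
import Mathlib
import Groth.Agent.Lib.Helper15HomDiag
set_option autoImplicit false
universe u
open CategoryTheory CategoryTheory.Limits AlgebraicGeometry MonoidalCategory
  CartesianMonoidalCategory MonObj GrpObj Opposite

namespace Groth.Agent.Lib.Helper15HomRep

open Groth.Agent.Lib.Helper15DiagRigid Groth.Agent.Lib.Helper15DSmapPts

/-- two morphisms over `U` which agree on all points with values in affine schemes are equal. -/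
lemma hom_ext_affine_pts {U : Scheme.{u}} {Y Z : Over U} (a b : Y ⟶ Z)
    (h : ∀ (C : Type u) [CommRing C] (σ : Spec (CommRingCat.of C) ⟶ U) (p : Over.mk σ ⟶ Y),
      p ≫ a = p ≫ b) : a = b := by
  apply Over.OverMorphism.ext
  apply Scheme.hom_ext_of_forall
  intro y
  obtain ⟨_, ⟨O', hO', rfl⟩, hyO', -⟩ :=
    Y.left.isBasis_affineOpens.exists_subset_of_mem_open (Set.mem_univ y) isOpen_univ
  refine ⟨O', hyO', ?_⟩
  have hOa : IsAffineOpen O' := hO'
  rw [← cancel_epi hOa.isoSpec.inv, IsAffineOpen.isoSpec_inv_ι_assoc,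
    IsAffineOpen.isoSpec_inv_ι_assoc]
  have key := h Γ(Y.left, O') (hOa.fromSpec ≫ Y.hom) (Over.homMk hOa.fromSpec rfl)
  exact congrArg (fun z => z.left) key

variable {U : Scheme.{u}} {M₁ M₂ : Type} [AddCommGroup M₁] [AddCommGroup M₂]

/-- the homomorphism of diagonalisable groups attached to a sum of homomorphisms of character
groups is the product of the homomorphisms attached to the summands. -/
lemma DSmap_add (φ ψ : M₂ →+ M₁) :
    Red.DSmap U (φ + ψ) = Red.DSmap U φ * Red.DSmap U ψ := by
  apply hom_ext_affine_pts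
  intro C _ σ p
  obtain ⟨χ, rfl⟩ := exists_gOf M₁ σ p
  rw [MonObj.comp_mul, gOf_comp_DSmap, gOf_comp_DSmap, gOf_comp_DSmap, gOf_mul]
  congr 1
  apply MonoidHom.ext
  intro m
  simp only [MonoidHom.comp_apply, MonoidHom.mul_apply]
  rw [← map_mul]
  rfl

end Groth.Agent.Lib.Helper15HomRep
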