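-- helper15: points of a diagonalisable group are the multiplicative families of values of its characters
import Mathlib
import Groth.Agent.Lib.Helper15HomRepH
import Groth.Agent.Lib.Helper27DiagSub
set_option autoImplicit false
universe u
open CategoryTheory CategoryTheory.Limits AlgebraicGeometry MonoidalCategory
  CartesianMonoidalCategory MonObj GrpObj Opposite

namespace Groth.Agent.Lib.Helper15CharRep

open Groth.Agent.Lib.Helper15DiagRigid Groth.Agent.Lib.Helper15DSmapPts
open Groth.Agent.Lib.Helper11MultGa Groth.Agent.Lib.Helper27.GaGm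
open Groth.Agent.Lib.Helper15HomRep

variable {U : Scheme.{u}} (M : Type) [AddCommGroup M]

instance isMonHom_chi (m : M) : IsMonHom (Red.chi U m) :=
  Groth.Agent.Lib.Helper27DiagSub.isMonHom_DSmap U _

/-- the character attached to a sum is the product of the characters. -/
lemma chi_add (m n : M) : Red.chi U (m + n) = Red.chi U m * Red.chi U n := by
  unfold Red.chi
  rw [← DSmap_add]
  congr 1
  ext
  simp

/-- the function attached to a point of the multiplicative group given by a morphism to
`Spec ℤ[ℤ]`. -/
lemma gmFn_ptOf {T : Over U} (z : T.left ⟶ Spec (CommRingCat.of (AM.{u} ℤ))) :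
    Red.gmFn (ptOf ℤ z) = fn z (MonoidAlgebra.single (Multiplicative.ofAdd (1 : ℤ)) 1) := by
  rw [gmFn_eq_fn, adjEquiv_ptOf]

/-- the function attached to the value of a character at a point. -/
lemma gmFn_ptOf_comp_chi {T : Over U} (y : T.left ⟶ Spec (CommRingCat.of (AM.{u} M))) (m : M) :
    Red.gmFn (ptOf M y ≫ Red.chi U m) =
      fn y (MonoidAlgebra.single (Multiplicative.ofAdd m) 1) := by
  unfold Red.chi
  rw [ptOf_comp_DSmap, gmFn_ptOf, fn_specMap, amMap_single]
  congr 2
  simp

/-- a point of a diagonalisable group is determined by the values of the characters. -/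
theorem hom_ext_chi {T : Over U} (a a' : T ⟶ Red.DS U M)
    (h : ∀ m : M, a ≫ Red.chi U m = a' ≫ Red.chi U m) : a = a' := by
  rw [← ptOf_adjEquiv M a, ← ptOf_adjEquiv M a']
  congr 1
  apply fn_ext
  intro x
  rw [fn_eq, fn_eq]
  refine congr($(amRingHom_ext M _ _ ?_) x)
  intro m
  have h1 := congrArg Red.gmFn (h (Multiplicative.toAdd m))
  rw [← ptOf_adjEquiv M a, ← ptOf_adjEquiv M a', gmFn_ptOf_comp_chi, gmFn_ptOf_comp_chi] at h1
  exact h1

/-- a multiplicative family of points of the multiplicative group indexed by the character group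
is the family of values of the characters at a point of the diagonalisable group. -/
theorem exists_of_chars {T : Over U} (ψ : Multiplicative M →* (T ⟶ Red.Gm U)) :
    ∃ a : T ⟶ Red.DS U M, ∀ m : M, a ≫ Red.chi U m = ψ (Multiplicative.ofAdd m) := by
  obtain ⟨ψ', hψ'⟩ : ∃ ψ' : Multiplicative M →* Γ(T.left, ⊤),
      ∀ m, ψ' m = Red.gmFn (ψ m) :=
    ⟨{ toFun := fun m => Red.gmFn (ψ m)
       map_one' := by rw [map_one, gmFn_one]
       map_mul' := fun m n => by rw [map_mul, gmFn_mul] }, fun m => rfl⟩
  obtain ⟨y, hy⟩ := fn_surj (thetaOf M ψ')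
  refine ⟨ptOf M y, fun m => ?_⟩
  apply gmFn_injective
  rw [gmFn_ptOf_comp_chi, hy, thetaOf_single, hψ']

end Groth.Agent.Lib.Helper15CharRep
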