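-- helper15: open pieces of schemes over a base; gluing morphisms along a disjoint open cover
import Mathlib
import Groth.Prelude.Def_TwC
set_option autoImplicit false
universe u
open CategoryTheory CategoryTheory.Limits AlgebraicGeometry MonoidalCategory
  CartesianMonoidalCategory

namespace Groth.Agent.Lib.Helper15HomRep

variable {S : Scheme.{u}}

/-- the open subscheme `V` of `X` as a scheme over `S`. -/
abbrev res (X : Over S) (V : X.left.Opens) : Over S := Over.mk (V.ι ≫ X.hom)

/-- the inclusion of an open subscheme, over `S`. -/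
def resι (X : Over S) (V : X.left.Opens) : res X V ⟶ X := Over.homMk V.ι rfl

@[simp] lemma resι_left (X : Over S) (V : X.left.Opens) : (resι X V).left = V.ι := rfl

/-- a morphism whose image lies in an open factors through it. -/
lemma exists_fac {T X : Over S} (a : T ⟶ X) (V : X.left.Opens) (h : ∀ t : T.left, a.left t ∈ V) :
    ∃ a' : T ⟶ res X V, a' ≫ resι X V = a := by
  have hr : Set.range a.left.base ⊆ Set.range V.ι.base := by
    rw [Scheme.Opens.range_ι]
    rintro _ ⟨t, rfl⟩
    exact h t
  refine ⟨Over.homMk (IsOpenImmersion.lift V.ι a.left hr) ?_, ?_⟩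
  · show _ ≫ V.ι ≫ X.hom = T.hom
    rw [← Category.assoc, IsOpenImmersion.lift_fac, Over.w]
  · apply Over.OverMorphism.ext
    exact IsOpenImmersion.lift_fac _ _ _

/-- equality of morphisms over `S` is local on the source. -/
lemma hom_ext_of_cover {X Z : Over S} (a b : X ⟶ Z)
    (h : ∀ x : X.left, ∃ V : X.left.Opens, x ∈ V ∧ resι X V ≫ a = resι X V ≫ b) : a = b := by
  apply Over.OverMorphism.ext
  apply Scheme.hom_ext_of_forall
  intro x
  obtain ⟨V, hx, hV⟩ := h x
  exact ⟨V, hx, congrArg (fun z => z.left) hV⟩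

section Glue

variable {I : Type u} {X Z : Over S} (Uo : I → X.left.Opens)
  (hU : TopologicalSpace.IsOpenCover Uo) (hd : ∀ m m', m ≠ m' → Uo m ⊓ Uo m' = ⊥)

include hd in
lemma glue_compat (f : ∀ m, res X (Uo m) ⟶ Z) (m m' : I) :
    pullback.fst ((X.left.openCoverOfIsOpenCover Uo hU).f m)
        ((X.left.openCoverOfIsOpenCover Uo hU).f m') ≫ (f m).left =
    pullback.snd ((X.left.openCoverOfIsOpenCover Uo hU).f m)
        ((X.left.openCoverOfIsOpenCover Uo hU).f m') ≫ (f m').left := by
  by_cases h : m = m'
  · subst h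
    have h1 : pullback.fst ((X.left.openCoverOfIsOpenCover Uo hU).f m)
        ((X.left.openCoverOfIsOpenCover Uo hU).f m) =
        pullback.snd ((X.left.openCoverOfIsOpenCover Uo hU).f m)
        ((X.left.openCoverOfIsOpenCover Uo hU).f m) := by
      have : Mono ((X.left.openCoverOfIsOpenCover Uo hU).f m) := by
        show Mono (Uo m).ι
        infer_instance
      rw [← cancel_mono ((X.left.openCoverOfIsOpenCover Uo hU).f m)]
      exact pullback.condition
    rw [h1]
  · have hE : IsEmpty ↑(pullback ((X.left.openCoverOfIsOpenCover Uo hU).f m)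
        ((X.left.openCoverOfIsOpenCover Uo hU).f m')) := by
      refine ⟨fun t => ?_⟩
      have h1 : (pullback.fst ((X.left.openCoverOfIsOpenCover Uo hU).f m)
          ((X.left.openCoverOfIsOpenCover Uo hU).f m') ≫ (Uo m).ι).base t ∈ Uo m := by
        rw [Scheme.Hom.comp_base, TopCat.comp_app]
        exact ((pullback.fst ((X.left.openCoverOfIsOpenCover Uo hU).f m)
          ((X.left.openCoverOfIsOpenCover Uo hU).f m')).base t).2
      have h2 : (pullback.fst ((X.left.openCoverOfIsOpenCover Uo hU).f m)
          ((X.left.openCoverOfIsOpenCover Uo hU).f m') ≫ (Uo m).ι).base t ∈ Uo m' := by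
        have hc : pullback.fst ((X.left.openCoverOfIsOpenCover Uo hU).f m)
          ((X.left.openCoverOfIsOpenCover Uo hU).f m') ≫ (Uo m).ι =
          pullback.snd ((X.left.openCoverOfIsOpenCover Uo hU).f m)
          ((X.left.openCoverOfIsOpenCover Uo hU).f m') ≫ (Uo m').ι := pullback.condition
        rw [hc, Scheme.Hom.comp_base, TopCat.comp_app]
        exact ((pullback.snd ((X.left.openCoverOfIsOpenCover Uo hU).f m)
          ((X.left.openCoverOfIsOpenCover Uo hU).f m')).base t).2
      have h3 : (pullback.fst ((X.left.openCoverOfIsOpenCover Uo hU).f m)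
          ((X.left.openCoverOfIsOpenCover Uo hU).f m') ≫ (Uo m).ι).base t ∈ Uo m ⊓ Uo m' :=
        ⟨h1, h2⟩
      rw [hd m m' h] at h3
      exact h3
    exact (isInitialOfIsEmpty (X := pullback ((X.left.openCoverOfIsOpenCover Uo hU).f m)
      ((X.left.openCoverOfIsOpenCover Uo hU).f m'))).hom_ext _ _

include hd hU in
/-- morphisms over `S` defined on the members of a disjoint open cover glue. -/
theorem exists_glue_disjoint (f : ∀ m, res X (Uo m) ⟶ Z) :
    ∃ F : X ⟶ Z, ∀ m, resι X (Uo m) ≫ F = f m := by
  refine ⟨Over.homMk ((X.left.openCoverOfIsOpenCover Uo hU).glueMorphisms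
    (fun m => (f m).left) (glue_compat Uo hU hd f)) ?_, ?_⟩
  · apply (X.left.openCoverOfIsOpenCover Uo hU).hom_ext
    intro m
    rw [← Category.assoc, Scheme.Cover.ι_glueMorphisms]
    exact Over.w (f m)
  · intro m
    apply Over.OverMorphism.ext
    exact (X.left.openCoverOfIsOpenCover Uo hU).ι_glueMorphisms
      (fun m => (f m).left) (glue_compat Uo hU hd f) m

end Glue

end Groth.Agent.Lib.Helper15HomRep
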