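-- helper15: families of homomorphisms between diagonalisable groups are the points of a constant scheme
import Mathlib
import Groth.Agent.Lib.Helper15HomRepA
import Groth.Agent.Lib.Helper15HomDiag
import Groth.Agent.Lib.Helper11ConstPtsU
import Groth.Agent.Lib.Helper27DiagSub
import Groth.Prelude.Def_AutFam
set_option autoImplicit false
universe u
open CategoryTheory CategoryTheory.Limits AlgebraicGeometry MonoidalCategory
  CartesianMonoidalCategory MonObj GrpObj

namespace Groth.Agent.Lib.Helper15HomRep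

open Groth.Agent.Lib.Helper15TwoGrp Groth.Agent.Lib.Helper15TwoGrpFix
open Groth.Agent.Lib.Helper15DSmapPts Groth.Agent.Lib.Helper11ConstPtsU

variable {U : Scheme.{u}} (M₁ M₂ : Type) [AddCommGroup M₁] [AddCommGroup M₂] {I : Type u}
  (lab : I → (M₂ →+ M₁))

section Pieces

variable {X : Over U} (z : X ⟶ TwC.const U I)

lemma isOpenCover_piece : TopologicalSpace.IsOpenCover (fun m => piece I z m) :=
  iSup_piece I z

lemma piece_inf_eq_bot (m m' : I) (h : m ≠ m') : piece I z m ⊓ piece I z m' = ⊥ := by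
  rw [eq_bot_iff]
  intro x hx
  exact (piece_disjoint I z m m' h x hx.1 hx.2).elim

/-- on its piece of label `m` a point of the constant scheme is the constant point. -/
lemma resι_piece_comp (m : I) : resι X (piece I z m) ≫ z = cpt I (res X (piece I z m)) m := by
  apply eq_cpt_of_le
  intro t
  show (piece I z m).ι t ∈ piece I z m
  exact t.2

end Pieces

include lab in
/-- the universal family of homomorphisms between diagonalisable groups, over the constant scheme
of homomorphisms of character groups. -/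
theorem exists_univ : ∃ υ : Red.DS U M₁ ⊗ TwC.const U I ⟶ Red.DS U M₂,
    ∀ (Y : Over U) (h : Y ⟶ Red.DS U M₁) (m : I),
      lift h (cpt I Y m) ≫ υ = h ≫ Red.DSmap U (lab m) := by
  obtain ⟨z, hz⟩ : ∃ z : Red.DS U M₁ ⊗ TwC.const U I ⟶ TwC.const U I, z = snd _ _ := ⟨_, rfl⟩
  obtain ⟨υ, hυ⟩ := exists_glue_disjoint (fun m => piece I z m) (isOpenCover_piece z)
    (piece_inf_eq_bot z) (Z := Red.DS U M₂)
    (fun m => resι _ _ ≫ fst _ _ ≫ Red.DSmap U (lab m))
  refine ⟨υ, fun Y h m => ?_⟩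
  obtain ⟨a', ha'⟩ := exists_fac (lift h (cpt I Y m)) (piece I z m)
    (mem_piece_of_eq_cpt I z m _ (by rw [hz, lift_snd]))
  rw [← ha', Category.assoc, hυ, ← Category.assoc, ← Category.assoc, ha', lift_fst]

variable {M₁ M₂ lab}

/-- the universal family is a family of homomorphisms. -/
lemma isHomFamily_univ (υ : Red.DS U M₁ ⊗ TwC.const U I ⟶ Red.DS U M₂)
    (hυ : ∀ (Y : Over U) (h : Y ⟶ Red.DS U M₁) (m : I),
      lift h (cpt I Y m) ≫ υ = h ≫ Red.DSmap U (lab m)) :
    AutFam.IsHomFamily (Red.DS U M₁) (Red.DS U M₂) υ := by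
  intro Y g₁ g₂ t
  apply hom_ext_of_cover
  intro y
  obtain ⟨m, hm⟩ : ∃ m, y ∈ piece I t m := by
    have := iSup_piece I t
    have hy : y ∈ (⨆ m, piece I t m) := by rw [this]; trivial
    exact TopologicalSpace.Opens.mem_iSup.mp hy
  refine ⟨piece I t m, hm, ?_⟩
  have hmon := Groth.Agent.Lib.Helper27DiagSub.isMonHom_DSmap U (lab m)
  rw [MonObj.comp_mul, ← Category.assoc, ← Category.assoc, ← Category.assoc, comp_lift, comp_lift,
    comp_lift, MonObj.comp_mul, resι_piece_comp, hυ, hυ, hυ]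
  exact MonObj.mul_comp _ _ _


lemma comp_cpt {T T' : Over U} (a : T' ⟶ T) (m : I) : a ≫ cpt I T m = cpt I T' m := by
  unfold cpt
  rw [← Category.assoc]
  congr 1
  exact toUnit_unique _ _

section Rep

variable {T : Over U} (φ : Red.DS U M₁ ⊗ T ⟶ Red.DS U M₂)

/-- the family with the parameter in the first place. -/
noncomputable def cOfFam : T ⊗ Red.DS U M₁ ⟶ Red.DS U M₂ := lift (snd _ _) (fst _ _) ≫ φ

lemma cOfFam_pts {Y : Over U} (k : Y ⟶ T) (h : Y ⟶ Red.DS U M₁) :
    lift k h ≫ cOfFam φ = lift h k ≫ φ := by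
  unfold cOfFam
  rw [← Category.assoc, comp_lift, lift_snd, lift_fst]

variable (hφ : AutFam.IsHomFamily (Red.DS U M₁) (Red.DS U M₂) φ)

include hφ in
lemma cOfFam_mul (Y : Over U) (k : Y ⟶ T) (h h' : Y ⟶ Red.DS U M₁) :
    lift k (h * h') ≫ cOfFam φ = (lift k h ≫ cOfFam φ) * (lift k h' ≫ cOfFam φ) := by
  rw [cOfFam_pts, cOfFam_pts, cOfFam_pts]
  exact hφ Y h h' k

/-- the locus of the parameter space where the family is the homomorphism attached to `ψ`,
tested on `F`. -/
def Tloc (F : Finset (Multiplicative M₂)) (ψ : M₂ →+ M₁) : Set T.left :=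
  {t | ∀ m ∈ F, t ∈ Aset M₁ M₂ (cOfFam φ) m (AddMonoidHom.toMultiplicative ψ m)}

include hφ in
lemma isOpen_Tloc (F : Finset (Multiplicative M₂)) (ψ : M₂ →+ M₁) : IsOpen (Tloc φ F ψ) := by
  have : Tloc φ F ψ = ⋂ m ∈ F, Aset M₁ M₂ (cOfFam φ) m (AddMonoidHom.toMultiplicative ψ m) := by
    ext t
    simp only [Tloc, Set.mem_ofPred_eq, Set.mem_iInter]
  rw [this]
  exact isOpen_biInter_finset fun m _ => (isClopen_Aset M₁ M₂ (cOfFam φ) (cOfFam_mul φ hφ) m _).2


include hφ in
/-- **every family of homomorphisms between diagonalisable groups, the target having a finitely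
generated character group, comes from exactly one point of the constant scheme of homomorphisms of
character groups.** -/
theorem existsUnique_of_isHomFamily (hM₂ : AddGroup.FG M₂) (hlab : Function.Bijective lab)
    (υ : Red.DS U M₁ ⊗ TwC.const U I ⟶ Red.DS U M₂)
    (hυ : ∀ (Y : Over U) (h : Y ⟶ Red.DS U M₁) (m : I),
      lift h (cpt I Y m) ≫ υ = h ≫ Red.DSmap U (lab m)) :
    ∃! a : T ⟶ TwC.const U I, (Red.DS U M₁ ◁ a) ≫ υ = φ := by
  obtain ⟨n, F, -, hF⟩ := Group.fg_iff'.mp (AddGroup.fg_iff_mul_fg.mp hM₂)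
  obtain ⟨c, hc⟩ : ∃ c, c = cOfFam φ := ⟨_, rfl⟩
  have hmul := cOfFam_mul φ hφ
  rw [← hc] at hmul
  -- the family over a point of the constant scheme
  have hpt : ∀ (a : T ⟶ TwC.const U I) (i : I) (Y : Over U) (t : Y ⟶ T)
      (_ : ∀ y, t.left y ∈ piece I a i) (h : Y ⟶ Red.DS U M₁),
      lift h t ≫ (Red.DS U M₁ ◁ a) ≫ υ = h ≫ Red.DSmap U (lab i) := by
    intro a i Y t ht h
    rw [← Category.assoc, lift_whiskerLeft, eq_cpt_of_le I a i t ht, hυ]
  refine existsUnique_of_exists_of_unique ?_ ?_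
  · -- existence
    obtain ⟨Uo, hUo⟩ : ∃ Uo : I → T.left.Opens,
        ∀ i, (Uo i : Set T.left) = Tloc φ F (lab i) :=
      ⟨fun i => ⟨Tloc φ F (lab i), isOpen_Tloc φ hφ F (lab i)⟩, fun i => rfl⟩
    have hmem : ∀ i t, t ∈ Uo i ↔ ∀ m ∈ F,
        t ∈ Aset M₁ M₂ c m (AddMonoidHom.toMultiplicative (lab i) m) := by
      intro i t
      rw [← SetLike.mem_coe, hUo, hc]
      rfl
    have hU : TopologicalSpace.IsOpenCover Uo := by
      show iSup Uo = ⊤
      rw [eq_top_iff]
      intro t _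
      rw [TopologicalSpace.Opens.mem_iSup]
      obtain ⟨φ', hφ'⟩ := exists_hom_forall_mem_Aset M₁ M₂ c hmul t
      obtain ⟨i, hi⟩ := hlab.2 (AddMonoidHom.toMultiplicative.symm φ')
      refine ⟨i, (hmem i t).mpr fun m _ => ?_⟩
      rw [hi, Equiv.apply_symm_apply]
      exact hφ' m
    have hd : ∀ i i', i ≠ i' → Uo i ⊓ Uo i' = ⊥ := by
      intro i i' hii'
      rw [eq_bot_iff]
      intro t ht
      exfalso
      apply hii'
      apply hlab.1
      apply AddMonoidHom.toMultiplicative.injective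
      apply MonoidHom.eq_of_eqOn_dense hF
      intro m hm
      by_contra hne
      exact Aset_disjoint M₁ M₂ c hmul m hne t ((hmem i t).mp ht.1 m hm)
        ((hmem i' t).mp ht.2 m hm)
    obtain ⟨z, hz⟩ := exists_glue_disjoint Uo hU hd (Z := TwC.const U I)
      (fun i => cpt I (res T (Uo i)) i)
    refine ⟨z, ?_⟩
    have key : ∀ (Y : Over U) (h : Y ⟶ Red.DS U M₁) (t : Y ⟶ T),
        lift h t ≫ (Red.DS U M₁ ◁ z) ≫ υ = lift h t ≫ φ := by
      intro Y h t
      apply hom_ext_of_cover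
      intro y
      obtain ⟨i, hi⟩ : ∃ i, t.left y ∈ Uo i := by
        have hy : t.left y ∈ iSup Uo := by rw [hU.iSup_eq_top]; trivial
        exact TopologicalSpace.Opens.mem_iSup.mp hy
      refine ⟨t.left ⁻¹ᵁ Uo i, hi, ?_⟩
      obtain ⟨r, hr⟩ : ∃ r, r = resι Y (t.left ⁻¹ᵁ Uo i) := ⟨_, rfl⟩
      rw [← hr]
      have hrt : ∀ y', (r ≫ t).left y' ∈ Uo i := by
        intro y'
        rw [hr]
        exact y'.2
      obtain ⟨t', ht'⟩ := exists_fac (r ≫ t) (Uo i) hrt
      have h1 : r ≫ t ≫ z = cpt I _ i := by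
        rw [← Category.assoc, ← ht', Category.assoc, hz, comp_cpt]
      rw [← Category.assoc, ← Category.assoc, comp_lift, lift_whiskerLeft, Category.assoc, h1, hυ,
        ← Category.assoc, comp_lift, ← cOfFam_pts, ← hc]
      exact (comp_eq_of_forall_mem_Aset M₁ M₂ c hmul
        (AddMonoidHom.toMultiplicative (lab i)) (Red.DSmap U (lab i))
        (fun C _ σ χ => gOf_comp_DSmap (lab i) σ χ) (F : Set (Multiplicative M₂)) hF _ (r ≫ t)
        (fun y' m hm => (hmem i _).mp (hrt y') m hm) (r ≫ h)).symm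
    have := key _ (fst _ _) (snd _ _)
    rwa [lift_fst_snd, Category.id_comp, Category.id_comp] at this
  · -- uniqueness
    intro a a' ha ha'
    apply hom_ext_of_cover
    intro x
    obtain ⟨i, hi⟩ : ∃ i, x ∈ piece I a i := by
      have hy : x ∈ (⨆ m, piece I a m) := by rw [iSup_piece I a]; trivial
      exact TopologicalSpace.Opens.mem_iSup.mp hy
    obtain ⟨i', hi'⟩ : ∃ i, x ∈ piece I a' i := by
      have hy : x ∈ (⨆ m, piece I a' m) := by rw [iSup_piece I a']; trivial
      exact TopologicalSpace.Opens.mem_iSup.mp hy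
    have hA : ∀ (b : T ⟶ TwC.const U I) (_ : (Red.DS U M₁ ◁ b) ≫ υ = φ) (j : I)
        (_ : x ∈ piece I b j) (m : Multiplicative M₂),
        x ∈ Aset M₁ M₂ c m (AddMonoidHom.toMultiplicative (lab j) m) := by
      intro b hb j hj m
      have := mem_Aset_of_comp_eq M₁ M₂ c (AddMonoidHom.toMultiplicative (lab j))
        (Red.DSmap U (lab j)) (fun C _ σ χ => gOf_comp_DSmap (lab j) σ χ)
        (res T (piece I b j)) (resι _ _) (fun Y' x' h => by
          rw [hc, cOfFam_pts, ← hb]
          exact hpt b j Y' (x' ≫ resι _ _) (fun y => ((x'.left y : (piece I b j)).2)) h)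
        ⟨x, hj⟩ m
      exact this
    have hii' : i = i' := by
      apply hlab.1
      apply AddMonoidHom.toMultiplicative.injective
      apply MonoidHom.ext
      intro m
      by_contra hne
      exact Aset_disjoint M₁ M₂ c hmul m hne x (hA a ha i hi m) (hA a' ha' i' hi' m)
    subst hii'
    refine ⟨piece I a i ⊓ piece I a' i, ⟨hi, hi'⟩, ?_⟩
    rw [eq_cpt_of_le I a i (resι T _) (fun t => (t.2 : _ ∧ _).1),
      eq_cpt_of_le I a' i (resι T _) (fun t => (t.2 : _ ∧ _).2)]

end Rep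

end Groth.Agent.Lib.Helper15HomRep
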