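-- helper15: a closed subscheme of a (twisted) constant scheme, quasi-compact over the base, is finite over the base
import Mathlib
import Groth.Agent.Lib.Helper15LocProjBC
import Groth.Agent.Lib.Helper12Torsor
import Groth.Prelude.Def_TwC
set_option autoImplicit false
universe u
open CategoryTheory CategoryTheory.Limits AlgebraicGeometry

namespace Groth.Agent.Lib.Helper15ClSubConst

variable {U Z : Scheme.{u}} {I : Type u}

/-- the fold map of a constant scheme restricted to a component is the inverse of the component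
inclusion. -/
lemma opensRange_ι_desc (m : I) :
    (Sigma.ι (fun _ : I => U) m).opensRange.ι ≫ (Sigma.desc fun _ : I => 𝟙 U) =
      (Sigma.ι (fun _ : I => U) m).isoOpensRange.inv := by
  rw [← Scheme.Hom.isoOpensRange_inv_comp, Category.assoc, Sigma.ι_desc, Category.comp_id]

/-- a closed subscheme of a constant scheme meets each component in a closed subscheme of the
base. -/
lemma isClosedImmersion_piece (ζ : Z ⟶ ∐ fun _ : I => U) [IsClosedImmersion ζ] (m : I) :
    IsClosedImmersion ((ζ ⁻¹ᵁ (Sigma.ι (fun _ : I => U) m).opensRange).ι ≫ ζ ≫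
      Sigma.desc fun _ : I => 𝟙 U) := by
  rw [← morphismRestrict_ι_assoc, opensRange_ι_desc]
  infer_instance

lemma iSup_piece (ζ : Z ⟶ ∐ fun _ : I => U) :
    ⨆ m, ζ ⁻¹ᵁ (Sigma.ι (fun _ : I => U) m).opensRange = ⊤ := by
  rw [← Scheme.Hom.preimage_iSup]
  have : ⨆ m : I, (Sigma.ι (fun _ : I => U) m).opensRange = ⊤ :=
    (sigmaOpenCover (fun _ : I => U)).iSup_opensRange
  rw [this]
  rfl

lemma disjoint_piece (ζ : Z ⟶ ∐ fun _ : I => U) (m n : I) (h : m ≠ n) :
    Disjoint (ζ ⁻¹ᵁ (Sigma.ι (fun _ : I => U) m).opensRange)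
      (ζ ⁻¹ᵁ (Sigma.ι (fun _ : I => U) n).opensRange) := by
  have := disjoint_opensRange_sigmaι (fun _ : I => U) m n h
  rw [← TopologicalSpace.Opens.coe_disjoint] at this ⊢
  exact this.preimage _

/-- a section vanishing on each member of an open cover by subschemes vanishes. -/
lemma eq_zero_of_forall_ι_app {Z : Scheme.{u}} {J : Type*} (P : J → Z.Opens) (W : Z.Opens)
    (hW : W ≤ ⨆ j, P j) (s : Γ(Z, W)) (h : ∀ j, (P j).ι.app W s = 0) : s = 0 := by
  refine TopCat.Sheaf.eq_of_locally_eq' Z.sheaf (fun j => (P j).ι ''ᵁ (P j).ι ⁻¹ᵁ W) W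
    (fun j => homOfLE (Set.image_preimage_subset _ _)) ?_ s 0 ?_
  · intro x hx
    obtain ⟨j, hj⟩ := TopologicalSpace.Opens.mem_iSup.mp (hW hx)
    exact TopologicalSpace.Opens.mem_iSup.mpr ⟨j, ⟨⟨x, hj⟩, hx, rfl⟩⟩
  · intro j
    rw [map_zero]
    exact h j

/-- a quasi-compact morphism whose source is a disjoint union of closed subschemes of the target is
finite. -/
theorem isFinite_of_disjoint_closed {Z U : Scheme.{u}} {I : Type*} (p : Z ⟶ U) [QuasiCompact p]
    (P : I → Z.Opens) (hcov : ⨆ m, P m = ⊤) (hdisj : ∀ m n, m ≠ n → Disjoint (P m) (P n))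
    (hcl : ∀ m, IsClosedImmersion ((P m).ι ≫ p)) : IsFinite p := by
  rw [IsFinite.iff_isIntegralHom_and_locallyOfFiniteType]
  refine ⟨?_, ?_⟩
  swap
  · rw [IsZariskiLocalAtSource.iff_of_iSup_eq_top (P := @LocallyOfFiniteType) P hcov]
    intro m
    have := hcl m
    infer_instance
  -- finite subcover over an affine open
  have hfin : ∀ V : U.Opens, IsAffineOpen V → ∃ t : Finset I, p ⁻¹ᵁ V ≤ ⨆ m ∈ t, P m := by
    intro V hV
    have hc : IsCompact ((p ⁻¹ᵁ V : Z.Opens) : Set Z) :=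
      QuasiCompact.isCompact_preimage (f := p) _ V.isOpen hV.isCompact
    obtain ⟨t, ht⟩ := hc.elim_finite_subcover (fun m => ((P m : Z.Opens) : Set Z))
      (fun m => (P m).isOpen) (by
        intro x _
        have : x ∈ ⨆ m, P m := hcov ▸ trivial
        obtain ⟨m, hm⟩ := TopologicalSpace.Opens.mem_iSup.mp this
        exact Set.mem_iUnion.mpr ⟨m, hm⟩)
    refine ⟨t, fun x hx => ?_⟩
    obtain ⟨m, hm⟩ := Set.mem_iUnion.mp (ht hx)
    obtain ⟨hmt, hxm⟩ := Set.mem_iUnion.mp hm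
    exact TopologicalSpace.Opens.mem_iSup.mpr ⟨m, TopologicalSpace.Opens.mem_iSup.mpr ⟨hmt, hxm⟩⟩
  have haff : ∀ V : U.Opens, IsAffineOpen V → IsAffineOpen (p ⁻¹ᵁ V) := by
    intro V hV
    obtain ⟨t, ht⟩ := hfin V hV
    have h1 : ∀ m, IsAffineOpen ((P m).ι ''ᵁ (P m).ι ⁻¹ᵁ (p ⁻¹ᵁ V)) := by
      intro m
      have := hcl m
      have h2 : IsAffineOpen (((P m).ι ≫ p) ⁻¹ᵁ V) := hV.preimage _
      exact h2.image_of_isOpenImmersion (P m).ι
    have h3 : ∀ m, (P m).ι ''ᵁ (P m).ι ⁻¹ᵁ (p ⁻¹ᵁ V) = P m ⊓ p ⁻¹ᵁ V := by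
      intro m
      rw [Scheme.Hom.image_preimage_eq_opensRange_inf, Scheme.Opens.opensRange_ι]
    have h4 : p ⁻¹ᵁ V = ⨆ m ∈ (t : Set I), (P m ⊓ p ⁻¹ᵁ V) := by
      apply le_antisymm
      · intro x hx
        obtain ⟨m, hm⟩ := TopologicalSpace.Opens.mem_iSup.mp (ht hx)
        obtain ⟨hmt, hxm⟩ := TopologicalSpace.Opens.mem_iSup.mp hm
        exact TopologicalSpace.Opens.mem_iSup.mpr ⟨m, TopologicalSpace.Opens.mem_iSup.mpr
          ⟨hmt, hxm, hx⟩⟩
      · exact iSup₂_le fun m _ => inf_le_right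
    rw [h4]
    refine IsAffineOpen.biSup_of_disjoint t.finite_toSet (fun m _ => h3 m ▸ h1 m) ?_
    intro m _ n _ hmn
    exact (hdisj m n hmn).mono inf_le_left inf_le_left
  have : IsAffineHom p := ⟨haff⟩
  refine ⟨fun V hV => ?_⟩
  intro a
  obtain ⟨t, ht⟩ := hfin V hV
  have hb : ∀ m, ∃ b : Γ(U, V), (P m).ι.app (p ⁻¹ᵁ V) (p.app V b - a) = 0 := by
    intro m
    have := hcl m
    obtain ⟨b, hb⟩ := ((P m).ι ≫ p).app_surjective V hV ((P m).ι.app (p ⁻¹ᵁ V) a)
    refine ⟨b, ?_⟩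
    rw [map_sub, sub_eq_zero, ← hb, Scheme.Hom.comp_app]
    rfl
  choose b hb using hb
  refine ⟨∏ m ∈ t, (Polynomial.X - Polynomial.C (b m)), Polynomial.monic_prod_X_sub_C _ _, ?_⟩
  rw [Polynomial.eval₂_finsetProd]
  simp only [Polynomial.eval₂_sub, Polynomial.eval₂_X, Polynomial.eval₂_C]
  refine eq_zero_of_forall_ι_app (fun m : t => P m.1) _ ?_ _ ?_
  · refine ht.trans (iSup₂_le fun m hm => ?_)
    exact le_iSup (fun m : t => P m.1) ⟨m, hm⟩
  · intro m
    rw [map_prod]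
    refine Finset.prod_eq_zero m.2 ?_
    rw [← neg_sub, map_neg, neg_eq_zero]
    exact hb m.1

/-- a closed subscheme of a constant scheme which is quasi-compact over the base is finite over
the base. -/
theorem isFinite_of_closed_sub_const (ζ : Z ⟶ ∐ fun _ : I => U) [IsClosedImmersion ζ]
    [QuasiCompact (ζ ≫ Sigma.desc fun _ : I => 𝟙 U)] :
    IsFinite (ζ ≫ Sigma.desc fun _ : I => 𝟙 U) :=
  isFinite_of_disjoint_closed _ (fun m => ζ ⁻¹ᵁ (Sigma.ι (fun _ : I => U) m).opensRange)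
    (iSup_piece ζ) (disjoint_piece ζ) (isClosedImmersion_piece ζ)

/-- the fpqc family attached to a twisted constant scheme. -/
theorem exists_fpqc_family_of_twConst {S : Scheme.{u}} (R : Over S)
    (hR : TwC.IsTwConst TwC.Topology.fpqc R) :
    ∃ (ι : Type u) (Sk : ι → Scheme.{u}) (g : ∀ k, Sk k ⟶ S),
      Presieve.ofArrows Sk g ∈ Scheme.fpqcPrecoverage S ∧
        ∀ k, ∃ J : Type u, Nonempty (Red.bc (g k) R ≅ TwC.const (Sk k) J) := by
  obtain ⟨S', f, hfl, hsu, hqc, hloc⟩ := hR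
  choose Uo hU hiso using hloc
  have h1 : Presieve.ofArrows (fun _ : PUnit.{u+1} => S') (fun _ => f) ∈
      Scheme.fpqcPrecoverage S := by
    rw [Presieve.ofArrows_pUnit]
    exact Groth.Agent.Lib.Helper15LocProjBC.singleton_mem_fpqcPrecoverage f hqc
  let 𝒰 : S'.OpenCover :=
    { I₀ := S'
      X := fun s => (Uo s).toScheme
      f := fun s => (Uo s).ι
      mem₀ := by
        rw [Scheme.ofArrows_mem_precoverage_iff]
        exact ⟨fun p => ⟨p, ⟨p, hU p⟩, rfl⟩, fun s => inferInstance⟩ }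
  have h2 : Presieve.ofArrows 𝒰.X 𝒰.f ∈ Scheme.fpqcPrecoverage S' :=
    Scheme.zariskiPrecoverage_le_fpqcPrecoverage _ 𝒰.mem₀
  have h3 := Precoverage.comp_mem_coverings (J := Scheme.fpqcPrecoverage.{u})
    (fun _ : PUnit.{u+1} => f) h1 (fun _ s' => 𝒰.f s') (fun _ => h2)
  exact ⟨Σ _ : PUnit.{u+1}, S', fun p => (Uo p.2).toScheme, fun p => (Uo p.2).ι ≫ f, h3,
    fun p => hiso p.2⟩

/-- a closed subscheme of a twisted constant scheme which is quasi-compact over the base is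
finite over the base. -/
theorem isFinite_of_closed_sub_twConst {S : Scheme.{u}} (R : Over S)
    (hR : TwC.IsTwConst TwC.Topology.fpqc R) {Z : Scheme.{u}} (z : Z ⟶ R.left)
    [IsClosedImmersion z] [QuasiCompact (z ≫ R.hom)] : IsFinite (z ≫ R.hom) := by
  obtain ⟨ι, Sk, g, hcov, hloc⟩ := exists_fpqc_family_of_twConst R hR
  refine Groth.Agent.Lib.Helper12.of_mem_fpqcPrecoverage (P := @IsFinite)
    Groth.Agent.Lib.Helper12.descendsAlong_isFinite (z ≫ R.hom) _ hcov ?_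
  rintro Y' _ ⟨k⟩
  obtain ⟨J, ⟨e⟩⟩ := hloc k
  obtain ⟨z', hz'⟩ : ∃ z' : pullback (z ≫ R.hom) (g k) ⟶ pullback R.hom (g k),
      z' = pullback.lift (pullback.fst (z ≫ R.hom) (g k) ≫ z) (pullback.snd _ _)
        (by rw [Category.assoc, pullback.condition]) := ⟨_, rfl⟩
  have hz1 : z' ≫ pullback.fst R.hom (g k) = pullback.fst (z ≫ R.hom) (g k) ≫ z := by
    rw [hz', pullback.lift_fst]
  have hz2 : z' ≫ pullback.snd R.hom (g k) = pullback.snd (z ≫ R.hom) (g k) := by
    rw [hz', pullback.lift_snd]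
  have hpb : IsPullback z' (pullback.fst (z ≫ R.hom) (g k)) (pullback.fst R.hom (g k)) z := by
    refine IsPullback.of_right ?_ hz1 (IsPullback.of_hasPullback R.hom (g k)).flip
    rw [hz2]
    exact (IsPullback.of_hasPullback (z ≫ R.hom) (g k)).flip
  have hcl : IsClosedImmersion z' :=
    MorphismProperty.of_isPullback (P := @IsClosedImmersion) hpb.flip inferInstance
  obtain ⟨ζ, hζ⟩ : ∃ ζ : pullback (z ≫ R.hom) (g k) ⟶ ∐ fun _ : J => Sk k,
      ζ = z' ≫ e.hom.left := ⟨_, rfl⟩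
  have hζcl : IsClosedImmersion ζ := by rw [hζ]; infer_instance
  have hζd : ζ ≫ (Sigma.desc fun _ : J => 𝟙 (Sk k)) = pullback.snd (z ≫ R.hom) (g k) := by
    rw [hζ, Category.assoc]
    have := Over.w e.hom
    dsimp at this
    rw [this, hz2]
  have : QuasiCompact (ζ ≫ Sigma.desc fun _ : J => 𝟙 (Sk k)) := by rw [hζd]; infer_instance
  have := isFinite_of_closed_sub_const ζ
  rwa [hζd] at this

end Groth.Agent.Lib.Helper15ClSubConst
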