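-- helper15: a clopen subscheme of a quasi-isotrivial twisted constant scheme with one finite fibre is finite (connected locally Noetherian base)
import Mathlib
import Groth.Agent.Lib.Helper15ClSubConst
import Groth.Agent.Lib.Helper14LocNoeth
set_option autoImplicit false
universe u
open CategoryTheory CategoryTheory.Limits AlgebraicGeometry

namespace Groth.Agent.Lib.Helper15ClopConst

open Groth.Agent.Lib.Helper15ClSubConst

variable {U Z : Scheme.{u}} {I : Type u}

/-- the set of components of a constant scheme met by a subscheme in the fibre of a point. -/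
def Nset (ζ : Z ⟶ ∐ fun _ : I => U) (x : U) : Set I :=
  {i | Sigma.ι (fun _ : I => U) i x ∈ Set.range ζ}

lemma desc_ι_apply (i : I) (x : U) :
    (Sigma.desc fun _ : I => 𝟙 U) (Sigma.ι (fun _ : I => U) i x) = x := by
  rw [← Scheme.Hom.comp_apply, Sigma.ι_desc]
  rfl

lemma exists_eq_ι (c : ↥(∐ fun _ : I => U)) :
    ∃ i, c = Sigma.ι (fun _ : I => U) i ((Sigma.desc fun _ : I => 𝟙 U) c) := by
  obtain ⟨⟨i, x⟩, rfl⟩ := (sigmaMk (fun _ : I => U)).surjective c
  refine ⟨i, ?_⟩
  rw [sigmaMk_mk, desc_ι_apply]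

lemma ι_injective_left (x : U) :
    Function.Injective fun i : I => Sigma.ι (fun _ : I => U) i x := by
  intro i j h
  have := (sigmaι_eq_iff (fun _ : I => U) i j x x).mp h
  exact (Sigma.mk.inj_iff.mp this).1

/-- the fibre of a subscheme of a constant scheme over a point of the base is finite iff it meets
finitely many components there. -/
lemma finite_fibre_iff (ζ : Z ⟶ ∐ fun _ : I => U) [IsPreimmersion ζ] (x : U) :
    ((ζ ≫ Sigma.desc fun _ : I => 𝟙 U) ⁻¹' {x}).Finite ↔ (Nset ζ x).Finite := by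
  have hinj : Function.Injective ζ := ζ.isEmbedding.injective
  rw [← Set.finite_image_iff (f := ζ) hinj.injOn,
    ← Set.finite_image_iff (f := fun i : I => Sigma.ι (fun _ : I => U) i x)
      (ι_injective_left x).injOn]
  suffices h : ζ '' ((ζ ≫ Sigma.desc fun _ : I => 𝟙 U) ⁻¹' {x}) =
      (fun i : I => Sigma.ι (fun _ : I => U) i x) '' Nset ζ x by rw [h]
  ext c
  constructor
  · rintro ⟨y, hy, rfl⟩
    obtain ⟨i, hi⟩ := exists_eq_ι (ζ y)
    have hy' : (Sigma.desc fun _ : I => 𝟙 U) (ζ y) = x := hy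
    rw [hy'] at hi
    exact ⟨i, ⟨y, hi⟩, hi.symm⟩
  · rintro ⟨i, ⟨y, hy⟩, rfl⟩
    refine ⟨y, ?_, hy⟩
    change (Sigma.desc fun _ : I => 𝟙 U) (ζ y) = x
    rw [hy, desc_ι_apply]

lemma isClopen_setOf_mem_Nset (ζ : Z ⟶ ∐ fun _ : I => U) [IsOpenImmersion ζ] [IsClosedImmersion ζ]
    (i : I) : IsClopen {x : U | i ∈ Nset ζ x} := by
  have h : IsClopen (Set.range ζ) := ⟨ζ.isClosedEmbedding.isClosed_range, ζ.isOpenEmbedding.isOpen_range⟩
  exact h.preimage (Sigma.ι (fun _ : I => U) i).continuous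

/-- over a locally connected base the set of components met is locally constant. -/
lemma Nset_eq_of_mem_connectedComponent (ζ : Z ⟶ ∐ fun _ : I => U) [IsOpenImmersion ζ]
    [IsClosedImmersion ζ] {x y : U} (hy : y ∈ connectedComponent x) : Nset ζ y = Nset ζ x := by
  ext i
  have hcl := isClopen_setOf_mem_Nset ζ i
  constructor
  · intro hi
    have := hcl.connectedComponent_subset (x := y) hi
    rw [← connectedComponent_eq hy] at this
    exact this mem_connectedComponent
  · intro hi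
    exact hcl.connectedComponent_subset (x := x) hi hy

/-- a morphism whose source is covered by opens, each quasi-compact over the target and only
finitely many of them meeting the preimage of a suitable neighbourhood of each point, is
quasi-compact. -/
theorem quasiCompact_of_locally_finite {Z U : Scheme.{u}} {J : Type*} (p : Z ⟶ U)
    (P : J → Z.Opens) (hcov : ⨆ m, P m = ⊤) (hqc : ∀ m, QuasiCompact ((P m).ι ≫ p))
    (hlf : ∀ x : U, ∃ O : U.Opens, x ∈ O ∧ {m | ∃ y ∈ P m, p y ∈ O}.Finite) :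
    QuasiCompact p := by
  rw [quasiCompact_iff_forall_isAffineOpen]
  intro V hV
  choose O hxO hfin using hlf
  obtain ⟨t, ht⟩ := hV.isCompact.elim_finite_subcover (fun x => ((O x : U.Opens) : Set U))
    (fun x => (O x).isOpen) (fun x _ => Set.mem_iUnion.mpr ⟨x, hxO x⟩)
  have hF : (⋃ x ∈ t, {m | ∃ y ∈ P m, p y ∈ O x}).Finite :=
    t.finite_toSet.biUnion fun x _ => hfin x
  have hcomp : ∀ m, IsCompact ((P m : Set Z) ∩ p ⁻¹' (V : Set U)) := by
    intro m
    have := hqc m
    have h1 : IsCompact ((((P m).ι ≫ p) ⁻¹ᵁ V : (P m).toScheme.Opens) : Set (P m).toScheme) :=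
      QuasiCompact.isCompact_preimage (f := (P m).ι ≫ p) _ V.isOpen hV.isCompact
    have h2 := h1.image (P m).ι.continuous
    convert h2 using 1
    ext y
    constructor
    · rintro ⟨hy, hyV⟩
      exact ⟨⟨y, hy⟩, hyV, rfl⟩
    · rintro ⟨y', hy', rfl⟩
      exact ⟨y'.2, hy'⟩
  have heq : ((p ⁻¹ᵁ V : Z.Opens) : Set Z) =
      ⋃ m ∈ (⋃ x ∈ t, {m | ∃ y ∈ P m, p y ∈ O x}), ((P m : Set Z) ∩ p ⁻¹' (V : Set U)) := by
    ext y
    constructor
    · intro hy
      have hy' : p y ∈ V := hy
      have : y ∈ ⨆ m, P m := hcov ▸ trivial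
      obtain ⟨m, hm⟩ := TopologicalSpace.Opens.mem_iSup.mp this
      obtain ⟨x, hx⟩ := Set.mem_iUnion.mp (ht hy')
      obtain ⟨hxt, hyx⟩ := Set.mem_iUnion.mp hx
      refine Set.mem_iUnion₂.mpr ⟨m, Set.mem_iUnion₂.mpr ⟨x, hxt, y, hm, hyx⟩, hm, hy'⟩
    · intro hy
      obtain ⟨m, -, -, hyV⟩ := Set.mem_iUnion₂.mp hy
      exact hyV
  rw [heq]
  exact hF.isCompact_biUnion fun m _ => hcomp m

/-- a clopen subscheme of a constant scheme over a locally connected base with finite fibres is
finite over the base. -/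
theorem isFinite_of_clopen_sub_const [LocallyConnectedSpace U] (ζ : Z ⟶ ∐ fun _ : I => U)
    [IsOpenImmersion ζ] [IsClosedImmersion ζ] (hfin : ∀ x : U, (Nset ζ x).Finite) :
    IsFinite (ζ ≫ Sigma.desc fun _ : I => 𝟙 U) := by
  have : QuasiCompact (ζ ≫ Sigma.desc fun _ : I => 𝟙 U) := by
    refine quasiCompact_of_locally_finite _
      (fun m => ζ ⁻¹ᵁ (Sigma.ι (fun _ : I => U) m).opensRange) (iSup_piece ζ)
      (fun m => ?_) (fun x => ?_)
    · have := isClosedImmersion_piece ζ m
      infer_instance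
    · refine ⟨⟨connectedComponent x, isOpen_connectedComponent⟩, mem_connectedComponent, ?_⟩
      refine (hfin x).subset ?_
      rintro m ⟨y, ⟨x', hx'⟩, hy⟩
      have hy' : (Sigma.desc fun _ : I => 𝟙 U) (ζ y) ∈ connectedComponent x := hy
      rw [← hx', desc_ι_apply] at hy'
      rw [← Nset_eq_of_mem_connectedComponent ζ hy']
      exact ⟨y, hx'.symm⟩
  exact isFinite_of_closed_sub_const ζ

theorem lqf_of_etale {X S : Scheme.{u}} (f : X ⟶ S) [Etale f] : LocallyQuasiFinite f := by
  constructor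
  intro U hU V hV e
  have h1 := f.etale_appLE hU hV e
  algebraize [(f.appLE U V e).hom]
  have : Algebra.Etale Γ(S, U) Γ(X, V) := h1
  exact RingHom.quasiFinite_algebraMap.mpr inferInstance

/-- points of a pullback square. -/
lemma exists_preimage_of_isPullback {P X Y S : Scheme.{u}} {fst : P ⟶ X} {snd : P ⟶ Y}
    {f : X ⟶ S} {g : Y ⟶ S} (H : IsPullback fst snd f g) (x : X) (y : Y) (h : f x = g y) :
    ∃ c : P, fst c = x ∧ snd c = y := by
  obtain ⟨c, hc1, hc2⟩ := Scheme.Pullback.exists_preimage_pullback x y h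
  refine ⟨H.isoPullback.inv c, ?_, ?_⟩
  · rw [← Scheme.Hom.comp_apply, H.isoPullback_inv_fst]; exact hc1
  · rw [← Scheme.Hom.comp_apply, H.isoPullback_inv_snd]; exact hc2

/-- a locally Noetherian scheme is locally connected. -/
theorem locallyConnectedSpace_of_isLocallyNoetherian (X : Scheme.{u}) [IsLocallyNoetherian X] :
    LocallyConnectedSpace X := by
  apply Groth.Agent.Lib.Helper14.locallyConnectedSpace_of_locally_noetherian
  intro x
  obtain ⟨_, ⟨W, hW, rfl⟩, hxW, -⟩ := X.isBasis_affineOpens.exists_subset_of_mem_open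
    (Set.mem_univ x) isOpen_univ
  replace hW : IsAffineOpen W := hW
  have : IsNoetherianRing Γ(X, W) := IsLocallyNoetherian.component_noetherian ⟨W, hW⟩
  exact ⟨W, W.isOpen.mem_nhds hxW, noetherianSpace_of_isAffineOpen W hW⟩

/-- finiteness of a fibre passes to the base change along a surjection onto the point. -/
theorem finite_fibre_of_finite_fibre_snd {Z S S' : Scheme.{u}} (q : Z ⟶ S) (f : S' ⟶ S) (s' : S')
    (h : ((pullback.snd q f) ⁻¹' {s'}).Finite) : (q ⁻¹' {f s'}).Finite := by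
  refine (h.image (pullback.fst q f)).subset ?_
  intro x hx
  obtain ⟨y, hy1, hy2⟩ := Scheme.Pullback.exists_preimage_pullback (f := q) (g := f) x s' hx
  exact ⟨y, hy2, hy1⟩

/-- finiteness of a fibre passes to an etale base change. -/
theorem finite_fibre_snd_of_finite_fibre {Z S S' : Scheme.{u}} [IsLocallyNoetherian S']
    (q : Z ⟶ S) (f : S' ⟶ S) [Etale f] (s' : S') (h : (q ⁻¹' {f s'}).Finite) :
    ((pullback.snd q f) ⁻¹' {s'}).Finite := by
  obtain ⟨W, hW, hsW⟩ : ∃ W : S'.Opens, IsAffineOpen W ∧ s' ∈ W := by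
    obtain ⟨_, ⟨W, hW, rfl⟩, hsW, -⟩ := S'.isBasis_affineOpens.exists_subset_of_mem_open
      (Set.mem_univ s') isOpen_univ
    exact ⟨W, hW, hsW⟩
  have : IsNoetherianRing Γ(S', W) := IsLocallyNoetherian.component_noetherian ⟨W, hW⟩
  have hN : TopologicalSpace.NoetherianSpace W := noetherianSpace_of_isAffineOpen W hW
  have hqc : QuasiCompact (W.ι ≫ f) :=
    ⟨fun _ _ _ => TopologicalSpace.NoetherianSpace.isCompact _⟩
  have hlqf : LocallyQuasiFinite (W.ι ≫ f) := lqf_of_etale _
  obtain ⟨j, hj⟩ : ∃ j : pullback q (W.ι ≫ f) ⟶ pullback q f,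
      j = pullback.lift (pullback.fst _ _) (pullback.snd _ _ ≫ W.ι)
        (by rw [Category.assoc, pullback.condition]) := ⟨_, rfl⟩
  have hj1 : j ≫ pullback.fst q f = pullback.fst q (W.ι ≫ f) := by rw [hj, pullback.lift_fst]
  have hj2 : j ≫ pullback.snd q f = pullback.snd q (W.ι ≫ f) ≫ W.ι := by
    rw [hj, pullback.lift_snd]
  have hpb : IsPullback j (pullback.snd q (W.ι ≫ f)) (pullback.snd q f) W.ι := by
    refine IsPullback.of_right ?_ hj2 (IsPullback.of_hasPullback q f)
    rw [hj1]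
    exact IsPullback.of_hasPullback q (W.ι ≫ f)
  have hfin := (pullback.fst q (W.ι ≫ f)).finite_preimage h
  refine (hfin.image j).subset ?_
  intro y hy
  have hy' : pullback.snd q f y = W.ι ⟨s', hsW⟩ := hy
  obtain ⟨y', hy1, hy2⟩ := exists_preimage_of_isPullback hpb y ⟨s', hsW⟩ hy'
  refine ⟨y', ?_, hy1⟩
  change q (pullback.fst q (W.ι ≫ f) y') = f s'
  rw [← hj1, Scheme.Hom.comp_apply, hy1, ← Scheme.Hom.comp_apply, pullback.condition,
    Scheme.Hom.comp_apply, hy']
  rfl

/-- the base change of a subscheme of a twisted constant scheme to a trivialising base, as a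
subscheme of a constant scheme. -/
lemma exists_zeta {S : Scheme.{u}} (R : Over S) {Z : Scheme.{u}} (z : Z ⟶ R.left)
    {Sk : Scheme.{u}} (g : Sk ⟶ S) {J : Type u} (e : Red.bc g R ≅ TwC.const Sk J) :
    ∃ ζ : pullback (z ≫ R.hom) g ⟶ ∐ fun _ : J => Sk,
      (IsClosedImmersion z → IsClosedImmersion ζ) ∧ (IsOpenImmersion z → IsOpenImmersion ζ) ∧
        ζ ≫ (Sigma.desc fun _ : J => 𝟙 Sk) = pullback.snd (z ≫ R.hom) g := by
  obtain ⟨z', hz'⟩ : ∃ z' : pullback (z ≫ R.hom) g ⟶ pullback R.hom g,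
      z' = pullback.lift (pullback.fst (z ≫ R.hom) g ≫ z) (pullback.snd _ _)
        (by rw [Category.assoc, pullback.condition]) := ⟨_, rfl⟩
  have hz1 : z' ≫ pullback.fst R.hom g = pullback.fst (z ≫ R.hom) g ≫ z := by
    rw [hz', pullback.lift_fst]
  have hz2 : z' ≫ pullback.snd R.hom g = pullback.snd (z ≫ R.hom) g := by
    rw [hz', pullback.lift_snd]
  have hpb : IsPullback z' (pullback.fst (z ≫ R.hom) g) (pullback.fst R.hom g) z := by
    refine IsPullback.of_right ?_ hz1 (IsPullback.of_hasPullback R.hom g).flip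
    rw [hz2]
    exact (IsPullback.of_hasPullback (z ≫ R.hom) g).flip
  refine ⟨z' ≫ e.hom.left, fun h => ?_, fun h => ?_, ?_⟩
  · have : IsClosedImmersion z' :=
      MorphismProperty.of_isPullback (P := @IsClosedImmersion) hpb.flip h
    infer_instance
  · have : IsOpenImmersion z' :=
      MorphismProperty.of_isPullback (P := @IsOpenImmersion) hpb.flip h
    infer_instance
  · rw [Category.assoc]
    have := Over.w e.hom
    dsimp at this
    rw [this, hz2]

/-- for a clopen subscheme of a twisted constant scheme and an etale trivialisation, finiteness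
of a fibre is read off from the number of components met. -/
lemma exists_zeta_finite_iff {S : Scheme.{u}} [IsLocallyNoetherian S] (R : Over S)
    {Z : Scheme.{u}} (z : Z ⟶ R.left) [IsOpenImmersion z] [IsClosedImmersion z]
    {Sk : Scheme.{u}} (g : Sk ⟶ S) [Etale g] {J : Type u} (e : Red.bc g R ≅ TwC.const Sk J) :
    ∃ ζ : pullback (z ≫ R.hom) g ⟶ ∐ fun _ : J => Sk,
      IsClosedImmersion ζ ∧ IsOpenImmersion ζ ∧
        ζ ≫ (Sigma.desc fun _ : J => 𝟙 Sk) = pullback.snd (z ≫ R.hom) g ∧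
          ∀ s' : Sk, ((z ≫ R.hom) ⁻¹' {g s'}).Finite ↔ (Nset ζ s').Finite := by
  obtain ⟨ζ, h1, h2, h3⟩ := exists_zeta R z g e
  have hcl := h1 inferInstance
  have hop := h2 inferInstance
  have : IsLocallyNoetherian Sk := LocallyOfFiniteType.isLocallyNoetherian g
  refine ⟨ζ, hcl, hop, h3, fun s' => ?_⟩
  rw [← finite_fibre_iff ζ s', h3]
  exact ⟨finite_fibre_snd_of_finite_fibre _ g s', finite_fibre_of_finite_fibre_snd _ g s'⟩

/-- a clopen subscheme of a quasi-isotrivial twisted constant scheme over a connected locally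
Noetherian base with one finite fibre is finite over the base. -/
theorem isFinite_of_clopen_sub_twConst {S : Scheme.{u}} [IsLocallyNoetherian S]
    [ConnectedSpace S] (P : Over S) (hP : TwC.IsTwConst TwC.Topology.etale P)
    {Z : Scheme.{u}} (z : Z ⟶ P.left) [IsOpenImmersion z] [IsClosedImmersion z]
    (hs : ∃ s : S, Set.Finite ((z ≫ P.hom) ⁻¹' {s})) : IsFinite (z ≫ P.hom) := by
  have hP' : ∀ s : S, ∃ (S' : Scheme.{u}) (f : S' ⟶ S), Etale f ∧ s ∈ Set.range f ∧
      ∃ I : Type u, Nonempty (Red.bc f P ≅ TwC.const S' I) := hP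
  choose S' f hfet hsurj I e using hP'
  have hlc : IsLocallyConstant fun t : S => ((z ≫ P.hom) ⁻¹' {t}).Finite := by
    rw [IsLocallyConstant.iff_exists_open]
    intro t
    obtain ⟨s', hs'⟩ := hsurj t
    have := hfet t
    obtain ⟨e'⟩ := e t
    obtain ⟨ζ, hcl, hop, -, hiff⟩ := exists_zeta_finite_iff P z (f t) e'
    have : IsLocallyNoetherian (S' t) := LocallyOfFiniteType.isLocallyNoetherian (f t)
    have := locallyConnectedSpace_of_isLocallyNoetherian (S' t)
    refine ⟨(f t) '' connectedComponent s', (f t).isOpenMap _ isOpen_connectedComponent,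
      ⟨s', mem_connectedComponent, hs'⟩, ?_⟩
    rintro _ ⟨s'', hs'', rfl⟩
    rw [show ((z ≫ P.hom) ⁻¹' {t}).Finite = ((z ≫ P.hom) ⁻¹' {(f t) s'}).Finite by rw [hs']]
    apply propext
    rw [hiff, hiff, Nset_eq_of_mem_connectedComponent ζ hs'']
  have hall : ∀ t : S, ((z ≫ P.hom) ⁻¹' {t}).Finite := by
    obtain ⟨s₀, hs₀⟩ := hs
    intro t
    have := hlc.apply_eq_of_preconnectedSpace t s₀
    exact this ▸ hs₀
  have hcov : Presieve.ofArrows S' f ∈ Scheme.fpqcPrecoverage S := by
    refine Scheme.fppfPrecoverage_le_fpqcPrecoverage _ ?_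
    rw [Scheme.fppfPrecoverage, Scheme.ofArrows_mem_precoverage_iff]
    refine ⟨fun t => ⟨t, hsurj t⟩, fun t => ?_⟩
    have := hfet t
    exact ⟨inferInstance, inferInstance⟩
  refine Groth.Agent.Lib.Helper12.of_mem_fpqcPrecoverage (P := @IsFinite)
    Groth.Agent.Lib.Helper12.descendsAlong_isFinite (z ≫ P.hom) _ hcov ?_
  rintro Y' _ ⟨t⟩
  have := hfet t
  obtain ⟨e'⟩ := e t
  obtain ⟨ζ, hcl, hop, hζ, hiff⟩ := exists_zeta_finite_iff P z (f t) e'
  have : IsLocallyNoetherian (S' t) := LocallyOfFiniteType.isLocallyNoetherian (f t)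
  have := locallyConnectedSpace_of_isLocallyNoetherian (S' t)
  rw [← hζ]
  exact isFinite_of_clopen_sub_const ζ fun x => (hiff x).mp (hall _)

end Groth.Agent.Lib.Helper15ClopConst
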