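-- helper15: etale equivariant morphisms reflect fixed points of groups with connected fibres
import Mathlib
import Groth.Agent.Lib.Helper12GeomConn
import Groth.Agent.Lib.Helper15ClopConst
import Groth.Prelude.Def_AlgGrp
import Groth.Prelude.Def_ChGrp
set_option autoImplicit false
universe u
open CategoryTheory CategoryTheory.Limits AlgebraicGeometry MonoidalCategory CartesianMonoidalCategory
  MonObj GrpObj

namespace Groth.Agent.Lib.Helper15EtFix

/-- a section of an etale morphism is an open immersion. -/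
theorem isOpenImmersion_of_section {E T : Scheme.{u}} (p : E ⟶ T) [Etale p] (σ : T ⟶ E)
    (hσ : σ ≫ p = 𝟙 T) : IsOpenImmersion σ := by
  have h1 : MorphismProperty.HasOfPostcompProperty @IsOpenImmersion @Etale := by
    rw [MorphismProperty.hasOfPostcompProperty_iff_le_diagonal]
    intro X Y f hf
    have : Etale f := hf
    exact FormallyUnramified.isOpenImmersion_diagonal (f := f)
  exact MorphismProperty.of_postcomp (W := @IsOpenImmersion) (W' := @Etale) σ p inferInstance
    (by rw [hσ]; infer_instance)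

/-- a preconnected subset of a discrete subset is a subsingleton. -/
lemma subsingleton_of_isPreconnected_of_isDiscrete {A : Type*} [TopologicalSpace A] {C D : Set A}
    (hC : _root_.IsPreconnected C) (hD : IsDiscrete D) (hCD : C ⊆ D) : C.Subsingleton := by
  have h1 : IsDiscrete C := hD.mono hCD
  rw [isDiscrete_iff_discreteTopology] at h1
  rw [isPreconnected_iff_preconnectedSpace] at hC
  have : Subsingleton ↥C := PreconnectedSpace.trivial_of_discrete
  exact Set.subsingleton_coe C |>.mp this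

/-- **Rigidity for maps to etale schemes**: a map over `T` from a `T`-scheme with connected fibres
and a section to an etale `T`-scheme is constant along the fibres. -/
theorem eq_comp_section_of_connected_fibres {P T E : Scheme.{u}} (π : P ⟶ T) (ε : T ⟶ P)
    (hε : ε ≫ π = 𝟙 T) (hconn : ∀ t : T, _root_.IsPreconnected (π ⁻¹' {t}))
    (p : E ⟶ T) [Etale p] (σ : T ⟶ E) (hσ : σ ≫ p = 𝟙 T) (Φ : P ⟶ E) (hΦ : Φ ≫ p = π)
    (hεΦ : ε ≫ Φ = σ) : Φ = π ≫ σ := by
  have hopen : IsOpenImmersion σ := isOpenImmersion_of_section p σ hσ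
  have hlqf : LocallyQuasiFinite p := Groth.Agent.Lib.Helper15ClopConst.lqf_of_etale p
  have hrange : Set.range Φ ⊆ Set.range σ := by
    rintro _ ⟨z, rfl⟩
    obtain ⟨t, ht⟩ : ∃ t, t = π z := ⟨_, rfl⟩
    have hC : _root_.IsPreconnected (Φ '' (π ⁻¹' {t})) :=
      (hconn t).image _ Φ.continuous.continuousOn
    have hCD : Φ '' (π ⁻¹' {t}) ⊆ p ⁻¹' {t} := by
      rintro _ ⟨z', hz', rfl⟩
      show p (Φ z') = t
      rw [← Scheme.Hom.comp_apply, hΦ]
      exact hz'
    have hsub := subsingleton_of_isPreconnected_of_isDiscrete hC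
      (p.isDiscrete_preimage_singleton t) hCD
    have h1 : Φ z ∈ Φ '' (π ⁻¹' {t}) := ⟨z, ht.symm, rfl⟩
    have h2 : Φ (ε t) ∈ Φ '' (π ⁻¹' {t}) := by
      refine ⟨ε t, ?_, rfl⟩
      show π (ε t) = t
      rw [← Scheme.Hom.comp_apply, hε]
      rfl
    rw [hsub h1 h2, ← Scheme.Hom.comp_apply, hεΦ]
    exact ⟨t, rfl⟩
  obtain ⟨w, hw⟩ : ∃ w : P ⟶ T, w ≫ σ = Φ :=
    ⟨IsOpenImmersion.lift σ Φ hrange, IsOpenImmersion.lift_fac _ _ _⟩
  have hwπ : w = π := by
    calc w = w ≫ σ ≫ p := by rw [hσ, Category.comp_id]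
      _ = π := by rw [← Category.assoc, hw, hΦ]
  rw [← hw, hwπ]


/-- a group scheme with connected fibres has geometrically connected structure morphism. -/
theorem geometricallyConnected_of_grpObj {S : Scheme.{u}} (G : Over S) [GrpObj G]
    (hconn : ∀ s : S, ConnectedSpace (G.hom.fiber s)) : GeometricallyConnected G.hom := by
  rw [GeometricallyConnected.iff_geometricallyConnected_fiber]
  intro s
  have hη : (η[G]).left ≫ G.hom = 𝟙 S := by
    exact Over.w (η[G])
  have _ := hconn s
  refine Groth.Agent.Lib.Helper12.GeomConn.geometricallyConnected_of_section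
    (k := S.residueField s) (G.hom.fiberToSpecResidueField s)
    (pullback.lift (S.fromSpecResidueField s ≫ (η[G]).left) (𝟙 _) ?_) ?_
  · rw [Category.assoc, hη, Category.comp_id, Category.id_comp]
  · exact pullback.lift_snd _ _ _

variable {S : Scheme.{u}} {G X Y : Over S} [GrpObj G]

/-- **Etale equivariant morphisms reflect fixed points**, for a group with connected fibres. -/
theorem isFixedPt_of_comp_etale (hconn : ∀ s : S, ConnectedSpace (G.hom.fiber s))
    (a : AlgGrp.Action G X) (b : AlgGrp.Action G Y) (f : X ⟶ Y) [Etale f.left]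
    (hf : a.act ≫ f = (G ◁ f) ≫ b.act) (T : Over S) (x : T ⟶ X)
    (hx : ∀ (T' : Over S) (t : T' ⟶ T) (g : T' ⟶ G),
      lift g (t ≫ x ≫ f) ≫ b.act = t ≫ x ≫ f)
    (g : T ⟶ G) : lift g x ≫ a.act = x := by
  have hgc : GeometricallyConnected G.hom := geometricallyConnected_of_grpObj G hconn
  obtain ⟨Φ, hΦ⟩ : ∃ Φ : G ⊗ T ⟶ X, Φ = (G ◁ x) ≫ a.act := ⟨_, rfl⟩
  have hΦf : Φ ≫ f = snd G T ≫ x ≫ f := by
    rw [hΦ, Category.assoc, hf, ← whiskerLeft_comp_assoc]
    have := hx (G ⊗ T) (snd G T) (fst G T)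
    rw [← this]
    congr 1
  obtain ⟨π, hπ⟩ : ∃ π : (G ⊗ T).left ⟶ T.left, π = (snd G T).left := ⟨_, rfl⟩
  have hπgc : GeometricallyConnected π := by
    rw [hπ, Over.snd_left]
    infer_instance
  obtain ⟨ε, hε⟩ : ∃ ε : T ⟶ G ⊗ T, ε = lift (toUnit T ≫ η[G]) (𝟙 T) := ⟨_, rfl⟩
  have hεπ : ε.left ≫ π = 𝟙 T.left := by
    rw [hπ, ← Over.comp_left, hε, lift_snd]
    rfl
  have hεΦ : ε ≫ Φ = x := by
    rw [hε, hΦ, lift_whiskerLeft_assoc, Category.id_comp, ← Hom.one_def, 
      AlgGrp.Action.lift_one_act]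
  have key := eq_comp_section_of_connected_fibres π ε.left hεπ
    (fun t => (π.isConnected_preimage_singleton t).isPreconnected)
    (pullback.snd f.left (x ≫ f).left)
    (pullback.lift x.left (𝟙 _) (by simp)) (pullback.lift_snd _ _ _)
    (pullback.lift Φ.left π (by
      rw [← Over.comp_left, hΦf, hπ]
      simp)) (pullback.lift_snd _ _ _) (by
      apply pullback.hom_ext
      · rw [Category.assoc, pullback.lift_fst, pullback.lift_fst, ← Over.comp_left, hεΦ]
      · rw [Category.assoc, pullback.lift_snd, pullback.lift_snd, hεπ])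
  have hΦx : Φ = snd G T ≫ x := by
    apply Over.OverMorphism.ext
    have := congr($key ≫ pullback.fst f.left (x ≫ f).left)
    rw [pullback.lift_fst, Category.assoc, pullback.lift_fst] at this
    rw [this, hπ, Over.comp_left]
  calc lift g x ≫ a.act = lift g (𝟙 T) ≫ Φ := by
        rw [hΦ, lift_whiskerLeft_assoc, Category.id_comp]
    _ = x := by rw [hΦx, lift_snd_assoc, Category.id_comp]

end Groth.Agent.Lib.Helper15EtFix
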