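-- helper15: normal subgroups of multiplicative type of groups with connected fibres are central
import Mathlib
import Groth.Agent.Lib.Helper15GrpLike
import Groth.Agent.Lib.Helper15DiagRigidLoc
import Groth.Agent.Lib.Helper15EtFix
import Groth.Prelude.Def_SGA3x
set_option autoImplicit false
universe u
open CategoryTheory CategoryTheory.Limits AlgebraicGeometry MonoidalCategory CartesianMonoidalCategory
  MonObj GrpObj

namespace Groth.Agent.Lib.Helper15NormCentral

section BC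

variable {S U : Scheme.{u}} (f : U ⟶ S) {A B Z : Over S}

/-- points form of the base change of a morphism out of a product. -/
lemma lift_homEquiv_bc (c : A ⊗ B ⟶ Z) {T' : Over U} (a : (Over.map f).obj T' ⟶ A)
    (b : (Over.map f).obj T' ⟶ B) :
    lift ((Over.mapPullbackAdj f).homEquiv T' A a) ((Over.mapPullbackAdj f).homEquiv T' B b) ≫
      (Functor.LaxMonoidal.μ (Over.pullback f) A B ≫ (Over.pullback f).map c) =
      (Over.mapPullbackAdj f).homEquiv T' Z (lift a b ≫ c) := by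
  simp only [Adjunction.homEquiv_unit]
  rw [← comp_lift_assoc, Functor.Monoidal.lift_μ_assoc, ← Functor.map_comp]

/-- the adjunction bijection preserves the unit of the groups of points. -/
lemma homEquiv_one {G : Over S} [GrpObj G] {T' : Over U} :
    (Over.mapPullbackAdj f).homEquiv T' G (1 : (Over.map f).obj T' ⟶ G) = 1 := by
  obtain ⟨g, hg⟩ : ∃ g : T' ⟶ Red.bc f G,
      g = (Over.mapPullbackAdj f).homEquiv T' G (1 : (Over.map f).obj T' ⟶ G) := ⟨_, rfl⟩
  rw [← hg]
  have h : g * g = g := by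
    rw [hg, ← AlgGrp.Action.homEquiv_mul, _root_.mul_one]
  have h2 : g * g = g * 1 := by rw [h]; exact (_root_.mul_one g).symm
  exact @mul_left_cancel _ _ (@LeftCancelSemigroup.toIsLeftCancelMul _
    (@LeftCancelMonoid.toLeftCancelSemigroup _ (@CancelMonoid.toLeftCancelMonoid _
      (@Group.toCancelMonoid _ Hom.group)))) _ _ _ h2

end BC

/-- two morphisms over `S` agreeing on points over the members of an fpqc family are equal. -/
theorem hom_ext_of_fpqc_family {S : Scheme.{u}} {W Z : Over S} (φ₁ φ₂ : W ⟶ Z) {J : Type u}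
    {Sk : J → Scheme.{u}} (gk : ∀ k, Sk k ⟶ S)
    (hcov : Presieve.ofArrows Sk gk ∈ Scheme.fpqcPrecoverage S)
    (hloc : ∀ (k : J) (Y' : Over (Sk k)) (w : (Over.map (gk k)).obj Y' ⟶ W),
      w ≫ φ₁ = w ≫ φ₂) : φ₁ = φ₂ := by
  apply Over.OverMorphism.ext
  refine Groth.Agent.Lib.Helper15FixFpqc.hom_ext_of_fpqc _ _ _
    (Precoverage.pullbackArrows_mem W.hom hcov) ?_
  rintro Q _ ⟨T', τ, ⟨k⟩⟩
  obtain ⟨j, hj⟩ : ∃ j : (Over.map (gk k)).obj (Over.mk (pullback.fst (gk k) W.hom)) ⟶ W,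
      j.left = pullback.snd (gk k) W.hom :=
    ⟨Over.homMk (pullback.snd (gk k) W.hom) (by simp [pullback.condition]), rfl⟩
  have key := congrArg (fun z => z.left) (hloc k _ j)
  simp only [Over.comp_left] at key
  rw [hj] at key
  exact key


section Member

variable {S U : Scheme.{u}} (f : U ⟶ S) (K H : Over S) [GrpObj K] [GrpObj H]
  (c : K ⊗ H ⟶ H)
  (h1 : ∀ (Y : Over S) (h : Y ⟶ H), lift (1 : Y ⟶ K) h ≫ c = h)
  (hmul : ∀ (Y : Over S) (k : Y ⟶ K) (h h' : Y ⟶ H),
    lift k (h * h') ≫ c = (lift k h ≫ c) * (lift k h' ≫ c))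
  (hconn : ∀ u : U, _root_.IsPreconnected ((Red.bc f K).hom ⁻¹' {u}))
  (M : Type) [AddCommGroup M] (e : Grp.mk (Red.bc f H) ≅ Grp.mk (Red.DS U M))

include h1 hmul hconn e in
/-- over a base on which `H` becomes diagonalisable, a family of endomorphisms of `H`
parametrised by a group with connected fibres is trivial. -/
theorem comp_eq_of_iso (Y' : Over U) (k : (Over.map f).obj Y' ⟶ K)
    (h : (Over.map f).obj Y' ⟶ H) : lift k h ≫ c = h := by
  obtain ⟨ψ, hψ⟩ : ∃ ψ : Red.DS U M ⟶ Red.bc f H, ψ = e.inv.hom.hom := ⟨_, rfl⟩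
  have hψm : IsMonHom ψ := by rw [hψ]; infer_instance
  obtain ⟨ψ', hψ'⟩ : ∃ ψ' : Red.bc f H ⟶ Red.DS U M, ψ' = e.hom.hom.hom := ⟨_, rfl⟩
  have hψ'm : IsMonHom ψ' := by rw [hψ']; infer_instance
  have hψψ : ψ' ≫ ψ = 𝟙 _ := by
    rw [hψ, hψ']
    have := e.hom_inv_id
    exact congr($(this).hom.hom)
  have hψψ' : ψ ≫ ψ' = 𝟙 _ := by
    rw [hψ, hψ']
    have := e.inv_hom_id
    exact congr($(this).hom.hom)
  obtain ⟨c', hc'⟩ : ∃ c' : Red.bc f K ⊗ Red.DS U M ⟶ Red.DS U M,
      c' = (Red.bc f K ◁ ψ) ≫ Functor.LaxMonoidal.μ (Over.pullback f) K H ≫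
        (Over.pullback f).map c ≫ ψ' := ⟨_, rfl⟩
  have key : ∀ (T' : Over U) (k₀ : (Over.map f).obj T' ⟶ K) (h₀ : (Over.map f).obj T' ⟶ H),
      lift ((Over.mapPullbackAdj f).homEquiv T' K k₀)
        ((Over.mapPullbackAdj f).homEquiv T' H h₀ ≫ ψ') ≫ c' =
        (Over.mapPullbackAdj f).homEquiv T' H (lift k₀ h₀ ≫ c) ≫ ψ' := by
    intro T' k₀ h₀
    rw [hc', lift_whiskerLeft_assoc, Category.assoc, hψψ, Category.comp_id,
      ← lift_homEquiv_bc f c k₀ h₀]
    simp only [Category.assoc]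
  have hk_surj : ∀ (T' : Over U) (k' : T' ⟶ Red.bc f K),
      ∃ k₀, (Over.mapPullbackAdj f).homEquiv T' K k₀ = k' :=
    fun T' k' => ⟨_, Equiv.apply_symm_apply _ _⟩
  have hh_surj : ∀ (T' : Over U) (h' : T' ⟶ Red.DS U M),
      ∃ h₀, (Over.mapPullbackAdj f).homEquiv T' H h₀ ≫ ψ' = h' := by
    intro T' h'
    refine ⟨((Over.mapPullbackAdj f).homEquiv T' H).symm (h' ≫ ψ), ?_⟩
    rw [Equiv.apply_symm_apply, Category.assoc, hψψ', Category.comp_id]
  have h1' : ∀ (T' : Over U) (h' : T' ⟶ Red.DS U M),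
      lift (1 : T' ⟶ Red.bc f K) h' ≫ c' = h' := by
    intro T' h'
    obtain ⟨h₀, rfl⟩ := hh_surj T' h'
    rw [← homEquiv_one f, key, h1]
  have hmul' : ∀ (T' : Over U) (k' : T' ⟶ Red.bc f K) (h' h'' : T' ⟶ Red.DS U M),
      lift k' (h' * h'') ≫ c' = (lift k' h' ≫ c') * (lift k' h'' ≫ c') := by
    intro T' k' h' h''
    obtain ⟨k₀, rfl⟩ := hk_surj T' k'
    obtain ⟨h₀, rfl⟩ := hh_surj T' h'
    obtain ⟨h₀', rfl⟩ := hh_surj T' h''
    rw [← MonObj.mul_comp, ← AlgGrp.Action.homEquiv_mul, key, key, key, hmul,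
      AlgGrp.Action.homEquiv_mul]
    exact MonObj.mul_comp _ _ ψ'
  have main := Groth.Agent.Lib.Helper15GrpLike.comp_eq_of_connected_fibres M c' hconn h1' hmul'
    Y' ((Over.mapPullbackAdj f).homEquiv Y' K k) ((Over.mapPullbackAdj f).homEquiv Y' H h ≫ ψ')
  rw [key] at main
  have main' := congr($main ≫ ψ)
  rw [Category.assoc, Category.assoc, hψψ, Category.comp_id, Category.comp_id] at main'
  exact ((Over.mapPullbackAdj f).homEquiv Y' H).injective main'

end Member


section Main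

variable {S : Scheme.{u}} (K H : Over S) [GrpObj K] [GrpObj H]

/-- a family of endomorphisms of a group of multiplicative type, parametrised by a group scheme
with connected fibres and trivial at the unit section, is trivial. -/
theorem comp_eq_of_multType (hconn : ∀ s : S, ConnectedSpace (K.hom.fiber s))
    (hH : TwC.Locally S TwC.Topology.fpqc (fun S' f => ∃ (M : Type) (_ : AddCommGroup M),
      Nonempty (Grp.mk (Red.bc f H) ≅ Grp.mk (Red.DS S' M))))
    (c : K ⊗ H ⟶ H)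
    (h1 : ∀ (Y : Over S) (h : Y ⟶ H), lift (1 : Y ⟶ K) h ≫ c = h)
    (hmul : ∀ (Y : Over S) (k : Y ⟶ K) (h h' : Y ⟶ H),
      lift k (h * h') ≫ c = (lift k h ≫ c) * (lift k h' ≫ c)) :
    c = snd K H := by
  have hgc : GeometricallyConnected K.hom :=
    Groth.Agent.Lib.Helper15EtFix.geometricallyConnected_of_grpObj K hconn
  obtain ⟨J, Sk, gk, hcov, hloc⟩ :=
    Groth.Agent.Lib.Helper15DiagRigidLoc.exists_fpqc_family _ hH
  refine hom_ext_of_fpqc_family c (snd K H) gk hcov ?_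
  intro k₀ Y' w
  obtain ⟨M, _, ⟨e⟩⟩ := hloc k₀
  have hconn' : ∀ u : Sk k₀, _root_.IsPreconnected ((Red.bc (gk k₀) K).hom ⁻¹' {u}) := by
    intro u
    have : GeometricallyConnected (Red.bc (gk k₀) K).hom := by
      show GeometricallyConnected (pullback.snd K.hom (gk k₀))
      infer_instance
    exact ((Red.bc (gk k₀) K).hom.isConnected_preimage_singleton u).isPreconnected
  have key := comp_eq_of_iso (gk k₀) K H c h1 hmul hconn' M e Y' (w ≫ fst K H) (w ≫ snd K H)
  rw [← comp_lift_assoc, lift_fst_snd, Category.id_comp] at key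
  exact key

/-- **a normal subgroup of multiplicative type of a group with connected fibres is central.** -/
theorem central_of_normal (hconn : ∀ s : S, ConnectedSpace (K.hom.fiber s))
    (hH : TwC.Locally S TwC.Topology.fpqc (fun S' f => ∃ (M : Type) (_ : AddCommGroup M),
      Nonempty (Grp.mk (Red.bc f H) ≅ Grp.mk (Red.DS S' M))))
    (i : H ⟶ K) [IsMonHom i] [Mono i] (hn : AlgGrp.IsNormalHom i)
    (X : Over S) (k : X ⟶ K) (h : X ⟶ H) : k * (h ≫ i) = (h ≫ i) * k := by
  obtain ⟨c, hc⟩ := hn (K ⊗ H) (fst K H) (snd K H)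
  have hpt : ∀ (Y : Over S) (k : Y ⟶ K) (h : Y ⟶ H),
      lift k h ≫ c ≫ i = k * (h ≫ i) * k⁻¹ := by
    intro Y k h
    rw [← hc, MonObj.comp_mul, MonObj.comp_mul, GrpObj.comp_inv, lift_fst, lift_snd_assoc]
  have h1 : ∀ (Y : Over S) (h : Y ⟶ H), lift (1 : Y ⟶ K) h ≫ c = h := by
    intro Y h
    rw [← cancel_mono i, Category.assoc, hpt, _root_.one_mul, inv_one, _root_.mul_one]
  have hmul : ∀ (Y : Over S) (k : Y ⟶ K) (h h' : Y ⟶ H),
      lift k (h * h') ≫ c = (lift k h ≫ c) * (lift k h' ≫ c) := by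
    intro Y k h h'
    rw [← cancel_mono i, Category.assoc, hpt, MonObj.mul_comp, MonObj.mul_comp, Category.assoc,
      Category.assoc, hpt, hpt]
    simp only [_root_.mul_assoc, inv_mul_cancel_left]
  have hcs := comp_eq_of_multType K H hconn hH c h1 hmul
  have := hpt X k h
  rw [hcs, lift_snd_assoc] at this
  exact (mul_inv_eq_iff_eq_mul.mp this.symm)

end Main

end Groth.Agent.Lib.Helper15NormCentral
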