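-- helper15: descent datum on local representing objects of a presheaf on schemes over a base
import Mathlib
import Groth.Prelude.Def_DescFam
import Groth.Prelude.Def_MoreMor
set_option autoImplicit false
universe u
open CategoryTheory CategoryTheory.Limits AlgebraicGeometry Opposite

namespace Groth.Agent.Lib.Helper15RepGlue

open Desc

variable {S : Scheme.{u}} (P : (Over S)ᵒᵖ ⥤ Type u) {ι : Type u} {X : ι → Scheme.{u}}
  (g : ∀ i, X i ⟶ S) (A : ∀ i, Over (X i))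
  (rep : ∀ i, ((Over.map (g i)).op ⋙ P).RepresentableBy (A i))

/-- the scheme `T` over `S` through a point of a member of the family. -/
abbrev ov {T : Scheme.{u}} (i : ι) (x : T ⟶ X i) : Over S := (Over.map (g i)).obj (Over.mk x)

/-- change of the member of the family through which a scheme over `S` is seen. -/
def tr {T : Scheme.{u}} {i j : ι} (x₀ : T ⟶ X i) (x₁ : T ⟶ X j) (h : x₀ ≫ g i = x₁ ≫ g j) :
    ov g i x₀ ⟶ ov g j x₁ :=
  Over.homMk (𝟙 T) (by simpa using h.symm)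

lemma tr_self {T : Scheme.{u}} {i : ι} (x : T ⟶ X i) : tr g x x rfl = 𝟙 _ := by
  apply Over.OverMorphism.ext
  rfl

lemma tr_comp {T : Scheme.{u}} {i j k : ι} (x₀ : T ⟶ X i) (x₁ : T ⟶ X j) (x₂ : T ⟶ X k)
    (h₀₁ : x₀ ≫ g i = x₁ ≫ g j) (h₁₂ : x₁ ≫ g j = x₂ ≫ g k) :
    tr g x₀ x₁ h₀₁ ≫ tr g x₁ x₂ h₁₂ = tr g x₀ x₂ (h₀₁.trans h₁₂) := by
  apply Over.OverMorphism.ext
  simp [tr]

/-- the morphism over a member of the family induced by a morphism of test schemes. -/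
def pb {T T' : Scheme.{u}} {i : ι} (γ : T' ⟶ T) (x : T ⟶ X i) :
    (Over.mk (γ ≫ x) : Over (X i)) ⟶ Over.mk x := Over.homMk γ rfl

lemma pb_tr {T T' : Scheme.{u}} {i j : ι} (γ : T' ⟶ T) (x₀ : T ⟶ X i) (x₁ : T ⟶ X j)
    (h : x₀ ≫ g i = x₁ ≫ g j) (h' : (γ ≫ x₀) ≫ g i = (γ ≫ x₁) ≫ g j) :
    tr g (γ ≫ x₀) (γ ≫ x₁) h' ≫ (Over.map (g j)).map (pb γ x₁) =
      (Over.map (g i)).map (pb γ x₀) ≫ tr g x₀ x₁ h := by
  apply Over.OverMorphism.ext
  simp [tr, pb]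

variable {P g A}

/-- the section of `P` attached to a point of `A i`. -/
def sec {T : Scheme.{u}} {i : ι} (x : T ⟶ X i) (v : Lifts (A i) x) : P.obj (op (ov g i x)) :=
  (rep i).homEquiv (Over.homMk v.1 v.2 : Over.mk x ⟶ A i)

/-- the point of `A i` attached to a section of `P`. -/
def unsec {T : Scheme.{u}} {i : ι} (x : T ⟶ X i) (ξ : P.obj (op (ov g i x))) : Lifts (A i) x :=
  ⟨((rep i).homEquiv.symm ξ).left, Over.w ((rep i).homEquiv.symm ξ)⟩

lemma unsec_sec {T : Scheme.{u}} {i : ι} (x : T ⟶ X i) (v : Lifts (A i) x) :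
    unsec rep x (sec rep x v) = v := by
  apply Subtype.ext
  simp [unsec, sec]

lemma sec_unsec {T : Scheme.{u}} {i : ι} (x : T ⟶ X i) (ξ : P.obj (op (ov g i x))) :
    sec rep x (unsec rep x ξ) = ξ := by
  unfold sec unsec
  have : (Over.homMk ((rep i).homEquiv.symm ξ).left (Over.w _) : Over.mk x ⟶ A i) =
      (rep i).homEquiv.symm ξ := by
    apply Over.OverMorphism.ext
    rfl
  rw [this, Equiv.apply_symm_apply]

lemma sec_comp {T T' : Scheme.{u}} {i : ι} (γ : T' ⟶ T) (x : T ⟶ X i) (v : Lifts (A i) x)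
    (v' : Lifts (A i) (γ ≫ x)) (hv' : v'.1 = γ ≫ v.1) :
    sec rep (γ ≫ x) v' = P.map ((Over.map (g i)).map (pb γ x)).op (sec rep x v) := by
  unfold sec
  have : (Over.homMk v'.1 v'.2 : Over.mk (γ ≫ x) ⟶ A i) =
      pb γ x ≫ (Over.homMk v.1 v.2 : Over.mk x ⟶ A i) := by
    apply Over.OverMorphism.ext
    simp [pb, hv']
  rw [this, (rep i).homEquiv_comp]
  rfl

lemma unsec_comp {T T' : Scheme.{u}} {i : ι} (γ : T' ⟶ T) (x : T ⟶ X i)
    (ξ : P.obj (op (ov g i x))) :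
    (unsec rep (γ ≫ x) (P.map ((Over.map (g i)).map (pb γ x)).op ξ)).1 =
      γ ≫ (unsec rep x ξ).1 := by
  unfold unsec
  have h := (rep i).comp_homEquiv_symm ξ (pb γ x)
  have h2 := congrArg (fun z => z.left) h
  simp only [Over.comp_left] at h2
  exact h2.symm

lemma map_tr_tr {T : Scheme.{u}} {i j k : ι} (x₀ : T ⟶ X i) (x₁ : T ⟶ X j) (x₂ : T ⟶ X k)
    (h₀₁ : x₀ ≫ g i = x₁ ≫ g j) (h₁₂ : x₁ ≫ g j = x₂ ≫ g k) (ξ : P.obj (op (ov g k x₂))) :
    P.map (tr g x₀ x₁ h₀₁).op (P.map (tr g x₁ x₂ h₁₂).op ξ) =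
      P.map (tr g x₀ x₂ (h₀₁.trans h₁₂)).op ξ := by
  rw [← Functor.map_comp_apply, ← op_comp, tr_comp]

lemma map_tr_self {T : Scheme.{u}} {i : ι} (x : T ⟶ X i) (ξ : P.obj (op (ov g i x))) :
    P.map (tr g x x rfl).op ξ = ξ := by
  rw [tr_self, op_id, Functor.map_id_apply]

/-- the descent datum on the local representing objects. -/
noncomputable def dd : SchDDFam g where
  obj := A
  φ T i j x₀ x₁ h :=
    { toFun := fun v => unsec rep x₁ (P.map (tr g x₁ x₀ h.symm).op (sec rep x₀ v))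
      invFun := fun w => unsec rep x₀ (P.map (tr g x₀ x₁ h).op (sec rep x₁ w))
      left_inv := fun v => by
        beta_reduce
        rw [sec_unsec, map_tr_tr, map_tr_self, unsec_sec]
      right_inv := fun w => by
        beta_reduce
        rw [sec_unsec, map_tr_tr, map_tr_self, unsec_sec] }
  φ_natural T T' γ i j x₀ x₁ h y₀ y₁ hy₀ hy₁ h' v v' hv' := by
    subst hy₀ hy₁
    show (unsec rep (γ ≫ x₁) (P.map (tr g (γ ≫ x₁) (γ ≫ x₀) h'.symm).op
      (sec rep (γ ≫ x₀) v'))).1 = γ ≫ (unsec rep x₁ (P.map (tr g x₁ x₀ h.symm).op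
        (sec rep x₀ v))).1
    rw [sec_comp rep γ x₀ v v' hv', ← Functor.map_comp_apply, ← op_comp,
      pb_tr g γ x₁ x₀ h.symm h'.symm, op_comp, Functor.map_comp_apply, unsec_comp]
  φ_self T i x v := by
    show unsec rep x (P.map (tr g x x _).op (sec rep x v)) = v
    rw [map_tr_self, unsec_sec]
  φ_comp T i j k x₀ x₁ x₂ h₀₁ h₁₂ v := by
    show unsec rep x₂ (P.map (tr g x₂ x₁ _).op (sec rep x₁ (unsec rep x₁
      (P.map (tr g x₁ x₀ _).op (sec rep x₀ v))))) =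
      unsec rep x₂ (P.map (tr g x₂ x₀ _).op (sec rep x₀ v))
    rw [sec_unsec, map_tr_tr]

@[simp] lemma dd_obj (i : ι) : (dd rep).obj i = A i := rfl

lemma dd_φ {T : Scheme.{u}} {i j : ι} (x₀ : T ⟶ X i) (x₁ : T ⟶ X j)
    (h : x₀ ≫ g i = x₁ ≫ g j) (v : Lifts (A i) x₀) :
    (dd rep).φ x₀ x₁ h v = unsec rep x₁ (P.map (tr g x₁ x₀ h.symm).op (sec rep x₀ v)) := rfl

end Groth.Agent.Lib.Helper15RepGlue
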