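-- helper15: morphisms of descent data into local representing objects versus compatible sections
import Mathlib
import Groth.Agent.Lib.Helper15RepGlueA
import Groth.Agent.S7482
import Groth.Agent.S11719
set_option autoImplicit false
universe u
open CategoryTheory CategoryTheory.Limits AlgebraicGeometry Opposite

namespace Groth.Agent.Lib.Helper15RepGlue

open Desc

variable {S : Scheme.{u}} {P : (Over S)ᵒᵖ ⥤ Type u} {ι : Type u} {X : ι → Scheme.{u}}
  {g : ∀ i, X i ⟶ S} {A : ∀ i, Over (X i)}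
  (rep : ∀ i, ((Over.map (g i)).op ⋙ P).RepresentableBy (A i))

/-- the member over `X i` of the canonical descent datum of `T`. -/
noncomputable abbrev cmp (g : ∀ i, X i ⟶ S) (T : Over S) (i : ι) : Over (X i) :=
  Over.mk (pullback.fst (g i) T.hom)

/-- the projection of the pullback cover of `T`. -/
noncomputable def pr (g : ∀ i, X i ⟶ S) (T : Over S) (i : ι) :
    (Over.map (g i)).obj (cmp g T i) ⟶ T :=
  Over.homMk (pullback.snd (g i) T.hom) (by simp [pullback.condition])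

/-- the pullback cover of `T`. -/
noncomputable abbrev cov (g : ∀ i, X i ⟶ S) (T : Over S) : Presieve T :=
  Presieve.ofArrows (fun i => (Over.map (g i)).obj (cmp g T i)) (fun i => pr g T i)

/-- the comparison between a scheme over `S` and the same scheme seen through a member of the
family. -/
def zeta {Z : Over S} {i : ι} (x : Z.left ⟶ X i) (hx : x ≫ g i = Z.hom) : Z ⟶ ov g i x :=
  Over.homMk (𝟙 _) (by simpa using hx)

lemma zeta_tr {Z : Over S} {i j : ι} (x₀ : Z.left ⟶ X i) (x₁ : Z.left ⟶ X j)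
    (h₀ : x₀ ≫ g i = Z.hom) (h₁ : x₁ ≫ g j = Z.hom) :
    zeta x₁ h₁ ≫ tr g x₁ x₀ (h₁.trans h₀.symm) = zeta x₀ h₀ := by
  apply Over.OverMorphism.ext
  simp [zeta, tr]

/-- a family of morphisms from the members of the canonical descent datum of `T` to the local
representing objects is a morphism of descent data as soon as the corresponding sections of `P`
are compatible. -/
noncomputable def homOfCompatible (T : Over S)
    (x : ∀ i, P.obj (op ((Over.map (g i)).obj (cmp g T i))))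
    (hx : Presieve.Arrows.Compatible P (fun i => pr g T i) x) :
    (toDDFam g).obj T ⟶ dd rep where
  hom i := (rep i).homEquiv.symm (x i)
  comm T' i j x₀ x₁ h v₀ w₀ hw₀ := by
    obtain ⟨v, hv⟩ : ∃ v : Lifts (cmp g T i) x₀, v = v₀ := ⟨v₀, rfl⟩
    obtain ⟨w, hw1⟩ : ∃ w : Lifts (A i) x₀, w = w₀ := ⟨w₀, rfl⟩
    have hw : w.1 = v.1 ≫ ((rep i).homEquiv.symm (x i)).left := by rw [hw1, hv]; exact hw₀
    obtain ⟨v', hv'⟩ : ∃ v' : Lifts (cmp g T j) x₁, v' = (canonicalDDFam g T).φ x₀ x₁ h v :=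
      ⟨_, rfl⟩
    change ((dd rep).φ x₀ x₁ h w₀).1 = ((canonicalDDFam g T).φ x₀ x₁ h v₀).1 ≫
      ((rep j).homEquiv.symm (x j)).left
    rw [← hw1, ← hv, ← hv', dd_φ]
    have hsec₀ : sec rep x₀ w =
        P.map ((Over.map (g i)).map (Over.homMk v.1 v.2 : Over.mk x₀ ⟶ cmp g T i)).op (x i) := by
      unfold sec
      have : (Over.homMk w.1 w.2 : Over.mk x₀ ⟶ A i) =
          (Over.homMk v.1 v.2 : Over.mk x₀ ⟶ cmp g T i) ≫ (rep i).homEquiv.symm (x i) := by
        apply Over.OverMorphism.ext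
        exact hw
      rw [this, (rep i).homEquiv_comp, Equiv.apply_symm_apply]
      rfl
    have hc := hx i j (ov g j x₁)
      (tr g x₁ x₀ h.symm ≫ (Over.map (g i)).map (Over.homMk v.1 v.2 : Over.mk x₀ ⟶ cmp g T i))
      ((Over.map (g j)).map (Over.homMk v'.1 v'.2 : Over.mk x₁ ⟶ cmp g T j)) (by
        apply Over.OverMorphism.ext
        rw [hv']
        simp [tr, pr, canonicalDDFam]
        show v.1 ≫ _ = (canMapFam g T x₀ x₁ h v).1 ≫ _
        rw [canMapFam_val, pullback.lift_snd])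
    rw [op_comp, Functor.map_comp_apply, ← hsec₀] at hc
    rw [hc]
    have : P.map ((Over.map (g j)).map (Over.homMk v'.1 v'.2 : Over.mk x₁ ⟶ cmp g T j)).op (x j) =
        sec rep x₁ ⟨v'.1 ≫ ((rep j).homEquiv.symm (x j)).left, by
          rw [Category.assoc, Over.w]; exact v'.2⟩ := by
      unfold sec
      have : (Over.homMk (v'.1 ≫ ((rep j).homEquiv.symm (x j)).left) (by
          rw [Category.assoc, Over.w]; exact v'.2) : Over.mk x₁ ⟶ A j) =
          (Over.homMk v'.1 v'.2 : Over.mk x₁ ⟶ cmp g T j) ≫ (rep j).homEquiv.symm (x j) := by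
        apply Over.OverMorphism.ext
        rfl
      rw [this, (rep j).homEquiv_comp, Equiv.apply_symm_apply]
      rfl
    rw [this, unsec_sec]
    rfl

set_option linter.unusedVariables false in
lemma homOfCompatible_hom (T : Over S)
    (x : ∀ i, P.obj (op ((Over.map (g i)).obj (cmp g T i))))
    (hx : Presieve.Arrows.Compatible P (fun i => pr g T i) x) (i : ι) :
    (homOfCompatible rep T x hx).hom i = (rep i).homEquiv.symm (x i) := rfl


/-- the sections attached to a morphism of descent data into the local representing objects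
are compatible. -/
lemma compatible_of_hom (T : Over S) (θ₀ : (toDDFam g).obj T ⟶ dd rep) :
    Presieve.Arrows.Compatible P (fun i => pr g T i) (fun i => (rep i).homEquiv (θ₀.hom i)) := by
  obtain ⟨θ, hθ⟩ : ∃ θ : ∀ i, cmp g T i ⟶ A i, θ = θ₀.hom := ⟨_, rfl⟩
  have hcm : ∀ ⦃T' : Scheme.{u}⦄ ⦃i j : ι⦄ (x₀ : T' ⟶ X i) (x₁ : T' ⟶ X j)
      (h : x₀ ≫ g i = x₁ ≫ g j) (v : Lifts (cmp g T i) x₀) (w : Lifts (A i) x₀),
      w.1 = v.1 ≫ (θ i).left →
      ((dd rep).φ x₀ x₁ h w).1 = ((canonicalDDFam g T).φ x₀ x₁ h v).1 ≫ (θ j).left := by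
    rw [hθ]
    exact θ₀.comm
  show Presieve.Arrows.Compatible P (fun i => pr g T i) (fun i => (rep i).homEquiv (θ₀.hom i))
  rw [← hθ]
  clear hθ
  intro i j Z a b hab
  obtain ⟨x₀, hx₀⟩ : ∃ x₀ : Z.left ⟶ X i, x₀ = a.left ≫ pullback.fst (g i) T.hom := ⟨_, rfl⟩
  obtain ⟨x₁, hx₁⟩ : ∃ x₁ : Z.left ⟶ X j, x₁ = b.left ≫ pullback.fst (g j) T.hom := ⟨_, rfl⟩
  have h₀ : x₀ ≫ g i = Z.hom := by
    rw [hx₀, Category.assoc]
    simpa using Over.w a
  have h₁ : x₁ ≫ g j = Z.hom := by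
    rw [hx₁, Category.assoc]
    simpa using Over.w b
  have h : x₀ ≫ g i = x₁ ≫ g j := h₀.trans h₁.symm
  have hab' : a.left ≫ pullback.snd (g i) T.hom = b.left ≫ pullback.snd (g j) T.hom := by
    have := congrArg (fun z => z.left) hab
    simpa [pr] using this
  obtain ⟨v, hv⟩ : ∃ v : Lifts (cmp g T i) x₀, v.1 = a.left := ⟨⟨a.left, hx₀.symm⟩, rfl⟩
  obtain ⟨v', hv'⟩ : ∃ v' : Lifts (cmp g T j) x₁, v'.1 = b.left := ⟨⟨b.left, hx₁.symm⟩, rfl⟩
  have hvv' : (canonicalDDFam g T).φ x₀ x₁ h v = v' := by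
    apply Subtype.ext
    show (canMapFam g T x₀ x₁ h v).1 = v'.1
    rw [canMapFam_val, hv']
    apply pullback.hom_ext
    · rw [pullback.lift_fst, hx₁]
    · rw [pullback.lift_snd, hv, hab']
  obtain ⟨w, hw⟩ : ∃ w : Lifts (A i) x₀, w.1 = v.1 ≫ (θ i).left :=
    ⟨⟨v.1 ≫ (θ i).left, by
      rw [Category.assoc, Over.w (θ i)]
      exact v.2⟩, rfl⟩
  have hcomm := hcm x₀ x₁ h v w hw
  rw [hvv'] at hcomm
  have hsec₀ : sec rep x₀ w =
      P.map ((Over.map (g i)).map (Over.homMk v.1 v.2 : Over.mk x₀ ⟶ cmp g T i)).op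
        ((rep i).homEquiv (θ i)) := by
    unfold sec
    have : (Over.homMk w.1 w.2 : Over.mk x₀ ⟶ A i) =
        (Over.homMk v.1 v.2 : Over.mk x₀ ⟶ cmp g T i) ≫ θ i := by
      apply Over.OverMorphism.ext
      exact hw
    rw [this, (rep i).homEquiv_comp]
    rfl
  have hsec₁ : sec rep x₁ ((dd rep).φ x₀ x₁ h w) =
      P.map ((Over.map (g j)).map (Over.homMk v'.1 v'.2 : Over.mk x₁ ⟶ cmp g T j)).op
        ((rep j).homEquiv (θ j)) := by
    unfold sec
    have : (Over.homMk ((dd rep).φ x₀ x₁ h w).1 ((dd rep).φ x₀ x₁ h w).2 : Over.mk x₁ ⟶ A j) =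
        (Over.homMk v'.1 v'.2 : Over.mk x₁ ⟶ cmp g T j) ≫ θ j := by
      apply Over.OverMorphism.ext
      exact hcomm
    rw [this, (rep j).homEquiv_comp]
    rfl
  rw [dd_φ, sec_unsec, hsec₀] at hsec₁
  have ha : a = zeta x₀ h₀ ≫ (Over.map (g i)).map (Over.homMk v.1 v.2 : Over.mk x₀ ⟶ cmp g T i) := by
    apply Over.OverMorphism.ext
    simp [zeta, hv]
  have hb : b = zeta x₁ h₁ ≫ (Over.map (g j)).map (Over.homMk v'.1 v'.2 : Over.mk x₁ ⟶ cmp g T j) := by
    apply Over.OverMorphism.ext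
    simp [zeta, hv']
  have hz : zeta x₀ h₀ = zeta x₁ h₁ ≫ tr g x₁ x₀ h.symm := (zeta_tr x₀ x₁ h₀ h₁).symm
  show P.map a.op ((rep i).homEquiv (θ i)) = P.map b.op ((rep j).homEquiv (θ j))
  rw [ha, hb, op_comp, op_comp, Functor.map_comp_apply, Functor.map_comp_apply, ← hsec₁, hz,
    op_comp, Functor.map_comp_apply]

end Groth.Agent.Lib.Helper15RepGlue
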