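-- helper15: the presheaf of families of homomorphisms of groups and its sheaf condition for fpqc coverings of the base
import Mathlib
import Groth.Prelude.Def_AutFam
import Groth.Prelude.Def_Red
import Groth.Agent.Lib.Helper15RepGlueB
import Groth.Agent.Lib.Helper15NormCentral
import Groth.Agent.Lib.Helper10OrbitBC
set_option autoImplicit false
universe u
open CategoryTheory CategoryTheory.Limits AlgebraicGeometry MonoidalCategory
  CartesianMonoidalCategory MonObj GrpObj Opposite

namespace Groth.Agent.Lib.Helper15HomRep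

variable {S : Scheme.{u}} (H G : Over S) [GrpObj H] [GrpObj G]

variable {H G} in
/-- the pullback of a family of homomorphisms is a family of homomorphisms. -/
lemma isHomFamily_whiskerLeft_comp {T T' : Over S} (a : T' ⟶ T) (φ : H ⊗ T ⟶ G)
    (hφ : AutFam.IsHomFamily H G φ) : AutFam.IsHomFamily H G ((H ◁ a) ≫ φ) := by
  intro X g₁ g₂ t
  rw [← Category.assoc, ← Category.assoc, ← Category.assoc, lift_whiskerLeft, lift_whiskerLeft,
    lift_whiskerLeft]
  exact hφ X g₁ g₂ (t ≫ a)

/-- the presheaf of families of homomorphisms of groups. -/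
noncomputable def homPsh : (Over S)ᵒᵖ ⥤ Type u where
  obj T := {φ : H ⊗ T.unop ⟶ G // AutFam.IsHomFamily H G φ}
  map a := TypeCat.ofHom fun φ => ⟨(H ◁ a.unop) ≫ φ.1, isHomFamily_whiskerLeft_comp a.unop φ.1 φ.2⟩
  map_id T := by
    refine ConcreteCategory.hom_ext _ _ fun φ => ?_
    apply Subtype.ext
    show (H ◁ 𝟙 T.unop) ≫ φ.1 = φ.1
    rw [MonoidalCategory.whiskerLeft_id, Category.id_comp]
  map_comp a b := by
    refine ConcreteCategory.hom_ext _ _ fun φ => ?_
    apply Subtype.ext
    show (H ◁ (b.unop ≫ a.unop)) ≫ φ.1 = (H ◁ b.unop) ≫ (H ◁ a.unop) ≫ φ.1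
    rw [MonoidalCategory.whiskerLeft_comp, Category.assoc]

lemma homPsh_map_val {T T' : Over S} (a : T' ⟶ T) (φ : (homPsh H G).obj (op T)) :
    ((homPsh H G).map a.op φ).1 = (H ◁ a) ≫ φ.1 := rfl

/-- a representing object of the presheaf of families of homomorphisms represents the functor of
homomorphisms. -/
theorem representsHom_of_representableBy (A : Over S) (rep : (homPsh H G).RepresentableBy A) :
    AutFam.RepresentsHom H G A (rep.homEquiv (𝟙 A)).1 := by
  refine ⟨(rep.homEquiv (𝟙 A)).2, fun T φ hφ => ?_⟩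
  have key : ∀ a : T ⟶ A, (rep.homEquiv a).1 = (H ◁ a) ≫ (rep.homEquiv (𝟙 A)).1 := by
    intro a
    have := rep.homEquiv_comp a (𝟙 A)
    rw [Category.comp_id] at this
    rw [this]
    rfl
  refine ⟨rep.homEquiv.symm ⟨φ, hφ⟩, ?_, ?_⟩
  · show (H ◁ _) ≫ _ = φ
    rw [← key, Equiv.apply_symm_apply]
  · intro a ha
    apply rep.homEquiv.injective
    rw [Equiv.apply_symm_apply]
    apply Subtype.ext
    rw [key, ha]


section Sheaf

/-- morphisms over `S` glue along families which are fpqc coverings of the source. -/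
theorem existsUnique_glue_of_fpqc {W Z : Over S} {J : Type u} (W' : J → Over S)
    (v : ∀ i, W' i ⟶ W)
    (hcov : Presieve.ofArrows (fun i => (W' i).left) (fun i => (v i).left) ∈
      Scheme.fpqcPrecoverage W.left)
    (ψ : ∀ i, W' i ⟶ Z)
    (hψ : ∀ i j (Q : Over S) (yi : Q ⟶ W' i) (yj : Q ⟶ W' j), yi ≫ v i = yj ≫ v j →
      yi ≫ ψ i = yj ≫ ψ j) :
    ∃! F : W ⟶ Z, ∀ i, v i ≫ F = ψ i := by
  have hsheaf : ∀ Z' : Scheme.{u}, ∀ x : ∀ i, (W' i).left ⟶ Z',
      (∀ i j (Q : Scheme.{u}) (yi : Q ⟶ (W' i).left) (yj : Q ⟶ (W' j).left),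
        yi ≫ (v i).left = yj ≫ (v j).left → yi ≫ x i = yj ≫ x j) →
      ∃! t : W.left ⟶ Z', ∀ i, (v i).left ≫ t = x i := by
    intro Z' x hx
    have h1 : Presieve.IsSheafFor (yoneda.obj Z')
        (Presieve.ofArrows (fun i => (W' i).left) (fun i => (v i).left)) :=
      (GrothendieckTopology.Subcanonical.isSheaf_of_isRepresentable
        (J := Scheme.fpqcTopology) (yoneda.obj Z')).isSheafFor _
          (Precoverage.generate_mem_toGrothendieck hcov)
    exact (Presieve.isSheafFor_arrows_iff _ _).mp h1 x hx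
  have hcompat : ∀ i j (Q : Scheme.{u}) (yi : Q ⟶ (W' i).left) (yj : Q ⟶ (W' j).left),
      yi ≫ (v i).left = yj ≫ (v j).left → yi ≫ (ψ i).left = yj ≫ (ψ j).left := by
    intro i j Q yi yj h
    have hyj : yj ≫ (W' j).hom = yi ≫ (W' i).hom := by
      rw [← Over.w (v j), ← Over.w (v i), ← Category.assoc, ← Category.assoc, h]
    have := hψ i j (Over.mk (yi ≫ (W' i).hom)) (Over.homMk yi rfl) (Over.homMk yj hyj) (by
      apply Over.OverMorphism.ext
      exact h)
    exact congrArg (fun z => z.left) this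
  obtain ⟨t, ht, htu⟩ := hsheaf Z.left (fun i => (ψ i).left) hcompat
  have hS : t ≫ Z.hom = W.hom := by
    obtain ⟨s, -, hs⟩ := hsheaf S (fun i => (W' i).hom) (by
      intro i j Q yi yj h
      rw [← Over.w (v j), ← Over.w (v i), ← Category.assoc, ← Category.assoc, h])
    rw [hs (t ≫ Z.hom) (fun i => by rw [← Category.assoc, ht, Over.w]),
      hs W.hom (fun i => Over.w (v i))]
  refine ⟨Over.homMk t hS, fun i => ?_, fun F' hF' => ?_⟩
  · apply Over.OverMorphism.ext
    exact ht i
  · apply Over.OverMorphism.ext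
    exact htu F'.left (fun i => by rw [← hF' i]; rfl)


open Groth.Agent.Lib.Helper15RepGlue in
/-- a point with values in a member of the family factors through the pullback cover. -/
lemma exists_fac_pr {J : Type u} {X : J → Scheme.{u}} (g : ∀ i, X i ⟶ S) (T : Over S) (k : J)
    (Y' : Over (X k)) (b : (Over.map (g k)).obj Y' ⟶ T) :
    ∃ b' : (Over.map (g k)).obj Y' ⟶ (Over.map (g k)).obj (cmp g T k), b' ≫ pr g T k = b := by
  have hb : Y'.hom ≫ g k = b.left ≫ T.hom := by
    have := Over.w b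
    simpa using this.symm
  refine ⟨(Over.map (g k)).map (Over.homMk (pullback.lift Y'.hom b.left hb)
    (pullback.lift_fst _ _ _) : Y' ⟶ cmp g T k), ?_⟩
  apply Over.OverMorphism.ext
  simp only [Over.comp_left, Over.map_map_left, Over.homMk_left, pr]
  exact pullback.lift_snd _ _ _

open Groth.Agent.Lib.Helper15RepGlue in
/-- **the presheaf of families of homomorphisms satisfies the sheaf condition for the pullbacks
of an fpqc covering family of the base.** -/
theorem isSheafFor_homPsh {J : Type u} {X : J → Scheme.{u}} (g : ∀ i, X i ⟶ S)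
    (hg : Presieve.ofArrows X g ∈ Scheme.fpqcPrecoverage S) (T : Over S) :
    Presieve.IsSheafFor (homPsh H G) (cov g T) := by
  rw [Presieve.isSheafFor_arrows_iff]
  intro x hx
  have hcov : Presieve.ofArrows (fun i => (H ⊗ (Over.map (g i)).obj (cmp g T i)).left)
      (fun i => (H ◁ pr g T i).left) ∈ Scheme.fpqcPrecoverage (H ⊗ T).left := by
    refine Precoverage.mem_coverings_of_isPullback g hg ((snd H T).left ≫ T.hom) _
      (fun i => (snd H _).left ≫ pullback.fst (g i) T.hom) (fun i => ?_)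
    have s1 := (Groth.Agent.Lib.Helper10.OrbitBC.isPullback_whiskerLeft H (pr g T i)).map
      (Over.forget S)
    have s2 : IsPullback (pr g T i).left (pullback.fst (g i) T.hom) T.hom (g i) :=
      (IsPullback.of_hasPullback (g i) T.hom).flip
    exact s1.paste_vert s2
  have hcompat : ∀ i j (Q : Over S) (yi : Q ⟶ H ⊗ (Over.map (g i)).obj (cmp g T i))
      (yj : Q ⟶ H ⊗ (Over.map (g j)).obj (cmp g T j)),
      yi ≫ (H ◁ pr g T i) = yj ≫ (H ◁ pr g T j) → yi ≫ (x i).1 = yj ≫ (x j).1 := by
    intro i j Q yi yj h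
    have h1 : yi ≫ fst _ _ = yj ≫ fst _ _ := by
      have := congrArg (fun z => z ≫ fst H T) h
      simpa only [Category.assoc, whiskerLeft_fst] using this
    have h2 : (yi ≫ snd _ _) ≫ pr g T i = (yj ≫ snd _ _) ≫ pr g T j := by
      have := congrArg (fun z => z ≫ snd H T) h
      simpa only [Category.assoc, whiskerLeft_snd] using this
    have h3 := congrArg Subtype.val (hx i j Q (yi ≫ snd _ _) (yj ≫ snd _ _) h2)
    rw [homPsh_map_val, homPsh_map_val] at h3
    have e1 : yi = lift (yi ≫ fst _ _) (𝟙 Q) ≫ (H ◁ (yi ≫ snd _ _)) := by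
      rw [lift_whiskerLeft, Category.id_comp]
      apply CartesianMonoidalCategory.hom_ext <;> simp
    have e2 : yj = lift (yi ≫ fst _ _) (𝟙 Q) ≫ (H ◁ (yj ≫ snd _ _)) := by
      rw [lift_whiskerLeft, Category.id_comp, h1]
      apply CartesianMonoidalCategory.hom_ext <;> simp
    rw [e1, Category.assoc, h3, ← Category.assoc, ← e2]
  obtain ⟨F, hF, hFu⟩ := existsUnique_glue_of_fpqc _ (fun i => H ◁ pr g T i) hcov
    (fun i => (x i).1) hcompat
  have hFhom : AutFam.IsHomFamily H G F := by
    intro Y g₁ g₂ t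
    refine Groth.Agent.Lib.Helper15NormCentral.hom_ext_of_fpqc_family _ _ g hg ?_
    intro k Y' w
    obtain ⟨tk, htk⟩ := exists_fac_pr g T k Y' (w ≫ t)
    have key : ∀ h : Y ⟶ H, w ≫ lift h t ≫ F = lift (w ≫ h) tk ≫ (x k).1 := by
      intro h
      rw [← Category.assoc, comp_lift, ← htk, ← lift_whiskerLeft, Category.assoc, hF]
    rw [key, MonObj.comp_mul, MonObj.comp_mul, key, key]
    exact (x k).2 _ _ _ _
  refine ⟨⟨F, hFhom⟩, fun i => Subtype.ext (hF i), fun F' hF' => ?_⟩
  apply Subtype.ext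
  exact hFu F'.1 (fun i => congrArg Subtype.val (hF' i))

end Sheaf

end Groth.Agent.Lib.Helper15HomRep
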