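-- helper15: the projection formula and families of homomorphisms over a base change
import Mathlib
import Groth.Prelude.Def_AutFam
import Groth.Prelude.Def_Red
import Groth.Agent.Lib.Helper15NormCentral
set_option autoImplicit false
universe u
open CategoryTheory CategoryTheory.Limits AlgebraicGeometry MonoidalCategory
  CartesianMonoidalCategory MonObj GrpObj Opposite

namespace Groth.Agent.Lib.Helper15HomRep

section Proj

variable {S X : Scheme.{u}} (g : X ⟶ S) (H : Over S)

/-- the projection formula: `(H ×_S X) ×_X T' ⟶ H ×_S T'`. -/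
noncomputable def projHom (T' : Over X) :
    (Over.map g).obj (Red.bc g H ⊗ T') ⟶ H ⊗ (Over.map g).obj T' :=
  lift ((Over.map g).map (fst _ _) ≫ (Over.mapPullbackAdj g).counit.app H)
    ((Over.map g).map (snd _ _))

lemma projHom_left_fst (T' : Over X) :
    (projHom g H T').left ≫ pullback.fst H.hom (T'.hom ≫ g) =
      pullback.fst (pullback.snd H.hom g) T'.hom ≫ pullback.fst H.hom g := by
  simp [projHom]
  exact pullback.lift_fst _ _ _

lemma projHom_left_snd (T' : Over X) :
    (projHom g H T').left ≫ pullback.snd H.hom (T'.hom ≫ g) =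
      pullback.snd (pullback.snd H.hom g) T'.hom := by
  simp [projHom]
  exact pullback.lift_snd _ _ _


/-- the inverse of the projection formula on underlying schemes. -/
noncomputable def projInvLeft (T' : Over X) :
    pullback H.hom (T'.hom ≫ g) ⟶ pullback (pullback.snd H.hom g) T'.hom :=
  pullback.lift (pullback.lift (pullback.fst _ _) (pullback.snd _ _ ≫ T'.hom)
    (by rw [pullback.condition, Category.assoc])) (pullback.snd _ _) (pullback.lift_snd _ _ _)

lemma projInvLeft_fst_fst (T' : Over X) :
    projInvLeft g H T' ≫ pullback.fst (pullback.snd H.hom g) T'.hom ≫ pullback.fst H.hom g =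
      pullback.fst _ _ := by
  unfold projInvLeft
  rw [pullback.lift_fst_assoc, pullback.lift_fst]

lemma projInvLeft_snd (T' : Over X) :
    projInvLeft g H T' ≫ pullback.snd (pullback.snd H.hom g) T'.hom = pullback.snd _ _ := by
  unfold projInvLeft
  rw [pullback.lift_snd]

lemma projHom_left_projInvLeft (T' : Over X) :
    (projHom g H T').left ≫ projInvLeft g H T' = 𝟙 _ := by
  apply pullback.hom_ext
  · apply pullback.hom_ext
    · rw [Category.assoc, Category.assoc, projInvLeft_fst_fst, projHom_left_fst, Category.id_comp]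
    · unfold projInvLeft
      rw [Category.assoc, Category.assoc, pullback.lift_fst_assoc, pullback.lift_snd,
        ← Category.assoc, projHom_left_snd, Category.id_comp, pullback.condition]
  · rw [Category.assoc, projInvLeft_snd, projHom_left_snd, Category.id_comp]

lemma projInvLeft_projHom_left (T' : Over X) :
    projInvLeft g H T' ≫ (projHom g H T').left = 𝟙 _ := by
  apply pullback.hom_ext
  · change (projInvLeft g H T' ≫ (projHom g H T').left) ≫ pullback.fst H.hom (T'.hom ≫ g) =
      𝟙 _ ≫ pullback.fst H.hom (T'.hom ≫ g)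
    rw [Category.assoc, projHom_left_fst, projInvLeft_fst_fst, Category.id_comp]
  · change (projInvLeft g H T' ≫ (projHom g H T').left) ≫ pullback.snd H.hom (T'.hom ≫ g) =
      𝟙 _ ≫ pullback.snd H.hom (T'.hom ≫ g)
    rw [Category.assoc, projHom_left_snd, projInvLeft_snd, Category.id_comp]

instance isIso_projHom (T' : Over X) : IsIso (projHom g H T') := by
  have : IsIso (projHom g H T').left :=
    ⟨projInvLeft g H T', projHom_left_projInvLeft g H T', projInvLeft_projHom_left g H T'⟩
  have h2 : IsIso ((Over.forget S).map (projHom g H T')) := this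
  exact isIso_of_reflects_iso _ (Over.forget S)

end Proj


section Dict

variable {S X : Scheme.{u}} (g : X ⟶ S) (H G : Over S)

lemma projHom_natural {T' T'' : Over X} (a : T'' ⟶ T') :
    projHom g H T'' ≫ (H ◁ (Over.map g).map a) =
      (Over.map g).map (Red.bc g H ◁ a) ≫ projHom g H T' := by
  unfold projHom
  apply CartesianMonoidalCategory.hom_ext
  · rw [Category.assoc, whiskerLeft_fst, lift_fst, Category.assoc, lift_fst, ← Category.assoc,
      ← Functor.map_comp, whiskerLeft_fst]
  · rw [Category.assoc, whiskerLeft_snd, lift_snd_assoc, Category.assoc, lift_snd,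
      ← Functor.map_comp, ← Functor.map_comp, whiskerLeft_snd]

/-- a family over `S` parametrised by a scheme over `X`, as a family over `X`. -/
noncomputable def famBC (T' : Over X) (φ : H ⊗ (Over.map g).obj T' ⟶ G) :
    Red.bc g H ⊗ T' ⟶ Red.bc g G :=
  (Over.mapPullbackAdj g).homEquiv _ _ (projHom g H T' ≫ φ)

lemma famBC_bijective (T' : Over X) : Function.Bijective (famBC g H G T') := by
  constructor
  · intro φ φ' h
    have := ((Over.mapPullbackAdj g).homEquiv _ _).injective h
    exact (cancel_epi _).mp this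
  · intro φ'
    refine ⟨inv (projHom g H T') ≫ ((Over.mapPullbackAdj g).homEquiv _ _).symm φ', ?_⟩
    unfold famBC
    rw [IsIso.hom_inv_id_assoc, Equiv.apply_symm_apply]

lemma famBC_whiskerLeft {T' T'' : Over X} (a : T'' ⟶ T') (φ : H ⊗ (Over.map g).obj T' ⟶ G) :
    famBC g H G T'' ((H ◁ (Over.map g).map a) ≫ φ) = (Red.bc g H ◁ a) ≫ famBC g H G T' φ := by
  unfold famBC
  rw [← Category.assoc, projHom_natural, Category.assoc, Adjunction.homEquiv_naturality_left]

/-- the points of the family over `X`. -/
lemma lift_famBC (T' : Over X) (φ : H ⊗ (Over.map g).obj T' ⟶ G) {Y' : Over X}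
    (h₀ : (Over.map g).obj Y' ⟶ H) (t' : Y' ⟶ T') :
    lift ((Over.mapPullbackAdj g).homEquiv _ _ h₀) t' ≫ famBC g H G T' φ =
      (Over.mapPullbackAdj g).homEquiv _ _ (lift h₀ ((Over.map g).map t') ≫ φ) := by
  unfold famBC
  rw [← Adjunction.homEquiv_naturality_left, ← Category.assoc]
  congr 2
  unfold projHom
  rw [comp_lift, ← Category.assoc, ← Functor.map_comp, ← Functor.map_comp, lift_fst, lift_snd,
    ← Adjunction.homEquiv_counit, Equiv.symm_apply_apply]

variable [GrpObj H] [GrpObj G]

lemma isHomFamily_famBC_iff (T' : Over X) (φ : H ⊗ (Over.map g).obj T' ⟶ G) :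
    AutFam.IsHomFamily (Red.bc g H) (Red.bc g G) (famBC g H G T' φ) ↔
      AutFam.IsHomFamily H G φ := by
  constructor
  · intro hφ Y g₁ g₂ t
    obtain ⟨j, hj⟩ : ∃ j : (Over.map g).obj (Over.mk (t.left ≫ T'.hom)) ≅ Y,
        j.hom.left = 𝟙 Y.left :=
      ⟨Over.isoMk (Iso.refl _) (by simpa using (Over.w t).symm), rfl⟩
    obtain ⟨t', ht'⟩ : ∃ t' : Over.mk (t.left ≫ T'.hom) ⟶ T',
        (Over.map g).map t' = j.hom ≫ t := by
      refine ⟨Over.homMk t.left rfl, ?_⟩
      apply Over.OverMorphism.ext
      simp [hj]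
    rw [← cancel_epi j.hom]
    apply ((Over.mapPullbackAdj g).homEquiv _ _).injective
    rw [MonObj.comp_mul, ← Category.assoc, ← Category.assoc, ← Category.assoc, comp_lift, comp_lift,
      comp_lift, ← ht', MonObj.comp_mul, AlgGrp.Action.homEquiv_mul, ← lift_famBC, ← lift_famBC,
      ← lift_famBC, AlgGrp.Action.homEquiv_mul]
    exact hφ _ _ _ _
  · intro hφ Y' h₁ h₂ t'
    obtain ⟨k₁, rfl⟩ := ((Over.mapPullbackAdj g).homEquiv _ _).surjective h₁
    obtain ⟨k₂, rfl⟩ := ((Over.mapPullbackAdj g).homEquiv _ _).surjective h₂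
    rw [← AlgGrp.Action.homEquiv_mul, lift_famBC, lift_famBC, lift_famBC,
      ← AlgGrp.Action.homEquiv_mul, hφ]

end Dict

end Groth.Agent.Lib.Helper15HomRep
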