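-- helper15: local representability of the presheaf of families of homomorphisms between groups of multiplicative type
import Mathlib
import Groth.Agent.Lib.Helper15HomRepB
import Groth.Agent.Lib.Helper15HomRepC
import Groth.Agent.Lib.Helper15HomRepD
set_option autoImplicit false
universe u
open CategoryTheory CategoryTheory.Limits AlgebraicGeometry MonoidalCategory
  CartesianMonoidalCategory MonObj GrpObj Opposite

namespace Groth.Agent.Lib.Helper15HomRep

section Conj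

variable {S : Scheme.{u}} {H H' G G' : Over S} [GrpObj H] [GrpObj H'] [GrpObj G] [GrpObj G']

/-- composing a family of homomorphisms with homomorphisms of groups. -/
lemma isHomFamily_conj (a : H' ⟶ H) [IsMonHom a] (b : G ⟶ G') [IsMonHom b] {T : Over S}
    (φ : H ⊗ T ⟶ G) (hφ : AutFam.IsHomFamily H G φ) :
    AutFam.IsHomFamily H' G' ((a ▷ T) ≫ φ ≫ b) := by
  intro Y g₁ g₂ t
  rw [lift_whiskerRight_assoc, lift_whiskerRight_assoc, lift_whiskerRight_assoc, MonObj.mul_comp,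
    ← Category.assoc, hφ, MonObj.mul_comp, Category.assoc, Category.assoc]

end Conj

section Local

variable {S X : Scheme.{u}} (g : X ⟶ S) (H G : Over S) [GrpObj H] [GrpObj G]
  (M₁ M₂ : Type) [AddCommGroup M₁] [AddCommGroup M₂]

/-- **over a base on which both groups become diagonalisable, the target with a finitely generated
character group, the presheaf of families of homomorphisms is represented by a constant scheme.** -/
theorem nonempty_representableBy_of_iso (hM₂ : AddGroup.FG M₂)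
    (α : Grp.mk (Red.bc g H) ≅ Grp.mk (Red.DS X M₁))
    (β : Grp.mk (Red.bc g G) ≅ Grp.mk (Red.DS X M₂)) :
    Nonempty (((Over.map g).op ⋙ homPsh H G).RepresentableBy
      (TwC.const X (ULift.{u} (M₂ →+ M₁)))) := by
  obtain ⟨α₁, hα₁⟩ : ∃ α₁ : Red.bc g H ⟶ Red.DS X M₁, α₁ = α.hom.hom.hom := ⟨_, rfl⟩
  obtain ⟨α₂, hα₂⟩ : ∃ α₂ : Red.DS X M₁ ⟶ Red.bc g H, α₂ = α.inv.hom.hom := ⟨_, rfl⟩
  obtain ⟨β₁, hβ₁⟩ : ∃ β₁ : Red.bc g G ⟶ Red.DS X M₂, β₁ = β.hom.hom.hom := ⟨_, rfl⟩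
  obtain ⟨β₂, hβ₂⟩ : ∃ β₂ : Red.DS X M₂ ⟶ Red.bc g G, β₂ = β.inv.hom.hom := ⟨_, rfl⟩
  have hα₁m : IsMonHom α₁ := by rw [hα₁]; infer_instance
  have hα₂m : IsMonHom α₂ := by rw [hα₂]; infer_instance
  have hβ₁m : IsMonHom β₁ := by rw [hβ₁]; infer_instance
  have hβ₂m : IsMonHom β₂ := by rw [hβ₂]; infer_instance
  have hα₁₂ : α₁ ≫ α₂ = 𝟙 _ := by
    rw [hα₁, hα₂]
    have := α.hom_inv_id
    exact congr($(this).hom.hom)
  have hα₂₁ : α₂ ≫ α₁ = 𝟙 _ := by
    rw [hα₁, hα₂]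
    have := α.inv_hom_id
    exact congr($(this).hom.hom)
  have hβ₁₂ : β₁ ≫ β₂ = 𝟙 _ := by
    rw [hβ₁, hβ₂]
    have := β.hom_inv_id
    exact congr($(this).hom.hom)
  have hβ₂₁ : β₂ ≫ β₁ = 𝟙 _ := by
    rw [hβ₁, hβ₂]
    have := β.inv_hom_id
    exact congr($(this).hom.hom)
  obtain ⟨I, hI⟩ : ∃ I : Type u, I = ULift.{u} (M₂ →+ M₁) := ⟨_, rfl⟩
  subst hI
  obtain ⟨lab, hlab⟩ : ∃ lab : ULift.{u} (M₂ →+ M₁) → (M₂ →+ M₁), lab = ULift.down := ⟨_, rfl⟩
  have hlabbij : Function.Bijective lab := by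
    rw [hlab]
    exact Equiv.ulift.bijective
  obtain ⟨υ'', hυ''⟩ := exists_univ (U := X) M₁ M₂ lab
  have hυ''hom := isHomFamily_univ υ'' hυ''
  obtain ⟨υ', hυ'⟩ : ∃ υ' : Red.bc g H ⊗ TwC.const X (ULift.{u} (M₂ →+ M₁)) ⟶ Red.bc g G,
      υ' = (α₁ ▷ _) ≫ υ'' ≫ β₂ := ⟨_, rfl⟩
  have hυ'hom : AutFam.IsHomFamily (Red.bc g H) (Red.bc g G) υ' := by
    rw [hυ']
    exact isHomFamily_conj α₁ β₂ υ'' hυ''hom
  obtain ⟨υS, hυS⟩ := (famBC_bijective g H G _).2 υ'
  have hυShom : AutFam.IsHomFamily H G υS := by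
    rw [← isHomFamily_famBC_iff, hυS]
    exact hυ'hom
  -- the key equivalence
  have key : ∀ (T' : Over X) (φ : H ⊗ (Over.map g).obj T' ⟶ G)
      (a : T' ⟶ TwC.const X (ULift.{u} (M₂ →+ M₁))),
      (H ◁ (Over.map g).map a) ≫ υS = φ ↔
        (Red.DS X M₁ ◁ a) ≫ υ'' = (α₂ ▷ T') ≫ famBC g H G T' φ ≫ β₁ := by
    intro T' φ a
    rw [← (famBC_bijective g H G T').1.eq_iff, famBC_whiskerLeft, hυS, hυ', ← Category.assoc,
      whisker_exchange]
    simp only [Category.assoc]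
    constructor
    · intro h
      rw [← h]
      simp only [Category.assoc, hβ₂₁, Category.comp_id]
      rw [← Category.assoc (α₂ ▷ T'), ← comp_whiskerRight, hα₂₁, id_whiskerRight, Category.id_comp]
    · intro h
      rw [← Category.assoc (Red.DS X M₁ ◁ a), h]
      simp only [Category.assoc, hβ₁₂, Category.comp_id]
      rw [← Category.assoc, ← comp_whiskerRight, hα₁₂, id_whiskerRight, Category.id_comp]
  have hex : ∀ (T' : Over X) (φ : H ⊗ (Over.map g).obj T' ⟶ G), AutFam.IsHomFamily H G φ →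
      ∃! a : T' ⟶ TwC.const X (ULift.{u} (M₂ →+ M₁)), (H ◁ (Over.map g).map a) ≫ υS = φ := by
    intro T' φ hφ
    have h1 : AutFam.IsHomFamily (Red.DS X M₁) (Red.DS X M₂)
        ((α₂ ▷ T') ≫ famBC g H G T' φ ≫ β₁) :=
      isHomFamily_conj α₂ β₁ _ ((isHomFamily_famBC_iff g H G T' φ).mpr hφ)
    obtain ⟨a, ha, hau⟩ := existsUnique_of_isHomFamily _ h1 hM₂ hlabbij υ'' hυ''
    exact ⟨a, (key T' φ a).mpr ha, fun a' ha' => hau a' ((key T' φ a').mp ha')⟩
  refine ⟨{ homEquiv := fun {T'} => Equiv.ofBijective (fun a => ⟨(H ◁ (Over.map g).map a) ≫ υS,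
                isHomFamily_whiskerLeft_comp _ υS hυShom⟩) ⟨?_, ?_⟩,
            homEquiv_comp := ?_ }⟩
  · intro a a' h
    have h' := congrArg Subtype.val h
    obtain ⟨a₀, -, hu⟩ := hex T' _ (isHomFamily_whiskerLeft_comp ((Over.map g).map a) υS hυShom)
    rw [hu a rfl, hu a' h'.symm]
  · intro φ
    obtain ⟨a, ha, -⟩ := hex T' φ.1 φ.2
    exact ⟨a, Subtype.ext ha⟩
  · intro T' T'' f a
    apply Subtype.ext
    show (H ◁ (Over.map g).map (f ≫ a)) ≫ υS = (H ◁ (Over.map g).map f) ≫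
      (H ◁ (Over.map g).map a) ≫ υS
    rw [Functor.map_comp, MonoidalCategory.whiskerLeft_comp, Category.assoc]

end Local

end Groth.Agent.Lib.Helper15HomRep
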