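-- helper15: the presheaf of groups of families of homomorphisms into a commutative group; group structure on a representing object
import Mathlib
import Groth.Agent.Lib.Helper15HomRepC
import Groth.Agent.Lib.Helper15HomRepD
set_option autoImplicit false
universe u
open CategoryTheory CategoryTheory.Limits AlgebraicGeometry MonoidalCategory
  CartesianMonoidalCategory MonObj GrpObj Opposite

namespace Groth.Agent.Lib.Helper15HomRep

section Grp

variable {S : Scheme.{u}} (H G : Over S) [GrpObj H] [GrpObj G] [IsCommMonObj G]

/-- families of homomorphisms into a commutative group form a subgroup of the group of all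
morphisms. -/
noncomputable def homFamSubgroup (T : Over S) : Subgroup (H ⊗ T ⟶ G) where
  carrier := {φ | AutFam.IsHomFamily H G φ}
  one_mem' := by
    intro X g₁ g₂ t
    rw [MonObj.comp_one, MonObj.comp_one, MonObj.comp_one, _root_.mul_one]
  mul_mem' := by
    intro φ ψ hφ hψ X g₁ g₂ t
    rw [MonObj.comp_mul, MonObj.comp_mul, MonObj.comp_mul, hφ, hψ]
    exact mul_mul_mul_comm _ _ _ _
  inv_mem' := by
    intro φ hφ X g₁ g₂ t
    rw [GrpObj.comp_inv, GrpObj.comp_inv, GrpObj.comp_inv, hφ, _root_.mul_inv]

lemma mem_homFamSubgroup {T : Over S} (φ : H ⊗ T ⟶ G) :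
    φ ∈ homFamSubgroup H G T ↔ AutFam.IsHomFamily H G φ := Iff.rfl

/-- pullback of families of homomorphisms as a homomorphism of groups. -/
noncomputable def homFamMap {T T' : Over S} (a : T' ⟶ T) : homFamSubgroup H G T →* homFamSubgroup H G T' where
  toFun φ := ⟨(H ◁ a) ≫ φ.1, isHomFamily_whiskerLeft_comp a φ.1 φ.2⟩
  map_one' := by
    apply Subtype.ext
    exact MonObj.comp_one _
  map_mul' φ ψ := by
    apply Subtype.ext
    exact MonObj.comp_mul _ _ _

/-- the presheaf of groups of families of homomorphisms into a commutative group. -/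
noncomputable def homGrpPsh : (Over S)ᵒᵖ ⥤ GrpCat.{u} where
  obj T := GrpCat.of (homFamSubgroup H G T.unop)
  map a := GrpCat.ofHom (homFamMap H G a.unop)
  map_id T := by
    apply GrpCat.hom_ext
    apply MonoidHom.ext
    intro φ
    apply Subtype.ext
    show (H ◁ 𝟙 T.unop) ≫ φ.1 = φ.1
    rw [MonoidalCategory.whiskerLeft_id, Category.id_comp]
  map_comp a b := by
    apply GrpCat.hom_ext
    apply MonoidHom.ext
    intro φ
    apply Subtype.ext
    show (H ◁ (b.unop ≫ a.unop)) ≫ φ.1 = (H ◁ b.unop) ≫ (H ◁ a.unop) ≫ φ.1
    rw [MonoidalCategory.whiskerLeft_comp, Category.assoc]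

/-- the underlying presheaf of sets is the presheaf of families of homomorphisms. -/
noncomputable def homGrpPshIso : homGrpPsh H G ⋙ forget GrpCat ≅ homPsh H G :=
  NatIso.ofComponents (fun T => Iso.refl _) (by
    intro T T' a
    rfl)


section RepGrp

/-- the bijection of a representing structure of a presheaf of groups is multiplicative for the
induced group structure on the representing object. -/
lemma homEquiv_mul_of_eq {C : Type*} [Category.{u} C] [CartesianMonoidalCategory C]
    (F : Cᵒᵖ ⥤ GrpCat.{u}) (B : C) (α : (F ⋙ forget GrpCat).RepresentableBy B)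
    (inst : GrpObj B) (hinst : inst = GrpObj.ofRepresentableBy B F α) {T : C} (a b : T ⟶ B) :
    (α.homEquiv (a * b) : F.obj (op T)) =
      (α.homEquiv a : F.obj (op T)) * (α.homEquiv b : F.obj (op T)) := by
  subst hinst
  exact ((yonedaGrpObjIsoOfRepresentableBy B F α).hom.app (op T)).hom.map_mul a b

variable {H G}

/-- the group structure on an object representing the presheaf of families of homomorphisms into
a commutative group, and its compatibility with the product of families. -/
theorem exists_grpObj_of_representableBy (B : Over S) (repB : (homPsh H G).RepresentableBy B) :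
    ∃ _ : GrpObj B, ∀ (T : Over S) (a b : T ⟶ B),
      (repB.homEquiv (a * b)).1 = (repB.homEquiv a).1 * (repB.homEquiv b).1 := by
  obtain ⟨α, hα⟩ : ∃ α : (homGrpPsh H G ⋙ forget GrpCat).RepresentableBy B,
      α = repB.ofIso (homGrpPshIso H G).symm := ⟨_, rfl⟩
  obtain ⟨inst, hinst⟩ : ∃ inst : GrpObj B,
      inst = GrpObj.ofRepresentableBy B (homGrpPsh H G) α := ⟨_, rfl⟩
  refine ⟨inst, fun T a b => ?_⟩
  have key := homEquiv_mul_of_eq (homGrpPsh H G) B α inst hinst a b
  subst hα
  exact congrArg Subtype.val key

end RepGrp

end Grp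

end Groth.Agent.Lib.Helper15HomRep
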