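-- helper15: points of constant schemes lift along homeomorphisms; homomorphisms between diagonalisable groups extend along a surjective closed immersion of the base
import Mathlib
import Groth.Agent.Lib.Helper15HomRepB
import Groth.Agent.Lib.Helper15HomRepE
import Groth.Agent.Lib.Helper15HomRepI
import Groth.Agent.Lib.Helper15CharRepA
set_option autoImplicit false
universe u
open CategoryTheory CategoryTheory.Limits AlgebraicGeometry MonoidalCategory
  CartesianMonoidalCategory MonObj GrpObj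

namespace Groth.Agent.Lib.Helper15HomLift

open Groth.Agent.Lib.Helper15HomRep Groth.Agent.Lib.Helper11ConstPtsU

section Const

variable {U : Scheme.{u}} {I : Type u} {T₀ T : Over U} (k : T₀ ⟶ T)
  (hk : IsHomeomorph k.left)

include hk in
/-- points of a constant scheme lift uniquely along a homeomorphism. -/
theorem existsUnique_lift_const (a : T₀ ⟶ TwC.const U I) :
    ∃! b : T ⟶ TwC.const U I, k ≫ b = a := by
  obtain ⟨W, hW⟩ : ∃ W : I → T.left.Opens, ∀ m, (W m : Set T.left) = k.left '' (piece I a m) :=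
    ⟨fun m => ⟨k.left '' (piece I a m), hk.isOpenMap _ (piece I a m).2⟩, fun m => rfl⟩
  have hmemW : ∀ m (y : T₀.left), k.left y ∈ W m ↔ y ∈ piece I a m := by
    intro m y
    rw [← SetLike.mem_coe, hW]
    constructor
    · rintro ⟨y', hy', hyy⟩
      rw [← hk.injective hyy]
      exact hy'
    · intro hy
      exact ⟨y, hy, rfl⟩
  have hcov : TopologicalSpace.IsOpenCover W := by
    rw [TopologicalSpace.IsOpenCover, eq_top_iff]
    intro x _
    obtain ⟨y, rfl⟩ := hk.surjective x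
    have hy : y ∈ (⨆ m, piece I a m) := by rw [iSup_piece]; trivial
    obtain ⟨m, hm⟩ := TopologicalSpace.Opens.mem_iSup.mp hy
    exact TopologicalSpace.Opens.mem_iSup.mpr ⟨m, (hmemW m y).mpr hm⟩
  have hdisj : ∀ m m', m ≠ m' → W m ⊓ W m' = ⊥ := by
    intro m m' hmm
    rw [eq_bot_iff]
    rintro x ⟨h1, h2⟩
    obtain ⟨y, rfl⟩ := hk.surjective x
    exact (piece_disjoint I a m m' hmm y ((hmemW m y).mp h1) ((hmemW m' y).mp h2)).elim
  obtain ⟨b, hb⟩ := exists_glue_disjoint W hcov hdisj (Z := TwC.const U I)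
    (fun m => cpt I (res T (W m)) m)
  have hkb : k ≫ b = a := by
    apply hom_ext_of_cover
    intro y
    have hy : y ∈ (⨆ m, piece I a m) := by rw [iSup_piece]; trivial
    obtain ⟨m, hm⟩ := TopologicalSpace.Opens.mem_iSup.mp hy
    refine ⟨piece I a m, hm, ?_⟩
    obtain ⟨a', ha'⟩ := exists_fac (resι T₀ (piece I a m) ≫ k) (W m) (by
      intro t
      rw [Over.comp_left, Scheme.Hom.comp_apply, hmemW]
      exact t.2)
    rw [← Category.assoc, ← ha', Category.assoc, hb, comp_cpt, resι_piece_comp]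
  refine ⟨b, hkb, ?_⟩
  intro b' hb'
  apply hom_ext_of_cover
  intro x
  have hx : x ∈ (⨆ m, piece I b' m) := by rw [iSup_piece]; trivial
  obtain ⟨m, hm⟩ := TopologicalSpace.Opens.mem_iSup.mp hx
  refine ⟨piece I b' m, hm, ?_⟩
  rw [resι_piece_comp]
  symm
  apply eq_cpt_of_le
  intro t
  obtain ⟨y, hy⟩ := hk.surjective ((resι T (piece I b' m)).left t)
  rw [← hy]
  have h1 : k.left y ∈ piece I b' m := by rw [hy]; exact t.2
  -- pieces of `b` and `b'` pull back to the pieces of `a`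
  have hpb : ∀ (c : T ⟶ TwC.const U I), k ≫ c = a → ∀ y, k.left y ∈ piece I c m ↔ y ∈ piece I a m := by
    intro c hc y
    rw [mem_piece, mem_piece, ← hc, Over.comp_left, Scheme.Hom.comp_apply]
  rw [hpb b hkb]
  exact (hpb b' hb' y).mp h1

end Const

section Split

variable {U : Scheme.{u}} (Z : Over U) (hZ : IsHomeomorph Z.hom)
  (M M' : Type) [AddCommGroup M] [AddCommGroup M']

/-- pointwise multiplicativity of a morphism of groups. -/
def IsPtHom {G G' : Over U} [GrpObj G] [GrpObj G'] (f : G ⟶ G') : Prop :=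
  ∀ (Y : Over U) (g h : Y ⟶ G), (g * h) ≫ f = (g ≫ f) * (h ≫ f)

omit [AddCommGroup M'] in
include hZ in
/-- characters of a diagonalisable group are determined by their restriction along a
homeomorphism of the base, and families of characters over the source extend. -/
theorem char_lift :
    (∀ f₀ : Red.DS U M ⊗ Z ⟶ Red.Gm U, AutFam.IsHomFamily (Red.DS U M) (Red.Gm U) f₀ →
      ∃ f : Red.DS U M ⟶ Red.Gm U, IsPtHom f ∧ fst (Red.DS U M) Z ≫ f = f₀) ∧
    (∀ f f' : Red.DS U M ⟶ Red.Gm U, IsPtHom f → IsPtHom f' →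
      fst (Red.DS U M) Z ≫ f = fst (Red.DS U M) Z ≫ f' → f = f') := by
  obtain ⟨lab, hlab⟩ : ∃ lab : ULift.{u} M → (ℤ →+ M), lab = fun m => zmultiplesHom M m.down :=
    ⟨_, rfl⟩
  have hlabbij : Function.Bijective lab := by
    rw [hlab]
    exact (zmultiplesHom M).bijective.comp Equiv.ulift.bijective
  obtain ⟨υ, hυ⟩ := exists_univ (U := U) M ℤ lab
  have hυhom := isHomFamily_univ υ hυ
  have hFG : AddGroup.FG ℤ := inferInstance
  have hk : IsHomeomorph (toUnit Z).left := hZ
  -- the character attached to a section of the constant scheme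
  obtain ⟨charOf, hcharOf⟩ : ∃ charOf : (𝟙_ (Over U) ⟶ TwC.const U (ULift.{u} M)) →
      (Red.DS U M ⟶ Red.Gm U), ∀ b, charOf b = lift (𝟙 _) (toUnit _ ≫ b) ≫ υ := ⟨_, fun _ => rfl⟩
  have hchar_pts : ∀ b (Y : Over U) (g : Y ⟶ Red.DS U M),
      g ≫ charOf b = lift g (toUnit Y ≫ b) ≫ υ := by
    intro b Y g
    rw [hcharOf, ← Category.assoc, comp_lift, Category.comp_id, ← Category.assoc,
      toUnit_unique (g ≫ toUnit _) (toUnit Y)]
  have hchar_hom : ∀ b, IsPtHom (charOf b) := by
    intro b Y g h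
    rw [hchar_pts, hchar_pts, hchar_pts]
    exact hυhom Y g h _
  have hchar_res : ∀ b, fst (Red.DS U M) Z ≫ charOf b = (Red.DS U M ◁ (toUnit Z ≫ b)) ≫ υ := by
    intro b
    rw [hchar_pts]
    congr 1
    apply CartesianMonoidalCategory.hom_ext
    · rw [lift_fst, whiskerLeft_fst]
    · rw [lift_snd, whiskerLeft_snd, ← Category.assoc]
      congr 1
      exact toUnit_unique _ _
  have hchar_of : ∀ f : Red.DS U M ⟶ Red.Gm U, IsPtHom f → ∃ b, f = charOf b := by
    intro f hf
    have h1 : AutFam.IsHomFamily (Red.DS U M) (Red.Gm U) (fst (Red.DS U M) (𝟙_ (Over U)) ≫ f) := by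
      intro Y g h t
      rw [← Category.assoc, ← Category.assoc, ← Category.assoc, lift_fst, lift_fst, lift_fst]
      exact hf Y g h
    obtain ⟨b, hb, -⟩ := existsUnique_of_isHomFamily _ h1 hFG hlabbij υ hυ
    refine ⟨b, ?_⟩
    have h2 := congr(lift (𝟙 (Red.DS U M)) (toUnit _) ≫ $hb)
    rw [← Category.assoc, lift_whiskerLeft, ← Category.assoc, lift_fst, Category.id_comp] at h2
    rw [hcharOf, ← h2]
  refine ⟨?_, ?_⟩
  · intro f₀ hf₀
    obtain ⟨a₀, ha₀, -⟩ := existsUnique_of_isHomFamily _ hf₀ hFG hlabbij υ hυ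
    obtain ⟨b, hb, -⟩ := existsUnique_lift_const (toUnit Z) hk a₀
    refine ⟨charOf b, hchar_hom b, ?_⟩
    rw [hchar_res, hb, ha₀]
  · intro f f' hf hf' hff
    obtain ⟨b, rfl⟩ := hchar_of f hf
    obtain ⟨b', rfl⟩ := hchar_of f' hf'
    rw [hchar_res, hchar_res] at hff
    have h1 : AutFam.IsHomFamily (Red.DS U M) (Red.Gm U)
        ((Red.DS U M ◁ (toUnit Z ≫ b')) ≫ υ) :=
      isHomFamily_whiskerLeft_comp _ υ hυhom
    obtain ⟨a, -, hau⟩ := existsUnique_of_isHomFamily _ h1 hFG hlabbij υ hυ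
    have e1 := hau (toUnit Z ≫ b) hff
    have e2 := hau (toUnit Z ≫ b') rfl
    obtain ⟨c, -, hcu⟩ := existsUnique_lift_const (toUnit Z) hk a
    rw [hcu b e1, hcu b' e2]

open Groth.Agent.Lib.Helper15CharRep in
include hZ in
/-- **homomorphisms between diagonalisable groups extend along a homeomorphism of the base**
(a closed immersion which is surjective, for instance). -/
theorem exists_hom_lift_split (φ₀ : Red.DS U M ⊗ Z ⟶ Red.DS U M')
    (hφ₀ : AutFam.IsHomFamily (Red.DS U M) (Red.DS U M') φ₀) :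
    ∃ ψ : Red.DS U M ⟶ Red.DS U M', IsPtHom ψ ∧ fst (Red.DS U M) Z ≫ ψ = φ₀ := by
  obtain ⟨hex, huniq⟩ := char_lift Z hZ M
  have hchi : ∀ m', AutFam.IsHomFamily (Red.DS U M) (Red.Gm U) (φ₀ ≫ Red.chi U m') := by
    intro m' Y g h t
    rw [← Category.assoc, ← Category.assoc, ← Category.assoc, hφ₀ Y g h t]
    exact MonObj.mul_comp _ _ _
  choose c hc_hom hc_res using fun m' => hex _ (hchi m')
  have h_one : IsPtHom (1 : Red.DS U M ⟶ Red.Gm U) := by
    intro Y g h
    rw [MonObj.comp_one, MonObj.comp_one, MonObj.comp_one, _root_.mul_one]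
  have h_mul : ∀ f f' : Red.DS U M ⟶ Red.Gm U, IsPtHom f → IsPtHom f' → IsPtHom (f * f') := by
    intro f f' hf hf' Y g h
    rw [MonObj.comp_mul, MonObj.comp_mul, MonObj.comp_mul, hf, hf']
    exact mul_mul_mul_comm (g ≫ f) (h ≫ f) (g ≫ f') (h ≫ f')
  have chi_zero : Red.chi U (0 : M') = 1 := by
    have h1 := chi_add (U := U) M' 0 0
    rw [add_zero] at h1
    obtain ⟨x, hx⟩ : ∃ x : Red.DS U M' ⟶ Red.Gm U, x = Red.chi U (0 : M') := ⟨_, rfl⟩
    rw [← hx] at h1 ⊢
    have h2 : x * x = x * 1 := by rw [← h1]; exact (_root_.mul_one x).symm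
    exact @mul_left_cancel _ _ (@LeftCancelSemigroup.toIsLeftCancelMul _
      (@LeftCancelMonoid.toLeftCancelSemigroup _ (@CancelMonoid.toLeftCancelMonoid _
        (@Group.toCancelMonoid _ Hom.group)))) _ _ _ h2
  have c_zero : c 0 = 1 := by
    apply huniq _ _ (hc_hom 0) h_one
    rw [hc_res, chi_zero, MonObj.comp_one, MonObj.comp_one]
  have c_add : ∀ m m', c (m + m') = c m * c m' := by
    intro m m'
    apply huniq _ _ (hc_hom _) (h_mul _ _ (hc_hom m) (hc_hom m'))
    rw [hc_res, chi_add, MonObj.comp_mul, MonObj.comp_mul, hc_res, hc_res]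
  obtain ⟨a, ha⟩ := exists_of_chars (U := U) (T := Red.DS U M) M'
    ⟨⟨fun m => c (Multiplicative.toAdd m), c_zero⟩, fun m n => c_add _ _⟩
  have ha' : ∀ m' : M', a ≫ Red.chi U m' = c m' := fun m' => ha m'
  refine ⟨a, ?_, ?_⟩
  · intro Y g h
    apply hom_ext_chi
    intro m'
    rw [Category.assoc, ha', hc_hom m', MonObj.mul_comp _ _ (Red.chi U m'), Category.assoc,
      Category.assoc, ha']
  · apply hom_ext_chi
    intro m'
    rw [Category.assoc, ha', hc_res]

end Split

end Groth.Agent.Lib.Helper15HomLift
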