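-- helper15: the diagonalisable group Spec R[M] over Spec R is the base change of Spec Z[M], as group schemes (Grp iso Red.diag R M ≅ Red.DS (Spec R) M)
import Mathlib
import Groth.Agent.Lib.Helper15DiagRigid
import Groth.Agent.Lib.Helper11RigidityB
set_option autoImplicit false
universe u
open CategoryTheory CategoryTheory.Limits AlgebraicGeometry MonoidalCategory CartesianMonoidalCategory
  MonObj GrpObj

namespace Groth.Agent.Lib.Helper15DiagDSIso

open Groth.Agent.Lib.Helper15DiagRigid Groth.Agent.Lib.Helper11MultGa Groth.Agent.Lib.Helper27.GaGm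

section Gen

variable {C : Type*} [Category C] [CartesianMonoidalCategory C]

/-- a morphism of group objects compatible with the multiplication of points is a homomorphism. -/
theorem isMonHom_of_mul_grp {G H : C} [GrpObj G] [GrpObj H] (h : G ⟶ H)
    (h1 : (fst G G * snd G G) ≫ h = (fst G G ≫ h) * (snd G G ≫ h)) : IsMonHom h := by
  refine Groth.Agent.Lib.Helper11Rigidity.isMonHom_of_mul h ?_ h1
  have h2 := congr(lift (1 : 𝟙_ C ⟶ G) (1 : 𝟙_ C ⟶ G) ≫ $h1)
  rw [← Category.assoc, MonObj.comp_mul, lift_fst, lift_snd, MonObj.comp_mul, ← Category.assoc,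
    ← Category.assoc, lift_fst, lift_snd, _root_.mul_one] at h2
  have h3 : (1 : 𝟙_ C ⟶ G) ≫ h = 1 := by
    have : ((1 : 𝟙_ C ⟶ G) ≫ h) * 1 = ((1 : 𝟙_ C ⟶ G) ≫ h) * ((1 : 𝟙_ C ⟶ G) ≫ h) := by
      rw [_root_.mul_one]; exact h2
    exact (mul_left_cancel this).symm
  rw [Hom.one_def, Hom.one_def] at h3
  have e : toUnit (𝟙_ C) = 𝟙 _ := toUnit_unique _ _
  rw [e, Category.id_comp, Category.id_comp] at h3
  exact h3

end Gen

section Iso

variable (R : Type u) [CommRing R] (M : Type) [AddCommGroup M]

/-- the comparison ring map `ℤ[M] → R[M]`. -/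
noncomputable def iota : AM.{u} M →+* MonoidAlgebra R (Multiplicative M) :=
  thetaOf M (MonoidAlgebra.of R (Multiplicative M))

lemma iota_single (m : Multiplicative M) :
    iota R M (MonoidAlgebra.single m 1) = MonoidAlgebra.single m 1 := by
  unfold iota
  rw [thetaOf_single]
  rfl

/-- the comparison morphism `D_R(M) ⟶ D_{Spec R}(M)`. -/
noncomputable def toDS : Red.diag R M ⟶ Red.DS (Spec (CommRingCat.of R)) M :=
  ptOf M (X := Red.diag R M) (Spec.map (CommRingCat.ofHom (iota R M)))

instance : IsMonHom (toDS R M) := by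
  refine isMonHom_of_mul_grp (G := Red.diag R M) (H := Red.DS (Spec (CommRingCat.of R)) M)
    (toDS R M) ?_
  unfold toDS
  rw [ptOf_comp, ptOf_comp, ptOf_comp]
  symm
  apply ptOf_mul
  intro m
  have key : ∀ (z : (Red.diag R M ⊗ Red.diag R M).left ⟶
      Spec (CommRingCat.of (MonoidAlgebra R (Multiplicative M)))),
      fn (z ≫ Spec.map (CommRingCat.ofHom (iota R M))) (MonoidAlgebra.single m 1) =
        fn z (MonoidAlgebra.single m 1) := by
    intro z
    rw [fn_specMap, iota_single]
  refine (key _).trans ?_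
  refine Eq.trans ?_ (congrArg₂ (· * ·) (key _).symm (key _).symm)
  exact fn_mul_left_of_grouplike (R := R) (A := MonoidAlgebra R (Multiplicative M))
    (fst (Red.diag R M) (Red.diag R M)) (snd (Red.diag R M) (Red.diag R M)) _ (by simp)

/-- the first projection of `D_{Spec R}(M)` to `Spec ℤ[M]`. -/
noncomputable abbrev p1 : (Red.DS (Spec (CommRingCat.of R)) M).left ⟶ Spec (CommRingCat.of (AM.{u} M)) :=
  pullback.fst (Red.diag (ULift.{u} ℤ) M).hom (tU (Spec (CommRingCat.of R)))

/-- the ring map defining the inverse comparison. -/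
noncomputable def beta : MonoidAlgebra R (Multiplicative M) →+*
    Γ((Red.DS (Spec (CommRingCat.of R)) M).left, ⊤) :=
  MonoidAlgebra.liftNCRingHom (fnHom (Red.DS (Spec (CommRingCat.of R)) M).hom)
    (((fnHom (p1 R M) : AM.{u} M →+* _) : AM.{u} M →* _).comp
      (MonoidAlgebra.of (ULift.{u} ℤ) (Multiplicative M)))
    (fun _ _ => Commute.all _ _)

lemma beta_single_one (r : R) :
    beta R M (MonoidAlgebra.single 1 r) = fn (Red.DS (Spec (CommRingCat.of R)) M).hom r := by
  unfold beta
  rw [MonoidAlgebra.liftNCRingHom_single, map_one, _root_.mul_one]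
  rfl

lemma beta_single (m : Multiplicative M) :
    beta R M (MonoidAlgebra.single m 1) = fn (p1 R M) (MonoidAlgebra.single m 1) := by
  unfold beta
  rw [MonoidAlgebra.liftNCRingHom_single, map_one, _root_.one_mul]
  rfl

lemma exists_inv : ∃ z : (Red.DS (Spec (CommRingCat.of R)) M).left ⟶
    Spec (CommRingCat.of (MonoidAlgebra R (Multiplicative M))), ∀ a, fn z a = beta R M a :=
  fn_surj (beta R M)

/-- the underlying morphism of the inverse comparison. -/
noncomputable def invLeft : (Red.DS (Spec (CommRingCat.of R)) M).left ⟶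
    Spec (CommRingCat.of (MonoidAlgebra R (Multiplicative M))) := (exists_inv R M).choose

lemma fn_invLeft (a : MonoidAlgebra R (Multiplicative M)) : fn (invLeft R M) a = beta R M a :=
  (exists_inv R M).choose_spec a

lemma invLeft_hom : invLeft R M ≫ (Red.diag R M).hom = (Red.DS (Spec (CommRingCat.of R)) M).hom := by
  apply fn_ext
  intro r
  have e : (Red.diag R M).hom = Spec.map (CommRingCat.ofHom
      (algebraMap R (MonoidAlgebra R (Multiplicative M)))) := rfl
  rw [e, fn_specMap, fn_invLeft]
  exact beta_single_one R M r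

/-- the inverse comparison morphism. -/
noncomputable def ofDS : Red.DS (Spec (CommRingCat.of R)) M ⟶ Red.diag R M :=
  Over.homMk (invLeft R M) (invLeft_hom R M)

lemma ofDS_toDS : ofDS R M ≫ toDS R M = 𝟙 _ := by
  unfold toDS
  rw [ptOf_comp]
  have h1 : (𝟙 (Red.DS (Spec (CommRingCat.of R)) M)) = ptOf M (p1 R M) := by
    rw [← ptOf_adjEquiv M (𝟙 (Red.DS (Spec (CommRingCat.of R)) M))]
    congr 1
  rw [h1]
  congr 1
  apply fn_ext
  intro a
  change fn (invLeft R M ≫ Spec.map (CommRingCat.ofHom (iota R M))) a = _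
  rw [fn_specMap, fn_invLeft, fn_eq]
  refine congr($(amRingHom_ext M ((beta R M).comp (iota R M)) (fnHom (p1 R M)) ?_) a)
  intro m
  rw [RingHom.comp_apply, iota_single, beta_single]
  rfl

lemma toDS_ofDS : toDS R M ≫ ofDS R M = 𝟙 _ := by
  apply Over.OverMorphism.ext
  change (toDS R M).left ≫ invLeft R M = 𝟙 (Spec (CommRingCat.of (MonoidAlgebra R (Multiplicative M))))
  apply fn_ext
  intro a
  rw [fn_comp, fn_invLeft]
  obtain ⟨f1, hf1⟩ : ∃ f1 : MonoidAlgebra R (Multiplicative M) →+*
      Γ(Spec (CommRingCat.of (MonoidAlgebra R (Multiplicative M))), ⊤),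
      ∀ a, f1 a = (toDS R M).left.appTop (beta R M a) :=
    ⟨((toDS R M).left.appTop.hom).comp (beta R M), fun _ => rfl⟩
  rw [← hf1, fn_eq]
  refine congr($(MonoidAlgebra.ringHom_ext (f := f1)
    (g := fnHom (𝟙 (Spec (CommRingCat.of (MonoidAlgebra R (Multiplicative M)))))) ?_ ?_) a)
  · intro r
    rw [hf1, beta_single_one, ← fn_comp, Over.w (toDS R M), ← fn_eq]
    have e2 := fn_specMap (𝟙 (Spec (CommRingCat.of (MonoidAlgebra R (Multiplicative M)))))
      (algebraMap R (MonoidAlgebra R (Multiplicative M))) r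
    rw [Category.id_comp] at e2
    exact e2
  · intro m
    rw [hf1, beta_single, ← fn_comp, ← fn_eq]
    have e : (toDS R M).left ≫ p1 R M = Spec.map (CommRingCat.ofHom (iota R M)) := by
      have := adjEquiv_ptOf M (X := Red.diag R M) (Spec.map (CommRingCat.ofHom (iota R M)))
      rw [adjEquiv_left] at this
      exact this
    rw [e]
    have e2 := fn_specMap (𝟙 (Spec (CommRingCat.of (MonoidAlgebra R (Multiplicative M)))))
      (iota R M) (MonoidAlgebra.single m 1)
    rw [Category.id_comp, iota_single] at e2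
    exact e2

/-- **the diagonalisable group `Spec R[M]` over `Spec R` is the base change of `Spec ℤ[M]`, as
groups.** -/
noncomputable def diagIsoDS : Grp.mk (Red.diag R M) ≅ Grp.mk (Red.DS (Spec (CommRingCat.of R)) M) :=
  Grp.mkIso' (⟨toDS R M, ofDS R M, toDS_ofDS R M, ofDS_toDS R M⟩ : Red.diag R M ≅ _)

end Iso

end Groth.Agent.Lib.Helper15DiagDSIso
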