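-- helper15: rigidity of homomorphisms from groups of multiplicative type modulo a locally nilpotent ideal; split => fpqc-locally split; ker of Spec(R/I) -> Spec R nilpotent
import Mathlib
import Groth.Agent.Lib.Helper15DiagDSIso
import Groth.Agent.Lib.Helper15DiagRigidLoc
import Groth.Agent.Lib.Helper15DSbc
import Groth.Agent.Lib.Helper15NormCentral
import Groth.Prelude.Def_NonAbH2
set_option autoImplicit false
universe u
open CategoryTheory CategoryTheory.Limits AlgebraicGeometry MonoidalCategory CartesianMonoidalCategory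
  MonObj GrpObj

namespace Groth.Agent.Lib.Helper15HomRigid

section Nil

variable {R : Type u} [CommRing R] (I : Ideal R)

/-- the ideal of `Spec (R/I)` in `Spec R` is nilpotent on the whole affine scheme when `I` is. -/
lemma isNilpotent_ker_specMap (hI : IsNilpotent I) (x : ↥(Spec (CommRingCat.of R))) :
    ∃ U : (Spec (CommRingCat.of R)).affineOpens, x ∈ (U : (Spec (CommRingCat.of R)).Opens) ∧
      IsNilpotent ((Spec.map (CommRingCat.ofHom (Ideal.Quotient.mk I))).ker.ideal U) := by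
  refine ⟨⟨⊤, isAffineOpen_top _⟩, trivial, ?_⟩
  obtain ⟨n, hn⟩ := hI
  refine ⟨n, ?_⟩
  rw [Ideal.zero_eq_bot, eq_bot_iff]
  obtain ⟨e, he⟩ : ∃ e : Γ(Spec (CommRingCat.of R), ⊤) →+* R,
      e = (Scheme.ΓSpecIso (CommRingCat.of R)).hom.hom := ⟨_, rfl⟩
  have hinj : Function.Injective e := by
    rw [he]
    exact ((Scheme.ΓSpecIso (CommRingCat.of R)).commRingCatIsoToRingEquiv).injective
  have h1 : (Spec.map (CommRingCat.ofHom (Ideal.Quotient.mk I))).ker.ideal
      ⟨⊤, isAffineOpen_top _⟩ ≤ Ideal.comap e I := by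
    intro y hy
    rw [Scheme.Hom.ker_apply, RingHom.mem_ker] at hy
    rw [Ideal.mem_comap, ← Ideal.Quotient.eq_zero_iff_mem]
    have nat := Scheme.ΓSpecIso_naturality (CommRingCat.ofHom (Ideal.Quotient.mk I))
    have h2 := congr($(nat).hom y)
    simp only [CommRingCat.hom_comp, RingHom.comp_apply, CommRingCat.hom_ofHom] at h2
    rw [he, ← h2]
    change (Scheme.ΓSpecIso _).hom.hom ((Spec.map (CommRingCat.ofHom (Ideal.Quotient.mk I))).appTop.hom y) = 0
    have hy' : (Spec.map (CommRingCat.ofHom (Ideal.Quotient.mk I))).appTop.hom y = 0 := hy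
    rw [hy', map_zero]
  calc _ ≤ (Ideal.comap e I) ^ n := Ideal.pow_right_mono h1 n
    _ ≤ Ideal.comap e (I ^ n) := Ideal.le_comap_pow e n
    _ = Ideal.comap e ⊥ := by rw [hn, Ideal.zero_eq_bot]
    _ = ⊥ := Ideal.comap_bot_of_injective e hinj

end Nil

section Loc

variable {S : Scheme.{u}} (G : Over S) [GrpObj G]

/-- a split group is fpqc-locally split. -/
theorem locally_of_iso (M : Type) [AddCommGroup M] (e : Grp.mk G ≅ Grp.mk (Red.DS S M)) :
    TwC.Locally S TwC.Topology.fpqc (fun S' f => ∃ (M : Type) (_ : AddCommGroup M),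
      Nonempty (Grp.mk (Red.bc f G) ≅ Grp.mk (Red.DS S' M))) := by
  refine ⟨S, 𝟙 S, inferInstance, inferInstance, ?_, ?_⟩
  · intro V hV
    exact ⟨V, hV.isCompact, by simp⟩
  · intro s
    refine ⟨⊤, trivial, M, inferInstance, ?_⟩
    obtain ⟨e'⟩ := Groth.Agent.Lib.Helper15DSbc.nonempty_DS_bc
      ((⊤ : S.Opens).ι ≫ 𝟙 S) M
    exact ⟨(Over.pullback ((⊤ : S.Opens).ι ≫ 𝟙 S)).mapGrp.mapIso e ≪≫ e'⟩

end Loc

section Rigid

variable {S S₀ : Scheme.{u}} (i₀ : S₀ ⟶ S) [IsClosedImmersion i₀]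
  (hnil : ∀ x : S, ∃ U : S.affineOpens, x ∈ (U : S.Opens) ∧ IsNilpotent (i₀.ker.ideal U))
  (G X : Over S) [GrpObj G] [GrpObj X]
  (hG : TwC.Locally S TwC.Topology.fpqc (fun S' f => ∃ (M : Type) (_ : AddCommGroup M),
      Nonempty (Grp.mk (Red.bc f G) ≅ Grp.mk (Red.DS S' M))))

include hnil hG in
/-- **rigidity of homomorphisms**: a homomorphism from a group of multiplicative type to an
arbitrary group which is trivial modulo a locally nilpotent ideal is trivial. -/
theorem hom_eq_one_of_mod (u : G ⟶ X) [IsMonHom u]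
    (h0 : ∀ (Y : Over S) (_ : Y ⟶ Over.mk i₀) (g : Y ⟶ G), g ≫ u = 1) : u = 1 := by
  have hact : ∀ (Y : Over S) (g : Y ⟶ G) (x : Y ⟶ X),
      lift g x ≫ ((NonAbH1.trivialAction X).restrict u).act = (g ≫ u) * x := by
    intro Y g x
    rw [AlgGrp.Action.lift_restrict_act]
    change lift (g ≫ u) x ≫ μ[X] = _
    rw [Hom.mul_def]
  have key := Groth.Agent.Lib.Helper15DiagRigidLoc.act_eq_of_locally i₀ hnil G X
    ((NonAbH1.trivialAction X).restrict u) (by
      intro Y p g x
      rw [hact, h0 Y p g, _root_.one_mul]) hG G (𝟙 G) 1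
  rw [hact, Category.id_comp, _root_.mul_one] at key
  exact key

omit [IsClosedImmersion i₀] [GrpObj G] in
/-- a morphism to a group whose base change along `i₀` is trivial is trivial on the points lying
over `i₀`. -/
theorem comp_eq_one_of_bc {A : Over S} (u : A ⟶ X) (h : (Over.pullback i₀).map u = 1)
    (Y : Over S) (p : Y ⟶ Over.mk i₀) (g : Y ⟶ A) : g ≫ u = 1 := by
  obtain ⟨j, hj⟩ : ∃ j : (Over.map i₀).obj (Over.mk p.left) ⟶ Y, j.left = 𝟙 _ :=
    ⟨Over.homMk (𝟙 _) (by simpa using (Over.w p).symm), rfl⟩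
  have hji : IsIso j := by
    have : IsIso ((Over.forget S).map j) := by
      change IsIso j.left
      rw [hj]; infer_instance
    exact isIso_of_reflects_iso j (Over.forget S)
  have h1 := (Over.mapPullbackAdj i₀).homEquiv_naturality_right (j ≫ g) u
  rw [h, MonObj.comp_one, ← Groth.Agent.Lib.Helper15NormCentral.homEquiv_one] at h1
  have h2 := ((Over.mapPullbackAdj i₀).homEquiv _ _).injective h1
  rw [Category.assoc] at h2
  have h3 : j ≫ g ≫ u = j ≫ 1 := by rw [h2, MonObj.comp_one]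
  exact (cancel_epi j).mp h3

end Rigid

end Groth.Agent.Lib.Helper15HomRigid
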