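-- helper15: factorisation of one diagonalisable subgroup through another, split case and affine base change
import Mathlib
import Groth.Agent.Lib.Helper15HomLiftA
import Groth.Agent.Lib.Helper15HomRigid
set_option autoImplicit false
universe u
open CategoryTheory CategoryTheory.Limits AlgebraicGeometry MonoidalCategory
  CartesianMonoidalCategory MonObj GrpObj

namespace Groth.Agent.Lib.Helper15HomLift

open Groth.Agent.Lib.Helper15HomRep

lemma grp_aux {Γ : Type*} [Group Γ] (a a' b b' : Γ) (h1 : a' * b = b * a')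
    (h2 : b * b' = b' * b) : (a * a') * (b * b')⁻¹ = (a * b⁻¹) * (a' * b'⁻¹) := by
  have e3 : a' * b⁻¹ = b⁻¹ * a' := by
    rw [eq_inv_mul_iff_mul_eq, ← _root_.mul_assoc, ← h1, _root_.mul_assoc, _root_.mul_inv_cancel,
      _root_.mul_one]
  have e4 : (b * b')⁻¹ = b⁻¹ * b'⁻¹ := by rw [h2, _root_.mul_inv_rev]
  calc (a * a') * (b * b')⁻¹ = a * (a' * b⁻¹) * b'⁻¹ := by
        rw [e4]; simp only [_root_.mul_assoc]
    _ = a * (b⁻¹ * a') * b'⁻¹ := by rw [e3]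
    _ = _ := by simp only [_root_.mul_assoc]

section SplitLocal

variable {U U₀ : Scheme.{u}} (j : U₀ ⟶ U) [IsClosedImmersion j]
  (hnil : ∀ x : U, ∃ V : U.affineOpens, x ∈ (V : U.Opens) ∧ IsNilpotent (j.ker.ideal V))
  (G : Over U) [GrpObj G] (M M' : Type) [AddCommGroup M] [AddCommGroup M']
  (i₁ : Red.DS U M ⟶ G) [IsMonHom i₁] (i₂ : Red.DS U M' ⟶ G) [IsMonHom i₂] [Mono i₂]
  (hcomm : ∀ (Y : Over U) (x : Y ⟶ Red.DS U M') (h : Y ⟶ Red.DS U M),
    (x ≫ i₂) * (h ≫ i₁) = (h ≫ i₁) * (x ≫ i₂))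
  (hpts : ∀ (Y : Over U) (_ : Y ⟶ Over.mk j) (h : Y ⟶ Red.DS U M),
    ∃ h' : Y ⟶ Red.DS U M', h' ≫ i₂ = h ≫ i₁)

include hnil hcomm hpts in
/-- two diagonalisable subgroups whose images commute and which agree modulo a locally nilpotent
ideal: the first factors through the second. -/
theorem exists_factor_split : ∃ ψ : Red.DS U M ⟶ Red.DS U M', ψ ≫ i₂ = i₁ := by
  have hsurj : Surjective j := Groth.Agent.Lib.Helper15DiagRigid.surjective_of_locally_nilpotent j hnil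
  have hZ : IsHomeomorph (Over.mk j).hom := by
    rw [isHomeomorph_iff_isEmbedding_surjective]
    exact ⟨j.isClosedEmbedding.isEmbedding, hsurj.surj⟩
  obtain ⟨φ₀, hφ₀⟩ := hpts (Red.DS U M ⊗ Over.mk j) (snd _ _) (fst _ _)
  have hφ₀hom : AutFam.IsHomFamily (Red.DS U M) (Red.DS U M') φ₀ := by
    intro Y g₁ g₂ t
    rw [← cancel_mono i₂, Category.assoc, hφ₀, MonObj.mul_comp, Category.assoc, Category.assoc,
      hφ₀, ← Category.assoc, ← Category.assoc, ← Category.assoc, lift_fst, lift_fst, lift_fst,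
      MonObj.mul_comp]
  obtain ⟨ψ, hψhom, hψ⟩ := exists_hom_lift_split (Over.mk j) hZ M M' φ₀ hφ₀hom
  refine ⟨ψ, ?_⟩
  -- rigidity
  obtain ⟨u, hu⟩ : ∃ u : Red.DS U M ⟶ G, u = (ψ ≫ i₂) * i₁⁻¹ := ⟨_, rfl⟩
  have hu_pts : ∀ (Y : Over U) (g : Y ⟶ Red.DS U M), g ≫ u = (g ≫ ψ ≫ i₂) * (g ≫ i₁)⁻¹ := by
    intro Y g
    rw [hu, MonObj.comp_mul, GrpObj.comp_inv]
  have hmon : IsMonHom u := by
    apply Groth.Agent.Lib.Helper15DiagDSIso.isMonHom_of_mul_grp
    rw [hu_pts, hu_pts, hu_pts]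
    have h_a : (fst (Red.DS U M) (Red.DS U M) * snd (Red.DS U M) (Red.DS U M)) ≫ ψ ≫ i₂ =
        (fst (Red.DS U M) (Red.DS U M) ≫ ψ ≫ i₂) * (snd (Red.DS U M) (Red.DS U M) ≫ ψ ≫ i₂) := by
      rw [← Category.assoc, hψhom, MonObj.mul_comp, Category.assoc, Category.assoc]
    have h_b : (fst (Red.DS U M) (Red.DS U M) * snd (Red.DS U M) (Red.DS U M)) ≫ i₁ =
        (fst (Red.DS U M) (Red.DS U M) ≫ i₁) * (snd (Red.DS U M) (Red.DS U M) ≫ i₁) :=
      MonObj.mul_comp _ _ _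
    rw [h_a, h_b]
    apply grp_aux
    · rw [← Category.assoc]
      exact hcomm _ _ _
    · rw [← MonObj.mul_comp _ _ i₁, ← MonObj.mul_comp _ _ i₁,
        _root_.mul_comm (fst (Red.DS U M) (Red.DS U M)) (snd (Red.DS U M) (Red.DS U M))]
  have hG := Groth.Agent.Lib.Helper15HomRigid.locally_of_iso (Red.DS U M) M (Iso.refl _)
  have hu1 := Groth.Agent.Lib.Helper15HomRigid.hom_eq_one_of_mod j hnil (Red.DS U M) G hG u (by
    intro Y p g
    rw [hu_pts]
    have e1 : g ≫ ψ = lift g p ≫ φ₀ := by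
      rw [← hψ, ← Category.assoc, lift_fst]
    rw [← Category.assoc, e1, Category.assoc, hφ₀, ← Category.assoc, lift_fst, _root_.mul_inv_cancel])
  rw [hu] at hu1
  exact mul_inv_eq_one.mp hu1

end SplitLocal

section Transport

variable {U U₀ : Scheme.{u}} (j : U₀ ⟶ U) [IsClosedImmersion j]
  (hnil : ∀ x : U, ∃ V : U.affineOpens, x ∈ (V : U.Opens) ∧ IsNilpotent (j.ker.ideal V))
  (G H H' : Over U) [GrpObj G] [GrpObj H] [GrpObj H'] (M M' : Type) [AddCommGroup M]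
  [AddCommGroup M']
  (e : Grp.mk H ≅ Grp.mk (Red.DS U M)) (e' : Grp.mk H' ≅ Grp.mk (Red.DS U M'))
  (i : H ⟶ G) [IsMonHom i] (i' : H' ⟶ G) [IsMonHom i'] [Mono i']
  (hcomm : ∀ (Y : Over U) (x : Y ⟶ H') (h : Y ⟶ H), (x ≫ i') * (h ≫ i) = (h ≫ i) * (x ≫ i'))
  (hpts : ∀ (Y : Over U) (_ : Y ⟶ Over.mk j) (h : Y ⟶ H), ∃ h' : Y ⟶ H', h' ≫ i' = h ≫ i)

include hnil e e' hcomm hpts in
/-- the same for split groups. -/
theorem exists_factor_of_iso : ∃ ψ : H ⟶ H', ψ ≫ i' = i := by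
  obtain ⟨α, hα⟩ : ∃ α : Red.DS U M ⟶ H, α = e.inv.hom.hom := ⟨_, rfl⟩
  have hαm : IsMonHom α := by rw [hα]; infer_instance
  obtain ⟨α', hα'⟩ : ∃ α' : H ⟶ Red.DS U M, α' = e.hom.hom.hom := ⟨_, rfl⟩
  have h12 : α' ≫ α = 𝟙 _ := by
    rw [hα, hα']
    have := e.hom_inv_id
    exact congr($(this).hom.hom)
  obtain ⟨β, hβ⟩ : ∃ β : Red.DS U M' ⟶ H', β = e'.inv.hom.hom := ⟨_, rfl⟩
  have hβm : IsMonHom β := by rw [hβ]; infer_instance
  obtain ⟨β', hβ'⟩ : ∃ β' : H' ⟶ Red.DS U M', β' = e'.hom.hom.hom := ⟨_, rfl⟩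
  have h34 : β' ≫ β = 𝟙 _ := by
    rw [hβ, hβ']
    have := e'.hom_inv_id
    exact congr($(this).hom.hom)
  have h43 : β ≫ β' = 𝟙 _ := by
    rw [hβ, hβ']
    have := e'.inv_hom_id
    exact congr($(this).hom.hom)
  have hβiso : IsIso β := ⟨β', h43, h34⟩
  have hmono : Mono (β ≫ i') := mono_comp _ _
  obtain ⟨ψ', hψ'⟩ := exists_factor_split j hnil G M M' (α ≫ i) (β ≫ i') (by
    intro Y x h
    have := hcomm Y (x ≫ β) (h ≫ α)
    simpa only [Category.assoc] using this) (by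
    intro Y p h
    obtain ⟨h'', hh''⟩ := hpts Y p (h ≫ α)
    refine ⟨h'' ≫ β', ?_⟩
    rw [Category.assoc, ← Category.assoc β', h34, Category.id_comp, hh'', Category.assoc])
  refine ⟨α' ≫ ψ' ≫ β, ?_⟩
  rw [Category.assoc, Category.assoc, hψ', ← Category.assoc, h12, Category.id_comp]

end Transport

section BC

variable {R B : Type u} [CommRing R] [CommRing B] (J : Ideal R) (hJ : IsNilpotent J)
  (g : Spec (CommRingCat.of B) ⟶ Spec (CommRingCat.of R))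
  (G H H' : Over (Spec (CommRingCat.of R))) [GrpObj G] [GrpObj H] [GrpObj H']
  (i : H ⟶ G) [IsMonHom i] (i' : H' ⟶ G) [IsMonHom i'] [Mono i']
  (hcomm : ∀ (Y : Over (Spec (CommRingCat.of R))) (x : Y ⟶ H') (h : Y ⟶ H),
    (x ≫ i') * (h ≫ i) = (h ≫ i) * (x ≫ i'))
  (hpts : ∀ (Y : Over (Spec (CommRingCat.of R)))
    (_ : Y ⟶ Over.mk (Spec.map (CommRingCat.ofHom (Ideal.Quotient.mk J)))) (h : Y ⟶ H),
    ∃ h' : Y ⟶ H', h' ≫ i' = h ≫ i)
  (M M' : Type) [AddCommGroup M] [AddCommGroup M']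
  (e : Grp.mk (Red.bc g H) ≅ Grp.mk (Red.DS (Spec (CommRingCat.of B)) M))
  (e' : Grp.mk (Red.bc g H') ≅ Grp.mk (Red.DS (Spec (CommRingCat.of B)) M'))

include hJ hcomm hpts e e' in
/-- the factorisation over an affine base over which both subgroups become diagonalisable. -/
theorem exists_factor_bc : ∃ ψ : Red.bc g H ⟶ Red.bc g H',
    ψ ≫ (Over.pullback g).map i' = (Over.pullback g).map i := by
  obtain ⟨gam, hgam⟩ : ∃ gam : R →+* B, g = Spec.map (CommRingCat.ofHom gam) :=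
    ⟨(Spec.preimage g).hom, by rw [CommRingCat.ofHom_hom, Spec.map_preimage]⟩
  obtain ⟨J', hJ'⟩ : ∃ J' : Ideal B, J' = J.map gam := ⟨_, rfl⟩
  have hJ'nil : IsNilpotent J' := by
    obtain ⟨n, hn⟩ := hJ
    refine ⟨n, ?_⟩
    rw [hJ', ← Ideal.map_pow, hn, Ideal.zero_eq_bot, Ideal.map_bot, Ideal.zero_eq_bot]
  have hci : IsClosedImmersion (Spec.map (CommRingCat.ofHom (Ideal.Quotient.mk J'))) :=
    IsClosedImmersion.spec_of_surjective _ Ideal.Quotient.mk_surjective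
  have hle : J ≤ J'.comap gam := by rw [hJ']; exact Ideal.le_comap_map
  have hsq : Spec.map (CommRingCat.ofHom (Ideal.Quotient.mk J')) ≫ g =
      Spec.map (CommRingCat.ofHom (Ideal.quotientMap J' gam hle)) ≫
        Spec.map (CommRingCat.ofHom (Ideal.Quotient.mk J)) := by
    rw [hgam, ← Spec.map_comp, ← Spec.map_comp, ← CommRingCat.ofHom_comp, ← CommRingCat.ofHom_comp,
      Ideal.quotientMap_comp_mk]
  have hmono : Mono ((Over.pullback g).map i') := inferInstance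
  refine exists_factor_of_iso (Spec.map (CommRingCat.ofHom (Ideal.Quotient.mk J')))
    (Groth.Agent.Lib.Helper15HomRigid.isNilpotent_ker_specMap J' hJ'nil) (Red.bc g G) (Red.bc g H)
    (Red.bc g H') M M' e e' ((Over.pullback g).map i) ((Over.pullback g).map i') ?_ ?_
  · intro Y x h
    obtain ⟨x₀, hx₀⟩ : ∃ x₀, (Over.mapPullbackAdj g).homEquiv Y H' x₀ = x :=
      ⟨_, Equiv.apply_symm_apply _ _⟩
    obtain ⟨h₀, hh₀⟩ : ∃ h₀, (Over.mapPullbackAdj g).homEquiv Y H h₀ = h :=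
      ⟨_, Equiv.apply_symm_apply _ _⟩
    rw [← hx₀, ← hh₀, ← Adjunction.homEquiv_naturality_right,
      ← Adjunction.homEquiv_naturality_right, ← AlgGrp.Action.homEquiv_mul,
      ← AlgGrp.Action.homEquiv_mul, hcomm]
  · intro Y p h
    obtain ⟨h₀, hh₀⟩ : ∃ h₀, (Over.mapPullbackAdj g).homEquiv Y H h₀ = h :=
      ⟨_, Equiv.apply_symm_apply _ _⟩
    obtain ⟨p₀, -⟩ : ∃ p₀ : (Over.map g).obj Y ⟶
        Over.mk (Spec.map (CommRingCat.ofHom (Ideal.Quotient.mk J))),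
        p₀.left = p.left ≫ Spec.map (CommRingCat.ofHom (Ideal.quotientMap J' gam hle)) :=
      ⟨Over.homMk (p.left ≫ Spec.map (CommRingCat.ofHom (Ideal.quotientMap J' gam hle))) (by
        have hw := Over.w p
        simp only [Over.mk_hom] at hw
        simp only [Over.mk_hom, Over.map_obj_hom, Category.assoc]
        rw [← hsq, ← Category.assoc, hw]), rfl⟩
    obtain ⟨h₀', hh₀'⟩ := hpts _ p₀ h₀
    refine ⟨(Over.mapPullbackAdj g).homEquiv Y H' h₀', ?_⟩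
    rw [← Adjunction.homEquiv_naturality_right, hh₀', Adjunction.homEquiv_naturality_right, hh₀]

end BC

end Groth.Agent.Lib.Helper15HomLift
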