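-- helper15: fixed locus of a family of endomorphisms of a diagonalisable group is clopen (member lemma over a trivialising base)
import Mathlib
import Groth.Agent.Lib.Helper15GrpLikeFix
import Groth.Agent.Lib.Helper15NormCentral
set_option autoImplicit false
universe u
open CategoryTheory CategoryTheory.Limits AlgebraicGeometry MonoidalCategory CartesianMonoidalCategory
  MonObj GrpObj

namespace Groth.Agent.Lib.Helper15FixClopen

open Groth.Agent.Lib.Helper15GrpLike Groth.Agent.Lib.Helper15GrpLikeFix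
open Groth.Agent.Lib.Helper15NormCentral

section Member

variable {S U : Scheme.{u}} (f : U ⟶ S) (N H Z : Over S) [GrpObj H]
  (c : N ⊗ H ⟶ H)
  (hmul : ∀ (Y : Over S) (n : Y ⟶ N) (h h' : Y ⟶ H),
    lift n (h * h') ≫ c = (lift n h ≫ c) * (lift n h' ≫ c))
  (ζ : Z ⟶ N) [Mono ζ]
  (hζ : ∀ (X : Over S) (n : X ⟶ N), (∃ z : X ⟶ Z, z ≫ ζ = n) ↔
    ∀ (X' : Over S) (x : X' ⟶ X) (h : X' ⟶ H), lift (x ≫ n) h ≫ c = h)
  (M : Type) [AddCommGroup M] (hM : AddGroup.FG M)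
  (e : Grp.mk (Red.bc f H) ≅ Grp.mk (Red.DS U M))

include hmul hζ hM e in
/-- over a base on which `H` becomes diagonalisable with finitely generated character group, the
fixed locus of a family of endomorphisms of `H` is open and closed in the parameter scheme. -/
theorem isOpenImmersion_isClosedImmersion_bc :
    IsOpenImmersion ((Over.pullback f).map ζ).left ∧
      IsClosedImmersion ((Over.pullback f).map ζ).left := by
  obtain ⟨ψ, hψ⟩ : ∃ ψ : Red.DS U M ⟶ Red.bc f H, ψ = e.inv.hom.hom := ⟨_, rfl⟩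
  have hψm : IsMonHom ψ := by rw [hψ]; infer_instance
  obtain ⟨ψ', hψ'⟩ : ∃ ψ' : Red.bc f H ⟶ Red.DS U M, ψ' = e.hom.hom.hom := ⟨_, rfl⟩
  have hψ'm : IsMonHom ψ' := by rw [hψ']; infer_instance
  have hψψ : ψ' ≫ ψ = 𝟙 _ := by
    rw [hψ, hψ']
    have := e.hom_inv_id
    exact congr($(this).hom.hom)
  have hψψ' : ψ ≫ ψ' = 𝟙 _ := by
    rw [hψ, hψ']
    have := e.inv_hom_id
    exact congr($(this).hom.hom)
  obtain ⟨c', hc'⟩ : ∃ c' : Red.bc f N ⊗ Red.DS U M ⟶ Red.DS U M,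
      c' = (Red.bc f N ◁ ψ) ≫ Functor.LaxMonoidal.μ (Over.pullback f) N H ≫
        (Over.pullback f).map c ≫ ψ' := ⟨_, rfl⟩
  have key : ∀ (T' : Over U) (k₀ : (Over.map f).obj T' ⟶ N) (h₀ : (Over.map f).obj T' ⟶ H),
      lift ((Over.mapPullbackAdj f).homEquiv T' N k₀)
        ((Over.mapPullbackAdj f).homEquiv T' H h₀ ≫ ψ') ≫ c' =
        (Over.mapPullbackAdj f).homEquiv T' H (lift k₀ h₀ ≫ c) ≫ ψ' := by
    intro T' k₀ h₀
    rw [hc', lift_whiskerLeft_assoc, Category.assoc, hψψ, Category.comp_id,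
      ← lift_homEquiv_bc f c k₀ h₀]
    simp only [Category.assoc]
  have hk_surj : ∀ (T' : Over U) (k' : T' ⟶ Red.bc f N),
      ∃ k₀, (Over.mapPullbackAdj f).homEquiv T' N k₀ = k' :=
    fun T' k' => ⟨_, Equiv.apply_symm_apply _ _⟩
  have hz_surj : ∀ (T' : Over U) (z' : T' ⟶ Red.bc f Z),
      ∃ z₀, (Over.mapPullbackAdj f).homEquiv T' Z z₀ = z' :=
    fun T' z' => ⟨_, Equiv.apply_symm_apply _ _⟩
  have hh_surj : ∀ (T' : Over U) (h' : T' ⟶ Red.DS U M),
      ∃ h₀, (Over.mapPullbackAdj f).homEquiv T' H h₀ ≫ ψ' = h' := by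
    intro T' h'
    refine ⟨((Over.mapPullbackAdj f).homEquiv T' H).symm (h' ≫ ψ), ?_⟩
    rw [Equiv.apply_symm_apply, Category.assoc, hψψ', Category.comp_id]
  have hmul' : ∀ (T' : Over U) (k' : T' ⟶ Red.bc f N) (h' h'' : T' ⟶ Red.DS U M),
      lift k' (h' * h'') ≫ c' = (lift k' h' ≫ c') * (lift k' h'' ≫ c') := by
    intro T' k' h' h''
    obtain ⟨k₀, rfl⟩ := hk_surj T' k'
    obtain ⟨h₀, rfl⟩ := hh_surj T' h'
    obtain ⟨h₀', rfl⟩ := hh_surj T' h''
    rw [← MonObj.mul_comp, ← AlgGrp.Action.homEquiv_mul, key, key, key, hmul,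
      AlgGrp.Action.homEquiv_mul]
    exact MonObj.mul_comp _ _ ψ'
  obtain ⟨ζ', hζ'⟩ : ∃ ζ' : Red.bc f Z ⟶ Red.bc f N, ζ' = (Over.pullback f).map ζ := ⟨_, rfl⟩
  rw [← hζ']
  have hnatR : ∀ (T' : Over U) (z₀ : (Over.map f).obj T' ⟶ Z),
      (Over.mapPullbackAdj f).homEquiv T' Z z₀ ≫ ζ' =
        (Over.mapPullbackAdj f).homEquiv T' N (z₀ ≫ ζ) := by
    intro T' z₀
    rw [hζ', Adjunction.homEquiv_naturality_right]
  -- points of the base change of `Z` are fixed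
  have hfix : ∀ (T' : Over U) (z' : T' ⟶ Red.bc f Z) (h'' : T' ⟶ Red.DS U M),
      lift (z' ≫ ζ') h'' ≫ c' = h'' := by
    intro T' z' h''
    obtain ⟨z₀, rfl⟩ := hz_surj T' z'
    obtain ⟨h₀, rfl⟩ := hh_surj T' h''
    rw [hnatR, key]
    have := (hζ _ (z₀ ≫ ζ)).mp ⟨z₀, rfl⟩ _ (𝟙 _) h₀
    rw [Category.id_comp] at this
    rw [this]
  -- fixed points of the base change come from `Z`
  have hback : ∀ (T' : Over U) (n' : T' ⟶ Red.bc f N),
      (∀ (T'' : Over U) (x : T'' ⟶ T') (h : T'' ⟶ Red.DS U M), lift (x ≫ n') h ≫ c' = h) →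
      ∃ z' : T' ⟶ Red.bc f Z, z' ≫ ζ' = n' := by
    intro T' n' hn'
    obtain ⟨n₀, rfl⟩ := hk_surj T' n'
    have hex : ∃ z₀ : (Over.map f).obj T' ⟶ Z, z₀ ≫ ζ = n₀ := by
      rw [hζ]
      intro X' x h
      obtain ⟨j, hj⟩ : ∃ j : (Over.map f).obj (Over.mk (x.left ≫ T'.hom)) ≅ X',
          j.hom.left = 𝟙 X'.left := by
        refine ⟨Over.isoMk (Iso.refl _) ?_, rfl⟩
        have := Over.w x
        simp only [Iso.refl_hom, Category.id_comp]
        rw [← this]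
        simp
      obtain ⟨x'', hx''⟩ : ∃ x'' : Over.mk (x.left ≫ T'.hom) ⟶ T', x''.left = x.left :=
        ⟨Over.homMk x.left rfl, rfl⟩
      have hxx : (Over.map f).map x'' = j.hom ≫ x := by
        apply Over.OverMorphism.ext
        rw [Over.comp_left, hj, Over.map_map_left, hx'']
        exact (Category.id_comp _).symm
      have h1 := hn' _ x'' ((Over.mapPullbackAdj f).homEquiv _ H (j.hom ≫ h) ≫ ψ')
      rw [← Adjunction.homEquiv_naturality_left, hxx, key] at h1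
      have h2 := congr($h1 ≫ ψ)
      simp only [Category.assoc, hψψ, Category.comp_id] at h2
      have h3 := ((Over.mapPullbackAdj f).homEquiv _ H).injective h2
      rw [← comp_lift_assoc] at h3
      exact (cancel_epi j.hom).mp h3
    obtain ⟨z₀, hz₀⟩ := hex
    exact ⟨(Over.mapPullbackAdj f).homEquiv T' Z z₀, by rw [hnatR, hz₀]⟩
  -- the clopen locus
  obtain ⟨n, F, -, hF⟩ := Group.fg_iff'.mp (AddGroup.fg_iff_mul_fg.mp hM)
  obtain ⟨A, hAdef⟩ : ∃ A : Set (Red.bc f N).left, A = ⋂ m ∈ F, Aset M c' m := ⟨_, rfl⟩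
  have hA : IsClopen A := by rw [hAdef]; exact isClopen_biInter_Aset M c' hmul' F
  obtain ⟨W, hW⟩ : ∃ W : (Red.bc f N).left.Opens, (W : Set (Red.bc f N).left) = A :=
    ⟨⟨A, hA.isOpen⟩, rfl⟩
  have hrange : Set.range ζ'.left ⊆ A := by
    rintro _ ⟨y, rfl⟩
    rw [hAdef]
    simp only [Set.mem_iInter]
    intro m _
    exact mem_Aset_of_comp_eq M c' (Red.bc f Z) ζ' (fun Y' x h => hfix Y' x h) y m
  obtain ⟨kW, hkW⟩ : ∃ kW : Over.mk (W.ι ≫ (Red.bc f N).hom) ⟶ Red.bc f N, kW.left = W.ι :=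
    ⟨Over.homMk W.ι rfl, rfl⟩
  have hW_fix : ∀ (T'' : Over U) (x : T'' ⟶ Over.mk (W.ι ≫ (Red.bc f N).hom))
      (h : T'' ⟶ Red.DS U M), lift (x ≫ kW) h ≫ c' = h := by
    intro T'' x h
    refine comp_eq_of_forall_mem_Aset M c' hmul' (F : Set (Multiplicative M)) hF T'' (x ≫ kW) ?_ h
    intro y m hm
    have hy : (x ≫ kW).left y ∈ A := by
      rw [Over.comp_left, hkW, Scheme.Hom.comp_apply, ← hW]
      exact (x.left y).2
    rw [hAdef] at hy
    simp only [Set.mem_iInter] at hy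
    exact hy m hm
  obtain ⟨z', hz'⟩ := hback _ kW hW_fix
  have hz'l : z'.left ≫ ζ'.left = W.ι := by
    rw [← Over.comp_left, hz', hkW]
  have hmono : Mono ζ' := by rw [hζ']; infer_instance
  have hmonol : Mono ζ'.left := inferInstance
  have hrW : Set.range ζ'.left ⊆ Set.range W.ι := by
    rw [Scheme.Opens.range_ι, hW]
    exact hrange
  obtain ⟨a, ha⟩ : ∃ a : (Red.bc f Z).left ⟶ (W : Scheme.{u}), a ≫ W.ι = ζ'.left :=
    ⟨IsOpenImmersion.lift W.ι ζ'.left hrW, IsOpenImmersion.lift_fac _ _ _⟩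
  have h1 : a ≫ z'.left = 𝟙 _ := by
    rw [← cancel_mono ζ'.left, Category.assoc, hz'l, ha, Category.id_comp]
  have h2 : z'.left ≫ a = 𝟙 _ := by
    rw [← cancel_mono W.ι, Category.assoc, ha, hz'l, Category.id_comp]
  have hiso : IsIso a := ⟨z'.left, h1, h2⟩
  have hopen : IsOpenImmersion ζ'.left := by rw [← ha]; infer_instance
  refine ⟨hopen, ?_⟩
  have hr : Set.range ζ'.left = A := by
    apply Set.Subset.antisymm hrange
    intro t ht
    rw [← hW] at ht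
    refine ⟨z'.left ⟨t, ht⟩, ?_⟩
    rw [← Scheme.Hom.comp_apply, hz'l]
    rfl
  exact IsClosedImmersion.of_isPreimmersion _ (hr ▸ hA.isClosed)

end Member

end Groth.Agent.Lib.Helper15FixClopen
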