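-- helper15: fixed locus of a family of endomorphisms of a group of multiplicative type is clopen; centralizer clopen in normalizer
import Mathlib
import Groth.Agent.Lib.Helper15FixClopen
import Groth.Agent.Lib.Helper12Torsor
import Groth.Agent.Lib.Helper12TorsorDescent
import Groth.Agent.Lib.Helper12Descent
import Groth.Prelude.Def_Red2
set_option autoImplicit false
universe u
open CategoryTheory CategoryTheory.Limits AlgebraicGeometry MonoidalCategory CartesianMonoidalCategory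
  MonObj GrpObj

namespace Groth.Agent.Lib.Helper15FixClopenGlob

open MorphismProperty in
/-- a property of morphisms which is local on the target for the fpqc topology holds for a
morphism of `S`-schemes as soon as it holds for its base changes along an fpqc family of `S`. -/
lemma of_bc_family {P : MorphismProperty Scheme.{u}} [IsZariskiLocalAtTarget P]
    (hP : P.DescendsAlong (@Surjective ⊓ @Flat ⊓ @QuasiCompact : MorphismProperty Scheme.{u}))
    {S : Scheme.{u}} {Z N : Over S} (ζ : Z ⟶ N) {J : Type u} {Sk : J → Scheme.{u}}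
    (gk : ∀ k, Sk k ⟶ S) (hcov : Presieve.ofArrows Sk gk ∈ Scheme.fpqcPrecoverage S)
    (h : ∀ k, P ((Over.pullback (gk k)).map ζ).left) : P ζ.left := by
  refine Groth.Agent.Lib.Helper12.of_mem_fpqcPrecoverage hP ζ.left _
    (Precoverage.pullbackArrows_mem N.hom hcov) ?_
  rintro Q _ ⟨T', τ, ⟨k⟩⟩
  have sq := Groth.Agent.Lib.Helper12.TorsorDescent.isPullback_pullback_map (gk k) ζ
  have h1 : P (pullback.snd ζ.left (pullback.fst N.hom (gk k))) := by
    rw [← P.cancel_left_of_respectsIso sq.flip.isoPullback.hom, IsPullback.isoPullback_hom_snd]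
    exact h k
  have h2 := Groth.Agent.Lib.Helper12.of_pullback_snd_comp_openImmersion ζ.left
    (pullback.fst N.hom (gk k)) (pullbackSymmetry (gk k) N.hom).hom h1
  rw [pullbackSymmetry_hom_comp_fst] at h2
  exact h2

section Family
variable {S : Scheme.{u}} (N H Z : Over S) [GrpObj H]
  (c : N ⊗ H ⟶ H)
  (hmul : ∀ (Y : Over S) (n : Y ⟶ N) (h h' : Y ⟶ H),
    lift n (h * h') ≫ c = (lift n h ≫ c) * (lift n h' ≫ c))
  (ζ : Z ⟶ N) [Mono ζ]
  (hζ : ∀ (X : Over S) (n : X ⟶ N), (∃ z : X ⟶ Z, z ≫ ζ = n) ↔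
    ∀ (X' : Over S) (x : X' ⟶ X) (h : X' ⟶ H), lift (x ≫ n) h ≫ c = h)

include hmul hζ in
/-- **the fixed locus of a family of endomorphisms of a group of multiplicative type and of finite
type is open and closed in the parameter scheme.** -/
theorem isOpenImmersion_isClosedImmersion (hH : SGA3x.IsMultTypeFT H) :
    IsOpenImmersion ζ.left ∧ IsClosedImmersion ζ.left := by
  obtain ⟨S', f, hfl, hsu, hqc, hloc⟩ := hH
  obtain ⟨J, Sk, gk, hcov, hloc⟩ :=
    Groth.Agent.Lib.Helper15DiagRigidLoc.exists_fpqc_family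
      (fun S' f => ∃ (M : Type) (_ : AddCommGroup M), AddGroup.FG M ∧
        Nonempty (Grp.mk (Red.bc f H) ≅ Grp.mk (Red.DS S' M))) ⟨S', f, hfl, hsu, hqc, hloc⟩
  have hk : ∀ k, IsOpenImmersion ((Over.pullback (gk k)).map ζ).left ∧
      IsClosedImmersion ((Over.pullback (gk k)).map ζ).left := by
    intro k
    obtain ⟨M, _, hM, ⟨e⟩⟩ := hloc k
    exact Groth.Agent.Lib.Helper15FixClopen.isOpenImmersion_isClosedImmersion_bc (gk k) N H Z c hmul ζ hζ M hM e
  have hO : (@IsOpenImmersion : MorphismProperty Scheme.{u}).DescendsAlong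
      (@Surjective ⊓ @Flat ⊓ @QuasiCompact : MorphismProperty Scheme.{u}) := inferInstance
  exact ⟨of_bc_family (P := @IsOpenImmersion) hO ζ gk hcov (fun k => (hk k).1),
    of_bc_family (P := @IsClosedImmersion) Groth.Agent.Lib.Helper12.descendsAlong_isClosedImmersion
      ζ gk hcov (fun k => (hk k).2)⟩

end Family

section Conj

variable {S : Scheme.{u}} {H G Z N : Over S} [GrpObj H] [GrpObj G] [GrpObj Z] [GrpObj N]
  (i : H ⟶ G) [IsMonHom i] [Mono i] (j : Z ⟶ G) (k : N ⟶ G)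

/-- **the centralizer of a subgroup of multiplicative type is open and closed in its
normalizer.** -/
theorem centralizer_clopen_in_normalizer (hj : Red.IsCentralizerOf i j)
    (hk : Red.IsNormalizerOf i k) (hH : SGA3x.IsMultTypeFT H) :
    ∃ f : Z ⟶ N, f ≫ k = j ∧ IsOpenImmersion f.left ∧ IsClosedImmersion f.left := by
  obtain ⟨hjm, hjmono, hjp⟩ := hj
  obtain ⟨hkm, hkmono, hkp⟩ := hk
  have hcomm : ∀ (X' : Over S) (x : X' ⟶ Z) (h : X' ⟶ H),
      (x ≫ j) * (h ≫ i) = (h ≫ i) * (x ≫ j) :=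
    (hjp Z j).mp ⟨𝟙 Z, Category.id_comp j⟩
  obtain ⟨f, hf⟩ : ∃ f : Z ⟶ N, f ≫ k = j := by
    rw [hkp]
    intro X' x h
    have := hcomm X' x h
    refine ⟨⟨h, ?_⟩, ⟨h, ?_⟩⟩
    · exact mul_inv_eq_iff_eq_mul.mpr this
    · rw [_root_.mul_assoc, ← this, inv_mul_cancel_left]
  obtain ⟨⟨c, hc⟩, -⟩ := (hkp N k).mp ⟨𝟙 N, Category.id_comp k⟩ (N ⊗ H) (fst N H) (snd N H)
  have hcpt : ∀ (Y : Over S) (n : Y ⟶ N) (h : Y ⟶ H),
      (lift n h ≫ c) ≫ i = (n ≫ k) * (h ≫ i) * (n ≫ k)⁻¹ := by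
    intro Y n h
    rw [Category.assoc, ← hc, MonObj.comp_mul, MonObj.comp_mul, GrpObj.comp_inv,
      lift_fst_assoc, lift_snd_assoc]
  have hmul : ∀ (Y : Over S) (n : Y ⟶ N) (h h' : Y ⟶ H),
      lift n (h * h') ≫ c = (lift n h ≫ c) * (lift n h' ≫ c) := by
    intro Y n h h'
    have e1 : (lift n (h * h') ≫ c) ≫ i = (n ≫ k) * ((h * h') ≫ i) * (n ≫ k)⁻¹ := hcpt Y n (h * h')
    have e2 : ((lift n h ≫ c) * (lift n h' ≫ c)) ≫ i = ((lift n h ≫ c) ≫ i) * ((lift n h' ≫ c) ≫ i) :=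
      MonObj.mul_comp _ _ i
    have e3 : (h * h') ≫ i = (h ≫ i) * (h' ≫ i) := MonObj.mul_comp _ _ i
    rw [← cancel_mono i, e1, e2, e3, hcpt, hcpt]
    simp only [_root_.mul_assoc, inv_mul_cancel_left]
  have hζ : ∀ (X : Over S) (n : X ⟶ N), (∃ z : X ⟶ Z, z ≫ f = n) ↔
      ∀ (X' : Over S) (x : X' ⟶ X) (h : X' ⟶ H), lift (x ≫ n) h ≫ c = h := by
    intro X n
    have h1 : (∃ z : X ⟶ Z, z ≫ f = n) ↔ ∃ z : X ⟶ Z, z ≫ j = n ≫ k := by
      constructor
      · rintro ⟨z, rfl⟩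
        exact ⟨z, by rw [Category.assoc, hf]⟩
      · rintro ⟨z, hz⟩
        refine ⟨z, ?_⟩
        rw [← cancel_mono k, Category.assoc, hf, hz]
    rw [h1, hjp]
    refine forall_congr' fun X' => forall_congr' fun x => forall_congr' fun h => ?_
    rw [← cancel_mono i, hcpt, Category.assoc, mul_inv_eq_iff_eq_mul]
  have hfmono : Mono f := mono_of_mono_fac hf
  exact ⟨f, hf, isOpenImmersion_isClosedImmersion N H Z c hmul f hζ hH⟩

end Conj

end Groth.Agent.Lib.Helper15FixClopenGlob
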