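-- helper15: homomorphisms between groups of multiplicative type are fpqc-locally attached to homomorphisms of character groups
import Mathlib
import Groth.Agent.Lib.Helper15HomDiag
import Groth.Agent.Lib.Helper15DSbc
set_option autoImplicit false
universe u
open CategoryTheory CategoryTheory.Limits AlgebraicGeometry MonoidalCategory CartesianMonoidalCategory
  MonObj GrpObj

namespace Groth.Agent.Lib.Helper15HomLoc

open Groth.Agent.Lib.Helper15DSmapPts Groth.Agent.Lib.Helper15HomDiag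

section Member

variable {S U : Scheme.{u}} (f : U ⟶ S) {G H : Over S} [GrpObj G] [GrpObj H]
  (w : G ⟶ H) [hw : IsMonHom w] (M₁ M₂ : Type) [AddCommGroup M₁] [AddCommGroup M₂]
  (e₁ : Grp.mk (Red.bc f G) ≅ Grp.mk (Red.DS U M₁))
  (e₂ : Grp.mk (Red.bc f H) ≅ Grp.mk (Red.DS U M₂))

include hw e₁ e₂ in
/-- over a base on which both groups become diagonalisable, a homomorphism is Zariski-locally
attached to a homomorphism of character groups. -/
theorem exists_opens_isD (hM₂ : AddGroup.FG M₂) (t : U) :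
    ∃ (φ : M₂ →+ M₁) (W : U.Opens), t ∈ W ∧
      IsD ((Over.pullback (W.ι ≫ f)).map w) M₁ M₂ φ := by
  obtain ⟨a, ha, ha'⟩ : ∃ a : Red.bc f G ≅ Red.DS U M₁, a.hom = e₁.hom.hom.hom ∧
      a.inv = e₁.inv.hom.hom :=
    ⟨⟨e₁.hom.hom.hom, e₁.inv.hom.hom, congr($(e₁.hom_inv_id).hom.hom),
      congr($(e₁.inv_hom_id).hom.hom)⟩, rfl, rfl⟩
  obtain ⟨b, hb, hb'⟩ : ∃ b : Red.bc f H ≅ Red.DS U M₂, b.hom = e₂.hom.hom.hom ∧
      b.inv = e₂.inv.hom.hom :=
    ⟨⟨e₂.hom.hom.hom, e₂.inv.hom.hom, congr($(e₂.hom_inv_id).hom.hom),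
      congr($(e₂.inv_hom_id).hom.hom)⟩, rfl, rfl⟩
  have ham : IsMonHom a.inv := by rw [ha']; infer_instance
  have hbm : IsMonHom b.hom := by rw [hb]; infer_instance
  have hwm : IsMonHom ((Over.pullback f).map w) := inferInstance
  obtain ⟨v, hv⟩ : ∃ v : Red.DS U M₁ ⟶ Red.DS U M₂,
      v = a.inv ≫ (Over.pullback f).map w ≫ b.hom := ⟨_, rfl⟩
  have hvm : IsMonHom v := by rw [hv]; infer_instance
  obtain ⟨φ, W, htW, hW⟩ := exists_opens_map_eq M₁ M₂ v hM₂ t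
  refine ⟨φ, W, htW, ?_⟩
  apply IsD.comp_bc
  have h1 : IsD ((Over.pullback W.ι).map (Red.DSmap U φ)) M₁ M₂ φ := IsD.bc W.ι isD_DSmap
  rw [← hW] at h1
  refine IsD.of_iso ((Over.pullback W.ι).mapIso a) ((Over.pullback W.ι).mapIso b) ?_ h1
  rw [Functor.mapIso_hom, Functor.mapIso_hom, ← CategoryTheory.Functor.map_comp,
    ← CategoryTheory.Functor.map_comp, hv, Iso.hom_inv_id_assoc]

end Member

section Global

variable {S : Scheme.{u}} (G H : Over S) [GrpObj G] [GrpObj H]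

/-- **a homomorphism from a group of multiplicative type to a group of multiplicative type and of
finite type is, locally for the fpqc topology, attached to a homomorphism of character groups.** -/
theorem exists_fpqc_family_isD
    (hG : TwC.Locally S TwC.Topology.fpqc (fun S' g => ∃ (M : Type) (_ : AddCommGroup M),
      Nonempty (Grp.mk (Red.bc g G) ≅ Grp.mk (Red.DS S' M))))
    (hH : SGA3x.IsMultTypeFT H) (w : G ⟶ H) [IsMonHom w] :
    ∃ (J : Type u) (Sj : J → Scheme.{u}) (gj : ∀ j, Sj j ⟶ S),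
      Presieve.ofArrows Sj gj ∈ Scheme.fpqcPrecoverage S ∧
      ∀ j, ∃ (M₁ M₂ : Type) (_ : AddCommGroup M₁) (_ : AddCommGroup M₂) (φ : M₂ →+ M₁),
        IsD ((Over.pullback (gj j)).map w) M₁ M₂ φ := by
  obtain ⟨K, Sk, gk, hcov, hloc⟩ :=
    Groth.Agent.Lib.Helper15DSbc.exists_fpqc_family₂
      (fun S' g => ∃ (M : Type) (_ : AddCommGroup M),
        Nonempty (Grp.mk (Red.bc g G) ≅ Grp.mk (Red.DS S' M)))
      (fun S' g => ∃ (M : Type) (_ : AddCommGroup M), AddGroup.FG M ∧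
        Nonempty (Grp.mk (Red.bc g H) ≅ Grp.mk (Red.DS S' M)))
      (fun S' S'' f q ⟨M, i, ⟨e⟩⟩ => ⟨M, i, Groth.Agent.Lib.Helper15DSbc.nonempty_iso_bc f q G M e⟩)
      (fun S' S'' f q ⟨M, i, hM, ⟨e⟩⟩ =>
        ⟨M, i, hM, Groth.Agent.Lib.Helper15DSbc.nonempty_iso_bc f q H M e⟩)
      hG hH
  have hex : ∀ (k : K) (t : Sk k), ∃ (W : (Sk k).Opens), t ∈ W ∧
      ∃ (M₁ M₂ : Type) (_ : AddCommGroup M₁) (_ : AddCommGroup M₂) (φ : M₂ →+ M₁),
        IsD ((Over.pullback (W.ι ≫ gk k)).map w) M₁ M₂ φ := by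
    intro k t
    obtain ⟨⟨M₁, _, ⟨e₁⟩⟩, ⟨M₂, _, hM₂, ⟨e₂⟩⟩⟩ := hloc k
    obtain ⟨φ, W, htW, hW⟩ := exists_opens_isD (gk k) w M₁ M₂ e₁ e₂ hM₂ t
    exact ⟨W, htW, M₁, M₂, _, _, φ, hW⟩
  choose Wo hWo hD using hex
  have h2 : ∀ k : K, Presieve.ofArrows (fun t : Sk k => ((Wo k t : (Sk k).Opens) : Scheme.{u}))
      (fun t => (Wo k t).ι) ∈ Scheme.fpqcPrecoverage (Sk k) := by
    intro k
    let 𝒰 : (Sk k).OpenCover :=
      { I₀ := Sk k
        X := fun t => (Wo k t).toScheme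
        f := fun t => (Wo k t).ι
        mem₀ := by
          rw [Scheme.ofArrows_mem_precoverage_iff]
          exact ⟨fun p => ⟨p, ⟨p, hWo k p⟩, rfl⟩, fun s => inferInstance⟩ }
    exact Scheme.zariskiPrecoverage_le_fpqcPrecoverage _ 𝒰.mem₀
  have h3 := Precoverage.comp_mem_coverings (J := Scheme.fpqcPrecoverage.{u}) gk hcov
    (fun k (t : Sk k) => (Wo k t).ι) h2
  exact ⟨Σ k : K, Sk k, fun p => (Wo p.1 p.2).toScheme, fun p => (Wo p.1 p.2).ι ≫ gk p.1, h3,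
    fun p => hD p.1 p.2⟩

end Global

end Groth.Agent.Lib.Helper15HomLoc
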