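-- helper15: openness / clopenness of subsets of a scheme descends along fpqc covering families
import Mathlib
set_option autoImplicit false
universe u
open CategoryTheory CategoryTheory.Limits AlgebraicGeometry

namespace Groth.Agent.Lib.Helper15TopDesc

/-- openness of a subset of a scheme can be checked on an open cover. -/
lemma isOpen_of_openCover {X : Scheme.{u}} (𝒱 : X.OpenCover) (B : Set X)
    (h : ∀ i, IsOpen ((𝒱.f i).base ⁻¹' B)) : IsOpen B := by
  have : B = ⋃ i, (𝒱.f i).base '' ((𝒱.f i).base ⁻¹' B) := by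
    ext x
    constructor
    · intro hx
      obtain ⟨i, y, rfl⟩ := 𝒱.exists_eq x
      exact Set.mem_iUnion.2 ⟨i, y, hx, rfl⟩
    · rintro ⟨_, ⟨i, rfl⟩, y, hy, rfl⟩
      exact hy
  rw [this]
  exact isOpen_iUnion fun i => (𝒱.f i).isOpenEmbedding.isOpenMap _ (h i)

set_option backward.isDefEq.respectTransparency.types false in
/-- openness of a subset of a scheme can be checked on an fpqc covering. -/
theorem isOpen_of_fpqcCover {S : Scheme.{u}} (𝒰 : Scheme.Cover Scheme.fpqcPrecoverage S)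
    (A : Set S) (h : ∀ j, IsOpen ((𝒰.f j).base ⁻¹' A)) : IsOpen A := by
  let 𝒰' : Scheme.Cover (Scheme.propQCPrecoverage @Flat) S := 𝒰
  have hflat : ∀ i, Flat (𝒰.f i) := fun i => 𝒰'.forgetQc.map_prop i
  have hqc : QuasiCompactCover 𝒰.toPreZeroHypercover :=
    inferInstanceAs (QuasiCompactCover 𝒰'.toPreZeroHypercover)
  apply isOpen_of_openCover S.affineCover A
  intro j
  set ι := S.affineCover.f j with hι
  have hV : IsAffineOpen ι.opensRange := isAffineOpen_opensRange ι
  obtain ⟨n, a, W, hW, hU⟩ :=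
    QuasiCompactCover.exists_isAffineOpen_of_isCompact 𝒰.toPreZeroHypercover hV.isCompact
  have hWaff : ∀ k, IsAffine (W k : Scheme.{u}) := hW
  have hrange : ∀ k, Set.range ((W k).ι ≫ 𝒰.f (a k)).base ⊆ Set.range ι.base := by
    intro k
    rintro _ ⟨w, rfl⟩
    have : (𝒰.f (a k)) w.1 ∈ (ι.opensRange : Set S) := by
      rw [← hU]
      exact Set.mem_iUnion.mpr ⟨k, w.1, w.2, rfl⟩
    obtain ⟨y, hy⟩ := this
    exact ⟨y, hy⟩
  let t : ∀ k, (W k : Scheme.{u}) ⟶ S.affineCover.X j := fun k =>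
    IsOpenImmersion.lift ι ((W k).ι ≫ 𝒰.f (a k)) (hrange k)
  have ht : ∀ k, t k ≫ ι = (W k).ι ≫ 𝒰.f (a k) := fun k => IsOpenImmersion.lift_fac _ _ _
  let p : (∐ fun k => (W k : Scheme.{u})) ⟶ S.affineCover.X j := Sigma.desc t
  have hp : ∀ k, Sigma.ι (fun k => (W k : Scheme.{u})) k ≫ p = t k := fun k => Sigma.ι_desc _ _
  have htflat : ∀ k, Flat (t k) := by
    intro k
    have h1 : Flat (t k ≫ ι) := by rw [ht]; have := hflat (a k); infer_instance
    exact MorphismProperty.of_postcomp (W := @Flat) (W' := @IsOpenImmersion) (t k) ι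
      inferInstance h1
  have hpflat : Flat p := by
    rw [IsZariskiLocalAtSource.iff_of_openCover (P := @Flat) (sigmaOpenCover _)]
    intro k
    change Flat (Sigma.ι (fun k => (W k : Scheme.{u})) k ≫ p)
    rw [hp]
    exact htflat k
  have hpsurj : Surjective p := by
    constructor
    intro y
    have hy : ι y ∈ (ι.opensRange : Set S) := ⟨y, rfl⟩
    rw [← hU] at hy
    obtain ⟨k, w, hw, hwy⟩ := Set.mem_iUnion.mp hy
    refine ⟨Sigma.ι (fun k => (W k : Scheme.{u})) k ⟨w, hw⟩, ?_⟩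
    apply ι.injective
    have e : Sigma.ι (fun k => (W k : Scheme.{u})) k ≫ p ≫ ι = (W k).ι ≫ 𝒰.f (a k) := by
      rw [← Category.assoc, hp, ht]
    calc ι (p (Sigma.ι (fun k => (W k : Scheme.{u})) k ⟨w, hw⟩))
        = (Sigma.ι (fun k => (W k : Scheme.{u})) k ≫ p ≫ ι) ⟨w, hw⟩ := by simp
      _ = ((W k).ι ≫ 𝒰.f (a k)) ⟨w, hw⟩ := by rw [e]
      _ = 𝒰.f (a k) w := rfl
      _ = ι y := hwy
  have hpqc : QuasiCompact p := inferInstance
  have hq := Flat.isQuotientMap_of_surjective p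
  rw [← hq.isOpen_preimage]
  apply isOpen_of_openCover (sigmaOpenCover _)
  intro (k : Fin n)
  have e : Sigma.ι (fun k => (W k : Scheme.{u})) k ≫ p ≫ ι = (W k).ι ≫ 𝒰.f (a k) := by
    rw [← Category.assoc, hp, ht]
  have h3 : ∀ z, ι (p ((Sigma.ι (fun k => (W k : Scheme.{u})) k) z)) =
      (𝒰.f (a k)) ((W k).ι z) := by
    intro z
    have := congrArg (fun q : (W k : Scheme.{u}) ⟶ S => q z) e
    simpa using this
  have hset : (Sigma.ι (fun k => (W k : Scheme.{u})) k).base ⁻¹' (p.base ⁻¹' (ι.base ⁻¹' A)) =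
      (W k).ι.base ⁻¹' ((𝒰.f (a k)).base ⁻¹' A) := by
    ext z
    simp only [Set.mem_preimage]
    rw [h3 z]
  change IsOpen ((Sigma.ι (fun k => (W k : Scheme.{u})) k).base ⁻¹' (p.base ⁻¹' (ι.base ⁻¹' A)))
  rw [hset]
  exact (h (a k)).preimage (W k).ι.continuous

/-- **openness of a subset of a scheme can be checked on an fpqc covering family.** -/
theorem isOpen_of_fpqc_family {S : Scheme.{u}} {J : Type u} {Sj : J → Scheme.{u}}
    (gj : ∀ j, Sj j ⟶ S) (hcov : Presieve.ofArrows Sj gj ∈ Scheme.fpqcPrecoverage S) (A : Set S)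
    (h : ∀ j, IsOpen ((gj j).base ⁻¹' A)) : IsOpen A :=
  isOpen_of_fpqcCover ⟨⟨J, Sj, gj⟩, hcov⟩ A h

/-- **a subset of a scheme whose preimages under an fpqc covering family are open and closed is
open and closed.** -/
theorem isClopen_of_fpqc_family {S : Scheme.{u}} {J : Type u} {Sj : J → Scheme.{u}}
    (gj : ∀ j, Sj j ⟶ S) (hcov : Presieve.ofArrows Sj gj ∈ Scheme.fpqcPrecoverage S) (A : Set S)
    (h : ∀ j, IsClopen ((gj j).base ⁻¹' A)) : IsClopen A := by
  refine ⟨?_, isOpen_of_fpqc_family gj hcov A (fun j => (h j).isOpen)⟩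
  rw [← isOpen_compl_iff]
  exact isOpen_of_fpqc_family gj hcov Aᶜ (fun j => by
    rw [Set.preimage_compl]
    exact (h j).compl.isOpen)

end Groth.Agent.Lib.Helper15TopDesc
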