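-- helper15: clopen locus of the base where a morphism fpqc-locally of the form D(phi) has a given fpqc-local property
import Mathlib
import Groth.Agent.Lib.Helper15HomLoc
import Groth.Agent.Lib.Helper15TopDesc
import Groth.Agent.Lib.Helper15FixClopenGlob
set_option autoImplicit false
universe u
open CategoryTheory CategoryTheory.Limits AlgebraicGeometry MonoidalCategory CartesianMonoidalCategory
  MonObj GrpObj

namespace Groth.Agent.Lib.Helper15LocusClopen

open Groth.Agent.Lib.Helper15DSmapPts

section Basic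

variable (P : MorphismProperty Scheme.{u})

lemma of_isEmpty_target [IsZariskiLocalAtTarget P] {X Y : Scheme.{u}} (f : X ⟶ Y) [IsEmpty Y] :
    P f := by
  refine IsZariskiLocalAtTarget.of_iSup_eq_top (P := P) (fun i : PEmpty.{1} => i.elim) ?_
    (fun i : PEmpty.{1} => i.elim)
  ext x
  exact (IsEmpty.false x).elim

variable {S T T' : Scheme.{u}} {G H : Over S}

lemma comp_iff [P.RespectsIso] (w : G ⟶ H) (f : T ⟶ S) (q : T' ⟶ T) :
    P ((Over.pullback (q ≫ f)).map w).left ↔
      P ((Over.pullback q).map ((Over.pullback f).map w)).left :=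
  prop_iff_of_iso P ((Over.pullbackComp q f).app G) ((Over.pullbackComp q f).app H)
    ((Over.pullbackComp q f).hom.naturality w)

lemma bc [P.IsStableUnderBaseChange] {A B : Over T} (φ : A ⟶ B) (q : T' ⟶ T) (h : P φ.left) :
    P ((Over.pullback q).map φ).left :=
  P.of_isPullback (Groth.Agent.Lib.Helper12.TorsorDescent.isPullback_pullback_map q φ).flip h

lemma desc (hP : P.DescendsAlong (@Surjective ⊓ @Flat ⊓ @QuasiCompact : MorphismProperty Scheme.{u}))
    {A B : Over T} (φ : A ⟶ B) (q : T' ⟶ T) [Surjective q] [Flat q] [QuasiCompact q]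
    (h : P ((Over.pullback q).map φ).left) : P φ.left :=
  MorphismProperty.of_isPullback_of_descendsAlong (P := P)
    (Q := (@Surjective ⊓ @Flat ⊓ @QuasiCompact : MorphismProperty Scheme.{u}))
    (Groth.Agent.Lib.Helper12.TorsorDescent.isPullback_pullback_map q φ)
    ⟨⟨inferInstance, inferInstance⟩, inferInstance⟩ h

end Basic

section Field

variable {X Y : Scheme.{u}} (f : X ⟶ Y) (x : X)

instance : Surjective (Spec.map (f.residueFieldMap x)) := by
  constructor
  intro y
  obtain ⟨z⟩ : Nonempty (Spec (X.residueField x)) := inferInstance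
  exact ⟨z, Subsingleton.elim _ _⟩

instance : Flat (Spec.map (f.residueFieldMap x)) := by
  rw [HasRingHomProperty.Spec_iff (P := @Flat)]
  algebraize [(f.residueFieldMap x).hom]
  show Module.Flat _ _
  infer_instance

end Field

section Main

variable {S : Scheme.{u}} {G H : Over S} (w : G ⟶ H)
  (P : MorphismProperty Scheme.{u}) [P.IsStableUnderBaseChange] [IsZariskiLocalAtTarget P]
  (hP : P.DescendsAlong (@Surjective ⊓ @Flat ⊓ @QuasiCompact : MorphismProperty Scheme.{u}))
  (P' : ∀ (M₁ M₂ : Type) [AddCommGroup M₁] [AddCommGroup M₂], (M₂ →+ M₁) → Prop)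
  (hA : ∀ (T : Scheme.{u}) (M₁ M₂ : Type) [AddCommGroup M₁] [AddCommGroup M₂] (φ : M₂ →+ M₁),
    P' M₁ M₂ φ → P (Red.DSmap T φ).left)
  (hB : ∀ (κ : CommRingCat.{u}) [Nontrivial κ] (M₁ M₂ : Type) [AddCommGroup M₁] [AddCommGroup M₂]
    (φ : M₂ →+ M₁), P (Red.DSmap (Spec κ) φ).left → P' M₁ M₂ φ)
  {J : Type u} {Sj : J → Scheme.{u}} (gj : ∀ j, Sj j ⟶ S)
  (hcov : Presieve.ofArrows Sj gj ∈ Scheme.fpqcPrecoverage S)
  (hD : ∀ j, ∃ (M₁ M₂ : Type) (_ : AddCommGroup M₁) (_ : AddCommGroup M₂) (φ : M₂ →+ M₁),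
    IsD ((Over.pullback (gj j)).map w) M₁ M₂ φ)

include hP hA hB hcov hD in
/-- **the locus of the base over which a morphism, locally for the fpqc topology attached to
homomorphisms of character groups, has a property `P` of morphisms (stable under base change,
local on the target for the fpqc topology, and read off from the homomorphism of character
groups) is open and closed, and the morphism has `P` above it.** -/
theorem exists_clopen_locus :
    ∃ U : S.Opens, IsClosed (U : Set S) ∧
      (∀ s : S, s ∈ U ↔ P ((Over.pullback (S.fromSpecResidueField s)).map w).left) ∧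
      P ((Over.pullback U.ι).map w).left := by
  obtain ⟨A, hAdef⟩ : ∃ A : Set S,
      A = {s | P ((Over.pullback (S.fromSpecResidueField s)).map w).left} := ⟨_, rfl⟩
  have hpt : ∀ (j : J) (M₁ M₂ : Type) [AddCommGroup M₁] [AddCommGroup M₂] (φ : M₂ →+ M₁),
      IsD ((Over.pullback (gj j)).map w) M₁ M₂ φ → ∀ t : Sj j, (gj j t ∈ A ↔ P' M₁ M₂ φ) := by
    intro j M₁ M₂ _ _ φ hφ t
    rw [hAdef, Set.mem_ofPred_eq]
    have hρ := Scheme.Hom.SpecMap_residueFieldMap_fromSpecResidueField (gj j) t
    have h1 : P ((Over.pullback (S.fromSpecResidueField (gj j t))).map w).left ↔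
        P ((Over.pullback (Spec.map ((gj j).residueFieldMap t) ≫
          S.fromSpecResidueField (gj j t))).map w).left := by
      rw [comp_iff P]
      exact ⟨bc P _ _, desc P hP _ _⟩
    rw [h1, hρ]
    have h2 : IsD ((Over.pullback ((Sj j).fromSpecResidueField t ≫ gj j)).map w) M₁ M₂ φ :=
      IsD.comp_bc _ _ (IsD.bc _ hφ)
    rw [h2.prop_iff P]
    exact ⟨hB _ M₁ M₂ φ, hA _ M₁ M₂ φ⟩
  have hclopen : IsClopen A := by
    apply Groth.Agent.Lib.Helper15TopDesc.isClopen_of_fpqc_family gj hcov
    intro j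
    obtain ⟨M₁, M₂, _, _, φ, hφ⟩ := hD j
    by_cases hφP : P' M₁ M₂ φ
    · have : (gj j).base ⁻¹' A = Set.univ := by
        ext t
        simp only [Set.mem_preimage, Set.mem_univ, iff_true]
        exact (hpt j M₁ M₂ φ hφ t).mpr hφP
      rw [this]
      exact isClopen_univ
    · have : (gj j).base ⁻¹' A = ∅ := by
        ext t
        simp only [Set.mem_preimage, Set.mem_empty_iff_false, iff_false]
        exact fun h => hφP ((hpt j M₁ M₂ φ hφ t).mp h)
      rw [this]
      exact isClopen_empty
  obtain ⟨U, hU⟩ : ∃ U : S.Opens, (U : Set S) = A := ⟨⟨A, hclopen.isOpen⟩, rfl⟩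
  refine ⟨U, by rw [hU]; exact hclopen.isClosed, fun s => ?_, ?_⟩
  · show s ∈ (U : Set S) ↔ _
    rw [hU, hAdef]
    rfl
  · have hcov' : Presieve.ofArrows (fun j => pullback (gj j) U.ι)
        (fun j => pullback.snd (gj j) U.ι) ∈ Scheme.fpqcPrecoverage (U : Scheme.{u}) := by
      rw [Presieve.ofArrows_pullback]
      exact Precoverage.pullbackArrows_mem U.ι hcov
    refine Groth.Agent.Lib.Helper15FixClopenGlob.of_bc_family (P := P) hP
      ((Over.pullback U.ι).map w) _ hcov' ?_
    intro j
    obtain ⟨M₁, M₂, _, _, φ, hφ⟩ := hD j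
    rw [← comp_iff P, ← pullback.condition]
    have h2 : IsD ((Over.pullback (pullback.fst (gj j) U.ι ≫ gj j)).map w) M₁ M₂ φ :=
      IsD.comp_bc _ _ (IsD.bc _ hφ)
    rw [h2.prop_iff P]
    by_cases hφP : P' M₁ M₂ φ
    · exact hA _ M₁ M₂ φ hφP
    · have hempty : IsEmpty (pullback (gj j) U.ι : Scheme.{u}) := by
        constructor
        intro z
        apply hφP
        refine (hpt j M₁ M₂ φ hφ (pullback.fst (gj j) U.ι z)).mp ?_
        have : gj j (pullback.fst (gj j) U.ι z) = U.ι (pullback.snd (gj j) U.ι z) := by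
          rw [← Scheme.Hom.comp_apply, ← Scheme.Hom.comp_apply, pullback.condition]
        rw [this, ← hU]
        exact (pullback.snd (gj j) U.ι z).2
      have : IsEmpty (Red.DS (pullback (gj j) U.ι) M₂).left :=
        Function.isEmpty (Red.DS (pullback (gj j) U.ι) M₂).hom.base
      exact of_isEmpty_target P _

end Main

end Groth.Agent.Lib.Helper15LocusClopen
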