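-- helper15: the group algebra of a commutative group is free over the group algebra of a subgroup
import Mathlib
set_option autoImplicit false
open MonoidAlgebra

namespace Groth.Agent.Lib.Helper15MonAlgFree

section Coset

variable {A B : Type*} [CommGroup A] [CommGroup B] (f : A →* B)

/-- a set-theoretic section of the quotient by the image. -/
noncomputable def sec (q : B ⧸ f.range) : B := Quotient.out q

lemma mk_sec (q : B ⧸ f.range) : (QuotientGroup.mk (sec f q) : B ⧸ f.range) = q :=
  QuotientGroup.out_eq' q

lemma exists_aOf (b : B) : ∃ a, f a * sec f (QuotientGroup.mk b) = b := by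
  have h : (QuotientGroup.mk (sec f (QuotientGroup.mk b)) : B ⧸ f.range) = QuotientGroup.mk b :=
    mk_sec f _
  rw [QuotientGroup.eq] at h
  obtain ⟨a, ha⟩ := h
  exact ⟨a, by rw [ha, mul_comm, mul_inv_cancel_left]⟩

/-- the component in the subgroup of an element, relative to the chosen section. -/
noncomputable def aOf (b : B) : A := (exists_aOf f b).choose

lemma aOf_spec (b : B) : f (aOf f b) * sec f (QuotientGroup.mk b) = b :=
  (exists_aOf f b).choose_spec

lemma mk_mul_sec (a : A) (q : B ⧸ f.range) :
    (QuotientGroup.mk (f a * sec f q) : B ⧸ f.range) = q := by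
  have h1 : (QuotientGroup.mk (f a) : B ⧸ f.range) = 1 :=
    (QuotientGroup.eq_one_iff _).mpr (MonoidHom.mem_range.mpr ⟨a, rfl⟩)
  rw [QuotientGroup.mk_mul, mk_sec, h1, one_mul]

lemma aOf_mul_sec (hf : Function.Injective f) (a : A) (q : B ⧸ f.range) :
    aOf f (f a * sec f q) = a := by
  have h := aOf_spec f (f a * sec f q)
  rw [mk_mul_sec] at h
  exact hf (mul_right_cancel h)

end Coset

section Free

variable {R : Type*} [CommRing R] {A B : Type*} [CommGroup A] [CommGroup B] (f : A →* B)
  (g : MonoidAlgebra R A →+* MonoidAlgebra R B) (hg : ∀ a r, g (single a r) = single (f a) r)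

include hg in
/-- **the group algebra of a commutative group is free as a module over the group algebra of a
subgroup.** -/
theorem free_of_injective (hf : Function.Injective f) :
    letI := g.toAlgebra
    Module.Free (MonoidAlgebra R A) (MonoidAlgebra R B) := by
  letI := g.toAlgebra
  let Φ : ((B ⧸ f.range) →₀ MonoidAlgebra R A) →ₗ[MonoidAlgebra R A] MonoidAlgebra R B :=
    Finsupp.linearCombination _ (fun q => single (sec f q) (1 : R))
  have hΦ : ∀ (q : B ⧸ f.range) (a : A) (r : R),
      Φ (Finsupp.single q (single a r)) = single (f a * sec f q) r := by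
    intro q a r
    rw [Finsupp.linearCombination_single, Algebra.smul_def, RingHom.algebraMap_toAlgebra, hg,
      single_mul_single, mul_one]
  let Ψ : MonoidAlgebra R B →+ ((B ⧸ f.range) →₀ MonoidAlgebra R A) :=
    (Finsupp.liftAddHom (fun b : B => (Finsupp.singleAddHom (QuotientGroup.mk b :
      B ⧸ f.range)).comp (singleAddHom (aOf f b)))).comp coeffAddEquiv.toAddMonoidHom
  have hΨ : ∀ (b : B) (r : R),
      Ψ (single b r) = Finsupp.single (QuotientGroup.mk b) (single (aOf f b) r) := by
    intro b r
    simp [Ψ]
  have h1 : ∀ l, Ψ (Φ l) = l := by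
    intro l
    have : Ψ.comp Φ.toAddMonoidHom = AddMonoidHom.id _ := by
      apply Finsupp.addHom_ext
      intro q y
      have h3 : (Ψ.comp Φ.toAddMonoidHom).comp (Finsupp.singleAddHom q) =
          (AddMonoidHom.id _).comp (Finsupp.singleAddHom q) := by
        apply addMonoidHom_ext
        intro a r
        simp only [AddMonoidHom.comp_apply, AddMonoidHom.id_apply, Finsupp.singleAddHom_apply,
          LinearMap.toAddMonoidHom_coe]
        rw [hΦ, hΨ, mk_mul_sec, aOf_mul_sec f hf]
      exact congr($h3 y)
    exact congr($this l)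
  have h2 : ∀ x, Φ (Ψ x) = x := by
    intro x
    induction x using induction_linear with
    | zero => simp
    | add x y hx hy => rw [map_add, map_add, hx, hy]
    | single b r => rw [hΨ, hΦ, aOf_spec]
  exact Module.Free.of_equiv (LinearEquiv.ofBijective Φ
    ⟨Function.LeftInverse.injective h1, Function.RightInverse.surjective h2⟩)

end Free

end Groth.Agent.Lib.Helper15MonAlgFree
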