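-- helper15: properties of D(phi) read off from phi (mono/iso/faithfully flat), and converses over a nontrivial ring
import Mathlib
import Groth.Agent.Lib.Helper15DSmapPts
import Groth.Agent.Lib.Helper15MonAlgFree
import Groth.Agent.Lib.Helper15LocusClopen
import Groth.Agent.Lib.Helper15GrpLike
import Groth.Agent.Lib.Helper27DiagSub
set_option autoImplicit false
universe u
open CategoryTheory CategoryTheory.Limits AlgebraicGeometry MonoidalCategory CartesianMonoidalCategory
  MonObj GrpObj

namespace Groth.Agent.Lib.Helper15DSmapProps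

open Groth.Agent.Lib.Helper15DiagRigid Groth.Agent.Lib.Helper15GrpLike
open Groth.Agent.Lib.Helper11MultGa Groth.Agent.Lib.Helper27.GaGm
open Groth.Agent.Lib.Helper15DSmapPts

section FF

variable {M₁ M₂ : Type} [AddCommGroup M₁] [AddCommGroup M₂] (φ : M₂ →+ M₁)

lemma faithfullyFlat_amMap (hφ : Function.Injective φ) : (amMap.{u} φ).FaithfullyFlat := by
  have hfree := Groth.Agent.Lib.Helper15MonAlgFree.free_of_injective (R := ULift.{u} ℤ)
    (AddMonoidHom.toMultiplicative φ) (amMap.{u} φ) (fun a r => by simp [amMap])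
    (fun x y h => hφ h)
  unfold RingHom.FaithfullyFlat
  letI := (amMap.{u} φ).toAlgebra
  haveI : Module.Free (AM.{u} M₂) (AM.{u} M₁) := hfree
  infer_instance

/-- **the homomorphism of diagonalisable groups attached to an injective homomorphism of
character groups is flat and surjective.** -/
theorem flat_surjective_DSmap (T : Scheme.{u}) (hφ : Function.Injective φ) :
    Flat (Red.DSmap T φ).left ∧ Surjective (Red.DSmap T φ).left := by
  have h := (flat_and_surjective_SpecMap_iff (CommRingCat.ofHom (amMap.{u} φ))).mpr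
    (faithfullyFlat_amMap φ hφ)
  have hP : (@Flat ⊓ @Surjective : MorphismProperty Scheme.{u})
      (Red.diagMap (ULift.{u} ℤ) φ).left := h
  exact Groth.Agent.Lib.Helper15LocusClopen.bc (@Flat ⊓ @Surjective : MorphismProperty Scheme.{u})
    (Red.diagMap (ULift.{u} ℤ) φ) (tU T) hP

end FF

section Basic

variable {M₁ M₂ : Type} [AddCommGroup M₁] [AddCommGroup M₂] (φ : M₂ →+ M₁)

/-- the homomorphism attached to a surjective homomorphism of character groups is a
monomorphism. -/
theorem mono_DSmap (T : Scheme.{u}) (hφ : Function.Surjective φ) :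
    Mono (Red.DSmap T φ).left := by
  have := Groth.Agent.Lib.Helper27DiagSub.isClosedImmersion_DSmap_left T φ hφ
  infer_instance

/-- the homomorphism attached to a bijective homomorphism of character groups is an
isomorphism. -/
theorem isIso_DSmap_left (T : Scheme.{u}) (hφ : Function.Bijective φ) :
    IsIso (Red.DSmap T φ).left := by
  have h1 : IsIso (Red.DSmap T (AddEquiv.ofBijective φ hφ).toAddMonoidHom) :=
    isIso_DSmap (AddEquiv.ofBijective φ hφ)
  have h2 : (AddEquiv.ofBijective φ hφ).toAddMonoidHom = φ := by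
    ext x
    rfl
  rw [h2] at h1
  exact inferInstanceAs (IsIso ((Over.forget T).map (Red.DSmap T φ)))

end Basic

section Field

variable (κ : CommRingCat.{u}) [Nontrivial κ]

/-- the structure morphism of the group algebra over the base field. -/
noncomputable def sigmaOf (N : Type) [AddCommGroup N] :
    Spec (CommRingCat.of (MonoidAlgebra κ (Multiplicative N))) ⟶ Spec κ :=
  Spec.map (CommRingCat.ofHom
    (MonoidAlgebra.singleOneRingHom : κ →+* MonoidAlgebra κ (Multiplicative N)))

variable {M N : Type} [AddCommGroup M] [AddCommGroup N]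

/-- over a nontrivial ring, the homomorphism of diagonalisable groups determines the homomorphism of
character groups. -/
lemma DSmap_injective (ψ ψ' : M →+ N) (h : Red.DSmap (Spec κ) ψ = Red.DSmap (Spec κ) ψ') :
    ψ = ψ' := by
  have h1 := gOf_comp_DSmap ψ (sigmaOf κ N) (MonoidAlgebra.of κ (Multiplicative N))
  have h2 := gOf_comp_DSmap ψ' (sigmaOf κ N) (MonoidAlgebra.of κ (Multiplicative N))
  rw [h] at h1
  have h3 := gOf_injective M _ (h1.symm.trans h2)
  ext m
  have h4 := congr($h3 (Multiplicative.ofAdd m))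
  simp only [MonoidHom.comp_apply] at h4
  exact Multiplicative.ofAdd.injective (MonoidAlgebra.of_injective h4)

variable {M₁ M₂ : Type} [AddCommGroup M₁] [AddCommGroup M₂] (φ : M₂ →+ M₁)

/-- **over a nontrivial ring, a flat and surjective homomorphism of diagonalisable groups comes from an
injective homomorphism of character groups.** -/
theorem injective_of_flat_surjective
    (h : Flat (Red.DSmap (Spec κ) φ).left ∧ Surjective (Red.DSmap (Spec κ) φ).left) :
    Function.Injective φ := by
  obtain ⟨hf, hs⟩ := h
  have hepi : Epi (Red.DSmap (Spec κ) φ).left := Flat.epi_of_flat_of_surjective _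
  have hepi' : Epi (Red.DSmap (Spec κ) φ) := (Over.forget _).epi_of_epi_map hepi
  intro m m' hmm
  have h1 : φ.comp (zmultiplesHom M₂ m) = φ.comp (zmultiplesHom M₂ m') := by
    ext
    simp [hmm]
  have h2 : Red.DSmap (Spec κ) (zmultiplesHom M₂ m) = Red.DSmap (Spec κ) (zmultiplesHom M₂ m') := by
    rw [← cancel_epi (Red.DSmap (Spec κ) φ), ← DSmap_comp, ← DSmap_comp, h1]
  have h3 := DSmap_injective κ _ _ h2
  have h4 := congr($h3 1)
  simpa using h4

/-- **over a nontrivial ring, a monomorphism of diagonalisable groups comes from a surjective homomorphism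
of character groups.** -/
theorem surjective_of_mono (h : Mono (Red.DSmap (Spec κ) φ).left) : Function.Surjective φ := by
  have hmono : Mono (Red.DSmap (Spec κ) φ) := (Over.forget _).mono_of_mono_map h
  obtain ⟨π, hπ⟩ : ∃ π : M₁ →+ M₁ ⧸ φ.range, π = QuotientAddGroup.mk' φ.range := ⟨_, rfl⟩
  obtain ⟨χ₁, hχ₁⟩ : ∃ χ₁ : Multiplicative M₁ →* MonoidAlgebra κ (Multiplicative (M₁ ⧸ φ.range)),
      χ₁ = (MonoidAlgebra.of κ (Multiplicative (M₁ ⧸ φ.range))).comp
        (AddMonoidHom.toMultiplicative π) := ⟨_, rfl⟩
  have e1 := gOf_comp_DSmap φ (sigmaOf κ (M₁ ⧸ φ.range)) χ₁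
  have e2 := gOf_comp_DSmap φ (sigmaOf κ (M₁ ⧸ φ.range))
    (1 : Multiplicative M₁ →* MonoidAlgebra κ (Multiplicative (M₁ ⧸ φ.range)))
  have hχ : χ₁.comp (AddMonoidHom.toMultiplicative φ) =
      (1 : Multiplicative M₁ →* MonoidAlgebra κ (Multiplicative (M₁ ⧸ φ.range))).comp
        (AddMonoidHom.toMultiplicative φ) := by
    refine MonoidHom.ext fun m => ?_
    rw [hχ₁, MonoidHom.comp_apply, MonoidHom.comp_apply, MonoidHom.comp_apply, MonoidHom.one_apply]
    have : AddMonoidHom.toMultiplicative π (AddMonoidHom.toMultiplicative φ m) = 1 := by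
      show Multiplicative.ofAdd (π (φ (Multiplicative.toAdd m))) = 1
      rw [hπ]
      have : (QuotientAddGroup.mk' φ.range) (φ (Multiplicative.toAdd m)) = 0 :=
        (QuotientAddGroup.eq_zero_iff _).mpr ⟨_, rfl⟩
      rw [this]
      rfl
    rw [this, map_one]
  rw [hχ, ← e2] at e1
  have h3 := gOf_injective M₁ _ ((cancel_mono _).mp e1)
  intro m
  have h4 := congr($h3 (Multiplicative.ofAdd m))
  rw [hχ₁, MonoidHom.comp_apply, MonoidHom.one_apply, ← map_one (MonoidAlgebra.of κ _)] at h4
  have h5 := MonoidAlgebra.of_injective h4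
  have h6 : π m = 0 := Multiplicative.ofAdd.injective h5
  rw [hπ] at h6
  exact (QuotientAddGroup.eq_zero_iff _).mp h6

end Field

end Groth.Agent.Lib.Helper15DSmapProps
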