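-- helper15: maximal split subtorus of a group of multiplicative type (maximal rank argument)
import Mathlib
import Groth.Agent.Lib.Helper15DSmapProps
import Groth.Agent.Lib.Helper15HomLoc
import Groth.Agent.Lib.Helper15LocusClopen
set_option autoImplicit false
universe u
open CategoryTheory CategoryTheory.Limits AlgebraicGeometry MonoidalCategory CartesianMonoidalCategory
  MonObj GrpObj

namespace Groth.Agent.Lib.Helper15SplitSub

open Groth.Agent.Lib.Helper15DSmapPts Groth.Agent.Lib.Helper15DSmapProps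
open Groth.Agent.Lib.Helper15DiagRigid Groth.Agent.Lib.Helper15HomDiag
open Groth.Agent.Lib.Helper11MultGa Groth.Agent.Lib.Helper27.GaGm

section Triv

variable {S : Scheme.{u}} (M : Type) [AddCommGroup M] [Subsingleton M]

/-- a diagonalisable group with trivial character group has only one point with values in any
`S`-scheme. -/
lemma subsingleton_hom_DS (X : Over S) : Subsingleton (X ⟶ Red.DS S M) := by
  refine ⟨fun a b => ?_⟩
  rw [← ptOf_adjEquiv (M := M) a, ← ptOf_adjEquiv (M := M) b]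
  congr 1
  apply ext_to_Spec
  apply CommRingCat.hom_ext
  apply amRingHom_ext
  intro m
  have hm : m = 1 := Subsingleton.elim _ _
  rw [hm]
  have h1 : (MonoidAlgebra.single (1 : Multiplicative M) (1 : ULift.{u} ℤ)) = 1 := rfl
  rw [h1, map_one, map_one]

lemma mono_of_subsingleton {G : Over S} (j : Red.DS S M ⟶ G) : Mono j :=
  ⟨fun {X} a b _ => (subsingleton_hom_DS M X).elim a b⟩

end Triv

section Loc

variable {S : Scheme.{u}} {A B : Over S} [GrpObj A] [GrpObj B]
  (w : A ⟶ B) [hw : IsMonHom w] (M₁ M₂ : Type) [AddCommGroup M₁] [AddCommGroup M₂]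
  (e₁ : Grp.mk A ≅ Grp.mk (Red.DS S M₁)) (e₂ : Grp.mk B ≅ Grp.mk (Red.DS S M₂))

include hw e₁ e₂ in
/-- a homomorphism between split groups is Zariski-locally attached to a homomorphism of
character groups. -/
theorem exists_opens_isD (hM₂ : AddGroup.FG M₂) (t : S) :
    ∃ (φ : M₂ →+ M₁) (W : S.Opens), t ∈ W ∧ IsD ((Over.pullback W.ι).map w) M₁ M₂ φ := by
  obtain ⟨a, ha, ha'⟩ : ∃ a : A ≅ Red.DS S M₁, a.hom = e₁.hom.hom.hom ∧
      a.inv = e₁.inv.hom.hom :=
    ⟨⟨e₁.hom.hom.hom, e₁.inv.hom.hom, congr($(e₁.hom_inv_id).hom.hom),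
      congr($(e₁.inv_hom_id).hom.hom)⟩, rfl, rfl⟩
  obtain ⟨b, hb, hb'⟩ : ∃ b : B ≅ Red.DS S M₂, b.hom = e₂.hom.hom.hom ∧
      b.inv = e₂.inv.hom.hom :=
    ⟨⟨e₂.hom.hom.hom, e₂.inv.hom.hom, congr($(e₂.hom_inv_id).hom.hom),
      congr($(e₂.inv_hom_id).hom.hom)⟩, rfl, rfl⟩
  have ham : IsMonHom a.inv := by rw [ha']; infer_instance
  have hbm : IsMonHom b.hom := by rw [hb]; infer_instance
  obtain ⟨v, hv⟩ : ∃ v : Red.DS S M₁ ⟶ Red.DS S M₂, v = a.inv ≫ w ≫ b.hom := ⟨_, rfl⟩
  have hvm : IsMonHom v := by rw [hv]; infer_instance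
  obtain ⟨φ, W, htW, hW⟩ := exists_opens_map_eq M₁ M₂ v hM₂ t
  refine ⟨φ, W, htW, ?_⟩
  have h1 : IsD ((Over.pullback W.ι).map (Red.DSmap S φ)) M₁ M₂ φ := IsD.bc W.ι isD_DSmap
  rw [← hW] at h1
  refine IsD.of_iso ((Over.pullback W.ι).mapIso a) ((Over.pullback W.ι).mapIso b) ?_ h1
  rw [Functor.mapIso_hom, Functor.mapIso_hom, ← CategoryTheory.Functor.map_comp,
    ← CategoryTheory.Functor.map_comp, hv, Iso.hom_inv_id_assoc]

end Loc

section Pt

variable {T : Scheme.{u}} {M₁ M₂ : Type} [AddCommGroup M₁] [AddCommGroup M₂] {φ : M₂ →+ M₁}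

/-- a monomorphism attached to a homomorphism of character groups over a nonempty base: the
homomorphism of character groups is surjective. -/
theorem surjective_of_isD_mono (t : T) {A B : Over T} {w : A ⟶ B} (hw : IsD w M₁ M₂ φ)
    (hm : Mono w.left) : Function.Surjective φ := by
  have h1 : Mono (Red.DSmap T φ).left :=
    (hw.prop_iff (MorphismProperty.monomorphisms Scheme.{u})).mp hm
  have h2 : Mono ((Over.pullback (T.fromSpecResidueField t)).map (Red.DSmap T φ)).left :=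
    Groth.Agent.Lib.Helper15LocusClopen.bc (MorphismProperty.monomorphisms Scheme.{u}) _ _ h1
  have h3 : Mono (Red.DSmap (Spec (T.residueField t)) φ).left :=
    ((IsD.bc (T.fromSpecResidueField t) (isD_DSmap (T := T) (φ := φ))).prop_iff
      (MorphismProperty.monomorphisms Scheme.{u})).mp h2
  exact surjective_of_mono (T.residueField t) φ h3

theorem isIso_of_isD_bijective {A B : Over T} {w : A ⟶ B} (hw : IsD w M₁ M₂ φ)
    (hφ : Function.Bijective φ) : IsIso w.left :=
  (hw.prop_iff (MorphismProperty.isomorphisms Scheme.{u})).mpr (isIso_DSmap_left φ T hφ)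

end Pt

section Num

/-- a surjection from a group generated by `n` elements onto `ℤ^r` forces `r ≤ n`. -/
lemma le_card_of_surjective {M : Type} [AddCommGroup M] (F : Finset M)
    (hF : AddSubgroup.closure (F : Set M) = ⊤) (r : ℕ) (φ : M →+ (Fin r → ℤ))
    (hφ : Function.Surjective φ) : r ≤ F.card := by
  classical
  have hspan : Submodule.span ℤ (F : Set M) = ⊤ := by
    apply Submodule.toAddSubgroup_injective
    rw [Submodule.span_int_eq_addSubgroupClosure, hF]
    rfl
  have himg : Submodule.span ℤ ((F.image φ.toIntLinearMap : Finset (Fin r → ℤ)) : Set (Fin r → ℤ))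
      = ⊤ := by
    rw [Finset.coe_image, ← Submodule.map_span, hspan, Submodule.map_top,
      LinearMap.range_eq_top]
    exact hφ
  have h1 := finrank_span_finset_le_card (R := ℤ) (F.image φ.toIntLinearMap)
  rw [Set.finrank, himg, finrank_top, Module.finrank_fin_fun] at h1
  exact h1.trans Finset.card_image_le

lemma le_of_surjective (r r' : ℕ) (φ : (Fin r' → ℤ) →+ (Fin r → ℤ))
    (hφ : Function.Surjective φ) : r ≤ r' := by
  have h := LinearMap.finrank_le_finrank_of_surjective (f := φ.toIntLinearMap) hφ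
  rwa [Module.finrank_fin_fun, Module.finrank_fin_fun] at h

lemma bijective_of_surjective (r : ℕ) (φ : (Fin r → ℤ) →+ (Fin r → ℤ))
    (hφ : Function.Surjective φ) : Function.Bijective φ :=
  ⟨OrzechProperty.injective_of_surjective_endomorphism φ.toIntLinearMap hφ, hφ⟩

end Num

section Bound

variable {S : Scheme.{u}} {G : Over S} [GrpObj G]

/-- the rank of a split subtorus of a group of multiplicative type and of finite type over a
nonempty base is bounded. -/
theorem exists_rank_bound (hG : SGA3x.IsMultTypeFT G) (s₀ : S) :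
    ∃ n₀ : ℕ, ∀ (r : ℕ) (T : Over S) [GrpObj T] (j : T ⟶ G) [IsMonHom j],
      Mono j.left → Red.IsSplitTorusWith (Fin r → ℤ) T → r ≤ n₀ := by
  obtain ⟨S', f, hfl, hsu, hqc, hloc⟩ := hG
  obtain ⟨s', hs'⟩ := hsu.surj s₀
  obtain ⟨V, hV, M, _, hM, ⟨e⟩⟩ := hloc s'
  obtain ⟨F, hF⟩ := AddGroup.fg_def.mp hM
  refine ⟨F.card, ?_⟩
  intro r T _ j _ hj ⟨eT⟩
  obtain ⟨e'⟩ := Groth.Agent.Lib.Helper15DSbc.nonempty_DS_bc (V.ι ≫ f) (Fin r → ℤ)
  obtain ⟨φ, W, htW, hW⟩ := Groth.Agent.Lib.Helper15HomLoc.exists_opens_isD (V.ι ≫ f) j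
    (Fin r → ℤ) M ((Over.pullback (V.ι ≫ f)).mapGrp.mapIso eT ≪≫ e') e hM ⟨s', hV⟩
  have hm : Mono ((Over.pullback (W.ι ≫ V.ι ≫ f)).map j).left :=
    Groth.Agent.Lib.Helper15LocusClopen.bc (MorphismProperty.monomorphisms Scheme.{u}) _ _ hj
  exact le_card_of_surjective F hF r φ (surjective_of_isD_mono (T := (W : Scheme.{u})) ⟨⟨s', hV⟩, htW⟩ hW hm)

end Bound

section Final

variable {S : Scheme.{u}} {T T' : Over S} [GrpObj T] [GrpObj T']

/-- a monomorphism of split tori, from one of rank at least that of the target, is an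
isomorphism. -/
theorem isIso_of_mono_of_rank_le (g : T ⟶ T') [IsMonHom g] (hm : Mono g.left) (r r' : ℕ)
    (eT : Grp.mk T ≅ Grp.mk (Red.DS S (Fin r → ℤ)))
    (eT' : Grp.mk T' ≅ Grp.mk (Red.DS S (Fin r' → ℤ))) (hle : S → r' ≤ r) : IsIso g := by
  have hfg : AddGroup.FG (Fin r' → ℤ) := by
    rw [AddGroup.fg_iff_addMonoid_fg]
    infer_instance
  have hex : ∀ t : S, ∃ W : S.Opens, t ∈ W ∧ IsIso ((Over.pullback W.ι).map g).left := by
    intro t
    obtain ⟨φ, W, htW, hW⟩ := exists_opens_isD g (Fin r → ℤ) (Fin r' → ℤ) eT eT' hfg t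
    refine ⟨W, htW, ?_⟩
    have hm' : Mono ((Over.pullback W.ι).map g).left :=
      Groth.Agent.Lib.Helper15LocusClopen.bc (MorphismProperty.monomorphisms Scheme.{u}) _ _ hm
    have hφ : Function.Surjective φ := surjective_of_isD_mono (T := (W : Scheme.{u})) ⟨t, htW⟩ hW hm'
    have hrr : r = r' := le_antisymm (le_of_surjective r r' φ hφ) (hle t)
    subst hrr
    exact isIso_of_isD_bijective hW (bijective_of_surjective r φ hφ)
  choose Wo hWo hiso using hex
  have hcov : Presieve.ofArrows (fun t : S => ((Wo t : S.Opens) : Scheme.{u}))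
      (fun t => (Wo t).ι) ∈ Scheme.fpqcPrecoverage S := by
    let 𝒰 : S.OpenCover :=
      { I₀ := S
        X := fun t => (Wo t).toScheme
        f := fun t => (Wo t).ι
        mem₀ := by
          rw [Scheme.ofArrows_mem_precoverage_iff]
          exact ⟨fun p => ⟨p, ⟨p, hWo p⟩, rfl⟩, fun s => inferInstance⟩ }
    exact Scheme.zariskiPrecoverage_le_fpqcPrecoverage _ 𝒰.mem₀
  have hleft : IsIso g.left :=
    Groth.Agent.Lib.Helper15FixClopenGlob.of_bc_family
      (P := MorphismProperty.isomorphisms Scheme.{u}) inferInstance g _ hcov hiso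
  have : IsIso ((Over.forget S).map g) := hleft
  exact isIso_of_reflects_iso g (Over.forget S)

end Final

section Main

variable {S : Scheme.{u}} {G : Over S} [GrpObj G]

/-- a factorisation through a monomorphic homomorphism is a homomorphism. -/
lemma isMonHom_of_fac {T T' : Over S} [GrpObj T] [GrpObj T'] (j : T ⟶ G) [IsMonHom j]
    (j' : T' ⟶ G) [IsMonHom j'] [Mono j'] (g : T ⟶ T') (hg : g ≫ j' = j) : IsMonHom g where
  one_hom := by
    rw [← cancel_mono j', Category.assoc, hg, IsMonHom.one_hom, IsMonHom.one_hom]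
  mul_hom := by
    rw [← cancel_mono j', Category.assoc, hg, IsMonHom.mul_hom, Category.assoc,
      IsMonHom.mul_hom, ← hg, tensorHom_comp_tensorHom_assoc]

/-- **a group of multiplicative type and of finite type has a maximal split subtorus.** -/
theorem exists_maximal_split (hG : SGA3x.IsMultTypeFT G) :
    ∃ (T : Over S) (_ : GrpObj T) (j : T ⟶ G) (r : ℕ), IsMonHom j ∧ Mono j ∧
      Red.IsSplitTorusWith (Fin r → ℤ) T ∧
      ∀ (T' : Over S) [GrpObj T'] (j' : T' ⟶ G) [IsMonHom j'] [Mono j'] (r' : ℕ) (g : T ⟶ T'),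
        Red.IsSplitTorusWith (Fin r' → ℤ) T' → g ≫ j' = j → IsIso g := by
  obtain ⟨R, hR⟩ : ∃ R : Set ℕ, R = {r | ∃ (T : Over S) (_ : GrpObj T) (j : T ⟶ G),
      IsMonHom j ∧ Mono j ∧ Red.IsSplitTorusWith (Fin r → ℤ) T} := ⟨_, rfl⟩
  have h0 : (0 : ℕ) ∈ R := by
    rw [hR]
    exact ⟨Red.DS S (Fin 0 → ℤ), inferInstance, toUnit _ ≫ η[G], inferInstance,
      mono_of_subsingleton _ _, ⟨Iso.refl _⟩⟩
  have key : ∀ r ∈ R, (S → ∀ r' ∈ R, r' ≤ r) →
      ∃ (T : Over S) (_ : GrpObj T) (j : T ⟶ G) (r : ℕ), IsMonHom j ∧ Mono j ∧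
      Red.IsSplitTorusWith (Fin r → ℤ) T ∧
      ∀ (T' : Over S) [GrpObj T'] (j' : T' ⟶ G) [IsMonHom j'] [Mono j'] (r' : ℕ) (g : T ⟶ T'),
        Red.IsSplitTorusWith (Fin r' → ℤ) T' → g ≫ j' = j → IsIso g := by
    intro r hr hmax
    rw [hR] at hr
    obtain ⟨T, iT, j, hj1, hj2, hT⟩ := hr
    refine ⟨T, iT, j, r, hj1, hj2, hT, ?_⟩
    intro T' _ j' _ _ r' g hT' hg
    have hgm : IsMonHom g := isMonHom_of_fac j j' g hg
    have hgmono : Mono g := by
      have : Mono (g ≫ j') := by rw [hg]; exact hj2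
      exact mono_of_mono g j'
    obtain ⟨eT⟩ := hT
    obtain ⟨eT'⟩ := hT'
    refine isIso_of_mono_of_rank_le g inferInstance r r' eT eT' (fun s => hmax s r' ?_)
    rw [hR]
    exact ⟨T', inferInstance, j', inferInstance, inferInstance, ⟨eT'⟩⟩
  by_cases hne : Nonempty S
  · obtain ⟨s₀⟩ := hne
    obtain ⟨n₀, hn₀⟩ := exists_rank_bound hG s₀
    have hbdd : BddAbove R := by
      refine ⟨n₀, ?_⟩
      intro r hr
      rw [hR] at hr
      obtain ⟨T, iT, j, hj1, hj2, hT⟩ := hr
      exact hn₀ r T j inferInstance hT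
    exact key (sSup R) (Nat.sSup_mem ⟨0, h0⟩ hbdd) (fun _ r' hr' => le_csSup hbdd hr')
  · exact key 0 h0 (fun s => (hne ⟨s⟩).elim)

end Main

end Groth.Agent.Lib.Helper15SplitSub
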