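import Mathlib

set_option autoImplicit false
set_option linter.unusedSectionVars false

namespace Groth.Agent.Lib.Helper25.SubGrp

universe u v

section part0
open CategoryTheory MonoidalCategory CartesianMonoidalCategory MonObj GrpObj

variable {C : Type u} [Category.{v} C] [CartesianMonoidalCategory C] {G H : C} [GrpObj G]

/-- a monomorphism into a group object through which unit, multiplication and inverse factor
inherits a group object structure. -/
@[reducible] def grpObjOfMono (i : H ⟶ G) [Mono i]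
    (e : 𝟙_ C ⟶ H) (he : e ≫ i = η[G])
    (m : H ⊗ H ⟶ H) (hm : m ≫ i = (i ⊗ₘ i) ≫ μ[G])
    (w : H ⟶ H) (hw : w ≫ i = i ≫ ι[G]) : GrpObj H where
  one := e
  mul := m
  one_mul := by
    rw [← cancel_mono i, Category.assoc, hm, ← Category.assoc, ← tensorHom_id,
      tensorHom_comp_tensorHom, he, Category.id_comp]
    have : (η[G] ⊗ₘ i) = (𝟙_ C ◁ i) ≫ (η[G] ▷ G) := by
      rw [← tensorHom_id, ← id_tensorHom, tensorHom_comp_tensorHom, Category.id_comp,
        Category.comp_id]
    rw [this, Category.assoc, MonObj.one_mul, leftUnitor_naturality]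
  mul_one := by
    rw [← cancel_mono i, Category.assoc, hm, ← Category.assoc, ← id_tensorHom,
      tensorHom_comp_tensorHom, he, Category.id_comp]
    have : (i ⊗ₘ η[G]) = (i ▷ 𝟙_ C) ≫ (G ◁ η[G]) := by
      rw [← tensorHom_id, ← id_tensorHom, tensorHom_comp_tensorHom, Category.id_comp,
        Category.comp_id]
    rw [this, Category.assoc, MonObj.mul_one, rightUnitor_naturality]
  mul_assoc := by
    rw [← cancel_mono i]
    simp only [Category.assoc, hm]
    have h1 : (m ▷ H) ≫ (i ⊗ₘ i) = ((i ⊗ₘ i) ⊗ₘ i) ≫ (μ[G] ▷ G) := by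
      rw [← tensorHom_id, ← tensorHom_id, tensorHom_comp_tensorHom, tensorHom_comp_tensorHom, hm,
        Category.id_comp, Category.comp_id]
    have h2 : (H ◁ m) ≫ (i ⊗ₘ i) = (i ⊗ₘ (i ⊗ₘ i)) ≫ (G ◁ μ[G]) := by
      rw [← id_tensorHom, ← id_tensorHom, tensorHom_comp_tensorHom, tensorHom_comp_tensorHom, hm,
        Category.id_comp, Category.comp_id]
    rw [reassoc_of% h1, reassoc_of% h2, MonObj.mul_assoc, associator_naturality_assoc]
  inv := w
  left_inv := by
    rw [← cancel_mono i, Category.assoc, hm, Category.assoc, he, ← Category.assoc,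
      lift_map, hw, Category.id_comp]
    have : lift (i ≫ ι[G]) i = i ≫ lift ι[G] (𝟙 G) := by
      rw [comp_lift, Category.comp_id]
    rw [this, Category.assoc, GrpObj.left_inv, ← Category.assoc]
    congr 1
    exact toUnit_unique _ _
  right_inv := by
    rw [← cancel_mono i, Category.assoc, hm, Category.assoc, he, ← Category.assoc,
      lift_map, hw, Category.id_comp]
    have : lift i (i ≫ ι[G]) = i ≫ lift (𝟙 G) ι[G] := by
      rw [comp_lift, Category.comp_id]
    rw [this, Category.assoc, GrpObj.right_inv, ← Category.assoc]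
    congr 1
    exact toUnit_unique _ _

lemma isMonHom_of_grpObjOfMono (i : H ⟶ G) [Mono i]
    (e : 𝟙_ C ⟶ H) (he : e ≫ i = η[G])
    (m : H ⊗ H ⟶ H) (hm : m ≫ i = (i ⊗ₘ i) ≫ μ[G])
    (w : H ⟶ H) (hw : w ≫ i = i ≫ ι[G]) :
    letI := grpObjOfMono i e he m hm w hw
    IsMonHom i :=
  letI := grpObjOfMono i e he m hm w hw
  { one_hom := he, mul_hom := hm }

end part0

end Groth.Agent.Lib.Helper25.SubGrp
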