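-- helper15: descent of closed subgroups of a group scheme along an fpqc covering family
import Mathlib
import Groth.Agent.Lib.Helper15ClDescFam
import Groth.Agent.Lib.Helper25SubGrp
import Groth.Agent.Lib.Helper15SplitSub
set_option autoImplicit false
universe u
open CategoryTheory CategoryTheory.Limits AlgebraicGeometry MonoidalCategory CartesianMonoidalCategory
  MonObj GrpObj

namespace Groth.Agent.Lib.Helper15SubGrpDesc

open Groth.Agent.Lib.Helper15ClDescFam Groth.Agent.Lib.Helper15SplitSub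

lemma map_left_fst {S T₀ : Scheme.{u}} {X Y : Over S} (f : T₀ ⟶ S) (y : X ⟶ Y) :
    ((Over.pullback f).map y).left ≫ pullback.fst Y.hom f = pullback.fst X.hom f ≫ y.left := by
  simp only [Over.pullback_map_left]
  exact pullback.lift_fst _ _ _

lemma map_left_snd {S T₀ : Scheme.{u}} {X Y : Over S} (f : T₀ ⟶ S) (y : X ⟶ Y) :
    ((Over.pullback f).map y).left ≫ pullback.snd Y.hom f = pullback.snd X.hom f := by
  simp only [Over.pullback_map_left]
  exact pullback.lift_snd _ _ _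

variable {S : Scheme.{u}} {G : Over S} [GrpObj G] {K : Type u} {T : K → Scheme.{u}}
  (g : ∀ k, T k ⟶ S) (hcov : Presieve.ofArrows T g ∈ Scheme.fpqcPrecoverage S)

include hcov in
lemma aux (V : ∀ k, Over (T k)) [∀ k, GrpObj (V k)] (v : ∀ k, V k ⟶ Red.bc (g k) G)
    [∀ k, IsMonHom (v k)] (hcl : ∀ k, IsClosedImmersion (v k).left)
    {W : Scheme.{u}} (i : W ⟶ G.left) [Mono i]
    (hW' : ∀ ⦃A : Scheme.{u}⦄ (k : K) (x : A ⟶ pullback G.hom (g k)),
      (∃ a : A ⟶ (V k).left, a ≫ (v k).left = x) ↔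
        ∃ w : A ⟶ W, w ≫ i = x ≫ pullback.fst G.hom (g k)) :
    ∃ (_ : GrpObj (Over.mk (i ≫ G.hom))) (j : Over.mk (i ≫ G.hom) ⟶ G),
      j.left = i ∧ IsMonHom j ∧ Mono j ∧
      (∀ k, ∃ e : Red.bc (g k) (Over.mk (i ≫ G.hom)) ≅ V k, IsMonHom e.hom ∧
        e.hom ≫ v k = (Over.pullback (g k)).map j) ∧
      (∀ (Y : Over S) (y : Y ⟶ G), (∀ k, ∃ a : Red.bc (g k) Y ⟶ V k,
        a ≫ v k = (Over.pullback (g k)).map y) → ∃ y' : Y ⟶ Over.mk (i ≫ G.hom), y' ≫ j = y) := by
  obtain ⟨j, hj⟩ : ∃ j : Over.mk (i ≫ G.hom) ⟶ G, j = Over.homMk i rfl := ⟨_, rfl⟩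
  have hjl : j.left = i := by rw [hj]; rfl
  have hjmono : Mono j := by
    have : Mono ((Over.forget S).map j) := by
      show Mono j.left
      rw [hjl]; infer_instance
    exact (Over.forget S).mono_of_mono_map this
  -- the factorisation criterion
  have crit : ∀ (Y : Over S) (y : Y ⟶ G), (∀ k, ∃ a : Red.bc (g k) Y ⟶ V k,
      a ≫ v k = (Over.pullback (g k)).map y) → ∃ y' : Y ⟶ Over.mk (i ≫ G.hom), y' ≫ j = y := by
    intro Y₀ y hy
    obtain ⟨w, hw⟩ := factors_of_fpqc i y.left _ (Precoverage.pullbackArrows_mem Y₀.hom hcov) (by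
      rintro T' _ ⟨T'', τ, ⟨k⟩⟩
      obtain ⟨a, ha⟩ := hy k
      have h1 := (hW' k ((pullbackSymmetry (g k) Y₀.hom).hom ≫
        ((Over.pullback (g k)).map y).left)).1 ⟨(pullbackSymmetry (g k) Y₀.hom).hom ≫ a.left, by
          rw [Category.assoc, ← Over.comp_left, ha]⟩
      obtain ⟨w, hw⟩ := h1
      refine ⟨w, ?_⟩
      rw [hw, Category.assoc, map_left_fst, ← Category.assoc,
        pullbackSymmetry_hom_comp_fst])
    refine ⟨Over.homMk w ?_, ?_⟩
    · show w ≫ i ≫ G.hom = Y₀.hom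
      rw [← Category.assoc, hw, Over.w]
    · apply Over.OverMorphism.ext
      show w ≫ j.left = y.left
      rw [hjl, hw]
  -- the local isomorphisms
  have hiso : ∀ k, ∃ e : Red.bc (g k) (Over.mk (i ≫ G.hom)) ≅ V k,
      e.hom ≫ v k = (Over.pullback (g k)).map j := by
    intro k
    have hvm : Mono (v k).left := by
      have := hcl k
      infer_instance
    have hFm : Mono ((Over.pullback (g k)).map j).left := by
      have : Mono ((Over.pullback (g k)).map j) := inferInstance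
      exact (Over.forget _).map_mono ((Over.pullback (g k)).map j)
    obtain ⟨a, ha⟩ := (hW' k ((Over.pullback (g k)).map j).left).2
      ⟨pullback.fst (i ≫ G.hom) (g k), by
        rw [map_left_fst, hjl]; rfl⟩
    obtain ⟨w, hw⟩ := (hW' k (v k).left).1 ⟨𝟙 _, Category.id_comp _⟩
    have hcond : w ≫ (i ≫ G.hom) = (V k).hom ≫ g k := by
      rw [← Category.assoc, hw, Category.assoc, pullback.condition, ← Category.assoc]
      congr 1
      exact Over.w (v k)
    obtain ⟨b, hb⟩ : ∃ b : (V k).left ⟶ (Red.bc (g k) (Over.mk (i ≫ G.hom))).left,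
        b = pullback.lift w (V k).hom hcond := ⟨_, rfl⟩
    have hbF : b ≫ ((Over.pullback (g k)).map j).left = (v k).left := by
      apply pullback.hom_ext
      · rw [Category.assoc, map_left_fst, hb]
        erw [pullback.lift_fst_assoc]
        rw [hjl, hw]
      · rw [Category.assoc, map_left_snd, hb]
        erw [pullback.lift_snd]
        exact (Over.w (v k)).symm
    have hab : a ≫ b = 𝟙 _ := by
      rw [← cancel_mono ((Over.pullback (g k)).map j).left, Category.assoc, hbF, ha,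
        Category.id_comp]
    have hba : b ≫ a = 𝟙 _ := by
      rw [← cancel_mono (v k).left, Category.assoc, ha, hbF, Category.id_comp]
    refine ⟨Over.isoMk ⟨a, b, hab, hba⟩ ?_, ?_⟩
    · show a ≫ (V k).hom = (Red.bc (g k) (Over.mk (i ≫ G.hom))).hom
      rw [← Over.w (v k), ← Category.assoc, ha]
      exact Over.w _
    · apply Over.OverMorphism.ext
      rw [Over.comp_left]
      exact ha
  choose e he using hiso
  have hvmono : ∀ k, Mono (v k) := by
    intro k
    have hvm : Mono (v k).left := by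
      have := hcl k
      infer_instance
    exact (Over.forget _).mono_of_mono_map hvm
  -- the group structure
  obtain ⟨e₁, he₁⟩ := crit (𝟙_ (Over S)) η[G] (by
    intro k
    refine ⟨1, ?_⟩
    rw [MonObj.one_comp, MonObj.one_eq_one, Functor.map_one])
  obtain ⟨m, hm⟩ := crit (Over.mk (i ≫ G.hom) ⊗ Over.mk (i ≫ G.hom))
      ((fst _ _ ≫ j) * (snd _ _ ≫ j)) (by
    intro k
    refine ⟨((Over.pullback (g k)).map (fst _ _) ≫ (e k).hom) *
      ((Over.pullback (g k)).map (snd _ _) ≫ (e k).hom), ?_⟩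
    rw [MonObj.mul_comp, Functor.map_mul, Category.assoc, Category.assoc, he, Functor.map_comp,
      Functor.map_comp])
  obtain ⟨w, hw⟩ := crit (Over.mk (i ≫ G.hom)) (j⁻¹) (by
    intro k
    refine ⟨((e k).hom)⁻¹, ?_⟩
    rw [GrpObj.inv_comp, he, Functor.map_inv'])
  have hm' : m ≫ j = (j ⊗ₘ j) ≫ μ[G] := by
    rw [hm, MonObj.mul_eq_mul, MonObj.comp_mul, tensorHom_fst, tensorHom_snd]
  have hw' : w ≫ j = j ≫ ι[G] := by
    rw [hw, GrpObj.inv_eq_inv, GrpObj.comp_inv, Category.comp_id]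
  let inst : GrpObj (Over.mk (i ≫ G.hom)) :=
    Groth.Agent.Lib.Helper25.SubGrp.grpObjOfMono j e₁ he₁ m hm' w hw'
  have hjm : IsMonHom j :=
    Groth.Agent.Lib.Helper25.SubGrp.isMonHom_of_grpObjOfMono j e₁ he₁ m hm' w hw'
  refine ⟨inst, j, hjl, hjm, hjmono, ?_, crit⟩
  intro k
  have := hvmono k
  exact ⟨e k, isMonHom_of_fac ((Over.pullback (g k)).map j) (v k) (e k).hom (he k), he k⟩

include hcov in
/-- **descent of closed subgroups along an fpqc covering family.** -/
theorem exists_subgroup_descent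
    (V : ∀ k, Over (T k)) [∀ k, GrpObj (V k)] (v : ∀ k, V k ⟶ Red.bc (g k) G)
    [∀ k, IsMonHom (v k)] (hcl : ∀ k, IsClosedImmersion (v k).left)
    (hcompat : ∀ ⦃A : Scheme.{u}⦄ ⦃k l : K⦄ (x₀ : A ⟶ (Red.bc (g k) G).left)
      (x₁ : A ⟶ (Red.bc (g l) G).left),
      x₀ ≫ pullback.fst G.hom (g k) = x₁ ≫ pullback.fst G.hom (g l) →
      (∃ a : A ⟶ (V k).left, a ≫ (v k).left = x₀) → ∃ b : A ⟶ (V l).left, b ≫ (v l).left = x₁) :
    ∃ (E : Over S) (_ : GrpObj E) (j : E ⟶ G), IsMonHom j ∧ Mono j ∧ IsClosedImmersion j.left ∧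
      (∀ k, ∃ e : Red.bc (g k) E ≅ V k, IsMonHom e.hom ∧
        e.hom ≫ v k = (Over.pullback (g k)).map j) ∧
      (∀ (Y : Over S) (y : Y ⟶ G), (∀ k, ∃ a : Red.bc (g k) Y ⟶ V k,
        a ≫ v k = (Over.pullback (g k)).map y) → ∃ y' : Y ⟶ E, y' ≫ j = y) := by
  -- the family over `G.left`
  have hf : Presieve.ofArrows (fun k => pullback (g k) G.hom) (fun k => pullback.snd (g k) G.hom) ∈
      Scheme.fpqcPrecoverage G.left := by
    rw [Presieve.ofArrows_pullback]
    exact Precoverage.pullbackArrows_mem G.hom hcov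
  have hVcl : ∀ k, IsClosedImmersion
      (Over.mk ((v k).left ≫ (pullbackSymmetry G.hom (g k)).hom)).hom := by
    intro k
    have := hcl k
    show IsClosedImmersion ((v k).left ≫ (pullbackSymmetry G.hom (g k)).hom)
    infer_instance
  obtain ⟨W, i, hi, hW⟩ := exists_closed_descent_fam
    (fun k => pullback.snd (g k) G.hom) hf
    (fun k => Over.mk ((v k).left ≫ (pullbackSymmetry G.hom (g k)).hom)) (by
      intro A k l x₀ x₁ e hx
      obtain ⟨a, ha⟩ := hx
      obtain ⟨b, hb⟩ := hcompat (x₀ ≫ (pullbackSymmetry G.hom (g k)).inv)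
        (x₁ ≫ (pullbackSymmetry G.hom (g l)).inv) (by
          simp only [Category.assoc, pullbackSymmetry_inv_comp_fst]
          exact e) ⟨a, by
            rw [← ha]
            simp⟩
      refine ⟨b, ?_⟩
      show b ≫ (v l).left ≫ (pullbackSymmetry G.hom (g l)).hom = x₁
      rw [← Category.assoc, hb, Category.assoc, Iso.inv_hom_id, Category.comp_id])
  have hW' : ∀ ⦃A : Scheme.{u}⦄ (k : K) (x : A ⟶ pullback G.hom (g k)),
      (∃ a : A ⟶ (V k).left, a ≫ (v k).left = x) ↔
        ∃ w : A ⟶ W, w ≫ i = x ≫ pullback.fst G.hom (g k) := by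
    intro A k x
    have h1 := hW k (x ≫ (pullbackSymmetry G.hom (g k)).hom)
    simp only [Category.assoc, pullbackSymmetry_hom_comp_snd] at h1
    rw [← h1]
    constructor
    · rintro ⟨a, ha⟩
      exact ⟨a, by show a ≫ (v k).left ≫ _ = _; rw [← Category.assoc, ha]⟩
    · rintro ⟨a, ha⟩
      refine ⟨a, ?_⟩
      have ha' : a ≫ (v k).left ≫ (pullbackSymmetry G.hom (g k)).hom =
          x ≫ (pullbackSymmetry G.hom (g k)).hom := ha
      rw [← cancel_mono (pullbackSymmetry G.hom (g k)).hom, Category.assoc, ha']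
  have himono : Mono i := inferInstance
  obtain ⟨inst, j, hjl, hjm, hjmono, h1, h2⟩ := aux g hcov V v hcl i hW'
  refine ⟨_, inst, j, hjm, hjmono, ?_, h1, h2⟩
  rw [hjl]; exact hi

end Groth.Agent.Lib.Helper15SubGrpDesc
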