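-- helper15: fpqc descent of factorisations between subgroups of multiplicative type and the global lifting statement
import Mathlib
import Groth.Agent.Lib.Helper15HomLiftB
import Groth.Agent.Lib.Helper15DSbc
import Groth.Agent.Lib.Helper15ClDescFam
import Groth.Agent.Lib.Helper15SubGrpDesc
set_option autoImplicit false
universe u
open CategoryTheory CategoryTheory.Limits AlgebraicGeometry MonoidalCategory
  CartesianMonoidalCategory MonObj GrpObj

namespace Groth.Agent.Lib.Helper15HomLift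

section Family

variable {S : Scheme.{u}}

/-- a common fpqc family, with members spectra of rings, for two properties holding fpqc-locally
and stable under further base change. -/
theorem exists_spec_fpqc_family₂ (P Q : ∀ (S' : Scheme.{u}), (S' ⟶ S) → Prop)
    (hPs : ∀ (S' S'' : Scheme.{u}) (f : S' ⟶ S) (q : S'' ⟶ S'), P S' f → P S'' (q ≫ f))
    (hQs : ∀ (S' S'' : Scheme.{u}) (f : S' ⟶ S) (q : S'' ⟶ S'), Q S' f → Q S'' (q ≫ f))
    (hP : TwC.Locally S TwC.Topology.fpqc P) (hQ : TwC.Locally S TwC.Topology.fpqc Q) :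
    ∃ (K : Type u) (B : K → CommRingCat.{u}) (g : ∀ k, Spec (B k) ⟶ S),
      Presieve.ofArrows (fun k => Spec (B k)) g ∈ Scheme.fpqcPrecoverage S ∧
        ∀ k, P (Spec (B k)) (g k) ∧ Q (Spec (B k)) (g k) := by
  obtain ⟨J, S₁, g₁, hcov, hPQ⟩ :=
    Groth.Agent.Lib.Helper15DSbc.exists_fpqc_family₂ P Q hPs hQs hP hQ
  have h2 : ∀ k : J, Presieve.ofArrows (S₁ k).affineOpenCover.openCover.X
      (S₁ k).affineOpenCover.openCover.f ∈ Scheme.fpqcPrecoverage (S₁ k) :=
    fun k => Scheme.zariskiPrecoverage_le_fpqcPrecoverage _ (S₁ k).affineOpenCover.openCover.mem₀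
  have h3 := Precoverage.comp_mem_coverings (J := Scheme.fpqcPrecoverage.{u}) g₁ hcov
    (fun k j => (S₁ k).affineOpenCover.openCover.f j) h2
  refine ⟨Σ k : J, (S₁ k).affineOpenCover.I₀, fun p => (S₁ p.1).affineOpenCover.X p.2,
    fun p => (S₁ p.1).affineOpenCover.f p.2 ≫ g₁ p.1, h3, fun p => ⟨?_, ?_⟩⟩
  · exact hPs _ _ _ _ (hPQ p.1).1
  · exact hQs _ _ _ _ (hPQ p.1).2

end Family

section Descent

variable {S : Scheme.{u}} (G H H' : Over S) (i : H ⟶ G) (i' : H' ⟶ G) [Mono i'.left]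
  {K : Type u} (Sk : K → Scheme.{u}) (g : ∀ k, Sk k ⟶ S)
  (hcov : Presieve.ofArrows Sk g ∈ Scheme.fpqcPrecoverage S)
  (h : ∀ k, ∃ ψ : Red.bc (g k) H ⟶ Red.bc (g k) H',
    ψ ≫ (Over.pullback (g k)).map i' = (Over.pullback (g k)).map i)

include hcov h in
/-- factoring one subobject through another can be checked on an fpqc covering family of the
base. -/
theorem exists_factor_of_family : ∃ ψ : H ⟶ H', ψ ≫ i' = i := by
  obtain ⟨w, hw⟩ := Groth.Agent.Lib.Helper15ClDescFam.factors_of_fpqc i'.left i.left _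
    (Precoverage.pullbackArrows_mem H.hom hcov) (by
      rintro T' _ ⟨T'', τ, ⟨k⟩⟩
      obtain ⟨ψ, hψ⟩ := h k
      refine ⟨(pullbackSymmetry (g k) H.hom).hom ≫ ψ.left ≫ pullback.fst H'.hom (g k), ?_⟩
      rw [Category.assoc, Category.assoc, ← Groth.Agent.Lib.Helper15SubGrpDesc.map_left_fst,
        ← Category.assoc ψ.left, ← Over.comp_left, hψ,
        Groth.Agent.Lib.Helper15SubGrpDesc.map_left_fst, ← Category.assoc,
        pullbackSymmetry_hom_comp_fst])
  refine ⟨Over.homMk w ?_, ?_⟩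
  · rw [← Over.w i', ← Category.assoc, hw, Over.w]
  · apply Over.OverMorphism.ext
    exact hw

end Descent

section Points

variable {S S₀ : Scheme.{u}} (j : S₀ ⟶ S) {G H H' : Over S} (i : H ⟶ G) (i' : H' ⟶ G)
  (ψ : Red.bc j H ⟶ Red.bc j H')
  (hψ : ψ ≫ (Over.pullback j).map i' = (Over.pullback j).map i)

include hψ in
/-- if the base change of one subobject factors through that of another, so do the points defined
over objects lying over the smaller base. -/
theorem pts_of_bc (Y : Over S) (p : Y ⟶ Over.mk j) (h : Y ⟶ H) :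
    ∃ h' : Y ⟶ H', h' ≫ i' = h ≫ i := by
  obtain ⟨jj, hjj⟩ : ∃ jj : (Over.map j).obj (Over.mk p.left) ⟶ Y, jj.left = 𝟙 _ :=
    ⟨Over.homMk (𝟙 _) (by simpa using (Over.w p).symm), rfl⟩
  have hji : IsIso jj := by
    have : IsIso ((Over.forget S).map jj) := by
      change IsIso jj.left
      rw [hjj]; infer_instance
    exact isIso_of_reflects_iso jj (Over.forget S)
  obtain ⟨h'', hh''⟩ : ∃ h'' : (Over.map j).obj (Over.mk p.left) ⟶ H',
      (Over.mapPullbackAdj j).homEquiv _ _ h'' =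
        (Over.mapPullbackAdj j).homEquiv _ _ (jj ≫ h) ≫ ψ :=
    ⟨_, Equiv.apply_symm_apply _ _⟩
  have h1 : h'' ≫ i' = jj ≫ h ≫ i := by
    apply ((Over.mapPullbackAdj j).homEquiv _ _).injective
    rw [Adjunction.homEquiv_naturality_right, hh'', Category.assoc, hψ,
      ← Adjunction.homEquiv_naturality_right, Category.assoc]
  refine ⟨inv jj ≫ h'', ?_⟩
  rw [Category.assoc, h1, IsIso.inv_hom_id_assoc]

end Points

section Main

variable {R : Type u} [CommRing R] (J : Ideal R) (hJ : IsNilpotent J)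
  (G H H' : Over (Spec (CommRingCat.of R))) [GrpObj G] [GrpObj H] [GrpObj H']
  (hH : TwC.Locally (Spec (CommRingCat.of R)) TwC.Topology.fpqc (fun S' f =>
    ∃ (M : Type) (_ : AddCommGroup M), Nonempty (Grp.mk (Red.bc f H) ≅ Grp.mk (Red.DS S' M))))
  (hH' : TwC.Locally (Spec (CommRingCat.of R)) TwC.Topology.fpqc (fun S' f =>
    ∃ (M : Type) (_ : AddCommGroup M), Nonempty (Grp.mk (Red.bc f H') ≅ Grp.mk (Red.DS S' M))))
  (i : H ⟶ G) [IsMonHom i] (i' : H' ⟶ G) [IsMonHom i'] [Mono i'.left]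
  (hcomm : ∀ (Y : Over (Spec (CommRingCat.of R))) (x : Y ⟶ H') (h : Y ⟶ H),
    (x ≫ i') * (h ≫ i) = (h ≫ i) * (x ≫ i'))
  (hpts : ∀ (Y : Over (Spec (CommRingCat.of R)))
    (_ : Y ⟶ Over.mk (Spec.map (CommRingCat.ofHom (Ideal.Quotient.mk J)))) (h : Y ⟶ H),
    ∃ h' : Y ⟶ H', h' ≫ i' = h ≫ i)

include hJ hH hH' hcomm hpts in
/-- a subgroup of multiplicative type factors through another one commuting with it as soon as it
does so modulo a nilpotent ideal. -/
theorem exists_factor_global : ∃ ψ : H ⟶ H', ψ ≫ i' = i := by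
  have hmono : Mono i' := (Over.forget _).mono_of_mono_map (by
    show Mono i'.left
    infer_instance)
  obtain ⟨K, B, g, hcov, hPQ⟩ := exists_spec_fpqc_family₂ _ _
    (fun S' S'' f q h => by
      obtain ⟨M, _, ⟨e⟩⟩ := h
      exact ⟨M, _, Groth.Agent.Lib.Helper15DSbc.nonempty_iso_bc f q H M e⟩)
    (fun S' S'' f q h => by
      obtain ⟨M, _, ⟨e⟩⟩ := h
      exact ⟨M, _, Groth.Agent.Lib.Helper15DSbc.nonempty_iso_bc f q H' M e⟩) hH hH'
  refine exists_factor_of_family G H H' i i' _ g hcov (fun k => ?_)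
  obtain ⟨⟨M, _, ⟨e⟩⟩, ⟨M', _, ⟨e'⟩⟩⟩ := hPQ k
  exact exists_factor_bc (B := ↑(B k)) J hJ (g k) G H H' i i' hcomm hpts M M' e e'

end Main

end Groth.Agent.Lib.Helper15HomLift
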