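-- helper15: local solutions of the conjugacy problem for homomorphisms out of a group of multiplicative type, their compatibility and properties
import Mathlib
import Groth.Agent.Lib.Helper15AvgSchB
import Groth.Agent.Lib.Helper15HomLiftC
set_option autoImplicit false
universe u
open CategoryTheory CategoryTheory.Limits AlgebraicGeometry MonoidalCategory
  CartesianMonoidalCategory MonObj GrpObj

namespace Groth.Agent.Lib.Helper15Avg

section UnitAffine

variable {S : Scheme.{u}} (G : Over S) [GrpObj G]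

/-- the unit section lands in an affine open of the group. -/
def UnitAff (S' : Scheme.{u}) (f : S' ⟶ S) : Prop :=
  ∃ W : G.left.Opens, IsAffineOpen W ∧ ∀ t : S', (1 : Over.mk f ⟶ G).left t ∈ W

lemma unitAff_comp (S' S'' : Scheme.{u}) (f : S' ⟶ S) (q : S'' ⟶ S') (h : UnitAff G S' f) :
    UnitAff G S'' (q ≫ f) := by
  obtain ⟨W, hW, h1⟩ := h
  refine ⟨W, hW, fun t => ?_⟩
  have e : (1 : Over.mk (q ≫ f) ⟶ G) =
      (Over.homMk q rfl : Over.mk (q ≫ f) ⟶ Over.mk f) ≫ (1 : Over.mk f ⟶ G) :=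
    (MonObj.comp_one _).symm
  rw [e, Over.comp_left, Scheme.Hom.comp_apply]
  exact h1 _

lemma locally_unitAff : TwC.Locally S TwC.Topology.fpqc (UnitAff G) := by
  refine ⟨S, 𝟙 S, inferInstance, inferInstance, ?_, ?_⟩
  · intro V hV
    refine ⟨V, hV.isCompact, ?_⟩
    simp
  · intro s
    obtain ⟨_, ⟨W, hW, rfl⟩, hsW, -⟩ := G.left.isBasis_affineOpens.exists_subset_of_mem_open
      (Set.mem_univ ((1 : Over.mk (𝟙 S) ⟶ G).left s)) isOpen_univ
    obtain ⟨W, rfl⟩ : ∃ W2 : G.left.Opens, W2 = W := ⟨W, rfl⟩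
    refine ⟨(1 : Over.mk (𝟙 S) ⟶ G).left ⁻¹ᵁ W, hsW, W, hW, fun t => ?_⟩
    have e : (1 : Over.mk (((1 : Over.mk (𝟙 S) ⟶ G).left ⁻¹ᵁ W).ι ≫ 𝟙 S) ⟶ G) =
        (Over.homMk ((1 : Over.mk (𝟙 S) ⟶ G).left ⁻¹ᵁ W).ι rfl :
          Over.mk (((1 : Over.mk (𝟙 S) ⟶ G).left ⁻¹ᵁ W).ι ≫ 𝟙 S) ⟶ Over.mk (𝟙 S)) ≫
            (1 : Over.mk (𝟙 S) ⟶ G) := (MonObj.comp_one _).symm
    rw [e, Over.comp_left, Scheme.Hom.comp_apply]
    exact t.2

end UnitAffine

section Family

variable {R : Type u} [CommRing R] (H G : Over (Spec (CommRingCat.of R))) [GrpObj H] [GrpObj G]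
  (hH : TwC.Locally (Spec (CommRingCat.of R)) TwC.Topology.fpqc (fun S' f =>
    ∃ (M : Type) (_ : AddCommGroup M), Nonempty (Grp.mk (Red.bc f H) ≅ Grp.mk (Red.DS S' M))))

include hH in
/-- an fpqc family of spectra of algebras over which `H` splits and the unit section of `G` lands
in an affine open. -/
theorem exists_family : ∃ (K : Type u) (B : K → Type u) (_ : ∀ k, CommRing (B k))
    (_ : ∀ k, Algebra R (B k)),
    Presieve.ofArrows (fun k => Spec (CommRingCat.of (B k)))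
      (fun k => Spec.map (CommRingCat.ofHom (algebraMap R (B k)))) ∈
        Scheme.fpqcPrecoverage (Spec (CommRingCat.of R)) ∧
    ∀ k, (∃ (M : Type) (_ : AddCommGroup M), Nonempty
        (Grp.mk (Red.bc (Spec.map (CommRingCat.ofHom (algebraMap R (B k)))) H) ≅
          Grp.mk (Red.DS (Spec (CommRingCat.of (B k))) M))) ∧
      ∃ W : G.left.Opens, IsAffineOpen W ∧
        ∀ t : Spec (CommRingCat.of (B k)), (1 : T R (B k) ⟶ G).left t ∈ W := by
  obtain ⟨K, B, g, hcov, hPQ⟩ := Groth.Agent.Lib.Helper15HomLift.exists_spec_fpqc_family₂ _ _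
    (fun S' S'' f q h => by
      obtain ⟨M, _, ⟨e⟩⟩ := h
      exact ⟨M, _, Groth.Agent.Lib.Helper15DSbc.nonempty_iso_bc f q H M e⟩)
    (unitAff_comp G) hH (locally_unitAff G)
  obtain ⟨ψ, hψ⟩ : ∃ ψ : ∀ k, R →+* B k, ∀ k, g k = Spec.map (CommRingCat.ofHom (ψ k)) :=
    ⟨fun k => (Spec.preimage (g k)).hom, fun k => by
      rw [CommRingCat.ofHom_hom, Spec.map_preimage]⟩
  obtain rfl : g = fun k => Spec.map (CommRingCat.ofHom (ψ k)) := funext hψ
  refine ⟨K, fun k => B k, fun k => inferInstance, fun k => (ψ k).toAlgebra, hcov, fun k => ?_⟩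
  exact hPQ k

end Family

section Local

variable {R : Type u} [CommRing R] (J : Ideal R) (hJ : J ^ 2 = ⊥)
  {H G : Over (Spec (CommRingCat.of R))} [GrpObj H] [GrpObj G]
  (u v : H ⟶ G) [IsMonHom u] [IsMonHom v]

/-- the extension of `J` to an algebra. -/
abbrev IB (B : Type u) [CommRing B] [Algebra R B] : Ideal B := J.map (algebraMap R B)

include hJ in
lemma IB_sq (B : Type u) [CommRing B] [Algebra R B] : IB J B * IB J B = ⊥ := by
  unfold IB
  rw [← Ideal.map_mul, ← pow_two, hJ, Ideal.map_bot]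

lemma IB_map {B B' : Type u} [CommRing B] [CommRing B'] [Algebra R B] [Algebra R B']
    (ψ : B →ₐ[R] B') : ∀ c ∈ IB J B, ψ c ∈ IB J B' := by
  intro c hc
  have h1 : (IB J B).map ψ.toRingHom = IB J B' := by
    unfold IB
    rw [Ideal.map_map]
    exact congrArg (fun f => Ideal.map f J) ψ.comp_algebraMap
  rw [← h1]
  exact Ideal.mem_map_of_mem _ hc

variable {J} in
lemma h0_B
    (h0 : ∀ (X : Over (Spec (CommRingCat.of R)))
      (_ : X ⟶ (Over.mk (Spec.map (CommRingCat.ofHom (Ideal.Quotient.mk J))) :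
        Over (Spec (CommRingCat.of R)))) (h : X ⟶ H), h ≫ u = h ≫ v)
    (B : Type u) [CommRing B] [Algebra R B] (X : Over (Spec (CommRingCat.of R)))
    (p : X ⟶ T R (B ⧸ IB J B)) (h : X ⟶ H) : h ≫ u = h ≫ v := by
  refine h0 X (p ≫ Over.homMk (Spec.map (CommRingCat.ofHom
    (Ideal.quotientMap (IB J B) (algebraMap R B) Ideal.le_comap_map))) ?_) h
  change Spec.map _ ≫ Spec.map _ = Spec.map _
  rw [← Spec.map_comp, ← CommRingCat.ofHom_comp, Ideal.quotientMap_comp_mk]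

/-- `g` is a local solution over `B`: the average for some splitting of `H` over `B`. -/
def IsLocSol (B : Type u) [CommRing B] [Algebra R B] (g : T R B ⟶ G) : Prop :=
  ∃ (M : Type) (_ : AddCommGroup M) (α : Red.DS (Spec (CommRingCat.of B)) M ⟶
      Red.bc (Spec.map (CommRingCat.ofHom (algebraMap R B))) H) (_ : IsMonHom α) (_ : IsIso α),
    IsAvg ((famE H α).comp (natHom u)) ((famE H α).comp (natHom v)) (IB J B) (IB_sq J hJ B) g

variable {J} in
include hJ in
/-- existence of local solutions. -/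
theorem exists_isLocSol
    (h0 : ∀ (X : Over (Spec (CommRingCat.of R)))
      (_ : X ⟶ (Over.mk (Spec.map (CommRingCat.ofHom (Ideal.Quotient.mk J))) :
        Over (Spec (CommRingCat.of R)))) (h : X ⟶ H), h ≫ u = h ≫ v)
    (B : Type u) [CommRing B] [Algebra R B] (M : Type) [AddCommGroup M]
    (e : Grp.mk (Red.bc (Spec.map (CommRingCat.ofHom (algebraMap R B))) H) ≅
      Grp.mk (Red.DS (Spec (CommRingCat.of B)) M))
    {W : G.left.Opens} (hW : IsAffineOpen W)
    (hW1 : ∀ t : Spec (CommRingCat.of B), (1 : T R B ⟶ G).left t ∈ W) :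
    ∃ g : T R B ⟶ G, IsLocSol J hJ u v B g := by
  obtain ⟨α, hα⟩ : ∃ α : Red.DS (Spec (CommRingCat.of B)) M ⟶
      Red.bc (Spec.map (CommRingCat.ofHom (algebraMap R B))) H, α = e.inv.hom.hom := ⟨_, rfl⟩
  have hαm : IsMonHom α := by rw [hα]; infer_instance
  have hαi : IsIso α := by
    refine ⟨e.hom.hom.hom, ?_, ?_⟩
    · rw [hα]
      have := e.inv_hom_id
      exact congr($(this).hom.hom)
    · rw [hα]
      have := e.hom_inv_id
      exact congr($(this).hom.hom)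
  obtain ⟨g, hg⟩ := exists_isAvg u v (IB J B) (IB_sq J hJ B) α (h0_B u v h0 B) hW hW1
  exact ⟨g, M, _, α, hαm, hαi, hg⟩

/-- a more general comparison: local solutions pulled back to a common algebra agree. -/
theorem IsLocSol.compat' {B₁ B₂ C : Type u} [CommRing B₁] [CommRing B₂] [CommRing C]
    [Algebra R B₁] [Algebra R B₂] [Algebra R C] {g₁ : T R B₁ ⟶ G} {g₂ : T R B₂ ⟶ G}
    (h₁ : IsLocSol J hJ u v B₁ g₁) (h₂ : IsLocSol J hJ u v B₂ g₂)
    (ψ₁ : B₁ →ₐ[R] C) (ψ₂ : B₂ →ₐ[R] C) : tm ψ₁ ≫ g₁ = tm ψ₂ ≫ g₂ := by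
  obtain ⟨M₁, _, α₁, _, _, k₁⟩ := h₁
  obtain ⟨M₂, _, α₂, _, _, k₂⟩ := h₂
  have k₁' := k₁.baseChange (ψ := ψ₁) (IB J C) (IB_sq J hJ C) (IB_map J ψ₁)
  have k₂' := k₂.baseChange (ψ := ψ₂) (IB J C) (IB_sq J hJ C) (IB_map J ψ₂)
  obtain ⟨Θ, rel, hΘ⟩ := exists_theta ((famE H α₁).restrict ψ₁) ((famE H α₂).restrict ψ₂)
    (fun D _ _ _ _ => by
      letI := algOf ψ₁ D
      haveI := towerOf ψ₁ D
      exact famE_bijective H α₁ D)
    (fun D _ _ _ _ => by
      letI := algOf ψ₂ D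
      haveI := towerOf ψ₂ D
      exact famE_bijective H α₂ D)
  have k₁'' := k₁'.transfer (U' := ((famE H α₂).restrict ψ₂).comp (natHom u))
    (V' := ((famE H α₂).restrict ψ₂).comp (natHom v)) Θ
    (fun D _ _ _ _ χ' => congrArg ((natHom u).app D) (rel D χ'))
    (fun D _ _ _ _ χ' => congrArg ((natHom v).app D) (rel D χ')) hΘ
  exact k₁''.unique k₂'

/-- a local solution conjugates `u` into `v` on all points over algebras over `B`. -/
theorem IsLocSol.solves {B : Type u} [CommRing B] [Algebra R B] {g : T R B ⟶ G}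
    (h : IsLocSol J hJ u v B g) (D : Type u) [CommRing D] [Algebra R D] [Algebra B D]
    [IsScalarTower R B D] (p : T R D ⟶ H) :
    p ≫ v = (tm (IsScalarTower.toAlgHom R B D) ≫ g) * (p ≫ u) *
      (tm (IsScalarTower.toAlgHom R B D) ≫ g)⁻¹ := by
  obtain ⟨M, _, α, _, _, k⟩ := h
  obtain ⟨χ, rfl⟩ := (famE_bijective H α D).2 p
  exact k.solves D χ

/-- a local solution is trivial modulo `J`. -/
theorem IsLocSol.mod {B : Type u} [CommRing B] [Algebra R B] {g : T R B ⟶ G}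
    (h : IsLocSol J hJ u v B g) : tm (Ideal.Quotient.mkₐ R (IB J B)) ≫ g = 1 := by
  obtain ⟨M, _, α, _, _, k⟩ := h
  exact k.mod

end Local

end Groth.Agent.Lib.Helper15Avg
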