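-- helper15: fpqc gluing of the local conjugating points; homomorphisms out of a group of multiplicative type agreeing modulo a square-zero ideal are conjugate
import Mathlib
import Groth.Agent.Lib.Helper15AvgGlueA
import Groth.Agent.Lib.Helper15NormCentral
import Groth.Agent.Lib.Helper10FpqcColim
set_option autoImplicit false
universe u
open CategoryTheory CategoryTheory.Limits AlgebraicGeometry MonoidalCategory
  CartesianMonoidalCategory MonObj GrpObj

namespace Groth.Agent.Lib.Helper15Avg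

section AffLocal

variable {R : Type u} [CommRing R] (B : Type u) [CommRing B] [Algebra R B]

/-- two morphisms out of a scheme over `Spec B`, viewed over `Spec R`, agree as soon as they agree
on all points with values in algebras over `B`. -/
theorem hom_ext_of_alg_points (Y' : Over (Spec (CommRingCat.of B)))
    {Z : Over (Spec (CommRingCat.of R))}
    (φ₁ φ₂ : (Over.map (Spec.map (CommRingCat.ofHom (algebraMap R B)))).obj Y' ⟶ Z)
    (h : ∀ (D : Type u) [CommRing D] [Algebra R D] [Algebra B D] [IsScalarTower R B D]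
      (jj : T R D ⟶ (Over.map (Spec.map (CommRingCat.ofHom (algebraMap R B)))).obj Y'),
      jj ≫ φ₁ = jj ≫ φ₂) : φ₁ = φ₂ := by
  apply Over.OverMorphism.ext
  apply Scheme.hom_ext_of_forall
  intro y
  obtain ⟨_, ⟨O, hO, rfl⟩, hyO, -⟩ := Y'.left.isBasis_affineOpens.exists_subset_of_mem_open
    (Set.mem_univ y) isOpen_univ
  obtain ⟨O, rfl⟩ : ∃ O2 : Y'.left.Opens, O2 = O := ⟨O, rfl⟩
  have hOa : IsAffineOpen O := hO
  refine ⟨O, hyO, ?_⟩
  rw [← cancel_epi hOa.isoSpec.inv, IsAffineOpen.isoSpec_inv_ι_assoc,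
    IsAffineOpen.isoSpec_inv_ι_assoc]
  obtain ⟨ψ, hψ⟩ : ∃ ψ : B →+* Γ(Y'.left, O), hOa.fromSpec ≫ Y'.hom =
      Spec.map (CommRingCat.ofHom ψ) :=
    ⟨(Spec.preimage (hOa.fromSpec ≫ Y'.hom)).hom, by
      rw [CommRingCat.ofHom_hom, Spec.map_preimage]⟩
  letI : Algebra B Γ(Y'.left, O) := ψ.toAlgebra
  letI : Algebra R Γ(Y'.left, O) := (ψ.comp (algebraMap R B)).toAlgebra
  haveI : IsScalarTower R B Γ(Y'.left, O) := IsScalarTower.of_algebraMap_eq (fun _ => rfl)
  obtain ⟨jj, hjj⟩ : ∃ jj : T R Γ(Y'.left, O) ⟶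
      (Over.map (Spec.map (CommRingCat.ofHom (algebraMap R B)))).obj Y', jj.left = hOa.fromSpec :=
    ⟨Over.homMk hOa.fromSpec (by
      change hOa.fromSpec ≫ Y'.hom ≫ Spec.map _ = Spec.map _
      rw [← Category.assoc, hψ, ← Spec.map_comp, ← CommRingCat.ofHom_comp]), rfl⟩
  have key := congrArg (fun z => z.left) (h Γ(Y'.left, O) jj)
  simp only [Over.comp_left, hjj] at key
  exact key

end AffLocal



section Compat

open TensorProduct

variable {R : Type u} [CommRing R] (J : Ideal R) (hJ : J ^ 2 = ⊥)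
  {H G : Over (Spec (CommRingCat.of R))} [GrpObj H] [GrpObj G]
  (u v : H ⟶ G) [IsMonHom u] [IsMonHom v]

set_option maxHeartbeats 400000 in
/-- compatibility of local solutions on overlaps. -/
theorem IsLocSol.compat_pullback {B₁ B₂ : Type u} [CommRing B₁] [CommRing B₂]
    [Algebra R B₁] [Algebra R B₂] {g₁ : T R B₁ ⟶ G} {g₂ : T R B₂ ⟶ G}
    (h₁ : IsLocSol J hJ u v B₁ g₁) (h₂ : IsLocSol J hJ u v B₂ g₂) :
    pullback.fst (Spec.map (CommRingCat.ofHom (algebraMap R B₁)))
      (Spec.map (CommRingCat.ofHom (algebraMap R B₂))) ≫ g₁.left =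
        pullback.snd (Spec.map (CommRingCat.ofHom (algebraMap R B₁)))
          (Spec.map (CommRingCat.ofHom (algebraMap R B₂))) ≫ g₂.left := by
  have h1 := congrArg (fun z => z.left) (h₁.compat' J hJ u v h₂
    (Algebra.TensorProduct.includeLeft : B₁ →ₐ[R] B₁ ⊗[R] B₂)
    (Algebra.TensorProduct.includeRight : B₂ →ₐ[R] B₁ ⊗[R] B₂))
  have h2 : Spec.map (CommRingCat.ofHom
      (Algebra.TensorProduct.includeLeft : B₁ →ₐ[R] B₁ ⊗[R] B₂).toRingHom) ≫ g₁.left =
      Spec.map (CommRingCat.ofHom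
        (Algebra.TensorProduct.includeRight : B₂ →ₐ[R] B₁ ⊗[R] B₂).toRingHom) ≫ g₂.left := h1
  rw [← pullbackSpecIso_hom_fst, ← pullbackSpecIso_hom_snd, Category.assoc, Category.assoc]
  exact congrArg (fun z => (pullbackSpecIso R B₁ B₂).hom ≫ z) h2

end Compat



section Glue

variable {R : Type u} [CommRing R] {G : Over (Spec (CommRingCat.of R))}
  {K : Type u} (B : K → Type u) [∀ k, CommRing (B k)] [∀ k, Algebra R (B k)]
  (hcov : Presieve.ofArrows (fun k => Spec (CommRingCat.of (B k)))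
      (fun k => Spec.map (CommRingCat.ofHom (algebraMap R (B k)))) ∈
        Scheme.fpqcPrecoverage (Spec (CommRingCat.of R)))
  (gl : ∀ k, T R (B k) ⟶ G)
  (hcompat : ∀ k l, pullback.fst (Spec.map (CommRingCat.ofHom (algebraMap R (B k))))
      (Spec.map (CommRingCat.ofHom (algebraMap R (B l)))) ≫ (gl k).left =
        pullback.snd (Spec.map (CommRingCat.ofHom (algebraMap R (B k))))
          (Spec.map (CommRingCat.ofHom (algebraMap R (B l)))) ≫ (gl l).left)

include hcov hcompat in
/-- gluing compatible local points of `G` along an fpqc family of spectra. -/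
theorem exists_glued_point : ∃ g : 𝟙_ (Over (Spec (CommRingCat.of R))) ⟶ G,
    ∀ (k : K) (D : Type u) [CommRing D] [Algebra R D] [Algebra (B k) D]
      [IsScalarTower R (B k) D], toUnit (T R D) ≫ g =
        tm (IsScalarTower.toAlgHom R (B k) D) ≫ gl k := by
  obtain ⟨t, ht⟩ := Groth.Agent.Lib.Helper10.FpqcColim.exists_glue Scheme.fpqcPrecoverage G.left
    (fun k => Spec (CommRingCat.of (B k)))
    (fun k => Spec.map (CommRingCat.ofHom (algebraMap R (B k)))) hcov (fun k => (gl k).left)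
    hcompat
  have htG : t ≫ G.hom = 𝟙 _ := by
    refine Groth.Agent.Lib.Helper10.FpqcColim.hom_ext_of_cover Scheme.fpqcPrecoverage
      (fun k => Spec (CommRingCat.of (B k)))
      (fun k => Spec.map (CommRingCat.ofHom (algebraMap R (B k)))) hcov _ _ (fun k => ?_)
    rw [← Category.assoc, ht, Category.comp_id]
    exact Over.w (gl k)
  obtain ⟨g, hg⟩ : ∃ g : 𝟙_ (Over (Spec (CommRingCat.of R))) ⟶ G, g.left = t :=
    ⟨Over.homMk t htG, rfl⟩
  refine ⟨g, ?_⟩
  intro k D _ _ _ _
  apply Over.OverMorphism.ext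
  rw [Over.comp_left, Over.comp_left, hg, ← ht k, tm_left]
  change Spec.map _ ≫ t = Spec.map _ ≫ Spec.map _ ≫ t
  rw [← Category.assoc, ← Spec.map_comp, ← CommRingCat.ofHom_comp]
  congr 3
  exact (IsScalarTower.toAlgHom R (B k) D).comp_algebraMap.symm

end Glue


section Main

variable {R : Type u} [CommRing R] (J : Ideal R) (hJ : J ^ 2 = ⊥)
  (H G : Over (Spec (CommRingCat.of R))) [GrpObj H] [GrpObj G]
  (hH : TwC.Locally (Spec (CommRingCat.of R)) TwC.Topology.fpqc (fun S' f =>
    ∃ (M : Type) (_ : AddCommGroup M), Nonempty (Grp.mk (Red.bc f H) ≅ Grp.mk (Red.DS S' M))))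
  (u v : H ⟶ G) [IsMonHom u] [IsMonHom v]
  (h0 : ∀ (X : Over (Spec (CommRingCat.of R)))
    (_ : X ⟶ (Over.mk (Spec.map (CommRingCat.ofHom (Ideal.Quotient.mk J))) :
      Over (Spec (CommRingCat.of R)))) (h : X ⟶ H), h ≫ u = h ≫ v)

/-- a point with values in `D` of the closed subscheme defined by `J` forces `J` to die in `D`. -/
lemma algebraMap_eq_zero_of_point (D : Type u) [CommRing D] [Algebra R D]
    (p : T R D ⟶ (Over.mk (Spec.map (CommRingCat.ofHom (Ideal.Quotient.mk J))) :
      Over (Spec (CommRingCat.of R)))) (x : R) (hx : x ∈ J) : algebraMap R D x = 0 := by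
  obtain ⟨pl, hpl⟩ : ∃ pl : Spec (CommRingCat.of D) ⟶ Spec (CommRingCat.of (R ⧸ J)), pl = p.left :=
    ⟨_, rfl⟩
  have h1 : pl ≫ Spec.map (CommRingCat.ofHom (Ideal.Quotient.mk J)) =
      Spec.map (CommRingCat.ofHom (algebraMap R D)) := by
    rw [hpl]
    exact Over.w p
  rw [← Spec.map_preimage pl, ← Spec.map_comp] at h1
  have h2 := Spec.map_injective h1
  have h3 := congrArg (fun f => f.hom x) h2
  simp only [CommRingCat.hom_comp, CommRingCat.hom_ofHom, RingHom.comp_apply] at h3
  rw [← h3, Ideal.Quotient.eq_zero_iff_mem.mpr hx, map_zero]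

include hJ hH h0 in
/-- two homomorphisms out of a group of multiplicative type which agree modulo an ideal of square
zero are conjugate by a point which is trivial modulo that ideal. -/
theorem exists_conj : ∃ g : 𝟙_ (Over (Spec (CommRingCat.of R))) ⟶ G,
    toUnit (Over.mk (Spec.map (CommRingCat.ofHom (Ideal.Quotient.mk J))) :
      Over (Spec (CommRingCat.of R))) ≫ g = 1 ∧
    v = (toUnit H ≫ g) * u * (toUnit H ≫ g)⁻¹ := by
  obtain ⟨K, B, _, _, hcov, hK⟩ := exists_family H G hH
  have hex : ∀ k, ∃ g : T R (B k) ⟶ G, IsLocSol J hJ u v (B k) g := by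
    intro k
    obtain ⟨⟨M, _, ⟨e⟩⟩, W, hW, hW1⟩ := hK k
    exact exists_isLocSol hJ u v h0 (B k) M e hW hW1
  choose gl hgl using hex
  obtain ⟨g, hres⟩ := exists_glued_point B hcov gl
    (fun k l => (hgl k).compat_pullback J hJ u v (hgl l))
  refine ⟨g, ?_, ?_⟩
  · refine Groth.Agent.Lib.Helper15NormCentral.hom_ext_of_fpqc_family _ _
      (fun k => Spec.map (CommRingCat.ofHom (algebraMap R (B k)))) hcov (fun k Y' w => ?_)
    refine hom_ext_of_alg_points (B k) Y' _ _ (fun D _ _ _ _ jj => ?_)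
    rw [MonObj.comp_one, MonObj.comp_one, ← Category.assoc, ← Category.assoc,
      toUnit_unique ((jj ≫ w) ≫ toUnit _) (toUnit (T R D)), hres k D]
    have hker : ∀ c ∈ IB J (B k), (IsScalarTower.toAlgHom R (B k) D) c = 0 := by
      intro c hc
      have hle : IB J (B k) ≤ RingHom.ker (algebraMap (B k) D) := by
        unfold IB
        rw [Ideal.map_le_iff_le_comap]
        intro x hx
        rw [Ideal.mem_comap, RingHom.mem_ker, ← IsScalarTower.algebraMap_apply]
        exact algebraMap_eq_zero_of_point J D (jj ≫ w) x hx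
      exact hle hc
    have hfac : IsScalarTower.toAlgHom R (B k) D =
        (Ideal.Quotient.liftₐ (IB J (B k)) (IsScalarTower.toAlgHom R (B k) D) hker).comp
          (Ideal.Quotient.mkₐ R (IB J (B k))) := (Ideal.Quotient.liftₐ_comp _ _ _).symm
    rw [hfac, ← tm_comp, Category.assoc, (hgl k).mod, MonObj.comp_one]
  · refine Groth.Agent.Lib.Helper15NormCentral.hom_ext_of_fpqc_family _ _
      (fun k => Spec.map (CommRingCat.ofHom (algebraMap R (B k)))) hcov (fun k Y' w => ?_)
    refine hom_ext_of_alg_points (B k) Y' _ _ (fun D _ _ _ _ jj => ?_)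
    rw [← Category.assoc, ← Category.assoc, MonObj.comp_mul, MonObj.comp_mul, GrpObj.comp_inv,
      ← Category.assoc, toUnit_unique ((jj ≫ w) ≫ toUnit _) (toUnit (T R D)), hres k D]
    exact (hgl k).solves J hJ u v D (jj ≫ w)

end Main

end Groth.Agent.Lib.Helper15Avg
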