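-- helper15: local solutions of the conjugacy problem over algebras in which the extension of the ideal has square zero (relative form)
import Mathlib
import Groth.Agent.Lib.Helper15AvgGlueA
set_option autoImplicit false
universe u
open CategoryTheory CategoryTheory.Limits AlgebraicGeometry MonoidalCategory
  CartesianMonoidalCategory MonObj GrpObj

namespace Groth.Agent.Lib.Helper15Avg

section LocalR

variable {R : Type u} [CommRing R] (I : Ideal R)
  {H G : Over (Spec (CommRingCat.of R))} [GrpObj H] [GrpObj G]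
  (u v : H ⟶ G) [IsMonHom u] [IsMonHom v]

/-- `g` is a local solution over `B`, an algebra in which the extension of `I` has square zero:
the average for some splitting of `H` over `B`. -/
def IsLocSolR (B : Type u) [CommRing B] [Algebra R B] (hB : IB I B * IB I B = ⊥)
    (g : T R B ⟶ G) : Prop :=
  ∃ (M : Type) (_ : AddCommGroup M) (α : Red.DS (Spec (CommRingCat.of B)) M ⟶
      Red.bc (Spec.map (CommRingCat.ofHom (algebraMap R B))) H) (_ : IsMonHom α) (_ : IsIso α),
    IsAvg ((famE H α).comp (natHom u)) ((famE H α).comp (natHom v)) (IB I B) hB g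

variable {I} in
/-- existence of local solutions. -/
theorem exists_isLocSolR
    (h0 : ∀ (X : Over (Spec (CommRingCat.of R)))
      (_ : X ⟶ (Over.mk (Spec.map (CommRingCat.ofHom (Ideal.Quotient.mk I))) :
        Over (Spec (CommRingCat.of R)))) (h : X ⟶ H), h ≫ u = h ≫ v)
    (B : Type u) [CommRing B] [Algebra R B] (hB : IB I B * IB I B = ⊥)
    (M : Type) [AddCommGroup M]
    (e : Grp.mk (Red.bc (Spec.map (CommRingCat.ofHom (algebraMap R B))) H) ≅
      Grp.mk (Red.DS (Spec (CommRingCat.of B)) M))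
    {W : G.left.Opens} (hW : IsAffineOpen W)
    (hW1 : ∀ t : Spec (CommRingCat.of B), (1 : T R B ⟶ G).left t ∈ W) :
    ∃ g : T R B ⟶ G, IsLocSolR I u v B hB g := by
  obtain ⟨α, hα⟩ : ∃ α : Red.DS (Spec (CommRingCat.of B)) M ⟶
      Red.bc (Spec.map (CommRingCat.ofHom (algebraMap R B))) H, α = e.inv.hom.hom := ⟨_, rfl⟩
  have hαm : IsMonHom α := by rw [hα]; infer_instance
  have hαi : IsIso α := by
    refine ⟨e.hom.hom.hom, ?_, ?_⟩
    · rw [hα]
      have := e.inv_hom_id
      exact congr($(this).hom.hom)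
    · rw [hα]
      have := e.hom_inv_id
      exact congr($(this).hom.hom)
  obtain ⟨g, hg⟩ := exists_isAvg u v (IB I B) hB α (h0_B u v h0 B) hW hW1
  exact ⟨g, M, _, α, hαm, hαi, hg⟩

variable {I u v} in
/-- local solutions pulled back to a common algebra agree. -/
theorem IsLocSolR.compat' {B₁ B₂ C : Type u} [CommRing B₁] [CommRing B₂] [CommRing C]
    [Algebra R B₁] [Algebra R B₂] [Algebra R C] {hB₁ : IB I B₁ * IB I B₁ = ⊥}
    {hB₂ : IB I B₂ * IB I B₂ = ⊥} (hC : IB I C * IB I C = ⊥)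
    {g₁ : T R B₁ ⟶ G} {g₂ : T R B₂ ⟶ G}
    (h₁ : IsLocSolR I u v B₁ hB₁ g₁) (h₂ : IsLocSolR I u v B₂ hB₂ g₂)
    (ψ₁ : B₁ →ₐ[R] C) (ψ₂ : B₂ →ₐ[R] C) : tm ψ₁ ≫ g₁ = tm ψ₂ ≫ g₂ := by
  obtain ⟨M₁, _, α₁, _, _, k₁⟩ := h₁
  obtain ⟨M₂, _, α₂, _, _, k₂⟩ := h₂
  have k₁' := k₁.baseChange (ψ := ψ₁) (IB I C) hC (IB_map I ψ₁)
  have k₂' := k₂.baseChange (ψ := ψ₂) (IB I C) hC (IB_map I ψ₂)
  obtain ⟨Θ, rel, hΘ⟩ := exists_theta ((famE H α₁).restrict ψ₁) ((famE H α₂).restrict ψ₂)
    (fun D _ _ _ _ => by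
      letI := algOf ψ₁ D
      haveI := towerOf ψ₁ D
      exact famE_bijective H α₁ D)
    (fun D _ _ _ _ => by
      letI := algOf ψ₂ D
      haveI := towerOf ψ₂ D
      exact famE_bijective H α₂ D)
  have k₁'' := k₁'.transfer (U' := ((famE H α₂).restrict ψ₂).comp (natHom u))
    (V' := ((famE H α₂).restrict ψ₂).comp (natHom v)) Θ
    (fun D _ _ _ _ χ' => congrArg ((natHom u).app D) (rel D χ'))
    (fun D _ _ _ _ χ' => congrArg ((natHom v).app D) (rel D χ')) hΘ
  exact k₁''.unique k₂'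

variable {I u v} in
/-- a local solution conjugates `u` into `v` on all points over algebras over `B`. -/
theorem IsLocSolR.solves {B : Type u} [CommRing B] [Algebra R B] {hB : IB I B * IB I B = ⊥}
    {g : T R B ⟶ G} (h : IsLocSolR I u v B hB g) (D : Type u) [CommRing D] [Algebra R D]
    [Algebra B D] [IsScalarTower R B D] (p : T R D ⟶ H) :
    p ≫ v = (tm (IsScalarTower.toAlgHom R B D) ≫ g) * (p ≫ u) *
      (tm (IsScalarTower.toAlgHom R B D) ≫ g)⁻¹ := by
  obtain ⟨M, _, α, _, _, k⟩ := h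
  obtain ⟨χ, rfl⟩ := (famE_bijective H α D).2 p
  exact k.solves D χ

variable {I u v} in
/-- a local solution is trivial modulo `I`. -/
theorem IsLocSolR.mod {B : Type u} [CommRing B] [Algebra R B] {hB : IB I B * IB I B = ⊥}
    {g : T R B ⟶ G} (h : IsLocSolR I u v B hB g) :
    tm (Ideal.Quotient.mkₐ R (IB I B)) ≫ g = 1 := by
  obtain ⟨M, _, α, _, _, k⟩ := h
  exact k.mod

end LocalR

section Quot

variable {R : Type u} [CommRing R] (I K : Ideal R) (hIK : I ^ 2 ≤ K)

include hIK in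
/-- over an algebra over `R ⧸ K` the extension of `I` has square zero as soon as `I ^ 2 ≤ K`. -/
lemma IB_sq_of_tower (B : Type u) [CommRing B] [Algebra R B] [Algebra (R ⧸ K) B]
    [IsScalarTower R (R ⧸ K) B] : IB I B * IB I B = ⊥ := by
  unfold IB
  rw [← Ideal.map_mul, ← pow_two, eq_bot_iff]
  refine (Ideal.map_mono hIK).trans ?_
  rw [Ideal.map_le_iff_le_comap]
  intro x hx
  rw [Ideal.mem_comap, Ideal.mem_bot, IsScalarTower.algebraMap_apply R (R ⧸ K) B,
    Ideal.Quotient.algebraMap_eq, Ideal.Quotient.eq_zero_iff_mem.mpr hx, map_zero]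

end Quot

end Groth.Agent.Lib.Helper15Avg
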