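-- helper15: overlaps and gluing of local conjugating points relative to an intermediate algebra
import Mathlib
import Groth.Agent.Lib.Helper15AvgRelA
import Groth.Agent.Lib.Helper15AvgGlueB
set_option autoImplicit false
universe u
open CategoryTheory CategoryTheory.Limits AlgebraicGeometry MonoidalCategory
  CartesianMonoidalCategory MonObj GrpObj

namespace Groth.Agent.Lib.Helper15Avg

section CompatR

open TensorProduct

variable {R : Type u} [CommRing R] (I : Ideal R)
  {H G : Over (Spec (CommRingCat.of R))} [GrpObj H] [GrpObj G]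
  (u v : H ⟶ G) [IsMonHom u] [IsMonHom v]
  (A : Type u) [CommRing A] [Algebra R A]

variable {I u v} in
/-- compatibility of local solutions on overlaps relative to an intermediate algebra. -/
theorem IsLocSolR.compat_pullback {B₁ B₂ : Type u} [CommRing B₁] [CommRing B₂]
    [Algebra R B₁] [Algebra R B₂] [Algebra A B₁] [Algebra A B₂] [IsScalarTower R A B₁]
    [IsScalarTower R A B₂] {hB₁ : IB I B₁ * IB I B₁ = ⊥} {hB₂ : IB I B₂ * IB I B₂ = ⊥}
    (hC : IB I (B₁ ⊗[A] B₂) * IB I (B₁ ⊗[A] B₂) = ⊥)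
    {g₁ : T R B₁ ⟶ G} {g₂ : T R B₂ ⟶ G}
    (h₁ : IsLocSolR I u v B₁ hB₁ g₁) (h₂ : IsLocSolR I u v B₂ hB₂ g₂) :
    pullback.fst (Spec.map (CommRingCat.ofHom (algebraMap A B₁)))
      (Spec.map (CommRingCat.ofHom (algebraMap A B₂))) ≫ g₁.left =
        pullback.snd (Spec.map (CommRingCat.ofHom (algebraMap A B₁)))
          (Spec.map (CommRingCat.ofHom (algebraMap A B₂))) ≫ g₂.left := by
  have h1 := congrArg (fun z => z.left) (h₁.compat' hC h₂
    (Algebra.TensorProduct.includeLeft : B₁ →ₐ[R] B₁ ⊗[A] B₂)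
    ((Algebra.TensorProduct.includeRight : B₂ →ₐ[A] B₁ ⊗[A] B₂).restrictScalars R))
  have h2 : Spec.map (CommRingCat.ofHom
      (Algebra.TensorProduct.includeLeft : B₁ →ₐ[A] B₁ ⊗[A] B₂).toRingHom) ≫ g₁.left =
      Spec.map (CommRingCat.ofHom
        (Algebra.TensorProduct.includeRight : B₂ →ₐ[A] B₁ ⊗[A] B₂).toRingHom) ≫ g₂.left := h1
  rw [← pullbackSpecIso_hom_fst, ← pullbackSpecIso_hom_snd, Category.assoc, Category.assoc]
  exact congrArg (fun z => (pullbackSpecIso A B₁ B₂).hom ≫ z) h2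

end CompatR

section GlueR

variable {R : Type u} [CommRing R] {G : Over (Spec (CommRingCat.of R))}
  (A : Type u) [CommRing A] [Algebra R A]
  {K : Type u} (B : K → Type u) [∀ k, CommRing (B k)] [∀ k, Algebra R (B k)]
  [∀ k, Algebra A (B k)] [∀ k, IsScalarTower R A (B k)]
  (hcov : Presieve.ofArrows (fun k => Spec (CommRingCat.of (B k)))
      (fun k => Spec.map (CommRingCat.ofHom (algebraMap A (B k)))) ∈
        Scheme.fpqcPrecoverage (Spec (CommRingCat.of A)))
  (gl : ∀ k, T R (B k) ⟶ G)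
  (hcompat : ∀ k l, pullback.fst (Spec.map (CommRingCat.ofHom (algebraMap A (B k))))
      (Spec.map (CommRingCat.ofHom (algebraMap A (B l)))) ≫ (gl k).left =
        pullback.snd (Spec.map (CommRingCat.ofHom (algebraMap A (B k))))
          (Spec.map (CommRingCat.ofHom (algebraMap A (B l)))) ≫ (gl l).left)

include hcov hcompat in
/-- gluing compatible local points of `G` along an fpqc family of spectra over `Spec A`. -/
theorem exists_glued_point_rel : ∃ g : T R A ⟶ G,
    ∀ k : K, tm (IsScalarTower.toAlgHom R A (B k)) ≫ g = gl k := by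
  obtain ⟨t, ht⟩ := Groth.Agent.Lib.Helper10.FpqcColim.exists_glue Scheme.fpqcPrecoverage G.left
    (fun k => Spec (CommRingCat.of (B k)))
    (fun k => Spec.map (CommRingCat.ofHom (algebraMap A (B k)))) hcov (fun k => (gl k).left)
    hcompat
  have htG : t ≫ G.hom = Spec.map (CommRingCat.ofHom (algebraMap R A)) := by
    refine Groth.Agent.Lib.Helper10.FpqcColim.hom_ext_of_cover Scheme.fpqcPrecoverage
      (fun k => Spec (CommRingCat.of (B k)))
      (fun k => Spec.map (CommRingCat.ofHom (algebraMap A (B k)))) hcov _ _ (fun k => ?_)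
    rw [← Category.assoc, ht, ← Spec.map_comp, ← CommRingCat.ofHom_comp,
      ← IsScalarTower.algebraMap_eq]
    exact Over.w (gl k)
  obtain ⟨g, hg⟩ : ∃ g : T R A ⟶ G, g.left = t := ⟨Over.homMk t htG, rfl⟩
  refine ⟨g, fun k => ?_⟩
  apply Over.OverMorphism.ext
  rw [Over.comp_left, hg, ← ht k, tm_left]
  rfl

end GlueR

end Groth.Agent.Lib.Helper15Avg
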