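-- helper15: fpqc families of spectra over an intermediate algebra over which a group of multiplicative type splits and the unit section lies in an affine open
import Mathlib
import Groth.Agent.Lib.Helper15AvgRelB
set_option autoImplicit false
universe u
open CategoryTheory CategoryTheory.Limits AlgebraicGeometry MonoidalCategory
  CartesianMonoidalCategory MonObj GrpObj

namespace Groth.Agent.Lib.Helper15Avg

section FamilyBC

variable {S T : Scheme.{u}} (jT : T ⟶ S)

/-- an fpqc family over `S` whose members satisfy two properties stable under base change gives an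
fpqc family of spectra over any `T ⟶ S` with the same properties. -/
theorem exists_spec_family_bc (P Q : ∀ (S' : Scheme.{u}), (S' ⟶ S) → Prop)
    (hPs : ∀ (S' S'' : Scheme.{u}) (f : S' ⟶ S) (q : S'' ⟶ S'), P S' f → P S'' (q ≫ f))
    (hQs : ∀ (S' S'' : Scheme.{u}) (f : S' ⟶ S) (q : S'' ⟶ S'), Q S' f → Q S'' (q ≫ f))
    {K₀ : Type u} (S₀ : K₀ → Scheme.{u}) (g₀ : ∀ k, S₀ k ⟶ S)
    (hcov₀ : Presieve.ofArrows S₀ g₀ ∈ Scheme.fpqcPrecoverage S)
    (hPQ₀ : ∀ k, P (S₀ k) (g₀ k) ∧ Q (S₀ k) (g₀ k)) :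
    ∃ (K : Type u) (B : K → CommRingCat.{u}) (φ : ∀ k, Spec (B k) ⟶ T),
      Presieve.ofArrows (fun k => Spec (B k)) φ ∈ Scheme.fpqcPrecoverage T ∧
        ∀ k, P (Spec (B k)) (φ k ≫ jT) ∧ Q (Spec (B k)) (φ k ≫ jT) := by
  have h1 : Presieve.ofArrows (fun k => pullback (g₀ k) jT) (fun k => pullback.snd (g₀ k) jT) ∈
      Scheme.fpqcPrecoverage T := by
    rw [Presieve.ofArrows_pullback]
    exact Precoverage.pullbackArrows_mem jT hcov₀
  have h2 : ∀ k : K₀, Presieve.ofArrows (pullback (g₀ k) jT).affineOpenCover.openCover.X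
      (pullback (g₀ k) jT).affineOpenCover.openCover.f ∈
        Scheme.fpqcPrecoverage (pullback (g₀ k) jT) :=
    fun k => Scheme.zariskiPrecoverage_le_fpqcPrecoverage _
      (pullback (g₀ k) jT).affineOpenCover.openCover.mem₀
  have h3 := Precoverage.comp_mem_coverings (J := Scheme.fpqcPrecoverage.{u})
    (fun k => pullback.snd (g₀ k) jT) h1
    (fun k j => (pullback (g₀ k) jT).affineOpenCover.openCover.f j) h2
  refine ⟨Σ k : K₀, (pullback (g₀ k) jT).affineOpenCover.I₀,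
    fun p => (pullback (g₀ p.1) jT).affineOpenCover.X p.2,
    fun p => (pullback (g₀ p.1) jT).affineOpenCover.f p.2 ≫ pullback.snd (g₀ p.1) jT, h3,
    fun p => ?_⟩
  have e : ((pullback (g₀ p.1) jT).affineOpenCover.f p.2 ≫ pullback.snd (g₀ p.1) jT) ≫ jT =
      ((pullback (g₀ p.1) jT).affineOpenCover.f p.2 ≫ pullback.fst (g₀ p.1) jT) ≫ g₀ p.1 := by
    rw [Category.assoc, Category.assoc, pullback.condition]
  rw [e]
  exact ⟨hPs _ _ _ _ (hPQ₀ p.1).1, hQs _ _ _ _ (hPQ₀ p.1).2⟩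

end FamilyBC

section FamilyR

variable {R : Type u} [CommRing R] (H G : Over (Spec (CommRingCat.of R))) [GrpObj H] [GrpObj G]
  (hH : TwC.Locally (Spec (CommRingCat.of R)) TwC.Topology.fpqc (fun S' f =>
    ∃ (M : Type) (_ : AddCommGroup M), Nonempty (Grp.mk (Red.bc f H) ≅ Grp.mk (Red.DS S' M))))
  (A : Type u) [CommRing A] [Algebra R A]

include hH in
/-- an fpqc family of spectra of algebras over `A` over which `H` splits and the unit section of
`G` lands in an affine open. -/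
theorem exists_family_rel : ∃ (K : Type u) (B : K → Type u) (_ : ∀ k, CommRing (B k))
    (_ : ∀ k, Algebra R (B k)) (_ : ∀ k, Algebra A (B k)) (_ : ∀ k, IsScalarTower R A (B k)),
    Presieve.ofArrows (fun k => Spec (CommRingCat.of (B k)))
      (fun k => Spec.map (CommRingCat.ofHom (algebraMap A (B k)))) ∈
        Scheme.fpqcPrecoverage (Spec (CommRingCat.of A)) ∧
    ∀ k, (∃ (M : Type) (_ : AddCommGroup M), Nonempty
        (Grp.mk (Red.bc (Spec.map (CommRingCat.ofHom (algebraMap R (B k)))) H) ≅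
          Grp.mk (Red.DS (Spec (CommRingCat.of (B k))) M))) ∧
      ∃ W : G.left.Opens, IsAffineOpen W ∧
        ∀ t : Spec (CommRingCat.of (B k)), (1 : T R (B k) ⟶ G).left t ∈ W := by
  obtain ⟨K₀, S₀, g₀, hcov₀, hPQ₀⟩ := Groth.Agent.Lib.Helper15DSbc.exists_fpqc_family₂ _ _
    (fun S' S'' f q h => by
      obtain ⟨M, _, ⟨e⟩⟩ := h
      exact ⟨M, _, Groth.Agent.Lib.Helper15DSbc.nonempty_iso_bc f q H M e⟩)
    (unitAff_comp G) hH (locally_unitAff G)
  obtain ⟨K, B, φ, hcov, hPQ⟩ := exists_spec_family_bc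
    (Spec.map (CommRingCat.ofHom (algebraMap R A)))
    (fun S' f => ∃ (M : Type) (_ : AddCommGroup M),
      Nonempty (Grp.mk (Red.bc f H) ≅ Grp.mk (Red.DS S' M))) (UnitAff G)
    (fun S' S'' f q h => by
      obtain ⟨M, _, ⟨e⟩⟩ := h
      exact ⟨M, _, Groth.Agent.Lib.Helper15DSbc.nonempty_iso_bc f q H M e⟩)
    (unitAff_comp G) S₀ g₀ hcov₀ hPQ₀
  obtain ⟨ψ, hψ⟩ : ∃ ψ : ∀ k, A →+* B k, ∀ k, φ k = Spec.map (CommRingCat.ofHom (ψ k)) :=
    ⟨fun k => (Spec.preimage (φ k)).hom, fun k => by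
      rw [CommRingCat.ofHom_hom, Spec.map_preimage]⟩
  obtain rfl : φ = fun k => Spec.map (CommRingCat.ofHom (ψ k)) := funext hψ
  refine ⟨K, fun k => B k, fun k => inferInstance,
    fun k => ((ψ k).comp (algebraMap R A)).toAlgebra, fun k => (ψ k).toAlgebra,
    fun k => @IsScalarTower.of_algebraMap_eq R A (B k) _ _ _ _
      (ψ k).toAlgebra ((ψ k).comp (algebraMap R A)).toAlgebra (fun _ => rfl), hcov, fun k => ?_⟩
  have e : Spec.map (CommRingCat.ofHom (ψ k)) ≫ Spec.map (CommRingCat.ofHom (algebraMap R A)) =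
      Spec.map (CommRingCat.ofHom ((ψ k).comp (algebraMap R A))) := by
    rw [← Spec.map_comp, ← CommRingCat.ofHom_comp]
  have := hPQ k
  rw [e] at this
  exact this

end FamilyR

end Groth.Agent.Lib.Helper15Avg
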