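-- helper15: relative conjugacy of homomorphisms out of a group of multiplicative type agreeing modulo an ideal, modulo a smaller ideal containing its square
import Mathlib
import Groth.Agent.Lib.Helper15AvgRelC
set_option autoImplicit false
universe u
open CategoryTheory CategoryTheory.Limits AlgebraicGeometry MonoidalCategory
  CartesianMonoidalCategory MonObj GrpObj

namespace Groth.Agent.Lib.Helper15Avg

section ExtR

variable {R : Type u} [CommRing R] (A : Type u) [CommRing A] [Algebra R A]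
  {K : Type u} (B : K → Type u) [∀ k, CommRing (B k)] [∀ k, Algebra R (B k)]
  [∀ k, Algebra A (B k)] [∀ k, IsScalarTower R A (B k)]
  (hcov : Presieve.ofArrows (fun k => Spec (CommRingCat.of (B k)))
      (fun k => Spec.map (CommRingCat.ofHom (algebraMap A (B k)))) ∈
        Scheme.fpqcPrecoverage (Spec (CommRingCat.of A)))

include hcov in
/-- two morphisms out of an object lying over `Spec A` agree as soon as they agree on points with
values in schemes over the members of an fpqc family of `Spec A`. -/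
theorem hom_ext_of_fpqc_family_rel {W Z : Over (Spec (CommRingCat.of R))} (φ₁ φ₂ : W ⟶ Z)
    (q : W ⟶ T R A)
    (hloc : ∀ (k : K) (Y' : Over (Spec (CommRingCat.of (B k))))
      (w : (Over.map (Spec.map (CommRingCat.ofHom (algebraMap R (B k))))).obj Y' ⟶ W),
      w ≫ φ₁ = w ≫ φ₂) : φ₁ = φ₂ := by
  obtain ⟨ql, hql⟩ : ∃ ql : W.left ⟶ Spec (CommRingCat.of A), ql = q.left := ⟨_, rfl⟩
  have hq : ql ≫ Spec.map (CommRingCat.ofHom (algebraMap R A)) = W.hom := by
    rw [hql]
    exact Over.w q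
  apply Over.OverMorphism.ext
  refine Groth.Agent.Lib.Helper15FixFpqc.hom_ext_of_fpqc _ _ _
    (Precoverage.pullbackArrows_mem ql hcov) ?_
  rintro Q _ ⟨T', τ, ⟨k⟩⟩
  obtain ⟨j, hj⟩ : ∃ j : (Over.map (Spec.map (CommRingCat.ofHom (algebraMap R (B k))))).obj
      (Over.mk (pullback.fst (Spec.map (CommRingCat.ofHom (algebraMap A (B k)))) ql)) ⟶ W,
      j.left = pullback.snd (Spec.map (CommRingCat.ofHom (algebraMap A (B k)))) ql :=
    ⟨Over.homMk (pullback.snd (Spec.map (CommRingCat.ofHom (algebraMap A (B k)))) ql) (by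
      simp only [Over.mk_hom, Over.map_obj_hom]
      rw [← hq, ← Category.assoc, ← pullback.condition, Category.assoc, ← Spec.map_comp,
        ← CommRingCat.ofHom_comp, ← IsScalarTower.algebraMap_eq]), rfl⟩
  have key := congrArg (fun z => z.left) (hloc k _ j)
  simp only [Over.comp_left] at key
  rw [hj] at key
  exact key

end ExtR

section Uniq

variable {R : Type u} [CommRing R] (A : Type u) [CommRing A] [Algebra R A]
  (hA : Function.Surjective (algebraMap R A))

include hA in
/-- there is at most one morphism into the test object of a quotient of the base ring. -/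
lemma hom_T_subsingleton {W : Over (Spec (CommRingCat.of R))} (x y : W ⟶ T R A) : x = y := by
  haveI : IsClosedImmersion (Spec.map (CommRingCat.ofHom (algebraMap R A))) :=
    IsClosedImmersion.spec_of_surjective _ hA
  obtain ⟨xl, hxl⟩ : ∃ xl : W.left ⟶ Spec (CommRingCat.of A), xl = x.left := ⟨_, rfl⟩
  obtain ⟨yl, hyl⟩ : ∃ yl : W.left ⟶ Spec (CommRingCat.of A), yl = y.left := ⟨_, rfl⟩
  have h1 : xl ≫ Spec.map (CommRingCat.ofHom (algebraMap R A)) = W.hom := by
    rw [hxl]; exact Over.w x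
  have h2 : yl ≫ Spec.map (CommRingCat.ofHom (algebraMap R A)) = W.hom := by
    rw [hyl]; exact Over.w y
  have h3 : xl = yl := by
    rw [← cancel_mono (Spec.map (CommRingCat.ofHom (algebraMap R A))), h1, h2]
  apply Over.OverMorphism.ext
  rw [← hxl, ← hyl]
  exact h3

end Uniq

section MainR

variable {R : Type u} [CommRing R] (I K : Ideal R) (hIK : I ^ 2 ≤ K) (hKI : K ≤ I)
  (H G : Over (Spec (CommRingCat.of R))) [GrpObj H] [GrpObj G]
  (hH : TwC.Locally (Spec (CommRingCat.of R)) TwC.Topology.fpqc (fun S' f =>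
    ∃ (M : Type) (_ : AddCommGroup M), Nonempty (Grp.mk (Red.bc f H) ≅ Grp.mk (Red.DS S' M))))
  (u v : H ⟶ G) [IsMonHom u] [IsMonHom v]
  (h0 : ∀ (X : Over (Spec (CommRingCat.of R)))
    (_ : X ⟶ (Over.mk (Spec.map (CommRingCat.ofHom (Ideal.Quotient.mk I))) :
      Over (Spec (CommRingCat.of R)))) (h : X ⟶ H), h ≫ u = h ≫ v)

include hIK hH h0 in
/-- **relative conjugacy**: two homomorphisms out of a group of multiplicative type which agree
modulo `I` are conjugate modulo `K` (where `I ^ 2 ≤ K ≤ I`) by a point modulo `K` which is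
trivial modulo `I`. -/
theorem exists_conj_rel : ∃ g : T R (R ⧸ K) ⟶ G,
    tm (Ideal.Quotient.factorₐ R hKI) ≫ g = 1 ∧
    ∀ (X : Over (Spec (CommRingCat.of R))) (p : X ⟶ T R (R ⧸ K)) (h : X ⟶ H),
      h ≫ v = (p ≫ g) * (h ≫ u) * (p ≫ g)⁻¹ := by
  obtain ⟨K', B, _, _, _, _, hcov, hK⟩ := exists_family_rel H G hH (R ⧸ K)
  have hB : ∀ k, IB I (B k) * IB I (B k) = ⊥ := fun k => IB_sq_of_tower I K hIK (B k)
  have hex : ∀ k, ∃ g : T R (B k) ⟶ G, IsLocSolR I u v (B k) (hB k) g := by
    intro k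
    obtain ⟨⟨M, _, ⟨e⟩⟩, W, hW, hW1⟩ := hK k
    exact exists_isLocSolR u v h0 (B k) (hB k) M e hW hW1
  choose gl hgl using hex
  obtain ⟨g, hres⟩ := exists_glued_point_rel (R ⧸ K) B hcov gl
    (fun k l => (hgl k).compat_pullback (R ⧸ K) (IB_sq_of_tower I K hIK _) (hgl l))
  have hsurj : Function.Surjective (algebraMap R (R ⧸ K)) := Ideal.Quotient.mk_surjective
  -- the glued point on points over the members of the family
  have key : ∀ (k : K') (D : Type u) [CommRing D] [Algebra R D] [Algebra (B k) D]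
      [IsScalarTower R (B k) D] (x : T R D ⟶ T R (R ⧸ K)),
      x ≫ g = tm (IsScalarTower.toAlgHom R (B k) D) ≫ gl k := by
    intro k D _ _ _ _ x
    rw [hom_T_subsingleton (R ⧸ K) hsurj x (tm (IsScalarTower.toAlgHom R (B k) D) ≫
      tm (IsScalarTower.toAlgHom R (R ⧸ K) (B k))), Category.assoc, hres]
  refine ⟨g, ?_, ?_⟩
  · refine hom_ext_of_fpqc_family_rel (R ⧸ K) B hcov _ _ (tm (Ideal.Quotient.factorₐ R hKI))
      (fun k Y' w => ?_)
    refine hom_ext_of_alg_points (B k) Y' _ _ (fun D _ _ _ _ jj => ?_)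
    obtain ⟨x, hx⟩ : ∃ x : T R D ⟶ T R (R ⧸ I), x = jj ≫ w := ⟨_, rfl⟩
    rw [MonObj.comp_one, MonObj.comp_one, ← Category.assoc, ← hx, ← Category.assoc,
      key k D (x ≫ tm (Ideal.Quotient.factorₐ R hKI))]
    have hker : ∀ c ∈ IB I (B k), (IsScalarTower.toAlgHom R (B k) D) c = 0 := by
      intro c hc
      have hle : IB I (B k) ≤ RingHom.ker (algebraMap (B k) D) := by
        unfold IB
        rw [Ideal.map_le_iff_le_comap]
        intro y hy
        rw [Ideal.mem_comap, RingHom.mem_ker, ← IsScalarTower.algebraMap_apply]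
        exact algebraMap_eq_zero_of_point I D x y hy
      exact hle hc
    have hfac : IsScalarTower.toAlgHom R (B k) D =
        (Ideal.Quotient.liftₐ (IB I (B k)) (IsScalarTower.toAlgHom R (B k) D) hker).comp
          (Ideal.Quotient.mkₐ R (IB I (B k))) := (Ideal.Quotient.liftₐ_comp _ _ _).symm
    rw [hfac, ← tm_comp, Category.assoc, (hgl k).mod, MonObj.comp_one]
  · intro X p h
    refine hom_ext_of_fpqc_family_rel (R ⧸ K) B hcov _ _ p (fun k Y' w => ?_)
    refine hom_ext_of_alg_points (B k) Y' _ _ (fun D _ _ _ _ jj => ?_)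
    obtain ⟨x, hx⟩ : ∃ x : T R D ⟶ X, x = jj ≫ w := ⟨_, rfl⟩
    have e1 : jj ≫ w ≫ h ≫ v = (x ≫ h) ≫ v := by
      rw [hx]
      simp only [Category.assoc]
    have e2 : jj ≫ w ≫ ((p ≫ g) * (h ≫ u) * (p ≫ g)⁻¹) =
        x ≫ ((p ≫ g) * (h ≫ u) * (p ≫ g)⁻¹) := by
      rw [hx, Category.assoc]
    rw [e1, e2, MonObj.comp_mul, MonObj.comp_mul, GrpObj.comp_inv, ← Category.assoc x p g,
      key k D (x ≫ p), ← Category.assoc x h u]
    exact (hgl k).solves D (x ≫ h)

end MainR

end Groth.Agent.Lib.Helper15Avg
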