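-- helper15: homomorphisms between split groups over a field via character groups; exact sequences of split tori split
import Mathlib
import Groth.Agent.Lib.Helper15SplitSub
set_option autoImplicit false
universe u
open CategoryTheory CategoryTheory.Limits AlgebraicGeometry MonoidalCategory CartesianMonoidalCategory
  MonObj GrpObj

namespace Groth.Agent.Lib.Helper15FieldDiag

open Groth.Agent.Lib.Helper15DSmapPts Groth.Agent.Lib.Helper15DSmapProps
open Groth.Agent.Lib.Helper15SplitSub Groth.Agent.Lib.Helper15HomDiag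

section Iso

variable {S S' : Scheme.{u}}

/-- base change along an isomorphism reflects equality of morphisms. -/
lemma eq_of_pullback_map_eq (f : S' ⟶ S) [IsIso f] {A B : Over S} (a b : A ⟶ B)
    (h : (Over.pullback f).map a = (Over.pullback f).map b) : a = b := by
  apply Over.OverMorphism.ext
  have h1 : ((Over.pullback f).map a).left ≫ pullback.fst B.hom f =
      pullback.fst A.hom f ≫ a.left := by
    simp only [Over.pullback_map_left]
    exact pullback.lift_fst _ _ _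
  have h2 : ((Over.pullback f).map b).left ≫ pullback.fst B.hom f =
      pullback.fst A.hom f ≫ b.left := by
    simp only [Over.pullback_map_left]
    exact pullback.lift_fst _ _ _
  rw [h] at h1
  rw [← cancel_epi (pullback.fst A.hom f), ← h1, ← h2]

lemma isIso_top_ι (U : Scheme.{u}) : IsIso (⊤ : U.Opens).ι :=
  (U.topIso).isIso_hom

end Iso

section Zero

variable {U : Scheme.{u}} {M₁ M₂ : Type} [AddCommGroup M₁] [AddCommGroup M₂]

/-- the homomorphism attached to the zero homomorphism of character groups is trivial. -/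
lemma DSmap_zero : Red.DSmap U (0 : M₂ →+ M₁) = toUnit _ ≫ η[Red.DS U M₂] := by
  have hz : (0 : M₂ →+ M₁) = (0 : PUnit.{1} →+ M₁).comp (0 : M₂ →+ PUnit.{1}) := by
    ext x; simp
  have hm := Groth.Agent.Lib.Helper27DiagSub.isMonHom_DSmap U (0 : M₂ →+ PUnit.{1})
  have h1 : Red.DSmap U (0 : M₂ →+ PUnit.{1}) = toUnit _ ≫ η[Red.DS U M₂] := by
    have hid : 𝟙 (Red.DS U PUnit.{1}) = toUnit _ ≫ η[Red.DS U PUnit.{1}] :=
      (subsingleton_hom_DS PUnit.{1} _).elim _ _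
    calc Red.DSmap U (0 : M₂ →+ PUnit.{1})
        = 𝟙 _ ≫ Red.DSmap U (0 : M₂ →+ PUnit.{1}) := (Category.id_comp _).symm
      _ = toUnit _ ≫ η[Red.DS U M₂] := by
          have e : η[Red.DS U PUnit.{1}] ≫ Red.DSmap U (0 : M₂ →+ PUnit.{1}) = η[Red.DS U M₂] :=
            IsMonHom.one_hom _
          rw [hid, Category.assoc, e]
  rw [hz, DSmap_comp, h1, ← Category.assoc]
  congr 1
  exact toUnit_unique _ _

end Zero

section Global

variable {U : Scheme.{u}} {A B : Over U} [GrpObj A] [GrpObj B]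
  (w : A ⟶ B) [hw : IsMonHom w] (M₁ M₂ : Type) [AddCommGroup M₁] [AddCommGroup M₂]
  (e₁ : Grp.mk A ≅ Grp.mk (Red.DS U M₁)) (e₂ : Grp.mk B ≅ Grp.mk (Red.DS U M₂))

include hw in
/-- over a base with a single point, a homomorphism between split groups is attached to a
homomorphism of character groups. -/
theorem exists_DSmap_eq (hM₂ : AddGroup.FG M₂) (t : U) (ht : ∀ x : U, x = t) :
    ∃ φ : M₂ →+ M₁, w ≫ e₂.hom.hom.hom = e₁.hom.hom.hom ≫ Red.DSmap U φ := by
  obtain ⟨a, ha, ha'⟩ : ∃ a : A ≅ Red.DS U M₁, a.hom = e₁.hom.hom.hom ∧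
      a.inv = e₁.inv.hom.hom :=
    ⟨⟨e₁.hom.hom.hom, e₁.inv.hom.hom, congr($(e₁.hom_inv_id).hom.hom),
      congr($(e₁.inv_hom_id).hom.hom)⟩, rfl, rfl⟩
  obtain ⟨b, hb, hb'⟩ : ∃ b : B ≅ Red.DS U M₂, b.hom = e₂.hom.hom.hom ∧
      b.inv = e₂.inv.hom.hom :=
    ⟨⟨e₂.hom.hom.hom, e₂.inv.hom.hom, congr($(e₂.hom_inv_id).hom.hom),
      congr($(e₂.inv_hom_id).hom.hom)⟩, rfl, rfl⟩
  have ham : IsMonHom a.inv := by rw [ha']; infer_instance
  have hbm : IsMonHom b.hom := by rw [hb]; infer_instance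
  obtain ⟨v, hv⟩ : ∃ v : Red.DS U M₁ ⟶ Red.DS U M₂, v = a.inv ≫ w ≫ b.hom := ⟨_, rfl⟩
  have hvm : IsMonHom v := by rw [hv]; infer_instance
  obtain ⟨φ, W, htW, hW⟩ := exists_opens_map_eq M₁ M₂ v hM₂ t
  have hWtop : W = ⊤ := by
    apply top_unique
    intro x _
    rw [ht x]
    exact htW
  subst hWtop
  have := isIso_top_ι U
  have hveq : v = Red.DSmap U φ := eq_of_pullback_map_eq (⊤ : U.Opens).ι _ _ hW
  refine ⟨φ, ?_⟩
  rw [← ha, ← hb, ← hveq, hv, Iso.hom_inv_id_assoc]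

end Global

section OverIso

variable {U : Scheme.{u}} {A B : Over U} [GrpObj A] [GrpObj B]

/-- the isomorphism of `U`-schemes underlying an isomorphism of `U`-groups. -/
def overIso (e : Grp.mk A ≅ Grp.mk B) : A ≅ B :=
  ⟨e.hom.hom.hom, e.inv.hom.hom, congr($(e.hom_inv_id).hom.hom), congr($(e.inv_hom_id).hom.hom)⟩

instance (e : Grp.mk A ≅ Grp.mk B) : IsMonHom (overIso e).hom := by
  unfold overIso; infer_instance

instance (e : Grp.mk A ≅ Grp.mk B) : IsMonHom (overIso e).inv := by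
  unfold overIso; infer_instance

variable (w : A ⟶ B) [hw : IsMonHom w] (M₁ M₂ : Type) [AddCommGroup M₁] [AddCommGroup M₂]
  (e₁ : Grp.mk A ≅ Grp.mk (Red.DS U M₁)) (e₂ : Grp.mk B ≅ Grp.mk (Red.DS U M₂))

include hw in
theorem exists_DSmap_eq' (hM₂ : AddGroup.FG M₂) (t : U) (ht : ∀ x : U, x = t) :
    ∃ φ : M₂ →+ M₁, w ≫ (overIso e₂).hom = (overIso e₁).hom ≫ Red.DSmap U φ :=
  exists_DSmap_eq w M₁ M₂ e₁ e₂ hM₂ t ht

end OverIso

section Alg

/-- a short exact sequence of commutative groups with free cokernel splits (retraction form). -/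
lemma exists_retraction {A B C' : Type} [AddCommGroup A] [AddCommGroup B] [AddCommGroup C']
    [Module.Free ℤ C'] (φ : A →+ B) (θ : B →+ C') (hφ : Function.Injective φ)
    (hθ : Function.Surjective θ) (h0 : θ.comp φ = 0) (hker : ∀ x, θ x = 0 → x ∈ φ.range) :
    ∃ ψ : B →+ A, ψ.comp φ = AddMonoidHom.id A := by
  obtain ⟨σ, hσ⟩ := Module.projective_lifting_property θ.toIntLinearMap
    (LinearMap.id : C' →ₗ[ℤ] C') hθ
  have hσ' : ∀ c, θ (σ c) = c := fun c => LinearMap.congr_fun hσ c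
  have hx : ∀ x : B, ∃ a : A, φ a = x - σ (θ x) := by
    intro x
    have h1 : θ (x - σ (θ x)) = 0 := by rw [map_sub, hσ', sub_self]
    obtain ⟨a, ha⟩ := hker _ h1
    exact ⟨a, ha⟩
  choose ψ₀ hψ₀ using hx
  have hadd : ∀ x y, ψ₀ (x + y) = ψ₀ x + ψ₀ y := by
    intro x y
    apply hφ
    rw [map_add, hψ₀, hψ₀, hψ₀, map_add, map_add]
    abel
  refine ⟨AddMonoidHom.mk' ψ₀ hadd, ?_⟩
  ext a
  apply hφ
  have h2 : θ (φ a) = 0 := by
    have := DFunLike.congr_fun h0 a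
    simpa using this
  show φ (ψ₀ (φ a)) = φ a
  rw [hψ₀, h2, map_zero, sub_zero]

end Alg

section Split

variable (k : Type u) [Field k]

lemma fg_fin (n : ℕ) : AddGroup.FG (Fin n → ℤ) := by
  rw [AddGroup.fg_iff_addMonoid_fg]
  infer_instance

/-- **over a field, an exact sequence of split tori splits.** -/
theorem exists_hom_section
    (K G Q : Over (Spec (CommRingCat.of k))) [GrpObj K] [GrpObj G] [GrpObj Q] (nK nG nQ : ℕ)
    (hK : Red.IsSplitTorusWith (Fin nK → ℤ) K) (hG : Red.IsSplitTorusWith (Fin nG → ℤ) G)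
    (hQ : Red.IsSplitTorusWith (Fin nQ → ℤ) Q)
    (i : K ⟶ G) [IsMonHom i] [Mono i]
    (π : G ⟶ Q) [IsMonHom π] [Flat π.left] [Surjective π.left] (hker : AlgGrp.IsKernel i π) :
    ∃ s : Q ⟶ G, IsMonHom s ∧ s ≫ π = 𝟙 Q := by
  obtain ⟨eK⟩ := hK
  obtain ⟨eG⟩ := hG
  obtain ⟨eQ⟩ := hQ
  obtain ⟨κ, hκ⟩ : ∃ κ : CommRingCat.{u}, κ = CommRingCat.of k := ⟨_, rfl⟩
  have hnt : Nontrivial κ := by rw [hκ]; infer_instance
  obtain ⟨t⟩ : Nonempty (Spec (CommRingCat.of k)) := inferInstance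
  have ht : ∀ x : Spec (CommRingCat.of k), x = t := fun x => Subsingleton.elim _ _
  obtain ⟨φ, hφ⟩ := exists_DSmap_eq' π (Fin nG → ℤ) (Fin nQ → ℤ) eG eQ (fg_fin nQ) t ht
  obtain ⟨θ, hθ⟩ := exists_DSmap_eq' i (Fin nK → ℤ) (Fin nG → ℤ) eK eG (fg_fin nG) t ht
  have hπ' : (overIso eG).inv ≫ π = Red.DSmap _ φ ≫ (overIso eQ).inv := by
    rw [Iso.inv_comp_eq, ← Category.assoc, ← hφ, Category.assoc, Iso.hom_inv_id, Category.comp_id]
  -- φ is injective, θ is surjective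
  have hDπ : IsD π (Fin nG → ℤ) (Fin nQ → ℤ) φ := ⟨overIso eG, overIso eQ, hφ⟩
  have hDi : IsD i (Fin nK → ℤ) (Fin nG → ℤ) θ := ⟨overIso eK, overIso eG, hθ⟩
  have hφinj : Function.Injective φ := by
    subst hκ
    exact injective_of_flat_surjective (CommRingCat.of k) φ
      ((hDπ.prop_iff (@Flat ⊓ @Surjective : MorphismProperty Scheme.{u})).mp
        ⟨inferInstance, inferInstance⟩)
  have hθsurj : Function.Surjective θ := by
    subst hκ
    exact surjective_of_mono (CommRingCat.of k) θ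
      ((hDi.prop_iff (MorphismProperty.monomorphisms Scheme.{u})).mp
        (inferInstance : Mono i.left))
  -- θ ∘ φ = 0
  have hcomp0 : θ.comp φ = 0 := by
    subst hκ
    apply DSmap_injective (CommRingCat.of k)
    rw [DSmap_comp, DSmap_zero]
    have h1 : Red.DSmap (Spec (CommRingCat.of k)) θ = (overIso eK).inv ≫ i ≫ (overIso eG).hom := by
      rw [hθ, Iso.inv_hom_id_assoc]
    have h2 : Red.DSmap (Spec (CommRingCat.of k)) φ = (overIso eG).inv ≫ π ≫ (overIso eQ).hom := by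
      rw [hφ, Iso.inv_hom_id_assoc]
    rw [h1, h2]
    simp only [Category.assoc, Iso.hom_inv_id_assoc]
    have e1 : η[Q] ≫ (overIso eQ).hom = η[Red.DS (Spec (CommRingCat.of k)) (Fin nQ → ℤ)] :=
      IsMonHom.one_hom _
    rw [← Category.assoc i π, hker.w, Category.assoc, e1, ← Category.assoc]
    congr 1
    exact toUnit_unique _ _
  -- the test group
  obtain ⟨p, hp⟩ : ∃ p : (Fin nG → ℤ) →+ ((Fin nG → ℤ) ⧸ φ.range),
      p = QuotientAddGroup.mk' φ.range := ⟨_, rfl⟩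
  have hpφ : p.comp φ = 0 := by
    ext x
    rw [hp]
    simp
  have hpm := Groth.Agent.Lib.Helper27DiagSub.isMonHom_DSmap (Spec (CommRingCat.of k)) p
  obtain ⟨t₀, ht₀⟩ : ∃ t₀ : Red.DS (Spec (CommRingCat.of k)) ((Fin nG → ℤ) ⧸ φ.range) ⟶ G,
      t₀ = Red.DSmap _ p ≫ (overIso eG).inv := ⟨_, rfl⟩
  have ht₀m : IsMonHom t₀ := by rw [ht₀]; infer_instance
  have ht₀π : t₀ ≫ π = toUnit _ ≫ η[Q] := by
    have e1 : η[Red.DS (Spec (CommRingCat.of k)) (Fin nQ → ℤ)] ≫ (overIso eQ).inv = η[Q] :=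
      IsMonHom.one_hom _
    rw [ht₀, Category.assoc, hπ', ← Category.assoc, ← DSmap_comp, hpφ, DSmap_zero, Category.assoc,
      e1]
  obtain ⟨h, hh⟩ : ∃ h, h ≫ i = t₀ := ⟨hker.lift t₀ (toUnit _) ht₀π, hker.lift_fst _ _ _⟩
  have hhm : IsMonHom h := isMonHom_of_fac t₀ i h hh
  obtain ⟨ηC, hηC⟩ := exists_DSmap_eq' h ((Fin nG → ℤ) ⧸ φ.range) (Fin nK → ℤ) (Iso.refl _) eK
    (fg_fin nK) t ht
  have hpeq : p = ηC.comp θ := by
    subst hκ
    apply DSmap_injective (CommRingCat.of k)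
    have h1 : Red.DSmap (Spec (CommRingCat.of k)) p = t₀ ≫ (overIso eG).hom := by
      rw [ht₀, Category.assoc, Iso.inv_hom_id, Category.comp_id]
    have h2 : (overIso (Iso.refl (Grp.mk (Red.DS (Spec (CommRingCat.of k))
        ((Fin nG → ℤ) ⧸ φ.range))))).hom = 𝟙 _ := rfl
    rw [h2, Category.id_comp] at hηC
    rw [h1, ← hh, Category.assoc, hθ, ← Category.assoc, hηC, DSmap_comp]
  have hkerθ : ∀ x, θ x = 0 → x ∈ φ.range := by
    intro x hx
    have h1 : p x = 0 := by rw [hpeq, AddMonoidHom.comp_apply, hx, map_zero]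
    rw [hp] at h1
    exact (QuotientAddGroup.eq_zero_iff x).mp h1
  obtain ⟨ψ, hψ⟩ := exists_retraction φ θ hφinj hθsurj hcomp0 hkerθ
  have hψm := Groth.Agent.Lib.Helper27DiagSub.isMonHom_DSmap (Spec (CommRingCat.of k)) ψ
  refine ⟨(overIso eQ).hom ≫ Red.DSmap _ ψ ≫ (overIso eG).inv, inferInstance, ?_⟩
  rw [Category.assoc, Category.assoc, hπ', ← Category.assoc (Red.DSmap _ ψ), ← DSmap_comp, hψ,
    DSmap_id, Category.id_comp, Iso.hom_inv_id]

end Split

end Groth.Agent.Lib.Helper15FieldDiag
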