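-- helper15: exactness of the diagonalisable-group functor: D(coker) is the kernel of D(psi)
import Mathlib
import Groth.Agent.Lib.Helper15FieldDiag
set_option autoImplicit false
universe u
open CategoryTheory CategoryTheory.Limits AlgebraicGeometry MonoidalCategory CartesianMonoidalCategory
  MonObj GrpObj

namespace Groth.Agent.Lib.Helper15DExact

open Groth.Agent.Lib.Helper15DiagRigid Groth.Agent.Lib.Helper15DSmapPts
open Groth.Agent.Lib.Helper11MultGa Groth.Agent.Lib.Helper27.GaGm
open Groth.Agent.Lib.Helper15FieldDiag Groth.Agent.Lib.Helper15SplitSub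

section Ring

variable {M₁ M₂ C : Type} [AddCommGroup M₁] [AddCommGroup M₂] [AddCommGroup C]
  (ψ : M₂ →+ M₁) (π : M₁ →+ C)

/-- descending a character along a surjection of character groups. -/
lemma exists_char_desc (hπ : Function.Surjective π) (hex : ∀ x, π x = 0 → x ∈ ψ.range)
    {R : Type u} [CommRing R] (χ₁ : Multiplicative M₁ →* R)
    (h : ∀ n : M₂, χ₁ (Multiplicative.ofAdd (ψ n)) = 1) :
    ∃ χ : Multiplicative C →* R, χ.comp (AddMonoidHom.toMultiplicative π) = χ₁ := by
  obtain ⟨π', hπ'⟩ : ∃ π' : Multiplicative M₁ →* Multiplicative C,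
      π' = AddMonoidHom.toMultiplicative π := ⟨_, rfl⟩
  have hsurj : Function.Surjective π' := by
    rw [hπ']
    intro c
    obtain ⟨m, hm⟩ := hπ (Multiplicative.toAdd c)
    exact ⟨Multiplicative.ofAdd m, by
      change Multiplicative.ofAdd (π m) = c
      rw [hm]; rfl⟩
  have hker : π'.ker ≤ χ₁.toHomUnits.ker := by
    intro x hx
    rw [MonoidHom.mem_ker] at hx ⊢
    have hx0 : π (Multiplicative.toAdd x) = 0 := by
      rw [hπ'] at hx
      exact congrArg Multiplicative.toAdd hx
    obtain ⟨n, hn⟩ := hex _ hx0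
    apply Units.ext
    rw [MonoidHom.coe_toHomUnits, Units.val_one]
    have : x = Multiplicative.ofAdd (ψ n) := by rw [hn]; rfl
    rw [this]
    exact h n
  refine ⟨(Units.coeHom R).comp (π'.liftOfRightInverse (Function.surjInv hsurj)
    (Function.rightInverse_surjInv hsurj) ⟨χ₁.toHomUnits, hker⟩), ?_⟩
  rw [← hπ', MonoidHom.comp_assoc, MonoidHom.liftOfRightInverse_comp]
  ext x
  rfl

lemma single_punit (m : Multiplicative PUnit.{1}) :
    (MonoidAlgebra.single m (1 : ULift.{u} ℤ)) = 1 := by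
  have hm : m = 1 := Subsingleton.elim _ _
  rw [hm]
  rfl

lemma exists_ring_desc (hπ : Function.Surjective π) (hex : ∀ x, π x = 0 → x ∈ ψ.range)
    {R : Type u} [CommRing R] (f : AM.{u} M₁ →+* R) (g : AM.{u} PUnit.{1} →+* R)
    (hfg : f.comp (amMap.{u} ψ) = g.comp (amMap.{u} (0 : M₂ →+ PUnit.{1}))) :
    ∃ d : AM.{u} C →+* R, d.comp (amMap.{u} π) = f ∧
      d.comp (amMap.{u} (0 : PUnit.{1} →+ C)) = g := by
  obtain ⟨χ, hχ⟩ := exists_char_desc ψ π hπ hex
    ((f : AM.{u} M₁ →* R).comp (MonoidAlgebra.of (ULift.{u} ℤ) (Multiplicative M₁))) (by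
      intro n
      have h1 := congr($hfg (MonoidAlgebra.single (Multiplicative.ofAdd n) 1))
      rw [RingHom.comp_apply, RingHom.comp_apply, amMap_single, amMap_single, single_punit,
        map_one] at h1
      exact h1)
  refine ⟨thetaOf C χ, ?_, ?_⟩
  · apply amRingHom_ext
    intro m
    rw [RingHom.comp_apply, amMap_single, thetaOf_single]
    exact congr($hχ m)
  · apply amRingHom_ext
    intro m
    rw [single_punit, map_one, map_one]

lemma ring_desc_unique (hπ : Function.Surjective π) {R : Type u} [CommRing R]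
    (d d' : AM.{u} C →+* R) (h : d.comp (amMap.{u} π) = d'.comp (amMap.{u} π)) : d = d' := by
  apply amRingHom_ext
  intro c
  obtain ⟨x, hx⟩ := hπ (Multiplicative.toAdd c)
  have hc : MonoidAlgebra.single c (1 : ULift.{u} ℤ) =
      amMap.{u} π (MonoidAlgebra.single (Multiplicative.ofAdd x) 1) := by
    rw [amMap_single]
    congr 1
    change c = Multiplicative.ofAdd (π x)
    rw [hx]; rfl
  rw [hc]
  exact congr($h _)

/-- the coordinate rings of the diagonalisable groups attached to a right exact sequence of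
character groups form a pushout square. -/
theorem isPushout_amMap (hπ : Function.Surjective π) (hex : ∀ x, π x = 0 → x ∈ ψ.range)
    (hcomp : π.comp ψ = 0) :
    IsPushout (CommRingCat.ofHom (amMap.{u} ψ))
      (CommRingCat.ofHom (amMap.{u} (0 : M₂ →+ PUnit.{1})))
      (CommRingCat.ofHom (amMap.{u} π))
      (CommRingCat.ofHom (amMap.{u} (0 : PUnit.{1} →+ C))) := by
  have hsq : CommRingCat.ofHom (amMap.{u} ψ) ≫ CommRingCat.ofHom (amMap.{u} π) =
      CommRingCat.ofHom (amMap.{u} (0 : M₂ →+ PUnit.{1})) ≫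
        CommRingCat.ofHom (amMap.{u} (0 : PUnit.{1} →+ C)) := by
    rw [← CommRingCat.ofHom_comp, ← CommRingCat.ofHom_comp]
    congr 1
    apply amRingHom_ext
    intro m
    rw [RingHom.comp_apply, RingHom.comp_apply, amMap_single, amMap_single, amMap_single,
      amMap_single]
    congr 1
    change Multiplicative.ofAdd (π (ψ (Multiplicative.toAdd m))) = Multiplicative.ofAdd 0
    rw [← AddMonoidHom.comp_apply, hcomp]
    rfl
  have key : ∀ s : PushoutCocone (CommRingCat.ofHom (amMap.{u} ψ))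
      (CommRingCat.ofHom (amMap.{u} (0 : M₂ →+ PUnit.{1}))),
      ∃ d : AM.{u} C →+* s.pt, d.comp (amMap.{u} π) = s.inl.hom ∧
        d.comp (amMap.{u} (0 : PUnit.{1} →+ C)) = s.inr.hom := by
    intro s
    apply exists_ring_desc ψ π hπ hex
    have := congr($(s.condition).hom)
    simpa only [CommRingCat.hom_comp, CommRingCat.hom_ofHom] using this
  refine ⟨⟨hsq⟩, ⟨PushoutCocone.IsColimit.mk _ (fun s => CommRingCat.ofHom (key s).choose)
    ?_ ?_ ?_⟩⟩
  · intro s
    apply CommRingCat.hom_ext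
    simp only [CommRingCat.hom_comp, CommRingCat.hom_ofHom]
    exact (key s).choose_spec.1
  · intro s
    apply CommRingCat.hom_ext
    simp only [CommRingCat.hom_comp, CommRingCat.hom_ofHom]
    exact (key s).choose_spec.2
  · intro s m h1 h2
    apply CommRingCat.hom_ext
    simp only [CommRingCat.hom_ofHom]
    apply ring_desc_unique π hπ
    rw [(key s).choose_spec.1, ← h1]
    rfl

end Ring

section Sch

variable {M₁ M₂ C : Type} [AddCommGroup M₁] [AddCommGroup M₂] [AddCommGroup C]
  (ψ : M₂ →+ M₁) (π : M₁ →+ C)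

theorem isPullback_diagMap (hπ : Function.Surjective π) (hex : ∀ x, π x = 0 → x ∈ ψ.range)
    (hcomp : π.comp ψ = 0) :
    IsPullback (Red.diagMap (ULift.{u} ℤ) π) (Red.diagMap (ULift.{u} ℤ) (0 : PUnit.{1} →+ C))
      (Red.diagMap (ULift.{u} ℤ) ψ) (Red.diagMap (ULift.{u} ℤ) (0 : M₂ →+ PUnit.{1})) := by
  refine IsPullback.of_map (Over.forget _) ?_
    (isPullback_SpecMap_of_isPushout _ _ _ _ (isPushout_amMap.{u} ψ π hπ hex hcomp))
  rw [← diagMap_comp, ← diagMap_comp, hcomp]
  congr 1

variable (U : Scheme.{u})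

theorem isPullback_DSmap (hπ : Function.Surjective π) (hex : ∀ x, π x = 0 → x ∈ ψ.range)
    (hcomp : π.comp ψ = 0) :
    IsPullback (Red.DSmap U π) (Red.DSmap U (0 : PUnit.{1} →+ C))
      (Red.DSmap U ψ) (Red.DSmap U (0 : M₂ →+ PUnit.{1})) :=
  (isPullback_diagMap.{u} ψ π hπ hex hcomp).map
    (Over.pullback (Limits.IsTerminal.from specULiftZIsTerminal U))

lemma isIso_toUnit_DS_punit : IsIso (toUnit (Red.DS U PUnit.{1})) :=
  ⟨η[Red.DS U PUnit.{1}], (subsingleton_hom_DS PUnit.{1} _).elim _ _, toUnit_unique _ _⟩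

/-- **the diagonalisable group attached to the cokernel of a homomorphism of character groups is
the kernel of the attached homomorphism of diagonalisable groups.** -/
theorem isKernel_DSmap (hπ : Function.Surjective π) (hex : ∀ x, π x = 0 → x ∈ ψ.range)
    (hcomp : π.comp ψ = 0) : AlgGrp.IsKernel (Red.DSmap U π) (Red.DSmap U ψ) := by
  have := isIso_toUnit_DS_punit U
  refine IsPullback.of_iso (isPullback_DSmap.{u} ψ π U hπ hex hcomp) (Iso.refl _) (Iso.refl _)
    (asIso (toUnit (Red.DS U PUnit.{1}))) (Iso.refl _) ?_ ?_ ?_ ?_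
  · simp
  · exact toUnit_unique _ _
  · simp
  · rw [Iso.refl_hom, Category.comp_id, asIso_hom]
    exact DSmap_zero

end Sch

end Groth.Agent.Lib.Helper15DExact
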