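-- helper15: natural (in the character group) trivialisations of base changes of diagonalisable groups
import Mathlib
import Groth.Agent.Lib.Helper15DExact
import Groth.Agent.Lib.Helper15DSbc
set_option autoImplicit false
universe u
open CategoryTheory CategoryTheory.Limits AlgebraicGeometry MonoidalCategory CartesianMonoidalCategory
  MonObj GrpObj

namespace Groth.Agent.Lib.Helper15BCNat

open Groth.Agent.Lib.Helper15DiagRigid Groth.Agent.Lib.Helper15DSmapPts
open Groth.Agent.Lib.Helper11MultGa Groth.Agent.Lib.Helper27.GaGm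
open Groth.Agent.Lib.Helper15FieldDiag Groth.Agent.Lib.Helper15SplitSub
open Groth.Agent.Lib.Helper15DSbc

variable {S T T' : Scheme.{u}}

lemma bcCompIso_hom (f : T ⟶ S) (q : T' ⟶ T) (H : Over S) [GrpObj H] :
    (bcCompIso f q H).hom.hom.hom = (Over.pullbackComp q f).inv.app H := by
  unfold bcCompIso
  simp
  exact Category.id_comp _

/-- canonical isomorphisms, natural in the character group, between the base change of a
diagonalisable group and the diagonalisable group over the new base. -/
lemma exists_bc_grpIso (q : T' ⟶ T) :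
    ∃ c : ∀ (M : Type) [AddCommGroup M],
        Grp.mk (Red.bc q (Red.DS T M)) ≅ Grp.mk (Red.DS T' M),
      ∀ (M₁ M₂ : Type) [AddCommGroup M₁] [AddCommGroup M₂] (φ : M₂ →+ M₁),
        (Over.pullback q).map (Red.DSmap T φ) ≫ (c M₂).hom.hom.hom =
          (c M₁).hom.hom.hom ≫ Red.DSmap T' φ := by
  have key : ∀ x : T' ⟶ Spec (CommRingCat.of (ULift.{u} ℤ)), x = q ≫ tU T →
      ∃ c : ∀ (M : Type) [AddCommGroup M],
        Grp.mk (Red.bc q (Red.DS T M)) ≅ Grp.mk (Red.bc x (Red.diag (ULift.{u} ℤ) M)),
      ∀ (M₁ M₂ : Type) [AddCommGroup M₁] [AddCommGroup M₂] (φ : M₂ →+ M₁),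
        (Over.pullback q).map (Red.DSmap T φ) ≫ (c M₂).hom.hom.hom =
          (c M₁).hom.hom.hom ≫ (Over.pullback x).map (Red.diagMap (ULift.{u} ℤ) φ) := by
    rintro x rfl
    refine ⟨fun M _ => bcCompIso (tU T) q (Red.diag (ULift.{u} ℤ) M), ?_⟩
    intro M₁ M₂ _ _ φ
    rw [bcCompIso_hom, bcCompIso_hom]
    exact (Over.pullbackComp q (tU T)).inv.naturality (Red.diagMap (ULift.{u} ℤ) φ)
  exact key _ (specULiftZIsTerminal.hom_ext _ _)

lemma bcCompIso_inv (f : T ⟶ S) (q : T' ⟶ T) (H : Over S) [GrpObj H] :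
    (bcCompIso f q H).inv.hom.hom = (Over.pullbackComp q f).hom.app H := by
  have h1 : (bcCompIso f q H).inv.hom.hom ≫ (bcCompIso f q H).hom.hom.hom = 𝟙 _ :=
    congr($((bcCompIso f q H).inv_hom_id).hom.hom)
  rw [bcCompIso_hom] at h1
  have h2 : (Over.pullbackComp q f).hom.app H ≫ (Over.pullbackComp q f).inv.app H = 𝟙 _ :=
    (Over.pullbackComp q f).hom_inv_id_app H
  calc (bcCompIso f q H).inv.hom.hom
      = (bcCompIso f q H).inv.hom.hom ≫ ((Over.pullbackComp q f).inv.app H ≫
          (Over.pullbackComp q f).hom.app H) := by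
        rw [(Over.pullbackComp q f).inv_hom_id_app H]; exact (Category.comp_id _).symm
    _ = (Over.pullbackComp q f).hom.app H := by
        rw [← Category.assoc, h1]; exact Category.id_comp _

/-- a family, natural in the character group, of isomorphisms of groups between the base change
of the diagonalisable groups and the diagonalisable groups over the new base. -/
structure NatTriv (g : T ⟶ S) where
  b : ∀ (M : Type) [AddCommGroup M], Red.bc g (Red.DS S M) ≅ Red.DS T M
  mon : ∀ (M : Type) [AddCommGroup M], IsMonHom (b M).hom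
  nat : ∀ (M₁ M₂ : Type) [AddCommGroup M₁] [AddCommGroup M₂] (φ : M₂ →+ M₁),
    (Over.pullback g).map (Red.DSmap S φ) ≫ (b M₂).hom = (b M₁).hom ≫ Red.DSmap T φ

theorem nonempty_natTriv (g : T ⟶ S) : Nonempty (NatTriv g) := by
  obtain ⟨c, hc⟩ := exists_bc_grpIso g
  exact ⟨⟨fun M _ => overIso (c M), fun M _ => inferInstance, fun M₁ M₂ _ _ φ => hc M₁ M₂ φ⟩⟩

/-- composition of natural trivialisations. -/
noncomputable def NatTriv.comp {g : T ⟶ S} (β : NatTriv g) {q : T' ⟶ T} (β' : NatTriv q) :
    NatTriv (q ≫ g) where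
  b M _ := (overIso (bcCompIso g q (Red.DS S M))).symm ≪≫ (Over.pullback q).mapIso (β.b M) ≪≫
    β'.b M
  mon M _ := by
    have := β.mon M
    have := β'.mon M
    simp only [Iso.trans_hom, Iso.symm_hom, Functor.mapIso_hom]
    infer_instance
  nat M₁ M₂ _ _ φ := by
    simp only [Iso.trans_hom, Iso.symm_hom, Functor.mapIso_hom, Category.assoc]
    have e1 : ∀ (M : Type) [AddCommGroup M], (overIso (bcCompIso g q (Red.DS S M))).inv =
        (Over.pullbackComp q g).hom.app (Red.DS S M) := fun M _ => bcCompIso_inv g q _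
    rw [e1, e1]
    have n1 := (Over.pullbackComp q g).hom.naturality (Red.DSmap S φ)
    simp only [Functor.comp_map] at n1
    rw [← Category.assoc, n1, Category.assoc, ← Category.assoc ((Over.pullback q).map _),
      ← CategoryTheory.Functor.map_comp, β.nat, CategoryTheory.Functor.map_comp, Category.assoc,
      β'.nat]

end Groth.Agent.Lib.Helper15BCNat
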