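-- helper15: balanced product G x^H Z: categorical quotients Y//G = Z//H (points calculus + fpqc descent of morphisms)
import Mathlib
import Groth.Prelude.Def_ChGrp
import Groth.Prelude.Def_W4bk4git07Quot
import Groth.Agent.Lib.Helper12BundleMap

set_option autoImplicit false
universe u
open CategoryTheory MonoidalCategory CartesianMonoidalCategory MonObj AlgebraicGeometry Limits

namespace Groth.Agent.Lib.Helper15.BalProdQuot

open Groth.Agent.Lib.Helper12 Groth.Agent.Lib.Helper12.BundleMap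

variable {S : Scheme.{u}} {G H Z Y P Q : Over S} [GrpObj G] [GrpObj H]

/-- base change of a morphism along a projection. -/
theorem isPullback_whiskerLeft (G : Over S) {X Y : Over S} (j : X ⟶ Y) :
    IsPullback (G ◁ j) (snd G X) (snd G Y) j := by
  refine isPullback_of_existsUnique_sq (whiskerLeft_snd G j) ?_
  intro T b c e
  refine ⟨lift (b ≫ fst G Y) c, ⟨?_, lift_snd _ _⟩, ?_⟩
  · rw [lift_whiskerLeft, ← e]
    apply CartesianMonoidalCategory.hom_ext <;> simp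
  · rintro a ⟨ha1, ha2⟩
    apply CartesianMonoidalCategory.hom_ext
    · rw [lift_fst, ← ha1, Category.assoc, whiskerLeft_fst]
    · rw [lift_snd, ha2]

theorem isLocallyTrivialFor_whiskerLeft (G : Over S) {X Y : Over S} (j : X ⟶ Y)
    (hj : NonAbH1.IsLocallyTrivialFor Scheme.fpqcPrecoverage (Over.mk j.left : Over Y.left)) :
    NonAbH1.IsLocallyTrivialFor Scheme.fpqcPrecoverage
      (Over.mk (G ◁ j).left : Over (G ⊗ Y).left) := by
  have h := (isPullback_whiskerLeft G j).map (Over.forget S)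
  exact isLocallyTrivialFor_of_isPullback h hj

theorem fpqc_of_fppf {X : Scheme.{u}} (E : Over X)
    (h : NonAbH1.IsLocallyTrivialFor Scheme.fppfPrecoverage E) :
    NonAbH1.IsLocallyTrivialFor Scheme.fpqcPrecoverage E := by
  obtain ⟨R, hR, hs⟩ := h
  exact ⟨R, Scheme.fppfPrecoverage_le_fpqcPrecoverage X hR, hs⟩

theorem main (i : H ⟶ G) [IsMonHom i]
    (aZ : AlgGrp.Action H Z) (aY : AlgGrp.Action G Y) (j : G ⊗ Z ⟶ Y)
    (hY : ChGrp.IsBalProd Scheme.fppfPrecoverage i aZ aY j)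
    (πZ : Z ⟶ P) (hP : GIT.IsCatQuot aZ πZ) (πY : Y ⟶ Q) (hQ : GIT.IsCatQuot aY πY) :
    ∃ (φ : P ⟶ Q) (χ : Q ⟶ P), φ ≫ χ = 𝟙 P ∧ χ ≫ φ = 𝟙 Q ∧
      πZ ≫ φ = lift (toUnit Z ≫ η[G]) (𝟙 Z) ≫ j ≫ πY ∧ j ≫ πY ≫ χ = snd G Z ≫ πZ := by
  obtain ⟨hE, hT, hL⟩ := hY
  have hL' := fpqc_of_fppf _ hL
  -- points form of the hypotheses
  have hEq : ∀ {T : Over S} (g g' : T ⟶ G) (z : T ⟶ Z),
      lift (g * g') z ≫ j = lift g (lift g' z ≫ j) ≫ aY.act := by
    intro T g g' z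
    have h1 := congrArg (fun f => lift g (lift g' z) ≫ f) hE
    rw [AlgGrp.Action.lift_prod_act_assoc, AlgGrp.Action.lift_trivial_act,
      lift_whiskerLeft_assoc] at h1
    rw [← h1]
    congr 2
  have hInv : ∀ {T : Over S} (h : T ⟶ H) (g : T ⟶ G) (z : T ⟶ Z),
      lift (g * (h ≫ i)⁻¹) (lift h z ≫ aZ.act) ≫ j = lift g z ≫ j := by
    intro T h g z
    have h1 := congrArg (fun f => lift h (lift g z) ≫ f) hT.w
    rw [ChGrp.lift_twist_act_assoc, lift_snd_assoc] at h1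
    exact h1
  have hπY : ∀ {T : Over S} (g : T ⟶ G) (y : T ⟶ Y), lift g y ≫ aY.act ≫ πY = y ≫ πY := by
    intro T g y
    have h1 := congrArg (fun f => lift g y ≫ f) hQ.1
    rw [h1, lift_snd_assoc]
  have hπZ : ∀ {T : Over S} (h : T ⟶ H) (z : T ⟶ Z), lift h z ≫ aZ.act ≫ πZ = z ≫ πZ := by
    intro T h z
    have h1 := congrArg (fun f => lift h z ≫ f) hP.1
    rw [h1, lift_snd_assoc]
  have hone : ∀ {T : Over S} (z : T ⟶ Z), z ≫ lift (toUnit Z ≫ η[G]) (𝟙 Z) = lift 1 z := by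
    intro T z
    rw [comp_lift, Category.comp_id, Hom.one_def, ← Category.assoc,
      toUnit_unique (z ≫ toUnit Z) (toUnit T)]
  have hjπ : ∀ {T : Over S} (g : T ⟶ G) (z : T ⟶ Z),
      lift g z ≫ j ≫ πY = lift 1 z ≫ j ≫ πY := by
    intro T g z
    have h1 := hEq g 1 z
    rw [_root_.mul_one] at h1
    rw [← Category.assoc, h1, Category.assoc, hπY, Category.assoc]
  -- the map `φ`
  have hm₁ : GIT.IsInvariant aZ (lift (toUnit Z ≫ η[G]) (𝟙 Z) ≫ j ≫ πY) := by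
    apply AlgGrp.Action.hom_ext_lift₂
    intro T h z
    rw [← Category.assoc, ← Category.assoc, hone, lift_snd_assoc, ← Category.assoc z, hone]
    have h1 := hInv h (h ≫ i) z
    rw [mul_inv_cancel] at h1
    rw [← Category.assoc _ j, h1, Category.assoc, hjπ]
  obtain ⟨φ, hφ, -⟩ := hP.2 Q _ hm₁
  -- the map `ψ`
  have hm : ∀ {W : Over S} (p₁ p₂ : W ⟶ G ⊗ Z), p₁ ≫ j = p₂ ≫ j →
      p₁ ≫ snd G Z ≫ πZ = p₂ ≫ snd G Z ≫ πZ := by
    intro W p₁ p₂ e
    obtain ⟨h, hh, -⟩ := RelTorsor.existsUnique_of_isPullback hT p₁ p₂ e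
    have hp₂ : p₂ = lift (p₂ ≫ fst G Z) (p₂ ≫ snd G Z) := by
      apply CartesianMonoidalCategory.hom_ext <;> simp
    rw [hp₂, ChGrp.lift_twist_act] at hh
    rw [← hh, lift_snd_assoc, Category.assoc, hπZ, Category.assoc]
  obtain ⟨ψ, hψ, -⟩ := existsUnique_desc_over j hL' (snd G Z ≫ πZ) hm
  have : Epi j := epi_of_isLocallyTrivialFor j hL'
  have : Epi (G ◁ j) := epi_of_isLocallyTrivialFor _ (isLocallyTrivialFor_whiskerLeft G j hL')
  have hψinv : GIT.IsInvariant aY ψ := by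
    change aY.act ≫ ψ = snd G Y ≫ ψ
    rw [← cancel_epi (G ◁ j)]
    apply AlgGrp.Action.hom_ext_lift₂
    intro T g b
    have hb : b = lift (b ≫ fst G Z) (b ≫ snd G Z) := by
      apply CartesianMonoidalCategory.hom_ext <;> simp
    rw [lift_whiskerLeft_assoc, lift_whiskerLeft_assoc, lift_snd_assoc, Category.assoc, hψ]
    have h1 : lift g (b ≫ j) ≫ aY.act = lift (g * (b ≫ fst G Z)) (b ≫ snd G Z) ≫ j := by
      rw [hEq, ← hb]
    rw [← Category.assoc, h1, Category.assoc, hψ, lift_snd_assoc, Category.assoc]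
  obtain ⟨χ, hχ, -⟩ := hQ.2 P ψ hψinv
  refine ⟨φ, χ, ?_, ?_, hφ, ?_⟩
  · obtain ⟨c, -, hcu⟩ := hP.2 P πZ hP.1
    rw [hcu (φ ≫ χ) ?_, hcu (𝟙 P) (Category.comp_id _)]
    change πZ ≫ φ ≫ χ = πZ
    rw [← Category.assoc, hφ, Category.assoc, Category.assoc, hχ, hψ, lift_snd_assoc,
      Category.id_comp]
  · obtain ⟨c, -, hcu⟩ := hQ.2 Q πY hQ.1
    rw [hcu (χ ≫ φ) ?_, hcu (𝟙 Q) (Category.comp_id _)]
    change πY ≫ χ ≫ φ = πY
    rw [← Category.assoc, hχ, ← cancel_epi j, ← Category.assoc, hψ, Category.assoc, hφ]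
    apply AlgGrp.Action.hom_ext_lift₂
    intro T g z
    rw [lift_snd_assoc, ← Category.assoc z, hone, hjπ g z]
  · rw [hχ, hψ]

end Groth.Agent.Lib.Helper15.BalProdQuot
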