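-- helper15: a closed G-stable subscheme of a balanced product G x^H Z is a balanced product G x^H Z' (Z' = Z x_Y Y')
import Mathlib
import Groth.Prelude.Def_ChGrp
import Groth.Agent.Lib.Helper15BalProdQuot

set_option autoImplicit false
set_option linter.unusedSectionVars false
universe u
open CategoryTheory MonoidalCategory CartesianMonoidalCategory MonObj AlgebraicGeometry Limits

namespace Groth.Agent.Lib.Helper15.BalProdClosed

open Groth.Agent.Lib.Helper12 Groth.Agent.Lib.Helper12.BundleMap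

variable {S : Scheme.{u}}

/-- having sections locally for a topology stable under base change is stable under base change. -/
lemma isLocallyTrivialFor_of_isPullback' (K : Precoverage Scheme.{u}) [K.IsStableUnderBaseChange]
    [K.HasPullbacks]
    {T' T E Q : Scheme.{u}} {ρ : T' ⟶ T} {x : T' ⟶ E}
    {t : T ⟶ Q} {π : E ⟶ Q} (sq : IsPullback ρ x t π)
    (h : NonAbH1.IsLocallyTrivialFor K (Over.mk π : Over Q)) :
    NonAbH1.IsLocallyTrivialFor K (Over.mk ρ : Over T) := by
  obtain ⟨R, hR, hsec⟩ := h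
  refine ⟨R.pullbackArrows t, Precoverage.pullbackArrows_mem t hR, ?_⟩
  rintro W _ ⟨Z, k, hk⟩
  obtain ⟨σ, hσ⟩ := hsec k hk
  have hσ' : σ ≫ π = k := hσ
  refine ⟨sq.lift (pullback.snd k t) (pullback.fst k t ≫ σ) ?_, ?_⟩
  · rw [Category.assoc, hσ', pullback.condition]
  · exact sq.lift_fst _ _ _

theorem mono_whiskerLeft (G : Over S) {X Y : Over S} (c : X ⟶ Y) [Mono c] : Mono (G ◁ c) := by
  constructor
  intro T a b hab
  apply CartesianMonoidalCategory.hom_ext
  · have := congrArg (fun f => f ≫ fst G Y) hab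
    simpa using this
  · have := congrArg (fun f => f ≫ snd G Y) hab
    simp only [Category.assoc, whiskerLeft_snd] at this
    rw [← cancel_mono c, Category.assoc, Category.assoc, this]

variable {G H : Over S} [GrpObj G] [GrpObj H]

/-- transport of an action to a subobject stable under it. -/
noncomputable def actionOfMono {X X' : Over S} (a : AlgGrp.Action G X) (c : X' ⟶ X) [Mono c]
    (act' : G ⊗ X' ⟶ X') (h : act' ≫ c = (G ◁ c) ≫ a.act) : AlgGrp.Action G X' where
  act := act'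
  one_act := by
    rw [← cancel_mono c, Category.assoc, h, ← whisker_exchange_assoc, a.one_act]
    simp
  mul_act := by
    rw [← cancel_mono c]
    apply AlgGrp.Action.hom_ext_lift₃
    intro T g g' x
    simp only [Category.assoc]
    rw [h, lift_whiskerRight_assoc, lift_whiskerLeft_assoc, ← Hom.mul_def,
      lift_lift_associator_hom_assoc, lift_whiskerLeft_assoc, lift_whiskerLeft_assoc,
      Category.assoc, h, lift_whiskerLeft_assoc, a.lift_mul_act]

section Main

variable {Z Y Y' : Over S} (i : H ⟶ G) [IsMonHom i]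
  (aZ : AlgGrp.Action H Z) (aY : AlgGrp.Action G Y) (j : G ⊗ Z ⟶ Y)
  (K : Precoverage Scheme.{u})
  (hY : ChGrp.IsBalProd K i aZ aY j)
  (c : Y' ⟶ Y) (aY' : AlgGrp.Action G Y') (hc : AlgGrp.Action.IsEquivariant aY' aY c)

include hY in
theorem hEq {T : Over S} (g g' : T ⟶ G) (z : T ⟶ Z) :
    lift (g * g') z ≫ j = lift g (lift g' z ≫ j) ≫ aY.act := by
  have h1 := congrArg (fun f => lift g (lift g' z) ≫ f) hY.1
  rw [AlgGrp.Action.lift_prod_act_assoc, AlgGrp.Action.lift_trivial_act,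
    lift_whiskerLeft_assoc] at h1
  rw [← h1]
  congr 2

include hY in
theorem hInv {T : Over S} (h : T ⟶ H) (g : T ⟶ G) (z : T ⟶ Z) :
    lift (g * (h ≫ i)⁻¹) (lift h z ≫ aZ.act) ≫ j = lift g z ≫ j := by
  have h1 := congrArg (fun f => lift h (lift g z) ≫ f) hY.2.1.w
  rw [ChGrp.lift_twist_act_assoc, lift_snd_assoc] at h1
  exact h1

/-- the map `z ↦ j (1, z)`. -/
noncomputable def e : Z ⟶ Y := lift (toUnit Z ≫ η[G]) (𝟙 Z) ≫ j

theorem comp_e {T : Over S} (z : T ⟶ Z) : z ≫ e j = lift 1 z ≫ j := by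
  rw [e, ← Category.assoc, comp_lift, Category.comp_id, Hom.one_def, ← Category.assoc,
    toUnit_unique (z ≫ toUnit Z) (toUnit T)]

include hY in
theorem lift_j {T : Over S} (g : T ⟶ G) (z : T ⟶ Z) :
    lift g z ≫ j = lift g (z ≫ e j) ≫ aY.act := by
  have h1 := hEq i aZ aY j K hY g 1 z
  rw [_root_.mul_one] at h1
  rw [h1, comp_e]

include hY in
theorem act_e {T : Over S} (h : T ⟶ H) (z : T ⟶ Z) :
    (lift h z ≫ aZ.act) ≫ e j = lift (h ≫ i) (z ≫ e j) ≫ aY.act := by
  rw [comp_e]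
  have h1 := hInv i aZ aY j K hY h (h ≫ i) z
  rw [mul_inv_cancel] at h1
  rw [h1, lift_j i aZ aY j K hY]

include hc in
theorem act_c {T : Over S} (g : T ⟶ G) (y : T ⟶ Y') :
    (lift g y ≫ aY'.act) ≫ c = lift g (y ≫ c) ≫ aY.act := by
  have h1 := congrArg (fun f => lift g y ≫ f) hc
  rw [lift_whiskerLeft_assoc] at h1
  rw [Category.assoc]
  exact h1

/-- the closed subscheme `Z' = Z ×_Y Y'`. -/
noncomputable abbrev Z' : Over S := pullback (e j) c

noncomputable abbrev c' : Z' j c ⟶ Z := pullback.fst (e j) c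

noncomputable abbrev p : Z' j c ⟶ Y' := pullback.snd (e j) c

include hY hc in
theorem act'_cond :
    ((H ◁ c' j c) ≫ aZ.act) ≫ e j = ((i ▷ Z' j c) ≫ (G ◁ p j c) ≫ aY'.act) ≫ c := by
  apply AlgGrp.Action.hom_ext_lift₂
  intro T h z
  rw [← Category.assoc, lift_whiskerLeft_assoc, act_e i aZ aY j K hY]
  simp only [Category.assoc]
  rw [lift_whiskerRight_assoc, lift_whiskerLeft_assoc]
  have h1 := act_c aY c aY' hc (h ≫ i) (z ≫ p j c)
  rw [Category.assoc] at h1
  rw [h1, Category.assoc, pullback.condition]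

/-- the action on `Z'`. -/
noncomputable def act' (hY : ChGrp.IsBalProd K i aZ aY j)
    (hc : AlgGrp.Action.IsEquivariant aY' aY c) : H ⊗ Z' j c ⟶ Z' j c :=
  pullback.lift ((H ◁ c' j c) ≫ aZ.act) ((i ▷ Z' j c) ≫ (G ◁ p j c) ≫ aY'.act)
    (act'_cond i aZ aY j K hY c aY' hc)

variable [Mono c]

/-- the action of `H` on `Z'`. -/
noncomputable def aZ' (hY : ChGrp.IsBalProd K i aZ aY j)
    (hc : AlgGrp.Action.IsEquivariant aY' aY c) : AlgGrp.Action H (Z' j c) :=
  actionOfMono aZ (c' j c) (act' i aZ aY j K c aY' hY hc) (pullback.lift_fst _ _ _)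

theorem aZ'_c' : (aZ' i aZ aY j K c aY' hY hc).act ≫ c' j c = (H ◁ c' j c) ≫ aZ.act :=
  pullback.lift_fst _ _ _

theorem aZ'_p : (aZ' i aZ aY j K c aY' hY hc).act ≫ p j c =
    (i ▷ Z' j c) ≫ (G ◁ p j c) ≫ aY'.act :=
  pullback.lift_snd _ _ _

/-- the map `G × Z' ⟶ Y'`. -/
noncomputable def j' : G ⊗ Z' j c ⟶ Y' := (G ◁ p j c) ≫ aY'.act

theorem lift_j' {T : Over S} (g : T ⟶ G) (z : T ⟶ Z' j c) :
    lift g z ≫ j' j c aY' = lift g (z ≫ p j c) ≫ aY'.act := by
  rw [j', lift_whiskerLeft_assoc]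

include hY hc in
theorem j'_c : j' j c aY' ≫ c = (G ◁ c' j c) ≫ j := by
  apply AlgGrp.Action.hom_ext_lift₂
  intro T g z
  rw [← Category.assoc, lift_j', act_c aY c aY' hc, lift_whiskerLeft_assoc,
    lift_j i aZ aY j K hY, Category.assoc, Category.assoc, pullback.condition]

theorem equivariant_j' :
    AlgGrp.Action.IsEquivariant
      ((NonAbH1.trivialAction G).prod (AlgGrp.Action.trivial G (Z' j c))) aY' (j' j c aY') := by
  change _ ≫ _ = _ ≫ _
  apply AlgGrp.Action.hom_ext_lift₂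
  intro T g b
  have hb : b = lift (b ≫ fst G _) (b ≫ snd G _) := by
    apply CartesianMonoidalCategory.hom_ext <;> simp
  rw [hb, AlgGrp.Action.lift_prod_act_assoc, AlgGrp.Action.lift_trivial_act,
    lift_whiskerLeft_assoc, lift_j', lift_j']
  have h1 : lift g (b ≫ fst G (Z' j c)) ≫ (NonAbH1.trivialAction G).act =
      g * (b ≫ fst G (Z' j c)) := by
    change _ ≫ μ[G] = _
    rw [Hom.mul_def]
  rw [h1, aY'.lift_mul_act]

theorem twist_c' :
    (ChGrp.twist i (aZ' i aZ aY j K c aY' hY hc)).act ≫ (G ◁ c' j c) =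
      (H ◁ (G ◁ c' j c)) ≫ (ChGrp.twist i aZ).act := by
  apply AlgGrp.Action.hom_ext_lift₂
  intro T h b
  have hb : b = lift (b ≫ fst G _) (b ≫ snd G _) := by
    apply CartesianMonoidalCategory.hom_ext <;> simp
  rw [hb, ChGrp.lift_twist_act_assoc, lift_whiskerLeft_assoc, lift_whiskerLeft,
    lift_whiskerLeft, ChGrp.lift_twist_act, Category.assoc, aZ'_c', lift_whiskerLeft_assoc]

theorem torsor_j' :
    IsPullback (ChGrp.twist i (aZ' i aZ aY j K c aY' hY hc)).act (snd H (G ⊗ Z' j c))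
      (j' j c aY') (j' j c aY') := by
  have hmono : Mono (G ◁ c' j c) := mono_whiskerLeft G (c' j c)
  have hjc := j'_c i aZ aY j K hY c aY' hc
  apply RelTorsor.isPullback_of_existsUnique
  · rw [← cancel_mono c, Category.assoc, hjc, ← Category.assoc, twist_c', Category.assoc,
      hY.2.1.w, whiskerLeft_snd_assoc, Category.assoc, hjc]
  · intro T x₁ x₂ e12
    have e12' : (x₁ ≫ (G ◁ c' j c)) ≫ j = (x₂ ≫ (G ◁ c' j c)) ≫ j := by
      rw [Category.assoc, Category.assoc, ← hjc, ← Category.assoc, ← Category.assoc, e12]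
    obtain ⟨h, hh, hu⟩ := RelTorsor.existsUnique_of_isPullback hY.2.1 _ _ e12'
    refine ⟨h, ?_, ?_⟩
    · change lift h x₂ ≫ _ = x₁
      rw [← cancel_mono (G ◁ c' j c), Category.assoc, twist_c', lift_whiskerLeft_assoc]
      exact hh
    · intro h' hh'
      apply hu
      change lift h' x₂ ≫ _ = x₁ at hh'
      rw [← hh', Category.assoc, twist_c', lift_whiskerLeft_assoc]

include hY hc in
theorem sq_j' : IsPullback (j' j c aY') (G ◁ c' j c) c j := by
  have hmono : Mono (G ◁ c' j c) := mono_whiskerLeft G (c' j c)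
  refine isPullback_of_existsUnique_sq (j'_c i aZ aY j K hY c aY' hc) ?_
  intro T b a hba
  have ha : a = lift (a ≫ fst G Z) (a ≫ snd G Z) := by
    apply CartesianMonoidalCategory.hom_ext <;> simp
  generalize a ≫ fst G Z = g at ha
  generalize a ≫ snd G Z = z at ha
  subst ha
  have hcond : z ≫ e j = (lift g⁻¹ b ≫ aY'.act) ≫ c := by
    rw [act_c aY c aY' hc, hba, ← hEq i aZ aY j K hY, inv_mul_cancel, comp_e]
  refine ⟨lift g (pullback.lift z (lift g⁻¹ b ≫ aY'.act) hcond), ⟨?_, ?_⟩, ?_⟩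
  · rw [lift_j', pullback.lift_snd, ← aY'.lift_mul_act, mul_inv_cancel, aY'.lift_one_act]
  · rw [lift_whiskerLeft, pullback.lift_fst]
  · rintro x ⟨-, hx2⟩
    rw [← cancel_mono (G ◁ c' j c), hx2, lift_whiskerLeft, pullback.lift_fst]

include hY hc in
theorem locTriv_j' [K.IsStableUnderBaseChange] [K.HasPullbacks] :
    NonAbH1.IsLocallyTrivialFor K (Over.mk (j' j c aY').left : Over Y'.left) := by
  have h := (sq_j' i aZ aY j K hY c aY' hc).map (Over.forget S)
  exact isLocallyTrivialFor_of_isPullback' K h hY.2.2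

theorem isBalProd_j' [K.IsStableUnderBaseChange] [K.HasPullbacks] :
    ChGrp.IsBalProd K i (aZ' i aZ aY j K c aY' hY hc) aY' (j' j c aY') :=
  ⟨equivariant_j' j c aY', torsor_j' i aZ aY j K hY c aY' hc,
    locTriv_j' i aZ aY j K hY c aY' hc⟩

theorem isClosedImmersion_c' [IsClosedImmersion c.left] : IsClosedImmersion (c' j c).left := by
  have h := (IsPullback.of_hasPullback (e j) c).map (Over.forget S)
  exact MorphismProperty.of_isPullback (P := @IsClosedImmersion) h.flip ‹_›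

end Main

theorem main {G H Z Y Y' : Over S} [GrpObj G] [GrpObj H]
    (i : H ⟶ G) [IsMonHom i]
    (aZ : AlgGrp.Action H Z) (aY : AlgGrp.Action G Y) (j : G ⊗ Z ⟶ Y)
    (hY : ChGrp.IsBalProd Scheme.fppfPrecoverage i aZ aY j)
    (c : Y' ⟶ Y) [IsClosedImmersion c.left]
    (aY' : AlgGrp.Action G Y') (hc : AlgGrp.Action.IsEquivariant aY' aY c) :
    ∃ (Z' : Over S) (c' : Z' ⟶ Z) (aZ' : AlgGrp.Action H Z') (j' : G ⊗ Z' ⟶ Y'),
      IsClosedImmersion c'.left ∧ AlgGrp.Action.IsEquivariant aZ' aZ c' ∧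
      j' ≫ c = (G ◁ c') ≫ j ∧ ChGrp.IsBalProd Scheme.fppfPrecoverage i aZ' aY' j' := by
  have hmono : Mono c := by
    have : Mono ((Over.forget S).map c) := by
      change Mono c.left
      infer_instance
    exact (Over.forget S).mono_of_mono_map this
  exact ⟨Z' j c, c' j c, aZ' i aZ aY j _ c aY' hY hc, j' j c aY', isClosedImmersion_c' j c,
    aZ'_c' i aZ aY j _ hY c aY' hc, j'_c i aZ aY j _ hY c aY' hc,
    isBalProd_j' i aZ aY j _ hY c aY' hc⟩

end Groth.Agent.Lib.Helper15.BalProdClosed
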