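-- helper15: representability of fibre products over a sheaf with a chart whose kernel pair is an etale scheme, via effective descent of separated locally quasi-finite schemes.
import Mathlib
import Groth.Prelude.Def_AlgSp
import Groth.Prelude.Def_Desc
import Groth.Agent.Lib.Helper15EffDescA
import Groth.Agent.Lib.Helper15EffDescB
import Groth.Agent.Lib.Helper15DescFppf

set_option autoImplicit false
open CategoryTheory CategoryTheory.Limits AlgebraicGeometry Opposite

universe u

namespace Groth.Agent.Lib.Helper15BootRep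

open AlgSp

variable {S : Scheme.{u}}

section Prod

variable {A B : Over S} {Z : AlgSp.Sp S}

/-- maps into the sheaf of a product are determined by their components. -/
lemma yon_prod_hom_ext (m m' : Z ⟶ (AlgSp.yon S).obj (A ⨯ B))
    (h₁ : m ≫ (AlgSp.yon S).map prod.fst = m' ≫ (AlgSp.yon S).map prod.fst)
    (h₂ : m ≫ (AlgSp.yon S).map prod.snd = m' ≫ (AlgSp.yon S).map prod.snd) : m = m' := by
  rw [← cancel_mono (prodComparison (AlgSp.yon S) A B)]
  apply Limits.prod.hom_ext
  · simpa [prodComparison_fst] using h₁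
  · simpa [prodComparison_snd] using h₂

/-- the map into the sheaf of a product with given components. -/
noncomputable def yonProdLift (m₁ : Z ⟶ (AlgSp.yon S).obj A) (m₂ : Z ⟶ (AlgSp.yon S).obj B) :
    Z ⟶ (AlgSp.yon S).obj (A ⨯ B) :=
  prod.lift m₁ m₂ ≫ inv (prodComparison (AlgSp.yon S) A B)

@[simp] lemma yonProdLift_fst (m₁ : Z ⟶ (AlgSp.yon S).obj A) (m₂ : Z ⟶ (AlgSp.yon S).obj B) :
    yonProdLift m₁ m₂ ≫ (AlgSp.yon S).map prod.fst = m₁ := by
  unfold yonProdLift
  rw [Category.assoc, inv_prodComparison_map_fst, prod.lift_fst]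

@[simp] lemma yonProdLift_snd (m₁ : Z ⟶ (AlgSp.yon S).obj A) (m₂ : Z ⟶ (AlgSp.yon S).obj B) :
    yonProdLift m₁ m₂ ≫ (AlgSp.yon S).map prod.snd = m₂ := by
  unfold yonProdLift
  rw [Category.assoc, inv_prodComparison_map_snd, prod.lift_snd]

end Prod

/-- the second projection analogue of `IsPullback.of_prod_fst_with_id`. -/
lemma isPullback_prod_snd_with_id {C : Type*} [Category C] {A B : C} (f : A ⟶ B) (X : C)
    [HasBinaryProduct X A] [HasBinaryProduct X B] :
    IsPullback prod.snd (prod.map (𝟙 X) f) f prod.snd := by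
  refine IsPullback.mk' (by rw [prod.map_snd]) (fun T φ φ' h₁ h₂ => ?_) (fun T a b hab => ?_)
  · apply Limits.prod.hom_ext
    · have := congrArg (· ≫ prod.fst) h₂
      simp only [Category.assoc, prod.map_fst, Category.comp_id] at this
      exact this
    · exact h₁
  · refine ⟨prod.lift (b ≫ prod.fst) a, prod.lift_snd _ _, ?_⟩
    apply Limits.prod.hom_ext
    · rw [Category.assoc, prod.map_fst, Category.comp_id, prod.lift_fst]
    · rw [Category.assoc, prod.map_snd, ← Category.assoc, prod.lift_snd, hab]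

section R

variable {T T' X' : Over S} {p : T' ⟶ T} {x' : X' ⟶ T'} {E : AlgSp.Sp S}
  {e₂ : E ⟶ (AlgSp.yon S).obj T} {θ : (AlgSp.yon S).obj X' ⟶ E}

/-- a sheaf over a scheme which becomes representable by a separated locally quasi-finite scheme
after an fppf base change is representable. -/
theorem exists_rep_of_qf (sqθ : IsPullback θ ((AlgSp.yon S).map x') e₂ ((AlgSp.yon S).map p))
    [Surjective p.left] [Flat p.left] [LocallyOfFinitePresentation p.left]
    [IsSeparated x'.left] [LocallyQuasiFinite x'.left] [LocallyOfFiniteType x'.left] :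
    ∃ (W : Over S) (w : W ⟶ T) (c : (AlgSp.yon S).obj W ⟶ E), IsIso c ∧
      c ≫ e₂ = (AlgSp.yon S).map w := by
  have h1 : IsSeparated (Groth.Agent.Lib.Helper15EffDescA.dd sqθ).obj.hom := by
    change IsSeparated x'.left; infer_instance
  have h2 : LocallyQuasiFinite (Groth.Agent.Lib.Helper15EffDescA.dd sqθ).obj.hom := by
    change LocallyQuasiFinite x'.left; infer_instance
  have h3 : LocallyOfFiniteType (Groth.Agent.Lib.Helper15EffDescA.dd sqθ).obj.hom := by
    change LocallyOfFiniteType x'.left; infer_instance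
  obtain ⟨W₀, ⟨i⟩⟩ := Groth.Agent.Lib.Helper15DescFppf.effective_of_qf p.left
    (Groth.Agent.Lib.Helper15EffDescA.dd sqθ)
  exact Groth.Agent.Lib.Helper15EffDescB.exists_rep sqθ W₀ i

end R


section Core


variable {F : AlgSp.Sp S} {U R : Over S} (p : (AlgSp.yon S).obj U ⟶ F) (s t : R ⟶ U)
  (sqR : IsPullback ((AlgSp.yon S).map t) ((AlgSp.yon S).map s) p p)
  {T B T₁ B₁ : Over S} (a : (AlgSp.yon S).obj T ⟶ F) (b : (AlgSp.yon S).obj B ⟶ F)
  (t₁ : T₁ ⟶ T) (u₁ : T₁ ⟶ U) (ha : (AlgSp.yon S).map t₁ ≫ a = (AlgSp.yon S).map u₁ ≫ p)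
  (b₁ : B₁ ⟶ B) (v₁ : B₁ ⟶ U) (hb : (AlgSp.yon S).map b₁ ≫ b = (AlgSp.yon S).map v₁ ≫ p)

include sqR ha hb in
/-- fibre products of schemes over a sheaf with a chart whose kernel pair is an etale scheme are
representable, when the two maps lift to the chart after fppf covers. -/
theorem exists_isPullback_of_lifts [Etale s.left]
    [Surjective t₁.left] [Flat t₁.left] [LocallyOfFinitePresentation t₁.left]
    [Surjective b₁.left] [Flat b₁.left] [LocallyOfFinitePresentation b₁.left] :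
    ∃ (W : Over S) (w₁ : W ⟶ T) (w₂ : W ⟶ B), IsPullback ((AlgSp.yon S).map w₁) ((AlgSp.yon S).map w₂) a b := by
  obtain ⟨jR, hjR⟩ : ∃ jR : R ⟶ U ⨯ U, jR = prod.lift t s := ⟨_, rfl⟩
  have hj1 : jR ≫ prod.fst = t := by rw [hjR, prod.lift_fst]
  have hj2 : jR ≫ prod.snd = s := by rw [hjR, prod.lift_snd]
  obtain ⟨kk, hkk⟩ : ∃ kk : T₁ ⨯ B₁ ⟶ U ⨯ U, kk = prod.map u₁ v₁ := ⟨_, rfl⟩
  have hk1 : kk ≫ prod.fst = prod.fst ≫ u₁ := by rw [hkk, prod.map_fst]
  have hk2 : kk ≫ prod.snd = prod.snd ≫ v₁ := by rw [hkk, prod.map_snd]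
  obtain ⟨p₀, hp₀⟩ : ∃ p₀ : T₁ ⨯ B₁ ⟶ T ⨯ B, p₀ = prod.map t₁ b₁ := ⟨_, rfl⟩
  have hp1 : p₀ ≫ prod.fst = prod.fst ≫ t₁ := by rw [hp₀, prod.map_fst]
  have hp2 : p₀ ≫ prod.snd = prod.snd ≫ b₁ := by rw [hp₀, prod.map_snd]
  obtain ⟨X', x', rr, sqX⟩ : ∃ (X' : Over S) (x' : X' ⟶ T₁ ⨯ B₁) (rr : X' ⟶ R),
      IsPullback x' rr kk jR := ⟨_, _, _, IsPullback.of_hasPullback kk jR⟩
  have sqXh : IsPullback ((AlgSp.yon S).map x') ((AlgSp.yon S).map rr) ((AlgSp.yon S).map kk) ((AlgSp.yon S).map jR) := sqX.map (AlgSp.yon S)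
  -- the sheaf `E` and its map to the product
  obtain ⟨e₂, he₂⟩ : ∃ e₂ : pullback a b ⟶ (AlgSp.yon S).obj (T ⨯ B),
      e₂ = yonProdLift (pullback.fst a b) (pullback.snd a b) := ⟨_, rfl⟩
  have he₂1 : e₂ ≫ (AlgSp.yon S).map prod.fst = pullback.fst a b := by rw [he₂, yonProdLift_fst]
  have he₂2 : e₂ ≫ (AlgSp.yon S).map prod.snd = pullback.snd a b := by rw [he₂, yonProdLift_snd]
  -- compatibilities
  have hrt : rr ≫ t = x' ≫ prod.fst ≫ u₁ := by
    rw [← hj1, ← Category.assoc, ← sqX.w, Category.assoc, hk1]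
  have hrs : rr ≫ s = x' ≫ prod.snd ≫ v₁ := by
    rw [← hj2, ← Category.assoc, ← sqX.w, Category.assoc, hk2]
  have hθc : (AlgSp.yon S).map (x' ≫ prod.fst ≫ t₁) ≫ a = (AlgSp.yon S).map (x' ≫ prod.snd ≫ b₁) ≫ b := by
    have e1 : (AlgSp.yon S).map (x' ≫ prod.fst ≫ t₁) ≫ a = (AlgSp.yon S).map (rr ≫ t) ≫ p := by
      rw [hrt]
      simp only [Functor.map_comp, Category.assoc]
      rw [ha]
    have e2 : (AlgSp.yon S).map (x' ≫ prod.snd ≫ b₁) ≫ b = (AlgSp.yon S).map (rr ≫ s) ≫ p := by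
      rw [hrs]
      simp only [Functor.map_comp, Category.assoc]
      rw [hb]
    rw [e1, e2, Functor.map_comp, Functor.map_comp, Category.assoc, Category.assoc, sqR.w]
  obtain ⟨θ, hθ⟩ : ∃ θ : (AlgSp.yon S).obj X' ⟶ pullback a b, θ = pullback.lift _ _ hθc := ⟨_, rfl⟩
  have hθ1 : θ ≫ pullback.fst a b = (AlgSp.yon S).map (x' ≫ prod.fst ≫ t₁) := by
    rw [hθ, pullback.lift_fst]
  have hθ2 : θ ≫ pullback.snd a b = (AlgSp.yon S).map (x' ≫ prod.snd ≫ b₁) := by
    rw [hθ, pullback.lift_snd]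
  have sqθ : IsPullback θ ((AlgSp.yon S).map x') e₂ ((AlgSp.yon S).map p₀) := by
    refine IsPullback.mk' ?_ ?_ ?_
    · apply yon_prod_hom_ext
      · rw [Category.assoc, he₂1, hθ1, Category.assoc, ← Functor.map_comp, hp1,
          ← Functor.map_comp]
      · rw [Category.assoc, he₂2, hθ2, Category.assoc, ← Functor.map_comp, hp2,
          ← Functor.map_comp]
    · intro Z φ φ' h1 h2
      apply sqXh.hom_ext h2
      apply sqR.hom_ext
      · rw [Category.assoc, Category.assoc, ← Functor.map_comp, hrt, Functor.map_comp,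
          ← Category.assoc, h2, Category.assoc]
      · rw [Category.assoc, Category.assoc, ← Functor.map_comp, hrs, Functor.map_comp,
          ← Category.assoc, h2, Category.assoc]
    · intro Z z₁ z₂ hz
      have hz1 : z₁ ≫ pullback.fst a b = z₂ ≫ (AlgSp.yon S).map (prod.fst ≫ t₁) := by
        rw [← he₂1, ← Category.assoc, hz, Category.assoc, ← Functor.map_comp, hp1]
      have hz2 : z₁ ≫ pullback.snd a b = z₂ ≫ (AlgSp.yon S).map (prod.snd ≫ b₁) := by
        rw [← he₂2, ← Category.assoc, hz, Category.assoc, ← Functor.map_comp, hp2]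
      have hrc : (z₂ ≫ (AlgSp.yon S).map (prod.fst ≫ u₁)) ≫ p = (z₂ ≫ (AlgSp.yon S).map (prod.snd ≫ v₁)) ≫ p := by
        calc (z₂ ≫ (AlgSp.yon S).map (prod.fst ≫ u₁)) ≫ p
            = (z₂ ≫ (AlgSp.yon S).map (prod.fst ≫ t₁)) ≫ a := by
              simp only [Functor.map_comp, Category.assoc]; rw [ha]
          _ = (z₁ ≫ pullback.fst a b) ≫ a := by rw [hz1]
          _ = (z₁ ≫ pullback.snd a b) ≫ b := by
              rw [Category.assoc, pullback.condition, Category.assoc]
          _ = (z₂ ≫ (AlgSp.yon S).map (prod.snd ≫ b₁)) ≫ b := by rw [hz2]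
          _ = (z₂ ≫ (AlgSp.yon S).map (prod.snd ≫ v₁)) ≫ p := by
              simp only [Functor.map_comp, Category.assoc]; rw [hb]
      obtain ⟨r, hr1, hr2⟩ : ∃ r : Z ⟶ (AlgSp.yon S).obj R, r ≫ (AlgSp.yon S).map t = z₂ ≫ (AlgSp.yon S).map (prod.fst ≫ u₁) ∧
          r ≫ (AlgSp.yon S).map s = z₂ ≫ (AlgSp.yon S).map (prod.snd ≫ v₁) :=
        ⟨sqR.lift _ _ hrc, sqR.lift_fst _ _ hrc, sqR.lift_snd _ _ hrc⟩
      have hmc : z₂ ≫ (AlgSp.yon S).map kk = r ≫ (AlgSp.yon S).map jR := by
        apply yon_prod_hom_ext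
        · rw [Category.assoc, Category.assoc, ← Functor.map_comp, ← Functor.map_comp, hk1, hj1,
            hr1]
        · rw [Category.assoc, Category.assoc, ← Functor.map_comp, ← Functor.map_comp, hk2, hj2,
            hr2]
      refine ⟨sqXh.lift z₂ r hmc, ?_, sqXh.lift_fst _ _ hmc⟩
      apply pullback.hom_ext
      · rw [Category.assoc, hθ1, hz1, Functor.map_comp, ← Category.assoc, sqXh.lift_fst]
      · rw [Category.assoc, hθ2, hz2, Functor.map_comp, ← Category.assoc, sqXh.lift_fst]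
  -- the cover
  have hp₀fac : p₀ = prod.map t₁ (𝟙 B₁) ≫ prod.map (𝟙 T) b₁ := by
    rw [hp₀, prod.map_map, Category.comp_id, Category.id_comp]
  have sq1 : IsPullback (prod.fst : T₁ ⨯ B₁ ⟶ T₁).left (prod.map t₁ (𝟙 B₁)).left t₁.left
      (prod.fst : T ⨯ B₁ ⟶ T).left :=
    (IsPullback.of_prod_fst_with_id t₁ B₁).map (Over.forget S)
  have sq2 : IsPullback (prod.snd : T ⨯ B₁ ⟶ B₁).left (prod.map (𝟙 T) b₁).left b₁.left
      (prod.snd : T ⨯ B ⟶ B).left :=
    (isPullback_prod_snd_with_id b₁ T).map (Over.forget S)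
  have hp₀l : p₀.left = (prod.map t₁ (𝟙 B₁)).left ≫ (prod.map (𝟙 T) b₁).left := by
    rw [hp₀fac]; rfl
  have c1 : Surjective p₀.left := by
    rw [hp₀l]
    have := MorphismProperty.of_isPullback (P := @Surjective) sq1 inferInstance
    have := MorphismProperty.of_isPullback (P := @Surjective) sq2 inferInstance
    infer_instance
  have c2 : Flat p₀.left := by
    rw [hp₀l]
    have := MorphismProperty.of_isPullback (P := @Flat) sq1 inferInstance
    have := MorphismProperty.of_isPullback (P := @Flat) sq2 inferInstance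
    infer_instance
  have c3 : LocallyOfFinitePresentation p₀.left := by
    rw [hp₀l]
    have := MorphismProperty.of_isPullback (P := @LocallyOfFinitePresentation) sq1 inferInstance
    have := MorphismProperty.of_isPullback (P := @LocallyOfFinitePresentation) sq2 inferInstance
    infer_instance
  -- the scheme over the cover
  have hjmono : Mono jR := by
    refine ⟨fun {Z} m m' hmm => ?_⟩
    apply (AlgSp.yon S).map_injective
    apply sqR.hom_ext
    · rw [← Functor.map_comp, ← Functor.map_comp, ← hj1, ← Category.assoc, hmm, Category.assoc]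
    · rw [← Functor.map_comp, ← Functor.map_comp, ← hj2, ← Category.assoc, hmm, Category.assoc]
  have hjl_mono : Mono jR.left := inferInstance
  have hjl_lft : LocallyOfFiniteType jR.left := by
    have e : jR.left ≫ (prod.snd : U ⨯ U ⟶ U).left = s.left := by
      rw [← Over.comp_left, hj2]
    have : LocallyOfFiniteType (jR.left ≫ (prod.snd : U ⨯ U ⟶ U).left) := by
      rw [e]; infer_instance
    exact locallyOfFiniteType_of_comp jR.left (prod.snd : U ⨯ U ⟶ U).left
  have sqXl : IsPullback rr.left x'.left jR.left kk.left := (sqX.map (Over.forget S)).flip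
  have d1 : Mono x'.left :=
    MorphismProperty.of_isPullback (P := MorphismProperty.monomorphisms Scheme.{u}) sqXl hjl_mono
  have d2 : LocallyOfFiniteType x'.left :=
    MorphismProperty.of_isPullback (P := @LocallyOfFiniteType) sqXl hjl_lft
  have d3 : IsSeparated x'.left := inferInstance
  have d4 : LocallyQuasiFinite x'.left := inferInstance
  obtain ⟨W, w, c, hc, hce⟩ := exists_rep_of_qf sqθ
  refine ⟨W, w ≫ prod.fst, w ≫ prod.snd, ?_⟩
  have hcinv : inv c ≫ (AlgSp.yon S).map w = e₂ := by rw [← hce, IsIso.inv_hom_id_assoc]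
  refine IsPullback.of_iso (IsPullback.of_hasPullback a b) (asIso c).symm (Iso.refl _)
    (Iso.refl _) (Iso.refl _) ?_ ?_ (by simp) (by simp)
  · simp only [Iso.symm_hom, asIso_inv, Iso.refl_hom, Category.comp_id]
    rw [Functor.map_comp, ← Category.assoc, hcinv, he₂1]
  · simp only [Iso.symm_hom, asIso_inv, Iso.refl_hom, Category.comp_id]
    rw [Functor.map_comp, ← Category.assoc, hcinv, he₂2]

end Core

end Groth.Agent.Lib.Helper15BootRep
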