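-- helper15: cancellation for functors representable by algebraic spaces with a property having the weak cancellation property
import Mathlib
import Groth.Agent.Lib.Helper15DiagCancel

set_option autoImplicit false
set_option backward.isDefEq.respectTransparency false
set_option backward.isDefEq.respectTransparency.types false
open CategoryTheory CategoryTheory.Functor CategoryTheory.Limits Opposite AlgebraicGeometry

universe u

namespace Groth.Agent.Lib.Helper15Cancel2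

open Groth.Agent.Lib.Helper17 Groth.Agent.Lib.Helper15PshFib Groth.Agent.Lib.Helper15RepComp
  Groth.Agent.Lib.Helper15RepPsh Groth.Agent.Lib.Helper15DiagBase Groth.Agent.Lib.Helper15DiagRepSp
  Groth.Agent.Lib.Helper15Descent Groth.Agent.Lib.Helper15DiagLft
  Groth.Agent.Lib.Helper15DiagDescent Groth.Agent.Lib.Helper15SpMapRep
  Groth.Agent.Lib.Helper15SrcCancel Groth.Agent.Lib.Helper15ChartSp Groth.Agent.Lib.Helper15Atlas
  Groth.Agent.Lib.Helper15LocEss Groth.Agent.Lib.Helper15UnivComp Groth.Agent.Lib.Helper15SmLoc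
  Groth.Agent.Lib.Helper15PtsComp Groth.Agent.Lib.Helper15PtsTop Groth.Agent.Lib.Helper15PtsQc
  Groth.Agent.Lib.Helper15FpSwap Groth.Agent.Lib.Helper15QcLocal Groth.Agent.Lib.Helper15ClosedQc
  Groth.Agent.Lib.Helper15UnivPts Groth.Agent.Lib.Helper15BaseChange
  Groth.Agent.Lib.Helper15BaseChange2
  Groth.Agent.Lib.Helper15MonoSep Groth.Agent.Lib.Helper15LocQ Groth.Agent.Lib.Helper15LocQEngine
  Groth.Agent.Lib.Helper15LocQProps Groth.Agent.Lib.Helper15LocQSpace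
  Groth.Agent.Lib.Helper15LocQSpace2 Groth.Agent.Lib.Helper15LocQRep
  Groth.Agent.Lib.Helper15LocQComp Groth.Agent.Lib.Helper15GoodComp
  Groth.Agent.Lib.Helper15LocQCancel Groth.Agent.Lib.Helper15LocQBC
  Groth.Agent.Lib.Helper15LocQDiag Groth.Agent.Lib.Helper15LocQDescent
  Groth.Agent.Lib.Helper15RepDescent Groth.Agent.Lib.Helper15QcDescent
  Groth.Agent.Lib.Helper15FppfLiftFam Groth.Agent.Lib.Helper15ValLift
  Groth.Agent.Lib.Helper15ValWit Groth.Agent.Lib.Helper15QcRep Groth.Agent.Lib.Helper15UnivComp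
  Groth.Agent.Lib.Helper15QcQs Groth.Agent.Lib.Helper15QcProd Groth.Agent.Lib.Helper15.DiagBC
  Groth.Agent.Lib.Helper15UnivInjDiag Groth.Agent.Lib.Helper15DiagSq
  Groth.Agent.Lib.Helper15PshPb Groth.Agent.Lib.Helper15DiagBridge Groth.Agent.Lib.Helper15DiagApps Groth.Agent.Lib.Helper15DiagCancel
  Groth.Agent.Lib.Helper15DiagComp Groth.Agent.Lib.Helper15QsComp Groth.Agent.Lib.Helper15MonoFF














section Cancel2

variable {S : Scheme.{u}} {𝒜 ℬ 𝒞 : AlgSt.Cat S}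

/-- Cancellation for functors between categories representable by algebraic spaces, over a
slice, for properties with the weak cancellation property. -/
theorem repByAlgSpWith_of_comp_to_slice' (Q : MorphismProperty (AlgSp.Sp S)) (hQb : BCStable Q)
    (hcancel : ∀ ⦃X Y Z : AlgSp.Sp S⦄, AlgSp.IsAlgSpace X → AlgSp.IsAlgSpace Y → AlgSp.IsAlgSpace Z →
      ∀ (a : X ⟶ Y) (b : Y ⟶ Z), Q b → Q (a ≫ b) → Q a)
    (h𝒜 : AlgSt.RepByAlgSp 𝒜) (hℬ : AlgSt.RepByAlgSp ℬ) (r : 𝒜 ⥤ᵇ ℬ) {T : Over S}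
    (p : ℬ ⥤ᵇ FibCat.overCat T) (hp : AlgSt.RepByAlgSpWith Q p)
    (h : AlgSt.RepByAlgSpWith Q (BasedFunctor.comp r p)) :
    AlgSt.RepByAlgSpWith Q r := by
  obtain ⟨A, eA, heA⟩ := h𝒜
  obtain ⟨B, eB, heB⟩ := hℬ
  obtain ⟨eB', heB', -, ⟨β⟩⟩ := IsEquivOver.exists_inverse_isEquivOver' eB heB
  let r' : AlgSt.ofSp A.obj ⥤ᵇ AlgSt.ofSp B.obj :=
    BasedFunctor.comp eA (BasedFunctor.comp r eB')
  let a₀ : A.obj ⟶ B.obj := ObjectProperty.homMk (pshMapOf r')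
  let a : A ⟶ B := ObjectProperty.homMk a₀
  let σ : BasedFunctor.comp (AlgSt.ofSpMap a₀) eB ≅ BasedFunctor.comp eA r :=
    (whiskerRightIso (ofPshMapIso r') eB : _ ≅
      BasedFunctor.comp (BasedFunctor.comp eA r) (BasedFunctor.comp eB' eB)) ≪≫
    whiskerLeftIso (BasedFunctor.comp eA r) β
  have hb : Q (AlgSt.spMapOfOver (BasedFunctor.comp eB p)) :=
    prop_spMapOfOver_of_repByAlgSpWith Q hQb p hp B eB heB
  have h1 : Q (a₀ ≫ AlgSt.spMapOfOver (BasedFunctor.comp eB p)) := by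
    rw [← spMapOfOver_ofSpMap_comp]
    have h2 := spMapOfOver_eq_of_iso
      (BasedFunctor.comp (AlgSt.ofSpMap a₀) (BasedFunctor.comp eB p))
      (BasedFunctor.comp eA (BasedFunctor.comp r p)) (whiskerRightIso σ p)
    rw [h2]
    exact prop_spMapOfOver_of_repByAlgSpWith Q hQb _ h A eA heA
  have h3 : Q a.hom :=
    hcancel A.property B.property (AlgSp.IsAlgSpace.yon_obj T) a₀ _ hb h1
  have h4 : AlgSt.RepByAlgSpWith Q (AlgSt.ofSpMap a.hom) := repByAlgSpWith_ofSpMap Q hQb A B a h3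
  exact (repByAlgSpWith_of_square Q r (AlgSt.ofSpMap a₀) eA eB heA heB σ).2 h4

/-- Cancellation: if `b` and `a ⋙ b` are representable by algebraic spaces with `Q`, so
is `a`. -/
theorem repByAlgSpWith_cancel (Q : MorphismProperty (AlgSp.Sp S)) (hQb : BCStable Q)
    (hcancel : ∀ ⦃X Y Z : AlgSp.Sp S⦄, AlgSp.IsAlgSpace X → AlgSp.IsAlgSpace Y → AlgSp.IsAlgSpace Z →
      ∀ (a : X ⟶ Y) (b : Y ⟶ Z), Q b → Q (a ≫ b) → Q a)
    (a : 𝒜 ⥤ᵇ ℬ) (b : ℬ ⥤ᵇ 𝒞) (hb : AlgSt.RepByAlgSpWith Q b)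
    (hab : AlgSt.RepByAlgSpWith Q (BasedFunctor.comp a b)) : AlgSt.RepByAlgSpWith Q a := by
  apply repByAlgSpWith_of_forall_lift
  intro U y
  let y' : FibCat.overCat U ⥤ᵇ 𝒞 := BasedFunctor.comp y b
  let z : FibCat.fp y' b ⥤ᵇ ℬ := FibCat.fpSnd y' b
  let t : FibCat.overCat U ⥤ᵇ FibCat.fp y' b :=
    FibCat.fpLift (BasedFunctor.id _) y (Iso.refl _)
  refine ⟨FibCat.fp y' b, z, t, ⟨Iso.refl _⟩, ?_⟩
  have hB : AlgSt.RepByAlgSp (FibCat.fp y' b) := by
    obtain ⟨G, e, he, -⟩ := hb U y'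
    exact ⟨G, e, he⟩
  have hpR := isEquivOver_pasteR y' a b
  have hA : AlgSt.RepByAlgSp (FibCat.fp z a) := by
    obtain ⟨H, e, he, -⟩ := hab U y'
    obtain ⟨I, hI, -, -⟩ := IsEquivOver.exists_inverse_isEquivOver' _ hpR
    exact ⟨H, BasedFunctor.comp e I, IsEquivOver.comp _ _ he hI⟩
  refine repByAlgSpWith_of_comp_to_slice' Q hQb hcancel hA hB (FibCat.fpFst z a)
    (FibCat.fpFst y' b) (repByAlgSpWith_fpFst Q b y' hb) ?_
  exact (repByAlgSpWith_of_square Q (FibCat.fpFst y' (BasedFunctor.comp a b))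
    (BasedFunctor.comp (FibCat.fpFst z a) (FibCat.fpFst y' b)) (pasteR y' a b)
    (BasedFunctor.id _) hpR (isEquivOver_id _) (Iso.refl _)).1
    (repByAlgSpWith_fpFst Q (BasedFunctor.comp a b) y' hab)

/-- Cancellation for the diagonal. -/
theorem repByAlgSpWith_diag_cancel {𝒳 𝒴 𝒵 : AlgSt.Cat S} (Q : MorphismProperty (AlgSp.Sp S))
    (hQb : BCStable Q)
    (hcancel : ∀ ⦃X Y Z : AlgSp.Sp S⦄, AlgSp.IsAlgSpace X → AlgSp.IsAlgSpace Y → AlgSp.IsAlgSpace Z →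
      ∀ (a : X ⟶ Y) (b : Y ⟶ Z), Q b → Q (a ≫ b) → Q a)
    (f : 𝒳 ⥤ᵇ 𝒴) (g : 𝒴 ⥤ᵇ 𝒵) (hg : AlgSt.RepByAlgSpWith Q (FibCat.diag g))
    (hgf : AlgSt.RepByAlgSpWith Q (FibCat.diag (BasedFunctor.comp f g))) :
    AlgSt.RepByAlgSpWith Q (FibCat.diag f) := by
  refine repByAlgSpWith_cancel Q hQb hcancel (FibCat.diag f) (toRel f f g)
    (repByAlgSpWith_toRel Q f f g hg) ?_
  exact (repByAlgSpWith_of_square Q (FibCat.diag (BasedFunctor.comp f g))
    (BasedFunctor.comp (FibCat.diag f) (toRel f f g)) (BasedFunctor.id _) (BasedFunctor.id _)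
    (isEquivOver_id _) (isEquivOver_id _) (diagCompIso f g)).1 hgf

end Cancel2

end Groth.Agent.Lib.Helper15Cancel2
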