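-- helper15: families of characters of a constant group are the points of the diagonalisable group on its abelianisation
import Mathlib
import Groth.Agent.Lib.Helper15CharRepA
import Groth.Agent.Lib.Helper15HomRepB
set_option autoImplicit false
universe u
open CategoryTheory CategoryTheory.Limits AlgebraicGeometry MonoidalCategory
  CartesianMonoidalCategory MonObj GrpObj Opposite

namespace Groth.Agent.Lib.Helper15CharRep

open Groth.Agent.Lib.Helper11ConstPtsU Groth.Agent.Lib.Helper15HomRep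

section Labels

variable (M : Type) [Group M]

/-- the character group of the dual of the constant group on `M`: the abelianisation of `M`,
written additively. -/
abbrev Mab : Type := Additive (Abelianization M)

/-- the character of the dual attached to an element of the group. -/
def lbl (m : M) : Mab M := Additive.ofMul (Abelianization.of m)

lemma lbl_mul (m n : M) : lbl M (m * n) = lbl M m + lbl M n := by
  unfold lbl
  rw [map_mul]
  rfl

lemma lbl_surjective : Function.Surjective (lbl M) := by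
  intro x
  obtain ⟨m, hm⟩ := QuotientGroup.mk_surjective (Additive.toMul x)
  exact ⟨m, congrArg Additive.ofMul hm⟩

end Labels

section Pieces

/-- the piece of label `m` (universe levels fixed). -/
noncomputable abbrev pc {U : Scheme.{u}} (M : Type) {Y : Over U} (z : Y ⟶ TwC.const U M) (m : M) :
    Y.left.Opens := piece.{u, 0} M z m

variable {U : Scheme.{u}} (M : Type) {Y Z : Over U} (z : Y ⟶ TwC.const U M)

lemma resι_pc_comp (m : M) : resι Y (pc M z m) ≫ z = cpt M (res Y (pc M z m)) m := by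
  apply eq_cpt_of_le
  intro t
  show (pc M z m).ι t ∈ pc M z m
  exact t.2

lemma exists_mem_piece (y : Y.left) : ∃ m, y ∈ pc M z m := by
  have hy : y ∈ (⨆ m, pc M z m) := by
    show y ∈ (⨆ m, piece.{u, 0} M z m)
    rw [iSup_piece M z]; trivial
  exact TopologicalSpace.Opens.mem_iSup.mp hy

/-- morphisms defined on the pieces of a scheme over a constant scheme glue. -/
lemma exists_glue_pieces (f : ∀ m : M, res Y (pc M z m) ⟶ Z) :
    ∃ F : Y ⟶ Z, ∀ m, resι Y (pc M z m) ≫ F = f m := by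
  obtain ⟨F, hF⟩ := exists_glue_disjoint (I := ULift.{u} M) (fun i => pc M z i.down)
    (by
      show (⨆ i : ULift.{u} M, pc M z i.down) = ⊤
      rw [eq_top_iff, ← iSup_piece M z]
      exact iSup_le fun m => le_iSup (fun i : ULift.{u} M => pc M z i.down) ⟨m⟩)
    (by
      intro i i' hii'
      rw [eq_bot_iff]
      intro x hx
      exact (piece_disjoint M z i.down i'.down (fun h => hii' (ULift.ext _ _ h)) x hx.1 hx.2).elim)
    (fun i => f i.down)
  exact ⟨F, fun m => hF ⟨m⟩⟩

lemma comp_cpt' {T T' : Over U} (a : T' ⟶ T) (m : M) : a ≫ cpt M T m = cpt M T' m := by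
  unfold cpt
  rw [← Category.assoc]
  congr 1
  exact toUnit_unique _ _

end Pieces

section Local

variable {U : Scheme.{u}} (K : Over U) [GrpObj K] (M : Type) [Group M] (e : K ≅ TwC.const U M)

/-- on the piece of label `m` a point of the group is the constant point of label `m`. -/
lemma eq_cpt_inv {Y : Over U} (k : Y ⟶ K) (m : M) :
    resι Y (pc M (k ≫ e.hom) m) ≫ k = cpt M (res Y (pc M (k ≫ e.hom) m)) m ≫ e.inv := by
  rw [← resι_pc_comp M (k ≫ e.hom) m, Category.assoc, Category.assoc, e.hom_inv_id,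
    Category.comp_id]

/-- equality of morphisms may be checked where a given point of the group is constant. -/
lemma hom_ext_of_pieces {Y Z : Over U} (k : Y ⟶ K) (a b : Y ⟶ Z)
    (h : ∀ (m : M) (T : Over U) (r : T ⟶ Y), r ≫ k = cpt M T m ≫ e.inv → r ≫ a = r ≫ b) :
    a = b := by
  apply hom_ext_of_cover
  intro y
  obtain ⟨m, hm⟩ := exists_mem_piece M (k ≫ e.hom) y
  exact ⟨pc M (k ≫ e.hom) m, hm, h m _ (resι _ _) (eq_cpt_inv K M e k m)⟩

variable (he : TwC.IsConstGrp M K e)

include he in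
lemma cpt_inv_mul (T : Over U) (m n : M) :
    (cpt M T m ≫ e.inv) * (cpt M T n ≫ e.inv) = cpt M T (m * n) ≫ e.inv := by
  unfold cpt
  rw [Category.assoc, Category.assoc, Category.assoc, ← MonObj.comp_mul, he m n]

/-- the universal family of characters of a constant group. -/
theorem exists_univ_const : ∃ υ : K ⊗ Red.DS U (Mab M) ⟶ Red.Gm U,
    ∀ (Y : Over U) (m : M) (d : Y ⟶ Red.DS U (Mab M)),
      lift (cpt M Y m ≫ e.inv) d ≫ υ = d ≫ Red.chi U (lbl M m) := by
  obtain ⟨z, hz⟩ : ∃ z : K ⊗ Red.DS U (Mab M) ⟶ TwC.const U M, z = fst _ _ ≫ e.hom := ⟨_, rfl⟩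
  obtain ⟨υ, hυ⟩ := exists_glue_pieces M z (Z := Red.Gm U)
    (fun m => resι _ _ ≫ snd _ _ ≫ Red.chi U (lbl M m))
  refine ⟨υ, fun Y m d => ?_⟩
  obtain ⟨a', ha'⟩ := exists_fac (lift (cpt M Y m ≫ e.inv) d) (pc M z m)
    (mem_piece_of_eq_cpt M z m (lift (cpt M Y m ≫ e.inv) d) (by
      rw [hz, ← Category.assoc, lift_fst, Category.assoc, e.inv_hom_id, Category.comp_id]))
  rw [← ha', Category.assoc, hυ, ← Category.assoc, ← Category.assoc, ha', lift_snd]

variable (υ : K ⊗ Red.DS U (Mab M) ⟶ Red.Gm U)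
  (hυ : ∀ (Y : Over U) (m : M) (d : Y ⟶ Red.DS U (Mab M)),
      lift (cpt M Y m ≫ e.inv) d ≫ υ = d ≫ Red.chi U (lbl M m))

include he hυ in
/-- the universal family is a family of homomorphisms. -/
theorem isHomFamily_univ_const : AutFam.IsHomFamily K (Red.Gm U) υ := by
  intro Y g₁ g₂ t
  apply hom_ext_of_pieces K M e g₁
  intro m₁ T r hr
  apply hom_ext_of_pieces K M e (r ≫ g₂)
  intro m₂ T' r' hr'
  have h1 : (r' ≫ r) ≫ g₁ = cpt M T' m₁ ≫ e.inv := by
    rw [Category.assoc, hr, ← Category.assoc, comp_cpt']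
  have h2 : (r' ≫ r) ≫ g₂ = cpt M T' m₂ ≫ e.inv := by rw [Category.assoc, hr']
  rw [← Category.assoc, ← Category.assoc r' r]
  obtain ⟨q, hq⟩ : ∃ q, q = r' ≫ r := ⟨_, rfl⟩
  rw [← hq] at h1 h2 ⊢
  rw [MonObj.comp_mul, ← Category.assoc, ← Category.assoc, ← Category.assoc, comp_lift, comp_lift,
    comp_lift, MonObj.comp_mul, h1, h2, cpt_inv_mul K M e he, hυ, hυ, hυ, lbl_mul, chi_add,
    MonObj.comp_mul]

include hυ in
/-- the universal family is multiplicative in the parameter. -/
theorem univ_const_mul (Y : Over U) (k : Y ⟶ K) (a b : Y ⟶ Red.DS U (Mab M)) :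
    lift k (a * b) ≫ υ = (lift k a ≫ υ) * (lift k b ≫ υ) := by
  apply hom_ext_of_pieces K M e k
  intro m T r hr
  rw [MonObj.comp_mul, ← Category.assoc, ← Category.assoc, ← Category.assoc, comp_lift, comp_lift,
    comp_lift, MonObj.comp_mul, hr, hυ, hυ, hυ]
  have hmon : IsMonHom (Red.chi U (lbl M m)) := isMonHom_chi _ _
  exact MonObj.mul_comp _ _ _

include he hυ in
/-- **every family of characters of a constant group comes from exactly one point of the
diagonalisable group on the abelianisation.** -/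
theorem existsUnique_of_isHomFamily_const {T : Over U} (φ : K ⊗ T ⟶ Red.Gm U)
    (hφ : AutFam.IsHomFamily K (Red.Gm U) φ) :
    ∃! a : T ⟶ Red.DS U (Mab M), (K ◁ a) ≫ υ = φ := by
  obtain ⟨χ, hχ⟩ : ∃ χ : M → (T ⟶ Red.Gm U),
      ∀ m, χ m = lift (cpt M T m ≫ e.inv) (𝟙 T) ≫ φ := ⟨_, fun _ => rfl⟩
  have hχmul : ∀ m n, χ (m * n) = χ m * χ n := by
    intro m n
    rw [hχ, hχ, hχ, ← cpt_inv_mul K M e he, hφ]
  have key : ∀ (a : T ⟶ Red.DS U (Mab M)), (K ◁ a) ≫ υ = φ → ∀ m, a ≫ Red.chi U (lbl M m) = χ m := by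
    intro a ha m
    rw [← hυ, hχ, ← ha, ← Category.assoc, lift_whiskerLeft, Category.id_comp]
  obtain ⟨χ₁, hχ₁⟩ : ∃ χ₁ : M →* (T ⟶ Red.Gm U), ∀ m, χ₁ m = χ m :=
    ⟨MonoidHom.mk' χ hχmul, fun _ => rfl⟩
  obtain ⟨χ₂, hχ₂⟩ : ∃ χ₂ : Abelianization M →* (T ⟶ Red.Gm U),
      ∀ m, χ₂ (Abelianization.of m) = χ m :=
    ⟨Abelianization.lift (A := T ⟶ Red.Gm U) χ₁, fun m => by
      rw [Abelianization.lift_apply_of, hχ₁]⟩
  obtain ⟨ψ, hψ⟩ : ∃ ψ : Multiplicative (Mab M) →* (T ⟶ Red.Gm U),
      ∀ x, ψ x = χ₂ (Additive.toMul (Multiplicative.toAdd x)) :=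
    ⟨{ toFun := fun x => χ₂ (Additive.toMul (Multiplicative.toAdd x))
       map_one' := map_one χ₂
       map_mul' := fun x y => map_mul χ₂ _ _ }, fun _ => rfl⟩
  obtain ⟨a, ha⟩ := exists_of_chars (Mab M) ψ
  have ha' : ∀ m, a ≫ Red.chi U (lbl M m) = χ m := by
    intro m
    rw [ha, hψ]
    exact hχ₂ m
  refine ⟨a, ?_, ?_⟩
  · apply hom_ext_of_pieces K M e (fst K T)
    intro m T' r hr
    have hr' : r = lift (cpt M T' m ≫ e.inv) (r ≫ snd K T) := by
      rw [← hr]
      apply CartesianMonoidalCategory.hom_ext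
      · rw [lift_fst]
      · rw [lift_snd]
    rw [hr', ← Category.assoc, lift_whiskerLeft, hυ, Category.assoc, ha', hχ, ← Category.assoc,
      comp_lift, Category.comp_id, ← Category.assoc, comp_cpt']
  · intro a' ha''
    apply hom_ext_chi
    intro x
    obtain ⟨m, rfl⟩ := lbl_surjective M x
    rw [key a' ha'' m, ha']

end Local

end Groth.Agent.Lib.Helper15CharRep
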