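-- helper15: base change of representing objects, constant group structure of local representing objects, local representability with labels
import Mathlib
import Groth.Agent.Lib.Helper15HomRepE
import Groth.Agent.Lib.Helper15HomRepH
import Groth.Agent.Lib.Helper15HomRepI
set_option autoImplicit false
universe u
open CategoryTheory CategoryTheory.Limits AlgebraicGeometry MonoidalCategory
  CartesianMonoidalCategory MonObj GrpObj Opposite

namespace Groth.Agent.Lib.Helper15HomRep

open Groth.Agent.Lib.Helper11ConstPtsU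

section Unique

/-- two objects representing the same presheaf are isomorphic, compatibly with the representing
bijections. -/
lemma exists_iso_of_representableBy {C : Type*} [Category.{u} C] {F : Cᵒᵖ ⥤ Type u} {Y Y' : C}
    (r : F.RepresentableBy Y) (r' : F.RepresentableBy Y') :
    ∃ e : Y ≅ Y', ∀ {T : C} (a : T ⟶ Y'), r.homEquiv (a ≫ e.inv) = r'.homEquiv a := by
  obtain ⟨h, hh⟩ : ∃ h : Y ⟶ Y', h = r'.homEquiv.symm (r.homEquiv (𝟙 Y)) := ⟨_, rfl⟩
  obtain ⟨k, hk⟩ : ∃ k : Y' ⟶ Y, k = r.homEquiv.symm (r'.homEquiv (𝟙 Y')) := ⟨_, rfl⟩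
  have h1 : r'.homEquiv h = r.homEquiv (𝟙 Y) := by rw [hh, Equiv.apply_symm_apply]
  have h2 : r.homEquiv k = r'.homEquiv (𝟙 Y') := by rw [hk, Equiv.apply_symm_apply]
  refine ⟨⟨h, k, ?_, ?_⟩, fun {T} a => ?_⟩
  · apply r.homEquiv.injective
    rw [r.homEquiv_comp, h2, ← r'.homEquiv_comp, Category.comp_id, h1]
  · apply r'.homEquiv.injective
    rw [r'.homEquiv_comp, h1, ← r.homEquiv_comp, Category.comp_id, h2]
  · show r.homEquiv (a ≫ k) = r'.homEquiv a
    rw [r.homEquiv_comp, h2, ← r'.homEquiv_comp, Category.comp_id]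

end Unique

section BCRep

variable {S X : Scheme.{u}} (g : X ⟶ S)

/-- the base change of a representing object represents the restricted presheaf. -/
noncomputable def repBC (P : (Over S)ᵒᵖ ⥤ Type u) (B : Over S) (repB : P.RepresentableBy B) :
    ((Over.map g).op ⋙ P).RepresentableBy ((Over.pullback g).obj B) where
  homEquiv {T'} := ((Over.mapPullbackAdj g).homEquiv T' B).symm.trans repB.homEquiv
  homEquiv_comp {T' T''} f a := by
    show repB.homEquiv (((Over.mapPullbackAdj g).homEquiv _ B).symm (f ≫ a)) =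
      P.map ((Over.map g).map f).op (repB.homEquiv (((Over.mapPullbackAdj g).homEquiv _ B).symm a))
    rw [Adjunction.homEquiv_naturality_left_symm, repB.homEquiv_comp]

lemma repBC_homEquiv (P : (Over S)ᵒᵖ ⥤ Type u) (B : Over S) (repB : P.RepresentableBy B)
    {T' : Over X} (a : T' ⟶ (Over.pullback g).obj B) :
    (repBC g P B repB).homEquiv a =
      repB.homEquiv (((Over.mapPullbackAdj g).homEquiv T' B).symm a) := rfl

/-- the adjunction bijection is multiplicative, inverse direction. -/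
lemma homEquiv_symm_mul {G : Over S} [GrpObj G] {T' : Over X} (a b : T' ⟶ Red.bc g G) :
    ((Over.mapPullbackAdj g).homEquiv T' G).symm (a * b) =
      ((Over.mapPullbackAdj g).homEquiv T' G).symm a *
        ((Over.mapPullbackAdj g).homEquiv T' G).symm b := by
  apply ((Over.mapPullbackAdj g).homEquiv T' G).injective
  rw [AlgGrp.Action.homEquiv_mul, Equiv.apply_symm_apply, Equiv.apply_symm_apply,
    Equiv.apply_symm_apply]

variable (H G : Over S) [GrpObj H] [GrpObj G]

lemma famBC_mul (T' : Over X) (φ ψ : H ⊗ (Over.map g).obj T' ⟶ G) :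
    famBC g H G T' (φ * ψ) = famBC g H G T' φ * famBC g H G T' ψ := by
  unfold famBC
  rw [MonObj.comp_mul, AlgGrp.Action.homEquiv_mul]

/-- **if the representing object of the presheaf of families of homomorphisms has the group
structure for which products of points are products of families, and over a member of a family the
presheaf is represented by a constant scheme whose labelled points multiply like the labels, then
the base change of the representing object is the constant group.** -/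
theorem isConstGrp_of_rep (B : Over S) (repB : (homPsh H G).RepresentableBy B) [GrpObj B]
    (hB : ∀ (T : Over S) (a b : T ⟶ B),
      (repB.homEquiv (a * b)).1 = (repB.homEquiv a).1 * (repB.homEquiv b).1)
    (I : Type u) [Group I]
    (rep : ((Over.map g).op ⋙ homPsh H G).RepresentableBy (TwC.const X I))
    (hI : ∀ m n : I, (rep.homEquiv (TwC.pt X I m)).1 * (rep.homEquiv (TwC.pt X I n)).1 =
      (rep.homEquiv (TwC.pt X I (m * n))).1) :
    ∃ e : Red.bc g B ≅ TwC.const X I, TwC.IsConstGrp I (Red.bc g B) e := by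
  obtain ⟨e, hcompat⟩ := exists_iso_of_representableBy (repBC g (homPsh H G) B repB) rep
  refine ⟨e, fun m n => ?_⟩
  apply (repBC g (homPsh H G) B repB).homEquiv.injective
  apply Subtype.ext
  rw [hcompat, repBC_homEquiv, homEquiv_symm_mul, hB, ← repBC_homEquiv, ← repBC_homEquiv, hcompat,
    hcompat]
  exact hI m n

end BCRep


section LocalGrp

variable {S X : Scheme.{u}} (g : X ⟶ S) (H G : Over S) [GrpObj H] [GrpObj G]
  (M₁ M₂ : Type) [AddCommGroup M₁] [AddCommGroup M₂]

/-- **local representability with labels**: over a base on which both groups become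
diagonalisable, the presheaf of families of homomorphisms is represented by the constant scheme on
any type labelling the homomorphisms of character groups; if the labels form a group and the
labelling is additive, the labelled points multiply like the labels. -/
theorem exists_representableBy_of_iso_grp (hM₂ : AddGroup.FG M₂)
    (α : Grp.mk (Red.bc g H) ≅ Grp.mk (Red.DS X M₁))
    (β : Grp.mk (Red.bc g G) ≅ Grp.mk (Red.DS X M₂))
    (I : Type u) [Group I] (lab : I → (M₂ →+ M₁)) (hlabbij : Function.Bijective lab)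
    (hlabmul : ∀ m n, lab (m * n) = lab m + lab n) :
    ∃ rep : ((Over.map g).op ⋙ homPsh H G).RepresentableBy (TwC.const X I),
      ∀ m n : I, (rep.homEquiv (TwC.pt X I m)).1 * (rep.homEquiv (TwC.pt X I n)).1 =
        (rep.homEquiv (TwC.pt X I (m * n))).1 := by
  obtain ⟨α₁, hα₁⟩ : ∃ α₁ : Red.bc g H ⟶ Red.DS X M₁, α₁ = α.hom.hom.hom := ⟨_, rfl⟩
  obtain ⟨α₂, hα₂⟩ : ∃ α₂ : Red.DS X M₁ ⟶ Red.bc g H, α₂ = α.inv.hom.hom := ⟨_, rfl⟩
  obtain ⟨β₁, hβ₁⟩ : ∃ β₁ : Red.bc g G ⟶ Red.DS X M₂, β₁ = β.hom.hom.hom := ⟨_, rfl⟩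
  obtain ⟨β₂, hβ₂⟩ : ∃ β₂ : Red.DS X M₂ ⟶ Red.bc g G, β₂ = β.inv.hom.hom := ⟨_, rfl⟩
  have hα₁m : IsMonHom α₁ := by rw [hα₁]; infer_instance
  have hα₂m : IsMonHom α₂ := by rw [hα₂]; infer_instance
  have hβ₁m : IsMonHom β₁ := by rw [hβ₁]; infer_instance
  have hβ₂m : IsMonHom β₂ := by rw [hβ₂]; infer_instance
  have hα₁₂ : α₁ ≫ α₂ = 𝟙 _ := by
    rw [hα₁, hα₂]
    have := α.hom_inv_id
    exact congr($(this).hom.hom)
  have hα₂₁ : α₂ ≫ α₁ = 𝟙 _ := by
    rw [hα₁, hα₂]
    have := α.inv_hom_id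
    exact congr($(this).hom.hom)
  have hβ₁₂ : β₁ ≫ β₂ = 𝟙 _ := by
    rw [hβ₁, hβ₂]
    have := β.hom_inv_id
    exact congr($(this).hom.hom)
  have hβ₂₁ : β₂ ≫ β₁ = 𝟙 _ := by
    rw [hβ₁, hβ₂]
    have := β.inv_hom_id
    exact congr($(this).hom.hom)
  obtain ⟨υ'', hυ''⟩ := exists_univ (U := X) M₁ M₂ lab
  have hυ''hom := isHomFamily_univ υ'' hυ''
  obtain ⟨υ', hυ'⟩ : ∃ υ' : Red.bc g H ⊗ TwC.const X I ⟶ Red.bc g G,
      υ' = (α₁ ▷ _) ≫ υ'' ≫ β₂ := ⟨_, rfl⟩
  have hυ'hom : AutFam.IsHomFamily (Red.bc g H) (Red.bc g G) υ' := by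
    rw [hυ']
    exact isHomFamily_conj α₁ β₂ υ'' hυ''hom
  obtain ⟨υS, hυS⟩ := (famBC_bijective g H G _).2 υ'
  have hυShom : AutFam.IsHomFamily H G υS := by
    rw [← isHomFamily_famBC_iff, hυS]
    exact hυ'hom
  have key : ∀ (T' : Over X) (φ : H ⊗ (Over.map g).obj T' ⟶ G) (a : T' ⟶ TwC.const X I),
      (H ◁ (Over.map g).map a) ≫ υS = φ ↔
        (Red.DS X M₁ ◁ a) ≫ υ'' = (α₂ ▷ T') ≫ famBC g H G T' φ ≫ β₁ := by
    intro T' φ a
    rw [← (famBC_bijective g H G T').1.eq_iff, famBC_whiskerLeft, hυS, hυ', ← Category.assoc,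
      whisker_exchange]
    simp only [Category.assoc]
    constructor
    · intro h
      rw [← h]
      simp only [Category.assoc, hβ₂₁, Category.comp_id]
      rw [← Category.assoc (α₂ ▷ T'), ← comp_whiskerRight, hα₂₁, id_whiskerRight, Category.id_comp]
    · intro h
      rw [← Category.assoc (Red.DS X M₁ ◁ a), h]
      simp only [Category.assoc, hβ₁₂, Category.comp_id]
      rw [← Category.assoc, ← comp_whiskerRight, hα₁₂, id_whiskerRight, Category.id_comp]
  have hex : ∀ (T' : Over X) (φ : H ⊗ (Over.map g).obj T' ⟶ G), AutFam.IsHomFamily H G φ →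
      ∃! a : T' ⟶ TwC.const X I, (H ◁ (Over.map g).map a) ≫ υS = φ := by
    intro T' φ hφ
    have h1 : AutFam.IsHomFamily (Red.DS X M₁) (Red.DS X M₂)
        ((α₂ ▷ T') ≫ famBC g H G T' φ ≫ β₁) :=
      isHomFamily_conj α₂ β₁ _ ((isHomFamily_famBC_iff g H G T' φ).mpr hφ)
    obtain ⟨a, ha, hau⟩ := existsUnique_of_isHomFamily _ h1 hM₂ hlabbij υ'' hυ''
    exact ⟨a, (key T' φ a).mpr ha, fun a' ha' => hau a' ((key T' φ a').mp ha')⟩
  -- the points of label `m`
  have hptυ : ∀ m : I, (Red.DS X M₁ ◁ TwC.pt X I m) ≫ υ'' =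
      fst _ _ ≫ Red.DSmap X (lab m) := by
    intro m
    have h1 := hυ'' _ (fst (Red.DS X M₁) (𝟙_ (Over X))) m
    rw [← h1]
    congr 1
    apply CartesianMonoidalCategory.hom_ext
    · rw [whiskerLeft_fst, lift_fst]
    · rw [whiskerLeft_snd, lift_snd]
      unfold cpt
      congr 1
      exact toUnit_unique _ _
  have hptS : ∀ m : I, famBC g H G _ ((H ◁ (Over.map g).map (TwC.pt X I m)) ≫ υS) =
      (α₁ ▷ _) ≫ (fst _ _ ≫ Red.DSmap X (lab m)) ≫ β₂ := by
    intro m
    rw [famBC_whiskerLeft, hυS, hυ', ← Category.assoc, whisker_exchange, Category.assoc,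
      ← Category.assoc (Red.DS X M₁ ◁ TwC.pt X I m), hptυ]
  refine ⟨{ homEquiv := fun {T'} => Equiv.ofBijective (fun a => ⟨(H ◁ (Over.map g).map a) ≫ υS,
                isHomFamily_whiskerLeft_comp _ υS hυShom⟩) ⟨?_, ?_⟩,
            homEquiv_comp := ?_ }, ?_⟩
  · intro a a' h
    have h' := congrArg Subtype.val h
    obtain ⟨a₀, -, hu⟩ := hex T' _ (isHomFamily_whiskerLeft_comp ((Over.map g).map a) υS hυShom)
    rw [hu a rfl, hu a' h'.symm]
  · intro φ
    obtain ⟨a, ha, -⟩ := hex T' φ.1 φ.2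
    exact ⟨a, Subtype.ext ha⟩
  · intro T' T'' f a
    apply Subtype.ext
    show (H ◁ (Over.map g).map (f ≫ a)) ≫ υS = (H ◁ (Over.map g).map f) ≫
      (H ◁ (Over.map g).map a) ≫ υS
    rw [Functor.map_comp, MonoidalCategory.whiskerLeft_comp, Category.assoc]
  · intro m n
    show ((H ◁ (Over.map g).map (TwC.pt X I m)) ≫ υS) *
      ((H ◁ (Over.map g).map (TwC.pt X I n)) ≫ υS) =
      (H ◁ (Over.map g).map (TwC.pt X I (m * n))) ≫ υS
    apply (famBC_bijective g H G _).1
    have hmon := Groth.Agent.Lib.Helper27DiagSub.isMonHom_DSmap X (lab m)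
    rw [famBC_mul, hptS, hptS, hptS, hlabmul, DSmap_add, ← MonObj.comp_mul]
    have e1 := MonObj.mul_comp (fst (Red.DS X M₁) (𝟙_ (Over X)) ≫ Red.DSmap X (lab m))
      (fst (Red.DS X M₁) (𝟙_ (Over X)) ≫ Red.DSmap X (lab n)) β₂
    rw [← e1, ← MonObj.comp_mul]

end LocalGrp

end Groth.Agent.Lib.Helper15HomRep
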