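-- helper15: local representability of the presheaf of families of homomorphisms from a universal family over a member of a family; group isomorphism of representing objects
import Mathlib
import Groth.Agent.Lib.Helper15HomRepJ
import Groth.Agent.Lib.Helper11RigidityB
set_option autoImplicit false
universe u
open CategoryTheory CategoryTheory.Limits AlgebraicGeometry MonoidalCategory
  CartesianMonoidalCategory MonObj GrpObj Opposite

namespace Groth.Agent.Lib.Helper15CharRep

open Groth.Agent.Lib.Helper15HomRep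

section Bridge

variable {S X : Scheme.{u}} (g : X ⟶ S) (H G : Over S) [GrpObj H] [GrpObj G]
  (G' D' : Over X) [GrpObj G']

/-- **local representability from a universal family over a member of a family**: if over `X`
the target group becomes isomorphic to `G'` and families of homomorphisms from the base change of
`H` to `G'` are classified by `D'` through the family `υ''`, then the restriction to schemes over
`X` of the presheaf of families of homomorphisms is represented by `D'`. -/
theorem exists_representableBy_of_local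
    (β : Grp.mk (Red.bc g G) ≅ Grp.mk G')
    (υ'' : Red.bc g H ⊗ D' ⟶ G') (hυ''hom : AutFam.IsHomFamily (Red.bc g H) G' υ'')
    (hex'' : ∀ (T' : Over X) (φ' : Red.bc g H ⊗ T' ⟶ G'),
      AutFam.IsHomFamily (Red.bc g H) G' φ' → ∃! a : T' ⟶ D', (Red.bc g H ◁ a) ≫ υ'' = φ') :
    ∃ rep : ((Over.map g).op ⋙ homPsh H G).RepresentableBy D',
      ∀ (T' : Over X) (a : T' ⟶ D'),
        famBC g H G T' (rep.homEquiv a).1 = (Red.bc g H ◁ a) ≫ υ'' ≫ β.inv.hom.hom := by
  obtain ⟨β₁, hβ₁⟩ : ∃ β₁ : Red.bc g G ⟶ G', β₁ = β.hom.hom.hom := ⟨_, rfl⟩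
  obtain ⟨β₂, hβ₂⟩ : ∃ β₂ : G' ⟶ Red.bc g G, β₂ = β.inv.hom.hom := ⟨_, rfl⟩
  have hβ₁m : IsMonHom β₁ := by rw [hβ₁]; infer_instance
  have hβ₂m : IsMonHom β₂ := by rw [hβ₂]; infer_instance
  have hβ₁₂ : β₁ ≫ β₂ = 𝟙 _ := by
    rw [hβ₁, hβ₂]
    have := β.hom_inv_id
    exact congr($(this).hom.hom)
  have hβ₂₁ : β₂ ≫ β₁ = 𝟙 _ := by
    rw [hβ₁, hβ₂]
    have := β.inv_hom_id
    exact congr($(this).hom.hom)
  rw [← hβ₂]
  obtain ⟨υ', hυ'⟩ : ∃ υ' : Red.bc g H ⊗ D' ⟶ Red.bc g G, υ' = υ'' ≫ β₂ := ⟨_, rfl⟩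
  have hυ'hom : AutFam.IsHomFamily (Red.bc g H) (Red.bc g G) υ' := by
    intro Y g₁ g₂ t
    rw [hυ', ← Category.assoc, hυ''hom, MonObj.mul_comp, Category.assoc, Category.assoc]
  obtain ⟨υS, hυS⟩ := (famBC_bijective g H G _).2 υ'
  have hυShom : AutFam.IsHomFamily H G υS := by
    rw [← isHomFamily_famBC_iff, hυS]
    exact hυ'hom
  have key : ∀ (T' : Over X) (φ : H ⊗ (Over.map g).obj T' ⟶ G) (a : T' ⟶ D'),
      (H ◁ (Over.map g).map a) ≫ υS = φ ↔
        (Red.bc g H ◁ a) ≫ υ'' = famBC g H G T' φ ≫ β₁ := by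
    intro T' φ a
    rw [← (famBC_bijective g H G T').1.eq_iff, famBC_whiskerLeft, hυS, hυ']
    constructor
    · intro h
      rw [← h]
      simp only [Category.assoc, hβ₂₁, Category.comp_id]
    · intro h
      rw [← Category.assoc, h]
      simp only [Category.assoc, hβ₁₂, Category.comp_id]
  have hex : ∀ (T' : Over X) (φ : H ⊗ (Over.map g).obj T' ⟶ G), AutFam.IsHomFamily H G φ →
      ∃! a : T' ⟶ D', (H ◁ (Over.map g).map a) ≫ υS = φ := by
    intro T' φ hφ
    have h1 : AutFam.IsHomFamily (Red.bc g H) G' (famBC g H G T' φ ≫ β₁) := by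
      have h2 := (isHomFamily_famBC_iff g H G T' φ).mpr hφ
      intro Y g₁ g₂ t
      rw [← Category.assoc, h2, MonObj.mul_comp, Category.assoc, Category.assoc]
    obtain ⟨a, ha, hau⟩ := hex'' T' _ h1
    exact ⟨a, (key T' φ a).mpr ha, fun a' ha' => hau a' ((key T' φ a').mp ha')⟩
  refine ⟨{ homEquiv := fun {T'} => Equiv.ofBijective (fun a => ⟨(H ◁ (Over.map g).map a) ≫ υS,
                isHomFamily_whiskerLeft_comp _ υS hυShom⟩) ⟨?_, ?_⟩,
            homEquiv_comp := ?_ }, ?_⟩
  · intro a a' h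
    have h' := congrArg Subtype.val h
    obtain ⟨a₀, -, hu⟩ := hex T' _ (isHomFamily_whiskerLeft_comp ((Over.map g).map a) υS hυShom)
    rw [hu a rfl, hu a' h'.symm]
  · intro φ
    obtain ⟨a, ha, -⟩ := hex T' φ.1 φ.2
    exact ⟨a, Subtype.ext ha⟩
  · intro T' T'' f a
    apply Subtype.ext
    show (H ◁ (Over.map g).map (f ≫ a)) ≫ υS = (H ◁ (Over.map g).map f) ≫
      (H ◁ (Over.map g).map a) ≫ υS
    rw [Functor.map_comp, MonoidalCategory.whiskerLeft_comp, Category.assoc]
  · intro T' a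
    show famBC g H G T' ((H ◁ (Over.map g).map a) ≫ υS) = _
    rw [famBC_whiskerLeft, hυS, hυ']

/-- if the universal family over `X` is multiplicative in the parameter, the local representing
bijections carry products of points to products of families. -/
theorem rep_mul_of_local [GrpObj D']
    (β : Grp.mk (Red.bc g G) ≅ Grp.mk G') (υ'' : Red.bc g H ⊗ D' ⟶ G')
    (hmul'' : ∀ (Y : Over X) (k : Y ⟶ Red.bc g H) (a b : Y ⟶ D'),
      lift k (a * b) ≫ υ'' = (lift k a ≫ υ'') * (lift k b ≫ υ''))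
    (rep : ((Over.map g).op ⋙ homPsh H G).RepresentableBy D')
    (hrep : ∀ (T' : Over X) (a : T' ⟶ D'),
        famBC g H G T' (rep.homEquiv a).1 = (Red.bc g H ◁ a) ≫ υ'' ≫ β.inv.hom.hom)
    (T' : Over X) (a b : T' ⟶ D') :
    (rep.homEquiv (a * b)).1 = (rep.homEquiv a).1 * (rep.homEquiv b).1 := by
  obtain ⟨β₂, hβ₂⟩ : ∃ β₂ : G' ⟶ Red.bc g G, β₂ = β.inv.hom.hom := ⟨_, rfl⟩
  have hβ₂m : IsMonHom β₂ := by rw [hβ₂]; infer_instance
  rw [← hβ₂] at hrep
  apply (famBC_bijective g H G T').1
  rw [famBC_mul, hrep, hrep, hrep]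
  have hw : ∀ c : T' ⟶ D', (Red.bc g H ◁ c) = lift (fst _ _) (snd _ _ ≫ c) := by
    intro c
    apply CartesianMonoidalCategory.hom_ext
    · rw [whiskerLeft_fst, lift_fst]
    · rw [whiskerLeft_snd, lift_snd]
  rw [hw, hw, hw, MonObj.comp_mul, ← Category.assoc, ← Category.assoc, ← Category.assoc, hmul'']
  exact MonObj.mul_comp _ _ _

end Bridge

section GrpIso

variable {S X : Scheme.{u}} (g : X ⟶ S) (H G : Over S) [GrpObj H] [GrpObj G]

/-- **if the representing object of the presheaf of families of homomorphisms has the group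
structure for which products of points are products of families, and over a member of a family the
presheaf is represented by a group with the same property, then the base change of the
representing object is isomorphic to that group.** -/
theorem nonempty_grpIso_of_rep (B : Over S) (repB : (homPsh H G).RepresentableBy B) [GrpObj B]
    (hB : ∀ (T : Over S) (a b : T ⟶ B),
      (repB.homEquiv (a * b)).1 = (repB.homEquiv a).1 * (repB.homEquiv b).1)
    (D' : Over X) [GrpObj D']
    (rep : ((Over.map g).op ⋙ homPsh H G).RepresentableBy D')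
    (hD : ∀ (T' : Over X) (a b : T' ⟶ D'),
      (rep.homEquiv (a * b)).1 = (rep.homEquiv a).1 * (rep.homEquiv b).1) :
    Nonempty (Grp.mk (Red.bc g B) ≅ Grp.mk D') := by
  obtain ⟨e, hcompat⟩ := exists_iso_of_representableBy (repBC g (homPsh H G) B repB) rep
  have hmulinv : ∀ (T' : Over X) (a b : T' ⟶ D'),
      (a * b) ≫ e.inv = (a ≫ e.inv) * (b ≫ e.inv) := by
    intro T' a b
    apply (repBC g (homPsh H G) B repB).homEquiv.injective
    apply Subtype.ext
    rw [hcompat, hD, repBC_homEquiv, homEquiv_symm_mul, hB, ← repBC_homEquiv, ← repBC_homEquiv,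
      hcompat, hcompat]
  have h0 : η[D'] ≫ e.inv = η[Red.bc g B] := by
    rw [Groth.Agent.Lib.Helper11Rigidity.eta_eq_one, Groth.Agent.Lib.Helper11Rigidity.eta_eq_one]
    have h1 := hmulinv _ (1 : 𝟙_ (Over X) ⟶ D') 1
    rw [_root_.mul_one] at h1
    exact (mul_eq_left.mp h1.symm)
  have hmon : IsMonHom e.inv :=
    Groth.Agent.Lib.Helper11Rigidity.isMonHom_of_mul e.inv h0 (hmulinv _ _ _)
  have hmon' : IsMonHom e.symm.hom := hmon
  exact ⟨(Grp.mkIso' e.symm).symm⟩

end GrpIso

end Groth.Agent.Lib.Helper15CharRep
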