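-- helper15: gluing of local representing objects of a presheaf along an fpqc covering family
import Mathlib
import Groth.Agent.Lib.Helper15RepGlueB
set_option autoImplicit false
universe u
open CategoryTheory CategoryTheory.Limits AlgebraicGeometry Opposite

namespace Groth.Agent.Lib.Helper15RepGlue

open Desc

variable {S : Scheme.{u}} {P : (Over S)ᵒᵖ ⥤ Type u} {ι : Type u} {X : ι → Scheme.{u}}
  {g : ∀ i, X i ⟶ S} {A : ∀ i, Over (X i)}
  (rep : ∀ i, ((Over.map (g i)).op ⋙ P).RepresentableBy (A i))

/-- the member over `X i` of the image of a morphism in descent data. -/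
noncomputable def cmpMap (g : ∀ i, X i ⟶ S) {T B : Over S} (a : T ⟶ B) (i : ι) :
    cmp g T i ⟶ cmp g B i := ((toDDFam g).map a).hom i

lemma cmpMap_left {T B : Over S} (a : T ⟶ B) (i : ι) :
    (cmpMap g a i).left = pullback.map (g i) T.hom (g i) B.hom (𝟙 _) a.left (𝟙 S)
      (by simp) (by simp) := rfl

/-- naturality of the projections of the pullback covers. -/
lemma map_cmpMap_pr {T B : Over S} (a : T ⟶ B) (i : ι) :
    (Over.map (g i)).map (cmpMap g a i) ≫ pr g B i = pr g T i ≫ a := by
  apply Over.OverMorphism.ext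
  simp only [Over.comp_left, Over.map_map_left, cmpMap_left, pr, Over.homMk_left]
  exact pullback.lift_snd _ _ _

/-- the section of `P` over a member of the pullback cover attached to a morphism to the glued
object. -/
lemma homEquiv_map_comp {T B : Over S} (a : T ⟶ B) (θ : ∀ i, cmp g B i ⟶ A i)
    (υ : P.obj (op B)) (hυ : ∀ i, P.map (pr g B i).op υ = (rep i).homEquiv (θ i)) (i : ι) :
    (rep i).homEquiv (cmpMap g a i ≫ θ i) = P.map (pr g T i).op (P.map a.op υ) := by
  rw [(rep i).homEquiv_comp, ← hυ]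
  show P.map ((Over.map (g i)).map (cmpMap g a i)).op (P.map (pr g B i).op υ) = _
  rw [← Functor.map_comp_apply, ← op_comp, map_cmpMap_pr, op_comp, Functor.map_comp_apply]


include rep in
/-- **gluing of local representing objects**: a presheaf on schemes over `S` that satisfies the
sheaf condition for the pullbacks of an fpqc covering family of `S`, and whose restrictions to the
members of the family are representable by ind-quasi-affine schemes, is representable; the
representing object restricts to the local ones. -/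
theorem exists_representableBy
    (hg : Presieve.ofArrows X g ∈ Scheme.fpqcPrecoverage S)
    (hA : ∀ i, MoreMor.IsIndQuasiAffineHom (A i).hom)
    (hP : ∀ T : Over S, Presieve.IsSheafFor P (cov g T)) :
    ∃ (B : Over S), Nonempty (P.RepresentableBy B) ∧
      ∀ i, Nonempty ((Over.pullback (g i)).obj B ≅ A i) := by
  obtain ⟨B, ⟨Θ⟩⟩ := Groth.Agent.S7482.result g hg (dd rep) hA
  obtain ⟨hfull, hfaith⟩ := Groth.Agent.S11719.result g hg
  have hP' : ∀ T : Over S, ∀ x : ∀ i, P.obj (op ((Over.map (g i)).obj (cmp g T i))),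
      Presieve.Arrows.Compatible P (fun i => pr g T i) x →
      ∃! t, ∀ i, P.map (pr g T i).op t = x i := fun T =>
    (Presieve.isSheafFor_arrows_iff P _).mp (hP T)
  obtain ⟨θ, hθ⟩ : ∃ θ : ∀ i, cmp g B i ⟶ A i, θ = Θ.hom.hom := ⟨_, rfl⟩
  obtain ⟨θ', hθ'⟩ : ∃ θ' : ∀ i, A i ⟶ cmp g B i, θ' = Θ.inv.hom := ⟨_, rfl⟩
  have hθθ' : ∀ i, θ i ≫ θ' i = 𝟙 _ := fun i => by
    rw [hθ, hθ']
    have := congrArg (fun z : (toDDFam g).obj B ⟶ (toDDFam g).obj B => z.hom i) Θ.hom_inv_id
    exact this
  have hθ'θ : ∀ i, θ' i ≫ θ i = 𝟙 _ := fun i => by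
    rw [hθ, hθ']
    have := congrArg (fun z : dd rep ⟶ dd rep => z.hom i) Θ.inv_hom_id
    exact this
  obtain ⟨υ, hυ, -⟩ := hP' B _ (compatible_of_hom rep B Θ.hom)
  have hυ' : ∀ i, P.map (pr g B i).op υ = (rep i).homEquiv (θ i) := by
    rw [hθ]; exact hυ
  refine ⟨B, ⟨{ homEquiv := fun {T} => Equiv.ofBijective (fun a => P.map a.op υ) ⟨?_, ?_⟩,
                homEquiv_comp := ?_ }⟩, ?_⟩
  · intro a b hab
    have hab' : P.map a.op υ = P.map b.op υ := hab
    apply (toDDFam g).map_injective
    apply SchDDFam.hom_ext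
    funext i
    show cmpMap g a i = cmpMap g b i
    have h1 := homEquiv_map_comp rep a θ υ hυ' i
    have h2 := homEquiv_map_comp rep b θ υ hυ' i
    rw [hab', ← h2] at h1
    have h3 := (rep i).homEquiv.injective h1
    have := congrArg (fun z => z ≫ θ' i) h3
    simpa only [Category.assoc, hθθ', Category.comp_id] using this
  · intro Φ
    have hx : Presieve.Arrows.Compatible P (fun i => pr g T i)
        (fun i => P.map (pr g T i).op Φ) := by
      intro i j Z a b hab
      rw [← Functor.map_comp_apply, ← Functor.map_comp_apply, ← op_comp, ← op_comp, hab]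
    obtain ⟨a, ha⟩ := (toDDFam g).map_surjective (homOfCompatible rep T _ hx ≫ Θ.inv)
    refine ⟨a, ?_⟩
    show P.map a.op υ = Φ
    obtain ⟨t, -, ht⟩ := hP' T _ hx
    rw [ht Φ (fun i => rfl)]
    apply ht
    intro i
    rw [← homEquiv_map_comp rep a θ υ hυ' i]
    have h1 : cmpMap g a i = (rep i).homEquiv.symm (P.map (pr g T i).op Φ) ≫ θ' i := by
      have := congrArg (fun z : (toDDFam g).obj T ⟶ (toDDFam g).obj B => z.hom i) ha
      rw [hθ']
      exact this
    rw [h1, Category.assoc, hθ'θ, Category.comp_id, Equiv.apply_symm_apply]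
  · intro T T' f a
    show P.map (f ≫ a).op υ = P.map f.op (P.map a.op υ)
    rw [op_comp, Functor.map_comp_apply]
  · intro i
    refine ⟨?_ ≪≫ (⟨θ i, θ' i, hθθ' i, hθ'θ i⟩ : cmp g B i ≅ A i)⟩
    exact Over.isoMk (pullbackSymmetry _ _) (by simp)

end Groth.Agent.Lib.Helper15RepGlue
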