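import Mathlib

/-!
# Irreducible components from a locally finite set of unique generizations (helper3)
-/

set_option autoImplicit false
set_option linter.style.haveILetI false
set_option linter.unusedSectionVars false
universe u

namespace Groth.Agent.Lib.Helper3.IrrTop

variable {X : Type*} [TopologicalSpace X] [QuasiSober X] (G : Set X)

/-- standing hypotheses: every point has a unique generization in `G`, and `G` is locally finite -/
structure Hyp : Prop where
  ex : ∀ x : X, ∃ ξ ∈ G, ξ ⤳ x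
  uniq : ∀ x : X, ∀ ξ ∈ G, ∀ ξ' ∈ G, ξ ⤳ x → ξ' ⤳ x → ξ = ξ'
  fin : ∀ x : X, ∃ U : Set X, IsOpen U ∧ x ∈ U ∧ (G ∩ U).Finite

variable {G}

theorem Hyp.eq_of_specializes (h : Hyp G) {ξ ξ' : X} (hξ : ξ ∈ G) (hξ' : ξ' ∈ G) (hs : ξ ⤳ ξ') :
    ξ = ξ' := h.uniq ξ' ξ hξ ξ' hξ' hs specializes_rfl

theorem Hyp.closure_mem (h : Hyp G) {ξ : X} (hξ : ξ ∈ G) :
    closure {ξ} ∈ irreducibleComponents X := by
  refine ⟨isIrreducible_singleton.closure, ?_⟩
  intro Z hZ hle
  -- generic point of closure Z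
  have hZc : IsIrreducible (closure Z) := hZ.closure
  let ζ := hZc.genericPoint
  have hζ : closure {ζ} = closure Z := by
    have := (hZc.isGenericPoint_genericPoint_closure).def
    rwa [closure_closure] at this
  obtain ⟨ξ', hξ', hs⟩ := h.ex ζ
  have h1 : ξ ∈ closure ({ξ'} : Set X) := by
    have h2 : ξ ∈ closure Z := subset_closure (hle (subset_closure rfl))
    rw [← hζ] at h2
    exact (specializes_iff_mem_closure.mp (hs.trans (specializes_iff_mem_closure.mpr h2)))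
  have h3 : ξ' = ξ := h.eq_of_specializes hξ' hξ (specializes_iff_mem_closure.mpr h1)
  subst h3
  calc Z ⊆ closure Z := subset_closure
    _ = closure {ζ} := hζ.symm
    _ ⊆ closure {ξ'} := by
        rw [isClosed_closure.closure_subset_iff, Set.singleton_subset_iff]
        exact specializes_iff_mem_closure.mp hs

theorem Hyp.exists_eq_closure (h : Hyp G) {Z : Set X} (hZ : Z ∈ irreducibleComponents X) :
    ∃ ξ ∈ G, Z = closure {ξ} := by
  have hcl : IsClosed Z := isClosed_of_mem_irreducibleComponents Z hZ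
  let ζ := hZ.1.genericPoint
  have hζ : closure {ζ} = Z := (hZ.1.isGenericPoint_genericPoint hcl).def
  obtain ⟨ξ, hξ, hs⟩ := h.ex ζ
  refine ⟨ξ, hξ, ?_⟩
  have hle : Z ⊆ closure {ξ} := by
    rw [← hζ, isClosed_closure.closure_subset_iff, Set.singleton_subset_iff]
    exact specializes_iff_mem_closure.mp hs
  exact le_antisymm hle (hZ.2 isIrreducible_singleton.closure hle)

theorem Hyp.existsUnique_component (h : Hyp G) (x : X) :
    ∃! Z, Z ∈ irreducibleComponents X ∧ x ∈ Z := by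
  obtain ⟨ξ, hξ, hs⟩ := h.ex x
  refine ⟨closure {ξ}, ⟨h.closure_mem hξ, specializes_iff_mem_closure.mp hs⟩, ?_⟩
  rintro Z ⟨hZ, hxZ⟩
  obtain ⟨ξ', hξ', rfl⟩ := h.exists_eq_closure hZ
  have := h.uniq x ξ' hξ' ξ hξ (specializes_iff_mem_closure.mpr hxZ) hs
  rw [this]

theorem Hyp.isOpen_component (h : Hyp G) {Z : Set X} (hZ : Z ∈ irreducibleComponents X) :
    IsOpen Z := by
  obtain ⟨ξ, hξ, rfl⟩ := h.exists_eq_closure hZ
  rw [isOpen_iff_forall_mem_open]
  intro x hx
  obtain ⟨U, hUo, hxU, hfin⟩ := h.fin x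
  let S : Set X := (G ∩ U) \ {ξ}
  have hSfin : S.Finite := hfin.subset Set.sdiff_subset
  let C : Set X := ⋃ ξ' ∈ S, closure {ξ'}
  have hC : IsClosed C := hSfin.isClosed_biUnion (fun _ _ => isClosed_closure)
  refine ⟨U \ C, ?_, hUo.sdiff hC, ⟨hxU, ?_⟩⟩
  · rintro w ⟨hwU, hwC⟩
    obtain ⟨ξ'', hξ'', hs⟩ := h.ex w
    have hξU : ξ'' ∈ U := hs.mem_open hUo hwU
    by_cases he : ξ'' = ξ
    · rw [← he]; exact specializes_iff_mem_closure.mp hs
    · exfalso
      apply hwC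
      simp only [C, Set.mem_iUnion]
      exact ⟨ξ'', ⟨⟨hξ'', hξU⟩, he⟩, specializes_iff_mem_closure.mp hs⟩
  · intro hxC
    simp only [C, Set.mem_iUnion] at hxC
    obtain ⟨ξ', ⟨⟨hξ'G, _⟩, hne⟩, hx'⟩ := hxC
    exact hne (h.uniq x ξ' hξ'G ξ hξ (specializes_iff_mem_closure.mpr hx')
      (specializes_iff_mem_closure.mpr hx))

theorem Hyp.existsUnique_mem_inter (h : Hyp G) {Z : Set X} (hZ : Z ∈ irreducibleComponents X) :
    ∃! x, x ∈ Z ∧ x ∈ G := by
  obtain ⟨ξ, hξ, rfl⟩ := h.exists_eq_closure hZ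
  refine ⟨ξ, ⟨subset_closure rfl, hξ⟩, ?_⟩
  rintro ξ' ⟨h1, h2⟩
  exact (h.eq_of_specializes hξ h2 (specializes_iff_mem_closure.mpr h1)).symm

end Groth.Agent.Lib.Helper3.IrrTop
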