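import Mathlib
import Groth.Agent.Lib.Helper3IrrTop
import Groth.Agent.Lib.Helper3EtGUSchB

set_option autoImplicit false
set_option linter.style.haveILetI false
universe u
open CategoryTheory AlgebraicGeometry

namespace Groth.Agent.Lib.Helper3.IrrTop

theorem locallyQuasiFinite_of_unramified {X Y : Scheme.{u}} (f : X ⟶ Y) [LocallyOfFiniteType f]
    [FormallyUnramified f] : LocallyQuasiFinite f := by
  refine ⟨fun {U} hU {V} hV e => ?_⟩
  have h1 := f.formallyUnramified_appLE hU hV e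
  have h2 := HasRingHomProperty.appLE (P := @LocallyOfFiniteType) f inferInstance ⟨U, hU⟩ ⟨V, hV⟩ e
  algebraize [(f.appLE U V e).hom]
  show Algebra.QuasiFinite _ _
  infer_instance

/-- no specializations inside a fibre of a locally quasi-finite morphism -/
theorem eq_of_specializes_of_fiber {X Y : Scheme.{u}} (f : X ⟶ Y) [LocallyQuasiFinite f]
    {ζ ξ : X} (h : ζ ⤳ ξ) (hf : f ζ = f ξ) : ζ = ξ := by
  have hd : _root_.IsDiscrete (f ⁻¹' {f ξ}) := f.isDiscrete_preimage_singleton (f ξ)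
  haveI : DiscreteTopology (f ⁻¹' {f ξ}) := isDiscrete_iff_discreteTopology.mp hd
  let a : f ⁻¹' {f ξ} := ⟨ζ, hf⟩
  let b : f ⁻¹' {f ξ} := ⟨ξ, rfl⟩
  have hab : a ⤳ b := (subtype_specializes_iff a b).mpr h
  exact congrArg Subtype.val hab.eq

/-- the generic fibre is locally finite -/
theorem exists_open_finite_fiber {X Y : Scheme.{u}} (f : X ⟶ Y) [LocallyQuasiFinite f] (y : Y)
    (x : X) : ∃ U : Set X, IsOpen U ∧ x ∈ U ∧ ((f ⁻¹' {y}) ∩ U).Finite := by
  obtain ⟨V, hV, U, hU, e, hxU, -⟩ := EtGUSch.exists_affine_nhds f x ⊤ trivial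
  refine ⟨U, U.isOpen, hxU, ?_⟩
  by_cases hy : y ∈ V
  · haveI : IsAffine U.toScheme := hU
    haveI : IsAffine V.toScheme := hV
    have hfin := (f.resLE V U e).finite_preimage_singleton ⟨y, hy⟩
    refine (hfin.image U.ι).subset ?_
    rintro x' ⟨hx'y, hx'U⟩
    refine ⟨⟨x', hx'U⟩, ?_, rfl⟩
    show f.resLE V U e ⟨x', hx'U⟩ = ⟨y, hy⟩
    apply Subtype.ext
    rw [Scheme.Hom.coe_resLE_apply]
    exact hx'y
  · convert Set.finite_empty
    rw [Set.eq_empty_iff_forall_notMem]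
    rintro x' ⟨hx'y, hx'U⟩
    apply hy
    rw [← (hx'y : f x' = y)]
    exact e hx'U

end Groth.Agent.Lib.Helper3.IrrTop
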