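import Mathlib
import Groth.Agent.Lib.Helper3IrrTopB

set_option autoImplicit false
set_option linter.style.haveILetI false
set_option linter.unusedSectionVars false

universe u

open CategoryTheory AlgebraicGeometry Limits

namespace Groth.Agent.Lib.Helper3.TwcA

section resfield

variable {X Y S : Scheme.{u}}

-- if a composite induces a bijection on residue fields, so does the second morphism
lemma residueFieldMap_bijective_of_comp {A B C : Scheme.{u}} (g : A ⟶ B) (f : B ⟶ C) (a : A)
    (h : Function.Bijective ((g ≫ f).residueFieldMap a).hom) :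
    Function.Bijective (f.residueFieldMap (g a)).hom := by
  have key : ∀ w, ((g ≫ f).residueFieldMap a).hom w =
      (g.residueFieldMap a).hom ((f.residueFieldMap (g a)).hom w) := by
    intro w
    have e := Scheme.residueFieldMap_comp g f a
    exact congrArg (fun φ => φ.hom w) e
  have hg_inj : Function.Injective (g.residueFieldMap a).hom := RingHom.injective _
  have hf_inj : Function.Injective (f.residueFieldMap (g a)).hom := RingHom.injective _
  have hg_surj : Function.Surjective (g.residueFieldMap a).hom := by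
    intro z
    obtain ⟨w, hw⟩ := h.2 z
    exact ⟨(f.residueFieldMap (g a)).hom w, (key w).symm.trans hw⟩
  refine ⟨hf_inj, ?_⟩
  intro z
  obtain ⟨w, hw⟩ := h.2 ((g.residueFieldMap a).hom z)
  exact ⟨w, hg_inj ((key w).symm.trans hw)⟩

-- a unique point of a fibre product over a pair of points, when the first residue field
-- extension is trivial
lemma eq_of_fst_eq_of_snd_eq (f : X ⟶ S) (g : Y ⟶ S) (z₁ z₂ : ↑(pullback f g))
    (h1 : pullback.fst f g z₁ = pullback.fst f g z₂)
    (h2 : pullback.snd f g z₁ = pullback.snd f g z₂)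
    (hbij : Function.Bijective (f.residueFieldMap (pullback.fst f g z₂)).hom) : z₁ = z₂ := by
  apply Scheme.Pullback.carrierEquiv.injective
  rw [Scheme.Pullback.carrierEquiv_eq_iff]
  have hT : (Scheme.Pullback.carrierEquiv z₁).1 = (Scheme.Pullback.carrierEquiv z₂).1 :=
    Scheme.Pullback.Triplet.ext h1 h2
  refine ⟨hT, ?_⟩
  have hsub : Subsingleton (Spec (Scheme.Pullback.carrierEquiv z₂).1.tensor) := by
    obtain ⟨T, hTdef⟩ : ∃ T : Scheme.Pullback.Triplet f g, T = (Scheme.Pullback.carrierEquiv z₂).1 :=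
      ⟨_, rfl⟩
    rw [← hTdef]
    have hTx : T.x = pullback.fst f g z₂ := by rw [hTdef]; rfl
    have hiso1 : IsIso (f.residueFieldMap T.x) := by
      rw [hTx]
      have := (ConcreteCategory.isIso_iff_bijective (f.residueFieldMap (pullback.fst f g z₂))).mpr hbij
      exact this
    haveI : IsIso ((S.residueFieldCongr T.hx).inv ≫ f.residueFieldMap T.x) := inferInstance
    have hiso2 : IsIso T.tensorInr := by
      unfold Scheme.Pullback.Triplet.tensorInr
      exact pushout_inr_iso_of_left_iso _ _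
    let e : T.tensor ≅ Y.residueField T.y := (asIso T.tensorInr).symm
    have hbij2 : Function.Bijective (Spec.map e.hom) :=
      ConcreteCategory.bijective_of_isIso (Scheme.forgetToTop.map (Spec.map e.hom)) |> fun h => h
    haveI : Subsingleton (Spec (Y.residueField T.y)) := inferInstance
    exact hbij2.surjective.subsingleton
  exact Subsingleton.elim _ _


-- a morphism admitting a section induces a bijection on residue fields at points of the section
lemma residueFieldMap_bijective_of_section {Y T : Scheme.{u}} (h : Y ⟶ T) (σ : T ⟶ Y)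
    (hσ : σ ≫ h = 𝟙 T) (t : T) : Function.Bijective (h.residueFieldMap (σ t)).hom := by
  apply residueFieldMap_bijective_of_comp σ h t
  haveI : IsOpenImmersion (σ ≫ h) := by rw [hσ]; infer_instance
  exact ConcreteCategory.bijective_of_isIso ((σ ≫ h).residueFieldMap t)

-- a morphism through which a field-valued point with trivial residue field extension factors
lemma residueFieldMap_bijective_of_point {K : Type u} [Field K] (g : Spec (.of K) ⟶ X)
    (f : X ⟶ S) (s : S) (ψ : S.residueField s ⟶ .of K) (hψ : Function.Bijective ψ.hom)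
    (hg : g ≫ f = Spec.map ψ ≫ S.fromSpecResidueField s) :
    Function.Bijective (f.residueFieldMap (g (IsLocalRing.closedPoint K))).hom := by
  have h1 : Scheme.SpecToEquivOfField K S (g ≫ f) = ⟨s, ψ⟩ := by
    rw [hg]
    exact (Scheme.SpecToEquivOfField K S).apply_symm_apply ⟨s, ψ⟩
  rw [Scheme.SpecToEquivOfField_eq_iff] at h1
  obtain ⟨e, he⟩ := h1
  have h2 := Scheme.descResidueField_stalkClosedPointTo_comp f g
  have h3 : f.residueFieldMap (g (IsLocalRing.closedPoint K)) ≫
      Scheme.descResidueField (Scheme.stalkClosedPointTo g) = (S.residueFieldCongr e).hom ≫ ψ :=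
    h2.symm.trans he
  have hiso : Function.Bijective (S.residueFieldCongr e).hom.hom :=
    ConcreteCategory.bijective_of_isIso _
  have h4 : Function.Bijective ((S.residueFieldCongr e).hom ≫ ψ).hom := hψ.comp hiso
  have key : ∀ w, (Scheme.descResidueField (Scheme.stalkClosedPointTo g)).hom
      ((f.residueFieldMap (g (IsLocalRing.closedPoint K))).hom w) =
      ((S.residueFieldCongr e).hom ≫ ψ).hom w := fun w => congrArg (fun φ => φ.hom w) h3
  have hf_inj : Function.Injective (f.residueFieldMap (g (IsLocalRing.closedPoint K))).hom :=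
    RingHom.injective _
  have hD_inj : Function.Injective (Scheme.descResidueField (Scheme.stalkClosedPointTo g)).hom :=
    RingHom.injective _
  refine ⟨hf_inj, ?_⟩
  intro z
  obtain ⟨w, hw⟩ := h4.2 ((Scheme.descResidueField (Scheme.stalkClosedPointTo g)).hom z)
  exact ⟨w, hD_inj ((key w).trans hw)⟩

end resfield


section sheets

-- `h : Y ⟶ T` is a disjoint union of copies of `T`, given by the sections `σ i`
structure Sheets {Y T : Scheme.{u}} (h : Y ⟶ T) {I : Type u} (σ : I → (T ⟶ Y)) : Prop where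
  sec : ∀ i, σ i ≫ h = 𝟙 T
  isOpenImmersion : ∀ i, IsOpenImmersion (σ i)
  cover : ∀ y : Y, ∃ i, ∃ t : T, σ i t = y
  disj : ∀ i j (t t' : T), σ i t = σ j t' → i = j

namespace Sheets

variable {Y T : Scheme.{u}} {h : Y ⟶ T} {I : Type u} {σ : I → (T ⟶ Y)}

lemma apply_sec (hs : Sheets h σ) (i : I) (t : T) : h (σ i t) = t := by
  rw [← Scheme.Hom.comp_apply, hs.sec i]
  rfl

lemma cover' (hs : Sheets h σ) (y : Y) : ∃ i, σ i (h y) = y := by
  obtain ⟨i, t, rfl⟩ := hs.cover y
  exact ⟨i, by rw [hs.apply_sec]⟩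

lemma iSup_opensRange (hs : Sheets h σ) :
    haveI := hs.isOpenImmersion
    (⨆ i, (σ i).opensRange) = ⊤ := by
  haveI := hs.isOpenImmersion
  rw [eq_top_iff]
  intro y _
  obtain ⟨i, t, rfl⟩ := hs.cover y
  rw [TopologicalSpace.Opens.mem_iSup]
  exact ⟨i, t, rfl⟩

lemma opensRange_ι_comp (hs : Sheets h σ) (i : I) :
    haveI := hs.isOpenImmersion i
    (σ i).opensRange.ι ≫ h = (σ i).isoOpensRange.inv := by
  haveI := hs.isOpenImmersion i
  rw [← cancel_epi (σ i).isoOpensRange.hom, ← Category.assoc, Scheme.Hom.isoOpensRange_hom_ι,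
    hs.sec, Iso.hom_inv_id]

theorem etale (hs : Sheets h σ) : Etale h := by
  haveI := hs.isOpenImmersion
  rw [IsZariskiLocalAtSource.iff_of_iSup_eq_top (P := @Etale) _ hs.iSup_opensRange]
  intro i
  rw [hs.opensRange_ι_comp i]
  infer_instance

-- the range of the diagonal
lemma range_diagonal (hs : Sheets h σ) :
    Set.range (pullback.diagonal h) =
      ⋃ i, (pullback.fst h h ⁻¹' Set.range (σ i)) ∩ (pullback.snd h h ⁻¹' Set.range (σ i)) := by
  apply Set.Subset.antisymm
  · rintro _ ⟨y, rfl⟩
    obtain ⟨i, t, ht⟩ := hs.cover y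
    rw [Set.mem_iUnion]
    refine ⟨i, ⟨t, ?_⟩, ⟨t, ?_⟩⟩
    · rw [ht, ← Scheme.Hom.comp_apply, pullback.diagonal_fst]; rfl
    · rw [ht, ← Scheme.Hom.comp_apply, pullback.diagonal_snd]; rfl
  · intro z hz
    rw [Set.mem_iUnion] at hz
    obtain ⟨i, ⟨t, ht⟩, ⟨t', ht'⟩⟩ := hz
    have htt' : t = t' := by
      have h1 : h (pullback.fst h h z) = h (pullback.snd h h z) := by
        rw [← Scheme.Hom.comp_apply, ← Scheme.Hom.comp_apply, pullback.condition]
      rw [← ht, ← ht', hs.apply_sec, hs.apply_sec] at h1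
      exact h1
    subst htt'
    refine ⟨pullback.fst h h z, ?_⟩
    apply eq_of_fst_eq_of_snd_eq h h
    · rw [← Scheme.Hom.comp_apply, pullback.diagonal_fst]; rfl
    · rw [← Scheme.Hom.comp_apply, pullback.diagonal_snd, ← ht, ← ht']; rfl
    · rw [← ht]
      exact residueFieldMap_bijective_of_section h (σ i) (hs.sec i) t

theorem isSeparated (hs : Sheets h σ) : IsSeparated h := by
  haveI := hs.isOpenImmersion
  refine ⟨IsClosedImmersion.of_isPreimmersion _ ?_⟩
  rw [hs.range_diagonal, ← isOpen_compl_iff]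
  have hcompl : (⋃ i, (pullback.fst h h ⁻¹' Set.range (σ i)) ∩
      (pullback.snd h h ⁻¹' Set.range (σ i)))ᶜ =
      ⋃ p : {p : I × I // p.1 ≠ p.2}, (pullback.fst h h ⁻¹' Set.range (σ p.1.1)) ∩
        (pullback.snd h h ⁻¹' Set.range (σ p.1.2)) := by
    ext z
    simp only [Set.mem_compl_iff, Set.mem_iUnion, Set.mem_inter_iff, Set.mem_preimage]
    constructor
    · intro hz
      obtain ⟨i, t, hi⟩ := hs.cover (pullback.fst h h z)
      obtain ⟨j, t', hj⟩ := hs.cover (pullback.snd h h z)
      refine ⟨⟨(i, j), ?_⟩, ⟨t, hi⟩, ⟨t', hj⟩⟩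
      intro hij
      simp only at hij
      subst hij
      exact hz ⟨i, ⟨t, hi⟩, ⟨t', hj⟩⟩
    · rintro ⟨⟨⟨i, j⟩, hij⟩, ⟨t, hi⟩, ⟨t', hj⟩⟩ ⟨k, ⟨s, hk⟩, ⟨s', hk'⟩⟩
      simp only at hij hi hj
      have h1 : i = k := hs.disj i k t s (hi.trans hk.symm)
      have h2 : j = k := hs.disj j k t' s' (hj.trans hk'.symm)
      exact hij (h1.trans h2.symm)
  rw [hcompl]
  refine isOpen_iUnion fun p => IsOpen.inter ?_ ?_
  · exact (σ p.1.1).isOpenEmbedding.isOpen_range.preimage (pullback.fst h h).continuous
  · exact (σ p.1.2).isOpenEmbedding.isOpen_range.preimage (pullback.snd h h).continuous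


-- transport along an isomorphism of the source
theorem of_iso (hs : Sheets h σ) {Y' : Scheme.{u}} (e : Y ≅ Y') (h' : Y' ⟶ T)
    (he : e.hom ≫ h' = h) : Sheets h' (fun i => σ i ≫ e.hom) where
  sec i := by rw [Category.assoc, he, hs.sec]
  isOpenImmersion i := by
    haveI := hs.isOpenImmersion i
    infer_instance
  cover y' := by
    obtain ⟨i, t, ht⟩ := hs.cover (e.inv y')
    refine ⟨i, t, ?_⟩
    rw [Scheme.Hom.comp_apply, ht, ← Scheme.Hom.comp_apply, e.inv_hom_id]
    rfl
  disj i j t t' hh := by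
    apply hs.disj i j t t'
    have key : ∀ y : Y, e.inv (e.hom y) = y := fun y => by
      rw [← Scheme.Hom.comp_apply, e.hom_inv_id]; rfl
    have h1 : e.inv (e.hom (σ i t)) = e.inv (e.hom (σ j t')) := congrArg (fun y => e.inv y) hh
    rw [key, key] at h1
    exact h1

-- the pulled back sections
noncomputable def pbSec (hs : Sheets h σ) {T' : Scheme.{u}} (g : T' ⟶ T) (i : I) :
    T' ⟶ pullback h g :=
  pullback.lift (g ≫ σ i) (𝟙 T') (by rw [Category.assoc, hs.sec, Category.comp_id, Category.id_comp])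

lemma isPullback_pbSec (hs : Sheets h σ) {T' : Scheme.{u}} (g : T' ⟶ T) (i : I) :
    IsPullback g (hs.pbSec g i) (σ i) (pullback.fst h g) := by
  have hw : g ≫ σ i = hs.pbSec g i ≫ pullback.fst h g := by
    rw [pbSec, pullback.lift_fst]
  refine IsPullback.mk ⟨hw⟩ ⟨PullbackCone.IsLimit.mk _ (fun c => c.snd ≫ pullback.snd h g)
    ?_ ?_ ?_⟩
  · intro c
    have h1 : c.snd ≫ pullback.fst h g ≫ h = c.fst := by
      rw [← Category.assoc, ← c.condition, Category.assoc, hs.sec, Category.comp_id]
    rw [Category.assoc, ← pullback.condition, h1]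
  · intro c
    have h1 : c.snd ≫ pullback.fst h g ≫ h = c.fst := by
      rw [← Category.assoc, ← c.condition, Category.assoc, hs.sec, Category.comp_id]
    apply pullback.hom_ext
    · rw [Category.assoc, pbSec, pullback.lift_fst, ← Category.assoc, Category.assoc c.snd,
        ← pullback.condition, h1, c.condition]
    · rw [Category.assoc, pbSec, pullback.lift_snd, Category.comp_id]
  · intro c m _ hm2
    rw [← hm2, Category.assoc, pbSec, pullback.lift_snd, Category.comp_id]

-- sheets are stable under base change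
theorem pullback (hs : Sheets h σ) {T' : Scheme.{u}} (g : T' ⟶ T) :
    Sheets (pullback.snd h g) (hs.pbSec g) where
  sec i := by rw [pbSec, pullback.lift_snd]
  isOpenImmersion i := by
    haveI := hs.isOpenImmersion i
    exact MorphismProperty.of_isPullback (P := @IsOpenImmersion) (hs.isPullback_pbSec g i)
      inferInstance
  cover y' := by
    obtain ⟨i, t, ht⟩ := hs.cover (pullback.fst h g y')
    refine ⟨i, ?_⟩
    obtain ⟨w, -, hw⟩ := Scheme.exists_preimage_of_isPullback (hs.isPullback_pbSec g i)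
      t y' ht
    exact ⟨w, hw⟩
  disj i j t t' hh := by
    have h1 := congrArg (fun y => pullback.fst h g y) hh
    simp only [← Scheme.Hom.comp_apply, pbSec, pullback.lift_fst] at h1
    exact hs.disj i j _ _ h1

-- restriction to an open and closed subscheme, over a connected base
theorem restrict (hs : Sheets h σ) [PreconnectedSpace T] (t₀ : T) {P : Scheme.{u}} (m : P ⟶ Y)
    [IsOpenImmersion m] (hcl : IsClosed (Set.range m)) :
    ∃ τ : {i : I // σ i t₀ ∈ Set.range m} → (T ⟶ P), (∀ i, τ i ≫ m = σ i.1) ∧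
      Sheets (m ≫ h) τ := by
  have hsub : ∀ i : I, ∀ t : T, σ i t ∈ Set.range m → ∀ t' : T, σ i t' ∈ Set.range m := by
    intro i t ht t'
    have hclopen : IsClopen ((σ i) ⁻¹' Set.range m) :=
      ⟨hcl.preimage (σ i).continuous, m.isOpenEmbedding.isOpen_range.preimage (σ i).continuous⟩
    have := hclopen.eq_univ ⟨t, ht⟩
    have h2 : t' ∈ (σ i) ⁻¹' Set.range m := by rw [this]; trivial
    exact h2
  have hrange : ∀ i : {i : I // σ i t₀ ∈ Set.range m}, Set.range (σ i.1) ⊆ Set.range m := by
    rintro i _ ⟨t, rfl⟩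
    exact hsub i.1 t₀ i.2 t
  refine ⟨fun i => IsOpenImmersion.lift m (σ i.1) (hrange i), fun i =>
    IsOpenImmersion.lift_fac _ _ _, ?_⟩
  refine ⟨fun i => ?_, fun i => ?_, fun p => ?_, fun i j t t' hh => ?_⟩
  · rw [← Category.assoc, IsOpenImmersion.lift_fac, hs.sec]
  · haveI := hs.isOpenImmersion i.1
    haveI : IsOpenImmersion (IsOpenImmersion.lift m (σ i.1) (hrange i) ≫ m) := by
      rw [IsOpenImmersion.lift_fac]; infer_instance
    exact IsOpenImmersion.of_comp _ m
  · obtain ⟨i, t, ht⟩ := hs.cover (m p)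
    have hi : σ i t₀ ∈ Set.range m := hsub i t ⟨p, ht.symm⟩ t₀
    refine ⟨⟨i, hi⟩, t, ?_⟩
    apply m.injective
    rw [← Scheme.Hom.comp_apply, IsOpenImmersion.lift_fac]
    exact ht
  · apply Subtype.ext
    apply hs.disj i.1 j.1 t t'
    have := congrArg (fun p => m p) hh
    simp only [← Scheme.Hom.comp_apply, IsOpenImmersion.lift_fac] at this
    exact this

-- a single sheet: the morphism is an isomorphism
theorem isIso (hs : Sheets h σ) [Nonempty I] (hI : ∀ i j : I, i = j) : IsIso h := by
  obtain ⟨i₀⟩ := ‹Nonempty I›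
  haveI := hs.isOpenImmersion i₀
  haveI : Surjective (σ i₀) := by
    refine ⟨fun y => ?_⟩
    obtain ⟨i, t, ht⟩ := hs.cover y
    exact ⟨t, by rw [hI i₀ i]; exact ht⟩
  haveI : IsIso (σ i₀) := (isIso_iff_isOpenImmersion_and_surjective _).mpr ⟨inferInstance, inferInstance⟩
  haveI : IsIso (σ i₀ ≫ h) := by rw [hs.sec]; infer_instance
  exact IsIso.of_isIso_comp_left (σ i₀) h


-- finitely many sheets: the morphism is finite
theorem isFinite (hs : Sheets h σ) [Finite I] : IsFinite h := by
  haveI := hs.etale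
  haveI := hs.isSeparated
  haveI : QuasiCompact h := by
    refine ⟨fun U hU hc => ?_⟩
    have heq : h ⁻¹' U = ⋃ i, (σ i) '' U := by
      ext y
      simp only [Set.mem_preimage, Set.mem_iUnion, Set.mem_image]
      constructor
      · intro hy
        obtain ⟨i, hi⟩ := hs.cover' y
        exact ⟨i, h y, hy, hi⟩
      · rintro ⟨i, t, ht, rfl⟩
        rw [hs.apply_sec]; exact ht
    rw [heq]
    exact isCompact_iUnion fun i => hc.image (σ i).continuous
  haveI : UniversallyClosed h := by
    apply UniversallyClosed.of_valuativeCriterion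
    intro Sq
    obtain ⟨i, t, ht⟩ := hs.cover (Sq.i₁ (IsLocalRing.closedPoint Sq.K))
    haveI := hs.isOpenImmersion i
    have hr : Set.range Sq.i₁ ⊆ Set.range (σ i) := by
      rintro _ ⟨p, rfl⟩
      have : p = IsLocalRing.closedPoint Sq.K := Subsingleton.elim _ _
      rw [this]
      exact ⟨t, ht⟩
    have h1 : Sq.i₁ = (Sq.i₁ ≫ h) ≫ σ i := by
      have h2 := IsOpenImmersion.lift_fac (σ i) Sq.i₁ hr
      have h3 : IsOpenImmersion.lift (σ i) Sq.i₁ hr = Sq.i₁ ≫ h := by
        calc IsOpenImmersion.lift (σ i) Sq.i₁ hr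
            = IsOpenImmersion.lift (σ i) Sq.i₁ hr ≫ (σ i ≫ h) := by
              rw [hs.sec, Category.comp_id]
          _ = (IsOpenImmersion.lift (σ i) Sq.i₁ hr ≫ σ i) ≫ h := (Category.assoc _ _ _).symm
          _ = Sq.i₁ ≫ h := by rw [h2]
      rw [← h3, h2]
    refine ⟨⟨⟨Sq.i₂ ≫ σ i, ?_, ?_⟩⟩⟩
    · rw [← Category.assoc, ← Sq.commSq.w, ← h1]
    · rw [Category.assoc, hs.sec, Category.comp_id]
  haveI : LocallyQuasiFinite h := Groth.Agent.Lib.Helper3.IrrTop.locallyQuasiFinite_of_unramified h
  haveI : IsProper h := {}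
  exact IsFinite.of_isProper_of_locallyQuasiFinite h

end Sheets

end sheets

end Groth.Agent.Lib.Helper3.TwcA
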