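import Mathlib
import Groth.Prelude.Def_TwC
import Groth.Agent.Lib.Helper3TwcA
import Groth.Agent.Lib.Helper12Descent

set_option autoImplicit false
set_option linter.style.haveILetI false
set_option linter.unusedSectionVars false

universe u

open CategoryTheory AlgebraicGeometry Limits

namespace Groth.Agent.Lib.Helper3.TwcB

open Groth.Agent.Lib.Helper3.TwcA

-- an isomorphism with a constant scheme gives sheets
theorem sheets_of_iso_const {T : Scheme.{u}} {I : Type u} (Y : Over T)
    (e : Y ≅ TwC.const T I) :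
    Sheets Y.hom (fun i => Sigma.ι (fun _ : I => T) i ≫ e.inv.left) where
  sec i := by
    rw [Category.assoc, Over.w e.inv]
    exact Sigma.ι_desc _ _
  isOpenImmersion i := by
    haveI : IsIso e.inv.left := inferInstanceAs (IsIso ((Over.forget T).map e.inv))
    infer_instance
  cover y := by
    obtain ⟨i, t, ht⟩ := (sigmaOpenCover (fun _ : I => T)).exists_eq (e.hom.left y)
    refine ⟨i, t, ?_⟩
    have ht' : Sigma.ι (fun _ : I => T) i t = e.hom.left y := ht
    rw [Scheme.Hom.comp_apply, ht', ← Scheme.Hom.comp_apply, ← Over.comp_left, e.hom_inv_id]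
    rfl
  disj i j t t' hh := by
    have key : ∀ c, e.hom.left (e.inv.left c) = c := fun c => by
      rw [← Scheme.Hom.comp_apply, ← Over.comp_left, e.inv_hom_id]; rfl
    have h1 := congrArg (fun y => e.hom.left y) hh
    simp only [Scheme.Hom.comp_apply] at h1
    rw [key, key] at h1
    have h2 := (sigmaι_eq_iff (fun _ : I => T) i j t t').mp h1
    exact congrArg Sigma.fst h2

-- descent of a property local on the target along flat, locally finitely presented morphisms
-- whose ranges cover the target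
theorem of_local_pullback (P : MorphismProperty Scheme.{u}) [IsZariskiLocalAtTarget P]
    [P.DescendsAlong (@Surjective ⊓ @Flat ⊓ @LocallyOfFinitePresentation)]
    {Z S : Scheme.{u}} (q : Z ⟶ S)
    (H : ∀ s : S, ∃ (T : Scheme.{u}) (a : T ⟶ S), Flat a ∧ LocallyOfFinitePresentation a ∧
      s ∈ Set.range a ∧ P (pullback.snd q a)) : P q := by
  choose T a hfl hlfp hs hP using H
  haveI := hfl
  haveI := hlfp
  let U : S → S.Opens := fun s => ⟨Set.range (a s), (a s).isOpenMap.isOpen_range⟩
  have hU : iSup U = ⊤ := by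
    rw [eq_top_iff]
    intro s _
    rw [TopologicalSpace.Opens.mem_iSup]
    exact ⟨s, hs s⟩
  apply IsZariskiLocalAtTarget.of_iSup_eq_top U hU
  intro s
  have hr : Set.range (a s) ⊆ Set.range (U s).ι := by
    rw [Scheme.Opens.range_ι]; rfl
  obtain ⟨a', ha'⟩ : ∃ a' : T s ⟶ (U s : Scheme.{u}), a' ≫ (U s).ι = a s :=
    ⟨IsOpenImmersion.lift (U s).ι (a s) hr, IsOpenImmersion.lift_fac _ _ _⟩
  have hQ : (@Surjective ⊓ @Flat ⊓ @LocallyOfFinitePresentation : MorphismProperty Scheme.{u})
      a' := by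
    refine ⟨⟨⟨fun x => ?_⟩, ?_⟩, ?_⟩
    · obtain ⟨x, t, ht⟩ := x
      refine ⟨t, ?_⟩
      apply (U s).ι.injective
      rw [← Scheme.Hom.comp_apply, ha']
      exact ht
    · exact MorphismProperty.of_postcomp (W := @Flat) a' (U s).ι
        (inferInstance : IsOpenImmersion (U s).ι) (by rw [ha']; infer_instance)
    · exact MorphismProperty.of_postcomp (W := @LocallyOfFinitePresentation) a' (U s).ι
        (inferInstance : IsOpenImmersion (U s).ι) (by rw [ha']; infer_instance)
  have hr2 : Set.range (pullback.fst q (a s)) ⊆ Set.range (q ⁻¹ᵁ U s).ι := by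
    rw [Scheme.Opens.range_ι]
    rintro _ ⟨z, rfl⟩
    change q (pullback.fst q (a s) z) ∈ Set.range (a s)
    refine ⟨pullback.snd q (a s) z, ?_⟩
    rw [← Scheme.Hom.comp_apply, ← Scheme.Hom.comp_apply, pullback.condition]
  obtain ⟨f', hf'⟩ : ∃ f' : pullback q (a s) ⟶ (q ⁻¹ᵁ U s : Scheme.{u}),
      f' ≫ (q ⁻¹ᵁ U s).ι = pullback.fst q (a s) :=
    ⟨IsOpenImmersion.lift _ _ hr2, IsOpenImmersion.lift_fac _ _ _⟩
  have hright := (isPullback_morphismRestrict q (U s)).flip
  have houter : IsPullback (f' ≫ (q ⁻¹ᵁ U s).ι) (pullback.snd q (a s)) q (a' ≫ (U s).ι) := by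
    rw [hf', ha']
    exact IsPullback.of_hasPullback q (a s)
  have hcomm : f' ≫ (q ∣_ U s) = pullback.snd q (a s) ≫ a' := by
    rw [← cancel_mono (U s).ι, Category.assoc, Category.assoc, morphismRestrict_ι, ← Category.assoc,
      hf', ha', pullback.condition]
  have hleft : IsPullback f' (pullback.snd q (a s)) (q ∣_ U s) a' :=
    IsPullback.of_right houter hcomm hright
  exact MorphismProperty.of_isPullback_of_descendsAlong (P := P)
    (Q := @Surjective ⊓ @Flat ⊓ @LocallyOfFinitePresentation) hleft.flip hQ (hP s)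


-- geometric form of "locally constant for the etale topology"
def TC {X S : Scheme.{u}} (p : X ⟶ S) : Prop :=
  ∀ s : S, ∃ (T : Scheme.{u}) (a : T ⟶ S), Etale a ∧ s ∈ Set.range a ∧
    ∃ (I : Type u) (σ : I → (T ⟶ pullback p a)), Sheets (pullback.snd p a) σ

theorem tc_of_isTwConst {S : Scheme.{u}} (X : Over S)
    (hX : TwC.IsTwConst TwC.Topology.etale X) : TC X.hom := by
  intro s
  obtain ⟨S', f, hf, hs, I, ⟨e⟩⟩ := hX s
  exact ⟨S', f, hf, hs, I, _, sheets_of_iso_const (Red.bc f X) e⟩

namespace TC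

variable {X S : Scheme.{u}} {p : X ⟶ S}

theorem etale (hp : TC p) : Etale p := by
  apply of_local_pullback (P := @Etale)
  intro s
  obtain ⟨T, a, ha, hs, I, σ, hσ⟩ := hp s
  exact ⟨T, a, inferInstance, inferInstance, hs, hσ.etale⟩

theorem isSeparated (hp : TC p) : IsSeparated p := by
  haveI := Groth.Agent.Lib.Helper12.descendsAlong_isSeparated.{u}
  apply of_local_pullback (P := @IsSeparated)
  intro s
  obtain ⟨T, a, ha, hs, I, σ, hσ⟩ := hp s
  exact ⟨T, a, inferInstance, inferInstance, hs, hσ.isSeparated⟩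

end TC

-- sheets over a refinement of the base
theorem Sheets.comp_base {X S T T' : Scheme.{u}} {p : X ⟶ S} {a : T ⟶ S} {I : Type u}
    {σ : I → (T ⟶ pullback p a)} (hs : Sheets (pullback.snd p a) σ) (g : T' ⟶ T) :
    ∃ σ' : I → (T' ⟶ pullback p (g ≫ a)), Sheets (pullback.snd p (g ≫ a)) σ' :=
  ⟨_, (hs.pullback g).of_iso (pullbackLeftPullbackSndIso p a g) _
    (pullbackLeftPullbackSndIso_hom_snd p a g)⟩

end Groth.Agent.Lib.Helper3.TwcB
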