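-- helper15: representability of the functor of homomorphisms between quasi-isotrivial groups of multiplicative type
import Mathlib
import Groth.Agent.Lib.Helper15RepGlueC
import Groth.Agent.Lib.Helper15HomRepE
import Groth.Agent.Lib.Helper15DSbc
import Groth.Agent.Lib.Helper15ClopConst
import Groth.Agent.Lib.Helper3TwcB
import Groth.Agent.S1402
set_option autoImplicit false
universe u
open CategoryTheory CategoryTheory.Limits AlgebraicGeometry MonoidalCategory
  CartesianMonoidalCategory MonObj GrpObj Opposite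

namespace Groth.Agent.Lib.Helper15HomRep

section Const

/-- a constant scheme is ind-quasi-affine over its base. -/
theorem isIndQuasiAffineHom_const (X : Scheme.{u}) (I : Type u) :
    MoreMor.IsIndQuasiAffineHom (TwC.const X I).hom := by
  have hs := Groth.Agent.Lib.Helper3.TwcB.sheets_of_iso_const (TwC.const X I) (Iso.refl _)
  have h1 : Etale (TwC.const X I).hom := hs.etale
  have h2 : IsSeparated (TwC.const X I).hom := hs.isSeparated
  have h3 : LocallyQuasiFinite (TwC.const X I).hom :=
    Groth.Agent.Lib.Helper15ClopConst.lqf_of_etale _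
  exact Groth.Agent.S1402.result _

end Const

section Main

variable {S : Scheme.{u}} (H G : Over S) [GrpObj H] [GrpObj G]

include H G in
/-- a common etale neighbourhood over which both groups become diagonalisable. -/
theorem exists_common
    (hH : TwC.Locally S TwC.Topology.etale (fun S' f => ∃ (M : Type) (_ : AddCommGroup M),
      Nonempty (Grp.mk (Red.bc f H) ≅ Grp.mk (Red.DS S' M))))
    (hG : TwC.Locally S TwC.Topology.etale (fun S' f => ∃ (M : Type) (_ : AddCommGroup M),
      AddGroup.FG M ∧ Nonempty (Grp.mk (Red.bc f G) ≅ Grp.mk (Red.DS S' M)))) (s : S) :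
    ∃ (X : Scheme.{u}) (g : X ⟶ S), Etale g ∧ s ∈ Set.range g ∧ ∃ I : Type u,
      Nonempty (((Over.map g).op ⋙ homPsh H G).RepresentableBy (TwC.const X I)) := by
  obtain ⟨S₁, f₁, hf₁, ⟨x₁, hx₁⟩, M₁, _, ⟨α⟩⟩ := hH s
  obtain ⟨S₂, f₂, hf₂, ⟨x₂, hx₂⟩, M₂, _, hM₂, ⟨β⟩⟩ := hG s
  obtain ⟨x, hx, -⟩ := Scheme.Pullback.exists_preimage_pullback (f := f₁) (g := f₂) x₁ x₂
    (hx₁.trans hx₂.symm)
  refine ⟨pullback f₁ f₂, pullback.fst f₁ f₂ ≫ f₁, inferInstance, ⟨x, ?_⟩,
    ULift.{u} (M₂ →+ M₁), ?_⟩
  · rw [Scheme.Hom.comp_apply, hx]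
    exact hx₁
  · obtain ⟨α'⟩ := Groth.Agent.Lib.Helper15DSbc.nonempty_iso_bc f₁ (pullback.fst f₁ f₂) H M₁ α
    have hβ' := Groth.Agent.Lib.Helper15DSbc.nonempty_iso_bc f₂ (pullback.snd f₁ f₂) G M₂ β
    rw [← pullback.condition] at hβ'
    obtain ⟨β'⟩ := hβ'
    exact nonempty_representableBy_of_iso _ H G M₁ M₂ hM₂ α' β'

/-- **the functor of homomorphisms between quasi-isotrivial groups of multiplicative type, the
target of finite type, is representable by a quasi-isotrivial twisted constant scheme.** -/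
theorem exists_representsHom
    (hH : TwC.Locally S TwC.Topology.etale (fun S' f => ∃ (M : Type) (_ : AddCommGroup M),
      Nonempty (Grp.mk (Red.bc f H) ≅ Grp.mk (Red.DS S' M))))
    (hG : TwC.Locally S TwC.Topology.etale (fun S' f => ∃ (M : Type) (_ : AddCommGroup M),
      AddGroup.FG M ∧ Nonempty (Grp.mk (Red.bc f G) ≅ Grp.mk (Red.DS S' M)))) :
    ∃ (A : Over S) (υ : H ⊗ A ⟶ G), AutFam.RepresentsHom H G A υ ∧
      TwC.IsTwConst TwC.Topology.etale A := by
  choose X g hg hs I rep using exists_common H G hH hG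
  have hcov : Presieve.ofArrows X g ∈ Scheme.fpqcPrecoverage S := by
    refine Scheme.fppfPrecoverage_le_fpqcPrecoverage _ ?_
    rw [Scheme.fppfPrecoverage, Scheme.ofArrows_mem_precoverage_iff]
    refine ⟨fun t => ⟨t, hs t⟩, fun t => ?_⟩
    have := hg t
    exact ⟨inferInstance, inferInstance⟩
  obtain ⟨B, ⟨repB⟩, hB⟩ := Groth.Agent.Lib.Helper15RepGlue.exists_representableBy
    (P := homPsh H G) (g := g) (A := fun s => TwC.const (X s) (I s))
    (fun s => (rep s).some) hcov (fun s => isIndQuasiAffineHom_const (X s) (I s))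
    (isSheafFor_homPsh H G g hcov)
  refine ⟨B, _, representsHom_of_representableBy H G B repB, ?_⟩
  intro s
  exact ⟨X s, g s, hg s, hs s, I s, hB s⟩

end Main

end Groth.Agent.Lib.Helper15HomRep
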