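-- helper15: the functor of characters of a quasi-isotrivial group of multiplicative type
import Mathlib
import Groth.Agent.Lib.Helper15HomRepF
import Groth.Agent.Lib.Helper15HomRepJ
set_option autoImplicit false
universe u
open CategoryTheory CategoryTheory.Limits AlgebraicGeometry MonoidalCategory
  CartesianMonoidalCategory MonObj GrpObj Opposite

namespace Groth.Agent.Lib.Helper15HomRep

section Char

variable {S : Scheme.{u}} (H : Over S) [GrpObj H]

include H in
/-- an etale neighbourhood over which the group becomes diagonalisable, with the local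
representing object of the functor of characters. -/
theorem exists_common_char
    (hH : TwC.Locally S TwC.Topology.etale (fun S' f => ∃ (M : Type) (_ : AddCommGroup M),
      Nonempty (Grp.mk (Red.bc f H) ≅ Grp.mk (Red.DS S' M)))) (s : S) :
    ∃ (X : Scheme.{u}) (g : X ⟶ S), Etale g ∧ s ∈ Set.range g ∧ ∃ (I : Type u) (_ : Group I)
      (rep : ((Over.map g).op ⋙ homPsh H (Red.Gm S)).RepresentableBy (TwC.const X I)),
      ∀ m n : I, (rep.homEquiv (TwC.pt X I m)).1 * (rep.homEquiv (TwC.pt X I n)).1 =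
        (rep.homEquiv (TwC.pt X I (m * n))).1 := by
  obtain ⟨S₁, f₁, hf₁, hs₁, M₁, _, ⟨α⟩⟩ := hH s
  obtain ⟨β⟩ := Groth.Agent.Lib.Helper15DSbc.nonempty_DS_bc f₁ ℤ
  obtain ⟨rep, hrep⟩ := exists_representableBy_of_iso_grp f₁ H (Red.Gm S) M₁ ℤ inferInstance α β
    (Multiplicative (ULift.{u} (ℤ →+ M₁))) (fun i => (Multiplicative.toAdd i).down)
    ((Equiv.ulift.bijective).comp Multiplicative.toAdd.bijective) (fun m n => rfl)
  exact ⟨S₁, f₁, hf₁, hs₁, _, _, rep, hrep⟩

/-- **the functor of characters of a quasi-isotrivial group of multiplicative type is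
representable by a quasi-isotrivial twisted constant group.** -/
theorem exists_charGroup
    (hH : TwC.Locally S TwC.Topology.etale (fun S' f => ∃ (M : Type) (_ : AddCommGroup M),
      Nonempty (Grp.mk (Red.bc f H) ≅ Grp.mk (Red.DS S' M)))) :
    ∃ (D : Over S) (_ : GrpObj D) (υ : H ⊗ D ⟶ Red.Gm S),
      AutFam.RepresentsHom H (Red.Gm S) D υ ∧
      (∀ (X : Over S) (h : X ⟶ H) (a b : X ⟶ D),
        lift h (a * b) ≫ υ = (lift h a ≫ υ) * (lift h b ≫ υ)) ∧
      TwC.IsTwConstGrp TwC.Topology.etale D := by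
  choose X g hg hs I instI rep hrep using exists_common_char H hH
  have hcov : Presieve.ofArrows X g ∈ Scheme.fpqcPrecoverage S := by
    refine Scheme.fppfPrecoverage_le_fpqcPrecoverage _ ?_
    rw [Scheme.fppfPrecoverage, Scheme.ofArrows_mem_precoverage_iff]
    refine ⟨fun t => ⟨t, hs t⟩, fun t => ?_⟩
    have := hg t
    exact ⟨inferInstance, inferInstance⟩
  obtain ⟨B, ⟨repB⟩, -⟩ := Groth.Agent.Lib.Helper15RepGlue.exists_representableBy
    (P := homPsh H (Red.Gm S)) (g := g) (A := fun s => TwC.const (X s) (I s))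
    rep hcov (fun s => isIndQuasiAffineHom_const (X s) (I s))
    (isSheafFor_homPsh H (Red.Gm S) g hcov)
  obtain ⟨instB, hmulB⟩ := exists_grpObj_of_representableBy B repB
  have key : ∀ (T : Over S) (c : T ⟶ B),
      (repB.homEquiv c).1 = (H ◁ c) ≫ (repB.homEquiv (𝟙 B)).1 := by
    intro T c
    have := repB.homEquiv_comp c (𝟙 B)
    rw [Category.comp_id] at this
    rw [this]
    rfl
  refine ⟨B, instB, (repB.homEquiv (𝟙 B)).1, representsHom_of_representableBy H _ B repB, ?_, ?_⟩
  · intro T h a b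
    have h1 : ∀ c : T ⟶ B, lift h c ≫ (repB.homEquiv (𝟙 B)).1 =
        lift h (𝟙 T) ≫ (repB.homEquiv c).1 := by
      intro c
      rw [key T c, ← Category.assoc, lift_whiskerLeft, Category.id_comp]
    rw [h1, h1, h1, hmulB, MonObj.comp_mul]
  · intro s
    obtain ⟨e, he⟩ := isConstGrp_of_rep (g s) H (Red.Gm S) B repB hmulB (I s) (rep s) (hrep s)
    exact ⟨X s, g s, hg s, hs s, I s, instI s, e, he⟩

end Char

end Groth.Agent.Lib.Helper15HomRep
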