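-- helper15: extensions of groups with connected fibres by groups of multiplicative type are central
import Mathlib
import Groth.Agent.Lib.Helper15NormCentral
import Groth.Agent.Lib.Helper12Kernel
set_option autoImplicit false
universe u
open CategoryTheory CategoryTheory.Limits AlgebraicGeometry MonoidalCategory CartesianMonoidalCategory
  MonObj GrpObj

namespace Groth.Agent.Lib.Helper15ExtCentral

open Groth.Agent.Lib.Helper11MultGa Groth.Agent.Lib.Helper27.GaGm
open Groth.Agent.Lib.Helper15NormCentral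

section Comm

variable {U : Scheme.{u}} (M : Type) [AddCommGroup M]

/-- the points of a diagonalisable group commute. -/
lemma DS_comm {Y : Over U} (g g' : Y ⟶ Red.DS U M) : g * g' = g' * g := by
  obtain ⟨y, hy⟩ : ∃ y, ptOf M (X := Y) y = g := ⟨_, ptOf_adjEquiv M g⟩
  obtain ⟨y', hy'⟩ : ∃ y', ptOf M (X := Y) y' = g' := ⟨_, ptOf_adjEquiv M g'⟩
  obtain ⟨χ, hχ⟩ : ∃ χ : Multiplicative M →* Γ(Y.left, ⊤),
      ∀ m, χ m = fnHom y (MonoidAlgebra.single m 1) * fnHom y' (MonoidAlgebra.single m 1) :=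
    ⟨((fnHom y : AM.{u} M →* Γ(Y.left, ⊤)).comp (MonoidAlgebra.of _ _)) *
      ((fnHom y' : AM.{u} M →* Γ(Y.left, ⊤)).comp (MonoidAlgebra.of _ _)), fun m => rfl⟩
  obtain ⟨y'', hy''⟩ := fn_surj (Y := Y.left) (Groth.Agent.Lib.Helper15DiagRigid.thetaOf M χ)
  have h1 : ∀ m : Multiplicative M, fn y'' (MonoidAlgebra.single m 1) =
      fn y (MonoidAlgebra.single m 1) * fn y' (MonoidAlgebra.single m 1) := by
    intro m
    rw [hy'', Groth.Agent.Lib.Helper15DiagRigid.thetaOf_single, hχ]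
    rfl
  rw [← hy, ← hy', ptOf_mul M y y' y'' h1, ptOf_mul M y' y y'' (fun m => by rw [h1 m, mul_comm])]

end Comm

section CommH

variable {S : Scheme.{u}} (H : Over S) [GrpObj H]

/-- the points of a group of multiplicative type commute. -/
theorem comm_of_multType
    (hH : TwC.Locally S TwC.Topology.fpqc (fun S' f => ∃ (M : Type) (_ : AddCommGroup M),
      Nonempty (Grp.mk (Red.bc f H) ≅ Grp.mk (Red.DS S' M))))
    (Y : Over S) (h h' : Y ⟶ H) : h * h' = h' * h := by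
  obtain ⟨J, Sk, gk, hcov, hloc⟩ :=
    Groth.Agent.Lib.Helper15DiagRigidLoc.exists_fpqc_family _ hH
  have key : fst H H * snd H H = snd H H * fst H H := by
    refine hom_ext_of_fpqc_family _ _ gk hcov ?_
    intro k₀ Y' w
    obtain ⟨M, _, ⟨e⟩⟩ := hloc k₀
    obtain ⟨ψ', hψ'⟩ : ∃ ψ' : Red.bc (gk k₀) H ⟶ Red.DS (Sk k₀) M, ψ' = e.hom.hom.hom := ⟨_, rfl⟩
    have hψ'm : IsMonHom ψ' := by rw [hψ']; infer_instance
    have hψ'mono : Mono ψ' := by
      rw [hψ']
      have : IsIso e.hom.hom.hom := by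
        refine ⟨e.inv.hom.hom, ?_, ?_⟩
        · have := e.hom_inv_id
          exact congr($(this).hom.hom)
        · have := e.inv_hom_id
          exact congr($(this).hom.hom)
      infer_instance
    rw [MonObj.comp_mul, MonObj.comp_mul]
    apply ((Over.mapPullbackAdj (gk k₀)).homEquiv Y' H).injective
    rw [AlgGrp.Action.homEquiv_mul, AlgGrp.Action.homEquiv_mul, ← cancel_mono ψ']
    have e1 := MonObj.mul_comp ((Over.mapPullbackAdj (gk k₀)).homEquiv Y' H (w ≫ fst H H))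
      ((Over.mapPullbackAdj (gk k₀)).homEquiv Y' H (w ≫ snd H H)) ψ'
    have e2 := MonObj.mul_comp ((Over.mapPullbackAdj (gk k₀)).homEquiv Y' H (w ≫ snd H H))
      ((Over.mapPullbackAdj (gk k₀)).homEquiv Y' H (w ≫ fst H H)) ψ'
    rw [e1, e2]
    exact DS_comm M _ _
  have := congr(lift h h' ≫ $key)
  rw [MonObj.comp_mul, MonObj.comp_mul, lift_fst, lift_snd] at this
  exact this

end CommH


section Main

variable {S : Scheme.{u}} (E H U : Over S) [GrpObj E] [GrpObj H] [GrpObj U]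

/-- **an extension of a group with connected fibres by a group of multiplicative type is
central.** -/
theorem central_of_extension
    (p : E ⟶ U) [IsMonHom p] [Surjective p.left] [Flat p.left] [QuasiCompact p.left]
    (i : H ⟶ E) [IsMonHom i] (hker : AlgGrp.IsKernel i p)
    (hH : TwC.Locally S TwC.Topology.fpqc (fun S' f => ∃ (M : Type) (_ : AddCommGroup M),
      Nonempty (Grp.mk (Red.bc f H) ≅ Grp.mk (Red.DS S' M))))
    (hU : ∀ s : S, ConnectedSpace (U.hom.fiber s))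
    (X : Over S) (h : X ⟶ H) (e : X ⟶ E) : (h ≫ i) * e = e * (h ≫ i) := by
  have hsq := Groth.Agent.Lib.Helper12.Kernel.isPullback_act_of_isKernel i p hker
  have hmono : Mono i := ⟨fun a b hab => hker.hom_ext hab (toUnit_unique _ _)⟩
  have hiq : i ≫ p = 1 := by rw [hker.w, Hom.one_def]
  -- normality
  have hnorm : ∀ (T : Over S) (g : T ⟶ E) (n : T ⟶ H),
      ∃ n' : T ⟶ H, g * (n ≫ i) * g⁻¹ = n' ≫ i := by
    intro T g n
    refine ⟨hker.lift (g * (n ≫ i) * g⁻¹) (toUnit _) ?_, (hker.lift_fst _ _ _).symm⟩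
    rw [MonObj.mul_comp, MonObj.mul_comp, GrpObj.inv_comp, Category.assoc, hiq, MonObj.comp_one,
      _root_.mul_one, mul_inv_cancel, Hom.one_def]
  obtain ⟨cE, hcE⟩ := hnorm (E ⊗ H) (fst E H) (snd E H)
  have hpt : ∀ (Y : Over S) (k : Y ⟶ E) (h : Y ⟶ H),
      lift k h ≫ cE ≫ i = k * (h ≫ i) * k⁻¹ := by
    intro Y k h
    rw [← hcE, MonObj.comp_mul, MonObj.comp_mul, GrpObj.comp_inv, lift_fst, lift_snd_assoc]
  have h1E : ∀ (Y : Over S) (h : Y ⟶ H), lift (1 : Y ⟶ E) h ≫ cE = h := by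
    intro Y h
    rw [← cancel_mono i, Category.assoc, hpt, _root_.one_mul, inv_one, _root_.mul_one]
  have hmulE : ∀ (Y : Over S) (k : Y ⟶ E) (h h' : Y ⟶ H),
      lift k (h * h') ≫ cE = (lift k h ≫ cE) * (lift k h' ≫ cE) := by
    intro Y k h h'
    rw [← cancel_mono i, Category.assoc, hpt, MonObj.mul_comp, MonObj.mul_comp, Category.assoc,
      Category.assoc, hpt, hpt]
    simp only [_root_.mul_assoc, inv_mul_cancel_left]
  -- invariance under translation by `H`
  have hinv : (((E ◁ i) ≫ μ[E]) ▷ H) ≫ cE = (fst E H ▷ H) ≫ cE := by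
    apply AlgGrp.Action.hom_ext_lift₂
    intro T w h'
    obtain ⟨e₀, h₀, rfl⟩ : ∃ e₀ h₀, w = lift e₀ h₀ :=
      ⟨w ≫ fst E H, w ≫ snd E H, by rw [← comp_lift, lift_fst_snd, Category.comp_id]⟩
    rw [lift_whiskerRight_assoc, lift_whiskerRight_assoc, lift_fst,
      Groth.Agent.Lib.Helper12.Kernel.lift_act', ← cancel_mono i, Category.assoc, Category.assoc,
      hpt, hpt]
    have hcomm : (h₀ ≫ i) * (h' ≫ i) = (h' ≫ i) * (h₀ ≫ i) := by
      rw [← MonObj.mul_comp, ← MonObj.mul_comp, comm_of_multType H hH T h₀ h']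
    rw [_root_.mul_inv_rev]
    calc e₀ * (h₀ ≫ i) * (h' ≫ i) * ((h₀ ≫ i)⁻¹ * e₀⁻¹)
        = e₀ * ((h₀ ≫ i) * (h' ≫ i)) * (h₀ ≫ i)⁻¹ * e₀⁻¹ := by simp only [_root_.mul_assoc]
      _ = e₀ * (h' ≫ i) * e₀⁻¹ := by
        rw [hcomm]
        simp only [_root_.mul_assoc, mul_inv_cancel_left]
  -- descent to `U`
  have hcov : Groth.Agent.Lib.Helper12.QuotGrp.IsCov p :=
    ⟨E.left, p.left, 𝟙 _, Category.id_comp _,
      Scheme.Hom.singleton_mem_fpqcPrecoverage p.left⟩
  have heff := (hcov.whiskerRight H).effectiveEpi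
  obtain ⟨cU, hcU⟩ := Groth.Agent.Lib.Helper12.exists_desc_of_isPullback (p ▷ H)
    (Groth.Agent.Lib.Helper12.QuotGrp.isPullback_whiskerRight_of_isPullback H hsq) cE hinv
  have hlift : ∀ (Y : Over S) (k : Y ⟶ E) (h : Y ⟶ H), lift (k ≫ p) h ≫ cU = lift k h ≫ cE := by
    intro Y k h
    rw [← hcU, lift_whiskerRight_assoc]
  have h1U : ∀ (Y : Over S) (h : Y ⟶ H), lift (1 : Y ⟶ U) h ≫ cU = h := by
    intro Y h
    rw [show (1 : Y ⟶ U) = (1 : Y ⟶ E) ≫ p from (MonObj.one_comp p).symm, hlift, h1E]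
  have hmulU : ∀ (Y : Over S) (k : Y ⟶ U) (h h' : Y ⟶ H),
      lift k (h * h') ≫ cU = (lift k h ≫ cU) * (lift k h' ≫ cU) := by
    have hepi : Epi ((p ▷ H) ▷ H) := ((hcov.whiskerRight H).whiskerRight H).epi
    have hφ : lift (fst (U ⊗ H) H ≫ fst U H) ((fst (U ⊗ H) H ≫ snd U H) * snd (U ⊗ H) H) ≫ cU =
        (lift (fst (U ⊗ H) H ≫ fst U H) (fst (U ⊗ H) H ≫ snd U H) ≫ cU) *
          (lift (fst (U ⊗ H) H ≫ fst U H) (snd (U ⊗ H) H) ≫ cU) := by
      rw [← cancel_epi ((p ▷ H) ▷ H)]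
      rw [MonObj.comp_mul, ← Category.assoc, ← Category.assoc, ← Category.assoc, comp_lift,
        comp_lift, comp_lift, MonObj.comp_mul]
      simp only [whiskerRight_fst_assoc, whiskerRight_snd, whiskerRight_fst]
      rw [← Category.assoc (fst (E ⊗ H) H) (fst E H) p, hlift, hlift, hlift, hmulE]
    intro Y k h h'
    have := congr(lift (lift k h) h' ≫ $hφ)
    rw [MonObj.comp_mul, ← Category.assoc, ← Category.assoc, ← Category.assoc, comp_lift,
      comp_lift, comp_lift, MonObj.comp_mul] at this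
    simp only [lift_fst_assoc, lift_fst, lift_snd] at this
    exact this
  have hcs := comp_eq_of_multType U H hU hH cU h1U hmulU
  have hcE' : cE = snd E H := by rw [← hcU, hcs, whiskerRight_snd]
  have := hpt X e h
  rw [hcE', lift_snd_assoc] at this
  exact (mul_inv_eq_iff_eq_mul.mp this.symm).symm

end Main

end Groth.Agent.Lib.Helper15ExtCentral
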