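-- helper15: local forms of homomorphisms from groups of multiplicative type to diagonalisable groups; local constancy of the kernel of the character map
import Mathlib
import Groth.Agent.Lib.Helper15BCNat
import Groth.Agent.Lib.Helper15HomLoc
import Groth.Agent.Lib.Helper15DiagRigidLoc
set_option autoImplicit false
universe u
open CategoryTheory CategoryTheory.Limits AlgebraicGeometry MonoidalCategory CartesianMonoidalCategory
  MonObj GrpObj

namespace Groth.Agent.Lib.Helper15LocForm

open Groth.Agent.Lib.Helper15DiagRigid Groth.Agent.Lib.Helper15DSmapPts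
open Groth.Agent.Lib.Helper11MultGa Groth.Agent.Lib.Helper27.GaGm
open Groth.Agent.Lib.Helper15FieldDiag Groth.Agent.Lib.Helper15SplitSub
open Groth.Agent.Lib.Helper15DSbc Groth.Agent.Lib.Helper15BCNat Groth.Agent.Lib.Helper15HomDiag

section Def

variable {S : Scheme.{u}} {H : Over S} [GrpObj H] {M₀ : Type} [AddCommGroup M₀]
  (v : H ⟶ Red.DS S M₀)

/-- over `g`, the homomorphism `v` from `H` to a diagonalisable group is attached to the
homomorphism `φ` of character groups, compatibly with a natural trivialisation of the base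
change of the diagonalisable groups. -/
def LocForm {T : Scheme.{u}} (g : T ⟶ S) (N : Type) [AddCommGroup N] (φ : M₀ →+ N) : Prop :=
  ∃ (β : NatTriv g) (α : Red.bc g H ≅ Red.DS T N), IsMonHom α.hom ∧
    (Over.pullback g).map v ≫ (β.b M₀).hom = α.hom ≫ Red.DSmap T φ

variable {v}

lemma LocForm.of_bc_eq {T T' : Scheme.{u}} (g : T ⟶ S) (q : T' ⟶ T) (β : NatTriv g)
    {N : Type} [AddCommGroup N] (a : Red.bc g H ≅ Red.DS T N) [IsMonHom a.hom] (φ : M₀ →+ N)
    (h : (Over.pullback q).map ((Over.pullback g).map v ≫ (β.b M₀).hom) =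
      (Over.pullback q).map (a.hom ≫ Red.DSmap T φ)) :
    LocForm v (q ≫ g) N φ := by
  obtain ⟨β'⟩ := nonempty_natTriv q
  have := β'.mon N
  refine ⟨β.comp β', (overIso (bcCompIso g q H)).symm ≪≫ (Over.pullback q).mapIso a ≪≫ β'.b N,
    ?_, ?_⟩
  · simp only [Iso.trans_hom, Iso.symm_hom, Functor.mapIso_hom]
    infer_instance
  · have e1 : (overIso (bcCompIso g q H)).inv = (Over.pullbackComp q g).hom.app H :=
      bcCompIso_inv g q _
    have e2 : (overIso (bcCompIso g q (Red.DS S M₀))).inv =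
        (Over.pullbackComp q g).hom.app (Red.DS S M₀) := bcCompIso_inv g q _
    have n1 := (Over.pullbackComp q g).hom.naturality v
    simp only [Functor.comp_map] at n1
    change (Over.pullback (q ≫ g)).map v ≫ ((overIso (bcCompIso g q (Red.DS S M₀))).symm ≪≫
      (Over.pullback q).mapIso (β.b M₀) ≪≫ β'.b M₀).hom = _
    simp only [Iso.trans_hom, Iso.symm_hom, Functor.mapIso_hom, Category.assoc]
    rw [e1, e2, ← Category.assoc, n1, Category.assoc,
      ← Category.assoc ((Over.pullback q).map _), ← CategoryTheory.Functor.map_comp, h,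
      CategoryTheory.Functor.map_comp, Category.assoc, β'.nat]

lemma LocForm.bc {T T' : Scheme.{u}} {g : T ⟶ S} {N : Type} [AddCommGroup N] {φ : M₀ →+ N}
    (h : LocForm v g N φ) (q : T' ⟶ T) : LocForm v (q ≫ g) N φ := by
  obtain ⟨β, α, hα, h⟩ := h
  exact LocForm.of_bc_eq g q β α φ (by rw [h])

end Def

section Family

variable {S : Scheme.{u}} {H : Over S} [GrpObj H] {M₀ : Type} [AddCommGroup M₀]
  (v : H ⟶ Red.DS S M₀) [hv : IsMonHom v]

include hv in
/-- Zariski-local form of a homomorphism to a diagonalisable group over a base on which the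
source is diagonalisable. -/
lemma exists_opens_locForm (hM₀ : AddGroup.FG M₀) {T : Scheme.{u}} (g : T ⟶ S) (N : Type)
    [AddCommGroup N] (a : Grp.mk (Red.bc g H) ≅ Grp.mk (Red.DS T N)) (t : T) :
    ∃ (φ : M₀ →+ N) (W : T.Opens), t ∈ W ∧ LocForm v (W.ι ≫ g) N φ := by
  obtain ⟨β⟩ := nonempty_natTriv (S := S) g
  have := β.mon M₀
  obtain ⟨vk, hvk⟩ : ∃ vk : Red.DS T N ⟶ Red.DS T M₀,
      vk = (overIso a).inv ≫ (Over.pullback g).map v ≫ (β.b M₀).hom := ⟨_, rfl⟩
  have hvkm : IsMonHom vk := by rw [hvk]; infer_instance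
  obtain ⟨φ, W, htW, hW⟩ := exists_opens_map_eq N M₀ vk hM₀ t
  refine ⟨φ, W, htW, LocForm.of_bc_eq g W.ι β (overIso a) φ ?_⟩
  have h1 : (Over.pullback g).map v ≫ (β.b M₀).hom = (overIso a).hom ≫ vk := by
    rw [hvk, Iso.hom_inv_id_assoc]
  rw [h1, CategoryTheory.Functor.map_comp, CategoryTheory.Functor.map_comp, hW]

include hv in
/-- **a homomorphism from a group of multiplicative type and of finite type to a diagonalisable
group with finitely generated character group is, locally for the fpqc topology, attached to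
homomorphisms of character groups, compatibly with natural trivialisations.** -/
theorem exists_family_locForm (hH : SGA3x.IsMultTypeFT H) (hM₀ : AddGroup.FG M₀) :
    ∃ (J : Type u) (Sj : J → Scheme.{u}) (gj : ∀ j, Sj j ⟶ S),
      Presieve.ofArrows Sj gj ∈ Scheme.fpqcPrecoverage S ∧
      ∀ j, Nonempty (Sj j) ∧ ∃ (N : Type) (_ : AddCommGroup N) (φ : M₀ →+ N),
        AddGroup.FG N ∧ LocForm v (gj j) N φ := by
  obtain ⟨K, Sk, gk, hcov, hloc⟩ :=
    Groth.Agent.Lib.Helper15DiagRigidLoc.exists_fpqc_family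
      (fun S' g => ∃ (M : Type) (_ : AddCommGroup M), AddGroup.FG M ∧
        Nonempty (Grp.mk (Red.bc g H) ≅ Grp.mk (Red.DS S' M))) hH
  have hex : ∀ (k : K) (t : Sk k), ∃ (W : (Sk k).Opens), t ∈ W ∧
      ∃ (N : Type) (_ : AddCommGroup N) (φ : M₀ →+ N),
        AddGroup.FG N ∧ LocForm v (W.ι ≫ gk k) N φ := by
    intro k t
    obtain ⟨N, _, hN, ⟨a⟩⟩ := hloc k
    obtain ⟨φ, W, htW, hW⟩ := exists_opens_locForm v hM₀ (gk k) N a t
    exact ⟨W, htW, N, _, φ, hN, hW⟩
  choose Wo hWo hD using hex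
  have h2 : ∀ k : K, Presieve.ofArrows (fun t : Sk k => ((Wo k t : (Sk k).Opens) : Scheme.{u}))
      (fun t => (Wo k t).ι) ∈ Scheme.fpqcPrecoverage (Sk k) := by
    intro k
    let 𝒰 : (Sk k).OpenCover :=
      { I₀ := Sk k
        X := fun t => (Wo k t).toScheme
        f := fun t => (Wo k t).ι
        mem₀ := by
          rw [Scheme.ofArrows_mem_precoverage_iff]
          exact ⟨fun p => ⟨p, ⟨p, hWo k p⟩, rfl⟩, fun s => inferInstance⟩ }
    exact Scheme.zariskiPrecoverage_le_fpqcPrecoverage _ 𝒰.mem₀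
  have h3 := Precoverage.comp_mem_coverings (J := Scheme.fpqcPrecoverage.{u}) gk hcov
    (fun k (t : Sk k) => (Wo k t).ι) h2
  exact ⟨Σ k : K, Sk k, fun p => (Wo p.1 p.2).toScheme, fun p => (Wo p.1 p.2).ι ≫ gk p.1, h3,
    fun p => ⟨⟨⟨p.2, hWo p.1 p.2⟩⟩, hD p.1 p.2⟩⟩

end Family

section Triv

variable {T : Scheme.{u}}

/-- over a nonempty base the homomorphism of diagonalisable groups determines the homomorphism
of character groups. -/
lemma DSmap_injective_of_nonempty [Nonempty T] {M N : Type} [AddCommGroup M] [AddCommGroup N]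
    (χ χ' : M →+ N) (h : Red.DSmap T χ = Red.DSmap T χ') : χ = χ' := by
  obtain ⟨t⟩ : Nonempty T := inferInstance
  obtain ⟨β⟩ := nonempty_natTriv (T.fromSpecResidueField t)
  apply Groth.Agent.Lib.Helper15DSmapProps.DSmap_injective (T.residueField t)
  have h1 := β.nat N M χ
  have h2 := β.nat N M χ'
  rw [h] at h1
  rw [← cancel_epi (β.b N).hom, ← h1, ← h2]

variable {S : Scheme.{u}} {H : Over S} [GrpObj H] {M₀ : Type} [AddCommGroup M₀]
  {v : H ⟶ Red.DS S M₀}

/-- reading off on the local form whether a character of the target kills the source. -/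
lemma LocForm.map_eq_one_iff [Nonempty T] {g : T ⟶ S} {N : Type} [AddCommGroup N] {φ : M₀ →+ N}
    (h : LocForm v g N φ) {M : Type} [AddCommGroup M] (ψ : M →+ M₀) :
    (Over.pullback g).map (v ≫ Red.DSmap S ψ) = toUnit _ ≫ η[Red.bc g (Red.DS S M)] ↔
      φ.comp ψ = 0 := by
  obtain ⟨β, α, hα, h⟩ := h
  have hβm := β.mon M
  have key : (Over.pullback g).map (v ≫ Red.DSmap S ψ) ≫ (β.b M).hom =
      α.hom ≫ Red.DSmap T (φ.comp ψ) := by
    rw [CategoryTheory.Functor.map_comp, Category.assoc, β.nat, ← Category.assoc, h,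
      Category.assoc, ← DSmap_comp]
  have e1 : η[Red.bc g (Red.DS S M)] ≫ (β.b M).hom = η[Red.DS T M] := IsMonHom.one_hom _
  have triv : (toUnit (Red.bc g H) ≫ η[Red.bc g (Red.DS S M)]) ≫ (β.b M).hom =
      α.hom ≫ Red.DSmap T (0 : M →+ N) := by
    rw [Category.assoc, e1, DSmap_zero, ← Category.assoc]
    congr 1
    exact toUnit_unique _ _
  constructor
  · intro h0
    apply DSmap_injective_of_nonempty (T := T)
    rw [← cancel_epi α.hom, ← key, h0, triv]
  · intro h0
    rw [← cancel_mono (β.b M).hom, key, triv, h0]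

/-- a character of the target which is killed by the local form kills the source (no assumption
on the base). -/
lemma LocForm.map_eq_one {g : T ⟶ S} {N : Type} [AddCommGroup N] {φ : M₀ →+ N}
    (h : LocForm v g N φ) {M : Type} [AddCommGroup M] (ψ : M →+ M₀) (h0 : φ.comp ψ = 0) :
    (Over.pullback g).map (v ≫ Red.DSmap S ψ) = toUnit _ ≫ η[Red.bc g (Red.DS S M)] := by
  obtain ⟨β, α, hα, h⟩ := h
  have hβm := β.mon M
  have key : (Over.pullback g).map (v ≫ Red.DSmap S ψ) ≫ (β.b M).hom =
      α.hom ≫ Red.DSmap T (φ.comp ψ) := by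
    rw [CategoryTheory.Functor.map_comp, Category.assoc, β.nat, ← Category.assoc, h,
      Category.assoc, ← DSmap_comp]
  have e1 : η[Red.bc g (Red.DS S M)] ≫ (β.b M).hom = η[Red.DS T M] := IsMonHom.one_hom _
  have triv : (toUnit (Red.bc g H) ≫ η[Red.bc g (Red.DS S M)]) ≫ (β.b M).hom =
      α.hom ≫ Red.DSmap T (0 : M →+ N) := by
    rw [Category.assoc, e1, DSmap_zero, ← Category.assoc]
    congr 1
    exact toUnit_unique _ _
  rw [← cancel_mono (β.b M).hom, key, triv, h0]

/-- two local forms over the same nonempty base have the same kernel. -/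
lemma LocForm.ker_eq [Nonempty T] {g : T ⟶ S} {N N' : Type} [AddCommGroup N] [AddCommGroup N']
    {φ : M₀ →+ N} {φ' : M₀ →+ N'} (h : LocForm v g N φ) (h' : LocForm v g N' φ') :
    φ.ker = φ'.ker := by
  ext m
  rw [AddMonoidHom.mem_ker, AddMonoidHom.mem_ker]
  have e : ∀ {L : Type} [AddCommGroup L] (χ : M₀ →+ L),
      χ.comp (zmultiplesHom M₀ m) = 0 ↔ χ m = 0 := by
    intro L _ χ
    constructor
    · intro h0
      have := congr($h0 1)
      simpa using this
    · intro h0
      ext
      simp [h0]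
  rw [← e φ, ← e φ', ← h.map_eq_one_iff, ← h'.map_eq_one_iff]

/-- local forms over two bases with a common point of `S` in their images have the same
kernel. -/
lemma LocForm.ker_eq_of_overlap {T' : Scheme.{u}} {g : T ⟶ S} {g' : T' ⟶ S}
    {N N' : Type} [AddCommGroup N] [AddCommGroup N']
    {φ : M₀ →+ N} {φ' : M₀ →+ N'} (h : LocForm v g N φ) (h' : LocForm v g' N' φ')
    (t : T) (t' : T') (htt : g t = g' t') : φ.ker = φ'.ker := by
  obtain ⟨z, -, -⟩ := Scheme.Pullback.exists_preimage_pullback t t' htt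
  have : Nonempty ↥(pullback g g') := ⟨z⟩
  have h1 := h.bc (pullback.fst g g')
  have h2 := h'.bc (pullback.snd g g')
  rw [← pullback.condition] at h2
  exact h1.ker_eq h2

end Triv

section Const

variable {S : Scheme.{u}} {H : Over S} [GrpObj H] {M₀ : Type} [AddCommGroup M₀]
  {v : H ⟶ Red.DS S M₀} {J : Type u} {Sj : J → Scheme.{u}} (gj : ∀ j, Sj j ⟶ S)
  (hcov : Presieve.ofArrows Sj gj ∈ Scheme.fpqcPrecoverage S)
  (N : J → Type) [∀ j, AddCommGroup (N j)] (φ : ∀ j, M₀ →+ N j)
  (hloc : ∀ j, LocForm v (gj j) (N j) (φ j))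

include hcov hloc in
/-- **the kernel of the local form is locally constant on the base.** -/
theorem isClopen_ker_eq (K : AddSubgroup M₀) :
    IsClopen {s : S | ∃ j, ∃ t : Sj j, gj j t = s ∧ (φ j).ker = K} := by
  apply Groth.Agent.Lib.Helper15TopDesc.isClopen_of_fpqc_family gj hcov
  intro j'
  by_cases hK : (φ j').ker = K
  · have : (gj j').base ⁻¹' {s : S | ∃ j, ∃ t : Sj j, gj j t = s ∧ (φ j).ker = K} = Set.univ := by
      ext t'
      simp only [Set.mem_preimage, Set.mem_univ, iff_true]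
      exact ⟨j', t', rfl, hK⟩
    rw [this]
    exact isClopen_univ
  · have : (gj j').base ⁻¹' {s : S | ∃ j, ∃ t : Sj j, gj j t = s ∧ (φ j).ker = K} = ∅ := by
      ext t'
      simp only [Set.mem_preimage, Set.mem_empty_iff_false, iff_false]
      rintro ⟨j, t, htt, hj⟩
      apply hK
      rw [← hj]
      exact (hloc j').ker_eq_of_overlap (hloc j) t' t htt.symm
    rw [this]
    exact isClopen_empty

include hcov hloc in
/-- over a connected base the kernel of the local form is constant. -/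
theorem ker_eq_of_connected [ConnectedSpace S] (hne : ∀ j, Nonempty (Sj j)) (j j' : J) :
    (φ j).ker = (φ j').ker := by
  have hcl := isClopen_ker_eq gj hcov N φ hloc (φ j).ker
  obtain ⟨t⟩ := hne j
  have hne' : ({s : S | ∃ i, ∃ t : Sj i, gj i t = s ∧ (φ i).ker = (φ j).ker}).Nonempty :=
    ⟨gj j t, j, t, rfl, rfl⟩
  have huniv := isClopen_iff.mp hcl
  rcases huniv with h0 | h1
  · rw [h0] at hne'
    exact (Set.not_nonempty_empty hne').elim
  · obtain ⟨t'⟩ := hne j'
    have hmem : gj j' t' ∈ {s : S | ∃ i, ∃ t : Sj i, gj i t = s ∧ (φ i).ker = (φ j).ker} := by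
      rw [h1]; trivial
    obtain ⟨i, ti, hti, hi⟩ := hmem
    rw [← hi]
    exact ((hloc j').ker_eq_of_overlap (hloc i) t' ti hti.symm).symm

end Const

end Groth.Agent.Lib.Helper15LocForm
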