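-- helper15: quotient of a split torus by a subgroup of multiplicative type with constant local kernel is diagonalisable (kernel by fpqc descent, uniqueness of quotients)
import Mathlib
import Groth.Agent.Lib.Helper15LocForm
import Groth.Agent.Lib.Helper15NormCentral
import Groth.Agent.Lib.Helper15DSmapProps
import Groth.Agent.Lib.Helper12Kernel
import Groth.Agent.Lib.Helper15ExtCentral
import Groth.Prelude.Def_RedSub
set_option autoImplicit false
universe u
open CategoryTheory CategoryTheory.Limits AlgebraicGeometry MonoidalCategory CartesianMonoidalCategory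
  MonObj GrpObj

namespace Groth.Agent.Lib.Helper15QuotTorus

open Groth.Agent.Lib.Helper15DiagRigid Groth.Agent.Lib.Helper15DSmapPts
open Groth.Agent.Lib.Helper11MultGa Groth.Agent.Lib.Helper27.GaGm
open Groth.Agent.Lib.Helper15FieldDiag Groth.Agent.Lib.Helper15SplitSub
open Groth.Agent.Lib.Helper15DSbc Groth.Agent.Lib.Helper15BCNat Groth.Agent.Lib.Helper15LocForm

section Faithful

variable {S : Scheme.{u}}

/-- base change along the members of an fpqc family is jointly faithful. -/
theorem eq_of_bc_family {W Z : Over S} (φ₁ φ₂ : W ⟶ Z) {J : Type u}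
    {Sk : J → Scheme.{u}} (gk : ∀ k, Sk k ⟶ S)
    (hcov : Presieve.ofArrows Sk gk ∈ Scheme.fpqcPrecoverage S)
    (h : ∀ k, (Over.pullback (gk k)).map φ₁ = (Over.pullback (gk k)).map φ₂) : φ₁ = φ₂ := by
  refine Groth.Agent.Lib.Helper15NormCentral.hom_ext_of_fpqc_family φ₁ φ₂ gk hcov ?_
  intro k Y' w
  apply ((Over.mapPullbackAdj (gk k)).homEquiv Y' Z).injective
  rw [Adjunction.homEquiv_naturality_right, Adjunction.homEquiv_naturality_right, h k]

end Faithful

section LFP

variable {M₁ M₂ : Type} [AddCommGroup M₁] [AddCommGroup M₂] (φ : M₂ →+ M₁)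

lemma finiteType_amStr (M : Type) [AddCommGroup M] (hM : AddGroup.FG M) :
    (algebraMap (ULift.{u} ℤ) (AM.{u} M)).FiniteType := by
  have : Monoid.FG (Multiplicative M) := by
    have := AddGroup.fg_iff_addMonoid_fg.mp hM
    exact AddMonoid.fg_iff_mul_fg.mp this
  rw [RingHom.finiteType_algebraMap]
  infer_instance

lemma finitePresentation_amMap (h₁ : AddGroup.FG M₁) (h₂ : AddGroup.FG M₂) :
    (amMap.{u} φ).FinitePresentation := by
  have hN : IsNoetherianRing (ULift.{u} ℤ) :=
    isNoetherianRing_of_ringEquiv ℤ (ULift.ringEquiv : ULift.{u} ℤ ≃+* ℤ).symm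
  have hcomp : (amMap.{u} φ).comp (algebraMap (ULift.{u} ℤ) (AM.{u} M₂)) =
      algebraMap (ULift.{u} ℤ) (AM.{u} M₁) :=
    Groth.Agent.Lib.Helper27.GaGm.ulift_int_ringHom_ext _ _
  refine RingHom.FinitePresentation.of_comp_finiteType
    (algebraMap (ULift.{u} ℤ) (AM.{u} M₂)) ?_ (finiteType_amStr M₂ h₂)
  rw [hcomp]
  exact RingHom.FinitePresentation.of_finiteType.mp (finiteType_amStr M₁ h₁)

/-- the homomorphism of diagonalisable groups attached to a homomorphism of finitely generated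
character groups is locally of finite presentation. -/
theorem lfp_DSmap (T : Scheme.{u}) (h₁ : AddGroup.FG M₁) (h₂ : AddGroup.FG M₂) :
    LocallyOfFinitePresentation (Red.DSmap T φ).left := by
  have h : LocallyOfFinitePresentation (Spec.map (CommRingCat.ofHom (amMap.{u} φ))) := by
    rw [HasRingHomProperty.Spec_iff (P := @LocallyOfFinitePresentation)]
    exact finitePresentation_amMap φ h₁ h₂
  exact Groth.Agent.Lib.Helper15LocusClopen.bc @LocallyOfFinitePresentation
    (Red.diagMap (ULift.{u} ℤ) φ) (tU T) h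

end LFP

section Core

variable {S : Scheme.{u}} {T H : Over S} [GrpObj T] [GrpObj H]
  {M₀ : Type} [AddCommGroup M₀] (e : T ≅ Red.DS S M₀) [he : IsMonHom e.hom]
  (i : H ⟶ T) [hi : IsMonHom i] [hmono : Mono i]
  (K : AddSubgroup M₀)
  {J : Type u} {Sj : J → Scheme.{u}} (gj : ∀ j, Sj j ⟶ S)
  (hcov : Presieve.ofArrows Sj gj ∈ Scheme.fpqcPrecoverage S)
  (N : J → Type) [∀ j, AddCommGroup (N j)] (φ : ∀ j, M₀ →+ N j)
  (hloc : ∀ j, LocForm (i ≫ e.hom) (gj j) (N j) (φ j))
  (hsurj : ∀ j, Function.Surjective (φ j))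
  (hker : ∀ j, (φ j).ker = K)

/-- the candidate quotient map. -/
noncomputable def pK : T ⟶ Red.DS S K := e.hom ≫ Red.DSmap S K.subtype

include he in
lemma isMonHom_pK : IsMonHom (pK e K) := by
  have := Groth.Agent.Lib.Helper27DiagSub.isMonHom_DSmap S K.subtype
  unfold pK
  infer_instance

lemma map_trivial {A B : Over S} [GrpObj B] {S' : Scheme.{u}} (g : S' ⟶ S) :
    (Over.pullback g).map (toUnit A ≫ η[B]) = toUnit _ ≫ η[Red.bc g B] := by
  have h1 : toUnit A ≫ η[B] = (1 : A ⟶ B) := rfl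
  rw [h1, Functor.map_one]
  rfl

include hcov hloc hker in
theorem comp_pK : i ≫ pK e K = toUnit _ ≫ η[Red.DS S K] := by
  refine eq_of_bc_family _ _ gj hcov ?_
  intro k
  rw [map_trivial]
  unfold pK
  rw [← Category.assoc]
  apply (hloc k).map_eq_one
  ext x
  have : (x : M₀) ∈ (φ k).ker := by rw [hker k]; exact x.2
  exact this

include he hloc hsurj hker in
lemma exists_lift_local (k : J) (X' : Over (Sj k)) (x' : X' ⟶ Red.bc (gj k) T)
    (hx' : x' ≫ (Over.pullback (gj k)).map (pK e K) =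
      toUnit _ ≫ η[Red.bc (gj k) (Red.DS S K)]) :
    ∃ y : X' ⟶ Red.bc (gj k) H, y ≫ (Over.pullback (gj k)).map i = x' := by
  obtain ⟨β, α, hα, h⟩ := hloc k
  have hβm := β.mon K
  have hK := Groth.Agent.Lib.Helper15DExact.isKernel_DSmap K.subtype (φ k) (Sj k) (hsurj k)
    (by
      intro x hx
      have : x ∈ (φ k).ker := hx
      rw [hker k] at this
      exact ⟨⟨x, this⟩, rfl⟩)
    (by
      ext x
      have : (x : M₀) ∈ (φ k).ker := by rw [hker k]; exact x.2
      exact this)
  obtain ⟨x'', hx''def⟩ : ∃ x'' : X' ⟶ Red.DS (Sj k) M₀,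
      x'' = x' ≫ (Over.pullback (gj k)).map e.hom ≫ (β.b M₀).hom := ⟨_, rfl⟩
  have e1 : η[Red.bc (gj k) (Red.DS S K)] ≫ (β.b K).hom = η[Red.DS (Sj k) K] :=
    IsMonHom.one_hom _
  have hx'' : x'' ≫ Red.DSmap (Sj k) K.subtype = toUnit _ ≫ η[Red.DS (Sj k) K] := by
    rw [hx''def, Category.assoc, Category.assoc, ← β.nat, ← Category.assoc ((Over.pullback _).map _),
      ← CategoryTheory.Functor.map_comp, ← Category.assoc]
    change (x' ≫ (Over.pullback (gj k)).map (pK e K)) ≫ _ = _
    rw [hx', Category.assoc, e1]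
  obtain ⟨y', hy'⟩ : ∃ y' : X' ⟶ Red.DS (Sj k) (N k), y' ≫ Red.DSmap (Sj k) (φ k) = x'' :=
    ⟨hK.lift x'' (toUnit _) hx'', hK.lift_fst _ _ _⟩
  refine ⟨y' ≫ α.inv, ?_⟩
  have hiso : IsIso ((Over.pullback (gj k)).map e.hom ≫ (β.b M₀).hom) := inferInstance
  rw [← cancel_mono ((Over.pullback (gj k)).map e.hom ≫ (β.b M₀).hom), Category.assoc,
    Category.assoc, ← Category.assoc ((Over.pullback (gj k)).map i),
    ← CategoryTheory.Functor.map_comp, h, Iso.inv_hom_id_assoc, hy', hx''def]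

include he hcov hloc hsurj hker hmono in
lemma exists_lift (X : Over S) (x : X ⟶ T) (hx : x ≫ pK e K = toUnit _ ≫ η[Red.DS S K]) :
    ∃ y : X ⟶ H, y ≫ i = x := by
  have hmono' : Mono i.left := inferInstance
  obtain ⟨w, hw⟩ := Groth.Agent.Lib.Helper15ClDescFam.factors_of_fpqc i.left x.left _
    (Precoverage.pullbackArrows_mem X.hom hcov) (by
      rintro Q _ ⟨T', τ, ⟨k⟩⟩
      obtain ⟨y, hy⟩ := exists_lift_local e i K gj N φ hloc hsurj hker k
        ((Over.pullback (gj k)).obj X) ((Over.pullback (gj k)).map x) (by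
          rw [← CategoryTheory.Functor.map_comp, hx, map_trivial])
      have h1 : ((Over.pullback (gj k)).map i).left ≫ pullback.fst T.hom (gj k) =
          pullback.fst H.hom (gj k) ≫ i.left := by
        simp only [Over.pullback_map_left]
        exact pullback.lift_fst _ _ _
      have h2 : ((Over.pullback (gj k)).map x).left ≫ pullback.fst T.hom (gj k) =
          pullback.fst X.hom (gj k) ≫ x.left := by
        simp only [Over.pullback_map_left]
        exact pullback.lift_fst _ _ _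
      refine ⟨(pullbackSymmetry (gj k) X.hom).hom ≫ y.left ≫ pullback.fst H.hom (gj k), ?_⟩
      rw [Category.assoc, Category.assoc, ← h1, ← Category.assoc y.left, ← Over.comp_left, hy, h2,
        ← Category.assoc, pullbackSymmetry_hom_comp_fst])
  refine ⟨Over.homMk w ?_, ?_⟩
  · have := Over.w i
    rw [← this, ← Category.assoc, hw, Over.w x]
  · apply Over.OverMorphism.ext
    exact hw

include he hcov hloc hsurj hker hmono in
/-- **the subgroup is the kernel of the candidate quotient map.** -/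
theorem isKernel_pK : AlgGrp.IsKernel i (pK e K) := by
  have hw := comp_pK e i K gj hcov N φ hloc hker
  have hex : ∀ s : PullbackCone (pK e K) η[Red.DS S K], ∃ y : s.pt ⟶ H, y ≫ i = s.fst := by
    intro s
    apply exists_lift e i K gj hcov N φ hloc hsurj hker
    rw [s.condition]
    congr 1
    exact toUnit_unique _ _
  refine ⟨⟨hw⟩, ⟨PullbackCone.IsLimit.mk _ (fun s => (hex s).choose)
    (fun s => (hex s).choose_spec) (fun s => toUnit_unique _ _) ?_⟩⟩
  intro s m h1 _
  rw [← cancel_mono i, h1, (hex s).choose_spec]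

lemma fg_sub (hM₀ : AddGroup.FG M₀) : AddGroup.FG K := by
  have h1 : Module.Finite ℤ M₀ := Module.Finite.iff_addGroup_fg.mpr hM₀
  have h2 : IsNoetherian ℤ M₀ := inferInstance
  have h3 : Module.Finite ℤ (AddSubgroup.toIntSubmodule K) := inferInstance
  exact Module.Finite.iff_addGroup_fg.mp h3

include he hcov hloc hsurj hker hmono in
/-- **the candidate quotient map presents the diagonalisable group attached to the kernel as the
quotient of the torus by the subgroup.** -/
theorem isQuotient_pK (hM₀ : AddGroup.FG M₀) : RedSub.IsQuotient i (pK e K) := by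
  have hKfg := fg_sub K hM₀
  have hinj : Function.Injective K.subtype := Subtype.val_injective
  obtain ⟨hfl, hsu⟩ := Groth.Agent.Lib.Helper15DSmapProps.flat_surjective_DSmap K.subtype S hinj
  have hlfp := lfp_DSmap K.subtype S hM₀ hKfg
  have hiso : IsIso e.hom.left := isIso_left e
  have hleft : (pK e K).left = e.hom.left ≫ (Red.DSmap S K.subtype).left := rfl
  refine ⟨?_, ?_, ?_, ?_⟩
  · rw [hleft]; infer_instance
  · rw [hleft]; infer_instance
  · rw [hleft]; infer_instance
  · have := isMonHom_pK e K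
    exact (Groth.Agent.Lib.Helper12.Kernel.isPullback_act_of_isKernel i (pK e K)
      (isKernel_pK e i K gj hcov N φ hloc hsurj hker)).flip

end Core

section Unique

open Groth.Agent.Lib.Helper12.QuotGrp

variable {S : Scheme.{u}} {T H Q P : Over S} [GrpObj T] [GrpObj H] [GrpObj Q] [GrpObj P]
  (i : H ⟶ T) [IsMonHom i]

lemma comp_eq_one_of_isQuotient (q : T ⟶ Q) [IsMonHom q] (hq : RedSub.IsQuotient i q) :
    i ≫ q = 1 := by
  have h := hq.2.2.2.w
  have h1 := congr(lift (1 : H ⟶ T) (𝟙 H) ≫ $h)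
  have h2 : lift (1 : H ⟶ T) (𝟙 H) ≫ (T ◁ i) ≫ μ[T] = i := by
    rw [Groth.Agent.Lib.Helper12.Kernel.lift_act', Category.id_comp, _root_.one_mul]
  rw [lift_fst_assoc, Category.assoc, ← Category.assoc, ← Category.assoc, Category.assoc _ _ μ[T],
    h2, MonObj.one_comp] at h1
  exact h1.symm

lemma hyp_of_isQuotient (hcomm : ∀ (X : Over S) (a b : X ⟶ T), a * b = b * a)
    (q : T ⟶ Q) [IsMonHom q] (hq : RedSub.IsQuotient i q) : Hyp i q := by
  obtain ⟨hs, hf, hl, hpb⟩ := hq
  refine hyp_of_isCov i q hpb.flip ?_ (IsCov.of_fppf q)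
  intro X g n
  refine ⟨n, ?_⟩
  rw [hcomm X g (n ≫ i), mul_inv_cancel_right]

/-- **two quotients of a commutative group by the same subgroup are isomorphic as groups.** -/
theorem exists_iso_of_isQuotient (hcomm : ∀ (X : Over S) (a b : X ⟶ T), a * b = b * a)
    (q : T ⟶ Q) [IsMonHom q] (p : T ⟶ P) [IsMonHom p]
    (hq : RedSub.IsQuotient i q) (hp : RedSub.IsQuotient i p) :
    ∃ a : Q ≅ P, IsMonHom a.hom ∧ q ≫ a.hom = p := by
  have hq' := hyp_of_isQuotient i hcomm q hq
  have hp' := hyp_of_isQuotient i hcomm p hp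
  obtain ⟨a, ⟨ha, ham⟩, -⟩ := hq'.existsUnique_desc p (comp_eq_one_of_isQuotient i p hp)
  obtain ⟨b, ⟨hb, hbm⟩, -⟩ := hp'.existsUnique_desc q (comp_eq_one_of_isQuotient i q hq)
  have := hq'.epi_p
  have := hp'.epi_p
  refine ⟨⟨a, b, ?_, ?_⟩, ham, ha⟩
  · rw [← cancel_epi q, ← Category.assoc, ha, hb, Category.comp_id]
  · rw [← cancel_epi p, ← Category.assoc, hb, ha, Category.comp_id]

end Unique

section Final

variable {S : Scheme.{u}} {T H Q : Over S} [GrpObj T] [GrpObj H] [GrpObj Q]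
  {M₀ : Type} [AddCommGroup M₀] (e : T ≅ Red.DS S M₀) [he : IsMonHom e.hom]
  (i : H ⟶ T) [hi : IsMonHom i] [hmono : Mono i]
  (K : AddSubgroup M₀)
  {J : Type u} {Sj : J → Scheme.{u}} (gj : ∀ j, Sj j ⟶ S)
  (hcov : Presieve.ofArrows Sj gj ∈ Scheme.fpqcPrecoverage S)
  (N : J → Type) [∀ j, AddCommGroup (N j)] (φ : ∀ j, M₀ →+ N j)
  (hloc : ∀ j, LocForm (i ≫ e.hom) (gj j) (N j) (φ j))
  (hsurj : ∀ j, Function.Surjective (φ j))
  (hker : ∀ j, (φ j).ker = K)

include he in
lemma comm_of_iso (X : Over S) (a b : X ⟶ T) : a * b = b * a := by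
  have h1 := MonObj.mul_comp a b e.hom
  have h2 := MonObj.mul_comp b a e.hom
  rw [← cancel_mono e.hom, h1, h2]
  exact Groth.Agent.Lib.Helper15ExtCentral.DS_comm M₀ _ _

include he hcov hloc hsurj hker hmono in
/-- **the quotient of a split torus by a subgroup of multiplicative type whose local forms have
constant kernel is the diagonalisable group attached to that kernel.** -/
theorem nonempty_iso_DS_ker (hM₀ : AddGroup.FG M₀) (q : T ⟶ Q) [IsMonHom q]
    (hq : RedSub.IsQuotient i q) : Nonempty (Grp.mk Q ≅ Grp.mk (Red.DS S K)) := by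
  have hp := isQuotient_pK e i K gj hcov N φ hloc hsurj hker hM₀
  have := isMonHom_pK e K
  obtain ⟨a, ham, -⟩ := exists_iso_of_isQuotient i (comm_of_iso e) q (pK e K) hq hp
  exact ⟨Grp.mkIso' a⟩

end Final

section Rank

/-- a subgroup of `ℤ^r` is free of rank at most `r`. -/
lemma exists_addEquiv_fin (r : ℕ) (K : AddSubgroup (Fin r → ℤ)) :
    ∃ r' : ℕ, r' ≤ r ∧ Nonempty ((Fin r' → ℤ) ≃+ K) := by
  obtain ⟨n, b⟩ := Submodule.basisOfPid (Pi.basisFun ℤ (Fin r)) (AddSubgroup.toIntSubmodule K)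
  refine ⟨n, ?_, ⟨b.equivFun.symm.toAddEquiv⟩⟩
  have h1 := Submodule.finrank_le (AddSubgroup.toIntSubmodule K)
  rw [Module.finrank_eq_card_basis b, Module.finrank_pi, Fintype.card_fin, Fintype.card_fin] at h1
  exact h1

end Rank

section Bundle

variable {S : Scheme.{u}} {H : Over S} [GrpObj H] {M₀ : Type} [AddCommGroup M₀]
  (v : H ⟶ Red.DS S M₀) [hv : IsMonHom v]

lemma LocForm.surjective_of_mono {T : Scheme.{u}} [Nonempty T] {g : T ⟶ S} {N : Type}
    [AddCommGroup N] {φ : M₀ →+ N} (h : LocForm v g N φ) (hm : Mono v) :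
    Function.Surjective φ := by
  obtain ⟨t⟩ : Nonempty T := inferInstance
  obtain ⟨β, α, hα, h⟩ := h
  have h1 : Mono ((Over.pullback g).map v) := inferInstance
  have h2 : Mono ((Over.pullback g).map v).left := inferInstance
  exact surjective_of_isD_mono t ⟨α, β.b M₀, h⟩ h2

include hv in
/-- bundled form of the fpqc family of local forms. -/
theorem exists_family_locForm' (hH : SGA3x.IsMultTypeFT H) (hM₀ : AddGroup.FG M₀) :
    ∃ (J : Type u) (Sj : J → Scheme.{u}) (gj : ∀ j, Sj j ⟶ S)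
      (N : J → Type) (_ : ∀ j, AddCommGroup (N j)) (φ : ∀ j, M₀ →+ N j),
      Presieve.ofArrows Sj gj ∈ Scheme.fpqcPrecoverage S ∧
      (∀ j, Nonempty (Sj j)) ∧ ∀ j, LocForm v (gj j) (N j) (φ j) := by
  obtain ⟨J, Sj, gj, hcov, hfam⟩ := exists_family_locForm v hH hM₀
  choose hne N instN φ hN hloc using hfam
  exact ⟨J, Sj, gj, N, instN, φ, hcov, hne, hloc⟩

end Bundle

theorem exists_mem_of_fpqc {S : Scheme.{u}} {J : Type u} {Sj : J → Scheme.{u}}
    (gj : ∀ j, Sj j ⟶ S)
    (hcov : Presieve.ofArrows Sj gj ∈ Scheme.fpqcPrecoverage S) (s : S) :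
    ∃ j, ∃ t : Sj j, gj j t = s := by
  have h1 : Presieve.ofArrows Sj gj ∈ Scheme.precoverage @Flat S :=
    Scheme.propQCPrecoverage_le_precoverage _ hcov
  rw [Scheme.ofArrows_mem_precoverage_iff] at h1
  obtain ⟨j, t, ht⟩ := h1.1 s
  exact ⟨j, t, ht⟩

end Groth.Agent.Lib.Helper15QuotTorus
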