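-- helper15: base change of quotient presentations and of groups of multiplicative type; quotient of a (locally) split torus by a subgroup of multiplicative type is locally split
import Mathlib
import Groth.Agent.Lib.Helper15QuotTorus
set_option autoImplicit false
universe u
open CategoryTheory CategoryTheory.Limits AlgebraicGeometry MonoidalCategory CartesianMonoidalCategory
  MonObj GrpObj

namespace Groth.Agent.Lib.Helper15QuotBC

open Groth.Agent.Lib.Helper15DiagRigid Groth.Agent.Lib.Helper15DSmapPts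
open Groth.Agent.Lib.Helper11MultGa Groth.Agent.Lib.Helper27.GaGm
open Groth.Agent.Lib.Helper15FieldDiag Groth.Agent.Lib.Helper15SplitSub
open Groth.Agent.Lib.Helper15DSbc Groth.Agent.Lib.Helper15BCNat Groth.Agent.Lib.Helper15LocForm
open Groth.Agent.Lib.Helper15QuotTorus

section Quot

variable {S S' : Scheme.{u}} (g : S' ⟶ S) {T H Q : Over S} [GrpObj T] [GrpObj H] [GrpObj Q]
  (i : H ⟶ T) [IsMonHom i] (q : T ⟶ Q) [IsMonHom q]

lemma map_act :
    Functor.LaxMonoidal.μ (Over.pullback g) T H ≫ (Over.pullback g).map ((T ◁ i) ≫ μ[T]) =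
      (Red.bc g T ◁ (Over.pullback g).map i) ≫ μ[Red.bc g T] := by
  have h1 : (μ[Red.bc g T] : Red.bc g T ⊗ Red.bc g T ⟶ Red.bc g T) =
      Functor.LaxMonoidal.μ (Over.pullback g) T T ≫ (Over.pullback g).map μ[T] := rfl
  rw [h1, CategoryTheory.Functor.map_comp, ← Category.assoc, ← Category.assoc]
  congr 1
  exact (Functor.LaxMonoidal.μ_natural_right (Over.pullback g) T i).symm

/-- **base change of a quotient presentation.** -/
theorem isQuotient_bc (hq : RedSub.IsQuotient i q) :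
    RedSub.IsQuotient ((Over.pullback g).map i) ((Over.pullback g).map q) := by
  obtain ⟨hs, hf, hl, hpb⟩ := hq
  refine ⟨?_, ?_, ?_, ?_⟩
  · exact Groth.Agent.Lib.Helper15LocusClopen.bc @Surjective q g hs
  · exact Groth.Agent.Lib.Helper15LocusClopen.bc @Flat q g hf
  · exact Groth.Agent.Lib.Helper15LocusClopen.bc @LocallyOfFinitePresentation q g hl
  · have h1 := hpb.map (Over.pullback g)
    refine IsPullback.of_iso h1 (Functor.Monoidal.μIso (Over.pullback g) T H).symm (Iso.refl _)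
      (Iso.refl _) (Iso.refl _) ?_ ?_ ?_ ?_
    · rw [Iso.refl_hom, Category.comp_id, Iso.symm_hom, Iso.eq_inv_comp]
      exact Functor.Monoidal.μ_fst _ _ _
    · rw [Iso.refl_hom, Category.comp_id, Iso.symm_hom, Iso.eq_inv_comp]
      exact map_act g i
    · simp
    · simp

end Quot

section QC

/-- the quasi-compactness condition of an fpqc covering morphism is stable under base change. -/
theorem qc_cond_bc {S S₁ S' : Scheme.{u}} (f : S' ⟶ S) (g : S₁ ⟶ S)
    (hqc : ∀ V : S.Opens, IsAffineOpen V →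
      ∃ W : S'.Opens, IsCompact (W : Set S') ∧ f.base '' (W : Set S') = (V : Set S)) :
    ∀ V : S₁.Opens, IsAffineOpen V → ∃ W : (pullback f g : Scheme.{u}).Opens,
      IsCompact (W : Set ↥(pullback f g)) ∧
        (pullback.snd f g).base '' (W : Set ↥(pullback f g)) = (V : Set S₁) := by
  intro V hV
  let 𝒰 : PreZeroHypercover.{0} S := ⟨PUnit.{1}, fun _ => S', fun _ => f⟩
  have h𝒰 : QuasiCompactCover 𝒰 := by
    refine ⟨fun {U} hU => ?_⟩
    obtain ⟨W, hW, hWU⟩ := hqc U hU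
    rw [← hWU]
    exact IsCompactOpenCovered.image (f := fun i => (𝒰.f i).base) (i := ⟨⟩) W hW
  have h2 : QuasiCompactCover (𝒰.pullback₂ g) := inferInstance
  obtain ⟨s, -, Vs, hc, heq⟩ := h2.isCompactOpenCovered_of_isAffineOpen hV
  by_cases hs : PUnit.unit ∈ s
  · refine ⟨Vs _ hs, hc _ hs, ?_⟩
    rw [← heq]
    ext x
    simp only [Set.mem_iUnion]
    constructor
    · intro hx
      exact ⟨PUnit.unit, hs, hx⟩
    · rintro ⟨⟨⟩, h, hx⟩
      exact hx
  · refine ⟨⊥, by simp, ?_⟩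
    rw [← heq]
    ext x
    simp only [Set.mem_iUnion]
    constructor
    · rintro ⟨y, hy, -⟩
      exact (hy : y ∈ (∅ : Set _)).elim
    · rintro ⟨⟨⟩, h, -⟩
      exact (hs h).elim

end QC

section MT

variable {S S₁ : Scheme.{u}} (g : S₁ ⟶ S) {H : Over S} [GrpObj H]

/-- **base change of a group of multiplicative type and of finite type.** -/
theorem isMultTypeFT_bc (hH : SGA3x.IsMultTypeFT H) : SGA3x.IsMultTypeFT (Red.bc g H) := by
  obtain ⟨S', f, hfl, hsu, hqc, hloc⟩ := hH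
  refine ⟨pullback f g, pullback.snd f g, inferInstance, inferInstance, qc_cond_bc f g hqc, ?_⟩
  intro z
  obtain ⟨U, hzU, M, instM, hM, ⟨a⟩⟩ := hloc (pullback.fst f g z)
  refine ⟨(pullback.fst f g) ⁻¹ᵁ U, hzU, M, instM, hM, ?_⟩
  obtain ⟨r, hr⟩ : ∃ r : ((pullback.fst f g) ⁻¹ᵁ U : Scheme.{u}) ⟶ (U : Scheme.{u}),
      r ≫ U.ι = ((pullback.fst f g) ⁻¹ᵁ U).ι ≫ pullback.fst f g :=
    ⟨(pullback.fst f g).resLE U _ le_rfl, Scheme.Hom.resLE_comp_ι _ _⟩
  obtain ⟨a'⟩ := nonempty_iso_bc (U.ι ≫ f) r H M a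
  have key : ∀ x : ((pullback.fst f g) ⁻¹ᵁ U : Scheme.{u}) ⟶ S, x = r ≫ U.ι ≫ f →
      Nonempty (Grp.mk (Red.bc x H) ≅ Grp.mk (Red.DS ((pullback.fst f g) ⁻¹ᵁ U : Scheme.{u}) M)) := by
    rintro x rfl
    exact ⟨a'⟩
  obtain ⟨a''⟩ := key ((((pullback.fst f g) ⁻¹ᵁ U).ι ≫ pullback.snd f g) ≫ g) (by
    rw [Category.assoc, ← pullback.condition, ← Category.assoc, ← hr, Category.assoc])
  exact ⟨bcCompIso g _ H ≪≫ a''⟩

end MT

section Comp

variable {S T T' : Scheme.{u}} {H : Over S} [GrpObj H] {M₀ : Type} [AddCommGroup M₀]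
  (v : H ⟶ Red.DS S M₀)

/-- a local form of the base change of `v` (made a homomorphism to a diagonalisable group by a
natural trivialisation) is a local form of `v`. -/
lemma LocForm.comp (f : T ⟶ S) (β₀ : NatTriv f) {q : T' ⟶ T} {N : Type} [AddCommGroup N]
    {φ : M₀ →+ N} (h : LocForm ((Over.pullback f).map v ≫ (β₀.b M₀).hom) q N φ) :
    LocForm v (q ≫ f) N φ := by
  obtain ⟨β', α', hα', h⟩ := h
  refine ⟨β₀.comp β', (overIso (bcCompIso f q H)).symm ≪≫ α', ?_, ?_⟩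
  · simp only [Iso.trans_hom, Iso.symm_hom]
    infer_instance
  · have e1 : (overIso (bcCompIso f q H)).inv = (Over.pullbackComp q f).hom.app H :=
      bcCompIso_inv f q _
    have e2 : (overIso (bcCompIso f q (Red.DS S M₀))).inv =
        (Over.pullbackComp q f).hom.app (Red.DS S M₀) := bcCompIso_inv f q _
    have n1 := (Over.pullbackComp q f).hom.naturality v
    simp only [Functor.comp_map] at n1
    change (Over.pullback (q ≫ f)).map v ≫ ((overIso (bcCompIso f q (Red.DS S M₀))).symm ≪≫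
      (Over.pullback q).mapIso (β₀.b M₀) ≪≫ β'.b M₀).hom = _
    simp only [Iso.trans_hom, Iso.symm_hom, Functor.mapIso_hom, Category.assoc]
    rw [e1, e2, ← Category.assoc, n1, Category.assoc,
      ← Category.assoc ((Over.pullback q).map _), ← CategoryTheory.Functor.map_comp, h]

end Comp

section ULT

variable {S : Scheme.{u}} {T H Q : Over S} [GrpObj T] [GrpObj H] [GrpObj Q]

lemma split_of_iso_DS_sub {X : Scheme.{u}} {Q' : Over X} [GrpObj Q'] (r : ℕ)
    (K : AddSubgroup (Fin r → ℤ)) (a : Grp.mk Q' ≅ Grp.mk (Red.DS X K)) :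
    ∃ r' : ℕ, r' ≤ r ∧ Red.IsSplitTorusWith (Fin r' → ℤ) Q' := by
  obtain ⟨r', hr', ⟨ε⟩⟩ := exists_addEquiv_fin r K
  refine ⟨r', hr', ⟨a ≪≫ ?_⟩⟩
  have hiso := isIso_DSmap (U := X) ε
  have hmon := Groth.Agent.Lib.Helper27DiagSub.isMonHom_DSmap X ε.toAddMonoidHom
  exact Grp.mkIso' (asIso (Red.DSmap X ε.toAddMonoidHom))

/-- **local form of the quotient of a split torus by a subgroup of multiplicative type**: the
quotient is Zariski-locally on the base a split torus of at most the same rank. -/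
theorem exists_opens_split (r : ℕ) (e₀ : Grp.mk T ≅ Grp.mk (Red.DS S (Fin r → ℤ)))
    (i : H ⟶ T) [IsMonHom i] [Mono i] (hH : SGA3x.IsMultTypeFT H) (q : T ⟶ Q) [IsMonHom q]
    (hq : RedSub.IsQuotient i q) (s : S) :
    ∃ U : S.Opens, s ∈ U ∧ ∃ r' : ℕ, r' ≤ r ∧
      Red.IsSplitTorusWith (Fin r' → ℤ) (Red.bc U.ι Q) := by
  obtain ⟨e, he⟩ : ∃ e : T ≅ Red.DS S (Fin r → ℤ), e = overIso e₀ := ⟨_, rfl⟩
  have hem : IsMonHom e.hom := by rw [he]; infer_instance
  have hvm : IsMonHom (i ≫ e.hom) := inferInstance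
  obtain ⟨J, Sj, gj, N, instN, φ, hcov, hne, hloc⟩ :=
    exists_family_locForm' (i ≫ e.hom) hH (fg_fin r)
  obtain ⟨j₀, t₀, ht₀⟩ := exists_mem_of_fpqc gj hcov s
  obtain ⟨K, hK⟩ : ∃ K : AddSubgroup (Fin r → ℤ), K = (φ j₀).ker := ⟨_, rfl⟩
  have hcl := isClopen_ker_eq gj hcov N φ hloc K
  obtain ⟨U, hU⟩ : ∃ U : S.Opens,
      (U : Set S) = {s : S | ∃ j, ∃ t : Sj j, gj j t = s ∧ (φ j).ker = K} :=
    ⟨⟨_, hcl.isOpen⟩, rfl⟩
  have hsU : s ∈ U := by
    show s ∈ (U : Set S)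
    rw [hU]
    exact ⟨j₀, t₀, ht₀, hK.symm⟩
  refine ⟨U, hsU, ?_⟩
  -- base change to `U`
  have hq₂ := isQuotient_bc U.ι i q hq
  have hH₂ := isMultTypeFT_bc U.ι hH
  obtain ⟨β₀⟩ := nonempty_natTriv (S := S) U.ι
  have hβ₀m := β₀.mon (Fin r → ℤ)
  obtain ⟨e₂, he₂⟩ : ∃ e₂ : Red.bc U.ι T ≅ Red.DS (U : Scheme.{u}) (Fin r → ℤ),
      e₂ = (Over.pullback U.ι).mapIso e ≪≫ β₀.b (Fin r → ℤ) := ⟨_, rfl⟩
  have he₂m : IsMonHom e₂.hom := by
    rw [he₂, Iso.trans_hom, Functor.mapIso_hom]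
    infer_instance
  have hv₂ : (Over.pullback U.ι).map i ≫ e₂.hom =
      (Over.pullback U.ι).map (i ≫ e.hom) ≫ (β₀.b (Fin r → ℤ)).hom := by
    rw [he₂, Iso.trans_hom, Functor.mapIso_hom, CategoryTheory.Functor.map_comp, Category.assoc]
  have hv₂m : IsMonHom ((Over.pullback U.ι).map i ≫ e₂.hom) := inferInstance
  obtain ⟨J', Sj', gj', N', instN', φ', hcov', hne', hloc'⟩ :=
    exists_family_locForm' ((Over.pullback U.ι).map i ≫ e₂.hom) hH₂ (fg_fin r)
  have hmv₂ : Mono ((Over.pullback U.ι).map i ≫ e₂.hom) := inferInstance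
  have hsurj' : ∀ j, Function.Surjective (φ' j) := fun j => by
    have := hne' j
    exact LocForm.surjective_of_mono _ (hloc' j) hmv₂
  have hker' : ∀ j, (φ' j).ker = K := by
    intro j'
    have h1 := hloc' j'
    rw [hv₂] at h1
    have h2 := LocForm.comp (i ≫ e.hom) U.ι β₀ h1
    obtain ⟨t'⟩ := hne' j'
    have hmem : U.ι (gj' j' t') ∈ (U : Set S) := (gj' j' t').2
    rw [hU] at hmem
    obtain ⟨j, t, htt, hj⟩ := hmem
    rw [← hj]
    refine (h2.ker_eq_of_overlap (hloc j) t' t ?_)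
    rw [htt, Scheme.Hom.comp_apply]
  obtain ⟨a⟩ := nonempty_iso_DS_ker e₂ ((Over.pullback U.ι).map i) K gj' hcov' N' φ'
    hloc' hsurj' hker' (fg_fin r) ((Over.pullback U.ι).map q) hq₂
  exact split_of_iso_DS_sub r K a

/-- relative form: the torus becomes split after a base change `g`. -/
theorem exists_opens_split_bc {S₁ : Scheme.{u}} (g : S₁ ⟶ S) (r : ℕ)
    (e₁ : Grp.mk (Red.bc g T) ≅ Grp.mk (Red.DS S₁ (Fin r → ℤ)))
    (i : H ⟶ T) [IsMonHom i] [Mono i] (hH : SGA3x.IsMultTypeFT H) (q : T ⟶ Q) [IsMonHom q]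
    (hq : RedSub.IsQuotient i q) (s₁ : S₁) :
    ∃ U₁ : S₁.Opens, s₁ ∈ U₁ ∧ ∃ r' : ℕ, r' ≤ r ∧
      Red.IsSplitTorusWith (Fin r' → ℤ) (Red.bc (U₁.ι ≫ g) Q) := by
  have hm : Mono ((Over.pullback g).map i) := inferInstance
  obtain ⟨U₁, hs₁, r', hr', ⟨a⟩⟩ := exists_opens_split r e₁ ((Over.pullback g).map i)
    (isMultTypeFT_bc g hH) ((Over.pullback g).map q) (isQuotient_bc g i q hq) s₁
  exact ⟨U₁, hs₁, r', hr', ⟨(bcCompIso g U₁.ι Q).symm ≪≫ a⟩⟩

lemma split_of_eq {A : Scheme.{u}} (x y : A ⟶ S) (hxy : x = y) (M : Type) [AddCommGroup M]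
    (h : Red.IsSplitTorusWith M (Red.bc x Q)) : Red.IsSplitTorusWith M (Red.bc y Q) := by
  subst hxy
  exact h

/-- transfer of a splitting over an open of an open to its image. -/
theorem split_image {X : Scheme.{u}} (k : X ⟶ S) (U : X.Opens) (U₁ : (U : Scheme.{u}).Opens)
    (M : Type) [AddCommGroup M] (h : Red.IsSplitTorusWith M (Red.bc (U₁.ι ≫ U.ι ≫ k) Q)) :
    Red.IsSplitTorusWith M (Red.bc ((U.ι ''ᵁ U₁).ι ≫ k) Q) := by
  obtain ⟨a⟩ := h
  have h1 := nonempty_iso_bc (U₁.ι ≫ U.ι ≫ k) (U.ι.isoImage U₁).inv Q M a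
  refine split_of_eq _ _ ?_ M h1
  rw [← Category.assoc U₁.ι, ← Category.assoc, ← Category.assoc, Category.assoc _ U₁.ι,
    Scheme.Hom.isoImage_inv_ι]

end ULT

end Groth.Agent.Lib.Helper15QuotBC
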