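-- helper15: local forms of homomorphisms from diagonalisable groups to groups of multiplicative type; local constancy of the image of the character map
import Mathlib
import Groth.Agent.Lib.Helper15QuotBC
set_option autoImplicit false
universe u
open CategoryTheory CategoryTheory.Limits AlgebraicGeometry MonoidalCategory CartesianMonoidalCategory
  MonObj GrpObj

namespace Groth.Agent.Lib.Helper15LocFormS

open Groth.Agent.Lib.Helper15DiagRigid Groth.Agent.Lib.Helper15DSmapPts
open Groth.Agent.Lib.Helper11MultGa Groth.Agent.Lib.Helper27.GaGm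
open Groth.Agent.Lib.Helper15FieldDiag Groth.Agent.Lib.Helper15SplitSub
open Groth.Agent.Lib.Helper15DSbc Groth.Agent.Lib.Helper15BCNat Groth.Agent.Lib.Helper15HomDiag
open Groth.Agent.Lib.Helper15QuotTorus

section Def

variable {S : Scheme.{u}} {G : Over S} [GrpObj G] {Z : Type} [AddCommGroup Z]
  (m : Red.DS S Z ⟶ G)

/-- over `g`, the homomorphism `m` from a diagonalisable group to `G` is attached to the
homomorphism `φ` of character groups, compatibly with a natural trivialisation of the base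
change of the diagonalisable groups. -/
def LocFormS {T : Scheme.{u}} (g : T ⟶ S) (M : Type) [AddCommGroup M] (φ : M →+ Z) : Prop :=
  ∃ (β : NatTriv g) (α : Red.bc g G ≅ Red.DS T M), IsMonHom α.hom ∧
    (Over.pullback g).map m ≫ α.hom = (β.b Z).hom ≫ Red.DSmap T φ

variable {m}

lemma LocFormS.of_bc_eq {T T' : Scheme.{u}} (g : T ⟶ S) (q : T' ⟶ T) (β : NatTriv g)
    {M : Type} [AddCommGroup M] (a : Red.bc g G ≅ Red.DS T M) [IsMonHom a.hom] (φ : M →+ Z)
    (h : (Over.pullback q).map ((Over.pullback g).map m ≫ a.hom) =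
      (Over.pullback q).map ((β.b Z).hom ≫ Red.DSmap T φ)) :
    LocFormS m (q ≫ g) M φ := by
  obtain ⟨β'⟩ := nonempty_natTriv q
  have := β'.mon M
  refine ⟨β.comp β', (overIso (bcCompIso g q G)).symm ≪≫ (Over.pullback q).mapIso a ≪≫ β'.b M,
    ?_, ?_⟩
  · simp only [Iso.trans_hom, Iso.symm_hom, Functor.mapIso_hom]
    infer_instance
  · have e1 : (overIso (bcCompIso g q G)).inv = (Over.pullbackComp q g).hom.app G :=
      bcCompIso_inv g q _
    have e2 : (overIso (bcCompIso g q (Red.DS S Z))).inv =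
        (Over.pullbackComp q g).hom.app (Red.DS S Z) := bcCompIso_inv g q _
    have n1 := (Over.pullbackComp q g).hom.naturality m
    simp only [Functor.comp_map] at n1
    change _ = ((overIso (bcCompIso g q (Red.DS S Z))).symm ≪≫
      (Over.pullback q).mapIso (β.b Z) ≪≫ β'.b Z).hom ≫ _
    simp only [Iso.trans_hom, Iso.symm_hom, Functor.mapIso_hom, Category.assoc]
    rw [e1, e2, ← Category.assoc, n1, Category.assoc,
      ← Category.assoc ((Over.pullback q).map _), ← CategoryTheory.Functor.map_comp, h,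
      CategoryTheory.Functor.map_comp, Category.assoc, β'.nat]

lemma LocFormS.bc {T T' : Scheme.{u}} {g : T ⟶ S} {M : Type} [AddCommGroup M] {φ : M →+ Z}
    (h : LocFormS m g M φ) (q : T' ⟶ T) : LocFormS m (q ≫ g) M φ := by
  obtain ⟨β, α, hα, h⟩ := h
  exact LocFormS.of_bc_eq g q β α φ (by rw [h])

end Def

section Family

variable {S : Scheme.{u}} {G : Over S} [GrpObj G] {Z : Type} [AddCommGroup Z]
  (m : Red.DS S Z ⟶ G) [hm : IsMonHom m]

include hm in
lemma exists_opens_locFormS {T : Scheme.{u}} (g : T ⟶ S) (M : Type)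
    [AddCommGroup M] (hM : AddGroup.FG M) (a : Grp.mk (Red.bc g G) ≅ Grp.mk (Red.DS T M)) (t : T) :
    ∃ (φ : M →+ Z) (W : T.Opens), t ∈ W ∧ LocFormS m (W.ι ≫ g) M φ := by
  obtain ⟨β⟩ := nonempty_natTriv (S := S) g
  have := β.mon Z
  obtain ⟨vk, hvk⟩ : ∃ vk : Red.DS T Z ⟶ Red.DS T M,
      vk = (β.b Z).inv ≫ (Over.pullback g).map m ≫ (overIso a).hom := ⟨_, rfl⟩
  have hvkm : IsMonHom vk := by rw [hvk]; infer_instance
  obtain ⟨φ, W, htW, hW⟩ := exists_opens_map_eq Z M vk hM t
  refine ⟨φ, W, htW, LocFormS.of_bc_eq g W.ι β (overIso a) φ ?_⟩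
  have h1 : (Over.pullback g).map m ≫ (overIso a).hom = (β.b Z).hom ≫ vk := by
    rw [hvk, Iso.hom_inv_id_assoc]
  rw [h1, CategoryTheory.Functor.map_comp, CategoryTheory.Functor.map_comp, hW]

include hm in
/-- **a homomorphism from a diagonalisable group to a group of multiplicative type and of finite
type is, locally for the fpqc topology, attached to homomorphisms of character groups,
compatibly with natural trivialisations.** -/
theorem exists_family_locFormS (hG : SGA3x.IsMultTypeFT G) :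
    ∃ (J : Type u) (Sj : J → Scheme.{u}) (gj : ∀ j, Sj j ⟶ S)
      (M : J → Type) (_ : ∀ j, AddCommGroup (M j)) (φ : ∀ j, M j →+ Z),
      Presieve.ofArrows Sj gj ∈ Scheme.fpqcPrecoverage S ∧
      (∀ j, Nonempty (Sj j)) ∧ (∀ j, AddGroup.FG (M j)) ∧
        ∀ j, LocFormS m (gj j) (M j) (φ j) := by
  obtain ⟨K, Sk, gk, hcov, hloc⟩ :=
    Groth.Agent.Lib.Helper15DiagRigidLoc.exists_fpqc_family
      (fun S' g => ∃ (M : Type) (_ : AddCommGroup M), AddGroup.FG M ∧
        Nonempty (Grp.mk (Red.bc g G) ≅ Grp.mk (Red.DS S' M))) hG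
  have hex : ∀ (k : K) (t : Sk k), ∃ (W : (Sk k).Opens), t ∈ W ∧
      ∃ (M : Type) (_ : AddCommGroup M) (φ : M →+ Z),
        AddGroup.FG M ∧ LocFormS m (W.ι ≫ gk k) M φ := by
    intro k t
    obtain ⟨M, _, hM, ⟨a⟩⟩ := hloc k
    obtain ⟨φ, W, htW, hW⟩ := exists_opens_locFormS m (gk k) M hM a t
    exact ⟨W, htW, M, _, φ, hM, hW⟩
  choose Wo hWo M instM φ hM hD using hex
  have h2 : ∀ k : K, Presieve.ofArrows (fun t : Sk k => ((Wo k t : (Sk k).Opens) : Scheme.{u}))
      (fun t => (Wo k t).ι) ∈ Scheme.fpqcPrecoverage (Sk k) := by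
    intro k
    let 𝒰 : (Sk k).OpenCover :=
      { I₀ := Sk k
        X := fun t => (Wo k t).toScheme
        f := fun t => (Wo k t).ι
        mem₀ := by
          rw [Scheme.ofArrows_mem_precoverage_iff]
          exact ⟨fun p => ⟨p, ⟨p, hWo k p⟩, rfl⟩, fun s => inferInstance⟩ }
    exact Scheme.zariskiPrecoverage_le_fpqcPrecoverage _ 𝒰.mem₀
  have h3 := Precoverage.comp_mem_coverings (J := Scheme.fpqcPrecoverage.{u}) gk hcov
    (fun k (t : Sk k) => (Wo k t).ι) h2
  exact ⟨Σ k : K, Sk k, fun p => (Wo p.1 p.2).toScheme, fun p => (Wo p.1 p.2).ι ≫ gk p.1,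
    fun p => M p.1 p.2, fun p => instM p.1 p.2, fun p => φ p.1 p.2, h3,
    fun p => ⟨⟨p.2, hWo p.1 p.2⟩⟩, fun p => hM p.1 p.2, fun p => hD p.1 p.2⟩

end Family

section Range

variable {S T : Scheme.{u}} {G : Over S} [GrpObj G] {Z : Type} [AddCommGroup Z]
  {m : Red.DS S Z ⟶ G}

lemma comp_zm {M : Type} [AddCommGroup M] (φ : M →+ Z) (a₀ : M) :
    φ.comp (zmultiplesHom M a₀) = zmultiplesHom Z (φ a₀) := by
  ext
  simp

/-- over a base with a single point, the image of the homomorphism of character groups of a local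
form is the set of characters of the source which extend to `G`. -/
lemma LocFormS.mem_range_iff {g : T ⟶ S} {M : Type} [AddCommGroup M] {φ : M →+ Z}
    (h : LocFormS m g M φ) (t : T) (ht : ∀ x : T, x = t) (z : Z) :
    z ∈ φ.range ↔ ∃ c : Red.bc g G ⟶ Red.bc g (Red.DS S ℤ), IsMonHom c ∧
      (Over.pullback g).map m ≫ c = (Over.pullback g).map (Red.DSmap S (zmultiplesHom Z z)) := by
  obtain ⟨β, α, hα, h⟩ := h
  have hβZ := β.mon ℤ
  constructor
  · rintro ⟨a₀, rfl⟩
    have hmon := Groth.Agent.Lib.Helper27DiagSub.isMonHom_DSmap T (zmultiplesHom M a₀)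
    refine ⟨α.hom ≫ Red.DSmap T (zmultiplesHom M a₀) ≫ (β.b ℤ).inv, inferInstance, ?_⟩
    rw [← Category.assoc, h, Category.assoc, ← Category.assoc (Red.DSmap T φ), ← DSmap_comp,
      comp_zm, ← Category.assoc, ← β.nat, Category.assoc, Iso.hom_inv_id, Category.comp_id]
  · rintro ⟨c, hc, hmc⟩
    obtain ⟨c', hc'⟩ : ∃ c' : Red.DS T M ⟶ Red.DS T ℤ, c' = α.inv ≫ c ≫ (β.b ℤ).hom := ⟨_, rfl⟩
    have hc'm : IsMonHom c' := by rw [hc']; infer_instance
    obtain ⟨ν, hν⟩ := exists_DSmap_eq' c' M ℤ (Iso.refl _) (Iso.refl _) inferInstance t ht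
    have h2 : (overIso (Iso.refl (Grp.mk (Red.DS T ℤ)))).hom = 𝟙 _ := rfl
    have h3 : (overIso (Iso.refl (Grp.mk (Red.DS T M)))).hom = 𝟙 _ := rfl
    rw [h2, h3, Category.comp_id, Category.id_comp] at hν
    have hne : Nonempty T := ⟨t⟩
    have key : φ.comp ν = zmultiplesHom Z z := by
      apply Groth.Agent.Lib.Helper15LocForm.DSmap_injective_of_nonempty (T := T)
      rw [DSmap_comp, ← hν, hc', ← cancel_epi (β.b Z).hom, ← Category.assoc, ← h, Category.assoc,
        Iso.hom_inv_id_assoc, ← Category.assoc, hmc, β.nat]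
    refine ⟨ν 1, ?_⟩
    have := congr($key 1)
    simpa using this

/-- two local forms over the same base with a single point have the same image. -/
lemma LocFormS.range_eq_of_point {g : T ⟶ S} {M M' : Type} [AddCommGroup M] [AddCommGroup M']
    {φ : M →+ Z} {φ' : M' →+ Z} (h : LocFormS m g M φ) (h' : LocFormS m g M' φ')
    (t : T) (ht : ∀ x : T, x = t) : φ.range = φ'.range := by
  ext z
  rw [h.mem_range_iff t ht, h'.mem_range_iff t ht]

/-- local forms over two bases with a common point of `S` in their images have the same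
image. -/
lemma LocFormS.range_eq_of_overlap {T' : Scheme.{u}} {g : T ⟶ S} {g' : T' ⟶ S}
    {M M' : Type} [AddCommGroup M] [AddCommGroup M']
    {φ : M →+ Z} {φ' : M' →+ Z} (h : LocFormS m g M φ) (h' : LocFormS m g' M' φ')
    (t : T) (t' : T') (htt : g t = g' t') : φ.range = φ'.range := by
  obtain ⟨z, -, -⟩ := Scheme.Pullback.exists_preimage_pullback t t' htt
  obtain ⟨x⟩ : Nonempty (Spec ((pullback g g').residueField z)) := inferInstance
  have h1 := (h.bc (pullback.fst g g')).bc ((pullback g g').fromSpecResidueField z)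
  have h2 := (h'.bc (pullback.snd g g')).bc ((pullback g g').fromSpecResidueField z)
  rw [← pullback.condition] at h2
  exact h1.range_eq_of_point h2 x (fun y => Subsingleton.elim _ _)

end Range

section Const

variable {S : Scheme.{u}} {G : Over S} [GrpObj G] {Z : Type} [AddCommGroup Z]
  {m : Red.DS S Z ⟶ G} {J : Type u} {Sj : J → Scheme.{u}} (gj : ∀ j, Sj j ⟶ S)
  (hcov : Presieve.ofArrows Sj gj ∈ Scheme.fpqcPrecoverage S)
  (M : J → Type) [∀ j, AddCommGroup (M j)] (φ : ∀ j, M j →+ Z)
  (hloc : ∀ j, LocFormS m (gj j) (M j) (φ j))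

include hcov hloc in
/-- **the image of the local form is locally constant on the base.** -/
theorem isClopen_range_eq (L : AddSubgroup Z) :
    IsClopen {s : S | ∃ j, ∃ t : Sj j, gj j t = s ∧ (φ j).range = L} := by
  apply Groth.Agent.Lib.Helper15TopDesc.isClopen_of_fpqc_family gj hcov
  intro j'
  by_cases hK : (φ j').range = L
  · have : (gj j').base ⁻¹' {s : S | ∃ j, ∃ t : Sj j, gj j t = s ∧ (φ j).range = L} =
        Set.univ := by
      ext t'
      simp only [Set.mem_preimage, Set.mem_univ, iff_true]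
      exact ⟨j', t', rfl, hK⟩
    rw [this]
    exact isClopen_univ
  · have : (gj j').base ⁻¹' {s : S | ∃ j, ∃ t : Sj j, gj j t = s ∧ (φ j).range = L} = ∅ := by
      ext t'
      simp only [Set.mem_preimage, Set.mem_empty_iff_false, iff_false]
      rintro ⟨j, t, htt, hj⟩
      apply hK
      rw [← hj]
      exact (hloc j').range_eq_of_overlap (hloc j) t' t htt.symm
    rw [this]
    exact isClopen_empty

include hcov hloc in
/-- over a connected base the image of the local form is constant. -/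
theorem range_eq_of_connected [ConnectedSpace S] (hne : ∀ j, Nonempty (Sj j)) (j j' : J) :
    (φ j).range = (φ j').range := by
  have hcl := isClopen_range_eq gj hcov M φ hloc (φ j).range
  obtain ⟨t⟩ := hne j
  have hne' : ({s : S | ∃ i, ∃ t : Sj i, gj i t = s ∧ (φ i).range = (φ j).range}).Nonempty :=
    ⟨gj j t, j, t, rfl, rfl⟩
  have huniv := isClopen_iff.mp hcl
  rcases huniv with h0 | h1
  · rw [h0] at hne'
    exact (Set.not_nonempty_empty hne').elim
  · obtain ⟨t'⟩ := hne j'
    have hmem : gj j' t' ∈ {s : S | ∃ i, ∃ t : Sj i, gj i t = s ∧ (φ i).range = (φ j).range} := by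
      rw [h1]; trivial
    obtain ⟨i, ti, hti, hi⟩ := hmem
    rw [← hi]
    exact ((hloc j').range_eq_of_overlap (hloc i) t' ti hti.symm).symm

end Const

end Groth.Agent.Lib.Helper15LocFormS
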