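-- helper15: clopen loci (mono / iso / faithfully flat) for homomorphisms between groups of multiplicative type
import Mathlib
import Groth.Agent.Lib.Helper15DSmapProps
import Groth.Agent.Lib.Helper15HomLoc
import Groth.Agent.Lib.Helper15LocusClopen
import Groth.Agent.Lib.Helper12Torsor
set_option autoImplicit false
universe u
open CategoryTheory CategoryTheory.Limits AlgebraicGeometry MonoidalCategory CartesianMonoidalCategory
  MonObj GrpObj

namespace Groth.Agent.Lib.Helper15MultTypeLocus

open Groth.Agent.Lib.Helper15DSmapPts Groth.Agent.Lib.Helper15DSmapProps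

variable {S : Scheme.{u}} (G H : Over S) [GrpObj G] [GrpObj H]
  (hG : TwC.Locally S TwC.Topology.fpqc (fun S' g => ∃ (M : Type) (_ : AddCommGroup M),
    Nonempty (Grp.mk (Red.bc g G) ≅ Grp.mk (Red.DS S' M))))
  (hH : SGA3x.IsMultTypeFT H) (w : G ⟶ H) [IsMonHom w]

include hG hH in
/-- the general form. -/
theorem exists_clopen_locus
    (P : MorphismProperty Scheme.{u}) [P.IsStableUnderBaseChange] [IsZariskiLocalAtTarget P]
    (hP : P.DescendsAlong (@Surjective ⊓ @Flat ⊓ @QuasiCompact : MorphismProperty Scheme.{u}))
    (P' : ∀ (M₁ M₂ : Type) [AddCommGroup M₁] [AddCommGroup M₂], (M₂ →+ M₁) → Prop)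
    (hA : ∀ (T : Scheme.{u}) (M₁ M₂ : Type) [AddCommGroup M₁] [AddCommGroup M₂] (φ : M₂ →+ M₁),
      P' M₁ M₂ φ → P (Red.DSmap T φ).left)
    (hB : ∀ (κ : CommRingCat.{u}) [Nontrivial κ] (M₁ M₂ : Type) [AddCommGroup M₁]
      [AddCommGroup M₂] (φ : M₂ →+ M₁), P (Red.DSmap (Spec κ) φ).left → P' M₁ M₂ φ) :
    ∃ U : S.Opens, IsClosed (U : Set S) ∧
      (∀ s : S, s ∈ U ↔ P ((Over.pullback (S.fromSpecResidueField s)).map w).left) ∧
      P ((Over.pullback U.ι).map w).left := by
  obtain ⟨J, Sj, gj, hcov, hD⟩ :=
    Groth.Agent.Lib.Helper15HomLoc.exists_fpqc_family_isD G H hG hH w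
  exact Groth.Agent.Lib.Helper15LocusClopen.exists_clopen_locus w P hP P' hA hB gj hcov hD

theorem mono_descendsAlong :
    (MorphismProperty.monomorphisms Scheme.{u}).DescendsAlong
      (@Surjective ⊓ @Flat ⊓ @QuasiCompact : MorphismProperty Scheme.{u}) := by
  rw [← MorphismProperty.diagonal_isomorphisms]
  infer_instance

include hG hH in
/-- **the locus where a homomorphism between groups of multiplicative type is fibrewise a
monomorphism is open and closed, and the homomorphism is a monomorphism above it.** -/
theorem clopen_mono_locus :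
    ∃ U : S.Opens, IsClosed (U : Set S) ∧
      (∀ s : S, s ∈ U ↔ Mono ((Over.pullback (S.fromSpecResidueField s)).map w).left) ∧
      Mono ((Over.pullback U.ι).map w).left :=
  exists_clopen_locus G H hG hH w (MorphismProperty.monomorphisms Scheme.{u})
    mono_descendsAlong (fun _ _ _ _ φ => Function.Surjective φ)
    (fun T _ _ _ _ φ hφ => mono_DSmap φ T hφ)
    (fun κ _ _ _ _ _ φ h => surjective_of_mono κ φ h)

include hG hH in
/-- **the locus where a homomorphism between groups of multiplicative type is fibrewise flat and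
surjective is open and closed, and the homomorphism is flat and surjective above it.** -/
theorem clopen_ff_locus :
    ∃ U : S.Opens, IsClosed (U : Set S) ∧
      (∀ s : S, s ∈ U ↔ (Flat ((Over.pullback (S.fromSpecResidueField s)).map w).left ∧
        Surjective ((Over.pullback (S.fromSpecResidueField s)).map w).left)) ∧
      (Flat ((Over.pullback U.ι).map w).left ∧ Surjective ((Over.pullback U.ι).map w).left) := by
  have hdesc : (@Flat ⊓ @Surjective : MorphismProperty Scheme.{u}).DescendsAlong
      (@Surjective ⊓ @Flat ⊓ @QuasiCompact : MorphismProperty Scheme.{u}) := by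
    have := Groth.Agent.Lib.Helper12.descendsAlong_flat.{u}
    infer_instance
  exact exists_clopen_locus G H hG hH w (@Flat ⊓ @Surjective : MorphismProperty Scheme.{u})
    hdesc (fun _ _ _ _ φ => Function.Injective φ)
    (fun T _ _ _ _ φ hφ => flat_surjective_DSmap φ T hφ)
    (fun κ _ _ _ _ _ φ h => injective_of_flat_surjective κ φ h)

include hG hH in
/-- **the locus where a homomorphism between groups of multiplicative type is fibrewise an
isomorphism is open and closed, and the homomorphism is an isomorphism above it.** -/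
theorem clopen_iso_locus :
    ∃ U : S.Opens, IsClosed (U : Set S) ∧
      (∀ s : S, s ∈ U ↔ IsIso ((Over.pullback (S.fromSpecResidueField s)).map w).left) ∧
      IsIso ((Over.pullback U.ι).map w).left :=
  exists_clopen_locus G H hG hH w (MorphismProperty.isomorphisms Scheme.{u})
    inferInstance (fun _ _ _ _ φ => Function.Bijective φ)
    (fun T _ _ _ _ φ hφ => isIso_DSmap_left φ T hφ)
    (fun κ _ _ _ _ _ φ h => by
      have h' : IsIso (Red.DSmap (Spec κ) φ).left := h
      exact ⟨injective_of_flat_surjective κ φ ⟨inferInstance, inferInstance⟩,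
        surjective_of_mono κ φ inferInstance⟩)

end Groth.Agent.Lib.Helper15MultTypeLocus
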