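-- helper15: image of a homomorphism from a split torus to a group of multiplicative type (connected base); join of two split subtori
import Mathlib
import Groth.Agent.Lib.Helper15LocFormS
import Groth.Agent.Lib.Helper15MultTypeLocus
set_option autoImplicit false
universe u
open CategoryTheory CategoryTheory.Limits AlgebraicGeometry MonoidalCategory CartesianMonoidalCategory
  MonObj GrpObj

namespace Groth.Agent.Lib.Helper15ImageD

open Groth.Agent.Lib.Helper15DiagRigid Groth.Agent.Lib.Helper15DSmapPts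
open Groth.Agent.Lib.Helper11MultGa Groth.Agent.Lib.Helper27.GaGm
open Groth.Agent.Lib.Helper15FieldDiag Groth.Agent.Lib.Helper15SplitSub
open Groth.Agent.Lib.Helper15DSbc Groth.Agent.Lib.Helper15BCNat Groth.Agent.Lib.Helper15HomDiag
open Groth.Agent.Lib.Helper15QuotTorus Groth.Agent.Lib.Helper15LocFormS

section Quot

variable (S : Scheme.{u}) {Z : Type} [AddCommGroup Z] (L : AddSubgroup Z)

lemma isKernel_sub : AlgGrp.IsKernel (Red.DSmap S (QuotientAddGroup.mk' L))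
    (Red.DSmap S L.subtype) := by
  refine Groth.Agent.Lib.Helper15DExact.isKernel_DSmap L.subtype (QuotientAddGroup.mk' L) S
    (QuotientAddGroup.mk'_surjective L) ?_ ?_
  · intro x hx
    have : x ∈ L := by
      rw [← QuotientAddGroup.eq_zero_iff]
      exact hx
    exact ⟨⟨x, this⟩, rfl⟩
  · ext x
    simp

/-- the diagonalisable group of a subgroup of the character group is the quotient by the
diagonalisable group of the quotient of the character group. -/
theorem isQuotient_sub (hZ : AddGroup.FG Z) :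
    RedSub.IsQuotient (Red.DSmap S (QuotientAddGroup.mk' L)) (Red.DSmap S L.subtype) := by
  have hLfg := fg_sub L hZ
  have hinj : Function.Injective L.subtype := Subtype.val_injective
  obtain ⟨hfl, hsu⟩ := Groth.Agent.Lib.Helper15DSmapProps.flat_surjective_DSmap L.subtype S hinj
  have hlfp := lfp_DSmap L.subtype S hZ hLfg
  have hm := Groth.Agent.Lib.Helper27DiagSub.isMonHom_DSmap S L.subtype
  exact ⟨hsu, hfl, hlfp, (Groth.Agent.Lib.Helper12.Kernel.isPullback_act_of_isKernel _ _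
    (isKernel_sub S L)).flip⟩

end Quot

section Image

variable {S : Scheme.{u}} {G : Over S} [GrpObj G] {Z : Type} [AddCommGroup Z]
  (m : Red.DS S Z ⟶ G) [hm : IsMonHom m] (L : AddSubgroup Z)
  {J : Type u} {Sj : J → Scheme.{u}} (gj : ∀ j, Sj j ⟶ S)
  (hcov : Presieve.ofArrows Sj gj ∈ Scheme.fpqcPrecoverage S)
  (M : J → Type) [∀ j, AddCommGroup (M j)] (φ : ∀ j, M j →+ Z)
  (hloc : ∀ j, LocFormS m (gj j) (M j) (φ j))
  (hrange : ∀ j, (φ j).range = L)

include hcov hloc hrange in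
lemma comp_eq_one : Red.DSmap S (QuotientAddGroup.mk' L) ≫ m = toUnit _ ≫ η[G] := by
  refine eq_of_bc_family _ _ gj hcov ?_
  intro k
  rw [map_trivial]
  obtain ⟨β, α, hα, h⟩ := hloc k
  have e1 : η[Red.bc (gj k) G] ≫ α.hom = η[Red.DS (Sj k) (M k)] := IsMonHom.one_hom _
  have hz : (QuotientAddGroup.mk' L).comp (φ k) = 0 := by
    ext x
    have : φ k x ∈ L := by rw [← hrange k]; exact ⟨x, rfl⟩
    simpa using this
  rw [← cancel_mono α.hom, CategoryTheory.Functor.map_comp, Category.assoc, h, ← Category.assoc,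
    β.nat, Category.assoc, ← DSmap_comp, hz, DSmap_zero, Category.assoc, e1, ← Category.assoc]
  congr 1
  exact toUnit_unique _ _

include hm hcov hloc hrange in
/-- **the image of a homomorphism from a diagonalisable group to a group of multiplicative type
whose local forms have constant image is the diagonalisable group attached to that image.** -/
theorem exists_image (hZ : AddGroup.FG Z) :
    ∃ mbar : Red.DS S L ⟶ G, IsMonHom mbar ∧ Mono mbar ∧
      Red.DSmap S L.subtype ≫ mbar = m := by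
  have hq := isQuotient_sub S L hZ
  have hm1 := Groth.Agent.Lib.Helper27DiagSub.isMonHom_DSmap S L.subtype
  have hm2 := Groth.Agent.Lib.Helper27DiagSub.isMonHom_DSmap S (QuotientAddGroup.mk' L)
  have hyp := hyp_of_isQuotient (Red.DSmap S (QuotientAddGroup.mk' L))
    (fun X a b => Groth.Agent.Lib.Helper15ExtCentral.DS_comm Z a b) (Red.DSmap S L.subtype) hq
  obtain ⟨mbar, ⟨hmbar, hmon⟩, -⟩ := hyp.existsUnique_desc m
    (comp_eq_one m L gj hcov M φ hloc hrange)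
  refine ⟨mbar, hmon, ?_, hmbar⟩
  have hleft : Mono mbar.left := by
    refine Groth.Agent.Lib.Helper15FixClopenGlob.of_bc_family
      (P := MorphismProperty.monomorphisms Scheme.{u})
      Groth.Agent.Lib.Helper15MultTypeLocus.mono_descendsAlong mbar gj hcov ?_
    intro k
    obtain ⟨β, α, hα, h⟩ := hloc k
    have hφL : ∀ x, φ k x ∈ L := fun x => by rw [← hrange k]; exact ⟨x, rfl⟩
    obtain ⟨φbar, hφbar⟩ : ∃ φbar : M k →+ L, φbar = (φ k).codRestrict L hφL := ⟨_, rfl⟩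
    have hcompφ : L.subtype.comp φbar = φ k := by
      rw [hφbar]; ext x; rfl
    have hφbs : Function.Surjective φbar := by
      rintro ⟨z, hz⟩
      rw [← hrange k] at hz
      obtain ⟨x, hx⟩ := hz
      exact ⟨x, Subtype.ext (by rw [hφbar]; exact hx)⟩
    have hinj : Function.Injective L.subtype := Subtype.val_injective
    obtain ⟨hfl, hsu⟩ := Groth.Agent.Lib.Helper15DSmapProps.flat_surjective_DSmap L.subtype
      (Sj k) hinj
    have hepi' : Epi (Red.DSmap (Sj k) L.subtype).left := Flat.epi_of_flat_of_surjective _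
    have hepi : Epi (Red.DSmap (Sj k) L.subtype) := (Over.forget _).epi_of_epi_map hepi'
    have hw : (β.b L).inv ≫ (Over.pullback (gj k)).map mbar ≫ α.hom =
        Red.DSmap (Sj k) φbar := by
      rw [← cancel_epi (Red.DSmap (Sj k) L.subtype), ← DSmap_comp, hcompφ]
      have n1 : Red.DSmap (Sj k) L.subtype ≫ (β.b L).inv =
          (β.b Z).inv ≫ (Over.pullback (gj k)).map (Red.DSmap S L.subtype) := by
        rw [Iso.eq_inv_comp, ← Category.assoc, ← β.nat, Category.assoc, Iso.hom_inv_id,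
          Category.comp_id]
      rw [← Category.assoc, n1, Category.assoc, ← Category.assoc ((Over.pullback (gj k)).map _),
        ← CategoryTheory.Functor.map_comp, hmbar, h, Iso.inv_hom_id_assoc]
    have hmono : Mono (Red.DSmap (Sj k) φbar).left :=
      Groth.Agent.Lib.Helper15DSmapProps.mono_DSmap φbar (Sj k) hφbs
    have heq : (Over.pullback (gj k)).map mbar =
        (β.b L).hom ≫ Red.DSmap (Sj k) φbar ≫ α.inv := by
      rw [← hw]
      simp
    have h1 := isIso_left (β.b L)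
    have h2 : IsIso α.inv.left := isIso_left α.symm
    show Mono ((Over.pullback (gj k)).map mbar).left
    rw [heq, Over.comp_left, Over.comp_left]
    infer_instance
  exact (Over.forget S).mono_of_mono_map hleft

end Image

section Join

variable {S : Scheme.{u}} {G : Over S} [GrpObj G]

/-- the product of two homomorphisms into a commutative group is a homomorphism. -/
lemma isMonHom_mul {X : Over S} [GrpObj X]
    (hcomm : ∀ (Y : Over S) (a b : Y ⟶ G), a * b = b * a) (a b : X ⟶ G) [IsMonHom a]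
    [IsMonHom b] : IsMonHom (a * b) where
  one_hom := by
    have ha : η[X] ≫ a = η[G] := IsMonHom.one_hom _
    have hb : η[X] ≫ b = η[G] := IsMonHom.one_hom _
    rw [MonObj.comp_mul, ha, hb, MonObj.one_eq_one, _root_.mul_one]
  mul_hom := by
    have key : ∀ f : X ⟶ G, (f ⊗ₘ f) ≫ μ[G] = (fst X X ≫ f) * (snd X X ≫ f) := by
      intro f
      rw [MonObj.mul_eq_mul, MonObj.comp_mul, tensorHom_fst, tensorHom_snd]
    have ha : μ[X] ≫ a = (a ⊗ₘ a) ≫ μ[G] := IsMonHom.mul_hom _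
    have hb : μ[X] ≫ b = (b ⊗ₘ b) ≫ μ[G] := IsMonHom.mul_hom _
    rw [MonObj.comp_mul, ha, hb, key, key, key, MonObj.comp_mul, MonObj.comp_mul]
    rw [_root_.mul_assoc, ← _root_.mul_assoc (snd X X ≫ a), hcomm _ (snd X X ≫ a) (fst X X ≫ b)]
    simp only [_root_.mul_assoc]

variable [ConnectedSpace S]

/-- **image of a homomorphism from a split torus to a group of multiplicative type over a
connected base.** -/
theorem exists_image_of_connected (hG : SGA3x.IsMultTypeFT G) (Z : Type) [AddCommGroup Z]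
    (hZ : AddGroup.FG Z) (m : Red.DS S Z ⟶ G) [IsMonHom m] :
    ∃ (L : AddSubgroup Z) (mbar : Red.DS S L ⟶ G), IsMonHom mbar ∧ Mono mbar ∧
      Red.DSmap S L.subtype ≫ mbar = m := by
  obtain ⟨J, Sj, gj, M, instM, φ, hcov, hne, hM, hloc⟩ := exists_family_locFormS m hG
  obtain ⟨s₀⟩ : Nonempty S := inferInstance
  obtain ⟨j₀, -, -⟩ := exists_mem_of_fpqc gj hcov s₀
  have hrange : ∀ j, (φ j).range = (φ j₀).range := fun j =>
    range_eq_of_connected gj hcov M φ hloc hne j j₀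
  obtain ⟨mbar, h1, h2, h3⟩ := exists_image m (φ j₀).range gj hcov M φ hloc hrange hZ
  exact ⟨_, mbar, h1, h2, h3⟩

lemma exists_addEquiv_fin_prod (r₁ r₂ : ℕ) (L : AddSubgroup ((Fin r₁ → ℤ) × (Fin r₂ → ℤ))) :
    ∃ r₃ : ℕ, Nonempty ((Fin r₃ → ℤ) ≃+ L) := by
  obtain ⟨n, b⟩ := Submodule.basisOfPid
    ((Pi.basisFun ℤ (Fin r₁)).prod (Pi.basisFun ℤ (Fin r₂))) (AddSubgroup.toIntSubmodule L)
  exact ⟨n, ⟨b.equivFun.symm.toAddEquiv⟩⟩

lemma fg_prod (r₁ r₂ : ℕ) : AddGroup.FG ((Fin r₁ → ℤ) × (Fin r₂ → ℤ)) := by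
  have : Module.Finite ℤ ((Fin r₁ → ℤ) × (Fin r₂ → ℤ)) := inferInstance
  exact Module.Finite.iff_addGroup_fg.mp this

lemma locally_of_isMultTypeFT (hG : SGA3x.IsMultTypeFT G) :
    TwC.Locally S TwC.Topology.fpqc (fun S' f => ∃ (M : Type) (_ : AddCommGroup M),
      Nonempty (Grp.mk (Red.bc f G) ≅ Grp.mk (Red.DS S' M))) := by
  obtain ⟨S', f, hfl, hsu, hqc, hloc⟩ := hG
  refine ⟨S', f, hfl, hsu, hqc, fun s' => ?_⟩
  obtain ⟨U, hU, M, i, -, e⟩ := hloc s'
  exact ⟨U, hU, M, i, e⟩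

/-- **two split subtori of a group of multiplicative type over a connected base are contained
in a third one.** -/
theorem exists_join (hG : SGA3x.IsMultTypeFT G) {T₁ T₂ : Over S} [GrpObj T₁] [GrpObj T₂]
    (j₁ : T₁ ⟶ G) [IsMonHom j₁] (j₂ : T₂ ⟶ G) [IsMonHom j₂] (r₁ r₂ : ℕ)
    (e₁ : Grp.mk T₁ ≅ Grp.mk (Red.DS S (Fin r₁ → ℤ)))
    (e₂ : Grp.mk T₂ ≅ Grp.mk (Red.DS S (Fin r₂ → ℤ))) :
    ∃ (r₃ : ℕ) (j₃ : Red.DS S (Fin r₃ → ℤ) ⟶ G) (g₁ : T₁ ⟶ Red.DS S (Fin r₃ → ℤ))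
      (g₂ : T₂ ⟶ Red.DS S (Fin r₃ → ℤ)), IsMonHom j₃ ∧ Mono j₃ ∧ g₁ ≫ j₃ = j₁ ∧ g₂ ≫ j₃ = j₂ := by
  have hcomm := Groth.Agent.Lib.Helper15ExtCentral.comm_of_multType G (locally_of_isMultTypeFT hG)
  obtain ⟨A, hA⟩ : ∃ A : Type, A = (Fin r₁ → ℤ) := ⟨_, rfl⟩
  obtain ⟨inl, hinl⟩ : ∃ inl : (Fin r₁ → ℤ) →+ (Fin r₁ → ℤ) × (Fin r₂ → ℤ),
      inl = AddMonoidHom.inl _ _ := ⟨_, rfl⟩
  obtain ⟨inr, hinr⟩ : ∃ inr : (Fin r₂ → ℤ) →+ (Fin r₁ → ℤ) × (Fin r₂ → ℤ),
      inr = AddMonoidHom.inr _ _ := ⟨_, rfl⟩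
  obtain ⟨pfst, hpfst⟩ : ∃ pfst : (Fin r₁ → ℤ) × (Fin r₂ → ℤ) →+ (Fin r₁ → ℤ),
      pfst = AddMonoidHom.fst _ _ := ⟨_, rfl⟩
  obtain ⟨psnd, hpsnd⟩ : ∃ psnd : (Fin r₁ → ℤ) × (Fin r₂ → ℤ) →+ (Fin r₂ → ℤ),
      psnd = AddMonoidHom.snd _ _ := ⟨_, rfl⟩
  have h11 : pfst.comp inl = AddMonoidHom.id _ := by rw [hpfst, hinl]; ext; simp
  have h12 : pfst.comp inr = 0 := by rw [hpfst, hinr]; ext; simp
  have h21 : psnd.comp inl = 0 := by rw [hpsnd, hinl]; ext; simp
  have h22 : psnd.comp inr = AddMonoidHom.id _ := by rw [hpsnd, hinr]; ext; simp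
  have hm1 := Groth.Agent.Lib.Helper27DiagSub.isMonHom_DSmap S inl
  have hm2 := Groth.Agent.Lib.Helper27DiagSub.isMonHom_DSmap S inr
  obtain ⟨a₁, ha₁⟩ : ∃ a₁ : Red.DS S ((Fin r₁ → ℤ) × (Fin r₂ → ℤ)) ⟶ G,
      a₁ = Red.DSmap S inl ≫ (overIso e₁).inv ≫ j₁ := ⟨_, rfl⟩
  obtain ⟨a₂, ha₂⟩ : ∃ a₂ : Red.DS S ((Fin r₁ → ℤ) × (Fin r₂ → ℤ)) ⟶ G,
      a₂ = Red.DSmap S inr ≫ (overIso e₂).inv ≫ j₂ := ⟨_, rfl⟩
  have ha₁m : IsMonHom a₁ := by rw [ha₁]; infer_instance
  have ha₂m : IsMonHom a₂ := by rw [ha₂]; infer_instance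
  have hmm : IsMonHom (a₁ * a₂) := isMonHom_mul hcomm a₁ a₂
  obtain ⟨L, mbar, hmb1, hmb2, hmb3⟩ := exists_image_of_connected hG _ (fg_prod r₁ r₂) (a₁ * a₂)
  obtain ⟨r₃, ⟨ε⟩⟩ := exists_addEquiv_fin_prod r₁ r₂ L
  have hiso := isIso_DSmap (U := S) ε.symm
  have hmε := Groth.Agent.Lib.Helper27DiagSub.isMonHom_DSmap S ε.symm.toAddMonoidHom
  have hεε : Red.DSmap S ε.toAddMonoidHom ≫ Red.DSmap S ε.symm.toAddMonoidHom = 𝟙 _ := by
    rw [← DSmap_comp]
    have : ε.toAddMonoidHom.comp ε.symm.toAddMonoidHom = AddMonoidHom.id _ := by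
      apply AddMonoidHom.ext
      intro x
      exact ε.apply_symm_apply x
    rw [this, DSmap_id]
  have hone : ∀ {X Y : Over S} [GrpObj X] (f : X ⟶ G) [IsMonHom f] (M : Type) [AddCommGroup M]
      (N : Type) [AddCommGroup N] (e : Red.DS S N ⟶ X) [IsMonHom e],
      Red.DSmap S (0 : N →+ M) ≫ e ≫ f = 1 := by
    intro X Y _ f _ M _ N _ e _
    rw [DSmap_zero]
    have h1 : (toUnit (Red.DS S M) ≫ η[Red.DS S N]) = 1 := rfl
    rw [h1, ← Category.assoc, MonObj.one_comp, MonObj.one_comp]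
  refine ⟨r₃, Red.DSmap S ε.symm.toAddMonoidHom ≫ mbar,
    (overIso e₁).hom ≫ Red.DSmap S pfst ≫ Red.DSmap S L.subtype ≫ Red.DSmap S ε.toAddMonoidHom,
    (overIso e₂).hom ≫ Red.DSmap S psnd ≫ Red.DSmap S L.subtype ≫ Red.DSmap S ε.toAddMonoidHom,
    inferInstance, inferInstance, ?_, ?_⟩
  · simp only [Category.assoc]
    rw [← Category.assoc (Red.DSmap S ε.toAddMonoidHom), hεε, Category.id_comp, hmb3,
      MonObj.comp_mul, ha₁, ha₂, ← Category.assoc (Red.DSmap S pfst), ← DSmap_comp, h11, DSmap_id,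
      Category.id_comp, ← Category.assoc (Red.DSmap S pfst), ← DSmap_comp, h12,
      hone (Y := T₂) j₂ _ _ (overIso e₂).inv, _root_.mul_one, Iso.hom_inv_id_assoc]
  · simp only [Category.assoc]
    rw [← Category.assoc (Red.DSmap S ε.toAddMonoidHom), hεε, Category.id_comp, hmb3,
      MonObj.comp_mul, ha₁, ha₂, ← Category.assoc (Red.DSmap S psnd), ← DSmap_comp, h21,
      ← Category.assoc (Red.DSmap S psnd), ← DSmap_comp, h22, DSmap_id, Category.id_comp,
      hone (Y := T₁) j₁ _ _ (overIso e₁).inv, _root_.one_mul, Iso.hom_inv_id_assoc]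

end Join

end Groth.Agent.Lib.Helper15ImageD
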