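-- helper15: local join of two split subtori of a group of multiplicative type (neighbourhood version), join data and their compatibility
import Mathlib
import Groth.Agent.Lib.Helper15ImageD
import Groth.Agent.Lib.Helper15LocProjBC
set_option autoImplicit false
universe u
open CategoryTheory CategoryTheory.Limits AlgebraicGeometry MonoidalCategory CartesianMonoidalCategory
  MonObj GrpObj

namespace Groth.Agent.Lib.Helper15JoinNhd

open Groth.Agent.Lib.Helper15DiagRigid Groth.Agent.Lib.Helper15DSmapPts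
open Groth.Agent.Lib.Helper11MultGa Groth.Agent.Lib.Helper27.GaGm
open Groth.Agent.Lib.Helper15FieldDiag Groth.Agent.Lib.Helper15SplitSub
open Groth.Agent.Lib.Helper15DSbc Groth.Agent.Lib.Helper15BCNat Groth.Agent.Lib.Helper15HomDiag
open Groth.Agent.Lib.Helper15QuotTorus Groth.Agent.Lib.Helper15LocFormS
open Groth.Agent.Lib.Helper15ImageD Groth.Agent.Lib.Helper15QuotBC

section Affine

lemma isAffineHom_DS (U : Scheme.{u}) (M : Type) [AddCommGroup M] :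
    IsAffineHom (Red.DS U M).hom := by
  have h : IsAffineHom (Red.diag (ULift.{u} ℤ) M).hom := by
    have h1 : IsAffine (Red.diag (ULift.{u} ℤ) M).left := by
      show IsAffine (Spec _)
      infer_instance
    exact isAffineHom_of_isAffine _
  exact MorphismProperty.pullback_snd (P := @IsAffineHom) _ _ h

lemma quasiCompact_left_of_DS {U : Scheme.{u}} {M N : Type} [AddCommGroup M] [AddCommGroup N]
    (p : Red.DS U M ⟶ Red.DS U N) : QuasiCompact p.left := by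
  have h1 := isAffineHom_DS U M
  have h2 := isAffineHom_DS U N
  have h3 : QuasiCompact (p.left ≫ (Red.DS U N).hom) := by
    rw [Over.w]
    infer_instance
  exact QuasiCompact.of_comp p.left (Red.DS U N).hom

end Affine

section Comp

variable {S T T' : Scheme.{u}} {G : Over S} [GrpObj G] {Z : Type} [AddCommGroup Z]

/-- a local form of the restriction of `m` (made a homomorphism from a diagonalisable group by a
natural trivialisation) is a local form of `m`. -/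
lemma LocFormS.comp (m : Red.DS S Z ⟶ G) (f : T ⟶ S) (β₀ : NatTriv f) {q : T' ⟶ T} {N : Type}
    [AddCommGroup N] {φ : N →+ Z}
    (h : LocFormS ((β₀.b Z).inv ≫ (Over.pullback f).map m) q N φ) :
    LocFormS m (q ≫ f) N φ := by
  obtain ⟨β', α', hα', h⟩ := h
  refine ⟨β₀.comp β', (overIso (bcCompIso f q G)).symm ≪≫ α', ?_, ?_⟩
  · simp only [Iso.trans_hom, Iso.symm_hom]
    infer_instance
  · have e1 : (overIso (bcCompIso f q G)).inv = (Over.pullbackComp q f).hom.app G :=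
      bcCompIso_inv f q _
    have e2 : (overIso (bcCompIso f q (Red.DS S Z))).inv =
        (Over.pullbackComp q f).hom.app (Red.DS S Z) := bcCompIso_inv f q _
    have n1 := (Over.pullbackComp q f).hom.naturality m
    simp only [Functor.comp_map] at n1
    have h' : (Over.pullback q).map ((Over.pullback f).map m) ≫ α'.hom =
        (Over.pullback q).map (β₀.b Z).hom ≫ (β'.b Z).hom ≫ Red.DSmap T' φ := by
      rw [← h, ← Category.assoc, ← CategoryTheory.Functor.map_comp, Iso.hom_inv_id_assoc]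
    change (Over.pullback (q ≫ f)).map m ≫ ((overIso (bcCompIso f q G)).symm ≪≫ α').hom =
      ((overIso (bcCompIso f q (Red.DS S Z))).symm ≪≫
        (Over.pullback q).mapIso (β₀.b Z) ≪≫ β'.b Z).hom ≫ _
    simp only [Iso.trans_hom, Iso.symm_hom, Functor.mapIso_hom, Category.assoc]
    rw [e1, e2, ← Category.assoc, n1, Category.assoc, h']

end Comp

section Image

variable {S : Scheme.{u}} {G : Over S} [GrpObj G] {Z : Type} [AddCommGroup Z]
  (m : Red.DS S Z ⟶ G) (L : AddSubgroup Z)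
  {J : Type u} {Sj : J → Scheme.{u}} (gj : ∀ j, Sj j ⟶ S)
  (hcov : Presieve.ofArrows Sj gj ∈ Scheme.fpqcPrecoverage S)
  (M : J → Type) [∀ j, AddCommGroup (M j)] (φ : ∀ j, M j →+ Z)
  (hloc : ∀ j, LocFormS m (gj j) (M j) (φ j))
  (hrange : ∀ j, (φ j).range = L)

include hcov hloc hrange in
/-- the image of a homomorphism from a diagonalisable group to a group of multiplicative type is a
closed subgroup. -/
lemma isClosedImmersion_image (mbar : Red.DS S L ⟶ G)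
    (hmbar : Red.DSmap S L.subtype ≫ mbar = m) : IsClosedImmersion mbar.left := by
  refine Groth.Agent.Lib.Helper15FixClopenGlob.of_bc_family
    (P := @IsClosedImmersion)
    Groth.Agent.Lib.Helper12.descendsAlong_isClosedImmersion mbar gj hcov ?_
  intro k
  obtain ⟨β, α, hα, h⟩ := hloc k
  have hφL : ∀ x, φ k x ∈ L := fun x => by rw [← hrange k]; exact ⟨x, rfl⟩
  obtain ⟨φbar, hφbar⟩ : ∃ φbar : M k →+ L, φbar = (φ k).codRestrict L hφL := ⟨_, rfl⟩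
  have hcompφ : L.subtype.comp φbar = φ k := by
    rw [hφbar]; ext x; rfl
  have hφbs : Function.Surjective φbar := by
    rintro ⟨z, hz⟩
    rw [← hrange k] at hz
    obtain ⟨x, hx⟩ := hz
    exact ⟨x, Subtype.ext (by rw [hφbar]; exact hx)⟩
  have hinj : Function.Injective L.subtype := Subtype.val_injective
  obtain ⟨hfl, hsu⟩ := Groth.Agent.Lib.Helper15DSmapProps.flat_surjective_DSmap L.subtype
    (Sj k) hinj
  have hepi' : Epi (Red.DSmap (Sj k) L.subtype).left := Flat.epi_of_flat_of_surjective _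
  have hepi : Epi (Red.DSmap (Sj k) L.subtype) := (Over.forget _).epi_of_epi_map hepi'
  have hw : (β.b L).inv ≫ (Over.pullback (gj k)).map mbar ≫ α.hom =
      Red.DSmap (Sj k) φbar := by
    rw [← cancel_epi (Red.DSmap (Sj k) L.subtype), ← DSmap_comp, hcompφ]
    have n1 : Red.DSmap (Sj k) L.subtype ≫ (β.b L).inv =
        (β.b Z).inv ≫ (Over.pullback (gj k)).map (Red.DSmap S L.subtype) := by
      rw [Iso.eq_inv_comp, ← Category.assoc, ← β.nat, Category.assoc, Iso.hom_inv_id,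
        Category.comp_id]
    rw [← Category.assoc, n1, Category.assoc, ← Category.assoc ((Over.pullback (gj k)).map _),
      ← CategoryTheory.Functor.map_comp, hmbar, h, Iso.inv_hom_id_assoc]
  have hcl : IsClosedImmersion (Red.DSmap (Sj k) φbar).left :=
    Groth.Agent.Lib.Helper27DiagSub.isClosedImmersion_DSmap_left (Sj k) φbar hφbs
  have heq : (Over.pullback (gj k)).map mbar =
      (β.b L).hom ≫ Red.DSmap (Sj k) φbar ≫ α.inv := by
    rw [← hw]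
    simp
  have h1 := isIso_left (β.b L)
  have h2 : IsIso α.inv.left := isIso_left α.symm
  show IsClosedImmersion ((Over.pullback (gj k)).map mbar).left
  rw [heq, Over.comp_left, Over.comp_left]
  infer_instance

end Image

section Pred

variable {S : Scheme.{u}} {G E₁ E₂ : Over S} [GrpObj G] (j₁ : E₁ ⟶ G) (j₂ : E₂ ⟶ G)

/-- the point `ξ` of `G` is a product of a point of `E₁` and a point of `E₂`. -/
def Pred {A : Scheme.{u}} (ξ : A ⟶ G.left) : Prop :=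
  ∃ (a₁ : Over.mk (ξ ≫ G.hom) ⟶ E₁) (a₂ : Over.mk (ξ ≫ G.hom) ⟶ E₂),
    (Over.homMk ξ rfl : Over.mk (ξ ≫ G.hom) ⟶ G) = (a₁ ≫ j₁) * (a₂ ≫ j₂)

variable {j₁ j₂}

lemma pred_of_eq {Y : Over S} (y : Y ⟶ G) (a₁ : Y ⟶ E₁) (a₂ : Y ⟶ E₂)
    (h : y = (a₁ ≫ j₁) * (a₂ ≫ j₂)) : Pred j₁ j₂ y.left := by
  obtain ⟨θ, hθ⟩ : ∃ θ : Over.mk (y.left ≫ G.hom) ⟶ Y, θ.left = 𝟙 _ :=
    ⟨Over.homMk (𝟙 _) (by rw [Category.id_comp]; exact (Over.w y).symm), rfl⟩
  refine ⟨θ ≫ a₁, θ ≫ a₂, ?_⟩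
  have h1 : (Over.homMk y.left rfl : Over.mk (y.left ≫ G.hom) ⟶ G) = θ ≫ y := by
    apply Over.OverMorphism.ext
    rw [Over.comp_left, hθ, Category.id_comp]
    rfl
  have h2 : θ ≫ y = θ ≫ ((a₁ ≫ j₁) * (a₂ ≫ j₂)) := congrArg (fun t => θ ≫ t) h
  refine h1.trans (h2.trans ?_)
  rw [MonObj.comp_mul, Category.assoc θ a₁ j₁, Category.assoc θ a₂ j₂]

lemma exists_of_pred {Y : Over S} (y : Y ⟶ G) (h : Pred j₁ j₂ y.left) :
    ∃ (a₁ : Y ⟶ E₁) (a₂ : Y ⟶ E₂), y = (a₁ ≫ j₁) * (a₂ ≫ j₂) := by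
  obtain ⟨a₁, a₂, h⟩ := h
  obtain ⟨θ, hθ⟩ : ∃ θ : Y ⟶ Over.mk (y.left ≫ G.hom), θ.left = 𝟙 _ :=
    ⟨Over.homMk (𝟙 _) (by rw [Category.id_comp]; exact Over.w y), rfl⟩
  refine ⟨θ ≫ a₁, θ ≫ a₂, ?_⟩
  have h1 : y = θ ≫ (Over.homMk y.left rfl : Over.mk (y.left ≫ G.hom) ⟶ G) := by
    apply Over.OverMorphism.ext
    rw [Over.comp_left, hθ, Category.id_comp]
    rfl
  have h2 : θ ≫ (Over.homMk y.left rfl : Over.mk (y.left ≫ G.hom) ⟶ G) =
      θ ≫ ((a₁ ≫ j₁) * (a₂ ≫ j₂)) := congrArg (fun t => θ ≫ t) h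
  refine h1.trans (h2.trans ?_)
  rw [MonObj.comp_mul, Category.assoc θ a₁ j₁, Category.assoc θ a₂ j₂]

lemma pred_comp {A A' : Scheme.{u}} (π : A' ⟶ A) (ξ : A ⟶ G.left) (h : Pred j₁ j₂ ξ) :
    Pred j₁ j₂ (π ≫ ξ) := by
  obtain ⟨a₁, a₂, h⟩ := h
  obtain ⟨ρ, hρ⟩ : ∃ ρ : Over.mk ((π ≫ ξ) ≫ G.hom) ⟶ Over.mk (ξ ≫ G.hom), ρ.left = π :=
    ⟨Over.homMk π (by simp), rfl⟩
  have h1 : (Over.homMk (π ≫ ξ) rfl : Over.mk ((π ≫ ξ) ≫ G.hom) ⟶ G) =
      ρ ≫ (Over.homMk ξ rfl : Over.mk (ξ ≫ G.hom) ⟶ G) := by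
    apply Over.OverMorphism.ext
    rw [Over.comp_left, hρ]
    rfl
  exact pred_of_eq (Over.homMk (π ≫ ξ) rfl : Over.mk ((π ≫ ξ) ≫ G.hom) ⟶ G) (ρ ≫ a₁) (ρ ≫ a₂)
    (by
      have h2 : ρ ≫ (Over.homMk ξ rfl : Over.mk (ξ ≫ G.hom) ⟶ G) =
          ρ ≫ ((a₁ ≫ j₁) * (a₂ ≫ j₂)) := congrArg (fun t => ρ ≫ t) h
      refine h1.trans (h2.trans ?_)
      rw [MonObj.comp_mul, Category.assoc ρ a₁ j₁, Category.assoc ρ a₂ j₂])

end Pred

section JoinData

variable {S : Scheme.{u}} {G E₁ E₂ : Over S} [GrpObj G] [GrpObj E₁] [GrpObj E₂]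
  (j₁ : E₁ ⟶ G) (j₂ : E₂ ⟶ G)

lemma homEquiv_symm_left {T : Scheme.{u}} (f : T ⟶ S) {Y : Over T} {X : Over S}
    (y : Y ⟶ (Over.pullback f).obj X) :
    (((Over.mapPullbackAdj f).homEquiv Y X).symm y).left = y.left ≫ pullback.fst X.hom f := by
  rw [Adjunction.homEquiv_counit]
  simp

/-- over `g`, the closed subgroup `v` of `G` is the join of the images of `j₁` and `j₂`. -/
def JoinData {T : Scheme.{u}} (g : T ⟶ S) (V : Over T) [GrpObj V] (v : V ⟶ Red.bc g G) : Prop :=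
  IsMonHom v ∧ IsClosedImmersion v.left ∧
  (∃ γ₁ : Red.bc g E₁ ⟶ V, γ₁ ≫ v = (Over.pullback g).map j₁) ∧
  (∃ γ₂ : Red.bc g E₂ ⟶ V, γ₂ ≫ v = (Over.pullback g).map j₂) ∧
  ∃ (P : Over T) (p : P ⟶ V) (c₁ : P ⟶ Red.bc g E₁) (c₂ : P ⟶ Red.bc g E₂),
    Flat p.left ∧ Surjective p.left ∧ QuasiCompact p.left ∧
    p ≫ v = (c₁ ≫ (Over.pullback g).map j₁) * (c₂ ≫ (Over.pullback g).map j₂)

variable {j₁ j₂}

/-- a point which is a product of points of `E₁` and `E₂` lies in the join. -/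
lemma JoinData.factors_of_pred {T : Scheme.{u}} {g : T ⟶ S} {V : Over T} [GrpObj V]
    {v : V ⟶ Red.bc g G} (hd : JoinData j₁ j₂ g V v) {A : Scheme.{u}}
    (x : A ⟶ (Red.bc g G).left) (hp : Pred j₁ j₂ (x ≫ pullback.fst G.hom g)) :
    ∃ a : A ⟶ V.left, a ≫ v.left = x := by
  obtain ⟨hvm, -, ⟨γ₁, hγ₁⟩, ⟨γ₂, hγ₂⟩, -⟩ := hd
  obtain ⟨y, hy⟩ : ∃ y : Over.mk (x ≫ (Red.bc g G).hom) ⟶ Red.bc g G, y.left = x :=
    ⟨Over.homMk x rfl, rfl⟩
  have h1 : (((Over.mapPullbackAdj g).homEquiv _ G).symm y).left = x ≫ pullback.fst G.hom g := by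
    rw [homEquiv_symm_left, hy]
  rw [← h1] at hp
  obtain ⟨a₁, a₂, h2⟩ := exists_of_pred _ hp
  have h3 := congrArg ((Over.mapPullbackAdj g).homEquiv _ G) h2
  rw [Equiv.apply_symm_apply, AlgGrp.Action.homEquiv_mul, Adjunction.homEquiv_naturality_right,
    Adjunction.homEquiv_naturality_right, ← hγ₁, ← hγ₂, ← Category.assoc, ← Category.assoc,
    ← MonObj.mul_comp] at h3
  refine ⟨((((Over.mapPullbackAdj g).homEquiv _ E₁) a₁ ≫ γ₁) *
    (((Over.mapPullbackAdj g).homEquiv _ E₂) a₂ ≫ γ₂)).left, ?_⟩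
  rw [← Over.comp_left, ← h3, hy]

/-- a point of the join is, locally for the fpqc topology, a product of points of `E₁` and
`E₂`. -/
lemma JoinData.exists_cover {T : Scheme.{u}} {g : T ⟶ S} {V : Over T} [GrpObj V]
    {v : V ⟶ Red.bc g G} (hd : JoinData j₁ j₂ g V v) {A : Scheme.{u}}
    (a : A ⟶ V.left) :
    ∃ (A' : Scheme.{u}) (π : A' ⟶ A), Flat π ∧ Surjective π ∧ QuasiCompact π ∧
      Pred j₁ j₂ (π ≫ a ≫ v.left ≫ pullback.fst G.hom g) := by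
  obtain ⟨hvm, -, -, -, P, p, c₁, c₂, hfl, hsu, hqc, hp⟩ := hd
  refine ⟨pullback a p.left, pullback.fst a p.left, inferInstance, inferInstance, inferInstance,
    ?_⟩
  obtain ⟨θ, hθ⟩ : ∃ θ : ∀ X : Over S, (P ⟶ Red.bc g X) → ((Over.map g).obj P ⟶ X),
      θ = fun X y => ((Over.mapPullbackAdj g).homEquiv P X).symm y := ⟨_, rfl⟩
  have hθmul : ∀ u w : P ⟶ Red.bc g G, θ G (u * w) = θ G u * θ G w := by
    intro u w
    rw [hθ]
    apply ((Over.mapPullbackAdj g).homEquiv P G).injective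
    rw [AlgGrp.Action.homEquiv_mul, Equiv.apply_symm_apply, Equiv.apply_symm_apply,
      Equiv.apply_symm_apply]
  have hθnat : ∀ {X : Over S} (c : P ⟶ Red.bc g X) (j : X ⟶ G),
      θ G (c ≫ (Over.pullback g).map j) = θ X c ≫ j := by
    intro X c j
    rw [hθ]
    exact Adjunction.homEquiv_naturality_right_symm _ _ _
  have h1 : θ G (p ≫ v) = (θ E₁ c₁ ≫ j₁) * (θ E₂ c₂ ≫ j₂) := by
    rw [hp, hθmul, hθnat, hθnat]
  have h2 := pred_of_eq _ _ _ h1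
  have h3 : (θ G (p ≫ v)).left = p.left ≫ v.left ≫ pullback.fst G.hom g := by
    rw [hθ]
    show (((Over.mapPullbackAdj g).homEquiv P G).symm (p ≫ v)).left = _
    rw [homEquiv_symm_left, Over.comp_left, Category.assoc]
  rw [h3] at h2
  have h4 := pred_comp (pullback.snd a p.left) _ h2
  rw [← Category.assoc, ← pullback.condition, Category.assoc] at h4
  exact h4

/-- the joins over two members of a family are compatible. -/
lemma JoinData.compat {T T' : Scheme.{u}} {g : T ⟶ S} {g' : T' ⟶ S} {V : Over T} [GrpObj V]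
    {v : V ⟶ Red.bc g G} (hd : JoinData j₁ j₂ g V v) {V' : Over T'} [GrpObj V']
    {v' : V' ⟶ Red.bc g' G} (hd' : JoinData j₁ j₂ g' V' v') {A : Scheme.{u}}
    (x₀ : A ⟶ (Red.bc g G).left) (x₁ : A ⟶ (Red.bc g' G).left)
    (e : x₀ ≫ pullback.fst G.hom g = x₁ ≫ pullback.fst G.hom g')
    (h : ∃ a : A ⟶ V.left, a ≫ v.left = x₀) : ∃ b : A ⟶ V'.left, b ≫ v'.left = x₁ := by
  obtain ⟨a, ha⟩ := h
  obtain ⟨A', π, hfl, hsu, hqc, hp⟩ := hd.exists_cover a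
  rw [← Category.assoc a, ha, e, ← Category.assoc] at hp
  obtain ⟨b', hb'⟩ := hd'.factors_of_pred (π ≫ x₁) hp
  have hmono : Mono v'.left := by
    have := hd'.2.1
    infer_instance
  refine Groth.Agent.Lib.Helper15ClDescFam.factors_of_fpqc v'.left x₁ (Presieve.singleton π)
    (Groth.Agent.Lib.Helper15LocProjBC.singleton_mem_fpqcPrecoverage π ?_) ?_
  · intro W hW
    refine ⟨π ⁻¹ᵁ W, QuasiCompact.isCompact_preimage (f := π) _ W.2 hW.isCompact, ?_⟩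
    exact Set.image_preimage_eq _ hsu.surj
  · rintro Q _ ⟨⟩
    exact ⟨b', hb'⟩

lemma overIso_bcCompIso_hom {T T' : Scheme.{u}} (f : T ⟶ S) (q : T' ⟶ T) (H : Over S) [GrpObj H] :
    (overIso (bcCompIso f q H)).hom = (Over.pullbackComp q f).inv.app H :=
  bcCompIso_hom f q H

lemma bcCompIso_nat {T T' : Scheme.{u}} (f : T ⟶ S) (q : T' ⟶ T) {X Y : Over S} [GrpObj X]
    [GrpObj Y] (y : X ⟶ Y) :
    (Over.pullback q).map ((Over.pullback f).map y) ≫ (overIso (bcCompIso f q Y)).hom =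
      (overIso (bcCompIso f q X)).hom ≫ (Over.pullback (q ≫ f)).map y := by
  rw [overIso_bcCompIso_hom, overIso_bcCompIso_hom]
  exact (Over.pullbackComp q f).inv.naturality y

/-- join data for the restrictions of `j₁`, `j₂` over a further base change are join data over
the composite. -/
lemma JoinData.comp {T T' : Scheme.{u}} (f : T ⟶ S) (q : T' ⟶ T) {V : Over T'} [GrpObj V]
    {v : V ⟶ Red.bc q (Red.bc f G)}
    (hd : JoinData ((Over.pullback f).map j₁) ((Over.pullback f).map j₂) q V v) :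
    JoinData j₁ j₂ (q ≫ f) V (v ≫ (overIso (bcCompIso f q G)).hom) := by
  obtain ⟨hvm, hcl, ⟨γ₁, hγ₁⟩, ⟨γ₂, hγ₂⟩, P, p, c₁, c₂, hfl, hsu, hqc, hp⟩ := hd
  have hiso := isIso_left (overIso (bcCompIso f q G))
  refine ⟨inferInstance, ?_, ⟨(overIso (bcCompIso f q E₁)).inv ≫ γ₁, ?_⟩,
    ⟨(overIso (bcCompIso f q E₂)).inv ≫ γ₂, ?_⟩, P, p, c₁ ≫ (overIso (bcCompIso f q E₁)).hom,
    c₂ ≫ (overIso (bcCompIso f q E₂)).hom, hfl, hsu, hqc, ?_⟩
  · rw [Over.comp_left]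
    infer_instance
  · rw [Category.assoc, ← Category.assoc γ₁, hγ₁, bcCompIso_nat, Iso.inv_hom_id_assoc]
  · rw [Category.assoc, ← Category.assoc γ₂, hγ₂, bcCompIso_nat, Iso.inv_hom_id_assoc]
  · rw [← Category.assoc, hp, MonObj.mul_comp, Category.assoc, Category.assoc, bcCompIso_nat,
      bcCompIso_nat, Category.assoc, Category.assoc]

end JoinData

section Nhd

variable {S : Scheme.{u}} {G : Over S} [GrpObj G]

lemma locally_of_isMultTypeFT' (hG : SGA3x.IsMultTypeFT G) :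
    TwC.Locally S TwC.Topology.fpqc (fun S' f => ∃ (M : Type) (_ : AddCommGroup M),
      Nonempty (Grp.mk (Red.bc f G) ≅ Grp.mk (Red.DS S' M))) := by
  obtain ⟨S', f, hfl, hsu, hqc, hloc⟩ := hG
  refine ⟨S', f, hfl, hsu, hqc, fun s' => ?_⟩
  obtain ⟨U, hU, M, i, -, e⟩ := hloc s'
  exact ⟨U, hU, M, i, e⟩

/-- **two split subtori of a group of multiplicative type are, locally on the base, contained in
a third one, which is their join.** -/
theorem exists_join_nhd (hG : SGA3x.IsMultTypeFT G) {T₁ T₂ : Over S} [GrpObj T₁] [GrpObj T₂]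
    (j₁ : T₁ ⟶ G) [IsMonHom j₁] (j₂ : T₂ ⟶ G) [IsMonHom j₂] (r₁ r₂ : ℕ)
    (e₁ : Grp.mk T₁ ≅ Grp.mk (Red.DS S (Fin r₁ → ℤ)))
    (e₂ : Grp.mk T₂ ≅ Grp.mk (Red.DS S (Fin r₂ → ℤ))) (s : S) :
    ∃ (U : S.Opens), s ∈ U ∧ ∃ (r₃ : ℕ)
      (v : Red.DS (U : Scheme.{u}) (Fin r₃ → ℤ) ⟶ Red.bc U.ι G),
      JoinData j₁ j₂ U.ι (Red.DS (U : Scheme.{u}) (Fin r₃ → ℤ)) v := by
  have hcomm := Groth.Agent.Lib.Helper15ExtCentral.comm_of_multType G (locally_of_isMultTypeFT' hG)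
  obtain ⟨inl, hinl⟩ : ∃ inl : (Fin r₁ → ℤ) →+ (Fin r₁ → ℤ) × (Fin r₂ → ℤ),
      inl = AddMonoidHom.inl _ _ := ⟨_, rfl⟩
  obtain ⟨inr, hinr⟩ : ∃ inr : (Fin r₂ → ℤ) →+ (Fin r₁ → ℤ) × (Fin r₂ → ℤ),
      inr = AddMonoidHom.inr _ _ := ⟨_, rfl⟩
  obtain ⟨pfst, hpfst⟩ : ∃ pfst : (Fin r₁ → ℤ) × (Fin r₂ → ℤ) →+ (Fin r₁ → ℤ),
      pfst = AddMonoidHom.fst _ _ := ⟨_, rfl⟩
  obtain ⟨psnd, hpsnd⟩ : ∃ psnd : (Fin r₁ → ℤ) × (Fin r₂ → ℤ) →+ (Fin r₂ → ℤ),
      psnd = AddMonoidHom.snd _ _ := ⟨_, rfl⟩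
  have h11 : pfst.comp inl = AddMonoidHom.id _ := by rw [hpfst, hinl]; ext; simp
  have h12 : pfst.comp inr = 0 := by rw [hpfst, hinr]; ext; simp
  have h21 : psnd.comp inl = 0 := by rw [hpsnd, hinl]; ext; simp
  have h22 : psnd.comp inr = AddMonoidHom.id _ := by rw [hpsnd, hinr]; ext; simp
  have hm1 := Groth.Agent.Lib.Helper27DiagSub.isMonHom_DSmap S inl
  have hm2 := Groth.Agent.Lib.Helper27DiagSub.isMonHom_DSmap S inr
  obtain ⟨a₁, ha₁⟩ : ∃ a₁ : Red.DS S ((Fin r₁ → ℤ) × (Fin r₂ → ℤ)) ⟶ G,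
      a₁ = Red.DSmap S inl ≫ (overIso e₁).inv ≫ j₁ := ⟨_, rfl⟩
  obtain ⟨a₂, ha₂⟩ : ∃ a₂ : Red.DS S ((Fin r₁ → ℤ) × (Fin r₂ → ℤ)) ⟶ G,
      a₂ = Red.DSmap S inr ≫ (overIso e₂).inv ≫ j₂ := ⟨_, rfl⟩
  have ha₁m : IsMonHom a₁ := by rw [ha₁]; infer_instance
  have ha₂m : IsMonHom a₂ := by rw [ha₂]; infer_instance
  have hmm : IsMonHom (a₁ * a₂) := isMonHom_mul hcomm a₁ a₂
  have hone : ∀ {X Y : Over S} [GrpObj X] (f : X ⟶ G) [IsMonHom f] (M : Type) [AddCommGroup M]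
      (N : Type) [AddCommGroup N] (e : Red.DS S N ⟶ X) [IsMonHom e],
      Red.DSmap S (0 : N →+ M) ≫ e ≫ f = 1 := by
    intro X Y _ f _ M _ N _ e _
    rw [DSmap_zero]
    have h1 : (toUnit (Red.DS S M) ≫ η[Red.DS S N]) = 1 := rfl
    rw [h1, ← Category.assoc, MonObj.one_comp, MonObj.one_comp]
  have k₁ : (overIso e₁).hom ≫ Red.DSmap S pfst ≫ (a₁ * a₂) = j₁ := by
    rw [MonObj.comp_mul, ha₁, ha₂, ← Category.assoc (Red.DSmap S pfst), ← DSmap_comp, h11,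
      DSmap_id, Category.id_comp, ← Category.assoc (Red.DSmap S pfst), ← DSmap_comp, h12,
      hone (Y := T₂) j₂ _ _ (overIso e₂).inv, _root_.mul_one, Iso.hom_inv_id_assoc]
  have k₂ : (overIso e₂).hom ≫ Red.DSmap S psnd ≫ (a₁ * a₂) = j₂ := by
    rw [MonObj.comp_mul, ha₁, ha₂, ← Category.assoc (Red.DSmap S psnd), ← DSmap_comp, h21,
      ← Category.assoc (Red.DSmap S psnd), ← DSmap_comp, h22, DSmap_id, Category.id_comp,
      hone (Y := T₁) j₁ _ _ (overIso e₁).inv, _root_.one_mul, Iso.hom_inv_id_assoc]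
  -- the family and the open and closed subset
  obtain ⟨J, Sj, gj, M, instM, φ, hcov, hne, hM, hloc⟩ := exists_family_locFormS (a₁ * a₂) hG
  obtain ⟨j₀, t₀, ht₀⟩ := exists_mem_of_fpqc gj hcov s
  obtain ⟨L, hL⟩ : ∃ L : AddSubgroup ((Fin r₁ → ℤ) × (Fin r₂ → ℤ)), L = (φ j₀).range := ⟨_, rfl⟩
  have hcl := isClopen_range_eq gj hcov M φ hloc L
  obtain ⟨U, hU⟩ : ∃ U : S.Opens,
      (U : Set S) = {s : S | ∃ j, ∃ t : Sj j, gj j t = s ∧ (φ j).range = L} :=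
    ⟨⟨_, hcl.isOpen⟩, rfl⟩
  have hsU : s ∈ U := by
    show s ∈ (U : Set S)
    rw [hU]
    exact ⟨j₀, t₀, ht₀, hL.symm⟩
  refine ⟨U, hsU, ?_⟩
  obtain ⟨β₀⟩ := nonempty_natTriv (S := S) U.ι
  have hβ₀m := β₀.mon ((Fin r₁ → ℤ) × (Fin r₂ → ℤ))
  obtain ⟨mU, hmU⟩ : ∃ mU : Red.DS (U : Scheme.{u}) ((Fin r₁ → ℤ) × (Fin r₂ → ℤ)) ⟶ Red.bc U.ι G,
      mU = (β₀.b ((Fin r₁ → ℤ) × (Fin r₂ → ℤ))).inv ≫ (Over.pullback U.ι).map (a₁ * a₂) :=
    ⟨_, rfl⟩
  have hmUm : IsMonHom mU := by rw [hmU]; infer_instance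
  have hG₂ := isMultTypeFT_bc U.ι hG
  obtain ⟨J', Sj', gj', M', instM', φ', hcov', hne', hM', hloc'⟩ :=
    exists_family_locFormS mU hG₂
  have hrange' : ∀ j', (φ' j').range = L := by
    intro j'
    have h1 := hloc' j'
    rw [hmU] at h1
    have h2 := LocFormS.comp (a₁ * a₂) U.ι β₀ h1
    obtain ⟨t'⟩ := hne' j'
    have hmem : U.ι (gj' j' t') ∈ (U : Set S) := (gj' j' t').2
    rw [hU] at hmem
    obtain ⟨j, t, htt, hj⟩ := hmem
    rw [← hj]
    refine h2.range_eq_of_overlap (hloc j) t' t ?_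
    rw [htt, Scheme.Hom.comp_apply]
  obtain ⟨mbar, hmb1, hmb2, hmb3⟩ :=
    exists_image mU L gj' hcov' M' φ' hloc' hrange' (fg_prod r₁ r₂)
  have hmbcl := isClosedImmersion_image mU L gj' hcov' M' φ' hloc' hrange' mbar hmb3
  obtain ⟨r₃, ⟨ε⟩⟩ := exists_addEquiv_fin_prod r₁ r₂ L
  have hmε := Groth.Agent.Lib.Helper27DiagSub.isMonHom_DSmap (U : Scheme.{u})
    ε.symm.toAddMonoidHom
  have hclε := Groth.Agent.Lib.Helper27DiagSub.isClosedImmersion_DSmap_left (U : Scheme.{u})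
    ε.symm.toAddMonoidHom ε.symm.surjective
  have hεε : Red.DSmap (U : Scheme.{u}) ε.toAddMonoidHom ≫
      Red.DSmap (U : Scheme.{u}) ε.symm.toAddMonoidHom = 𝟙 _ := by
    rw [← DSmap_comp]
    have : ε.toAddMonoidHom.comp ε.symm.toAddMonoidHom = AddMonoidHom.id _ := by
      apply AddMonoidHom.ext
      intro x
      exact ε.apply_symm_apply x
    rw [this, DSmap_id]
  obtain ⟨p, hp⟩ : ∃ p : Red.DS (U : Scheme.{u}) ((Fin r₁ → ℤ) × (Fin r₂ → ℤ)) ⟶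
      Red.DS (U : Scheme.{u}) (Fin r₃ → ℤ),
      p = Red.DSmap (U : Scheme.{u}) L.subtype ≫ Red.DSmap (U : Scheme.{u}) ε.toAddMonoidHom :=
    ⟨_, rfl⟩
  have hpv : p ≫ Red.DSmap (U : Scheme.{u}) ε.symm.toAddMonoidHom ≫ mbar = mU := by
    rw [hp, Category.assoc, ← Category.assoc (Red.DSmap (U : Scheme.{u}) ε.toAddMonoidHom), hεε,
      Category.id_comp, hmb3]
  have hpfs : Flat p.left ∧ Surjective p.left := by
    rw [hp, ← DSmap_comp]
    refine Groth.Agent.Lib.Helper15DSmapProps.flat_surjective_DSmap _ (U : Scheme.{u}) ?_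
    intro x y hxy
    apply ε.injective
    exact Subtype.ext hxy
  refine ⟨r₃, Red.DSmap (U : Scheme.{u}) ε.symm.toAddMonoidHom ≫ mbar, inferInstance, ?_,
    ⟨(Over.pullback U.ι).map ((overIso e₁).hom ≫ Red.DSmap S pfst) ≫
      (β₀.b ((Fin r₁ → ℤ) × (Fin r₂ → ℤ))).hom ≫ p, ?_⟩,
    ⟨(Over.pullback U.ι).map ((overIso e₂).hom ≫ Red.DSmap S psnd) ≫
      (β₀.b ((Fin r₁ → ℤ) × (Fin r₂ → ℤ))).hom ≫ p, ?_⟩,
    Red.DS (U : Scheme.{u}) ((Fin r₁ → ℤ) × (Fin r₂ → ℤ)), p,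
    (β₀.b ((Fin r₁ → ℤ) × (Fin r₂ → ℤ))).inv ≫
      (Over.pullback U.ι).map (Red.DSmap S inl ≫ (overIso e₁).inv),
    (β₀.b ((Fin r₁ → ℤ) × (Fin r₂ → ℤ))).inv ≫
      (Over.pullback U.ι).map (Red.DSmap S inr ≫ (overIso e₂).inv),
    hpfs.1, hpfs.2, quasiCompact_left_of_DS p, ?_⟩
  · rw [Over.comp_left]
    infer_instance
  · rw [Category.assoc, Category.assoc, hpv, hmU, Iso.hom_inv_id_assoc,
      ← CategoryTheory.Functor.map_comp, Category.assoc, k₁]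
  · rw [Category.assoc, Category.assoc, hpv, hmU, Iso.hom_inv_id_assoc,
      ← CategoryTheory.Functor.map_comp, Category.assoc, k₂]
  · rw [hpv, hmU, Functor.map_mul, MonObj.comp_mul, Category.assoc, Category.assoc,
      ← CategoryTheory.Functor.map_comp, ← CategoryTheory.Functor.map_comp, Category.assoc,
      Category.assoc, ← ha₁, ← ha₂]

end Nhd

end Groth.Agent.Lib.Helper15JoinNhd
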