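-- helper15: the functor of characters of a twisted constant group is representable by a group of multiplicative type
import Mathlib
import Groth.Agent.Lib.Helper15CharRepB
import Groth.Agent.Lib.Helper15CharRepC
import Groth.Agent.Lib.Helper15HomRepK
import Groth.Agent.Lib.Helper15JoinNhd
import Groth.Agent.Lib.Helper15LocProjBC
import Groth.Agent.S1398
set_option autoImplicit false
universe u
open CategoryTheory CategoryTheory.Limits AlgebraicGeometry MonoidalCategory
  CartesianMonoidalCategory MonObj GrpObj Opposite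

namespace Groth.Agent.Lib.Helper15CharRep

open Groth.Agent.Lib.Helper15HomRep

/-- a diagonalisable group is ind-quasi-affine over its base. -/
lemma isIndQuasiAffineHom_DS (U : Scheme.{u}) (M : Type) [AddCommGroup M] :
    MoreMor.IsIndQuasiAffineHom (Red.DS U M).hom := by
  have haff := Groth.Agent.Lib.Helper15JoinNhd.isAffineHom_DS U M
  refine (Groth.Agent.S1398.result _).2 ⟨inferInstance, fun V hV => ?_⟩
  have h1 : IsAffineOpen ((Red.DS U M).hom ⁻¹ᵁ V) := hV.preimage _
  have h2 : IsAffine (((Red.DS U M).hom ⁻¹ᵁ V : (Red.DS U M).left.Opens) : Scheme.{u}) := h1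
  infer_instance

section Local

variable {S X : Scheme.{u}} (g : X ⟶ S) (R : Over S) [GrpObj R] (M : Type) [Group M]
  (e : Red.bc g R ≅ TwC.const X M) (he : TwC.IsConstGrp M (Red.bc g R) e)

include he in
/-- over a member of a family on which the group becomes constant, the presheaf of families of
characters is represented by the diagonalisable group on the abelianisation, compatibly with
products. -/
theorem exists_representableBy_dual :
    ∃ rep : ((Over.map g).op ⋙ homPsh R (Red.Gm S)).RepresentableBy (Red.DS X (Mab M)),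
      ∀ (T' : Over X) (a b : T' ⟶ Red.DS X (Mab M)),
        (rep.homEquiv (a * b)).1 = (rep.homEquiv a).1 * (rep.homEquiv b).1 := by
  obtain ⟨β⟩ := Groth.Agent.Lib.Helper15DSbc.nonempty_DS_bc g ℤ
  obtain ⟨υ'', hυ''⟩ := exists_univ_const (Red.bc g R) M e
  obtain ⟨rep, hrep⟩ := exists_representableBy_of_local g R (Red.Gm S) (Red.Gm X)
    (Red.DS X (Mab M)) β υ'' (isHomFamily_univ_const (Red.bc g R) M e he υ'' hυ'')
    (fun T' φ' hφ' => existsUnique_of_isHomFamily_const (Red.bc g R) M e he υ'' hυ'' φ' hφ')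
  exact ⟨rep, rep_mul_of_local g R (Red.Gm S) (Red.Gm X) (Red.DS X (Mab M)) β υ''
    (univ_const_mul (Red.bc g R) M e υ'' hυ'') rep hrep⟩

end Local

section Dual

variable {S : Scheme.{u}} (R : Over S) [GrpObj R]

/-- **the functor of characters of a twisted constant group is representable by a group of
multiplicative type.** -/
theorem exists_dual
    (hR : TwC.Locally S TwC.Topology.fpqc (fun S' f => ∃ (M : Type) (_ : Group M)
      (e : Red.bc f R ≅ TwC.const S' M), TwC.IsConstGrp M (Red.bc f R) e)) :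
    ∃ (D : Over S) (_ : GrpObj D) (υ : R ⊗ D ⟶ Red.Gm S),
      AutFam.RepresentsHom R (Red.Gm S) D υ ∧
      (∀ (X : Over S) (r : X ⟶ R) (a b : X ⟶ D),
        lift r (a * b) ≫ υ = (lift r a ≫ υ) * (lift r b ≫ υ)) ∧
      TwC.Locally S TwC.Topology.fpqc (fun S' f => ∃ (M : Type) (_ : AddCommGroup M),
        Nonempty (Grp.mk (Red.bc f D) ≅ Grp.mk (Red.DS S' M))) := by
  obtain ⟨S', f, hfl, hsu, hqc, hloc⟩ := hR
  choose Uo hU M instM e he using hloc
  have h1 : Presieve.ofArrows (fun _ : PUnit.{u+1} => S') (fun _ => f) ∈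
      Scheme.fpqcPrecoverage S := by
    rw [Presieve.ofArrows_pUnit]
    exact Groth.Agent.Lib.Helper15LocProjBC.singleton_mem_fpqcPrecoverage f hqc
  let 𝒰 : S'.OpenCover :=
    { I₀ := S'
      X := fun s => (Uo s).toScheme
      f := fun s => (Uo s).ι
      mem₀ := by
        rw [Scheme.ofArrows_mem_precoverage_iff]
        exact ⟨fun p => ⟨p, ⟨p, hU p⟩, rfl⟩, fun s => inferInstance⟩ }
  have h2 : Presieve.ofArrows 𝒰.X 𝒰.f ∈ Scheme.fpqcPrecoverage S' :=
    Scheme.zariskiPrecoverage_le_fpqcPrecoverage _ 𝒰.mem₀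
  have hcov := Precoverage.comp_mem_coverings (J := Scheme.fpqcPrecoverage.{u})
    (fun _ : PUnit.{u+1} => f) h1 (fun _ s' => 𝒰.f s') (fun _ => h2)
  obtain ⟨g, hg⟩ : ∃ g : ∀ p : (Σ _ : PUnit.{u+1}, S'), (Uo p.2).toScheme ⟶ S,
      g = fun p : (Σ _ : PUnit.{u+1}, S') => (Uo p.2).ι ≫ f := ⟨_, rfl⟩
  have hcov' : Presieve.ofArrows (fun p : (Σ _ : PUnit.{u+1}, S') => (Uo p.2).toScheme) g ∈
      Scheme.fpqcPrecoverage S := by
    rw [hg]
    exact hcov
  have hloc : ∀ p : (Σ _ : PUnit.{u+1}, S'),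
      ∃ rep : ((Over.map (g p)).op ⋙ homPsh R (Red.Gm S)).RepresentableBy
        (Red.DS (Uo p.2).toScheme (Mab (M p.2))),
      ∀ (T' : Over (Uo p.2).toScheme) (a b : T' ⟶ Red.DS (Uo p.2).toScheme (Mab (M p.2))),
        (rep.homEquiv (a * b)).1 = (rep.homEquiv a).1 * (rep.homEquiv b).1 := by
    intro p
    have hgp : g p = (Uo p.2).ι ≫ f := by rw [hg]
    have key : ∀ (q : (Uo p.2).toScheme ⟶ S) (hq : q = (Uo p.2).ι ≫ f),
        ∃ rep : ((Over.map q).op ⋙ homPsh R (Red.Gm S)).RepresentableBy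
          (Red.DS (Uo p.2).toScheme (Mab (M p.2))),
        ∀ (T' : Over (Uo p.2).toScheme) (a b : T' ⟶ Red.DS (Uo p.2).toScheme (Mab (M p.2))),
          (rep.homEquiv (a * b)).1 = (rep.homEquiv a).1 * (rep.homEquiv b).1 := by
      rintro q rfl
      exact exists_representableBy_dual _ R (M p.2) (e p.2) (he p.2)
    exact key _ hgp
  choose rep hrep using hloc
  obtain ⟨B, ⟨repB⟩, -⟩ := Groth.Agent.Lib.Helper15RepGlue.exists_representableBy
    (P := homPsh R (Red.Gm S)) (g := g)
    (A := fun p => Red.DS (Uo p.2).toScheme (Mab (M p.2)))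
    rep hcov' (fun p => isIndQuasiAffineHom_DS _ _)
    (isSheafFor_homPsh R (Red.Gm S) g hcov')
  obtain ⟨instB, hmulB⟩ := exists_grpObj_of_representableBy B repB
  have key : ∀ (T : Over S) (c : T ⟶ B),
      (repB.homEquiv c).1 = (R ◁ c) ≫ (repB.homEquiv (𝟙 B)).1 := by
    intro T c
    have := repB.homEquiv_comp c (𝟙 B)
    rw [Category.comp_id] at this
    rw [this]
    rfl
  refine ⟨B, instB, (repB.homEquiv (𝟙 B)).1, representsHom_of_representableBy R _ B repB, ?_, ?_⟩
  · intro T h a b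
    have h1 : ∀ c : T ⟶ B, lift h c ≫ (repB.homEquiv (𝟙 B)).1 =
        lift h (𝟙 T) ≫ (repB.homEquiv c).1 := by
      intro c
      rw [key T c, ← Category.assoc, lift_whiskerLeft, Category.id_comp]
    rw [h1, h1, h1, hmulB, MonObj.comp_mul]
  · refine ⟨S', f, hfl, hsu, hqc, fun s' => ⟨Uo s', hU s', Mab (M s'), inferInstance, ?_⟩⟩
    have hgp : g ⟨PUnit.unit, s'⟩ = (Uo s').ι ≫ f := by rw [hg]
    have := nonempty_grpIso_of_rep (g ⟨PUnit.unit, s'⟩) R (Red.Gm S) B repB hmulB
      (Red.DS (Uo s').toScheme (Mab (M s'))) (rep ⟨PUnit.unit, s'⟩) (hrep ⟨PUnit.unit, s'⟩)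
    rw [hgp] at this
    exact this

end Dual

end Groth.Agent.Lib.Helper15CharRep
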