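import Mathlib.Algebra.MvPolynomial.Derivation
import Mathlib.Algebra.MvPolynomial.Expand
import Mathlib.Algebra.MvPolynomial.PDeriv
import Mathlib.RingTheory.MvPolynomial.Basic
import Mathlib.RingTheory.Adjoin.Basic
import Mathlib.Algebra.CharP.Two
import Mathlib.Tactic

/-!
Parity decomposition of polynomials in two variables over a ring of characteristic two, and the
kernel of `a ↦ u², b ↦ v², c ↦ h`.
-/

set_option autoImplicit false
universe u

namespace Groth.Agent.Lib.Helper15.CharTwo

open MvPolynomial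

variable {R : Type u} [CommRing R]

section General

variable {σ : Type*}

/-- Multiplication by a variable is injective. -/
theorem eq_zero_of_mul_X_eq_zero (i : σ) (p : MvPolynomial σ R) (h : p * X i = 0) : p = 0 := by
  ext m
  have := congrArg (coeff (m + Finsupp.single i 1)) h
  rw [coeff_mul_X, coeff_zero] at this
  rw [this, coeff_zero]

variable [CharP R 2]

/-- In characteristic two every derivation kills the image of `expand 2`. -/
theorem derivation_expand_two {M : Type*} [AddCommGroup M] [Module R M]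
    [Module (MvPolynomial σ R) M] [IsScalarTower R (MvPolynomial σ R) M]
    (D : Derivation R (MvPolynomial σ R) M) (A : MvPolynomial σ R) : D (expand 2 A) = 0 := by
  induction A using MvPolynomial.induction_on with
  | C r => rw [expand_C, ← algebraMap_eq, Derivation.map_algebraMap]
  | add p q hp hq => rw [map_add, map_add, hp, hq, add_zero]
  | mul_X p i hp =>
    rw [map_mul, expand_X, Derivation.leibniz, hp, smul_zero, add_zero, Derivation.leibniz_pow]
    have h2 : (2 : ℕ) • (((X i : MvPolynomial σ R) ^ (2 - 1)) • D (X i) : M) = 0 := by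
      rw [two_nsmul, ← add_smul, CharTwo.add_self_eq_zero (X i ^ (2 - 1) : MvPolynomial σ R),
        zero_smul]
    rw [h2, smul_zero]

end General

section TwoVar

variable [CharP R 2]

local notation "S" => MvPolynomial (Fin 2) R

/-- The parity combination. -/
noncomputable def comb (A B C D : S) : S :=
  expand 2 A + expand 2 B * X 0 + expand 2 C * X 1 + expand 2 D * (X 0 * X 1)

theorem derivation_comb (δ : Derivation R S S) (A B C D : S) :
    δ (comb A B C D) = expand 2 B * δ (X 0) + expand 2 C * δ (X 1) +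
      expand 2 D * (X 0 * δ (X 1) + X 1 * δ (X 0)) := by
  unfold comb
  simp only [map_add, Derivation.leibniz, derivation_expand_two, smul_eq_mul]
  ring

theorem comb_eq_zero {A B C D : S} (h : comb A B C D = 0) : A = 0 ∧ B = 0 ∧ C = 0 ∧ D = 0 := by
  have h2 : (2 : ℕ) ≠ 0 := two_ne_zero
  have e0 : ∀ p : S, pderiv (0 : Fin 2) (expand 2 p) = 0 := fun p => derivation_expand_two _ p
  have e1 : ∀ p : S, pderiv (1 : Fin 2) (expand 2 p) = 0 := fun p => derivation_expand_two _ p
  have h01 : (0 : Fin 2) ≠ 1 := by decide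
  have h10 : (1 : Fin 2) ≠ 0 := by decide
  -- derivative in the first variable
  have hu : expand 2 B + expand 2 D * X 1 = 0 := by
    have := congrArg (pderiv (0 : Fin 2)) h
    rw [derivation_comb, pderiv_X_self, pderiv_X_of_ne h10, map_zero] at this
    simpa using this
  have hD : D = 0 := by
    have := congrArg (pderiv (1 : Fin 2)) hu
    rw [map_add, e1, Derivation.leibniz, e1, pderiv_X_self, map_zero] at this
    have h3 : expand 2 D = 0 := by simpa using this
    exact (expand_eq_zero (by norm_num)).mp h3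
  have hB : B = 0 := by
    rw [hD, map_zero, zero_mul, add_zero] at hu
    exact (expand_eq_zero (by norm_num)).mp hu
  have hv : expand 2 C + expand 2 D * X 0 = 0 := by
    have := congrArg (pderiv (1 : Fin 2)) h
    rw [derivation_comb, pderiv_X_self, pderiv_X_of_ne h01, map_zero] at this
    simpa using this
  have hC : C = 0 := by
    rw [hD, map_zero, zero_mul, add_zero] at hv
    exact (expand_eq_zero (by norm_num)).mp hv
  have hA : A = 0 := by
    unfold comb at h
    rw [hB, hC, hD] at h
    simp only [map_zero, zero_mul, add_zero] at h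
    exact (expand_eq_zero (by norm_num)).mp h
  exact ⟨hA, hB, hC, hD⟩

theorem exists_comb (p : S) : ∃ A B C D : S, p = comb A B C D := by
  induction p using MvPolynomial.induction_on with
  | C r => exact ⟨C r, 0, 0, 0, by simp [comb]⟩
  | add p q hp hq =>
    obtain ⟨A, B, C, D, rfl⟩ := hp
    obtain ⟨A', B', C', D', rfl⟩ := hq
    refine ⟨A + A', B + B', C + C', D + D', ?_⟩
    simp only [comb, map_add]; ring
  | mul_X p i hp =>
    obtain ⟨A, B, C, D, rfl⟩ := hp
    fin_cases i
    · refine ⟨B * X 0, A, D * X 0, C, ?_⟩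
      simp only [comb, map_mul, expand_X, Fin.zero_eta]; ring
    · refine ⟨C * X 1, D * X 1, A, B, ?_⟩
      simp only [comb, map_mul, expand_X, Fin.mk_one]; ring

end TwoVar

section Cusp

local notation "S" => MvPolynomial (Fin 2) R

theorem exists_cusp_form {a : S}
    (ha : a ∈ Algebra.adjoin R ({X 0 ^ 2, X 0 ^ 3, X 1 ^ 2, X 1 ^ 3} : Set S)) :
    ∃ A B C D : S, a = expand 2 A + expand 2 B * X 0 ^ 3 + expand 2 C * X 1 ^ 3 +
      expand 2 D * (X 0 ^ 3 * X 1 ^ 3) := by
  induction ha using Algebra.adjoin_induction with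
  | mem x hx =>
    rcases hx with rfl | rfl | rfl | rfl
    · exact ⟨X 0, 0, 0, 0, by simp⟩
    · exact ⟨0, 1, 0, 0, by simp⟩
    · exact ⟨X 1, 0, 0, 0, by simp⟩
    · exact ⟨0, 0, 1, 0, by simp⟩
  | algebraMap r => exact ⟨C r, 0, 0, 0, by simp [algebraMap_eq, expand_C]⟩
  | add x y _ _ hx hy =>
    obtain ⟨A, B, C, D, rfl⟩ := hx
    obtain ⟨A', B', C', D', rfl⟩ := hy
    refine ⟨A + A', B + B', C + C', D + D', ?_⟩
    simp only [map_add]; ring
  | mul x y _ _ hx hy =>
    obtain ⟨A, B, C, D, rfl⟩ := hx
    obtain ⟨A', B', C', D', rfl⟩ := hy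
    refine ⟨A * A' + B * B' * X 0 ^ 3 + C * C' * X 1 ^ 3 + D * D' * (X 0 ^ 3 * X 1 ^ 3),
      A * B' + B * A' + (C * D' + D * C') * X 1 ^ 3,
      A * C' + C * A' + (B * D' + D * B') * X 0 ^ 3,
      A * D' + D * A' + B * C' + C * B', ?_⟩
    simp only [map_add, map_mul, map_pow, expand_X]; ring

theorem expand_two_mem_adjoin (s : Set S) (h0 : (X 0 ^ 2 : S) ∈ Algebra.adjoin R s)
    (h1 : (X 1 ^ 2 : S) ∈ Algebra.adjoin R s) (A : S) : expand 2 A ∈ Algebra.adjoin R s := by
  induction A using MvPolynomial.induction_on with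
  | C r => rw [expand_C, ← algebraMap_eq]; exact Subalgebra.algebraMap_mem _ r
  | add p q hp hq => rw [map_add]; exact Subalgebra.add_mem _ hp hq
  | mul_X p i hp =>
    rw [map_mul, expand_X]
    refine Subalgebra.mul_mem _ hp ?_
    fin_cases i
    · exact h0
    · exact h1

end Cusp

section DerivKer

variable {σ τ : Type*}

theorem derivation_aeval_eq_zero (δ : Derivation R (MvPolynomial σ R) (MvPolynomial σ R))
    (f : τ → MvPolynomial σ R) (hf : ∀ i, δ (f i) = 0) (q : MvPolynomial τ R) :
    δ (aeval f q) = 0 := by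
  induction q using MvPolynomial.induction_on with
  | C r => rw [aeval_C, Derivation.map_algebraMap]
  | add p q hp hq => rw [map_add, map_add, hp, hq, add_zero]
  | mul_X p i hp => rw [map_mul, aeval_X, Derivation.leibniz, hp, hf i, smul_zero, smul_zero,
      add_zero]

theorem derivation_eq_zero_of_mem_adjoin (δ : Derivation R (MvPolynomial σ R) (MvPolynomial σ R))
    (s : Set (MvPolynomial σ R)) (hs : ∀ x ∈ s, δ x = 0) {a : MvPolynomial σ R}
    (ha : a ∈ Algebra.adjoin R s) : δ a = 0 := by
  induction ha using Algebra.adjoin_induction with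
  | mem x hx => exact hs x hx
  | algebraMap r => exact Derivation.map_algebraMap _ _
  | add x y _ _ hx hy => rw [map_add, hx, hy, add_zero]
  | mul x y _ _ hx hy => rw [Derivation.leibniz, hx, hy, smul_zero, smul_zero, add_zero]

end DerivKer

section Kernel

local notation "S" => MvPolynomial (Fin 2) R
local notation "T" => MvPolynomial (Fin 3) R

/-- The inclusion of the polynomial ring in the first two variables. -/
noncomputable def ren : S →ₐ[R] T := rename (Fin.castSucc : Fin 2 → Fin 3)

@[simp] theorem ren_X0 : ren (X 0 : S) = (X 0 : T) := by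
  simp [ren]

@[simp] theorem ren_X1 : ren (X 1 : S) = (X 1 : T) := by
  simp [ren]

@[simp] theorem ren_C (r : R) : ren (C r : S) = (C r : T) := by
  simp [ren]

theorem exists_reduce (G : S) (q : T) :
    ∃ P0 P1 : S, q - (ren P0 + ren P1 * X 2) ∈ Ideal.span {(X 2 ^ 2 + ren G : T)} := by
  induction q using MvPolynomial.induction_on with
  | C r => exact ⟨C r, 0, by simp⟩
  | add p q hp hq =>
    obtain ⟨P0, P1, h⟩ := hp
    obtain ⟨P0', P1', h'⟩ := hq
    refine ⟨P0 + P0', P1 + P1', ?_⟩
    have := Ideal.add_mem _ h h'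
    convert this using 1
    simp only [map_add]; ring
  | mul_X q i hq =>
    obtain ⟨P0, P1, h⟩ := hq
    have hF : (X 2 ^ 2 + ren G : T) ∈ Ideal.span {(X 2 ^ 2 + ren G : T)} :=
      Ideal.subset_span rfl
    fin_cases i
    · refine ⟨P0 * X 0, P1 * X 0, ?_⟩
      have := Ideal.mul_mem_right (X 0 : T) _ h
      convert this using 1
      simp only [map_mul, ren_X0, Fin.zero_eta]; ring
    · refine ⟨P0 * X 1, P1 * X 1, ?_⟩
      have := Ideal.mul_mem_right (X 1 : T) _ h
      convert this using 1
      simp only [map_mul, ren_X1, Fin.mk_one]; ring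
    · refine ⟨-(P1 * G), P0, ?_⟩
      have := Ideal.add_mem _ (Ideal.mul_mem_right (X 2 : T) _ h)
        (Ideal.mul_mem_left _ (ren P1) hF)
      convert this using 1
      simp only [map_mul, map_neg]
      change q * X 2 - (-(ren P1 * ren G) + ren P0 * X 2) = _
      ring

variable [CharP R 2]

theorem aeval_ren (h : S) (P : S) :
    aeval (R := R) (S₁ := S) ![X 0 ^ 2, X 1 ^ 2, h] (ren P) = expand 2 P := by
  unfold ren
  rw [aeval_rename]
  have : (![X 0 ^ 2, X 1 ^ 2, h] ∘ (Fin.castSucc : Fin 2 → Fin 3) : Fin 2 → S) =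
      fun i => X i ^ 2 := by
    funext i
    fin_cases i <;> rfl
  rw [this]
  rfl

/-- The kernel of `a ↦ u², b ↦ v², c ↦ h` is generated by `c² + G` if `h² = G(u², v²)` and the
`uv`-component of `h` is a non-zero-divisor. -/
theorem ker_eq_span (h H0 H1 H2 G : S) (hh : h = comb 0 H0 H1 H2)
    (hreg : ∀ P : S, P * H2 = 0 → P = 0) (hG : expand 2 G = h ^ 2) :
    RingHom.ker (aeval (R := R) (S₁ := S) ![X 0 ^ 2, X 1 ^ 2, h]) =
      Ideal.span {(X 2 ^ 2 + ren G : T)} := by
  have hFker : (X 2 ^ 2 + ren G : T) ∈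
      RingHom.ker (aeval (R := R) (S₁ := S) ![X 0 ^ 2, X 1 ^ 2, h]) := by
    rw [RingHom.mem_ker, map_add, map_pow, aeval_X, aeval_ren, hG]
    change h ^ 2 + h ^ 2 = 0
    exact CharTwo.add_self_eq_zero _
  apply le_antisymm
  · intro q hq
    rw [RingHom.mem_ker] at hq
    obtain ⟨P0, P1, hP⟩ := exists_reduce G q
    have hP' := (Ideal.span_le.mpr (Set.singleton_subset_iff.mpr hFker)) hP
    rw [RingHom.mem_ker, map_sub, hq, zero_sub, neg_eq_zero, map_add, map_mul, aeval_ren,
      aeval_ren, aeval_X] at hP'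
    change expand 2 P0 + expand 2 P1 * h = 0 at hP'
    have h1 : comb P0 (P1 * H0) (P1 * H1) (P1 * H2) = 0 := by
      rw [← hP', hh]
      simp only [comb, map_mul, map_zero]; ring
    obtain ⟨h0, -, -, h3⟩ := comb_eq_zero h1
    have hP1 : P1 = 0 := hreg P1 h3
    rw [h0, hP1] at hP
    simpa using hP
  · exact Ideal.span_le.mpr (Set.singleton_subset_iff.mpr hFker)

end Kernel

end Groth.Agent.Lib.Helper15.CharTwo
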