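-- helper15: gluing descent data for schemes along charts when descent is only known for the opens of the charts, part 1: the locally directed diagram.
import Mathlib
import Groth.Prelude.Def_Desc
import Groth.Agent.Lib.Helper15DescGlueA

set_option autoImplicit false
set_option linter.unusedSectionVars false
open CategoryTheory CategoryTheory.Limits AlgebraicGeometry

universe u

namespace Groth.Agent.Lib.Helper15ChartCovB

open Desc Groth.Agent.Lib.Helper15DescGlueA

/-- a morphism along which morphisms between the opens of a given family of schemes over the base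
descend, as well as open subsets and the property of being an open immersion. -/
class ChartCover {X S : Scheme.{u}} (p : X ⟶ S) {K : Type u} (Uo : K → Over S) : Prop where
  full : ∀ (k k' : K) (W : (Uo k).left.Opens) (W' : (Uo k').left.Opens)
    (F : (Desc.toDD p).obj (Over.mk (W.ι ≫ (Uo k).hom)) ⟶
      (Desc.toDD p).obj (Over.mk (W'.ι ≫ (Uo k').hom))), ∃ f, (Desc.toDD p).map f = F
  faithful : ∀ (k k' : K) (W : (Uo k).left.Opens) (W' : (Uo k').left.Opens)
    (f f' : Over.mk (W.ι ≫ (Uo k).hom) ⟶ Over.mk (W'.ι ≫ (Uo k').hom)),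
    (Desc.toDD p).map f = (Desc.toDD p).map f' → f = f'
  quot : ∀ U : Over S, Topology.IsQuotientMap (pullback.snd p U.hom).base
  openImm : ∀ (k k' : K) (W : (Uo k).left.Opens) (W' : (Uo k').left.Opens)
    (f : Over.mk (W.ι ≫ (Uo k).hom) ⟶ Over.mk (W'.ι ≫ (Uo k').hom)),
    IsOpenImmersion ((Desc.toDD p).map f).hom.left → IsOpenImmersion f.left

section Descend

variable {X S : Scheme.{u}} {p : X ⟶ S}
  {D : Desc.SchDD p} {U : Over S} (c : (Desc.toDD p).obj U ⟶ D)

/-- points of the canonical descent datum with the same image in the base scheme are exchanged by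
the descent datum, so that a stable open contains both or none. -/
lemma mem_of_snd_eq {W : D.obj.left.Opens} (hW : Stable D W) (z z' : ↥(pullback p U.hom))
    (hz : c.hom.left.base z ∈ W)
    (h : (pullback.snd p U.hom).base z = (pullback.snd p U.hom).base z') :
    c.hom.left.base z' ∈ W := by
  obtain ⟨t, ht₁, ht₂⟩ := Scheme.Pullback.exists_preimage_pullback
    (f := pullback.snd p U.hom) (g := pullback.snd p U.hom) z z' h
  obtain ⟨pr₁, hpr₁⟩ : ∃ pr₁ : pullback (pullback.snd p U.hom) (pullback.snd p U.hom) ⟶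
      pullback p U.hom, pr₁ = pullback.fst _ _ := ⟨_, rfl⟩
  obtain ⟨pr₂, hpr₂⟩ : ∃ pr₂ : pullback (pullback.snd p U.hom) (pullback.snd p U.hom) ⟶
      pullback p U.hom, pr₂ = pullback.snd _ _ := ⟨_, rfl⟩
  have hcond : pr₁ ≫ pullback.snd p U.hom = pr₂ ≫ pullback.snd p U.hom := by
    rw [hpr₁, hpr₂]; exact pullback.condition
  rw [← hpr₁] at ht₁
  rw [← hpr₂] at ht₂
  obtain ⟨T', hT'⟩ : ∃ T' : (pullback (pullback.snd p U.hom) (pullback.snd p U.hom)).Opens,
      T' = (pr₁ ≫ c.hom.left) ⁻¹ᵁ W := ⟨_, rfl⟩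
  have htT' : t ∈ T' := by
    rw [hT']
    change (pr₁ ≫ c.hom.left).base t ∈ W
    rw [Scheme.Hom.comp_base, TopCat.comp_app, ht₁]
    exact hz
  have hmem : ∀ t' : ↥(T' : Scheme.{u}), ((T'.ι ≫ pr₁) ≫ c.hom.left).base t' ∈ W := by
    subst hT'
    intro t'
    exact t'.2
  obtain ⟨x₀, hx₀⟩ : ∃ x₀ : (T' : Scheme.{u}) ⟶ X, x₀ = T'.ι ≫ pr₁ ≫ pullback.fst p U.hom :=
    ⟨_, rfl⟩
  obtain ⟨x₁, hx₁⟩ : ∃ x₁ : (T' : Scheme.{u}) ⟶ X, x₁ = T'.ι ≫ pr₂ ≫ pullback.fst p U.hom :=
    ⟨_, rfl⟩
  have hx : x₀ ≫ p = x₁ ≫ p := by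
    rw [hx₀, hx₁]
    simp only [Category.assoc]
    rw [pullback.condition, ← Category.assoc pr₁, hcond, Category.assoc, ← pullback.condition]
  have hv₀ : (T'.ι ≫ pr₁) ≫ ((Desc.toDD p).obj U).obj.hom = x₀ := by
    rw [hx₀, Category.assoc]; rfl
  obtain ⟨v₀, hv₀d⟩ : ∃ v₀ : Lifts ((Desc.toDD p).obj U).obj x₀, v₀ = ⟨T'.ι ≫ pr₁, hv₀⟩ :=
    ⟨_, rfl⟩
  have hv₀1 : v₀.1 = T'.ι ≫ pr₁ := congrArg Subtype.val hv₀d
  have hcomm := c.comm x₀ x₁ hx v₀ (c.push v₀) rfl
  have hcan : (((Desc.toDD p).obj U).φ x₀ x₁ hx v₀).1 = T'.ι ≫ pr₂ := by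
    change (canMap p U x₀ x₁ hx v₀).1 = _
    rw [canMap_val]
    apply pullback.hom_ext
    · rw [pullback.lift_fst, hx₁, Category.assoc]
    · rw [pullback.lift_snd, hv₀1, Category.assoc, Category.assoc, hcond]
  rw [hcan] at hcomm
  have hrange : Set.range (c.push v₀).1.base ⊆ (W : Set D.obj.left) := by
    rintro _ ⟨t', rfl⟩
    change (v₀.1 ≫ c.hom.left).base t' ∈ W
    rw [hv₀1]
    exact hmem t'
  have hst := hW x₀ x₁ hx (c.push v₀) hrange
  rw [hcomm] at hst
  rw [← ht₂]
  exact hst ⟨⟨t, htT'⟩, rfl⟩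

/-- a stable open of the scheme of a descent datum descends to an open of a chart. -/
lemma exists_opens_of_stable (hq : Topology.IsQuotientMap (pullback.snd p U.hom).base)
    {W : D.obj.left.Opens} (hW : Stable D W) :
    ∃ Ω : U.left.Opens, (pullback.snd p U.hom) ⁻¹ᵁ Ω = c.hom.left ⁻¹ᵁ W := by
  have hsat : (pullback.snd p U.hom).base ⁻¹' ((pullback.snd p U.hom).base ''
      ((c.hom.left ⁻¹ᵁ W : (pullback p U.hom).Opens) : Set ↥(pullback p U.hom))) =
      ((c.hom.left ⁻¹ᵁ W : (pullback p U.hom).Opens) : Set ↥(pullback p U.hom)) := by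
    ext z
    constructor
    · rintro ⟨z₀, hz₀, hz₀z⟩
      exact mem_of_snd_eq c hW z₀ z hz₀ hz₀z
    · intro hz
      exact ⟨z, hz, rfl⟩
  have hopen : IsOpen ((pullback.snd p U.hom).base ''
      ((c.hom.left ⁻¹ᵁ W : (pullback p U.hom).Opens) : Set ↥(pullback p U.hom))) := by
    rw [← hq.isOpen_preimage, hsat]
    exact (c.hom.left ⁻¹ᵁ W).2
  refine ⟨⟨_, hopen⟩, ?_⟩
  apply TopologicalSpace.Opens.ext
  exact hsat

end Descend

section Glue

variable {X S : Scheme.{u}} {p : X ⟶ S}
  {D : Desc.SchDD p} {K : Type u} {Uo : K → Over S} [ChartCover p Uo]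
  (c : ∀ k, (Desc.toDD p).obj (Uo k) ⟶ D)

/-- the index type: a chart together with an open of it. -/
def Idx (_ : ∀ k, (Desc.toDD p).obj (Uo k) ⟶ D) : Type u := Σ k : K, (Uo k).left.Opens

/-- the open of the chart as a scheme over the base. -/
noncomputable def A (a : Idx c) : Over S := Over.mk (a.2.ι ≫ (Uo a.1).hom)

/-- the inclusion into the chart. -/
noncomputable def incl (a : Idx c) : A c a ⟶ Uo a.1 := Over.homMk a.2.ι rfl

/-- the associated morphism of descent data. -/
noncomputable def ca (a : Idx c) : (Desc.toDD p).obj (A c a) ⟶ D :=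
  (Desc.toDD p).map (incl c a) ≫ c a.1

omit [ChartCover p Uo] in
lemma ca_left (a : Idx c) :
    (ca c a).hom.left = ((Desc.toDD p).map (incl c a)).hom.left ≫ (c a.1).hom.left := rfl

variable [hc : ∀ k, IsOpenImmersion (c k).hom.left]

instance isOpenImmersion_incl (a : Idx c) : IsOpenImmersion (incl c a).left := by
  change IsOpenImmersion a.2.ι
  infer_instance

instance isOpenImmersion_ca (a : Idx c) : IsOpenImmersion (ca c a).hom.left := by
  rw [ca_left]
  have := isOpenImmersion_toDD_map (p := p) (incl c a)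
  infer_instance

/-- the stable open of the scheme of the descent datum attached to an index. -/
noncomputable def R (a : Idx c) : D.obj.left.Opens := (ca c a).hom.left.opensRange

lemma stable_R (a : Idx c) : Stable D (R c a) := stable_opensRange (ca c a)

noncomputable instance : Preorder (Idx c) := Preorder.lift (R c)

lemma le_iff (a b : Idx c) : a ≤ b ↔ R c a ≤ R c b := Iff.rfl

lemma exists_trans {a b : Idx c} (h : a ≤ b) :
    ∃ g : A c a ⟶ A c b, (Desc.toDD p).map g ≫ ca c b = ca c a := by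
  have hr : Set.range (ca c a).hom.left.base ⊆ Set.range (ca c b).hom.left.base := by
    intro v hv
    exact (le_iff c a b).1 h hv
  obtain ⟨Φ, -, hΦ⟩ := exists_lift_dd (ca c a) (ca c b)
    (IsOpenImmersion.lift (ca c b).hom.left (ca c a).hom.left hr)
    (IsOpenImmersion.lift_fac _ _ _)
  obtain ⟨g, hg⟩ : ∃ g : A c a ⟶ A c b, (Desc.toDD p).map g = Φ :=
    ChartCover.full (p := p) (Uo := Uo) a.1 b.1 a.2 b.2 Φ
  exact ⟨g, by rw [hg, hΦ]⟩

lemma trans_unique {a b : Idx c} (g g' : A c a ⟶ A c b)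
    (h : (Desc.toDD p).map g ≫ ca c b = (Desc.toDD p).map g' ≫ ca c b) : g = g' := by
  have hf : ∀ f f' : A c a ⟶ A c b, (Desc.toDD p).map f = (Desc.toDD p).map f' → f = f' :=
    ChartCover.faithful (p := p) (Uo := Uo) a.1 b.1 a.2 b.2
  apply hf
  apply SchDD.hom_ext
  apply Over.OverMorphism.ext
  rw [← cancel_mono (ca c b).hom.left]
  have := congrArg (fun Φ => Φ.hom.left) h
  exact this

/-- the transition morphisms. -/
noncomputable def tAB {a b : Idx c} (h : a ≤ b) : A c a ⟶ A c b := (exists_trans c h).choose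

lemma tAB_spec {a b : Idx c} (h : a ≤ b) : (Desc.toDD p).map (tAB c h) ≫ ca c b = ca c a :=
  (exists_trans c h).choose_spec

/-- the diagram of opens of charts. -/
noncomputable def F' : Idx c ⥤ Over S where
  obj := A c
  map f := tAB c (leOfHom f)
  map_id a := by
    apply trans_unique c
    rw [tAB_spec, CategoryTheory.Functor.map_id, Category.id_comp]
  map_comp f g := by
    apply trans_unique c
    rw [tAB_spec, CategoryTheory.Functor.map_comp, Category.assoc, tAB_spec, tAB_spec]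

lemma F'_spec {a b : Idx c} (f : a ⟶ b) : (Desc.toDD p).map ((F' c).map f) ≫ ca c b = ca c a :=
  tAB_spec c (leOfHom f)

lemma F'_spec_left {a b : Idx c} (f : a ⟶ b) :
    ((Desc.toDD p).map ((F' c).map f)).hom.left ≫ (ca c b).hom.left = (ca c a).hom.left :=
  congrArg (fun Φ => Φ.hom.left) (F'_spec c f)

instance isOpenImmersion_F'_map {a b : Idx c} (f : a ⟶ b) :
    IsOpenImmersion ((F' c).map f).left := by
  have h0 : IsOpenImmersion (ca c a).hom.left := inferInstance
  have h0' : IsOpenImmersion (ca c b).hom.left := inferInstance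
  have h1 : IsOpenImmersion ((Desc.toDD p).map ((F' c).map f)).hom.left := by
    have : IsOpenImmersion (((Desc.toDD p).map ((F' c).map f)).hom.left ≫ (ca c b).hom.left) := by
      rw [F'_spec_left]; exact h0
    exact @IsOpenImmersion.of_comp _ _ _ _ _ h0' this
  exact ChartCover.openImm (p := p) (Uo := Uo) a.1 b.1 a.2 b.2 ((F' c).map f) h1

/-- the schemes covering the scheme of the descent datum. -/
noncomputable abbrev P' (a : Idx c) : Scheme.{u} := pullback p (A c a).hom

/-- the quotient morphisms. -/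
noncomputable def sndA (a : Idx c) : P' c a ⟶ (A c a).left := pullback.snd p (A c a).hom

/-- the open immersions into the scheme of the descent datum. -/
noncomputable def wf (a : Idx c) : P' c a ⟶ D.obj.left := (ca c a).hom.left

/-- the transition morphisms upstairs. -/
noncomputable def Pmap {a b : Idx c} (f : a ⟶ b) : P' c a ⟶ P' c b :=
  ((Desc.toDD p).map ((F' c).map f)).hom.left

instance (a : Idx c) : Surjective (sndA c a) :=
  ⟨(ChartCover.quot (p := p) (Uo := Uo) (A c a)).surjective⟩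
instance (a : Idx c) : IsOpenImmersion (wf c a) := isOpenImmersion_ca c a

lemma Pmap_wf {a b : Idx c} (f : a ⟶ b) : Pmap c f ≫ wf c b = wf c a := F'_spec_left c f

lemma Pmap_snd {a b : Idx c} (f : a ⟶ b) :
    Pmap c f ≫ sndA c b = sndA c a ≫ ((F' c).map f).left := toDD_map_snd _

lemma isPullback_Pmap {a b : Idx c} (f : a ⟶ b) :
    IsPullback (Pmap c f) (sndA c a) (sndA c b) ((F' c).map f).left := isPullback_toDD_map _

instance {a b : Idx c} (f : a ⟶ b) : IsOpenImmersion (Pmap c f) := by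
  have : IsOpenImmersion (Pmap c f ≫ wf c b) := by rw [Pmap_wf]; infer_instance
  exact IsOpenImmersion.of_comp _ (wf c b)

lemma Pmap_id (a : Idx c) : Pmap c (𝟙 a) = 𝟙 _ := by
  unfold Pmap
  rw [CategoryTheory.Functor.map_id, CategoryTheory.Functor.map_id]
  rfl

lemma Pmap_comp {a b d : Idx c} (f : a ⟶ b) (g : b ⟶ d) :
    Pmap c (f ≫ g) = Pmap c f ≫ Pmap c g := by
  unfold Pmap
  rw [CategoryTheory.Functor.map_comp, CategoryTheory.Functor.map_comp]
  rfl

lemma range_wf (a : Idx c) : Set.range (wf c a).base = (R c a : Set D.obj.left) := rfl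

/-- binary meets of indices. -/
lemma exists_meet (a b : Idx c) : ∃ m : Idx c, R c m = R c a ⊓ R c b := by
  have hW : Stable D (R c a ⊓ R c b) := stable_inf (stable_R c a) (stable_R c b)
  obtain ⟨Ω, hΩ⟩ := exists_opens_of_stable (c a.1)
    (ChartCover.quot (p := p) (Uo := Uo) (Uo a.1)) hW
  refine ⟨⟨a.1, Ω⟩, ?_⟩
  obtain ⟨m, hm⟩ : ∃ m : Idx c, m = ⟨a.1, Ω⟩ := ⟨_, rfl⟩
  rw [← hm]
  have hm1 : m.1 = a.1 := by rw [hm]
  apply le_antisymm
  · rintro v ⟨y, rfl⟩
    rw [ca_left, Scheme.Hom.comp_base, TopCat.comp_app]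
    subst hm
    have : ((Desc.toDD p).map (incl c ⟨a.1, Ω⟩)).hom.left.base y ∈
        ((pullback.snd p (Uo a.1).hom) ⁻¹ᵁ Ω : (pullback p (Uo a.1).hom).Opens) := by
      change (((Desc.toDD p).map (incl c ⟨a.1, Ω⟩)).hom.left ≫
        pullback.snd p (Uo a.1).hom).base y ∈ Ω
      rw [toDD_map_snd]
      exact ((pullback.snd p (A c ⟨a.1, Ω⟩).hom).base y).2
    rw [hΩ] at this
    exact this
  · intro v hv
    subst hm
    have hva : v ∈ R c a := hv.1
    obtain ⟨y₀, hy₀⟩ := hva
    change (ca c a).hom.left.base y₀ = v at hy₀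
    rw [ca_left, Scheme.Hom.comp_base, TopCat.comp_app] at hy₀
    obtain ⟨z, hz⟩ : ∃ z : ↥(pullback p (Uo a.1).hom), (c a.1).hom.left.base z = v := ⟨_, hy₀⟩
    have hzW : z ∈ ((pullback.snd p (Uo a.1).hom) ⁻¹ᵁ Ω : (pullback p (Uo a.1).hom).Opens) := by
      rw [hΩ]
      change (c a.1).hom.left.base z ∈ R c a ⊓ R c b
      rw [hz]; exact hv
    obtain ⟨y, hy, -⟩ := Scheme.exists_preimage_of_isPullback
      (isPullback_toDD_map (p := p) (incl c ⟨a.1, Ω⟩)) z ⟨_, hzW⟩ rfl
    refine ⟨y, ?_⟩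
    rw [ca_left, Scheme.Hom.comp_base, TopCat.comp_app, hy, hz]

/-- the whole chart as an index. -/
def top (k : K) : Idx c := ⟨k, ⊤⟩

lemma range_c_subset (k : K) :
    Set.range (c k).hom.left.base ⊆ (R c (top c k) : Set D.obj.left) := by
  rintro _ ⟨z, rfl⟩
  obtain ⟨y, hy, -⟩ := Scheme.exists_preimage_of_isPullback
    (isPullback_toDD_map (p := p) (incl c (top c k))) z
    ⟨(pullback.snd p (Uo k).hom).base z, trivial⟩ rfl
  refine ⟨y, ?_⟩
  rw [ca_left, Scheme.Hom.comp_base, TopCat.comp_app, hy]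
  rfl

variable (hcov : ∀ v : D.obj.left, ∃ k, v ∈ Set.range (c k).hom.left.base)

/-- the open cover of the scheme of the descent datum by the opens of the charts. -/
noncomputable abbrev cover : D.obj.left.OpenCover where
  I₀ := Idx c
  X := P' c
  f := wf c
  mem₀ := by
    rw [Scheme.presieve₀_mem_precoverage_iff]
    refine ⟨fun v => ?_, fun a => inferInstance⟩
    obtain ⟨k, hk⟩ := hcov v
    exact ⟨top c k, range_c_subset c k hk⟩

noncomputable instance : (cover c hcov).LocallyDirected where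
  trans f := Pmap c f
  trans_id a := Pmap_id c a
  trans_comp f g := Pmap_comp c f g
  w f := Pmap_wf c f
  directed {i j} x := by
    obtain ⟨v, hv⟩ : ∃ v : D.obj.left, v = (pullback.fst (wf c i) (wf c j) ≫ wf c i).base x :=
      ⟨_, rfl⟩
    have hvi : v ∈ R c i := by
      rw [hv, Scheme.Hom.comp_base, TopCat.comp_app]
      exact ⟨_, rfl⟩
    have hvj : v ∈ R c j := by
      rw [hv, pullback.condition, Scheme.Hom.comp_base, TopCat.comp_app]
      exact ⟨_, rfl⟩
    obtain ⟨m, hm⟩ := exists_meet c i j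
    have hmi : m ≤ i := (le_iff c m i).2 (hm ▸ inf_le_left)
    have hmj : m ≤ j := (le_iff c m j).2 (hm ▸ inf_le_right)
    have hvm : v ∈ R c m := by rw [hm]; exact ⟨hvi, hvj⟩
    obtain ⟨y, hy⟩ := hvm
    refine ⟨m, homOfLE hmi, homOfLE hmj, y, ?_⟩
    have : IsOpenImmersion (pullback.fst (wf c i) (wf c j) ≫ wf c i) := inferInstance
    apply (pullback.fst (wf c i) (wf c j) ≫ wf c i).isOpenEmbedding.injective
    rw [← hv, ← Scheme.Hom.comp_apply, pullback.lift_fst_assoc, Pmap_wf]
    exact hy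
  property_trans f := inferInstance

omit hcov in
lemma wf_injective (a : Idx c) : Function.Injective (wf c a).base :=
  (wf c a).isOpenEmbedding.injective

/-- the diagram of schemes to be glued. -/
noncomputable abbrev F : Idx c ⥤ Scheme.{u} := F' c ⋙ Over.forget S

instance isOpenImmersion_F_map {a b : Idx c} (f : a ⟶ b) : IsOpenImmersion ((F c).map f) :=
  isOpenImmersion_F'_map c f

omit hcov in
lemma Pmap_snd_apply {a b : Idx c} (f : a ⟶ b) (z : ↥(P' c a)) :
    (sndA c b).base ((Pmap c f).base z) = ((F' c).map f).left.base ((sndA c a).base z) :=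
  congrArg (fun g => g.base z) (Pmap_snd c f)

omit hcov in
lemma Pmap_wf_apply {a b : Idx c} (f : a ⟶ b) (z : ↥(P' c a)) :
    (wf c b).base ((Pmap c f).base z) = (wf c a).base z :=
  congrArg (fun g => g.base z) (Pmap_wf c f)

omit hcov in
lemma Pmap_apply_eq {a b : Idx c} (f : a ⟶ b) (y : ↥(P' c a)) (z : ↥(P' c b))
    (h : (wf c a).base y = (wf c b).base z) : (Pmap c f).base y = z := by
  apply wf_injective c b
  rw [← h, Pmap_wf_apply]

omit hcov in
lemma exists_common {i j : Idx c} (zi : ↥(P' c i)) (zj : ↥(P' c j))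
    (h : (wf c i).base zi = (wf c j).base zj) :
    ∃ (m : Idx c) (fi : m ⟶ i) (fj : m ⟶ j) (y : ↥(P' c m)),
      (Pmap c fi).base y = zi ∧ (Pmap c fj).base y = zj := by
  obtain ⟨m, hm⟩ := exists_meet c i j
  have hmi : m ≤ i := (le_iff c m i).2 (hm ▸ inf_le_left)
  have hmj : m ≤ j := (le_iff c m j).2 (hm ▸ inf_le_right)
  have hvm : (wf c i).base zi ∈ R c m := by
    rw [hm]
    exact ⟨⟨_, rfl⟩, ⟨zj, h.symm⟩⟩
  obtain ⟨y, hy⟩ := hvm
  exact ⟨m, homOfLE hmi, homOfLE hmj, y, Pmap_apply_eq c _ y zi hy,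
    Pmap_apply_eq c _ y zj (hy.trans h)⟩

instance isLocallyDirected_F : ((F c) ⋙ Scheme.forget).IsLocallyDirected where
  cond {i j k} fi fj xi xj h := by
    change ((F' c).map fi).left.base xi = ((F' c).map fj).left.base xj at h
    obtain ⟨zi, hzi⟩ := (sndA c i).surjective xi
    have h1 : (sndA c k).base ((Pmap c fi).base zi) = ((F' c).map fj).left.base xj := by
      rw [← h, ← hzi, Pmap_snd_apply]
    obtain ⟨zj, hzj, hzj'⟩ := Scheme.exists_preimage_of_isPullback (isPullback_Pmap c fj)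
      ((Pmap c fi).base zi) xj h1
    have h2 : (wf c i).base zi = (wf c j).base zj := by
      rw [← Pmap_wf_apply c fi, ← Pmap_wf_apply c fj, hzj]
    obtain ⟨m, fli, flj, y, hyi, hyj⟩ := exists_common c zi zj h2
    refine ⟨m, fli, flj, (sndA c m).base y, ?_, ?_⟩
    · change ((F' c).map fli).left.base ((sndA c m).base y) = xi
      rw [← Pmap_snd_apply, hyi, hzi]
    · change ((F' c).map flj).left.base ((sndA c m).base y) = xj
      rw [← Pmap_snd_apply, hyj, hzj']

end Glue

end Groth.Agent.Lib.Helper15ChartCovB
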