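import Mathlib
import Groth.Agent.Lib.Helper20EtHom
import Groth.Prelude.Def_SGA1

set_option autoImplicit false
universe u

open CategoryTheory CategoryTheory.Limits AlgebraicGeometry MorphismProperty

namespace Groth.Agent.Lib.Helper20.EtDesc

open Groth.Agent.Lib.Helper20.EtHom

set_option backward.isDefEq.respectTransparency.types false in
instance : DescendsAlong @UniversallyInjective.{u} @Surjective.{u} := by
  rw [universallyInjective_eq_diagonal]
  infer_instance

theorem surjective_of_univSubmersive {Y' Y : Scheme.{u}} (h : Y' ⟶ Y)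
    (hh : SGA1.UnivSubmersive h) : Surjective h :=
  ⟨(hh (𝟙 _) (𝟙 _) h IsPullback.of_id_snd).surjective⟩

theorem isQuotientMap_fst_of_univSubmersive {Y' Y P : Scheme.{u}} (h : Y' ⟶ Y)
    (hh : SGA1.UnivSubmersive h) (π : P ⟶ Y) :
    Topology.IsQuotientMap (pullback.fst π h) :=
  hh _ _ _ (IsPullback.of_hasPullback π h)

/-- Two morphisms into an étale `S`-scheme, equal over `S`, which agree after precomposition
with a surjective morphism are equal. -/
theorem hom_ext_of_surjective {S X T T' : Scheme.{u}} (f : X ⟶ S) [Etale f] (φ₁ φ₂ : T ⟶ X)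
    (hφ : φ₁ ≫ f = φ₂ ≫ f) (e : T' ⟶ T) [Surjective e] (he : e ≫ φ₁ = e ≫ φ₂) : φ₁ = φ₂ := by
  let X' : Over S := Over.mk f
  let T₀ : Over S := Over.mk (φ₁ ≫ f)
  let a₁ : T₀ ⟶ X' := Over.homMk φ₁ rfl
  let a₂ : T₀ ⟶ X' := Over.homMk φ₂ hφ.symm
  have : Etale X'.hom := ‹Etale f›
  have := over_hom_ext_of_surjective (X := X') (Y := T₀) a₁ a₂ (Y' := T') e he
  exact congr($(this).left)

/-- Descent of morphisms into an étale scheme along a surjective morphism `h : Y' ⟶ Y` whose base
change to `X ×_S Y` is a quotient map. -/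
theorem exists_unique_lift_of_isQuotientMap {Y' Y X S : Scheme.{u}} (h : Y' ⟶ Y)
    (hsurj : Surjective h) (f : X ⟶ S) [Etale f] (q : Y ⟶ S)
    (hk : Topology.IsQuotientMap (pullback.fst (pullback.snd f q) h))
    (ψ : Y' ⟶ X)
    (hψ : ψ ≫ f = h ≫ q) (hcoc : pullback.fst h h ≫ ψ = pullback.snd h h ≫ ψ) :
    ∃! φ : Y ⟶ X, φ ≫ f = q ∧ h ≫ φ = ψ := by
  let π₁ : pullback f q ⟶ X := pullback.fst f q
  let π₂ : pullback f q ⟶ Y := pullback.snd f q
  have : Etale π₂ := inferInstance
  let Γ : Y' ⟶ pullback f q := pullback.lift ψ h hψ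
  have hΓ₁ : Γ ≫ π₁ = ψ := pullback.lift_fst _ _ _
  have hΓ₂ : Γ ≫ π₂ = h := pullback.lift_snd _ _ _
  -- key consequence of the cocycle condition
  have K : ∀ {T : Scheme.{u}} (a b : T ⟶ Y'), a ≫ h = b ≫ h → a ≫ ψ = b ≫ ψ := by
    intro T a b hab
    have h1 : pullback.lift a b hab ≫ pullback.fst h h = a := pullback.lift_fst _ _ _
    have h2 : pullback.lift a b hab ≫ pullback.snd h h = b := pullback.lift_snd _ _ _
    rw [← h1, Category.assoc, hcoc, ← Category.assoc, h2]
  have KΓ : ∀ {T : Scheme.{u}} (a b : T ⟶ Y'), a ≫ h = b ≫ h → a ≫ Γ = b ≫ Γ := by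
    intro T a b hab
    apply pullback.hom_ext
    · change (a ≫ Γ) ≫ π₁ = (b ≫ Γ) ≫ π₁
      rw [Category.assoc, Category.assoc, hΓ₁]
      exact K a b hab
    · change (a ≫ Γ) ≫ π₂ = (b ≫ Γ) ≫ π₂
      rw [Category.assoc, Category.assoc, hΓ₂]
      exact hab
  -- the image of the graph is open
  let k : pullback π₂ h ⟶ pullback f q := pullback.fst π₂ h
  let π₂' : pullback π₂ h ⟶ Y' := pullback.snd π₂ h
  have hk : Topology.IsQuotientMap k := hk
  let σ : Y' ⟶ pullback π₂ h := pullback.lift Γ (𝟙 Y') (by rw [hΓ₂, Category.id_comp])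
  have hσ₁ : σ ≫ k = Γ := pullback.lift_fst _ _ _
  have hσ₂ : σ ≫ π₂' = 𝟙 Y' := pullback.lift_snd _ _ _
  have : Etale π₂' := inferInstance
  have : Etale (σ ≫ π₂') := by rw [hσ₂]; infer_instance
  have : Etale σ := Etale.of_comp σ π₂'
  have : Mono σ := mono_of_mono_fac hσ₂
  have : IsOpenImmersion σ := Groth.Agent.S3694.result σ
  have hpre : k ⁻¹' Set.range Γ = Set.range σ := by
    ext z
    constructor
    · rintro ⟨y, hy⟩
      obtain ⟨t, ht₁, ht₂⟩ := Scheme.Pullback.exists_preimage_pullback (f := k) (g := Γ) z y hy.symm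
      have hcond : k ≫ π₂ = π₂' ≫ h := pullback.condition
      have hcondT : pullback.fst k Γ ≫ k = pullback.snd k Γ ≫ Γ := pullback.condition
      have e1 : (pullback.fst k Γ ≫ π₂') ≫ h = pullback.snd k Γ ≫ h := by
        rw [Category.assoc, ← hcond, ← Category.assoc, hcondT, Category.assoc, hΓ₂]
      have hT : pullback.fst k Γ = pullback.fst k Γ ≫ π₂' ≫ σ := by
        apply pullback.hom_ext
        · change pullback.fst k Γ ≫ k = (pullback.fst k Γ ≫ π₂' ≫ σ) ≫ k
          rw [Category.assoc, Category.assoc, hσ₁, hcondT, ← Category.assoc]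
          exact (KΓ _ _ e1).symm
        · change pullback.fst k Γ ≫ π₂' = (pullback.fst k Γ ≫ π₂' ≫ σ) ≫ π₂'
          rw [Category.assoc, Category.assoc, hσ₂, Category.comp_id]
      refine ⟨π₂' (pullback.fst k Γ t), ?_⟩
      rw [← ht₁]
      conv_rhs => rw [hT]
      simp
    · rintro ⟨y, rfl⟩
      exact ⟨y, by rw [← hσ₁]; rfl⟩
  have hopen : IsOpen (Set.range Γ) := by
    rw [← hk.isOpen_preimage, hpre]
    exact σ.isOpenEmbedding.isOpen_range
  let W : (pullback f q).Opens := ⟨Set.range Γ, hopen⟩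
  let ΓW : Y' ⟶ W := IsOpenImmersion.lift W.ι Γ (by simp [W])
  have hfac : ΓW ≫ W.ι = Γ := IsOpenImmersion.lift_fac _ _ _
  have hΓWs : Surjective ΓW := ⟨fun ⟨x, ⟨y, hy⟩⟩ ↦
    ⟨y, by apply W.ι.injective; simp [← Scheme.Hom.comp_apply, hfac, hy]⟩⟩
  let p : (W : Scheme.{u}) ⟶ Y := W.ι ≫ π₂
  have hp : ΓW ≫ p = h := by
    simp only [p]
    rw [← Category.assoc, hfac, hΓ₂]
  have : Surjective (ΓW ≫ p) := by rw [hp]; exact hsurj
  have : Surjective p := Surjective.of_comp ΓW p
  have : Etale p := inferInstance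
  -- the base change of `p` along `h` is a monomorphism
  have C : ∀ {T : Scheme.{u}} (w : T ⟶ W) (y : T ⟶ Y'), w ≫ p = y ≫ h →
      w ≫ W.ι ≫ π₁ = y ≫ ψ := by
    intro T w y hwy
    have hcondT : pullback.fst w ΓW ≫ w = pullback.snd w ΓW ≫ ΓW := pullback.condition
    have : Surjective (pullback.fst w ΓW) := inferInstance
    refine hom_ext_of_surjective f _ _ ?_ (pullback.fst w ΓW) ?_
    · have hc : π₁ ≫ f = π₂ ≫ q := pullback.condition
      rw [Category.assoc, Category.assoc, hc, Category.assoc, hψ, ← Category.assoc W.ι,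
        ← Category.assoc w, ← Category.assoc y]
      congr 1
    · have e1 : (pullback.fst w ΓW ≫ y) ≫ h = pullback.snd w ΓW ≫ h := by
        rw [Category.assoc, ← hwy, ← Category.assoc, hcondT, Category.assoc, hp]
      rw [← Category.assoc, hcondT, Category.assoc, ← Category.assoc ΓW, hfac, hΓ₁,
        ← Category.assoc]
      exact (K _ _ e1).symm
  have hmono : Mono (pullback.fst h p) := by
    constructor
    intro T a b hab
    have hc : pullback.fst h p ≫ h = pullback.snd h p ≫ p := pullback.condition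
    apply pullback.hom_ext
    · exact hab
    · rw [← cancel_mono W.ι]
      apply pullback.hom_ext
      · change ((a ≫ pullback.snd h p) ≫ W.ι) ≫ π₁ = ((b ≫ pullback.snd h p) ≫ W.ι) ≫ π₁
        rw [Category.assoc (a ≫ pullback.snd h p), Category.assoc (b ≫ pullback.snd h p),
          C (a ≫ pullback.snd h p) (a ≫ pullback.fst h p) (by simp only [Category.assoc, hc]),
          C (b ≫ pullback.snd h p) (b ≫ pullback.fst h p) (by simp only [Category.assoc, hc]),
          hab]
      · change ((a ≫ pullback.snd h p) ≫ W.ι) ≫ π₂ = ((b ≫ pullback.snd h p) ≫ W.ι) ≫ π₂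
        have e : ∀ c : T ⟶ pullback h p, ((c ≫ pullback.snd h p) ≫ W.ι) ≫ π₂ =
            (c ≫ pullback.fst h p) ≫ h := by
          intro c
          rw [Category.assoc, Category.assoc, Category.assoc, hc]
        rw [e, e, hab]
  have : UniversallyInjective (pullback.fst h p) := inferInstance
  have : UniversallyInjective p :=
    MorphismProperty.of_pullback_fst_of_descendsAlong (P := @UniversallyInjective)
      (Q := @Surjective) (f := h) (g := p) hsurj this
  have : IsOpenImmersion p := Groth.Agent.S3694.result p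
  have : IsIso p := (isIso_iff_isOpenImmersion_and_surjective _).2 ⟨inferInstance, inferInstance⟩
  refine ⟨inv p ≫ W.ι ≫ π₁, ⟨?_, ?_⟩, ?_⟩
  · have hc : π₁ ≫ f = π₂ ≫ q := pullback.condition
    rw [Category.assoc, Category.assoc, hc, ← Category.assoc W.ι]
    exact IsIso.inv_hom_id_assoc p q
  · rw [← hp, Category.assoc, IsIso.hom_inv_id_assoc, ← Category.assoc, hfac, hΓ₁]
  · rintro φ' ⟨hφ'₁, hφ'₂⟩
    have hc : π₁ ≫ f = π₂ ≫ q := pullback.condition
    refine hom_ext_of_surjective f _ _ ?_ h ?_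
    · rw [hφ'₁, Category.assoc, Category.assoc, hc, ← Category.assoc W.ι]
      exact (IsIso.inv_hom_id_assoc p q).symm
    · rw [hφ'₂, ← hp, Category.assoc, IsIso.hom_inv_id_assoc, ← Category.assoc, hfac, hΓ₁]

/-- Descent of morphisms into an étale scheme along a universally submersive morphism. -/
theorem exists_unique_lift_of_univSubmersive {Y' Y X S : Scheme.{u}} (h : Y' ⟶ Y)
    (hh : SGA1.UnivSubmersive h) (f : X ⟶ S) [Etale f] (q : Y ⟶ S) (ψ : Y' ⟶ X)
    (hψ : ψ ≫ f = h ≫ q) (hcoc : pullback.fst h h ≫ ψ = pullback.snd h h ≫ ψ) :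
    ∃! φ : Y ⟶ X, φ ≫ f = q ∧ h ≫ φ = ψ :=
  exists_unique_lift_of_isQuotientMap h (surjective_of_univSubmersive h hh) f q
    (isQuotientMap_fst_of_univSubmersive h hh _) ψ hψ hcoc

end Groth.Agent.Lib.Helper20.EtDesc
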