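-- helper15: universally submersive morphisms are covers for gluing schemes etale over the base.
import Mathlib
import Groth.Prelude.Def_Desc
import Groth.Prelude.Def_SGA1
import Groth.Agent.Lib.Helper15DescGlueA
import Groth.Agent.Lib.Helper15ChartCovB
import Groth.Agent.Lib.Helper20EtDesc

set_option autoImplicit false
set_option linter.unusedSectionVars false
open CategoryTheory CategoryTheory.Limits AlgebraicGeometry

universe u

namespace Groth.Agent.Lib.Helper15ChartCovEt

open Desc Groth.Agent.Lib.Helper15DescGlueA Groth.Agent.Lib.Helper15ChartCovB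
  Groth.Agent.Lib.Helper20.EtDesc Groth.Agent.Lib.Helper20.EtHom

variable {X S : Scheme.{u}} (p : X ⟶ S) (hp : SGA1.UnivSubmersive p)

include hp in
lemma univSubmersive_snd (U : Over S) : SGA1.UnivSubmersive (pullback.snd p U.hom) :=
  MorphismProperty.pullback_snd (P := MorphismProperty.universally
    (AlgebraicGeometry.topologically fun f => Topology.IsQuotientMap f)) _ _ hp

include hp in
lemma isQuotientMap_snd (U : Over S) : Topology.IsQuotientMap (pullback.snd p U.hom).base :=
  hp _ _ _ (IsPullback.of_hasPullback p U.hom).flip

include hp in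
lemma surjective_snd (U : Over S) : Surjective (pullback.snd p U.hom) :=
  ⟨(isQuotientMap_snd p hp U).surjective⟩

include hp in
/-- morphisms of canonical descent data into that of a scheme etale over the base descend -/
theorem exists_map_eq {A B : Over S} [Etale B.hom]
    (F : (Desc.toDD p).obj A ⟶ (Desc.toDD p).obj B) : ∃ f : A ⟶ B, (Desc.toDD p).map f = F := by
  let q : pullback p A.hom ⟶ A.left := pullback.snd p A.hom
  let Fl : pullback p A.hom ⟶ pullback p B.hom := F.hom.left
  have hFl : Fl ≫ pullback.fst p B.hom = pullback.fst p A.hom := Over.w F.hom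
  let h : pullback p A.hom ⟶ B.left := Fl ≫ pullback.snd p B.hom
  have hcond : ∀ {Z : Scheme.{u}} (a b : Z ⟶ pullback p A.hom), a ≫ q = b ≫ q → a ≫ h = b ≫ h := by
    intro Z a b hab
    have hx : (a ≫ pullback.fst p A.hom) ≫ p = (b ≫ pullback.fst p A.hom) ≫ p := by
      rw [Category.assoc, Category.assoc, pullback.condition, ← Category.assoc, ← Category.assoc]
      exact congrArg (· ≫ A.hom) hab
    have hc : (Desc.canMap p B (a ≫ pullback.fst p A.hom) (b ≫ pullback.fst p A.hom) hx
        ⟨a ≫ Fl, by
          change (a ≫ Fl) ≫ pullback.fst p B.hom = _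
          rw [Category.assoc, hFl]⟩).1 =
        (Desc.canMap p A (a ≫ pullback.fst p A.hom) (b ≫ pullback.fst p A.hom) hx ⟨a, rfl⟩).1 ≫ Fl :=
      F.comm (a ≫ pullback.fst p A.hom) (b ≫ pullback.fst p A.hom) hx ⟨a, rfl⟩
        ⟨a ≫ Fl, by
          change (a ≫ Fl) ≫ pullback.fst p B.hom = _
          rw [Category.assoc, hFl]⟩ rfl
    have hb : (Desc.canMap p A (a ≫ pullback.fst p A.hom) (b ≫ pullback.fst p A.hom) hx ⟨a, rfl⟩).1 = b := by
      apply pullback.hom_ext
      · rw [Desc.canMap_val, pullback.lift_fst]
      · rw [Desc.canMap_val, pullback.lift_snd]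
        exact hab
    rw [hb] at hc
    have := congrArg (· ≫ pullback.snd p B.hom) hc
    rw [Desc.canMap_val, pullback.lift_snd] at this
    dsimp [h]
    rw [← Category.assoc, ← Category.assoc]
    exact this
  have hψ : h ≫ B.hom = q ≫ A.hom := by
    dsimp [h, q]
    rw [Category.assoc, ← pullback.condition, ← Category.assoc, hFl, pullback.condition]
  obtain ⟨g, ⟨hgS, hg⟩, -⟩ := exists_unique_lift_of_univSubmersive q (univSubmersive_snd p hp A)
    B.hom A.hom h hψ (hcond _ _ pullback.condition)
  refine ⟨Over.homMk g hgS, ?_⟩
  apply Desc.SchDD.hom_ext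
  apply Over.OverMorphism.ext
  apply pullback.hom_ext
  · change pullback.map p A.hom p B.hom (𝟙 X) g (𝟙 S) (by simp) (by simp [hgS]) ≫
        pullback.fst p B.hom = Fl ≫ pullback.fst p B.hom
    rw [hFl, pullback.lift_fst, Category.comp_id]
  · change pullback.map p A.hom p B.hom (𝟙 X) g (𝟙 S) (by simp) (by simp [hgS]) ≫
        pullback.snd p B.hom = Fl ≫ pullback.snd p B.hom
    rw [pullback.lift_snd]
    exact hg

include hp in
theorem map_injective {A B : Over S} [Etale B.hom] (f f' : A ⟶ B)
    (h : (Desc.toDD p).map f = (Desc.toDD p).map f') : f = f' := by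
  have := surjective_snd p hp A
  refine over_hom_ext_of_surjective f f' (pullback.snd p A.hom) ?_
  rw [← toDD_map_snd, ← toDD_map_snd, h]

include hp in
/-- a morphism of schemes etale over the base whose base change is an open immersion is an open
immersion -/
theorem isOpenImmersion_of_map {A B : Over S} [Etale A.hom] [Etale B.hom] (f : A ⟶ B)
    (h : IsOpenImmersion ((Desc.toDD p).map f).hom.left) : IsOpenImmersion f.left := by
  have hw : f.left ≫ B.hom = A.hom := Over.w f
  have : Etale (f.left ≫ B.hom) := by rw [hw]; infer_instance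
  have hfe : Etale f.left := Etale.of_comp f.left B.hom
  have sq := isPullback_toDD_map (p := p) f
  have hs := surjective_snd p hp B
  have hui' : UniversallyInjective ((Desc.toDD p).map f).hom.left := inferInstance
  have hui : UniversallyInjective f.left :=
    MorphismProperty.of_isPullback_of_descendsAlong (P := @UniversallyInjective)
      (Q := @Surjective) sq hs hui'
  have hd : Surjective (pullback.diagonal f.left) := (UniversallyInjective.iff_diagonal f.left).1 hui
  have hiso : IsIso (pullback.diagonal f.left) :=
    (isIso_iff_isOpenImmersion_and_surjective _).2 ⟨inferInstance, hd⟩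
  have : Mono f.left := (pullback.isIso_diagonal_iff f.left).1 hiso
  exact IsOpenImmersion.of_flat_of_mono f.left

include hp in
/-- universally submersive morphisms are covers for gluing schemes etale over the base -/
theorem chartCover {K : Type u} (Uo : K → Over S) (hUo : ∀ k, Etale (Uo k).hom) :
    ChartCover p Uo where
  full k k' W W' F := by
    have : Etale (Uo k').hom := hUo k'
    have : Etale (Over.mk (W'.ι ≫ (Uo k').hom)).hom := by
      change Etale (W'.ι ≫ (Uo k').hom)
      infer_instance
    exact exists_map_eq p hp F
  faithful k k' W W' f f' h := by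
    have : Etale (Uo k').hom := hUo k'
    have : Etale (Over.mk (W'.ι ≫ (Uo k').hom)).hom := by
      change Etale (W'.ι ≫ (Uo k').hom)
      infer_instance
    exact map_injective p hp f f' h
  quot U := isQuotientMap_snd p hp U
  openImm k k' W W' f h := by
    have : Etale (Uo k).hom := hUo k
    have : Etale (Uo k').hom := hUo k'
    have : Etale (Over.mk (W.ι ≫ (Uo k).hom)).hom := by
      change Etale (W.ι ≫ (Uo k).hom)
      infer_instance
    have : Etale (Over.mk (W'.ι ≫ (Uo k').hom)).hom := by
      change Etale (W'.ι ≫ (Uo k').hom)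
      infer_instance
    exact isOpenImmersion_of_map p hp f h

end Groth.Agent.Lib.Helper15ChartCovEt
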