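-- helper15: closed substacks and reduced algebraic stacks; locality of membership in a substack.
import Mathlib
import Groth.Agent.Lib.Helper15OpenImage

set_option autoImplicit false
set_option backward.isDefEq.respectTransparency false
set_option backward.isDefEq.respectTransparency.types false
open CategoryTheory CategoryTheory.Functor CategoryTheory.Limits Opposite AlgebraicGeometry

universe u

namespace Groth.Agent.Lib.Helper15ClosedSubst

open Groth.Agent.Lib.Helper17 Groth.Agent.Lib.Helper15PshFib Groth.Agent.Lib.Helper15RepComp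
  Groth.Agent.Lib.Helper15RepPsh Groth.Agent.Lib.Helper15DiagBase Groth.Agent.Lib.Helper15DiagRepSp
  Groth.Agent.Lib.Helper15Descent Groth.Agent.Lib.Helper15DiagLft
  Groth.Agent.Lib.Helper15DiagDescent Groth.Agent.Lib.Helper15SpMapRep
  Groth.Agent.Lib.Helper15SrcCancel Groth.Agent.Lib.Helper15ChartSp Groth.Agent.Lib.Helper15Atlas
  Groth.Agent.Lib.Helper15LocEss Groth.Agent.Lib.Helper15UnivComp Groth.Agent.Lib.Helper15SmLoc
  Groth.Agent.Lib.Helper15PtsComp Groth.Agent.Lib.Helper15PtsTop Groth.Agent.Lib.Helper15PtsQc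
  Groth.Agent.Lib.Helper15OpenSub Groth.Agent.Lib.Helper15EquivRep
  Groth.Agent.Lib.Helper15OpenSubst Groth.Agent.Lib.Helper15OpenImage

section Local

variable {S : Scheme.{u}} {𝒳 : AlgSt.Cat S}

/-- Membership in a full substack closed under isomorphisms is local for covering sieves. -/
theorem mem_of_sieve (J : GrothendieckTopology (Over S)) (h𝒳 : Stk.IsStack J 𝒳) (Q : 𝒳.obj → Prop)
    (hQ : ObjectProperty.IsClosedUnderIsomorphisms Q) (hst : Stk.IsStack J (AlgSt.fullSub 𝒳 Q))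
    {T : Over S} (y : FibCat.overCat T ⥤ᵇ 𝒳) (R : Sieve T) (hR : R ∈ J T)
    (h : ∀ a : Over T, R a.hom → Q (y.obj a)) : Q (y.obj (Over.mk (𝟙 T))) := by
  let yR : Stk.sieveCat R ⥤ᵇ AlgSt.fullSub 𝒳 Q :=
    liftSub Q (BasedFunctor.comp (Stk.sieveIncl R) y) (fun a => h a.obj a.property)
  have hE : (Stk.resSieve R (AlgSt.fullSub 𝒳 Q)).IsEquivalence := hst.2 R hR
  obtain ⟨y', ⟨ε⟩⟩ : ∃ y' : FibCat.overCat T ⥤ᵇ AlgSt.fullSub 𝒳 Q,
      Nonempty ((Stk.resSieve R (AlgSt.fullSub 𝒳 Q)).obj y' ≅ yR) :=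
    ⟨(Stk.resSieve R (AlgSt.fullSub 𝒳 Q)).objPreimage yR,
      ⟨(Stk.resSieve R (AlgSt.fullSub 𝒳 Q)).objObjPreimageIso yR⟩⟩
  have hE' : (Stk.resSieve R 𝒳).IsEquivalence := h𝒳.2 R hR
  let ε' : (Stk.resSieve R 𝒳).obj (BasedFunctor.comp y' (AlgSt.subIncl 𝒳 Q)) ≅
      (Stk.resSieve R 𝒳).obj y := whiskerRightIso ε (AlgSt.subIncl 𝒳 Q)
  let δ : BasedFunctor.comp y' (AlgSt.subIncl 𝒳 Q) ≅ y := (Stk.resSieve R 𝒳).preimageIso ε'
  exact hQ.of_iso (bApp δ (Over.mk (𝟙 T))) (y'.obj (Over.mk (𝟙 T))).property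

end Local

section ClosedIso

variable {S : Scheme.{u}} {𝒵 𝒳 : AlgSt.Cat S}

/-- A surjective closed immersion to a reduced scheme is an isomorphism. -/
theorem isIso_of_repWith_closedImm_of_surj {F : AlgSp.Sp S} {U : Over S} [IsReduced U.left]
    (a : F ⟶ (AlgSp.yon S).obj U) (h : AlgSp.RepWith @IsClosedImmersion a)
    (hs : AlgSp.IsSurjectiveMor a) : IsIso a := by
  obtain ⟨hrep, hP⟩ := (AlgSp.repWith_iff _ a).1 h
  obtain ⟨V, snd, fst, sq⟩ := hrep (𝟙 ((AlgSp.yon S).obj U))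
  have hoi : IsClosedImmersion snd.left := hP _ fst snd sq
  have hfst : IsIso fst := sq.isIso_fst_of_isIso
  have hw : (AlgSp.yon S).map snd = fst ≫ a := by
    have := sq.w
    rw [Category.comp_id] at this
    exact this.symm
  have hsurj : AlgSp.IsSurjectiveMor ((AlgSp.yon S).map snd) := by
    rw [hw]
    intro x
    obtain ⟨x', rfl⟩ := hs x
    refine ⟨AlgSp.Points.map (inv fst) x', ?_⟩
    rw [← AlgSp.Points.map_comp, IsIso.inv_hom_id_assoc]
  have hs' := surjective_of_isSurjectiveMor_yon_map snd hsurj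
  have : Surjective snd.left := ⟨hs'⟩
  have hiso : IsIso snd.left := isIso_of_isClosedImmersion_of_surjective snd.left
  have hiso' : IsIso snd := by
    have : IsIso ((Over.forget S).map snd) := hiso
    exact isIso_of_reflects_iso snd (Over.forget S)
  have : a = inv fst ≫ (AlgSp.yon S).map snd := by
    rw [hw, IsIso.inv_hom_id_assoc]
  rw [this]
  infer_instance

theorem exists_fp_obj_over_id_of_isIso (j : 𝒵 ⥤ᵇ 𝒳) {U : Over S} (y : FibCat.overCat U ⥤ᵇ 𝒳)
    (F : AlgSp.Space S) (e : AlgSt.ofSp F.obj ⥤ᵇ FibCat.fp y j)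
    (hiso : IsIso (AlgSt.spMapOfOver (BasedFunctor.comp e (FibCat.fpFst y j)))) :
    ∃ w : (FibCat.fp y j).obj, Nonempty (w.obj.fst ≅ Over.mk (𝟙 U)) := by
  let Φ := BasedFunctor.comp e (FibCat.fpFst y j)
  let s : F.obj.obj.obj (op U) := (inv (AlgSt.spMapOfOver Φ)).hom.app (op U) ⟨𝟙 U⟩
  have hs' : (AlgSt.spMapOfOver Φ).hom.app (op U) s = ⟨𝟙 U⟩ := by
    have := congrArg (fun t => t.hom.app (op U) ⟨𝟙 U⟩) (IsIso.inv_hom_id (AlgSt.spMapOfOver Φ))
    exact this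
  let ξ : (AlgSt.ofSp F.obj).obj := ⟨U, s⟩
  have h1 : AlgSt.secHom Φ ξ = 𝟙 U := by
    have := AlgSt.spMapOfOver_app Φ U s
    rw [hs'] at this
    exact (congrArg ULift.down this).symm
  refine ⟨e.obj ξ, ⟨Over.isoMk (eqToIso (Φ.w_obj ξ)) ?_⟩⟩
  have key : ∀ (Z : Over U) (hZ : Z.left = U) (_ : eqToHom hZ.symm ≫ Z.hom = 𝟙 U),
      eqToHom hZ ≫ 𝟙 U = Z.hom := by
    intro Z hZ h
    rw [Category.comp_id, ← cancel_epi (eqToHom hZ.symm), h, eqToHom_trans, eqToHom_refl]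
  exact key (Φ.obj ξ) (Φ.w_obj ξ) h1

/-- An object over a reduced scheme all of whose points lie in a closed substack lies in the
substack. -/
theorem mem_closedSubstack_of_reduced (h𝒳 : FibCat.IsFibGrpd 𝒳.p) (Q : 𝒳.obj → Prop)
    (hQ : ObjectProperty.IsClosedUnderIsomorphisms Q)
    (hfib : FibCat.IsFibGrpd (AlgSt.fullSub 𝒳 Q).p)
    (hci : AlgSt.IsClosedImm (AlgSt.subIncl 𝒳 Q)) {U : Over S} [IsReduced U.left]
    (y : FibCat.overCat U ⥤ᵇ 𝒳)
    (hy : ∀ u : ↥U.left, AlgSt.Points.ofChart y u ∈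
      Set.range (AlgSt.Points.map (AlgSt.subIncl 𝒳 Q))) : Q (y.obj (Over.mk (𝟙 U))) := by
  obtain ⟨F, e, he, hP⟩ := hci U y
  have hsurj := surjective_points_fpFst_subIncl h𝒳 Q hQ hfib y hy
  have hs : AlgSp.IsSurjectiveMor (AlgSt.spMapOfOver
      (BasedFunctor.comp e (FibCat.fpFst y (AlgSt.subIncl 𝒳 Q)))) := by
    rw [isSurjectiveMor_spMapOfOver_iff]
    intro z
    obtain ⟨w, rfl⟩ := hsurj z
    obtain ⟨v, rfl⟩ := points_map_surjective_of_isEquivOver e he w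
    exact ⟨v, points_map_comp _ _ _⟩
  have hiso := isIso_of_repWith_closedImm_of_surj _ hP hs
  obtain ⟨w, ⟨i⟩⟩ := exists_fp_obj_over_id_of_isIso (AlgSt.subIncl 𝒳 Q) y F e hiso
  have h1 : Q w.obj.snd.obj := w.obj.snd.property
  have i₁ : y.obj w.obj.fst ≅ w.obj.snd.obj := w.obj.iso
  have i₂ : y.obj w.obj.fst ≅ y.obj (Over.mk (𝟙 U)) := y.toFunctor.mapIso i
  exact hQ.of_iso (i₁.symm ≪≫ i₂) h1

end ClosedIso

section Core

variable {S : Scheme.{u}} {𝒳 𝒴 : AlgSt.Cat S}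

/-- The sieve generated by one fppf covering morphism of schemes over `S` is covering. -/
theorem generate_singleton_mem {T V : Over S} (v : V ⟶ T) [Flat v.left]
    [LocallyOfFinitePresentation v.left] (hs : Function.Surjective v.left) :
    Sieve.generate (Presieve.singleton v) ∈ QuotSh.J Scheme.fppfPrecoverage S T := by
  have : Surjective v.left := ⟨hs⟩
  rw [GrothendieckTopology.mem_over_iff]
  refine Scheme.fppfPrecoverage.toGrothendieck.superset_covering ?_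
    (Precoverage.generate_mem_toGrothendieck (Scheme.Hom.singleton_mem_fppfPrecoverage v.left))
  rw [Sieve.generate_le_iff]
  rintro T' f ⟨⟩
  rw [Sieve.overEquiv_iff]
  have h0 : (Sieve.generate (Presieve.singleton v)) v :=
    Sieve.le_generate _ _ _ (Presieve.singleton.mk)
  let g : Over.mk (v.left ≫ T.hom) ⟶ V := Over.homMk (𝟙 V.left) (by simp)
  have h1 := (Sieve.generate (Presieve.singleton v)).downward_closed h0 g
  have h2 : g ≫ v = (Over.homMk v.left : Over.mk (v.left ≫ T.hom) ⟶ T) := by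
    ext
    simp [g]
  rw [h2] at h1
  exact h1

/-- A functor from a reduced algebraic stack whose points land in a closed substack factors
through the substack. -/
theorem forall_mem_closedSubstack (h𝒳 : AlgSt.IsAlgStack Scheme.fppfPrecoverage 𝒳)
    (h𝒴 : AlgSt.IsAlgStack Scheme.fppfPrecoverage 𝒴)
    (hred : AlgSt.SmoothLocally (fun X => IsReduced X) 𝒴) (Q : 𝒳.obj → Prop)
    (hQ : AlgSt.IsClosedSubstack 𝒳 Q Scheme.fppfPrecoverage) (f : 𝒴 ⥤ᵇ 𝒳)
    (hsub : Set.range (AlgSt.Points.map f) ⊆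
      Set.range (AlgSt.Points.map (AlgSt.subIncl 𝒳 Q))) (y : 𝒴.obj) : Q (f.obj y) := by
  obtain ⟨hQc, hQa, hQi⟩ := hQ
  have hfib := hQa.isStack.1
  obtain ⟨U₀, x₀, hsm, hsurj⟩ := h𝒴.atlas
  have : IsReduced U₀.left := hred U₀ x₀ hsm
  have hB : Q ((BasedFunctor.comp x₀ f).obj (Over.mk (𝟙 U₀))) :=
    mem_closedSubstack_of_reduced h𝒳.isStack.1 Q hQc hfib hQi (BasedFunctor.comp x₀ f)
      (fun u => hsub ⟨AlgSt.Points.ofChart x₀ u, rfl⟩)
  have hB' : ∀ c : Over U₀, Q (f.obj (x₀.obj c)) := fun c =>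
    closed_under_src h𝒳.isStack.1 Q hQc hfib
      ((BasedFunctor.comp x₀ f).map (Over.homMk c.hom (by simp) : c ⟶ Over.mk (𝟙 U₀))) hB
  let T : Over S := 𝒴.p.obj y
  have hyT : 𝒴.p.obj y = T := rfl
  have := IsFibGrpd.isFibered h𝒴.isStack.1
  let ŷ : FibCat.overCat T ⥤ᵇ 𝒴 := yonedaFunctor hyT
  obtain ⟨e₀, -⟩ := yonedaFunctor_iso hyT
  obtain ⟨V, v, t, ⟨κ⟩, hcov⟩ := exists_scheme_cover x₀ (flat_of_smooth hsm) (lfp_of_smooth hsm)
    hsurj ŷ
  have hvf : Flat v.left := AlgSp.locP_yon_map (hcov.1 PUnit.unit).1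
  have hvp : LocallyOfFinitePresentation v.left := AlgSp.locP_yon_map (hcov.1 PUnit.unit).2
  have hvs : Function.Surjective v.left := surjective_of_isSurjectiveMor_yon_map v (fun x => by
    obtain ⟨_, hx⟩ := hcov.2 x
    exact hx)
  have hR := generate_singleton_mem v hvs
  have hV : Q ((BasedFunctor.comp ŷ f).obj ((Over.map v).obj (Over.mk (𝟙 V)))) :=
    hQc.of_iso (f.toFunctor.mapIso (bApp κ (Over.mk (𝟙 V)))) (hB' _)
  have key := mem_of_sieve (QuotSh.J Scheme.fppfPrecoverage S) h𝒳.isStack Q hQc hQa.isStack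
    (BasedFunctor.comp ŷ f) (Sieve.generate (Presieve.singleton v)) hR (by
      rintro a ⟨W, g, v', ⟨⟩, hg⟩
      let m : a ⟶ (Over.map v).obj (Over.mk (𝟙 V)) := Over.homMk g (by simpa using hg)
      exact closed_under_src h𝒳.isStack.1 Q hQc hfib ((BasedFunctor.comp ŷ f).map m) hV)
  exact hQc.of_iso (f.toFunctor.mapIso e₀) key

end Core

end Groth.Agent.Lib.Helper15ClosedSubst
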