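-- helper15: homomorphisms from split tori to a torus over a connected base factor through the greatest split subtorus
import Mathlib
import Groth.Agent.Lib.Helper15ImageD
set_option autoImplicit false
universe u
open CategoryTheory CategoryTheory.Limits AlgebraicGeometry MonoidalCategory CartesianMonoidalCategory
  MonObj GrpObj

namespace Groth.Agent.Lib.Helper15CocharSplit

open Groth.Agent.Lib.Helper15DSmapPts Groth.Agent.Lib.Helper15FieldDiag
open Groth.Agent.Lib.Helper15ImageD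

lemma exists_addEquiv_fin_of_free (Z : Type) [AddCommGroup Z] [Module.Free ℤ Z] [Module.Finite ℤ Z]
    (L : AddSubgroup Z) : ∃ r : ℕ, Nonempty ((Fin r → ℤ) ≃+ L) := by
  obtain ⟨n, b⟩ := Submodule.basisOfPid (Module.finBasis ℤ Z) (AddSubgroup.toIntSubmodule L)
  exact ⟨n, ⟨b.equivFun.symm.toAddEquiv⟩⟩

lemma isMultTypeFT_of_isTorus {S : Scheme.{u}} {T : Over S} [GrpObj T] (hT : Red.IsTorus T) :
    SGA3x.IsMultTypeFT T := by
  obtain ⟨S', f, hfl, hsu, hqc, hloc⟩ := hT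
  refine ⟨S', f, hfl, hsu, hqc, fun s' => ?_⟩
  obtain ⟨U, hU, r, h⟩ := hloc s'
  exact ⟨U, hU, Fin r → ℤ, inferInstance, fg_fin r, h⟩

/-- over a connected base, a homomorphism from a split torus to a torus factors through every
greatest split subtorus. -/
theorem factors_of_split {S : Scheme.{u}} [ConnectedSpace ↥S] {T T₀ : Over S} [GrpObj T]
    [GrpObj T₀] (hT : Red.IsTorus T) (j₀ : T₀ ⟶ T) [IsMonHom j₀] [Mono j₀]
    (hmax : ∀ (T' : Over S) [GrpObj T'] (j' : T' ⟶ T) [IsMonHom j'] [Mono j'] (r' : ℕ),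
      Red.IsSplitTorusWith (Fin r' → ℤ) T' → ∃ g : T' ⟶ T₀, g ≫ j₀ = j')
    (Z : Type) [AddCommGroup Z] [Module.Free ℤ Z] [Module.Finite ℤ Z]
    (lam : Red.DS S Z ⟶ T) [IsMonHom lam] : ∃ mu : Red.DS S Z ⟶ T₀, mu ≫ j₀ = lam := by
  have hZ : AddGroup.FG Z := Module.Finite.iff_addGroup_fg.mp inferInstance
  obtain ⟨L, mbar, h1, h2, h3⟩ := exists_image_of_connected (isMultTypeFT_of_isTorus hT) Z hZ lam
  obtain ⟨r, ⟨ε⟩⟩ := exists_addEquiv_fin_of_free Z L
  have hiso := isIso_DSmap (U := S) ε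
  have hmε := Groth.Agent.Lib.Helper27DiagSub.isMonHom_DSmap S ε.toAddMonoidHom
  obtain ⟨g, hg⟩ := hmax (Red.DS S L) mbar r
    ⟨Grp.mkIso' (asIso (Red.DSmap S ε.toAddMonoidHom))⟩
  exact ⟨Red.DSmap S L.subtype ≫ g, by rw [Category.assoc, hg, h3]⟩

end Groth.Agent.Lib.Helper15CocharSplit
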