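import Mathlib.Algebra.Module.FinitePresentation
import Mathlib.RingTheory.Finiteness.Finsupp

/-!
# Coherent modules

A module is coherent when it is finite and every finitely generated submodule is finitely
presented. Kernels, images and cokernels of maps with coherent target.
-/

set_option autoImplicit false
universe u

namespace Groth.Agent.Lib.Helper15

variable {R : Type u} [CommRing R] {N M : Type u}
  [AddCommGroup N] [Module R N] [AddCommGroup M] [Module R M]

/-- The coherence predicate used in the statements. -/
def IsCohMod (R : Type u) [CommRing R] (M : Type u) [AddCommGroup M] [Module R M] : Prop :=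
  Module.Finite R M ∧ ∀ P : Submodule R M, P.FG → Module.FinitePresentation R P

/-- A finitely generated submodule of a coherent module is coherent. -/
theorem IsCohMod.submodule (hM : IsCohMod R M) (Q : Submodule R M) (hQ : Q.FG) :
    IsCohMod R Q := by
  refine ⟨Module.Finite.iff_fg.2 hQ, ?_⟩
  intro P hP
  have h1 : (P.map Q.subtype).FG := hP.map _
  have := hM.2 _ h1
  exact Module.FinitePresentation.of_equiv
    (Submodule.equivMapOfInjective Q.subtype Q.injective_subtype P).symm

/-- The kernel of a map from a finite module to a coherent module is finitely generated. -/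
theorem IsCohMod.ker_fg [Module.Finite R N] (hM : IsCohMod R M) (φ : N →ₗ[R] M) :
    (LinearMap.ker φ).FG := by
  have hr : (LinearMap.range φ).FG := by
    rw [LinearMap.range_eq_map]
    exact Module.Finite.fg_top.map _
  have := hM.2 _ hr
  have h := Module.FinitePresentation.fg_ker φ.rangeRestrict φ.surjective_rangeRestrict
  rwa [LinearMap.ker_rangeRestrict] at h

/-- The quotient of a coherent module by a finitely generated submodule is coherent. -/
theorem IsCohMod.quotient (hM : IsCohMod R M) (L : Submodule R M) (hL : L.FG) :
    IsCohMod R (M ⧸ L) := by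
  have := hM.1
  refine ⟨inferInstance, ?_⟩
  intro P hP
  set P' : Submodule R M := P.comap L.mkQ with hP'
  have hLP' : L ≤ P' := by
    intro x hx
    change L.mkQ x ∈ P
    have h0 : L.mkQ x = 0 := (Submodule.Quotient.mk_eq_zero L).2 hx
    rw [h0]
    exact P.zero_mem
  have hfg : P'.FG := by
    apply Submodule.fg_of_fg_map_of_fg_inf_ker L.mkQ
    · rw [Submodule.map_comap_eq_of_surjective (Submodule.mkQ_surjective L)]
      exact hP
    · rw [Submodule.ker_mkQ, inf_eq_right.2 hLP']
      exact hL
  have := hM.2 _ hfg
  let g : ↥P' →ₗ[R] ↥P := L.mkQ.restrict (fun x hx => hx)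
  have hg : Function.Surjective g := by
    rintro ⟨y, hy⟩
    obtain ⟨x, rfl⟩ := Submodule.mkQ_surjective L y
    exact ⟨⟨x, hy⟩, rfl⟩
  have hker : (LinearMap.ker g).FG := by
    have : LinearMap.ker g = LinearMap.range (Submodule.inclusion hLP') := by
      ext ⟨x, hx⟩
      rw [LinearMap.mem_ker, LinearMap.mem_range]
      constructor
      · intro h0
        have h1 : L.mkQ x = 0 := congrArg Subtype.val h0
        have h2 : x ∈ L := (Submodule.Quotient.mk_eq_zero L).1 h1
        exact ⟨⟨x, h2⟩, rfl⟩
      · rintro ⟨⟨y, hy⟩, hxy⟩
        have hyx : y = x := congrArg Subtype.val hxy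
        apply Subtype.ext
        change L.mkQ x = 0
        rw [← hyx]
        exact (Submodule.Quotient.mk_eq_zero L).2 hy
    rw [this, LinearMap.range_eq_map]
    exact (Module.Finite.iff_fg.2 hL).fg_top.map _
  exact Module.finitePresentation_of_surjective g hg hker

/-- The cokernel of a map from a finite module to a coherent module is coherent. -/
theorem IsCohMod.coker [Module.Finite R N] (hM : IsCohMod R M) (φ : N →ₗ[R] M) :
    IsCohMod R (M ⧸ LinearMap.range φ) := by
  apply hM.quotient
  rw [LinearMap.range_eq_map]
  exact Module.Finite.fg_top.map _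

/-- The image of a map from a finite module to a coherent module is coherent. -/
theorem IsCohMod.range [Module.Finite R N] (hM : IsCohMod R M) (φ : N →ₗ[R] M) :
    IsCohMod R (LinearMap.range φ) := by
  apply hM.submodule
  rw [LinearMap.range_eq_map]
  exact Module.Finite.fg_top.map _

end Groth.Agent.Lib.Helper15
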