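-- helper15: algebra for finite presentation of coincidence loci
import Mathlib

set_option autoImplicit false
universe u
open CategoryTheory CategoryTheory.Limits

namespace Groth.Agent.Lib.Helper15FixFPAlg

/-- cobase change of a surjection: the kernel of the induced map of pushouts is generated by the
kernel of the surjection. -/
theorem ker_le_map_of_isPushout {k A M P A' P' : CommRingCat.{u}} {i₁ : k ⟶ A} {i₂ : k ⟶ M}
    {j₁ : A ⟶ P} {j₂ : M ⟶ P} (hP : IsPushout i₁ i₂ j₁ j₂)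
    {i₁' : k ⟶ A'} {j₁' : A' ⟶ P'} {j₂' : M ⟶ P'} (hP' : IsPushout i₁' i₂ j₁' j₂')
    (π : A ⟶ A') (hπ : Function.Surjective π) (hi : i₁ ≫ π = i₁')
    (g : P ⟶ P') (hg₁ : j₁ ≫ g = π ≫ j₁') (hg₂ : j₂ ≫ g = j₂') :
    RingHom.ker g.hom ≤ (RingHom.ker π.hom).map j₁.hom := by
  let Q : CommRingCat.{u} := CommRingCat.of (P ⧸ (RingHom.ker π.hom).map j₁.hom)
  let q : P ⟶ Q := CommRingCat.ofHom (Ideal.Quotient.mk _)
  have hker : RingHom.ker π.hom ≤ RingHom.ker (j₁ ≫ q).hom := by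
    intro a ha
    rw [RingHom.mem_ker]
    change Ideal.Quotient.mk _ (j₁.hom a) = 0
    rw [Ideal.Quotient.eq_zero_iff_mem]
    exact Ideal.mem_map_of_mem _ ha
  let a' : A' ⟶ Q := CommRingCat.ofHom (RingHom.liftOfSurjective π.hom hπ ⟨(j₁ ≫ q).hom, hker⟩)
  have ha' : π ≫ a' = j₁ ≫ q := by
    ext x
    exact RingHom.liftOfSurjective_comp_apply π.hom hπ ⟨(j₁ ≫ q).hom, hker⟩ x
  have hw : i₁' ≫ a' = i₂ ≫ (j₂ ≫ q) := by
    rw [← hi, Category.assoc, ha', ← Category.assoc, hP.w, Category.assoc]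
  let h : P' ⟶ Q := hP'.desc a' (j₂ ≫ q) hw
  have hgh : g ≫ h = q := by
    apply hP.hom_ext
    · rw [← Category.assoc, hg₁, Category.assoc, hP'.inl_desc, ha']
    · rw [← Category.assoc, hg₂, hP'.inr_desc]
  intro s hs
  rw [RingHom.mem_ker] at hs
  have h1 : q s = 0 := by
    rw [← hgh]
    change h.hom (g.hom s) = 0
    rw [hs, map_zero]
  exact Ideal.Quotient.eq_zero_iff_mem.mp h1

/-- a finitely generated ideal contained in the extension of an ideal `J` is contained in the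
extension of a finitely generated subideal of `J`. -/
theorem exists_fg_le_of_le_map {A P : Type*} [CommRing A] [CommRing P] (φ : A →+* P)
    (J : Ideal A) (𝔞 : Ideal P) (h𝔞 : 𝔞.FG) (hle : 𝔞 ≤ J.map φ) :
    ∃ I : Ideal A, I.FG ∧ I ≤ J ∧ 𝔞 ≤ I.map φ := by
  obtain ⟨s, rfl⟩ := h𝔞
  have key : ∀ e ∈ s, ∃ I : Ideal A, I.FG ∧ I ≤ J ∧ e ∈ I.map φ := by
    intro e he
    have he' : e ∈ Ideal.span (φ '' J) := hle (Ideal.subset_span he)
    obtain ⟨T, hT, heT⟩ := Submodule.mem_span_finite_of_mem_span he'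
    classical
    obtain ⟨T', hT'J, hT'⟩ := Finset.subset_set_image_iff.mp hT
    refine ⟨Ideal.span (T' : Set A), ⟨T', rfl⟩, Ideal.span_le.mpr hT'J, ?_⟩
    rw [Ideal.map_span, ← Finset.coe_image, hT']
    exact heT
  choose I hIfg hIJ hIe using key
  refine ⟨⨆ e : s, I e.1 e.2, ?_, iSup_le fun e => hIJ _ _, ?_⟩
  · exact Submodule.fg_iSup _ (fun e => hIfg _ _)
  · rw [Ideal.span_le]
    intro e he
    exact Ideal.map_mono (le_iSup (fun e : s => I e.1 e.2) ⟨e, he⟩) (hIe e he)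

/-- a surjective ring map of finite presentation has finitely generated kernel. -/
theorem ker_fg_of_finitePresentation {A B : Type*} [CommRing A] [CommRing B] (f : A →+* B)
    (hf : Function.Surjective f) (hfp : f.FinitePresentation) : (RingHom.ker f).FG := by
  algebraize [f]
  exact Algebra.FinitePresentation.ker_fG_of_surjective (Algebra.ofId A B) hf

end Groth.Agent.Lib.Helper15FixFPAlg
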