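-- helper15: coincidence loci are of finite presentation when the equalizer is and y is quasi-compact
import Mathlib
import Groth.Agent.Lib.Helper15WeilCl
import Groth.Agent.Lib.Helper15FixFPAlg

set_option autoImplicit false
universe u
open CategoryTheory CategoryTheory.Limits AlgebraicGeometry

namespace Groth.Agent.Lib.Helper15FixFP

open Groth.Agent.Lib.Helper11FixSch Groth.Agent.Lib.Helper11FixGen Groth.Agent.Lib.Helper15WeilCl
  Groth.Agent.Lib.Helper15FixFPAlg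

variable {K Y X E : Scheme.{u}} {y : Y ⟶ K} {x₀ : X ⟶ K} {ε : E ⟶ pullback y x₀}

theorem fixE_iff_ker_le [IsClosedImmersion ε] {T : Scheme.{u}} (t : T ⟶ K) (ξ : T ⟶ X)
    (h : ξ ≫ x₀ = t) : FixE y x₀ ε t ξ h ↔ ε.ker ≤ (pm y x₀ t ξ h).ker := by
  constructor
  · rintro ⟨l, hl⟩
    rw [← hl]
    exact l.le_ker_comp ε
  · intro hle
    exact ⟨IsClosedImmersion.lift ε _ hle, IsClosedImmersion.lift_fac _ _ _⟩

theorem isPullback_pm {T : Scheme.{u}} (t : T ⟶ K) (ξ : T ⟶ X) (h : ξ ≫ x₀ = t) :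
    IsPullback (pm y x₀ t ξ h) (pullback.snd y t) (pullback.snd y x₀) ξ := by
  have hfst : pm y x₀ t ξ h ≫ pullback.fst y x₀ = pullback.fst y t := by
    simp [pm, pullback.lift_fst]
  have hsnd : pm y x₀ t ξ h ≫ pullback.snd y x₀ = pullback.snd y t ≫ ξ := by
    simp [pm, pullback.lift_snd]
  refine IsPullback.of_right ?_ hsnd (IsPullback.of_hasPullback y x₀)
  rw [hfst, h]
  exact IsPullback.of_hasPullback y t

theorem fixE_iff_forall_box [IsClosedImmersion ε] {U : K.Opens} (hU : IsAffineOpen U) [IsAffine X]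
    (hx : (⊤ : X.Opens) ≤ x₀ ⁻¹ᵁ U) (𝒱 : Set Y.affineOpens) (hle : ∀ V ∈ 𝒱, V.1 ≤ y ⁻¹ᵁ U)
    (hcov : ∀ p : Y, y p ∈ U → ∃ V ∈ 𝒱, p ∈ V.1)
    {T : Scheme.{u}} (t : T ⟶ K) (ξ : T ⟶ X) [QuasiCompact ξ] (h : ξ ≫ x₀ = t) :
    FixE y x₀ ε t ξ h ↔ ∀ V (hV : V ∈ 𝒱),
      ε.ker.ideal ⟨boxOpen (y := y) x₀ V.1, isAffineOpen_boxOpen' hU x₀ hx V (hle V hV)⟩ ≤
        RingHom.ker ((pm y x₀ t ξ h).app (boxOpen (y := y) x₀ V.1)).hom := by
  have hqc : QuasiCompact (pm y x₀ t ξ h) :=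
    MorphismProperty.of_isPullback (P := @QuasiCompact) (isPullback_pm (y := y) t ξ h).flip inferInstance
  rw [fixE_iff_ker_le]
  constructor
  · intro H V hV
    have := H ⟨boxOpen (y := y) x₀ V.1, isAffineOpen_boxOpen' hU x₀ hx V (hle V hV)⟩
    rwa [Scheme.Hom.ker_apply (pm y x₀ t ξ h)] at this
  · intro H
    refine Scheme.IdealSheafData.le_of_iSup_eq_top
      (fun V : 𝒱 => (⟨boxOpen (y := y) x₀ V.1.1,
        isAffineOpen_boxOpen' hU x₀ hx V.1 (hle V.1 V.2)⟩ : (pullback y x₀).affineOpens)) ?_ ?_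
    · rw [eq_top_iff]
      intro p _
      have hp : y ((pullback.fst y x₀) p) ∈ U := by
        rw [← Scheme.Hom.comp_apply, pullback.condition, Scheme.Hom.comp_apply]
        exact hx (Set.mem_univ _)
      obtain ⟨V, hV, hpV⟩ := hcov _ hp
      exact TopologicalSpace.Opens.mem_iSup.mpr ⟨⟨V, hV⟩, ⟨hpV, trivial⟩⟩
    · rintro ⟨V, hV⟩
      rw [Scheme.Hom.ker_apply (pm y x₀ t ξ h)]
      exact H V hV

/-- the ideal of a closed immersion of finite presentation is finitely generated on affine opens. -/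
theorem fg_ker_ideal {P E : Scheme.{u}} (ε : E ⟶ P) [IsClosedImmersion ε]
    [LocallyOfFinitePresentation ε] (B : P.affineOpens) : (ε.ker.ideal B).FG := by
  rw [Scheme.Hom.ker_apply]
  refine ker_fg_of_finitePresentation _ (ε.app_surjective B.1 B.2) ?_
  have := HasRingHomProperty.appLE (P := @LocallyOfFinitePresentation) ε inferInstance B
    ⟨ε ⁻¹ᵁ B.1, B.2.preimage ε⟩ le_rfl
  rwa [← Scheme.Hom.app_eq_appLE] at this

/-- **Finite presentation of the coincidence locus, affine case.** -/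
theorem locallyOfFinitePresentation_of_represents_affine [IsClosedImmersion ε]
    [LocallyOfFinitePresentation ε] {U : K.Opens} (hU : IsAffineOpen U) [IsAffine X]
    (hx : (⊤ : X.Opens) ≤ x₀ ⁻¹ᵁ U) (𝒱 : Set Y.affineOpens) (hfin : 𝒱.Finite)
    (hle : ∀ V ∈ 𝒱, V.1 ≤ y ⁻¹ᵁ U) (hcov : ∀ p : Y, y p ∈ U → ∃ V ∈ 𝒱, p ∈ V.1)
    {Z : Scheme.{u}} (j : Z ⟶ X) [IsClosedImmersion j]
    (hj : ∀ {T : Scheme.{u}} (t : T ⟶ K) (ξ : T ⟶ X) (h : ξ ≫ x₀ = t),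
      FixE y x₀ ε t ξ h ↔ ∃ z : T ⟶ Z, z ≫ j = ξ) : LocallyOfFinitePresentation j := by
  obtain ⟨hZ, hsurj⟩ := IsClosedImmersion.isAffine_surjective_of_isAffine j
  have hFj : FixE y x₀ ε (j ≫ x₀) j rfl := (hj _ j rfl).2 ⟨𝟙 Z, Category.id_comp _⟩
  have hjt : (⊤ : Z.Opens) ≤ (j ≫ x₀) ⁻¹ᵁ U := by
    intro p _
    show (j ≫ x₀) p ∈ U
    rw [Scheme.Hom.comp_apply]
    exact hx (Set.mem_univ _)
  have happ : j.appLE ⊤ ⊤ le_top = j.appTop := (j.app_eq_appLE (U := ⊤)).symm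
  -- step 2
  have h2 : ∀ V (hV : V ∈ 𝒱),
      ε.ker.ideal ⟨boxOpen (y := y) x₀ V.1, isAffineOpen_boxOpen' hU x₀ hx V (hle V hV)⟩ ≤
        (RingHom.ker j.appTop.hom).map
          ((pullback.snd y x₀).appLE ⊤ (boxOpen (y := y) x₀ V.1) inf_le_right).hom := by
    intro V hV
    refine ((fixE_iff_forall_box hU hx 𝒱 hle hcov _ j rfl).1 hFj V hV).trans ?_
    have hm1 : pm y x₀ (j ≫ x₀) j rfl ≫ pullback.fst y x₀ = pullback.fst y (j ≫ x₀) := by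
      simp [pm, pullback.lift_fst]
    have hm2 : pm y x₀ (j ≫ x₀) j rfl ≫ pullback.snd y x₀ = pullback.snd y (j ≫ x₀) ≫ j := by
      simp [pm, pullback.lift_snd]
    have hle' : boxOpen (y := y) (j ≫ x₀) V.1 ≤
        pm y x₀ (j ≫ x₀) j rfl ⁻¹ᵁ boxOpen (y := y) x₀ V.1 := by
      intro p hp
      refine ⟨?_, trivial⟩
      show (pullback.fst y x₀) ((pm y x₀ (j ≫ x₀) j rfl) p) ∈ V.1
      rw [← Scheme.Hom.comp_apply, hm1]
      exact hp.1
    intro s hs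
    have hs' : s ∈ RingHom.ker ((pm y x₀ (j ≫ x₀) j rfl).appLE (boxOpen (y := y) x₀ V.1)
        (boxOpen (y := y) (j ≫ x₀) V.1) hle').hom := by
      rw [RingHom.mem_ker] at hs ⊢
      rw [Scheme.Hom.appLE, CommRingCat.comp_apply, hs, map_zero]
    have key := ker_le_map_of_isPushout (isPushout_boxOpen' hU x₀ hx V (hle V hV))
      (isPushout_boxOpen' hU (j ≫ x₀) hjt V (hle V hV)) (j.appLE ⊤ ⊤ le_top)
      (by rw [happ]; exact hsurj) (by rw [Scheme.Hom.appLE_comp_appLE])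
      ((pm y x₀ (j ≫ x₀) j rfl).appLE (boxOpen (y := y) x₀ V.1)
        (boxOpen (y := y) (j ≫ x₀) V.1) hle')
      (by
        rw [Scheme.Hom.appLE_comp_appLE, Scheme.Hom.appLE_comp_appLE]
        exact appLE_eq_of_eq hm2 _ _ _)
      (by
        rw [Scheme.Hom.appLE_comp_appLE]
        exact appLE_eq_of_eq hm1 _ _ _)
    rw [happ] at key
    exact key hs'
  -- step 3
  have h3 : ∀ V (hV : V ∈ 𝒱), ∃ I : Ideal Γ(X, ⊤), I.FG ∧ I ≤ RingHom.ker j.appTop.hom ∧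
      ε.ker.ideal ⟨boxOpen (y := y) x₀ V.1, isAffineOpen_boxOpen' hU x₀ hx V (hle V hV)⟩ ≤
        I.map ((pullback.snd y x₀).appLE ⊤ (boxOpen (y := y) x₀ V.1) inf_le_right).hom :=
    fun V hV => exists_fg_le_of_le_map _ _ _ (fg_ker_ideal ε _) (h2 V hV)
  choose I hIfg hIJ hIle using h3
  have : Finite 𝒱 := hfin.to_subtype
  obtain ⟨I₀, hI₀⟩ : ∃ I₀ : Ideal Γ(X, ⊤), I₀ = ⨆ V : 𝒱, I V.1 V.2 := ⟨_, rfl⟩
  have hI₀fg : I₀.FG := by
    rw [hI₀]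
    exact Submodule.fg_iSup _ (fun V => hIfg _ _)
  have hI₀J : I₀ ≤ RingHom.ker j.appTop.hom := by
    rw [hI₀]
    exact iSup_le fun V => hIJ _ _
  -- step 4
  obtain ⟨𝓘, h𝓘⟩ : ∃ 𝓘 : X.IdealSheafData, 𝓘 = Scheme.IdealSheafData.ofIdealTop I₀ := ⟨_, rfl⟩
  have hξker : 𝓘.subschemeι.ker = 𝓘 := Scheme.IdealSheafData.ker_subschemeι 𝓘
  have hξtop : RingHom.ker 𝓘.subschemeι.appTop.hom = I₀ := by
    have h1 := Scheme.Hom.ker_apply 𝓘.subschemeι ⟨⊤, isAffineOpen_top X⟩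
    rw [hξker] at h1
    have h2 : 𝓘.ideal ⟨⊤, isAffineOpen_top X⟩ = I₀ := by
      rw [h𝓘]
      simp
    exact h1.symm.trans h2
  have hF : FixE y x₀ ε (𝓘.subschemeι ≫ x₀) 𝓘.subschemeι rfl := by
    refine (fixE_iff_forall_box hU hx 𝒱 hle hcov _ 𝓘.subschemeι rfl).2 fun V hV => ?_
    refine (hIle V hV).trans ?_
    rw [Ideal.map_le_iff_le_comap]
    intro a ha
    have ha₀ : a ∈ I₀ := by
      rw [hI₀]
      exact (le_iSup (fun V : 𝒱 => I V.1 V.2) ⟨V, hV⟩) ha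
    rw [Ideal.mem_comap, RingHom.mem_ker]
    have hm2 : pm y x₀ (𝓘.subschemeι ≫ x₀) 𝓘.subschemeι rfl ≫ pullback.snd y x₀ =
        pullback.snd y (𝓘.subschemeι ≫ x₀) ≫ 𝓘.subschemeι := by
      simp [pm, pullback.lift_snd]
    have h1 : (pullback.snd y x₀).appLE ⊤ (boxOpen (y := y) x₀ V.1) inf_le_right ≫
        (pm y x₀ (𝓘.subschemeι ≫ x₀) 𝓘.subschemeι rfl).app (boxOpen (y := y) x₀ V.1) =
        𝓘.subschemeι.appLE ⊤ ⊤ le_top ≫ (pullback.snd y (𝓘.subschemeι ≫ x₀)).appLE ⊤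
          (pm y x₀ (𝓘.subschemeι ≫ x₀) 𝓘.subschemeι rfl ⁻¹ᵁ boxOpen (y := y) x₀ V.1) le_top := by
      rw [Scheme.Hom.app_eq_appLE, Scheme.Hom.appLE_comp_appLE, Scheme.Hom.appLE_comp_appLE]
      exact appLE_eq_of_eq hm2 _ _ _
    have h2 := congrArg (fun φ => φ.hom a) h1
    simp only [CommRingCat.hom_comp, RingHom.comp_apply] at h2
    rw [h2]
    have h3 : 𝓘.subschemeι.appLE ⊤ ⊤ le_top a = 0 := by
      have e : 𝓘.subschemeι.appLE ⊤ ⊤ le_top = 𝓘.subschemeι.appTop :=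
        (𝓘.subschemeι.app_eq_appLE (U := ⊤)).symm
      rw [e]
      have : a ∈ RingHom.ker 𝓘.subschemeι.appTop.hom := hξtop ▸ ha₀
      exact this
    rw [h3, map_zero]
  -- step 5
  obtain ⟨z, hz⟩ := (hj _ 𝓘.subschemeι rfl).1 hF
  have hJI₀ : RingHom.ker j.appTop.hom ≤ I₀ := by
    rw [← hξtop, ← hz, Scheme.Hom.comp_appTop, CommRingCat.hom_comp, ← RingHom.comap_ker]
    exact Ideal.ker_le_comap _
  -- step 6
  have hfg : (RingHom.ker j.appTop.hom).FG := by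
    rw [le_antisymm hJI₀ hI₀J]
    exact hI₀fg
  rw [HasRingHomProperty.iff_of_isAffine (P := @LocallyOfFinitePresentation)]
  exact RingHom.FinitePresentation.of_surjective _ hsurj hfg

/-- compatibility of `FixE` with restriction along `ι : X' ⟶ X`. -/
theorem fixE_restrict_iff {X' : Scheme.{u}} (ι : X' ⟶ X) {T : Scheme.{u}} (t : T ⟶ K)
    (ξ' : T ⟶ X') (h : ξ' ≫ ι ≫ x₀ = t) :
    FixE y (ι ≫ x₀) (pullback.fst (pm y x₀ (ι ≫ x₀) ι rfl) ε) t ξ' h ↔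
      FixE y x₀ ε t (ξ' ≫ ι) (by rw [Category.assoc, h]) := by
  have hpm : pm y x₀ t (ξ' ≫ ι) (by rw [Category.assoc, h]) =
      pm y (ι ≫ x₀) t ξ' h ≫ pm y x₀ (ι ≫ x₀) ι rfl :=
    pm_comp (ι ≫ x₀) ι rfl ξ' t h
  constructor
  · rintro ⟨l', hl'⟩
    refine ⟨l' ≫ pullback.snd _ _, ?_⟩
    rw [Category.assoc, ← pullback.condition, ← Category.assoc, hl', hpm]
  · rintro ⟨l, hl⟩
    exact ⟨pullback.lift (pm y (ι ≫ x₀) t ξ' h) l (by rw [hl, hpm]), pullback.lift_fst _ _ _⟩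

/-- **Finite presentation of the coincidence locus.** -/
theorem locallyOfFinitePresentation_of_represents (y : Y ⟶ K) [QuasiCompact y] (x₀ : X ⟶ K)
    (ε : E ⟶ pullback y x₀) [IsClosedImmersion ε] [LocallyOfFinitePresentation ε]
    {Z : Scheme.{u}} (j : Z ⟶ X) [IsClosedImmersion j]
    (hj : ∀ {T : Scheme.{u}} (t : T ⟶ K) (ξ : T ⟶ X) (h : ξ ≫ x₀ = t),
      FixE y x₀ ε t ξ h ↔ ∃ z : T ⟶ Z, z ≫ j = ξ) : LocallyOfFinitePresentation j := by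
  have hcover : ∀ p : X, ∃ (U : K.Opens) (A : X.Opens), IsAffineOpen U ∧ IsAffineOpen A ∧ p ∈ A ∧
      A ≤ x₀ ⁻¹ᵁ U := by
    intro p
    obtain ⟨_, ⟨U, hU, rfl⟩, hpU, -⟩ := K.isBasis_affineOpens.exists_subset_of_mem_open
      (Set.mem_univ (x₀ p)) isOpen_univ
    obtain ⟨_, ⟨A, hA, rfl⟩, hpA, hAU⟩ := X.isBasis_affineOpens.exists_subset_of_mem_open
      (show p ∈ ((x₀ ⁻¹ᵁ U : X.Opens) : Set X) from hpU) (x₀ ⁻¹ᵁ U).isOpen
    exact ⟨U, A, hU, hA, hpA, hAU⟩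
  choose U A hU hA hpA hAU using hcover
  let 𝒰 : X.OpenCover :=
    { I₀ := X
      X := fun p => (A p).toScheme
      f := fun p => (A p).ι
      mem₀ := by
        rw [Scheme.ofArrows_mem_precoverage_iff]
        exact ⟨fun p => ⟨p, ⟨p, hpA p⟩, rfl⟩, fun s => inferInstance⟩ }
  rw [IsZariskiLocalAtTarget.iff_of_openCover (P := @LocallyOfFinitePresentation) 𝒰]
  intro p
  change LocallyOfFinitePresentation (pullback.snd j (A p).ι)
  have hAff : IsAffine (A p).toScheme := hA p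
  obtain ⟨𝒱, hfin, h𝒱⟩ := isCompact_iff_finite_and_eq_biUnion_affineOpens.mp
    (y.isCompact_preimage (hU p).isCompact)
  have hx : (⊤ : (A p).toScheme.Opens) ≤ ((A p).ι ≫ x₀) ⁻¹ᵁ U p := by
    intro q _
    show ((A p).ι ≫ x₀) q ∈ U p
    rw [Scheme.Hom.comp_apply]
    exact hAU p q.2
  refine locallyOfFinitePresentation_of_represents_affine (y := y) (x₀ := (A p).ι ≫ x₀)
    (ε := pullback.fst (pm y x₀ ((A p).ι ≫ x₀) (A p).ι rfl) ε) (hU p) hx 𝒱 hfin ?_ ?_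
    (pullback.snd j (A p).ι) ?_
  · intro V hV
    rw [h𝒱]
    exact le_iSup₂ (f := fun (i : Y.affineOpens) (_ : i ∈ 𝒱) => (i : Y.Opens)) V hV
  · intro q hq
    have : q ∈ y ⁻¹ᵁ U p := hq
    rw [h𝒱] at this
    obtain ⟨V, hV⟩ := TopologicalSpace.Opens.mem_iSup.mp this
    obtain ⟨hV1, hV2⟩ := TopologicalSpace.Opens.mem_iSup.mp hV
    exact ⟨V, hV1, hV2⟩
  · intro T t ξ' h
    rw [fixE_restrict_iff, hj]
    constructor
    · rintro ⟨z, hz⟩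
      exact ⟨pullback.lift z ξ' hz, pullback.lift_snd _ _ _⟩
    · rintro ⟨z', hz'⟩
      exact ⟨z' ≫ pullback.fst j (A p).ι, by rw [Category.assoc, pullback.condition,
        ← Category.assoc, hz']⟩

end Groth.Agent.Lib.Helper15FixFP
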