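-- helper15: representability of FixE (Weil restriction of a closed subscheme) fpqc-locally projective, with finite presentation
import Mathlib
import Groth.Agent.Lib.Helper15FixFP
import Groth.Agent.Lib.Helper15FixFpqc

set_option autoImplicit false
universe u
open CategoryTheory CategoryTheory.Limits AlgebraicGeometry

namespace Groth.Agent.Lib.Helper15FixEQ

open Groth.Agent.Lib.Helper11FixSch Groth.Agent.Lib.Helper11FixGen Groth.Agent.Lib.Helper15WeilCl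
  Groth.Agent.Lib.Helper15WeilClP Groth.Agent.Lib.Helper15ClDescFam Groth.Agent.Lib.Helper15FixLocP
  Groth.Agent.Lib.Helper15FixFP Groth.Agent.Lib.Helper15FixFpqc

variable {K Y X E : Scheme.{u}}

/-- local case: `x₀` lands in an affine open over which `y` is covered by projective boxes. -/
theorem exists_closed_fixE_local (y : Y ⟶ K) (x₀ : X ⟶ K) (ε : E ⟶ pullback y x₀)
    [IsClosedImmersion ε] {U : K.Opens} (hU : IsAffineOpen U) (hx : ∀ p : X, x₀ p ∈ U)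
    (𝒱 : Set Y.affineOpens) (hle : ∀ V ∈ 𝒱, V.1 ≤ y ⁻¹ᵁ U)
    (hcov : ∀ p : Y, y p ∈ U → ∃ V ∈ 𝒱, p ∈ V.1)
    (hproj : ∀ V (hV : V ∈ 𝒱),
      letI := (y.appLE U V.1 (hle V hV)).hom.toAlgebra; Module.Projective Γ(K, U) Γ(Y, V.1)) :
    ∃ (Z : Scheme.{u}) (j : Z ⟶ X), IsClosedImmersion j ∧
      ∀ {T : Scheme.{u}} (t : T ⟶ K) (ξ : T ⟶ X) (h : ξ ≫ x₀ = t),
        FixE y x₀ ε t ξ h ↔ ∃ z : T ⟶ Z, z ≫ j = ξ := by
  have hD : DescProp y x₀ ε := descProp_of_projective hU hx 𝒱 hle hcov hproj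
  obtain ⟨Z, j, hj, hfix, huniv⟩ := exists_closedImmersion_fixE (ε := ε) hD
  refine ⟨Z, j, hj, fun t ξ h => ⟨fun hf => huniv t ξ h hf, ?_⟩⟩
  rintro ⟨z, rfl⟩
  exact FixE.of_eq (hfix.precomp z t (by rw [← h, Category.assoc])) rfl rfl

/-- Zariski-locally projective case. -/
theorem exists_closed_fixE (y : Y ⟶ K) (x₀ : X ⟶ K) (ε : E ⟶ pullback y x₀)
    [IsClosedImmersion ε] (hloc : LocProj y) :
    ∃ (Z : Scheme.{u}) (j : Z ⟶ X), IsClosedImmersion j ∧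
      ∀ {T : Scheme.{u}} (t : T ⟶ K) (ξ : T ⟶ X) (h : ξ ≫ x₀ = t),
        FixE y x₀ ε t ξ h ↔ ∃ z : T ⟶ Z, z ≫ j = ξ := by
  choose U hsU hUaff 𝒱 hcov hproj using hloc
  let 𝒰 : X.OpenCover :=
    { I₀ := K
      X := fun s => (x₀ ⁻¹ᵁ (U s)).toScheme
      f := fun s => (x₀ ⁻¹ᵁ (U s)).ι
      mem₀ := by
        rw [Scheme.ofArrows_mem_precoverage_iff]
        exact ⟨fun p => ⟨x₀ p, ⟨p, hsU _⟩, rfl⟩, fun s => inferInstance⟩ }
  have hf : Presieve.ofArrows 𝒰.X 𝒰.f ∈ Scheme.fpqcPrecoverage X :=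
    Scheme.zariskiPrecoverage_le_fpqcPrecoverage _ 𝒰.mem₀
  let F : ∀ ⦃T : Scheme.{u}⦄, (T ⟶ X) → Prop := fun T ξ => FixE y x₀ ε (ξ ≫ x₀) ξ rfl
  have F1 : ∀ ⦃T T' : Scheme.{u}⦄ (g : T' ⟶ T) (ξ : T ⟶ X), F ξ → F (g ≫ ξ) := fun T T' g ξ hξ =>
    FixE.of_eq (hξ.precomp g (g ≫ ξ ≫ x₀) rfl) (Category.assoc _ _ _).symm rfl
  have F2 : ∀ ⦃T : Scheme.{u}⦄ (ξ : T ⟶ X),
      (∀ s, F (pullback.snd (𝒰.f s) ξ ≫ ξ)) → F ξ := fun T ξ H =>
    FixE.of_openCover (ξ ≫ x₀) ξ rfl (𝒰.pullback₂ ξ) (fun s =>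
      FixE.of_eq (H s) (Category.assoc _ _ _) rfl)
  have F3 : ∀ s, ∃ (Z : Scheme.{u}) (j : Z ⟶ 𝒰.X s), IsClosedImmersion j ∧
      ∀ ⦃T : Scheme.{u}⦄ (ξ : T ⟶ 𝒰.X s), F (ξ ≫ 𝒰.f s) ↔ ∃ z : T ⟶ Z, z ≫ j = ξ := by
    intro s
    have hx : ∀ p : 𝒰.X s, (𝒰.f s ≫ x₀) p ∈ U s := by
      intro p
      rw [Scheme.Hom.comp_apply]
      exact p.2
    obtain ⟨Z, j, hj, hZ⟩ := exists_closed_fixE_local y (𝒰.f s ≫ x₀)
      (pullback.fst (pm y x₀ (𝒰.f s ≫ x₀) (𝒰.f s) rfl) ε) (hUaff s) hx (𝒱 s)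
      (fun V hV => (hproj s V hV).1) (hcov s) (fun V hV => (hproj s V hV).2)
    refine ⟨Z, j, hj, fun T ξ => ?_⟩
    rw [← hZ ((ξ ≫ 𝒰.f s) ≫ x₀) ξ (Category.assoc _ _ _).symm]
    exact (fixE_restrict_iff (𝒰.f s) _ ξ (Category.assoc _ _ _).symm).symm
  obtain ⟨Z, j, hj, hZ⟩ := exists_closed_of_local 𝒰.f hf F F1 F2 F3
  refine ⟨Z, j, hj, fun t ξ h => ?_⟩
  rw [← hZ]
  exact ⟨fun hh => FixE.of_eq hh h.symm rfl, fun hh => FixE.of_eq hh h rfl⟩

/-- `FixE` is local on `T` for the fpqc topology. -/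
theorem fixE_of_fpqc {y : Y ⟶ K} {x₀ : X ⟶ K} {ε : E ⟶ pullback y x₀} [Mono ε]
    {T : Scheme.{u}} (t : T ⟶ K) (ξ : T ⟶ X) (h : ξ ≫ x₀ = t)
    (R : Presieve T) (hR : R ∈ Scheme.fpqcPrecoverage T)
    (H : ∀ ⦃T' : Scheme.{u}⦄ (τ : T' ⟶ T), R τ →
      FixE y x₀ ε (τ ≫ t) (τ ≫ ξ) (by rw [Category.assoc, h])) :
    FixE y x₀ ε t ξ h := by
  unfold FixE
  refine factors_of_fpqc ε _ _ (Precoverage.pullbackArrows_mem (pullback.snd y t) hR) ?_
  rintro Q _ ⟨T', τ, hτ⟩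
  obtain ⟨l, hl⟩ := H τ hτ
  rw [pm_comp t ξ h τ (τ ≫ t) rfl] at hl
  have hc : pullback.snd τ (pullback.snd y t) =
      pullback.lift (pullback.snd τ (pullback.snd y t) ≫ pullback.fst y t)
        (pullback.fst τ (pullback.snd y t)) (by
          rw [Category.assoc, pullback.condition, ← Category.assoc, ← pullback.condition,
            Category.assoc]) ≫
      pullback.map y (τ ≫ t) y t (𝟙 _) τ (𝟙 K) (by simp) (by simp) := by
    apply pullback.hom_ext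
    · rw [Category.assoc, pullback.lift_fst, Category.comp_id, pullback.lift_fst]
    · rw [Category.assoc, pullback.lift_snd, ← Category.assoc, pullback.lift_snd, pullback.condition]
  refine ⟨pullback.lift (pullback.snd τ (pullback.snd y t) ≫ pullback.fst y t)
        (pullback.fst τ (pullback.snd y t)) (by
          rw [Category.assoc, pullback.condition, ← Category.assoc, ← pullback.condition,
            Category.assoc]) ≫ l, ?_⟩
  rw [Category.assoc, hl, ← Category.assoc, ← hc]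

section BC

variable {Kk : Scheme.{u}} {g : Kk ⟶ K} {y : Y ⟶ K} {x₀ : X ⟶ K} {ε : E ⟶ pullback y x₀}

theorem fixE_bc_iff {T : Scheme.{u}} (ξ : T ⟶ pullback g x₀) (t' : T ⟶ Kk)
    (ht' : ξ ≫ pullback.fst g x₀ = t') (ξ' : T ⟶ X) (hξ' : ξ ≫ pullback.snd g x₀ = ξ')
    (t : T ⟶ K) (ht : ξ' ≫ x₀ = t) :
    FixE (pullback.snd y g) (pullback.fst g x₀) (pullback.fst (θ y x₀ g) ε) t' ξ ht' ↔
      FixE y x₀ ε t ξ' ht := by
  have hcond : pullback.fst g x₀ ≫ g = pullback.snd g x₀ ≫ x₀ := pullback.condition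
  have htg : t' ≫ g = t := by
    rw [← ht', ← ht, ← hξ', Category.assoc, Category.assoc, hcond]
  let c : pullback (pullback.snd y g) t' ⟶ pullback y t :=
    pullback.lift (pullback.fst _ _ ≫ pullback.fst y g) (pullback.snd _ _) (by
      rw [Category.assoc, pullback.condition, ← Category.assoc, pullback.condition, Category.assoc,
        htg])
  let d : pullback y t ⟶ pullback (pullback.snd y g) t' :=
    pullback.lift (pullback.lift (pullback.fst _ _) (pullback.snd _ _ ≫ t') (by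
      rw [pullback.condition, Category.assoc, htg])) (pullback.snd _ _) (by
      rw [pullback.lift_snd])
  have hdc : d ≫ c = 𝟙 _ := by
    apply pullback.hom_ext
    · rw [Category.assoc, pullback.lift_fst, ← Category.assoc, pullback.lift_fst,
        pullback.lift_fst, Category.id_comp]
    · rw [Category.assoc, pullback.lift_snd, pullback.lift_snd, Category.id_comp]
  have hc : c ≫ pm y x₀ t ξ' ht =
      pm (pullback.snd y g) (pullback.fst g x₀) t' ξ ht' ≫ θ y x₀ g := by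
    apply pullback.hom_ext
    · simp only [pm, θ, pullback.map, Category.assoc, pullback.lift_fst, Category.comp_id]
      rw [pullback.lift_fst_assoc]
      exact pullback.lift_fst _ _ _
    · simp only [pm, θ, pullback.map, Category.assoc, pullback.lift_snd]
      rw [pullback.lift_snd_assoc, pullback.lift_snd_assoc, Category.assoc, hξ']
  constructor
  · rintro ⟨l', hl'⟩
    refine ⟨d ≫ l' ≫ pullback.snd _ _, ?_⟩
    rw [Category.assoc, Category.assoc, ← pullback.condition, ← Category.assoc l', hl', ← hc,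
      ← Category.assoc, hdc, Category.id_comp]
  · rintro ⟨l, hl⟩
    exact ⟨pullback.lift (pm (pullback.snd y g) (pullback.fst g x₀) t' ξ ht') (c ≫ l) (by
      rw [Category.assoc, hl, hc]), pullback.lift_fst _ _ _⟩

end BC

/-- **Representability of `FixE` by a closed subscheme, fpqc-locally (Zariski-locally projective)
case**, with the finite presentation clause. -/
theorem exists_closed_fixE_fpqc {ι : Type u} (y : Y ⟶ K) (x₀ : X ⟶ K)
    (ε : E ⟶ pullback y x₀) [IsClosedImmersion ε] {Kk : ι → Scheme.{u}} (g : ∀ k, Kk k ⟶ K)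
    (hg : Presieve.ofArrows Kk g ∈ Scheme.fpqcPrecoverage K)
    (hloc : ∀ k, LocProj (pullback.snd y (g k))) :
    ∃ (Z : Scheme.{u}) (j : Z ⟶ X), IsClosedImmersion j ∧
      (∀ {T : Scheme.{u}} (t : T ⟶ K) (ξ : T ⟶ X) (h : ξ ≫ x₀ = t),
        FixE y x₀ ε t ξ h ↔ ∃ z : T ⟶ Z, z ≫ j = ξ) ∧
      (QuasiCompact y → LocallyOfFinitePresentation ε → LocallyOfFinitePresentation j) := by
  have hf : Presieve.ofArrows (fun k => pullback (g k) x₀) (fun k => pullback.snd (g k) x₀) ∈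
      Scheme.fpqcPrecoverage X := by
    rw [Presieve.ofArrows_pullback]
    exact Precoverage.pullbackArrows_mem x₀ hg
  let F : ∀ ⦃T : Scheme.{u}⦄, (T ⟶ X) → Prop := fun T ξ => FixE y x₀ ε (ξ ≫ x₀) ξ rfl
  have F1 : ∀ ⦃T T' : Scheme.{u}⦄ (g : T' ⟶ T) (ξ : T ⟶ X), F ξ → F (g ≫ ξ) := fun T T' g ξ hξ =>
    FixE.of_eq (hξ.precomp g (g ≫ ξ ≫ x₀) rfl) (Category.assoc _ _ _).symm rfl
  have F2 : ∀ ⦃T : Scheme.{u}⦄ (ξ : T ⟶ X),
      (∀ k, F (pullback.snd (pullback.snd (g k) x₀) ξ ≫ ξ)) → F ξ := fun T ξ H => by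
    refine fixE_of_fpqc (ξ ≫ x₀) ξ rfl _ (Precoverage.pullbackArrows_mem ξ hf) ?_
    rintro T' _ ⟨_, _, ⟨k⟩⟩
    exact FixE.of_eq (H k) (Category.assoc _ _ _) rfl
  have F3 : ∀ k, ∃ (Z : Scheme.{u}) (j : Z ⟶ pullback (g k) x₀), IsClosedImmersion j ∧
      ∀ ⦃T : Scheme.{u}⦄ (ξ : T ⟶ pullback (g k) x₀),
        F (ξ ≫ pullback.snd (g k) x₀) ↔ ∃ z : T ⟶ Z, z ≫ j = ξ := by
    intro k
    obtain ⟨Z, j, hj, hZ⟩ := exists_closed_fixE (pullback.snd y (g k)) (pullback.fst (g k) x₀)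
      (pullback.fst (θ y x₀ (g k)) ε) (hloc k)
    refine ⟨Z, j, hj, fun T ξ => ?_⟩
    rw [← hZ (ξ ≫ pullback.fst (g k) x₀) ξ rfl]
    exact (fixE_bc_iff ξ _ rfl _ rfl _ rfl).symm
  obtain ⟨Z, j, hj, hZ⟩ := exists_closed_of_local _ hf F F1 F2 F3
  have hZ' : ∀ {T : Scheme.{u}} (t : T ⟶ K) (ξ : T ⟶ X) (h : ξ ≫ x₀ = t),
      FixE y x₀ ε t ξ h ↔ ∃ z : T ⟶ Z, z ≫ j = ξ := by
    intro T t ξ h
    rw [← hZ]
    exact ⟨fun hh => FixE.of_eq hh h.symm rfl, fun hh => FixE.of_eq hh h rfl⟩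
  exact ⟨Z, j, hj, hZ', fun hqc hfp => locallyOfFinitePresentation_of_represents y x₀ ε j hZ'⟩

end Groth.Agent.Lib.Helper15FixEQ
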