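-- helper15: transporters into closed subschemes are closed (Over S form), with finite presentation
import Mathlib
import Groth.Agent.Lib.Helper15FixEQ
import Groth.Agent.Lib.Helper15LocProjBC

set_option autoImplicit false
universe u
open CategoryTheory CategoryTheory.Limits AlgebraicGeometry MonoidalCategory CartesianMonoidalCategory

namespace Groth.Agent.Lib.Helper15TranspOver

open Groth.Agent.Lib.Helper11FixSch Groth.Agent.Lib.Helper11FixGen
  Groth.Agent.Lib.Helper15FixLocP Groth.Agent.Lib.Helper15FixEQ Groth.Agent.Lib.Helper15LocProjBC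

variable {S : Scheme.{u}}

/-- all points `(g, y)` are carried into `W'` by `α` iff the universal one is. -/
theorem transp_iff {G Y W W' : Over S} (α : G ⊗ Y ⟶ W) (w : W' ⟶ W) {T : Over S} (y : T ⟶ Y) :
    (∀ (T' : Over S) (t : T' ⟶ T) (g : T' ⟶ G), ∃ a' : T' ⟶ W', lift g (t ≫ y) ≫ α = a' ≫ w) ↔
      ∃ a : G ⊗ T ⟶ W', a ≫ w = (G ◁ y) ≫ α := by
  constructor
  · intro h
    obtain ⟨a', ha'⟩ := h (G ⊗ T) (snd G T) (fst G T)
    have h2 : lift (fst G T) (snd G T ≫ y) = G ◁ y := by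
      apply CartesianMonoidalCategory.hom_ext <;> simp
    rw [h2] at ha'
    exact ⟨a', ha'.symm⟩
  · rintro ⟨a, ha⟩ T' t g
    refine ⟨lift g t ≫ a, ?_⟩
    have h1 : lift g (t ≫ y) = lift g t ≫ (G ◁ y) := by
      rw [lift_whiskerLeft]
    rw [h1, Category.assoc, Category.assoc, ha]

theorem fixE_over_iff (G Y W W' : Over S) (α : G ⊗ Y ⟶ W) (w : W' ⟶ W) {T : Over S} (y : T ⟶ Y) :
    (∃ a : G ⊗ T ⟶ W', a ≫ w = (G ◁ y) ≫ α) ↔
      FixE G.hom Y.hom (pullback.fst α.left w.left) T.hom y.left (Over.w y) := by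
  constructor
  · rintro ⟨a, ha⟩
    have ha' : a.left ≫ w.left = pm G.hom Y.hom T.hom y.left (Over.w y) ≫ α.left :=
      congrArg (fun f => f.left) ha
    exact ⟨pullback.lift (pm G.hom Y.hom T.hom y.left (Over.w y)) a.left ha'.symm,
      pullback.lift_fst _ _ _⟩
  · rintro ⟨l, hl⟩
    have h0 : (l ≫ pullback.snd α.left w.left) ≫ w.left =
        pm G.hom Y.hom T.hom y.left (Over.w y) ≫ α.left := by
      rw [Category.assoc, ← pullback.condition, ← Category.assoc, hl]
    have h1 : (l ≫ pullback.snd α.left w.left) ≫ W'.hom = (G ⊗ T).hom := by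
      rw [← Over.w w, ← Category.assoc, h0, Category.assoc, Over.w α]
      exact Over.w (G ◁ y)
    refine ⟨Over.homMk (l ≫ pullback.snd α.left w.left) h1, ?_⟩
    ext1
    exact h0

/-- **Transporters into a closed subscheme, `Over S` form, fpqc-locally on the base.** -/
theorem exists_closed_transporter_over_fpqc (G Y W W' : Over S) (α : G ⊗ Y ⟶ W) (w : W' ⟶ W)
    [IsClosedImmersion w.left] {ι : Type u} {Sk : ι → Scheme.{u}} (g : ∀ k, Sk k ⟶ S)
    (hg : Presieve.ofArrows Sk g ∈ Scheme.fpqcPrecoverage S)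
    (hloc : ∀ k, LocProj (pullback.snd G.hom (g k))) :
    ∃ (Z : Over S) (i : Z ⟶ Y), IsClosedImmersion i.left ∧
      (∀ (T : Over S) (y : T ⟶ Y),
        (∃ a : G ⊗ T ⟶ W', a ≫ w = (G ◁ y) ≫ α) ↔ ∃ z : T ⟶ Z, z ≫ i = y) ∧
      (QuasiCompact G.hom → LocallyOfFinitePresentation w.left →
        LocallyOfFinitePresentation i.left) := by
  obtain ⟨Z, j, hj, hZ, hfp⟩ := exists_closed_fixE_fpqc G.hom Y.hom
    (pullback.fst α.left w.left) g hg hloc
  refine ⟨Over.mk (j ≫ Y.hom), Over.homMk j rfl, hj, fun T y => ?_, fun hqc hw => ?_⟩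
  · rw [fixE_over_iff, hZ]
    constructor
    · rintro ⟨z, hz⟩
      refine ⟨Over.homMk z ?_, ?_⟩
      · change z ≫ j ≫ Y.hom = T.hom
        rw [← Category.assoc, hz, Over.w y]
      · ext1
        exact hz
    · rintro ⟨z, rfl⟩
      exact ⟨z.left, rfl⟩
  · exact hfp hqc inferInstance

/-- **Transporters into a closed subscheme, `Over S` form, Zariski-locally projective.** -/
theorem exists_closed_transporter_over (G Y W W' : Over S) (α : G ⊗ Y ⟶ W) (w : W' ⟶ W)
    [IsClosedImmersion w.left] (hloc : LocProj G.hom) :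
    ∃ (Z : Over S) (i : Z ⟶ Y), IsClosedImmersion i.left ∧
      (∀ (T : Over S) (y : T ⟶ Y),
        (∃ a : G ⊗ T ⟶ W', a ≫ w = (G ◁ y) ≫ α) ↔ ∃ z : T ⟶ Z, z ≫ i = y) ∧
      (QuasiCompact G.hom → LocallyOfFinitePresentation w.left →
        LocallyOfFinitePresentation i.left) := by
  refine exists_closed_transporter_over_fpqc G Y W W' α w (fun _ : PUnit.{u+1} => 𝟙 S) ?_
    (fun _ => LocProj.of_isPullback (IsPullback.of_hasPullback G.hom (𝟙 S)) hloc)
  rw [Presieve.ofArrows_pUnit]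
  exact Scheme.Hom.singleton_mem_fpqcPrecoverage (𝟙 S)

end Groth.Agent.Lib.Helper15TranspOver
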