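-- helper15: coincidence loci over S are closed and of finite presentation (target separated, locally of finite type)
import Mathlib
import Groth.Agent.Lib.Helper15TranspOver
import Groth.Agent.Lib.Helper6LfpComp

set_option autoImplicit false
universe u
open CategoryTheory CategoryTheory.Limits AlgebraicGeometry MonoidalCategory CartesianMonoidalCategory

namespace Groth.Agent.Lib.Helper15CoincFP

open Groth.Agent.Lib.Helper15FixLocP Groth.Agent.Lib.Helper15TranspOver

variable {S : Scheme.{u}}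

theorem diag_left_eq (W : Over S) :
    (lift (𝟙 W) (𝟙 W) : W ⟶ W ⊗ W).left = pullback.diagonal W.hom := by
  apply pullback.hom_ext
  · have h1 : (lift (𝟙 W) (𝟙 W) ≫ fst W W).left = (𝟙 W : W ⟶ W).left := by rw [lift_fst]
    rw [pullback.diagonal_fst]
    exact h1
  · have h1 : (lift (𝟙 W) (𝟙 W) ≫ snd W W).left = (𝟙 W : W ⟶ W).left := by rw [lift_snd]
    rw [pullback.diagonal_snd]
    exact h1

instance isClosedImmersion_diag (W : Over S) [IsSeparated W.hom] :
    IsClosedImmersion (lift (𝟙 W) (𝟙 W) : W ⟶ W ⊗ W).left := by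
  rw [diag_left_eq]
  infer_instance

theorem lofp_diag (W : Over S) [LocallyOfFiniteType W.hom] :
    LocallyOfFinitePresentation (lift (𝟙 W) (𝟙 W) : W ⟶ W ⊗ W).left := by
  rw [diag_left_eq]
  refine Groth.Agent.Lib.Helper6.locallyOfFinitePresentation_of_comp
    (g := pullback.fst W.hom W.hom) inferInstance ?_
  rw [pullback.diagonal_fst]
  infer_instance

theorem coinc_iff_diag {G Y W : Over S} (α β : G ⊗ Y ⟶ W) {T : Over S} (y : T ⟶ Y) :
    (∃ a : G ⊗ T ⟶ W, a ≫ lift (𝟙 W) (𝟙 W) = (G ◁ y) ≫ lift α β) ↔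
      (G ◁ y) ≫ α = (G ◁ y) ≫ β := by
  constructor
  · rintro ⟨a, ha⟩
    have h1 := congrArg (· ≫ fst W W) ha
    have h2 := congrArg (· ≫ snd W W) ha
    simp only [Category.assoc, lift_fst, lift_snd, Category.comp_id] at h1 h2
    rw [← h1, ← h2]
  · intro h
    refine ⟨(G ◁ y) ≫ α, ?_⟩
    apply CartesianMonoidalCategory.hom_ext
    · simp
    · simp [h]

/-- **Coincidence loci, `Over S` form, fpqc-locally projective, with finite presentation.** -/
theorem exists_closed_coincidence_over_fpqc_fp (G Y W : Over S) (α β : G ⊗ Y ⟶ W)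
    [IsSeparated W.hom] [LocallyOfFiniteType W.hom] {ι : Type u} {Sk : ι → Scheme.{u}}
    (g : ∀ k, Sk k ⟶ S) (hg : Presieve.ofArrows Sk g ∈ Scheme.fpqcPrecoverage S)
    (hloc : ∀ k, LocProj (pullback.snd G.hom (g k))) :
    ∃ (Z : Over S) (i : Z ⟶ Y), IsClosedImmersion i.left ∧
      (∀ (T : Over S) (y : T ⟶ Y), (G ◁ y) ≫ α = (G ◁ y) ≫ β ↔ ∃ z : T ⟶ Z, z ≫ i = y) ∧
      (QuasiCompact G.hom → LocallyOfFinitePresentation i.left) := by
  obtain ⟨Z, i, hi, hZ, hfp⟩ := exists_closed_transporter_over_fpqc G Y (W ⊗ W) W (lift α β)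
    (lift (𝟙 W) (𝟙 W)) g hg hloc
  exact ⟨Z, i, hi, fun T y => by rw [← hZ, coinc_iff_diag], fun hqc => hfp hqc (lofp_diag W)⟩

/-- **Coincidence loci, `Over S` form, Zariski-locally projective, with finite presentation.** -/
theorem exists_closed_coincidence_over_fp (G Y W : Over S) (α β : G ⊗ Y ⟶ W)
    [IsSeparated W.hom] [LocallyOfFiniteType W.hom] (hloc : LocProj G.hom) :
    ∃ (Z : Over S) (i : Z ⟶ Y), IsClosedImmersion i.left ∧
      (∀ (T : Over S) (y : T ⟶ Y), (G ◁ y) ≫ α = (G ◁ y) ≫ β ↔ ∃ z : T ⟶ Z, z ≫ i = y) ∧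
      (QuasiCompact G.hom → LocallyOfFinitePresentation i.left) := by
  obtain ⟨Z, i, hi, hZ, hfp⟩ := exists_closed_transporter_over G Y (W ⊗ W) W (lift α β)
    (lift (𝟙 W) (𝟙 W)) hloc
  exact ⟨Z, i, hi, fun T y => by rw [← hZ, coinc_iff_diag], fun hqc => hfp hqc (lofp_diag W)⟩

end Groth.Agent.Lib.Helper15CoincFP
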