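import Groth.Agent.Lib.Helper15LinTop
import Mathlib.Topology.Algebra.UniformRing

/-!
Completion of a linearly topologized commutative ring: closures of images of open ideals.
-/

set_option autoImplicit false

namespace Groth.Agent.Lib.Helper15

open Topology Filter UniformSpace

section DenseRange

variable {A B : Type*} [CommRing A] [CommRing B] [TopologicalSpace B] [IsTopologicalRing B]

/-- for a ring hom with dense range, the closure of the image of an ideal is the closure of
the ideal generated by that image -/
theorem coe_closure_map_eq_of_denseRange (φ : A →+* B) (hd : DenseRange φ) (I : Ideal A) :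
    (((I.map φ).closure : Ideal B) : Set B) = closure (φ '' (I : Set A)) := by
  apply Set.Subset.antisymm
  · rw [Ideal.coe_closure]
    apply closure_minimal _ _root_.isClosed_closure
    intro y hy
    set C : Set B := closure (φ '' (I : Set A)) with hC
    have hadd : ∀ x ∈ C, ∀ y ∈ C, x + y ∈ C := by
      intro x hx y hy
      refine map_mem_closure₂ continuous_add hx hy ?_
      rintro _ ⟨a, ha, rfl⟩ _ ⟨b, hb, rfl⟩
      exact ⟨a + b, I.add_mem ha hb, map_add φ a b⟩
    have hsmul : ∀ (b : B), ∀ x ∈ C, b * x ∈ C := by
      intro b x hx
      have hcl : IsClosed {b : B | b * x ∈ C} :=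
        _root_.isClosed_closure.preimage (continuous_id.mul continuous_const)
      have hsub : Set.range φ ⊆ {b : B | b * x ∈ C} := by
        rintro _ ⟨a, rfl⟩
        refine map_mem_closure (continuous_const.mul continuous_id) hx ?_
        rintro _ ⟨i, hi, rfl⟩
        exact ⟨a * i, I.mul_mem_left a hi, map_mul φ a i⟩
      have : closure (Set.range φ) ⊆ {b : B | b * x ∈ C} := closure_minimal hsub hcl
      exact this (hd b)
    refine Submodule.span_induction (p := fun y _ => y ∈ C) ?_ ?_ ?_ ?_ hy
    · intro x hx
      exact subset_closure hx
    · exact subset_closure ⟨0, I.zero_mem, map_zero φ⟩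
    · intro x y _ _ hx hy
      exact hadd x hx y hy
    · intro b x _ hx
      exact hsmul b x hx
  · rw [Ideal.coe_closure]
    apply _root_.closure_mono
    rintro _ ⟨a, ha, rfl⟩
    exact Ideal.mem_map_of_mem φ ha

end DenseRange

section Ring

variable {A : Type*} [CommRing A] [UniformSpace A] [IsUniformAddGroup A] [IsTopologicalRing A]

theorem coe_closure_map_coeRingHom (I : Ideal A) :
    (((I.map (Completion.coeRingHom : A →+* Completion A)).closure : Ideal (Completion A)) :
      Set (Completion A)) = closure (((↑) : A → Completion A) '' (I : Set A)) :=
  coe_closure_map_eq_of_denseRange (Completion.coeRingHom : A →+* Completion A)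
    Completion.denseRange_coe I

theorem isOpen_closure_map_coeRingHom {I : Ideal A} (hI : IsOpen (I : Set A)) :
    IsOpen (((I.map (Completion.coeRingHom : A →+* Completion A)).closure :
      Ideal (Completion A)) : Set (Completion A)) := by
  have h1 : closure (((↑) : A → Completion A) '' (I : Set A)) ∈ 𝓝 (((0 : A) : Completion A)) :=
    Completion.isDenseInducing_coe.closure_image_mem_nhds (hI.mem_nhds I.zero_mem)
  rw [← coe_closure_map_coeRingHom, Completion.coe_zero] at h1
  exact AddSubgroup.isOpen_of_mem_nhds
    ((I.map (Completion.coeRingHom : A →+* Completion A)).closure).toAddSubgroup h1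

variable [IsLinearTopology A A]

theorem hasBasis_nhds_zero_completion :
    (𝓝 (0 : Completion A)).HasBasis (fun I : Ideal A => IsOpen (I : Set A))
      (fun I => (((I.map (Completion.coeRingHom : A →+* Completion A)).closure :
        Ideal (Completion A)) : Set (Completion A))) := by
  have h := (IsLinearTopology.hasBasis_open_ideal (R := A)).hasBasis_of_isDenseInducing
    (Completion.isDenseInducing_coe (α := A))
  rw [Completion.coe_zero] at h
  simp_rw [← coe_closure_map_coeRingHom] at h
  exact h

instance isLinearTopology_completion : IsLinearTopology (Completion A) (Completion A) :=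
  IsLinearTopology.mk_of_hasBasis (Completion A) hasBasis_nhds_zero_completion

theorem isTaut_coeRingHom :
    LinTop.IsTaut (Completion.coeRingHom : A →+* Completion A) := by
  refine ⟨Completion.continuous_coeRingHom, fun I hI => ?_, fun U hU => ?_⟩
  · exact isOpen_closure_map_coeRingHom hI
  · obtain ⟨I, hI, hIU⟩ := hasBasis_nhds_zero_completion.mem_iff.1 hU
    exact ⟨I, hI, hIU⟩

omit [IsLinearTopology A A] in
/-- the preimage of the closure of the image of a closed ideal is the ideal -/
theorem comap_closure_map_coeRingHom {I : Ideal A} (hI : IsClosed (I : Set A)) :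
    ((I.map (Completion.coeRingHom : A →+* Completion A)).closure).comap
      (Completion.coeRingHom : A →+* Completion A) = I := by
  ext x
  rw [Ideal.mem_comap, ← SetLike.mem_coe, coe_closure_map_coeRingHom]
  have h := Completion.isDenseInducing_coe.isInducing.closure_eq_preimage_closure_image
    (I : Set A)
  rw [hI.closure_eq] at h
  constructor
  · intro hx
    rw [← SetLike.mem_coe, h]
    exact hx
  · intro hx
    rw [← SetLike.mem_coe, h] at hx
    exact hx

end Ring

end Groth.Agent.Lib.Helper15
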