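-- helper15: conjugation action and centrality modulo a nilpotent ideal
import Mathlib
import Groth.Agent.Lib.Helper15DiagRigidLoc
set_option autoImplicit false
universe u
open CategoryTheory CategoryTheory.Limits AlgebraicGeometry MonoidalCategory CartesianMonoidalCategory
  MonObj GrpObj

namespace Groth.Agent.Lib.Helper15ConjAct

variable {S : Scheme.{u}} (H : Over S) [GrpObj H]

/-- the conjugation action of a group on itself. -/
noncomputable def conjAction : AlgGrp.Action H H where
  act := fst H H * snd H H * (fst H H)⁻¹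
  one_act := by
    rw [MonObj.comp_mul, MonObj.comp_mul, GrpObj.comp_inv, whiskerRight_fst, whiskerRight_snd,
      MonObj.one_eq_one, MonObj.comp_one, _root_.one_mul, inv_one, _root_.mul_one, leftUnitor_hom]
  mul_act := by
    simp only [MonObj.comp_mul, GrpObj.comp_inv, whiskerRight_fst, whiskerRight_snd,
      whiskerLeft_fst, whiskerLeft_snd, associator_hom_fst,
      associator_hom_snd_fst, associator_hom_snd_snd, MonObj.mul_eq_mul, _root_.mul_inv_rev,
      _root_.mul_assoc]

lemma lift_conjAction_act {Y : Over S} (g h : Y ⟶ H) :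
    lift g h ≫ (conjAction H).act = g * h * g⁻¹ := by
  unfold conjAction
  rw [MonObj.comp_mul, MonObj.comp_mul, GrpObj.comp_inv, lift_fst, lift_snd]

variable {H}

/-- **Centrality modulo a locally nilpotent ideal implies centrality**, for a homomorphism from a
group of multiplicative type. -/
theorem central_of_central_mod {S₀ : Scheme.{u}} (i₀ : S₀ ⟶ S) [IsClosedImmersion i₀]
    (hnil : ∀ x : S, ∃ U : S.affineOpens, x ∈ (U : S.Opens) ∧ IsNilpotent (i₀.ker.ideal U))
    (G : Over S) [GrpObj G]
    (hG : TwC.Locally S TwC.Topology.fpqc (fun S' f => ∃ (M : Type) (_ : AddCommGroup M),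
      Nonempty (Grp.mk (Red.bc f G) ≅ Grp.mk (Red.DS S' M))))
    (u : G ⟶ H) [IsMonHom u]
    (h0 : ∀ (Y : Over S) (_ : Y ⟶ Over.mk i₀) (g : Y ⟶ G) (h : Y ⟶ H),
      (g ≫ u) * h = h * (g ≫ u))
    (Y : Over S) (g : Y ⟶ G) (h : Y ⟶ H) : (g ≫ u) * h = h * (g ≫ u) := by
  have key := Groth.Agent.Lib.Helper15DiagRigidLoc.act_eq_of_locally i₀ hnil G H
    ((conjAction H).restrict u) (fun Y' p g' h' => by
      rw [AlgGrp.Action.lift_restrict_act, lift_conjAction_act, h0 Y' p g' h']
      exact mul_inv_cancel_right _ _) hG Y g h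
  rw [AlgGrp.Action.lift_restrict_act, lift_conjAction_act] at key
  exact mul_inv_eq_iff_eq_mul.mp key

end Groth.Agent.Lib.Helper15ConjAct
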