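-- helper15: smooth groupoid chart of an algebraic stack, and a points lemma.
import Mathlib
import Groth.Agent.Lib.Helper15OpenImage

set_option autoImplicit false
set_option backward.isDefEq.respectTransparency false
set_option backward.isDefEq.respectTransparency.types false
open CategoryTheory CategoryTheory.Functor CategoryTheory.Limits Opposite AlgebraicGeometry

universe u

namespace Groth.Agent.Lib.Helper15LOChart

open Groth.Agent.Lib.Helper17 Groth.Agent.Lib.Helper15PshFib Groth.Agent.Lib.Helper15RepComp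
  Groth.Agent.Lib.Helper15RepPsh Groth.Agent.Lib.Helper15DiagBase Groth.Agent.Lib.Helper15DiagRepSp
  Groth.Agent.Lib.Helper15Descent Groth.Agent.Lib.Helper15DiagLft
  Groth.Agent.Lib.Helper15DiagDescent Groth.Agent.Lib.Helper15SpMapRep
  Groth.Agent.Lib.Helper15SrcCancel Groth.Agent.Lib.Helper15ChartSp Groth.Agent.Lib.Helper15Atlas
  Groth.Agent.Lib.Helper15LocEss Groth.Agent.Lib.Helper15UnivComp Groth.Agent.Lib.Helper15SmLoc
  Groth.Agent.Lib.Helper15PtsComp Groth.Agent.Lib.Helper15PtsTop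
  Groth.Agent.Lib.Helper15BaseChange

section Pts

variable {S : Scheme.{u}} {𝒳 𝒴 : AlgSt.Cat S}

/-- Two functors induce the same map on points as soon as there is, objectwise, a morphism from
the value of the first to the value of the second. -/
theorem points_map_eq_of_forall_hom (F F' : 𝒳 ⥤ᵇ 𝒴)
    (h : ∀ x : 𝒳.obj, Nonempty (F.obj x ⟶ F'.obj x)) (t : AlgSt.Points 𝒳) :
    AlgSt.Points.map F t = AlgSt.Points.map F' t := by
  obtain ⟨p, rfl⟩ := AlgSt.Points.mk_surjective t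
  rw [AlgSt.Points.map_mk, AlgSt.Points.map_mk]
  apply AlgSt.Points.sound
  obtain ⟨m⟩ := h p.obj
  exact ⟨p.map F, 𝟙 _, m, trivial⟩

end Pts

section Chart

variable {S : Scheme.{u}} {𝒴 : AlgSt.Cat S}

/-- The smooth groupoid chart attached to a smooth chart of an algebraic stack. -/
theorem exists_smooth_groupoid_chart {V₀ : Over S}
    (y₀ : FibCat.overCat V₀ ⥤ᵇ 𝒴) (hy₀ : AlgSt.RepByAlgSpWith (AlgSp.LocP @Smooth) y₀) :
    ∃ (U₁ : Over S) (p₁ p₂ : U₁ ⟶ V₀)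
      (κ : BasedFunctor.comp (AlgSt.overMap p₁) y₀ ≅ BasedFunctor.comp (AlgSt.overMap p₂) y₀),
      Smooth p₁.left ∧ Smooth p₂.left ∧
      Function.Surjective
        (AlgSt.Points.map (FibCat.fpLift (AlgSt.overMap p₁) (AlgSt.overMap p₂) κ)) := by
  obtain ⟨F, e, he, -⟩ := hy₀ V₀ y₀
  have hp₁ : AlgSp.LocP @Smooth
      (AlgSt.spMapOfOver (BasedFunctor.comp e (FibCat.fpFst y₀ y₀))) :=
    prop_spMapOfOver_of_repByAlgSpWith _ bcStable_smooth (FibCat.fpFst y₀ y₀)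
      (repByAlgSpWith_fpFst _ y₀ y₀ hy₀) F e he
  have hp₂ : AlgSp.LocP @Smooth
      (AlgSt.spMapOfOver (BasedFunctor.comp e (FibCat.fpSnd y₀ y₀))) :=
    prop_spMapOfOver_of_repByAlgSpWith _ bcStable_smooth (FibCat.fpSnd y₀ y₀)
      (repByAlgSpWith_fpSnd _ y₀ y₀ hy₀) F e he
  obtain ⟨W, s, hse, hss⟩ := F.property.atlas
  let Ψ₁ : AlgSt.ofSp F.obj ⥤ᵇ FibCat.overCat V₀ := BasedFunctor.comp e (FibCat.fpFst y₀ y₀)
  let Ψ₂ : AlgSt.ofSp F.obj ⥤ᵇ FibCat.overCat V₀ := BasedFunctor.comp e (FibCat.fpSnd y₀ y₀)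
  obtain ⟨h₁, hh₁⟩ := (AlgSp.yon S).map_surjective (s ≫ AlgSt.spMapOfOver Ψ₁)
  obtain ⟨h₂, hh₂⟩ := (AlgSp.yon S).map_surjective (s ≫ AlgSt.spMapOfOver Ψ₂)
  let A : FibCat.overCat W ⥤ᵇ AlgSt.ofSp F.obj :=
    BasedFunctor.comp (AlgSt.ofOverCat W) (AlgSt.ofSpMap s)
  have hA : ∀ c : Over W, pshSec A c =
      s.hom.app _ (⟨c.hom⟩ : ((AlgSp.yon S).obj W).obj.obj (op c.left)) := by
    intro c
    change pshSec (BasedFunctor.comp (AlgSt.ofOverCat W) (Stk.ofPshMap s.hom)) c = _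
    rw [pshSec_comp_ofPshMap, pshSec_ofOverCat]
    rfl
  let lam₁ : BasedFunctor.comp A Ψ₁ ≅ AlgSt.overMap h₁ := isoOfOverCat (fun c => by
    rw [ovSec_pshSec, ovSec_overMap, ovSec_eq_spMapOfOver, hA]
    change ((s ≫ AlgSt.spMapOfOver Ψ₁).hom.app (op c.left) ⟨c.hom⟩).down = c.hom ≫ h₁
    rw [← hh₁]
    rfl)
  let lam₂ : BasedFunctor.comp A Ψ₂ ≅ AlgSt.overMap h₂ := isoOfOverCat (fun c => by
    rw [ovSec_pshSec, ovSec_overMap, ovSec_eq_spMapOfOver, hA]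
    change ((s ≫ AlgSt.spMapOfOver Ψ₂).hom.app (op c.left) ⟨c.hom⟩).down = c.hom ≫ h₂
    rw [← hh₂]
    rfl)
  let κ : BasedFunctor.comp (AlgSt.overMap h₁) y₀ ≅ BasedFunctor.comp (AlgSt.overMap h₂) y₀ :=
    (whiskerRightIso lam₁ y₀).symm ≪≫
    (whiskerLeftIso (BasedFunctor.comp A e) (FibCat.fpIso y₀ y₀) :
      BasedFunctor.comp (BasedFunctor.comp A Ψ₁) y₀ ≅ BasedFunctor.comp (BasedFunctor.comp A Ψ₂) y₀) ≪≫
    whiskerRightIso lam₂ y₀
  refine ⟨W, h₁, h₂, κ, ?_, ?_, ?_⟩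
  · exact hp₁ s (𝟙 _) h₁ hse (AlgSp.repWith_id _ V₀) (by rw [Category.comp_id, hh₁])
  · exact hp₂ s (𝟙 _) h₂ hse (AlgSp.repWith_id _ V₀) (by rw [Category.comp_id, hh₂])
  · -- the lift is isomorphic to `A ⋙ e`
    let c := FibCat.fpLift (AlgSt.overMap h₁) (AlgSt.overMap h₂) κ
    have hc : ∀ t, AlgSt.Points.map c t = AlgSt.Points.map (BasedFunctor.comp A e) t := by
      intro t
      apply points_map_eq_of_forall_hom
      intro x
      refine ⟨ObjectProperty.homMk ⟨(bApp lam₁ x).inv, (bApp lam₂ x).inv, ?_⟩⟩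
      have hκ : (c.obj x).obj.iso.hom = y₀.map (bApp lam₁ x).inv ≫
          ((BasedFunctor.comp A e).obj x).obj.iso.hom ≫ y₀.map (bApp lam₂ x).hom := rfl
      rw [hκ]
      change y₀.map (bApp lam₁ x).inv ≫ ((BasedFunctor.comp A e).obj x).obj.iso.hom =
        (y₀.map (bApp lam₁ x).inv ≫ ((BasedFunctor.comp A e).obj x).obj.iso.hom ≫
          y₀.map (bApp lam₂ x).hom) ≫ y₀.map (bApp lam₂ x).inv
      rw [Category.assoc, Category.assoc, ← y₀.toFunctor.map_comp, Iso.hom_inv_id]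
      simp
    intro t
    obtain ⟨t₁, rfl⟩ := points_map_surjective_of_isEquivOver e he t
    obtain ⟨t₂, rfl⟩ := toSt_surjective F.obj t₁
    obtain ⟨t₃, rfl⟩ := isSurjectiveMor_atlas F s hse hss t₂
    obtain ⟨t₄, ht₄⟩ := points_map_surjective_of_isEquivOver (AlgSt.ofOverCat W)
      (isEquivOver_ofOverCat W) (toSt _ t₃)
    refine ⟨t₄, ?_⟩
    rw [hc, points_map_comp, points_map_comp, ht₄, toSt_map]

end Chart

end Groth.Agent.Lib.Helper15LOChart
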