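-- helper15: base change of representing sheaves with the description on points.
import Mathlib
import Groth.Agent.Lib.Helper15LOChart

set_option autoImplicit false
set_option backward.isDefEq.respectTransparency false
set_option backward.isDefEq.respectTransparency.types false
open CategoryTheory CategoryTheory.Functor CategoryTheory.Limits Opposite AlgebraicGeometry

universe u

namespace Groth.Agent.Lib.Helper15LOBase

open Groth.Agent.Lib.Helper17 Groth.Agent.Lib.Helper15PshFib Groth.Agent.Lib.Helper15RepComp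
  Groth.Agent.Lib.Helper15RepPsh Groth.Agent.Lib.Helper15DiagBase Groth.Agent.Lib.Helper15DiagRepSp
  Groth.Agent.Lib.Helper15Descent Groth.Agent.Lib.Helper15DiagLft
  Groth.Agent.Lib.Helper15DiagDescent Groth.Agent.Lib.Helper15SpMapRep
  Groth.Agent.Lib.Helper15SrcCancel Groth.Agent.Lib.Helper15ChartSp Groth.Agent.Lib.Helper15Atlas
  Groth.Agent.Lib.Helper15LocEss Groth.Agent.Lib.Helper15UnivComp Groth.Agent.Lib.Helper15SmLoc
  Groth.Agent.Lib.Helper15PtsComp Groth.Agent.Lib.Helper15PtsTop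
  Groth.Agent.Lib.Helper15BaseChange Groth.Agent.Lib.Helper15LOChart

section Sq

variable {S : Scheme.{u}} {𝒳 𝒴 : AlgSt.Cat S}

theorem points_map_congr_based {𝒜 ℬ : AlgSt.Cat S} (F F' : 𝒜 ⥤ᵇ ℬ) (i : F ≅ F')
    (t : AlgSt.Points 𝒜) : AlgSt.Points.map F t = AlgSt.Points.map F' t :=
  points_map_eq_of_forall_hom F F' (fun x => ⟨(bApp i x).hom⟩) t

/-- The functor on fibre products induced by a morphism of schemes on the first factor. -/
noncomputable def bcFun (f : 𝒳 ⥤ᵇ 𝒴) {U V : Over S} (y : FibCat.overCat U ⥤ᵇ 𝒴) (v : V ⟶ U)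
    (y' : FibCat.overCat V ⥤ᵇ 𝒴) (κ : y' ≅ BasedFunctor.comp (AlgSt.overMap v) y) :
    FibCat.fp y' f ⥤ᵇ FibCat.fp y f :=
  BasedFunctor.comp
    (fpMap (BasedFunctor.comp (AlgSt.overMap v) y) f y' f (BasedFunctor.id _) (BasedFunctor.id _)
      (BasedFunctor.id _) κ (Iso.refl _))
    (fpMap y f (BasedFunctor.comp (AlgSt.overMap v) y) f (AlgSt.overMap v) (BasedFunctor.id _)
      (BasedFunctor.id _) (Iso.refl _) (Iso.refl _))

theorem bcFun_obj_fst (f : 𝒳 ⥤ᵇ 𝒴) {U V : Over S} (y : FibCat.overCat U ⥤ᵇ 𝒴) (v : V ⟶ U)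
    (y' : FibCat.overCat V ⥤ᵇ 𝒴) (κ : y' ≅ BasedFunctor.comp (AlgSt.overMap v) y)
    (z : (FibCat.fp y' f).obj) :
    ((bcFun f y v y' κ).obj z).obj.fst = (AlgSt.overMap v).obj z.obj.fst := rfl

theorem bcFun_obj_snd (f : 𝒳 ⥤ᵇ 𝒴) {U V : Over S} (y : FibCat.overCat U ⥤ᵇ 𝒴) (v : V ⟶ U)
    (y' : FibCat.overCat V ⥤ᵇ 𝒴) (κ : y' ≅ BasedFunctor.comp (AlgSt.overMap v) y)
    (z : (FibCat.fp y' f).obj) :
    ((bcFun f y v y' κ).obj z).obj.snd = z.obj.snd := rfl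

theorem bcFun_obj_iso_hom (f : 𝒳 ⥤ᵇ 𝒴) {U V : Over S} (y : FibCat.overCat U ⥤ᵇ 𝒴) (v : V ⟶ U)
    (y' : FibCat.overCat V ⥤ᵇ 𝒴) (κ : y' ≅ BasedFunctor.comp (AlgSt.overMap v) y)
    (z : (FibCat.fp y' f).obj) :
    ((bcFun f y v y' κ).obj z).obj.iso.hom = (bApp κ z.obj.fst).inv ≫ z.obj.iso.hom := by
  change (𝟙 _ ≫ ((bApp κ z.obj.fst).inv ≫ z.obj.iso.hom ≫ 𝟙 _) ≫ 𝟙 _) = _
  simp

/-- Base change of a representing sheaf along a morphism of schemes: the square of sheaves is a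
pullback square, and on points the projection is the functor `bcFun`. -/
theorem exists_isPullback_baseChange_pts (f : 𝒳 ⥤ᵇ 𝒴) {U V : Over S} (y : FibCat.overCat U ⥤ᵇ 𝒴)
    (F : AlgSp.Sp S) (e : AlgSt.ofSp F ⥤ᵇ FibCat.fp y f) (he : FibCat.IsEquivOver e)
    (v : V ⟶ U) (y' : FibCat.overCat V ⥤ᵇ 𝒴) (κ : y' ≅ BasedFunctor.comp (AlgSt.overMap v) y)
    (F' : AlgSp.Sp S) (e' : AlgSt.ofSp F' ⥤ᵇ FibCat.fp y' f) (he' : FibCat.IsEquivOver e') :
    ∃ q : F' ⟶ F, IsPullback q (AlgSt.spMapOfOver (BasedFunctor.comp e' (FibCat.fpFst y' f)))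
      (AlgSt.spMapOfOver (BasedFunctor.comp e (FibCat.fpFst y f))) ((AlgSp.yon S).map v) ∧
      ∀ t : AlgSt.Points (AlgSt.ofSp F'),
        AlgSt.Points.map e (AlgSt.Points.map (AlgSt.ofSpMap q) t) =
          AlgSt.Points.map (bcFun f y v y' κ) (AlgSt.Points.map e' t) := by
  let Φ : AlgSt.ofSp F ⥤ᵇ FibCat.overCat U := BasedFunctor.comp e (FibCat.fpFst y f)
  let a : F.obj ⟶ ((AlgSp.yon S).obj U).obj := (AlgSt.spMapOfOver Φ).hom
  -- the intermediate fibre product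
  have iU := IsEquivOver.isEquivalence (AlgSt.ofOverCat U) (isEquivOver_ofOverCat U)
  let Θ₁ : FibCat.fp (AlgSt.overMap v) Φ ⥤ᵇ PB a (⟨v⟩ : ((AlgSp.pyon S).obj U).obj (op V)) :=
    fpMap (pshOfSection (P := ((AlgSp.yon S).obj U).obj) ⟨v⟩) (Stk.ofPshMap a) (AlgSt.overMap v) Φ
      (BasedFunctor.id _) (BasedFunctor.id _) (AlgSt.ofOverCat U) (overMapIso v) (spMapIso Φ)
  have hΘ₁ : FibCat.IsEquivOver Θ₁ :=
    isEquivOver_fpMap (pshOfSection (P := ((AlgSp.yon S).obj U).obj) ⟨v⟩) (Stk.ofPshMap a)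
      (AlgSt.overMap v) Φ (BasedFunctor.id _) (BasedFunctor.id _) (AlgSt.ofOverCat U)
      (overMapIso v) (spMapIso Φ) (isEquivOver_id _) (isEquivOver_id _)
  have iO := IsEquivOver.isEquivalence (BasedFunctor.id (FibCat.overCat U)) (isEquivOver_id _)
  let Θ₂ : FibCat.fp (AlgSt.overMap v) Φ ⥤ᵇ FibCat.fp (AlgSt.overMap v) (FibCat.fpFst y f) :=
    fpMap (AlgSt.overMap v) (FibCat.fpFst y f) (AlgSt.overMap v) Φ (BasedFunctor.id _) e
      (BasedFunctor.id _) (Iso.refl _) (Iso.refl _)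
  have hΘ₂ : FibCat.IsEquivOver Θ₂ :=
    isEquivOver_fpMap (AlgSt.overMap v) (FibCat.fpFst y f) (AlgSt.overMap v) Φ (BasedFunctor.id _) e
      (BasedFunctor.id _) (Iso.refl _) (Iso.refl _) (isEquivOver_id _) he
  let Θ₃ := pasteL f y (AlgSt.overMap v)
  have hΘ₃ : FibCat.IsEquivOver Θ₃ := isEquivOver_pasteL f y (AlgSt.overMap v)
  have iY := IsEquivOver.isEquivalence (BasedFunctor.id 𝒴) (isEquivOver_id _)
  let Θ₄ : FibCat.fp y' f ⥤ᵇ FibCat.fp (BasedFunctor.comp (AlgSt.overMap v) y) f :=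
    fpMap (BasedFunctor.comp (AlgSt.overMap v) y) f y' f (BasedFunctor.id _) (BasedFunctor.id _)
      (BasedFunctor.id _) κ (Iso.refl _)
  have hΘ₄ : FibCat.IsEquivOver Θ₄ :=
    isEquivOver_fpMap (BasedFunctor.comp (AlgSt.overMap v) y) f y' f (BasedFunctor.id _)
      (BasedFunctor.id _) (BasedFunctor.id _) κ (Iso.refl _) (isEquivOver_id _) (isEquivOver_id _)
  let Λ : FibCat.fp (BasedFunctor.comp (AlgSt.overMap v) y) f ⥤ᵇ FibCat.fp y f :=
    fpMap y f (BasedFunctor.comp (AlgSt.overMap v) y) f (AlgSt.overMap v) (BasedFunctor.id _)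
      (BasedFunctor.id _) (Iso.refl _) (Iso.refl _)
  -- the equivalence `Θ := Θ₂ ≫ Θ₃` and its inverse
  let Θ := BasedFunctor.comp Θ₂ Θ₃
  have hΘ : FibCat.IsEquivOver Θ := IsEquivOver.comp Θ₂ Θ₃ hΘ₂ hΘ₃
  obtain ⟨I, hI, -, ⟨β⟩⟩ := IsEquivOver.exists_inverse_isEquivOver' Θ hΘ
  let E'' : AlgSt.ofSp F' ⥤ᵇ PB a (⟨v⟩ : ((AlgSp.pyon S).obj U).obj (op V)) :=
    BasedFunctor.comp (BasedFunctor.comp (BasedFunctor.comp e' Θ₄) I) Θ₁
  have hE'' : FibCat.IsEquivOver E'' :=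
    IsEquivOver.comp _ _ (IsEquivOver.comp _ _ (IsEquivOver.comp _ _ he' hΘ₄) hI) hΘ₁
  have sq := isPullback_of_isEquivOver a (⟨v⟩ : ((AlgSp.pyon S).obj U).obj (op V)) E'' hE''
  -- compatibility with the first projections
  let ε : BasedFunctor.comp E'' (FibCat.fpFst _ _) ≅ BasedFunctor.comp e' (FibCat.fpFst y' f) :=
    whiskerLeftIso (BasedFunctor.comp e' Θ₄)
      (whiskerRightIso β (FibCat.fpFst (BasedFunctor.comp (AlgSt.overMap v) y) f))
  have h1 := spMapOfOver_eq_of_iso (BasedFunctor.comp E'' (FibCat.fpFst _ _))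
    (BasedFunctor.comp e' (FibCat.fpFst y' f)) ε
  have h2 : ovMapOf (BasedFunctor.comp E'' (FibCat.fpFst _ _)) =
      (AlgSt.spMapOfOver (BasedFunctor.comp e' (FibCat.fpFst y' f))).hom := by
    rw [← h1]
    rfl
  rw [h2] at sq
  have sq' : IsPullback (pshMapOf (BasedFunctor.comp E'' (FibCat.fpSnd _ _)))
      (AlgSt.spMapOfOver (BasedFunctor.comp e' (FibCat.fpFst y' f))).hom a
      ((AlgSp.pyon S).map v) := by
    rw [← uliftYonedaEquiv_symm_up v]
    exact sq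
  refine ⟨ObjectProperty.homMk (pshMapOf (BasedFunctor.comp E'' (FibCat.fpSnd _ _))), ?_, ?_⟩
  · exact IsPullback.of_map_of_faithful (sheafToPresheaf (AlgSp.J S) (Type (u + 1))) sq'
  · intro t
    -- objectwise comparison on the intermediate fibre product
    have hobj : ∀ w : (FibCat.fp (AlgSt.overMap v) Φ).obj,
        Nonempty ((BasedFunctor.comp (BasedFunctor.comp Θ₁ (FibCat.fpSnd _ _)) e).obj w ⟶
          (BasedFunctor.comp Θ Λ).obj w) := by
      intro w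
      refine ⟨ObjectProperty.homMk ⟨w.obj.iso.inv, 𝟙 _, ?_⟩⟩
      have hiso : ((BasedFunctor.comp Θ Λ).obj w).obj.iso.hom =
          y.map w.obj.iso.hom ≫ (e.obj w.obj.snd).obj.iso.hom := by
        change 𝟙 _ ≫ (y.map (𝟙 _ ≫ w.obj.iso.hom ≫ 𝟙 _) ≫ (e.obj w.obj.snd).obj.iso.hom) ≫ 𝟙 _ = _
        simp
      rw [hiso]
      change y.map w.obj.iso.inv ≫ y.map w.obj.iso.hom ≫ (e.obj w.obj.snd).obj.iso.hom =
        (e.obj w.obj.snd).obj.iso.hom ≫ f.map (𝟙 _)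
      rw [← Category.assoc, ← y.toFunctor.map_comp, Iso.inv_hom_id]
      simp
    have hq : AlgSt.ofSpMap (ObjectProperty.homMk (pshMapOf (BasedFunctor.comp E'' (FibCat.fpSnd _ _))) :
        F' ⟶ F) ≅ BasedFunctor.comp E'' (FibCat.fpSnd _ _) := ofPshMapIso _
    rw [← points_map_comp, points_map_congr_based _ _ (whiskerRightIso hq e) t]
    change AlgSt.Points.map (BasedFunctor.comp (BasedFunctor.comp (BasedFunctor.comp e' Θ₄) I)
      (BasedFunctor.comp (BasedFunctor.comp Θ₁ (FibCat.fpSnd _ _)) e)) t = _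
    rw [points_map_comp, points_map_eq_of_forall_hom _ _ hobj, ← points_map_comp]
    change AlgSt.Points.map (BasedFunctor.comp (BasedFunctor.comp e' Θ₄)
      (BasedFunctor.comp (BasedFunctor.comp I Θ) Λ)) t = _
    rw [points_map_comp, points_map_comp,
      points_map_congr_based _ _ β, points_map_id, ← points_map_comp]
    exact points_map_comp e' (bcFun f y v y' κ) t

end Sq

end Groth.Agent.Lib.Helper15LOBase
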