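-- helper15: saturation of the largest open subspace over a smooth chart.
import Mathlib
import Groth.Agent.Lib.Helper15LOBase
import Groth.Agent.Lib.Helper17StkPts2
import Groth.Agent.Lib.Helper12OpenSub2
import Groth.Agent.Lib.Helper15SmoothLocus
import Groth.Agent.S10194

set_option autoImplicit false
set_option backward.isDefEq.respectTransparency false
set_option backward.isDefEq.respectTransparency.types false
open CategoryTheory CategoryTheory.Functor CategoryTheory.Limits Opposite AlgebraicGeometry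

universe u

namespace Groth.Agent.Lib.Helper15LOSat

open Groth.Agent.Lib.Helper17 Groth.Agent.Lib.Helper15PshFib Groth.Agent.Lib.Helper15RepComp
  Groth.Agent.Lib.Helper15RepPsh Groth.Agent.Lib.Helper15DiagBase Groth.Agent.Lib.Helper15DiagRepSp
  Groth.Agent.Lib.Helper15Descent Groth.Agent.Lib.Helper15DiagLft
  Groth.Agent.Lib.Helper15DiagDescent Groth.Agent.Lib.Helper15SpMapRep
  Groth.Agent.Lib.Helper15SrcCancel Groth.Agent.Lib.Helper15ChartSp Groth.Agent.Lib.Helper15Atlas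
  Groth.Agent.Lib.Helper15LocEss Groth.Agent.Lib.Helper15UnivComp Groth.Agent.Lib.Helper15SmLoc
  Groth.Agent.Lib.Helper15PtsComp Groth.Agent.Lib.Helper15PtsTop
  Groth.Agent.Lib.Helper15BaseChange Groth.Agent.Lib.Helper15LOChart Groth.Agent.Lib.Helper15LOBase

section Sat

theorem aux_sq {D : Type*} [Category D] {A B C E X Y : D} (k : A ≅ B) (m₁ : A ⟶ C) (m₂ : B ⟶ E)
    (t₁ : C ≅ X) (ψ : X ⟶ Y) (t₂ : E ≅ Y)
    (hw : m₁ ≫ t₁.hom ≫ ψ ≫ t₂.inv = k.hom ≫ m₂) :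
    m₂ ≫ t₂.hom = (k.inv ≫ m₁ ≫ t₁.hom) ≫ ψ := by
  have h1 : m₂ = k.inv ≫ m₁ ≫ t₁.hom ≫ ψ ≫ t₂.inv := by
    rw [hw, Iso.inv_hom_id_assoc]
  rw [h1]
  simp

variable {S : Scheme.{u}} {𝒳 𝒴 : AlgSt.Cat S}

/-- Two points of `V₀ ×_𝒴 𝒳` with the same image in `𝒳` come from a point of the base change to
the groupoid chart. -/
theorem exists_point_of_same_image (h𝒳 : FibCat.IsFibGrpd 𝒳.p) (h𝒴 : FibCat.IsFibGrpd 𝒴.p)
    (f : 𝒳 ⥤ᵇ 𝒴) {V₀ U₁ : Over S} (y₀ : FibCat.overCat V₀ ⥤ᵇ 𝒴) (p₁ p₂ : U₁ ⟶ V₀)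
    (κ : BasedFunctor.comp (AlgSt.overMap p₁) y₀ ≅ BasedFunctor.comp (AlgSt.overMap p₂) y₀)
    (hc : Function.Surjective
      (AlgSt.Points.map (FibCat.fpLift (AlgSt.overMap p₁) (AlgSt.overMap p₂) κ)))
    (ξ ω : AlgSt.Points (FibCat.fp y₀ f))
    (h : AlgSt.Points.map (FibCat.fpSnd y₀ f) ξ = AlgSt.Points.map (FibCat.fpSnd y₀ f) ω) :
    ∃ ζ : AlgSt.Points (FibCat.fp (BasedFunctor.comp (AlgSt.overMap p₁) y₀) f),
      AlgSt.Points.map (bcFun f y₀ p₁ (BasedFunctor.comp (AlgSt.overMap p₁) y₀) (Iso.refl _)) ζ = ξ ∧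
      AlgSt.Points.map (bcFun f y₀ p₂ (BasedFunctor.comp (AlgSt.overMap p₁) y₀) κ) ζ = ω := by
  have hV₀ : FibCat.IsFibGrpd (FibCat.overCat V₀).p := (isFibSet_overForget V₀).1
  have hU₁ : FibCat.IsFibGrpd (FibCat.overCat U₁).p := (isFibSet_overForget U₁).1
  have hℱ : FibCat.IsFibGrpd (FibCat.fp y₀ f).p := isFibGrpd_fp y₀ f hV₀ h𝒳 h𝒴
  let π := FibCat.fpSnd y₀ f
  let a := FibCat.fpFst y₀ f
  let θ : BasedFunctor.comp a y₀ ≅ BasedFunctor.comp π f := FibCat.fpIso y₀ f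
  obtain ⟨τ, hτ₁, hτ₂⟩ := points_fp_surjective hℱ h𝒳 hℱ π π ξ ω h
  let A₁ : FibCat.fp π π ⥤ᵇ FibCat.fp y₀ y₀ := fpMap y₀ y₀ π π a a f θ.symm θ.symm
  let c := FibCat.fpLift (AlgSt.overMap p₁) (AlgSt.overMap p₂) κ
  obtain ⟨δ, hδ⟩ := hc (AlgSt.Points.map A₁ τ)
  have hππ : FibCat.IsFibGrpd (FibCat.fp π π).p := isFibGrpd_fp π π hℱ hℱ h𝒳
  have hyy : FibCat.IsFibGrpd (FibCat.fp y₀ y₀).p := isFibGrpd_fp y₀ y₀ hV₀ hV₀ h𝒴
  obtain ⟨σ, hσ₁, hσ₂⟩ := points_fp_surjective hππ hyy hU₁ A₁ c δ τ hδ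
  let ε : BasedFunctor.comp (FibCat.fpFst c A₁) (BasedFunctor.comp (AlgSt.overMap p₁) y₀) ≅
      BasedFunctor.comp (BasedFunctor.comp (FibCat.fpSnd c A₁)
        (BasedFunctor.comp (FibCat.fpFst π π) π)) f :=
    (whiskerRightIso (FibCat.fpIso c A₁) (BasedFunctor.comp (FibCat.fpFst y₀ y₀) y₀) :
      BasedFunctor.comp (FibCat.fpFst c A₁) (BasedFunctor.comp (AlgSt.overMap p₁) y₀) ≅
        BasedFunctor.comp (BasedFunctor.comp (FibCat.fpSnd c A₁) (FibCat.fpFst π π))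
          (BasedFunctor.comp a y₀)) ≪≫
    (whiskerLeftIso (BasedFunctor.comp (FibCat.fpSnd c A₁) (FibCat.fpFst π π)) θ :
      BasedFunctor.comp (BasedFunctor.comp (FibCat.fpSnd c A₁) (FibCat.fpFst π π))
          (BasedFunctor.comp a y₀) ≅
      BasedFunctor.comp (BasedFunctor.comp (FibCat.fpSnd c A₁)
        (BasedFunctor.comp (FibCat.fpFst π π) π)) f)
  let Γ' : FibCat.fp c A₁ ⥤ᵇ FibCat.fp (BasedFunctor.comp (AlgSt.overMap p₁) y₀) f :=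
    FibCat.fpLift (FibCat.fpFst c A₁)
      (BasedFunctor.comp (FibCat.fpSnd c A₁) (BasedFunctor.comp (FibCat.fpFst π π) π)) ε
  refine ⟨AlgSt.Points.map Γ' σ, ?_, ?_⟩
  · rw [← hτ₁, ← hσ₂, ← points_map_comp, ← points_map_comp]
    apply points_map_eq_of_forall_hom
    intro s
    refine ⟨ObjectProperty.homMk ⟨s.obj.iso.hom.hom.fst, 𝟙 _, ?_⟩⟩
    have hΓ : (Γ'.obj s).obj.iso.hom =
        y₀.map s.obj.iso.hom.hom.fst ≫ (s.obj.snd.obj.fst).obj.iso.hom := rfl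
    change y₀.map s.obj.iso.hom.hom.fst ≫ (s.obj.snd.obj.fst).obj.iso.hom =
      ((bcFun f y₀ p₁ _ (Iso.refl _)).obj (Γ'.obj s)).obj.iso.hom ≫ f.map (𝟙 _)
    rw [bcFun_obj_iso_hom, hΓ]
    change _ = (𝟙 _ ≫ _) ≫ f.map (𝟙 _)
    simp
  · rw [← hτ₂, ← hσ₂, ← points_map_comp, ← points_map_comp]
    apply points_map_eq_of_forall_hom
    intro s
    refine ⟨ObjectProperty.homMk ⟨s.obj.iso.hom.hom.snd, s.obj.snd.obj.iso.hom, ?_⟩⟩
    have hΓ : (Γ'.obj s).obj.iso.hom =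
        y₀.map s.obj.iso.hom.hom.fst ≫ (s.obj.snd.obj.fst).obj.iso.hom := rfl
    have hw : y₀.map s.obj.iso.hom.hom.fst ≫ (A₁.obj s.obj.snd).obj.iso.hom =
        (c.obj s.obj.fst).obj.iso.hom ≫ y₀.map s.obj.iso.hom.hom.snd := s.obj.iso.hom.hom.w
    have hA : (A₁.obj s.obj.snd).obj.iso.hom =
        (s.obj.snd.obj.fst).obj.iso.hom ≫ f.map s.obj.snd.obj.iso.hom ≫
          (s.obj.snd.obj.snd).obj.iso.inv := rfl
    have hcc : (c.obj s.obj.fst).obj.iso.hom = (bApp κ s.obj.fst).hom := rfl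
    change y₀.map s.obj.iso.hom.hom.snd ≫ (s.obj.snd.obj.snd).obj.iso.hom =
      ((bcFun f y₀ p₂ _ κ).obj (Γ'.obj s)).obj.iso.hom ≫ f.map s.obj.snd.obj.iso.hom
    rw [bcFun_obj_iso_hom, hΓ]
    rw [hA, hcc] at hw
    exact aux_sq (bApp κ s.obj.fst) (y₀.map s.obj.iso.hom.hom.fst) (y₀.map s.obj.iso.hom.hom.snd)
      (s.obj.snd.obj.fst).obj.iso (f.map s.obj.snd.obj.iso.hom) (s.obj.snd.obj.snd).obj.iso hw

/-- `w : W ⟶ X` is the largest open subspace over which `f` has `P`. -/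
def IsLargest (P : MorphismProperty (AlgSp.Sp S)) {X Y : AlgSp.Space S} (f : X ⟶ Y)
    (W : AlgSp.Space S) (w : W ⟶ X) : Prop :=
  AlgSp.RepWith @IsOpenImmersion w.hom ∧ P (w ≫ f).hom ∧
    ∀ (W₁ : AlgSp.Space S) (w₁ : W₁ ⟶ X), AlgSp.RepWith @IsOpenImmersion w₁.hom →
      P (w₁ ≫ f).hom → ∃ k : W₁ ⟶ W, k ≫ w = w₁

/-- The scheme `V` as an algebraic space. -/
noncomputable def yonSp (V : Over S) : AlgSp.Space S :=
  ⟨(AlgSp.yon S).obj V, AlgSp.IsAlgSpace.yon_obj V⟩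

theorem range_eq_of_isLargest (P : MorphismProperty (AlgSp.Sp S)) {X Y : AlgSp.Space S}
    (f : X ⟶ Y) (W W' : AlgSp.Space S) (w : W ⟶ X) (w' : W' ⟶ X)
    (h : IsLargest P f W w) (h' : IsLargest P f W' w') :
    Set.range (AlgSp.Points.map w.hom) = Set.range (AlgSp.Points.map w'.hom) := by
  apply Set.Subset.antisymm
  · obtain ⟨k, hk⟩ := h'.2.2 W w h.1 h.2.1
    rintro _ ⟨t, rfl⟩
    refine ⟨AlgSp.Points.map k.hom t, ?_⟩
    rw [← AlgSp.Points.map_comp]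
    exact congrArg (fun m : W ⟶ X => AlgSp.Points.map m.hom t) hk
  · obtain ⟨k, hk⟩ := h.2.2 W' w' h'.1 h'.2.1
    rintro _ ⟨t, rfl⟩
    refine ⟨AlgSp.Points.map k.hom t, ?_⟩
    rw [← AlgSp.Points.map_comp]
    exact congrArg (fun m : W' ⟶ X => AlgSp.Points.map m.hom t) hk

/-- The largest open subspace of `V₀ ×_𝒴 𝒳` over which the projection to `V₀` has `P` is saturated
for the projection to `𝒳`. -/
theorem saturated (h𝒳 : FibCat.IsFibGrpd 𝒳.p) (h𝒴 : FibCat.IsFibGrpd 𝒴.p)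
    (P Q R : MorphismProperty (AlgSp.Sp S))
    (h₂ : ∀ (X Y : AlgSp.Space S) (g : X ⟶ Y), AlgSp.LocP @Smooth g.hom → R g.hom)
    (h₄ : ∀ (X Y X' Y' : AlgSp.Space S) (f : X ⟶ Y) (g : Y' ⟶ Y) (f' : X' ⟶ Y') (g' : X' ⟶ X),
      IsPullback g'.hom f'.hom f.hom g.hom → Q f.hom → R g.hom →
      ∀ (W : AlgSp.Space S) (w : W ⟶ X), IsLargest P f W w →
        ∀ (W' : AlgSp.Space S) (w' : W' ⟶ X') (k : W' ⟶ W),
          IsPullback k.hom w'.hom w.hom g'.hom → IsLargest P f' W' w')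
    (f : 𝒳 ⥤ᵇ 𝒴) (hf : AlgSt.RepByAlgSpWith Q f) {V₀ : Over S} (y₀ : FibCat.overCat V₀ ⥤ᵇ 𝒴)
    (hy₀ : AlgSt.RepByAlgSpWith (AlgSp.LocP @Smooth) y₀)
    (F₀ : AlgSp.Space S) (e₀ : AlgSt.ofSp F₀.obj ⥤ᵇ FibCat.fp y₀ f) (he₀ : FibCat.IsEquivOver e₀)
    (hQ₀ : Q (AlgSt.spMapOfOver (BasedFunctor.comp e₀ (FibCat.fpFst y₀ f))))
    (W₀ : AlgSp.Space S) (w₀ : W₀ ⟶ F₀)
    (hL : IsLargest P (ObjectProperty.homMk
      (AlgSt.spMapOfOver (BasedFunctor.comp e₀ (FibCat.fpFst y₀ f))) : F₀ ⟶ yonSp V₀) W₀ w₀)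
    (ξ ω : AlgSp.Points F₀.obj)
    (h : AlgSt.Points.map (BasedFunctor.comp e₀ (FibCat.fpSnd y₀ f)) (toSt _ ξ) =
      AlgSt.Points.map (BasedFunctor.comp e₀ (FibCat.fpSnd y₀ f)) (toSt _ ω))
    (hξ : ξ ∈ Set.range (AlgSp.Points.map w₀.hom)) :
    ω ∈ Set.range (AlgSp.Points.map w₀.hom) := by
  obtain ⟨U₁, p₁, p₂, κ, hp₁, hp₂, hc⟩ := exists_smooth_groupoid_chart y₀ hy₀
  let y' := BasedFunctor.comp (AlgSt.overMap p₁) y₀
  obtain ⟨F', e', he', -⟩ := hf U₁ y'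
  obtain ⟨q₁, sq₁, hq₁⟩ := exists_isPullback_baseChange_pts f y₀ F₀.obj e₀ he₀ p₁ y' (Iso.refl _)
    F'.obj e' he'
  obtain ⟨q₂, sq₂, hq₂⟩ := exists_isPullback_baseChange_pts f y₀ F₀.obj e₀ he₀ p₂ y' κ
    F'.obj e' he'
  -- a point over both
  rw [points_map_comp, points_map_comp] at h
  obtain ⟨ζ', hζ₁, hζ₂⟩ := exists_point_of_same_image h𝒳 h𝒴 f y₀ p₁ p₂ κ hc _ _ h
  obtain ⟨ζ'', rfl⟩ := points_map_surjective_of_isEquivOver e' he' ζ'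
  obtain ⟨ζ, rfl⟩ := toSt_surjective _ ζ''
  have hinj := points_map_injective_of_isEquivOver e₀ he₀
  have h1 : AlgSp.Points.map q₁ ζ = ξ := by
    apply toSt_injective
    apply hinj
    rw [← toSt_map, hq₁, hζ₁]
  have h2 : AlgSp.Points.map q₂ ζ = ω := by
    apply toSt_injective
    apply hinj
    rw [← toSt_map, hq₂, hζ₂]
  -- the two pullbacks of the largest open subspace
  let a₀ : F₀ ⟶ yonSp V₀ := ObjectProperty.homMk
    (AlgSt.spMapOfOver (BasedFunctor.comp e₀ (FibCat.fpFst y₀ f)))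
  let a' : F' ⟶ yonSp U₁ := ObjectProperty.homMk
    (AlgSt.spMapOfOver (BasedFunctor.comp e' (FibCat.fpFst y' f)))
  have hR₁ : R ((AlgSp.yon S).map p₁) :=
    h₂ (yonSp U₁) (yonSp V₀) (ObjectProperty.homMk ((AlgSp.yon S).map p₁))
      (Groth.Agent.Lib.Helper15SmoothLocus.locP_yon_map_of_smooth p₁ hp₁)
  have hR₂ : R ((AlgSp.yon S).map p₂) :=
    h₂ (yonSp U₁) (yonSp V₀) (ObjectProperty.homMk ((AlgSp.yon S).map p₂))
      (Groth.Agent.Lib.Helper15SmoothLocus.locP_yon_map_of_smooth p₂ hp₂)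
  have key : ∀ (q : F'.obj ⟶ F₀.obj) (p : U₁ ⟶ V₀),
      IsPullback q a'.hom a₀.hom ((AlgSp.yon S).map p) → R ((AlgSp.yon S).map p) →
      ∃ (W' : AlgSp.Space S) (w' : W' ⟶ F'), IsLargest P a' W' w' ∧
        Set.range (AlgSp.Points.map w'.hom) =
          AlgSp.Points.map q ⁻¹' Set.range (AlgSp.Points.map w₀.hom) := by
    intro q p sq hR
    have pb := IsPullback.of_hasPullback w₀.hom q
    have hW' : AlgSp.IsAlgSpace (pullback w₀.hom q) :=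
      Groth.Agent.S9874.isAlgSpace_of_isPullback F₀.property.diag W₀.property F'.property pb
    let W' : AlgSp.Space S := ⟨pullback w₀.hom q, hW'⟩
    let w' : W' ⟶ F' := ObjectProperty.homMk (pullback.snd w₀.hom q)
    let k : W' ⟶ W₀ := ObjectProperty.homMk (pullback.fst w₀.hom q)
    refine ⟨W', w', ?_, ?_⟩
    · exact h₄ F₀ (yonSp V₀) F' (yonSp U₁) a₀ (ObjectProperty.homMk ((AlgSp.yon S).map p)) a'
        (ObjectProperty.homMk q) sq hQ₀ hR W₀ w₀ hL W' w' k pb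
    · exact Groth.Agent.Lib.Helper12.OpenSub.range_map_fst_of_isPullback pb.flip
  obtain ⟨W₁', w₁', hL₁, hr₁⟩ := key q₁ p₁ sq₁ hR₁
  obtain ⟨W₂', w₂', hL₂, hr₂⟩ := key q₂ p₂ sq₂ hR₂
  have hrr := range_eq_of_isLargest P a' W₁' W₂' w₁' w₂' hL₁ hL₂
  have hζ : ζ ∈ AlgSp.Points.map q₁ ⁻¹' Set.range (AlgSp.Points.map w₀.hom) := by
    rw [Set.mem_preimage, h1]
    exact hξ
  rw [← hr₁, hrr, hr₂, Set.mem_preimage, h2] at hζ
  exact hζ

end Sat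

end Groth.Agent.Lib.Helper15LOSat
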