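-- helper15: the largest open substack over which a representable functor has a property.
import Mathlib
import Groth.Agent.Lib.Helper15LOSat
import Groth.Agent.Lib.Helper15OpenImage
import Groth.Agent.S10531

set_option autoImplicit false
set_option backward.isDefEq.respectTransparency false
set_option backward.isDefEq.respectTransparency.types false
open CategoryTheory CategoryTheory.Functor CategoryTheory.Limits Opposite AlgebraicGeometry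

universe u

namespace Groth.Agent.Lib.Helper15LOMain

open Groth.Agent.Lib.Helper17 Groth.Agent.Lib.Helper15PshFib Groth.Agent.Lib.Helper15RepComp
  Groth.Agent.Lib.Helper15RepPsh Groth.Agent.Lib.Helper15DiagBase Groth.Agent.Lib.Helper15DiagRepSp
  Groth.Agent.Lib.Helper15Descent Groth.Agent.Lib.Helper15DiagLft
  Groth.Agent.Lib.Helper15DiagDescent Groth.Agent.Lib.Helper15SpMapRep
  Groth.Agent.Lib.Helper15SrcCancel Groth.Agent.Lib.Helper15ChartSp Groth.Agent.Lib.Helper15Atlas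
  Groth.Agent.Lib.Helper15LocEss Groth.Agent.Lib.Helper15UnivComp Groth.Agent.Lib.Helper15SmLoc
  Groth.Agent.Lib.Helper15PtsComp Groth.Agent.Lib.Helper15PtsTop
  Groth.Agent.Lib.Helper15BaseChange Groth.Agent.Lib.Helper15LOChart Groth.Agent.Lib.Helper15LOBase
  Groth.Agent.Lib.Helper15LOSat Groth.Agent.Lib.Helper15OpenSubst Groth.Agent.Lib.Helper15OpenImage
  Groth.Agent.Lib.Helper15RepDescent Groth.Agent.Lib.Helper15LocQRep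
  Groth.Agent.Lib.Helper17.RepStack Groth.Agent.Lib.Helper15LocQProps
  Groth.Agent.Lib.Helper15LocQSpace

section A

variable {S : Scheme.{u}} {𝒳 𝒳' : AlgSt.Cat S}

/-- The preimage of an open substack in an algebraic space mapping to the stack. -/
theorem exists_open_subspace_of_openImm (h𝒳 : FibCat.IsFibGrpd 𝒳.p) (h𝒳' : FibCat.IsFibGrpd 𝒳'.p)
    (j' : 𝒳' ⥤ᵇ 𝒳) (hj' : AlgSt.IsOpenImm j') (F₀ : AlgSp.Space S)
    (u₀ : AlgSt.ofSp F₀.obj ⥤ᵇ 𝒳) :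
    ∃ (G' : AlgSp.Space S) (g' : G' ⟶ F₀) (e' : AlgSt.ofSp G'.obj ⥤ᵇ FibCat.fp u₀ j'),
      FibCat.IsEquivOver e' ∧
      Nonempty (BasedFunctor.comp e' (FibCat.fpFst u₀ j') ≅ AlgSt.ofSpMap g'.hom) ∧
      AlgSp.RepWith @IsOpenImmersion g'.hom ∧
      ∀ ξ : AlgSp.Points F₀.obj, ξ ∈ Set.range (AlgSp.Points.map g'.hom) ↔
        AlgSt.Points.map u₀ (toSt _ ξ) ∈ Set.range (AlgSt.Points.map j') := by
  obtain ⟨G', g', e', he', ⟨ι⟩, hg'⟩ := exists_space_map_of_repByAlgSpWith h𝒳' h𝒳 _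
    (isLocalOnBase_fppf_of_fpqc _ (Groth.Agent.S10531.result S)) j' hj' F₀ u₀
  refine ⟨G', g', e', he', ⟨ι⟩, hg', fun ξ => ⟨?_, ?_⟩⟩
  · rintro ⟨η, rfl⟩
    refine ⟨AlgSt.Points.map (BasedFunctor.comp e' (FibCat.fpSnd u₀ j')) (toSt _ η), ?_⟩
    rw [← toSt_map, ← points_map_congr_based _ _ ι, ← points_map_comp, ← points_map_comp]
    exact (points_map_congr_based _ _ (whiskerLeftIso e' (FibCat.fpIso u₀ j')) (toSt _ η)).symm
  · rintro ⟨s, hs⟩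
    have hF₀ : FibCat.IsFibGrpd (AlgSt.ofSp F₀.obj).p := (isAlgStack_ofSp F₀).isStack.1
    obtain ⟨w, hw₁, -⟩ := points_fp_surjective h𝒳' h𝒳 hF₀ j' u₀ (toSt _ ξ) s hs.symm
    obtain ⟨w', rfl⟩ := points_map_surjective_of_isEquivOver e' he' w
    obtain ⟨η, rfl⟩ := toSt_surjective _ w'
    refine ⟨η, ?_⟩
    apply toSt_injective
    rw [← toSt_map, ← points_map_congr_based _ _ ι, points_map_comp]
    exact hw₁

end A

section B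

variable {S : Scheme.{u}} {𝒳 𝒳' 𝒴 : AlgSt.Cat S}

theorem compCond_top : CompCond (⊤ : MorphismProperty (AlgSp.Sp S)) :=
  fun _ _ _ _ _ _ _ _ _ => trivial

/-- Having `P` for the restriction of `f` to an open substack can be read on the corresponding
open subspace of a smooth chart. -/
theorem repByAlgSpWith_comp_openImm_iff (h𝒳 : AlgSt.IsAlgStack Scheme.fppfPrecoverage 𝒳)
    (h𝒳' : AlgSt.IsAlgStack Scheme.fppfPrecoverage 𝒳')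
    (h𝒴 : AlgSt.IsAlgStack Scheme.fppfPrecoverage 𝒴)
    (P : MorphismProperty (AlgSp.Sp S)) (hPb : BCStable P)
    (hP : AlgSp.IsLocalOnBase AlgSp.IsFppfCover P)
    (f : 𝒳 ⥤ᵇ 𝒴) (hf1 : AlgSt.RepByAlgSp1 f) (j' : 𝒳' ⥤ᵇ 𝒳) (hj' : AlgSt.IsOpenImm j')
    {V₀ : Over S} (y₀ : FibCat.overCat V₀ ⥤ᵇ 𝒴)
    (hy₀ : AlgSt.RepByAlgSpWith (AlgSp.LocP @Smooth) y₀)
    (hy₀s : AlgSt.RepByAlgSpWith AlgSp.IsSurjectiveMor y₀)
    (F₀ : AlgSp.Space S) (e₀ : AlgSt.ofSp F₀.obj ⥤ᵇ FibCat.fp y₀ f) (he₀ : FibCat.IsEquivOver e₀)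
    (G' : AlgSp.Space S) (g' : G' ⟶ F₀)
    (e' : AlgSt.ofSp G'.obj ⥤ᵇ
      FibCat.fp (BasedFunctor.comp e₀ (FibCat.fpSnd y₀ f)) j') (he' : FibCat.IsEquivOver e')
    (ι : BasedFunctor.comp e' (FibCat.fpFst (BasedFunctor.comp e₀ (FibCat.fpSnd y₀ f)) j') ≅
      AlgSt.ofSpMap g'.hom) :
    AlgSt.RepByAlgSpWith P (BasedFunctor.comp j' f) ↔
      P (g'.hom ≫ AlgSt.spMapOfOver (BasedFunctor.comp e₀ (FibCat.fpFst y₀ f))) := by
  let π := FibCat.fpSnd y₀ f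
  let u₀ := BasedFunctor.comp e₀ π
  let a := FibCat.fpFst y₀ f
  have i𝒳 := IsEquivOver.isEquivalence (BasedFunctor.id 𝒳) (isEquivOver_id _)
  let M : FibCat.fp u₀ j' ⥤ᵇ FibCat.fp π j' :=
    fpMap π j' u₀ j' e₀ (BasedFunctor.id _) (BasedFunctor.id _) (Iso.refl _) (Iso.refl _)
  have hM : FibCat.IsEquivOver M :=
    isEquivOver_fpMap π j' u₀ j' e₀ (BasedFunctor.id _) (BasedFunctor.id _) (Iso.refl _)
      (Iso.refl _) he₀ (isEquivOver_id _)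
  let R := pasteR y₀ j' f
  have hR : FibCat.IsEquivOver R := isEquivOver_pasteR y₀ j' f
  let Ψ : AlgSt.ofSp G'.obj ⥤ᵇ FibCat.fp y₀ (BasedFunctor.comp j' f) :=
    BasedFunctor.comp (BasedFunctor.comp e' M) R
  have hΨ : FibCat.IsEquivOver Ψ := IsEquivOver.comp _ _ (IsEquivOver.comp _ _ he' hM) hR
  have hsp : AlgSt.spMapOfOver (BasedFunctor.comp Ψ (FibCat.fpFst y₀ (BasedFunctor.comp j' f))) =
      g'.hom ≫ AlgSt.spMapOfOver (BasedFunctor.comp e₀ a) := by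
    let i1 : BasedFunctor.comp Ψ (FibCat.fpFst y₀ (BasedFunctor.comp j' f)) ≅
        BasedFunctor.comp (AlgSt.ofSpMap g'.hom) (BasedFunctor.comp e₀ a) :=
      whiskerRightIso ι (BasedFunctor.comp e₀ a)
    rw [spMapOfOver_eq_of_iso _ _ i1, spMapOfOver_ofSpMap_comp]
  constructor
  · intro h
    have h1 := prop_spMapOfOver_of_repByAlgSpWith P hPb
      (FibCat.fpFst y₀ (BasedFunctor.comp j' f))
      (repByAlgSpWith_fpFst P (BasedFunctor.comp j' f) y₀ h) G' Ψ hΨ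
    rw [hsp] at h1
    exact h1
  · intro hm
    let m : G' ⟶ yonSp V₀ :=
      ObjectProperty.homMk (g'.hom ≫ AlgSt.spMapOfOver (BasedFunctor.comp e₀ a))
    have h3 : AlgSt.RepByAlgSpWith P (AlgSt.ofSpMap m.hom) :=
      repByAlgSpWith_ofSpMap P hPb G' (yonSp V₀) m hm
    let σ : BasedFunctor.comp (AlgSt.ofSpMap m.hom) (AlgSt.toOverCat V₀) ≅
        BasedFunctor.comp Ψ (FibCat.fpFst y₀ (BasedFunctor.comp j' f)) :=
      isoOfOverCat (fun c => by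
        obtain ⟨T, s⟩ := c
        rw [ovSec_eq_spMapOfOver, ovSec_eq_spMapOfOver, spMapOfOver_ofSpMap_toOverCat, hsp]
        rfl)
    have h4 : AlgSt.RepByAlgSpWith P (FibCat.fpFst y₀ (BasedFunctor.comp j' f)) :=
      (repByAlgSpWith_of_square P (FibCat.fpFst y₀ (BasedFunctor.comp j' f))
        (AlgSt.ofSpMap m.hom) Ψ (AlgSt.toOverCat V₀) hΨ (isEquivOver_toOverCat V₀) σ).2 h3
    have hV₀ := isAlgStack_overCat V₀
    have hjf : AlgSt.RepByAlgSp1 (BasedFunctor.comp j' f) :=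
      (repByAlgSp1_iff_top _).2 (repByAlgSpWith_comp_of_compCond h𝒳'.isStack.1 h𝒳.isStack.1 ⊤
        compCond_top j' f
        ((repByAlgSp1_iff_top _).1 (repByAlgSp1_of_repByAlgSpWith _ j' hj'))
        ((repByAlgSp1_iff_top _).1 hf1))
    have hy1 := repByAlgSp1_of_repByAlgSpWith _ y₀ hy₀
    exact (repByAlgSpWith_iff_fpFst P hP h𝒴 hV₀ (BasedFunctor.comp j' f) hjf y₀
      (locQ_of_repByAlgSpWith _ isSmoothLocalST_flat hV₀ h𝒴 y₀ (flat_of_smooth hy₀))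
      (locQ_of_repByAlgSpWith _ isSmoothLocalST_lfp hV₀ h𝒴 y₀ (lfp_of_smooth hy₀))
      ((isSurjective_iff_repByAlgSpWith hV₀ h𝒴 y₀ hy1).2 hy₀s)).2 h4

end B

section Main

variable {S : Scheme.{u}} {𝒳 𝒴 : AlgSt.Cat S}

theorem exists_largest_open_substack
    (h𝒳 : AlgSt.IsAlgStack Scheme.fppfPrecoverage 𝒳) (h𝒴 : AlgSt.IsAlgStack Scheme.fppfPrecoverage 𝒴)
    (P Q R : MorphismProperty (AlgSp.Sp S)) (hPb : BCStable P)
    (hP : AlgSp.IsLocalOnBase AlgSp.IsFppfCover P)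
    (h₂ : ∀ (X Y : AlgSp.Space S) (g : X ⟶ Y), AlgSp.LocP @Smooth g.hom → R g.hom)
    (h₃ : ∀ (X Y : AlgSp.Space S) (f : X ⟶ Y), Q f.hom →
      ∃ (W : AlgSp.Space S) (w : W ⟶ X), IsLargest P f W w)
    (h₄ : ∀ (X Y X' Y' : AlgSp.Space S) (f : X ⟶ Y) (g : Y' ⟶ Y) (f' : X' ⟶ Y') (g' : X' ⟶ X),
      IsPullback g'.hom f'.hom f.hom g.hom → Q f.hom → R g.hom →
      ∀ (W : AlgSp.Space S) (w : W ⟶ X), IsLargest P f W w →
        ∀ (W' : AlgSp.Space S) (w' : W' ⟶ X') (k : W' ⟶ W),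
          IsPullback k.hom w'.hom w.hom g'.hom → IsLargest P f' W' w')
    (f : 𝒳 ⥤ᵇ 𝒴) (hf : AlgSt.RepByAlgSpWith Q f) :
    ∃ Q₀ : 𝒳.obj → Prop, AlgSt.IsOpenSubstack 𝒳 Q₀ Scheme.fppfPrecoverage ∧
      AlgSt.RepByAlgSpWith P (BasedFunctor.comp (AlgSt.subIncl 𝒳 Q₀) f) ∧
        ∀ Q₁ : 𝒳.obj → Prop, AlgSt.IsOpenSubstack 𝒳 Q₁ Scheme.fppfPrecoverage →
          AlgSt.RepByAlgSpWith P (BasedFunctor.comp (AlgSt.subIncl 𝒳 Q₁) f) → ∀ y, Q₁ y → Q₀ y := by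
  obtain ⟨V₀, y₀, hy₀, hy₀s⟩ := h𝒴.atlas
  obtain ⟨F₀, e₀, he₀, hQ₀⟩ := hf V₀ y₀
  let a₀ : F₀ ⟶ yonSp V₀ :=
    ObjectProperty.homMk (AlgSt.spMapOfOver (BasedFunctor.comp e₀ (FibCat.fpFst y₀ f)))
  obtain ⟨W₀, w₀, hL⟩ := h₃ F₀ (yonSp V₀) a₀ hQ₀
  have hF₀st := isAlgStack_ofSp F₀
  have hV₀ : FibCat.IsFibGrpd (FibCat.overCat V₀).p := (isFibSet_overForget V₀).1
  have hℱ : FibCat.IsFibGrpd (FibCat.fp y₀ f).p :=
    isFibGrpd_fp y₀ f hV₀ h𝒳.isStack.1 h𝒴.isStack.1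
  let u₀ : AlgSt.ofSp F₀.obj ⥤ᵇ 𝒳 := BasedFunctor.comp e₀ (FibCat.fpSnd y₀ f)
  have hu₀ := chart_precomp_equiv (𝒳 := 𝒳) hF₀st.isStack.1 hℱ e₀ he₀ (FibCat.fpSnd y₀ f)
  have hu₀₁ : AlgSt.RepByAlgSpWith (AlgSp.LocP @Smooth) u₀ :=
    hu₀.1 (repByAlgSpWith_fpSnd _ y₀ f hy₀)
  have hu₀₂ : AlgSt.RepByAlgSpWith AlgSp.IsSurjectiveMor u₀ :=
    hu₀.2 (repByAlgSpWith_fpSnd _ y₀ f hy₀s)
  have hu₀s : Function.Surjective (AlgSt.Points.map u₀) :=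
    (isSurjective_iff_repByAlgSpWith hF₀st h𝒳 u₀ (repByAlgSp1_of_repByAlgSpWith _ u₀ hu₀₁)).2 hu₀₂
  have hw₀' : AlgSt.RepByAlgSpWith (AlgSp.LocP @Smooth) (AlgSt.ofSpMap w₀.hom) :=
    repByAlgSpWith_ofSpMap _ bcStable_smooth W₀ F₀ w₀
      (locP_smooth_of_repWith_etale w₀.hom
        (Groth.Agent.Lib.Helper12.OpenSub.repWith_mono
          (fun _ _ g hg => by have : IsOpenImmersion g := hg; infer_instance) hL.1))
  let v : AlgSt.ofSp W₀.obj ⥤ᵇ 𝒳 := BasedFunctor.comp (AlgSt.ofSpMap w₀.hom) u₀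
  have hv : AlgSt.RepByAlgSpWith (AlgSp.LocP @Smooth) v :=
    repByAlgSpWith_comp_of_compCond (isAlgStack_ofSp W₀).isStack.1 hF₀st.isStack.1 _
      compCond_smooth (AlgSt.ofSpMap w₀.hom) u₀ hw₀' hu₀₁
  let T₀ : Set (AlgSt.Points 𝒳) := Set.range (AlgSt.Points.map v)
  have hT₀ : IsOpen T₀ :=
    (isOpenMap_points_map_of_flat_lfp_space h𝒳 W₀ v (flat_of_smooth hv)
      (lfp_of_smooth hv)).isOpen_range
  have hsub := isOpenSubstack_QT h𝒳 hT₀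
  have hkey : ∀ ξ : AlgSp.Points F₀.obj, ξ ∈ Set.range (AlgSp.Points.map w₀.hom) ↔
      AlgSt.Points.map u₀ (toSt _ ξ) ∈ T₀ := by
    intro ξ
    constructor
    · rintro ⟨η, rfl⟩
      exact ⟨toSt _ η, by rw [points_map_comp, toSt_map]⟩
    · rintro ⟨η', hη'⟩
      obtain ⟨η, rfl⟩ := toSt_surjective _ η'
      rw [points_map_comp, toSt_map] at hη'
      exact saturated h𝒳.isStack.1 h𝒴.isStack.1 P Q R h₂ h₄ f hf y₀ hy₀ F₀ e₀ he₀ hQ₀ W₀ w₀ hL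
        (AlgSp.Points.map w₀.hom η) ξ hη' ⟨η, rfl⟩
  have hf1 := repByAlgSp1_of_repByAlgSpWith _ f hf
  refine ⟨QT T₀, hsub, ?_, ?_⟩
  · obtain ⟨G', g', e', he', ⟨ι⟩, hg', hpts⟩ := exists_open_subspace_of_openImm h𝒳.isStack.1
      hsub.2.1.isStack.1 (AlgSt.subIncl 𝒳 (QT T₀)) hsub.2.2 F₀ u₀
    have hrange : Set.range (AlgSp.Points.map g'.hom) = Set.range (AlgSp.Points.map w₀.hom) := by
      ext ξ
      rw [hpts, hkey, range_subIncl_QT]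
    obtain ⟨i, hi⟩ := Groth.Agent.Lib.Helper12.OpenSub.iso_of_range_eq g'.hom hg' w₀.hom hL.1 hrange
    rw [repByAlgSpWith_comp_openImm_iff h𝒳 hsub.2.1 h𝒴 P hPb hP f hf1
      (AlgSt.subIncl 𝒳 (QT T₀)) hsub.2.2 y₀ hy₀ hy₀s F₀ e₀ he₀ G' g' e' he' ι]
    rw [← hi, Category.assoc]
    exact precomp_iso_of_bcStable P hPb G'.property W₀.property (AlgSp.IsAlgSpace.yon_obj V₀) i _
      hL.2.1
  · intro Q₁ hQ₁ hP₁ y hy
    obtain ⟨G₁, g₁, e₁, he₁, ⟨ι₁⟩, hg₁, hpts₁⟩ := exists_open_subspace_of_openImm h𝒳.isStack.1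
      hQ₁.2.1.isStack.1 (AlgSt.subIncl 𝒳 Q₁) hQ₁.2.2 F₀ u₀
    have hPg₁ := (repByAlgSpWith_comp_openImm_iff h𝒳 hQ₁.2.1 h𝒴 P hPb hP f hf1
      (AlgSt.subIncl 𝒳 Q₁) hQ₁.2.2 y₀ hy₀ hy₀s F₀ e₀ he₀ G₁ g₁ e₁ he₁ ι₁).1 hP₁
    obtain ⟨k, hk⟩ := hL.2.2 G₁ g₁ hg₁ hPg₁
    have hsubset : Set.range (AlgSt.Points.map (AlgSt.subIncl 𝒳 Q₁)) ⊆ T₀ := by
      intro t ht
      obtain ⟨ξ', rfl⟩ := hu₀s t
      obtain ⟨ξ, rfl⟩ := toSt_surjective _ ξ'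
      rw [← hkey]
      obtain ⟨η, rfl⟩ := (hpts₁ ξ).2 ht
      refine ⟨AlgSp.Points.map k.hom η, ?_⟩
      rw [← AlgSp.Points.map_comp]
      exact congrArg (fun m : G₁ ⟶ F₀ => AlgSp.Points.map m.hom η) hk
    exact QT_mono hsubset y (le_QT_range h𝒳.isStack.1 Q₁ hQ₁.1 hQ₁.2.1.isStack.1 y hy)

end Main

end Groth.Agent.Lib.Helper15LOMain
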