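-- helper15: largest open substack from explicit chart data; preimages of open substacks.
import Mathlib
import Groth.Agent.Lib.Helper15LOMain
import Groth.Agent.Lib.Helper15FpEtale

set_option autoImplicit false
set_option backward.isDefEq.respectTransparency false
set_option backward.isDefEq.respectTransparency.types false
open CategoryTheory CategoryTheory.Functor CategoryTheory.Limits Opposite AlgebraicGeometry

universe u

namespace Groth.Agent.Lib.Helper15LOCore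

open Groth.Agent.Lib.Helper17 Groth.Agent.Lib.Helper15PshFib Groth.Agent.Lib.Helper15RepComp
  Groth.Agent.Lib.Helper15RepPsh Groth.Agent.Lib.Helper15DiagBase Groth.Agent.Lib.Helper15DiagRepSp
  Groth.Agent.Lib.Helper15Descent Groth.Agent.Lib.Helper15DiagLft
  Groth.Agent.Lib.Helper15DiagDescent Groth.Agent.Lib.Helper15SpMapRep
  Groth.Agent.Lib.Helper15SrcCancel Groth.Agent.Lib.Helper15ChartSp Groth.Agent.Lib.Helper15Atlas
  Groth.Agent.Lib.Helper15LocEss Groth.Agent.Lib.Helper15UnivComp Groth.Agent.Lib.Helper15SmLoc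
  Groth.Agent.Lib.Helper15PtsComp Groth.Agent.Lib.Helper15PtsTop
  Groth.Agent.Lib.Helper15BaseChange Groth.Agent.Lib.Helper15LOChart Groth.Agent.Lib.Helper15LOBase
  Groth.Agent.Lib.Helper15LOSat Groth.Agent.Lib.Helper15OpenSubst Groth.Agent.Lib.Helper15OpenImage
  Groth.Agent.Lib.Helper15RepDescent Groth.Agent.Lib.Helper15LocQRep
  Groth.Agent.Lib.Helper17.RepStack Groth.Agent.Lib.Helper15LocQProps
  Groth.Agent.Lib.Helper15LocQSpace Groth.Agent.Lib.Helper15LOMain Groth.Agent.Lib.Helper15OpenSub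

section Core

variable {S : Scheme.{u}} {𝒳 𝒴 : AlgSt.Cat S}

/-- The construction of the largest open substack from a given smooth surjective chart, a given
presentation of the fibre product and a given largest open subspace. -/
theorem isLargest_QT_of_chart
    (h𝒳 : AlgSt.IsAlgStack Scheme.fppfPrecoverage 𝒳) (h𝒴 : AlgSt.IsAlgStack Scheme.fppfPrecoverage 𝒴)
    (P Q R : MorphismProperty (AlgSp.Sp S)) (hPb : BCStable P)
    (hP : AlgSp.IsLocalOnBase AlgSp.IsFppfCover P)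
    (h₂ : ∀ (X Y : AlgSp.Space S) (g : X ⟶ Y), AlgSp.LocP @Smooth g.hom → R g.hom)
    (h₄ : ∀ (X Y X' Y' : AlgSp.Space S) (f : X ⟶ Y) (g : Y' ⟶ Y) (f' : X' ⟶ Y') (g' : X' ⟶ X),
      IsPullback g'.hom f'.hom f.hom g.hom → Q f.hom → R g.hom →
      ∀ (W : AlgSp.Space S) (w : W ⟶ X), IsLargest P f W w →
        ∀ (W' : AlgSp.Space S) (w' : W' ⟶ X') (k : W' ⟶ W),
          IsPullback k.hom w'.hom w.hom g'.hom → IsLargest P f' W' w')
    (f : 𝒳 ⥤ᵇ 𝒴) (hf : AlgSt.RepByAlgSpWith Q f)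
    {V₀ : Over S} (y₀ : FibCat.overCat V₀ ⥤ᵇ 𝒴)
    (hy₀ : AlgSt.RepByAlgSpWith (AlgSp.LocP @Smooth) y₀)
    (hy₀s : AlgSt.RepByAlgSpWith AlgSp.IsSurjectiveMor y₀)
    (F₀ : AlgSp.Space S) (e₀ : AlgSt.ofSp F₀.obj ⥤ᵇ FibCat.fp y₀ f) (he₀ : FibCat.IsEquivOver e₀)
    (hQ₀ : Q (AlgSt.spMapOfOver (BasedFunctor.comp e₀ (FibCat.fpFst y₀ f))))
    (W₀ : AlgSp.Space S) (w₀ : W₀ ⟶ F₀)
    (hL : IsLargest P (ObjectProperty.homMk
      (AlgSt.spMapOfOver (BasedFunctor.comp e₀ (FibCat.fpFst y₀ f))) : F₀ ⟶ yonSp V₀) W₀ w₀)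
    (T₀ : Set (AlgSt.Points 𝒳))
    (hT : T₀ = Set.range (AlgSt.Points.map (BasedFunctor.comp (AlgSt.ofSpMap w₀.hom)
      (BasedFunctor.comp e₀ (FibCat.fpSnd y₀ f))))) :
    AlgSt.IsOpenSubstack 𝒳 (QT T₀) Scheme.fppfPrecoverage ∧
      AlgSt.RepByAlgSpWith P (BasedFunctor.comp (AlgSt.subIncl 𝒳 (QT T₀)) f) ∧
        ∀ Q₁ : 𝒳.obj → Prop, AlgSt.IsOpenSubstack 𝒳 Q₁ Scheme.fppfPrecoverage →
          AlgSt.RepByAlgSpWith P (BasedFunctor.comp (AlgSt.subIncl 𝒳 Q₁) f) →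
            ∀ y, Q₁ y → QT T₀ y := by
  subst hT
  have hF₀st := isAlgStack_ofSp F₀
  have hV₀ : FibCat.IsFibGrpd (FibCat.overCat V₀).p := (isFibSet_overForget V₀).1
  have hℱ : FibCat.IsFibGrpd (FibCat.fp y₀ f).p :=
    isFibGrpd_fp y₀ f hV₀ h𝒳.isStack.1 h𝒴.isStack.1
  let u₀ : AlgSt.ofSp F₀.obj ⥤ᵇ 𝒳 := BasedFunctor.comp e₀ (FibCat.fpSnd y₀ f)
  have hu₀ := chart_precomp_equiv (𝒳 := 𝒳) hF₀st.isStack.1 hℱ e₀ he₀ (FibCat.fpSnd y₀ f)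
  have hu₀₁ : AlgSt.RepByAlgSpWith (AlgSp.LocP @Smooth) u₀ :=
    hu₀.1 (repByAlgSpWith_fpSnd _ y₀ f hy₀)
  have hu₀₂ : AlgSt.RepByAlgSpWith AlgSp.IsSurjectiveMor u₀ :=
    hu₀.2 (repByAlgSpWith_fpSnd _ y₀ f hy₀s)
  have hu₀s : Function.Surjective (AlgSt.Points.map u₀) :=
    (isSurjective_iff_repByAlgSpWith hF₀st h𝒳 u₀ (repByAlgSp1_of_repByAlgSpWith _ u₀ hu₀₁)).2 hu₀₂
  have hw₀' : AlgSt.RepByAlgSpWith (AlgSp.LocP @Smooth) (AlgSt.ofSpMap w₀.hom) :=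
    repByAlgSpWith_ofSpMap _ bcStable_smooth W₀ F₀ w₀
      (locP_smooth_of_repWith_etale w₀.hom
        (Groth.Agent.Lib.Helper12.OpenSub.repWith_mono
          (fun _ _ g hg => by have : IsOpenImmersion g := hg; infer_instance) hL.1))
  let v : AlgSt.ofSp W₀.obj ⥤ᵇ 𝒳 := BasedFunctor.comp (AlgSt.ofSpMap w₀.hom) u₀
  have hv : AlgSt.RepByAlgSpWith (AlgSp.LocP @Smooth) v :=
    repByAlgSpWith_comp_of_compCond (isAlgStack_ofSp W₀).isStack.1 hF₀st.isStack.1 _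
      compCond_smooth (AlgSt.ofSpMap w₀.hom) u₀ hw₀' hu₀₁
  let T₀ : Set (AlgSt.Points 𝒳) := Set.range (AlgSt.Points.map v)
  have hT₀ : IsOpen T₀ :=
    (isOpenMap_points_map_of_flat_lfp_space h𝒳 W₀ v (flat_of_smooth hv)
      (lfp_of_smooth hv)).isOpen_range
  have hsub := isOpenSubstack_QT h𝒳 hT₀
  have hkey : ∀ ξ : AlgSp.Points F₀.obj, ξ ∈ Set.range (AlgSp.Points.map w₀.hom) ↔
      AlgSt.Points.map u₀ (toSt _ ξ) ∈ T₀ := by
    intro ξ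
    constructor
    · rintro ⟨η, rfl⟩
      exact ⟨toSt _ η, by rw [points_map_comp, toSt_map]⟩
    · rintro ⟨η', hη'⟩
      obtain ⟨η, rfl⟩ := toSt_surjective _ η'
      rw [points_map_comp, toSt_map] at hη'
      exact saturated h𝒳.isStack.1 h𝒴.isStack.1 P Q R h₂ h₄ f hf y₀ hy₀ F₀ e₀ he₀ hQ₀ W₀ w₀ hL
        (AlgSp.Points.map w₀.hom η) ξ hη' ⟨η, rfl⟩
  have hf1 := repByAlgSp1_of_repByAlgSpWith _ f hf
  refine ⟨hsub, ?_, ?_⟩
  · obtain ⟨G', g', e', he', ⟨ι⟩, hg', hpts⟩ := exists_open_subspace_of_openImm h𝒳.isStack.1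
      hsub.2.1.isStack.1 (AlgSt.subIncl 𝒳 (QT T₀)) hsub.2.2 F₀ u₀
    have hrange : Set.range (AlgSp.Points.map g'.hom) = Set.range (AlgSp.Points.map w₀.hom) := by
      ext ξ
      rw [hpts, hkey, range_subIncl_QT]
    obtain ⟨i, hi⟩ := Groth.Agent.Lib.Helper12.OpenSub.iso_of_range_eq g'.hom hg' w₀.hom hL.1 hrange
    rw [repByAlgSpWith_comp_openImm_iff h𝒳 hsub.2.1 h𝒴 P hPb hP f hf1
      (AlgSt.subIncl 𝒳 (QT T₀)) hsub.2.2 y₀ hy₀ hy₀s F₀ e₀ he₀ G' g' e' he' ι]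
    rw [← hi, Category.assoc]
    exact precomp_iso_of_bcStable P hPb G'.property W₀.property (AlgSp.IsAlgSpace.yon_obj V₀) i _
      hL.2.1
  · intro Q₁ hQ₁ hP₁ y hy
    obtain ⟨G₁, g₁, e₁, he₁, ⟨ι₁⟩, hg₁, hpts₁⟩ := exists_open_subspace_of_openImm h𝒳.isStack.1
      hQ₁.2.1.isStack.1 (AlgSt.subIncl 𝒳 Q₁) hQ₁.2.2 F₀ u₀
    have hPg₁ := (repByAlgSpWith_comp_openImm_iff h𝒳 hQ₁.2.1 h𝒴 P hPb hP f hf1
      (AlgSt.subIncl 𝒳 Q₁) hQ₁.2.2 y₀ hy₀ hy₀s F₀ e₀ he₀ G₁ g₁ e₁ he₁ ι₁).1 hP₁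
    obtain ⟨k, hk⟩ := hL.2.2 G₁ g₁ hg₁ hPg₁
    have hsubset : Set.range (AlgSt.Points.map (AlgSt.subIncl 𝒳 Q₁)) ⊆ T₀ := by
      intro t ht
      obtain ⟨ξ', rfl⟩ := hu₀s t
      obtain ⟨ξ, rfl⟩ := toSt_surjective _ ξ'
      rw [← hkey]
      obtain ⟨η, rfl⟩ := (hpts₁ ξ).2 ht
      refine ⟨AlgSp.Points.map k.hom η, ?_⟩
      rw [← AlgSp.Points.map_comp]
      exact congrArg (fun m : G₁ ⟶ F₀ => AlgSp.Points.map m.hom η) hk
    exact QT_mono hsubset y (le_QT_range h𝒳.isStack.1 Q₁ hQ₁.1 hQ₁.2.1.isStack.1 y hy)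

end Core

section Preimage

variable {S : Scheme.{u}} {𝒳 𝒲 : AlgSt.Cat S}

/-- The objects over the preimage of a set of points are the objects whose image lies over the
set. -/
theorem QT_preimage_iff (h𝒳 : FibCat.IsFibGrpd 𝒳.p) (h𝒲 : FibCat.IsFibGrpd 𝒲.p) (g : 𝒲 ⥤ᵇ 𝒳)
    (T : Set (AlgSt.Points 𝒳)) (b : 𝒲.obj) :
    QT (AlgSt.Points.map g ⁻¹' T) b ↔ QT T (g.obj b) := by
  constructor
  · intro h p a
    obtain ⟨b', π, e, -, hb'⟩ := exists_lift_over_map h𝒲 h𝒳 g (r := p.obj) (z := b) a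
    let q : AlgSt.FPt 𝒲 := { K := p.K, str := p.str, obj := b', lies := hb'.trans p.lies }
    have hq : AlgSt.Points.map g (AlgSt.Points.mk q) ∈ T := h q π
    rw [AlgSt.Points.map_mk] at hq
    have : AlgSt.Points.mk p = AlgSt.Points.mk (q.map g) :=
      (AlgSt.Points.sound ⟨q.map g, 𝟙 _, e.hom, trivial⟩).symm
    rw [this]
    exact hq
  · intro h q a
    exact h (q.map g) (g.map a)

/-- The preimage of an open substack under a functor between algebraic stacks. -/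
theorem isOpenSubstack_preimage (h𝒳 : AlgSt.IsAlgStack Scheme.fppfPrecoverage 𝒳)
    (h𝒲 : AlgSt.IsAlgStack Scheme.fppfPrecoverage 𝒲) (g : 𝒲 ⥤ᵇ 𝒳) (Q₀ : 𝒳.obj → Prop)
    (hQ₀ : AlgSt.IsOpenSubstack 𝒳 Q₀ Scheme.fppfPrecoverage) :
    AlgSt.IsOpenSubstack 𝒲 (fun b => Q₀ (g.obj b)) Scheme.fppfPrecoverage := by
  let T := Set.range (AlgSt.Points.map (AlgSt.subIncl 𝒳 Q₀))
  have hT : IsOpen T := isOpen_range_of_isOpenImm hQ₀.2.1 h𝒳 _ hQ₀.2.2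
  have hT' : IsOpen (AlgSt.Points.map g ⁻¹' T) := (continuous_points_map h𝒳 g).isOpen_preimage T hT
  have heq : (fun b => Q₀ (g.obj b)) = QT (AlgSt.Points.map g ⁻¹' T) := by
    funext b
    apply propext
    rw [QT_preimage_iff h𝒳.isStack.1 h𝒲.isStack.1 g T b]
    exact Iff.of_eq (congrFun (eq_QT_range h𝒳.isStack.1 Q₀ hQ₀) (g.obj b))
  rw [heq]
  exact isOpenSubstack_QT h𝒲 hT'

end Preimage

end Groth.Agent.Lib.Helper15LOCore
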