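-- helper15: adapted charts and base change of the largest open subspace.
import Mathlib
import Groth.Agent.Lib.Helper15LOCore

set_option autoImplicit false
set_option backward.isDefEq.respectTransparency false
set_option backward.isDefEq.respectTransparency.types false
open CategoryTheory CategoryTheory.Functor CategoryTheory.Limits Opposite AlgebraicGeometry

universe u

namespace Groth.Agent.Lib.Helper15LOAdapt

open Groth.Agent.Lib.Helper17 Groth.Agent.Lib.Helper15PshFib Groth.Agent.Lib.Helper15RepComp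
  Groth.Agent.Lib.Helper15RepPsh Groth.Agent.Lib.Helper15DiagBase Groth.Agent.Lib.Helper15DiagRepSp
  Groth.Agent.Lib.Helper15Descent Groth.Agent.Lib.Helper15DiagLft
  Groth.Agent.Lib.Helper15DiagDescent Groth.Agent.Lib.Helper15SpMapRep
  Groth.Agent.Lib.Helper15SrcCancel Groth.Agent.Lib.Helper15ChartSp Groth.Agent.Lib.Helper15Atlas
  Groth.Agent.Lib.Helper15LocEss Groth.Agent.Lib.Helper15UnivComp Groth.Agent.Lib.Helper15SmLoc
  Groth.Agent.Lib.Helper15PtsComp Groth.Agent.Lib.Helper15PtsTop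
  Groth.Agent.Lib.Helper15BaseChange Groth.Agent.Lib.Helper15LOChart Groth.Agent.Lib.Helper15LOBase
  Groth.Agent.Lib.Helper15LOSat Groth.Agent.Lib.Helper15OpenSubst Groth.Agent.Lib.Helper15OpenImage
  Groth.Agent.Lib.Helper15RepDescent Groth.Agent.Lib.Helper15LocQRep
  Groth.Agent.Lib.Helper17.RepStack Groth.Agent.Lib.Helper15LocQProps
  Groth.Agent.Lib.Helper15LocQSpace Groth.Agent.Lib.Helper15LOMain Groth.Agent.Lib.Helper15OpenSub
  Groth.Agent.Lib.Helper15LOCore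

section Adapt

variable {S : Scheme.{u}} {𝒴 𝒵 : AlgSt.Cat S}

/-- A smooth surjective scheme chart of `𝒵` adapted to a chart of `𝒴`: it maps to `V₀ ×_𝒴 𝒵` by an
etale surjective map. -/
theorem exists_adapted_chart (h𝒴 : FibCat.IsFibGrpd 𝒴.p) (h𝒵 : FibCat.IsFibGrpd 𝒵.p)
    (z : 𝒵 ⥤ᵇ 𝒴) (R : MorphismProperty (AlgSp.Sp S))
    (hz : AlgSt.RepByAlgSpWith R z) {V₀ : Over S} (y₀ : FibCat.overCat V₀ ⥤ᵇ 𝒴)
    (hy₀ : AlgSt.RepByAlgSpWith (AlgSp.LocP @Smooth) y₀)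
    (hy₀s : AlgSt.RepByAlgSpWith AlgSp.IsSurjectiveMor y₀) :
    ∃ (Z' : AlgSp.Space S) (g : Z'.obj ⟶ (AlgSp.yon S).obj V₀) (Z₁ : Over S)
      (s : (AlgSp.yon S).obj Z₁ ⟶ Z'.obj) (g₁ : Z₁ ⟶ V₀) (ζ₁ : FibCat.overCat Z₁ ⥤ᵇ 𝒵)
      (_ : BasedFunctor.comp (AlgSt.overMap g₁) y₀ ≅ BasedFunctor.comp ζ₁ z),
      R g ∧ AlgSp.RepWith @Etale s ∧ AlgSp.RepWith @Surjective s ∧
        (AlgSp.yon S).map g₁ = s ≫ g ∧
        AlgSt.RepByAlgSpWith (AlgSp.LocP @Smooth) ζ₁ ∧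
        AlgSt.RepByAlgSpWith AlgSp.IsSurjectiveMor ζ₁ := by
  obtain ⟨Z', eZ, heZ, hRg⟩ := hz V₀ y₀
  obtain ⟨Z₁, s, hse, hss⟩ := Z'.property.atlas
  let Ψ₁ : AlgSt.ofSp Z'.obj ⥤ᵇ FibCat.overCat V₀ := BasedFunctor.comp eZ (FibCat.fpFst y₀ z)
  obtain ⟨g₁, hg₁⟩ := (AlgSp.yon S).map_surjective (s ≫ AlgSt.spMapOfOver Ψ₁)
  let A : FibCat.overCat Z₁ ⥤ᵇ AlgSt.ofSp Z'.obj :=
    BasedFunctor.comp (AlgSt.ofOverCat Z₁) (AlgSt.ofSpMap s)
  let x : AlgSt.ofSp Z'.obj ⥤ᵇ 𝒵 := BasedFunctor.comp eZ (FibCat.fpSnd y₀ z)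
  have hV₀ : FibCat.IsFibGrpd (FibCat.overCat V₀).p := (isFibSet_overForget V₀).1
  have hfp : FibCat.IsFibGrpd (FibCat.fp y₀ z).p := isFibGrpd_fp y₀ z hV₀ h𝒵 h𝒴
  have hx := chart_precomp_equiv (𝒳 := 𝒵) (isAlgStack_ofSp Z').isStack.1 hfp eZ heZ
    (FibCat.fpSnd y₀ z)
  have hx₁ := hx.1 (repByAlgSpWith_fpSnd _ y₀ z hy₀)
  have hx₂ := hx.2 (repByAlgSpWith_fpSnd _ y₀ z hy₀s)
  have hζ := chart_precomp_atlas Z' s hse hss x
  have hA : ∀ c : Over Z₁, pshSec A c =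
      s.hom.app _ (⟨c.hom⟩ : ((AlgSp.yon S).obj Z₁).obj.obj (op c.left)) := by
    intro c
    change pshSec (BasedFunctor.comp (AlgSt.ofOverCat Z₁) (Stk.ofPshMap s.hom)) c = _
    rw [pshSec_comp_ofPshMap, pshSec_ofOverCat]
    rfl
  let lam₁ : BasedFunctor.comp A Ψ₁ ≅ AlgSt.overMap g₁ := isoOfOverCat (fun c => by
    rw [ovSec_pshSec, ovSec_overMap, ovSec_eq_spMapOfOver, hA]
    change ((s ≫ AlgSt.spMapOfOver Ψ₁).hom.app (op c.left) ⟨c.hom⟩).down = c.hom ≫ g₁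
    rw [← hg₁]
    rfl)
  let lam : BasedFunctor.comp (AlgSt.overMap g₁) y₀ ≅
      BasedFunctor.comp (BasedFunctor.comp A x) z :=
    (whiskerRightIso lam₁ y₀).symm ≪≫
    (whiskerLeftIso (BasedFunctor.comp A eZ) (FibCat.fpIso y₀ z) :
      BasedFunctor.comp (BasedFunctor.comp A Ψ₁) y₀ ≅
        BasedFunctor.comp (BasedFunctor.comp A x) z)
  exact ⟨Z', AlgSt.spMapOfOver Ψ₁, Z₁, s, g₁, BasedFunctor.comp A x, lam, hRg, hse, hss, hg₁,
    hζ.1 hx₁, hζ.2 hx₂⟩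

end Adapt

section BC

variable {S : Scheme.{u}}

/-- Base change of the largest open subspace along a map which factors as an etale map followed by
a map with `R`. -/
theorem exists_isLargest_baseChange (P Q R : MorphismProperty (AlgSp.Sp S)) (hQb : BCStable Q)
    (h₂ : ∀ (X Y : AlgSp.Space S) (g : X ⟶ Y), AlgSp.LocP @Smooth g.hom → R g.hom)
    (h₄ : ∀ (X Y X' Y' : AlgSp.Space S) (f : X ⟶ Y) (g : Y' ⟶ Y) (f' : X' ⟶ Y') (g' : X' ⟶ X),
      IsPullback g'.hom f'.hom f.hom g.hom → Q f.hom → R g.hom →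
      ∀ (W : AlgSp.Space S) (w : W ⟶ X), IsLargest P f W w →
        ∀ (W' : AlgSp.Space S) (w' : W' ⟶ X') (k : W' ⟶ W),
          IsPullback k.hom w'.hom w.hom g'.hom → IsLargest P f' W' w')
    {F₀ F₁ Z' : AlgSp.Space S} {V₀ Z₁ : Over S}
    (a₀ : F₀ ⟶ yonSp V₀) (hQ₀ : Q a₀.hom) (a₁ : F₁ ⟶ yonSp Z₁) (q : F₁ ⟶ F₀) (g₁ : Z₁ ⟶ V₀)
    (sq : IsPullback q.hom a₁.hom a₀.hom ((AlgSp.yon S).map g₁))
    (g : Z' ⟶ yonSp V₀) (hg : R g.hom) (s : yonSp Z₁ ⟶ Z') (hse : AlgSp.RepWith @Etale s.hom)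
    (hfac : (AlgSp.yon S).map g₁ = s.hom ≫ g.hom)
    (W₀ : AlgSp.Space S) (w₀ : W₀ ⟶ F₀) (hL : IsLargest P a₀ W₀ w₀) :
    ∃ (W₁ : AlgSp.Space S) (w₁ : W₁ ⟶ F₁), IsLargest P a₁ W₁ w₁ ∧
      Set.range (AlgSp.Points.map w₁.hom) =
        AlgSp.Points.map q.hom ⁻¹' Set.range (AlgSp.Points.map w₀.hom) := by
  -- the intermediate fibre product
  have pb := IsPullback.of_hasPullback a₀.hom g.hom
  have hFZ : AlgSp.IsAlgSpace (pullback a₀.hom g.hom) :=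
    Groth.Agent.S9874.isAlgSpace_of_isPullback (yonSp V₀).property.diag F₀.property Z'.property pb
  let FZ : AlgSp.Space S := ⟨pullback a₀.hom g.hom, hFZ⟩
  let q'' : FZ ⟶ F₀ := ObjectProperty.homMk (pullback.fst a₀.hom g.hom)
  let aZ : FZ ⟶ Z' := ObjectProperty.homMk (pullback.snd a₀.hom g.hom)
  have hcomm : q.hom ≫ a₀.hom = (a₁.hom ≫ s.hom) ≫ g.hom := by
    rw [sq.w, hfac, Category.assoc]
  let q'h : F₁.obj ⟶ pullback a₀.hom g.hom := pullback.lift q.hom (a₁.hom ≫ s.hom) hcomm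
  let q' : F₁ ⟶ FZ := ObjectProperty.homMk q'h
  have hq'1 : q'h ≫ pullback.fst a₀.hom g.hom = q.hom := pullback.lift_fst _ _ _
  have hq'2 : q'h ≫ pullback.snd a₀.hom g.hom = a₁.hom ≫ s.hom := pullback.lift_snd _ _ _
  have left : IsPullback q'h a₁.hom (pullback.snd a₀.hom g.hom) s.hom := by
    refine IsPullback.of_right ?_ hq'2 pb
    rw [hq'1, ← hfac]
    exact sq
  -- first base change
  have pbW := IsPullback.of_hasPullback w₀.hom q''.hom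
  have hW' : AlgSp.IsAlgSpace (pullback w₀.hom q''.hom) :=
    Groth.Agent.S9874.isAlgSpace_of_isPullback F₀.property.diag W₀.property FZ.property pbW
  let W' : AlgSp.Space S := ⟨pullback w₀.hom q''.hom, hW'⟩
  let w' : W' ⟶ FZ := ObjectProperty.homMk (pullback.snd w₀.hom q''.hom)
  let k' : W' ⟶ W₀ := ObjectProperty.homMk (pullback.fst w₀.hom q''.hom)
  have hL' : IsLargest P aZ W' w' :=
    h₄ F₀ (yonSp V₀) FZ Z' a₀ g aZ q'' pb hQ₀ hg W₀ w₀ hL W' w' k' pbW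
  have hQZ : Q aZ.hom :=
    hQb F₀.property (yonSp V₀).property FZ.property Z'.property a₀.hom g.hom aZ.hom q''.hom pb hQ₀
  have hRs : R s.hom := h₂ (yonSp Z₁) Z' s (locP_smooth_of_repWith_etale s.hom hse)
  -- second base change
  have pbW' := IsPullback.of_hasPullback w'.hom q'.hom
  have hW'' : AlgSp.IsAlgSpace (pullback w'.hom q'.hom) :=
    Groth.Agent.S9874.isAlgSpace_of_isPullback FZ.property.diag W'.property F₁.property pbW'
  let W'' : AlgSp.Space S := ⟨pullback w'.hom q'.hom, hW''⟩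
  let w'' : W'' ⟶ F₁ := ObjectProperty.homMk (pullback.snd w'.hom q'.hom)
  let k'' : W'' ⟶ W' := ObjectProperty.homMk (pullback.fst w'.hom q'.hom)
  have hL'' : IsLargest P a₁ W'' w'' :=
    h₄ FZ Z' F₁ (yonSp Z₁) aZ s a₁ q' left hQZ hRs W' w' hL' W'' w'' k'' pbW'
  refine ⟨W'', w'', hL'', ?_⟩
  have r1 := Groth.Agent.Lib.Helper12.OpenSub.range_map_fst_of_isPullback pbW'.flip
  have r2 := Groth.Agent.Lib.Helper12.OpenSub.range_map_fst_of_isPullback pbW.flip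
  change Set.range (AlgSp.Points.map (pullback.snd w'.hom q'.hom)) = _
  rw [r1]
  change AlgSp.Points.map q'h ⁻¹' Set.range (AlgSp.Points.map (pullback.snd w₀.hom q''.hom)) = _
  rw [r2, ← Set.preimage_comp]
  congr 1
  funext t
  change AlgSp.Points.map (pullback.fst a₀.hom g.hom) (AlgSp.Points.map q'h t) = _
  rw [← AlgSp.Points.map_comp, hq'1]

end BC

end Groth.Agent.Lib.Helper15LOAdapt
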