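-- helper15: base change of the largest open substack along a representable functor.
import Mathlib
import Groth.Agent.Lib.Helper15LOAdapt

set_option autoImplicit false
set_option backward.isDefEq.respectTransparency false
set_option backward.isDefEq.respectTransparency.types false
open CategoryTheory CategoryTheory.Functor CategoryTheory.Limits Opposite AlgebraicGeometry

universe u

namespace Groth.Agent.Lib.Helper15LOBC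

open Groth.Agent.Lib.Helper17 Groth.Agent.Lib.Helper15PshFib Groth.Agent.Lib.Helper15RepComp
  Groth.Agent.Lib.Helper15RepPsh Groth.Agent.Lib.Helper15DiagBase Groth.Agent.Lib.Helper15DiagRepSp
  Groth.Agent.Lib.Helper15Descent Groth.Agent.Lib.Helper15DiagLft
  Groth.Agent.Lib.Helper15DiagDescent Groth.Agent.Lib.Helper15SpMapRep
  Groth.Agent.Lib.Helper15SrcCancel Groth.Agent.Lib.Helper15ChartSp Groth.Agent.Lib.Helper15Atlas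
  Groth.Agent.Lib.Helper15LocEss Groth.Agent.Lib.Helper15UnivComp Groth.Agent.Lib.Helper15SmLoc
  Groth.Agent.Lib.Helper15PtsComp Groth.Agent.Lib.Helper15PtsTop
  Groth.Agent.Lib.Helper15BaseChange Groth.Agent.Lib.Helper15LOChart Groth.Agent.Lib.Helper15LOBase
  Groth.Agent.Lib.Helper15LOSat Groth.Agent.Lib.Helper15OpenSubst Groth.Agent.Lib.Helper15OpenImage
  Groth.Agent.Lib.Helper15RepDescent Groth.Agent.Lib.Helper15LocQRep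
  Groth.Agent.Lib.Helper17.RepStack Groth.Agent.Lib.Helper15LocQProps
  Groth.Agent.Lib.Helper15LocQSpace Groth.Agent.Lib.Helper15LOMain Groth.Agent.Lib.Helper15OpenSub
  Groth.Agent.Lib.Helper15LOCore Groth.Agent.Lib.Helper15LOAdapt Groth.Agent.Lib.Helper15FpEtale

section Key

variable {S : Scheme.{u}} {𝒳 𝒴 : AlgSt.Cat S}

/-- The largest open subspace of the chart is the preimage of its image. -/
theorem mem_range_iff_of_chart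
    (h𝒳 : AlgSt.IsAlgStack Scheme.fppfPrecoverage 𝒳) (h𝒴 : AlgSt.IsAlgStack Scheme.fppfPrecoverage 𝒴)
    (P Q R : MorphismProperty (AlgSp.Sp S))
    (h₂ : ∀ (X Y : AlgSp.Space S) (g : X ⟶ Y), AlgSp.LocP @Smooth g.hom → R g.hom)
    (h₄ : ∀ (X Y X' Y' : AlgSp.Space S) (f : X ⟶ Y) (g : Y' ⟶ Y) (f' : X' ⟶ Y') (g' : X' ⟶ X),
      IsPullback g'.hom f'.hom f.hom g.hom → Q f.hom → R g.hom →
      ∀ (W : AlgSp.Space S) (w : W ⟶ X), IsLargest P f W w →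
        ∀ (W' : AlgSp.Space S) (w' : W' ⟶ X') (k : W' ⟶ W),
          IsPullback k.hom w'.hom w.hom g'.hom → IsLargest P f' W' w')
    (f : 𝒳 ⥤ᵇ 𝒴) (hf : AlgSt.RepByAlgSpWith Q f)
    {V₀ : Over S} (y₀ : FibCat.overCat V₀ ⥤ᵇ 𝒴)
    (hy₀ : AlgSt.RepByAlgSpWith (AlgSp.LocP @Smooth) y₀)
    (F₀ : AlgSp.Space S) (e₀ : AlgSt.ofSp F₀.obj ⥤ᵇ FibCat.fp y₀ f) (he₀ : FibCat.IsEquivOver e₀)
    (hQ₀ : Q (AlgSt.spMapOfOver (BasedFunctor.comp e₀ (FibCat.fpFst y₀ f))))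
    (W₀ : AlgSp.Space S) (w₀ : W₀ ⟶ F₀)
    (hL : IsLargest P (ObjectProperty.homMk
      (AlgSt.spMapOfOver (BasedFunctor.comp e₀ (FibCat.fpFst y₀ f))) : F₀ ⟶ yonSp V₀) W₀ w₀)
    (ξ : AlgSp.Points F₀.obj) :
    ξ ∈ Set.range (AlgSp.Points.map w₀.hom) ↔
      AlgSt.Points.map (BasedFunctor.comp e₀ (FibCat.fpSnd y₀ f)) (toSt _ ξ) ∈
        Set.range (AlgSt.Points.map (BasedFunctor.comp (AlgSt.ofSpMap w₀.hom)
          (BasedFunctor.comp e₀ (FibCat.fpSnd y₀ f)))) := by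
  constructor
  · rintro ⟨η, rfl⟩
    exact ⟨toSt _ η, by rw [points_map_comp, toSt_map]⟩
  · rintro ⟨η', hη'⟩
    obtain ⟨η, rfl⟩ := toSt_surjective _ η'
    rw [points_map_comp, toSt_map] at hη'
    exact saturated h𝒳.isStack.1 h𝒴.isStack.1 P Q R h₂ h₄ f hf y₀ hy₀ F₀ e₀ he₀ hQ₀ W₀ w₀ hL
      (AlgSp.Points.map w₀.hom η) ξ hη' ⟨η, rfl⟩

end Key

section BaseChange

variable {S : Scheme.{u}} {𝒳 𝒴 𝒵 : AlgSt.Cat S}

theorem isLargest_preimage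
    (h𝒳 : AlgSt.IsAlgStack Scheme.fppfPrecoverage 𝒳) (h𝒴 : AlgSt.IsAlgStack Scheme.fppfPrecoverage 𝒴)
    (h𝒵 : AlgSt.IsAlgStack Scheme.fppfPrecoverage 𝒵)
    (P Q R : MorphismProperty (AlgSp.Sp S)) (hPb : BCStable P) (hQb : BCStable Q)
    (hP : AlgSp.IsLocalOnBase AlgSp.IsFppfCover P)
    (h₂ : ∀ (X Y : AlgSp.Space S) (g : X ⟶ Y), AlgSp.LocP @Smooth g.hom → R g.hom)
    (h₃ : ∀ (X Y : AlgSp.Space S) (f : X ⟶ Y), Q f.hom →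
      ∃ (W : AlgSp.Space S) (w : W ⟶ X), IsLargest P f W w)
    (h₄ : ∀ (X Y X' Y' : AlgSp.Space S) (f : X ⟶ Y) (g : Y' ⟶ Y) (f' : X' ⟶ Y') (g' : X' ⟶ X),
      IsPullback g'.hom f'.hom f.hom g.hom → Q f.hom → R g.hom →
      ∀ (W : AlgSp.Space S) (w : W ⟶ X), IsLargest P f W w →
        ∀ (W' : AlgSp.Space S) (w' : W' ⟶ X') (k : W' ⟶ W),
          IsPullback k.hom w'.hom w.hom g'.hom → IsLargest P f' W' w')
    (f : 𝒳 ⥤ᵇ 𝒴) (hf : AlgSt.RepByAlgSpWith Q f)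
    (Q₀ : 𝒳.obj → Prop) (hQ₀ : AlgSt.IsOpenSubstack 𝒳 Q₀ Scheme.fppfPrecoverage)
    (hQ₀P : AlgSt.RepByAlgSpWith P (BasedFunctor.comp (AlgSt.subIncl 𝒳 Q₀) f))
    (hQ₀max : ∀ Q₁ : 𝒳.obj → Prop, AlgSt.IsOpenSubstack 𝒳 Q₁ Scheme.fppfPrecoverage →
      AlgSt.RepByAlgSpWith P (BasedFunctor.comp (AlgSt.subIncl 𝒳 Q₁) f) → ∀ y, Q₁ y → Q₀ y)
    (z : 𝒵 ⥤ᵇ 𝒴) (hz : AlgSt.RepByAlgSpWith R z) :
    AlgSt.IsOpenSubstack (FibCat.fp z f) (fun b ↦ Q₀ b.obj.snd) Scheme.fppfPrecoverage ∧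
      AlgSt.RepByAlgSpWith P
        (BasedFunctor.comp (AlgSt.subIncl (FibCat.fp z f) fun b ↦ Q₀ b.obj.snd) (FibCat.fpFst z f)) ∧
        ∀ Q₁ : (FibCat.fp z f).obj → Prop, AlgSt.IsOpenSubstack (FibCat.fp z f) Q₁ Scheme.fppfPrecoverage →
          AlgSt.RepByAlgSpWith P (BasedFunctor.comp (AlgSt.subIncl (FibCat.fp z f) Q₁) (FibCat.fpFst z f)) →
            ∀ b, Q₁ b → Q₀ b.obj.snd := by
  -- the chart of `𝒴` and the data for `f`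
  obtain ⟨V₀, y₀, hy₀, hy₀s⟩ := h𝒴.atlas
  obtain ⟨F₀, e₀, he₀, hQF₀⟩ := hf V₀ y₀
  let a₀ : F₀ ⟶ yonSp V₀ :=
    ObjectProperty.homMk (AlgSt.spMapOfOver (BasedFunctor.comp e₀ (FibCat.fpFst y₀ f)))
  obtain ⟨W₀, w₀, hL₀⟩ := h₃ F₀ (yonSp V₀) a₀ hQF₀
  let u₀ : AlgSt.ofSp F₀.obj ⥤ᵇ 𝒳 := BasedFunctor.comp e₀ (FibCat.fpSnd y₀ f)
  let T₀ : Set (AlgSt.Points 𝒳) :=
    Set.range (AlgSt.Points.map (BasedFunctor.comp (AlgSt.ofSpMap w₀.hom) u₀))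
  have core₀ := isLargest_QT_of_chart h𝒳 h𝒴 P Q R hPb hP h₂ h₄ f hf y₀ hy₀ hy₀s F₀ e₀ he₀ hQF₀
    W₀ w₀ hL₀ T₀ rfl
  have hkey₀ := mem_range_iff_of_chart h𝒳 h𝒴 P Q R h₂ h₄ f hf y₀ hy₀ F₀ e₀ he₀ hQF₀ W₀ w₀ hL₀
  have huniq : ∀ x, Q₀ x ↔ QT T₀ x := fun x =>
    ⟨core₀.2.2 Q₀ hQ₀ hQ₀P x, hQ₀max (QT T₀) core₀.1 core₀.2.1 x⟩
  -- the adapted chart of `𝒵`
  obtain ⟨Z', g, Z₁, s, g₁, ζ₁, lam, hRg, hse, hss, hg₁, hζ₁, hζ₁s⟩ :=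
    exists_adapted_chart h𝒴.isStack.1 h𝒵.isStack.1 z R hz y₀ hy₀ hy₀s
  let π₁ := FibCat.fpFst z f
  let π₂ := FibCat.fpSnd z f
  have hπ₁ : AlgSt.RepByAlgSpWith Q π₁ := repByAlgSpWith_fpFst Q f z hf
  have h𝒫 : AlgSt.IsAlgStack Scheme.fppfPrecoverage (FibCat.fp z f) :=
    isAlgStack_fp _ h𝒵 h𝒳 h𝒴 z f
  obtain ⟨F₁, e₁', he₁', hQF₁⟩ := hπ₁ Z₁ ζ₁
  have i𝒴 := IsEquivOver.isEquivalence (BasedFunctor.id 𝒴) (isEquivOver_id _)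
  let N₂ : FibCat.fp (BasedFunctor.comp ζ₁ z) f ⥤ᵇ
      FibCat.fp (BasedFunctor.comp (AlgSt.overMap g₁) y₀) f :=
    fpMap (BasedFunctor.comp (AlgSt.overMap g₁) y₀) f (BasedFunctor.comp ζ₁ z) f
      (BasedFunctor.id _) (BasedFunctor.id _) (BasedFunctor.id _) lam.symm (Iso.refl _)
  have hN₂ : FibCat.IsEquivOver N₂ :=
    isEquivOver_fpMap (BasedFunctor.comp (AlgSt.overMap g₁) y₀) f (BasedFunctor.comp ζ₁ z) f
      (BasedFunctor.id _) (BasedFunctor.id _) (BasedFunctor.id _) lam.symm (Iso.refl _)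
      (isEquivOver_id _) (isEquivOver_id _)
  let N : FibCat.fp ζ₁ π₁ ⥤ᵇ FibCat.fp (BasedFunctor.comp (AlgSt.overMap g₁) y₀) f :=
    BasedFunctor.comp (pasteL f z ζ₁) N₂
  have hN : FibCat.IsEquivOver N := IsEquivOver.comp _ _ (isEquivOver_pasteL f z ζ₁) hN₂
  let e₁ : AlgSt.ofSp F₁.obj ⥤ᵇ FibCat.fp (BasedFunctor.comp (AlgSt.overMap g₁) y₀) f :=
    BasedFunctor.comp e₁' N
  have he₁ : FibCat.IsEquivOver e₁ := IsEquivOver.comp _ _ he₁' hN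
  obtain ⟨q, sq, hq⟩ := exists_isPullback_baseChange_pts f y₀ F₀.obj e₀ he₀ g₁
    (BasedFunctor.comp (AlgSt.overMap g₁) y₀) (Iso.refl _) F₁.obj e₁ he₁
  let a₁ : F₁ ⟶ yonSp Z₁ :=
    ObjectProperty.homMk (AlgSt.spMapOfOver (BasedFunctor.comp e₁' (FibCat.fpFst ζ₁ π₁)))
  have sq' : IsPullback q a₁.hom a₀.hom ((AlgSp.yon S).map g₁) := sq
  obtain ⟨W₁, w₁, hL₁, hr₁⟩ := exists_isLargest_baseChange P Q R hQb h₂ h₄ a₀ hQF₀ a₁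
    (ObjectProperty.homMk q) g₁ sq' (ObjectProperty.homMk g : Z' ⟶ yonSp V₀) hRg
    (ObjectProperty.homMk s : yonSp Z₁ ⟶ Z') hse hg₁ W₀ w₀ hL₀
  let u₁ : AlgSt.ofSp F₁.obj ⥤ᵇ FibCat.fp z f := BasedFunctor.comp e₁' (FibCat.fpSnd ζ₁ π₁)
  let T₁ : Set (AlgSt.Points (FibCat.fp z f)) :=
    Set.range (AlgSt.Points.map (BasedFunctor.comp (AlgSt.ofSpMap w₁.hom) u₁))
  have core₁ := isLargest_QT_of_chart h𝒫 h𝒵 P Q R hPb hP h₂ h₄ π₁ hπ₁ ζ₁ hζ₁ hζ₁s F₁ e₁' he₁'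
    hQF₁ W₁ w₁ hL₁ T₁ rfl
  -- the chart of the fibre product is surjective on points
  have hF₁st := isAlgStack_ofSp F₁
  have hZ₁ : FibCat.IsFibGrpd (FibCat.overCat Z₁).p := (isFibSet_overForget Z₁).1
  have hℱ₁ : FibCat.IsFibGrpd (FibCat.fp ζ₁ π₁).p :=
    isFibGrpd_fp ζ₁ π₁ hZ₁ h𝒫.isStack.1 h𝒵.isStack.1
  have hu₁ := chart_precomp_equiv (𝒳 := FibCat.fp z f) hF₁st.isStack.1 hℱ₁ e₁' he₁'
    (FibCat.fpSnd ζ₁ π₁)
  have hu₁₁ : AlgSt.RepByAlgSpWith (AlgSp.LocP @Smooth) u₁ :=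
    hu₁.1 (repByAlgSpWith_fpSnd _ ζ₁ π₁ hζ₁)
  have hu₁₂ : AlgSt.RepByAlgSpWith AlgSp.IsSurjectiveMor u₁ :=
    hu₁.2 (repByAlgSpWith_fpSnd _ ζ₁ π₁ hζ₁s)
  have hu₁s : Function.Surjective (AlgSt.Points.map u₁) :=
    (isSurjective_iff_repByAlgSpWith hF₁st h𝒫 u₁ (repByAlgSp1_of_repByAlgSpWith _ u₁ hu₁₁)).2 hu₁₂
  -- compatibility of the charts on points
  have hC : ∀ ξ : AlgSp.Points F₁.obj,
      AlgSt.Points.map π₂ (AlgSt.Points.map u₁ (toSt _ ξ)) =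
        AlgSt.Points.map u₀ (toSt _ (AlgSp.Points.map q ξ)) := by
    intro ξ
    rw [← toSt_map, points_map_comp e₀, hq, ← points_map_comp, ← points_map_comp,
      ← points_map_comp]
    exact points_map_eq_of_forall_hom _ _ (fun x => ⟨𝟙 _⟩) (toSt _ ξ)
  have hT : T₁ = AlgSt.Points.map π₂ ⁻¹' T₀ := by
    ext t
    constructor
    · rintro ⟨η', rfl⟩
      obtain ⟨η, rfl⟩ := toSt_surjective _ η'
      rw [Set.mem_preimage, points_map_comp, toSt_map, hC, ← hkey₀]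
      have : AlgSp.Points.map w₁.hom η ∈ Set.range (AlgSp.Points.map w₁.hom) := ⟨η, rfl⟩
      rw [hr₁] at this
      exact this
    · intro ht
      obtain ⟨ξ', rfl⟩ := hu₁s t
      obtain ⟨ξ, rfl⟩ := toSt_surjective _ ξ'
      rw [Set.mem_preimage, hC, ← hkey₀] at ht
      have h1 : ξ ∈ Set.range (AlgSp.Points.map w₁.hom) := by
        rw [hr₁]
        exact ht
      obtain ⟨η, rfl⟩ := h1
      exact ⟨toSt _ η, by rw [points_map_comp, toSt_map]⟩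
  have heq : (fun b : (FibCat.fp z f).obj => Q₀ b.obj.snd) = QT T₁ := by
    funext b
    apply propext
    rw [hT, QT_preimage_iff h𝒳.isStack.1 h𝒫.isStack.1 π₂ T₀ b]
    exact huniq b.obj.snd
  refine ⟨?_, ?_, ?_⟩
  · rw [heq]
    exact core₁.1
  · rw [heq]
    exact core₁.2.1
  · intro Q₁ h1 h2 b hb
    exact (congrFun heq b).mpr (core₁.2.2 Q₁ h1 h2 b hb)

end BaseChange

end Groth.Agent.Lib.Helper15LOBC
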