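-- helper15: an algebraic stack covered by open substacks with thin fibres has thin fibres.
import Mathlib
import Groth.Agent.Lib.Helper15LOBC
import Groth.Agent.Lib.Helper17StkElem

set_option autoImplicit false
set_option backward.isDefEq.respectTransparency false
set_option backward.isDefEq.respectTransparency.types false
open CategoryTheory CategoryTheory.Functor CategoryTheory.Limits Opposite AlgebraicGeometry

universe u w

namespace Groth.Agent.Lib.Helper15CovSetoid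

open Groth.Agent.Lib.Helper17 Groth.Agent.Lib.Helper15PshFib Groth.Agent.Lib.Helper15RepComp
  Groth.Agent.Lib.Helper15RepPsh Groth.Agent.Lib.Helper15DiagBase Groth.Agent.Lib.Helper15DiagRepSp
  Groth.Agent.Lib.Helper15Descent Groth.Agent.Lib.Helper15DiagLft
  Groth.Agent.Lib.Helper15DiagDescent Groth.Agent.Lib.Helper15SpMapRep
  Groth.Agent.Lib.Helper15SrcCancel Groth.Agent.Lib.Helper15ChartSp Groth.Agent.Lib.Helper15Atlas
  Groth.Agent.Lib.Helper15LocEss Groth.Agent.Lib.Helper15UnivComp Groth.Agent.Lib.Helper15SmLoc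
  Groth.Agent.Lib.Helper15PtsComp Groth.Agent.Lib.Helper15PtsTop
  Groth.Agent.Lib.Helper15BaseChange Groth.Agent.Lib.Helper15LOChart Groth.Agent.Lib.Helper15LOBase
  Groth.Agent.Lib.Helper15LOSat Groth.Agent.Lib.Helper15OpenSubst Groth.Agent.Lib.Helper15OpenImage
  Groth.Agent.Lib.Helper15RepDescent Groth.Agent.Lib.Helper15LocQRep
  Groth.Agent.Lib.Helper17.RepStack Groth.Agent.Lib.Helper15LocQProps
  Groth.Agent.Lib.Helper15LocQSpace Groth.Agent.Lib.Helper15LOMain Groth.Agent.Lib.Helper15OpenSub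
  Groth.Agent.Lib.Helper15LOCore Groth.Agent.Lib.Helper15LOAdapt Groth.Agent.Lib.Helper15FpEtale
  Groth.Agent.Lib.Helper17.Elem

section A

variable {S : Scheme.{u}} {𝒳 : AlgSt.Cat S}

/-- The covering sieve of a chart by the preimages of a family of open substacks whose points
exhaust the stack. -/
theorem exists_covering_sieve (h𝒳 : AlgSt.IsAlgStack Scheme.fppfPrecoverage 𝒳) {ι : Type w}
    (Q : ι → 𝒳.obj → Prop) (hQ : ∀ i, AlgSt.IsOpenSubstack 𝒳 (Q i) Scheme.fppfPrecoverage)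
    (hcov : ⋃ i, Set.range (AlgSt.Points.map (AlgSt.subIncl 𝒳 (Q i))) = Set.univ)
    (U : Over S) (y : FibCat.overCat U ⥤ᵇ 𝒳) :
    ∃ R : Sieve U, R ∈ AlgSp.J S U ∧
      ∀ ⦃W : Over S⦄ (f : W ⟶ U), R f → ∃ i, Q i (y.obj (Over.mk f)) := by
  have hfib := h𝒳.isStack.1
  have hT : ∀ i, IsOpen (Set.range (AlgSt.Points.map (AlgSt.subIncl 𝒳 (Q i)))) := fun i =>
    isOpen_range_of_isOpenImm (hQ i).2.1 h𝒳 _ (hQ i).2.2
  choose U' ι' hmono hoi hrange ha hb using fun i => exists_chart_QT h𝒳 (hT i) U y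
  refine ⟨Sieve.ofArrows U' ι', ?_, ?_⟩
  · rw [GrothendieckTopology.mem_over_iff, Sieve.overEquiv_ofArrows]
    apply Precoverage.generate_mem_toGrothendieck
    rw [Scheme.fppfPrecoverage, Scheme.ofArrows_mem_precoverage_iff]
    refine ⟨fun t => ?_, fun i => ?_⟩
    · have : AlgSt.Points.ofChart y t ∈
          ⋃ i, Set.range (AlgSt.Points.map (AlgSt.subIncl 𝒳 (Q i))) := by
        rw [hcov]; trivial
      obtain ⟨i, hi⟩ := Set.mem_iUnion.1 this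
      refine ⟨i, ?_⟩
      have h2 : t ∈ Set.range (ι' i).left := by rw [hrange i]; exact hi
      exact h2
    · have := hoi i
      exact ⟨inferInstance, inferInstance⟩
  · intro W f hf
    rw [Sieve.mem_ofArrows_iff] at hf
    obtain ⟨i, g, rfl⟩ := hf
    refine ⟨i, ?_⟩
    rw [eq_QT_range hfib (Q i) (hQ i)]
    exact ha i (Over.mk g)

/-- An algebraic stack covered by open substacks whose fibres are thin has thin fibres. -/
theorem isFibSetoid_of_open_cover (h𝒳 : AlgSt.IsAlgStack Scheme.fppfPrecoverage 𝒳) {ι : Type w}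
    (Q : ι → 𝒳.obj → Prop) (hQ : ∀ i, AlgSt.IsOpenSubstack 𝒳 (Q i) Scheme.fppfPrecoverage)
    (hcov : ⋃ i, Set.range (AlgSt.Points.map (AlgSt.subIncl 𝒳 (Q i))) = Set.univ)
    (hthin : ∀ i (W : Over S), Quiver.IsThin ((AlgSt.fullSub 𝒳 (Q i)).p.Fiber W)) :
    FibCat.IsFibSetoid 𝒳.p := by
  have hfib := h𝒳.isStack.1
  refine ⟨hfib, fun U X Y => ⟨fun m m' => ?_⟩⟩
  apply Subtype.ext
  have hθ : 𝒳.p.IsHomLift (𝟙 U) m.1 := m.2
  have hθ' : 𝒳.p.IsHomLift (𝟙 U) m'.1 := m'.2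
  have := IsFibGrpd.isFibered hfib
  let y₀ : FibCat.overCat U ⥤ᵇ 𝒳 := yonedaFunctor X.2
  obtain ⟨R, hR, hRQ⟩ := exists_covering_sieve h𝒳 Q hQ hcov U y₀
  have hps : PSFaithful R 𝒳 := ((isStackFor_iff hfib).1 (h𝒳.isStack.2 R hR)).1
  apply hps m.1 m'.1 hθ hθ'
  intro a φ hφ
  obtain ⟨W, f, hf, hlift⟩ := hφ
  obtain ⟨i, hi⟩ := hRQ f hf
  -- `a` is isomorphic to the chosen pullback, hence lies in `Q i`
  have hcart : 𝒳.p.IsHomLift f (yonedaCart X.2 (Over.mk f)) :=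
    (yonedaCart_isStronglyCartesian X.2 (Over.mk f)).toIsHomLift
  obtain ⟨e, -, -⟩ := IsFibGrpd.exists_iso_of_lifts hfib f φ (yonedaCart X.2 (Over.mk f))
  have hQa : Q i a := (hQ i).1.of_iso e.symm hi
  -- a lift of `f` with target `Y`
  obtain ⟨b, ψ, hψ⟩ := hfib.exists_lift (x := Y.1) (f ≫ eqToHom Y.2.symm)
  have hψ' : 𝒳.p.IsHomLift f ψ := (IsHomLift.lift_comp_eqToHom_iff (p := 𝒳.p) f ψ Y.2.symm).1 hψ
  have sc := IsFibGrpd.isStronglyCartesian_of_isHomLift hfib f ψ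
  have l1 : 𝒳.p.IsHomLift f (φ ≫ m.1) := by
    have : 𝒳.p.IsHomLift (f ≫ 𝟙 U) (φ ≫ m.1) := inferInstance
    simpa using this
  have l2 : 𝒳.p.IsHomLift f (φ ≫ m'.1) := by
    have : 𝒳.p.IsHomLift (f ≫ 𝟙 U) (φ ≫ m'.1) := inferInstance
    simpa using this
  obtain ⟨χ, ⟨hχ, eχ⟩, -⟩ := IsStronglyCartesian.universal_property 𝒳.p f ψ (𝟙 W) f
    (Category.id_comp f).symm (φ ≫ m.1)
  obtain ⟨χ', ⟨hχ', eχ'⟩, -⟩ := IsStronglyCartesian.universal_property 𝒳.p f ψ (𝟙 W) f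
    (Category.id_comp f).symm (φ ≫ m'.1)
  have hiso : IsIso χ := IsFibGrpd.isIso_of_isHomLift_id hfib W χ
  have hQb : Q i b := (hQ i).1.of_iso (asIso χ) hQa
  have haW : 𝒳.p.obj a = W := IsHomLift.domain_eq 𝒳.p (𝟙 W) χ
  have hbW : 𝒳.p.obj b = W := IsHomLift.codomain_eq 𝒳.p (𝟙 W) χ
  have key : χ = χ' := by
    let A : (AlgSt.fullSub 𝒳 (Q i)).p.Fiber W := ⟨⟨a, hQa⟩, haW⟩
    let B : (AlgSt.fullSub 𝒳 (Q i)).p.Fiber W := ⟨⟨b, hQb⟩, hbW⟩
    have h1 : (AlgSt.fullSub 𝒳 (Q i)).p.IsHomLift (𝟙 W)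
        (ObjectProperty.homMk χ : (⟨a, hQa⟩ : (AlgSt.fullSub 𝒳 (Q i)).obj) ⟶ ⟨b, hQb⟩) :=
      (isHomLift_comp_iff (ObjectProperty.ι (Q i)) 𝒳.p (𝟙 W) _).2 hχ
    have h2 : (AlgSt.fullSub 𝒳 (Q i)).p.IsHomLift (𝟙 W)
        (ObjectProperty.homMk χ' : (⟨a, hQa⟩ : (AlgSt.fullSub 𝒳 (Q i)).obj) ⟶ ⟨b, hQb⟩) :=
      (isHomLift_comp_iff (ObjectProperty.ι (Q i)) 𝒳.p (𝟙 W) _).2 hχ'
    let k : A ⟶ B := ⟨ObjectProperty.homMk χ, h1⟩
    let k' : A ⟶ B := ⟨ObjectProperty.homMk χ', h2⟩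
    have : k = k' := @Subsingleton.elim _ ((hthin i W) A B) _ _
    exact congrArg (fun t => t.1.hom) this
  rw [← eχ, ← eχ', key]

end A

end Groth.Agent.Lib.Helper15CovSetoid
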