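-- helper15: open substacks that are algebraic spaces give representable open immersions of sheaves.
import Mathlib
import Groth.Agent.Lib.Helper15LOBC
import Groth.Agent.Lib.Helper17StkElem
import Groth.Agent.Lib.Helper12OpenCoverSp
import Groth.Agent.S12782
import Groth.Agent.S12787
import Groth.Agent.S12793
import Groth.Agent.S12796

set_option autoImplicit false
set_option backward.isDefEq.respectTransparency false
set_option backward.isDefEq.respectTransparency.types false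
open CategoryTheory CategoryTheory.Functor CategoryTheory.Limits Opposite AlgebraicGeometry

universe u w

namespace Groth.Agent.Lib.Helper15CovSpace

open Groth.Agent.Lib.Helper17 Groth.Agent.Lib.Helper15PshFib Groth.Agent.Lib.Helper15RepComp
  Groth.Agent.Lib.Helper15RepPsh Groth.Agent.Lib.Helper15DiagBase Groth.Agent.Lib.Helper15DiagRepSp
  Groth.Agent.Lib.Helper15Descent Groth.Agent.Lib.Helper15DiagLft
  Groth.Agent.Lib.Helper15DiagDescent Groth.Agent.Lib.Helper15SpMapRep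
  Groth.Agent.Lib.Helper15SrcCancel Groth.Agent.Lib.Helper15ChartSp Groth.Agent.Lib.Helper15Atlas
  Groth.Agent.Lib.Helper15LocEss Groth.Agent.Lib.Helper15UnivComp Groth.Agent.Lib.Helper15SmLoc
  Groth.Agent.Lib.Helper15PtsComp Groth.Agent.Lib.Helper15PtsTop
  Groth.Agent.Lib.Helper15BaseChange Groth.Agent.Lib.Helper15LOChart Groth.Agent.Lib.Helper15LOBase
  Groth.Agent.Lib.Helper15LOSat Groth.Agent.Lib.Helper15OpenSubst Groth.Agent.Lib.Helper15OpenImage
  Groth.Agent.Lib.Helper15RepDescent Groth.Agent.Lib.Helper15LocQRep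
  Groth.Agent.Lib.Helper17.RepStack Groth.Agent.Lib.Helper15LocQProps
  Groth.Agent.Lib.Helper15LocQSpace Groth.Agent.Lib.Helper15LOMain Groth.Agent.Lib.Helper15OpenSub
  Groth.Agent.Lib.Helper15LOCore Groth.Agent.Lib.Helper15LOAdapt Groth.Agent.Lib.Helper15FpEtale
  Groth.Agent.Lib.Helper17.Elem

section B1

variable {S : Scheme.{u}}

/-- A map of sheaves whose functor is representable by algebraic spaces with `RepWith P` has
`RepWith P` (no hypothesis on the target sheaf). -/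
theorem repWith_of_repByAlgSpWith_ofSpMap_sheaf (P : MorphismProperty Scheme.{u})
    [P.IsStableUnderBaseChange] {F G : AlgSp.Sp S} (a : F ⟶ G)
    (h : AlgSt.RepByAlgSpWith (AlgSp.RepWith P) (AlgSt.ofSpMap a)) :
    AlgSp.RepWith P a := by
  have key : ∀ {U : Over S} (g : (AlgSp.yon S).obj U ⟶ G), ∃ (H : AlgSp.Space S)
      (fst : H.obj ⟶ F) (π : H.obj ⟶ (AlgSp.yon S).obj U),
      IsPullback fst π a g ∧ AlgSp.RepWith P π := by
    intro U g
    obtain ⟨H, e, he, hP⟩ := h U (pshOfSection (uliftYonedaEquiv g.hom))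
    have sq := isPullback_of_isEquivOver a.hom (uliftYonedaEquiv g.hom) e he
    rw [Equiv.symm_apply_apply] at sq
    refine ⟨H, ObjectProperty.homMk (pshMapOf (BasedFunctor.comp e (FibCat.fpSnd _ _))), _, ?_, hP⟩
    exact IsPullback.of_map_of_faithful (sheafToPresheaf (AlgSp.J S) (Type (u + 1))) sq
  refine ⟨fun U g => ?_, fun U V g fst snd sq => ?_⟩
  · obtain ⟨H, fst, π, sq, hπ⟩ := key g
    obtain ⟨V, snd, fst', sq'⟩ := hπ.1 (𝟙 _)
    refine ⟨V, snd, fst' ≫ fst, ?_⟩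
    have := sq'.paste_horiz sq
    rwa [Category.id_comp] at this
  · obtain ⟨H, fst', π, sq', hπ⟩ := key g
    let j : (AlgSp.yon S).obj V ≅ H.obj := sq.isoIsPullback _ _ sq'
    have hj : j.hom ≫ π = (AlgSp.yon S).map snd := IsPullback.isoIsPullback_hom_snd _ _ sq sq'
    have sq₂ : IsPullback j.hom ((AlgSp.yon S).map snd) π (𝟙 _) :=
      IsPullback.of_horiz_isIso ⟨by rw [hj, Category.comp_id]⟩
    exact hπ.2 _ _ snd sq₂

end B1

section B2

variable {S : Scheme.{u}} {𝒳 : AlgSt.Cat S}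

/-- One member of the covering: the sheaf map attached to an open substack representable by an
algebraic space. -/
theorem exists_open_member (h𝒳 : AlgSt.IsAlgStack Scheme.fppfPrecoverage 𝒳)
    (F : AlgSp.Sp S) (E : AlgSt.ofSp F ⥤ᵇ 𝒳) (hE : FibCat.IsEquivOver E)
    (Q : 𝒳.obj → Prop) (hQ : AlgSt.IsOpenSubstack 𝒳 Q Scheme.fppfPrecoverage)
    (hsp : AlgSt.RepByAlgSp (AlgSt.fullSub 𝒳 Q)) :
    ∃ (Fi : AlgSp.Space S) (a : Fi.obj ⟶ F), AlgSp.RepWith @IsOpenImmersion a ∧
      ∀ x : AlgSp.Points F, AlgSt.Points.map E (toSt F x) ∈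
        Set.range (AlgSt.Points.map (AlgSt.subIncl 𝒳 Q)) → x ∈ Set.range (AlgSp.Points.map a) := by
  obtain ⟨Fi, ei, hei⟩ := hsp
  obtain ⟨G, hG, ⟨α⟩, ⟨β⟩⟩ := IsEquivOver.exists_inverse_isEquivOver' E hE
  let Φ : AlgSt.ofSp Fi.obj ⥤ᵇ AlgSt.ofSp F :=
    BasedFunctor.comp (BasedFunctor.comp ei (AlgSt.subIncl 𝒳 Q)) G
  let a : Fi.obj ⟶ F := ObjectProperty.homMk (pshMapOf Φ)
  have i₀ : AlgSt.ofSpMap a ≅ Φ := ofPshMapIso Φ
  have i₁ : BasedFunctor.comp (AlgSt.ofSpMap a) E ≅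
      BasedFunctor.comp ei (AlgSt.subIncl 𝒳 Q) :=
    (whiskerRightIso i₀ E : BasedFunctor.comp (AlgSt.ofSpMap a) E ≅ BasedFunctor.comp Φ E) ≪≫
    (whiskerLeftIso (BasedFunctor.comp ei (AlgSt.subIncl 𝒳 Q)) β :
      BasedFunctor.comp Φ E ≅ BasedFunctor.comp ei (AlgSt.subIncl 𝒳 Q))
  have hrep : AlgSt.RepByAlgSpWith (AlgSp.RepWith @IsOpenImmersion) (AlgSt.ofSpMap a) :=
    (Groth.Agent.S12782.result hQ.2.1.isStack.1 h𝒳.isStack.1
      (isFibSetoid_ofPsh Fi.obj.obj).1 (isFibSetoid_ofPsh F.obj).1 _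
      (AlgSt.subIncl 𝒳 Q) (AlgSt.ofSpMap a) ei E hei hE i₁).1 hQ.2.2
  refine ⟨Fi, a, repWith_of_repByAlgSpWith_ofSpMap_sheaf _ a hrep, ?_⟩
  rintro x ⟨s, hs⟩
  obtain ⟨s', rfl⟩ := points_map_surjective_of_isEquivOver ei hei s
  obtain ⟨η, rfl⟩ := toSt_surjective _ s'
  refine ⟨η, ?_⟩
  apply toSt_injective
  have hinj : Function.Injective (AlgSt.Points.map E) := by
    have hGE : ∀ z, AlgSt.Points.map G (AlgSt.Points.map E z) = z := by
      intro z
      rw [← points_map_comp, points_map_congr_based _ _ α, points_map_id]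
    intro z z' hz
    have h1 := congrArg (AlgSt.Points.map G) hz
    rw [hGE, hGE] at h1
    exact h1
  apply hinj
  rw [← toSt_map, ← points_map_comp, points_map_congr_based _ _ i₁, points_map_comp]
  exact hs

end B2

end Groth.Agent.Lib.Helper15CovSpace
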