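-- helper15: an algebraic stack covered by open substacks that are algebraic spaces is an algebraic space.
import Mathlib
import Groth.Agent.Lib.Helper15CovSetoid
import Groth.Agent.Lib.Helper15CovSpace

set_option autoImplicit false
set_option backward.isDefEq.respectTransparency false
set_option backward.isDefEq.respectTransparency.types false
open CategoryTheory CategoryTheory.Functor CategoryTheory.Limits Opposite AlgebraicGeometry

universe u w

namespace Groth.Agent.Lib.Helper15CovMain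

open Groth.Agent.Lib.Helper17 Groth.Agent.Lib.Helper15PshFib Groth.Agent.Lib.Helper15PtsComp
  Groth.Agent.Lib.Helper15PtsTop Groth.Agent.Lib.Helper15CovSetoid Groth.Agent.Lib.Helper15CovSpace

variable {S : Scheme.{u}} {𝒳 : AlgSt.Cat S}

/-- An algebraic stack covered by open substacks that are algebraic spaces is an algebraic
space. -/
theorem repByAlgSp_of_open_cover (h𝒳 : AlgSt.IsAlgStack Scheme.fppfPrecoverage 𝒳) {ι : Type w}
    (Q : ι → 𝒳.obj → Prop) (hQ : ∀ i, AlgSt.IsOpenSubstack 𝒳 (Q i) Scheme.fppfPrecoverage)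
    (hcov : ⋃ i, Set.range (AlgSt.Points.map (AlgSt.subIncl 𝒳 (Q i))) = Set.univ)
    (hsp : ∀ i, AlgSt.RepByAlgSp (AlgSt.fullSub 𝒳 (Q i))) : AlgSt.RepByAlgSp 𝒳 := by
  have hset : FibCat.IsFibSetoid 𝒳.p :=
    isFibSetoid_of_open_cover h𝒳 Q hQ hcov
      (fun i => (Groth.Agent.S12787.result (hQ i).2.1.isStack.1 (hsp i)).2)
  obtain ⟨P, E₀, hE₀⟩ := exists_psh_equivOver 𝒳 hset
  have hst : Stk.IsStack (AlgSp.J S) (Stk.ofPsh P) :=
    (isStack_iff_of_isEquivOver' _ E₀ hE₀).2 h𝒳.isStack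
  have hsh : Presheaf.IsSheaf (AlgSp.J S) P :=
    (isSheaf_iff_isSheaf_of_type _ _).2 ((Groth.Agent.S12796.result _ P).1 hst)
  let F : AlgSp.Sp S := ⟨P, hsh⟩
  let E : AlgSt.ofSp F ⥤ᵇ 𝒳 := E₀
  have hE : FibCat.IsEquivOver E := hE₀
  obtain ⟨U₀, x₀, -, hsurj⟩ := h𝒳.atlas
  have hpt : ∀ t : ↥U₀.left, ∃ i, AlgSt.Points.ofChart x₀ t ∈
      Set.range (AlgSt.Points.map (AlgSt.subIncl 𝒳 (Q i))) := by
    intro t
    have : AlgSt.Points.ofChart x₀ t ∈
        ⋃ i, Set.range (AlgSt.Points.map (AlgSt.subIncl 𝒳 (Q i))) := by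
      rw [hcov]; trivial
    exact Set.mem_iUnion.1 this
  choose idx hidx using hpt
  choose Fi a hoi hpts using fun i => exists_open_member h𝒳 F E hE (Q i) (hQ i) (hsp i)
  refine ⟨⟨F, ?_⟩, E, hE⟩
  refine Groth.Agent.Lib.Helper12.OpenCoverSp.isAlgSpace_of_zarCover
    (fun t : ↥U₀.left => (Fi (idx t)).obj) (fun t => a (idx t))
    ⟨fun t => hoi _, fun x => ?_⟩ (fun t => (Fi _).property)
  obtain ⟨t, ht⟩ := surjective_ofChart h𝒳 x₀ hsurj (AlgSt.Points.map E (toSt F x))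
  refine ⟨t, hpts _ x ?_⟩
  rw [← ht]
  exact hidx t

end Groth.Agent.Lib.Helper15CovMain
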