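-- helper15: an algebraic stack covered by open substacks that are schemes is a scheme.
import Mathlib
import Groth.Agent.Lib.Helper15CovMain
import Groth.Agent.Lib.Helper12ZarGlue2
import Groth.Agent.Lib.Helper15DiagApps

set_option autoImplicit false
set_option backward.isDefEq.respectTransparency false
set_option backward.isDefEq.respectTransparency.types false
open CategoryTheory CategoryTheory.Functor CategoryTheory.Limits Opposite AlgebraicGeometry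

universe u w

namespace Groth.Agent.Lib.Helper15CovSch

open Groth.Agent.Lib.Helper17 Groth.Agent.Lib.Helper15PshFib Groth.Agent.Lib.Helper15PtsComp
  Groth.Agent.Lib.Helper15PtsTop Groth.Agent.Lib.Helper15CovSetoid Groth.Agent.Lib.Helper15CovSpace
  Groth.Agent.Lib.Helper15UnivComp Groth.Agent.Lib.Helper15LOBase Groth.Agent.Lib.Helper15DiagRepSp
  Groth.Agent.Lib.Helper15DiagApps Groth.Agent.Lib.Helper17.Elem

variable {S : Scheme.{u}} {𝒳 : AlgSt.Cat S}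

/-- One member of the covering, with a prescribed representing space. -/
theorem exists_open_member' (h𝒳 : AlgSt.IsAlgStack Scheme.fppfPrecoverage 𝒳)
    (F : AlgSp.Sp S) (E : AlgSt.ofSp F ⥤ᵇ 𝒳) (hE : FibCat.IsEquivOver E)
    (Q : 𝒳.obj → Prop) (hQ : AlgSt.IsOpenSubstack 𝒳 Q Scheme.fppfPrecoverage)
    (Fi : AlgSp.Sp S) (ei : AlgSt.ofSp Fi ⥤ᵇ AlgSt.fullSub 𝒳 Q) (hei : FibCat.IsEquivOver ei) :
    ∃ (a : Fi ⟶ F), AlgSp.RepWith @IsOpenImmersion a ∧
      ∀ x : AlgSp.Points F, AlgSt.Points.map E (toSt F x) ∈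
        Set.range (AlgSt.Points.map (AlgSt.subIncl 𝒳 Q)) → x ∈ Set.range (AlgSp.Points.map a) := by
  obtain ⟨G, hG, ⟨α⟩, ⟨β⟩⟩ := IsEquivOver.exists_inverse_isEquivOver' E hE
  let Φ : AlgSt.ofSp Fi ⥤ᵇ AlgSt.ofSp F :=
    BasedFunctor.comp (BasedFunctor.comp ei (AlgSt.subIncl 𝒳 Q)) G
  let a : Fi ⟶ F := ObjectProperty.homMk (pshMapOf Φ)
  have i₀ : AlgSt.ofSpMap a ≅ Φ := ofPshMapIso Φ
  have i₁ : BasedFunctor.comp (AlgSt.ofSpMap a) E ≅
      BasedFunctor.comp ei (AlgSt.subIncl 𝒳 Q) :=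
    (whiskerRightIso i₀ E : BasedFunctor.comp (AlgSt.ofSpMap a) E ≅ BasedFunctor.comp Φ E) ≪≫
    (whiskerLeftIso (BasedFunctor.comp ei (AlgSt.subIncl 𝒳 Q)) β :
      BasedFunctor.comp Φ E ≅ BasedFunctor.comp ei (AlgSt.subIncl 𝒳 Q))
  have hrep : AlgSt.RepByAlgSpWith (AlgSp.RepWith @IsOpenImmersion) (AlgSt.ofSpMap a) :=
    (Groth.Agent.S12782.result hQ.2.1.isStack.1 h𝒳.isStack.1
      (isFibSetoid_ofPsh Fi.obj).1 (isFibSetoid_ofPsh F.obj).1 _
      (AlgSt.subIncl 𝒳 Q) (AlgSt.ofSpMap a) ei E hei hE i₁).1 hQ.2.2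
  refine ⟨a, repWith_of_repByAlgSpWith_ofSpMap_sheaf _ a hrep, ?_⟩
  rintro x ⟨s, hs⟩
  obtain ⟨s', rfl⟩ := points_map_surjective_of_isEquivOver ei hei s
  obtain ⟨η, rfl⟩ := toSt_surjective _ s'
  refine ⟨η, ?_⟩
  apply toSt_injective
  have hinj : Function.Injective (AlgSt.Points.map E) := by
    have hGE : ∀ z, AlgSt.Points.map G (AlgSt.Points.map E z) = z := by
      intro z
      rw [← points_map_comp, points_map_congr_based _ _ α, points_map_id]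
    intro z z' hz
    have h1 := congrArg (AlgSt.Points.map G) hz
    rw [hGE, hGE] at h1
    exact h1
  apply hinj
  rw [← toSt_map, ← points_map_comp, points_map_congr_based _ _ i₁, points_map_comp]
  exact hs

/-- An algebraic stack covered by open substacks that are schemes is a scheme. -/
theorem isRepresentable_of_open_cover (h𝒳 : AlgSt.IsAlgStack Scheme.fppfPrecoverage 𝒳) {ι : Type w}
    (Q : ι → 𝒳.obj → Prop) (hQ : ∀ i, AlgSt.IsOpenSubstack 𝒳 (Q i) Scheme.fppfPrecoverage)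
    (hcov : ⋃ i, Set.range (AlgSt.Points.map (AlgSt.subIncl 𝒳 (Q i))) = Set.univ)
    (hsch : ∀ i, FibCat.IsRepresentable (AlgSt.fullSub 𝒳 (Q i))) : FibCat.IsRepresentable 𝒳 := by
  choose V Ψ hΨ using hsch
  have hinv := fun i => IsEquivOver.exists_inverse_isEquivOver' (Ψ i) (hΨ i)
  choose Ψ' hΨ' _ _ using hinv
  let ei : ∀ i, AlgSt.ofSp ((AlgSp.yon S).obj (V i)) ⥤ᵇ AlgSt.fullSub 𝒳 (Q i) := fun i =>
    BasedFunctor.comp (AlgSt.toOverCat (V i)) (Ψ' i)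
  have hei : ∀ i, FibCat.IsEquivOver (ei i) := fun i =>
    IsEquivOver.comp _ _ (isEquivOver_toOverCat (V i)) (hΨ' i)
  have hsp : ∀ i, AlgSt.RepByAlgSp (AlgSt.fullSub 𝒳 (Q i)) := fun i =>
    ⟨⟨(AlgSp.yon S).obj (V i), AlgSp.IsAlgSpace.yon_obj (V i)⟩, ei i, hei i⟩
  have hset : FibCat.IsFibSetoid 𝒳.p :=
    isFibSetoid_of_open_cover h𝒳 Q hQ hcov
      (fun i => (Groth.Agent.S12787.result (hQ i).2.1.isStack.1 (hsp i)).2)
  obtain ⟨P, E₀, hE₀⟩ := exists_psh_equivOver 𝒳 hset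
  have hst : Stk.IsStack (AlgSp.J S) (Stk.ofPsh P) :=
    (isStack_iff_of_isEquivOver' _ E₀ hE₀).2 h𝒳.isStack
  have hsh : Presheaf.IsSheaf (AlgSp.J S) P :=
    (isSheaf_iff_isSheaf_of_type _ _).2 ((Groth.Agent.S12796.result _ P).1 hst)
  let F : AlgSp.Sp S := ⟨P, hsh⟩
  let E : AlgSt.ofSp F ⥤ᵇ 𝒳 := E₀
  have hE : FibCat.IsEquivOver E := hE₀
  obtain ⟨U₀, x₀, -, hsurj⟩ := h𝒳.atlas
  have hpt : ∀ t : ↥U₀.left, ∃ i, AlgSt.Points.ofChart x₀ t ∈
      Set.range (AlgSt.Points.map (AlgSt.subIncl 𝒳 (Q i))) := by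
    intro t
    have : AlgSt.Points.ofChart x₀ t ∈
        ⋃ i, Set.range (AlgSt.Points.map (AlgSt.subIncl 𝒳 (Q i))) := by
      rw [hcov]; trivial
    exact Set.mem_iUnion.1 this
  choose idx hidx using hpt
  choose a hoi hpts using fun i =>
    exists_open_member' h𝒳 F E hE (Q i) (hQ i) _ (ei i) (hei i)
  have hf : ∀ t : ↥U₀.left, AlgSp.RepWith @IsOpenImmersion (a (idx t)) := fun t => hoi _
  have hjs : Groth.Agent.Lib.Helper12.ZarGlue.JointlySurjective hf := by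
    intro T g t
    obtain ⟨t₀, ht₀⟩ := surjective_ofChart h𝒳 x₀ hsurj
      (AlgSt.Points.map E (toSt F (AlgSp.Points.ofPt g t)))
    have hmem : AlgSp.Points.ofPt g t ∈ Set.range (AlgSp.Points.map (a (idx t₀))) := by
      apply hpts
      rw [← ht₀]
      exact hidx t₀
    exact ⟨t₀, Groth.Agent.Lib.Helper12.ZarGlue.mem_range_of_mem_range_map (a (idx t₀)) g _ _
      ((hf t₀).rep.isPullback g) t hmem⟩
  obtain ⟨W, e, -, -, -⟩ := Groth.Agent.Lib.Helper12.ZarGlue.exists_iso hf hjs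
  obtain ⟨G, hG, -, -⟩ := IsEquivOver.exists_inverse_isEquivOver' E hE
  exact ⟨W, BasedFunctor.comp G (BasedFunctor.comp (AlgSt.ofSpMap e.inv) (AlgSt.toOverCat W)),
    IsEquivOver.comp _ _ hG (IsEquivOver.comp _ _ (isEquivOver_ofSpMap_of_iso e.symm)
      (isEquivOver_toOverCat W))⟩

end Groth.Agent.Lib.Helper15CovSch
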