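-- helper15: the diagonal of a product of functors over a base stack (diag of f x_Z g has P).
import Mathlib
import Groth.Agent.Lib.Helper15DiagComp
import Groth.Agent.Lib.Helper15DiagBC
import Groth.Agent.Lib.Helper15DiagOfComp
import Groth.Agent.Lib.Helper15FpSwap
import Groth.Agent.Lib.Helper17FpPaste
import Groth.Agent.Lib.Helper17FpPaste2

set_option autoImplicit false
set_option backward.isDefEq.respectTransparency false
set_option backward.isDefEq.respectTransparency.types false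
open CategoryTheory CategoryTheory.Functor CategoryTheory.Limits Opposite AlgebraicGeometry

universe u

namespace Groth.Agent.Lib.Helper15DiagFpMap

open Groth.Agent.Lib.Helper17 Groth.Agent.Lib.Helper15RepComp Groth.Agent.Lib.Helper15DiagComp
  Groth.Agent.Lib.Helper15DiagOfComp Groth.Agent.Lib.Helper15.DiagBC Groth.Agent.Lib.Helper15FpSwap

variable {S : Scheme.{u}}

section Congr

variable {𝒜 ℬ : AlgSt.Cat S}

/-- Having a diagonal with `Q` is invariant under 2-isomorphism. -/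
theorem repByAlgSpWith_diag_congr (Q : MorphismProperty (AlgSp.Sp S)) (h h' : 𝒜 ⥤ᵇ ℬ)
    (ι : h ≅ h') :
    AlgSt.RepByAlgSpWith Q (FibCat.diag h) ↔ AlgSt.RepByAlgSpWith Q (FibCat.diag h') := by
  have iB := IsEquivOver.isEquivalence (BasedFunctor.id ℬ) (isEquivOver_id _)
  let M : FibCat.fp h' h' ⥤ᵇ FibCat.fp h h :=
    fpMap h h h' h' (BasedFunctor.id 𝒜) (BasedFunctor.id 𝒜) (BasedFunctor.id ℬ) ι.symm ι.symm
  have hM : FibCat.IsEquivOver M :=
    isEquivOver_fpMap h h h' h' (BasedFunctor.id 𝒜) (BasedFunctor.id 𝒜) (BasedFunctor.id ℬ)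
      ι.symm ι.symm (isEquivOver_id _) (isEquivOver_id _)
  refine repByAlgSpWith_of_square Q (FibCat.diag h) (FibCat.diag h') (BasedFunctor.id 𝒜) M
    (isEquivOver_id _) hM ?_
  exact fpIsoMk h h (H := BasedFunctor.comp (FibCat.diag h') M)
    (K := BasedFunctor.comp (BasedFunctor.id 𝒜) (FibCat.diag h)) (Iso.refl _) (Iso.refl _)
    (fun a => by
      change h.map (𝟙 _) ≫ 𝟙 _ = ((bApp ι.symm a).inv ≫ (BasedFunctor.id ℬ).map (𝟙 _) ≫
        (bApp ι.symm a).hom) ≫ h.map (𝟙 _)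
      rw [h.toFunctor.map_id, Category.id_comp, Category.comp_id]
      have h1 : (bApp ι.symm a).inv ≫ 𝟙 _ ≫ (bApp ι.symm a).hom = 𝟙 _ := by
        rw [Category.id_comp, Iso.inv_hom_id]
      exact h1.symm)

end Congr

section Snd

variable {𝒳 𝒴 𝒵 : AlgSt.Cat S}

/-- The second projection of a 2-fibre product: its diagonal has `P` when that of the first functor
has. -/
theorem repByAlgSpWith_diag_fpSnd (P : MorphismProperty (AlgSp.Sp S)) (z : 𝒵 ⥤ᵇ 𝒴) (f : 𝒳 ⥤ᵇ 𝒴)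
    (hz : AlgSt.RepByAlgSpWith P (FibCat.diag z)) :
    AlgSt.RepByAlgSpWith P (FibCat.diag (FibCat.fpSnd z f)) := by
  have h1 : AlgSt.RepByAlgSpWith P (FibCat.diag (FibCat.fpFst f z)) :=
    repByAlgSpWith_diag_fpFst P z f hz
  have h2 := (repByAlgSpWith_diag_equiv_source P (fpSwap z f) (isEquivOver_fpSwap z f)
    (FibCat.fpFst f z)).1 h1
  exact h2

end Snd

section Main

variable {𝒳 𝒳' 𝒴 𝒴' 𝒵 : AlgSt.Cat S}
  (p' : 𝒳' ⥤ᵇ 𝒵) (q' : 𝒴' ⥤ᵇ 𝒵) (f : 𝒳 ⥤ᵇ 𝒳') (g : 𝒴 ⥤ᵇ 𝒴')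

/-- `𝒳 ×_𝒵 𝒴 ⟶ 𝒳' ×_𝒵 𝒴`. -/
def F₁ : FibCat.fp (BasedFunctor.comp f p') (BasedFunctor.comp g q') ⥤ᵇ
    FibCat.fp p' (BasedFunctor.comp g q') :=
  FibCat.fpLift
    (BasedFunctor.comp (FibCat.fpFst (BasedFunctor.comp f p') (BasedFunctor.comp g q')) f)
    (FibCat.fpSnd (BasedFunctor.comp f p') (BasedFunctor.comp g q'))
    (FibCat.fpIso (BasedFunctor.comp f p') (BasedFunctor.comp g q') : _ ≅ _)

/-- `𝒳' ×_𝒵 𝒴 ⟶ 𝒳' ×_𝒵 𝒴'`. -/
def F₂ : FibCat.fp p' (BasedFunctor.comp g q') ⥤ᵇ FibCat.fp p' q' :=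
  FibCat.fpLift (FibCat.fpFst p' (BasedFunctor.comp g q'))
    (BasedFunctor.comp (FibCat.fpSnd p' (BasedFunctor.comp g q')) g)
    (FibCat.fpIso p' (BasedFunctor.comp g q') : _ ≅ _)

/-- `F₁` is a base change of `f`. -/
def iso₁ : BasedFunctor.comp (pasteL (BasedFunctor.comp g q') p' f) (F₁ p' q' f g) ≅
    FibCat.fpSnd f (FibCat.fpFst p' (BasedFunctor.comp g q')) :=
  fpIsoMk p' (BasedFunctor.comp g q')
    (H := BasedFunctor.comp (pasteL (BasedFunctor.comp g q') p' f) (F₁ p' q' f g))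
    (K := FibCat.fpSnd f (FibCat.fpFst p' (BasedFunctor.comp g q')))
    (FibCat.fpIso f (FibCat.fpFst p' (BasedFunctor.comp g q')) : _ ≅ _) (Iso.refl _)
    (fun a => by
      change p'.map a.obj.iso.hom ≫ a.obj.snd.obj.iso.hom =
        (p'.map a.obj.iso.hom ≫ a.obj.snd.obj.iso.hom) ≫ (BasedFunctor.comp g q').map (𝟙 _)
      rw [(BasedFunctor.comp g q').toFunctor.map_id, Category.comp_id])

/-- The equivalence exhibiting `F₂` as a base change of `g`. -/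
def E₂ : FibCat.fp g (FibCat.fpSnd p' q') ⥤ᵇ FibCat.fp p' (BasedFunctor.comp g q') :=
  BasedFunctor.comp (pasteS p' q' g) (fpSwap (BasedFunctor.comp g q') p')

theorem isEquivOver_E₂ : FibCat.IsEquivOver (E₂ p' q' g) :=
  IsEquivOver.comp _ _ (isEquivOver_pasteS p' q' g) (isEquivOver_fpSwap _ _)

/-- `F₂` is a base change of `g`. -/
def iso₂ : BasedFunctor.comp (E₂ p' q' g) (F₂ p' q' g) ≅ FibCat.fpSnd g (FibCat.fpSnd p' q') :=
  fpIsoMk p' q'
    (H := BasedFunctor.comp (E₂ p' q' g) (F₂ p' q' g))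
    (K := FibCat.fpSnd g (FibCat.fpSnd p' q'))
    (Iso.refl _) (FibCat.fpIso g (FibCat.fpSnd p' q') : _ ≅ _)
    (fun a => by
      change p'.map (𝟙 _) ≫ a.obj.snd.obj.iso.hom =
        ((pasteS p' q' g).obj a).obj.iso.inv ≫ q'.map a.obj.iso.hom
      rw [p'.toFunctor.map_id, Category.id_comp, Iso.eq_inv_comp, pasteS_obj_iso_hom,
        Category.assoc, Iso.inv_hom_id, Category.comp_id])

theorem diag_F₁ (P : MorphismProperty (AlgSp.Sp S))
    (hf : AlgSt.RepByAlgSpWith P (FibCat.diag f)) :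
    AlgSt.RepByAlgSpWith P (FibCat.diag (F₁ p' q' f g)) := by
  have h1 := repByAlgSpWith_diag_fpSnd P f (FibCat.fpFst p' (BasedFunctor.comp g q')) hf
  have h2 := (repByAlgSpWith_diag_congr P _ _ (iso₁ p' q' f g)).2 h1
  exact (repByAlgSpWith_diag_equiv_source P (pasteL (BasedFunctor.comp g q') p' f)
    (isEquivOver_pasteL (BasedFunctor.comp g q') p' f) (F₁ p' q' f g)).2 h2

theorem diag_F₂ (P : MorphismProperty (AlgSp.Sp S))
    (hg : AlgSt.RepByAlgSpWith P (FibCat.diag g)) :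
    AlgSt.RepByAlgSpWith P (FibCat.diag (F₂ p' q' g)) := by
  have h1 := repByAlgSpWith_diag_fpSnd P g (FibCat.fpSnd p' q') hg
  have h2 := (repByAlgSpWith_diag_congr P _ _ (iso₂ p' q' g)).2 h1
  exact (repByAlgSpWith_diag_equiv_source P (E₂ p' q' g) (isEquivOver_E₂ p' q' g)
    (F₂ p' q' g)).2 h2

/-- The functor `f ×_𝒵 g` is the composite of `F₁` and `F₂`. -/
def FIso (e : BasedFunctor.comp (BasedFunctor.comp (FibCat.fpFst (BasedFunctor.comp f p')
      (BasedFunctor.comp g q')) f) p' ≅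
      BasedFunctor.comp (BasedFunctor.comp (FibCat.fpSnd (BasedFunctor.comp f p')
        (BasedFunctor.comp g q')) g) q')
    (he : ∀ x, e.hom.toNatTrans.app x = x.obj.iso.hom) :
    BasedFunctor.comp (F₁ p' q' f g) (F₂ p' q' g) ≅
      FibCat.fpLift (BasedFunctor.comp (FibCat.fpFst (BasedFunctor.comp f p')
        (BasedFunctor.comp g q')) f) (BasedFunctor.comp (FibCat.fpSnd (BasedFunctor.comp f p')
        (BasedFunctor.comp g q')) g) e :=
  fpIsoMk p' q' (H := BasedFunctor.comp (F₁ p' q' f g) (F₂ p' q' g))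
    (K := FibCat.fpLift (BasedFunctor.comp (FibCat.fpFst (BasedFunctor.comp f p')
        (BasedFunctor.comp g q')) f) (BasedFunctor.comp (FibCat.fpSnd (BasedFunctor.comp f p')
        (BasedFunctor.comp g q')) g) e)
    (Iso.refl _) (Iso.refl _)
    (fun a => by
      change p'.map (𝟙 _) ≫ e.hom.toNatTrans.app a = a.obj.iso.hom ≫ q'.map (𝟙 _)
      rw [he a, p'.toFunctor.map_id, q'.toFunctor.map_id, Category.id_comp]
      exact (Category.comp_id _).symm)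

theorem repByAlgSpWith_diag_fpMap (h𝒳 : FibCat.IsFibGrpd 𝒳.p) (h𝒳' : FibCat.IsFibGrpd 𝒳'.p)
    (h𝒴 : FibCat.IsFibGrpd 𝒴.p) (h𝒵 : FibCat.IsFibGrpd 𝒵.p)
    (P : MorphismProperty (AlgSp.Sp S))
    (hPc : ∀ ⦃X Y Z : AlgSp.Sp S⦄, AlgSp.IsAlgSpace X → AlgSp.IsAlgSpace Y → AlgSp.IsAlgSpace Z →
      ∀ (a : X ⟶ Y) (b : Y ⟶ Z), P a → P b → P (a ≫ b))
    (hP : AlgSp.IsLocalOnBase AlgSp.IsEtCover P)
    (e : BasedFunctor.comp (BasedFunctor.comp (FibCat.fpFst (BasedFunctor.comp f p')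
      (BasedFunctor.comp g q')) f) p' ≅
      BasedFunctor.comp (BasedFunctor.comp (FibCat.fpSnd (BasedFunctor.comp f p')
        (BasedFunctor.comp g q')) g) q')
    (he : ∀ x, e.hom.toNatTrans.app x = x.obj.iso.hom)
    (hf : AlgSt.RepByAlgSpWith P (FibCat.diag f)) (hg : AlgSt.RepByAlgSpWith P (FibCat.diag g)) :
    AlgSt.RepByAlgSpWith P (FibCat.diag
      (FibCat.fpLift (BasedFunctor.comp (FibCat.fpFst (BasedFunctor.comp f p')
        (BasedFunctor.comp g q')) f) (BasedFunctor.comp (FibCat.fpSnd (BasedFunctor.comp f p')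
        (BasedFunctor.comp g q')) g) e)) := by
  have hA : FibCat.IsFibGrpd (FibCat.fp (BasedFunctor.comp f p') (BasedFunctor.comp g q')).p :=
    isFibGrpd_fp _ _ h𝒳 h𝒴 h𝒵
  have hM : FibCat.IsFibGrpd (FibCat.fp p' (BasedFunctor.comp g q')).p :=
    isFibGrpd_fp _ _ h𝒳' h𝒴 h𝒵
  have h1 := repByAlgSpWith_diag_comp hA hM P hPc hP (F₁ p' q' f g) (F₂ p' q' g)
    (diag_F₁ p' q' f g P hf) (diag_F₂ p' q' g P hg)
  exact (repByAlgSpWith_diag_congr P _ _ (FIso p' q' f g e he)).1 h1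

end Main

end Groth.Agent.Lib.Helper15DiagFpMap
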