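-- helper15: diagonal of a locally finite type morphism of algebraic spaces is lfp (cancellation).
import Mathlib
import Groth.Agent.Lib.Helper12SmoothST
import Groth.Agent.S9912
import Groth.Agent.S9874
import Groth.Agent.Lib.Helper15MonoSep

set_option autoImplicit false
universe u
open CategoryTheory CategoryTheory.Limits AlgebraicGeometry
open AlgSp

namespace Groth.Agent.Lib.Helper15.DiagLfp

section Sch

open AlgebraicGeometry.HasRingHomProperty in
theorem lfp_of_comp_of_lft {X Y Z : Scheme.{u}} (f : X ⟶ Y) (g : Y ⟶ Z)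
    (h : LocallyOfFinitePresentation (f ≫ g)) (hg : LocallyOfFiniteType g) :
    LocallyOfFinitePresentation f := by
  wlog hZ : IsAffine Z generalizing X Y Z
  · rw [IsZariskiLocalAtTarget.iff_of_iSup_eq_top (P := @LocallyOfFinitePresentation) _
      (g.iSup_preimage_eq_top (iSup_affineOpens_eq_top Z))]
    intro U
    have H := IsZariskiLocalAtTarget.restrict h U.1
    rw [morphismRestrict_comp] at H
    exact this _ _ H (IsZariskiLocalAtTarget.restrict hg U.1) inferInstance
  wlog hY : IsAffine Y generalizing X Y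
  · rw [IsZariskiLocalAtTarget.iff_of_iSup_eq_top (P := @LocallyOfFinitePresentation) _
      (iSup_affineOpens_eq_top Y)]
    intro U
    have H := comp_of_isOpenImmersion @LocallyOfFinitePresentation (f ⁻¹ᵁ U.1).ι (f ≫ g) h
    rw [← morphismRestrict_ι_assoc] at H
    exact this _ _ H (comp_of_isOpenImmersion @LocallyOfFiniteType U.1.ι g hg) inferInstance
  wlog hX : IsAffine X generalizing X
  · rw [IsZariskiLocalAtSource.iff_of_iSup_eq_top (P := @LocallyOfFinitePresentation) _
      (iSup_affineOpens_eq_top X)]
    intro U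
    have H := comp_of_isOpenImmersion @LocallyOfFinitePresentation U.1.ι (f ≫ g) h
    rw [← Category.assoc] at H
    exact this _ H inferInstance
  rw [iff_of_isAffine (P := @LocallyOfFinitePresentation)] at h ⊢
  rw [iff_of_isAffine (P := @LocallyOfFiniteType)] at hg
  rw [Scheme.Hom.comp_appTop] at h
  exact RingHom.FinitePresentation.of_comp_finiteType g.appTop.hom h hg

end Sch

variable {S : Scheme.{u}}

open MorphismProperty in
/-- Cancellation: if `f ≫ g` is locally of finite presentation and `g` is locally of finite type,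
then `f` is locally of finite presentation. -/
theorem locP_lfp_of_comp_of_lft {X Y Z : AlgSp.Sp S} (hZ : AlgSp.IsAlgSpace Z) (f : X ⟶ Y)
    (g : Y ⟶ Z) (h : AlgSp.LocP @LocallyOfFinitePresentation (f ≫ g))
    (hg : AlgSp.LocP @LocallyOfFiniteType g) :
    AlgSp.LocP @LocallyOfFinitePresentation f := by
  intro U V a b hh ha hb hcomm
  obtain ⟨W, c, hc, hcs⟩ := hZ.atlas
  obtain ⟨V', π, k', sqV'⟩ := hc.1 (b ≫ g)
  obtain ⟨k, rfl⟩ := (AlgSp.yon S).map_surjective k'
  haveI : Etale π.left := hc.2 _ _ π sqV'
  haveI : Surjective π.left := hcs.2 _ _ π sqV'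
  have hsq : IsPullback (pullback.fst hh π).left (pullback.snd hh π).left hh.left π.left :=
    (IsPullback.of_hasPullback hh π).map (Over.forget S)
  haveI : Etale (pullback.fst hh π).left :=
    MorphismProperty.of_isPullback (P := @Etale) hsq.flip inferInstance
  have hchart : ((AlgSp.yon S).map (pullback.fst hh π) ≫ a) ≫ (f ≫ g) =
      (AlgSp.yon S).map (pullback.snd hh π ≫ k) ≫ c := by
    have e2 : (AlgSp.yon S).map (pullback.fst hh π) ≫ (AlgSp.yon S).map hh =
        (AlgSp.yon S).map (pullback.snd hh π) ≫ (AlgSp.yon S).map π := by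
      rw [← Functor.map_comp, ← Functor.map_comp, pullback.condition]
    rw [Functor.map_comp]
    simp only [Category.assoc]
    rw [reassoc_of% hcomm, reassoc_of% e2, sqV'.w]
  have hP := h ((AlgSp.yon S).map (pullback.fst hh π) ≫ a) c (pullback.snd hh π ≫ k)
    ((AlgSp.RepWith @Etale).comp_mem _ _ ((AlgSp.repWith_yon_map_iff _ _).2 inferInstance) ha)
    hc hchart
  rw [Over.comp_left] at hP
  have hk : LocallyOfFiniteType k.left :=
    hg ((AlgSp.yon S).map π ≫ b) c k
      ((AlgSp.RepWith @Etale).comp_mem _ _ ((AlgSp.repWith_yon_map_iff _ _).2 inferInstance) hb)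
      hc (by rw [Category.assoc]; exact sqV'.w.symm)
  have h1 : LocallyOfFinitePresentation (pullback.snd hh π).left :=
    lfp_of_comp_of_lft _ _ hP hk
  have hπQ : (@Surjective ⊓ @Flat ⊓ @LocallyOfFinitePresentation : MorphismProperty Scheme.{u})
      π.left := ⟨⟨inferInstance, inferInstance⟩, inferInstance⟩
  exact MorphismProperty.of_isPullback_of_descendsAlong (P := @LocallyOfFinitePresentation)
      (Q := @Surjective ⊓ @Flat ⊓ @LocallyOfFinitePresentation) hsq.flip hπQ h1

end Groth.Agent.Lib.Helper15.DiagLfp
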