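-- helper15: diagonal of lft morphism of algebraic spaces: lfp, and of finite presentation if quasi-separated.
import Mathlib
import Groth.Agent.Lib.Helper15DiagLfp
import Groth.Agent.Lib.Helper12Proper

set_option autoImplicit false
universe u
open CategoryTheory CategoryTheory.Limits AlgebraicGeometry
open AlgSp

namespace Groth.Agent.Lib.Helper15.DiagLfp2

variable {S : Scheme.{u}}

theorem isAlgSpace_pullback {X Y : AlgSp.Space S} (f : X ⟶ Y) :
    AlgSp.IsAlgSpace (pullback f.hom f.hom) :=
  Groth.Agent.S9874.isAlgSpace_of_isPullback Y.property.diag X.property X.property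
    (IsPullback.of_hasPullback f.hom f.hom)

theorem locP_lfp_diagonal {X Y : AlgSp.Space S} (f : X ⟶ Y)
    (hf : AlgSp.LocP @LocallyOfFiniteType f.hom) :
    AlgSp.LocP @LocallyOfFinitePresentation (pullback.diagonal f.hom) := by
  have h1 : AlgSp.LocP @LocallyOfFiniteType (pullback.snd f.hom f.hom) :=
    Groth.Agent.Lib.Helper12.Proper.locP_lft_baseChange X.property Y.property X.property
      (IsPullback.of_hasPullback f.hom f.hom) hf
  refine Groth.Agent.Lib.Helper15.DiagLfp.locP_lfp_of_comp_of_lft X.property
    (pullback.diagonal f.hom) (pullback.snd f.hom f.hom) ?_ h1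
  rw [pullback.diagonal_snd]
  exact Groth.Agent.Lib.Helper12.SmoothST.locP_id @LocallyOfFinitePresentation
    (fun g hg => by haveI := hg; infer_instance) X.obj

theorem isFinitePresentationMor_diagonal {X Y : AlgSp.Space S} (f : X ⟶ Y)
    (hf : AlgSp.LocP @LocallyOfFiniteType f.hom) (hqs : AlgSp.IsQuasiSeparatedMor f.hom) :
    AlgSp.IsFinitePresentationMor (pullback.diagonal f.hom) := by
  refine ⟨locP_lfp_diagonal f hf, ?_, ?_⟩
  · let P : AlgSp.Space S := ⟨pullback f.hom f.hom, isAlgSpace_pullback f⟩
    let d : X ⟶ P := ObjectProperty.homMk (pullback.diagonal f.hom)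
    exact (Groth.Agent.S9912.result d ((AlgSp.repWith_iff _ _).1 hqs).1).1 hqs
  · have : IsIso (pullback.diagonal (pullback.diagonal f.hom)) := inferInstance
    exact Groth.Agent.Lib.Helper15MonoSep.repWith_of_isIso @QuasiCompact _

end Groth.Agent.Lib.Helper15.DiagLfp2
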