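-- helper15: the diagonal of a functor of algebraic stacks is surjective iff 2-arrows over algebraically closed fields lift; sections of algebraic spaces lft and surjective over an algebraically closed field.
import Mathlib
import Groth.Prelude.Def_AlgSt5
import Groth.Agent.Lib.Helper15PtsComp
import Groth.Agent.Lib.Helper15DiagLft
import Groth.Agent.Lib.Helper17StkPts2
import Groth.Agent.S9906

set_option autoImplicit false
universe u
open CategoryTheory CategoryTheory.Limits AlgebraicGeometry Opposite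

namespace Groth.Agent.Lib.Helper15DiagSurj

open Groth.Agent.Lib.Helper17 Groth.Agent.Lib.Helper15PtsComp Groth.Agent.Lib.Helper15UnivComp

variable {S : Scheme.{u}}

/-- an algebraic space which is locally of finite type over and surjects onto the spectrum of an
algebraically closed field has a section. -/
theorem exists_section_of_surj_lft {k : Type u} [Field k] [IsAlgClosed k] {T : Over S}
    (e : T.left ≅ Spec (CommRingCat.of k)) {F : AlgSp.Sp S} (hF : AlgSp.IsAlgSpace F)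
    (g : F ⟶ (AlgSp.yon S).obj T) (hs : AlgSp.IsSurjectiveMor g)
    (hl : AlgSp.LocP @LocallyOfFiniteType g) :
    ∃ σ : (AlgSp.yon S).obj T ⟶ F, σ ≫ g = 𝟙 _ := by
  obtain ⟨U, p, hp₁, hp₂⟩ := hF.atlas
  obtain ⟨h, hh⟩ := (AlgSp.yon S).map_surjective (p ≫ g)
  have hlft : LocallyOfFiniteType h.left :=
    hl p (𝟙 _) h hp₁ (AlgSp.repWith_id _ T) (by rw [hh]; simp)
  have t₀ : ↥T.left := e.inv (IsLocalRing.closedPoint k)
  obtain ⟨x, hx⟩ := hs (AlgSp.Points.schemeHomeo T t₀)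
  obtain ⟨y, hy⟩ := Groth.Agent.S9906.surjective_map_of_repWith p hp₂ x
  let u₀ : ↥U.left := (AlgSp.Points.schemeHomeo U).symm y
  have hlft' : LocallyOfFiniteType (h.left ≫ e.hom) := inferInstance
  have hJ : JacobsonSpace ↥U.left := LocallyOfFiniteType.jacobsonSpace (h.left ≫ e.hom)
  obtain ⟨x', -, hx'⟩ := nonempty_inter_closedPoints (X := ↥U.left) (Z := Set.univ) ⟨u₀, trivial⟩
    isOpen_univ.isLocallyClosed
  let τ : Spec (CommRingCat.of k) ⟶ U.left := pointOfClosedPoint (h.left ≫ e.hom) x' hx'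
  have hτ : τ ≫ h.left ≫ e.hom = 𝟙 _ := pointOfClosedPoint_comp (h.left ≫ e.hom) x' hx'
  have hsec : (e.hom ≫ τ) ≫ h.left = 𝟙 T.left := by
    rw [← cancel_mono e.hom, Category.assoc, Category.assoc, hτ]
    simp
  let σ' : T ⟶ U := Over.homMk (e.hom ≫ τ) (by
    rw [← Over.w h, ← Category.assoc, hsec, Category.id_comp])
  have hσ' : σ' ≫ h = 𝟙 T := by
    apply Over.OverMorphism.ext
    exact hsec
  refine ⟨(AlgSp.yon S).map σ' ≫ p, ?_⟩
  rw [Category.assoc, ← hh, ← Functor.map_comp, hσ']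
  exact (AlgSp.yon S).map_id T

/-- for a functor between categories fibred in groupoids which is representable by algebraic spaces,
locally of finite type, and surjective on points, every object over the spectrum of an
algebraically closed field is isomorphic (over the identity) to the image of an object. -/
theorem exists_obj_iso_of_surj_lft {𝒵 𝒲 : AlgSt.Cat S} (h𝒵 : FibCat.IsFibGrpd 𝒵.p)
    (h𝒲 : FibCat.IsFibGrpd 𝒲.p) (φ : 𝒵 ⥤ᵇ 𝒲)
    (hrep : AlgSt.RepByAlgSpWith (AlgSp.LocP @LocallyOfFiniteType) φ)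
    (hsurj : AlgSt.IsSurjective φ) {k : Type u} [Field k] [IsAlgClosed k] {T : Over S}
    (eT : T.left ≅ Spec (CommRingCat.of k)) (w : 𝒲.obj) (hw : 𝒲.p.obj w = T) :
    ∃ (z : 𝒵.obj) (ι : φ.obj z ≅ w), 𝒲.p.IsHomLift (𝟙 T) ι.hom := by
  have := IsFibGrpd.isFibered h𝒲
  let y : FibCat.overCat T ⥤ᵇ 𝒲 := yonedaFunctor hw
  obtain ⟨F, e, he, hl⟩ := hrep T y
  have hs : AlgSp.IsSurjectiveMor
      (AlgSt.spMapOfOver (BasedFunctor.comp e (FibCat.fpFst y φ))) := by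
    rw [isSurjectiveMor_spMapOfOver_iff]
    have h1 : Function.Surjective (AlgSt.Points.map (FibCat.fpFst y φ)) := by
      intro z
      obtain ⟨x, hx⟩ := hsurj (AlgSt.Points.map y z)
      obtain ⟨w', hw', -⟩ := points_fp_surjective h𝒵 h𝒲
        (Groth.Agent.Lib.Helper15PtsComp.isAlgStack_overCat T).isStack.1 φ y z x hx.symm
      exact ⟨w', hw'⟩
    intro z
    obtain ⟨w', rfl⟩ := h1 z
    obtain ⟨v, rfl⟩ := points_map_surjective_of_isEquivOver e he w'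
    exact ⟨v, points_map_comp _ _ _⟩
  obtain ⟨σ, hσ⟩ := exists_section_of_surj_lft eT F.property _ hs hl
  let x : F.obj.obj.obj (op T) := Groth.Agent.S13210.yEquiv T F.obj σ
  have hx : AlgSt.secHom (BasedFunctor.comp e (FibCat.fpFst y φ)) ⟨T, x⟩ = 𝟙 T := by
    have h2 := Groth.Agent.S13210.yEquiv_comp σ
      (AlgSt.spMapOfOver (BasedFunctor.comp e (FibCat.fpFst y φ)))
    rw [hσ, AlgSt.spMapOfOver_app] at h2
    exact (congrArg ULift.down h2).symm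
  have hsec : ∃ (hT : T = (e.obj ⟨T, x⟩).obj.fst.left),
      eqToHom hT ≫ (e.obj ⟨T, x⟩).obj.fst.hom = 𝟙 T := ⟨_, hx⟩
  obtain ⟨ι₀, hι₀⟩ := yonedaFunctor_iso hw
  generalize e.obj ⟨T, x⟩ = c at hsec
  obtain ⟨⟨c₁, c₂, ci⟩, hc⟩ := c
  obtain ⟨hT, hh⟩ := hsec
  obtain ⟨l, r, hm⟩ := c₁
  have hT' : T = l := hT
  subst hT'
  obtain rfl : hm = 𝟙 _ := by simpa using hh
  have hc' : 𝒲.p.IsHomLift (𝟙 T) ci.hom := hc
  have hci : 𝒲.p.IsHomLift (𝟙 T) ci.inv := IsHomLift.lift_id_inv 𝒲.p _ ci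
  refine ⟨c₂, ci.symm ≪≫ ι₀, ?_⟩
  have : 𝒲.p.IsHomLift (𝟙 T ≫ 𝟙 T) (ci.inv ≫ ι₀.hom) := inferInstance
  rw [Category.comp_id] at this
  exact this

section Main

variable {𝒳 𝒴 : AlgSt.Cat S}

/-- if the diagonal of `f` is surjective then 2-arrows over algebraically closed fields lift. -/
theorem exists_lift_hom_of_isSurjective_diag
    (h𝒳 : AlgSt.IsAlgStack Scheme.fppfPrecoverage 𝒳)
    (h𝒴 : AlgSt.IsAlgStack Scheme.fppfPrecoverage 𝒴) (f : 𝒳 ⥤ᵇ 𝒴)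
    (hsurj : AlgSt.IsSurjective (FibCat.diag f))
    {k : Type u} [Field k] [IsAlgClosed k] {T : Over S}
    (eT : T.left ≅ Spec (CommRingCat.of k)) (a₁ a₂ : 𝒳.obj)
    (h₁ : 𝒳.p.obj a₁ = T) (h₂ : 𝒳.p.obj a₂ = T) (β : f.obj a₁ ⟶ f.obj a₂)
    (hβ : 𝒴.p.IsHomLift (𝟙 T) β) :
    ∃ α : a₁ ⟶ a₂, 𝒳.p.IsHomLift (𝟙 T) α ∧ f.map α = β := by
  subst h₁
  have hβi : IsIso β := IsFibGrpd.isIso_of_isHomLift_id h𝒴.isStack.1 (𝒳.p.obj a₁) β
  let w : (FibCat.fp f f).obj := ⟨⟨a₁, a₂, asIso β⟩, hβ⟩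
  have hfp : FibCat.IsFibGrpd (FibCat.fp f f).p :=
    isFibGrpd_fp f f h𝒳.isStack.1 h𝒳.isStack.1 h𝒴.isStack.1
  obtain ⟨z, ι, hι⟩ := exists_obj_iso_of_surj_lft h𝒳.isStack.1 hfp (FibCat.diag f)
    (Groth.Agent.Lib.Helper15DiagLft.repByAlgSpWith_lft_diag h𝒳 h𝒴 f) hsurj eT w rfl
  let u₁ : z ⟶ a₁ := ι.hom.hom.fst
  let u₂ : z ⟶ a₂ := ι.hom.hom.snd
  have hu₁ : 𝒳.p.IsHomLift (𝟙 (𝒳.p.obj a₁)) u₁ :=
    BasedFunctor.preserves_isHomLift (FibCat.fpFst f f) _ ι.hom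
  have hu₂ : 𝒳.p.IsHomLift (𝟙 (𝒳.p.obj a₁)) u₂ :=
    BasedFunctor.preserves_isHomLift (FibCat.fpSnd f f) _ ι.hom
  have hu₁i : IsIso u₁ := IsFibGrpd.isIso_of_isHomLift_id h𝒳.isStack.1 (𝒳.p.obj a₁) u₁
  have hw : f.map u₁ ≫ β = f.map u₂ := by
    have h5 := ι.hom.hom.w
    have h6 : f.map u₁ ≫ β = 𝟙 _ ≫ f.map u₂ := h5
    rw [h6, Category.id_comp]
  refine ⟨inv u₁ ≫ u₂, ?_, ?_⟩
  · have h3 : 𝒳.p.IsHomLift (𝟙 (𝒳.p.obj a₁)) (inv u₁) :=
      @IsHomLift.lift_id_inv _ _ _ _ 𝒳.p (𝒳.p.obj a₁) _ _ (asIso u₁) hu₁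
    have : 𝒳.p.IsHomLift (𝟙 (𝒳.p.obj a₁) ≫ 𝟙 (𝒳.p.obj a₁)) (inv u₁ ≫ u₂) := inferInstance
    rw [Category.comp_id] at this
    exact this
  · rw [Functor.map_comp, Functor.map_inv, IsIso.inv_comp_eq, hw]

/-- if 2-arrows over algebraically closed fields lift then the diagonal is surjective. -/
theorem isSurjective_diag_of_lift (h𝒳 : FibCat.IsFibGrpd 𝒳.p) (h𝒴 : FibCat.IsFibGrpd 𝒴.p)
    (f : 𝒳 ⥤ᵇ 𝒴)
    (H : ∀ (k : Type u) [Field k] [IsAlgClosed k] (s : Spec (CommRingCat.of k) ⟶ S)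
        (a₁ a₂ : 𝒳.obj) (_ : 𝒳.p.obj a₁ = Over.mk s) (_ : 𝒳.p.obj a₂ = Over.mk s)
        (β : f.obj a₁ ⟶ f.obj a₂), 𝒴.p.IsHomLift (𝟙 (Over.mk s)) β →
          ∃ α : a₁ ⟶ a₂, 𝒳.p.IsHomLift (𝟙 (Over.mk s)) α ∧ f.map α = β) :
    AlgSt.IsSurjective (FibCat.diag f) := by
  intro η
  obtain ⟨P, rfl⟩ := AlgSt.Points.mk_surjective η
  let j : Spec (CommRingCat.of (AlgebraicClosure P.K)) ⟶ Spec (CommRingCat.of P.K) :=
    Spec.map (CommRingCat.ofHom (algebraMap P.K (AlgebraicClosure P.K)))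
  let s : Spec (CommRingCat.of (AlgebraicClosure P.K)) ⟶ S := j ≫ P.str
  let m : Over.mk s ⟶ Over.mk P.str := Over.homMk j rfl
  have hfp : FibCat.IsFibGrpd (FibCat.fp f f).p := isFibGrpd_fp f f h𝒳 h𝒳 h𝒴
  obtain ⟨c', π, hπ⟩ := hfp.exists_lift (x := P.obj) (m ≫ eqToHom P.lies.symm)
  have hc' : (FibCat.fp f f).p.obj c' = Over.mk s :=
    IsHomLift.domain_eq (FibCat.fp f f).p (m ≫ eqToHom P.lies.symm) π
  have h1 : 𝒳.p.obj c'.obj.fst = Over.mk s := hc'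
  have h2 : 𝒳.p.obj c'.obj.snd = Over.mk s := (fp_snd_obj f f c').trans h1
  have hφ' : 𝒴.p.IsHomLift (𝟙 (Over.mk s)) c'.obj.iso.hom := fp_iso_isHomLift f f c' h1
  obtain ⟨α, hα, hfα⟩ := H (AlgebraicClosure P.K) s c'.obj.fst c'.obj.snd h1 h2 c'.obj.iso.hom hφ'
  let Q : AlgSt.FPt 𝒳 := { K := AlgebraicClosure P.K, str := s, obj := c'.obj.fst, lies := h1 }
  refine ⟨AlgSt.Points.mk Q, ?_⟩
  rw [AlgSt.Points.map_mk]
  apply AlgSt.Points.sound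
  let μ : (FibCat.diag f).obj c'.obj.fst ⟶ c' :=
    ObjectProperty.homMk
      { fst := 𝟙 _
        snd := α
        w := by
          change f.map (𝟙 _) ≫ c'.obj.iso.hom = 𝟙 _ ≫ f.map α
          rw [hfα, f.map_id, Category.id_comp] }
  exact ⟨Q.map (FibCat.diag f), 𝟙 _, μ ≫ π, trivial⟩

end Main

end Groth.Agent.Lib.Helper15DiagSurj
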