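import Mathlib

set_option autoImplicit false

namespace Groth.Agent.Lib.Helper15DvrLen
universe u v
open IsLocalRing TensorProduct Pointwise

section general
variable {R : Type u} [CommRing R] {N : Type v} [AddCommGroup N] [Module R N]

/-- For a module of finite length, the `x`-torsion and the cokernel of `x` have the same length. -/
lemma length_torsionBy_eq_length_quotient (hN : IsFiniteLength R N) (x : R) :
    Module.length R (Submodule.torsionBy R N x) =
      Module.length R (N ⧸ (x • ⊤ : Submodule R N)) := by
  let f : N →ₗ[R] N := DistribSMul.toLinearMap R N x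
  have hr : LinearMap.range f = (x • ⊤ : Submodule R N) := by
    rw [LinearMap.range_eq_map]; rfl
  have h1 : Module.length R N =
      Module.length R (LinearMap.ker f) + Module.length R (LinearMap.range f) :=
    Module.length_eq_add_of_exact (LinearMap.ker f).subtype f.rangeRestrict
      (Submodule.injective_subtype _) f.surjective_rangeRestrict (by
        rw [LinearMap.exact_iff, LinearMap.ker_rangeRestrict, Submodule.range_subtype])
  have h2 : Module.length R N =
      Module.length R (LinearMap.range f) + Module.length R (N ⧸ LinearMap.range f) :=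
    Module.length_eq_add_of_exact (LinearMap.range f).subtype (LinearMap.range f).mkQ
      (Submodule.injective_subtype _) (Submodule.mkQ_surjective _)
      (LinearMap.exact_subtype_mkQ _)
  have hfin : Module.length R (LinearMap.range f) ≠ ⊤ := by
    rw [Module.length_ne_top_iff]
    exact hN.of_injective (f := (LinearMap.range f).subtype) (Submodule.injective_subtype _)
  rw [← hr]
  have h3 : Module.length R (LinearMap.ker f) + Module.length R (LinearMap.range f) =
      Module.length R (N ⧸ LinearMap.range f) + Module.length R (LinearMap.range f) := by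
    rw [← h1, h2, add_comm]
  exact WithTop.add_right_cancel hfin h3

lemma isFiniteLength_of_smul_eq_zero [IsNoetherianRing R] [Ring.KrullDimLE 1 R] {x : R}
    (hx : x ∈ nonZeroDivisors R) [Module.Finite R N] (h : ∀ n : N, x • n = 0) :
    IsFiniteLength R N := by
  classical
  have hA : IsFiniteLength R (R ⧸ Ideal.span {x}) := isFiniteLength_quotient_span_singleton (R := R) hx
  obtain ⟨hAN, hAA⟩ := isFiniteLength_iff_isNoetherian_isArtinian.mp hA
  obtain ⟨s, hs⟩ := Module.Finite.fg_top (R := R) (M := N)
  let ψ : s → ((R ⧸ Ideal.span {x}) →ₗ[R] N) := fun i =>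
    Submodule.liftQ _ (LinearMap.toSpanSingleton R N i.1) (by
      rw [Ideal.span_le] -- span as submodule
      intro r hr
      rw [Set.mem_singleton_iff] at hr
      subst hr
      simp [h])
  let φ : (s → (R ⧸ Ideal.span {x})) →ₗ[R] N :=
    LinearMap.lsum R (fun _ : s => (R ⧸ Ideal.span {x})) R ψ
  have hφ : Function.Surjective φ := by
    rw [← LinearMap.range_eq_top, eq_top_iff, ← hs, Submodule.span_le]
    intro n hn
    refine ⟨Pi.single ⟨n, hn⟩ (Submodule.Quotient.mk 1), ?_⟩
    simp only [φ, LinearMap.lsum_apply, LinearMap.coe_sum, Finset.sum_apply, LinearMap.comp_apply,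
      LinearMap.proj_apply]
    rw [Finset.sum_eq_single ⟨n, hn⟩]
    · simp only [Pi.single_eq_same, ψ]
      rw [Submodule.liftQ_apply, LinearMap.toSpanSingleton_apply, one_smul]
    · intro j _ hj
      rw [Pi.single_eq_of_ne hj, map_zero]
    · intro hh; exact absurd (Finset.mem_univ _) hh
  have hfl : IsFiniteLength R (s → (R ⧸ Ideal.span {x})) :=
    isFiniteLength_iff_isNoetherian_isArtinian.mpr ⟨inferInstance, inferInstance⟩
  exact hfl.of_surjective (f := φ) hφ

end general

section loc
variable {R : Type u} [CommRing R] [IsLocalRing R] {N : Type v} [AddCommGroup N] [Module R N]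

/-- length over the residue field of `k ⊗ N` is the `R`-length of `N / ϖ N`. -/
lemma length_residue_tensor (ϖ : R) (hϖ : maximalIdeal R = Ideal.span {ϖ}) :
    Module.length (ResidueField R) (ResidueField R ⊗[R] N) =
      Module.length R (N ⧸ (ϖ • ⊤ : Submodule R N)) := by
  rw [← Module.length_eq_of_surjective (S := R) (R := ResidueField R)
    (M := ResidueField R ⊗[R] N) Ideal.Quotient.mk_surjective]
  have e : (ResidueField R ⊗[R] N) ≃ₗ[R] N ⧸ (maximalIdeal R • ⊤ : Submodule R N) :=
    TensorProduct.quotTensorEquivQuotSMul N (maximalIdeal R)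
  rw [e.length_eq]
  have : (maximalIdeal R • ⊤ : Submodule R N) = ϖ • ⊤ := by
    rw [hϖ, Submodule.ideal_span_singleton_smul]
  rw [this]

lemma length_quotient_of_smul_eq_zero (ϖ : R) (h : ∀ n : N, ϖ • n = 0) :
    Module.length R (N ⧸ (ϖ • ⊤ : Submodule R N)) = Module.length R N := by
  have hb : (ϖ • ⊤ : Submodule R N) = ⊥ := by
    rw [eq_bot_iff]
    rintro _ ⟨n, -, rfl⟩
    simp [h n]
  exact (Submodule.quotEquivOfEqBot _ hb).length_eq

/-- length over the residue field of `k ⊗ N` is the `R`-length of `N` when `ϖ N = 0`. -/
lemma length_residue_tensor_of_smul_eq_zero (ϖ : R) (hϖ : maximalIdeal R = Ideal.span {ϖ})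
    (h : ∀ n : N, ϖ • n = 0) :
    Module.length (ResidueField R) (ResidueField R ⊗[R] N) = Module.length R N := by
  rw [length_residue_tensor ϖ hϖ, length_quotient_of_smul_eq_zero ϖ h]

/-- For finite length `N`: `length_k (k ⊗ N) = length_k (k ⊗ N[ϖ])`. -/
lemma length_residue_tensor_torsionBy (ϖ : R) (hϖ : maximalIdeal R = Ideal.span {ϖ})
    (hN : IsFiniteLength R N) :
    Module.length (ResidueField R) (ResidueField R ⊗[R] N) =
      Module.length (ResidueField R) (ResidueField R ⊗[R] (Submodule.torsionBy R N ϖ)) := by
  rw [length_residue_tensor ϖ hϖ, ← length_torsionBy_eq_length_quotient hN,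
    length_residue_tensor_of_smul_eq_zero ϖ hϖ]
  intro n
  exact Subtype.ext (by simp)

lemma finrank_residue_tensor_torsionBy (ϖ : R) (hϖ : maximalIdeal R = Ideal.span {ϖ})
    [IsNoetherianRing R] [Module.Finite R N] (hN : IsFiniteLength R N) :
    Module.finrank (ResidueField R) (ResidueField R ⊗[R] N) =
      Module.finrank (ResidueField R) (ResidueField R ⊗[R] (Submodule.torsionBy R N ϖ)) := by
  have h := length_residue_tensor_torsionBy ϖ hϖ hN
  rw [Module.length_eq_finrank, Module.length_eq_finrank] at h
  exact_mod_cast h

end loc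

end Groth.Agent.Lib.Helper15DvrLen
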