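-- helper15: essential freeness data give local projectivity
import Mathlib
import Groth.Agent.Lib.Helper15FixEQ
import Groth.Prelude.Def_SGA3x

set_option autoImplicit false
universe u
open CategoryTheory CategoryTheory.Limits AlgebraicGeometry

namespace Groth.Agent.Lib.Helper15EssFree

open Groth.Agent.Lib.Helper11FixSch Groth.Agent.Lib.Helper11FixGen
  Groth.Agent.Lib.Helper15FixLocP Groth.Agent.Lib.Helper15FixEQ

/-- transport of projectivity along an isomorphism of algebras (in `CommRingCat`). -/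
theorem projective_of_iso {R M N : CommRingCat.{u}} (φ : R ⟶ M) (ψ : R ⟶ N) (e : M ≅ N)
    (he : φ ≫ e.hom = ψ) (h : letI := φ.hom.toAlgebra; Module.Projective R M) :
    letI := ψ.hom.toAlgebra; Module.Projective R N := by
  let _ : Algebra R M := φ.hom.toAlgebra
  let _ : Algebra R N := ψ.hom.toAlgebra
  have : Module.Projective R M := h
  let E : M ≃ₗ[R] N :=
    { e.commRingCatIsoToRingEquiv.toAddEquiv with
      map_smul' := fun r m => by
        change e.hom.hom (r • m) = r • e.hom.hom m
        rw [Algebra.smul_def, Algebra.smul_def, map_mul]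
        congr 1
        exact congrArg (fun f => f.hom r) he }
  exact Module.Projective.of_equiv' E

theorem appTop_ι_comp_topIso {K Y : Scheme.{u}} (y : Y ⟶ K) (V : Y.Opens) :
    (V.ι ≫ y).appTop ≫ V.topIso.hom = y.appLE ⊤ V le_top := by
  rw [Scheme.Hom.comp_appTop, Scheme.Opens.ι_appTop, Category.assoc, Scheme.Opens.topIso]
  simp only [Functor.mapIso_hom, Iso.op_hom, eqToIso.hom, Scheme.Hom.appLE]
  erw [← Functor.map_comp]
  rfl

/-- the data in the definition of essential freeness give local projectivity. -/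
theorem locProj_of_cover {K Y : Scheme.{u}} [IsAffine K] (y : Y ⟶ K)
    (h : ∀ x : Y, ∃ V : Y.Opens, x ∈ V ∧ IsAffineOpen V ∧
      (letI := (V.ι ≫ y).appTop.hom.toAlgebra; Module.Projective Γ(K, ⊤) Γ(↑V, ⊤))) :
    LocProj y := by
  intro s
  refine ⟨⊤, trivial, isAffineOpen_top K, {V : Y.affineOpens |
    letI := (y.appLE ⊤ V.1 le_top).hom.toAlgebra; Module.Projective Γ(K, ⊤) Γ(Y, V.1)}, ?_, ?_⟩
  · intro p _
    obtain ⟨V, hpV, hV, hpr⟩ := h p
    exact ⟨⟨V, hV⟩, projective_of_iso _ _ V.topIso (appTop_ι_comp_topIso y V) hpr, hpV⟩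
  · intro V hV
    exact ⟨le_top, hV⟩

theorem isIso_snd_iff {A B C : Scheme.{u}} (j : A ⟶ B) [Mono j] (q : C ⟶ B) :
    IsIso (pullback.snd j q) ↔ ∃ l : C ⟶ A, l ≫ j = q := by
  constructor
  · intro h
    exact ⟨inv (pullback.snd j q) ≫ pullback.fst j q, by
      rw [Category.assoc, pullback.condition, IsIso.inv_hom_id_assoc]⟩
  · rintro ⟨l, hl⟩
    have : IsSplitEpi (pullback.snd j q) :=
      IsSplitEpi.mk' ⟨pullback.lift l (𝟙 C) (by rw [hl, Category.id_comp]),
        pullback.lift_snd _ _ _⟩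
    exact isIso_of_mono_of_isSplitEpi _

end Groth.Agent.Lib.Helper15EssFree
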