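-- helper15: effectivity of descent data in etale schemes along universally submersive morphisms is Zariski local on the base; base change of effective descent data.
import Mathlib
import Groth.Prelude.Def_Desc
import Groth.Prelude.Def_DescFam
import Groth.Prelude.Def_SGA1
import Groth.Agent.Lib.Helper15AffDescCore
import Groth.Agent.Lib.Helper15DescRefine
import Groth.Agent.Lib.Helper15DescRestrict
import Groth.Agent.Lib.Helper15ChartCovB
import Groth.Agent.Lib.Helper15ChartCovC
import Groth.Agent.Lib.Helper15ChartCovEt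

set_option autoImplicit false
set_option linter.unusedSectionVars false
open CategoryTheory CategoryTheory.Limits AlgebraicGeometry

universe u

namespace Groth.Agent.Lib.Helper15EtZarLoc

open Desc Groth.Agent.Lib.Helper15AffDescCore Groth.Agent.Lib.Helper15DescRefine
  Groth.Agent.Lib.Helper15ChartCovB

section Restrict

variable {X S X' S' : Scheme.{u}} {p : X ⟶ S} (D : Desc.SchDD p)
  (g : X' ⟶ X) (j : S' ⟶ S) (p' : X' ⟶ S') (sq : IsPullback g p' p j)

/-- the base change of an effective descent datum is effective -/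
theorem pullDD_effective (U : Over S) (e : (Desc.toDD p).obj U ≅ D) :
    Nonempty ((Desc.toDD p').obj (Over.mk (pullback.snd U.hom j)) ≅ pullDD D g j p' sq.w) := by
  obtain ⟨q, sqq, hq⟩ := exists_invariant_of_iso D U e
  have sqV : IsPullback (pr D g j p' sq.w) (pullDD D g j p' sq.w).obj.hom D.obj.hom g :=
    isPullback_pr D g j p' sq.w
  have hc : (pr D g j p' sq.w ≫ q) ≫ U.hom = ((pullDD D g j p' sq.w).obj.hom ≫ p') ≫ j := by
    rw [Category.assoc, ← sqq.w, ← Category.assoc, sqV.w, Category.assoc, sq.w, Category.assoc]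
  obtain ⟨q', hq'1, hq'2⟩ : ∃ q' : (pullDD D g j p' sq.w).obj.left ⟶ pullback U.hom j,
      q' ≫ pullback.fst U.hom j = pr D g j p' sq.w ≫ q ∧
      q' ≫ pullback.snd U.hom j = (pullDD D g j p' sq.w).obj.hom ≫ p' :=
    ⟨pullback.lift _ _ hc, pullback.lift_fst _ _ _, pullback.lift_snd _ _ _⟩
  have big : IsPullback (pr D g j p' sq.w ≫ q) (pullDD D g j p' sq.w).obj.hom U.hom (g ≫ p) :=
    sqV.paste_horiz sqq.flip
  have big' : IsPullback (q' ≫ pullback.fst U.hom j) (pullDD D g j p' sq.w).obj.hom U.hom
      (p' ≫ j) := by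
    rw [hq'1, ← sq.w]
    exact big
  have left : IsPullback q' (pullDD D g j p' sq.w).obj.hom (pullback.snd U.hom j) p' :=
    IsPullback.of_right big' hq'2 (IsPullback.of_hasPullback U.hom j)
  refine nonempty_iso_of_invariant (pullDD D g j p' sq.w) (Over.mk (pullback.snd U.hom j)) q'
    left.flip ?_
  intro T x₁ v h
  apply pullback.hom_ext
  · rw [Category.assoc, Category.assoc, hq'1, ← Category.assoc, ← Category.assoc,
      tr_pullDD_pr, hq]
  · rw [Category.assoc, Category.assoc, hq'2, ← Category.assoc, ← Category.assoc, tr_hom, h]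

end Restrict

section Glue

variable {S S' : Scheme.{u}} (g : S' ⟶ S) (hg : SGA1.UnivSubmersive g) (D : Desc.SchDD g)
  {ι : Type u} (V : ι → S.Opens) (hV : ⨆ i, V i = ⊤)

include hg hV in
/-- effectivity of a descent datum in etale schemes along a universally submersive morphism is
local on the base for the Zariski topology -/
theorem effective_of_openCover
    (h : ∀ i, ∃ U : Over (V i : Scheme.{u}), Etale U.hom ∧
      Nonempty ((Desc.toDD (pullback.snd g (V i).ι)).obj U ≅
        pullDD D (pullback.fst g (V i).ι) (V i).ι (pullback.snd g (V i).ι)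
          (IsPullback.of_hasPullback g (V i).ι).w)) :
    ∃ U : Over S, Etale U.hom ∧ Nonempty ((Desc.toDD g).obj U ≅ D) := by
  choose U hUet hUe using h
  have key : ∀ i, ∃ c : (Desc.toDD g).obj (Over.mk ((U i).hom ≫ (V i).ι)) ⟶ D,
      IsOpenImmersion c.hom.left ∧ ∀ v : D.obj.left,
        D.obj.hom.base v ∈ Set.range (pullback.fst g (V i).ι).base →
          v ∈ Set.range c.hom.left.base := by
    intro i
    obtain ⟨e⟩ := hUe i
    exact Groth.Agent.Lib.Helper15DescRestrict.exists_chart_of_restrict D _ (V i).ι _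
      (IsPullback.of_hasPullback g (V i).ι) (U i) e
  choose c hc1 hc2 using key
  have hUo : ∀ i, Etale (Over.mk ((U i).hom ≫ (V i).ι)).hom := fun i => by
    have := hUet i
    change Etale ((U i).hom ≫ (V i).ι)
    infer_instance
  have := Groth.Agent.Lib.Helper15ChartCovEt.chartCover g hg
    (fun i => Over.mk ((U i).hom ≫ (V i).ι)) hUo
  have := hc1
  refine Groth.Agent.Lib.Helper15ChartCovC.exists_effective_prop c ?_ @Etale hUo
  intro v
  have hx : g.base (D.obj.hom.base v) ∈ (⨆ i, V i : S.Opens) := by rw [hV]; trivial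
  obtain ⟨i, hi⟩ := TopologicalSpace.Opens.mem_iSup.1 hx
  refine ⟨i, hc2 i v ?_⟩
  rw [Scheme.Pullback.range_fst, Scheme.Opens.range_ι]
  exact hi

end Glue

end Groth.Agent.Lib.Helper15EtZarLoc
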