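import Mathlib

set_option autoImplicit false
universe u

open TensorProduct

namespace Groth.Agent.Lib.Helper15ExtBC

section
variable (A B M : Type u) [CommRing A] [CommRing B] [Algebra A B] [AddCommGroup M] [Module A M]

noncomputable def ιbc : B ⊗[A] M →ₗ[B] B ⊗[A] ExteriorAlgebra A M :=
  (ExteriorAlgebra.ι A).baseChange B

lemma ιbc_tmul (b : B) (m : M) : ιbc A B M (b ⊗ₜ m) = b ⊗ₜ ExteriorAlgebra.ι A m := by
  simp [ιbc]

lemma ιbc_anticomm (x y : B ⊗[A] M) : ιbc A B M x * ιbc A B M y + ιbc A B M y * ιbc A B M x = 0 := by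
  induction x using TensorProduct.induction_on with
  | zero => simp
  | add x₁ x₂ h₁ h₂ =>
    rw [map_add, add_mul, mul_add, add_add_add_comm, h₁, h₂, add_zero]
  | tmul b m =>
    induction y using TensorProduct.induction_on with
    | zero => simp
    | add y₁ y₂ h₁ h₂ =>
      rw [map_add, add_mul, mul_add, add_add_add_comm, h₁, h₂, add_zero]
    | tmul b' m' =>
      rw [ιbc_tmul, ιbc_tmul, Algebra.TensorProduct.tmul_mul_tmul, Algebra.TensorProduct.tmul_mul_tmul,
        mul_comm b' b, ← TensorProduct.tmul_add]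
      have : ExteriorAlgebra.ι A m * ExteriorAlgebra.ι A m' + ExteriorAlgebra.ι A m' * ExteriorAlgebra.ι A m = 0 :=
        ExteriorAlgebra.ι_add_mul_swap m m'
      rw [this, TensorProduct.tmul_zero]

lemma ιbc_sq (x : B ⊗[A] M) : ιbc A B M x * ιbc A B M x = 0 := by
  induction x using TensorProduct.induction_on with
  | zero => simp
  | add x₁ x₂ h₁ h₂ =>
    rw [map_add, add_mul, mul_add, mul_add, h₁, h₂, zero_add, add_zero, add_comm, ιbc_anticomm]
  | tmul b m =>
    rw [ιbc_tmul, Algebra.TensorProduct.tmul_mul_tmul, ExteriorAlgebra.ι_sq_zero, TensorProduct.tmul_zero]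

noncomputable def G : ExteriorAlgebra B (B ⊗[A] M) →ₐ[B] B ⊗[A] ExteriorAlgebra A M :=
  ExteriorAlgebra.lift B ⟨ιbc A B M, ιbc_sq A B M⟩

lemma G_ι (x : B ⊗[A] M) : G A B M (ExteriorAlgebra.ι B x) = ιbc A B M x := by
  simp [G]

/-- Retraction of the exterior algebra onto its degree `p` piece. -/
noncomputable def retr (p : ℕ) : ExteriorAlgebra A M →ₗ[A] ↥(⋀[A]^p M) :=
  (DirectSum.component A ℕ (fun i => ↥(⋀[A]^i M)) p) ∘ₗ
    (DirectSum.decomposeLinearEquiv (fun i => ⋀[A]^i M)).toLinearMap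

lemma retr_coe (p : ℕ) (x : ↥(⋀[A]^p M)) : retr A M p (x : ExteriorAlgebra A M) = x := by
  simp only [retr, LinearMap.comp_apply, LinearEquiv.coe_coe, DirectSum.decomposeLinearEquiv_apply,
    DirectSum.decompose_coe]
  exact DirectSum.component.lof_self A (M := fun i => ↥(⋀[A]^i M)) p x

lemma subtype_baseChange_injective (p : ℕ) :
    Function.Injective ((Submodule.subtype (⋀[A]^p M)).baseChange B) := by
  have h : (retr A M p).baseChange B ∘ₗ (Submodule.subtype (⋀[A]^p M)).baseChange B = LinearMap.id := by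
    rw [← LinearMap.baseChange_comp]
    have : retr A M p ∘ₗ Submodule.subtype (⋀[A]^p M) = LinearMap.id := by
      apply LinearMap.ext
      intro x
      simp [retr_coe]
    rw [this, LinearMap.baseChange_id]
  intro x y hxy
  have := congrArg ((retr A M p).baseChange B) hxy
  rw [← LinearMap.comp_apply, ← LinearMap.comp_apply, h] at this
  simpa using this

/-- Extension of scalars on exterior powers. -/
noncomputable def extScalars (N : Type u) [AddCommGroup N] [Module B N] [Module A N] [IsScalarTower A B N]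
    (p : ℕ) : ↥(⋀[A]^p N) →ₗ[A] ↥(⋀[B]^p N) :=
  exteriorPower.alternatingMapLinearEquiv
    { (exteriorPower.ιMulti B p (M := N)).toMultilinearMap.restrictScalars A with
      map_eq_zero_of_eq' := fun v i j h hij =>
        (exteriorPower.ιMulti B p (M := N)).map_eq_zero_of_eq v h hij }

lemma extScalars_ιMulti (N : Type u) [AddCommGroup N] [Module B N] [Module A N] [IsScalarTower A B N]
    (p : ℕ) (v : Fin p → N) :
    extScalars A B N p (exteriorPower.ιMulti A p v) = exteriorPower.ιMulti B p v := by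
  unfold extScalars
  rw [exteriorPower.alternatingMapLinearEquiv_apply_ιMulti]
  rfl

noncomputable def fwd0 (p : ℕ) : ↥(⋀[A]^p M) →ₗ[A] ↥(⋀[B]^p (B ⊗[A] M)) :=
  extScalars A B (B ⊗[A] M) p ∘ₗ exteriorPower.map p (TensorProduct.mk A B M 1)

lemma fwd0_ιMulti (p : ℕ) (m : Fin p → M) :
    fwd0 A B M p (exteriorPower.ιMulti A p m) = exteriorPower.ιMulti B p (fun i => (1 : B) ⊗ₜ[A] m i) := by
  unfold fwd0
  rw [LinearMap.comp_apply, exteriorPower.map_apply_ιMulti, extScalars_ιMulti]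
  rfl

noncomputable def fwd (p : ℕ) : B ⊗[A] ↥(⋀[A]^p M) →ₗ[B] ↥(⋀[B]^p (B ⊗[A] M)) :=
  (fwd0 A B M p).liftBaseChange B

lemma fwd_tmul (p : ℕ) (b : B) (x : ↥(⋀[A]^p M)) : fwd A B M p (b ⊗ₜ x) = b • fwd0 A B M p x := by
  simp [fwd]

lemma G_fwd0 (p : ℕ) (x : ↥(⋀[A]^p M)) :
    G A B M ((fwd0 A B M p x : ↥(⋀[B]^p (B ⊗[A] M))) : ExteriorAlgebra B (B ⊗[A] M))
      = (1 : B) ⊗ₜ[A] (x : ExteriorAlgebra A M) := by
  have key : ((G A B M).toLinearMap.restrictScalars A) ∘ₗ
      ((Submodule.subtype (⋀[B]^p (B ⊗[A] M))).restrictScalars A) ∘ₗ fwd0 A B M p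
      = (TensorProduct.mk A B (ExteriorAlgebra A M) 1) ∘ₗ Submodule.subtype (⋀[A]^p M) := by
    apply exteriorPower.linearMap_ext
    ext m
    simp only [LinearMap.compAlternatingMap_apply, LinearMap.comp_apply, LinearMap.restrictScalars_apply,
      Submodule.subtype_apply, AlgHom.toLinearMap_apply, fwd0_ιMulti, exteriorPower.ιMulti_apply_coe,
      ExteriorAlgebra.ιMulti_apply, map_list_prod, List.map_ofFn, TensorProduct.mk_apply]
    have h1 : (⇑(G A B M) ∘ fun i => ExteriorAlgebra.ι B ((1 : B) ⊗ₜ[A] m i))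
        = fun i => (Algebra.TensorProduct.includeRight : ExteriorAlgebra A M →ₐ[A] B ⊗[A] ExteriorAlgebra A M)
            (ExteriorAlgebra.ι A (m i)) := by
      funext i
      simp [G_ι, ιbc_tmul]
    rw [h1]
    have h2 : (1 : B) ⊗ₜ[A] (List.ofFn fun i => ExteriorAlgebra.ι A (m i)).prod
        = (Algebra.TensorProduct.includeRight : ExteriorAlgebra A M →ₐ[A] B ⊗[A] ExteriorAlgebra A M)
            (List.ofFn fun i => ExteriorAlgebra.ι A (m i)).prod := rfl
    rw [h2, map_list_prod, List.map_ofFn]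
    rfl
  exact LinearMap.congr_fun key x

lemma G_fwd (p : ℕ) (z : B ⊗[A] ↥(⋀[A]^p M)) :
    G A B M ((fwd A B M p z : ↥(⋀[B]^p (B ⊗[A] M))) : ExteriorAlgebra B (B ⊗[A] M))
      = (Submodule.subtype (⋀[A]^p M)).baseChange B z := by
  induction z using TensorProduct.induction_on with
  | zero => simp
  | add x y hx hy => simp only [map_add, Submodule.coe_add, hx, hy]
  | tmul b x =>
    rw [fwd_tmul, Submodule.coe_smul, map_smul, G_fwd0, LinearMap.baseChange_tmul,
      TensorProduct.smul_tmul', smul_eq_mul, mul_one]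
    rfl

lemma fwd_injective (p : ℕ) : Function.Injective (fwd A B M p) := by
  intro x y hxy
  apply subtype_baseChange_injective A B M p
  rw [← G_fwd, ← G_fwd, hxy]

lemma span_one_tmul : Submodule.span B (Set.range fun m : M => (1 : B) ⊗ₜ[A] m) = ⊤ := by
  rw [eq_top_iff]
  intro x hx0
  clear hx0
  induction x using TensorProduct.induction_on with
  | zero => exact Submodule.zero_mem _
  | add x y hx hy => exact Submodule.add_mem _ hx hy
  | tmul b m =>
    have : b ⊗ₜ[A] m = b • ((1 : B) ⊗ₜ[A] m) := by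
      rw [TensorProduct.smul_tmul', smul_eq_mul, mul_one]
    rw [this]
    exact Submodule.smul_mem _ _ (Submodule.subset_span ⟨m, rfl⟩)

lemma fwd_surjective (p : ℕ) : Function.Surjective (fwd A B M p) := by
  rw [← LinearMap.range_eq_top, eq_top_iff,
    ← exteriorPower.ιMulti_span_of_span B p (B ⊗[A] M) (span_one_tmul A B M), Submodule.span_le]
  rintro _ ⟨v, hv, rfl⟩
  have hv' : ∀ i, ∃ m : M, (1 : B) ⊗ₜ[A] m = v i := fun i => hv ⟨i, rfl⟩
  choose m hm using hv'
  refine ⟨(1 : B) ⊗ₜ[A] exteriorPower.ιMulti A p m, ?_⟩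
  rw [fwd_tmul, one_smul, fwd0_ιMulti]
  congr 1
  funext i
  exact hm i

/-- Exterior powers commute with base change. -/
noncomputable def bcEquiv (p : ℕ) : B ⊗[A] ↥(⋀[A]^p M) ≃ₗ[B] ↥(⋀[B]^p (B ⊗[A] M)) :=
  LinearEquiv.ofBijective (fwd A B M p) ⟨fwd_injective A B M p, fwd_surjective A B M p⟩

lemma bcEquiv_tmul (p : ℕ) (b : B) (x : ↥(⋀[A]^p M)) :
    bcEquiv A B M p (b ⊗ₜ x) = b • fwd0 A B M p x := fwd_tmul A B M p b x

end

end Groth.Agent.Lib.Helper15ExtBC
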