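import Mathlib

set_option autoImplicit false

namespace Groth.Agent.Lib.Helper15.FanLin

open Filter Topology

/-- A real solution of a homogeneous integer linear system can be approximated by a rational
solution with the same zero pattern and the same strict signs. -/
theorem exists_rat_solution {ι κ : Type*} [Fintype ι] (A : κ → ι → ℤ) (u : ι → ℝ)
    (hu : ∀ j, ∑ i, (A j i : ℝ) * u i = 0) :
    ∃ r : ι → ℚ, (∀ j, ∑ i, (A j i : ℚ) * r i = 0) ∧ (∀ i, u i = 0 → r i = 0) ∧
      (∀ i, 0 < u i → 0 < r i) := by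
  classical
  let V : Submodule ℚ ℝ := Submodule.span ℚ (Set.range u)
  have : FiniteDimensional ℚ V := FiniteDimensional.span_of_finite ℚ (Set.finite_range u)
  let b := Module.finBasis ℚ V
  set m := Module.finrank ℚ V with hm
  let θ : Fin m → ℝ := fun j => (b j : ℝ)
  have hmem : ∀ i, u i ∈ V := fun i => Submodule.subset_span ⟨i, rfl⟩
  let c : ι → Fin m → ℚ := fun i j => b.repr ⟨u i, hmem i⟩ j
  have hexp : ∀ i, u i = ∑ j, (c i j : ℝ) * θ j := by
    intro i
    have h1 := b.sum_repr ⟨u i, hmem i⟩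
    have h2 := congrArg (Subtype.val) h1
    simp only [Submodule.coe_sum, Submodule.coe_smul] at h2
    rw [← h2]
    apply Finset.sum_congr rfl
    intro j _
    rw [Rat.smul_def]
  have hind : ∀ q : Fin m → ℚ, ∑ j, (q j : ℝ) * θ j = 0 → ∀ j, q j = 0 := by
    intro q hq
    have hli := b.linearIndependent
    rw [Fintype.linearIndependent_iff] at hli
    apply hli q
    apply Subtype.ext
    simp only [Submodule.coe_sum, Submodule.coe_smul, Submodule.coe_zero]
    rw [← hq]
    apply Finset.sum_congr rfl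
    intro j _
    rw [Rat.smul_def]
  have hzero : ∀ i, u i = 0 → ∀ j, c i j = 0 := by
    intro i hi j
    have : (⟨u i, hmem i⟩ : V) = 0 := Subtype.ext hi
    show b.repr ⟨u i, hmem i⟩ j = 0
    rw [this]; simp
  have heq : ∀ j' j, ∑ i, (A j' i : ℚ) * c i j = 0 := by
    intro j'
    apply hind
    have h1 := hu j'
    rw [← h1]
    simp only [Rat.cast_sum, Rat.cast_mul, Rat.cast_intCast]
    simp_rw [hexp, Finset.mul_sum, Finset.sum_mul]
    rw [Finset.sum_comm]
    apply Finset.sum_congr rfl
    intro i _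
    apply Finset.sum_congr rfl
    intro j _
    ring
  -- open set of good coefficient vectors
  let O : Set (Fin m → ℝ) := ⋂ i ∈ {i : ι | 0 < u i}, {t | 0 < ∑ j, (c i j : ℝ) * t j}
  have hO : IsOpen O := by
    apply Set.Finite.isOpen_biInter (Set.toFinite _)
    intro i _
    apply isOpen_lt continuous_const
    fun_prop
  have hθ : θ ∈ O := by
    simp only [O, Set.mem_iInter, Set.mem_ofPred_eq]
    intro i hi
    rw [← hexp]; exact hi
  have hd : DenseRange (Pi.map (fun _ : Fin m => ((↑) : ℚ → ℝ))) :=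
    DenseRange.piMap (fun _ => Rat.denseRange_cast)
  obtain ⟨t, ht⟩ := hd.exists_mem_open hO ⟨θ, hθ⟩
  simp only [O, Set.mem_iInter, Set.mem_ofPred_eq, Pi.map_apply] at ht
  refine ⟨fun i => ∑ j, c i j * t j, ?_, ?_, ?_⟩
  · intro j'
    simp_rw [Finset.mul_sum]
    rw [Finset.sum_comm]
    apply Finset.sum_eq_zero
    intro j _
    have := heq j' j
    calc ∑ i, (A j' i : ℚ) * (c i j * t j) = (∑ i, (A j' i : ℚ) * c i j) * t j := by
          rw [Finset.sum_mul]; apply Finset.sum_congr rfl; intro i _; ring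
      _ = 0 := by rw [this, zero_mul]
  · intro i hi
    apply Finset.sum_eq_zero
    intro j _
    rw [hzero i hi j, zero_mul]
  · intro i hi
    have := ht i hi
    have h2 : ((∑ j, c i j * t j : ℚ) : ℝ) = ∑ j, (c i j : ℝ) * (t j : ℝ) := by
      push_cast; rfl
    have h3 : (0 : ℝ) < ((∑ j, c i j * t j : ℚ) : ℝ) := by rw [h2]; exact this
    exact_mod_cast h3


/-- integer version of `exists_rat_solution` for nonnegative `u`. -/
theorem exists_nat_solution {ι κ : Type*} [Fintype ι] (A : κ → ι → ℤ) (u : ι → ℝ)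
    (hu0 : ∀ i, 0 ≤ u i) (hu : ∀ j, ∑ i, (A j i : ℝ) * u i = 0) :
    ∃ r : ι → ℕ, (∀ j, ∑ i, A j i * (r i : ℤ) = 0) ∧ (∀ i, u i = 0 → r i = 0) ∧
      (∀ i, 0 < u i → 0 < r i) := by
  classical
  obtain ⟨q, hq1, hq2, hq3⟩ := exists_rat_solution A u hu
  have hq0 : ∀ i, 0 ≤ q i := by
    intro i
    rcases (hu0 i).eq_or_lt with h | h
    · rw [hq2 i h.symm]
    · exact (hq3 i h).le
  let D : ℕ := ∏ i, (q i).den
  have hD : 0 < D := Finset.prod_pos (fun i _ => (q i).den_pos)
  let z : ι → ℤ := fun i => (q i).num * ∏ i' ∈ Finset.univ.erase i, ((q i').den : ℤ)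
  have hz : ∀ i, (z i : ℚ) = q i * (D : ℚ) := by
    intro i
    have h1 : (D : ℚ) = ((q i).den : ℚ) * ∏ i' ∈ Finset.univ.erase i, ((q i').den : ℚ) := by
      simp only [D]
      push_cast
      rw [Finset.mul_prod_erase Finset.univ (fun i' => ((q i').den : ℚ)) (Finset.mem_univ i)]
    rw [h1, ← mul_assoc, Rat.mul_den_eq_num]
    simp only [z]
    push_cast
    rfl
  have hz0 : ∀ i, 0 ≤ z i := by
    intro i
    have : (0 : ℚ) ≤ (z i : ℚ) := by
      rw [hz]; exact mul_nonneg (hq0 i) (by positivity)
    exact_mod_cast this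
  refine ⟨fun i => (z i).toNat, ?_, ?_, ?_⟩
  · intro j
    have h1 : ∀ i, (((z i).toNat : ℕ) : ℤ) = z i := fun i => Int.toNat_of_nonneg (hz0 i)
    simp_rw [h1]
    have h2 : ((∑ i, A j i * z i : ℤ) : ℚ) = 0 := by
      push_cast
      simp_rw [hz, ← mul_assoc]
      rw [← Finset.sum_mul, hq1 j, zero_mul]
    exact_mod_cast h2
  · intro i hi
    have : (z i : ℚ) = 0 := by rw [hz, hq2 i hi, zero_mul]
    have : z i = 0 := by exact_mod_cast this
    simp [this]
  · intro i hi
    have : (0 : ℚ) < (z i : ℚ) := by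
      rw [hz]; exact mul_pos (hq3 i hi) (by exact_mod_cast hD)
    have : 0 < z i := by exact_mod_cast this
    simpa using this


/-- A nonnegative real solution of a homogeneous integer linear system is a positive combination
of linearly independent nonnegative integer solutions supported inside its support. -/
theorem exists_decomp {ι κ : Type*} [Fintype ι] (A : κ → ι → ℤ) :
    ∀ (N : ℕ) (u : ι → ℝ), (∀ i, 0 ≤ u i) → (∀ j, ∑ i, (A j i : ℝ) * u i = 0) →
      (Finset.univ.filter (fun i => u i ≠ 0)).card ≤ N →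
      ∃ (m : ℕ) (w : Fin m → ι → ℕ) (x : Fin m → ℝ),
        (∀ l, 0 < x l) ∧ (∀ l j, ∑ i, A j i * (w l i : ℤ) = 0) ∧
        (∀ l i, u i = 0 → w l i = 0) ∧
        (∀ t : Fin m → ℤ, (∀ i, ∑ l, t l * (w l i : ℤ) = 0) → ∀ l, t l = 0) ∧
        (∀ i, u i = ∑ l, x l * (w l i : ℝ)) := by
  classical
  intro N
  induction N with
  | zero =>
    intro u hu0 hu hcard
    have hall : ∀ i, u i = 0 := by
      intro i
      by_contra hi
      have : i ∈ Finset.univ.filter (fun i => u i ≠ 0) := by simp [hi]
      have := Finset.card_pos.mpr ⟨i, this⟩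
      omega
    exact ⟨0, Fin.elim0, Fin.elim0, fun l => l.elim0, fun l => l.elim0, fun l => l.elim0,
      fun t _ l => l.elim0, fun i => by simp [hall i]⟩
  | succ N ih =>
    intro u hu0 hu hcard
    by_cases hall : ∀ i, u i = 0
    · exact ⟨0, Fin.elim0, Fin.elim0, fun l => l.elim0, fun l => l.elim0, fun l => l.elim0,
        fun t _ l => l.elim0, fun i => by simp [hall i]⟩
    push Not at hall
    obtain ⟨i₁, hi₁⟩ := hall
    obtain ⟨r, hr1, hr2, hr3⟩ := exists_nat_solution A u hu0 hu
    set S := Finset.univ.filter (fun i => u i ≠ 0) with hS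
    have hSne : S.Nonempty := ⟨i₁, by simp [hS, hi₁]⟩
    obtain ⟨i₀, hi₀S, hi₀min⟩ := Finset.exists_min_image S (fun i => u i / (r i : ℝ)) hSne
    have hpos : ∀ i ∈ S, 0 < u i ∧ 0 < (r i : ℝ) := by
      intro i hi
      have hne : u i ≠ 0 := by simpa [hS] using hi
      have h1 : 0 < u i := lt_of_le_of_ne (hu0 i) (Ne.symm hne)
      exact ⟨h1, by exact_mod_cast hr3 i h1⟩
    set t₀ : ℝ := u i₀ / (r i₀ : ℝ) with ht₀
    have ht₀pos : 0 < t₀ := div_pos (hpos i₀ hi₀S).1 (hpos i₀ hi₀S).2
    let u' : ι → ℝ := fun i => u i - t₀ * (r i : ℝ)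
    have hu'0 : ∀ i, 0 ≤ u' i := by
      intro i
      by_cases hi : i ∈ S
      · have h1 := hi₀min i hi
        have h2 := (hpos i hi).2
        have : t₀ * (r i : ℝ) ≤ u i := by
          rw [← le_div_iff₀ h2]; exact h1
        simp only [u']; linarith
      · have hui : u i = 0 := by simpa [hS] using hi
        have : r i = 0 := hr2 i hui
        simp [u', hui, this]
    have hu'i₀ : u' i₀ = 0 := by
      have h2 := (hpos i₀ hi₀S).2
      simp only [u', ht₀]
      field_simp
      ring
    have hu'zero : ∀ i, u i = 0 → u' i = 0 := by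
      intro i hui
      have : r i = 0 := hr2 i hui
      simp [u', hui, this]
    have hu' : ∀ j, ∑ i, (A j i : ℝ) * u' i = 0 := by
      intro j
      simp only [u', mul_sub, Finset.sum_sub_distrib, hu j, zero_sub, neg_eq_zero]
      have h1 : ((∑ i, A j i * (r i : ℤ) : ℤ) : ℝ) = 0 := by rw [hr1 j]; simp
      push_cast at h1
      calc ∑ i, (A j i : ℝ) * (t₀ * (r i : ℝ)) = t₀ * ∑ i, (A j i : ℝ) * (r i : ℝ) := by
            rw [Finset.mul_sum]; apply Finset.sum_congr rfl; intro i _; ring
        _ = 0 := by rw [h1, mul_zero]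
    have hcard' : (Finset.univ.filter (fun i => u' i ≠ 0)).card ≤ N := by
      have hsub : Finset.univ.filter (fun i => u' i ≠ 0) ⊆ S.erase i₀ := by
        intro i hi
        simp only [Finset.mem_filter, Finset.mem_univ, true_and] at hi
        rw [Finset.mem_erase]
        refine ⟨fun h => hi (h ▸ hu'i₀), ?_⟩
        simp only [hS, Finset.mem_filter, Finset.mem_univ, true_and]
        exact fun h => hi (hu'zero i h)
      have h1 := Finset.card_le_card hsub
      rw [Finset.card_erase_of_mem hi₀S] at h1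
      omega
    obtain ⟨m, w, x, hx, hw1, hw2, hw3, hw4⟩ := ih u' hu'0 hu' hcard'
    refine ⟨m + 1, Fin.cons r w, Fin.cons t₀ x, ?_, ?_, ?_, ?_, ?_⟩
    · intro l
      refine Fin.cases ?_ (fun l => ?_) l
      · simpa using ht₀pos
      · simpa using hx l
    · intro l
      refine Fin.cases ?_ (fun l => ?_) l
      · simpa using hr1
      · simpa using hw1 l
    · intro l
      refine Fin.cases ?_ (fun l => ?_) l
      · simpa using hr2
      · intro i hi
        simpa using hw2 l i (hu'zero i hi)
    · intro t ht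
      have h0 : t 0 = 0 := by
        have h1 := ht i₀
        rw [Fin.sum_univ_succ] at h1
        simp only [Fin.cons_zero, Fin.cons_succ] at h1
        have h2 : ∀ l : Fin m, t l.succ * (w l i₀ : ℤ) = 0 := by
          intro l; rw [hw2 l i₀ hu'i₀]; simp
        simp only [h2, Finset.sum_const_zero, add_zero] at h1
        have h3 : (r i₀ : ℤ) ≠ 0 := by
          have := (hpos i₀ hi₀S).2
          have : 0 < r i₀ := by exact_mod_cast this
          exact_mod_cast this.ne'
        rcases mul_eq_zero.mp h1 with h | h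
        · exact h
        · exact absurd h h3
      have hrest : ∀ l : Fin m, t l.succ = 0 := by
        apply hw3 (fun l => t l.succ)
        intro i
        have h1 := ht i
        rw [Fin.sum_univ_succ] at h1
        simp only [Fin.cons_zero, Fin.cons_succ, h0, zero_mul, zero_add] at h1
        exact h1
      intro l
      refine Fin.cases h0 hrest l
    · intro i
      rw [Fin.sum_univ_succ]
      simp only [Fin.cons_zero, Fin.cons_succ]
      rw [← hw4 i]
      simp only [u']
      ring

end Groth.Agent.Lib.Helper15.FanLin
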