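import Mathlib
import Groth.Prelude.Def_W4c6instabfans3Fan
import Groth.Agent.Lib.Helper15FanLin

set_option autoImplicit false

namespace Groth.Agent.Lib.Helper15.FanCone

universe u

open CategoryTheory Opposite Instab Instab.Fan

/-- integer linear maps between coordinate spaces are given by their columns. -/
theorem toLin_apply_eq_sum {k n : ICone} (φ : k ⟶ n) (v : Fin k.dim → ℤ) (j : Fin n.dim) :
    φ.toLin v j = ∑ i, φ.toLin (Pi.single i 1) j * v i := by
  classical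
  have h1 : v = ∑ i, v i • (Pi.single i 1 : Fin k.dim → ℤ) := by
    funext i'
    simp [Finset.sum_apply, Pi.single_apply]
  conv_lhs => rw [h1]
  rw [map_sum, Finset.sum_apply]
  apply Finset.sum_congr rfl
  intro i _
  rw [map_smul, Pi.smul_apply, smul_eq_mul, mul_comm]

theorem realMap_intCast {k n : ICone} (φ : k ⟶ n) (v : Fin k.dim → ℤ) :
    φ.realMap (fun i => (v i : ℝ)) = fun j => (φ.toLin v j : ℝ) := by
  funext j
  rw [toLin_apply_eq_sum]
  simp only [ICone.Hom.realMap]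
  push_cast
  rfl

theorem realMap_comp {m k n : ICone} (α : m ⟶ k) (φ : k ⟶ n) (x : Fin m.dim → ℝ) :
    (α ≫ φ).realMap x = φ.realMap (α.realMap x) := by
  funext j
  simp only [ICone.Hom.realMap]
  have h1 : ∀ l, ((α ≫ φ).toLin (Pi.single l 1) j : ℝ)
      = ∑ i, (φ.toLin (Pi.single i 1) j : ℝ) * (α.toLin (Pi.single l 1) i : ℝ) := by
    intro l
    have : (α ≫ φ).toLin (Pi.single l 1) j = φ.toLin (α.toLin (Pi.single l 1)) j := rfl
    rw [this, toLin_apply_eq_sum]
    push_cast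
    rfl
  simp_rw [h1, Finset.sum_mul, Finset.mul_sum]
  rw [Finset.sum_comm]
  apply Finset.sum_congr rfl
  intro i _
  apply Finset.sum_congr rfl
  intro l _
  ring

theorem realMap_smul {k n : ICone} (φ : k ⟶ n) (c : ℝ) (v : Fin k.dim → ℝ) :
    φ.realMap (c • v) = c • φ.realMap v := by
  funext j
  simp only [ICone.Hom.realMap, Pi.smul_apply, smul_eq_mul, Finset.mul_sum]
  apply Finset.sum_congr rfl
  intro i _
  ring

theorem realMap_id (n : ICone) (v : Fin n.dim → ℝ) : (𝟙 n : n ⟶ n).realMap v = v := by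
  classical
  funext j
  simp only [ICone.Hom.realMap]
  have h : ∀ i, ((𝟙 n : n ⟶ n).toLin (Pi.single i 1) j : ℝ) = if j = i then 1 else 0 := by
    intro i
    change (((Pi.single i 1 : Fin n.dim → ℤ) j : ℤ) : ℝ) = _
    rw [Pi.single_apply]
    split_ifs <;> simp
  simp [h]


open Groth.Agent.Lib.Helper15.FanLin in
/-- fibre product of two cones at a common real point. -/
theorem exists_fibre {k l n : ICone} (φ : k ⟶ n) (ψ : l ⟶ n) (y : Orth k) (z : Orth l) (c : ℝ)
    (hc : 0 < c) (h : φ.realMap y.1 = c • ψ.realMap z.1) :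
    ∃ (m : ICone) (α : m ⟶ k) (β : m ⟶ l) (x : Orth m) (c₂ : ℝ), 0 < c₂ ∧
      α ≫ φ = β ≫ ψ ∧ y.1 = α.realMap x.1 ∧ z.1 = c₂ • β.realMap x.1 := by
  classical
  let A : Fin n.dim → (Fin k.dim ⊕ Fin l.dim) → ℤ := fun j =>
    Sum.elim (fun i => φ.toLin (Pi.single i 1) j) (fun i => - ψ.toLin (Pi.single i 1) j)
  let u : (Fin k.dim ⊕ Fin l.dim) → ℝ := Sum.elim y.1 (fun i => c * z.1 i)
  have hu0 : ∀ i, 0 ≤ u i := by
    rintro (i | i)
    · exact y.2.1 i
    · exact mul_nonneg hc.le (z.2.1 i)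
  have hu : ∀ j, ∑ i, (A j i : ℝ) * u i = 0 := by
    intro j
    rw [Fintype.sum_sum_type]
    simp only [A, u, Sum.elim_inl, Sum.elim_inr]
    have h1 := congr_fun h j
    simp only [ICone.Hom.realMap, Pi.smul_apply, smul_eq_mul, Finset.mul_sum] at h1
    push_cast
    simp only [neg_mul, Finset.sum_neg_distrib]
    rw [h1]
    have : ∀ i, c * ((ψ.toLin (Pi.single i 1) j : ℝ) * z.1 i)
        = (ψ.toLin (Pi.single i 1) j : ℝ) * (c * z.1 i) := fun i => by ring
    simp_rw [this]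
    ring
  obtain ⟨m, w, x, hx, hw1, hw2, hw3, hw4⟩ := exists_decomp A _ u hu0 hu le_rfl
  have hm : 0 < m := by
    rcases Nat.eq_zero_or_pos m with h0 | h0
    · exfalso
      subst h0
      apply y.2.2
      funext i
      have := hw4 (Sum.inl i)
      simpa [u] using this
    · exact h0
  let M : ICone := ⟨⟨m, hm⟩⟩
  let Ma : Matrix (Fin k.dim) (Fin m) ℤ := fun i l => (w l (Sum.inl i) : ℤ)
  let Mb : Matrix (Fin l.dim) (Fin m) ℤ := fun i l => (w l (Sum.inr i) : ℤ)
  -- relation between columns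
  have hcol : ∀ (l' : Fin m) (j : Fin n.dim),
      ∑ i, φ.toLin (Pi.single i 1) j * (w l' (Sum.inl i) : ℤ)
        = ∑ i, ψ.toLin (Pi.single i 1) j * (w l' (Sum.inr i) : ℤ) := by
    intro l' j
    have h1 := hw1 l' j
    rw [Fintype.sum_sum_type] at h1
    simp only [A, Sum.elim_inl, Sum.elim_inr, neg_mul, Finset.sum_neg_distrib] at h1
    linarith
  have hcomm : ∀ t : Fin m → ℤ, φ.toLin (Ma.mulVecLin t) = ψ.toLin (Mb.mulVecLin t) := by
    intro t
    funext j
    rw [toLin_apply_eq_sum, toLin_apply_eq_sum]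
    simp only [Matrix.mulVecLin_apply, Matrix.mulVec, dotProduct, Ma, Mb]
    simp_rw [Finset.mul_sum]
    rw [Finset.sum_comm]
    conv_rhs => rw [Finset.sum_comm]
    apply Finset.sum_congr rfl
    intro l' _
    have := hcol l' j
    calc ∑ i, φ.toLin (Pi.single i 1) j * ((w l' (Sum.inl i) : ℤ) * t l')
        = (∑ i, φ.toLin (Pi.single i 1) j * (w l' (Sum.inl i) : ℤ)) * t l' := by
          rw [Finset.sum_mul]; apply Finset.sum_congr rfl; intro i _; ring
      _ = (∑ i, ψ.toLin (Pi.single i 1) j * (w l' (Sum.inr i) : ℤ)) * t l' := by rw [this]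
      _ = _ := by rw [Finset.sum_mul]; apply Finset.sum_congr rfl; intro i _; ring
  have hker : ∀ t : Fin m → ℤ, (Ma.mulVecLin t = 0 ∨ Mb.mulVecLin t = 0) → t = 0 := by
    intro t ht
    have hboth : Ma.mulVecLin t = 0 ∧ Mb.mulVecLin t = 0 := by
      rcases ht with ht | ht
      · refine ⟨ht, ?_⟩
        apply ψ.injective
        rw [← hcomm, ht, map_zero, map_zero]
      · refine ⟨?_, ht⟩
        apply φ.injective
        rw [hcomm, ht, map_zero, map_zero]
    funext l'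
    apply hw3 t
    rintro (i | i)
    · have := congr_fun hboth.1 i
      simp only [Matrix.mulVecLin_apply, Matrix.mulVec, dotProduct, Ma, Pi.zero_apply] at this
      rw [← this]
      apply Finset.sum_congr rfl; intro l' _; ring
    · have := congr_fun hboth.2 i
      simp only [Matrix.mulVecLin_apply, Matrix.mulVec, dotProduct, Mb, Pi.zero_apply] at this
      rw [← this]
      apply Finset.sum_congr rfl; intro l' _; ring
  let α : M ⟶ k :=
    { toLin := Ma.mulVecLin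
      injective := by
        intro (t : Fin m → ℤ) (t' : Fin m → ℤ) (htt : Ma.mulVecLin t = Ma.mulVecLin t')
        have : Ma.mulVecLin (t - t') = 0 := by rw [map_sub, htt, sub_self]
        have := hker _ (Or.inl this)
        exact sub_eq_zero.mp this
      nonneg := by
        intro (v : Fin m → ℤ) hv i
        show 0 ≤ ∑ l' : Fin m, (w l' (Sum.inl i) : ℤ) * v l'
        exact Finset.sum_nonneg (fun l' _ => mul_nonneg (Int.natCast_nonneg _) (hv l')) }
  let β : M ⟶ l :=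
    { toLin := Mb.mulVecLin
      injective := by
        intro (t : Fin m → ℤ) (t' : Fin m → ℤ) (htt : Mb.mulVecLin t = Mb.mulVecLin t')
        have : Mb.mulVecLin (t - t') = 0 := by rw [map_sub, htt, sub_self]
        have := hker _ (Or.inr this)
        exact sub_eq_zero.mp this
      nonneg := by
        intro (v : Fin m → ℤ) hv i
        show 0 ≤ ∑ l' : Fin m, (w l' (Sum.inr i) : ℤ) * v l'
        exact Finset.sum_nonneg (fun l' _ => mul_nonneg (Int.natCast_nonneg _) (hv l')) }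
  let X : Orth M := ⟨x, fun l' => (hx l').le, fun h0 => by
    have h1 : x ⟨0, hm⟩ = 0 := congr_fun h0 ⟨0, hm⟩
    have h2 := hx ⟨0, hm⟩
    linarith⟩
  refine ⟨M, α, β, X, 1 / c, by positivity, ?_, ?_, ?_⟩
  · apply ICone.Hom.ext
    apply LinearMap.ext
    intro t
    exact hcomm t
  · funext i
    have := hw4 (Sum.inl i)
    simp only [u, Sum.elim_inl] at this
    rw [this]
    simp only [ICone.Hom.realMap]
    apply Finset.sum_congr rfl
    intro l' _
    have : α.toLin (Pi.single l' 1) i = (w l' (Sum.inl i) : ℤ) := by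
      show (Ma.mulVecLin (Pi.single l' 1)) i = _
      simp [Ma]
    rw [this]
    push_cast
    ring
  · funext i
    have := hw4 (Sum.inr i)
    simp only [u, Sum.elim_inr] at this
    have h2 : z.1 i = (1 / c) * (c * z.1 i) := by field_simp
    rw [h2, this]
    simp only [ICone.Hom.realMap, Pi.smul_apply, smul_eq_mul]
    congr 1
    apply Finset.sum_congr rfl
    intro l' _
    have : β.toLin (Pi.single l' 1) i = (w l' (Sum.inr i) : ℤ) := by
      show (Mb.mulVecLin (Pi.single l' 1)) i = _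
      simp [Mb]
    rw [this]
    push_cast
    ring


variable {F : Fan.{u}}

/-- two points of the disjoint union lie in a common sub-cone. -/
def Common (a b : Pt F) : Prop :=
  ∃ (k : ICone) (φ₁ : k ⟶ a.1.1) (φ₂ : k ⟶ b.1.1) (y : Orth k) (c₁ c₂ : ℝ),
    F.map φ₁.op a.1.2 = F.map φ₂.op b.1.2 ∧ 0 < c₁ ∧ 0 < c₂ ∧
      a.2.1 = c₁ • φ₁.realMap y.1 ∧ b.2.1 = c₂ • φ₂.realMap y.1

theorem Common.refl (a : Pt F) : Common a a :=
  ⟨a.1.1, 𝟙 _, 𝟙 _, a.2, 1, 1, rfl, one_pos, one_pos, by rw [realMap_id, one_smul],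
    by rw [realMap_id, one_smul]⟩

theorem Common.symm {a b : Pt F} (h : Common a b) : Common b a := by
  obtain ⟨k, φ₁, φ₂, y, c₁, c₂, h1, h2, h3, h4, h5⟩ := h
  exact ⟨k, φ₂, φ₁, y, c₂, c₁, h1.symm, h3, h2, h5, h4⟩

theorem Common.of_rel {a b : Pt F} (h : Rel F a b) : Common a b := by
  obtain ⟨φ, ξ, v, w, c, hc, hw⟩ := h
  exact ⟨_, 𝟙 _, φ, v, 1, c, by simp, one_pos, hc, by rw [realMap_id, one_smul], hw⟩

theorem Common.trans {a b c : Pt F} (hab : Common a b) (hbc : Common b c) : Common a c := by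
  obtain ⟨k, φ₁, φ₂, y, c₁, c₂, h1, h2, h3, h4, h5⟩ := hab
  obtain ⟨l, ψ₂, ψ₃, z, d₂, d₃, g1, g2, g3, g4, g5⟩ := hbc
  have hfib : φ₂.realMap y.1 = (d₂ / c₂) • ψ₂.realMap z.1 := by
    have : c₂ • φ₂.realMap y.1 = d₂ • ψ₂.realMap z.1 := by rw [← h5, ← g4]
    have h6 : φ₂.realMap y.1 = (1 / c₂) • (c₂ • φ₂.realMap y.1) := by
      rw [smul_smul]; field_simp; rw [one_smul]
    rw [h6, this, smul_smul]
    congr 1
    field_simp
  obtain ⟨m, α, β, x, e, he, hcomm, hy, hz⟩ :=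
    exists_fibre φ₂ ψ₂ y z (d₂ / c₂) (div_pos g2 h3) hfib
  refine ⟨m, α ≫ φ₁, β ≫ ψ₃, x, c₁, d₃ * e, ?_, h2, mul_pos g3 he, ?_, ?_⟩
  · calc F.map (α ≫ φ₁).op a.1.2 = F.map α.op (F.map φ₁.op a.1.2) := by
          rw [op_comp, Functor.map_comp_apply]
      _ = F.map α.op (F.map φ₂.op b.1.2) := by rw [h1]
      _ = F.map (α ≫ φ₂).op b.1.2 := by rw [op_comp, Functor.map_comp_apply]
      _ = F.map (β ≫ ψ₂).op b.1.2 := by rw [hcomm]
      _ = F.map β.op (F.map ψ₂.op b.1.2) := by rw [op_comp, Functor.map_comp_apply]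
      _ = F.map β.op (F.map ψ₃.op c.1.2) := by rw [g1]
      _ = F.map (β ≫ ψ₃).op c.1.2 := by rw [op_comp, Functor.map_comp_apply]
  · rw [h4, hy, realMap_comp]
  · rw [g5, hz, realMap_comp, realMap_smul, smul_smul]

theorem common_of_eqvGen {a b : Pt F} (h1 : Relation.EqvGen (Rel F) a b) : Common a b := by
  induction h1 with
  | rel a b hab => exact Common.of_rel hab
  | refl a => exact Common.refl a
  | symm a b _ ih => exact ih.symm
  | trans a b c _ _ ih1 ih2 => exact ih1.trans ih2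

theorem common_of_mk_eq {a b : Pt F} (h : (Quot.mk (Rel F) a : P F) = Quot.mk (Rel F) b) :
    Common a b :=
  common_of_eqvGen (Quot.eqvGen_exact h)

theorem exists_common_subcone {n₁ n₂ : ICone}
    (σ₁ : F.obj (op n₁)) (σ₂ : F.obj (op n₂)) (v₁ : Fan.Orth n₁) (v₂ : Fan.Orth n₂)
    (h : Fan.P.mk σ₁ v₁ = Fan.P.mk σ₂ v₂) :
    ∃ (k : ICone) (φ₁ : k ⟶ n₁) (φ₂ : k ⟶ n₂) (y : Fan.Orth k) (c₁ c₂ : ℝ),
      F.map φ₁.op σ₁ = F.map φ₂.op σ₂ ∧ 0 < c₁ ∧ 0 < c₂ ∧
        v₁.1 = c₁ • φ₁.realMap y.1 ∧ v₂.1 = c₂ • φ₂.realMap y.1 :=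
  common_of_mk_eq (a := ⟨⟨n₁, σ₁⟩, v₁⟩) (b := ⟨⟨n₂, σ₂⟩, v₂⟩) h

end Groth.Agent.Lib.Helper15.FanCone
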