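import Mathlib
import Groth.Prelude.Def_W4c6instabfans3Fan
import Groth.Agent.Lib.Helper15Fan

set_option autoImplicit false

namespace Groth.Agent.Lib.Helper15.FanCone

universe u

open CategoryTheory Opposite Instab Instab.Fan Limits

variable {F : Fan.{u}}

theorem mk_glue {k n : ICone} (φ : k ⟶ n) (ξ : F.obj (op n)) (v : Orth k)
    (w : Orth n) (c : ℝ) (hc : 0 < c) (h : w.1 = c • φ.realMap v.1) :
    P.mk (F.map φ.op ξ) v = P.mk ξ w :=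
  Quot.sound (Rel.glue φ ξ v w c hc h)

theorem mk_eq_of_common {n₁ n₂ k : ICone} (σ₁ : F.obj (op n₁)) (σ₂ : F.obj (op n₂))
    (v₁ : Orth n₁) (v₂ : Orth n₂) (φ₁ : k ⟶ n₁) (φ₂ : k ⟶ n₂) (y : Orth k) (c₁ c₂ : ℝ)
    (h : F.map φ₁.op σ₁ = F.map φ₂.op σ₂) (hc₁ : 0 < c₁) (hc₂ : 0 < c₂)
    (h₁ : v₁.1 = c₁ • φ₁.realMap y.1) (h₂ : v₂.1 = c₂ • φ₂.realMap y.1) :
    P.mk σ₁ v₁ = P.mk σ₂ v₂ := by
  rw [← mk_glue φ₁ σ₁ y v₁ c₁ hc₁ h₁, ← mk_glue φ₂ σ₂ y v₂ c₂ hc₂ h₂, h]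

theorem mk_surjective (x : P F) :
    ∃ (n : ICone) (ξ : F.obj (op n)) (v : Orth n), x = P.mk ξ v := by
  induction x using Quot.ind with
  | mk a =>
    obtain ⟨⟨n, ξ⟩, v⟩ := a
    exact ⟨n, ξ, v, rfl⟩

theorem map_mk {G : Fan.{u}} (f : F ⟶ G) {n : ICone} (ξ : F.obj (op n)) (v : Orth n) :
    P.map f (P.mk ξ v) = P.mk (f.app _ ξ) v := rfl

theorem map_comp_apply {G H : Fan.{u}} (f : F ⟶ G) (g : G ⟶ H) (x : P F) :
    P.map (f ≫ g) x = P.map g (P.map f x) := by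
  obtain ⟨n, ξ, v, rfl⟩ := mk_surjective x
  rfl

/-- elements of a fibre product of fans. -/
theorem exists_pullback_elt {F' G : Fan.{u}} (f : F ⟶ G) (g : F' ⟶ G) {k : ICone}
    (a : F.obj (op k)) (b : F'.obj (op k)) (h : f.app _ a = g.app _ b) :
    ∃ ζ : (pullback f g).obj (op k),
      (pullback.fst f g).app _ ζ = a ∧ (pullback.snd f g).app _ ζ = b := by
  let l : uliftYoneda.{u}.obj k ⟶ pullback f g :=
    pullback.lift (uliftYonedaEquiv.{u}.symm a) (uliftYonedaEquiv.{u}.symm b)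
      (by rw [uliftYonedaEquiv_symm_comp, uliftYonedaEquiv_symm_comp, h])
  refine ⟨uliftYonedaEquiv.{u} l, ?_, ?_⟩
  · rw [← uliftYonedaEquiv_comp]
    have : l ≫ pullback.fst f g = uliftYonedaEquiv.{u}.symm a := pullback.lift_fst _ _ _
    rw [this, Equiv.apply_symm_apply]
  · rw [← uliftYonedaEquiv_comp]
    have : l ≫ pullback.snd f g = uliftYonedaEquiv.{u}.symm b := pullback.lift_snd _ _ _
    rw [this, Equiv.apply_symm_apply]

theorem mem_range_map_ι (S : Subfunctor F) (x : P F) :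
    x ∈ Set.range (P.map S.ι) ↔
      ∃ (n : ICone) (ξ : F.obj (op n)) (v : Orth n), ξ ∈ S.obj (op n) ∧ x = P.mk ξ v := by
  constructor
  · rintro ⟨z, rfl⟩
    obtain ⟨n, ξ, v, rfl⟩ := mk_surjective z
    exact ⟨n, ξ.1, v, ξ.2, rfl⟩
  · rintro ⟨n, ξ, v, hξ, rfl⟩
    exact ⟨P.mk (F := S.toFunctor) ⟨ξ, hξ⟩ v, rfl⟩

end Groth.Agent.Lib.Helper15.FanCone
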