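import Mathlib
import Groth.Prelude.Def_W4c6instabfans3Fan
import Groth.Agent.Lib.Helper15FanP

set_option autoImplicit false

namespace Groth.Agent.Lib.Helper15.FanCone

universe u

open CategoryTheory Opposite Instab Instab.Fan Limits

variable {F : Fan.{u}}

open Groth.Agent.Lib.Helper15.FanLin in
/-- integer solution with a prescribed positive coordinate. -/
theorem exists_int_solution {ι κ : Type*} [Fintype ι] (A : κ → ι → ℤ) (u : ι → ℝ)
    (hu : ∀ j, ∑ i, (A j i : ℝ) * u i = 0) :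
    ∃ z : ι → ℤ, (∀ j, ∑ i, A j i * z i = 0) ∧ (∀ i, 0 < u i → 0 < z i) := by
  classical
  obtain ⟨q, hq1, -, hq3⟩ := exists_rat_solution A u hu
  let D : ℕ := ∏ i, (q i).den
  have hD : 0 < D := Finset.prod_pos (fun i _ => (q i).den_pos)
  let z : ι → ℤ := fun i => (q i).num * ∏ i' ∈ Finset.univ.erase i, ((q i').den : ℤ)
  have hz : ∀ i, (z i : ℚ) = q i * (D : ℚ) := by
    intro i
    have h1 : (D : ℚ) = ((q i).den : ℚ) * ∏ i' ∈ Finset.univ.erase i, ((q i').den : ℚ) := by
      simp only [D]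
      push_cast
      rw [Finset.mul_prod_erase Finset.univ (fun i' => ((q i').den : ℚ)) (Finset.mem_univ i)]
    rw [h1, ← mul_assoc, Rat.mul_den_eq_num]
    simp only [z]
    push_cast
    rfl
  refine ⟨z, ?_, ?_⟩
  · intro j
    have h2 : ((∑ i, A j i * z i : ℤ) : ℚ) = 0 := by
      push_cast
      simp_rw [hz, ← mul_assoc]
      rw [← Finset.sum_mul, hq1 j, zero_mul]
    exact_mod_cast h2
  · intro i hi
    have : (0 : ℚ) < (z i : ℚ) := by
      rw [hz]; exact mul_pos (hq3 i hi) (by exact_mod_cast hD)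
    exact_mod_cast this

theorem realMap_sub {k n : ICone} (φ : k ⟶ n) (a b : Fin k.dim → ℝ) :
    φ.realMap (a - b) = φ.realMap a - φ.realMap b := by
  funext j
  simp only [ICone.Hom.realMap, Pi.sub_apply, mul_sub, Finset.sum_sub_distrib]

theorem realMap_neg {k n : ICone} (φ : k ⟶ n) (a : Fin k.dim → ℝ) :
    φ.realMap (-a) = - φ.realMap a := by
  funext j
  simp only [ICone.Hom.realMap, Pi.neg_apply, mul_neg, Finset.sum_neg_distrib]

theorem realMap_eq_zero {k n : ICone} (φ : k ⟶ n) (u : Fin k.dim → ℝ)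
    (h : φ.realMap u = 0) : u = 0 := by
  by_contra hne
  obtain ⟨i₀, hi₀⟩ : ∃ i, u i ≠ 0 := by
    by_contra hall
    push Not at hall
    exact hne (funext hall)
  -- wlog positive coordinate
  have key : ∀ u' : Fin k.dim → ℝ, φ.realMap u' = 0 → 0 < u' i₀ → False := by
    intro u' h' hpos
    obtain ⟨z, hz1, hz2⟩ := exists_int_solution
      (fun (j : Fin n.dim) (i : Fin k.dim) => φ.toLin (Pi.single i 1) j) u'
      (fun j => by simpa [ICone.Hom.realMap] using congr_fun h' j)
    have hz0 : φ.toLin z = 0 := by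
      funext j
      rw [toLin_apply_eq_sum]
      exact hz1 j
    have : z = 0 := φ.injective (by rw [hz0, map_zero])
    have h2 := hz2 i₀ hpos
    rw [this] at h2
    simp at h2
  rcases lt_or_gt_of_ne hi₀ with hlt | hgt
  · apply key (-u)
    · rw [realMap_neg, h, neg_zero]
    · simpa using hlt
  · exact key u h hgt

theorem realMap_injective {k n : ICone} (φ : k ⟶ n) : Function.Injective φ.realMap := by
  intro a b hab
  have : φ.realMap (a - b) = 0 := by rw [realMap_sub, hab, sub_self]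
  exact sub_eq_zero.mp (realMap_eq_zero φ _ this)

theorem realMap_nonneg {k n : ICone} (φ : k ⟶ n) (y : Fin k.dim → ℝ) (hy : ∀ i, 0 ≤ y i)
    (j : Fin n.dim) : 0 ≤ φ.realMap y j := by
  classical
  apply Finset.sum_nonneg
  intro i _
  apply mul_nonneg _ (hy i)
  have := φ.nonneg (Pi.single i 1) (fun i' => by
    rw [Pi.single_apply]; split_ifs <;> simp) j
  exact_mod_cast this

/-- push a point of an orthant forward along a cone morphism. -/
noncomputable def pushOrth {k n : ICone} (φ : k ⟶ n) (y : Orth k) : Orth n :=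
  ⟨φ.realMap y.1, realMap_nonneg φ y.1 y.2.1, fun h => y.2.2 (realMap_eq_zero φ _ h)⟩

@[simp] theorem pushOrth_val {k n : ICone} (φ : k ⟶ n) (y : Orth k) :
    (pushOrth φ y).1 = φ.realMap y.1 := rfl

theorem yo_map {n m k : ICone} (φ : k ⟶ m) (f : m ⟶ n) :
    (uliftYoneda.{u}.obj n).map φ.op (ULift.up f) = ULift.up (φ ≫ f) := rfl

theorem coneMap_app {n m : ICone} (σ : F.obj (op n)) (f : (uliftYoneda.{u}.obj n).obj (op m)) :
    (coneMap σ).app (op m) f = F.map f.down.op σ := rfl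

theorem mk_smul {n : ICone} (ξ : F.obj (op n)) (v w : Orth n) (c : ℝ) (hc : 0 < c)
    (h : w.1 = c • v.1) : P.mk ξ v = P.mk ξ w := by
  have e : F.map (𝟙 n : n ⟶ n).op ξ = ξ := by simp
  have := mk_glue (F := F) (𝟙 n) ξ v w c hc (by rw [realMap_id]; exact h)
  rwa [e] at this

/-- in a representable fan every point is a point of the tautological simplex -/
theorem mk_yo {n m : ICone} (φ : m ⟶ n) (y : Orth m) (w : Orth n) (c : ℝ) (hc : 0 < c)
    (hw : w.1 = c • φ.realMap y.1) :
    P.mk (F := uliftYoneda.{u}.obj n) (ULift.up φ) y = P.mk (F := uliftYoneda.{u}.obj n)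
      (ULift.up (𝟙 n)) w := by
  have := mk_glue (F := uliftYoneda.{u}.obj n) φ (ULift.up (𝟙 n)) y w c hc hw
  rw [yo_map, Category.comp_id] at this
  exact this

theorem mk_yo_eq_iff {n m m' : ICone} (φ : m ⟶ n) (φ' : m' ⟶ n) (y : Orth m) (y' : Orth m') :
    P.mk (F := uliftYoneda.{u}.obj n) (ULift.up φ) y =
      P.mk (F := uliftYoneda.{u}.obj n) (ULift.up φ') y' ↔
      ∃ c : ℝ, 0 < c ∧ φ'.realMap y'.1 = c • φ.realMap y.1 := by
  constructor
  · intro h
    obtain ⟨k, α₁, α₂, t, c₁, c₂, hh, hc₁, hc₂, h₁, h₂⟩ := exists_common_subcone _ _ _ _ h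
    rw [yo_map, yo_map] at hh
    have hcomp : α₁ ≫ φ = α₂ ≫ φ' := congrArg ULift.down hh
    refine ⟨c₂ / c₁, div_pos hc₂ hc₁, ?_⟩
    rw [h₁, h₂, realMap_smul, realMap_smul, ← realMap_comp, ← realMap_comp, hcomp, smul_smul]
    congr 1
    field_simp
  · rintro ⟨c, hc, h⟩
    rw [mk_yo φ y (pushOrth φ y) 1 one_pos (by simp), mk_yo φ' y' (pushOrth φ' y') 1 one_pos (by simp)]
    exact mk_smul _ _ _ c hc h

theorem map_coneMap_mk {n m : ICone} (σ : F.obj (op n)) (φ : m ⟶ n) (y : Orth m) :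
    P.map (coneMap σ) (P.mk (F := uliftYoneda.{u}.obj n) (ULift.up φ) y) = P.mk (F.map φ.op σ) y :=
  rfl

end Groth.Agent.Lib.Helper15.FanCone
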