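import Mathlib
import Groth.Prelude.Def_W4c6instabfans3Fan
import Groth.Agent.Lib.Helper15FanY

set_option autoImplicit false

namespace Groth.Agent.Lib.Helper15.FanCone

universe u

open CategoryTheory Opposite Instab Instab.Fan Limits Filter Topology

variable {F : Fan.{u}}

/-! ### points of fibre products -/

theorem exists_pullback_point {F' G : Fan.{u}} (f : F ⟶ G) (g : F' ⟶ G)
    (x : Fan.P F) (x' : Fan.P F') (h : Fan.P.map f x = Fan.P.map g x') :
    ∃ y : Fan.P (Limits.pullback f g),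
      Fan.P.map (Limits.pullback.fst f g) y = x ∧ Fan.P.map (Limits.pullback.snd f g) y = x' := by
  obtain ⟨n, ξ, v, rfl⟩ := mk_surjective x
  obtain ⟨n', ξ', v', rfl⟩ := mk_surjective x'
  rw [map_mk, map_mk] at h
  obtain ⟨k, φ₁, φ₂, y, c₁, c₂, hh, hc₁, hc₂, h₁, h₂⟩ := exists_common_subcone _ _ _ _ h
  have e1 : G.map φ₁.op (f.app _ ξ) = f.app _ (F.map φ₁.op ξ) :=
    (NatTrans.naturality_apply f φ₁.op ξ).symm
  have e2 : G.map φ₂.op (g.app _ ξ') = g.app _ (F'.map φ₂.op ξ') :=
    (NatTrans.naturality_apply g φ₂.op ξ').symm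
  rw [e1, e2] at hh
  obtain ⟨ζ, hζ1, hζ2⟩ := exists_pullback_elt f g _ _ hh
  refine ⟨P.mk ζ y, ?_, ?_⟩
  · rw [map_mk, hζ1]
    exact mk_glue φ₁ ξ y v c₁ hc₁ h₁
  · rw [map_mk, hζ2]
    exact mk_glue φ₂ ξ' y v' c₂ hc₂ h₂

/-- the two components of a cone of the base change of `ψ` along a cone of the target. -/
theorem pullback_cond {G : Fan.{u}} (ψ : F ⟶ G) {n m : ICone} (ξ : G.obj (op n))
    (ζ : (pullback ψ (coneMap ξ)).obj (op m)) :
    ψ.app _ ((pullback.fst ψ (coneMap ξ)).app _ ζ) =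
      G.map ((pullback.snd ψ (coneMap ξ)).app _ ζ).down.op ξ := by
  have h1 := congrArg (fun t => t.app (op m) ζ) (pullback.condition (f := ψ) (g := coneMap ξ))
  exact h1

/-- lifting points of the fibre of `P F → P G` over a point of a rational simplex to the cells
covering the base change. -/
theorem exists_lift_of_cover {G : Fan.{u}} (ψ : F ⟶ G) {n : ICone} (ξ : G.obj (op n))
    (s : Finset (Σ m : ICone, (pullback ψ (coneMap ξ)).obj (op m)))
    (hs : ∀ z : P (pullback ψ (coneMap ξ)), ∃ e ∈ s, z ∈ P.cell e.2)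
    (x : P F) (v : Orth n) (h : P.map ψ x = P.mk ξ v) :
    ∃ e ∈ s, ∃ (y : Orth e.1) (c : ℝ), 0 < c ∧
      v.1 = c • ((pullback.snd ψ (coneMap ξ)).app _ e.2).down.realMap y.1 ∧
      x = P.mk ((pullback.fst ψ (coneMap ξ)).app _ e.2) y := by
  let x' : P (uliftYoneda.{u}.obj n) := P.mk (ULift.up (𝟙 n)) v
  have hxx : P.map ψ x = P.map (coneMap ξ) x' := by
    rw [h]
    show P.mk ξ v = P.mk (G.map (𝟙 n).op ξ) v
    simp
  obtain ⟨z, hz1, hz2⟩ := exists_pullback_point ψ (coneMap ξ) x x' hxx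
  obtain ⟨e, he, y, rfl⟩ := hs z
  refine ⟨e, he, y, ?_⟩
  rw [map_mk] at hz1 hz2
  obtain ⟨c, hc, h1⟩ := (mk_yo_eq_iff ((pullback.snd ψ (coneMap ξ)).app _ e.2).down (𝟙 n) y v).mp hz2
  rw [realMap_id] at h1
  exact ⟨c, hc, h1, hz1.symm⟩

/-- conversely the cells of the base change map into the fibre. -/
theorem map_mk_fst_eq {G : Fan.{u}} (ψ : F ⟶ G) {n m : ICone} (ξ : G.obj (op n))
    (ζ : (pullback ψ (coneMap ξ)).obj (op m)) (y : Orth m) (v : Orth n) (c : ℝ) (hc : 0 < c)
    (hv : v.1 = c • ((pullback.snd ψ (coneMap ξ)).app _ ζ).down.realMap y.1) :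
    P.map ψ (P.mk ((pullback.fst ψ (coneMap ξ)).app _ ζ) y) = P.mk ξ v := by
  rw [map_mk, pullback_cond]
  exact mk_glue _ ξ y v c hc hv

/-! ### topology -/

theorem continuous_mk {n : ICone} (ξ : F.obj (op n)) : Continuous (P.mk ξ : Orth n → P F) := by
  have h1 : Continuous (fun v : Orth n => (⟨⟨n, ξ⟩, v⟩ : Pt F)) :=
    continuous_sigmaMk (σ := fun e : (Σ n : ICone, F.obj (op n)) => Orth e.1) (i := ⟨n, ξ⟩)
  exact continuous_quot_mk.comp h1

/-- the quotient map from the disjoint union of orthants. -/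
def toP : Pt F → P F := Quot.mk (Rel F)

theorem isQuotientMap_toP : Topology.IsQuotientMap (toP (F := F)) := isQuotientMap_quot_mk

theorem isClosed_iff (C : Set (P F)) :
    IsClosed C ↔ ∀ (n : ICone) (ξ : F.obj (op n)), IsClosed {v : Orth n | P.mk ξ v ∈ C} := by
  refine (isQuotientMap_toP.isClosed_preimage (s := C)).symm.trans (isClosed_sigma_iff.trans ?_)
  constructor
  · intro h n ξ
    exact h ⟨n, ξ⟩
  · rintro h ⟨n, ξ⟩
    exact h n ξ

theorem continuous_map {G : Fan.{u}} (ψ : F ⟶ G) : Continuous (P.map ψ) := by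
  refine (isQuotientMap_toP.continuous_iff (g := P.map ψ)).mpr ?_
  apply continuous_sigma
  rintro ⟨n, ξ⟩
  exact continuous_mk (ψ.app _ ξ)

theorem inducing_val (n : ICone) : Topology.IsInducing (fun w : Orth n => w.1) :=
  Topology.IsInducing.subtypeVal

theorem embedding_val (n : ICone) : Topology.IsEmbedding (fun w : Orth n => w.1) :=
  Topology.IsEmbedding.subtypeVal

theorem realMap_add {k n : ICone} (φ : k ⟶ n) (a b : Fin k.dim → ℝ) :
    φ.realMap (a + b) = φ.realMap a + φ.realMap b := by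
  funext j
  simp only [ICone.Hom.realMap, Pi.add_apply, mul_add, Finset.sum_add_distrib]

/-- `realMap` as a linear map. -/
noncomputable def realMapLin {k n : ICone} (φ : k ⟶ n) : (Fin k.dim → ℝ) →ₗ[ℝ] (Fin n.dim → ℝ) where
  toFun := φ.realMap
  map_add' := realMap_add φ
  map_smul' c v := by rw [realMap_smul]; rfl

theorem isClosedEmbedding_realMap {k n : ICone} (φ : k ⟶ n) :
    Topology.IsClosedEmbedding φ.realMap := by
  have : LinearMap.ker (realMapLin φ) = ⊥ :=
    LinearMap.ker_eq_bot.mpr (realMap_injective φ)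
  exact LinearMap.isClosedEmbedding_of_injective this

theorem isClosedEmbedding_pushOrth {k n : ICone} (φ : k ⟶ n) :
    Topology.IsClosedEmbedding (pushOrth φ) := by
  have hemb : Topology.IsEmbedding (pushOrth φ) := by
    rw [← (embedding_val n).of_comp_iff]
    exact (isClosedEmbedding_realMap φ).isEmbedding.comp (embedding_val k)
  refine ⟨hemb, ?_⟩
  have hcl : IsClosed (φ.realMap '' {y : Fin k.dim → ℝ | ∀ i, 0 ≤ y i}) := by
    apply (isClosedEmbedding_realMap φ).isClosedMap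
    have : {y : Fin k.dim → ℝ | ∀ i, 0 ≤ y i} = ⋂ i, {y | 0 ≤ y i} := by
      ext y; simp
    rw [this]
    exact isClosed_iInter (fun i => isClosed_le continuous_const (continuous_apply i))
  have : Set.range (pushOrth φ) =
      (fun w : Orth n => w.1) ⁻¹' (φ.realMap '' {y : Fin k.dim → ℝ | ∀ i, 0 ≤ y i}) := by
    ext w
    constructor
    · rintro ⟨y, rfl⟩
      exact ⟨y.1, y.2.1, rfl⟩
    · rintro ⟨y, hy, hyw⟩
      have hyw' : φ.realMap y = w.1 := hyw
      have hy0 : y ≠ 0 := by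
        rintro rfl
        apply w.2.2
        rw [← hyw']
        funext j
        simp [ICone.Hom.realMap]
      exact ⟨⟨y, hy, hy0⟩, Subtype.ext hyw'⟩
  rw [this]
  exact hcl.preimage (inducing_val n).continuous

/-- image of a closed scaling-saturated set under a cone morphism, with scalings. -/
theorem isClosed_cone_image {k n : ICone} (φ : k ⟶ n) (W : Set (Orth k)) (hW : IsClosed W)
    (hsat : ∀ y w : Orth k, y ∈ W → ∀ c : ℝ, 0 < c → w.1 = c • y.1 → w ∈ W) :
    IsClosed {v : Orth n | ∃ (y : Orth k) (c : ℝ), 0 < c ∧ v.1 = c • φ.realMap y.1 ∧ y ∈ W} := by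
  have : {v : Orth n | ∃ (y : Orth k) (c : ℝ), 0 < c ∧ v.1 = c • φ.realMap y.1 ∧ y ∈ W}
      = pushOrth φ '' W := by
    ext v
    constructor
    · rintro ⟨y, c, hc, hv, hy⟩
      let w : Orth k := ⟨c • y.1, fun i => mul_nonneg hc.le (y.2.1 i), fun h0 => by
        apply y.2.2
        funext i
        have := congr_fun h0 i
        simp only [Pi.smul_apply, smul_eq_mul, Pi.zero_apply] at this
        rcases mul_eq_zero.mp this with h | h
        · exact absurd h hc.ne'
        · exact h⟩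
      refine ⟨w, hsat y w hy c hc rfl, ?_⟩
      apply Subtype.ext
      rw [pushOrth_val, hv]
      show φ.realMap (c • y.1) = _
      rw [realMap_smul]
    · rintro ⟨y, hy, rfl⟩
      exact ⟨y, 1, one_pos, by rw [one_smul]; rfl, hy⟩
  rw [this]
  exact (isClosedEmbedding_pushOrth φ).isClosedMap W hW

end Groth.Agent.Lib.Helper15.FanCone
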