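-- helper15: functors from spectra of fields to algebraic stacks: flatness to a field, surjective+flat transfers between field points.
import Mathlib
import Groth.Agent.Lib.Helper15QcDescent
import Groth.Agent.Lib.Helper15LOBase

set_option autoImplicit false
set_option backward.isDefEq.respectTransparency false
set_option backward.isDefEq.respectTransparency.types false
open CategoryTheory CategoryTheory.Functor CategoryTheory.Limits Opposite AlgebraicGeometry

universe u

namespace Groth.Agent.Lib.Helper15FieldPt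

open Groth.Agent.Lib.Helper17 Groth.Agent.Lib.Helper15PshFib Groth.Agent.Lib.Helper15RepComp
  Groth.Agent.Lib.Helper15RepPsh Groth.Agent.Lib.Helper15DiagBase Groth.Agent.Lib.Helper15DiagRepSp
  Groth.Agent.Lib.Helper15Descent Groth.Agent.Lib.Helper15DiagLft
  Groth.Agent.Lib.Helper15DiagDescent Groth.Agent.Lib.Helper15SpMapRep
  Groth.Agent.Lib.Helper15SrcCancel Groth.Agent.Lib.Helper15ChartSp Groth.Agent.Lib.Helper15Atlas
  Groth.Agent.Lib.Helper15LocEss Groth.Agent.Lib.Helper15UnivComp Groth.Agent.Lib.Helper15SmLoc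
  Groth.Agent.Lib.Helper15PtsComp Groth.Agent.Lib.Helper15PtsTop Groth.Agent.Lib.Helper15PtsQc
  Groth.Agent.Lib.Helper15FpSwap Groth.Agent.Lib.Helper15QcLocal Groth.Agent.Lib.Helper15ClosedQc
  Groth.Agent.Lib.Helper15UnivPts Groth.Agent.Lib.Helper15BaseChange
  Groth.Agent.Lib.Helper15BaseChange2
  Groth.Agent.Lib.Helper15MonoSep Groth.Agent.Lib.Helper15LocQ Groth.Agent.Lib.Helper15LocQEngine
  Groth.Agent.Lib.Helper15LocQProps Groth.Agent.Lib.Helper15LocQSpace
  Groth.Agent.Lib.Helper15LocQSpace2 Groth.Agent.Lib.Helper15LocQRep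
  Groth.Agent.Lib.Helper15LocQComp Groth.Agent.Lib.Helper15GoodComp
  Groth.Agent.Lib.Helper15LocQCancel Groth.Agent.Lib.Helper15LocQBC
  Groth.Agent.Lib.Helper15LocQDiag Groth.Agent.Lib.Helper15LocQDescent
  Groth.Agent.Lib.Helper15RepDescent Groth.Agent.Lib.Helper15LOBase

variable {S : Scheme.{u}} {𝒳 𝒵 : AlgSt.Cat S}

theorem repByAlgSpWith_id_smooth (K : Over S) :
    AlgSt.RepByAlgSpWith (AlgSp.LocP @Smooth) (BasedFunctor.id (FibCat.overCat K)) :=
  Groth.Agent.Lib.Helper15EquivRep.repByAlgSpWith_of_isEquivOver _ locP_smooth_id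
    (BasedFunctor.id _) (isEquivOver_id _)

theorem repByAlgSpWith_id_surj (K : Over S) :
    AlgSt.RepByAlgSpWith AlgSp.IsSurjectiveMor (BasedFunctor.id (FibCat.overCat K)) :=
  Groth.Agent.Lib.Helper15EquivRep.repByAlgSpWith_of_isEquivOver _ isSurjectiveMor_id
    (BasedFunctor.id _) (isEquivOver_id _)

/-- Every functor from an algebraic stack to the slice over the spectrum of a field is flat. -/
theorem locQ_flat_to_field (h𝒳 : AlgSt.IsAlgStack Scheme.fppfPrecoverage 𝒳)
    (k : Type u) [Field k] (a : Spec (CommRingCat.of k) ⟶ S)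
    (f : 𝒳 ⥤ᵇ FibCat.overCat (Over.mk a)) : AlgSt.LocQ (AlgSp.LocP @Flat) f := by
  obtain ⟨U, x, h, α, hα₁, hα₂, hx₁, hx₂⟩ :=
    exists_good_square_over h𝒳 (isAlgStack_overCat (Over.mk a)) f (BasedFunctor.id _)
  refine ⟨U, Over.mk a, x, BasedFunctor.id _, h, α, hx₁ (repByAlgSpWith_id_smooth _),
    hx₂ (repByAlgSpWith_id_surj _), repByAlgSpWith_id_smooth _, locP_yon_map_of_flat h ?_⟩
  have key : ∀ {X : Scheme.{u}} (g : X ⟶ Spec (CommRingCat.of k)), Flat g := fun g => inferInstance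
  exact key h.left

theorem subsingleton_points_field (k : Type u) [Field k] (a : Spec (CommRingCat.of k) ⟶ S) :
    Subsingleton (AlgSt.Points (FibCat.overCat (Over.mk a))) := by
  refine ⟨fun p q => ?_⟩
  obtain ⟨t, rfl⟩ := (ptOver_bijective (Over.mk a)).2 p
  obtain ⟨t', rfl⟩ := (ptOver_bijective (Over.mk a)).2 q
  congr 1
  exact Subsingleton.elim (α := ↥(Spec (CommRingCat.of k))) t t'

theorem nonempty_points_field (k : Type u) [Field k] (a : Spec (CommRingCat.of k) ⟶ S) :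
    Nonempty (AlgSt.Points (FibCat.overCat (Over.mk a))) :=
  ⟨ptOver (Over.mk a) (show ↥(Spec (CommRingCat.of k)) from (⊥ : PrimeSpectrum k))⟩

/-- If an algebraic stack receives a surjective flat functor from the spectrum of a field, every functor from the
spectrum of a field to it is surjective and flat. -/
theorem surjective_flat_fieldPt (h𝒵 : AlgSt.IsAlgStack Scheme.fppfPrecoverage 𝒵)
    (k : Type u) [Field k] (a : Spec (CommRingCat.of k) ⟶ S)
    (z : FibCat.overCat (Over.mk a) ⥤ᵇ 𝒵)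
    (hzs : AlgSt.RepByAlgSpWith AlgSp.IsSurjectiveMor z)
    (hzf : AlgSt.RepByAlgSpWith (AlgSp.LocP @Flat) z)
    (k' : Type u) [Field k'] (a' : Spec (CommRingCat.of k') ⟶ S)
    (z' : FibCat.overCat (Over.mk a') ⥤ᵇ 𝒵) :
    AlgSt.RepByAlgSpWith AlgSp.IsSurjectiveMor z' ∧ AlgSt.RepByAlgSpWith (AlgSp.LocP @Flat) z' := by
  have hK := isAlgStack_overCat (S := S) (Over.mk a)
  have hK' := isAlgStack_overCat (S := S) (Over.mk a')
  have hpre𝒵 := IsStack.isPrestack _ h𝒵.isStack
  have hW : AlgSt.IsAlgStack Scheme.fppfPrecoverage (FibCat.fp z' z) :=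
    isAlgStack_fp_of_isPrestack hpre𝒵 h𝒵.diag hK' hK z' z
  have hrep : AlgSt.RepByAlgSp1 z := repByAlgSp1_of_repByAlgSpWith _ _ hzf
  have hrep' : AlgSt.RepByAlgSp1 z' := repByAlgSp1_of_repByAlgSp1_diag h𝒵.diag _ z'
  -- the first projection is flat and surjective
  have h1f : AlgSt.RepByAlgSpWith (AlgSp.LocP @Flat) (FibCat.fpFst z' z) :=
    repByAlgSpWith_fpFst _ z z' hzf
  have h1s : AlgSt.RepByAlgSpWith AlgSp.IsSurjectiveMor (FibCat.fpFst z' z) :=
    repByAlgSpWith_fpFst _ z z' hzs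
  have h1f' : AlgSt.LocQ (AlgSp.LocP @Flat) (FibCat.fpFst z' z) :=
    locQ_of_repByAlgSpWith _ isSmoothLocalST_flat hW hK' _ h1f
  have h1s' : AlgSt.IsSurjective (FibCat.fpFst z' z) :=
    (isSurjective_iff_repByAlgSpWith hW hK' _ (repByAlgSp1_of_repByAlgSpWith _ _ h1s)).2 h1s
  -- the second projection is flat and surjective
  have h2f : AlgSt.LocQ (AlgSp.LocP @Flat) (FibCat.fpSnd z' z) := locQ_flat_to_field hW k a _
  have h2s : AlgSt.IsSurjective (FibCat.fpSnd z' z) := by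
    intro η
    obtain ⟨p'⟩ := nonempty_points_field (S := S) k' a'
    obtain ⟨w, -⟩ := h1s' p'
    exact ⟨w, (subsingleton_points_field k a).elim _ _⟩
  have hzf' : AlgSt.LocQ (AlgSp.LocP @Flat) z :=
    locQ_of_repByAlgSpWith _ isSmoothLocalST_flat hK h𝒵 z hzf
  have hzs' : AlgSt.IsSurjective z := (isSurjective_iff_repByAlgSpWith hK h𝒵 z hrep).2 hzs
  -- the composite through `z`
  have hc1 : AlgSt.LocQ (AlgSp.LocP @Flat) (BasedFunctor.comp (FibCat.fpSnd z' z) z) :=
    locQ_comp _ isSmoothLocalST_flat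
      (fun _ _ _ _ hY hZ a b ha hb => locP_flat_comp hY hZ a b ha hb) hW hK h𝒵 _ z h2f hzf'
  have hc2 : AlgSt.IsSurjective (BasedFunctor.comp (FibCat.fpSnd z' z) z) :=
    isSurjective_comp _ z h2s hzs'
  have hc1' : AlgSt.LocQ (AlgSp.LocP @Flat) (BasedFunctor.comp (FibCat.fpFst z' z) z') :=
    locQ_of_iso _ (FibCat.fpIso z' z).symm hc1
  have hflat : AlgSt.LocQ (AlgSp.LocP @Flat) z' :=
    locQ_flat_of_comp hW hK' h𝒵 (FibCat.fpFst z' z) z' h1f' h1s' hc1'
  have hsurj : AlgSt.IsSurjective z' := by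
    intro η
    obtain ⟨w, hw⟩ := hc2 η
    refine ⟨AlgSt.Points.map (FibCat.fpFst z' z) w, ?_⟩
    rw [← points_map_comp, points_map_congr_based _ _ (FibCat.fpIso z' z) w]
    exact hw
  exact ⟨(isSurjective_iff_repByAlgSpWith hK' h𝒵 z' hrep').1 hsurj,
    (locQ_iff_repByAlgSpWith _ isSmoothLocalST_flat bcStable_flat
      (isLocalOnBase_fppf_of_fpqc _ (Groth.Agent.S10530.result S)) hK' h𝒵 z' hrep').1 hflat⟩

end Groth.Agent.Lib.Helper15FieldPt
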