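-- helper15: descent of schemes along finite locally free surjective morphisms when orbits lie in affine opens; single-morphism ind-quasi-affine descent
import Mathlib
import Groth.Prelude.Def_Desc
import Groth.Prelude.Def_MoreMor
import Groth.Agent.Lib.Helper15DDGrpd
import Groth.Agent.Lib.Helper15DescReduce
import Groth.Agent.Lib.Helper15IndQADesc
import Groth.Agent.Lib.Helper15DescUInj
import Groth.Agent.Lib.Helper15DescGlueC
import Groth.Agent.Lib.Helper2IndQA
import Groth.Agent.S1400
import Groth.Agent.S1881

set_option autoImplicit false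
set_option linter.unusedSectionVars false
open CategoryTheory CategoryTheory.Limits AlgebraicGeometry

universe u

namespace Groth.Agent.Lib.Helper15FinDesc

open Desc Groth.Agent.Lib.Helper15AffDescCore Groth.Agent.Lib.Helper15DescGlueA
  Groth.Agent.Lib.Helper15DescStable Groth.Agent.Lib.Helper15DescUInj
  Groth.Agent.Lib.Helper15DDGrpd

variable {X S : Scheme.{u}}

/-- descent data with ind-quasi-affine structure morphism along a flat surjective quasi-compact
morphism are effective. -/
theorem effective_indQA (p : X ⟶ S) [Surjective p] [Flat p] [QuasiCompact p]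
    (D : Desc.SchDD p) (hD : MoreMor.IsIndQuasiAffineHom D.obj.hom) :
    ∃ U : Over S, Nonempty ((Desc.toDD p).obj U ≅ D) := by
  have hP : MorphismProperty.IsStableUnderBaseChange
      (fun _ _ f => MoreMor.IsIndQuasiAffineHom f : MorphismProperty Scheme.{u}) :=
    ⟨fun {_ _ _ _ f g f' g'} sq hg => Groth.Agent.S1400.result g g' f' f sq hg⟩
  exact Groth.Agent.Lib.Helper15DescReduce.effective_of_affine_case
    (fun _ _ f => MoreMor.IsIndQuasiAffineHom f)
    (fun X S p _ _ _ _ D hD => Groth.Agent.Lib.Helper15IndQADesc.effective_affine D hD) p D hD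

/-- a morphism from an affine scheme is ind-quasi-affine. -/
lemma isIndQuasiAffineHom_of_isAffine {W X : Scheme.{u}} [IsAffine W] (f : W ⟶ X) :
    MoreMor.IsIndQuasiAffineHom f := by
  rw [Groth.Agent.Lib.Helper2.isIndQuasiAffineHom_iff]
  intro A hA U hUA hU
  have : CompactSpace (U : Scheme.{u}) := isCompact_iff_compactSpace.mp hU
  exact Scheme.IsQuasiAffine.of_isImmersion U.ι

/-- a descent datum whose scheme is covered by invariant affine opens is effective. -/
theorem effective_of_invariant_affine (p : X ⟶ S) [Surjective p] [Flat p] [QuasiCompact p]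
    (D : Desc.SchDD p)
    (h : ∀ v : D.obj.left, ∃ W : D.obj.left.Opens, IsAffineOpen W ∧ v ∈ W ∧
      w₁ D ⁻¹ᵁ W = ψ D ⁻¹ᵁ W) :
    ∃ U : Over S, Nonempty ((Desc.toDD p).obj U ≅ D) := by
  have hchart : ∀ v : D.obj.left, ∃ (U : Over S) (c : (Desc.toDD p).obj U ⟶ D),
      IsOpenImmersion c.hom.left ∧ v ∈ Set.range c.hom.left.base := by
    intro v
    obtain ⟨W, hWaff, hvW, hinv⟩ := h v
    have hst : Stable D W := stable_of_invariant D W hinv
    have : IsAffine (W : Scheme.{u}) := hWaff
    have hqa : MoreMor.IsIndQuasiAffineHom (restrictDD D W hst).obj.hom := by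
      change MoreMor.IsIndQuasiAffineHom (W.ι ≫ D.obj.hom)
      exact isIndQuasiAffineHom_of_isAffine _
    obtain ⟨U, ⟨e⟩⟩ := effective_indQA p (restrictDD D W hst) hqa
    have hι : IsOpenImmersion (restrictι D W hst).hom.left := by
      change IsOpenImmersion W.ι
      infer_instance
    obtain ⟨h5, h6⟩ := chart_of_iso U e (restrictι D W hst)
    refine ⟨U, e.hom ≫ restrictι D W hst, h5, ?_⟩
    rw [h6]
    change v ∈ Set.range W.ι.base
    rw [Scheme.Opens.range_ι]
    exact hvW
  choose Uo c hc hcv using hchart
  exact Groth.Agent.Lib.Helper15DescGlueC.exists_effective c (fun v => ⟨v, hcv v⟩)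

section Finite

variable {p : X ⟶ S} (D : Desc.SchDD p)

instance isFinite_w₁ [IsFinite p] : IsFinite (w₁ D) := by unfold w₁; infer_instance
instance lfp_w₁ [LocallyOfFinitePresentation p] : LocallyOfFinitePresentation (w₁ D) := by
  unfold w₁; infer_instance
instance isFinite_ψ [IsFinite p] : IsFinite (ψ D) := by rw [ψ_eq]; infer_instance
instance lfp_ψ [LocallyOfFinitePresentation p] : LocallyOfFinitePresentation (ψ D) := by
  rw [ψ_eq]; infer_instance

/-- the points of the orbit of a point lie over the same point of the base. -/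
lemma orbit_over (r : W D) :
    p.base (D.obj.hom.base ((ψ D).base r)) = p.base (D.obj.hom.base ((w₁ D).base r)) := by
  have h1 : ψ D ≫ D.obj.hom ≫ p = w₁ D ≫ D.obj.hom ≫ p := by
    rw [← Category.assoc, ψ_hom]
    exact pullback.condition.symm
  exact congrArg (fun m => m.base r) h1

/-- descent along a finite locally free surjective morphism: if every finite set of points in a
fibre over the base lies in an affine open, descent data are effective. -/
theorem effective_of_finite [Surjective p] [IsFinite p] [Flat p] [LocallyOfFinitePresentation p]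
    (hV : ∀ (v : D.obj.left), ∃ U : D.obj.left.Opens, IsAffineOpen U ∧
      ∀ r : W D, (w₁ D).base r = v → (ψ D).base r ∈ U) :
    ∃ U : Over S, Nonempty ((Desc.toDD p).obj U ≅ D) := by
  refine effective_of_invariant_affine p D fun v => ?_
  obtain ⟨U, hU, hUr⟩ := hV v
  have h1 : IsFinite (grpd D).s := isFinite_w₁ D
  have h2 : LocallyOfFinitePresentation (grpd D).s := lfp_w₁ D
  have h3 : IsFinite (grpd D).t := isFinite_ψ D
  have h4 : LocallyOfFinitePresentation (grpd D).t := lfp_ψ D
  exact Groth.Agent.S1881.result S (grpd D) v U hU hUr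

end Finite

end Groth.Agent.Lib.Helper15FinDesc
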