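-- helper15: geometric points over a point of the target of a finite morphism reach every point of the fibre
import Mathlib
import Groth.Agent.Lib.Helper11ResDegA

set_option autoImplicit false
open CategoryTheory CategoryTheory.Limits AlgebraicGeometry

universe u

namespace Groth.Agent.Lib.Helper15GeomPts

/-- residue field extensions of a finite morphism are finite. -/
lemma finite_residueFieldMap {R U : Scheme.{u}} (f : R ⟶ U) [IsFinite f] (r : R) :
    letI := (f.residueFieldMap r).hom.toAlgebra
    Module.Finite (U.residueField (f.base r)) (R.residueField r) := by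
  obtain ⟨_, ⟨V, hV, rfl⟩, hrV, -⟩ := U.isBasis_affineOpens.exists_subset_of_mem_open
    (Set.mem_univ (f.base r)) isOpen_univ
  let _ := (f.app V).hom.toAlgebra
  have hfin : Module.Finite Γ(U, V) Γ(R, f ⁻¹ᵁ V) := IsFinite.finite_app f V hV
  obtain ⟨s, hs⟩ := Module.finite_def.mp hfin
  exact (Groth.Agent.Lib.Helper11ResDeg.finrank_residueFieldMap_le f V (hV.preimage f) s hs r
    hrV).1

/-- geometric points over a point of the target of a finite morphism reach every point of the
fibre. -/
theorem exists_geomPt {R U : Scheme.{u}} (f : R ⟶ U) [IsFinite f] (r : R) (k : Type u) [Field k]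
    [IsAlgClosed k] (φ : U.residueField (f.base r) ⟶ CommRingCat.of k) :
    ∃ z : Spec (CommRingCat.of k) ⟶ R,
      z ≫ f = Spec.map φ ≫ U.fromSpecResidueField (f.base r) ∧ ∀ t, z.base t = r := by
  let a1 := (f.residueFieldMap r).hom.toAlgebra
  let a2 := φ.hom.toAlgebra
  have hfin : Module.Finite (U.residueField (f.base r)) (R.residueField r) :=
    finite_residueFieldMap f r
  have halg : Algebra.IsAlgebraic (U.residueField (f.base r)) (R.residueField r) :=
    Algebra.IsAlgebraic.of_finite _ _
  let ψ : R.residueField r →ₐ[U.residueField (f.base r)] k := IsAlgClosed.lift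
  refine ⟨Spec.map (CommRingCat.ofHom ψ.toRingHom) ≫ R.fromSpecResidueField r, ?_, ?_⟩
  · rw [Category.assoc, ← Scheme.Hom.SpecMap_residueFieldMap_fromSpecResidueField,
      ← Spec.map_comp_assoc]
    congr 2
    ext a
    exact ψ.commutes a
  · intro t
    rw [Scheme.Hom.comp_base, TopCat.comp_app, Scheme.fromSpecResidueField_apply]

/-- variant with a named image point. -/
theorem exists_geomPt' {R U : Scheme.{u}} (f : R ⟶ U) [IsFinite f] (r : R) (x : U)
    (hr : f.base r = x) (k : Type u) [Field k] [IsAlgClosed k]
    (φ : U.residueField x ⟶ CommRingCat.of k) :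
    ∃ z : Spec (CommRingCat.of k) ⟶ R,
      z ≫ f = Spec.map φ ≫ U.fromSpecResidueField x ∧ ∀ t, z.base t = r := by
  subst hr
  exact exists_geomPt f r k φ

end Groth.Agent.Lib.Helper15GeomPts
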