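-- helper15: descent along a finite locally free surjective morphism with bounded geometric fibres
import Mathlib
import Groth.Prelude.Def_Desc
import Groth.Agent.Lib.Helper15FinDesc
import Groth.Agent.Lib.Helper15GeomPts

set_option autoImplicit false
set_option linter.unusedSectionVars false
open CategoryTheory CategoryTheory.Limits AlgebraicGeometry

universe u

namespace Groth.Agent.Lib.Helper15FinDescBdd

open Desc Groth.Agent.Lib.Helper15AffDescCore Groth.Agent.Lib.Helper15DDGrpd
  Groth.Agent.Lib.Helper15FinDesc Groth.Agent.Lib.Helper15GeomPts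

variable {X S : Scheme.{u}} {p : X ⟶ S} (D : Desc.SchDD p)

/-- the fibres of the source map of the groupoid of a descent datum along a finite morphism have
at most as many points as the geometric fibres of the morphism. -/
theorem encard_fibre_le [IsFinite p] (d : ℕ)
    (hfib : ∀ (k : Type u) [Field k] [IsAlgClosed k] (y : Spec (CommRingCat.of k) ⟶ S),
      Set.encard {x : Spec (CommRingCat.of k) ⟶ X | x ≫ p = y} ≤ d) (v : D.obj.left) :
    Set.encard ((w₁ D).base ⁻¹' {v}) ≤ d := by
  let k := AlgebraicClosure (D.obj.left.residueField v)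
  let φ : D.obj.left.residueField v ⟶ CommRingCat.of k :=
    CommRingCat.ofHom (algebraMap (D.obj.left.residueField v) k)
  let j : Spec (CommRingCat.of k) ⟶ D.obj.left := Spec.map φ ≫ D.obj.left.fromSpecResidueField v
  let B : Set (Spec (CommRingCat.of k) ⟶ W D) := {z | z ≫ w₁ D = j}
  have pt : Spec (CommRingCat.of k) := IsLocalRing.closedPoint k
  have h1 : (w₁ D).base ⁻¹' {v} ⊆ (fun z : Spec (CommRingCat.of k) ⟶ W D => z.base pt) '' B := by
    intro r hr
    obtain ⟨z, hz1, hz2⟩ := exists_geomPt' (w₁ D) r v hr k φ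
    exact ⟨z, hz1, hz2 pt⟩
  have h2 : B.encard ≤ Set.encard {x : Spec (CommRingCat.of k) ⟶ X |
      x ≫ p = j ≫ D.obj.hom ≫ p} := by
    refine Set.encard_le_encard_of_injOn (f := fun z => z ≫ w₂ D) ?_ ?_
    · intro z hz
      have hz' : z ≫ w₁ D = j := hz
      change (z ≫ w₂ D) ≫ p = j ≫ D.obj.hom ≫ p
      rw [← hz', Category.assoc, Category.assoc]
      congr 1
      exact pullback.condition.symm
    · intro z hz z' hz' hzz'
      have h3 : z ≫ w₁ D = z' ≫ w₁ D := by
        have a : z ≫ w₁ D = j := hz
        have b : z' ≫ w₁ D = j := hz'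
        rw [a, b]
      exact pullback.hom_ext h3 hzz'
  exact (Set.encard_le_encard h1).trans ((Set.encard_image_le _ _).trans (h2.trans (hfib k _)))

/-- descent along a finite locally free surjective morphism with geometric fibres of at most `d`
points: if any `d` points in a fibre over the base lie in an affine open, descent data are
effective. -/
theorem effective_of_bounded [Surjective p] [IsFinite p] [Flat p] [LocallyOfFinitePresentation p]
    (d : ℕ)
    (hfib : ∀ (k : Type u) [Field k] [IsAlgClosed k] (y : Spec (CommRingCat.of k) ⟶ S),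
      Set.encard {x : Spec (CommRingCat.of k) ⟶ X | x ≫ p = y} ≤ d)
    (hV : ∀ (y : S) (v : Fin d → ↑(D.obj.left)), (∀ i, p.base (D.obj.hom.base (v i)) = y) →
      ∃ U : D.obj.left.Opens, IsAffineOpen U ∧ ∀ i, v i ∈ U) :
    ∃ U : Over S, Nonempty ((Desc.toDD p).obj U ≅ D) := by
  refine effective_of_finite D fun v => ?_
  obtain ⟨orbit, horbit⟩ : ∃ orbit : Set D.obj.left,
      orbit = (ψ D).base '' ((w₁ D).base ⁻¹' {v}) := ⟨_, rfl⟩
  have hcard : orbit.encard ≤ d := by
    rw [horbit]
    exact (Set.encard_image_le _ _).trans (encard_fibre_le D d hfib v)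
  have hmemorb : ∀ o ∈ orbit, ∃ r, (w₁ D).base r = v ∧ (ψ D).base r = o := by
    intro o ho
    rw [horbit] at ho
    obtain ⟨r, hr, hr2⟩ := ho
    exact ⟨r, hr, hr2⟩
  by_cases hne : orbit.Nonempty
  · have hfin : orbit.Finite := Set.finite_of_encard_le_coe hcard
    have : Fintype orbit := hfin.fintype
    have hc : Fintype.card orbit ≤ Fintype.card (Fin d) := by
      rw [Fintype.card_fin]
      have h1 : orbit.encard = (Fintype.card orbit : ℕ∞) := by
        rw [Set.encard_eq_coe_toFinset_card, Set.toFinset_card]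
      rw [h1] at hcard
      exact_mod_cast hcard
    obtain ⟨emb⟩ := Function.Embedding.nonempty_of_card_le hc
    have : Nonempty orbit := hne.to_subtype
    have hg : Function.Surjective (Function.invFun emb) :=
      Function.invFun_surjective emb.injective
    obtain ⟨U, hU, hUi⟩ := hV (p.base (D.obj.hom.base v))
      (fun i => (Function.invFun emb i).1) (fun i => by
        obtain ⟨r, hr', hr2⟩ := hmemorb _ (Function.invFun emb i).2
        rw [← hr2, orbit_over D r, hr'])
    refine ⟨U, hU, fun r hr => ?_⟩
    have hmem : (ψ D).base r ∈ orbit := by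
      rw [horbit]
      exact ⟨r, hr, rfl⟩
    obtain ⟨i, hi⟩ := hg ⟨(ψ D).base r, hmem⟩
    have := hUi i
    rw [hi] at this
    exact this
  · refine ⟨⊥, isAffineOpen_bot _, fun r hr => (hne ⟨(ψ D).base r, ?_⟩).elim⟩
    rw [horbit]
    exact ⟨r, hr, rfl⟩

end Groth.Agent.Lib.Helper15FinDescBdd
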