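-- helper15: descent of closed subschemes along fppf morphisms (mono descent data); fixed-point functor of X is a closed subscheme given an etale FPR atlas
import Mathlib
import Groth.Prelude.Def_Magnet3
import Groth.Prelude.Def_Desc
import Groth.Agent.Lib.Helper15FppfAffRepC
import Groth.Agent.Lib.Helper12Descent
import Groth.Agent.Lib.Helper12Torsor
import Groth.Agent.Lib.Helper12LocSplit

set_option autoImplicit false
set_option linter.unusedSectionVars false
universe u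
open CategoryTheory MonoidalCategory CartesianMonoidalCategory MonObj AlgebraicGeometry Limits Opposite

namespace Groth.Agent.Lib.Helper15.FixedDesc

section MonoDD

variable {X S : Scheme.{u}} (p : X ⟶ S)

instance subsingleton_lifts (V : Over X) [Mono V.hom] {T : Scheme.{u}} (x : T ⟶ X) :
    Subsingleton (Desc.Lifts V x) := by
  constructor
  intro v w
  apply Subtype.ext
  rw [← cancel_mono V.hom, v.2, w.2]

/-- transport of lifts. -/
noncomputable def tr (V : Over X) [Mono V.hom]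
    (h : ∀ ⦃T : Scheme.{u}⦄ (x₀ x₁ : T ⟶ X), x₀ ≫ p = x₁ ≫ p →
      (∃ v : T ⟶ V.left, v ≫ V.hom = x₀) → ∃ v : T ⟶ V.left, v ≫ V.hom = x₁)
    {T : Scheme.{u}} (x₀ x₁ : T ⟶ X) (e : x₀ ≫ p = x₁ ≫ p) (v : Desc.Lifts V x₀) :
    Desc.Lifts V x₁ :=
  ⟨(h x₀ x₁ e ⟨v.1, v.2⟩).choose, (h x₀ x₁ e ⟨v.1, v.2⟩).choose_spec⟩

/-- a subobject of `X` stable under the equivalence relation of `p` carries a descent datum. -/
noncomputable def ofMono (V : Over X) [Mono V.hom]
    (h : ∀ ⦃T : Scheme.{u}⦄ (x₀ x₁ : T ⟶ X), x₀ ≫ p = x₁ ≫ p →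
      (∃ v : T ⟶ V.left, v ≫ V.hom = x₀) → ∃ v : T ⟶ V.left, v ≫ V.hom = x₁) : Desc.SchDD p where
  obj := V
  φ T x₀ x₁ e :=
    { toFun := tr p V h x₀ x₁ e
      invFun := tr p V h x₁ x₀ e.symm
      left_inv := fun v => Subsingleton.elim _ _
      right_inv := fun v => Subsingleton.elim _ _ }
  φ_natural T T' g x₀ x₁ e e' v v' hv := by
    rw [← cancel_mono V.hom]
    have h1 : (tr p V h (g ≫ x₀) (g ≫ x₁) e' v').1 ≫ V.hom = g ≫ x₁ := (tr p V h _ _ e' v').2
    have h2 : (tr p V h x₀ x₁ e v).1 ≫ V.hom = x₁ := (tr p V h _ _ e v).2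
    change (tr p V h (g ≫ x₀) (g ≫ x₁) e' v').1 ≫ V.hom = (g ≫ (tr p V h x₀ x₁ e v).1) ≫ V.hom
    rw [h1, Category.assoc, h2]
  φ_self T x v := Subsingleton.elim _ _
  φ_comp T x₀ x₁ x₂ e₁ e₂ v := Subsingleton.elim _ _

end MonoDD

section Fppf

open Groth.Agent.Lib.Helper12 Groth.Agent.Lib.Helper12.LocSplit

lemma singleton_mem_fpqc {T' T : Scheme.{u}} (q : T' ⟶ T) [Flat q] [Surjective q]
    [LocallyOfFinitePresentation q] : Presieve.singleton q ∈ Scheme.fpqcPrecoverage T :=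
  Scheme.fppfPrecoverage_le_fpqcPrecoverage _ q.singleton_mem_fppfPrecoverage

/-- an fppf morphism is an effective epimorphism. -/
theorem existsUnique_desc_fppf {T' T Z : Scheme.{u}} (q : T' ⟶ T) [Flat q] [Surjective q]
    [LocallyOfFinitePresentation q] (m : T' ⟶ Z)
    (hm : ∀ {W : Scheme.{u}} (p₁ p₂ : W ⟶ T'), p₁ ≫ q = p₂ ≫ q → p₁ ≫ m = p₂ ≫ m) :
    ∃! r : T ⟶ Z, q ≫ r = m := by
  refine existsUnique_desc q (Presieve.singleton q) (singleton_mem_fpqc q) ?_ m hm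
  rintro W _ ⟨⟩
  exact ⟨𝟙 _, Category.id_comp _⟩

theorem epi_of_fppf {T' T : Scheme.{u}} (q : T' ⟶ T) [Flat q] [Surjective q]
    [LocallyOfFinitePresentation q] : Epi q := by
  constructor
  intro Z α β hαβ
  obtain ⟨r', _, hru'⟩ := existsUnique_desc_fppf q (q ≫ α)
    (fun p₁ p₂ h => by rw [← Category.assoc, ← Category.assoc, h])
  rw [hru' α rfl, hru' β hαβ.symm]

/-- factoring through a monomorphism can be checked fppf locally. -/
theorem factors_of_cover {T' T W X : Scheme.{u}} (q : T' ⟶ T) [Flat q] [Surjective q]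
    [LocallyOfFinitePresentation q] (i : W ⟶ X) [Mono i] (x : T ⟶ X) (w' : T' ⟶ W)
    (hw' : w' ≫ i = q ≫ x) : ∃ w : T ⟶ W, w ≫ i = x := by
  obtain ⟨r, hr, -⟩ := existsUnique_desc_fppf q w' (fun p₁ p₂ h => by
    rw [← cancel_mono i, Category.assoc, Category.assoc, hw', ← Category.assoc, ← Category.assoc, h])
  have := epi_of_fppf q
  refine ⟨r, ?_⟩
  rw [← cancel_epi q, ← Category.assoc, hr, hw']

/-- descent of closed subschemes along an fppf morphism. -/
theorem exists_closed_descent {X' X : Scheme.{u}} (f : X' ⟶ X) [Flat f] [Surjective f]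
    [LocallyOfFinitePresentation f] (V : Over X') [IsClosedImmersion V.hom]
    (h : ∀ ⦃T : Scheme.{u}⦄ (x₀ x₁ : T ⟶ X'), x₀ ≫ f = x₁ ≫ f →
      (∃ v : T ⟶ V.left, v ≫ V.hom = x₀) → ∃ v : T ⟶ V.left, v ≫ V.hom = x₁) :
    ∃ (W : Scheme.{u}) (i : W ⟶ X), IsClosedImmersion i ∧
      ∀ ⦃T : Scheme.{u}⦄ (x : T ⟶ X'),
        (∃ v : T ⟶ V.left, v ≫ V.hom = x) ↔ ∃ w : T ⟶ W, w ≫ i = x ≫ f := by
  have : IsAffineHom (ofMono f V h).obj.hom := inferInstanceAs (IsAffineHom V.hom)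
  obtain ⟨W₀, ⟨e⟩⟩ := Groth.Agent.Lib.Helper15FppfAffRepC.effective_of_isAffineHom (ofMono f V h)
  obtain ⟨a, b, ha, hb, hab, hba⟩ : ∃ (a : pullback f W₀.hom ⟶ V.left)
      (b : V.left ⟶ pullback f W₀.hom), a ≫ V.hom = pullback.fst f W₀.hom ∧
      b ≫ pullback.fst f W₀.hom = V.hom ∧ a ≫ b = 𝟙 _ ∧ b ≫ a = 𝟙 _ :=
    ⟨e.hom.hom.left, e.inv.hom.left, Over.w e.hom.hom, Over.w e.inv.hom,
      congrArg (fun t => t.hom.left) e.hom_inv_id, congrArg (fun t => t.hom.left) e.inv_hom_id⟩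
  have hiso : IsIso a := ⟨b, hab, hba⟩
  refine ⟨W₀.left, W₀.hom, ?_, ?_⟩
  · refine of_mem_fpqcPrecoverage descendsAlong_isClosedImmersion W₀.hom (Presieve.singleton f)
      (singleton_mem_fpqc f) ?_
    rintro Y' _ ⟨⟩
    have h1 : pullback.snd W₀.hom f = (pullbackSymmetry W₀.hom f).hom ≫ a ≫ V.hom := by
      rw [ha, pullbackSymmetry_hom_comp_fst]
    rw [h1]
    infer_instance
  · intro T x
    constructor
    · rintro ⟨v, hv⟩
      refine ⟨v ≫ b ≫ pullback.snd f W₀.hom, ?_⟩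
      rw [Category.assoc, Category.assoc, ← pullback.condition, ← Category.assoc b,
        hb, ← Category.assoc, hv]
    · rintro ⟨w, hw⟩
      refine ⟨pullback.lift x w hw.symm ≫ a, ?_⟩
      rw [Category.assoc, ha, pullback.lift_fst]

end Fppf

section Main

open Magnet Magnet.MonAct

variable {S : Scheme.{u}} {A X U : Over S} [MonObj A] (aX : MonAct A X) (aU : MonAct A U)

/-- a point is fixed. -/
def IsFixed {X : Over S} (a : MonAct A X) {T : Over S} (x : T ⟶ X) : Prop :=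
  ∀ (T' : Over S) (t : T' ⟶ T) (g : T' ⟶ A), lift g (t ≫ x) ≫ a.act = t ≫ x

theorem IsFixed.comp {X : Over S} {a : MonAct A X} {T T' : Over S} {x : T ⟶ X} (h : IsFixed a x)
    (t : T' ⟶ T) : IsFixed a (t ≫ x) := by
  intro T'' t' g
  rw [← Category.assoc]
  exact h T'' (t' ≫ t) g

variable {aX aU}

theorem IsFixed.map {f : U ⟶ X} (hf : MonAct.IsEquivariant aU aX f) {T : Over S} {u : T ⟶ U}
    (h : IsFixed aU u) : IsFixed aX (u ≫ f) :=
  ((fixedPsh.map f hf).app (op T) ⟨u, h⟩).2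

theorem isFixed_of_fpr {f : U ⟶ X} (hf : MonAct.IsEquivariant aU aX f)
    (hfpr : IsPullback (fixedPsh.map f hf) (fixedPshι aU) (fixedPshι aX) (yoneda.map f))
    {T : Over S} {u : T ⟶ U} (h : IsFixed aX (u ≫ f)) : IsFixed aU u := by
  have h1 := hfpr.map ((evaluation _ _).obj (op T))
  obtain ⟨z, -, hz⟩ := Types.exists_of_isPullback h1 (⟨u ≫ f, h⟩ : (fixedPsh aX).obj (op T)) u rfl
  have hz' : z.1 = u := hz
  rw [← hz']
  exact z.2

theorem isFixed_iff_of_rep {W' : Over S} (i' : W' ⟶ U) (e' : (fixedPsh aU).RepresentableBy W')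
    (he' : ∀ (T : Over S) (w : T ⟶ W'), (fixedPshι aU).app (op T) (e'.homEquiv w) = w ≫ i')
    {T : Over S} (u : T ⟶ U) : IsFixed aU u ↔ ∃ w : T ⟶ W', w ≫ i' = u := by
  constructor
  · intro hu
    refine ⟨e'.homEquiv.symm ⟨u, hu⟩, ?_⟩
    rw [← he', Equiv.apply_symm_apply]
    rfl
  · rintro ⟨w, rfl⟩
    rw [← he']
    exact (e'.homEquiv w).2

/-- the cover of `T` obtained from `f` along `x`, as objects over `S`. -/
theorem exists_cover (f : U ⟶ X) [Etale f.left] [Surjective f.left] {T : Over S} (x : T ⟶ X) :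
    ∃ (T' : Over S) (t : T' ⟶ T) (u : T' ⟶ U), u ≫ f = t ≫ x ∧ Flat t.left ∧ Surjective t.left ∧
      LocallyOfFinitePresentation t.left := by
  refine ⟨Over.mk (pullback.fst x.left f.left ≫ T.hom), Over.homMk (pullback.fst x.left f.left) rfl,
    Over.homMk (pullback.snd x.left f.left) ?_, ?_, ?_, ?_, ?_⟩
  · change pullback.snd x.left f.left ≫ U.hom = pullback.fst x.left f.left ≫ T.hom
    rw [← Over.w f, ← Category.assoc, ← pullback.condition, Category.assoc, Over.w x]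
  · ext
    exact pullback.condition.symm
  · change Flat (pullback.fst x.left f.left)
    infer_instance
  · change Surjective (pullback.fst x.left f.left)
    infer_instance
  · change LocallyOfFinitePresentation (pullback.fst x.left f.left)
    infer_instance

theorem epi_of_left {T' T : Over S} (t : T' ⟶ T) [Flat t.left] [Surjective t.left]
    [LocallyOfFinitePresentation t.left] : Epi t := by
  have : Epi ((Over.forget S).map t) := epi_of_fppf t.left
  exact (Over.forget S).epi_of_epi_map this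

theorem main (f : U ⟶ X) [Etale f.left] [Surjective f.left]
    (hf : MonAct.IsEquivariant aU aX f)
    (hfpr : IsPullback (fixedPsh.map f hf) (fixedPshι aU) (fixedPshι aX) (yoneda.map f))
    (hU : ∃ (W' : Over S) (i' : W' ⟶ U) (e' : (fixedPsh aU).RepresentableBy W'),
      IsClosedImmersion i'.left ∧ ∀ (T : Over S) (w : T ⟶ W'),
        (fixedPshι aU).app (op T) (e'.homEquiv w) = w ≫ i') :
    ∃ (W : Over S) (i : W ⟶ X) (e : (fixedPsh aX).RepresentableBy W),
      IsClosedImmersion i.left ∧ ∀ (T : Over S) (w : T ⟶ W),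
        (fixedPshι aX).app (op T) (e.homEquiv w) = w ≫ i := by
  obtain ⟨W', i', e', hi', he'⟩ := hU
  have hH := fun {T : Over S} (u : T ⟶ U) => isFixed_iff_of_rep i' e' he' u
  -- stability of `W'` under the equivalence relation of `f`
  have hst : ∀ ⦃T : Scheme.{u}⦄ (x₀ x₁ : T ⟶ U.left), x₀ ≫ f.left = x₁ ≫ f.left →
      (∃ v : T ⟶ W'.left, v ≫ i'.left = x₀) → ∃ v : T ⟶ W'.left, v ≫ i'.left = x₁ := by
    rintro T x₀ x₁ h01 ⟨v, hv⟩
    have hx₁ : x₁ ≫ U.hom = x₀ ≫ U.hom := by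
      rw [← Over.w f, ← Category.assoc, ← h01, Category.assoc]
    let T₀ : Over S := Over.mk (x₀ ≫ U.hom)
    let u₀ : T₀ ⟶ U := Over.homMk x₀ rfl
    let u₁ : T₀ ⟶ U := Over.homMk x₁ hx₁
    have h01' : u₀ ≫ f = u₁ ≫ f := by
      ext
      exact h01
    let w₀ : T₀ ⟶ W' := Over.homMk v (by
      change v ≫ W'.hom = x₀ ≫ U.hom
      rw [← hv, Category.assoc, Over.w i'])
    have hw₀ : w₀ ≫ i' = u₀ := by
      ext
      exact hv
    have h1 : IsFixed aU u₀ := (hH u₀).2 ⟨w₀, hw₀⟩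
    have h2 : IsFixed aX (u₁ ≫ f) := by
      rw [← h01']
      exact h1.map hf
    obtain ⟨w₁, hw₁⟩ := (hH u₁).1 (isFixed_of_fpr hf hfpr h2)
    exact ⟨w₁.left, congrArg (fun t => t.left) hw₁⟩
  have : IsClosedImmersion (Over.mk i'.left : Over U.left).hom := hi'
  obtain ⟨W₀, i₀, hi₀, hiff⟩ := exists_closed_descent f.left (Over.mk i'.left) hst
  have hiff' : ∀ ⦃T : Scheme.{u}⦄ (x : T ⟶ U.left),
      (∃ v : T ⟶ W'.left, v ≫ i'.left = x) ↔ ∃ w : T ⟶ W₀, w ≫ i₀ = x ≫ f.left := hiff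
  let W : Over S := Over.mk (i₀ ≫ X.hom)
  let i : W ⟶ X := Over.homMk i₀ rfl
  have hmono : Mono i := by
    have : Mono ((Over.forget S).map i) := by
      change Mono i₀
      infer_instance
    exact (Over.forget S).mono_of_mono_map this
  -- the key equivalence
  have hK1 : ∀ {T : Over S} (x : T ⟶ X), IsFixed aX x → ∃ w : T ⟶ W, w ≫ i = x := by
    intro T x hx
    obtain ⟨T', t, u, hu, _, _, _⟩ := exists_cover f x
    have h1 : IsFixed aU u := isFixed_of_fpr hf hfpr (by rw [hu]; exact hx.comp t)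
    obtain ⟨w', hw'⟩ := (hH u).1 h1
    obtain ⟨w₀, hw₀⟩ := (hiff' u.left).1 ⟨w'.left, congrArg (fun t => t.left) hw'⟩
    have hux : u.left ≫ f.left = t.left ≫ x.left := congrArg (fun t => t.left) hu
    obtain ⟨w, hw⟩ := factors_of_cover t.left i₀ x.left w₀ (by rw [hw₀, hux])
    refine ⟨Over.homMk w ?_, ?_⟩
    · change w ≫ i₀ ≫ X.hom = T.hom
      rw [← Category.assoc, hw, Over.w x]
    · ext
      exact hw
  have hK2 : ∀ {T : Over S} (w : T ⟶ W), IsFixed aX (w ≫ i) := by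
    intro T w T₂ t₂ g
    rw [← Category.assoc]
    generalize t₂ ≫ w = w₂
    obtain ⟨T', t, u, hu, _, _, _⟩ := exists_cover f (w₂ ≫ i)
    have hux : u.left ≫ f.left = (t.left ≫ w₂.left) ≫ i₀ := by
      have := congrArg (fun t => t.left) hu
      rw [Category.assoc]
      exact this
    obtain ⟨v, hv⟩ := (hiff' u.left).2 ⟨t.left ≫ w₂.left, hux.symm⟩
    let w' : T' ⟶ W' := Over.homMk v (by
      rw [← Over.w i', ← Category.assoc, hv, Over.w u])
    have hw' : w' ≫ i' = u := by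
      ext
      exact hv
    have h1 : IsFixed aX (t ≫ w₂ ≫ i) := by
      rw [← hu]
      exact ((hH u).2 ⟨w', hw'⟩).map hf
    have h2 := h1 T' (𝟙 _) (t ≫ g)
    rw [Category.id_comp, ← comp_lift_assoc] at h2
    have := epi_of_left t
    exact (cancel_epi t).1 h2
  refine ⟨W, i, ⟨fun {T} => ⟨fun w => ⟨w ≫ i, hK2 w⟩, fun z => (hK1 z.1 z.2).choose, ?_, ?_⟩, ?_⟩,
    hi₀, ?_⟩
  · intro w
    rw [← cancel_mono i]
    exact (hK1 (w ≫ i) (hK2 w)).choose_spec
  · intro z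
    exact Subtype.ext (hK1 z.1 z.2).choose_spec
  · intro T T₂ t w
    apply Subtype.ext
    exact Category.assoc _ _ _
  · intro T w
    rfl

end Main

end Groth.Agent.Lib.Helper15.FixedDesc
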