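-- helper15: representable smooth / unramified morphisms of sheaves are formally smooth / unramified.
import Mathlib
import Groth.Prelude.Def_AlgSpInf
import Groth.Agent.Lib.Helper12EtaleLift2

set_option autoImplicit false
universe u
open CategoryTheory CategoryTheory.Limits AlgebraicGeometry Opposite
open AlgSp

namespace Groth.Agent.Lib.Helper15.FormRep

open Groth.Agent.Lib.Helper12.EtaleLift

variable {S : Scheme.{u}}

/-- Representable smooth morphisms are formally smooth, given that smooth morphisms of schemes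
are formally smooth in the lifting sense. -/
theorem isFormallySmoothMor_of_repWith
    (hS : ∀ {X Y : Scheme.{u}} (f : X ⟶ Y), Smooth f → MoreMor.IsFormallySmoothHom f)
    {F G : AlgSp.Sp S} (a : F ⟶ G) (ha : AlgSp.RepWith @Smooth a) :
    AlgSp.IsFormallySmoothMor a := by
  intro sq
  obtain ⟨W, snd, fst', hsq⟩ := ha.1 sq.bot
  have hE : Smooth snd.left := ha.2 sq.bot fst' snd hsq
  obtain ⟨t', ht1, ht2⟩ : ∃ t' : (AlgSp.yon S).obj sq.ptT ⟶ (AlgSp.yon S).obj W,
      t' ≫ fst' = sq.top ∧ t' ≫ (AlgSp.yon S).map snd = (AlgSp.yon S).map sq.j :=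
    ⟨hsq.lift sq.top ((AlgSp.yon S).map sq.j) sq.comm, hsq.lift_fst _ _ _, hsq.lift_snd _ _ _⟩
  obtain ⟨t, rfl⟩ := (AlgSp.yon S).map_surjective t'
  have htj : t ≫ snd = sq.j := (AlgSp.yon S).map_injective (by rw [Functor.map_comp, ht2])
  have htj' : t.left ≫ snd.left = sq.j.left := by
    rw [← Over.comp_left, htj]
  obtain ⟨s, hs2, hs1⟩ := hS snd.left hE sq.A sq.I sq.sq_zero t.left (𝟙 _)
    (by rw [Category.comp_id]; exact htj'.symm)
  let s' : sq.ptT' ⟶ W := Over.homMk s (by
    have h1 := Over.w snd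
    rw [← h1, ← Category.assoc, hs1]
    exact Category.id_comp _)
  have hs1' : s' ≫ snd = 𝟙 _ := by
    ext
    exact hs1
  have hs2' : sq.j ≫ s' = t := by
    ext
    exact hs2
  refine ⟨(AlgSp.yon S).map s' ≫ fst', ?_, ?_⟩
  · rw [← Category.assoc, ← Functor.map_comp, hs2', ht1]
  · rw [Category.assoc, hsq.w, ← Category.assoc, ← Functor.map_comp, hs1',
      CategoryTheory.Functor.map_id, Category.id_comp]

/-- Representable formally unramified morphisms are formally unramified in the lifting sense. -/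
theorem isFormallyUnramifiedMor_of_repWith {F G : AlgSp.Sp S} (a : F ⟶ G)
    (ha : AlgSp.RepWith (@LocallyOfFiniteType ⊓ @FormallyUnramified) a) :
    AlgSp.IsFormallyUnramifiedMor a := by
  intro sq l l' hl1 hl2 hl1' hl2'
  obtain ⟨W, snd, fst', hsq⟩ := ha.1 sq.bot
  have hE : FormallyUnramified snd.left := (ha.2 sq.bot fst' snd hsq).2
  have : IsClosedImmersion sq.j.left :=
    IsClosedImmersion.spec_of_surjective _ Ideal.Quotient.mk_surjective
  have hnil : IsNilpotent sq.j.left.ker := isNilpotent_ker_SpecMap_mk sq.I sq.sq_zero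
  obtain ⟨m', hm1, hm2⟩ : ∃ m' : (AlgSp.yon S).obj sq.ptT' ⟶ (AlgSp.yon S).obj W,
      m' ≫ fst' = l ∧ m' ≫ (AlgSp.yon S).map snd = 𝟙 _ :=
    ⟨hsq.lift l (𝟙 _) (by rw [hl2, Category.id_comp]), hsq.lift_fst _ _ _, hsq.lift_snd _ _ _⟩
  obtain ⟨n', hn1, hn2⟩ : ∃ n' : (AlgSp.yon S).obj sq.ptT' ⟶ (AlgSp.yon S).obj W,
      n' ≫ fst' = l' ∧ n' ≫ (AlgSp.yon S).map snd = 𝟙 _ :=
    ⟨hsq.lift l' (𝟙 _) (by rw [hl2', Category.id_comp]), hsq.lift_fst _ _ _, hsq.lift_snd _ _ _⟩
  obtain ⟨m, rfl⟩ := (AlgSp.yon S).map_surjective m'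
  obtain ⟨n, rfl⟩ := (AlgSp.yon S).map_surjective n'
  have hm2' : m ≫ snd = 𝟙 _ :=
    (AlgSp.yon S).map_injective (by rw [Functor.map_comp, hm2, CategoryTheory.Functor.map_id])
  have hn2' : n ≫ snd = 𝟙 _ :=
    (AlgSp.yon S).map_injective (by rw [Functor.map_comp, hn2, CategoryTheory.Functor.map_id])
  have hjmn : sq.j ≫ m = sq.j ≫ n := by
    apply (AlgSp.yon S).map_injective
    apply hsq.hom_ext
    · rw [Functor.map_comp, Functor.map_comp, Category.assoc, Category.assoc, hm1, hn1, hl1, hl1']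
    · rw [Functor.map_comp, Functor.map_comp, Category.assoc, Category.assoc, hm2, hn2]
  have hmn : m = n := by
    ext
    apply FormallyUnramified.hom_ext sq.j.left hnil snd.left
    · rw [← Over.comp_left, ← Over.comp_left, hjmn]
    · rw [← Over.comp_left, ← Over.comp_left, hm2', hn2']
  rw [← hm1, ← hn1, hmn]

end Groth.Agent.Lib.Helper15.FormRep
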