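-- helper15: descent of smooth / etale along fppf coverings of the source, for schemes (S0115, S2806) and for LocP on algebraic spaces.
import Mathlib
import Groth.Agent.S0114
import Groth.Agent.S0115
import Groth.Agent.S2806
import Groth.Agent.Lib.Helper12SrcLocal
import Groth.Prelude.Def_AlgSpCov

set_option autoImplicit false
set_option linter.style.haveILetI false
open CategoryTheory CategoryTheory.Limits AlgebraicGeometry Opposite
universe u

namespace Groth.Agent.Lib.Helper15FppfSrc2

/-- Descent of a Zariski-local-at-source property along fppf covering presieves of the source, from descent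
along a single surjective flat finitely presented morphism. -/
theorem desc_of_single (P : MorphismProperty Scheme.{u}) [IsZariskiLocalAtSource P]
    (hsingle : ∀ {X Y Z : Scheme.{u}} (f : X ⟶ Y) (q : Y ⟶ Z), Surjective f → Flat f →
      LocallyOfFinitePresentation f → P (f ≫ q) → P q)
    {X Y : Scheme.{u}} (f : X ⟶ Y) (R : Presieve X) (hR : R ∈ Scheme.fppfPrecoverage X)
    (H : ∀ {U : Scheme.{u}} (g : U ⟶ X), R g → P (g ≫ f)) : P f := by
  have hsurj : ∀ x : X, ∃ (U : Scheme.{u}) (g : U ⟶ X), R g ∧ x ∈ Set.range g := by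
    intro x
    obtain ⟨T, t, ht, hx⟩ := hR.1 x
    obtain ⟨hg⟩ := ht
    exact ⟨_, _, hg, hx⟩
  choose U g hgR hgx using hsurj
  have hP : ∀ x, (@Flat ⊓ @LocallyOfFinitePresentation : MorphismProperty Scheme.{u}) (g x) :=
    fun x => hR.2 (hgR x)
  have hopen : ∀ x, IsOpen (Set.range (g x)) := fun x => by
    haveI : Flat (g x) := (hP x).1
    haveI : LocallyOfFinitePresentation (g x) := (hP x).2
    exact (g x).isOpenMap.isOpen_range
  refine IsZariskiLocalAtSource.of_iSup_eq_top (P := P)
    (fun x : X => (⟨Set.range (g x), hopen x⟩ : X.Opens)) ?_ fun x => ?_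
  · rw [eq_top_iff]
    intro x _
    exact TopologicalSpace.Opens.mem_iSup.2 ⟨x, hgx x⟩
  · haveI : Flat (g x) := (hP x).1
    haveI : LocallyOfFinitePresentation (g x) := (hP x).2
    set V : X.Opens := ⟨Set.range (g x), hopen x⟩ with hVdef
    have hsub : Set.range (g x) ⊆ Set.range V.ι := by
      rw [Scheme.Opens.range_ι]; rfl
    let g' : U x ⟶ V.toScheme := IsOpenImmersion.lift V.ι (g x) hsub
    have hg' : g' ≫ V.ι = g x := IsOpenImmersion.lift_fac _ _ _
    have h1 : Flat g' := MorphismProperty.of_postcomp (W := @Flat) (W' := @IsOpenImmersion) g' V.ι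
      inferInstance (by rw [hg']; infer_instance)
    have h2 : LocallyOfFinitePresentation g' := MorphismProperty.of_postcomp
      (W := @LocallyOfFinitePresentation) (W' := @IsOpenImmersion) g' V.ι
      inferInstance (by rw [hg']; infer_instance)
    have h3 : Surjective g' := by
      refine ⟨fun v => ?_⟩
      obtain ⟨u, hu⟩ : (V.ι v) ∈ Set.range (g x) := v.2
      refine ⟨u, ?_⟩
      apply V.ι.injective
      rw [← Scheme.Hom.comp_apply, hg', hu]
    refine hsingle g' (V.ι ≫ f) h3 h1 h2 ?_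
    rw [← Category.assoc, hg']
    exact H _ (hgR x)

theorem smooth_desc {X Y : Scheme.{u}} (f : X ⟶ Y) (R : Presieve X)
    (hR : R ∈ Scheme.fppfPrecoverage X)
    (H : ∀ {U : Scheme.{u}} (g : U ⟶ X), R g → Smooth (g ≫ f)) : Smooth f :=
  desc_of_single @Smooth (fun f q h1 h2 h3 h4 => by
    haveI := h1; haveI := h2; haveI := h3; haveI := h4
    exact Groth.Agent.S0115.result f q) f R hR H

/-- Etaleness descends along a surjective flat finitely presented morphism of the source. -/
theorem etale_of_fppf_comp {X Y Z : Scheme.{u}} (f : X ⟶ Y) (q : Y ⟶ Z) [Surjective f] [Flat f]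
    [LocallyOfFinitePresentation f] [Etale (f ≫ q)] : Etale q := by
  haveI : LocallyOfFinitePresentation (f ≫ q) := inferInstance
  haveI : LocallyOfFinitePresentation q := Groth.Agent.S0114.result f q
  have key : ∀ y : Y, ∃ V : Y.Opens, y ∈ V ∧ Etale (V.ι ≫ q) := by
    intro y
    obtain ⟨x, rfl⟩ := f.surjective y
    have hfl : (f.stalkMap x).hom.Flat := Flat.stalkMap f x
    exact Groth.Agent.S2806.result q (f ≫ q) f rfl x hfl
      ⟨⊤, trivial, (inferInstance : Etale ((⊤ : X.Opens).ι ≫ f ≫ q))⟩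
  choose V hyV hV using key
  refine IsZariskiLocalAtSource.of_iSup_eq_top (P := @Etale) V ?_ hV
  rw [eq_top_iff]
  intro y _
  exact TopologicalSpace.Opens.mem_iSup.2 ⟨y, hyV y⟩

theorem etale_desc {X Y : Scheme.{u}} (f : X ⟶ Y) (R : Presieve X)
    (hR : R ∈ Scheme.fppfPrecoverage X)
    (H : ∀ {U : Scheme.{u}} (g : U ⟶ X), R g → Etale (g ≫ f)) : Etale f :=
  desc_of_single @Etale (fun f q h1 h2 h3 h4 => by
    haveI := h1; haveI := h2; haveI := h3; haveI := h4
    exact etale_of_fppf_comp f q) f R hR H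

open Groth.Agent.Lib.Helper12.SrcLocal in
/-- Variant of helper12's `locP_of_chartData` with an explicit descent hypothesis in place of locality at the source. -/
lemma locP_of_chartData' {S : Scheme.{u}} (P Qs : MorphismProperty Scheme.{u}) (K : Precoverage Scheme.{u})
    (hdesc : ∀ {X Y : Scheme.{u}} (f : X ⟶ Y) (R : Presieve X), R ∈ K X →
      (∀ {U : Scheme.{u}} (g : U ⟶ X), R g → P (g ≫ f)) → P f)
    {ι : Type u} {X Y : AlgSp.Sp S} (Xi : ι → AlgSp.Sp S) (g : ∀ i, Xi i ⟶ X)
    (hg : ∀ i, AlgSp.LocP Qs (g i))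
    (hcov : ∀ {U : Over S} (a : (AlgSp.yon S).obj U ⟶ X), AlgSp.RepWith @Etale a →
      ∀ D : ChartData Xi g a, (∀ i, Qs (D.e i).left) →
      Presieve.ofArrows (fun i => (D.W i).left) (fun i => (D.e i).left) ∈ K U.left)
    (hCD : ∀ {U : Over S} (a : (AlgSp.yon S).obj U ⟶ X), Nonempty (ChartData Xi g a))
    (f : X ⟶ Y) (h : ∀ i, AlgSp.LocP P (g i ≫ f)) : AlgSp.LocP P f := by
  intro U V a b hh ha hb hcomm
  obtain ⟨D⟩ := hCD a
  have hsnd : ∀ i, AlgSp.RepWith @Etale (pullback.snd a (g i)) := fun i =>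
    MorphismProperty.of_isPullback (P := AlgSp.RepWith @Etale)
      (IsPullback.of_hasPullback a (g i)) ha
  have hai : ∀ i, AlgSp.RepWith @Etale (D.q i ≫ pullback.snd a (g i)) := fun i =>
    (AlgSp.RepWith @Etale).comp_mem _ _ (D.hqe i) (hsnd i)
  have hci : ∀ i, (D.q i ≫ pullback.snd a (g i)) ≫ g i = (AlgSp.yon S).map (D.e i) ≫ a :=
    fun i => by rw [D.he, Category.assoc, Category.assoc, pullback.condition]
  have hQe : ∀ i, Qs (D.e i).left := fun i => hg i _ a (D.e i) (hai i) ha (hci i)
  have hPe : ∀ i, P ((D.e i).left ≫ hh.left) := fun i => by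
    have := h i (D.q i ≫ pullback.snd a (g i)) b (D.e i ≫ hh) (hai i) hb
      (by rw [← Category.assoc, hci, Functor.map_comp, Category.assoc, Category.assoc, hcomm])
    rwa [Over.comp_left] at this
  exact hdesc hh.left _ (hcov a ha D hQe)
    (fun t ht => by obtain ⟨i⟩ := ht; exact hPe i)

open Groth.Agent.Lib.Helper12.SrcLocal in
/-- A property which descends along fppf covering presieves of the source of morphisms of schemes descends along fppf
coverings of the source of morphisms of algebraic spaces. -/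
theorem locP_of_fppf_cover {S : Scheme.{u}} (P : MorphismProperty Scheme.{u})
    (hdesc : ∀ {X Y : Scheme.{u}} (f : X ⟶ Y) (R : Presieve X), R ∈ Scheme.fppfPrecoverage X →
      (∀ {U : Scheme.{u}} (g : U ⟶ X), R g → P (g ≫ f)) → P f)
    {ι : Type u} {X Y : AlgSp.Sp S} (Xi : ι → AlgSp.Sp S) (g : ∀ i, Xi i ⟶ X)
    (hX : AlgSp.IsAlgSpace X) (hXi : ∀ i, AlgSp.IsAlgSpace (Xi i))
    (hcov : AlgSp.IsFppfCover Xi g) (f : X ⟶ Y) (h : ∀ i, AlgSp.LocP P (g i ≫ f)) :
    AlgSp.LocP P f := by
  refine locP_of_chartData' P (@Flat ⊓ @LocallyOfFinitePresentation)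
    (Scheme.precoverage (@Flat ⊓ @LocallyOfFinitePresentation)) hdesc Xi g
    (fun i U V a b h ha hb hc => ⟨(hcov.1 i).1 a b h ha hb hc, (hcov.1 i).2 a b h ha hb hc⟩)
    (fun a ha D hQe => (Scheme.ofArrows_mem_precoverage_iff _).mpr
        ⟨D.jointly_surjective hcov.2, hQe⟩)
    (fun a => exists_chartData hX Xi hXi g a) f h

end Groth.Agent.Lib.Helper15FppfSrc2
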