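-- helper15: an algebraic space over an affine scheme that becomes an affine scheme after a flat surjective affine base change is an affine scheme.
import Mathlib
import Groth.Prelude.Def_AlgSp
import Groth.Prelude.Def_Desc
import Groth.Prelude.Def_AlgSpCov
import Groth.Agent.Lib.Helper15EffDescA
import Groth.Agent.Lib.Helper15EffDescB
import Groth.Agent.Lib.Helper15AffDescCore
import Groth.Agent.Lib.Helper15FpqcImm
import Groth.Agent.Lib.Helper15LocEss
import Groth.Agent.S9927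

set_option autoImplicit false
open CategoryTheory CategoryTheory.Limits AlgebraicGeometry Opposite

universe u

namespace Groth.Agent.Lib.Helper15FpqcAffDesc

open Groth.Agent.Lib.Helper15EffDescA Groth.Agent.Lib.Helper15EffDescB Groth.Agent.Lib.Helper9
open Groth.Agent.Lib.Helper15AffDescCore

variable {S : Scheme.{u}} {T T' X' : Over S} {p : T' ⟶ T} {x' : X' ⟶ T'} {E : AlgSp.Sp S}
  {e₂ : E ⟶ (AlgSp.yon S).obj T} {θ : (AlgSp.yon S).obj X' ⟶ E}
  (sqθ : IsPullback θ ((AlgSp.yon S).map x') e₂ ((AlgSp.yon S).map p))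

include sqθ in
/-- related points have the same image under the invariant morphism. -/
lemma q_eq_of_rel {Z₀ : Scheme.{u}} (v₁ v₂ : Z₀ ⟶ X'.left)
    (hx : (v₁ ≫ x'.left) ≫ p.left = (v₂ ≫ x'.left) ≫ p.left) (hr : Rel θ v₁ v₂) :
    v₁ ≫ q (dd sqθ) = v₂ ≫ q (dd sqθ) := by
  have h : (v₁ ≫ (dd sqθ).obj.hom) ≫ p.left = (v₂ ≫ x'.left) ≫ p.left := hx
  have h1 : tr (dd sqθ) (v₂ ≫ x'.left) v₁ h ≫ x'.left = v₂ ≫ x'.left := tr_hom (dd sqθ) _ _ h
  have hrel : Rel θ v₁ (tr (dd sqθ) (v₂ ≫ x'.left) v₁ h) :=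
    dd_φ_rel sqθ (v₁ ≫ x'.left) (v₂ ≫ x'.left) hx ⟨v₁, rfl⟩
  have hX' : tr (dd sqθ) (v₂ ≫ x'.left) v₁ h ≫ X'.hom = v₁ ≫ X'.hom :=
    (lifts_hom_eq hx ⟨v₁, rfl⟩ ((dd sqθ).φ (v₁ ≫ x'.left) (v₂ ≫ x'.left) hx ⟨v₁, rfl⟩)).symm
  have h2 : tr (dd sqθ) (v₂ ≫ x'.left) v₁ h = v₂ :=
    eq_of_rel sqθ h1 (rel_trans hX' (rel_symm hrel) hr)
  have := tr_q (dd sqθ) (v₂ ≫ x'.left) v₁ h
  rw [h2] at this
  exact this.symm


include sqθ in
/-- the invariant morphism to the affine scheme of invariants. -/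
lemma exists_invariant [Flat p.left] [IsAffine T.left] [IsAffine T'.left] [IsAffine X'.left] :
    ∃ (W₀ : Over T.left) (q₀ : X'.left ⟶ W₀.left), IsAffine W₀.left ∧
      IsPullback x'.left q₀ p.left W₀.hom ∧
      ∀ {Z₀ : Scheme.{u}} (v₁ v₂ : Z₀ ⟶ X'.left),
        (v₁ ≫ x'.left) ≫ p.left = (v₂ ≫ x'.left) ≫ p.left → Rel θ v₁ v₂ → v₁ ≫ q₀ = v₂ ≫ q₀ := by
  have hDaff : IsAffine (dd sqθ).obj.left := ‹IsAffine X'.left›
  refine ⟨U (dd sqθ), q (dd sqθ), ?_, isPullback_q (dd sqθ), fun v₁ v₂ hx hr => q_eq_of_rel sqθ v₁ v₂ hx hr⟩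
  change IsAffine (Spec _)
  infer_instance

include sqθ in
/-- An algebraic space over an affine scheme whose base change along a flat surjective morphism
of affine schemes is an affine scheme, is an affine scheme. -/
theorem exists_affine_rep_fpqc (hE : AlgSp.IsAlgSpace E) [Surjective p.left] [Flat p.left]
    [IsAffine T.left] [IsAffine T'.left] [IsAffine X'.left] :
    ∃ (W₀ : Over T.left) (q₀ : X'.left ⟶ W₀.left), IsAffine W₀.left ∧
      IsPullback x'.left q₀ p.left W₀.hom ∧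
      ∃ ψ : E ⟶ (AlgSp.yon S).obj (Wobj W₀), IsIso ψ ∧
        ψ ≫ (AlgSp.yon S).map (wmap W₀) = e₂ := by
  obtain ⟨W₀, q₀, hW₀aff, hpb, hinv⟩ := exists_invariant sqθ
  have hqO : q₀ ≫ (Wobj W₀).hom = X'.hom := by
    change q₀ ≫ W₀.hom ≫ T.hom = X'.hom
    rw [← Category.assoc, ← hpb.w, Category.assoc, Over.w p, Over.w x']
  obtain ⟨qO, hqOdef⟩ : ∃ qO : X' ⟶ Wobj W₀, qO = Over.homMk q₀ hqO := ⟨_, rfl⟩
  have hqOl : qO.left = q₀ := by rw [hqOdef]; rfl
  have sqO : IsPullback x' qO p (wmap W₀) := by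
    refine IsPullback.of_map (Over.forget S) ?_ ?_
    · apply Over.OverMorphism.ext
      simp only [Over.comp_left, wmap_left, hqOl]
      exact hpb.w
    · change IsPullback x'.left qO.left p.left W₀.hom
      rw [hqOl]
      exact hpb
  have sqY := sqO.map (AlgSp.yon S)
  -- the atlas
  obtain ⟨V, a, haEt, haSurj⟩ := hE.atlas
  have hepi : Epi a := Groth.Agent.S9927.epi_of_repWith a haEt haSurj
  obtain ⟨V', vA, pV', sqV'⟩ := haEt.1 θ
  obtain ⟨pV, rfl⟩ := (AlgSp.yon S).map_surjective pV'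
  have hvAet : Etale vA.left := haEt.2 θ _ vA sqV'
  have hvAsurj : Surjective vA.left := haSurj.2 θ _ vA sqV'
  obtain ⟨fV, hfV⟩ := (AlgSp.yon S).map_surjective (a ≫ e₂)
  have bigY : IsPullback ((AlgSp.yon S).map (vA ≫ x')) ((AlgSp.yon S).map pV)
      ((AlgSp.yon S).map p) ((AlgSp.yon S).map fV) := by
    rw [Functor.map_comp, hfV]
    exact sqV'.flip.paste_horiz sqθ.flip
  have bigO : IsPullback (vA ≫ x') pV p fV :=
    IsPullback.of_map (AlgSp.yon S) (by
      apply (AlgSp.yon S).map_injective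
      rw [Functor.map_comp, Functor.map_comp]
      exact bigY.w) bigY
  have bigS : IsPullback (vA.left ≫ x'.left) pV.left p.left fV.left := bigO.map (Over.forget S)
  have hpVflat : Flat pV.left := MorphismProperty.of_isPullback (P := @Flat) bigS inferInstance
  have hpVsurj : Surjective pV.left :=
    MorphismProperty.of_isPullback (P := @Surjective) bigS inferInstance
  have hpVqc : QuasiCompact pV.left :=
    MorphismProperty.of_isPullback (P := @QuasiCompact) bigS inferInstance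
  have hEE : EffectiveEpi pV.left := inferInstance
  have hw : vA.left ≫ x'.left ≫ p.left = pV.left ≫ fV.left := by
    have := bigS.w
    simpa only [Category.assoc] using this
  have hpVepi : Epi pV.left := inferInstance
  -- relatedness of points with the same image in `E`
  have hrel : ∀ (Z : Over S) (t₁ t₂ : Z ⟶ V),
      (AlgSp.yon S).map t₁ ≫ a = (AlgSp.yon S).map t₂ ≫ a →
      ∀ {Z₀ : Scheme.{u}} (r : Z₀ ⟶ Z.left) (g₁ g₂ : Z₀ ⟶ V'.left),
        g₁ ≫ pV.left = r ≫ t₁.left → g₂ ≫ pV.left = r ≫ t₂.left →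
        Rel θ (g₁ ≫ vA.left) (g₂ ≫ vA.left) := by
    intro Z t₁ t₂ ht Z₀ r g₁ g₂ h₁ h₂ Z₂ b b' c hb hb'
    have hβ₁ : (c ≫ g₁) ≫ V'.hom = Z₂.hom := by
      rw [← Over.w vA, ← Category.assoc, Category.assoc c, ← hb]
      exact Over.w b
    have hβ₂ : (c ≫ g₂) ≫ V'.hom = Z₂.hom := by
      rw [← Over.w vA, ← Category.assoc, Category.assoc c, ← hb']
      exact Over.w b'
    obtain ⟨β₁, hβ₁d⟩ : ∃ β₁ : Z₂ ⟶ V', β₁ = Over.homMk (c ≫ g₁) hβ₁ := ⟨_, rfl⟩
    obtain ⟨β₂, hβ₂d⟩ : ∃ β₂ : Z₂ ⟶ V', β₂ = Over.homMk (c ≫ g₂) hβ₂ := ⟨_, rfl⟩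
    have hβ₁l : β₁.left = c ≫ g₁ := by rw [hβ₁d]; rfl
    have hβ₂l : β₂.left = c ≫ g₂ := by rw [hβ₂d]; rfl
    have e1 : b = β₁ ≫ vA := by
      apply Over.OverMorphism.ext
      rw [Over.comp_left, hβ₁l, hb, Category.assoc]
    have e2 : b' = β₂ ≫ vA := by
      apply Over.OverMorphism.ext
      rw [Over.comp_left, hβ₂l, hb', Category.assoc]
    have hγ : (c ≫ r) ≫ Z.hom = Z₂.hom := by
      rw [← Over.w t₁, ← Category.assoc, Category.assoc c, ← h₁, ← Category.assoc,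
        Category.assoc, Over.w pV]
      exact hβ₁
    obtain ⟨γ, hγd⟩ : ∃ γ : Z₂ ⟶ Z, γ = Over.homMk (c ≫ r) hγ := ⟨_, rfl⟩
    have hγl : γ.left = c ≫ r := by rw [hγd]; rfl
    have e3 : β₁ ≫ pV = γ ≫ t₁ := by
      apply Over.OverMorphism.ext
      rw [Over.comp_left, Over.comp_left, hβ₁l, hγl, Category.assoc, Category.assoc, h₁]
    have e4 : β₂ ≫ pV = γ ≫ t₂ := by
      apply Over.OverMorphism.ext
      rw [Over.comp_left, Over.comp_left, hβ₂l, hγl, Category.assoc, Category.assoc, h₂]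
    rw [e1, e2, Functor.map_comp, Functor.map_comp, Category.assoc, Category.assoc, ← sqV'.w,
      ← Category.assoc, ← Category.assoc, ← Functor.map_comp, ← Functor.map_comp, e3, e4,
      Functor.map_comp, Functor.map_comp, Category.assoc, Category.assoc, ht]
  -- the morphism `m`
  have hcompat : ∀ {Z₀ : Scheme.{u}} (g₁ g₂ : Z₀ ⟶ V'.left), g₁ ≫ pV.left = g₂ ≫ pV.left →
      g₁ ≫ vA.left ≫ q₀ = g₂ ≫ vA.left ≫ q₀ := by
    intro Z₀ g₁ g₂ h
    have hR : Rel θ (g₁ ≫ vA.left) (g₂ ≫ vA.left) :=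
      hrel (Over.mk ((g₁ ≫ pV.left) ≫ V.hom)) (Over.homMk (g₁ ≫ pV.left) rfl)
        (Over.homMk (g₁ ≫ pV.left) rfl) rfl (𝟙 _) g₁ g₂ (Category.id_comp _).symm
        (by rw [← h]; exact (Category.id_comp _).symm)
    have hx : ((g₁ ≫ vA.left) ≫ x'.left) ≫ p.left = ((g₂ ≫ vA.left) ≫ x'.left) ≫ p.left := by
      simp only [Category.assoc]
      rw [hw, ← Category.assoc, h, Category.assoc, ← hw]
    have := hinv _ _ hx hR
    rw [← Category.assoc, this, Category.assoc]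
  obtain ⟨m, hm⟩ : ∃ m : V.left ⟶ W₀.left, pV.left ≫ m = vA.left ≫ q₀ :=
    ⟨EffectiveEpi.desc pV.left (vA.left ≫ q₀) (fun g₁ g₂ h => hcompat g₁ g₂ h),
      EffectiveEpi.fac _ _ _⟩
  have hmW : m ≫ W₀.hom = fV.left := by
    rw [← cancel_epi pV.left, ← Category.assoc, hm, Category.assoc, ← hpb.w, ← Category.assoc]
    exact bigS.w
  have hmO : m ≫ (Wobj W₀).hom = V.hom := by
    change m ≫ W₀.hom ≫ T.hom = V.hom
    rw [← Category.assoc, hmW, Over.w fV]
  obtain ⟨mO, hmOdef⟩ : ∃ mO : V ⟶ Wobj W₀, mO = Over.homMk m hmO := ⟨_, rfl⟩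
  have hmOl : mO.left = m := by rw [hmOdef]; rfl
  have hmOw : mO ≫ wmap W₀ = fV := by
    apply Over.OverMorphism.ext
    rw [Over.comp_left, hmOl, wmap_left]
    exact hmW
  have hpm : pV ≫ mO = vA ≫ qO := by
    apply Over.OverMorphism.ext
    rw [Over.comp_left, Over.comp_left, hmOl, hqOl]
    exact hm
  -- the morphism `ψ`
  obtain ⟨ψ, hψ⟩ := ToposLike.exists_desc_of_epi a hepi ((AlgSp.yon S).map mO) (by
    intro A a₁ a₂ h12
    refine Groth.Agent.Lib.Helper12.EqvRelSp.hom_ext_yon _ _ (fun Z z => ?_)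
    obtain ⟨t₁, ht₁⟩ := (AlgSp.yon S).map_surjective (z ≫ a₁)
    obtain ⟨t₂, ht₂⟩ := (AlgSp.yon S).map_surjective (z ≫ a₂)
    have ht : (AlgSp.yon S).map t₁ ≫ a = (AlgSp.yon S).map t₂ ≫ a := by
      rw [ht₁, ht₂, Category.assoc, Category.assoc, h12]
    have htf : t₁ ≫ fV = t₂ ≫ fV := by
      apply (AlgSp.yon S).map_injective
      rw [Functor.map_comp, Functor.map_comp, hfV, ← Category.assoc, ← Category.assoc, ht]
    have htfl : t₁.left ≫ fV.left = t₂.left ≫ fV.left := by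
      have := congrArg CommaMorphism.left htf
      simpa only [Over.comp_left] using this
    have key : t₁ ≫ mO = t₂ ≫ mO := by
      obtain ⟨r, hrdef⟩ : ∃ r : pullback (t₁.left ≫ fV.left) p.left ⟶ Z.left,
          r = pullback.fst (t₁.left ≫ fV.left) p.left := ⟨_, rfl⟩
      obtain ⟨s, hsdef⟩ : ∃ s : pullback (t₁.left ≫ fV.left) p.left ⟶ T'.left,
          s = pullback.snd (t₁.left ≫ fV.left) p.left := ⟨_, rfl⟩
      have hrs : r ≫ t₁.left ≫ fV.left = s ≫ p.left := by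
        rw [hrdef, hsdef]; exact pullback.condition
      have hrflat : Flat r := by rw [hrdef]; infer_instance
      have hrsurj : Surjective r := by rw [hrdef]; infer_instance
      have hrqc : QuasiCompact r := by rw [hrdef]; infer_instance
      have hrEE : EffectiveEpi r := inferInstance
      have hrepi : Epi r := inferInstance
      have c₁ : s ≫ p.left = (r ≫ t₁.left) ≫ fV.left := by rw [Category.assoc, hrs]
      have c₂ : s ≫ p.left = (r ≫ t₂.left) ≫ fV.left := by rw [Category.assoc, ← htfl, hrs]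
      have hR : Rel θ (bigS.lift s (r ≫ t₁.left) c₁ ≫ vA.left)
          (bigS.lift s (r ≫ t₂.left) c₂ ≫ vA.left) :=
        hrel Z t₁ t₂ ht r _ _ (bigS.lift_snd _ _ _) (bigS.lift_snd _ _ _)
      have heq : bigS.lift s (r ≫ t₁.left) c₁ ≫ vA.left =
          bigS.lift s (r ≫ t₂.left) c₂ ≫ vA.left :=
        eq_of_rel sqθ (by
          rw [Category.assoc, Category.assoc, bigS.lift_fst, bigS.lift_fst]) hR
      have key' : t₁.left ≫ m = t₂.left ≫ m := by
        rw [← cancel_epi r, ← Category.assoc,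
          ← bigS.lift_snd s (r ≫ t₁.left) c₁, ← Category.assoc r,
          ← bigS.lift_snd s (r ≫ t₂.left) c₂, Category.assoc, Category.assoc, hm,
          ← Category.assoc, ← Category.assoc, heq]
      apply Over.OverMorphism.ext
      rw [Over.comp_left, Over.comp_left, hmOl]
      exact key'
    rw [← Category.assoc, ← Category.assoc, ← ht₁, ← ht₂, ← Functor.map_comp,
      ← Functor.map_comp, key])
  have hψw : ψ ≫ (AlgSp.yon S).map (wmap W₀) = e₂ := by
    rw [← cancel_epi a, ← Category.assoc, hψ, ← Functor.map_comp, hmOw, hfV]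
  have hvAepi : Epi ((AlgSp.yon S).map vA) :=
    Groth.Agent.S9927.epi_of_repWith _ ((AlgSp.repWith_yon_map_iff _ _).2 hvAet)
      ((AlgSp.repWith_yon_map_iff _ _).2 hvAsurj)
  have hθψ : θ ≫ ψ = (AlgSp.yon S).map qO := by
    rw [← cancel_epi ((AlgSp.yon S).map vA), ← Category.assoc, ← sqV'.w, Category.assoc, hψ,
      ← Functor.map_comp, ← Functor.map_comp, hpm]
  have sqψ : IsPullback θ (𝟙 _) ψ ((AlgSp.yon S).map qO) := by
    refine IsPullback.of_bot ?_ (by rw [hθψ, Category.id_comp]) sqY.flip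
    rw [Category.id_comp, hψw]
    exact sqθ
  -- the covering
  have hq₀flat : Flat qO.left := by
    rw [hqOl]
    exact MorphismProperty.of_isPullback (P := @Flat) hpb inferInstance
  have hq₀surj : Surjective q₀ :=
    MorphismProperty.of_isPullback (P := @Surjective) hpb inferInstance
  have hq₀flat' : Flat q₀ := by rw [← hqOl]; exact hq₀flat
  have hcov : AlgSp.IsFpqcCover (fun _ : PUnit.{u+1} => (AlgSp.yon S).obj X')
      (fun _ => (AlgSp.yon S).map qO) := by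
    refine ⟨fun _ => Groth.Agent.Lib.Helper15LocEss.locP_yon_map_of_flat qO hq₀flat,
      fun Z hZ h => ?_⟩
    obtain ⟨k, rfl⟩ := (AlgSp.yon S).map_surjective h
    have : IsAffine Z.left := hZ
    obtain ⟨kl, hkl⟩ : ∃ kl : Z.left ⟶ W₀.left, kl = k.left := ⟨_, rfl⟩
    have hk : kl ≫ W₀.hom ≫ T.hom = Z.hom := by rw [hkl]; exact Over.w k
    have hqO' : q₀ ≫ W₀.hom ≫ T.hom = X'.hom := hqO
    have hl : pullback.snd kl q₀ ≫ X'.hom =
        (Over.mk (pullback.fst kl q₀ ≫ Z.hom)).hom := by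
      change _ = pullback.fst kl q₀ ≫ Z.hom
      rw [← hqO', ← hk, ← Category.assoc, ← Category.assoc (pullback.fst kl q₀),
        pullback.condition]
    refine ⟨1, fun _ => Over.mk (pullback.fst kl q₀ ≫ Z.hom),
      fun _ => Over.homMk (pullback.fst kl q₀) rfl, fun _ => ?_, fun _ => ?_, fun z => ?_,
      fun _ => ⟨PUnit.unit, (AlgSp.yon S).map (Over.homMk (pullback.snd kl q₀) hl), ?_⟩⟩
    · change IsAffine (pullback kl q₀)
      infer_instance
    · change Flat (pullback.fst kl q₀)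
      infer_instance
    · obtain ⟨y, hy⟩ := (inferInstance : Surjective (pullback.fst kl q₀)).surj z
      exact ⟨0, y, hy⟩
    · rw [← Functor.map_comp, ← Functor.map_comp]
      congr 1
      apply Over.OverMorphism.ext
      rw [Over.comp_left, Over.comp_left, hqOl, ← hkl]
      exact pullback.condition.symm
  have hWalg := AlgSp.IsAlgSpace.yon_obj (Wobj W₀)
  have hiso := (Groth.Agent.Lib.Helper15FpqcImm.isLocalOnBase_fpqc_isomorphisms
    (fun _ : PUnit.{u+1} => (AlgSp.yon S).obj X') (fun _ => (AlgSp.yon S).map qO) hWalg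
    (fun _ => AlgSp.IsAlgSpace.yon_obj X') hcov ψ hE (fun _ => (AlgSp.yon S).obj X')
    (fun _ => 𝟙 _) (fun _ => θ) (fun _ => AlgSp.IsAlgSpace.yon_obj X') (fun _ => sqψ)).2
    (fun _ => (inferInstance : IsIso (𝟙 ((AlgSp.yon S).obj X'))))
  exact ⟨W₀, q₀, hW₀aff, hpb, ψ, hiso, hψw⟩

end Groth.Agent.Lib.Helper15FpqcAffDesc
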