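-- helper15: a finite disjoint union of quasi-affine schemes is quasi-affine.
import Mathlib

set_option autoImplicit false
open CategoryTheory CategoryTheory.Limits AlgebraicGeometry

universe u

namespace Groth.Agent.Lib.Helper15QAffSigma

open scoped Function in
/-- A finite disjoint union of quasi-affine schemes is quasi-affine. -/
theorem isQuasiAffine_sigma {σ : Type u} [Finite σ] (A : σ → Scheme.{u})
    [∀ j, (A j).IsQuasiAffine] : (∐ A).IsQuasiAffine := by
  have hc : CompactSpace ↥(∐ A) := (sigmaMk A).compactSpace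
  have hoi : ∀ j, IsOpenImmersion ((A j).toSpecΓ ≫ Sigma.ι (fun j => Spec Γ(A j, ⊤)) j) :=
    fun j => inferInstance
  have : IsOpenImmersion
      (Sigma.desc fun j => (A j).toSpecΓ ≫ Sigma.ι (fun j => Spec Γ(A j, ⊤)) j) := by
    refine isOpenImmersion_sigmaDesc A _ (fun i j hij => ?_)
    have h := disjoint_opensRange_sigmaι (fun j => Spec Γ(A j, ⊤)) i j hij
    rw [Function.onFun_apply]
    refine Set.disjoint_of_subset ?_ ?_
      (by simpa [disjoint_iff, TopologicalSpace.Opens.ext_iff] using h :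
        Disjoint (Set.range (Sigma.ι (fun j => Spec Γ(A j, ⊤)) i))
          (Set.range (Sigma.ι (fun j => Spec Γ(A j, ⊤)) j)))
    · rintro _ ⟨x, rfl⟩
      exact ⟨(A i).toSpecΓ x, by simp⟩
    · rintro _ ⟨x, rfl⟩
      exact ⟨(A j).toSpecΓ x, by simp⟩
  have : IsImmersion
      (Sigma.desc fun j => (A j).toSpecΓ ≫ Sigma.ι (fun j => Spec Γ(A j, ⊤)) j) := inferInstance
  exact Scheme.IsQuasiAffine.of_isImmersion
    (Sigma.desc fun j => (A j).toSpecΓ ≫ Sigma.ι (fun j => Spec Γ(A j, ⊤)) j)

end Groth.Agent.Lib.Helper15QAffSigma
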