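-- helper15: quasi-affine morphisms of algebraic spaces are fpqc local on the base.
import Mathlib
import Groth.Prelude.Def_AlgSp
import Groth.Prelude.Def_AlgSpCov
import Groth.Agent.Lib.Helper15FpqcRepInv
import Groth.Agent.Lib.Helper15QAffDescCore
import Groth.Agent.Lib.Helper15QAffSigma
import Groth.Agent.Lib.Helper13AffCrit
import Groth.Agent.S9874

set_option autoImplicit false
open CategoryTheory CategoryTheory.Limits AlgebraicGeometry Opposite

universe u

namespace Groth.Agent.Lib.Helper15FpqcQAff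

open Groth.Agent.Lib.Helper15EffDescA Groth.Agent.Lib.Helper15EffDescB Groth.Agent.Lib.Helper9
open Groth.Agent.Lib.Helper15AffDescCore
open Groth.Agent.S13210 Groth.Agent.Lib.Helper12.OpenCoverSp Groth.Agent.Lib.Helper12.CoprodSp
open Groth.Agent.Helper13AffCrit

section Rep

variable {S : Scheme.{u}} {T T' X' : Over S} {p : T' ⟶ T} {x' : X' ⟶ T'} {E : AlgSp.Sp S}
  {e₂ : E ⟶ (AlgSp.yon S).obj T} {θ : (AlgSp.yon S).obj X' ⟶ E}
  (sqθ : IsPullback θ ((AlgSp.yon S).map x') e₂ ((AlgSp.yon S).map p))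

include sqθ in
/-- An algebraic space over an affine scheme whose base change along a flat surjective morphism
of affine schemes is a quasi-affine scheme, is a quasi-affine scheme. -/
theorem exists_qaff_rep_fpqc (hE : AlgSp.IsAlgSpace E) [Surjective p.left] [Flat p.left]
    [IsAffine T.left] [IsAffine T'.left] [X'.left.IsQuasiAffine] :
    ∃ (W₀ : Over T.left) (q₀ : X'.left ⟶ W₀.left), W₀.left.IsQuasiAffine ∧
      IsPullback x'.left q₀ p.left W₀.hom ∧
      ∃ ψ : E ⟶ (AlgSp.yon S).obj (Wobj W₀), IsIso ψ ∧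
        ψ ≫ (AlgSp.yon S).map (wmap W₀) = e₂ := by
  have hDq : (dd sqθ).obj.left.IsQuasiAffine := ‹X'.left.IsQuasiAffine›
  refine ⟨Helper15QAffDescCore.UW (dd sqθ), Helper15QAffDescCore.qW (dd sqθ),
    Helper15QAffDescCore.isQuasiAffine_UW (dd sqθ), Helper15QAffDescCore.isPullback_qW (dd sqθ), ?_⟩
  exact Helper15FpqcRepInv.rep_of_invariant sqθ hE (Helper15QAffDescCore.UW (dd sqθ))
    (Helper15QAffDescCore.qW (dd sqθ)) (Helper15QAffDescCore.isPullback_qW (dd sqθ))
    (fun v₁ v₂ hx hr => Helper15FpqcRepInv.eq_of_rel_of_invariant sqθ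
      (Helper15QAffDescCore.qW (dd sqθ))
      (fun _ x₁ v h => Helper15QAffDescCore.tr_qW (dd sqθ) x₁ v h) v₁ v₂ hx hr)

end Rep

section Crit

variable {S : Scheme.{u}}

/-- the affine criterion for fpqc locality on the base, with the condition on disjoint unions
only asked over disjoint unions of affine schemes. -/
theorem isLocalOnBase_of_affine_criterion' (P : MorphismProperty (AlgSp.Sp S))
    (h1 : ∀ (m : ℕ) (W' : Fin m → Over S), (∀ j, IsAffine (W' j).left) →
      ∀ (Xi : ULift.{u} (Fin m) → AlgSp.Sp S)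
        (fi : ∀ j, Xi j ⟶ (AlgSp.yon S).obj (W' j.down)) (cX : Cofan Xi) (_ : IsColimit cX)
        (mm : cX.pt ⟶ (AlgSp.yon S).obj (sigmaOver (fun j : ULift.{u} (Fin m) => W' j.down))),
        (∀ j, AlgSp.IsAlgSpace (Xi j)) → AlgSp.IsAlgSpace cX.pt →
        (∀ j, cX.inj j ≫ mm = fi j ≫
          (AlgSp.yon S).map (sigmaι (fun j : ULift.{u} (Fin m) => W' j.down) j)) →
        (∀ j, P (fi j)) → P mm)
    (h2 : ∀ ⦃X Y : AlgSp.Sp S⦄, AlgSp.IsAlgSpace X → AlgSp.IsAlgSpace Y → ∀ (f : X ⟶ Y),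
      P f ↔ ∀ (Z : Over S), IsAffine Z.left → ∀ (g : (AlgSp.yon S).obj Z ⟶ Y) (W : AlgSp.Sp S)
        (fst : W ⟶ X) (snd : W ⟶ (AlgSp.yon S).obj Z), AlgSp.IsAlgSpace W →
        IsPullback fst snd f g → P snd)
    (h3 : ∀ ⦃Z Z' : Over S⦄ (c : Z' ⟶ Z), IsAffine Z.left → IsAffine Z'.left → Surjective c.left →
      Flat c.left →
      ∀ ⦃X X' : AlgSp.Sp S⦄ (f : X ⟶ (AlgSp.yon S).obj Z) (fst : X' ⟶ X)
        (f' : X' ⟶ (AlgSp.yon S).obj Z'),
        AlgSp.IsAlgSpace X → AlgSp.IsAlgSpace X' → IsPullback fst f' f ((AlgSp.yon S).map c) →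
        P f' → P f) :
    AlgSp.IsLocalOnBase (AlgSp.IsFpqcCover (S := S)) P := by
  intro ι Y Yi g hY hYi hcov X f hX Xi p q hXi sq
  constructor
  · intro hf i
    refine (h2 (hXi i) (hYi i) (p i)).2 fun Z hZ gz W fst snd hW hpb => ?_
    exact (h2 hX hY f).1 hf Z hZ (gz ≫ g i) W (fst ≫ q i) snd hW (hpb.paste_horiz (sq i))
  · intro H
    refine (h2 hX hY f).2 fun Z hZ gz W fst snd hW hpb => ?_
    obtain ⟨m, W', c, hW'a, hcfl, hcs, hl⟩ := hcov.2 Z hZ gz
    choose i0 l hl using hl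
    -- the disjoint union of the standard covering
    have hcw : Limits.Sigma.desc (fun j : ULift.{u} (Fin m) => (c j.down).left) ≫ Z.hom =
        (sigmaOver (fun j : ULift.{u} (Fin m) => W' j.down)).hom := by
      apply Limits.Sigma.hom_ext
      intro j
      rw [Limits.Sigma.ι_desc_assoc, Over.w]
      simp [sigmaOver]
    obtain ⟨cZ, hcZdef⟩ : ∃ cZ : sigmaOver (fun j : ULift.{u} (Fin m) => W' j.down) ⟶ Z,
        cZ = Over.homMk (Limits.Sigma.desc (fun j : ULift.{u} (Fin m) => (c j.down).left)) hcw :=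
      ⟨_, rfl⟩
    have hcZ : ∀ j : ULift.{u} (Fin m),
        sigmaι (fun j : ULift.{u} (Fin m) => W' j.down) j ≫ cZ = c j.down := by
      intro j
      apply Over.OverMorphism.ext
      rw [hcZdef, Over.comp_left]
      simp only [sigmaι, Over.homMk_left]
      exact Limits.Sigma.ι_desc _ _
    have hZ'a : IsAffine (sigmaOver (fun j : ULift.{u} (Fin m) => W' j.down)).left := by
      have : ∀ j : ULift.{u} (Fin m), IsAffine (W' j.down).left := fun j => hW'a j.down
      show IsAffine (∐ fun j : ULift.{u} (Fin m) => (W' j.down).left)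
      infer_instance
    have hcZfl : Flat cZ.left := by
      rw [hcZdef]
      exact IsZariskiLocalAtSource.sigmaDesc (P := @Flat) (fun j => hcfl j.down)
    have hcZs : Surjective cZ.left := by
      refine ⟨fun z => ?_⟩
      obtain ⟨j, w, hw⟩ := hcs z
      refine ⟨(Limits.Sigma.ι (fun j : ULift.{u} (Fin m) => (W' j.down).left) ⟨j⟩) w, ?_⟩
      rw [hcZdef]
      show (Limits.Sigma.desc (fun j : ULift.{u} (Fin m) => (c j.down).left))
        ((Limits.Sigma.ι (fun j : ULift.{u} (Fin m) => (W' j.down).left) ⟨j⟩) w) = z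
      rw [← Scheme.Hom.comp_apply, Limits.Sigma.ι_desc]
      exact hw
    have hW'' : AlgSp.IsAlgSpace (pullback snd ((AlgSp.yon S).map cZ)) :=
      Groth.Agent.S9874.isAlgSpace_of_isPullback (AlgSp.IsAlgSpace.yon_obj Z).diag hW
        (AlgSp.IsAlgSpace.yon_obj _) (IsPullback.of_hasPullback _ _)
    refine h3 cZ hZ hZ'a hcZs hcZfl snd (pullback.fst snd ((AlgSp.yon S).map cZ))
      (pullback.snd snd ((AlgSp.yon S).map cZ)) hW hW'' (IsPullback.of_hasPullback _ _) ?_
    -- the members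
    have hXi' : ∀ j : ULift.{u} (Fin m),
        AlgSp.IsAlgSpace (pullback (p (i0 j.down)) (l j.down)) := fun j =>
      Groth.Agent.S9874.isAlgSpace_of_isPullback (hYi (i0 j.down)).diag (hXi (i0 j.down))
        (AlgSp.IsAlgSpace.yon_obj _) (IsPullback.of_hasPullback _ _)
    have hPfi : ∀ j : ULift.{u} (Fin m), P (pullback.snd (p (i0 j.down)) (l j.down)) := fun j =>
      (h2 (hXi (i0 j.down)) (hYi (i0 j.down)) (p (i0 j.down))).1 (H (i0 j.down)) (W' j.down)
        (hW'a j.down) (l j.down) _ _ _ (hXi' j) (IsPullback.of_hasPullback _ _)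
    -- the maps to `W`
    have bigj : ∀ j : ULift.{u} (Fin m),
        IsPullback (pullback.fst (p (i0 j.down)) (l j.down) ≫ q (i0 j.down))
          (pullback.snd (p (i0 j.down)) (l j.down)) f
          ((AlgSp.yon S).map (c j.down) ≫ gz) := by
      intro j
      rw [← hl j.down]
      exact (IsPullback.of_hasPullback _ _).paste_horiz (sq (i0 j.down))
    have hwr : ∀ j : ULift.{u} (Fin m),
        (pullback.fst (p (i0 j.down)) (l j.down) ≫ q (i0 j.down)) ≫ f =
          (pullback.snd (p (i0 j.down)) (l j.down) ≫ (AlgSp.yon S).map (c j.down)) ≫ gz := by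
      intro j
      rw [Category.assoc _ _ gz]
      exact (bigj j).w
    obtain ⟨r, hr⟩ : ∃ r : ∀ j : ULift.{u} (Fin m), pullback (p (i0 j.down)) (l j.down) ⟶ W,
        r = fun j => hpb.lift _ _ (hwr j) := ⟨_, rfl⟩
    have hr1 : ∀ j, r j ≫ fst = pullback.fst (p (i0 j.down)) (l j.down) ≫ q (i0 j.down) := by
      intro j; rw [hr]; exact hpb.lift_fst _ _ _
    have hr2 : ∀ j, r j ≫ snd =
        pullback.snd (p (i0 j.down)) (l j.down) ≫ (AlgSp.yon S).map (c j.down) := by
      intro j; rw [hr]; exact hpb.lift_snd _ _ _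
    have hwi : ∀ j : ULift.{u} (Fin m), r j ≫ snd =
        (pullback.snd (p (i0 j.down)) (l j.down) ≫
          (AlgSp.yon S).map (sigmaι (fun j : ULift.{u} (Fin m) => W' j.down) j)) ≫
          (AlgSp.yon S).map cZ := by
      intro j
      rw [hr2, Category.assoc, ← Functor.map_comp, hcZ]
    obtain ⟨inj, hinj⟩ : ∃ inj : ∀ j : ULift.{u} (Fin m), pullback (p (i0 j.down)) (l j.down) ⟶
        pullback snd ((AlgSp.yon S).map cZ), inj = fun j => pullback.lift _ _ (hwi j) := ⟨_, rfl⟩
    have hinj1 : ∀ j, inj j ≫ pullback.fst snd ((AlgSp.yon S).map cZ) = r j := by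
      intro j; rw [hinj]; exact pullback.lift_fst _ _ _
    have hinj2 : ∀ j, inj j ≫ pullback.snd snd ((AlgSp.yon S).map cZ) =
        pullback.snd (p (i0 j.down)) (l j.down) ≫
          (AlgSp.yon S).map (sigmaι (fun j : ULift.{u} (Fin m) => W' j.down) j) := by
      intro j; rw [hinj]; exact pullback.lift_snd _ _ _
    -- the squares
    have bigW : IsPullback (pullback.fst snd ((AlgSp.yon S).map cZ) ≫ fst)
        (pullback.snd snd ((AlgSp.yon S).map cZ)) f ((AlgSp.yon S).map cZ ≫ gz) :=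
      (IsPullback.of_hasPullback snd ((AlgSp.yon S).map cZ)).paste_horiz hpb
    have sqj : ∀ j : ULift.{u} (Fin m),
        IsPullback (inj j) (pullback.snd (p (i0 j.down)) (l j.down))
          (pullback.snd snd ((AlgSp.yon S).map cZ))
          ((AlgSp.yon S).map (sigmaι (fun j : ULift.{u} (Fin m) => W' j.down) j)) := by
      intro j
      refine IsPullback.of_right ?_ (hinj2 j) bigW
      rw [← Category.assoc, hinj1, hr1, ← Category.assoc, ← Functor.map_comp, hcZ]
      exact bigj j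
    obtain ⟨hcX⟩ := cofan_pullback _ (isColimitSigma (fun j : ULift.{u} (Fin m) => W' j.down))
      (pullback.snd snd ((AlgSp.yon S).map cZ))
      (fun j => pullback.snd (p (i0 j.down)) (l j.down)) inj (fun j => (sqj j).flip)
    exact h1 m W' hW'a (fun j : ULift.{u} (Fin m) => pullback (p (i0 j.down)) (l j.down))
      (fun j => pullback.snd (p (i0 j.down)) (l j.down)) (Cofan.mk _ inj) hcX
      (pullback.snd snd ((AlgSp.yon S).map cZ)) hXi' hW'' (fun j => hinj2 j) hPfi

end Crit


section QAffMor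

variable {S : Scheme.{u}}

/-- a sheaf over an affine scheme which is represented by a quasi-affine scheme has a quasi-affine
structure morphism. -/
lemma isQuasiAffineMor_of_iso {Z' A : Over S} (hZ' : IsAffine Z'.left)
    (hA : A.left.IsQuasiAffine) (a : A ⟶ Z') {X : AlgSp.Sp S}
    (ε : (AlgSp.yon S).obj A ⟶ X) [IsIso ε] (f : X ⟶ (AlgSp.yon S).obj Z')
    (hf : ε ≫ f = (AlgSp.yon S).map a) : AlgSp.IsQuasiAffineMor f := by
  intro Z hZ g
  obtain ⟨k, rfl⟩ := (AlgSp.yon S).map_surjective g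
  have hY := (IsPullback.of_hasPullback a k).map (AlgSp.yon S)
  have hS : IsPullback (pullback.fst a k).left (pullback.snd a k).left a.left k.left :=
    (IsPullback.of_hasPullback a k).map (Over.forget S)
  refine ⟨pullback a k, pullback.snd a k, (AlgSp.yon S).map (pullback.fst a k) ≫ ε, ?_, ?_⟩
  · exact IsPullback.of_iso hY (Iso.refl _) (asIso ε) (Iso.refl _) (Iso.refl _) (by simp)
      (by simp) (by simp [hf]) (by simp)
  · have : IsAffine Z.left := hZ
    have : IsAffineHom (pullback.fst a k).left :=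
      MorphismProperty.of_isPullback (P := @IsAffineHom) hS.flip inferInstance
    exact Scheme.IsQuasiAffine.of_isAffineHom (pullback.fst a k).left

/-- quasi-affine morphisms are detected on base changes to affine schemes. -/
lemma isQuasiAffineMor_iff_affine {X Y : AlgSp.Sp S} (hX : AlgSp.IsAlgSpace X)
    (hY : AlgSp.IsAlgSpace Y) (f : X ⟶ Y) :
    AlgSp.IsQuasiAffineMor f ↔ ∀ (Z : Over S), IsAffine Z.left →
      ∀ (g : (AlgSp.yon S).obj Z ⟶ Y) (W : AlgSp.Sp S) (fst : W ⟶ X)
        (snd : W ⟶ (AlgSp.yon S).obj Z), AlgSp.IsAlgSpace W → IsPullback fst snd f g →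
        AlgSp.IsQuasiAffineMor snd := by
  constructor
  · intro hf Z _ g W fst snd _ hpb Z₁ hZ₁ g₁
    obtain ⟨W₁, i, fst₁, sq₁, hW₁⟩ := hf hZ₁ (g₁ ≫ g)
    have hw : fst₁ ≫ f = ((AlgSp.yon S).map i ≫ g₁) ≫ g := by rw [sq₁.w, Category.assoc]
    refine ⟨W₁, i, hpb.lift fst₁ ((AlgSp.yon S).map i ≫ g₁) hw, ?_, hW₁⟩
    refine IsPullback.of_right ?_ (hpb.lift_snd _ _ _) hpb
    rw [hpb.lift_fst]
    exact sq₁
  · intro h Z hZ g
    have hW : AlgSp.IsAlgSpace (pullback f g) :=
      Groth.Agent.S9874.isAlgSpace_of_isPullback hY.diag hX (AlgSp.IsAlgSpace.yon_obj Z)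
        (IsPullback.of_hasPullback _ _)
    obtain ⟨W₁, i, fst₁, sq₁, hW₁⟩ := h Z hZ g (pullback f g) (pullback.fst f g)
      (pullback.snd f g) hW (IsPullback.of_hasPullback _ _) hZ (𝟙 _)
    have := sq₁.paste_horiz (IsPullback.of_hasPullback f g)
    rw [Category.id_comp] at this
    exact ⟨W₁, i, _, this, hW₁⟩

/-- Quasi-affine morphisms of algebraic spaces are fpqc local on the base. -/
theorem isLocalOnBase_fpqc_isQuasiAffineMor :
    AlgSp.IsLocalOnBase (AlgSp.IsFpqcCover (S := S)) AlgSp.IsQuasiAffineMor := by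
  refine isLocalOnBase_of_affine_criterion' AlgSp.IsQuasiAffineMor ?_
    (fun X Y hX hY f => isQuasiAffineMor_iff_affine hX hY f) ?_
  · -- disjoint unions
    intro m W' hW'a Xi fi cX hcX mm _ _ hcomm hfi
    have hrep : ∀ j, ∃ (A : Over S) (a : A ⟶ W' j.down) (e : (AlgSp.yon S).obj A ⟶ Xi j),
        IsPullback e ((AlgSp.yon S).map a) (fi j) (𝟙 _) ∧ A.left.IsQuasiAffine :=
      fun j => hfi j (hW'a j.down) (𝟙 _)
    choose A a e sqe hA using hrep
    have heiso : ∀ j, IsIso (e j) := fun j => (sqe j).isIso_fst_of_isIso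
    have hea : ∀ j, e j ≫ fi j = (AlgSp.yon S).map (a j) := fun j => by
      rw [(sqe j).w, Category.comp_id]
    -- the disjoint union of the `A j`
    have hcA := isColimitSigma A
    obtain ⟨εh, hεh⟩ : ∃ εh : (AlgSp.yon S).obj (sigmaOver A) ⟶ cX.pt,
        ∀ j, (AlgSp.yon S).map (sigmaι A j) ≫ εh = e j ≫ cX.inj j :=
      ⟨Cofan.IsColimit.desc hcA (fun j => e j ≫ cX.inj j),
        fun j => Cofan.IsColimit.fac hcA _ j⟩
    obtain ⟨εi, hεi⟩ : ∃ εi : cX.pt ⟶ (AlgSp.yon S).obj (sigmaOver A),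
        ∀ j, cX.inj j ≫ εi = inv (e j) ≫ (AlgSp.yon S).map (sigmaι A j) :=
      ⟨Cofan.IsColimit.desc hcX (fun j => inv (e j) ≫ (AlgSp.yon S).map (sigmaι A j)),
        fun j => Cofan.IsColimit.fac hcX _ j⟩
    have h1 : εh ≫ εi = 𝟙 _ := by
      refine Cofan.IsColimit.hom_ext hcA _ _ (fun j => ?_)
      change (AlgSp.yon S).map (sigmaι A j) ≫ εh ≫ εi = (AlgSp.yon S).map (sigmaι A j) ≫ 𝟙 _
      rw [← Category.assoc, hεh, Category.assoc, hεi, IsIso.hom_inv_id_assoc, Category.comp_id]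
    have h2 : εi ≫ εh = 𝟙 _ := by
      refine Cofan.IsColimit.hom_ext hcX _ _ (fun j => ?_)
      rw [← Category.assoc, hεi, Category.assoc, hεh, IsIso.inv_hom_id_assoc, Category.comp_id]
    have hεiso : IsIso εh := ⟨εi, h1, h2⟩
    -- the map to the disjoint union of the `W' j`
    have hw : Limits.Sigma.map (fun j => (a j).left) ≫
        (sigmaOver (fun j : ULift.{u} (Fin m) => W' j.down)).hom = (sigmaOver A).hom := by
      apply Limits.Sigma.hom_ext
      intro j
      simp only [sigmaOver, Over.mk_hom, Limits.Sigma.ι_map_assoc, Limits.Sigma.ι_desc]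
      exact Over.w (a j)
    obtain ⟨aS, haSd⟩ : ∃ aS : sigmaOver A ⟶ sigmaOver (fun j : ULift.{u} (Fin m) => W' j.down),
        aS = Over.homMk (Limits.Sigma.map (fun j => (a j).left)) hw := ⟨_, rfl⟩
    have hιa : ∀ j, sigmaι A j ≫ aS =
        a j ≫ sigmaι (fun j : ULift.{u} (Fin m) => W' j.down) j := by
      intro j
      apply Over.OverMorphism.ext
      rw [haSd]
      simp only [Over.comp_left, sigmaι, Over.homMk_left]
      exact Limits.Sigma.ι_map _ _
    have hmm : εh ≫ mm = (AlgSp.yon S).map aS := by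
      refine Cofan.IsColimit.hom_ext hcA _ _ (fun j => ?_)
      change (AlgSp.yon S).map (sigmaι A j) ≫ εh ≫ mm =
        (AlgSp.yon S).map (sigmaι A j) ≫ (AlgSp.yon S).map aS
      rw [← Category.assoc, hεh, Category.assoc, hcomm, ← Category.assoc, hea,
        ← Functor.map_comp, ← Functor.map_comp, hιa]
    have hWa : IsAffine (sigmaOver (fun j : ULift.{u} (Fin m) => W' j.down)).left := by
      have : ∀ j : ULift.{u} (Fin m), IsAffine (W' j.down).left := fun j => hW'a j.down
      change IsAffine (∐ fun j : ULift.{u} (Fin m) => (W' j.down).left)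
      infer_instance
    have hAq : (sigmaOver A).left.IsQuasiAffine := by
      have : ∀ j, (A j).left.IsQuasiAffine := hA
      change (∐ fun j => (A j).left).IsQuasiAffine
      exact Helper15QAffSigma.isQuasiAffine_sigma _
    exact isQuasiAffineMor_of_iso hWa hAq aS εh mm hmm
  · -- descent along a flat surjective morphism of affine schemes
    intro Z Z' c hZ hZ' hcs hcf X X' f fst f' hX hX' sq hf'
    have : IsAffine Z.left := hZ
    have : IsAffine Z'.left := hZ'
    have : Surjective c.left := hcs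
    have : Flat c.left := hcf
    obtain ⟨A', x', θ₀, sq₀, hA'⟩ := hf' hZ' (𝟙 _)
    have sqθ : IsPullback (θ₀ ≫ fst) ((AlgSp.yon S).map x') f ((AlgSp.yon S).map c) := by
      have := sq₀.paste_horiz sq
      rwa [Category.id_comp] at this
    obtain ⟨W₀, q₀, hW₀, hpb, ψ, hψ, hψw⟩ := exists_qaff_rep_fpqc sqθ hX
    have hWq : (Wobj W₀).left.IsQuasiAffine := hW₀
    refine isQuasiAffineMor_of_iso hZ hWq (wmap W₀) (inv ψ) f ?_
    rw [IsIso.inv_comp_eq, hψw]

end QAffMor

end Groth.Agent.Lib.Helper15FpqcQAff
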