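-- helper15: representable properties of affine type are fpqc local on the base for algebraic spaces.
import Mathlib
import Groth.Prelude.Def_AlgSp
import Groth.Prelude.Def_AlgSpCov
import Groth.Agent.Lib.Helper15FpqcAffDesc
import Groth.Agent.Lib.Helper13AffCrit
import Groth.Agent.Lib.Helper12ZarGlue2
import Groth.Agent.S9874

set_option autoImplicit false
open CategoryTheory CategoryTheory.Limits AlgebraicGeometry Opposite

universe u

namespace Groth.Agent.Lib.Helper15FpqcRepWith

open Groth.Agent.Lib.Helper15EffDescB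

variable {S : Scheme.{u}}

/-- For a property of affine morphisms that is Zariski local on the target, the description through
affine schemes over the target agrees with the representable one. -/
theorem affine_family_iff_repWith (Q : MorphismProperty Scheme.{u}) [IsZariskiLocalAtTarget Q]
    (hQaff : Q ≤ @IsAffineHom) {F G : AlgSp.Sp S} (f : F ⟶ G) :
    (∀ ⦃Z : Over S⦄, IsAffine Z.left → ∀ (g : (AlgSp.yon S).obj Z ⟶ G),
      ∃ (W : Over S) (i : W ⟶ Z) (fst : (AlgSp.yon S).obj W ⟶ F),
        IsPullback fst ((AlgSp.yon S).map i) f g ∧ IsAffine W.left ∧ Q i.left) ↔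
    AlgSp.RepWith Q f := by
  constructor
  · intro h
    refine Groth.Agent.Lib.Helper12.ZarGlue.repWith_of_affine Q f (fun Z hZ g => ?_)
    obtain ⟨W, i, fst, sq, -, hQ⟩ := h hZ g
    exact ⟨W, i, fst, sq, hQ⟩
  · intro h Z hZ g
    obtain ⟨W, i, fst, sq⟩ := h.1 g
    have hQ : Q i.left := h.2 g fst i sq
    have : IsAffineHom i.left := hQaff _ hQ
    have : IsAffine Z.left := hZ
    exact ⟨W, i, fst, sq, isAffine_of_isAffineHom i.left, hQ⟩

/-- A property of affine morphisms of schemes which is stable under base change, Zariski local on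
the target and descends along flat surjective quasi-compact morphisms gives a property of
representable morphisms of algebraic spaces which is fpqc local on the base. -/
theorem isLocalOnBase_fpqc_repWith (Q : MorphismProperty Scheme.{u}) [Q.IsStableUnderBaseChange]
    [IsZariskiLocalAtTarget Q] (hQaff : Q ≤ @IsAffineHom)
    (hQd : Q.DescendsAlong (@Surjective ⊓ @Flat ⊓ @QuasiCompact : MorphismProperty Scheme.{u})) :
    AlgSp.IsLocalOnBase (AlgSp.IsFpqcCover (S := S)) (AlgSp.RepWith Q) := by
  refine Groth.Agent.Helper13AffCrit.isLocalOnBase_of_affine_criterion (AlgSp.RepWith Q) ?_ ?_ ?_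
  · -- finite disjoint unions
    intro ι _ Xi Yi fi cX cY hcX hcY m _ _ _ _ hcomm hfi
    have hvk := Groth.Agent.Lib.Helper12.CoprodSp.isVanKampen_cofan cY hcY
    have sq : ∀ i, IsPullback (cX.inj i) (fi i) m (cY.inj i) := by
      have := (hvk cX (Discrete.natTrans (fun i => fi i.as)) m (by
        apply NatTrans.ext
        funext ⟨i⟩
        exact (hcomm i).symm) (NatTrans.Equifibered.of_discrete _)).1 ⟨hcX⟩
      intro i
      exact this ⟨i⟩
    exact Groth.Agent.Lib.Helper12.ZarGlue.repWith_of_zarCover Q m Yi cY.inj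
      (Groth.Agent.Lib.Helper12.CoprodSp.isZarCover_inj cY hcY) Xi cX.inj fi sq hfi
  · -- reduction to affine bases
    intro X Y hX hY f
    constructor
    · intro hf Z _ g W fst snd _ hpb
      exact MorphismProperty.of_isPullback (P := AlgSp.RepWith Q) hpb hf
    · intro h
      refine Groth.Agent.Lib.Helper12.ZarGlue.repWith_of_affine Q f (fun Z hZ g => ?_)
      have hW : AlgSp.IsAlgSpace (pullback f g) :=
        Groth.Agent.S9874.isAlgSpace_of_isPullback hY.diag hX (AlgSp.IsAlgSpace.yon_obj Z)
          (IsPullback.of_hasPullback _ _)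
      have hsnd := h Z hZ g (pullback f g) (pullback.fst f g) (pullback.snd f g) hW
        (IsPullback.of_hasPullback _ _)
      obtain ⟨W₁, i, fst₁, sq₁⟩ := hsnd.1 (𝟙 _)
      have hQ : Q i.left := hsnd.2 _ fst₁ i sq₁
      have := sq₁.paste_horiz (IsPullback.of_hasPullback f g)
      rw [Category.id_comp] at this
      exact ⟨W₁, i, _, this, hQ⟩
  · -- descent along a flat surjective morphism of affine schemes
    intro Z Z' c hZ hZ' hcs hcf X X' f fst f' hX hX' sq hf'
    have : IsAffine Z.left := hZ
    have : IsAffine Z'.left := hZ'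
    have : Surjective c.left := hcs
    have : Flat c.left := hcf
    obtain ⟨A', x', θ₀, sq₀⟩ := hf'.1 (𝟙 _)
    have hQx : Q x'.left := hf'.2 _ θ₀ x' sq₀
    have : IsAffineHom x'.left := hQaff _ hQx
    have : IsAffine A'.left := isAffine_of_isAffineHom x'.left
    have sqθ : IsPullback (θ₀ ≫ fst) ((AlgSp.yon S).map x') f ((AlgSp.yon S).map c) := by
      have := sq₀.paste_horiz sq
      rwa [Category.id_comp] at this
    obtain ⟨W₀, q₀, hW₀aff, hpb, ψ, hψ, hψw⟩ :=
      Groth.Agent.Lib.Helper15FpqcAffDesc.exists_affine_rep_fpqc sqθ hX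
    have hQW : Q W₀.hom :=
      MorphismProperty.of_isPullback_of_descendsAlong (P := Q)
        (Q := (@Surjective ⊓ @Flat ⊓ @QuasiCompact : MorphismProperty Scheme.{u})) hpb
        ⟨⟨inferInstance, inferInstance⟩, inferInstance⟩ hQx
    rw [← hψw]
    exact (MorphismProperty.cancel_left_of_respectsIso (AlgSp.RepWith Q) ψ _).2
      ((AlgSp.repWith_yon_map_iff Q (wmap W₀)).2 hQW)

end Groth.Agent.Lib.Helper15FpqcRepWith
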