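-- helper15: graph and orbit maps of a free action of a group of multiplicative type on a scheme affine over the base are closed immersions (fpqc-local reduction)
import Mathlib
import Groth.Agent.Lib.Helper15FreeActPts
import Groth.Agent.Lib.Helper15DSbc
import Groth.Agent.Lib.Helper15NormCentral
import Groth.Agent.Lib.Helper15FixClopenGlob
import Groth.Agent.Lib.Helper12Descent
set_option autoImplicit false
universe u
open CategoryTheory CategoryTheory.Limits AlgebraicGeometry MonoidalCategory CartesianMonoidalCategory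
  MonObj GrpObj

namespace Groth.Agent.Lib.Helper15FreeActRed

open Groth.Agent.Lib.Helper15FreeActPts

section Family

variable {S : Scheme.{u}}

/-- an fpqc family with affine members for a property holding fpqc-locally and stable under further
base change. -/
theorem exists_affine_fpqc_family (P : ∀ (S' : Scheme.{u}), (S' ⟶ S) → Prop)
    (hPs : ∀ (S' S'' : Scheme.{u}) (f : S' ⟶ S) (q : S'' ⟶ S'), P S' f → P S'' (q ≫ f))
    (hP : TwC.Locally S TwC.Topology.fpqc P) :
    ∃ (K : Type u) (Sk : K → Scheme.{u}) (g : ∀ k, Sk k ⟶ S),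
      Presieve.ofArrows Sk g ∈ Scheme.fpqcPrecoverage S ∧
        ∀ k, IsAffine (Sk k) ∧ P (Sk k) (g k) := by
  obtain ⟨J, S₁, g₁, hcov, hP₁⟩ := Groth.Agent.Lib.Helper15DiagRigidLoc.exists_fpqc_family P hP
  have h2 : ∀ k : J, Presieve.ofArrows (S₁ k).affineCover.X (S₁ k).affineCover.f ∈
      Scheme.fpqcPrecoverage (S₁ k) :=
    fun k => Scheme.zariskiPrecoverage_le_fpqcPrecoverage _ (S₁ k).affineCover.mem₀
  have h3 := Precoverage.comp_mem_coverings (J := Scheme.fpqcPrecoverage.{u}) g₁ hcov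
    (fun k j => (S₁ k).affineCover.f j) h2
  refine ⟨Σ k : J, (S₁ k).affineCover.I₀, fun p => (S₁ p.1).affineCover.X p.2,
    fun p => (S₁ p.1).affineCover.f p.2 ≫ g₁ p.1, h3, fun p => ⟨?_, hPs _ _ _ _ (hP₁ p.1)⟩⟩
  show IsAffine (Spec _)
  infer_instance

end Family

section Member

variable {S U : Scheme.{u}} (f : U ⟶ S) [IsAffine U] {G X : Over S} [GrpObj G]
  (a : AlgGrp.Action G X) (hX : IsAffineHom X.hom)
  (hfree : ∀ (Y : Over S) (g : Y ⟶ G) (x : Y ⟶ X), lift g x ≫ a.act = x → g = 1)
  (M : Type) [AddCommGroup M] (e : Grp.mk (Red.bc f G) ≅ Grp.mk (Red.DS U M))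

include hX hfree e in
/-- the base change of the graph morphism to an affine base over which the group becomes
diagonalisable is a closed immersion. -/
theorem isClosedImmersion_bc_graph :
    IsClosedImmersion ((Over.pullback f).map (lift a.act (snd G X))).left := by
  obtain ⟨ψ, hψ⟩ : ∃ ψ : Red.DS U M ⟶ Red.bc f G, ψ = e.inv.hom.hom := ⟨_, rfl⟩
  have hψm : IsMonHom ψ := by rw [hψ]; infer_instance
  obtain ⟨ψ', hψ'⟩ : ∃ ψ' : Red.bc f G ⟶ Red.DS U M, ψ' = e.hom.hom.hom := ⟨_, rfl⟩
  have hψ'm : IsMonHom ψ' := by rw [hψ']; infer_instance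
  have h12 : ψ ≫ ψ' = 𝟙 _ := by
    rw [hψ, hψ']
    have := e.inv_hom_id
    exact congr($(this).hom.hom)
  have h21 : ψ' ≫ ψ = 𝟙 _ := by
    rw [hψ, hψ']
    have := e.hom_inv_id
    exact congr($(this).hom.hom)
  have hψiso : IsIso ψ := ⟨ψ', h12, h21⟩
  have hX' : IsAffineHom (Red.bc f X).hom :=
    MorphismProperty.pullback_snd (P := @IsAffineHom) _ _ hX
  have hXaff : IsAffine (Red.bc f X).left := isAffine_of_isAffineHom (Red.bc f X).hom
  have hfree' : ∀ (Y : Over U) (g : Y ⟶ Red.DS U M) (x : Y ⟶ Red.bc f X),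
      lift g x ≫ ((a.bc f).restrict ψ).act = x → g = 1 := by
    intro Y g x hgx
    rw [AlgGrp.Action.lift_restrict_act] at hgx
    obtain ⟨g₀, hg₀⟩ : ∃ g₀, (Over.mapPullbackAdj f).homEquiv Y G g₀ = g ≫ ψ :=
      ⟨_, Equiv.apply_symm_apply _ _⟩
    obtain ⟨x₀, hx₀⟩ : ∃ x₀, (Over.mapPullbackAdj f).homEquiv Y X x₀ = x :=
      ⟨_, Equiv.apply_symm_apply _ _⟩
    rw [← hg₀, ← hx₀, AlgGrp.Action.lift_homEquiv_bc_act] at hgx
    have h1 := hfree _ g₀ x₀ (((Over.mapPullbackAdj f).homEquiv Y X).injective hgx)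
    rw [h1, Groth.Agent.Lib.Helper15NormCentral.homEquiv_one] at hg₀
    have h2 : g = (g ≫ ψ) ≫ ψ' := by rw [Category.assoc, h12, Category.comp_id]
    rw [h2, ← hg₀]
    exact MonObj.one_comp ψ'
  have key1 := isClosedImmersion_graph M ((a.bc f).restrict ψ) hX' hfree'
  have e1 : lift ((a.bc f).restrict ψ).act (snd (Red.DS U M) (Red.bc f X)) =
      (ψ ▷ Red.bc f X) ≫ lift (a.bc f).act (snd (Red.bc f G) (Red.bc f X)) := by
    rw [comp_lift, whiskerRight_snd]
    rfl
  have key : lift (a.bc f).act (snd _ _) ≫ Functor.LaxMonoidal.μ (Over.pullback f) X X =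
      Functor.LaxMonoidal.μ (Over.pullback f) G X ≫ (Over.pullback f).map (lift a.act (snd G X)) := by
    rw [← Functor.Monoidal.lift_μ, comp_lift_assoc, Functor.Monoidal.μ_snd, AlgGrp.Action.bc_act]
  rw [e1, Over.comp_left] at key1
  have hi1 : IsIso (ψ ▷ Red.bc f X).left :=
    inferInstanceAs (IsIso ((Over.forget U).map (ψ ▷ Red.bc f X)))
  have key2 : IsClosedImmersion (lift (a.bc f).act (snd (Red.bc f G) (Red.bc f X))).left :=
    (MorphismProperty.cancel_left_of_respectsIso @IsClosedImmersion _ _).mp key1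
  have hi2 : IsIso (Functor.LaxMonoidal.μ (Over.pullback f) X X).left :=
    inferInstanceAs (IsIso ((Over.forget U).map (Functor.LaxMonoidal.μ (Over.pullback f) X X)))
  have hi3 : IsIso (Functor.LaxMonoidal.μ (Over.pullback f) G X).left :=
    inferInstanceAs (IsIso ((Over.forget U).map (Functor.LaxMonoidal.μ (Over.pullback f) G X)))
  have key3 : IsClosedImmersion (lift (a.bc f).act (snd (Red.bc f G) (Red.bc f X)) ≫
      Functor.LaxMonoidal.μ (Over.pullback f) X X).left := by
    rw [Over.comp_left]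
    exact (MorphismProperty.cancel_right_of_respectsIso @IsClosedImmersion _ _).mpr key2
  rw [key, Over.comp_left] at key3
  exact (MorphismProperty.cancel_left_of_respectsIso @IsClosedImmersion _ _).mp key3

end Member

section Main

variable {S : Scheme.{u}} (G X : Over S) [GrpObj G]

/-- **the graph of a free action of a group of multiplicative type on a scheme affine over the base
is a closed immersion.** -/
theorem isClosedImmersion_graph_of_locally
    (hG : TwC.Locally S TwC.Topology.fpqc (fun S' f => ∃ (M : Type) (_ : AddCommGroup M),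
      Nonempty (Grp.mk (Red.bc f G) ≅ Grp.mk (Red.DS S' M))))
    (hX : IsAffineHom X.hom) (a : AlgGrp.Action G X)
    (hfree : ∀ (Y : Over S) (g : Y ⟶ G) (x : Y ⟶ X), lift g x ≫ a.act = x → g = 1) :
    IsClosedImmersion (lift a.act (snd G X)).left := by
  obtain ⟨K, Sk, gk, hcov, hloc⟩ := exists_affine_fpqc_family _ (by
    rintro S' S'' f q ⟨M, _, ⟨e⟩⟩
    exact ⟨M, inferInstance, Groth.Agent.Lib.Helper15DSbc.nonempty_iso_bc f q G M e⟩) hG
  refine Groth.Agent.Lib.Helper15FixClopenGlob.of_bc_family (P := @IsClosedImmersion)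
    Groth.Agent.Lib.Helper12.descendsAlong_isClosedImmersion _ gk hcov (fun k => ?_)
  obtain ⟨haff, M, _, ⟨e⟩⟩ := hloc k
  exact isClosedImmersion_bc_graph (gk k) a hX hfree M e

variable {G X}

lemma jx_graph (a : AlgGrp.Action G X) (x : 𝟙_ (Over S) ⟶ X) :
    lift (𝟙 G) (toUnit G ≫ x) ≫ lift a.act (snd G X) =
      a.orbitMap x ≫ lift (𝟙 X) (toUnit X ≫ x) := by
  apply CartesianMonoidalCategory.hom_ext
  · simp only [Category.assoc, lift_fst, Category.comp_id]
    rfl
  · simp only [Category.assoc, lift_snd]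
    rw [← Category.assoc (a.orbitMap x)]
    congr 1
    exact toUnit_unique _ _

lemma cone_aux (a : AlgGrp.Action G X) (x : 𝟙_ (Over S) ⟶ X) {T : Over S} (u : T ⟶ G ⊗ X)
    (v : T ⟶ X) (h : u ≫ lift a.act (snd G X) = v ≫ lift (𝟙 X) (toUnit X ≫ x)) :
    (u ≫ fst G X) ≫ lift (𝟙 G) (toUnit G ≫ x) = u ∧ (u ≫ fst G X) ≫ a.orbitMap x = v := by
  have h1 : u ≫ a.act = v := by
    have := congr($h ≫ fst X X)
    simpa only [Category.assoc, lift_fst, Category.comp_id] using this
  have h2 : u ≫ snd G X = toUnit T ≫ x := by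
    have := congr($h ≫ snd X X)
    simp only [Category.assoc, lift_snd] at this
    rw [this, ← Category.assoc]
    congr 1
    exact toUnit_unique _ _
  have h3 : (u ≫ fst G X) ≫ lift (𝟙 G) (toUnit G ≫ x) = u := by
    apply CartesianMonoidalCategory.hom_ext
    · simp
    · simp only [Category.assoc, lift_snd]
      rw [h2, ← Category.assoc, ← Category.assoc]
      congr 1
      exact toUnit_unique _ _
  refine ⟨h3, ?_⟩
  rw [← h1]
  conv_rhs => rw [← h3]
  rw [Category.assoc, Category.assoc]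
  rfl

/-- the orbit map is the base change of the graph morphism along `y ↦ (y, x)`. -/
theorem isPullback_orbitMap (a : AlgGrp.Action G X) (x : 𝟙_ (Over S) ⟶ X) :
    IsPullback (lift (𝟙 G) (toUnit G ≫ x)) (a.orbitMap x) (lift a.act (snd G X))
      (lift (𝟙 X) (toUnit X ≫ x)) := by
  refine ⟨⟨jx_graph a x⟩, ⟨PullbackCone.IsLimit.mk _ (fun c => c.fst ≫ fst G X) ?_ ?_ ?_⟩⟩
  · intro c
    exact (cone_aux a x c.fst c.snd c.condition).1
  · intro c
    exact (cone_aux a x c.fst c.snd c.condition).2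
  · intro c m hm1 _
    rw [← hm1, Category.assoc, lift_fst, Category.comp_id]

/-- the orbit maps are closed immersions as soon as the graph morphism is. -/
theorem isClosedImmersion_orbitMap (a : AlgGrp.Action G X)
    (h : IsClosedImmersion (lift a.act (snd G X)).left) (x : 𝟙_ (Over S) ⟶ X) :
    IsClosedImmersion (a.orbitMap x).left :=
  MorphismProperty.of_isPullback (P := @IsClosedImmersion)
    ((isPullback_orbitMap a x).map (Over.forget S)) h

end Main

end Groth.Agent.Lib.Helper15FreeActRed
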