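-- helper15: quasi-compactness and closed immersions out of finite coproducts of schemes over a base, checked on the summands.
import Mathlib
import Groth.Prelude.Def_AlgSp
import Groth.Agent.Lib.Helper10SigmaRel

set_option autoImplicit false
open CategoryTheory CategoryTheory.Limits AlgebraicGeometry

universe u

namespace Groth.Agent.Lib.Helper15FreeSep

open Groth.Agent.Lib.Helper10.SigmaRel

variable {S : Scheme.{u}} {G : Type u} {f : G → Over S} (c : Cofan f) (hc : IsColimit c)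

include hc in
/-- quasi-compactness of a morphism out of a finite coproduct is checked on the summands. -/
lemma quasiCompact_of_inj [Finite G] {Y : Scheme.{u}} (φ : c.pt.left ⟶ Y)
    (h : ∀ g, QuasiCompact ((c.inj g).left ≫ φ)) : QuasiCompact φ := by
  refine ⟨fun A hA hAc => ?_⟩
  have e : φ.base ⁻¹' A = ⋃ g, (c.inj g).left.base '' (((c.inj g).left ≫ φ).base ⁻¹' A) := by
    ext x
    constructor
    · intro hx
      obtain ⟨g, y, hy⟩ := exists_inj_eq c hc x
      refine Set.mem_iUnion.2 ⟨g, y, ?_, hy⟩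
      change ((c.inj g).left ≫ φ).base y ∈ A
      rw [Scheme.Hom.comp_base, TopCat.comp_app]
      have hy' : (c.inj g).left.base y = x := hy
      rw [hy']
      exact hx
    · intro hx
      obtain ⟨g, y, hy, rfl⟩ := Set.mem_iUnion.1 hx
      exact hy
  rw [e]
  exact isCompact_iUnion fun g =>
    ((h g).isCompact_preimage A hA hAc).image (c.inj g).left.continuous

include hc in
/-- a universally injective morphism out of a finite nonempty coproduct is a closed immersion as
soon as its restrictions to the summands are. -/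
lemma isClosedImmersion_of_inj [Finite G] [Nonempty G] {Y : Scheme.{u}} (φ : c.pt.left ⟶ Y)
    (hinj : Function.Injective φ.base)
    (h : ∀ g, IsClosedImmersion ((c.inj g).left ≫ φ)) : IsClosedImmersion φ := by
  classical
  have hoi : ∀ g, IsOpenImmersion (c.inj g).left := fun g => isOpenImmersion_inj_left c hc g
  -- the open sets
  have hclosed : ∀ g, IsClosed (⋃ h' : {h' : G // h' ≠ g},
      Set.range ((c.inj h'.1).left ≫ φ).base) := fun g =>
    isClosed_iUnion_of_finite fun h' => (Scheme.Hom.isClosedEmbedding ((c.inj h'.1).left ≫ φ)).isClosed_range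
  let O : G → Y.Opens := fun g => ⟨(⋃ h' : {h' : G // h' ≠ g},
      Set.range ((c.inj h'.1).left ≫ φ).base)ᶜ, (hclosed g).isOpen_compl⟩
  have hO : ∀ g (y : Y), y ∈ O g ↔ ∀ h' : G, h' ≠ g → y ∉ Set.range ((c.inj h').left ≫ φ).base := by
    intro g y
    change y ∈ (⋃ h' : {h' : G // h' ≠ g}, Set.range ((c.inj h'.1).left ≫ φ).base)ᶜ ↔ _
    rw [Set.mem_compl_iff, Set.mem_iUnion]
    constructor
    · intro hy h' hh' hr
      exact hy ⟨⟨h', hh'⟩, hr⟩
    · rintro hy ⟨⟨h', hh'⟩, hr⟩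
      exact hy h' hh' hr
  have hcov : iSup O = ⊤ := by
    rw [eq_top_iff]
    intro y _
    rw [TopologicalSpace.Opens.mem_iSup]
    by_cases hy : y ∈ Set.range φ.base
    · obtain ⟨x, rfl⟩ := hy
      obtain ⟨g, u, hu⟩ := exists_inj_eq c hc x
      refine ⟨g, (hO g _).2 fun h' hh' hr => ?_⟩
      obtain ⟨u', hu'⟩ := hr
      have hu'' : φ.base ((c.inj h').left.base u') = φ.base x := hu'
      have := hinj hu''
      have hu2 : (c.inj g).left.base u = x := hu
      rw [← hu2] at this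
      exact inj_ne_of_ne c hc hh' u' u this
    · obtain ⟨g⟩ := ‹Nonempty G›
      refine ⟨g, (hO g _).2 fun h' _ hr => hy ?_⟩
      obtain ⟨u', hu'⟩ := hr
      exact ⟨(c.inj h').left.base u', hu'⟩
  rw [IsZariskiLocalAtTarget.iff_of_iSup_eq_top (P := @IsClosedImmersion) O hcov]
  intro g
  have h1 : IsClosedImmersion (((c.inj g).left ≫ φ) ∣_ O g) :=
    IsZariskiLocalAtTarget.restrict (P := @IsClosedImmersion) (h g) (O g)
  rw [morphismRestrict_comp] at h1
  have hoi2 : IsOpenImmersion ((c.inj g).left ∣_ (φ ⁻¹ᵁ O g)) :=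
    IsZariskiLocalAtTarget.restrict (P := @IsOpenImmersion) (hoi g) _
  have hsurj : Function.Surjective ((c.inj g).left ∣_ (φ ⁻¹ᵁ O g)).base := by
    intro x
    obtain ⟨g', u, hu⟩ := exists_inj_eq c hc ((φ ⁻¹ᵁ O g).ι.base x)
    have hxO : φ.base ((φ ⁻¹ᵁ O g).ι.base x) ∈ O g := by
      have h0 : Set.range (φ ⁻¹ᵁ O g).ι.base = ((φ ⁻¹ᵁ O g : c.pt.left.Opens) : Set c.pt.left) :=
        Scheme.Opens.range_ι _
      have : (φ ⁻¹ᵁ O g).ι.base x ∈ ((φ ⁻¹ᵁ O g : c.pt.left.Opens) : Set c.pt.left) := by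
        rw [← h0]; exact ⟨x, rfl⟩
      exact this
    have hgg : g' = g := by
      by_contra hne
      have hu2 : (c.inj g').left.base u = (φ ⁻¹ᵁ O g).ι.base x := hu
      refine (hO g _).1 hxO g' hne ⟨u, ?_⟩
      rw [Scheme.Hom.comp_base, TopCat.comp_app, hu2]
    subst hgg
    have hu2 : (c.inj g').left.base u = (φ ⁻¹ᵁ O g').ι.base x := hu
    have hmem : u ∈ (c.inj g').left ⁻¹ᵁ (φ ⁻¹ᵁ O g') := by
      change (c.inj g').left.base u ∈ ((φ ⁻¹ᵁ O g' : c.pt.left.Opens) : Set c.pt.left)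
      rw [hu2, ← Scheme.Opens.range_ι]
      exact ⟨x, rfl⟩
    refine ⟨⟨u, hmem⟩, ?_⟩
    apply (φ ⁻¹ᵁ O g').ι.isOpenEmbedding.injective
    have := congrArg (fun m => m.base ⟨u, hmem⟩) (morphismRestrict_ι (c.inj g').left (φ ⁻¹ᵁ O g'))
    simp only [Scheme.Hom.comp_base, TopCat.comp_app] at this
    rw [this, ← hu2]
    rfl
  have hiso : IsIso ((c.inj g).left ∣_ (φ ⁻¹ᵁ O g)) := by
    have : Epi ((c.inj g).left ∣_ (φ ⁻¹ᵁ O g)).base := (TopCat.epi_iff_surjective _).2 hsurj
    exact IsOpenImmersion.isIso _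
  have h2 : IsClosedImmersion ((c.inj g).left ∣_ (φ ⁻¹ᵁ O g) ≫ φ ∣_ O g) := h1
  exact (MorphismProperty.cancel_left_of_respectsIso @IsClosedImmersion
    ((c.inj g).left ∣_ (φ ⁻¹ᵁ O g)) (φ ∣_ O g)).1 h2

end Groth.Agent.Lib.Helper15FreeSep
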