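-- helper15: the fppf quotient of a scheme by an etale equivalence relation is an algebraic space (single fppf cover lifting along epimorphisms + bootstrap representability).
import Mathlib
import Groth.Prelude.Def_AlgSp
import Groth.Agent.Lib.Helper12EpiDescent
import Groth.Agent.Lib.Helper12EqvRelSp
import Groth.Agent.Lib.Helper12OpenCoverSp
import Groth.Agent.Lib.Helper12QuotOpen
import Groth.Agent.Lib.Helper15BootRep

set_option autoImplicit false
open CategoryTheory CategoryTheory.Limits AlgebraicGeometry Opposite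

universe u

namespace Groth.Agent.Lib.Helper15QuotAlg

open AlgSp Groth.Agent.Lib.Helper12.OpenCoverSp Groth.Agent.S13210

variable {S : Scheme.{u}}

/-- maps out of the sheaf of a disjoint union are determined by their restrictions to the members. -/
lemma sigma_hom_ext {F : AlgSp.Sp S} {ι : Type u} (U : ι → Over S)
    (γ γ' : (AlgSp.yon S).obj (sigmaOver U) ⟶ F)
    (h : ∀ i, (AlgSp.yon S).map (sigmaι U i) ≫ γ = (AlgSp.yon S).map (sigmaι U i) ≫ γ') :
    γ = γ' := by
  have hsh : Presieve.IsSheaf (AlgSp.J S) F.obj := (isSheaf_iff_isSheaf_of_type _ _).1 F.property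
  apply (yEquiv _ F).injective
  refine (hsh.isSheafFor _ (sigmaι_mem U)).isSeparatedFor.ext (fun Y f hf => ?_)
  obtain ⟨i⟩ := hf
  erw [Groth.Agent.Lib.Helper12.ZarGlue.map_yEquiv, Groth.Agent.Lib.Helper12.ZarGlue.map_yEquiv, h i]

/-- an epimorphism of fppf sheaves admits a lift of every `h_T`-valued point over a single
flat, locally finitely presented, surjective morphism to `T`. -/
theorem exists_single_cover_of_epi {A F : AlgSp.Sp S} (c : A ⟶ F) [Epi c] {T : Over S}
    (g : (AlgSp.yon S).obj T ⟶ F) :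
    ∃ (T₁ : Over S) (t₁ : T₁ ⟶ T) (l : (AlgSp.yon S).obj T₁ ⟶ A),
      Surjective t₁.left ∧ Flat t₁.left ∧ LocallyOfFinitePresentation t₁.left ∧
        l ≫ c = (AlgSp.yon S).map t₁ ≫ g := by
  obtain ⟨R, hR, hl⟩ := Groth.Agent.Lib.Helper12.EpiDescent.exists_cover_of_epi c g
  have hsurj := (Presieve.mem_comap_jointlySurjectivePrecoverage_iff Scheme.forget).1 hR.1
  choose Y g' hg' hx using hsurj
  have hfl : ∀ z, Flat (g' z) := fun z => (hR.2 (hg' z)).1
  have hlfp : ∀ z, LocallyOfFinitePresentation (g' z) := fun z => (hR.2 (hg' z)).2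
  choose l hl using fun z => hl (g' z) (hg' z)
  obtain ⟨U, hU⟩ : ∃ U : T.left → Over S, U = fun z => Over.mk (g' z ≫ T.hom) := ⟨_, rfl⟩
  subst hU
  obtain ⟨j, hj⟩ : ∃ j : ∀ z, Over.mk (g' z ≫ T.hom) ⟶ T, j = fun z => Over.homMk (g' z) rfl :=
    ⟨_, rfl⟩
  have hjl : ∀ z, (j z).left = g' z := fun z => by rw [hj]; rfl
  obtain ⟨t₁, ht₁⟩ : ∃ t₁ : sigmaOver (fun z => Over.mk (g' z ≫ T.hom)) ⟶ T,
      t₁ = Over.homMk (Limits.Sigma.desc (fun z => g' z)) (by
        apply Limits.Sigma.hom_ext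
        intro z
        simp [sigmaOver]) := ⟨_, rfl⟩
  have ht₁l : t₁.left = Limits.Sigma.desc (fun z => g' z) := by rw [ht₁]; rfl
  have hιt : ∀ z, sigmaι (fun z => Over.mk (g' z ≫ T.hom)) z ≫ t₁ = j z := by
    intro z
    apply Over.OverMorphism.ext
    rw [Over.comp_left, ht₁l, hjl]
    exact Limits.Sigma.ι_desc _ _
  obtain ⟨γ, hγ⟩ := exists_sigmaDesc (fun z => Over.mk (g' z ≫ T.hom)) l
  refine ⟨_, t₁, γ, ?_, ?_, ?_, ?_⟩
  · refine ⟨fun x => ?_⟩
    obtain ⟨y, hy⟩ := hx x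
    refine ⟨(sigmaι (fun z => Over.mk (g' z ≫ T.hom)) x).left y, ?_⟩
    rw [← Scheme.Hom.comp_apply, ← Over.comp_left, hιt, hjl]
    exact hy
  · rw [ht₁l]
    exact IsZariskiLocalAtSource.sigmaDesc (P := @Flat) hfl
  · rw [ht₁l]
    exact IsZariskiLocalAtSource.sigmaDesc (P := @LocallyOfFinitePresentation) hlfp
  · apply sigma_hom_ext
    intro z
    rw [← Category.assoc, hγ, hl, ← Category.assoc, ← Functor.map_comp, hιt, hj]

/-- the sheaf-level relation attached to an equivalence relation of schemes. -/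
lemma isEqvRelSp_yon {R U : Over S} (s t : R ⟶ U) (h : AlgSp.IsEqvRel s t) :
    AlgSp.IsEqvRelSp ((AlgSp.yon S).map s) ((AlgSp.yon S).map t) := by
  refine ⟨fun T r r' h1 h2 => ?_, fun T => ?_⟩
  · obtain ⟨r, rfl⟩ := (AlgSp.yon S).map_surjective r
    obtain ⟨r', rfl⟩ := (AlgSp.yon S).map_surjective r'
    rw [← Functor.map_comp, ← Functor.map_comp] at h1 h2
    rw [h.injective T r r' ((AlgSp.yon S).map_injective h1) ((AlgSp.yon S).map_injective h2)]
  · have hiff : ∀ a b : T ⟶ U,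
        (∃ r : (AlgSp.yon S).obj T ⟶ (AlgSp.yon S).obj R,
          r ≫ (AlgSp.yon S).map t = (AlgSp.yon S).map a ∧
            r ≫ (AlgSp.yon S).map s = (AlgSp.yon S).map b) ↔
        ∃ r : T ⟶ R, r ≫ t = a ∧ r ≫ s = b := by
      intro a b
      constructor
      · rintro ⟨r, h1, h2⟩
        obtain ⟨r, rfl⟩ := (AlgSp.yon S).map_surjective r
        rw [← Functor.map_comp] at h1 h2
        exact ⟨r, (AlgSp.yon S).map_injective h1, (AlgSp.yon S).map_injective h2⟩
      · rintro ⟨r, rfl, rfl⟩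
        exact ⟨(AlgSp.yon S).map r, by rw [Functor.map_comp], by rw [Functor.map_comp]⟩
    have he := h.equivalence T
    refine ⟨fun a => ?_, fun {a b} hab => ?_, fun {a b c} hab hbc => ?_⟩
    · obtain ⟨a, rfl⟩ := (AlgSp.yon S).map_surjective a
      exact (hiff a a).2 (he.refl a)
    · obtain ⟨a, rfl⟩ := (AlgSp.yon S).map_surjective a
      obtain ⟨b, rfl⟩ := (AlgSp.yon S).map_surjective b
      exact (hiff b a).2 (he.symm ((hiff a b).1 hab))
    · obtain ⟨a, rfl⟩ := (AlgSp.yon S).map_surjective a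
      obtain ⟨b, rfl⟩ := (AlgSp.yon S).map_surjective b
      obtain ⟨c, rfl⟩ := (AlgSp.yon S).map_surjective c
      exact (hiff a c).2 (he.trans ((hiff a b).1 hab) ((hiff b c).1 hbc))

/-- a sheaf quotient `p : h_U ⟶ F` of a scheme by an etale equivalence relation of schemes is an
algebraic space with atlas `p`. -/
theorem isAlgSpace_of_isColimit {R U : Over S} (s t : R ⟶ U) (h : AlgSp.IsEtaleEqvRel s t)
    {F : AlgSp.Sp S} (p : (AlgSp.yon S).obj U ⟶ F)
    (w : (AlgSp.yon S).map s ≫ p = (AlgSp.yon S).map t ≫ p)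
    (hcolim : IsColimit (Cofork.ofπ p w)) :
    AlgSp.IsAlgSpace F ∧ AlgSp.IsPresentation s t p := by
  haveI : Epi p := by
    have : p = Cofork.π (Cofork.ofπ p w) := rfl
    rw [this]
    exact epi_of_isColimit_cofork hcolim
  obtain ⟨e⟩ := Groth.Agent.Lib.Helper12.EqvRelSp.nonempty_equivalenceRelation _ _
    (isEqvRelSp_yon s t h.toIsEqvRel)
  have hk : IsKernelPair p ((AlgSp.yon S).map s) ((AlgSp.yon S).map t) :=
    Groth.Agent.Lib.Helper9.ToposLike.isKernelPair_of_isColimit e p w hcolim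
  have sqR : IsPullback ((AlgSp.yon S).map t) ((AlgSp.yon S).map s) p p := hk.flip
  haveI := h.etale_left
  haveI := h.etale_right
  have hrep : ∀ ⦃T : Over S⦄ (a : (AlgSp.yon S).obj T ⟶ F), AlgSp.Representable a := by
    intro T a B b
    obtain ⟨T₁, t₁, l₁, e1, e2, e3, hl₁⟩ := exists_single_cover_of_epi p a
    obtain ⟨u₁, rfl⟩ := (AlgSp.yon S).map_surjective l₁
    obtain ⟨B₁, b₁, m₁, f1, f2, f3, hm₁⟩ := exists_single_cover_of_epi p b
    obtain ⟨v₁, rfl⟩ := (AlgSp.yon S).map_surjective m₁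
    obtain ⟨W, w₁, w₂, sq⟩ := Groth.Agent.Lib.Helper15BootRep.exists_isPullback_of_lifts
      p s t sqR a b t₁ u₁ hl₁.symm b₁ v₁ hm₁.symm
    exact ⟨W, w₂, (AlgSp.yon S).map w₁, sq⟩
  have hsurj : Surjective s.left := by
    obtain ⟨r, hr1, hr2⟩ := (h.equivalence U).refl (𝟙 U)
    have : r.left ≫ s.left = 𝟙 _ := by rw [← Over.comp_left, hr2]; rfl
    refine ⟨fun x => ⟨r.left x, ?_⟩⟩
    rw [← Scheme.Hom.comp_apply, this]; rfl
  have hpe : AlgSp.RepWith @Etale p :=
    Groth.Agent.Lib.Helper12.EpiDescent.repWith_of_epi @Etale inferInstance p p (hrep p) sqR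
      ((AlgSp.repWith_yon_map_iff _ _).2 h.etale_left)
  have hps : AlgSp.RepWith @Surjective p :=
    Groth.Agent.Lib.Helper12.EpiDescent.repWith_of_epi @Surjective inferInstance p p (hrep p) sqR
      ((AlgSp.repWith_yon_map_iff _ _).2 hsurj)
  exact ⟨⟨Functor.relativelyRepresentable.diag_of_map_from_obj hrep, U, p, hpe, hps⟩,
    ⟨h, hpe, hps, sqR⟩⟩

/-- the fppf quotient sheaf of a scheme by an etale equivalence relation is an algebraic space. -/
theorem isAlgSpace_quot {R U : Over S} (s t : R ⟶ U) (h : AlgSp.IsEtaleEqvRel s t) :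
    AlgSp.IsAlgSpace (QuotSh.quot Scheme.fppfPrecoverage s t) :=
  (isAlgSpace_of_isColimit s t h (Groth.Agent.Lib.Helper12.QuotOpen.quotP s t)
    (Groth.Agent.Lib.Helper12.QuotOpen.quotP_condition s t)
    (Groth.Agent.Lib.Helper12.QuotOpen.quotPIsColimit s t)).1

end Groth.Agent.Lib.Helper15QuotAlg
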