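-- helper15: the quotient of a scheme by a free action of a finite group is quasi-separated, resp. separated, when the scheme is.
import Mathlib
import Groth.Prelude.Def_AlgSp
import Groth.Agent.Lib.Helper10SigmaRel
import Groth.Agent.Lib.Helper15FreeSep
import Groth.Agent.Lib.Helper15QuotAlg
import Groth.Agent.Lib.Helper12Descent
import Groth.Agent.S9889
import Groth.Agent.S10182

set_option autoImplicit false
open CategoryTheory CategoryTheory.Limits AlgebraicGeometry

universe u

namespace Groth.Agent.Lib.Helper15FreeSepMain

open Groth.Agent.Lib.Helper15FreeSep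

theorem main (S : Scheme.{u}) (U : Over S) (G : Type u) [Group G] [Finite G]
    (ρ : G →* Aut U)
    (hfree : ∀ (g : G) (x : U.left), g ≠ 1 →
      U.left.fromSpecResidueField x ≫ (ρ g).hom.left ≠ U.left.fromSpecResidueField x)
    (c : Cofan (fun _ : G => U)) (hc : IsColimit c) (s t : c.pt ⟶ U)
    (hs : ∀ g, c.inj g ≫ s = 𝟙 U) (ht : ∀ g, c.inj g ≫ t = (ρ g).hom) :
    (QuasiSeparated U.hom → AlgSp.IsQuasiSeparatedSp (QuotSh.quot Scheme.fppfPrecoverage s t)) ∧
      (IsSeparated U.hom → AlgSp.IsSeparatedSp (QuotSh.quot Scheme.fppfPrecoverage s t)) := by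
  have hE := Groth.Agent.S9889.result S U G ρ hfree c hc s t hs ht
  obtain ⟨hF, hP⟩ := Groth.Agent.Lib.Helper15QuotAlg.isAlgSpace_of_isColimit s t hE
    (Groth.Agent.Lib.Helper12.QuotOpen.quotP s t)
    (Groth.Agent.Lib.Helper12.QuotOpen.quotP_condition s t)
    (Groth.Agent.Lib.Helper12.QuotOpen.quotPIsColimit s t)
  have hcomp : ∀ g, c.inj g ≫ prod.lift t s = Limits.diag U ≫ prod.map (ρ g).hom (𝟙 U) := by
    intro g
    apply Limits.prod.hom_ext
    · rw [Category.assoc, prod.lift_fst, ht, Category.assoc, prod.map_fst, ← Category.assoc]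
      change _ = (prod.lift (𝟙 U) (𝟙 U) ≫ prod.fst) ≫ _
      rw [prod.lift_fst, Category.id_comp]
    · rw [Category.assoc, prod.lift_snd, hs, Category.assoc, prod.map_snd, ← Category.assoc]
      change _ = (prod.lift (𝟙 U) (𝟙 U) ≫ prod.snd) ≫ _
      rw [prod.lift_snd, Category.id_comp]
  have hcompL : ∀ g, (c.inj g).left ≫ (prod.lift t s).left =
      (Limits.diag U).left ≫ (prod.map (ρ g).hom (𝟙 U)).left := by
    intro g
    rw [← Over.comp_left, hcomp, Over.comp_left]
  have hisoL : ∀ g, IsIso (prod.map (ρ g).hom (𝟙 U)).left := fun g => by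
    have h1 : IsIso (prod.map (ρ g).hom (𝟙 U)) := inferInstance
    exact (Over.forget S).map_isIso (prod.map (ρ g).hom (𝟙 U))
  refine ⟨fun hqs => ?_, fun hsep => ?_⟩
  · have := Groth.Agent.Lib.Helper12.descendsAlong_quasiCompact.{u}
    refine Groth.Agent.S10182.repWith_diag_of_chart @QuasiCompact hF.diag
      (Groth.Agent.Lib.Helper12.QuotOpen.quotP s t) hP.etale hP.surjective s t hP.isPullback ?_
    apply quasiCompact_of_inj c hc
    intro g
    rw [hcompL]
    have hd : QuasiCompact (Limits.diag U).left := by
      rw [← MorphismProperty.cancel_right_of_respectsIso @QuasiCompact (Limits.diag U).left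
        (Over.prodLeftIsoPullback U U).hom, AlgSp.diag_left_comp_prodLeftIsoPullback]
      exact QuasiSeparated.quasiCompact_diagonal
    infer_instance
  · have := Groth.Agent.Lib.Helper12.descendsAlong_isClosedImmersion.{u}
    refine Groth.Agent.S10182.repWith_diag_of_chart @IsClosedImmersion hF.diag
      (Groth.Agent.Lib.Helper12.QuotOpen.quotP s t) hP.etale hP.surjective s t hP.isPullback ?_
    have hmono : Mono (prod.lift t s) := by
      refine ⟨fun {T} r r' hrr' => ?_⟩
      apply hE.injective T r r'
      · have := congrArg (· ≫ prod.fst) hrr'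
        simpa only [Category.assoc, prod.lift_fst] using this
      · have := congrArg (· ≫ prod.snd) hrr'
        simpa only [Category.assoc, prod.lift_snd] using this
    have hmonoL : Mono (prod.lift t s).left := inferInstance
    have hinj : Function.Injective (prod.lift t s).left.base := (prod.lift t s).left.injective
    have : Nonempty G := ⟨1⟩
    apply isClosedImmersion_of_inj c hc _ hinj
    intro g
    rw [hcompL]
    have hd : IsClosedImmersion (Limits.diag U).left := by
      rw [← MorphismProperty.cancel_right_of_respectsIso @IsClosedImmersion (Limits.diag U).left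
        (Over.prodLeftIsoPullback U U).hom, AlgSp.diag_left_comp_prodLeftIsoPullback]
      exact IsSeparated.isClosedImmersion_diagonal
    infer_instance

end Groth.Agent.Lib.Helper15FreeSepMain
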