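-- helper15: basics of the quotient category [X/G]: right multiplication on trivial torsors, morphisms of trivial torsors, local triviality.
import Mathlib
import Groth.Prelude.Def_AlgSt5
import Groth.Agent.Lib.Helper12Act

set_option autoImplicit false
universe u
open CategoryTheory CategoryTheory.Limits MonoidalCategory CartesianMonoidalCategory MonObj GrpObj AlgebraicGeometry

namespace Groth.Agent.Lib.Helper15Quot

open Groth.Agent.Lib.Helper12

variable {S : Scheme.{u}} {G : Over S} [GrpObj G]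

/-- point form of left multiplication on `G ⊗ T`. -/
lemma lift_leftMul {T Z : Over S} (p q : Z ⟶ G) (t : Z ⟶ T) :
    lift p (lift q t) ≫ (AlgSt.leftMul G T).act = lift (p * q) t := by
  simp [AlgSt.leftMul, comp_lift, comp_mul]

/-- `(h, t) ↦ (h g(t), f(t))`. -/
noncomputable def rmul {T T' : Over S} (f : T ⟶ T') (g : T ⟶ G) : G ⊗ T ⟶ G ⊗ T' :=
  lift (fst G T * (snd G T ≫ g)) (snd G T ≫ f)

lemma lift_rmul {T T' Z : Over S} (f : T ⟶ T') (g : T ⟶ G) (p : Z ⟶ G) (t : Z ⟶ T) :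
    lift p t ≫ rmul f g = lift (p * (t ≫ g)) (t ≫ f) := by
  simp [rmul, comp_lift, comp_mul]

@[reassoc (attr := simp)]
lemma rmul_snd {T T' : Over S} (f : T ⟶ T') (g : T ⟶ G) : rmul f g ≫ snd G T' = snd G T ≫ f := by
  simp [rmul]

@[reassoc (attr := simp)]
lemma rmul_fst {T T' : Over S} (f : T ⟶ T') (g : T ⟶ G) :
    rmul f g ≫ fst G T' = fst G T * (snd G T ≫ g) := by
  simp [rmul]

lemma rmul_one {T T' : Over S} (f : T ⟶ T') : rmul f (1 : T ⟶ G) = G ◁ f := by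
  apply CartesianMonoidalCategory.hom_ext
  · simp [rmul, Hom.one_def]
  · simp [rmul]


lemma rmul_comp {T T' T'' : Over S} (f : T ⟶ T') (g : T ⟶ G) (f' : T' ⟶ T'') (g' : T' ⟶ G) :
    rmul f g ≫ rmul f' g' = rmul (f ≫ f') (g * (f ≫ g')) := by
  apply CartesianMonoidalCategory.hom_ext
  · simp [rmul, comp_mul, _root_.mul_assoc]
  · simp [rmul]

lemma rmul_id_one (T : Over S) : rmul (𝟙 T) (1 : T ⟶ G) = 𝟙 _ := by
  rw [rmul_one]; simp

/-- equivariance of `rmul` for left multiplication. -/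
lemma leftMul_rmul {T T' : Over S} (f : T ⟶ T') (g : T ⟶ G) :
    (AlgSt.leftMul G T).act ≫ rmul f g = (G ◁ rmul f g) ≫ (AlgSt.leftMul G T').act := by
  apply CartesianMonoidalCategory.hom_ext
  · simp [rmul, AlgSt.leftMul, comp_mul, _root_.mul_assoc]
  · simp [rmul, AlgSt.leftMul]

/-- the square of `rmul f g` over `f` is cartesian. -/
lemma isPullback_rmul {T T' : Over S} (f : T ⟶ T') (g : T ⟶ G) :
    IsPullback (rmul f g) (snd G T) (snd G T') f := by
  have h1 : rmul f g = rmul (𝟙 T) g ≫ (G ◁ f) := by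
    rw [← rmul_one, rmul_comp]; simp
  have hiso : IsIso (rmul (𝟙 T) g) := by
    refine ⟨⟨rmul (𝟙 T) g⁻¹, ?_, ?_⟩⟩
    · rw [rmul_comp]; simp [rmul_id_one]
    · rw [rmul_comp]; simp [rmul_id_one]
  rw [h1]
  have h2 : IsPullback (rmul (𝟙 T) g) (snd G T) (snd G T) (𝟙 T) :=
    IsPullback.of_horiz_isIso ⟨by simp⟩
  have := h2.paste_horiz (AlgSt.isPullback_whiskerLeft (G := G) f)
  simpa using this


section Triv

variable (K : Precoverage Scheme.{u}) [K.HasIsos] {X : Over S} (aX : AlgGrp.Action G X)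

/-- the trivial torsor attached to a `T`-point of `X`. -/
noncomputable abbrev triv {T : Over S} (x : T ⟶ X) : AlgSt.QuotObj K G aX :=
  (AlgSt.quotMap K G aX).obj ⟨T, ⟨x⟩⟩

/-- right multiplication by `g` over `f` as a morphism of trivial torsors. -/
noncomputable def trivHom {T T' : Over S} (f : T ⟶ T') (x : T ⟶ X) (x' : T' ⟶ X) (g : T ⟶ G)
    (hg : lift g (f ≫ x') ≫ aX.act = x) : triv K aX x ⟶ triv K aX x' where
  base := f
  top := rmul f g
  eqv := leftMul_rmul f g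
  cart := isPullback_rmul f g
  wφ := by
    change rmul f g ≫ (G ◁ x') ≫ aX.act = (G ◁ x) ≫ aX.act
    have h1 : rmul f g ≫ (G ◁ x') = lift (fst G T * (snd G T ≫ g)) (snd G T ≫ f ≫ x') := by
      apply CartesianMonoidalCategory.hom_ext <;> simp [rmul]
    rw [reassoc_of% h1, act_mul]
    have h2 : lift (snd G T ≫ g) (snd G T ≫ f ≫ x') ≫ aX.act = snd G T ≫ x := by
      rw [← hg, ← comp_lift_assoc]
    rw [h2]
    rfl

@[simp] lemma trivHom_base {T T' : Over S} (f : T ⟶ T') (x : T ⟶ X) (x' : T' ⟶ X) (g : T ⟶ G)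
    (hg : lift g (f ≫ x') ≫ aX.act = x) : (trivHom K aX f x x' g hg).base = f := rfl

@[simp] lemma trivHom_top {T T' : Over S} (f : T ⟶ T') (x : T ⟶ X) (x' : T' ⟶ X) (g : T ⟶ G)
    (hg : lift g (f ≫ x') ≫ aX.act = x) : (trivHom K aX f x x' g hg).top = rmul f g := rfl

omit [K.HasIsos] in
lemma top_eq_aux {T T' : Over S} (f : T ⟶ T') (t : G ⊗ T ⟶ G ⊗ T')
    (heqv : (AlgSt.leftMul G T).act ≫ t = (G ◁ t) ≫ (AlgSt.leftMul G T').act)
    (hsnd : t ≫ snd G T' = snd G T ≫ f) :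
    t = rmul f (lift (1 : T ⟶ G) (𝟙 T) ≫ t ≫ fst G T') := by
  have h1 : lift (fst G T) (snd G T ≫ lift (1 : T ⟶ G) (𝟙 T)) ≫ (AlgSt.leftMul G T).act = 𝟙 _ := by
    rw [comp_lift, lift_leftMul]
    apply CartesianMonoidalCategory.hom_ext <;> simp
  have h2 : t = lift (fst G T) (snd G T ≫ lift (1 : T ⟶ G) (𝟙 T)) ≫ (G ◁ t) ≫
      (AlgSt.leftMul G T').act := by
    rw [← heqv, reassoc_of% h1]
  have h3 : lift (fst G T) (snd G T ≫ lift (1 : T ⟶ G) (𝟙 T)) ≫ (G ◁ t) =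
      lift (fst G T) (lift (snd G T ≫ lift (1 : T ⟶ G) (𝟙 T) ≫ t ≫ fst G T') (snd G T ≫ f)) := by
    apply CartesianMonoidalCategory.hom_ext
    · simp
    · apply CartesianMonoidalCategory.hom_ext
      · simp [comp_lift_assoc]
      · simp [hsnd]
  rw [← Category.assoc, h3, lift_leftMul] at h2
  exact h2

omit [K.HasIsos] in
lemma elt_act_aux {T T' : Over S} (f : T ⟶ T') (t : G ⊗ T ⟶ G ⊗ T')
    (hsnd : t ≫ snd G T' = snd G T ≫ f) (x : T ⟶ X) (x' : T' ⟶ X)
    (hw : t ≫ (G ◁ x') ≫ aX.act = (G ◁ x) ≫ aX.act) :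
    lift (lift (1 : T ⟶ G) (𝟙 T) ≫ t ≫ fst G T') (f ≫ x') ≫ aX.act = x := by
  have h3 : lift (1 : T ⟶ G) (𝟙 T) ≫ (G ◁ x) ≫ aX.act = x := by
    rw [← Category.assoc]
    have : lift (1 : T ⟶ G) (𝟙 T) ≫ (G ◁ x) = lift 1 x := by
      apply CartesianMonoidalCategory.hom_ext <;> simp
    rw [this, act_one]
  have h4 : lift (lift (1 : T ⟶ G) (𝟙 T) ≫ t ≫ fst G T') (f ≫ x') =
      lift (1 : T ⟶ G) (𝟙 T) ≫ t ≫ (G ◁ x') := by
    apply CartesianMonoidalCategory.hom_ext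
    · simp
    · simp [reassoc_of% hsnd]
  rw [h4, Category.assoc, Category.assoc, hw, h3]

/-- the `G`-component of a morphism of trivial torsors. -/
noncomputable def homElt {T T' : Over S} {x : T ⟶ X} {x' : T' ⟶ X}
    (h : triv K aX x ⟶ triv K aX x') : T ⟶ G :=
  lift (1 : T ⟶ G) (𝟙 T) ≫ h.top ≫ fst G T'

lemma hom_top_snd {T T' : Over S} {x : T ⟶ X} {x' : T' ⟶ X}
    (h : triv K aX x ⟶ triv K aX x') : h.top ≫ snd G T' = snd G T ≫ h.base :=
  h.cart.w

lemma hom_top_eq {T T' : Over S} {x : T ⟶ X} {x' : T' ⟶ X}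
    (h : triv K aX x ⟶ triv K aX x') : h.top = rmul h.base (homElt K aX h) :=
  top_eq_aux h.base h.top h.eqv h.cart.w

lemma hom_elt_act {T T' : Over S} {x : T ⟶ X} {x' : T' ⟶ X}
    (h : triv K aX x ⟶ triv K aX x') :
    lift (homElt K aX h) (h.base ≫ x') ≫ aX.act = x :=
  elt_act_aux aX h.base h.top h.cart.w x x' h.wφ

end Triv

section Loc

variable (K : Precoverage Scheme.{u}) [K.HasIsos] {X : Over S} (aX : AlgGrp.Action G X)

/-- a point `s` of the torsor `A` gives a morphism from a trivial torsor to `A`. -/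
noncomputable def homOfSection (A : AlgSt.QuotObj K G aX) {T : Over S} (s : T ⟶ A.P) :
    triv K aX (s ≫ A.φ) ⟶ A where
  base := s ≫ A.π
  top := (G ◁ s) ≫ A.act.act
  eqv := by
    change (AlgSt.leftMul G T).act ≫ (G ◁ s) ≫ A.act.act =
      (G ◁ ((G ◁ s) ≫ A.act.act)) ≫ A.act.act
    have h1 : (AlgSt.leftMul G T).act ≫ (G ◁ s) =
        lift (fst G (G ⊗ T) * (snd G (G ⊗ T) ≫ fst G T)) (snd G (G ⊗ T) ≫ snd G T ≫ s) := by
      apply CartesianMonoidalCategory.hom_ext <;> simp [AlgSt.leftMul]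
    have h2 : (G ◁ ((G ◁ s) ≫ A.act.act)) =
        lift (fst G (G ⊗ T))
          (lift (snd G (G ⊗ T) ≫ fst G T) (snd G (G ⊗ T) ≫ snd G T ≫ s) ≫ A.act.act) := by
      apply CartesianMonoidalCategory.hom_ext
      · simp
      · simp only [whiskerLeft_snd, lift_snd]
        rw [← Category.assoc, ← Category.assoc]
        congr 1
        apply CartesianMonoidalCategory.hom_ext <;> simp
    rw [reassoc_of% h1, h2, act_mul]
  cart := by
    have := (AlgSt.isPullback_whiskerLeft (G := G) s).paste_horiz A.cart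
    exact this
  wφ := by
    change ((G ◁ s) ≫ A.act.act) ≫ A.φ = (G ◁ (s ≫ A.φ)) ≫ aX.act
    rw [Category.assoc, A.eqv, MonoidalCategory.whiskerLeft_comp, Category.assoc]

@[simp] lemma homOfSection_base (A : AlgSt.QuotObj K G aX) {T : Over S} (s : T ⟶ A.P) :
    (homOfSection K aX A s).base = s ≫ A.π := rfl

@[simp] lemma homOfSection_top (A : AlgSt.QuotObj K G aX) {T : Over S} (s : T ⟶ A.P) :
    (homOfSection K aX A s).top = (G ◁ s) ≫ A.act.act := rfl

theorem locally_from_quotMap (A : AlgSt.QuotObj K G aX) :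
    ∃ (R : Presieve A.base.left) (_ : R ∈ K A.base.left),
      ∀ ⦃T' : Scheme.{u}⦄ (f : T' ⟶ A.base.left), R f →
        ∃ (x : Over.mk (f ≫ A.base.hom) ⟶ X)
          (h : (AlgSt.quotMap K G aX).obj ((AlgSt.ofOverCat X).obj (Over.mk x)) ⟶ A),
          h.base = Over.homMk f rfl := by
  obtain ⟨R, hR, hsec⟩ := A.loc
  refine ⟨R, hR, fun T' f hf => ?_⟩
  obtain ⟨s₀, hs₀⟩ := hsec f hf
  have hs₀' : s₀ ≫ A.π.left = f := hs₀
  let s : Over.mk (f ≫ A.base.hom) ⟶ A.P := Over.homMk s₀ (by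
    have := Over.w A.π
    rw [← this, ← Category.assoc, hs₀']
    rfl)
  refine ⟨s ≫ A.φ, homOfSection K aX A s, ?_⟩
  rw [homOfSection_base]
  ext
  simpa [s] using hs₀'

end Loc


end Groth.Agent.Lib.Helper15Quot
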