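-- helper15: the square G×X ⇉ X → [X/G] is 2-cartesian (canonical 2-isomorphism = right multiplication).
import Mathlib
import Groth.Prelude.Def_AlgSt5
import Groth.Agent.Lib.Helper15QuotBasic
import Groth.Agent.Lib.Helper17FibFp
import Groth.Agent.Lib.Helper17FibEquiv

set_option autoImplicit false
universe u
open CategoryTheory CategoryTheory.Limits MonoidalCategory CartesianMonoidalCategory MonObj GrpObj AlgebraicGeometry

namespace Groth.Agent.Lib.Helper15Quot

open Groth.Agent.Lib.Helper12 Groth.Agent.Lib.Helper17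

variable {S : Scheme.{u}} {G : Over S} [GrpObj G]

section Iso

variable {K : Precoverage Scheme.{u}} {X : Over S} {aX : AlgGrp.Action G X}

/-- a morphism of `[X/G]` over an isomorphism of the base is an isomorphism. -/
lemma isIso_of_isIso_base {A B : AlgSt.QuotObj K G aX} (h : A ⟶ B) [IsIso h.base] : IsIso h := by
  have htop : IsIso h.top := h.cart.isIso_fst_of_isIso
  have hw : h.top ≫ B.π = A.π ≫ h.base := h.cart.w
  refine ⟨⟨{ base := inv h.base, top := inv h.top, eqv := ?_, cart := ?_, wφ := ?_ }, ?_, ?_⟩⟩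
  · have h1 : (G ◁ inv h.top) ≫ (G ◁ h.top) = 𝟙 _ := by
      rw [← MonoidalCategory.whiskerLeft_comp]; simp
    have h2 := h.eqv
    rw [← cancel_mono h.top, Category.assoc, Category.assoc, IsIso.inv_hom_id, Category.comp_id,
      h2, reassoc_of% h1]
  · refine IsPullback.of_horiz_isIso ⟨?_⟩
    rw [IsIso.inv_comp_eq, ← Category.assoc, hw, Category.assoc, IsIso.hom_inv_id,
      Category.comp_id]
  · rw [IsIso.inv_comp_eq, h.wφ]
  · apply AlgSt.QuotObj.hom_ext
    · change h.base ≫ inv h.base = 𝟙 _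
      simp
    · change h.top ≫ inv h.top = 𝟙 _
      simp
  · apply AlgSt.QuotObj.hom_ext
    · change inv h.base ≫ h.base = 𝟙 _
      simp
    · change inv h.top ≫ h.top = 𝟙 _
      simp

end Iso


section TwoCart

variable (K : Precoverage Scheme.{u}) [K.HasIsos] {X : Over S} (aX : AlgGrp.Action G X)

/-- the functor `G × X ⟶ X` induced by the action. -/
noncomputable abbrev actF : AlgSt.ofSch (G ⊗ X) ⥤ᵇ AlgSt.ofSch X :=
  AlgSt.ofSpMap ((AlgSp.yon S).map aX.act)

/-- the functor `G × X ⟶ X` induced by the projection. -/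
noncomputable abbrev sndF : AlgSt.ofSch (G ⊗ X) ⥤ᵇ AlgSt.ofSch X :=
  AlgSt.ofSpMap ((AlgSp.yon S).map (snd G X))

/-- the component of the canonical 2-isomorphism at a point `p = (g, x)`: right multiplication
by `g`, from the trivial torsor of `g x` to the trivial torsor of `x`. -/
noncomputable def actSndHom (w : (AlgSt.ofSch (G ⊗ X)).obj) :
    triv K aX (w.sec.down ≫ aX.act) ⟶ triv K aX (w.sec.down ≫ snd G X) :=
  trivHom K aX (𝟙 w.base) _ _ (w.sec.down ≫ fst G X) (by
    rw [Category.id_comp, ← comp_lift, lift_fst_snd, Category.comp_id])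

lemma isIso_actSndHom (w : (AlgSt.ofSch (G ⊗ X)).obj) : IsIso (actSndHom K aX w) := by
  have : IsIso (actSndHom K aX w).base := by
    change IsIso (𝟙 w.base)
    infer_instance
  exact isIso_of_isIso_base _

/-- the canonical 2-isomorphism `π ∘ act ≅ π ∘ pr₂`. -/
noncomputable def actSndIso :
    BasedFunctor.comp (actF aX) (AlgSt.quotMap K G aX) ≅
      BasedFunctor.comp (sndF (G := G) (X := X)) (AlgSt.quotMap K G aX) :=
  BasedNatIso.mkNatIso
    (NatIso.ofComponents (fun w => @asIso _ _ _ _ (actSndHom K aX w) (isIso_actSndHom K aX w)) (by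
      intro w w' m
      apply AlgSt.QuotObj.hom_ext
      · change m.hom ≫ 𝟙 _ = 𝟙 _ ≫ m.hom
        simp
      · change (G ◁ m.hom) ≫ rmul (𝟙 w'.base) (w'.sec.down ≫ fst G X) =
          rmul (𝟙 w.base) (w.sec.down ≫ fst G X) ≫ (G ◁ m.hom)
        have hm : m.hom ≫ w'.sec.down = w.sec.down := congrArg ULift.down m.map_sec
        rw [← rmul_one, rmul_comp, rmul_comp, ← hm]
        simp))
    (fun w => by
      change (AlgSt.QuotObj.forget K G aX).IsHomLift (𝟙 w.base) (actSndHom K aX w)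
      have := IsHomLift.map (AlgSt.QuotObj.forget K G aX) (actSndHom K aX w)
      exact this)


/-- the comparison functor `G × X ⟶ X ×_{[X/G]} X`. -/
noncomputable abbrev cmp : AlgSt.ofSch (G ⊗ X) ⥤ᵇ
    FibCat.fp (AlgSt.quotMap K G aX) (AlgSt.quotMap K G aX) :=
  FibCat.fpLift (actF aX) (sndF (G := G) (X := X)) (actSndIso K aX)

instance cmp_faithful : (cmp K aX).toFunctor.Faithful where
  map_injective := by
    intro w w' m m' h
    apply Stk.EltObj.hom_ext
    have := congrArg (fun φ => φ.hom.fst.hom) h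
    exact this

/-- the data of a morphism between images under `cmp`. -/
lemma cmp_map_hom_fst {w w' : (AlgSt.ofSch (G ⊗ X)).obj} (m : w ⟶ w') :
    ((cmp K aX).map m).hom.fst.hom = m.hom := rfl

lemma cmp_map_hom_snd {w w' : (AlgSt.ofSch (G ⊗ X)).obj} (m : w ⟶ w') :
    ((cmp K aX).map m).hom.snd.hom = m.hom := rfl

instance cmp_full : (cmp K aX).toFunctor.Full where
  map_surjective := by
    intro w w' φ
    -- components
    obtain ⟨f₁, hf₁⟩ : ∃ f : w.base ⟶ w'.base, f = φ.hom.fst.hom := ⟨_, rfl⟩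
    obtain ⟨f₂, hf₂⟩ : ∃ f : w.base ⟶ w'.base, f = φ.hom.snd.hom := ⟨_, rfl⟩
    have hs₂ : f₂ ≫ w'.sec.down ≫ snd G X = w.sec.down ≫ snd G X := by
      rw [hf₂]; exact congrArg ULift.down φ.hom.snd.map_sec
    have hw := φ.hom.w
    have hwb : f₁ ≫ 𝟙 _ = 𝟙 _ ≫ f₂ := by
      rw [hf₁, hf₂]
      exact congrArg (fun k => AlgSt.QuotObj.Hom.base k) hw
    have hwt : (G ◁ f₁) ≫ rmul (𝟙 w'.base) (w'.sec.down ≫ fst G X) =
        rmul (𝟙 w.base) (w.sec.down ≫ fst G X) ≫ (G ◁ f₂) := by
      rw [hf₁, hf₂]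
      exact congrArg (fun k => AlgSt.QuotObj.Hom.top k) hw
    have h12 : f₁ = f₂ := by simpa using hwb
    have hs₁ : f₁ ≫ w'.sec.down ≫ fst G X = w.sec.down ≫ fst G X := by
      have := congrArg (fun k => lift (1 : w.base ⟶ G) (𝟙 w.base) ≫ k ≫ fst G w'.base) hwt
      simp only [← rmul_one, rmul_comp] at this
      simpa [rmul, comp_mul] using this
    have hs : f₁ ≫ w'.sec.down = w.sec.down := by
      apply CartesianMonoidalCategory.hom_ext
      · simpa using hs₁
      · rw [h12]; simpa using hs₂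
    refine ⟨⟨f₁, congrArg ULift.up hs⟩, ?_⟩
    apply ObjectProperty.hom_ext
    apply CategoricalPullback.hom_ext
    · apply Stk.EltObj.hom_ext
      exact hf₁
    · apply Stk.EltObj.hom_ext
      exact h12.trans hf₂


/-- isomorphisms in the category of elements from isomorphisms of the base. -/
def eltIso {C : Type*} [Category C] {P : Cᵒᵖ ⥤ Type*} {a b : Stk.EltObj P} (i : a.base ≅ b.base)
    (h : P.map i.hom.op b.sec = a.sec) : a ≅ b where
  hom := ⟨i.hom, h⟩
  inv := ⟨i.inv, by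
    rw [← h, ← Functor.map_comp_apply, ← op_comp, i.inv_hom_id]; simp⟩
  hom_inv_id := Stk.EltObj.hom_ext i.hom_inv_id
  inv_hom_id := Stk.EltObj.hom_ext i.inv_hom_id

theorem cmp_essSurjOver : EssSurjOver (cmp K aX) := by
  intro ζ
  let a : (AlgSt.ofSch X).obj := ζ.obj.fst
  let b : (AlgSt.ofSch X).obj := ζ.obj.snd
  let h : triv K aX a.sec.down ⟶ triv K aX b.sec.down := ζ.obj.iso.hom
  have hiso : IsIso h := inferInstanceAs (IsIso ζ.obj.iso.hom)
  let f : a.base ⟶ b.base := h.base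
  have hf : IsIso f := by
    have : IsIso ((AlgSt.QuotObj.forget K G aX).map h) := inferInstance
    exact this
  let g : a.base ⟶ G := homElt K aX h
  have hact : lift g (f ≫ b.sec.down) ≫ aX.act = a.sec.down := hom_elt_act K aX h
  have htop : h.top = rmul f g := hom_top_eq K aX h
  let ξ : (AlgSt.ofSch (G ⊗ X)).obj := ⟨a.base, ⟨lift g (f ≫ b.sec.down)⟩⟩
  let e₁ : (actF aX).obj ξ ≅ a := eltIso (Iso.refl _) (by
    change ULift.up (𝟙 _ ≫ a.sec.down) = ULift.up (lift g (f ≫ b.sec.down) ≫ aX.act)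
    rw [hact, Category.id_comp])
  let e₂ : (sndF (G := G) (X := X)).obj ξ ≅ b := eltIso (@asIso _ _ _ _ f hf) (by
    change ULift.up (f ≫ b.sec.down) = ULift.up (lift g (f ≫ b.sec.down) ≫ snd G X)
    rw [lift_snd])
  have w : (AlgSt.quotMap K G aX).map e₁.hom ≫ ζ.obj.iso.hom =
      ((cmp K aX).obj ξ).obj.iso.hom ≫ (AlgSt.quotMap K G aX).map e₂.hom := by
    apply AlgSt.QuotObj.hom_ext
    · change 𝟙 _ ≫ f = 𝟙 _ ≫ f
      rfl
    · have ht : (G ◁ 𝟙 a.base) ≫ rmul f g = rmul (𝟙 a.base) g ≫ (G ◁ f) := by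
        rw [← rmul_one, ← rmul_one, rmul_comp, rmul_comp]
        simp
      change (G ◁ 𝟙 a.base) ≫ h.top =
        rmul (𝟙 a.base) (lift g (f ≫ b.sec.down) ≫ fst G X) ≫ (G ◁ f)
      rw [htop, lift_fst]
      exact ht
  refine ⟨ξ, ObjectProperty.isoMk _ (CategoricalPullback.mkIso
    (x := ((cmp K aX).obj ξ).obj) (y := ζ.obj) e₁ e₂ w), ?_⟩
  rw [fp_isHomLift_iff]
  have := IsHomLift.map (Stk.EltObj.forget ((AlgSp.yon S).obj X).obj) e₁.hom
  exact this

theorem isTwoCartOver_act_snd :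
    FibCat.IsTwoCartOver (actF aX) (sndF (G := G) (X := X)) (actSndIso K aX) :=
  isEquivOver_of_fullyFaithful_of_essSurjOver (cmp K aX) (cmp_essSurjOver K aX)

end TwoCart

end Groth.Agent.Lib.Helper15Quot
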