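-- helper15: universal property of X → [X/G] for invariant maps into fppf sheaves; equality criterion for functors into the category of a presheaf.
import Mathlib
import Groth.Prelude.Def_AlgSt5
import Groth.Agent.Lib.Helper15QuotBasic
import Groth.Agent.Lib.Helper17StkPsh2

set_option autoImplicit false
universe w v₁ u₁ v u
open CategoryTheory CategoryTheory.Limits MonoidalCategory CartesianMonoidalCategory MonObj GrpObj AlgebraicGeometry Opposite

namespace Groth.Agent.Lib.Helper15Quot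

open Groth.Agent.Lib.Helper12 Groth.Agent.Lib.Helper17

section PshExt

variable {C : Type u} [Category.{v} C] {P : Cᵒᵖ ⥤ Type w} {𝒜 : BasedCategory.{v₁, u₁} C}

theorem basedFunctor_ext {𝒳 𝒴 : BasedCategory.{v₁, u₁} C} {F G : 𝒳 ⥤ᵇ 𝒴}
    (h : F.toFunctor = G.toFunctor) : F = G := by
  cases F; cases G; cases h; rfl

theorem eltObj_eq_mk (e : Stk.EltObj P) {U : C} (h : e.base = U) :
    e = ⟨U, P.map (eqToHom h.symm).op e.sec⟩ := by
  cases e
  subst h
  simp

theorem eltObj_eqToHom_hom {a b : Stk.EltObj P} (h : a = b) :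
    (eqToHom h).hom = eqToHom (congrArg Stk.EltObj.base h) := by
  subst h; rfl

/-- functors over the base into the category of a presheaf with the same sections are equal. -/
theorem psh_functor_ext {H H' : 𝒜 ⥤ᵇ Stk.ofPsh P} (h : ∀ a, pshSec H a = pshSec H' a) :
    H = H' := by
  cases H with | mk H w => 
  cases H' with | mk H' w' =>
  have hobj : ∀ a, H.obj a = H'.obj a := by
    intro a
    have h1 := eltObj_eq_mk (H.obj a) (pshBase ⟨H, w⟩ a)
    have h2 := eltObj_eq_mk (H'.obj a) (pshBase ⟨H', w'⟩ a)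
    rw [h1, h2]
    congr 1
    exact h a
  have : H = H' := by
    refine CategoryTheory.Functor.ext hobj (fun a b m => ?_)
    apply Stk.EltObj.hom_ext
    rw [Stk.EltObj.comp_hom, Stk.EltObj.comp_hom, eltObj_eqToHom_hom, eltObj_eqToHom_hom]
    have e1 := pshHom ⟨H, w⟩ m
    have e2 := pshHom ⟨H', w'⟩ m
    change (H.map m).hom = _ at e1
    change (H'.map m).hom = _ at e2
    rw [e1, e2]
    simp
  subst this
  rfl

end PshExt


section Descent

variable {S : Scheme.{u}} {G : Over S} [GrpObj G] {K : Precoverage Scheme.{u}}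
  {X : Over S} {aX : AlgGrp.Action G X}

/-- the sieve of morphisms to the base of a torsor over which it has a section. -/
def secSieve (A : AlgSt.QuotObj K G aX) : Sieve A.base where
  arrows T t := ∃ s : T ⟶ A.P, s ≫ A.π = t
  downward_closed := by
    rintro T T' t ⟨s, rfl⟩ r
    exact ⟨r ≫ s, by simp⟩

theorem secSieve_mem (A : AlgSt.QuotObj K G aX) : secSieve A ∈ QuotSh.J K S A.base := by
  obtain ⟨R, hR, hsec⟩ := A.loc
  rw [GrothendieckTopology.mem_over_iff]
  refine K.toGrothendieck.superset_covering ?_ (Precoverage.generate_mem_toGrothendieck hR)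
  rw [Sieve.generate_le_iff]
  intro T' f hf
  obtain ⟨s₀, hs₀⟩ := hsec f hf
  have hs₀' : s₀ ≫ A.π.left = f := hs₀
  rw [Sieve.overEquiv_iff]
  refine ⟨Over.homMk s₀ (by
    have := Over.w A.π
    rw [← this, ← Category.assoc, hs₀']
    rfl), ?_⟩
  ext
  simpa using hs₀'

variable (P : (Over S)ᵒᵖ ⥤ Type w) (ev : ∀ T : Over S, (T ⟶ X) → P.obj (op T))

/-- invariance of `ev` under the action. -/
def EvInv (aX : AlgGrp.Action G X) (ev : ∀ T : Over S, (T ⟶ X) → P.obj (op T)) : Prop :=
  ∀ (T : Over S) (g : T ⟶ G) (x : T ⟶ X), ev T (lift g x ≫ aX.act) = ev T x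

/-- naturality of `ev`. -/
def EvNat (ev : ∀ T : Over S, (T ⟶ X) → P.obj (op T)) : Prop :=
  ∀ (T' T : Over S) (r : T' ⟶ T) (x : T ⟶ X), P.map r.op (ev T x) = ev T' (r ≫ x)

variable {P ev}

theorem ev_section_eq (hinv : EvInv P aX ev) (A : AlgSt.QuotObj K G aX) {T : Over S}
    (s s' : T ⟶ A.P) (h : s ≫ A.π = s' ≫ A.π) : ev T (s ≫ A.φ) = ev T (s' ≫ A.φ) := by
  have hu1 : A.cart.lift s s' h ≫ A.act.act = s := A.cart.lift_fst _ _ _
  have hu2 : A.cart.lift s s' h ≫ snd G A.P = s' := A.cart.lift_snd _ _ _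
  have h1 : s ≫ A.φ = lift (A.cart.lift s s' h ≫ fst G A.P) (s' ≫ A.φ) ≫ aX.act := by
    conv_lhs => rw [← hu1, Category.assoc, A.eqv, ← Category.assoc]
    congr 1
    apply CartesianMonoidalCategory.hom_ext
    · simp
    · simp [reassoc_of% hu2]
  rw [h1, hinv]

/-- the family of sections on the section sieve. -/
noncomputable def secFam (A : AlgSt.QuotObj K G aX) (ev : ∀ T : Over S, (T ⟶ X) → P.obj (op T)) :
    Presieve.FamilyOfElements P (secSieve A).arrows :=
  fun T _ ht => ev T (ht.choose ≫ A.φ)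

theorem secFam_eq (hinv : EvInv P aX ev) (A : AlgSt.QuotObj K G aX) {T : Over S} (s : T ⟶ A.P)
    (t : T ⟶ A.base) (ht : s ≫ A.π = t) :
    secFam A ev t ⟨s, ht⟩ = ev T (s ≫ A.φ) := by
  have hc : (⟨s, ht⟩ : (secSieve A).arrows t).choose ≫ A.π = t :=
    (⟨s, ht⟩ : (secSieve A).arrows t).choose_spec
  exact ev_section_eq hinv A _ _ (hc.trans ht.symm)

theorem secFam_compatible (hinv : EvInv P aX ev) (hnat : EvNat P ev) (A : AlgSt.QuotObj K G aX) :
    (secFam A ev).Compatible := by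
  intro T₁ T₂ Z r₁ r₂ t₁ t₂ h₁ h₂ hr
  obtain ⟨s₁, hs₁⟩ := h₁
  obtain ⟨s₂, hs₂⟩ := h₂
  rw [secFam_eq hinv A s₁ t₁ hs₁, secFam_eq hinv A s₂ t₂ hs₂, hnat, hnat, ← Category.assoc,
    ← Category.assoc]
  apply ev_section_eq hinv
  rw [Category.assoc, Category.assoc, hs₁, hs₂, hr]


variable (hP : Presieve.IsSheaf (QuotSh.J K S) P) (hinv : EvInv P aX ev) (hnat : EvNat P ev)

/-- the descended section over the base of a torsor. -/
noncomputable def descSec (A : AlgSt.QuotObj K G aX) : P.obj (op A.base) :=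
  (hP (secSieve A) (secSieve_mem A)).amalgamate (secFam A ev) (secFam_compatible hinv hnat A)

theorem descSec_spec (A : AlgSt.QuotObj K G aX) {T : Over S} (s : T ⟶ A.P) :
    P.map (s ≫ A.π).op (descSec hP hinv hnat A) = ev T (s ≫ A.φ) := by
  rw [descSec, Presieve.IsSheafFor.valid_glue _ _ _ ⟨s, rfl⟩, secFam_eq hinv A s _ rfl]

theorem descSec_unique (A : AlgSt.QuotObj K G aX) (m : P.obj (op A.base))
    (hm : ∀ {T : Over S} (s : T ⟶ A.P), P.map (s ≫ A.π).op m = ev T (s ≫ A.φ)) :
    m = descSec hP hinv hnat A := by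
  apply (hP _ (secSieve_mem A)).isSeparatedFor.ext
  rintro T t ⟨s, rfl⟩
  rw [hm, descSec_spec]

theorem descSec_compat {A B : (AlgSt.QuotSt K G aX).obj} (h : A ⟶ B) :
    P.map ((AlgSt.QuotSt K G aX).p.map h).op (descSec hP hinv hnat B) =
      descSec hP hinv hnat A := by
  apply descSec_unique
  intro T s
  have h1 := psh_map_op_map_op P (s ≫ A.π) h.base (descSec hP hinv hnat B)
  have h2 : (s ≫ A.π) ≫ h.base = (s ≫ h.top) ≫ B.π := by
    rw [Category.assoc, Category.assoc, h.cart.w]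
  rw [h2, descSec_spec, Category.assoc, h.wφ] at h1
  exact h1

/-- the functor `[X/G] ⟶ P` induced by an invariant natural family. -/
noncomputable def descFunctor : AlgSt.QuotSt K G aX ⥤ᵇ Stk.ofPsh P :=
  pshOfFam (𝒜 := AlgSt.QuotSt K G aX) (fun A => descSec hP hinv hnat A)
    (fun h => descSec_compat hP hinv hnat h)

theorem pshSec_descFunctor (A : AlgSt.QuotObj K G aX) :
    pshSec (descFunctor hP hinv hnat) A = descSec hP hinv hnat A :=
  pshSec_ofFam (𝒜 := AlgSt.QuotSt K G aX) (fun A => descSec hP hinv hnat A)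
    (fun h => descSec_compat hP hinv hnat h) A

omit hP hinv hnat in
theorem descSec_triv_aux (hinv : EvInv P aX ev) (hnat : EvNat P ev) {T T' : Over S} (x : T ⟶ X)
    (s : T' ⟶ G ⊗ T) :
    P.map (s ≫ snd G T).op (ev T x) = ev T' (s ≫ (G ◁ x) ≫ aX.act) := by
  rw [hnat]
  have : s ≫ (G ◁ x) = lift (s ≫ fst G T) ((s ≫ snd G T) ≫ x) := by
    apply CartesianMonoidalCategory.hom_ext <;> simp
  rw [← Category.assoc, this, hinv]

theorem descSec_triv [K.HasIsos] {T : Over S} (x : T ⟶ X) :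
    descSec hP hinv hnat (triv K aX x) = ev T x := by
  symm
  refine descSec_unique hP hinv hnat (triv K aX x) (ev T x) (fun {T'} s => ?_)
  exact descSec_triv_aux hinv hnat x s

theorem pshSec_comp_quotMap_descFunctor [K.HasIsos] (a : (AlgSt.ofSch X).obj) :
    pshSec (BasedFunctor.comp (AlgSt.quotMap K G aX) (descFunctor hP hinv hnat)) a =
      ev a.base a.sec.down := by
  have h1 : pshSec (BasedFunctor.comp (AlgSt.quotMap K G aX) (descFunctor hP hinv hnat)) a =
      descSec hP hinv hnat (triv K aX a.sec.down) := by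
    unfold pshSec
    exact psh_map_id_op P _
  rw [h1, descSec_triv]

theorem descFunctor_unique [K.HasIsos] (φ : AlgSt.QuotSt K G aX ⥤ᵇ Stk.ofPsh P)
    (hφ : ∀ a : (AlgSt.ofSch X).obj,
      pshSec (BasedFunctor.comp (AlgSt.quotMap K G aX) φ) a = ev a.base a.sec.down) :
    φ = descFunctor hP hinv hnat := by
  apply psh_functor_ext
  intro A
  rw [pshSec_descFunctor]
  apply descSec_unique
  intro T s
  have h1 := pshSec_map φ (homOfSection K aX A s)
  have h2 := hφ ⟨T, ⟨s ≫ A.φ⟩⟩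
  have h3 : pshSec φ (triv K aX (s ≫ A.φ)) =
      pshSec (BasedFunctor.comp (AlgSt.quotMap K G aX) φ) ⟨T, ⟨s ≫ A.φ⟩⟩ := rfl
  rw [h3, h2] at h1
  exact h1

end Descent

section Univ

variable {S : Scheme.{u}} {G : Over S} [GrpObj G] {X : Over S} (aX : AlgGrp.Action G X)

/-- universal property of `X ⟶ [X/G]` for invariant maps into fppf sheaves. -/
theorem existsUnique_of_invariant (F : AlgSp.Sp S) (f : (AlgSp.yon S).obj X ⟶ F)
    (hf : (AlgSp.yon S).map aX.act ≫ f = (AlgSp.yon S).map (snd G X) ≫ f) :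
    ∃! φ : AlgSt.QuotSt Scheme.fppfPrecoverage G aX ⥤ᵇ AlgSt.ofSp F,
      BasedFunctor.comp (AlgSt.quotMap Scheme.fppfPrecoverage G aX) φ = AlgSt.ofSpMap f := by
  let ev : ∀ T : Over S, (T ⟶ X) → F.obj.obj (op T) := fun T x => f.hom.app (op T) ⟨x⟩
  have hnat : EvNat F.obj ev := by
    intro T' T r x
    exact (NatTrans.naturality_apply f.hom r.op ⟨x⟩).symm
  have hinv : EvInv F.obj aX ev := by
    intro T g x
    have h1 := congrArg (fun k => k.hom.app (op T) ⟨lift g x⟩) hf
    have h2 : lift g x ≫ snd G X = x := lift_snd _ _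
    change f.hom.app (op T) ⟨lift g x ≫ aX.act⟩ = f.hom.app (op T) ⟨lift g x ≫ snd G X⟩ at h1
    rw [h2] at h1
    exact h1
  have hP : Presieve.IsSheaf (QuotSh.J Scheme.fppfPrecoverage S) F.obj :=
    (isSheaf_iff_isSheaf_of_type _ _).mp F.property
  have key : ∀ φ : AlgSt.QuotSt Scheme.fppfPrecoverage G aX ⥤ᵇ AlgSt.ofSp F,
      BasedFunctor.comp (AlgSt.quotMap Scheme.fppfPrecoverage G aX) φ = AlgSt.ofSpMap f ↔
        ∀ a : (AlgSt.ofSch X).obj,
          pshSec (BasedFunctor.comp (AlgSt.quotMap Scheme.fppfPrecoverage G aX) φ) a =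
            ev a.base a.sec.down := by
    intro φ
    have h0 : ∀ a : (AlgSt.ofSch X).obj, pshSec (AlgSt.ofSpMap f) a = ev a.base a.sec.down := by
      intro a
      unfold pshSec
      exact psh_map_id_op _ _
    constructor
    · intro h a
      rw [h, h0]
    · intro h
      apply psh_functor_ext
      intro a
      rw [h a, h0]
  refine ⟨descFunctor hP hinv hnat, (key _).mpr (pshSec_comp_quotMap_descFunctor hP hinv hnat),
    fun φ hφ => descFunctor_unique hP hinv hnat φ ((key φ).mp hφ)⟩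

end Univ

end Groth.Agent.Lib.Helper15Quot
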