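-- helper15: [X/G] → Y is a categorical moduli space in schemes iff X → Y is a categorical quotient; functors between categories of sheaves are maps of sheaves.
import Mathlib
import Groth.Prelude.Def_AlgSt5
import Groth.Prelude.Def_StCoarse
import Groth.Prelude.Def_W4bk4git07Quot
import Groth.Agent.Lib.Helper15QuotCart
import Groth.Agent.Lib.Helper15QuotUniv

set_option autoImplicit false
universe w v₁ u₁ v u
open CategoryTheory CategoryTheory.Limits MonoidalCategory CartesianMonoidalCategory MonObj GrpObj AlgebraicGeometry Opposite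

namespace Groth.Agent.Lib.Helper15Quot

open Groth.Agent.Lib.Helper12 Groth.Agent.Lib.Helper17

section PshFun

variable {C : Type u} [Category.{v} C] {P : Cᵒᵖ ⥤ Type w} {𝒜 : BasedCategory.{v₁, u₁} C}

/-- isomorphic functors into the category of a presheaf are equal. -/
theorem eq_of_iso_ofPsh {H H' : 𝒜 ⥤ᵇ Stk.ofPsh P} (e : H ≅ H') : H = H' :=
  psh_functor_ext (fun a => pshSec_eq_of_hom e.hom a)

end PshFun

section SpFun

variable {S : Scheme.{u}}

theorem pshSec_ofSpMap {F N : AlgSp.Sp S} (g : F ⟶ N) (a : (AlgSt.ofSp F).obj) :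
    pshSec (AlgSt.ofSpMap g) a = g.hom.app (op a.base) a.sec := by
  unfold pshSec
  exact psh_map_id_op _ _

/-- the map of sheaves underlying a functor over the base between categories of sheaves. -/
def spMapOfFunctor {F N : AlgSp.Sp S} (H : AlgSt.ofSp F ⥤ᵇ AlgSt.ofSp N) : F ⟶ N :=
  ObjectProperty.homMk
    { app := fun T => ↾fun x => pshSec H ⟨T.unop, x⟩
      naturality := fun T T' g => by
        ext x
        dsimp
        exact (pshSec_map H (⟨g.unop, rfl⟩ :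
          (⟨T'.unop, F.obj.map g x⟩ : (AlgSt.ofSp F).obj) ⟶ ⟨T.unop, x⟩)).symm }

theorem ofSpMap_spMapOfFunctor {F N : AlgSp.Sp S} (H : AlgSt.ofSp F ⥤ᵇ AlgSt.ofSp N) :
    AlgSt.ofSpMap (spMapOfFunctor H) = H := by
  apply psh_functor_ext
  intro a
  rw [pshSec_ofSpMap]
  rfl

theorem ofSpMap_injective {F N : AlgSp.Sp S} {g g' : F ⟶ N}
    (h : AlgSt.ofSpMap g = AlgSt.ofSpMap g') : g = g' := by
  apply Sheaf.hom_ext
  apply NatTrans.ext
  funext T
  ext x
  have h1 := pshSec_ofSpMap g ⟨T.unop, x⟩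
  have h2 := pshSec_ofSpMap g' ⟨T.unop, x⟩
  rw [h] at h1
  exact h1.symm.trans h2

end SpFun


section CatQuot

variable {S : Scheme.{u}} {G : Over S} [GrpObj G] {X : Over S} (aX : AlgGrp.Action G X)
  (K : Precoverage Scheme.{u}) [K.HasIsos]

/-- the restriction of a functor `[X/G] ⟶ N` to `X` is invariant. -/
theorem invariant_of_functor {N : AlgSp.Sp S} (φ : AlgSt.QuotSt K G aX ⥤ᵇ AlgSt.ofSp N)
    (ψ : (AlgSp.yon S).obj X ⟶ N)
    (h : BasedFunctor.comp (AlgSt.quotMap K G aX) φ = AlgSt.ofSpMap ψ) :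
    (AlgSp.yon S).map aX.act ≫ ψ = (AlgSp.yon S).map (snd G X) ≫ ψ := by
  apply Sheaf.hom_ext
  apply NatTrans.ext
  funext T
  ext ⟨p⟩
  have key : ∀ x : T.unop ⟶ X, ψ.hom.app T ⟨x⟩ = pshSec φ (triv K aX x) := by
    intro x
    have h1 := pshSec_ofSpMap ψ ⟨T.unop, ⟨x⟩⟩
    rw [← h] at h1
    exact h1.symm
  change ψ.hom.app T ⟨p ≫ aX.act⟩ = ψ.hom.app T ⟨p ≫ snd G X⟩
  rw [key, key]
  have h2 := pshSec_map φ (actSndHom K aX ⟨T.unop, ⟨p⟩⟩)
  rw [← h2]
  exact psh_map_id_op N.obj _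


omit [GrpObj G] in
theorem comp_ofSpMap {F N N' : AlgSp.Sp S} (a : F ⟶ N) (b : N ⟶ N') :
    BasedFunctor.comp (AlgSt.ofSpMap a) (AlgSt.ofSpMap b) = AlgSt.ofSpMap (a ≫ b) := by
  apply psh_functor_ext
  intro x
  rw [pshSec_ofSpMap]
  unfold pshSec
  exact psh_map_id_op _ _

theorem isCatModuliSch_iff_isCatQuot (Y : Over S) (f : X ⟶ Y)
    (π : AlgSt.QuotSt Scheme.fppfPrecoverage G aX ⥤ᵇ AlgSt.ofSch Y)
    (hπ : Nonempty (BasedFunctor.comp (AlgSt.quotMap Scheme.fppfPrecoverage G aX) π ≅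
      AlgSt.ofSpMap ((AlgSp.yon S).map f))) :
    AlgSt.IsCatModuliSch π ↔ GIT.IsCatQuot aX f := by
  have hπ' : BasedFunctor.comp (AlgSt.quotMap Scheme.fppfPrecoverage G aX) π =
      AlgSt.ofSpMap ((AlgSp.yon S).map f) := eq_of_iso_ofPsh hπ.some
  have hfinv : (AlgSp.yon S).map aX.act ≫ (AlgSp.yon S).map f =
      (AlgSp.yon S).map (snd G X) ≫ (AlgSp.yon S).map f :=
    invariant_of_functor aX Scheme.fppfPrecoverage π _ hπ'
  have hfinv' : GIT.IsInvariant aX f := by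
    apply (AlgSp.yon S).map_injective
    rw [Functor.map_comp, Functor.map_comp]
    exact hfinv
  have hres : ∀ {N : AlgSp.Sp S} (g : (AlgSp.yon S).obj Y ⟶ N),
      BasedFunctor.comp (AlgSt.quotMap Scheme.fppfPrecoverage G aX)
        (BasedFunctor.comp π (AlgSt.ofSpMap g)) = AlgSt.ofSpMap ((AlgSp.yon S).map f ≫ g) := by
    intro N g
    have h1 : BasedFunctor.comp (AlgSt.quotMap Scheme.fppfPrecoverage G aX)
        (BasedFunctor.comp π (AlgSt.ofSpMap g)) =
        BasedFunctor.comp (BasedFunctor.comp (AlgSt.quotMap Scheme.fppfPrecoverage G aX) π)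
          (AlgSt.ofSpMap g) := rfl
    rw [h1, hπ', comp_ofSpMap]
  constructor
  · rintro ⟨-, hM⟩
    refine ⟨hfinv', fun Z ψ hψ => ?_⟩
    have hψ' : (AlgSp.yon S).map aX.act ≫ (AlgSp.yon S).map ψ =
        (AlgSp.yon S).map (snd G X) ≫ (AlgSp.yon S).map ψ := by
      rw [← Functor.map_comp, ← Functor.map_comp]
      exact congrArg _ hψ
    obtain ⟨φ, hφ, hφu⟩ := existsUnique_of_invariant aX ((AlgSp.yon S).obj Z)
      ((AlgSp.yon S).map ψ) hψ'
    obtain ⟨g, ⟨eg⟩, hgu⟩ := hM ((AlgSp.yon S).obj Z)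
      ⟨Z, ⟨AlgSp.representableByOfIso (Iso.refl _)⟩⟩ φ
    have hg : BasedFunctor.comp π (AlgSt.ofSpMap g) = φ := eq_of_iso_ofPsh eg
    refine ⟨(AlgSp.yon S).preimage g, ?_, ?_⟩
    · apply (AlgSp.yon S).map_injective
      rw [Functor.map_comp, Functor.map_preimage]
      apply ofSpMap_injective
      rw [← hres, hg, hφ]
    · intro χ' hχ'
      apply (AlgSp.yon S).map_injective
      rw [Functor.map_preimage]
      apply hgu
      refine ⟨eqToIso ?_⟩
      apply hφu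
      rw [hres, ← Functor.map_comp, hχ']
  · rintro ⟨_, hQ⟩
    refine ⟨⟨Y, ⟨AlgSp.representableByOfIso (Iso.refl _)⟩⟩, fun N hN φ => ?_⟩
    obtain ⟨Z, ⟨r⟩⟩ := hN
    let i : (AlgSp.yon S).obj Z ≅ N := AlgSp.isoOfRepresentableBy r
    let ψ' : (AlgSp.yon S).obj X ⟶ N :=
      spMapOfFunctor (BasedFunctor.comp (AlgSt.quotMap Scheme.fppfPrecoverage G aX) φ)
    have hψ' : BasedFunctor.comp (AlgSt.quotMap Scheme.fppfPrecoverage G aX) φ =
        AlgSt.ofSpMap ψ' := (ofSpMap_spMapOfFunctor _).symm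
    have hinv := invariant_of_functor aX Scheme.fppfPrecoverage φ ψ' hψ'
    let ψ : X ⟶ Z := (AlgSp.yon S).preimage (ψ' ≫ i.inv)
    have hψ : (AlgSp.yon S).map ψ = ψ' ≫ i.inv := Functor.map_preimage _ _
    have hψinv : GIT.IsInvariant aX ψ := by
      apply (AlgSp.yon S).map_injective
      rw [Functor.map_comp, Functor.map_comp, hψ, ← Category.assoc, hinv, Category.assoc]
    obtain ⟨χ, hχ, hχu⟩ := hQ Z ψ hψinv
    obtain ⟨φ₀, hφ₀, hφ₀u⟩ := existsUnique_of_invariant aX N ψ' hinv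
    refine ⟨(AlgSp.yon S).map χ ≫ i.hom, ⟨eqToIso ?_⟩, ?_⟩
    · rw [hφ₀u φ hψ']
      apply hφ₀u
      rw [hres, ← Category.assoc, ← Functor.map_comp, hχ, hψ, Category.assoc, Iso.inv_hom_id,
        Category.comp_id]
    · rintro g' ⟨eg'⟩
      have hg' : BasedFunctor.comp π (AlgSt.ofSpMap g') = φ := eq_of_iso_ofPsh eg'
      have h1 : (AlgSp.yon S).map f ≫ g' = ψ' := ofSpMap_injective (by rw [← hres, hg', hψ'])
      have h2 := hχu ((AlgSp.yon S).preimage (g' ≫ i.inv)) (by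
        apply (AlgSp.yon S).map_injective
        rw [Functor.map_comp, Functor.map_preimage, ← Category.assoc, h1, hψ])
      rw [← h2, Functor.map_preimage, Category.assoc, Iso.inv_hom_id, Category.comp_id]

end CatQuot

end Groth.Agent.Lib.Helper15Quot
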