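-- helper15: for y : (Sch/U) → [X/G] classifying a torsor P, the 2-fibre product (Sch/U) ×_{[X/G]} X is equivalent to P (cartesian lifts in [X/G], morphisms out of trivial torsors).
import Mathlib
import Groth.Prelude.Def_AlgSt5
import Groth.Agent.Lib.Helper15QuotCart

set_option autoImplicit false
universe u
open CategoryTheory CategoryTheory.Limits MonoidalCategory CartesianMonoidalCategory MonObj GrpObj AlgebraicGeometry Opposite

namespace Groth.Agent.Lib.Helper15Quot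

open Groth.Agent.Lib.Helper12 Groth.Agent.Lib.Helper17

variable {S : Scheme.{u}} {G : Over S} [GrpObj G]

section Cart

variable {K : Precoverage Scheme.{u}} {X : Over S} {aX : AlgGrp.Action G X}

/-- uniqueness of lifts through a morphism of `[X/G]`. -/
lemma hom_eq_of_comp_eq {B' B A : AlgSt.QuotObj K G aX} (h : B ⟶ A) (k₁ k₂ : B' ⟶ B)
    (hb : k₁.base = k₂.base) (hc : k₁ ≫ h = k₂ ≫ h) : k₁ = k₂ := by
  apply AlgSt.QuotObj.hom_ext hb
  apply h.cart.hom_ext
  · exact congrArg AlgSt.QuotObj.Hom.top hc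
  · rw [k₁.cart.w, k₂.cart.w, hb]

/-- the top component of a lift. -/
noncomputable def cartLiftTop {B' B A : AlgSt.QuotObj K G aX} (h : B ⟶ A) (h' : B' ⟶ A)
    (r : B'.base ⟶ B.base) (hr : r ≫ h.base = h'.base) : B'.P ⟶ B.P :=
  h.cart.lift h'.top (B'.π ≫ r) (by rw [h'.cart.w, Category.assoc, hr])

@[reassoc]
lemma cartLiftTop_top {B' B A : AlgSt.QuotObj K G aX} (h : B ⟶ A) (h' : B' ⟶ A)
    (r : B'.base ⟶ B.base) (hr : r ≫ h.base = h'.base) :
    cartLiftTop h h' r hr ≫ h.top = h'.top := IsPullback.lift_fst _ _ _ _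

@[reassoc]
lemma cartLiftTop_π {B' B A : AlgSt.QuotObj K G aX} (h : B ⟶ A) (h' : B' ⟶ A)
    (r : B'.base ⟶ B.base) (hr : r ≫ h.base = h'.base) :
    cartLiftTop h h' r hr ≫ B.π = B'.π ≫ r := IsPullback.lift_snd _ _ _ _

/-- existence of lifts through a morphism of `[X/G]`. -/
noncomputable def cartLift {B' B A : AlgSt.QuotObj K G aX} (h : B ⟶ A) (h' : B' ⟶ A)
    (r : B'.base ⟶ B.base) (hr : r ≫ h.base = h'.base) : B' ⟶ B where
  base := r
  top := cartLiftTop h h' r hr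
  eqv := by
    apply h.cart.hom_ext
    · rw [Category.assoc, cartLiftTop_top, h'.eqv, Category.assoc, h.eqv,
        ← MonoidalCategory.whiskerLeft_comp_assoc, cartLiftTop_top]
    · have e1 : B'.act.act ≫ B'.π = snd G B'.P ≫ B'.π := B'.cart.w
      have e2 : B.act.act ≫ B.π = snd G B.P ≫ B.π := B.cart.w
      rw [Category.assoc, cartLiftTop_π, reassoc_of% e1, Category.assoc, e2,
        whiskerLeft_snd_assoc, cartLiftTop_π]
  cart := by
    refine IsPullback.of_right ?_ (cartLiftTop_π h h' r hr) h.cart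
    rw [cartLiftTop_top, hr]
    exact h'.cart
  wφ := by rw [← h.wφ, cartLiftTop_top_assoc, h'.wφ]

@[simp] lemma cartLift_base {B' B A : AlgSt.QuotObj K G aX} (h : B ⟶ A) (h' : B' ⟶ A)
    (r : B'.base ⟶ B.base) (hr : r ≫ h.base = h'.base) : (cartLift h h' r hr).base = r := rfl

lemma cartLift_comp {B' B A : AlgSt.QuotObj K G aX} (h : B ⟶ A) (h' : B' ⟶ A)
    (r : B'.base ⟶ B.base) (hr : r ≫ h.base = h'.base) : cartLift h h' r hr ≫ h = h' := by
  apply AlgSt.QuotObj.hom_ext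
  · exact hr
  · exact cartLiftTop_top h h' r hr

end Cart


section FromTriv

variable (K : Precoverage Scheme.{u}) [K.HasIsos] {X : Over S} (aX : AlgGrp.Action G X)

/-- the unit section of the trivial torsor. -/
noncomputable abbrev unitSec (T : Over S) : T ⟶ G ⊗ T := lift (1 : T ⟶ G) (𝟙 T)

omit [K.HasIsos] in
lemma unitSec_whiskerLeft_act {T P : Over S} (a : AlgGrp.Action G P) (s : T ⟶ P) :
    unitSec T ≫ (G ◁ s) ≫ a.act = s := by
  have : unitSec (G := G) T ≫ (G ◁ s) = lift 1 s := by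
    apply CartesianMonoidalCategory.hom_ext <;> simp
  rw [← Category.assoc, this, act_one]

omit [K.HasIsos] in
lemma top_eq_aux' {T P : Over S} (a : AlgGrp.Action G P) (t : G ⊗ T ⟶ P)
    (heqv : (AlgSt.leftMul G T).act ≫ t = (G ◁ t) ≫ a.act) :
    t = (G ◁ (unitSec T ≫ t)) ≫ a.act := by
  have h1 : lift (fst G T) (snd G T ≫ unitSec T) ≫ (AlgSt.leftMul G T).act = 𝟙 _ := by
    rw [comp_lift, lift_leftMul]
    apply CartesianMonoidalCategory.hom_ext <;> simp
  have h2 : t = lift (fst G T) (snd G T ≫ unitSec T) ≫ (G ◁ t) ≫ a.act := by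
    rw [← heqv, reassoc_of% h1]
  have h3 : lift (fst G T) (snd G T ≫ unitSec (G := G) T) ≫ (G ◁ t) = G ◁ (unitSec T ≫ t) := by
    apply CartesianMonoidalCategory.hom_ext <;> simp [comp_lift_assoc]
  rw [← Category.assoc, h3] at h2
  exact h2

omit [K.HasIsos] in
lemma base_eq_aux {T P B : Over S} (t : G ⊗ T ⟶ P) (π : P ⟶ B) (b : T ⟶ B)
    (hw : t ≫ π = snd G T ≫ b) : b = (unitSec T ≫ t) ≫ π := by
  rw [Category.assoc, hw, ← Category.assoc, lift_snd, Category.id_comp]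

omit [K.HasIsos] in
lemma φ_eq_aux {T P : Over S} (t : G ⊗ T ⟶ P) (φ : P ⟶ X) (x : T ⟶ X)
    (hw : t ≫ φ = (G ◁ x) ≫ aX.act) : (unitSec T ≫ t) ≫ φ = x := by
  rw [Category.assoc, hw, unitSec_whiskerLeft_act]

lemma hom_from_triv_top {T : Over S} {x : T ⟶ X} {A : AlgSt.QuotObj K G aX}
    (h : triv K aX x ⟶ A) : h.top = (G ◁ (unitSec T ≫ h.top)) ≫ A.act.act :=
  top_eq_aux' A.act h.top h.eqv

lemma hom_from_triv_base {T : Over S} {x : T ⟶ X} {A : AlgSt.QuotObj K G aX}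
    (h : triv K aX x ⟶ A) : h.base = (unitSec T ≫ h.top) ≫ A.π :=
  base_eq_aux h.top A.π h.base h.cart.w

lemma hom_from_triv_φ {T : Over S} {x : T ⟶ X} {A : AlgSt.QuotObj K G aX}
    (h : triv K aX x ⟶ A) : (unitSec T ≫ h.top) ≫ A.φ = x :=
  φ_eq_aux aX h.top A.φ x h.wφ

lemma hom_from_triv_ext {T : Over S} {x : T ⟶ X} {A : AlgSt.QuotObj K G aX}
    (h₁ h₂ : triv K aX x ⟶ A) (hu : unitSec T ≫ h₁.top = unitSec T ≫ h₂.top) : h₁ = h₂ := by
  apply AlgSt.QuotObj.hom_ext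
  · rw [hom_from_triv_base, hom_from_triv_base, hu]
  · rw [hom_from_triv_top K aX h₁, hom_from_triv_top K aX h₂, hu]

lemma unitSec_homOfSection_top (A : AlgSt.QuotObj K G aX) {T : Over S} (s : T ⟶ A.P) :
    unitSec T ≫ (homOfSection K aX A s).top = s :=
  unitSec_whiskerLeft_act A.act s

end FromTriv

section Rep

lemma base_compat_aux {C : Type*} [Category C] {T B P U' U : C} (hB : B = T) (hU : U' = U)
    (s : T ⟶ P) (π : P ⟶ U') :
    eqToHom hB.symm ≫ (eqToHom hB ≫ (s ≫ (π ≫ eqToHom hU)) ≫ eqToHom hU.symm) = s ≫ π := by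
  subst hB hU; simp

variable (K : Precoverage Scheme.{u}) [K.HasIsos] {X : Over S} (aX : AlgGrp.Action G X)
  {U : Over S} (y : FibCat.overCat U ⥤ᵇ AlgSt.QuotSt K G aX)

omit [K.HasIsos] in
lemma map_base {a a' : Over U} (m : a ⟶ a') :
    (y.map m).base = eqToHom (y.w_obj a) ≫ m.left ≫ eqToHom (y.w_obj a').symm := by
  have : (AlgSt.QuotSt K G aX).p.IsHomLift ((FibCat.overCat U).p.map m) (y.map m) :=
    BasedFunctor.preserves_isHomLift y _ m
  exact IsHomLift.fac' (AlgSt.QuotSt K G aX).p ((FibCat.overCat U).p.map m) (y.map m)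

/-- the torsor classified by `y`. -/
noncomputable abbrev tors : AlgSt.QuotObj K G aX := y.obj (Over.mk (𝟙 U))

omit [K.HasIsos] in
lemma tors_base : (tors K aX y).base = U := y.w_obj (Over.mk (𝟙 U))

/-- the structure map of the torsor, with values in `U`. -/
noncomputable def piU : (tors K aX y).P ⟶ U := (tors K aX y).π ≫ eqToHom (tors_base K aX y)

/-- the canonical morphism `y(a) ⟶ y(𝟙)`. -/
noncomputable def toTors (a : Over U) : y.obj a ⟶ tors K aX y :=
  y.map (Over.homMk a.hom : a ⟶ Over.mk (𝟙 U))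

omit [K.HasIsos] in
lemma toTors_base (a : Over U) :
    (toTors K aX y a).base = eqToHom (y.w_obj a) ≫ a.hom ≫ eqToHom (tors_base K aX y).symm := by
  unfold toTors
  rw [map_base]
  rfl

omit [K.HasIsos] in
lemma map_toTors {a a' : Over U} (m : a ⟶ a') : y.map m ≫ toTors K aX y a' = toTors K aX y a := by
  have hm : m ≫ (Over.homMk a'.hom : a' ⟶ Over.mk (𝟙 U)) =
      (Over.homMk a.hom : a ⟶ Over.mk (𝟙 U)) := by
    apply Over.OverMorphism.ext
    simp
  exact (y.toFunctor.map_comp _ _).symm.trans (congrArg (fun k => y.map k) hm)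

/-- `X ⟶ [X/G]` on the slice category. -/
noncomputable abbrev piX : FibCat.overCat X ⥤ᵇ AlgSt.QuotSt K G aX :=
  BasedFunctor.comp (AlgSt.ofOverCat X) (AlgSt.quotMap K G aX)

/-- the projection of the torsor to `U`, as a functor. -/
noncomputable abbrev aF : AlgSt.ofSch (tors K aX y).P ⥤ᵇ FibCat.overCat U :=
  BasedFunctor.comp (AlgSt.ofSpMap ((AlgSp.yon S).map (piU K aX y))) (AlgSt.toOverCat U)

/-- the equivariant map of the torsor to `X`, as a functor. -/
noncomputable abbrev bF : AlgSt.ofSch (tors K aX y).P ⥤ᵇ FibCat.overCat X :=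
  BasedFunctor.comp (AlgSt.ofSpMap ((AlgSp.yon S).map (tors K aX y).φ)) (AlgSt.toOverCat X)

/-- the comparison morphism from the trivial torsor of a point of the torsor. -/
noncomputable def kHom (w : (AlgSt.ofSch (tors K aX y).P).obj) :
    triv K aX (w.sec.down ≫ (tors K aX y).φ) ⟶ y.obj ((aF K aX y).obj w) :=
  cartLift (toTors K aX y _) (homOfSection K aX (tors K aX y) w.sec.down)
    (eqToHom (y.w_obj ((aF K aX y).obj w)).symm) (by
      rw [toTors_base, homOfSection_base]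
      exact base_compat_aux (y.w_obj ((aF K aX y).obj w)) (tors_base K aX y) w.sec.down
        (tors K aX y).π)

lemma kHom_comp (w : (AlgSt.ofSch (tors K aX y).P).obj) :
    kHom K aX y w ≫ toTors K aX y _ = homOfSection K aX (tors K aX y) w.sec.down :=
  cartLift_comp _ _ _ _

lemma kHom_base (w : (AlgSt.ofSch (tors K aX y).P).obj) :
    (kHom K aX y w).base = eqToHom (y.w_obj ((aF K aX y).obj w)).symm := rfl

lemma isIso_kHom (w : (AlgSt.ofSch (tors K aX y).P).obj) : IsIso (kHom K aX y w) := by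
  have : IsIso (kHom K aX y w).base := by
    show IsIso (eqToHom (y.w_obj ((aF K aX y).obj w)).symm)
    infer_instance
  exact isIso_of_isIso_base _


lemma eqToHom_aux₂ {C : Type*} [Category C] {T B T' B' : C} (hB : B = T) (hB' : B' = T')
    (f : T ⟶ T') :
    eqToHom hB.symm ≫ (eqToHom hB ≫ f ≫ eqToHom hB'.symm) = f ≫ eqToHom hB'.symm := by
  subst hB hB'; simp

lemma inv_aux {C : Type*} [Category C] {A B A' B' : C} (k : A ⟶ B) (k' : A' ⟶ B') (f : B ⟶ B')
    (g : A ⟶ A') [IsIso k] [IsIso k'] (h : k ≫ f = g ≫ k') : f ≫ inv k' = inv k ≫ g := by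
  rw [IsIso.comp_inv_eq, Category.assoc, IsIso.eq_inv_comp, h]

lemma comp_aux {C : Type*} [Category C] {A B B' D E : C} (k : A ⟶ B) (f : B ⟶ B') (t' : B' ⟶ E)
    (t : B ⟶ E) (g : A ⟶ D) (k' : D ⟶ B') (s : A ⟶ E) (s' : D ⟶ E) (h1 : f ≫ t' = t)
    (h2 : k ≫ t = s) (h3 : k' ≫ t' = s') (h4 : g ≫ s' = s) :
    (k ≫ f) ≫ t' = (g ≫ k') ≫ t' := by
  rw [Category.assoc, h1, h2, Category.assoc, h3, h4]

omit [K.HasIsos] in
lemma unitSec_whisker_whisker_act {T T' P : Over S} (a : AlgGrp.Action G P) (r : T ⟶ T')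
    (s' : T' ⟶ P) : unitSec T ≫ ((G ◁ r) ≫ ((G ◁ s') ≫ a.act)) = r ≫ s' := by
  rw [← MonoidalCategory.whiskerLeft_comp_assoc, unitSec_whiskerLeft_act]

/-- naturality of `homOfSection`. -/
lemma homOfSection_nat (A : AlgSt.QuotObj K G aX) {T T' : Over S} (r : T ⟶ T') (s' : T' ⟶ A.P)
    (s : T ⟶ A.P) (hs : r ≫ s' = s) (mor : triv K aX (s ≫ A.φ) ⟶ triv K aX (s' ≫ A.φ))
    (hmor : mor.top = G ◁ r) : mor ≫ homOfSection K aX A s' = homOfSection K aX A s := by
  apply hom_from_triv_ext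
  rw [unitSec_homOfSection_top]
  calc unitSec T ≫ (mor ≫ homOfSection K aX A s').top
      = unitSec T ≫ (mor.top ≫ ((G ◁ s') ≫ A.act.act)) := rfl
    _ = unitSec T ≫ ((G ◁ r) ≫ ((G ◁ s') ≫ A.act.act)) :=
        congrArg (fun t => unitSec T ≫ (t ≫ ((G ◁ s') ≫ A.act.act))) hmor
    _ = r ≫ s' := unitSec_whisker_whisker_act A.act r s'
    _ = s := hs

/-- naturality of the comparison morphisms. -/
lemma kHom_naturality {w w' : (AlgSt.ofSch (tors K aX y).P).obj} (m : w ⟶ w') :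
    kHom K aX y w ≫ y.map ((aF K aX y).map m) =
      (piX K aX).map ((bF K aX y).map m) ≫ kHom K aX y w' := by
  apply hom_eq_of_comp_eq (toTors K aX y _)
  · change (kHom K aX y w).base ≫ (y.map ((aF K aX y).map m)).base =
      m.hom ≫ (kHom K aX y w').base
    rw [kHom_base, kHom_base, map_base]
    exact eqToHom_aux₂ (y.w_obj ((aF K aX y).obj w)) (y.w_obj ((aF K aX y).obj w')) m.hom
  · have hm : m.hom ≫ w'.sec.down = w.sec.down := congrArg ULift.down m.map_sec
    exact comp_aux _ _ _ _ _ _ _ _ (map_toTors K aX y _) (kHom_comp K aX y w)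
      (kHom_comp K aX y w')
      (homOfSection_nat K aX (tors K aX y) m.hom w'.sec.down w.sec.down hm _ rfl)

/-- the 2-isomorphism of the square. -/
noncomputable def epsIso :
    BasedFunctor.comp (aF K aX y) y ≅ BasedFunctor.comp (bF K aX y) (piX K aX) :=
  BasedNatIso.mkNatIso
    (NatIso.ofComponents
      (fun w => (@asIso _ _ _ _ (kHom K aX y w) (isIso_kHom K aX y w)).symm) (by
      intro w w' m
      have := isIso_kHom K aX y w
      have := isIso_kHom K aX y w'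
      exact @inv_aux _ _ _ _ _ _ (kHom K aX y w) (kHom K aX y w') _ _ (isIso_kHom K aX y w)
        (isIso_kHom K aX y w') (kHom_naturality K aX y m)))
    (fun w => by
      have := isIso_kHom K aX y w
      change (AlgSt.QuotObj.forget K G aX).IsHomLift (𝟙 w.base) (inv (kHom K aX y w))
      have h1 : (AlgSt.QuotObj.forget K G aX).IsHomLift (𝟙 w.base) (kHom K aX y w) := by
        apply IsHomLift.of_fac' _ _ _ rfl (y.w_obj ((aF K aX y).obj w))
        change (kHom K aX y w).base = _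
        rw [kHom_base]
        exact (Category.id_comp _).symm
      exact IsHomLift.lift_id_inv_isIso _ _ _)

/-- the comparison functor from the torsor to the fibre product. -/
noncomputable abbrev Phi : AlgSt.ofSch (tors K aX y).P ⥤ᵇ FibCat.fp y (piX K aX) :=
  FibCat.fpLift (aF K aX y) (bF K aX y) (epsIso K aX y)


instance Phi_faithful : (Phi K aX y).toFunctor.Faithful where
  map_injective := by
    intro w w' m m' h
    apply Stk.EltObj.hom_ext
    have := congrArg (fun θ => θ.hom.fst.left) h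
    exact this

lemma epsIso_inv_app (w : (AlgSt.ofSch (tors K aX y).P).obj) :
    ((Phi K aX y).obj w).obj.iso.inv = kHom K aX y w := rfl

lemma sq_aux {C : Type*} [Category C] {A B A' B' : C} (i : B ≅ A) (i' : B' ≅ A') (f : B ⟶ B')
    (g : A ⟶ A') (h : f ≫ i'.hom = i.hom ≫ g) : i.inv ≫ f = g ≫ i'.inv := by
  rw [Iso.inv_comp_eq, ← Category.assoc, Iso.eq_comp_inv, h]

lemma eqToHom_aux₃ {C : Type*} [Category C] {T B T' B' : C} (hB : B = T) (hB' : B' = T')
    (r r₂ : T ⟶ T')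
    (h : eqToHom hB.symm ≫ (eqToHom hB ≫ r ≫ eqToHom hB'.symm) = r₂ ≫ eqToHom hB'.symm) :
    r = r₂ := by
  subst hB hB'; simpa using h

lemma comp_aux₂ {C : Type*} [Category C] {A B B' D E : C} (k : A ⟶ B) (f : B ⟶ B')
    (t' : B' ⟶ E) (t : B ⟶ E) (g : A ⟶ D) (k' : D ⟶ B') (s : A ⟶ E) (s' : D ⟶ E)
    (hsq : k ≫ f = g ≫ k') (h1 : f ≫ t' = t) (h2 : k ≫ t = s) (h3 : k' ≫ t' = s') :
    s = g ≫ s' := by
  rw [← h2, ← h1, ← Category.assoc, hsq, Category.assoc, h3]

instance Phi_full : (Phi K aX y).toFunctor.Full where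
  map_surjective := by
    intro w w' θ
    obtain ⟨r, hr⟩ : ∃ r : w.base ⟶ w'.base, r = θ.hom.fst.left := ⟨_, rfl⟩
    obtain ⟨r₂, hr₂⟩ : ∃ r : w.base ⟶ w'.base, r = θ.hom.snd.left := ⟨_, rfl⟩
    -- the square, in terms of the comparison morphisms
    have hsq : kHom K aX y w ≫ y.map θ.hom.fst = (piX K aX).map θ.hom.snd ≫ kHom K aX y w' :=
      sq_aux ((Phi K aX y).obj w).obj.iso ((Phi K aX y).obj w').obj.iso _ _ θ.hom.w
    -- compare bases
    have hb := congrArg AlgSt.QuotObj.Hom.base hsq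
    have hb' : (kHom K aX y w).base ≫ (y.map θ.hom.fst).base = r₂ ≫ (kHom K aX y w').base := by
      rw [hr₂]; exact hb
    rw [kHom_base, kHom_base, map_base, ← hr] at hb'
    have h12 : r = r₂ :=
      eqToHom_aux₃ (y.w_obj ((aF K aX y).obj w)) (y.w_obj ((aF K aX y).obj w')) r r₂ hb'
    -- compare with the torsor
    have hc : homOfSection K aX (tors K aX y) w.sec.down =
        (piX K aX).map θ.hom.snd ≫ homOfSection K aX (tors K aX y) w'.sec.down :=
      comp_aux₂ _ _ _ _ _ _ _ _ hsq (map_toTors K aX y θ.hom.fst) (kHom_comp K aX y w)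
        (kHom_comp K aX y w')
    have ht := congrArg (fun k => unitSec w.base ≫ k.top) hc
    simp only at ht
    rw [unitSec_homOfSection_top] at ht
    have hs : r₂ ≫ w'.sec.down = w.sec.down := by
      rw [ht, hr₂]
      exact (unitSec_whisker_whisker_act (tors K aX y).act θ.hom.snd.left w'.sec.down).symm
    refine ⟨⟨r, congrArg ULift.up (by rw [h12]; exact hs)⟩, ?_⟩
    apply ObjectProperty.hom_ext
    apply CategoricalPullback.hom_ext
    · apply Over.OverMorphism.ext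
      exact hr
    · apply Over.OverMorphism.ext
      exact h12.trans hr₂


lemma sq_aux' {C : Type*} [Category C] {A B A' B' : C} (i : B ≅ A) (i' : B' ≅ A') (f : B ⟶ B')
    (g : A ⟶ A') (h : i.inv ≫ f = g ≫ i'.inv) : f ≫ i'.hom = i.hom ≫ g := by
  rw [← Iso.inv_comp_eq, ← Category.assoc, h, Category.assoc, Iso.inv_hom_id, Category.comp_id]

lemma eqToHom_aux₄ {C : Type*} [Category C] {T U' U : C} (hU : U' = U) (x : T ⟶ U') (z : T ⟶ U)
    (h : x = z ≫ eqToHom hU.symm) : x ≫ eqToHom hU = z := by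
  subst hU; simpa using h

lemma eqToHom_aux₅ {C : Type*} [Category C] {T B T' B' : C} (hB : B = T) (hB' : B' = T')
    (j : T ⟶ B') :
    eqToHom hB.symm ≫ (eqToHom hB ≫ (j ≫ eqToHom hB') ≫ eqToHom hB'.symm) = 𝟙 T ≫ j := by
  subst hB hB'; simp

lemma eqToHom_aux₆ {C : Type*} [Category C] {T B' T' : C} (h1 : T = T') (hB' : B' = T')
    (j : T ⟶ B') (hj : j = eqToHom h1 ≫ 𝟙 T' ≫ eqToHom hB'.symm) :
    j ≫ eqToHom hB' = eqToHom h1 ≫ 𝟙 T' ≫ eqToHom rfl := by
  subst h1 hB'; simp [hj]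

lemma comp_aux₃ {C : Type*} [Category C] {A B B' D E : C} (k : A ⟶ B) (f : B ⟶ B')
    (t' : B' ⟶ E) (t : B ⟶ E) (g : A ⟶ D) (i : D ⟶ B') (s : A ⟶ E) (h1 : f ≫ t' = t)
    (h2 : k ≫ t = s) (h3 : g ≫ (i ≫ t') = s) : (k ≫ f) ≫ t' = (g ≫ i) ≫ t' := by
  rw [Category.assoc, h1, h2, Category.assoc, h3]

omit [K.HasIsos] in
lemma whisker_id_aux {T P : Over S} (t : G ⊗ T ⟶ P) :
    unitSec T ≫ ((G ◁ 𝟙 T) ≫ t) = unitSec T ≫ t := by
  rw [MonoidalCategory.whiskerLeft_id, Category.id_comp]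

theorem Phi_essSurjOver : EssSurjOver (Phi K aX y) := by
  intro ζ
  let a₀ : Over U := ζ.obj.fst
  let b₀ : Over X := ζ.obj.snd
  let ii : y.obj a₀ ≅ triv K aX b₀.hom := ζ.obj.iso
  have hζ : (AlgSt.QuotSt K G aX).p.IsHomLift (𝟙 a₀.left) ii.hom := ζ.property
  have hζ' : (AlgSt.QuotSt K G aX).p.IsHomLift (𝟙 a₀.left) ii.inv :=
    IsHomLift.lift_id_inv _ _ _
  let h : triv K aX b₀.hom ⟶ tors K aX y := ii.inv ≫ toTors K aX y a₀
  let p : b₀.left ⟶ (tors K aX y).P := unitSec b₀.left ≫ h.top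
  have hpφ : p ≫ (tors K aX y).φ = b₀.hom := hom_from_triv_φ K aX h
  have hpb : h.base = p ≫ (tors K aX y).π := hom_from_triv_base K aX h
  let ξ : (AlgSt.ofSch (tors K aX y).P).obj := ⟨b₀.left, ⟨p⟩⟩
  let j : b₀.left ⟶ (y.obj a₀).base := ii.inv.base
  let i₀ : b₀.left ⟶ a₀.left := j ≫ eqToHom (y.w_obj a₀)
  have hjiso : IsIso j := by
    have : IsIso ((AlgSt.QuotObj.forget K G aX).map ii.inv) := inferInstance
    exact this
  have hi₀ : IsIso i₀ := inferInstance
  have hi₀' : i₀ ≫ a₀.hom = p ≫ piU K aX y := by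
    have e1 : h.base = j ≫ (toTors K aX y a₀).base := rfl
    rw [toTors_base, hpb] at e1
    have e2 : p ≫ (tors K aX y).π = (i₀ ≫ a₀.hom) ≫ eqToHom (tors_base K aX y).symm := by
      rw [e1]; simp only [i₀, Category.assoc]; rfl
    have e3 := eqToHom_aux₄ (tors_base K aX y) _ _ e2
    rw [← e3]
    simp [piU]
  let e₁ : (aF K aX y).obj ξ ≅ a₀ := Over.isoMk (@asIso _ _ _ _ i₀ hi₀) hi₀'
  let e₂ : (bF K aX y).obj ξ ≅ b₀ := Over.isoMk (Iso.refl _) (by
    change 𝟙 _ ≫ b₀.hom = p ≫ (tors K aX y).φ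
    rw [hpφ, Category.id_comp])
  have hstar : kHom K aX y ξ ≫ y.map e₁.hom = (piX K aX).map e₂.hom ≫ ii.inv := by
    apply hom_eq_of_comp_eq (toTors K aX y a₀)
    · change (kHom K aX y ξ).base ≫ (y.map e₁.hom).base = 𝟙 _ ≫ j
      rw [kHom_base, map_base]
      exact eqToHom_aux₅ (y.w_obj ((aF K aX y).obj ξ)) (y.w_obj a₀) j
    · have h3 : (piX K aX).map e₂.hom ≫ h = homOfSection K aX (tors K aX y) p := by
        apply hom_from_triv_ext
        refine Eq.trans ?_ (unitSec_homOfSection_top K aX _ p).symm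
        exact whisker_id_aux h.top
      exact comp_aux₃ _ _ _ _ _ _ _ (map_toTors K aX y e₁.hom) (kHom_comp K aX y ξ) h3
  have w : y.map e₁.hom ≫ ζ.obj.iso.hom =
      ((Phi K aX y).obj ξ).obj.iso.hom ≫ (piX K aX).map e₂.hom :=
    sq_aux' ((Phi K aX y).obj ξ).obj.iso ii _ _ hstar
  refine ⟨ξ, ObjectProperty.isoMk _ (CategoricalPullback.mkIso
    (x := ((Phi K aX y).obj ξ).obj) (y := ζ.obj) e₁ e₂ w), ?_⟩
  rw [fp_isHomLift_iff]
  have hj : j = eqToHom (IsHomLift.domain_eq (AlgSt.QuotSt K G aX).p (𝟙 a₀.left) ii.inv) ≫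
      𝟙 a₀.left ≫ eqToHom (y.w_obj a₀).symm :=
    IsHomLift.fac' (AlgSt.QuotSt K G aX).p (𝟙 a₀.left) ii.inv
  have hi₀eq := eqToHom_aux₆ _ (y.w_obj a₀) j hj
  exact IsHomLift.of_fac' _ _ _ (IsHomLift.domain_eq (AlgSt.QuotSt K G aX).p (𝟙 a₀.left) ii.inv)
    rfl hi₀eq

theorem isEquivOver_Phi : FibCat.IsEquivOver (Phi K aX y) :=
  isEquivOver_of_fullyFaithful_of_essSurjOver (Phi K aX y) (Phi_essSurjOver K aX y)

end Rep

end Groth.Agent.Lib.Helper15Quot
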