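-- helper15: torsors over algebraically closed fields are trivial; [X/G] → Y is a coarse moduli space when geometric fibres are orbits and X → Y is a categorical quotient in algebraic spaces.
import Mathlib
import Groth.Prelude.Def_AlgSt5
import Groth.Prelude.Def_StCoarse
import Groth.Agent.Lib.Helper15QuotCat
import Groth.Agent.Lib.Helper15QuotRep

set_option autoImplicit false
universe w v₁ u₁ v u
open CategoryTheory CategoryTheory.Limits MonoidalCategory CartesianMonoidalCategory MonObj GrpObj AlgebraicGeometry Opposite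

namespace Groth.Agent.Lib.Helper15Quot

open Groth.Agent.Lib.Helper12 Groth.Agent.Lib.Helper17

section AlgClosed

/-- a family of sections over an fppf covering of a scheme isomorphic to the spectrum of an
algebraically closed field gives a global section. -/
theorem exists_section_of_algClosed {Ω : Type u} [Field Ω] [IsAlgClosed Ω] {Z P : Scheme.{u}}
    (e : Z ≅ Spec (CommRingCat.of Ω)) (p : P ⟶ Z) (R : Presieve Z)
    (hR : R ∈ Scheme.fppfPrecoverage Z)
    (hsec : ∀ ⦃T' : Scheme.{u}⦄ (g : T' ⟶ Z), R g → ∃ s : T' ⟶ P, s ≫ p = g) :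
    ∃ σ : Z ⟶ P, σ ≫ p = 𝟙 Z := by
  have h1 := hR.1
  rw [Scheme.jointlySurjectivePrecoverage,
    Presieve.mem_comap_jointlySurjectivePrecoverage_iff] at h1
  have hne : Nonempty ↥Z := ⟨e.inv (IsLocalRing.closedPoint Ω)⟩
  obtain ⟨z⟩ := hne
  obtain ⟨T', g, hg, t', -⟩ := h1 z
  obtain ⟨s₀, hs₀⟩ := hsec g hg
  have hlfp : LocallyOfFinitePresentation g := (hR.2 hg).2
  have hlft : LocallyOfFiniteType (g ≫ e.hom) := inferInstance
  have hJ : JacobsonSpace ↥T' := LocallyOfFiniteType.jacobsonSpace (g ≫ e.hom)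
  obtain ⟨x', -, hx'⟩ := nonempty_inter_closedPoints (X := ↥T') (Z := Set.univ) ⟨t', trivial⟩
    isOpen_univ.isLocallyClosed
  let τ : Spec (CommRingCat.of Ω) ⟶ T' := pointOfClosedPoint (g ≫ e.hom) x' hx'
  have hτ : τ ≫ g ≫ e.hom = 𝟙 _ := pointOfClosedPoint_comp (g ≫ e.hom) x' hx'
  refine ⟨e.hom ≫ τ ≫ s₀, ?_⟩
  rw [Category.assoc, Category.assoc, hs₀]
  have : τ ≫ g = e.inv := by
    rw [← cancel_mono e.hom, Category.assoc, hτ, Iso.inv_hom_id]
  rw [this, Iso.hom_inv_id]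

end AlgClosed


section Geom

variable {S : Scheme.{u}} {G : Over S} [GrpObj G] {X : Over S} (aX : AlgGrp.Action G X)

/-- a torsor over the spectrum of an algebraically closed field has a section. -/
theorem exists_section_of_base_eq {Ω : Type u} [Field Ω] [IsAlgClosed Ω]
    (t : Spec (CommRingCat.of Ω) ⟶ S) (A : AlgSt.QuotObj Scheme.fppfPrecoverage G aX)
    (hA : A.base = Over.mk t) :
    ∃ s : Over.mk t ⟶ A.P, s ≫ A.π = eqToHom hA.symm := by
  obtain ⟨R, hR, hsec⟩ := A.loc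
  let e : A.base.left ≅ Spec (CommRingCat.of Ω) := (Over.forget S).mapIso (eqToIso hA)
  obtain ⟨σ, hσ⟩ := exists_section_of_algClosed e A.π.left R hR hsec
  have hw : A.π.left ≫ A.base.hom = A.P.hom := Over.w A.π
  have he : e.inv ≫ A.base.hom = t := by
    have := Over.w (eqToIso hA).inv
    exact this
  refine ⟨Over.homMk (e.inv ≫ σ) ?_, ?_⟩
  · change (e.inv ≫ σ) ≫ A.P.hom = t
    rw [← hw, Category.assoc, reassoc_of% hσ, he]
  · apply Over.OverMorphism.ext
    change (e.inv ≫ σ) ≫ A.π.left = (eqToHom hA.symm).left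
    rw [Category.assoc, hσ, Category.comp_id]
    rfl


/-- `fibSec` in terms of `pshSec`. -/
theorem fibSec_eq {𝒳 : BasedCategory.{v₁, u₁} (Over S)} {M : AlgSp.Sp S} (π : 𝒳 ⥤ᵇ AlgSt.ofSp M)
    {T : Over S} (x : 𝒳.p.Fiber T) :
    AlgSt.fibSec π x = M.obj.map (eqToHom x.2.symm).op (pshSec π x.1) := by
  unfold AlgSt.fibSec pshSec
  rw [psh_map_op_map_op]
  congr 2
  simp

variable (Y : Over S) (f : X ⟶ Y)
  (π : AlgSt.QuotSt Scheme.fppfPrecoverage G aX ⥤ᵇ AlgSt.ofSch Y)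
  (hπ : BasedFunctor.comp (AlgSt.quotMap Scheme.fppfPrecoverage G aX) π =
    AlgSt.ofSpMap ((AlgSp.yon S).map f))

include hπ in
theorem pshSec_triv {T : Over S} (x : T ⟶ X) :
    pshSec π (triv Scheme.fppfPrecoverage aX x) = ⟨x ≫ f⟩ := by
  have h1 := pshSec_ofSpMap ((AlgSp.yon S).map f) ⟨T, ⟨x⟩⟩
  rw [← hπ] at h1
  exact h1

include hπ in
/-- the section attached to a torsor with a chosen point. -/
theorem fibSec_of_section {T : Over S} (A : AlgSt.QuotObj Scheme.fppfPrecoverage G aX)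
    (hA : A.base = T) (s : T ⟶ A.P) (hs : s ≫ A.π = eqToHom hA.symm) :
    AlgSt.fibSec π (⟨A, hA⟩ : (AlgSt.QuotSt Scheme.fppfPrecoverage G aX).p.Fiber T) =
      ⟨(s ≫ A.φ) ≫ f⟩ := by
  refine (fibSec_eq π _).trans ?_
  have h1 := pshSec_map π (homOfSection Scheme.fppfPrecoverage aX A s)
  have h2 : (AlgSt.QuotSt Scheme.fppfPrecoverage G aX).p.map
      (homOfSection Scheme.fppfPrecoverage aX A s) = eqToHom hA.symm := hs
  rw [h2] at h1
  exact h1.trans (pshSec_triv aX Y f π hπ (s ≫ A.φ))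


omit [GrpObj G] in
lemma eqToHom_symm_aux {A T : Over S} (h : A = T) :
    eqToHom h.symm = eqToHom (rfl : T = T) ≫ eqToHom h.symm := by simp

lemma isHomLift_id_of_base {K : Precoverage Scheme.{u}} {A B : AlgSt.QuotObj K G aX} {T : Over S}
    (k : A ⟶ B) (hA : A.base = T) (hB : B.base = T) (hk : k.base = eqToHom hA ≫ eqToHom hB.symm) :
    (AlgSt.QuotSt K G aX).p.IsHomLift (𝟙 T) k := by
  apply IsHomLift.of_fac' _ _ _ hA hB
  change k.base = _
  rw [hk, Category.id_comp]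
  rfl

include hπ in
theorem geomPtBij_of_orbits
    (horb : ∀ (Ω : Type u) [Field Ω] [IsAlgClosed Ω] (t : Spec (CommRingCat.of Ω) ⟶ S),
      (∀ y : Over.mk t ⟶ Y, ∃ x : Over.mk t ⟶ X, x ≫ f = y) ∧
      (∀ x x' : Over.mk t ⟶ X, x ≫ f = x' ≫ f → ∃ g : Over.mk t ⟶ G, lift g x' ≫ aX.act = x)) :
    AlgSt.GeomPtBij π := by
  intro Ω _ _ t
  obtain ⟨h1, h2⟩ := horb Ω t
  constructor
  · rintro ⟨y⟩
    obtain ⟨x, hx⟩ := h1 y
    refine ⟨⟨triv Scheme.fppfPrecoverage aX x, rfl⟩, ?_⟩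
    have := fibSec_of_section aX Y f π hπ (triv Scheme.fppfPrecoverage aX x) rfl
      (unitSec (Over.mk t)) (by
        change lift _ _ ≫ snd G (Over.mk t) = 𝟙 _
        rw [lift_snd])
    refine this.trans ?_
    congr 1
    have h3 : unitSec (Over.mk t) ≫ (triv Scheme.fppfPrecoverage aX x).φ = x :=
      unitSec_whiskerLeft_act aX x
    exact (congrArg (· ≫ f) h3).trans hx
  · rintro ⟨A, hA⟩ ⟨B, hB⟩ hAB
    have hA' : A.base = Over.mk t := hA
    have hB' : B.base = Over.mk t := hB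
    obtain ⟨sA, hsA⟩ := exists_section_of_base_eq aX t A hA'
    obtain ⟨sB, hsB⟩ := exists_section_of_base_eq aX t B hB'
    rw [fibSec_of_section aX Y f π hπ A hA sA hsA, fibSec_of_section aX Y f π hπ B hB sB hsB] at hAB
    have hAB' : (sA ≫ A.φ) ≫ f = (sB ≫ B.φ) ≫ f := congrArg ULift.down hAB
    obtain ⟨g, hg⟩ := h2 _ _ hAB'
    -- the three isomorphisms
    let kA := homOfSection Scheme.fppfPrecoverage aX A sA
    let kB := homOfSection Scheme.fppfPrecoverage aX B sB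
    let τ := trivHom Scheme.fppfPrecoverage aX (𝟙 (Over.mk t)) (sA ≫ A.φ) (sB ≫ B.φ) g
      (by rw [Category.id_comp]; exact hg)
    have ikA : IsIso kA := by
      have : IsIso kA.base := by
        show IsIso (sA ≫ A.π)
        rw [hsA]; infer_instance
      exact isIso_of_isIso_base _
    have ikB : IsIso kB := by
      have : IsIso kB.base := by
        show IsIso (sB ≫ B.π)
        rw [hsB]; infer_instance
      exact isIso_of_isIso_base _
    have iτ : IsIso τ := by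
      have : IsIso τ.base := by
        show IsIso (𝟙 (Over.mk t))
        infer_instance
      exact isIso_of_isIso_base _
    let θ : A ≅ B := (asIso kA).symm ≪≫ asIso τ ≪≫ asIso kB
    have hθ : (AlgSt.QuotSt Scheme.fppfPrecoverage G aX).p.IsHomLift (𝟙 (Over.mk t)) θ.hom := by
      have e1 : (AlgSt.QuotSt Scheme.fppfPrecoverage G aX).p.IsHomLift (𝟙 (Over.mk t)) kA :=
        isHomLift_id_of_base aX kA rfl hA' (hsA.trans (eqToHom_symm_aux hA'))
      have e2 : (AlgSt.QuotSt Scheme.fppfPrecoverage G aX).p.IsHomLift (𝟙 (Over.mk t)) kB :=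
        isHomLift_id_of_base aX kB rfl hB' (hsB.trans (eqToHom_symm_aux hB'))
      have e3 : (AlgSt.QuotSt Scheme.fppfPrecoverage G aX).p.IsHomLift (𝟙 (Over.mk t)) τ :=
        isHomLift_id_of_base aX τ rfl rfl (by
          change 𝟙 _ = 𝟙 _ ≫ 𝟙 _
          rw [Category.comp_id])
      have e4 : (AlgSt.QuotSt Scheme.fppfPrecoverage G aX).p.IsHomLift (𝟙 (Over.mk t)) (inv kA) :=
        IsHomLift.lift_id_inv_isIso _ _ _
      change (AlgSt.QuotSt Scheme.fppfPrecoverage G aX).p.IsHomLift (𝟙 (Over.mk t))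
        (inv kA ≫ τ ≫ kB)
      infer_instance
    have hθ' : (AlgSt.QuotSt Scheme.fppfPrecoverage G aX).p.IsHomLift (𝟙 (Over.mk t)) θ.inv :=
      IsHomLift.lift_id_inv _ _ _
    exact ⟨{ hom := ⟨θ.hom, hθ⟩
             inv := ⟨θ.inv, hθ'⟩
             hom_inv_id := Subtype.ext θ.hom_inv_id
             inv_hom_id := Subtype.ext θ.inv_hom_id }⟩


include hπ in
theorem isCatModuli_of_catQuotSp
    (hcat : ∀ (N : AlgSp.Space S) (ψ : (AlgSp.yon S).obj X ⟶ N.obj),
      (AlgSp.yon S).map aX.act ≫ ψ = (AlgSp.yon S).map (snd G X) ≫ ψ →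
        ∃! χ : (AlgSp.yon S).obj Y ⟶ N.obj, (AlgSp.yon S).map f ≫ χ = ψ) :
    AlgSt.IsCatModuli π := by
  have hres : ∀ {N : AlgSp.Sp S} (g : (AlgSp.yon S).obj Y ⟶ N),
      BasedFunctor.comp (AlgSt.quotMap Scheme.fppfPrecoverage G aX)
        (BasedFunctor.comp π (AlgSt.ofSpMap g)) = AlgSt.ofSpMap ((AlgSp.yon S).map f ≫ g) := by
    intro N g
    have h1 : BasedFunctor.comp (AlgSt.quotMap Scheme.fppfPrecoverage G aX)
        (BasedFunctor.comp π (AlgSt.ofSpMap g)) =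
        BasedFunctor.comp (BasedFunctor.comp (AlgSt.quotMap Scheme.fppfPrecoverage G aX) π)
          (AlgSt.ofSpMap g) := rfl
    rw [h1, hπ, comp_ofSpMap]
  refine ⟨AlgSp.IsAlgSpace.yon_obj Y, fun N hN φ => ?_⟩
  let ψ' : (AlgSp.yon S).obj X ⟶ N :=
    spMapOfFunctor (BasedFunctor.comp (AlgSt.quotMap Scheme.fppfPrecoverage G aX) φ)
  have hψ' : BasedFunctor.comp (AlgSt.quotMap Scheme.fppfPrecoverage G aX) φ =
      AlgSt.ofSpMap ψ' := (ofSpMap_spMapOfFunctor _).symm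
  have hinv := invariant_of_functor aX Scheme.fppfPrecoverage φ ψ' hψ'
  obtain ⟨χ, hχ, hχu⟩ := hcat ⟨N, hN⟩ ψ' hinv
  obtain ⟨φ₀, hφ₀, hφ₀u⟩ := existsUnique_of_invariant aX N ψ' hinv
  refine ⟨χ, ⟨eqToIso ?_⟩, ?_⟩
  · rw [hφ₀u φ hψ']
    apply hφ₀u
    rw [hres]
    exact congrArg _ hχ
  · rintro g' ⟨eg'⟩
    have hg' : BasedFunctor.comp π (AlgSt.ofSpMap g') = φ := eq_of_iso_ofPsh eg'
    exact hχu g' (ofSpMap_injective (by rw [← hres, hg', hψ']))

theorem isCoarseModuli_of_orbits_of_catQuotSp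
    (horb : ∀ (Ω : Type u) [Field Ω] [IsAlgClosed Ω] (t : Spec (CommRingCat.of Ω) ⟶ S),
      (∀ y : Over.mk t ⟶ Y, ∃ x : Over.mk t ⟶ X, x ≫ f = y) ∧
      (∀ x x' : Over.mk t ⟶ X, x ≫ f = x' ≫ f → ∃ g : Over.mk t ⟶ G, lift g x' ≫ aX.act = x))
    (hcat : ∀ (N : AlgSp.Space S) (ψ : (AlgSp.yon S).obj X ⟶ N.obj),
      (AlgSp.yon S).map aX.act ≫ ψ = (AlgSp.yon S).map (snd G X) ≫ ψ →
        ∃! χ : (AlgSp.yon S).obj Y ⟶ N.obj, (AlgSp.yon S).map f ≫ χ = ψ)
    (hπ' : Nonempty (BasedFunctor.comp (AlgSt.quotMap Scheme.fppfPrecoverage G aX) π ≅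
      AlgSt.ofSpMap ((AlgSp.yon S).map f))) :
    AlgSt.IsCoarseModuli π := by
  have hπ : BasedFunctor.comp (AlgSt.quotMap Scheme.fppfPrecoverage G aX) π =
      AlgSt.ofSpMap ((AlgSp.yon S).map f) := eq_of_iso_ofPsh hπ'.some
  exact ⟨isCatModuli_of_catQuotSp aX Y f π hπ hcat, geomPtBij_of_orbits aX Y f π hπ horb⟩

end Geom

end Groth.Agent.Lib.Helper15Quot
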