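-- helper15: coarse moduli spaces along a gerbe with the universal factorisation property; covering sieves of spectra of algebraically closed fields contain the identity.
import Mathlib
import Groth.Prelude.Def_StGerb
import Groth.Prelude.Def_StCoarse
import Groth.Agent.Lib.Helper15QuotCoarse

set_option autoImplicit false
universe w v₁ u₁ v u
open CategoryTheory CategoryTheory.Limits AlgebraicGeometry Opposite

namespace Groth.Agent.Lib.Helper15GerbCoarse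

open Groth.Agent.Lib.Helper12 Groth.Agent.Lib.Helper17 Groth.Agent.Lib.Helper15Quot

section AlgClosed

variable {S : Scheme.{u}}

/-- a member of an fppf covering of a scheme isomorphic to the spectrum of an algebraically closed
field which has a section. -/
theorem exists_mem_section_of_algClosed {Ω : Type u} [Field Ω] [IsAlgClosed Ω] {Z : Scheme.{u}}
    (e : Z ≅ Spec (CommRingCat.of Ω)) (R : Presieve Z)
    (hR : R ∈ Scheme.fppfPrecoverage Z) :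
    ∃ (T' : Scheme.{u}) (g : T' ⟶ Z), R g ∧ ∃ τ : Z ⟶ T', τ ≫ g = 𝟙 Z := by
  have h1 := hR.1
  rw [Scheme.jointlySurjectivePrecoverage,
    Presieve.mem_comap_jointlySurjectivePrecoverage_iff] at h1
  have hne : Nonempty ↥Z := ⟨e.inv (IsLocalRing.closedPoint Ω)⟩
  obtain ⟨z⟩ := hne
  obtain ⟨T', g, hg, t', -⟩ := h1 z
  have hlfp : LocallyOfFinitePresentation g := (hR.2 hg).2
  have hlft : LocallyOfFiniteType (g ≫ e.hom) := inferInstance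
  have hJ : JacobsonSpace ↥T' := LocallyOfFiniteType.jacobsonSpace (g ≫ e.hom)
  obtain ⟨x', -, hx'⟩ := nonempty_inter_closedPoints (X := ↥T') (Z := Set.univ) ⟨t', trivial⟩
    isOpen_univ.isLocallyClosed
  let τ : Spec (CommRingCat.of Ω) ⟶ T' := pointOfClosedPoint (g ≫ e.hom) x' hx'
  have hτ : τ ≫ g ≫ e.hom = 𝟙 _ := pointOfClosedPoint_comp (g ≫ e.hom) x' hx'
  refine ⟨T', g, hg, e.hom ≫ τ, ?_⟩
  rw [← cancel_mono e.hom, Category.assoc, Category.assoc, hτ]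
  simp

/-- every covering sieve of the spectrum of an algebraically closed field, for the fppf topology,
contains the identity. -/
theorem id_mem_of_algClosed {Ω : Type u} [Field Ω] [IsAlgClosed Ω] (T : Over S)
    (e : T.left ≅ Spec (CommRingCat.of Ω)) (R : Sieve T)
    (hR : R ∈ QuotSh.J Scheme.fppfPrecoverage S T) : R (𝟙 T) := by
  rw [GrothendieckTopology.mem_over_iff,
    Precoverage.mem_toGrothendieck_iff_of_isStableUnderComposition] at hR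
  obtain ⟨R₀, hR₀, hle⟩ := hR
  obtain ⟨T', g, hg, τ, hτ⟩ := exists_mem_section_of_algClosed e R₀ hR₀
  have h1 := hle _ _ hg
  have h2 : (Sieve.overEquiv T R) (τ ≫ g) := Sieve.downward_closed _ h1 τ
  rw [hτ, Sieve.overEquiv_iff] at h2
  let ι : T ⟶ Over.mk (𝟙 T.left ≫ T.hom) := Over.homMk (𝟙 _) (by simp)
  have h3 := R.downward_closed h2 ι
  have h4 : ι ≫ (Over.homMk (𝟙 T.left) : Over.mk (𝟙 T.left ≫ T.hom) ⟶ T) = 𝟙 T := by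
    apply Over.OverMorphism.ext
    simp [ι]
  rw [h4] at h3
  exact h3

end AlgClosed

section FibSec

variable {S : Scheme.{u}} {𝒳 𝒴 : AlgSt.Cat S} {M : AlgSp.Sp S}

/-- the section attached to an object of the fibre only depends on its isomorphism class. -/
theorem fibSec_eq_of_hom (π : 𝒳 ⥤ᵇ AlgSt.ofSp M) {T : Over S} {x x' : 𝒳.p.Fiber T} (α : x ⟶ x') :
    AlgSt.fibSec π x = AlgSt.fibSec π x' := by
  obtain ⟨x, hx⟩ := x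
  obtain ⟨x', hx'⟩ := x'
  obtain ⟨α, hα⟩ := α
  change x ⟶ x' at α
  change 𝒳.p.IsHomLift (𝟙 T) α at hα
  rw [fibSec_eq, fibSec_eq]
  dsimp only
  have h1 := pshSec_map π α
  have h2 : 𝒳.p.map α = eqToHom hx ≫ 𝟙 T ≫ eqToHom hx'.symm := IsHomLift.fac' 𝒳.p (𝟙 T) α
  rw [← h1, h2]
  rw [psh_map_op_map_op]
  congr 2
  simp

/-- the section attached to an object by a composite. -/
theorem fibSec_comp (F : 𝒳 ⥤ᵇ 𝒴) (π : 𝒴 ⥤ᵇ AlgSt.ofSp M) {T : Over S} (x : 𝒳.p.Fiber T) :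
    AlgSt.fibSec (BasedFunctor.comp F π) x =
      AlgSt.fibSec π (⟨F.obj x.1, (F.w_obj x.1).trans x.2⟩ : 𝒴.p.Fiber T) := rfl

end FibSec

section Gerbe

variable {S : Scheme.{u}} {𝒳 𝒴 : AlgSt.Cat S}

/-- over the spectrum of an algebraically closed field every object of the target of a gerbe
comes from the source. -/
theorem exists_fiber_lift (h𝒴 : FibCat.IsFibGrpd 𝒴.p) (F : 𝒳 ⥤ᵇ 𝒴)
    (hF : Gerb.LocSurjObj (QuotSh.J Scheme.fppfPrecoverage S) F)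
    {Ω : Type u} [Field Ω] [IsAlgClosed Ω] (T : Over S) (e : T.left ≅ Spec (CommRingCat.of Ω))
    (y : 𝒴.p.Fiber T) :
    ∃ x : 𝒳.p.Fiber T,
      Nonempty (Functor.Fiber.mk (p := 𝒴.p) ((F.w_obj x.1).trans x.2) ≅ y) := by
  obtain ⟨y, rfl⟩ := y
  obtain ⟨R, hR, hlift⟩ := hF y
  obtain ⟨x, g, hg⟩ := hlift (𝟙 _) (id_mem_of_algClosed _ e R hR)
  have hx : 𝒳.p.obj x = 𝒴.p.obj y :=
    (F.w_obj x).symm.trans (IsHomLift.domain_eq 𝒴.p (𝟙 (𝒴.p.obj y)) g)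
  have := IsFibGrpd.isGroupoid_fiber h𝒴 (𝒴.p.obj y)
  let Y₀ : 𝒴.p.Fiber (𝒴.p.obj y) := Functor.Fiber.mk (p := 𝒴.p) ((F.w_obj x).trans hx)
  let Y : 𝒴.p.Fiber (𝒴.p.obj y) := Functor.Fiber.mk (p := 𝒴.p) (rfl : 𝒴.p.obj y = _)
  exact ⟨⟨x, hx⟩, ⟨asIso (⟨g, hg⟩ : Y₀ ⟶ Y)⟩⟩

/-- over the spectrum of an algebraically closed field, objects of the source of a gerbe with
isomorphic images are isomorphic. -/
theorem nonempty_iso_of_image_iso (h𝒳 : FibCat.IsFibGrpd 𝒳.p) (F : 𝒳 ⥤ᵇ 𝒴)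
    (hF : Gerb.LocSurjHom (QuotSh.J Scheme.fppfPrecoverage S) F)
    {Ω : Type u} [Field Ω] [IsAlgClosed Ω] (T : Over S) (e : T.left ≅ Spec (CommRingCat.of Ω))
    (x x' : 𝒳.p.Fiber T)
    (b : Functor.Fiber.mk (p := 𝒴.p) ((F.w_obj x.1).trans x.2) ⟶
      Functor.Fiber.mk (p := 𝒴.p) ((F.w_obj x'.1).trans x'.2)) :
    Nonempty (x ≅ x') := by
  obtain ⟨x, rfl⟩ := x
  obtain ⟨x', hx'⟩ := x'
  obtain ⟨b, hb⟩ := b
  change F.obj x ⟶ F.obj x' at b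
  change 𝒴.p.IsHomLift (𝟙 (𝒳.p.obj x)) b at hb
  obtain ⟨R, hR, hlift⟩ := hF x x' b hb
  obtain ⟨x₀, φ, ψ, hφ, hψ, -⟩ := hlift (𝟙 _) (id_mem_of_algClosed _ e R hR)
  have hx₀ : 𝒳.p.obj x₀ = 𝒳.p.obj x := IsHomLift.domain_eq 𝒳.p (𝟙 (𝒳.p.obj x)) φ
  have := IsFibGrpd.isGroupoid_fiber h𝒳 (𝒳.p.obj x)
  let X₀ : 𝒳.p.Fiber (𝒳.p.obj x) := ⟨x₀, hx₀⟩
  let X : 𝒳.p.Fiber (𝒳.p.obj x) := ⟨x, rfl⟩
  let X' : 𝒳.p.Fiber (𝒳.p.obj x) := ⟨x', hx'⟩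
  exact ⟨(asIso (⟨φ, hφ⟩ : X₀ ⟶ X)).symm ≪≫ asIso (⟨ψ, hψ⟩ : X₀ ⟶ X')⟩

end Gerbe

section Main

variable {S : Scheme.{u}} {𝒳 𝒴 : AlgSt.Cat S}

theorem isCoarseModuli_comp (h𝒳 : FibCat.IsFibGrpd 𝒳.p) (h𝒴 : FibCat.IsFibGrpd 𝒴.p)
    (F : 𝒳 ⥤ᵇ 𝒴) (hF : Gerb.IsGerbeOver (QuotSh.J Scheme.fppfPrecoverage S) F)
    (huniv : ∀ (N : AlgSp.Sp S), AlgSp.IsAlgSpace N → ∀ φ : 𝒳 ⥤ᵇ AlgSt.ofSp N,
      ∃ ψ : 𝒴 ⥤ᵇ AlgSt.ofSp N, Nonempty (BasedFunctor.comp F ψ ≅ φ) ∧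
        ∀ ψ' : 𝒴 ⥤ᵇ AlgSt.ofSp N, Nonempty (BasedFunctor.comp F ψ' ≅ φ) → Nonempty (ψ' ≅ ψ))
    {M : AlgSp.Sp S} (π : 𝒴 ⥤ᵇ AlgSt.ofSp M) (hπ : AlgSt.IsCoarseModuli π) :
    AlgSt.IsCoarseModuli (BasedFunctor.comp F π) := by
  obtain ⟨⟨hM, hcat⟩, hgeo⟩ := hπ
  refine ⟨⟨hM, ?_⟩, ?_⟩
  · intro N hN φ
    obtain ⟨ψ, ⟨i₁⟩, huq⟩ := huniv N hN φ
    obtain ⟨g, ⟨i₂⟩, hg⟩ := hcat N hN ψ
    have e1 := eq_of_iso_ofPsh i₁
    have e2 := eq_of_iso_ofPsh i₂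
    refine ⟨g, ⟨eqToIso ?_⟩, ?_⟩
    · rw [← e1, ← e2]; rfl
    · rintro g' ⟨i₃⟩
      apply hg
      have i₃' : BasedFunctor.comp F (BasedFunctor.comp π (AlgSt.ofSpMap g')) ≅ φ := i₃
      obtain ⟨i₄⟩ := huq _ ⟨i₃'⟩
      exact ⟨i₄⟩
  · intro Ω _ _ t
    obtain ⟨hg1, hg2⟩ := hgeo Ω t
    constructor
    · intro m
      obtain ⟨y, hy⟩ := hg1 m
      obtain ⟨x, ⟨ι⟩⟩ := exists_fiber_lift h𝒴 F hF.1 (Over.mk t) (Iso.refl _) y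
      refine ⟨x, ?_⟩
      rw [fibSec_comp]
      exact (fibSec_eq_of_hom π ι.hom).trans hy
    · intro x x' hxx'
      rw [fibSec_comp, fibSec_comp] at hxx'
      obtain ⟨b⟩ := hg2 _ _ hxx'
      exact nonempty_iso_of_image_iso h𝒳 F hF.2 (Over.mk t) (Iso.refl _) x x' b.hom

theorem isCoarseModuli_of_comp (h𝒳 : FibCat.IsFibGrpd 𝒳.p) (h𝒴 : FibCat.IsFibGrpd 𝒴.p)
    (F : 𝒳 ⥤ᵇ 𝒴) (hF : Gerb.IsGerbeOver (QuotSh.J Scheme.fppfPrecoverage S) F)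
    (huniv : ∀ (N : AlgSp.Sp S), AlgSp.IsAlgSpace N → ∀ φ : 𝒳 ⥤ᵇ AlgSt.ofSp N,
      ∃ ψ : 𝒴 ⥤ᵇ AlgSt.ofSp N, Nonempty (BasedFunctor.comp F ψ ≅ φ) ∧
        ∀ ψ' : 𝒴 ⥤ᵇ AlgSt.ofSp N, Nonempty (BasedFunctor.comp F ψ' ≅ φ) → Nonempty (ψ' ≅ ψ))
    {M : AlgSp.Sp S} (π' : 𝒳 ⥤ᵇ AlgSt.ofSp M) (hπ' : AlgSt.IsCoarseModuli π')
    (ψ : 𝒴 ⥤ᵇ AlgSt.ofSp M) (hψ : BasedFunctor.comp F ψ = π') :
    AlgSt.IsCoarseModuli ψ := by
  subst hψ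
  obtain ⟨⟨hM, hcat⟩, hgeo⟩ := hπ'
  refine ⟨⟨hM, ?_⟩, ?_⟩
  · intro N hN φ
    obtain ⟨g, ⟨i⟩, hg⟩ := hcat N hN (BasedFunctor.comp F φ)
    obtain ⟨ψ₀, -, huq⟩ := huniv N hN (BasedFunctor.comp F φ)
    have i' : BasedFunctor.comp F (BasedFunctor.comp ψ (AlgSt.ofSpMap g)) ≅
        BasedFunctor.comp F φ := i
    obtain ⟨j₁⟩ := huq _ ⟨i'⟩
    obtain ⟨j₂⟩ := huq φ ⟨Iso.refl _⟩
    refine ⟨g, ⟨j₁ ≪≫ j₂.symm⟩, ?_⟩
    rintro g' ⟨i₃⟩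
    apply hg
    have e3 := eq_of_iso_ofPsh i₃
    refine ⟨eqToIso ?_⟩
    rw [← e3]
    rfl
  · intro Ω _ _ t
    obtain ⟨hg1, hg2⟩ := hgeo Ω t
    have hgrp := IsFibGrpd.isGroupoid_fiber h𝒴 (Over.mk t)
    constructor
    · intro m
      obtain ⟨x, hx⟩ := hg1 m
      exact ⟨Functor.Fiber.mk (p := 𝒴.p) ((F.w_obj x.1).trans x.2), hx⟩
    · intro y y' hyy'
      obtain ⟨x, ⟨ι⟩⟩ := exists_fiber_lift h𝒴 F hF.1 (Over.mk t) (Iso.refl _) y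
      obtain ⟨x', ⟨ι'⟩⟩ := exists_fiber_lift h𝒴 F hF.1 (Over.mk t) (Iso.refl _) y'
      have h1 : AlgSt.fibSec (BasedFunctor.comp F ψ) x = AlgSt.fibSec (BasedFunctor.comp F ψ) x' := by
        rw [fibSec_comp, fibSec_comp]
        exact (fibSec_eq_of_hom ψ ι.hom).trans (hyy'.trans (fibSec_eq_of_hom ψ ι'.hom).symm)
      obtain ⟨c⟩ := hg2 x x' h1
      have hc : 𝒳.p.IsHomLift (𝟙 (Over.mk t)) c.hom.1 := c.hom.2
      have hFc : 𝒴.p.IsHomLift (𝟙 (Over.mk t)) (F.map c.hom.1) :=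
        BasedFunctor.preserves_isHomLift F _ c.hom.1
      let m : Functor.Fiber.mk (p := 𝒴.p) ((F.w_obj x.1).trans x.2) ⟶
          Functor.Fiber.mk (p := 𝒴.p) ((F.w_obj x'.1).trans x'.2) := ⟨F.map c.hom.1, hFc⟩
      exact ⟨ι.symm ≪≫ asIso m ≪≫ ι'⟩

end Main

end Groth.Agent.Lib.Helper15GerbCoarse
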