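-- helper15: being a gerbe descends along surjective flat lfp base change (LocSurjObj / LocSurjHom).
import Mathlib
import Groth.Prelude.Def_StGerb
import Groth.Agent.Lib.Helper15FppfLiftFam
import Groth.Agent.Lib.Helper15ClosedSubst

set_option autoImplicit false
universe u
open CategoryTheory CategoryTheory.Limits AlgebraicGeometry Opposite

namespace Groth.Agent.Lib.Helper15GerbDesc

open Groth.Agent.Lib.Helper17 Groth.Agent.Lib.Helper15FppfLiftFam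
  Groth.Agent.Lib.Helper15ClosedSubst

section Sieve

variable {S : Scheme.{u}}

/-- a sieve containing the composites of the members of a covering sieve of `V` with an fppf
covering morphism `V ⟶ T` is covering. -/
theorem mem_J_of_comp_cover {T V : Over S} (v : V ⟶ T) [Flat v.left]
    [LocallyOfFinitePresentation v.left] (hs : Function.Surjective v.left)
    (R' : Sieve V) (hR' : R' ∈ QuotSh.J Scheme.fppfPrecoverage S V) (R : Sieve T)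
    (h : ∀ ⦃W : Over S⦄ (f₁ : W ⟶ V), R' f₁ → R (f₁ ≫ v)) :
    R ∈ QuotSh.J Scheme.fppfPrecoverage S T := by
  refine (QuotSh.J Scheme.fppfPrecoverage S).transitive (generate_singleton_mem v hs) R ?_
  rintro W f₂ ⟨V', k, v', ⟨⟩, rfl⟩
  refine (QuotSh.J Scheme.fppfPrecoverage S).superset_covering ?_
    ((QuotSh.J Scheme.fppfPrecoverage S).pullback_stable k hR')
  intro W' m hm
  have h1 : R' (m ≫ k) := hm
  have h2 := h _ h1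
  change R (m ≫ k ≫ v)
  rw [← Category.assoc]
  exact h2

end Sieve

section Lift

theorem isHomLift_comp' {𝒳 : Type*} [Category 𝒳] {𝒮 : Type*} [Category 𝒮] (p : 𝒳 ⥤ 𝒮)
    {R S T : 𝒮} {a b c : 𝒳} (f : R ⟶ S) (g : S ⟶ T) (φ : a ⟶ b) (ψ : b ⟶ c)
    (h1 : p.IsHomLift f φ) (h2 : p.IsHomLift g ψ) : p.IsHomLift (f ≫ g) (φ ≫ ψ) :=
  inferInstance

variable {S : Scheme.{u}} {𝒴 𝒴' : AlgSt.Cat S}

/-- objects of the target of a surjective flat locally finitely presented morphism lift along an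
fppf covering morphism. -/
theorem exists_cover_lift (h𝒴 : AlgSt.IsAlgStack Scheme.fppfPrecoverage 𝒴)
    (h𝒴' : AlgSt.IsAlgStack Scheme.fppfPrecoverage 𝒴') (g : 𝒴' ⥤ᵇ 𝒴)
    (hg₁ : AlgSt.IsSurjective g) (hg₂ : AlgSt.LocQ (AlgSp.LocP @Flat) g)
    (hg₃ : AlgSt.LocQ (AlgSp.LocP @LocallyOfFinitePresentation) g) (y : 𝒴.obj) :
    ∃ (V : Over S) (v : V ⟶ 𝒴.p.obj y) (_ : Flat v.left)
      (_ : LocallyOfFinitePresentation v.left) (_ : Function.Surjective v.left)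
      (y' : 𝒴'.obj) (θ : g.obj y' ⟶ y), 𝒴.p.IsHomLift v θ := by
  let T : Over S := 𝒴.p.obj y
  have hyT : 𝒴.p.obj y = T := rfl
  have := IsFibGrpd.isFibered h𝒴.isStack.1
  let ŷ : FibCat.overCat T ⥤ᵇ 𝒴 := yonedaFunctor hyT
  obtain ⟨e₀, he₀⟩ := yonedaFunctor_iso hyT
  obtain ⟨V, v, hcov, hx⟩ := exists_fppf_cover_lifting h𝒴 PUnit (fun _ => 𝒴') (fun _ => h𝒴')
    (fun _ => g) (fun _ => hg₂) (fun _ => hg₃) (fun p => ⟨PUnit.unit, hg₁ p⟩) T ŷ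
  obtain ⟨x', ⟨α⟩⟩ := hx PUnit.unit
  have hcov' := (Scheme.ofArrows_mem_precoverage_iff
    (P := @Flat ⊓ @LocallyOfFinitePresentation)).1 hcov
  have hvf : Flat (v PUnit.unit).left := (hcov'.2 PUnit.unit).1
  have hvp : LocallyOfFinitePresentation (v PUnit.unit).left := (hcov'.2 PUnit.unit).2
  have hvs : Function.Surjective (v PUnit.unit).left := by
    intro t
    obtain ⟨i, hi⟩ := hcov'.1 t
    exact hi
  let V₀ : Over S := V PUnit.unit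
  let v₀ : V₀ ⟶ T := v PUnit.unit
  let c₀ : Over V₀ := Over.mk (𝟙 V₀)
  have h1 : 𝒴.p.IsHomLift (𝟙 V₀) (bApp α c₀).hom := bApp_isHomLift α c₀
  have h2 : 𝒴.p.IsHomLift (𝟙 V₀ ≫ v₀) (ŷ.map (overTerm T ((AlgSt.overMap v₀).obj c₀))) := by
    have h0 : (FibCat.overCat T).p.IsHomLift (𝟙 V₀ ≫ v₀)
        (overTerm T ((AlgSt.overMap v₀).obj c₀)) :=
      overTerm_isHomLift T ((AlgSt.overMap v₀).obj c₀)
    exact BasedFunctor.preserves_isHomLift ŷ _ _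
  have h23 : 𝒴.p.IsHomLift ((𝟙 V₀ ≫ v₀) ≫ 𝟙 T)
      (ŷ.map (overTerm T ((AlgSt.overMap v₀).obj c₀)) ≫ e₀.hom) :=
    isHomLift_comp' 𝒴.p (𝟙 V₀ ≫ v₀) (𝟙 T) _ e₀.hom h2 he₀
  have h3 : 𝒴.p.IsHomLift (𝟙 V₀ ≫ (𝟙 V₀ ≫ v₀) ≫ 𝟙 T)
      ((bApp α c₀).hom ≫ ŷ.map (overTerm T ((AlgSt.overMap v₀).obj c₀)) ≫ e₀.hom) :=
    isHomLift_comp' 𝒴.p (𝟙 V₀) ((𝟙 V₀ ≫ v₀) ≫ 𝟙 T) (bApp α c₀).hom _ h1 h23
  refine ⟨V₀, v₀, hvf, hvp, hvs, x'.obj c₀,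
    (bApp α c₀).hom ≫ ŷ.map (overTerm T ((AlgSt.overMap v₀).obj c₀)) ≫ e₀.hom, ?_⟩
  have e : 𝟙 V₀ ≫ (𝟙 V₀ ≫ v₀) ≫ 𝟙 T = v₀ := by simp
  rw [e] at h3
  exact h3

theorem exists_cover_lift' (h𝒴 : AlgSt.IsAlgStack Scheme.fppfPrecoverage 𝒴)
    (h𝒴' : AlgSt.IsAlgStack Scheme.fppfPrecoverage 𝒴') (g : 𝒴' ⥤ᵇ 𝒴)
    (hg₁ : AlgSt.IsSurjective g) (hg₂ : AlgSt.LocQ (AlgSp.LocP @Flat) g)
    (hg₃ : AlgSt.LocQ (AlgSp.LocP @LocallyOfFinitePresentation) g) (y : 𝒴.obj)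
    (U : Over S) (hU : 𝒴.p.obj y = U) :
    ∃ (y' : 𝒴'.obj) (v : 𝒴'.p.obj y' ⟶ U) (_ : Flat v.left)
      (_ : LocallyOfFinitePresentation v.left) (_ : Function.Surjective v.left)
      (θ : g.obj y' ⟶ y), 𝒴.p.IsHomLift v θ := by
  subst hU
  obtain ⟨V, v, hvf, hvp, hvs, y', θ, hθ⟩ := exists_cover_lift h𝒴 h𝒴' g hg₁ hg₂ hg₃ y
  have hV : 𝒴'.p.obj y' = V := (g.w_obj y').symm.trans (IsHomLift.domain_eq 𝒴.p v θ)
  subst hV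
  exact ⟨y', v, hvf, hvp, hvs, θ, hθ⟩

end Lift

section Main

variable {S : Scheme.{u}} {𝒳 𝒴 𝒴' : AlgSt.Cat S}

/-- local surjectivity on objects descends along a surjective flat locally finitely presented
base change. -/
theorem locSurjObj_of_fpFst (h𝒳 : AlgSt.IsAlgStack Scheme.fppfPrecoverage 𝒳)
    (h𝒴 : AlgSt.IsAlgStack Scheme.fppfPrecoverage 𝒴)
    (h𝒴' : AlgSt.IsAlgStack Scheme.fppfPrecoverage 𝒴') (f : 𝒳 ⥤ᵇ 𝒴) (g : 𝒴' ⥤ᵇ 𝒴)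
    (hg₁ : AlgSt.IsSurjective g) (hg₂ : AlgSt.LocQ (AlgSp.LocP @Flat) g)
    (hg₃ : AlgSt.LocQ (AlgSp.LocP @LocallyOfFinitePresentation) g)
    (h : Gerb.LocSurjObj (QuotSh.J Scheme.fppfPrecoverage S) (FibCat.fpFst g f)) :
    Gerb.LocSurjObj (QuotSh.J Scheme.fppfPrecoverage S) f := by
  intro y
  obtain ⟨V, v, hvf, hvp, hvs, y', θ, hθ⟩ := exists_cover_lift h𝒴 h𝒴' g hg₁ hg₂ hg₃ y
  have hV : 𝒴'.p.obj y' = V := (g.w_obj y').symm.trans (IsHomLift.domain_eq 𝒴.p v θ)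
  subst hV
  obtain ⟨R', hR', hR'2⟩ := h y'
  have h𝒳fib := h𝒳.isStack.1
  let R : Sieve (𝒴.p.obj y) :=
    { arrows := fun W f₀ => ∃ (x : 𝒳.obj) (g₀ : f.obj x ⟶ y), 𝒴.p.IsHomLift f₀ g₀
      downward_closed := by
        rintro W W' f₀ ⟨x, g₀, hg₀⟩ k
        have hW : 𝒳.p.obj x = W := (f.w_obj x).symm.trans (IsHomLift.domain_eq 𝒴.p f₀ g₀)
        subst hW
        obtain ⟨x', φ, hφ⟩ := h𝒳fib.exists_lift (x := x) k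
        have h1 : 𝒴.p.IsHomLift k (f.map φ) := BasedFunctor.preserves_isHomLift f _ _
        exact ⟨x', f.map φ ≫ g₀, isHomLift_comp' 𝒴.p k f₀ _ _ h1 hg₀⟩ }
  refine ⟨R, mem_J_of_comp_cover v hvs R' hR' R ?_, fun W f₀ hf₀ => hf₀⟩
  intro W f₁ hf₁
  obtain ⟨c, m, hm⟩ := hR'2 f₁ hf₁
  have hc : 𝒴.p.IsHomLift (𝟙 (𝒴'.p.obj c.obj.fst)) c.obj.iso.hom := c.property
  have hci : 𝒴.p.IsHomLift (𝟙 (𝒴'.p.obj c.obj.fst)) c.obj.iso.inv := inferInstance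
  have h1 : 𝒴.p.IsHomLift f₁ (g.map m) := BasedFunctor.preserves_isHomLift g _ _
  have h2 : 𝒴.p.IsHomLift (f₁ ≫ v) (g.map m ≫ θ) := isHomLift_comp' 𝒴.p f₁ v _ _ h1 hθ
  exact ⟨c.obj.snd, c.obj.iso.inv ≫ g.map m ≫ θ,
    @IsHomLift.comp_lift_id_left' _ _ _ _ 𝒴.p _ _ _ (𝒴'.p.obj c.obj.fst) c.obj.iso.inv hci _ _
      (f₁ ≫ v) (g.map m ≫ θ) h2⟩

/-- local surjectivity on morphisms descends along a surjective flat locally finitely presented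
base change. -/
theorem locSurjHom_of_fpFst (h𝒳 : AlgSt.IsAlgStack Scheme.fppfPrecoverage 𝒳)
    (h𝒴 : AlgSt.IsAlgStack Scheme.fppfPrecoverage 𝒴)
    (h𝒴' : AlgSt.IsAlgStack Scheme.fppfPrecoverage 𝒴') (f : 𝒳 ⥤ᵇ 𝒴) (g : 𝒴' ⥤ᵇ 𝒴)
    (hg₁ : AlgSt.IsSurjective g) (hg₂ : AlgSt.LocQ (AlgSp.LocP @Flat) g)
    (hg₃ : AlgSt.LocQ (AlgSp.LocP @LocallyOfFinitePresentation) g)
    (h : Gerb.LocSurjHom (QuotSh.J Scheme.fppfPrecoverage S) (FibCat.fpFst g f)) :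
    Gerb.LocSurjHom (QuotSh.J Scheme.fppfPrecoverage S) f := by
  intro x x' b hb
  have h𝒳fib := h𝒳.isStack.1
  have h𝒴fib := h𝒴.isStack.1
  have := IsFibGrpd.isFibered h𝒳fib
  obtain ⟨y', v, hvf, hvp, hvs, θ, hθ⟩ :=
    exists_cover_lift' h𝒴 h𝒴' g hg₁ hg₂ hg₃ (f.obj x) (𝒳.p.obj x) (f.w_obj x)
  have hx' : 𝒳.p.obj x' = 𝒳.p.obj x :=
    (f.w_obj x').symm.trans (IsHomLift.codomain_eq 𝒴.p (𝟙 (𝒳.p.obj x)) b)
  -- pull back `x` and `x'` along `v`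
  obtain ⟨xV, p, hp⟩ := h𝒳fib.exists_lift (x := x) v
  let xV' : 𝒳.obj := Functor.IsPreFibered.pullbackObj hx' v
  let p' : xV' ⟶ x' := Functor.IsPreFibered.pullbackMap hx' v
  have hp' : 𝒳.p.IsHomLift v p' :=
    (Functor.IsPreFibered.pullbackMap.IsCartesian hx' v).toIsHomLift
  have hfp : 𝒴.p.IsHomLift v (f.map p) := BasedFunctor.preserves_isHomLift f _ _
  have hfp' : 𝒴.p.IsHomLift v (f.map p') := BasedFunctor.preserves_isHomLift f _ _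
  obtain ⟨κ, hκ, eκ⟩ := IsFibGrpd.exists_iso_of_lifts h𝒴fib v θ (f.map p)
  have hfpb : 𝒴.p.IsHomLift v (f.map p ≫ b) := by
    have := isHomLift_comp' 𝒴.p v (𝟙 (𝒳.p.obj x)) _ _ hfp hb
    simpa using this
  obtain ⟨eb, heb, eeb⟩ := IsFibGrpd.exists_iso_of_lifts h𝒴fib v (f.map p ≫ b) (f.map p')
  let c : (FibCat.fp g f).obj := ⟨⟨y', xV, κ⟩, hκ⟩
  let c' : (FibCat.fp g f).obj := ⟨⟨y', xV', κ ≪≫ eb⟩,
    isHomLift_id_comp 𝒴.p (𝒴'.p.obj y') κ.hom eb.hom hκ heb⟩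
  have hid : 𝒴'.p.IsHomLift (𝟙 ((FibCat.fp g f).p.obj c))
      (𝟙 y' : (FibCat.fpFst g f).obj c ⟶ (FibCat.fpFst g f).obj c') :=
    IsHomLift.id (p := 𝒴'.p) (a := y') rfl
  obtain ⟨R', hR', hR'2⟩ := h c c' (𝟙 y') hid
  let R : Sieve (𝒳.p.obj x) :=
    { arrows := fun W f₀ => ∃ (x₀ : 𝒳.obj) (φ : x₀ ⟶ x) (ψ : x₀ ⟶ x'),
        𝒳.p.IsHomLift f₀ φ ∧ 𝒳.p.IsHomLift f₀ ψ ∧ f.map φ ≫ b = f.map ψ
      downward_closed := by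
        rintro W W' f₀ ⟨x₀, φ, ψ, hφ, hψ, e⟩ k
        have hW : 𝒳.p.obj x₀ = W := IsHomLift.domain_eq 𝒳.p f₀ φ
        subst hW
        obtain ⟨x₁, χ, hχ⟩ := h𝒳fib.exists_lift (x := x₀) k
        refine ⟨x₁, χ ≫ φ, χ ≫ ψ, isHomLift_comp' 𝒳.p k f₀ _ _ hχ hφ,
          isHomLift_comp' 𝒳.p k f₀ _ _ hχ hψ, ?_⟩
        rw [f.toFunctor.map_comp, f.toFunctor.map_comp, Category.assoc]
        exact congrArg (fun t => f.map χ ≫ t) e }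
  refine ⟨R, mem_J_of_comp_cover v hvs R' hR' R ?_, fun W f₀ hf₀ => hf₀⟩
  intro W f₁ hf₁
  obtain ⟨c₀, φ, ψ, hφ, hψ, e⟩ := hR'2 f₁ hf₁
  have hφ₂ : 𝒳.p.IsHomLift f₁ ((FibCat.fpSnd g f).map φ) :=
    ((FibCat.fpSnd g f).isHomLift_iff f₁ φ).2 hφ
  have hψ₂ : 𝒳.p.IsHomLift f₁ ((FibCat.fpSnd g f).map ψ) :=
    ((FibCat.fpSnd g f).isHomLift_iff f₁ ψ).2 hψ
  have e1 : φ.hom.fst = ψ.hom.fst := by
    have : φ.hom.fst ≫ 𝟙 y' = ψ.hom.fst := e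
    rwa [Category.comp_id] at this
  have w1 : g.map φ.hom.fst ≫ κ.hom = c₀.obj.iso.hom ≫ f.map φ.hom.snd := φ.hom.w
  have w2 : g.map ψ.hom.fst ≫ κ.hom ≫ eb.hom = c₀.obj.iso.hom ≫ f.map ψ.hom.snd := ψ.hom.w
  have key : f.map φ.hom.snd ≫ eb.hom = f.map ψ.hom.snd := by
    rw [← cancel_epi c₀.obj.iso.hom, ← w2, ← e1, ← Category.assoc, ← w1, Category.assoc]
  refine ⟨c₀.obj.snd, φ.hom.snd ≫ p, ψ.hom.snd ≫ p',
    isHomLift_comp' 𝒳.p f₁ v _ _ hφ₂ hp, isHomLift_comp' 𝒳.p f₁ v _ _ hψ₂ hp', ?_⟩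
  rw [f.toFunctor.map_comp, f.toFunctor.map_comp, Category.assoc, ← eeb, ← Category.assoc, key]

end Main

end Groth.Agent.Lib.Helper15GerbDesc
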