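-- helper15: for a gerbe over an algebraic space, the space is the sheafification of the presheaf of isomorphism classes.
import Mathlib
import Groth.Prelude.Def_StGerb2
import Groth.Prelude.Def_StCoarse
import Groth.Agent.Lib.Helper15GerbCoarse

set_option autoImplicit false
universe w v₁ u₁ v u
open CategoryTheory CategoryTheory.Limits AlgebraicGeometry Opposite

namespace Groth.Agent.Lib.Helper15GerbIsoCl

open Groth.Agent.Lib.Helper12 Groth.Agent.Lib.Helper17 Groth.Agent.Lib.Helper15Quot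
  Groth.Agent.Lib.Helper15GerbCoarse

section FibSec

variable {S : Scheme.{u}} {𝒳 : AlgSt.Cat S} {M : AlgSp.Sp S}

/-- the section attached to the source of a morphism lying over `f` is the restriction along `f`
of the section attached to the target. -/
theorem fibSec_of_map_eq (π : 𝒳 ⥤ᵇ AlgSt.ofSp M) {T V : Over S} (f : V ⟶ T)
    (y : 𝒳.p.Fiber V) (a : 𝒳.p.Fiber T) (ψ : y.1 ⟶ a.1)
    (hψ : 𝒳.p.map ψ = eqToHom y.2 ≫ f ≫ eqToHom a.2.symm) :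
    AlgSt.fibSec π y = M.obj.map f.op (AlgSt.fibSec π a) := by
  obtain ⟨y, hy⟩ := y
  obtain ⟨a, ha⟩ := a
  change y ⟶ a at ψ
  rw [fibSec_eq, fibSec_eq]
  dsimp only
  have h1 := pshSec_map π ψ
  rw [← h1, hψ]
  rw [psh_map_op_map_op, psh_map_op_map_op]
  congr 2
  simp

end FibSec

section Main

variable {S : Scheme.{u}} (𝒳 : AlgSt.Cat S) [FibCat.IsFibGrpd 𝒳.p] {M : AlgSp.Sp S}
  (π : 𝒳 ⥤ᵇ AlgSt.ofSp M)

/-- the class of the source of any lift of `f` is the restriction of the class of the target. -/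
theorem isoCl_eq_of_lift {T V : Over S} (f : V ⟶ T) (a : 𝒳.p.Fiber T) (y : 𝒳.p.Fiber V)
    (ψ : y.1 ⟶ a.1) (hψ : 𝒳.p.IsHomLift (f ≫ eqToHom a.2.symm) ψ) :
    (Gerb.isoClPsh 𝒳).map f.op (Quot.mk _ a) = Quot.mk _ y := by
  obtain ⟨χ, hχ, -⟩ := Gerb.exists_hom_pull 𝒳 a.1 (f ≫ eqToHom a.2.symm) ψ hψ
  symm
  exact Quot.sound ⟨⟨χ, hχ⟩⟩

/-- the map from the presheaf of isomorphism classes to `M`. -/
noncomputable def isoClMap : Gerb.isoClPsh 𝒳 ⟶ M.obj where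
  app T := ↾(Quot.lift (fun a : 𝒳.p.Fiber T.unop => AlgSt.fibSec π a)
    (fun _ _ ⟨φ⟩ => fibSec_eq_of_hom π φ))
  naturality := by
    intro T V f
    ext a
    obtain ⟨a⟩ := a
    change AlgSt.fibSec π (Gerb.pullFib 𝒳 f.unop a) = M.obj.map f (AlgSt.fibSec π a)
    exact fibSec_of_map_eq π f.unop (Gerb.pullFib 𝒳 f.unop a) a
      (Gerb.pullHom 𝒳 a.1 (f.unop ≫ eqToHom a.2.symm))
      ((Gerb.pullHom_map 𝒳 a.1 (f.unop ≫ eqToHom a.2.symm)).trans rfl)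

theorem isoClMap_fib (x : 𝒳.obj) :
    (isoClMap 𝒳 π).app (op (𝒳.p.obj x)) (Quot.mk _ (Gerb.fib x)) =
      M.obj.map (eqToHom (π.w_obj x).symm).op (π.obj x).sec := rfl

theorem isLocallySurjective_isoClMap
    (hπ : Gerb.LocSurjObj (QuotSh.J Scheme.fppfPrecoverage S) π) :
    Presheaf.IsLocallySurjective (QuotSh.J Scheme.fppfPrecoverage S) (isoClMap 𝒳 π) := by
  refine ⟨fun {T} s => ?_⟩
  let y₀ : (AlgSt.ofSp M).obj := ⟨T, s⟩
  obtain ⟨R, hR, hlift⟩ := hπ y₀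
  refine (QuotSh.J Scheme.fppfPrecoverage S).superset_covering ?_ hR
  intro V f hf
  obtain ⟨x, g, hg⟩ := hlift f hf
  have hg' : (AlgSt.ofSp M).p.IsHomLift f g := hg
  have hx : 𝒳.p.obj x = V :=
    (π.w_obj x).symm.trans (IsHomLift.domain_eq (AlgSt.ofSp M).p f g)
  refine ⟨Quot.mk _ (⟨x, hx⟩ : 𝒳.p.Fiber V), ?_⟩
  change AlgSt.fibSec π (⟨x, hx⟩ : 𝒳.p.Fiber V) = M.obj.map f.op s
  have h1 : g.hom = eqToHom ((π.w_obj x).trans hx) ≫ f ≫ eqToHom (rfl : T = T) :=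
    IsHomLift.fac' (AlgSt.ofSp M).p f g
  have h2 : M.obj.map g.hom.op s = (π.obj x).sec := g.map_sec
  have h3 : eqToHom ((π.w_obj x).trans hx).symm ≫ g.hom = f := by rw [h1]; simp
  have h4 : AlgSt.fibSec π (⟨x, hx⟩ : 𝒳.p.Fiber V) =
      M.obj.map (eqToHom ((π.w_obj x).trans hx).symm).op (π.obj x).sec := rfl
  exact h4.trans ((congrArg (M.obj.map (eqToHom ((π.w_obj x).trans hx).symm).op) h2.symm).trans
    ((psh_map_op_map_op M.obj _ _ s).trans (by rw [h3])))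

theorem isLocallyInjective_isoClMap
    (hπ : Gerb.LocSurjHom (QuotSh.J Scheme.fppfPrecoverage S) π) :
    Presheaf.IsLocallyInjective (QuotSh.J Scheme.fppfPrecoverage S) (isoClMap 𝒳 π) := by
  refine ⟨fun {T} a a' => ?_⟩
  obtain ⟨T⟩ := T
  induction a using Quot.ind with | mk a => ?_
  induction a' using Quot.ind with | mk a' => ?_
  change 𝒳.p.Fiber T at a a'
  obtain ⟨a, rfl⟩ := a
  obtain ⟨a', ha'⟩ := a'
  intro h
  change AlgSt.fibSec π (⟨a, rfl⟩ : 𝒳.p.Fiber _) = AlgSt.fibSec π (⟨a', ha'⟩ : 𝒳.p.Fiber _) at h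
  have hb : M.obj.map (eqToHom ((π.w_obj a).trans ((π.w_obj a').trans ha').symm)).op (π.obj a').sec =
      (π.obj a).sec := by
    unfold AlgSt.fibSec at h
    have h3 := congrArg (M.obj.map (eqToHom (π.w_obj a)).op) h
    rw [psh_map_op_map_op, psh_map_op_map_op] at h3
    rw [eqToHom_trans] at h3
    simp only [eqToHom_refl, op_id, Functor.map_id_apply] at h3
    rw [h3]
    congr 2
    simp
  let b : π.obj a ⟶ π.obj a' := ⟨eqToHom ((π.w_obj a).trans ((π.w_obj a').trans ha').symm), hb⟩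
  have hbl : (AlgSt.ofSp M).p.IsHomLift (𝟙 (𝒳.p.obj a)) b := by
    apply IsHomLift.of_fac' (AlgSt.ofSp M).p (𝟙 (𝒳.p.obj a)) b (π.w_obj a)
      ((π.w_obj a').trans ha')
    change b.hom = _
    simp [b]
  obtain ⟨R, hR, hlift⟩ := hπ a a' b hbl
  refine (QuotSh.J Scheme.fppfPrecoverage S).superset_covering ?_ hR
  intro V f hf
  obtain ⟨x₀, φ, ψ, hφ, hψ, -⟩ := hlift f hf
  have hx₀ : 𝒳.p.obj x₀ = V := IsHomLift.domain_eq 𝒳.p f φ
  change (Gerb.isoClPsh 𝒳).map f.op (Quot.mk _ ⟨a, rfl⟩) =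
    (Gerb.isoClPsh 𝒳).map f.op (Quot.mk _ ⟨a', ha'⟩)
  rw [isoCl_eq_of_lift 𝒳 f ⟨a, rfl⟩ ⟨x₀, hx₀⟩ φ (by simpa using hφ),
    isoCl_eq_of_lift 𝒳 f ⟨a', ha'⟩ ⟨x₀, hx₀⟩ ψ
      (IsHomLift.of_fac' 𝒳.p _ _ hx₀ rfl (by
        have := IsHomLift.fac' 𝒳.p f ψ
        rw [this]; simp))]

end Main

end Groth.Agent.Lib.Helper15GerbIsoCl
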