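-- helper15: directedness of the family of locally split subtori of a group of multiplicative type over an arbitrary base
import Mathlib
import Groth.Agent.Lib.Helper15JoinNhd
import Groth.Agent.Lib.Helper15SubGrpDesc
set_option autoImplicit false
universe u
open CategoryTheory CategoryTheory.Limits AlgebraicGeometry MonoidalCategory CartesianMonoidalCategory
  MonObj GrpObj

namespace Groth.Agent.Lib.Helper15JoinGlue

open Groth.Agent.Lib.Helper15DiagRigid Groth.Agent.Lib.Helper15DSmapPts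
open Groth.Agent.Lib.Helper15FieldDiag Groth.Agent.Lib.Helper15SplitSub
open Groth.Agent.Lib.Helper15DSbc Groth.Agent.Lib.Helper15BCNat
open Groth.Agent.Lib.Helper15QuotBC Groth.Agent.Lib.Helper15JoinNhd
open Groth.Agent.Lib.Helper15SubGrpDesc

variable {S : Scheme.{u}}

/-- restriction of a splitting to a smaller open. -/
lemma split_of_le {Q : Over S} [GrpObj Q] {U U' : S.Opens} (hle : U' ≤ U) (M : Type)
    [AddCommGroup M] (h : Red.IsSplitTorusWith M (Red.bc U.ι Q)) :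
    Red.IsSplitTorusWith M (Red.bc U'.ι Q) := by
  obtain ⟨a⟩ := h
  have h1 := nonempty_iso_bc U.ι (S.homOfLE hle) Q M a
  exact split_of_eq _ _ (S.homOfLE_ι hle) M h1

/-- a family of open immersions covering `S` is an fpqc covering. -/
lemma mem_fpqc_of_openCover {T : S → Scheme.{u}} (g : ∀ s, T s ⟶ S) [∀ s, IsOpenImmersion (g s)]
    (h : ∀ s : S, ∃ t : T s, g s t = s) :
    Presieve.ofArrows T g ∈ Scheme.fpqcPrecoverage S := by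
  let 𝒰 : S.OpenCover :=
    { I₀ := S
      X := T
      f := g
      mem₀ := by
        rw [Scheme.ofArrows_mem_precoverage_iff]
        exact ⟨fun p => ⟨p, h p⟩, fun s => inferInstance⟩ }
  exact Scheme.zariskiPrecoverage_le_fpqcPrecoverage _ 𝒰.mem₀

variable {G : Over S} [GrpObj G]

/-- **the locally split subtori of a group of multiplicative type form a directed family.** -/
theorem exists_join (hG : SGA3x.IsMultTypeFT G) {E₁ E₂ : Over S} [GrpObj E₁] [GrpObj E₂]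
    (j₁ : E₁ ⟶ G) [IsMonHom j₁] (j₂ : E₂ ⟶ G) [IsMonHom j₂]
    (h₁ : ∀ s : ↥S, ∃ U : S.Opens, s ∈ U ∧ ∃ r : ℕ,
      Red.IsSplitTorusWith (Fin r → ℤ) (Red.bc U.ι E₁))
    (h₂ : ∀ s : ↥S, ∃ U : S.Opens, s ∈ U ∧ ∃ r : ℕ,
      Red.IsSplitTorusWith (Fin r → ℤ) (Red.bc U.ι E₂)) :
    ∃ (E₃ : Over S) (_ : GrpObj E₃) (j₃ : E₃ ⟶ G) (g₁ : E₁ ⟶ E₃) (g₂ : E₂ ⟶ E₃),
      IsMonHom j₃ ∧ Mono j₃ ∧ IsClosedImmersion j₃.left ∧
      (∀ s : ↥S, ∃ U : S.Opens, s ∈ U ∧ ∃ r : ℕ,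
        Red.IsSplitTorusWith (Fin r → ℤ) (Red.bc U.ι E₃)) ∧
      g₁ ≫ j₃ = j₁ ∧ g₂ ≫ j₃ = j₂ := by
  have hloc : ∀ s : S, ∃ (U₀ : S.Opens) (U' : (U₀ : Scheme.{u}).Opens) (hs : s ∈ U₀)
      (_ : (⟨s, hs⟩ : (U₀ : Scheme.{u})) ∈ U') (r : ℕ)
      (v : Red.DS (U' : Scheme.{u}) (Fin r → ℤ) ⟶ Red.bc (U'.ι ≫ U₀.ι) G),
      JoinData j₁ j₂ (U'.ι ≫ U₀.ι) (Red.DS (U' : Scheme.{u}) (Fin r → ℤ)) v := by
    intro s
    obtain ⟨U₁, hs₁, r₁, hsp₁⟩ := h₁ s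
    obtain ⟨U₂, hs₂, r₂, hsp₂⟩ := h₂ s
    obtain ⟨U₀, hU₀⟩ : ∃ U₀ : S.Opens, U₀ = U₁ ⊓ U₂ := ⟨_, rfl⟩
    have hs₀ : s ∈ U₀ := by rw [hU₀]; exact ⟨hs₁, hs₂⟩
    obtain ⟨e₁⟩ := split_of_le (U' := U₀) (by rw [hU₀]; exact inf_le_left) _ hsp₁
    obtain ⟨e₂⟩ := split_of_le (U' := U₀) (by rw [hU₀]; exact inf_le_right) _ hsp₂
    obtain ⟨U', hsU', r₃, v, hd⟩ := exists_join_nhd (isMultTypeFT_bc U₀.ι hG)
      ((Over.pullback U₀.ι).map j₁) ((Over.pullback U₀.ι).map j₂) r₁ r₂ e₁ e₂ ⟨s, hs₀⟩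
    exact ⟨U₀, U', hs₀, hsU', r₃, _, JoinData.comp U₀.ι U'.ι hd⟩
  choose U₀ U' hs hs' r v hd using hloc
  have hopen : ∀ s, IsOpenImmersion ((U' s).ι ≫ (U₀ s).ι) := fun s => inferInstance
  have hcov : Presieve.ofArrows (fun s => ((U' s : (U₀ s : Scheme.{u}).Opens) : Scheme.{u}))
      (fun s => (U' s).ι ≫ (U₀ s).ι) ∈ Scheme.fpqcPrecoverage S := by
    refine mem_fpqc_of_openCover _ ?_
    intro s
    exact ⟨⟨⟨s, hs s⟩, hs' s⟩, rfl⟩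
  have hvm : ∀ s, IsMonHom (v s) := fun s => (hd s).1
  obtain ⟨E, inst, j, hjm, hjmono, hjcl, hiso, crit⟩ := exists_subgroup_descent
    (fun s => (U' s).ι ≫ (U₀ s).ι) hcov
    (fun s => Red.DS ((U' s : (U₀ s : Scheme.{u}).Opens) : Scheme.{u}) (Fin (r s) → ℤ)) v
    (fun s => (hd s).2.1) (by
      intro A k l x₀ x₁ e h
      exact (hd k).compat (hd l) x₀ x₁ e h)
  obtain ⟨g₁, hg₁⟩ := crit E₁ j₁ (fun k => (hd k).2.2.1)
  obtain ⟨g₂, hg₂⟩ := crit E₂ j₂ (fun k => (hd k).2.2.2.1)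
  refine ⟨E, inst, j, g₁, g₂, hjm, hjmono, hjcl, ?_, hg₁, hg₂⟩
  intro s
  obtain ⟨e, hem, -⟩ := hiso s
  have hsp : Red.IsSplitTorusWith (Fin (r s) → ℤ) (Red.bc ((U' s).ι ≫ (U₀ s).ι ≫ 𝟙 S) E) := by
    refine split_of_eq ((U' s).ι ≫ (U₀ s).ι) _ (by rw [Category.comp_id]) _ ?_
    exact ⟨Grp.mkIso' e⟩
  have h2 := split_image (𝟙 S) (U₀ s) (U' s) _ hsp
  refine ⟨(U₀ s).ι ''ᵁ (U' s), ⟨⟨s, hs s⟩, hs' s, rfl⟩, r s, ?_⟩
  exact split_of_eq _ _ (Category.comp_id _) _ h2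

end Groth.Agent.Lib.Helper15JoinGlue
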