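-- helper15: coordinates of morphisms to diagonalisable groups; homomorphisms of diagonalisable groups over a connected base
import Mathlib
import Groth.Agent.Lib.Helper15JoinGlue
import Groth.Agent.Lib.Helper15HomDiag
set_option autoImplicit false
universe u
open CategoryTheory CategoryTheory.Limits AlgebraicGeometry MonoidalCategory CartesianMonoidalCategory
  MonObj GrpObj

namespace Groth.Agent.Lib.Helper15GlueSplit

open Groth.Agent.Lib.Helper15DiagRigid Groth.Agent.Lib.Helper15DSmapPts
open Groth.Agent.Lib.Helper11MultGa Groth.Agent.Lib.Helper27.GaGm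
open Groth.Agent.Lib.Helper15FieldDiag Groth.Agent.Lib.Helper15SplitSub
open Groth.Agent.Lib.Helper15DSbc Groth.Agent.Lib.Helper15BCNat
open Groth.Agent.Lib.Helper15HomDiag

section PullbackComp

variable {S T T' : Scheme.{u}}

lemma pullbackComp_hom_left_fst (f : T ⟶ S) (q : T' ⟶ T) (H : Over S) :
    ((Over.pullbackComp q f).hom.app H).left ≫ pullback.fst (pullback.snd H.hom f) q ≫
      pullback.fst H.hom f = pullback.fst H.hom (q ≫ f) := by
  have h := conjugateEquiv_counit (Over.mapPullbackAdj (q ≫ f))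
    ((Over.mapPullbackAdj q).comp (Over.mapPullbackAdj f)) (Over.mapComp q f).symm.hom H
  have h2 := congrArg (fun z => z.left) h
  simp at h2
  exact h2

lemma pullbackComp_inv_left_fst (f : T ⟶ S) (q : T' ⟶ T) (H : Over S) :
    ((Over.pullbackComp q f).inv.app H).left ≫ pullback.fst H.hom (q ≫ f) =
      pullback.fst (pullback.snd H.hom f) q ≫ pullback.fst H.hom f := by
  have h1 : ((Over.pullbackComp q f).inv.app H).left ≫ ((Over.pullbackComp q f).hom.app H).left =
      𝟙 _ := by
    rw [← Over.comp_left, (Over.pullbackComp q f).inv_hom_id_app H]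
    rfl
  rw [← pullbackComp_hom_left_fst, ← Category.assoc, h1]
  exact Category.id_comp _

end PullbackComp

section Coord

variable {T T' : Scheme.{u}} (M : Type) [AddCommGroup M] {N : Type} [AddCommGroup N]

/-- the absolute coordinate of a morphism to a diagonalisable group. -/
noncomputable def co {Y : Over T} (w : Y ⟶ Red.DS T M) :
    Y.left ⟶ Spec (CommRingCat.of (AM.{u} M)) :=
  w.left ≫ pullback.fst (Red.diag (ULift.{u} ℤ) M).hom (tU T)

lemma co_injective {Y : Over T} (w w' : Y ⟶ Red.DS T M) (h : co M w = co M w') : w = w' := by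
  apply Over.OverMorphism.ext
  apply pullback.hom_ext
  · exact h
  · have h1 := Over.w w
    have h2 := Over.w w'
    exact h1.trans h2.symm

lemma co_comp {Y Y' : Over T} (a : Y' ⟶ Y) (w : Y ⟶ Red.DS T M) :
    co M (a ≫ w) = a.left ≫ co M w := by
  unfold co
  rw [Over.comp_left, Category.assoc]

lemma co_comp_DSmap (φ : M →+ N) {Y : Over T} (w : Y ⟶ Red.DS T N) :
    co M (w ≫ Red.DSmap T φ) = co N w ≫ Spec.map (CommRingCat.ofHom (amMap.{u} φ)) := by
  unfold co
  have h1 : (Red.DSmap T φ).left ≫ pullback.fst (Red.diag (ULift.{u} ℤ) M).hom (tU T) =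
      pullback.fst (Red.diag (ULift.{u} ℤ) N).hom (tU T) ≫
        (Red.diagMap (ULift.{u} ℤ) φ).left := by
    unfold Red.DSmap
    simp only [Over.pullback_map_left]
    exact pullback.lift_fst _ _ _
  rw [Over.comp_left, Category.assoc]
  refine (congrArg (fun t => w.left ≫ t) h1).trans ?_
  rw [diagMap_left]
  exact (Category.assoc _ _ _).symm

lemma exists_of_co {Y : Over T} (y : Y.left ⟶ Spec (CommRingCat.of (AM.{u} M))) :
    ∃ w : Y ⟶ Red.DS T M, co M w = y := by
  refine ⟨Over.homMk (pullback.lift y Y.hom (specULiftZIsTerminal.hom_ext _ _))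
    (pullback.lift_snd _ _ _), ?_⟩
  unfold co
  exact pullback.lift_fst _ _ _

/-- a canonical identification of the base change of a diagonalisable group, compatible with the
absolute coordinates. -/
lemma exists_bcDS (q : T' ⟶ T) :
    ∃ c : Red.bc q (Red.DS T M) ≅ Red.DS T' M, IsMonHom c.hom ∧
      c.hom.left ≫ pullback.fst (Red.diag (ULift.{u} ℤ) M).hom (tU T') =
        pullback.fst (Red.DS T M).hom q ≫ pullback.fst (Red.diag (ULift.{u} ℤ) M).hom (tU T) := by
  have key : ∀ x : T' ⟶ Spec (CommRingCat.of (ULift.{u} ℤ)), x = q ≫ tU T →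
      ∃ c : Red.bc q (Red.DS T M) ≅ Red.bc x (Red.diag (ULift.{u} ℤ) M), IsMonHom c.hom ∧
        c.hom.left ≫ pullback.fst (Red.diag (ULift.{u} ℤ) M).hom x =
          pullback.fst (Red.DS T M).hom q ≫
            pullback.fst (Red.diag (ULift.{u} ℤ) M).hom (tU T) := by
    rintro x rfl
    refine ⟨overIso (bcCompIso (tU T) q (Red.diag (ULift.{u} ℤ) M)), inferInstance, ?_⟩
    rw [Groth.Agent.Lib.Helper15JoinNhd.overIso_bcCompIso_hom]
    exact pullbackComp_inv_left_fst (tU T) q _
  exact key _ (specULiftZIsTerminal.hom_ext _ _)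

end Coord

section Global

variable {U : Scheme.{u}} (M₁ M₂ : Type) [AddCommGroup M₁] [AddCommGroup M₂]

/-- over a connected base, a homomorphism between diagonalisable groups is attached to a
homomorphism of character groups. -/
theorem exists_eq_DSmap [ConnectedSpace U] (hM₂ : AddGroup.FG M₂)
    (v : Red.DS U M₁ ⟶ Red.DS U M₂) [IsMonHom v] : ∃ φ : M₂ →+ M₁, v = Red.DSmap U φ := by
  obtain ⟨n, F, -, hF⟩ := Group.fg_iff'.mp (AddGroup.fg_iff_mul_fg.mp hM₂)
  obtain ⟨t₀⟩ : Nonempty U := inferInstance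
  obtain ⟨φ, hφ⟩ := exists_mem_Wset M₁ M₂ v (F : Set (Multiplicative M₂)) t₀
  have hclopen : IsClopen (Wset M₁ M₂ v (F : Set (Multiplicative M₂)) φ) := by
    have : Wset M₁ M₂ v (F : Set (Multiplicative M₂)) φ =
        ⋂ m ∈ F, Groth.Agent.Lib.Helper15TwoGrp.Aset M₁ M₂ (cOf M₁ M₂ v) m
          (AddMonoidHom.toMultiplicative φ m) := by
      ext t
      simp only [Wset, Set.mem_ofPred_eq, Set.mem_iInter, Finset.mem_coe]
    rw [this]
    exact isClopen_biInter_finset (fun m _ =>
      Groth.Agent.Lib.Helper15TwoGrp.isClopen_Aset M₁ M₂ (cOf M₁ M₂ v) (cOf_mul M₁ M₂ v) m _)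
  have huniv : Wset M₁ M₂ v (F : Set (Multiplicative M₂)) φ = Set.univ := by
    rcases isClopen_iff.mp hclopen with h | h
    · rw [h] at hφ; exact absurd hφ (Set.notMem_empty _)
    · exact h
  refine ⟨φ, ?_⟩
  have := comp_eq_of_mem_Wset M₁ M₂ v _ hF φ (Red.DS U M₁) (fun y => by rw [huniv]; trivial)
    (𝟙 _)
  rwa [Category.id_comp, Category.id_comp] at this

end Global

end Groth.Agent.Lib.Helper15GlueSplit
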