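-- helper15: agreement of local coordinate systems of a group scheme on common points; restriction to smaller opens
import Mathlib
import Groth.Agent.Lib.Helper15GlueSplitA
set_option autoImplicit false
universe u
open CategoryTheory CategoryTheory.Limits AlgebraicGeometry MonoidalCategory CartesianMonoidalCategory
  MonObj GrpObj

namespace Groth.Agent.Lib.Helper15GlueSplit

open Groth.Agent.Lib.Helper15DiagRigid Groth.Agent.Lib.Helper15DSmapPts
open Groth.Agent.Lib.Helper11MultGa Groth.Agent.Lib.Helper27.GaGm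
open Groth.Agent.Lib.Helper15FieldDiag Groth.Agent.Lib.Helper15SplitSub
open Groth.Agent.Lib.Helper15DSbc Groth.Agent.Lib.Helper15BCNat
open Groth.Agent.Lib.Helper15HomDiag Groth.Agent.Lib.Helper15SubGrpDesc

section Agree

variable {S : Scheme.{u}} {X : Over S} [GrpObj X] (M : Type) [AddCommGroup M]
  {N : Type} [AddCommGroup N]

/-- two local coordinate systems agree on their common points. -/
def Agree {T T' : Scheme.{u}} {g : T ⟶ S} {g' : T' ⟶ S} (e : Red.bc g X ⟶ Red.DS T M)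
    (e' : Red.bc g' X ⟶ Red.DS T' M) : Prop :=
  ∀ ⦃A : Scheme.{u}⦄ (a : A ⟶ (Red.bc g X).left) (a' : A ⟶ (Red.bc g' X).left),
    a ≫ pullback.fst X.hom g = a' ≫ pullback.fst X.hom g' → a ≫ co M e = a' ≫ co M e'

variable {M}

lemma Agree.symm {T T' : Scheme.{u}} {g : T ⟶ S} {g' : T' ⟶ S} {e : Red.bc g X ⟶ Red.DS T M}
    {e' : Red.bc g' X ⟶ Red.DS T' M} (h : Agree M e e') : Agree M e' e :=
  fun _ a a' ha => (h a' a ha.symm).symm

lemma Agree.eq {T : Scheme.{u}} {g : T ⟶ S} {e e' : Red.bc g X ⟶ Red.DS T M}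
    (h : Agree M e e') : e = e' := by
  apply co_injective
  have := h (𝟙 _) (𝟙 _) rfl
  rwa [Category.id_comp, Category.id_comp] at this

lemma eq_of_fst_eq {T : Scheme.{u}} (g : T ⟶ S) [Mono g] {A : Scheme.{u}}
    (a a' : A ⟶ (Red.bc g X).left)
    (h : a ≫ pullback.fst X.hom g = a' ≫ pullback.fst X.hom g) : a = a' := by
  apply pullback.hom_ext h
  rw [← cancel_mono g, Category.assoc, Category.assoc, ← pullback.condition, ← Category.assoc,
    ← Category.assoc, h]

lemma Agree.refl {T : Scheme.{u}} {g : T ⟶ S} [Mono g] (e : Red.bc g X ⟶ Red.DS T M) :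
    Agree M e e := by
  intro A a a' h
  rw [eq_of_fst_eq g a a' h]

lemma Agree.comp_DSmap {T T' : Scheme.{u}} {g : T ⟶ S} {g' : T' ⟶ S}
    {e : Red.bc g X ⟶ Red.DS T N} {e' : Red.bc g' X ⟶ Red.DS T' N} (h : Agree N e e')
    (φ : M →+ N) : Agree M (e ≫ Red.DSmap T φ) (e' ≫ Red.DSmap T' φ) := by
  intro A a a' ha
  rw [co_comp_DSmap, co_comp_DSmap, ← Category.assoc, ← Category.assoc, h a a' ha]

lemma Agree.trans {T₁ T₂ T₃ : Scheme.{u}} {g₁ : T₁ ⟶ S} {g₂ : T₂ ⟶ S} {g₃ : T₃ ⟶ S}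
    {e₁ : Red.bc g₁ X ⟶ Red.DS T₁ M} {e₂ : Red.bc g₂ X ⟶ Red.DS T₂ M}
    {e₃ : Red.bc g₃ X ⟶ Red.DS T₃ M} (h₁₂ : Agree M e₁ e₂) (h₂₃ : Agree M e₂ e₃)
    (r : T₁ ⟶ T₂) (hr : r ≫ g₂ = g₁) : Agree M e₁ e₃ := by
  intro A a a' ha
  obtain ⟨b, hb⟩ : ∃ b : A ⟶ (Red.bc g₂ X).left,
      b ≫ pullback.fst X.hom g₂ = a ≫ pullback.fst X.hom g₁ :=
    ⟨pullback.lift (a ≫ pullback.fst X.hom g₁) (a ≫ pullback.snd X.hom g₁ ≫ r) (by
      rw [Category.assoc, Category.assoc, Category.assoc, hr, pullback.condition]),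
      pullback.lift_fst _ _ _⟩
  rw [h₁₂ a b hb.symm, h₂₃ b a' (hb.trans ha)]

/-- restriction of a local coordinate system along a morphism. -/
lemma exists_res {T T' : Scheme.{u}} (g : T ⟶ S) [Mono g] (q : T' ⟶ T)
    (e : Red.bc g X ⟶ Red.DS T M) [IsMonHom e] [IsIso e] :
    ∃ e' : Red.bc (q ≫ g) X ⟶ Red.DS T' M, IsMonHom e' ∧ IsIso e' ∧ Agree M e' e := by
  obtain ⟨c, hcm, hc⟩ := exists_bcDS M q
  refine ⟨(overIso (bcCompIso g q X)).inv ≫ (Over.pullback q).map e ≫ c.hom, inferInstance,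
    inferInstance, ?_⟩
  intro A a a' ha
  have hco : co M ((overIso (bcCompIso g q X)).inv ≫ (Over.pullback q).map e ≫ c.hom) =
      ((Over.pullbackComp q g).hom.app X).left ≫ pullback.fst (pullback.snd X.hom g) q ≫
        co M e := by
    have e1 : (overIso (bcCompIso g q X)).inv = (Over.pullbackComp q g).hom.app X :=
      bcCompIso_inv g q _
    unfold co
    rw [e1, Over.comp_left, Over.comp_left, Category.assoc, Category.assoc]
    refine (congrArg (fun t => ((Over.pullbackComp q g).hom.app X).left ≫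
      ((Over.pullback q).map e).left ≫ t) hc).trans ?_
    have := map_left_fst q e
    rw [← Category.assoc ((Over.pullback q).map e).left, this, Category.assoc]
    rfl
  rw [hco]
  have hρ : a ≫ ((Over.pullbackComp q g).hom.app X).left ≫
      pullback.fst (pullback.snd X.hom g) q = a' := by
    apply eq_of_fst_eq g
    rw [Category.assoc, Category.assoc]
    exact (congrArg (fun t => a ≫ t) (pullbackComp_hom_left_fst g q X)).trans ha
  rw [← Category.assoc, ← Category.assoc, Category.assoc a, hρ]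

lemma exists_of_eq {T : Scheme.{u}} {g g' : T ⟶ S} [Mono g] (h : g = g')
    (e : Red.bc g X ⟶ Red.DS T M) [IsMonHom e] [IsIso e] :
    ∃ e' : Red.bc g' X ⟶ Red.DS T M, IsMonHom e' ∧ IsIso e' ∧ Agree M e' e := by
  subst h
  exact ⟨e, inferInstance, inferInstance, Agree.refl e⟩

/-- restriction of a local coordinate system to a smaller open. -/
lemma exists_res_opens {U W : S.Opens} (hle : W ≤ U) (e : Red.bc U.ι X ⟶ Red.DS U M)
    [IsMonHom e] [IsIso e] :
    ∃ e' : Red.bc W.ι X ⟶ Red.DS W M, IsMonHom e' ∧ IsIso e' ∧ Agree M e' e := by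
  obtain ⟨e₁, h₁m, h₁i, h₁⟩ := exists_res U.ι (S.homOfLE hle) e
  have hmono : Mono (S.homOfLE hle ≫ U.ι) := by rw [S.homOfLE_ι hle]; infer_instance
  obtain ⟨e₂, h₂m, h₂i, h₂⟩ := exists_of_eq (S.homOfLE_ι hle) e₁
  exact ⟨e₂, h₂m, h₂i, h₂.trans h₁ (𝟙 _) (by rw [Category.id_comp, S.homOfLE_ι hle])⟩

end Agree

end Groth.Agent.Lib.Helper15GlueSplit
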