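-- helper15: rigidity and normalisation of local coordinate systems of a group scheme over an irreducible base
import Mathlib
import Groth.Agent.Lib.Helper15GlueSplitB
set_option autoImplicit false
universe u
open CategoryTheory CategoryTheory.Limits AlgebraicGeometry MonoidalCategory CartesianMonoidalCategory
  MonObj GrpObj

namespace Groth.Agent.Lib.Helper15GlueSplit

open Groth.Agent.Lib.Helper15DiagRigid Groth.Agent.Lib.Helper15DSmapPts
open Groth.Agent.Lib.Helper11MultGa Groth.Agent.Lib.Helper27.GaGm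
open Groth.Agent.Lib.Helper15FieldDiag Groth.Agent.Lib.Helper15SplitSub
open Groth.Agent.Lib.Helper15DSbc Groth.Agent.Lib.Helper15BCNat
open Groth.Agent.Lib.Helper15HomDiag Groth.Agent.Lib.Helper15SubGrpDesc
open Groth.Agent.Lib.Helper15LocForm

section Topology

variable {S : Scheme.{u}}

lemma connectedSpace_opens [IrreducibleSpace S] (W : S.Opens) (hW : (W : Set S).Nonempty) :
    ConnectedSpace ↥(W : Scheme.{u}) := by
  have h1 : IsPreirreducible (W : Set S) :=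
    (PreirreducibleSpace.isPreirreducible_univ).open_subset W.2 (Set.subset_univ _)
  have h2 : _root_.IsConnected (W : Set S) := ⟨hW, h1.isPreconnected⟩
  exact isConnected_iff_connectedSpace.mp h2

lemma nonempty_inf [IrreducibleSpace S] (U V : S.Opens) (hU : (U : Set S).Nonempty)
    (hV : (V : Set S).Nonempty) : ((U ⊓ V : S.Opens) : Set S).Nonempty :=
  nonempty_preirreducible_inter U.2 V.2 hU hV

lemma nonempty_opens (W : S.Opens) (hW : (W : Set S).Nonempty) : Nonempty ↥(W : Scheme.{u}) := by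
  obtain ⟨x, hx⟩ := hW
  exact ⟨⟨x, hx⟩⟩

end Topology

section Rigid

variable {S : Scheme.{u}} {X : Over S} [GrpObj X] {M : Type} [AddCommGroup M]

/-- two coordinate systems over a connected open agreeing with a coordinate system over a
nonempty smaller open are equal. -/
lemma eq_of_agree {W W₀ : S.Opens} [ConnectedSpace ↥(W : Scheme.{u})]
    [Nonempty ↥(W₀ : Scheme.{u})] (hle : W₀ ≤ W) (hM : AddGroup.FG M)
    (a b : Red.bc W.ι X ⟶ Red.DS W M) [IsMonHom a] [IsIso a] [IsMonHom b]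
    (a₀ : Red.bc W₀.ι X ⟶ Red.DS W₀ M) [IsIso a₀] (ha : Agree M a₀ a) (hb : Agree M a₀ b) :
    a = b := by
  have hinv : IsMonHom (inv a) := (inferInstance : IsMonHom (asIso a).inv)
  obtain ⟨φ, hφ⟩ := exists_eq_DSmap M M hM (inv a ≫ b)
  have hb' : b = a ≫ Red.DSmap W φ := by rw [← hφ, IsIso.hom_inv_id_assoc]
  have h1 : Agree M (a₀ ≫ Red.DSmap W₀ φ) b := by
    rw [hb']
    exact ha.comp_DSmap φ
  have h2 : Agree M (a₀ ≫ Red.DSmap W₀ φ) a₀ :=
    h1.trans hb.symm (S.homOfLE hle) (S.homOfLE_ι hle)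
  have h3 : a₀ ≫ Red.DSmap W₀ φ = a₀ := h2.eq
  have h4 : Red.DSmap (W₀ : Scheme.{u}) φ = Red.DSmap (W₀ : Scheme.{u}) (AddMonoidHom.id M) := by
    rw [DSmap_id, ← cancel_epi a₀, h3, Category.comp_id]
  have h5 : φ = AddMonoidHom.id M := DSmap_injective_of_nonempty _ _ h4
  rw [hb', h5, DSmap_id, Category.comp_id]

/-- points over two opens lie over their intersection. -/
lemma exists_lift_inf {U U' : S.Opens} {A : Scheme.{u}} (p : A ⟶ (Red.bc U.ι X).left)
    (p' : A ⟶ (Red.bc U'.ι X).left)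
    (hp : p ≫ pullback.fst X.hom U.ι = p' ≫ pullback.fst X.hom U'.ι) :
    ∃ c : A ⟶ (Red.bc (U ⊓ U').ι X).left,
      c ≫ pullback.fst X.hom (U ⊓ U').ι = p ≫ pullback.fst X.hom U.ι := by
  have hrange : Set.range (p ≫ pullback.fst X.hom U.ι ≫ X.hom).base ⊆
      Set.range (U ⊓ U').ι.base := by
    rw [Scheme.Opens.range_ι]
    rintro _ ⟨z, rfl⟩
    constructor
    · have h1 : p ≫ pullback.fst X.hom U.ι ≫ X.hom = (p ≫ pullback.snd X.hom U.ι) ≫ U.ι := by
        rw [Category.assoc, pullback.condition]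
      rw [h1, Scheme.Hom.comp_base, TopCat.comp_app]
      exact ((p ≫ pullback.snd X.hom U.ι).base z).2
    · have h1 : p ≫ pullback.fst X.hom U.ι ≫ X.hom =
          (p' ≫ pullback.snd X.hom U'.ι) ≫ U'.ι := by
        rw [← Category.assoc, hp, Category.assoc, Category.assoc, pullback.condition]
      rw [h1, Scheme.Hom.comp_base, TopCat.comp_app]
      exact ((p' ≫ pullback.snd X.hom U'.ι).base z).2
  refine ⟨pullback.lift (p ≫ pullback.fst X.hom U.ι)
    (IsOpenImmersion.lift (U ⊓ U').ι (p ≫ pullback.fst X.hom U.ι ≫ X.hom) hrange) ?_,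
    pullback.lift_fst _ _ _⟩
  rw [IsOpenImmersion.lift_fac, Category.assoc]

lemma Agree.of_inf {U U' : S.Opens} {e : Red.bc U.ι X ⟶ Red.DS U M}
    {e' : Red.bc U'.ι X ⟶ Red.DS U' M} (a : Red.bc (U ⊓ U').ι X ⟶ Red.DS (U ⊓ U' : S.Opens) M)
    (ha : Agree M a e) (hb : Agree M a e') : Agree M e e' := by
  intro A p p' hp
  obtain ⟨c, hc⟩ := exists_lift_inf p p' hp
  rw [← ha c p hc, hb c p' (hc.trans hp)]

/-- a coordinate system over a nonempty open of an irreducible base can be modified by an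
automorphism of the character group so as to agree with a given one over another nonempty
open. -/
lemma exists_normalise [IrreducibleSpace S] (hM : AddGroup.FG M) {U U₀ : S.Opens}
    (hU : (U : Set S).Nonempty) (hU₀ : (U₀ : Set S).Nonempty)
    (e : Red.bc U.ι X ⟶ Red.DS U M) [IsMonHom e] [IsIso e]
    (e₀ : Red.bc U₀.ι X ⟶ Red.DS U₀ M) [IsMonHom e₀] [IsIso e₀] :
    ∃ e' : Red.bc U.ι X ⟶ Red.DS U M, IsMonHom e' ∧ IsIso e' ∧ Agree M e' e₀ := by
  have hW := nonempty_inf U U₀ hU hU₀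
  have := connectedSpace_opens _ hW
  have := nonempty_opens _ hW
  obtain ⟨a, ham, hai, ha⟩ := exists_res_opens (W := U ⊓ U₀) inf_le_left e
  obtain ⟨b, hbm, hbi, hb⟩ := exists_res_opens (W := U ⊓ U₀) inf_le_right e₀
  have hinva : IsMonHom (inv a) := (inferInstance : IsMonHom (asIso a).inv)
  have hinvb : IsMonHom (inv b) := (inferInstance : IsMonHom (asIso b).inv)
  obtain ⟨φ, hφ⟩ := exists_eq_DSmap M M hM (inv a ≫ b)
  obtain ⟨ψ, hψ⟩ := exists_eq_DSmap M M hM (inv b ≫ a)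
  have h1 : φ.comp ψ = AddMonoidHom.id M := by
    apply DSmap_injective_of_nonempty (T := ((U ⊓ U₀ : S.Opens) : Scheme.{u}))
    rw [DSmap_comp, DSmap_id, ← hφ, ← hψ]
    simp
  have h2 : ψ.comp φ = AddMonoidHom.id M := by
    apply DSmap_injective_of_nonempty (T := ((U ⊓ U₀ : S.Opens) : Scheme.{u}))
    rw [DSmap_comp, DSmap_id, ← hφ, ← hψ]
    simp
  have hiso : IsIso (Red.DSmap (U : Scheme.{u}) φ) :=
    ⟨Red.DSmap (U : Scheme.{u}) ψ, by rw [← DSmap_comp, h1, DSmap_id],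
      by rw [← DSmap_comp, h2, DSmap_id]⟩
  have hmon : IsMonHom (Red.DSmap (U : Scheme.{u}) φ) :=
    Groth.Agent.Lib.Helper27DiagSub.isMonHom_DSmap _ φ
  have hb' : b = a ≫ Red.DSmap ((U ⊓ U₀ : S.Opens) : Scheme.{u}) φ := by
    rw [← hφ, IsIso.hom_inv_id_assoc]
  refine ⟨e ≫ Red.DSmap (U : Scheme.{u}) φ, inferInstance, inferInstance, ?_⟩
  refine Agree.of_inf (a ≫ Red.DSmap ((U ⊓ U₀ : S.Opens) : Scheme.{u}) φ) (ha.comp_DSmap φ) ?_
  rw [← hb']
  exact hb

/-- over an irreducible base, two coordinate systems agreeing with a third one agree. -/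
lemma agree_of_agree_base [IrreducibleSpace S] (hM : AddGroup.FG M) {U₁ U₂ U₀ : S.Opens}
    (h₁ : (U₁ : Set S).Nonempty) (h₂ : (U₂ : Set S).Nonempty) (h₀ : (U₀ : Set S).Nonempty)
    (e₁ : Red.bc U₁.ι X ⟶ Red.DS U₁ M) [IsMonHom e₁] [IsIso e₁]
    (e₂ : Red.bc U₂.ι X ⟶ Red.DS U₂ M) [IsMonHom e₂] [IsIso e₂]
    (e₀ : Red.bc U₀.ι X ⟶ Red.DS U₀ M) (h10 : Agree M e₁ e₀) (h20 : Agree M e₂ e₀) :
    Agree M e₁ e₂ := by
  have hW := nonempty_inf U₁ U₂ h₁ h₂
  have hW₀ := nonempty_inf (U₁ ⊓ U₂) U₀ hW h₀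
  have := connectedSpace_opens _ hW
  have := nonempty_opens _ hW₀
  obtain ⟨a, ham, hai, ha⟩ := exists_res_opens (W := U₁ ⊓ U₂) inf_le_left e₁
  obtain ⟨b, hbm, hbi, hb⟩ := exists_res_opens (W := U₁ ⊓ U₂) inf_le_right e₂
  have hle : U₁ ⊓ U₂ ⊓ U₀ ≤ U₁ ⊓ U₂ := inf_le_left
  obtain ⟨a₀, ha₀m, ha₀i, ha₀⟩ := exists_res_opens (W := U₁ ⊓ U₂ ⊓ U₀) hle a
  have k1 : Agree M a₀ e₁ := ha₀.trans ha (S.homOfLE hle) (S.homOfLE_ι hle)
  have k2 : Agree M a₀ e₀ :=
    k1.trans h10 (S.homOfLE (hle.trans inf_le_left)) (S.homOfLE_ι _)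
  have k3 : Agree M a₀ e₂ :=
    k2.trans h20.symm (S.homOfLE (inf_le_right : U₁ ⊓ U₂ ⊓ U₀ ≤ U₀)) (S.homOfLE_ι _)
  have k4 : Agree M a₀ b :=
    k3.trans hb.symm (S.homOfLE (hle.trans inf_le_right)) (S.homOfLE_ι _)
  have hab : a = b := eq_of_agree hle hM a b a₀ ha₀ k4
  refine Agree.of_inf a ha ?_
  rw [hab]
  exact hb

end Rigid

end Groth.Agent.Lib.Helper15GlueSplit
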