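-- helper15: gluing of local coordinate systems of a group scheme agreeing on common points
import Mathlib
import Groth.Agent.Lib.Helper15GlueSplitC
set_option autoImplicit false
universe u
open CategoryTheory CategoryTheory.Limits AlgebraicGeometry MonoidalCategory CartesianMonoidalCategory
  MonObj GrpObj

namespace Groth.Agent.Lib.Helper15GlueSplit

open Groth.Agent.Lib.Helper15DiagRigid Groth.Agent.Lib.Helper15DSmapPts
open Groth.Agent.Lib.Helper11MultGa Groth.Agent.Lib.Helper27.GaGm
open Groth.Agent.Lib.Helper15FieldDiag Groth.Agent.Lib.Helper15SplitSub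
open Groth.Agent.Lib.Helper15DSbc Groth.Agent.Lib.Helper15BCNat
open Groth.Agent.Lib.Helper15HomDiag Groth.Agent.Lib.Helper15SubGrpDesc
open Groth.Agent.Lib.Helper15LocForm

section Glue

variable {S : Scheme.{u}} {X : Over S} [GrpObj X] {M : Type} [AddCommGroup M]

/-- gluing of local coordinate systems agreeing on common points. -/
theorem exists_glue (U : S → S.Opens) (hU : ∀ s, s ∈ U s)
    (e : ∀ s, Red.bc (U s).ι X ⟶ Red.DS (U s) M) (hag : ∀ s t, Agree M (e s) (e t)) :
    ∃ ψ : X ⟶ Red.DS S M, ∀ s, pullback.fst X.hom (U s).ι ≫ co M ψ = co M (e s) := by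
  let 𝒰 : S.OpenCover :=
    { I₀ := S
      X := fun s => (U s : Scheme.{u})
      f := fun s => (U s).ι
      mem₀ := by
        rw [Scheme.ofArrows_mem_precoverage_iff]
        exact ⟨fun p => ⟨p, ⟨p, hU p⟩, rfl⟩, fun s => inferInstance⟩ }
  let 𝒱 : X.left.OpenCover := 𝒰.pullback₁ X.hom
  obtain ⟨ψ, hψ⟩ := exists_of_co (T := S) (Y := X) M
    (𝒱.glueMorphisms (fun s => co M (e s))
      (fun s t => hag s t (pullback.fst _ _) (pullback.snd _ _) pullback.condition))
  refine ⟨ψ, fun s => ?_⟩
  rw [hψ]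
  exact 𝒱.ι_glueMorphisms _ _ s

/-- the coordinate of a base change. -/
lemma co_bc {T : Scheme.{u}} (g : T ⟶ S) (ψ : X ⟶ Red.DS S M)
    (c : Red.bc g (Red.DS S M) ≅ Red.DS T M)
    (hc : c.hom.left ≫ pullback.fst (Red.diag (ULift.{u} ℤ) M).hom (tU T) =
      pullback.fst (Red.DS S M).hom g ≫ pullback.fst (Red.diag (ULift.{u} ℤ) M).hom (tU S)) :
    co M ((Over.pullback g).map ψ ≫ c.hom) = pullback.fst X.hom g ≫ co M ψ := by
  unfold co
  rw [Over.comp_left, Category.assoc]
  refine (congrArg (fun t => ((Over.pullback g).map ψ).left ≫ t) hc).trans ?_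
  have := map_left_fst g ψ
  rw [← Category.assoc, this, Category.assoc]
  rfl

end Glue

end Groth.Agent.Lib.Helper15GlueSplit
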