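-- helper15: rank of a torus via geometric fibres; a monomorphism of tori of the same rank is an isomorphism
import Mathlib
import Groth.Agent.Lib.Helper15SplitSub
set_option autoImplicit false
universe u
open CategoryTheory CategoryTheory.Limits AlgebraicGeometry MonoidalCategory CartesianMonoidalCategory
  MonObj GrpObj

namespace Groth.Agent.Lib.Helper15TorusRank

open Groth.Agent.Lib.Helper15DSmapPts Groth.Agent.Lib.Helper15DSmapProps
open Groth.Agent.Lib.Helper15SplitSub

section RankEq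

variable {X : Scheme.{u}}

/-- the rank of a split torus over a nonempty base is well defined (one inequality). -/
lemma rank_le_of_iso (x : X) (a b : ℕ)
    (e : Grp.mk (Red.DS X (Fin a → ℤ)) ≅ Grp.mk (Red.DS X (Fin b → ℤ))) : a ≤ b := by
  have hfg : AddGroup.FG (Fin b → ℤ) := by
    rw [AddGroup.fg_iff_addMonoid_fg]
    infer_instance
  obtain ⟨φ, W, hxW, hW⟩ := exists_opens_isD e.hom.hom.hom (Fin a → ℤ) (Fin b → ℤ)
    (Iso.refl _) (Iso.refl _) hfg x
  have hiso : IsIso e.hom.hom.hom :=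
    ⟨e.inv.hom.hom, congr($(e.hom_inv_id).hom.hom), congr($(e.inv_hom_id).hom.hom)⟩
  have hm : Mono ((Over.pullback W.ι).map e.hom.hom.hom).left := inferInstance
  exact le_of_surjective a b φ (surjective_of_isD_mono (T := (W : Scheme.{u})) ⟨x, hxW⟩ hW hm)

lemma rank_eq_of_iso (x : X) (a b : ℕ)
    (e : Grp.mk (Red.DS X (Fin a → ℤ)) ≅ Grp.mk (Red.DS X (Fin b → ℤ))) : a = b :=
  le_antisymm (rank_le_of_iso x a b e) (rank_le_of_iso x b a e.symm)

end RankEq

section Geom

variable {S : Scheme.{u}} (T : Over S) [GrpObj T]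

/-- the rank of a torus at a point, computed on the geometric fibre, agrees with the rank of any
local splitting above that point. -/
theorem rank_eq_geomFibre (s : S) (ρ : ℕ)
    (h₁ : Red.IsSplitTorusWith (Fin ρ → ℤ) (Red.geomFibre s T))
    {W : Scheme.{u}} (g : W ⟶ S) (t : W) (ht : g t = s) (r : ℕ)
    (e : Grp.mk (Red.bc g T) ≅ Grp.mk (Red.DS W (Fin r → ℤ))) : r = ρ := by
  obtain ⟨e₁⟩ := h₁
  obtain ⟨p⟩ : Nonempty (Spec (CommRingCat.of (AlgebraicClosure (S.residueField s)))) :=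
    inferInstance
  have hp : Red.geomPt s p = s := by
    show (Spec.map _ ≫ S.fromSpecResidueField s) p = s
    rw [Scheme.Hom.comp_apply]
    exact Scheme.fromSpecResidueField_apply s _
  obtain ⟨z, hz1, hz2⟩ := Scheme.Pullback.exists_preimage_pullback p t (hp.trans ht.symm)
  obtain ⟨a, ha⟩ : ∃ a, a = (pullback (Red.geomPt s) g).fromSpecResidueField z ≫
      pullback.fst (Red.geomPt s) g := ⟨_, rfl⟩
  obtain ⟨b, hb⟩ : ∃ b, b = (pullback (Red.geomPt s) g).fromSpecResidueField z ≫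
      pullback.snd (Red.geomPt s) g := ⟨_, rfl⟩
  have hab : a ≫ Red.geomPt s = b ≫ g := by
    rw [ha, hb, Category.assoc, Category.assoc, pullback.condition]
  obtain ⟨e₁'⟩ := Groth.Agent.Lib.Helper15DSbc.nonempty_iso_bc (Red.geomPt s) a T _ e₁
  obtain ⟨e'⟩ := Groth.Agent.Lib.Helper15DSbc.nonempty_iso_bc g b T _ e
  rw [hab] at e₁'
  obtain ⟨x⟩ : Nonempty (Spec ((pullback (Red.geomPt s) g).residueField z)) := inferInstance
  exact rank_eq_of_iso x r ρ (e'.symm ≪≫ e₁')

end Geom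

section Main

variable {S : Scheme.{u}} {T T' : Over S} [GrpObj T] [GrpObj T']

/-- **a monomorphism of tori with the same rank function is an isomorphism.** -/
theorem isIso_of_mono_of_same_rank (hT : Red.IsTorus T) (hT' : Red.IsTorus T') (f : T ⟶ T')
    [IsMonHom f] [Mono f]
    (hrk : ∀ s : S, ∃ r : ℕ, Red.IsSplitTorusWith (Fin r → ℤ) (Red.geomFibre s T) ∧
      Red.IsSplitTorusWith (Fin r → ℤ) (Red.geomFibre s T')) : IsIso f := by
  obtain ⟨K, Sk, gk, hcov, hloc⟩ :=
    Groth.Agent.Lib.Helper15DSbc.exists_fpqc_family₂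
      (fun S' g => ∃ r : ℕ, Red.IsSplitTorusWith (Fin r → ℤ) (Red.bc g T))
      (fun S' g => ∃ r : ℕ, Red.IsSplitTorusWith (Fin r → ℤ) (Red.bc g T'))
      (fun S' S'' f q ⟨r, ⟨e⟩⟩ => ⟨r, Groth.Agent.Lib.Helper15DSbc.nonempty_iso_bc f q T _ e⟩)
      (fun S' S'' f q ⟨r, ⟨e⟩⟩ => ⟨r, Groth.Agent.Lib.Helper15DSbc.nonempty_iso_bc f q T' _ e⟩)
      hT hT'
  have hex : ∀ (k : K) (t : Sk k), ∃ (W : (Sk k).Opens), t ∈ W ∧
      IsIso ((Over.pullback (W.ι ≫ gk k)).map f).left := by
    intro k t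
    obtain ⟨⟨r, ⟨e₁⟩⟩, ⟨r', ⟨e₂⟩⟩⟩ := hloc k
    have hfg : AddGroup.FG (Fin r' → ℤ) := by
      rw [AddGroup.fg_iff_addMonoid_fg]
      infer_instance
    obtain ⟨φ, W, htW, hW⟩ := Groth.Agent.Lib.Helper15HomLoc.exists_opens_isD (gk k) f
      (Fin r → ℤ) (Fin r' → ℤ) e₁ e₂ hfg t
    refine ⟨W, htW, ?_⟩
    obtain ⟨ρ, h1, h2⟩ := hrk (gk k t)
    have hr : r = ρ := rank_eq_geomFibre T (gk k t) ρ h1 (gk k) t rfl r e₁
    have hr' : r' = ρ := rank_eq_geomFibre T' (gk k t) ρ h2 (gk k) t rfl r' e₂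
    subst hr
    subst hr'
    have hm : Mono ((Over.pullback (W.ι ≫ gk k)).map f).left :=
      Groth.Agent.Lib.Helper15LocusClopen.bc (MorphismProperty.monomorphisms Scheme.{u}) _ _
        (inferInstance : Mono f.left)
    have hφ : Function.Surjective φ :=
      surjective_of_isD_mono (T := (W : Scheme.{u})) ⟨t, htW⟩ hW hm
    exact isIso_of_isD_bijective hW (bijective_of_surjective _ φ hφ)
  choose Wo hWo hiso using hex
  have h2 : ∀ k : K, Presieve.ofArrows (fun t : Sk k => ((Wo k t : (Sk k).Opens) : Scheme.{u}))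
      (fun t => (Wo k t).ι) ∈ Scheme.fpqcPrecoverage (Sk k) := by
    intro k
    let 𝒰 : (Sk k).OpenCover :=
      { I₀ := Sk k
        X := fun t => (Wo k t).toScheme
        f := fun t => (Wo k t).ι
        mem₀ := by
          rw [Scheme.ofArrows_mem_precoverage_iff]
          exact ⟨fun p => ⟨p, ⟨p, hWo k p⟩, rfl⟩, fun s => inferInstance⟩ }
    exact Scheme.zariskiPrecoverage_le_fpqcPrecoverage _ 𝒰.mem₀
  have h3 := Precoverage.comp_mem_coverings (J := Scheme.fpqcPrecoverage.{u}) gk hcov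
    (fun k (t : Sk k) => (Wo k t).ι) h2
  have hleft : IsIso f.left :=
    Groth.Agent.Lib.Helper15FixClopenGlob.of_bc_family
      (P := MorphismProperty.isomorphisms Scheme.{u}) inferInstance f
      (fun p : Σ k : K, Sk k => (Wo p.1 p.2).ι ≫ gk p.1) h3 (fun p => hiso p.1 p.2)
  have : IsIso ((Over.forget S).map f) := hleft
  exact isIso_of_reflects_iso f (Over.forget S)

end Main

end Groth.Agent.Lib.Helper15TorusRank
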