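-- helper15: greatest locally split subtorus of a group of multiplicative type over a connected base
import Mathlib
import Groth.Agent.Lib.Helper15JoinGlue
import Groth.Agent.Lib.Helper15TorusRank
set_option autoImplicit false
universe u
open CategoryTheory CategoryTheory.Limits AlgebraicGeometry MonoidalCategory CartesianMonoidalCategory
  MonObj GrpObj

namespace Groth.Agent.Lib.Helper15GreatestLoc

open Groth.Agent.Lib.Helper15DiagRigid Groth.Agent.Lib.Helper15DSmapPts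
open Groth.Agent.Lib.Helper15FieldDiag Groth.Agent.Lib.Helper15SplitSub
open Groth.Agent.Lib.Helper15DSbc Groth.Agent.Lib.Helper15BCNat
open Groth.Agent.Lib.Helper15QuotBC Groth.Agent.Lib.Helper15JoinNhd
open Groth.Agent.Lib.Helper15JoinGlue Groth.Agent.Lib.Helper15TorusRank

variable {S : Scheme.{u}}

/-- the torus `T` is split of rank `r` on a neighbourhood of `s`. -/
def RankAt (T : Over S) [GrpObj T] (s : S) (r : ℕ) : Prop :=
  ∃ U : S.Opens, s ∈ U ∧ Red.IsSplitTorusWith (Fin r → ℤ) (Red.bc U.ι T)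

section Rank

variable (T : Over S) [GrpObj T]

lemma rank_unique {U U' : S.Opens} (s : S) (hs : s ∈ U) (hs' : s ∈ U') (r r' : ℕ)
    (h : Red.IsSplitTorusWith (Fin r → ℤ) (Red.bc U.ι T))
    (h' : Red.IsSplitTorusWith (Fin r' → ℤ) (Red.bc U'.ι T)) : r = r' := by
  obtain ⟨e⟩ := split_of_le (U' := U ⊓ U') inf_le_left _ h
  obtain ⟨e'⟩ := split_of_le (U' := U ⊓ U') inf_le_right _ h'
  exact rank_eq_of_iso (X := ((U ⊓ U' : S.Opens) : Scheme.{u})) ⟨s, hs, hs'⟩ r r' (e.symm ≪≫ e')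

lemma rankAt_unique (s : S) (r r' : ℕ) (h : RankAt T s r) (h' : RankAt T s r') : r = r' := by
  obtain ⟨U, hs, h⟩ := h
  obtain ⟨U', hs', h'⟩ := h'
  exact rank_unique T s hs hs' r r' h h'

/-- the rank of a locally split torus over a connected base is constant. -/
lemma rankAt_const [ConnectedSpace S]
    (hT : ∀ s : S, ∃ U : S.Opens, s ∈ U ∧ ∃ r : ℕ,
      Red.IsSplitTorusWith (Fin r → ℤ) (Red.bc U.ι T))
    (s₀ : S) (r : ℕ) (h₀ : RankAt T s₀ r) (s : S) : RankAt T s r := by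
  have hcl : IsClopen {s : S | RankAt T s r} := by
    constructor
    · rw [← isOpen_compl_iff, isOpen_iff_forall_mem_open]
      intro s hs
      obtain ⟨U, hsU, r', hU⟩ := hT s
      refine ⟨U, ?_, U.2, hsU⟩
      intro s' hs'U hs'
      obtain ⟨U', hs'U', hU'⟩ := hs'
      have : r' = r := rank_unique T s' hs'U hs'U' r' r hU hU'
      subst this
      exact hs ⟨U, hsU, hU⟩
    · rw [isOpen_iff_forall_mem_open]
      intro s hs
      obtain ⟨U, hsU, hU⟩ := hs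
      exact ⟨U, fun s' hs' => ⟨U, hs', hU⟩, U.2, hsU⟩
  have huniv := hcl.eq_univ ⟨s₀, h₀⟩
  have : s ∈ {s : S | RankAt T s r} := by rw [huniv]; trivial
  exact this

end Rank

section Bound

variable {G : Over S} [GrpObj G]

/-- the rank at `s₀` of a locally split subtorus of a group of multiplicative type and of finite
type is bounded. -/
theorem exists_rank_bound_loc (hG : SGA3x.IsMultTypeFT G) (s₀ : S) :
    ∃ n₀ : ℕ, ∀ (r : ℕ) (T : Over S) [GrpObj T] (j : T ⟶ G) [IsMonHom j],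
      Mono j.left → RankAt T s₀ r → r ≤ n₀ := by
  have hG' := hG
  obtain ⟨S', f, hfl, hsu, hqc, hloc⟩ := hG
  obtain ⟨s', hs'⟩ := hsu.surj s₀
  obtain ⟨V, hV, M, _, hM, ⟨e⟩⟩ := hloc s'
  obtain ⟨F, hF⟩ := AddGroup.fg_def.mp hM
  refine ⟨F.card, ?_⟩
  intro r T _ j _ hj ⟨U, hsU, hT⟩
  obtain ⟨V', hV'⟩ : ∃ V' : (V : Scheme.{u}).Opens, V' = (V.ι ≫ f) ⁻¹ᵁ U := ⟨_, rfl⟩
  have hs'V' : (⟨s', hV⟩ : (V : Scheme.{u})) ∈ V' := by
    rw [hV']
    show (V.ι ≫ f) ⟨s', hV⟩ ∈ U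
    rw [Scheme.Hom.comp_apply]
    show f s' ∈ U
    rw [hs']
    exact hsU
  have hrange : Set.range (V'.ι ≫ V.ι ≫ f) ⊆ Set.range U.ι := by
    rintro _ ⟨x, rfl⟩
    have hx : (V.ι ≫ f) (V'.ι x) ∈ U := by
      have h := x.2
      have h2 : x.1 ∈ (V.ι ≫ f) ⁻¹ᵁ U := hV' ▸ h
      exact h2
    rw [Scheme.Opens.range_ι]
    rw [Scheme.Hom.comp_apply]
    exact hx
  obtain ⟨q, hq⟩ : ∃ q : (V' : Scheme.{u}) ⟶ (U : Scheme.{u}), q ≫ U.ι = V'.ι ≫ V.ι ≫ f :=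
    ⟨IsOpenImmersion.lift U.ι (V'.ι ≫ V.ι ≫ f) hrange, IsOpenImmersion.lift_fac _ _ _⟩
  obtain ⟨eT⟩ := hT
  have h1 := nonempty_iso_bc U.ι q T _ eT
  obtain ⟨eT'⟩ := split_of_eq _ _ hq _ h1
  obtain ⟨eG'⟩ := nonempty_iso_bc (V.ι ≫ f) V'.ι G M e
  obtain ⟨φ, W, htW, hW⟩ := Groth.Agent.Lib.Helper15HomLoc.exists_opens_isD (V'.ι ≫ V.ι ≫ f) j
    (Fin r → ℤ) M eT' eG' hM ⟨⟨s', hV⟩, hs'V'⟩
  have hm : Mono ((Over.pullback (W.ι ≫ V'.ι ≫ V.ι ≫ f)).map j).left :=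
    Groth.Agent.Lib.Helper15LocusClopen.bc (MorphismProperty.monomorphisms Scheme.{u}) _ _ hj
  exact le_card_of_surjective F hF r φ
    (surjective_of_isD_mono (T := (W : Scheme.{u})) ⟨⟨⟨s', hV⟩, hs'V'⟩, htW⟩ hW hm)

end Bound

section Main

variable {G : Over S} [GrpObj G]

/-- a monomorphism of locally split tori, from one of rank at least that of the target, is an
isomorphism. -/
lemma isIso_of_mono_locSplit {T T' : Over S} [GrpObj T] [GrpObj T'] (g : T ⟶ T') [IsMonHom g]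
    [Mono g] (r r' : ℕ) (hT : ∀ s, RankAt T s r) (hT' : ∀ s, RankAt T' s r') (hle : r' ≤ r) :
    IsIso g := by
  have hloc : ∀ s : S, ∃ U : S.Opens, s ∈ U ∧ IsIso ((Over.pullback U.ι).map g).left := by
    intro s
    obtain ⟨U₁, hs₁, h₁⟩ := hT s
    obtain ⟨U₂, hs₂, h₂⟩ := hT' s
    obtain ⟨eT⟩ := split_of_le (U' := U₁ ⊓ U₂) inf_le_left _ h₁
    obtain ⟨eT'⟩ := split_of_le (U' := U₁ ⊓ U₂) inf_le_right _ h₂
    refine ⟨U₁ ⊓ U₂, ⟨hs₁, hs₂⟩, ?_⟩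
    have hm : Mono ((Over.pullback (U₁ ⊓ U₂).ι).map g).left := by
      have : Mono ((Over.pullback (U₁ ⊓ U₂).ι).map g) := inferInstance
      exact (Over.forget _).map_mono ((Over.pullback (U₁ ⊓ U₂).ι).map g)
    have := isIso_of_mono_of_rank_le ((Over.pullback (U₁ ⊓ U₂).ι).map g) hm r r' eT eT'
      (fun _ => hle)
    exact (Over.forget _).map_isIso ((Over.pullback (U₁ ⊓ U₂).ι).map g)
  choose U hU hiso using hloc
  have hcov : Presieve.ofArrows (fun s => ((U s : S.Opens) : Scheme.{u})) (fun s => (U s).ι) ∈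
      Scheme.fpqcPrecoverage S :=
    mem_fpqc_of_openCover _ (fun s => ⟨⟨s, hU s⟩, rfl⟩)
  have h1 : IsIso g.left := Groth.Agent.Lib.Helper15FixClopenGlob.of_bc_family
    (P := MorphismProperty.isomorphisms Scheme.{u}) inferInstance g (fun s => (U s).ι) hcov hiso
  have h2 : IsIso ((Over.forget S).map g) := h1
  exact isIso_of_reflects_iso g (Over.forget S)

/-- **a group of multiplicative type and of finite type over a connected base has a greatest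
locally split subtorus.** -/
theorem exists_greatest [ConnectedSpace S] (hG : SGA3x.IsMultTypeFT G) :
    ∃ (T : Over S) (_ : GrpObj T) (j : T ⟶ G), IsMonHom j ∧ Mono j ∧
      (∀ s : ↥S, ∃ U : S.Opens, s ∈ U ∧ ∃ r : ℕ,
        Red.IsSplitTorusWith (Fin r → ℤ) (Red.bc U.ι T)) ∧
      ∀ (T' : Over S) [GrpObj T'] (j' : T' ⟶ G) [IsMonHom j'] [Mono j'],
        (∀ s : ↥S, ∃ U : S.Opens, s ∈ U ∧ ∃ r : ℕ,
          Red.IsSplitTorusWith (Fin r → ℤ) (Red.bc U.ι T')) → ∃ g : T' ⟶ T, g ≫ j = j' := by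
  obtain ⟨s₀⟩ : Nonempty S := inferInstance
  obtain ⟨R, hR⟩ : ∃ R : Set ℕ, R = {r | ∃ (T : Over S) (_ : GrpObj T) (j : T ⟶ G),
      IsMonHom j ∧ Mono j ∧ (∀ s : ↥S, ∃ U : S.Opens, s ∈ U ∧ ∃ r : ℕ,
        Red.IsSplitTorusWith (Fin r → ℤ) (Red.bc U.ι T)) ∧ RankAt T s₀ r} := ⟨_, rfl⟩
  have hsplit0 : ∀ U : S.Opens, Red.IsSplitTorusWith (Fin 0 → ℤ)
      (Red.bc U.ι (Red.DS S (Fin 0 → ℤ))) := by
    intro U
    obtain ⟨e'⟩ := nonempty_DS_bc U.ι (Fin 0 → ℤ)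
    exact ⟨e'⟩
  have h0 : (0 : ℕ) ∈ R := by
    rw [hR]
    exact ⟨Red.DS S (Fin 0 → ℤ), inferInstance, toUnit _ ≫ η[G], inferInstance,
      mono_of_subsingleton _ _, fun s => ⟨⊤, trivial, 0, hsplit0 ⊤⟩, ⊤, trivial, hsplit0 ⊤⟩
  obtain ⟨n₀, hn₀⟩ := exists_rank_bound_loc hG s₀
  have hbdd : BddAbove R := by
    refine ⟨n₀, ?_⟩
    intro r hr
    rw [hR] at hr
    obtain ⟨T, iT, j, hj1, hj2, hT, hrk⟩ := hr
    exact hn₀ r T j inferInstance hrk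
  have hmem := Nat.sSup_mem ⟨0, h0⟩ hbdd
  obtain ⟨r, hr⟩ : ∃ r, r = sSup R := ⟨_, rfl⟩
  rw [← hr] at hmem
  have hmax : ∀ r' ∈ R, r' ≤ r := fun r' hr' => hr ▸ le_csSup hbdd hr'
  rw [hR] at hmem
  obtain ⟨T, iT, j, hj1, hj2, hT, hrk⟩ := hmem
  refine ⟨T, iT, j, hj1, hj2, hT, ?_⟩
  intro T' _ j' _ _ hT'
  obtain ⟨E₃, inst, j₃, g₁, g₂, h1, h2, -, h3, h4, h5⟩ := exists_join hG j j' hT hT'
  obtain ⟨U₃, hs₃, r₃, hr₃⟩ := h3 s₀
  have hr₃R : r₃ ∈ R := by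
    rw [hR]
    exact ⟨E₃, inst, j₃, h1, h2, h3, U₃, hs₃, hr₃⟩
  have hg₁m : IsMonHom g₁ := isMonHom_of_fac j j₃ g₁ h4
  have hg₁mono : Mono g₁ := by
    have : Mono (g₁ ≫ j₃) := by rw [h4]; exact hj2
    exact mono_of_mono g₁ j₃
  have hiso : IsIso g₁ := isIso_of_mono_locSplit g₁ r r₃
    (fun s => rankAt_const T hT s₀ r hrk s)
    (fun s => rankAt_const E₃ h3 s₀ r₃ ⟨U₃, hs₃, hr₃⟩ s) (hmax r₃ hr₃R)
  refine ⟨g₂ ≫ inv g₁, ?_⟩
  have h6 : inv g₁ ≫ j = j₃ := by rw [IsIso.inv_comp_eq, h4]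
  rw [Category.assoc, h6, h5]

end Main

end Groth.Agent.Lib.Helper15GreatestLoc
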