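import Mathlib
import Groth.Agent.Lib.Helper3EtGUSchB

/-!
# Étale near a point over an integral geometrically unibranch base: scheme level (helper3)
-/

set_option autoImplicit false
set_option linter.style.haveILetI false
universe u
open CategoryTheory AlgebraicGeometry

namespace Groth.Agent.Lib.Helper3.EtGUSch


theorem mem_basicOpen_iff_notMem_primeIdealOf {X : Scheme.{u}} {U : X.Opens} (hU : IsAffineOpen U)
    {x : X} (hx : x ∈ U) (g : Γ(X, U)) :
    x ∈ X.basicOpen g ↔ g ∉ (hU.primeIdealOf ⟨x, hx⟩).asIdeal := by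
  letI := TopCat.Presheaf.algebra_section_stalk X.presheaf ⟨x, hx⟩
  haveI := hU.isLocalization_stalk ⟨x, hx⟩
  rw [Scheme.mem_basicOpen _ _ _ hx]
  exact IsLocalization.AtPrime.isUnit_to_map_iff (X.presheaf.stalk x)
    (hU.primeIdealOf ⟨x, hx⟩).asIdeal g

/-- scheme-level version of `UnramEt.exists_etale_away` over an integral base -/
theorem exists_etale_nhd_of_integral {X Y : Scheme.{u}} (f : X ⟶ Y) [IsIntegral Y]
    [LocallyOfFiniteType f] (x : X)
    (hY : CAlg2.IsGeomUnibranch (Y.presheaf.stalk (f x)))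
    (hinj : Function.Injective (f.stalkMap x).hom)
    (hunr : ∃ U : X.Opens, x ∈ U ∧ FormallyUnramified (U.ι ≫ f)) :
    ∃ U : X.Opens, x ∈ U ∧ Etale (U.ι ≫ f) := by
  obtain ⟨U₀, hxU₀, hunr⟩ := hunr
  obtain ⟨V, hV, U, hU, e, hxU, hUU₀⟩ := exists_affine_nhds f x U₀ hxU₀
  let A := Γ(Y, V)
  let B := Γ(X, U)
  letI algAB : Algebra A B := (f.appLE V U e).hom.toAlgebra
  haveI : Nonempty V := ⟨⟨f x, e hxU⟩⟩
  haveI : IsDomain A := inferInstance
  haveI : Algebra.FiniteType A B :=
    HasRingHomProperty.appLE (P := @LocallyOfFiniteType) f inferInstance ⟨V, hV⟩ ⟨U, hU⟩ e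
  haveI : Algebra.FormallyUnramified A B :=
    appLE_of_ι_comp (P := @FormallyUnramified) f U₀ hunr hV hU hUU₀ e
  let q : Ideal B := (hU.primeIdealOf ⟨x, hxU⟩).asIdeal
  let p : Ideal A := (hV.primeIdealOf ⟨f x, e hxU⟩).asIdeal
  haveI : q.LiesOver p := ⟨(comap_primeIdealOf f hV hU e hxU).symm⟩
  haveI : Algebra.IsUnramifiedAt A q :=
    Algebra.FormallyUnramified.comp A B (Localization.AtPrime q)
  have hA : CAlg2.IsGeomUnibranch (Localization.AtPrime p) :=
    isGeomUnibranch_localization_primeIdealOf hV (f x) (e hxU) hY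
  obtain ⟨g, hgq, hg⟩ := UnramEt.exists_etale_away' q p hA
    (fun c hc => algebraMap_eq_zero_of_stalkMap_injective f hV hU e hxU hinj c hc)
  exact ⟨X.basicOpen g, (mem_basicOpen_iff_notMem_primeIdealOf hU hxU g).mpr hgq,
    etale_ι_comp_of_etale_away f hV hU e g hg⟩



theorem stalkMap_injective_of_specializes {X Y : Scheme.{u}} (f : X ⟶ Y) [IsIntegral Y]
    (x x' : X) (h : x' ⤳ x) (hη : f x' = genericPoint Y) :
    Function.Injective (f.stalkMap x).hom := by
  have hsp : f x' ⤳ f x := f.base.hom.map_specializes h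
  have hcomm := Scheme.Hom.stalkSpecializes_stalkMap f x' x h
  have hle : genericPoint Y ⤳ f x' := (Inseparable.of_eq hη.symm).specializes
  have hs1 : Function.Injective (Y.presheaf.stalkSpecializes hsp).hom := by
    have h1 : Y.presheaf.stalkSpecializes hsp ≫ Y.presheaf.stalkSpecializes hle =
        Y.presheaf.stalkSpecializes (hle.trans hsp) :=
      TopCat.Presheaf.stalkSpecializes_comp _ _ _
    have hinj : Function.Injective (Y.presheaf.stalkSpecializes (hle.trans hsp)).hom :=
      IsFractionRing.injective (Y.presheaf.stalk (f x)) Y.functionField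
    rw [← h1, CommRingCat.hom_comp] at hinj
    exact Function.Injective.of_comp hinj
  have hfield : IsField (Y.presheaf.stalk (f x')) :=
    MulEquiv.isField (Field.toIsField Y.functionField)
      (Y.presheaf.stalkCongr (.of_eq hη)).commRingCatIsoToRingEquiv.toMulEquiv
  have hs2 : Function.Injective (f.stalkMap x').hom := by
    letI := hfield.toField
    exact RingHom.injective _
  have h3 : Function.Injective ((f.stalkMap x) ≫ X.presheaf.stalkSpecializes h).hom := by
    rw [← hcomm, CommRingCat.hom_comp]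
    exact hs2.comp hs1
  rw [CommRingCat.hom_comp] at h3
  exact Function.Injective.of_comp h3

end Groth.Agent.Lib.Helper3.EtGUSch
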