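import Mathlib
import Groth.Prelude.Def_ega3
import Groth.Agent.Lib.Helper20BCDescSch

set_option autoImplicit false
universe u

open CategoryTheory CategoryTheory.Limits AlgebraicGeometry

namespace Groth.Agent.Lib.Helper20.FlatDesc

open Groth.Agent.Lib.Helper20.EtLocal

/-- IsPullback version of unramified descent along base change -/
theorem formallyUnramified_stalkMap_of_isPullback {P X Y Y' : Scheme.{u}} {fst' : P ⟶ X}
    {snd' : P ⟶ Y'} {f : X ⟶ Y} {g : Y' ⟶ Y} (sq : IsPullback fst' snd' f g)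
    [LocallyOfFiniteType f] (p : P) (H : (snd'.stalkMap p).hom.FormallyUnramified) :
    (f.stalkMap (fst' p)).hom.FormallyUnramified := by
  have h1 : sq.isoPullback.hom ≫ pullback.snd f g = snd' := sq.isoPullback_hom_snd
  have h2 : sq.isoPullback.hom ≫ pullback.fst f g = fst' := sq.isoPullback_hom_fst
  have hQ := RingHom.FormallyUnramified.respectsIso
  have H' : ((pullback.snd f g).stalkMap (sq.isoPullback.hom p)).hom.FormallyUnramified :=
    (stalkMap_comp_iff_left hQ sq.isoPullback.hom (pullback.snd f g) p).mp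
      ((stalkMap_congr_iff (Q := RingHom.FormallyUnramified) h1.symm p).mp H)
  have h3 := formallyUnramified_stalkMap_of_baseChange f g (sq.isoPullback.hom p) H'
  have h4 : pullback.fst f g (sq.isoPullback.hom p) = fst' p := by
    rw [← Scheme.Hom.comp_apply, h2]
  rw [h4] at h3
  exact h3

theorem isPullback_map_aux {X Y S K : Scheme.{u}} (f : X ⟶ Y) (g : Y ⟶ S) (k : K ⟶ S)
    (e₁ : (f ≫ g) ≫ 𝟙 S = f ≫ g) (e₂ : k ≫ 𝟙 S = 𝟙 K ≫ k) :
    IsPullback (pullback.fst (f ≫ g) k) (pullback.map (f ≫ g) k g k f (𝟙 _) (𝟙 _) e₁ e₂) f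
      (pullback.fst g k) := by
  apply IsPullback.flip
  refine IsPullback.of_right (h₁₂ := pullback.snd g k) (v₁₃ := k) (h₂₂ := g) ?_ ?_ ?_
  · have : pullback.map (f ≫ g) k g k f (𝟙 _) (𝟙 _) e₁ e₂ ≫ pullback.snd g k =
        pullback.snd (f ≫ g) k := by
      rw [pullback.map, pullback.lift_snd, Category.comp_id]
    rw [this]
    exact (IsPullback.of_hasPullback (f ≫ g) k).flip
  · rw [pullback.map, pullback.lift_fst]
  · exact (IsPullback.of_hasPullback g k).flip

/-- the fibre square -/
theorem isPullback_fiberMapOver {X Y S : Scheme.{u}} (f : X ⟶ Y) (g : Y ⟶ S) (s : S) :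
    IsPullback ((f ≫ g).fiberι s) (CohIII.fiberMapOver f (f ≫ g) g rfl s) f (g.fiberι s) :=
  isPullback_map_aux f g (S.fromSpecResidueField s) (by rw [Category.comp_id])
    (by rw [Category.comp_id, Category.id_comp])

end Groth.Agent.Lib.Helper20.FlatDesc
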