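import Mathlib

set_option autoImplicit false
set_option linter.unusedVariables false
set_option linter.unusedSectionVars false
set_option linter.style.haveILetI false

open TensorProduct IsLocalRing

universe u

namespace Groth.Agent.Lib.Helper3.FibEt

/-- (F) If an étale `B`-algebra `E` surjects onto `C_g` and an element `h` outside the preimage of
`q C_g` kills the kernel, then `C` is étale over `B` on a basic open neighbourhood of `q`. -/
theorem exists_etale_away_of_kills {B C : Type u} [CommRing B] [CommRing C] [Algebra B C]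
    (q : Ideal C) [hqp : q.IsPrime] (g : C) (hgq : g ∉ q)
    (E : Type u) [CommRing E] [Algebra B E] [Algebra.Etale B E]
    (φ : E →ₐ[B] Localization.Away g) (hφ : Function.Surjective φ) (h : E)
    (hhQ : φ h ∉ Ideal.map (algebraMap C (Localization.Away g)) q)
    (hkill : ∀ x, φ x = 0 → h * x = 0) :
    ∃ r : C, r ∉ q ∧ Algebra.Etale B (Localization.Away r) := by
  classical
  have hdisjg : Disjoint (Submonoid.powers g : Set C) (q : Set C) :=
    (Ideal.disjoint_powers_iff_notMem_of_isPrime _).mpr hgq
  let qg : Ideal (Localization.Away g) := Ideal.map (algebraMap C (Localization.Away g)) q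
  haveI hqg : qg.IsPrime :=
    IsLocalization.isPrime_of_isPrime_disjoint (.powers g) _ q inferInstance hdisjg
  let ψ : Localization.Away h →ₐ[B] Localization.Away (φ h) :=
    IsLocalization.Away.mapₐ (Localization.Away h) (Localization.Away (φ h)) φ h
  have hψsurj : Function.Surjective ψ :=
    IsLocalization.Away.mapₐ_surjective_of_surjective (Aₚ := Localization.Away h)
      (Bₚ := Localization.Away (φ h)) h hφ
  have hψalg : ∀ x : E, ψ (algebraMap E (Localization.Away h) x) =
      algebraMap (Localization.Away g) (Localization.Away (φ h)) (φ x) := by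
    intro x
    show IsLocalization.Away.map (Localization.Away h) (Localization.Away (φ h)) φ.toRingHom h
      (algebraMap E (Localization.Away h) x) = _
    rw [IsLocalization.Away.map, IsLocalization.map_eq]
    rfl
  have hψinj : Function.Injective ψ := by
    rw [injective_iff_map_eq_zero]
    intro z hz
    obtain ⟨⟨x, s⟩, hxs⟩ := IsLocalization.surj (Submonoid.powers h) z
    have h1 : algebraMap (Localization.Away g) (Localization.Away (φ h)) (φ x) = 0 := by
      rw [← hψalg, ← hxs, map_mul, hz, zero_mul]
    obtain ⟨⟨_, m, rfl⟩, hm⟩ :=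
      (IsLocalization.map_eq_zero_iff (Submonoid.powers (φ h)) _ _).mp h1
    have h2 : φ (h ^ m * x) = 0 := by
      rw [map_mul, map_pow]
      exact hm
    have h3 : h * (h ^ m * x) = 0 := hkill _ h2
    have h4 : algebraMap E (Localization.Away h) x = 0 := by
      rw [IsLocalization.map_eq_zero_iff (Submonoid.powers h)]
      refine ⟨⟨h ^ (m + 1), m + 1, rfl⟩, ?_⟩
      show h ^ (m + 1) * x = 0
      rw [pow_succ', mul_assoc]
      exact h3
    rw [h4] at hxs
    exact ((IsLocalization.map_units (Localization.Away h) s).mul_left_eq_zero).mp hxs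
  let e : Localization.Away h ≃ₐ[B] Localization.Away (φ h) :=
    AlgEquiv.ofBijective ψ ⟨hψinj, hψsurj⟩
  haveI : Algebra.Etale B (Localization.Away h) := Algebra.Etale.comp B E (Localization.Away h)
  haveI : Algebra.Etale B (Localization.Away (φ h)) := Algebra.Etale.of_equiv e
  -- write `φ h = b / g^k`
  obtain ⟨⟨b, s⟩, hbs⟩ := IsLocalization.surj (Submonoid.powers g) (φ h)
  have hbq : b ∉ q := by
    intro hb
    have : algebraMap C (Localization.Away g) b ∈ qg := Ideal.mem_map_of_mem _ hb
    rw [← hbs] at this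
    rcases hqg.mem_or_mem this with h' | h'
    · exact hhQ h'
    · exact hqg.ne_top (Ideal.eq_top_of_isUnit_mem _ h' (IsLocalization.map_units _ s))
  have hassoc : Associated (algebraMap C (Localization.Away g) b) (φ h) :=
    Associated.symm ⟨(IsLocalization.map_units (Localization.Away g) s).unit, hbs⟩
  haveI : IsLocalization.Away (g * b) (Localization.Away (φ h)) :=
    IsLocalization.Away.mul_of_associated g b (φ h) hassoc
  refine ⟨g * b, hqp.mul_notMem hgq hbq, ?_⟩
  let e2 : Localization.Away (g * b) ≃ₐ[C] Localization.Away (φ h) :=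
    IsLocalization.algEquiv (Submonoid.powers (g * b)) _ _
  exact Algebra.Etale.of_equiv (e2.restrictScalars B).symm



/-- (b2) an element of `E` dying in the fibre `E ⊗ κ(p)` lies in `pE` up to an element outside `p`. -/
theorem exists_smul_mem_map_of_tmul_one_eq_zero {A E : Type*} [CommRing A] [CommRing E]
    [Algebra A E] (p : Ideal A) [p.IsPrime] (y : E)
    (hy : y ⊗ₜ[A] (1 : p.ResidueField) = 0) :
    ∃ b : A, b ∉ p ∧ algebraMap A E b * y ∈ p.map (algebraMap A E) := by
  letI : Algebra E (p.Fiber E) := Algebra.TensorProduct.rightAlgebra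
  let Sp := Localization (Algebra.algebraMapSubmonoid E p.primeCompl)
  let pS := p.map (algebraMap A E)
  let e : p.Fiber E ≃ₐ[E] Sp ⧸ pS.map (algebraMap E Sp) := Ideal.Fiber.algEquivAux₁ p
  have h1 : (1 : p.ResidueField) ⊗ₜ[A] y = 0 := by
    have := congrArg (Algebra.TensorProduct.comm A E p.ResidueField) hy
    simpa using this
  have h2 : algebraMap E (p.Fiber E) y = 0 := h1
  have h3 : algebraMap E (Sp ⧸ pS.map (algebraMap E Sp)) y = 0 := by
    rw [← e.commutes, h2, map_zero]
  have h4 : algebraMap E Sp y ∈ pS.map (algebraMap E Sp) := by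
    rw [← Ideal.Quotient.eq_zero_iff_mem]
    exact h3
  rw [IsLocalization.mem_map_algebraMap_iff (Algebra.algebraMapSubmonoid E p.primeCompl)] at h4
  obtain ⟨⟨c, m⟩, hcm⟩ := h4
  rw [← map_mul] at hcm
  obtain ⟨m', hm'⟩ := (IsLocalization.eq_iff_exists (Algebra.algebraMapSubmonoid E p.primeCompl) Sp).mp hcm
  obtain ⟨b, hb, hbm⟩ := m.2
  obtain ⟨b', hb', hbm'⟩ := m'.2
  refine ⟨b' * b, p.primeCompl.mul_mem hb' hb, ?_⟩
  have : algebraMap A E (b' * b) * y = (m' : E) * (c : E) := by
    rw [map_mul, hbm, hbm', ← hm']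
    ring
  rw [this]
  exact Ideal.mul_mem_left _ _ c.2



/-- (L) a finitely generated ideal `J` of a local ring `R` with `R/J` flat over `A` and
`J ⊆ pR ⊆ m_R` is zero. -/
theorem eq_bot_of_flat_of_le_map {A R T : Type*} [CommRing A] [CommRing R] [IsLocalRing R]
    [Algebra A R] [CommRing T] [Algebra A T] [Algebra R T] [IsScalarTower A R T]
    (p : Ideal A) (hp : p.map (algebraMap A R) ≤ maximalIdeal R)
    (hsurj : Function.Surjective (algebraMap R T)) [Module.Flat A T]
    (J : Ideal R) (hJ : J = RingHom.ker (algebraMap R T)) (hfg : J.FG)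
    (hle : J ≤ p.map (algebraMap A R)) : J = ⊥ := by
  let f : R →ₗ[A] T := (IsScalarTower.toAlgHom A R T).toLinearMap
  have hf : Function.Surjective f := hsurj
  let J' : Submodule A R := J.restrictScalars A
  let g : J' →ₗ[A] R := J'.subtype
  have hg : Function.Injective g := J'.injective_subtype
  have H : Function.Exact g f := by
    intro r
    constructor
    · intro hr
      have : r ∈ J := by rw [hJ]; exact hr
      exact ⟨⟨r, this⟩, rfl⟩
    · rintro ⟨⟨r', hr'⟩, rfl⟩
      have : r' ∈ RingHom.ker (algebraMap R T) := hJ ▸ hr'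
      exact this
  have inj := LinearMap.lTensor_injective_of_exact_of_flat f hf g hg H (A ⧸ p)
  -- the ideal `pR` dies in `(A/p) ⊗ R`
  have hker : p.map (algebraMap A R) ≤
      RingHom.ker (Algebra.TensorProduct.includeRight : R →ₐ[A] (A ⧸ p) ⊗[A] R).toRingHom := by
    rw [Ideal.map_le_iff_le_comap]
    intro a ha
    rw [Ideal.mem_comap, RingHom.mem_ker]
    show (1 : A ⧸ p) ⊗ₜ[A] (algebraMap A R a) = 0
    rw [Algebra.algebraMap_eq_smul_one, ← TensorProduct.smul_tmul, ← Algebra.algebraMap_eq_smul_one,
      Ideal.Quotient.algebraMap_eq, Ideal.Quotient.eq_zero_iff_mem.mpr ha, zero_tmul]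
  have key : ∀ x (hx : x ∈ J), (⟨x, hx⟩ : J') ∈ (p • (⊤ : Submodule A J')) := by
    intro x hx
    have h0 : (1 : A ⧸ p) ⊗ₜ[A] (⟨x, hx⟩ : J') = 0 := by
      apply inj
      rw [map_zero, LinearMap.lTensor_tmul]
      exact hker (hle hx)
    have h1 := congrArg (TensorProduct.quotTensorEquivQuotSMul J' p) h0
    rw [map_zero] at h1
    have h2 : (TensorProduct.quotTensorEquivQuotSMul J' p) ((1 : A ⧸ p) ⊗ₜ[A] (⟨x, hx⟩ : J')) =
        Submodule.Quotient.mk ⟨x, hx⟩ := by
      exact TensorProduct.quotTensorEquivQuotSMul_mk_one_tmul p _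
    rw [h2, Submodule.Quotient.mk_eq_zero] at h1
    exact h1
  have hJle : J ≤ (p.map (algebraMap A R)) • J := by
    intro x hx
    have := key x hx
    suffices h : ∀ z : J', z ∈ (p • (⊤ : Submodule A J')) →
        (z : R) ∈ (p.map (algebraMap A R)) • J from h _ this
    intro z hz
    refine Submodule.smul_induction_on hz ?_ ?_
    · intro a ha m _
      show ((a • m : J') : R) ∈ _
      have : ((a • m : J') : R) = algebraMap A R a * (m : R) := by
        show a • (m : R) = _
        rw [Algebra.smul_def]
      rw [this]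
      exact Submodule.smul_mem_smul (Ideal.mem_map_of_mem _ ha) m.2
    · intro z w hz hw
      exact Submodule.add_mem _ hz hw
  refine Submodule.eq_bot_of_le_smul_of_le_jacobson_bot (p.map (algebraMap A R)) J hfg hJle ?_
  rw [IsLocalRing.jacobson_eq_maximalIdeal ⊥ bot_ne_top]
  exact hp

end Groth.Agent.Lib.Helper3.FibEt
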