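import Mathlib
import Groth.Agent.Lib.Helper3FibEt
import Groth.Agent.Lib.Helper20BCDescSch

set_option autoImplicit false
set_option linter.unusedVariables false
set_option linter.unusedSectionVars false
set_option linter.style.haveILetI false

open TensorProduct IsLocalRing

universe u

namespace Groth.Agent.Lib.Helper3.FibEt

theorem isUnramifiedAt_congr {B C : Type*} [CommRing B] [CommRing C] [Algebra B C]
    {q q' : Ideal C} [q.IsPrime] [q'.IsPrime] (h : q = q') (H : Algebra.IsUnramifiedAt B q) :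
    Algebra.IsUnramifiedAt B q' := by
  subst h; exact H

/-- (U) unramifiedness at `q` from étaleness of the fibre over `p = q ∩ A` -/
theorem isUnramifiedAt_of_fibre {A B C : Type u} [CommRing A] [CommRing B] [CommRing C]
    [Algebra A B] [Algebra B C] [Algebra A C] [IsScalarTower A B C]
    [Algebra.FiniteType B C]
    (p : Ideal A) [p.IsPrime] (q : Ideal C) [hqp : q.IsPrime] [q.LiesOver p]
    (hfib : (Algebra.TensorProduct.map (IsScalarTower.toAlgHom A B C)
      (AlgHom.id A p.ResidueField)).toRingHom.Etale) :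
    Algebra.IsUnramifiedAt B q := by
  let K := p.ResidueField
  letI : Algebra (B ⊗[A] K) (C ⊗[A] K) :=
    (Algebra.TensorProduct.map (IsScalarTower.toAlgHom A B C) (AlgHom.id A K)).toRingHom.toAlgebra
  haveI : IsScalarTower B (B ⊗[A] K) (C ⊗[A] K) := by
    refine IsScalarTower.of_algebraMap_eq (fun b => ?_)
    show _ = (Algebra.TensorProduct.map (IsScalarTower.toAlgHom A B C) (AlgHom.id A K))
      (algebraMap B (B ⊗[A] K) b)
    simp [Algebra.TensorProduct.algebraMap_apply]
  haveI h1 : Algebra.IsPushout B C (B ⊗[A] K) (C ⊗[A] K) := by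
    refine Algebra.IsPushout.tensorProduct_tensorProduct A K B C ?_
    refine RingHom.ext (fun k => ?_)
    show (Algebra.TensorProduct.map (IsScalarTower.toAlgHom A B C) (AlgHom.id A K))
      ((1 : B) ⊗ₜ[A] k) = (1 : C) ⊗ₜ[A] k
    simp
  haveI h2 : Algebra.IsPushout B (B ⊗[A] K) C (C ⊗[A] K) := h1.symm
  haveI hEt : Algebra.Etale (B ⊗[A] K) (C ⊗[A] K) := RingHom.etale_algebraMap.mp hfib
  -- a prime of the fibre over `q`
  let χ : C ⊗[A] K →ₐ[A] q.ResidueField :=
    Algebra.TensorProduct.lift (IsScalarTower.toAlgHom A C q.ResidueField)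
      (Ideal.ResidueField.mapₐ p q (Algebra.ofId A C) (q.over_def p))
      (fun _ _ => Commute.all _ _)
  let Q : Ideal (C ⊗[A] K) := RingHom.ker χ.toRingHom
  haveI : Q.IsPrime := RingHom.ker_isPrime _
  have hQ : Q.comap (algebraMap C (C ⊗[A] K)) = q := by
    ext c
    rw [Ideal.mem_comap, RingHom.mem_ker]
    show χ ((algebraMap C (C ⊗[A] K)) c) = 0 ↔ _
    rw [Algebra.TensorProduct.algebraMap_apply]
    simp [χ, Ideal.algebraMap_residueField_eq_zero]
  haveI : Algebra.IsUnramifiedAt (B ⊗[A] K) Q := by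
    show Algebra.FormallyUnramified (B ⊗[A] K) (Localization.AtPrime Q)
    haveI : Algebra.FormallyUnramified (C ⊗[A] K) (Localization.AtPrime Q) :=
      Algebra.FormallyUnramified.of_isLocalization Q.primeCompl
    exact Algebra.FormallyUnramified.comp (B ⊗[A] K) (C ⊗[A] K) (Localization.AtPrime Q)
  have := Groth.Agent.Lib.Helper20.FlatDesc.isUnramifiedAt_of_baseChange_of_finiteType
    B C (B ⊗[A] K) (C ⊗[A] K) Q inferInstance
  exact isUnramifiedAt_congr hQ this



/-- base change `B ⊗ K → E ⊗ K` of an étale ring map is étale -/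
theorem etale_map_id {A B E : Type u} [CommRing A] [CommRing B] [CommRing E]
    [Algebra A B] [Algebra B E] [Algebra A E] [IsScalarTower A B E]
    (K : Type u) [CommRing K] [Algebra A K] (h : (algebraMap B E).Etale) :
    (Algebra.TensorProduct.map (IsScalarTower.toAlgHom A B E) (AlgHom.id A K)).toRingHom.Etale := by
  letI : Algebra (B ⊗[A] K) (E ⊗[A] K) :=
    (Algebra.TensorProduct.map (IsScalarTower.toAlgHom A B E) (AlgHom.id A K)).toRingHom.toAlgebra
  haveI : IsScalarTower B (B ⊗[A] K) (E ⊗[A] K) := by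
    refine IsScalarTower.of_algebraMap_eq (fun b => ?_)
    show _ = (Algebra.TensorProduct.map (IsScalarTower.toAlgHom A B E) (AlgHom.id A K))
      (algebraMap B (B ⊗[A] K) b)
    simp [Algebra.TensorProduct.algebraMap_apply]
  haveI : Algebra.IsPushout B E (B ⊗[A] K) (E ⊗[A] K) := by
    refine Algebra.IsPushout.tensorProduct_tensorProduct A K B E ?_
    refine RingHom.ext (fun k => ?_)
    show (Algebra.TensorProduct.map (IsScalarTower.toAlgHom A B E) (AlgHom.id A K))
      ((1 : B) ⊗ₜ[A] k) = (1 : E) ⊗ₜ[A] k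
    simp
  exact RingHom.Etale.isStableUnderBaseChange B E (B ⊗[A] K) (E ⊗[A] K) h

set_option maxHeartbeats 1600000 in
/-- (K) the kernel of a standard étale surjection dies in the fibre, up to an element outside the
prime. -/
theorem exists_kill_mod_of_fibre {A B C E : Type u} [CommRing A] [CommRing B] [CommRing C]
    [CommRing E] [Algebra A B] [Algebra B C] [Algebra A C] [IsScalarTower A B C]
    [Algebra B E] [Algebra A E] [IsScalarTower A B E] [Algebra.Etale B E]
    (p : Ideal A) [p.IsPrime] (q : Ideal C) [hqp : q.IsPrime] [q.LiesOver p] (g : C) (hgq : g ∉ q)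
    (φ : E →ₐ[B] Localization.Away g) (hφ : Function.Surjective φ)
    (hfib : (Algebra.TensorProduct.map (IsScalarTower.toAlgHom A B C)
      (AlgHom.id A p.ResidueField)).toRingHom.Etale) :
    ∃ e' : E, φ e' ∉ Ideal.map (algebraMap C (Localization.Away g)) q ∧
      ∀ x, φ x = 0 → ∃ b : A, b ∉ p ∧
        algebraMap A E b * (e' * x) ∈ p.map (algebraMap A E) := by
  classical
  let K := p.ResidueField
  let T := Localization.Away g
  haveI : IsScalarTower A B T := IsScalarTower.of_algebraMap_eq (fun a => by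
    rw [IsScalarTower.algebraMap_apply A C T, IsScalarTower.algebraMap_apply A B C,
      ← IsScalarTower.algebraMap_apply B C T])
  let φA : E →ₐ[A] T := φ.restrictScalars A
  let ρ₁ : B ⊗[A] K →ₐ[A] C ⊗[A] K :=
    Algebra.TensorProduct.map (IsScalarTower.toAlgHom A B C) (AlgHom.id A K)
  let ρ₂ : C ⊗[A] K →ₐ[A] T ⊗[A] K :=
    Algebra.TensorProduct.map (IsScalarTower.toAlgHom A C T) (AlgHom.id A K)
  let ρ₃ : B ⊗[A] K →ₐ[A] E ⊗[A] K :=
    Algebra.TensorProduct.map (IsScalarTower.toAlgHom A B E) (AlgHom.id A K)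
  let φK : E ⊗[A] K →ₐ[A] T ⊗[A] K := Algebra.TensorProduct.map φA (AlgHom.id A K)
  have hcomm : φK.comp ρ₃ = ρ₂.comp ρ₁ := by
    apply Algebra.TensorProduct.ext'
    intro b k
    simp [φK, ρ₃, ρ₂, ρ₁, φA, ← IsScalarTower.algebraMap_apply]
    rfl
  have h₁ : ρ₁.toRingHom.Etale := hfib
  have h₂ : ρ₂.toRingHom.Etale :=
    etale_map_id (A := A) (B := C) (E := T) K (RingHom.etale_algebraMap.mpr inferInstance)
  have h₃ : ρ₃.toRingHom.Etale :=
    etale_map_id (A := A) (B := B) (E := E) K (RingHom.etale_algebraMap.mpr inferInstance)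
  have h₂₁ : (ρ₂.comp ρ₁).toRingHom.Etale := RingHom.Etale.stableUnderComposition _ _ h₁ h₂
  have hφK : Function.Surjective φK :=
    Algebra.TensorProduct.map_surjective _ _ hφ Function.surjective_id
  letI : Algebra (B ⊗[A] K) (E ⊗[A] K) := ρ₃.toRingHom.toAlgebra
  letI : Algebra (B ⊗[A] K) (T ⊗[A] K) := (ρ₂.comp ρ₁).toRingHom.toAlgebra
  letI : Algebra (E ⊗[A] K) (T ⊗[A] K) := φK.toRingHom.toAlgebra
  haveI : IsScalarTower (B ⊗[A] K) (E ⊗[A] K) (T ⊗[A] K) :=
    IsScalarTower.of_algebraMap_eq (fun z => (congrArg (fun F => F z) hcomm).symm)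
  haveI : Algebra.Etale (B ⊗[A] K) (E ⊗[A] K) := RingHom.etale_algebraMap.mp h₃
  haveI : Algebra.Etale (B ⊗[A] K) (T ⊗[A] K) := RingHom.etale_algebraMap.mp h₂₁
  haveI : Algebra.Etale (E ⊗[A] K) (T ⊗[A] K) := Algebra.Etale.of_restrictScalars (B ⊗[A] K) _ _
  have hsurj : Function.Surjective (algebraMap (E ⊗[A] K) (T ⊗[A] K)) := hφK
  obtain ⟨e, he, hfe⟩ :=
    (Ideal.isIdempotentElem_iff_of_fg _
      (Algebra.FinitePresentation.ker_fG_of_surjective
        (IsScalarTower.toAlgHom (B ⊗[A] K) (E ⊗[A] K) (T ⊗[A] K)) hsurj)).mp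
      ((Algebra.FormallyEtale.iff_of_surjective hsurj).mp inferInstance)
  have heK : φK e = 0 := by
    have : e ∈ RingHom.ker (IsScalarTower.toAlgHom (B ⊗[A] K) (E ⊗[A] K) (T ⊗[A] K)).toRingHom := by
      rw [hfe]; exact Ideal.mem_span_singleton_self e
    exact this
  have hkillK : ∀ x : E, φ x = 0 → (1 - e) * (x ⊗ₜ[A] (1 : K)) = 0 := by
    intro x hx
    have hmem : x ⊗ₜ[A] (1 : K) ∈
        RingHom.ker (IsScalarTower.toAlgHom (B ⊗[A] K) (E ⊗[A] K) (T ⊗[A] K)).toRingHom := by
      show φK (x ⊗ₜ[A] (1 : K)) = 0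
      simp [φK, φA, hx]
    rw [hfe, Ideal.mem_span_singleton'] at hmem
    obtain ⟨y, hy⟩ := hmem
    rw [← hy]
    have : e * e = e := he
    linear_combination (-y) * this
  obtain ⟨r, hr, e', he'⟩ := Ideal.ResidueField.exists_smul_eq_tmul_one p (1 - e)
  refine ⟨e', ?_, ?_⟩
  · intro hmem
    -- `φ e' ⊗ 1 = r ⊗ 1`
    have h1 : φK (e' ⊗ₜ[A] (1 : K)) = r • (1 : T ⊗[A] K) := by
      rw [← he', map_smul, map_sub, heK, sub_zero, map_one]
    have h2 : (φ e' - algebraMap A T r) ⊗ₜ[A] (1 : K) = 0 := by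
      rw [TensorProduct.sub_tmul]
      have : φK (e' ⊗ₜ[A] (1 : K)) = φ e' ⊗ₜ[A] (1 : K) := by simp [φK, φA]
      have h' : (algebraMap A T r) ⊗ₜ[A] (1 : K) = r • (1 : T ⊗[A] K) := by
        rw [Algebra.algebraMap_eq_smul_one, ← TensorProduct.smul_tmul', Algebra.TensorProduct.one_def]
      rw [← this, h1, h', sub_self]
    obtain ⟨b, hb, hbm⟩ := exists_smul_mem_map_of_tmul_one_eq_zero p _ h2
    have hdisjg : Disjoint (Submonoid.powers g : Set C) (q : Set C) :=
      (Ideal.disjoint_powers_iff_notMem_of_isPrime _).mpr hgq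
    have hqg_comap : (Ideal.map (algebraMap C T) q).comap (algebraMap C T) = q :=
      IsLocalization.under_map_of_isPrime_disjoint (.powers g) _ inferInstance hdisjg
    have hpq : p.map (algebraMap A T) ≤ Ideal.map (algebraMap C T) q := by
      rw [Ideal.map_le_iff_le_comap]
      intro a ha
      rw [Ideal.mem_comap, IsScalarTower.algebraMap_apply A C T]
      refine Ideal.mem_map_of_mem _ ?_
      rw [q.over_def p] at ha
      exact ha
    have h3 := hpq hbm
    rw [mul_sub] at h3
    have h4 : algebraMap A T b * algebraMap A T r ∈ Ideal.map (algebraMap C T) q := by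
      have := Ideal.sub_mem _ (Ideal.mul_mem_left _ (algebraMap A T b) hmem) h3
      convert this using 1
      ring
    rw [← map_mul, IsScalarTower.algebraMap_apply A C T, ← Ideal.mem_comap, hqg_comap,
      ← Ideal.mem_comap] at h4
    have h5 : b * r ∈ p := by rw [q.over_def p]; exact h4
    rcases (inferInstance : p.IsPrime).mem_or_mem h5 with h' | h'
    · exact hb h'
    · exact hr h'
  · intro x hx
    have h1 : (e' * x) ⊗ₜ[A] (1 : K) = 0 := by
      have : (e' * x) ⊗ₜ[A] (1 : K) = (e' ⊗ₜ[A] (1 : K)) * (x ⊗ₜ[A] (1 : K)) := by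
        rw [Algebra.TensorProduct.tmul_mul_tmul, mul_one]
      rw [this, ← he', smul_mul_assoc, hkillK x hx, smul_zero]
    exact exists_smul_mem_map_of_tmul_one_eq_zero p _ h1

end Groth.Agent.Lib.Helper3.FibEt
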