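import Mathlib
import Groth.Agent.Lib.Helper3FibEtB

set_option autoImplicit false
set_option linter.unusedVariables false
set_option linter.unusedSectionVars false
set_option linter.style.haveILetI false

open TensorProduct IsLocalRing

universe u

namespace Groth.Agent.Lib.Helper3.FibEt

set_option maxHeartbeats 1600000 in
/-- **Étale fibre criterion (ring level).** `A → B → C` with `C` of finite presentation over `B`,
`q` a prime of `C` over `p ⊂ A`, `C_q` flat over `A`, and the fibre map
`B ⊗ κ(p) → C ⊗ κ(p)` étale. Then `C` is étale over `B` near `q`. -/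
theorem exists_etale_away_of_flat_of_fibre {A B C : Type u} [CommRing A] [CommRing B] [CommRing C]
    [Algebra A B] [Algebra B C] [Algebra A C] [IsScalarTower A B C]
    [Algebra.FinitePresentation B C]
    (p : Ideal A) [p.IsPrime] (q : Ideal C) [hqp : q.IsPrime] [q.LiesOver p]
    (hflat : Module.Flat A (Localization.AtPrime q))
    (hfib : (Algebra.TensorProduct.map (IsScalarTower.toAlgHom A B C)
      (AlgHom.id A p.ResidueField)).toRingHom.Etale) :
    ∃ r : C, r ∉ q ∧ Algebra.Etale B (Localization.Away r) := by
  classical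
  haveI : Algebra.IsUnramifiedAt B q := isUnramifiedAt_of_fibre p q hfib
  obtain ⟨g, hgq, P, φ, hφ⟩ :=
    Algebra.IsUnramifiedAt.exists_hasStandardEtaleSurjectionOn (R := B) q
  let E := P.Ring
  let T := Localization.Away g
  letI : Algebra A E := ((algebraMap B E).comp (algebraMap A B)).toAlgebra
  haveI : IsScalarTower A B E := IsScalarTower.of_algebraMap_eq' rfl
  haveI : IsScalarTower A B T := IsScalarTower.of_algebraMap_eq (fun a => by
    rw [IsScalarTower.algebraMap_apply A C T, IsScalarTower.algebraMap_apply A B C,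
      ← IsScalarTower.algebraMap_apply B C T])
  obtain ⟨e', he'Q, he'⟩ := exists_kill_mod_of_fibre p q g hgq φ hφ hfib
  have hdisjg : Disjoint (Submonoid.powers g : Set C) (q : Set C) :=
    (Ideal.disjoint_powers_iff_notMem_of_isPrime _).mpr hgq
  let qg : Ideal T := Ideal.map (algebraMap C T) q
  haveI hqg : qg.IsPrime :=
    IsLocalization.isPrime_of_isPrime_disjoint (.powers g) _ q inferInstance hdisjg
  have hqg_comap : qg.comap (algebraMap C T) = q :=
    IsLocalization.under_map_of_isPrime_disjoint (.powers g) _ inferInstance hdisjg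
  let Q' : Ideal E := qg.comap φ.toRingHom
  haveI hQ'prime : Q'.IsPrime := Ideal.comap_isPrime _ _
  have hQ'mem : ∀ y : E, y ∈ Q' ↔ φ y ∈ qg := fun y => Iff.rfl
  have hφA : ∀ a : A, φ (algebraMap A E a) = algebraMap A T a := by
    intro a
    rw [IsScalarTower.algebraMap_apply A B E, φ.commutes, ← IsScalarTower.algebraMap_apply A B T]
  have hQ'p : ∀ a : A, algebraMap A E a ∈ Q' ↔ a ∈ p := by
    intro a
    rw [hQ'mem, hφA, IsScalarTower.algebraMap_apply A C T, ← Ideal.mem_comap, hqg_comap,
      ← Ideal.mem_comap]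
    rw [q.over_def p]
  -- kernel is finitely generated
  haveI : Algebra.FinitePresentation C T := IsLocalization.Away.finitePresentation g
  haveI : Algebra.FinitePresentation B T := Algebra.FinitePresentation.trans B C T
  have hI : (RingHom.ker φ.toRingHom).FG := Algebra.FinitePresentation.ker_fG_of_surjective φ hφ
  -- the local rings
  let R := Localization.AtPrime Q'
  let Tq := Localization.AtPrime qg
  let ψ : R →+* Tq := Localization.localRingHom Q' qg φ.toRingHom rfl
  letI : Algebra R Tq := ψ.toAlgebra
  haveI : IsScalarTower A R Tq := by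
    refine IsScalarTower.of_algebraMap_eq (fun a => ?_)
    show _ = ψ (algebraMap A R a)
    rw [IsScalarTower.algebraMap_apply A E R, Localization.localRingHom_to_map]
    show _ = algebraMap T Tq (φ (algebraMap A E a))
    rw [hφA, ← IsScalarTower.algebraMap_apply A T Tq]
  -- flatness of `Tq`
  haveI h8 : IsLocalization.AtPrime Tq (qg.comap (algebraMap C T)) :=
    IsLocalization.isLocalization_isLocalization_atPrime_isLocalization (.powers g) _ qg
  have h9 : (qg.comap (algebraMap C T)).primeCompl = q.primeCompl := by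
    ext t
    show t ∉ qg.comap (algebraMap C T) ↔ t ∉ q
    rw [hqg_comap]
  haveI h10 : IsLocalization q.primeCompl Tq := h9 ▸ h8
  let e2 : Localization.AtPrime q ≃ₐ[C] Tq := IsLocalization.algEquiv q.primeCompl _ _
  haveI : IsScalarTower A C Tq := inferInstance
  haveI : IsScalarTower A C (Localization.AtPrime q) := inferInstance
  haveI : Module.Flat A Tq :=
    Module.Flat.of_linearEquiv (e2.restrictScalars A).symm.toLinearEquiv
  -- surjectivity and kernel of `ψ`
  have hψsurj : Function.Surjective (algebraMap R Tq) := by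
    intro z
    obtain ⟨y, s, rfl⟩ := IsLocalization.exists_mk'_eq qg.primeCompl z
    obtain ⟨y', rfl⟩ := hφ y
    obtain ⟨s', hs'⟩ := hφ s.1
    have hs'Q : s' ∈ Q'.primeCompl := by
      show s' ∉ Q'
      rw [hQ'mem, hs']
      exact s.2
    refine ⟨IsLocalization.mk' R y' ⟨s', hs'Q⟩, ?_⟩
    show ψ _ = _
    rw [Localization.localRingHom_mk']
    congr 1
    exact Subtype.ext hs'
  let J : Ideal R := Ideal.map (algebraMap E R) (RingHom.ker φ.toRingHom)
  have hJker : J = RingHom.ker (algebraMap R Tq) := by
    apply le_antisymm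
    · rw [Ideal.map_le_iff_le_comap]
      intro x hx
      rw [Ideal.mem_comap, RingHom.mem_ker]
      show ψ (algebraMap E R x) = 0
      rw [Localization.localRingHom_to_map]
      have : φ x = 0 := hx
      show algebraMap T Tq (φ x) = 0
      rw [this, map_zero]
    · intro z hz
      obtain ⟨x, s, rfl⟩ := IsLocalization.exists_mk'_eq Q'.primeCompl z
      have h1 : ψ (IsLocalization.mk' R x s) = 0 := hz
      rw [Localization.localRingHom_mk', IsLocalization.mk'_eq_zero_iff] at h1
      obtain ⟨t, ht⟩ := h1
      obtain ⟨t', ht'⟩ := hφ t.1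
      have ht'Q : t' ∉ Q' := by
        rw [hQ'mem, ht']
        exact t.2
      have h2 : t' * x ∈ RingHom.ker φ.toRingHom := by
        rw [RingHom.mem_ker]
        show φ (t' * x) = 0
        rw [map_mul, ht']
        exact ht
      have h3 : algebraMap E R (t' * x) ∈ J := Ideal.mem_map_of_mem _ h2
      have hu : IsUnit (algebraMap E R t') := IsLocalization.map_units R (⟨t', ht'Q⟩ : Q'.primeCompl)
      rw [map_mul, Ideal.unit_mul_mem_iff_mem _ hu] at h3
      rw [IsLocalization.mk'_eq_mul_mk'_one]
      exact Ideal.mul_mem_right _ _ h3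
  have hJfg : J.FG := hI.map _
  -- `J ⊆ pR`
  have hJle : J ≤ p.map (algebraMap A R) := by
    rw [Ideal.map_le_iff_le_comap]
    intro x hx
    rw [Ideal.mem_comap]
    obtain ⟨b, hb, hbm⟩ := he' x hx
    have hbQ : algebraMap A E b ∉ Q' := fun h => hb ((hQ'p b).mp h)
    have hbe' : algebraMap A E b * e' ∉ Q' := by
      intro h
      rcases hQ'prime.mem_or_mem h with h' | h'
      · exact hbQ h'
      · exact he'Q h'
    have hu : IsUnit (algebraMap E R (algebraMap A E b * e')) :=
      IsLocalization.map_units R (⟨_, hbe'⟩ : Q'.primeCompl)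
    have h1 : algebraMap E R (algebraMap A E b * (e' * x)) ∈ p.map (algebraMap A R) := by
      have := Ideal.mem_map_of_mem (algebraMap E R) hbm
      rw [Ideal.map_map, ← IsScalarTower.algebraMap_eq] at this
      exact this
    rw [← mul_assoc, map_mul, Ideal.unit_mul_mem_iff_mem _ hu] at h1
    exact h1
  have hpR : p.map (algebraMap A R) ≤ maximalIdeal R := by
    rw [Ideal.map_le_iff_le_comap]
    intro a ha
    rw [Ideal.mem_comap, IsScalarTower.algebraMap_apply A E R,
      ← Localization.AtPrime.map_eq_maximalIdeal]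
    exact Ideal.mem_map_of_mem _ ((hQ'p a).mpr ha)
  have hJbot : J = ⊥ := eq_bot_of_flat_of_le_map p hpR hψsurj J hJker hJfg hJle
  -- every element of the kernel is killed by an element outside `Q'`
  have hker : ∀ x, φ x = 0 → ∃ u, u ∉ Q' ∧ u * x = 0 := by
    intro x hx
    have h1 : algebraMap E R x ∈ J := Ideal.mem_map_of_mem _ hx
    rw [hJbot, Ideal.mem_bot, IsLocalization.map_eq_zero_iff Q'.primeCompl] at h1
    obtain ⟨m, hm⟩ := h1
    exact ⟨m.1, m.2, hm⟩
  obtain ⟨S, hS⟩ := hI
  choose! u hu hux using hker
  let h : E := ∏ x ∈ S, u x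
  have hSker : ∀ x ∈ S, φ x = 0 := by
    intro x hx
    have : x ∈ RingHom.ker φ.toRingHom := hS ▸ Ideal.subset_span hx
    exact this
  have hhQ : h ∉ Q' := by
    intro hmem
    obtain ⟨x, hxS, hxQ⟩ := (Ideal.IsPrime.prod_mem_iff).mp hmem
    exact hu x (hSker x hxS) hxQ
  have hkill : ∀ x, φ x = 0 → h * x = 0 := by
    intro x hx
    have hxI : x ∈ Ideal.span (S : Set E) := by rw [hS]; exact hx
    refine Submodule.span_induction ?_ ?_ ?_ ?_ hxI
    · intro y hy
      have h1 : h = (∏ z ∈ S.erase y, u z) * u y :=
        (Finset.prod_erase_mul S u hy).symm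
      rw [h1, mul_assoc, hux y (hSker y hy), mul_zero]
    · exact mul_zero _
    · intro y z _ _ hy hz
      rw [mul_add, hy, hz, add_zero]
    · intro a y _ hy
      rw [smul_eq_mul, mul_left_comm, hy, mul_zero]
  exact exists_etale_away_of_kills q g hgq E φ hφ h hhQ hkill

end Groth.Agent.Lib.Helper3.FibEt
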