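import Mathlib
import Groth.Agent.Lib.Helper3FibEtC
import Groth.Agent.Lib.Helper20FiberSq

set_option autoImplicit false
set_option linter.unusedVariables false
set_option linter.unusedSectionVars false
set_option linter.style.haveILetI false

open CategoryTheory CategoryTheory.Limits AlgebraicGeometry TensorProduct

universe u

namespace Groth.Agent.Lib.Helper3.FibEtSch

/-- the residue field of `S` at a point of an affine open, as `Spec κ(p)`. -/
theorem exists_residueField_iso {S : Scheme.{u}} {S₀ : S.Opens} (hS₀ : IsAffineOpen S₀)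
    (p : Spec Γ(S, S₀)) (s : S) (hs : hS₀.fromSpec p = s) :
    ∃ θ : Spec (.of p.asIdeal.ResidueField) ⟶ Spec (S.residueField s), IsIso θ ∧
      θ ≫ S.fromSpecResidueField s =
        Spec.map (CommRingCat.ofHom (algebraMap Γ(S, S₀) p.asIdeal.ResidueField)) ≫
          hS₀.fromSpec := by
  subst hs
  haveI : IsOpenImmersion hS₀.fromSpec := hS₀.isOpenImmersion_fromSpec
  refine ⟨Spec.map (Scheme.Spec.residueFieldIso Γ(S, S₀) p).hom ≫
    Spec.map (hS₀.fromSpec.residueFieldMap p), inferInstance, ?_⟩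
  rw [Category.assoc, Scheme.Hom.SpecMap_residueFieldMap_fromSpecResidueField,
    ← Scheme.Spec.map_residueFieldIso_inv_eq_fromSpecResidueField, ← Category.assoc,
    ← Category.assoc, ← Spec.map_comp, Iso.inv_hom_id, Spec.map_id, Category.id_comp]



/-- affine chart of a fibre: `Spec (Γ(X,V) ⊗ κ(p)) → X_s`. -/
theorem exists_fibre_chart {X S : Scheme.{u}} (h : X ⟶ S) {S₀ : S.Opens} (hS₀ : IsAffineOpen S₀)
    {V : X.Opens} (hV : IsAffineOpen V) (e : V ≤ h ⁻¹ᵁ S₀) (p : Spec Γ(S, S₀)) (s : S)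
    (θ : Spec (.of p.asIdeal.ResidueField) ⟶ Spec (S.residueField s)) [IsIso θ]
    (hθ : θ ≫ S.fromSpecResidueField s =
      Spec.map (CommRingCat.ofHom (algebraMap Γ(S, S₀) p.asIdeal.ResidueField)) ≫ hS₀.fromSpec) :
    letI := (h.appLE S₀ V e).hom.toAlgebra
    ∃ j : Spec (.of (Γ(X, V) ⊗[Γ(S, S₀)] p.asIdeal.ResidueField)) ⟶ h.fiber s,
      IsOpenImmersion j ∧
      j ≫ h.fiberι s = Spec.map (CommRingCat.ofHom
        (algebraMap Γ(X, V) (Γ(X, V) ⊗[Γ(S, S₀)] p.asIdeal.ResidueField))) ≫ hV.fromSpec ∧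
      j ≫ h.fiberToSpecResidueField s = Spec.map (CommRingCat.ofHom
        (Algebra.TensorProduct.includeRight :
          p.asIdeal.ResidueField →ₐ[Γ(S, S₀)] Γ(X, V) ⊗[Γ(S, S₀)] p.asIdeal.ResidueField).toRingHom) ≫ θ := by
  letI := (h.appLE S₀ V e).hom.toAlgebra
  have e₁ : Spec.map (CommRingCat.ofHom (algebraMap Γ(S, S₀) Γ(X, V))) ≫ hS₀.fromSpec =
      hV.fromSpec ≫ h := IsAffineOpen.SpecMap_appLE_fromSpec h hS₀ hV e
  let j0 := pullback.map _ _ h (S.fromSpecResidueField s) hV.fromSpec θ hS₀.fromSpec e₁ hθ.symm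
  let j := (pullbackSpecIso Γ(S, S₀) Γ(X, V) p.asIdeal.ResidueField).inv ≫ j0
  haveI : IsOpenImmersion hS₀.fromSpec := hS₀.isOpenImmersion_fromSpec
  haveI : IsOpenImmersion hV.fromSpec := hV.isOpenImmersion_fromSpec
  haveI : IsOpenImmersion j0 := inferInstance
  have hjOI : IsOpenImmersion j := inferInstance
  have hj0fst : j0 ≫ pullback.fst h (S.fromSpecResidueField s) = pullback.fst _ _ ≫ hV.fromSpec :=
    pullback.lift_fst _ _ _
  have hj0snd : j0 ≫ pullback.snd h (S.fromSpecResidueField s) = pullback.snd _ _ ≫ θ :=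
    pullback.lift_snd _ _ _
  refine ⟨j, hjOI, ?_, ?_⟩
  · show ((pullbackSpecIso Γ(S, S₀) Γ(X, V) p.asIdeal.ResidueField).inv ≫ j0) ≫
      pullback.fst h (S.fromSpecResidueField s) = _
    rw [Category.assoc, hj0fst, ← Category.assoc, pullbackSpecIso_inv_fst']
  · show ((pullbackSpecIso Γ(S, S₀) Γ(X, V) p.asIdeal.ResidueField).inv ≫ j0) ≫
      pullback.snd h (S.fromSpecResidueField s) = _
    rw [Category.assoc, hj0snd, ← Category.assoc, pullbackSpecIso_inv_snd]
    rfl

end Groth.Agent.Lib.Helper3.FibEtSch
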