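import Mathlib
import Groth.Agent.Lib.Helper3FibEtSch
import Groth.Agent.Lib.Helper3EtGUSchC

set_option autoImplicit false
set_option linter.unusedVariables false
set_option linter.unusedSectionVars false
set_option linter.style.haveILetI false

open CategoryTheory CategoryTheory.Limits AlgebraicGeometry TensorProduct

universe u

namespace Groth.Agent.Lib.Helper3.FibChart

open Groth.Agent.Lib.Helper3.EtGUSch Groth.Agent.Lib.Helper3.FibEtSch

set_option maxHeartbeats 3200000 in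
/-- **Fibre chart, general form.** For a property `P` of morphisms of schemes given by a ring-hom
property `Q`: if the map of fibres `X_s → Y_s` has `P` on the trace of an open `U' ⊇ V`, then the
chart map `B ⊗ κ(p) → C ⊗ κ(p)` has `Q`. -/
theorem ringHom_fibre_chart {P : MorphismProperty Scheme.{u}}
    {Q : ∀ {R T : Type u} [CommRing R] [CommRing T], (R →+* T) → Prop} [HasRingHomProperty P Q]
    {X Y S : Scheme.{u}} (f : X ⟶ Y) (g : Y ⟶ S)
    {S₀ : S.Opens} (hS₀ : IsAffineOpen S₀) {W : Y.Opens} (hW : IsAffineOpen W)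
    {V : X.Opens} (hV : IsAffineOpen V) (hWS : W ≤ g ⁻¹ᵁ S₀) (hVW : V ≤ f ⁻¹ᵁ W)
    (hVS : V ≤ (f ≫ g) ⁻¹ᵁ S₀)
    (x : X) (hxV : x ∈ V) (U' : X.Opens) (hVU' : V ≤ U')
    (hfib : P ((((f ≫ g).fiberι ((f ≫ g) x)) ⁻¹ᵁ U').ι ≫
      CohIII.fiberMapOver f (f ≫ g) g rfl ((f ≫ g) x))) :
    letI algAB : Algebra Γ(S, S₀) Γ(Y, W) := (g.appLE S₀ W hWS).hom.toAlgebra
    letI algBC : Algebra Γ(Y, W) Γ(X, V) := (f.appLE W V hVW).hom.toAlgebra
    letI algAC : Algebra Γ(S, S₀) Γ(X, V) := ((f ≫ g).appLE S₀ V hVS).hom.toAlgebra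
    ∀ [IsScalarTower Γ(S, S₀) Γ(Y, W) Γ(X, V)],
    Q (Algebra.TensorProduct.map (IsScalarTower.toAlgHom Γ(S, S₀) Γ(Y, W) Γ(X, V))
      (AlgHom.id Γ(S, S₀) (hS₀.primeIdealOf ⟨(f ≫ g) x, hVS hxV⟩).asIdeal.ResidueField)).toRingHom := by
  letI algAB : Algebra Γ(S, S₀) Γ(Y, W) := (g.appLE S₀ W hWS).hom.toAlgebra
  letI algBC : Algebra Γ(Y, W) Γ(X, V) := (f.appLE W V hVW).hom.toAlgebra
  letI algAC : Algebra Γ(S, S₀) Γ(X, V) := ((f ≫ g).appLE S₀ V hVS).hom.toAlgebra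
  intro hST
  let A := Γ(S, S₀)
  let B := Γ(Y, W)
  let C := Γ(X, V)
  have hsS₀ : (f ≫ g) x ∈ S₀ := hVS hxV
  let p : Spec Γ(S, S₀) := hS₀.primeIdealOf ⟨(f ≫ g) x, hsS₀⟩
  have hs : hS₀.fromSpec p = (f ≫ g) x := hS₀.fromSpec_primeIdealOf _
  -- fibre charts
  obtain ⟨θ, hθiso, hθ⟩ := exists_residueField_iso hS₀ p _ hs
  obtain ⟨jX, hjXo, hjX1, hjX2⟩ := exists_fibre_chart (f ≫ g) hS₀ hV hVS p _ θ hθ
  obtain ⟨jY, hjYo, hjY1, hjY2⟩ := exists_fibre_chart g hS₀ hW hWS p _ θ hθ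
  let ρ₁ : B ⊗[A] p.asIdeal.ResidueField →ₐ[A] C ⊗[A] p.asIdeal.ResidueField :=
    Algebra.TensorProduct.map (IsScalarTower.toAlgHom A B C) (AlgHom.id A p.asIdeal.ResidueField)
  let FM := CohIII.fiberMapOver f (f ≫ g) g rfl ((f ≫ g) x)
  have hFM1 : FM ≫ g.fiberι ((f ≫ g) x) = (f ≫ g).fiberι ((f ≫ g) x) ≫ f :=
    pullback.lift_fst _ _ _
  have hFM2 : FM ≫ g.fiberToSpecResidueField ((f ≫ g) x) =
      (f ≫ g).fiberToSpecResidueField ((f ≫ g) x) :=
    (pullback.lift_snd _ _ _).trans (Category.comp_id _)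
  -- compatibility of the charts with the map of fibres
  have hcompat : jX ≫ FM = Spec.map (CommRingCat.ofHom ρ₁.toRingHom) ≫ jY := by
    apply pullback.hom_ext
    · show (jX ≫ FM) ≫ g.fiberι _ = (Spec.map (CommRingCat.ofHom ρ₁.toRingHom) ≫ jY) ≫ g.fiberι _
      rw [Category.assoc, hFM1, ← Category.assoc, hjX1, Category.assoc, Category.assoc, hjY1,
        ← IsAffineOpen.SpecMap_appLE_fromSpec f hW hV hVW, ← Category.assoc, ← Category.assoc,
        ← Spec.map_comp, ← Spec.map_comp]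
      congr 2
    · show (jX ≫ FM) ≫ g.fiberToSpecResidueField _ =
        (Spec.map (CommRingCat.ofHom ρ₁.toRingHom) ≫ jY) ≫ g.fiberToSpecResidueField _
      rw [Category.assoc, hFM2, hjX2, Category.assoc, hjY2, ← Category.assoc, ← Spec.map_comp]
      congr 2
      refine CommRingCat.hom_ext (RingHom.ext (fun k => ?_))
      show (1 : C) ⊗ₜ[A] k = ρ₁ ((1 : B) ⊗ₜ[A] k)
      simp [ρ₁]
  -- the chart of `X_s` lands in the open where the fibre map has `P`
  let O : ((f ≫ g).fiber ((f ≫ g) x)).Opens := ((f ≫ g).fiberι ((f ≫ g) x)) ⁻¹ᵁ U'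
  have hrange : Set.range jX ⊆ Set.range O.ι := by
    rintro _ ⟨z, rfl⟩
    rw [Scheme.Opens.range_ι]
    show (f ≫ g).fiberι _ (jX z) ∈ U'
    rw [← Scheme.Hom.comp_apply, hjX1, Scheme.Hom.comp_apply]
    apply hVU'
    have : hV.fromSpec ((Spec.map (CommRingCat.ofHom (algebraMap Γ(X, V)
        (Γ(X, V) ⊗[Γ(S, S₀)] p.asIdeal.ResidueField)))) z) ∈ Set.range hV.fromSpec :=
      ⟨_, rfl⟩
    rw [hV.range_fromSpec] at this
    exact this
  let l := IsOpenImmersion.lift O.ι jX hrange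
  have hl : l ≫ O.ι = jX := IsOpenImmersion.lift_fac _ _ _
  haveI : IsOpenImmersion (l ≫ O.ι) := by rw [hl]; infer_instance
  haveI : IsOpenImmersion l := IsOpenImmersion.of_comp l O.ι
  have h1 : P (jX ≫ FM) := by
    rw [← hl, Category.assoc]
    exact IsZariskiLocalAtSource.comp hfib l
  rw [hcompat] at h1
  haveI : P.HasOfPostcompProperty @IsOpenImmersion :=
    hasOfPostcompProperty_isOpenImmersion_of_morphismRestrict P
      (fun f U hf => IsZariskiLocalAtTarget.restrict hf U)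
  have h2 : P (Spec.map (CommRingCat.ofHom ρ₁.toRingHom)) :=
    MorphismProperty.of_postcomp (W := P) (W' := @IsOpenImmersion) _ jY inferInstance h1
  exact (HasRingHomProperty.Spec_iff (P := P) (φ := CommRingCat.ofHom ρ₁.toRingHom)).mp h2

end Groth.Agent.Lib.Helper3.FibChart
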