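-- helper15: a Zariski-locally split torus over an irreducible base is split; locally split subtori and the greatest split subtorus
import Mathlib
import Groth.Agent.Lib.Helper15GlueSplitD
import Groth.Agent.Lib.Helper15GreatestLoc
import Groth.Agent.Lib.Helper23EtSmFib
set_option autoImplicit false
universe u
open CategoryTheory CategoryTheory.Limits AlgebraicGeometry MonoidalCategory CartesianMonoidalCategory
  MonObj GrpObj

namespace Groth.Agent.Lib.Helper15GlueSplit

open Groth.Agent.Lib.Helper15DiagRigid Groth.Agent.Lib.Helper15DSmapPts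
open Groth.Agent.Lib.Helper11MultGa Groth.Agent.Lib.Helper27.GaGm
open Groth.Agent.Lib.Helper15FieldDiag Groth.Agent.Lib.Helper15SplitSub
open Groth.Agent.Lib.Helper15DSbc Groth.Agent.Lib.Helper15BCNat
open Groth.Agent.Lib.Helper15HomDiag Groth.Agent.Lib.Helper15SubGrpDesc
open Groth.Agent.Lib.Helper15LocForm Groth.Agent.Lib.Helper15JoinGlue
open Groth.Agent.Lib.Helper15NormCentral

section MonHom

variable {S : Scheme.{u}} {X Y : Over S} [GrpObj X] [GrpObj Y]

/-- a morphism of group schemes which is a homomorphism after base change to the members of an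
fpqc covering family is a homomorphism. -/
theorem isMonHom_of_bc_family (ψ : X ⟶ Y) {J : Type u} {Sk : J → Scheme.{u}}
    (gk : ∀ k, Sk k ⟶ S) (hcov : Presieve.ofArrows Sk gk ∈ Scheme.fpqcPrecoverage S)
    (h : ∀ k, IsMonHom ((Over.pullback (gk k)).map ψ)) : IsMonHom ψ where
  one_hom := by
    refine hom_ext_of_fpqc_family _ _ gk hcov ?_
    intro k Y' w
    have := h k
    apply ((Over.mapPullbackAdj (gk k)).homEquiv Y' Y).injective
    have e1 : w ≫ η[X] = 1 := by
      rw [MonObj.one_eq_one, MonObj.comp_one]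
    have e2 : w ≫ η[Y] = 1 := by
      rw [MonObj.one_eq_one, MonObj.comp_one]
    rw [← Category.assoc, e1, e2, Adjunction.homEquiv_naturality_right, homEquiv_one, homEquiv_one,
      MonObj.one_comp]
  mul_hom := by
    refine hom_ext_of_fpqc_family _ _ gk hcov ?_
    intro k Y' w
    have := h k
    apply ((Over.mapPullbackAdj (gk k)).homEquiv Y' Y).injective
    obtain ⟨a, ha⟩ : ∃ a : (Over.map (gk k)).obj Y' ⟶ X, a = w ≫ fst X X := ⟨_, rfl⟩
    obtain ⟨b, hb⟩ : ∃ b : (Over.map (gk k)).obj Y' ⟶ X, b = w ≫ snd X X := ⟨_, rfl⟩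
    have e1 : w ≫ μ[X] = a * b := by
      rw [ha, hb, MonObj.mul_eq_mul, MonObj.comp_mul]
    have e2 : w ≫ (ψ ⊗ₘ ψ) ≫ μ[Y] = (a ≫ ψ) * (b ≫ ψ) := by
      rw [ha, hb, MonObj.mul_eq_mul, MonObj.comp_mul, MonObj.comp_mul, tensorHom_fst,
        tensorHom_snd, Category.assoc, Category.assoc]
    rw [← Category.assoc, e1, e2, Adjunction.homEquiv_naturality_right,
      AlgGrp.Action.homEquiv_mul, AlgGrp.Action.homEquiv_mul, MonObj.mul_comp,
      Adjunction.homEquiv_naturality_right, Adjunction.homEquiv_naturality_right]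

end MonHom

section Main

variable {S : Scheme.{u}}

/-- **a group scheme over an irreducible base which is Zariski-locally a diagonalisable group
with a fixed finitely generated character group is diagonalisable.** -/
theorem split_of_locally_split [IrreducibleSpace S] {X : Over S} [GrpObj X] (M : Type)
    [AddCommGroup M] (hM : AddGroup.FG M)
    (hloc : ∀ s : S, ∃ U : S.Opens, s ∈ U ∧ Red.IsSplitTorusWith M (Red.bc U.ι X)) :
    Red.IsSplitTorusWith M X := by
  choose U hU hsp using hloc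
  obtain ⟨s₀⟩ : Nonempty S := inferInstance
  obtain ⟨e₀, he₀m, he₀i⟩ : ∃ e₀ : Red.bc (U s₀).ι X ⟶ Red.DS (U s₀) M,
      IsMonHom e₀ ∧ IsIso e₀ := by
    obtain ⟨a⟩ := hsp s₀
    exact ⟨(overIso a).hom, inferInstance, inferInstance⟩
  have hnorm : ∀ s, ∃ e : Red.bc (U s).ι X ⟶ Red.DS (U s) M,
      IsMonHom e ∧ IsIso e ∧ Agree M e e₀ := by
    intro s
    obtain ⟨a⟩ := hsp s
    exact exists_normalise hM ⟨s, hU s⟩ ⟨s₀, hU s₀⟩ (overIso a).hom e₀
  choose e hem hei hag₀ using hnorm
  have hag : ∀ s t, Agree M (e s) (e t) := by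
    intro s t
    have := hem s
    have := hei s
    have := hem t
    have := hei t
    exact agree_of_agree_base hM ⟨s, hU s⟩ ⟨t, hU t⟩ ⟨s₀, hU s₀⟩ (e s) (e t) e₀ (hag₀ s) (hag₀ t)
  obtain ⟨ψ, hψ⟩ := exists_glue U hU e hag
  have hbc : ∀ s, IsMonHom ((Over.pullback (U s).ι).map ψ) ∧
      IsIso ((Over.pullback (U s).ι).map ψ) := by
    intro s
    have := hem s
    have := hei s
    obtain ⟨c, hcm, hc⟩ := exists_bcDS M (U s).ι
    have h1 : (Over.pullback (U s).ι).map ψ ≫ c.hom = e s :=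
      co_injective M _ _ (by rw [co_bc _ ψ c hc, hψ s])
    have h2 : (Over.pullback (U s).ι).map ψ = e s ≫ c.inv := by
      rw [← h1, Category.assoc, Iso.hom_inv_id, Category.comp_id]
    rw [h2]
    exact ⟨inferInstance, inferInstance⟩
  have hcov : Presieve.ofArrows (fun s => ((U s : S.Opens) : Scheme.{u})) (fun s => (U s).ι) ∈
      Scheme.fpqcPrecoverage S :=
    mem_fpqc_of_openCover _ (fun s => ⟨⟨s, hU s⟩, rfl⟩)
  have hψm : IsMonHom ψ := isMonHom_of_bc_family ψ _ hcov (fun s => (hbc s).1)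
  have h1 : IsIso ψ.left := Groth.Agent.Lib.Helper15FixClopenGlob.of_bc_family
    (P := MorphismProperty.isomorphisms Scheme.{u}) inferInstance ψ (fun s => (U s).ι) hcov
    (fun s => by
      have := (hbc s).2
      exact (Over.forget _).map_isIso ((Over.pullback (U s).ι).map ψ))
  have h2 : IsIso ((Over.forget S).map ψ) := h1
  have h3 : IsIso ψ := isIso_of_reflects_iso ψ (Over.forget S)
  exact ⟨Grp.mkIso' (asIso ψ)⟩

open Groth.Agent.Lib.Helper15GreatestLoc in
/-- **over a connected, locally Noetherian base with integral local rings, a subtorus which is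
split Zariski-locally factors through every greatest split subtorus.** -/
theorem factors_of_locally_split [ConnectedSpace ↥S] [IsLocallyNoetherian S]
    (hdom : ∀ x : ↥S, IsDomain (S.presheaf.stalk x))
    {T T₀ T₁ : Over S} [GrpObj T] [GrpObj T₀] [GrpObj T₁] (j₀ : T₀ ⟶ T)
    (hmax : ∀ (T' : Over S) [GrpObj T'] (j' : T' ⟶ T) [IsMonHom j'] [Mono j'] (r' : ℕ),
      Red.IsSplitTorusWith (Fin r' → ℤ) T' → ∃ g : T' ⟶ T₀, g ≫ j₀ = j')
    (j₁ : T₁ ⟶ T) [IsMonHom j₁] [Mono j₁]
    (hT₁ : ∀ s : ↥S, ∃ U : S.Opens, s ∈ U ∧ ∃ r : ℕ,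
      Red.IsSplitTorusWith (Fin r → ℤ) (Red.bc U.ι T₁)) :
    ∃ g : T₁ ⟶ T₀, g ≫ j₀ = j₁ := by
  have hirr : IrreducibleSpace S :=
    Groth.Agent.Lib.Helper23.EtSmFib.irreducibleSpace_of_connected_of_isLocallyNoetherian hdom
  obtain ⟨s₀⟩ : Nonempty S := inferInstance
  obtain ⟨U₀, hs₀, r, hr⟩ := hT₁ s₀
  have hrank : ∀ s, RankAt T₁ s r := rankAt_const T₁ hT₁ s₀ r ⟨U₀, hs₀, hr⟩
  have hfg : AddGroup.FG (Fin r → ℤ) := by
    rw [AddGroup.fg_iff_addMonoid_fg]
    infer_instance
  exact hmax T₁ j₁ r (split_of_locally_split (Fin r → ℤ) hfg hrank)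

end Main

end Groth.Agent.Lib.Helper15GlueSplit
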