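-- helper15: restriction of a groupoid in algebraic spaces: pullback squares for source/target and transfer of properties
import Mathlib
import Groth.Prelude.Def_AlgSpGpd
import Groth.Agent.S9874
import Groth.Agent.Lib.Helper15PtsTop
import Groth.Agent.Lib.Helper15LocQProps
import Groth.Agent.Lib.Helper15DiagLft

set_option autoImplicit false
open CategoryTheory CategoryTheory.Limits AlgebraicGeometry

universe u

namespace Groth.Agent.Lib.Helper15GpdRes

open Groth.Agent.Lib.Helper15DiagLft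

variable {S : Scheme.{u}} {B : AlgSp.Sp S} {G G' : AlgSp.GroupoidSp B}
  (φ : AlgSp.GroupoidSp.Hom G' G)

/-- Points of a restriction: arrows of the big groupoid with lifted source and target. -/
theorem exists_lift_of_isRestriction (hφ : φ.IsRestriction) {T : AlgSp.Sp S} (r : T ⟶ G.R)
    (a b : T ⟶ G'.U) (ha : a ≫ φ.fU = r ≫ G.t) (hb : b ≫ φ.fU = r ≫ G.s) :
    ∃ l : T ⟶ G'.R, l ≫ φ.fR = r ∧ l ≫ G'.t = a ∧ l ≫ G'.s = b := by
  have hpU : G'.pU = φ.fU ≫ G.pU := φ.fU_over.symm
  have h1 : a ≫ G'.pU = b ≫ G'.pU := by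
    rw [hpU, ← Category.assoc, ha, ← Category.assoc, hb, Category.assoc, Category.assoc,
      G.t_over, G.s_over]
  have h2 : r ≫ G.j = pullback.lift a b h1 ≫ φ.prodMap := by
    apply pullback.hom_ext
    · rw [Category.assoc, G.j_fst, Category.assoc]
      unfold AlgSp.GroupoidSp.Hom.prodMap
      rw [pullback.lift_fst, pullback.lift_fst_assoc, ha]
    · rw [Category.assoc, G.j_snd, Category.assoc]
      unfold AlgSp.GroupoidSp.Hom.prodMap
      rw [pullback.lift_snd, pullback.lift_snd_assoc, hb]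
  refine ⟨hφ.lift r (pullback.lift a b h1) h2, hφ.lift_fst _ _ _, ?_, ?_⟩
  · have h3 := hφ.lift_snd r (pullback.lift a b h1) h2
    rw [← G'.j_fst, ← Category.assoc, h3, pullback.lift_fst]
  · have h3 := hφ.lift_snd r (pullback.lift a b h1) h2
    rw [← G'.j_snd, ← Category.assoc, h3, pullback.lift_snd]

theorem hom_ext_of_isRestriction (hφ : φ.IsRestriction) {T : AlgSp.Sp S} (l m : T ⟶ G'.R)
    (h₁ : l ≫ φ.fR = m ≫ φ.fR) (h₂ : l ≫ G'.t = m ≫ G'.t) (h₃ : l ≫ G'.s = m ≫ G'.s) :
    l = m := by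
  apply hφ.hom_ext h₁
  apply pullback.hom_ext
  · rw [Category.assoc, Category.assoc, G'.j_fst, h₂]
  · rw [Category.assoc, Category.assoc, G'.j_snd, h₃]

theorem isPullback_t (hφ : φ.IsRestriction) :
    IsPullback G'.s (pullback.lift G'.t φ.fR φ.comm_t.symm) φ.fU
      (pullback.snd φ.fU G.t ≫ G.s) := by
  have key : ∀ c : PullbackCone φ.fU (pullback.snd φ.fU G.t ≫ G.s),
      ∃ l : c.pt ⟶ G'.R, l ≫ φ.fR = c.snd ≫ pullback.snd φ.fU G.t ∧
        l ≫ G'.t = c.snd ≫ pullback.fst φ.fU G.t ∧ l ≫ G'.s = c.fst := fun c =>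
    exists_lift_of_isRestriction φ hφ _ _ _
      (by rw [Category.assoc, pullback.condition, Category.assoc])
      (by rw [c.condition, Category.assoc])
  refine ⟨⟨?_⟩, ⟨PullbackCone.IsLimit.mk _ (fun c => (key c).choose) ?_ ?_ ?_⟩⟩
  · rw [pullback.lift_snd_assoc, φ.comm_s]
  · intro c
    exact (key c).choose_spec.2.2
  · intro c
    apply pullback.hom_ext
    · rw [Category.assoc, pullback.lift_fst, (key c).choose_spec.2.1]
    · rw [Category.assoc, pullback.lift_snd, (key c).choose_spec.1]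
  · intro c m hm₁ hm₂
    apply hom_ext_of_isRestriction φ hφ
    · rw [(key c).choose_spec.1, ← hm₂, Category.assoc, pullback.lift_snd]
    · rw [(key c).choose_spec.2.1, ← hm₂, Category.assoc, pullback.lift_fst]
    · rw [(key c).choose_spec.2.2, hm₁]

theorem isPullback_s (hφ : φ.IsRestriction) :
    IsPullback G'.t (pullback.lift G'.s φ.fR φ.comm_s.symm) φ.fU
      (pullback.snd φ.fU G.s ≫ G.t) := by
  have key : ∀ c : PullbackCone φ.fU (pullback.snd φ.fU G.s ≫ G.t),
      ∃ l : c.pt ⟶ G'.R, l ≫ φ.fR = c.snd ≫ pullback.snd φ.fU G.s ∧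
        l ≫ G'.t = c.fst ∧ l ≫ G'.s = c.snd ≫ pullback.fst φ.fU G.s := fun c =>
    exists_lift_of_isRestriction φ hφ _ _ _
      (by rw [c.condition, Category.assoc])
      (by rw [Category.assoc, pullback.condition, Category.assoc])
  refine ⟨⟨?_⟩, ⟨PullbackCone.IsLimit.mk _ (fun c => (key c).choose) ?_ ?_ ?_⟩⟩
  · rw [pullback.lift_snd_assoc, φ.comm_t]
  · intro c
    exact (key c).choose_spec.2.1
  · intro c
    apply pullback.hom_ext
    · rw [Category.assoc, pullback.lift_fst, (key c).choose_spec.2.2]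
    · rw [Category.assoc, pullback.lift_snd, (key c).choose_spec.1]
  · intro c m hm₁ hm₂
    apply hom_ext_of_isRestriction φ hφ
    · rw [(key c).choose_spec.1, ← hm₂, Category.assoc, pullback.lift_snd]
    · rw [(key c).choose_spec.2.1, hm₁]
    · rw [(key c).choose_spec.2.2, ← hm₂, Category.assoc, pullback.lift_fst]

/-- A property of morphisms of algebraic spaces stable under base change and composition passes
from the source, target and base map of a groupoid to the source and target of a restriction. -/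
theorem restrict_property (P : MorphismProperty (AlgSp.Sp S)) (hPb : BCStable P)
    (hPc : ∀ {X Y Z : AlgSp.Sp S}, AlgSp.IsAlgSpace Y → AlgSp.IsAlgSpace Z →
      ∀ (a : X ⟶ Y) (b : Y ⟶ Z), P a → P b → P (a ≫ b))
    (hU : AlgSp.IsAlgSpace G.U) (hR : AlgSp.IsAlgSpace G.R) (hU' : AlgSp.IsAlgSpace G'.U)
    (hR' : AlgSp.IsAlgSpace G'.R) (hφ : φ.IsRestriction) (hs : P G.s) (ht : P G.t)
    (hg : P φ.fU) : P G'.s ∧ P G'.t := by
  constructor
  · have hA : AlgSp.IsAlgSpace (pullback φ.fU G.s) :=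
      Groth.Agent.S9874.isAlgSpace_of_isPullback hU.diag hU' hR (IsPullback.of_hasPullback φ.fU G.s)
    have h1 : P (pullback.fst φ.fU G.s) :=
      hPb hR hU hA hU' G.s φ.fU _ _ (IsPullback.of_hasPullback φ.fU G.s).flip hs
    have h2 : P (pullback.lift G'.s φ.fR φ.comm_s.symm) :=
      hPb hU' hU hR' hA φ.fU _ _ _ (isPullback_s φ hφ) hg
    have h3 := hPc hA hU' _ _ h2 h1
    rwa [pullback.lift_fst] at h3
  · have hA : AlgSp.IsAlgSpace (pullback φ.fU G.t) :=
      Groth.Agent.S9874.isAlgSpace_of_isPullback hU.diag hU' hR (IsPullback.of_hasPullback φ.fU G.t)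
    have h1 : P (pullback.fst φ.fU G.t) :=
      hPb hR hU hA hU' G.t φ.fU _ _ (IsPullback.of_hasPullback φ.fU G.t).flip ht
    have h2 : P (pullback.lift G'.t φ.fR φ.comm_t.symm) :=
      hPb hU' hU hR' hA φ.fU _ _ _ (isPullback_t φ hφ) hg
    have h3 := hPc hA hU' _ _ h2 h1
    rwa [pullback.lift_fst] at h3

end Groth.Agent.Lib.Helper15GpdRes
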