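-- helper15: X → [X/G] is representable, flat / lfp / smooth / surjective when G is (fppf torsors).
import Mathlib
import Groth.Prelude.Def_AlgSt5
import Groth.Agent.Lib.Helper15QuotRep
import Groth.Agent.Lib.Helper15SmoothLocus
import Groth.Agent.Lib.Helper12Torsor

set_option autoImplicit false
universe u
open CategoryTheory CategoryTheory.Limits MonoidalCategory CartesianMonoidalCategory MonObj GrpObj AlgebraicGeometry Opposite

namespace Groth.Agent.Lib.Helper15Quot

open Groth.Agent.Lib.Helper12 Groth.Agent.Lib.Helper17 Groth.Agent.Lib.Helper15SpMapRep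
  Groth.Agent.Lib.Helper15LocEss Groth.Agent.Lib.Helper15SmoothLocus

variable {S : Scheme.{u}} {G : Over S} [GrpObj G] {X : Over S} (aX : AlgGrp.Action G X)

section RepWith

variable (K : Precoverage Scheme.{u}) [K.HasIsos]

/-- `X ⟶ [X/G]` is representable, with any property enjoyed by the structure maps of the
torsors. -/
theorem repByAlgSpWith_piX (P : MorphismProperty (AlgSp.Sp S))
    (hP : ∀ (U : Over S) (y : FibCat.overCat U ⥤ᵇ AlgSt.QuotSt K G aX),
      P ((AlgSp.yon S).map (piU K aX y))) :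
    AlgSt.RepByAlgSpWith P (piX K aX) := by
  intro U y
  refine ⟨⟨(AlgSp.yon S).obj (tors K aX y).P, AlgSp.IsAlgSpace.yon_obj _⟩, Phi K aX y,
    isEquivOver_Phi K aX y, ?_⟩
  have h1 : AlgSt.spMapOfOver (BasedFunctor.comp (Phi K aX y) (FibCat.fpFst y (piX K aX))) =
      AlgSt.spMapOfOver (aF K aX y) := spMapOfOver_eq_of_iso _ _ (Iso.refl _)
  rw [h1, spMapOfOver_ofSpMap_toOverCat]
  exact hP U y

end RepWith


section TorsorProp

variable {K : Precoverage Scheme.{u}}

/-- a section trivialises the torsor. -/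
lemma isPullback_of_section (A : AlgSt.QuotObj K G aX) {T : Over S} (s : T ⟶ A.P) :
    IsPullback ((G ◁ s) ≫ A.act.act) (snd G T) A.π (s ≫ A.π) :=
  (AlgSt.isPullback_whiskerLeft (G := G) s).paste_horiz A.cart

omit [GrpObj G] in
/-- the projection `G × T ⟶ T` is a base change of `G ⟶ S`. -/
lemma prop_snd_left (Q : MorphismProperty Scheme.{u}) [Q.IsStableUnderBaseChange] (hG : Q G.hom)
    (T : Over S) : Q (snd G T).left := by
  have h := (AlgSt.isPullback_fst_snd G T).map (Over.forget S)
  exact Q.of_isPullback h hG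

/-- the structure map of a torsor inherits the properties of `G ⟶ S` that descend. -/
theorem torsor_prop (Q : MorphismProperty Scheme.{u}) [Q.IsStableUnderBaseChange]
    [IsZariskiLocalAtTarget Q]
    (hQ : Q.DescendsAlong (@Surjective ⊓ @Flat ⊓ @QuasiCompact : MorphismProperty Scheme.{u}))
    (hG : Q G.hom) (A : AlgSt.QuotObj Scheme.fppfPrecoverage G aX) : Q A.π.left := by
  obtain ⟨R, hR, hsec⟩ := A.loc
  refine of_mem_fpqcPrecoverage hQ A.π.left R (Scheme.fppfPrecoverage_le_fpqcPrecoverage _ hR) ?_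
  intro T' f hf
  obtain ⟨s₀, hs₀⟩ := hsec f hf
  have hs₀' : s₀ ≫ A.π.left = f := hs₀
  let T : Over S := Over.mk (f ≫ A.base.hom)
  let s : T ⟶ A.P := Over.homMk s₀ (by
    have := Over.w A.π
    rw [← this, ← Category.assoc, hs₀']
    rfl)
  have sq := (isPullback_of_section aX A s).map (Over.forget S)
  have hsf : (Over.forget S).map (s ≫ A.π) = f := by simpa [s] using hs₀'
  rw [hsf] at sq
  have h1 : Q (snd G T).left := prop_snd_left Q hG T
  have h2 : sq.isoPullback.hom ≫ pullback.snd _ _ = (snd G T).left := sq.isoPullback_hom_snd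
  have h3 : Q (sq.isoPullback.hom ≫ pullback.snd _ _) := by rw [h2]; exact h1
  exact (Q.cancel_left_of_respectsIso _ _).mp h3

/-- the structure map of an fppf torsor is surjective. -/
theorem torsor_surjective (A : AlgSt.QuotObj Scheme.fppfPrecoverage G aX) :
    Function.Surjective A.π.left := by
  obtain ⟨R, hR, hsec⟩ := A.loc
  intro x
  have h1 := hR.1
  rw [Scheme.jointlySurjectivePrecoverage,
    Presieve.mem_comap_jointlySurjectivePrecoverage_iff] at h1
  obtain ⟨Y, g, hg, t, ht⟩ := h1 x
  obtain ⟨s₀, hs₀⟩ := hsec g hg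
  have hs₀' : s₀ ≫ A.π.left = g := hs₀
  refine ⟨s₀ t, ?_⟩
  rw [← ht, ← hs₀']
  rfl

end TorsorProp


section Final

lemma prop_comp_eqToHom_left (Q : MorphismProperty Scheme.{u}) [Q.RespectsIso] {P B U : Over S}
    (h : B = U) (π : P ⟶ B) (hπ : Q π.left) : Q (π ≫ eqToHom h).left := by
  subst h; simpa using hπ

lemma surj_comp_eqToHom_left {P B U : Over S} (h : B = U) (π : P ⟶ B)
    (hπ : Function.Surjective π.left) : Function.Surjective (π ≫ eqToHom h).left := by
  subst h; simpa using hπ

theorem isSurjectiveMor_yon_map_of_surjective {U V : Over S} (h : V ⟶ U)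
    (hs : Function.Surjective h.left) : AlgSp.IsSurjectiveMor ((AlgSp.yon S).map h) := by
  intro p
  obtain ⟨t, ht⟩ := hs (AlgSp.Points.toScheme U p)
  refine ⟨AlgSp.Points.ofScheme V t, ?_⟩
  rw [points_map_yon_ofScheme, ht, AlgSp.Points.ofScheme_toScheme]

theorem piX_surjective :
    AlgSt.RepByAlgSpWith AlgSp.IsSurjectiveMor (piX Scheme.fppfPrecoverage aX) :=
  repByAlgSpWith_piX aX _ _ (fun _ _ => isSurjectiveMor_yon_map_of_surjective _
    (surj_comp_eqToHom_left _ _ (torsor_surjective aX _)))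

theorem piX_flat [Flat G.hom] :
    AlgSt.RepByAlgSpWith (AlgSp.LocP @Flat) (piX Scheme.fppfPrecoverage aX) :=
  repByAlgSpWith_piX aX _ _ (fun _ _ => locP_yon_map_of_flat _
    (prop_comp_eqToHom_left @Flat _ _ (torsor_prop aX @Flat descendsAlong_flat inferInstance _)))

theorem piX_lfp [LocallyOfFinitePresentation G.hom] :
    AlgSt.RepByAlgSpWith (AlgSp.LocP @LocallyOfFinitePresentation)
      (piX Scheme.fppfPrecoverage aX) :=
  repByAlgSpWith_piX aX _ _ (fun _ _ => locP_yon_map_of_lfp _
    (prop_comp_eqToHom_left @LocallyOfFinitePresentation _ _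
      (torsor_prop aX @LocallyOfFinitePresentation inferInstance inferInstance _)))

theorem piX_smooth [Smooth G.hom] :
    AlgSt.RepByAlgSpWith (AlgSp.LocP @Smooth) (piX Scheme.fppfPrecoverage aX) :=
  repByAlgSpWith_piX aX _ _ (fun _ _ => locP_yon_map_of_smooth _
    (prop_comp_eqToHom_left @Smooth _ _
      (torsor_prop aX @Smooth inferInstance inferInstance _)))

end Final

end Groth.Agent.Lib.Helper15Quot
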