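-- helper15: groupoids in algebraic spaces over a field: restriction along a field extension
import Mathlib
import Groth.Prelude.Def_AlgSpGpd
import Groth.Agent.Lib.Helper15GpdRes
import Groth.Agent.Lib.Helper12FieldGpd
import Groth.Agent.Lib.Helper12TopDescent2
import Groth.Agent.Lib.Helper15QuotRep2
import Groth.Agent.S10552
import Groth.Agent.S9944

set_option autoImplicit false
open CategoryTheory CategoryTheory.Limits AlgebraicGeometry

universe u

namespace Groth.Agent.Lib.Helper15GpdField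

open Groth.Agent.Lib.Helper15DiagLft Groth.Agent.Lib.Helper15GpdRes

variable {S : Scheme.{u}} {B : AlgSp.Sp S} {G G' : AlgSp.GroupoidSp B}
  (φ : AlgSp.GroupoidSp.Hom G' G)

/-- A property stable under base change and composition passes from the base map of a
restriction to the map on arrows. -/
theorem fR_property (P : MorphismProperty (AlgSp.Sp S)) (hPb : BCStable P)
    (hPc : ∀ {X Y Z : AlgSp.Sp S}, AlgSp.IsAlgSpace Y → AlgSp.IsAlgSpace Z →
      ∀ (a : X ⟶ Y) (b : Y ⟶ Z), P a → P b → P (a ≫ b))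
    (hU : AlgSp.IsAlgSpace G.U) (hR : AlgSp.IsAlgSpace G.R) (hU' : AlgSp.IsAlgSpace G'.U)
    (hR' : AlgSp.IsAlgSpace G'.R) (hφ : φ.IsRestriction) (hg : P φ.fU) : P φ.fR := by
  have hA : AlgSp.IsAlgSpace (pullback φ.fU G.t) :=
    Groth.Agent.S9874.isAlgSpace_of_isPullback hU.diag hU' hR (IsPullback.of_hasPullback φ.fU G.t)
  have h1 : P (pullback.snd φ.fU G.t) :=
    hPb hU' hU hA hR φ.fU G.t _ _ (IsPullback.of_hasPullback φ.fU G.t) hg
  have h2 : P (pullback.lift G'.t φ.fR φ.comm_t.symm) :=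
    hPb hU' hU hR' hA φ.fU _ _ _ (isPullback_t φ hφ) hg
  have h3 := hPc hA hR _ _ h2 h1
  rwa [pullback.lift_snd] at h3

theorem isSurjectiveMor_comp {X Y Z : AlgSp.Sp S} (a : X ⟶ Y) (b : Y ⟶ Z)
    (ha : AlgSp.IsSurjectiveMor a) (hb : AlgSp.IsSurjectiveMor b) :
    AlgSp.IsSurjectiveMor (a ≫ b) := by
  intro z
  obtain ⟨y, rfl⟩ := hb z
  obtain ⟨x, rfl⟩ := ha y
  exact ⟨x, AlgSp.Points.map_comp a b x⟩

theorem isSurjectiveMor_of_section {X Y : AlgSp.Sp S} (a : X ⟶ Y) (e : Y ⟶ X) (h : e ≫ a = 𝟙 Y) :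
    AlgSp.IsSurjectiveMor a := by
  intro y
  refine ⟨AlgSp.Points.map e y, ?_⟩
  rw [← AlgSp.Points.map_comp, h, AlgSp.Points.map_id]

theorem isSurjectiveMor_of_iso {X Y : AlgSp.Sp S} (e : X ≅ Y) : AlgSp.IsSurjectiveMor e.hom :=
  isSurjectiveMor_of_section e.hom e.inv e.inv_hom_id

theorem bcStable_surj : BCStable (AlgSp.IsSurjectiveMor (S := S)) :=
  fun _ _ _ _ _ _ _ _ _ _ _ _ sq h =>
    Groth.Agent.Lib.Helper12.TopDescent.isSurjectiveMor_baseChange sq h

theorem bcStable_univOpen : BCStable (AlgSp.IsUnivOpenMor (S := S)) := by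
  intro X₁ Y₁ X₂ Y₂ _ _ _ _ a b a' b' sq h Z Z' hZ z fst snd sqZ
  exact h hZ (z ≫ b) (fst ≫ b') snd (sqZ.paste_horiz sq)

theorem bcStable_affine : BCStable (AlgSp.IsAffineMor (S := S)) :=
  fun _ _ _ _ _ _ _ _ _ _ _ _ sq h => Groth.Agent.S9944.isAffineMor_of_isPullback sq h

theorem isAffineMor_of_repWith {F G : AlgSp.Sp S} (f : F ⟶ G)
    (hf : AlgSp.RepWith @IsAffineHom f) : AlgSp.IsAffineMor f := by
  intro Z hZ c
  obtain ⟨W, i, a, sq⟩ := hf.1 c
  have : IsAffineHom i.left := hf.2 _ _ i sq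
  have : IsAffine Z.left := hZ
  exact ⟨W, i, a, sq, isAffine_of_isAffineHom i.left⟩

theorem isAffineMor_of_iso {X Y : AlgSp.Sp S} (e : X ≅ Y) : AlgSp.IsAffineMor e.hom :=
  isAffineMor_of_repWith _ (MorphismProperty.of_isIso (AlgSp.RepWith @IsAffineHom) e.hom)

section Main

open Groth.Agent.Lib.Helper12.FieldGpd

/-- Source and target of a groupoid whose object space is the spectrum of a field. -/
theorem st_of_field (hR : AlgSp.IsAlgSpace G.R) {k : Type u} [Field k]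
    (σ : Spec (CommRingCat.of k) ⟶ S) (eU : G.U ≅ (AlgSp.yon S).obj (Over.mk σ)) :
    ∀ f ∈ [G.s, G.t], AlgSp.IsSurjectiveMor f ∧ AlgSp.LocP @Flat f ∧ AlgSp.IsUnivOpenMor f := by
  intro f hf
  simp only [List.mem_cons, List.not_mem_nil, or_false] at hf
  rcases hf with rfl | rfl
  · exact ⟨isSurjectiveMor_of_section G.s G.e G.e_s, locP_flat_to_field G.s σ eU,
      isUnivOpenMor_to_field hR G.s σ eU⟩
  · exact ⟨isSurjectiveMor_of_section G.t G.e G.e_t, locP_flat_to_field G.t σ eU,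
      isUnivOpenMor_to_field hR G.t σ eU⟩

theorem restrict_fieldExt (hR : AlgSp.IsAlgSpace G.R) (hR' : AlgSp.IsAlgSpace G'.R)
    (k k' : Type u) [Field k] [Field k'] [Algebra k k'] (σ : Spec (CommRingCat.of k) ⟶ S)
    (eU : G.U ≅ ((AlgSp.yon S).obj (Over.mk σ)))
    (eU' : G'.U ≅ ((AlgSp.yon S).obj
      (Over.mk (Spec.map (CommRingCat.ofHom (algebraMap k k')) ≫ σ))))
    (hφ : φ.IsRestriction)
    (hfU : φ.fU = eU'.hom ≫ (AlgSp.yon S).map
      (Over.homMk (Spec.map (CommRingCat.ofHom (algebraMap k k'))) rfl :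
        Over.mk (Spec.map (CommRingCat.ofHom (algebraMap k k')) ≫ σ) ⟶ Over.mk σ) ≫ eU.inv) :
    (AlgSp.IsSurjectiveMor φ.fU ∧ AlgSp.LocP @Flat φ.fU ∧ AlgSp.IsUnivOpenMor φ.fU) ∧
      (AlgSp.IsSurjectiveMor φ.fR ∧ AlgSp.LocP @Flat φ.fR ∧ AlgSp.IsUnivOpenMor φ.fR ∧
        AlgSp.IsAffineMor φ.fR) := by
  have hU : AlgSp.IsAlgSpace G.U := (AlgSp.IsAlgSpace.yon_obj _).of_iso eU.symm
  have hU' : AlgSp.IsAlgSpace G'.U := (AlgSp.IsAlgSpace.yon_obj _).of_iso eU'.symm
  let h : Over.mk (Spec.map (CommRingCat.ofHom (algebraMap k k')) ≫ σ) ⟶ Over.mk σ :=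
    Over.homMk (Spec.map (CommRingCat.ofHom (algebraMap k k'))) rfl
  have hsurj₀ : Function.Surjective h.left := by
    intro y
    obtain ⟨x⟩ : Nonempty ↥(Spec (CommRingCat.of k')) := inferInstance
    have : Subsingleton ↥(Spec (CommRingCat.of k)) :=
      inferInstanceAs (Subsingleton (PrimeSpectrum k))
    exact ⟨x, Subsingleton.elim (α := ↥(Spec (CommRingCat.of k))) _ _⟩
  have h1 : AlgSp.IsSurjectiveMor φ.fU := by
    rw [hfU]
    exact isSurjectiveMor_comp _ _ (isSurjectiveMor_of_iso eU')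
      (isSurjectiveMor_comp _ _
        (Groth.Agent.Lib.Helper15Quot.isSurjectiveMor_yon_map_of_surjective h hsurj₀)
        (isSurjectiveMor_of_iso eU.symm))
  have h2 : AlgSp.LocP @Flat φ.fU := locP_flat_to_field φ.fU σ eU
  have h3 : AlgSp.IsUnivOpenMor φ.fU := isUnivOpenMor_to_field hU' φ.fU σ eU
  have h4 : AlgSp.IsAffineMor φ.fU := by
    rw [hfU]
    refine Groth.Agent.S9944.isAffineMor_comp _ _ (isAffineMor_of_iso eU')
      (Groth.Agent.S9944.isAffineMor_comp _ _ ?_ (isAffineMor_of_iso eU.symm))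
    apply isAffineMor_of_repWith
    rw [AlgSp.repWith_yon_map_iff]
    change IsAffineHom (Spec.map (CommRingCat.ofHom (algebraMap k k')))
    infer_instance
  refine ⟨⟨h1, h2, h3⟩, ?_, ?_, ?_, ?_⟩
  · exact fR_property φ _ bcStable_surj (fun _ _ a b ha hb => isSurjectiveMor_comp a b ha hb)
      hU hR hU' hR' hφ h1
  · exact fR_property φ _ Groth.Agent.Lib.Helper15PtsTop.bcStable_flat
      (fun hY hZ a b ha hb => Groth.Agent.Lib.Helper15PtsTop.locP_flat_comp hY hZ a b ha hb)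
      hU hR hU' hR' hφ h2
  · exact fR_property φ _ bcStable_univOpen
      (fun hY hZ a b ha hb => Groth.Agent.S10552.isUnivOpenMor_comp hY hZ a b ha hb)
      hU hR hU' hR' hφ h3
  · exact fR_property φ _ bcStable_affine
      (fun _ _ a b ha hb => Groth.Agent.S9944.isAffineMor_comp a b ha hb)
      hU hR hU' hR' hφ h4

end Main

end Groth.Agent.Lib.Helper15GpdField
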