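-- helper15: groupoids in algebraic spaces: the diagonal of j, the diagonal of the stabilizer and its unit section are base changes of one another
import Mathlib
import Groth.Prelude.Def_AlgSpGpd
import Groth.Agent.S9874
import Groth.Agent.S9902
import Groth.Agent.S9912

set_option autoImplicit false
open CategoryTheory CategoryTheory.Limits AlgebraicGeometry

universe u

namespace Groth.Agent.Lib.Helper15GpdSep

variable {S : Scheme.{u}} {B : AlgSp.Sp S} (G : AlgSp.GroupoidSp B)

theorem lift_congr {C : Type*} [Category C] {X Y Z W : C} {f : X ⟶ Z} {g : Y ⟶ Z} [HasPullback f g]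
    {a a' : W ⟶ X} {b b' : W ⟶ Y} (h : a ≫ f = b ≫ g) (ha : a = a') (hb : b = b') :
    pullback.lift a b h = pullback.lift a' b' (by rw [← ha, ← hb, h]) := by
  subst ha hb
  rfl

theorem comp_lift {C : Type*} [Category C] {X Y Z W W' : C} {f : X ⟶ Z} {g : Y ⟶ Z}
    [HasPullback f g] (k : W' ⟶ W) (a : W ⟶ X) (b : W ⟶ Y) (h : a ≫ f = b ≫ g) :
    k ≫ pullback.lift a b h = pullback.lift (k ≫ a) (k ≫ b)
      (by rw [Category.assoc, Category.assoc, h]) := by
  apply pullback.hom_ext
  · rw [Category.assoc, pullback.lift_fst, pullback.lift_fst]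
  · rw [Category.assoc, pullback.lift_snd, pullback.lift_snd]

theorem diag_fst : G.diag ≫ pullback.fst G.pU G.pU = 𝟙 _ := pullback.lift_fst _ _ _
theorem diag_snd : G.diag ≫ pullback.snd G.pU G.pU = 𝟙 _ := pullback.lift_snd _ _ _

theorem fst_t_eq : pullback.fst G.j G.j ≫ G.t = pullback.snd G.j G.j ≫ G.t := by
  rw [← G.j_fst, ← Category.assoc, pullback.condition, Category.assoc]

theorem fst_s_eq : pullback.fst G.j G.j ≫ G.s = pullback.snd G.j G.j ≫ G.s := by
  rw [← G.j_snd, ← Category.assoc, pullback.condition, Category.assoc]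

theorem delta_aux : (pullback.fst G.j G.j ≫ G.i) ≫ G.s = pullback.snd G.j G.j ≫ G.t := by
  rw [Category.assoc, G.i_s, fst_t_eq]

/-- The arrow `α⁻¹ ∘ β` for a pair of arrows with the same source and target. -/
noncomputable def deltaR : pullback G.j G.j ⟶ G.R :=
  pullback.lift (pullback.fst G.j G.j ≫ G.i) (pullback.snd G.j G.j) (delta_aux G) ≫ G.c

theorem deltaR_j : deltaR G ≫ G.j = (pullback.snd G.j G.j ≫ G.s) ≫ G.diag := by
  apply pullback.hom_ext
  · rw [Category.assoc, G.j_fst, Category.assoc, Category.assoc, diag_fst, Category.comp_id]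
    unfold deltaR
    rw [G.comp_t, Category.assoc, G.i_t, fst_s_eq]
  · rw [Category.assoc, G.j_snd, Category.assoc, Category.assoc, diag_snd, Category.comp_id]
    unfold deltaR
    rw [G.comp_s]

/-- The map `(α, β) ↦ α⁻¹ ∘ β` to the stabilizer. -/
noncomputable def delta : pullback G.j G.j ⟶ G.stabilizer :=
  pullback.lift (deltaR G) (pullback.snd G.j G.j ≫ G.s) (deltaR_j G)

theorem delta_ι : delta G ≫ G.stabilizerι = deltaR G := pullback.lift_fst _ _ _
theorem delta_toU : delta G ≫ G.stabilizerToU = pullback.snd G.j G.j ≫ G.s :=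
  pullback.lift_snd _ _ _

/-- Two arrows `α, β` with the same source and target and `α⁻¹ ∘ β` an identity are equal. -/
theorem eq_of_inv_comp_eq {T : AlgSp.Sp S} (α β : T ⟶ G.R) (hts : α ≫ G.t = β ≫ G.t)
    (h1 : (α ≫ G.i) ≫ G.s = β ≫ G.t)
    (h2 : pullback.lift (α ≫ G.i) β h1 ≫ G.c = α ≫ G.s ≫ G.e) : α = β := by
  have h3 : α ≫ G.s = (α ≫ G.i) ≫ G.t := by rw [Category.assoc, G.i_t]
  have e1 := G.e_comp β
  have e2 := G.comp_i α
  have e3 := G.assoc α (α ≫ G.i) β h3 h1
  have e4 := G.comp_e α
  calc α = pullback.lift α (α ≫ G.s ≫ G.e)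
        (by rw [Category.assoc, Category.assoc, G.e_t, Category.comp_id]) ≫ G.c := e4.symm
    _ = pullback.lift α (pullback.lift (α ≫ G.i) β h1 ≫ G.c)
        (h3.trans (G.comp_t (α ≫ G.i) β h1).symm) ≫ G.c := by
      congr 1
      apply lift_congr
      · rfl
      · rw [h2]
    _ = pullback.lift (pullback.lift α (α ≫ G.i) h3 ≫ G.c) β
        ((G.comp_s α (α ≫ G.i) h3).trans h1) ≫ G.c := e3.symm
    _ = pullback.lift (β ≫ G.t ≫ G.e) β
        (by rw [Category.assoc, Category.assoc, G.e_s, Category.comp_id]) ≫ G.c := by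
      congr 1
      apply lift_congr
      · rw [e2, ← Category.assoc, hts, Category.assoc]
      · rfl
    _ = β := e1

variable (eG : G.U ⟶ G.stabilizer) (heG : eG ≫ G.stabilizerι = G.e)

include heG in
theorem eG_toU : eG ≫ G.stabilizerToU = 𝟙 G.U := by
  have h1 : G.stabilizerι ≫ G.j = G.stabilizerToU ≫ G.diag := pullback.condition
  have h2 : eG ≫ G.stabilizerToU ≫ G.diag ≫ pullback.fst G.pU G.pU =
      eG ≫ G.stabilizerι ≫ G.j ≫ pullback.fst G.pU G.pU := by
    rw [← Category.assoc G.stabilizerι, h1, Category.assoc]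
  rw [diag_fst, Category.comp_id, G.j_fst, ← Category.assoc, heG, G.e_t] at h2
  exact h2

include heG in
/-- The diagonal of `j` is a base change of the unit section of the stabilizer. -/
theorem isPullback_diagonal_j :
    IsPullback G.s (pullback.diagonal G.j) eG (delta G) := by
  have hsec := eG_toU G eG heG
  have hcomm : G.s ≫ eG = pullback.diagonal G.j ≫ delta G := by
    apply pullback.hom_ext
    · change (G.s ≫ eG) ≫ G.stabilizerι = (pullback.diagonal G.j ≫ delta G) ≫ G.stabilizerι
      rw [Category.assoc, heG, Category.assoc, delta_ι]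
      unfold deltaR
      rw [← Category.assoc, comp_lift]
      symm
      refine Eq.trans ?_ ((G.i_comp (𝟙 G.R)).trans (Category.id_comp _))
      congr 1
      apply lift_congr
      · rw [← Category.assoc, pullback.diagonal_fst]
      · rw [pullback.diagonal_snd]
    · change (G.s ≫ eG) ≫ G.stabilizerToU = (pullback.diagonal G.j ≫ delta G) ≫ G.stabilizerToU
      rw [Category.assoc, hsec, Category.comp_id, Category.assoc, delta_toU,
        ← Category.assoc, pullback.diagonal_snd, Category.id_comp]
  have key : ∀ c : PullbackCone eG (delta G),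
      c.snd ≫ pullback.fst G.j G.j = c.snd ≫ pullback.snd G.j G.j := by
    intro c
    have hc := c.condition
    have hu : c.fst = c.snd ≫ pullback.snd G.j G.j ≫ G.s := by
      have := congrArg (fun k => k ≫ G.stabilizerToU) hc
      simp only [Category.assoc] at this
      rw [hsec, Category.comp_id, delta_toU] at this
      exact this
    have hR : c.fst ≫ G.e = c.snd ≫ deltaR G := by
      have := congrArg (fun k => k ≫ G.stabilizerι) hc
      simp only [Category.assoc] at this
      rw [heG, delta_ι] at this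
      exact this
    have hts : (c.snd ≫ pullback.fst G.j G.j) ≫ G.t = (c.snd ≫ pullback.snd G.j G.j) ≫ G.t := by
      rw [Category.assoc, Category.assoc, fst_t_eq]
    have hss : (c.snd ≫ pullback.fst G.j G.j) ≫ G.s = (c.snd ≫ pullback.snd G.j G.j) ≫ G.s := by
      rw [Category.assoc, Category.assoc, fst_s_eq]
    have hRHS : (c.snd ≫ pullback.fst G.j G.j) ≫ G.s ≫ G.e = c.snd ≫ deltaR G := by
      rw [← hR, hu, Category.assoc, Category.assoc, Category.assoc,
        ← Category.assoc (pullback.fst G.j G.j), fst_s_eq, Category.assoc]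
    have h1 : ((c.snd ≫ pullback.fst G.j G.j) ≫ G.i) ≫ G.s =
        (c.snd ≫ pullback.snd G.j G.j) ≫ G.t := by rw [Category.assoc, G.i_s, hts]
    refine eq_of_inv_comp_eq G _ _ hts h1 ?_
    refine Eq.trans ?_ hRHS.symm
    unfold deltaR
    refine Eq.trans ?_ (Category.assoc c.snd _ G.c)
    rw [comp_lift]
    congr 1
  refine ⟨⟨hcomm⟩, ⟨PullbackCone.IsLimit.mk _ (fun c => c.snd ≫ pullback.fst G.j G.j) ?_ ?_ ?_⟩⟩
  · intro c
    have hc := c.condition
    have := congrArg (fun k => k ≫ G.stabilizerToU) hc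
    simp only [Category.assoc] at this
    rw [hsec, Category.comp_id, delta_toU] at this
    rw [this, Category.assoc, fst_s_eq]
  · intro c
    apply pullback.hom_ext
    · rw [Category.assoc, pullback.diagonal_fst, Category.comp_id]
    · rw [Category.assoc, pullback.diagonal_snd, Category.comp_id, key c]
  · intro c m _ hm₂
    rw [← hm₂, Category.assoc, pullback.diagonal_fst, Category.comp_id]

section Transfer

variable (P : MorphismProperty (AlgSp.Sp S)) [P.IsStableUnderBaseChange]

theorem diag_stab_of_diag_j (h : P (pullback.diagonal G.j)) :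
    P (pullback.diagonal G.stabilizerToU) :=
  MorphismProperty.of_isPullback (P := P.diagonal) (IsPullback.of_hasPullback G.j G.diag) h

include heG in
theorem unit_of_diag_stab (h : P (pullback.diagonal G.stabilizerToU)) : P eG :=
  Groth.Agent.S9902.of_section P G.stabilizerToU eG (eG_toU G eG heG) h

include heG in
theorem diag_j_of_unit (h : P eG) : P (pullback.diagonal G.j) :=
  MorphismProperty.of_isPullback (P := P) (isPullback_diagonal_j G eG heG) h

end Transfer

theorem isAlgSpace_stabilizer (hB : AlgSp.IsAlgSpace B) (hU : AlgSp.IsAlgSpace G.U)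
    (hR : AlgSp.IsAlgSpace G.R) : AlgSp.IsAlgSpace G.stabilizer := by
  have hUU : AlgSp.IsAlgSpace (pullback G.pU G.pU) :=
    Groth.Agent.S9874.isAlgSpace_of_isPullback hB.diag hU hU (IsPullback.of_hasPullback _ _)
  exact Groth.Agent.S9874.isAlgSpace_of_isPullback hUU.diag hR hU
    (IsPullback.of_hasPullback G.j G.diag)

include heG in
theorem representable_unit (hB : AlgSp.IsAlgSpace B) (hU : AlgSp.IsAlgSpace G.U)
    (hR : AlgSp.IsAlgSpace G.R) : AlgSp.Representable eG := by
  let X : AlgSp.Space S := ⟨G.stabilizer, isAlgSpace_stabilizer G hB hU hR⟩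
  let Y : AlgSp.Space S := ⟨G.U, hU⟩
  let f : X ⟶ Y := ObjectProperty.homMk G.stabilizerToU
  exact Groth.Agent.S9902.of_section AlgSp.Representable G.stabilizerToU eG (eG_toU G eG heG)
    (Groth.Agent.S9900.result f).1

include heG in
theorem quasiCompact_unit_iff (hB : AlgSp.IsAlgSpace B) (hU : AlgSp.IsAlgSpace G.U)
    (hR : AlgSp.IsAlgSpace G.R) :
    AlgSp.RepWith @QuasiCompact eG ↔ AlgSp.IsQuasiCompactMor eG := by
  let X : AlgSp.Space S := ⟨G.stabilizer, isAlgSpace_stabilizer G hB hU hR⟩
  let Y : AlgSp.Space S := ⟨G.U, hU⟩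
  let f : Y ⟶ X := ObjectProperty.homMk eG
  exact Groth.Agent.S9912.result f (representable_unit G eG heG hB hU hR)

end Groth.Agent.Lib.Helper15GpdSep
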