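import Groth.Agent.Lib.Helper15LinTopComplete
import Mathlib.Topology.Algebra.GroupCompletion
import Mathlib.Topology.Algebra.OpenSubgroup

/-!
Open mapping lemma for complete first countable groups with a basis of open subgroups, and
exactness properties of the completion of such groups.
-/

set_option autoImplicit false

namespace Groth.Agent.Lib.Helper15

open Topology Filter UniformSpace

section OML

variable {G H : Type*} [AddCommGroup G] [UniformSpace G] [IsUniformAddGroup G] [CompleteSpace G]
  [AddCommGroup H] [TopologicalSpace H] [IsTopologicalAddGroup H] [T2Space H]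

/-- successive approximation: if the closures of the images of a countable basis of open
subgroups are neighbourhoods of zero, these closures are the images. -/
theorem closure_image_subset_of_complete (f : G →+ H) (hf : Continuous f)
    (U : ℕ → AddSubgroup G) (hUo : ∀ n, IsOpen (U n : Set G))
    (hUb : (𝓝 (0 : G)).HasAntitoneBasis (fun n => (U n : Set G)))
    (h : ∀ n, closure (f '' (U n : Set G)) ∈ 𝓝 (0 : H)) (n : ℕ) :
    closure (f '' (U n : Set G)) ⊆ f '' (U n : Set G) := by
  classical
  have hna : NonarchimedeanAddGroup G :=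
    { is_nonarchimedean := by
        intro W hW
        obtain ⟨m, -, hm⟩ := hUb.toHasBasis.mem_iff.1 hW
        exact ⟨⟨U m, hUo m⟩, hm⟩ }
  have hUanti : ∀ m k, m ≤ k → U k ≤ U m := fun m k hmk => hUb.antitone hmk
  -- the closures as subgroups
  set V : ℕ → AddSubgroup H := fun k => ((U k).map f).topologicalClosure with hVdef
  have hVcoe : ∀ k, (V k : Set H) = closure (f '' (U k : Set G)) := by
    intro k
    rw [hVdef]
    simp only [AddSubgroup.topologicalClosure_coe, AddSubgroup.coe_map]
  have hVanti : ∀ m k, m ≤ k → V k ≤ V m := by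
    intro m k hmk
    exact AddSubgroup.topologicalClosure_mono (AddSubgroup.map_mono (hUanti m k hmk))
  have hVnhds : ∀ k, (V k : Set H) ∈ 𝓝 (0 : H) := fun k => by rw [hVcoe]; exact h k
  have hVb : ∀ W ∈ 𝓝 (0 : H), ∃ m, (V m : Set H) ⊆ W := by
    intro W hW
    obtain ⟨W', hW'n, hW'c, hW'W⟩ := exists_mem_nhds_isClosed_subset hW
    have h1 : f ⁻¹' W' ∈ 𝓝 (0 : G) := by
      have := hf.tendsto 0
      rw [map_zero] at this
      exact this hW'n
    obtain ⟨m, -, hm⟩ := hUb.toHasBasis.mem_iff.1 h1
    refine ⟨m, subset_trans ?_ hW'W⟩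
    rw [hVcoe]
    apply closure_minimal _ hW'c
    rintro _ ⟨a, ha, rfl⟩
    exact hm ha
  have hstep : ∀ k, ∀ b ∈ V k, ∃ a ∈ U k, b - f a ∈ V (k + 1) := by
    intro k b hb
    have hb' : b ∈ closure (f '' (U k : Set G)) := by rw [← hVcoe]; exact hb
    rw [mem_closure_iff_nhds_zero] at hb'
    obtain ⟨_, ⟨a, ha, rfl⟩, hy⟩ := hb' _ (hVnhds (k + 1))
    refine ⟨a, ha, ?_⟩
    have h2 : b - f a = -(f a - b) := by abel
    rw [h2]
    exact (V (k + 1)).neg_mem hy
  intro b hb
  have hb0 : b ∈ V (n + 0) := by
    change b ∈ (V n : Set H)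
    rw [hVcoe]
    exact hb
  obtain ⟨ys, hys, hrem⟩ := exists_seq_of_step (fun k (x : H) => x ∈ V (n + k))
    (fun k (y : G) => y ∈ U (n + k)) (fun y => f y)
    (fun k x hx => hstep (n + k) x hx) b hb0
  have htend : Tendsto ys atTop (𝓝 0) := by
    rw [hUb.toHasBasis.tendsto_right_iff]
    intro m _
    filter_upwards [eventually_ge_atTop m] with k hk
    exact hUanti m (n + k) (by omega) (hys k)
  have hsum : Summable ys := by
    apply NonarchimedeanAddGroup.summable_of_tendsto_cofinite_zero
    rw [Nat.cofinite_eq_atTop]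
    exact htend
  have hlim := hsum.hasSum.tendsto_sum_nat
  refine ⟨∑' k, ys k, ?_, ?_⟩
  · have hcl : IsClosed (U n : Set G) := AddSubgroup.isClosed_of_isOpen (U n) (hUo n)
    refine hcl.mem_of_tendsto hlim (Eventually.of_forall fun N => ?_)
    exact AddSubgroup.sum_mem _ (fun k _ => hUanti n (n + k) (by omega) (hys k))
  · have h1 : Tendsto (fun N => f (∑ k ∈ Finset.range N, ys k)) atTop
        (𝓝 (f (∑' k, ys k))) := (hf.tendsto _).comp hlim
    have h2' : Tendsto (fun N => f (∑ k ∈ Finset.range N, ys k)) atTop (𝓝 b) := by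
      have h3' : Tendsto (fun N => b - ∑ k ∈ Finset.range N, f (ys k)) atTop (𝓝 0) := by
        rw [tendsto_def]
        intro W hW
        obtain ⟨m, hm⟩ := hVb W hW
        rw [mem_atTop_sets]
        exact ⟨m, fun N hN => hm (hVanti m (n + N) (by omega) (hrem N))⟩
      have h5 := (tendsto_const_nhds (x := b)).sub h3'
      simpa [map_sum] using h5
    exact tendsto_nhds_unique h1 h2'

theorem isOpenMap_of_complete (f : G →+ H) (hf : Continuous f)
    (U : ℕ → AddSubgroup G) (hUo : ∀ n, IsOpen (U n : Set G))
    (hUb : (𝓝 (0 : G)).HasAntitoneBasis (fun n => (U n : Set G)))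
    (h : ∀ n, closure (f '' (U n : Set G)) ∈ 𝓝 (0 : H)) : IsOpenMap f := by
  rw [IsTopologicalAddGroup.isOpenMap_iff_nhds_zero]
  intro S hS
  rw [Filter.mem_map] at hS
  obtain ⟨n, -, hn⟩ := hUb.toHasBasis.mem_iff.1 hS
  refine Filter.mem_of_superset (h n) ?_
  intro b hb
  obtain ⟨a, ha, rfl⟩ := closure_image_subset_of_complete f hf U hUo hUb h n hb
  exact hn ha

theorem surjective_of_complete (f : G →+ H) (hf : Continuous f)
    (U : ℕ → AddSubgroup G) (hUo : ∀ n, IsOpen (U n : Set G))
    (hUb : (𝓝 (0 : G)).HasAntitoneBasis (fun n => (U n : Set G)))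
    (h : ∀ n, closure (f '' (U n : Set G)) ∈ 𝓝 (0 : H)) (hd : DenseRange f) :
    Function.Surjective f := by
  intro b
  have hb : b ∈ closure (Set.range f) := hd b
  rw [mem_closure_iff_nhds_zero] at hb
  obtain ⟨_, ⟨a₀, rfl⟩, hy⟩ := hb _ (h 0)
  -- `f a₀ - b` lies in the closure, hence is an image
  obtain ⟨a₁, -, ha₁⟩ := closure_image_subset_of_complete f hf U hUo hUb h 0 hy
  exact ⟨a₀ - a₁, by rw [map_sub, ha₁]; abel⟩

end OML

section Completion

variable {M : Type*} [AddCommGroup M] [UniformSpace M] [IsUniformAddGroup M]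

/-- the closure in the completion of the image of a subgroup -/
noncomputable def hatSubgroup (U : AddSubgroup M) : AddSubgroup (Completion M) :=
  (U.map (Completion.toCompl : M →+ Completion M)).topologicalClosure

theorem coe_hatSubgroup (U : AddSubgroup M) :
    (hatSubgroup U : Set (Completion M)) = closure (((↑) : M → Completion M) '' (U : Set M)) := by
  rw [hatSubgroup]
  simp only [AddSubgroup.topologicalClosure_coe, AddSubgroup.coe_map]
  rfl

theorem hatSubgroup_mono {U V : AddSubgroup M} (h : U ≤ V) : hatSubgroup U ≤ hatSubgroup V :=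
  AddSubgroup.topologicalClosure_mono (AddSubgroup.map_mono h)

theorem coe_mem_hatSubgroup {U : AddSubgroup M} {m : M} (hm : m ∈ U) :
    (m : Completion M) ∈ hatSubgroup U := by
  change (m : Completion M) ∈ (hatSubgroup U : Set (Completion M))
  rw [coe_hatSubgroup]
  exact subset_closure ⟨m, hm, rfl⟩

theorem hatSubgroup_mem_nhds {U : AddSubgroup M} (hU : IsOpen (U : Set M)) :
    (hatSubgroup U : Set (Completion M)) ∈ 𝓝 (0 : Completion M) := by
  have h1 : closure (((↑) : M → Completion M) '' (U : Set M)) ∈ 𝓝 (((0 : M) : Completion M)) :=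
    Completion.isDenseInducing_coe.closure_image_mem_nhds (hU.mem_nhds U.zero_mem)
  rw [← coe_hatSubgroup, Completion.coe_zero] at h1
  exact h1

theorem isOpen_hatSubgroup {U : AddSubgroup M} (hU : IsOpen (U : Set M)) :
    IsOpen (hatSubgroup U : Set (Completion M)) :=
  AddSubgroup.isOpen_of_mem_nhds _ (hatSubgroup_mem_nhds hU)

theorem coe_mem_hatSubgroup_iff {U : AddSubgroup M} (hU : IsClosed (U : Set M)) {m : M} :
    (m : Completion M) ∈ hatSubgroup U ↔ m ∈ U := by
  refine ⟨fun hm => ?_, coe_mem_hatSubgroup⟩
  have h := Completion.isDenseInducing_coe.isInducing.closure_eq_preimage_closure_image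
    (U : Set M)
  rw [hU.closure_eq] at h
  rw [← SetLike.mem_coe, h, ← coe_hatSubgroup]
  exact hm

theorem exists_sub_mem_hatSubgroup {U : AddSubgroup M} (hU : IsOpen (U : Set M))
    (x : Completion M) : ∃ m : M, x - (m : Completion M) ∈ hatSubgroup U := by
  have hx : x ∈ closure (Set.range ((↑) : M → Completion M)) := Completion.denseRange_coe x
  rw [mem_closure_iff_nhds_zero] at hx
  obtain ⟨_, ⟨m, rfl⟩, hy⟩ := hx _ (hatSubgroup_mem_nhds hU)
  refine ⟨m, ?_⟩
  have h2 : x - (m : Completion M) = -((m : Completion M) - x) := by abel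
  rw [h2]
  exact (hatSubgroup U).neg_mem hy

theorem hasBasis_hatSubgroup {ι : Type*} {p : ι → Prop} {U : ι → AddSubgroup M}
    (hb : (𝓝 (0 : M)).HasBasis p (fun i => (U i : Set M))) :
    (𝓝 (0 : Completion M)).HasBasis p (fun i => (hatSubgroup (U i) : Set (Completion M))) := by
  have h := hb.hasBasis_of_isDenseInducing (Completion.isDenseInducing_coe (α := M))
  rw [Completion.coe_zero] at h
  simp_rw [← coe_hatSubgroup] at h
  exact h

variable {Q : Type*} [AddCommGroup Q] [UniformSpace Q] [IsUniformAddGroup Q]

theorem image_hatSubgroup_subset (f : M →+ Q) (hf : Continuous f) (U : AddSubgroup M) :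
    (Completion.map f) '' (hatSubgroup U : Set (Completion M)) ⊆
      (hatSubgroup (U.map f) : Set (Completion Q)) := by
  have hfu : UniformContinuous f := uniformContinuous_of_continuousAt_zero f hf.continuousAt
  rw [coe_hatSubgroup, coe_hatSubgroup]
  refine (image_closure_subset_closure_image Completion.continuous_map).trans ?_
  apply _root_.closure_mono
  rintro _ ⟨_, ⟨m, hm, rfl⟩, rfl⟩
  exact ⟨f m, ⟨m, hm, rfl⟩, (Completion.map_coe hfu m).symm⟩

/-- exactness in the middle of the completed sequence -/
theorem preimage_zero_completion_map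
    (hM : ∀ W ∈ 𝓝 (0 : M), ∃ V : AddSubgroup M, IsOpen (V : Set M) ∧ (V : Set M) ⊆ W)
    (f : M →+ Q) (hf : Continuous f) (hopen : IsOpenMap f) :
    (Completion.map f) ⁻¹' {0} =
      closure (((↑) : M → Completion M) '' ((f.ker : AddSubgroup M) : Set M)) := by
  have hfu : UniformContinuous f := uniformContinuous_of_continuousAt_zero f hf.continuousAt
  have hbasis : (𝓝 (0 : M)).HasBasis (fun V : AddSubgroup M => IsOpen (V : Set M))
      (fun V => (V : Set M)) := by
    constructor
    intro W
    constructor
    · intro hW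
      obtain ⟨V, hV, hVW⟩ := hM W hW
      exact ⟨V, hV, hVW⟩
    · rintro ⟨V, hV, hVW⟩
      exact Filter.mem_of_superset (hV.mem_nhds V.zero_mem) hVW
  apply Set.Subset.antisymm
  · intro x hx
    have hx0 : Completion.map f x = 0 := hx
    rw [mem_closure_iff_nhds_zero]
    intro W hW
    obtain ⟨U, hUo, hUW⟩ := (hasBasis_hatSubgroup hbasis).mem_iff.1 hW
    obtain ⟨m, hm⟩ := exists_sub_mem_hatSubgroup hUo x
    -- the image of `x - m` lies in the closure of the image of `f U`
    have h1 : Completion.map f (x - (m : Completion M)) ∈ hatSubgroup (U.map f) :=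
      image_hatSubgroup_subset f hf U ⟨_, hm, rfl⟩
    have h2 : Completion.map f (x - (m : Completion M)) = ((f (-m) : Q) : Completion Q) := by
      have := (AddMonoidHom.completion f hf).map_sub x (m : Completion M)
      change Completion.map f (x - (m : Completion M)) =
        Completion.map f x - Completion.map f (m : Completion M) at this
      rw [this, hx0, Completion.map_coe hfu, zero_sub, map_neg, Completion.coe_neg]
    rw [h2] at h1
    have hfUo : IsOpen ((U.map f : AddSubgroup Q) : Set Q) := by
      rw [AddSubgroup.coe_map]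
      exact hopen _ hUo
    have hfUc : IsClosed ((U.map f : AddSubgroup Q) : Set Q) :=
      AddSubgroup.isClosed_of_isOpen _ hfUo
    rw [coe_mem_hatSubgroup_iff hfUc] at h1
    obtain ⟨u, hu, hfu'⟩ := h1
    refine ⟨((m + u : M) : Completion M), ⟨m + u, ?_, rfl⟩, hUW ?_⟩
    · change f (m + u) = 0
      rw [map_add, hfu', map_neg]
      abel
    · have h3 : ((m + u : M) : Completion M) - x = (u : Completion M) - (x - (m : Completion M)) := by
        rw [Completion.coe_add]; abel
      rw [h3]
      exact (hatSubgroup U).sub_mem (coe_mem_hatSubgroup hu) hm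
  · apply closure_minimal
    · rintro _ ⟨n, hn, rfl⟩
      change Completion.map f (n : Completion M) = 0
      rw [Completion.map_coe hfu]
      have : f n = 0 := hn
      rw [this, Completion.coe_zero]
    · exact isClosed_singleton.preimage Completion.continuous_map

/-- right exactness and openness of the completed quotient map, first countable case -/
theorem completion_map_surjective_isOpenMap
    (hM : ∀ W ∈ 𝓝 (0 : M), ∃ V : AddSubgroup M, IsOpen (V : Set M) ∧ (V : Set M) ⊆ W)
    (hc : (𝓝 (0 : M)).IsCountablyGenerated)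
    (f : M →+ Q) (hf : Continuous f) (hopen : IsOpenMap f) (hsurj : Function.Surjective f) :
    Function.Surjective (Completion.map f) ∧ IsOpenMap (Completion.map f) := by
  have hfu : UniformContinuous f := uniformContinuous_of_continuousAt_zero f hf.continuousAt
  have hbasis : (𝓝 (0 : M)).HasBasis (fun V : AddSubgroup M => IsOpen (V : Set M))
      (fun V => (V : Set M)) := by
    constructor
    intro W
    constructor
    · intro hW
      obtain ⟨V, hV, hVW⟩ := hM W hW
      exact ⟨V, hV, hVW⟩
    · rintro ⟨V, hV, hVW⟩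
      exact Filter.mem_of_superset (hV.mem_nhds V.zero_mem) hVW
  obtain ⟨V, hVo, hVb⟩ := hbasis.exists_antitone_subbasis
  have hVanti : ∀ m k, m ≤ k → V k ≤ V m := fun m k hmk => hVb.antitone hmk
  have hUb : (𝓝 (0 : Completion M)).HasAntitoneBasis
      (fun n => (hatSubgroup (V n) : Set (Completion M))) :=
    ⟨hasBasis_hatSubgroup hVb.toHasBasis, fun m k hmk => hatSubgroup_mono (hVanti m k hmk)⟩
  have hcl : ∀ n, closure ((AddMonoidHom.completion f hf) ''
      (hatSubgroup (V n) : Set (Completion M))) ∈ 𝓝 (0 : Completion Q) := by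
    intro n
    have hfVo : IsOpen (((V n).map f : AddSubgroup Q) : Set Q) := by
      rw [AddSubgroup.coe_map]
      exact hopen _ (hVo n)
    refine Filter.mem_of_superset (hatSubgroup_mem_nhds hfVo) ?_
    rw [coe_hatSubgroup]
    apply _root_.closure_mono
    rintro _ ⟨_, ⟨m, hm, rfl⟩, rfl⟩
    exact ⟨(m : Completion M), coe_mem_hatSubgroup hm, Completion.map_coe hfu m⟩
  have hcont : Continuous (AddMonoidHom.completion f hf) :=
    AddMonoidHom.continuous_completion f hf
  have hd : DenseRange (AddMonoidHom.completion f hf) := by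
    have h1 : DenseRange (((↑) : Q → Completion Q) ∘ f) :=
      Completion.denseRange_coe.comp hsurj.denseRange (Completion.continuous_coe Q)
    refine h1.mono ?_
    rintro _ ⟨m, rfl⟩
    exact ⟨(m : Completion M), Completion.map_coe hfu m⟩
  exact ⟨surjective_of_complete (AddMonoidHom.completion f hf) hcont _
      (fun n => isOpen_hatSubgroup (hVo n)) hUb hcl hd,
    isOpenMap_of_complete (AddMonoidHom.completion f hf) hcont _
      (fun n => isOpen_hatSubgroup (hVo n)) hUb hcl⟩

end Completion

end Groth.Agent.Lib.Helper15
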