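import Mathlib.RingTheory.Henselian
import Mathlib.RingTheory.LocalRing.ResidueField.Basic
import Mathlib.RingTheory.QuasiFinite.Basic
import Mathlib.RingTheory.FiniteType
import Mathlib.RingTheory.Ideal.Over
import Mathlib.RingTheory.AdjoinRoot
import Mathlib.RingTheory.Localization.Away.AdjoinRoot
import Mathlib.RingTheory.Localization.Away.Lemmas
import Mathlib.RingTheory.LocalRing.Module
import Mathlib.RingTheory.Flat.Localization
import Mathlib.RingTheory.Flat.Stability
import Mathlib.RingTheory.Nakayama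
import Mathlib.Tactic

/-!
A local ring over which every finite type algebra splits into a finite part and a part which is
nowhere quasi-finite over the closed point is henselian.
-/

set_option autoImplicit false
universe u

namespace Groth.Agent.Lib.Helper15.Hensel

open Polynomial IsLocalRing

variable {R : Type u} [CommRing R]

/-- Division by `X - a₀`. -/
theorem exists_quot (f : R[X]) (a₀ : R) :
    ∃ g : R[X], f = (X - C a₀) * g + C (f.eval a₀) ∧ g.eval a₀ = f.derivative.eval a₀ := by
  refine ⟨f /ₘ (X - C a₀), ?_, ?_⟩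
  · have := modByMonic_add_div f (X - C a₀)
    rw [modByMonic_X_sub_C_eq_C_eval] at this
    rw [add_comm]; exact this.symm
  · have h := modByMonic_add_div f (X - C a₀)
    rw [modByMonic_X_sub_C_eq_C_eval] at h
    have h' := congrArg (fun p => (derivative p).eval a₀) h
    simp only [derivative_add, derivative_C, derivative_mul, derivative_sub, derivative_X,
      zero_add, sub_zero, one_mul, eval_add, eval_mul, eval_sub, eval_X, eval_C, sub_self,
      zero_mul, add_zero] at h'
    exact h'

/-- The standard étale-type algebra `(R[X]/f)[1/g]`. -/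
abbrev SS (f g : R[X]) : Type u := Localization.Away (AdjoinRoot.mk f g)

variable [IsLocalRing R]

section Setup

variable (f g : R[X]) (a₀ : R) (hfg : f = (X - C a₀) * g + C (f.eval a₀))
  (h₁ : f.eval a₀ ∈ maximalIdeal R) (hg : IsUnit (g.eval a₀))

include h₁ in
theorem eval₂_residue_eq_zero : f.eval₂ (residue R) (residue R a₀) = 0 := by
  rw [eval₂_at_apply]; exact (residue_eq_zero_iff _).mpr h₁

/-- The point of the closed fibre. -/
noncomputable def φ0 : AdjoinRoot f →+* ResidueField R :=
  AdjoinRoot.lift (residue R) (residue R a₀) (eval₂_residue_eq_zero f a₀ h₁)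

include hg in
theorem isUnit_φ0 : IsUnit (φ0 f a₀ h₁ (AdjoinRoot.mk f g)) := by
  unfold φ0
  rw [AdjoinRoot.lift_mk, eval₂_at_apply]
  exact hg.map (residue R)

noncomputable def φ : SS f g →+* ResidueField R :=
  IsLocalization.Away.lift (AdjoinRoot.mk f g) (isUnit_φ0 f g a₀ h₁ hg)

theorem φ_algebraMap (p : AdjoinRoot f) :
    φ f g a₀ h₁ hg (algebraMap (AdjoinRoot f) (SS f g) p) = φ0 f a₀ h₁ p := by
  unfold φ
  rw [IsLocalization.Away.lift_eq]

theorem φ_algebraMap_R (r : R) :
    φ f g a₀ h₁ hg (algebraMap R (SS f g) r) = residue R r := by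
  rw [IsScalarTower.algebraMap_apply R (AdjoinRoot f) (SS f g), φ_algebraMap]
  unfold φ0
  rw [AdjoinRoot.algebraMap_eq, AdjoinRoot.lift_of]

theorem φ_root :
    φ f g a₀ h₁ hg (algebraMap (AdjoinRoot f) (SS f g) (AdjoinRoot.root f)) = residue R a₀ := by
  rw [φ_algebraMap]
  unfold φ0
  rw [AdjoinRoot.lift_root]

include hfg h₁ hg in
theorem exists_sub_mem (s : SS f g) :
    ∃ r : R, s - algebraMap R (SS f g) r ∈
      (maximalIdeal R).map (algebraMap R (SS f g)) := by
  set mS : Ideal (SS f g) := (maximalIdeal R).map (algebraMap R (SS f g)) with hmS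
  let ψ : SS f g →+* SS f g ⧸ mS := Ideal.Quotient.mk mS
  let ρ : R →+* SS f g ⧸ mS := ψ.comp (algebraMap R (SS f g))
  have hρm : ∀ r ∈ maximalIdeal R, ρ r = 0 := by
    intro r hr
    exact Ideal.Quotient.eq_zero_iff_mem.mpr (Ideal.mem_map_of_mem _ hr)
  have hρ : ∀ r : R, ψ (algebraMap (AdjoinRoot f) (SS f g) (AdjoinRoot.of f r)) = ρ r := by
    intro r
    change _ = ψ (algebraMap R (SS f g) r)
    rw [IsScalarTower.algebraMap_apply R (AdjoinRoot f) (SS f g), AdjoinRoot.algebraMap_eq]
  have hrel : (AdjoinRoot.root f - AdjoinRoot.of f a₀) * AdjoinRoot.mk f g +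
      AdjoinRoot.of f (f.eval a₀) = 0 := by
    have := congrArg (AdjoinRoot.mk f) hfg
    rw [AdjoinRoot.mk_self] at this
    rw [this]
    simp only [map_add, map_mul, map_sub, AdjoinRoot.mk_X, AdjoinRoot.mk_C]
  have hunit : IsUnit (ψ (algebraMap (AdjoinRoot f) (SS f g) (AdjoinRoot.mk f g))) :=
    (IsLocalization.Away.algebraMap_isUnit (AdjoinRoot.mk f g)).map ψ
  have hx : ψ (algebraMap (AdjoinRoot f) (SS f g) (AdjoinRoot.root f)) = ρ a₀ := by
    have h := congrArg (fun t => ψ (algebraMap (AdjoinRoot f) (SS f g) t)) hrel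
    simp only [map_add, map_mul, map_sub, map_zero, hρ, hρm _ h₁, add_zero] at h
    have h' := hunit.mul_left_eq_zero.mp h
    exact sub_eq_zero.mp h'
  have key : ∀ q : R[X], ψ (algebraMap (AdjoinRoot f) (SS f g) (AdjoinRoot.mk f q)) =
      ρ (q.eval a₀) := by
    intro q
    have hΘ : ((ψ.comp (algebraMap (AdjoinRoot f) (SS f g))).comp (AdjoinRoot.mk f)) =
        eval₂RingHom ρ (ρ a₀) := by
      refine Polynomial.ringHom_ext (fun r => ?_) ?_
      · simp only [RingHom.comp_apply, AdjoinRoot.mk_C, coe_eval₂RingHom, eval₂_C]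
        exact hρ r
      · simp only [RingHom.comp_apply, AdjoinRoot.mk_X, coe_eval₂RingHom, eval₂_X]
        exact hx
    have := RingHom.congr_fun hΘ q
    simp only [RingHom.comp_apply, coe_eval₂RingHom, eval₂_at_apply] at this
    exact this
  obtain ⟨⟨a, ⟨_, n, rfl⟩⟩, hs⟩ := IsLocalization.surj (Submonoid.powers (AdjoinRoot.mk f g)) s
  obtain ⟨q, rfl⟩ := AdjoinRoot.mk_surjective a
  obtain ⟨c, hc⟩ := hg.exists_right_inv
  have hs' := congrArg ψ hs
  simp only [map_mul, map_pow, key] at hs'
  refine ⟨q.eval a₀ * c ^ n, ?_⟩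
  rw [← Ideal.Quotient.eq_zero_iff_mem, map_sub, sub_eq_zero]
  change ψ s = ρ (q.eval a₀ * c ^ n)
  rw [map_mul, map_pow, ← hs', mul_assoc, ← mul_pow, ← map_mul, hc, map_one, one_pow, mul_one]

end Setup

/-- A finite flat nonzero algebra over a local ring which is generated by `1` modulo the maximal
ideal is the ring itself. -/
theorem bijective_algebraMap_of_finite_flat (A : Type u) [CommRing A] [Algebra R A]
    [Module.Finite R A] [Module.Flat R A] [Nontrivial A]
    (hsurj : ∀ a : A, ∃ r : R, a - algebraMap R A r ∈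
      (maximalIdeal R).map (algebraMap R A)) :
    Function.Bijective (algebraMap R A) := by
  constructor
  · have : Module.Free R A := Module.free_of_flat_of_isLocalRing
    exact FaithfulSMul.algebraMap_injective R A
  · have hle : (⊤ : Submodule R A) ≤ Submodule.span R {(1 : A)} := by
      refine Submodule.le_of_le_smul_of_le_jacobson_bot (I := maximalIdeal R)
        Module.Finite.fg_top (maximalIdeal_le_jacobson ⊥) ?_
      intro a _
      obtain ⟨r, hr⟩ := hsurj a
      have h1 : algebraMap R A r ∈ Submodule.span R {(1 : A)} := by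
        rw [Algebra.algebraMap_eq_smul_one]
        exact Submodule.smul_mem _ _ (Submodule.subset_span rfl)
      have h2 : a - algebraMap R A r ∈ maximalIdeal R • (⊤ : Submodule R A) := by
        rw [Ideal.smul_top_eq_map]
        exact hr
      have : a = algebraMap R A r + (a - algebraMap R A r) := by ring
      rw [this]
      exact Submodule.add_mem_sup h1 h2
    intro a
    have ha := hle (Submodule.mem_top (x := a))
    obtain ⟨r, hr⟩ := Submodule.mem_span_singleton.mp ha
    exact ⟨r, by rw [Algebra.algebraMap_eq_smul_one, hr]⟩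

theorem exists_root
    (h : ∀ (S : Type u) [CommRing S] [Algebra R S] [Algebra.FiniteType R S],
      ∃ e : S, IsIdempotentElem e ∧ Module.Finite R (S ⧸ Ideal.span ({1 - e} : Set S)) ∧
        ∀ (q : Ideal (S ⧸ Ideal.span ({e} : Set S))) [q.IsPrime],
          q.LiesOver (IsLocalRing.maximalIdeal R) → ¬ Algebra.QuasiFiniteAt R q)
    (f : R[X]) (hf : f.Monic) (a₀ : R) (h₁ : f.eval a₀ ∈ maximalIdeal R)
    (h₂ : IsUnit (f.derivative.eval a₀)) :
    ∃ a : R, f.IsRoot a ∧ a - a₀ ∈ maximalIdeal R := by
  obtain ⟨g, hfg, hga⟩ := exists_quot f a₀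
  have hg : IsUnit (g.eval a₀) := hga ▸ h₂
  have : Module.Finite R (AdjoinRoot f) := hf.finite_adjoinRoot
  have : Module.Free R (AdjoinRoot f) := hf.free_adjoinRoot
  obtain ⟨e, he, hfin, hB⟩ := h (SS f g)
  -- the point of the closed fibre
  have hφe : φ f g a₀ h₁ hg e = 1 := by
    have hidem : IsIdempotentElem (φ f g a₀ h₁ hg e) := he.map _
    rcases IsIdempotentElem.iff_eq_zero_or_one.mp hidem with h0 | h1
    · exfalso
      let φB : (SS f g ⧸ Ideal.span ({e} : Set (SS f g))) →+* ResidueField R :=
        Ideal.Quotient.lift _ (φ f g a₀ h₁ hg) (by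
          intro a ha
          obtain ⟨c, rfl⟩ := Ideal.mem_span_singleton'.mp ha
          rw [map_mul, h0, mul_zero])
      have hprime : (RingHom.ker φB).IsPrime := RingHom.ker_isPrime φB
      have hlies : (RingHom.ker φB).LiesOver (maximalIdeal R) := by
        constructor
        ext r
        rw [Ideal.under_def, Ideal.mem_comap, RingHom.mem_ker]
        change _ ↔ φB (Ideal.Quotient.mk _ (algebraMap R (SS f g) r)) = 0
        rw [Ideal.Quotient.lift_mk, φ_algebraMap_R, residue_eq_zero_iff]
      exact hB (RingHom.ker φB) hlies inferInstance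
    · exact h1
  -- the finite part
  have hflatS : Module.Flat R (SS f g) := by
    have : Module.Flat (AdjoinRoot f) (SS f g) :=
      IsLocalization.flat _ (Submonoid.powers (AdjoinRoot.mk f g))
    exact Module.Flat.trans R (AdjoinRoot f) (SS f g)
  have hlocA : IsLocalization.Away e (SS f g ⧸ Ideal.span ({1 - e} : Set (SS f g))) :=
    IsLocalization.Away.quotient_of_isIdempotentElem he
  have hflatA : Module.Flat R (SS f g ⧸ Ideal.span ({1 - e} : Set (SS f g))) := by
    have : Module.Flat (SS f g) (SS f g ⧸ Ideal.span ({1 - e} : Set (SS f g))) :=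
      IsLocalization.flat _ (Submonoid.powers e)
    exact Module.Flat.trans R (SS f g) _
  let φA : (SS f g ⧸ Ideal.span ({1 - e} : Set (SS f g))) →+* ResidueField R :=
    Ideal.Quotient.lift _ (φ f g a₀ h₁ hg) (by
      intro a ha
      obtain ⟨c, rfl⟩ := Ideal.mem_span_singleton'.mp ha
      rw [map_mul, map_sub, map_one, hφe, sub_self, mul_zero])
  have hnt : Nontrivial (SS f g ⧸ Ideal.span ({1 - e} : Set (SS f g))) :=
    φA.domain_nontrivial
  have hbij := bijective_algebraMap_of_finite_flat (R := R)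
    (SS f g ⧸ Ideal.span ({1 - e} : Set (SS f g))) (by
      intro a
      obtain ⟨s, rfl⟩ := Ideal.Quotient.mk_surjective a
      obtain ⟨r, hr⟩ := exists_sub_mem f g a₀ hfg h₁ hg s
      refine ⟨r, ?_⟩
      have := Ideal.mem_map_of_mem (Ideal.Quotient.mk (Ideal.span ({1 - e} : Set (SS f g)))) hr
      rw [Ideal.map_map] at this
      exact this)
  obtain ⟨a, ha⟩ := hbij.2 (Ideal.Quotient.mk _
    (algebraMap (AdjoinRoot f) (SS f g) (AdjoinRoot.root f)))
  refine ⟨a, ?_, ?_⟩
  · apply hbij.1
    rw [map_zero, ← Polynomial.aeval_algebraMap_apply_eq_algebraMap_eval, ha]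
    let ι : AdjoinRoot f →ₐ[R] (SS f g ⧸ Ideal.span ({1 - e} : Set (SS f g))) :=
      (Ideal.Quotient.mkₐ R _).comp (IsScalarTower.toAlgHom R (AdjoinRoot f) (SS f g))
    have h3 : Ideal.Quotient.mk (Ideal.span ({1 - e} : Set (SS f g)))
        (algebraMap (AdjoinRoot f) (SS f g) (AdjoinRoot.root f)) = ι (AdjoinRoot.root f) := rfl
    rw [h3, Polynomial.aeval_algHom_apply, AdjoinRoot.aeval_eq, AdjoinRoot.mk_self, map_zero]
  · have h3 : residue R a = residue R a₀ := by
      have h4 := congrArg φA ha
      have h5 : φA (algebraMap R _ a) = residue R a := by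
        change φA (Ideal.Quotient.mk _ (algebraMap R (SS f g) a)) = _
        rw [Ideal.Quotient.lift_mk, φ_algebraMap_R]
      rw [h5, Ideal.Quotient.lift_mk, φ_root] at h4
      exact h4
    rw [← residue_eq_zero_iff, map_sub, h3, sub_self]

end Groth.Agent.Lib.Helper15.Hensel
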