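-- helper15: finite diagonalisable groups have finite character groups; homomorphisms between finite groups of multiplicative type
import Mathlib
import Groth.Agent.Lib.Helper15HomRepF
import Groth.Agent.Lib.Helper12Descent
import Groth.Agent.Lib.Helper12Torsor
import Groth.Prelude.Def_SGA3x
set_option autoImplicit false
universe u
open CategoryTheory CategoryTheory.Limits AlgebraicGeometry MonoidalCategory
  CartesianMonoidalCategory MonObj GrpObj Opposite TensorProduct

namespace Groth.Agent.Lib.Helper15HomRep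

section FinDS

lemma finite_of_isFinite_pullback_fst (R : Type u) [CommRing R] (K : Type u) [Field K]
    [Algebra R K] (G : Type) [CommGroup G]
    (h : IsFinite (pullback.fst (Spec.map (CommRingCat.ofHom (algebraMap R K)))
      (Spec.map (CommRingCat.ofHom (algebraMap R (MonoidAlgebra R G)))))) : Finite G := by
  have h5 : IsFinite (Spec.map (CommRingCat.ofHom (algebraMap K
      (K ⊗[R] MonoidAlgebra R G)))) := by
    rw [← pullbackSpecIso_inv_fst']
    infer_instance
  rw [IsFinite.SpecMap_iff] at h5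
  have h6 : Module.Finite K (K ⊗[R] MonoidAlgebra R G) :=
    RingHom.finite_algebraMap.mp h5
  have b := Algebra.TensorProduct.basis K (MonoidAlgebra.basis G R)
  exact Module.Finite.finite_basis b

/-- a diagonalisable group over a non-empty base which is finite over the base has a finite
character group. -/
theorem finite_of_isFinite_DS {X : Scheme.{u}} [Nonempty X] (M : Type) [AddCommGroup M]
    (h : IsFinite (Red.DS X M).hom) : Finite M := by
  obtain ⟨x⟩ := (inferInstance : Nonempty X)
  obtain ⟨σ, hσ⟩ : ∃ σ : Spec (X.residueField x) ⟶ X, σ = X.fromSpecResidueField x := ⟨_, rfl⟩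
  obtain ⟨t, ht⟩ : ∃ t : X ⟶ Spec (CommRingCat.of (ULift.{u} ℤ)),
      t = Limits.IsTerminal.from specULiftZIsTerminal X := ⟨_, rfl⟩
  obtain ⟨d, hd⟩ : ∃ d : Spec (CommRingCat.of (MonoidAlgebra (ULift.{u} ℤ) (Multiplicative M))) ⟶
      Spec (CommRingCat.of (ULift.{u} ℤ)),
      d = Spec.map (CommRingCat.ofHom (algebraMap (ULift.{u} ℤ)
        (MonoidAlgebra (ULift.{u} ℤ) (Multiplicative M)))) := ⟨_, rfl⟩
  have h1 : IsFinite (pullback.snd d t) := by
    rw [hd, ht]
    exact h
  have h2 : IsFinite (pullback.snd (pullback.snd d t) σ) := inferInstance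
  have h3 : IsFinite (pullback.snd d (σ ≫ t)) := by
    have e := pullbackLeftPullbackSndIso_hom_snd d t σ
    rw [← e] at h2
    exact (MorphismProperty.cancel_left_of_respectsIso @IsFinite _ _).mp h2
  have h4 : IsFinite (pullback.fst (σ ≫ t) d) := by
    have e := pullbackSymmetry_hom_comp_fst d (σ ≫ t)
    rw [← e] at h3
    exact (MorphismProperty.cancel_left_of_respectsIso @IsFinite _ _).mp h3
  let alg : Algebra (ULift.{u} ℤ) (X.residueField x) :=
    ((Int.castRingHom (X.residueField x)).comp
      (ULift.ringEquiv : ULift.{u} ℤ ≃+* ℤ).toRingHom).toAlgebra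
  have hs : σ ≫ t = Spec.map (CommRingCat.ofHom (@algebraMap (ULift.{u} ℤ) (X.residueField x) _ _
      alg)) := specULiftZIsTerminal.hom_ext _ _
  rw [hs, hd] at h4
  have := @finite_of_isFinite_pullback_fst (ULift.{u} ℤ) _ (X.residueField x) _ alg
    (Multiplicative M) _ h4
  exact this

end FinDS

section Family

variable {S : Scheme.{u}} (H G : Over S) [GrpObj H] [GrpObj G]

/-- gluing of the functor of homomorphisms along an fpqc family over whose members it is
represented by constant schemes. -/
theorem exists_representsHom_of_family {K : Type u} {X : K → Scheme.{u}} (g : ∀ k, X k ⟶ S)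
    (hcov : Presieve.ofArrows X g ∈ Scheme.fpqcPrecoverage S) (I : K → Type u)
    (rep : ∀ k, Nonempty (((Over.map (g k)).op ⋙ homPsh H G).RepresentableBy
      (TwC.const (X k) (I k)))) :
    ∃ (A : Over S) (υ : H ⊗ A ⟶ G), AutFam.RepresentsHom H G A υ ∧
      ∀ k, Nonempty (Red.bc (g k) A ≅ TwC.const (X k) (I k)) := by
  obtain ⟨B, ⟨repB⟩, hB⟩ := Groth.Agent.Lib.Helper15RepGlue.exists_representableBy
    (P := homPsh H G) (g := g) (A := fun s => TwC.const (X s) (I s))
    (fun s => (rep s).some) hcov (fun s => isIndQuasiAffineHom_const (X s) (I s))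
    (isSheafFor_homPsh H G g hcov)
  exact ⟨B, _, representsHom_of_representableBy H G B repB, hB⟩

end Family

section Finite

variable {S : Scheme.{u}} (G H : Over S) [GrpObj G] [GrpObj H]

/-- **the functor of homomorphisms between finite groups of multiplicative type is representable
by a finite etale scheme.** -/
theorem exists_representsHom_finite (hG : SGA3x.IsMultTypeFT G) [IsFinite G.hom]
    (hH : SGA3x.IsMultTypeFT H) [IsFinite H.hom] :
    ∃ (A : Over S) (υ : G ⊗ A ⟶ H), AutFam.RepresentsHom G H A υ ∧ IsFinite A.hom ∧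
      Etale A.hom := by
  have hstab : ∀ (L : Over S) [GrpObj L] (S' S'' : Scheme.{u}) (f : S' ⟶ S) (q : S'' ⟶ S'),
      (∃ (M : Type) (_ : AddCommGroup M), AddGroup.FG M ∧
        Nonempty (Grp.mk (Red.bc f L) ≅ Grp.mk (Red.DS S' M))) →
      (∃ (M : Type) (_ : AddCommGroup M), AddGroup.FG M ∧
        Nonempty (Grp.mk (Red.bc (q ≫ f) L) ≅ Grp.mk (Red.DS S'' M))) := by
    rintro L _ S' S'' f q ⟨M, _, hM, ⟨e⟩⟩
    exact ⟨M, _, hM, Groth.Agent.Lib.Helper15DSbc.nonempty_iso_bc f q L M e⟩
  obtain ⟨K, Sk, g, hcov, hk⟩ := Groth.Agent.Lib.Helper15DSbc.exists_fpqc_family₂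
    (fun S' f => ∃ (M : Type) (_ : AddCommGroup M), AddGroup.FG M ∧
      Nonempty (Grp.mk (Red.bc f G) ≅ Grp.mk (Red.DS S' M)))
    (fun S' f => ∃ (M : Type) (_ : AddCommGroup M), AddGroup.FG M ∧
      Nonempty (Grp.mk (Red.bc f H) ≅ Grp.mk (Red.DS S' M)))
    (hstab G) (hstab H) hG hH
  have hfinDS : ∀ (L : Over S) [GrpObj L] [IsFinite L.hom] (k : K) (M : Type) [AddCommGroup M]
      (_ : Grp.mk (Red.bc (g k) L) ≅ Grp.mk (Red.DS (Sk k) M)), Nonempty (Sk k) → Finite M := by
    intro L _ _ k M _ e hne
    apply finite_of_isFinite_DS (X := Sk k) M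
    have h1 : IsFinite (Red.bc (g k) L).hom := by
      show IsFinite (pullback.snd L.hom (g k))
      infer_instance
    have h2 : (Red.DS (Sk k) M).hom = e.inv.hom.hom.left ≫ (Red.bc (g k) L).hom :=
      (Over.w e.inv.hom.hom).symm
    have h3 : IsIso e.inv.hom.hom.left := by
      have h4 : IsIso e.inv.hom.hom := by
        refine ⟨e.hom.hom.hom, ?_, ?_⟩
        · have := e.inv_hom_id
          exact congr($(this).hom.hom)
        · have := e.hom_inv_id
          exact congr($(this).hom.hom)
      exact (inferInstance : IsIso ((Over.forget _).map e.inv.hom.hom))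
    rw [h2]
    infer_instance
  have hloc : ∀ k, ∃ I : Type u, Nonempty (((Over.map (g k)).op ⋙ homPsh G H).RepresentableBy
      (TwC.const (Sk k) I)) ∧ (Nonempty (Sk k) → Finite I) := by
    intro k
    obtain ⟨⟨M₁, _, -, ⟨α⟩⟩, ⟨M₂, _, hM₂, ⟨β⟩⟩⟩ := hk k
    refine ⟨ULift.{u} (M₂ →+ M₁), nonempty_representableBy_of_iso (g k) G H M₁ M₂ hM₂ α β,
      fun hne => ?_⟩
    have := hfinDS G k M₁ α hne
    have := hfinDS H k M₂ β hne
    have : Finite (M₂ →+ M₁) := DFunLike.finite _
    infer_instance
  choose I rep hfin using hloc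
  obtain ⟨A, υ, hA, hB⟩ := exists_representsHom_of_family G H g hcov I rep
  have key : ∀ (P : MorphismProperty Scheme.{u}) [P.RespectsIso]
      (_ : ∀ (X : Scheme.{u}) (J : Type u) [Finite J], P (TwC.const X J).hom)
      (_ : ∀ (X Y : Scheme.{u}) (f : X ⟶ Y) [IsIso f], P f) (k : K),
      P (pullback.snd A.hom (g k)) := by
    intro P _ hP1 hP2 k
    by_cases hne : Nonempty (Sk k)
    · have := hfin k hne
      obtain ⟨e⟩ := hB k
      have h2 : pullback.snd A.hom (g k) = e.hom.left ≫ (TwC.const (Sk k) (I k)).hom :=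
        (Over.w e.hom).symm
      have h3 : IsIso e.hom.left := (inferInstance : IsIso ((Over.forget _).map e.hom))
      rw [h2]
      exact (MorphismProperty.cancel_left_of_respectsIso P _ _).mpr (hP1 _ _)
    · have : IsEmpty (Sk k) := not_nonempty_iff.mp hne
      exact hP2 _ _ _
  refine ⟨A, υ, hA, ?_, ?_⟩
  · refine Groth.Agent.Lib.Helper12.of_mem_fpqcPrecoverage (P := @IsFinite)
      Groth.Agent.Lib.Helper12.descendsAlong_isFinite A.hom _ hcov ?_
    rintro Y' _ ⟨k⟩
    exact key @IsFinite (fun X J _ =>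
      (Groth.Agent.Lib.Helper3.TwcB.sheets_of_iso_const (TwC.const X J) (Iso.refl _)).isFinite)
      (fun X Y f _ => inferInstance) k
  · refine Groth.Agent.Lib.Helper12.of_mem_fpqcPrecoverage (P := @Etale)
      inferInstance A.hom _ hcov ?_
    rintro Y' _ ⟨k⟩
    exact key @Etale (fun X J _ =>
      (Groth.Agent.Lib.Helper3.TwcB.sheets_of_iso_const (TwC.const X J) (Iso.refl _)).etale)
      (fun X Y f _ => inferInstance) k

end Finite

end Groth.Agent.Lib.Helper15HomRep
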