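import Mathlib
import Groth.Agent.Lib.Helper20FlatDescSch
import Groth.Agent.Lib.Helper20SmoothDesc
import Groth.Agent.Lib.Helper20FlatAtDesc

set_option autoImplicit false
universe u

open CategoryTheory CategoryTheory.Limits AlgebraicGeometry TensorProduct

namespace Groth.Agent.Lib.Helper20.FlatDesc

open Groth.Agent.Lib.Helper20.EtLocal

variable {X Y Y' : Scheme.{u}}

set_option maxHeartbeats 800000 in
theorem formallySmooth_stalkMap_of_flat_baseChange (f : X ⟶ Y) [LocallyOfFinitePresentation f]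
    (g : Y' ⟶ Y) [Flat g]
    (w : ↑(pullback f g))
    (H : ((pullback.snd f g).stalkMap w).hom.FormallySmooth) :
    (f.stalkMap (pullback.fst f g w)).hom.FormallySmooth := by
  have hxy : f (pullback.fst f g w) = g (pullback.snd f g w) := by
    rw [← Scheme.Hom.comp_apply, ← Scheme.Hom.comp_apply, pullback.condition]
  obtain ⟨_, ⟨W, hW, rfl⟩, hxW, -⟩ := Y.isBasis_affineOpens.exists_subset_of_mem_open
    (Set.mem_univ (f (pullback.fst f g w))) isOpen_univ
  obtain ⟨_, ⟨V, hV, rfl⟩, hxV, hVW⟩ := X.isBasis_affineOpens.exists_subset_of_mem_open hxW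
    (W.2.preimage f.continuous)
  have hyW : pullback.snd f g w ∈ g ⁻¹ᵁ W := by
    change g (pullback.snd f g w) ∈ W
    rw [← hxy]; exact hxW
  obtain ⟨_, ⟨W', hW', rfl⟩, hyW', hW'W⟩ := Y'.isBasis_affineOpens.exists_subset_of_mem_open hyW
    (W.2.preimage g.continuous)
  have hflat : (g.appLE W W' hW'W).hom.Flat := Flat.flat_appLE g hW hW' hW'W
  have hfp : (f.appLE W V hVW).hom.FinitePresentation := f.finitePresentation_appLE hW hV hVW
  algebraize [(f.appLE W V hVW).hom, (g.appLE W W' hW'W).hom]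
  let _ : Algebra Γ(Y', W') (Γ(X, V) ⊗[Γ(Y, W)] Γ(Y', W')) := Algebra.TensorProduct.rightAlgebra
  have e₁ : Spec.map (CommRingCat.ofHom (algebraMap Γ(Y, W) Γ(X, V))) ≫ hW.fromSpec =
      hV.fromSpec ≫ f := IsAffineOpen.SpecMap_appLE_fromSpec f hW hV hVW
  have e₂ : Spec.map (CommRingCat.ofHom (algebraMap Γ(Y, W) Γ(Y', W'))) ≫ hW.fromSpec =
      hW'.fromSpec ≫ g := IsAffineOpen.SpecMap_appLE_fromSpec g hW hW' hW'W
  let j0 := pullback.map _ _ f g hV.fromSpec hW'.fromSpec hW.fromSpec e₁ e₂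
  let j := (pullbackSpecIso Γ(Y, W) Γ(X, V) Γ(Y', W')).inv ≫ j0
  have hj1 : j ≫ pullback.fst f g =
      Spec.map (CommRingCat.ofHom (algebraMap Γ(X, V) (Γ(X, V) ⊗[Γ(Y, W)] Γ(Y', W')))) ≫
        hV.fromSpec := by
    simp only [j, j0, Category.assoc, pullback.lift_fst, pullback.map]
    rw [← Category.assoc, pullbackSpecIso_inv_fst']
  have hj2 : j ≫ pullback.snd f g =
      Spec.map (CommRingCat.ofHom (algebraMap Γ(Y', W') (Γ(X, V) ⊗[Γ(Y, W)] Γ(Y', W')))) ≫
        hW'.fromSpec := by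
    simp only [j, j0, Category.assoc, pullback.lift_snd, pullback.map]
    rw [← Category.assoc, pullbackSpecIso_inv_snd]
    rfl
  have hwj : w ∈ Set.range j := by
    have : Set.range j = Set.range j0 := by
      simp only [j, Scheme.Hom.comp_base, TopCat.coe_comp]
      rw [Set.range_comp, Set.range_eq_univ.mpr, Set.image_univ]
      exact (pullbackSpecIso Γ(Y, W) Γ(X, V) Γ(Y', W')).inv.surjective
    have : IsOpenImmersion hW.fromSpec := hW.isOpenImmersion_fromSpec
    have : Mono hW.fromSpec := inferInstance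
    rw [‹Set.range j = Set.range j0›, Scheme.Pullback.range_map]
    refine ⟨?_, ?_⟩
    · change pullback.fst f g w ∈ Set.range hV.fromSpec
      rw [hV.range_fromSpec]; exact hxV
    · change pullback.snd f g w ∈ Set.range hW'.fromSpec
      rw [hW'.range_fromSpec]; exact hyW'
  obtain ⟨q, rfl⟩ := hwj
  have hqprime : q.asIdeal.IsPrime := q.isPrime
  have : IsOpenImmersion hW.fromSpec := hW.isOpenImmersion_fromSpec
  have : IsOpenImmersion hV.fromSpec := hV.isOpenImmersion_fromSpec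
  have : IsOpenImmersion hW'.fromSpec := hW'.isOpenImmersion_fromSpec
  have : IsOpenImmersion j0 := inferInstance
  have : IsOpenImmersion j := inferInstance
  have hQ := RingHom.FormallySmooth.respectsIso
  -- step A
  have hA1 := (stalkMap_comp_iff_left hQ j (pullback.snd f g) q).mpr H
  have hA2 := (stalkMap_congr_iff (Q := RingHom.FormallySmooth) hj2 q).mp hA1
  have hA3 := (stalkMap_comp_iff_right hQ _ hW'.fromSpec q).mp hA2
  have hA4 := (hQ.arrow_mk_iso_iff (Scheme.arrowStalkMapSpecIso _ q)).mp hA3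
  have hA4' : (Localization.localRingHom (PrimeSpectrum.comap
        (algebraMap Γ(Y', W') (Γ(X, V) ⊗[Γ(Y, W)] Γ(Y', W'))) q).asIdeal q.asIdeal
        (algebraMap Γ(Y', W') (Γ(X, V) ⊗[Γ(Y, W)] Γ(Y', W'))) rfl).FormallySmooth := hA4
  have hA5 : Algebra.IsSmoothAt Γ(Y', W') q.asIdeal := by
    change Algebra.FormallySmooth Γ(Y', W') (Localization.AtPrime q.asIdeal)
    rw [← RingHom.formallySmooth_algebraMap]
    have h0 : (algebraMap Γ(Y', W') (Localization.AtPrime (PrimeSpectrum.comap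
        (algebraMap Γ(Y', W') (Γ(X, V) ⊗[Γ(Y, W)] Γ(Y', W'))) q).asIdeal)).FormallySmooth := by
      rw [RingHom.formallySmooth_algebraMap]
      have : Algebra.FormallyEtale Γ(Y', W') (Localization.AtPrime (PrimeSpectrum.comap
        (algebraMap Γ(Y', W') (Γ(X, V) ⊗[Γ(Y, W)] Γ(Y', W'))) q).asIdeal) :=
        .of_isLocalization (PrimeSpectrum.comap
        (algebraMap Γ(Y', W') (Γ(X, V) ⊗[Γ(Y, W)] Γ(Y', W'))) q).asIdeal.primeCompl
      infer_instance
    have h1 := RingHom.FormallySmooth.comp h0 hA4'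
    have h2 : algebraMap Γ(Y', W') (Localization.AtPrime q.asIdeal) =
        (Localization.localRingHom (PrimeSpectrum.comap
        (algebraMap Γ(Y', W') (Γ(X, V) ⊗[Γ(Y, W)] Γ(Y', W'))) q).asIdeal q.asIdeal
        (algebraMap Γ(Y', W') (Γ(X, V) ⊗[Γ(Y, W)] Γ(Y', W'))) rfl).comp
          (algebraMap Γ(Y', W') _) := by
      rw [IsScalarTower.algebraMap_eq Γ(Y', W') (Γ(X, V) ⊗[Γ(Y, W)] Γ(Y', W'))
        (Localization.AtPrime q.asIdeal)]
      exact (IsLocalization.map_comp _).symm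
    rw [h2]
    exact h1
  have hB := Groth.Agent.Lib.Helper20.SmoothDesc.isSmoothAt_of_flat_baseChange Γ(Y, W) Γ(X, V) Γ(Y', W')
    (Γ(X, V) ⊗[Γ(Y, W)] Γ(Y', W')) q.asIdeal hA5
  have hp : hV.primeIdealOf ⟨pullback.fst f g (j q), hxV⟩ =
      PrimeSpectrum.comap (algebraMap Γ(X, V) (Γ(X, V) ⊗[Γ(Y, W)] Γ(Y', W'))) q := by
    apply hV.fromSpec.isOpenEmbedding.injective
    rw [hV.fromSpec_primeIdealOf]
    have h3 : pullback.fst f g (j q) = hV.fromSpec ((Spec.map (CommRingCat.ofHom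
        (algebraMap Γ(X, V) (Γ(X, V) ⊗[Γ(Y, W)] Γ(Y', W'))))) q) := by
      rw [← Scheme.Hom.comp_apply, ← Scheme.Hom.comp_apply, hj1]
    exact h3
  refine (formallySmooth_stalkMap_iff W hW V hV hVW hxV).mpr ?_
  rw [hp]
  exact hB


end Groth.Agent.Lib.Helper20.FlatDesc

namespace Groth.Agent.Lib.Helper20.FlatDesc

open Groth.Agent.Lib.Helper20.EtLocal

variable {X Y Y' : Scheme.{u}}

theorem formallySmooth_stalkMap_of_nbhd (f : X ⟶ Y) (x : X) (U : X.Opens) (hxU : x ∈ U)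
    [Smooth (U.ι ≫ f)] : (f.stalkMap x).hom.FormallySmooth := by
  refine (stalkMap_ι_comp_iff RingHom.FormallySmooth.respectsIso f U ⟨x, hxU⟩).mp ?_
  have h : (⟨x, hxU⟩ : U) ∈ (U.ι ≫ f).smoothLocus := by
    rw [Scheme.Hom.smoothLocus_eq_top]; trivial
  exact h

theorem exists_smooth_nbhd (f : X ⟶ Y) [LocallyOfFinitePresentation f] (x : X)
    (H : (f.stalkMap x).hom.FormallySmooth) :
    ∃ U : X.Opens, x ∈ U ∧ Smooth (U.ι ≫ f) := by
  refine ⟨f.smoothLocus, H, ?_⟩
  rw [← Scheme.Hom.smoothLocus_eq_top_iff, ← Scheme.Hom.preimage_smoothLocus_eq]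
  rw [eq_top_iff]
  intro y _
  exact y.2

end Groth.Agent.Lib.Helper20.FlatDesc

namespace Groth.Agent.Lib.Helper20.FlatDesc

open Groth.Agent.Lib.Helper20.EtLocal Groth.Agent.Lib.Helper20.EtSections

theorem exists_smooth_nbhd_of_baseChange_flatAt {X Y Y' : Scheme.{u}} (f : X ⟶ Y)
    [LocallyOfFinitePresentation f] (g : Y' ⟶ Y) (x' : ↑(pullback f g))
    (hg : (g.stalkMap (pullback.snd f g x')).hom.Flat)
    (U' : (pullback f g).Opens) (hx' : x' ∈ U') [Smooth (U'.ι ≫ pullback.snd f g)] :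
    ∃ U : X.Opens, pullback.fst f g x' ∈ U ∧ Smooth (U.ι ≫ f) := by
  have hflat : Flat (Y'.fromSpecStalk (pullback.snd f g x') ≫ g) := flat_fromSpecStalk_comp g _ hg
  obtain ⟨w₁, hw₁, hw₁'⟩ := exists_bcMap_eq f g (Y'.fromSpecStalk (pullback.snd f g x')) x'
    (IsLocalRing.closedPoint _) Scheme.fromSpecStalk_closedPoint
  have hE : Smooth (((bcMap f g (Y'.fromSpecStalk (pullback.snd f g x'))) ⁻¹ᵁ U').ι ≫
      pullback.snd f (Y'.fromSpecStalk (pullback.snd f g x') ≫ g)) :=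
    MorphismProperty.of_isPullback (P := @Smooth)
      ((isPullback_morphismRestrict (bcMap f g (Y'.fromSpecStalk (pullback.snd f g x'))) U').paste_vert
        (isPullback_bcMap f g (Y'.fromSpecStalk (pullback.snd f g x')))) ‹_›
  have hmem : w₁ ∈ (bcMap f g (Y'.fromSpecStalk (pullback.snd f g x'))) ⁻¹ᵁ U' := by
    change bcMap f g _ w₁ ∈ U'
    rw [hw₁]; exact hx'
  have hx : pullback.fst f (Y'.fromSpecStalk (pullback.snd f g x') ≫ g) w₁ =
      pullback.fst f g x' := by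
    rw [← bcMap_fst_apply, hw₁]
  rw [← hx]
  apply exists_smooth_nbhd
  apply formallySmooth_stalkMap_of_flat_baseChange
  exact formallySmooth_stalkMap_of_nbhd _ w₁ _ hmem

end Groth.Agent.Lib.Helper20.FlatDesc
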