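-- helper15: pointwise descent of smooth/etale along a flat base change for a square
import Mathlib
import Groth.Agent.Lib.Helper20SmoothDescSch
import Groth.Agent.Lib.Helper20FlatAtDesc

set_option autoImplicit false
universe u
open CategoryTheory CategoryTheory.Limits AlgebraicGeometry

namespace Groth.Agent.Lib.Helper15PLocSq

/-- Pointwise descent of smoothness / etaleness along a flat base change, for a commutative square
whose comparison map to the fibre product is an open immersion. -/
theorem exists_nbhd_of_square {X Y Y' Ω : Scheme.{u}} (f : X ⟶ Y) [LocallyOfFinitePresentation f]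
    (g : Y' ⟶ Y) [Flat g] (a : Ω ⟶ Y') (b : Ω ⟶ X) (h : b ≫ f = a ≫ g)
    [IsOpenImmersion (pullback.lift b a h)] (ω : Ω) :
    (Smooth a → ∃ U : X.Opens, b ω ∈ U ∧ Smooth (U.ι ≫ f)) ∧
    (Etale a → ∃ U : X.Opens, b ω ∈ U ∧ Etale (U.ι ≫ f)) := by
  obtain ⟨j, hj⟩ : ∃ j, j = pullback.lift b a h := ⟨_, rfl⟩
  have hjo : IsOpenImmersion j := by rw [hj]; infer_instance
  have hj1 : j ≫ pullback.fst f g = b := by rw [hj, pullback.lift_fst]
  have hj2 : j ≫ pullback.snd f g = a := by rw [hj, pullback.lift_snd]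
  have hmem : j ω ∈ j.opensRange := ⟨ω, rfl⟩
  have hfst : pullback.fst f g (j ω) = b ω := by
    rw [← Scheme.Hom.comp_apply, hj1]
  have hcomp : j.opensRange.ι ≫ pullback.snd f g = j.isoOpensRange.inv ≫ a := by
    rw [Iso.eq_inv_comp, ← Category.assoc, Scheme.Hom.isoOpensRange_hom_ι, hj2]
  have hflat : (g.stalkMap (pullback.snd f g (j ω))).hom.Flat := Flat.stalkMap g _
  constructor
  · intro ha
    have : Smooth (j.opensRange.ι ≫ pullback.snd f g) := by rw [hcomp]; infer_instance
    obtain ⟨U, hU, hU'⟩ := Groth.Agent.Lib.Helper20.FlatDesc.exists_smooth_nbhd_of_baseChange_flatAt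
      f g (j ω) hflat j.opensRange hmem
    exact ⟨U, hfst ▸ hU, hU'⟩
  · intro ha
    have : Etale (j.opensRange.ι ≫ pullback.snd f g) := by rw [hcomp]; infer_instance
    obtain ⟨U, hU, hU'⟩ := Groth.Agent.Lib.Helper20.FlatDesc.exists_etale_nbhd_of_baseChange_flatAt
      f g (j ω) hflat j.opensRange hmem
    exact ⟨U, hfst ▸ hU, hU'⟩

end Groth.Agent.Lib.Helper15PLocSq
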