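-- helper15: pointwise descent of unramified / quasi-finite for a square over a base change
import Mathlib
import Groth.Agent.Lib.Helper20FlatDescSch
import Groth.Agent.Lib.Helper20EtLocalSch
import Groth.Agent.Lib.Helper27QFinBC

set_option autoImplicit false
universe u
open CategoryTheory CategoryTheory.Limits AlgebraicGeometry

namespace Groth.Agent.Lib.Helper15PLocSq2

/-- Pointwise descent of formal unramifiedness along a flat base change, for a commutative square
whose comparison map to the fibre product is an open immersion. -/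
theorem unramified_nbhd_of_square {X Y Y' Ω : Scheme.{u}} (f : X ⟶ Y) [LocallyOfFiniteType f]
    (g : Y' ⟶ Y) [Flat g] (a : Ω ⟶ Y') (b : Ω ⟶ X) (h : b ≫ f = a ≫ g)
    [IsOpenImmersion (pullback.lift b a h)] (ω : Ω) [FormallyUnramified a] :
    ∃ U : X.Opens, b ω ∈ U ∧ FormallyUnramified (U.ι ≫ f) := by
  obtain ⟨j, hj⟩ : ∃ j, j = pullback.lift b a h := ⟨_, rfl⟩
  have hjo : IsOpenImmersion j := by rw [hj]; infer_instance
  have hj1 : j ≫ pullback.fst f g = b := by rw [hj, pullback.lift_fst]
  have hj2 : j ≫ pullback.snd f g = a := by rw [hj, pullback.lift_snd]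
  have hmem : j ω ∈ j.opensRange := ⟨ω, rfl⟩
  have hfst : pullback.fst f g (j ω) = b ω := by
    rw [← Scheme.Hom.comp_apply, hj1]
  have hcomp : j.opensRange.ι ≫ pullback.snd f g = j.isoOpensRange.inv ≫ a := by
    rw [Iso.eq_inv_comp, ← Category.assoc, Scheme.Hom.isoOpensRange_hom_ι, hj2]
  have : FormallyUnramified (j.opensRange.ι ≫ pullback.snd f g) := by
    rw [hcomp]
    exact (MorphismProperty.cancel_left_of_respectsIso @FormallyUnramified _ _).mpr inferInstance
  have H1 := Groth.Agent.Lib.Helper20.EtLocal.formallyUnramified_stalkMap_of_nbhd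
    (pullback.snd f g) (j ω) j.opensRange hmem
  have H2 := Groth.Agent.Lib.Helper20.FlatDesc.formallyUnramified_stalkMap_of_flat_baseChange
    f g (j ω) H1
  rw [hfst] at H2
  exact Groth.Agent.Lib.Helper20.EtLocal.exists_formallyUnramified_nbhd f (b ω) H2

/-- Pointwise descent of quasi-finiteness along a base change, for a commutative square
whose comparison map to the fibre product is an open immersion. -/
theorem quasiFiniteAt_of_square {X Y Y' Ω : Scheme.{u}} (f : X ⟶ Y) [LocallyOfFiniteType f]
    (g : Y' ⟶ Y) (a : Ω ⟶ Y') (b : Ω ⟶ X) (h : b ≫ f = a ≫ g)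
    [IsOpenImmersion (pullback.lift b a h)] (ω : Ω) [LocallyQuasiFinite a] :
    f.QuasiFiniteAt (b ω) := by
  obtain ⟨j, hj⟩ : ∃ j, j = pullback.lift b a h := ⟨_, rfl⟩
  have hjo : IsOpenImmersion j := by rw [hj]; infer_instance
  have hj1 : j ≫ pullback.fst f g = b := by rw [hj, pullback.lift_fst]
  have hj2 : j ≫ pullback.snd f g = a := by rw [hj, pullback.lift_snd]
  have hfst : pullback.fst f g (j ω) = b ω := by
    rw [← Scheme.Hom.comp_apply, hj1]
  have h1 : (j ≫ pullback.snd f g).QuasiFiniteAt ω := by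
    rw [hj2]; exact a.quasiFiniteAt ω
  have h2 : (pullback.snd f g).QuasiFiniteAt (j ω) :=
    Scheme.Hom.quasiFiniteAt_comp_iff_of_isOpenImmersion.mp h1
  have h3 := Groth.Agent.Lib.Helper27QFinBC.main f g (pullback.fst f g) (pullback.snd f g)
    (IsPullback.of_hasPullback f g)
  have h4 : j ω ∈ {x' : ↑(pullback f g) | (pullback.snd f g).QuasiFiniteAt x'} := h2
  rw [h3] at h4
  rw [← hfst]
  exact h4

/-- a morphism which is quasi-finite at every point is locally quasi-finite -/
theorem locallyQuasiFinite_of_forall {X Y : Scheme.{u}} (f : X ⟶ Y) [LocallyOfFiniteType f]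
    (H : ∀ x, f.QuasiFiniteAt x) : LocallyQuasiFinite f := by
  rw [← Scheme.Hom.quasiFiniteLocus_eq_top_iff, eq_top_iff]
  intro x _
  exact H x

end Groth.Agent.Lib.Helper15PLocSq2
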