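-- helper15: homogeneity square for a homomorphism of group schemes over a one-point base
import Mathlib
import Groth.Agent.S0114
import Groth.Agent.Lib.Helper11SchImageT
import Groth.Agent.Lib.Helper15PLocSq
import Groth.Agent.Lib.Helper15PLocSq2

set_option autoImplicit false
universe u
open CategoryTheory CategoryTheory.Limits MonoidalCategory CartesianMonoidalCategory MonObj GrpObj AlgebraicGeometry

namespace Groth.Agent.Lib.Helper15HomogP

section
variable {S : Scheme.{u}}

theorem isPullback_whiskerLeft' {Y Z : Over S} (q : Y ⟶ Z) (X : Over S) :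
    IsPullback (snd X Y).left (X ◁ q).left q.left (snd X Z).left := by
  have hr : IsPullback (fst X Z).left (snd X Z).left X.hom Z.hom :=
    IsPullback.of_hasPullback X.hom Z.hom
  have h1 : (X ◁ q).left ≫ (fst X Z).left = (fst X Y).left := by
    rw [← Over.comp_left, whiskerLeft_fst]
  have h2 : (X ◁ q).left ≫ (snd X Z).left = (snd X Y).left ≫ q.left := by
    rw [← Over.comp_left, whiskerLeft_snd, Over.comp_left]
  have ho : IsPullback ((X ◁ q).left ≫ (fst X Z).left) (snd X Y).left X.hom (q.left ≫ Z.hom) := by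
    rw [h1, Over.w q]
    exact IsPullback.of_hasPullback X.hom Y.hom
  exact (IsPullback.of_right ho h2 hr).flip

/-- A "shear" pair gives a cartesian square exhibiting `a` as a base change of `G ⟶ S`. -/
theorem isPullback_shear {G X : Over S} (a b : G ⊗ X ⟶ X)
    (h1 : lift (fst G X) a ≫ b = snd G X) (h2 : lift (fst G X) b ≫ a = snd G X) :
    IsPullback (fst G X).left a.left G.hom X.hom := by
  have e1 : lift (fst G X) a ≫ lift (fst G X) b = 𝟙 _ := by
    apply CartesianMonoidalCategory.hom_ext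
    · simp
    · simp [h1]
  have e2 : lift (fst G X) b ≫ lift (fst G X) a = 𝟙 _ := by
    apply CartesianMonoidalCategory.hom_ext
    · simp
    · simp [h2]
  let σ : G ⊗ X ≅ G ⊗ X := ⟨lift (fst G X) a, lift (fst G X) b, e1, e2⟩
  let σl : (G ⊗ X).left ≅ (G ⊗ X).left := (Over.forget S).mapIso σ
  have hr : IsPullback (fst G X).left (snd G X).left G.hom X.hom :=
    IsPullback.of_hasPullback G.hom X.hom
  refine IsPullback.of_iso hr σl.symm (Iso.refl _) (Iso.refl _) (Iso.refl _) ?_ ?_ ?_ ?_
  · change (fst G X).left ≫ 𝟙 _ = (lift (fst G X) b).left ≫ (fst G X).left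
    rw [Category.comp_id, ← Over.comp_left, lift_fst]
  · change (snd G X).left ≫ 𝟙 _ = (lift (fst G X) b).left ≫ a.left
    rw [Category.comp_id, ← Over.comp_left, h2]
  · simp
  · simp

end

section main
variable {S : Scheme.{u}}

open Groth.Agent.Lib.Helper11SchImage

/-- the data of the homogeneity square for a homomorphism `u : G ⟶ H` and an open `W ⊆ G`. -/
theorem homog_square (hS : ∀ s t : ↥S, s = t) (G H : Over S) [GrpObj G] [GrpObj H]
    [Flat G.hom] [LocallyOfFinitePresentation G.hom] (u : G ⟶ H) [IsMonHom u]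
    (W : G.left.Opens) (hW : (W : Set G.left).Nonempty) :
    ∃ (Ω Y' : Scheme.{u}) (g : Y' ⟶ H.left) (a : Ω ⟶ Y') (b : Ω ⟶ G.left)
      (h : b ≫ u.left = a ≫ g),
      Flat g ∧ LocallyOfFinitePresentation g ∧ Flat b ∧ LocallyOfFinitePresentation b ∧
      Surjective b ∧ IsOpenImmersion (pullback.lift b a h) ∧
      ∀ (P : MorphismProperty Scheme.{u}) [P.IsStableUnderBaseChange], P (W.ι ≫ u.left) → P a := by
  let WO : Over S := Over.mk (W.ι ≫ G.hom)
  let ιW : WO ⟶ G := Over.homMk W.ι rfl
  have hιW : ιW.left = W.ι := rfl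
  obtain ⟨act, hact⟩ : ∃ act : G ⊗ H ⟶ H, act = (fst G H ≫ u) * snd G H := ⟨_, rfl⟩
  have sqact : IsPullback (fst G H).left act.left G.hom H.hom := by
    rw [hact]
    apply isPullback_shear ((fst G H ≫ u) * snd G H) ((fst G H ≫ u)⁻¹ * snd G H)
    · rw [MonObj.comp_mul, GrpObj.comp_inv, lift_fst_assoc, lift_snd]
      group
    · rw [MonObj.comp_mul, lift_fst_assoc, lift_snd]
      group
  have sqmul : IsPullback (fst G G).left μ[G].left G.hom G.hom := by
    rw [MonObj.mul_eq_mul]
    apply isPullback_shear (fst G G * snd G G) ((fst G G)⁻¹ * snd G G)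
    · rw [MonObj.comp_mul, GrpObj.comp_inv, lift_fst, lift_snd]
      group
    · rw [MonObj.comp_mul, lift_fst, lift_snd]
      group
  have hcomm : (G ◁ u) ≫ act = μ[G] ≫ u := by
    rw [hact, MonObj.comp_mul, whiskerLeft_fst_assoc, whiskerLeft_snd, MonObj.mul_eq_mul,
      MonObj.mul_comp]
  have sqμ : IsPullback (G ◁ u).left μ[G].left act.left u.left := by
    have hbig : IsPullback ((G ◁ u).left ≫ (fst G H).left) μ[G].left G.hom (u.left ≫ H.hom) := by
      rw [← Over.comp_left, whiskerLeft_fst, Over.w u]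
      exact sqmul
    refine IsPullback.of_right hbig ?_ sqact
    rw [← Over.comp_left, ← Over.comp_left, hcomm]
  obtain ⟨m', hm'⟩ : ∃ m' : G ⊗ WO ⟶ G, m' = (G ◁ ιW) ≫ μ[G] := ⟨_, rfl⟩
  obtain ⟨a', ha'⟩ : ∃ a' : G ⊗ WO ⟶ G ⊗ H, a' = G ◁ (ιW ≫ u) := ⟨_, rfl⟩
  have hsq : m'.left ≫ u.left = a'.left ≫ act.left := by
    rw [← Over.comp_left, ← Over.comp_left, hm', ha', Category.assoc, ← hcomm,
      ← Category.assoc, ← MonoidalCategory.whiskerLeft_comp]
  have hjW : IsOpenImmersion (G ◁ ιW).left :=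
    MorphismProperty.of_isPullback (P := @IsOpenImmersion) (isPullback_whiskerLeft' ιW G)
      (inferInstanceAs (IsOpenImmersion W.ι))
  have hactfl : Flat act.left := MorphismProperty.of_isPullback (P := @Flat) sqact inferInstance
  have hactfp : LocallyOfFinitePresentation act.left :=
    MorphismProperty.of_isPullback (P := @LocallyOfFinitePresentation) sqact inferInstance
  have hμfl : Flat μ[G].left := MorphismProperty.of_isPullback (P := @Flat) sqmul inferInstance
  have hμfp : LocallyOfFinitePresentation μ[G].left :=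
    MorphismProperty.of_isPullback (P := @LocallyOfFinitePresentation) sqmul inferInstance
  have hm'fl : Flat m'.left := by rw [hm', Over.comp_left]; infer_instance
  have hm'fp : LocallyOfFinitePresentation m'.left := by rw [hm', Over.comp_left]; infer_instance
  have hsurj : Surjective m'.left := by
    obtain ⟨ξ, hξ⟩ := hW
    refine ⟨fun g₀ => ?_⟩
    obtain ⟨t, ht1, ht2⟩ := Scheme.Pullback.exists_preimage_pullback (f := G.hom) (g := G.hom)
      g₀ ξ (hS _ _)
    obtain ⟨ψ, hψ⟩ : ∃ ψ : G ⊗ G ⟶ G ⊗ G, ψ = lift (fst G G * (snd G G)⁻¹) (snd G G) := ⟨_, rfl⟩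
    have e1 : (snd G G).left (ψ.left t) = ξ := by
      rw [← Scheme.Hom.comp_apply, ← Over.comp_left, hψ, lift_snd]
      exact ht2
    have e2 : μ[G].left (ψ.left t) = g₀ := by
      rw [← Scheme.Hom.comp_apply, ← Over.comp_left, hψ, MonObj.mul_eq_mul, MonObj.comp_mul,
        lift_fst, lift_snd, inv_mul_cancel_right]
      exact ht1
    obtain ⟨w, hw⟩ := exists_tensor_preimage (𝟙 G) ιW (ψ.left t) ((fst G G).left (ψ.left t))
      ⟨ξ, hξ⟩ rfl (by rw [hιW]; exact e1.symm ▸ rfl)
    refine ⟨w, ?_⟩
    rw [hm', Over.comp_left, Scheme.Hom.comp_apply, ← id_tensorHom, hw, e2]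
  have hlift : pullback.lift m'.left a'.left hsq = (G ◁ ιW).left ≫ sqμ.flip.isoPullback.hom := by
    apply pullback.hom_ext
    · rw [pullback.lift_fst, Category.assoc, IsPullback.isoPullback_hom_fst, hm', Over.comp_left]
    · rw [pullback.lift_snd, Category.assoc, IsPullback.isoPullback_hom_snd, ha',
        MonoidalCategory.whiskerLeft_comp, Over.comp_left]
  refine ⟨_, _, act.left, a'.left, m'.left, hsq, hactfl, hactfp, hm'fl, hm'fp, hsurj, ?_, ?_⟩
  · rw [hlift]; infer_instance
  · intro P _ hP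
    rw [ha']
    exact MorphismProperty.of_isPullback (P := P) (isPullback_whiskerLeft' (ιW ≫ u) G)
      (by rw [Over.comp_left]; exact hP)

end main

end Groth.Agent.Lib.Helper15HomogP
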