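-- helper15: immersions into locally Noetherian algebraic stacks are quasi-compact; Noetherian substacks.
import Mathlib
import Groth.Agent.Lib.Helper15LocQ
import Groth.Agent.S10519
import Groth.Agent.S9912
import Groth.Agent.S12868
import Groth.Agent.Lib.Helper15QsComp

set_option autoImplicit false
set_option backward.isDefEq.respectTransparency false
set_option backward.isDefEq.respectTransparency.types false
open CategoryTheory CategoryTheory.Functor CategoryTheory.Limits Opposite AlgebraicGeometry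

universe u

namespace Groth.Agent.Lib.Helper15ImmQc

open Groth.Agent.Lib.Helper17 Groth.Agent.Lib.Helper15PshFib Groth.Agent.Lib.Helper15RepComp
  Groth.Agent.Lib.Helper15RepPsh Groth.Agent.Lib.Helper15DiagBase Groth.Agent.Lib.Helper15DiagRepSp
  Groth.Agent.Lib.Helper15Descent Groth.Agent.Lib.Helper15DiagLft
  Groth.Agent.Lib.Helper15DiagDescent Groth.Agent.Lib.Helper15SpMapRep
  Groth.Agent.Lib.Helper15SrcCancel Groth.Agent.Lib.Helper15ChartSp Groth.Agent.Lib.Helper15Atlas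
  Groth.Agent.Lib.Helper15LocEss Groth.Agent.Lib.Helper15UnivComp Groth.Agent.Lib.Helper15SmLoc
  Groth.Agent.Lib.Helper15PtsComp Groth.Agent.Lib.Helper15PtsTop Groth.Agent.Lib.Helper15PtsQc
  Groth.Agent.Lib.Helper15FpSwap Groth.Agent.Lib.Helper15QcLocal Groth.Agent.Lib.Helper15ClosedQc
  Groth.Agent.Lib.Helper15UnivPts Groth.Agent.Lib.Helper15BaseChange
  Groth.Agent.Lib.Helper15MonoSep Groth.Agent.Lib.Helper15QcRep Groth.Agent.Lib.Helper15LocQ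

section Sch

theorem quasiCompact_of_isImmersion {X Y : Scheme.{u}} (f : X ⟶ Y) [IsImmersion f]
    [IsLocallyNoetherian Y] : QuasiCompact f := by
  rw [← f.liftCoborder_ι]
  infer_instance

end Sch

section Sp

variable {S : Scheme.{u}}

theorem isQuasiCompactMor_of_isPullback {X Y X' Y' : AlgSp.Sp S} {q : X' ⟶ X} {p' : X' ⟶ Y'}
    {p : X ⟶ Y} {g : Y' ⟶ Y} (sq : IsPullback q p' p g) (hp : AlgSp.IsQuasiCompactMor p) :
    AlgSp.IsQuasiCompactMor p' := by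
  intro Z Z' hZ hZqc k fst snd sq'
  exact hp hZ hZqc (k ≫ g) (fst ≫ q) snd (sq'.paste_horiz sq)

theorem isQuasiCompactMor_yon_map {U V : Over S} (h : U ⟶ V) (hh : QuasiCompact h.left) :
    AlgSp.IsQuasiCompactMor ((AlgSp.yon S).map h) := by
  let X : AlgSp.Space S := ⟨(AlgSp.yon S).obj U, AlgSp.IsAlgSpace.yon_obj U⟩
  let Y : AlgSp.Space S := ⟨(AlgSp.yon S).obj V, AlgSp.IsAlgSpace.yon_obj V⟩
  let f : X ⟶ Y := ObjectProperty.homMk ((AlgSp.yon S).map h)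
  have h1 : AlgSp.RepWith @QuasiCompact ((AlgSp.yon S).map h) :=
    (AlgSp.repWith_yon_map_iff @QuasiCompact h).2 hh
  exact (Groth.Agent.S9912.result f ((AlgSp.repWith_iff _ _).1 h1).1).1 h1

/-- A map of sheaves to a scheme which is representable by a morphism of schemes with `R`, where
`R` implies quasi-compact over the given scheme, is quasi-compact. -/
theorem isQuasiCompactMor_of_repWith (R : MorphismProperty Scheme.{u}) {F : AlgSp.Sp S}
    {V : Over S} (p : F ⟶ (AlgSp.yon S).obj V) (hp : AlgSp.RepWith R p)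
    (hR : ∀ {U : Over S} (h : U ⟶ V), R h.left → QuasiCompact h.left) :
    AlgSp.IsQuasiCompactMor p := by
  obtain ⟨X₀, snd, fst, sq⟩ := hp.1 (𝟙 ((AlgSp.yon S).obj V))
  have hsnd : R snd.left := hp.2 _ _ _ sq
  have hfst : IsIso fst := sq.isIso_fst_of_isIso
  have sq' : IsPullback (inv fst) p ((AlgSp.yon S).map snd) (𝟙 _) :=
    IsPullback.of_horiz_isIso ⟨by rw [IsIso.inv_comp_eq, Category.comp_id, sq.w, Category.comp_id]⟩
  exact isQuasiCompactMor_of_isPullback sq' (isQuasiCompactMor_yon_map snd (hR snd hsnd))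

end Sp

section Main

variable {S : Scheme.{u}} {𝒳 𝒴 : AlgSt.Cat S}

theorem repByAlgSpWith_qc_of_isImm (h𝒴 : AlgSt.IsAlgStack Scheme.fppfPrecoverage 𝒴)
    (j : 𝒳 ⥤ᵇ 𝒴) (hj : AlgSt.IsImm j)
    (hN : AlgSt.SmoothLocally (fun T ↦ IsLocallyNoetherian T) 𝒴) :
    AlgSt.RepByAlgSpWith AlgSp.IsQuasiCompactMor j := by
  intro T t
  obtain ⟨F, e, he, -⟩ := hj T t
  refine ⟨F, e, he, ?_⟩
  obtain ⟨Y₀, y₀, hy₁, hy₂⟩ := h𝒴.atlas
  have hY₀ : IsLocallyNoetherian Y₀.left := hN Y₀ y₀ hy₁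
  obtain ⟨W, h₁, h₂, hfl, hfp, ⟨κ⟩, hsurj, -⟩ := exists_scheme_square h𝒴.isStack.1 t y₀
    (flat_of_smooth hy₁) (lfp_of_smooth hy₁)
  have hs := hsurj hy₂
  have hcov : AlgSp.IsFppfCover (fun _ : PUnit.{u + 1} => (AlgSp.yon S).obj W)
      (fun _ => (AlgSp.yon S).map h₁) :=
    isFppfCover_of_schemes (fun _ => W) (fun _ => h₁) (fun _ => hfl) (fun _ => hfp)
      (fun x => ⟨PUnit.unit, hs x⟩)
  let y' := BasedFunctor.comp (AlgSt.overMap h₁) t
  obtain ⟨F', e', he', -⟩ := hj W y'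
  obtain ⟨F₀, e₀, he₀, hImm₀⟩ := hj Y₀ y₀
  have hqc₀ : AlgSp.IsQuasiCompactMor
      (AlgSt.spMapOfOver (BasedFunctor.comp e₀ (FibCat.fpFst y₀ j))) :=
    isQuasiCompactMor_of_repWith @IsImmersion _ hImm₀
      (fun h hh => by have := hh; exact quasiCompact_of_isImmersion h.left)
  obtain ⟨q₀, sq₀⟩ := exists_isPullback_baseChange j y₀ F₀.obj e₀ he₀ h₂ y' κ F'.obj e' he'
  have hqc' : AlgSp.IsQuasiCompactMor
      (AlgSt.spMapOfOver (BasedFunctor.comp e' (FibCat.fpFst y' j))) :=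
    isQuasiCompactMor_of_isPullback sq₀ hqc₀
  exact prop_of_baseChange_family _
    (isLocalOnBase_fppf_of_fpqc _ (Groth.Agent.S10519.result S)) j t F e he
    (fun _ : PUnit.{u + 1} => W) (fun _ => h₁) hcov (fun _ => y') (fun _ => Iso.refl _)
    (fun _ => F') (fun _ => e') (fun _ => he') (fun _ => hqc')

theorem noeth_and_qc_of_isImm (h𝒳 : AlgSt.IsAlgStack Scheme.fppfPrecoverage 𝒳)
    (h𝒴 : AlgSt.IsAlgStack Scheme.fppfPrecoverage 𝒴)
    (j : 𝒳 ⥤ᵇ 𝒴) (hj : AlgSt.IsImm j)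
    (hN : AlgSt.SmoothLocally (fun T ↦ IsLocallyNoetherian T) 𝒴) :
    AlgSt.SmoothLocally (fun T ↦ IsLocallyNoetherian T) 𝒳 ∧
      AlgSt.IsQuasiCompactMor Scheme.fppfPrecoverage j :=
  ⟨smoothLocally_noeth_of_locQ_lft j (locQ_lft_of_isImm h𝒳 h𝒴 j hj) hN,
    isQuasiCompactMor_of_rep h𝒳 h𝒴 j (repByAlgSpWith_qc_of_isImm h𝒴 j hj hN)⟩

end Main

section Noeth2

variable {S : Scheme.{u}} {𝒳 𝒴 : AlgSt.Cat S}

theorem qcqs_id (U : Over S) : (AlgSp.IsQuasiCompactMor (S := S) ⊓ AlgSp.IsQuasiSeparatedMor)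
    (𝟙 ((AlgSp.yon S).obj U)) := by
  constructor
  · rw [← (AlgSp.yon S).map_id]
    exact isQuasiCompactMor_yon_map (𝟙 U) (by change QuasiCompact (𝟙 U.left); infer_instance)
  · have : IsIso (pullback.diagonal (𝟙 ((AlgSp.yon S).obj U))) := inferInstance
    exact repWith_of_isIso @QuasiCompact (pullback.diagonal (𝟙 ((AlgSp.yon S).obj U)))

/-- A monomorphism into a quasi-separated category is quasi-separated over the base. -/
theorem isQuasiSeparatedOver_of_isMono (h𝒳 : FibCat.IsFibGrpd 𝒳.p) (h𝒴 : FibCat.IsFibGrpd 𝒴.p)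
    (j : 𝒳 ⥤ᵇ 𝒴) (hj : AlgSt.IsMono j) (hqs : AlgSt.IsQuasiSeparatedOver 𝒴) :
    AlgSt.IsQuasiSeparatedOver 𝒳 := by
  obtain ⟨h1, h2⟩ := Groth.Agent.Lib.Helper17.MonoFF.full_faithful_of_isMono h𝒳 h𝒴 j hj
  have hΔ := isEquivOver_diag_of_fullyFaithful j
  have hjqs : AlgSt.IsQuasiSeparatedMor j :=
    Groth.Agent.Lib.Helper15EquivRep.repByAlgSpWith_of_isEquivOver _ qcqs_id _ hΔ
  have h3 := Groth.Agent.Lib.Helper15QsComp.isQuasiSeparatedMor_comp_st h𝒳 h𝒴 j (FibCat.toSelf 𝒴)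
    hjqs hqs
  rw [Groth.Agent.Lib.Helper15QsComp.comp_toSelf] at h3
  exact h3

theorem noetherian_of_isImm (h𝒳 : AlgSt.IsAlgStack Scheme.fppfPrecoverage 𝒳)
    (h𝒴 : AlgSt.IsAlgStack Scheme.fppfPrecoverage 𝒴)
    (j : 𝒳 ⥤ᵇ 𝒴) (hj : AlgSt.IsImm j) (hqc : AlgSt.IsQuasiCompact 𝒴)
    (hqs : AlgSt.IsQuasiSeparatedOver 𝒴)
    (hN : AlgSt.SmoothLocally (fun T ↦ IsLocallyNoetherian T) 𝒴) :
    AlgSt.IsQuasiCompact 𝒳 ∧ AlgSt.IsQuasiSeparatedOver 𝒳 ∧
      AlgSt.SmoothLocally (fun T ↦ IsLocallyNoetherian T) 𝒳 := by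
  obtain ⟨hN𝒳, hjqc⟩ := noeth_and_qc_of_isImm h𝒳 h𝒴 j hj hN
  refine ⟨?_, isQuasiSeparatedOver_of_isMono h𝒳.isStack.1 h𝒴.isStack.1 j
    (Groth.Agent.S12868.result j hj) hqs, hN𝒳⟩
  have h1 := hjqc 𝒴 h𝒴 hqc (BasedFunctor.id 𝒴)
  exact isQuasiCompact_of_isEquivOver (FibCat.fpSnd (BasedFunctor.id 𝒴) j)
    (isEquivOver_fpSnd (BasedFunctor.id 𝒴) j (isEquivOver_id 𝒴)) h1

end Noeth2

end Groth.Agent.Lib.Helper15ImmQc
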