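-- helper15: an isotrivial twisted constant group is a union of clopen subschemes finite over the base
import Mathlib
import Groth.Agent.Lib.Helper15ClopConst
set_option autoImplicit false
universe u
open CategoryTheory CategoryTheory.Limits AlgebraicGeometry

namespace Groth.Agent.Lib.Helper15IsoTrivClop

open Groth.Agent.Lib.Helper15ClSubConst Groth.Agent.Lib.Helper15ClopConst

/-- an isotrivial twisted constant group is a twisted constant scheme. -/
theorem isTwConst_fpqc_of_isTwConstGrp_finiteEtale {S : Scheme.{u}} (R : Over S) [GrpObj R]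
    (hR : TwC.IsTwConstGrp TwC.Topology.finiteEtale R) : TwC.IsTwConst TwC.Topology.fpqc R := by
  obtain ⟨S', f, hfin, het, hsurj, hloc⟩ := hR
  refine ⟨S', f, inferInstance, hsurj, ?_, fun s' => ?_⟩
  · intro V hV
    refine ⟨f ⁻¹ᵁ V, ?_, ?_⟩
    · exact QuasiCompact.isCompact_preimage (f := f) _ V.isOpen hV.isCompact
    · exact Set.image_preimage_eq _ hsurj.surj
  · obtain ⟨U, hU, -, M, _, e, -⟩ := hloc s'
    exact ⟨U, hU, M, ⟨e⟩⟩

/-- the components of a constant scheme are closed. -/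
lemma isClosed_opensRange_ι {U : Scheme.{u}} {I : Type u} (m : I) :
    IsClosed ((Sigma.ι (fun _ : I => U) m).opensRange : Set ↥(∐ fun _ : I => U)) := by
  have : ((Sigma.ι (fun _ : I => U) m).opensRange : Set ↥(∐ fun _ : I => U))ᶜ =
      ⋃ n ∈ {n : I | n ≠ m}, ((Sigma.ι (fun _ : I => U) n).opensRange : Set _) := by
    ext c
    constructor
    · intro hc
      obtain ⟨n, hn⟩ := exists_eq_ι c
      refine Set.mem_iUnion₂.mpr ⟨n, ?_, ⟨_, hn.symm⟩⟩
      rintro rfl
      exact hc ⟨_, hn.symm⟩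
    · intro hc
      obtain ⟨n, hn, hcn⟩ := Set.mem_iUnion₂.mp hc
      intro hcm
      exact (Set.disjoint_iff.mp (TopologicalSpace.Opens.coe_disjoint.mpr
        (disjoint_opensRange_sigmaι (fun _ : I => U) n m hn))) ⟨hcn, hcm⟩
  rw [← isOpen_compl_iff, this]
  exact isOpen_biUnion fun n _ => (Sigma.ι (fun _ : I => U) n).opensRange.isOpen

/-- quasi-compactness descends along a surjection on the source. -/
lemma quasiCompact_of_comp_surjective {W X Y : Scheme.{u}} (a : W ⟶ X) (b : X ⟶ Y)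
    (ha : Function.Surjective a) [QuasiCompact (a ≫ b)] : QuasiCompact b := by
  refine ⟨fun V hV hVc => ?_⟩
  have h1 : IsCompact ((a ≫ b) ⁻¹' V) := QuasiCompact.isCompact_preimage (f := a ≫ b) V hV hVc
  have h2 := h1.image a.continuous
  convert h2 using 1
  ext y
  constructor
  · intro hy
    obtain ⟨w, rfl⟩ := ha y
    exact ⟨w, hy, rfl⟩
  · rintro ⟨w, hw, rfl⟩
    exact hw

/-- an isotrivial twisted constant group is a union of clopen pieces finite over the base. -/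
theorem exists_clopen_finite {S : Scheme.{u}} (R : Over S) [GrpObj R]
    (hR : TwC.IsTwConstGrp TwC.Topology.finiteEtale R) (x : R.left) :
    ∃ U : R.left.Opens, x ∈ U ∧ IsClosed (U : Set R.left) ∧ IsFinite (U.ι ≫ R.hom) := by
  have hfpqc := isTwConst_fpqc_of_isTwConstGrp_finiteEtale R hR
  obtain ⟨S', f, hfin, het, hsurj, hloc⟩ := hR
  obtain ⟨s', hs'⟩ := hsurj.surj (R.hom x)
  obtain ⟨Uα, hs'U, hUcl, M, _, e, -⟩ := hloc s'
  have hci : IsClosedImmersion Uα.ι :=
    IsClosedImmersion.of_isPreimmersion _ (by rw [Scheme.Opens.range_ι]; exact hUcl)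
  obtain ⟨g, hg⟩ : ∃ g, g = Uα.ι ≫ f := ⟨_, rfl⟩
  rw [← hg] at e
  have hgfin : IsFinite g := by rw [hg]; infer_instance
  have hget : Etale g := by rw [hg]; infer_instance
  obtain ⟨x', hx'1, hx'2⟩ := Scheme.Pullback.exists_preimage_pullback (f := R.hom) (g := g) x
    ⟨s', hs'U⟩ (by rw [hg, ← hs']; rfl)
  obtain ⟨ζ, hζ⟩ : ∃ ζ : pullback R.hom g ⟶ ∐ fun _ : M => (Uα : Scheme.{u}),
      ζ = e.hom.left := ⟨_, rfl⟩
  have hζiso : IsIso ζ := by rw [hζ]; infer_instance
  have hζd : ζ ≫ (Sigma.desc fun _ : M => 𝟙 (Uα : Scheme.{u})) = pullback.snd R.hom g := by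
    have := Over.w e.hom
    dsimp at this
    rw [hζ, this]
  obtain ⟨m, hm⟩ := exists_eq_ι (ζ x')
  obtain ⟨W, hW⟩ : ∃ W : (pullback R.hom g).Opens,
      W = ζ ⁻¹ᵁ (Sigma.ι (fun _ : M => (Uα : Scheme.{u})) m).opensRange := ⟨_, rfl⟩
  have hWcl : IsClosed (W : Set ↥(pullback R.hom g)) := by
    rw [hW]
    exact (isClosed_opensRange_ι m).preimage ζ.continuous
  have hx'W : x' ∈ W := by
    rw [hW]
    exact ⟨_, hm.symm⟩
  have hWqc : QuasiCompact (W.ι ≫ pullback.fst R.hom g ≫ R.hom) := by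
    rw [pullback.condition, ← hζd, hW]
    have := isClosedImmersion_piece ζ m
    rw [← Category.assoc, ← Category.assoc, Category.assoc _ ζ]
    infer_instance
  obtain ⟨π, hπ⟩ : ∃ π, π = pullback.fst R.hom g := ⟨_, rfl⟩
  rw [← hπ] at hWqc hx'1
  have hπfin : IsFinite π := by rw [hπ]; infer_instance
  have hπet : Etale π := by rw [hπ]; infer_instance
  refine ⟨⟨π '' W, π.isOpenMap _ W.isOpen⟩, ⟨x', hx'W, hx'1⟩, π.isClosedMap _ hWcl, ?_⟩
  obtain ⟨U, hU⟩ : ∃ U : R.left.Opens, U = ⟨π '' W, π.isOpenMap _ W.isOpen⟩ := ⟨_, rfl⟩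
  rw [← hU]
  have hUcl' : IsClosed (U : Set R.left) := by rw [hU]; exact π.isClosedMap _ hWcl
  have : IsClosedImmersion U.ι :=
    IsClosedImmersion.of_isPreimmersion _ (by rw [Scheme.Opens.range_ι]; exact hUcl')
  have hrange : Set.range (W.ι ≫ π) ⊆ Set.range U.ι := by
    rintro _ ⟨w, rfl⟩
    rw [Scheme.Opens.range_ι, hU]
    exact ⟨w.1, w.2, rfl⟩
  obtain ⟨a, ha⟩ : ∃ a : W.toScheme ⟶ U.toScheme, a ≫ U.ι = W.ι ≫ π :=
    ⟨IsOpenImmersion.lift U.ι (W.ι ≫ π) hrange, IsOpenImmersion.lift_fac _ _ _⟩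
  have hasurj : Function.Surjective a := by
    intro u
    have hu : u.1 ∈ π '' W := by
      have h1 : u.1 ∈ (U : Set R.left) := u.2
      have h2 : (U : Set R.left) = π '' W := by rw [hU]; rfl
      exact h2 ▸ h1
    obtain ⟨w, hw, hwu⟩ := hu
    refine ⟨⟨w, hw⟩, U.ι.isEmbedding.injective ?_⟩
    rw [← Scheme.Hom.comp_apply, ha]
    exact hwu
  have : QuasiCompact (a ≫ U.ι ≫ R.hom) := by
    rw [← Category.assoc, ha, Category.assoc]
    exact hWqc
  have : QuasiCompact (U.ι ≫ R.hom) := quasiCompact_of_comp_surjective a _ hasurj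
  exact isFinite_of_closed_sub_twConst R hfpqc U.ι

end Groth.Agent.Lib.Helper15IsoTrivClop
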