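-- helper15: rings of pairs and triples congruent modulo a square-zero ideal, with the sum map (Eckmann-Hilton at ring level)
import Mathlib
set_option autoImplicit false
universe u

namespace Groth.Agent.Lib.Helper15KerComm

variable (R : Type u) [CommRing R] {A : Type u} [CommRing A] [Algebra R A] (I : Ideal A)

/-- pairs of elements congruent modulo `I`. -/
def B2 : Subalgebra R (A × A) where
  carrier := {p | p.1 - p.2 ∈ I}
  mul_mem' := by
    rintro ⟨a, b⟩ ⟨a', b'⟩ h h'
    change a - b ∈ I at h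
    change a' - b' ∈ I at h'
    change a * a' - b * b' ∈ I
    have : a * a' - b * b' = a * (a' - b') + (a - b) * b' := by ring
    rw [this]
    exact I.add_mem (I.mul_mem_left _ h') (I.mul_mem_right _ h)
  add_mem' := by
    rintro ⟨a, b⟩ ⟨a', b'⟩ h h'
    change a - b ∈ I at h
    change a' - b' ∈ I at h'
    change a + a' - (b + b') ∈ I
    have : a + a' - (b + b') = (a - b) + (a' - b') := by ring
    rw [this]
    exact I.add_mem h h'
  algebraMap_mem' r := by
    change algebraMap R A r - algebraMap R A r ∈ I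
    rw [sub_self]
    exact I.zero_mem

/-- triples of elements congruent modulo `I`. -/
def B3 : Subalgebra R (A × A × A) where
  carrier := {p | p.1 - p.2.1 ∈ I ∧ p.1 - p.2.2 ∈ I}
  mul_mem' := by
    rintro ⟨a, b, c⟩ ⟨a', b', c'⟩ ⟨h, k⟩ ⟨h', k'⟩
    change a - b ∈ I at h
    change a' - b' ∈ I at h'
    change a - c ∈ I at k
    change a' - c' ∈ I at k'
    refine ⟨?_, ?_⟩
    · change a * a' - b * b' ∈ I
      have : a * a' - b * b' = a * (a' - b') + (a - b) * b' := by ring
      rw [this]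
      exact I.add_mem (I.mul_mem_left _ h') (I.mul_mem_right _ h)
    · change a * a' - c * c' ∈ I
      have : a * a' - c * c' = a * (a' - c') + (a - c) * c' := by ring
      rw [this]
      exact I.add_mem (I.mul_mem_left _ k') (I.mul_mem_right _ k)
  add_mem' := by
    rintro ⟨a, b, c⟩ ⟨a', b', c'⟩ ⟨h, k⟩ ⟨h', k'⟩
    change a - b ∈ I at h
    change a' - b' ∈ I at h'
    change a - c ∈ I at k
    change a' - c' ∈ I at k'
    refine ⟨?_, ?_⟩
    · change a + a' - (b + b') ∈ I
      have : a + a' - (b + b') = (a - b) + (a' - b') := by ring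
      rw [this]
      exact I.add_mem h h'
    · change a + a' - (c + c') ∈ I
      have : a + a' - (c + c') = (a - c) + (a' - c') := by ring
      rw [this]
      exact I.add_mem k k'
  algebraMap_mem' r := by
    refine ⟨?_, ?_⟩
    · change algebraMap R A r - algebraMap R A r ∈ I
      rw [sub_self]
      exact I.zero_mem
    · change algebraMap R A r - algebraMap R A r ∈ I
      rw [sub_self]
      exact I.zero_mem

variable {I}

/-- first projection. -/
def p1 : B2 R I →ₐ[R] A := (AlgHom.fst R A A).comp (B2 R I).val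

/-- second projection. -/
def p2 : B2 R I →ₐ[R] A := (AlgHom.snd R A A).comp (B2 R I).val

/-- the diagonal. -/
def dg : A →ₐ[R] B2 R I :=
  ((AlgHom.id R A).prod (AlgHom.id R A)).codRestrict (B2 R I) (fun a => by
    change a - a ∈ I
    rw [sub_self]
    exact I.zero_mem)

/-- insertion in the first two slots. -/
def i1 : B2 R I →ₐ[R] B3 R I :=
  ((p1 R).prod ((p2 R).prod (p1 R))).codRestrict (B3 R I) (fun x => by
    refine ⟨x.2, ?_⟩
    change x.1.1 - x.1.1 ∈ I
    rw [sub_self]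
    exact I.zero_mem)

/-- insertion in the outer slots. -/
def i2 : B2 R I →ₐ[R] B3 R I :=
  ((p1 R).prod ((p1 R).prod (p2 R))).codRestrict (B3 R I) (fun x => by
    refine ⟨?_, x.2⟩
    change x.1.1 - x.1.1 ∈ I
    rw [sub_self]
    exact I.zero_mem)

/-- projection to the first two slots. -/
def q12 : B3 R I →ₐ[R] B2 R I :=
  (((AlgHom.fst R A (A × A)).comp (B3 R I).val).prod
    ((AlgHom.fst R A A).comp ((AlgHom.snd R A (A × A)).comp (B3 R I).val))).codRestrict (B2 R I)
    (fun x => x.2.1)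

/-- projection to the outer slots. -/
def q13 : B3 R I →ₐ[R] B2 R I :=
  (((AlgHom.fst R A (A × A)).comp (B3 R I).val).prod
    ((AlgHom.snd R A A).comp ((AlgHom.snd R A (A × A)).comp (B3 R I).val))).codRestrict (B2 R I)
    (fun x => x.2.2)

/-- the sum map, a ring map because `I` has square zero. -/
def sg (hI : I * I = ⊥) : B3 R I →ₐ[R] B2 R I where
  toFun x := ⟨(x.1.1, x.1.2.1 + x.1.2.2 - x.1.1), by
    change x.1.1 - (x.1.2.1 + x.1.2.2 - x.1.1) ∈ I
    have : x.1.1 - (x.1.2.1 + x.1.2.2 - x.1.1) = (x.1.1 - x.1.2.1) + (x.1.1 - x.1.2.2) := by ring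
    rw [this]
    exact I.add_mem x.2.1 x.2.2⟩
  map_one' := by
    apply Subtype.ext
    change ((1 : A), (1 : A) + 1 - 1) = (1, 1)
    rw [add_sub_cancel_right]
  map_zero' := by
    apply Subtype.ext
    change ((0 : A), (0 : A) + 0 - 0) = (0, 0)
    rw [add_zero, sub_zero]
  map_add' x y := by
    apply Subtype.ext
    change (x.1.1 + y.1.1, (x.1.2.1 + y.1.2.1) + (x.1.2.2 + y.1.2.2) - (x.1.1 + y.1.1)) =
      (x.1.1 + y.1.1, (x.1.2.1 + x.1.2.2 - x.1.1) + (y.1.2.1 + y.1.2.2 - y.1.1))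
    congr 1
    ring
  map_mul' x y := by
    apply Subtype.ext
    change (x.1.1 * y.1.1, (x.1.2.1 * y.1.2.1) + (x.1.2.2 * y.1.2.2) - (x.1.1 * y.1.1)) =
      (x.1.1 * y.1.1, (x.1.2.1 + x.1.2.2 - x.1.1) * (y.1.2.1 + y.1.2.2 - y.1.1))
    congr 1
    have hz : ∀ s t : A, s ∈ I → t ∈ I → s * t = 0 := by
      intro s t hs ht
      have : s * t ∈ I * I := Ideal.mul_mem_mul hs ht
      rw [hI] at this
      exact this
    obtain ⟨hx1, hx2⟩ := x.2
    obtain ⟨hy1, hy2⟩ := y.2
    have e1 := hz _ _ hx1 hy1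
    have e2 := hz _ _ hx1 hy2
    have e3 := hz _ _ hx2 hy1
    have e4 := hz _ _ hx2 hy2
    linear_combination (-1 : A) * e2 - e3
  commutes' r := by
    apply Subtype.ext
    change (algebraMap R A r, algebraMap R A r + algebraMap R A r - algebraMap R A r) =
      (algebraMap R A r, algebraMap R A r)
    rw [add_sub_cancel_right]

lemma sg_comp_i1 (hI : I * I = ⊥) : (sg R hI).comp (i1 R) = AlgHom.id R (B2 R I) := by
  apply AlgHom.ext
  intro x
  apply Subtype.ext
  change (x.1.1, x.1.2 + x.1.1 - x.1.1) = (x.1.1, x.1.2)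
  rw [add_sub_cancel_right]

lemma sg_comp_i2 (hI : I * I = ⊥) : (sg R hI).comp (i2 R) = AlgHom.id R (B2 R I) := by
  apply AlgHom.ext
  intro x
  apply Subtype.ext
  change (x.1.1, x.1.1 + x.1.2 - x.1.1) = (x.1.1, x.1.2)
  rw [add_sub_cancel_left]

lemma q12_comp_i1 : (q12 R).comp (i1 R) = AlgHom.id R (B2 R I) := by
  apply AlgHom.ext
  intro x
  apply Subtype.ext
  rfl

lemma q13_comp_i2 : (q13 R).comp (i2 R) = AlgHom.id R (B2 R I) := by
  apply AlgHom.ext
  intro x
  apply Subtype.ext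
  rfl

lemma q12_comp_i2 : (q12 R).comp (i2 R) = (dg R (I := I)).comp (p1 R) := by
  apply AlgHom.ext
  intro x
  apply Subtype.ext
  rfl

lemma q13_comp_i1 : (q13 R).comp (i1 R) = (dg R (I := I)).comp (p1 R) := by
  apply AlgHom.ext
  intro x
  apply Subtype.ext
  rfl

lemma p1_comp_dg : (p1 R).comp (dg R (I := I)) = AlgHom.id R A := by
  apply AlgHom.ext
  intro x
  rfl

/-- the pair of the two projections, jointly injective. -/
def q2 : B3 R I →ₐ[R] (B2 R I × B2 R I) := (q12 R).prod (q13 R)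

lemma q2_injective : Function.Injective (q2 R (I := I)) := by
  intro x y h
  have h1 := congrArg (fun z => z.1.1) h
  have h2 := congrArg (fun z => z.2.1) h
  change (x.1.1, x.1.2.1) = (y.1.1, y.1.2.1) at h1
  change (x.1.1, x.1.2.2) = (y.1.1, y.1.2.2) at h2
  have e1 : x.1.1 = y.1.1 := (Prod.ext_iff.1 h1).1
  have e2 : x.1.2.1 = y.1.2.1 := (Prod.ext_iff.1 h1).2
  have e3 : x.1.2.2 = y.1.2.2 := (Prod.ext_iff.1 h2).2
  apply Subtype.ext
  exact Prod.ext e1 (Prod.ext e2 e3)

lemma q12_surjective : Function.Surjective (q12 R (I := I)) := by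
  intro x
  exact ⟨i1 R x, congrArg (fun f => f x) (q12_comp_i1 R)⟩

lemma comap_q12_surjective (hI : I * I = ⊥) :
    Function.Surjective (PrimeSpectrum.comap (q12 R (I := I)).toRingHom) := by
  rw [← Set.range_eq_univ, range_comap_of_surjective _ _ (q12_surjective R),
    Set.eq_univ_iff_forall]
  intro 𝔭 x hx
  have hx0 : q12 R x = 0 := RingHom.mem_ker.1 hx
  have h1 : x.1.1 = 0 := congrArg (fun z => z.1.1) hx0
  have h2 : x.1.2.1 = 0 := congrArg (fun z => z.1.2) hx0
  have h3 : x.1.2.2 ∈ I := by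
    have := x.2.2
    change x.1.1 - x.1.2.2 ∈ I at this
    rw [h1, zero_sub] at this
    exact (Ideal.neg_mem_iff I).1 this
  have hsq : x * x = 0 := by
    apply Subtype.ext
    change (x.1.1 * x.1.1, x.1.2.1 * x.1.2.1, x.1.2.2 * x.1.2.2) = (0, 0, 0)
    rw [h1, h2, MulZeroClass.mul_zero]
    have : x.1.2.2 * x.1.2.2 ∈ I * I := Ideal.mul_mem_mul h3 h3
    rw [hI] at this
    rw [show x.1.2.2 * x.1.2.2 = 0 from this]
  have : x * x ∈ 𝔭.asIdeal := by rw [hsq]; exact 𝔭.asIdeal.zero_mem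
  exact (𝔭.isPrime.mem_or_mem this).elim id id

lemma comap_q2_surjective (hI : I * I = ⊥) :
    Function.Surjective (PrimeSpectrum.comap (q2 R (I := I)).toRingHom) := by
  intro 𝔭
  obtain ⟨𝔮, rfl⟩ := comap_q12_surjective R hI 𝔭
  refine ⟨PrimeSpectrum.comap (RingHom.fst (B2 R I) (B2 R I)) 𝔮, ?_⟩
  rfl

/-- the map to pairs attached to two maps congruent modulo `I`. -/
def pair {Γ : Type u} [CommRing Γ] (φ ψ : Γ →+* A) (h : ∀ f, φ f - ψ f ∈ I) : Γ →+* B2 R I :=
  (φ.prod ψ).codRestrict (B2 R I) h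

lemma p1_comp_pair {Γ : Type u} [CommRing Γ] (φ ψ : Γ →+* A) (h : ∀ f, φ f - ψ f ∈ I) :
    (p1 R (I := I)).toRingHom.comp (pair R φ ψ h) = φ := rfl

lemma p2_comp_pair {Γ : Type u} [CommRing Γ] (φ ψ : Γ →+* A) (h : ∀ f, φ f - ψ f ∈ I) :
    (p2 R (I := I)).toRingHom.comp (pair R φ ψ h) = ψ := rfl

lemma val_injective : Function.Injective (B2 R I).val := Subtype.val_injective

lemma comap_p1_surjective (hI : I * I = ⊥) :
    Function.Surjective (PrimeSpectrum.comap (p1 R (I := I)).toRingHom) := by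
  have hs : Function.Surjective (p1 R (I := I)) := fun a =>
    ⟨dg R a, rfl⟩
  rw [← Set.range_eq_univ, range_comap_of_surjective _ _ hs,
    Set.eq_univ_iff_forall]
  intro 𝔭 x hx
  have h1 : x.1.1 = 0 := RingHom.mem_ker.1 hx
  have h3 : x.1.2 ∈ I := by
    have := x.2
    change x.1.1 - x.1.2 ∈ I at this
    rw [h1, zero_sub] at this
    exact (Ideal.neg_mem_iff I).1 this
  have hsq : x * x = 0 := by
    apply Subtype.ext
    change (x.1.1 * x.1.1, x.1.2 * x.1.2) = (0, 0)
    rw [h1, MulZeroClass.mul_zero]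
    have : x.1.2 * x.1.2 ∈ I * I := Ideal.mul_mem_mul h3 h3
    rw [hI] at this
    rw [show x.1.2 * x.1.2 = 0 from this]
  have : x * x ∈ 𝔭.asIdeal := by rw [hsq]; exact 𝔭.asIdeal.zero_mem
  exact (𝔭.isPrime.mem_or_mem this).elim id id

end Groth.Agent.Lib.Helper15KerComm
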