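-- helper15: points of a group scheme trivial modulo a square-zero ideal commute (affine-local form)
import Mathlib
import Groth.Agent.Lib.Helper15KerCommRing
import Groth.Agent.Lib.Helper15AvgGlueA
set_option autoImplicit false
universe u
open CategoryTheory CategoryTheory.Limits AlgebraicGeometry MonoidalCategory
  CartesianMonoidalCategory MonObj GrpObj

namespace Groth.Agent.Lib.Helper15KerComm

open Groth.Agent.Lib.Helper15Avg Groth.Agent.Lib.Helper15DiagRigid

section Local

variable {R : Type u} [CommRing R] {X : Over (Spec (CommRingCat.of R))} [GrpObj X]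
  {A : Type u} [CommRing A] [Algebra R A] {I : Ideal A} (hI : I * I = ⊥)

include hI in
/-- points with values in triples are determined by their two projections to pairs. -/
theorem eq_of_q12_q13 (x y : T R (B3 R I) ⟶ X) (h12 : tm (q12 R) ≫ x = tm (q12 R) ≫ y)
    (h13 : tm (q13 R) ≫ x = tm (q13 R) ≫ y) : x = y := by
  apply Over.OverMorphism.ext
  refine eq_of_specMap_comp_eq (q2 R (I := I)).toRingHom (q2_injective R)
    (comap_q2_surjective R hI) x.left y.left ?_
  have e12 : (RingHom.fst (B2 R I) (B2 R I)).comp (q2 R (I := I)).toRingHom =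
      (q12 R (I := I)).toRingHom := RingHom.ext (fun _ => rfl)
  have e13 : (RingHom.snd (B2 R I) (B2 R I)).comp (q2 R (I := I)).toRingHom =
      (q13 R (I := I)).toRingHom := RingHom.ext (fun _ => rfl)
  rw [← cancel_epi (coprodSpec (B2 R I) (B2 R I))]
  apply coprod.hom_ext
  · rw [coprodSpec_inl_assoc, coprodSpec_inl_assoc, ← Category.assoc, ← Category.assoc,
      ← Spec.map_comp, ← CommRingCat.ofHom_comp, e12]
    exact congrArg (fun z => z.left) h12
  · rw [coprodSpec_inr_assoc, coprodSpec_inr_assoc, ← Category.assoc, ← Category.assoc,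
      ← Spec.map_comp, ← CommRingCat.ofHom_comp, e13]
    exact congrArg (fun z => z.left) h13

variable {W : X.left.Opens} (hW : IsAffineOpen W)
  (hW1 : ∀ t : Spec (CommRingCat.of A), (1 : T R A ⟶ X).left t ∈ W)

include hI in
lemma comap_mk_surjective :
    Function.Surjective (PrimeSpectrum.comap (Ideal.Quotient.mk I)) := by
  rw [← Set.range_eq_univ, range_comap_of_surjective _ _ Ideal.Quotient.mk_surjective,
    Set.eq_univ_iff_forall]
  intro 𝔭 x hx
  have hxI : x ∈ I := Ideal.Quotient.eq_zero_iff_mem.1 (RingHom.mem_ker.1 hx)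
  have hsq : x * x = 0 := by
    have : x * x ∈ I * I := Ideal.mul_mem_mul hxI hxI
    rw [hI] at this
    exact this
  have : x * x ∈ 𝔭.asIdeal := by rw [hsq]; exact 𝔭.asIdeal.zero_mem
  exact (𝔭.isPrime.mem_or_mem this).elim id id

include hI hW hW1 in
/-- a point trivial modulo `I` is the second component of a point with values in pairs whose
first component is trivial. -/
theorem exists_pair_point (k : T R A ⟶ X) (hk : tm (Ideal.Quotient.mkₐ R I) ≫ k = 1) :
    ∃ kk : T R (B2 R I) ⟶ X, tm (p1 R) ≫ kk = 1 ∧ tm (p2 R) ≫ kk = k := by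
  have hmem : ∀ t : Spec (CommRingCat.of A), k.left t ∈ W := by
    intro t
    obtain ⟨t₀, rfl⟩ := comap_mk_surjective hI t
    have e1 := congrArg (fun z => z.left) hk
    simp only [Over.comp_left] at e1
    have e2 := congrArg (fun z => z.base t₀) e1
    simp only [Scheme.Hom.comp_base, TopCat.comp_app] at e2
    change k.left ((tm (Ideal.Quotient.mkₐ R I)).left t₀) ∈ W
    rw [show k.left ((tm (Ideal.Quotient.mkₐ R I)).left t₀) = (1 : T R _ ⟶ X).left t₀ from e2]
    have e : (1 : T R (A ⧸ I) ⟶ X) = tm (Ideal.Quotient.mkₐ R I) ≫ (1 : T R A ⟶ X) :=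
      (MonObj.comp_one _).symm
    rw [e, Over.comp_left, Scheme.Hom.comp_apply]
    exact hW1 _
  obtain ⟨φ, hφ⟩ := exists_eq_ptW hW k.left hmem
  obtain ⟨ε, hε⟩ := exists_eq_ptW hW (1 : T R A ⟶ X).left hW1
  -- congruence modulo `I`
  have hcong : (Ideal.Quotient.mk I).comp ε = (Ideal.Quotient.mk I).comp φ := by
    apply ptW_injective hW
    rw [← specMap_comp_ptW, ← specMap_comp_ptW, ← hφ, ← hε]
    have e1 := congrArg (fun z => z.left) hk
    have e : (1 : T R (A ⧸ I) ⟶ X) = tm (Ideal.Quotient.mkₐ R I) ≫ (1 : T R A ⟶ X) :=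
      (MonObj.comp_one _).symm
    rw [e] at e1
    exact e1.symm
  have hmemI : ∀ f, ε f - φ f ∈ I := by
    intro f
    have := congrArg (fun z => z f) hcong
    change Ideal.Quotient.mk I (ε f) = Ideal.Quotient.mk I (φ f) at this
    exact Ideal.Quotient.eq.1 this
  -- structure maps
  obtain ⟨θ, hθ⟩ : ∃ θ : R →+* Γ(X.left, W),
      hW.fromSpec ≫ X.hom = Spec.map (CommRingCat.ofHom θ) :=
    ⟨(Spec.preimage (hW.fromSpec ≫ X.hom)).hom, by
      rw [CommRingCat.ofHom_hom, Spec.map_preimage]⟩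
  have hstr : ∀ {D : Type u} [CommRing D] (ψ : Γ(X.left, W) →+* D),
      ptW hW ψ ≫ X.hom = Spec.map (CommRingCat.ofHom (ψ.comp θ)) := by
    intro D _ ψ
    unfold ptW
    rw [Category.assoc, hθ, ← Spec.map_comp, ← CommRingCat.ofHom_comp]
  have hφθ : φ.comp θ = algebraMap R A := by
    have h1 := hstr φ
    have h2 : ptW hW φ ≫ X.hom = Spec.map (CommRingCat.ofHom (algebraMap R A)) := by
      rw [← hφ]
      exact Over.w k
    exact congrArg CommRingCat.Hom.hom (Spec.map_injective (h1.symm.trans h2))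
  have hεθ : ε.comp θ = algebraMap R A := by
    have h1 := hstr ε
    have h2 : ptW hW ε ≫ X.hom = Spec.map (CommRingCat.ofHom (algebraMap R A)) := by
      rw [← hε]
      exact Over.w (1 : T R A ⟶ X)
    exact congrArg CommRingCat.Hom.hom (Spec.map_injective (h1.symm.trans h2))
  have hpθ : (pair R ε φ hmemI).comp θ = algebraMap R (B2 R I) := by
    apply RingHom.ext
    intro r
    apply Subtype.ext
    have e1 := congrArg (fun z => z r) hεθ
    have e2 := congrArg (fun z => z r) hφθ
    exact Prod.ext e1 e2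
  obtain ⟨kk, hkk⟩ : ∃ kk : T R (B2 R I) ⟶ X, kk.left = ptW hW (pair R ε φ hmemI) :=
    ⟨Over.homMk (ptW hW (pair R ε φ hmemI)) ((hstr _).trans
      (congrArg (fun f => Spec.map (CommRingCat.ofHom f)) hpθ)), rfl⟩
  refine ⟨kk, ?_, ?_⟩
  · apply Over.OverMorphism.ext
    rw [Over.comp_left, hkk, tm_left]
    exact (specMap_comp_ptW hW _ _).trans (by rw [p1_comp_pair]; exact hε.symm)
  · apply Over.OverMorphism.ext
    rw [Over.comp_left, hkk, tm_left]
    exact (specMap_comp_ptW hW _ _).trans (by rw [p2_comp_pair]; exact hφ.symm)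

include hI hW hW1 in
/-- **two points trivial modulo a square-zero ideal commute.** -/
theorem comm_of_mod (k k' : T R A ⟶ X) (hk : tm (Ideal.Quotient.mkₐ R I) ≫ k = 1)
    (hk' : tm (Ideal.Quotient.mkₐ R I) ≫ k' = 1) : k * k' = k' * k := by
  obtain ⟨kk, hkk1, hkk2⟩ := exists_pair_point hI hW hW1 k hk
  obtain ⟨kk', hkk1', hkk2'⟩ := exists_pair_point hI hW hW1 k' hk'
  have a1 : tm (q12 R (I := I)) ≫ tm (i1 R) ≫ kk = kk := by
    rw [← Category.assoc, tm_comp, q12_comp_i1, tm_id, Category.id_comp]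
  have a2 : tm (q12 R (I := I)) ≫ tm (i2 R) ≫ kk' = 1 := by
    rw [← Category.assoc, tm_comp, q12_comp_i2, ← tm_comp, Category.assoc, hkk1',
      MonObj.comp_one]
  have a3 : tm (q13 R (I := I)) ≫ tm (i1 R) ≫ kk = 1 := by
    rw [← Category.assoc, tm_comp, q13_comp_i1, ← tm_comp, Category.assoc, hkk1,
      MonObj.comp_one]
  have a4 : tm (q13 R (I := I)) ≫ tm (i2 R) ≫ kk' = kk' := by
    rw [← Category.assoc, tm_comp, q13_comp_i2, tm_id, Category.id_comp]
  have key : (tm (i1 R) ≫ kk) * (tm (i2 R) ≫ kk') = (tm (i2 R) ≫ kk') * (tm (i1 R) ≫ kk) := by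
    apply eq_of_q12_q13 hI
    · rw [MonObj.comp_mul, MonObj.comp_mul, a1, a2, _root_.mul_one, _root_.one_mul]
    · rw [MonObj.comp_mul, MonObj.comp_mul, a3, a4, _root_.mul_one, _root_.one_mul]
  have b1 : tm (sg R hI) ≫ tm (i1 R) ≫ kk = kk := by
    rw [← Category.assoc, tm_comp, sg_comp_i1, tm_id, Category.id_comp]
  have b2 : tm (sg R hI) ≫ tm (i2 R) ≫ kk' = kk' := by
    rw [← Category.assoc, tm_comp, sg_comp_i2, tm_id, Category.id_comp]
  have key2 := congrArg (fun z => tm (sg R hI) ≫ z) key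
  simp only [MonObj.comp_mul] at key2
  rw [b1, b2] at key2
  have key3 := congrArg (fun z => tm (p2 R) ≫ z) key2
  simp only [MonObj.comp_mul] at key3
  rw [hkk2, hkk2'] at key3
  exact key3

end Local

end Groth.Agent.Lib.Helper15KerComm
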