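-- helper15: the kernel of reduction modulo a square-zero ideal on a group scheme is commutative
import Mathlib
import Groth.Agent.Lib.Helper15KerCommSch
import Groth.Agent.Lib.Helper15NormCentral
set_option autoImplicit false
universe u
open CategoryTheory CategoryTheory.Limits AlgebraicGeometry MonoidalCategory
  CartesianMonoidalCategory MonObj GrpObj

namespace Groth.Agent.Lib.Helper15KerComm

open Groth.Agent.Lib.Helper15Avg Groth.Agent.Lib.Helper15DiagRigid

section Global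

variable {R : Type u} [CommRing R] (J : Ideal R)
  {X Y : Over (Spec (CommRingCat.of R))} [GrpObj X]

/-- pointwise form of triviality of the base change. -/
lemma pts_of_pullback_eq_one (g : Y ⟶ X)
    (hg : (Over.pullback (Spec.map (CommRingCat.ofHom (Ideal.Quotient.mk J)))).map g = 1)
    (Q : Over (Spec (CommRingCat.of R)))
    (p : Q ⟶ Over.mk (Spec.map (CommRingCat.ofHom (Ideal.Quotient.mk J)))) (h : Q ⟶ Y) :
    h ≫ g = 1 := by
  obtain ⟨j, hj⟩ : ∃ j : Spec (CommRingCat.of (R ⧸ J)) ⟶ Spec (CommRingCat.of R),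
      j = Spec.map (CommRingCat.ofHom (Ideal.Quotient.mk J)) := ⟨_, rfl⟩
  rw [← hj] at hg p
  obtain ⟨jj, hjj⟩ : ∃ jj : (Over.map j).obj (Over.mk p.left) ⟶ Q, jj.left = 𝟙 _ :=
    ⟨Over.homMk (𝟙 _) (by simpa using (Over.w p).symm), rfl⟩
  have hji : IsIso jj := by
    have : IsIso ((Over.forget _).map jj) := by
      change IsIso jj.left
      rw [hjj]; infer_instance
    exact isIso_of_reflects_iso jj (Over.forget _)
  have h1 : jj ≫ h ≫ g = 1 := by
    apply ((Over.mapPullbackAdj j).homEquiv _ _).injective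
    rw [← Category.assoc, Adjunction.homEquiv_naturality_right, hg, MonObj.comp_one,
      Groth.Agent.Lib.Helper15NormCentral.homEquiv_one]
  rw [← IsIso.inv_hom_id_assoc jj (h ≫ g), h1, MonObj.comp_one]

variable {J}

/-- commutation on an affine point near which the unit section lies in an affine open. -/
lemma comm_on_point (hJ : J * J = ⊥) (g g' : Y ⟶ X)
    (hg : (Over.pullback (Spec.map (CommRingCat.ofHom (Ideal.Quotient.mk J)))).map g = 1)
    (hg' : (Over.pullback (Spec.map (CommRingCat.ofHom (Ideal.Quotient.mk J)))).map g' = 1)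
    (A : Type u) [CommRing A] [Algebra R A] (jj : T R A ⟶ Y)
    {W : X.left.Opens} (hW : IsAffineOpen W)
    (hW1 : ∀ t : Spec (CommRingCat.of A), (1 : T R A ⟶ X).left t ∈ W) :
    jj ≫ (g * g') = jj ≫ (g' * g) := by
  have hJ2 : J ^ 2 = ⊥ := by rw [pow_two]; exact hJ
  obtain ⟨p, -⟩ : ∃ p : T R (A ⧸ IB J A) ⟶
      Over.mk (Spec.map (CommRingCat.ofHom (Ideal.Quotient.mk J))), p = p :=
    ⟨Over.homMk (Spec.map (CommRingCat.ofHom
      (Ideal.quotientMap (IB J A) (algebraMap R A) Ideal.le_comap_map))) (by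
        change Spec.map _ ≫ Spec.map _ = Spec.map _
        rw [← Spec.map_comp, ← CommRingCat.ofHom_comp, Ideal.quotientMap_comp_mk]), rfl⟩
  have hk : tm (Ideal.Quotient.mkₐ R (IB J A)) ≫ jj ≫ g = 1 := by
    rw [← Category.assoc]
    exact pts_of_pullback_eq_one J g hg _ p _
  have hk' : tm (Ideal.Quotient.mkₐ R (IB J A)) ≫ jj ≫ g' = 1 := by
    rw [← Category.assoc]
    exact pts_of_pullback_eq_one J g' hg' _ p _
  rw [MonObj.comp_mul, MonObj.comp_mul]
  exact comm_of_mod (IB_sq J hJ2 A) hW hW1 (jj ≫ g) (jj ≫ g') hk hk'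

/-- **the kernel of reduction modulo a square-zero ideal is commutative.** -/
theorem comm_of_pullback (hJ : J * J = ⊥) (g g' : Y ⟶ X)
    (hg : (Over.pullback (Spec.map (CommRingCat.ofHom (Ideal.Quotient.mk J)))).map g = 1)
    (hg' : (Over.pullback (Spec.map (CommRingCat.ofHom (Ideal.Quotient.mk J)))).map g' = 1) :
    g * g' = g' * g := by
  apply Over.OverMorphism.ext
  apply Scheme.hom_ext_of_forall
  intro y
  obtain ⟨_, ⟨W, hW, rfl⟩, hyW, -⟩ := X.left.isBasis_affineOpens.exists_subset_of_mem_open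
    (Set.mem_univ ((1 : Y ⟶ X).left y)) isOpen_univ
  obtain ⟨W, rfl⟩ : ∃ W2 : X.left.Opens, W2 = W := ⟨W, rfl⟩
  have hWa : IsAffineOpen W := hW
  obtain ⟨_, ⟨O, hO, rfl⟩, hyO, hOW⟩ := Y.left.isBasis_affineOpens.exists_subset_of_mem_open
    (show y ∈ ((1 : Y ⟶ X).left ⁻¹ᵁ W : Y.left.Opens) from hyW)
    ((1 : Y ⟶ X).left ⁻¹ᵁ W).isOpen
  obtain ⟨O, rfl⟩ : ∃ O2 : Y.left.Opens, O2 = O := ⟨O, rfl⟩
  have hOa : IsAffineOpen O := hO
  refine ⟨O, hyO, ?_⟩
  rw [← cancel_epi hOa.isoSpec.inv, IsAffineOpen.isoSpec_inv_ι_assoc,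
    IsAffineOpen.isoSpec_inv_ι_assoc]
  obtain ⟨θ, hθ⟩ : ∃ θ : R →+* Γ(Y.left, O),
      hOa.fromSpec ≫ Y.hom = Spec.map (CommRingCat.ofHom θ) :=
    ⟨(Spec.preimage (hOa.fromSpec ≫ Y.hom)).hom, by
      rw [CommRingCat.ofHom_hom, Spec.map_preimage]⟩
  letI : Algebra R Γ(Y.left, O) := θ.toAlgebra
  obtain ⟨jj, hjj⟩ : ∃ jj : T R Γ(Y.left, O) ⟶ Y, jj.left = hOa.fromSpec :=
    ⟨Over.homMk hOa.fromSpec hθ, rfl⟩
  have hW1 : ∀ t : Spec (CommRingCat.of Γ(Y.left, O)),
      (1 : T R Γ(Y.left, O) ⟶ X).left t ∈ W := by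
    intro t
    have e : (1 : T R Γ(Y.left, O) ⟶ X) = jj ≫ (1 : Y ⟶ X) := (MonObj.comp_one _).symm
    rw [e, Over.comp_left, Scheme.Hom.comp_apply, hjj]
    apply hOW
    have : hOa.fromSpec t ∈ Set.range hOa.fromSpec := ⟨_, rfl⟩
    rw [hOa.range_fromSpec] at this
    exact this
  have key := congrArg (fun z => z.left) (comm_on_point hJ g g' hg hg' Γ(Y.left, O) jj hWa hW1)
  simp only [Over.comp_left] at key
  rw [hjj] at key
  exact key

end Global

end Groth.Agent.Lib.Helper15KerComm
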