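-- helper15: pointwise descent of finite type along a base field extension (algebra)
import Mathlib
import Groth.Agent.Lib.Helper20EtSrc

set_option autoImplicit false
universe u
open TensorProduct

namespace Groth.Agent.Lib.Helper15LftPtAlg

open Groth.Agent.Lib.Helper20.EtSrc

variable {k B R : Type u} [Field k] [CommRing B] [CommRing R] [Algebra k B] [Algebra k R]

section coord
variable {ι : Type u} (e : Module.Basis ι k R) (B₀ : Subalgebra k B)

theorem repr_cmp (t₀ : B₀ ⊗[k] R) (j : ι) :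
    (Algebra.TensorProduct.basis B e).repr (cmp (B₀ := R) B₀ t₀) j =
      ((Algebra.TensorProduct.basis B₀ e).repr t₀ j : B) := by
  induction t₀ using TensorProduct.induction_on with
  | zero => simp
  | tmul a r =>
    rw [cmp_tmul, Algebra.TensorProduct.basis_repr_tmul, Algebra.TensorProduct.basis_repr_tmul]
    simp only [Finsupp.smul_apply, Finsupp.mapRange_apply, smul_eq_mul, MulMemClass.coe_mul]
    rfl
  | add x y hx hy =>
    rw [map_add, map_add, map_add, Finsupp.add_apply, Finsupp.add_apply, hx, hy]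
    rfl

/-- the conductor computation: if `(x ⊗ 1) * φ` comes from `B₀ ⊗ R` then every coordinate of `φ`
multiplies `x` into `B₀`. -/
theorem coord_mul_mem (x : B) (φ t₁ : B₀ ⊗[k] R)
    (h : cmp (B₀ := R) B₀ t₁ = (x ⊗ₜ[k] (1 : R)) * cmp (B₀ := R) B₀ φ) (j : ι) :
    x * ((Algebra.TensorProduct.basis B₀ e).repr φ j : B) ∈ B₀ := by
  have h1 : (x ⊗ₜ[k] (1 : R)) * cmp (B₀ := R) B₀ φ = x • cmp (B₀ := R) B₀ φ := by
    rw [Algebra.smul_def, Algebra.TensorProduct.algebraMap_apply]
    rfl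
  have h2 := repr_cmp e B₀ t₁ j
  rw [h, h1, map_smul, Finsupp.smul_apply, repr_cmp, smul_eq_mul] at h2
  rw [h2]
  exact ((Algebra.TensorProduct.basis B₀ e).repr t₁ j).2

/-- a prime not containing `φ` misses some coordinate of `φ`. -/
theorem exists_coord_notMem (φ : B₀ ⊗[k] R) (p : Ideal (B₀ ⊗[k] R)) (hφ : φ ∉ p) :
    ∃ j, ((Algebra.TensorProduct.basis B₀ e).repr φ j) ⊗ₜ[k] (1 : R) ∉ p := by
  by_contra hcon
  push Not at hcon
  apply hφ
  rw [← (Algebra.TensorProduct.basis B₀ e).linearCombination_repr φ, Finsupp.linearCombination_apply]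
  refine Ideal.sum_mem _ fun j _ => ?_
  change ((Algebra.TensorProduct.basis B₀ e).repr φ j) • (Algebra.TensorProduct.basis B₀ e) j ∈ p
  rw [Algebra.smul_def, Algebra.TensorProduct.algebraMap_apply]
  exact Ideal.mul_mem_right _ _ (hcon j)

end coord

section main

set_option maxHeartbeats 800000 in
/-- **Pointwise descent of finite type over a field.** If a principal open `D(f)` of
`Spec (B ⊗ R)` is of finite type over `R`, then every point of its image in `Spec B` has a
principal open neighbourhood of finite type over `k`. -/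
theorem exists_away_finiteType (f : B ⊗[k] R)
    (hft : ((algebraMap (B ⊗[k] R) (Localization.Away f)).comp
      (Algebra.TensorProduct.includeRight (R := k) (A := B) (B := R)).toRingHom).FiniteType)
    (q' : Ideal (B ⊗[k] R)) [hq'p : q'.IsPrime] (hq : f ∉ q') :
    ∃ b : B, b ⊗ₜ[k] (1 : R) ∉ q' ∧ Algebra.FiniteType k (Localization.Away b) := by
  classical
  obtain ⟨ψ, hψ⟩ : ∃ ψ : R →+* Localization.Away f, ψ =
      (algebraMap (B ⊗[k] R) (Localization.Away f)).comp
      (Algebra.TensorProduct.includeRight (R := k) (A := B) (B := R)).toRingHom := ⟨_, rfl⟩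
  rw [← hψ] at hft
  let _ : Algebra R (Localization.Away f) := ψ.toAlgebra
  have hft' : Algebra.FiniteType R (Localization.Away f) := hft
  obtain ⟨s, hs⟩ := hft'.out
  have hnum : ∀ g : Localization.Away f, ∃ (n : ℕ) (t : B ⊗[k] R),
      g * algebraMap (B ⊗[k] R) (Localization.Away f) f ^ n =
        algebraMap (B ⊗[k] R) (Localization.Away f) t := fun g => IsLocalization.Away.surj f g
  choose n t hnt using hnum
  obtain ⟨B₀, hB₀fg, hB₀⟩ := exists_fg_subset_range (B₀ := R) (insert f (s.image t))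
  obtain ⟨f₀, hf₀'⟩ : f ∈ (cmp (B₀ := R) B₀).range := hB₀ (by simp)
  have hf₀ : cmp (B₀ := R) B₀ f₀ = f := hf₀'
  have hstar : ∀ z : Localization.Away f, ∃ (N : ℕ) (t₁ : B₀ ⊗[k] R),
      z * algebraMap (B ⊗[k] R) (Localization.Away f) f ^ N =
        algebraMap (B ⊗[k] R) (Localization.Away f) (cmp (B₀ := R) B₀ t₁) := by
    intro z
    have hz : z ∈ Algebra.adjoin R (s : Set (Localization.Away f)) := by rw [hs]; trivial
    induction hz using Algebra.adjoin_induction with
    | mem g hg =>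
      obtain ⟨t₁, ht₁'⟩ : t g ∈ (cmp (B₀ := R) B₀).range :=
        hB₀ (by
          simp only [Finset.coe_insert, Finset.coe_image, Set.mem_insert_iff, Set.mem_image,
            Finset.mem_coe]
          exact Or.inr ⟨g, hg, rfl⟩)
      have ht₁ : cmp (B₀ := R) B₀ t₁ = t g := ht₁'
      exact ⟨n g, t₁, by rw [hnt, ← ht₁]⟩
    | algebraMap r =>
      refine ⟨0, (1 : B₀) ⊗ₜ[k] r, ?_⟩
      rw [pow_zero, mul_one, cmp_tmul, RingHom.algebraMap_toAlgebra, hψ]
      rfl
    | add x y _ _ hx hy =>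
      obtain ⟨N₁, t₁, h₁⟩ := hx
      obtain ⟨N₂, t₂, h₂⟩ := hy
      refine ⟨N₁ + N₂, t₁ * f₀ ^ N₂ + t₂ * f₀ ^ N₁, ?_⟩
      rw [map_add, map_mul, map_mul, map_pow, map_pow, hf₀, map_add, map_mul, map_mul, map_pow,
        map_pow, ← h₁, ← h₂]
      ring
    | mul x y _ _ hx hy =>
      obtain ⟨N₁, t₁, h₁⟩ := hx
      obtain ⟨N₂, t₂, h₂⟩ := hy
      refine ⟨N₁ + N₂, t₁ * t₂, ?_⟩
      rw [map_mul, map_mul, ← h₁, ← h₂]
      ring
  -- every `x ⊗ 1` is moved into `B₀ ⊗ R` by a power of `f`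
  have hx : ∀ x : B, ∃ (L : ℕ) (t₂ : B₀ ⊗[k] R),
      cmp (B₀ := R) B₀ t₂ = (x ⊗ₜ[k] (1 : R)) * cmp (B₀ := R) B₀ (f₀ ^ L) := by
    intro x
    obtain ⟨N, t₁, h₁⟩ := hstar (algebraMap (B ⊗[k] R) (Localization.Away f) (x ⊗ₜ[k] (1 : R)))
    rw [← map_pow, ← map_mul, IsLocalization.eq_iff_exists (Submonoid.powers f)] at h₁
    obtain ⟨⟨_, M, rfl⟩, hM⟩ := h₁
    refine ⟨M + N, f₀ ^ M * t₁, ?_⟩
    rw [map_mul, map_pow, map_pow, hf₀, ← hM]
    ring
  -- the open image
  have hopen := PrimeSpectrum.isOpenMap_comap_algebraMap_tensorProduct_of_field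
    (K := k) (A := B₀) (B := R) _ (PrimeSpectrum.basicOpen f₀).isOpen
  have hq₀p : (q'.comap (cmp (B₀ := R) B₀)).IsPrime := Ideal.comap_isPrime _ _
  have hq₀f : f₀ ∉ q'.comap (cmp (B₀ := R) B₀) := by
    rw [Ideal.mem_comap, hf₀]; exact hq
  have hq₀mem : PrimeSpectrum.comap (algebraMap B₀ (B₀ ⊗[k] R)) ⟨_, hq₀p⟩ ∈
      PrimeSpectrum.comap (algebraMap B₀ (B₀ ⊗[k] R)) '' (PrimeSpectrum.basicOpen f₀ : Set _) :=
    ⟨⟨_, hq₀p⟩, hq₀f, rfl⟩
  obtain ⟨_, ⟨b₀, rfl⟩, hb₀mem, hb₀sub⟩ :=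
    PrimeSpectrum.isTopologicalBasis_basic_opens.exists_subset_of_mem_open hq₀mem hopen
  let e := Module.Free.chooseBasis k R
  -- powers of `b₀` move `B` into `B₀`
  have hpow : ∀ x : B, ∃ N : ℕ, (b₀ : B) ^ N * x ∈ B₀ := by
    intro x
    let I : Ideal B₀ :=
      { carrier := {c | (c : B) * x ∈ B₀}
        add_mem' := fun {a c} ha hc => by
          change ((a + c : B₀) : B) * x ∈ B₀
          rw [AddMemClass.coe_add, add_mul]; exact add_mem ha hc
        zero_mem' := by change ((0 : B₀) : B) * x ∈ B₀; simp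
        smul_mem' := fun a c hc => by
          change ((a * c : B₀) : B) * x ∈ B₀
          rw [MulMemClass.coe_mul, mul_assoc]; exact mul_mem a.2 hc }
    have hrad : b₀ ∈ I.radical := by
      by_contra hcon
      rw [Ideal.radical_eq_sInf, Ideal.mem_sInf] at hcon
      push Not at hcon
      obtain ⟨p₀, ⟨hIp, hp₀⟩, hbp⟩ := hcon
      have h1 : (⟨p₀, hp₀⟩ : PrimeSpectrum B₀) ∈ (PrimeSpectrum.basicOpen b₀ : Set _) := hbp
      obtain ⟨p', hp'f, hp'⟩ := hb₀sub h1
      obtain ⟨L, t₂, ht₂⟩ := hx x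
      have hfL : f₀ ^ L ∉ p'.asIdeal := fun h => hp'f (p'.isPrime.mem_of_pow_mem _ h)
      obtain ⟨j, hj⟩ := exists_coord_notMem e B₀ (f₀ ^ L) p'.asIdeal hfL
      have hjI : (Algebra.TensorProduct.basis B₀ e).repr (f₀ ^ L) j ∈ I := by
        change (((Algebra.TensorProduct.basis B₀ e).repr (f₀ ^ L) j : B₀) : B) * x ∈ B₀
        rw [mul_comm]
        exact coord_mul_mem e B₀ x (f₀ ^ L) t₂ ht₂ j
      have hjp : (Algebra.TensorProduct.basis B₀ e).repr (f₀ ^ L) j ∈ p₀ := hIp hjI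
      apply hj
      have h2 : p₀ = p'.asIdeal.comap (algebraMap B₀ (B₀ ⊗[k] R)) :=
        (congrArg PrimeSpectrum.asIdeal hp').symm
      rw [h2, Ideal.mem_comap, Algebra.TensorProduct.algebraMap_apply] at hjp
      exact hjp
    obtain ⟨N, hN⟩ := hrad
    exact ⟨N, by
      have : ((b₀ ^ N : B₀) : B) * x ∈ B₀ := hN
      rwa [SubmonoidClass.coe_pow] at this⟩
  refine ⟨(b₀ : B), ?_, ?_⟩
  · intro hcon
    apply hb₀mem
    change b₀ ∈ (q'.comap (cmp (B₀ := R) B₀)).comap (algebraMap B₀ (B₀ ⊗[k] R))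
    rw [Ideal.mem_comap, Ideal.mem_comap, Algebra.TensorProduct.algebraMap_apply, cmp_tmul]
    exact hcon
  · -- `B[1/b]` is generated by the image of `B₀` and `1/b`
    obtain ⟨C, hC⟩ : ∃ C : Type u, C = Localization.Away (b₀ : B) := ⟨_, rfl⟩
    let 𝒮 : Subalgebra k (Localization.Away (b₀ : B)) :=
      (B₀.map (IsScalarTower.toAlgHom k B (Localization.Away (b₀ : B)))) ⊔
        Algebra.adjoin k {IsLocalization.Away.invSelf (S := Localization.Away (b₀ : B)) (b₀ : B)}
    have h𝒮fg : 𝒮.FG := (hB₀fg.map _).sup (by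
      simpa using Subalgebra.fg_adjoin_finset (R := k)
        ({IsLocalization.Away.invSelf (S := Localization.Away (b₀ : B)) (b₀ : B)} : Finset _))
    have hinv : IsLocalization.Away.invSelf (S := Localization.Away (b₀ : B)) (b₀ : B) ∈ 𝒮 :=
      (le_sup_right : _ ≤ 𝒮) (Algebra.subset_adjoin rfl)
    have hB₀mem : ∀ y : B, y ∈ B₀ → algebraMap B (Localization.Away (b₀ : B)) y ∈ 𝒮 := fun y hy =>
      (le_sup_left : _ ≤ 𝒮) ⟨y, hy, rfl⟩
    have hinvmul : algebraMap B (Localization.Away (b₀ : B)) (b₀ : B) *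
        IsLocalization.Away.invSelf (S := Localization.Away (b₀ : B)) (b₀ : B) = 1 :=
      IsLocalization.Away.mul_invSelf (b₀ : B)
    have hall : ∀ x : B, algebraMap B (Localization.Away (b₀ : B)) x ∈ 𝒮 := by
      intro x
      obtain ⟨N, hN⟩ := hpow x
      have : algebraMap B (Localization.Away (b₀ : B)) x =
          algebraMap B (Localization.Away (b₀ : B)) ((b₀ : B) ^ N * x) *
            IsLocalization.Away.invSelf (S := Localization.Away (b₀ : B)) (b₀ : B) ^ N := by
        rw [map_mul, map_pow, mul_comm _ (algebraMap B _ x), mul_assoc, ← mul_pow, hinvmul,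
          one_pow, mul_one]
      rw [this]
      exact mul_mem (hB₀mem _ hN) (pow_mem hinv N)
    have htop : 𝒮 = ⊤ := by
      rw [eq_top_iff]
      intro z _
      obtain ⟨m, x, hmx⟩ := IsLocalization.Away.surj (b₀ : B) z
      have : z = algebraMap B (Localization.Away (b₀ : B)) x *
          IsLocalization.Away.invSelf (S := Localization.Away (b₀ : B)) (b₀ : B) ^ m := by
        rw [← hmx, mul_assoc, ← mul_pow, hinvmul, one_pow, mul_one]
      rw [this]
      exact mul_mem (hall x) (pow_mem hinv m)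
    exact ⟨htop ▸ h𝒮fg⟩

end main

section isField

/-- `IsField` form of `exists_away_finiteType`. -/
theorem exists_away_finiteType' {k B R : Type u} [CommRing k] (hk : IsField k) [CommRing B]
    [CommRing R] [Algebra k B] [Algebra k R] (f : B ⊗[k] R)
    (hft : ((algebraMap (B ⊗[k] R) (Localization.Away f)).comp
      (Algebra.TensorProduct.includeRight (R := k) (A := B) (B := R)).toRingHom).FiniteType)
    (q' : Ideal (B ⊗[k] R)) [hq'p : q'.IsPrime] (hq : f ∉ q') :
    ∃ b : B, b ⊗ₜ[k] (1 : R) ∉ q' ∧ Algebra.FiniteType k (Localization.Away b) := by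
  let _ := hk.toField
  exact exists_away_finiteType f hft q' hq

end isField

end Groth.Agent.Lib.Helper15LftPtAlg
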