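-- helper15: pointwise descent of locally-of-finite-type over a field base (schemes)
import Mathlib
import Groth.Agent.Lib.Helper15LftPtAlg
import Groth.Agent.Lib.Helper20EtLocalSch

set_option autoImplicit false
universe u
open CategoryTheory CategoryTheory.Limits AlgebraicGeometry TensorProduct

namespace Groth.Agent.Lib.Helper15LftPtSch

variable {X Y Y' : Scheme.{u}}

set_option maxHeartbeats 800000 in
/-- Pointwise descent of "locally of finite type" over a field: if an open `Ω` of `X ×_Y Y'` is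
locally of finite type over `Y'`, every point of the image of `Ω` in `X` has a neighbourhood which
is locally of finite type over `Y`. -/
theorem exists_lft_nbhd [IsAffine Y] (hY : IsField Γ(Y, ⊤)) (f : X ⟶ Y) (g : Y' ⟶ Y)
    (Ω : (pullback f g).Opens) [LocallyOfFiniteType (Ω.ι ≫ pullback.snd f g)]
    (w : ↑(pullback f g)) (hw : w ∈ Ω) :
    ∃ U : X.Opens, pullback.fst f g w ∈ U ∧ LocallyOfFiniteType (U.ι ≫ f) := by
  have hW : IsAffineOpen (⊤ : Y.Opens) := isAffineOpen_top Y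
  obtain ⟨_, ⟨V, hV, rfl⟩, hxV, -⟩ := X.isBasis_affineOpens.exists_subset_of_mem_open
    (Set.mem_univ (pullback.fst f g w)) isOpen_univ
  obtain ⟨_, ⟨W', hW', rfl⟩, hyW', -⟩ := Y'.isBasis_affineOpens.exists_subset_of_mem_open
    (Set.mem_univ (pullback.snd f g w)) isOpen_univ
  have hVW : V ≤ f ⁻¹ᵁ (⊤ : Y.Opens) := fun _ _ => trivial
  have hW'W : W' ≤ g ⁻¹ᵁ (⊤ : Y.Opens) := fun _ _ => trivial
  algebraize [(f.appLE ⊤ V hVW).hom, (g.appLE ⊤ W' hW'W).hom]
  have e₁ : Spec.map (CommRingCat.ofHom (algebraMap Γ(Y, ⊤) Γ(X, V))) ≫ hW.fromSpec =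
      hV.fromSpec ≫ f := IsAffineOpen.SpecMap_appLE_fromSpec f hW hV hVW
  have e₂ : Spec.map (CommRingCat.ofHom (algebraMap Γ(Y, ⊤) Γ(Y', W'))) ≫ hW.fromSpec =
      hW'.fromSpec ≫ g := IsAffineOpen.SpecMap_appLE_fromSpec g hW hW' hW'W
  let j0 := pullback.map _ _ f g hV.fromSpec hW'.fromSpec hW.fromSpec e₁ e₂
  let j := (pullbackSpecIso Γ(Y, ⊤) Γ(X, V) Γ(Y', W')).inv ≫ j0
  have hj1 : j ≫ pullback.fst f g =
      Spec.map (CommRingCat.ofHom (algebraMap Γ(X, V) (Γ(X, V) ⊗[Γ(Y, ⊤)] Γ(Y', W')))) ≫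
        hV.fromSpec := by
    simp only [j, j0, Category.assoc, pullback.lift_fst, pullback.map]
    rw [← Category.assoc, pullbackSpecIso_inv_fst']
  have hj2 : j ≫ pullback.snd f g =
      Spec.map (CommRingCat.ofHom (Algebra.TensorProduct.includeRight
        (R := Γ(Y, ⊤)) (A := Γ(X, V)) (B := Γ(Y', W'))).toRingHom) ≫ hW'.fromSpec := by
    simp only [j, j0, Category.assoc, pullback.lift_snd, pullback.map]
    rw [← Category.assoc, pullbackSpecIso_inv_snd]
    rfl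
  have hwj : w ∈ Set.range j := by
    have : Set.range j = Set.range j0 := by
      simp only [j, Scheme.Hom.comp_base, TopCat.coe_comp]
      rw [Set.range_comp, Set.range_eq_univ.mpr, Set.image_univ]
      exact (pullbackSpecIso Γ(Y, ⊤) Γ(X, V) Γ(Y', W')).inv.surjective
    have : IsOpenImmersion hW.fromSpec := hW.isOpenImmersion_fromSpec
    have : Mono hW.fromSpec := inferInstance
    rw [‹Set.range j = Set.range j0›, Scheme.Pullback.range_map]
    refine ⟨?_, ?_⟩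
    · change pullback.fst f g w ∈ Set.range hV.fromSpec
      rw [hV.range_fromSpec]; exact hxV
    · change pullback.snd f g w ∈ Set.range hW'.fromSpec
      rw [hW'.range_fromSpec]; exact hyW'
  obtain ⟨q, rfl⟩ := hwj
  have : IsOpenImmersion hW.fromSpec := hW.isOpenImmersion_fromSpec
  have : IsOpenImmersion hV.fromSpec := hV.isOpenImmersion_fromSpec
  have : IsOpenImmersion hW'.fromSpec := hW'.isOpenImmersion_fromSpec
  have : IsOpenImmersion j0 := inferInstance
  have : IsOpenImmersion j := inferInstance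
  -- a principal open around `q` inside `j ⁻¹ Ω`
  have hqΩ : q ∈ j ⁻¹ᵁ Ω := hw
  obtain ⟨_, ⟨φ, rfl⟩, hqφ, hφΩ⟩ :=
    PrimeSpectrum.isTopologicalBasis_basic_opens.exists_subset_of_mem_open hqΩ (j ⁻¹ᵁ Ω).2
  -- the principal open as a scheme
  obtain ⟨ιφ, hιφ⟩ : ∃ ιφ : Spec (CommRingCat.of (Localization.Away φ)) ⟶
      Spec (CommRingCat.of (Γ(X, V) ⊗[Γ(Y, ⊤)] Γ(Y', W'))),
      ιφ = Spec.map (CommRingCat.ofHom (algebraMap _ (Localization.Away φ))) := ⟨_, rfl⟩
  have hιφo : IsOpenImmersion ιφ := by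
    rw [hιφ]; exact IsOpenImmersion.of_isLocalization φ
  have hιφmem : ∀ z, ιφ z ∈ (PrimeSpectrum.basicOpen φ : Set (PrimeSpectrum _)) := by
    intro z hz
    rw [hιφ] at hz
    have hz' : algebraMap _ (Localization.Away φ) φ ∈ z.asIdeal := hz
    exact z.isPrime.ne_top (Ideal.eq_top_of_isUnit_mem _ hz'
      (IsLocalization.Away.algebraMap_isUnit φ))
  have hsub : Set.range (ιφ ≫ j) ⊆ Set.range Ω.ι := by
    rw [Scheme.Opens.range_ι]
    rintro _ ⟨z, rfl⟩
    rw [Scheme.Hom.comp_apply]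
    exact hφΩ (hιφmem z)
  obtain ⟨ℓ, hℓ⟩ : ∃ ℓ, ℓ = IsOpenImmersion.lift Ω.ι (ιφ ≫ j) hsub := ⟨_, rfl⟩
  have hℓfac : ℓ ≫ Ω.ι = ιφ ≫ j := by rw [hℓ]; exact IsOpenImmersion.lift_fac _ _ _
  have hℓo : IsOpenImmersion ℓ := by
    have : IsOpenImmersion (ℓ ≫ Ω.ι) := by rw [hℓfac]; infer_instance
    exact IsOpenImmersion.of_comp ℓ Ω.ι
  have hlft1 : LocallyOfFiniteType ((ιφ ≫ j) ≫ pullback.snd f g) := by
    rw [← hℓfac, Category.assoc]
    infer_instance
  have hcomp : (ιφ ≫ j) ≫ pullback.snd f g =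
      Spec.map (CommRingCat.ofHom ((algebraMap (Γ(X, V) ⊗[Γ(Y, ⊤)] Γ(Y', W'))
        (Localization.Away φ)).comp (Algebra.TensorProduct.includeRight
        (R := Γ(Y, ⊤)) (A := Γ(X, V)) (B := Γ(Y', W'))).toRingHom)) ≫ hW'.fromSpec := by
    rw [Category.assoc, hj2, hιφ, ← Category.assoc, ← Spec.map_comp]
    rfl
  rw [hcomp] at hlft1
  have hlft2 := @locallyOfFiniteType_of_comp _ _ _ _ hW'.fromSpec hlft1
  rw [HasRingHomProperty.Spec_iff (P := @LocallyOfFiniteType)] at hlft2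
  have hqp : q.asIdeal.IsPrime := q.isPrime
  obtain ⟨b, hbq, hbft⟩ := Groth.Agent.Lib.Helper15LftPtAlg.exists_away_finiteType' hY φ hlft2
    q.asIdeal hqφ
  refine ⟨X.basicOpen b, ?_, ?_⟩
  · have h3 : pullback.fst f g (j q) = hV.fromSpec ((Spec.map (CommRingCat.ofHom
        (algebraMap Γ(X, V) (Γ(X, V) ⊗[Γ(Y, ⊤)] Γ(Y', W'))))) q) := by
      rw [← Scheme.Hom.comp_apply, ← Scheme.Hom.comp_apply, hj1]
    rw [h3, ← Scheme.Hom.mem_preimage, hV.fromSpec_preimage_basicOpen]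
    change b ∉ (PrimeSpectrum.comap (algebraMap Γ(X, V) (Γ(X, V) ⊗[Γ(Y, ⊤)] Γ(Y', W'))) q).asIdeal
    rw [PrimeSpectrum.comap_asIdeal, Ideal.mem_comap, Algebra.TensorProduct.algebraMap_apply]
    exact hbq
  · apply Groth.Agent.Lib.Helper20.EtLocal.ι_comp_of_appLE (P := @LocallyOfFiniteType)
      (fun f g hf hg => MorphismProperty.comp_mem _ f g hf hg)
      (fun g _ => inferInstance) f hW (hV.basicOpen b) ((X.basicOpen_le b).trans hVW)
    apply Groth.Agent.Lib.Helper20.EtLocal.appLE_basicOpen_of_away RingHom.finiteType_respectsIso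
      f hV hVW b
    rw [RingHom.finiteType_algebraMap]
    exact hbft

end Groth.Agent.Lib.Helper15LftPtSch
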