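-- helper15: a group scheme over a field with a nonempty locally-finite-type open is locally of finite type
import Mathlib
import Groth.Agent.Lib.Helper11SchImageT
import Groth.Agent.Lib.Helper15LftPtSch
import Groth.Agent.Lib.Helper20FlatDescSch
import Groth.Agent.Lib.Helper15HomogP

set_option autoImplicit false
universe u
open CategoryTheory CategoryTheory.Limits MonoidalCategory CartesianMonoidalCategory MonObj GrpObj AlgebraicGeometry

namespace Groth.Agent.Lib.Helper15LftHomog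

open Groth.Agent.Lib.Helper11SchImage

variable {S : Scheme.{u}}

/-- over a one-point base, `G × W ⟶ G`, `(g, w) ↦ g w`, is surjective for nonempty open `W`. -/
theorem surjective_mul_open (hS : ∀ s t : ↥S, s = t) (G : Over S) [GrpObj G]
    (W : G.left.Opens) (hW : (W : Set G.left).Nonempty) :
    Surjective ((G ◁ (Over.homMk W.ι rfl : Over.mk (W.ι ≫ G.hom) ⟶ G)) ≫ μ[G]).left := by
  obtain ⟨ιW, hιW⟩ : ∃ ιW : Over.mk (W.ι ≫ G.hom) ⟶ G, ιW = Over.homMk W.ι rfl := ⟨_, rfl⟩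
  rw [← hιW]
  have hιWl : ιW.left = W.ι := by rw [hιW]; rfl
  obtain ⟨ξ, hξ⟩ := hW
  refine ⟨fun g₀ => ?_⟩
  obtain ⟨t, ht1, ht2⟩ := Scheme.Pullback.exists_preimage_pullback (f := G.hom) (g := G.hom)
    g₀ ξ (hS _ _)
  obtain ⟨ψ, hψ⟩ : ∃ ψ : G ⊗ G ⟶ G ⊗ G, ψ = lift (fst G G * (snd G G)⁻¹) (snd G G) := ⟨_, rfl⟩
  have e1 : (snd G G).left (ψ.left t) = ξ := by
    rw [← Scheme.Hom.comp_apply, ← Over.comp_left, hψ, lift_snd]
    exact ht2
  have e2 : μ[G].left (ψ.left t) = g₀ := by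
    rw [← Scheme.Hom.comp_apply, ← Over.comp_left, hψ, MonObj.mul_eq_mul, MonObj.comp_mul,
      lift_fst, lift_snd, inv_mul_cancel_right]
    exact ht1
  obtain ⟨w, hw⟩ := exists_tensor_preimage (𝟙 G) ιW (ψ.left t) ((fst G G).left (ψ.left t))
    ⟨ξ, hξ⟩ rfl (by rw [hιWl]; exact e1.symm ▸ rfl)
  refine ⟨w, ?_⟩
  rw [Over.comp_left, Scheme.Hom.comp_apply, ← id_tensorHom, hw, e2]

/-- **Homogeneity for finite type over a field**: a group scheme over (the spectrum of) a field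
which has a nonempty open subscheme locally of finite type is locally of finite type. -/
theorem locallyOfFiniteType_of_open [IsAffine S] (hSf : IsField Γ(S, ⊤)) (hS : ∀ s t : ↥S, s = t)
    (G : Over S) [GrpObj G] (W : G.left.Opens) (hW : (W : Set G.left).Nonempty)
    [LocallyOfFiniteType (W.ι ≫ G.hom)] : LocallyOfFiniteType G.hom := by
  have hsurj := surjective_mul_open hS G W hW
  obtain ⟨ιW, hιW⟩ : ∃ ιW : Over.mk (W.ι ≫ G.hom) ⟶ G, ιW = Over.homMk W.ι rfl := ⟨_, rfl⟩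
  rw [← hιW] at hsurj
  have hιWl : ιW.left = W.ι := by rw [hιW]; rfl
  obtain ⟨m', hm'⟩ : ∃ m' : G ⊗ Over.mk (W.ι ≫ G.hom) ⟶ G, m' = (G ◁ ιW) ≫ μ[G] := ⟨_, rfl⟩
  rw [← hm'] at hsurj
  -- the shear automorphism
  obtain ⟨θ, hθ⟩ : ∃ θ : G ⊗ G ⟶ G ⊗ G, θ = lift μ[G] (fst G G) := ⟨_, rfl⟩
  obtain ⟨θ', hθ'⟩ : ∃ θ' : G ⊗ G ⟶ G ⊗ G, θ' = lift (snd G G) ((snd G G)⁻¹ * fst G G) := ⟨_, rfl⟩
  have h1 : θ ≫ θ' = 𝟙 _ := by
    apply CartesianMonoidalCategory.hom_ext
    · rw [hθ, hθ', Category.assoc, lift_fst, lift_snd, Category.id_comp]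
    · rw [hθ, hθ', Category.assoc, lift_snd, MonObj.comp_mul, GrpObj.comp_inv, lift_snd, lift_fst,
        MonObj.mul_eq_mul, inv_mul_cancel_left, Category.id_comp]
  have h2 : θ' ≫ θ = 𝟙 _ := by
    apply CartesianMonoidalCategory.hom_ext
    · rw [hθ, hθ', Category.assoc, lift_fst, MonObj.mul_eq_mul, MonObj.comp_mul, lift_fst, lift_snd,
        mul_inv_cancel_left, Category.id_comp]
    · rw [hθ, hθ', Category.assoc, lift_snd, lift_fst, Category.id_comp]
  have hθiso : IsIso θ.left :=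
    ⟨θ'.left, by rw [← Over.comp_left, h1]; rfl, by rw [← Over.comp_left, h2]; rfl⟩
  have hjW : IsOpenImmersion (G ◁ ιW).left :=
    MorphismProperty.of_isPullback (P := @IsOpenImmersion)
      (Groth.Agent.Lib.Helper15HomogP.isPullback_whiskerLeft' ιW G)
      (by rw [hιWl]; infer_instance)
  obtain ⟨c, hc⟩ : ∃ c : (G ⊗ Over.mk (W.ι ≫ G.hom)).left ⟶ pullback G.hom G.hom,
      c = (G ◁ ιW).left ≫ θ.left := ⟨_, rfl⟩
  have hco : IsOpenImmersion c := by rw [hc]; infer_instance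
  have hc1 : c ≫ pullback.fst G.hom G.hom = m'.left := by
    rw [hc, ← Over.fst_left, Category.assoc, ← Over.comp_left, ← Over.comp_left, hθ, lift_fst, hm']
  have hc2 : c ≫ pullback.snd G.hom G.hom = (fst G (Over.mk (W.ι ≫ G.hom))).left := by
    rw [hc, ← Over.snd_left, Category.assoc, ← Over.comp_left, ← Over.comp_left, hθ, lift_snd,
      whiskerLeft_fst]
  have hΩ : LocallyOfFiniteType (c.opensRange.ι ≫ pullback.snd G.hom G.hom) := by
    have e : c.opensRange.ι ≫ pullback.snd G.hom G.hom =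
        c.isoOpensRange.inv ≫ (fst G (Over.mk (W.ι ≫ G.hom))).left := by
      rw [Iso.eq_inv_comp, ← Category.assoc, Scheme.Hom.isoOpensRange_hom_ι, hc2]
    rw [e, MorphismProperty.cancel_left_of_respectsIso (P := @LocallyOfFiniteType), Over.fst_left]
    have : LocallyOfFiniteType (Over.mk (W.ι ≫ G.hom)).hom :=
      inferInstanceAs (LocallyOfFiniteType (W.ι ≫ G.hom))
    infer_instance
  apply Groth.Agent.Lib.Helper20.FlatDesc.of_forall_exists_nbhd (P := @LocallyOfFiniteType)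
  intro x
  obtain ⟨z, rfl⟩ := m'.left.surjective x
  obtain ⟨U, hU, hU'⟩ := Groth.Agent.Lib.Helper15LftPtSch.exists_lft_nbhd hSf G.hom G.hom
    c.opensRange (c z) ⟨z, rfl⟩
  refine ⟨U, ?_, hU'⟩
  rw [← Scheme.Hom.comp_apply, hc1] at hU
  exact hU

end Groth.Agent.Lib.Helper15LftHomog
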