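import Mathlib
import Groth.Agent.Lib.Helper22Thick2

set_option autoImplicit false
universe u

namespace Groth.Agent.Lib.Helper22.Thick

open AlgebraicGeometry CategoryTheory CategoryTheory.Limits

section Square

variable {X Y X₀ Y₀ : Scheme.{u}} {g : X ⟶ Y} {i : Y₀ ⟶ Y} {i' : X₀ ⟶ X} {g₀ : X₀ ⟶ Y₀}

/-- being a topological embedding lifts along thickenings -/
theorem isEmbedding_of_isPullback (sq : IsPullback i' g₀ g i) [IsClosedImmersion i]
    [Surjective i] (h₀ : Topology.IsEmbedding g₀) : Topology.IsEmbedding g := by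
  haveI : IsClosedImmersion i' := isClosedImmersion_fst sq
  haveI : Surjective i' := surjective_fst sq
  obtain ⟨h', hh'⟩ := isHomeomorph_iff_exists_homeomorph.mp
    (isHomeomorph_of_surjective_closedImmersion i')
  have hfun : (g : X → Y) = (i ∘ g₀) ∘ h'.symm := by
    funext x
    obtain ⟨x₀, rfl⟩ := h'.surjective x
    simp only [Function.comp_apply, Homeomorph.symm_apply_apply]
    rw [hh', ← Scheme.Hom.comp_apply, sq.w, Scheme.Hom.comp_apply]
  rw [hfun]
  exact (i.isClosedEmbedding.isEmbedding.comp h₀).comp h'.symm.isEmbedding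

/-- variant of `app_surjective_of_isPullback` with a pointwise surjectivity hypothesis -/
theorem app_surjective_of_isPullback' (sq : IsPullback i' g₀ g i) [IsClosedImmersion i]
    {U : Y.Opens} (hU : IsAffineOpen U) (hV : IsAffineOpen (g ⁻¹ᵁ U))
    (hnil : IsNilpotent (RingHom.ker (i.app U).hom))
    (hsurj₀ : Function.Surjective (g₀.app (i ⁻¹ᵁ U)).hom) :
    Function.Surjective (g.app U).hom := by
  haveI : IsClosedImmersion i' := isClosedImmersion_fst sq
  have hW : IsAffineOpen (i ⁻¹ᵁ U) := hU.preimage i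
  apply surjective_of_nilpotent _ _ hnil
  intro b
  have hcomp : g.app U ≫ i'.app (g ⁻¹ᵁ U) =
      i.app U ≫ g₀.app (i ⁻¹ᵁ U) ≫ X₀.presheaf.map (eqToHom (by rw [← Scheme.Hom.comp_preimage,
        ← Scheme.Hom.comp_preimage, sq.w])).op := by
    have h1 := Scheme.Hom.congr_app sq.w U
    rw [Scheme.Hom.comp_app, Scheme.Hom.comp_app] at h1
    exact h1.trans (Category.assoc _ _ _)
  have hsurj : Function.Surjective (g.app U ≫ i'.app (g ⁻¹ᵁ U)).hom := by
    rw [hcomp]
    simp only [CommRingCat.hom_comp, RingHom.coe_comp]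
    refine Function.Surjective.comp ?_ (i.app_surjective U hU)
    refine Function.Surjective.comp ?_ hsurj₀
    exact (ConcreteCategory.bijective_of_isIso (X₀.presheaf.map (eqToHom _).op)).2
  obtain ⟨a, ha⟩ := hsurj ((i'.app (g ⁻¹ᵁ U)).hom b)
  refine ⟨a, ?_⟩
  have hk : b - (g.app U).hom a ∈ RingHom.ker (i'.app (g ⁻¹ᵁ U)).hom := by
    rw [RingHom.mem_ker, map_sub, sub_eq_zero]
    rw [CommRingCat.hom_comp, RingHom.comp_apply] at ha
    exact ha.symm
  have := ker_app_le sq hU hV le_rfl hk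
  rwa [← Scheme.Hom.app_eq_appLE] at this

end Square

/-- for an inducing map, every point of the source has arbitrarily small affine open
neighbourhoods of its image with affine preimage -/
theorem exists_isAffineOpen_preimage_le {X Y : Scheme.{u}} (g : X ⟶ Y)
    (hg : Topology.IsInducing g) (x : X) (W : Y.Opens) (hxW : g x ∈ W) :
    ∃ U : Y.Opens, IsAffineOpen U ∧ U ≤ W ∧ g x ∈ U ∧ IsAffineOpen (g ⁻¹ᵁ U) := by
  obtain ⟨_, ⟨U', hU', rfl⟩, hxU', hU'W⟩ := Y.isBasis_affineOpens.exists_subset_of_mem_open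
    hxW W.isOpen
  have hU'a : IsAffineOpen U' := hU'
  obtain ⟨_, ⟨V', hV', rfl⟩, hxV', hV'U'⟩ := X.isBasis_affineOpens.exists_subset_of_mem_open
    (show x ∈ (g ⁻¹ᵁ U' : Set X) from hxU') (g ⁻¹ᵁ U').isOpen
  have hV'a : IsAffineOpen V' := hV'
  obtain ⟨W', hWo, hW⟩ := hg.isOpen_iff.mp V'.isOpen
  let Wo : Y.Opens := ⟨W', hWo⟩
  have hxW' : g x ∈ Wo ⊓ U' := ⟨by show x ∈ g ⁻¹' W'; rw [hW]; exact hxV', hxU'⟩
  obtain ⟨a, ha1, ha2⟩ := hU'a.exists_basicOpen_le (V := Wo ⊓ U') ⟨g x, hxW'⟩ hxU'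
  refine ⟨Y.basicOpen a, hU'a.basicOpen a, ?_, ha2, ?_⟩
  · exact (ha1.trans inf_le_right).trans hU'W
  rw [Scheme.preimage_basicOpen]
  have hle : X.basicOpen (g.app U' a) ≤ V' := by
    rw [← Scheme.preimage_basicOpen]
    intro t ht
    have : g t ∈ Wo ⊓ U' := ha1 ht
    show t ∈ (V' : Set X)
    rw [← hW]
    exact this.1
  have hV'U'' : V' ≤ g ⁻¹ᵁ U' := hV'U'
  have : X.basicOpen (g.app U' a) =
      X.basicOpen (X.presheaf.map (homOfLE hV'U'').op (g.app U' a)) :=
    ((Scheme.basicOpen_res X (g.app U' a) (homOfLE hV'U'').op).trans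
      (inf_eq_right.mpr hle)).symm
  rw [this]
  exact hV'a.basicOpen _


/-- **closed immersions lift along nilpotent thickenings** (explicit nilpotency hypothesis) -/
theorem isClosedImmersion_of_isPullback' {X Y X₀ Y₀ : Scheme.{u}} {g : X ⟶ Y} {i : Y₀ ⟶ Y}
    {i' : X₀ ⟶ X} {g₀ : X₀ ⟶ Y₀} (sq : IsPullback i' g₀ g i)
    [IsClosedImmersion i] [Surjective i]
    (hnil : ∀ U : Y.Opens, IsAffineOpen U → IsNilpotent (RingHom.ker (i.app U).hom))
    [IsClosedImmersion g₀] : IsClosedImmersion g := by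
  have hg := isClosedEmbedding_of_isPullback sq g₀.isClosedEmbedding
  apply IsZariskiLocalAtTarget.of_forall_exists_morphismRestrict (P := @IsClosedImmersion)
  intro y
  obtain ⟨U, hU, hyU, hV⟩ := exists_isAffineOpen_preimage g hg y
  refine ⟨U, hyU, ?_⟩
  haveI : IsAffine U := hU
  haveI : IsAffine (g ⁻¹ᵁ U) := hV
  apply IsClosedImmersion.of_surjective_of_isAffine
  rw [morphismRestrict_appTop]
  have key : ∀ W : Y.Opens, W = U → Function.Surjective (g.app W).hom := by
    rintro W rfl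
    exact app_surjective_of_isPullback sq hU hV (hnil _ hU)
  intro t
  obtain ⟨t', rfl⟩ := (ConcreteCategory.bijective_of_isIso
    (X.presheaf.map (eqToHom (image_morphismRestrict_preimage g U ⊤)).op)).2 t
  obtain ⟨s, rfl⟩ := key _ U.ι_image_top t'
  exact ⟨s, rfl⟩

/-- a lift of an immersion to (an open equal to) its coborder range is a closed immersion -/
theorem isClosedImmersion_of_comp_ι_eq {X₀ Y₀ : Scheme.{u}} (g₀ : X₀ ⟶ Y₀) [IsImmersion g₀]
    (C : Y₀.Opens) (hC : C = g₀.coborderRange) (l : X₀ ⟶ C) (hl : l ≫ C.ι = g₀) :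
    IsClosedImmersion l := by
  subst hC
  have : l = g₀.liftCoborder := by
    rw [← cancel_mono g₀.coborderRange.ι, hl, Scheme.Hom.liftCoborder_ι]
  rw [this]
  infer_instance

/-- **immersions lift along nilpotent thickenings** -/
theorem isImmersion_of_isPullback {X Y X₀ Y₀ : Scheme.{u}} {g : X ⟶ Y} {i : Y₀ ⟶ Y}
    {i' : X₀ ⟶ X} {g₀ : X₀ ⟶ Y₀} (sq : IsPullback i' g₀ g i)
    [IsClosedImmersion i] [Surjective i]
    (hnil : ∀ U : Y.Opens, IsAffineOpen U → IsNilpotent (RingHom.ker (i.app U).hom))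
    [IsImmersion g₀] : IsImmersion g := by
  haveI : IsClosedImmersion i' := isClosedImmersion_fst sq
  haveI : Surjective i' := surjective_fst sq
  have hi := isHomeomorph_of_surjective_closedImmersion i
  -- the open `W` of `Y` corresponding to the coborder range of `g₀`
  let W : Y.Opens := ⟨i '' (g₀.coborderRange : Set Y₀), hi.isOpenMap _ g₀.coborderRange.isOpen⟩
  have hWpre : i ⁻¹ᵁ W = g₀.coborderRange := by
    ext t
    show i t ∈ i '' (g₀.coborderRange : Set Y₀) ↔ _
    exact hi.injective.mem_set_image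
  have hrange : Set.range g ⊆ Set.range W.ι := by
    rw [Scheme.Opens.range_ι]
    rintro _ ⟨x, rfl⟩
    obtain ⟨x₀, rfl⟩ := i'.surjective x
    rw [← Scheme.Hom.comp_apply, sq.w, Scheme.Hom.comp_apply]
    refine ⟨g₀ x₀, ?_, rfl⟩
    exact subset_coborder ⟨x₀, rfl⟩
  let g' : X ⟶ W := IsOpenImmersion.lift W.ι g hrange
  have hg' : g' ≫ W.ι = g := IsOpenImmersion.lift_fac _ _ _
  have hrange₀ : Set.range g₀ ⊆ Set.range (i ⁻¹ᵁ W).ι := by
    rw [Scheme.Opens.range_ι, hWpre]
    exact subset_coborder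
  let g₀' : X₀ ⟶ i ⁻¹ᵁ W := IsOpenImmersion.lift (i ⁻¹ᵁ W).ι g₀ hrange₀
  have hg₀' : g₀' ≫ (i ⁻¹ᵁ W).ι = g₀ := IsOpenImmersion.lift_fac _ _ _
  haveI : IsClosedImmersion g₀' := isClosedImmersion_of_comp_ι_eq g₀ _ hWpre g₀' hg₀'
  have hcomm : g₀' ≫ (i ∣_ W) = i' ≫ g' := by
    rw [← cancel_mono W.ι, Category.assoc, Category.assoc, morphismRestrict_ι, hg',
      ← Category.assoc, hg₀', sq.w]
  have sq' : IsPullback i' g₀' g' (i ∣_ W) := by
    refine (IsPullback.of_right ?_ hcomm (isPullback_morphismRestrict i W).flip).flip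
    rw [hg₀', hg']
    exact sq.flip
  haveI : IsClosedImmersion (i ∣_ W) := IsZariskiLocalAtTarget.restrict ‹_› W
  haveI : Surjective (i ∣_ W) := IsZariskiLocalAtTarget.restrict ‹_› W
  have hnil' : ∀ U : W.toScheme.Opens, IsAffineOpen U →
      IsNilpotent (RingHom.ker ((i ∣_ W).app U).hom) := by
    intro U hU
    have hU' : IsAffineOpen (W.ι ''ᵁ U) := hU.image_of_isOpenImmersion W.ι
    obtain ⟨n, hn⟩ := hnil _ hU'
    refine ⟨n, ?_⟩
    have hker : RingHom.ker ((i ∣_ W).app U).hom = RingHom.ker (i.app (W.ι ''ᵁ U)).hom := by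
      rw [morphismRestrict_app]
      ext a
      simp only [RingHom.mem_ker, CommRingCat.hom_comp, RingHom.comp_apply]
      exact (map_eq_zero_iff _ (ConcreteCategory.bijective_of_isIso
        (Y₀.presheaf.map (eqToHom (image_morphismRestrict_preimage i W U)).op)).1)
    rw [hker]
    exact hn
  haveI : IsClosedImmersion g' := isClosedImmersion_of_isPullback' sq' hnil'
  rw [← hg']
  infer_instance

end Groth.Agent.Lib.Helper22.Thick
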