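-- helper15: group scheme over local artinian ring with nonempty lft open is lft
import Mathlib
import Groth.Prelude
import Groth.Agent.S5346
import Groth.Agent.Lib.Helper11Homog
import Groth.Agent.Lib.Helper15LftHomog

set_option autoImplicit false
universe u
open CategoryTheory CategoryTheory.Limits MonoidalCategory CartesianMonoidalCategory MonObj GrpObj AlgebraicGeometry

namespace Groth.Agent.Lib.Helper15LftArt

/-- a group scheme over a local artinian ring which has a nonempty open subscheme locally of finite
type is locally of finite type. -/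
theorem locallyOfFiniteType_of_open (A : Type u) [CommRing A] [IsArtinianRing A] [IsLocalRing A]
    (G : Over (Spec (CommRingCat.of A))) [GrpObj G] (W : G.left.Opens)
    (hW : (W : Set G.left).Nonempty) [LocallyOfFiniteType (W.ι ≫ G.hom)] :
    LocallyOfFiniteType G.hom := by
  obtain ⟨i, hi⟩ : ∃ i : Spec (CommRingCat.of (IsLocalRing.ResidueField A)) ⟶ Spec (CommRingCat.of A),
      i = Spec.map (CommRingCat.ofHom (IsLocalRing.residue A)) := ⟨_, rfl⟩
  have hS := Groth.Agent.Lib.Helper11Homog.spec_subsingleton_of_artinian_local A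
  have hSk := Groth.Agent.Lib.Helper11Homog.spec_subsingleton_of_artinian_local
    (IsLocalRing.ResidueField A)
  have hSf : IsField Γ(Spec (CommRingCat.of (IsLocalRing.ResidueField A)), ⊤) :=
    (Scheme.ΓSpecIso (CommRingCat.of (IsLocalRing.ResidueField A))).commRingCatIsoToRingEquiv.toMulEquiv.isField
      (Field.toIsField (IsLocalRing.ResidueField A))
  -- the preimage of `W`
  obtain ⟨ξ, hξ⟩ := hW
  obtain ⟨t, ht1, -⟩ := Scheme.Pullback.exists_preimage_pullback (f := G.hom) (g := i)
    ξ (IsLocalRing.closedPoint _) (hS _ _)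
  have hWk : ((pullback.fst G.hom i ⁻¹ᵁ W : (pullback G.hom i).Opens) :
      Set ↥(pullback G.hom i)).Nonempty := ⟨t, by change pullback.fst G.hom i t ∈ W; rw [ht1]; exact hξ⟩
  have hpb : IsPullback (pullback.fst G.hom i ∣_ W)
      ((pullback.fst G.hom i ⁻¹ᵁ W).ι ≫ pullback.snd G.hom i) (W.ι ≫ G.hom) i :=
    (isPullback_morphismRestrict (pullback.fst G.hom i) W).paste_vert
      (IsPullback.of_hasPullback G.hom i)
  have hlft : LocallyOfFiniteType ((pullback.fst G.hom i ⁻¹ᵁ W).ι ≫ (Red.bc i G).hom) :=
    MorphismProperty.of_isPullback (P := @LocallyOfFiniteType) hpb inferInstance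
  have hk : LocallyOfFiniteType (Red.bc i G).hom :=
    Groth.Agent.Lib.Helper15LftHomog.locallyOfFiniteType_of_open hSf hSk (Red.bc i G)
      (pullback.fst G.hom i ⁻¹ᵁ W) hWk
  have hk' : LocallyOfFiniteType (pullback.snd G.hom i) := hk
  rw [hi] at hk'
  exact (Groth.Agent.S5346.result A G G (𝟙 G)).1 hk'

end Groth.Agent.Lib.Helper15LftArt
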