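-- helper15: points of groups of multiplicative type commute; rigidity of homomorphisms from a group of multiplicative type to a commutative group
import Mathlib
import Groth.Agent.Lib.Helper15HomLiftC
import Groth.Agent.Lib.Helper15HomRepD
set_option autoImplicit false
universe u
open CategoryTheory CategoryTheory.Limits AlgebraicGeometry MonoidalCategory
  CartesianMonoidalCategory MonObj GrpObj

namespace Groth.Agent.Lib.Helper15LiftFam

section Comm

variable {U : Scheme.{u}} (G : Over U) [GrpObj G]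

/-- the points of a split group commute. -/
theorem mul_comm_of_iso (M : Type) [AddCommGroup M] (e : Grp.mk G ≅ Grp.mk (Red.DS U M))
    (Y : Over U) (a b : Y ⟶ G) : a * b = b * a := by
  obtain ⟨ε, hε⟩ : ∃ ε : G ⟶ Red.DS U M, ε = e.hom.hom.hom := ⟨_, rfl⟩
  have hεm : IsMonHom ε := by rw [hε]; infer_instance
  obtain ⟨ε', hε'⟩ : ∃ ε' : Red.DS U M ⟶ G, ε' = e.inv.hom.hom := ⟨_, rfl⟩
  have h12 : ε ≫ ε' = 𝟙 _ := by
    rw [hε, hε']
    have := e.hom_inv_id
    exact congr($(this).hom.hom)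
  have hmono : Mono ε := mono_of_mono_fac (h := 𝟙 G) (by rw [h12])
  rw [← cancel_mono ε, MonObj.mul_comp _ _ ε, MonObj.mul_comp _ _ ε]
  exact _root_.mul_comm (a ≫ ε) (b ≫ ε)

end Comm

section CommLoc

variable {S : Scheme.{u}} (G : Over S) [GrpObj G]
  (hG : TwC.Locally S TwC.Topology.fpqc (fun S' f => ∃ (M : Type) (_ : AddCommGroup M),
      Nonempty (Grp.mk (Red.bc f G) ≅ Grp.mk (Red.DS S' M))))

include hG in
/-- the points of a group of multiplicative type commute. -/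
theorem mul_comm_of_multType (Y : Over S) (a b : Y ⟶ G) : a * b = b * a := by
  obtain ⟨K, Sk, g, hcov, hK⟩ := Groth.Agent.Lib.Helper15DiagRigidLoc.exists_fpqc_family _ hG
  refine Groth.Agent.Lib.Helper15NormCentral.hom_ext_of_fpqc_family _ _ g hcov (fun k Y' w => ?_)
  obtain ⟨M, _, ⟨e⟩⟩ := hK k
  rw [MonObj.comp_mul, MonObj.comp_mul]
  apply ((Over.mapPullbackAdj (g k)).homEquiv _ _).injective
  rw [AlgGrp.Action.homEquiv_mul, AlgGrp.Action.homEquiv_mul]
  exact mul_comm_of_iso _ M e _ _ _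

end CommLoc

section Rigid

variable {S S₀ : Scheme.{u}} (i₀ : S₀ ⟶ S) [IsClosedImmersion i₀]
  (hnil : ∀ x : S, ∃ U : S.affineOpens, x ∈ (U : S.Opens) ∧ IsNilpotent (i₀.ker.ideal U))
  (G X : Over S) [GrpObj G] [GrpObj X]
  (hG : TwC.Locally S TwC.Topology.fpqc (fun S' f => ∃ (M : Type) (_ : AddCommGroup M),
      Nonempty (Grp.mk (Red.bc f G) ≅ Grp.mk (Red.DS S' M))))
  (hX : ∀ (Y : Over S) (a b : Y ⟶ X), a * b = b * a)

include hnil hG hX in
/-- **rigidity**: two homomorphisms from a group of multiplicative type to a commutative group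
which agree modulo a locally nilpotent ideal are equal. -/
theorem hom_ext_of_mod_comm (u v : G ⟶ X) [IsMonHom u] [IsMonHom v]
    (h0 : ∀ (Y : Over S) (_ : Y ⟶ Over.mk i₀) (g : Y ⟶ G), g ≫ u = g ≫ v) : u = v := by
  obtain ⟨w, hw⟩ : ∃ w : G ⟶ X, w = u * v⁻¹ := ⟨_, rfl⟩
  have hw_pts : ∀ (Y : Over S) (g : Y ⟶ G), g ≫ w = (g ≫ u) * (g ≫ v)⁻¹ := by
    intro Y g
    rw [hw, MonObj.comp_mul, GrpObj.comp_inv]
  have hmon : IsMonHom w := by
    apply Groth.Agent.Lib.Helper15DiagDSIso.isMonHom_of_mul_grp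
    rw [hw_pts, hw_pts, hw_pts, MonObj.mul_comp _ _ u, MonObj.mul_comp _ _ v]
    exact Groth.Agent.Lib.Helper15HomLift.grp_aux _ _ _ _ (hX _ _ _) (hX _ _ _)
  have hw1 := Groth.Agent.Lib.Helper15HomRigid.hom_eq_one_of_mod i₀ hnil G X hG w (by
    intro Y p g
    rw [hw_pts, h0 Y p g, _root_.mul_inv_cancel])
  rw [hw] at hw1
  exact mul_inv_eq_one.mp hw1

end Rigid

end Groth.Agent.Lib.Helper15LiftFam
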