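-- helper15: local lifting of an identification of two subgroups of multiplicative type modulo a closed subscheme with the same underlying space
import Mathlib
import Groth.Agent.Lib.Helper15HomLiftC
import Groth.Agent.Lib.Helper15HomRepD
set_option autoImplicit false
universe u
open CategoryTheory CategoryTheory.Limits AlgebraicGeometry MonoidalCategory
  CartesianMonoidalCategory MonObj GrpObj

namespace Groth.Agent.Lib.Helper15LiftFam

open Groth.Agent.Lib.Helper15HomLift Groth.Agent.Lib.Helper15HomRep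

section SplitLocal

variable {U U₀ : Scheme.{u}} (j : U₀ ⟶ U) (hj : IsHomeomorph j)
  (G : Over U) [GrpObj G] (M M' : Type) [AddCommGroup M] [AddCommGroup M']
  (i₁ : Red.DS U M ⟶ G) [IsMonHom i₁] (i₂ : Red.DS U M' ⟶ G) [IsMonHom i₂] [Mono i₂]
  (hpts : ∀ (Y : Over U) (_ : Y ⟶ Over.mk j) (h : Y ⟶ Red.DS U M),
    ∃ h' : Y ⟶ Red.DS U M', h' ≫ i₂ = h ≫ i₁)

include hj hpts in
/-- two diagonalisable subgroups which agree over a subscheme of the base with the same underlying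
space: there is a homomorphism between them inducing the identification over the subscheme. -/
theorem exists_lift_split : ∃ ψ : Red.DS U M ⟶ Red.DS U M', IsPtHom ψ ∧
    ∀ (Y : Over U) (_ : Y ⟶ Over.mk j) (h : Y ⟶ Red.DS U M), (h ≫ ψ) ≫ i₂ = h ≫ i₁ := by
  have hZ : IsHomeomorph (Over.mk j).hom := hj
  obtain ⟨φ₀, hφ₀⟩ := hpts (Red.DS U M ⊗ Over.mk j) (snd _ _) (fst _ _)
  have hφ₀hom : AutFam.IsHomFamily (Red.DS U M) (Red.DS U M') φ₀ := by
    intro Y g₁ g₂ t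
    rw [← cancel_mono i₂, Category.assoc, hφ₀, MonObj.mul_comp, Category.assoc, Category.assoc,
      hφ₀, ← Category.assoc, ← Category.assoc, ← Category.assoc, lift_fst, lift_fst, lift_fst,
      MonObj.mul_comp]
  obtain ⟨ψ, hψhom, hψ⟩ := exists_hom_lift_split (Over.mk j) hZ M M' φ₀ hφ₀hom
  refine ⟨ψ, hψhom, fun Y p h => ?_⟩
  have e1 : h ≫ ψ = lift h p ≫ φ₀ := by rw [← hψ, ← Category.assoc, lift_fst]
  rw [e1, Category.assoc, hφ₀, ← Category.assoc, lift_fst]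

end SplitLocal

section Transport

variable {U U₀ : Scheme.{u}} (j : U₀ ⟶ U) (hj : IsHomeomorph j)
  (G H H' : Over U) [GrpObj G] [GrpObj H] [GrpObj H'] (M M' : Type) [AddCommGroup M]
  [AddCommGroup M']
  (e : Grp.mk H ≅ Grp.mk (Red.DS U M)) (e' : Grp.mk H' ≅ Grp.mk (Red.DS U M'))
  (i : H ⟶ G) [IsMonHom i] (i' : H' ⟶ G) [IsMonHom i'] [Mono i']
  (hpts : ∀ (Y : Over U) (_ : Y ⟶ Over.mk j) (h : Y ⟶ H), ∃ h' : Y ⟶ H', h' ≫ i' = h ≫ i)

include hj e e' hpts in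
/-- the same for split groups. -/
theorem exists_lift_of_iso : ∃ ψ : H ⟶ H', IsPtHom ψ ∧
    ∀ (Y : Over U) (_ : Y ⟶ Over.mk j) (h : Y ⟶ H), (h ≫ ψ) ≫ i' = h ≫ i := by
  obtain ⟨α, hα⟩ : ∃ α : Red.DS U M ⟶ H, α = e.inv.hom.hom := ⟨_, rfl⟩
  have hαm : IsMonHom α := by rw [hα]; infer_instance
  obtain ⟨α', hα'⟩ : ∃ α' : H ⟶ Red.DS U M, α' = e.hom.hom.hom := ⟨_, rfl⟩
  have hα'm : IsMonHom α' := by rw [hα']; infer_instance
  have h12 : α' ≫ α = 𝟙 _ := by
    rw [hα, hα']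
    have := e.hom_inv_id
    exact congr($(this).hom.hom)
  obtain ⟨β, hβ⟩ : ∃ β : Red.DS U M' ⟶ H', β = e'.inv.hom.hom := ⟨_, rfl⟩
  have hβm : IsMonHom β := by rw [hβ]; infer_instance
  obtain ⟨β', hβ'⟩ : ∃ β' : H' ⟶ Red.DS U M', β' = e'.hom.hom.hom := ⟨_, rfl⟩
  have h34 : β' ≫ β = 𝟙 _ := by
    rw [hβ, hβ']
    have := e'.hom_inv_id
    exact congr($(this).hom.hom)
  have h43 : β ≫ β' = 𝟙 _ := by
    rw [hβ, hβ']
    have := e'.inv_hom_id
    exact congr($(this).hom.hom)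
  have hβiso : IsIso β := ⟨β', h43, h34⟩
  have hmono : Mono (β ≫ i') := mono_comp _ _
  obtain ⟨ψ', hψ'hom, hψ'⟩ := exists_lift_split j hj G M M' (α ≫ i) (β ≫ i') (by
    intro Y p h
    obtain ⟨h'', hh''⟩ := hpts Y p (h ≫ α)
    refine ⟨h'' ≫ β', ?_⟩
    rw [Category.assoc, ← Category.assoc β', h34, Category.id_comp, hh'', Category.assoc])
  refine ⟨α' ≫ ψ' ≫ β, ?_, ?_⟩
  · intro Y g h
    rw [← Category.assoc, MonObj.mul_comp _ _ α', ← Category.assoc, hψ'hom, MonObj.mul_comp _ _ β]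
    simp only [Category.assoc]
  · intro Y p h
    have h1 := hψ' Y p (h ≫ α')
    simp only [Category.assoc] at h1 ⊢
    rw [h1, ← Category.assoc α', h12, Category.id_comp]

end Transport

section BC

variable {S S₀ U : Scheme.{u}} (j₀ : S₀ ⟶ S) [IsClosedImmersion j₀] [Surjective j₀] (σ : U ⟶ S)
  (G H H' : Over S) [GrpObj G] [GrpObj H] [GrpObj H']
  (i : H ⟶ G) [IsMonHom i] (i' : H' ⟶ G) [IsMonHom i'] [Mono i']
  (hpts : ∀ (Y : Over S) (_ : Y ⟶ Over.mk j₀) (h : Y ⟶ H), ∃ h' : Y ⟶ H', h' ≫ i' = h ≫ i)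
  (M M' : Type) [AddCommGroup M] [AddCommGroup M']
  (e : Grp.mk (Red.bc σ H) ≅ Grp.mk (Red.DS U M))
  (e' : Grp.mk (Red.bc σ H') ≅ Grp.mk (Red.DS U M'))

include hpts e e' in
/-- the lift over a base over which both subgroups become diagonalisable. -/
theorem exists_lift_bc : ∃ ψ : Red.bc σ H ⟶ Red.bc σ H', IsPtHom ψ ∧
    ∀ (Y : Over U) (_ : (Over.map σ).obj Y ⟶ Over.mk j₀) (h : Y ⟶ Red.bc σ H),
      (h ≫ ψ) ≫ (Over.pullback σ).map i' = h ≫ (Over.pullback σ).map i := by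
  have hj : IsHomeomorph (pullback.snd j₀ σ) := by
    rw [isHomeomorph_iff_isEmbedding_surjective]
    exact ⟨(pullback.snd j₀ σ).isClosedEmbedding.isEmbedding,
      (inferInstance : Surjective (pullback.snd j₀ σ)).surj⟩
  have hmono : Mono ((Over.pullback σ).map i') := inferInstance
  obtain ⟨ψ, hψhom, hψ⟩ := exists_lift_of_iso (pullback.snd j₀ σ) hj (Red.bc σ G) (Red.bc σ H)
    (Red.bc σ H') M M' e e' ((Over.pullback σ).map i) ((Over.pullback σ).map i') (by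
    intro Y p h
    obtain ⟨h₀, hh₀⟩ : ∃ h₀, (Over.mapPullbackAdj σ).homEquiv Y H h₀ = h :=
      ⟨_, Equiv.apply_symm_apply _ _⟩
    obtain ⟨p₀, -⟩ : ∃ p₀ : (Over.map σ).obj Y ⟶ Over.mk j₀,
        p₀.left = p.left ≫ pullback.fst j₀ σ :=
      ⟨Over.homMk (p.left ≫ pullback.fst j₀ σ) (by
        have hw := Over.w p
        simp only [Over.mk_hom] at hw
        simp only [Over.mk_hom, Over.map_obj_hom, Category.assoc]
        rw [pullback.condition, ← Category.assoc, hw]), rfl⟩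
    obtain ⟨h₀', hh₀'⟩ := hpts _ p₀ h₀
    refine ⟨(Over.mapPullbackAdj σ).homEquiv Y H' h₀', ?_⟩
    rw [← Adjunction.homEquiv_naturality_right, hh₀', Adjunction.homEquiv_naturality_right, hh₀])
  refine ⟨ψ, hψhom, fun Y p₀ h => ?_⟩
  obtain ⟨p, -⟩ : ∃ p : Y ⟶ Over.mk (pullback.snd j₀ σ),
      p.left = pullback.lift p₀.left Y.hom (by
        have hw := Over.w p₀
        simpa using hw) :=
    ⟨Over.homMk (pullback.lift p₀.left Y.hom (by
        have hw := Over.w p₀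
        simpa using hw)) (pullback.lift_snd _ _ _), rfl⟩
  exact hψ Y p h

end BC

end Groth.Agent.Lib.Helper15LiftFam
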