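-- helper15: families of homomorphisms lifting an identification of two subgroups modulo a closed subscheme; dictionary with homomorphisms between base changes
import Mathlib
import Groth.Agent.Lib.Helper15LiftFamA
import Groth.Agent.Lib.Helper15LiftFamB
import Groth.Agent.Lib.Helper15HomRepC
import Groth.Agent.Lib.Helper15AvgSchA
set_option autoImplicit false
universe u
open CategoryTheory CategoryTheory.Limits AlgebraicGeometry MonoidalCategory
  CartesianMonoidalCategory MonObj GrpObj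

namespace Groth.Agent.Lib.Helper15LiftFam

open Groth.Agent.Lib.Helper15HomLift Groth.Agent.Lib.Helper15HomRep Groth.Agent.Lib.Helper15Avg

section Def

variable {S S₀ : Scheme.{u}} (j₀ : S₀ ⟶ S) {G H H' : Over S} [GrpObj G] [GrpObj H] [GrpObj H']
  (i : H ⟶ G) (i' : H' ⟶ G)

/-- `φ` is a family of homomorphisms inducing the identification of the two subgroups over the
subscheme `S₀`. -/
def IsLiftFam {T : Over S} (φ : H ⊗ T ⟶ H') : Prop :=
  AutFam.IsHomFamily H H' φ ∧ ∀ (Q : Over S) (_ : Q ⟶ Over.mk j₀) (t : Q ⟶ T) (h : Q ⟶ H),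
    (lift h t ≫ φ) ≫ i' = h ≫ i

variable {j₀ i i'} in
lemma IsLiftFam.whisker {T T' : Over S} (a : T' ⟶ T) {φ : H ⊗ T ⟶ H'}
    (hφ : IsLiftFam j₀ i i' φ) : IsLiftFam j₀ i i' ((H ◁ a) ≫ φ) := by
  refine ⟨isHomFamily_whiskerLeft_comp a φ hφ.1, fun Q p t h => ?_⟩
  rw [← Category.assoc, lift_whiskerLeft]
  exact hφ.2 Q p (t ≫ a) h

end Def

section Pts

variable {S X : Scheme.{u}} (g : X ⟶ S)

/-- a point of an object coming from `X` lies over `X`. -/
lemma exists_pt_iso (T' : Over X) (Q : Over S) (t : Q ⟶ (Over.map g).obj T') :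
    ∃ (Y' : Over X) (κ : (Over.map g).obj Y' ≅ Q) (t' : Y' ⟶ T'),
      (Over.map g).map t' = κ.hom ≫ t := by
  refine ⟨Over.mk (t.left ≫ T'.hom), Over.isoMk (Iso.refl _) (by simpa using (Over.w t).symm),
    Over.homMk t.left rfl, ?_⟩
  apply Over.OverMorphism.ext
  simp

end Pts

section Fam

variable {S S₀ U : Scheme.{u}} (j₀ : S₀ ⟶ S) (σ : U ⟶ S)
  (G H H' : Over S) [GrpObj G] [GrpObj H] [GrpObj H']
  (i : H ⟶ G) [IsMonHom i] (i' : H' ⟶ G) [IsMonHom i'] [Mono i']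

/-- a homomorphism between the base changes with the lifting property gives a lifting family. -/
theorem isLiftFam_of_bc (ψ : Red.bc σ H ⟶ Red.bc σ H') (hψhom : IsPtHom ψ)
    (hψ : ∀ (Y : Over U) (_ : (Over.map σ).obj Y ⟶ Over.mk j₀) (h : Y ⟶ Red.bc σ H),
      (h ≫ ψ) ≫ (Over.pullback σ).map i' = h ≫ (Over.pullback σ).map i) :
    ∃ φ : H ⊗ (Over.map σ).obj (𝟙_ (Over U)) ⟶ H', IsLiftFam j₀ i i' φ := by
  obtain ⟨φ, hφ⟩ := (famBC_bijective σ H H' (𝟙_ (Over U))).2 (fst _ _ ≫ ψ)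
  refine ⟨φ, ?_, ?_⟩
  · rw [← isHomFamily_famBC_iff σ H H' _ φ, hφ]
    intro Y g₁ g₂ t
    rw [← Category.assoc, ← Category.assoc, ← Category.assoc, lift_fst, lift_fst, lift_fst]
    exact hψhom Y g₁ g₂
  · intro Q p t h
    obtain ⟨Y', κ, t', ht'⟩ := exists_pt_iso σ _ Q t
    rw [← cancel_epi κ.hom]
    have key : κ.hom ≫ lift h t ≫ φ = lift (κ.hom ≫ h) ((Over.map σ).map t') ≫ φ := by
      rw [← Category.assoc, comp_lift, ht']
    apply ((Over.mapPullbackAdj σ).homEquiv _ _).injective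
    have e1 : κ.hom ≫ (lift h t ≫ φ) ≫ i' =
        (lift (κ.hom ≫ h) ((Over.map σ).map t') ≫ φ) ≫ i' := by
      rw [← key]
      simp only [Category.assoc]
    rw [e1, Adjunction.homEquiv_naturality_right,
      ← lift_famBC, hφ, ← Category.assoc, lift_fst, hψ Y' (κ.hom ≫ p),
      ← Adjunction.homEquiv_naturality_right, Category.assoc]

/-- conversely a lifting family gives a homomorphism between the base changes. -/
theorem exists_bc_of_isLiftFam (φ : H ⊗ (Over.map σ).obj (𝟙_ (Over U)) ⟶ H')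
    (hφ : IsLiftFam j₀ i i' φ) :
    ∃ ψ : Red.bc σ H ⟶ Red.bc σ H', IsMonHom ψ ∧ famBC σ H H' _ φ = fst _ _ ≫ ψ ∧
      ∀ (Y : Over U) (_ : (Over.map σ).obj Y ⟶ Over.mk j₀) (y : Y ⟶ Red.bc σ H),
        (y ≫ ψ) ≫ (Over.pullback σ).map i' = y ≫ (Over.pullback σ).map i := by
  obtain ⟨Ψ, hΨ⟩ : ∃ Ψ, Ψ = famBC σ H H' (𝟙_ (Over U)) φ := ⟨_, rfl⟩
  have hΨhom : AutFam.IsHomFamily (Red.bc σ H) (Red.bc σ H') Ψ := by
    rw [hΨ, isHomFamily_famBC_iff]
    exact hφ.1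
  obtain ⟨ψ, hψ⟩ : ∃ ψ : Red.bc σ H ⟶ Red.bc σ H', ψ = lift (𝟙 _) (toUnit _) ≫ Ψ := ⟨_, rfl⟩
  have hpt : ∀ (Y : Over U) (y : Y ⟶ Red.bc σ H), y ≫ ψ = lift y (toUnit Y) ≫ Ψ := by
    intro Y y
    rw [hψ, ← Category.assoc, comp_lift, Category.comp_id, toUnit_unique (y ≫ toUnit _) (toUnit Y)]
  refine ⟨ψ, ?_, ?_, ?_⟩
  · apply Groth.Agent.Lib.Helper15DiagDSIso.isMonHom_of_mul_grp
    rw [hpt, hpt, hpt]
    exact hΨhom _ _ _ _
  · rw [← hΨ, hpt]
    have : lift (fst (Red.bc σ H) (𝟙_ (Over U))) (toUnit _) = 𝟙 _ := by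
      apply CartesianMonoidalCategory.hom_ext
      · rw [lift_fst, Category.id_comp]
      · rw [lift_snd, Category.id_comp]
        exact toUnit_unique _ _
    rw [this, Category.id_comp]
  · intro Y p₀ y
    obtain ⟨h₀, rfl⟩ := ((Over.mapPullbackAdj σ).homEquiv _ _).surjective y
    rw [hpt, hΨ, lift_famBC, ← Adjunction.homEquiv_naturality_right,
      ← Adjunction.homEquiv_naturality_right, hφ.2 _ p₀]

end Fam

end Groth.Agent.Lib.Helper15LiftFam
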