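-- helper15: uniqueness of lifting families over affine bases, points with values in affine schemes, and the global lift of an identification of subgroups of multiplicative type modulo a nilpotent ideal
import Mathlib
import Groth.Agent.Lib.Helper15LiftFamC
set_option autoImplicit false
universe u
open CategoryTheory CategoryTheory.Limits AlgebraicGeometry MonoidalCategory
  CartesianMonoidalCategory MonObj GrpObj

namespace Groth.Agent.Lib.Helper15LiftFam

open Groth.Agent.Lib.Helper15HomLift Groth.Agent.Lib.Helper15HomRep Groth.Agent.Lib.Helper15Avg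

section Unique

variable {R D : Type u} [CommRing R] [CommRing D] (J : Ideal R) (hJ : IsNilpotent J)
  (σ : Spec (CommRingCat.of D) ⟶ Spec (CommRingCat.of R))
  (G H H' : Over (Spec (CommRingCat.of R))) [GrpObj G] [GrpObj H] [GrpObj H']
  (i : H ⟶ G) [IsMonHom i] (i' : H' ⟶ G) [IsMonHom i'] [Mono i']
  (M M' : Type) [AddCommGroup M] [AddCommGroup M']
  (e : Grp.mk (Red.bc σ H) ≅ Grp.mk (Red.DS (Spec (CommRingCat.of D)) M))
  (e' : Grp.mk (Red.bc σ H') ≅ Grp.mk (Red.DS (Spec (CommRingCat.of D)) M'))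

include hJ e e' in
/-- uniqueness of lifting families over the unit object of an affine base over which both
subgroups are diagonalisable. -/
theorem isLiftFam_unique_unit
    (φ φ' : H ⊗ (Over.map σ).obj (𝟙_ (Over (Spec (CommRingCat.of D)))) ⟶ H')
    (hφ : IsLiftFam (Spec.map (CommRingCat.ofHom (Ideal.Quotient.mk J))) i i' φ)
    (hφ' : IsLiftFam (Spec.map (CommRingCat.ofHom (Ideal.Quotient.mk J))) i i' φ') : φ = φ' := by
  obtain ⟨gam, hgam⟩ : ∃ gam : R →+* D, σ = Spec.map (CommRingCat.ofHom gam) :=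
    ⟨(Spec.preimage σ).hom, by rw [CommRingCat.ofHom_hom, Spec.map_preimage]⟩
  obtain ⟨ψ, hψm, hψ, hψl⟩ := exists_bc_of_isLiftFam _ σ G H H' i i' φ hφ
  obtain ⟨ψ', hψ'm, hψ', hψ'l⟩ := exists_bc_of_isLiftFam _ σ G H H' i i' φ' hφ'
  obtain ⟨J', hJ'⟩ : ∃ J' : Ideal D, J' = J.map gam := ⟨_, rfl⟩
  have hJ'nil : IsNilpotent J' := by
    obtain ⟨n, hn⟩ := hJ
    refine ⟨n, ?_⟩
    rw [hJ', ← Ideal.map_pow, hn, Ideal.zero_eq_bot, Ideal.map_bot, Ideal.zero_eq_bot]
  have hci : IsClosedImmersion (Spec.map (CommRingCat.ofHom (Ideal.Quotient.mk J'))) :=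
    IsClosedImmersion.spec_of_surjective _ Ideal.Quotient.mk_surjective
  have hle : J ≤ J'.comap gam := by rw [hJ']; exact Ideal.le_comap_map
  have hsq : Spec.map (CommRingCat.ofHom (Ideal.Quotient.mk J')) ≫ σ =
      Spec.map (CommRingCat.ofHom (Ideal.quotientMap J' gam hle)) ≫
        Spec.map (CommRingCat.ofHom (Ideal.Quotient.mk J)) := by
    rw [hgam, ← Spec.map_comp, ← Spec.map_comp, ← CommRingCat.ofHom_comp,
      ← CommRingCat.ofHom_comp, Ideal.quotientMap_comp_mk]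
  have hmono : Mono ((Over.pullback σ).map i') := inferInstance
  have key : ψ = ψ' := by
    refine hom_ext_of_mod_comm (Spec.map (CommRingCat.ofHom (Ideal.Quotient.mk J')))
      (Groth.Agent.Lib.Helper15HomRigid.isNilpotent_ker_specMap J' hJ'nil) (Red.bc σ H)
      (Red.bc σ H') (Groth.Agent.Lib.Helper15HomRigid.locally_of_iso _ M e)
      (mul_comm_of_iso _ M' e') ψ ψ' ?_
    intro Y p y
    obtain ⟨p₀, -⟩ : ∃ p₀ : (Over.map σ).obj Y ⟶
        Over.mk (Spec.map (CommRingCat.ofHom (Ideal.Quotient.mk J))),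
        p₀.left = p.left ≫ Spec.map (CommRingCat.ofHom (Ideal.quotientMap J' gam hle)) :=
      ⟨Over.homMk (p.left ≫ Spec.map (CommRingCat.ofHom (Ideal.quotientMap J' gam hle))) (by
        have hw := Over.w p
        simp only [Over.mk_hom] at hw
        simp only [Over.mk_hom, Over.map_obj_hom, Category.assoc]
        rw [← hsq, ← Category.assoc, hw]), rfl⟩
    rw [← cancel_mono ((Over.pullback σ).map i'), hψl Y p₀ y, hψ'l Y p₀ y]
  apply (famBC_bijective σ H H' _).1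
  rw [hψ, hψ', key]

end Unique

section AffPts

variable {R : Type u} [CommRing R]

/-- two morphisms over an affine base agree as soon as they agree on points with values in affine
schemes. -/
theorem hom_ext_of_aff_points {Q Z : Over (Spec (CommRingCat.of R))} (φ₁ φ₂ : Q ⟶ Z)
    (h : ∀ (D : Type u) [CommRing D] (σ : Spec (CommRingCat.of D) ⟶ Spec (CommRingCat.of R))
      (jj : (Over.map σ).obj (𝟙_ (Over (Spec (CommRingCat.of D)))) ⟶ Q),
      jj ≫ φ₁ = jj ≫ φ₂) : φ₁ = φ₂ := by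
  apply Over.OverMorphism.ext
  apply Scheme.hom_ext_of_forall
  intro y
  obtain ⟨_, ⟨O, hO, rfl⟩, hyO, -⟩ := Q.left.isBasis_affineOpens.exists_subset_of_mem_open
    (Set.mem_univ y) isOpen_univ
  obtain ⟨O, rfl⟩ : ∃ O2 : Q.left.Opens, O2 = O := ⟨O, rfl⟩
  have hOa : IsAffineOpen O := hO
  refine ⟨O, hyO, ?_⟩
  rw [← cancel_epi hOa.isoSpec.inv, IsAffineOpen.isoSpec_inv_ι_assoc,
    IsAffineOpen.isoSpec_inv_ι_assoc]
  obtain ⟨jj, hjj⟩ : ∃ jj : (Over.map (hOa.fromSpec ≫ Q.hom)).obj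
      (𝟙_ (Over (Spec (CommRingCat.of Γ(Q.left, O))))) ⟶ Q, jj.left = hOa.fromSpec :=
    ⟨Over.homMk hOa.fromSpec (by simp), rfl⟩
  have key := congrArg (fun z => z.left) (h Γ(Q.left, O) (hOa.fromSpec ≫ Q.hom) jj)
  simp only [Over.comp_left, hjj] at key
  exact key

end AffPts

section Global

variable {R : Type u} [CommRing R] (J : Ideal R) (hJ : IsNilpotent J)
  (G H H' : Over (Spec (CommRingCat.of R))) [GrpObj G] [GrpObj H] [GrpObj H']
  (hH : TwC.Locally (Spec (CommRingCat.of R)) TwC.Topology.fpqc (fun S' f =>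
    ∃ (M : Type) (_ : AddCommGroup M), Nonempty (Grp.mk (Red.bc f H) ≅ Grp.mk (Red.DS S' M))))
  (hH' : TwC.Locally (Spec (CommRingCat.of R)) TwC.Topology.fpqc (fun S' f =>
    ∃ (M : Type) (_ : AddCommGroup M), Nonempty (Grp.mk (Red.bc f H') ≅ Grp.mk (Red.DS S' M))))
  (i : H ⟶ G) [IsMonHom i] (i' : H' ⟶ G) [IsMonHom i'] [Mono i']
  (hpts : ∀ (Y : Over (Spec (CommRingCat.of R)))
    (_ : Y ⟶ Over.mk (Spec.map (CommRingCat.ofHom (Ideal.Quotient.mk J)))) (h : Y ⟶ H),
    ∃ h' : Y ⟶ H', h' ≫ i' = h ≫ i)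

include hJ hH hH' hpts in
/-- **lifting of an identification of subgroups of multiplicative type**: if every point of `H`
over `S₀` lies in `H'`, there is a homomorphism `H ⟶ H'` inducing this inclusion over `S₀`. -/
theorem exists_global_lift : ∃ ψ : H ⟶ H', IsMonHom ψ ∧
    ∀ (X : Over (Spec (CommRingCat.of R)))
      (_ : X ⟶ Over.mk (Spec.map (CommRingCat.ofHom (Ideal.Quotient.mk J)))) (h : X ⟶ H),
      (h ≫ ψ) ≫ i' = h ≫ i := by
  have hci : IsClosedImmersion (Spec.map (CommRingCat.ofHom (Ideal.Quotient.mk J))) :=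
    IsClosedImmersion.spec_of_surjective _ Ideal.Quotient.mk_surjective
  have hsurj : Surjective (Spec.map (CommRingCat.ofHom (Ideal.Quotient.mk J))) :=
    Groth.Agent.Lib.Helper15DiagRigid.surjective_of_locally_nilpotent _
      (Groth.Agent.Lib.Helper15HomRigid.isNilpotent_ker_specMap J hJ)
  obtain ⟨K, B, g, hcov, hPQ⟩ := exists_spec_fpqc_family₂ _ _
    (fun S' S'' f q h => by
      obtain ⟨M, _, ⟨e⟩⟩ := h
      exact ⟨M, _, Groth.Agent.Lib.Helper15DSbc.nonempty_iso_bc f q H M e⟩)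
    (fun S' S'' f q h => by
      obtain ⟨M, _, ⟨e⟩⟩ := h
      exact ⟨M, _, Groth.Agent.Lib.Helper15DSbc.nonempty_iso_bc f q H' M e⟩) hH hH'
  have hloc : ∀ k, ∃ φ : H ⊗ (Over.map (g k)).obj (𝟙_ (Over (Spec (B k)))) ⟶ H',
      IsLiftFam (Spec.map (CommRingCat.ofHom (Ideal.Quotient.mk J))) i i' φ := by
    intro k
    obtain ⟨⟨M, _, ⟨e⟩⟩, ⟨M', _, ⟨e'⟩⟩⟩ := hPQ k
    obtain ⟨ψ, hψhom, hψ⟩ := exists_lift_bc (Spec.map (CommRingCat.ofHom (Ideal.Quotient.mk J)))
      (g k) G H H' i i' hpts M M' e e'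
    exact isLiftFam_of_bc _ (g k) G H H' i i' ψ hψhom hψ
  choose φ hφ using hloc
  have hcov' : Presieve.ofArrows
      (fun k => (H ⊗ (Over.map (g k)).obj (𝟙_ (Over (Spec (B k))))).left)
      (fun k => (fst H ((Over.map (g k)).obj (𝟙_ (Over (Spec (B k)))))).left) ∈
        Scheme.fpqcPrecoverage H.left := by
    refine Precoverage.mem_coverings_of_isPullback g hcov H.hom _
      (fun k => (snd H ((Over.map (g k)).obj (𝟙_ (Over (Spec (B k)))))).left) (fun k => ?_)
    have h := IsPullback.of_hasPullback H.hom ((Over.map (g k)).obj (𝟙_ (Over (Spec (B k))))).hom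
    refine IsPullback.of_iso h (Iso.refl _) (Iso.refl _) (Iso.refl _) (Iso.refl _) ?_ ?_ ?_ ?_
    · simp
    · simp
    · simp
    · simp
  have hcompat : ∀ k l (Q : Over (Spec (CommRingCat.of R)))
      (yk : Q ⟶ H ⊗ (Over.map (g k)).obj (𝟙_ (Over (Spec (B k)))))
      (yl : Q ⟶ H ⊗ (Over.map (g l)).obj (𝟙_ (Over (Spec (B l))))),
      yk ≫ fst _ _ = yl ≫ fst _ _ → yk ≫ φ k = yl ≫ φ l := by
    intro k l Q yk yl hkl
    refine hom_ext_of_aff_points _ _ (fun D _ σ jj => ?_)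
    obtain ⟨hh, hhh⟩ : ∃ hh, hh = jj ≫ yk ≫ fst _ _ := ⟨_, rfl⟩
    obtain ⟨tk, htk⟩ : ∃ tk, tk = jj ≫ yk ≫ snd _ _ := ⟨_, rfl⟩
    obtain ⟨tl, htl⟩ : ∃ tl, tl = jj ≫ yl ≫ snd _ _ := ⟨_, rfl⟩
    have e1 : jj ≫ yk = lift hh tk := by
      rw [hhh, htk]
      apply CartesianMonoidalCategory.hom_ext <;> simp
    have e2 : jj ≫ yl = lift hh tl := by
      rw [hhh, htl, hkl]
      apply CartesianMonoidalCategory.hom_ext <;> simp
    obtain ⟨⟨M, _, ⟨e⟩⟩, ⟨M', _, ⟨e'⟩⟩⟩ := hPQ k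
    have hq : tk.left ≫ g k = σ := by
      have := Over.w tk
      simpa using this
    obtain ⟨eD⟩ := Groth.Agent.Lib.Helper15DSbc.nonempty_iso_bc (g k) tk.left H M e
    obtain ⟨eD'⟩ := Groth.Agent.Lib.Helper15DSbc.nonempty_iso_bc (g k) tk.left H' M' e'
    rw [hq] at eD eD'
    have key := isLiftFam_unique_unit J hJ σ G H H' i i' M M' eD eD'
      ((H ◁ tk) ≫ φ k) ((H ◁ tl) ≫ φ l) ((hφ k).whisker tk) ((hφ l).whisker tl)
    have e3 : lift hh tk = lift hh (𝟙 _) ≫ (H ◁ tk) := by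
      rw [lift_whiskerLeft, Category.id_comp]
    have e4 : lift hh tl = lift hh (𝟙 _) ≫ (H ◁ tl) := by
      rw [lift_whiskerLeft, Category.id_comp]
    rw [← Category.assoc, ← Category.assoc, e1, e2, e3, e4, Category.assoc, Category.assoc, key]
  obtain ⟨ψ, hψ, -⟩ := existsUnique_glue_of_fpqc (W := H) (Z := H')
    (fun k => H ⊗ (Over.map (g k)).obj (𝟙_ (Over (Spec (B k))))) (fun k => fst _ _) hcov' φ
    (fun k l Q yk yl h => hcompat k l Q yk yl h)
  -- pointwise description over the members of the family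
  have hpt : ∀ (k : K) (Y' : Over (Spec (B k))) (x : (Over.map (g k)).obj Y' ⟶ H),
      x ≫ ψ = lift x ((Over.map (g k)).map (toUnit Y')) ≫ φ k := by
    intro k Y' x
    rw [← hψ k, ← Category.assoc, lift_fst]
  refine ⟨ψ, ?_, ?_⟩
  · apply Groth.Agent.Lib.Helper15DiagDSIso.isMonHom_of_mul_grp
    refine Groth.Agent.Lib.Helper15NormCentral.hom_ext_of_fpqc_family _ _ g hcov (fun k Y' w => ?_)
    rw [← Category.assoc, MonObj.comp_mul, MonObj.comp_mul, hpt, ← Category.assoc,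
      ← Category.assoc, hpt, hpt]
    exact (hφ k).1 _ _ _ _
  · intro X p h
    refine Groth.Agent.Lib.Helper15NormCentral.hom_ext_of_fpqc_family _ _ g hcov (fun k Y' w => ?_)
    rw [← Category.assoc, ← Category.assoc, ← Category.assoc, hpt]
    exact (hφ k).2 _ (w ≫ p) _ (w ≫ h)

end Global

end Groth.Agent.Lib.Helper15LiftFam
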