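-- helper15: subgroups of multiplicative type which coincide modulo an ideal of square zero are conjugate by a point trivial modulo that ideal
import Mathlib
import Groth.Agent.Lib.Helper15LiftFamD
import Groth.Agent.Lib.Helper15AvgGlueB
set_option autoImplicit false
universe u
open CategoryTheory CategoryTheory.Limits AlgebraicGeometry MonoidalCategory
  CartesianMonoidalCategory MonObj GrpObj

namespace Groth.Agent.Lib.Helper15LiftFam

lemma conj_cancel {Γ : Type*} [Group Γ] (x a b : Γ) (h : x * a * x⁻¹ = x * b * x⁻¹) : a = b := by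
  simpa using h

section Conj

variable {R : Type u} [CommRing R] (J : Ideal R) (hJ : J ^ 2 = ⊥)
  (G H H' : Over (Spec (CommRingCat.of R))) [GrpObj G] [GrpObj H] [GrpObj H']
  (hH : TwC.Locally (Spec (CommRingCat.of R)) TwC.Topology.fpqc (fun S' f =>
    ∃ (M : Type) (_ : AddCommGroup M), Nonempty (Grp.mk (Red.bc f H) ≅ Grp.mk (Red.DS S' M))))
  (hH' : TwC.Locally (Spec (CommRingCat.of R)) TwC.Topology.fpqc (fun S' f =>
    ∃ (M : Type) (_ : AddCommGroup M), Nonempty (Grp.mk (Red.bc f H') ≅ Grp.mk (Red.DS S' M))))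
  (i : H ⟶ G) [IsMonHom i] [Mono i] (i' : H' ⟶ G) [IsMonHom i'] [Mono i']
  (hpts : ∀ (Y : Over (Spec (CommRingCat.of R)))
    (_ : Y ⟶ Over.mk (Spec.map (CommRingCat.ofHom (Ideal.Quotient.mk J)))) (h : Y ⟶ H),
    ∃ h' : Y ⟶ H', h' ≫ i' = h ≫ i)
  (hpts' : ∀ (Y : Over (Spec (CommRingCat.of R)))
    (_ : Y ⟶ Over.mk (Spec.map (CommRingCat.ofHom (Ideal.Quotient.mk J)))) (h : Y ⟶ H'),
    ∃ h' : Y ⟶ H, h' ≫ i = h ≫ i')

include hJ hH hH' hpts hpts' in
/-- two subgroups of multiplicative type which coincide modulo an ideal of square zero are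
conjugate by a point which is trivial modulo that ideal. -/
theorem exists_conjBy : ∃ g : 𝟙_ (Over (Spec (CommRingCat.of R))) ⟶ G,
    toUnit (Over.mk (Spec.map (CommRingCat.ofHom (Ideal.Quotient.mk J))) :
      Over (Spec (CommRingCat.of R))) ≫ g = 1 ∧
    ∃ φ : H ≅ H', (toUnit H ≫ g) * i * (toUnit H ≫ g)⁻¹ = φ.hom ≫ i' := by
  have hJnil : IsNilpotent J := ⟨2, by rw [hJ, Ideal.zero_eq_bot]⟩
  obtain ⟨ψ, hψm, hψ⟩ := exists_global_lift J hJnil G H H' hH hH' i i' hpts
  obtain ⟨g, hg1, hg2⟩ := Groth.Agent.Lib.Helper15Avg.exists_conj J hJ H G hH i (ψ ≫ i')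
    (fun X p h => by rw [← Category.assoc]; exact (hψ X p h).symm)
  have hvmono : Mono (ψ ≫ i') := by
    constructor
    intro Z a b hab
    rw [hg2, MonObj.comp_mul, MonObj.comp_mul, GrpObj.comp_inv, MonObj.comp_mul, MonObj.comp_mul,
      GrpObj.comp_inv, ← Category.assoc, ← Category.assoc,
      toUnit_unique (a ≫ toUnit H) (toUnit Z), toUnit_unique (b ≫ toUnit H) (toUnit Z)] at hab
    have h1 := conj_cancel _ _ _ hab
    exact (cancel_mono i).1 h1
  haveI : Mono (ψ ≫ i').left := inferInstance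
  obtain ⟨ψ'', hψ''⟩ := Groth.Agent.Lib.Helper15HomLift.exists_factor_global J hJnil G H' H hH' hH
    i' (ψ ≫ i') (by
      intro Y x h
      rw [← Category.assoc, ← MonObj.mul_comp _ _ i', ← MonObj.mul_comp _ _ i',
        mul_comm_of_multType H' hH' Y (x ≫ ψ) h]) (by
      intro Y p h
      obtain ⟨h', hh'⟩ := hpts' Y p h
      refine ⟨h', ?_⟩
      rw [← Category.assoc, hψ Y p h', hh'])
  refine ⟨g, hg1, ⟨ψ, ψ'', ?_, ?_⟩, hg2.symm⟩
  · rw [← cancel_mono (ψ ≫ i'), Category.assoc, hψ'', Category.id_comp]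
  · rw [← cancel_mono i', Category.assoc, hψ'', Category.id_comp]

end Conj

end Groth.Agent.Lib.Helper15LiftFam
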