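-- helper15: unique lifting against a functor is stable under 2-fibre product base change.
import Groth.Prelude.Def_LiftSq
import Groth.Agent.Lib.Helper17FpMap

set_option autoImplicit false
open CategoryTheory CategoryTheory.Functor CategoryTheory.Limits LiftSq

universe v₁ u₁ v₂ u₂ v₃ u₃ v₄ u₄ v₅ u₅ v u

namespace Groth.Agent.Lib.Helper15LiftFp

open Groth.Agent.Lib.Helper17

variable {C : Type u} [Category.{v} C]
  {𝒜 : BasedCategory.{v₁, u₁} C} {ℬ : BasedCategory.{v₂, u₂} C}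
  {𝒳 : BasedCategory.{v₃, u₃} C} {𝒴 : BasedCategory.{v₄, u₄} C} {𝒴' : BasedCategory.{v₅, u₅} C}
  (j : 𝒜 ⥤ᵇ ℬ) (f : 𝒳 ⥤ᵇ 𝒴) (y : 𝒴' ⥤ᵇ 𝒴)

theorem aux1 {D : Type*} [Category D] {X Y Z W V : D} (A : X ⟶ Y) (B : Y ⟶ Z) (C' : Z ⟶ W)
    (E : Y ⟶ V) (D' : V ⟶ W) (AE : X ⟶ V) (h1 : AE = A ≫ E) (h2 : E ≫ D' = B ≫ C') :
    (A ≫ B) ≫ C' = AE ≫ D' := by
  rw [h1, Category.assoc, Category.assoc, h2]

theorem aux2 {D : Type*} [Category D] {X Y₁ Y₂ Z₁ Z₂ : D} (I₁ : X ≅ Y₁) (I₂ : X ⟶ Y₂)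
    (K₁ : Y₁ ⟶ Z₁) (K₂ : Y₂ ⟶ Z₂) (T : Z₁ ⟶ Z₂) (M : Y₁ ⟶ Y₂) (hM : M = I₁.inv ≫ I₂)
    (h : (I₁.hom ≫ K₁) ≫ T = I₂ ≫ K₂) : M ≫ K₂ = K₁ ≫ T := by
  rw [hM, Category.assoc, ← h, Category.assoc, Iso.inv_hom_id_assoc]

theorem aux3 {D : Type*} [Category D] {A A' B B' E E' : D} (a : A ⟶ A')
    (i₁' : A' ⟶ B') (j₁ : A ⟶ B) (β : B ⟶ B') (i₂' : B' ⟶ E') (i₂ : B ⟶ E) (c : E ⟶ E')
    (h1 : a ≫ i₁' = j₁ ≫ β) (h2 : β ≫ i₂' = i₂ ≫ c) :
    a ≫ (i₁' ≫ i₂') = (j₁ ≫ i₂) ≫ c := by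
  rw [← Category.assoc, h1, Category.assoc, h2, Category.assoc]

theorem aux4 {D : Type*} [Category D] {X Y₁ Y₂ Z : D} (i₁ : X ≅ Y₁) (i₂ : X ⟶ Y₂) (t₁ : Y₁ ⟶ Z)
    (t₂ : Y₂ ⟶ Z) (s : X ⟶ Z) (h1 : i₁.hom ≫ t₁ = s) (h2 : i₂ ≫ t₂ = s) :
    (i₁.inv ≫ i₂) ≫ t₂ = t₁ := by
  rw [Category.assoc, h2, ← h1, Iso.inv_hom_id_assoc]

theorem aux5 {D : Type*} [Category D] {X Y₁ Y₂ Z₁ Z₂ : D} (Yi₁ : X ⟶ Y₁) (Yi₂ : X ⟶ Y₂)
    (Yt : Y₁ ⟶ Y₂) (K₁ : Y₁ ⟶ Z₁) (K₂ : Y₂ ⟶ Z₂) (T : Z₁ ⟶ Z₂) (hw : Yt ≫ K₂ = K₁ ≫ T)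
    (hi : Yi₂ = Yi₁ ≫ Yt) : (Yi₁ ≫ K₁) ≫ T = Yi₂ ≫ K₂ := by
  rw [hi, Category.assoc, Category.assoc, hw]

theorem app_congr {F G : 𝒜 ⥤ᵇ ℬ} {α β : F ⟶ G} (h : α = β) (x : 𝒜.obj) :
    α.toNatTrans.app x = β.toNatTrans.app x := by rw [h]

/-- The square against `f` attached to a square against the projection `𝒴' ×_𝒴 𝒳 ⟶ 𝒴'`. -/
def sqF (sq : Sq j (FibCat.fpFst y f)) : Sq j f where
  top := BasedFunctor.comp sq.top (FibCat.fpSnd y f)
  bot := BasedFunctor.comp sq.bot y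
  iso := whiskerRightIso sq.iso y ≪≫ whiskerLeftIso sq.top (FibCat.fpIso y f)

theorem sqF_iso_app (sq : Sq j (FibCat.fpFst y f)) (x : 𝒜.obj) :
    (sqF j f y sq).iso.hom.toNatTrans.app x =
      y.map (sq.iso.hom.toNatTrans.app x) ≫ (sq.top.obj x).obj.iso.hom := rfl

/-- A lift of a square against the projection gives a lift of the attached square against `f`. -/
def liftF {sq : Sq j (FibCat.fpFst y f)} (d : sq.Lift) : (sqF j f y sq).Lift where
  fn := BasedFunctor.comp d.fn (FibCat.fpSnd y f)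
  isoTop := whiskerRightIso d.isoTop (FibCat.fpSnd y f)
  isoBot := whiskerRightIso d.isoBot y ≪≫ whiskerLeftIso d.fn (FibCat.fpIso y f)
  w := by
    apply BasedNatTrans.homCategory.ext
    ext x
    have h1 := app_congr d.w x
    have h1' : d.isoBot.hom.toNatTrans.app (j.obj x) ≫ (d.isoTop.hom.toNatTrans.app x).hom.fst =
        sq.iso.hom.toNatTrans.app x := h1
    have h2 := (d.isoTop.hom.toNatTrans.app x).hom.w
    have e : y.map (sq.iso.hom.toNatTrans.app x) =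
        y.map (d.isoBot.hom.toNatTrans.app (j.obj x)) ≫
          y.map (d.isoTop.hom.toNatTrans.app x).hom.fst := by
      rw [← h1']
      exact y.toFunctor.map_comp _ _
    exact aux1 _ _ _ _ _ _ e h2

theorem isHomLift_fp {a b : (FibCat.fp y f).obj} (φ : a ⟶ b) {R S : C} (g : R ⟶ S)
    (h : 𝒴'.p.IsHomLift g φ.hom.fst) : (FibCat.fp y f).p.IsHomLift g φ := by
  have ha := IsHomLift.domain_eq 𝒴'.p g φ.hom.fst
  have hb := IsHomLift.codomain_eq 𝒴'.p g φ.hom.fst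
  have hf := IsHomLift.fac 𝒴'.p g φ.hom.fst
  exact IsHomLift.of_fac _ _ _ ha hb hf

theorem hasLift_fpFst (sq : Sq j (FibCat.fpFst y f)) (h : (sqF j f y sq).HasLift) :
    sq.HasLift := by
  obtain ⟨d'⟩ := h
  let fn : ℬ ⥤ᵇ FibCat.fp y f := FibCat.fpLift sq.bot d'.fn d'.isoBot
  have hw : ∀ x : 𝒜.obj,
      y.map (bApp sq.iso x).hom ≫ (sq.top.obj x).obj.iso.hom =
        (bApp d'.isoBot (j.obj x)).hom ≫ f.map (bApp d'.isoTop x).hom := fun x =>
    (app_congr d'.w x).symm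
  let isoTopC : ∀ x : 𝒜.obj, (BasedFunctor.comp j fn).obj x ≅ sq.top.obj x := fun x =>
    ObjectProperty.isoMk _ (CategoricalPullback.mkIso (bApp sq.iso x) (bApp d'.isoTop x) (hw x))
  let isoTop : BasedFunctor.comp j fn ≅ sq.top :=
    BasedNatIso.mkNatIso (NatIso.ofComponents isoTopC (fun {x x'} g => by
      apply ObjectProperty.hom_ext
      apply CategoricalPullback.hom_ext
      · exact bApp_naturality sq.iso g
      · exact bApp_naturality d'.isoTop g))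
      (fun x => isHomLift_fp f y _ _ (bApp_isHomLift sq.iso x))
  refine ⟨⟨fn, isoTop, Iso.refl _, ?_⟩⟩
  apply BasedNatTrans.homCategory.ext
  ext x
  change 𝟙 _ ≫ (bApp sq.iso x).hom = _
  exact Category.id_comp _

theorem uniqLift_fpFst (sq : Sq j (FibCat.fpFst y f)) (h : (sqF j f y sq).UniqLift) :
    sq.UniqLift := by
  intro d₁ d₂
  obtain ⟨u⟩ := h (liftF j f y d₁) (liftF j f y d₂)
  let θ' : liftF j f y d₁ ⟶ liftF j f y d₂ := u.default
  have hwb : ∀ b : ℬ.obj,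
      y.map ((bApp d₁.isoBot b).inv ≫ (bApp d₂.isoBot b).hom) ≫ (d₂.fn.obj b).obj.iso.hom =
        (d₁.fn.obj b).obj.iso.hom ≫ f.map (θ'.hom.toNatTrans.app b) := fun b =>
    aux2 (y.toFunctor.mapIso (bApp d₁.isoBot b)) (y.map (bApp d₂.isoBot b).hom) _ _ _ _
      (y.toFunctor.map_comp _ _) (app_congr θ'.w_bot b)
  let θC : ∀ b : ℬ.obj, d₁.fn.obj b ⟶ d₂.fn.obj b := fun b =>
    ObjectProperty.homMk ⟨(bApp d₁.isoBot b).inv ≫ (bApp d₂.isoBot b).hom,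
      θ'.hom.toNatTrans.app b, hwb b⟩
  let θhom : d₁.fn ⟶ d₂.fn :=
    { toNatTrans :=
        { app := θC
          naturality := fun {b b'} m => by
            apply ObjectProperty.hom_ext
            apply CategoricalPullback.hom_ext
            · exact aux3 _ _ _ _ _ _ _
                (bApp_inv_naturality d₁.isoBot m) (bApp_naturality d₂.isoBot m)
            · exact θ'.hom.toNatTrans.naturality m }
      isHomLift' := fun b => by
        apply isHomLift_fp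
        have h1 := bApp_inv_isHomLift d₁.isoBot b
        have h2 := bApp_isHomLift d₂.isoBot b
        have : 𝒴'.p.IsHomLift (𝟙 (ℬ.p.obj b) ≫ 𝟙 (ℬ.p.obj b))
            ((bApp d₁.isoBot b).inv ≫ (bApp d₂.isoBot b).hom) := inferInstance
        rwa [Category.comp_id] at this }
  have hsq : ∀ (d : sq.Lift) (x : 𝒜.obj),
      (bApp d.isoBot (j.obj x)).hom ≫ (d.isoTop.hom.toNatTrans.app x).hom.fst =
        sq.iso.hom.toNatTrans.app x := fun d x => app_congr d.w x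
  let θ : d₁ ⟶ d₂ :=
    { hom := θhom
      w_top := by
        apply BasedNatTrans.homCategory.ext
        apply NatTrans.ext
        funext x
        apply ObjectProperty.hom_ext
        apply CategoricalPullback.hom_ext
        · exact aux4 (bApp d₁.isoBot (j.obj x)) _ _ _ _ (hsq d₁ x) (hsq d₂ x)
        · exact app_congr θ'.w_top x
      w_bot := by
        apply BasedNatTrans.homCategory.ext
        ext b
        exact Iso.hom_inv_id_assoc (bApp d₁.isoBot b) _ }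
  refine ⟨⟨⟨θ⟩, fun θ₁ => ?_⟩⟩
  have hb : ∀ b : ℬ.obj, (bApp d₁.isoBot b).hom ≫ (θ₁.hom.toNatTrans.app b).hom.fst =
      (bApp d₂.isoBot b).hom := fun b => app_congr θ₁.w_bot b
  let θ₁' : liftF j f y d₁ ⟶ liftF j f y d₂ :=
    { hom := BasedCategory.whiskerRight θ₁.hom (FibCat.fpSnd y f)
      w_top := by
        apply BasedNatTrans.homCategory.ext
        ext x
        exact congrArg (fun φ => φ.hom.snd) (app_congr θ₁.w_top x)
      w_bot := by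
        apply BasedNatTrans.homCategory.ext
        ext b
        exact aux5 _ _ _ _ _ _ (θ₁.hom.toNatTrans.app b).hom.w
          ((congrArg (fun φ => y.toFunctor.map φ) (hb b).symm).trans
            (y.toFunctor.map_comp _ _)) }
  have hu : θ₁' = θ' := u.uniq θ₁'
  apply Sq.Lift.hom_ext
  apply BasedNatTrans.homCategory.ext
  apply NatTrans.ext
  funext b
  apply ObjectProperty.hom_ext
  apply CategoricalPullback.hom_ext
  · exact (Iso.eq_inv_comp _).2 (hb b)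
  · exact app_congr (congrArg Sq.Lift.Hom.hom hu) b

theorem liftsUniquely_fpFst (hf : LiftsUniquely j f) : LiftsUniquely j (FibCat.fpFst y f) :=
  fun sq => ⟨hasLift_fpFst j f y sq (hf _).1, uniqLift_fpFst j f y sq (hf _).2⟩

end Groth.Agent.Lib.Helper15LiftFp
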