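import Groth.Prelude.Def_W4stk3formalspacesTaut

/-!
Helper lemmas on linearly topologized rings, closures of ideals, taut ring maps.
-/

set_option autoImplicit false

namespace Groth.Agent.Lib.Helper15

open Topology Filter

section Basics

variable {A : Type*} [CommRing A] [TopologicalSpace A] [IsTopologicalRing A]

theorem isOpen_of_le {I J : Ideal A} (hI : IsOpen (I : Set A)) (h : I ≤ J) :
    IsOpen (J : Set A) :=
  AddSubgroup.isOpen_mono (H₁ := I.toAddSubgroup) (H₂ := J.toAddSubgroup) h hI

theorem isClosed_of_isOpen {I : Ideal A} (hI : IsOpen (I : Set A)) : IsClosed (I : Set A) :=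
  AddSubgroup.isClosed_of_isOpen I.toAddSubgroup hI

theorem closure_eq_of_isOpen {I : Ideal A} (hI : IsOpen (I : Set A)) : I.closure = I :=
  I.closure_eq_of_isClosed (isClosed_of_isOpen hI)

theorem le_closure (I : Ideal A) : I ≤ I.closure := fun _ hx => subset_closure hx

theorem closure_mono {I J : Ideal A} (h : I ≤ J) : I.closure ≤ J.closure :=
  fun _ hx => _root_.closure_mono (show (I : Set A) ⊆ J from h) hx

theorem closure_le_of_isClosed {I J : Ideal A} (h : I ≤ J) (hJ : IsClosed (J : Set A)) :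
    I.closure ≤ J :=
  fun _ hx => closure_minimal (show (I : Set A) ⊆ J from h) hJ hx

theorem isClosed_closure (I : Ideal A) : IsClosed ((I.closure : Ideal A) : Set A) :=
  _root_.isClosed_closure

theorem closure_closure (I : Ideal A) : I.closure.closure = I.closure :=
  I.closure.closure_eq_of_isClosed (isClosed_closure I)

theorem closure_mul_closure_le (I J : Ideal A) : I.closure * J.closure ≤ (I * J).closure := by
  rw [Ideal.mul_le]
  intro x hx y hy
  exact map_mem_closure₂ continuous_mul hx hy (fun a ha b hb => Ideal.mul_mem_mul ha hb)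

theorem closure_pow_le (I : Ideal A) (n : ℕ) : I.closure ^ n ≤ (I ^ n).closure := by
  induction n with
  | zero => simpa using le_closure (⊤ : Ideal A)
  | succ n ih =>
    rw [pow_succ, pow_succ]
    exact (Ideal.mul_mono_left ih).trans (closure_mul_closure_le _ _)

theorem closure_le_sup_of_isOpen (I : Ideal A) {J : Ideal A} (hJ : IsOpen (J : Set A)) :
    I.closure ≤ I ⊔ J :=
  closure_le_of_isClosed le_sup_left (isClosed_of_isOpen (isOpen_of_le hJ le_sup_right))

theorem map_closure_le {B : Type*} [CommRing B] [TopologicalSpace B] [IsTopologicalRing B]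
    (φ : A →+* B) (hφ : Continuous φ) (I : Ideal A) : I.closure.map φ ≤ (I.map φ).closure := by
  rw [Ideal.map_le_iff_le_comap]
  intro x hx
  exact map_mem_closure hφ hx (fun a ha => Ideal.mem_map_of_mem φ ha)

theorem closure_map_closure {B : Type*} [CommRing B] [TopologicalSpace B] [IsTopologicalRing B]
    (φ : A →+* B) (hφ : Continuous φ) (I : Ideal A) :
    (I.closure.map φ).closure = (I.map φ).closure :=
  le_antisymm (closure_le_of_isClosed (map_closure_le φ hφ I) (isClosed_closure _))
    (closure_mono (Ideal.map_mono (le_closure I)))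

theorem isOpen_comap {B : Type*} [CommRing B] [TopologicalSpace B]
    (φ : A →+* B) (hφ : Continuous φ) {J : Ideal B} (hJ : IsOpen (J : Set B)) :
    IsOpen ((J.comap φ : Ideal A) : Set A) :=
  hJ.preimage hφ

theorem isOpen_inf {I J : Ideal A} (hI : IsOpen (I : Set A)) (hJ : IsOpen (J : Set A)) :
    IsOpen ((I ⊓ J : Ideal A) : Set A) :=
  hI.inter hJ

end Basics

section Linear

variable {A : Type*} [CommRing A] [TopologicalSpace A] [IsTopologicalRing A]
  [IsLinearTopology A A]

theorem exists_isOpen_ideal_subset {U : Set A} (hU : U ∈ 𝓝 (0 : A)) :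
    ∃ I : Ideal A, IsOpen (I : Set A) ∧ (I : Set A) ⊆ U :=
  IsLinearTopology.hasBasis_open_ideal.mem_iff.1 hU

theorem isTopologicallyNilpotent_iff {f : A} :
    IsTopologicallyNilpotent f ↔ ∀ J : Ideal A, IsOpen (J : Set A) → ∃ n : ℕ, f ^ n ∈ J := by
  constructor
  · intro hf J hJ
    exact hf.exists_pow_mem_of_mem_nhds (hJ.mem_nhds J.zero_mem)
  · intro h
    rw [IsTopologicallyNilpotent, IsLinearTopology.hasBasis_open_ideal.tendsto_right_iff]
    intro J hJ
    obtain ⟨n, hn⟩ := h J hJ
    filter_upwards [eventually_ge_atTop n] with m hm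
    obtain ⟨k, rfl⟩ := Nat.exists_eq_add_of_le hm
    rw [pow_add]
    exact J.mul_mem_right _ hn

theorem mem_closure_iff {I : Ideal A} {x : A} :
    x ∈ I.closure ↔ ∀ J : Ideal A, IsOpen (J : Set A) → x ∈ I ⊔ J := by
  constructor
  · intro hx J hJ
    exact closure_le_sup_of_isOpen I hJ hx
  · intro h
    change x ∈ closure (I : Set A)
    rw [mem_closure_iff_nhds_zero]
    intro U hU
    obtain ⟨J, hJ, hJU⟩ := exists_isOpen_ideal_subset hU
    obtain ⟨y, hy, z, hz, hyz⟩ := Submodule.mem_sup.1 (h J hJ)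
    refine ⟨y, hy, hJU ?_⟩
    have : y - x = -z := by rw [← hyz]; abel
    rw [this]
    exact J.neg_mem hz

theorem isTopologicallyNilpotent_of_mem_closure {I : Ideal A}
    (h : ∀ f ∈ I, IsTopologicallyNilpotent f) :
    ∀ g ∈ I.closure, IsTopologicallyNilpotent g := by
  intro g hg
  rw [isTopologicallyNilpotent_iff]
  intro J hJ
  obtain ⟨y, hy, z, hz, rfl⟩ := Submodule.mem_sup.1 (mem_closure_iff.1 hg J hJ)
  obtain ⟨n, hn⟩ := isTopologicallyNilpotent_iff.1 (h y hy) J hJ
  refine ⟨n, ?_⟩
  have : (y + z) ^ n - y ^ n ∈ J := by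
    have h1 : (y + z) - y ∈ J := by simpa using hz
    exact (Ideal.Quotient.eq.1 (by
      rw [map_pow, map_pow, Ideal.Quotient.eq.2 h1]))
  have h2 : (y + z) ^ n = ((y + z) ^ n - y ^ n) + y ^ n := by ring
  rw [h2]
  exact J.add_mem this hn

theorem isClosed_topologicalNilradical :
    IsClosed ((topologicalNilradical A : Ideal A) : Set A) := by
  have h := isTopologicallyNilpotent_of_mem_closure (I := topologicalNilradical A)
    (fun f hf => IsTopologicallyNilpotent.mem_topologicalNilradical_iff.1 hf)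
  have : (topologicalNilradical A).closure = topologicalNilradical A :=
    le_antisymm (fun g hg => IsTopologicallyNilpotent.mem_topologicalNilradical_iff.2 (h g hg))
      (le_closure _)
  rw [← this]
  exact isClosed_closure _

theorem isTopologicallyNilpotent_of_mem_map {B : Type*} [CommRing B] [TopologicalSpace B]
    [IsTopologicalRing B] [IsLinearTopology B B] (φ : A →+* B) (hφ : Continuous φ)
    {I : Ideal A} (h : ∀ f ∈ I, IsTopologicallyNilpotent f) :
    ∀ g ∈ I.map φ, IsTopologicallyNilpotent g := by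
  have : I.map φ ≤ topologicalNilradical B := by
    rw [Ideal.map_le_iff_le_comap]
    intro f hf
    exact IsTopologicallyNilpotent.mem_topologicalNilradical_iff.2 ((h f hf).map hφ)
  intro g hg
  exact IsTopologicallyNilpotent.mem_topologicalNilradical_iff.1 (this hg)

theorem isTopologicallyNilpotent_of_mem_closure_map {B : Type*} [CommRing B]
    [TopologicalSpace B] [IsTopologicalRing B] [IsLinearTopology B B] (φ : A →+* B)
    (hφ : Continuous φ) {I : Ideal A} (h : ∀ f ∈ I, IsTopologicallyNilpotent f) :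
    ∀ g ∈ (I.map φ).closure, IsTopologicallyNilpotent g :=
  isTopologicallyNilpotent_of_mem_closure (isTopologicallyNilpotent_of_mem_map φ hφ h)

end Linear

section Algebra

variable {A : Type*} [CommRing A]

theorem sup_pow_le_sup_pow (a b : Ideal A) (n : ℕ) : (a ⊔ b) ^ n ≤ a ⊔ b ^ n := by
  induction n with
  | zero => simp
  | succ n ih =>
    rw [pow_succ, pow_succ]
    refine (Ideal.mul_mono_left ih).trans ?_
    rw [Ideal.mul_sup, Ideal.sup_mul, Ideal.sup_mul]
    refine sup_le (sup_le ?_ ?_) (sup_le ?_ ?_)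
    all_goals first
      | exact le_sup_right
      | exact Ideal.mul_le_left.trans le_sup_left
      | exact Ideal.mul_le_right.trans le_sup_left

theorem sup_pow_le_pow_sup (a b : Ideal A) (n : ℕ) : (a ⊔ b) ^ n ≤ a ^ n ⊔ b := by
  rw [sup_comm a b, sup_comm (a ^ n) b]
  exact sup_pow_le_sup_pow b a n

end Algebra

section Adic

variable {A : Type*} [CommRing A] [TopologicalSpace A] [IsTopologicalRing A]

/-- In a preadic ring every ideal of definition defines the topology. -/
theorem isAdic_of_isIdealOfDefinition {I₀ I : Ideal A} (h₀ : IsAdic I₀)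
    (hI : LinTop.IsIdealOfDefinition A I) : IsAdic I := by
  rw [isAdic_iff] at h₀ ⊢
  obtain ⟨k, hk⟩ := h₀.2 (I : Set A) (hI.1.mem_nhds I.zero_mem)
  refine ⟨fun n => ?_, fun s hs => ?_⟩
  · have : (I₀ ^ k) ^ n ≤ I ^ n := Ideal.pow_right_mono hk n
    rw [← pow_mul] at this
    exact isOpen_of_le (h₀.1 (k * n)) this
  · obtain ⟨n, -, hn⟩ := hI.2 s hs
    exact ⟨n, hn⟩

/-- If `K ≤ L` and `L ^ k ≤ K` then the `K`-adic topology is `L`-adic. -/
theorem isAdic_of_le_of_pow_le {K L : Ideal A} (hK : IsAdic K) (h1 : K ≤ L) {k : ℕ}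
    (h2 : L ^ k ≤ K) : IsAdic L := by
  rw [isAdic_iff] at hK ⊢
  refine ⟨fun n => isOpen_of_le (hK.1 n) (Ideal.pow_right_mono h1 n), fun s hs => ?_⟩
  obtain ⟨n, hn⟩ := hK.2 s hs
  refine ⟨k * n, subset_trans ?_ hn⟩
  rw [pow_mul]
  exact Ideal.pow_right_mono h2 n

theorem isIdealOfDefinition_of_isAdic {I : Ideal A} (h : IsAdic I) :
    LinTop.IsIdealOfDefinition A I := by
  rw [isAdic_iff] at h
  refine ⟨by simpa using h.1 1, fun U hU => ?_⟩
  obtain ⟨n, hn⟩ := h.2 U hU
  refine ⟨n + 1, Nat.succ_pos n, subset_trans ?_ hn⟩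
  exact Ideal.pow_le_pow_right (Nat.le_succ n)

theorem isIdealOfDefinition_closure {I : Ideal A}
    (h1 : ∀ n : ℕ, IsOpen (closure ((I ^ n : Ideal A) : Set A)))
    (h2 : ∀ U ∈ 𝓝 (0 : A), ∃ n : ℕ, closure ((I ^ n : Ideal A) : Set A) ⊆ U) :
    LinTop.IsIdealOfDefinition A I.closure := by
  refine ⟨by simpa using h1 1, fun U hU => ?_⟩
  obtain ⟨n, hn⟩ := h2 U hU
  refine ⟨n + 1, Nat.succ_pos n, subset_trans ?_ hn⟩
  have : I.closure ^ (n + 1) ≤ (I ^ n).closure :=
    (closure_pow_le I (n + 1)).trans (closure_mono (Ideal.pow_le_pow_right (Nat.le_succ n)))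
  exact this

theorem isCountablyGenerated_of_weaklyPreadic {I : Ideal A}
    (h1 : ∀ n : ℕ, IsOpen (closure ((I ^ n : Ideal A) : Set A)))
    (h2 : ∀ U ∈ 𝓝 (0 : A), ∃ n : ℕ, closure ((I ^ n : Ideal A) : Set A) ⊆ U) :
    (𝓝 (0 : A)).IsCountablyGenerated := by
  have hb : (𝓝 (0 : A)).HasBasis (fun _ : ℕ => True)
      (fun n => closure ((I ^ n : Ideal A) : Set A)) := by
    constructor
    intro U
    constructor
    · intro hU
      obtain ⟨n, hn⟩ := h2 U hU
      exact ⟨n, trivial, hn⟩
    · rintro ⟨n, -, hn⟩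
      exact Filter.mem_of_superset ((h1 n).mem_nhds (subset_closure (Ideal.zero_mem _))) hn
  exact hb.isCountablyGenerated

end Adic

section TautFFlat

variable {A : Type*} [CommRing A] [TopologicalSpace A]
variable {B : Type*} [CommRing B] [TopologicalSpace B] [IsTopologicalRing B]

theorem descentMap_mk (φ : A →+* B) (I : Ideal A) (x : A) :
    LinTop.descentMap φ I (Ideal.Quotient.mk I x) =
      Ideal.Quotient.mk (I.map φ).closure (φ x) := rfl

theorem comap_closure_map_eq {φ : A →+* B} (h : LinTop.IsTautFFlat φ) {I : Ideal A}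
    (hI : IsOpen (I : Set A)) : ((I.map φ).closure).comap φ = I := by
  apply le_antisymm
  · intro x hx
    have h1 : LinTop.descentMap φ I (Ideal.Quotient.mk I x) = 0 := by
      rw [descentMap_mk]
      exact Ideal.Quotient.eq_zero_iff_mem.2 hx
    have h2 := (h.2 I hI).injective (h1.trans (map_zero _).symm)
    exact Ideal.Quotient.eq_zero_iff_mem.1 h2
  · exact Ideal.le_comap_map.trans (Ideal.comap_mono (le_closure _))

theorem mem_of_map_mem_closure {φ : A →+* B} (h : LinTop.IsTautFFlat φ) {I : Ideal A}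
    (hI : IsOpen (I : Set A)) {x : A} (hx : φ x ∈ (I.map φ).closure) : x ∈ I := by
  rw [← comap_closure_map_eq h hI]
  exact hx

end TautFFlat

end Groth.Agent.Lib.Helper15
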