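import Groth.Agent.Lib.Helper15LinTop
import Mathlib.Topology.Algebra.InfiniteSum.Nonarchimedean
import Mathlib.RingTheory.Finiteness.Ideal

set_option autoImplicit false

namespace Groth.Agent.Lib.Helper15

open Topology Filter

theorem exists_sum_of_mem_span_mul {A : Type*} [CommRing A] (s : Finset A) (N : Ideal A) {x : A}
    (hx : x ∈ Ideal.span (s : Set A) * N) :
    ∃ y : A → A, (∀ a, y a ∈ N) ∧ x = ∑ a ∈ s, a * y a := by
  refine Submodule.mul_induction_on hx ?_ ?_
  · intro m hm n hn
    obtain ⟨c, -, rfl⟩ := Submodule.mem_span_finset.1 hm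
    refine ⟨fun a => c a * n, fun a => N.mul_mem_left _ hn, ?_⟩
    rw [Finset.sum_mul]
    refine Finset.sum_congr rfl (fun a _ => ?_)
    simp only [smul_eq_mul]
    ring
  · rintro x y ⟨u, hu, rfl⟩ ⟨v, hv, rfl⟩
    refine ⟨fun a => u a + v a, fun a => N.add_mem (hu a) (hv a), ?_⟩
    rw [← Finset.sum_add_distrib]
    refine Finset.sum_congr rfl (fun a _ => ?_)
    ring

/-- dependent choice along a step function -/
theorem exists_seq_of_step {A Y : Type*} [AddCommGroup A] (P : ℕ → A → Prop) (Q : ℕ → Y → Prop)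
    (g : Y → A) (step : ∀ k x, P k x → ∃ y, Q k y ∧ P (k + 1) (x - g y)) (x : A) (hx : P 0 x) :
    ∃ ys : ℕ → Y, (∀ k, Q k (ys k)) ∧ ∀ N, P N (x - ∑ k ∈ Finset.range N, g (ys k)) := by
  have : Nonempty Y := ⟨(step 0 x hx).choose⟩
  choose! next hQ hP using step
  -- the sequence of remainders
  let r : ℕ → A := fun k => Nat.rec x (fun k xk => xk - g (next k xk)) k
  have hr0 : r 0 = x := rfl
  have hrs : ∀ k, r (k + 1) = r k - g (next k (r k)) := fun k => rfl
  have hPr : ∀ k, P k (r k) := by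
    intro k
    induction k with
    | zero => exact hx
    | succ k ih => rw [hrs]; exact hP k (r k) ih
  refine ⟨fun k => next k (r k), fun k => hQ k (r k) (hPr k), ?_⟩
  intro N
  have : x - ∑ k ∈ Finset.range N, g (next k (r k)) = r N := by
    induction N with
    | zero => simp [hr0]
    | succ N ih =>
      rw [Finset.sum_range_succ, hrs, ← ih]
      abel
  rw [this]
  exact hPr N

end Groth.Agent.Lib.Helper15

namespace Groth.Agent.Lib.Helper15

open Topology Filter

section Complete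

variable {A : Type*} [CommRing A] [UniformSpace A] [IsUniformAddGroup A] [IsTopologicalRing A]
  [IsLinearTopology A A] [T2Space A] [CompleteSpace A]

omit [T2Space A] [CompleteSpace A] in
theorem nonarchimedeanAddGroup_of_isLinearTopology : NonarchimedeanAddGroup A where
  is_nonarchimedean := by
    intro U hU
    obtain ⟨I, hI, hIU⟩ := exists_isOpen_ideal_subset hU
    exact ⟨⟨I.toAddSubgroup, hI⟩, hIU⟩

theorem closure_pow_succ_le_mul (I : Ideal A) (hfg : I.FG)
    (hopen : ∀ n : ℕ, IsOpen (closure ((I ^ n : Ideal A) : Set A)))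
    (hbasis : ∀ U ∈ 𝓝 (0 : A), ∃ n : ℕ, closure ((I ^ n : Ideal A) : Set A) ⊆ U) (n : ℕ) :
    (I ^ (n + 1)).closure ≤ I * (I ^ n).closure := by
  obtain ⟨s, rfl⟩ := hfg
  intro x hx
  set I := Ideal.span (s : Set A) with hIdef
  have step : ∀ k x, x ∈ (I ^ (n + k + 1)).closure →
      ∃ y : A → A, (∀ a, y a ∈ I ^ (n + k)) ∧
        x - ∑ a ∈ s, a * y a ∈ (I ^ (n + (k + 1) + 1)).closure := by
    intro k x hx
    have h1 := closure_le_sup_of_isOpen (I ^ (n + k + 1))
      (J := (I ^ (n + (k + 1) + 1)).closure) (hopen (n + (k + 1) + 1)) hx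
    obtain ⟨a, ha, b, hb, rfl⟩ := Submodule.mem_sup.1 h1
    rw [pow_succ'] at ha
    obtain ⟨y, hy, rfl⟩ := exists_sum_of_mem_span_mul s _ ha
    refine ⟨y, hy, ?_⟩
    simpa using hb
  obtain ⟨ys, hys, hrem⟩ := exists_seq_of_step (fun k x => x ∈ (I ^ (n + k + 1)).closure)
    (fun k (y : A → A) => ∀ a, y a ∈ I ^ (n + k)) (fun y => ∑ a ∈ s, a * y a) step x
    (by simpa using hx)
  -- each coordinate series tends to zero
  have htend : ∀ a, Tendsto (fun k => ys k a) atTop (𝓝 0) := by
    intro a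
    rw [tendsto_def]
    intro U hU
    obtain ⟨m, hm⟩ := hbasis U hU
    rw [mem_atTop_sets]
    refine ⟨m, fun k hk => ?_⟩
    apply hm
    apply subset_closure
    exact Ideal.pow_le_pow_right (by omega : m ≤ n + k) (hys k a)
  have hsum : ∀ a, Summable (fun k => ys k a) := by
    intro a
    have := nonarchimedeanAddGroup_of_isLinearTopology (A := A)
    apply NonarchimedeanAddGroup.summable_of_tendsto_cofinite_zero
    rw [Nat.cofinite_eq_atTop]
    exact htend a
  -- the limit coordinates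
  have hlim : ∀ a, Tendsto (fun N => ∑ k ∈ Finset.range N, ys k a) atTop (𝓝 (∑' k, ys k a)) :=
    fun a => (hsum a).hasSum.tendsto_sum_nat
  have hmem : ∀ a, (∑' k, ys k a) ∈ (I ^ n).closure := by
    intro a
    refine (isClosed_closure (I ^ n)).mem_of_tendsto (hlim a) (Eventually.of_forall fun N => ?_)
    refine Submodule.sum_mem _ (fun k _ => ?_)
    exact le_closure _ (Ideal.pow_le_pow_right (Nat.le_add_right n k) (hys k a))
  -- partial sums tend to both x and the sum
  have h1 : Tendsto (fun N => ∑ k ∈ Finset.range N, ∑ a ∈ s, a * ys k a) atTop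
      (𝓝 (∑ a ∈ s, a * ∑' k, ys k a)) := by
    have : (fun N => ∑ k ∈ Finset.range N, ∑ a ∈ s, a * ys k a) =
        fun N => ∑ a ∈ s, a * ∑ k ∈ Finset.range N, ys k a := by
      funext N
      rw [Finset.sum_comm]
      refine Finset.sum_congr rfl (fun a _ => ?_)
      rw [Finset.mul_sum]
    rw [this]
    exact tendsto_finsetSum _ (fun a _ => (hlim a).const_mul a)
  have h2 : Tendsto (fun N => ∑ k ∈ Finset.range N, ∑ a ∈ s, a * ys k a) atTop (𝓝 x) := by
    have h3 : Tendsto (fun N => x - ∑ k ∈ Finset.range N, ∑ a ∈ s, a * ys k a) atTop (𝓝 0) := by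
      rw [tendsto_def]
      intro U hU
      obtain ⟨m, hm⟩ := hbasis U hU
      rw [mem_atTop_sets]
      refine ⟨m, fun N hN => ?_⟩
      apply hm
      have h4 : (I ^ (n + N + 1)).closure ≤ (I ^ m).closure :=
        closure_mono (Ideal.pow_le_pow_right (by omega))
      exact h4 (hrem N)
    have h5 := (tendsto_const_nhds (x := x)).sub h3
    simpa using h5
  have hx' : x = ∑ a ∈ s, a * ∑' k, ys k a := tendsto_nhds_unique h2 h1
  rw [hx']
  refine Submodule.sum_mem _ (fun a ha => ?_)
  exact Ideal.mul_mem_mul (Ideal.subset_span ha) (hmem a)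

theorem closure_pow_eq (I : Ideal A) (hfg : I.FG)
    (hopen : ∀ n : ℕ, IsOpen (closure ((I ^ n : Ideal A) : Set A)))
    (hbasis : ∀ U ∈ 𝓝 (0 : A), ∃ n : ℕ, closure ((I ^ n : Ideal A) : Set A) ⊆ U) (n : ℕ) :
    (I ^ n).closure = I ^ n := by
  apply le_antisymm _ (le_closure _)
  induction n with
  | zero => simp
  | succ n ih =>
    refine (closure_pow_succ_le_mul I hfg hopen hbasis n).trans ?_
    rw [pow_succ']
    exact Ideal.mul_mono_right ih

theorem isAdic_of_fg_of_closure_pow_basis (I : Ideal A) (hfg : I.FG)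
    (hopen : ∀ n : ℕ, IsOpen (closure ((I ^ n : Ideal A) : Set A)))
    (hbasis : ∀ U ∈ 𝓝 (0 : A), ∃ n : ℕ, closure ((I ^ n : Ideal A) : Set A) ⊆ U) :
    IsAdic I := by
  rw [isAdic_iff]
  refine ⟨fun n => ?_, fun U hU => ?_⟩
  · have := hopen n
    rw [← Ideal.coe_closure, closure_pow_eq I hfg hopen hbasis n] at this
    exact this
  · obtain ⟨n, hn⟩ := hbasis U hU
    exact ⟨n, subset_trans subset_closure hn⟩

end Complete

end Groth.Agent.Lib.Helper15
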