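-- helper15: the essential image of an immersion of algebraic stacks as the unique locally closed substack.
import Mathlib
import Groth.Agent.S12868
import Groth.Agent.Lib.Helper15OpenSubst
import Groth.Agent.Lib.Helper17MonoFF
import Groth.Agent.Lib.Helper17AlgStEquiv
import Groth.Agent.Lib.Helper17FibEquiv5

set_option autoImplicit false
set_option backward.isDefEq.respectTransparency false
set_option backward.isDefEq.respectTransparency.types false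
open CategoryTheory CategoryTheory.Functor CategoryTheory.Limits Opposite AlgebraicGeometry

universe u

namespace Groth.Agent.Lib.Helper15LocClosedImage

open Groth.Agent.Lib.Helper17 Groth.Agent.Lib.Helper15OpenSubst

variable {S : Scheme.{u}} {𝒵 𝒳 : AlgSt.Cat S}

/-- The essential image of a functor over the base. -/
def EssIm (i : 𝒵 ⥤ᵇ 𝒳) : 𝒳.obj → Prop := fun x => ∃ z : 𝒵.obj, Nonempty (i.obj z ≅ x)

theorem essIm_closedUnderIso (i : 𝒵 ⥤ᵇ 𝒳) :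
    ObjectProperty.IsClosedUnderIsomorphisms (EssIm i) :=
  ⟨fun e ⟨z, ⟨ε⟩⟩ => ⟨z, ⟨ε ≪≫ e⟩⟩⟩

/-- The corestriction of a functor to its essential image. -/
def toEssIm (i : 𝒵 ⥤ᵇ 𝒳) : 𝒵 ⥤ᵇ AlgSt.fullSub 𝒳 (EssIm i) :=
  liftSub (EssIm i) i (fun z => ⟨z, ⟨Iso.refl _⟩⟩)

theorem toEssIm_essSurjOver (h𝒵 : FibCat.IsFibGrpd 𝒵.p) (i : 𝒵 ⥤ᵇ 𝒳) :
    EssSurjOver (toEssIm i) := by
  rintro ⟨x, z, ⟨ε⟩⟩
  let f₁ : 𝒵.p.obj z ≅ 𝒳.p.obj x := eqToIso (i.w_obj z).symm ≪≫ 𝒳.p.mapIso ε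
  obtain ⟨z', e, he⟩ := IsFibGrpd.exists_lift_iso h𝒵 (T := 𝒵.p.obj z) (S := 𝒳.p.obj x) f₁ z rfl
  have h1 : 𝒳.p.IsHomLift f₁.hom (i.map e.hom) := inferInstance
  have h1'' : 𝒳.p.IsHomLift f₁.hom (i.mapIso e).hom := h1
  have h1' : 𝒳.p.IsHomLift f₁.inv (i.mapIso e).inv :=
    IsHomLift.inv_lift_inv 𝒳.p f₁ (i.mapIso e)
  have h2 : 𝒳.p.IsHomLift f₁.hom ε.hom :=
    IsHomLift.of_fac _ _ _ (i.w_obj z) rfl (by simp [f₁])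
  have h3 : 𝒳.p.IsHomLift (f₁.inv ≫ f₁.hom) ((i.mapIso e).inv ≫ ε.hom) := inferInstance
  rw [Iso.inv_hom_id] at h3
  refine ⟨z', ObjectProperty.isoMk _ ((i.mapIso e).symm ≪≫ ε), ?_⟩
  have ha := IsHomLift.domain_eq 𝒳.p (𝟙 (𝒳.p.obj x)) ((i.mapIso e).inv ≫ ε.hom)
  have hf := IsHomLift.fac 𝒳.p (𝟙 (𝒳.p.obj x)) ((i.mapIso e).inv ≫ ε.hom)
  exact IsHomLift.of_fac _ _ _ ha rfl hf

instance toEssIm_full (i : 𝒵 ⥤ᵇ 𝒳) [i.toFunctor.Full] : (toEssIm i).toFunctor.Full :=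
  inferInstanceAs (ObjectProperty.lift (EssIm i) i.toFunctor _).Full

instance toEssIm_faithful (i : 𝒵 ⥤ᵇ 𝒳) [i.toFunctor.Faithful] :
    (toEssIm i).toFunctor.Faithful :=
  inferInstanceAs (ObjectProperty.lift (EssIm i) i.toFunctor _).Faithful

theorem isEquivOver_toEssIm (h𝒵 : FibCat.IsFibGrpd 𝒵.p) (i : 𝒵 ⥤ᵇ 𝒳) [i.toFunctor.Full]
    [i.toFunctor.Faithful] : FibCat.IsEquivOver (toEssIm i) :=
  isEquivOver_of_fullyFaithful_of_essSurjOver _ (toEssIm_essSurjOver h𝒵 i)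

theorem repByAlgSpWith_subIncl_essIm (h𝒵 : FibCat.IsFibGrpd 𝒵.p) (i : 𝒵 ⥤ᵇ 𝒳)
    [i.toFunctor.Full] [i.toFunctor.Faithful] (P : MorphismProperty (AlgSp.Sp S))
    (hP : AlgSt.RepByAlgSpWith P i) : AlgSt.RepByAlgSpWith P (AlgSt.subIncl 𝒳 (EssIm i)) :=
  (repByAlgSpWith_of_square P (AlgSt.subIncl 𝒳 (EssIm i)) i (toEssIm i) (BasedFunctor.id _)
    (isEquivOver_toEssIm h𝒵 i) (isEquivOver_id _) (Iso.refl _)).2 hP

theorem exists_unique_locClosed_image (h𝒵 : AlgSt.IsAlgStack Scheme.fppfPrecoverage 𝒵)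
    (h𝒳 : AlgSt.IsAlgStack Scheme.fppfPrecoverage 𝒳) (i : 𝒵 ⥤ᵇ 𝒳) (hi : AlgSt.IsImm i) :
    ∃ Q : 𝒳.obj → Prop,
      (AlgSt.IsLocClosedSubstack 𝒳 Q Scheme.fppfPrecoverage ∧
        (∃ i' : 𝒵 ⥤ᵇ AlgSt.fullSub 𝒳 Q, FibCat.IsEquivOver i' ∧
          Nonempty (BasedFunctor.comp i' (AlgSt.subIncl 𝒳 Q) ≅ i)) ∧
        (AlgSt.IsClosedImm i → AlgSt.IsClosedSubstack 𝒳 Q Scheme.fppfPrecoverage) ∧
        (AlgSt.IsOpenImm i → AlgSt.IsOpenSubstack 𝒳 Q Scheme.fppfPrecoverage)) ∧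
      ∀ Q' : 𝒳.obj → Prop, AlgSt.IsLocClosedSubstack 𝒳 Q' Scheme.fppfPrecoverage →
        (∃ i' : 𝒵 ⥤ᵇ AlgSt.fullSub 𝒳 Q', FibCat.IsEquivOver i' ∧
          Nonempty (BasedFunctor.comp i' (AlgSt.subIncl 𝒳 Q') ≅ i)) → Q' = Q := by
  have hm : AlgSt.IsMono i := Groth.Agent.S12868.result i hi
  obtain ⟨hfull, hfaith⟩ := MonoFF.full_faithful_of_isMono h𝒵.isStack.1 h𝒳.isStack.1 i hm
  have hE := isEquivOver_toEssIm h𝒵.isStack.1 i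
  have hA : AlgSt.IsAlgStack Scheme.fppfPrecoverage (AlgSt.fullSub 𝒳 (EssIm i)) :=
    isAlgStack_of_isEquivOver _ (toEssIm i) hE h𝒵
  refine ⟨EssIm i, ⟨⟨essIm_closedUnderIso i, hA, repByAlgSpWith_subIncl_essIm h𝒵.isStack.1 i _ hi⟩,
    ⟨toEssIm i, hE, ⟨Iso.refl _⟩⟩, fun hc => ⟨essIm_closedUnderIso i, hA,
      repByAlgSpWith_subIncl_essIm h𝒵.isStack.1 i _ hc⟩, fun ho => ⟨essIm_closedUnderIso i, hA,
      repByAlgSpWith_subIncl_essIm h𝒵.isStack.1 i _ ho⟩⟩, ?_⟩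
  rintro Q' ⟨hQ'c, -, -⟩ ⟨i', hi', ⟨ε₀⟩⟩
  let ε : (BasedFunctor.comp i' (AlgSt.subIncl 𝒳 Q')).toFunctor ≅ i.toFunctor :=
    (BasedNatTrans.forgetful 𝒵 𝒳).mapIso ε₀
  funext x
  apply propext
  constructor
  · intro hx
    obtain ⟨z, e, -⟩ := IsEquivOver.essSurjOver i' hi' ⟨x, hx⟩
    exact ⟨z, ⟨(ε.app z).symm ≪≫ (AlgSt.subIncl 𝒳 Q').toFunctor.mapIso e⟩⟩
  · rintro ⟨z, ⟨e⟩⟩
    exact hQ'c.of_iso (ε.app z ≪≫ e) (i'.obj z).property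

end Groth.Agent.Lib.Helper15LocClosedImage
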