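-- helper15: descent of lft / lfp of the second functor along an fppf first functor of algebraic stacks.
import Mathlib
import Groth.Agent.Lib.Helper15LocQCancel
import Groth.Agent.S0114
import Groth.Agent.S5938

set_option autoImplicit false
set_option backward.isDefEq.respectTransparency false
set_option backward.isDefEq.respectTransparency.types false
open CategoryTheory CategoryTheory.Functor CategoryTheory.Limits Opposite AlgebraicGeometry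

universe u

namespace Groth.Agent.Lib.Helper15LocQFppfSrc

open Groth.Agent.Lib.Helper17 Groth.Agent.Lib.Helper15PshFib Groth.Agent.Lib.Helper15RepComp
  Groth.Agent.Lib.Helper15RepPsh Groth.Agent.Lib.Helper15DiagBase Groth.Agent.Lib.Helper15DiagRepSp
  Groth.Agent.Lib.Helper15Descent Groth.Agent.Lib.Helper15DiagLft
  Groth.Agent.Lib.Helper15DiagDescent Groth.Agent.Lib.Helper15SpMapRep
  Groth.Agent.Lib.Helper15SrcCancel Groth.Agent.Lib.Helper15ChartSp Groth.Agent.Lib.Helper15Atlas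
  Groth.Agent.Lib.Helper15LocEss Groth.Agent.Lib.Helper15UnivComp Groth.Agent.Lib.Helper15SmLoc
  Groth.Agent.Lib.Helper15PtsComp Groth.Agent.Lib.Helper15PtsTop Groth.Agent.Lib.Helper15PtsQc
  Groth.Agent.Lib.Helper15FpSwap Groth.Agent.Lib.Helper15QcLocal Groth.Agent.Lib.Helper15ClosedQc
  Groth.Agent.Lib.Helper15UnivPts Groth.Agent.Lib.Helper15BaseChange
  Groth.Agent.Lib.Helper15MonoSep Groth.Agent.Lib.Helper15LocQ Groth.Agent.Lib.Helper15LocQEngine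
  Groth.Agent.Lib.Helper15LocQProps Groth.Agent.Lib.Helper15LocQSpace
  Groth.Agent.Lib.Helper15LocQSpace2 Groth.Agent.Lib.Helper15LocQRep
  Groth.Agent.Lib.Helper15LocQComp Groth.Agent.Lib.Helper15GoodComp
  Groth.Agent.Lib.Helper15LocQCancel

variable {S : Scheme.{u}} {𝒳 𝒴 𝒵 : AlgSt.Cat S}

/-- Descent of a property of the second functor along a flat, locally finitely presented, surjective
first functor, from the corresponding descent for morphisms of schemes. -/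
theorem locQ_of_comp_of_fppf (P : MorphismProperty Scheme.{u})
    (hP : AlgSp.IsSmoothLocalST (AlgSp.LocP (S := S) P))
    (hPy : ∀ {U V : Over S} (h : U ⟶ V), P h.left → AlgSp.LocP P ((AlgSp.yon S).map h))
    (hdesc : ∀ {X Y Z : Scheme.{u}} (f : X ⟶ Y) (q : Y ⟶ Z), Surjective f → Flat f →
      LocallyOfFinitePresentation f → P (f ≫ q) → P q)
    (h𝒳 : AlgSt.IsAlgStack Scheme.fppfPrecoverage 𝒳)
    (h𝒴 : AlgSt.IsAlgStack Scheme.fppfPrecoverage 𝒴)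
    (h𝒵 : AlgSt.IsAlgStack Scheme.fppfPrecoverage 𝒵) (f : 𝒳 ⥤ᵇ 𝒴) (g : 𝒴 ⥤ᵇ 𝒵)
    (hf₁ : AlgSt.LocQ (AlgSp.LocP @Flat) f)
    (hf₂ : AlgSt.LocQ (AlgSp.LocP @LocallyOfFinitePresentation) f) (hf₃ : AlgSt.IsSurjective f)
    (hfg : AlgSt.LocQ (AlgSp.LocP P) (BasedFunctor.comp f g)) :
    AlgSt.LocQ (AlgSp.LocP P) g := by
  obtain ⟨U, V, W, x, y, z, h, k, α, β, hx₁, hx₂, hy₁, hy₂, hz₁, hz₂, hα₁, hα₂, hβ₁, hβ₂, hγ⟩ :=
    exists_good_squares h𝒳 h𝒴 h𝒵 f g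
  have hPc : AlgSp.LocP P ((AlgSp.yon S).map (h ≫ k)) :=
    (locQ_iff_forall_good _ hP h𝒳 h𝒵 (BasedFunctor.comp f g)).1 hfg U W x z
      (h ≫ k) _ hx₁ hz₁ hγ
  have hPh₁ : AlgSp.LocP @Flat ((AlgSp.yon S).map h) :=
    (locQ_iff_forall_good _ isSmoothLocalST_flat h𝒳 h𝒴 f).1 hf₁ U V x y h α hx₁ hy₁ hα₁
  have hPh₂ : AlgSp.LocP @LocallyOfFinitePresentation ((AlgSp.yon S).map h) :=
    (locQ_iff_forall_good _ isSmoothLocalST_lfp h𝒳 h𝒴 f).1 hf₂ U V x y h α hx₁ hy₁ hα₁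
  have h1 : P (h.left ≫ k.left) := AlgSp.locP_yon_map hPc
  have h2 : Flat h.left := AlgSp.locP_yon_map hPh₁
  have h2' : LocallyOfFinitePresentation h.left := AlgSp.locP_yon_map hPh₂
  have h3 : Surjective h.left := ⟨surjective_of_good_square h𝒳 h𝒴 f hf₃ x y h α hα₂⟩
  have h4 : P k.left := hdesc h.left k.left h3 h2 h2' h1
  exact ⟨V, W, y, z, k, β, hy₁, hy₂, hz₁, hPy k h4⟩

theorem locQ_lfp_of_comp_of_fppf (h𝒳 : AlgSt.IsAlgStack Scheme.fppfPrecoverage 𝒳)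
    (h𝒴 : AlgSt.IsAlgStack Scheme.fppfPrecoverage 𝒴)
    (h𝒵 : AlgSt.IsAlgStack Scheme.fppfPrecoverage 𝒵) (f : 𝒳 ⥤ᵇ 𝒴) (g : 𝒴 ⥤ᵇ 𝒵)
    (hf₁ : AlgSt.LocQ (AlgSp.LocP @Flat) f)
    (hf₂ : AlgSt.LocQ (AlgSp.LocP @LocallyOfFinitePresentation) f) (hf₃ : AlgSt.IsSurjective f)
    (hfg : AlgSt.LocQ (AlgSp.LocP @LocallyOfFinitePresentation) (BasedFunctor.comp f g)) :
    AlgSt.LocQ (AlgSp.LocP @LocallyOfFinitePresentation) g :=
  locQ_of_comp_of_fppf @LocallyOfFinitePresentation isSmoothLocalST_lfp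
    (fun h hh => locP_yon_map_of_lfp h hh)
    (fun f q h1 h2 h3 h4 => by
      haveI := h1; haveI := h2; haveI := h3; haveI := h4
      exact Groth.Agent.S0114.result f q) h𝒳 h𝒴 h𝒵 f g hf₁ hf₂ hf₃ hfg

theorem locQ_lft_of_comp_of_fppf (h𝒳 : AlgSt.IsAlgStack Scheme.fppfPrecoverage 𝒳)
    (h𝒴 : AlgSt.IsAlgStack Scheme.fppfPrecoverage 𝒴)
    (h𝒵 : AlgSt.IsAlgStack Scheme.fppfPrecoverage 𝒵) (f : 𝒳 ⥤ᵇ 𝒴) (g : 𝒴 ⥤ᵇ 𝒵)
    (hf₁ : AlgSt.LocQ (AlgSp.LocP @Flat) f)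
    (hf₂ : AlgSt.LocQ (AlgSp.LocP @LocallyOfFinitePresentation) f) (hf₃ : AlgSt.IsSurjective f)
    (hfg : AlgSt.LocQ (AlgSp.LocP @LocallyOfFiniteType) (BasedFunctor.comp f g)) :
    AlgSt.LocQ (AlgSp.LocP @LocallyOfFiniteType) g :=
  locQ_of_comp_of_fppf @LocallyOfFiniteType isSmoothLocalST_lft
    (fun h hh => locP_yon_map_of_lft h hh)
    (fun f q h1 h2 h3 h4 => by
      haveI := h1; haveI := h2; haveI := h3; haveI := h4
      exact Groth.Agent.S5938.result f q) h𝒳 h𝒴 h𝒵 f g hf₁ hf₂ hf₃ hfg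

/-- The representable form of the hypotheses on the first functor. -/
theorem locQ_lft_of_precomp_fppf (h𝒳 : AlgSt.IsAlgStack Scheme.fppfPrecoverage 𝒳)
    (h𝒴 : AlgSt.IsAlgStack Scheme.fppfPrecoverage 𝒴)
    (h𝒵 : AlgSt.IsAlgStack Scheme.fppfPrecoverage 𝒵) (f : 𝒳 ⥤ᵇ 𝒴) (g : 𝒴 ⥤ᵇ 𝒵)
    (hf₁ : AlgSt.RepByAlgSpWith (AlgSp.LocP @Flat) f)
    (hf₂ : AlgSt.RepByAlgSpWith (AlgSp.LocP @LocallyOfFinitePresentation) f)
    (hf₃ : AlgSt.RepByAlgSpWith AlgSp.IsSurjectiveMor f)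
    (hfg : AlgSt.LocQ (AlgSp.LocP @LocallyOfFiniteType) (BasedFunctor.comp f g)) :
    AlgSt.LocQ (AlgSp.LocP @LocallyOfFiniteType) g :=
  locQ_lft_of_comp_of_fppf h𝒳 h𝒴 h𝒵 f g
    (locQ_of_repByAlgSpWith _ isSmoothLocalST_flat h𝒳 h𝒴 f hf₁)
    (locQ_of_repByAlgSpWith _ isSmoothLocalST_lfp h𝒳 h𝒴 f hf₂)
    ((isSurjective_iff_repByAlgSpWith h𝒳 h𝒴 f (repByAlgSp1_of_repByAlgSpWith _ _ hf₃)).2 hf₃) hfg

end Groth.Agent.Lib.Helper15LocQFppfSrc
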