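-- helper15: maximal torus of a group of multiplicative type and of finite type (descent of the diagonalisable groups of the torsion-free quotients)
import Mathlib
import Groth.Agent.Lib.Helper11KummerA
import Groth.Agent.Lib.Helper15JoinNhd
import Groth.Agent.Lib.Helper15SubGrpDesc
set_option autoImplicit false
universe u
open CategoryTheory CategoryTheory.Limits AlgebraicGeometry MonoidalCategory CartesianMonoidalCategory
  MonObj GrpObj

namespace Groth.Agent.Lib.Helper15MaxTorusMT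

open Groth.Agent.Lib.Helper15DiagRigid Groth.Agent.Lib.Helper15DSmapPts
open Groth.Agent.Lib.Helper15FieldDiag Groth.Agent.Lib.Helper15SplitSub
open Groth.Agent.Lib.Helper15DSbc Groth.Agent.Lib.Helper15BCNat
open Groth.Agent.Lib.Helper15QuotBC Groth.Agent.Lib.Helper15JoinNhd
open Groth.Agent.Lib.Helper15SubGrpDesc Groth.Agent.Lib.Helper11Kummer
open Groth.Agent.Lib.Helper15QuotTorus Groth.Agent.Lib.Helper15ImageD

section Algebra

variable (M : Type) [AddCommGroup M]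

/-- the torsion subgroup. -/
def tors : AddSubgroup M := (Submodule.torsion ℤ M).toAddSubgroup

lemma exists_free (hM : AddGroup.FG M) : ∃ r : ℕ, Nonempty ((Fin r → ℤ) ≃+ (M ⧸ tors M)) := by
  have : Module.Finite ℤ M := Module.Finite.iff_addGroup_fg.mpr hM
  have h1 : Module.Finite ℤ (M ⧸ Submodule.torsion ℤ M) := inferInstance
  have h2 : Module.Free ℤ (M ⧸ Submodule.torsion ℤ M) := inferInstance
  let b := Module.finBasis ℤ (M ⧸ Submodule.torsion ℤ M)
  exact ⟨_, ⟨b.equivFun.symm.toAddEquiv⟩⟩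

lemma exists_exponent (hM : AddGroup.FG M) : ∃ n : ℕ, 0 < n ∧ ∀ x ∈ tors M, n • x = 0 := by
  have : Module.Finite ℤ M := Module.Finite.iff_addGroup_fg.mpr hM
  have hfin : Finite (Submodule.torsion ℤ M) := by
    have : Module.Finite ℤ (Submodule.torsion ℤ M) := inferInstance
    exact Module.finite_of_fg_torsion _ (Submodule.torsion_isTorsion)
  have : Fintype (Submodule.torsion ℤ M) := Fintype.ofFinite _
  refine ⟨Fintype.card (Submodule.torsion ℤ M), Fintype.card_pos, ?_⟩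
  intro x hx
  have := card_nsmul_eq_zero (G := Submodule.torsion ℤ M) (x := ⟨x, hx⟩)
  exact congrArg Subtype.val this

lemma nsmul_injective_quot (n : ℕ) (hn : 0 < n) :
    Function.Injective (n • AddMonoidHom.id (M ⧸ tors M)) := by
  rw [injective_iff_map_eq_zero]
  intro x hx
  have h1 : n • x = 0 := hx
  induction x using QuotientAddGroup.induction_on with
  | H y =>
    have h2 : ((n • y : M) : M ⧸ tors M) = 0 := h1
    rw [QuotientAddGroup.eq_zero_iff] at h2 ⊢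
    obtain ⟨a, ha⟩ := h2
    refine ⟨⟨(a : ℤ) * n, ?_⟩, ?_⟩
    · have ha0 : (a : ℤ) ≠ 0 := nonZeroDivisors.coe_ne_zero a
      have : (a : ℤ) * (n : ℤ) ≠ 0 := mul_ne_zero ha0 (by exact_mod_cast hn.ne')
      exact mem_nonZeroDivisors_of_ne_zero this
    · show ((a : ℤ) * (n : ℤ)) • y = 0
      rw [mul_smul]
      have : ((n : ℤ) • y) = n • y := natCast_zsmul y n
      rw [this]
      exact ha

/-- multiplication by an exponent of the torsion subgroup, as a map from the torsion-free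
quotient. -/
def nuMap (n : ℕ) (hn : ∀ x ∈ tors M, n • x = 0) : (M ⧸ tors M) →+ M :=
  QuotientAddGroup.lift (tors M) (n • AddMonoidHom.id M) (fun x hx => hn x hx)

lemma nuMap_comp (n : ℕ) (hn : ∀ x ∈ tors M, n • x = 0) :
    (nuMap M n hn).comp (QuotientAddGroup.mk' (tors M)) = n • AddMonoidHom.id M := by
  ext x
  rfl

lemma hom_tors_eq_zero (r : ℕ) (φ : tors M →+ (Fin r → ℤ)) : φ = 0 := by
  ext ⟨x, hx⟩ i
  obtain ⟨a, ha⟩ := hx
  have h1 : (a : ℤ) • φ ⟨x, ⟨a, ha⟩⟩ = 0 := by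
    rw [← map_zsmul]
    have : (a : ℤ) • (⟨x, ⟨a, ha⟩⟩ : tors M) = 0 := Subtype.ext ha
    rw [this, map_zero]
  have h2 := congrFun h1 i
  simp only [Pi.smul_apply, smul_eq_mul, Pi.zero_apply, mul_eq_zero] at h2
  rcases h2 with h2 | h2
  · exact (nonZeroDivisors.coe_ne_zero a h2).elim
  · exact h2

end Algebra

section Pow

variable {U : Scheme.{u}} {M : Type} [AddCommGroup M]

lemma charOf_pow {Y : Over U} (y : Y ⟶ Red.DS U M) (n : ℕ) :
    charOf M (y ^ n) = (charOf M y) ^ n := by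
  induction n with
  | zero => rw [pow_zero, pow_zero]; exact charOf_one M
  | succ k ih => rw [pow_succ, pow_succ, charOf_mul, ih]

lemma comp_DSmap_nsmul {Y : Over U} (y : Y ⟶ Red.DS U M) (n : ℕ) :
    y ≫ Red.DSmap U (n • AddMonoidHom.id M) = y ^ n := by
  apply charOf_injective M
  refine MonoidHom.ext fun m => ?_
  rw [charOf_DSmap, charOf_pow, MonoidHom.pow_apply]
  have : (AddMonoidHom.toMultiplicative (n • AddMonoidHom.id M)) m = m ^ n := by
    rfl
  rw [this, map_pow]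

variable {S : Scheme.{u}} (f : U ⟶ S) {G : Over S} [GrpObj G]

lemma homEquiv_pow {Y : Over U} (ζ : (Over.map f).obj Y ⟶ G) (n : ℕ) :
    (Over.mapPullbackAdj f).homEquiv Y G (ζ ^ n) =
      ((Over.mapPullbackAdj f).homEquiv Y G ζ) ^ n := by
  induction n with
  | zero =>
    rw [pow_zero, pow_zero]
    exact Groth.Agent.Lib.Helper15NormCentral.homEquiv_one f
  | succ k ih => rw [pow_succ, pow_succ, AlgGrp.Action.homEquiv_mul, ih]

lemma homEquiv_symm_pow {Y : Over U} (w : Y ⟶ Red.bc f G) (n : ℕ) :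
    ((Over.mapPullbackAdj f).homEquiv Y G).symm (w ^ n) =
      (((Over.mapPullbackAdj f).homEquiv Y G).symm w) ^ n := by
  apply ((Over.mapPullbackAdj f).homEquiv Y G).injective
  rw [homEquiv_pow, Equiv.apply_symm_apply, Equiv.apply_symm_apply]

end Pow

section PowPred

variable {S : Scheme.{u}} {H : Over S} [GrpObj H]

/-- the point `ξ` of `H` is an `n`-th power. -/
def PowPred (n : ℕ) {A : Scheme.{u}} (ξ : A ⟶ H.left) : Prop :=
  ∃ ζ : Over.mk (ξ ≫ H.hom) ⟶ H, (Over.homMk ξ rfl : Over.mk (ξ ≫ H.hom) ⟶ H) = ζ ^ n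

lemma powPred_of_eq {n : ℕ} {Y : Over S} (y ζ : Y ⟶ H) (h : y = ζ ^ n) : PowPred n y.left := by
  obtain ⟨θ, hθ⟩ : ∃ θ : Over.mk (y.left ≫ H.hom) ⟶ Y, θ.left = 𝟙 _ :=
    ⟨Over.homMk (𝟙 _) (by rw [Category.id_comp]; exact (Over.w y).symm), rfl⟩
  refine ⟨θ ≫ ζ, ?_⟩
  have h1 : (Over.homMk y.left rfl : Over.mk (y.left ≫ H.hom) ⟶ H) = θ ≫ y := by
    apply Over.OverMorphism.ext
    rw [Over.comp_left, hθ, Category.id_comp]
    rfl
  have h2 : θ ≫ y = θ ≫ (ζ ^ n) := congrArg (fun t => θ ≫ t) h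
  refine h1.trans (h2.trans ?_)
  rw [MonObj.comp_pow]

lemma exists_of_powPred {n : ℕ} {Y : Over S} (y : Y ⟶ H) (h : PowPred n y.left) :
    ∃ ζ : Y ⟶ H, y = ζ ^ n := by
  obtain ⟨ζ, h⟩ := h
  obtain ⟨θ, hθ⟩ : ∃ θ : Y ⟶ Over.mk (y.left ≫ H.hom), θ.left = 𝟙 _ :=
    ⟨Over.homMk (𝟙 _) (by rw [Category.id_comp]; exact Over.w y), rfl⟩
  refine ⟨θ ≫ ζ, ?_⟩
  have h1 : y = θ ≫ (Over.homMk y.left rfl : Over.mk (y.left ≫ H.hom) ⟶ H) := by
    apply Over.OverMorphism.ext
    rw [Over.comp_left, hθ, Category.id_comp]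
    rfl
  have h2 : θ ≫ (Over.homMk y.left rfl : Over.mk (y.left ≫ H.hom) ⟶ H) =
      θ ≫ (ζ ^ n) := congrArg (fun t => θ ≫ t) h
  refine h1.trans (h2.trans ?_)
  rw [MonObj.comp_pow]

lemma powPred_comp {n : ℕ} {A A' : Scheme.{u}} (π : A' ⟶ A) (ξ : A ⟶ H.left)
    (h : PowPred (H := H) n ξ) : PowPred (H := H) n (π ≫ ξ) := by
  obtain ⟨ζ, h⟩ := h
  obtain ⟨ρ, hρ⟩ : ∃ ρ : Over.mk ((π ≫ ξ) ≫ H.hom) ⟶ Over.mk (ξ ≫ H.hom), ρ.left = π :=
    ⟨Over.homMk π (by simp), rfl⟩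
  have h1 : (Over.homMk (π ≫ ξ) rfl : Over.mk ((π ≫ ξ) ≫ H.hom) ⟶ H) =
      ρ ≫ (Over.homMk ξ rfl : Over.mk (ξ ≫ H.hom) ⟶ H) := by
    apply Over.OverMorphism.ext
    rw [Over.comp_left, hρ]
    rfl
  exact powPred_of_eq (Over.homMk (π ≫ ξ) rfl : Over.mk ((π ≫ ξ) ≫ H.hom) ⟶ H) (ρ ≫ ζ) (by
    have h2 : ρ ≫ (Over.homMk ξ rfl : Over.mk (ξ ≫ H.hom) ⟶ H) = ρ ≫ (ζ ^ n) :=
      congrArg (fun t => ρ ≫ t) h
    refine h1.trans (h2.trans ?_)
    rw [MonObj.comp_pow])

/-- over `g`, the closed subgroup `v` of `H` is the subgroup of the points which are locally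
`n`-th powers for all `n`. -/
def TorData {T : Scheme.{u}} (g : T ⟶ S) (V : Over T) [GrpObj V] (v : V ⟶ Red.bc g H) : Prop :=
  IsMonHom v ∧ IsClosedImmersion v.left ∧
  (∃ n : ℕ, 0 < n ∧ ∀ (Y : Over T) (w : Y ⟶ Red.bc g H), ∃ a : Y ⟶ V, a ≫ v = w ^ n) ∧
  ∀ n : ℕ, 0 < n → ∃ (P : Over T) (p : P ⟶ V) (w : P ⟶ Red.bc g H),
    Flat p.left ∧ Surjective p.left ∧ QuasiCompact p.left ∧ p ≫ v = w ^ n

lemma TorData.factors_of_pred {T : Scheme.{u}} {g : T ⟶ S} {V : Over T} [GrpObj V]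
    {v : V ⟶ Red.bc g H} {n : ℕ}
    (hn : ∀ (Y : Over T) (w : Y ⟶ Red.bc g H), ∃ a : Y ⟶ V, a ≫ v = w ^ n) {A : Scheme.{u}}
    (x : A ⟶ (Red.bc g H).left) (hp : PowPred (H := H) n (x ≫ pullback.fst H.hom g)) :
    ∃ a : A ⟶ V.left, a ≫ v.left = x := by
  obtain ⟨y, hy⟩ : ∃ y : Over.mk (x ≫ (Red.bc g H).hom) ⟶ Red.bc g H, y.left = x :=
    ⟨Over.homMk x rfl, rfl⟩
  have h1 : (((Over.mapPullbackAdj g).homEquiv _ H).symm y).left = x ≫ pullback.fst H.hom g := by
    rw [homEquiv_symm_left, hy]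
  rw [← h1] at hp
  obtain ⟨ζ, h2⟩ := exists_of_powPred _ hp
  have h3 := congrArg ((Over.mapPullbackAdj g).homEquiv _ H) h2
  rw [Equiv.apply_symm_apply, homEquiv_pow] at h3
  obtain ⟨a, ha⟩ := hn _ ((Over.mapPullbackAdj g).homEquiv _ H ζ)
  refine ⟨a.left, ?_⟩
  rw [← Over.comp_left, ha, ← h3, hy]

lemma TorData.exists_cover {T : Scheme.{u}} {g : T ⟶ S} {V : Over T} [GrpObj V]
    {v : V ⟶ Red.bc g H} (hd : TorData g V v) (n : ℕ) (hn : 0 < n) {A : Scheme.{u}}
    (a : A ⟶ V.left) :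
    ∃ (A' : Scheme.{u}) (π : A' ⟶ A), Flat π ∧ Surjective π ∧ QuasiCompact π ∧
      PowPred (H := H) n (π ≫ a ≫ v.left ≫ pullback.fst H.hom g) := by
  obtain ⟨hvm, -, -, hcov⟩ := hd
  obtain ⟨P, p, w, hfl, hsu, hqc, hp⟩ := hcov n hn
  refine ⟨pullback a p.left, pullback.fst a p.left, inferInstance, inferInstance, inferInstance,
    ?_⟩
  have h1 : ((Over.mapPullbackAdj g).homEquiv P H).symm (p ≫ v) =
      (((Over.mapPullbackAdj g).homEquiv P H).symm w) ^ n := by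
    rw [hp, homEquiv_symm_pow]
  have h2 := powPred_of_eq _ _ h1
  rw [homEquiv_symm_left, Over.comp_left, Category.assoc] at h2
  have h4 := powPred_comp (pullback.snd a p.left) _ h2
  rw [← Category.assoc, ← pullback.condition, Category.assoc] at h4
  exact h4

lemma TorData.compat {T T' : Scheme.{u}} {g : T ⟶ S} {g' : T' ⟶ S} {V : Over T} [GrpObj V]
    {v : V ⟶ Red.bc g H} (hd : TorData g V v) {V' : Over T'} [GrpObj V']
    {v' : V' ⟶ Red.bc g' H} (hd' : TorData g' V' v') {A : Scheme.{u}}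
    (x₀ : A ⟶ (Red.bc g H).left) (x₁ : A ⟶ (Red.bc g' H).left)
    (e : x₀ ≫ pullback.fst H.hom g = x₁ ≫ pullback.fst H.hom g')
    (h : ∃ a : A ⟶ V.left, a ≫ v.left = x₀) : ∃ b : A ⟶ V'.left, b ≫ v'.left = x₁ := by
  obtain ⟨a, ha⟩ := h
  obtain ⟨n, hn0, hn⟩ := hd'.2.2.1
  obtain ⟨A', π, hfl, hsu, hqc, hp⟩ := hd.exists_cover n hn0 a
  rw [← Category.assoc a, ha, e, ← Category.assoc] at hp
  obtain ⟨b', hb'⟩ := TorData.factors_of_pred hn (π ≫ x₁) hp
  have hmono : Mono v'.left := by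
    have := hd'.2.1
    infer_instance
  refine Groth.Agent.Lib.Helper15ClDescFam.factors_of_fpqc v'.left x₁ (Presieve.singleton π)
    (Groth.Agent.Lib.Helper15LocProjBC.singleton_mem_fpqcPrecoverage π ?_) ?_
  · intro W hW
    refine ⟨π ⁻¹ᵁ W, QuasiCompact.isCompact_preimage (f := π) _ W.2 hW.isCompact, ?_⟩
    exact Set.image_preimage_eq _ hsu.surj
  · rintro Q _ ⟨⟩
    exact ⟨b', hb'⟩

end PowPred

section Local

variable {S X : Scheme.{u}} {H : Over S} [GrpObj H] {M : Type} [AddCommGroup M]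

/-- the torus data attached to a trivialisation. -/
lemma torData_of_iso (g : X ⟶ S) (e : Red.bc g H ≅ Red.DS X M) [IsMonHom e.hom]
    (hM : AddGroup.FG M) :
    TorData g (Red.DS X (M ⧸ tors M))
      (Red.DSmap X (QuotientAddGroup.mk' (tors M)) ≫ e.inv) := by
  have hq := Groth.Agent.Lib.Helper27DiagSub.isMonHom_DSmap X (QuotientAddGroup.mk' (tors M))
  have hcl := Groth.Agent.Lib.Helper27DiagSub.isClosedImmersion_DSmap_left X
    (QuotientAddGroup.mk' (tors M)) (QuotientAddGroup.mk'_surjective _)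
  have hiso : IsIso e.inv.left := isIso_left e.symm
  refine ⟨inferInstance, ?_, ?_, ?_⟩
  · rw [Over.comp_left]
    infer_instance
  · obtain ⟨n, hn0, hn⟩ := exists_exponent M hM
    refine ⟨n, hn0, fun Y w => ⟨w ≫ e.hom ≫ Red.DSmap X (nuMap M n hn), ?_⟩⟩
    rw [Category.assoc, Category.assoc, ← Category.assoc (Red.DSmap X (nuMap M n hn)),
      ← DSmap_comp, nuMap_comp, ← Category.assoc e.hom, ← Category.assoc w,
      ← Category.assoc w, comp_DSmap_nsmul, MonObj.pow_comp, Category.assoc,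
      Iso.hom_inv_id, Category.comp_id]
  · intro n hn0
    have hfs := Groth.Agent.Lib.Helper15DSmapProps.flat_surjective_DSmap
      (n • AddMonoidHom.id (M ⧸ tors M)) X (nsmul_injective_quot M n hn0)
    refine ⟨Red.DS X (M ⧸ tors M), Red.DSmap X (n • AddMonoidHom.id (M ⧸ tors M)),
      Red.DSmap X (QuotientAddGroup.mk' (tors M)) ≫ e.inv, hfs.1, hfs.2,
      quasiCompact_left_of_DS _, ?_⟩
    have h1 := comp_DSmap_nsmul (𝟙 (Red.DS X (M ⧸ tors M))) n
    rw [Category.id_comp] at h1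
    rw [h1, MonObj.pow_comp, Category.id_comp]

end Local

section Torus

variable {X : Scheme.{u}} {R' : Over X} [GrpObj R'] {F : Type} [AddCommGroup F]
  (c : R' ⟶ Red.DS X F) [hc : IsMonHom c]

include hc in
/-- local forms, with free character groups, of a homomorphism from a torus to a diagonalisable
group. -/
theorem exists_family_locForm_torus (hR : Red.IsTorus R') (hF : AddGroup.FG F) :
    ∃ (J : Type u) (Sj : J → Scheme.{u}) (gj : ∀ j, Sj j ⟶ X),
      Presieve.ofArrows Sj gj ∈ Scheme.fpqcPrecoverage X ∧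
      ∀ j, ∃ (r : ℕ) (φ : F →+ (Fin r → ℤ)),
        Groth.Agent.Lib.Helper15LocForm.LocForm c (gj j) (Fin r → ℤ) φ := by
  obtain ⟨K, Sk, gk, hcov, hloc⟩ :=
    Groth.Agent.Lib.Helper15DiagRigidLoc.exists_fpqc_family
      (fun S' g => ∃ r : ℕ, Red.IsSplitTorusWith (Fin r → ℤ) (Red.bc g R')) hR
  have hex : ∀ (k : K) (t : Sk k), ∃ (W : (Sk k).Opens), t ∈ W ∧
      ∃ (r : ℕ) (φ : F →+ (Fin r → ℤ)),
        Groth.Agent.Lib.Helper15LocForm.LocForm c (W.ι ≫ gk k) (Fin r → ℤ) φ := by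
    intro k t
    obtain ⟨r, ⟨a⟩⟩ := hloc k
    obtain ⟨φ, W, htW, hW⟩ :=
      Groth.Agent.Lib.Helper15LocForm.exists_opens_locForm c hF (gk k) (Fin r → ℤ) a t
    exact ⟨W, htW, r, φ, hW⟩
  choose Wo hWo hD using hex
  have h2 : ∀ k : K, Presieve.ofArrows (fun t : Sk k => ((Wo k t : (Sk k).Opens) : Scheme.{u}))
      (fun t => (Wo k t).ι) ∈ Scheme.fpqcPrecoverage (Sk k) := by
    intro k
    let 𝒰 : (Sk k).OpenCover :=
      { I₀ := Sk k
        X := fun t => (Wo k t).toScheme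
        f := fun t => (Wo k t).ι
        mem₀ := by
          rw [Scheme.ofArrows_mem_precoverage_iff]
          exact ⟨fun p => ⟨p, ⟨p, hWo k p⟩, rfl⟩, fun s => inferInstance⟩ }
    exact Scheme.zariskiPrecoverage_le_fpqcPrecoverage _ 𝒰.mem₀
  have h3 := Precoverage.comp_mem_coverings (J := Scheme.fpqcPrecoverage.{u}) gk hcov
    (fun k (t : Sk k) => (Wo k t).ι) h2
  exact ⟨Σ k : K, Sk k, fun p => (Wo p.1 p.2).toScheme, fun p => (Wo p.1 p.2).ι ≫ gk p.1, h3,
    fun p => hD p.1 p.2⟩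

include hc in
/-- a homomorphism from a torus to a diagonalisable group whose character group has no nonzero
homomorphism to a free group is trivial. -/
theorem trivial_of_torus (hR : Red.IsTorus R') (hF : AddGroup.FG F)
    (hzero : ∀ (r : ℕ) (φ : F →+ (Fin r → ℤ)), φ = 0) :
    c = toUnit _ ≫ η[Red.DS X F] := by
  obtain ⟨J, Sj, gj, hcov, hloc⟩ := exists_family_locForm_torus c hR hF
  refine eq_of_bc_family _ _ gj hcov ?_
  intro j
  rw [map_trivial]
  obtain ⟨r, φ, h⟩ := hloc j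
  have h1 := h.map_eq_one (AddMonoidHom.id F) (by rw [hzero r φ]; rfl)
  rw [DSmap_id, Category.comp_id] at h1
  exact h1

end Torus

section TorusBC

variable {S S₁ : Scheme.{u}} (g : S₁ ⟶ S) {R : Over S} [GrpObj R]

/-- base change of a torus. -/
theorem isTorus_bc (hR : Red.IsTorus R) : Red.IsTorus (Red.bc g R) := by
  obtain ⟨S', f, hfl, hsu, hqc, hloc⟩ := hR
  refine ⟨pullback f g, pullback.snd f g, inferInstance, inferInstance, qc_cond_bc f g hqc, ?_⟩
  intro z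
  obtain ⟨U, hzU, r, ⟨a⟩⟩ := hloc (pullback.fst f g z)
  refine ⟨(pullback.fst f g) ⁻¹ᵁ U, hzU, r, ?_⟩
  obtain ⟨ρ, hρ⟩ : ∃ ρ : ((pullback.fst f g) ⁻¹ᵁ U : Scheme.{u}) ⟶ (U : Scheme.{u}),
      ρ ≫ U.ι = ((pullback.fst f g) ⁻¹ᵁ U).ι ≫ pullback.fst f g :=
    ⟨(pullback.fst f g).resLE U _ le_rfl, Scheme.Hom.resLE_comp_ι _ _⟩
  obtain ⟨a'⟩ := nonempty_iso_bc (U.ι ≫ f) ρ R _ a
  have key : ∀ x : ((pullback.fst f g) ⁻¹ᵁ U : Scheme.{u}) ⟶ S, x = ρ ≫ U.ι ≫ f →
      Nonempty (Grp.mk (Red.bc x R) ≅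
        Grp.mk (Red.DS ((pullback.fst f g) ⁻¹ᵁ U : Scheme.{u}) (Fin r → ℤ))) := by
    rintro x rfl
    exact ⟨a'⟩
  obtain ⟨a''⟩ := key ((((pullback.fst f g) ⁻¹ᵁ U).ι ≫ pullback.snd f g) ≫ g) (by
    rw [Category.assoc, ← pullback.condition, ← Category.assoc, ← hρ, Category.assoc])
  exact ⟨bcCompIso g _ R ≪≫ a''⟩

end TorusBC

section LL

variable {X : Scheme.{u}} {HX : Over X} [GrpObj HX] {M : Type} [AddCommGroup M]

/-- a homomorphism from a torus to a diagonalisable group factors through the diagonalisable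
group of the torsion-free quotient of the character group. -/
theorem exists_factor_of_torus {R' : Over X} [GrpObj R'] (hR : Red.IsTorus R')
    (e : HX ≅ Red.DS X M) [IsMonHom e.hom] (hM : AddGroup.FG M) (j' : R' ⟶ HX) [IsMonHom j'] :
    ∃ a : R' ⟶ Red.DS X (M ⧸ tors M),
      a ≫ Red.DSmap X (QuotientAddGroup.mk' (tors M)) ≫ e.inv = j' := by
  have hm := Groth.Agent.Lib.Helper27DiagSub.isMonHom_DSmap X (tors M).subtype
  have hc : j' ≫ e.hom ≫ Red.DSmap X (tors M).subtype = toUnit _ ≫ η[Red.DS X (tors M)] :=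
    trivial_of_torus (j' ≫ e.hom ≫ Red.DSmap X (tors M).subtype) hR (fg_sub (tors M) hM)
      (fun r φ => hom_tors_eq_zero M r φ)
  have hk : IsPullback (Red.DSmap X (QuotientAddGroup.mk' (tors M))) (toUnit _)
      (Red.DSmap X (tors M).subtype) η[Red.DS X (tors M)] := isKernel_sub X (tors M)
  refine ⟨hk.lift (j' ≫ e.hom) (toUnit _) (by rw [Category.assoc]; exact hc), ?_⟩
  rw [← Category.assoc, hk.lift_fst, Category.assoc, Iso.hom_inv_id, Category.comp_id]

end LL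

section TP

variable {X : Scheme.{u}}

/-- the pair `iX : TX ⟶ HX` is isomorphic to the pair formed by a diagonalisable group and the
diagonalisable group of the torsion-free quotient of its character group. -/
def IsTP {HX TX : Over X} [GrpObj HX] (iX : TX ⟶ HX) : Prop :=
  ∃ (M : Type) (_ : AddCommGroup M) (E : HX ≅ Red.DS X M) (ET : TX ≅ Red.DS X (M ⧸ tors M)),
    AddGroup.FG M ∧ IsMonHom E.hom ∧
      iX ≫ E.hom = ET.hom ≫ Red.DSmap X (QuotientAddGroup.mk' (tors M))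

lemma IsTP.of_iso {HX TX HX' TX' : Over X} [GrpObj HX] [GrpObj HX'] {iX : TX ⟶ HX}
    {iX' : TX' ⟶ HX'} (α : HX ≅ HX') [IsMonHom α.hom] (αT : TX ≅ TX')
    (hα : iX ≫ α.hom = αT.hom ≫ iX') (h : IsTP iX') : IsTP iX := by
  obtain ⟨M, _, E, ET, hM, hE, hcomm⟩ := h
  refine ⟨M, _, α ≪≫ E, αT ≪≫ ET, hM, ?_, ?_⟩
  · rw [Iso.trans_hom]; infer_instance
  · rw [Iso.trans_hom, Iso.trans_hom, ← Category.assoc, hα, Category.assoc, hcomm, Category.assoc]

lemma IsTP.bc {HX TX : Over X} [GrpObj HX] {iX : TX ⟶ HX} (h : IsTP iX) {X' : Scheme.{u}}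
    (c : X' ⟶ X) : IsTP ((Over.pullback c).map iX) := by
  obtain ⟨M, _, E, ET, hM, hE, hcomm⟩ := h
  obtain ⟨β⟩ := nonempty_natTriv (S := X) c
  have := β.mon M
  refine ⟨M, _, (Over.pullback c).mapIso E ≪≫ β.b M,
    (Over.pullback c).mapIso ET ≪≫ β.b (M ⧸ tors M), hM, ?_, ?_⟩
  · rw [Iso.trans_hom, Functor.mapIso_hom]; infer_instance
  · rw [Iso.trans_hom, Iso.trans_hom, Functor.mapIso_hom, Functor.mapIso_hom, ← Category.assoc,
      ← CategoryTheory.Functor.map_comp, hcomm, CategoryTheory.Functor.map_comp, Category.assoc,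
      β.nat, Category.assoc]

lemma IsTP.exists_factor {HX TX : Over X} [GrpObj HX] {iX : TX ⟶ HX} (h : IsTP iX)
    {R' : Over X} [GrpObj R'] (hR : Red.IsTorus R') (j' : R' ⟶ HX) [IsMonHom j'] :
    ∃ a : R' ⟶ TX, a ≫ iX = j' := by
  obtain ⟨M, _, E, ET, hM, hE, hcomm⟩ := h
  obtain ⟨a₀, ha₀⟩ := exists_factor_of_torus hR E hM j'
  refine ⟨a₀ ≫ ET.inv, ?_⟩
  have h1 : ET.inv ≫ iX = Red.DSmap X (QuotientAddGroup.mk' (tors M)) ≫ E.inv := by
    rw [Iso.inv_comp_eq, ← Category.assoc, ← hcomm, Category.assoc, Iso.hom_inv_id,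
      Category.comp_id]
  rw [Category.assoc, h1, ha₀]

end TP

section Desc

/-- factoring through a monomorphism can be checked after base change along an fpqc family. -/
theorem factors_of_bc_family {B : Scheme.{u}} {Y₀ G' V' : Over B} (v' : V' ⟶ G') [Mono v'.left]
    (y : Y₀ ⟶ G') {K : Type u} {Bk : K → Scheme.{u}} (bk : ∀ k, Bk k ⟶ B)
    (hcov : Presieve.ofArrows Bk bk ∈ Scheme.fpqcPrecoverage B)
    (h : ∀ k, ∃ a : Red.bc (bk k) Y₀ ⟶ Red.bc (bk k) V',
      a ≫ (Over.pullback (bk k)).map v' = (Over.pullback (bk k)).map y) :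
    ∃ a : Y₀ ⟶ V', a ≫ v' = y := by
  obtain ⟨w, hw⟩ := Groth.Agent.Lib.Helper15ClDescFam.factors_of_fpqc v'.left y.left _
    (Precoverage.pullbackArrows_mem Y₀.hom hcov) (by
      rintro T' _ ⟨T'', τ, ⟨k⟩⟩
      obtain ⟨a, ha⟩ := h k
      refine ⟨(pullbackSymmetry (bk k) Y₀.hom).hom ≫ a.left ≫ pullback.fst V'.hom (bk k), ?_⟩
      rw [Category.assoc, Category.assoc, ← map_left_fst, ← Category.assoc a.left,
        ← Over.comp_left, ha, map_left_fst, ← Category.assoc, pullbackSymmetry_hom_comp_fst])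
  refine ⟨Over.homMk w ?_, ?_⟩
  · rw [← Over.w v', ← Category.assoc, hw, Over.w]
  · apply Over.OverMorphism.ext
    exact hw

variable {S : Scheme.{u}} {H T : Over S} [GrpObj H] [GrpObj T] (i : T ⟶ H)

lemma isTP_of_eq {X : Scheme.{u}} (x y : X ⟶ S) (hxy : x = y)
    (h : IsTP ((Over.pullback x).map i)) : IsTP ((Over.pullback y).map i) := by
  subst hxy
  exact h

/-- a subgroup which is, locally for the fpqc topology, the pair of a diagonalisable group and
the diagonalisable group of the torsion-free quotient of its character group contains every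
subtorus, after any base change. -/
theorem exists_factor_bc (hcl : IsClosedImmersion i.left) {K : Type u} {Sk : K → Scheme.{u}}
    (gk : ∀ k, Sk k ⟶ S) (hcov : Presieve.ofArrows Sk gk ∈ Scheme.fpqcPrecoverage S)
    (hTP : ∀ k, IsTP ((Over.pullback (gk k)).map i))
    {B : Scheme.{u}} (b : B ⟶ S) {R' : Over B} [GrpObj R'] (hR' : Red.IsTorus R')
    (j' : R' ⟶ Red.bc b H) [IsMonHom j'] :
    ∃ f' : R' ⟶ Red.bc b T, f' ≫ (Over.pullback b).map i = j' := by
  have hcl' : IsClosedImmersion ((Over.pullback b).map i).left :=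
    Groth.Agent.Lib.Helper27DiagSub.isClosedImmersion_pullback_map_left b i
  have hmono : Mono ((Over.pullback b).map i).left := inferInstance
  refine factors_of_bc_family _ j' (fun k => pullback.snd (gk k) b) (by
    rw [Presieve.ofArrows_pullback]
    exact Precoverage.pullbackArrows_mem b hcov) ?_
  intro k
  have h1 := (hTP k).bc (pullback.fst (gk k) b)
  have hm1 : IsMonHom (overIso (bcCompIso (gk k) (pullback.fst (gk k) b) H)).symm.hom := by
    rw [Iso.symm_hom]; infer_instance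
  have h2 : IsTP ((Over.pullback (pullback.fst (gk k) b ≫ gk k)).map i) :=
    IsTP.of_iso (overIso (bcCompIso (gk k) (pullback.fst (gk k) b) H)).symm
      (overIso (bcCompIso (gk k) (pullback.fst (gk k) b) T)).symm (by
        rw [Iso.symm_hom, Iso.symm_hom, Iso.comp_inv_eq, Category.assoc, Iso.eq_inv_comp]
        exact (bcCompIso_nat (gk k) (pullback.fst (gk k) b) i).symm) h1
  have h3 := isTP_of_eq i _ _ pullback.condition h2
  have h4 : IsTP ((Over.pullback (pullback.snd (gk k) b)).map ((Over.pullback b).map i)) :=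
    IsTP.of_iso (overIso (bcCompIso b (pullback.snd (gk k) b) H))
      (overIso (bcCompIso b (pullback.snd (gk k) b) T))
      (bcCompIso_nat b (pullback.snd (gk k) b) i) h3
  exact h4.exists_factor (isTorus_bc (pullback.snd (gk k) b) hR')
    ((Over.pullback (pullback.snd (gk k) b)).map j')

end Desc

section Main

variable {S : Scheme.{u}} {H : Over S} [GrpObj H]

/-- **a group of multiplicative type and of finite type has a maximal torus, which contains
every subtorus.** -/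
theorem exists_maximalTorus (hH : SGA3x.IsMultTypeFT H) :
    ∃ (T : Over S) (_ : GrpObj T) (i : T ⟶ H), Red.IsMaximalTorus i ∧
      ∀ (R : Over S) [GrpObj R] (j : R ⟶ H) [IsMonHom j] [Mono j], Red.IsTorus R →
        ∃ f : R ⟶ T, f ≫ i = j := by
  obtain ⟨S', f, hfl, hsu, hqc, hloc⟩ := hH
  choose Uo hU M instM hM hiso using hloc
  have h1 : Presieve.ofArrows (fun _ : PUnit.{u+1} => S') (fun _ => f) ∈
      Scheme.fpqcPrecoverage S := by
    rw [Presieve.ofArrows_pUnit]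
    exact Groth.Agent.Lib.Helper15LocProjBC.singleton_mem_fpqcPrecoverage f hqc
  let 𝒰 : S'.OpenCover :=
    { I₀ := S'
      X := fun s => (Uo s).toScheme
      f := fun s => (Uo s).ι
      mem₀ := by
        rw [Scheme.ofArrows_mem_precoverage_iff]
        exact ⟨fun p => ⟨p, ⟨p, hU p⟩, rfl⟩, fun s => inferInstance⟩ }
  have h2 : Presieve.ofArrows 𝒰.X 𝒰.f ∈ Scheme.fpqcPrecoverage S' :=
    Scheme.zariskiPrecoverage_le_fpqcPrecoverage _ 𝒰.mem₀
  have h3 : Presieve.ofArrows (fun p : Σ _ : PUnit.{u+1}, S' => ((Uo p.2 : S'.Opens) : Scheme.{u}))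
      (fun p => (Uo p.2).ι ≫ f) ∈ Scheme.fpqcPrecoverage S :=
    Precoverage.comp_mem_coverings (J := Scheme.fpqcPrecoverage.{u})
      (fun _ : PUnit.{u+1} => f) h1 (fun _ s' => 𝒰.f s') (fun _ => h2)
  have hex : ∀ s' : S', ∃ e : Red.bc ((Uo s').ι ≫ f) H ≅ Red.DS (Uo s' : Scheme.{u}) (M s'),
      IsMonHom e.hom := fun s' => by
    obtain ⟨a⟩ := hiso s'
    exact ⟨overIso a, inferInstance⟩
  choose e hem using hex
  have hd : ∀ p : Σ _ : PUnit.{u+1}, S', TorData ((Uo p.2).ι ≫ f)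
      (Red.DS (Uo p.2 : Scheme.{u}) (M p.2 ⧸ tors (M p.2)))
      (Red.DSmap (Uo p.2 : Scheme.{u}) (QuotientAddGroup.mk' (tors (M p.2))) ≫ (e p.2).inv) :=
    fun p => by
      have := hem p.2
      exact torData_of_iso ((Uo p.2).ι ≫ f) (e p.2) (hM p.2)
  have hvm : ∀ p : Σ _ : PUnit.{u+1}, S', IsMonHom
      (Red.DSmap (Uo p.2 : Scheme.{u}) (QuotientAddGroup.mk' (tors (M p.2))) ≫ (e p.2).inv) :=
    fun p => (hd p).1
  obtain ⟨T, inst, i, him, himono, hicl, hisoT, crit⟩ := exists_subgroup_descent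
    (fun p : Σ _ : PUnit.{u+1}, S' => (Uo p.2).ι ≫ f) h3
    (fun p => Red.DS (Uo p.2 : Scheme.{u}) (M p.2 ⧸ tors (M p.2)))
    (fun p => Red.DSmap (Uo p.2 : Scheme.{u}) (QuotientAddGroup.mk' (tors (M p.2))) ≫ (e p.2).inv)
    (fun p => (hd p).2.1) (by
      intro A k l x₀ x₁ e h
      exact (hd k).compat (hd l) x₀ x₁ e h)
  have hTP : ∀ p : Σ _ : PUnit.{u+1}, S', IsTP ((Over.pullback ((Uo p.2).ι ≫ f)).map i) := by
    intro p
    obtain ⟨io, hiom, hio⟩ := hisoT p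
    refine ⟨M p.2, inferInstance, e p.2, io, hM p.2, hem p.2, ?_⟩
    rw [← hio, Category.assoc, Category.assoc, Iso.inv_hom_id, Category.comp_id]
  have hT : Red.IsTorus T := by
    refine ⟨S', f, hfl, hsu, hqc, fun s' => ⟨Uo s', hU s', ?_⟩⟩
    obtain ⟨io, hiom, -⟩ := hisoT ⟨PUnit.unit, s'⟩
    obtain ⟨r, ⟨ε⟩⟩ := exists_free (M s') (hM s')
    have hiso' := isIso_DSmap (U := (Uo s' : Scheme.{u})) ε
    have hmε := Groth.Agent.Lib.Helper27DiagSub.isMonHom_DSmap (Uo s' : Scheme.{u})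
      ε.toAddMonoidHom
    have hmm : IsMonHom (io ≪≫ asIso (Red.DSmap (Uo s' : Scheme.{u}) ε.toAddMonoidHom)).hom := by
      rw [Iso.trans_hom, asIso_hom]
      infer_instance
    exact ⟨r, ⟨Grp.mkIso' (io ≪≫ asIso (Red.DSmap (Uo s' : Scheme.{u}) ε.toAddMonoidHom))⟩⟩
  refine ⟨T, inst, i, ⟨him, himono, hT, ?_⟩, ?_⟩
  · intro s T' _ j' _ _ f' hT' hf'
    obtain ⟨f'', hf''⟩ := exists_factor_bc i hicl _ h3 hTP (Red.geomPt s) hT' j'
    have hm : Mono ((Over.pullback (Red.geomPt s)).map i) := inferInstance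
    refine ⟨f'', ?_, ?_⟩
    · rw [← cancel_mono ((Over.pullback (Red.geomPt s)).map i), Category.assoc, hf'', hf',
        Category.id_comp]
    · rw [← cancel_mono j', Category.assoc, hf', hf'', Category.id_comp]
  · intro R _ j _ _ hR
    refine crit R j (fun p => ?_)
    have := hem p.2
    exact exists_factor_of_torus (isTorus_bc ((Uo p.2).ι ≫ f) hR) (e p.2) (hM p.2)
      ((Over.pullback ((Uo p.2).ι ≫ f)).map j)

end Main

end Groth.Agent.Lib.Helper15MaxTorusMT
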