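import Groth.Agent.Lib.Helper15GroupCompletion
import Mathlib.Topology.Algebra.Module.Basic
import Mathlib.Topology.Algebra.UniformMulAction
import Mathlib.RingTheory.Ideal.Operations

/-!
Completion of a topological module: closures of images of submodules, and the statement that
for a finitely generated ideal `J` the closure of `J • W` is `J •` the closure of `W`
(under a first countability hypothesis).
-/

set_option autoImplicit false

namespace Groth.Agent.Lib.Helper15

open Topology Filter UniformSpace

theorem exists_sum_of_mem_span_smul {R M : Type*} [CommRing R] [AddCommGroup M] [Module R M]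
    (s : Finset R) (N : Submodule R M) {x : M} (hx : x ∈ Ideal.span (s : Set R) • N) :
    ∃ y : R → M, (∀ a, y a ∈ N) ∧ x = ∑ a ∈ s, a • y a := by
  refine Submodule.smul_induction_on hx ?_ ?_
  · intro r hr n hn
    obtain ⟨c, -, rfl⟩ := Submodule.mem_span_finset.1 hr
    refine ⟨fun a => c a • n, fun a => N.smul_mem _ hn, ?_⟩
    rw [Finset.sum_smul]
    refine Finset.sum_congr rfl (fun a _ => ?_)
    simp only [smul_eq_mul]
    rw [mul_comm, mul_smul]
  · rintro x y ⟨u, hu, rfl⟩ ⟨v, hv, rfl⟩
    refine ⟨fun a => u a + v a, fun a => N.add_mem (hu a) (hv a), ?_⟩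
    rw [← Finset.sum_add_distrib]
    refine Finset.sum_congr rfl (fun a _ => ?_)
    rw [smul_add]

section Group

variable {M : Type*} [AddCommGroup M] [UniformSpace M] [IsUniformAddGroup M]

theorem exists_sub_mem_hatSubgroup_of_mem {U V : AddSubgroup M} (hV : IsOpen (V : Set M))
    {x : Completion M} (hx : x ∈ hatSubgroup U) :
    ∃ u ∈ U, x - (u : Completion M) ∈ hatSubgroup V := by
  have hx' : x ∈ closure (((↑) : M → Completion M) '' (U : Set M)) := by
    rw [← coe_hatSubgroup]; exact hx
  rw [mem_closure_iff_nhds_zero] at hx'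
  obtain ⟨_, ⟨u, hu, rfl⟩, hy⟩ := hx' _ (hatSubgroup_mem_nhds hV)
  refine ⟨u, hu, ?_⟩
  have h2 : x - (u : Completion M) = -((u : Completion M) - x) := by abel
  rw [h2]
  exact (hatSubgroup V).neg_mem hy

end Group

section Module

variable {R : Type*} [CommRing R] {M : Type*} [AddCommGroup M] [Module R M] [UniformSpace M]
  [IsUniformAddGroup M] [UniformContinuousConstSMul R M]

/-- the canonical map to the completion as a linear map -/
noncomputable def coeLin : M →ₗ[R] Completion M where
  toFun := ((↑) : M → Completion M)
  map_add' := Completion.coe_add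
  map_smul' := fun c x => Completion.coe_smul c x

@[simp] theorem coeLin_apply (m : M) : (coeLin (R := R) m : Completion M) = (m : Completion M) :=
  rfl

/-- the closure in the completion of the image of a submodule -/
noncomputable def hatSubmodule (N : Submodule R M) : Submodule R (Completion M) :=
  (N.map (coeLin (R := R))).topologicalClosure

theorem coe_hatSubmodule (N : Submodule R M) :
    (hatSubmodule N : Set (Completion M)) = closure (((↑) : M → Completion M) '' (N : Set M)) := by
  rw [hatSubmodule]
  simp only [Submodule.topologicalClosure_coe, Submodule.map_coe]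
  rfl

theorem hatSubmodule_toAddSubgroup (N : Submodule R M) :
    (hatSubmodule N).toAddSubgroup = hatSubgroup N.toAddSubgroup := by
  apply SetLike.coe_injective
  change (hatSubmodule N : Set (Completion M)) = _
  rw [coe_hatSubmodule, coe_hatSubgroup]
  rfl

theorem mem_hatSubmodule_iff (N : Submodule R M) {x : Completion M} :
    x ∈ hatSubmodule N ↔ x ∈ hatSubgroup N.toAddSubgroup := by
  rw [← hatSubmodule_toAddSubgroup]
  rfl

theorem hatSubmodule_mono {N N' : Submodule R M} (h : N ≤ N') :
    hatSubmodule N ≤ hatSubmodule N' :=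
  Submodule.topologicalClosure_mono (Submodule.map_mono h)

theorem coe_mem_hatSubmodule {N : Submodule R M} {m : M} (hm : m ∈ N) :
    (m : Completion M) ∈ hatSubmodule N := by
  rw [mem_hatSubmodule_iff]
  exact coe_mem_hatSubgroup hm

theorem isOpen_hatSubmodule {N : Submodule R M} (hN : IsOpen (N : Set M)) :
    IsOpen (hatSubmodule N : Set (Completion M)) := by
  have := isOpen_hatSubgroup (U := N.toAddSubgroup) hN
  rw [coe_hatSubgroup] at this
  rw [coe_hatSubmodule]
  exact this

theorem hatSubmodule_top : hatSubmodule (⊤ : Submodule R M) = ⊤ := by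
  apply SetLike.coe_injective
  rw [coe_hatSubmodule]
  simp only [Submodule.top_coe, Set.image_univ]
  exact Completion.denseRange_coe.closure_range

theorem smul_hatSubmodule_le (J : Ideal R) (N : Submodule R M) :
    J • hatSubmodule N ≤ hatSubmodule (J • N) := by
  rw [Submodule.smul_le]
  intro r hr x hx
  have hx' : x ∈ closure (((↑) : M → Completion M) '' (N : Set M)) := by
    rw [← coe_hatSubmodule]; exact hx
  have : r • x ∈ closure (((↑) : M → Completion M) '' ((J • N : Submodule R M) : Set M)) := by
    refine map_mem_closure (continuous_const_smul r) hx' ?_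
    rintro _ ⟨n, hn, rfl⟩
    exact ⟨r • n, Submodule.smul_mem_smul hr hn, Completion.coe_smul r n⟩
  rw [← coe_hatSubmodule] at this
  exact this

/-- the key successive approximation statement -/
theorem hatSubmodule_smul_le (T : Finset R) (W : ℕ → Submodule R M)
    (hWanti : ∀ m k, m ≤ k → W k ≤ W m)
    (hWo : ∀ k, IsOpen ((Ideal.span (T : Set R) • W k : Submodule R M) : Set M))
    (hWopen : ∀ k, IsOpen (W k : Set M))
    (hWb : ∀ U ∈ 𝓝 (0 : M), ∃ k, (W k : Set M) ⊆ U) :
    hatSubmodule (Ideal.span (T : Set R) • W 0) ≤ Ideal.span (T : Set R) • hatSubmodule (W 0) := by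
  classical
  set J : Ideal R := Ideal.span (T : Set R) with hJ
  have hbasisM : (𝓝 (0 : M)).HasBasis (fun _ : ℕ => True)
      (fun k => ((W k).toAddSubgroup : Set M)) := by
    constructor
    intro U
    constructor
    · intro hU
      obtain ⟨k, hk⟩ := hWb U hU
      exact ⟨k, trivial, hk⟩
    · rintro ⟨k, -, hk⟩
      exact Filter.mem_of_superset ((hWopen k).mem_nhds (W k).zero_mem) hk
  have hbasis := hasBasis_hatSubgroup hbasisM
  have hna : NonarchimedeanAddGroup (Completion M) :=
    { is_nonarchimedean := by
        intro U hU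
        obtain ⟨k, -, hk⟩ := hbasis.mem_iff.1 hU
        exact ⟨⟨hatSubgroup (W k).toAddSubgroup, isOpen_hatSubgroup (hWopen k)⟩, hk⟩ }
  intro x hx
  have hx0 : x ∈ hatSubgroup (J • W (0 + 0)).toAddSubgroup := by
    rw [← mem_hatSubmodule_iff]; exact hx
  -- successive approximation
  obtain ⟨ys, hys, hrem⟩ := exists_seq_of_step
    (fun k (x : Completion M) => x ∈ hatSubgroup (J • W (0 + k)).toAddSubgroup)
    (fun k (y : R → M) => ∀ a, y a ∈ W k)
    (fun y => ((∑ a ∈ T, a • y a : M) : Completion M))
    (fun k x hx => by
      obtain ⟨u, hu, hxu⟩ := exists_sub_mem_hatSubgroup_of_mem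
        (V := (J • W (0 + (k + 1))).toAddSubgroup) (hWo _) hx
      have hu' : u ∈ J • W k := by simpa using hu
      obtain ⟨y, hy, rfl⟩ := exists_sum_of_mem_span_smul T (W k) hu'
      exact ⟨y, hy, hxu⟩) x hx0
  -- coordinate sequences tend to zero
  have htend : ∀ a, Tendsto (fun k => ((ys k a : M) : Completion M)) atTop (𝓝 0) := by
    intro a
    have h1 : Tendsto (fun k => ys k a) atTop (𝓝 (0 : M)) := by
      rw [hbasisM.tendsto_right_iff]
      intro m _
      filter_upwards [eventually_ge_atTop m] with k hk
      exact hWanti m k hk (hys k a)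
    have h2 := ((Completion.continuous_coe M).tendsto 0).comp h1
    rw [Completion.coe_zero] at h2
    exact h2
  have hsum : ∀ a, Summable (fun k => ((ys k a : M) : Completion M)) := by
    intro a
    apply NonarchimedeanAddGroup.summable_of_tendsto_cofinite_zero
    rw [Nat.cofinite_eq_atTop]
    exact htend a
  have hlim : ∀ a, Tendsto (fun N => ∑ k ∈ Finset.range N, ((ys k a : M) : Completion M)) atTop
      (𝓝 (∑' k, ((ys k a : M) : Completion M))) := fun a => (hsum a).hasSum.tendsto_sum_nat
  have hmem : ∀ a, (∑' k, ((ys k a : M) : Completion M)) ∈ hatSubmodule (W 0) := by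
    intro a
    have hcl : IsClosed (hatSubmodule (W 0) : Set (Completion M)) :=
      Submodule.isClosed_topologicalClosure _
    refine hcl.mem_of_tendsto (hlim a) (Eventually.of_forall fun N => ?_)
    refine Submodule.sum_mem _ (fun k _ => ?_)
    exact coe_mem_hatSubmodule (hWanti 0 k (Nat.zero_le k) (hys k a))
  have h1 : Tendsto (fun N => ∑ k ∈ Finset.range N, ((∑ a ∈ T, a • ys k a : M) : Completion M))
      atTop (𝓝 (∑ a ∈ T, a • ∑' k, ((ys k a : M) : Completion M))) := by
    have : (fun N => ∑ k ∈ Finset.range N, ((∑ a ∈ T, a • ys k a : M) : Completion M)) =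
        fun N => ∑ a ∈ T, a • ∑ k ∈ Finset.range N, ((ys k a : M) : Completion M) := by
      funext N
      have h3 : ∀ k, ((∑ a ∈ T, a • ys k a : M) : Completion M) =
          ∑ a ∈ T, a • ((ys k a : M) : Completion M) := by
        intro k
        have := map_sum (coeLin (R := R) (M := M)) (fun a => a • ys k a) T
        simp only [coeLin_apply] at this
        rw [this]
        refine Finset.sum_congr rfl (fun a _ => ?_)
        exact Completion.coe_smul a (ys k a)
      simp_rw [h3]
      rw [Finset.sum_comm]
      refine Finset.sum_congr rfl (fun a _ => ?_)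
      rw [Finset.smul_sum]
    rw [this]
    exact tendsto_finsetSum _ (fun a _ => (hlim a).const_smul a)
  have h2 : Tendsto (fun N => ∑ k ∈ Finset.range N, ((∑ a ∈ T, a • ys k a : M) : Completion M))
      atTop (𝓝 x) := by
    have h3 : Tendsto (fun N => x - ∑ k ∈ Finset.range N,
        ((∑ a ∈ T, a • ys k a : M) : Completion M)) atTop (𝓝 0) := by
      rw [hbasis.tendsto_right_iff]
      intro m _
      filter_upwards [eventually_ge_atTop m] with N hN
      have h4 : hatSubgroup (J • W (0 + N)).toAddSubgroup ≤ hatSubgroup (W m).toAddSubgroup := by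
        apply hatSubgroup_mono
        intro z hz
        have hz' : z ∈ J • W (0 + N) := hz
        exact hWanti m (0 + N) (by omega) (Submodule.smul_le_right hz')
      exact h4 (hrem N)
    have h5 := (tendsto_const_nhds (x := x)).sub h3
    simpa using h5
  have hx' : x = ∑ a ∈ T, a • ∑' k, ((ys k a : M) : Completion M) := tendsto_nhds_unique h2 h1
  rw [hx']
  refine Submodule.sum_mem _ (fun a ha => ?_)
  exact Submodule.smul_mem_smul (Ideal.subset_span ha) (hmem a)

end Module

end Groth.Agent.Lib.Helper15
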