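-- helper15: multiplicative type groups are quasi-compact; fpqc family with projectivity and quasi-compactness
import Mathlib
import Groth.Agent.Lib.Helper15LocProjBC
import Groth.Agent.Lib.Helper12Torsor

set_option autoImplicit false
universe u
open CategoryTheory CategoryTheory.Limits AlgebraicGeometry

namespace Groth.Agent.Lib.Helper15MultQC

open Groth.Agent.Lib.Helper15FixLocP Groth.Agent.Lib.Helper15LocProjBC

/-- a group of multiplicative type is fpqc-locally on the base Zariski-locally projective and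
quasi-compact. -/
theorem exists_fpqc_family_of_multType' {S : Scheme.{u}} (H : Over S) [GrpObj H]
    (hH : SGA3x.IsMultTypeFT H) :
    ∃ (ι : Type u) (Sk : ι → Scheme.{u}) (g : ∀ k, Sk k ⟶ S),
      Presieve.ofArrows Sk g ∈ Scheme.fpqcPrecoverage S ∧
        (∀ k, LocProj (pullback.snd H.hom (g k))) ∧
        ∀ k, QuasiCompact (pullback.snd H.hom (g k)) := by
  obtain ⟨S', f, hfl, hsu, hqc, hloc⟩ := hH
  choose U hU M hM hFG hiso using hloc
  have h1 : Presieve.ofArrows (fun _ : PUnit.{u+1} => S') (fun _ => f) ∈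
      Scheme.fpqcPrecoverage S := by
    rw [Presieve.ofArrows_pUnit]
    exact singleton_mem_fpqcPrecoverage f hqc
  let 𝒰 : S'.OpenCover :=
    { I₀ := S'
      X := fun s => (U s).toScheme
      f := fun s => (U s).ι
      mem₀ := by
        rw [Scheme.ofArrows_mem_precoverage_iff]
        exact ⟨fun p => ⟨p, ⟨p, hU p⟩, rfl⟩, fun s => inferInstance⟩ }
  have h2 : Presieve.ofArrows 𝒰.X 𝒰.f ∈ Scheme.fpqcPrecoverage S' :=
    Scheme.zariskiPrecoverage_le_fpqcPrecoverage _ 𝒰.mem₀
  have h3 := Precoverage.comp_mem_coverings (J := Scheme.fpqcPrecoverage.{u})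
    (fun _ : PUnit.{u+1} => f) h1 (fun _ s' => 𝒰.f s') (fun _ => h2)
  refine ⟨Σ _ : PUnit.{u+1}, S', fun p => (U p.2).toScheme, fun p => (U p.2).ι ≫ f, h3,
    fun p => ?_, fun p => ?_⟩
  · obtain ⟨e⟩ := hiso p.2
    let _ := hM p.2
    let e' : Red.bc ((U p.2).ι ≫ f) H ≅ Red.DS (U p.2 : Scheme.{u}) (M p.2) :=
      (Grp.forget _).mapIso e
    exact LocProj.of_iso ((Over.forget _).mapIso e') (Over.w e'.hom) (locProj_DS _ _)
  · obtain ⟨e⟩ := hiso p.2
    let _ := hM p.2
    let e' : Red.bc ((U p.2).ι ≫ f) H ≅ Red.DS (U p.2 : Scheme.{u}) (M p.2) :=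
      (Grp.forget _).mapIso e
    have h4 : e'.hom.left ≫ (Red.DS (U p.2 : Scheme.{u}) (M p.2)).hom =
        pullback.snd H.hom ((U p.2).ι ≫ f) := Over.w e'.hom
    rw [← h4]
    have : IsIso e'.hom.left := inferInstanceAs (IsIso ((Over.forget _).mapIso e').hom)
    have : QuasiCompact (Red.DS (U p.2 : Scheme.{u}) (M p.2)).hom := by
      change QuasiCompact (pullback.snd (Red.diag (ULift.{u} ℤ) (M p.2)).hom _)
      have : IsAffineHom (Red.diag (ULift.{u} ℤ) (M p.2)).hom := by
        change IsAffineHom (Spec.map _)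
        infer_instance
      infer_instance
    infer_instance

/-- a group of multiplicative type is quasi-compact over the base. -/
theorem quasiCompact_of_multType {S : Scheme.{u}} (H : Over S) [GrpObj H]
    (hH : SGA3x.IsMultTypeFT H) : QuasiCompact H.hom := by
  obtain ⟨ι, Sk, g, hg, -, hqc⟩ := exists_fpqc_family_of_multType' H hH
  refine Groth.Agent.Lib.Helper12.of_mem_fpqcPrecoverage
    Groth.Agent.Lib.Helper12.descendsAlong_quasiCompact H.hom _ hg ?_
  rintro Y' _ ⟨k⟩
  exact hqc k

end Groth.Agent.Lib.Helper15MultQC
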