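-- helper15: lifting of morphisms to a formally smooth scheme along surjections of rings with nilpotent kernel
import Mathlib
import Groth.Agent.Lib.Helper12SmoothIff
set_option autoImplicit false
universe u
open CategoryTheory CategoryTheory.Limits AlgebraicGeometry

namespace Groth.Agent.Lib.Helper15NilLift

section Lift

variable {X Y : Scheme.{u}} (f : X ⟶ Y) (hf : MoreMor.IsFormallySmoothHom f)

include hf in
/-- lifting along a surjection of rings whose kernel has square zero. -/
theorem exists_lift_sq {A A₀ : Type u} [CommRing A] [CommRing A₀] (π : A →+* A₀)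
    (hπ : Function.Surjective π) (hker : RingHom.ker π ^ 2 = ⊥)
    (a : Spec (CommRingCat.of A₀) ⟶ X) (b : Spec (CommRingCat.of A) ⟶ Y)
    (hab : Spec.map (CommRingCat.ofHom π) ≫ b = a ≫ f) :
    ∃ l : Spec (CommRingCat.of A) ⟶ X, Spec.map (CommRingCat.ofHom π) ≫ l = a ∧ l ≫ f = b := by
  obtain ⟨e, he⟩ : ∃ e : A ⧸ RingHom.ker π ≃+* A₀, e = π.quotientKerEquivOfSurjective hπ :=
    ⟨_, rfl⟩
  have h1 : e.toRingHom.comp (Ideal.Quotient.mk (RingHom.ker π)) = π := by
    refine RingHom.ext (fun x => ?_)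
    rw [he]
    exact RingHom.quotientKerEquivOfSurjective_apply_mk hπ x
  have h2 : e.symm.toRingHom.comp e.toRingHom = RingHom.id _ := by
    refine RingHom.ext (fun x => ?_)
    exact e.symm_apply_apply x
  have h2' : e.toRingHom.comp e.symm.toRingHom = RingHom.id _ := by
    refine RingHom.ext (fun x => ?_)
    exact e.apply_symm_apply x
  have h3 : Spec.map (CommRingCat.ofHom π) =
      Spec.map (CommRingCat.ofHom e.toRingHom) ≫
        Spec.map (CommRingCat.ofHom (Ideal.Quotient.mk (RingHom.ker π))) := by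
    rw [← Spec.map_comp, ← CommRingCat.ofHom_comp, h1]
  have h4 : Spec.map (CommRingCat.ofHom e.toRingHom) ≫
      Spec.map (CommRingCat.ofHom e.symm.toRingHom) = 𝟙 _ := by
    rw [← Spec.map_comp, ← CommRingCat.ofHom_comp, h2']
    exact Spec.map_id _
  have h5 : Spec.map (CommRingCat.ofHom e.symm.toRingHom) ≫
      Spec.map (CommRingCat.ofHom e.toRingHom) = 𝟙 _ := by
    rw [← Spec.map_comp, ← CommRingCat.ofHom_comp, h2]
    exact Spec.map_id _
  obtain ⟨l, hl1, hl2⟩ := hf A (RingHom.ker π) hker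
    (Spec.map (CommRingCat.ofHom e.symm.toRingHom) ≫ a) b (by
      rw [Category.assoc, ← hab, h3, ← Category.assoc, ← Category.assoc, h5, Category.id_comp])
  refine ⟨l, ?_, hl2⟩
  rw [h3, Category.assoc, hl1, ← Category.assoc, h4, Category.id_comp]

include hf in
/-- lifting along a surjection of rings with nilpotent kernel. -/
theorem exists_lift_nil (n : ℕ) : ∀ {A A₀ : Type u} [CommRing A] [CommRing A₀] (π : A →+* A₀)
    (_ : Function.Surjective π) (_ : RingHom.ker π ^ n = ⊥)
    (a : Spec (CommRingCat.of A₀) ⟶ X) (b : Spec (CommRingCat.of A) ⟶ Y)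
    (_ : Spec.map (CommRingCat.ofHom π) ≫ b = a ≫ f),
    ∃ l : Spec (CommRingCat.of A) ⟶ X, Spec.map (CommRingCat.ofHom π) ≫ l = a ∧ l ≫ f = b := by
  induction n with
  | zero =>
    intro A A₀ _ _ π hπ hker a b hab
    refine exists_lift_sq f hf π hπ ?_ a b hab
    rw [pow_zero, Ideal.one_eq_top] at hker
    rw [eq_bot_iff]
    intro x _
    rw [← hker]
    trivial
  | succ n ih =>
    intro A A₀ _ _ π hπ hker a b hab
    by_cases hn : n = 0
    · subst hn
      refine exists_lift_sq f hf π hπ ?_ a b hab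
      rw [zero_add, pow_one] at hker
      rw [hker, pow_two, Ideal.bot_mul]
    obtain ⟨K, hK⟩ : ∃ K : Ideal A, K = RingHom.ker π ^ n := ⟨_, rfl⟩
    have hKle : K ≤ RingHom.ker π := by
      rw [hK]
      exact Ideal.pow_le_self hn
    have hK2 : K ^ 2 = ⊥ := by
      rw [hK, ← pow_mul, eq_bot_iff, ← hker]
      exact Ideal.pow_le_pow_right (by omega)
    obtain ⟨π', hπ'⟩ : ∃ π' : A ⧸ K →+* A₀, π' = Ideal.Quotient.lift K π (fun x hx => hKle hx) :=
      ⟨_, rfl⟩
    have hfac : π'.comp (Ideal.Quotient.mk K) = π := by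
      rw [hπ']
      exact Ideal.Quotient.lift_comp_mk _ _ _
    have hπ's : Function.Surjective π' := by
      intro y
      obtain ⟨x, rfl⟩ := hπ y
      exact ⟨Ideal.Quotient.mk K x, by rw [← hfac]; rfl⟩
    have hker' : RingHom.ker π' ^ n = ⊥ := by
      rw [hπ', Ideal.ker_quotient_lift, ← Ideal.map_pow, ← hK, Ideal.map_quotient_self]
    have hspec : Spec.map (CommRingCat.ofHom π) =
        Spec.map (CommRingCat.ofHom π') ≫ Spec.map (CommRingCat.ofHom (Ideal.Quotient.mk K)) := by
      rw [← Spec.map_comp, ← CommRingCat.ofHom_comp, hfac]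
    obtain ⟨l', hl'1, hl'2⟩ := ih π' hπ's hker' a
      (Spec.map (CommRingCat.ofHom (Ideal.Quotient.mk K)) ≫ b) (by
        rw [← Category.assoc, ← hspec, hab])
    have hkerK : RingHom.ker (Ideal.Quotient.mk K) ^ 2 = ⊥ := by
      rw [Ideal.mk_ker, hK2]
    obtain ⟨l, hl1, hl2⟩ := exists_lift_sq f hf (Ideal.Quotient.mk K)
      Ideal.Quotient.mk_surjective hkerK l' b hl'2.symm
    refine ⟨l, ?_, hl2⟩
    rw [hspec, Category.assoc, hl1, hl'1]

end Lift

end Groth.Agent.Lib.Helper15NilLift
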