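-- helper15: lifting points of smooth schemes along nilpotent thickenings of an affine base; conjugates of homomorphisms by global points
import Mathlib
import Groth.Agent.Lib.Helper15NilLiftA
import Groth.Agent.Lib.Helper15AvgRelD
set_option autoImplicit false
universe u
open CategoryTheory CategoryTheory.Limits AlgebraicGeometry MonoidalCategory
  CartesianMonoidalCategory MonObj GrpObj

namespace Groth.Agent.Lib.Helper15NilConj

open Groth.Agent.Lib.Helper15Avg

lemma conj_mul' {Γ : Type*} [Group Γ] (x a b : Γ) :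
    x * (a * b) * x⁻¹ = (x * a * x⁻¹) * (x * b * x⁻¹) := by group

lemma conj_conj {Γ : Type*} [Group Γ] (a b c : Γ) :
    a * (b * c * b⁻¹) * a⁻¹ = (a * b) * c * (a * b)⁻¹ := by group

section Pts

variable {R : Type u} [CommRing R] {G : Over (Spec (CommRingCat.of R))}

/-- the canonical morphism between the closed subschemes attached to two comparable ideals. -/
noncomputable def rr {I K : Ideal R} (hKI : K ≤ I) :
    (Over.mk (Spec.map (CommRingCat.ofHom (Ideal.Quotient.mk I))) :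
      Over (Spec (CommRingCat.of R))) ⟶
        Over.mk (Spec.map (CommRingCat.ofHom (Ideal.Quotient.mk K))) :=
  Over.homMk (Spec.map (CommRingCat.ofHom (Ideal.Quotient.factor hKI))) (by
    change Spec.map _ ≫ Spec.map _ = Spec.map _
    rw [← Spec.map_comp, ← CommRingCat.ofHom_comp, Ideal.Quotient.factor_comp_mk])

/-- every object lies over the closed subscheme attached to the zero ideal. -/
lemma exists_pt_bot (X : Over (Spec (CommRingCat.of R))) :
    Nonempty (X ⟶ (Over.mk (Spec.map (CommRingCat.ofHom (Ideal.Quotient.mk (⊥ : Ideal R)))) :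
      Over (Spec (CommRingCat.of R)))) := by
  obtain ⟨φ, hφ⟩ : ∃ φ : R ⧸ (⊥ : Ideal R) →+* R, φ.comp (Ideal.Quotient.mk ⊥) = RingHom.id R :=
    ⟨Ideal.Quotient.lift ⊥ (RingHom.id R) (fun x hx => by simpa using hx),
      Ideal.Quotient.lift_comp_mk _ _ _⟩
  refine ⟨Over.homMk (X.hom ≫ Spec.map (CommRingCat.ofHom φ)) ?_⟩
  change (X.hom ≫ Spec.map _) ≫ Spec.map _ = X.hom
  rw [Category.assoc, ← Spec.map_comp, ← CommRingCat.ofHom_comp, hφ]
  change X.hom ≫ Spec.map (𝟙 _) = X.hom
  rw [Spec.map_id, Category.comp_id]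

variable (hG : Smooth G.hom)

include hG in
/-- points of a smooth scheme over an affine base lift along nilpotent thickenings of the base. -/
theorem exists_point_lift (I : Ideal R) (hI : IsNilpotent I)
    (a : (Over.mk (Spec.map (CommRingCat.ofHom (Ideal.Quotient.mk I))) :
      Over (Spec (CommRingCat.of R))) ⟶ G) :
    ∃ g : 𝟙_ (Over (Spec (CommRingCat.of R))) ⟶ G, toUnit _ ≫ g = a := by
  obtain ⟨n, hn⟩ := hI
  have hf := ((Groth.Agent.Lib.Helper12.SmoothIff.smooth_iff G.hom).1 hG).2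
  obtain ⟨al, hal⟩ : ∃ al : Spec (CommRingCat.of (R ⧸ I)) ⟶ G.left, al = a.left := ⟨_, rfl⟩
  have hw : al ≫ G.hom = Spec.map (CommRingCat.ofHom (Ideal.Quotient.mk I)) := by
    rw [hal]
    exact Over.w a
  obtain ⟨l, hl1, hl2⟩ := Groth.Agent.Lib.Helper15NilLift.exists_lift_nil G.hom hf n
    (Ideal.Quotient.mk I) Ideal.Quotient.mk_surjective (by rw [Ideal.mk_ker, hn, Ideal.zero_eq_bot])
    al (𝟙 _) (by rw [Category.comp_id, hw])
  obtain ⟨g, hg⟩ : ∃ g : 𝟙_ (Over (Spec (CommRingCat.of R))) ⟶ G, g.left = l :=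
    ⟨Over.homMk l hl2, rfl⟩
  refine ⟨g, ?_⟩
  apply Over.OverMorphism.ext
  rw [Over.comp_left, hg, ← hal, ← hl1]
  rfl

end Pts

section ConjHom

variable {S : Scheme.{u}} {H G : Over S} [GrpObj H] [GrpObj G]

/-- the conjugate of a homomorphism by a global point. -/
noncomputable def conjHom (g : 𝟙_ (Over S) ⟶ G) (u : H ⟶ G) : H ⟶ G :=
  (toUnit H ≫ g) * u * (toUnit H ≫ g)⁻¹

lemma comp_conjHom (g : 𝟙_ (Over S) ⟶ G) (u : H ⟶ G) {X : Over S} (h : X ⟶ H) :
    h ≫ conjHom g u = (toUnit X ≫ g) * (h ≫ u) * (toUnit X ≫ g)⁻¹ := by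
  unfold conjHom
  rw [MonObj.comp_mul, MonObj.comp_mul, GrpObj.comp_inv, ← Category.assoc,
    toUnit_unique (h ≫ toUnit H) (toUnit X)]

instance (g : 𝟙_ (Over S) ⟶ G) (u : H ⟶ G) [IsMonHom u] : IsMonHom (conjHom g u) := by
  apply Groth.Agent.Lib.Helper15DiagDSIso.isMonHom_of_mul_grp
  rw [comp_conjHom, comp_conjHom, comp_conjHom, MonObj.mul_comp _ _ u]
  exact conj_mul' _ _ _

end ConjHom

end Groth.Agent.Lib.Helper15NilConj
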