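-- helper15: conjugacy of homomorphisms out of a group of multiplicative type into a smooth group lifts modulo nilpotent ideals
import Mathlib
import Groth.Agent.Lib.Helper15NilConjA
set_option autoImplicit false
universe u
open CategoryTheory CategoryTheory.Limits AlgebraicGeometry MonoidalCategory
  CartesianMonoidalCategory MonObj GrpObj

namespace Groth.Agent.Lib.Helper15NilConj

open Groth.Agent.Lib.Helper15Avg

section Main

variable {R : Type u} [CommRing R]
  (H G : Over (Spec (CommRingCat.of R))) [GrpObj H] [GrpObj G]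
  (hH : TwC.Locally (Spec (CommRingCat.of R)) TwC.Topology.fpqc (fun S' f =>
    ∃ (M : Type) (_ : AddCommGroup M), Nonempty (Grp.mk (Red.bc f H) ≅ Grp.mk (Red.DS S' M))))
  (hG : Smooth G.hom) (u v : H ⟶ G) [IsMonHom u] [IsMonHom v]

/-- `v` is the conjugate of `u` by `g` on points over the closed subscheme defined by `I`. -/
def ConjMod (I : Ideal R) (g : 𝟙_ (Over (Spec (CommRingCat.of R))) ⟶ G) : Prop :=
  ∀ (X : Over (Spec (CommRingCat.of R)))
    (_ : X ⟶ (Over.mk (Spec.map (CommRingCat.ofHom (Ideal.Quotient.mk I))) :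
      Over (Spec (CommRingCat.of R)))) (h : X ⟶ H),
    h ≫ v = (toUnit X ≫ g) * (h ≫ u) * (toUnit X ≫ g)⁻¹

include hH hG in
/-- one step: from conjugacy modulo `I` to conjugacy modulo `I ^ 2`. -/
theorem conjMod_step (I : Ideal R) (hI : IsNilpotent I)
    (g : 𝟙_ (Over (Spec (CommRingCat.of R))) ⟶ G) (hg : ConjMod H G u v I g) :
    ∃ g' : 𝟙_ (Over (Spec (CommRingCat.of R))) ⟶ G,
      toUnit (Over.mk (Spec.map (CommRingCat.ofHom (Ideal.Quotient.mk I))) :
        Over (Spec (CommRingCat.of R))) ≫ g' = toUnit _ ≫ g ∧ ConjMod H G u v (I ^ 2) g' := by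
  have h0w : ∀ (X : Over (Spec (CommRingCat.of R)))
      (_ : X ⟶ (Over.mk (Spec.map (CommRingCat.ofHom (Ideal.Quotient.mk I))) :
        Over (Spec (CommRingCat.of R)))) (h : X ⟶ H), h ≫ conjHom g u = h ≫ v := by
    intro X p h
    rw [comp_conjHom, hg X p h]
  obtain ⟨zK, hz1, hz2⟩ := exists_conj_rel I (I ^ 2) le_rfl (Ideal.pow_le_self two_ne_zero) H G hH
    (conjHom g u) v h0w
  have hI2 : IsNilpotent (I ^ 2) := by
    obtain ⟨n, hn⟩ := hI
    exact ⟨n, by rw [← pow_mul, mul_comm, pow_mul, hn, zero_pow two_ne_zero]⟩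
  obtain ⟨z, hz⟩ := exists_point_lift hG (I ^ 2) hI2 zK
  refine ⟨z * g, ?_, ?_⟩
  · have e1 : toUnit (Over.mk (Spec.map (CommRingCat.ofHom (Ideal.Quotient.mk I))) :
        Over (Spec (CommRingCat.of R))) ≫ z = 1 := by
      have e0 : toUnit (Over.mk (Spec.map (CommRingCat.ofHom (Ideal.Quotient.mk I))) :
          Over (Spec (CommRingCat.of R))) =
          rr (Ideal.pow_le_self two_ne_zero : I ^ 2 ≤ I) ≫ toUnit _ := toUnit_unique _ _
      rw [e0, Category.assoc, hz]
      exact hz1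
    rw [MonObj.comp_mul, e1, _root_.one_mul]
  · intro X p h
    have e1 : toUnit X ≫ z = p ≫ zK := by
      rw [← hz, ← Category.assoc]
      congr 1
      exact toUnit_unique _ _
    rw [MonObj.comp_mul, e1, ← conj_conj, ← comp_conjHom]
    exact hz2 X p h

include hH hG in
/-- conjugacy modulo a nilpotent ideal propagates to conjugacy. -/
theorem conjMod_induction (n : ℕ) : ∀ (I : Ideal R), I ^ n = ⊥ →
    ∀ g : 𝟙_ (Over (Spec (CommRingCat.of R))) ⟶ G, ConjMod H G u v I g →
    ∃ g' : 𝟙_ (Over (Spec (CommRingCat.of R))) ⟶ G,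
      toUnit (Over.mk (Spec.map (CommRingCat.ofHom (Ideal.Quotient.mk I))) :
        Over (Spec (CommRingCat.of R))) ≫ g' = toUnit _ ≫ g ∧
      ∀ (X : Over (Spec (CommRingCat.of R))) (h : X ⟶ H),
        h ≫ v = (toUnit X ≫ g') * (h ≫ u) * (toUnit X ≫ g')⁻¹ := by
  induction n using Nat.strong_induction_on with
  | _ n ih =>
    intro I hIn g hg
    by_cases hn : n ≤ 1
    · have hI : I = ⊥ := by
        interval_cases n
        · rw [pow_zero, Ideal.one_eq_top] at hIn
          rw [eq_bot_iff, ← hIn]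
          exact le_top
        · rwa [pow_one] at hIn
      subst hI
      refine ⟨g, rfl, fun X h => ?_⟩
      obtain ⟨p⟩ := exists_pt_bot X
      exact hg X p h
    · have hInil : IsNilpotent I := ⟨n, by rw [hIn, Ideal.zero_eq_bot]⟩
      obtain ⟨g₁, hg₁1, hg₁2⟩ := conjMod_step H G hH hG u v I hInil g hg
      have hm : (n + 1) / 2 < n := by omega
      have hI2 : (I ^ 2) ^ ((n + 1) / 2) = ⊥ := by
        rw [← pow_mul, eq_bot_iff, ← hIn]
        exact Ideal.pow_le_pow_right (by omega)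
      obtain ⟨g', hg'1, hg'2⟩ := ih _ hm (I ^ 2) hI2 g₁ hg₁2
      refine ⟨g', ?_, hg'2⟩
      rw [← hg₁1]
      have e : toUnit (Over.mk (Spec.map (CommRingCat.ofHom (Ideal.Quotient.mk I))) :
          Over (Spec (CommRingCat.of R))) =
          rr (Ideal.pow_le_self two_ne_zero : I ^ 2 ≤ I) ≫ toUnit _ := toUnit_unique _ _
      rw [e, Category.assoc, Category.assoc, hg'1]

include hH hG in
/-- **conjugacy lifts modulo nilpotent ideals**: if `v` is the conjugate of `u` by a point `g₀`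
modulo a nilpotent ideal, then `g₀` lifts to a point conjugating `u` into `v`. -/
theorem exists_conj_nil (J : Ideal R) (hJ : IsNilpotent J)
    (g₀ : (Over.mk (Spec.map (CommRingCat.ofHom (Ideal.Quotient.mk J))) :
      Over (Spec (CommRingCat.of R))) ⟶ G)
    (h0 : ∀ (X : Over (Spec (CommRingCat.of R)))
      (p : X ⟶ (Over.mk (Spec.map (CommRingCat.ofHom (Ideal.Quotient.mk J))) :
        Over (Spec (CommRingCat.of R)))) (h : X ⟶ H),
      h ≫ v = (p ≫ g₀) * (h ≫ u) * (p ≫ g₀)⁻¹) :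
    ∃ g : 𝟙_ (Over (Spec (CommRingCat.of R))) ⟶ G,
      toUnit (Over.mk (Spec.map (CommRingCat.ofHom (Ideal.Quotient.mk J))) :
        Over (Spec (CommRingCat.of R))) ≫ g = g₀ ∧
      ∀ (X : Over (Spec (CommRingCat.of R))) (h : X ⟶ H),
        h ≫ v = (toUnit X ≫ g) * (h ≫ u) * (toUnit X ≫ g)⁻¹ := by
  obtain ⟨g1, hg1⟩ := exists_point_lift hG J hJ g₀
  have hc : ConjMod H G u v J g1 := by
    intro X p h
    have e : toUnit X ≫ g1 = p ≫ g₀ := by
      rw [← hg1, ← Category.assoc]
      congr 1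
      exact toUnit_unique _ _
    rw [e]
    exact h0 X p h
  obtain ⟨n, hn⟩ := hJ
  obtain ⟨g, hg1', hg2⟩ := conjMod_induction H G hH hG u v n J (by rw [hn, Ideal.zero_eq_bot]) g1 hc
  exact ⟨g, by rw [hg1', hg1], hg2⟩

end Main

end Groth.Agent.Lib.Helper15NilConj
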