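-- helper15: subgroups of multiplicative type of a smooth group conjugate modulo a nilpotent ideal are conjugate by a lift of the conjugating point
import Mathlib
import Groth.Agent.Lib.Helper15NilConjB
import Groth.Agent.Lib.Helper15LiftFamE
set_option autoImplicit false
universe u
open CategoryTheory CategoryTheory.Limits AlgebraicGeometry MonoidalCategory
  CartesianMonoidalCategory MonObj GrpObj

namespace Groth.Agent.Lib.Helper15NilConj

open Groth.Agent.Lib.Helper15Avg Groth.Agent.Lib.Helper15LiftFam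

lemma conj_inv_conj {Γ : Type*} [Group Γ] (a b : Γ) : a * (a⁻¹ * b * a) * a⁻¹ = b := by group

lemma one_conj {Γ : Type*} [Group Γ] (b : Γ) : (1 : Γ) * b * (1 : Γ)⁻¹ = b := by group

section Mono

variable {S : Scheme.{u}} {H G : Over S} [GrpObj H] [GrpObj G]

instance (g : 𝟙_ (Over S) ⟶ G) (u : H ⟶ G) [Mono u] : Mono (conjHom g u) := by
  constructor
  intro Z a b hab
  rw [comp_conjHom, comp_conjHom] at hab
  have h1 := conj_cancel _ _ _ hab
  exact (cancel_mono u).1 h1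

lemma conjHom_mul (g₂ g₁ : 𝟙_ (Over S) ⟶ G) (u : H ⟶ G) :
    conjHom (g₂ * g₁) u = conjHom g₂ (conjHom g₁ u) := by
  have h1 := comp_conjHom (g₂ * g₁) u (𝟙 H)
  have h2 := comp_conjHom g₂ (conjHom g₁ u) (𝟙 H)
  rw [Category.id_comp] at h1 h2
  rw [h1, h2, Category.id_comp, comp_conjHom, Category.id_comp, MonObj.comp_mul, conj_conj]

end Mono

section Main

variable {R : Type u} [CommRing R] (J : Ideal R) (hJ : IsNilpotent J)
  (G H H' : Over (Spec (CommRingCat.of R))) [GrpObj G] [GrpObj H] [GrpObj H']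
  (hG : Smooth G.hom)
  (hH : TwC.Locally (Spec (CommRingCat.of R)) TwC.Topology.fpqc (fun S' f =>
    ∃ (M : Type) (_ : AddCommGroup M), Nonempty (Grp.mk (Red.bc f H) ≅ Grp.mk (Red.DS S' M))))
  (hH' : TwC.Locally (Spec (CommRingCat.of R)) TwC.Topology.fpqc (fun S' f =>
    ∃ (M : Type) (_ : AddCommGroup M), Nonempty (Grp.mk (Red.bc f H') ≅ Grp.mk (Red.DS S' M))))
  (i : H ⟶ G) [IsMonHom i] [Mono i] (i' : H' ⟶ G) [IsMonHom i'] [Mono i']
  (g₀ : (Over.mk (Spec.map (CommRingCat.ofHom (Ideal.Quotient.mk J))) :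
    Over (Spec (CommRingCat.of R))) ⟶ G)
  (h0 : ∀ (X : Over (Spec (CommRingCat.of R)))
    (p : X ⟶ (Over.mk (Spec.map (CommRingCat.ofHom (Ideal.Quotient.mk J))) :
      Over (Spec (CommRingCat.of R)))),
    (∀ h : X ⟶ H, ∃ h' : X ⟶ H', (p ≫ g₀) * (h ≫ i) * (p ≫ g₀)⁻¹ = h' ≫ i') ∧
    (∀ h' : X ⟶ H', ∃ h : X ⟶ H, (p ≫ g₀)⁻¹ * (h' ≫ i') * (p ≫ g₀) = h ≫ i))

include hJ hG hH hH' h0 in
/-- two subgroups of multiplicative type of a smooth group which are conjugate modulo a nilpotent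
ideal by a point `g₀` are conjugate by a lift of `g₀`. -/
theorem exists_conjBy_nil : ∃ g : 𝟙_ (Over (Spec (CommRingCat.of R))) ⟶ G,
    toUnit (Over.mk (Spec.map (CommRingCat.ofHom (Ideal.Quotient.mk J))) :
      Over (Spec (CommRingCat.of R))) ≫ g = g₀ ∧
    ∃ φ : H ≅ H', (toUnit H ≫ g) * i * (toUnit H ≫ g)⁻¹ = φ.hom ≫ i' := by
  obtain ⟨g₁, hg₁⟩ := exists_point_lift hG J hJ g₀
  have hpt : ∀ (X : Over (Spec (CommRingCat.of R)))
      (p : X ⟶ (Over.mk (Spec.map (CommRingCat.ofHom (Ideal.Quotient.mk J))) :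
        Over (Spec (CommRingCat.of R)))), toUnit X ≫ g₁ = p ≫ g₀ := by
    intro X p
    rw [← hg₁, ← Category.assoc]
    congr 1
    exact toUnit_unique _ _
  obtain ⟨ψ, hψm, hψ⟩ := exists_global_lift J hJ G H H' hH hH' (conjHom g₁ i) i' (by
    intro Y p h
    obtain ⟨h', hh'⟩ := (h0 Y p).1 h
    exact ⟨h', by rw [comp_conjHom, hpt Y p, hh']⟩)
  obtain ⟨g₂, hg₂1, hg₂2⟩ := exists_conj_nil H G hH hG (conjHom g₁ i) (ψ ≫ i') J hJ 1 (by
    intro X p h
    rw [MonObj.comp_one, one_conj, ← Category.assoc]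
    exact hψ X p h)
  have hv : ψ ≫ i' = conjHom (g₂ * g₁) i := by
    rw [conjHom_mul]
    have h1 := hg₂2 H (𝟙 H)
    rw [Category.id_comp, Category.id_comp] at h1
    rw [h1]
    rfl
  have hvmono : Mono (ψ ≫ i') := by rw [hv]; infer_instance
  haveI : Mono (ψ ≫ i').left := inferInstance
  have hg0 : toUnit (Over.mk (Spec.map (CommRingCat.ofHom (Ideal.Quotient.mk J))) :
      Over (Spec (CommRingCat.of R))) ≫ (g₂ * g₁) = g₀ := by
    rw [MonObj.comp_mul, hg₂1, hg₁, _root_.one_mul]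
  obtain ⟨ψ'', hψ''⟩ := Groth.Agent.Lib.Helper15HomLift.exists_factor_global J hJ G H' H hH' hH
    i' (ψ ≫ i') (by
      intro Y x h
      rw [← Category.assoc, ← MonObj.mul_comp _ _ i', ← MonObj.mul_comp _ _ i',
        mul_comm_of_multType H' hH' Y (x ≫ ψ) h]) (by
      intro Y p h
      obtain ⟨h', hh'⟩ := (h0 Y p).2 h
      refine ⟨h', ?_⟩
      have e : toUnit Y ≫ (g₂ * g₁) = p ≫ g₀ := by
        rw [← hg0, ← Category.assoc]
        congr 1
        exact toUnit_unique _ _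
      rw [hv, comp_conjHom, e, ← hh', conj_inv_conj])
  refine ⟨g₂ * g₁, hg0, ⟨ψ, ψ'', ?_, ?_⟩, hv.symm⟩
  · rw [← cancel_mono (ψ ≫ i'), Category.assoc, hψ'', Category.id_comp]
  · rw [← cancel_mono i', Category.assoc, hψ'', Category.id_comp]

end Main

end Groth.Agent.Lib.Helper15NilConj
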