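-- helper15: quotient by an open kernel is etale; unit section open immersion => unramified
import Mathlib
import Groth.Prelude.Def_AlgGrp
import Groth.Agent.S0114
import Groth.Agent.Lib.Helper8Grp
import Groth.Agent.Lib.Helper15FixedDesc
import Groth.Agent.Lib.Helper12Flat

set_option autoImplicit false
universe u
open CategoryTheory CategoryTheory.Limits MonoidalCategory CartesianMonoidalCategory MonObj GrpObj AlgebraicGeometry

namespace Groth.Agent.Lib.Helper15OpenKer

variable {S : Scheme.{u}}

instance whiskerLeft_openImm (G X Y : Over S) (f : X ⟶ Y) [IsOpenImmersion f.left] :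
    IsOpenImmersion (G ◁ f).left := by
  rw [Over.whiskerLeft_left]
  exact MorphismProperty.pullbackMap (P := @IsOpenImmersion.{u}) (i₁ := 𝟙 G.left) (i₂ := f.left)
    (inferInstanceAs (IsOpenImmersion (𝟙 G.left))) ‹_› (by simp) (by simp)

open Groth.Agent.Lib.Helper8 in
/-- A group scheme whose unit section is an open immersion is formally unramified. -/
theorem formallyUnramified_of_isOpenImmersion_one (G : Over S) [GrpObj G]
    [IsOpenImmersion η[G].left] : FormallyUnramified G.hom := by
  have : IsOpenImmersion (pullback.diagonal G.hom) := by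
    rw [← diag_left, diag_eq]
    simp only [Over.comp_left]
    have h1 : IsIso (ρ_ G).inv.left := inferInstanceAs (IsIso ((Over.forget S).map (ρ_ G).inv))
    have h2 : IsIso (shearIso G).hom.left :=
      inferInstanceAs (IsIso ((Over.forget S).map (shearIso G).hom))
    have h3 : IsOpenImmersion (G ◁ η[G]).left := inferInstance
    infer_instance
  infer_instance

open Groth.Agent.Lib.Helper12 in
/-- The unit section of the target of an fppf homomorphism with open kernel is an open immersion. -/
theorem isOpenImmersion_one_of_kernel {N G Q : Over S} [GrpObj Q] (i : N ⟶ G)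
    [IsOpenImmersion i.left] (p : G ⟶ Q) [Surjective p.left] [Flat p.left]
    [LocallyOfFinitePresentation p.left] (hK : AlgGrp.IsKernel i p) :
    IsOpenImmersion η[Q].left := by
  have hK' : IsPullback i.left (toUnit N).left p.left η[Q].left := hK.map (Over.forget S)
  refine of_mem_fpqcPrecoverage (P := @IsOpenImmersion) inferInstance η[Q].left
    (Presieve.singleton p.left) (Groth.Agent.Lib.Helper15.FixedDesc.singleton_mem_fpqc p.left) ?_
  rintro Y' _ ⟨⟩
  have h1 : pullback.snd η[Q].left p.left = hK'.flip.isoPullback.inv ≫ i.left :=
    (hK'.flip.isoPullback_inv_snd).symm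
  rw [h1]
  infer_instance

/-- The quotient by an open normal subgroup is etale. -/
theorem etale_of_open_kernel {N G Q : Over S} [GrpObj Q] (i : N ⟶ G)
    [IsOpenImmersion i.left] (p : G ⟶ Q) [Surjective p.left] [Flat p.left]
    [LocallyOfFinitePresentation p.left] (hK : AlgGrp.IsKernel i p)
    [Flat G.hom] [LocallyOfFinitePresentation G.hom] : Etale Q.hom := by
  have hw : p.left ≫ Q.hom = G.hom := Over.w p
  have := isOpenImmersion_one_of_kernel i p hK
  have h1 : FormallyUnramified Q.hom := formallyUnramified_of_isOpenImmersion_one Q
  have h2 : Flat Q.hom := by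
    have : Flat (p.left ≫ Q.hom) := by rw [hw]; infer_instance
    exact Groth.Agent.Lib.Helper12.flat_of_comp_of_flat_of_surjective p.left Q.hom
  have h3 : LocallyOfFinitePresentation Q.hom := by
    have : LocallyOfFinitePresentation (p.left ≫ Q.hom) := by rw [hw]; infer_instance
    exact Groth.Agent.S0114.result p.left Q.hom
  exact Etale.iff_flat_and_formallyUnramified.2 ⟨h2, h1, h3⟩

end Groth.Agent.Lib.Helper15OpenKer
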