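-- helper15: the functor C/X -> C/Y over C induced by a morphism is a representable 1-morphism (terminal object criterion).
import Mathlib
import Groth.Prelude.Def_FibCat2
import Groth.Agent.Lib.Helper17FibRepr2
import Groth.Agent.Lib.Helper17FibFp
import Groth.Agent.Lib.Helper17FibOver

set_option autoImplicit false
open CategoryTheory CategoryTheory.Limits CategoryTheory.Functor
universe v u

namespace Groth.Agent.Lib.Helper15OverMapRep

open Groth.Agent.Lib.Helper17

variable {C : Type u} [Category.{v} C]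

section Left

variable {U Y : C} (G : FibCat.overCat U ⥤ᵇ FibCat.overCat Y)

theorem left_obj (a : Over U) : (G.obj a).left = a.left := G.w_obj a

theorem left_map {a a' : Over U} (m : a ⟶ a') :
    (G.map m).left = eqToHom (left_obj G a) ≫ m.left ≫ eqToHom (left_obj G a').symm := by
  have h := Functor.congr_hom G.w m
  exact h

end Left

section Main

variable {U X Y : C} (f : X ⟶ Y) (G : FibCat.overCat U ⥤ᵇ FibCat.overCat Y)

/-- the functor `C/X ⟶ C/Y` over `C`. -/
abbrev ovMap : FibCat.overCat X ⥤ᵇ FibCat.overCat Y := ⟨Over.map f, Over.mapForget_eq f⟩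

/-- the morphism `U ⟶ Y` attached to `G`. -/
noncomputable def gHom : U ⟶ Y :=
  eqToHom (left_obj G (Over.mk (𝟙 U))).symm ≫ (G.obj (Over.mk (𝟙 U))).hom

theorem obj_hom (a : Over U) :
    (G.obj a).hom = eqToHom (left_obj G a) ≫ a.hom ≫ gHom G := by
  have h1 := Over.w (G.map (Over.homMk a.hom (by simp) : a ⟶ Over.mk (𝟙 U)))
  rw [left_map] at h1
  rw [← h1]
  simp [gHom]

theorem isRepresentable_fp [HasPullbacks C] : FibCat.IsRepresentable (FibCat.fp G (ovMap f)) := by
  have hU : FibCat.IsFibGrpd (FibCat.overCat U).p := (isFibSet_overForget U).1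
  have hX : FibCat.IsFibGrpd (FibCat.overCat X).p := (isFibSet_overForget X).1
  have hY : FibCat.IsFibGrpd (FibCat.overCat Y).p := (isFibSet_overForget Y).1
  have hfp := isFibGrpd_fp G (ovMap f) hU hX hY
  have : (FibCat.fp G (ovMap f)).p.IsFibered := IsFibGrpd.isFibered hfp
  rw [isRepresentable_iff]
  refine ⟨hfp, ?_⟩
  let g := gHom G
  let aξ : Over U := Over.mk (pullback.fst g f)
  let bξ : Over X := Over.mk (pullback.snd g f)
  have hw : eqToHom (left_obj G aξ) ≫ ((Over.map f).obj bξ).hom = (G.obj aξ).hom := by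
    rw [obj_hom]
    change _ ≫ pullback.snd g f ≫ f = _ ≫ pullback.fst g f ≫ g
    rw [pullback.condition]
  let ιξ : G.obj aξ ≅ (Over.map f).obj bξ := Over.isoMk (eqToIso (left_obj G aξ)) hw
  have hξ : (FibCat.overCat Y).p.IsHomLift (𝟙 ((FibCat.overCat U).p.obj aξ)) ιξ.hom := by
    apply IsHomLift.of_fac' (Over.forget Y) _ _ (left_obj G aξ) rfl
    change eqToHom (left_obj G aξ) = eqToHom (left_obj G aξ) ≫ 𝟙 _ ≫ eqToHom rfl
    simp
  let ξ : (FibCat.fp G (ovMap f)).obj := ⟨⟨aξ, bξ, ιξ⟩, hξ⟩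
  refine ⟨ξ, fun ρ => ?_⟩
  obtain ⟨⟨a, b, ι⟩, hρ⟩ := ρ
  -- the map to the pullback
  have hι : ι.hom.left ≫ b.hom ≫ f = eqToHom (left_obj G a) ≫ a.hom ≫ g := by
    have h1 : ι.hom.left ≫ (b.hom ≫ f) = (G.obj a).hom := Over.w ι.hom
    rw [h1, obj_hom G a]
  have hcond : a.hom ≫ g = (eqToHom (left_obj G a).symm ≫ ι.hom.left ≫ b.hom) ≫ f := by
    rw [Category.assoc, Category.assoc, hι]
    simp
  let t : a.left ⟶ pullback g f :=
    pullback.lift a.hom (eqToHom (left_obj G a).symm ≫ ι.hom.left ≫ b.hom) hcond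
  have ht1 : t ≫ pullback.fst g f = a.hom := pullback.lift_fst _ _ _
  have ht2 : t ≫ pullback.snd g f = eqToHom (left_obj G a).symm ≫ ι.hom.left ≫ b.hom :=
    pullback.lift_snd _ _ _
  have hinv : ι.inv.left ≫ ι.hom.left = 𝟙 _ :=
    congrArg (fun m : (Over.map f).obj b ⟶ (Over.map f).obj b => m.left) ι.inv_hom_id
  have hinv' : ι.hom.left ≫ ι.inv.left = 𝟙 _ :=
    congrArg (fun m : G.obj a ⟶ G.obj a => m.left) ι.hom_inv_id
  let m₁ : a ⟶ aξ := Over.homMk t ht1
  let m₂ : b ⟶ bξ := Over.homMk (ι.inv.left ≫ eqToHom (left_obj G a) ≫ t) (by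
    change (ι.inv.left ≫ eqToHom (left_obj G a) ≫ t) ≫ pullback.snd g f = b.hom
    rw [Category.assoc, Category.assoc, ht2, eqToHom_trans_assoc, eqToHom_refl, Category.id_comp,
      ← Category.assoc, hinv, Category.id_comp])
  have hwm : G.map m₁ ≫ ιξ.hom = ι.hom ≫ (Over.map f).map m₂ := by
    apply Over.OverMorphism.ext
    change (G.map m₁).left ≫ eqToHom (left_obj G aξ) =
      ι.hom.left ≫ ι.inv.left ≫ eqToHom (left_obj G a) ≫ t
    rw [left_map, ← Category.assoc ι.hom.left, hinv', Category.id_comp]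
    simp [m₁]
  let m : (⟨⟨a, b, ι⟩, hρ⟩ : (FibCat.fp G (ovMap f)).obj) ⟶ ξ :=
    ObjectProperty.homMk ⟨m₁, m₂, hwm⟩
  refine ⟨{ default := m, uniq := ?_ }⟩
  intro n
  have hn : G.map n.hom.fst ≫ ιξ.hom = ι.hom ≫ (Over.map f).map n.hom.snd := n.hom.w
  have hn' : eqToHom (left_obj G a) ≫ n.hom.fst.left = ι.hom.left ≫ n.hom.snd.left := by
    have h1 := congrArg (fun k : G.obj a ⟶ (Over.map f).obj bξ => k.left) hn
    change (G.map n.hom.fst).left ≫ eqToHom (left_obj G aξ) = ι.hom.left ≫ n.hom.snd.left at h1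
    rw [left_map] at h1
    simpa using h1
  have hn1 : n.hom.fst.left ≫ pullback.fst g f = a.hom := Over.w n.hom.fst
  have hn2 : n.hom.snd.left ≫ pullback.snd g f = b.hom := Over.w n.hom.snd
  have e1 : n.hom.fst.left = t := by
    apply pullback.hom_ext
    · rw [hn1, ht1]
    · rw [ht2, ← hn2, ← Category.assoc ι.hom.left, ← hn']
      simp
  have e2 : n.hom.snd.left = ι.inv.left ≫ eqToHom (left_obj G a) ≫ t := by
    rw [← e1, hn', ← Category.assoc, hinv, Category.id_comp]
  apply ObjectProperty.hom_ext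
  apply CategoricalPullback.hom_ext
  · apply Over.OverMorphism.ext
    exact e1
  · apply Over.OverMorphism.ext
    exact e2

/-- the functor `C/X ⟶ C/Y` is a representable 1-morphism. -/
theorem isRepresentable1_ovMap [HasPullbacks C] : FibCat.IsRepresentable1 (ovMap f) :=
  fun _ G => isRepresentable_fp f G

end Main

end Groth.Agent.Lib.Helper15OverMapRep
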