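-- helper15: the largest open where a group hom has P (flat+lfp / smooth / etale) is an open subgroup (core)
import Mathlib
import Groth.Agent.S5311
import Groth.Agent.S0114
import Groth.Agent.Lib.Helper12Flat
import Groth.Agent.Lib.Helper15PLocSq

set_option autoImplicit false
universe u
open CategoryTheory CategoryTheory.Limits MonoidalCategory CartesianMonoidalCategory MonObj GrpObj AlgebraicGeometry

namespace Groth.Agent.Lib.Helper15PLocGrp

open Groth.Agent.S5311 (isPullback_whiskerRight' isIso_rightTranslate)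

theorem core (S : Scheme.{u}) (G H : Over S) [GrpObj G] [GrpObj H]
    (u : G ⟶ H) [IsMonHom u]
    (hfl : Flat G.hom ∨ Flat H.hom)
    (hfp : LocallyOfFinitePresentation G.hom ∨ LocallyOfFinitePresentation H.hom)
    (P : MorphismProperty Scheme.{u}) [P.RespectsIso] [P.IsStableUnderBaseChange]
    (hP0 : ∀ {X Y : Scheme.{u}} (f : X ⟶ Y), P f → Flat f ∧ LocallyOfFinitePresentation f)
    (hPdesc : ∀ {X Y Y' Ω : Scheme.{u}} (f : X ⟶ Y) (g : Y' ⟶ Y) (a : Ω ⟶ Y') (b : Ω ⟶ X)
      (h : b ≫ f = a ≫ g), Flat f → LocallyOfFinitePresentation f → Flat g →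
      IsOpenImmersion (pullback.lift b a h) → Surjective b → P a → P f)
    (V : G.left.Opens) (hV : P (V.ι ≫ u.left))
    (hmax : ∀ W : G.left.Opens, P (W.ι ≫ u.left) → W ≤ V) :
    IsOpen (G.hom.base '' (V : Set G.left)) ∧
    (∀ g ∈ V, ∀ p : ↥(𝟙_ (Over S)).left, (𝟙_ (Over S)).hom.base p = G.hom.base g →
      η[G].left.base p ∈ V) ∧
    (∀ g ∈ V, ι[G].left.base g ∈ V) ∧
    (∀ z : ↥(G ⊗ G).left, (fst G G).left.base z ∈ V → (snd G G).left.base z ∈ V →
      μ[G].left.base z ∈ V) := by
  obtain ⟨hVfl, hVfp⟩ := hP0 _ hV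
  have hVSfl : Flat (V.ι ≫ G.hom) := by
    rcases hfl with h | h
    · infer_instance
    · rw [← Over.w u, ← Category.assoc]
      infer_instance
  have hVSfp : LocallyOfFinitePresentation (V.ι ≫ G.hom) := by
    rcases hfp with h | h
    · infer_instance
    · rw [← Over.w u, ← Category.assoc]
      infer_instance
  let VO : Over S := Over.mk (V.ι ≫ G.hom)
  let ιV : VO ⟶ G := Over.homMk V.ι rfl
  have hιV : ιV.left = V.ι := rfl
  have : Flat VO.hom := hVSfl
  have : LocallyOfFinitePresentation VO.hom := hVSfp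
  have hVSo : UniversallyOpen (V.ι ≫ G.hom) := inferInstance
  -- the inverse
  have hinv : ∀ g : G.left, ι[G].left.base g ∈ V → g ∈ V := by
    intro g hg
    let W' : G.left.Opens := ι[G].left ⁻¹ᵁ V
    have hW' : P (W'.ι ≫ u.left) := by
      have e1 : W'.ι ≫ u.left = (ι[G].left ∣_ V) ≫ (V.ι ≫ u.left) ≫ ι[H].left := by
        rw [← Category.assoc, ← Category.assoc, morphismRestrict_ι, Category.assoc, Category.assoc,
          ← Over.comp_left, ← Over.comp_left, ← GrpObj.inv_hom, ← Category.assoc,
          GrpObj.inv_comp_inv, Category.id_comp]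
      rw [e1]
      have : IsIso ι[G].left :=
        ⟨ι[G].left, by rw [← Over.comp_left, GrpObj.inv_comp_inv]; rfl,
          by rw [← Over.comp_left, GrpObj.inv_comp_inv]; rfl⟩
      have : IsIso ι[H].left :=
        ⟨ι[H].left, by rw [← Over.comp_left, GrpObj.inv_comp_inv]; rfl,
          by rw [← Over.comp_left, GrpObj.inv_comp_inv]; rfl⟩
      rw [P.cancel_left_of_respectsIso, P.cancel_right_of_respectsIso]
      exact hV
    exact hmax W' hW' hg
  -- the product
  have hmul : ∀ z : ↥(G ⊗ G).left, (fst G G).left.base z ∈ V → (snd G G).left.base z ∈ V →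
      μ[G].left.base z ∈ V := by
    intro z hz1 hz2
    let m : VO ⊗ VO ⟶ G := (ιV ⊗ₘ ιV) ≫ μ[G]
    let r : G ⊗ VO ⟶ G ⊗ VO := lift (fst G VO * (snd G VO ≫ ιV)) (snd G VO)
    let rH : H ⊗ VO ⟶ H ⊗ VO := lift (fst H VO * (snd H VO ≫ ιV ≫ u)) (snd H VO)
    have : IsIso r.left := isIso_rightTranslate G ιV
    have : IsIso rH.left := isIso_rightTranslate H (ιV ≫ u)
    have hm : m = (ιV ▷ VO) ≫ r ≫ fst G VO := by
      simp only [m, r]
      rw [lift_fst, MonObj.comp_mul, whiskerRight_fst, ← Category.assoc, whiskerRight_snd,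
        MonObj.mul_eq_mul G, MonObj.comp_mul, tensorHom_fst, tensorHom_snd]
    have hmu : m ≫ u = ((ιV ≫ u) ▷ VO) ≫ rH ≫ fst H VO := by
      simp only [m, rH]
      rw [lift_fst, MonObj.comp_mul, whiskerRight_fst, ← Category.assoc ((ιV ≫ u) ▷ VO),
        whiskerRight_snd, Category.assoc, IsMonHom.mul_hom, ← Category.assoc,
        tensorHom_comp_tensorHom, MonObj.mul_eq_mul H, MonObj.comp_mul, tensorHom_fst,
        tensorHom_snd]
    have hru : r ≫ (u ▷ VO) = (u ▷ VO) ≫ rH := by
      apply CartesianMonoidalCategory.hom_ext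
      · simp only [r, rH, Category.assoc, lift_fst, whiskerRight_fst]
        rw [← Category.assoc, lift_fst, MonObj.mul_comp, MonObj.comp_mul, whiskerRight_fst,
          ← Category.assoc (u ▷ VO), whiskerRight_snd, Category.assoc]
      · simp [r, rH]
    have hjV : IsOpenImmersion (ιV ▷ VO).left :=
      MorphismProperty.of_isPullback (P := @IsOpenImmersion) (isPullback_whiskerRight' ιV VO)
        (inferInstanceAs (IsOpenImmersion V.ι))
    have : Flat (fst G VO).left := by rw [Over.fst_left]; infer_instance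
    have : Flat (fst H VO).left := by rw [Over.fst_left]; infer_instance
    have : LocallyOfFinitePresentation (fst G VO).left := by rw [Over.fst_left]; infer_instance
    have : LocallyOfFinitePresentation (fst H VO).left := by rw [Over.fst_left]; infer_instance
    have hmfl : Flat m.left := by
      rw [hm, Over.comp_left, Over.comp_left]; infer_instance
    have hmfp : LocallyOfFinitePresentation m.left := by
      rw [hm, Over.comp_left, Over.comp_left]; infer_instance
    have hmopen : IsOpenMap m.left := m.left.isOpenMap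
    -- the map `a`
    have haP : P (((ιV ≫ u) ▷ VO).left ≫ rH.left) := by
      rw [P.cancel_right_of_respectsIso]
      exact MorphismProperty.of_isPullback (P := P) (isPullback_whiskerRight' (ιV ≫ u) VO)
        (by rw [Over.comp_left]; exact hV)
    obtain ⟨hafl, hafp⟩ := hP0 _ haP
    have hmu' : m.left ≫ u.left = (((ιV ≫ u) ▷ VO).left ≫ rH.left) ≫ (fst H VO).left := by
      rw [← Over.comp_left, hmu, Over.comp_left, Over.comp_left, Category.assoc]
    have hmufl : Flat (m.left ≫ u.left) := by rw [hmu']; infer_instance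
    have hmufp : LocallyOfFinitePresentation (m.left ≫ u.left) := by rw [hmu']; infer_instance
    let W : G.left.Opens := ⟨Set.range m.left, hmopen.isOpen_range⟩
    let m' : (VO ⊗ VO).left ⟶ W := IsOpenImmersion.lift W.ι m.left (by simp [W])
    have hfac : m' ≫ W.ι = m.left := IsOpenImmersion.lift_fac _ _ _
    have : Surjective m' := ⟨fun ⟨x, ⟨y, hy⟩⟩ ↦
      ⟨y, by apply W.ι.injective; simp [← Scheme.Hom.comp_apply, m', hy]⟩⟩
    have : Flat m' := MorphismProperty.of_postcomp (W := @Flat) (W' := @IsOpenImmersion) m' W.ι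
      inferInstance (by rw [hfac]; exact hmfl)
    have : LocallyOfFinitePresentation m' := MorphismProperty.of_postcomp
      (W := @LocallyOfFinitePresentation) (W' := @IsOpenImmersion) m' W.ι
      inferInstance (by rw [hfac]; exact hmfp)
    have : Flat (m' ≫ W.ι ≫ u.left) := by rw [← Category.assoc, hfac]; exact hmufl
    have : LocallyOfFinitePresentation (m' ≫ W.ι ≫ u.left) := by
      rw [← Category.assoc, hfac]; exact hmufp
    have hWfl : Flat (W.ι ≫ u.left) :=
      Groth.Agent.Lib.Helper12.flat_of_comp_of_flat_of_surjective m' (W.ι ≫ u.left)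
    have hWfp : LocallyOfFinitePresentation (W.ι ≫ u.left) :=
      Groth.Agent.S0114.result m' (W.ι ≫ u.left)
    -- the square
    have hsq : m' ≫ (W.ι ≫ u.left) = (((ιV ≫ u) ▷ VO).left ≫ rH.left) ≫ (fst H VO).left := by
      rw [← Category.assoc, hfac, hmu']
    have sq := isPullback_whiskerRight' u VO
    let c : pullback (W.ι ≫ u.left) (fst H VO).left ⟶ (G ⊗ VO).left :=
      sq.lift (pullback.fst _ _ ≫ W.ι) (pullback.snd _ _)
        (by rw [Category.assoc]; exact pullback.condition)
    have hc1 : c ≫ (fst G VO).left = pullback.fst _ _ ≫ W.ι := sq.lift_fst _ _ _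
    have hc2 : c ≫ (u ▷ VO).left = pullback.snd _ _ := sq.lift_snd _ _ _
    have hcpb : IsPullback c (pullback.fst (W.ι ≫ u.left) (fst H VO).left)
        (fst G VO).left W.ι := by
      refine IsPullback.of_right ?_ hc1 sq.flip
      rw [hc2]
      exact (IsPullback.of_hasPullback _ _).flip
    have hco : IsOpenImmersion c :=
      MorphismProperty.of_isPullback (P := @IsOpenImmersion) hcpb.flip inferInstance
    have hjc : pullback.lift m' (((ιV ≫ u) ▷ VO).left ≫ rH.left) hsq ≫ c =
        (ιV ▷ VO).left ≫ r.left := by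
      apply sq.hom_ext
      · rw [Category.assoc, hc1, pullback.lift_fst_assoc, hfac, hm, Over.comp_left, Over.comp_left,
          Category.assoc]
      · rw [Category.assoc, hc2, pullback.lift_snd, Category.assoc]
        have hcomp : (ιV ▷ VO) ≫ r ≫ (u ▷ VO) = ((ιV ≫ u) ▷ VO) ≫ rH := by
          rw [hru, ← Category.assoc, ← comp_whiskerRight]
        have := congrArg (fun t => t.left) hcomp
        simp only [Over.comp_left] at this
        exact this.symm
    have hjo : IsOpenImmersion (pullback.lift m' (((ιV ≫ u) ▷ VO).left ≫ rH.left) hsq) := by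
      have : IsOpenImmersion (pullback.lift m' (((ιV ≫ u) ▷ VO).left ≫ rH.left) hsq ≫ c) := by
        rw [hjc]; infer_instance
      exact IsOpenImmersion.of_comp _ c
    have hW : P (W.ι ≫ u.left) :=
      hPdesc (W.ι ≫ u.left) (fst H VO).left (((ιV ≫ u) ▷ VO).left ≫ rH.left) m' hsq hWfl hWfp
        inferInstance hjo inferInstance haP
    have hWV := hmax W hW
    obtain ⟨w, hw⟩ := Groth.Agent.Lib.Helper11SchImage.exists_tensor_preimage ιV ιV z
      ⟨_, hz1⟩ ⟨_, hz2⟩ rfl rfl
    apply hWV
    refine ⟨w, ?_⟩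
    simp only [m]
    rw [Over.comp_left, Scheme.Hom.comp_apply, hw]
  refine ⟨?_, ?_, fun g hg => ?_, hmul⟩
  · have : G.hom.base '' (V : Set G.left) = Set.range (V.ι ≫ G.hom) := by
      ext s
      constructor
      · rintro ⟨g, hg, rfl⟩
        exact ⟨⟨g, hg⟩, rfl⟩
      · rintro ⟨⟨g, hg⟩, rfl⟩
        exact ⟨g, hg, rfl⟩
    rw [this]
    exact (V.ι ≫ G.hom).isOpenMap.isOpen_range
  · intro g hg p hp
    have hg' : ι[G].left.base g ∈ V := hinv _ (by
      rw [← Scheme.Hom.comp_apply, ← Over.comp_left, GrpObj.inv_comp_inv]; exact hg)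
    have h1 := hmul ((lift (𝟙 G) ι[G]).left g)
      (by rw [← Scheme.Hom.comp_apply, ← Over.comp_left, lift_fst]; exact hg)
      (by rw [← Scheme.Hom.comp_apply, ← Over.comp_left, lift_snd]; exact hg')
    rw [← Scheme.Hom.comp_apply, ← Over.comp_left, GrpObj.right_inv, Over.comp_left,
      Scheme.Hom.comp_apply] at h1
    have e0 : (𝟙_ (Over S)).hom = 𝟙 _ := rfl
    have e1 : (toUnit G).left g = p := by
      have h2 := Over.w (toUnit G)
      rw [e0, Category.comp_id] at h2
      rw [e0] at hp
      rw [h2]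
      exact hp.symm
    rw [e1] at h1
    exact h1
  · exact hinv _ (by
      rw [← Scheme.Hom.comp_apply, ← Over.comp_left, GrpObj.inv_comp_inv]; exact hg)

end Groth.Agent.Lib.Helper15PLocGrp
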