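-- helper15: Noetherian and quasi-sober properties of the space of points of a locally Noetherian algebraic stack.
import Mathlib
import Groth.Agent.Lib.Helper15PtsQc

set_option autoImplicit false
set_option backward.isDefEq.respectTransparency false
set_option backward.isDefEq.respectTransparency.types false
open CategoryTheory CategoryTheory.Functor CategoryTheory.Limits Opposite AlgebraicGeometry

universe u

namespace Groth.Agent.Lib.Helper15PtsNoeth

open Groth.Agent.Lib.Helper17 Groth.Agent.Lib.Helper15PtsComp Groth.Agent.Lib.Helper15PtsTop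
  Groth.Agent.Lib.Helper15PtsQc

section Topology

theorem quasiSober_of_surjective {X Y : Type*} [TopologicalSpace X] [TopologicalSpace Y]
    [TopologicalSpace.NoetherianSpace X] [QuasiSober X] (f : X → Y) (hf : Continuous f)
    (hs : Function.Surjective f) : QuasiSober Y := by
  constructor
  intro Z hZirr hZcl
  obtain ⟨T, hTfin, hTcl, hTirr, hTeq⟩ :=
    TopologicalSpace.NoetherianSpace.exists_finite_set_isClosed_irreducible (hZcl.preimage hf)
  let T' : Finset (Set Y) := (hTfin.toFinset).image (fun t => closure (f '' t))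
  have hcov : Z ⊆ ⋃₀ (T' : Set (Set Y)) := by
    intro z hz
    obtain ⟨x, rfl⟩ := hs z
    have hx : x ∈ f ⁻¹' Z := hz
    rw [hTeq] at hx
    obtain ⟨t, htT, hxt⟩ := hx
    refine ⟨closure (f '' t), ?_, subset_closure ⟨x, hxt, rfl⟩⟩
    simp only [T', Finset.coe_image, Set.Finite.coe_toFinset, Set.mem_image]
    exact ⟨t, htT, rfl⟩
  obtain ⟨z, hzT', hZz⟩ := (isIrreducible_iff_sUnion_isClosed.1 hZirr) T' (by
    intro z hz
    simp only [T', Finset.mem_image, Set.Finite.mem_toFinset] at hz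
    obtain ⟨t, _, rfl⟩ := hz
    exact isClosed_closure) hcov
  simp only [T', Finset.mem_image, Set.Finite.mem_toFinset] at hzT'
  obtain ⟨t, htT, rfl⟩ := hzT'
  obtain ⟨ξ, hξ⟩ := QuasiSober.sober (hTirr t htT) (hTcl t htT)
  refine ⟨f ξ, ?_⟩
  apply le_antisymm
  · apply hZcl.closure_subset_iff.2
    have h1 : ξ ∈ t := hξ.mem
    have h2 : ξ ∈ f ⁻¹' Z := by
      rw [hTeq]
      exact ⟨t, htT, h1⟩
    simpa using h2
  · refine hZz.trans ?_
    apply closure_minimal _ isClosed_closure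
    rw [← hξ.def]
    refine (image_closure_subset_closure_image hf).trans ?_
    simp

end Topology

section Stacks

open TopologicalSpace

variable {S : Scheme.{u}} {𝒳 : AlgSt.Cat S}

theorem points_noetherianSpace (h𝒳 : AlgSt.IsAlgStack Scheme.fppfPrecoverage 𝒳)
    (hqc : AlgSt.IsQuasiCompact 𝒳)
    (hN : AlgSt.SmoothLocally (fun T ↦ IsLocallyNoetherian T) 𝒳) :
    NoetherianSpace (AlgSt.Points 𝒳) := by
  obtain ⟨U, x, hU, hx₁, hx₂⟩ := hqc
  have hUN : IsLocallyNoetherian U.left := hN U x hx₁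
  have : IsNoetherian U.left := {}
  exact noetherianSpace_of_surjective _ (continuous_ofChart h𝒳 x) (surjective_ofChart h𝒳 x hx₂)

/-- The image of an affine open of a locally Noetherian smooth chart. -/
theorem noetherianSpace_image_affineOpen (h𝒳 : AlgSt.IsAlgStack Scheme.fppfPrecoverage 𝒳)
    {V₀ : Over S} (y₀ : FibCat.overCat V₀ ⥤ᵇ 𝒳) (hV₀ : IsLocallyNoetherian V₀.left)
    (A : V₀.left.Opens) (hA : IsAffineOpen A) :
    NoetherianSpace ↥(AlgSt.Points.ofChart y₀ '' (A : Set ↥V₀.left)) := by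
  have : IsNoetherianRing Γ(V₀.left, A) := IsLocallyNoetherian.component_noetherian ⟨A, hA⟩
  have hAN : NoetherianSpace A := noetherianSpace_of_isAffineOpen A hA
  rw [noetherianSpace_set_iff]
  intro t ht
  have h1 : t = AlgSt.Points.ofChart y₀ '' ((A : Set ↥V₀.left) ∩ AlgSt.Points.ofChart y₀ ⁻¹' t) := by
    ext z
    constructor
    · intro hz
      obtain ⟨a, ha, rfl⟩ := ht hz
      exact ⟨a, ⟨ha, hz⟩, rfl⟩
    · rintro ⟨a, ⟨-, ha⟩, rfl⟩
      exact ha
  rw [h1]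
  exact (((noetherianSpace_set_iff (A : Set ↥V₀.left)).1 hAN) _ Set.inter_subset_left).image
    (continuous_ofChart h𝒳 y₀)

theorem points_locallyNoetherianSpace (h𝒳 : AlgSt.IsAlgStack Scheme.fppfPrecoverage 𝒳)
    (hN : AlgSt.SmoothLocally (fun T ↦ IsLocallyNoetherian T) 𝒳) (η : AlgSt.Points 𝒳) :
    ∃ U : Set (AlgSt.Points 𝒳), IsOpen U ∧ η ∈ U ∧ NoetherianSpace U := by
  obtain ⟨V₀, y₀, hy₀s, hy₀surj⟩ := h𝒳.atlas
  have hV₀ : IsLocallyNoetherian V₀.left := hN V₀ y₀ hy₀s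
  obtain ⟨v, rfl⟩ := surjective_ofChart h𝒳 y₀ hy₀surj η
  obtain ⟨A, hAaff, hvA, -⟩ :=
    Opens.isBasis_iff_nbhd.mp (V₀.left.isBasis_affineOpens)
      (show v ∈ (⊤ : Opens ↥V₀.left) from trivial)
  exact ⟨AlgSt.Points.ofChart y₀ '' A,
    isOpenMap_ofChart h𝒳 y₀ (flat_of_smooth hy₀s) (lfp_of_smooth hy₀s) _ A.2, ⟨v, hvA, rfl⟩,
    noetherianSpace_image_affineOpen h𝒳 y₀ hV₀ A hAaff⟩

theorem points_quasiSober (h𝒳 : AlgSt.IsAlgStack Scheme.fppfPrecoverage 𝒳)
    (hN : AlgSt.SmoothLocally (fun T ↦ IsLocallyNoetherian T) 𝒳) :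
    QuasiSober (AlgSt.Points 𝒳) := by
  obtain ⟨V₀, y₀, hy₀s, hy₀surj⟩ := h𝒳.atlas
  have hV₀ : IsLocallyNoetherian V₀.left := hN V₀ y₀ hy₀s
  have hsurj := surjective_ofChart h𝒳 y₀ hy₀surj
  have hopen := isOpenMap_ofChart h𝒳 y₀ (flat_of_smooth hy₀s) (lfp_of_smooth hy₀s)
  have hcont := continuous_ofChart h𝒳 y₀
  let 𝒮 : Set (Set (AlgSt.Points 𝒳)) :=
    {s | ∃ A : V₀.left.Opens, IsAffineOpen A ∧ s = AlgSt.Points.ofChart y₀ '' (A : Set ↥V₀.left)}
  have h1 : ∀ s : 𝒮, IsOpen (s : Set (AlgSt.Points 𝒳)) := by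
    rintro ⟨s, A, hA, rfl⟩
    exact hopen _ A.2
  have h2 : ∀ s : 𝒮, QuasiSober s := by
    rintro ⟨s, A, hA, rfl⟩
    have : IsNoetherianRing Γ(V₀.left, A) := IsLocallyNoetherian.component_noetherian ⟨A, hA⟩
    have hAN : NoetherianSpace ↥(A : Set ↥V₀.left) := noetherianSpace_of_isAffineOpen A hA
    have hAQ : QuasiSober ↥(A : Set ↥V₀.left) := A.2.isOpenEmbedding_subtypeVal.quasiSober
    exact quasiSober_of_surjective
      ((Set.mapsTo_image (AlgSt.Points.ofChart y₀) (A : Set ↥V₀.left)).restrict _ _ _)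
      (hcont.restrict _) (Set.surjective_mapsTo_image_restrict _ _)
  refine quasiSober_of_open_cover 𝒮 h1 ?_
  rw [Set.top_eq_univ, Set.eq_univ_iff_forall]
  intro η
  obtain ⟨v, rfl⟩ := hsurj η
  obtain ⟨A, hAaff, hvA, -⟩ :=
    Opens.isBasis_iff_nbhd.mp (V₀.left.isBasis_affineOpens)
      (show v ∈ (⊤ : Opens ↥V₀.left) from trivial)
  exact ⟨_, ⟨A, hAaff, rfl⟩, ⟨v, hvA, rfl⟩⟩

end Stacks

end Groth.Agent.Lib.Helper15PtsNoeth
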