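-- helper15: a quasi-compact flat surjective monomorphism of algebraic spaces is an isomorphism.
import Mathlib
import Groth.Agent.Lib.Helper15SmoothLocus
import Groth.Agent.S10532
import Groth.Agent.S9874

set_option autoImplicit false
set_option backward.isDefEq.respectTransparency false
set_option backward.isDefEq.respectTransparency.types false
open CategoryTheory CategoryTheory.Functor CategoryTheory.Limits Opposite AlgebraicGeometry

universe u

namespace Groth.Agent.Lib.Helper15QcFlatMono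

open Groth.Agent.Lib.Helper17 Groth.Agent.Lib.Helper15PshFib Groth.Agent.Lib.Helper15RepComp
  Groth.Agent.Lib.Helper15RepPsh Groth.Agent.Lib.Helper15DiagBase Groth.Agent.Lib.Helper15DiagRepSp
  Groth.Agent.Lib.Helper15Descent Groth.Agent.Lib.Helper15DiagLft
  Groth.Agent.Lib.Helper15DiagDescent Groth.Agent.Lib.Helper15SpMapRep
  Groth.Agent.Lib.Helper15SrcCancel Groth.Agent.Lib.Helper15ChartSp Groth.Agent.Lib.Helper15Atlas
  Groth.Agent.Lib.Helper15LocEss Groth.Agent.Lib.Helper15UnivComp Groth.Agent.Lib.Helper15SmLoc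
  Groth.Agent.Lib.Helper15PtsComp Groth.Agent.Lib.Helper15PtsTop Groth.Agent.Lib.Helper15PtsQc
  Groth.Agent.Lib.Helper15FpSwap Groth.Agent.Lib.Helper15QcLocal Groth.Agent.Lib.Helper15ClosedQc
  Groth.Agent.Lib.Helper15UnivPts Groth.Agent.Lib.Helper15BaseChange
  Groth.Agent.Lib.Helper15BaseChange2
  Groth.Agent.Lib.Helper15MonoSep Groth.Agent.Lib.Helper15LocQ Groth.Agent.Lib.Helper15LocQEngine
  Groth.Agent.Lib.Helper15LocQProps Groth.Agent.Lib.Helper15LocQSpace
  Groth.Agent.Lib.Helper15LocQSpace2 Groth.Agent.Lib.Helper15LocQRep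
  Groth.Agent.Lib.Helper15LocQComp Groth.Agent.Lib.Helper15GoodComp
  Groth.Agent.Lib.Helper15LocQCancel Groth.Agent.Lib.Helper15LocQBC
  Groth.Agent.Lib.Helper15LocQDiag Groth.Agent.Lib.Helper15LocQDescent
  Groth.Agent.Lib.Helper15RepDescent Groth.Agent.Lib.Helper15QcDescent
  Groth.Agent.Lib.Helper15FppfLiftFam Groth.Agent.Lib.Helper15ValLift
  Groth.Agent.Lib.Helper15ValWit Groth.Agent.Lib.Helper15QcRep Groth.Agent.Lib.Helper15UnivComp
  Groth.Agent.Lib.Helper15QcQs Groth.Agent.Lib.Helper15QcProd Groth.Agent.Lib.Helper15.DiagBC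
  Groth.Agent.Lib.Helper15UnivInjDiag Groth.Agent.Lib.Helper15DiagSq
  Groth.Agent.Lib.Helper15PshPb Groth.Agent.Lib.Helper15DiagBridge Groth.Agent.Lib.Helper15DiagApps Groth.Agent.Lib.Helper15DiagCancel
  Groth.Agent.Lib.Helper15DiagComp Groth.Agent.Lib.Helper15QsComp Groth.Agent.Lib.Helper15MonoFF
  Groth.Agent.Lib.Helper15DiagInertia Groth.Agent.Lib.Helper15OpenSub
  Groth.Agent.Lib.Helper15EquivRep Groth.Agent.Lib.Helper15OpenSubst
  Groth.Agent.Lib.Helper15OpenImage Groth.Agent.Lib.Helper15FpqcImm Groth.Agent.Lib.Helper17.MonoFF Groth.Agent.Lib.Helper15IsoNatOpen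
  Groth.Agent.Lib.Helper15IsoNatPts Groth.Agent.Lib.Helper15IsoNatTop Groth.Agent.Lib.Helper15QsFp
  Groth.Agent.Lib.Helper15IsoNatQc Groth.Agent.Lib.Helper15SmoothLocus

section Cover

variable {S : Scheme.{u}}

/-- A quasi-compact, flat, surjective morphism of algebraic spaces is an fpqc covering. -/
theorem isFpqcCover_single {X Y : AlgSp.Space S} (f : X ⟶ Y)
    (hqc : AlgSp.IsQuasiCompactMor f.hom) (hflat : AlgSp.LocP @Flat f.hom)
    (hsurj : AlgSp.IsSurjectiveMor f.hom) :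
    AlgSp.IsFpqcCover (fun _ : PUnit.{u + 1} => X.obj) (fun _ => f.hom) := by
  refine ⟨fun _ => hflat, fun Z hZ h => ?_⟩
  have := hZ
  have sq : IsPullback (pullback.fst f.hom h) (pullback.snd f.hom h) f.hom h :=
    IsPullback.of_hasPullback _ _
  have hP : AlgSp.IsAlgSpace (pullback f.hom h) :=
    Groth.Agent.S9874.isAlgSpace_of_isPullback Y.property.diag X.property
      (AlgSp.IsAlgSpace.yon_obj Z) sq
  have hqcZ : AlgSp.IsQuasiCompactSp ((AlgSp.yon S).obj Z) :=
    ⟨Z, 𝟙 _, AlgSp.repWith_id _ Z, AlgSp.repWith_id _ Z, inferInstance⟩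
  obtain ⟨U, p, hpe, hps, hUc⟩ := hqc (AlgSp.IsAlgSpace.yon_obj Z) hqcZ h _ _ sq
  have : CompactSpace ↥U.left := hUc
  obtain ⟨c₀, hc₀⟩ := (AlgSp.yon S).map_surjective (p ≫ pullback.snd f.hom h)
  let PP : AlgSp.Space S := ⟨pullback f.hom h, hP⟩
  let UU : AlgSp.Space S := ⟨(AlgSp.yon S).obj U, AlgSp.IsAlgSpace.yon_obj U⟩
  -- flatness of the chart over the affine scheme
  have hsndfl : AlgSp.LocP @Flat (pullback.snd f.hom h) :=
    bcStable_flat X.property Y.property hP (AlgSp.IsAlgSpace.yon_obj Z) f.hom h _ _ sq hflat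
  have hpfl : AlgSp.LocP @Flat p :=
    locP_mono (fun _ _ g hg => by
      have : Smooth g := hg
      exact (inferInstance : Flat g)) (locP_smooth_of_repWith_etale (X := UU) (Y := PP) p hpe)
  have hc₀fl : Flat c₀.left := by
    apply AlgSp.locP_yon_map (P := @Flat)
    rw [hc₀]
    exact locP_flat_comp hP (AlgSp.IsAlgSpace.yon_obj Z) p _ hpfl hsndfl
  -- surjectivity of the chart over the affine scheme
  have hsndsurj : AlgSp.IsSurjectiveMor (pullback.snd f.hom h) :=
    bcStable_isSurjectiveMor X.property Y.property hP (AlgSp.IsAlgSpace.yon_obj Z) f.hom h _ _ sq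
      hsurj
  have hpsurj : AlgSp.IsSurjectiveMor p := isSurjectiveMor_atlas PP p hpe hps
  have hc₀surj : Function.Surjective c₀.left := by
    intro z
    obtain ⟨π, hπ⟩ := hsndsurj (AlgSp.Points.ofScheme Z z)
    obtain ⟨x, hx⟩ := hpsurj π
    refine ⟨AlgSp.Points.toScheme U x, ?_⟩
    have h1 : AlgSp.Points.map ((AlgSp.yon S).map c₀) x = AlgSp.Points.ofScheme Z z := by
      rw [hc₀, AlgSp.Points.map_comp, hx, hπ]
    rw [← AlgSp.Points.toScheme_ofPt c₀, AlgSp.Points.ofPt_eq_map_ofScheme,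
      AlgSp.Points.ofScheme_toScheme, h1, AlgSp.Points.toScheme_ofScheme]
  -- a finite affine cover of the chart
  let 𝒱 := U.left.affineCover.finiteSubcover
  let e : 𝒱.I₀ ≃ Fin (Fintype.card 𝒱.I₀) := Fintype.equivFin _
  let W : Fin (Fintype.card 𝒱.I₀) → Over S := fun j => Over.mk (𝒱.f (e.symm j) ≫ U.hom)
  let ιW : ∀ j, W j ⟶ U := fun j => Over.homMk (𝒱.f (e.symm j)) rfl
  refine ⟨Fintype.card 𝒱.I₀, W, fun j => ιW j ≫ c₀, fun j => ?_, fun j => ?_, fun z => ?_,
    fun j => ⟨PUnit.unit, (AlgSp.yon S).map (ιW j) ≫ p ≫ pullback.fst f.hom h, ?_⟩⟩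
  · change IsAffine (𝒱.X (e.symm j))
    dsimp only [𝒱, Scheme.OpenCover.finiteSubcover]
    infer_instance
  · change Flat (𝒱.f (e.symm j) ≫ c₀.left)
    infer_instance
  · obtain ⟨u, rfl⟩ := hc₀surj z
    obtain ⟨i, y, rfl⟩ := 𝒱.exists_eq u
    obtain ⟨j, rfl⟩ := e.symm.surjective i
    exact ⟨j, y, rfl⟩
  · rw [Category.assoc, Category.assoc, sq.w, Functor.map_comp, hc₀, Category.assoc,
      Category.assoc]

end Cover

section Main

variable {S : Scheme.{u}}

theorem isIso_of_qc_flat_surj_mono {X Y : AlgSp.Space S} (f : X ⟶ Y)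
    (hqc : AlgSp.IsQuasiCompactMor f.hom) (hflat : AlgSp.LocP @Flat f.hom)
    (hsurj : AlgSp.IsSurjectiveMor f.hom) [Mono f.hom] : IsIso f.hom := by
  have hcov := isFpqcCover_single f hqc hflat hsurj
  have hsq : IsPullback (𝟙 X.obj) (𝟙 X.obj) f.hom f.hom := IsKernelPair.id_of_mono f.hom
  exact ((Groth.Agent.S10532.result S) (fun _ : PUnit.{u + 1} => X.obj) (fun _ => f.hom) Y.property
    (fun _ => X.property) hcov f.hom X.property (fun _ => X.obj) (fun _ => 𝟙 _) (fun _ => 𝟙 _)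
    (fun _ => X.property) (fun _ => hsq)).2 (fun _ => (inferInstance : IsIso (𝟙 X.obj)))

end Main

end Groth.Agent.Lib.Helper15QcFlatMono
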