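import Mathlib
import Groth.Prelude.Def_W4c2azumayainvolQEt

/-!
Rings with involution whose fixed ring is local; structure of quadratic etale algebras over a
local ring (basis `1, x`, `lam x = t - x`, `x - lam x` a unit), orbit of maximal ideals.
-/

set_option autoImplicit false

namespace Groth.Agent.Lib.Helper15.QuadEtale

open IsLocalRing

universe u v

section Inv

variable {S : Type u} {R : Type v} [CommRing S] [CommRing R] [Algebra S R]
  (lam : R ≃+* R) (hlam : Function.Involutive lam) (hS : RInv.IsFixedRing S R lam)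

include hS in
theorem lam_algebraMap (s : S) : lam (algebraMap S R s) = algebraMap S R s :=
  (hS.2 _).mpr ⟨s, rfl⟩

include hlam hS in
theorem exists_trace (y : R) : ∃ s : S, algebraMap S R s = y + lam y := by
  have h : lam (y + lam y) = y + lam y := by rw [map_add, hlam y, add_comm]
  exact (hS.2 _).mp h

include hlam hS in
theorem exists_norm (y : R) : ∃ s : S, algebraMap S R s = y * lam y := by
  have h : lam (y * lam y) = y * lam y := by rw [map_mul, hlam y, mul_comm]
  exact (hS.2 _).mp h

include hS in
/-- a fixed element which is a unit in `R` comes from a unit of `S`. -/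
theorem isUnit_of_isUnit_algebraMap (s : S) (h : IsUnit (algebraMap S R s)) : IsUnit s := by
  obtain ⟨w, hw⟩ := h.exists_right_inv
  have hlw : lam w = w := by
    have h1 : algebraMap S R s * lam w = 1 := by
      rw [← lam_algebraMap lam hS s, ← map_mul, hw, map_one]
    calc lam w = (w * algebraMap S R s) * lam w := by rw [mul_comm w, hw, one_mul]
      _ = w * (algebraMap S R s * lam w) := by ring
      _ = w := by rw [h1, mul_one]
  obtain ⟨s', hs'⟩ := (hS.2 _).mp hlw
  have : s * s' = 1 := by
    apply hS.1
    rw [map_mul, hs', hw, map_one]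
  exact IsUnit.of_mul_eq_one _ this

variable [IsLocalRing S]

include hlam hS in
theorem algebraMap_mem_jacobson {s : S} (hs : s ∈ maximalIdeal S) :
    algebraMap S R s ∈ Ring.jacobson R := by
  rw [← Ideal.jacobson_bot, Ideal.mem_jacobson_bot]
  intro z
  obtain ⟨a, ha⟩ := exists_trace lam hlam hS z
  obtain ⟨b, hb⟩ := exists_norm lam hlam hS z
  have hunit : IsUnit (1 + s * (a + s * b)) := by
    by_contra hcon
    have h1 : 1 + s * (a + s * b) ∈ maximalIdeal S := (mem_maximalIdeal _).mpr hcon
    have h2 : s * (a + s * b) ∈ maximalIdeal S := Ideal.mul_mem_right _ _ hs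
    have h3 : (1 : S) ∈ maximalIdeal S := by
      have := sub_mem h1 h2
      simpa using this
    exact (maximalIdeal.isMaximal S).ne_top ((Ideal.eq_top_iff_one _).mpr h3)
  have hw : (algebraMap S R s * z + 1) * lam (algebraMap S R s * z + 1)
      = algebraMap S R (1 + s * (a + s * b)) := by
    rw [map_add, map_mul, map_one, lam_algebraMap lam hS]
    simp only [map_add, map_mul, map_one, ha, hb]
    ring
  exact isUnit_of_mul_isUnit_left (hw ▸ hunit.map (algebraMap S R))

include hlam hS in
/-- the maximal ideals of `R` form one orbit under `lam`. -/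
theorem maximal_orbit (M N : Ideal R) [hM : M.IsMaximal] [hN : N.IsMaximal] :
    N = M ∨ N = M.comap (lam : R →+* R) := by
  by_contra hcon
  push Not at hcon
  have hM' : (M.comap (lam : R →+* R)).IsMaximal :=
    Ideal.comap_isMaximal_of_surjective _ lam.surjective
  have h1 : ¬ N ≤ M := fun h => hcon.1 (hN.eq_of_le hM.ne_top h)
  have h2 : ¬ N ≤ M.comap (lam : R →+* R) := fun h => hcon.2 (hN.eq_of_le hM'.ne_top h)
  have h3 : ¬ ((N : Set R) ⊆ (M : Set R) ∪ (M.comap (lam : R →+* R) : Set R)) := by
    rw [Ideal.subset_union]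
    tauto
  obtain ⟨y, hyN, hy⟩ := Set.not_subset.mp h3
  obtain ⟨s, hs⟩ := exists_norm lam hlam hS y
  have hsm : s ∈ maximalIdeal S := by
    rw [mem_maximalIdeal]
    intro hu
    have hy' : IsUnit y := isUnit_of_mul_isUnit_left (hs ▸ hu.map (algebraMap S R))
    exact hN.ne_top (Ideal.eq_top_of_isUnit_mem _ hyN hy')
  have hjac : algebraMap S R s ∈ M := by
    have h := algebraMap_mem_jacobson lam hlam hS hsm
    rw [← Ideal.jacobson_bot] at h
    exact (Ideal.mem_sInf.mp h) ⟨bot_le, hM⟩
  rw [hs] at hjac
  rcases hM.isPrime.mem_or_mem hjac with h | h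
  · exact hy (Or.inl h)
  · exact hy (Or.inr h)

include hlam hS in
/-- an anti-invariant element outside one maximal ideal is a unit. -/
theorem isUnit_of_anti_of_notMem (u : R) (hu : lam u = -u) (M : Ideal R) [hM : M.IsMaximal]
    (huM : u ∉ M) : IsUnit u := by
  by_contra hnu
  obtain ⟨N, hN, huN⟩ := exists_max_ideal_of_mem_nonunits hnu
  rcases maximal_orbit lam hlam hS M N with h | h
  · exact huM (h ▸ huN)
  · rw [h, Ideal.mem_comap] at huN
    have : lam u ∈ M := huN
    rw [hu] at this
    exact huM ((Ideal.neg_mem_iff _).mp this)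

end Inv

section Struct

variable {S : Type u} {R : Type v} [CommRing S] [CommRing R] [Algebra S R] [IsLocalRing S]

/-- `1, x` is an `S`-basis of `R`, stated by hand. -/
def IsGen (S : Type u) {R : Type v} [CommRing S] [CommRing R] [Algebra S R] (x : R) : Prop :=
  (∀ r : R, ∃ a c : S, r = algebraMap S R a + algebraMap S R c * x) ∧
    (∀ a c : S, algebraMap S R a + algebraMap S R c * x = 0 → a = 0 ∧ c = 0)

theorem gen_of_unit (b : Module.Basis (Fin 2) S R) (hα : IsUnit (b.repr 1 0)) :
    IsGen S (b 1) := by
  obtain ⟨α', hα'⟩ := hα.exists_left_inv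
  set α := b.repr 1 0 with hαdef
  set β := b.repr 1 1 with hβdef
  have h1 : (1 : R) = α • b 0 + β • b 1 := by
    conv_lhs => rw [← b.sum_repr 1]
    rw [Fin.sum_univ_two]
  have hb0 : b 0 = α' • (1 : R) - (α' * β) • b 1 := by
    rw [h1, smul_add, smul_smul, smul_smul, hα', one_smul]
    abel
  constructor
  · intro r
    refine ⟨b.repr r 0 * α', b.repr r 1 - b.repr r 0 * (α' * β), ?_⟩
    conv_lhs => rw [← b.sum_repr r]
    rw [Fin.sum_univ_two]
    conv_lhs => rw [hb0]
    simp only [Algebra.smul_def, map_mul, map_sub, mul_one]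
    ring
  · intro a c h
    have h2 : (a * α) • b 0 + (a * β + c) • b 1 = 0 := by
      have : algebraMap S R a + algebraMap S R c * b 1
          = (a * α) • b 0 + (a * β + c) • b 1 := by
        conv_lhs => rw [← mul_one (algebraMap S R a), h1]
        simp only [Algebra.smul_def, map_mul, map_add]
        ring
      rw [← this, h]
    have h3 := congrArg (fun r => b.repr r 0) h2
    have h4 := congrArg (fun r => b.repr r 1) h2
    simp only [map_add, map_smul, Module.Basis.repr_self, Finsupp.smul_single, smul_eq_mul,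
      mul_one, Finsupp.add_apply, Finsupp.single_eq_same, map_zero, Finsupp.zero_apply] at h3 h4
    have h01 : (0 : Fin 2) ≠ 1 := by decide
    have h10 : (1 : Fin 2) ≠ 0 := by decide
    rw [Finsupp.single_eq_of_ne h01, add_zero] at h3
    rw [Finsupp.single_eq_of_ne h10, zero_add] at h4
    have ha : a = 0 := by
      calc a = a * (α' * α) := by rw [hα', mul_one]
        _ = α' * (a * α) := by ring
        _ = 0 := by rw [h3, mul_zero]
    refine ⟨ha, ?_⟩
    rw [ha, zero_mul, zero_add] at h4
    exact h4

theorem exists_gen (hq : RInv.IsQuadEtale S R) : ∃ x : R, IsGen S x := by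
  obtain ⟨hfin, hproj, hunr, hrank⟩ := hq
  haveI := hfin
  haveI := hproj
  haveI : Module.Free S R := Module.free_of_flat_of_isLocalRing
  have hfr : Module.finrank S R = 2 := by
    have := hrank (IsLocalRing.closedPoint S)
    rw [Module.rankAtStalk_eq_finrank_of_free] at this
    exact_mod_cast this
  let b := Module.finBasisOfFinrankEq S R hfr
  have hunit : IsUnit (b.repr 1 0) ∨ IsUnit (b.repr 1 1) := by
    by_contra hcon
    push Not at hcon
    have hm0 : b.repr 1 0 ∈ maximalIdeal S := (mem_maximalIdeal _).mpr hcon.1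
    have hm1 : b.repr 1 1 ∈ maximalIdeal S := (mem_maximalIdeal _).mpr hcon.2
    have h1 : (1 : R) = b.repr 1 0 • b 0 + b.repr 1 1 • b 1 := by
      conv_lhs => rw [← b.sum_repr 1]
      rw [Fin.sum_univ_two]
    have h2 : b 0 = b.repr 1 0 • (b 0 * b 0) + b.repr 1 1 • (b 0 * b 1) := by
      conv_lhs => rw [← mul_one (b 0), h1]
      rw [mul_add, mul_smul_comm, mul_smul_comm]
    have h3 := congrArg (fun r => b.repr r 0) h2
    simp only [map_add, map_smul, Module.Basis.repr_self, Finsupp.single_eq_same,
      Finsupp.add_apply, Finsupp.smul_apply, smul_eq_mul] at h3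
    have hm : (1 : S) ∈ maximalIdeal S := by
      rw [h3]
      exact add_mem (Ideal.mul_mem_right _ _ hm0) (Ideal.mul_mem_right _ _ hm1)
    exact (maximalIdeal.isMaximal S).ne_top ((Ideal.eq_top_iff_one _).mpr hm)
  rcases hunit with h | h
  · exact ⟨b 1, gen_of_unit b h⟩
  · let b' := b.reindex (Equiv.swap (0 : Fin 2) 1)
    have h' : IsUnit (b'.repr 1 0) := by
      have : b'.repr 1 0 = b.repr 1 1 := by
        simp [b', Module.Basis.repr_reindex_apply]
      rw [this]
      exact h
    exact ⟨b' 1, gen_of_unit b' h'⟩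

end Struct

section StructLam

variable {S : Type u} {R : Type v} [CommRing S] [CommRing R] [Algebra S R]

theorem exists_quadratic {x : R} (hx : IsGen S x) :
    ∃ t n : S, x * x = algebraMap S R t * x - algebraMap S R n := by
  obtain ⟨a, c, h⟩ := hx.1 (x * x)
  exact ⟨c, -a, by rw [h, map_neg]; ring⟩

/-- coordinate functions -/
noncomputable def cA {x : R} (hx : IsGen S x) (r : R) : S := (hx.1 r).choose

noncomputable def cX {x : R} (hx : IsGen S x) (r : R) : S := (hx.1 r).choose_spec.choose

theorem c_spec {x : R} (hx : IsGen S x) (r : R) :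
    r = algebraMap S R (cA hx r) + algebraMap S R (cX hx r) * x :=
  (hx.1 r).choose_spec.choose_spec

theorem cX_eq {x : R} (hx : IsGen S x) {r : R} {a c : S}
    (h : r = algebraMap S R a + algebraMap S R c * x) : cX hx r = c := by
  have h1 := c_spec hx r
  have h2 : algebraMap S R (cA hx r - a) + algebraMap S R (cX hx r - c) * x = 0 := by
    simp only [map_sub]
    linear_combination h - h1
  exact sub_eq_zero.mp (hx.2 _ _ h2).2

theorem cA_eq {x : R} (hx : IsGen S x) {r : R} {a c : S}
    (h : r = algebraMap S R a + algebraMap S R c * x) : cA hx r = a := by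
  have h1 := c_spec hx r
  have h2 : algebraMap S R (cA hx r - a) + algebraMap S R (cX hx r - c) * x = 0 := by
    simp only [map_sub]
    linear_combination h - h1
  exact sub_eq_zero.mp (hx.2 _ _ h2).1

/-- the `x`-coordinate as a linear map. -/
noncomputable def cXlin {x : R} (hx : IsGen S x) : R →ₗ[S] S where
  toFun := cX hx
  map_add' r r' := by
    apply cX_eq hx (a := cA hx r + cA hx r')
    conv_lhs => rw [c_spec hx r, c_spec hx r']
    simp only [map_add]
    ring
  map_smul' s r := by
    show cX hx (s • r) = s * cX hx r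
    apply cX_eq hx (a := s * cA hx r)
    conv_lhs => rw [c_spec hx r]
    simp only [Algebra.smul_def, map_mul]
    ring

theorem cX_mul {x : R} (hx : IsGen S x) {t n : S}
    (hq : x * x = algebraMap S R t * x - algebraMap S R n) (r r' : R) :
    cX hx (r * r') = cA hx r * cX hx r' + cX hx r * cA hx r' + cX hx r * cX hx r' * t := by
  apply cX_eq hx (a := cA hx r * cA hx r' - cX hx r * cX hx r' * n)
  conv_lhs => rw [c_spec hx r, c_spec hx r']
  simp only [map_add, map_mul, map_sub]
  linear_combination (algebraMap S R (cX hx r) * algebraMap S R (cX hx r')) * hq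

/-- the constant coordinate as a linear map. -/
noncomputable def cAlin {x : R} (hx : IsGen S x) : R →ₗ[S] S where
  toFun := cA hx
  map_add' r r' := by
    apply cA_eq hx (c := cX hx r + cX hx r')
    conv_lhs => rw [c_spec hx r, c_spec hx r']
    simp only [map_add]
    ring
  map_smul' s r := by
    show cA hx (s • r) = s * cA hx r
    apply cA_eq hx (c := s * cX hx r)
    conv_lhs => rw [c_spec hx r]
    simp only [Algebra.smul_def, map_mul]
    ring

theorem cA_mul {x : R} (hx : IsGen S x) {t n : S}
    (hq : x * x = algebraMap S R t * x - algebraMap S R n) (r r' : R) :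
    cA hx (r * r') = cA hx r * cA hx r' - cX hx r * cX hx r' * n := by
  apply cA_eq hx
    (c := cA hx r * cX hx r' + cX hx r * cA hx r' + cX hx r * cX hx r' * t)
  conv_lhs => rw [c_spec hx r, c_spec hx r']
  simp only [map_add, map_mul, map_sub]
  linear_combination (algebraMap S R (cX hx r) * algebraMap S R (cX hx r')) * hq

/-- membership in `I R` is detected on coordinates. -/
theorem mem_map_iff {x : R} (hx : IsGen S x) {t n : S}
    (hq : x * x = algebraMap S R t * x - algebraMap S R n) (I : Ideal S) (y : R) :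
    y ∈ I.map (algebraMap S R) ↔ cA hx y ∈ I ∧ cX hx y ∈ I := by
  constructor
  · intro hy
    refine Submodule.span_induction ?_ ?_ ?_ ?_ hy
    · rintro _ ⟨s, hs, rfl⟩
      have h1 : cA hx (algebraMap S R s) = s :=
        cA_eq hx (c := 0) (by rw [map_zero, zero_mul, add_zero])
      have h2 : cX hx (algebraMap S R s) = 0 :=
        cX_eq hx (a := s) (by rw [map_zero, zero_mul, add_zero])
      rw [h1, h2]
      exact ⟨hs, zero_mem _⟩
    · have h1 : cA hx (0 : R) = 0 := (cAlin hx).map_zero
      have h2 : cX hx (0 : R) = 0 := (cXlin hx).map_zero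
      rw [h1, h2]
      exact ⟨zero_mem _, zero_mem _⟩
    · intro y z _ _ hy hz
      have h1 : cA hx (y + z) = cA hx y + cA hx z := (cAlin hx).map_add y z
      have h2 : cX hx (y + z) = cX hx y + cX hx z := (cXlin hx).map_add y z
      rw [h1, h2]
      exact ⟨add_mem hy.1 hz.1, add_mem hy.2 hz.2⟩
    · intro r y _ hy
      rw [smul_eq_mul, cA_mul hx hq, cX_mul hx hq]
      refine ⟨sub_mem (Ideal.mul_mem_left _ _ hy.1)
        (Ideal.mul_mem_right _ _ (Ideal.mul_mem_left _ _ hy.2)), ?_⟩
      exact add_mem (add_mem (Ideal.mul_mem_left _ _ hy.2) (Ideal.mul_mem_left _ _ hy.1))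
        (Ideal.mul_mem_right _ _ (Ideal.mul_mem_left _ _ hy.2))
  · rintro ⟨h1, h2⟩
    rw [c_spec hx y]
    exact add_mem (Ideal.mem_map_of_mem _ h1)
      (Ideal.mul_mem_right _ _ (Ideal.mem_map_of_mem _ h2))

variable (lam : R ≃+* R) (hlam : Function.Involutive lam) (hS : RInv.IsFixedRing S R lam)

include hlam hS in
theorem lam_gen {x : R} (hx : IsGen S x) {t n : S}
    (hq : x * x = algebraMap S R t * x - algebraMap S R n) :
    lam x = algebraMap S R t - x := by
  obtain ⟨s1, h1⟩ := exists_trace lam hlam hS x
  obtain ⟨s2, h2⟩ := exists_norm lam hlam hS x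
  have h : algebraMap S R (s2 - n) + algebraMap S R (t - s1) * x = 0 := by
    simp only [map_sub]
    rw [h1, h2]
    linear_combination (-1 : R) * hq
  obtain ⟨-, h0⟩ := hx.2 _ _ h
  have ht : t = s1 := sub_eq_zero.mp h0
  rw [ht, h1]
  ring

/-- the derivation `d/dx` with values in `R / (2x - t)`. -/
theorem isUnit_of_unramified [Algebra.FormallyUnramified S R] {x : R} (hx : IsGen S x) {t n : S}
    (hq : x * x = algebraMap S R t * x - algebraMap S R n) :
    IsUnit (2 * x - algebraMap S R t) := by
  set δ : R := 2 * x - algebraMap S R t with hδ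
  let I : Ideal R := Ideal.span {δ}
  let D0 : R →ₗ[S] (R ⧸ I) := (Algebra.linearMap S (R ⧸ I)) ∘ₗ (cXlin hx)
  have hD0 : ∀ r, D0 r = Ideal.Quotient.mk I (algebraMap S R (cX hx r)) := fun r => rfl
  have hleib : ∀ a b : R, D0 (a * b) = a • D0 b + b • D0 a := by
    intro a b
    rw [hD0, hD0, hD0, cX_mul hx hq]
    have hsm : ∀ (r y : R), r • (Ideal.Quotient.mk I y) = Ideal.Quotient.mk I (r * y) :=
      fun r y => rfl
    rw [hsm, hsm, ← map_add, Ideal.Quotient.eq, Ideal.mem_span_singleton]
    refine ⟨-(algebraMap S R (cX hx a) * algebraMap S R (cX hx b)), ?_⟩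
    conv_lhs => rw [c_spec hx a, c_spec hx b]
    have ha : cX hx (algebraMap S R (cA hx a) + algebraMap S R (cX hx a) * x) = cX hx a :=
      cX_eq hx rfl
    have hb : cX hx (algebraMap S R (cA hx b) + algebraMap S R (cX hx b) * x) = cX hx b :=
      cX_eq hx rfl
    have ha' : cA hx (algebraMap S R (cA hx a) + algebraMap S R (cX hx a) * x) = cA hx a :=
      cA_eq hx rfl
    have hb' : cA hx (algebraMap S R (cA hx b) + algebraMap S R (cX hx b) * x) = cA hx b :=
      cA_eq hx rfl
    rw [ha, hb, ha', hb', hδ]
    simp only [map_add, map_mul]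
    ring
  let D : Derivation S R (R ⧸ I) := Derivation.mk' D0 hleib
  have hDx : D x = 1 := by
    show D0 x = 1
    rw [hD0]
    have : cX hx x = 1 := cX_eq hx (a := 0) (by rw [map_zero, map_one, zero_add, one_mul])
    rw [this, map_one, map_one]
  have hzero : D x = 0 := by
    rw [← Derivation.liftKaehlerDifferential_comp_D D x,
      Subsingleton.elim (KaehlerDifferential.D S R x) 0, map_zero]
  rw [hDx] at hzero
  have htop : I = ⊤ := by
    rw [Ideal.eq_top_iff_one, ← Ideal.Quotient.eq_zero_iff_mem, map_one]
    exact hzero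
  exact Ideal.span_singleton_eq_top.mp htop

include hlam hS in
theorem isUnit_sub_lam [IsLocalRing S] (hq' : RInv.IsQuadEtale S R) :
    ∃ r : R, IsUnit (r - lam r) := by
  obtain ⟨x, hx⟩ := exists_gen hq'
  obtain ⟨t, n, hq⟩ := exists_quadratic hx
  haveI : Algebra.FormallyUnramified S R := hq'.2.2.1
  refine ⟨x, ?_⟩
  have h := isUnit_of_unramified hx hq
  rw [lam_gen lam hlam hS hx hq]
  have : x - (algebraMap S R t - x) = 2 * x - algebraMap S R t := by ring
  rw [this]
  exact h

end StructLam

section Jac

variable {S : Type u} {R : Type v} [CommRing S] [CommRing R] [Algebra S R] [IsLocalRing S]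

theorem nontrivial_of_gen {x : R} (hx : IsGen S x) : Nontrivial R := by
  refine ⟨⟨1, 0, ?_⟩⟩
  intro h
  have h' : algebraMap S R 1 + algebraMap S R 0 * x = 0 := by
    rw [map_one, map_zero, zero_mul, add_zero, h]
  exact one_ne_zero (hx.2 1 0 h').1

/-- a unit plus an element of the Jacobson radical is a unit. -/
theorem isUnit_add_of_mem_jacobson {u e : R} (hu : IsUnit u) (he : e ∈ Ring.jacobson R) :
    IsUnit (u + e) := by
  obtain ⟨v, hv⟩ := hu.exists_right_inv
  rw [← Ideal.jacobson_bot, Ideal.mem_jacobson_bot] at he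
  have h1 := he v
  have : u + e = u * (e * v + 1) := by
    calc u + e = u + e * (u * v) := by rw [hv, mul_one]
      _ = u * (e * v + 1) := by ring
  rw [this]
  exact hu.mul h1

theorem not_isUnit_of_mem_jacobson [Nontrivial R] {u : R} (hu : u ∈ Ring.jacobson R) :
    ¬ IsUnit u := by
  intro h
  obtain ⟨M, hM⟩ := Ideal.exists_maximal R
  have : u ∈ M := by
    rw [← Ideal.jacobson_bot] at hu
    exact (Ideal.mem_sInf.mp hu) ⟨bot_le, hM⟩
  exact hM.ne_top (Ideal.eq_top_of_isUnit_mem _ this h)

theorem mem_maximalIdeal_of_algebraMap_mem_jacobson [Nontrivial R] {s : S}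
    (hs : algebraMap S R s ∈ Ring.jacobson R) : s ∈ maximalIdeal S := by
  rw [mem_maximalIdeal]
  intro hu
  exact not_isUnit_of_mem_jacobson hs (hu.map (algebraMap S R))

theorem map_maximalIdeal_le_jacobson [Module.Finite S R] :
    (maximalIdeal S).map (algebraMap S R) ≤ Ring.jacobson R := by
  rw [← Ideal.jacobson_bot]
  refine le_sInf ?_
  rintro M ⟨-, hM⟩
  haveI := hM
  rw [Ideal.map_le_iff_le_comap]
  have hmax : (M.comap (algebraMap S R)).IsMaximal :=
    Ideal.isMaximal_comap_of_isIntegral_of_isMaximal M
  rw [IsLocalRing.eq_maximalIdeal hmax]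

theorem jacobson_eq (hq' : RInv.IsQuadEtale S R) :
    Ring.jacobson R = (maximalIdeal S).map (algebraMap S R) := by
  obtain ⟨x, hx⟩ := exists_gen hq'
  obtain ⟨t, n, hq⟩ := exists_quadratic hx
  haveI : Algebra.FormallyUnramified S R := hq'.2.2.1
  haveI : Module.Finite S R := hq'.1
  haveI : Nontrivial R := nontrivial_of_gen hx
  have hδ := isUnit_of_unramified hx hq
  have hle := map_maximalIdeal_le_jacobson (S := S) (R := R)
  apply le_antisymm _ hle
  intro y hy
  rw [mem_map_iff hx hq]
  have hyc := c_spec hx y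
  set a := cA hx y with ha
  set c := cX hx y with hc
  have hcm : c ∈ maximalIdeal S := by
    by_contra hcon
    have hcu : IsUnit c := by
      by_contra h
      exact hcon ((mem_maximalIdeal _).mpr h)
    obtain ⟨c', hc'⟩ := hcu.exists_left_inv
    set a' := c' * a with ha'
    have he : x + algebraMap S R a' ∈ Ring.jacobson R := by
      have : x + algebraMap S R a' = algebraMap S R c' * y := by
        have h1 : algebraMap S R c' * algebraMap S R c = 1 := by
          rw [← map_mul, hc', map_one]
        rw [hyc, ha', map_mul]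
        linear_combination (-x) * h1
      rw [this]
      exact Ideal.mul_mem_left _ _ hy
    set e := x + algebraMap S R a' with hedef
    -- s = 2 a' + t
    have hs : IsUnit (algebraMap S R (2 * a' + t)) := by
      have h1 : IsUnit ((2 * x - algebraMap S R t) + (-2) * e) :=
        isUnit_add_of_mem_jacobson hδ (Ideal.mul_mem_left _ _ he)
      have h2 : (2 * x - algebraMap S R t) + (-2) * e = -(algebraMap S R (2 * a' + t)) := by
        rw [hedef]
        simp only [map_add, map_mul, map_ofNat]
        ring
      rw [h2] at h1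
      exact (IsUnit.neg_iff _).mp h1
    have hw : IsUnit (-(algebraMap S R (2 * a' + t)) + e) :=
      isUnit_add_of_mem_jacobson hs.neg he
    have hew : e * (-(algebraMap S R (2 * a' + t)) + e)
        = algebraMap S R (-(n + a' * t + a' * a')) := by
      rw [hedef]
      simp only [map_add, map_mul, map_neg, map_ofNat]
      linear_combination hq
    have hg : -(n + a' * t + a' * a') ∈ maximalIdeal S := by
      apply mem_maximalIdeal_of_algebraMap_mem_jacobson (R := R)
      rw [← hew]
      exact Ideal.mul_mem_right _ _ he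
    have hemem : e ∈ (maximalIdeal S).map (algebraMap S R) := by
      obtain ⟨w', hw'⟩ := hw.exists_right_inv
      have : e = algebraMap S R (-(n + a' * t + a' * a')) * w' := by
        rw [← hew, mul_assoc, hw', mul_one]
      rw [this]
      exact Ideal.mul_mem_right _ _ (Ideal.mem_map_of_mem _ hg)
    rw [mem_map_iff hx hq] at hemem
    have hcx : cX hx e = 1 :=
      cX_eq hx (a := a') (by rw [hedef, map_one, one_mul]; ring)
    rw [hcx] at hemem
    exact (maximalIdeal.isMaximal S).ne_top ((Ideal.eq_top_iff_one _).mpr hemem.2)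
  refine ⟨?_, hcm⟩
  apply mem_maximalIdeal_of_algebraMap_mem_jacobson (R := R)
  have : algebraMap S R a = y - algebraMap S R c * x := by rw [hyc]; ring
  rw [this]
  refine sub_mem hy (hle ?_)
  exact Ideal.mul_mem_right _ _ (Ideal.mem_map_of_mem _ hcm)

end Jac

end Groth.Agent.Lib.Helper15.QuadEtale
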