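-- helper15: fppf/fpqc descent of unramified, locally quasi-finite, quasi-compact, quasi-separated along a cover of the source
import Mathlib
import Groth.Agent.S5370
import Groth.Agent.S5938
import Groth.Agent.S0114
import Groth.Agent.S0115
import Groth.Agent.S2807
import Groth.Agent.Lib.Helper15FppfSrc2
import Groth.Agent.Lib.Helper12Descent

set_option autoImplicit false
universe u
open CategoryTheory CategoryTheory.Limits MonoidalCategory CartesianMonoidalCategory MonObj GrpObj AlgebraicGeometry

namespace Groth.Agent.Lib.Helper15QuotFP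

open Filter Topology in
/-- Discreteness of a subset descends along an open surjection. -/
lemma isDiscrete_of_preimage {X Y : Type*} [TopologicalSpace X] [TopologicalSpace Y] {f : X → Y}
    (hf : IsOpenMap f) (hs : Function.Surjective f) {T : Set Y} (h : IsDiscrete (f ⁻¹' T)) :
    IsDiscrete T := by
  refine .of_nhdsWithin fun y hy => ?_
  obtain ⟨x, rfl⟩ := hs y
  have h1 := h.nhdsWithin x hy
  calc 𝓝[T] (f x) = 𝓝 (f x) ⊓ 𝓟 T := rfl
    _ ≤ map f (𝓝 x) ⊓ 𝓟 T := inf_le_inf_right _ (hf.nhds_le x)
    _ = map f (𝓝 x ⊓ 𝓟 (f ⁻¹' T)) := (Filter.map_inf_principal_preimage).symm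
    _ = map f (pure x) := by rw [← nhdsWithin, h1]
    _ = pure (f x) := Filter.map_pure _ _

/-- Formal unramifiedness descends along an fppf cover of the source. -/
theorem formallyUnramified_of_fppf_comp {X Y Z : Scheme.{u}} (f : X ⟶ Y) (q : Y ⟶ Z)
    [Surjective f] [Flat f] [LocallyOfFinitePresentation f]
    [LocallyOfFinitePresentation (f ≫ q)] [FormallyUnramified (f ≫ q)] :
    FormallyUnramified q := by
  have : LocallyOfFinitePresentation q := Groth.Agent.S0114.result f q
  have key : ∀ y : Y, ∃ V : Y.Opens, y ∈ V ∧ FormallyUnramified (V.ι ≫ q) := by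
    intro y
    obtain ⟨x, rfl⟩ := f.surjective y
    have hfl : (f.stalkMap x).hom.Flat := Flat.stalkMap f x
    exact Groth.Agent.S2807.result q (f ≫ q) f rfl x hfl
      ⟨⊤, trivial, IsZariskiLocalAtSource.comp (P := @FormallyUnramified) inferInstance _⟩
  choose V hyV hV using key
  refine IsZariskiLocalAtSource.of_iSup_eq_top (P := @FormallyUnramified) V ?_ hV
  rw [eq_top_iff]
  intro y _
  exact TopologicalSpace.Opens.mem_iSup.2 ⟨y, hyV y⟩

/-- Local quasi-finiteness descends along an fppf cover of the source. -/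
theorem locallyQuasiFinite_of_fppf_comp {X Y Z : Scheme.{u}} (f : X ⟶ Y) (q : Y ⟶ Z)
    [Surjective f] [Flat f] [LocallyOfFinitePresentation f]
    [LocallyOfFiniteType (f ≫ q)] [LocallyQuasiFinite (f ≫ q)] : LocallyQuasiFinite q := by
  have : LocallyOfFiniteType q := Groth.Agent.S5938.result f q
  rw [locallyQuasiFinite_iff_isDiscrete_preimage_singleton]
  intro z
  have h := (f ≫ q).isDiscrete_preimage_singleton z
  refine isDiscrete_of_preimage f.isOpenMap f.surjective ?_
  convert h using 1
  ext x
  simp [Scheme.Hom.comp_apply]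

/-- Quasi-compactness of the target of a surjection. -/
lemma quasiCompact_of_comp_surjective {X Y Z : Scheme.{u}} (f : X ⟶ Y) (q : Y ⟶ Z) [Surjective f]
    [QuasiCompact (f ≫ q)] : QuasiCompact q := by
  refine ⟨fun U hU hU' => ?_⟩
  have h1 := QuasiCompact.isCompact_preimage (f := f ≫ q) U hU hU'
  have h2 : q ⁻¹' U = f '' ((f ≫ q) ⁻¹' U) := by
    ext y
    constructor
    · intro hy
      obtain ⟨x, rfl⟩ := f.surjective y
      exact ⟨x, by simpa using hy, rfl⟩
    · rintro ⟨x, hx, rfl⟩
      simpa using hx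
  rw [h2]
  exact h1.image f.continuous

open MorphismProperty in
/-- Quasi-separatedness descends along a quasi-compact flat surjection of the source. -/
lemma quasiSeparated_of_fpqc_comp {X Y Z : Scheme.{u}} (p : X ⟶ Y) (i : Y ⟶ Z) [Surjective p]
    [Flat p] [QuasiCompact p] [QuasiSeparated (p ≫ i)] : QuasiSeparated i := by
  refine ⟨?_⟩
  have hpb := pullback_map_diagonal_isPullback p p i
  have hQ : (@Surjective ⊓ @Flat ⊓ @QuasiCompact : MorphismProperty Scheme.{u}) p :=
    ⟨⟨inferInstance, inferInstance⟩, inferInstance⟩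
  have hpp : (@Surjective ⊓ @Flat ⊓ @QuasiCompact : MorphismProperty Scheme.{u})
      (pullback.map (p ≫ i) (p ≫ i) i i p p (𝟙 _) (Category.comp_id _) (Category.comp_id _)) :=
    MorphismProperty.pullbackMap hQ hQ rfl rfl
  have hm : QuasiCompact (pullback.map p p (p ≫ i) (p ≫ i) (𝟙 _) (𝟙 _) i
      (Category.id_comp _).symm (Category.id_comp _).symm) := by
    have : QuasiCompact (pullback.map p p (p ≫ i) (p ≫ i) (𝟙 _) (𝟙 _) i
        (Category.id_comp _).symm (Category.id_comp _).symm ≫ pullback.fst (p ≫ i) (p ≫ i)) := by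
      rw [pullback.lift_fst, Category.comp_id]
      infer_instance
    exact QuasiCompact.of_comp _ (pullback.fst (p ≫ i) (p ≫ i))
  exact Groth.Agent.Lib.Helper12.descendsAlong_quasiCompact.of_isPullback hpb.flip hpp hm

end Groth.Agent.Lib.Helper15QuotFP
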