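-- helper15: points of [X/G] over algebraically closed fields: torsors for the etale topology are trivial, iso classes of the fibre correspond to orbits.
import Mathlib
import Groth.Prelude.Def_AlgSt5
import Groth.Agent.Lib.Helper15QuotCoarse

set_option autoImplicit false
universe u
open CategoryTheory CategoryTheory.Limits MonoidalCategory CartesianMonoidalCategory MonObj GrpObj AlgebraicGeometry Opposite

namespace Groth.Agent.Lib.Helper15Quot

instance etale_hasIsos : (Scheme.etalePrecoverage.{u}).HasIsos :=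
  inferInstanceAs (Scheme.precoverage @Etale).HasIsos

section AlgClosed

/-- a family of sections over a jointly surjective family of morphisms locally of finite type to a
scheme isomorphic to the spectrum of an algebraically closed field gives a global section. -/
theorem exists_section_of_algClosed' {Ω : Type u} [Field Ω] [IsAlgClosed Ω] {Z P : Scheme.{u}}
    (e : Z ≅ Spec (CommRingCat.of Ω)) (p : P ⟶ Z) (R : Presieve Z)
    (hR1 : R ∈ Scheme.jointlySurjectivePrecoverage Z)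
    (hR2 : ∀ ⦃T' : Scheme.{u}⦄ (g : T' ⟶ Z), R g → LocallyOfFiniteType g)
    (hsec : ∀ ⦃T' : Scheme.{u}⦄ (g : T' ⟶ Z), R g → ∃ s : T' ⟶ P, s ≫ p = g) :
    ∃ σ : Z ⟶ P, σ ≫ p = 𝟙 Z := by
  have h1 := hR1
  rw [Scheme.jointlySurjectivePrecoverage,
    Presieve.mem_comap_jointlySurjectivePrecoverage_iff] at h1
  have hne : Nonempty ↥Z := ⟨e.inv (IsLocalRing.closedPoint Ω)⟩
  obtain ⟨z⟩ := hne
  obtain ⟨T', g, hg, t', -⟩ := h1 z
  obtain ⟨s₀, hs₀⟩ := hsec g hg
  have hlft0 : LocallyOfFiniteType g := hR2 g hg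
  have hlft : LocallyOfFiniteType (g ≫ e.hom) := inferInstance
  have hJ : JacobsonSpace ↥T' := LocallyOfFiniteType.jacobsonSpace (g ≫ e.hom)
  obtain ⟨x', -, hx'⟩ := nonempty_inter_closedPoints (X := ↥T') (Z := Set.univ) ⟨t', trivial⟩
    isOpen_univ.isLocallyClosed
  let τ : Spec (CommRingCat.of Ω) ⟶ T' := pointOfClosedPoint (g ≫ e.hom) x' hx'
  have hτ : τ ≫ g ≫ e.hom = 𝟙 _ := pointOfClosedPoint_comp (g ≫ e.hom) x' hx'
  refine ⟨e.hom ≫ τ ≫ s₀, ?_⟩
  rw [Category.assoc, Category.assoc, hs₀]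
  have : τ ≫ g = e.inv := by
    rw [← cancel_mono e.hom, Category.assoc, hτ, Iso.inv_hom_id]
  rw [this, Iso.hom_inv_id]

end AlgClosed

section Geom

variable {S : Scheme.{u}} {G : Over S} [GrpObj G] {X : Over S} (aX : AlgGrp.Action G X)

/-- an etale torsor over the spectrum of an algebraically closed field has a section. -/
theorem exists_section_of_base_eq_etale {Ω : Type u} [Field Ω] [IsAlgClosed Ω]
    (T : Over S) (eT : T.left ≅ Spec (CommRingCat.of Ω))
    (A : AlgSt.QuotObj Scheme.etalePrecoverage G aX)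
    (hA : A.base = T) :
    ∃ s : T ⟶ A.P, s ≫ A.π = eqToHom hA.symm := by
  subst hA
  obtain ⟨R, hR, hsec⟩ := A.loc
  obtain ⟨σ, hσ⟩ := exists_section_of_algClosed' eT A.π.left R hR.1
    (fun T' g hg => by
      have : Etale g := hR.2 hg
      infer_instance) hsec
  have hw : A.π.left ≫ A.base.hom = A.P.hom := Over.w A.π
  refine ⟨Over.homMk σ ?_, ?_⟩
  · rw [← hw, reassoc_of% hσ]
  · apply Over.OverMorphism.ext
    exact hσ

variable (K : Precoverage Scheme.{u}) [K.HasIsos]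

/-- two objects of `[X/G]` over `T` with chosen sections are isomorphic over `T` iff the
corresponding `T`-points of `X` are in one `G(T)`-orbit. -/
theorem exists_iso_iff_of_sections {T : Over S} (A B : AlgSt.QuotObj K G aX)
    (hA' : A.base = T) (hB' : B.base = T)
    (tA : T ⟶ A.P) (tB : T ⟶ B.P) (htA : tA ≫ A.π = eqToHom hA'.symm)
    (htB : tB ≫ B.π = eqToHom hB'.symm) :
    (∃ θ : A ≅ B, (AlgSt.QuotSt K G aX).p.IsHomLift (𝟙 T) θ.hom) ↔
      ∃ g : T ⟶ G, lift g (tA ≫ A.φ) ≫ aX.act = tB ≫ B.φ := by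
  let kA := homOfSection K aX A tA
  let kB := homOfSection K aX B tB
  have ikA : IsIso kA := by
    have : IsIso kA.base := by
      show IsIso (tA ≫ A.π)
      rw [htA]; infer_instance
    exact isIso_of_isIso_base _
  have ikB : IsIso kB := by
    have : IsIso kB.base := by
      show IsIso (tB ≫ B.π)
      rw [htB]; infer_instance
    exact isIso_of_isIso_base _
  have e1 : (AlgSt.QuotSt K G aX).p.IsHomLift (𝟙 T) kA :=
    isHomLift_id_of_base aX kA rfl hA' (htA.trans (eqToHom_symm_aux hA'))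
  have e2 : (AlgSt.QuotSt K G aX).p.IsHomLift (𝟙 T) kB :=
    isHomLift_id_of_base aX kB rfl hB' (htB.trans (eqToHom_symm_aux hB'))
  constructor
  · rintro ⟨θ, hθ⟩
    have hθb : θ.hom.base = eqToHom hA' ≫ 𝟙 T ≫ eqToHom hB'.symm :=
      IsHomLift.fac' (AlgSt.QuotSt K G aX).p (𝟙 T) θ.hom
    let m : triv K aX (tA ≫ A.φ) ⟶ B := kA ≫ θ.hom
    let h : triv K aX (tB ≫ B.φ) ⟶ triv K aX (tA ≫ A.φ) := kB ≫ inv m
    have hm : h ≫ m = kB := by simp [h]
    have hb : h.base ≫ m.base = kB.base := by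
      rw [← AlgSt.QuotObj.comp_base, hm]
    have hmb : m.base = eqToHom hB'.symm := by
      change (tA ≫ A.π) ≫ θ.hom.base = _
      rw [htA, hθb, Category.id_comp, eqToHom_trans_assoc, eqToHom_refl, Category.id_comp]
    have hkb : kB.base = eqToHom hB'.symm := htB
    have hb1 : h.base = 𝟙 T := by
      rw [hmb, hkb] at hb
      exact (cancel_mono (eqToHom hB'.symm)).1 (hb.trans (Category.id_comp _).symm)
    refine ⟨homElt K aX h, ?_⟩
    have h5 : h.base ≫ tA ≫ A.φ = tA ≫ A.φ := by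
      rw [hb1]; exact Category.id_comp _
    have h6 := hom_elt_act K aX h
    exact (congrArg (fun z => lift (homElt K aX h) z ≫ aX.act) h5).symm.trans h6
  · rintro ⟨g, hg⟩
    let τ := trivHom K aX (𝟙 T) (tB ≫ B.φ) (tA ≫ A.φ) g
      (by rw [Category.id_comp]; exact hg)
    have iτ : IsIso τ := by
      have : IsIso τ.base := by
        show IsIso (𝟙 T)
        infer_instance
      exact isIso_of_isIso_base _
    let θ : B ≅ A := (asIso kB).symm ≪≫ asIso τ ≪≫ asIso kA
    have hθ : (AlgSt.QuotSt K G aX).p.IsHomLift (𝟙 T) θ.hom := by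
      have e3 : (AlgSt.QuotSt K G aX).p.IsHomLift (𝟙 T) τ :=
        isHomLift_id_of_base aX τ rfl rfl (by
          change 𝟙 _ = 𝟙 _ ≫ 𝟙 _
          rw [Category.comp_id])
      have e4 : (AlgSt.QuotSt K G aX).p.IsHomLift (𝟙 T) (inv kB) :=
        IsHomLift.lift_id_inv_isIso _ _ _
      change (AlgSt.QuotSt K G aX).p.IsHomLift (𝟙 T) (inv kB ≫ τ ≫ kA)
      infer_instance
    have hθ' : (AlgSt.QuotSt K G aX).p.IsHomLift (𝟙 T) θ.inv :=
      IsHomLift.lift_id_inv _ _ _
    exact ⟨θ.symm, hθ'⟩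

/-- two objects of the fibre of `[X/G]` over `T` with chosen sections are isomorphic iff the
corresponding `T`-points of `X` are in one `G(T)`-orbit. -/
theorem nonempty_iso_fiber_iff {T : Over S} (A B : (AlgSt.QuotObj.forget K G aX).Fiber T)
    (tA : T ⟶ A.1.P) (tB : T ⟶ B.1.P) (htA : tA ≫ A.1.π = eqToHom A.2.symm)
    (htB : tB ≫ B.1.π = eqToHom B.2.symm) :
    Nonempty (A ≅ B) ↔ ∃ g : T ⟶ G, lift g (tA ≫ A.1.φ) ≫ aX.act = tB ≫ B.1.φ := by
  rw [← exists_iso_iff_of_sections aX K A.1 B.1 A.2 B.2 tA tB htA htB]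
  constructor
  · rintro ⟨θ⟩
    refine ⟨⟨θ.hom.1, θ.inv.1, ?_, ?_⟩, θ.hom.2⟩
    · exact congrArg Subtype.val θ.hom_inv_id
    · exact congrArg Subtype.val θ.inv_hom_id
  · rintro ⟨θ, hθ⟩
    have hθ' : (AlgSt.QuotSt K G aX).p.IsHomLift (𝟙 T) θ.inv :=
      IsHomLift.lift_id_inv _ _ _
    exact ⟨{ hom := ⟨θ.hom, hθ⟩
             inv := ⟨θ.inv, hθ'⟩
             hom_inv_id := Subtype.ext θ.hom_inv_id
             inv_hom_id := Subtype.ext θ.inv_hom_id }⟩

/-- every `T`-point of `X` comes from the trivial torsor. -/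
theorem exists_fiber_of_point {T : Over S} (x : T ⟶ X) :
    ∃ (A : (AlgSt.QuotObj.forget K G aX).Fiber T) (t : T ⟶ A.1.P),
      t ≫ A.1.π = eqToHom A.2.symm ∧ t ≫ A.1.φ = x := by
  refine ⟨⟨triv K aX x, rfl⟩, unitSec T, ?_, ?_⟩
  · change lift _ _ ≫ snd G T = 𝟙 _
    rw [lift_snd]
  · exact unitSec_whiskerLeft_act aX x

end Geom

end Groth.Agent.Lib.Helper15Quot
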