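-- helper15: RepWith P from an etale chart for P descending along fppf morphisms (no IsLocalAtTarget fppf instance needed).
import Mathlib
import Groth.Prelude.Def_AlgSp
import Groth.Agent.S9883

set_option autoImplicit false
open CategoryTheory CategoryTheory.Limits AlgebraicGeometry Opposite

universe u

namespace Groth.Agent.Lib.Helper15RepWithChart

variable {S : Scheme.{u}}

/-- descent of `P` for a representable morphism along an etale surjective chart, for a property
descending along fppf morphisms (variant of `S9883.repWith_of_chart`). -/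
lemma repWith_of_chart_of_descendsAlong {F G : AlgSp.Sp S} (f : F ⟶ G) (hf : AlgSp.Representable f)
    {U V : Over S} (q : (AlgSp.yon S).obj U ⟶ G) (hqe : AlgSp.RepWith @Etale q)
    (hqs : AlgSp.RepWith @Surjective q) (fst : (AlgSp.yon S).obj V ⟶ F) (g : V ⟶ U)
    (sq : IsPullback fst ((AlgSp.yon S).map g) f q) (P : MorphismProperty Scheme.{u})
    [P.IsStableUnderBaseChange]
    (hP : P.DescendsAlong
      (@Surjective ⊓ @Flat ⊓ @LocallyOfFinitePresentation : MorphismProperty Scheme.{u}))
    (hg : P g.left) : AlgSp.RepWith P f := by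
  refine MorphismProperty.relative.of_exists (fun T c => ?_)
  obtain ⟨W, w, a', sqW⟩ := hf c
  obtain ⟨a, rfl⟩ : ∃ a, a' = a := ⟨_, rfl⟩
  refine ⟨W, a', w, sqW, ?_⟩
  obtain ⟨T1, t1, u', sqT⟩ := hqe.1 c
  obtain ⟨u, rfl⟩ := (AlgSp.yon S).map_surjective u'
  have het : Etale t1.left := hqe.2 _ _ t1 sqT
  have hsu : Surjective t1.left := hqs.2 _ _ t1 sqT
  have hfl : Flat t1.left := inferInstance
  have hlfp : LocallyOfFinitePresentation t1.left := inferInstance
  have h1 : IsPullback ((AlgSp.yon S).map (pullback.fst w t1)) ((AlgSp.yon S).map (pullback.snd w t1))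
      ((AlgSp.yon S).map w) ((AlgSp.yon S).map t1) := (IsPullback.of_hasPullback w t1).map (AlgSp.yon S)
  have h2 : IsPullback ((AlgSp.yon S).map (pullback.fst g u)) ((AlgSp.yon S).map (pullback.snd g u))
      ((AlgSp.yon S).map g) ((AlgSp.yon S).map u) := (IsPullback.of_hasPullback g u).map (AlgSp.yon S)
  have h1' := h1.paste_horiz sqW
  have h2' := h2.paste_horiz sq
  rw [← sqT.w] at h1'
  obtain ⟨e, he⟩ := Groth.Agent.S9883.exists_iso_of_isPullback h1' h2'
  have hV : P (pullback.snd g u).left :=
    P.of_isPullback ((IsPullback.of_hasPullback g u).map (Over.forget S)) hg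
  have hW : P (pullback.snd w t1).left := by
    rw [← he]
    exact (P.cancel_left_of_respectsIso (e.hom.left) _).2 hV
  have hsq : IsPullback (pullback.fst w t1).left (pullback.snd w t1).left w.left t1.left :=
    (IsPullback.of_hasPullback w t1).map (Over.forget S)
  exact MorphismProperty.DescendsAlong.of_isPullback (P := P)
    (Q := (@Surjective ⊓ @Flat ⊓ @LocallyOfFinitePresentation : MorphismProperty Scheme.{u}))
    hsq.flip ⟨⟨hsu, hfl⟩, hlfp⟩ hW

end Groth.Agent.Lib.Helper15RepWithChart
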