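-- helper15: flatness descends along ring maps that become faithfully flat after a further map (pure descent of flatness).
import Mathlib

set_option autoImplicit false
universe u
open TensorProduct

namespace Groth.Agent.Lib.Helper15.Retract

section Ring

variable (A B C D : Type u) [CommRing A] [CommRing B] [CommRing C] [CommRing D]
  [Algebra A B] [Algebra A C] [Algebra A D] [Algebra B C] [Algebra B D] [Algebra C D]
  [IsScalarTower A B C] [IsScalarTower A B D] [IsScalarTower A C D] [IsScalarTower B C D]

theorem rTensor_injective_of_faithfullyFlat [Module.FaithfullyFlat B D]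
    (P : Type u) [AddCommGroup P] [Module A P] :
    Function.Injective (LinearMap.rTensor P (IsScalarTower.toAlgHom A B D).toLinearMap) := by
  have h1 : Function.Injective (TensorProduct.mk B D (B ⊗[A] P) 1) :=
    Module.FaithfullyFlat.tensorProduct_mk_injective (A := B) (B := D) (B ⊗[A] P)
  have h2 : ∀ x : B ⊗[A] P,
      (TensorProduct.AlgebraTensorModule.cancelBaseChange A B D D P) (TensorProduct.mk B D (B ⊗[A] P) 1 x) =
        LinearMap.rTensor P (IsScalarTower.toAlgHom A B D).toLinearMap x := by
    intro x
    induction x using TensorProduct.induction_on with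
    | zero => simp only [map_zero]
    | tmul b p =>
      rw [TensorProduct.mk_apply, TensorProduct.AlgebraTensorModule.cancelBaseChange_tmul,
        LinearMap.rTensor_tmul]
      simp [Algebra.smul_def]
    | add x y hx hy =>
      rw [map_add, map_add, map_add, hx, hy]
  intro x y hxy
  apply h1
  apply (TensorProduct.AlgebraTensorModule.cancelBaseChange A B D D P).injective
  rw [h2, h2, hxy]

theorem flat_of_factor [Module.Flat A C] [Module.FaithfullyFlat B D] : Module.Flat A B := by
  rw [Module.Flat.iff_lTensor_injectiveₛ]
  intro P _ _ N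
  let _ : AddCommGroup P := Module.addCommMonoidToAddCommGroup A
  rw [injective_iff_map_eq_zero]
  intro x hx
  have hθ : (IsScalarTower.toAlgHom A B D).toLinearMap =
      (IsScalarTower.toAlgHom A C D).toLinearMap ∘ₗ (IsScalarTower.toAlgHom A B C).toLinearMap := by
    ext b
    simp only [AlgHom.toLinearMap_apply, LinearMap.comp_apply, IsScalarTower.coe_toAlgHom']
    exact IsScalarTower.algebraMap_apply B C D b
  have h1 : LinearMap.lTensor C N.subtype
      (LinearMap.rTensor N (IsScalarTower.toAlgHom A B C).toLinearMap x) = 0 := by
    have h : (LinearMap.lTensor C N.subtype) ∘ₗ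
        (LinearMap.rTensor N (IsScalarTower.toAlgHom A B C).toLinearMap) =
        (LinearMap.rTensor P (IsScalarTower.toAlgHom A B C).toLinearMap) ∘ₗ
          (LinearMap.lTensor B N.subtype) := by
      rw [LinearMap.lTensor_comp_rTensor, LinearMap.rTensor_comp_lTensor]
    have h' := LinearMap.congr_fun h x
    rw [LinearMap.comp_apply, LinearMap.comp_apply, hx, map_zero] at h'
    exact h'
  have h2 : LinearMap.rTensor N (IsScalarTower.toAlgHom A B C).toLinearMap x = 0 := by
    have hinj : Function.Injective (LinearMap.lTensor C N.subtype) :=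
      Module.Flat.lTensor_preserves_injective_linearMap (M := C) N.subtype N.injective_subtype
    exact (injective_iff_map_eq_zero _).1 hinj _ h1
  have h3 : LinearMap.rTensor N (IsScalarTower.toAlgHom A B D).toLinearMap x = 0 := by
    rw [hθ, LinearMap.rTensor_comp, LinearMap.comp_apply, h2, map_zero]
  exact (injective_iff_map_eq_zero _).1 (rTensor_injective_of_faithfullyFlat A B D N) x h3

end Ring

/-- Ring hom version. -/
theorem _root_.RingHom.Flat.of_factor {A B C D : Type u} [CommRing A] [CommRing B] [CommRing C]
    [CommRing D] (φ : A →+* B) (ψ : B →+* C) (χ : C →+* D) (h1 : (ψ.comp φ).Flat)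
    (h2 : (χ.comp ψ).FaithfullyFlat) : φ.Flat := by
  letI := φ.toAlgebra
  letI := ψ.toAlgebra
  letI := χ.toAlgebra
  letI := (ψ.comp φ).toAlgebra
  letI := (χ.comp ψ).toAlgebra
  letI := (χ.comp (ψ.comp φ)).toAlgebra
  haveI : IsScalarTower A B C := IsScalarTower.of_algebraMap_eq' rfl
  haveI : IsScalarTower B C D := IsScalarTower.of_algebraMap_eq' rfl
  haveI : IsScalarTower A C D := IsScalarTower.of_algebraMap_eq' rfl
  haveI : IsScalarTower A B D := IsScalarTower.of_algebraMap_eq' rfl
  haveI : Module.Flat A C := h1
  haveI : Module.FaithfullyFlat B D := h2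
  exact flat_of_factor A B C D

end Groth.Agent.Lib.Helper15.Retract
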