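-- helper15: scheme-level section lemmas (flat via stalks).
import Mathlib
import Groth.Agent.Lib.Helper15RetractRing

set_option autoImplicit false
universe u
open CategoryTheory CategoryTheory.Limits AlgebraicGeometry

namespace Groth.Agent.Lib.Helper15.Retract

/-- If `τ ≫ ρ` is flat and surjective and `ρ ≫ κ` is flat then `κ` is flat. -/
theorem flat_of_section {U' T' T'' V : Scheme.{u}} (ρ : U' ⟶ T') (κ : T' ⟶ V) (τ : T'' ⟶ U')
    [Flat (τ ≫ ρ)] [Surjective (τ ≫ ρ)] [Flat (ρ ≫ κ)] : Flat κ := by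
  rw [Flat.iff_flat_stalkMap]
  intro t'
  obtain ⟨t'', rfl⟩ := (τ ≫ ρ).surjective t'
  have e1 : ((ρ ≫ κ).stalkMap (τ t'')).hom =
      ((ρ.stalkMap (τ t'')).hom).comp ((κ.stalkMap (ρ (τ t''))).hom) := by
    rw [Scheme.Hom.stalkMap_comp]; rfl
  have e2 : ((τ ≫ ρ).stalkMap t'').hom =
      (τ.stalkMap t'').hom.comp (ρ.stalkMap (τ t'')).hom := by
    rw [Scheme.Hom.stalkMap_comp]; rfl
  have h1 : (((ρ.stalkMap (τ t'')).hom).comp ((κ.stalkMap (ρ (τ t''))).hom)).Flat := by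
    rw [← e1]; exact Flat.stalkMap (ρ ≫ κ) (τ t'')
  have h2' : ((τ ≫ ρ).stalkMap t'').hom.FaithfullyFlat := by
    algebraize [((τ ≫ ρ).stalkMap t'').hom]
    exact @Module.FaithfullyFlat.of_flat_of_isLocalHom _ _ _ _ _ _ _
      (Flat.stalkMap (τ ≫ ρ) t'') ((τ ≫ ρ).toLRSHom.prop t'')
  have h2 : ((τ.stalkMap t'').hom.comp (ρ.stalkMap (τ t'')).hom).FaithfullyFlat := by
    rw [e2] at h2'
    exact h2'
  exact RingHom.Flat.of_factor _ _ _ h1 h2

end Groth.Agent.Lib.Helper15.Retract
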