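-- helper15: properties of h from properties of g ≫ h when g is an epimorphism of fppf sheaves (section/retract argument).
import Mathlib
import Groth.Agent.Lib.Helper15RetractSch
import Groth.Agent.Lib.Helper15DiagLfp
import Groth.Agent.Lib.Helper12EpiDescent
import Groth.Agent.S5938
import Groth.Agent.S0114
import Groth.Agent.S9874

set_option autoImplicit false
universe u
open CategoryTheory CategoryTheory.Limits AlgebraicGeometry
open AlgSp

namespace Groth.Agent.Lib.Helper15.Retract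

section Sch

theorem lft_of_section {U' T' T'' V : Scheme.{u}} (ρ : U' ⟶ T') (κ : T' ⟶ V) (τ : T'' ⟶ U')
    [Etale (τ ≫ ρ)] [Surjective (τ ≫ ρ)] [LocallyOfFiniteType (ρ ≫ κ)] :
    LocallyOfFiniteType κ := by
  haveI : LocallyOfFiniteType τ := locallyOfFiniteType_of_comp τ ρ
  haveI : LocallyOfFiniteType ((τ ≫ ρ) ≫ κ) := by rw [Category.assoc]; infer_instance
  exact Groth.Agent.S5938.result (τ ≫ ρ) κ

theorem lfp_of_section {U' T' T'' V : Scheme.{u}} (ρ : U' ⟶ T') (κ : T' ⟶ V) (τ : T'' ⟶ U')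
    [Etale (τ ≫ ρ)] [Surjective (τ ≫ ρ)] [LocallyOfFiniteType ρ]
    [LocallyOfFinitePresentation (ρ ≫ κ)] : LocallyOfFinitePresentation κ := by
  haveI : LocallyOfFinitePresentation τ :=
    Groth.Agent.Lib.Helper15.DiagLfp.lfp_of_comp_of_lft τ ρ inferInstance inferInstance
  haveI : LocallyOfFinitePresentation ((τ ≫ ρ) ≫ κ) := by rw [Category.assoc]; infer_instance
  exact Groth.Agent.S0114.result (τ ≫ ρ) κ

end Sch

variable {S : Scheme.{u}}

/-- The core step: a chart point of `Y` which lifts to `X` through a flat finitely presented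
cover. -/
theorem core (P Q : MorphismProperty Scheme.{u}) [Q.IsStableUnderBaseChange]
    (hcomp : ∀ {A B C : Scheme.{u}} (q : A ⟶ B) (m : B ⟶ C), Flat q →
      LocallyOfFinitePresentation q → P m → P (q ≫ m))
    (hsec : ∀ {U' T' T'' V : Scheme.{u}} (ρ : U' ⟶ T') (κ : T' ⟶ V) (τ : T'' ⟶ U'),
      Etale (τ ≫ ρ) → Surjective (τ ≫ ρ) → Q ρ → P (ρ ≫ κ) → P κ)
    {X Y Z : AlgSp.Space S} (g : X ⟶ Y) (h : Y ⟶ Z)
    (hgQ : AlgSp.LocP Q g.hom) (hgh : AlgSp.LocP P (g ≫ h).hom)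
    {V T : Over S} (c : (AlgSp.yon S).obj V ⟶ Z.obj) (hc : AlgSp.RepWith @Etale c)
    (bV : (AlgSp.yon S).obj T ⟶ pullback h.hom c) (hbV : AlgSp.RepWith @Etale bV)
    (k : T ⟶ V) (hk : (AlgSp.yon S).map k = bV ≫ pullback.snd h.hom c)
    {Tio : Over S} (ti : Tio ⟶ T) (htfl : Flat ti.left)
    (htfp : LocallyOfFinitePresentation ti.left)
    (x : (AlgSp.yon S).obj Tio ⟶ X.obj)
    (hx : x ≫ g.hom = (AlgSp.yon S).map ti ≫ bV ≫ pullback.fst h.hom c) :
    P (ti ≫ k).left := by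
  have hfstY : AlgSp.RepWith @Etale (pullback.fst h.hom c) :=
    MorphismProperty.of_isPullback (P := AlgSp.RepWith @Etale)
      (IsPullback.of_hasPullback h.hom c).flip hc
  have hb : AlgSp.RepWith @Etale (bV ≫ pullback.fst h.hom c) :=
    (AlgSp.RepWith @Etale).comp_mem _ _ hbV hfstY
  have comm : (bV ≫ pullback.fst h.hom c) ≫ h.hom = (AlgSp.yon S).map k ≫ c := by
    rw [hk, Category.assoc, Category.assoc, pullback.condition]
  have hXV : AlgSp.IsAlgSpace (pullback (g.hom ≫ h.hom) c) :=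
    Groth.Agent.S9874.isAlgSpace_of_isPullback Z.property.diag X.property
      (AlgSp.IsAlgSpace.yon_obj V) (IsPullback.of_hasPullback (g.hom ≫ h.hom) c)
  obtain ⟨U, a', ha', ha's⟩ := hXV.atlas
  have hξc : x ≫ (g.hom ≫ h.hom) = (AlgSp.yon S).map (ti ≫ k) ≫ c := by
    rw [← Category.assoc, hx, Functor.map_comp]
    simp only [Category.assoc]
    rw [← comm]
    simp only [Category.assoc]
  obtain ⟨T'', e, u', sq⟩ := ha'.1 (pullback.lift x ((AlgSp.yon S).map (ti ≫ k)) hξc)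
  obtain ⟨u, rfl⟩ := (AlgSp.yon S).map_surjective u'
  have he : Etale e.left := ha'.2 _ _ e sq
  have hes : Surjective e.left := ha's.2 _ _ e sq
  obtain ⟨m, hm⟩ := (AlgSp.yon S).map_surjective (a' ≫ pullback.snd (g.hom ≫ h.hom) c)
  have hfstX : AlgSp.RepWith @Etale (pullback.fst (g.hom ≫ h.hom) c) :=
    MorphismProperty.of_isPullback (P := AlgSp.RepWith @Etale)
      (IsPullback.of_hasPullback (g.hom ≫ h.hom) c).flip hc
  have hPm : P m.left := hgh (a' ≫ pullback.fst (g.hom ≫ h.hom) c) c m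
    ((AlgSp.RepWith @Etale).comp_mem _ _ ha' hfstX) hc
    (by rw [hm, Category.assoc, Category.assoc]; exact congrArg (a' ≫ ·) pullback.condition)
  -- the induced map X_V ⟶ Y_V
  let gV : pullback (g.hom ≫ h.hom) c ⟶ pullback h.hom c :=
    pullback.lift (pullback.fst (g.hom ≫ h.hom) c ≫ g.hom) (pullback.snd (g.hom ≫ h.hom) c)
      (by rw [Category.assoc]; exact pullback.condition)
  have hgV1 : gV ≫ pullback.fst h.hom c = pullback.fst (g.hom ≫ h.hom) c ≫ g.hom :=
    pullback.lift_fst _ _ _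
  have hgV2 : gV ≫ pullback.snd h.hom c = pullback.snd (g.hom ≫ h.hom) c :=
    pullback.lift_snd _ _ _
  obtain ⟨U₁, q₁, r₁', sq₁⟩ := hbV.1 (a' ≫ gV)
  obtain ⟨r₁, rfl⟩ := (AlgSp.yon S).map_surjective r₁'
  have hq₁ : Etale q₁.left := hbV.2 _ _ q₁ sq₁
  have hQr₁ : Q r₁.left := hgQ ((AlgSp.yon S).map q₁ ≫ a' ≫ pullback.fst (g.hom ≫ h.hom) c)
    (bV ≫ pullback.fst h.hom c) r₁
    ((AlgSp.RepWith @Etale).comp_mem _ _ ((AlgSp.repWith_yon_map_iff _ _).2 hq₁)
      ((AlgSp.RepWith @Etale).comp_mem _ _ ha' hfstX)) hb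
    (by
      have := sq₁.w
      simp only [Category.assoc] at this ⊢
      rw [← hgV1, reassoc_of% this])
  -- the scheme U' = U₁ ×_T Ti
  have hsqU' : IsPullback (pullback.fst r₁ ti).left (pullback.snd r₁ ti).left r₁.left ti.left :=
    (IsPullback.of_hasPullback r₁ ti).map (Over.forget S)
  have hq'fl : Flat (pullback.fst r₁ ti).left :=
    MorphismProperty.of_isPullback (P := @Flat) hsqU'.flip htfl
  have hq'fp : LocallyOfFinitePresentation (pullback.fst r₁ ti).left :=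
    MorphismProperty.of_isPullback (P := @LocallyOfFinitePresentation) hsqU'.flip htfp
  have hQρ : Q (pullback.snd r₁ ti).left :=
    MorphismProperty.of_isPullback (P := Q) hsqU' hQr₁
  -- the section
  have hξgV : pullback.lift x ((AlgSp.yon S).map (ti ≫ k)) hξc ≫ gV =
      (AlgSp.yon S).map ti ≫ bV := by
    apply pullback.hom_ext
    · rw [Category.assoc, hgV1, ← Category.assoc, pullback.lift_fst, hx, Category.assoc]
    · rw [Category.assoc, hgV2, pullback.lift_snd, Functor.map_comp, hk, Category.assoc]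
  have hcompat : (AlgSp.yon S).map (e ≫ ti) ≫ bV = (AlgSp.yon S).map u ≫ a' ≫ gV := by
    rw [← Category.assoc ((AlgSp.yon S).map u), sq.w, Category.assoc, hξgV, Functor.map_comp,
      Category.assoc]
  obtain ⟨τ₁, hτ₁⟩ := (AlgSp.yon S).map_surjective
    (sq₁.lift ((AlgSp.yon S).map (e ≫ ti)) ((AlgSp.yon S).map u) hcompat)
  have hτ₁r : τ₁ ≫ r₁ = e ≫ ti := (AlgSp.yon S).map_injective (by
    rw [Functor.map_comp, hτ₁, sq₁.lift_fst])
  have hτ₁q : τ₁ ≫ q₁ = u := (AlgSp.yon S).map_injective (by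
    rw [Functor.map_comp, hτ₁, sq₁.lift_snd])
  let τ : T'' ⟶ pullback r₁ ti := pullback.lift τ₁ e hτ₁r
  have hτρ : τ ≫ pullback.snd r₁ ti = e := pullback.lift_snd _ _ _
  -- strict compatibility
  have hr₁k : r₁ ≫ k = q₁ ≫ m := (AlgSp.yon S).map_injective (by
    have := sq₁.w
    rw [Functor.map_comp, Functor.map_comp, hk, hm, reassoc_of% this]
    rw [hgV2])
  have hstrict : pullback.snd r₁ ti ≫ (ti ≫ k) = pullback.fst r₁ ti ≫ q₁ ≫ m := by
    rw [← Category.assoc, ← pullback.condition, Category.assoc, hr₁k]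
  have hPw : P ((pullback.snd r₁ ti).left ≫ (ti ≫ k).left) := by
    have h1 : P (q₁.left ≫ m.left) := hcomp _ _ inferInstance inferInstance hPm
    have h2 : P ((pullback.fst r₁ ti).left ≫ q₁.left ≫ m.left) := hcomp _ _ hq'fl hq'fp h1
    have h3 := congrArg (fun f => f.left) hstrict
    simp only [Over.comp_left] at h3
    rw [Over.comp_left, h3]
    exact h2
  have heq : τ.left ≫ (pullback.snd r₁ ti).left = e.left := by
    rw [← Over.comp_left, hτρ]
  exact hsec (pullback.snd r₁ ti).left (ti ≫ k).left τ.left (by rw [heq]; exact he)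
    (by rw [heq]; exact hes) hQρ hPw

open Groth.Agent.Lib.Helper12.EpiDescent in
theorem locP_of_comp_of_epi (P Q : MorphismProperty Scheme.{u}) [Q.IsStableUnderBaseChange]
    (hone : ∀ {X Y : AlgSp.Space S} (f : X ⟶ Y) {U V : Over S}
      (a : (AlgSp.yon S).obj U ⟶ X.obj) (b : (AlgSp.yon S).obj V ⟶ Y.obj) (h : U ⟶ V),
      AlgSp.RepWith @Etale a → AlgSp.RepWith @Surjective a → AlgSp.RepWith @Etale b →
      a ≫ f.hom = (AlgSp.yon S).map h ≫ b → P h.left → AlgSp.LocP P f.hom)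
    (hcomp : ∀ {A B C : Scheme.{u}} (q : A ⟶ B) (m : B ⟶ C), Flat q →
      LocallyOfFinitePresentation q → P m → P (q ≫ m))
    (hdesc : ∀ {X Y : Scheme.{u}} (f : X ⟶ Y) (R : Presieve X), R ∈ Scheme.fppfPrecoverage X →
      (∀ {U : Scheme.{u}} (g : U ⟶ X), R g → P (g ≫ f)) → P f)
    (hsec : ∀ {U' T' T'' V : Scheme.{u}} (ρ : U' ⟶ T') (κ : T' ⟶ V) (τ : T'' ⟶ U'),
      Etale (τ ≫ ρ) → Surjective (τ ≫ ρ) → Q ρ → P (ρ ≫ κ) → P κ)
    {X Y Z : AlgSp.Space S} (g : X ⟶ Y) (h : Y ⟶ Z) [Epi g.hom]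
    (hgQ : AlgSp.LocP Q g.hom) (hgh : AlgSp.LocP P (g ≫ h).hom) : AlgSp.LocP P h.hom := by
  obtain ⟨V, c, hc, hcs⟩ := Z.property.atlas
  have hYV : AlgSp.IsAlgSpace (pullback h.hom c) :=
    Groth.Agent.S9874.isAlgSpace_of_isPullback Z.property.diag Y.property
      (AlgSp.IsAlgSpace.yon_obj V) (IsPullback.of_hasPullback h.hom c)
  obtain ⟨T, bV, hbV, hbVs⟩ := hYV.atlas
  have hfstY : AlgSp.RepWith @Etale (pullback.fst h.hom c) :=
    MorphismProperty.of_isPullback (P := AlgSp.RepWith @Etale)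
      (IsPullback.of_hasPullback h.hom c).flip hc
  have hfstYs : AlgSp.RepWith @Surjective (pullback.fst h.hom c) :=
    MorphismProperty.of_isPullback (P := AlgSp.RepWith @Surjective)
      (IsPullback.of_hasPullback h.hom c).flip hcs
  have hb : AlgSp.RepWith @Etale (bV ≫ pullback.fst h.hom c) :=
    (AlgSp.RepWith @Etale).comp_mem _ _ hbV hfstY
  have hbs : AlgSp.RepWith @Surjective (bV ≫ pullback.fst h.hom c) :=
    (AlgSp.RepWith @Surjective).comp_mem _ _ hbVs hfstYs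
  obtain ⟨k, hk⟩ := (AlgSp.yon S).map_surjective (bV ≫ pullback.snd h.hom c)
  have comm : (bV ≫ pullback.fst h.hom c) ≫ h.hom = (AlgSp.yon S).map k ≫ c := by
    rw [hk, Category.assoc, Category.assoc, pullback.condition]
  refine hone h (bV ≫ pullback.fst h.hom c) c k hb hbs hc comm ?_
  obtain ⟨R, hR, hlift⟩ := exists_cover_of_epi g.hom (bV ≫ pullback.fst h.hom c)
  refine hdesc k.left R hR (fun {Ti} t ht => ?_)
  obtain ⟨x, hx⟩ := hlift t ht
  have htfl : (@Flat ⊓ @LocallyOfFinitePresentation : MorphismProperty Scheme.{u}) t := hR.2 ht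
  exact core P Q hcomp hsec g h hgQ hgh c hc bV hbV k hk
    (Over.homMk t rfl : Over.mk (t ≫ T.hom) ⟶ T) htfl.1 htfl.2 x hx

end Groth.Agent.Lib.Helper15.Retract
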