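-- helper15: flat / lft / lfp of h from g ≫ h with g an epimorphism of fppf sheaves.
import Mathlib
import Groth.Agent.Lib.Helper15RetractMain
import Groth.Agent.Lib.Helper15FppfSrc2
import Groth.Agent.Lib.Helper15FppfSrc
import Groth.Agent.S9947
import Groth.Agent.S9952
import Groth.Agent.S9844
import Groth.Agent.S1128

set_option autoImplicit false
universe u
open CategoryTheory CategoryTheory.Limits AlgebraicGeometry
open AlgSp

namespace Groth.Agent.Lib.Helper15.Retract

variable {S : Scheme.{u}}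

theorem locP_top {F G : AlgSp.Sp S} (f : F ⟶ G) :
    AlgSp.LocP (⊤ : MorphismProperty Scheme.{u}) f :=
  fun _ _ _ _ _ _ _ _ => trivial

theorem flat_of_comp_of_epi {X Y Z : AlgSp.Space S} (g : X ⟶ Y) (h : Y ⟶ Z) [Epi g.hom]
    (hgh : AlgSp.LocP @Flat (g ≫ h).hom) : AlgSp.LocP @Flat h.hom := by
  refine locP_of_comp_of_epi @Flat ⊤ ?_ ?_ ?_ ?_ g h (locP_top _) hgh
  · intro X Y f U V a b h ha has hb comm hh
    exact Groth.Agent.S9947.result @Flat (Or.inr (Or.inr (Or.inl rfl))) f a b h ha has hb comm hh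
  · intro A B C q m hq _ hm
    haveI := hq; haveI : Flat m := hm
    exact (inferInstance : Flat (q ≫ m))
  · intro X Y f R hR H
    exact Groth.Agent.Lib.Helper15FppfSrc2.desc_of_single @Flat (fun f q h1 h2 h3 h4 => by
      haveI := h1; haveI := h2; haveI : Flat (f ≫ q) := h4
      exact Groth.Agent.S1128.result f q) f R hR H
  · intro U' T' T'' V ρ κ τ h1 h2 _ h4
    haveI := h1; haveI := h2; haveI : Flat (ρ ≫ κ) := h4
    exact flat_of_section ρ κ τ

theorem lft_of_comp_of_epi {X Y Z : AlgSp.Space S} (g : X ⟶ Y) (h : Y ⟶ Z) [Epi g.hom]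
    (hgh : AlgSp.LocP @LocallyOfFiniteType (g ≫ h).hom) :
    AlgSp.LocP @LocallyOfFiniteType h.hom := by
  refine locP_of_comp_of_epi @LocallyOfFiniteType ⊤ ?_ ?_ ?_ ?_ g h (locP_top _) hgh
  · intro X Y f U V a b h ha has hb comm hh
    exact Groth.Agent.S9947.result @LocallyOfFiniteType (Or.inl rfl) f a b h ha has hb comm hh
  · intro A B C q m _ hq hm
    haveI := hq; haveI : LocallyOfFiniteType m := hm
    exact (inferInstance : LocallyOfFiniteType (q ≫ m))
  · intro X Y f R hR H
    exact (Groth.Agent.S9844.result).of_forall_comp hR (fun {U} {g} hg => H g hg)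
  · intro U' T' T'' V ρ κ τ h1 h2 _ h4
    haveI := h1; haveI := h2; haveI : LocallyOfFiniteType (ρ ≫ κ) := h4
    exact lft_of_section ρ κ τ

theorem lfp_of_comp_of_epi {X Y Z : AlgSp.Space S} (g : X ⟶ Y) (h : Y ⟶ Z) [Epi g.hom]
    (hgh : AlgSp.LocP @LocallyOfFinitePresentation (g ≫ h).hom) :
    AlgSp.LocP @LocallyOfFinitePresentation h.hom := by
  have hlft : AlgSp.LocP @LocallyOfFiniteType (g ≫ h).hom := by
    intro U V a b k ha hb hc
    haveI : LocallyOfFinitePresentation k.left := hgh a b k ha hb hc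
    exact (inferInstance : LocallyOfFiniteType k.left)
  have hg : AlgSp.LocP @LocallyOfFiniteType g.hom := Groth.Agent.S9952.result g h hlft
  refine locP_of_comp_of_epi @LocallyOfFinitePresentation @LocallyOfFiniteType ?_ ?_ ?_ ?_ g h
    hg hgh
  · intro X Y f U V a b h ha has hb comm hh
    exact Groth.Agent.S9947.result @LocallyOfFinitePresentation (Or.inr (Or.inl rfl)) f a b h
      ha has hb comm hh
  · intro A B C q m _ hq hm
    haveI := hq; haveI : LocallyOfFinitePresentation m := hm
    exact (inferInstance : LocallyOfFinitePresentation (q ≫ m))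
  · intro X Y f R hR H
    exact (Groth.Agent.Lib.Helper15FppfSrc.lfp_isLocalAtSource_fppf).of_forall_comp hR
      (fun {U} {g} hg => H g hg)
  · intro U' T' T'' V ρ κ τ h1 h2 h3 h4
    haveI := h1; haveI := h2; haveI : LocallyOfFiniteType ρ := h3
    haveI : LocallyOfFinitePresentation (ρ ≫ κ) := h4
    exact lfp_of_section ρ κ τ

end Groth.Agent.Lib.Helper15.Retract
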