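-- helper15: cancellation of separatedness along a flat, finitely presented, surjective, universally injective functor
import Mathlib
import Groth.Agent.Lib.Helper15DiagCancel
import Groth.Agent.Lib.Helper15DiagFpMap
import Groth.Agent.Lib.Helper15DiagInertia
import Groth.Agent.Lib.Helper15RepDescent
import Groth.Agent.S12979
import Groth.Agent.S12828
import Groth.Agent.S12831
import Groth.Agent.S12825

set_option autoImplicit false
set_option backward.isDefEq.respectTransparency false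
set_option backward.isDefEq.respectTransparency.types false
open CategoryTheory CategoryTheory.Functor CategoryTheory.Limits Opposite AlgebraicGeometry

universe u

namespace Groth.Agent.Lib.Helper15SepCancel

open Groth.Agent.Lib.Helper17 Groth.Agent.Lib.Helper15PshFib Groth.Agent.Lib.Helper15RepComp
  Groth.Agent.Lib.Helper15RepPsh Groth.Agent.Lib.Helper15DiagBase Groth.Agent.Lib.Helper15DiagRepSp
  Groth.Agent.Lib.Helper15Descent Groth.Agent.Lib.Helper15DiagLft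
  Groth.Agent.Lib.Helper15DiagDescent Groth.Agent.Lib.Helper15SpMapRep
  Groth.Agent.Lib.Helper15PtsComp Groth.Agent.Lib.Helper15PtsTop Groth.Agent.Lib.Helper15PtsQc
  Groth.Agent.Lib.Helper15UnivPts Groth.Agent.Lib.Helper15GoodComp
  Groth.Agent.Lib.Helper15RepDescent Groth.Agent.Lib.Helper15DiagSq
  Groth.Agent.Lib.Helper15DiagBridge Groth.Agent.Lib.Helper15DiagApps
  Groth.Agent.Lib.Helper15DiagComp Groth.Agent.Lib.Helper15DiagFpMap
  Groth.Agent.Lib.Helper15DiagCancel Groth.Agent.Lib.Helper15DiagInertia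
  Groth.Agent.Lib.Helper15Atlas Groth.Agent.Lib.Helper15LocQEngine
  Groth.Agent.Lib.Helper15SrcCancel

section A

variable {S : Scheme.{u}} {𝒳 𝒴 𝒵 : AlgSt.Cat S}

theorem isFppfCover_single_comp {U V W : Over S} (v : V ⟶ U) (w : W ⟶ V)
    (hv : AlgSp.IsFppfCover (fun _ : PUnit.{u + 1} => (AlgSp.yon S).obj V)
      (fun _ => (AlgSp.yon S).map v))
    (hw : AlgSp.IsFppfCover (fun _ : PUnit.{u + 1} => (AlgSp.yon S).obj W)
      (fun _ => (AlgSp.yon S).map w)) :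
    AlgSp.IsFppfCover (fun _ : PUnit.{u + 1} => (AlgSp.yon S).obj W)
      (fun _ => (AlgSp.yon S).map (w ≫ v)) := by
  obtain ⟨hv1, hv2⟩ := hv
  obtain ⟨hw1, hw2⟩ := hw
  refine ⟨fun _ => ?_, fun x => ?_⟩
  · rw [CategoryTheory.Functor.map_comp]
    exact ⟨locP_flat_comp (AlgSp.IsAlgSpace.yon_obj V) (AlgSp.IsAlgSpace.yon_obj U) _ _
        (hw1 PUnit.unit).1 (hv1 PUnit.unit).1,
      locP_lfp_comp (AlgSp.IsAlgSpace.yon_obj V) (AlgSp.IsAlgSpace.yon_obj U) _ _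
        (hw1 PUnit.unit).2 (hv1 PUnit.unit).2⟩
  · obtain ⟨_, x', hx'⟩ := hv2 x
    obtain ⟨_, x'', hx''⟩ := hw2 x'
    refine ⟨PUnit.unit, x'', ?_⟩
    rw [CategoryTheory.Functor.map_comp, AlgSp.Points.map_comp]
    change AlgSp.Points.map ((AlgSp.yon S).map v) (AlgSp.Points.map ((AlgSp.yon S).map w) x'') = x
    rw [← hx']
    exact congrArg _ hx''

/-- Local liftings along finitely many successive coverings give liftings along one covering. -/
theorem hasSchemeCovers_of_locLift (z : 𝒵 ⥤ᵇ 𝒴)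
    (hz : ∀ (U : Over S) (y : FibCat.overCat U ⥤ᵇ 𝒴), LocLift z U y) : HasSchemeCovers z := by
  intro U y
  have h := hz U y
  induction h with
  | base y t κ =>
    exact ⟨_, 𝟙 _, t, ⟨κ ≪≫ whiskerRightIso (overMapIdIso _) y⟩, isFppfCover_id _⟩
  | step y v hv _ ih =>
    obtain ⟨V', v', t, ⟨κ⟩, hcov⟩ := ih
    refine ⟨V', v' ≫ v, t, ⟨?_⟩, isFppfCover_single_comp v v' hv hcov⟩
    exact κ ≪≫ (whiskerRightIso (overMapCompIso v' v) y : BasedFunctor.comp (AlgSt.overMap v')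
      (BasedFunctor.comp (AlgSt.overMap v) y) ≅ _)

end A


section C

variable {S : Scheme.{u}} {𝒳 𝒴 𝒵 : AlgSt.Cat S}

/-- If `f` is surjective and `f ≫ q` is universally closed then `q` is universally closed. -/
theorem isUnivClosed_of_isSurjective_of_triangle
    (h𝒳 : AlgSt.IsAlgStack Scheme.fppfPrecoverage 𝒳)
    (h𝒴 : AlgSt.IsAlgStack Scheme.fppfPrecoverage 𝒴)
    (h𝒵 : AlgSt.IsAlgStack Scheme.fppfPrecoverage 𝒵)
    (f : 𝒳 ⥤ᵇ 𝒴) (p : 𝒳 ⥤ᵇ 𝒵) (q : 𝒴 ⥤ᵇ 𝒵) (e : BasedFunctor.comp f q ≅ p)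
    (hf : AlgSt.IsSurjective f) (hp : AlgSt.IsUnivClosed Scheme.fppfPrecoverage p) :
    AlgSt.IsUnivClosed Scheme.fppfPrecoverage q := by
  intro 𝒵' h𝒵' g'
  have h1 : IsClosedMap (AlgSt.Points.map (FibCat.fpFst g' p)) := hp 𝒵' h𝒵' g'
  have hpre := IsStack.isPrestack _ h𝒵.isStack
  have hWq : AlgSt.IsAlgStack Scheme.fppfPrecoverage (FibCat.fp g' q) :=
    isAlgStack_fp_of_isPrestack hpre h𝒵.diag h𝒵' h𝒴 g' q
  have hWp : AlgSt.IsAlgStack Scheme.fppfPrecoverage (FibCat.fp g' p) :=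
    isAlgStack_fp_of_isPrestack hpre h𝒵.diag h𝒵' h𝒳 g' p
  have hWfq : AlgSt.IsAlgStack Scheme.fppfPrecoverage (FibCat.fp g' (BasedFunctor.comp f q)) :=
    isAlgStack_fp_of_isPrestack hpre h𝒵.diag h𝒵' h𝒳 g' (BasedFunctor.comp f q)
  have hWW : AlgSt.IsAlgStack Scheme.fppfPrecoverage (FibCat.fp (FibCat.fpSnd g' q) f) :=
    isAlgStack_fp_of_isPrestack (IsStack.isPrestack _ h𝒴.isStack) h𝒴.diag hWq h𝒳
      (FibCat.fpSnd g' q) f
  have : (BasedFunctor.id 𝒵).toFunctor.Full := inferInstanceAs (𝟭 𝒵.obj).Full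
  have : (BasedFunctor.id 𝒵).toFunctor.Faithful := inferInstanceAs (𝟭 𝒵.obj).Faithful
  let E₁ : FibCat.fp g' (BasedFunctor.comp f q) ⥤ᵇ FibCat.fp g' p :=
    fpMap g' p g' (BasedFunctor.comp f q) (BasedFunctor.id _)
      (BasedFunctor.id _) (BasedFunctor.id _) (Iso.refl _) e
  have hE₁ : FibCat.IsEquivOver E₁ := isEquivOver_fpMap g' p g' (BasedFunctor.comp f q)
    (BasedFunctor.id _) (BasedFunctor.id _) (BasedFunctor.id _) (Iso.refl _) e (isEquivOver_id _)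
    (isEquivOver_id _)
  have hh1 := isHomeomorph_of_isEquivOver hWfq hWp E₁ hE₁
  have hh2 := isHomeomorph_of_isEquivOver hWW hWfq (pasteR g' f q) (isEquivOver_pasteR g' f q)
  have hσ : Function.Surjective (AlgSt.Points.map (FibCat.fpFst (FibCat.fpSnd g' q) f)) :=
    Groth.Agent.S12825.result h𝒳 h𝒴 hWq f (FibCat.fpSnd g' q) hf
  have hσc : Continuous (AlgSt.Points.map (FibCat.fpFst (FibCat.fpSnd g' q) f)) :=
    continuous_points_map hWq _
  refine IsClosedMap.of_comp_surjective hσ hσc ?_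
  have hcomp : AlgSt.Points.map (FibCat.fpFst g' q) ∘
      AlgSt.Points.map (FibCat.fpFst (FibCat.fpSnd g' q) f) =
      AlgSt.Points.map (FibCat.fpFst g' p) ∘ (AlgSt.Points.map E₁ ∘
        AlgSt.Points.map (pasteR g' f q)) := by
    funext x
    change AlgSt.Points.map (FibCat.fpFst g' q)
        (AlgSt.Points.map (FibCat.fpFst (FibCat.fpSnd g' q) f) x) =
      AlgSt.Points.map (FibCat.fpFst g' p) (AlgSt.Points.map E₁
        (AlgSt.Points.map (pasteR g' f q) x))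
    rw [← points_map_comp, ← points_map_comp, ← points_map_comp]
    exact points_map_congr _ _ (Iso.refl _) x
  rw [hcomp]
  exact h1.comp (hh1.isClosedMap.comp hh2.isClosedMap)

end C


section B

variable {S : Scheme.{u}} {𝒜 𝒳 𝒴 𝒵 : AlgSt.Cat S}

/-- The relative product `𝒜 ×_𝒵 𝒳 ⟶ 𝒴 ×_𝒵 𝒴` of two functors with `P` has `P`. -/
theorem repByAlgSpWith_relProd (h𝒜 : FibCat.IsFibGrpd 𝒜.p) (h𝒳 : FibCat.IsFibGrpd 𝒳.p)
    (h𝒴 : FibCat.IsFibGrpd 𝒴.p) (h𝒵 : FibCat.IsFibGrpd 𝒵.p)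
    (P : MorphismProperty (AlgSp.Sp S)) (hP : CompCond P)
    (y : 𝒜 ⥤ᵇ 𝒴) (f : 𝒳 ⥤ᵇ 𝒴) (g : 𝒴 ⥤ᵇ 𝒵)
    (hy : AlgSt.RepByAlgSpWith P y) (hf : AlgSt.RepByAlgSpWith P f) :
    AlgSt.RepByAlgSpWith P (relProd y f g) := by
  have hA : FibCat.IsFibGrpd (FibCat.fp (BasedFunctor.comp y g) (BasedFunctor.comp f g)).p :=
    isFibGrpd_fp _ _ h𝒜 h𝒳 h𝒵
  have hM : FibCat.IsFibGrpd (FibCat.fp g (BasedFunctor.comp f g)).p :=
    isFibGrpd_fp _ _ h𝒴 h𝒳 h𝒵
  have h1 : AlgSt.RepByAlgSpWith P (F₁ g g y f) :=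
    (repByAlgSpWith_of_square P (F₁ g g y f) (FibCat.fpSnd y (FibCat.fpFst g (BasedFunctor.comp f g)))
      (pasteL (BasedFunctor.comp f g) g y) (BasedFunctor.id _)
      (isEquivOver_pasteL (BasedFunctor.comp f g) g y) (isEquivOver_id _)
      (iso₁ g g y f).symm).2 (repByAlgSpWith_fpSnd P y _ hy)
  have h2 : AlgSt.RepByAlgSpWith P (F₂ g g f) :=
    (repByAlgSpWith_of_square P (F₂ g g f) (FibCat.fpSnd f (FibCat.fpSnd g g))
      (E₂ g g f) (BasedFunctor.id _) (isEquivOver_E₂ g g f) (isEquivOver_id _)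
      (iso₂ g g f).symm).2 (repByAlgSpWith_fpSnd P f _ hf)
  have h3 := repByAlgSpWith_comp_of_compCond hA hM P hP (F₁ g g y f) (F₂ g g f) h1 h2
  exact repByAlgSpWith_of_iso P (FIso g g y f
    (FibCat.fpIso (BasedFunctor.comp y g) (BasedFunctor.comp f g) : _ ≅ _) (fun _ => rfl)) h3

end B


section Main

variable {S : Scheme.{u}} {𝒳 𝒴 𝒵 : AlgSt.Cat S}

theorem isLocalOnBase_fppf_univClosed :
    AlgSp.IsLocalOnBase AlgSp.IsFppfCover (AlgSp.IsUnivClosedMor (S := S)) :=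
  isLocalOnBase_fppf_of_fpqc _ (Groth.Agent.S10521.result S)

theorem compCond_univClosed : CompCond (AlgSp.IsUnivClosedMor (S := S)) :=
  Groth.Agent.S12780.Aux.compCond_of_local _
    (fun _ _ _ _ hY hZ a b ha hb =>
      Groth.Agent.Lib.Helper12.Proper.isUnivClosedMor_comp hY hZ a b ha hb)
    isLocalOnBase_fppf_univClosed

/-- The 2-isomorphism `Δ_f ≫ Δ_c ≅ Δ_{Δ_f ≫ c} ≫ (Δ_f ×_c Δ_f)`. -/
def diagRelIso {𝒜 ℬ 𝒞 : AlgSt.Cat S} (d : 𝒜 ⥤ᵇ ℬ) (c : ℬ ⥤ᵇ 𝒞) :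
    BasedFunctor.comp d (FibCat.diag c) ≅
      BasedFunctor.comp (FibCat.diag (BasedFunctor.comp d c)) (relProd d d c) :=
  fpIsoMk c c (H := BasedFunctor.comp d (FibCat.diag c))
    (K := BasedFunctor.comp (FibCat.diag (BasedFunctor.comp d c)) (relProd d d c))
    (Iso.refl _) (Iso.refl _) (fun a => by
      change c.map (𝟙 _) ≫ 𝟙 _ = 𝟙 _ ≫ c.map (𝟙 _)
      rw [Category.comp_id, Category.id_comp])

/-- If `d` is surjective and `d ≫ c` has universally closed first and second diagonals... the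
comparison functor `c` is universally closed when `d ≫ c ≅ p` with `p` universally closed. -/
theorem repByAlgSpWith_univClosed_of_isSurjective_of_triangle
    (h𝒳 : AlgSt.IsAlgStack Scheme.fppfPrecoverage 𝒳)
    (h𝒴 : AlgSt.IsAlgStack Scheme.fppfPrecoverage 𝒴)
    (h𝒵 : AlgSt.IsAlgStack Scheme.fppfPrecoverage 𝒵)
    (f : 𝒳 ⥤ᵇ 𝒴) (p : 𝒳 ⥤ᵇ 𝒵) (q : 𝒴 ⥤ᵇ 𝒵) (e : BasedFunctor.comp f q ≅ p)
    (hf : AlgSt.IsSurjective f) (hq : AlgSt.RepByAlgSp1 q)
    (hp : AlgSt.RepByAlgSpWith AlgSp.IsUnivClosedMor p) :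
    AlgSt.RepByAlgSpWith AlgSp.IsUnivClosedMor q := by
  have hp1 : AlgSt.RepByAlgSp1 p := repByAlgSp1_of_repByAlgSpWith _ p hp
  have h1 := (Groth.Agent.S12828.result h𝒳 h𝒵 p hp1).1 hp
  exact (Groth.Agent.S12828.result h𝒴 h𝒵 q hq).2
    (isUnivClosed_of_isSurjective_of_triangle h𝒳 h𝒴 h𝒵 f p q e hf h1)

theorem isSeparatedMor_of_comp_of_cover
    (h𝒳 : AlgSt.IsAlgStack Scheme.fppfPrecoverage 𝒳)
    (h𝒴 : AlgSt.IsAlgStack Scheme.fppfPrecoverage 𝒴)
    (h𝒵 : AlgSt.IsAlgStack Scheme.fppfPrecoverage 𝒵)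
    (f : 𝒳 ⥤ᵇ 𝒴) (g : 𝒴 ⥤ᵇ 𝒵)
    (hf₁ : AlgSt.IsSurjective f) (hf₂ : AlgSt.LocQ (AlgSp.LocP @Flat) f)
    (hf₃ : AlgSt.LocQ (AlgSp.LocP @LocallyOfFinitePresentation) f)
    (hf₄ : AlgSt.IsUnivInjective Scheme.fppfPrecoverage f)
    (hf₅ : AlgSt.RepByAlgSpWith AlgSp.IsUnivClosedMor (FibCat.diag f))
    (hh : AlgSt.IsSeparatedMor (BasedFunctor.comp f g)) :
    AlgSt.IsSeparatedMor g := by
  have hu : HasSchemeCovers f := exists_fppf_lift h𝒴 h𝒳 f hf₂ hf₃ hf₁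
  have hfpf : AlgSt.IsAlgStack Scheme.fppfPrecoverage (FibCat.fp f f) :=
    isAlgStack_fp_of_isPrestack (IsStack.isPrestack _ h𝒴.isStack) h𝒴.diag h𝒳 h𝒳 f f
  have hfph : AlgSt.IsAlgStack Scheme.fppfPrecoverage
      (FibCat.fp (BasedFunctor.comp f g) (BasedFunctor.comp f g)) :=
    isAlgStack_fp_of_isPrestack (IsStack.isPrestack _ h𝒵.isStack) h𝒵.diag h𝒳 h𝒳 _ _
  have hfpg : AlgSt.IsAlgStack Scheme.fppfPrecoverage (FibCat.fp g g) :=
    isAlgStack_fp_of_isPrestack (IsStack.isPrestack _ h𝒵.isStack) h𝒵.diag h𝒴 h𝒴 g g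
  have hfpc : AlgSt.IsAlgStack Scheme.fppfPrecoverage
      (FibCat.fp (toRel f f g) (toRel f f g)) :=
    isAlgStack_fp_of_isPrestack (IsStack.isPrestack _ hfph.isStack) hfph.diag hfpf hfpf _ _
  have hd_surj : AlgSt.IsSurjective (FibCat.diag f) :=
    (Groth.Agent.S12831.result h𝒳 h𝒴 f).1 hf₄
  have hrep_dg : AlgSt.RepByAlgSp1 (FibCat.diag g) := repByAlgSp1_diag_of_diag g h𝒴.diag h𝒵.diag
  have hrep_dh : AlgSt.RepByAlgSp1 (FibCat.diag (BasedFunctor.comp f g)) :=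
    repByAlgSp1_diag_of_diag _ h𝒳.diag h𝒵.diag
  have hrep_c : AlgSt.RepByAlgSp1 (toRel f f g) := by
    have h0 : AlgSt.RepByAlgSpWith (fun _ _ _ => True) (FibCat.diag g) := fun U y => by
      obtain ⟨F, e, he⟩ := hrep_dg U y
      exact ⟨F, e, he, trivial⟩
    exact repByAlgSp1_of_repByAlgSpWith _ _ (repByAlgSpWith_toRel _ f f g h0)
  have hrep_dc : AlgSt.RepByAlgSp1 (FibCat.diag (toRel f f g)) :=
    repByAlgSp1_diag_of_diag _ hfpf.diag hfph.diag
  -- the diagonal of the composite is universally closed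
  have hΔh : AlgSt.RepByAlgSpWith AlgSp.IsUnivClosedMor
      (FibCat.diag (BasedFunctor.comp f g)) :=
    Groth.Agent.Lib.Helper15DiagLft.repByAlgSpWith_mono (fun _ _ a ha => ha.2.2) _ hh
  -- its second diagonal is universally closed
  have hΔΔh : AlgSt.RepByAlgSpWith AlgSp.IsUnivClosedMor
      (FibCat.diag (FibCat.diag (BasedFunctor.comp f g))) := by
    have h1 : AlgSt.RepByAlgSpWith AlgSp.IsSeparatedMor (FibCat.diag (BasedFunctor.comp f g)) :=
      Groth.Agent.Lib.Helper15DiagLft.repByAlgSpWith_mono (fun _ _ a ha => ha.1) _ hh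
    exact ((tfae_sep (FibCat.diag (BasedFunctor.comp f g)) hrep_dh).out 0 3).1 h1
  -- the comparison functor is universally closed
  have hc : AlgSt.RepByAlgSpWith AlgSp.IsUnivClosedMor (toRel f f g) :=
    repByAlgSpWith_univClosed_of_isSurjective_of_triangle h𝒳 hfpf hfph (FibCat.diag f)
      (FibCat.diag (BasedFunctor.comp f g)) (toRel f f g) (diagCompIso f g) hd_surj hrep_c hΔh
  -- the diagonal of the comparison functor is universally closed
  have hdc : AlgSt.RepByAlgSpWith AlgSp.IsUnivClosedMor (FibCat.diag (toRel f f g)) := by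
    have h1 : AlgSt.RepByAlgSpWith AlgSp.IsUnivClosedMor
        (FibCat.diag (BasedFunctor.comp (FibCat.diag f) (toRel f f g))) :=
      (repByAlgSpWith_diag_congr _ _ _ (diagCompIso f g)).2 hΔΔh
    have h2 : AlgSt.RepByAlgSpWith AlgSp.IsUnivClosedMor
        (relProd (FibCat.diag f) (FibCat.diag f) (toRel f f g)) :=
      repByAlgSpWith_relProd h𝒳.isStack.1 h𝒳.isStack.1 hfpf.isStack.1 hfph.isStack.1 _
        compCond_univClosed _ _ _ hf₅ hf₅
    have hA : FibCat.IsFibGrpd (FibCat.fp (BasedFunctor.comp (FibCat.diag f) (toRel f f g))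
        (BasedFunctor.comp (FibCat.diag f) (toRel f f g))).p :=
      isFibGrpd_fp _ _ h𝒳.isStack.1 h𝒳.isStack.1 hfph.isStack.1
    have h3 := repByAlgSpWith_comp_of_compCond h𝒳.isStack.1 hA _ compCond_univClosed _ _ h1 h2
    exact repByAlgSpWith_univClosed_of_isSurjective_of_triangle h𝒳 hfpf hfpc (FibCat.diag f) _
      (FibCat.diag (toRel f f g)) (diagRelIso (FibCat.diag f) (toRel f f g)) hd_surj hrep_dc h3
  -- descent along the relative product
  have hll : ∀ (T : Over S) (w : FibCat.overCat T ⥤ᵇ FibCat.fp g g),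
      LocLift (relProd f f g) T w := fun T w => locLift_relProd f hu g w
  have hΔg : AlgSt.RepByAlgSpWith AlgSp.IsUnivClosedMor (FibCat.diag g) := by
    have h3 : AlgSt.RepByAlgSpWith AlgSp.IsUnivClosedMor
        (FibCat.fpFst (relProd f f g) (FibCat.diag g)) :=
      (repByAlgSpWith_of_square _ (FibCat.fpFst (relProd f f g) (FibCat.diag g)) (toRel f f g)
        (magicRel f f g) (BasedFunctor.id _) (isEquivOver_magicRel f f g) (isEquivOver_id _)
        (Iso.refl _)).2 hc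
    exact repByAlgSpWith_of_fpFst_of_locLift _ isLocalOnBase_fppf_univClosed (FibCat.diag g)
      hrep_dg (relProd f f g) hll h3
  have hΔΔg : AlgSt.RepByAlgSpWith AlgSp.IsUnivClosedMor (FibCat.diag (FibCat.diag g)) := by
    have h3 : AlgSt.RepByAlgSpWith AlgSp.IsUnivClosedMor
        (FibCat.diag (FibCat.fpFst (relProd f f g) (FibCat.diag g))) :=
      (repByAlgSpWith_diag_of_square _ (FibCat.fpFst (relProd f f g) (FibCat.diag g))
        (toRel f f g) (magicRel f f g) (BasedFunctor.id _) (isEquivOver_magicRel f f g)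
        (isEquivOver_id _) (Iso.refl _)).2 hdc
    exact repByAlgSpWith_diag_of_fpFst _ isLocalOnBase_fppf_univClosed h𝒴.diag hfpg.diag
      (FibCat.diag g) (relProd f f g) (hasSchemeCovers_of_locLift _ hll) h3
  exact Groth.Agent.S12979.result S 𝒴 𝒵 h𝒴 h𝒵 g hΔg hΔΔg

end Main

end Groth.Agent.Lib.Helper15SepCancel
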