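-- helper15: the datum of a family is the datum of its disjoint union (equivalence of categories)
import Mathlib
import Groth.Agent.S9854
import Groth.Agent.Lib.Helper15SigmaDD
import Groth.Agent.Lib.Helper10DescPull

set_option autoImplicit false
open CategoryTheory CategoryTheory.Limits AlgebraicGeometry Opposite
universe u
open Desc

namespace Groth.Agent.Lib.Helper15SigmaEquiv

open Groth.Agent.Lib.Helper15SigmaDD Groth.Agent.Lib.Helper10.DescPull

variable {ι : Type u} {S : Scheme.{u}} {X : ι → Scheme.{u}} (f : ∀ i, X i ⟶ S)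

/-- the functor of the statement -/
noncomputable abbrev Φ : SchDD (Sigma.desc f) ⥤ SchDDFam f :=
  Desc.SchDDFam.ofSchDD (Sigma.desc f) ⋙
      Desc.pullDDFam (f := fun _ : PUnit.{u + 1} => Sigma.desc f) (f' := f) (α := fun _ => PUnit.unit)
        (p := 𝟙 S) (p' := fun i => Sigma.ι X i)
        (fun i => (Sigma.ι_desc f i).trans (Category.comp_id (f i)).symm)

lemma cov_mem (j : PUnit.{u + 1}) :
    Presieve.ofArrows (fun i : {i : ι // (fun _ : ι => PUnit.unit.{u + 1}) i = j} => X i.1)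
      (fun i => Sigma.ι X i.1 ≫ eqToHom (congrArg (fun _ : PUnit.{u + 1} => ∐ X) i.2)) ∈
      Scheme.fpqcPrecoverage (∐ X) := by
  apply Scheme.zariskiPrecoverage_le_fpqcPrecoverage
  rw [Scheme.zariskiPrecoverage, Scheme.ofArrows_mem_precoverage_iff]
  constructor
  · intro x
    obtain ⟨i, y, hy⟩ := (AlgebraicGeometry.sigmaOpenCover X).exists_eq x
    refine ⟨⟨i, rfl⟩, y, ?_⟩
    simp only [eqToHom_refl, Category.comp_id]
    exact hy
  · intro i
    simp only [eqToHom_refl, Category.comp_id]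
    infer_instance

lemma full_faithful : (Φ f).Full ∧ (Φ f).Faithful := by
  obtain ⟨h1, h2⟩ := Groth.Agent.S9854.result (u := f) (v := fun _ : PUnit.{u + 1} => Sigma.desc f)
    (α := fun _ => PUnit.unit) (g := fun i => Sigma.ι X i) (w := fun i => Sigma.ι_desc f i)
    (cov_mem (X := X))
  have : (Desc.SchDDFam.ofSchDD.{u} (Sigma.desc f)).IsEquivalence :=
    (SchDDFam.oneEquiv.{u} (Sigma.desc f)).isEquivalence_inverse
  exact ⟨inferInstance, inferInstance⟩

variable {f}

/-- the bijections on points exhibiting a family datum as the pullback of its disjoint union -/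
noncomputable def liftsIsoΦ (D : SchDDFam f) : LiftsIso ((Φ f).obj (sigmaDD D)) D where
  e T i x := (liftsPullbackEquiv (sigmaDD D).obj (Sigma.ι X i) x).trans (βEquiv D x).symm
  nat T T' g i x y hy v v' hv' := by
    subst hy
    rw [← cancel_mono (Sigma.ι (fun i => (D.obj i).left) i)]
    refine Eq.trans ?_ (Category.assoc _ _ _).symm
    refine (βEquiv_symm_val D (g ≫ x) _).trans ?_
    refine Eq.trans ?_ (congrArg (g ≫ ·) (βEquiv_symm_val D x _).symm)
    change v'.1 ≫ pullback.fst _ _ = g ≫ (v.1 ≫ pullback.fst _ _)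
    rw [hv', Category.assoc]
  comm T i j x₀ x₁ h v := by
    have h' : (x₀ ≫ Sigma.ι X i) ≫ Sigma.desc f = (x₁ ≫ Sigma.ι X j) ≫ Sigma.desc f := by
      rw [Category.assoc, Category.assoc, ι_desc', ι_desc', h]
    apply (βEquiv D x₁).injective
    change βEquiv D x₁ (D.φ x₀ x₁ h ((βEquiv D x₀).symm
        (liftsPullbackEquiv (sigmaDD D).obj (Sigma.ι X i) x₀ v))) =
      βEquiv D x₁ ((βEquiv D x₁).symm (liftsPullbackEquiv (sigmaDD D).obj (Sigma.ι X j) x₁
        ((liftsPullbackEquiv (sigmaDD D).obj (Sigma.ι X j) x₁).symm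
          ((sigmaDD D).φ (x₀ ≫ Sigma.ι X i) (x₁ ≫ Sigma.ι X j) _
            (liftsPullbackEquiv (sigmaDD D).obj (Sigma.ι X i) x₀ v)))))
    rw [Equiv.apply_symm_apply, Equiv.apply_symm_apply, ← βEquiv_φ D x₀ x₁ h h',
      Equiv.apply_symm_apply]

theorem essSurj : (Φ f).EssSurj :=
  ⟨fun D => ⟨sigmaDD D, ⟨(liftsIsoΦ D).iso⟩⟩⟩

variable (f) in
theorem isEquivalence : (Φ f).IsEquivalence := by
  obtain ⟨h1, h2⟩ := full_faithful f
  have := essSurj (f := f)
  exact { }

end Groth.Agent.Lib.Helper15SigmaEquiv
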