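import Mathlib.RingTheory.Derivation.Basic
import Mathlib.RingTheory.Artinian.Ring
import Mathlib.RingTheory.LocalRing.MaximalIdeal.Basic
import Mathlib.RingTheory.Flat.Basic
import Mathlib.RingTheory.Ideal.Quotient.Operations
import Mathlib.Tactic

/-!
Small extensions: the element `t` of a local ring `A` with `𝔪 t = 0`, and a flat `A`-algebra `B`.
Multiplication by `t` on `B` has kernel exactly `𝔪 B`.
-/

set_option autoImplicit false
universe u v

namespace Groth.Agent.Lib.Helper15.SmallExt

open TensorProduct

variable {A : Type u} [CommRing A] [IsLocalRing A] {B : Type v} [CommRing B] [Algebra A B]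
  {t : A}

/-- Elements of `𝔪 B` are killed by `t`. -/
theorem mul_eq_zero_of_mem (htm : ∀ a ∈ IsLocalRing.maximalIdeal A, a * t = 0) {b : B}
    (hb : b ∈ (IsLocalRing.maximalIdeal A).map (algebraMap A B)) :
    algebraMap A B t * b = 0 := by
  have h : (IsLocalRing.maximalIdeal A).map (algebraMap A B) ≤
      LinearMap.ker (LinearMap.mul B B (algebraMap A B t)) := by
    rw [Ideal.map_le_iff_le_comap]
    intro a ha
    change (LinearMap.mul B B (algebraMap A B t)) (algebraMap A B a) = 0
    rw [LinearMap.mul_apply', ← map_mul, mul_comm, htm a ha, map_zero]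
  exact h hb

/-- If `B` is flat over `A`, the elements of `B` killed by `t` lie in `𝔪 B`. -/
theorem mem_of_mul_eq_zero [Module.Flat A B] (ht0 : t ≠ 0)
    (htm : ∀ a ∈ IsLocalRing.maximalIdeal A, a * t = 0) {b : B}
    (hb : algebraMap A B t * b = 0) :
    b ∈ (IsLocalRing.maximalIdeal A).map (algebraMap A B) := by
  let f : ↥(IsLocalRing.maximalIdeal A) →ₗ[A] A := (IsLocalRing.maximalIdeal A).subtype
  let g : A →ₗ[A] A := LinearMap.toSpanSingleton A A t
  have hex : Function.Exact f g := by
    intro a
    constructor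
    · intro ha
      have ha' : a * t = 0 := by simpa [g] using ha
      have hmem : a ∈ IsLocalRing.maximalIdeal A := by
        by_contra hnot
        have hu : IsUnit a := by
          by_contra hnu
          exact hnot ((IsLocalRing.mem_maximalIdeal a).mpr hnu)
        exact ht0 ((hu.mul_right_eq_zero).mp ha')
      exact ⟨⟨a, hmem⟩, rfl⟩
    · rintro ⟨x, rfl⟩
      have := htm x.1 x.2
      simpa [g, f] using this
  have hex' := Module.Flat.lTensor_exact B hex
  have hx : (g.lTensor B) (b ⊗ₜ[A] (1 : A)) = 0 := by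
    rw [LinearMap.lTensor_tmul]
    have : g 1 = t • (1 : A) := by simp [g]
    rw [this, TensorProduct.tmul_smul, TensorProduct.smul_tmul', Algebra.smul_def, hb,
      TensorProduct.zero_tmul]
  obtain ⟨y, hy⟩ := (hex' _).mp hx
  have hmem : ∀ y : B ⊗[A] ↥(IsLocalRing.maximalIdeal A),
      (TensorProduct.rid A B) ((f.lTensor B) y) ∈
        (IsLocalRing.maximalIdeal A).map (algebraMap A B) := by
    intro y
    induction y with
    | zero => simp
    | add y z hy hz => rw [map_add, map_add]; exact Ideal.add_mem _ hy hz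
    | tmul c a =>
      rw [LinearMap.lTensor_tmul, TensorProduct.rid_tmul, Algebra.smul_def]
      exact Ideal.mul_mem_right _ _ (Ideal.mem_map_of_mem _ a.2)
  have := hmem y
  rw [hy, TensorProduct.rid_tmul, one_smul] at this
  exact this

/-- `t B ⊆ 𝔪 B`. -/
theorem algebraMap_mem (ht : t ∈ IsLocalRing.maximalIdeal A) :
    algebraMap A B t ∈ (IsLocalRing.maximalIdeal A).map (algebraMap A B) :=
  Ideal.mem_map_of_mem _ ht

/-- Two elements with the same product with `t` agree modulo `𝔪 B`. -/
theorem mk_eq_of_mul_eq [Module.Flat A B] (ht0 : t ≠ 0)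
    (htm : ∀ a ∈ IsLocalRing.maximalIdeal A, a * t = 0) {x y : B}
    (h : algebraMap A B t * x = algebraMap A B t * y) :
    Ideal.Quotient.mk ((IsLocalRing.maximalIdeal A).map (algebraMap A B)) x =
      Ideal.Quotient.mk ((IsLocalRing.maximalIdeal A).map (algebraMap A B)) y := by
  rw [Ideal.Quotient.eq]
  apply mem_of_mul_eq_zero ht0 htm
  rw [mul_sub, h, sub_self]

/-- Two elements agreeing modulo `𝔪 B` have the same product with `t`. -/
theorem mul_eq_of_mk_eq (htm : ∀ a ∈ IsLocalRing.maximalIdeal A, a * t = 0) {x y : B}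
    (h : Ideal.Quotient.mk ((IsLocalRing.maximalIdeal A).map (algebraMap A B)) x =
      Ideal.Quotient.mk ((IsLocalRing.maximalIdeal A).map (algebraMap A B)) y) :
    algebraMap A B t * x = algebraMap A B t * y := by
  rw [Ideal.Quotient.eq] at h
  have := mul_eq_zero_of_mem htm h
  rw [mul_sub] at this
  exact sub_eq_zero.mp this

end Groth.Agent.Lib.Helper15.SmallExt
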