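-- helper15: the smooth locus of a morphism of algebraic stacks and smooth precomposition.
import Mathlib
import Groth.Agent.Lib.Helper15SmoothLocus

set_option autoImplicit false
set_option backward.isDefEq.respectTransparency false
set_option backward.isDefEq.respectTransparency.types false
open CategoryTheory CategoryTheory.Functor CategoryTheory.Limits Opposite AlgebraicGeometry

universe u

namespace Groth.Agent.Lib.Helper15SmoothPre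

open Groth.Agent.Lib.Helper17 Groth.Agent.Lib.Helper15PshFib Groth.Agent.Lib.Helper15RepComp
  Groth.Agent.Lib.Helper15RepPsh Groth.Agent.Lib.Helper15DiagBase Groth.Agent.Lib.Helper15DiagRepSp
  Groth.Agent.Lib.Helper15Descent Groth.Agent.Lib.Helper15DiagLft
  Groth.Agent.Lib.Helper15DiagDescent Groth.Agent.Lib.Helper15SpMapRep
  Groth.Agent.Lib.Helper15SrcCancel Groth.Agent.Lib.Helper15ChartSp Groth.Agent.Lib.Helper15Atlas
  Groth.Agent.Lib.Helper15LocEss Groth.Agent.Lib.Helper15UnivComp Groth.Agent.Lib.Helper15SmLoc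
  Groth.Agent.Lib.Helper15PtsComp Groth.Agent.Lib.Helper15PtsTop Groth.Agent.Lib.Helper15PtsQc
  Groth.Agent.Lib.Helper15FpSwap Groth.Agent.Lib.Helper15QcLocal Groth.Agent.Lib.Helper15ClosedQc
  Groth.Agent.Lib.Helper15UnivPts Groth.Agent.Lib.Helper15BaseChange
  Groth.Agent.Lib.Helper15BaseChange2
  Groth.Agent.Lib.Helper15MonoSep Groth.Agent.Lib.Helper15LocQ Groth.Agent.Lib.Helper15LocQEngine
  Groth.Agent.Lib.Helper15LocQProps Groth.Agent.Lib.Helper15LocQSpace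
  Groth.Agent.Lib.Helper15LocQSpace2 Groth.Agent.Lib.Helper15LocQRep
  Groth.Agent.Lib.Helper15LocQComp Groth.Agent.Lib.Helper15GoodComp
  Groth.Agent.Lib.Helper15LocQCancel Groth.Agent.Lib.Helper15LocQBC
  Groth.Agent.Lib.Helper15LocQDiag Groth.Agent.Lib.Helper15LocQDescent
  Groth.Agent.Lib.Helper15RepDescent Groth.Agent.Lib.Helper15QcDescent
  Groth.Agent.Lib.Helper15FppfLiftFam Groth.Agent.Lib.Helper15ValLift
  Groth.Agent.Lib.Helper15ValWit Groth.Agent.Lib.Helper15QcRep Groth.Agent.Lib.Helper15UnivComp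
  Groth.Agent.Lib.Helper15QcQs Groth.Agent.Lib.Helper15QcProd Groth.Agent.Lib.Helper15.DiagBC
  Groth.Agent.Lib.Helper15UnivInjDiag Groth.Agent.Lib.Helper15DiagSq
  Groth.Agent.Lib.Helper15PshPb Groth.Agent.Lib.Helper15DiagBridge Groth.Agent.Lib.Helper15DiagApps Groth.Agent.Lib.Helper15DiagCancel
  Groth.Agent.Lib.Helper15DiagComp Groth.Agent.Lib.Helper15QsComp Groth.Agent.Lib.Helper15MonoFF
  Groth.Agent.Lib.Helper15DiagInertia Groth.Agent.Lib.Helper15OpenSub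
  Groth.Agent.Lib.Helper15EquivRep Groth.Agent.Lib.Helper15OpenSubst
  Groth.Agent.Lib.Helper15OpenImage Groth.Agent.Lib.Helper15FpqcImm Groth.Agent.Lib.Helper17.MonoFF Groth.Agent.Lib.Helper15IsoNatOpen
  Groth.Agent.Lib.Helper15IsoNatPts Groth.Agent.Lib.Helper15IsoNatTop Groth.Agent.Lib.Helper15QsFp
  Groth.Agent.Lib.Helper15IsoNatQc Groth.Agent.Lib.Helper15SmoothLocus

section FF

variable {S : Scheme.{u}} {𝒲 𝒴 : AlgSt.Cat S}

/-- An isomorphism of functors into a full subcategory may be checked after the inclusion. -/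
noncomputable def liftIsoSub (Q : 𝒴.obj → Prop) (A B : 𝒲 ⥤ᵇ AlgSt.fullSub 𝒴 Q)
    (e : BasedFunctor.comp A (AlgSt.subIncl 𝒴 Q) ≅ BasedFunctor.comp B (AlgSt.subIncl 𝒴 Q)) :
    A ≅ B :=
  BasedNatIso.mkNatIso
    (Functor.fullyFaithfulCancelRight (AlgSt.subIncl 𝒴 Q).toFunctor
      ((BasedNatTrans.forgetful _ _).mapIso e))
    (fun a => by
      have h1 : 𝒴.p.IsHomLift (𝟙 (𝒲.p.obj a)) (e.hom.toNatTrans.app a) := inferInstance
      rw [Functor.fullyFaithfulCancelRight_hom_app]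
      have : 𝒴.p.IsHomLift (𝟙 (𝒲.p.obj a)) ((AlgSt.subIncl 𝒴 Q).map
          ((AlgSt.subIncl 𝒴 Q).toFunctor.preimage
            (((BasedNatTrans.forgetful _ _).mapIso e).hom.app a))) := by
        rw [Functor.map_preimage]
        exact h1
      exact (AlgSt.subIncl 𝒴 Q).isHomLift_map (𝟙 (𝒲.p.obj a)) _)

end FF

section Cancel

variable {S : Scheme.{u}} {𝒲 𝒴 : AlgSt.Cat S}

/-- Smoothness of a functor into an open substack may be checked after the inclusion. -/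
theorem locQ_smooth_cancel_subIncl (h𝒴 : AlgSt.IsAlgStack Scheme.fppfPrecoverage 𝒴)
    {T : Set (AlgSt.Points 𝒴)} (hT : IsOpen T) (G : 𝒲 ⥤ᵇ AlgSt.fullSub 𝒴 (QT T))
    (hL : AlgSt.LocQ (AlgSp.LocP @Smooth) (BasedFunctor.comp G (AlgSt.subIncl 𝒴 (QT T)))) :
    AlgSt.LocQ (AlgSp.LocP @Smooth) G := by
  obtain ⟨U, V, x, y, h, α, hx, hxs, hy, hP⟩ := hL
  obtain ⟨V', ι, hmono, hoi, hr, ha, -⟩ := exists_chart_QT h𝒴 hT V y
  let i := AlgSt.subIncl 𝒴 (QT T)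
  have hfac : ∃ k : (Over.mk h : Over V).left ⟶ V', k ≫ ι = (Over.mk h : Over V).hom := by
    apply exists_factor_of_range
    rw [hr]
    rintro _ ⟨u, rfl⟩
    change AlgSt.Points.ofChart y (h.left u) ∈ T
    rw [← ofChart_overMap h y u, ← ofChart_congr α, ofChart_comp, points_map_comp]
    exact (range_subIncl_QT T).subset ⟨_, rfl⟩
  obtain ⟨k, hk⟩ := hfac
  change k ≫ ι = h at hk
  let y' : FibCat.overCat V' ⥤ᵇ AlgSt.fullSub 𝒴 (QT T) :=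
    liftSub (QT T) (BasedFunctor.comp (AlgSt.overMap ι) y) ha
  have hy' : AlgSt.RepByAlgSpWith (AlgSp.LocP @Smooth) y' :=
    repByAlgSpWith_of_comp_ff _ y' i (smooth_overMap_comp ι inferInstance y hy)
  have hsm : Smooth h.left := AlgSp.locP_yon_map hP
  have hksm : Smooth k.left := by
    have h1 : Smooth (k.left ≫ ι.left) := by
      rw [← Over.comp_left, hk]
      exact hsm
    exact MorphismProperty.of_postcomp (W := @Smooth) (W' := @IsOpenImmersion) k.left ι.left hoi h1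
  let c : BasedFunctor.comp (AlgSt.overMap k) (AlgSt.overMap ι) ≅ AlgSt.overMap h :=
    isoOfOverCat (fun c => by
      rw [ovSec_comp, ovSec_overMap, ovSec_overMap, ← hk]
      change eqToHom _ ≫ (c.hom ≫ k) ≫ ι = c.hom ≫ k ≫ ι
      simp)
  let e : BasedFunctor.comp (BasedFunctor.comp x G) i ≅
      BasedFunctor.comp (BasedFunctor.comp (AlgSt.overMap k) y') i :=
    (α : BasedFunctor.comp (BasedFunctor.comp x G) i ≅ BasedFunctor.comp (AlgSt.overMap h) y) ≪≫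
      (whiskerRightIso c y).symm
  exact ⟨U, V', x, y', k, liftIsoSub (QT T) _ _ e, hx, hxs, hy', locP_yon_map_of_smooth k hksm⟩

end Cancel

section Desc

variable {S : Scheme.{u}} {𝒳 𝒴 𝒵 : AlgSt.Cat S}

/-- Smoothness descends along a smooth surjective functor on the source. -/
theorem locQ_smooth_of_comp (h𝒳 : AlgSt.IsAlgStack Scheme.fppfPrecoverage 𝒳)
    (h𝒴 : AlgSt.IsAlgStack Scheme.fppfPrecoverage 𝒴)
    (h𝒵 : AlgSt.IsAlgStack Scheme.fppfPrecoverage 𝒵) (f : 𝒳 ⥤ᵇ 𝒴) (g : 𝒴 ⥤ᵇ 𝒵)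
    (hf₁ : AlgSt.LocQ (AlgSp.LocP @Smooth) f) (hf₂ : AlgSt.IsSurjective f)
    (hfg : AlgSt.LocQ (AlgSp.LocP @Smooth) (BasedFunctor.comp f g)) :
    AlgSt.LocQ (AlgSp.LocP @Smooth) g := by
  obtain ⟨U, V, W, x, y, z, h, k, α, β, hx₁, hx₂, hy₁, hy₂, hz₁, hz₂, hα₁, hα₂, hβ₁, hβ₂, hγ⟩ :=
    exists_good_squares h𝒳 h𝒴 h𝒵 f g
  have hP : AlgSp.LocP @Smooth ((AlgSp.yon S).map (h ≫ k)) :=
    (locQ_iff_forall_good _ isSmoothLocalST_smooth h𝒳 h𝒵 (BasedFunctor.comp f g)).1 hfg U W x z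
      (h ≫ k) _ hx₁ hz₁ hγ
  have hPh : AlgSp.LocP @Smooth ((AlgSp.yon S).map h) :=
    (locQ_iff_forall_good _ isSmoothLocalST_smooth h𝒳 h𝒴 f).1 hf₁ U V x y h α hx₁ hy₁ hα₁
  have h1 : Smooth (h.left ≫ k.left) := AlgSp.locP_yon_map hP
  have h2 : Smooth h.left := AlgSp.locP_yon_map hPh
  have h3 : Surjective h.left := ⟨surjective_of_good_square h𝒳 h𝒴 f hf₂ x y h α hα₂⟩
  have h4 : Smooth k.left :=
    Groth.Agent.Lib.Helper12.SmoothSrc2.smooth_of_smooth_cover_source h.left k.left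
  exact ⟨V, W, y, z, k, β, hy₁, hy₂, hz₁, locP_yon_map_of_smooth k h4⟩

theorem smooth_of_isOpenImm (i : 𝒴 ⥤ᵇ 𝒳) (hi : AlgSt.IsOpenImm i) :
    AlgSt.RepByAlgSpWith (AlgSp.LocP @Smooth) i := by
  intro U y
  obtain ⟨F, e, he, hP⟩ := hi U y
  exact ⟨F, e, he, locP_smooth_of_repWith_etale (X := F)
    (Y := ⟨(AlgSp.yon S).obj U, AlgSp.IsAlgSpace.yon_obj U⟩) _
    (repWith_mono (fun _ _ g hg => by have : IsOpenImmersion g := hg; infer_instance) hP)⟩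

theorem locQ_mono {P P' : MorphismProperty (AlgSp.Sp S)}
    (h : ∀ {U V : Over S} (k : U ⟶ V), P ((AlgSp.yon S).map k) → P' ((AlgSp.yon S).map k))
    (f : 𝒳 ⥤ᵇ 𝒴) (hf : AlgSt.LocQ P f) : AlgSt.LocQ P' f := by
  obtain ⟨U, V, x, y, k, α, hx, hxs, hy, hP⟩ := hf
  exact ⟨U, V, x, y, k, α, hx, hxs, hy, h k hP⟩

theorem isOpenMap_points_of_locQ_smooth (h𝒳 : AlgSt.IsAlgStack Scheme.fppfPrecoverage 𝒳)
    (h𝒴 : AlgSt.IsAlgStack Scheme.fppfPrecoverage 𝒴) (f : 𝒳 ⥤ᵇ 𝒴)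
    (hf : AlgSt.LocQ (AlgSp.LocP @Smooth) f) : IsOpenMap (AlgSt.Points.map f) := by
  apply isOpenMor_of_locQ h𝒳 h𝒴 f
  · exact locQ_mono (fun k hk => locP_mono (fun _ _ g hg => by
      have : Smooth g := hg
      exact (inferInstance : Flat g)) hk) f hf
  · exact locQ_mono (fun k hk => locP_mono (fun _ _ g hg => by
      have : Smooth g := hg
      exact (inferInstance : LocallyOfFinitePresentation g)) hk) f hf

/-- The inverse image of an open substack under a functor is an open substack. -/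
theorem isOpenSubstack_comp_obj (h𝒳 : AlgSt.IsAlgStack Scheme.fppfPrecoverage 𝒳)
    (h𝒴 : AlgSt.IsAlgStack Scheme.fppfPrecoverage 𝒴) (g : 𝒳 ⥤ᵇ 𝒴) (Q : 𝒴.obj → Prop)
    (hQ : AlgSt.IsOpenSubstack 𝒴 Q Scheme.fppfPrecoverage) :
    AlgSt.IsOpenSubstack 𝒳 (fun a => Q (g.obj a)) Scheme.fppfPrecoverage := by
  obtain ⟨T, hT, rfl⟩ : ∃ T : Set (AlgSt.Points 𝒴), IsOpen T ∧ Q = QT T :=
    ⟨_, isOpen_range_of_isOpenImm hQ.2.1 h𝒴 _ hQ.2.2, eq_QT_range h𝒴.isStack.1 Q hQ⟩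
  apply isOpenSubstack_of_charts h𝒳
  · intro a' a φ ha
    exact QT_of_hom (g.map φ) ha
  · intro U c
    refine ⟨⟨AlgSt.Points.ofChart (BasedFunctor.comp c g) ⁻¹' T,
      (continuous_ofChart h𝒴 _).isOpen_preimage T hT⟩, fun z => ?_⟩
    change QT T ((BasedFunctor.comp c g).obj z) ↔ _
    rw [QT_obj_iff h𝒴.isStack.1]
    constructor
    · rintro h _ ⟨w, rfl⟩
      exact h w
    · intro h w
      exact h ⟨w, rfl⟩

/-- The image of an object all of whose points lie in a set has all its points in the image. -/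
theorem QT_image_obj (h𝒳 : FibCat.IsFibGrpd 𝒳.p) (h𝒴 : FibCat.IsFibGrpd 𝒴.p) (g : 𝒳 ⥤ᵇ 𝒴)
    (T' : Set (AlgSt.Points 𝒳)) (a : 𝒳.obj) (ha : QT T' a) :
    QT (AlgSt.Points.map g '' T') (g.obj a) := by
  intro p b
  let f' : Over.mk p.str ⟶ 𝒳.p.obj a := eqToHom p.lies.symm ≫ 𝒴.p.map b ≫ eqToHom (g.w_obj a)
  obtain ⟨a', ψ, hψ⟩ := h𝒳.exists_lift (x := a) f'
  have h1 : 𝒴.p.IsHomLift f' (g.map ψ) := inferInstance
  have h2 : 𝒴.p.IsHomLift f' b := IsHomLift.of_fac _ _ _ p.lies (g.w_obj a) rfl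
  obtain ⟨e, -, -⟩ := IsFibGrpd.exists_iso_of_lifts h𝒴 f' b (g.map ψ)
  let q : AlgSt.FPt 𝒳 :=
    { K := p.K, str := p.str, obj := a', lies := IsHomLift.domain_eq 𝒳.p f' ψ }
  refine ⟨AlgSt.Points.mk q, ha q ψ, ?_⟩
  apply AlgSt.Points.sound
  exact ⟨p, e.hom, 𝟙 _, trivial⟩

end Desc

section Main

variable {S : Scheme.{u}} {𝒳' 𝒳 𝒴 : AlgSt.Cat S}

theorem smooth_locus_precomp (h𝒳' : AlgSt.IsAlgStack Scheme.fppfPrecoverage 𝒳')
    (h𝒳 : AlgSt.IsAlgStack Scheme.fppfPrecoverage 𝒳)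
    (h𝒴 : AlgSt.IsAlgStack Scheme.fppfPrecoverage 𝒴)
    (g : 𝒳' ⥤ᵇ 𝒳) (hg : AlgSt.LocQ (AlgSp.LocP @Smooth) g) (f : 𝒳 ⥤ᵇ 𝒴)
    (Q : 𝒳.obj → Prop) (hQ₁ : AlgSt.IsOpenSubstack 𝒳 Q Scheme.fppfPrecoverage)
    (hQ₂ : AlgSt.LocQ (AlgSp.LocP @Smooth) (BasedFunctor.comp (AlgSt.subIncl 𝒳 Q) f))
    (hQ₃ : ∀ Q' : 𝒳.obj → Prop, AlgSt.IsOpenSubstack 𝒳 Q' Scheme.fppfPrecoverage →
      AlgSt.LocQ (AlgSp.LocP @Smooth) (BasedFunctor.comp (AlgSt.subIncl 𝒳 Q') f) →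
        ∀ a, Q' a → Q a) :
    AlgSt.IsOpenSubstack 𝒳' (fun a ↦ Q (g.obj a)) Scheme.fppfPrecoverage ∧
      AlgSt.LocQ (AlgSp.LocP @Smooth)
        (BasedFunctor.comp (AlgSt.subIncl 𝒳' (fun a ↦ Q (g.obj a))) (BasedFunctor.comp g f)) ∧
      ∀ Q' : 𝒳'.obj → Prop, AlgSt.IsOpenSubstack 𝒳' Q' Scheme.fppfPrecoverage →
        AlgSt.LocQ (AlgSp.LocP @Smooth)
          (BasedFunctor.comp (AlgSt.subIncl 𝒳' Q') (BasedFunctor.comp g f)) →
        ∀ a, Q' a → Q (g.obj a) := by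
  have hpre := isOpenSubstack_comp_obj h𝒳' h𝒳 g Q hQ₁
  obtain ⟨T, hT, rfl⟩ : ∃ T : Set (AlgSt.Points 𝒳), IsOpen T ∧ Q = QT T :=
    ⟨_, isOpen_range_of_isOpenImm hQ₁.2.1 h𝒳 _ hQ₁.2.2, eq_QT_range h𝒳.isStack.1 Q hQ₁⟩
  have hcomp : ∀ ⦃X₁ Y₁ Z₁ : AlgSp.Sp S⦄, AlgSp.IsAlgSpace X₁ → AlgSp.IsAlgSpace Y₁ →
      AlgSp.IsAlgSpace Z₁ → ∀ (a : X₁ ⟶ Y₁) (b : Y₁ ⟶ Z₁), AlgSp.LocP @Smooth a →
        AlgSp.LocP @Smooth b → AlgSp.LocP @Smooth (a ≫ b) :=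
    fun _ _ _ _ hY hZ a b ha hb =>
      Groth.Agent.Lib.Helper12.SmoothST.locP_smooth_comp hY hZ a b ha hb
  refine ⟨hpre, ?_, ?_⟩
  · let j' := AlgSt.subIncl 𝒳' (fun a ↦ QT T (g.obj a))
    let j := AlgSt.subIncl 𝒳 (QT T)
    let g' : AlgSt.fullSub 𝒳' (fun a ↦ QT T (g.obj a)) ⥤ᵇ AlgSt.fullSub 𝒳 (QT T) :=
      liftSub (QT T) (BasedFunctor.comp j' g) (fun w => w.property)
    have hj' : AlgSt.LocQ (AlgSp.LocP @Smooth) j' :=
      locQ_of_repByAlgSpWith _ isSmoothLocalST_smooth hpre.2.1 h𝒳' j'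
        (smooth_of_isOpenImm j' hpre.2.2)
    have hjg : AlgSt.LocQ (AlgSp.LocP @Smooth) (BasedFunctor.comp j' g) :=
      locQ_comp _ isSmoothLocalST_smooth hcomp hpre.2.1 h𝒳' h𝒳 j' g hj' hg
    have hg' : AlgSt.LocQ (AlgSp.LocP @Smooth) g' := locQ_smooth_cancel_subIncl h𝒳 hT g' hjg
    exact locQ_comp _ isSmoothLocalST_smooth hcomp hpre.2.1 hQ₁.2.1 h𝒴 g'
      (BasedFunctor.comp j f) hg' hQ₂
  · intro Q' hQ' hL a ha
    obtain ⟨T', hT', rfl⟩ : ∃ T' : Set (AlgSt.Points 𝒳'), IsOpen T' ∧ Q' = QT T' :=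
      ⟨_, isOpen_range_of_isOpenImm hQ'.2.1 h𝒳' _ hQ'.2.2, eq_QT_range h𝒳'.isStack.1 Q' hQ'⟩
    let T₁ : Set (AlgSt.Points 𝒳) := AlgSt.Points.map g '' T'
    have hT₁ : IsOpen T₁ := isOpenMap_points_of_locQ_smooth h𝒳' h𝒳 g hg T' hT'
    have hsub₁ := isOpenSubstack_QT h𝒳 hT₁
    let j' := AlgSt.subIncl 𝒳' (QT T')
    let j₁ := AlgSt.subIncl 𝒳 (QT T₁)
    let g' : AlgSt.fullSub 𝒳' (QT T') ⥤ᵇ AlgSt.fullSub 𝒳 (QT T₁) :=
      liftSub (QT T₁) (BasedFunctor.comp j' g)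
        (fun w => QT_image_obj h𝒳'.isStack.1 h𝒳.isStack.1 g T' w.obj w.property)
    have hj' : AlgSt.LocQ (AlgSp.LocP @Smooth) j' :=
      locQ_of_repByAlgSpWith _ isSmoothLocalST_smooth hQ'.2.1 h𝒳' j'
        (smooth_of_isOpenImm j' hQ'.2.2)
    have hjg : AlgSt.LocQ (AlgSp.LocP @Smooth) (BasedFunctor.comp j' g) :=
      locQ_comp _ isSmoothLocalST_smooth hcomp hQ'.2.1 h𝒳' h𝒳 j' g hj' hg
    have hg' : AlgSt.LocQ (AlgSp.LocP @Smooth) g' := locQ_smooth_cancel_subIncl h𝒳 hT₁ g' hjg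
    have hsurj : AlgSt.IsSurjective g' := by
      intro t
      have h1 : AlgSt.Points.map j₁ t ∈ T₁ := (range_subIncl_QT T₁).subset ⟨t, rfl⟩
      obtain ⟨s', hs', hs'eq⟩ := h1
      have h2 : s' ∈ Set.range (AlgSt.Points.map j') := by
        rw [range_subIncl_QT]
        exact hs'
      obtain ⟨s, rfl⟩ := h2
      refine ⟨s, injective_points_subIncl_QT h𝒳.isStack.1 T₁ ?_⟩
      rw [← points_map_comp, ← hs'eq, ← points_map_comp]
      rfl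
    have hL₁ : AlgSt.LocQ (AlgSp.LocP @Smooth) (BasedFunctor.comp j₁ f) :=
      locQ_smooth_of_comp hQ'.2.1 hsub₁.2.1 h𝒴 g' (BasedFunctor.comp j₁ f) hg' hsurj hL
    exact hQ₃ (QT T₁) hsub₁ hL₁ (g.obj a) (QT_image_obj h𝒳'.isStack.1 h𝒳.isStack.1 g T' a ha)

end Main

end Groth.Agent.Lib.Helper15SmoothPre
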