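-- helper17: cartesian morphisms of the fibre product over the base of two categories over `C`.
import Groth.Agent.Lib.Helper17FibFp
import Groth.Agent.Lib.Helper17SelfOver
import Groth.Agent.Lib.Helper17FibFp3

set_option autoImplicit false
open CategoryTheory CategoryTheory.Functor

universe v₁ u₁ v₂ u₂ v₃ u₃

namespace Groth.Agent.Lib.Helper17

section FpCart

variable {C : Type u₁} [Category.{v₁} C] {𝒳 : BasedCategory.{v₂, u₂} C}
  {𝒴 : BasedCategory.{v₃, u₃} C} (F : 𝒳 ⥤ᵇ FibCat.selfOver C) (G : 𝒴 ⥤ᵇ FibCat.selfOver C)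

theorem isCartesian_iff_of_isHomLift {𝒜 : Type u₂} [Category.{v₂} 𝒜] (p : 𝒜 ⥤ C) {R S : C}
    (f : R ⟶ S) {a b : 𝒜} (φ : a ⟶ b) [p.IsHomLift f φ] :
    p.IsCartesian (p.map φ) φ ↔ p.IsCartesian f φ := by
  subst_hom_lift p f φ
  exact Iff.rfl

/-- The compatibility with the structural isomorphisms is automatic over the base itself. -/
theorem fp_selfOver_w {R S : C} (g : R ⟶ S) {z x : (FibCat.fp F G).obj}
    (χ₁ : z.obj.fst ⟶ x.obj.fst) (χ₂ : z.obj.snd ⟶ x.obj.snd)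
    [h1 : 𝒳.p.IsHomLift g χ₁] [h2 : 𝒴.p.IsHomLift g χ₂] :
    F.map χ₁ ≫ x.obj.iso.hom = z.obj.iso.hom ≫ G.map χ₂ := by
  have hxR : 𝒳.p.obj x.obj.fst = S := IsHomLift.codomain_eq 𝒳.p g χ₁
  have hzR : 𝒳.p.obj z.obj.fst = R := IsHomLift.domain_eq 𝒳.p g χ₁
  have hx := fp_iso_isHomLift F G x hxR
  have hz := fp_iso_isHomLift F G z hzR
  have k1 : (FibCat.selfOver C).p.IsHomLift g (F.map χ₁ ≫ x.obj.iso.hom) := by
    have : (FibCat.selfOver C).p.IsHomLift (g ≫ 𝟙 S) (F.map χ₁ ≫ x.obj.iso.hom) := inferInstance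
    simpa using this
  have k2 : (FibCat.selfOver C).p.IsHomLift g (z.obj.iso.hom ≫ G.map χ₂) := by
    have : (FibCat.selfOver C).p.IsHomLift (𝟙 R ≫ g) (z.obj.iso.hom ≫ G.map χ₂) := inferInstance
    simpa using this
  exact selfOver_hom_ext' g _ _ k1 k2

/-- A morphism of the fibre product over the base with cartesian components is cartesian. -/
theorem fp_selfOver_isCartesian {R S : C} (f : R ⟶ S) {x y : (FibCat.fp F G).obj} (φ : x ⟶ y)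
    [h1 : 𝒳.p.IsCartesian f φ.hom.fst] [h2 : 𝒴.p.IsCartesian f φ.hom.snd] :
    (FibCat.fp F G).p.IsCartesian f φ := by
  have h0 : (FibCat.fp F G).p.IsHomLift f φ := (fp_isHomLift_iff F G f φ).2 inferInstance
  refine { toIsHomLift := h0, universal_property := ?_ }
  intro z ψ hψ
  have hψ1 : 𝒳.p.IsHomLift f ψ.hom.fst := fp_isHomLift_fst' F G _ ψ
  have hψ2 : 𝒴.p.IsHomLift f ψ.hom.snd := fp_isHomLift_snd' F G _ ψ
  obtain ⟨χ₁, ⟨hχ₁, eχ₁⟩, uχ₁⟩ := IsCartesian.universal_property (p := 𝒳.p) (f := f)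
    (φ := φ.hom.fst) ψ.hom.fst
  obtain ⟨χ₂, ⟨hχ₂, eχ₂⟩, uχ₂⟩ := IsCartesian.universal_property (p := 𝒴.p) (f := f)
    (φ := φ.hom.snd) ψ.hom.snd
  have w := fp_selfOver_w F G (𝟙 R) χ₁ χ₂
  refine ⟨ObjectProperty.homMk ⟨χ₁, χ₂, w⟩, ⟨?_, ?_⟩, ?_⟩
  · exact (fp_isHomLift_iff F G (𝟙 R) _).2 hχ₁
  · apply ObjectProperty.hom_ext
    apply Limits.CategoricalPullback.hom_ext
    · exact eχ₁
    · exact eχ₂
  · rintro χ' ⟨hχ'1, hχ'2⟩
    apply ObjectProperty.hom_ext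
    apply Limits.CategoricalPullback.hom_ext
    · have := fp_isHomLift_fst' F G (𝟙 R) χ'
      exact uχ₁ χ'.hom.fst ⟨this, by rw [← hχ'2]; rfl⟩
    · have := fp_isHomLift_snd' F G (𝟙 R) χ'
      exact uχ₂ χ'.hom.snd ⟨this, by rw [← hχ'2]; rfl⟩

theorem isHomLift_selfOver_eqToHom {A B T : C} (e : A = B) (hT : A = T) :
    (FibCat.selfOver C).p.IsHomLift (𝟙 T) (eqToHom e : (A : (FibCat.selfOver C).obj) ⟶ B) := by
  subst e
  subst hT
  exact IsHomLift.id rfl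

/-- The first component of a cartesian morphism of the fibre product over the base is
cartesian. -/
theorem fp_selfOver_fst_isCartesian {R S : C} (f : R ⟶ S) {x y : (FibCat.fp F G).obj} (φ : x ⟶ y)
    [hφ : (FibCat.fp F G).p.IsCartesian f φ] : 𝒳.p.IsCartesian f φ.hom.fst := by
  have h0 : 𝒳.p.IsHomLift f φ.hom.fst := fp_isHomLift_fst' F G f φ
  have h0' : 𝒴.p.IsHomLift f φ.hom.snd := fp_isHomLift_snd' F G f φ
  have hxR : 𝒳.p.obj x.obj.fst = R := IsHomLift.domain_eq 𝒳.p f φ.hom.fst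
  have hxR' : 𝒴.p.obj x.obj.snd = R := IsHomLift.domain_eq 𝒴.p f φ.hom.snd
  refine { toIsHomLift := h0, universal_property := ?_ }
  intro z₁ ψ₁ hψ₁
  have hz : 𝒳.p.obj z₁ = R := IsHomLift.domain_eq 𝒳.p f ψ₁
  have e : F.obj z₁ = G.obj x.obj.snd :=
    (F.w_obj z₁).trans (hz.trans (hxR'.symm.trans (G.w_obj x.obj.snd).symm))
  let z : (FibCat.fp F G).obj := ⟨⟨z₁, x.obj.snd, eqToIso e⟩,
    isHomLift_selfOver_eqToHom e (F.w_obj z₁)⟩
  have w : F.map ψ₁ ≫ y.obj.iso.hom = z.obj.iso.hom ≫ G.map φ.hom.snd :=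
    fp_selfOver_w F G f (z := z) (x := y) ψ₁ φ.hom.snd
  let ψ : z ⟶ y := ObjectProperty.homMk ⟨ψ₁, φ.hom.snd, w⟩
  have hψ : (FibCat.fp F G).p.IsHomLift f ψ := (fp_isHomLift_iff F G f ψ).2 hψ₁
  obtain ⟨χ, ⟨hχ, eχ⟩, uχ⟩ := hφ.universal_property ψ
  refine ⟨χ.hom.fst, ⟨fp_isHomLift_fst' F G (𝟙 R) χ, ?_⟩, ?_⟩
  · have := congrArg (fun t => t.hom.fst) eχ
    exact this
  · rintro χ₁' ⟨hχ₁', e'⟩
    have hid : 𝒴.p.IsHomLift (𝟙 R) (𝟙 x.obj.snd) := IsHomLift.id hxR'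
    have w' : F.map χ₁' ≫ x.obj.iso.hom = z.obj.iso.hom ≫ G.map (𝟙 x.obj.snd) :=
      fp_selfOver_w F G (𝟙 R) (z := z) (x := x) χ₁' (𝟙 x.obj.snd)
    let χ' : z ⟶ x := ObjectProperty.homMk ⟨χ₁', 𝟙 x.obj.snd, w'⟩
    have hχ' : (FibCat.fp F G).p.IsHomLift (𝟙 R) χ' := (fp_isHomLift_iff F G (𝟙 R) χ').2 hχ₁'
    have eχ' : χ' ≫ φ = ψ := by
      apply ObjectProperty.hom_ext
      apply Limits.CategoricalPullback.hom_ext
      · exact e'
      · exact Category.id_comp _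
    have := uχ χ' ⟨hχ', eχ'⟩
    rw [← this]
    rfl

/-- The second component of a cartesian morphism of the fibre product over the base is
cartesian. -/
theorem fp_selfOver_snd_isCartesian {R S : C} (f : R ⟶ S) {x y : (FibCat.fp F G).obj} (φ : x ⟶ y)
    [hφ : (FibCat.fp F G).p.IsCartesian f φ] : 𝒴.p.IsCartesian f φ.hom.snd := by
  have h0 : 𝒳.p.IsHomLift f φ.hom.fst := fp_isHomLift_fst' F G f φ
  have h0' : 𝒴.p.IsHomLift f φ.hom.snd := fp_isHomLift_snd' F G f φ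
  have hxR : 𝒳.p.obj x.obj.fst = R := IsHomLift.domain_eq 𝒳.p f φ.hom.fst
  have hxR' : 𝒴.p.obj x.obj.snd = R := IsHomLift.domain_eq 𝒴.p f φ.hom.snd
  refine { toIsHomLift := h0', universal_property := ?_ }
  intro z₂ ψ₂ hψ₂
  have hz : 𝒴.p.obj z₂ = R := IsHomLift.domain_eq 𝒴.p f ψ₂
  have e : F.obj x.obj.fst = G.obj z₂ :=
    (F.w_obj x.obj.fst).trans (hxR.trans (hz.symm.trans (G.w_obj z₂).symm))
  let z : (FibCat.fp F G).obj := ⟨⟨x.obj.fst, z₂, eqToIso e⟩,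
    isHomLift_selfOver_eqToHom e (F.w_obj x.obj.fst)⟩
  have w : F.map φ.hom.fst ≫ y.obj.iso.hom = z.obj.iso.hom ≫ G.map ψ₂ :=
    fp_selfOver_w F G f (z := z) (x := y) φ.hom.fst ψ₂
  let ψ : z ⟶ y := ObjectProperty.homMk ⟨φ.hom.fst, ψ₂, w⟩
  have hψ : (FibCat.fp F G).p.IsHomLift f ψ := (fp_isHomLift_iff F G f ψ).2 h0
  obtain ⟨χ, ⟨hχ, eχ⟩, uχ⟩ := hφ.universal_property ψ
  refine ⟨χ.hom.snd, ⟨fp_isHomLift_snd' F G (𝟙 R) χ, ?_⟩, ?_⟩
  · have := congrArg (fun t => t.hom.snd) eχ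
    exact this
  · rintro χ₂' ⟨hχ₂', e'⟩
    have hid : 𝒳.p.IsHomLift (𝟙 R) (𝟙 x.obj.fst) := IsHomLift.id hxR
    have w' : F.map (𝟙 x.obj.fst) ≫ x.obj.iso.hom = z.obj.iso.hom ≫ G.map χ₂' :=
      fp_selfOver_w F G (𝟙 R) (z := z) (x := x) (𝟙 x.obj.fst) χ₂'
    let χ' : z ⟶ x := ObjectProperty.homMk ⟨𝟙 x.obj.fst, χ₂', w'⟩
    have hχ' : (FibCat.fp F G).p.IsHomLift (𝟙 R) χ' := (fp_isHomLift_iff F G (𝟙 R) χ').2 hid
    have eχ' : χ' ≫ φ = ψ := by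
      apply ObjectProperty.hom_ext
      apply Limits.CategoricalPullback.hom_ext
      · exact Category.id_comp _
      · exact e'
    have := uχ χ' ⟨hχ', eχ'⟩
    rw [← this]
    rfl

/-- The fibre product over the base of two prefibred categories is prefibred. -/
theorem isPreFibered_fp_selfOver [𝒳.p.IsPreFibered] [𝒴.p.IsPreFibered] :
    (FibCat.fp F G).p.IsPreFibered := by
  refine ⟨?_⟩
  intro y R f
  change R ⟶ 𝒳.p.obj y.obj.fst at f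
  obtain ⟨x₁, φ₁, h₁⟩ := IsPreFibered.exists_isCartesian' (p := 𝒳.p) (a := y.obj.fst) f
  obtain ⟨x₂, φ₂, h₂⟩ := IsPreFibered.exists_isCartesian 𝒴.p (a := y.obj.snd)
    (fp_snd_obj F G y) f
  have hx₁ : 𝒳.p.obj x₁ = R := IsHomLift.domain_eq 𝒳.p f φ₁
  have hx₂ : 𝒴.p.obj x₂ = R := IsHomLift.domain_eq 𝒴.p f φ₂
  have e : F.obj x₁ = G.obj x₂ :=
    (F.w_obj x₁).trans (hx₁.trans (hx₂.symm.trans (G.w_obj x₂).symm))
  let x : (FibCat.fp F G).obj := ⟨⟨x₁, x₂, eqToIso e⟩,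
    isHomLift_selfOver_eqToHom e (F.w_obj x₁)⟩
  have w : F.map φ₁ ≫ y.obj.iso.hom = x.obj.iso.hom ≫ G.map φ₂ :=
    fp_selfOver_w F G f (z := x) (x := y) φ₁ φ₂
  let φ : x ⟶ y := ObjectProperty.homMk ⟨φ₁, φ₂, w⟩
  have k1 : 𝒳.p.IsCartesian f φ.hom.fst := h₁
  have k2 : 𝒴.p.IsCartesian f φ.hom.snd := h₂
  exact ⟨x, φ, fp_selfOver_isCartesian F G f φ⟩

/-- The fibre product over the base of two fibred categories is fibred. -/
theorem isFibered_fp_selfOver [𝒳.p.IsFibered] [𝒴.p.IsFibered] :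
    (FibCat.fp F G).p.IsFibered := by
  apply isFibered_fp F G
  · intro R S f a b φ hφ
    have : (FibCat.selfOver C).p.IsHomLift f (F.map φ) := inferInstance
    exact IsFibGrpd.isStronglyCartesian_of_isHomLift (isFibGrpd_selfOver C) f (F.map φ)
  · intro R S f a b φ hφ
    have : (FibCat.selfOver C).p.IsHomLift f (G.map φ) := inferInstance
    exact IsFibGrpd.isStronglyCartesian_of_isHomLift (isFibGrpd_selfOver C) f (G.map φ)

end FpCart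

end Groth.Agent.Lib.Helper17
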