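-- helper17: the product of two 1-morphisms over the base: fibre products with it.
import Groth.Agent.Lib.Helper17FpCart
import Groth.Agent.Lib.Helper17FpPaste2
import Groth.Agent.Lib.Helper17MagicRel

set_option autoImplicit false
open CategoryTheory CategoryTheory.Functor

universe v₀ u₀ v₁ u₁ v₂ u₂ v₃ u₃ v₄ u₄ v u

namespace Groth.Agent.Lib.Helper17

section FpProd

variable {C : Type u} [Category.{v} C]
  {𝒜 : BasedCategory.{v₀, u₀} C}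
  {𝒳₁ : BasedCategory.{v₁, u₁} C} {𝒳₂ : BasedCategory.{v₂, u₂} C}
  {𝒴₁ : BasedCategory.{v₃, u₃} C} {𝒴₂ : BasedCategory.{v₄, u₄} C}
  (f₁ : 𝒳₁ ⥤ᵇ 𝒴₁) (f₂ : 𝒳₂ ⥤ᵇ 𝒴₂)
  (e : BasedFunctor.comp (BasedFunctor.comp (FibCat.fpFst (FibCat.toSelf 𝒳₁) (FibCat.toSelf 𝒳₂)) f₁)
      (FibCat.toSelf 𝒴₁) ≅
    BasedFunctor.comp (BasedFunctor.comp (FibCat.fpSnd (FibCat.toSelf 𝒳₁) (FibCat.toSelf 𝒳₂)) f₂)
      (FibCat.toSelf 𝒴₂))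
  (t : 𝒜 ⥤ᵇ FibCat.fp (FibCat.toSelf 𝒴₁) (FibCat.toSelf 𝒴₂))

/-- The product functor. -/
abbrev prodF : FibCat.fp (FibCat.toSelf 𝒳₁) (FibCat.toSelf 𝒳₂) ⥤ᵇ
    FibCat.fp (FibCat.toSelf 𝒴₁) (FibCat.toSelf 𝒴₂) :=
  FibCat.fpLift (BasedFunctor.comp (FibCat.fpFst (FibCat.toSelf 𝒳₁) (FibCat.toSelf 𝒳₂)) f₁)
    (BasedFunctor.comp (FibCat.fpSnd (FibCat.toSelf 𝒳₁) (FibCat.toSelf 𝒳₂)) f₂) e

/-- First component of the test functor. -/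
abbrev prodT₁ : 𝒜 ⥤ᵇ 𝒴₁ :=
  BasedFunctor.comp t (FibCat.fpFst (FibCat.toSelf 𝒴₁) (FibCat.toSelf 𝒴₂))

/-- Second component of the test functor. -/
abbrev prodT₂ : 𝒜 ⥤ᵇ 𝒴₂ :=
  BasedFunctor.comp t (FibCat.fpSnd (FibCat.toSelf 𝒴₁) (FibCat.toSelf 𝒴₂))

/-- The projection to the fibre product with the first factor. -/
def prodA : FibCat.fp t (prodF f₁ f₂ e) ⥤ᵇ FibCat.fp (prodT₁ t) f₁ :=
  FibCat.fpLift (FibCat.fpFst t (prodF f₁ f₂ e))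
    (BasedFunctor.comp (FibCat.fpSnd t (prodF f₁ f₂ e))
      (FibCat.fpFst (FibCat.toSelf 𝒳₁) (FibCat.toSelf 𝒳₂)))
    (whiskerRightIso (FibCat.fpIso t (prodF f₁ f₂ e))
      (FibCat.fpFst (FibCat.toSelf 𝒴₁) (FibCat.toSelf 𝒴₂)) : _ ≅ _)

/-- The comparison functor. -/
def prodCmp : FibCat.fp t (prodF f₁ f₂ e) ⥤ᵇ
    FibCat.fp (BasedFunctor.comp (FibCat.fpFst (prodT₁ t) f₁) (prodT₂ t)) f₂ :=
  FibCat.fpLift (prodA f₁ f₂ e t)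
    (BasedFunctor.comp (FibCat.fpSnd t (prodF f₁ f₂ e))
      (FibCat.fpSnd (FibCat.toSelf 𝒳₁) (FibCat.toSelf 𝒳₂)))
    (whiskerRightIso (FibCat.fpIso t (prodF f₁ f₂ e))
      (FibCat.fpSnd (FibCat.toSelf 𝒴₁) (FibCat.toSelf 𝒴₂)) : _ ≅ _)

theorem prodCmp_obj_fst_fst (s : (FibCat.fp t (prodF f₁ f₂ e)).obj) :
    ((prodCmp f₁ f₂ e t).obj s).obj.fst.obj.fst = s.obj.fst := rfl

theorem prodCmp_obj_fst_snd (s : (FibCat.fp t (prodF f₁ f₂ e)).obj) :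
    ((prodCmp f₁ f₂ e t).obj s).obj.fst.obj.snd = s.obj.snd.obj.fst := rfl

theorem prodCmp_obj_snd (s : (FibCat.fp t (prodF f₁ f₂ e)).obj) :
    ((prodCmp f₁ f₂ e t).obj s).obj.snd = s.obj.snd.obj.snd := rfl

theorem prodCmp_obj_fst_iso (s : (FibCat.fp t (prodF f₁ f₂ e)).obj) :
    ((prodCmp f₁ f₂ e t).obj s).obj.fst.obj.iso.hom = s.obj.iso.hom.hom.fst := rfl

theorem prodCmp_obj_iso (s : (FibCat.fp t (prodF f₁ f₂ e)).obj) :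
    ((prodCmp f₁ f₂ e t).obj s).obj.iso.hom = s.obj.iso.hom.hom.snd := rfl

theorem prodCmp_map_fst_fst {s s' : (FibCat.fp t (prodF f₁ f₂ e)).obj} (m : s ⟶ s') :
    ((prodCmp f₁ f₂ e t).map m).hom.fst.hom.fst = m.hom.fst := rfl

theorem prodCmp_map_fst_snd {s s' : (FibCat.fp t (prodF f₁ f₂ e)).obj} (m : s ⟶ s') :
    ((prodCmp f₁ f₂ e t).map m).hom.fst.hom.snd = m.hom.snd.hom.fst := rfl

theorem prodCmp_map_snd {s s' : (FibCat.fp t (prodF f₁ f₂ e)).obj} (m : s ⟶ s') :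
    ((prodCmp f₁ f₂ e t).map m).hom.snd = m.hom.snd.hom.snd := rfl

theorem prodCmp_faithful : (prodCmp f₁ f₂ e t).toFunctor.Faithful := by
  refine ⟨fun {s s'} m m' h => ?_⟩
  apply ObjectProperty.hom_ext
  apply Limits.CategoricalPullback.hom_ext
  · exact congrArg (fun r => r.hom.fst.hom.fst) h
  · apply ObjectProperty.hom_ext
    apply Limits.CategoricalPullback.hom_ext
    · exact congrArg (fun r => r.hom.fst.hom.snd) h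
    · exact congrArg (fun r => r.hom.snd) h

theorem prodCmp_full : (prodCmp f₁ f₂ e t).toFunctor.Full := by
  refine ⟨fun {s s'} n => ?_⟩
  obtain ⟨α, hα⟩ : ∃ α : s.obj.fst ⟶ s'.obj.fst, α = n.hom.fst.hom.fst := ⟨_, rfl⟩
  obtain ⟨β₁, hβ₁⟩ : ∃ β : s.obj.snd.obj.fst ⟶ s'.obj.snd.obj.fst, β = n.hom.fst.hom.snd :=
    ⟨_, rfl⟩
  obtain ⟨β₂, hβ₂⟩ : ∃ β : s.obj.snd.obj.snd ⟶ s'.obj.snd.obj.snd, β = n.hom.snd := ⟨_, rfl⟩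
  -- all components lie over the same morphism of the base
  have hn : (FibCat.fp (BasedFunctor.comp (FibCat.fpFst (prodT₁ t) f₁) (prodT₂ t)) f₂).p.IsHomLift
      ((FibCat.fp (BasedFunctor.comp (FibCat.fpFst (prodT₁ t) f₁) (prodT₂ t)) f₂).p.map n) n :=
    inferInstance
  have hn₁ := fp_isHomLift_fst' (BasedFunctor.comp (FibCat.fpFst (prodT₁ t) f₁) (prodT₂ t)) f₂
    ((FibCat.fp (BasedFunctor.comp (FibCat.fpFst (prodT₁ t) f₁) (prodT₂ t)) f₂).p.map n) n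
  have hβ₂l := fp_isHomLift_snd' (BasedFunctor.comp (FibCat.fpFst (prodT₁ t) f₁) (prodT₂ t)) f₂
    ((FibCat.fp (BasedFunctor.comp (FibCat.fpFst (prodT₁ t) f₁) (prodT₂ t)) f₂).p.map n) n
  have hβ₁l := fp_isHomLift_snd' (prodT₁ t) f₁
    ((FibCat.fp (BasedFunctor.comp (FibCat.fpFst (prodT₁ t) f₁) (prodT₂ t)) f₂).p.map n) n.hom.fst
  have hβ₁' : 𝒳₁.p.IsHomLift
      ((FibCat.fp (BasedFunctor.comp (FibCat.fpFst (prodT₁ t) f₁) (prodT₂ t)) f₂).p.map n) β₁ := by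
    rw [hβ₁]; exact hβ₁l
  have hβ₂' : 𝒳₂.p.IsHomLift
      ((FibCat.fp (BasedFunctor.comp (FibCat.fpFst (prodT₁ t) f₁) (prodT₂ t)) f₂).p.map n) β₂ := by
    rw [hβ₂]; exact hβ₂l
  have wP : (FibCat.toSelf 𝒳₁).map β₁ ≫ s'.obj.snd.obj.iso.hom =
      s.obj.snd.obj.iso.hom ≫ (FibCat.toSelf 𝒳₂).map β₂ :=
    fp_selfOver_w (FibCat.toSelf 𝒳₁) (FibCat.toSelf 𝒳₂)
      ((FibCat.fp (BasedFunctor.comp (FibCat.fpFst (prodT₁ t) f₁) (prodT₂ t)) f₂).p.map n)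
      (z := s.obj.snd) (x := s'.obj.snd) β₁ β₂
  let b : s.obj.snd ⟶ s'.obj.snd := ObjectProperty.homMk ⟨β₁, β₂, wP⟩
  have c1 : (t.map α).hom.fst ≫ s'.obj.iso.hom.hom.fst = s.obj.iso.hom.hom.fst ≫ f₁.map β₁ := by
    rw [hα, hβ₁]
    exact n.hom.fst.hom.w
  have c2 : (t.map α).hom.snd ≫ s'.obj.iso.hom.hom.snd = s.obj.iso.hom.hom.snd ≫ f₂.map β₂ := by
    rw [hα, hβ₂]
    exact n.hom.w
  have w : t.map α ≫ s'.obj.iso.hom = s.obj.iso.hom ≫ (prodF f₁ f₂ e).map b := by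
    apply ObjectProperty.hom_ext
    apply Limits.CategoricalPullback.hom_ext
    · exact c1
    · exact c2
  refine ⟨ObjectProperty.homMk ⟨α, b, w⟩, ?_⟩
  apply ObjectProperty.hom_ext
  apply Limits.CategoricalPullback.hom_ext
  · apply ObjectProperty.hom_ext
    apply Limits.CategoricalPullback.hom_ext
    · exact hα
    · exact hβ₁
  · exact hβ₂

theorem prodCmp_essSurjOver : EssSurjOver (prodCmp f₁ f₂ e t) := by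
  intro v
  -- components of `v`
  obtain ⟨κ₁, hκ₁⟩ : ∃ κ : (t.obj v.obj.fst.obj.fst).obj.fst ≅ f₁.obj v.obj.fst.obj.snd,
      κ = v.obj.fst.obj.iso := ⟨_, rfl⟩
  obtain ⟨κ₂, hκ₂⟩ : ∃ κ : (t.obj v.obj.fst.obj.fst).obj.snd ≅ f₂.obj v.obj.snd,
      κ = v.obj.iso := ⟨_, rfl⟩
  have hκ₁l : 𝒴₁.p.IsHomLift (𝟙 (𝒜.p.obj v.obj.fst.obj.fst)) κ₁.hom := by
    rw [hκ₁]; exact v.obj.fst.property
  have hκ₂l : 𝒴₂.p.IsHomLift (𝟙 (𝒜.p.obj v.obj.fst.obj.fst)) κ₂.hom := by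
    rw [hκ₂]; exact v.property
  have e₁ : 𝒳₁.p.obj v.obj.fst.obj.snd = 𝒜.p.obj v.obj.fst.obj.fst :=
    fp_snd_obj (prodT₁ t) f₁ v.obj.fst
  have e₂ : 𝒳₂.p.obj v.obj.snd = 𝒜.p.obj v.obj.fst.obj.fst :=
    fp_snd_obj (BasedFunctor.comp (FibCat.fpFst (prodT₁ t) f₁) (prodT₂ t)) f₂ v
  have e' : (FibCat.toSelf 𝒳₁).obj v.obj.fst.obj.snd = (FibCat.toSelf 𝒳₂).obj v.obj.snd :=
    e₁.trans e₂.symm
  let q : (FibCat.fp (FibCat.toSelf 𝒳₁) (FibCat.toSelf 𝒳₂)).obj :=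
    ⟨⟨v.obj.fst.obj.snd, v.obj.snd, eqToIso e'⟩, isHomLift_selfOver_eqToHom e' rfl⟩
  have hκ₁l' : 𝒴₁.p.IsHomLift (𝟙 (𝒜.p.obj v.obj.fst.obj.fst))
      (κ₁.hom : (t.obj v.obj.fst.obj.fst).obj.fst ⟶ ((prodF f₁ f₂ e).obj q).obj.fst) := hκ₁l
  have hκ₂l' : 𝒴₂.p.IsHomLift (𝟙 (𝒜.p.obj v.obj.fst.obj.fst))
      (κ₂.hom : (t.obj v.obj.fst.obj.fst).obj.snd ⟶ ((prodF f₁ f₂ e).obj q).obj.snd) := hκ₂l
  have wθ : (FibCat.toSelf 𝒴₁).map κ₁.hom ≫ ((prodF f₁ f₂ e).obj q).obj.iso.hom =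
      (t.obj v.obj.fst.obj.fst).obj.iso.hom ≫ (FibCat.toSelf 𝒴₂).map κ₂.hom :=
    fp_selfOver_w (FibCat.toSelf 𝒴₁) (FibCat.toSelf 𝒴₂) (𝟙 (𝒜.p.obj v.obj.fst.obj.fst))
      (z := t.obj v.obj.fst.obj.fst) (x := (prodF f₁ f₂ e).obj q) κ₁.hom κ₂.hom
      (h1 := hκ₁l') (h2 := hκ₂l')
  let θ : t.obj v.obj.fst.obj.fst ≅ (prodF f₁ f₂ e).obj q :=
    ObjectProperty.isoMk _ (Limits.CategoricalPullback.mkIso
      (x := (t.obj v.obj.fst.obj.fst).obj) (y := ((prodF f₁ f₂ e).obj q).obj) κ₁ κ₂ wθ)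
  have hθ : (FibCat.fp (FibCat.toSelf 𝒴₁) (FibCat.toSelf 𝒴₂)).p.IsHomLift
      (𝟙 (𝒜.p.obj v.obj.fst.obj.fst)) θ.hom := by
    rw [fp_isHomLift_iff]
    exact hκ₁l
  let s : (FibCat.fp t (prodF f₁ f₂ e)).obj := ⟨⟨v.obj.fst.obj.fst, q, θ⟩, hθ⟩
  have hthin : (prodT₁ t).map (Iso.refl v.obj.fst.obj.fst).hom ≫ v.obj.fst.obj.iso.hom =
      ((prodCmp f₁ f₂ e t).obj s).obj.fst.obj.iso.hom ≫
        f₁.map (Iso.refl v.obj.fst.obj.snd).hom := by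
    refine aux_thin _ _ _ _ ((prodT₁ t).toFunctor.map_id _) (f₁.toFunctor.map_id _) ?_
    rw [← hκ₁]
    rfl
  let i₁ : ((prodCmp f₁ f₂ e t).obj s).obj.fst ≅ v.obj.fst :=
    ObjectProperty.isoMk _ (Limits.CategoricalPullback.mkIso
      (x := ((prodCmp f₁ f₂ e t).obj s).obj.fst.obj) (y := v.obj.fst.obj)
      (Iso.refl _) (Iso.refl _) hthin)
  have hw : (BasedFunctor.comp (FibCat.fpFst (prodT₁ t) f₁) (prodT₂ t)).map i₁.hom ≫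
      v.obj.iso.hom =
      ((prodCmp f₁ f₂ e t).obj s).obj.iso.hom ≫ f₂.map (Iso.refl v.obj.snd).hom := by
    refine aux_thin _ _ _ _ ?_ (f₂.toFunctor.map_id _) ?_
    · change (prodT₂ t).toFunctor.map (𝟙 _) = _
      exact (prodT₂ t).toFunctor.map_id _
    · rw [← hκ₂]
      rfl
  refine ⟨s, ObjectProperty.isoMk _ (Limits.CategoricalPullback.mkIso
    (x := ((prodCmp f₁ f₂ e t).obj s).obj) (y := v.obj) i₁ (Iso.refl _) hw), ?_⟩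
  rw [fp_isHomLift_iff, fp_isHomLift_iff]
  change 𝒜.p.IsHomLift (𝟙 (𝒜.p.obj v.obj.fst.obj.fst)) (𝟙 v.obj.fst.obj.fst)
  exact IsHomLift.id rfl

theorem isEquivOver_prodCmp : FibCat.IsEquivOver (prodCmp f₁ f₂ e t) := by
  have := prodCmp_faithful f₁ f₂ e t
  have := prodCmp_full f₁ f₂ e t
  exact isEquivOver_of_fullyFaithful_of_essSurjOver _ (prodCmp_essSurjOver f₁ f₂ e t)

end FpProd

end Groth.Agent.Lib.Helper17
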