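-- helper15: well-nigh affine algebraic stacks are quasi-compact with finite diagonal over the base (descent of the diagonal along a finite flat chart)
import Mathlib
import Groth.Prelude.Def_W4stkstmodspWNA
import Groth.Agent.Lib.Helper15PtsQc
import Groth.Agent.Lib.Helper15Descent
import Groth.Agent.Lib.Helper17MagicSq
import Groth.Agent.Lib.Helper17FpProd
import Groth.Agent.Lib.Helper15SpMapRep
import Groth.Agent.Lib.Helper15PtsTop
import Groth.Agent.Lib.Helper15Atlas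
import Groth.Agent.Lib.Helper15OpenSub
import Groth.Agent.S10272
import Groth.Agent.S10271
import Groth.Agent.S9956
import Groth.Agent.S10267
import Groth.Agent.S9948
import Groth.Agent.S10536
import Groth.Agent.S10541
import Groth.Agent.Lib.Helper15DiagInertia
import Groth.Agent.Lib.Helper15DiagApps
import Groth.Agent.Lib.Helper15ChartSp
import Groth.Agent.Lib.Helper15BaseChange
import Groth.Agent.Lib.Helper17SelfOver
import Groth.Agent.Lib.Helper15LocQEngine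

set_option autoImplicit false
set_option backward.isDefEq.respectTransparency false
set_option backward.isDefEq.respectTransparency.types false
open CategoryTheory CategoryTheory.Functor CategoryTheory.Limits Opposite AlgebraicGeometry

universe u

namespace Groth.Agent.Lib.Helper15WNA

open Groth.Agent.Lib.Helper17 Groth.Agent.Lib.Helper15RepComp Groth.Agent.Lib.Helper15RepPsh
  Groth.Agent.Lib.Helper15DiagRepSp Groth.Agent.Lib.Helper15Atlas Groth.Agent.Lib.Helper15PtsTop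
  Groth.Agent.Lib.Helper15PtsQc Groth.Agent.Lib.Helper15Descent Groth.Agent.Lib.Helper15SpMapRep
  Groth.Agent.Lib.Helper15PtsComp Groth.Agent.Lib.Helper15DiagLft Groth.Agent.Lib.Helper15DiagInertia
  Groth.Agent.Lib.Helper15DiagApps Groth.Agent.Lib.Helper15ChartSp Groth.Agent.Lib.Helper15BaseChange
  Groth.Agent.Lib.Helper15DiagDescent

variable {S : Scheme.{u}}

section Prod

variable {𝒳₁ 𝒳₂ 𝒴₁ 𝒴₂ : AlgSt.Cat S}

/-- The product of two functors with `P` has `P`, for `P` satisfying the composition condition. -/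
theorem repByAlgSpWith_prodMap_of_compCond (h𝒳₁ : FibCat.IsFibGrpd 𝒳₁.p)
    (h𝒳₂ : FibCat.IsFibGrpd 𝒳₂.p) (h𝒴₁ : FibCat.IsFibGrpd 𝒴₁.p) (h𝒴₂ : FibCat.IsFibGrpd 𝒴₂.p)
    (P : MorphismProperty (AlgSp.Sp S)) (hP : CompCond P)
    (f₁ : 𝒳₁ ⥤ᵇ 𝒴₁) (f₂ : 𝒳₂ ⥤ᵇ 𝒴₂) (hf₁ : AlgSt.RepByAlgSpWith P f₁)
    (hf₂ : AlgSt.RepByAlgSpWith P f₂)
    (e : BasedFunctor.comp (BasedFunctor.comp (FibCat.fpFst (FibCat.toSelf 𝒳₁) (FibCat.toSelf 𝒳₂)) f₁)
      (FibCat.toSelf 𝒴₁) ≅ BasedFunctor.comp (BasedFunctor.comp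
        (FibCat.fpSnd (FibCat.toSelf 𝒳₁) (FibCat.toSelf 𝒳₂)) f₂) (FibCat.toSelf 𝒴₂)) :
    AlgSt.RepByAlgSpWith P (prodF f₁ f₂ e) := by
  intro U t
  have hU : FibCat.IsFibGrpd (FibCat.overCat U).p := (isFibSet_overForget U).1
  have hA : FibCat.IsFibGrpd (FibCat.fp (prodT₁ t) f₁).p := isFibGrpd_fp _ _ hU h𝒳₁ h𝒴₁
  have hB : FibCat.IsFibGrpd
      (FibCat.fp (BasedFunctor.comp (FibCat.fpFst (prodT₁ t) f₁) (prodT₂ t)) f₂).p :=
    isFibGrpd_fp _ _ hA h𝒳₂ h𝒴₂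
  have h1 : AlgSt.RepByAlgSpWith P (FibCat.fpFst (prodT₁ t) f₁) :=
    repByAlgSpWith_fpFst P f₁ (prodT₁ t) hf₁
  have h2 : AlgSt.RepByAlgSpWith P
      (FibCat.fpFst (BasedFunctor.comp (FibCat.fpFst (prodT₁ t) f₁) (prodT₂ t)) f₂) :=
    repByAlgSpWith_fpFst P f₂ _ hf₂
  have h3 := repByAlgSpWith_comp_of_compCond hB hA P hP _ _ h2 h1
  have h4 := h3 U (BasedFunctor.id _)
  have h5 := repWith_transfer (FibCat.fpFst (BasedFunctor.id _) _) _
    (FibCat.fpSnd (BasedFunctor.id _) _)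
    (isEquivOver_fpSnd (BasedFunctor.id _) _ (isEquivOver_id _))
    (FibCat.fpIso (BasedFunctor.id _) _).symm P h4
  exact repWith_transfer' (FibCat.fpFst t (prodF f₁ f₂ e)) _ (prodCmp f₁ f₂ e t)
    (isEquivOver_prodCmp f₁ f₂ e t) (Iso.refl _) P h5

end Prod

section DiagDescent

variable {𝒳 : AlgSt.Cat S}

theorem repByAlgSpWith_mono {𝒜 ℬ : AlgSt.Cat S} {P Q : MorphismProperty (AlgSp.Sp S)}
    (h : P ≤ Q) {f : 𝒜 ⥤ᵇ ℬ} (hf : AlgSt.RepByAlgSpWith P f) : AlgSt.RepByAlgSpWith Q f := by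
  intro U y
  obtain ⟨F, e, he, hP⟩ := hf U y
  exact ⟨F, e, he, h _ hP⟩

/-- The product of a flat, locally finitely presented, surjective chart with itself. -/
theorem prodFun_cover (h𝒳 : FibCat.IsFibGrpd 𝒳.p) {U : Over S} (x : FibCat.overCat U ⥤ᵇ 𝒳)
    (P : MorphismProperty (AlgSp.Sp S)) (hP : CompCond P) (hx : AlgSt.RepByAlgSpWith P x) :
    AlgSt.RepByAlgSpWith P (prodFun x x) := by
  have hU : FibCat.IsFibGrpd (FibCat.overCat U).p := (isFibSet_overForget U).1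
  exact repByAlgSpWith_prodMap_of_compCond hU hU h𝒳 h𝒳 P hP x x hx hx _

/-- Descent of a property of the diagonal over the base along a flat, locally finitely presented,
surjective chart. -/
theorem repByAlgSpWith_diag_toSelf_of_chart (h𝒳 : AlgSt.IsAlgStack Scheme.fppfPrecoverage 𝒳)
    {U : Over S} (x : FibCat.overCat U ⥤ᵇ 𝒳)
    (hx₁ : AlgSt.RepByAlgSpWith (AlgSp.LocP @Flat) x)
    (hx₂ : AlgSt.RepByAlgSpWith (AlgSp.LocP @LocallyOfFinitePresentation) x)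
    (hx₃ : AlgSt.RepByAlgSpWith AlgSp.IsSurjectiveMor x)
    (P : MorphismProperty (AlgSp.Sp S)) (hP : AlgSp.IsLocalOnBase AlgSp.IsFppfCover P)
    (hj : AlgSt.RepByAlgSpWith P (toProdOver x x)) :
    AlgSt.RepByAlgSpWith P (FibCat.diag (FibCat.toSelf 𝒳)) := by
  have h' : AlgSt.RepByAlgSpWith P (FibCat.fpFst (prodFun x x) (FibCat.diag (FibCat.toSelf 𝒳))) :=
    (repByAlgSpWith_of_square P (FibCat.fpFst (prodFun x x) (FibCat.diag (FibCat.toSelf 𝒳)))
      (toProdOver x x) (magic x x) (BasedFunctor.id _) (isEquivOver_magic x x) (isEquivOver_id _)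
      (Iso.refl _)).2 hj
  exact repByAlgSpWith_of_fpFst_of_cover P hP (FibCat.diag (FibCat.toSelf 𝒳)) h𝒳.diag (prodFun x x)
    (prodFun_cover h𝒳.isStack.1 x _ compCond_flat hx₁)
    (prodFun_cover h𝒳.isStack.1 x _ compCond_lfp hx₂)
    (prodFun_cover h𝒳.isStack.1 x _ compCond_isSurjectiveMor hx₃) h'

end DiagDescent

section Chart

variable {𝒳 : AlgSt.Cat S}

theorem bcStable_isProperMor : BCStable (AlgSp.IsProperMor (S := S)) := by
  intro X₁ Y₁ X₂ Y₂ hX₁ hY₁ hX₂ hY₂ a b a' b' sq ha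
  exact ⟨bcStable_separated hX₁ hY₁ hX₂ hY₂ a b a' b' sq ha.1,
    ⟨bcStable_lft hX₁ hY₁ hX₂ hY₂ a b a' b' sq ha.2.1.1,
      bcStable_qc hX₁ hY₁ hX₂ hY₂ a b a' b' sq ha.2.1.2⟩,
    bcStable_univClosed hX₁ hY₁ hX₂ hY₂ a b a' b' sq ha.2.2⟩

theorem isSeparated_prod_fst_left (U : Over S) [IsAffine U.left] :
    IsSeparated (prod.fst : U ⨯ U ⟶ U).left := by
  rw [← Over.prodLeftIsoPullback_hom_fst]
  infer_instance

/-- The functor `R ⟶ U ×_S U` of a chart `x` with a given property of its first projection. -/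
theorem repByAlgSpWith_toProdOver {U : Over S} (x : FibCat.overCat U ⥤ᵇ 𝒳)
    (Q : MorphismProperty (AlgSp.Sp S)) (hx : AlgSt.RepByAlgSpWith Q x)
    (P : MorphismProperty (AlgSp.Sp S)) (hPb : BCStable P)
    (hP : ∀ (R : AlgSp.Space S) (j : R.obj ⟶ (AlgSp.yon S).obj (U ⨯ U)),
      Q (j ≫ (AlgSp.yon S).map prod.fst) → P j) :
    AlgSt.RepByAlgSpWith P (toProdOver x x) := by
  obtain ⟨R₀, e, he, hc⟩ := hx U x
  obtain ⟨τ', hτ', -, ⟨β⟩⟩ := IsEquivOver.exists_inverse_isEquivOver' (toProdSlice U U)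
    (isEquivOver_toProdSlice U U)
  let J : AlgSt.ofSp R₀.obj ⥤ᵇ FibCat.overCat (U ⨯ U) :=
    BasedFunctor.comp (BasedFunctor.comp e (toProdOver x x)) τ'
  let UU : AlgSp.Space S := ⟨(AlgSp.yon S).obj (U ⨯ U), AlgSp.IsAlgSpace.yon_obj _⟩
  let j₀ : R₀ ⟶ UU := ObjectProperty.homMk (AlgSt.spMapOfOver J)
  have hj₀ : P j₀.hom := by
    apply hP
    have hcomp : AlgSt.spMapOfOver J ≫ (AlgSp.yon S).map prod.fst =
        AlgSt.spMapOfOver (BasedFunctor.comp e (FibCat.fpFst x x)) := by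
      rw [← Groth.Agent.Lib.Helper15LocQEngine.spMapOfOver_comp_overMap]
      apply spMapOfOver_eq_of_iso
      exact (whiskerLeftIso (BasedFunctor.comp e (toProdOver x x))
        (whiskerRightIso β (FibCat.fpFst (FibCat.toSelf (FibCat.overCat U))
          (FibCat.toSelf (FibCat.overCat U)))) :
        BasedFunctor.comp J (AlgSt.overMap prod.fst) ≅
          BasedFunctor.comp e (FibCat.fpFst x x))
    change Q (AlgSt.spMapOfOver J ≫ (AlgSp.yon S).map prod.fst)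
    rw [hcomp]
    exact hc
  have h1 := repByAlgSpWith_ofSpMap P hPb R₀ UU j₀ hj₀
  refine (repByAlgSpWith_of_square P (toProdOver x x) (AlgSt.ofSpMap j₀.hom) e
    (BasedFunctor.comp (AlgSt.toOverCat (U ⨯ U)) (toProdSlice U U)) he
    (IsEquivOver.comp _ _ (isEquivOver_toOverCat _) (isEquivOver_toProdSlice U U)) ?_).2 h1
  have ι₁ : BasedFunctor.comp (AlgSt.ofSpMap j₀.hom) (AlgSt.toOverCat (U ⨯ U)) ≅ J :=
    whiskerRightIso (spMapIso J).symm (AlgSt.toOverCat (U ⨯ U)) ≪≫ Iso.refl _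
  exact (whiskerRightIso ι₁ (toProdSlice U U) :
      BasedFunctor.comp (AlgSt.ofSpMap j₀.hom)
        (BasedFunctor.comp (AlgSt.toOverCat (U ⨯ U)) (toProdSlice U U)) ≅
      BasedFunctor.comp (BasedFunctor.comp e (toProdOver x x))
        (BasedFunctor.comp τ' (toProdSlice U U))) ≪≫
    whiskerLeftIso (BasedFunctor.comp e (toProdOver x x)) β ≪≫
    (Iso.refl _ : _ ≅ BasedFunctor.comp e (toProdOver x x))

end Chart

section Main

variable {𝒳 : AlgSt.Cat S}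

theorem isFiniteMor_cancel_prod_fst (U : Over S) [IsAffine U.left] (R : AlgSp.Space S)
    (j : R.obj ⟶ (AlgSp.yon S).obj (U ⨯ U))
    (h : AlgSp.IsFiniteMor (j ≫ (AlgSp.yon S).map prod.fst)) : AlgSp.IsFiniteMor j := by
  let UU : AlgSp.Space S := ⟨(AlgSp.yon S).obj (U ⨯ U), AlgSp.IsAlgSpace.yon_obj _⟩
  let U' : AlgSp.Space S := ⟨(AlgSp.yon S).obj U, AlgSp.IsAlgSpace.yon_obj _⟩
  let f : R ⟶ UU := ObjectProperty.homMk j
  let g : UU ⟶ U' := ObjectProperty.homMk ((AlgSp.yon S).map prod.fst)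
  have hg : AlgSp.IsSeparatedMor g.hom := by
    have := isSeparated_prod_fst_left U
    exact (AlgSp.isSeparatedMor_yon_map_iff _).2 this
  exact (Groth.Agent.S10272.result f g hg).1 h

theorem isProperMor_of_isFiniteMor (T : Over S) (R : AlgSp.Space S)
    (j : R.obj ⟶ (AlgSp.yon S).obj T) (h : AlgSp.IsFiniteMor j) : AlgSp.IsProperMor j := by
  let TT : AlgSp.Space S := ⟨(AlgSp.yon S).obj T, AlgSp.IsAlgSpace.yon_obj _⟩
  let f : R ⟶ TT := ObjectProperty.homMk j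
  exact ((Groth.Agent.S10271.result f).1 h).2

theorem locP_lqf_of_isFiniteMor (T : Over S) (R : AlgSp.Space S)
    (j : R.obj ⟶ (AlgSp.yon S).obj T) (h : AlgSp.IsFiniteMor j) :
    AlgSp.LocP (@LocallyQuasiFinite ⊓ @LocallyOfFiniteType) j := by
  let TT : AlgSp.Space S := ⟨(AlgSp.yon S).obj T, AlgSp.IsAlgSpace.yon_obj _⟩
  let f : R ⟶ TT := ObjectProperty.homMk j
  have h1 : AlgSp.RepWith @IsFinite f.hom := (Groth.Agent.S10267.result f).2.1 h
  have h2 : AlgSp.RepWith (@LocallyQuasiFinite ⊓ @LocallyOfFiniteType) f.hom :=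
    Groth.Agent.Lib.Helper15OpenSub.repWith_mono (fun A B g hg => by
      have := hg
      exact ⟨inferInstance, inferInstance⟩) h1
  exact (Groth.Agent.S9948.result (@LocallyQuasiFinite ⊓ @LocallyOfFiniteType)
    (Or.inr (Or.inr (Or.inr (Or.inr (Or.inr (Or.inl (fun A B g => Iff.rfl)))))))
    f h1.1).2 h2

theorem isQuasiCompact_of_isWellNighAffine (h𝒳 : AlgSt.IsAlgStack Scheme.fppfPrecoverage 𝒳)
    (hw : AlgSt.IsWellNighAffine 𝒳) : AlgSt.IsQuasiCompact 𝒳 := by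
  obtain ⟨U, x, hU, hx⟩ := hw
  have hx₃ : AlgSt.RepByAlgSpWith AlgSp.IsSurjectiveMor x :=
    repByAlgSpWith_mono (inf_le_left.trans (inf_le_left.trans inf_le_left)) hx
  rw [isQuasiCompact_iff_compactSpace h𝒳]
  have hsurj := surjective_ofChart h𝒳 x hx₃
  have hcont := continuous_ofChart h𝒳 x
  refine ⟨?_⟩
  rw [← Set.image_univ_of_surjective hsurj]
  exact isCompact_univ.image hcont

theorem diag_of_isWellNighAffine (h𝒳 : AlgSt.IsAlgStack Scheme.fppfPrecoverage 𝒳)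
    (hw : AlgSt.IsWellNighAffine 𝒳) (P : MorphismProperty (AlgSp.Sp S)) (hPb : BCStable P)
    (hPl : AlgSp.IsLocalOnBase AlgSp.IsFppfCover P)
    (hP : ∀ (T : Over S) (R : AlgSp.Space S) (j : R.obj ⟶ (AlgSp.yon S).obj T),
      AlgSp.IsFiniteMor j → P j) :
    AlgSt.RepByAlgSpWith P (FibCat.diag (FibCat.toSelf 𝒳)) := by
  obtain ⟨U, x, hU, hx⟩ := hw
  have hx₃ : AlgSt.RepByAlgSpWith AlgSp.IsSurjectiveMor x :=
    repByAlgSpWith_mono (inf_le_left.trans (inf_le_left.trans inf_le_left)) hx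
  have hx₁ : AlgSt.RepByAlgSpWith (AlgSp.LocP @Flat) x :=
    repByAlgSpWith_mono (inf_le_left.trans (inf_le_left.trans inf_le_right)) hx
  have hx₄ : AlgSt.RepByAlgSpWith AlgSp.IsFiniteMor x :=
    repByAlgSpWith_mono (inf_le_left.trans inf_le_right) hx
  have hx₂ : AlgSt.RepByAlgSpWith (AlgSp.LocP @LocallyOfFinitePresentation) x :=
    repByAlgSpWith_mono inf_le_right hx
  apply repByAlgSpWith_diag_toSelf_of_chart h𝒳 x hx₁ hx₂ hx₃ P hPl
  exact repByAlgSpWith_toProdOver x _ hx₄ P hPb (fun R j hj =>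
    hP _ R j (isFiniteMor_cancel_prod_fst U R j hj))

end Main

end Groth.Agent.Lib.Helper15WNA
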