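-- helper15: abstract two-topology sheaf criterion (Zariski sheaf covered by fppf-sheaf subfunctors).
import Mathlib

set_option autoImplicit false
open CategoryTheory Opposite

universe w w' w'' v u

namespace Groth.Agent.Lib.Helper15ZarFppfAbs

variable {C : Type u} [Category.{v} C] {J JZ : GrothendieckTopology C}
  {F : Cᵒᵖ ⥤ Type w} {ι : Type w'} {Fi : ι → (Cᵒᵖ ⥤ Type w)} (m : ∀ i, Fi i ⟶ F)

/-- The section `x` of `F` lies in the `i`-th subfunctor. -/
def InF (i : ι) {T : C} (x : F.obj (op T)) : Prop := x ∈ Set.range ((m i).app (op T))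

theorem inF_map (i : ι) {T Y : C} (f : Y ⟶ T) {x : F.obj (op T)} (h : InF m i x) :
    InF m i (F.map f.op x) := by
  obtain ⟨y, rfl⟩ := h
  exact ⟨(Fi i).map f.op y, NatTrans.naturality_apply (m i) f.op y⟩

/-- The geometric input: every `J`-covering sieve is refined, `JZ`-locally, by singleton `J`-covers. -/
def Geo (J JZ : GrothendieckTopology C) : Prop :=
  ∀ (T : C) (R : Sieve T), R ∈ J T → ∃ (I : Type w'') (U : I → C) (j : ∀ a, U a ⟶ T) (W : I → C)
    (v : ∀ a, W a ⟶ U a), Sieve.generate (Presieve.ofArrows U j) ∈ JZ T ∧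
      ∀ a, Sieve.generate (Presieve.singleton (v a)) ∈ J (U a) ∧ R (v a ≫ j a)

/-- Closure of the subfunctors under `J`-local membership. -/
def Clo (J : GrothendieckTopology C) : Prop :=
  ∀ (i : ι) (T : C) (x : F.obj (op T)) (Z : Sieve T), Z ∈ J T →
    (∀ ⦃Y : C⦄ (f : Y ⟶ T), Z f → InF m i (F.map f.op x)) → InF m i x

/-- `J`-local surjectivity of the family of subfunctors. -/
def Cov (J : GrothendieckTopology C) : Prop :=
  ∀ (T : C) (x : F.obj (op T)), ∃ R ∈ J T, ∀ ⦃Y : C⦄ (f : Y ⟶ T), R f → ∃ i, InF m i (F.map f.op x)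

variable {m}

theorem zariski_local (geo : Geo.{w''} J JZ) (clo : Clo m J) (hc : Cov m J) {T : C} (x : F.obj (op T)) :
    ∃ RZ ∈ JZ T, ∀ ⦃Y : C⦄ (f : Y ⟶ T), RZ f → ∃ i, InF m i (F.map f.op x) := by
  obtain ⟨R, hR, hRx⟩ := hc T x
  obtain ⟨I, U, j, W, v, hZ, hv⟩ := geo T R hR
  refine ⟨_, hZ, ?_⟩
  rintro Y f ⟨Y', g, _, ⟨a⟩, rfl⟩
  obtain ⟨hK, hRa⟩ := hv a
  obtain ⟨i, hi⟩ := hRx _ hRa
  refine ⟨i, ?_⟩
  have h2 : InF m i (F.map (j a).op x) := by
    refine clo i _ _ _ hK ?_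
    rintro Y'' f' ⟨_, g', _, ⟨⟩, rfl⟩
    have h3 := inF_map m i g' hi
    simpa using h3
  simpa using inF_map m i g h2

theorem separated (geo : Geo.{w''} J JZ) (clo : Clo m J) (hc : Cov m J) (h1 : Presieve.IsSheaf JZ F)
    (ha : ∀ i, Presieve.IsSheaf J (Fi i))
    (hmono : ∀ i (T : C), Function.Injective ((m i).app (op T)))
    {T : C} (Z : Sieve T) (hZ : Z ∈ J T) (a b : F.obj (op T))
    (hab : ∀ ⦃Y : C⦄ (f : Y ⟶ T), Z f → F.map f.op a = F.map f.op b) : a = b := by
  obtain ⟨RZ, hRZ, hRb⟩ := zariski_local geo clo hc b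
  refine ((h1 RZ hRZ).isSeparatedFor).ext ?_
  intro Y f hf
  obtain ⟨i, hib⟩ := hRb f hf
  have hZf : Z.pullback f ∈ J Y := J.pullback_stable f hZ
  have key : ∀ ⦃Y' : C⦄ (g : Y' ⟶ Y), Z (g ≫ f) →
      F.map g.op (F.map f.op a) = F.map g.op (F.map f.op b) := by
    intro Y' g hg
    have := hab _ hg
    simpa using this
  have hia : InF m i (F.map f.op a) := by
    refine clo i _ _ _ hZf ?_
    intro Y' g hg
    rw [key g hg]
    exact inF_map m i g hib
  obtain ⟨ya, hya⟩ := hia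
  obtain ⟨yb, hyb⟩ := hib
  have : ya = yb := by
    refine ((ha i _ hZf).isSeparatedFor).ext ?_
    intro Y' g hg
    apply hmono i
    rw [NatTrans.naturality_apply, NatTrans.naturality_apply, hya, hyb]
    exact key g hg
  rw [← hya, ← hyb, this]

theorem exists_amalgamation (geo : Geo.{w''} J JZ) (clo : Clo m J) (hc : Cov m J)
    (h1 : Presieve.IsSheaf JZ F) (ha : ∀ i, Presieve.IsSheaf J (Fi i))
    (hmono : ∀ i (T : C), Function.Injective ((m i).app (op T)))
    {T : C} (Z : Sieve T) (hZ : Z ∈ J T) (x : Presieve.FamilyOfElements F Z.arrows)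
    (hx : x.Compatible) : ∃ t, x.IsAmalgamation t := by
  have hx' := (Presieve.compatible_iff_sieveCompatible x).1 hx
  have xcongr : ∀ {Y : C} {f f' : Y ⟶ T} (h : f = f') (hf : Z f), x f hf = x f' (h ▸ hf) := by
    intro Y f f' h hf; subst h; rfl
  -- amalgamations of the pulled-back family
  let IsAm : ∀ {Y : C} (f : Y ⟶ T), F.obj (op Y) → Prop := fun {Y} f ξ =>
    ∀ ⦃Y' : C⦄ (g : Y' ⟶ Y) (hg : Z (g ≫ f)), F.map g.op ξ = x (g ≫ f) hg
  have uniq : ∀ {Y : C} (f : Y ⟶ T) (ξ ξ' : F.obj (op Y)), IsAm f ξ → IsAm f ξ' → ξ = ξ' := by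
    intro Y f ξ ξ' h h'
    exact separated geo clo hc h1 ha hmono (Z.pullback f) (J.pullback_stable f hZ) ξ ξ'
      (fun Y' g hg => (h g hg).trans (h' g hg).symm)
  have restr : ∀ {Y Y' : C} (f : Y ⟶ T) (k : Y' ⟶ Y) (ξ : F.obj (op Y)), IsAm f ξ →
      IsAm (k ≫ f) (F.map k.op ξ) := by
    intro Y Y' f k ξ h Y'' g hg
    have hg' : Z ((g ≫ k) ≫ f) := by simpa using hg
    have h3 := h (g ≫ k) hg'
    rw [op_comp, Functor.map_comp_apply] at h3
    rw [h3]
    exact xcongr (by simp) _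
  let A : Sieve T :=
    { arrows := fun Y f => ∃ ξ, IsAm f ξ
      downward_closed := fun {Y Y' f} ⟨ξ, h⟩ k => ⟨_, restr f k ξ h⟩ }
  have hA : A ∈ JZ T := by
    let Z' : Sieve T :=
      { arrows := fun Y f => ∃ hf : Z f, ∃ i, InF m i (x f hf)
        downward_closed := by
          rintro Y Y' f ⟨hf, i, hi⟩ k
          refine ⟨Z.downward_closed hf k, i, ?_⟩
          rw [hx' f k hf]
          exact inF_map m i k hi }
    have hZ' : Z' ∈ J T := by
      refine J.superset_covering ?_ (J.bind_covering hZ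
        (R := fun Y f hf => Classical.choose (hc Y (x f hf)))
        (fun Y f hf => (Classical.choose_spec (hc Y (x f hf))).1))
      rintro Y f ⟨Y', g, f', hf', hg, rfl⟩
      refine ⟨Z.downward_closed hf' g, ?_⟩
      obtain ⟨i, hi⟩ := (Classical.choose_spec (hc _ (x f' hf'))).2 g hg
      refine ⟨i, ?_⟩
      rw [hx' f' g hf']
      exact hi
    obtain ⟨I, U, j, W, v, hZar, hv⟩ := geo T Z' hZ'
    refine JZ.superset_covering ?_ hZar
    rintro Y f ⟨Y', g, _, ⟨a⟩, rfl⟩
    refine A.downward_closed ?_ g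
    obtain ⟨hK, hZa, i, hi⟩ := hv a
    have hKZ : ∀ ⦃Y'' : C⦄ (h : Y'' ⟶ U a),
        (Sieve.generate (Presieve.singleton (v a))) h → Z (h ≫ j a) := by
      rintro Y'' h ⟨_, g', _, ⟨⟩, rfl⟩
      simpa using Z.downward_closed hZa g'
    have hKin : ∀ ⦃Y'' : C⦄ (h : Y'' ⟶ U a)
        (hh : (Sieve.generate (Presieve.singleton (v a))) h),
        InF m i (x (h ≫ j a) (hKZ h hh)) := by
      intro Y'' h hh
      have hh' := hh
      obtain ⟨_, g', _, ⟨⟩, rfl⟩ := hh'
      have h4 : x ((g' ≫ v a) ≫ j a) (hKZ _ hh) = F.map g'.op (x (v a ≫ j a) hZa) := by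
        rw [← hx' _ g' hZa]
        exact xcongr (by simp) _
      rw [h4]
      exact inF_map m i g' hi
    let y : Presieve.FamilyOfElements (Fi i) (Sieve.generate (Presieve.singleton (v a))).arrows :=
      fun Y'' h hh => Classical.choose (hKin h hh)
    have hy : ∀ ⦃Y'' : C⦄ (h : Y'' ⟶ U a) (hh : (Sieve.generate (Presieve.singleton (v a))) h),
        (m i).app _ (y h hh) = x (h ≫ j a) (hKZ h hh) :=
      fun _ h hh => Classical.choose_spec (hKin h hh)
    have ycomp : y.Compatible := by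
      rw [Presieve.compatible_iff_sieveCompatible]
      intro Y1 Y2 h k hh
      apply hmono i
      rw [hy (k ≫ h) (Sieve.downward_closed _ hh k), NatTrans.naturality_apply, hy h hh,
        ← hx' _ k (hKZ h hh)]
      exact xcongr (by simp) _
    obtain ⟨η, hη, -⟩ := ha i _ hK y ycomp
    refine ⟨(m i).app _ η, ?_⟩
    intro Y'' g hg
    refine separated geo clo hc h1 ha hmono
      ((Sieve.generate (Presieve.singleton (v a))).pullback g) (J.pullback_stable g hK) _ _ ?_
    intro Y3 k hk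
    have e1 : F.map k.op (F.map g.op ((m i).app _ η)) = x ((k ≫ g) ≫ j a) (hKZ _ hk) := by
      rw [← Functor.map_comp_apply, ← op_comp, ← NatTrans.naturality_apply, hη _ hk, hy _ hk]
    rw [e1, ← hx' _ k hg]
    exact xcongr (by simp) _
  let ξ : Presieve.FamilyOfElements F A.arrows := fun Y f hf => Classical.choose hf
  have hξ : ∀ ⦃Y : C⦄ (f : Y ⟶ T) (hf : A f), IsAm f (ξ f hf) :=
    fun _ f hf => Classical.choose_spec hf
  have ξcomp : ξ.Compatible := by
    rw [Presieve.compatible_iff_sieveCompatible]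
    intro Y1 Y2 f g hf
    exact uniq (g ≫ f) _ _ (hξ _ _) (restr f g _ (hξ _ _))
  obtain ⟨t, ht, -⟩ := h1 A hA ξ ξcomp
  refine ⟨t, ?_⟩
  intro Y g hg
  have hxg : IsAm g (x g hg) := fun Y' k hk => (hx' g k hg).symm
  have hAg : A g := ⟨x g hg, hxg⟩
  refine uniq g _ _ ?_ hxg
  rw [ht g hAg]
  exact hξ _ _

/-- Abstract form: a `JZ`-sheaf covered `J`-locally by `J`-sheaf subfunctors closed under `J`-local
membership is a `J`-sheaf, provided `J`-covers are `JZ`-locally refined by singleton covers. -/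
theorem isSheaf_of_covered (geo : Geo.{w''} J JZ) (clo : Clo m J) (hc : Cov m J)
    (h1 : Presieve.IsSheaf JZ F) (ha : ∀ i, Presieve.IsSheaf J (Fi i))
    (hmono : ∀ i (T : C), Function.Injective ((m i).app (op T))) : Presieve.IsSheaf J F := by
  intro T Z hZ
  rw [← Presieve.isSeparatedFor_and_exists_isAmalgamation_iff_isSheafFor]
  refine ⟨?_, fun x hx => exists_amalgamation geo clo hc h1 ha hmono Z hZ x hx⟩
  intro x t₁ t₂ h₁ h₂
  exact separated geo clo hc h1 ha hmono Z hZ t₁ t₂ (fun Y f hf => (h₁ f hf).trans (h₂ f hf).symm)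

end Groth.Agent.Lib.Helper15ZarFppfAbs
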