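-- helper15: subfunctors representable by algebraic spaces are closed under fppf-local membership.
import Mathlib
import Groth.Prelude.Def_AlgSpRep
import Groth.Agent.Lib.Helper15ZarFppfAbs

set_option autoImplicit false
open CategoryTheory CategoryTheory.Limits AlgebraicGeometry Opposite

universe u v

namespace Groth.Agent.Lib.Helper15ZarFppfClo

open Groth.Agent.Lib.Helper15ZarFppfAbs

variable {S : Scheme.{u}}

theorem clo {F : AlgSp.PSp S} {ι : Type v} {Fi : ι → AlgSp.PSp S} (m : ∀ i, Fi i ⟶ F)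
    [∀ i, Mono (m i)] (hb : ∀ i, AlgSp.RepBySp (m i)) : Clo m (AlgSp.J S) := by
  intro i T x Z hZ hx
  let ξ : (AlgSp.pyon S).obj T ⟶ F := uliftYonedaEquiv.symm x
  have hξ : ∀ {Y : Over S} (f : Y ⟶ T), ξ.app (op Y) ⟨f⟩ = F.map f.op x := fun f => rfl
  have sq : IsPullback (pullback.fst (m i) ξ) (pullback.snd (m i) ξ) (m i) ξ :=
    IsPullback.of_hasPullback _ _
  obtain ⟨hG, -⟩ := hb i ξ _ _ sq
  have hG' : Presieve.IsSheaf (AlgSp.J S) (Limits.pullback (m i) ξ) :=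
    (isSheaf_iff_isSheaf_of_type _ _).1 hG
  have sqY : ∀ Y : Over S, IsPullback ((pullback.fst (m i) ξ).app (op Y))
      ((pullback.snd (m i) ξ).app (op Y)) ((m i).app (op Y)) (ξ.app (op Y)) :=
    fun Y => sq.map ((evaluation _ _).obj (op Y))
  have hmono : Mono (pullback.snd (m i) ξ) := inferInstance
  have hinj : ∀ Y : Over S, Function.Injective ((pullback.snd (m i) ξ).app (op Y)) := by
    intro Y
    rw [← mono_iff_injective]
    exact (NatTrans.mono_iff_mono_app _).1 hmono (op Y)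
  -- the family
  have hex : ∀ ⦃Y : Over S⦄ (f : Y ⟶ T), Z f →
      ∃ g : (Limits.pullback (m i) ξ).obj (op Y), (pullback.snd (m i) ξ).app (op Y) g = ⟨f⟩ := by
    intro Y f hf
    obtain ⟨y, hy⟩ := hx f hf
    obtain ⟨g, -, hg⟩ := Types.exists_of_isPullback (sqY Y) y ⟨f⟩ (by rw [hy, hξ])
    exact ⟨g, hg⟩
  let fam : Presieve.FamilyOfElements (Limits.pullback (m i) ξ) Z.arrows :=
    fun Y f hf => Classical.choose (hex f hf)
  have hfam : ∀ ⦃Y : Over S⦄ (f : Y ⟶ T) (hf : Z f),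
      (pullback.snd (m i) ξ).app (op Y) (fam f hf) = ⟨f⟩ :=
    fun Y f hf => Classical.choose_spec (hex f hf)
  have hcomp : fam.Compatible := by
    intro Y₁ Y₂ Y₃ g₁ g₂ f₁ f₂ h₁ h₂ e
    apply hinj
    rw [NatTrans.naturality_apply, NatTrans.naturality_apply, hfam f₁ h₁, hfam f₂ h₂]
    change ULift.up (g₁ ≫ f₁) = ULift.up (g₂ ≫ f₂)
    rw [e]
  obtain ⟨g, hg, -⟩ := hG' Z hZ fam hcomp
  obtain ⟨k, hk⟩ : ∃ k : T ⟶ T, (pullback.snd (m i) ξ).app (op T) g = ⟨k⟩ :=
    ⟨((pullback.snd (m i) ξ).app (op T) g).down, rfl⟩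
  have hsepT : Presieve.IsSheaf (AlgSp.J S) ((AlgSp.pyon S).obj T) :=
    (isSheaf_iff_isSheaf_of_type _ _).1 ((AlgSp.yon S).obj T).property
  have hk1 : (ULift.up k : ((AlgSp.pyon S).obj T).obj (op T)) = ULift.up (𝟙 T) := by
    refine (hsepT Z hZ).isSeparatedFor.ext (fun Y f hf => ?_)
    have e1 : (pullback.snd (m i) ξ).app (op Y) ((Limits.pullback (m i) ξ).map f.op g) = ⟨f⟩ := by
      rw [hg f hf, hfam f hf]
    rw [NatTrans.naturality_apply, hk] at e1
    rw [e1]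
    change ULift.up f = ULift.up (f ≫ 𝟙 T)
    rw [Category.comp_id]
  have hw := ConcreteCategory.congr_hom (sqY T).w g
  simp only [CategoryTheory.comp_apply] at hw
  rw [hk, hk1, hξ] at hw
  refine ⟨(pullback.fst (m i) ξ).app (op T) g, ?_⟩
  rw [hw]
  simp

end Groth.Agent.Lib.Helper15ZarFppfClo
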