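-- helper15: geometric input (fppf covers are Zariski-locally refined by singleton covers) for the two-topology sheaf criterion.
import Mathlib
import Groth.Prelude.Def_AlgSpRep
import Groth.Agent.Lib.Helper15ZarFppfAbs

set_option autoImplicit false
open CategoryTheory CategoryTheory.Limits AlgebraicGeometry Opposite

universe u

namespace Groth.Agent.Lib.Helper15ZarFppfGeo

open Groth.Agent.Lib.Helper15ZarFppfAbs

variable {S : Scheme.{u}}

/-- The sieve generated by one fppf covering morphism of schemes over `S` is covering. -/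
theorem generate_singleton_mem {T V : Over S} (v : V ⟶ T) [Flat v.left]
    [LocallyOfFinitePresentation v.left] (hs : Function.Surjective v.left) :
    Sieve.generate (Presieve.singleton v) ∈ QuotSh.J Scheme.fppfPrecoverage S T := by
  have : Surjective v.left := ⟨hs⟩
  rw [GrothendieckTopology.mem_over_iff]
  refine Scheme.fppfPrecoverage.toGrothendieck.superset_covering ?_
    (Precoverage.generate_mem_toGrothendieck (Scheme.Hom.singleton_mem_fppfPrecoverage v.left))
  rw [Sieve.generate_le_iff]
  rintro T' f ⟨⟩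
  rw [Sieve.overEquiv_iff]
  have h0 : (Sieve.generate (Presieve.singleton v)) v :=
    Sieve.le_generate _ _ _ (Presieve.singleton.mk)
  let g : Over.mk (v.left ≫ T.hom) ⟶ V := Over.homMk (𝟙 V.left) (by simp)
  have h1 := (Sieve.generate (Presieve.singleton v)).downward_closed h0 g
  have h2 : g ≫ v = (Over.homMk v.left : Over.mk (v.left ≫ T.hom) ⟶ T) := by
    ext
    simp [g]
  rw [h2] at h1
  exact h1

/-- The sieve generated by an open cover of a scheme over `S` is Zariski covering. -/
theorem generate_opens_mem {T : Over S} {I : Type u} (U : I → T.left.Opens)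
    (hU : ∀ t : ↥T.left, ∃ a, t ∈ U a) :
    Sieve.generate (Presieve.ofArrows (fun a => Over.mk ((U a).ι ≫ T.hom))
      (fun a => (Over.homMk (U a).ι : Over.mk ((U a).ι ≫ T.hom) ⟶ T))) ∈
      QuotSh.J Scheme.zariskiPrecoverage S T := by
  rw [GrothendieckTopology.mem_over_iff]
  have hcov : TopologicalSpace.IsOpenCover U := by
    rw [TopologicalSpace.IsOpenCover, eq_top_iff]
    intro t _
    obtain ⟨a, ha⟩ := hU t
    exact TopologicalSpace.Opens.mem_iSup.2 ⟨a, ha⟩
  let 𝒰 : T.left.OpenCover := Scheme.openCoverOfIsOpenCover T.left U hcov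
  refine Scheme.zariskiPrecoverage.toGrothendieck.superset_covering ?_
    (Precoverage.generate_mem_toGrothendieck 𝒰.mem₀)
  rw [Sieve.generate_le_iff]
  rintro T' f ⟨a⟩
  rw [Sieve.overEquiv_iff]
  exact Sieve.le_generate _ _ _ (Presieve.ofArrows.mk a)

theorem hasIsos_fppf : Precoverage.HasIsos Scheme.fppfPrecoverage.{u} := by
  unfold Scheme.fppfPrecoverage
  have : (@Flat ⊓ @LocallyOfFinitePresentation : MorphismProperty Scheme.{u}).ContainsIdentities :=
    ⟨fun X => ⟨inferInstanceAs (Flat (𝟙 X)), inferInstanceAs (LocallyOfFinitePresentation (𝟙 X))⟩⟩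
  infer_instance

theorem geo : Geo.{u} (AlgSp.J S) (QuotSh.J Scheme.zariskiPrecoverage S) := by
  intro T R hR
  have hR' := hR
  have := hasIsos_fppf.{u}
  rw [GrothendieckTopology.mem_over_iff,
    Precoverage.mem_toGrothendieck_iff_of_isStableUnderComposition] at hR'
  obtain ⟨R', hR', hle⟩ := hR'
  have hjs : ∀ x : ↥T.left, ∃ (Y : Scheme.{u}) (g : Y ⟶ T.left), R' g ∧ x ∈ Set.range g := by
    intro x
    have h1 := hR'.1
    rw [Scheme.jointlySurjectivePrecoverage,
      Presieve.mem_comap_jointlySurjectivePrecoverage_iff] at h1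
    obtain ⟨Y, g, hg, hx⟩ := h1 x
    exact ⟨Y, g, hg, hx⟩
  choose Y g hg hx using hjs
  have hflat : ∀ x, Flat (g x) := fun x => (hR'.2 (hg x)).1
  have hlfp : ∀ x, LocallyOfFinitePresentation (g x) := fun x => (hR'.2 (hg x)).2
  have hRg : ∀ x, R (Over.homMk (g x) rfl : Over.mk (g x ≫ T.hom) ⟶ T) := by
    intro x
    have h4 := hle _ _ (hg x)
    rw [Sieve.overEquiv_iff] at h4
    exact h4
  have hopen : ∀ x, IsOpen (Set.range (g x)) := fun x => (g x).isOpenMap.isOpen_range
  let V : ↥T.left → T.left.Opens := fun x => ⟨Set.range (g x), hopen x⟩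
  have hsub : ∀ x, Set.range (g x) ⊆ Set.range (V x).ι := fun x => by
    rw [Scheme.Opens.range_ι]; rfl
  let g' : ∀ x, Y x ⟶ (V x).toScheme := fun x => IsOpenImmersion.lift (V x).ι (g x) (hsub x)
  have hg' : ∀ x, g' x ≫ (V x).ι = g x := fun x => IsOpenImmersion.lift_fac _ _ _
  have hflat' : ∀ x, Flat (g' x) := fun x =>
    MorphismProperty.of_postcomp (W := @Flat) (W' := @IsOpenImmersion) (g' x) (V x).ι
      inferInstance (by rw [hg']; infer_instance)
  have hlfp' : ∀ x, LocallyOfFinitePresentation (g' x) := fun x =>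
    MorphismProperty.of_postcomp (W := @LocallyOfFinitePresentation) (W' := @IsOpenImmersion)
      (g' x) (V x).ι inferInstance (by rw [hg']; infer_instance)
  have hsurj : ∀ x, Function.Surjective (g' x) := by
    intro x v
    obtain ⟨u, hu⟩ : ((V x).ι v) ∈ Set.range (g x) := v.2
    refine ⟨u, ?_⟩
    apply (V x).ι.injective
    rw [← Scheme.Hom.comp_apply, hg', hu]
  refine ⟨↥T.left, fun x => Over.mk ((V x).ι ≫ T.hom), fun x => Over.homMk (V x).ι,
    fun x => Over.mk (g x ≫ T.hom), fun x => Over.homMk (g' x) (by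
      simp only [Over.mk_left, Over.mk_hom]; rw [← Category.assoc, hg']), ?_, fun x => ⟨?_, ?_⟩⟩
  · exact generate_opens_mem V (fun t => ⟨t, hx t⟩)
  · have : Flat (Over.homMk (g' x) (by
      simp only [Over.mk_left, Over.mk_hom]; rw [← Category.assoc, hg']) :
        Over.mk (g x ≫ T.hom) ⟶ Over.mk ((V x).ι ≫ T.hom)).left := hflat' x
    have : LocallyOfFinitePresentation (Over.homMk (g' x) (by
      simp only [Over.mk_left, Over.mk_hom]; rw [← Category.assoc, hg']) :
        Over.mk (g x ≫ T.hom) ⟶ Over.mk ((V x).ι ≫ T.hom)).left := hlfp' x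
    exact generate_singleton_mem _ (hsurj x)
  · have h5 : (Over.homMk (g' x) (by
      simp only [Over.mk_left, Over.mk_hom]; rw [← Category.assoc, hg']) :
        Over.mk (g x ≫ T.hom) ⟶ Over.mk ((V x).ι ≫ T.hom)) ≫
        (Over.homMk (V x).ι : Over.mk ((V x).ι ≫ T.hom) ⟶ T) = Over.homMk (g x) rfl := by
      ext
      simp [hg']
    rw [h5]
    exact hRg x

end Groth.Agent.Lib.Helper15ZarFppfGeo
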