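-- helper15: descent of a descent datum along an fppf cover through comparison bijections (Part A for S9855)
import Mathlib
import Groth.Prelude.Def_Desc

set_option autoImplicit false
set_option linter.unusedSectionVars false
open CategoryTheory CategoryTheory.Limits AlgebraicGeometry
universe u

namespace Groth.Agent.Lib.Helper15ZarRefA

open Desc

variable {U V S : Scheme.{u}} {G : U ⟶ V} {uu : U ⟶ S}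

/-- comparison bijections between the points of a scheme over the target of a cover and the points
of a descent datum on the source of the cover -/
structure Cmp (G : U ⟶ V) (D' : SchDD uu) (W : Over V) where
  /-- the bijections -/
  θ : ∀ ⦃T : Scheme.{u}⦄ (y : T ⟶ U) (x : T ⟶ V), y ≫ G = x → (Lifts W x ≃ Lifts D'.obj y)
  nat : ∀ ⦃T T₂ : Scheme.{u}⦄ (k : T₂ ⟶ T) (y : T ⟶ U) (x : T ⟶ V) (h : y ≫ G = x)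
    (y₂ : T₂ ⟶ U) (x₂ : T₂ ⟶ V) (h₂ : y₂ ≫ G = x₂) (_ : k ≫ y = y₂) (_ : k ≫ x = x₂)
    (l : Lifts W x) (l₂ : Lifts W x₂), l₂.1 = k ≫ l.1 → (θ y₂ x₂ h₂ l₂).1 = k ≫ (θ y x h l).1
  compat : ∀ ⦃T : Scheme.{u}⦄ (y₀ y₁ : T ⟶ U) (x : T ⟶ V) (h₀ : y₀ ≫ G = x) (h₁ : y₁ ≫ G = x)
    (hh : y₀ ≫ uu = y₁ ≫ uu) (l : Lifts W x), θ y₁ x h₁ l = D'.φ y₀ y₁ hh (θ y₀ x h₀ l)

/-- restriction of a point along a morphism of test schemes -/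
def pre {X : Scheme.{u}} {A : Over X} {T T₂ : Scheme.{u}} (k : T₂ ⟶ T) {x : T ⟶ X}
    (l : Lifts A x) : Lifts A (k ≫ x) :=
  ⟨k ≫ l.1, by rw [Category.assoc, l.2]⟩

@[simp] lemma pre_val {X : Scheme.{u}} {A : Over X} {T T₂ : Scheme.{u}} (k : T₂ ⟶ T) {x : T ⟶ X}
    (l : Lifts A x) : (pre k l).1 = k ≫ l.1 := rfl

variable {D' : SchDD uu} {W : Over V} (C : Cmp G D' W)

/-- the local relation -/
def Loc {T : Scheme.{u}} (y₀ y₁ : T ⟶ U) (z₀ z₁ : T ⟶ V) (h₀ : y₀ ≫ G = z₀) (h₁ : y₁ ≫ G = z₁)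
    (hh : y₀ ≫ uu = y₁ ≫ uu) (n₀ : Lifts W z₀) (n₁ : Lifts W z₁) : Prop :=
  C.θ y₁ z₁ h₁ n₁ = D'.φ y₀ y₁ hh (C.θ y₀ z₀ h₀ n₀)

lemma Loc.congr {T : Scheme.{u}} {y₀ y₁ : T ⟶ U} {z₀ z₁ z₀' z₁' : T ⟶ V} {h₀ : y₀ ≫ G = z₀}
    {h₁ : y₁ ≫ G = z₁} {hh : y₀ ≫ uu = y₁ ≫ uu} {n₀ : Lifts W z₀} {n₁ : Lifts W z₁}
    (H : Loc C y₀ y₁ z₀ z₁ h₀ h₁ hh n₀ n₁) (e₀ : z₀ = z₀') (e₁ : z₁ = z₁')
    (n₀' : Lifts W z₀') (n₁' : Lifts W z₁') (hn₀ : n₀'.1 = n₀.1) (hn₁ : n₁'.1 = n₁.1) :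
    Loc C y₀ y₁ z₀' z₁' (h₀.trans e₀) (h₁.trans e₁) hh n₀' n₁' := by
  subst e₀ e₁
  obtain rfl : n₀' = n₀ := Subtype.ext hn₀
  obtain rfl : n₁' = n₁ := Subtype.ext hn₁
  exact H

lemma loc_existsUnique {T : Scheme.{u}} (y₀ y₁ : T ⟶ U) (z₀ z₁ : T ⟶ V) (h₀ : y₀ ≫ G = z₀)
    (h₁ : y₁ ≫ G = z₁) (hh : y₀ ≫ uu = y₁ ≫ uu) (n₀ : Lifts W z₀) :
    ∃! n₁ : Lifts W z₁, Loc C y₀ y₁ z₀ z₁ h₀ h₁ hh n₀ n₁ := by
  refine ⟨(C.θ y₁ z₁ h₁).symm (D'.φ y₀ y₁ hh (C.θ y₀ z₀ h₀ n₀)), ?_, ?_⟩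
  · change C.θ y₁ z₁ h₁ _ = _
    rw [Equiv.apply_symm_apply]
  · intro n hn
    apply (C.θ y₁ z₁ h₁).injective
    rw [Equiv.apply_symm_apply]
    exact hn

lemma loc_nat {T T₃ : Scheme.{u}} (c : T₃ ⟶ T) {y₀ y₁ : T ⟶ U} {z₀ z₁ : T ⟶ V}
    {h₀ : y₀ ≫ G = z₀} {h₁ : y₁ ≫ G = z₁} {hh : y₀ ≫ uu = y₁ ≫ uu} {n₀ : Lifts W z₀}
    {n₁ : Lifts W z₁} (H : Loc C y₀ y₁ z₀ z₁ h₀ h₁ hh n₀ n₁)
    (h₀' : (c ≫ y₀) ≫ G = c ≫ z₀) (h₁' : (c ≫ y₁) ≫ G = c ≫ z₁)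
    (hh' : (c ≫ y₀) ≫ uu = (c ≫ y₁) ≫ uu) :
    Loc C (c ≫ y₀) (c ≫ y₁) (c ≫ z₀) (c ≫ z₁) h₀' h₁' hh' (pre c n₀) (pre c n₁) := by
  apply Subtype.ext
  have e1 := C.nat c y₁ z₁ h₁ (c ≫ y₁) (c ≫ z₁) h₁' rfl rfl n₁ (pre c n₁) rfl
  have e0 := C.nat c y₀ z₀ h₀ (c ≫ y₀) (c ≫ z₀) h₀' rfl rfl n₀ (pre c n₀) rfl
  have e2 := D'.φ_natural c y₀ y₁ hh hh' (C.θ y₀ z₀ h₀ n₀)
    (C.θ (c ≫ y₀) (c ≫ z₀) h₀' (pre c n₀)) e0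
  rw [e1, e2]
  exact congrArg (fun t => c ≫ Subtype.val t) H

lemma loc_of_epi {T T₃ : Scheme.{u}} (c : T₃ ⟶ T) [Epi c] {y₀ y₁ : T ⟶ U} {z₀ z₁ : T ⟶ V}
    {h₀ : y₀ ≫ G = z₀} {h₁ : y₁ ≫ G = z₁} {hh : y₀ ≫ uu = y₁ ≫ uu} {n₀ : Lifts W z₀}
    {n₁ : Lifts W z₁}
    (h₀' : (c ≫ y₀) ≫ G = c ≫ z₀) (h₁' : (c ≫ y₁) ≫ G = c ≫ z₁)
    (hh' : (c ≫ y₀) ≫ uu = (c ≫ y₁) ≫ uu)
    (H : Loc C (c ≫ y₀) (c ≫ y₁) (c ≫ z₀) (c ≫ z₁) h₀' h₁' hh' (pre c n₀) (pre c n₁)) :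
    Loc C y₀ y₁ z₀ z₁ h₀ h₁ hh n₀ n₁ := by
  apply Subtype.ext
  rw [← cancel_epi c]
  have e1 := C.nat c y₁ z₁ h₁ (c ≫ y₁) (c ≫ z₁) h₁' rfl rfl n₁ (pre c n₁) rfl
  have e0 := C.nat c y₀ z₀ h₀ (c ≫ y₀) (c ≫ z₀) h₀' rfl rfl n₀ (pre c n₀) rfl
  have e2 := D'.φ_natural c y₀ y₁ hh hh' (C.θ y₀ z₀ h₀ n₀)
    (C.θ (c ≫ y₀) (c ≫ z₀) h₀' (pre c n₀)) e0
  rw [← e1, ← e2]
  exact congrArg Subtype.val H

lemma loc_indep {T : Scheme.{u}} {y₀ y₁ y₀' y₁' : T ⟶ U} {z₀ z₁ : T ⟶ V}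
    {h₀ : y₀ ≫ G = z₀} {h₁ : y₁ ≫ G = z₁} {hh : y₀ ≫ uu = y₁ ≫ uu} {n₀ : Lifts W z₀}
    {n₁ : Lifts W z₁} (H : Loc C y₀ y₁ z₀ z₁ h₀ h₁ hh n₀ n₁)
    (h₀' : y₀' ≫ G = z₀) (h₁' : y₁' ≫ G = z₁) (hh' : y₀' ≫ uu = y₁' ≫ uu)
    (e₀ : y₀ ≫ uu = y₀' ≫ uu) (e₁ : y₁ ≫ uu = y₁' ≫ uu) :
    Loc C y₀' y₁' z₀ z₁ h₀' h₁' hh' n₀ n₁ := by
  unfold Loc at H ⊢
  rw [C.compat y₁ y₁' z₁ h₁ h₁' e₁ n₁, H, C.compat y₀ y₀' z₀ h₀ h₀' e₀ n₀]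
  rw [D'.φ_comp, D'.φ_comp]

lemma loc_symm {T : Scheme.{u}} {y₀ y₁ : T ⟶ U} {z₀ z₁ : T ⟶ V}
    {h₀ : y₀ ≫ G = z₀} {h₁ : y₁ ≫ G = z₁} {hh : y₀ ≫ uu = y₁ ≫ uu} {n₀ : Lifts W z₀}
    {n₁ : Lifts W z₁} (H : Loc C y₀ y₁ z₀ z₁ h₀ h₁ hh n₀ n₁) :
    Loc C y₁ y₀ z₁ z₀ h₁ h₀ hh.symm n₁ n₀ := by
  unfold Loc at H ⊢
  rw [H, D'.φ_comp, D'.φ_self]

lemma loc_trans {T : Scheme.{u}} {y₀ y₁ y₂ : T ⟶ U} {z₀ z₁ z₂ : T ⟶ V}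
    {h₀ : y₀ ≫ G = z₀} {h₁ : y₁ ≫ G = z₁} {h₂ : y₂ ≫ G = z₂} {hh : y₀ ≫ uu = y₁ ≫ uu}
    {hh' : y₁ ≫ uu = y₂ ≫ uu} {n₀ : Lifts W z₀} {n₁ : Lifts W z₁} {n₂ : Lifts W z₂}
    (H : Loc C y₀ y₁ z₀ z₁ h₀ h₁ hh n₀ n₁) (H' : Loc C y₁ y₂ z₁ z₂ h₁ h₂ hh' n₁ n₂) :
    Loc C y₀ y₂ z₀ z₂ h₀ h₂ (hh.trans hh') n₀ n₂ := by
  unfold Loc at H H' ⊢
  rw [H', H, D'.φ_comp]

section Descent

variable (v : V ⟶ S) (hu : G ≫ v = uu)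

include hu in
lemma uu_eq {T : Scheme.{u}} {y y' : T ⟶ U} {z : T ⟶ V} (h : y ≫ G = z) (h' : y' ≫ G = z) :
    y ≫ uu = y' ≫ uu := by
  rw [← hu, ← Category.assoc, ← Category.assoc, h, h']

include hu in
lemma loc_transfer {T : Scheme.{u}} {y₀ y₁ y₀' y₁' : T ⟶ U} {z₀ z₁ z₀' z₁' : T ⟶ V}
    {h₀ : y₀ ≫ G = z₀} {h₁ : y₁ ≫ G = z₁} {hh : y₀ ≫ uu = y₁ ≫ uu} {n₀ : Lifts W z₀}
    {n₁ : Lifts W z₁}
    (H : Loc C y₀ y₁ z₀ z₁ h₀ h₁ hh n₀ n₁) (e₀ : z₀ = z₀') (e₁ : z₁ = z₁')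
    (h₀' : y₀' ≫ G = z₀') (h₁' : y₁' ≫ G = z₁') (hh' : y₀' ≫ uu = y₁' ≫ uu)
    (n₀' : Lifts W z₀') (n₁' : Lifts W z₁') (hn₀ : n₀'.1 = n₀.1) (hn₁ : n₁'.1 = n₁.1) :
    Loc C y₀' y₁' z₀' z₁' h₀' h₁' hh' n₀' n₁' := by
  subst e₀ e₁
  obtain rfl : n₀' = n₀ := Subtype.ext hn₀
  obtain rfl : n₁' = n₁ := Subtype.ext hn₁
  exact loc_indep C H h₀' h₁' hh' (uu_eq v hu h₀ h₀') (uu_eq v hu h₁ h₁')

include hu in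
lemma loc_unique {T : Scheme.{u}} {y₀ y₁ y₀' y₁' : T ⟶ U} {z₀ z₁ z₀' z₁' : T ⟶ V}
    {h₀ : y₀ ≫ G = z₀} {h₁ : y₁ ≫ G = z₁} {hh : y₀ ≫ uu = y₁ ≫ uu} {n₀ : Lifts W z₀}
    {n₁ : Lifts W z₁} {h₀' : y₀' ≫ G = z₀'} {h₁' : y₁' ≫ G = z₁'} {hh' : y₀' ≫ uu = y₁' ≫ uu}
    {n₀' : Lifts W z₀'} {n₁' : Lifts W z₁'}
    (H : Loc C y₀ y₁ z₀ z₁ h₀ h₁ hh n₀ n₁) (H' : Loc C y₀' y₁' z₀' z₁' h₀' h₁' hh' n₀' n₁')
    (e₀ : z₀ = z₀') (e₁ : z₁ = z₁') (hn₀ : n₀'.1 = n₀.1) : n₁'.1 = n₁.1 := by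
  subst e₀ e₁
  obtain rfl : n₀' = n₀ := Subtype.ext hn₀
  have H'' := loc_indep C H h₀' h₁' hh' (uu_eq v hu h₀ h₀') (uu_eq v hu h₁ h₁')
  exact congrArg Subtype.val ((loc_existsUnique C y₀' y₁' z₀ z₁ h₀' h₁' hh' _).unique H' H'')

/-- the global relation -/
def Rel {T : Scheme.{u}} (x₀ x₁ : T ⟶ V) (l₀ : Lifts W x₀) (l₁ : Lifts W x₁) : Prop :=
  ∀ ⦃T₂ : Scheme.{u}⦄ (k : T₂ ⟶ T) (y₀ y₁ : T₂ ⟶ U) (h₀ : y₀ ≫ G = k ≫ x₀)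
    (h₁ : y₁ ≫ G = k ≫ x₁) (hh : y₀ ≫ uu = y₁ ≫ uu),
    Loc C y₀ y₁ (k ≫ x₀) (k ≫ x₁) h₀ h₁ hh (pre k l₀) (pre k l₁)

lemma rel_self {T : Scheme.{u}} (x : T ⟶ V) (l : Lifts W x) : Rel C x x l l := by
  intro T₂ k y₀ y₁ h₀ h₁ hh
  exact C.compat y₀ y₁ (k ≫ x) h₀ h₁ hh (pre k l)

lemma Rel.symm {T : Scheme.{u}} {x₀ x₁ : T ⟶ V} {l₀ : Lifts W x₀} {l₁ : Lifts W x₁}
    (H : Rel C x₀ x₁ l₀ l₁) : Rel C x₁ x₀ l₁ l₀ := by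
  intro T₂ k y₀ y₁ h₀ h₁ hh
  exact loc_symm C (H k y₁ y₀ h₁ h₀ hh.symm)

include hu in
lemma Rel.precomp {T T₃ : Scheme.{u}} (g : T₃ ⟶ T) {x₀ x₁ : T ⟶ V} {l₀ : Lifts W x₀}
    {l₁ : Lifts W x₁} (H : Rel C x₀ x₁ l₀ l₁) : Rel C (g ≫ x₀) (g ≫ x₁) (pre g l₀) (pre g l₁) := by
  intro T₂ k y₀ y₁ h₀ h₁ hh
  exact loc_transfer C v hu (H (k ≫ g) y₀ y₁ (h₀.trans (Category.assoc _ _ _).symm)
    (h₁.trans (Category.assoc _ _ _).symm) hh) (Category.assoc _ _ _) (Category.assoc _ _ _)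
    h₀ h₁ hh _ _ (by simp) (by simp)

variable (G) in
/-- the double cover on which two points of the target both lift -/
noncomputable abbrev TT {T : Scheme.{u}} (x₀ x₁ : T ⟶ V) : Scheme.{u} :=
  pullback (pullback.snd G x₀) (pullback.snd G x₁)

variable (G) in
/-- the covering morphism -/
noncomputable def kk {T : Scheme.{u}} (x₀ x₁ : T ⟶ V) : TT G x₀ x₁ ⟶ T :=
  pullback.fst _ _ ≫ pullback.snd G x₀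

variable (G) in
/-- first lift -/
noncomputable def yy₀ {T : Scheme.{u}} (x₀ x₁ : T ⟶ V) : TT G x₀ x₁ ⟶ U :=
  pullback.fst _ _ ≫ pullback.fst G x₀

variable (G) in
/-- second lift -/
noncomputable def yy₁ {T : Scheme.{u}} (x₀ x₁ : T ⟶ V) : TT G x₀ x₁ ⟶ U :=
  pullback.snd _ _ ≫ pullback.fst G x₁

lemma yy₀_G {T : Scheme.{u}} (x₀ x₁ : T ⟶ V) : yy₀ G x₀ x₁ ≫ G = kk G x₀ x₁ ≫ x₀ := by
  rw [yy₀, kk, Category.assoc, Category.assoc, pullback.condition (f := G) (g := x₀)]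

lemma yy₁_G {T : Scheme.{u}} (x₀ x₁ : T ⟶ V) : yy₁ G x₀ x₁ ≫ G = kk G x₀ x₁ ≫ x₁ := by
  rw [yy₁, kk, Category.assoc, pullback.condition (f := G) (g := x₁), ← Category.assoc,
    ← pullback.condition (f := pullback.snd G x₀) (g := pullback.snd G x₁)]

variable [Flat G] [Surjective G] [LocallyOfFinitePresentation G]

instance {T : Scheme.{u}} (x₀ x₁ : T ⟶ V) : Flat (kk G x₀ x₁) := by
  unfold kk; infer_instance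

instance {T : Scheme.{u}} (x₀ x₁ : T ⟶ V) : Surjective (kk G x₀ x₁) := by
  unfold kk; infer_instance

instance {T : Scheme.{u}} (x₀ x₁ : T ⟶ V) : LocallyOfFinitePresentation (kk G x₀ x₁) := by
  unfold kk; infer_instance

include hu in
lemma Rel.unique {T : Scheme.{u}} {x₀ x₁ : T ⟶ V} {l₀ : Lifts W x₀} {l₁ l₁' : Lifts W x₁}
    (h : x₀ ≫ v = x₁ ≫ v)
    (H : Rel C x₀ x₁ l₀ l₁) (H' : Rel C x₀ x₁ l₀ l₁') : l₁ = l₁' := by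
  have hh : yy₀ G x₀ x₁ ≫ uu = yy₁ G x₀ x₁ ≫ uu := by
    rw [← hu, ← Category.assoc, ← Category.assoc, yy₀_G, yy₁_G, Category.assoc, Category.assoc, h]
  have e := loc_unique C v hu (H' (kk G x₀ x₁) _ _ (yy₀_G x₀ x₁) (yy₁_G x₀ x₁) hh)
    (H (kk G x₀ x₁) _ _ (yy₀_G x₀ x₁) (yy₁_G x₀ x₁) hh) rfl rfl rfl
  apply Subtype.ext
  rw [← cancel_epi (kk G x₀ x₁)]
  exact e

include hu in
lemma exists_rel {T : Scheme.{u}} (x₀ x₁ : T ⟶ V) (h : x₀ ≫ v = x₁ ≫ v) (l₀ : Lifts W x₀) :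
    ∃ l₁ : Lifts W x₁, Rel C x₀ x₁ l₀ l₁ := by
  have hh : yy₀ G x₀ x₁ ≫ uu = yy₁ G x₀ x₁ ≫ uu := by
    rw [← hu, ← Category.assoc, ← Category.assoc, yy₀_G, yy₁_G, Category.assoc, Category.assoc, h]
  obtain ⟨n₁, hn₁, -⟩ := loc_existsUnique C (yy₀ G x₀ x₁) (yy₁ G x₀ x₁) _ _ (yy₀_G x₀ x₁)
    (yy₁_G x₀ x₁) hh (pre (kk G x₀ x₁) l₀)
  have hcond : ∀ {Z : Scheme.{u}} (a b : Z ⟶ TT G x₀ x₁), a ≫ kk G x₀ x₁ = b ≫ kk G x₀ x₁ →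
      a ≫ n₁.1 = b ≫ n₁.1 := by
    intro Z a b hab
    have Ha := loc_nat C a hn₁ (by rw [Category.assoc, yy₀_G]) (by rw [Category.assoc, yy₁_G])
      (by rw [Category.assoc, Category.assoc, hh])
    have Hb := loc_nat C b hn₁ (by rw [Category.assoc, yy₀_G]) (by rw [Category.assoc, yy₁_G])
      (by rw [Category.assoc, Category.assoc, hh])
    exact loc_unique C v hu Hb Ha (by rw [← Category.assoc, ← Category.assoc, hab])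
      (by rw [← Category.assoc, ← Category.assoc, hab])
      (by simp only [pre_val]; rw [← Category.assoc, ← Category.assoc, hab])
  let m := EffectiveEpi.desc (kk G x₀ x₁) n₁.1 hcond
  have hm : kk G x₀ x₁ ≫ m = n₁.1 := EffectiveEpi.fac _ _ _
  have hmW : m ≫ W.hom = x₁ := by
    rw [← cancel_epi (kk G x₀ x₁), ← Category.assoc, hm, n₁.2]
  refine ⟨⟨m, hmW⟩, ?_⟩
  intro T₂ k y₀ y₁ h₀ h₁ hh'
  have hcd : pullback.fst k (kk G x₀ x₁) ≫ k = pullback.snd k (kk G x₀ x₁) ≫ kk G x₀ x₁ :=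
    pullback.condition
  have Hd := loc_nat C (pullback.snd k (kk G x₀ x₁)) hn₁ (by rw [Category.assoc, yy₀_G])
    (by rw [Category.assoc, yy₁_G]) (by rw [Category.assoc, Category.assoc, hh])
  refine loc_of_epi C (pullback.fst k (kk G x₀ x₁)) (by rw [Category.assoc, h₀])
    (by rw [Category.assoc, h₁]) (by rw [Category.assoc, Category.assoc, hh']) ?_
  refine loc_transfer C v hu Hd ?_ ?_ _ _ _ _ _ ?_ ?_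
  · rw [← Category.assoc, ← Category.assoc, hcd]
  · rw [← Category.assoc, ← Category.assoc, hcd]
  · simp only [pre_val]; rw [← Category.assoc, ← Category.assoc, hcd]
  · simp only [pre_val]; rw [← hm, ← Category.assoc, ← Category.assoc, hcd]

include hu in
lemma uu_eq' {T : Scheme.{u}} {y y' : T ⟶ U} {z z' : T ⟶ V} (h : y ≫ G = z) (h' : y' ≫ G = z')
    (e : z ≫ v = z' ≫ v) : y ≫ uu = y' ≫ uu := by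
  rw [← hu, ← Category.assoc, ← Category.assoc, h, h', e]

include hu in
lemma Rel.trans {T : Scheme.{u}} {x₀ x₁ x₂ : T ⟶ V} {l₀ : Lifts W x₀} {l₁ : Lifts W x₁}
    {l₂ : Lifts W x₂} (e₀₁ : x₀ ≫ v = x₁ ≫ v) (e₁₂ : x₁ ≫ v = x₂ ≫ v)
    (H : Rel C x₀ x₁ l₀ l₁) (H' : Rel C x₁ x₂ l₁ l₂) : Rel C x₀ x₂ l₀ l₂ := by
  intro T₂ k y₀ y₂ h₀ h₂ hh
  have hc : pullback.fst G (k ≫ x₁) ≫ G = (pullback.snd G (k ≫ x₁) ≫ k) ≫ x₁ := by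
    rw [pullback.condition, Category.assoc]
  have h₀' : (pullback.snd G (k ≫ x₁) ≫ y₀) ≫ G = (pullback.snd G (k ≫ x₁) ≫ k) ≫ x₀ := by
    rw [Category.assoc, h₀, Category.assoc]
  have h₂' : (pullback.snd G (k ≫ x₁) ≫ y₂) ≫ G = (pullback.snd G (k ≫ x₁) ≫ k) ≫ x₂ := by
    rw [Category.assoc, h₂, Category.assoc]
  have hh₀ : (pullback.snd G (k ≫ x₁) ≫ y₀) ≫ uu = pullback.fst G (k ≫ x₁) ≫ uu :=
    uu_eq' v hu h₀' hc (by simp only [Category.assoc, e₀₁])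
  have hh₂ : pullback.fst G (k ≫ x₁) ≫ uu = (pullback.snd G (k ≫ x₁) ≫ y₂) ≫ uu :=
    uu_eq' v hu hc h₂' (by simp only [Category.assoc, e₁₂])
  have A := H (pullback.snd G (k ≫ x₁) ≫ k) _ _ h₀' hc hh₀
  have B := H' (pullback.snd G (k ≫ x₁) ≫ k) _ _ hc h₂' hh₂
  have AB := loc_trans C A B
  refine loc_of_epi C (pullback.snd G (k ≫ x₁)) (by rw [Category.assoc, h₀])
    (by rw [Category.assoc, h₂]) (by rw [Category.assoc, Category.assoc, hh]) ?_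
  exact loc_transfer C v hu AB (Category.assoc _ _ _) (Category.assoc _ _ _) _ _ _ _ _
    (by simp) (by simp)

/-- the descended descent datum on the target of the cover -/
noncomputable def descDD : SchDD v where
  obj := W
  φ T x₀ x₁ h :=
    { toFun := fun l₀ => (exists_rel C v hu x₀ x₁ h l₀).choose
      invFun := fun l₁ => (exists_rel C v hu x₁ x₀ h.symm l₁).choose
      left_inv := fun l₀ => by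
        have H := (exists_rel C v hu x₀ x₁ h l₀).choose_spec
        have H' := (exists_rel C v hu x₁ x₀ h.symm (exists_rel C v hu x₀ x₁ h l₀).choose).choose_spec
        exact Rel.unique C v hu h.symm H' (Rel.symm C H)
      right_inv := fun l₁ => by
        have H := (exists_rel C v hu x₁ x₀ h.symm l₁).choose_spec
        have H' := (exists_rel C v hu x₀ x₁ h (exists_rel C v hu x₁ x₀ h.symm l₁).choose).choose_spec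
        exact Rel.unique C v hu h H' (Rel.symm C H) }
  φ_natural T T' g x₀ x₁ h h' l l' hl := by
    obtain rfl : l' = pre g l := Subtype.ext hl
    have H := (exists_rel C v hu x₀ x₁ h l).choose_spec
    have H' := (exists_rel C v hu (g ≫ x₀) (g ≫ x₁) h' (pre g l)).choose_spec
    exact congrArg Subtype.val (Rel.unique C v hu h' H' (Rel.precomp C v hu g H))
  φ_self T x l := by
    have H := (exists_rel C v hu x x rfl l).choose_spec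
    exact Rel.unique C v hu rfl H (rel_self C x l)
  φ_comp T x₀ x₁ x₂ h₀₁ h₁₂ l := by
    have H := (exists_rel C v hu x₀ x₁ h₀₁ l).choose_spec
    have H' := (exists_rel C v hu x₁ x₂ h₁₂ (exists_rel C v hu x₀ x₁ h₀₁ l).choose).choose_spec
    have H'' := (exists_rel C v hu x₀ x₂ (h₀₁.trans h₁₂) l).choose_spec
    exact Rel.unique C v hu (h₀₁.trans h₁₂) (Rel.trans C v hu h₀₁ h₁₂ H H') H''

@[simp] lemma descDD_obj : (descDD C v hu).obj = W := rfl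

lemma descDD_rel {T : Scheme.{u}} (x₀ x₁ : T ⟶ V) (h : x₀ ≫ v = x₁ ≫ v) (l₀ : Lifts W x₀) :
    Rel C x₀ x₁ l₀ ((descDD C v hu).φ x₀ x₁ h l₀) :=
  (exists_rel C v hu x₀ x₁ h l₀).choose_spec

/-- the descended gluing bijections induce the given ones through the comparison bijections -/
lemma descDD_compat {T : Scheme.{u}} (y₀ y₁ : T ⟶ U) (hh : y₀ ≫ uu = y₁ ≫ uu)
    (h : (y₀ ≫ G) ≫ v = (y₁ ≫ G) ≫ v) (l : Lifts W (y₀ ≫ G)) :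
    C.θ y₁ (y₁ ≫ G) rfl ((descDD C v hu).φ (y₀ ≫ G) (y₁ ≫ G) h l) =
      D'.φ y₀ y₁ hh (C.θ y₀ (y₀ ≫ G) rfl l) := by
  have H := descDD_rel C v hu (y₀ ≫ G) (y₁ ≫ G) h l (𝟙 T) y₀ y₁ (Category.id_comp _).symm
    (Category.id_comp _).symm hh
  exact loc_transfer C v hu H (Category.id_comp _) (Category.id_comp _) rfl rfl hh _ _
    (by simp) (by simp)

/-- variant with arbitrary names for the images of the points -/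
lemma descDD_compat' {T : Scheme.{u}} (y₀ y₁ : T ⟶ U) (z₀ z₁ : T ⟶ V) (h₀ : y₀ ≫ G = z₀)
    (h₁ : y₁ ≫ G = z₁) (hh : y₀ ≫ uu = y₁ ≫ uu) (h : z₀ ≫ v = z₁ ≫ v) (l : Lifts W z₀) :
    C.θ y₁ z₁ h₁ ((descDD C v hu).φ z₀ z₁ h l) = D'.φ y₀ y₁ hh (C.θ y₀ z₀ h₀ l) := by
  subst h₀ h₁
  exact descDD_compat C v hu y₀ y₁ hh h l

end Descent

end Groth.Agent.Lib.Helper15ZarRefA
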