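-- helper15: effectivity of descent data for schemes along covers with Zariski-local sections, and comparison bijections (Part B for S9855)
import Mathlib
import Groth.Prelude.Def_Desc
import Groth.Agent.Lib.Helper15AffDescCore
import Groth.Agent.Lib.Helper15DescRefine
import Groth.Agent.Lib.Helper15DescRestrict
import Groth.Agent.Lib.Helper15DescCov
import Groth.Agent.Lib.Helper15DescCovC
import Groth.Agent.Lib.Helper15ZarRefA

set_option autoImplicit false
set_option linter.unusedSectionVars false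
open CategoryTheory CategoryTheory.Limits AlgebraicGeometry
universe u

namespace Groth.Agent.Lib.Helper15ZarRefB

open Desc Groth.Agent.Lib.Helper15AffDescCore Groth.Agent.Lib.Helper15DescRefine
  Groth.Agent.Lib.Helper15DescCov Groth.Agent.Lib.Helper15ZarRefA

section Section

variable {X S : Scheme.{u}} {p : X ⟶ S} (D : Desc.SchDD p) (s : S ⟶ X) (hs : s ≫ p = 𝟙 S)

include hs in
lemma qs_cond {T : Scheme.{u}} (m : T ⟶ D.obj.left) :
    (m ≫ D.obj.hom) ≫ p = (m ≫ D.obj.hom ≫ p ≫ s) ≫ p := by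
  simp only [Category.assoc, hs, Category.comp_id]

/-- transport of a point to the section -/
noncomputable def qs {T : Scheme.{u}} (m : T ⟶ D.obj.left) : T ⟶ D.obj.left :=
  tr D (m ≫ D.obj.hom ≫ p ≫ s) m (qs_cond D s hs m)

lemma qs_hom {T : Scheme.{u}} (m : T ⟶ D.obj.left) :
    qs D s hs m ≫ D.obj.hom = m ≫ D.obj.hom ≫ p ≫ s := tr_hom D _ _ _

lemma comp_qs {T T' : Scheme.{u}} (g : T' ⟶ T) (m : T ⟶ D.obj.left) :
    g ≫ qs D s hs m = qs D s hs (g ≫ m) := by
  unfold qs
  rw [comp_tr]
  exact tr_congr D (by simp only [Category.assoc]) rfl _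

lemma qs_tr {T : Scheme.{u}} (x₁ : T ⟶ X) (m : T ⟶ D.obj.left)
    (h : (m ≫ D.obj.hom) ≫ p = x₁ ≫ p) : qs D s hs (tr D x₁ m h) = qs D s hs m := by
  unfold qs
  have e : tr D x₁ m h ≫ D.obj.hom ≫ p ≫ s = m ≫ D.obj.hom ≫ p ≫ s := by
    rw [← Category.assoc, tr_hom, ← Category.assoc, ← h]
    simp only [Category.assoc]
  rw [tr_congr D e rfl]
  exact tr_tr D x₁ _ m h (h.symm.trans (qs_cond D s hs m))

/-- the invariant morphism -/
noncomputable def q : D.obj.left ⟶ pullback D.obj.hom s :=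
  pullback.lift (qs D s hs (𝟙 _)) (D.obj.hom ≫ p) (by rw [qs_hom]; simp)

lemma comp_q_fst {T : Scheme.{u}} (m : T ⟶ D.obj.left) :
    m ≫ q D s hs ≫ pullback.fst D.obj.hom s = qs D s hs m := by
  unfold q
  rw [pullback.lift_fst, comp_qs, Category.comp_id]

lemma q_snd : q D s hs ≫ pullback.snd D.obj.hom s = D.obj.hom ≫ p := pullback.lift_snd _ _ _

lemma qs_self {T : Scheme.{u}} (m : T ⟶ D.obj.left) (z : T ⟶ S) (hz : m ≫ D.obj.hom = z ≫ s) :
    qs D s hs m = m := by
  unfold qs
  have e : m ≫ D.obj.hom ≫ p ≫ s = m ≫ D.obj.hom := by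
    rw [← Category.assoc, hz]
    simp only [Category.assoc]
    rw [← Category.assoc s, hs, Category.id_comp]
  rw [tr_congr D e rfl]
  exact tr_self D _ m rfl

lemma tr_qs {T : Scheme.{u}} (x : T ⟶ X) (m : T ⟶ D.obj.left)
    (h : (m ≫ D.obj.hom) ≫ p = x ≫ p) :
    tr D x (qs D s hs m) (by rw [qs_hom]; simp only [Category.assoc] at h ⊢; rw [hs]; simpa using h) =
      tr D x m h := by
  unfold qs
  exact tr_tr D _ x m (qs_cond D s hs m) ((qs_cond D s hs m).symm.trans h)

lemma isPullback_q : IsPullback D.obj.hom (q D s hs) p (pullback.snd D.obj.hom s) := by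
  have w : D.obj.hom ≫ p = q D s hs ≫ pullback.snd D.obj.hom s := (q_snd D s hs).symm
  have hb : ∀ c : PullbackCone p (pullback.snd D.obj.hom s),
      ((c.snd ≫ pullback.fst D.obj.hom s) ≫ D.obj.hom) ≫ p = c.fst ≫ p := by
    intro c
    rw [c.condition]
    simp only [Category.assoc]
    rw [pullback.condition_assoc, hs, Category.comp_id]
  refine IsPullback.of_isLimit (PullbackCone.IsLimit.mk w
    (fun c => tr D c.fst (c.snd ≫ pullback.fst D.obj.hom s) (hb c)) (fun c => tr_hom D _ _ _)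
    (fun c => ?_) (fun c m hm₁ hm₂ => ?_))
  · apply pullback.hom_ext
    · rw [Category.assoc, comp_q_fst, qs_tr]
      refine qs_self D s hs _ (c.snd ≫ pullback.snd D.obj.hom s) ?_
      simp only [Category.assoc]
      rw [pullback.condition]
    · rw [Category.assoc, q_snd, ← Category.assoc, tr_hom, c.condition]
  · have e1 : c.snd ≫ pullback.fst D.obj.hom s = qs D s hs m := by
      rw [← hm₂, Category.assoc, comp_q_fst]
    have e2 : c.fst = m ≫ D.obj.hom := hm₁.symm
    rw [tr_congr D e2 e1, tr_qs D s hs _ m rfl]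
    exact (tr_self D _ m rfl).symm

include hs in
theorem effective_of_section : ∃ U : Over S, Nonempty ((Desc.toDD p).obj U ≅ D) := by
  have sq : IsPullback D.obj.hom (q D s hs) p (Over.mk (pullback.snd D.obj.hom s)).hom :=
    isPullback_q D s hs
  have hq : ∀ ⦃T : Scheme.{u}⦄ (x₁ : T ⟶ X) (m : T ⟶ D.obj.left)
      (h : (m ≫ D.obj.hom) ≫ p = x₁ ≫ p), tr D x₁ m h ≫ q D s hs = m ≫ q D s hs := by
    intro T x₁ m h
    apply pullback.hom_ext
    · rw [Category.assoc, Category.assoc, comp_q_fst, comp_q_fst, qs_tr]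
    · rw [Category.assoc, Category.assoc, q_snd, ← Category.assoc, tr_hom, ← Category.assoc, h]
  exact ⟨Over.mk (pullback.snd D.obj.hom s), nonempty_iso_of_invariant D _ _ sq hq⟩

end Section

section LocalSections

variable {X S : Scheme.{u}} {p : X ⟶ S} [DescCover p] (D : Desc.SchDD p)
  {K : Type u} (A : K → Scheme.{u}) (j : ∀ k, A k ⟶ S) [∀ k, IsOpenImmersion (j k)]
  (t : ∀ k, A k ⟶ X) (ht : ∀ k, t k ≫ p = j k)
  (hcov : ∀ x : S, ∃ k, x ∈ Set.range (j k).base)

include ht hcov in
/-- descent data for schemes along a cover which has sections locally on the base for the Zariski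
topology are effective -/
theorem effective_of_local_sections : ∃ U : Over S, Nonempty ((Desc.toDD p).obj U ≅ D) := by
  have key : ∀ k, ∃ (U' : Over (A k)) (c : (Desc.toDD p).obj (Over.mk (U'.hom ≫ j k)) ⟶ D),
      IsOpenImmersion c.hom.left ∧ ∀ v : D.obj.left,
        D.obj.hom.base v ∈ Set.range (pullback.fst p (j k)).base →
          v ∈ Set.range c.hom.left.base := by
    intro k
    have sq : IsPullback (pullback.fst p (j k)) (pullback.snd p (j k)) p (j k) :=
      IsPullback.of_hasPullback _ _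
    obtain ⟨U', ⟨e⟩⟩ := effective_of_section
      (pullDD D (pullback.fst p (j k)) (j k) (pullback.snd p (j k)) sq.w)
      (pullback.lift (t k) (𝟙 _) (by rw [ht, Category.id_comp])) (pullback.lift_snd _ _ _)
    obtain ⟨c, hc1, hc2⟩ :=
      Groth.Agent.Lib.Helper15DescRestrict.exists_chart_of_restrict D _ (j k) _ sq U' e
    exact ⟨U', c, hc1, hc2⟩
  choose U' c hc1 hc2 using key
  have := hc1
  refine Groth.Agent.Lib.Helper15DescCovC.exists_effective c ?_
  intro v
  obtain ⟨k, hk⟩ := hcov (p.base (D.obj.hom.base v))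
  refine ⟨k, hc2 k v ?_⟩
  have hr := Scheme.Pullback.range_fst p (j k)
  have hmem : D.obj.hom.base v ∈ p.base ⁻¹' Set.range (j k).base := hk
  rw [← hr] at hmem
  exact hmem

end LocalSections

section Restrict

variable {U V S : Scheme.{u}} {G : U ⟶ V} {uu : U ⟶ S} (v : V ⟶ S) (hu : G ≫ v = uu)
  (D' : Desc.SchDD uu)

include hu in
lemma uu_of_G {T : Scheme.{u}} {y₀ y₁ : T ⟶ U} (h : y₀ ≫ G = y₁ ≫ G) : y₀ ≫ uu = y₁ ≫ uu := by
  rw [← hu, ← Category.assoc, ← Category.assoc, h]

/-- restriction of a descent datum to a finer equivalence relation -/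
def resDD : Desc.SchDD G where
  obj := D'.obj
  φ _ y₀ y₁ h := D'.φ y₀ y₁ (uu_of_G v hu h)
  φ_natural _ _ g y₀ y₁ _ _ l l' hl := D'.φ_natural g y₀ y₁ _ _ l l' hl
  φ_self _ y l := D'.φ_self y l
  φ_comp _ y₀ y₁ y₂ _ _ l := D'.φ_comp y₀ y₁ y₂ _ _ l

variable (W : Over V) (e : (Desc.toDD G).obj W ≅ resDD v hu D')

/-- the underlying morphism of schemes of `e.hom` -/
noncomputable def el : pullback G W.hom ⟶ D'.obj.left := e.hom.hom.left

/-- the underlying morphism of schemes of `e.inv` -/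
noncomputable def eli : D'.obj.left ⟶ pullback G W.hom := e.inv.hom.left

lemma el_hom : el v hu D' W e ≫ D'.obj.hom = pullback.fst G W.hom := Over.w e.hom.hom

lemma eli_fst : eli v hu D' W e ≫ pullback.fst G W.hom = D'.obj.hom := Over.w e.inv.hom

lemma el_eli : el v hu D' W e ≫ eli v hu D' W e = 𝟙 _ := by
  have h0 : (e.hom ≫ e.inv).hom.left = (𝟙 ((Desc.toDD G).obj W) : _ ⟶ _).hom.left := by
    rw [e.hom_inv_id]
  exact h0

lemma eli_el : eli v hu D' W e ≫ el v hu D' W e = 𝟙 _ := by
  have h0 : (e.inv ≫ e.hom).hom.left = (𝟙 (resDD v hu D') : _ ⟶ _).hom.left := by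
    rw [e.inv_hom_id]
  exact h0

lemma el_pt {T : Scheme.{u}} {y₀ : T ⟶ U} (a : T ⟶ pullback G W.hom)
    (ha : a ≫ pullback.fst G W.hom = y₀) : (a ≫ el v hu D' W e) ≫ D'.obj.hom = y₀ := by
  rw [Category.assoc, el_hom, ha]

lemma el_comm {T : Scheme.{u}} (y₀ y₁ : T ⟶ U) (h : y₀ ≫ G = y₁ ≫ G) (hh : y₀ ≫ uu = y₁ ≫ uu)
    (a : T ⟶ pullback G W.hom) (ha : a ≫ pullback.fst G W.hom = y₀) :
    (D'.φ y₀ y₁ hh ⟨a ≫ el v hu D' W e, el_pt v hu D' W e a ha⟩).1 =
      pullback.lift y₁ (a ≫ pullback.snd G W.hom)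
        (by rw [← h, ← ha, Category.assoc, Category.assoc, pullback.condition]) ≫
        el v hu D' W e :=
  e.hom.comm y₀ y₁ h ⟨a, ha⟩ ⟨a ≫ el v hu D' W e, el_pt v hu D' W e a ha⟩ rfl

lemma lift_cond {T : Scheme.{u}} {y : T ⟶ U} {x : T ⟶ V} (h : y ≫ G = x) (l : Lifts W x) :
    y ≫ G = l.1 ≫ W.hom := by rw [h, l.2]

/-- comparison bijections from an effectivity isomorphism -/
noncomputable def cmpOfIso : Cmp G D' W where
  θ T y x h :=
    { toFun := fun l => ⟨pullback.lift y l.1 (lift_cond W h l) ≫ el v hu D' W e,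
        el_pt v hu D' W e _ (pullback.lift_fst _ _ _)⟩
      invFun := fun m => ⟨m.1 ≫ eli v hu D' W e ≫ pullback.snd G W.hom, by
        rw [Category.assoc, Category.assoc, ← pullback.condition,
          ← Category.assoc (eli v hu D' W e), eli_fst, ← Category.assoc, m.2, h]⟩
      left_inv := fun l => Subtype.ext (by
        change (pullback.lift y l.1 _ ≫ el v hu D' W e) ≫ eli v hu D' W e ≫
          pullback.snd G W.hom = l.1
        rw [Category.assoc, ← Category.assoc (el v hu D' W e), el_eli, Category.id_comp,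
          pullback.lift_snd])
      right_inv := fun m => Subtype.ext (by
        change pullback.lift y (m.1 ≫ eli v hu D' W e ≫ pullback.snd G W.hom) _ ≫
          el v hu D' W e = m.1
        have key : pullback.lift y (m.1 ≫ eli v hu D' W e ≫ pullback.snd G W.hom)
            (lift_cond W h ⟨m.1 ≫ eli v hu D' W e ≫ pullback.snd G W.hom, by
              rw [Category.assoc, Category.assoc, ← pullback.condition,
                ← Category.assoc (eli v hu D' W e), eli_fst, ← Category.assoc, m.2, h]⟩) =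
            m.1 ≫ eli v hu D' W e := by
          apply pullback.hom_ext
          · rw [pullback.lift_fst, Category.assoc, eli_fst, m.2]
          · rw [pullback.lift_snd, Category.assoc]
        rw [key, Category.assoc, eli_el, Category.comp_id]) }
  nat T T₂ k y x h y₂ x₂ h₂ hy hx l l₂ hl := by
    change pullback.lift y₂ l₂.1 _ ≫ el v hu D' W e =
      k ≫ pullback.lift y l.1 _ ≫ el v hu D' W e
    rw [← Category.assoc]
    congr 1
    apply pullback.hom_ext
    · rw [pullback.lift_fst, Category.assoc, pullback.lift_fst, hy]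
    · rw [pullback.lift_snd, Category.assoc, pullback.lift_snd, hl]
  compat T y₀ y₁ x h₀ h₁ hh l := by
    apply Subtype.ext
    have key := el_comm v hu D' W e y₀ y₁ (h₀.trans h₁.symm) hh
      (pullback.lift y₀ l.1 (lift_cond W h₀ l)) (pullback.lift_fst _ _ _)
    change pullback.lift y₁ l.1 _ ≫ el v hu D' W e =
      (D'.φ y₀ y₁ hh ⟨pullback.lift y₀ l.1 _ ≫ el v hu D' W e, _⟩).1
    rw [key]
    congr 1
    apply pullback.hom_ext
    · rw [pullback.lift_fst, pullback.lift_fst]
    · rw [pullback.lift_snd, pullback.lift_snd, pullback.lift_snd]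

end Restrict

section Main

variable {U V S : Scheme.{u}} {G : U ⟶ V} {uu : U ⟶ S} (v : V ⟶ S) (hu : G ≫ v = uu)
  [Flat G] [Surjective G] [LocallyOfFinitePresentation G]
  {K : Type u} (A : K → Scheme.{u}) (j : ∀ k, A k ⟶ V) [∀ k, IsOpenImmersion (j k)]
  (t : ∀ k, A k ⟶ U) (ht : ∀ k, t k ≫ G = j k)
  (hcov : ∀ x : V, ∃ k, x ∈ Set.range (j k).base) (D' : Desc.SchDD uu)

include hu ht hcov in
/-- a descent datum on the source of a cover with sections locally on the target admits comparison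
bijections with a scheme over the target -/
theorem exists_cmp : ∃ W : Over V, Nonempty (Cmp G D' W) := by
  obtain ⟨W, ⟨e⟩⟩ := effective_of_local_sections (resDD v hu D') A j t ht hcov
  exact ⟨W, ⟨cmpOfIso v hu D' W e⟩⟩

end Main

end Groth.Agent.Lib.Helper15ZarRefB
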