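-- helper15: descent data relative to a Zariski refinement of a family: essential surjectivity of the pullback functor (Part C for S9855)
import Mathlib
import Groth.Agent.S9854
import Groth.Agent.Lib.Helper15SigmaDD
import Groth.Agent.Lib.Helper15SigmaEquiv
import Groth.Agent.Lib.Helper10DescPull
import Groth.Agent.Lib.Helper15ZarRefA
import Groth.Agent.Lib.Helper15ZarRefB

set_option autoImplicit false
set_option linter.unusedSectionVars false
open CategoryTheory CategoryTheory.Limits AlgebraicGeometry Opposite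
universe u
open Desc

namespace Groth.Agent.Lib.Helper15ZarRefC

open Groth.Agent.Lib.Helper15SigmaDD Groth.Agent.Lib.Helper10.DescPull
  Groth.Agent.Lib.Helper15ZarRefA Groth.Agent.Lib.Helper15ZarRefB

variable {ι κ : Type u} {S : Scheme.{u}} {U : ι → Scheme.{u}} {V : κ → Scheme.{u}}
  (u : ∀ i, U i ⟶ S) (v : ∀ j, V j ⟶ S) (α : ι → κ) (g : ∀ i, U i ⟶ V (α i))
  (w : ∀ i, g i ≫ v (α i) = u i)

/-- the morphism of disjoint unions -/
noncomputable def Gh : (∐ U) ⟶ ∐ V := Sigma.desc (fun i => g i ≫ Sigma.ι V (α i))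

lemma ι_Gh (i : ι) : Sigma.ι U i ≫ Gh α g = g i ≫ Sigma.ι V (α i) := Sigma.ι_desc _ _

include w in
lemma Gh_v : Gh α g ≫ Sigma.desc v = Sigma.desc u := by
  apply Sigma.hom_ext
  intro i
  rw [← Category.assoc, ι_Gh, Category.assoc, Sigma.ι_desc, Sigma.ι_desc, w]

section Cov

variable (hcov : ∀ j, Presieve.ofArrows (fun i : {i // α i = j} => U i.1)
  (fun i => g i.1 ≫ eqToHom (congrArg V i.2)) ∈ Scheme.zariskiPrecoverage (V j))

include hcov in
lemma isOpenImmersion_g (i : ι) : IsOpenImmersion (g i) := by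
  have h0 := hcov (α i)
  rw [Scheme.zariskiPrecoverage, Scheme.ofArrows_mem_precoverage_iff] at h0
  have h := h0.2 ⟨i, rfl⟩
  simpa using h

include hcov in
lemma exists_mem_range (x : ↥(∐ V)) : ∃ i, x ∈ Set.range (Sigma.ι U i ≫ Gh α g).base := by
  obtain ⟨j, y, hy⟩ := (AlgebraicGeometry.sigmaOpenCover V).exists_eq x
  have h0 := hcov j
  rw [Scheme.zariskiPrecoverage, Scheme.ofArrows_mem_precoverage_iff] at h0
  obtain ⟨⟨i, hi⟩, z, hz⟩ := h0.1 y
  subst hi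
  refine ⟨i, z, ?_⟩
  rw [ι_Gh]
  simp only [eqToHom_refl, Category.comp_id] at hz
  rw [Scheme.Hom.comp_base, TopCat.comp_app, hz]
  exact hy

include hcov in
lemma isOpenImmersion_ι_Gh (i : ι) : IsOpenImmersion (Sigma.ι U i ≫ Gh α g) := by
  have := isOpenImmersion_g α g hcov i
  rw [ι_Gh]
  infer_instance

include hcov in
lemma flat_Gh : Flat (Gh α g) := by
  have := isOpenImmersion_g α g hcov
  exact IsZariskiLocalAtSource.sigmaDesc (P := @Flat) (fun i => inferInstance)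

include hcov in
lemma lfp_Gh : LocallyOfFinitePresentation (Gh α g) := by
  have := isOpenImmersion_g α g hcov
  exact IsZariskiLocalAtSource.sigmaDesc (P := @LocallyOfFinitePresentation)
    (fun i => inferInstance)

include hcov in
lemma surjective_Gh : Surjective (Gh α g) := by
  refine ⟨fun x => ?_⟩
  obtain ⟨i, z, hz⟩ := exists_mem_range α g hcov x
  exact ⟨(Sigma.ι U i).base z, by rw [← hz]; rfl⟩

end Cov

section Iso

variable (D' : SchDDFam u) (Dh : SchDD (Sigma.desc v))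

/-- the functor of the statement -/
noncomputable abbrev Pull : SchDDFam v ⥤ SchDDFam u :=
  Desc.pullDDFam (f := v) (f' := u) (α := α) (p := 𝟙 S) (p' := g)
    (fun i => (w i).trans (Category.comp_id (u i)).symm)

/-- the candidate preimage -/
noncomputable abbrev Dv : SchDDFam v := (Groth.Agent.Lib.Helper15SigmaEquiv.Φ v).obj Dh

/-- points of the double fibre product -/
noncomputable def E₁ {T : Scheme.{u}} {i : ι} (x : T ⟶ U i) :
    Lifts (((Pull u v α g w).obj (Dv v Dh)).obj i) x ≃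
      Lifts Dh.obj ((x ≫ g i) ≫ Sigma.ι V (α i)) :=
  (liftsPullbackEquiv ((Dv v Dh).obj (α i)) (g i) x).trans
    (liftsPullbackEquiv Dh.obj (Sigma.ι V (α i)) (x ≫ g i))

lemma E₁_val {T : Scheme.{u}} {i : ι} (x : T ⟶ U i)
    (l : Lifts (((Pull u v α g w).obj (Dv v Dh)).obj i) x) :
    (E₁ u v α g w Dh x l).1 =
      (l.1 ≫ pullback.fst ((Dv v Dh).obj (α i)).hom (g i)) ≫
        pullback.fst Dh.obj.hom (Sigma.ι V (α i)) := rfl

lemma E₁_φ {T : Scheme.{u}} {i₀ i₁ : ι} (x₀ : T ⟶ U i₀) (x₁ : T ⟶ U i₁)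
    (h : x₀ ≫ u i₀ = x₁ ≫ u i₁)
    (h' : ((x₀ ≫ g i₀) ≫ Sigma.ι V (α i₀)) ≫ Sigma.desc v =
      ((x₁ ≫ g i₁) ≫ Sigma.ι V (α i₁)) ≫ Sigma.desc v)
    (l : Lifts (((Pull u v α g w).obj (Dv v Dh)).obj i₀) x₀) :
    E₁ u v α g w Dh x₁ (((Pull u v α g w).obj (Dv v Dh)).φ x₀ x₁ h l) =
      Dh.φ _ _ h' (E₁ u v α g w Dh x₀ l) := by
  change (liftsPullbackEquiv Dh.obj (Sigma.ι V (α i₁)) (x₁ ≫ g i₁))
    ((liftsPullbackEquiv ((Dv v Dh).obj (α i₁)) (g i₁) x₁)
      ((liftsPullbackEquiv ((Dv v Dh).obj (α i₁)) (g i₁) x₁).symm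
        ((liftsPullbackEquiv Dh.obj (Sigma.ι V (α i₁)) (x₁ ≫ g i₁)).symm
          (Dh.φ _ _ _ ((liftsPullbackEquiv Dh.obj (Sigma.ι V (α i₀)) (x₀ ≫ g i₀))
            ((liftsPullbackEquiv ((Dv v Dh).obj (α i₀)) (g i₀) x₀) l)))))) = _
  rw [Equiv.apply_symm_apply, Equiv.apply_symm_apply]
  rfl

lemma hθ {T : Scheme.{u}} {i : ι} (x : T ⟶ U i) :
    (x ≫ Sigma.ι U i) ≫ Gh α g = (x ≫ g i) ≫ Sigma.ι V (α i) := by
  rw [Category.assoc, ι_Gh, Category.assoc]

variable (C : Cmp (Gh α g) (sigmaDD D') Dh.obj)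
  (hC : ∀ ⦃T : Scheme.{u}⦄ (y₀ y₁ : T ⟶ ∐ U) (z₀ z₁ : T ⟶ ∐ V) (h₀ : y₀ ≫ Gh α g = z₀)
    (h₁ : y₁ ≫ Gh α g = z₁) (hh : y₀ ≫ Sigma.desc u = y₁ ≫ Sigma.desc u)
    (h : z₀ ≫ Sigma.desc v = z₁ ≫ Sigma.desc v) (l : Lifts Dh.obj z₀),
    C.θ y₁ z₁ h₁ (Dh.φ z₀ z₁ h l) = (sigmaDD D').φ y₀ y₁ hh (C.θ y₀ z₀ h₀ l))

include hC in
/-- the bijections on points exhibiting the given datum as a pullback -/
noncomputable def liftsIso : LiftsIso ((Pull u v α g w).obj (Dv v Dh)) D' where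
  e T i x := (E₁ u v α g w Dh x).trans
    ((C.θ (x ≫ Sigma.ι U i) _ (hθ α g x)).trans (βEquiv D' x).symm)
  nat T T' k i x y hy l l' hl := by
    subst hy
    rw [← cancel_mono (Sigma.ι (fun i => (D'.obj i).left) i)]
    refine Eq.trans ?_ (Category.assoc _ _ _).symm
    refine (βEquiv_symm_val D' (k ≫ x) _).trans ?_
    refine Eq.trans ?_ (congrArg (k ≫ ·) (βEquiv_symm_val D' x _).symm)
    exact C.nat k (x ≫ Sigma.ι U i) _ (hθ α g x) ((k ≫ x) ≫ Sigma.ι U i) _ (hθ α g (k ≫ x))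
      (Category.assoc _ _ _).symm (by simp only [Category.assoc])
      (E₁ u v α g w Dh x l) (E₁ u v α g w Dh (k ≫ x) l')
      (by rw [E₁_val, E₁_val, hl]; simp only [Category.assoc])
  comm T i j x₀ x₁ h l := by
    have hh : (x₀ ≫ Sigma.ι U i) ≫ Sigma.desc u = (x₁ ≫ Sigma.ι U j) ≫ Sigma.desc u := by
      rw [Category.assoc, Category.assoc, Sigma.ι_desc, Sigma.ι_desc, h]
    have h' : ((x₀ ≫ g i) ≫ Sigma.ι V (α i)) ≫ Sigma.desc v =
        ((x₁ ≫ g j) ≫ Sigma.ι V (α j)) ≫ Sigma.desc v := by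
      simp only [Category.assoc, Sigma.ι_desc, w, h]
    apply (βEquiv D' x₁).injective
    change βEquiv D' x₁ (D'.φ x₀ x₁ h ((βEquiv D' x₀).symm
        (C.θ _ _ (hθ α g x₀) (E₁ u v α g w Dh x₀ l)))) =
      βEquiv D' x₁ ((βEquiv D' x₁).symm (C.θ _ _ (hθ α g x₁)
        (E₁ u v α g w Dh x₁ (((Pull u v α g w).obj (Dv v Dh)).φ x₀ x₁ h l))))
    rw [Equiv.apply_symm_apply, ← βEquiv_φ D' x₀ x₁ h hh, Equiv.apply_symm_apply,
      E₁_φ u v α g w Dh x₀ x₁ h h', hC]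

end Iso

section Final

variable (hcov : ∀ j, Presieve.ofArrows (fun i : {i // α i = j} => U i.1)
  (fun i => g i.1 ≫ eqToHom (congrArg V i.2)) ∈ Scheme.zariskiPrecoverage (V j))

include hcov in
theorem essSurj : (Pull u v α g w).EssSurj := by
  refine ⟨fun D' => ?_⟩
  have hfl := flat_Gh α g hcov
  have hlfp := lfp_Gh α g hcov
  have hsurj := surjective_Gh α g hcov
  have hoi := isOpenImmersion_ι_Gh α g hcov
  obtain ⟨W, ⟨C⟩⟩ := exists_cmp (G := Gh α g) (Sigma.desc v) (Gh_v u v α g w) U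
    (fun i => Sigma.ι U i ≫ Gh α g) (fun i => Sigma.ι U i) (fun _ => rfl)
    (exists_mem_range α g hcov) (sigmaDD D')
  exact ⟨Dv v (descDD C (Sigma.desc v) (Gh_v u v α g w)),
    ⟨(liftsIso u v α g w D' (descDD C (Sigma.desc v) (Gh_v u v α g w)) C
      (fun T y₀ y₁ z₀ z₁ h₀ h₁ hh h l =>
        descDD_compat' C (Sigma.desc v) (Gh_v u v α g w) y₀ y₁ z₀ z₁ h₀ h₁ hh h l)).iso⟩⟩

include hcov in
theorem isEquivalence : (Pull u v α g w).IsEquivalence := by
  obtain ⟨h1, h2⟩ := Groth.Agent.S9854.result u v α g w (fun j => by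
    apply Scheme.zariskiPrecoverage_le_fpqcPrecoverage
    exact hcov j)
  have := essSurj u v α g w hcov
  exact { }

end Final

end Groth.Agent.Lib.Helper15ZarRefC
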