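import Mathlib

set_option autoImplicit false
set_option linter.style.haveILetI false
set_option linter.unusedSectionVars false

universe u

namespace Groth.Agent.Lib.Helper16AS

open Finset

section Seq

variable {k : Type u} [Field k]

/-- weighted shift on sequences -/
def shiftOp (n : ℕ) (c : ℕ → k) : (ℕ → k) →ₗ[k] (ℕ → k) where
  toFun μ := fun ν' => if n ≤ ν' then c (ν' - n) * μ (ν' - n) else 0
  map_add' μ μ' := by
    funext ν'
    by_cases h : n ≤ ν' <;> simp [h, mul_add]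
  map_smul' a μ := by
    funext ν'
    by_cases h : n ≤ ν' <;> simp [h, mul_left_comm]

theorem shiftOp_apply (n : ℕ) (c : ℕ → k) (μ : ℕ → k) (ν' : ℕ) :
    shiftOp n c μ ν' = if n ≤ ν' then c (ν' - n) * μ (ν' - n) else 0 := rfl

theorem shiftOp_apply_add (n : ℕ) (c : ℕ → k) (μ : ℕ → k) (ν : ℕ) :
    shiftOp n c μ (ν + n) = c ν * μ ν := by
  rw [shiftOp_apply, if_pos (Nat.le_add_left n ν), Nat.add_sub_cancel]

variable (p n : ℕ) [CharP k p] (hp : 1 ≤ p) (jj : ℕ → ℕ) (hjlt : ∀ ν, jj ν < p)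
  (hj2 : ∀ ν, 1 ≤ jj ν → jj (ν + n) = jj ν - 1) (hj4 : ∀ ν, jj ν = 0 → jj (ν + n) = p - 1)

include hjlt in
theorem cast_jj_ne_zero (ν : ℕ) (h : 1 ≤ jj ν) : ((jj ν : ℕ) : k) ≠ 0 := by
  intro h0
  have := (CharP.cast_eq_zero_iff k p (jj ν)).mp h0
  have := Nat.le_of_dvd (by omega) this
  have := hjlt ν
  omega

include hjlt hj2 in
theorem mem_ker_pow_iff (i : ℕ) (μ : ℕ → k) :
    μ ∈ LinearMap.ker ((shiftOp n (fun ν => (jj ν : k))) ^ i) ↔ ∀ ν, i ≤ jj ν → μ ν = 0 := by
  induction i generalizing μ with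
  | zero =>
    simp only [pow_zero, LinearMap.mem_ker, Module.End.one_apply]
    constructor
    · intro h ν _
      rw [h]; rfl
    · intro h
      funext ν
      exact h ν (Nat.zero_le _)
  | succ i ih =>
    rw [LinearMap.mem_ker, pow_succ, Module.End.mul_apply, ← LinearMap.mem_ker, ih]
    constructor
    · intro h ν hν
      have h1 : jj (ν + n) = jj ν - 1 := hj2 ν (by omega)
      have h2 := h (ν + n) (by omega)
      rw [shiftOp_apply_add] at h2
      rcases mul_eq_zero.mp h2 with h3 | h3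
      · exact absurd h3 (cast_jj_ne_zero p jj hjlt ν (by omega))
      · exact h3
    · intro h ν' hν'
      rw [shiftOp_apply]
      split_ifs with hn
      · obtain ⟨ν, rfl⟩ : ∃ ν, ν' = ν + n := ⟨ν' - n, by omega⟩
        rw [Nat.add_sub_cancel]
        by_cases h0 : jj ν = 0
        · rw [h0]; simp
        · have h1 : jj (ν + n) = jj ν - 1 := hj2 ν (by omega)
          rw [h ν (by omega), mul_zero]
      · rfl

include hjlt in
theorem mem_range_shiftOp_iff (μ' : ℕ → k) :
    μ' ∈ LinearMap.range (shiftOp n (fun ν => (jj ν : k))) ↔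
      ∀ ν', (ν' < n ∨ jj (ν' - n) = 0) → μ' ν' = 0 := by
  constructor
  · rintro ⟨μ, rfl⟩ ν' hν'
    rw [shiftOp_apply]
    split_ifs with hn
    · rcases hν' with h | h
      · omega
      · rw [h]; simp
    · rfl
  · intro h
    refine ⟨fun ν => if jj ν = 0 then 0 else μ' (ν + n) / (jj ν : k), ?_⟩
    funext ν'
    rw [shiftOp_apply]
    split_ifs with hn h0
    · rw [mul_zero, h ν' (Or.inr h0)]
    · have hne : ((jj (ν' - n) : ℕ) : k) ≠ 0 := cast_jj_ne_zero p jj hjlt _ (by omega)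
      rw [Nat.sub_add_cancel hn, mul_div_cancel₀ _ hne]
    · rw [h ν' (Or.inl (by omega))]

include hp hjlt hj2 hj4 in
theorem seq_main :
    Module.Finite k (LinearMap.ker ((shiftOp n (fun ν => (jj ν : k))) ^ (p - 1)) ⧸
      Submodule.comap (LinearMap.ker ((shiftOp n (fun ν => (jj ν : k))) ^ (p - 1))).subtype
        (LinearMap.range (shiftOp n (fun ν => (jj ν : k))))) ∧
    Module.finrank k (LinearMap.ker ((shiftOp n (fun ν => (jj ν : k))) ^ (p - 1)) ⧸
      Submodule.comap (LinearMap.ker ((shiftOp n (fun ν => (jj ν : k))) ^ (p - 1))).subtype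
        (LinearMap.range (shiftOp n (fun ν => (jj ν : k))))) =
      ((Finset.range n).filter (fun ν => jj ν ≠ p - 1)).card := by
  classical
  set S := shiftOp n (fun ν => (jj ν : k)) with hS
  set F := (Finset.range n).filter (fun ν => jj ν ≠ p - 1) with hF
  let Θ : LinearMap.ker (S ^ (p - 1)) →ₗ[k] (F → k) :=
    (LinearMap.pi fun ν : F => LinearMap.proj ν.1) ∘ₗ (LinearMap.ker (S ^ (p - 1))).subtype
  have hΘ : ∀ μ ν, Θ μ ν = μ.1 ν.1 := fun μ ν => rfl
  have hsurj : Function.Surjective Θ := by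
    intro f
    refine ⟨⟨fun ν => if h : ν ∈ F then f ⟨ν, h⟩ else 0, ?_⟩, ?_⟩
    · rw [mem_ker_pow_iff p n jj hjlt hj2]
      intro ν hν
      have : ν ∉ F := by
        intro hmem
        have := (Finset.mem_filter.mp hmem).2
        have := hjlt ν
        omega
      simp [this]
    · funext ν
      rw [hΘ]
      simp [ν.2]
  have hker : LinearMap.ker Θ = Submodule.comap (LinearMap.ker (S ^ (p - 1))).subtype
      (LinearMap.range S) := by
    ext μ
    rw [LinearMap.mem_ker, Submodule.mem_comap, Submodule.subtype_apply,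
      mem_range_shiftOp_iff p n jj hjlt]
    have hμ := (mem_ker_pow_iff p n jj hjlt hj2 (p - 1) μ.1).mp μ.2
    constructor
    · intro h0 ν' hν'
      by_cases hj : jj ν' = p - 1
      · exact hμ ν' (by omega)
      · rcases hν' with h | h
        · have hmem : ν' ∈ F := Finset.mem_filter.mpr ⟨Finset.mem_range.mpr h, hj⟩
          have := congr_fun h0 ⟨ν', hmem⟩
          rwa [hΘ] at this
        · by_cases hn : n ≤ ν'
          · have := hj4 (ν' - n) h
            rw [Nat.sub_add_cancel hn] at this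
            exact absurd this hj
          · have hmem : ν' ∈ F := Finset.mem_filter.mpr ⟨Finset.mem_range.mpr (by omega), hj⟩
            have := congr_fun h0 ⟨ν', hmem⟩
            rwa [hΘ] at this
    · intro h
      funext ν
      rw [hΘ]
      exact h ν.1 (Or.inl (Finset.mem_range.mp (Finset.mem_filter.mp ν.2).1))
  let e : (LinearMap.ker (S ^ (p - 1)) ⧸ Submodule.comap (LinearMap.ker (S ^ (p - 1))).subtype
      (LinearMap.range S)) ≃ₗ[k] (F → k) :=
    (Submodule.quotEquivOfEq _ _ hker.symm) ≪≫ₗ (LinearMap.quotKerEquivOfSurjective Θ hsurj)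
  refine ⟨Module.Finite.equiv e.symm, ?_⟩
  rw [LinearEquiv.finrank_eq e, Module.finrank_fintype_fun_eq_card, Fintype.card_coe]

end Seq


section Tri

open PowerSeries

variable {k : Type u} [Field k] (e : ℕ → PowerSeries k)

/-- the expansion map -/
noncomputable def Lam : (ℕ → k) →ₗ[k] PowerSeries k where
  toFun μ := PowerSeries.mk fun i => ∑ ν ∈ Finset.range (i + 1), μ ν * coeff i (e ν)
  map_add' μ μ' := by
    ext i
    simp only [coeff_mk, map_add, Pi.add_apply, add_mul, Finset.sum_add_distrib]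
  map_smul' a μ := by
    ext i
    simp only [coeff_mk, Pi.smul_apply, smul_eq_mul, RingHom.id_apply, PowerSeries.coeff_smul,
      Finset.mul_sum, mul_assoc]

theorem coeff_Lam (μ : ℕ → k) (i : ℕ) :
    coeff i (Lam e μ) = ∑ ν ∈ Finset.range (i + 1), μ ν * coeff i (e ν) := by
  simp [Lam]

/-- solving the triangular system -/
noncomputable def solve (h : PowerSeries k) : ℕ → k
  | ν => (coeff ν h - ∑ ν' ∈ (Finset.range ν).attach,
      solve h ν'.1 * coeff ν (e ν'.1)) / coeff ν (e ν)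
  decreasing_by exact Finset.mem_range.mp ν'.2

variable (he0 : ∀ ν i, i < ν → coeff i (e ν) = 0) (he1 : ∀ ν, coeff ν (e ν) ≠ 0)

include he1 in
theorem Lam_solve (h : PowerSeries k) : Lam e (solve e h) = h := by
  ext i
  rw [coeff_Lam, Finset.sum_range_succ]
  conv_lhs => rw [solve]
  rw [div_mul_cancel₀ _ (he1 i), Finset.sum_attach (Finset.range i)
    (fun ν' => solve e h ν' * coeff i (e ν'))]
  ring

include he1 in
theorem Lam_injective : Function.Injective (Lam e) := by
  rw [← LinearMap.ker_eq_bot, LinearMap.ker_eq_bot']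
  intro μ hμ
  funext i
  induction i using Nat.strong_induction_on with
  | _ i ih =>
    have h1 := congrArg (coeff i) hμ
    rw [coeff_Lam, Finset.sum_range_succ, map_zero] at h1
    rw [Finset.sum_eq_zero (fun ν hν => by rw [ih ν (Finset.mem_range.mp hν)]; simp), zero_add]
      at h1
    rcases mul_eq_zero.mp h1 with h2 | h2
    · exact h2
    · exact absurd h2 (he1 i)

/-- the expansion isomorphism -/
noncomputable def LamEquiv : (ℕ → k) ≃ₗ[k] PowerSeries k :=
  LinearEquiv.ofBijective (Lam e) ⟨Lam_injective e he1, fun h => ⟨solve e h, Lam_solve e he1 h⟩⟩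

theorem LamEquiv_apply (μ : ℕ → k) : LamEquiv e he1 μ = Lam e μ := rfl

include he0 in
theorem X_pow_dvd_Lam_sub (μ : ℕ → k) (M : ℕ) :
    (X : PowerSeries k) ^ M ∣ Lam e μ - ∑ ν ∈ Finset.range M, μ ν • e ν := by
  rw [PowerSeries.X_pow_dvd_iff]
  intro i hi
  rw [map_sub, coeff_Lam, map_sum, sub_eq_zero]
  have hsub : Finset.range (i + 1) ⊆ Finset.range M := Finset.range_subset_range.mpr (by omega)
  rw [← Finset.sum_subset hsub]
  · exact Finset.sum_congr rfl fun ν _ => by rw [PowerSeries.coeff_smul, smul_eq_mul]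
  · intro ν _ hν
    rw [PowerSeries.coeff_smul, he0 ν i (by
      have := Finset.mem_range.not.mp hν
      omega), smul_zero]

include he0 in
theorem Lam_comm (T : PowerSeries k →ₗ[k] PowerSeries k)
    (hT : ∀ (M : ℕ) (h : PowerSeries k), (X : PowerSeries k) ^ M ∣ h → (X : PowerSeries k) ^ M ∣ T h)
    (n : ℕ) (c : ℕ → k) (hTe : ∀ ν, T (e ν) = c ν • e (ν + n)) (μ : ℕ → k) :
    T (Lam e μ) = Lam e (shiftOp n c μ) := by
  ext i
  have h1 := hT (i + 1) _ (X_pow_dvd_Lam_sub e he0 μ (i + 1))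
  rw [PowerSeries.X_pow_dvd_iff] at h1
  have h2 := h1 i (Nat.lt_succ_self i)
  rw [map_sub, map_sub, sub_eq_zero] at h2
  rw [h2, map_sum, map_sum, coeff_Lam]
  have hL : ∀ ν ∈ Finset.range (i + 1), coeff i (T (μ ν • e ν)) =
      if ν + n ≤ i then c ν * μ ν * coeff i (e (ν + n)) else 0 := by
    intro ν _
    rw [map_smul, hTe, PowerSeries.coeff_smul, PowerSeries.coeff_smul]
    split_ifs with hle
    · ring
    · rw [he0 (ν + n) i (by omega)]; ring
  rw [Finset.sum_congr rfl hL]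
  have hR : ∀ ν' ∈ Finset.range (i + 1), shiftOp n c μ ν' * coeff i (e ν') =
      if n ≤ ν' then c (ν' - n) * μ (ν' - n) * coeff i (e ν') else 0 := by
    intro ν' _
    rw [shiftOp_apply]
    split_ifs <;> ring
  rw [Finset.sum_congr rfl hR, ← Finset.sum_filter, ← Finset.sum_filter]
  refine Finset.sum_nbij' (fun ν => ν + n) (fun ν' => ν' - n) ?_ ?_ ?_ ?_ ?_
  · intro ν hν
    have := Finset.mem_filter.mp hν
    exact Finset.mem_filter.mpr ⟨Finset.mem_range.mpr (by omega), by omega⟩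
  · intro ν' hν'
    have := Finset.mem_filter.mp hν'
    have := Finset.mem_range.mp this.1
    exact Finset.mem_filter.mpr ⟨Finset.mem_range.mpr (by omega), by omega⟩
  · intro ν _
    omega
  · intro ν' hν'
    have := (Finset.mem_filter.mp hν').2
    omega
  · intro ν _
    rw [Nat.add_sub_cancel]

end Tri

section Arith

variable (p : ℕ) [hp : Fact p.Prime] (n : ℕ) (hn : 0 < n) (hpn : ¬ p ∣ n) (a : ℤ)

/-- `c_j = ⌈(a + j n)/p⌉` -/
def cc (j : ℕ) : ℤ := -((-(a + j * n)) / (p : ℤ))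

/-- `r_j = p c_j - a - j n ∈ [0, p)` -/
def rr (j : ℕ) : ℕ := ((-(a + j * n)) % (p : ℤ)).toNat

theorem p_pos : (0 : ℤ) < p := by exact_mod_cast hp.out.pos

theorem rr_cast (j : ℕ) : (rr p n a j : ℤ) = p * cc p n a j - a - j * n := by
  have h0 : 0 ≤ (-(a + j * n)) % (p : ℤ) := Int.emod_nonneg _ (p_pos p).ne'
  rw [rr, Int.toNat_of_nonneg h0, cc]
  have := Int.emod_add_mul_ediv (-(a + j * n)) (p : ℤ)
  linarith

theorem rr_lt (j : ℕ) : rr p n a j < p := by
  have h1 : (-(a + j * n)) % (p : ℤ) < p := Int.emod_lt_of_pos _ (p_pos p)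
  have h0 : 0 ≤ (-(a + j * n)) % (p : ℤ) := Int.emod_nonneg _ (p_pos p).ne'
  have : ((rr p n a j : ℕ) : ℤ) < p := by
    rw [rr, Int.toNat_of_nonneg h0]; exact h1
  exact_mod_cast this

/-- `d_{j+1} = c_{j+1} - c_j` as a natural number -/
def dd (j : ℕ) : ℕ := (cc p n a (j + 1) - cc p n a j).toNat

include hn in
theorem dd_cast (j : ℕ) : (dd p n a j : ℤ) = cc p n a (j + 1) - cc p n a j := by
  rw [dd, Int.toNat_of_nonneg]
  have h1 := rr_cast p n a j
  have h2 := rr_cast p n a (j + 1)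
  have h3 := rr_lt p n a j
  have h4 : (0 : ℤ) ≤ rr p n a (j + 1) := Int.natCast_nonneg _
  have h5 : (rr p n a j : ℤ) < p := by exact_mod_cast h3
  have hn' : (1 : ℤ) ≤ n := by exact_mod_cast hn
  push_cast at h2
  by_contra hneg
  push Not at hneg
  have h6 : cc p n a (j + 1) - cc p n a j ≤ -1 := by omega
  have hp0 := p_pos p
  nlinarith

include hn in
theorem dd_spec (j : ℕ) : p * dd p n a j + rr p n a j = rr p n a (j + 1) + n := by
  have h1 := rr_cast p n a j
  have h2 := rr_cast p n a (j + 1)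
  have h3 := dd_cast p n hn a j
  push_cast at h2
  have : ((p * dd p n a j + rr p n a j : ℕ) : ℤ) = ((rr p n a (j + 1) + n : ℕ) : ℤ) := by
    push_cast
    rw [h3, h1, h2]
    ring
  exact_mod_cast this

include hpn in
theorem rr_inj (j j' : ℕ) (hj : j < p) (hj' : j' < p) (h : rr p n a j = rr p n a j') : j = j' := by
  have h1 := rr_cast p n a j
  have h2 := rr_cast p n a j'
  rw [h] at h1
  have h3 : (p : ℤ) ∣ ((j : ℤ) - j') * n := by
    refine ⟨cc p n a j - cc p n a j', ?_⟩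
    linarith
  have hprime : Prime (p : ℤ) := Nat.prime_iff_prime_int.mp hp.out
  rcases hprime.dvd_or_dvd h3 with h4 | h4
  · have h5 : (j : ℤ) - j' = 0 := by
      apply Int.eq_zero_of_abs_lt_dvd h4
      rw [abs_lt]
      constructor <;> omega
    omega
  · exact absurd (Int.natCast_dvd_natCast.mp h4) hpn

include hpn in
theorem exists_rr_eq (ρ : ℕ) (hρ : ρ < p) : ∃ j, j < p ∧ rr p n a j = ρ := by
  let f : Fin p → Fin p := fun j => ⟨rr p n a j.1, rr_lt p n a j.1⟩
  have hf : Function.Injective f := by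
    intro j j' h
    exact Fin.ext (rr_inj p n hpn a j.1 j'.1 j.2 j'.2 (Fin.mk.inj_iff.mp h))
  obtain ⟨j, hj⟩ := (Finite.injective_iff_surjective.mp hf) ⟨ρ, hρ⟩
  exact ⟨j.1, j.2, Fin.mk.inj_iff.mp hj⟩

/-- the index `j` of the residue class of `ν` -/
noncomputable def jj (ν : ℕ) : ℕ :=
  if h : ∃ j, j < p ∧ rr p n a j = ν % p then Classical.choose h else 0

include hpn in
theorem jj_spec (ν : ℕ) : jj p n a ν < p ∧ rr p n a (jj p n a ν) = ν % p := by
  have h := exists_rr_eq p n hpn a (ν % p) (Nat.mod_lt _ hp.out.pos)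
  rw [jj, dif_pos h]
  exact Classical.choose_spec h

include hpn in
theorem jj_eq (ν j : ℕ) (hj : j < p) (h : rr p n a j = ν % p) : jj p n a ν = j :=
  rr_inj p n hpn a _ _ (jj_spec p n hpn a ν).1 hj ((jj_spec p n hpn a ν).2.trans h.symm)

include hn hpn in
theorem jj_add_succ (ν j : ℕ) (hj : jj p n a ν = j + 1) :
    jj p n a (ν + n) = j ∧ (ν + n) / p = ν / p + dd p n a j := by
  have h1 := jj_spec p n hpn a ν
  rw [hj] at h1
  have h2 := dd_spec p n hn a j
  have h3 := rr_lt p n a j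
  have h4 : rr p n a j + p * (ν / p + dd p n a j) = ν + n := by
    have := Nat.div_add_mod ν p
    rw [← h1.2] at this
    nlinarith
  have h5 := (Nat.div_mod_unique hp.out.pos).mpr ⟨h4, h3⟩
  exact ⟨jj_eq p n hpn a _ _ (by omega) h5.2.symm, h5.1⟩

include hn hpn in
theorem jj_add_zero (ν : ℕ) (hj : jj p n a ν = 0) : jj p n a (ν + n) = p - 1 := by
  have h1 := jj_spec p n hpn a ν
  rw [hj] at h1
  have hp1 : 1 ≤ p := hp.out.pos
  apply jj_eq p n hpn a _ _ (by omega)
  have h2 := rr_cast p n a 0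
  have h3 := rr_cast p n a (p - 1)
  have h4 := rr_lt p n a (p - 1)
  have h5 := Nat.div_add_mod ν p
  rw [← h1.2] at h5
  have hcast : ((p - 1 : ℕ) : ℤ) = (p : ℤ) - 1 := by
    rw [Nat.cast_sub hp1]; simp
  rw [hcast] at h3
  simp only [Nat.cast_zero, zero_mul, sub_zero] at h2
  -- (ν + n) = p * q + rr (p-1)
  obtain ⟨q, hq⟩ : ∃ q : ℤ, q = ((ν / p : ℕ) : ℤ) := ⟨_, rfl⟩
  have h6 : ((ν + n : ℕ) : ℤ) = rr p n a (p - 1) +
      p * (q + cc p n a 0 - cc p n a (p - 1) + n) := by
    have : ((ν : ℕ) : ℤ) = p * q + rr p n a 0 := by rw [hq]; exact_mod_cast h5.symm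
    push_cast
    linear_combination this + h2 - h3
  have h7 : ((ν + n : ℕ) : ℤ) % p = rr p n a (p - 1) := by
    rw [h6, Int.add_mul_emod_self_left]
    exact Int.emod_eq_of_lt (Int.natCast_nonneg _) (by exact_mod_cast h4)
  have h8 : (((ν + n) % p : ℕ) : ℤ) = rr p n a (p - 1) := by
    rw [← h7]; simp
  exact_mod_cast h8.symm


include hpn in
theorem jj_eq_pred_iff (ν : ℕ) : jj p n a ν = p - 1 ↔ (p : ℤ) ∣ a - n + ν := by
  have hp1 : 1 ≤ p := hp.out.pos
  have h3 := rr_cast p n a (p - 1)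
  have h4 := rr_lt p n a (p - 1)
  have hcast : ((p - 1 : ℕ) : ℤ) = (p : ℤ) - 1 := by
    rw [Nat.cast_sub hp1]; simp
  rw [hcast] at h3
  have key : ν % p = rr p n a (p - 1) ↔ (p : ℤ) ∣ a - n + ν := by
    have e1 : (a - n + ν : ℤ) = ((ν : ℤ) - rr p n a (p - 1)) + p * (cc p n a (p - 1) - n) := by
      rw [h3]; ring
    rw [e1, (Int.dvd_add_left (Dvd.intro _ rfl))]
    constructor
    · intro h
      have := Nat.div_add_mod ν p
      refine ⟨(ν / p : ℕ), ?_⟩
      rw [← h]
      have : ((ν : ℕ) : ℤ) = p * (ν / p : ℕ) + (ν % p : ℕ) := by exact_mod_cast this.symm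
      linarith
    · intro h
      have h5 : rr p n a (p - 1) ≡ ν [MOD p] := (Nat.modEq_iff_dvd).mpr h
      have h6 := h5.symm
      rw [Nat.ModEq, Nat.mod_eq_of_lt h4] at h6
      exact h6
  rw [← key]
  constructor
  · intro h
    have := (jj_spec p n hpn a ν).2
    rw [h] at this
    exact this.symm
  · intro h
    exact jj_eq p n hpn a ν (p - 1) (by omega) h.symm

include hpn in
theorem card_filter_jj :
    (((Finset.range n).filter (fun ν => jj p n a ν ≠ p - 1)).card : ℤ) =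
      n - (a - 1) / (p : ℤ) + (a - 1 - n) / (p : ℤ) := by
  classical
  have h1 := Finset.card_filter_add_card_filter_not (s := Finset.range n)
    (fun ν => jj p n a ν = p - 1)
  rw [Finset.card_range] at h1
  have h2 : ((Finset.range n).filter (fun ν => jj p n a ν = p - 1)).card =
      ((Finset.Ioc (a - n - 1) (a - 1)).filter (fun x => (p : ℤ) ∣ x)).card := by
    refine Finset.card_nbij' (fun ν => a - n + (ν : ℤ)) (fun x => (x - (a - n)).toNat) ?_ ?_ ?_ ?_
    · intro ν hν
      have h := Finset.mem_filter.mp hν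
      have hlt := Finset.mem_range.mp h.1
      change a - n + (ν : ℤ) ∈ _
      refine Finset.mem_filter.mpr ⟨Finset.mem_Ioc.mpr ⟨by omega, by omega⟩, ?_⟩
      exact (jj_eq_pred_iff p n hpn a ν).mp h.2
    · intro x hx
      have h := Finset.mem_filter.mp hx
      have hI := Finset.mem_Ioc.mp h.1
      change (x - (a - n)).toNat ∈ _
      refine Finset.mem_filter.mpr ⟨Finset.mem_range.mpr (by omega), ?_⟩
      rw [jj_eq_pred_iff p n hpn a]
      have : ((x - (a - n)).toNat : ℤ) = x - (a - n) := Int.toNat_of_nonneg (by omega)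
      rw [this]
      have : a - n + (x - (a - n)) = x := by ring
      rw [this]
      exact h.2
    · intro ν _
      change (a - n + (ν : ℤ) - (a - n)).toNat = ν
      simp
    · intro x hx
      have h := Finset.mem_filter.mp hx
      have hI := Finset.mem_Ioc.mp h.1
      have : ((x - (a - n)).toNat : ℤ) = x - (a - n) := Int.toNat_of_nonneg (by omega)
      change a - n + ((x - (a - n)).toNat : ℤ) = x
      rw [this]
      ring
  have h3 := Int.Ioc_filter_dvd_card (a - n - 1) (a - 1) (p_pos p)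
  have h4 : ⌊((a - 1 : ℤ) : ℚ) / ((p : ℤ) : ℚ)⌋ = (a - 1) / (p : ℤ) := by
    rw [Int.cast_natCast]; exact Rat.floor_intCast_div_natCast _ _
  have h5 : ⌊((a - n - 1 : ℤ) : ℚ) / ((p : ℤ) : ℚ)⌋ = (a - n - 1) / (p : ℤ) := by
    rw [Int.cast_natCast]; exact Rat.floor_intCast_div_natCast _ _
  rw [h4, h5] at h3
  have h6 : (a - n - 1) / (p : ℤ) ≤ (a - 1) / (p : ℤ) :=
    Int.ediv_le_ediv (p_pos p) (by
      have : (0 : ℤ) ≤ n := Int.natCast_nonneg _
      omega)
  rw [max_eq_left (by omega)] at h3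
  have h7 : a - 1 - n = a - n - 1 := by ring
  rw [h7]
  have h8 : (((Finset.range n).filter (fun ν => ¬ jj p n a ν = p - 1)).card : ℤ) =
      n - ((Finset.range n).filter (fun ν => jj p n a ν = p - 1)).card := by
    have := congrArg (fun x : ℕ => (x : ℤ)) h1
    simp only [Nat.cast_add] at this
    linarith
  rw [h8, h2, h3]
  ring

end Arith

section PS

open PowerSeries Finset

variable {k : Type u} [Field k] (p : ℕ) [hp : Fact p.Prime] [CharP k p] (n : ℕ)
  (u : PowerSeries k) (hu1 : constantCoeff u = 1) (hun : u ^ n * (1 + X ^ n) = 1)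
  (hu : IsUnit u) (a : ℤ)

theorem hasSubst_Xu : HasSubst (X * u) := HasSubst.of_constantCoeff_zero' (by simp)

/-- the substitution `t ↦ t u` -/
noncomputable def sig0 : PowerSeries k →ₐ[k] PowerSeries k := substAlgHom (hasSubst_Xu u)

theorem sig0_X : sig0 u X = X * u := substAlgHom_X _

theorem sig0_apply (h : PowerSeries k) : sig0 u h = subst (X * u) h := by
  rw [sig0, coe_substAlgHom]

theorem sig0_C (r : k) : sig0 u (C r) = C r := (sig0 u).commutes r

theorem constantCoeff_sig0 (f : PowerSeries k) :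
    constantCoeff (sig0 u f) = constantCoeff f := by
  conv_lhs => rw [eq_X_mul_shift_add_const f]
  rw [map_add, map_mul, sig0_X, sig0_C, map_add, mul_assoc, map_mul]
  simp

/-- the twisted action -/
noncomputable def sig : PowerSeries k →ₗ[k] PowerSeries k :=
  (LinearMap.mulLeft k (((hu.unit ^ a : (PowerSeries k)ˣ) : PowerSeries k))) ∘ₗ
    (sig0 u).toLinearMap

theorem sig_apply (h : PowerSeries k) :
    sig u hu a h = ((hu.unit ^ a : (PowerSeries k)ˣ) : PowerSeries k) * sig0 u h := rfl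

theorem dvd_sig (M : ℕ) (h : PowerSeries k) (hd : (X : PowerSeries k) ^ M ∣ h) :
    (X : PowerSeries k) ^ M ∣ sig u hu a h := by
  obtain ⟨h', rfl⟩ := hd
  rw [sig_apply, map_mul, map_pow, sig0_X, mul_pow]
  exact ⟨((hu.unit ^ a : (PowerSeries k)ˣ) : PowerSeries k) * (u ^ M * sig0 u h'), by ring⟩

theorem sig_iterate (i : ℕ) (h : PowerSeries k) :
    (sig u hu a)^[i] h = (sig u hu a)^[i] 1 * (sig0 u)^[i] h := by
  induction i with
  | zero => simp
  | succ i ih =>
    rw [Function.iterate_succ_apply', Function.iterate_succ_apply', Function.iterate_succ_apply',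
      ih, sig_apply, sig_apply, map_mul]
    ring

theorem sig0_iterate_of_sig (hσp : ∀ h, (sig u hu a)^[p] h = h) (h : PowerSeries k) :
    (sig0 u)^[p] h = h := by
  have h1 := sig_iterate u hu a p h
  rw [hσp, hσp, one_mul] at h1
  exact h1.symm

/-- `σ₀^i(t)/t` -/
noncomputable def vv : ℕ → PowerSeries k
  | 0 => 1
  | i + 1 => u * sig0 u (vv i)

theorem sig0_iterate_X (i : ℕ) : (sig0 u)^[i] X = X * vv u i := by
  induction i with
  | zero => simp [vv]
  | succ i ih =>
    rw [Function.iterate_succ_apply', ih, map_mul, sig0_X, vv]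
    ring

include hu1 in
theorem constantCoeff_vv (i : ℕ) : constantCoeff (vv u i) = 1 := by
  induction i with
  | zero => simp [vv]
  | succ i ih => rw [vv, map_mul, hu1, constantCoeff_sig0, ih, one_mul]

/-- `w = N(t)/t^p` -/
noncomputable def ww : PowerSeries k := ∏ i ∈ range p, vv u i

/-- the invariant parameter `z = N(t)` -/
noncomputable def zz : PowerSeries k := X ^ p * ww p u

theorem zz_eq : zz p u = ∏ i ∈ range p, (sig0 u)^[i] X := by
  simp_rw [sig0_iterate_X]
  rw [Finset.prod_mul_distrib, Finset.prod_const, Finset.card_range, zz, ww]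

include hu1 in
theorem constantCoeff_ww : constantCoeff (ww p u) = 1 := by
  rw [ww, map_prod]
  exact Finset.prod_eq_one fun i _ => constantCoeff_vv u hu1 i

theorem sig0_zz (h0 : (sig0 u)^[p] X = X) : sig0 u (zz p u) = zz p u := by
  rw [zz_eq, map_prod]
  have h1 : ∀ i, sig0 u ((sig0 u)^[i] X) = (sig0 u)^[i + 1] X := fun i => by
    rw [Function.iterate_succ_apply']
  simp_rw [h1]
  have h2 := Finset.prod_range_succ' (fun i => (sig0 u)^[i] (X : PowerSeries k)) p
  have h3 := Finset.prod_range_succ (fun i => (sig0 u)^[i] (X : PowerSeries k)) p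
  rw [h3, h0] at h2
  simp only [Function.iterate_zero, id_eq] at h2
  exact (mul_right_cancel₀ X_ne_zero h2).symm

theorem sig0_ww (h0 : (sig0 u)^[p] X = X) : sig0 u (ww p u) * u ^ p = ww p u := by
  have h1 := sig0_zz p u h0
  rw [zz, map_mul, map_pow, sig0_X, mul_pow] at h1
  have h2 : (X : PowerSeries k) ^ p * (sig0 u (ww p u) * u ^ p) = X ^ p * ww p u := by
    rw [← h1]; ring
  exact mul_left_cancel₀ (pow_ne_zero _ X_ne_zero) h2


/-- `P_j = ∏_{i<j} (1 - i t^n)` -/
noncomputable def PP (j : ℕ) : PowerSeries k := ∏ i ∈ range j, (1 - C (i : k) * X ^ n)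

/-- `∏_{i<j} (1 + t^n - i t^n)` -/
noncomputable def PPt (j : ℕ) : PowerSeries k := ∏ i ∈ range j, (1 + X ^ n - C (i : k) * X ^ n)

theorem PPt_sub (j : ℕ) :
    PPt (k := k) n (j + 1) - PP n (j + 1) = C ((j + 1 : ℕ) : k) * X ^ n * PP n j := by
  rw [PPt, Finset.prod_range_succ', PP, Finset.prod_range_succ]
  have h1 : ∀ i : ℕ, (1 : PowerSeries k) + X ^ n - C ((i + 1 : ℕ) : k) * X ^ n =
      1 - C (i : k) * X ^ n := by
    intro i
    push_cast
    rw [map_add, map_one]
    ring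
  simp_rw [h1]
  rw [PP]
  push_cast
  rw [map_add, map_one, map_zero]
  ring

include hun in
theorem sig0_PP (j : ℕ) : (1 + X ^ n) ^ j * sig0 u (PP n j) = PPt n j := by
  have h0 : (1 + X ^ n) * (X * u) ^ n = (X : PowerSeries k) ^ n := by
    rw [mul_pow]
    calc (1 + X ^ n) * (X ^ n * u ^ n) = X ^ n * (u ^ n * (1 + X ^ n)) := by ring
      _ = X ^ n := by rw [hun, mul_one]
  have hpow : ((1 : PowerSeries k) + X ^ n) ^ j = ∏ _i ∈ range j, (1 + X ^ n) := by
    rw [Finset.prod_const, Finset.card_range]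
  rw [PP, map_prod, PPt, hpow, ← Finset.prod_mul_distrib]
  refine Finset.prod_congr rfl fun i _ => ?_
  rw [map_sub, map_one, map_mul, map_pow, sig0_X, sig0_C, mul_sub, mul_one, mul_left_comm, h0]

include hu1 in
theorem isUnit_ww : IsUnit (ww p u) :=
  isUnit_iff_constantCoeff.mpr (by rw [constantCoeff_ww p u hu1]; exact isUnit_one)

/-- `σ₀` on units -/
noncomputable def sig0u : (PowerSeries k)ˣ →* (PowerSeries k)ˣ :=
  Units.map ((sig0 u : PowerSeries k →+* PowerSeries k) : PowerSeries k →* PowerSeries k)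

theorem sig0u_val (x : (PowerSeries k)ˣ) : ((sig0u u x : (PowerSeries k)ˣ) : PowerSeries k) =
    sig0 u (x : PowerSeries k) := rfl

theorem sig0_W_zpow (hw : IsUnit (ww p u)) (h0 : (sig0 u)^[p] X = X) (c : ℤ) :
    sig0 u ((hw.unit ^ c : (PowerSeries k)ˣ) : PowerSeries k) =
      ((hw.unit ^ c * (hu.unit ^ p) ^ (-c) : (PowerSeries k)ˣ) : PowerSeries k) := by
  have h1 : sig0u u hw.unit = hw.unit * (hu.unit ^ p)⁻¹ := by
    apply Units.ext
    rw [sig0u_val, Units.val_mul, IsUnit.unit_spec]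
    conv_rhs => rw [← sig0_ww p u h0]
    rw [mul_assoc]
    have : u ^ p * (((hu.unit ^ p)⁻¹ : (PowerSeries k)ˣ) : PowerSeries k) = 1 := by
      have h2 : ((hu.unit ^ p : (PowerSeries k)ˣ) : PowerSeries k) = u ^ p := by
        rw [Units.val_pow_eq_pow_val, IsUnit.unit_spec]
      rw [← h2, Units.mul_inv]
    rw [this, mul_one]
  rw [← sig0u_val, map_zpow, h1, mul_zpow, inv_zpow']

/-- the elements `β_j` -/
noncomputable def beta (hw : IsUnit (ww p u)) (j : ℕ) : PowerSeries k :=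
  X ^ (rr p n a j) * ((hw.unit ^ (cc p n a j) : (PowerSeries k)ˣ) : PowerSeries k) * PP n j

include hun in
theorem unit_factor (j : ℕ) :
    ((hu.unit ^ a : (PowerSeries k)ˣ) : PowerSeries k) * u ^ (rr p n a j) *
      (((hu.unit ^ p) ^ (-(cc p n a j)) : (PowerSeries k)ˣ) : PowerSeries k) = (1 + X ^ n) ^ j := by
  have hU : ((hu.unit : (PowerSeries k)ˣ) : PowerSeries k) = u := hu.unit_spec
  have h1 : u ^ (rr p n a j) =
      ((hu.unit ^ ((rr p n a j : ℕ) : ℤ) : (PowerSeries k)ˣ) : PowerSeries k) := by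
    rw [zpow_natCast, Units.val_pow_eq_pow_val, hU]
  have h2 : ((hu.unit ^ p) ^ (-(cc p n a j)) : (PowerSeries k)ˣ) =
      hu.unit ^ ((p : ℤ) * (-(cc p n a j))) := by
    rw [zpow_mul, zpow_natCast]
  rw [h1, h2, ← Units.val_mul, ← Units.val_mul, ← zpow_add, ← zpow_add]
  have h3 : a + ((rr p n a j : ℕ) : ℤ) + (p : ℤ) * (-(cc p n a j)) = (-(n : ℤ)) * (j : ℤ) := by
    rw [rr_cast]; ring
  rw [h3, zpow_mul, zpow_natCast, Units.val_pow_eq_pow_val]
  congr 1
  rw [zpow_neg, zpow_natCast]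
  apply Units.inv_eq_of_mul_eq_one_right
  rw [Units.val_pow_eq_pow_val, hU]
  exact hun

include hun in
theorem sig_beta (hw : IsUnit (ww p u)) (h0 : (sig0 u)^[p] X = X) (j : ℕ) :
    sig u hu a (beta p n u a hw j) =
      X ^ (rr p n a j) * ((hw.unit ^ (cc p n a j) : (PowerSeries k)ˣ) : PowerSeries k) *
        PPt n j := by
  rw [sig_apply, beta, map_mul, map_mul, map_pow, sig0_X, sig0_W_zpow p u hu hw h0,
    ← sig0_PP n u hun j, ← unit_factor p n u hun hu a j, Units.val_mul, mul_pow]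
  ring

include hun in
theorem T_beta_zero (hw : IsUnit (ww p u)) (h0 : (sig0 u)^[p] X = X) :
    sig u hu a (beta p n u a hw 0) = beta p n u a hw 0 := by
  rw [sig_beta p n u hun hu a hw h0, beta, PPt, PP, Finset.prod_range_zero, Finset.prod_range_zero]


include hun in
theorem T_beta_succ (hn : 0 < n) (hw : IsUnit (ww p u)) (h0 : (sig0 u)^[p] X = X) (j : ℕ) :
    sig u hu a (beta p n u a hw (j + 1)) - beta p n u a hw (j + 1) =
      ((j + 1 : ℕ) : k) • (zz p u ^ (dd p n a j) * beta p n u a hw j) := by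
  rw [sig_beta p n u hun hu a hw h0]
  have e1 : X ^ (rr p n a (j + 1)) *
      ((hw.unit ^ (cc p n a (j + 1)) : (PowerSeries k)ˣ) : PowerSeries k) * PPt n (j + 1) -
      beta p n u a hw (j + 1) =
      X ^ (rr p n a (j + 1)) *
      ((hw.unit ^ (cc p n a (j + 1)) : (PowerSeries k)ˣ) : PowerSeries k) *
        (PPt n (j + 1) - PP n (j + 1)) := by
    rw [beta]; ring
  rw [e1, PPt_sub, PowerSeries.smul_eq_C_mul, beta, zz, mul_pow]
  have e2 : ww p u ^ (dd p n a j) =
      ((hw.unit ^ ((dd p n a j : ℕ) : ℤ) : (PowerSeries k)ˣ) : PowerSeries k) := by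
    rw [zpow_natCast, Units.val_pow_eq_pow_val, IsUnit.unit_spec]
  have e3 : ((hw.unit ^ (cc p n a (j + 1)) : (PowerSeries k)ˣ) : PowerSeries k) =
      ((hw.unit ^ ((dd p n a j : ℕ) : ℤ) : (PowerSeries k)ˣ) : PowerSeries k) *
        ((hw.unit ^ (cc p n a j) : (PowerSeries k)ˣ) : PowerSeries k) := by
    rw [← Units.val_mul, ← zpow_add, dd_cast p n hn a j]
    congr 2
    ring
  have e4 : (X : PowerSeries k) ^ (rr p n a (j + 1)) * X ^ n =
      (X ^ p) ^ (dd p n a j) * X ^ (rr p n a j) := by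
    rw [← pow_add, ← pow_mul, ← pow_add, dd_spec p n hn a j]
  rw [e2, e3]
  calc X ^ rr p n a (j + 1) * (((hw.unit ^ ((dd p n a j : ℕ) : ℤ) : (PowerSeries k)ˣ) : PowerSeries k) *
        ((hw.unit ^ (cc p n a j) : (PowerSeries k)ˣ) : PowerSeries k)) *
        (C ((j + 1 : ℕ) : k) * X ^ n * PP n j)
      = C ((j + 1 : ℕ) : k) * ((X ^ rr p n a (j + 1) * X ^ n) *
        ((hw.unit ^ ((dd p n a j : ℕ) : ℤ) : (PowerSeries k)ˣ) : PowerSeries k) *
        ((hw.unit ^ (cc p n a j) : (PowerSeries k)ˣ) : PowerSeries k) * PP n j) := by ring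
    _ = _ := by rw [e4]; ring

theorem sig_zz_mul (h0 : (sig0 u)^[p] X = X) (m : ℕ) (h : PowerSeries k) :
    sig u hu a (zz p u ^ m * h) = zz p u ^ m * sig u hu a h := by
  rw [sig_apply, sig_apply, map_mul, map_pow, sig0_zz p u h0]
  ring

/-- the topological basis `e_ν` -/
noncomputable def ee (hw : IsUnit (ww p u)) (ν : ℕ) : PowerSeries k :=
  zz p u ^ (ν / p) * beta p n u a hw (jj p n a ν)

theorem constantCoeff_PP (hn : 0 < n) (j : ℕ) : constantCoeff (PP (k := k) n j) = 1 := by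
  rw [PP, map_prod]
  refine Finset.prod_eq_one fun i _ => ?_
  simp [hn.ne']

theorem ee_eq (hpn : ¬ p ∣ n) (hw : IsUnit (ww p u)) (ν : ℕ) :
    ee p n u a hw ν = X ^ ν * (ww p u ^ (ν / p) *
      ((hw.unit ^ (cc p n a (jj p n a ν)) : (PowerSeries k)ˣ) : PowerSeries k) *
        PP n (jj p n a ν)) := by
  have hX : (X : PowerSeries k) ^ ν = (X ^ p) ^ (ν / p) * X ^ (ν % p) := by
    rw [← pow_mul, ← pow_add, Nat.div_add_mod]
  rw [ee, beta, zz, mul_pow, (jj_spec p n hpn a ν).2, hX]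
  ring

theorem ee_unit (hn : 0 < n) (hw : IsUnit (ww p u)) (ν : ℕ) :
    constantCoeff (ww p u ^ (ν / p) *
      ((hw.unit ^ (cc p n a (jj p n a ν)) : (PowerSeries k)ˣ) : PowerSeries k) *
        PP n (jj p n a ν)) ≠ 0 := by
  have h1 : IsUnit (ww p u ^ (ν / p) *
      ((hw.unit ^ (cc p n a (jj p n a ν)) : (PowerSeries k)ˣ) : PowerSeries k) *
        PP n (jj p n a ν)) := by
    refine IsUnit.mul (IsUnit.mul (hw.pow _) (Units.isUnit _)) ?_
    exact isUnit_iff_constantCoeff.mpr (by rw [constantCoeff_PP n hn]; exact isUnit_one)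
  exact (isUnit_iff_constantCoeff.mp h1).ne_zero

theorem coeff_ee_lt (hpn : ¬ p ∣ n) (hw : IsUnit (ww p u)) (ν i : ℕ) (hi : i < ν) :
    coeff i (ee p n u a hw ν) = 0 := by
  rw [ee_eq p n u a hpn hw, coeff_X_pow_mul', if_neg (by omega)]

theorem coeff_ee_self (hn : 0 < n) (hpn : ¬ p ∣ n) (hw : IsUnit (ww p u)) (ν : ℕ) :
    coeff ν (ee p n u a hw ν) ≠ 0 := by
  rw [ee_eq p n u a hpn hw, coeff_X_pow_mul', if_pos le_rfl, Nat.sub_self,
    coeff_zero_eq_constantCoeff_apply]
  exact ee_unit p n u a hn hw ν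

include hun in
theorem T_ee (hn : 0 < n) (hpn : ¬ p ∣ n) (hw : IsUnit (ww p u)) (h0 : (sig0 u)^[p] X = X)
    (ν : ℕ) :
    sig u hu a (ee p n u a hw ν) - ee p n u a hw ν =
      ((jj p n a ν : ℕ) : k) • ee p n u a hw (ν + n) := by
  rw [ee, sig_zz_mul p u hu a h0, ← mul_sub]
  rcases Nat.eq_zero_or_eq_succ_pred (jj p n a ν) with hj | hj
  · rw [hj, T_beta_zero p n u hun hu a hw h0, sub_self, mul_zero, Nat.cast_zero, zero_smul]
  · obtain ⟨h1, h2⟩ := jj_add_succ p n hn hpn a ν _ hj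
    rw [hj, T_beta_succ p n u hun hu a hn hw h0, ee, h1, h2, pow_add, mul_smul_comm, mul_assoc]

end PS


theorem h1_equiv {k G : Type u} [Field k] [Group G] [Finite G] (g : G)
    (hg : ∀ x : G, x ∈ Subgroup.zpowers g)
    {V : Type u} [AddCommGroup V] [Module k V] (ρ : Representation k G V) :
    ∃ N : V →ₗ[k] V, (∀ v, N v = ∑ᶠ x : G, ρ x v) ∧
      Nonempty (groupCohomology.H1 (Rep.of ρ) ≃ₗ[k]
        (LinearMap.ker N ⧸ Submodule.comap (LinearMap.ker N).subtype (LinearMap.range (ρ g - 1)))) := by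
  classical
  letI : Fintype G := Fintype.ofFinite G
  letI : CommGroup G :=
    { ‹Group G› with
      mul_comm := fun x y => by
        obtain ⟨i, rfl⟩ := Subgroup.mem_zpowers_iff.mp (hg x)
        obtain ⟨j, rfl⟩ := Subgroup.mem_zpowers_iff.mp (hg y)
        exact (Commute.refl g).zpow_zpow i j }
  let A : Rep k G := Rep.of ρ
  let S := Rep.FiniteCyclicGroup.subCompNormHom A g
  let e1 := Rep.FiniteCyclicGroup.groupCohomologyIsoOdd A g hg 1 odd_one
  let e2 := S.moduleCatLeftHomologyData.homologyIso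
  let e := (e1 ≪≫ e2).toLinearEquiv
  refine ⟨Representation.norm ρ, ?_, ?_⟩
  · intro v
    rw [finsum_eq_sum_of_fintype]
    simp [Representation.norm]
  · refine ⟨e ≪≫ₗ ?_⟩
    have hg' : S.g.hom = Representation.norm ρ := rfl
    have hf' : S.f.hom = ρ g - 1 := rfl
    change (↥(LinearMap.ker (Representation.norm ρ)) ⧸ LinearMap.range S.moduleCatToCycles) ≃ₗ[k] _
    refine Submodule.quotEquivOfEq _ _ ?_
    ext x
    constructor
    · rintro ⟨y, rfl⟩
      exact ⟨y, rfl⟩
    · rintro ⟨y, hy⟩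
      exact ⟨y, Subtype.ext hy⟩


section Final

open PowerSeries

variable {k : Type u} [Field k]

theorem transport {V W : Type*} [AddCommGroup V] [Module k V] [AddCommGroup W] [Module k W]
    (Λ : W ≃ₗ[k] V) (T : V →ₗ[k] V) (S : W →ₗ[k] W) (h : ∀ w, T (Λ w) = Λ (S w)) (i : ℕ) :
    Nonempty ((LinearMap.ker (S ^ i) ⧸
        Submodule.comap (LinearMap.ker (S ^ i)).subtype (LinearMap.range S)) ≃ₗ[k]
      (LinearMap.ker (T ^ i) ⧸
        Submodule.comap (LinearMap.ker (T ^ i)).subtype (LinearMap.range T))) := by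
  have hpow : ∀ (i : ℕ) w, (T ^ i) (Λ w) = Λ ((S ^ i) w) := by
    intro i
    induction i with
    | zero => intro w; simp
    | succ i ih =>
      intro w
      rw [pow_succ, Module.End.mul_apply, h, ih, pow_succ, Module.End.mul_apply]
  have hmap : (LinearMap.ker (S ^ i)).map Λ.toLinearMap = LinearMap.ker (T ^ i) := by
    ext v
    constructor
    · rintro ⟨w, hw, rfl⟩
      rw [LinearMap.mem_ker, LinearEquiv.coe_coe, hpow, LinearMap.mem_ker.mp hw, map_zero]
    · intro hv
      refine ⟨Λ.symm v, ?_, by simp⟩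
      rw [SetLike.mem_coe, LinearMap.mem_ker]
      apply Λ.injective
      rw [← hpow, Λ.apply_symm_apply, map_zero]
      exact hv
  let f : LinearMap.ker (S ^ i) ≃ₗ[k] LinearMap.ker (T ^ i) :=
    Λ.ofSubmodules _ _ hmap
  have hf : ∀ w : LinearMap.ker (S ^ i), (f w : V) = Λ w.1 := fun w => rfl
  refine ⟨Submodule.Quotient.equiv _ _ f ?_⟩
  ext x
  constructor
  · rintro ⟨w, hw, rfl⟩
    obtain ⟨w₀, hw₀⟩ := hw
    refine ⟨Λ w₀, ?_⟩
    rw [h, hw₀]
    rfl
  · rintro ⟨v, hv⟩
    refine ⟨f.symm x, ?_, by simp⟩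
    refine ⟨Λ.symm v, ?_⟩
    apply Λ.injective
    rw [← h, Λ.apply_symm_apply, hv]
    change x.1 = (f (f.symm x) : V)
    rw [f.apply_symm_apply]

theorem sum_pow_eq_sub_one_pow (p : ℕ) [hp : Fact p.Prime] [CharP k p] {A : Type*} [Ring A]
    [Algebra k A] (σ : A) : ∑ i ∈ Finset.range p, σ ^ i = (σ - 1) ^ (p - 1) := by
  have hpoly : ∑ i ∈ Finset.range p, (Polynomial.X : Polynomial k) ^ i =
      (Polynomial.X - 1) ^ (p - 1) := by
    have h1 : (Polynomial.X - 1 : Polynomial k) * ∑ i ∈ Finset.range p, Polynomial.X ^ i =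
        (Polynomial.X - 1) * (Polynomial.X - 1) ^ (p - 1) := by
      rw [mul_geom_sum, ← pow_succ', Nat.sub_add_cancel hp.out.pos, sub_pow_char, one_pow]
    exact mul_left_cancel₀ (Polynomial.X_sub_C_ne_zero (1 : k)) (by simpa using h1)
  have := congrArg (Polynomial.aeval σ) hpoly
  simpa using this

variable (p : ℕ) [hp : Fact p.Prime] [CharP k p] (n : ℕ) (hn : 0 < n) (hpn : ¬ p ∣ n)
  (u : PowerSeries k) (hu1 : constantCoeff u = 1) (hun : u ^ n * (1 + X ^ n) = 1)
  (hu : IsUnit u) (a : ℤ)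

include hn hpn hu1 hun in
theorem finrank_main (hσp : ∀ h, (sig u hu a)^[p] h = h) :
    Module.Finite k (LinearMap.ker ((sig u hu a - 1) ^ (p - 1)) ⧸
      Submodule.comap (LinearMap.ker ((sig u hu a - 1) ^ (p - 1))).subtype
        (LinearMap.range (sig u hu a - 1))) ∧
    (Module.finrank k (LinearMap.ker ((sig u hu a - 1) ^ (p - 1)) ⧸
      Submodule.comap (LinearMap.ker ((sig u hu a - 1) ^ (p - 1))).subtype
        (LinearMap.range (sig u hu a - 1))) : ℤ) =
      n - (a - 1) / (p : ℤ) + (a - 1 - n) / (p : ℤ) := by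
  have h0 : (sig0 u)^[p] X = X := sig0_iterate_of_sig p u hu a hσp X
  have hw : IsUnit (ww p u) := isUnit_ww p u hu1
  set T : PowerSeries k →ₗ[k] PowerSeries k := sig u hu a - 1 with hT
  have hTd : ∀ (M : ℕ) (h : PowerSeries k), (X : PowerSeries k) ^ M ∣ h →
      (X : PowerSeries k) ^ M ∣ T h := by
    intro M h hd
    rw [hT, LinearMap.sub_apply, Module.End.one_apply]
    exact dvd_sub (dvd_sig u hu a M h hd) hd
  have he0 := coeff_ee_lt p n u a hpn hw
  have he1 := coeff_ee_self p n u a hn hpn hw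
  have hTe : ∀ ν, T (ee p n u a hw ν) = ((jj p n a ν : ℕ) : k) • ee p n u a hw (ν + n) := by
    intro ν
    rw [hT, LinearMap.sub_apply, Module.End.one_apply]
    exact T_ee p n u hun hu a hn hpn hw h0 ν
  have hcomm := Lam_comm (ee p n u a hw) he0 T hTd n (fun ν => ((jj p n a ν : ℕ) : k)) hTe
  obtain ⟨e⟩ := transport (LamEquiv (ee p n u a hw) he1) T
    (shiftOp n (fun ν => ((jj p n a ν : ℕ) : k))) hcomm (p - 1)
  have hjlt : ∀ ν, jj p n a ν < p := fun ν => (jj_spec p n hpn a ν).1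
  have hj2 : ∀ ν, 1 ≤ jj p n a ν → jj p n a (ν + n) = jj p n a ν - 1 := by
    intro ν h1
    obtain ⟨j, hj⟩ : ∃ j, jj p n a ν = j + 1 := ⟨jj p n a ν - 1, by omega⟩
    rw [(jj_add_succ p n hn hpn a ν j hj).1, hj]
    rfl
  have hj4 : ∀ ν, jj p n a ν = 0 → jj p n a (ν + n) = p - 1 := jj_add_zero p n hn hpn a
  obtain ⟨hfin, hrank⟩ := seq_main (k := k) p n hp.out.pos (jj p n a) hjlt hj2 hj4
  refine ⟨Module.Finite.equiv e, ?_⟩
  rw [← LinearEquiv.finrank_eq e, hrank]
  exact card_filter_jj p n hpn a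

end Final

end Groth.Agent.Lib.Helper16AS
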