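import Mathlib
import Groth.Agent.Lib.Helper16AS

set_option autoImplicit false
set_option linter.style.haveILetI false
set_option linter.unusedSectionVars false

universe u

namespace Groth.Agent.Lib.Helper16AS2

open Finset Groth.Agent.Lib.Helper16AS

section Coc

open groupCohomology CategoryTheory

variable {k G : Type u} [Field k] [Group G]

/-- value of a cocycle on powers of `g` -/
theorem cocycle_pow {V : Type u} [AddCommGroup V] [Module k V] (ρ : Representation k G V)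
    (f : cocycles₁ (Rep.of ρ)) (g : G) (i : ℕ) :
    f (g ^ i) = ∑ l ∈ range i, (ρ g ^ l) (f g) := by
  induction i with
  | zero => simp
  | succ i ih =>
    rw [pow_succ', (mem_cocycles₁_iff f).1 f.2 g (g ^ i), ih, Finset.sum_range_succ', map_sum]
    simp only [pow_succ', Module.End.mul_apply, pow_zero, Module.End.one_apply]

variable [Finite G] (g : G) (hg : ∀ x : G, x ∈ Subgroup.zpowers g)

include hg in
theorem exists_pow_eq (x : G) : ∃ i : ℕ, g ^ i = x := by
  have := mem_powers_iff_mem_zpowers.mpr (hg x)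
  exact (Submonoid.mem_powers_iff x g).mp this

theorem cocycle_norm {V : Type u} [AddCommGroup V] [Module k V] (ρ : Representation k G V)
    (f : cocycles₁ (Rep.of ρ)) :
    (∑ l ∈ range (orderOf g), ρ g ^ l) (f g) = 0 := by
  rw [LinearMap.sum_apply, ← cocycle_pow ρ f g, pow_orderOf_eq_one, cocycles₁_map_one]

include hg in
theorem cocycle_eq_zero {V : Type u} [AddCommGroup V] [Module k V] (ρ : Representation k G V)
    (f : cocycles₁ (Rep.of ρ)) (h : f g = 0) : f = 0 := by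
  apply cocycles₁_ext
  intro x
  obtain ⟨i, rfl⟩ := exists_pow_eq g hg x
  rw [cocycle_pow ρ f g, h]
  simp
  rfl

include hg in
theorem exists_cocycle {V : Type u} [AddCommGroup V] [Module k V] (ρ : Representation k G V)
    (v : V) (hv : (∑ l ∈ range (orderOf g), ρ g ^ l) v = 0) :
    ∃ f : cocycles₁ (Rep.of ρ), f g = v := by
  classical
  set σ := ρ g with hσ
  let F : ℕ → V := fun i => ∑ l ∈ range i, (σ ^ l) v
  have hF_add : ∀ i j, F (i + j) = F i + (σ ^ i) (F j) := by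
    intro i j
    simp only [F]
    rw [Finset.sum_range_add, map_sum]
    congr 1
    refine Finset.sum_congr rfl fun l _ => ?_
    rw [pow_add, Module.End.mul_apply]
  have hF_ord : F (orderOf g) = 0 := by
    simp only [F]
    rw [← LinearMap.sum_apply]
    exact hv
  have hF_per : ∀ i c, F (i + orderOf g * c) = F i := by
    intro i c
    induction c with
    | zero => simp
    | succ c ih =>
      rw [Nat.mul_succ, ← add_assoc, hF_add, hF_ord, map_zero, add_zero, ih]
  have hF_mod : ∀ i j, i ≡ j [MOD orderOf g] → F i = F j := by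
    intro i j hij
    have h1 := hF_per (i % orderOf g) (i / orderOf g)
    have h2 := hF_per (j % orderOf g) (j / orderOf g)
    rw [Nat.mod_add_div] at h1 h2
    rw [h1, h2, hij]
  choose idx hidx using exists_pow_eq g hg
  have hσpow : ∀ i : ℕ, σ ^ i = ρ (g ^ i) := fun i => by rw [hσ, map_pow]
  refine ⟨⟨fun x => F (idx x), ?_⟩, ?_⟩
  · rw [mem_cocycles₁_iff]
    intro x y
    change F (idx (x * y)) = ρ x (F (idx y)) + F (idx x)
    have h1 : idx (x * y) ≡ idx x + idx y [MOD orderOf g] := by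
      rw [← pow_eq_pow_iff_modEq, pow_add, hidx, hidx, hidx]
    rw [hF_mod _ _ h1, hF_add, hσpow, hidx, add_comm]
  · change F (idx g) = v
    have h1 : idx g ≡ 1 [MOD orderOf g] := by
      rw [← pow_eq_pow_iff_modEq, hidx, pow_one]
    rw [hF_mod _ _ h1]
    simp [F]

include hg in
theorem range_H1_map_equiv {V W : Type u} [AddCommGroup V] [Module k V] [AddCommGroup W]
    [Module k W] (ρ₀ : Representation k G V) (ρ₁ : Representation k G W)
    (φ : Rep.of ρ₀ ⟶ Rep.of ρ₁) :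
    Nonempty (LinearMap.range ((groupCohomology.functor k G 1).map φ).hom ≃ₗ[k]
      ((LinearMap.ker (∑ l ∈ range (orderOf g), ρ₀ g ^ l)).map φ.hom.toLinearMap ⧸
        Submodule.comap
          ((LinearMap.ker (∑ l ∈ range (orderOf g), ρ₀ g ^ l)).map φ.hom.toLinearMap).subtype
          (LinearMap.range (ρ₁ g - 1)))) := by
  set N₀ : V →ₗ[k] V := ∑ l ∈ range (orderOf g), ρ₀ g ^ l with hN₀
  set φl : V →ₗ[k] W := φ.hom.toLinearMap with hφl
  set Z := (LinearMap.ker N₀).map φl with hZ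
  set Hφ := ((groupCohomology.functor k G 1).map φ).hom with hHφ
  let πA : cocycles₁ (Rep.of ρ₀) →ₗ[k] H1 (Rep.of ρ₀) := (H1π (Rep.of ρ₀)).hom
  have hπA : Function.Surjective πA :=
    (ModuleCat.epi_iff_surjective (H1π (Rep.of ρ₀))).mp inferInstance
  let Ψ : cocycles₁ (Rep.of ρ₀) →ₗ[k] H1 (Rep.of ρ₁) := Hφ ∘ₗ πA
  have hrange : LinearMap.range Ψ = LinearMap.range Hφ :=
    LinearMap.range_comp_of_range_eq_top _ (LinearMap.range_eq_top.mpr hπA)
  let ev : cocycles₁ (Rep.of ρ₀) →ₗ[k] Z :=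
    LinearMap.codRestrict Z (φl ∘ₗ (LinearMap.proj g) ∘ₗ (cocycles₁ (Rep.of ρ₀)).subtype)
      (fun f => ⟨f g, cocycle_norm g ρ₀ f, rfl⟩)
  let Θ := (Submodule.mkQ (Submodule.comap Z.subtype (LinearMap.range (ρ₁ g - 1)))) ∘ₗ ev
  have hΘsurj : Function.Surjective Θ := by
    refine (Submodule.mkQ_surjective _).comp ?_
    rintro ⟨z, v, hv, rfl⟩
    obtain ⟨f, hf⟩ := exists_cocycle g hg ρ₀ v hv
    refine ⟨f, Subtype.ext ?_⟩
    change φl (f g) = φl v
    rw [hf]
  have hker : LinearMap.ker Ψ = LinearMap.ker Θ := by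
    ext f
    rw [LinearMap.mem_ker, LinearMap.mem_ker]
    change (groupCohomology.map (MonoidHom.id G) φ 1) (H1π (Rep.of ρ₀) f) = 0 ↔ _
    rw [H1π_comp_map_apply, H1π_eq_zero_iff]
    change _ ↔ Submodule.Quotient.mk (ev f) = 0
    rw [Submodule.Quotient.mk_eq_zero, Submodule.mem_comap]
    change _ ↔ φl (f g) ∈ LinearMap.range (ρ₁ g - 1)
    constructor
    · rintro ⟨b, hb⟩
      refine ⟨b, ?_⟩
      have := congr_fun hb g
      rw [d₀₁_hom_apply] at this
      rw [LinearMap.sub_apply, Module.End.one_apply]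
      exact this
    · rintro ⟨b, hb⟩
      refine ⟨b, ?_⟩
      have e1 : (mapCocycles₁ (MonoidHom.id G) φ f) g = φl (f g) := rfl
      generalize (mapCocycles₁ (MonoidHom.id G) φ f) = f₁ at e1 ⊢
      let f₂ : cocycles₁ (Rep.of ρ₁) := ⟨_, d₀₁_apply_mem_cocycles₁ (A := Rep.of ρ₁) b⟩
      have h0 : f₁ - f₂ = 0 := by
        apply cocycle_eq_zero g hg ρ₁
        change f₁ g - f₂ g = 0
        have e2 : f₂ g = ρ₁ g b - b := rfl
        rw [e1, e2, ← hb, LinearMap.sub_apply, Module.End.one_apply, sub_self]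
      have h1 : f₁ = f₂ := sub_eq_zero.mp h0
      rw [h1]
      rfl
  have e1 : LinearMap.range Hφ ≃ₗ[k] LinearMap.range Ψ :=
    LinearEquiv.ofEq (LinearMap.range Hφ) (LinearMap.range Ψ) hrange.symm
  have e2 : (cocycles₁ (Rep.of ρ₀) ⧸ LinearMap.ker Ψ) ≃ₗ[k] LinearMap.range Ψ :=
    LinearMap.quotKerEquivRange Ψ
  have e3 : (cocycles₁ (Rep.of ρ₀) ⧸ LinearMap.ker Ψ) ≃ₗ[k]
      (cocycles₁ (Rep.of ρ₀) ⧸ LinearMap.ker Θ) := Submodule.quotEquivOfEq _ _ hker
  have e4 := LinearMap.quotKerEquivOfSurjective Θ hΘsurj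
  exact ⟨e1 ≪≫ₗ e2.symm ≪≫ₗ e3 ≪≫ₗ e4⟩

end Coc

section One

open PowerSeries

variable {k : Type u} [Field k] (p : ℕ) [hp : Fact p.Prime] [CharP k p] (n : ℕ)
  (u : PowerSeries k) (hu1 : constantCoeff u = 1) (hun : u ^ n * (1 + X ^ n) = 1)
  (hu : IsUnit u) (a : ℤ)

/-- `f ≡ 1 mod t^n` -/
def IsOne (f : PowerSeries k) : Prop := (X : PowerSeries k) ^ n ∣ f - 1

theorem isOne_one : IsOne n (1 : PowerSeries k) := by
  rw [IsOne, sub_self]; exact dvd_zero _

variable {n} in
theorem IsOne.mul {f g : PowerSeries k} (hf : IsOne n f) (hg : IsOne n g) : IsOne n (f * g) := by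
  have : f * g - 1 = (f - 1) * g + (g - 1) := by ring
  rw [IsOne, this]
  exact dvd_add (Dvd.dvd.mul_right hf g) hg

variable {n} in
theorem IsOne.pow {f : PowerSeries k} (hf : IsOne n f) (m : ℕ) : IsOne n (f ^ m) := by
  induction m with
  | zero => rw [pow_zero]; exact isOne_one n
  | succ m ih => rw [pow_succ]; exact ih.mul hf

theorem IsOne.prod {ι : Type*} (s : Finset ι) (f : ι → PowerSeries k)
    (h : ∀ i ∈ s, IsOne n (f i)) : IsOne n (∏ i ∈ s, f i) :=
  Finset.prod_induction f (IsOne n) (fun _ _ ha hb => ha.mul hb) (isOne_one n) h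

variable {n} in
theorem IsOne.sig0 {f : PowerSeries k} (hf : IsOne n f) : IsOne n (sig0 u f) := by
  obtain ⟨g, hg⟩ := hf
  refine ⟨u ^ n * Helper16AS.sig0 u g, ?_⟩
  have : Helper16AS.sig0 u f - 1 = Helper16AS.sig0 u (f - 1) := by rw [map_sub, map_one]
  rw [this, hg, map_mul, map_pow, sig0_X, mul_pow]
  ring

variable {n} in
theorem IsOne.unit_inv (U : (PowerSeries k)ˣ) (hU : IsOne n (U : PowerSeries k)) :
    IsOne n ((U⁻¹ : (PowerSeries k)ˣ) : PowerSeries k) := by
  have : ((U⁻¹ : (PowerSeries k)ˣ) : PowerSeries k) - 1 =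
      -(((U⁻¹ : (PowerSeries k)ˣ) : PowerSeries k) * ((U : PowerSeries k) - 1)) := by
    rw [mul_sub, Units.inv_mul, mul_one]; ring
  rw [IsOne, this]
  exact (Dvd.dvd.mul_left hU _).neg_right

variable {n} in
theorem IsOne.unit_zpow (U : (PowerSeries k)ˣ) (hU : IsOne n (U : PowerSeries k)) (c : ℤ) :
    IsOne n ((U ^ c : (PowerSeries k)ˣ) : PowerSeries k) := by
  have hpow : ∀ m : ℕ, IsOne n ((U ^ m : (PowerSeries k)ˣ) : PowerSeries k) := by
    intro m
    rw [Units.val_pow_eq_pow_val]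
    exact hU.pow m
  rcases c with m | m
  · rw [Int.ofNat_eq_natCast, zpow_natCast]
    exact hpow m
  · rw [zpow_negSucc]
    exact IsOne.unit_inv _ (hpow (m + 1))

include hu1 hun in
theorem isOne_u (hpn : ¬ p ∣ n) : IsOne n u := by
  set G : PowerSeries k := ∑ i ∈ Finset.range n, u ^ i with hG
  have h1 : (u - 1) * G = u ^ n - 1 := mul_geom_sum u n
  have h2 : constantCoeff G = (n : k) := by
    rw [hG, map_sum]
    simp [hu1]
  have h3 : (n : k) ≠ 0 := by
    intro h
    exact hpn ((CharP.cast_eq_zero_iff k p n).mp h)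
  have h4 : IsUnit G := isUnit_iff_constantCoeff.mpr (by rw [h2]; exact isUnit_iff_ne_zero.mpr h3)
  obtain ⟨G', hG'⟩ := h4.exists_right_inv
  have h5 : u ^ n - 1 = -(u ^ n * X ^ n) := by
    have : u ^ n + u ^ n * X ^ n = 1 := by rw [← hun]; ring
    rw [← this]; ring
  refine ⟨-(u ^ n * G'), ?_⟩
  calc u - 1 = (u - 1) * (G * G') := by rw [hG', mul_one]
    _ = (u ^ n - 1) * G' := by rw [← mul_assoc, h1]
    _ = X ^ n * -(u ^ n * G') := by rw [h5]; ring

include hu1 hun in
theorem isOne_vv (hpn : ¬ p ∣ n) (i : ℕ) : IsOne n (vv u i) := by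
  induction i with
  | zero => exact isOne_one n
  | succ i ih => exact (isOne_u p n u hu1 hun hpn).mul (ih.sig0 u)

include hu1 hun in
theorem isOne_ww (hpn : ¬ p ∣ n) : IsOne n (ww p u) :=
  IsOne.prod n _ _ fun i _ => isOne_vv p n u hu1 hun hpn i

theorem isOne_PP (j : ℕ) : IsOne n (PP (k := k) n j) := by
  refine IsOne.prod n _ _ fun i _ => ?_
  exact ⟨-C (i : k), by ring⟩

variable {n} in
theorem IsOne.coeff_X_pow_mul {U : PowerSeries k} (hU : IsOne n U) (ν i : ℕ) (hi : i < ν + n) :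
    coeff i (X ^ ν * U) = if i = ν then 1 else 0 := by
  rw [coeff_X_pow_mul']
  by_cases h : ν ≤ i
  · rw [if_pos h]
    have h1 := (X_pow_dvd_iff.mp hU) (i - ν) (by omega)
    rw [map_sub, sub_eq_zero] at h1
    rw [h1, coeff_one]
    by_cases h2 : i = ν
    · rw [if_pos h2, if_pos (by omega)]
    · rw [if_neg h2, if_neg (by omega)]
  · rw [if_neg h, if_neg (by omega)]

include hu1 hun in
theorem coeff_ee (hpn : ¬ p ∣ n) (hw : IsUnit (ww p u)) (ν i : ℕ) (hi : i < ν + n) :
    coeff i (ee p n u a hw ν) = if i = ν then 1 else 0 := by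
  rw [ee_eq p n u a hpn hw]
  refine IsOne.coeff_X_pow_mul ?_ ν i hi
  have hW := isOne_ww p n u hu1 hun hpn
  refine ((hW.pow _).mul ?_).mul (isOne_PP n _)
  refine IsOne.unit_zpow _ ?_ _
  rw [IsUnit.unit_spec]
  exact hW

end One

section Tri2

open PowerSeries

variable {k : Type u} [Field k] (e : ℕ → PowerSeries k)
  (he0 : ∀ ν i, i < ν → coeff i (e ν) = 0) (he1 : ∀ ν, coeff ν (e ν) ≠ 0)

include he0 in
theorem dvd_Lam (μ : ℕ → k) (M : ℕ) (h : ∀ ν, ν < M → μ ν = 0) :
    (X : PowerSeries k) ^ M ∣ Lam e μ := by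
  have h1 := X_pow_dvd_Lam_sub e he0 μ M
  rwa [Finset.sum_eq_zero (fun ν hν => by rw [h ν (Finset.mem_range.mp hν), zero_smul]),
    sub_zero] at h1

include he0 he1 in
theorem Lam_dvd (μ : ℕ → k) (M : ℕ) (h : (X : PowerSeries k) ^ M ∣ Lam e μ) :
    ∀ ν, ν < M → μ ν = 0 := by
  intro ν
  induction ν using Nat.strong_induction_on with
  | _ ν ih =>
    intro hν
    have h1 := (X_pow_dvd_iff.mp h) ν hν
    rw [coeff_Lam, Finset.sum_range_succ,
      Finset.sum_eq_zero (fun ν' hν' => by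
        rw [ih ν' (Finset.mem_range.mp hν') (lt_trans (Finset.mem_range.mp hν') hν), zero_mul]),
      zero_add] at h1
    rcases mul_eq_zero.mp h1 with h2 | h2
    · exact h2
    · exact absurd h2 (he1 ν)

theorem Lam_single (he0 : ∀ ν i, i < ν → coeff i (e ν) = 0) (ν : ℕ) :
    Lam e (Pi.single ν 1) = e ν := by
  classical
  ext i
  rw [coeff_Lam]
  by_cases h : ν ≤ i
  · rw [Finset.sum_eq_single ν]
    · rw [Pi.single_eq_same, one_mul]
    · intro ν' _ hne
      rw [Pi.single_eq_of_ne hne, zero_mul]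
    · intro hn
      exact absurd (Finset.mem_range.mpr (by omega)) hn
  · rw [he0 ν i (by omega)]
    refine Finset.sum_eq_zero fun ν' hν' => ?_
    have := Finset.mem_range.mp hν'
    rw [Pi.single_eq_of_ne (by omega), zero_mul]

end Tri2

section Coord

open PowerSeries

variable {k : Type u} [Field k] (p : ℕ) [hp : Fact p.Prime] [CharP k p] (n : ℕ) (hn : 0 < n)
  (hpn : ¬ p ∣ n) (u : PowerSeries k) (hu1 : constantCoeff u = 1)
  (hun : u ^ n * (1 + X ^ n) = 1) (hu : IsUnit u) (a : ℤ)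

include hpn in
theorem jj_lt (ν : ℕ) : jj p n a ν < p := (jj_spec p n hpn a ν).1

include hn hpn in
theorem jj_step (ν : ℕ) (h1 : 1 ≤ jj p n a ν) : jj p n a (ν + n) = jj p n a ν - 1 := by
  obtain ⟨j, hj⟩ : ∃ j, jj p n a ν = j + 1 := ⟨jj p n a ν - 1, by omega⟩
  rw [(jj_add_succ p n hn hpn a ν j hj).1, hj]
  rfl

/-- the basis -/
noncomputable abbrev EE : ℕ → PowerSeries k := ee p n u a (isUnit_ww p u hu1)

/-- the shift -/
noncomputable abbrev SS : (ℕ → k) →ₗ[k] (ℕ → k) := shiftOp n (fun ν => ((jj p n a ν : ℕ) : k))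

include hn hpn hu1 hun in
theorem TT_Lam (hσp : ∀ h, (sig u hu a)^[p] h = h) (μ : ℕ → k) :
    (sig u hu a - 1) (Lam (EE p n u hu1 a) μ) = Lam (EE p n u hu1 a) (SS p n a μ) := by
  have h0 : (sig0 u)^[p] X = X := sig0_iterate_of_sig p u hu a hσp X
  have hw : IsUnit (ww p u) := isUnit_ww p u hu1
  have hTd : ∀ (M : ℕ) (h : PowerSeries k), (X : PowerSeries k) ^ M ∣ h →
      (X : PowerSeries k) ^ M ∣ (sig u hu a - 1) h := by
    intro M h hd
    rw [LinearMap.sub_apply, Module.End.one_apply]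
    exact dvd_sub (dvd_sig u hu a M h hd) hd
  have he0 := coeff_ee_lt p n u a hpn hw
  have hTe : ∀ ν, (sig u hu a - 1) (ee p n u a hw ν) =
      ((jj p n a ν : ℕ) : k) • ee p n u a hw (ν + n) := by
    intro ν
    rw [LinearMap.sub_apply, Module.End.one_apply]
    exact T_ee p n u hun hu a hn hpn hw h0 ν
  exact Lam_comm (ee p n u a hw) he0 _ hTd n (fun ν => ((jj p n a ν : ℕ) : k)) hTe μ

include hn hpn hu1 hun in
theorem TT_pow_Lam (hσp : ∀ h, (sig u hu a)^[p] h = h) (i : ℕ) (μ : ℕ → k) :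
    ((sig u hu a - 1) ^ i) (Lam (EE p n u hu1 a) μ) =
      Lam (EE p n u hu1 a) ((SS p n a ^ i) μ) := by
  induction i generalizing μ with
  | zero => simp
  | succ i ih =>
    rw [pow_succ, Module.End.mul_apply, TT_Lam p n hn hpn u hu1 hun hu a hσp, ih, pow_succ,
      Module.End.mul_apply]

include hu1 hun hpn in
theorem coeff_Lam_lt (μ : ℕ → k) (i : ℕ) (hi : i < n) :
    coeff i (Lam (EE p n u hu1 a) μ) = μ i := by
  rw [coeff_Lam, Finset.sum_eq_single i]
  · rw [coeff_ee p n u hu1 hun a hpn _ i i (by omega), if_pos rfl, mul_one]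
  · intro ν hν hne
    have := Finset.mem_range.mp hν
    rw [coeff_ee p n u hu1 hun a hpn _ ν i (by omega), if_neg (Ne.symm hne), mul_zero]
  · intro h
    exact absurd (Finset.mem_range.mpr (Nat.lt_succ_self i)) h

include hu1 hun hpn hn in
theorem coeff_Lam_n (μ : ℕ → k) :
    coeff n (Lam (EE p n u hu1 a) μ) = μ 0 * coeff n (EE p n u hu1 a 0) + μ n := by
  rw [coeff_Lam, Finset.sum_range_succ', add_comm]
  congr 1
  obtain ⟨m, rfl⟩ : ∃ m, n = m + 1 := ⟨n - 1, by omega⟩
  rw [Finset.sum_eq_single m]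
  · rw [coeff_ee p (m + 1) u hu1 hun a hpn _ (m + 1) (m + 1) (by omega), if_pos rfl, mul_one]
  · intro ν hν hne
    have := Finset.mem_range.mp hν
    rw [coeff_ee p (m + 1) u hu1 hun a hpn _ (ν + 1) (m + 1) (by omega), if_neg (by omega),
      mul_zero]
  · intro h
    exact absurd (Finset.mem_range.mpr (Nat.lt_succ_self m)) h

include hn hpn hu1 hun in
theorem dvd_TT (hσp : ∀ h, (sig u hu a)^[p] h = h) (h : PowerSeries k) :
    (X : PowerSeries k) ^ n ∣ (sig u hu a - 1) h := by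
  have hw : IsUnit (ww p u) := isUnit_ww p u hu1
  have he0 := coeff_ee_lt p n u a hpn hw
  have he1 := coeff_ee_self p n u a hn hpn hw
  rw [← Lam_solve (EE p n u hu1 a) he1 h, TT_Lam p n hn hpn u hu1 hun hu a hσp]
  apply dvd_Lam _ he0
  intro ν hν
  rw [shiftOp_apply, if_neg (by omega)]

include hn hpn hu1 hun in
theorem ker_condition (hσp : ∀ h, (sig u hu a)^[p] h = h) (μ : ℕ → k)
    (hx : Lam (EE p n u hu1 a) μ ∈ LinearMap.ker ((sig u hu a - 1) ^ (p - 1))) :
    ∀ ν, jj p n a ν = p - 1 → μ ν = 0 := by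
  have hw : IsUnit (ww p u) := isUnit_ww p u hu1
  have he1 := coeff_ee_self p n u a hn hpn hw
  rw [LinearMap.mem_ker, TT_pow_Lam p n hn hpn u hu1 hun hu a hσp] at hx
  have h1 : (SS p n a ^ (p - 1)) μ = 0 := by
    apply Lam_injective (EE p n u hu1 a) he1
    rw [hx, map_zero]
  have h2 := (mem_ker_pow_iff (k := k) p n (jj p n a) (jj_lt p n hpn a)
    (jj_step p n hn hpn a) (p - 1) μ).mp (LinearMap.mem_ker.mpr h1)
  intro ν hν
  exact h2 ν (by omega)

include hn hpn hu1 hun in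
theorem mem_range_TT (hσp : ∀ h, (sig u hu a)^[p] h = h) (x : PowerSeries k)
    (hx : x ∈ LinearMap.ker ((sig u hu a - 1) ^ (p - 1))) (hd : (X : PowerSeries k) ^ n ∣ x) :
    x ∈ LinearMap.range (sig u hu a - 1) := by
  have hw : IsUnit (ww p u) := isUnit_ww p u hu1
  have he0 := coeff_ee_lt p n u a hpn hw
  have he1 := coeff_ee_self p n u a hn hpn hw
  rw [← Lam_solve (EE p n u hu1 a) he1 x] at hx hd ⊢
  set μ' := solve (EE p n u hu1 a) x
  have h1 := ker_condition p n hn hpn u hu1 hun hu a hσp μ' hx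
  have h2 := Lam_dvd _ he0 he1 μ' n hd
  have h3 : μ' ∈ LinearMap.range (SS p n a) := by
    rw [mem_range_shiftOp_iff (k := k) p n (jj p n a) (jj_lt p n hpn a)]
    intro ν' hν'
    rcases hν' with h | h
    · exact h2 ν' h
    · by_cases hlt : ν' < n
      · exact h2 ν' hlt
      · apply h1
        have := jj_add_zero p n hn hpn a (ν' - n) h
        rwa [Nat.sub_add_cancel (by omega)] at this
  obtain ⟨μ, hμ⟩ := h3
  exact ⟨Lam (EE p n u hu1 a) μ, by rw [TT_Lam p n hn hpn u hu1 hun hu a hσp, hμ]⟩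

include hn hpn hu1 hun in
theorem coeff_eq_zero_of_ker (hσp : ∀ h, (sig u hu a)^[p] h = h) (x : PowerSeries k)
    (hx : x ∈ LinearMap.ker ((sig u hu a - 1) ^ (p - 1))) (ν : ℕ) (hν : ν < n)
    (hdvd : (p : ℤ) ∣ a - n + ν) : coeff ν x = 0 := by
  have hw : IsUnit (ww p u) := isUnit_ww p u hu1
  have he1 := coeff_ee_self p n u a hn hpn hw
  rw [← Lam_solve (EE p n u hu1 a) he1 x] at hx ⊢
  rw [coeff_Lam_lt p n hpn u hu1 hun a _ ν hν]
  exact ker_condition p n hn hpn u hu1 hun hu a hσp _ hx ν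
    ((jj_eq_pred_iff p n hpn a ν).mpr hdvd)

include hn hpn hu1 hun in
theorem coeff_n_eq_zero_of_ker (hσp : ∀ h, (sig u hu a)^[p] h = h) (x : PowerSeries k)
    (hx : x ∈ LinearMap.ker ((sig u hu a - 1) ^ (p - 1))) (hx0 : coeff 0 x = 0)
    (hdvd : (p : ℤ) ∣ a) : coeff n x = 0 := by
  have hw : IsUnit (ww p u) := isUnit_ww p u hu1
  have he1 := coeff_ee_self p n u a hn hpn hw
  rw [← Lam_solve (EE p n u hu1 a) he1 x] at hx hx0 ⊢
  rw [coeff_Lam_lt p n hpn u hu1 hun a _ 0 hn] at hx0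
  rw [coeff_Lam_n p n hn hpn u hu1 hun a, hx0, zero_mul, zero_add]
  exact ker_condition p n hn hpn u hu1 hun hu a hσp _ hx n
    ((jj_eq_pred_iff p n hpn a n).mpr (by rwa [sub_add_cancel]))

include hn hpn hu1 hun in
theorem ee_mem_ker (hσp : ∀ h, (sig u hu a)^[p] h = h) (ν : ℕ) (hν : jj p n a ν ≠ p - 1) :
    EE p n u hu1 a ν ∈ LinearMap.ker ((sig u hu a - 1) ^ (p - 1)) := by
  classical
  have hw : IsUnit (ww p u) := isUnit_ww p u hu1
  have he0 := coeff_ee_lt p n u a hpn hw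
  rw [← Lam_single (EE p n u hu1 a) he0 ν, LinearMap.mem_ker,
    TT_pow_Lam p n hn hpn u hu1 hun hu a hσp]
  have h1 : (Pi.single ν 1 : ℕ → k) ∈ LinearMap.ker (SS p n a ^ (p - 1)) := by
    rw [mem_ker_pow_iff (k := k) p n (jj p n a) (jj_lt p n hpn a) (jj_step p n hn hpn a)]
    intro ν' hν'
    have hne : ν' ≠ ν := by
      rintro rfl
      have := jj_lt p n hpn a ν'
      omega
    rw [Pi.single_eq_of_ne hne]
  rw [LinearMap.mem_ker.mp h1, map_zero]

end Coord

section Final2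

open PowerSeries

variable (p : ℕ) [hp : Fact p.Prime] (n : ℕ) (hpn : ¬ p ∣ n)

/-- the index set -/
def SI : Finset ℕ := (Finset.range n).filter (fun m => ¬ p ∣ m + 1 ∧ ¬ p ∣ n - (m + 1))

theorem arith1 : ((n + 1) * (p - 1) : ℤ) / p = n - (n : ℤ) / p := by
  have hp0 : (0 : ℤ) < p := by exact_mod_cast hp.out.pos
  have h1 := Int.emod_add_mul_ediv (n : ℤ) p
  have h2 := Int.emod_nonneg (n : ℤ) hp0.ne'
  have h3 := Int.emod_lt_of_pos (n : ℤ) hp0
  set q := (n : ℤ) / p
  set r := (n : ℤ) % p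
  have key : (p - 1 - r) + (p : ℤ) * (n - q) = (n + 1) * (p - 1) := by
    have : (n : ℤ) = r + p * q := h1.symm
    rw [this]; ring
  exact ((Int.ediv_emod_unique hp0).mpr ⟨key, by omega, by omega⟩).1

theorem arith2 (hn : 0 < n) : (-(n : ℤ)) / p = -1 - (n - 1 : ℤ) / p := by
  have hp0 : (0 : ℤ) < p := by exact_mod_cast hp.out.pos
  have h1 := Int.emod_add_mul_ediv ((n : ℤ) - 1) p
  have h2 := Int.emod_nonneg ((n : ℤ) - 1) hp0.ne'
  have h3 := Int.emod_lt_of_pos ((n : ℤ) - 1) hp0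
  set q := ((n : ℤ) - 1) / p
  set r := ((n : ℤ) - 1) % p
  have key : (p - 1 - r) + (p : ℤ) * (-1 - q) = -(n : ℤ) := by
    have : (n : ℤ) = r + p * q + 1 := by linarith
    rw [this]; ring
  exact ((Int.ediv_emod_unique hp0).mpr ⟨key, by omega, by omega⟩).1

include hpn in
theorem card_SI (hn : 0 < n) : ((SI p n).card : ℤ) =
    ((n + 1) * (p - 1) : ℤ) / p - 1 - (n - 1 : ℤ) / p := by
  classical
  have hA := card_filter_jj p n hpn ((n + 1 : ℕ) : ℤ)
  have hB := card_filter_jj p n hpn 1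
  have hA' : (Finset.range n).filter (fun ν => jj p n ((n + 1 : ℕ) : ℤ) ν ≠ p - 1) =
      (Finset.range n).filter (fun m => ¬ p ∣ m + 1) := by
    refine Finset.filter_congr fun m _ => ?_
    rw [Ne, jj_eq_pred_iff p n hpn]
    have : (((n + 1 : ℕ) : ℤ) - n + m) = ((m + 1 : ℕ) : ℤ) := by push_cast; ring
    rw [this, Int.natCast_dvd_natCast]
  have hB' : (Finset.range n).filter (fun ν => jj p n 1 ν ≠ p - 1) =
      (Finset.range n).filter (fun m => ¬ p ∣ n - (m + 1)) := by
    refine Finset.filter_congr fun m hm => ?_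
    have hm' := Finset.mem_range.mp hm
    rw [Ne, jj_eq_pred_iff p n hpn]
    have : ((1 : ℤ) - n + m) = -((n - (m + 1) : ℕ) : ℤ) := by
      rw [Nat.cast_sub (by omega)]; push_cast; ring
    rw [this, dvd_neg, Int.natCast_dvd_natCast]
  rw [hA'] at hA
  rw [hB'] at hB
  have h1 := Finset.card_filter_add_card_filter_not (s := Finset.range n)
    (fun m => p ∣ m + 1 ∨ p ∣ n - (m + 1))
  have h2 : (Finset.range n).filter (fun m => ¬ (p ∣ m + 1 ∨ p ∣ n - (m + 1))) = SI p n := by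
    refine Finset.filter_congr fun m _ => ?_
    rw [not_or]
  have h3 : ((Finset.range n).filter (fun m => p ∣ m + 1 ∨ p ∣ n - (m + 1))).card =
      ((Finset.range n).filter (fun m => p ∣ m + 1)).card +
      ((Finset.range n).filter (fun m => p ∣ n - (m + 1))).card := by
    rw [Finset.filter_or, Finset.card_union_of_disjoint]
    rw [Finset.disjoint_filter]
    intro m hm h4 h5
    apply hpn
    have hm' := Finset.mem_range.mp hm
    have : n = (m + 1) + (n - (m + 1)) := by omega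
    rw [this]
    exact dvd_add h4 h5
  have h4 := Finset.card_filter_add_card_filter_not (s := Finset.range n) (fun m => p ∣ m + 1)
  have h5 := Finset.card_filter_add_card_filter_not (s := Finset.range n)
    (fun m => p ∣ n - (m + 1))
  rw [Finset.card_range] at h1 h4 h5
  rw [h2, h3] at h1
  rw [arith1 p n]
  have h6 := arith2 p n hn
  have e0 : ((n + 1 : ℕ) : ℤ) - 1 = n := by push_cast; ring
  have e2 : (1 : ℤ) - 1 = 0 := by ring
  have e3 : (1 : ℤ) - 1 - n = -n := by ring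
  rw [e0, sub_self, Int.zero_ediv] at hA
  rw [e3, e2, Int.zero_ediv] at hB
  have h1' := congrArg (fun x : ℕ => (x : ℤ)) h1
  have h4' := congrArg (fun x : ℕ => (x : ℤ)) h4
  have h5' := congrArg (fun x : ℕ => (x : ℤ)) h5
  simp only [Nat.cast_add] at h1' h4' h5'
  linarith


variable {k : Type u} [Field k] [CharP k p] (hn : 0 < n)
  (u : PowerSeries k) (hu1 : constantCoeff u = 1)
  (hun : u ^ n * (1 + X ^ n) = 1) (hu : IsUnit u)

include hn hpn hu1 hun in
theorem finrank_range_main (hσ0 : ∀ h, (sig u hu 0)^[p] h = h)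
    (hσ1 : ∀ h, (sig u hu ((n + 1 : ℕ) : ℤ))^[p] h = h)
    (D : PowerSeries k →ₗ[k] PowerSeries k) (hD : ∀ h, D h = derivative k h)
    (hDσ : ∀ h, D (sig u hu 0 h) = sig u hu ((n + 1 : ℕ) : ℤ) (D h)) :
    Module.Finite k ((LinearMap.ker ((sig u hu 0 - 1) ^ (p - 1))).map D ⧸
      Submodule.comap ((LinearMap.ker ((sig u hu 0 - 1) ^ (p - 1))).map D).subtype
        (LinearMap.range (sig u hu ((n + 1 : ℕ) : ℤ) - 1))) ∧
    Module.finrank k ((LinearMap.ker ((sig u hu 0 - 1) ^ (p - 1))).map D ⧸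
      Submodule.comap ((LinearMap.ker ((sig u hu 0 - 1) ^ (p - 1))).map D).subtype
        (LinearMap.range (sig u hu ((n + 1 : ℕ) : ℤ) - 1))) = (SI p n).card := by
  classical
  have hp2 : 2 ≤ p := hp.out.two_le
  set a1 : ℤ := ((n + 1 : ℕ) : ℤ) with ha1
  set T0 : PowerSeries k →ₗ[k] PowerSeries k := sig u hu 0 - 1 with hT0
  set T1 : PowerSeries k →ₗ[k] PowerSeries k := sig u hu a1 - 1 with hT1
  set Z := (LinearMap.ker (T0 ^ (p - 1))).map D with hZ
  have hDT : ∀ h, D (T0 h) = T1 (D h) := by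
    intro h
    rw [hT0, hT1, LinearMap.sub_apply, LinearMap.sub_apply, Module.End.one_apply,
      Module.End.one_apply, map_sub, hDσ]
  have hDTpow : ∀ (i : ℕ) h, D ((T0 ^ i) h) = (T1 ^ i) (D h) := by
    intro i
    induction i with
    | zero => intro h; simp
    | succ i ih =>
      intro h
      rw [pow_succ, Module.End.mul_apply, ih, hDT, pow_succ, Module.End.mul_apply]
  have hZker : ∀ x ∈ Z, x ∈ LinearMap.ker (T1 ^ (p - 1)) := by
    rintro _ ⟨h, hh, rfl⟩
    rw [LinearMap.mem_ker, ← hDTpow, LinearMap.mem_ker.mp hh, map_zero]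
  -- constants are killed
  have hC : ∀ c : k, C c ∈ LinearMap.ker (T0 ^ (p - 1)) := by
    intro c
    have h1 : T0 (C c) = 0 := by
      rw [hT0, LinearMap.sub_apply, Module.End.one_apply, sig_apply, sig0_C, zpow_zero,
        Units.val_one, one_mul, sub_self]
    obtain ⟨m, hm⟩ : ∃ m, p - 1 = m + 1 := ⟨p - 2, by omega⟩
    rw [LinearMap.mem_ker, hm, pow_succ, Module.End.mul_apply, h1, map_zero]
  have hK : ∀ h ∈ LinearMap.ker (T0 ^ (p - 1)), ∀ ν, 1 ≤ ν → ν ≤ n → p ∣ n - ν →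
      coeff ν h = 0 := by
    intro h hh ν h1 h2 hdvd
    rcases Nat.lt_or_ge ν n with hlt | hge
    · refine coeff_eq_zero_of_ker p n hn hpn u hu1 hun hu 0 hσ0 h hh ν hlt ?_
      have : ((0 : ℤ) - n + ν) = -((n - ν : ℕ) : ℤ) := by
        rw [Nat.cast_sub h2]; ring
      rw [this, dvd_neg, Int.natCast_dvd_natCast]
      exact hdvd
    · obtain rfl : ν = n := le_antisymm h2 hge
      have h3 : h - C (coeff 0 h) ∈ LinearMap.ker (T0 ^ (p - 1)) :=
        Submodule.sub_mem _ hh (hC _)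
      have h4 := coeff_n_eq_zero_of_ker p ν hn hpn u hu1 hun hu 0 hσ0 _ h3
        (by rw [map_sub, coeff_zero_C, sub_self]) (dvd_zero _)
      rw [map_sub, coeff_C, if_neg (by omega), sub_zero] at h4
      exact h4
  let Ξ : Z →ₗ[k] (SI p n → k) :=
    (LinearMap.pi fun m : SI p n => (coeff (R := k) m.1)) ∘ₗ Z.subtype
  have hΞ : ∀ x m, Ξ x m = coeff m.1 x.1 := fun _ _ => rfl
  have hSI : ∀ m, m ∈ SI p n ↔ m < n ∧ ¬ p ∣ m + 1 ∧ ¬ p ∣ n - (m + 1) := by
    intro m
    rw [SI, Finset.mem_filter, Finset.mem_range]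
  have hcast : ∀ m, ¬ p ∣ m + 1 → ((m : k) + 1) ≠ 0 := by
    intro m hm h0
    apply hm
    have : ((m + 1 : ℕ) : k) = 0 := by push_cast; exact h0
    exact (CharP.cast_eq_zero_iff k p (m + 1)).mp this
  have hsurj : Function.Surjective Ξ := by
    intro f
    let f' : ℕ → k := fun m => if hm : m ∈ SI p n then f ⟨m, hm⟩ else 0
    let h : PowerSeries k := ∑ m ∈ SI p n, (f' m / ((m : k) + 1)) • EE p n u hu1 0 (m + 1)
    have hh : h ∈ LinearMap.ker (T0 ^ (p - 1)) := by
      refine Submodule.sum_mem _ fun m hm => Submodule.smul_mem _ _ ?_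
      refine ee_mem_ker p n hn hpn u hu1 hun hu 0 hσ0 (m + 1) ?_
      obtain ⟨hm1, hm2, hm3⟩ := (hSI m).mp hm
      rw [Ne, jj_eq_pred_iff p n hpn]
      have : ((0 : ℤ) - n + (m + 1 : ℕ)) = -((n - (m + 1) : ℕ) : ℤ) := by
        rw [Nat.cast_sub (by omega)]; ring
      rw [this, dvd_neg, Int.natCast_dvd_natCast]
      exact hm3
    refine ⟨⟨D h, h, hh, rfl⟩, ?_⟩
    funext m'
    obtain ⟨hm1, hm2, hm3⟩ := (hSI m'.1).mp m'.2
    rw [hΞ]
    change coeff m'.1 (D h) = _
    rw [hD, coeff_derivative, map_sum, Finset.sum_eq_single m'.1]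
    · rw [PowerSeries.coeff_smul, coeff_ee p n u hu1 hun 0 hpn _ (m'.1 + 1) (m'.1 + 1) (by omega),
        if_pos rfl, smul_eq_mul, mul_one, div_mul_cancel₀ _ (hcast _ hm2)]
      simp only [f', dif_pos m'.2]
    · intro m hm hne
      obtain ⟨hm1', -, -⟩ := (hSI m).mp hm
      rw [PowerSeries.coeff_smul, coeff_ee p n u hu1 hun 0 hpn _ (m + 1) (m'.1 + 1) (by omega),
        if_neg (by omega), smul_zero]
    · intro hnot
      exact absurd m'.2 hnot
  have hker : LinearMap.ker Ξ = Submodule.comap Z.subtype (LinearMap.range T1) := by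
    ext x
    rw [LinearMap.mem_ker, Submodule.mem_comap, Submodule.subtype_apply]
    constructor
    · intro h0
      obtain ⟨h, hh, hx⟩ := x.2
      have hc : ∀ m, m < n → coeff m x.1 = 0 := by
        intro m hm
        by_cases hmS : m ∈ SI p n
        · have := congr_fun h0 ⟨m, hmS⟩
          rwa [hΞ] at this
        · rw [hSI] at hmS
          rw [← hx, hD, coeff_derivative]
          by_cases h1 : p ∣ m + 1
          · have : ((m : k) + 1) = 0 := by
              have := (CharP.cast_eq_zero_iff k p (m + 1)).mpr h1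
              push_cast at this
              exact this
            rw [this, mul_zero]
          · have h2 : p ∣ n - (m + 1) := by
              by_contra h2
              exact hmS ⟨hm, h1, h2⟩
            rw [hK h hh (m + 1) (by omega) (by omega) h2, zero_mul]
      exact mem_range_TT p n hn hpn u hu1 hun hu a1 hσ1 x.1 (hZker x.1 x.2)
        (X_pow_dvd_iff.mpr hc)
    · rintro ⟨y, hy⟩
      have hd : (X : PowerSeries k) ^ n ∣ x.1 := by
        rw [← hy]
        exact dvd_TT p n hn hpn u hu1 hun hu a1 hσ1 y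
      funext m
      rw [hΞ]
      exact (X_pow_dvd_iff.mp hd) m.1 ((hSI m.1).mp m.2).1
  let e := (Submodule.quotEquivOfEq _ _ hker.symm) ≪≫ₗ
    (LinearMap.quotKerEquivOfSurjective Ξ hsurj)
  refine ⟨Module.Finite.equiv e.symm, ?_⟩
  rw [LinearEquiv.finrank_eq e, Module.finrank_fintype_fun_eq_card, Fintype.card_coe]

end Final2

end Groth.Agent.Lib.Helper16AS2
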