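import Mathlib

/-!
# Complexes with acyclic terms and acyclic cohomology (helper16)

Fix an object `A` of an abelian category with `Ext`.  An object `M` is `A`-acyclic (`Acyc A M`) if
`Ext^{p+1}(A, M) = 0` for all `p`.  For a cochain complex `K` (indexed by `ℕ`) whose terms and whose cohomology
objects are all `A`-acyclic, `H^n(Hom(A, K)) ≅ Hom(A, H^n(K))` (`homologyHomIso`).  This is the degenerate case
of the hypercohomology spectral sequence.
-/

set_option autoImplicit false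
set_option linter.style.haveILetI false
universe w v u
open CategoryTheory CategoryTheory.Limits Abelian Opposite

namespace Groth.Agent.Lib.Helper16.AcyclicCx

variable {𝒜 : Type u} [Category.{v} 𝒜] [Abelian 𝒜]

section Ext

variable [HasExt.{w} 𝒜] (A : 𝒜)

/-- `A`-acyclic objects: `Ext^{p+1}(A, M) = 0` for all `p`. -/
def Acyc (M : 𝒜) : Prop := ∀ (p : ℕ) (x : Ext.{w} A M (p + 1)), x = 0

variable {A}

lemma Acyc.of_iso {M N : 𝒜} (e : M ≅ N) (h : Acyc.{w} A M) : Acyc.{w} A N := by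
  intro p x
  have h1 : (x.comp (Ext.mk₀ e.inv) (add_zero _)).comp (Ext.mk₀ e.hom) (add_zero _) = x := by
    rw [Ext.comp_assoc_of_third_deg_zero, Ext.mk₀_comp_mk₀, e.inv_hom_id, Ext.comp_mk₀_id]
  have h2 := h p (x.comp (Ext.mk₀ e.inv) (add_zero _))
  rw [← h1, h2, Ext.zero_comp]

lemma Acyc.X₃ {S : ShortComplex 𝒜} (hS : S.ShortExact) (h₁ : Acyc.{w} A S.X₁) (h₂ : Acyc.{w} A S.X₂) :
    Acyc.{w} A S.X₃ := by
  intro p x
  obtain ⟨x₂, hx₂⟩ := Ext.covariant_sequence_exact₃ A hS x rfl (h₁ (p + 1) _)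
  rw [← hx₂, h₂ p x₂, Ext.zero_comp]

lemma Acyc.X₂ {S : ShortComplex 𝒜} (hS : S.ShortExact) (h₁ : Acyc.{w} A S.X₁) (h₃ : Acyc.{w} A S.X₃) :
    Acyc.{w} A S.X₂ := by
  intro p x
  obtain ⟨x₁, hx₁⟩ := Ext.covariant_sequence_exact₂ A hS x (h₃ p _)
  rw [← hx₁, h₁ p x₁, Ext.zero_comp]

/-- lifting along an epi with acyclic kernel -/
lemma Acyc.lift {S : ShortComplex 𝒜} (hS : S.ShortExact) (h₁ : Acyc.{w} A S.X₁) (φ : A ⟶ S.X₃) :
    ∃ ψ : A ⟶ S.X₂, ψ ≫ S.g = φ := by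
  obtain ⟨x₂, hx₂⟩ := Ext.covariant_sequence_exact₃ A hS (Ext.mk₀ φ) (zero_add 1) (h₁ 0 _)
  obtain ⟨ψ, rfl⟩ := (Ext.mk₀_bijective _ _).2 x₂
  rw [Ext.mk₀_comp_mk₀] at hx₂
  exact ⟨ψ, (Ext.mk₀_bijective _ _).1 hx₂⟩

end Ext

section Morphism

variable {P Q : 𝒜} (f : P ⟶ Q)

/-- `0 → ker f → P → im f → 0` -/
noncomputable def scA : ShortComplex 𝒜 :=
  ShortComplex.mk (kernel.ι f) (Abelian.factorThruImage f) (by
    rw [← cancel_mono (Abelian.image.ι f), Category.assoc, Abelian.image.fac, kernel.condition, zero_comp])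

lemma scA_shortExact : (scA f).ShortExact := by
  have h1 : Mono (scA f).f := inferInstanceAs (Mono (kernel.ι f))
  have h2 : Epi (scA f).g := inferInstanceAs (Epi (Abelian.factorThruImage f))
  refine ShortComplex.ShortExact.mk' ?_ h1 h2
  exact ShortComplex.exact_of_f_is_kernel (scA f)
    (isKernelOfComp (Abelian.image.ι f) f (kernelIsKernel f) (scA f).zero (Abelian.image.fac f))

/-- `0 → im f → Q → coker f → 0` -/
noncomputable def scB : ShortComplex 𝒜 :=
  ShortComplex.mk (Abelian.image.ι f) (cokernel.π f) (kernel.condition _)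

lemma scB_shortExact : (scB f).ShortExact := by
  have h1 : Mono (scB f).f := inferInstanceAs (Mono (Abelian.image.ι f))
  have h2 : Epi (scB f).g := inferInstanceAs (Epi (cokernel.π f))
  exact ShortComplex.ShortExact.mk' (ShortComplex.exact_of_f_is_kernel (scB f) (kernelIsKernel (cokernel.π f)))
    h1 h2

end Morphism

section Homology

variable {ℬ : Type*} [Category ℬ] [Abelian ℬ] (G : 𝒜 ⥤ ℬ) [G.Additive] [PreservesFiniteLimits G]
  (K : CochainComplex 𝒜 ℕ)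

/-- the canonical map `K^n ⟶ Z^{n+1}`. -/
noncomputable abbrev toZ (n : ℕ) : K.X n ⟶ kernel (K.d (n + 1) (n + 2)) :=
  kernel.lift (K.d (n + 1) (n + 2)) (K.d n (n + 1)) (K.d_comp_d _ _ _)

/-- `H^{n+1}(G K) ≅ coker(G K^n → G Z^{n+1})` for left exact `G`. -/
noncomputable def homologySuccIso (n : ℕ) :
    ((G.mapHomologicalComplex (ComplexShape.up ℕ)).obj K).homology (n + 1) ≅ cokernel (G.map (toZ K n)) := by
  let K' := (G.mapHomologicalComplex (ComplexShape.up ℕ)).obj K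
  let e2 : K'.homology (n + 1) ≅ (K'.sc' n (n + 1) (n + 2)).homology :=
    K'.homologyIsoSc' n (n + 1) (n + 2) (by simp) (by simp)
  let e3 := (K'.sc' n (n + 1) (n + 2)).homologyIsoCokernelLift
  let d' := K.d (n + 1) (n + 2)
  let d := K.d n (n + 1)
  have key : G.map (kernel.lift d' d (K.d_comp_d _ _ _)) ≫ kernelComparison d' G =
      kernel.lift (G.map d') (G.map d) (by rw [← G.map_comp, K.d_comp_d, G.map_zero]) :=
    map_lift_kernelComparison _ _ _
  have w : kernel.lift (G.map d') (G.map d) (by rw [← G.map_comp, K.d_comp_d, G.map_zero]) ≫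
      (PreservesKernel.iso G d').inv = G.map (kernel.lift d' d (K.d_comp_d _ _ _)) := by
    rw [Iso.comp_inv_eq, PreservesKernel.iso_hom]
    exact key.symm
  let e4 : cokernel (kernel.lift (K'.sc' n (n + 1) (n + 2)).g (K'.sc' n (n + 1) (n + 2)).f
      (K'.sc' n (n + 1) (n + 2)).zero) ≅ cokernel (G.map (toZ K n)) :=
    cokernel.mapIso _ _ (Iso.refl _) (PreservesKernel.iso G d').symm
      (w.trans (Category.id_comp _).symm)
  exact e2 ≪≫ e3 ≪≫ e4

/-- `H^{n+1}(K) ≅ coker(K^n → Z^{n+1})`. -/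
noncomputable def homologySuccIso' (n : ℕ) : K.homology (n + 1) ≅ cokernel (toZ K n) :=
  K.homologyIsoSc' n (n + 1) (n + 2) (by simp) (by simp) ≪≫
    (K.sc' n (n + 1) (n + 2)).homologyIsoCokernelLift

/-- `H^0(K) ≅ Z^0`. -/
noncomputable def homologyZeroIso' : K.homology 0 ≅ kernel (K.d 0 1) :=
  K.homologyIsoSc' 0 0 1 (by simp) (by simp) ≪≫
    (ShortComplex.LeftHomologyData.ofIsLimitKernelFork (K.sc' 0 0 1) (K.shape 0 0 (by simp)) _
      (kernelIsKernel (K.d 0 1))).homologyIso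

/-- `H^0(G K) ≅ G Z^0`. -/
noncomputable def homologyZeroIso :
    ((G.mapHomologicalComplex (ComplexShape.up ℕ)).obj K).homology 0 ≅ G.obj (kernel (K.d 0 1)) :=
  homologyZeroIso' ((G.mapHomologicalComplex (ComplexShape.up ℕ)).obj K) ≪≫
    (PreservesKernel.iso G (K.d 0 1)).symm

end Homology


section Coker

variable [HasExt.{w} 𝒜] (A : 𝒜) {P Q : 𝒜} (f : P ⟶ Q)

/-- `Hom(A, -)` -/
noncomputable abbrev Γ : 𝒜 ⥤ AddCommGrpCat.{v} := preadditiveCoyoneda.obj (op A)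

omit [HasExt.{w} 𝒜] in
lemma Γ_map_apply {M N : 𝒜} (g : M ⟶ N) (ψ : A ⟶ M) : ((Γ A).map g).hom ψ = ψ ≫ g := rfl

/-- the short complex `Hom(A,P) → Hom(A,Q) → Hom(A, coker f)`. -/
noncomputable def scΓ : ShortComplex AddCommGrpCat.{v} :=
  ShortComplex.mk ((Γ A).map f) ((Γ A).map (cokernel.π f)) (by
    rw [← (Γ A).map_comp, cokernel.condition, (Γ A).map_zero])

variable (hk : Acyc.{w} A (kernel f)) (hi : Acyc.{w} A (Abelian.image f))

include hk in
lemma scΓ_exact : (scΓ A f).Exact := by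
  rw [ShortComplex.ab_exact_iff]
  intro (ψ : A ⟶ Q) (hψ : ψ ≫ cokernel.π f = 0)
  let ψ' : A ⟶ Abelian.image f := kernel.lift (cokernel.π f) ψ hψ
  have hψ' : ψ' ≫ Abelian.image.ι f = ψ := kernel.lift_ι _ _ _
  obtain ⟨(χ : A ⟶ P), (hχ : χ ≫ Abelian.factorThruImage f = ψ')⟩ := Acyc.lift (scA_shortExact f) hk ψ'
  refine ⟨χ, ?_⟩
  change χ ≫ f = ψ
  rw [← hψ', ← hχ, Category.assoc, Abelian.image.fac]

include hi in
lemma scΓ_epi : Epi (scΓ A f).g := by
  rw [AddCommGrpCat.epi_iff_surjective]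
  intro (φ : A ⟶ cokernel f)
  obtain ⟨ψ, hψ⟩ := Acyc.lift (scB_shortExact f) hi φ
  exact ⟨ψ, hψ⟩

/-- `coker(Hom(A,P) → Hom(A,Q)) ≅ Hom(A, coker f)`. -/
noncomputable def cokerHomIso : cokernel ((Γ A).map f) ≅ (Γ A).obj (cokernel f) := by
  haveI := scΓ_epi A f hi
  exact IsColimit.coconePointUniqueUpToIso (colimit.isColimit _) (scΓ_exact A f hk).gIsCokernel

end Coker

section Main

variable [HasExt.{w} 𝒜] (A : 𝒜) (K : CochainComplex 𝒜 ℕ)
  (hK : ∀ n, Acyc.{w} A (K.X n)) (hH : ∀ n, Acyc.{w} A (K.homology n))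

include hK hH in
lemma acyc_cycles : ∀ n, Acyc.{w} A (kernel (K.d n (n + 1)))
  | 0 => (hH 0).of_iso (homologyZeroIso' K)
  | n + 1 => by
    have h1 : Acyc.{w} A (kernel (toZ K n)) := by
      refine (acyc_cycles n).of_iso ?_
      have e : toZ K n ≫ kernel.ι (K.d (n + 1) (n + 2)) = K.d n (n + 1) := kernel.lift_ι _ _ _
      exact (kernelIsoOfEq e.symm) ≪≫ kernelCompMono _ _
    have h2 : Acyc.{w} A (Abelian.image (toZ K n)) := Acyc.X₃ (scA_shortExact (toZ K n)) h1 (hK n)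
    have h3 : Acyc.{w} A (cokernel (toZ K n)) := (hH (n + 1)).of_iso (homologySuccIso' K n)
    exact Acyc.X₂ (scB_shortExact (toZ K n)) h2 h3

include hK hH in
lemma acyc_kernel_toZ (n : ℕ) : Acyc.{w} A (kernel (toZ K n)) := by
  refine (acyc_cycles A K hK hH n).of_iso ?_
  have e : toZ K n ≫ kernel.ι (K.d (n + 1) (n + 2)) = K.d n (n + 1) := kernel.lift_ι _ _ _
  exact (kernelIsoOfEq e.symm) ≪≫ kernelCompMono _ _

include hK hH in
lemma acyc_image_toZ (n : ℕ) : Acyc.{w} A (Abelian.image (toZ K n)) :=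
  Acyc.X₃ (scA_shortExact (toZ K n)) (acyc_kernel_toZ A K hK hH n) (hK n)

/-- **Main**: `H^n(Hom(A, K)) ≅ Hom(A, H^n(K))` when the terms and the cohomology of `K` are `A`-acyclic. -/
noncomputable def homologyHomIso : ∀ n : ℕ,
    (((Γ A).mapHomologicalComplex (ComplexShape.up ℕ)).obj K).homology n ≅ (Γ A).obj (K.homology n)
  | 0 => homologyZeroIso (Γ A) K ≪≫ (Γ A).mapIso (homologyZeroIso' K).symm
  | n + 1 => homologySuccIso (Γ A) K n ≪≫
      cokerHomIso A (toZ K n) (acyc_kernel_toZ A K hK hH n) (acyc_image_toZ A K hK hH n) ≪≫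
      (Γ A).mapIso (homologySuccIso' K n).symm

end Main


end Groth.Agent.Lib.Helper16.AcyclicCx
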