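import Mathlib
import Groth.Prelude.Def_Cyc

/-!
# Composition of flat pullbacks on coefficient functions (helper24)

`Cyc.pullFun (p' ≫ p) = Cyc.pullFun p' ∘ Cyc.pullFun p` for flat `p`, `p'` whose dimension shifts at
fibre-generic points are `c`, `c'`.
-/

namespace Groth.Agent.Lib.Helper24PullFunComp

open CategoryTheory AlgebraicGeometry IsLocalRing TensorProduct

universe u

/-- `x'` is maximal under generalization inside its fibre. -/
def IsGen {X' X : Scheme.{u}} (p : X' ⟶ X) (x' : X') : Prop :=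
  ∀ y, p y = p x' → y ⤳ x' → y = x'

/-- every point has a generization in its fibre that is generic in the fibre -/
lemma exists_generic_in_fibre {X' X : Scheme.{u}} [IsLocallyNoetherian X'] (p : X' ⟶ X) (x' : X') :
    ∃ ξ : X', ξ ⤳ x' ∧ p ξ = p x' ∧ IsGen p ξ := by
  let R := X'.presheaf.stalk x'
  let φ : Spec R ⟶ X' := X'.fromSpecStalk x'
  let S' : Set (PrimeSpectrum R) := {q | p (φ q) = p x'}
  have hne : S'.Nonempty := ⟨IsLocalRing.closedPoint R, by
    change p (φ (IsLocalRing.closedPoint R)) = p x'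
    rw [show φ (IsLocalRing.closedPoint R) = x' from Scheme.fromSpecStalk_closedPoint]⟩
  have wf : WellFounded (InvImage (· < ·) (fun q : PrimeSpectrum R => q.asIdeal.height)) :=
    InvImage.wf _ wellFounded_lt
  obtain ⟨q₀, hq₀, hmin⟩ := wf.has_min S' hne
  have hrange : ∀ y : X', y ⤳ x' ↔ ∃ q : PrimeSpectrum R, φ q = y := by
    intro y
    have := Set.ext_iff.mp (Scheme.range_fromSpecStalk (X := X') (x := x')) y
    exact this.symm
  refine ⟨φ q₀, (hrange _).mpr ⟨q₀, rfl⟩, hq₀, ?_⟩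
  intro y hy hys
  have hyx : y ⤳ x' := hys.trans ((hrange _).mpr ⟨q₀, rfl⟩)
  obtain ⟨q, rfl⟩ := (hrange y).mp hyx
  have hqS : q ∈ S' := hy.trans hq₀
  have hemb : Topology.IsInducing φ := (Scheme.Hom.isEmbedding φ).isInducing
  have hle : q ≤ q₀ := (PrimeSpectrum.le_iff_specializes q q₀).mpr (hemb.specializes_iff.mp hys)
  have : q = q₀ := by
    by_contra hne
    have hlt : q < q₀ := lt_of_le_of_ne hle hne
    have hlt' : q.asIdeal < q₀.asIdeal := hlt
    have := Ideal.height_strict_mono_of_isPrime hlt'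
    exact hmin q hqS this
  rw [this]

lemma isGen_comp_of {X'' X' X : Scheme.{u}} (p' : X'' ⟶ X') (p : X' ⟶ X) (x'' : X'')
    (h1 : IsGen p' x'') (h2 : IsGen p (p' x'')) : IsGen (p' ≫ p) x'' := by
  intro y hy hys
  have h3 : p' y ⤳ p' x'' := hys.map p'.continuous
  have h4 : p (p' y) = p (p' x'') := by simpa using hy
  exact h1 y (h2 _ h4 h3) hys

lemma isGen_of_comp {X'' X' X : Scheme.{u}} (p' : X'' ⟶ X') (p : X' ⟶ X) [Flat p'] (x'' : X'')
    (h : IsGen (p' ≫ p) x'') : IsGen p' x'' ∧ IsGen p (p' x'') := by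
  refine ⟨fun y hy hys => h y (by simp [hy]) hys, ?_⟩
  intro y' hy' hys'
  obtain ⟨y'', hy''s, rfl⟩ := (Flat.generalizingMap p') hys'
  have := h y'' (by simpa using hy') hy''s
  rw [this]

lemma isGen_of_eq {X' X : Scheme.{u}} [IsLocallyNoetherian X'] (p : X' ⟶ X) (δ' : X' → ℤ)
    (δ : X → ℤ) (hδ' : Cyc.IsDimFun X' δ') (c : ℤ)
    (hc : ∀ x' : X', IsGen p x' → δ' x' = δ (p x') + c) (x' : X')
    (h : δ' x' = δ (p x') + c) : IsGen p x' := by
  obtain ⟨ξ, hξs, hξp, hξg⟩ := exists_generic_in_fibre p x'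
  by_cases hne : ξ = x'
  · rwa [← hne]
  · exfalso
    have h1 := (hδ' ξ x' hξs hne).1
    have h2 := hc ξ hξg
    rw [hξp] at h2
    omega

lemma length_quot_comp {A B C : Type u} [CommRing A] [CommRing B] [CommRing C]
    [IsLocalRing A] [IsLocalRing B] [IsLocalRing C]
    (φ : A →+* B) (ψ : B →+* C) [IsLocalHom ψ] (hflat : ψ.Flat) :
    Module.length C (C ⧸ Ideal.map (ψ.comp φ) (maximalIdeal A)) =
      Module.length B (B ⧸ Ideal.map φ (maximalIdeal A)) *
        Module.length C (C ⧸ Ideal.map ψ (maximalIdeal B)) := by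
  letI := ψ.toAlgebra
  haveI : Module.Flat B C := hflat
  haveI : IsLocalHom (algebraMap B C) := ‹IsLocalHom ψ›
  have h1 := IsLocalRing.length_baseChange B C (B ⧸ Ideal.map φ (maximalIdeal A))
  have h2 := (Algebra.TensorProduct.quotIdealMapEquivTensorQuot C
    (Ideal.map φ (maximalIdeal A))).toLinearEquiv.length_eq
  rw [← Ideal.map_map]
  change Module.length C (C ⧸ Ideal.map (algebraMap B C) (Ideal.map φ (maximalIdeal A))) = _
  rw [h2, h1]
  rfl

theorem main (X X' X'' : Scheme.{u}) (p : X' ⟶ X) (p' : X'' ⟶ X') [Flat p] [Flat p']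
    (δ : X → ℤ) (δ' : X' → ℤ) (δ'' : X'' → ℤ)
    (hX' : Cyc.IsSetup X' δ') (hX'' : Cyc.IsSetup X'' δ'') (c c' : ℤ)
    (hc : ∀ x' : X', (∀ y, p y = p x' → y ⤳ x' → y = x') → δ' x' = δ (p x') + c)
    (hc' : ∀ x'' : X'', (∀ y, p' y = p' x'' → y ⤳ x'' → y = x'') → δ'' x'' = δ' (p' x'') + c')
    (α : X → ℤ) :
    (∀ x'' : X'', (∀ y, (p' ≫ p) y = (p' ≫ p) x'' → y ⤳ x'' → y = x'') →
      δ'' x'' = δ ((p' ≫ p) x'') + (c + c')) ∧
    Cyc.pullFun (p' ≫ p) δ'' δ (c + c') α = Cyc.pullFun p' δ'' δ' c' (Cyc.pullFun p δ' δ c α) := by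
  haveI : IsLocallyNoetherian X' := hX'.1
  haveI : IsLocallyNoetherian X'' := hX''.1
  have part1 : ∀ x'' : X'', IsGen (p' ≫ p) x'' → δ'' x'' = δ ((p' ≫ p) x'') + (c + c') := by
    intro x'' hg
    obtain ⟨h1, h2⟩ := isGen_of_comp p' p x'' hg
    have e1 := hc' x'' h1
    have e2 := hc (p' x'') h2
    have e3 : (p' ≫ p) x'' = p (p' x'') := by simp
    rw [e3, e1, e2]; ring
  refine ⟨part1, ?_⟩
  funext x''
  have e3 : (p' ≫ p) x'' = p (p' x'') := by simp
  by_cases hL : δ'' x'' = δ ((p' ≫ p) x'') + (c + c')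
  · have hg := isGen_of_eq (p' ≫ p) δ'' δ hX''.2.2 (c + c') part1 x'' hL
    obtain ⟨h1, h2⟩ := isGen_of_comp p' p x'' hg
    have e1 := hc' x'' h1
    have e2 := hc (p' x'') h2
    simp only [Cyc.pullFun]
    rw [if_pos hL, if_pos e1, if_pos e2]
    have hflat : (p'.stalkMap x'').hom.Flat := (Flat.iff_flat_stalkMap p').mp inferInstance x''
    have key := length_quot_comp (p.stalkMap (p' x'')).hom (p'.stalkMap x'').hom hflat
    have hcomp : ((p' ≫ p).stalkMap x'').hom =
        (p'.stalkMap x'').hom.comp (p.stalkMap (p' x'')).hom := by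
      rw [Scheme.Hom.stalkMap_comp]; rfl
    have key' : Module.length (X''.presheaf.stalk x'')
        (X''.presheaf.stalk x'' ⧸ Ideal.map ((p' ≫ p).stalkMap x'').hom
          (maximalIdeal (X.presheaf.stalk ((p' ≫ p) x'')))) =
        Module.length (X'.presheaf.stalk (p' x''))
          (X'.presheaf.stalk (p' x'') ⧸ Ideal.map (p.stalkMap (p' x'')).hom
            (maximalIdeal (X.presheaf.stalk (p (p' x''))))) *
        Module.length (X''.presheaf.stalk x'')
          (X''.presheaf.stalk x'' ⧸ Ideal.map (p'.stalkMap x'').hom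
            (maximalIdeal (X'.presheaf.stalk (p' x'')))) := by
      rw [hcomp]; exact key
    rw [key', ENat.toNat_mul]
    push_cast
    have : α ((p' ≫ p) x'') = α (p (p' x'')) := by rw [e3]
    rw [this]; ring
  · simp only [Cyc.pullFun]
    rw [if_neg hL]
    by_cases hR1 : δ'' x'' = δ' (p' x'') + c'
    · rw [if_pos hR1]
      by_cases hR2 : δ' (p' x'') = δ (p (p' x'')) + c
      · exfalso; apply hL; rw [e3, hR1, hR2]; ring
      · rw [if_neg hR2]; simp
    · rw [if_neg hR1]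

end Groth.Agent.Lib.Helper24PullFunComp
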