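import Mathlib
import Groth.Prelude.Def_CDiv

set_option autoImplicit false
set_option linter.style.haveILetI false
universe u
open CategoryTheory CategoryTheory.Limits AlgebraicGeometry TopologicalSpace Opposite

namespace Groth.Agent.Lib.Helper20.CDivLib

variable {X : Scheme.{u}} [IsIntegral X]

/-- a quotient of two functions which are invertible at `y` is a unit of the local ring at `y`. -/
theorem mem_stalkUnits_of_mem_basicOpen {W : X.Opens} [Nonempty W] (a b : Γ(X, W)) (y : X)
    (hy : y ∈ W) (ha : y ∈ X.basicOpen a) (hb : y ∈ X.basicOpen b) (f : CDiv.KUnits X)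
    (hf : (f : X.functionField) * X.germToFunctionField W b = X.germToFunctionField W a) :
    f ∈ CDiv.stalkUnits X y := by
  have hua : IsUnit (X.presheaf.germ W y hy a) := (X.mem_basicOpen a y hy).1 ha
  have hub : IsUnit (X.presheaf.germ W y hy b) := (X.mem_basicOpen b y hy).1 hb
  refine ⟨hua.unit * hub.unit⁻¹, ?_⟩
  apply Units.ext
  have h1 : algebraMap (X.presheaf.stalk y) X.functionField (X.presheaf.germ W y hy b) =
      X.germToFunctionField W b := Scheme.algebraMap_germ_eq_germToFunctionField X hy b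
  have h2 : algebraMap (X.presheaf.stalk y) X.functionField (X.presheaf.germ W y hy a) =
      X.germToFunctionField W a := Scheme.algebraMap_germ_eq_germToFunctionField X hy a
  have hbK : X.germToFunctionField W b ≠ 0 := by
    rw [← h1]
    exact (hub.map (algebraMap (X.presheaf.stalk y) X.functionField)).ne_zero
  apply mul_right_cancel₀ hbK
  rw [hf]
  simp only [Units.coe_map, MonoidHom.coe_coe, Units.val_mul, map_mul, RingHom.toMonoidHom_eq_coe]
  rw [mul_assoc, IsUnit.unit_spec, h2]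
  have h3 : algebraMap (X.presheaf.stalk y) X.functionField ((hub.unit⁻¹ : (X.presheaf.stalk y)ˣ) :
      X.presheaf.stalk y) * X.germToFunctionField W b = 1 := by
    rw [← h1, ← map_mul]
    have : ((hub.unit⁻¹ : (X.presheaf.stalk y)ˣ) : X.presheaf.stalk y) *
        X.presheaf.germ W y hy b = 1 := by
      have := hub.unit.inv_mul
      rwa [IsUnit.unit_spec] at this
    rw [this, map_one]
  rw [h3, mul_one]

/-- being a unit of the local ring is an open condition. -/
theorem exists_open_forall_mem_stalkUnits (x : X) (f : CDiv.KUnits X)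
    (hf : f ∈ CDiv.stalkUnits X x) :
    ∃ V : X.Opens, x ∈ V ∧ ∀ y : X, y ∈ V → f ∈ CDiv.stalkUnits X y := by
  obtain ⟨u, hu⟩ := hf
  obtain ⟨V, hxV, s, hs⟩ := X.presheaf.exists_germ_eq (u : X.presheaf.stalk x)
  haveI : Nonempty V := ⟨⟨x, hxV⟩⟩
  have hxs : x ∈ X.basicOpen s := by
    rw [X.mem_basicOpen s x hxV, hs]; exact u.isUnit
  refine ⟨X.basicOpen s, hxs, fun y hy => ?_⟩
  have hyV : y ∈ V := X.basicOpen_le s hy
  refine mem_stalkUnits_of_mem_basicOpen s 1 y hyV hy ?_ f ?_
  · rw [Scheme.basicOpen_one]; exact hyV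
  · rw [map_one, mul_one, ← hu]
    simp only [Units.coe_map, MonoidHom.coe_coe, RingHom.toMonoidHom_eq_coe]
    rw [← hs]
    exact Scheme.algebraMap_germ_eq_germToFunctionField X hxV s

/-- the set of points where a divisor is trivial is open. -/
theorem isClosed_supp (D : CDiv.Divisor X) : IsClosed (CDiv.supp D) := by
  rw [← isOpen_compl_iff, isOpen_iff_forall_mem_open]
  intro x hx
  have hx1 : D.1 x = 1 := by
    by_contra h
    exact hx h
  obtain ⟨U, g, hxU, hU⟩ := D.2 x
  have hg : g ∈ CDiv.stalkUnits X x := by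
    rw [hU x hxU] at hx1
    exact (QuotientGroup.eq_one_iff g).1 hx1
  obtain ⟨V, hxV, hV⟩ := exists_open_forall_mem_stalkUnits x g hg
  refine ⟨(U ⊓ V : X.Opens), ?_, (U ⊓ V).isOpen, ⟨hxU, hxV⟩⟩
  rintro y ⟨hyU, hyV⟩ hy
  apply hy
  rw [hU y hyU]
  exact (QuotientGroup.eq_one_iff g).2 (hV y hyV)



/-- in a Noetherian domain of dimension `≤ 1`, the zero locus of a nonzero element is a finite set
of maximal ideals. -/
theorem finite_zeroLocus_of_dim_le_one {B : Type*} [CommRing B] [IsDomain B] [IsNoetherianRing B]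
    [Ring.KrullDimLE 1 B] (c : B) (hc : c ≠ 0) :
    (PrimeSpectrum.zeroLocus {c} : Set (PrimeSpectrum B)).Finite ∧
      ∀ p ∈ (PrimeSpectrum.zeroLocus {c} : Set (PrimeSpectrum B)), p.asIdeal.IsMaximal := by
  have hmax : ∀ p ∈ (PrimeSpectrum.zeroLocus {c} : Set (PrimeSpectrum B)),
      p.asIdeal.IsMaximal := by
    intro p hp
    apply p.2.isMaximal_of_ne_bot
    intro h
    have : c ∈ p.asIdeal := by
      have := hp (Set.mem_singleton c)
      exact this
    rw [h] at this
    exact hc ((Submodule.mem_bot B).1 this)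
  refine ⟨?_, hmax⟩
  have hfin := Ideal.finite_minimalPrimes_of_isNoetherianRing B (Ideal.span {c})
  have hsub : (PrimeSpectrum.zeroLocus {c} : Set (PrimeSpectrum B)) ⊆
      PrimeSpectrum.asIdeal ⁻¹' (Ideal.span {c}).minimalPrimes := by
    intro p hp
    have hcp : Ideal.span {c} ≤ p.asIdeal := by
      rw [Ideal.span_le]
      exact hp
    obtain ⟨q, hq, hqp⟩ := Ideal.exists_minimalPrimes_le hcp
    have hqprime : q.IsPrime := hq.1.1
    have hqne : q ≠ ⊥ := by
      intro h
      have : c ∈ q := hq.1.2 (Ideal.subset_span (Set.mem_singleton c))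
      rw [h] at this
      exact hc ((Submodule.mem_bot B).1 this)
    have hqmax : q.IsMaximal := hqprime.isMaximal_of_ne_bot hqne
    have : q = p.asIdeal := hqmax.eq_of_le p.2.ne_top hqp
    rw [Set.mem_preimage, ← this]
    exact hq
  refine Set.Finite.subset (hfin.preimage ?_) hsub
  intro p _ q _ h
  exact PrimeSpectrum.ext h


omit [IsIntegral X] in
theorem krullDimLE_one_of_isAffineOpen [IsLocallyNoetherian X]
    (hdim : topologicalKrullDim X ≤ 1) {W : X.Opens} (hW : IsAffineOpen W) :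
    Ring.KrullDimLE 1 Γ(X, W) := by
  rw [Ring.KrullDimLE, Order.krullDimLE_iff, ← ringKrullDim,
      Nat.cast_one, ← PrimeSpectrum.topologicalKrullDim_eq_ringKrullDim Γ(X, W)]
  change topologicalKrullDim (Spec Γ(X, W)) ≤ 1
  rw [← IsHomeomorph.topologicalKrullDim_eq _ hW.isoSpec.hom.homeomorph.isHomeomorph]
  exact (topologicalKrullDim_subspace_le X W).trans hdim

theorem exists_open_forall_ne_mem_basicOpen [IsLocallyNoetherian X]
    (hdim : topologicalKrullDim X ≤ 1) {W : X.Opens} (hW : IsAffineOpen W)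
    (c : Γ(X, W)) (hc : c ≠ 0) (x : X) (hx : x ∈ W) :
    ∃ V : X.Opens, x ∈ V ∧ V ≤ W ∧ ∀ y : X, y ∈ V → y ≠ x → y ∈ X.basicOpen c := by
  haveI : Nonempty W := ⟨⟨x, hx⟩⟩
  haveI : IsNoetherianRing Γ(X, W) := IsLocallyNoetherian.component_noetherian ⟨W, hW⟩
  haveI : Ring.KrullDimLE 1 Γ(X, W) := krullDimLE_one_of_isAffineOpen hdim hW
  haveI : IsDomain Γ(X, W) := inferInstance
  obtain ⟨hfin, hmax⟩ := finite_zeroLocus_of_dim_le_one c hc
  set px : PrimeSpectrum Γ(X, W) := hW.primeIdealOf ⟨x, hx⟩ with hpx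
  have hφpx : hW.fromSpec px = x := hW.fromSpec_primeIdealOf ⟨x, hx⟩
  set T : Set (PrimeSpectrum Γ(X, W)) := PrimeSpectrum.zeroLocus {c} \ {px} with hT
  have hTfin : T.Finite := hfin.subset Set.sdiff_subset
  have hTclosed : IsClosed T := by
    have : T = ⋃ p ∈ T, {p} := by simp
    rw [this]
    refine hTfin.isClosed_biUnion fun p hp => ?_
    rw [PrimeSpectrum.isClosed_singleton_iff_isMaximal]
    exact hmax p hp.1
  let T' : (Spec Γ(X, W)).Opens := ⟨Tᶜ, hTclosed.isOpen_compl⟩
  refine ⟨hW.fromSpec ''ᵁ T', ?_, ?_, ?_⟩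
  · refine ⟨px, ?_, hφpx⟩
    show px ∈ Tᶜ
    intro h
    exact h.2 rfl
  · rintro _ ⟨p, -, rfl⟩
    have : hW.fromSpec p ∈ hW.fromSpec.opensRange := ⟨p, rfl⟩
    rwa [hW.opensRange_fromSpec] at this
  · rintro _ ⟨p, hp, rfl⟩ hne
    have hp' : p ∉ T := hp
    have hpc : p ∉ PrimeSpectrum.zeroLocus {c} := by
      intro h
      apply hp'
      refine ⟨h, ?_⟩
      intro hpp
      apply hne
      rw [Set.mem_singleton_iff] at hpp
      rw [hpp]; exact hφpx
    have : p ∈ (PrimeSpectrum.basicOpen c : Set (PrimeSpectrum Γ(X, W))) := by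
      rw [PrimeSpectrum.basicOpen_eq_zeroLocus_compl]
      exact hpc
    have h2 : p ∈ hW.fromSpec ⁻¹ᵁ X.basicOpen c := by
      rw [hW.fromSpec_preimage_basicOpen]
      exact this
    exact h2


/-- away from a given point, a rational function is a unit near that point
(dimension `≤ 1`). -/
theorem exists_open_forall_ne_mem_stalkUnits [IsLocallyNoetherian X]
    (hdim : topologicalKrullDim X ≤ 1) (f : CDiv.KUnits X) (x : X) :
    ∃ V : X.Opens, x ∈ V ∧ ∀ y : X, y ∈ V → y ≠ x → f ∈ CDiv.stalkUnits X y := by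
  obtain ⟨_, ⟨W, hW, rfl⟩, hxW, -⟩ :=
    X.isBasis_affineOpens.exists_subset_of_mem_open (Set.mem_univ x) isOpen_univ
  haveI : Nonempty W := ⟨⟨x, hxW⟩⟩
  haveI := functionField_isFractionRing_of_isAffineOpen X W hW
  obtain ⟨a, b, hb, hab⟩ := IsFractionRing.div_surjective (A := Γ(X, W)) (f : X.functionField)
  have hb0 : b ≠ 0 := nonZeroDivisors.ne_zero hb
  have hbK : algebraMap Γ(X, W) X.functionField b ≠ 0 := by
    intro h
    exact hb0 ((IsFractionRing.injective Γ(X, W) X.functionField)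
      (h.trans (map_zero _).symm))
  have ha0 : a ≠ 0 := by
    intro h
    rw [h, map_zero, zero_div] at hab
    exact f.ne_zero hab.symm
  have hf : (f : X.functionField) * X.germToFunctionField W b = X.germToFunctionField W a := by
    rw [← hab]
    exact div_mul_cancel₀ _ hbK
  obtain ⟨V, hxV, hVW, hV⟩ := exists_open_forall_ne_mem_basicOpen hdim hW (a * b)
    (mul_ne_zero ha0 hb0) x hxW
  refine ⟨V, hxV, fun y hy hne => ?_⟩
  have := hV y hy hne
  rw [Scheme.basicOpen_mul] at this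
  exact mem_stalkUnits_of_mem_basicOpen a b y (hVW hy) this.1 this.2 f hf

/-- S2883. -/
theorem isClosed_discrete_supp [IsLocallyNoetherian X]
    (hdim : topologicalKrullDim X ≤ 1) (D : CDiv.Divisor X) :
    IsClosed (CDiv.supp D) ∧ DiscreteTopology ↥(CDiv.supp D) := by
  refine ⟨isClosed_supp D, ?_⟩
  rw [discreteTopology_subtype_iff']
  intro x _
  obtain ⟨U, g, hxU, hU⟩ := D.2 x
  obtain ⟨V, hxV, hV⟩ := exists_open_forall_ne_mem_stalkUnits hdim g x
  refine ⟨(U ⊓ V : X.Opens), (U ⊓ V).isOpen, ?_⟩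
  ext y
  constructor
  · rintro ⟨⟨hyU, hyV⟩, hy⟩
    by_contra hne
    apply hy
    rw [hU y hyU]
    exact (QuotientGroup.eq_one_iff g).2 (hV y hyV hne)
  · rintro rfl
    exact ⟨⟨hxU, hxV⟩, ‹_›⟩

open Classical in
/-- existence of a divisor with prescribed germs on a closed discrete set. -/
theorem exists_divisor_of_closed_discrete [IsLocallyNoetherian X]
    (hdim : topologicalKrullDim X ≤ 1) (E : Set X) (hE : IsClosed E)
    (hEd : DiscreteTopology ↥E) (d : ∀ x : X, CDiv.Germ X x) :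
    ∃ D : CDiv.Divisor X, (∀ x ∈ E, D.1 x = d x) ∧ ∀ x, x ∉ E → D.1 x = 1 := by
  refine ⟨⟨fun y => if y ∈ E then d y else 1, ?_⟩, ?_, ?_⟩
  · intro x
    by_cases hx : x ∈ E
    · obtain ⟨U₀, hU₀, hU₀E⟩ := discreteTopology_subtype_iff'.1 hEd x hx
      obtain ⟨f, hf⟩ := QuotientGroup.mk_surjective (d x)
      obtain ⟨V, hxV, hV⟩ := exists_open_forall_ne_mem_stalkUnits hdim f x
      have hxU₀ : x ∈ U₀ := by
        have : x ∈ U₀ ∩ E := by rw [hU₀E]; rfl
        exact this.1
      refine ⟨(⟨U₀, hU₀⟩ ⊓ V : X.Opens), f, ⟨hxU₀, hxV⟩, ?_⟩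
      rintro y ⟨hyU₀, hyV⟩
      by_cases hyx : y = x
      · subst hyx
        simp only [if_pos hx]
        exact hf.symm
      · have hyE : y ∉ E := by
          intro hyE
          have : y ∈ U₀ ∩ E := ⟨hyU₀, hyE⟩
          rw [hU₀E] at this
          exact hyx this
        simp only [if_neg hyE]
        exact ((QuotientGroup.eq_one_iff f).2 (hV y hyV hyx)).symm
    · refine ⟨⟨Eᶜ, hE.isOpen_compl⟩, 1, hx, ?_⟩
      intro y hy
      have hyE : y ∉ E := hy
      simp only [if_neg hyE]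
      rfl
  · intro x hx
    simp only [if_pos hx]
  · intro x hx
    simp only [if_neg hx]

/-- S2901. -/
theorem existsUnique_divisor_of_closed_discrete [IsLocallyNoetherian X]
    (hdim : topologicalKrullDim X ≤ 1) (E : Set X) (hE : IsClosed E)
    (hEd : DiscreteTopology ↥E) (d : ∀ x : X, CDiv.Germ X x) :
    ∃! D : CDiv.Divisor X, CDiv.supp D ⊆ E ∧ ∀ x ∈ E, D.1 x = d x := by
  obtain ⟨D, hD1, hD2⟩ := exists_divisor_of_closed_discrete hdim E hE hEd d
  refine ⟨D, ⟨?_, hD1⟩, ?_⟩
  · intro x hx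
    by_contra h
    exact hx (hD2 x h)
  · rintro D' ⟨hs, hD'⟩
    apply Subtype.ext
    funext y
    by_cases hy : y ∈ E
    · rw [hD' y hy, hD1 y hy]
    · rw [hD2 y hy]
      by_contra h
      exact hy (hs h)

end Groth.Agent.Lib.Helper20.CDivLib
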