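import Mathlib
import Groth.Prelude.Def_CDiv
import Groth.Prelude.Def_Pi1
import Groth.Agent.Lib.Helper20Hartogs

set_option autoImplicit false
set_option linter.style.haveILetI false
set_option linter.unusedSectionVars false
universe u
open CategoryTheory CategoryTheory.Limits AlgebraicGeometry TopologicalSpace Opposite

namespace Groth.Agent.Lib.Helper20.CDivOrd

variable {X : Scheme.{u}} [IsIntegral X] [IsLocallyNoetherian X]

/-- the local ring at a point of codimension one of a normal locally Noetherian integral scheme is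
a discrete valuation ring. -/
theorem isDiscreteValuationRing_stalk (hX : Pi1.IsNormalScheme X) (y : X)
    (hy : Order.coheight y = 1) : IsDiscreteValuationRing (X.presheaf.stalk y) := by
  have hdim : ringKrullDim (X.presheaf.stalk y) = 1 := by
    rw [ringKrullDim_stalk_eq_coheight, hy]; rfl
  haveI : IsIntegrallyClosed (X.presheaf.stalk y) := (hX y).2
  have hnf : ¬ IsField (X.presheaf.stalk y) := fun hf => by
    have := ringKrullDim_eq_zero_of_isField hf
    rw [hdim] at this
    exact one_ne_zero this
  haveI : Ring.KrullDimLE 1 (X.presheaf.stalk y) := krullDimLE_of_coheight_le hy.le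
  have hne : IsLocalRing.maximalIdeal (X.presheaf.stalk y) ≠ ⊥ :=
    IsLocalRing.isField_iff_maximalIdeal_eq.not.mp hnf
  have h03 : IsDiscreteValuationRing (X.presheaf.stalk y) ↔
      (IsIntegrallyClosed (X.presheaf.stalk y) ∧
        ∃! P : Ideal (X.presheaf.stalk y), P ≠ ⊥ ∧ P.IsPrime) :=
    (IsDiscreteValuationRing.TFAE (X.presheaf.stalk y) hnf).out 0 3
  rw [h03]
  refine ⟨inferInstance, IsLocalRing.maximalIdeal _, ⟨hne, inferInstance⟩, ?_⟩
  rintro P ⟨hP0, hP⟩
  exact IsLocalRing.eq_maximalIdeal (hP.isMaximal_of_ne_bot hP0)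

/-- at a point of codimension one with DVR local ring, a rational function of non-negative order
is regular. -/
theorem mem_range_of_ord_nonneg (y : X) (hy : Order.coheight y = 1)
    [IsDiscreteValuationRing (X.presheaf.stalk y)] (f : X.functionField) (hf : f ≠ 0)
    (h : 0 ≤ Scheme.ord f y) :
    ∃ s : X.presheaf.stalk y, algebraMap (X.presheaf.stalk y) X.functionField s = f := by
  rw [Scheme.le_ord_iff hy hf] at h
  have h1 : (1 : WithZero (Multiplicative ℤ)) ≤
      Ring.ordFrac (X.presheaf.stalk y) f := by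
    simpa [Scheme.ordHom] using h
  rw [Ring.ordFrac_eq_valuation_inv] at h1
  apply IsDiscreteValuationRing.exists_lift_of_le_one
  have hv : ((IsDiscreteValuationRing.maximalIdeal (X.presheaf.stalk y)).valuation
      X.functionField) f ≠ 0 := by
    rwa [ne_eq, map_eq_zero]
  exact (one_le_inv₀ (zero_lt_iff.mpr hv)).mp h1

/-- a nonzero regular function has non-negative order. -/
theorem ord_nonneg_of_algebraMap (y : X) (hy : Order.coheight y = 1) (s : X.presheaf.stalk y)
    (hs : algebraMap (X.presheaf.stalk y) X.functionField s ≠ 0) :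
    0 ≤ Scheme.ord (algebraMap (X.presheaf.stalk y) X.functionField s) y := by
  rw [Scheme.le_ord_iff hy hs]
  haveI : Ring.KrullDimLE 1 (X.presheaf.stalk y) := krullDimLE_of_coheight_le hy.le
  have hs0 : s ≠ 0 := fun h => hs (by rw [h, map_zero])
  have := Ring.ordFrac_ge_one_of_ne_zero (R := X.presheaf.stalk y) (K := X.functionField) hs0
  simpa [Scheme.ordHom] using this

/-- a unit of the local ring has order zero. -/
theorem ord_eq_zero_of_mem_stalkUnits (y : X) (u : CDiv.KUnits X)
    (hu : u ∈ CDiv.stalkUnits X y) : Scheme.ord (u : X.functionField) y = 0 := by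
  by_cases hy : Order.coheight y = 1
  · obtain ⟨v, rfl⟩ := hu
    have hne : ((Units.map (algebraMap (X.presheaf.stalk y) X.functionField).toMonoidHom v :
        CDiv.KUnits X) : X.functionField) ≠ 0 := Units.ne_zero _
    rw [Scheme.ord_eq_iff hy hne]
    haveI : Ring.KrullDimLE 1 (X.presheaf.stalk y) := krullDimLE_of_coheight_le hy.le
    have := Ring.ordFrac_of_isUnit (R := X.presheaf.stalk y) (K := X.functionField) v.isUnit
    simp [Scheme.ordHom, this]
  · exact Scheme.ord_eq_zero_of_coheight_neq_one hy _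

/-- **Geometric Hartogs**: on a normal locally Noetherian integral scheme, a rational function which
is regular at all points of codimension one of an affine open `W` is regular at all points of `W`. -/
theorem exists_stalk_of_forall_coheight_one (hX : Pi1.IsNormalScheme X) {W : X.Opens}
    (hW : IsAffineOpen W) (x : X) (hx : x ∈ W) (f : X.functionField)
    (h : ∀ y : X, y ∈ W → Order.coheight y = 1 →
      ∃ s : X.presheaf.stalk y, algebraMap (X.presheaf.stalk y) X.functionField s = f) :
    ∃ s : X.presheaf.stalk x, algebraMap (X.presheaf.stalk x) X.functionField s = f := by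
  haveI : Nonempty W := ⟨⟨x, hx⟩⟩
  haveI : IsNoetherianRing Γ(X, W) := IsLocallyNoetherian.component_noetherian ⟨W, hW⟩
  haveI : IsFractionRing Γ(X, W) X.functionField :=
    functionField_isFractionRing_of_isAffineOpen X W hW
  have hmemW : ∀ z : PrimeSpectrum Γ(X, W), hW.fromSpec z ∈ W := fun z => by
    have : hW.fromSpec z ∈ Set.range hW.fromSpec := Set.mem_range_self z
    rw [hW.range_fromSpec] at this
    exact this
  set p : Ideal Γ(X, W) := (hW.primeIdealOf ⟨x, hx⟩).asIdeal with hp
  have key := Groth.Agent.Lib.Helper20.Hartogs.exists_of_forall_heightOne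
    (B := Γ(X, W)) (K := X.functionField) p ?_ f ?_
  · obtain ⟨a, b, hbp, hab⟩ := key
    -- `b` is a unit at `x`
    letI := X.presheaf.algebra_section_stalk ⟨x, hx⟩
    haveI := hW.isLocalization_stalk ⟨x, hx⟩
    haveI : IsScalarTower Γ(X, W) (X.presheaf.stalk x) X.functionField :=
      functionField_isScalarTower X W ⟨x, hx⟩
    refine ⟨IsLocalization.mk' (X.presheaf.stalk x) a (⟨b, hbp⟩ : p.primeCompl), ?_⟩
    have hb0 : algebraMap Γ(X, W) X.functionField b ≠ 0 := by
      intro h0
      have : b = 0 := IsFractionRing.injective Γ(X, W) X.functionField (by rw [h0, map_zero])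
      exact hbp (this ▸ Ideal.zero_mem _)
    apply mul_right_cancel₀ hb0
    rw [hab, IsScalarTower.algebraMap_apply Γ(X, W) (X.presheaf.stalk x) X.functionField b,
      ← map_mul]
    have := IsLocalization.mk'_spec (X.presheaf.stalk x) a (⟨b, hbp⟩ : p.primeCompl)
    rw [this, ← IsScalarTower.algebraMap_apply]
  · -- normality of the localizations
    intro q hq _
    set y := hW.fromSpec ⟨q, hq⟩ with hy
    have hyW : y ∈ W := hmemW _
    letI := X.presheaf.algebra_section_stalk ⟨y, hyW⟩
    haveI : IsLocalization.AtPrime (X.presheaf.stalk y) q := hW.isLocalization_stalk' ⟨q, hq⟩ hyW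
    haveI : IsIntegrallyClosed (X.presheaf.stalk y) := (hX y).2
    exact IsIntegrallyClosed.of_equiv
      (IsLocalization.algEquiv q.primeCompl (X.presheaf.stalk y)
        (Localization.AtPrime q)).toRingEquiv
  · intro q hq _ hht
    set y := hW.fromSpec ⟨q, hq⟩ with hy
    have hyW : y ∈ W := hmemW _
    letI := X.presheaf.algebra_section_stalk ⟨y, hyW⟩
    haveI : IsLocalization.AtPrime (X.presheaf.stalk y) q := hW.isLocalization_stalk' ⟨q, hq⟩ hyW
    haveI : IsScalarTower Γ(X, W) (X.presheaf.stalk y) X.functionField :=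
      functionField_isScalarTower X W ⟨y, hyW⟩
    have hco : Order.coheight y = 1 := by
      have h1 : ringKrullDim (X.presheaf.stalk y) = Order.coheight y :=
        ringKrullDim_stalk_eq_coheight y
      have h2 : ringKrullDim (X.presheaf.stalk y) = q.height :=
        IsLocalization.AtPrime.ringKrullDim_eq_height q (X.presheaf.stalk y)
      rw [h2, hht] at h1
      exact_mod_cast h1.symm
    obtain ⟨s, hs⟩ := h y hyW hco
    obtain ⟨a, b, rfl⟩ := IsLocalization.exists_mk'_eq q.primeCompl s
    refine ⟨a, b, b.2, ?_⟩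
    rw [← hs, IsScalarTower.algebraMap_apply Γ(X, W) (X.presheaf.stalk y) X.functionField b,
      ← map_mul, IsLocalization.mk'_spec, ← IsScalarTower.algebraMap_apply]

theorem ord_one (x : X) : Scheme.ord (1 : X.functionField) x = 0 := by
  have h := Scheme.ord_mul (X := X) (x := x) (f := 1) (g := 1) one_ne_zero one_ne_zero
  rw [mul_one] at h
  omega

theorem ord_inv (x : X) (f : CDiv.KUnits X) :
    Scheme.ord (((f⁻¹ : CDiv.KUnits X) : X.functionField)) x = - Scheme.ord (f : X.functionField) x := by
  have h := Scheme.ord_mul (X := X) (x := x) (f := (f : X.functionField))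
    (g := ((f⁻¹ : CDiv.KUnits X) : X.functionField)) (Units.ne_zero _) (Units.ne_zero _)
  rw [← Units.val_mul, mul_inv_cancel, Units.val_one, ord_one] at h
  omega

/-- (a) of S2876. -/
theorem isEffective_iff (hX : Pi1.IsNormalScheme X) (D : CDiv.Divisor X) :
    CDiv.IsEffective D ↔
      ∀ x : X, Order.coheight x = 1 → ∀ f : CDiv.KUnits X, D.1 x = CDiv.germOf X x f →
        0 ≤ Scheme.ord (f : X.functionField) x := by
  constructor
  · intro hD x hx f hf
    obtain ⟨a, ha, hDa⟩ := hD x
    rw [hf] at hDa
    have hu : f⁻¹ * Units.mk0 _ ha ∈ CDiv.stalkUnits X x := QuotientGroup.eq.mp hDa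
    have hu' : (f⁻¹ * Units.mk0 _ ha)⁻¹ ∈ CDiv.stalkUnits X x := inv_mem hu
    have hfeq : (f : X.functionField) =
        algebraMap (X.presheaf.stalk x) X.functionField a *
          (((f⁻¹ * Units.mk0 _ ha)⁻¹ : CDiv.KUnits X) : X.functionField) := by
      have : f = Units.mk0 _ ha * (f⁻¹ * Units.mk0 _ ha)⁻¹ := by
        rw [mul_inv_rev, inv_inv, ← mul_assoc, mul_inv_cancel, one_mul]
      conv_lhs => rw [this]
      rw [Units.val_mul, Units.val_mk0]
    rw [hfeq, Scheme.ord_mul ha (Units.ne_zero _), ord_eq_zero_of_mem_stalkUnits x _ hu', add_zero]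
    exact ord_nonneg_of_algebraMap x hx a ha
  · intro H x
    obtain ⟨U, f, hxU, hU⟩ := D.2 x
    obtain ⟨_, ⟨W, hW, rfl⟩, hxW, hWU⟩ :=
      X.isBasis_affineOpens.exists_subset_of_mem_open hxU U.isOpen
    have hW' : IsAffineOpen W := hW
    obtain ⟨s, hs⟩ := exists_stalk_of_forall_coheight_one hX hW' x hxW (f : X.functionField)
      (fun y hyW hco => by
        haveI := isDiscreteValuationRing_stalk hX y hco
        exact mem_range_of_ord_nonneg y hco _ (Units.ne_zero f)
          (H y hco f (hU y (hWU hyW))))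
    have hs0 : algebraMap (X.presheaf.stalk x) X.functionField s ≠ 0 := by
      rw [hs]; exact Units.ne_zero f
    refine ⟨s, hs0, ?_⟩
    rw [hU x hxU]
    congr 1
    exact Units.ext hs.symm

/-- (b) of S2876. -/
theorem eq_one_of_ord_eq_zero (hX : Pi1.IsNormalScheme X) (D : CDiv.Divisor X)
    (H : ∀ x : X, Order.coheight x = 1 → ∀ f : CDiv.KUnits X, D.1 x = CDiv.germOf X x f →
        Scheme.ord (f : X.functionField) x = 0) : D = 1 := by
  have h1 : CDiv.IsEffective D := (isEffective_iff hX D).mpr (fun x hx f hf => (H x hx f hf).ge)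
  have h2 : CDiv.IsEffective D⁻¹ := by
    refine (isEffective_iff hX D⁻¹).mpr (fun x hx f hf => ?_)
    have hf' : D.1 x = CDiv.germOf X x f⁻¹ := by
      have h3 : (D⁻¹).1 x = (D.1 x)⁻¹ := rfl
      rw [h3] at hf
      rw [← inv_inv (D.1 x), hf]
      rfl
    have := H x hx f⁻¹ hf'
    rw [ord_inv] at this
    omega
  apply Subtype.ext
  funext x
  obtain ⟨a, ha, hDa⟩ := h1 x
  obtain ⟨b, hb, hDb⟩ := h2 x
  have h3 : (D⁻¹).1 x = (D.1 x)⁻¹ := rfl
  rw [h3, hDa] at hDb
  -- `mk0 a * mk0 b ∈ stalkUnits`
  have hab : Units.mk0 _ ha * Units.mk0 _ hb ∈ CDiv.stalkUnits X x := by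
    have : CDiv.germOf X x (Units.mk0 _ ha * Units.mk0 _ hb) = 1 := by
      change (CDiv.germOf X x (Units.mk0 _ ha)) * (CDiv.germOf X x (Units.mk0 _ hb)) = 1
      rw [← hDb]
      exact mul_inv_cancel _
    exact (QuotientGroup.eq_one_iff _).mp this
  obtain ⟨u, hu⟩ := hab
  have hinj : Function.Injective (algebraMap (X.presheaf.stalk x) X.functionField) :=
    IsFractionRing.injective _ _
  have habu : a * b = u := by
    apply hinj
    have := congrArg Units.val hu
    simp only [Units.coe_map, MonoidHom.coe_coe, RingHom.toMonoidHom_eq_coe, Units.val_mul,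
      Units.val_mk0] at this
    rw [map_mul, ← this]
  have hau : IsUnit a := isUnit_of_mul_isUnit_left (habu ▸ u.isUnit)
  change D.1 x = 1
  rw [hDa]
  refine (QuotientGroup.eq_one_iff _).mpr ⟨hau.unit, ?_⟩
  apply Units.ext
  simp [IsUnit.unit_spec]

end Groth.Agent.Lib.Helper20.CDivOrd
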