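import Mathlib
import Groth.Agent.Lib.Helper20CDivOrd

set_option autoImplicit false
set_option linter.style.haveILetI false
set_option linter.unusedSectionVars false
universe u
open CategoryTheory CategoryTheory.Limits AlgebraicGeometry TopologicalSpace Opposite

namespace Groth.Agent.Lib.Helper20.WDivUFD

variable {X : Scheme.{u}} [IsIntegral X] [IsLocallyNoetherian X]

/-- `ord · x` on nonzero rational functions as a monoid hom. -/
noncomputable def ordUnits (x : X) : CDiv.KUnits X →* Multiplicative ℤ where
  toFun u := Multiplicative.ofAdd (Scheme.ord (u : X.functionField) x)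
  map_one' := by
    rw [Units.val_one, Groth.Agent.Lib.Helper20.CDivOrd.ord_one]; rfl
  map_mul' u v := by
    rw [Units.val_mul, Scheme.ord_mul (Units.ne_zero u) (Units.ne_zero v), ofAdd_add]

theorem ordUnits_apply (x : X) (u : CDiv.KUnits X) :
    Multiplicative.toAdd (ordUnits x u) = Scheme.ord (u : X.functionField) x := rfl

/-- the height of the prime of an affine chart at a point is the coheight. -/
theorem height_primeIdealOf {W : X.Opens} (hW : IsAffineOpen W) (x : X) (hx : x ∈ W) :
    ((hW.primeIdealOf ⟨x, hx⟩).asIdeal.height : WithBot ℕ∞) = Order.coheight x := by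
  letI := X.presheaf.algebra_section_stalk ⟨x, hx⟩
  haveI := hW.isLocalization_stalk ⟨x, hx⟩
  rw [← ringKrullDim_stalk_eq_coheight x,
    IsLocalization.AtPrime.ringKrullDim_eq_height (hW.primeIdealOf ⟨x, hx⟩).asIdeal
      (X.presheaf.stalk x)]

/-- order of a prime element of the coordinate ring of an affine chart at a point of codimension
one: `1` if it generates the prime of the point, `0` if it is not in it. -/
theorem ord_prime {W : X.Opens} (hW : IsAffineOpen W) (x : X) (hx : x ∈ W)
    (hco : Order.coheight x = 1) [Nonempty W] (π : Γ(X, W)) :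
    (π ∉ (hW.primeIdealOf ⟨x, hx⟩).asIdeal →
      Scheme.ord (algebraMap Γ(X, W) X.functionField π) x = 0) ∧
    ((hW.primeIdealOf ⟨x, hx⟩).asIdeal = Ideal.span {π} →
      Scheme.ord (algebraMap Γ(X, W) X.functionField π) x = 1) := by
  letI := X.presheaf.algebra_section_stalk ⟨x, hx⟩
  haveI := hW.isLocalization_stalk ⟨x, hx⟩
  haveI : IsScalarTower Γ(X, W) (X.presheaf.stalk x) X.functionField :=
    functionField_isScalarTower X W ⟨x, hx⟩
  haveI : Ring.KrullDimLE 1 (X.presheaf.stalk x) := krullDimLE_of_coheight_le hco.le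
  set p := (hW.primeIdealOf ⟨x, hx⟩).asIdeal with hp
  have hinjB : Function.Injective (algebraMap Γ(X, W) X.functionField) :=
    X.germToFunctionField_injective W
  constructor
  · intro hπ
    have hu : IsUnit (algebraMap Γ(X, W) (X.presheaf.stalk x) π) :=
      IsLocalization.map_units (X.presheaf.stalk x) (⟨π, hπ⟩ : p.primeCompl)
    have hne : algebraMap Γ(X, W) X.functionField π ≠ 0 := by
      rw [IsScalarTower.algebraMap_apply Γ(X, W) (X.presheaf.stalk x) X.functionField]
      exact (hu.map _).ne_zero
    rw [Scheme.ord_eq_iff hco hne]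
    have := Ring.ordFrac_of_isUnit (R := X.presheaf.stalk x) (K := X.functionField) hu
    rw [IsScalarTower.algebraMap_apply Γ(X, W) (X.presheaf.stalk x) X.functionField]
    simp [Scheme.ordHom, this]
  · intro hpπ
    have hπ0 : π ≠ 0 := by
      intro h0
      rw [h0, Ideal.span_singleton_eq_bot.mpr rfl] at hpπ
      have h1 : ((⊥ : Ideal Γ(X, W)).height : WithBot ℕ∞) = Order.coheight x := by
        rw [← hpπ]; exact height_primeIdealOf hW x hx
      rw [hco] at h1
      have h2 : (⊥ : Ideal Γ(X, W)).height = 0 := Ideal.height_bot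
      rw [h2] at h1
      exact absurd h1 (by decide)
    have hmax : IsLocalRing.maximalIdeal (X.presheaf.stalk x) =
        Ideal.span {algebraMap Γ(X, W) (X.presheaf.stalk x) π} := by
      rw [← IsLocalization.AtPrime.map_eq_maximalIdeal p (X.presheaf.stalk x), hpπ, Ideal.map_span,
        Set.image_singleton]
    have hnf : ¬ IsField (X.presheaf.stalk x) := by
      intro hf
      have h1 := ringKrullDim_eq_zero_of_isField hf
      rw [ringKrullDim_stalk_eq_coheight x, hco] at h1
      exact absurd h1 (by decide)
    haveI : IsDiscreteValuationRing (X.presheaf.stalk x) := by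
      have h04 : IsDiscreteValuationRing (X.presheaf.stalk x) ↔
          (IsLocalRing.maximalIdeal (X.presheaf.stalk x)).IsPrincipal :=
        (IsDiscreteValuationRing.TFAE (X.presheaf.stalk x) hnf).out 0 4
      rw [h04, hmax]
      exact ⟨⟨_, rfl⟩⟩
    have hirr : Irreducible (algebraMap Γ(X, W) (X.presheaf.stalk x) π) :=
      (IsDiscreteValuationRing.irreducible_iff_uniformizer _).mpr hmax
    have hne : algebraMap Γ(X, W) X.functionField π ≠ 0 := fun h0 =>
      hπ0 (hinjB (by rw [h0, map_zero]))
    rw [Scheme.ord_eq_iff hco hne]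
    have := Ring.ordFrac_irreducible (R := X.presheaf.stalk x) (K := X.functionField) hirr
    rw [IsScalarTower.algebraMap_apply Γ(X, W) (X.presheaf.stalk x) X.functionField]
    simp only [Scheme.ordHom, this]
    rfl

/-- two primes of height one, one contained in the other, are equal. -/
theorem eq_of_le_of_height_eq_one {B : Type*} [CommRing B] [IsNoetherianRing B] {p q : Ideal B}
    [p.IsPrime] [q.IsPrime] (hle : p ≤ q) (hp : p.height = 1) (hq : q.height = 1) : p = q := by
  by_contra hne
  have hlt : p < q := lt_of_le_of_ne hle hne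
  have h1 := Ideal.height_strict_mono_of_isPrime_of_isPrime hlt
  rw [hp, hq] at h1
  exact lt_irrefl _ h1

theorem primeIdealOf_injective {W : X.Opens} (hW : IsAffineOpen W) (x z : X) (hx : x ∈ W)
    (hz : z ∈ W) (h : hW.primeIdealOf ⟨x, hx⟩ = hW.primeIdealOf ⟨z, hz⟩) : x = z := by
  have h1 := hW.fromSpec_primeIdealOf ⟨x, hx⟩
  have h2 := hW.fromSpec_primeIdealOf ⟨z, hz⟩
  rw [h] at h1
  exact h1.symm.trans h2

/-- **Cl = 0 for factorial affine schemes**: if `X` is an integral locally Noetherian affine scheme
whose coordinate ring is a UFD, every Weil divisor is principal. -/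
theorem exists_principal (hW : IsAffineOpen (⊤ : X.Opens)) [UniqueFactorizationMonoid Γ(X, ⊤)]
    (D : X → ℤ) (hD : ∀ x, Order.coheight x ≠ 1 → D x = 0) (hfin : {x | D x ≠ 0}.Finite) :
    ∃ f : X.functionField, f ≠ 0 ∧ ∀ x : X, Order.coheight x = 1 → Scheme.ord f x = D x := by
  classical
  haveI : Nonempty (⊤ : X.Opens) := ⟨⟨genericPoint X, trivial⟩⟩
  haveI : IsNoetherianRing Γ(X, ⊤) := IsLocallyNoetherian.component_noetherian ⟨⊤, hW⟩
  have hht : ∀ x : X, Order.coheight x = 1 →
      (hW.primeIdealOf ⟨x, trivial⟩).asIdeal.height = 1 := by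
    intro x hco
    have := height_primeIdealOf hW x trivial
    rw [hco] at this
    exact_mod_cast this
  have hgen : ∀ x : X, Order.coheight x = 1 → ∃ π : Γ(X, ⊤), Prime π ∧
      (hW.primeIdealOf ⟨x, trivial⟩).asIdeal = Ideal.span {π} := by
    intro x hco
    set p := (hW.primeIdealOf ⟨x, trivial⟩).asIdeal with hp
    have hp0 : p ≠ ⊥ := by
      intro h
      have := hht x hco
      rw [← hp, h, Ideal.height_bot] at this
      exact zero_ne_one this
    obtain ⟨π, hπp, hπ⟩ := Ideal.IsPrime.exists_mem_prime_of_ne_bot inferInstance hp0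
    refine ⟨π, hπ, ?_⟩
    have hle : Ideal.span {π} ≤ p := (Ideal.span_singleton_le_iff_mem _).mpr hπp
    haveI : (Ideal.span {π}).IsPrime := (Ideal.span_singleton_prime hπ.ne_zero).mpr hπ
    have h2 : (Ideal.span {π}).height ≠ 0 := by
      rw [ne_eq, Ideal.height_eq_zero_iff_eq_bot, Ideal.span_singleton_eq_bot]
      exact hπ.ne_zero
    by_contra hne
    have hlt : Ideal.span {π} < p := lt_of_le_of_ne hle (Ne.symm hne)
    have h1 := Ideal.height_strict_mono_of_isPrime_of_isPrime hlt
    rw [hht x hco] at h1
    exact h2 (Order.lt_one_iff.mp h1)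
  choose! π hπprime hπspan using hgen
  have hinjB : Function.Injective (algebraMap Γ(X, ⊤) X.functionField) :=
    X.germToFunctionField_injective ⊤
  have hne : ∀ z : X, Order.coheight z = 1 → algebraMap Γ(X, ⊤) X.functionField (π z) ≠ 0 :=
    fun z hz h0 => (hπprime z hz).ne_zero (hinjB (by rw [h0, map_zero]))
  let u : X → CDiv.KUnits X := fun z =>
    if h : Order.coheight z = 1 then Units.mk0 _ (hne z h) else 1
  have hu : ∀ z : X, ∀ h : Order.coheight z = 1,
      ((u z : CDiv.KUnits X) : X.functionField) = algebraMap Γ(X, ⊤) X.functionField (π z) := by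
    intro z h
    simp only [u, dif_pos h, Units.val_mk0]
  refine ⟨((∏ z ∈ hfin.toFinset, u z ^ D z : CDiv.KUnits X) : X.functionField),
    Units.ne_zero _, fun x hco => ?_⟩
  rw [← ordUnits_apply, map_prod]
  simp only [map_zpow]
  rw [toAdd_prod]
  simp only [toAdd_zpow, ordUnits_apply]
  have hterm : ∀ z ∈ hfin.toFinset,
      D z • Scheme.ord ((u z : CDiv.KUnits X) : X.functionField) x = if z = x then D x else 0 := by
    intro z hz
    have hDz : D z ≠ 0 := by simpa using hz
    have hcoz : Order.coheight z = 1 := by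
      by_contra h
      exact hDz (hD z h)
    rw [hu z hcoz]
    by_cases hzx : z = x
    · subst hzx
      rw [if_pos rfl, (ord_prime hW z trivial hco (π z)).2 (hπspan z hco), smul_eq_mul, mul_one]
    · rw [if_neg hzx, (ord_prime hW x trivial hco (π z)).1 ?_, smul_zero]
      intro hmem
      apply hzx
      have hle : (hW.primeIdealOf ⟨z, trivial⟩).asIdeal ≤ (hW.primeIdealOf ⟨x, trivial⟩).asIdeal := by
        rw [hπspan z hcoz]
        exact (Ideal.span_singleton_le_iff_mem _).mpr hmem
      have heq := eq_of_le_of_height_eq_one hle (hht z hcoz) (hht x hco)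
      exact (primeIdealOf_injective hW x z trivial trivial (PrimeSpectrum.ext heq.symm)).symm
  rw [Finset.sum_congr rfl hterm, Finset.sum_ite_eq']
  split_ifs with hx
  · rfl
  · have : D x = 0 := by
      by_contra h
      exact hx (by simpa using h)
    rw [this]

end Groth.Agent.Lib.Helper20.WDivUFD
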