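import Mathlib
import Groth.Agent.Lib.Helper20CDivOrd
import Groth.Agent.Lib.Helper20WDivUFD
import Groth.Agent.Lib.Helper20CDiv1

set_option autoImplicit false
set_option linter.style.haveILetI false
set_option linter.unusedSectionVars false
universe u
open CategoryTheory CategoryTheory.Limits AlgebraicGeometry TopologicalSpace Opposite

namespace Groth.Agent.Lib.Helper20.CDivOrd2

open Groth.Agent.Lib.Helper20.CDivOrd Groth.Agent.Lib.Helper20.WDivUFD

variable {X : Scheme.{u}}

theorem fromSpec_mem {W : X.Opens} (hW : IsAffineOpen W) (z : PrimeSpectrum Γ(X, W)) :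
    hW.fromSpec z ∈ W := by
  have : hW.fromSpec z ∈ Set.range hW.fromSpec := Set.mem_range_self z
  rw [hW.range_fromSpec] at this
  exact this

theorem primeIdealOf_fromSpec {W : X.Opens} (hW : IsAffineOpen W) (z : PrimeSpectrum Γ(X, W)) :
    hW.primeIdealOf ⟨hW.fromSpec z, fromSpec_mem hW z⟩ = z := by
  apply hW.fromSpec.isOpenEmbedding.injective
  exact hW.fromSpec_primeIdealOf ⟨hW.fromSpec z, fromSpec_mem hW z⟩

theorem fromSpec_specializes {W : X.Opens} (hW : IsAffineOpen W) (x : X) (hx : x ∈ W)
    (z : PrimeSpectrum Γ(X, W)) (hz : z.asIdeal ≤ (hW.primeIdealOf ⟨x, hx⟩).asIdeal) :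
    hW.fromSpec z ⤳ x := by
  have h1 : z ⤳ hW.primeIdealOf ⟨x, hx⟩ := (PrimeSpectrum.le_iff_specializes _ _).mp hz
  have h2 := h1.map hW.fromSpec.continuous
  rwa [hW.fromSpec_primeIdealOf ⟨x, hx⟩] at h2

theorem mem_primeIdealOf_iff {W : X.Opens} (hW : IsAffineOpen W) (y : X) (hy : y ∈ W)
    (c : Γ(X, W)) : c ∈ (hW.primeIdealOf ⟨y, hy⟩).asIdeal ↔
      X.presheaf.germ W y hy c ∈ IsLocalRing.maximalIdeal (X.presheaf.stalk y) := by
  rw [hW.primeIdealOf_eq_map_closedPoint ⟨y, hy⟩]
  rfl

/-- the prime of a generalization is contained in the prime of the point. -/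
theorem primeIdealOf_le_of_specializes {W : X.Opens} (hW : IsAffineOpen W) (x y : X) (hx : x ∈ W)
    (hy : y ∈ W) (h : y ⤳ x) :
    (hW.primeIdealOf ⟨y, hy⟩).asIdeal ≤ (hW.primeIdealOf ⟨x, hx⟩).asIdeal := by
  intro c hc
  rw [mem_primeIdealOf_iff] at hc ⊢
  have h1 : (X.presheaf.stalkSpecializes h).hom (X.presheaf.germ W x hx c) =
      X.presheaf.germ W y hy c := by
    rw [← CommRingCat.comp_apply, X.presheaf.germ_stalkSpecializes]
  by_contra hnot
  have hu : IsUnit (X.presheaf.germ W x hx c) := by
    by_contra hnu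
    exact hnot ((IsLocalRing.mem_maximalIdeal _).mpr hnu)
  have := hu.map (X.presheaf.stalkSpecializes h).hom
  rw [h1] at this
  exact ((IsLocalRing.mem_maximalIdeal _).mp hc) this

variable [IsIntegral X] [IsLocallyNoetherian X]

/-- **Geometric Hartogs**, local form: on a normal locally Noetherian integral scheme, a rational
function which is regular at all generalizations of codimension one of `x` is regular at `x`. -/
theorem exists_stalk_of_forall_specializes (hX : Pi1.IsNormalScheme X) (x : X)
    (f : X.functionField)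
    (h : ∀ y : X, y ⤳ x → Order.coheight y = 1 →
      ∃ s : X.presheaf.stalk y, algebraMap (X.presheaf.stalk y) X.functionField s = f) :
    ∃ s : X.presheaf.stalk x, algebraMap (X.presheaf.stalk x) X.functionField s = f := by
  obtain ⟨_, ⟨W, hW, rfl⟩, hx, -⟩ :=
    X.isBasis_affineOpens.exists_subset_of_mem_open (Set.mem_univ x) isOpen_univ
  have hW : IsAffineOpen W := hW
  haveI : Nonempty W := ⟨⟨x, hx⟩⟩
  haveI : IsNoetherianRing Γ(X, W) := IsLocallyNoetherian.component_noetherian ⟨W, hW⟩
  haveI : IsFractionRing Γ(X, W) X.functionField :=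
    functionField_isFractionRing_of_isAffineOpen X W hW
  set p : Ideal Γ(X, W) := (hW.primeIdealOf ⟨x, hx⟩).asIdeal with hp
  have key := Groth.Agent.Lib.Helper20.Hartogs.exists_of_forall_heightOne
    (B := Γ(X, W)) (K := X.functionField) p ?_ f ?_
  · obtain ⟨a, b, hbp, hab⟩ := key
    letI := X.presheaf.algebra_section_stalk ⟨x, hx⟩
    haveI := hW.isLocalization_stalk ⟨x, hx⟩
    haveI : IsScalarTower Γ(X, W) (X.presheaf.stalk x) X.functionField :=
      functionField_isScalarTower X W ⟨x, hx⟩
    refine ⟨IsLocalization.mk' (X.presheaf.stalk x) a (⟨b, hbp⟩ : p.primeCompl), ?_⟩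
    have hb0 : algebraMap Γ(X, W) X.functionField b ≠ 0 := by
      intro h0
      have : b = 0 := IsFractionRing.injective Γ(X, W) X.functionField (by rw [h0, map_zero])
      exact hbp (this ▸ Ideal.zero_mem _)
    apply mul_right_cancel₀ hb0
    rw [hab, IsScalarTower.algebraMap_apply Γ(X, W) (X.presheaf.stalk x) X.functionField b,
      ← map_mul]
    have := IsLocalization.mk'_spec (X.presheaf.stalk x) a (⟨b, hbp⟩ : p.primeCompl)
    rw [this, ← IsScalarTower.algebraMap_apply]
  · intro q hq _
    set y := hW.fromSpec ⟨q, hq⟩ with hy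
    have hyW : y ∈ W := fromSpec_mem hW _
    letI := X.presheaf.algebra_section_stalk ⟨y, hyW⟩
    haveI : IsLocalization.AtPrime (X.presheaf.stalk y) q := hW.isLocalization_stalk' ⟨q, hq⟩ hyW
    haveI : IsIntegrallyClosed (X.presheaf.stalk y) := (hX y).2
    exact IsIntegrallyClosed.of_equiv
      (IsLocalization.algEquiv q.primeCompl (X.presheaf.stalk y)
        (Localization.AtPrime q)).toRingEquiv
  · intro q hq hqp hht
    set y := hW.fromSpec ⟨q, hq⟩ with hy
    have hyW : y ∈ W := fromSpec_mem hW _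
    have hyx : y ⤳ x := fromSpec_specializes hW x hx ⟨q, hq⟩ hqp
    letI := X.presheaf.algebra_section_stalk ⟨y, hyW⟩
    haveI : IsLocalization.AtPrime (X.presheaf.stalk y) q := hW.isLocalization_stalk' ⟨q, hq⟩ hyW
    haveI : IsScalarTower Γ(X, W) (X.presheaf.stalk y) X.functionField :=
      functionField_isScalarTower X W ⟨y, hyW⟩
    have hco : Order.coheight y = 1 := by
      have h1 : ringKrullDim (X.presheaf.stalk y) = Order.coheight y :=
        ringKrullDim_stalk_eq_coheight y
      have h2 : ringKrullDim (X.presheaf.stalk y) = q.height :=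
        IsLocalization.AtPrime.ringKrullDim_eq_height q (X.presheaf.stalk y)
      rw [h2, hht] at h1
      exact_mod_cast h1.symm
    obtain ⟨s, hs⟩ := h y hyx hco
    obtain ⟨a, b, rfl⟩ := IsLocalization.exists_mk'_eq q.primeCompl s
    refine ⟨a, b, b.2, ?_⟩
    rw [← hs, IsScalarTower.algebraMap_apply Γ(X, W) (X.presheaf.stalk y) X.functionField b,
      ← map_mul, IsLocalization.mk'_spec, ← IsScalarTower.algebraMap_apply]

/-- a regular function of order zero at a DVR point is a unit. -/
theorem isUnit_of_ord_eq_zero (y : X) (hy : Order.coheight y = 1)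
    [IsDiscreteValuationRing (X.presheaf.stalk y)] (s : X.presheaf.stalk y)
    (hs : algebraMap (X.presheaf.stalk y) X.functionField s ≠ 0)
    (h : Scheme.ord (algebraMap (X.presheaf.stalk y) X.functionField s) y = 0) : IsUnit s := by
  rw [Scheme.ord_eq_iff hy hs] at h
  rw [Ring.isUnit_iff_ordFrac_one_of_isDiscreteValuationRing (K := X.functionField)]
  simpa [Scheme.ordHom] using h

/-- a nonzero element of the maximal ideal at a DVR point has positive order. -/
theorem ord_pos_of_mem_maximalIdeal (y : X) (hy : Order.coheight y = 1)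
    [IsDiscreteValuationRing (X.presheaf.stalk y)] (s : X.presheaf.stalk y)
    (hs : algebraMap (X.presheaf.stalk y) X.functionField s ≠ 0)
    (hm : s ∈ IsLocalRing.maximalIdeal (X.presheaf.stalk y)) :
    1 ≤ Scheme.ord (algebraMap (X.presheaf.stalk y) X.functionField s) y := by
  have h0 := ord_nonneg_of_algebraMap y hy s hs
  have hne : Scheme.ord (algebraMap (X.presheaf.stalk y) X.functionField s) y ≠ 0 := fun h =>
    (IsLocalRing.mem_maximalIdeal _).mp hm (isUnit_of_ord_eq_zero y hy s hs h)
  omega

theorem ord_div (y : X) (f g : X.functionField) (hf : f ≠ 0) (hg : g ≠ 0) :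
    Scheme.ord (f / g) y = Scheme.ord f y - Scheme.ord g y := by
  have h := Scheme.ord_mul (X := X) (x := y) (f := f / g) (g := g) (div_ne_zero hf hg) hg
  rw [div_mul_cancel₀ _ hg] at h
  omega

/-- (⇐) of S2877, Kaplansky form: every nonzero prime of a local ring contains a prime element. -/
theorem exists_prime_mem (hX : Pi1.IsNormalScheme X)
    (hdiv : ∀ x₀ : X, Order.coheight x₀ = 1 → ∃ D : CDiv.Divisor X,
        (∀ f : CDiv.KUnits X, D.1 x₀ = CDiv.germOf X x₀ f →
          Scheme.ord (f : X.functionField) x₀ = 1) ∧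
          ∀ x : X, x ≠ x₀ → Order.coheight x = 1 → ∀ f : CDiv.KUnits X,
            D.1 x = CDiv.germOf X x f → Scheme.ord (f : X.functionField) x = 0)
    (x : X) (P : Ideal (X.presheaf.stalk x)) [hP : P.IsPrime] (hP0 : P ≠ ⊥) :
    ∃ π ∈ P, Prime π := by
  obtain ⟨_, ⟨W, hW, rfl⟩, hx, -⟩ :=
    X.isBasis_affineOpens.exists_subset_of_mem_open (Set.mem_univ x) isOpen_univ
  have hW : IsAffineOpen W := hW
  haveI : Nonempty W := ⟨⟨x, hx⟩⟩
  haveI : IsNoetherianRing Γ(X, W) := IsLocallyNoetherian.component_noetherian ⟨W, hW⟩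
  letI := X.presheaf.algebra_section_stalk ⟨x, hx⟩
  haveI := hW.isLocalization_stalk ⟨x, hx⟩
  haveI : IsScalarTower Γ(X, W) (X.presheaf.stalk x) X.functionField :=
    functionField_isScalarTower X W ⟨x, hx⟩
  have hinjx : Function.Injective (algebraMap (X.presheaf.stalk x) X.functionField) :=
    IsFractionRing.injective _ _
  set p : Ideal Γ(X, W) := (hW.primeIdealOf ⟨x, hx⟩).asIdeal with hp
  set P' : Ideal Γ(X, W) := P.comap (algebraMap Γ(X, W) (X.presheaf.stalk x)) with hP'
  haveI hP'prime : P'.IsPrime := Ideal.comap_isPrime _ _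
  have hP'p : P' ≤ p := by
    intro c hc
    by_contra hcp
    exact hP.ne_top (Ideal.eq_top_of_isUnit_mem _ hc
      (IsLocalization.map_units (X.presheaf.stalk x) (⟨c, hcp⟩ : p.primeCompl)))
  have hP'0 : P' ≠ ⊥ := by
    obtain ⟨r, hrP, hr0⟩ := Submodule.exists_mem_ne_zero_of_ne_bot hP0
    obtain ⟨c, s, rfl⟩ := IsLocalization.exists_mk'_eq p.primeCompl r
    intro hbot
    have hc : c ∈ P' := by
      change algebraMap _ _ c ∈ P
      rw [← IsLocalization.mk'_spec (X.presheaf.stalk x) c s]
      exact Ideal.mul_mem_right _ _ hrP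
    rw [hbot, Ideal.mem_bot] at hc
    rw [hc, IsLocalization.mk'_zero] at hr0
    exact hr0 rfl
  obtain ⟨a0, ha0P', ha00⟩ := Submodule.exists_mem_ne_zero_of_ne_bot hP'0
  obtain ⟨Q, hQmin, hQP'⟩ := Ideal.exists_minimalPrimes_le
    (show Ideal.span {a0} ≤ P' from (Ideal.span_singleton_le_iff_mem _).mpr ha0P')
  haveI hQprime : Q.IsPrime := hQmin.1.1
  have hQht : Q.height = 1 := by
    apply le_antisymm (Ideal.height_le_one_of_isPrincipal_of_mem_minimalPrimes _ _ hQmin)
    rw [Order.one_le_iff_pos, pos_iff_ne_zero, ne_eq, Ideal.height_eq_zero_iff_eq_bot]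
    intro hbot
    have : a0 ∈ Q := hQmin.1.2 (Ideal.mem_span_singleton_self a0)
    rw [hbot] at this
    exact ha00 this
  obtain ⟨x₀, hx₀⟩ : ∃ x₀ : X, x₀ = hW.fromSpec ⟨Q, hQprime⟩ := ⟨_, rfl⟩
  have hx₀W : x₀ ∈ W := hx₀ ▸ fromSpec_mem hW _
  have hQeq : (hW.primeIdealOf ⟨x₀, hx₀W⟩).asIdeal = Q := by
    subst hx₀
    rw [primeIdealOf_fromSpec]
  have hx₀x : x₀ ⤳ x := hx₀ ▸ fromSpec_specializes hW x hx ⟨Q, hQprime⟩ (hQP'.trans hP'p)
  have hco₀ : Order.coheight x₀ = 1 := by
    have := height_primeIdealOf hW x₀ hx₀W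
    rw [hQeq, hQht] at this
    exact_mod_cast this.symm
  obtain ⟨D, hD1, hD0⟩ := hdiv x₀ hco₀
  have hDeff : CDiv.IsEffective D := by
    rw [isEffective_iff hX]
    intro y hy f hf
    by_cases hyx : y = x₀
    · rw [hyx] at hf ⊢
      rw [hD1 f hf]
      exact zero_le_one
    · rw [hD0 y hyx hy f hf]
  obtain ⟨a, ha, hDa⟩ := hDeff x
  obtain ⟨g, hg⟩ : ∃ g : CDiv.KUnits X, g = Units.mk0 _ ha := ⟨_, rfl⟩
  have hgval : (g : X.functionField) = algebraMap (X.presheaf.stalk x) X.functionField a := by
    rw [hg, Units.val_mk0]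
  rw [← hg] at hDa
  obtain ⟨U, f', hxU, hU⟩ := D.2 x
  have hf'g : f'⁻¹ * g ∈ CDiv.stalkUnits X x :=
    QuotientGroup.eq.mp ((hU x hxU).symm.trans hDa)
  obtain ⟨V, hxV, hV⟩ :=
    Groth.Agent.Lib.Helper20.CDivLib.exists_open_forall_mem_stalkUnits x _ hf'g
  have hrep : ∀ y : X, y ⤳ x → D.1 y = CDiv.germOf X y g := by
    intro y hyx
    have hyU : y ∈ U := hyx.mem_open U.isOpen hxU
    have hyV : y ∈ V := hyx.mem_open V.isOpen hxV
    rw [hU y hyU]
    exact QuotientGroup.eq.mpr (hV y hyV)
  have hord₀ : Scheme.ord (g : X.functionField) x₀ = 1 := hD1 g (hrep x₀ hx₀x)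
  have hord : ∀ y : X, y ⤳ x → y ≠ x₀ → Order.coheight y = 1 →
      Scheme.ord (g : X.functionField) y = 0 :=
    fun y hyx hne hco => hD0 y hne hco g (hrep y hyx)
  have hg0 : (g : X.functionField) ≠ 0 := Units.ne_zero g
  have ha0 : a ≠ 0 := fun h => ha (by rw [h, map_zero])
  -- the key identity of ideals
  have hspan : Ideal.span {a} = Q.map (algebraMap Γ(X, W) (X.presheaf.stalk x)) := by
    apply le_antisymm
    · rw [Ideal.span_singleton_le_iff_mem]
      obtain ⟨b, s, hbs⟩ := IsLocalization.exists_mk'_eq p.primeCompl a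
      rw [← hbs, IsLocalization.mk'_mem_iff]
      apply Ideal.mem_map_of_mem
      -- `b ∈ Q`
      haveI := isDiscreteValuationRing_stalk hX x₀ hco₀
      obtain ⟨r₀, hr₀⟩ := mem_range_of_ord_nonneg x₀ hco₀ (g : X.functionField) hg0
        (by rw [hord₀]; exact zero_le_one)
      have hr₀m : r₀ ∈ IsLocalRing.maximalIdeal (X.presheaf.stalk x₀) := by
        rw [IsLocalRing.mem_maximalIdeal]
        intro hu
        have : g ∈ CDiv.stalkUnits X x₀ := by
          refine ⟨hu.unit, Units.ext ?_⟩
          simp only [Units.coe_map, MonoidHom.coe_coe, RingHom.toMonoidHom_eq_coe,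
            IsUnit.unit_spec]
          exact hr₀
        have := ord_eq_zero_of_mem_stalkUnits x₀ g this
        rw [hord₀] at this
        exact one_ne_zero this
      have hιb : algebraMap Γ(X, W) X.functionField b =
          (g : X.functionField) * algebraMap Γ(X, W) X.functionField s := by
        rw [hgval, IsScalarTower.algebraMap_apply Γ(X, W) (X.presheaf.stalk x) X.functionField b,
          IsScalarTower.algebraMap_apply Γ(X, W) (X.presheaf.stalk x) X.functionField s,
          ← map_mul, ← hbs, IsLocalization.mk'_spec]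
      rw [← hQeq, mem_primeIdealOf_iff]
      letI := X.presheaf.algebra_section_stalk ⟨x₀, hx₀W⟩
      haveI : IsScalarTower Γ(X, W) (X.presheaf.stalk x₀) X.functionField :=
        functionField_isScalarTower X W ⟨x₀, hx₀W⟩
      have hinj₀ : Function.Injective (algebraMap (X.presheaf.stalk x₀) X.functionField) :=
        IsFractionRing.injective _ _
      have : X.presheaf.germ W x₀ hx₀W b = r₀ * X.presheaf.germ W x₀ hx₀W s := by
        apply hinj₀
        rw [map_mul, hr₀]
        change algebraMap (X.presheaf.stalk x₀) X.functionField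
          (algebraMap Γ(X, W) (X.presheaf.stalk x₀) b) = _ *
          algebraMap (X.presheaf.stalk x₀) X.functionField
          (algebraMap Γ(X, W) (X.presheaf.stalk x₀) (s : Γ(X, W)))
        rw [← IsScalarTower.algebraMap_apply, ← IsScalarTower.algebraMap_apply, hιb]
      rw [this]
      exact Ideal.mul_mem_right _ _ hr₀m
    · rw [Ideal.map_le_iff_le_comap]
      intro c hcQ
      rw [Ideal.mem_comap, Ideal.mem_span_singleton']
      by_cases hc0 : c = 0
      · exact ⟨0, by rw [hc0, map_zero, zero_mul]⟩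
      have hinjB : Function.Injective (algebraMap Γ(X, W) X.functionField) :=
        X.germToFunctionField_injective W
      have hιc : algebraMap Γ(X, W) X.functionField c ≠ 0 := fun h0 =>
        hc0 (hinjB (by rw [h0, map_zero]))
      obtain ⟨ρ, hρ⟩ := exists_stalk_of_forall_specializes hX x
        (algebraMap Γ(X, W) X.functionField c / (g : X.functionField)) (by
          intro y hyx hco
          haveI := isDiscreteValuationRing_stalk hX y hco
          have hyW : y ∈ W := hyx.mem_open W.isOpen hx
          letI := X.presheaf.algebra_section_stalk ⟨y, hyW⟩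
          haveI : IsScalarTower Γ(X, W) (X.presheaf.stalk y) X.functionField :=
            functionField_isScalarTower X W ⟨y, hyW⟩
          have hcy : algebraMap Γ(X, W) X.functionField c =
              algebraMap (X.presheaf.stalk y) X.functionField (X.presheaf.germ W y hyW c) :=
            IsScalarTower.algebraMap_apply Γ(X, W) (X.presheaf.stalk y) X.functionField c
          have hcy0 : algebraMap (X.presheaf.stalk y) X.functionField
              (X.presheaf.germ W y hyW c) ≠ 0 := by rw [← hcy]; exact hιc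
          apply mem_range_of_ord_nonneg y hco _ (div_ne_zero hιc hg0)
          rw [ord_div y _ _ hιc hg0]
          by_cases hyx₀ : y = x₀
          · have hm : X.presheaf.germ W y hyW c ∈
                IsLocalRing.maximalIdeal (X.presheaf.stalk y) := by
              rw [← mem_primeIdealOf_iff hW y hyW]
              subst hyx₀
              rw [hQeq]
              exact hcQ
            have h1 := ord_pos_of_mem_maximalIdeal y hco _ hcy0 hm
            rw [← hcy] at h1
            rw [hyx₀] at h1 ⊢
            rw [hord₀]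
            omega
          · have h1 := ord_nonneg_of_algebraMap y hco _ hcy0
            rw [← hcy] at h1
            rw [hord y hyx hyx₀ hco]
            omega)
      refine ⟨ρ, hinjx ?_⟩
      rw [map_mul, hρ, ← hgval, div_mul_cancel₀ _ hg0,
        ← IsScalarTower.algebraMap_apply Γ(X, W) (X.presheaf.stalk x) X.functionField c]
  have hQdisj : Disjoint (p.primeCompl : Set Γ(X, W)) (Q : Set Γ(X, W)) := by
    rw [Set.disjoint_left]
    intro c hc hcQ
    exact hc (hP'p (hQP' hcQ))
  have hprimeI : (Ideal.span {a}).IsPrime := by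
    rw [hspan]
    exact IsLocalization.isPrime_of_isPrime_disjoint p.primeCompl _ Q hQprime hQdisj
  refine ⟨a, ?_, (Ideal.span_singleton_prime ha0).mp hprimeI⟩
  have : Ideal.span {a} ≤ P := by
    rw [hspan, Ideal.map_le_iff_le_comap]
    exact hQP'
  exact this (Ideal.mem_span_singleton_self a)

end Groth.Agent.Lib.Helper20.CDivOrd2
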