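import Mathlib
import Groth.Agent.Lib.Helper20CDivOrd2

set_option autoImplicit false
set_option linter.style.haveILetI false
set_option linter.unusedSectionVars false
universe u
open CategoryTheory CategoryTheory.Limits AlgebraicGeometry TopologicalSpace Opposite

namespace Groth.Agent.Lib.Helper20.CDivOrd3

open Groth.Agent.Lib.Helper20.CDivOrd Groth.Agent.Lib.Helper20.WDivUFD
  Groth.Agent.Lib.Helper20.CDivOrd2

/-- common denominator for a finitely generated ideal which is principal at a prime. -/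
theorem exists_common_denominator {B : Type*} [CommRing B] [IsNoetherianRing B] (Q p : Ideal B)
    [hp : p.IsPrime] (b : B) (h : ∀ c ∈ Q, ∃ r s, s ∉ p ∧ c * s = b * r) :
    ∃ t, t ∉ p ∧ ∀ c ∈ Q, ∃ r, c * t = b * r := by
  classical
  obtain ⟨S, hS⟩ := (isNoetherianRing_iff_ideal_fg B).mp inferInstance Q
  have hSQ : ∀ c ∈ S, c ∈ Q := fun c hc => hS ▸ Ideal.subset_span hc
  choose! r s hs hrs using h
  refine ⟨∏ c ∈ S, s c, ?_, ?_⟩
  · intro hmem
    obtain ⟨c, hc, hcp⟩ := (hp.prod_mem_iff).mp hmem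
    exact hs c (hSQ c hc) hcp
  · intro c hc
    rw [← hS] at hc
    induction hc using Submodule.span_induction with
    | mem c hc =>
      refine ⟨r c * ∏ c' ∈ S.erase c, s c', ?_⟩
      rw [← Finset.mul_prod_erase S s hc, ← mul_assoc, hrs c (hSQ c hc), mul_assoc]
    | zero => exact ⟨0, by simp⟩
    | add c c' _ _ h1 h2 =>
      obtain ⟨r1, h1⟩ := h1
      obtain ⟨r2, h2⟩ := h2
      exact ⟨r1 + r2, by rw [add_mul, h1, h2, mul_add]⟩
    | smul a c _ h1 =>
      obtain ⟨r1, h1⟩ := h1
      exact ⟨a * r1, by rw [smul_eq_mul, mul_assoc, h1]; ring⟩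

variable {X : Scheme.{u}}

/-- the ideal of the local ring at `y` of the closure of `x₀` (the unit ideal if `y` is not in the
closure). -/
noncomputable def Pgen (x₀ y : X) : Ideal (X.presheaf.stalk y) :=
  ⨅ h : x₀ ⤳ y, (IsLocalRing.maximalIdeal (X.presheaf.stalk x₀)).comap
    (X.presheaf.stalkSpecializes h).hom

theorem mem_Pgen {x₀ y : X} (r : X.presheaf.stalk y) :
    r ∈ Pgen x₀ y ↔ ∀ h : x₀ ⤳ y, (X.presheaf.stalkSpecializes h).hom r ∈
      IsLocalRing.maximalIdeal (X.presheaf.stalk x₀) := by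
  simp only [Pgen, Ideal.mem_iInf, Ideal.mem_comap]

theorem Pgen_eq_top {x₀ y : X} (h : ¬ x₀ ⤳ y) : Pgen x₀ y = ⊤ := by
  rw [Ideal.eq_top_iff_one, mem_Pgen]
  intro h'
  exact absurd h' h

theorem Pgen_self (x₀ : X) : Pgen x₀ x₀ = IsLocalRing.maximalIdeal (X.presheaf.stalk x₀) := by
  ext r
  rw [mem_Pgen]
  constructor
  · intro h
    have := h specializes_rfl
    rwa [X.presheaf.stalkSpecializes_refl] at this
  · intro h h'
    rw [show h' = specializes_rfl from rfl, X.presheaf.stalkSpecializes_refl]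
    exact h

/-- in an affine chart, `Pgen` is the extension of the prime of `x₀`. -/
theorem Pgen_eq_map {W : X.Opens} (hW : IsAffineOpen W) (x₀ : X) (hx₀ : x₀ ∈ W) (y : X)
    (hy : y ∈ W) :
    Pgen x₀ y = Ideal.map (X.presheaf.germ W y hy).hom (hW.primeIdealOf ⟨x₀, hx₀⟩).asIdeal := by
  have hgerm : ∀ (h : x₀ ⤳ y) (c : Γ(X, W)),
      (X.presheaf.stalkSpecializes h).hom (X.presheaf.germ W y hy c) =
        X.presheaf.germ W x₀ hx₀ c := by
    intro h c
    rw [← CommRingCat.comp_apply, X.presheaf.germ_stalkSpecializes]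
  apply le_antisymm
  · intro r hr
    by_cases hsp : x₀ ⤳ y
    · letI := X.presheaf.algebra_section_stalk ⟨y, hy⟩
      haveI := hW.isLocalization_stalk ⟨y, hy⟩
      obtain ⟨c, s, rfl⟩ := IsLocalization.exists_mk'_eq
        (hW.primeIdealOf ⟨y, hy⟩).asIdeal.primeCompl r
      change IsLocalization.mk' _ c s ∈ Ideal.map (algebraMap Γ(X, W) (X.presheaf.stalk y)) _
      rw [IsLocalization.mk'_mem_iff]
      apply Ideal.mem_map_of_mem
      rw [mem_primeIdealOf_iff]
      have h1 := (mem_Pgen _).mp hr hsp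
      have h2 : IsLocalization.mk' (X.presheaf.stalk y) c s *
          X.presheaf.germ W y hy (s : Γ(X, W)) = X.presheaf.germ W y hy c :=
        IsLocalization.mk'_spec (X.presheaf.stalk y) c s
      have h3 := congrArg (X.presheaf.stalkSpecializes hsp).hom h2
      rw [map_mul, hgerm, hgerm] at h3
      rw [← h3]
      exact Ideal.mul_mem_right _ _ h1
    · -- some element of `Q` is a unit at `y`
      have : ¬ (hW.primeIdealOf ⟨x₀, hx₀⟩).asIdeal ≤ (hW.primeIdealOf ⟨y, hy⟩).asIdeal := by
        intro hle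
        apply hsp
        have := fromSpec_specializes hW y hy (hW.primeIdealOf ⟨x₀, hx₀⟩) hle
        rwa [hW.fromSpec_primeIdealOf ⟨x₀, hx₀⟩] at this
      obtain ⟨c, hcQ, hcy⟩ := Set.not_subset.mp this
      have hu : IsUnit (X.presheaf.germ W y hy c) := by
        by_contra hnu
        exact hcy ((mem_primeIdealOf_iff hW y hy c).mpr ((IsLocalRing.mem_maximalIdeal _).mpr hnu))
      rw [Ideal.eq_top_of_isUnit_mem _ (Ideal.mem_map_of_mem _ hcQ) hu]
      exact Submodule.mem_top
  · rw [Ideal.map_le_iff_le_comap]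
    intro c hc
    rw [Ideal.mem_comap, mem_Pgen]
    intro h
    rw [hgerm]
    exact (mem_primeIdealOf_iff hW x₀ hx₀ c).mp hc

variable [IsIntegral X]

/-- `f` is (the image of) a generator of `Pgen x₀ y`. -/
def Gen (x₀ y : X) (f : CDiv.KUnits X) : Prop :=
  ∃ r : X.presheaf.stalk y, algebraMap (X.presheaf.stalk y) X.functionField r = (f : X.functionField) ∧
    Ideal.span {r} = Pgen x₀ y

theorem Gen.unique {x₀ y : X} {f f' : CDiv.KUnits X} (h : Gen x₀ y f) (h' : Gen x₀ y f') :
    f⁻¹ * f' ∈ CDiv.stalkUnits X y := by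
  obtain ⟨r, hr, hrP⟩ := h
  obtain ⟨r', hr', hrP'⟩ := h'
  have hass : Associated r r' := Ideal.span_singleton_eq_span_singleton.mp (hrP.trans hrP'.symm)
  obtain ⟨u, hu⟩ := hass
  refine ⟨u, Units.ext ?_⟩
  simp only [Units.coe_map, MonoidHom.coe_coe, RingHom.toMonoidHom_eq_coe, Units.val_mul]
  have hf0 : (f : X.functionField) ≠ 0 := Units.ne_zero f
  apply mul_left_cancel₀ hf0
  rw [← mul_assoc, ← Units.val_mul, mul_inv_cancel, Units.val_one, one_mul, ← hr, ← hr',
    ← map_mul, hu]

theorem Gen.germOf_eq {x₀ y : X} {f f' : CDiv.KUnits X} (h : Gen x₀ y f) (h' : Gen x₀ y f') :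
    CDiv.germOf X y f = CDiv.germOf X y f' :=
  QuotientGroup.eq.mpr (h.unique h')

theorem Gen.mem_stalkUnits_of_not_specializes {x₀ y : X} {f : CDiv.KUnits X} (h : Gen x₀ y f)
    (hsp : ¬ x₀ ⤳ y) : f ∈ CDiv.stalkUnits X y := by
  obtain ⟨r, hr, hrP⟩ := h
  rw [Pgen_eq_top hsp, Ideal.span_singleton_eq_top] at hrP
  refine ⟨hrP.unit, Units.ext ?_⟩
  simp only [Units.coe_map, MonoidHom.coe_coe, RingHom.toMonoidHom_eq_coe, IsUnit.unit_spec]
  exact hr

/-- local existence of generators of the ideal of the closure of a codimension one point, on a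
locally factorial scheme. -/
theorem exists_open_gen [IsLocallyNoetherian X]
    (hufd : ∀ x : X, UniqueFactorizationMonoid (X.presheaf.stalk x))
    (x₀ : X) (hco₀ : Order.coheight x₀ = 1) (x : X) :
    ∃ (V : X.Opens) (f : CDiv.KUnits X), x ∈ V ∧ ∀ y ∈ V, Gen x₀ y f := by
  by_cases hsp : x₀ ⤳ x
  · obtain ⟨_, ⟨W, hW, rfl⟩, hx, -⟩ :=
      X.isBasis_affineOpens.exists_subset_of_mem_open (Set.mem_univ x) isOpen_univ
    have hW : IsAffineOpen W := hW
    have hx₀ : x₀ ∈ W := hsp.mem_open W.isOpen hx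
    haveI : Nonempty W := ⟨⟨x, hx⟩⟩
    haveI : IsNoetherianRing Γ(X, W) := IsLocallyNoetherian.component_noetherian ⟨W, hW⟩
    letI := X.presheaf.algebra_section_stalk ⟨x, hx⟩
    haveI := hW.isLocalization_stalk ⟨x, hx⟩
    set p : Ideal Γ(X, W) := (hW.primeIdealOf ⟨x, hx⟩).asIdeal with hp
    set Q : Ideal Γ(X, W) := (hW.primeIdealOf ⟨x₀, hx₀⟩).asIdeal with hQ
    have hQp : Q ≤ p := primeIdealOf_le_of_specializes hW x x₀ hx hx₀ hsp
    have hQht : Q.height = 1 := by
      have := height_primeIdealOf hW x₀ hx₀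
      rw [hco₀] at this
      exact_mod_cast this
    have hQ0 : Q ≠ ⊥ := by
      intro h
      rw [h, Ideal.height_bot] at hQht
      exact zero_ne_one hQht
    have hQdisj : Disjoint (p.primeCompl : Set Γ(X, W)) (Q : Set Γ(X, W)) := by
      rw [Set.disjoint_left]
      intro c hc hcQ
      exact hc (hQp hcQ)
    set QR : Ideal (X.presheaf.stalk x) := Q.map (algebraMap Γ(X, W) (X.presheaf.stalk x)) with hQR
    haveI hQRprime : QR.IsPrime :=
      IsLocalization.isPrime_of_isPrime_disjoint p.primeCompl _ Q inferInstance hQdisj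
    have hcomap : QR.comap (algebraMap Γ(X, W) (X.presheaf.stalk x)) = Q :=
      IsLocalization.under_map_of_isPrime_disjoint p.primeCompl _ inferInstance hQdisj
    have hinjR : Function.Injective (algebraMap Γ(X, W) (X.presheaf.stalk x)) :=
      IsLocalization.injective _ p.primeCompl_le_nonZeroDivisors
    have hQR0 : QR ≠ ⊥ := by
      intro h
      apply hQ0
      rw [← hcomap, h, eq_bot_iff]
      intro c hc
      rw [Ideal.mem_comap, Ideal.mem_bot] at hc
      exact hinjR (by rw [hc, map_zero])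
    haveI := hufd x
    obtain ⟨π, hπQR, hπ⟩ := hQRprime.exists_mem_prime_of_ne_bot hQR0
    obtain ⟨b, s, rfl⟩ := IsLocalization.exists_mk'_eq p.primeCompl π
    have hb_mem : algebraMap Γ(X, W) (X.presheaf.stalk x) b ∈ QR :=
      IsLocalization.mk'_mem_iff.mp hπQR
    have hbQ : b ∈ Q := by rw [← hcomap]; exact hb_mem
    have hb_prime : Prime (algebraMap Γ(X, W) (X.presheaf.stalk x) b) := by
      rw [← IsLocalization.mk'_spec (X.presheaf.stalk x) b s]
      exact (associated_mul_unit_right _ _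
        (IsLocalization.map_units (X.presheaf.stalk x) s)).prime hπ
    have hspanb : Ideal.span {algebraMap Γ(X, W) (X.presheaf.stalk x) b} = QR := by
      haveI hI : (Ideal.span {algebraMap Γ(X, W) (X.presheaf.stalk x) b}).IsPrime :=
        (Ideal.span_singleton_prime hb_prime.ne_zero).mpr hb_prime
      set Q' : Ideal Γ(X, W) := (Ideal.span {algebraMap Γ(X, W) (X.presheaf.stalk x) b}).comap
        (algebraMap Γ(X, W) (X.presheaf.stalk x)) with hQ'
      haveI : Q'.IsPrime := Ideal.comap_isPrime _ _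
      have hQ'Q : Q' ≤ Q := by
        rw [← hcomap]
        exact Ideal.comap_mono ((Ideal.span_singleton_le_iff_mem _).mpr hb_mem)
      have hQ'0 : Q'.height ≠ 0 := by
        rw [ne_eq, Ideal.height_eq_zero_iff_eq_bot]
        intro h
        have hbQ' : b ∈ Q' := Ideal.mem_span_singleton_self _
        rw [h, Ideal.mem_bot] at hbQ'
        exact hb_prime.ne_zero (by rw [hbQ', map_zero])
      have hQ'eq : Q' = Q := by
        by_contra hne
        have hlt : Q' < Q := lt_of_le_of_ne hQ'Q hne
        have h1 := Ideal.height_strict_mono_of_isPrime_of_isPrime hlt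
        rw [hQht] at h1
        exact hQ'0 (Order.lt_one_iff.mp h1)
      rw [← IsLocalization.map_under p.primeCompl (X.presheaf.stalk x)
        (Ideal.span {algebraMap Γ(X, W) (X.presheaf.stalk x) b})]
      change Ideal.map _ Q' = QR
      rw [hQ'eq]
    have hloc : ∀ c ∈ Q, ∃ r s, s ∉ p ∧ c * s = b * r := by
      intro c hc
      have h1 : algebraMap Γ(X, W) (X.presheaf.stalk x) c ∈
          Ideal.span {algebraMap Γ(X, W) (X.presheaf.stalk x) b} := by
        rw [hspanb]; exact Ideal.mem_map_of_mem _ hc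
      obtain ⟨z, hz⟩ := Ideal.mem_span_singleton'.mp h1
      obtain ⟨r, s', rfl⟩ := IsLocalization.exists_mk'_eq p.primeCompl z
      refine ⟨r, s', s'.2, hinjR ?_⟩
      rw [map_mul, map_mul, ← hz, mul_comm (IsLocalization.mk' _ r s'), mul_assoc,
        IsLocalization.mk'_spec]
    obtain ⟨t, htp, ht⟩ := exists_common_denominator Q p b hloc
    have hb0 : b ≠ 0 := fun h => hb_prime.ne_zero (by rw [h, map_zero])
    have hinjB : Function.Injective (algebraMap Γ(X, W) X.functionField) :=
      X.germToFunctionField_injective W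
    have hιb : algebraMap Γ(X, W) X.functionField b ≠ 0 := fun h0 =>
      hb0 (hinjB (by rw [h0, map_zero]))
    refine ⟨X.basicOpen t, Units.mk0 _ hιb, ?_, ?_⟩
    · rw [X.mem_basicOpen t x hx]
      by_contra hnu
      exact htp ((mem_primeIdealOf_iff hW x hx t).mpr ((IsLocalRing.mem_maximalIdeal _).mpr hnu))
    · intro y hy
      have hyW : y ∈ W := X.basicOpen_le t hy
      have hty : IsUnit (X.presheaf.germ W y hyW t) := (X.mem_basicOpen t y hyW).mp hy
      refine ⟨X.presheaf.germ W y hyW b, ?_, ?_⟩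
      · rw [Units.val_mk0]
        exact Scheme.algebraMap_germ_eq_germToFunctionField X hyW b
      · rw [Pgen_eq_map hW x₀ hx₀ y hyW]
        apply le_antisymm
        · rw [Ideal.span_singleton_le_iff_mem]
          exact Ideal.mem_map_of_mem _ hbQ
        · rw [Ideal.map_le_iff_le_comap]
          intro c hc
          rw [Ideal.mem_comap, Ideal.mem_span_singleton']
          obtain ⟨r, hr⟩ := ht c hc
          refine ⟨X.presheaf.germ W y hyW r * ((hty.unit⁻¹ : (X.presheaf.stalk y)ˣ) :
            X.presheaf.stalk y), ?_⟩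
          have h1 : (X.presheaf.germ W y hyW).hom c * (X.presheaf.germ W y hyW).hom t =
              (X.presheaf.germ W y hyW).hom b * (X.presheaf.germ W y hyW).hom r := by
            rw [← map_mul, ← map_mul, hr]
          have h2 : (X.presheaf.germ W y hyW).hom t *
              ((hty.unit⁻¹ : (X.presheaf.stalk y)ˣ) : X.presheaf.stalk y) = 1 := by
            have := hty.unit.mul_inv
            rwa [IsUnit.unit_spec] at this
          calc X.presheaf.germ W y hyW r * ((hty.unit⁻¹ : (X.presheaf.stalk y)ˣ) :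
                X.presheaf.stalk y) * (X.presheaf.germ W y hyW).hom b
              = ((X.presheaf.germ W y hyW).hom b * (X.presheaf.germ W y hyW).hom r) *
                ((hty.unit⁻¹ : (X.presheaf.stalk y)ˣ) : X.presheaf.stalk y) := by ring
            _ = (X.presheaf.germ W y hyW).hom c * ((X.presheaf.germ W y hyW).hom t *
                ((hty.unit⁻¹ : (X.presheaf.stalk y)ˣ) : X.presheaf.stalk y)) := by
              rw [← h1]; ring
            _ = (X.presheaf.germ W y hyW).hom c := by rw [h2, mul_one]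
  · refine ⟨⟨(closure {x₀})ᶜ, isClosed_closure.isOpen_compl⟩, 1, ?_, ?_⟩
    · exact fun h => hsp (specializes_iff_mem_closure.mpr h)
    · intro y hy
      have hsp' : ¬ x₀ ⤳ y := fun h => hy (specializes_iff_mem_closure.mp h)
      refine ⟨1, by simp, ?_⟩
      rw [Pgen_eq_top hsp', Ideal.span_singleton_one]

/-- (⇒) of S2877: on a normal locally factorial scheme every prime cycle of codimension one is the
cycle of a divisor. -/
theorem exists_divisor [IsLocallyNoetherian X] (hX : Pi1.IsNormalScheme X)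
    (hufd : ∀ x : X, UniqueFactorizationMonoid (X.presheaf.stalk x))
    (x₀ : X) (hco₀ : Order.coheight x₀ = 1) :
    ∃ D : CDiv.Divisor X,
      (∀ f : CDiv.KUnits X, D.1 x₀ = CDiv.germOf X x₀ f →
        Scheme.ord (f : X.functionField) x₀ = 1) ∧
      ∀ x : X, x ≠ x₀ → Order.coheight x = 1 → ∀ f : CDiv.KUnits X,
        D.1 x = CDiv.germOf X x f → Scheme.ord (f : X.functionField) x = 0 := by
  choose V F hxV hGen using exists_open_gen hufd x₀ hco₀
  let D : CDiv.Divisor X := ⟨fun x => CDiv.germOf X x (F x), fun x => ⟨V x, F x, hxV x,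
    fun y hy => (hGen y y (hxV y)).germOf_eq (hGen x y hy)⟩⟩
  have hsplit : ∀ (x : X) (f : CDiv.KUnits X), (f : X.functionField) =
      (F x : X.functionField) * (((F x)⁻¹ * f : CDiv.KUnits X) : X.functionField) := by
    intro x f
    rw [← Units.val_mul, mul_inv_cancel_left]
  refine ⟨D, ?_, ?_⟩
  · intro f hf
    have hu : (F x₀)⁻¹ * f ∈ CDiv.stalkUnits X x₀ := QuotientGroup.eq.mp hf
    rw [hsplit x₀ f, Scheme.ord_mul (Units.ne_zero _) (Units.ne_zero _),
      ord_eq_zero_of_mem_stalkUnits _ _ hu, add_zero]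
    obtain ⟨r, hr, hrP⟩ := hGen x₀ x₀ (hxV x₀)
    rw [Pgen_self] at hrP
    haveI := isDiscreteValuationRing_stalk hX x₀ hco₀
    have hirr : Irreducible r :=
      (IsDiscreteValuationRing.irreducible_iff_uniformizer r).mpr hrP.symm
    have hne : algebraMap (X.presheaf.stalk x₀) X.functionField r ≠ 0 := by
      rw [hr]; exact Units.ne_zero _
    rw [← hr, Scheme.ord_eq_iff hco₀ hne]
    have := Ring.ordFrac_irreducible (R := X.presheaf.stalk x₀) (K := X.functionField) hirr
    simp only [Scheme.ordHom, this]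
    rfl
  · intro x hne hco f hf
    have hsp : ¬ x₀ ⤳ x := by
      intro h
      have hlt : x < x₀ := by
        refine lt_of_le_not_ge h ?_
        intro h'
        exact hne (h.antisymm h').symm.eq
      have := Order.coheight_strictAnti hlt (by rw [hco₀]; exact ENat.one_lt_top)
      rw [hco₀, hco] at this
      exact lt_irrefl _ this
    have h1 : F x ∈ CDiv.stalkUnits X x :=
      (hGen x x (hxV x)).mem_stalkUnits_of_not_specializes hsp
    have hu : (F x)⁻¹ * f ∈ CDiv.stalkUnits X x := QuotientGroup.eq.mp hf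
    have h2 : f ∈ CDiv.stalkUnits X x := by
      have := mul_mem h1 hu
      rwa [mul_inv_cancel_left] at this
    exact ord_eq_zero_of_mem_stalkUnits x f h2

/-- S2877. -/
theorem isLocallyFactorial_iff [IsLocallyNoetherian X] (hX : Pi1.IsNormalScheme X) :
    (∀ x : X, UniqueFactorizationMonoid (X.presheaf.stalk x)) ↔
      ∀ x₀ : X, Order.coheight x₀ = 1 → ∃ D : CDiv.Divisor X,
        (∀ f : CDiv.KUnits X, D.1 x₀ = CDiv.germOf X x₀ f →
          Scheme.ord (f : X.functionField) x₀ = 1) ∧
          ∀ x : X, x ≠ x₀ → Order.coheight x = 1 → ∀ f : CDiv.KUnits X,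
            D.1 x = CDiv.germOf X x f → Scheme.ord (f : X.functionField) x = 0 := by
  constructor
  · intro hufd x₀ hco₀
    exact exists_divisor hX hufd x₀ hco₀
  · intro hdiv x
    rw [UniqueFactorizationMonoid.iff_exists_prime_mem_of_isPrime]
    intro P hP0 hP
    exact exists_prime_mem hX hdiv x P hP0

end Groth.Agent.Lib.Helper20.CDivOrd3
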