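import Mathlib
import Groth.Agent.Lib.Helper20CDivOrd3

set_option autoImplicit false
set_option linter.style.haveILetI false
set_option linter.unusedSectionVars false
universe u
open CategoryTheory CategoryTheory.Limits AlgebraicGeometry TopologicalSpace Opposite

namespace Groth.Agent.Lib.Helper20.Div21Lib

open Groth.Agent.Lib.Helper20.CDivOrd2 Groth.Agent.Lib.Helper20.CDivOrd3

variable {X : Scheme.{u}} [IsLocallyNoetherian X]

/-- condition (a'') of EGA IV 21.7.2 (S5090). -/
def HypA (X : Scheme.{u}) : Prop :=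
  ∀ ζ : X, ringKrullDim (X.presheaf.stalk ζ) = 1 → ∀ (x : X) (h : ζ ⤳ x),
    ∃ t : X.presheaf.stalk x, t ∈ nonZeroDivisors (X.presheaf.stalk x) ∧
      (IsLocalRing.maximalIdeal (X.presheaf.stalk ζ)).comap (X.presheaf.stalkSpecializes h).hom =
        Ideal.span {t}

theorem coheight_lt_top (x : X) : Order.coheight x < ⊤ := by
  have h1 := ringKrullDim_stalk_eq_coheight x
  have h2 : ringKrullDim (X.presheaf.stalk x) < ⊤ := ringKrullDim_lt_top
  rw [h1] at h2
  by_contra hne
  rw [not_lt, top_le_iff] at hne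
  rw [hne] at h2
  exact lt_irrefl _ h2

/-- a point of positive codimension has a generalization of codimension one. -/
theorem exists_specializes_coheight_eq_one (x : X) (hx : 1 ≤ Order.coheight x) :
    ∃ y : X, y ⤳ x ∧ Order.coheight y = 1 := by
  rcases eq_or_lt_of_le hx with h | h
  · exact ⟨x, specializes_rfl, h.symm⟩
  · have h' : ((1 : ℕ) : ℕ∞) < Order.coheight x := by exact_mod_cast h
    obtain ⟨y, hy, hco⟩ := (Order.coe_lt_coheight_iff (coheight_lt_top x)).mp h'
    exact ⟨y, hy.le, by exact_mod_cast hco⟩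

/-- under (a''), the local rings of positive dimension are domains. -/
theorem isDomain_of_one_le_coheight (hA : HypA X) (x : X) (hx : 1 ≤ Order.coheight x) :
    IsDomain (X.presheaf.stalk x) := by
  obtain ⟨y, hyx, hco⟩ := exists_specializes_coheight_eq_one x hx
  have hdim : ringKrullDim (X.presheaf.stalk y) = 1 := by
    rw [ringKrullDim_stalk_eq_coheight, hco]; rfl
  obtain ⟨t, ht, hP⟩ := hA y hdim x hyx
  set P : Ideal (X.presheaf.stalk x) :=
    (IsLocalRing.maximalIdeal (X.presheaf.stalk y)).comap (X.presheaf.stalkSpecializes hyx).hom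
    with hPdef
  haveI hPprime : P.IsPrime := Ideal.comap_isPrime _ _
  obtain ⟨q, hqmin, hqP⟩ := Ideal.exists_minimalPrimes_le (bot_le : (⊥ : Ideal _) ≤ P)
  haveI hqprime : q.IsPrime := hqmin.1.1
  have htq : t ∉ q := fun h =>
    Set.disjoint_left.mp (Ideal.disjoint_nonZeroDivisors_of_mem_minimalPrimes hqmin) h ht
  have hle : q ≤ P • q := by
    intro a ha
    have haP : a ∈ P := hqP ha
    rw [hP] at haP
    obtain ⟨c, rfl⟩ := Ideal.mem_span_singleton'.mp haP
    have hc : c ∈ q := (hqprime.mem_or_mem ha).resolve_right htq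
    rw [mul_comm, ← smul_eq_mul]
    apply Submodule.smul_mem_smul _ hc
    rw [hP]
    exact Ideal.mem_span_singleton_self t
  have hqbot : q = ⊥ := by
    apply Submodule.eq_bot_of_le_smul_of_le_jacobson_bot P q
      ((isNoetherianRing_iff_ideal_fg _).mp inferInstance q) hle
    exact (IsLocalRing.le_maximalIdeal hPprime.ne_top).trans
      (IsLocalRing.maximalIdeal_le_jacobson ⊥)
  rw [hqbot] at hqprime
  exact IsDomain.of_bot_isPrime _

/-- in a Noetherian ring, a prime which is both minimal and maximal is an isolated point of the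
spectrum. -/
theorem isOpen_singleton_of_minimal_maximal {B : Type*} [CommRing B] [IsNoetherianRing B]
    (p : PrimeSpectrum B) (hmin : p.asIdeal ∈ minimalPrimes B) (hmax : p.asIdeal.IsMaximal) :
    IsOpen ({p} : Set (PrimeSpectrum B)) := by
  classical
  have hfin : ((minimalPrimes B) \ {p.asIdeal}).Finite :=
    (minimalPrimes.finite_of_isNoetherianRing B).subset Set.sdiff_subset
  have hclosed : IsClosed (⋃ q ∈ (minimalPrimes B) \ {p.asIdeal},
      PrimeSpectrum.zeroLocus (q : Set B)) :=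
    hfin.isClosed_biUnion (fun q _ => PrimeSpectrum.isClosed_zeroLocus _)
  have heq : ({p} : Set (PrimeSpectrum B)) = (⋃ q ∈ (minimalPrimes B) \ {p.asIdeal},
      PrimeSpectrum.zeroLocus (q : Set B))ᶜ := by
    ext r
    simp only [Set.mem_singleton_iff, Set.mem_compl_iff, Set.mem_iUnion, exists_prop, not_exists,
      not_and, PrimeSpectrum.mem_zeroLocus, SetLike.coe_subset_coe]
    constructor
    · rintro rfl q ⟨hq, hqp⟩ hqr
      apply hqp
      rw [Set.mem_singleton_iff]
      exact le_antisymm hqr (hmin.2 ⟨hq.1.1, bot_le⟩ hqr)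
    · intro h
      obtain ⟨q, hq, hqr⟩ := Ideal.exists_minimalPrimes_le (bot_le : (⊥ : Ideal B) ≤ r.asIdeal)
      have hqp : q = p.asIdeal := by
        by_contra hne
        exact h q ⟨hq, hne⟩ hqr
      rw [hqp] at hqr
      exact (PrimeSpectrum.ext (hmax.eq_of_le r.2.ne_top hqr)).symm
  rw [heq]
  exact hclosed.isOpen_compl

theorem height_primeIdealOf' {W : X.Opens} (hW : IsAffineOpen W) (x : X) (hx : x ∈ W) :
    ((hW.primeIdealOf ⟨x, hx⟩).asIdeal.height : WithBot ℕ∞) = Order.coheight x := by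
  letI := X.presheaf.algebra_section_stalk ⟨x, hx⟩
  haveI := hW.isLocalization_stalk ⟨x, hx⟩
  rw [← ringKrullDim_stalk_eq_coheight x,
    IsLocalization.AtPrime.ringKrullDim_eq_height (hW.primeIdealOf ⟨x, hx⟩).asIdeal
      (X.presheaf.stalk x)]

/-- under (a'') and reducedness at isolated points, local rings of dimension zero are fields. -/
theorem isField_of_coheight_eq_zero (hA : HypA X)
    (hred : ∀ x : X, IsOpen ({x} : Set X) → IsReduced (X.presheaf.stalk x))
    (x : X) (hx : Order.coheight x = 0) : IsField (X.presheaf.stalk x) := by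
  obtain ⟨_, ⟨W, hW, rfl⟩, hxW, -⟩ :=
    X.isBasis_affineOpens.exists_subset_of_mem_open (Set.mem_univ x) isOpen_univ
  have hW : IsAffineOpen W := hW
  haveI : IsNoetherianRing Γ(X, W) := IsLocallyNoetherian.component_noetherian ⟨W, hW⟩
  letI := X.presheaf.algebra_section_stalk ⟨x, hxW⟩
  haveI := hW.isLocalization_stalk ⟨x, hxW⟩
  set p : Ideal Γ(X, W) := (hW.primeIdealOf ⟨x, hxW⟩).asIdeal with hp
  have hpht : p.height = 0 := by
    have := height_primeIdealOf' hW x hxW
    rw [hx] at this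
    exact_mod_cast this
  have hpmin : p ∈ minimalPrimes Γ(X, W) := Ideal.height_eq_zero_iff.mp hpht
  by_cases hmax : p.IsMaximal
  · -- isolated point
    have hopen : IsOpen ({x} : Set X) := by
      have h1 : IsOpen ({hW.primeIdealOf ⟨x, hxW⟩} : Set ↥(Spec Γ(X, W))) :=
        isOpen_singleton_of_minimal_maximal (B := Γ(X, W)) (hW.primeIdealOf ⟨x, hxW⟩) hpmin hmax
      have h2 := hW.fromSpec.isOpenEmbedding.isOpenMap _ h1
      convert h2 using 1
      ext y
      constructor
      · intro hy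
        rw [Set.mem_singleton_iff] at hy
        subst hy
        exact ⟨_, rfl, hW.fromSpec_primeIdealOf ⟨y, hxW⟩⟩
      · rintro ⟨q, hq, rfl⟩
        have hq' : q = hW.primeIdealOf ⟨x, hxW⟩ := hq
        rw [hq']
        exact hW.fromSpec_primeIdealOf ⟨x, hxW⟩
    haveI := hred x hopen
    haveI : Ring.KrullDimLE 0 (X.presheaf.stalk x) := by
      rw [Ring.krullDimLE_iff, ringKrullDim_stalk_eq_coheight, hx]
      rfl
    exact Ring.KrullDimLE.isField_of_isReduced
  · -- a proper specialization `z`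
    obtain ⟨m, hm, hpm⟩ := Ideal.exists_le_maximal p (Ideal.IsPrime.ne_top inferInstance)
    have hpm' : p < m := lt_of_le_of_ne hpm (fun h => hmax (h ▸ hm))
    haveI hmprime : m.IsPrime := hm.isPrime
    obtain ⟨z, hz⟩ : ∃ z : X, z = hW.fromSpec ⟨m, hmprime⟩ := ⟨_, rfl⟩
    have hzW : z ∈ W := hz ▸ fromSpec_mem hW _
    have hmeq : (hW.primeIdealOf ⟨z, hzW⟩).asIdeal = m := by
      subst hz
      rw [primeIdealOf_fromSpec]
    have hcoz : 1 ≤ Order.coheight z := by
      have h1 := height_primeIdealOf' hW z hzW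
      rw [hmeq] at h1
      have h2 : m.height ≠ 0 := by
        intro h0
        have hmmin : m ∈ minimalPrimes Γ(X, W) := Ideal.height_eq_zero_iff.mp h0
        exact hpm'.not_ge (hmmin.2 ⟨inferInstance, bot_le⟩ hpm)
      have h3 : Order.coheight z ≠ 0 := by
        intro h0
        rw [h0] at h1
        exact h2 (by exact_mod_cast h1)
      exact Order.one_le_iff_pos.mpr (pos_iff_ne_zero.mpr h3)
    haveI hdom : IsDomain (X.presheaf.stalk z) := isDomain_of_one_le_coheight hA z hcoz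
    letI algz := X.presheaf.algebra_section_stalk ⟨z, hzW⟩
    haveI := hW.isLocalization_stalk ⟨z, hzW⟩
    set m' : Ideal Γ(X, W) := (hW.primeIdealOf ⟨z, hzW⟩).asIdeal with hm'
    have hpm'' : p ≤ m' := hmeq ▸ hpm
    -- the kernel of `B → O_z` is a prime inside `p`, hence equal to `p`
    set 𝔞 : Ideal Γ(X, W) := RingHom.ker (algebraMap Γ(X, W) (X.presheaf.stalk z)) with h𝔞
    haveI h𝔞prime : 𝔞.IsPrime := RingHom.ker_isPrime _
    have hker : ∀ c : Γ(X, W), c ∈ 𝔞 → ∃ s : Γ(X, W), s ∉ m' ∧ s * c = 0 := by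
      intro c hc
      rw [h𝔞, RingHom.mem_ker, IsLocalization.map_eq_zero_iff m'.primeCompl] at hc
      obtain ⟨s, hs⟩ := hc
      exact ⟨s, s.2, hs⟩
    have h𝔞p : 𝔞 ≤ p := by
      intro c hc
      obtain ⟨s, hsm, hsc⟩ := hker c hc
      have : s * c ∈ p := hsc ▸ Ideal.zero_mem _
      exact ((Ideal.IsPrime.mem_or_mem inferInstance this).resolve_left (fun h => hsm (hpm'' h)))
    have hp𝔞 : p ≤ 𝔞 := hpmin.2 ⟨h𝔞prime, bot_le⟩ h𝔞p
    rw [IsLocalRing.isField_iff_maximalIdeal_eq,
      ← IsLocalization.AtPrime.map_eq_maximalIdeal p (X.presheaf.stalk x), eq_bot_iff,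
      Ideal.map_le_iff_le_comap]
    intro c hc
    rw [Ideal.mem_comap, Ideal.mem_bot]
    obtain ⟨s, hsm, hsc⟩ := hker c (hp𝔞 hc)
    have hsu : IsUnit (algebraMap Γ(X, W) (X.presheaf.stalk x) s) :=
      IsLocalization.map_units (X.presheaf.stalk x) (⟨s, fun h => hsm (hpm'' h)⟩ : p.primeCompl)
    have : algebraMap Γ(X, W) (X.presheaf.stalk x) s *
        algebraMap Γ(X, W) (X.presheaf.stalk x) c = 0 := by
      rw [← map_mul, hsc, map_zero]
    exact (hsu.mul_right_eq_zero).mp this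

theorem isDomain_stalk (hA : HypA X)
    (hred : ∀ x : X, IsOpen ({x} : Set X) → IsReduced (X.presheaf.stalk x)) (x : X) :
    IsDomain (X.presheaf.stalk x) := by
  by_cases hx : Order.coheight x = 0
  · exact (isField_of_coheight_eq_zero hA hred x hx).isDomain
  · exact isDomain_of_one_le_coheight hA x (Order.one_le_iff_pos.mpr (pos_iff_ne_zero.mpr hx))

theorem comap_eq_Pgen {ζ x : X} (h : ζ ⤳ x) :
    (IsLocalRing.maximalIdeal (X.presheaf.stalk ζ)).comap (X.presheaf.stalkSpecializes h).hom =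
      Pgen ζ x := by
  rw [Pgen, iInf_pos h]

/-- (a'') ⇒ (c) -/
theorem ufd_of_hypA (hA : HypA X)
    (hred : ∀ x : X, IsOpen ({x} : Set X) → IsReduced (X.presheaf.stalk x)) (x : X) :
    ∃ _ : IsDomain (X.presheaf.stalk x), UniqueFactorizationMonoid (X.presheaf.stalk x) := by
  haveI hdom := isDomain_stalk hA hred x
  refine ⟨hdom, ?_⟩
  rw [UniqueFactorizationMonoid.iff_forall_isPrincipal_of_height_eq_one]
  intro 𝔮 h𝔮 hht
  obtain ⟨_, ⟨W, hW, rfl⟩, hxW, -⟩ :=
    X.isBasis_affineOpens.exists_subset_of_mem_open (Set.mem_univ x) isOpen_univ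
  have hW : IsAffineOpen W := hW
  letI := X.presheaf.algebra_section_stalk ⟨x, hxW⟩
  haveI := hW.isLocalization_stalk ⟨x, hxW⟩
  set p : Ideal Γ(X, W) := (hW.primeIdealOf ⟨x, hxW⟩).asIdeal with hp
  set Q : Ideal Γ(X, W) := 𝔮.under Γ(X, W) with hQ
  haveI hQprime : Q.IsPrime := Ideal.comap_isPrime _ _
  have hQht : Q.height = 1 := by
    rw [hQ, IsLocalization.height_under p.primeCompl, hht]
  have hQp : Q ≤ p := by
    intro c hc
    by_contra hcp
    exact h𝔮.ne_top (Ideal.eq_top_of_isUnit_mem _ hc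
      (IsLocalization.map_units (X.presheaf.stalk x) (⟨c, hcp⟩ : p.primeCompl)))
  obtain ⟨ζ, hζ⟩ : ∃ ζ : X, ζ = hW.fromSpec ⟨Q, hQprime⟩ := ⟨_, rfl⟩
  have hζW : ζ ∈ W := hζ ▸ fromSpec_mem hW _
  have hQeq : (hW.primeIdealOf ⟨ζ, hζW⟩).asIdeal = Q := by
    subst hζ
    rw [primeIdealOf_fromSpec]
  have hζx : ζ ⤳ x := hζ ▸ fromSpec_specializes hW x hxW ⟨Q, hQprime⟩ hQp
  have hdimζ : ringKrullDim (X.presheaf.stalk ζ) = 1 := by
    rw [ringKrullDim_stalk_eq_coheight, ← height_primeIdealOf' hW ζ hζW, hQeq, hQht]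
    rfl
  obtain ⟨t, -, ht⟩ := hA ζ hdimζ x hζx
  rw [comap_eq_Pgen, Pgen_eq_map hW ζ hζW x hxW, hQeq] at ht
  have hmap : Ideal.map (algebraMap Γ(X, W) (X.presheaf.stalk x)) Q = 𝔮 :=
    IsLocalization.map_under p.primeCompl (X.presheaf.stalk x) 𝔮
  exact ⟨t, hmap.symm.trans ht⟩

/-- (c) ⇒ (a'') -/
theorem hypA_of_ufd
    (hufd : ∀ x : X, ∃ _ : IsDomain (X.presheaf.stalk x),
      UniqueFactorizationMonoid (X.presheaf.stalk x)) : HypA X := by
  intro ζ hdimζ x h
  obtain ⟨hdom, hU⟩ := hufd x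
  obtain ⟨_, ⟨W, hW, rfl⟩, hxW, -⟩ :=
    X.isBasis_affineOpens.exists_subset_of_mem_open (Set.mem_univ x) isOpen_univ
  have hW : IsAffineOpen W := hW
  have hζW : ζ ∈ W := h.mem_open W.isOpen hxW
  letI := X.presheaf.algebra_section_stalk ⟨x, hxW⟩
  haveI := hW.isLocalization_stalk ⟨x, hxW⟩
  set p : Ideal Γ(X, W) := (hW.primeIdealOf ⟨x, hxW⟩).asIdeal with hp
  set Q : Ideal Γ(X, W) := (hW.primeIdealOf ⟨ζ, hζW⟩).asIdeal with hQ
  have hQp : Q ≤ p := primeIdealOf_le_of_specializes hW x ζ hxW hζW h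
  have hQht : Q.height = 1 := by
    have h1 := height_primeIdealOf' hW ζ hζW
    rw [← ringKrullDim_stalk_eq_coheight, hdimζ] at h1
    exact_mod_cast h1
  have hQdisj : Disjoint (p.primeCompl : Set Γ(X, W)) (Q : Set Γ(X, W)) := by
    rw [Set.disjoint_left]
    intro c hc hcQ
    exact hc (hQp hcQ)
  rw [comap_eq_Pgen, Pgen_eq_map hW ζ hζW x hxW]
  change ∃ t, t ∈ nonZeroDivisors _ ∧
    Ideal.map (algebraMap Γ(X, W) (X.presheaf.stalk x)) Q = Ideal.span {t}
  set P : Ideal (X.presheaf.stalk x) := Ideal.map (algebraMap Γ(X, W) (X.presheaf.stalk x)) Q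
    with hP
  haveI hPprime : P.IsPrime :=
    IsLocalization.isPrime_of_isPrime_disjoint p.primeCompl _ Q inferInstance hQdisj
  have hPht : P.height = 1 := by
    rw [← IsLocalization.height_under p.primeCompl,
      IsLocalization.under_map_of_isPrime_disjoint p.primeCompl _ inferInstance hQdisj, hQht]
  obtain ⟨t, ht⟩ := UniqueFactorizationMonoid.isPrincipal_of_height_eq_one hPht
  have ht' : P = Ideal.span {t} := ht
  refine ⟨t, ?_, ht'⟩
  apply mem_nonZeroDivisors_of_ne_zero
  intro h0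
  rw [h0, Ideal.span_singleton_eq_bot.mpr rfl] at ht'
  rw [ht', Ideal.height_bot] at hPht
  exact zero_ne_one hPht

/-- S5090. -/
theorem hypA_iff (hred : ∀ x : X, IsOpen ({x} : Set X) → IsReduced (X.presheaf.stalk x)) :
    HypA X ↔ ∀ x : X, ∃ _ : IsDomain (X.presheaf.stalk x),
      UniqueFactorizationMonoid (X.presheaf.stalk x) :=
  ⟨fun hA x => ufd_of_hypA hA hred x, hypA_of_ufd⟩

end Groth.Agent.Lib.Helper20.Div21Lib
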