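import Mathlib
import Groth.Prelude.Def_BlowUp2
import Groth.Agent.Lib.Helper20Div21

set_option linter.unusedSectionVars false
set_option linter.style.haveILetI false
set_option autoImplicit false
universe u
open CategoryTheory CategoryTheory.Limits AlgebraicGeometry TopologicalSpace Opposite

namespace Groth.Agent.Lib.Helper20.EffCartUFD

/-- uniform denominators over a finitely generated ideal. -/
theorem exists_uniform_of_fg {B : Type*} [CommRing B] (p : Ideal B) [hp : p.IsPrime] (J K : Ideal B)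
    (hJ : J.FG) (h : ∀ x ∈ J, ∃ u, u ∉ p ∧ u * x ∈ K) : ∃ s, s ∉ p ∧ ∀ x ∈ J, s * x ∈ K := by
  classical
  obtain ⟨T, rfl⟩ := hJ
  have key : ∀ T' : Finset B, (∀ x ∈ T', ∃ u, u ∉ p ∧ u * x ∈ K) →
      ∃ s, s ∉ p ∧ ∀ x ∈ T', s * x ∈ K := by
    intro T'
    induction T' using Finset.induction_on with
    | empty => intro _; exact ⟨1, (Ideal.ne_top_iff_one p).mp hp.ne_top, by simp⟩
    | insert a T' ha ih =>
      intro h
      obtain ⟨s, hs, hsT⟩ := ih (fun x hx => h x (Finset.mem_insert_of_mem hx))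
      obtain ⟨u, hu, hua⟩ := h a (Finset.mem_insert_self a T')
      refine ⟨u * s, fun hmem => (hp.mem_or_mem hmem).elim hu hs, ?_⟩
      intro x hx
      rcases Finset.mem_insert.mp hx with rfl | hx
      · have : u * s * x = s * (u * x) := by ring
        rw [this]; exact K.mul_mem_left _ hua
      · have : u * s * x = u * (s * x) := by ring
        rw [this]; exact K.mul_mem_left _ (hsT x hx)
  obtain ⟨s, hs, hsT⟩ := key T (fun x hx => h x (Ideal.subset_span hx))
  refine ⟨s, hs, fun x hx => ?_⟩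
  induction hx using Submodule.span_induction with
  | mem x hx => exact hsT x hx
  | zero => simp
  | add x y _ _ hx hy => rw [mul_add]; exact K.add_mem hx hy
  | smul a x _ hx => rw [smul_eq_mul, mul_left_comm]; exact K.mul_mem_left _ hx

/-- spreading out a principal generator from the localization at a prime. -/
theorem exists_spread {B A : Type*} [CommRing B] [IsNoetherianRing B] [CommRing A] [Algebra B A]
    (p : Ideal B) [hp : p.IsPrime] [IsLocalization.AtPrime A p] (I : Ideal B) (t : A)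
    (ht : t ∈ nonZeroDivisors A) (hI : I.map (algebraMap B A) = Ideal.span {t}) :
    ∃ s, s ∉ p ∧ ∃ b ∈ I, (∀ x ∈ I, ∃ c, s * x = c * b) ∧ (∀ z, z * b = 0 → s * z = 0) := by
  have htI : t ∈ I.map (algebraMap B A) := hI ▸ Ideal.mem_span_singleton_self t
  obtain ⟨⟨⟨b, hb⟩, ⟨s₀, hs₀⟩⟩, hbt⟩ := (IsLocalization.mem_map_algebraMap_iff p.primeCompl A).mp htI
  simp only at hbt
  have hs₀u : IsUnit (algebraMap B A s₀) := IsLocalization.map_units A (⟨s₀, hs₀⟩ : p.primeCompl)
  have hbnzd : algebraMap B A b ∈ nonZeroDivisors A := by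
    rw [← hbt]
    exact mul_mem ht hs₀u.mem_nonZeroDivisors
  -- step 1
  have h1 : ∀ x ∈ I, ∃ u, u ∉ p ∧ u * x ∈ Ideal.span {b} := by
    intro x hx
    have hxA : algebraMap B A x ∈ Ideal.span {t} := hI ▸ Ideal.mem_map_of_mem _ hx
    obtain ⟨a, ha⟩ := Ideal.mem_span_singleton'.mp hxA
    obtain ⟨c, ⟨v, hv⟩, hcv⟩ := IsLocalization.exists_mk'_eq p.primeCompl a
    have h2 : algebraMap B A (v * s₀ * x) = algebraMap B A (c * b) := by
      rw [map_mul, map_mul, map_mul, ← ha, ← hbt, ← hcv]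
      have := IsLocalization.mk'_spec A c (⟨v, hv⟩ : p.primeCompl)
      simp only at this
      rw [← this]
      ring
    obtain ⟨⟨w, hw⟩, hw2⟩ := (IsLocalization.eq_iff_exists p.primeCompl A).mp h2
    simp only at hw2
    refine ⟨w * (v * s₀), fun hmem => ?_, ?_⟩
    · rcases hp.mem_or_mem hmem with h | h
      · exact hw h
      · rcases hp.mem_or_mem h with h | h
        · exact hv h
        · exact hs₀ h
    · rw [Ideal.mem_span_singleton']
      exact ⟨w * c, by rw [mul_assoc, ← hw2]; ring⟩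
  obtain ⟨s₁, hs₁, hs₁I⟩ := exists_uniform_of_fg p I (Ideal.span {b}) (IsNoetherian.noetherian I) h1
  -- step 2
  let N : Ideal B := LinearMap.ker (LinearMap.mulLeft B b)
  have h3 : ∀ z ∈ N, ∃ u, u ∉ p ∧ u * z ∈ (⊥ : Ideal B) := by
    intro z hz
    have hz' : b * z = 0 := hz
    have : algebraMap B A z * algebraMap B A b = 0 := by
      rw [← map_mul, mul_comm, hz', map_zero]
    have hz0 : algebraMap B A z = 0 := hbnzd.2 _ this
    obtain ⟨⟨u, hu⟩, hu2⟩ := (IsLocalization.map_eq_zero_iff p.primeCompl A z).mp hz0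
    exact ⟨u, hu, by simpa using hu2⟩
  obtain ⟨s₂, hs₂, hs₂N⟩ := exists_uniform_of_fg p N ⊥ (IsNoetherian.noetherian N) h3
  refine ⟨s₁ * s₂, fun hmem => (hp.mem_or_mem hmem).elim hs₁ hs₂, b, hb, ?_, ?_⟩
  · intro x hx
    obtain ⟨c, hc⟩ := Ideal.mem_span_singleton'.mp (hs₁I x hx)
    exact ⟨s₂ * c, by rw [mul_assoc s₂ c b, hc]; ring⟩
  · intro z hz
    have hzN : z ∈ N := by
      change b * z = 0
      rw [mul_comm]; exact hz
    have := hs₂N z hzN
    rw [Ideal.mem_bot] at this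
    rw [mul_assoc, this, mul_zero]


/-- the pre-localized principal data give a principal ideal generated by a nonzerodivisor in `B_s`. -/
theorem away_principal {B Bs : Type*} [CommRing B] [CommRing Bs] [Algebra B Bs] (s : B)
    [IsLocalization.Away s Bs] (I : Ideal B) (b : B) (hb : b ∈ I)
    (h1 : ∀ x ∈ I, ∃ c, s * x = c * b) (h2 : ∀ z, z * b = 0 → s * z = 0) :
    algebraMap B Bs b ∈ nonZeroDivisors Bs ∧
      I.map (algebraMap B Bs) = Ideal.span {algebraMap B Bs b} := by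
  have hsu : IsUnit (algebraMap B Bs s) := IsLocalization.Away.algebraMap_isUnit s
  constructor
  · rw [mem_nonZeroDivisors_iff_right]
    intro w hw
    obtain ⟨⟨z, ⟨_, n, rfl⟩⟩, hz⟩ := IsLocalization.surj (Submonoid.powers s) w
    simp only at hz
    have h0 : algebraMap B Bs (z * b) = 0 := by
      rw [map_mul, ← hz, mul_right_comm, hw, zero_mul]
    obtain ⟨⟨_, m, rfl⟩, hm⟩ := (IsLocalization.map_eq_zero_iff (Submonoid.powers s) Bs (z * b)).mp h0
    simp only at hm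
    have h3 : s * (s ^ m * z) = 0 := h2 _ (by rw [mul_assoc]; exact hm)
    have h4 : algebraMap B Bs s * (algebraMap B Bs s ^ m * algebraMap B Bs z) = 0 := by
      rw [← map_pow, ← map_mul, ← map_mul, h3, map_zero]
    have h5 : algebraMap B Bs z = 0 := by
      have h6 := (hsu.mul_right_eq_zero).mp h4
      exact ((hsu.pow m).mul_right_eq_zero).mp h6
    rw [h5] at hz
    rw [map_pow] at hz
    exact ((hsu.pow n).mul_left_eq_zero).mp hz
  · apply le_antisymm
    · rw [Ideal.map_le_iff_le_comap]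
      intro x hx
      obtain ⟨c, hc⟩ := h1 x hx
      rw [Ideal.mem_comap]
      have h3 : algebraMap B Bs s * algebraMap B Bs x ∈ Ideal.span {algebraMap B Bs b} := by
        rw [← map_mul, hc, map_mul]
        exact Ideal.mul_mem_left _ _ (Ideal.mem_span_singleton_self _)
      exact (Ideal.unit_mul_mem_iff_mem _ hsu).mp h3
    · rw [Ideal.span_le, Set.singleton_subset_iff]
      exact Ideal.mem_map_of_mem _ hb

open Groth.Agent.Lib.Helper20.CDivOrd2 Groth.Agent.Lib.Helper20.CDivOrd3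
open Groth.Agent.Lib.Helper20.Div21Lib

variable {X : Scheme.{u}}

theorem mem_support_iff_le (𝓘 : X.IdealSheafData) {W : X.Opens} (hW : IsAffineOpen W) (x : X)
    (hxW : x ∈ W) :
    x ∈ 𝓘.support ↔ 𝓘.ideal ⟨W, hW⟩ ≤ (hW.primeIdealOf ⟨x, hxW⟩).asIdeal := by
  rw [Scheme.IdealSheafData.mem_support_iff_of_mem (U := ⟨W, hW⟩) hxW, Scheme.mem_zeroLocus_iff]
  constructor
  · intro h f hf
    have h1 := h f hf
    rw [mem_primeIdealOf_iff]
    rw [Scheme.mem_basicOpen _ _ _ hxW] at h1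
    exact (IsLocalRing.mem_maximalIdeal _).mpr h1
  · intro h f hf
    have h1 := h hf
    rw [mem_primeIdealOf_iff] at h1
    rw [Scheme.mem_basicOpen _ _ _ hxW]
    exact (IsLocalRing.mem_maximalIdeal _).mp h1

theorem mem_basicOpen_of_not_mem {W : X.Opens} (hW : IsAffineOpen W) (x : X) (hxW : x ∈ W)
    (s : Γ(X, W)) (hs : s ∉ (hW.primeIdealOf ⟨x, hxW⟩).asIdeal) : x ∈ X.basicOpen s := by
  rw [Scheme.mem_basicOpen _ _ _ hxW]
  by_contra hnu
  exact hs ((mem_primeIdealOf_iff hW x hxW s).mpr ((IsLocalRing.mem_maximalIdeal _).mpr hnu))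

variable [IsLocallyNoetherian X]

/-- if the ideal is principal generated by a nonzerodivisor in the stalk at `x`, then it is so on an
affine open neighbourhood of `x`. -/
theorem exists_affine_of_stalk_principal (𝓘 : X.IdealSheafData) (x : X) {W : X.Opens}
    (hW : IsAffineOpen W) (hxW : x ∈ W) (t : X.presheaf.stalk x)
    (ht : t ∈ nonZeroDivisors (X.presheaf.stalk x))
    (hI : (𝓘.ideal ⟨W, hW⟩).map (X.presheaf.germ W x hxW).hom = Ideal.span {t}) :
    ∃ U : X.affineOpens, x ∈ U.1 ∧ ∃ f : Γ(X, U.1), f ∈ nonZeroDivisors Γ(X, U.1) ∧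
      𝓘.ideal U = Ideal.span {f} := by
  haveI : IsNoetherianRing Γ(X, W) := IsLocallyNoetherian.component_noetherian ⟨W, hW⟩
  letI := X.presheaf.algebra_section_stalk ⟨x, hxW⟩
  haveI := hW.isLocalization_stalk ⟨x, hxW⟩
  obtain ⟨s, hs, b, hb, h1, h2⟩ :=
    exists_spread (hW.primeIdealOf ⟨x, hxW⟩).asIdeal (𝓘.ideal ⟨W, hW⟩) t ht hI
  haveI := hW.isLocalization_basicOpen s
  obtain ⟨h3, h4⟩ := away_principal (Bs := Γ(X, X.basicOpen s)) s (𝓘.ideal ⟨W, hW⟩) b hb h1 h2
  refine ⟨X.affineBasicOpen (U := ⟨W, hW⟩) s, mem_basicOpen_of_not_mem hW x hxW s hs,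
    algebraMap Γ(X, W) Γ(X, X.basicOpen s) b, h3, ?_⟩
  rw [← 𝓘.map_ideal_basicOpen ⟨W, hW⟩ s]
  exact h4


/-- a height-one prime contained in the prime of `x` becomes principal in the UFD stalk at `x`. -/
theorem exists_principal_of_height_one {W : X.Opens} (hW : IsAffineOpen W) (x : X) (hxW : x ∈ W)
    [IsDomain (X.presheaf.stalk x)] [UniqueFactorizationMonoid (X.presheaf.stalk x)]
    (Q : Ideal Γ(X, W)) [hQ : Q.IsPrime] (hQht : Q.height = 1)
    (hQp : Q ≤ (hW.primeIdealOf ⟨x, hxW⟩).asIdeal) :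
    ∃ t ∈ nonZeroDivisors (X.presheaf.stalk x),
      Q.map (X.presheaf.germ W x hxW).hom = Ideal.span {t} := by
  letI := X.presheaf.algebra_section_stalk ⟨x, hxW⟩
  haveI := hW.isLocalization_stalk ⟨x, hxW⟩
  set p : Ideal Γ(X, W) := (hW.primeIdealOf ⟨x, hxW⟩).asIdeal with hp
  have hQdisj : Disjoint (p.primeCompl : Set Γ(X, W)) (Q : Set Γ(X, W)) := by
    rw [Set.disjoint_left]
    intro c hc hcQ
    exact hc (hQp hcQ)
  change ∃ t ∈ nonZeroDivisors _,
    Ideal.map (algebraMap Γ(X, W) (X.presheaf.stalk x)) Q = Ideal.span {t}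
  set P : Ideal (X.presheaf.stalk x) := Ideal.map (algebraMap Γ(X, W) (X.presheaf.stalk x)) Q
    with hP
  haveI hPprime : P.IsPrime :=
    IsLocalization.isPrime_of_isPrime_disjoint p.primeCompl _ Q inferInstance hQdisj
  have hPht : P.height = 1 := by
    rw [← IsLocalization.height_under p.primeCompl,
      IsLocalization.under_map_of_isPrime_disjoint p.primeCompl _ inferInstance hQdisj, hQht]
  obtain ⟨t, ht⟩ := UniqueFactorizationMonoid.isPrincipal_of_height_eq_one hPht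
  have ht' : P = Ideal.span {t} := ht
  refine ⟨t, ?_, ht'⟩
  apply mem_nonZeroDivisors_of_ne_zero
  intro h0
  rw [h0, Ideal.span_singleton_eq_bot.mpr rfl] at ht'
  rw [ht', Ideal.height_bot] at hPht
  exact zero_ne_one hPht

/-- for an integral closed subscheme, the ideal on an affine open meeting it is prime. -/
theorem isPrime_ideal_of_isIntegral (𝓘 : X.IdealSheafData) [IsIntegral 𝓘.subscheme]
    {W : X.Opens} (hW : IsAffineOpen W) (x : X) (hxW : x ∈ W) (hx : x ∈ 𝓘.support) :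
    (𝓘.ideal ⟨W, hW⟩).IsPrime := by
  have hx' : x ∈ Set.range 𝓘.subschemeι := by rw [𝓘.range_subschemeι]; exact hx
  obtain ⟨z, hz⟩ := hx'
  have hzW : z ∈ 𝓘.subschemeι ⁻¹ᵁ W := by change 𝓘.subschemeι z ∈ W; rw [hz]; exact hxW
  haveI : IsDomain Γ(𝓘.subscheme, 𝓘.subschemeι ⁻¹ᵁ W) :=
    @IsIntegral.component_integral 𝓘.subscheme _ (𝓘.subschemeι ⁻¹ᵁ W) ⟨⟨z, hzW⟩⟩
  let e := (𝓘.subschemeObjIso ⟨W, hW⟩).commRingCatIsoToRingEquiv
  haveI : IsDomain (Γ(X, W) ⧸ 𝓘.ideal ⟨W, hW⟩) :=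
    MulEquiv.isDomain Γ(𝓘.subscheme, 𝓘.subschemeι ⁻¹ᵁ W) e.symm.toMulEquiv
  exact (Ideal.Quotient.isDomain_iff_prime _).mp inferInstance

/-- the ideal of an integral closed subscheme of codimension one has height one on an affine chart. -/
theorem height_ideal_of_isIntegral (𝓘 : X.IdealSheafData) [IsIntegral 𝓘.subscheme]
    (hcodim : ringKrullDim (X.presheaf.stalk (𝓘.subschemeι (genericPoint ↥𝓘.subscheme))) = 1)
    {W : X.Opens} (hW : IsAffineOpen W) (x : X) (hxW : x ∈ W) (hx : x ∈ 𝓘.support) :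
    (𝓘.ideal ⟨W, hW⟩).height = 1 := by
  haveI hprime := isPrime_ideal_of_isIntegral 𝓘 hW x hxW hx
  have hx' : x ∈ Set.range 𝓘.subschemeι := by rw [𝓘.range_subschemeι]; exact hx
  obtain ⟨z, hz⟩ := hx'
  set η := genericPoint ↥𝓘.subscheme with hη
  have hηW : 𝓘.subschemeι η ∈ W := by
    have h1 : η ∈ 𝓘.subschemeι ⁻¹ᵁ W := by
      refine ((genericPoint_spec ↥𝓘.subscheme).mem_open_set_iff (𝓘.subschemeι ⁻¹ᵁ W).isOpen).mpr ?_
      exact ⟨z, Set.mem_univ _, by change 𝓘.subschemeι z ∈ W; rw [hz]; exact hxW⟩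
    exact h1
  have hηsupp : 𝓘.subschemeι η ∈ 𝓘.support := by
    rw [← SetLike.mem_coe, ← 𝓘.range_subschemeι]; exact Set.mem_range_self _
  have h1 : 𝓘.ideal ⟨W, hW⟩ ≤ (hW.primeIdealOf ⟨𝓘.subschemeι η, hηW⟩).asIdeal :=
    (mem_support_iff_le 𝓘 hW _ hηW).mp hηsupp
  let P : PrimeSpectrum Γ(X, W) := ⟨𝓘.ideal ⟨W, hW⟩, hprime⟩
  have hP : hW.primeIdealOf ⟨hW.fromSpec P, fromSpec_mem hW P⟩ = P := primeIdealOf_fromSpec hW P
  have hPsupp : hW.fromSpec P ∈ 𝓘.support := by
    rw [mem_support_iff_le 𝓘 hW _ (fromSpec_mem hW P), hP]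
  have hP' : hW.fromSpec P ∈ Set.range 𝓘.subschemeι := by rw [𝓘.range_subschemeι]; exact hPsupp
  obtain ⟨z', hz'⟩ := hP'
  have hsp : 𝓘.subschemeι η ⤳ hW.fromSpec P := by
    rw [← hz']
    exact (genericPoint_specializes z').map 𝓘.subschemeι.continuous
  have h2 := primeIdealOf_le_of_specializes hW _ _ (fromSpec_mem hW P) hηW hsp
  rw [hP] at h2
  have heq : (hW.primeIdealOf ⟨𝓘.subschemeι η, hηW⟩).asIdeal = 𝓘.ideal ⟨W, hW⟩ :=
    le_antisymm h2 h1
  have h3 := height_primeIdealOf' hW _ hηW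
  rw [← ringKrullDim_stalk_eq_coheight, hcodim, heq] at h3
  exact_mod_cast h3

/-- S1684. -/
theorem isEffCartier_of_integral_codim_one_ufd (𝓘 : X.IdealSheafData) [IsIntegral 𝓘.subscheme]
    (hcodim : ringKrullDim (X.presheaf.stalk (𝓘.subschemeι (genericPoint ↥𝓘.subscheme))) = 1)
    (hufd : ∀ x : ↥X, x ∈ 𝓘.support →
      IsDomain (X.presheaf.stalk x) ∧ UniqueFactorizationMonoid (X.presheaf.stalk x)) :
    BlowUp.IsEffCartierIdeal 𝓘 := by
  intro x
  obtain ⟨_, ⟨W, hW, rfl⟩, hxW, -⟩ :=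
    X.isBasis_affineOpens.exists_subset_of_mem_open (Set.mem_univ x) isOpen_univ
  have hW : IsAffineOpen W := hW
  by_cases hx : x ∈ 𝓘.support
  · obtain ⟨hdom, hU⟩ := hufd x hx
    haveI := isPrime_ideal_of_isIntegral 𝓘 hW x hxW hx
    obtain ⟨t, ht, hI⟩ := exists_principal_of_height_one hW x hxW (𝓘.ideal ⟨W, hW⟩)
      (height_ideal_of_isIntegral 𝓘 hcodim hW x hxW hx) ((mem_support_iff_le 𝓘 hW x hxW).mp hx)
    exact exists_affine_of_stalk_principal 𝓘 x hW hxW t ht hI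
  · have hnle : ¬ 𝓘.ideal ⟨W, hW⟩ ≤ (hW.primeIdealOf ⟨x, hxW⟩).asIdeal :=
      fun h => hx ((mem_support_iff_le 𝓘 hW x hxW).mpr h)
    obtain ⟨y, hyI, hyp⟩ := SetLike.not_le_iff_exists.mp hnle
    apply exists_affine_of_stalk_principal 𝓘 x hW hxW 1 (one_mem _)
    rw [Ideal.span_singleton_one]
    have hu : IsUnit (X.presheaf.germ W x hxW y) := by
      by_contra hnu
      exact hyp ((mem_primeIdealOf_iff hW x hxW y).mpr ((IsLocalRing.mem_maximalIdeal _).mpr hnu))
    exact Ideal.eq_top_of_isUnit_mem _ (Ideal.mem_map_of_mem _ hyI) hu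

end Groth.Agent.Lib.Helper20.EffCartUFD
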