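import Mathlib
import Groth.Prelude.Def_BlowUp2
import Groth.Agent.Lib.Helper20EffCartUFD

set_option linter.unusedSectionVars false
set_option linter.style.haveILetI false
set_option autoImplicit false
universe u
open CategoryTheory CategoryTheory.Limits AlgebraicGeometry TopologicalSpace Opposite

namespace Groth.Agent.Lib.Helper20.EffCartUFD2

/-- In a Noetherian UFD, an ideal all of whose associated primes have height one is principal
(induction on a nonzero element of the ideal). -/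
theorem exists_principal_aux {A : Type*} [CommRing A] [IsDomain A] [IsNoetherianRing A]
    [UniqueFactorizationMonoid A] (j : A) :
    j ≠ 0 → ∀ J : Ideal A, j ∈ J → (∀ P ∈ associatedPrimes A (A ⧸ J), P.height = 1) →
      ∃ t : A, t ≠ 0 ∧ J = Ideal.span {t} := by
  induction j using (wellFounded_dvdNotUnit (α := A)).induction with
  | _ j ih =>
  intro hj J hjJ hass
  by_cases hJ : J = ⊤
  · exact ⟨1, one_ne_zero, by rw [hJ, Ideal.span_singleton_one]⟩
  · haveI : Nontrivial (A ⧸ J) := Ideal.Quotient.nontrivial_iff.mpr hJ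
    obtain ⟨P, hP⟩ := associatedPrimes.nonempty A (A ⧸ J)
    have hPht := hass P hP
    haveI hPprime : P.IsPrime := hP.isPrime
    obtain ⟨π, hπ⟩ := UniqueFactorizationMonoid.isPrincipal_of_height_eq_one hPht
    have hπ' : P = Ideal.span {π} := hπ
    have hπ0 : π ≠ 0 := by
      rintro rfl
      rw [Ideal.span_singleton_eq_bot.mpr rfl] at hπ'
      rw [hπ', Ideal.height_bot] at hPht
      exact zero_ne_one hPht
    have hπu : ¬ IsUnit π := by
      intro hu
      apply hPprime.ne_top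
      rw [hπ', Ideal.span_singleton_eq_top]
      exact hu
    have hJP : J ≤ P := by
      have hP2 := (isAssociatedPrime_iff (M := A ⧸ J)).mp hP
      obtain ⟨_, m, hm⟩ := hP2
      intro a ha
      rw [hm, Submodule.mem_colon_singleton]
      obtain ⟨m', rfl⟩ := Ideal.Quotient.mk_surjective m
      rw [Submodule.mem_bot, Algebra.smul_def, Ideal.Quotient.algebraMap_eq, ← map_mul,
        Ideal.Quotient.eq_zero_iff_mem]
      exact J.mul_mem_right _ ha
    let J' : Ideal A := Submodule.comap (LinearMap.mulLeft A π) J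
    obtain ⟨j', hj'⟩ : π ∣ j := Ideal.mem_span_singleton.mp (hπ' ▸ hJP hjJ)
    have hj'0 : j' ≠ 0 := by rintro rfl; exact hj (by rw [hj', mul_zero])
    have hdvd : DvdNotUnit j' j := ⟨hj'0, π, hπu, by rw [hj', mul_comm]⟩
    have hass' : ∀ P' ∈ associatedPrimes A (A ⧸ J'), P'.height = 1 := by
      intro P' hP'
      apply hass
      let φ : (A ⧸ J') →ₗ[A] (A ⧸ J) := Submodule.mapQ J' J (LinearMap.mulLeft A π) le_rfl
      have hφ : Function.Injective φ := by
        rw [injective_iff_map_eq_zero]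
        intro m hm
        obtain ⟨a, rfl⟩ := Submodule.Quotient.mk_surjective _ m
        rw [Submodule.mapQ_apply, Submodule.Quotient.mk_eq_zero] at hm
        rw [Submodule.Quotient.mk_eq_zero]
        exact hm
      exact associatedPrimes.subset_of_injective hφ hP'
    have hj'J' : j' ∈ J' := by
      change π * j' ∈ J
      rw [← hj']; exact hjJ
    obtain ⟨t', ht'0, ht'⟩ := ih j' hdvd hj'0 J' hj'J' hass'
    refine ⟨π * t', mul_ne_zero hπ0 ht'0, ?_⟩
    apply le_antisymm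
    · intro a ha
      obtain ⟨a', rfl⟩ : π ∣ a := Ideal.mem_span_singleton.mp (hπ' ▸ hJP ha)
      have h1 : a' ∈ J' := ha
      rw [ht'] at h1
      obtain ⟨c, rfl⟩ := Ideal.mem_span_singleton.mp h1
      exact Ideal.mem_span_singleton.mpr ⟨c, by ring⟩
    · rw [Ideal.span_le, Set.singleton_subset_iff]
      have h1 : t' ∈ J' := ht' ▸ Ideal.mem_span_singleton_self t'
      exact h1

theorem exists_principal_of_ass_height_one {A : Type*} [CommRing A] [IsDomain A] [IsNoetherianRing A]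
    [UniqueFactorizationMonoid A] (J : Ideal A)
    (hass : ∀ P ∈ associatedPrimes A (A ⧸ J), P.height = 1) :
    ∃ t : A, t ≠ 0 ∧ J = Ideal.span {t} := by
  by_cases hJ : J = ⊥
  · exfalso
    have hbot : (⊥ : Ideal A) ∈ associatedPrimes A (A ⧸ J) := by
      rw [AssociatedPrimes.mem_iff, isAssociatedPrime_iff]
      refine ⟨Ideal.isPrime_bot, Ideal.Quotient.mk J 1, ?_⟩
      ext a
      rw [Submodule.mem_colon_singleton]
      have h1 : a • (Ideal.Quotient.mk J 1 : A ⧸ J) = Ideal.Quotient.mk J a := by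
        rw [Algebra.smul_def, Ideal.Quotient.algebraMap_eq, ← map_mul, mul_one]
      rw [h1, Submodule.mem_bot (R := A) (M := A ⧸ J), Ideal.Quotient.eq_zero_iff_mem, hJ]
    have := hass ⊥ hbot
    rw [Ideal.height_bot] at this
    exact zero_ne_one this
  · obtain ⟨j, hjJ, hj0⟩ := Submodule.exists_mem_ne_zero_of_ne_bot hJ
    exact exists_principal_aux j hj0 J hjJ hass


theorem comap_mem_associatedPrimes' {B A : Type*} [CommRing B] [IsNoetherianRing B] [CommRing A]
    [Algebra B A] (S : Submonoid B) [IsLocalization S A] (I : Ideal B) (P : Ideal A)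
    (hP : P ∈ associatedPrimes A (A ⧸ I.map (algebraMap B A))) :
    P.comap (algebraMap B A) ∈ associatedPrimes B (B ⧸ I) := by
  have key : ∀ J' : Ideal A, J' = Submodule.localized' A S (Algebra.linearMap B A) I →
      P ∈ associatedPrimes A (A ⧸ J') → P.comap (algebraMap B A) ∈ associatedPrimes B (B ⧸ I) := by
    rintro _ rfl hP'
    exact Module.associatedPrimes.comap_mem_associatedPrimes_of_mem_associatedPrimes_of_isLocalizedModule_of_fg S
      (I.toLocalizedQuotient' A S (Algebra.linearMap B A)) P hP'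
      ((isNoetherianRing_iff_ideal_fg B).mp inferInstance _)
  exact key _ (Ideal.localized'_eq_map A S I).symm hP

theorem le_of_mem_associatedPrimes_quotient {B : Type*} [CommRing B] [IsNoetherianRing B]
    (I P : Ideal B) (hP : P ∈ associatedPrimes B (B ⧸ I)) : I ≤ P := by
  have hP2 := (isAssociatedPrime_iff (M := B ⧸ I)).mp hP
  obtain ⟨_, m, hm⟩ := hP2
  intro a ha
  rw [hm, Submodule.mem_colon_singleton]
  obtain ⟨m', rfl⟩ := Ideal.Quotient.mk_surjective m
  rw [Submodule.mem_bot, Algebra.smul_def, Ideal.Quotient.algebraMap_eq, ← map_mul,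
    Ideal.Quotient.eq_zero_iff_mem]
  exact I.mul_mem_right _ ha

open Groth.Agent.Lib.Helper20.CDivOrd2 Groth.Agent.Lib.Helper20.CDivOrd3
open Groth.Agent.Lib.Helper20.Div21Lib Groth.Agent.Lib.Helper20.EffCartUFD

variable {X : Scheme.{u}}

/-- a prime of the chart containing the ideal is the prime of a point of the closed subscheme. -/
theorem exists_point_of_le (𝓘 : X.IdealSheafData) {W : X.Opens} (hW : IsAffineOpen W)
    (P₀ : Ideal Γ(X, W)) [hP₀ : P₀.IsPrime] (hle : 𝓘.ideal ⟨W, hW⟩ ≤ P₀) :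
    ∃ (z : 𝓘.subscheme) (hzW : 𝓘.subschemeι z ∈ W),
      (hW.primeIdealOf ⟨𝓘.subschemeι z, hzW⟩).asIdeal = P₀ := by
  let P : PrimeSpectrum Γ(X, W) := ⟨P₀, hP₀⟩
  have hP : hW.primeIdealOf ⟨hW.fromSpec P, fromSpec_mem hW P⟩ = P := primeIdealOf_fromSpec hW P
  have hPsupp : hW.fromSpec P ∈ 𝓘.support := by
    rw [mem_support_iff_le 𝓘 hW _ (fromSpec_mem hW P), hP]; exact hle
  have hP' : hW.fromSpec P ∈ Set.range 𝓘.subschemeι := by rw [𝓘.range_subschemeι]; exact hPsupp
  obtain ⟨z, hz⟩ := hP'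
  have hzW : 𝓘.subschemeι z ∈ W := hz ▸ fromSpec_mem hW P
  refine ⟨z, hzW, ?_⟩
  have h1 : (⟨𝓘.subschemeι z, hzW⟩ : W) = ⟨hW.fromSpec P, fromSpec_mem hW P⟩ := Subtype.ext hz
  rw [h1, hP]

variable [IsLocallyNoetherian X]

/-- an associated prime of `B/I` on a chart gives a point of the closed subscheme whose maximal
ideal is associated. -/
theorem isAssociatedPrime_stalk_subscheme (𝓘 : X.IdealSheafData) {W : X.Opens}
    (hW : IsAffineOpen W) (z : 𝓘.subscheme) (hzW : 𝓘.subschemeι z ∈ W)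
    (hass : (hW.primeIdealOf ⟨𝓘.subschemeι z, hzW⟩).asIdeal ∈
      associatedPrimes Γ(X, W) (Γ(X, W) ⧸ 𝓘.ideal ⟨W, hW⟩)) :
    IsAssociatedPrime (IsLocalRing.maximalIdeal (𝓘.subscheme.presheaf.stalk z))
      (𝓘.subscheme.presheaf.stalk z) := by
  haveI : IsNoetherianRing Γ(X, W) := IsLocallyNoetherian.component_noetherian ⟨W, hW⟩
  set P₀ := (hW.primeIdealOf ⟨𝓘.subschemeι z, hzW⟩).asIdeal with hP₀
  obtain ⟨hprime, m, hm⟩ := (isAssociatedPrime_iff (M := Γ(X, W) ⧸ 𝓘.ideal ⟨W, hW⟩)).mp hass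
  obtain ⟨b, rfl⟩ := Ideal.Quotient.mk_surjective m
  have hmem : ∀ r, r ∈ P₀ ↔ r * b ∈ 𝓘.ideal ⟨W, hW⟩ := by
    intro r
    rw [hm, Submodule.mem_colon_singleton, Submodule.mem_bot, Algebra.smul_def,
      Ideal.Quotient.algebraMap_eq, ← map_mul, Ideal.Quotient.eq_zero_iff_mem]
  have hV : IsAffineOpen (𝓘.subschemeι ⁻¹ᵁ W) := hW.preimage 𝓘.subschemeι
  have hzV : z ∈ 𝓘.subschemeι ⁻¹ᵁ W := hzW
  set ψ : Γ(X, W) →+* Γ(𝓘.subscheme, 𝓘.subschemeι ⁻¹ᵁ W) := (𝓘.subschemeι.app W).hom with hψ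
  have hψsurj : Function.Surjective ψ := 𝓘.subschemeι_app_surjective ⟨W, hW⟩
  have hψker : RingHom.ker ψ = 𝓘.ideal ⟨W, hW⟩ := 𝓘.ker_subschemeι_app ⟨W, hW⟩
  have hloc : ∀ r, 𝓘.subscheme.presheaf.germ _ z hzV (ψ r) ∈
      IsLocalRing.maximalIdeal (𝓘.subscheme.presheaf.stalk z) ↔ r ∈ P₀ := by
    intro r
    rw [hP₀, mem_primeIdealOf_iff hW (𝓘.subschemeι z) hzW r]
    have h1 : 𝓘.subscheme.presheaf.germ _ z hzV (ψ r) =
        (𝓘.subschemeι.stalkMap z).hom (X.presheaf.germ W (𝓘.subschemeι z) hzW r) :=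
      (Scheme.Hom.germ_stalkMap_apply 𝓘.subschemeι W z hzW r).symm
    rw [h1, IsLocalRing.mem_maximalIdeal, IsLocalRing.mem_maximalIdeal, map_mem_nonunits_iff]
  letI := 𝓘.subscheme.presheaf.algebra_section_stalk ⟨z, hzV⟩
  haveI := hV.isLocalization_stalk ⟨z, hzV⟩
  set Q := (hV.primeIdealOf ⟨z, hzV⟩).asIdeal with hQ
  have hQmem : ∀ d, d ∈ Q ↔ algebraMap Γ(𝓘.subscheme, 𝓘.subschemeι ⁻¹ᵁ W)
      (𝓘.subscheme.presheaf.stalk z) d ∈ IsLocalRing.maximalIdeal (𝓘.subscheme.presheaf.stalk z) :=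
    fun d => mem_primeIdealOf_iff hV z hzV d
  have hzero : ∀ r, r ∈ P₀ → ψ r * ψ b = 0 := by
    intro r hr
    rw [← map_mul, ← RingHom.mem_ker, hψker]
    exact (hmem r).mp hr
  refine ⟨inferInstance, algebraMap _ (𝓘.subscheme.presheaf.stalk z) (ψ b), ?_⟩
  have hcolon : Submodule.colon (⊥ : Submodule (𝓘.subscheme.presheaf.stalk z)
      (𝓘.subscheme.presheaf.stalk z)) {algebraMap _ (𝓘.subscheme.presheaf.stalk z) (ψ b)} =
      IsLocalRing.maximalIdeal (𝓘.subscheme.presheaf.stalk z) := by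
    apply le_antisymm
    · apply IsLocalRing.le_maximalIdeal
      intro htop
      have h1 : (1 : 𝓘.subscheme.presheaf.stalk z) ∈ Submodule.colon
          (⊥ : Submodule (𝓘.subscheme.presheaf.stalk z) (𝓘.subscheme.presheaf.stalk z))
          {algebraMap _ (𝓘.subscheme.presheaf.stalk z) (ψ b)} := htop ▸ Submodule.mem_top
      rw [Submodule.mem_colon_singleton, one_smul, Submodule.mem_bot] at h1
      obtain ⟨⟨d', hd'⟩, hd'2⟩ := (IsLocalization.map_eq_zero_iff Q.primeCompl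
        (𝓘.subscheme.presheaf.stalk z) (ψ b)).mp h1
      simp only at hd'2
      obtain ⟨r₀, rfl⟩ := hψsurj d'
      have hr₀ : r₀ ∉ P₀ := by
        intro hr
        apply hd'
        rw [SetLike.mem_coe, hQmem]
        exact (hloc r₀).mpr hr
      apply hr₀
      rw [hmem, ← hψker, RingHom.mem_ker, map_mul]
      exact hd'2
    · intro r hr
      rw [Submodule.mem_colon_singleton, Submodule.mem_bot, smul_eq_mul]
      obtain ⟨d, ⟨d', hd'⟩, rfl⟩ := IsLocalization.exists_mk'_eq Q.primeCompl r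
      have hspec := IsLocalization.mk'_spec (𝓘.subscheme.presheaf.stalk z) d
        (⟨d', hd'⟩ : Q.primeCompl)
      simp only at hspec
      have hd'u : IsUnit (algebraMap Γ(𝓘.subscheme, 𝓘.subschemeι ⁻¹ᵁ W)
          (𝓘.subscheme.presheaf.stalk z) d') :=
        IsLocalization.map_units _ (⟨d', hd'⟩ : Q.primeCompl)
      have hdm : algebraMap Γ(𝓘.subscheme, 𝓘.subschemeι ⁻¹ᵁ W)
          (𝓘.subscheme.presheaf.stalk z) d ∈
          IsLocalRing.maximalIdeal (𝓘.subscheme.presheaf.stalk z) := by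
        rw [← hspec]
        exact Ideal.mul_mem_right _ _ hr
      obtain ⟨r₀, rfl⟩ := hψsurj d
      have hr₀ : r₀ ∈ P₀ := (hloc r₀).mp hdm
      have h0 := hzero r₀ hr₀
      have h2 : algebraMap Γ(𝓘.subscheme, 𝓘.subschemeι ⁻¹ᵁ W) (𝓘.subscheme.presheaf.stalk z) d' *
          (IsLocalization.mk' (𝓘.subscheme.presheaf.stalk z) (ψ r₀) (⟨d', hd'⟩ : Q.primeCompl) *
            algebraMap _ (𝓘.subscheme.presheaf.stalk z) (ψ b)) = 0 := by
        rw [← mul_assoc, mul_comm (algebraMap _ _ d'), hspec, ← map_mul, h0, map_zero]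
      exact (hd'u.mul_right_eq_zero).mp h2
  rw [hcolon]
  exact (Ideal.IsPrime.radical inferInstance).symm


/-- under the hypotheses of S1700, every associated prime of `B/I` on a chart has height one. -/
theorem height_eq_one_of_mem_associatedPrimes (𝓘 : X.IdealSheafData)
    (h1 : ∀ z : ↥𝓘.subscheme, IsAssociatedPrime
      (IsLocalRing.maximalIdeal ↑(𝓘.subscheme.presheaf.stalk z)) ↑(𝓘.subscheme.presheaf.stalk z) →
        ∀ z' : ↥𝓘.subscheme, z' ⤳ z → z' = z)
    (h2 : ∀ z : ↥𝓘.subscheme, (∀ z' : ↥𝓘.subscheme, z' ⤳ z → z' = z) →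
      ringKrullDim (X.presheaf.stalk (𝓘.subschemeι z)) = 1)
    {W : X.Opens} (hW : IsAffineOpen W) (P₀ : Ideal Γ(X, W))
    (hP₀ : P₀ ∈ associatedPrimes Γ(X, W) (Γ(X, W) ⧸ 𝓘.ideal ⟨W, hW⟩)) : P₀.height = 1 := by
  haveI : IsNoetherianRing Γ(X, W) := IsLocallyNoetherian.component_noetherian ⟨W, hW⟩
  haveI := hP₀.isPrime
  have hle : 𝓘.ideal ⟨W, hW⟩ ≤ P₀ := le_of_mem_associatedPrimes_quotient _ _ hP₀
  obtain ⟨z, hzW, hz⟩ := exists_point_of_le 𝓘 hW P₀ hle
  have hass := isAssociatedPrime_stalk_subscheme 𝓘 hW z hzW (hz ▸ hP₀)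
  have hmax := h1 z hass
  have hdim := h2 z hmax
  have h3 := height_primeIdealOf' hW _ hzW
  rw [← ringKrullDim_stalk_eq_coheight, hdim, hz] at h3
  exact_mod_cast h3

theorem exists_affine_of_not_mem_support (𝓘 : X.IdealSheafData) (x : X) {W : X.Opens}
    (hW : IsAffineOpen W) (hxW : x ∈ W) (hx : x ∉ 𝓘.support) :
    ∃ U : X.affineOpens, x ∈ U.1 ∧ ∃ f : Γ(X, U.1), f ∈ nonZeroDivisors Γ(X, U.1) ∧
      𝓘.ideal U = Ideal.span {f} := by
  have hnle : ¬ 𝓘.ideal ⟨W, hW⟩ ≤ (hW.primeIdealOf ⟨x, hxW⟩).asIdeal :=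
    fun h => hx ((mem_support_iff_le 𝓘 hW x hxW).mpr h)
  obtain ⟨y, hyI, hyp⟩ := SetLike.not_le_iff_exists.mp hnle
  apply exists_affine_of_stalk_principal 𝓘 x hW hxW 1 (one_mem _)
  rw [Ideal.span_singleton_one]
  have hu : IsUnit (X.presheaf.germ W x hxW y) := by
    by_contra hnu
    exact hyp ((mem_primeIdealOf_iff hW x hxW y).mpr ((IsLocalRing.mem_maximalIdeal _).mpr hnu))
  exact Ideal.eq_top_of_isUnit_mem _ (Ideal.mem_map_of_mem _ hyI) hu

/-- S1700. -/
theorem isEffCartier_of_noEmbedded_codim_one_ufd (𝓘 : X.IdealSheafData)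
    (h1 : ∀ z : ↥𝓘.subscheme, IsAssociatedPrime
      (IsLocalRing.maximalIdeal ↑(𝓘.subscheme.presheaf.stalk z)) ↑(𝓘.subscheme.presheaf.stalk z) →
        ∀ z' : ↥𝓘.subscheme, z' ⤳ z → z' = z)
    (h2 : ∀ z : ↥𝓘.subscheme, (∀ z' : ↥𝓘.subscheme, z' ⤳ z → z' = z) →
      ringKrullDim (X.presheaf.stalk (𝓘.subschemeι z)) = 1)
    (h3 : ∀ x : ↥X, x ∈ 𝓘.support →
      IsDomain (X.presheaf.stalk x) ∧ UniqueFactorizationMonoid (X.presheaf.stalk x)) :
    BlowUp.IsEffCartierIdeal 𝓘 := by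
  intro x
  obtain ⟨_, ⟨W, hW, rfl⟩, hxW, -⟩ :=
    X.isBasis_affineOpens.exists_subset_of_mem_open (Set.mem_univ x) isOpen_univ
  have hW : IsAffineOpen W := hW
  by_cases hx : x ∈ 𝓘.support
  · obtain ⟨hdom, hU⟩ := h3 x hx
    haveI : IsNoetherianRing Γ(X, W) := IsLocallyNoetherian.component_noetherian ⟨W, hW⟩
    letI := X.presheaf.algebra_section_stalk ⟨x, hxW⟩
    haveI := hW.isLocalization_stalk ⟨x, hxW⟩
    set p : Ideal Γ(X, W) := (hW.primeIdealOf ⟨x, hxW⟩).asIdeal with hp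
    have hassJ : ∀ P ∈ associatedPrimes (X.presheaf.stalk x) ((X.presheaf.stalk x) ⧸
        (𝓘.ideal ⟨W, hW⟩).map (algebraMap Γ(X, W) (X.presheaf.stalk x))), P.height = 1 := by
      intro P hP
      haveI := hP.isPrime
      have h4 := comap_mem_associatedPrimes' p.primeCompl (𝓘.ideal ⟨W, hW⟩) P hP
      have h5 := height_eq_one_of_mem_associatedPrimes 𝓘 h1 h2 hW _ h4
      rw [← IsLocalization.height_under p.primeCompl]
      exact h5
    obtain ⟨t, ht0, htJ⟩ := exists_principal_of_ass_height_one _ hassJ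
    exact exists_affine_of_stalk_principal 𝓘 x hW hxW t (mem_nonZeroDivisors_of_ne_zero ht0) htJ
  · exact exists_affine_of_not_mem_support 𝓘 x hW hxW hx

end Groth.Agent.Lib.Helper20.EffCartUFD2
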