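import Mathlib
import Groth.Prelude.Def_BlowUp2
import Groth.Agent.Lib.Helper20EffCartUFD2
import Groth.Agent.Lib.Helper28SkLift
import Groth.Agent.Lib.Helper28Normal

set_option linter.unusedSectionVars false
set_option linter.style.haveILetI false
set_option autoImplicit false
universe u
open CategoryTheory CategoryTheory.Limits AlgebraicGeometry TopologicalSpace Opposite

namespace Groth.Agent.Lib.Helper20.SubStalk

open Groth.Agent.Lib.Helper20.CDivOrd2 Groth.Agent.Lib.Helper20.EffCartUFD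

variable {X : Scheme.{u}}

/-- the kernel of the stalk map of a closed subscheme is the extension of the ideal on a chart. -/
theorem ker_stalkMap_subschemeι (𝓘 : X.IdealSheafData) {W : X.Opens} (hW : IsAffineOpen W)
    (z : 𝓘.subscheme) (hzW : 𝓘.subschemeι z ∈ W) :
    RingHom.ker (𝓘.subschemeι.stalkMap z).hom =
      (𝓘.ideal ⟨W, hW⟩).map (X.presheaf.germ W (𝓘.subschemeι z) hzW).hom := by
  have hV : IsAffineOpen (𝓘.subschemeι ⁻¹ᵁ W) := hW.preimage 𝓘.subschemeι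
  have hzV : z ∈ 𝓘.subschemeι ⁻¹ᵁ W := hzW
  set ψ : Γ(X, W) →+* Γ(𝓘.subscheme, 𝓘.subschemeι ⁻¹ᵁ W) := (𝓘.subschemeι.app W).hom with hψ
  have hψsurj : Function.Surjective ψ := 𝓘.subschemeι_app_surjective ⟨W, hW⟩
  have hψker : RingHom.ker ψ = 𝓘.ideal ⟨W, hW⟩ := 𝓘.ker_subschemeι_app ⟨W, hW⟩
  have hnat : ∀ r, (𝓘.subschemeι.stalkMap z).hom (X.presheaf.germ W (𝓘.subschemeι z) hzW r) =
      𝓘.subscheme.presheaf.germ _ z hzV (ψ r) :=
    fun r => Scheme.Hom.germ_stalkMap_apply 𝓘.subschemeι W z hzW r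
  letI := X.presheaf.algebra_section_stalk ⟨𝓘.subschemeι z, hzW⟩
  haveI := hW.isLocalization_stalk ⟨𝓘.subschemeι z, hzW⟩
  letI := 𝓘.subscheme.presheaf.algebra_section_stalk ⟨z, hzV⟩
  haveI := hV.isLocalization_stalk ⟨z, hzV⟩
  set p := (hW.primeIdealOf ⟨𝓘.subschemeι z, hzW⟩).asIdeal with hp
  set Q := (hV.primeIdealOf ⟨z, hzV⟩).asIdeal with hQ
  have hloc : ∀ r, ψ r ∈ Q ↔ r ∈ p := by
    intro r
    rw [hQ, mem_primeIdealOf_iff hV z hzV, hp, mem_primeIdealOf_iff hW (𝓘.subschemeι z) hzW r,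
      ← hnat, IsLocalRing.mem_maximalIdeal, IsLocalRing.mem_maximalIdeal, map_mem_nonunits_iff]
  apply le_antisymm
  · intro α hα
    rw [RingHom.mem_ker] at hα
    obtain ⟨⟨b, ⟨s, hs⟩⟩, hbs⟩ := IsLocalization.surj p.primeCompl α
    simp only at hbs
    have hsu : IsUnit (algebraMap Γ(X, W) (X.presheaf.stalk (𝓘.subschemeι z)) s) :=
      IsLocalization.map_units _ (⟨s, hs⟩ : p.primeCompl)
    have h1 : 𝓘.subscheme.presheaf.germ _ z hzV (ψ b) = 0 := by
      rw [← hnat]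
      change (𝓘.subschemeι.stalkMap z).hom (algebraMap _ _ b) = 0
      rw [← hbs, map_mul, hα, zero_mul]
    obtain ⟨⟨d', hd'⟩, hd'2⟩ := (IsLocalization.map_eq_zero_iff Q.primeCompl
      (𝓘.subscheme.presheaf.stalk z) (ψ b)).mp h1
    simp only at hd'2
    obtain ⟨s', rfl⟩ := hψsurj d'
    have hs' : s' ∉ p := fun h => hd' ((hloc s').mpr h)
    have hs'b : s' * b ∈ 𝓘.ideal ⟨W, hW⟩ := by
      rw [← hψker, RingHom.mem_ker, map_mul]
      exact hd'2
    have hs'u : IsUnit (algebraMap Γ(X, W) (X.presheaf.stalk (𝓘.subschemeι z)) s') :=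
      IsLocalization.map_units _ (⟨s', hs'⟩ : p.primeCompl)
    have h2 : algebraMap Γ(X, W) (X.presheaf.stalk (𝓘.subschemeι z)) s' *
        algebraMap Γ(X, W) (X.presheaf.stalk (𝓘.subschemeι z)) b ∈
        (𝓘.ideal ⟨W, hW⟩).map (algebraMap Γ(X, W) (X.presheaf.stalk (𝓘.subschemeι z))) := by
      rw [← map_mul]
      exact Ideal.mem_map_of_mem _ hs'b
    have h3 := (Ideal.unit_mul_mem_iff_mem _ hs'u).mp h2
    rw [← hbs] at h3
    exact (Ideal.mul_unit_mem_iff_mem _ hsu).mp h3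
  · rw [Ideal.map_le_iff_le_comap]
    intro b hb
    rw [Ideal.mem_comap, RingHom.mem_ker, hnat]
    have : ψ b = 0 := by rw [← RingHom.mem_ker, hψker]; exact hb
    rw [this, map_zero]


theorem withBot_enat_le_of_add_one_le (a : WithBot ℕ∞) (b : ℕ∞)
    (h : a + 1 ≤ ((b + 1 : ℕ∞) : WithBot ℕ∞)) : a ≤ (b : WithBot ℕ∞) := by
  induction a using WithBot.recBotCoe with
  | bot => exact bot_le
  | coe a =>
    have h1 : ((a + 1 : ℕ∞) : WithBot ℕ∞) ≤ ((b + 1 : ℕ∞) : WithBot ℕ∞) := by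
      simpa using h
    rw [WithBot.coe_le_coe] at h1
    rw [WithBot.coe_le_coe]
    exact (ENat.add_le_add_iff_right ENat.one_ne_top).mp h1

variable [IsLocallyNoetherian X]

/-- S1685. -/
theorem effCartier_Sk_of_Sk_succ (k : ℕ)
    (hX : ∀ x : ↥X, min (k : WithBot ℕ∞) (ringKrullDim (X.presheaf.stalk x)) ≤
      ((LocCoh.depth (X.presheaf.stalk x) (X.presheaf.stalk x) : ℕ∞) : WithBot ℕ∞))
    (𝓘 : X.IdealSheafData) (h𝓘 : BlowUp.IsEffCartierIdeal 𝓘) (d : ↥𝓘.subscheme) :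
    min ((k - 1 : ℕ) : WithBot ℕ∞) (ringKrullDim (𝓘.subscheme.presheaf.stalk d)) ≤
      ((LocCoh.depth (𝓘.subscheme.presheaf.stalk d) (𝓘.subscheme.presheaf.stalk d) : ℕ∞) :
        WithBot ℕ∞) := by
  set x := 𝓘.subschemeι d with hx
  obtain ⟨U, hxU, f, hf, hI⟩ := h𝓘 x
  have hW : IsAffineOpen U.1 := U.2
  letI := X.presheaf.algebra_section_stalk ⟨x, hxU⟩
  haveI := hW.isLocalization_stalk ⟨x, hxU⟩
  set t : X.presheaf.stalk x := (X.presheaf.germ U.1 x hxU).hom f with ht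
  have hker : RingHom.ker (𝓘.subschemeι.stalkMap d).hom = Ideal.span {t} := by
    rw [ker_stalkMap_subschemeι 𝓘 hW d hxU]
    have hI' : 𝓘.ideal ⟨U.1, hW⟩ = Ideal.span {f} := hI
    rw [hI', Ideal.map_span, Set.image_singleton]
  have hsurj : Function.Surjective (𝓘.subschemeι.stalkMap d).hom :=
    𝓘.subschemeι.stalkMap_surjective d
  have htnzd : t ∈ nonZeroDivisors (X.presheaf.stalk x) :=
    IsLocalization.map_nonZeroDivisors_le (hW.primeIdealOf ⟨x, hxU⟩).asIdeal.primeCompl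
      (X.presheaf.stalk x) (Submonoid.mem_map_of_mem _ hf)
  have htreg : IsSMulRegular (X.presheaf.stalk x) t :=
    Module.Flat.isSMulRegular_of_nonZeroDivisors htnzd
  have hxsupp : x ∈ 𝓘.support := by
    rw [← SetLike.mem_coe, ← 𝓘.range_subschemeι]
    exact Set.mem_range_self d
  have htm : t ∈ IsLocalRing.maximalIdeal (X.presheaf.stalk x) := by
    have h1 := (mem_support_iff_le 𝓘 hW x hxU).mp hxsupp
    have h2 : f ∈ 𝓘.ideal ⟨U.1, hW⟩ := by
      have hI' : 𝓘.ideal ⟨U.1, hW⟩ = Ideal.span {f} := hI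
      rw [hI']; exact Ideal.mem_span_singleton_self f
    exact (mem_primeIdealOf_iff hW x hxU f).mp (h1 h2)
  let e : (X.presheaf.stalk x ⧸ Ideal.span {t}) ≃+* 𝓘.subscheme.presheaf.stalk d :=
    (Ideal.quotEquivOfEq hker.symm).trans (RingHom.quotientKerEquivOfSurjective hsurj)
  haveI : IsLocalRing (X.presheaf.stalk x ⧸ Ideal.span {t}) := e.symm.isLocalRing
  haveI : IsNoetherianRing (𝓘.subscheme.presheaf.stalk d) := isNoetherianRing_of_ringEquiv _ e
  have hdepth := Groth.Agent.Lib.Helper28.depth_self_eq_of_ringEquiv e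
  have hdim := ringKrullDim_eq_of_ringEquiv e
  have h1 := Groth.Agent.Lib.Helper28.depth_quotient_span_singleton_add_one t htm htreg
  have h2 := ringKrullDim_quotient_span_singleton_succ_eq_ringKrullDim htreg htm
  have h3 := hX x
  rw [← hdepth, ← hdim]
  rw [← h1, ← h2] at h3
  rcases Nat.eq_zero_or_pos k with hk | hk
  · subst hk
    refine le_trans (min_le_left _ _) ?_
    simp
  · obtain ⟨k', rfl⟩ : ∃ k', k = k' + 1 := ⟨k - 1, by omega⟩
    have h4 : ((k' + 1 : ℕ) : WithBot ℕ∞) = (k' : WithBot ℕ∞) + 1 := by push_cast; rfl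
    rw [h4, min_add_add_right] at h3
    have h5 : ((k' + 1 - 1 : ℕ) : WithBot ℕ∞) = (k' : WithBot ℕ∞) := by simp
    rw [h5]
    exact withBot_enat_le_of_add_one_le _ _ h3

end Groth.Agent.Lib.Helper20.SubStalk
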