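import Mathlib

/-!
# Natural dimension shifting (helper8)

Let `T n : A ⥤ E` be functors between abelian categories with connecting morphisms
`δ : T (n+1) X₃ ⟶ T n X₁` for short exact sequences, *natural* in the short exact sequence, exact at
`T (n+1) X₃` and `T n X₁`, vanishing on projectives in positive degrees, with `T 0 ≅ F`, `F` right
exact.  For "resolution data" `R` of `M` we construct isomorphisms
`θ n R : T n M ≅ H_n (F (R.K))`, natural with respect to morphisms of resolution data.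
-/

set_option autoImplicit false
open CategoryTheory CategoryTheory.Limits

namespace Groth.Agent.Lib.Helper8.NatBal

universe v v' u u'
variable {A : Type u} [Category.{v} A] [Abelian A] {E : Type u'} [Category.{v'} E] [Abelian E]

/-- natural connecting maps with partial long exact sequences, vanishing on projectives. -/
structure DeltaData (T : ℕ → A ⥤ E) where
  δ : ∀ (S : ShortComplex A) (_ : S.ShortExact) (n : ℕ), (T (n + 1)).obj S.X₃ ⟶ (T n).obj S.X₁
  δ_naturality : ∀ {S S' : ShortComplex A} (φ : S ⟶ S') (hS : S.ShortExact) (hS' : S'.ShortExact)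
    (n : ℕ), (T (n + 1)).map φ.τ₃ ≫ δ S' hS' n = δ S hS n ≫ (T n).map φ.τ₁
  w₁ : ∀ (S : ShortComplex A) (hS : S.ShortExact) (n : ℕ), (T (n + 1)).map S.g ≫ δ S hS n = 0
  w₂ : ∀ (S : ShortComplex A) (hS : S.ShortExact) (n : ℕ), δ S hS n ≫ (T n).map S.f = 0
  exact₁ : ∀ (S : ShortComplex A) (hS : S.ShortExact) (n : ℕ),
    (ShortComplex.mk _ _ (w₁ S hS n)).Exact
  exact₂ : ∀ (S : ShortComplex A) (hS : S.ShortExact) (n : ℕ),
    (ShortComplex.mk _ _ (w₂ S hS n)).Exact
  isZero_of_projective : ∀ (X : A) [Projective X] (n : ℕ), IsZero ((T (n + 1)).obj X)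

/-- resolution data for `M`: a complex of projectives, exact in positive degrees, with
`M` the cokernel of `K₁ ⟶ K₀`. -/
structure Res (M : A) where
  K : ChainComplex A ℕ
  ε : K.X 0 ⟶ M
  w : K.d 1 0 ≫ ε = 0
  isColimit : IsColimit (CokernelCofork.ofπ ε w)
  exact : ∀ j, K.ExactAt (j + 1)
  proj : ∀ j, Projective (K.X j)

namespace Res

variable {M M' : A} (R : Res M) (R' : Res M')

/-- the first syzygy -/
noncomputable abbrev Z1 : A := cokernel (R.K.d 2 1)

/-- the inclusion of the first syzygy -/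
noncomputable def ι1 : R.Z1 ⟶ R.K.X 0 :=
  cokernel.desc (R.K.d 2 1) (R.K.d 1 0) (R.K.d_comp_d 2 1 0)

@[reassoc (attr := simp)]
theorem π_ι1 : cokernel.π (R.K.d 2 1) ≫ R.ι1 = R.K.d 1 0 := cokernel.π_desc _ _ _

/-- the short exact sequence `0 ⟶ Z₁ ⟶ K₀ ⟶ M ⟶ 0`. -/
noncomputable def ses : ShortComplex A :=
  ShortComplex.mk R.ι1 R.ε (by
    rw [← cancel_epi (cokernel.π (R.K.d 2 1)), π_ι1_assoc, R.w, comp_zero])

theorem ses_shortExact : R.ses.ShortExact := by
  have hmono : Mono R.ι1 := by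
    have h1 : (R.K.sc' 2 1 0).Exact := by
      rw [← R.K.exactAt_iff' 2 1 0 (by simp) (by simp)]
      exact R.exact 0
    exact (R.K.sc' 2 1 0).exact_iff_mono_cokernel_desc.1 h1
  have hepi : Epi R.ε := epi_of_isColimit_cofork R.isColimit
  have hex : R.ses.Exact := by
    let S₁ : ShortComplex A := ShortComplex.mk (R.K.d 1 0) R.ε R.w
    have h₁ : S₁.Exact := ShortComplex.exact_of_g_is_cokernel _ R.isColimit
    let φ : S₁ ⟶ R.ses :=
      { τ₁ := cokernel.π (R.K.d 2 1)
        τ₂ := 𝟙 _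
        τ₃ := 𝟙 _
        comm₁₂ := by simp [S₁, ses]
        comm₂₃ := by simp [S₁, ses] }
    have : Epi φ.τ₁ := inferInstanceAs (Epi (cokernel.π (R.K.d 2 1)))
    have : IsIso φ.τ₂ := inferInstanceAs (IsIso (𝟙 (R.K.X 0)))
    have : Mono φ.τ₃ := inferInstanceAs (Mono (𝟙 M))
    exact (ShortComplex.exact_iff_of_epi_of_isIso_of_mono φ).1 h₁
  exact { exact := hex, mono_f := hmono, epi_g := hepi }

/-- the truncated resolution data, resolving the first syzygy. -/
noncomputable def next : Res R.Z1 where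
  K := ChainComplex.truncate.obj R.K
  ε := cokernel.π (R.K.d 2 1)
  w := cokernel.condition _
  isColimit := cokernelIsCokernel _
  exact j := by
    rw [HomologicalComplex.exactAt_iff' _ (j + 2) (j + 1) j (by simp) (by simp)]
    exact (R.K.exactAt_iff' (j + 3) (j + 2) (j + 1) (by simp) (by simp)).1 (R.exact (j + 1))
  proj j := R.proj (j + 1)

/-- a morphism of resolution data over `f`. -/
structure Hom (f : M ⟶ M') where
  φ : R.K ⟶ R'.K
  comm : φ.f 0 ≫ R'.ε = R.ε ≫ f

variable {R R'} {f : M ⟶ M'} (h : Hom R R' f)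

/-- the induced map on first syzygies -/
noncomputable def Hom.z1 : R.Z1 ⟶ R'.Z1 :=
  cokernel.map _ _ (h.φ.f 2) (h.φ.f 1) (h.φ.comm 2 1).symm

@[reassoc (attr := simp)]
theorem Hom.π_z1 : cokernel.π (R.K.d 2 1) ≫ h.z1 = h.φ.f 1 ≫ cokernel.π (R'.K.d 2 1) :=
  cokernel.π_desc _ _ _

@[reassoc (attr := simp)]
theorem Hom.z1_ι1 : h.z1 ≫ R'.ι1 = R.ι1 ≫ h.φ.f 0 := by
  rw [← cancel_epi (cokernel.π (R.K.d 2 1)), Hom.π_z1_assoc, π_ι1, π_ι1_assoc]
  exact h.φ.comm 1 0

/-- the induced morphism of short exact sequences -/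
noncomputable def Hom.ses : R.ses ⟶ R'.ses where
  τ₁ := h.z1
  τ₂ := h.φ.f 0
  τ₃ := f
  comm₁₂ := h.z1_ι1
  comm₂₃ := h.comm

/-- the induced morphism of truncated data -/
noncomputable def Hom.next : Hom R.next R'.next h.z1 where
  φ := ChainComplex.truncate.map h.φ
  comm := h.π_z1.symm

end Res

section F

variable (F : A ⥤ E) [F.Additive] [PreservesFiniteColimits F]

/-- the complex `F K`. -/
noncomputable abbrev FK (K : ChainComplex A ℕ) : ChainComplex E ℕ :=
  (F.mapHomologicalComplex _).obj K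

/-- the map `F φ`. -/
noncomputable abbrev FKmap {K K' : ChainComplex A ℕ} (φ : K ⟶ K') : FK F K ⟶ FK F K' :=
  (F.mapHomologicalComplex _).map φ

/-- for a cokernel `π : K_j ⟶ Q` of `K.d (j+1) j`, `opcycles_j (F K) ≅ F Q`. -/
noncomputable def cOp (K : ChainComplex A ℕ) (j : ℕ) {Q : A} (π : K.X j ⟶ Q)
    (w : K.d (j + 1) j ≫ π = 0) (hπ : IsColimit (CokernelCofork.ofπ π w)) :
    (FK F K).opcycles j ≅ F.obj Q :=
  IsColimit.coconePointUniqueUpToIso ((FK F K).opcyclesIsCokernel (j + 1) j (by simp))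
    (CokernelCofork.mapIsColimit _ hπ F)

@[reassoc (attr := simp)]
theorem p_cOp_hom (K : ChainComplex A ℕ) (j : ℕ) {Q : A} (π : K.X j ⟶ Q)
    (w : K.d (j + 1) j ≫ π = 0) (hπ : IsColimit (CokernelCofork.ofπ π w)) :
    (FK F K).pOpcycles j ≫ (cOp F K j π w hπ).hom = F.map π :=
  IsColimit.comp_coconePointUniqueUpToIso_hom
    ((FK F K).opcyclesIsCokernel (j + 1) j (by simp)) (CokernelCofork.mapIsColimit _ hπ F)
    WalkingParallelPair.one

theorem cOp_naturality {K K' : ChainComplex A ℕ} (φ : K ⟶ K') (j : ℕ) {Q Q' : A}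
    (π : K.X j ⟶ Q) (w : K.d (j + 1) j ≫ π = 0) (hπ : IsColimit (CokernelCofork.ofπ π w))
    (π' : K'.X j ⟶ Q') (w' : K'.d (j + 1) j ≫ π' = 0)
    (hπ' : IsColimit (CokernelCofork.ofπ π' w')) (q : Q ⟶ Q') (hq : π ≫ q = φ.f j ≫ π') :
    HomologicalComplex.opcyclesMap (FKmap F φ) j ≫ (cOp F K' j π' w' hπ').hom =
      (cOp F K j π w hπ).hom ≫ F.map q := by
  rw [← cancel_epi ((FK F K).pOpcycles j), HomologicalComplex.p_opcyclesMap_assoc, p_cOp_hom,
    p_cOp_hom_assoc]
  show F.map (φ.f j) ≫ F.map π' = F.map π ≫ F.map q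
  rw [← F.map_comp, ← F.map_comp, hq]

theorem cOp_inv_naturality {K K' : ChainComplex A ℕ} (φ : K ⟶ K') (j : ℕ) {Q Q' : A}
    (π : K.X j ⟶ Q) (w : K.d (j + 1) j ≫ π = 0) (hπ : IsColimit (CokernelCofork.ofπ π w))
    (π' : K'.X j ⟶ Q') (w' : K'.d (j + 1) j ≫ π' = 0)
    (hπ' : IsColimit (CokernelCofork.ofπ π' w')) (q : Q ⟶ Q') (hq : π ≫ q = φ.f j ≫ π') :
    F.map q ≫ (cOp F K' j π' w' hπ').inv =
      (cOp F K j π w hπ).inv ≫ HomologicalComplex.opcyclesMap (FKmap F φ) j := by
  rw [Iso.comp_inv_eq, Category.assoc, cOp_naturality F φ j π w hπ π' w' hπ' q hq,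
    Iso.inv_hom_id_assoc]

/-- the short complexes of `L` and of its truncation agree. -/
noncomputable def truncScIso (L : ChainComplex E ℕ) (n : ℕ) :
    (ChainComplex.truncate.obj L).sc' (n + 2) (n + 1) n ≅ L.sc' (n + 3) (n + 2) (n + 1) :=
  Iso.refl _

theorem truncScIso_naturality {L L' : ChainComplex E ℕ} (φ : L ⟶ L') (n : ℕ) :
    (HomologicalComplex.shortComplexFunctor' E (ComplexShape.down ℕ) (n + 2) (n + 1) n).map
        (ChainComplex.truncate.map φ) ≫ (truncScIso L' n).hom =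
      (truncScIso L n).hom ≫
        (HomologicalComplex.shortComplexFunctor' E (ComplexShape.down ℕ) (n + 3) (n + 2)
          (n + 1)).map φ :=
  (Category.comp_id _).trans (Category.id_comp _).symm

/-- homology of the truncation -/
noncomputable def truncHomologyIso (L : ChainComplex E ℕ) (n : ℕ) :
    (ChainComplex.truncate.obj L).homology (n + 1) ≅ L.homology (n + 2) :=
  (ChainComplex.truncate.obj L).homologyIsoSc' (n + 2) (n + 1) n (by simp) (by simp) ≪≫
    ShortComplex.homologyMapIso (truncScIso L n) ≪≫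
    (L.homologyIsoSc' (n + 3) (n + 2) (n + 1) (by simp) (by simp)).symm

theorem homologyIsoSc'_hom_naturality {L L' : ChainComplex E ℕ} (φ : L ⟶ L') (i j k : ℕ)
    (hi : (ComplexShape.down ℕ).prev j = i) (hk : (ComplexShape.down ℕ).next j = k) :
    HomologicalComplex.homologyMap φ j ≫ (L'.homologyIsoSc' i j k hi hk).hom =
      (L.homologyIsoSc' i j k hi hk).hom ≫ ShortComplex.homologyMap
        ((HomologicalComplex.shortComplexFunctor' E (ComplexShape.down ℕ) i j k).map φ) := by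
  have h := (HomologicalComplex.natIsoSc' E (ComplexShape.down ℕ) i j k hi hk).hom.naturality φ
  have e1 := ShortComplex.homologyMap_comp
    ((HomologicalComplex.shortComplexFunctor E (ComplexShape.down ℕ) j).map φ)
    ((HomologicalComplex.natIsoSc' E (ComplexShape.down ℕ) i j k hi hk).hom.app L')
  have e2 := ShortComplex.homologyMap_comp
    ((HomologicalComplex.natIsoSc' E (ComplexShape.down ℕ) i j k hi hk).hom.app L)
    ((HomologicalComplex.shortComplexFunctor' E (ComplexShape.down ℕ) i j k).map φ)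
  rw [h] at e1
  exact e1.symm.trans e2

theorem truncHomologyIso_naturality {L L' : ChainComplex E ℕ} (φ : L ⟶ L') (n : ℕ) :
    HomologicalComplex.homologyMap (ChainComplex.truncate.map φ) (n + 1) ≫
        (truncHomologyIso L' n).hom =
      (truncHomologyIso L n).hom ≫ HomologicalComplex.homologyMap φ (n + 2) := by
  have h1 := homologyIsoSc'_hom_naturality (ChainComplex.truncate.map φ) (n + 2) (n + 1) n
    (by simp) (by simp)
  have h2 := homologyIsoSc'_hom_naturality φ (n + 3) (n + 2) (n + 1) (by simp) (by simp)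
  have h2' : (L.homologyIsoSc' (n + 3) (n + 2) (n + 1) (by simp) (by simp)).inv ≫
      HomologicalComplex.homologyMap φ (n + 2) =
      ShortComplex.homologyMap ((HomologicalComplex.shortComplexFunctor' E (ComplexShape.down ℕ)
        (n + 3) (n + 2) (n + 1)).map φ) ≫
        (L'.homologyIsoSc' (n + 3) (n + 2) (n + 1) (by simp) (by simp)).inv := by
    rw [Iso.inv_comp_eq, ← Category.assoc, Iso.eq_comp_inv, h2]
  have h3 : ShortComplex.homologyMap
      ((HomologicalComplex.shortComplexFunctor' E (ComplexShape.down ℕ) (n + 2) (n + 1) n).map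
        (ChainComplex.truncate.map φ)) ≫ ShortComplex.homologyMap (truncScIso L' n).hom =
      ShortComplex.homologyMap (truncScIso L n).hom ≫ ShortComplex.homologyMap
        ((HomologicalComplex.shortComplexFunctor' E (ComplexShape.down ℕ) (n + 3) (n + 2)
          (n + 1)).map φ) := by
    rw [← ShortComplex.homologyMap_comp, ← ShortComplex.homologyMap_comp,
      truncScIso_naturality]
  simp only [truncHomologyIso, Iso.trans_hom, Iso.symm_hom, ShortComplex.homologyMapIso_hom,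
    Category.assoc]
  rw [reassoc_of% h1, reassoc_of% h3, h2']

end F

section Main

variable {T : ℕ → A ⥤ E} (D : DeltaData T) (F : A ⥤ E) [F.Additive] [PreservesFiniteColimits F]
  (e : T 0 ≅ F)

variable {M M' : A} (R : Res M) {R' : Res M'} {f : M ⟶ M'}

/-- the connecting map of the syzygy sequence, with normalized type. -/
noncomputable def Res.δ (n : ℕ) : (T (n + 1)).obj M ⟶ (T n).obj R.Z1 :=
  D.δ R.ses R.ses_shortExact n

theorem Res.δ_comp (n : ℕ) : R.δ D n ≫ (T n).map R.ι1 = 0 :=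
  D.w₂ R.ses R.ses_shortExact n

theorem Res.δ_exact (n : ℕ) : (ShortComplex.mk _ _ (R.δ_comp D n)).Exact :=
  D.exact₂ R.ses R.ses_shortExact n

theorem Res.mono_δ (n : ℕ) : Mono (R.δ D n) := by
  have : Projective R.ses.X₂ := R.proj 0
  exact (D.exact₁ R.ses R.ses_shortExact n).mono_g
    ((D.isZero_of_projective R.ses.X₂ n).eq_of_src _ _)

theorem Res.isIso_δ (n : ℕ) : IsIso (R.δ D (n + 1)) := by
  have : Projective R.ses.X₂ := R.proj 0
  have hm : Mono (R.δ D (n + 1)) := R.mono_δ D (n + 1)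
  have he : Epi (R.δ D (n + 1)) :=
    (D.exact₂ R.ses R.ses_shortExact (n + 1)).epi_f
      ((D.isZero_of_projective R.ses.X₂ n).eq_of_tgt _ _)
  exact isIso_of_mono_of_epi _

variable {R} in
theorem Res.δ_naturality (h : Res.Hom R R' f) (n : ℕ) :
    (T (n + 1)).map f ≫ R'.δ D n = R.δ D n ≫ (T n).map h.z1 :=
  D.δ_naturality h.ses R.ses_shortExact R'.ses_shortExact n

/-- degree `0`. -/
noncomputable def θ0 : (T 0).obj M ≅ (FK F R.K).homology 0 :=
  e.app M ≪≫ (cOp F R.K 0 R.ε R.w R.isColimit).symm ≪≫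
    (ChainComplex.isoHomologyι₀ (FK F R.K)).symm

variable {R} in
theorem θ0_naturality (h : Res.Hom R R' f) :
    (T 0).map f ≫ (θ0 F e R').hom =
      (θ0 F e R).hom ≫ HomologicalComplex.homologyMap (FKmap F h.φ) 0 := by
  have h1 := cOp_inv_naturality F h.φ 0 R.ε R.w R.isColimit R'.ε R'.w R'.isColimit f h.comm.symm
  have h2 := ChainComplex.isoHomologyι₀_inv_naturality (FKmap F h.φ)
  simp only [θ0, Iso.trans_hom, Iso.app_hom, Iso.symm_hom, Category.assoc]
  rw [e.hom.naturality_assoc f, reassoc_of% h1, h2]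

/-- the first syzygy resolution: `opcycles₁ (F K) ≅ F Z₁`. -/
noncomputable def c1 : (FK F R.K).opcycles 1 ≅ F.obj R.Z1 :=
  cOp F R.K 1 (cokernel.π (R.K.d 2 1)) (cokernel.condition _) (cokernelIsCokernel _)

theorem c1_hom_ι1 : (c1 F R).hom ≫ F.map R.ι1 = (FK F R.K).fromOpcycles 1 0 := by
  rw [← cancel_epi ((FK F R.K).pOpcycles 1)]
  have h1 : (FK F R.K).pOpcycles 1 ≫ (FK F R.K).fromOpcycles 1 0 = (FK F R.K).d 1 0 :=
    HomologicalComplex.p_fromOpcycles _ 1 0
  have h2 : (FK F R.K).pOpcycles 1 ≫ (c1 F R).hom ≫ F.map R.ι1 = F.map (R.K.d 1 0) :=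
    (p_cOp_hom_assoc F R.K 1 _ _ _ (F.map R.ι1)).trans
      ((F.map_comp _ _).symm.trans (congrArg F.map R.π_ι1))
  exact h2.trans h1.symm

theorem c1_inv_fromOpcycles :
    (c1 F R).inv ≫ (FK F R.K).fromOpcycles 1 0 = F.map R.ι1 :=
  (Iso.inv_comp_eq _).2 (c1_hom_ι1 F R).symm

/-- the kernel map on the homology side. -/
noncomputable def ιH : (FK F R.K).homology 1 ⟶ F.obj R.Z1 :=
  (FK F R.K).homologyι 1 ≫ (c1 F R).hom

theorem ιH_comp : ιH F R ≫ F.map R.ι1 = 0 :=
  (Category.assoc _ _ _).trans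
    ((congrArg (fun t => (FK F R.K).homologyι 1 ≫ t) (c1_hom_ι1 F R)).trans
      ((FK F R.K).homologyι_comp_fromOpcycles 1 0))

/-- the kernel map on the `T` side. -/
noncomputable def ιT : (T 1).obj M ⟶ F.obj R.Z1 :=
  R.δ D 0 ≫ e.hom.app R.Z1

theorem ιT_comp : ιT D F e R ≫ F.map R.ι1 = 0 := by
  have h := R.δ_comp D 0
  have hn := e.hom.naturality R.ι1
  unfold ιT
  rw [Category.assoc, ← hn, reassoc_of% h, zero_comp]

theorem mono_ιT : Mono (ιT D F e R) := by
  have := R.mono_δ D 0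
  exact mono_comp _ _

/-- `T₁ M` is the kernel of `F Z₁ ⟶ F K₀`. -/
noncomputable def ιT_isLimit : IsLimit (KernelFork.ofι (ιT D F e R) (ιT_comp D F e R)) := by
  have hex : (ShortComplex.mk _ _ (ιT_comp D F e R)).Exact := by
    have iso : ShortComplex.mk _ _ (R.δ_comp D 0) ≅ ShortComplex.mk _ _ (ιT_comp D F e R) :=
      ShortComplex.isoMk (Iso.refl _) (e.app R.Z1) (e.app (R.K.X 0))
        (Category.id_comp _) (e.hom.naturality R.ι1).symm
    exact ShortComplex.exact_of_iso iso (R.δ_exact D 0)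
  have := mono_ιT D F e R
  exact hex.fIsKernel

/-- `H₁ (F K) ⟶ T₁ M`. -/
noncomputable def θ1inv : (FK F R.K).homology 1 ⟶ (T 1).obj M :=
  (ιT_isLimit D F e R).lift (KernelFork.ofι (ιH F R) (ιH_comp F R))

theorem θ1inv_ιT : θ1inv D F e R ≫ ιT D F e R = ιH F R :=
  Fork.IsLimit.lift_ι _

theorem ιT_c1_inv_comp :
    (ιT D F e R ≫ (c1 F R).inv) ≫ (FK F R.K).fromOpcycles 1 0 = 0 :=
  (Category.assoc _ _ _).trans
    ((congrArg (fun t => ιT D F e R ≫ t) (c1_inv_fromOpcycles F R)).trans (ιT_comp D F e R))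

/-- `T₁ M ⟶ H₁ (F K)`. -/
noncomputable def θ1hom : (T 1).obj M ⟶ (FK F R.K).homology 1 :=
  ((FK F R.K).homologyIsKernel 1 0 (by simp)).lift
    (KernelFork.ofι (ιT D F e R ≫ (c1 F R).inv) (ιT_c1_inv_comp D F e R))

theorem θ1hom_ι : θ1hom D F e R ≫ (FK F R.K).homologyι 1 = ιT D F e R ≫ (c1 F R).inv :=
  Fork.IsLimit.lift_ι _

theorem θ1hom_ιH : θ1hom D F e R ≫ ιH F R = ιT D F e R := by
  unfold ιH
  rw [reassoc_of% (θ1hom_ι D F e R), Iso.inv_hom_id, Category.comp_id]

theorem ιH_c1_inv : ιH F R ≫ (c1 F R).inv = (FK F R.K).homologyι 1 := by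
  unfold ιH
  rw [Category.assoc, Iso.hom_inv_id, Category.comp_id]

/-- degree `1`. -/
noncomputable def θ1 : (T 1).obj M ≅ (FK F R.K).homology 1 where
  hom := θ1hom D F e R
  inv := θ1inv D F e R
  hom_inv_id := by
    have := mono_ιT D F e R
    rw [← cancel_mono (ιT D F e R), Category.assoc, θ1inv_ιT, Category.id_comp, θ1hom_ιH]
  inv_hom_id := by
    rw [← cancel_mono ((FK F R.K).homologyι 1), Category.assoc, θ1hom_ι,
      reassoc_of% (θ1inv_ιT D F e R), Category.id_comp, ιH_c1_inv]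

variable {R} in
theorem ιT_naturality (h : Res.Hom R R' f) :
    (T 1).map f ≫ ιT D F e R' = ιT D F e R ≫ F.map h.z1 := by
  have h1 : (T 1).map f ≫ R'.δ D 0 = R.δ D 0 ≫ (T 0).map h.z1 := Res.δ_naturality D h 0
  unfold ιT
  rw [reassoc_of% h1, Category.assoc, e.hom.naturality]

variable {R} in
theorem θ1_naturality (h : Res.Hom R R' f) :
    (T 1).map f ≫ (θ1 D F e R').hom =
      (θ1 D F e R).hom ≫ HomologicalComplex.homologyMap (FKmap F h.φ) 1 := by
  show (T 1).map f ≫ θ1hom D F e R' = θ1hom D F e R ≫ _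
  have h2 : F.map h.z1 ≫ (c1 F R').inv =
      (c1 F R).inv ≫ HomologicalComplex.opcyclesMap (FKmap F h.φ) 1 :=
    cOp_inv_naturality F h.φ 1 (cokernel.π (R.K.d 2 1)) (cokernel.condition _)
      (cokernelIsCokernel _) (cokernel.π (R'.K.d 2 1)) (cokernel.condition _)
      (cokernelIsCokernel _) h.z1 h.π_z1
  rw [← cancel_mono ((FK F R'.K).homologyι 1), Category.assoc, θ1hom_ι, Category.assoc,
    HomologicalComplex.homologyι_naturality, reassoc_of% (θ1hom_ι D F e R),
    reassoc_of% (ιT_naturality D F e h), h2]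

/-- the natural isomorphisms `T n M ≅ H_n (F K)`. -/
noncomputable def θ : ∀ (n : ℕ) {M : A} (R : Res M), (T n).obj M ≅ (FK F R.K).homology n
  | 0, _, R => θ0 F e R
  | 1, _, R => θ1 D F e R
  | (n + 2), _, R =>
      have := R.isIso_δ D n
      asIso (R.δ D (n + 1)) ≪≫ θ (n + 1) R.next ≪≫ truncHomologyIso (FK F R.K) n

theorem θ_naturality : ∀ (n : ℕ) {M M' : A} {R : Res M} {R' : Res M'} {f : M ⟶ M'}
    (h : Res.Hom R R' f), (T n).map f ≫ (θ D F e n R').hom =
      (θ D F e n R).hom ≫ HomologicalComplex.homologyMap (FKmap F h.φ) n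
  | 0, _, _, _, _, _, h => θ0_naturality F e h
  | 1, _, _, _, _, _, h => θ1_naturality D F e h
  | (n + 2), _, _, R, R', f, h => by
      have ih := θ_naturality (n + 1) h.next
      have h1 : (T (n + 2)).map f ≫ R'.δ D (n + 1) = R.δ D (n + 1) ≫ (T (n + 1)).map h.z1 :=
        Res.δ_naturality D h (n + 1)
      have h3 := truncHomologyIso_naturality (FKmap F h.φ) n
      simp only [θ, Iso.trans_hom, asIso_hom, Category.assoc]
      rw [reassoc_of% h1, reassoc_of% ih]
      congr 2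

end Main

end Groth.Agent.Lib.Helper8.NatBal
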