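import Mathlib
import Groth.Agent.Lib.Helper13TorD1
import Groth.Agent.Lib.Helper8NatBal

/-!
# Symmetry of `Tor` as a bifunctor (helper8)

`Tor_n(X, Y) ≅ Tor_n(Y, X)`, naturally in both variables.
-/

set_option autoImplicit false
open CategoryTheory CategoryTheory.Limits MonoidalCategory

namespace Groth.Agent.Lib.Helper8.TorFlip

open Groth.Agent.Helper13Tor Groth.Agent.Lib.Helper8.NatBal

universe u
variable {R : Type u} [CommRing R]

/-- `Tor` with its natural connecting maps. -/
noncomputable def torDelta :
    DeltaData (A := ModuleCat.{u} R) (E := ModuleCat.{u} R ⥤ ModuleCat.{u} R)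
      (fun n => Tor (ModuleCat.{u} R) n) where
  δ S hS n := torδ S hS n
  δ_naturality φ hS hS' n := by
    ext Y : 2
    exact (δQ_naturality₁ φ hS hS' (projectiveResolution Y) n).symm
  w₁ S hS n := by
    ext Y : 2
    exact map_comp_δQ S hS _ n
  w₂ S hS n := by
    ext Y : 2
    exact δQ_comp_map S hS _ n
  exact₁ S hS n := exact_of_forall_app _ fun Y => δQ_exact₃ S hS (projectiveResolution Y) n
  exact₂ S hS n := exact_of_forall_app _ fun Y => δQ_exact₁ S hS (projectiveResolution Y) n
  isZero_of_projective X _ n :=
    (Functor.isZero_iff _).2 fun Y => isZero_tor_of_flat Y X (n + 1) (by omega)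

/-- resolution data from a projective resolution. -/
noncomputable def resOf {X : ModuleCat.{u} R} (P : ProjectiveResolution X) : Res X where
  K := P.complex
  ε := P.π.f 0
  w := P.complex_d_comp_π_f_zero
  isColimit := P.isColimitCokernelCofork
  exact := P.complex_exactAt_succ
  proj := P.projective

/-- the lift of a morphism as a morphism of resolution data. -/
noncomputable def resHom {X X' : ModuleCat.{u} R} (f : X ⟶ X') (P : ProjectiveResolution X)
    (P' : ProjectiveResolution X') : Res.Hom (resOf P) (resOf P') f where
  φ := ProjectiveResolution.lift f P P'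
  comm := ProjectiveResolution.lift_commutes_zero f P P'

/-- the natural balancing isomorphism `Tor_n(X, -) ≅ H_n(P ⊗ -)`. -/
noncomputable def θP {X : ModuleCat.{u} R} (P : ProjectiveResolution X) (n : ℕ) :
    (Tor (ModuleCat.{u} R) n).obj X ≅ (KE P.complex).homology n :=
  θ torDelta (tensoringLeft (ModuleCat.{u} R)) torZeroIso n (resOf P)

theorem θP_naturality {X X' : ModuleCat.{u} R} (f : X ⟶ X') (P : ProjectiveResolution X)
    (P' : ProjectiveResolution X') (n : ℕ) :
    (Tor (ModuleCat.{u} R) n).map f ≫ (θP P' n).hom =
      (θP P n).hom ≫ HomologicalComplex.homologyMap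
        (((tensoringLeft (ModuleCat.{u} R)).mapHomologicalComplex _).map
          (ProjectiveResolution.lift f P P')) n :=
  θ_naturality torDelta (tensoringLeft (ModuleCat.{u} R)) torZeroIso n (resHom f P P')

/-- naturality of `evalIso` in the complex. -/
theorem evalIso_naturality₁ {P P' : ChainComplex (ModuleCat.{u} R) ℕ} (φ : P ⟶ P') (n : ℕ)
    (N : ModuleCat.{u} R) :
    (HomologicalComplex.homologyMap
        (((tensoringLeft (ModuleCat.{u} R)).mapHomologicalComplex _).map φ) n).app N ≫
      (evalIso P' n N).hom =
    (evalIso P n N).hom ≫ HomologicalComplex.homologyMap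
      (((tensorRight N).mapHomologicalComplex _).map φ) n := by
  have h := ShortComplex.mapHomologyIso_inv_naturality
    ((HomologicalComplex.shortComplexFunctor _ _ n).map
      (((tensoringLeft (ModuleCat.{u} R)).mapHomologicalComplex (ComplexShape.down ℕ)).map φ))
    ((evaluation (ModuleCat.{u} R) (ModuleCat.{u} R)).obj N)
  exact h

/-- the chain level braiding `P ⊗ Y ≅ Y ⊗ P`. -/
noncomputable def brC (P : ChainComplex (ModuleCat.{u} R) ℕ) (Y : ModuleCat.{u} R) :
    tR P Y ≅ tC Y P :=
  (NatIso.mapHomologicalComplex (BraidedCategory.tensorLeftIsoTensorRight Y).symm _).app P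

theorem brC_naturality₁ {P P' : ChainComplex (ModuleCat.{u} R) ℕ} (φ : P ⟶ P')
    (Y : ModuleCat.{u} R) :
    ((tensorRight Y).mapHomologicalComplex _).map φ ≫ (brC P' Y).hom =
      (brC P Y).hom ≫ ((tL Y).mapHomologicalComplex _).map φ :=
  (NatIso.mapHomologicalComplex (BraidedCategory.tensorLeftIsoTensorRight Y).symm
    (ComplexShape.down ℕ)).hom.naturality φ

theorem brC_naturality₂ (P : ChainComplex (ModuleCat.{u} R) ℕ) {Y Y' : ModuleCat.{u} R}
    (g : Y ⟶ Y') :
    tRmap P g ≫ (brC P Y').hom = (brC P Y).hom ≫ tCmap g P := by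
  refine HomologicalComplex.hom_ext _ _ fun j => ?_
  show (P.X j ◁ g) ≫ (β_ Y' (P.X j)).inv = (β_ Y (P.X j)).inv ≫ (g ▷ P.X j)
  simp

/-- the symmetry isomorphism `Tor_n(X, Y) ≅ Tor_n(Y, X)`. -/
noncomputable def α (n : ℕ) (X Y : ModuleCat.{u} R) :
    ((Tor (ModuleCat.{u} R) n).obj X).obj Y ≅ ((Tor (ModuleCat.{u} R) n).obj Y).obj X :=
  (θP (projectiveResolution X) n).app Y ≪≫ evalIso (projectiveResolution X).complex n Y ≪≫
    HomologicalComplex.homologyMapIso (brC (projectiveResolution X).complex Y) n ≪≫
      (torIso (projectiveResolution X) Y n).symm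

theorem α_naturality₂ (n : ℕ) (X : ModuleCat.{u} R) {Y Y' : ModuleCat.{u} R} (g : Y ⟶ Y') :
    ((Tor (ModuleCat.{u} R) n).obj X).map g ≫ (α n X Y').hom =
      (α n X Y).hom ≫ ((Tor (ModuleCat.{u} R) n).map g).app X := by
  have h1 := (θP (projectiveResolution X) n).hom.naturality g
  have h2 := evalIso_naturality (projectiveResolution X).complex n g
  have h3 : HomologicalComplex.homologyMap (tRmap (projectiveResolution X).complex g) n ≫
      HomologicalComplex.homologyMap (brC (projectiveResolution X).complex Y').hom n =
      HomologicalComplex.homologyMap (brC (projectiveResolution X).complex Y).hom n ≫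
        HomologicalComplex.homologyMap (tCmap g (projectiveResolution X).complex) n := by
    rw [← HomologicalComplex.homologyMap_comp, ← HomologicalComplex.homologyMap_comp,
      brC_naturality₂]
  have h4 := tor_map_app_eq (projectiveResolution X) g n
  simp only [α, Iso.trans_hom, Iso.app_hom, Iso.symm_hom, HomologicalComplex.homologyMapIso_hom,
    Category.assoc]
  rw [reassoc_of% h1, reassoc_of% h2, reassoc_of% h3, h4]
  simp

theorem α_naturality₁ (n : ℕ) {X X' : ModuleCat.{u} R} (f : X ⟶ X') (Y : ModuleCat.{u} R) :
    ((Tor (ModuleCat.{u} R) n).map f).app Y ≫ (α n X' Y).hom =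
      (α n X Y).hom ≫ ((Tor (ModuleCat.{u} R) n).obj Y).map f := by
  have h1 := congr_app (θP_naturality f (projectiveResolution X) (projectiveResolution X') n) Y
  rw [NatTrans.comp_app, NatTrans.comp_app] at h1
  have h2 := evalIso_naturality₁
    (ProjectiveResolution.lift f (projectiveResolution X) (projectiveResolution X')) n Y
  have h3 : HomologicalComplex.homologyMap (((tensorRight Y).mapHomologicalComplex _).map
        (ProjectiveResolution.lift f (projectiveResolution X) (projectiveResolution X'))) n ≫
      HomologicalComplex.homologyMap (brC (projectiveResolution X').complex Y).hom n =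
      HomologicalComplex.homologyMap (brC (projectiveResolution X).complex Y).hom n ≫
        HomologicalComplex.homologyMap (((tL Y).mapHomologicalComplex _).map
          (ProjectiveResolution.lift f (projectiveResolution X) (projectiveResolution X'))) n := by
    rw [← HomologicalComplex.homologyMap_comp, ← HomologicalComplex.homologyMap_comp,
      brC_naturality₁]
  have h4 := torIso_inv_naturality Y f (projectiveResolution X) (projectiveResolution X')
    (ProjectiveResolution.lift f _ _) (ProjectiveResolution.lift_commutes_zero f _ _) n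
  simp only [α, Iso.trans_hom, Iso.app_hom, Iso.symm_hom, HomologicalComplex.homologyMapIso_hom,
    Category.assoc]
  rw [reassoc_of% h1, reassoc_of% h2, reassoc_of% h3, h4]

/-- **Symmetry of `Tor` as a bifunctor.** -/
noncomputable def torFlipIso (n : ℕ) :
    Tor (ModuleCat.{u} R) n ≅ (Tor (ModuleCat.{u} R) n).flip :=
  NatIso.ofComponents
    (fun X => NatIso.ofComponents (fun Y => α n X Y) (fun g => α_naturality₂ n X g))
    (fun f => by
      ext Y : 2
      exact α_naturality₁ n f Y)

end Groth.Agent.Lib.Helper8.TorFlip
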