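import Groth.Prelude.Def_IntMult
import Groth.Agent.Lib.Helper4VarDim5
import Groth.Agent.Lib.Helper4VarDim6
import Groth.Agent.Lib.Helper4VarDim8
import Groth.Agent.Lib.Helper7TopDim
import Groth.Agent.Lib.Helper13KzSamuel
import Groth.Agent.Lib.Helper13KzTor
import Groth.Agent.Lib.Helper13KzDim
import Groth.Agent.Lib.Helper8TorFlip
import Groth.Agent.Lib.Helper20SubStalk

/-!
# Local analysis of the Tor-formula intersection multiplicity (helper2)

For ideal sheaves `IV`, `IW` on a scheme `X` locally of finite type over a field and a point `ξ`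
that is maximal (under specialization) in `V ∩ W`:
* `stalkIdeal_eq_map`: the stalk ideal is the extension of the ideal on any affine chart;
* `isMaximal_of_hmax`, `fli_of_hmax`: the only prime of `O_{X,ξ}` containing `IV_ξ + IW_ξ` is the
  maximal ideal;
* `dim_le_add`: for integral `V`, `W` meeting properly, `dim O_{X,ξ} ≤ dim O_{V,ξ} + dim O_{W,ξ}`;
* `chi_symm`, `mult_eq_chi`, `chi_eq_length_of_isWeaklyRegular`, `mult_eq_length_of_isWeaklyRegular`:
  algebraic reductions of `IntMult.mult` to helper13's Koszul Euler characteristic.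
-/

set_option autoImplicit false
set_option linter.style.haveILetI false
set_option linter.unusedSectionVars false
universe u

open AlgebraicGeometry CategoryTheory TopologicalSpace

namespace Groth.Agent.Lib.Helper2.IntMultLoc

section Stalk

variable {X : Scheme.{u}}

theorem map_germ_eq_of_le (I : X.IdealSheafData) {U V : X.affineOpens} (h : U ≤ V) (x : X)
    (hx : x ∈ U.1) :
    (I.ideal V).map (X.presheaf.germ V.1 x (h hx)).hom =
      (I.ideal U).map (X.presheaf.germ U.1 x hx).hom := by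
  rw [← I.map_ideal h, Ideal.map_map, ← CommRingCat.hom_comp]
  congr 2
  exact (X.presheaf.germ_res _ x hx).symm

theorem le_stalkIdeal (I : X.IdealSheafData) (U : X.affineOpens) (x : X) (hx : x ∈ U.1) :
    (I.ideal U).map (X.presheaf.germ U.1 x hx).hom ≤ IntMult.stalkIdeal I x :=
  le_iSup₂_of_le U hx le_rfl

theorem stalkIdeal_eq_map (I : X.IdealSheafData) (U : X.affineOpens) (x : X) (hx : x ∈ U.1) :
    IntMult.stalkIdeal I x = (I.ideal U).map (X.presheaf.germ U.1 x hx).hom := by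
  apply le_antisymm
  · refine iSup₂_le fun V hV => ?_
    obtain ⟨f, g, hfg, hxf⟩ := exists_basicOpen_le_affine_inter U.2 V.2 x ⟨hx, hV⟩
    have hWU : X.affineBasicOpen f ≤ U := X.affineBasicOpen_le f
    have hWV : X.affineBasicOpen f ≤ V := by
      show X.basicOpen f ≤ V.1
      rw [hfg]
      exact X.basicOpen_le g
    have hxW : x ∈ (X.affineBasicOpen f).1 := hxf
    rw [map_germ_eq_of_le I hWV x hxW, ← map_germ_eq_of_le I hWU x hxW]
  · exact le_stalkIdeal I U x hx

theorem stalkIdeal_le_maximalIdeal (I : X.IdealSheafData) (x : X) (hx : x ∈ I.support) :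
    IntMult.stalkIdeal I x ≤ IsLocalRing.maximalIdeal (X.presheaf.stalk x) := by
  obtain ⟨U, hU, hxU, -⟩ := exists_isAffineOpen_mem_and_subset (U := ⊤) (x := x) trivial
  rw [stalkIdeal_eq_map I ⟨U, hU⟩ x hxU, Ideal.map_le_iff_le_comap]
  intro a ha
  rw [Scheme.IdealSheafData.mem_support_iff_of_mem (U := ⟨U, hU⟩) hxU,
    Scheme.mem_zeroLocus_iff] at hx
  have h1 := hx a ha
  rw [Scheme.mem_basicOpen X a x hxU] at h1
  rw [Ideal.mem_comap, IsLocalRing.mem_maximalIdeal, mem_nonunits_iff]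
  exact h1

theorem stalkIdeal_ne_top (I : X.IdealSheafData) (x : X) (hx : x ∈ I.support) :
    IntMult.stalkIdeal I x ≠ ⊤ := by
  intro h
  have := stalkIdeal_le_maximalIdeal I x hx
  rw [h] at this
  exact (IsLocalRing.maximalIdeal.isMaximal _).ne_top (top_le_iff.mp this)

theorem isPrime_stalkIdeal (I : X.IdealSheafData) [IsIntegral I.subscheme] (x : X)
    (hx : x ∈ I.support) : (IntMult.stalkIdeal I x).IsPrime := by
  have hx' : x ∈ Set.range I.subschemeι := by
    rw [I.range_subschemeι]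
    exact hx
  obtain ⟨z, rfl⟩ := hx'
  obtain ⟨U, hU, hxU, -⟩ :=
    exists_isAffineOpen_mem_and_subset (U := ⊤) (x := I.subschemeι z) trivial
  rw [stalkIdeal_eq_map I ⟨U, hU⟩ _ hxU,
    ← Groth.Agent.Lib.Helper20.SubStalk.ker_stalkMap_subschemeι I hU z hxU]
  exact RingHom.ker_isPrime _

open Groth.Agent.Lib.Helper4.VarDim in
/-- A prime of `O_{X,ξ}` containing both stalk ideals is the maximal ideal when `ξ` is maximal
under specialization in `V ∩ W`. -/
theorem isMaximal_of_hmax (IV IW : X.IdealSheafData) (ξ : X)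
    (hmax : ∀ ξ' : X, ξ' ∈ IV.support → ξ' ∈ IW.support → ξ' ⤳ ξ → ξ' = ξ)
    (P : Ideal (X.presheaf.stalk ξ)) [P.IsPrime] (hV : IntMult.stalkIdeal IV ξ ≤ P)
    (hW : IntMult.stalkIdeal IW ξ ≤ P) :
    P = IsLocalRing.maximalIdeal (X.presheaf.stalk ξ) := by
  obtain ⟨U, hU, hξU, -⟩ := exists_isAffineOpen_mem_and_subset (U := ⊤) (x := ξ) trivial
  letI := TopCat.Presheaf.algebra_section_stalk X.presheaf ⟨ξ, hξU⟩
  haveI := hU.isLocalization_stalk ⟨ξ, hξU⟩
  set q := (hU.primeIdealOf ⟨ξ, hξU⟩).asIdeal with hq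
  set P' : Ideal Γ(X, U) := P.under Γ(X, U) with hP'
  haveI : P'.IsPrime := Ideal.IsPrime.under _ _
  set y : X := hU.fromSpec ⟨P', inferInstance⟩ with hy
  have hyU : y ∈ U := fromSpec_mem hU _
  have hpy : hU.primeIdealOf ⟨y, hyU⟩ = ⟨P', inferInstance⟩ := primeIdealOf_fromSpec hU _ hyU
  have key : ∀ (I : X.IdealSheafData), IntMult.stalkIdeal I ξ ≤ P → y ∈ I.support := by
    intro I hI
    rw [Scheme.IdealSheafData.mem_support_iff_of_mem (U := ⟨U, hU⟩) hyU, Scheme.mem_zeroLocus_iff]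
    intro a ha
    rw [← mem_primeIdealOf_iff_notMem_basicOpen hU y hyU a, hpy]
    show algebraMap Γ(X, U) (X.presheaf.stalk ξ) a ∈ P
    exact hI (le_stalkIdeal I ⟨U, hU⟩ ξ hξU (Ideal.mem_map_of_mem _ ha))
  have hsp : y ⤳ ξ := by
    rw [← primeIdealOf_le_iff hU y ξ hyU hξU, hpy]
    show P' ≤ q
    intro a ha
    have h1 : algebraMap Γ(X, U) (X.presheaf.stalk ξ) a ∈
        IsLocalRing.maximalIdeal (X.presheaf.stalk ξ) :=
      IsLocalRing.le_maximalIdeal (Ideal.IsPrime.ne_top inferInstance) ha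
    exact (IsLocalization.AtPrime.to_map_mem_maximal_iff (X.presheaf.stalk ξ) q a).mp h1
  have hyξ : y = ξ := hmax y (key IV hV) (key IW hW) hsp
  have hP'q : P' = q := by
    have h2 : hU.primeIdealOf ⟨y, hyU⟩ = hU.primeIdealOf ⟨ξ, hξU⟩ := by
      congr 1
      exact Subtype.ext hyξ
    rw [hpy] at h2
    exact congrArg PrimeSpectrum.asIdeal h2
  rw [← IsLocalization.map_under q.primeCompl (X.presheaf.stalk ξ) P]
  show Ideal.map _ P' = _
  rw [hP'q]
  exact IsLocalization.AtPrime.map_eq_maximalIdeal q (X.presheaf.stalk ξ)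

theorem fli_of_hmax (IV IW : X.IdealSheafData) (ξ : X)
    (hmax : ∀ ξ' : X, ξ' ∈ IV.support → ξ' ∈ IW.support → ξ' ⤳ ξ → ξ' = ξ) :
    Groth.Agent.Helper13Kz.FLI (IntMult.stalkIdeal IV ξ)
      (X.presheaf.stalk ξ ⧸ IntMult.stalkIdeal IW ξ) := by
  intro p hp hle
  have h1 : IntMult.stalkIdeal IW ξ ≤ p.asIdeal := by
    have := Module.annihilator_le_of_mem_support hp
    rwa [Ideal.annihilator_quotient] at this
  rw [isMaximal_of_hmax IV IW ξ hmax p.asIdeal hle h1]
  exact IsLocalRing.maximalIdeal.isMaximal _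

end Stalk

section RingLemmas

theorem height_map_le_ringKrullDim_quotient {A R : Type*} [CommRing A] [CommRing R] [Algebra A R]
    (p q a : Ideal A) [p.IsPrime] [q.IsPrime] [IsLocalization.AtPrime R q] (hap : a ≤ p)
    (hpq : p ≤ q) :
    ((q.map (Ideal.Quotient.mk p)).height : WithBot ℕ∞) ≤
      ringKrullDim (R ⧸ a.map (algebraMap A R)) := by
  haveI hP : (q.map (Ideal.Quotient.mk p)).IsPrime :=
    Ideal.map_isPrime_of_surjective Ideal.Quotient.mk_surjective (by rwa [Ideal.mk_ker])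
  have hsub : Algebra.algebraMapSubmonoid (A ⧸ p) q.primeCompl =
      (q.map (Ideal.Quotient.mk p)).primeCompl := by
    ext x
    constructor
    · rintro ⟨y, hy, rfl⟩
      show ¬ (Ideal.Quotient.mk p y ∈ Ideal.map (Ideal.Quotient.mk p) q)
      rw [Ideal.mem_quotient_iff_mem hpq]
      exact hy
    · intro hx
      obtain ⟨y, rfl⟩ := Ideal.Quotient.mk_surjective x
      refine ⟨y, ?_, rfl⟩
      show y ∉ q
      intro hy
      exact hx (Ideal.mem_map_of_mem _ hy)
  haveI : IsLocalization.AtPrime (R ⧸ p.map (algebraMap A R)) (q.map (Ideal.Quotient.mk p)) := by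
    show IsLocalization _ _
    rw [← hsub]
    infer_instance
  have h1 := IsLocalization.AtPrime.ringKrullDim_eq_height (q.map (Ideal.Quotient.mk p))
    (R ⧸ p.map (algebraMap A R))
  rw [← h1]
  exact ringKrullDim_le_of_surjective (Ideal.Quotient.factor (Ideal.map_mono hap))
    (Ideal.Quotient.factor_surjective _)

theorem exists_nat_ringKrullDim_quotient {R : Type*} [CommRing R] (d : ℕ)
    (hd : ringKrullDim R = d) (J : Ideal R) (hJ : J ≠ ⊤) :
    ∃ b : ℕ, ringKrullDim (R ⧸ J) = b ∧ b ≤ d := by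
  haveI : Nontrivial (R ⧸ J) := Ideal.Quotient.nontrivial_iff.mpr hJ
  have h0 : 0 ≤ ringKrullDim (R ⧸ J) := ringKrullDim_nonneg_of_nontrivial
  have h1 : ringKrullDim (R ⧸ J) ≤ d := hd ▸ ringKrullDim_quotient_le J
  generalize ringKrullDim (R ⧸ J) = x at h0 h1
  induction x using WithBot.recBotCoe with
  | bot => exact absurd h0 (by simp)
  | coe a =>
    have h2 : a ≤ (d : ℕ∞) := by exact_mod_cast h1
    lift a to ℕ using (ne_top_of_le_ne_top (ENat.natCast_ne_top d) h2)
    exact ⟨a, by norm_cast, by exact_mod_cast h2⟩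

theorem length_quot_smul_top {R : Type*} [CommRing R] (J I : Ideal R) :
    Module.length R ((R ⧸ J) ⧸ (I • (⊤ : Submodule R (R ⧸ J)))) =
      Module.length R (R ⧸ (J ⊔ I)) := by
  have h : I • (⊤ : Submodule R (R ⧸ J)) = Submodule.map (Submodule.mkQ J) I := by
    have h2 : (I • (⊤ : Submodule R R) : Submodule R R) = I := by
      rw [smul_eq_mul, Ideal.mul_top]
    conv_rhs => rw [← h2]
    rw [Submodule.map_smul'', Submodule.map_top, Submodule.range_mkQ]
  exact ((Submodule.quotEquivOfEq _ _ h).trans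
    (Submodule.quotientQuotientEquivQuotientSup J I)).length_eq

end RingLemmas

section Chi

open RingTheory.Sequence

theorem chi_symm (A : Type u) [CommRing A] (M N : Type u) [AddCommGroup M] [Module A M]
    [AddCommGroup N] [Module A N] : IntMult.chi A M N = IntMult.chi A N M := by
  unfold IntMult.chi
  refine finsum_congr fun i => ?_
  have h' : Module.length A (DRing.Tor A i M N) = Module.length A (DRing.Tor A i N M) :=
    (Groth.Agent.Lib.Helper8.TorFlip.α i (ModuleCat.of A M) (ModuleCat.of A N)).toLinearEquiv.length_eq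
  rw [h']

theorem chi_eq_length_of_isWeaklyRegular {A : Type u} [CommRing A] (l : List A) :
    ∀ (M : Type u) [AddCommGroup M] [Module A M], IsWeaklyRegular M l →
      Groth.Agent.Helper13Kz.chi l M =
        ((Module.length A (M ⧸ Ideal.ofList l • (⊤ : Submodule A M))).toNat : ℤ) := by
  induction l with
  | nil =>
    intro M _ _ _
    rw [Groth.Agent.Helper13Kz.chi_nil]
    have e0 : (M ⧸ (Ideal.ofList ([] : List A) • (⊤ : Submodule A M))) ≃ₗ[A] M :=
      Submodule.quotEquivOfEqBot _ (by rw [Ideal.ofList_nil, Submodule.bot_smul])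
    rw [e0.length_eq]
  | cons x l ih =>
    intro M _ _ h
    rw [isWeaklyRegular_cons_iff] at h
    rw [Groth.Agent.Helper13Kz.chi_cons_of_regular l x h.1, ih _ h.2,
      (Submodule.quotOfListConsSMulTopEquivQuotSMulTopInner M x l).length_eq]

theorem mult_eq_chi {X : Scheme.{u}} (IV IW : X.IdealSheafData) (ξ : X)
    (l : List (X.presheaf.stalk ξ)) (hI : IntMult.stalkIdeal IV ξ = Ideal.ofList l)
    (hl : IsWeaklyRegular (X.presheaf.stalk ξ) l) :
    IntMult.mult IV IW ξ =
      Groth.Agent.Helper13Kz.chi l (X.presheaf.stalk ξ ⧸ IntMult.stalkIdeal IW ξ) := by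
  unfold IntMult.mult
  rw [chi_symm, hI]
  exact Groth.Agent.Helper13Kz.intMult_chi_eq_chi l hl _

theorem mult_eq_length_of_isWeaklyRegular {X : Scheme.{u}} (IV IW : X.IdealSheafData) (ξ : X)
    (l : List (X.presheaf.stalk ξ)) (hI : IntMult.stalkIdeal IV ξ = Ideal.ofList l)
    (h1 : IsWeaklyRegular (X.presheaf.stalk ξ) l)
    (h2 : IsWeaklyRegular (X.presheaf.stalk ξ ⧸ IntMult.stalkIdeal IW ξ) l) :
    (IntMult.mult IV IW ξ : ℤ) =
      (Module.length (X.presheaf.stalk ξ)
        (X.presheaf.stalk ξ ⧸ (IntMult.stalkIdeal IW ξ ⊔ IntMult.stalkIdeal IV ξ))).toNat := by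
  rw [mult_eq_chi IV IW ξ l hI h1, chi_eq_length_of_isWeaklyRegular l _ h2, length_quot_smul_top,
    hI]

end Chi

section Dim

variable (K : Type u) [Field K] (X : Scheme.{u}) [X.Over (Spec (CommRingCat.of K))]
  [LocallyOfFiniteType (X ↘ Spec (CommRingCat.of K))]

attribute [local instance] Groth.Agent.Lib.Helper4.VarDim.sectionsAlgebra Curv2.resAlgebra

open Groth.Agent.Lib.Helper4.VarDim

include K in
theorem isNoetherianRing_stalk (x : X) : IsNoetherianRing (X.presheaf.stalk x) := by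
  obtain ⟨U, hU, hxU, -⟩ := exists_isAffineOpen_mem_and_subset (U := ⊤) (x := x) trivial
  haveI := finiteType_sections K X hU
  haveI : IsNoetherianRing Γ(X, U) := Algebra.FiniteType.isNoetherianRing K Γ(X, U)
  letI := TopCat.Presheaf.algebra_section_stalk X.presheaf ⟨x, hxU⟩
  haveI := hU.isLocalization_stalk ⟨x, hxU⟩
  exact IsLocalization.isNoetherianRing (hU.primeIdealOf ⟨x, hxU⟩).asIdeal.primeCompl _
    inferInstance

theorem trdegNat_le_of_specializes_of_mem_support (I : X.IdealSheafData) (η ξ : X) (h : η ⤳ ξ)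
    (hη : η ∈ I.support) (b : ℕ)
    (hb : ringKrullDim (X.presheaf.stalk ξ ⧸ IntMult.stalkIdeal I ξ) = b) :
    trdegNat K X η ≤ b + trdegNat K X ξ := by
  obtain ⟨U, hU, hξU, -⟩ := exists_isAffineOpen_mem_and_subset (U := ⊤) (x := ξ) trivial
  have hηU : η ∈ U := h.mem_open U.isOpen hξU
  haveI := finiteType_sections K X hU
  have hpq : (hU.primeIdealOf ⟨η, hηU⟩).asIdeal ≤ (hU.primeIdealOf ⟨ξ, hξU⟩).asIdeal :=
    (primeIdealOf_le_iff hU η ξ hηU hξU).mpr h
  obtain ⟨m, c, hcm, h1, h2, h3⟩ := exists_height_quotient (k := K) _ _ hpq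
  obtain ⟨n1, hn1, hn1'⟩ := exists_trdeg_eq_dim K X hU η hηU
  obtain ⟨n2, hn2, hn2'⟩ := exists_trdeg_eq_dim K X hU ξ hξU
  have e1 : n1 = m := by
    have := hn1'.symm.trans h1
    exact_mod_cast this
  have e2 : n2 = m - c := by
    have := hn2'.symm.trans h3
    exact_mod_cast this
  rw [trdegNat_eq_of_trdeg_eq K X η n1 hn1, trdegNat_eq_of_trdeg_eq K X ξ n2 hn2]
  have hap : I.ideal ⟨U, hU⟩ ≤ (hU.primeIdealOf ⟨η, hηU⟩).asIdeal := by
    intro a ha
    rw [mem_primeIdealOf_iff_notMem_basicOpen hU η hηU a]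
    rw [Scheme.IdealSheafData.mem_support_iff_of_mem (U := ⟨U, hU⟩) hηU,
      Scheme.mem_zeroLocus_iff] at hη
    exact hη a ha
  letI := TopCat.Presheaf.algebra_section_stalk X.presheaf ⟨ξ, hξU⟩
  haveI := hU.isLocalization_stalk ⟨ξ, hξU⟩
  have h4 := height_map_le_ringKrullDim_quotient (R := X.presheaf.stalk ξ) _ _
    (I.ideal ⟨U, hU⟩) hap hpq
  have e : (I.ideal ⟨U, hU⟩).map (algebraMap Γ(X, U) (X.presheaf.stalk ξ)) =
      IntMult.stalkIdeal I ξ := (stalkIdeal_eq_map I ⟨U, hU⟩ ξ hξU).symm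
  rw [e, hb, h2] at h4
  have : c ≤ b := by exact_mod_cast h4
  omega

theorem exists_generic_of_integral (I : X.IdealSheafData) [IsIntegral I.subscheme] (r : ℕ)
    (hr : topologicalKrullDim (I.support : Set X) = r) (ξ : X) (hξ : ξ ∈ I.support) :
    ∃ η : X, η ⤳ ξ ∧ η ∈ I.support ∧ r ≤ trdegNat K X η := by
  have hrange : Set.range I.subschemeι = (I.support : Set X) := I.range_subschemeι
  set η : X := I.subschemeι (genericPoint I.subscheme) with hη
  have hgen : ∀ y ∈ (I.support : Set X), η ⤳ y := by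
    intro y hy
    rw [← hrange] at hy
    obtain ⟨z, rfl⟩ := hy
    exact (genericPoint_specializes z).map I.subschemeι.continuous
  refine ⟨η, hgen ξ hξ, ?_, ?_⟩
  · rw [← SetLike.mem_coe, ← hrange]
    exact ⟨_, rfl⟩
  · have h1 := topologicalKrullDim_eq_iSup_trdegNat_of_isLocallyClosed K X (I.support : Set X)
      I.support.isClosed.isLocallyClosed
    rw [hr] at h1
    have h2 : ((r : ℕ) : WithBot ℕ∞) ≤ ((trdegNat K X η : ℕ) : WithBot ℕ∞) := by
      rw [h1]
      refine iSup_le fun t => ?_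
      exact_mod_cast trdegNat_le_of_specializes K X η t (hgen t t.2)
    exact_mod_cast h2

include K in
theorem dim_le_add (IV IW : X.IdealSheafData) [IsIntegral IV.subscheme]
    [IsIntegral IW.subscheme] (n r s : ℕ) (hn : topologicalKrullDim X = n)
    (hr : topologicalKrullDim (IV.support : Set X) = r)
    (hs : topologicalKrullDim (IW.support : Set X) = s)
    (hprop : IntMult.ProperInt (IV.support : Set X) (IW.support : Set X) n r s)
    (ξ : X) (hξV : ξ ∈ IV.support) (hξW : ξ ∈ IW.support)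
    (d bV bW : ℕ) (hd : ringKrullDim (X.presheaf.stalk ξ) = d)
    (hbV : ringKrullDim (X.presheaf.stalk ξ ⧸ IntMult.stalkIdeal IV ξ) = bV)
    (hbW : ringKrullDim (X.presheaf.stalk ξ ⧸ IntMult.stalkIdeal IW ξ) = bW) :
    d ≤ bV + bW := by
  obtain ⟨ηV, hV1, hV2, hV3⟩ := exists_generic_of_integral K X IV r hr ξ hξV
  obtain ⟨ηW, hW1, hW2, hW3⟩ := exists_generic_of_integral K X IW s hs ξ hξW
  have h1 := trdegNat_le_of_specializes_of_mem_support K X IV ηV ξ hV1 hV2 bV hbV
  have h2 := trdegNat_le_of_specializes_of_mem_support K X IW ηW ξ hW1 hW2 bW hbW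
  obtain ⟨h3, h4⟩ := hprop ⟨ξ, hξV, hξW⟩
  have h5 := trdegNat_le_topologicalKrullDim_of_isLocallyClosed K X
    ((IV.support : Set X) ∩ (IW.support : Set X))
    (IV.support.isClosed.inter IW.support.isClosed).isLocallyClosed ξ ⟨hξV, hξW⟩
  have h6 : trdegNat K X ξ ≤ r + s - n := by
    have := h5.trans h4
    exact_mod_cast this
  have h7 : trdegNat K X ξ + d ≤ n := by
    have e1 := localDim_eq_add K X ξ (trdegNat K X ξ) d (trdeg_eq_trdegNat K X ξ) hd
    have e2 := Groth.Agent.Lib.Helper7.TopDim.localDim_le_dim ξ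
    rw [e1, hn] at e2
    exact_mod_cast e2
  omega

end Dim

/-- **Core local input** for the Tor-formula multiplicity at a maximal point `ξ` of `V ∩ W` on a
scheme locally of finite type over a field: `O_{X,ξ}` is Noetherian, every prime over
`IV_ξ + IW_ξ` is maximal, and `dim O_{X,ξ} ≤ dim O_{V,ξ} + dim O_{W,ξ}`. -/
theorem core (K : Type u) [Field K] (X : Scheme.{u}) (f : X ⟶ Spec (CommRingCat.of K))
    [LocallyOfFiniteType f] (IV IW : X.IdealSheafData) [IsIntegral IV.subscheme]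
    [IsIntegral IW.subscheme] (n r s : ℕ) (hn : topologicalKrullDim X = n)
    (hr : topologicalKrullDim IV.support = r) (hs : topologicalKrullDim IW.support = s)
    (hprop : IntMult.ProperInt (IV.support : Set X) (IW.support : Set X) n r s) (ξ : X)
    (hξV : ξ ∈ IV.support) (hξW : ξ ∈ IW.support)
    (hmax : ∀ ξ' : X, ξ' ∈ IV.support → ξ' ∈ IW.support → ξ' ⤳ ξ → ξ' = ξ) :
    IsNoetherianRing (X.presheaf.stalk ξ) ∧
      Groth.Agent.Helper13Kz.FLI (IntMult.stalkIdeal IV ξ)
        (X.presheaf.stalk ξ ⧸ IntMult.stalkIdeal IW ξ) ∧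
      ∃ d bV bW : ℕ, ringKrullDim (X.presheaf.stalk ξ) = d ∧
        ringKrullDim (X.presheaf.stalk ξ ⧸ IntMult.stalkIdeal IV ξ) = bV ∧
        ringKrullDim (X.presheaf.stalk ξ ⧸ IntMult.stalkIdeal IW ξ) = bW ∧ d ≤ bV + bW := by
  letI : X.Over (Spec (CommRingCat.of K)) := ⟨f⟩
  haveI : LocallyOfFiniteType (X ↘ Spec (CommRingCat.of K)) := ‹LocallyOfFiniteType f›
  refine ⟨isNoetherianRing_stalk K X ξ, fli_of_hmax IV IW ξ hmax, ?_⟩
  obtain ⟨d, hd⟩ := Groth.Agent.Lib.Helper4.VarDim.exists_ringKrullDim_stalk_eq K X ξ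
  obtain ⟨bV, hbV, -⟩ := exists_nat_ringKrullDim_quotient d hd _ (stalkIdeal_ne_top IV ξ hξV)
  obtain ⟨bW, hbW, -⟩ := exists_nat_ringKrullDim_quotient d hd _ (stalkIdeal_ne_top IW ξ hξW)
  exact ⟨d, bV, bW, hd, hbV, hbW,
    dim_le_add K X IV IW n r s hn hr hs hprop ξ hξV hξW d bV bW hd hbV hbW⟩

end Groth.Agent.Lib.Helper2.IntMultLoc
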