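import Mathlib
import Groth.Prelude.Def_IntMult
import Groth.Agent.Lib.Helper13Acyc
import Groth.Agent.Lib.Helper13ABLocal
import Groth.Agent.Lib.Helper8TorFlip
import Groth.Agent.Lib.Helper5RLR3
import Groth.Agent.Lib.Helper28FlatNormal
import Groth.Agent.Lib.Helper28Depth
import Groth.Agent.Lib.Helper28DepthLoc
import Groth.Agent.Lib.Helper2IntMultLoc
import Groth.Agent.S0563
import Groth.Agent.S0604

/-!
# Vanishing of higher Tor for Cohen–Macaulay modules meeting properly (helper2)

* `isZero_HN_of_regular`, `isZero_tor_of_regular`: over a local ring, if `pd X ≤ p`, `Y` has a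
  regular sequence of length `≥ p` in the maximal ideal and `Tor_i(X, Y)` (`i ≥ 1`) is killed by a
  power of the maximal ideal, then `Tor_i(X, Y) = 0` for `i ≥ 1` (Peskine–Szpiro / Auslander, via
  helper13's socle-shifting `Soc.iter`).
* `chi_eq_length_of_isZero_tor`: then `IntMult.chi = length (X ⊗ Y)`.
* `chi_eq_length_of_CM`: Serre's formula `χ(R/I, R/J) = length R/(I+J)` over a regular local ring for
  Cohen–Macaulay quotients with `dim R ≤ dim R/I + dim R/J` and `I + J` primary to the maximal ideal.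
-/

set_option autoImplicit false
set_option linter.style.haveILetI false
set_option linter.unusedSectionVars false

open CategoryTheory CategoryTheory.Limits MonoidalCategory

namespace Groth.Agent.Lib.Helper2.IntMultCM

open Groth.Agent.Helper13Tor Groth.Agent.Helper13Acyc Groth.Agent.Lib.Helper8.TorFlip

universe u
variable {A : Type u} [CommRing A]

/-- `Tor_n(X, N) ≅ H_n(P ⊗ N)` for a projective resolution `P` of `X`. -/
noncomputable def torHN {X : ModuleCat.{u} A} (P : ProjectiveResolution X) (N : Type u)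
    [AddCommGroup N] [Module A N] (n : ℕ) :
    ((Tor (ModuleCat.{u} A) n).obj X).obj (ModuleCat.of A N) ≅ HN P.complex N n :=
  (θP P n).app (ModuleCat.of A N) ≪≫ evalIso P.complex n (ModuleCat.of A N)

theorem smul_HN_eq_zero (P : ChainComplex (ModuleCat.{u} A) ℕ) (N : Type u) [AddCommGroup N]
    [Module A N] (r : A) (hr : ∀ y : N, r • y = 0) (i : ℕ) (ξ : HN P N i) : r • ξ = 0 := by
  have h0 : (r • 𝟙 (ModuleCat.of A N) : ModuleCat.of A N ⟶ ModuleCat.of A N) = 0 := by
    apply ModuleCat.hom_ext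
    apply LinearMap.ext
    intro y
    show r • y = 0
    exact hr y
  have h1 : HomologicalComplex.homologyMap (tRmap P (r • 𝟙 (ModuleCat.of A N))) i =
      r • 𝟙 (HN P N i) := by
    rw [tRmap_smul_id, homologyMap_smul_id]
  have h2 : tRmap P (0 : ModuleCat.of A N ⟶ ModuleCat.of A N) = 0 := by
    refine HomologicalComplex.hom_ext _ _ fun j => ?_
    show P.X j ◁ (0 : ModuleCat.of A N ⟶ ModuleCat.of A N) = 0
    simp
  rw [h0, h2, HomologicalComplex.homologyMap_zero] at h1
  have h3 : (r • 𝟙 (HN P N i) : HN P N i ⟶ HN P N i).hom ξ = 0 := by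
    rw [← h1]
    rfl
  exact h3

theorem exists_socle_of_pow_smul {T : Type*} [AddCommGroup T] [Module A T] (𝔪 : Ideal A) :
    ∀ (k : ℕ) (ξ : T), ξ ≠ 0 → (∀ a ∈ 𝔪 ^ k, a • ξ = 0) →
      ∃ ξ' : T, ξ' ≠ 0 ∧ ∀ m ∈ 𝔪, m • ξ' = 0 := by
  intro k
  induction k with
  | zero =>
    intro ξ hξ h
    exact absurd (by simpa using h 1 (by simp)) hξ
  | succ k ih =>
    intro ξ hξ h
    by_cases hall : ∀ m ∈ 𝔪, m • ξ = 0
    · exact ⟨ξ, hξ, hall⟩
    · push Not at hall
      obtain ⟨m, hm, hmξ⟩ := hall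
      refine ih (m • ξ) hmξ ?_
      intro a ha
      rw [smul_smul]
      exact h (a * m) (by rw [pow_succ]; exact Ideal.mul_mem_mul ha hm)

theorem isZero_HN_of_regular [IsLocalRing A] (P : ChainComplex (ModuleCat.{u} A) ℕ)
    (hP : ∀ j, Projective (P.X j)) (p : ℕ)
    (hvan : ∀ (N' : Type u) [AddCommGroup N'] [Module A N'] (i : ℕ), p < i → IsZero (HN P N' i))
    (N : Type u) [AddCommGroup N] [Module A N] (rs : List A)
    (hrs : RingTheory.Sequence.IsWeaklyRegular N rs)
    (hmem : ∀ r ∈ rs, r ∈ IsLocalRing.maximalIdeal A) (hlen : p ≤ rs.length)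
    (htors : ∀ i, 1 ≤ i → ∀ ξ : HN P N i, ∃ k, ∀ a ∈ IsLocalRing.maximalIdeal A ^ k, a • ξ = 0) :
    ∀ i, 1 ≤ i → IsZero (HN P N i) := by
  have key : ∀ n i : ℕ, p + 1 ≤ i + n → 1 ≤ i → IsZero (HN P N i) := by
    intro n
    induction n with
    | zero =>
      intro i hi _
      exact hvan N i (by omega)
    | succ n ih =>
      intro i hi h1
      by_contra hnz
      have hvan' : ∀ i', i < i' → IsZero (HN P N i') := fun i' hi' =>
        ih i' (by omega) (by omega)
      have hnt : ∃ ξ : HN P N i, ξ ≠ 0 := by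
        by_contra hall
        push Not at hall
        apply hnz
        haveI : Subsingleton (HN P N i) := ⟨fun a b => by rw [hall a, hall b]⟩
        exact ModuleCat.isZero_of_subsingleton _
      obtain ⟨ξ, hξ⟩ := hnt
      obtain ⟨k, hk⟩ := htors i h1 ξ
      obtain ⟨ξ', hξ', hsoc⟩ := exists_socle_of_pow_smul _ k ξ hξ hk
      have hS : Soc P (IsLocalRing.maximalIdeal A) N i := ⟨hvan', ξ', hξ', hsoc⟩
      have hS' := hS.iter hP hrs hmem
      obtain ⟨η, hη, -⟩ := hS'.soc
      have hz := hvan (N ⧸ (Ideal.ofList rs • (⊤ : Submodule A N))) (i + rs.length) (by omega)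
      haveI := ModuleCat.subsingleton_of_isZero hz
      exact hη (Subsingleton.elim _ _)
  intro i hi
  exact key (p + 1) i (by omega) hi

theorem isZero_tor_of_regular [IsLocalRing A] (X Y : Type u) [AddCommGroup X] [Module A X]
    [AddCommGroup Y] [Module A Y] (p : ℕ)
    (hX : HasProjectiveDimensionLT (ModuleCat.of A X) (p + 1)) (rs : List A)
    (hrs : RingTheory.Sequence.IsWeaklyRegular Y rs)
    (hmem : ∀ r ∈ rs, r ∈ IsLocalRing.maximalIdeal A) (hlen : p ≤ rs.length)
    (IX IY : Ideal A) (hIX : ∀ a ∈ IX, ∀ x : X, a • x = 0) (hIY : ∀ a ∈ IY, ∀ y : Y, a • y = 0)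
    (k : ℕ) (hk : IsLocalRing.maximalIdeal A ^ k ≤ IX ⊔ IY) :
    ∀ i, 1 ≤ i →
      IsZero (((Tor (ModuleCat.{u} A) i).obj (ModuleCat.of A X)).obj (ModuleCat.of A Y)) := by
  let P := projectiveResolution (ModuleCat.of A X)
  let Q := projectiveResolution (ModuleCat.of A Y)
  have hP : ∀ j, Projective (P.complex.X j) := P.projective
  have hvan : ∀ (N' : Type u) [AddCommGroup N'] [Module A N'] (i : ℕ), p < i →
      IsZero (HN P.complex N' i) := by
    intro N' _ _ i hi
    exact (Groth.Agent.Helper13ABLocal.isZero_tor_of_pdLT₁ (ModuleCat.of A N') p _ hX i hi).of_iso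
      (torHN P N' i).symm
  have htors : ∀ i, 1 ≤ i → ∀ ξ : HN P.complex Y i,
      ∃ k, ∀ a ∈ IsLocalRing.maximalIdeal A ^ k, a • ξ = 0 := by
    intro i _ ξ
    refine ⟨k, fun a ha => ?_⟩
    obtain ⟨b, hb, c, hc, rfl⟩ := Submodule.mem_sup.mp (hk ha)
    rw [add_smul]
    have h1 : c • ξ = 0 := smul_HN_eq_zero P.complex Y c (hIY c hc) i ξ
    have h2 : b • ξ = 0 := by
      let Φ : HN P.complex Y i ≅ HN Q.complex X i :=
        (torHN P Y i).symm ≪≫ α i (ModuleCat.of A X) (ModuleCat.of A Y) ≪≫ torHN Q X i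
      have h3 : Φ.toLinearEquiv (b • ξ) = 0 := by
        rw [map_smul]
        exact smul_HN_eq_zero Q.complex X b (hIX b hb) i _
      exact Φ.toLinearEquiv.map_eq_zero_iff.mp h3
    rw [h1, h2, add_zero]
  have hz := isZero_HN_of_regular P.complex hP p hvan Y rs hrs hmem hlen htors
  intro i hi
  exact (hz i hi).of_iso (torHN P Y i)

theorem chi_eq_length_of_isZero_tor (X Y : Type u) [AddCommGroup X] [Module A X]
    [AddCommGroup Y] [Module A Y]
    (h : ∀ i, 1 ≤ i →
      IsZero (((Tor (ModuleCat.{u} A) i).obj (ModuleCat.of A X)).obj (ModuleCat.of A Y))) :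
    IntMult.chi A X Y = ((Module.length A (TensorProduct A X Y)).toNat : ℤ) := by
  unfold IntMult.chi
  rw [finsum_eq_single _ 0]
  · rw [pow_zero, one_mul]
    have e : Module.length A (DRing.Tor A 0 X Y) = Module.length A (TensorProduct A X Y) :=
      ((torZeroIso.app (ModuleCat.of A X)).app (ModuleCat.of A Y)).toLinearEquiv.length_eq
    rw [e]
  · intro i hi
    have hz := h i (Nat.one_le_iff_ne_zero.mpr hi)
    haveI := ModuleCat.subsingleton_of_isZero hz
    have e : Module.length A (DRing.Tor A i X Y) = 0 := Module.length_eq_zero_iff.mpr this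
    rw [e]
    simp

section Regular

variable (R : Type u) [CommRing R] [IsRegularLocalRing R]

/-- **Serre's formula for Cohen–Macaulay quotients**: over a regular local ring `R`, if `R/IX` and
`R/IY` are Cohen–Macaulay, `dim R ≤ dim R/IX + dim R/IY` and the maximal ideal is the only prime
over `IX + IY`, then `χ(R/IX, R/IY) = length R/(IY + IX)`. -/
theorem chi_eq_length_of_CM (IX IY : Ideal R) (hX : IX ≠ ⊤) (hY : IY ≠ ⊤)
    (hCMX : LocCoh.IsCohenMacaulayLocalRing (R ⧸ IX))
    (hCMY : LocCoh.IsCohenMacaulayLocalRing (R ⧸ IY)) (d bX bY : ℕ)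
    (hd : ringKrullDim R = d) (hbX : ringKrullDim (R ⧸ IX) = bX)
    (hbY : ringKrullDim (R ⧸ IY) = bY) (hle : d ≤ bX + bY)
    (hmax : ∀ P : Ideal R, P.IsPrime → IX ≤ P → IY ≤ P → P = IsLocalRing.maximalIdeal R) :
    IntMult.chi R (R ⧸ IX) (R ⧸ IY) = ((Module.length R (R ⧸ (IY ⊔ IX))).toNat : ℤ) := by
  haveI : Nontrivial (R ⧸ IX) := Ideal.Quotient.nontrivial_iff.mpr hX
  haveI : Nontrivial (R ⧸ IY) := Ideal.Quotient.nontrivial_iff.mpr hY
  -- depths
  have hCMR := Groth.Agent.Lib.Helper5.isCohenMacaulayLocalRing_of_isRegularLocalRing R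
  have hdepR : LocCoh.depth R R = (d : ℕ∞) := by
    have h1 := hCMR.supportDim_eq_depth
    rw [Module.supportDim_self_eq_ringKrullDim, hd] at h1
    exact_mod_cast h1.symm
  have hdepX : LocCoh.depth R (R ⧸ IX) = (bX : ℕ∞) := by
    haveI := hCMX.toIsLocalRing
    have h2 := hCMX.supportDim_eq_depth
    rw [Module.supportDim_self_eq_ringKrullDim, hbX,
      Groth.Agent.Lib.Helper28.depth_quotient_self_eq IX] at h2
    exact_mod_cast h2.symm
  have hdepY : LocCoh.depth R (R ⧸ IY) = (bY : ℕ∞) := by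
    haveI := hCMY.toIsLocalRing
    have h2 := hCMY.supportDim_eq_depth
    rw [Module.supportDim_self_eq_ringKrullDim, hbY,
      Groth.Agent.Lib.Helper28.depth_quotient_self_eq IY] at h2
    exact_mod_cast h2.symm
  -- projective dimension of `R/IX`
  have hpdX : HasProjectiveDimensionLT (ModuleCat.of R (R ⧸ IX)) (d + 1) :=
    Groth.Agent.S0563.result R d hd (R ⧸ IX)
  obtain ⟨e, he⟩ : ∃ e : ℕ, projectiveDimension (ModuleCat.of R (R ⧸ IX)) = e := by
    have h1 := projectiveDimension_lt_iff.mpr hpdX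
    have h2 : projectiveDimension (ModuleCat.of R (R ⧸ IX)) ≠ ⊥ := by
      rw [Ne, projectiveDimension_eq_bot_iff, ModuleCat.isZero_iff_subsingleton]
      exact not_subsingleton _
    generalize projectiveDimension (ModuleCat.of R (R ⧸ IX)) = x at h1 h2
    induction x using WithBot.recBotCoe with
    | bot => exact absurd rfl h2
    | coe a =>
      have h3 : a < ((d + 1 : ℕ) : ℕ∞) := by exact_mod_cast h1
      lift a to ℕ using (ne_top_of_lt h3)
      exact ⟨a, by norm_cast⟩
  have hAB := Groth.Agent.S0604.result R (R ⧸ IX) e he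
  rw [hdepR, hdepX] at hAB
  have hAB' : d = e + bX := by exact_mod_cast hAB
  have hpe : HasProjectiveDimensionLT (ModuleCat.of R (R ⧸ IX)) (e + 1) := by
    rw [← projectiveDimension_lt_iff, he]
    exact_mod_cast Nat.lt_succ_self e
  -- a regular sequence of length `e` on `R/IY`
  have hne := Groth.Agent.Lib.Helper28.maximalIdeal_smul_top_ne_top (R := R) (M := R ⧸ IY)
  have heY : (e : ℕ∞) ≤ LocCoh.idealDepth (IsLocalRing.maximalIdeal R) (R ⧸ IY) := by
    have : LocCoh.idealDepth (IsLocalRing.maximalIdeal R) (R ⧸ IY) = (bY : ℕ∞) := hdepY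
    rw [this]
    exact_mod_cast (show e ≤ bY by omega)
  obtain ⟨rs, hlen, hmem, hreg⟩ :=
    (Groth.Agent.Lib.Helper28.natCast_le_idealDepth_iff hne e).mp heY
  -- a power of the maximal ideal lies in `IX + IY`
  obtain ⟨k, hk⟩ : ∃ k, IsLocalRing.maximalIdeal R ^ k ≤ IX ⊔ IY := by
    apply Ideal.exists_pow_le_of_le_radical_of_fg _ (IsNoetherian.noetherian _)
    rw [Ideal.radical_eq_sInf]
    refine le_sInf ?_
    rintro P ⟨hP1, hP2⟩
    rw [hmax P hP2 (le_sup_left.trans hP1) (le_sup_right.trans hP1)]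
  have hzero := isZero_tor_of_regular (A := R) (R ⧸ IX) (R ⧸ IY) e hpe rs
    hreg.toIsWeaklyRegular hmem hlen.ge IX IY
    (fun a ha x => by
      obtain ⟨y, rfl⟩ := Ideal.Quotient.mk_surjective x
      show Ideal.Quotient.mk IX (a * y) = 0
      exact Ideal.Quotient.eq_zero_iff_mem.mpr (IX.mul_mem_right y ha))
    (fun a ha x => by
      obtain ⟨y, rfl⟩ := Ideal.Quotient.mk_surjective x
      show Ideal.Quotient.mk IY (a * y) = 0
      exact Ideal.Quotient.eq_zero_iff_mem.mpr (IY.mul_mem_right y ha))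
    k hk
  rw [chi_eq_length_of_isZero_tor (R ⧸ IX) (R ⧸ IY) hzero,
    (TensorProduct.quotTensorEquivQuotSMul (R ⧸ IY) IX).length_eq,
    Groth.Agent.Lib.Helper2.IntMultLoc.length_quot_smul_top]

end Regular

end Groth.Agent.Lib.Helper2.IntMultCM
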