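import Mathlib
import Groth.Prelude.Def_IntMult
import Groth.Agent.Lib.Helper13TorBC2
import Groth.Agent.Lib.Helper13TorBC3
import Groth.Agent.Lib.Helper8TorFlip
import Groth.Agent.Lib.Helper2IntMultCM

/-!
# Generic lemmas for the reduction to the diagonal of `Tor` (helper2)

* `length_eq_of_forall_exists_smul`: `length_S M = length_R' M` when every scalar of `R'` acts on `M`
  like some scalar of `S`.
* `eQuot`: `A' ⊗_A (A/I) ≅ A'/IA'` in `ModuleCat A'` (as the object `extendScalars`).
* `torBC_left`, `torBC_right`: helper13's base change isomorphisms for `Tor` with cyclic arguments.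
* `smul_tor_eq_zero`: a scalar killing `X` kills `Tor_n(X, Y)`.
-/

set_option autoImplicit false
set_option linter.style.haveILetI false
set_option linter.unusedSectionVars false

open CategoryTheory CategoryTheory.Limits MonoidalCategory

namespace Groth.Agent.Lib.Helper2.DiagTor

open Groth.Agent.Helper13Tor Groth.Agent.Helper13Acyc Groth.Agent.Lib.Helper8.TorFlip
  Groth.Agent.Lib.Helper2.IntMultCM Groth.Agent.Helper13TorBC

universe u

theorem length_eq_of_forall_exists_smul {S R' M : Type*} [CommRing S] [CommRing R']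
    [Algebra S R'] [AddCommGroup M] [Module R' M] [Module S M] [IsScalarTower S R' M]
    (h : ∀ c : R', ∃ s : S, ∀ m : M, c • m = s • m) :
    Module.length S M = Module.length R' M := by
  have hsurj : Function.Surjective (Submodule.restrictScalarsEmbedding S R' M) := by
    intro N
    refine ⟨{ carrier := N, add_mem' := N.add_mem, zero_mem' := N.zero_mem, smul_mem' := ?_ }, ?_⟩
    · intro c m hm
      obtain ⟨s, hs⟩ := h c
      rw [hs m]
      exact N.smul_mem s hm
    · ext m
      rfl
  have e : Submodule R' M ≃o Submodule S M :=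
    RelIso.ofSurjective (Submodule.restrictScalarsEmbedding S R' M) hsurj
  rw [Module.length, Module.length, WithBot.unbot_inj]
  exact (Order.krullDim_eq_of_orderIso e).symm

section
variable (A A' : Type u) [CommRing A] [CommRing A'] [Algebra A A']

/-- `A' ⊗_A (A/I) ≅ A'/IA'`. -/
noncomputable def eQuot (I : Ideal A) :
    (E A A').obj (ModuleCat.of A (A ⧸ I)) ≅
      ModuleCat.of A' (A' ⧸ I.map (algebraMap A A')) :=
  ((Groth.Agent.S2380.bridge A A' (ModuleCat.of A (A ⧸ I))) ≪≫ₗ
    (Algebra.TensorProduct.quotIdealMapEquivTensorQuot A' I).symm.toLinearEquiv).toModuleIso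

/-- flat base change of `Tor`, right argument cyclic. -/
theorem torBC_left [Module.Flat A A'] (P' : Type u) [AddCommGroup P'] [Module A' P']
    [Module A P'] [IsScalarTower A A' P'] (I : Ideal A) (n : ℕ) :
    Nonempty ((ρ A A').obj
        (((Tor (ModuleCat.{u} A') n).obj (ModuleCat.of A' P')).obj
          (ModuleCat.of A' (A' ⧸ I.map (algebraMap A A')))) ≅
      ((Tor (ModuleCat.{u} A) n).obj (ModuleCat.of A P')).obj (ModuleCat.of A (A ⧸ I))) := by
  obtain ⟨e⟩ := nonempty_restrict_tor_iso_left A' P' (ModuleCat.of A (A ⧸ I)) n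
  exact ⟨(ρ A A').mapIso
    (((Tor (ModuleCat.{u} A') n).obj (ModuleCat.of A' P')).mapIso (eQuot A A' I).symm) ≪≫ e⟩

/-- Tor-independent base change of `Tor`, left argument cyclic. -/
theorem torBC_right (J : Ideal A)
    (hTor : ∀ q : ℕ, 0 < q →
      IsZero (((Tor (ModuleCat.{u} A) q).obj (ModuleCat.of A (A ⧸ J))).obj (ModuleCat.of A A')))
    (Q' : Type u) [AddCommGroup Q'] [Module A' Q'] [Module A Q'] [IsScalarTower A A' Q']
    (n : ℕ) :
    Nonempty ((ρ A A').obj
        (((Tor (ModuleCat.{u} A') n).obj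
          (ModuleCat.of A' (A' ⧸ J.map (algebraMap A A')))).obj (ModuleCat.of A' Q')) ≅
      ((Tor (ModuleCat.{u} A) n).obj (ModuleCat.of A (A ⧸ J))).obj (ModuleCat.of A Q')) := by
  obtain ⟨e⟩ := nonempty_restrict_tor_iso A' Q' (ModuleCat.of A (A ⧸ J)) hTor n
  exact ⟨(ρ A A').mapIso
    (((Tor (ModuleCat.{u} A') n).mapIso (eQuot A A' J).symm).app (ModuleCat.of A' Q')) ≪≫ e⟩

end

section
variable {A : Type u} [CommRing A]

/-- a scalar killing `X` kills `Tor_n(X, Y)`. -/
theorem smul_tor_eq_zero (X Y : Type u) [AddCommGroup X] [Module A X] [AddCommGroup Y]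
    [Module A Y] (r : A) (hr : ∀ x : X, r • x = 0) (n : ℕ)
    (t : ((Tor (ModuleCat.{u} A) n).obj (ModuleCat.of A X)).obj (ModuleCat.of A Y)) :
    r • t = 0 := by
  let e : ((Tor (ModuleCat.{u} A) n).obj (ModuleCat.of A X)).obj (ModuleCat.of A Y) ≅
      HN (projectiveResolution (ModuleCat.of A Y)).complex X n :=
    α n (ModuleCat.of A X) (ModuleCat.of A Y) ≪≫
      torHN (projectiveResolution (ModuleCat.of A Y)) X n
  have h := smul_HN_eq_zero (projectiveResolution (ModuleCat.of A Y)).complex X r hr n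
    (e.toLinearEquiv t)
  apply e.toLinearEquiv.injective
  rw [map_smul, map_zero]
  exact h

/-- `Tor` of isomorphic modules. -/
theorem nonempty_tor_iso_of_linearEquiv {X X' Y Y' : Type u} [AddCommGroup X] [Module A X]
    [AddCommGroup X'] [Module A X'] [AddCommGroup Y] [Module A Y] [AddCommGroup Y'] [Module A Y']
    (e : X ≃ₗ[A] X') (e' : Y ≃ₗ[A] Y') (n : ℕ) :
    Nonempty (((Tor (ModuleCat.{u} A) n).obj (ModuleCat.of A X)).obj (ModuleCat.of A Y) ≅
      ((Tor (ModuleCat.{u} A) n).obj (ModuleCat.of A X')).obj (ModuleCat.of A Y')) :=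
  ⟨((Tor (ModuleCat.{u} A) n).mapIso e.toModuleIso).app (ModuleCat.of A Y) ≪≫
    ((Tor (ModuleCat.{u} A) n).obj (ModuleCat.of A X')).mapIso e'.toModuleIso⟩

theorem length_tor_eq_of_linearEquiv {X X' Y Y' : Type u} [AddCommGroup X] [Module A X]
    [AddCommGroup X'] [Module A X'] [AddCommGroup Y] [Module A Y] [AddCommGroup Y'] [Module A Y']
    (e : X ≃ₗ[A] X') (e' : Y ≃ₗ[A] Y') (n : ℕ) :
    Module.length A (DRing.Tor A n X Y) = Module.length A (DRing.Tor A n X' Y') := by
  obtain ⟨i⟩ := nonempty_tor_iso_of_linearEquiv e e' n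
  exact i.toLinearEquiv.length_eq

end

end Groth.Agent.Lib.Helper2.DiagTor
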