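import Mathlib
import Groth.Agent.Lib.Helper2DiagTorA

/-!
# Reduction to the diagonal for `Tor`, abstract local form (helper2)

Rings `R`, `C`, two ring maps `j₁ j₂ : R → C` with a common retraction `μ : C → R` (think
`C = (A ⊗_K A)_𝔓`, `R = A_P`, `μ` the multiplication).  If `j₂` is flat and `C/j₂(b)C` is flat over `R`
via `j₁`, then `Tor_n^R(R/b, R/a)` and `Tor_n^C(C/ker μ, C/(j₂(b)C + j₁(a)C))` have the same length.
-/

set_option autoImplicit false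
set_option linter.style.haveILetI false
set_option linter.unusedSectionVars false

open CategoryTheory CategoryTheory.Limits MonoidalCategory

namespace Groth.Agent.Lib.Helper2.DiagTor

open Groth.Agent.Helper13Tor Groth.Agent.Helper13TorBC

universe u

theorem length_restrictScalars_eq {S R' : Type u} [CommRing S] [CommRing R'] (f : S →+* R')
    (T : ModuleCat.{u} R') (h : ∀ c : R', ∃ s : S, ∀ t : T, c • t = f s • t) :
    Module.length S ↑((ModuleCat.restrictScalars.{u,u,u} f).obj T) = Module.length R' ↑T := by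
  letI : Algebra S R' := f.toAlgebra
  letI : Module S ↑T := Module.compHom ↑T f
  haveI : IsScalarTower S R' ↑T := ⟨fun s c t => by
    show (s • c) • t = f s • (c • t)
    rw [Algebra.smul_def, mul_smul]
    rfl⟩
  exact length_eq_of_forall_exists_smul (S := S) (R' := R') (M := ↑T) h

section
variable {R C : Type u} [CommRing R] [CommRing C]

theorem isZero_tor_quot_of_section (j₂ : R →+* C) (μ : C →+* R)
    (h₂ : ∀ r, μ (j₂ r) = r) (b : Ideal R) (J : Ideal C) (hJ : RingHom.ker μ = J)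
    (hflat₂ : j₂.Flat) (q : ℕ) (hq : 0 < q) :
    IsZero (((Tor (ModuleCat.{u} C) q).obj (ModuleCat.of C (C ⧸ J))).obj
      (ModuleCat.of C (C ⧸ b.map j₂))) := by
  letI algRC : Algebra R C := j₂.toAlgebra
  haveI : Module.Flat R C := hflat₂
  obtain ⟨e⟩ := torBC_left R C (C ⧸ J) b q
  have hμsurj : Function.Surjective μ := fun r => ⟨j₂ r, h₂ r⟩
  let φ : (C ⧸ J) ≃+* R :=
    (Ideal.quotEquivOfEq hJ.symm).trans (RingHom.quotientKerEquivOfSurjective hμsurj)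
  have hφ : ∀ c : C, φ (Ideal.Quotient.mk J c) = μ c := fun c => rfl
  let ψ : (C ⧸ J) ≃ₗ[R] R :=
    { φ with
      map_smul' := by
        intro r x
        obtain ⟨c, rfl⟩ := Ideal.Quotient.mk_surjective x
        have h3 : r • Ideal.Quotient.mk J c = Ideal.Quotient.mk J (j₂ r * c) := rfl
        show φ (r • Ideal.Quotient.mk J c) = r • φ (Ideal.Quotient.mk J c)
        rw [h3, hφ, hφ, map_mul, h₂, smul_eq_mul] }
  haveI : Module.Flat R (C ⧸ J) := Module.Flat.of_linearEquiv ψ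
  have hz := isZero_tor_of_flat (R := R) (Y := ModuleCat.of R (R ⧸ b)) (ModuleCat.of R (C ⧸ J)) q hq
  have hz' := hz.of_iso e
  have hs := ModuleCat.subsingleton_of_isZero hz'
  exact @ModuleCat.isZero_of_subsingleton _ _ _ hs

theorem length_tor_diag (j₁ j₂ : R →+* C) (μ : C →+* R)
    (h₁ : ∀ r, μ (j₁ r) = r) (h₂ : ∀ r, μ (j₂ r) = r) (a b : Ideal R) (J : Ideal C)
    (hJ : RingHom.ker μ = J) (hflat₂ : j₂.Flat)
    (hflat₁ : ((Ideal.Quotient.mk (b.map j₂)).comp j₁).Flat) (n : ℕ) :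
    Module.length R (DRing.Tor R n (R ⧸ b) (R ⧸ a)) =
      Module.length C (DRing.Tor C n (C ⧸ J) (C ⧸ (b.map j₂ ⊔ a.map j₁))) := by
  set I₂ : Ideal C := b.map j₂ with hI₂
  let j₁' : R →+* (C ⧸ I₂) := (Ideal.Quotient.mk I₂).comp j₁
  -- Step A'
  have hTor : ∀ q : ℕ, 0 < q →
      IsZero (((Tor (ModuleCat.{u} C) q).obj (ModuleCat.of C (C ⧸ J))).obj
        (ModuleCat.of C (C ⧸ I₂))) :=
    fun q hq => isZero_tor_quot_of_section j₂ μ h₂ b J hJ hflat₂ q hq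
  obtain ⟨eA⟩ := torBC_right C (C ⧸ I₂) J hTor ((C ⧸ I₂) ⧸ a.map j₁') n
  -- Step B'
  letI algRC₁ : Algebra R (C ⧸ I₂) := j₁'.toAlgebra
  haveI : Module.Flat R (C ⧸ I₂) := hflat₁
  obtain ⟨eB⟩ := torBC_left R (C ⧸ I₂) ((C ⧸ I₂) ⧸ J.map (algebraMap C (C ⧸ I₂))) a n
  -- the module `P₁ = C₁/JC₁` is `R/b`
  have hI₂le : I₂ ≤ b.comap μ := by
    rw [hI₂, Ideal.map_le_iff_le_comap]
    intro r hr
    rw [Ideal.mem_comap, Ideal.mem_comap, h₂]
    exact hr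
  have hI₂ker : ∀ x ∈ I₂, ((Ideal.Quotient.mk b).comp μ) x = 0 := by
    intro x hx
    rw [RingHom.comp_apply, Ideal.Quotient.eq_zero_iff_mem]
    exact hI₂le hx
  let ψ₀ : (C ⧸ I₂) →+* R ⧸ b := Ideal.Quotient.lift I₂ ((Ideal.Quotient.mk b).comp μ) hI₂ker
  have hψ₀mk : ∀ c : C, ψ₀ (Ideal.Quotient.mk I₂ c) = Ideal.Quotient.mk b (μ c) := fun c => rfl
  have hψ₀surj : Function.Surjective ψ₀ := by
    intro y
    obtain ⟨r, rfl⟩ := Ideal.Quotient.mk_surjective y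
    exact ⟨Ideal.Quotient.mk I₂ (j₂ r), by rw [hψ₀mk, h₂]⟩
  have hkerψ₀ : RingHom.ker ψ₀ = J.map (algebraMap C (C ⧸ I₂)) := by
    apply le_antisymm
    · intro y hy
      obtain ⟨c, rfl⟩ := Ideal.Quotient.mk_surjective y
      rw [RingHom.mem_ker, hψ₀mk, Ideal.Quotient.eq_zero_iff_mem] at hy
      have h4 : c - j₂ (μ c) ∈ J := by
        rw [← hJ, RingHom.mem_ker, map_sub, h₂, sub_self]
      have h5 : j₂ (μ c) ∈ I₂ := Ideal.mem_map_of_mem j₂ hy
      have h6 : Ideal.Quotient.mk I₂ c = Ideal.Quotient.mk I₂ (c - j₂ (μ c)) := by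
        rw [map_sub, Ideal.Quotient.eq_zero_iff_mem.mpr h5, sub_zero]
      rw [h6]
      exact Ideal.mem_map_of_mem (algebraMap C (C ⧸ I₂)) h4
    · rw [Ideal.map_le_iff_le_comap]
      intro c hc
      rw [Ideal.mem_comap, RingHom.mem_ker]
      show ψ₀ (Ideal.Quotient.mk I₂ c) = 0
      have h7 : μ c = 0 := by
        rw [← RingHom.mem_ker, hJ]
        exact hc
      rw [hψ₀mk, h7, map_zero]
  let φ₁ : ((C ⧸ I₂) ⧸ J.map (algebraMap C (C ⧸ I₂))) ≃+* R ⧸ b :=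
    (Ideal.quotEquivOfEq hkerψ₀.symm).trans (RingHom.quotientKerEquivOfSurjective hψ₀surj)
  have hφ₁ : ∀ y : C ⧸ I₂, φ₁ (Ideal.Quotient.mk _ y) = ψ₀ y := fun y => rfl
  let ψ₁ : ((C ⧸ I₂) ⧸ J.map (algebraMap C (C ⧸ I₂))) ≃ₗ[R] R ⧸ b :=
    { φ₁ with
      map_smul' := by
        intro r x
        obtain ⟨y, rfl⟩ := Ideal.Quotient.mk_surjective x
        have h3 : r • Ideal.Quotient.mk (J.map (algebraMap C (C ⧸ I₂))) y =
            Ideal.Quotient.mk (J.map (algebraMap C (C ⧸ I₂))) (j₁' r * y) := rfl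
        show φ₁ (r • Ideal.Quotient.mk _ y) = r • φ₁ (Ideal.Quotient.mk _ y)
        rw [h3, hφ₁, hφ₁, map_mul]
        have h8 : ψ₀ (j₁' r) = Ideal.Quotient.mk b r := by
          show ψ₀ (Ideal.Quotient.mk I₂ (j₁ r)) = _
          rw [hψ₀mk, h₁]
        rw [h8]
        rfl }
  -- the common `C₁`-module
  set T : ModuleCat.{u} (C ⧸ I₂) :=
    ((Tor (ModuleCat.{u} (C ⧸ I₂)) n).obj
      (ModuleCat.of (C ⧸ I₂) ((C ⧸ I₂) ⧸ J.map (algebraMap C (C ⧸ I₂))))).obj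
      (ModuleCat.of (C ⧸ I₂) ((C ⧸ I₂) ⧸ a.map j₁')) with hT
  have len1 : Module.length R (DRing.Tor R n (R ⧸ b) (R ⧸ a)) =
      Module.length R ↑((ρ R (C ⧸ I₂)).obj T) := by
    obtain ⟨i⟩ := nonempty_tor_iso_of_linearEquiv ψ₁ (LinearEquiv.refl R (R ⧸ a)) n
    exact (eB ≪≫ i).toLinearEquiv.length_eq.symm
  -- the double quotient
  let dq : ((C ⧸ I₂) ⧸ a.map j₁') ≃ₗ[C] C ⧸ (I₂ ⊔ a.map j₁) :=
    ((Submodule.quotEquivOfEq (a.map j₁') ((a.map j₁).map (Ideal.Quotient.mk I₂))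
      (Ideal.map_map j₁ (Ideal.Quotient.mk I₂)).symm).restrictScalars C).trans
      (DoubleQuot.quotQuotEquivQuotSupₐ C I₂ (a.map j₁)).toLinearEquiv
  have len2 : Module.length C (DRing.Tor C n (C ⧸ J) (C ⧸ (I₂ ⊔ a.map j₁))) =
      Module.length C ↑((ρ C (C ⧸ I₂)).obj T) := by
    obtain ⟨i⟩ := nonempty_tor_iso_of_linearEquiv (LinearEquiv.refl C (C ⧸ J)) dq n
    exact (eA ≪≫ i).toLinearEquiv.length_eq.symm
  have len3 : Module.length R ↑((ρ R (C ⧸ I₂)).obj T) = Module.length (C ⧸ I₂) ↑T := by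
    refine length_restrictScalars_eq (algebraMap R (C ⧸ I₂)) T ?_
    intro c₁
    obtain ⟨c, rfl⟩ := Ideal.Quotient.mk_surjective c₁
    refine ⟨μ c, fun t => ?_⟩
    have h4 : c - j₁ (μ c) ∈ J := by
      rw [← hJ, RingHom.mem_ker, map_sub, h₁, sub_self]
    have h5 : Ideal.Quotient.mk I₂ (c - j₁ (μ c)) ∈ J.map (algebraMap C (C ⧸ I₂)) :=
      Ideal.mem_map_of_mem (algebraMap C (C ⧸ I₂)) h4
    have h6 : ∀ x : (C ⧸ I₂) ⧸ J.map (algebraMap C (C ⧸ I₂)),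
        Ideal.Quotient.mk I₂ (c - j₁ (μ c)) • x = 0 := by
      intro x
      obtain ⟨y, rfl⟩ := Ideal.Quotient.mk_surjective x
      show Ideal.Quotient.mk (J.map (algebraMap C (C ⧸ I₂)))
        (Ideal.Quotient.mk I₂ (c - j₁ (μ c)) * y) = 0
      rw [Ideal.Quotient.eq_zero_iff_mem]
      exact Ideal.mul_mem_right _ _ h5
    have h7 := smul_tor_eq_zero ((C ⧸ I₂) ⧸ J.map (algebraMap C (C ⧸ I₂)))
      ((C ⧸ I₂) ⧸ a.map j₁') (Ideal.Quotient.mk I₂ (c - j₁ (μ c))) h6 n t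
    have h8 : Ideal.Quotient.mk I₂ c =
        Ideal.Quotient.mk I₂ (c - j₁ (μ c)) + (algebraMap R (C ⧸ I₂)) (μ c) := by
      show _ = _ + Ideal.Quotient.mk I₂ (j₁ (μ c))
      rw [← map_add, sub_add_cancel]
    rw [h8, add_smul, h7, zero_add]
  have len4 : Module.length C ↑((ρ C (C ⧸ I₂)).obj T) = Module.length (C ⧸ I₂) ↑T := by
    refine length_restrictScalars_eq (algebraMap C (C ⧸ I₂)) T ?_
    intro c₁
    obtain ⟨c, rfl⟩ := Ideal.Quotient.mk_surjective c₁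
    exact ⟨c, fun t => rfl⟩
  rw [len1, len2, len3, len4]

/-- **Reduction to the diagonal**, Euler characteristic form. -/
theorem chi_diag (j₁ j₂ : R →+* C) (μ : C →+* R)
    (h₁ : ∀ r, μ (j₁ r) = r) (h₂ : ∀ r, μ (j₂ r) = r) (a b : Ideal R) (J : Ideal C)
    (hJ : RingHom.ker μ = J) (hflat₂ : j₂.Flat)
    (hflat₁ : ((Ideal.Quotient.mk (b.map j₂)).comp j₁).Flat) :
    IntMult.chi R (R ⧸ b) (R ⧸ a) =
      IntMult.chi C (C ⧸ J) (C ⧸ (b.map j₂ ⊔ a.map j₁)) := by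
  unfold IntMult.chi
  refine finsum_congr fun i => ?_
  rw [length_tor_diag j₁ j₂ μ h₁ h₂ a b J hJ hflat₂ hflat₁ i]

end

end Groth.Agent.Lib.Helper2.DiagTor
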