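import Mathlib
import Groth.Agent.Lib.Helper6EquiDim

set_option autoImplicit false
universe u
open TensorProduct

namespace Groth.Agent.Lib.Helper6.EquiDim

section Prod

variable (k : Type u) [Field k] (A B : Type u) [CommRing A] [IsDomain A] [Algebra k A]
  [CommRing B] [IsDomain B] [Algebra k B]

/-- `P ⊗ C` is a domain for a polynomial ring `P` and a domain `C` -/
theorem isDomain_mvPolynomial_tensor' (C : Type u) [CommRing C] [IsDomain C] [Algebra k C]
    (s : ℕ) : IsDomain (MvPolynomial (Fin s) k ⊗[k] C) := by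
  let e : MvPolynomial (Fin s) k ⊗[k] C ≃+* MvPolynomial (Fin s) C :=
    ((Algebra.TensorProduct.comm k (MvPolynomial (Fin s) k) C).toRingEquiv).trans
      (MvPolynomial.algebraTensorAlgEquiv k C).toRingEquiv
  exact e.toMulEquiv.isDomain _

theorem ringKrullDim_mvPolynomial_tensor' (C : Type u) [CommRing C] [IsNoetherianRing C]
    [Algebra k C] (s : ℕ) :
    ringKrullDim (MvPolynomial (Fin s) k ⊗[k] C) = ringKrullDim C + (s : WithBot ℕ∞) := by
  let e : MvPolynomial (Fin s) k ⊗[k] C ≃+* MvPolynomial (Fin s) C :=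
    ((Algebra.TensorProduct.comm k (MvPolynomial (Fin s) k) C).toRingEquiv).trans
      (MvPolynomial.algebraTensorAlgEquiv k C).toRingEquiv
  rw [ringKrullDim_eq_of_ringEquiv e, MvPolynomial.ringKrullDim_of_isNoetherianRing]
  simp

variable {k B}

/-- nonzero elements of `P ⊗ C` are nonzerodivisors on `B ⊗ C`, for a polynomial ring `P`
embedded in the domain `B` and a domain `C` -/
theorem map_mem_nonZeroDivisors' (C : Type u) [CommRing C] [IsDomain C] [Algebra k C]
    (s : ℕ) (g : MvPolynomial (Fin s) k →ₐ[k] B)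
    (hinj : Function.Injective g) (F : MvPolynomial (Fin s) k ⊗[k] C) (hF : F ≠ 0) :
    Algebra.TensorProduct.map g (AlgHom.id k C) F ∈ nonZeroDivisors (B ⊗[k] C) := by
  letI algg : Algebra (MvPolynomial (Fin s) k) B := g.toRingHom.toAlgebra
  haveI : IsScalarTower k (MvPolynomial (Fin s) k) B :=
    IsScalarTower.of_algebraMap_eq fun c => (g.commutes c).symm
  haveI := isDomain_mvPolynomial_tensor' k C s
  let μ : MvPolynomial (Fin s) k ⊗[k] C →ₗ[MvPolynomial (Fin s) k] MvPolynomial (Fin s) k ⊗[k] C :=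
    LinearMap.mulLeft (MvPolynomial (Fin s) k) F
  have hμ : Function.Injective μ := fun a b hab => mul_left_cancel₀ hF hab
  have hL := lTensor_injective_of_domain (A := MvPolynomial (Fin s) k) (B := B) hinj μ hμ
  let e := Algebra.TensorProduct.cancelBaseChange k (MvPolynomial (Fin s) k)
    (MvPolynomial (Fin s) k) B C
  -- `e (1 ⊗ F') = G F'`
  have he : ∀ F' : MvPolynomial (Fin s) k ⊗[k] C, e ((1 : B) ⊗ₜ[MvPolynomial (Fin s) k] F') =
      Algebra.TensorProduct.map g (AlgHom.id k C) F' := by
    intro F'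
    induction F' using TensorProduct.induction_on with
    | zero => simp
    | tmul p c =>
      rw [Algebra.TensorProduct.cancelBaseChange_tmul, Algebra.TensorProduct.map_tmul]
      congr 1
      rw [Algebra.smul_def, mul_one]
      rfl
    | add x y hx hy => rw [TensorProduct.tmul_add, map_add, map_add, hx, hy]
  -- `lTensor μ` is multiplication by `1 ⊗ F`
  have hmul : μ.lTensor B =
      LinearMap.mulLeft (MvPolynomial (Fin s) k) ((1 : B) ⊗ₜ[MvPolynomial (Fin s) k] F) := by
    apply TensorProduct.ext'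
    intro b m
    change b ⊗ₜ[MvPolynomial (Fin s) k] (F * m) =
      ((1 : B) ⊗ₜ[MvPolynomial (Fin s) k] F) * (b ⊗ₜ[MvPolynomial (Fin s) k] m)
    rw [Algebra.TensorProduct.tmul_mul_tmul, one_mul]
  rw [mem_nonZeroDivisors_iff_right]
  intro r hr
  obtain ⟨x, rfl⟩ := e.surjective r
  have h0 : μ.lTensor B x = 0 := by
    apply e.injective
    rw [hmul, LinearMap.mulLeft_apply, map_mul, he, mul_comm, hr, map_zero]
  have : x = 0 := hL (by rw [h0, map_zero])
  rw [this, map_zero]

variable (k B)

/-- equidimensionality of `A ⊗ B`: for finite type `k`-domains `A`, `B` and a minimal prime `Q`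
of `A ⊗_k B`, `dim (A ⊗ B)/Q = dim A + dim B` -/
theorem ringKrullDim_quotient_minimalPrime_tensor [Algebra.FiniteType k A]
    [Algebra.FiniteType k B] (Q : Ideal (A ⊗[k] B)) (hQ : Q ∈ minimalPrimes (A ⊗[k] B)) :
    ringKrullDim ((A ⊗[k] B) ⧸ Q) = ringKrullDim A + ringKrullDim B := by
  obtain ⟨s, g, hinj, hint⟩ := exists_integral_inj_algHom_of_fg k A
  obtain ⟨t, g', hinj', hint'⟩ := exists_integral_inj_algHom_of_fg k B
  rw [Groth.Agent.Lib.Helper4.TensorDim.ringKrullDim_eq_of_integral_injective k A s g hinj hint,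
    Groth.Agent.Lib.Helper4.TensorDim.ringKrullDim_eq_of_integral_injective k B t g' hinj' hint']
  let G₁ : MvPolynomial (Fin s) k ⊗[k] MvPolynomial (Fin t) k →ₐ[k]
      MvPolynomial (Fin s) k ⊗[k] B :=
    Algebra.TensorProduct.map (AlgHom.id k (MvPolynomial (Fin s) k)) g'
  let G₂ : MvPolynomial (Fin s) k ⊗[k] B →ₐ[k] A ⊗[k] B :=
    Algebra.TensorProduct.map g (AlgHom.id k B)
  let G : MvPolynomial (Fin s) k ⊗[k] MvPolynomial (Fin t) k →ₐ[k] A ⊗[k] B :=
    Algebra.TensorProduct.map g g'
  have hG : ∀ F, G F = G₂ (G₁ F) := by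
    intro F
    induction F using TensorProduct.induction_on with
    | zero => simp
    | tmul p q => simp [G, G₁, G₂]
    | add x y hx hy => rw [map_add, map_add, map_add, hx, hy]
  have hG₁inj : Function.Injective G₁ := by
    have h1 : Function.Injective (LinearMap.lTensor (MvPolynomial (Fin s) k) g'.toLinearMap) :=
      Module.Flat.lTensor_preserves_injective_linearMap _ hinj'
    intro x y hxy
    apply h1
    exact hxy
  haveI hQp : Q.IsPrime := hQ.1.1
  letI algG : Algebra (MvPolynomial (Fin s) k ⊗[k] MvPolynomial (Fin t) k) (A ⊗[k] B) :=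
    G.toRingHom.toAlgebra
  haveI := isDomain_mvPolynomial_tensor' k (MvPolynomial (Fin t) k) s
  have hhinj : Function.Injective
      (algebraMap (MvPolynomial (Fin s) k ⊗[k] MvPolynomial (Fin t) k) ((A ⊗[k] B) ⧸ Q)) := by
    rw [injective_iff_map_eq_zero]
    intro F hF
    by_contra hne
    have hne' : G₁ F ≠ 0 := fun h => hne (hG₁inj (by rw [h, map_zero]))
    have h1 := map_mem_nonZeroDivisors' (B := A) B s g hinj (G₁ F) hne'
    have h2 : G F ∈ Q := Ideal.Quotient.eq_zero_iff_mem.mp hF
    rw [hG] at h2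
    exact (Ideal.disjoint_nonZeroDivisors_of_mem_minimalPrimes hQ).le_bot ⟨h2, h1⟩
  have hGint : Algebra.IsIntegral (MvPolynomial (Fin s) k ⊗[k] MvPolynomial (Fin t) k)
      (A ⊗[k] B) := by
    constructor
    intro z
    induction z using TensorProduct.induction_on with
    | zero => exact isIntegral_zero
    | tmul x y =>
      have h1 : IsIntegral (MvPolynomial (Fin s) k ⊗[k] MvPolynomial (Fin t) k)
          ((x ⊗ₜ[k] (1 : B)) : A ⊗[k] B) := by
        letI algg : Algebra (MvPolynomial (Fin s) k) A := g.toRingHom.toAlgebra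
        have hx : IsIntegral (MvPolynomial (Fin s) k) x := hint x
        have := IsIntegral.map_of_comp_eq (R := MvPolynomial (Fin s) k) (S := A)
          (T := MvPolynomial (Fin s) k ⊗[k] MvPolynomial (Fin t) k) (U := A ⊗[k] B)
          (Algebra.TensorProduct.includeLeftRingHom (R := k) (A := MvPolynomial (Fin s) k)
            (B := MvPolynomial (Fin t) k))
          (Algebra.TensorProduct.includeLeftRingHom (R := k) (A := A) (B := B))
          (RingHom.ext fun p => by
            change G (p ⊗ₜ[k] 1) = (g p) ⊗ₜ[k] 1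
            simp [G]) hx
        exact this
      have h2 : IsIntegral (MvPolynomial (Fin s) k ⊗[k] MvPolynomial (Fin t) k)
          (((1 : A) ⊗ₜ[k] y) : A ⊗[k] B) := by
        letI algg : Algebra (MvPolynomial (Fin t) k) B := g'.toRingHom.toAlgebra
        have hy : IsIntegral (MvPolynomial (Fin t) k) y := hint' y
        have := IsIntegral.map_of_comp_eq (R := MvPolynomial (Fin t) k) (S := B)
          (T := MvPolynomial (Fin s) k ⊗[k] MvPolynomial (Fin t) k) (U := A ⊗[k] B)
          (Algebra.TensorProduct.includeRight (R := k) (A := MvPolynomial (Fin s) k)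
            (B := MvPolynomial (Fin t) k)).toRingHom
          (Algebra.TensorProduct.includeRight (R := k) (A := A) (B := B)).toRingHom
          (RingHom.ext fun p => by
            change G (1 ⊗ₜ[k] p) = 1 ⊗ₜ[k] (g' p)
            simp [G]) hy
        exact this
      have h3 : (x ⊗ₜ[k] y : A ⊗[k] B) = (x ⊗ₜ[k] (1 : B)) * ((1 : A) ⊗ₜ[k] y) := by
        rw [Algebra.TensorProduct.tmul_mul_tmul, mul_one, one_mul]
      rw [h3]
      exact h1.mul h2
    | add x y hx hy => exact hx.add hy
  haveI : Algebra.IsIntegral (MvPolynomial (Fin s) k ⊗[k] MvPolynomial (Fin t) k)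
      ((A ⊗[k] B) ⧸ Q) :=
    Algebra.IsIntegral.trans (A ⊗[k] B)
  rw [Groth.Agent.Lib.Helper5.ringKrullDim_eq_of_isIntegral_of_injective
    (MvPolynomial (Fin s) k ⊗[k] MvPolynomial (Fin t) k)
    ((A ⊗[k] B) ⧸ Q) hhinj, ringKrullDim_mvPolynomial_tensor',
    MvPolynomial.ringKrullDim_of_isNoetherianRing, ringKrullDim_eq_zero_of_field]
  simp [add_comm]

end Prod

end Groth.Agent.Lib.Helper6.EquiDim
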