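import Mathlib
import Groth.Agent.Lib.Helper6EquiDim3
import Groth.Agent.Lib.Helper14FTDimB

/-!
# Helper4DiagDim: the affine dimension theorem by reduction to the diagonal

For a `k`-algebra `S` generated by `N` elements, primes `p`, `q` of `S` and a minimal prime `P`
over `p + q`: `dim S/p + dim S/q ≤ dim S/P + N`.
-/

set_option autoImplicit false
set_option linter.style.haveILetI false
universe u

open TensorProduct

namespace Groth.Agent.Lib.Helper4.DiagDim

section Gen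

/-- quotient by the comap of an ideal along a surjection -/
theorem ringKrullDim_quotient_comap_of_surjective {R R' : Type*} [CommRing R] [CommRing R']
    (f : R →+* R') (hf : Function.Surjective f) (J : Ideal R') :
    ringKrullDim (R ⧸ J.comap f) = ringKrullDim (R' ⧸ J) := by
  have h1 : Function.Injective (Ideal.quotientMap J f le_rfl) := Ideal.quotientMap_injective
  have h2 : Function.Surjective (Ideal.quotientMap J f le_rfl) :=
    Ideal.quotientMap_surjective hf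
  exact ringKrullDim_eq_of_ringEquiv (RingEquiv.ofBijective _ ⟨h1, h2⟩)

/-- a minimal prime over `I`, as a minimal prime of the quotient -/
theorem exists_minimalPrimes_quotient {R : Type*} [CommRing R] (I P : Ideal R)
    (hP : P ∈ I.minimalPrimes) :
    ∃ Pbar : Ideal (R ⧸ I), Pbar ∈ minimalPrimes (R ⧸ I) ∧ P = Pbar.comap (Ideal.Quotient.mk I) := by
  have h1 : (⊥ : Ideal (R ⧸ I)).comap (Ideal.Quotient.mk I) = I := by
    rw [← RingHom.ker_eq_comap_bot, Ideal.mk_ker]
  rw [← h1, Ideal.comap_minimalPrimes_eq_of_surjective Ideal.Quotient.mk_surjective] at hP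
  obtain ⟨Pbar, hPbar, rfl⟩ := hP
  exact ⟨Pbar, hPbar, rfl⟩

end Gen

section Diag

variable {k : Type u} [Field k] {S : Type u} [CommRing S] [Algebra k S] (p q : Ideal S)

/-- the multiplication map `S/p ⊗ S/q → S/(p+q)` -/
noncomputable def mu : (S ⧸ p) ⊗[k] (S ⧸ q) →ₐ[k] S ⧸ (p ⊔ q) :=
  Algebra.TensorProduct.productMap (Ideal.Quotient.factorₐ k le_sup_left)
    (Ideal.Quotient.factorₐ k le_sup_right)

theorem mu_tmul_mk (a b : S) :
    mu (k := k) p q ((Ideal.Quotient.mk p a) ⊗ₜ[k] (Ideal.Quotient.mk q b)) =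
      Ideal.Quotient.mk (p ⊔ q) (a * b) := by
  rw [mu, Algebra.TensorProduct.productMap_apply_tmul, map_mul]
  rfl

theorem mu_surjective : Function.Surjective (mu (k := k) p q) := by
  intro z
  obtain ⟨s, rfl⟩ := Ideal.Quotient.mk_surjective z
  refine ⟨(Ideal.Quotient.mk p s) ⊗ₜ[k] (Ideal.Quotient.mk q 1), ?_⟩
  rw [mu_tmul_mk, mul_one]

variable {N : ℕ} (x : Fin N → S)

/-- the generators of the diagonal ideal -/
noncomputable def diagGen (i : Fin N) : (S ⧸ p) ⊗[k] (S ⧸ q) :=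
  (Ideal.Quotient.mk p (x i)) ⊗ₜ[k] (1 : S ⧸ q) - (1 : S ⧸ p) ⊗ₜ[k] (Ideal.Quotient.mk q (x i))

/-- the diagonal ideal -/
noncomputable def diagIdeal : Ideal ((S ⧸ p) ⊗[k] (S ⧸ q)) :=
  Ideal.span (Set.range (diagGen (k := k) p q x))

theorem diagIdeal_le_ker : diagIdeal (k := k) p q x ≤ RingHom.ker (mu (k := k) p q) := by
  rw [diagIdeal, Ideal.span_le]
  rintro _ ⟨i, rfl⟩
  change mu (k := k) p q (diagGen (k := k) p q x i) = 0
  have h1 : (1 : S ⧸ q) = Ideal.Quotient.mk q 1 := rfl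
  have h2 : (1 : S ⧸ p) = Ideal.Quotient.mk p 1 := rfl
  rw [diagGen, map_sub]
  conv_lhs => rw [h1, h2]
  rw [mu_tmul_mk, mu_tmul_mk, mul_one, one_mul, sub_self]

/-- `S → T/D` through the left factor -/
noncomputable def phi1 : S →ₐ[k] ((S ⧸ p) ⊗[k] (S ⧸ q)) ⧸ diagIdeal (k := k) p q x :=
  (Ideal.Quotient.mkₐ k (diagIdeal (k := k) p q x)).comp
    (Algebra.TensorProduct.includeLeft.comp (Ideal.Quotient.mkₐ k p))

/-- `S → T/D` through the right factor -/
noncomputable def phi2 : S →ₐ[k] ((S ⧸ p) ⊗[k] (S ⧸ q)) ⧸ diagIdeal (k := k) p q x :=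
  (Ideal.Quotient.mkₐ k (diagIdeal (k := k) p q x)).comp
    (Algebra.TensorProduct.includeRight.comp (Ideal.Quotient.mkₐ k q))

theorem phi1_apply (s : S) : phi1 (k := k) p q x s =
    Ideal.Quotient.mk (diagIdeal (k := k) p q x) ((Ideal.Quotient.mk p s) ⊗ₜ[k] (1 : S ⧸ q)) := rfl

theorem phi2_apply (s : S) : phi2 (k := k) p q x s =
    Ideal.Quotient.mk (diagIdeal (k := k) p q x) ((1 : S ⧸ p) ⊗ₜ[k] (Ideal.Quotient.mk q s)) := rfl

variable (hx : Algebra.adjoin k (Set.range x) = ⊤)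

include hx in
theorem phi1_eq_phi2 : phi1 (k := k) p q x = phi2 (k := k) p q x := by
  refine AlgHom.ext_of_adjoin_eq_top hx ?_
  rintro _ ⟨i, rfl⟩
  rw [phi1_apply, phi2_apply, ← sub_eq_zero, ← map_sub, Ideal.Quotient.eq_zero_iff_mem]
  exact Ideal.subset_span ⟨i, rfl⟩

include hx in
theorem sup_le_ker_phi1 : ∀ a ∈ p ⊔ q, phi1 (k := k) p q x a = 0 := by
  have h1 : p ≤ RingHom.ker (phi1 (k := k) p q x) := by
    intro s hs
    rw [RingHom.mem_ker, phi1_apply, Ideal.Quotient.eq_zero_iff_mem.mpr hs, zero_tmul, map_zero]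
  have h2 : q ≤ RingHom.ker (phi1 (k := k) p q x) := by
    intro s hs
    rw [RingHom.mem_ker, phi1_eq_phi2 p q x hx, phi2_apply, Ideal.Quotient.eq_zero_iff_mem.mpr hs,
      tmul_zero, map_zero]
  intro a ha
  exact sup_le h1 h2 ha

/-- the inverse `S/(p+q) → T/D` -/
noncomputable def nu : S ⧸ (p ⊔ q) →ₐ[k] ((S ⧸ p) ⊗[k] (S ⧸ q)) ⧸ diagIdeal (k := k) p q x :=
  Ideal.Quotient.liftₐ (p ⊔ q) (phi1 (k := k) p q x) (sup_le_ker_phi1 p q x hx)

include hx in
theorem nu_mu (t : (S ⧸ p) ⊗[k] (S ⧸ q)) :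
    nu (k := k) p q x hx (mu (k := k) p q t) = Ideal.Quotient.mk (diagIdeal (k := k) p q x) t := by
  induction t using TensorProduct.induction_on with
  | zero => simp
  | add a b ha hb => rw [map_add, map_add, ha, hb, map_add]
  | tmul a b =>
    obtain ⟨a, rfl⟩ := Ideal.Quotient.mk_surjective a
    obtain ⟨b, rfl⟩ := Ideal.Quotient.mk_surjective b
    rw [mu_tmul_mk]
    change phi1 (k := k) p q x (a * b) = _
    rw [map_mul]
    conv_lhs => rw [phi1_eq_phi2 p q x hx]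
    rw [← phi1_eq_phi2 p q x hx]
    conv_lhs => arg 2; rw [phi1_eq_phi2 p q x hx]
    rw [phi1_apply, phi2_apply, ← map_mul, Algebra.TensorProduct.tmul_mul_tmul, mul_one, one_mul]

include hx in
theorem ker_mu_eq : RingHom.ker (mu (k := k) p q) = diagIdeal (k := k) p q x := by
  apply le_antisymm _ (diagIdeal_le_ker p q x)
  intro t ht
  rw [RingHom.mem_ker] at ht
  have := nu_mu p q x hx t
  rw [ht, map_zero] at this
  exact Ideal.Quotient.eq_zero_iff_mem.mp this.symm

end Diag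

section Main

variable {k : Type u} [Field k] {S : Type u} [CommRing S] [Algebra k S]

/-- `mu` as a ring homomorphism -/
noncomputable def muR (p q : Ideal S) : (S ⧸ p) ⊗[k] (S ⧸ q) →+* S ⧸ (p ⊔ q) :=
  (mu (k := k) p q).toRingHom

theorem muR_surjective (p q : Ideal S) : Function.Surjective (muR (k := k) p q) :=
  mu_surjective p q

theorem ker_muR_eq (p q : Ideal S) {N : ℕ} (x : Fin N → S)
    (hx : Algebra.adjoin k (Set.range x) = ⊤) :
    RingHom.ker (muR (k := k) p q) = diagIdeal (k := k) p q x :=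
  ker_mu_eq p q x hx

/-- a minimal prime over `p + q` gives a minimal prime over the diagonal ideal with the same
quotient dimension -/
theorem exists_prime_tensor (N : ℕ) (x : Fin N → S) (hx : Algebra.adjoin k (Set.range x) = ⊤)
    (p q P : Ideal S) (hP : P ∈ (p ⊔ q).minimalPrimes) :
    ∃ P' : Ideal ((S ⧸ p) ⊗[k] (S ⧸ q)), P' ∈ (diagIdeal (k := k) p q x).minimalPrimes ∧
      ringKrullDim (((S ⧸ p) ⊗[k] (S ⧸ q)) ⧸ P') = ringKrullDim (S ⧸ P) := by
  obtain ⟨Pbar, hPbar, rfl⟩ := exists_minimalPrimes_quotient (p ⊔ q) P hP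
  refine ⟨Pbar.comap (muR (k := k) p q), ?_, ?_⟩
  · rw [← ker_muR_eq p q x hx, RingHom.ker_eq_comap_bot,
      Ideal.comap_minimalPrimes_eq_of_surjective (muR_surjective p q)]
    exact ⟨Pbar, hPbar, rfl⟩
  · have h1 := ringKrullDim_quotient_comap_of_surjective (muR (k := k) p q)
      (muR_surjective p q) Pbar
    have h2 := ringKrullDim_quotient_comap_of_surjective (Ideal.Quotient.mk (p ⊔ q))
      Ideal.Quotient.mk_surjective Pbar
    exact h1.trans h2.symm

/-- in a finite type `k`-algebra `T`, a minimal prime `P'` over an ideal generated by `N`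
elements, containing a minimal prime `𝔓`: `dim T/𝔓 ≤ dim T/P' + N`. -/
theorem ringKrullDim_quotient_le_add_of_minimalPrimes_span {T : Type u} [CommRing T]
    [Algebra k T] [Algebra.FiniteType k T] (N : ℕ) (g : Fin N → T) (P' 𝔓 : Ideal T)
    (hP' : P' ∈ (Ideal.span (Set.range g)).minimalPrimes) [𝔓.IsPrime] (h𝔓le : 𝔓 ≤ P') :
    ringKrullDim (T ⧸ 𝔓) ≤ ringKrullDim (T ⧸ P') + (N : ℕ) := by
  classical
  haveI : P'.IsPrime := hP'.1.1
  have hP'min2 : P' ∈ (𝔓 ⊔ Ideal.span (Set.range g)).minimalPrimes :=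
    ⟨⟨inferInstance, sup_le h𝔓le hP'.1.2⟩,
      fun Q' hQ' hle => hP'.2 ⟨hQ'.1, le_sup_right.trans hQ'.2⟩ hle⟩
  have h1 : (Ideal.span (Ideal.Quotient.mk 𝔓 '' Set.range g)).comap
      (Ideal.Quotient.mk 𝔓) = 𝔓 ⊔ Ideal.span (Set.range g) := by
    rw [← Ideal.map_span, Ideal.comap_map_of_surjective' _ Ideal.Quotient.mk_surjective,
      Ideal.mk_ker, sup_comm]
  rw [← h1, Ideal.comap_minimalPrimes_eq_of_surjective Ideal.Quotient.mk_surjective] at hP'min2
  obtain ⟨Q, hQ, hQeq⟩ := hP'min2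
  haveI : Q.IsPrime := hQ.1.1
  have hdim2 : ringKrullDim (T ⧸ P') = ringKrullDim ((T ⧸ 𝔓) ⧸ Q) := by
    rw [← hQeq, ringKrullDim_quotient_comap_of_surjective _ Ideal.Quotient.mk_surjective]
  haveI : Algebra.FiniteType k (T ⧸ 𝔓) :=
    Algebra.FiniteType.of_surjective (Ideal.Quotient.mkₐ k 𝔓) (Ideal.Quotient.mkₐ_surjective k 𝔓)
  haveI : IsNoetherianRing (T ⧸ 𝔓) := Algebra.FiniteType.isNoetherianRing k _
  have hQht : Q.height ≤ (N : ℕ) := by
    have h2 : Q ∈ (Ideal.span ((Finset.univ.image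
        (fun i => Ideal.Quotient.mk 𝔓 (g i)) : Finset _) : Set (T ⧸ 𝔓))).minimalPrimes := by
      rw [Finset.coe_image, Finset.coe_univ, Set.image_univ]
      rw [← Set.range_comp] at hQ
      exact hQ
    refine (Ideal.height_le_card_of_mem_minimalPrimes_span_finset h2).trans ?_
    have : (Finset.univ.image (fun i => Ideal.Quotient.mk 𝔓 (g i))).card ≤ N := by
      refine Finset.card_image_le.trans ?_
      rw [Finset.card_univ, Fintype.card_fin]
    exact_mod_cast this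
  obtain ⟨m, c, hcm, hm, hc, hmc⟩ :=
    Groth.Agent.Lib.Helper14.FTDim.exists_dim_height (k := k) (T ⧸ 𝔓) Q
  rw [hm, hdim2, hmc]
  rw [hc] at hQht
  have hcN : c ≤ N := by exact_mod_cast hQht
  have : m ≤ (m - c) + N := by omega
  exact_mod_cast this

/-- **Affine dimension theorem** (reduction to the diagonal): for a `k`-algebra `S` generated by
`N` elements, primes `p`, `q` and a minimal prime `P` over `p + q`:
`dim S/p + dim S/q ≤ dim S/P + N`. -/
theorem ringKrullDim_add_le (N : ℕ) (x : Fin N → S) (hx : Algebra.adjoin k (Set.range x) = ⊤)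
    (p q P : Ideal S) [p.IsPrime] [q.IsPrime] (hP : P ∈ (p ⊔ q).minimalPrimes) :
    ringKrullDim (S ⧸ p) + ringKrullDim (S ⧸ q) ≤ ringKrullDim (S ⧸ P) + (N : ℕ) := by
  classical
  haveI : Algebra.FiniteType k S := ⟨⟨Finset.univ.image x, by
    rw [Finset.coe_image, Finset.coe_univ, Set.image_univ]; exact hx⟩⟩
  haveI : Algebra.FiniteType k (S ⧸ p) :=
    Algebra.FiniteType.of_surjective (Ideal.Quotient.mkₐ k p) (Ideal.Quotient.mkₐ_surjective k p)
  haveI : Algebra.FiniteType k (S ⧸ q) :=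
    Algebra.FiniteType.of_surjective (Ideal.Quotient.mkₐ k q) (Ideal.Quotient.mkₐ_surjective k q)
  haveI : Algebra.FiniteType k ((S ⧸ p) ⊗[k] (S ⧸ q)) :=
    Algebra.FiniteType.trans (inferInstance : Algebra.FiniteType k (S ⧸ p))
      (inferInstance : Algebra.FiniteType (S ⧸ p) ((S ⧸ p) ⊗[k] (S ⧸ q)))
  obtain ⟨P', hP'min, hdim1⟩ := exists_prime_tensor N x hx p q P hP
  haveI : P'.IsPrime := hP'min.1.1
  obtain ⟨𝔓, h𝔓, h𝔓le⟩ := Ideal.exists_minimalPrimes_le (bot_le : ⊥ ≤ P')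
  haveI : 𝔓.IsPrime := h𝔓.1.1
  have hle := ringKrullDim_quotient_le_add_of_minimalPrimes_span (k := k) N
    (diagGen (k := k) p q x) P' 𝔓 hP'min h𝔓le
  have hsum := Groth.Agent.Lib.Helper6.EquiDim.ringKrullDim_quotient_minimalPrime_tensor k
    (S ⧸ p) (S ⧸ q) 𝔓 h𝔓
  rw [← hsum, ← hdim1]
  exact hle

end Main

end Groth.Agent.Lib.Helper4.DiagDim
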