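import Groth.Agent.Lib.Helper14FTDimB

/-!
# Dimension theory of finite type algebras over a field: residue-field form

* `exists_trdeg_eq_dim_quotient_ker`: for a finite type `k`-algebra `A` and a `k`-algebra map
  `ev : A → L` to a field every element of which is a quotient of values of `ev`,
  `trdeg_k L = dim A / ker ev`.
-/

set_option autoImplicit false
set_option linter.style.haveILetI false
universe u

namespace Groth.Agent.Lib.Helper4.VarDim

theorem exists_trdeg_eq_dim_quotient_ker {k A L : Type u} [Field k] [CommRing A] [Algebra k A]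
    [Algebra.FiniteType k A] [Field L] [Algebra k L] (ev : A →ₐ[k] L)
    (hfrac : ∀ z : L, ∃ a s : A, z = ev a / ev s) :
    ∃ n : ℕ, Algebra.trdeg k L = n ∧ ringKrullDim (A ⧸ RingHom.ker ev.toRingHom) = n := by
  set p := RingHom.ker ev.toRingHom with hp
  haveI : p.IsPrime := RingHom.ker_isPrime _
  let ev' : (A ⧸ p) →ₐ[k] L := Ideal.Quotient.liftₐ p ev (fun a ha => ha)
  have hev' : ∀ a : A, ev' (Ideal.Quotient.mk p a) = ev a := fun a => rfl
  have hinj : Function.Injective ev' := by
    rw [injective_iff_map_eq_zero]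
    intro d hd
    obtain ⟨a, rfl⟩ := Ideal.Quotient.mk_surjective d
    rw [hev'] at hd
    exact Ideal.Quotient.eq_zero_iff_mem.mpr hd
  letI : Algebra (A ⧸ p) L := ev'.toRingHom.toAlgebra
  haveI : IsScalarTower k (A ⧸ p) L := IsScalarTower.of_algebraMap_eq (fun c => (ev'.commutes c).symm)
  haveI : FaithfulSMul (A ⧸ p) L := (faithfulSMul_iff_algebraMap_injective _ _).mpr hinj
  haveI : IsFractionRing (A ⧸ p) L := by
    apply IsFractionRing.of_field
    intro z
    obtain ⟨a, s, rfl⟩ := hfrac z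
    exact ⟨Ideal.Quotient.mk p a, Ideal.Quotient.mk p s, rfl⟩
  obtain ⟨n, h1, h2, -⟩ := Groth.Agent.Lib.Helper14.FTDim.exists_dim k (A ⧸ p)
  refine ⟨n, ?_, h2⟩
  rw [← h1]
  exact ((FractionRing.algEquiv (A ⧸ p) L).restrictScalars k).symm.trdeg_eq

/-- For primes `p ≤ q` of a finite type `k`-algebra: `dim A/p = ht(q/p) + dim A/q`. -/
theorem exists_height_quotient {k A : Type u} [Field k] [CommRing A] [Algebra k A]
    [Algebra.FiniteType k A] (p q : Ideal A) [p.IsPrime] [q.IsPrime] (hpq : p ≤ q) :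
    ∃ m c : ℕ, c ≤ m ∧ ringKrullDim (A ⧸ p) = m ∧
      (q.map (Ideal.Quotient.mk p)).height = c ∧ ringKrullDim (A ⧸ q) = (m - c : ℕ) := by
  haveI : (q.map (Ideal.Quotient.mk p)).IsPrime :=
    Ideal.map_isPrime_of_surjective Ideal.Quotient.mk_surjective (by rwa [Ideal.mk_ker])
  obtain ⟨m, c, hcm, h1, h2, h3⟩ := Groth.Agent.Lib.Helper14.FTDim.exists_dim_height (k := k)
    (A ⧸ p) (q.map (Ideal.Quotient.mk p))
  refine ⟨m, c, hcm, h1, h2, ?_⟩
  rw [← h3]
  exact (ringKrullDim_eq_of_ringEquiv (DoubleQuot.quotQuotEquivQuotOfLE hpq)).symm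

/-- If `p` is contained in every prime, then `dim A/p = dim A`. -/
theorem ringKrullDim_quotient_eq_of_forall_le {A : Type*} [CommRing A] (p : Ideal A)
    (h : ∀ q : Ideal A, q.IsPrime → p ≤ q) : ringKrullDim (A ⧸ p) = ringKrullDim A := by
  rw [ringKrullDim_quotient]
  have : PrimeSpectrum.zeroLocus (p : Set A) = Set.univ := by
    ext q
    simp only [PrimeSpectrum.mem_zeroLocus, SetLike.coe_subset_coe, Set.mem_univ, iff_true]
    exact h q.asIdeal q.isPrime
  rw [this]
  exact Order.krullDim_eq_of_orderIso OrderIso.Set.univ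

end Groth.Agent.Lib.Helper4.VarDim
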