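import Mathlib
import Groth.Agent.Lib.Helper2DiagTorB
import Groth.Agent.S9408
import Groth.Agent.Lib.Helper5RegImmAlg
import Groth.Agent.Lib.Helper13KzDim
import Groth.Agent.Lib.Helper13KzTor
import Groth.Agent.Lib.Helper4VarDim
import Groth.Agent.Lib.Helper4DiagDim
import Groth.Agent.Lib.Helper4TensorDim
import Groth.Agent.Lib.Helper6EquiDim3
import Groth.Agent.Lib.Helper14FTDimB
import Groth.Agent.Lib.Helper28Unmixed

/-!
# The local ring of `A ⊗_K A` along the diagonal (helper2)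

For a `K`-algebra `A`, a prime `P` of `A` and `R = A_P`: the ring `C = (A ⊗_K A)_𝔓` (`𝔓` the preimage
of `P` under the multiplication), the two maps `j₁ j₂ : R → C`, their common retraction `μ : C → R`,
and the flatness statements needed for the reduction to the diagonal.
-/

set_option autoImplicit false
set_option linter.style.haveILetI false
set_option linter.unusedSectionVars false

open TensorProduct

namespace Groth.Agent.Lib.Helper2.DiagAlg

universe u

theorem flat_of_comp_algebraMap {A R C : Type*} [CommRing A] [CommRing R] [CommRing C]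
    [Algebra A R] (S : Submonoid A) [IsLocalization S R] (j : R →+* C)
    (h : (j.comp (algebraMap A R)).Flat) : j.Flat := by
  letI : Algebra R C := j.toAlgebra
  letI : Algebra A C := (j.comp (algebraMap A R)).toAlgebra
  haveI : IsScalarTower A R C := IsScalarTower.of_algebraMap_eq (fun _ => rfl)
  haveI : Module.Flat A C := h
  exact (Module.flat_iff_of_isLocalization R S C).mpr inferInstance

variable (K : Type u) [Field K] (A : Type u) [CommRing A] [Algebra K A]

/-- the right inclusion `A → A ⊗ A` -/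
noncomputable abbrev i₂ : A →+* A ⊗[K] A :=
  (Algebra.TensorProduct.includeRight : A →ₐ[K] A ⊗[K] A).toRingHom

/-- the multiplication `A ⊗ A → A` -/
noncomputable abbrev μ₀ : A ⊗[K] A →+* A :=
  (Algebra.TensorProduct.lmul' K : A ⊗[K] A →ₐ[K] A).toRingHom

theorem μ₀_i₁ (a : A) : μ₀ K A (algebraMap A (A ⊗[K] A) a) = a := by
  show Algebra.TensorProduct.lmul' K (algebraMap A (A ⊗[K] A) a) = a
  rw [Algebra.TensorProduct.algebraMap_apply, Algebra.TensorProduct.lmul'_apply_tmul]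
  simp

theorem μ₀_i₂ (a : A) : μ₀ K A (i₂ K A a) = a := by
  show Algebra.TensorProduct.lmul' K ((1 : A) ⊗ₜ[K] a) = a
  rw [Algebra.TensorProduct.lmul'_apply_tmul, one_mul]

theorem μ₀_surjective : Function.Surjective (μ₀ K A) := fun a => ⟨_, μ₀_i₁ K A a⟩

theorem flat_i₂ : (i₂ K A).Flat := by
  have h1 : i₂ K A = ((Algebra.TensorProduct.comm K A A : A ⊗[K] A ≃ₐ[K] A ⊗[K] A) :
      A ⊗[K] A →+* A ⊗[K] A).comp (algebraMap A (A ⊗[K] A)) := by
    ext a
    show (1 : A) ⊗ₜ[K] a = Algebra.TensorProduct.comm K A A (algebraMap A (A ⊗[K] A) a)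
    rw [Algebra.TensorProduct.algebraMap_apply]
    simp
  rw [h1]
  exact RingHom.Flat.comp (RingHom.flat_algebraMap_iff.mpr inferInstance)
    (RingHom.Flat.of_bijective (Algebra.TensorProduct.comm K A A).bijective)

variable (P : Ideal A) [P.IsPrime]

/-- the prime of the diagonal point -/
noncomputable abbrev PP : Ideal (A ⊗[K] A) := P.comap (μ₀ K A)

/-- the local ring of `A ⊗ A` at the diagonal point -/
abbrev CC : Type u := Localization.AtPrime (PP K A P)

theorem i₁_mem_primeCompl (y : P.primeCompl) :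
    algebraMap A (A ⊗[K] A) y ∈ (PP K A P).primeCompl := by
  show ¬ (algebraMap A (A ⊗[K] A) (y : A) ∈ Ideal.comap (μ₀ K A) P)
  rw [Ideal.mem_comap, μ₀_i₁]
  exact y.2

theorem i₂_mem_primeCompl (y : P.primeCompl) :
    i₂ K A y ∈ (PP K A P).primeCompl := by
  show ¬ (i₂ K A (y : A) ∈ Ideal.comap (μ₀ K A) P)
  rw [Ideal.mem_comap, μ₀_i₂]
  exact y.2

variable (R : Type u) [CommRing R] [Algebra A R] [IsLocalization.AtPrime R P]

/-- left map `A_P → (A ⊗ A)_𝔓` -/
noncomputable def j₁ : R →+* CC K A P :=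
  IsLocalization.lift (M := P.primeCompl)
    (g := (algebraMap (A ⊗[K] A) (CC K A P)).comp (algebraMap A (A ⊗[K] A)))
    (fun y => IsLocalization.map_units (CC K A P) ⟨_, i₁_mem_primeCompl K A P y⟩)

/-- right map `A_P → (A ⊗ A)_𝔓` -/
noncomputable def j₂ : R →+* CC K A P :=
  IsLocalization.lift (M := P.primeCompl)
    (g := (algebraMap (A ⊗[K] A) (CC K A P)).comp (i₂ K A))
    (fun y => IsLocalization.map_units (CC K A P) ⟨_, i₂_mem_primeCompl K A P y⟩)

/-- the multiplication `(A ⊗ A)_𝔓 → A_P` -/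
noncomputable def μ : CC K A P →+* R :=
  IsLocalization.lift (M := (PP K A P).primeCompl)
    (g := (algebraMap A R).comp (μ₀ K A))
    (fun y => IsLocalization.map_units R (⟨μ₀ K A y, y.2⟩ : P.primeCompl))

theorem j₁_algebraMap (a : A) :
    j₁ K A P R (algebraMap A R a) =
      algebraMap (A ⊗[K] A) (CC K A P) (algebraMap A (A ⊗[K] A) a) :=
  IsLocalization.lift_eq _ a

theorem j₂_algebraMap (a : A) :
    j₂ K A P R (algebraMap A R a) = algebraMap (A ⊗[K] A) (CC K A P) (i₂ K A a) :=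
  IsLocalization.lift_eq _ a

theorem μ_algebraMap (x : A ⊗[K] A) :
    μ K A P R (algebraMap (A ⊗[K] A) (CC K A P) x) = algebraMap A R (μ₀ K A x) :=
  IsLocalization.lift_eq _ x

theorem μ_j₁ (r : R) : μ K A P R (j₁ K A P R r) = r := by
  have h : (μ K A P R).comp (j₁ K A P R) = RingHom.id R := by
    apply IsLocalization.ringHom_ext P.primeCompl
    ext a
    simp only [RingHom.comp_apply, RingHom.id_apply]
    rw [j₁_algebraMap, μ_algebraMap, μ₀_i₁]
  exact congrFun (congrArg DFunLike.coe h) r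

theorem μ_j₂ (r : R) : μ K A P R (j₂ K A P R r) = r := by
  have h : (μ K A P R).comp (j₂ K A P R) = RingHom.id R := by
    apply IsLocalization.ringHom_ext P.primeCompl
    ext a
    simp only [RingHom.comp_apply, RingHom.id_apply]
    rw [j₂_algebraMap, μ_algebraMap, μ₀_i₂]
  exact congrFun (congrArg DFunLike.coe h) r

theorem flat_j₂ : (j₂ K A P R).Flat := by
  apply flat_of_comp_algebraMap P.primeCompl
  have h1 : (j₂ K A P R).comp (algebraMap A R) =
      (algebraMap (A ⊗[K] A) (CC K A P)).comp (i₂ K A) := by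
    ext a
    exact j₂_algebraMap K A P R a
  rw [h1]
  exact RingHom.Flat.comp (flat_i₂ K A)
    (RingHom.flat_algebraMap_iff.mpr (IsLocalization.flat (CC K A P) (PP K A P).primeCompl))

theorem map_j₂_eq (b₀ : Ideal A) :
    (b₀.map (algebraMap A R)).map (j₂ K A P R) =
      (b₀.map (i₂ K A)).map (algebraMap (A ⊗[K] A) (CC K A P)) := by
  rw [Ideal.map_map, Ideal.map_map]
  congr 1
  ext a
  exact j₂_algebraMap K A P R a

theorem map_j₁_eq (a₀ : Ideal A) :
    (a₀.map (algebraMap A R)).map (j₁ K A P R) =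
      (a₀.map (algebraMap A (A ⊗[K] A))).map (algebraMap (A ⊗[K] A) (CC K A P)) := by
  rw [Ideal.map_map, Ideal.map_map]
  congr 1
  ext a
  exact j₁_algebraMap K A P R a

theorem flat_quot_j₁ (b₀ : Ideal A) :
    RingHom.Flat (R := R) (S := CC K A P ⧸ (b₀.map (algebraMap A R)).map (j₂ K A P R))
      ((Ideal.Quotient.mk ((b₀.map (algebraMap A R)).map (j₂ K A P R))).comp (j₁ K A P R)) := by
  apply flat_of_comp_algebraMap P.primeCompl
  rw [map_j₂_eq]
  set I₂ : Ideal (A ⊗[K] A) := b₀.map (i₂ K A) with hI₂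
  have h1 : ((Ideal.Quotient.mk (I₂.map (algebraMap (A ⊗[K] A) (CC K A P)))).comp
      (j₁ K A P R)).comp (algebraMap A R) =
      (algebraMap ((A ⊗[K] A) ⧸ I₂) (CC K A P ⧸ I₂.map (algebraMap (A ⊗[K] A) (CC K A P)))).comp
        (algebraMap A ((A ⊗[K] A) ⧸ I₂)) := by
    ext a
    simp only [RingHom.comp_apply]
    rw [j₁_algebraMap]
    rfl
  rw [h1]
  have hfree : Module.Flat A ((A ⊗[K] A) ⧸ I₂) := by
    have e := Algebra.TensorProduct.tensorQuotientEquiv (R := K) A A A b₀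
    exact Module.Flat.of_linearEquiv e.toLinearEquiv.symm
  have hloc : Module.Flat ((A ⊗[K] A) ⧸ I₂)
      (CC K A P ⧸ I₂.map (algebraMap (A ⊗[K] A) (CC K A P))) :=
    IsLocalization.flat (CC K A P ⧸ I₂.map (algebraMap (A ⊗[K] A) (CC K A P)))
      (Algebra.algebraMapSubmonoid ((A ⊗[K] A) ⧸ I₂) (PP K A P).primeCompl)
  exact RingHom.Flat.comp (RingHom.flat_algebraMap_iff.mpr hfree)
    (RingHom.flat_algebraMap_iff.mpr hloc)

section Pos

theorem ringKrullDim_quotient_map_eq_height {A R : Type*} [CommRing A] [CommRing R] [Algebra A R]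
    (p q : Ideal A) [p.IsPrime] [q.IsPrime] [IsLocalization.AtPrime R q] (hpq : p ≤ q) :
    ringKrullDim (R ⧸ p.map (algebraMap A R)) =
      ((q.map (Ideal.Quotient.mk p)).height : WithBot ℕ∞) := by
  haveI hP : (q.map (Ideal.Quotient.mk p)).IsPrime :=
    Ideal.map_isPrime_of_surjective Ideal.Quotient.mk_surjective (by rwa [Ideal.mk_ker])
  have hsub : Algebra.algebraMapSubmonoid (A ⧸ p) q.primeCompl =
      (q.map (Ideal.Quotient.mk p)).primeCompl := by
    ext x
    constructor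
    · rintro ⟨y, hy, rfl⟩
      show ¬ (Ideal.Quotient.mk p y ∈ Ideal.map (Ideal.Quotient.mk p) q)
      rw [Ideal.mem_quotient_iff_mem hpq]
      exact hy
    · intro hx
      obtain ⟨y, rfl⟩ := Ideal.Quotient.mk_surjective x
      refine ⟨y, ?_, rfl⟩
      show y ∉ q
      intro hy
      exact hx (Ideal.mem_map_of_mem _ hy)
  haveI : IsLocalization.AtPrime (R ⧸ p.map (algebraMap A R)) (q.map (Ideal.Quotient.mk p)) := by
    show IsLocalization _ _
    rw [← hsub]
    infer_instance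
  exact IsLocalization.AtPrime.ringKrullDim_eq_height (q.map (Ideal.Quotient.mk p))
    (R ⧸ p.map (algebraMap A R))

variable [IsDomain A] [Algebra.Smooth K A]

theorem isRegularLocalRing_CC : IsRegularLocalRing (CC K A P) := by
  haveI : Algebra.Smooth K (A ⊗[K] A) := Algebra.Smooth.comp K A (A ⊗[K] A)
  haveI : IsRegularRing (A ⊗[K] A) := Groth.Agent.S9408.isRegularRing_of_smooth K (A ⊗[K] A)
  infer_instance

include K A P in
theorem isRegularLocalRing_R : IsRegularLocalRing R := by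
  haveI : IsRegularRing A := Groth.Agent.S9408.isRegularRing_of_smooth K A
  exact IsRegularLocalRing.of_ringEquiv
    (IsLocalization.algEquiv P.primeCompl (Localization.AtPrime P) R).toRingEquiv

open Groth.Agent.Lib.Helper4.VarDim Groth.Agent.Lib.Helper4.DiagDim in
/-- the dimension count: under the properness inequality at `R = A_P`, the length of a regular
sequence generating the diagonal ideal of `C` is at most the dimension of `C/(b^e + a^e)`. -/
theorem length_le_dim (a₀ b₀ : Ideal A) [a₀.IsPrime] [b₀.IsPrime] (ha : a₀ ≤ P) (hb : b₀ ≤ P)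
    (rs : List (CC K A P)) (hreg : RingTheory.Sequence.IsRegular (CC K A P) rs)
    (hker : RingHom.ker (μ K A P R) = Ideal.ofList rs)
    (hprop : ringKrullDim R ≤ ringKrullDim (R ⧸ a₀.map (algebraMap A R)) +
      ringKrullDim (R ⧸ b₀.map (algebraMap A R))) :
    (rs.length : WithBot ℕ∞) ≤
      ringKrullDim (CC K A P ⧸ ((b₀.map (algebraMap A R)).map (j₂ K A P R) ⊔
        (a₀.map (algebraMap A R)).map (j₁ K A P R))) := by
  haveI : Algebra.FiniteType K A := inferInstance
  haveI : Algebra.Smooth K (A ⊗[K] A) := Algebra.Smooth.comp K A (A ⊗[K] A)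
  haveI : Algebra.FiniteType K (A ⊗[K] A) := inferInstance
  haveI : IsNoetherianRing A := Algebra.FiniteType.isNoetherianRing K A
  haveI := isRegularLocalRing_CC K A P
  -- (1) `A`, `P`
  obtain ⟨n, c, hcn, hdimA, hhtP, hdimAP⟩ :=
    Groth.Agent.Lib.Helper14.FTDim.exists_dim_height (k := K) A P
  have hdimR : ringKrullDim R = (c : WithBot ℕ∞) := by
    rw [IsLocalization.AtPrime.ringKrullDim_eq_height P R, hhtP]
    rfl
  -- (2) `a₀`, `b₀`
  obtain ⟨r', ca, hca, hr', hhta, hza⟩ := exists_height_quotient (k := K) a₀ P ha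
  obtain ⟨s', cb, hcb, hs', hhtb, hzb⟩ := exists_height_quotient (k := K) b₀ P hb
  have hdimRa : ringKrullDim (R ⧸ a₀.map (algebraMap A R)) = (ca : WithBot ℕ∞) := by
    rw [ringKrullDim_quotient_map_eq_height a₀ P ha, hhta]
    rfl
  have hdimRb : ringKrullDim (R ⧸ b₀.map (algebraMap A R)) = (cb : WithBot ℕ∞) := by
    rw [ringKrullDim_quotient_map_eq_height b₀ P hb, hhtb]
    rfl
  rw [hdimR, hdimRa, hdimRb] at hprop
  have hprop' : c ≤ ca + cb := by exact_mod_cast hprop
  have hz1 : n - c = r' - ca := by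
    have := hdimAP.symm.trans hza
    exact_mod_cast this
  have hz2 : n - c = s' - cb := by
    have := hdimAP.symm.trans hzb
    exact_mod_cast this
  -- (3) the diagonal prime
  have hdimB𝔓 : ringKrullDim ((A ⊗[K] A) ⧸ PP K A P) = ((n - c : ℕ) : WithBot ℕ∞) := by
    rw [← hdimAP]
    exact ringKrullDim_quotient_comap_of_surjective (μ₀ K A) (μ₀_surjective K A) P
  have hdimB : ringKrullDim (A ⊗[K] A) = ((n + n : ℕ) : WithBot ℕ∞) := by
    rw [Groth.Agent.Lib.Helper4.TensorDim.ringKrullDim_tensor_eq_add K A A, hdimA]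
    push_cast
    rfl
  have hle := Groth.Agent.Lib.Helper28.height_add_ringKrullDim_quotient_le (PP K A P)
    (Ideal.IsPrime.ne_top inferInstance)
  rw [hdimB𝔓, hdimB] at hle
  -- the regular sequence
  have hμsurj : Function.Surjective (μ K A P R) := fun r => ⟨j₁ K A P R r, μ_j₁ K A P R r⟩
  have hrs := ringKrullDim_add_length_eq_ringKrullDim_of_isRegular rs hreg
  have hdimq : ringKrullDim (CC K A P ⧸ Ideal.ofList rs) = (c : WithBot ℕ∞) := by
    rw [← hdimR]
    exact ringKrullDim_eq_of_ringEquiv ((Ideal.quotEquivOfEq hker.symm).trans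
      (RingHom.quotientKerEquivOfSurjective hμsurj))
  rw [hdimq, IsLocalization.AtPrime.ringKrullDim_eq_height (PP K A P) (CC K A P)] at hrs
  rw [← hrs] at hle
  have hlen : c + rs.length + (n - c) ≤ n + n := by exact_mod_cast hle
  -- (4) the product of the two subvarieties
  set J₀ : Ideal (A ⊗[K] A) := a₀.map (algebraMap A (A ⊗[K] A)) ⊔ b₀.map (i₂ K A) with hJ₀
  have hJ₀le : J₀ ≤ PP K A P := by
    rw [hJ₀, sup_le_iff, Ideal.map_le_iff_le_comap, Ideal.map_le_iff_le_comap]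
    constructor
    · intro x hx
      rw [Ideal.mem_comap, Ideal.mem_comap, μ₀_i₁]
      exact ha hx
    · intro x hx
      rw [Ideal.mem_comap, Ideal.mem_comap, μ₀_i₂]
      exact hb hx
  obtain ⟨𝔮', h𝔮', h𝔮'le⟩ := Ideal.exists_minimalPrimes_le hJ₀le
  haveI : 𝔮'.IsPrime := h𝔮'.1.1
  have hJ₀𝔮' : J₀ ≤ 𝔮' := h𝔮'.1.2
  obtain ⟨m₂, c₂, hc₂, hm₂, hht₂, hz₂⟩ := exists_height_quotient (k := K) 𝔮' (PP K A P) h𝔮'le
  have hdimL := Groth.Agent.Lib.Helper2.IntMultLoc.height_map_le_ringKrullDim_quotient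
    (R := CC K A P) 𝔮' (PP K A P) J₀ hJ₀𝔮' h𝔮'le
  have hJ₀map : J₀.map (algebraMap (A ⊗[K] A) (CC K A P)) =
      (b₀.map (algebraMap A R)).map (j₂ K A P R) ⊔ (a₀.map (algebraMap A R)).map (j₁ K A P R) := by
    rw [hJ₀, Ideal.map_sup, map_j₁_eq, map_j₂_eq, sup_comm]
  rw [hJ₀map, hht₂] at hdimL
  -- `m₂ = r' + s'`
  haveI : Algebra.FiniteType K (A ⧸ a₀) :=
    Algebra.FiniteType.of_surjective (Ideal.Quotient.mkₐ K a₀) (Ideal.Quotient.mkₐ_surjective K a₀)
  haveI : Algebra.FiniteType K (A ⧸ b₀) :=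
    Algebra.FiniteType.of_surjective (Ideal.Quotient.mkₐ K b₀) (Ideal.Quotient.mkₐ_surjective K b₀)
  let π : A ⊗[K] A →ₐ[K] (A ⧸ a₀) ⊗[K] (A ⧸ b₀) :=
    Algebra.TensorProduct.map (Ideal.Quotient.mkₐ K a₀) (Ideal.Quotient.mkₐ K b₀)
  have hπsurj : Function.Surjective (π : A ⊗[K] A →+* (A ⧸ a₀) ⊗[K] (A ⧸ b₀)) :=
    Algebra.TensorProduct.map_surjective _ _ (Ideal.Quotient.mkₐ_surjective K a₀)
      (Ideal.Quotient.mkₐ_surjective K b₀)
  have hka : RingHom.ker (Ideal.Quotient.mkₐ K a₀) = a₀ := by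
    ext x
    rw [RingHom.mem_ker, Ideal.Quotient.mkₐ_eq_mk, Ideal.Quotient.eq_zero_iff_mem]
  have hkb : RingHom.ker (Ideal.Quotient.mkₐ K b₀) = b₀ := by
    ext x
    rw [RingHom.mem_ker, Ideal.Quotient.mkₐ_eq_mk, Ideal.Quotient.eq_zero_iff_mem]
  have hkerπ : RingHom.ker (π : A ⊗[K] A →+* (A ⧸ a₀) ⊗[K] (A ⧸ b₀)) = J₀ := by
    have h1 := Algebra.TensorProduct.map_ker (Ideal.Quotient.mkₐ K a₀) (Ideal.Quotient.mkₐ K b₀)
      (Ideal.Quotient.mkₐ_surjective K a₀) (Ideal.Quotient.mkₐ_surjective K b₀)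
    rw [hka, hkb] at h1
    exact h1
  have h1 : J₀ = (⊥ : Ideal ((A ⧸ a₀) ⊗[K] (A ⧸ b₀))).comap
      (π : A ⊗[K] A →+* (A ⧸ a₀) ⊗[K] (A ⧸ b₀)) := by
    rw [← RingHom.ker_eq_comap_bot]
    exact hkerπ.symm
  rw [h1, Ideal.comap_minimalPrimes_eq_of_surjective hπsurj] at h𝔮'
  obtain ⟨𝔮T, h𝔮T, h𝔮Teq⟩ := h𝔮'
  have hdimT := Groth.Agent.Lib.Helper6.EquiDim.ringKrullDim_quotient_minimalPrime_tensor K
    (A ⧸ a₀) (A ⧸ b₀) 𝔮T h𝔮T
  have hdimq' := ringKrullDim_quotient_comap_of_surjective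
    (π : A ⊗[K] A →+* (A ⧸ a₀) ⊗[K] (A ⧸ b₀)) hπsurj 𝔮T
  rw [h𝔮Teq, hm₂, hdimT, hr', hs'] at hdimq'
  have hm₂' : m₂ = r' + s' := by exact_mod_cast hdimq'
  have hzc₂ : n - c = m₂ - c₂ := by
    have := hdimB𝔓.symm.trans hz₂
    exact_mod_cast this
  have hfin : rs.length ≤ c₂ := by omega
  refine le_trans ?_ hdimL
  exact_mod_cast hfin

include K in
/-- **Serre positivity**, geometric case: for `A` a smooth domain over a field `K`, `R = A_P`, primes
`a₀, b₀ ⊆ P` with `P` minimal over `a₀ + b₀` (in the form: the maximal ideal is the only prime of `R`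
over `a₀R + b₀R`) and `dim R ≤ dim R/a₀R + dim R/b₀R`:
`χ^R(R/b₀R, R/a₀R) > 0`. -/
theorem chi_pos [IsLocalRing R] (a₀ b₀ : Ideal A) [a₀.IsPrime] [b₀.IsPrime] (ha : a₀ ≤ P)
    (hb : b₀ ≤ P)
    (hmin : ∀ Q : Ideal R, Q.IsPrime → a₀.map (algebraMap A R) ≤ Q →
      b₀.map (algebraMap A R) ≤ Q → Q = IsLocalRing.maximalIdeal R)
    (hprop : ringKrullDim R ≤ ringKrullDim (R ⧸ a₀.map (algebraMap A R)) +
      ringKrullDim (R ⧸ b₀.map (algebraMap A R))) :
    0 < IntMult.chi R (R ⧸ b₀.map (algebraMap A R)) (R ⧸ a₀.map (algebraMap A R)) := by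
  haveI := isRegularLocalRing_CC K A P
  haveI := isRegularLocalRing_R K A P R
  have hμsurj : Function.Surjective (μ K A P R) := fun r => ⟨j₁ K A P R r, μ_j₁ K A P R r⟩
  obtain ⟨rs, hreg, hker⟩ :=
    Groth.Agent.Lib.Helper5.RegImmAlg.exists_regular_ker_of_surjective (μ K A P R) hμsurj
  have hchi := Groth.Agent.Lib.Helper2.DiagTor.chi_diag (j₁ K A P R) (j₂ K A P R) (μ K A P R)
    (μ_j₁ K A P R) (μ_j₂ K A P R) (a₀.map (algebraMap A R)) (b₀.map (algebraMap A R))
    (Ideal.ofList rs) hker (flat_j₂ K A P R) (flat_quot_j₁ K A P R b₀)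
  rw [hchi, Groth.Agent.Helper13Kz.intMult_chi_eq_chi rs hreg.toIsWeaklyRegular]
  have hkerne : RingHom.ker (μ K A P R) ≠ ⊤ := RingHom.ker_ne_top _
  have hmem : ∀ x ∈ rs, x ∈ IsLocalRing.maximalIdeal (CC K A P) := by
    intro x hx
    have h1 : x ∈ RingHom.ker (μ K A P R) := by
      rw [hker]
      exact Ideal.subset_span hx
    exact IsLocalRing.le_maximalIdeal hkerne h1
  have hFLI : Groth.Agent.Helper13Kz.FLI (Ideal.span {x | x ∈ rs})
      (CC K A P ⧸ ((b₀.map (algebraMap A R)).map (j₂ K A P R) ⊔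
        (a₀.map (algebraMap A R)).map (j₁ K A P R))) := by
    intro p hp hle
    have hann : (b₀.map (algebraMap A R)).map (j₂ K A P R) ⊔
        (a₀.map (algebraMap A R)).map (j₁ K A P R) ≤ p.asIdeal := by
      have := Module.annihilator_le_of_mem_support hp
      rwa [Ideal.annihilator_quotient] at this
    have hle' : RingHom.ker (μ K A P R) ≤ p.asIdeal := by
      rw [hker]
      exact hle
    haveI : (p.asIdeal.map (μ K A P R)).IsPrime :=
      Ideal.map_isPrime_of_surjective hμsurj hle'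
    have hQ := hmin (p.asIdeal.map (μ K A P R)) inferInstance ?_ ?_
    · have h2 : p.asIdeal = (p.asIdeal.map (μ K A P R)).comap (μ K A P R) := by
        rw [Ideal.comap_map_of_surjective' _ hμsurj, sup_eq_left.mpr hle']
      rw [h2, hQ]
      exact Ideal.comap_isMaximal_of_surjective _ hμsurj
    · intro x hx
      have h3 : j₁ K A P R x ∈ p.asIdeal :=
        hann (Ideal.mem_sup_right (Ideal.mem_map_of_mem _ hx))
      have h4 := Ideal.mem_map_of_mem (μ K A P R) h3
      rwa [μ_j₁] at h4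
    · intro x hx
      have h3 : j₂ K A P R x ∈ p.asIdeal :=
        hann (Ideal.mem_sup_left (Ideal.mem_map_of_mem _ hx))
      have h4 := Ideal.mem_map_of_mem (μ K A P R) h3
      rwa [μ_j₂] at h4
  have hdim : Module.supportDim (CC K A P)
      (CC K A P ⧸ ((b₀.map (algebraMap A R)).map (j₂ K A P R) ⊔
        (a₀.map (algebraMap A R)).map (j₁ K A P R))) = (rs.length : WithBot ℕ∞) := by
    apply le_antisymm
    · exact Groth.Agent.Helper13Kz.supportDim_le_length_of_FLI _ rs hmem hFLI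
    · rw [Module.supportDim_quotient_eq_ringKrullDim]
      exact length_le_dim K A P R a₀ b₀ ha hb rs hreg hker hprop
  exact (Groth.Agent.Helper13Kz.chi_nonneg_and_pos rs hmem _ hFLI).2 hdim

end Pos

end Groth.Agent.Lib.Helper2.DiagAlg
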