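import Mathlib
import Groth.Agent.Lib.Helper2DiagAlg

/-!
# The dimension inequality for intersections on a smooth variety, algebraic form (helper2)

For a smooth domain `A` over a field `K`, primes `a₀, b₀` and a minimal prime `P` over `a₀ + b₀`:
`dim A/a₀ + dim A/b₀ ≤ dim A/P + dim A`.  (Reduction to the diagonal: the diagonal ideal of
`(A ⊗_K A)_𝔓` is generated by a regular sequence of length `≤ dim A`.)
-/

set_option autoImplicit false
set_option linter.style.haveILetI false
set_option linter.unusedSectionVars false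

open TensorProduct

namespace Groth.Agent.Lib.Helper2.DiagAlg

universe u

variable (K : Type u) [Field K] (A : Type u) [CommRing A] [Algebra K A]
variable (P : Ideal A) [P.IsPrime]
variable (R : Type u) [CommRing R] [Algebra A R] [IsLocalization.AtPrime R P]
variable [IsDomain A] [Algebra.Smooth K A]

open Groth.Agent.Lib.Helper4.VarDim Groth.Agent.Lib.Helper4.DiagDim in
/-- the dimension data of the diagonal situation (no properness assumption). -/
theorem exists_dims (a₀ b₀ : Ideal A) [a₀.IsPrime] [b₀.IsPrime] (ha : a₀ ≤ P) (hb : b₀ ≤ P)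
    (rs : List (CC K A P)) (hreg : RingTheory.Sequence.IsRegular (CC K A P) rs)
    (hker : RingHom.ker (μ K A P R) = Ideal.ofList rs) :
    ∃ n z r' s' c₂ : ℕ, ringKrullDim A = n ∧ ringKrullDim (A ⧸ P) = z ∧
      ringKrullDim (A ⧸ a₀) = r' ∧ ringKrullDim (A ⧸ b₀) = s' ∧ rs.length ≤ n ∧
      r' + s' = c₂ + z ∧
      (c₂ : WithBot ℕ∞) ≤
        ringKrullDim (CC K A P ⧸ ((b₀.map (algebraMap A R)).map (j₂ K A P R) ⊔
          (a₀.map (algebraMap A R)).map (j₁ K A P R))) := by
  haveI : Algebra.FiniteType K A := inferInstance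
  haveI : Algebra.Smooth K (A ⊗[K] A) := Algebra.Smooth.comp K A (A ⊗[K] A)
  haveI : Algebra.FiniteType K (A ⊗[K] A) := inferInstance
  haveI : IsNoetherianRing A := Algebra.FiniteType.isNoetherianRing K A
  haveI := isRegularLocalRing_CC K A P
  obtain ⟨n, c, hcn, hdimA, hhtP, hdimAP⟩ :=
    Groth.Agent.Lib.Helper14.FTDim.exists_dim_height (k := K) A P
  have hdimR : ringKrullDim R = (c : WithBot ℕ∞) := by
    rw [IsLocalization.AtPrime.ringKrullDim_eq_height P R, hhtP]
    rfl
  obtain ⟨r', ca, hca, hr', hhta, hza⟩ := exists_height_quotient (k := K) a₀ P ha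
  obtain ⟨s', cb, hcb, hs', hhtb, hzb⟩ := exists_height_quotient (k := K) b₀ P hb
  have hdimB𝔓 : ringKrullDim ((A ⊗[K] A) ⧸ PP K A P) = ((n - c : ℕ) : WithBot ℕ∞) := by
    rw [← hdimAP]
    exact ringKrullDim_quotient_comap_of_surjective (μ₀ K A) (μ₀_surjective K A) P
  have hdimB : ringKrullDim (A ⊗[K] A) = ((n + n : ℕ) : WithBot ℕ∞) := by
    rw [Groth.Agent.Lib.Helper4.TensorDim.ringKrullDim_tensor_eq_add K A A, hdimA]
    push_cast
    rfl
  have hle := Groth.Agent.Lib.Helper28.height_add_ringKrullDim_quotient_le (PP K A P)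
    (Ideal.IsPrime.ne_top inferInstance)
  rw [hdimB𝔓, hdimB] at hle
  have hμsurj : Function.Surjective (μ K A P R) := fun r => ⟨j₁ K A P R r, μ_j₁ K A P R r⟩
  have hrs := ringKrullDim_add_length_eq_ringKrullDim_of_isRegular rs hreg
  have hdimq : ringKrullDim (CC K A P ⧸ Ideal.ofList rs) = (c : WithBot ℕ∞) := by
    rw [← hdimR]
    exact ringKrullDim_eq_of_ringEquiv ((Ideal.quotEquivOfEq hker.symm).trans
      (RingHom.quotientKerEquivOfSurjective hμsurj))
  rw [hdimq, IsLocalization.AtPrime.ringKrullDim_eq_height (PP K A P) (CC K A P)] at hrs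
  rw [← hrs] at hle
  have hlen : c + rs.length + (n - c) ≤ n + n := by exact_mod_cast hle
  set J₀ : Ideal (A ⊗[K] A) := a₀.map (algebraMap A (A ⊗[K] A)) ⊔ b₀.map (i₂ K A) with hJ₀
  have hJ₀le : J₀ ≤ PP K A P := by
    rw [hJ₀, sup_le_iff, Ideal.map_le_iff_le_comap, Ideal.map_le_iff_le_comap]
    constructor
    · intro x hx
      rw [Ideal.mem_comap, Ideal.mem_comap, μ₀_i₁]
      exact ha hx
    · intro x hx
      rw [Ideal.mem_comap, Ideal.mem_comap, μ₀_i₂]
      exact hb hx
  obtain ⟨𝔮', h𝔮', h𝔮'le⟩ := Ideal.exists_minimalPrimes_le hJ₀le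
  haveI : 𝔮'.IsPrime := h𝔮'.1.1
  have hJ₀𝔮' : J₀ ≤ 𝔮' := h𝔮'.1.2
  obtain ⟨m₂, c₂, hc₂, hm₂, hht₂, hz₂⟩ := exists_height_quotient (k := K) 𝔮' (PP K A P) h𝔮'le
  have hdimL := Groth.Agent.Lib.Helper2.IntMultLoc.height_map_le_ringKrullDim_quotient
    (R := CC K A P) 𝔮' (PP K A P) J₀ hJ₀𝔮' h𝔮'le
  have hJ₀map : J₀.map (algebraMap (A ⊗[K] A) (CC K A P)) =
      (b₀.map (algebraMap A R)).map (j₂ K A P R) ⊔ (a₀.map (algebraMap A R)).map (j₁ K A P R) := by
    rw [hJ₀, Ideal.map_sup, map_j₁_eq, map_j₂_eq, sup_comm]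
  rw [hJ₀map, hht₂] at hdimL
  haveI : Algebra.FiniteType K (A ⧸ a₀) :=
    Algebra.FiniteType.of_surjective (Ideal.Quotient.mkₐ K a₀) (Ideal.Quotient.mkₐ_surjective K a₀)
  haveI : Algebra.FiniteType K (A ⧸ b₀) :=
    Algebra.FiniteType.of_surjective (Ideal.Quotient.mkₐ K b₀) (Ideal.Quotient.mkₐ_surjective K b₀)
  let π : A ⊗[K] A →ₐ[K] (A ⧸ a₀) ⊗[K] (A ⧸ b₀) :=
    Algebra.TensorProduct.map (Ideal.Quotient.mkₐ K a₀) (Ideal.Quotient.mkₐ K b₀)
  have hπsurj : Function.Surjective (π : A ⊗[K] A →+* (A ⧸ a₀) ⊗[K] (A ⧸ b₀)) :=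
    Algebra.TensorProduct.map_surjective _ _ (Ideal.Quotient.mkₐ_surjective K a₀)
      (Ideal.Quotient.mkₐ_surjective K b₀)
  have hka : RingHom.ker (Ideal.Quotient.mkₐ K a₀) = a₀ := by
    ext x
    rw [RingHom.mem_ker, Ideal.Quotient.mkₐ_eq_mk, Ideal.Quotient.eq_zero_iff_mem]
  have hkb : RingHom.ker (Ideal.Quotient.mkₐ K b₀) = b₀ := by
    ext x
    rw [RingHom.mem_ker, Ideal.Quotient.mkₐ_eq_mk, Ideal.Quotient.eq_zero_iff_mem]
  have hkerπ : RingHom.ker (π : A ⊗[K] A →+* (A ⧸ a₀) ⊗[K] (A ⧸ b₀)) = J₀ := by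
    have h1 := Algebra.TensorProduct.map_ker (Ideal.Quotient.mkₐ K a₀) (Ideal.Quotient.mkₐ K b₀)
      (Ideal.Quotient.mkₐ_surjective K a₀) (Ideal.Quotient.mkₐ_surjective K b₀)
    rw [hka, hkb] at h1
    exact h1
  have h1 : J₀ = (⊥ : Ideal ((A ⧸ a₀) ⊗[K] (A ⧸ b₀))).comap
      (π : A ⊗[K] A →+* (A ⧸ a₀) ⊗[K] (A ⧸ b₀)) := by
    rw [← RingHom.ker_eq_comap_bot]
    exact hkerπ.symm
  rw [h1, Ideal.comap_minimalPrimes_eq_of_surjective hπsurj] at h𝔮'
  obtain ⟨𝔮T, h𝔮T, h𝔮Teq⟩ := h𝔮'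
  have hdimT := Groth.Agent.Lib.Helper6.EquiDim.ringKrullDim_quotient_minimalPrime_tensor K
    (A ⧸ a₀) (A ⧸ b₀) 𝔮T h𝔮T
  have hdimq' := ringKrullDim_quotient_comap_of_surjective
    (π : A ⊗[K] A →+* (A ⧸ a₀) ⊗[K] (A ⧸ b₀)) hπsurj 𝔮T
  rw [h𝔮Teq, hm₂, hdimT, hr', hs'] at hdimq'
  have hm₂' : m₂ = r' + s' := by exact_mod_cast hdimq'
  have hzc₂ : n - c = m₂ - c₂ := by
    have := hdimB𝔓.symm.trans hz₂
    exact_mod_cast this
  refine ⟨n, n - c, r', s', c₂, hdimA, hdimAP, hr', hs', by omega, by omega, hdimL⟩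

include K in
/-- **Dimension of intersections on a smooth variety**, algebraic form. -/
theorem ringKrullDim_add_le (a₀ b₀ : Ideal A) [a₀.IsPrime] [b₀.IsPrime]
    (hP : P ∈ (a₀ ⊔ b₀).minimalPrimes) :
    ringKrullDim (A ⧸ a₀) + ringKrullDim (A ⧸ b₀) ≤ ringKrullDim (A ⧸ P) + ringKrullDim A := by
  have ha : a₀ ≤ P := le_sup_left.trans hP.1.2
  have hb : b₀ ≤ P := le_sup_right.trans hP.1.2
  haveI := isRegularLocalRing_CC K A P
  haveI := isRegularLocalRing_R K A P (Localization.AtPrime P)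
  have hμsurj : Function.Surjective (μ K A P (Localization.AtPrime P)) :=
    fun r => ⟨j₁ K A P _ r, μ_j₁ K A P _ r⟩
  obtain ⟨rs, hreg, hker⟩ :=
    Groth.Agent.Lib.Helper5.RegImmAlg.exists_regular_ker_of_surjective
      (μ K A P (Localization.AtPrime P)) hμsurj
  have hkerne : RingHom.ker (μ K A P (Localization.AtPrime P)) ≠ ⊤ := RingHom.ker_ne_top _
  have hmem : ∀ x ∈ rs, x ∈ IsLocalRing.maximalIdeal (CC K A P) := by
    intro x hx
    have h1 : x ∈ RingHom.ker (μ K A P (Localization.AtPrime P)) := by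
      rw [hker]
      exact Ideal.subset_span hx
    exact IsLocalRing.le_maximalIdeal hkerne h1
  have hmin : ∀ Q : Ideal (Localization.AtPrime P), Q.IsPrime →
      a₀.map (algebraMap A (Localization.AtPrime P)) ≤ Q →
      b₀.map (algebraMap A (Localization.AtPrime P)) ≤ Q →
      Q = IsLocalRing.maximalIdeal (Localization.AtPrime P) := by
    intro Q hQ h1 h2
    haveI := hQ
    have h3 : a₀ ⊔ b₀ ≤ Q.comap (algebraMap A (Localization.AtPrime P)) :=
      sup_le (Ideal.map_le_iff_le_comap.mp h1) (Ideal.map_le_iff_le_comap.mp h2)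
    have h4 : Q.comap (algebraMap A (Localization.AtPrime P)) ≤ P := by
      have h5 : Q ≤ IsLocalRing.maximalIdeal (Localization.AtPrime P) :=
        IsLocalRing.le_maximalIdeal hQ.ne_top
      have h6 := Ideal.comap_mono (f := algebraMap A (Localization.AtPrime P)) h5
      exact h6.trans (le_of_eq
        (IsLocalization.AtPrime.under_maximalIdeal (Localization.AtPrime P) P))
    have h7 : Q.comap (algebraMap A (Localization.AtPrime P)) = P :=
      le_antisymm h4 (hP.2 ⟨inferInstance, h3⟩ h4)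
    have h8 : (Q.comap (algebraMap A (Localization.AtPrime P))).map
        (algebraMap A (Localization.AtPrime P)) = Q :=
      IsLocalization.map_under P.primeCompl (Localization.AtPrime P) Q
    rw [← h8, h7]
    exact IsLocalization.AtPrime.map_eq_maximalIdeal P (Localization.AtPrime P)
  have hFLI : Groth.Agent.Helper13Kz.FLI (Ideal.span {x | x ∈ rs})
      (CC K A P ⧸ ((b₀.map (algebraMap A (Localization.AtPrime P))).map
          (j₂ K A P (Localization.AtPrime P)) ⊔
        (a₀.map (algebraMap A (Localization.AtPrime P))).map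
          (j₁ K A P (Localization.AtPrime P)))) := by
    intro p hp hle
    have hann : (b₀.map (algebraMap A (Localization.AtPrime P))).map
          (j₂ K A P (Localization.AtPrime P)) ⊔
        (a₀.map (algebraMap A (Localization.AtPrime P))).map
          (j₁ K A P (Localization.AtPrime P)) ≤ p.asIdeal := by
      have := Module.annihilator_le_of_mem_support hp
      rwa [Ideal.annihilator_quotient] at this
    have hle' : RingHom.ker (μ K A P (Localization.AtPrime P)) ≤ p.asIdeal := by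
      rw [hker]
      exact hle
    haveI : (p.asIdeal.map (μ K A P (Localization.AtPrime P))).IsPrime :=
      Ideal.map_isPrime_of_surjective hμsurj hle'
    have hQ := hmin (p.asIdeal.map (μ K A P (Localization.AtPrime P))) inferInstance ?_ ?_
    · have h2 : p.asIdeal = (p.asIdeal.map (μ K A P (Localization.AtPrime P))).comap
          (μ K A P (Localization.AtPrime P)) := by
        rw [Ideal.comap_map_of_surjective' _ hμsurj, sup_eq_left.mpr hle']
      rw [h2, hQ]
      exact Ideal.comap_isMaximal_of_surjective _ hμsurj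
    · intro x hx
      have h3 : j₁ K A P (Localization.AtPrime P) x ∈ p.asIdeal :=
        hann (Ideal.mem_sup_right (Ideal.mem_map_of_mem _ hx))
      have h4 := Ideal.mem_map_of_mem (μ K A P (Localization.AtPrime P)) h3
      rwa [μ_j₁] at h4
    · intro x hx
      have h3 : j₂ K A P (Localization.AtPrime P) x ∈ p.asIdeal :=
        hann (Ideal.mem_sup_left (Ideal.mem_map_of_mem _ hx))
      have h4 := Ideal.mem_map_of_mem (μ K A P (Localization.AtPrime P)) h3
      rwa [μ_j₂] at h4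
  have hup := Groth.Agent.Helper13Kz.supportDim_le_length_of_FLI _ rs hmem hFLI
  rw [Module.supportDim_quotient_eq_ringKrullDim] at hup
  obtain ⟨n, z, r', s', c₂, hn, hz, hr', hs', hlen, hsum, hlow⟩ :=
    exists_dims K A P (Localization.AtPrime P) a₀ b₀ ha hb rs hreg hker
  have h8 : c₂ ≤ rs.length := by
    have := hlow.trans hup
    exact_mod_cast this
  rw [hn, hz, hr', hs']
  have : r' + s' ≤ z + n := by omega
  exact_mod_cast this

end Groth.Agent.Lib.Helper2.DiagAlg
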