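import Groth.Agent.Lib.Helper24PullFunComp
import Groth.Agent.Lib.Helper4VarDim11
import Groth.Agent.Lib.Helper4VarDim9
import Groth.Agent.Lib.Helper26StalkBC
import Groth.Agent.S19416
import Groth.Prelude.Def_Cyc

/-!
# Relative dimension (`Cyc.HasRelDim`) and transcendence degrees of residue field extensions

* `trdeg_comp`: tower formula `trdeg κ(x)/κ(g f x) = trdeg κ(f x)/κ(g f x) + trdeg κ(x)/κ(f x)`.
* `trdeg_eq_of_isGen`: if all fibre components of `f` have dimension `r` and `x` is maximal in its
  fibre, then `trdeg κ(x)/κ(f x) = r`.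
* `exists_trdeg_le`: in general `trdeg κ(x)/κ(f x) ≤ r`.
* `delta_eq_of_isGen`, `delta_le`: the resulting statements for `Cyc.DeltaCompat` dimension
  functions.
* `hasRelDim_comp`: relative dimensions add under composition (first map flat).
* `length_stalk_pullback`: `length (f^*F)_x = length F_{f x} * length (O_x / m_{f x} O_x)` for flat `f`.
-/

set_option autoImplicit false
set_option linter.style.haveILetI false
universe u

open TopologicalSpace Topology AlgebraicGeometry CategoryTheory CategoryTheory.Limits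

namespace Groth.Agent.Lib.Helper2.CycRelDim

open Groth.Agent.Lib.Helper4.VarDim Groth.Agent.Lib.Helper24PullFunComp

attribute [local instance] sectionsAlgebra Curv2.resAlgebra

/-- Tower formula for transcendence degrees of residue field extensions along a composite. -/
theorem trdeg_comp {X Y Z : Scheme.{u}} (f : X ⟶ Y) (g : Y ⟶ Z) (x : X) :
    @Algebra.trdeg (Z.residueField (g (f x))) (Y.residueField (f x)) _ _
        (g.residueFieldMap (f x)).hom.toAlgebra +
      @Algebra.trdeg (Y.residueField (f x)) (X.residueField x) _ _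
        (f.residueFieldMap x).hom.toAlgebra =
    @Algebra.trdeg (Z.residueField ((f ≫ g) x)) (X.residueField x) _ _
        ((f ≫ g).residueFieldMap x).hom.toAlgebra := by
  letI a1 : Algebra (Z.residueField (g (f x))) (Y.residueField (f x)) :=
    (g.residueFieldMap (f x)).hom.toAlgebra
  letI a2 : Algebra (Y.residueField (f x)) (X.residueField x) :=
    (f.residueFieldMap x).hom.toAlgebra
  letI a3 : Algebra (Z.residueField (g (f x))) (X.residueField x) :=
    ((f ≫ g).residueFieldMap x).hom.toAlgebra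
  haveI : IsScalarTower (Z.residueField (g (f x))) (Y.residueField (f x)) (X.residueField x) :=
    IsScalarTower.of_algebraMap_eq fun c => by
      show ((f ≫ g).residueFieldMap x).hom c =
        (f.residueFieldMap x).hom ((g.residueFieldMap (f x)).hom c)
      rw [Scheme.residueFieldMap_comp]
      rfl
  haveI : FaithfulSMul (Z.residueField (g (f x))) (Y.residueField (f x)) :=
    (faithfulSMul_iff_algebraMap_injective _ _).mpr (RingHom.injective _)
  haveI : FaithfulSMul (Y.residueField (f x)) (X.residueField x) :=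
    (faithfulSMul_iff_algebraMap_injective _ _).mpr (RingHom.injective _)
  exact trdeg_add_eq (Z.residueField (g (f x))) (Y.residueField (f x))

variable {X Y : Scheme.{u}} (f : X ⟶ Y)

theorem fiberι_injective (y : Y) : Function.Injective (f.fiberι y) := fun a b h =>
  (f.fiberHomeo y).injective (Subtype.ext h)

/-- A point maximal in its fibre gives a maximal point of the fibre scheme. -/
theorem asFiber_maximal (x : X) (hx : IsGen f x) (z' : f.fiber (f x)) (hz' : z' ⤳ f.asFiber x) :
    z' = f.asFiber x := by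
  have h1 : f.fiberι (f x) z' ⤳ f.fiberι (f x) (f.asFiber x) :=
    hz'.map (f.fiberι (f x)).continuous
  rw [f.fiberι_asFiber] at h1
  have h2 : f (f.fiberι (f x) z') = f x := (f.fiberHomeo (f x) z').2
  have h3 := hx _ h2 h1
  apply fiberι_injective f (f x)
  rw [h3, f.fiberι_asFiber]

/-- If all irreducible components of the fibres of `f` have dimension `r` and `x` is maximal in
its fibre, then `trdeg κ(x)/κ(f x) = r`. -/
theorem trdeg_eq_of_isGen [LocallyOfFiniteType f] (r : ℕ) (hr : Cyc.HasRelDim f r) (x : X)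
    (hx : IsGen f x) :
    @Algebra.trdeg (Y.residueField (f x)) (X.residueField x) _ _
      (f.residueFieldMap x).hom.toAlgebra = (r : Cardinal.{u}) := by
  letI : (f.fiber (f x)).Over (Spec (CommRingCat.of (Y.residueField (f x)))) :=
    ⟨f.fiberToSpecResidueField (f x)⟩
  haveI : LocallyOfFiniteType ((f.fiber (f x)) ↘ Spec (CommRingCat.of (Y.residueField (f x)))) :=
    locallyOfFiniteType_fiberToSpecResidueField f _
  rw [trdeg_residueFieldMap_eq_trdegNat_fiber f (f x) (f.asFiber x) x (f.fiberι_asFiber x)]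
  obtain ⟨η, hη, hηz⟩ := exists_generic_specializes (f.asFiber x)
  have hηe : η = f.asFiber x := asFiber_maximal f x hx η hηz
  rw [hηe] at hη
  have h1 := hr (f x) _ hη
  rw [topologicalKrullDim_closure_singleton (Y.residueField (f x)) (f.fiber (f x))] at h1
  have h2 : trdegNat (Y.residueField (f x)) (f.fiber (f x)) (f.asFiber x) = r := by
    exact_mod_cast h1
  rw [h2]

/-- In general `trdeg κ(x)/κ(f x) ≤ r`. -/
theorem exists_trdeg_le [LocallyOfFiniteType f] (r : ℕ) (hr : Cyc.HasRelDim f r) (x : X) :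
    ∃ n : ℕ, n ≤ r ∧ @Algebra.trdeg (Y.residueField (f x)) (X.residueField x) _ _
      (f.residueFieldMap x).hom.toAlgebra = (n : Cardinal.{u}) := by
  letI : (f.fiber (f x)).Over (Spec (CommRingCat.of (Y.residueField (f x)))) :=
    ⟨f.fiberToSpecResidueField (f x)⟩
  haveI : LocallyOfFiniteType ((f.fiber (f x)) ↘ Spec (CommRingCat.of (Y.residueField (f x)))) :=
    locallyOfFiniteType_fiberToSpecResidueField f _
  refine ⟨trdegNat (Y.residueField (f x)) (f.fiber (f x)) (f.asFiber x), ?_,
    trdeg_residueFieldMap_eq_trdegNat_fiber f (f x) (f.asFiber x) x (f.fiberι_asFiber x)⟩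
  obtain ⟨η, hη, hηz⟩ := exists_generic_specializes (f.asFiber x)
  have h1 := hr (f x) _ hη
  rw [topologicalKrullDim_closure_singleton (Y.residueField (f x)) (f.fiber (f x))] at h1
  have h2 : trdegNat (Y.residueField (f x)) (f.fiber (f x)) η = r := by
    exact_mod_cast h1
  rw [← h2]
  exact trdegNat_le_of_specializes _ _ η (f.asFiber x) hηz

/-- `δX x = δY (f x) + r` at fibre-generic points. -/
theorem delta_eq_of_isGen [LocallyOfFiniteType f] (r : ℕ) (hr : Cyc.HasRelDim f r)
    (δX : X → ℤ) (δY : Y → ℤ) (hδ : Cyc.DeltaCompat f δX δY) (x : X) (hx : IsGen f x) :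
    δX x = δY (f x) + r := by
  obtain ⟨n, hn, hδn⟩ := hδ x
  have h1 := trdeg_eq_of_isGen f r hr x hx
  have h2 : (n : Cardinal.{u}) = (r : Cardinal.{u}) := hn.symm.trans h1
  have h3 : n = r := by exact_mod_cast h2
  rw [hδn, h3]

/-- `δX x ≤ δY (f x) + r` at all points. -/
theorem delta_le [LocallyOfFiniteType f] (r : ℕ) (hr : Cyc.HasRelDim f r)
    (δX : X → ℤ) (δY : Y → ℤ) (hδ : Cyc.DeltaCompat f δX δY) (x : X) :
    δX x ≤ δY (f x) + r := by
  obtain ⟨n, hn, hδn⟩ := hδ x
  obtain ⟨m, hm, hmn⟩ := exists_trdeg_le f r hr x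
  have h2 : (n : Cardinal.{u}) = (m : Cardinal.{u}) := hn.symm.trans hmn
  have h3 : n = m := by exact_mod_cast h2
  rw [hδn, h3]
  have : (m : ℤ) ≤ (r : ℤ) := by exact_mod_cast hm
  omega

/-- Relative dimensions add under composition. -/
theorem hasRelDim_comp {X Y Z : Scheme.{u}} (f : X ⟶ Y) (g : Y ⟶ Z) [Flat f]
    [LocallyOfFiniteType f] [LocallyOfFiniteType g] (r s : ℕ) (hr : Cyc.HasRelDim f r)
    (hs : Cyc.HasRelDim g s) : Cyc.HasRelDim (f ≫ g) (r + s) := by
  intro z T hT
  letI : ((f ≫ g).fiber z).Over (Spec (CommRingCat.of (Z.residueField z))) :=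
    ⟨(f ≫ g).fiberToSpecResidueField z⟩
  haveI : LocallyOfFiniteType (((f ≫ g).fiber z) ↘ Spec (CommRingCat.of (Z.residueField z))) :=
    locallyOfFiniteType_fiberToSpecResidueField (f ≫ g) z
  have hTc : IsClosed T := isClosed_of_mem_irreducibleComponents T hT
  obtain ⟨w, hw⟩ := QuasiSober.sober hT.1 hTc
  rw [Groth.Agent.S19416.dim_eq_trdegNat_of_isGenericPoint (Z.residueField z) ((f ≫ g).fiber z) T
    hTc w hw]
  have hwmax : ∀ w' : (f ≫ g).fiber z, w' ⤳ w → w' = w := fun w' h =>
    eq_of_specializes_generic w w' (by rw [hw.def]; exact hT) h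
  have hgen : IsGen (f ≫ g) ((f ≫ g).fiberι z w) := by
    intro y hy hys
    have hxz : (f ≫ g) ((f ≫ g).fiberι z w) = z := ((f ≫ g).fiberHomeo z w).2
    have hyz : (f ≫ g) y = z := hy.trans hxz
    have hw' : (f ≫ g).fiberι z (((f ≫ g).fiberHomeo z).symm ⟨y, hyz⟩) = y :=
      (f ≫ g).fiberι_fiberHomeo_symm z ⟨y, hyz⟩
    have hemb : Topology.IsInducing ((f ≫ g).fiberι z) :=
      (Scheme.Hom.isEmbedding ((f ≫ g).fiberι z)).isInducing
    have hsp : ((f ≫ g).fiberHomeo z).symm ⟨y, hyz⟩ ⤳ w := by
      rw [← hemb.specializes_iff, hw']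
      exact hys
    rw [← hw', hwmax _ hsp]
  obtain ⟨h1, h2⟩ := isGen_of_comp f g _ hgen
  have e1 := trdeg_eq_of_isGen f r hr _ h1
  have e2 := trdeg_eq_of_isGen g s hs _ h2
  have e3 := trdeg_comp f g ((f ≫ g).fiberι z w)
  rw [e1, e2, trdeg_residueFieldMap_eq_trdegNat_fiber (f ≫ g) z w _ rfl] at e3
  have e4 : trdegNat (Z.residueField z) ((f ≫ g).fiber z) w = r + s := by
    have : ((s + r : ℕ) : Cardinal.{u}) =
        ((trdegNat (Z.residueField z) ((f ≫ g).fiber z) w : ℕ) : Cardinal.{u}) := by
      rw [← e3]; push_cast; rfl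
    have h5 : s + r = trdegNat (Z.residueField z) ((f ≫ g).fiber z) w := by exact_mod_cast this
    omega
  rw [e4]

open Groth.Agent.Lib.Helper26.StalkBC IsLocalRing in
/-- `length (f^*F)_x = length F_{f x} * length (O_x / m_{f x} O_x)` for `f` flat and `F`
quasi-coherent. -/
theorem length_stalk_pullback [Flat f] (F : Y.Modules) [F.IsQuasicoherent] (x : X) :
    Module.length (X.presheaf.stalk x) (((Scheme.Modules.pullback f).obj F).presheaf.stalk x) =
      Module.length (Y.presheaf.stalk (f x)) (F.presheaf.stalk (f x)) *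
        Module.length (X.presheaf.stalk x) (X.presheaf.stalk x ⧸
          Ideal.map (f.stalkMap x).hom (maximalIdeal (Y.presheaf.stalk (f x)))) := by
  letI : Algebra (Y.presheaf.stalk (f x)) (X.presheaf.stalk x) := (f.stalkMap x).hom.toAlgebra
  letI := FlatMod.moduleStalkOver f ((Scheme.Modules.pullback f).obj F) x
  obtain ⟨hst, hbc⟩ := isBaseChange_stalkUnit f F x
  haveI : Module.Flat (Y.presheaf.stalk (f x)) (X.presheaf.stalk x) :=
    (Flat.iff_flat_stalkMap f).mp inferInstance x
  haveI : IsLocalHom (algebraMap (Y.presheaf.stalk (f x)) (X.presheaf.stalk x)) :=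
    (inferInstance : IsLocalHom (f.stalkMap x).hom)
  rw [← hbc.equiv.length_eq, IsLocalRing.length_baseChange]
  rfl

open Groth.Agent.Lib.Helper26.StalkBC in
/-- If the stalk of `f^*F` at `x` is nontrivial then so is the stalk of `F` at `f x`. -/
theorem nontrivial_stalk_of_pullback (F : Y.Modules) [F.IsQuasicoherent] (x : X)
    (h : Nontrivial (((Scheme.Modules.pullback f).obj F).presheaf.stalk x)) :
    Nontrivial (F.presheaf.stalk (f x)) := by
  letI : Algebra (Y.presheaf.stalk (f x)) (X.presheaf.stalk x) := (f.stalkMap x).hom.toAlgebra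
  letI := FlatMod.moduleStalkOver f ((Scheme.Modules.pullback f).obj F) x
  obtain ⟨hst, hbc⟩ := isBaseChange_stalkUnit f F x
  by_contra hcon
  rw [not_nontrivial_iff_subsingleton] at hcon
  haveI := hcon
  have : Subsingleton (((Scheme.Modules.pullback f).obj F).presheaf.stalk x) :=
    hbc.equiv.symm.injective.subsingleton
  exact not_nontrivial_iff_subsingleton.mpr this h

end Groth.Agent.Lib.Helper2.CycRelDim
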