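import Mathlib

/-!
# Length of the cokernel of a square matrix equals the order of its determinant

For a domain `R` in which every nonzero element has finite colength, and a square matrix `Y` over
`R` with nonzero determinant, `length (Rⁿ / Y Rⁿ) = length (R / det Y)`.
-/

universe u

namespace Groth.Agent.Lib.Helper5.DetLength

open Matrix

section general

variable {R : Type u} [CommRing R] {E : Type*} [AddCommGroup E] [Module R E]

/-- colength of an endomorphism -/
noncomputable def coLen (u : E →ₗ[R] E) : ℕ∞ := Module.length R (E ⧸ LinearMap.range u)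

theorem coLen_comp (u v : E →ₗ[R] E) (hu : Function.Injective u) :
    coLen (u ∘ₗ v) = coLen v + coLen u := by
  unfold coLen
  have h1 : LinearMap.range v ≤ Submodule.comap u (LinearMap.range (u ∘ₗ v)) := by
    rintro _ ⟨x, rfl⟩
    exact ⟨x, rfl⟩
  have h2 : LinearMap.range (u ∘ₗ v) ≤ LinearMap.range u := by
    rintro _ ⟨x, rfl⟩
    exact ⟨v x, rfl⟩
  refine Module.length_eq_add_of_exact (Submodule.mapQ _ _ u h1) (Submodule.factor h2) ?_
    (Submodule.factor_surjective h2) ?_
  · rw [injective_iff_map_eq_zero]
    intro y hy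
    obtain ⟨z, rfl⟩ := Submodule.Quotient.mk_surjective _ y
    rw [Submodule.mapQ_apply, Submodule.Quotient.mk_eq_zero] at hy
    obtain ⟨w, hw⟩ := hy
    rw [Submodule.Quotient.mk_eq_zero]
    have hvz : v w = z := hu hw
    exact ⟨w, hvz⟩
  · rw [LinearMap.exact_iff]
    ext y
    obtain ⟨z, rfl⟩ := Submodule.Quotient.mk_surjective _ y
    have hfm : Submodule.factor h2 (Submodule.Quotient.mk z) = Submodule.Quotient.mk z := rfl
    rw [LinearMap.mem_ker, hfm, Submodule.Quotient.mk_eq_zero, LinearMap.mem_range]
    constructor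
    · rintro ⟨w, rfl⟩
      exact ⟨Submodule.Quotient.mk w, by rw [Submodule.mapQ_apply]⟩
    · rintro ⟨w, hw⟩
      obtain ⟨p, rfl⟩ := Submodule.Quotient.mk_surjective _ w
      rw [Submodule.mapQ_apply, Submodule.Quotient.eq] at hw
      obtain ⟨q, hq⟩ := hw
      have hq' : u (v q) = u p - z := hq
      refine ⟨p - v q, ?_⟩
      rw [map_sub, hq']
      abel

theorem coLen_of_surjective (u : E →ₗ[R] E) (hu : Function.Surjective u) : coLen u = 0 := by
  unfold coLen
  rw [LinearMap.range_eq_top.mpr hu, Module.length_eq_zero_iff]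
  infer_instance

theorem coLen_conj {E' : Type*} [AddCommGroup E'] [Module R E'] (e : E ≃ₗ[R] E')
    (u : E →ₗ[R] E) :
    coLen (e.toLinearMap ∘ₗ u ∘ₗ e.symm.toLinearMap) = coLen u := by
  unfold coLen
  symm
  refine (Submodule.Quotient.equiv _ _ e ?_).length_eq
  rw [LinearMap.range_comp, LinearMap.range_comp_of_range_eq_top _ (LinearEquiv.range e.symm)]

end general

section matrix

variable {R : Type u} [CommRing R] {ι : Type*} [Fintype ι] [DecidableEq ι]

theorem range_mulVecLin_diagonal (b : ι → R) :
    LinearMap.range (Matrix.mulVecLin (Matrix.diagonal b)) =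
      Submodule.pi Set.univ (fun i => (Ideal.span {b i} : Submodule R R)) := by
  ext v
  simp only [LinearMap.mem_range, Matrix.mulVecLin_apply, Submodule.mem_pi, Set.mem_univ,
    forall_true_left]
  constructor
  · rintro ⟨w, rfl⟩ i
    rw [Matrix.mulVec_diagonal]
    exact Ideal.mem_span_singleton'.mpr ⟨w i, by ring⟩
  · intro h
    choose w hw using fun i => Ideal.mem_span_singleton'.mp (h i)
    refine ⟨w, ?_⟩
    ext i
    rw [Matrix.mulVec_diagonal, ← hw i, mul_comm]

theorem coLen_diagonal (b : ι → R) :
    coLen (Matrix.mulVecLin (Matrix.diagonal b)) = ∑ i, Ring.ord R (b i) := by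
  unfold coLen
  rw [range_mulVecLin_diagonal,
    (Submodule.quotientPi (fun i => (Ideal.span {b i} : Submodule R R))).length_eq,
    Module.length_pi_of_fintype]
  rfl

theorem ord_prod [IsDomain R] {κ : Type*} (s : Finset κ) (b : κ → R) (hb : ∀ i ∈ s, b i ≠ 0) :
    Ring.ord R (∏ i ∈ s, b i) = ∑ i ∈ s, Ring.ord R (b i) := by
  classical
  induction s using Finset.induction_on with
  | empty => simp
  | insert a s ha ih =>
    have hs : ∀ i ∈ s, b i ≠ 0 := fun i hi => hb i (Finset.mem_insert_of_mem hi)
    rw [Finset.prod_insert ha, Finset.sum_insert ha,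
      Ring.ord_mul R (mem_nonZeroDivisors_of_ne_zero (Finset.prod_ne_zero_iff.mpr hs)), ih hs]

/-- the matrix satisfies the determinant formula -/
def Good (Y : Matrix ι ι R) : Prop := coLen (Matrix.mulVecLin Y) = Ring.ord R Y.det

theorem injective_of_det_ne_zero [IsDomain R] {Y : Matrix ι ι R} (hY : Y.det ≠ 0) :
    Function.Injective (Matrix.mulVecLin Y) := by
  have := Matrix.mulVec_injective_of_det_mem_nonZeroDivisors
    (mem_nonZeroDivisors_of_ne_zero hY)
  exact this

theorem Good.mul [IsDomain R] {Y Z : Matrix ι ι R} (hY : Good Y) (hZ : Good Z)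
    (hYd : Y.det ≠ 0) (hZd : Z.det ≠ 0) : Good (Y * Z) := by
  unfold Good at *
  rw [Matrix.mulVecLin_mul, coLen_comp _ _ (injective_of_det_ne_zero hYd), hY, hZ, Matrix.det_mul,
    Ring.ord_mul R (mem_nonZeroDivisors_of_ne_zero hZd), add_comm]

theorem good_diagonal [IsDomain R] (b : ι → R) (hb : ∀ i, b i ≠ 0) :
    Good (Matrix.diagonal b) := by
  unfold Good
  rw [coLen_diagonal, Matrix.det_diagonal, ord_prod _ _ fun i _ => hb i]

theorem det_diagonal_ne_zero [IsDomain R] (b : ι → R) (hb : ∀ i, b i ≠ 0) :
    (Matrix.diagonal b).det ≠ 0 := by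
  rw [Matrix.det_diagonal]
  exact Finset.prod_ne_zero_iff.mpr fun i _ => hb i

theorem good_of_isUnit_det (Y : Matrix ι ι R) (h : IsUnit Y.det) : Good Y := by
  unfold Good
  rw [Ring.ord_of_isUnit h]
  apply coLen_of_surjective
  have h2 : Function.Surjective Y.mulVec :=
    Matrix.mulVec_surjective_iff_isUnit.mpr ((Matrix.isUnit_iff_isUnit_det Y).mpr h)
  exact h2

theorem transvection_factor (i j : ι) (hij : i ≠ j) (s a : R) :
    (Matrix.diagonal (fun k => if k = i then (1 : R) else s)) * Matrix.transvection i j a *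
        (Matrix.diagonal (fun k => if k = i then s else (1 : R))) =
      s • (1 : Matrix ι ι R) + Matrix.single i j a := by
  ext k l
  rw [Matrix.mul_diagonal, Matrix.diagonal_mul]
  simp only [Matrix.transvection, Matrix.add_apply, Matrix.one_apply, Matrix.single_apply,
    Matrix.smul_apply, smul_eq_mul]
  by_cases hkl : k = l
  · subst hkl
    have hn : ¬ (i = k ∧ j = k) := fun h => hij (h.1.trans h.2.symm)
    rw [if_pos rfl, if_neg hn]
    by_cases hk : k = i
    · rw [if_pos hk, if_pos hk]; ring
    · rw [if_neg hk, if_neg hk]; ring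
  · rw [if_neg hkl]
    by_cases h2 : i = k ∧ j = l
    · obtain ⟨rfl, rfl⟩ := h2
      simp [Ne.symm hij]
    · rw [if_neg h2]
      ring

theorem exists_integer_multiple [IsDomain R] (K : Type*) [Field K] [Algebra R K]
    [IsFractionRing R K] (X : Matrix ι ι K) :
    ∃ (a : R) (Y : Matrix ι ι R), a ≠ 0 ∧
      Y.map (algebraMap R K) = algebraMap R K a • X := by
  obtain ⟨b, hb⟩ := IsLocalization.exist_integer_multiples (nonZeroDivisors R)
    (Finset.univ : Finset (ι × ι)) (fun p => X p.1 p.2)
  have hb' : ∀ p : ι × ι, ∃ r : R, algebraMap R K r = (b : R) • X p.1 p.2 := by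
    intro p
    exact hb p (Finset.mem_univ p)
  choose Y hY using hb'
  refine ⟨b, Matrix.of fun i j => Y (i, j), nonZeroDivisors.coe_ne_zero b, ?_⟩
  ext i j
  rw [Matrix.map_apply, Matrix.of_apply, hY (i, j), Matrix.smul_apply, Algebra.smul_def, smul_eq_mul]

theorem det_ne_zero_of_map_eq [IsDomain R] {K : Type*} [Field K] [Algebra R K]
    [IsFractionRing R K] {X : Matrix ι ι K} {Y : Matrix ι ι R} {s : R} (hX : X.det ≠ 0)
    (hs : s ≠ 0) (h : Y.map (algebraMap R K) = algebraMap R K s • X) : Y.det ≠ 0 := by
  intro h0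
  have h1 : (Y.map (algebraMap R K)).det = algebraMap R K Y.det := by
    rw [RingHom.map_det, RingHom.mapMatrix_apply]
  rw [h, Matrix.det_smul, h0, map_zero] at h1
  exact mul_ne_zero (pow_ne_zero _
    ((map_ne_zero_iff _ (IsFractionRing.injective R K)).mpr hs)) hX h1

theorem good_scalar [IsDomain R] (c : R) (hc : c ≠ 0) :
    Good (Matrix.diagonal (fun _ : ι => c)) ∧ (Matrix.diagonal (fun _ : ι => c)).det ≠ 0 :=
  ⟨good_diagonal _ fun _ => hc, det_diagonal_ne_zero _ fun _ => hc⟩

/-- **Main theorem**: over a domain in which all nonzero elements have finite colength, the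
colength of a nonsingular square matrix is the order of its determinant. -/
theorem good_of_det_ne_zero [IsDomain R] (hfin : ∀ b : R, b ≠ 0 → Ring.ord R b ≠ ⊤)
    (Y : Matrix ι ι R) (hY : Y.det ≠ 0) : Good Y := by
  have hinj : Function.Injective (algebraMap R (FractionRing R)) :=
    IsFractionRing.injective R (FractionRing R)
  have key : ∀ X : Matrix ι ι (FractionRing R), X.det ≠ 0 →
      ∀ (Y : Matrix ι ι R) (s : R), s ≠ 0 →
        Y.map (algebraMap R (FractionRing R)) = algebraMap R (FractionRing R) s • X → Good Y := by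
    intro X hX
    refine Matrix.diagonal_transvection_induction_of_det_ne_zero
      (fun X => ∀ (Y : Matrix ι ι R) (s : R), s ≠ 0 →
        Y.map (algebraMap R (FractionRing R)) = algebraMap R (FractionRing R) s • X → Good Y)
      X hX ?_ ?_ ?_
    · -- diagonal
      intro D hD Y s hs hYX
      rw [Matrix.det_diagonal] at hD
      have hDi : ∀ i, D i ≠ 0 := fun i => (Finset.prod_ne_zero_iff.mp hD) i (Finset.mem_univ i)
      have hYd : Y = Matrix.diagonal (fun i => Y i i) := by
        ext i j
        by_cases hij : i = j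
        · subst hij
          rw [Matrix.diagonal_apply_eq]
        · rw [Matrix.diagonal_apply_ne _ hij]
          apply hinj
          have h1 := congr_fun (congr_fun hYX i) j
          rw [Matrix.map_apply, Matrix.smul_apply, Matrix.diagonal_apply_ne _ hij, smul_zero] at h1
          rw [h1, map_zero]
      have hne : ∀ i, Y i i ≠ 0 := by
        intro i h0
        have h1 := congr_fun (congr_fun hYX i) i
        rw [Matrix.map_apply, Matrix.smul_apply, Matrix.diagonal_apply_eq, h0, map_zero,
          smul_eq_mul] at h1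
        exact mul_ne_zero ((map_ne_zero_iff _ hinj).mpr hs) (hDi i) h1.symm
      rw [hYd]
      exact good_diagonal _ hne
    · -- transvection
      intro t Y s hs hYX
      have hYf : Y = s • (1 : Matrix ι ι R) + Matrix.single t.i t.j (Y t.i t.j) := by
        ext k l
        have h1 := congr_fun (congr_fun hYX k) l
        rw [Matrix.map_apply, Matrix.smul_apply, TransvectionStruct.toMatrix, Matrix.transvection,
          Matrix.add_apply, Matrix.one_apply, Matrix.single_apply, smul_eq_mul] at h1
        rw [Matrix.add_apply, Matrix.smul_apply, Matrix.one_apply, Matrix.single_apply, smul_eq_mul]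
        by_cases hkl : k = l
        · subst hkl
          have hn : ¬ (t.i = k ∧ t.j = k) := fun h => t.hij (h.1.trans h.2.symm)
          rw [if_pos rfl, if_neg hn, add_zero, mul_one] at h1
          rw [if_pos rfl, if_neg hn, add_zero, mul_one]
          exact hinj h1
        · rw [if_neg hkl] at h1
          rw [if_neg hkl, mul_zero, zero_add]
          by_cases h2 : t.i = k ∧ t.j = l
          · obtain ⟨rfl, rfl⟩ := h2
            rw [if_pos ⟨rfl, rfl⟩]
          · rw [if_neg h2, add_zero, mul_zero] at h1
            rw [if_neg h2]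
            apply hinj
            rw [h1, map_zero]
      rw [hYf, ← transvection_factor t.i t.j t.hij s (Y t.i t.j)]
      have hα : ∀ k, (if k = t.i then (1 : R) else s) ≠ 0 := by
        intro k
        split_ifs
        · exact one_ne_zero
        · exact hs
      have hβ : ∀ k, (if k = t.i then s else (1 : R)) ≠ 0 := by
        intro k
        split_ifs
        · exact hs
        · exact one_ne_zero
      have hU : (Matrix.transvection t.i t.j (Y t.i t.j)).det = 1 :=
        Matrix.det_transvection_of_ne _ _ t.hij _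
      have gU : Good (Matrix.transvection t.i t.j (Y t.i t.j)) :=
        good_of_isUnit_det _ (by rw [hU]; exact isUnit_one)
      have g1 := (good_diagonal _ hα).mul gU (det_diagonal_ne_zero _ hα)
        (by rw [hU]; exact one_ne_zero)
      refine g1.mul (good_diagonal _ hβ) ?_ (det_diagonal_ne_zero _ hβ)
      rw [Matrix.det_mul, hU, mul_one]
      exact det_diagonal_ne_zero _ hα
    · -- products
      intro X1 X2 h1 h2 Q1 Q2 Y s hs hYX
      obtain ⟨a1, Y1, ha1, hY1⟩ := exists_integer_multiple (R := R) (FractionRing R) X1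
      obtain ⟨a2, Y2, ha2, hY2⟩ := exists_integer_multiple (R := R) (FractionRing R) X2
      have g1 : Good Y1 := Q1 Y1 a1 ha1 hY1
      have g2 : Good Y2 := Q2 Y2 a2 ha2 hY2
      have d1 : Y1.det ≠ 0 := det_ne_zero_of_map_eq h1 ha1 hY1
      have d2 : Y2.det ≠ 0 := det_ne_zero_of_map_eq h2 ha2 hY2
      have dY : Y.det ≠ 0 :=
        det_ne_zero_of_map_eq (by rw [Matrix.det_mul]; exact mul_ne_zero h1 h2) hs hYX
      have g12 : Good (Y1 * Y2) := g1.mul g2 d1 d2
      have d12 : (Y1 * Y2).det ≠ 0 := by rw [Matrix.det_mul]; exact mul_ne_zero d1 d2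
      have hc : a1 * a2 ≠ 0 := mul_ne_zero ha1 ha2
      have heq : Matrix.diagonal (fun _ : ι => a1 * a2) * Y =
          Matrix.diagonal (fun _ : ι => s) * (Y1 * Y2) := by
        rw [← Matrix.smul_eq_diagonal_mul, ← Matrix.smul_eq_diagonal_mul]
        have e12 : (Y1 * Y2).map (algebraMap R (FractionRing R)) =
            (algebraMap R (FractionRing R) a1 * algebraMap R (FractionRing R) a2) • (X1 * X2) := by
          rw [Matrix.map_mul, hY1, hY2, Matrix.smul_mul, Matrix.mul_smul, smul_smul]
        ext i j
        apply hinj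
        have e0 := congr_fun (congr_fun hYX i) j
        have e3 := congr_fun (congr_fun e12 i) j
        rw [Matrix.map_apply, Matrix.smul_apply, smul_eq_mul] at e0 e3
        rw [Matrix.smul_apply, Matrix.smul_apply, smul_eq_mul, smul_eq_mul, map_mul, map_mul,
          map_mul, e0, e3]
        ring
      have gL : Good (Matrix.diagonal (fun _ : ι => a1 * a2) * Y) := by
        rw [heq]
        exact (good_scalar s hs).1.mul g12 (good_scalar s hs).2 d12
      have gc := (good_scalar (ι := ι) (a1 * a2) hc).1
      have dc := (good_scalar (ι := ι) (a1 * a2) hc).2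
      unfold Good at gL gc ⊢
      rw [Matrix.mulVecLin_mul, coLen_comp _ _ (injective_of_det_ne_zero dc), Matrix.det_mul,
        Ring.ord_mul R (mem_nonZeroDivisors_of_ne_zero dY), gc, add_comm] at gL
      exact ENat.add_right_injective_of_ne_top (hfin _ dc) gL
  refine key (Y.map (algebraMap R (FractionRing R))) ?_ Y 1 one_ne_zero ?_
  · rw [← RingHom.mapMatrix_apply, ← RingHom.map_det]
    exact (map_ne_zero_iff _ hinj).mpr hY
  · rw [map_one, one_smul]

/-- Version for linear endomorphisms of `ι → R`. -/
theorem coLen_eq_ord_det [IsDomain R] (hfin : ∀ b : R, b ≠ 0 → Ring.ord R b ≠ ⊤)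
    (φ : (ι → R) →ₗ[R] (ι → R)) (hφ : LinearMap.det φ ≠ 0) :
    coLen φ = Ring.ord R (LinearMap.det φ) := by
  have h1 : φ = Matrix.mulVecLin (LinearMap.toMatrix' φ) := by
    rw [← Matrix.toLin'_apply', Matrix.toLin'_toMatrix']
  have h2 : (LinearMap.toMatrix' φ).det = LinearMap.det φ := LinearMap.det_toMatrix' φ
  have := good_of_det_ne_zero hfin (LinearMap.toMatrix' φ) (by rw [h2]; exact hφ)
  unfold Good at this
  rw [h2, ← h1] at this
  exact this

end matrix

end Groth.Agent.Lib.Helper5.DetLength
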