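import Mathlib

/-!
# Polynomial-like integer sequences (helper5)

`IsPolyLike j f` says that the `j`-th iterated forward difference of `f : ℕ → ℤ` vanishes
eventually, i.e. `f` agrees for large `n` with a polynomial of degree `< j`.
-/

set_option autoImplicit false

namespace Groth.Agent.Lib.Helper5.PolyLike

/-- Forward difference operator. -/
def Δ : Module.End ℤ (ℕ → ℤ) where
  toFun f := fun n => f (n + 1) - f n
  map_add' f g := by funext n; simp only [Pi.add_apply]; ring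
  map_smul' c f := by funext n; simp only [Pi.smul_apply, smul_eq_mul, RingHom.id_apply]; ring

/-- Shift operator. -/
def σ : Module.End ℤ (ℕ → ℤ) where
  toFun f := fun n => f (n + 1)
  map_add' _ _ := rfl
  map_smul' _ _ := rfl

@[simp] theorem Δ_apply (f : ℕ → ℤ) (n : ℕ) : Δ f n = f (n + 1) - f n := rfl
@[simp] theorem σ_apply (f : ℕ → ℤ) (n : ℕ) : σ f n = f (n + 1) := rfl

theorem Δ_σ (f : ℕ → ℤ) : Δ (σ f) = σ (Δ f) := rfl

theorem pow_succ_apply (T : Module.End ℤ (ℕ → ℤ)) (j : ℕ) (f : ℕ → ℤ) :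
    (T ^ (j + 1)) f = (T ^ j) (T f) := by
  rw [pow_succ, Module.End.mul_apply]

theorem pow_succ_apply' (T : Module.End ℤ (ℕ → ℤ)) (j : ℕ) (f : ℕ → ℤ) :
    (T ^ (j + 1)) f = T ((T ^ j) f) := by
  rw [pow_succ', Module.End.mul_apply]

theorem Δ_pow_σ (j : ℕ) (f : ℕ → ℤ) : (Δ ^ j) (σ f) = σ ((Δ ^ j) f) := by
  induction j generalizing f with
  | zero => simp
  | succ j ih => rw [pow_succ_apply, Δ_σ, ih, ← pow_succ_apply]

theorem σ_pow_apply (c : ℕ) (f : ℕ → ℤ) (n : ℕ) : (σ ^ c) f n = f (n + c) := by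
  induction c generalizing f with
  | zero => simp
  | succ c ih =>
    rw [pow_succ_apply, ih, σ_apply]
    exact congrArg f (by ring)

theorem Δ_pow_σ_pow (j c : ℕ) (f : ℕ → ℤ) : (Δ ^ j) ((σ ^ c) f) = (σ ^ c) ((Δ ^ j) f) := by
  induction c generalizing f with
  | zero => simp
  | succ c ih => rw [pow_succ_apply, ih, Δ_pow_σ, ← pow_succ_apply]

/-- Eventually zero. -/
def EvZero (f : ℕ → ℤ) : Prop := ∃ N, ∀ n, N ≤ n → f n = 0

theorem EvZero.zero : EvZero 0 := ⟨0, fun _ _ => rfl⟩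

theorem EvZero.add {f g : ℕ → ℤ} (hf : EvZero f) (hg : EvZero g) : EvZero (f + g) := by
  obtain ⟨N, hN⟩ := hf
  obtain ⟨N', hN'⟩ := hg
  refine ⟨max N N', fun n hn => ?_⟩
  rw [Pi.add_apply, hN n (le_trans (le_max_left _ _) hn), hN' n (le_trans (le_max_right _ _) hn),
    add_zero]

theorem EvZero.neg {f : ℕ → ℤ} (hf : EvZero f) : EvZero (-f) := by
  obtain ⟨N, hN⟩ := hf
  exact ⟨N, fun n hn => by rw [Pi.neg_apply, hN n hn, neg_zero]⟩

theorem EvZero.sub {f g : ℕ → ℤ} (hf : EvZero f) (hg : EvZero g) : EvZero (f - g) := by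
  rw [sub_eq_add_neg]; exact hf.add hg.neg

theorem EvZero.smul {f : ℕ → ℤ} (c : ℤ) (hf : EvZero f) : EvZero (c • f) := by
  obtain ⟨N, hN⟩ := hf
  exact ⟨N, fun n hn => by rw [Pi.smul_apply, hN n hn, smul_zero]⟩

theorem EvZero.diff {f : ℕ → ℤ} (hf : EvZero f) : EvZero (Δ f) := by
  obtain ⟨N, hN⟩ := hf
  exact ⟨N, fun n hn => by rw [Δ_apply, hN n hn, hN (n + 1) (Nat.le_succ_of_le hn), sub_zero]⟩

theorem EvZero.shift {f : ℕ → ℤ} (hf : EvZero f) : EvZero (σ f) := by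
  obtain ⟨N, hN⟩ := hf
  exact ⟨N, fun n hn => by rw [σ_apply, hN (n + 1) (Nat.le_succ_of_le hn)]⟩

theorem EvZero.of_shift {f : ℕ → ℤ} (hf : EvZero (σ f)) : EvZero f := by
  obtain ⟨N, hN⟩ := hf
  refine ⟨N + 1, fun n hn => ?_⟩
  obtain ⟨m, rfl⟩ : ∃ m, n = m + 1 := ⟨n - 1, by omega⟩
  exact hN m (by omega)

theorem EvZero.diff_pow {f : ℕ → ℤ} (j : ℕ) (hf : EvZero f) : EvZero ((Δ ^ j) f) := by
  induction j generalizing f with
  | zero => simpa using hf
  | succ j ih => rw [pow_succ_apply]; exact ih hf.diff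

/-- `f` is eventually a polynomial of degree `< j`. -/
def IsPolyLike (j : ℕ) (f : ℕ → ℤ) : Prop := EvZero ((Δ ^ j) f)

theorem isPolyLike_zero_iff (f : ℕ → ℤ) : IsPolyLike 0 f ↔ EvZero f := by
  unfold IsPolyLike; simp

theorem isPolyLike_succ_iff (j : ℕ) (f : ℕ → ℤ) : IsPolyLike (j + 1) f ↔ IsPolyLike j (Δ f) := by
  unfold IsPolyLike; rw [pow_succ_apply]

theorem IsPolyLike.succ {j : ℕ} {f : ℕ → ℤ} (h : IsPolyLike j f) : IsPolyLike (j + 1) f := by
  unfold IsPolyLike at *; rw [pow_succ_apply']; exact h.diff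

theorem IsPolyLike.mono {j j' : ℕ} {f : ℕ → ℤ} (hjj : j ≤ j') (h : IsPolyLike j f) :
    IsPolyLike j' f := by
  induction hjj with
  | refl => exact h
  | step _ ih => exact ih.succ

theorem isPolyLike_of_evZero {f : ℕ → ℤ} (j : ℕ) (h : EvZero f) : IsPolyLike j f := h.diff_pow j

theorem IsPolyLike.add {j : ℕ} {f g : ℕ → ℤ} (hf : IsPolyLike j f) (hg : IsPolyLike j g) :
    IsPolyLike j (f + g) := by
  unfold IsPolyLike at *; rw [map_add]; exact hf.add hg

theorem IsPolyLike.neg {j : ℕ} {f : ℕ → ℤ} (hf : IsPolyLike j f) : IsPolyLike j (-f) := by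
  unfold IsPolyLike at *; rw [map_neg]; exact hf.neg

theorem IsPolyLike.sub {j : ℕ} {f g : ℕ → ℤ} (hf : IsPolyLike j f) (hg : IsPolyLike j g) :
    IsPolyLike j (f - g) := by
  unfold IsPolyLike at *; rw [map_sub]; exact hf.sub hg

theorem IsPolyLike.smul {j : ℕ} {f : ℕ → ℤ} (c : ℤ) (hf : IsPolyLike j f) :
    IsPolyLike j (c • f) := by
  unfold IsPolyLike at *; rw [map_smul]; exact hf.smul c

theorem IsPolyLike.shift {j : ℕ} {f : ℕ → ℤ} (hf : IsPolyLike j f) : IsPolyLike j (σ f) := by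
  unfold IsPolyLike at *; rw [Δ_pow_σ]; exact hf.shift

theorem IsPolyLike.of_shift {j : ℕ} {f : ℕ → ℤ} (hf : IsPolyLike j (PolyLike.σ f)) :
    IsPolyLike j f := by
  unfold IsPolyLike at *; rw [Δ_pow_σ] at hf; exact hf.of_shift

theorem IsPolyLike.shift_pow {j : ℕ} {f : ℕ → ℤ} (c : ℕ) (hf : IsPolyLike j f) :
    IsPolyLike j ((PolyLike.σ ^ c) f) := by
  induction c generalizing f with
  | zero => simpa using hf
  | succ c ih => rw [pow_succ_apply]; exact ih hf.shift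

theorem IsPolyLike.of_shift_pow {j : ℕ} {f : ℕ → ℤ} (c : ℕ)
    (hf : IsPolyLike j ((PolyLike.σ ^ c) f)) : IsPolyLike j f := by
  induction c generalizing f with
  | zero => simpa using hf
  | succ c ih => rw [pow_succ_apply] at hf; exact (ih hf).of_shift

theorem IsPolyLike.congr {j : ℕ} {f g : ℕ → ℤ} (h : EvZero (f - g)) (hf : IsPolyLike j f) :
    IsPolyLike j g := by
  have : g = f - (f - g) := by abel
  rw [this]
  exact hf.sub (isPolyLike_of_evZero j h)

theorem IsPolyLike.shift_pow_sub {j : ℕ} {f : ℕ → ℤ} (c : ℕ) (hf : IsPolyLike (j + 1) f) :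
    IsPolyLike j ((PolyLike.σ ^ c) f - f) := by
  induction c with
  | zero => simpa using isPolyLike_of_evZero j EvZero.zero
  | succ c ih =>
    have h1 : (PolyLike.σ ^ (c + 1)) f - f = PolyLike.σ ((PolyLike.σ ^ c) f - f) + PolyLike.Δ f := by
      rw [pow_succ_apply', map_sub]
      funext n
      simp only [Pi.sub_apply, Pi.add_apply, σ_apply, Δ_apply]
      ring
    rw [h1]
    exact ih.shift.add ((isPolyLike_succ_iff j f).1 hf)

/-- The binomial basis `n ↦ C(n + k, k)`. -/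
def B (k : ℕ) : ℕ → ℤ := fun n => ((n + k).choose k : ℤ)

theorem B_apply (k n : ℕ) : B k n = ((n + k).choose k : ℤ) := rfl

theorem B_zero : B 0 = fun _ => 1 := by
  funext n; simp [B]

theorem Δ_B_succ (k : ℕ) : Δ (B (k + 1)) = σ (B k) := by
  funext n
  simp only [Δ_apply, σ_apply, B_apply]
  have h : (n + 1 + (k + 1)).choose (k + 1) = (n + 1 + k).choose k + (n + (k + 1)).choose (k + 1) := by
    rw [show n + 1 + (k + 1) = (n + 1 + k) + 1 by ring, Nat.choose_succ_succ,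
      show n + 1 + k = n + (k + 1) by ring]
  rw [h]
  push_cast
  ring

theorem Δ_const (c : ℤ) : Δ (fun _ => c) = 0 := by
  funext n; simp

theorem Δ_pow_B (i r : ℕ) : (Δ ^ i) (B (i + r)) = (σ ^ i) (B r) := by
  induction i with
  | zero => simp
  | succ i ih =>
    have : i + 1 + r = (i + r) + 1 := by ring
    rw [this, pow_succ_apply, Δ_B_succ, Δ_pow_σ, ih, ← pow_succ_apply']

theorem Δ_pow_B_self (k : ℕ) : (Δ ^ k) (B k) = fun _ => 1 := by
  have := Δ_pow_B k 0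
  rw [add_zero] at this
  rw [this]
  funext n
  rw [σ_pow_apply, B_zero]

theorem Δ_pow_B_of_lt {k j : ℕ} (h : k < j) : (Δ ^ j) (B k) = 0 := by
  obtain ⟨t, rfl⟩ : ∃ t, j = t + (k + 1) := ⟨j - (k + 1), by omega⟩
  rw [pow_add, Module.End.mul_apply, pow_succ_apply', Δ_pow_B_self, Δ_const, map_zero]

theorem isPolyLike_of_eq_sum {j : ℕ} {f : ℕ → ℤ} (c : ℕ → ℤ) (N : ℕ)
    (h : ∀ n, N ≤ n → f n = ∑ k ∈ Finset.range j, c k * B k n) : IsPolyLike j f := by
  have hg : IsPolyLike j (∑ k ∈ Finset.range j, c k • B k) := by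
    unfold IsPolyLike
    rw [map_sum]
    have : ∑ k ∈ Finset.range j, (Δ ^ j) (c k • B k) = 0 := by
      apply Finset.sum_eq_zero
      intro k hk
      rw [map_smul, Δ_pow_B_of_lt (Finset.mem_range.1 hk), smul_zero]
    rw [this]
    exact EvZero.zero
  refine hg.congr ⟨N, fun n hn => ?_⟩
  rw [Pi.sub_apply, h n hn, Finset.sum_apply]
  simp only [Pi.smul_apply, smul_eq_mul, sub_self]

theorem exists_eq_sum_of_forall (j : ℕ) : ∀ (f : ℕ → ℤ) (N : ℕ),
    (∀ n, N ≤ n → (Δ ^ j) f n = 0) →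
    ∃ c : ℕ → ℤ, ∀ n, N ≤ n → f n = ∑ k ∈ Finset.range j, c k * B k n := by
  induction j with
  | zero =>
    intro f N h
    refine ⟨fun _ => 0, fun n hn => ?_⟩
    have := h n hn
    simpa using this
  | succ j ih =>
    intro f N h
    have hconst : ∀ n, N ≤ n → (Δ ^ j) f n = (Δ ^ j) f N := by
      intro n hn
      induction n, hn using Nat.le_induction with
      | base => rfl
      | succ n hn ihn =>
        have h1 := h n hn
        rw [pow_succ_apply', Δ_apply] at h1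
        rw [← ihn]
        linarith
    have h2 : ∀ n, N ≤ n → (Δ ^ j) (f - ((Δ ^ j) f N) • B j) n = 0 := by
      intro n hn
      rw [map_sub, map_smul, Δ_pow_B_self, Pi.sub_apply, Pi.smul_apply, hconst n hn]
      simp
    obtain ⟨c, hc⟩ := ih _ N h2
    refine ⟨Function.update c j ((Δ ^ j) f N), fun n hn => ?_⟩
    rw [Finset.sum_range_succ, Function.update_self]
    have h3 : ∑ k ∈ Finset.range j, Function.update c j ((Δ ^ j) f N) k * B k n =
        ∑ k ∈ Finset.range j, c k * B k n := by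
      apply Finset.sum_congr rfl
      intro k hk
      rw [Function.update_of_ne (ne_of_lt (Finset.mem_range.1 hk))]
    rw [h3, ← hc n hn]
    simp only [Pi.sub_apply, Pi.smul_apply, smul_eq_mul]
    ring

theorem isPolyLike_iff (j : ℕ) (f : ℕ → ℤ) : IsPolyLike j f ↔
    ∃ c : ℕ → ℤ, ∃ N, ∀ n, N ≤ n → f n = ∑ k ∈ Finset.range j, c k * B k n := by
  constructor
  · rintro ⟨N, hN⟩
    obtain ⟨c, hc⟩ := exists_eq_sum_of_forall j f N hN
    exact ⟨c, N, hc⟩
  · rintro ⟨c, N, h⟩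
    exact isPolyLike_of_eq_sum c N h

/-! ### Comparison -/

theorem eventually_const_of_evZero_Δ {u : ℕ → ℤ} (h : EvZero (Δ u)) :
    ∃ N, ∀ n, N ≤ n → u n = u N := by
  obtain ⟨N, hN⟩ := h
  refine ⟨N, fun n hn => ?_⟩
  induction n, hn using Nat.le_induction with
  | base => rfl
  | succ n hn ihn =>
    have h1 := hN n hn
    rw [Δ_apply] at h1
    rw [← ihn]
    linarith

theorem pos_of_Δ_pow_pos : ∀ (e : ℕ) (h : ℕ → ℤ),
    (∃ N, ∀ n, N ≤ n → 1 ≤ (Δ ^ e) h n) → ∃ N, ∀ n, N ≤ n → 1 ≤ h n := by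
  intro e
  induction e with
  | zero => intro h hh; simpa using hh
  | succ e ih =>
    intro h hh
    have h1 : ∃ N, ∀ n, N ≤ n → 1 ≤ (Δ ^ e) (Δ h) n := by
      obtain ⟨N, hN⟩ := hh
      exact ⟨N, fun n hn => by rw [← pow_succ_apply]; exact hN n hn⟩
    obtain ⟨N, hN⟩ := ih (Δ h) h1
    have h2 : ∀ n, N ≤ n → h N + ((n - N : ℕ) : ℤ) ≤ h n := by
      intro n hn
      induction n, hn using Nat.le_induction with
      | base => simp
      | succ n hn ihn =>
        have h3 := hN n hn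
        rw [Δ_apply] at h3
        have h4 : ((n + 1 - N : ℕ) : ℤ) = ((n - N : ℕ) : ℤ) + 1 := by
          rw [Nat.succ_sub hn]; push_cast; ring
        rw [h4]
        linarith
    refine ⟨N + (1 - h N).toNat, fun n hn => ?_⟩
    have hnN : N ≤ n := le_trans (Nat.le_add_right _ _) hn
    have h5 := h2 n hnN
    have h6 : ((1 - h N).toNat : ℤ) ≤ ((n - N : ℕ) : ℤ) := by
      have : (1 - h N).toNat ≤ n - N := by omega
      exact_mod_cast this
    have h7 : 1 - h N ≤ ((1 - h N).toNat : ℤ) := Int.self_le_toNat _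
    linarith

/-- Comparison: a nonnegative polynomial-like function bounded by one of degree `< j` has
degree `< j`. -/
theorem IsPolyLike.of_le {j : ℕ} {f g : ℕ → ℤ} (hg : IsPolyLike j g)
    (hf : ∃ j', IsPolyLike j' f) (h : ∃ N, ∀ n, N ≤ n → 0 ≤ f n ∧ f n ≤ g n) :
    IsPolyLike j f := by
  classical
  by_contra hnot
  have hlt : j < Nat.find hf := by
    by_contra hle
    push Not at hle
    exact hnot ((Nat.find_spec hf).mono hle)
  obtain ⟨e, he⟩ : ∃ e, Nat.find hf = e + 1 := ⟨Nat.find hf - 1, by omega⟩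
  have hje : j ≤ e := by omega
  have hfe1 : IsPolyLike (e + 1) f := he ▸ Nat.find_spec hf
  have hfe : ¬ IsPolyLike e f := Nat.find_min hf (by omega)
  have hΔ : EvZero (Δ ((Δ ^ e) f)) := by
    have := hfe1
    unfold IsPolyLike at this
    rwa [pow_succ_apply'] at this
  obtain ⟨N₁, hN₁⟩ := eventually_const_of_evZero_Δ hΔ
  obtain ⟨c, hc⟩ : ∃ c, c = (Δ ^ e) f N₁ := ⟨_, rfl⟩
  have hc0 : c ≠ 0 := by
    intro h0
    apply hfe
    exact ⟨N₁, fun n hn => by rw [hN₁ n hn, ← hc, h0]⟩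
  obtain ⟨N₂, hN₂⟩ := hg.mono hje
  obtain ⟨N₃, hN₃⟩ := h
  rcases lt_or_gt_of_ne hc0 with hneg | hpos
  · have h1 : ∃ N, ∀ n, N ≤ n → 1 ≤ (Δ ^ e) (-f) n := by
      refine ⟨N₁, fun n hn => ?_⟩
      rw [map_neg, Pi.neg_apply, hN₁ n hn, ← hc]
      omega
    obtain ⟨N₄, hN₄⟩ := pos_of_Δ_pow_pos e (-f) h1
    have h2 := hN₄ (max N₃ N₄) (le_max_right _ _)
    have h3 := (hN₃ (max N₃ N₄) (le_max_left _ _)).1
    rw [Pi.neg_apply] at h2
    omega
  · have h1 : ∃ N, ∀ n, N ≤ n → 1 ≤ (Δ ^ e) (f - g) n := by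
      refine ⟨max N₁ N₂, fun n hn => ?_⟩
      rw [map_sub, Pi.sub_apply, hN₁ n (le_trans (le_max_left _ _) hn), ← hc,
        hN₂ n (le_trans (le_max_right _ _) hn)]
      omega
    obtain ⟨N₄, hN₄⟩ := pos_of_Δ_pow_pos e (f - g) h1
    have h2 := hN₄ (max N₃ N₄) (le_max_right _ _)
    have h3 := (hN₃ (max N₃ N₄) (le_max_left _ _)).2
    rw [Pi.sub_apply] at h2
    omega

end Groth.Agent.Lib.Helper5.PolyLike
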