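import Mathlib
import Groth.Agent.Lib.Helper5PolyLike
import Groth.Agent.Lib.Helper5SuppDim

/-!
# Hilbert–Serre for graded modules (helper5)

Abstract form: `S` a commutative `A₀`-algebra generated by `x_1, …, x_d`, `M` a Noetherian `S`-module
with a decomposition `M = ⊕ ℳ n` into `A₀`-submodules such that `x_i ℳ n ⊆ ℳ (n+1)`, and such that
`Supp_{A₀} M` consists of maximal ideals.  Then `n ↦ length_{A₀} (ℳ n)` is finite and eventually a
polynomial of degree `< d`.
-/

set_option autoImplicit false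
universe u v w

namespace Groth.Agent.Lib.Helper5.HilbertSerre

open PolyLike

section proj

variable {A₀ : Type w} [CommRing A₀] {M : Type u} [AddCommGroup M] [Module A₀ M]

/-- A family of projections onto the pieces of a decomposition. -/
structure IsProj (ℳ : ℕ → Submodule A₀ M) (π : ℕ → M →ₗ[A₀] M) : Prop where
  mem : ∀ n v, π n v ∈ ℳ n
  same : ∀ n v, v ∈ ℳ n → π n v = v
  ne : ∀ n m v, v ∈ ℳ m → m ≠ n → π n v = 0
  sum : ∀ v, ∃ s : Finset ℕ, v = ∑ n ∈ s, π n v

theorem exists_proj (ℳ : ℕ → Submodule A₀ M) (hind : iSupIndep ℳ) (htop : (⨆ n, ℳ n) = ⊤) :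
    ∃ π : ℕ → M →ₗ[A₀] M, IsProj ℳ π := by
  classical
  have hint : DirectSum.IsInternal ℳ :=
    DirectSum.isInternal_submodule_of_iSupIndep_of_iSup_eq_top hind htop
  letI := hint.chooseDecomposition
  refine ⟨fun n => (ℳ n).subtype ∘ₗ (DirectSum.component A₀ ℕ (fun i => ℳ i) n) ∘ₗ
    (DirectSum.decomposeLinearEquiv ℳ).toLinearMap, ?_, ?_, ?_, ?_⟩
  · intro n v
    exact Subtype.property _
  · intro n v hv
    exact DirectSum.decompose_of_mem_same ℳ hv
  · intro n m v hv hmn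
    exact DirectSum.decompose_of_mem_ne ℳ hv hmn
  · intro v
    exact ⟨(DirectSum.decompose ℳ v).support, (DirectSum.sum_support_decompose ℳ v).symm⟩

theorem proj_map_succ {ℳ : ℕ → Submodule A₀ M} {π : ℕ → M →ₗ[A₀] M} (hπ : IsProj ℳ π)
    (φ : M →ₗ[A₀] M) (hφ : ∀ n v, v ∈ ℳ n → φ v ∈ ℳ (n + 1)) (v : M) :
    (∀ n, π (n + 1) (φ v) = φ (π n v)) ∧ π 0 (φ v) = 0 := by
  classical
  obtain ⟨s, hs⟩ := hπ.sum v
  obtain ⟨w, hw⟩ : ∃ w : ℕ → M, ∀ m, w m = π m v := ⟨_, fun _ => rfl⟩
  have hwm : ∀ m, w m ∈ ℳ m := fun m => hw m ▸ hπ.mem m v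
  have hv : v = ∑ m ∈ s, w m := by simp only [hw]; exact hs
  have hphi : φ v = ∑ m ∈ s, φ (w m) := by rw [hv, map_sum]
  have hwn : ∀ n, n ∉ s → w n = 0 := by
    intro n hn
    rw [hw n, hv, map_sum]
    apply Finset.sum_eq_zero
    intro m hm
    exact hπ.ne n m (w m) (hwm m) (fun h => hn (h ▸ hm))
  constructor
  · intro n
    rw [← hw n, hphi, map_sum]
    by_cases hn : n ∈ s
    · rw [Finset.sum_eq_single n]
      · exact hπ.same (n + 1) _ (hφ n _ (hwm n))
      · intro m _ hmn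
        exact hπ.ne (n + 1) (m + 1) _ (hφ m _ (hwm m)) (by omega)
      · intro h; exact absurd hn h
    · rw [hwn n hn, map_zero]
      apply Finset.sum_eq_zero
      intro m hm
      refine hπ.ne (n + 1) (m + 1) _ (hφ m _ (hwm m)) (fun h => hn ?_)
      have : m = n := by omega
      exact this ▸ hm
  · rw [hphi, map_sum]
    apply Finset.sum_eq_zero
    intro m _
    exact hπ.ne 0 (m + 1) _ (hφ m _ (hwm m)) (by omega)

end proj

section main

variable (A₀ : Type w) [CommRing A₀] (S : Type v) [CommRing S] [Algebra A₀ S] {d : ℕ}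
  (x : Fin d → S)

/-- Hypotheses on a graded module killed by the variables of index `≥ j`. -/
structure GrHyp (M : Type u) [AddCommGroup M] [Module S M] [Module A₀ M]
    (ℳ : ℕ → Submodule A₀ M) (j : ℕ) : Prop where
  smul_mem : ∀ (i : Fin d) (n : ℕ) (v : M), v ∈ ℳ n → x i • v ∈ ℳ (n + 1)
  indep : iSupIndep ℳ
  top : (⨆ n, ℳ n) = ⊤
  kill : ∀ i : Fin d, j ≤ i.val → ∀ v : M, x i • v = 0
  hmax : ∀ p : Ideal A₀, p.IsPrime → Module.annihilator A₀ M ≤ p → p.IsMaximal

variable {A₀ S x}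

theorem base [IsNoetherianRing A₀] (hgen : Algebra.adjoin A₀ (Set.range x) = ⊤)
    (M : Type u) [AddCommGroup M] [Module S M] [Module A₀ M] [IsScalarTower A₀ S M]
    [IsNoetherian S M] (ℳ : ℕ → Submodule A₀ M) (h : GrHyp A₀ S x M ℳ 0) :
    (∀ n, Module.length A₀ (ℳ n) ≠ ⊤) ∧
      IsPolyLike 0 (fun n => ((Module.length A₀ (ℳ n)).toNat : ℤ)) := by
  have hact : ∀ s : S, ∃ a : A₀, ∀ m : M, s • m = a • m := by
    intro s
    have hs : s ∈ Algebra.adjoin A₀ (Set.range x) := by rw [hgen]; trivial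
    induction hs using Algebra.adjoin_induction with
    | mem y hy =>
      obtain ⟨i, rfl⟩ := hy
      exact ⟨0, fun m => by rw [h.kill i (Nat.zero_le _) m, zero_smul]⟩
    | algebraMap r => exact ⟨r, fun m => algebraMap_smul S r m⟩
    | add y z _ _ hy hz =>
      obtain ⟨a, ha⟩ := hy
      obtain ⟨b, hb⟩ := hz
      exact ⟨a + b, fun m => by rw [add_smul, add_smul, ha, hb]⟩
    | mul y z _ _ hy hz =>
      obtain ⟨a, ha⟩ := hy
      obtain ⟨b, hb⟩ := hz
      exact ⟨a * b, fun m => by rw [mul_smul, mul_smul, hb, ha]⟩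
  have hfin : Module.Finite A₀ M := by
    obtain ⟨F, hF⟩ := (Module.finite_def.1 (inferInstance : Module.Finite S M))
    refine ⟨⟨F, ?_⟩⟩
    rw [eq_top_iff]
    intro m hm0
    clear hm0
    have hm : m ∈ Submodule.span S (F : Set M) := by rw [hF]; trivial
    induction hm using Submodule.span_induction with
    | mem y hy => exact Submodule.subset_span hy
    | zero => exact Submodule.zero_mem _
    | add y z _ _ hy hz => exact Submodule.add_mem _ hy hz
    | smul s y _ hy =>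
      obtain ⟨a, ha⟩ := hact s
      rw [ha]
      exact Submodule.smul_mem _ _ hy
  have hdim : Module.supportDim A₀ M ≤ 0 := by
    apply supportDim_le_zero_of_forall_isMaximal
    intro p hp
    rw [Module.mem_support_iff_of_finite] at hp
    exact h.hmax p.asIdeal p.2 hp
  have hfl : IsFiniteLength A₀ M := isFiniteLength_of_supportDim_le_zero hdim
  rw [isFiniteLength_iff_isNoetherian_isArtinian] at hfl
  obtain ⟨hN, hA⟩ := hfl
  have hlen : ∀ n, Module.length A₀ (ℳ n) ≠ ⊤ := fun n => Module.length_ne_top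
  refine ⟨hlen, ?_⟩
  rw [isPolyLike_zero_iff]
  have hfinite : {n | ℳ n ≠ ⊥}.Finite := Submodule.finite_ne_bot_of_iSupIndep h.indep
  obtain ⟨b, hb⟩ := hfinite.bddAbove
  refine ⟨b + 1, fun n hn => ?_⟩
  have hbot : ℳ n = ⊥ := by
    by_contra hne
    have : n ≤ b := hb hne
    omega
  have : Subsingleton ↥(ℳ n) := by rw [hbot]; infer_instance
  simp [Module.length_eq_zero]

section step

variable {M : Type u} [AddCommGroup M] [Module S M] [Module A₀ M] [IsScalarTower A₀ S M]
  {ℳ : ℕ → Submodule A₀ M} {j : ℕ} (h : GrHyp A₀ S x M ℳ (j + 1))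
  {π : ℕ → M →ₗ[A₀] M} (hπ : IsProj ℳ π)
  (i₀ : Fin d) (hi₀ : i₀.val = j) (φ : M →ₗ[S] M) (hφ : ∀ v, φ v = x i₀ • v)

include h hφ in
theorem phi_mem (n : ℕ) (v : M) (hv : v ∈ ℳ n) : (φ.restrictScalars A₀) v ∈ ℳ (n + 1) := by
  change φ v ∈ ℳ (n + 1)
  rw [hφ]
  exact h.smul_mem i₀ n v hv

include h hπ hφ in
theorem proj_mem_range (u : M) (hu : u ∈ LinearMap.range φ) (n : ℕ) :
    π n u ∈ LinearMap.range φ := by
  obtain ⟨t, rfl⟩ := hu
  have := proj_map_succ hπ (φ.restrictScalars A₀) (phi_mem h i₀ φ hφ) t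
  cases n with
  | zero =>
    rw [show π 0 (φ t) = 0 from this.2]
    exact Submodule.zero_mem _
  | succ n =>
    rw [show π (n + 1) (φ t) = φ (π n t) from this.1 n]
    exact ⟨_, rfl⟩

include h hπ hi₀ hφ in
theorem grHyp_ker :
    GrHyp A₀ S x ↥(LinearMap.ker φ)
      (fun n => (ℳ n).comap ((LinearMap.ker φ).subtype.restrictScalars A₀)) j where
  smul_mem := by
    intro i n v hv
    exact h.smul_mem i n _ hv
  indep := by
    rw [iSupIndep_def]
    intro n
    rw [Submodule.disjoint_def]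
    intro v hv1 hv2
    have h1 : (v : M) ∈ ℳ n := hv1
    have h2 : (v : M) ∈ ⨆ (m : ℕ) (_ : m ≠ n), ℳ m := by
      have hm := Submodule.mem_map_of_mem
        (f := (LinearMap.ker φ).subtype.restrictScalars A₀) hv2
      simp_rw [Submodule.map_iSup] at hm
      exact (iSup₂_mono fun m _ => Submodule.map_comap_le _ _) hm
    have := Submodule.disjoint_def.1 ((iSupIndep_def.1 h.indep) n) (v : M) h1 h2
    exact Subtype.ext this
  top := by
    rw [eq_top_iff]
    intro v _
    obtain ⟨s, hs⟩ := hπ.sum (v : M)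
    have hker : ∀ n, π n (v : M) ∈ LinearMap.ker φ := by
      intro n
      rw [LinearMap.mem_ker]
      have := (proj_map_succ hπ (φ.restrictScalars A₀) (phi_mem h i₀ φ hφ) (v : M)).1 n
      have h0 : (φ.restrictScalars A₀) (v : M) = 0 := LinearMap.mem_ker.1 v.2
      rw [h0, map_zero] at this
      exact this.symm
    have hv : v = ∑ n ∈ s, (⟨π n (v : M), hker n⟩ : LinearMap.ker φ) := by
      apply Subtype.ext
      rw [Submodule.coe_sum]
      exact hs
    have hmem : (∑ n ∈ s, (⟨π n (v : M), hker n⟩ : LinearMap.ker φ)) ∈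
        ⨆ n, (ℳ n).comap ((LinearMap.ker φ).subtype.restrictScalars A₀) := by
      refine Submodule.sum_mem _ (fun n _ => ?_)
      refine Submodule.mem_iSup_of_mem n ?_
      exact hπ.mem n _
    rwa [← hv] at hmem
  kill := by
    intro i hji v
    apply Subtype.ext
    change x i • (v : M) = 0
    by_cases hi : i = i₀
    · rw [hi, ← hφ]
      exact LinearMap.mem_ker.1 v.2
    · have hne : i.val ≠ j := fun h' => hi (Fin.ext (h'.trans hi₀.symm))
      exact h.kill i (by omega) _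
  hmax := by
    intro p hp hle
    refine h.hmax p hp (le_trans ?_ hle)
    intro a ha
    rw [Module.mem_annihilator] at ha ⊢
    intro v
    exact Subtype.ext (ha (v : M))

include h hπ hi₀ hφ in
theorem grHyp_coker :
    GrHyp A₀ S x (M ⧸ LinearMap.range φ)
      (fun n => (ℳ n).map ((LinearMap.range φ).mkQ.restrictScalars A₀)) j where
  smul_mem := by
    intro i n y hy
    obtain ⟨v, hv, rfl⟩ := hy
    exact ⟨x i • v, h.smul_mem i n v hv, rfl⟩
  indep := by
    rw [iSupIndep_def]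
    intro n
    rw [Submodule.disjoint_def]
    intro y hy1 hy2
    obtain ⟨v, hv, rfl⟩ := hy1
    have hy2' : ((LinearMap.range φ).mkQ.restrictScalars A₀) v ∈
        (⨆ (m : ℕ) (_ : m ≠ n), ℳ m).map ((LinearMap.range φ).mkQ.restrictScalars A₀) := by
      simp_rw [Submodule.map_iSup]
      exact hy2
    obtain ⟨w, hw, hwv⟩ := hy2'
    have hπw : π n w = 0 := by
      have hle : (⨆ (m : ℕ) (_ : m ≠ n), ℳ m) ≤ LinearMap.ker (π n) :=
        iSup₂_le fun m hm u hu => LinearMap.mem_ker.2 (hπ.ne n m u hu hm)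
      exact LinearMap.mem_ker.1 (hle hw)
    have hsub : v - w ∈ LinearMap.range φ := by
      rw [← Submodule.Quotient.eq]
      exact hwv.symm
    have h3 : π n (v - w) ∈ LinearMap.range φ := proj_mem_range h hπ i₀ φ hφ _ hsub n
    rw [map_sub, hπw, sub_zero, hπ.same n v hv] at h3
    exact (Submodule.Quotient.mk_eq_zero _).2 h3
  top := by
    rw [eq_top_iff]
    intro y hy0
    clear hy0
    obtain ⟨v, rfl⟩ := Submodule.mkQ_surjective _ y
    have hv : v ∈ ⨆ n, ℳ n := by rw [h.top]; trivial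
    have := Submodule.mem_map_of_mem (f := (LinearMap.range φ).mkQ.restrictScalars A₀) hv
    rw [Submodule.map_iSup] at this
    exact this
  kill := by
    intro i hji y
    obtain ⟨v, rfl⟩ := Submodule.mkQ_surjective _ y
    by_cases hi : i = i₀
    · rw [← map_smul, hi, ← hφ]
      exact (Submodule.Quotient.mk_eq_zero _).2 ⟨v, rfl⟩
    · have hne : i.val ≠ j := fun h' => hi (Fin.ext (h'.trans hi₀.symm))
      rw [← map_smul, h.kill i (by omega) v, map_zero]
  hmax := by
    intro p hp hle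
    refine h.hmax p hp (le_trans ?_ hle)
    intro a ha
    rw [Module.mem_annihilator] at ha ⊢
    intro y
    obtain ⟨v, rfl⟩ := Submodule.mkQ_surjective _ y
    change (LinearMap.range φ).mkQ (a • v) = 0
    rw [ha v, map_zero]

include h hπ hφ in
theorem exists_length_rel :
    ∃ ρ : ℕ → ℕ∞,
      (∀ n, Module.length A₀ (ℳ n) =
        Module.length A₀ ↥((ℳ n).comap ((LinearMap.ker φ).subtype.restrictScalars A₀)) + ρ n) ∧
      (∀ n, Module.length A₀ (ℳ (n + 1)) =
        ρ n + Module.length A₀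
          ↥((ℳ (n + 1)).map ((LinearMap.range φ).mkQ.restrictScalars A₀))) ∧
      Module.length A₀ (ℳ 0) =
        Module.length A₀ ↥((ℳ 0).map ((LinearMap.range φ).mkQ.restrictScalars A₀)) := by
  have hφ' := phi_mem h i₀ φ hφ
  obtain ⟨ψ, hψ⟩ : ∃ ψ : ∀ n, ↥(ℳ n) →ₗ[A₀] ↥(ℳ (n + 1)),
      ∀ n (v : ↥(ℳ n)), ((ψ n v : ↥(ℳ (n + 1))) : M) = φ (v : M) :=
    ⟨fun n => (φ.restrictScalars A₀).restrict (hφ' n), fun n v => rfl⟩
  obtain ⟨γ, hγ⟩ : ∃ γ : ∀ n, ↥(ℳ n) →ₗ[A₀]
      ↥((ℳ n).map ((LinearMap.range φ).mkQ.restrictScalars A₀)),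
      ∀ n (v : ↥(ℳ n)), ((γ n v : ↥((ℳ n).map ((LinearMap.range φ).mkQ.restrictScalars A₀))) :
        M ⧸ LinearMap.range φ) = (LinearMap.range φ).mkQ (v : M) :=
    ⟨fun n => ((LinearMap.range φ).mkQ.restrictScalars A₀).restrict
      (fun v hv => Submodule.mem_map_of_mem hv), fun n v => rfl⟩
  have hγsurj : ∀ n, Function.Surjective (γ n) := by
    intro n
    rintro ⟨y, v, hv, rfl⟩
    exact ⟨⟨v, hv⟩, Subtype.ext (hγ n _)⟩
  refine ⟨fun n => Module.length A₀ (LinearMap.range (ψ n)), ?_, ?_, ?_⟩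
  · intro n
    obtain ⟨α, hα⟩ : ∃ α : ↥((ℳ n).comap ((LinearMap.ker φ).subtype.restrictScalars A₀)) →ₗ[A₀]
        ↥(ℳ n), ∀ v, ((α v : ↥(ℳ n)) : M) = ((v : LinearMap.ker φ) : M) :=
      ⟨LinearMap.codRestrict (ℳ n) (((LinearMap.ker φ).subtype.restrictScalars A₀) ∘ₗ
        ((ℳ n).comap ((LinearMap.ker φ).subtype.restrictScalars A₀)).subtype) (fun v => v.2),
        fun v => rfl⟩
    refine Module.length_eq_add_of_exact α (ψ n).rangeRestrict ?_
      (LinearMap.surjective_rangeRestrict _) ?_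
    · intro a b hab
      have : ((a : LinearMap.ker φ) : M) = ((b : LinearMap.ker φ) : M) := by
        rw [← hα a, ← hα b, hab]
      exact Subtype.ext (Subtype.ext this)
    · intro y
      constructor
      · intro hy
        have h1 : φ (y : M) = 0 := by
          rw [← hψ n y]
          have h2 : (ψ n y) = 0 := by
            have := congrArg Subtype.val hy
            exact this
          rw [h2]
          rfl
        refine ⟨⟨⟨(y : M), LinearMap.mem_ker.2 h1⟩, y.2⟩, Subtype.ext ?_⟩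
        rw [hα]
      · rintro ⟨v, rfl⟩
        apply Subtype.ext
        apply Subtype.ext
        change ((ψ n (α v) : ↥(ℳ (n + 1))) : M) = 0
        rw [hψ, hα]
        exact LinearMap.mem_ker.1 (v : LinearMap.ker φ).2
  · intro n
    refine Module.length_eq_add_of_exact (LinearMap.range (ψ n)).subtype (γ (n + 1))
      (Submodule.subtype_injective _) (hγsurj (n + 1)) ?_
    intro y
    constructor
    · intro hy
      have h1 : (y : M) ∈ LinearMap.range φ := by
        have := congrArg Subtype.val hy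
        rw [hγ] at this
        exact (Submodule.Quotient.mk_eq_zero _).1 this
      obtain ⟨t, ht⟩ := h1
      have h2 := (proj_map_succ hπ (φ.restrictScalars A₀) hφ' t).1 n
      have h3 : (y : M) = φ (π n t) := by
        rw [← hπ.same (n + 1) (y : M) y.2, ← ht]
        exact h2
      refine ⟨⟨ψ n ⟨π n t, hπ.mem n t⟩, ⟨_, rfl⟩⟩, Subtype.ext ?_⟩
      change ((ψ n ⟨π n t, hπ.mem n t⟩ : ↥(ℳ (n + 1))) : M) = (y : M)
      rw [hψ, h3]
    · rintro ⟨⟨_, ⟨t, rfl⟩⟩, rfl⟩
      apply Subtype.ext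
      rw [hγ]
      change (LinearMap.range φ).mkQ ((ψ n t : ↥(ℳ (n + 1))) : M) = 0
      rw [hψ]
      exact (Submodule.Quotient.mk_eq_zero _).2 ⟨(t : M), rfl⟩
  · have hinj : Function.Injective (γ 0) := by
      rw [injective_iff_map_eq_zero]
      intro y hy
      have h1 : (y : M) ∈ LinearMap.range φ := by
        have := congrArg Subtype.val hy
        rw [hγ] at this
        exact (Submodule.Quotient.mk_eq_zero _).1 this
      obtain ⟨t, ht⟩ := h1
      have h2 := (proj_map_succ hπ (φ.restrictScalars A₀) hφ' t).2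
      apply Subtype.ext
      rw [← hπ.same 0 (y : M) y.2, ← ht]
      exact h2
    exact (LinearEquiv.ofBijective (γ 0) ⟨hinj, hγsurj 0⟩).length_eq

end step

theorem step [IsNoetherianRing A₀] (j : ℕ) (hj : j < d)
    (IH : ∀ (M : Type u) [AddCommGroup M] [Module S M] [Module A₀ M] [IsScalarTower A₀ S M]
      [IsNoetherian S M] (ℳ : ℕ → Submodule A₀ M), GrHyp A₀ S x M ℳ j →
      (∀ n, Module.length A₀ (ℳ n) ≠ ⊤) ∧
        IsPolyLike j (fun n => ((Module.length A₀ (ℳ n)).toNat : ℤ)))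
    (M : Type u) [AddCommGroup M] [Module S M] [Module A₀ M] [IsScalarTower A₀ S M]
    [IsNoetherian S M] (ℳ : ℕ → Submodule A₀ M) (h : GrHyp A₀ S x M ℳ (j + 1)) :
    (∀ n, Module.length A₀ (ℳ n) ≠ ⊤) ∧
      IsPolyLike (j + 1) (fun n => ((Module.length A₀ (ℳ n)).toNat : ℤ)) := by
  obtain ⟨π, hπ⟩ := exists_proj ℳ h.indep h.top
  obtain ⟨φ, hφ⟩ : ∃ φ : M →ₗ[S] M, ∀ v, φ v = x ⟨j, hj⟩ • v :=
    ⟨LinearMap.lsmul S M (x ⟨j, hj⟩), fun v => rfl⟩
  have hK := grHyp_ker h hπ ⟨j, hj⟩ rfl φ hφ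
  have hC := grHyp_coker h hπ ⟨j, hj⟩ rfl φ hφ
  obtain ⟨finK, polyK⟩ := IH ↥(LinearMap.ker φ) _ hK
  obtain ⟨finC, polyC⟩ := IH (M ⧸ LinearMap.range φ) _ hC
  obtain ⟨ρ, h1, h2, h3⟩ := exists_length_rel h hπ ⟨j, hj⟩ φ hφ
  have fin : ∀ n, Module.length A₀ (ℳ n) ≠ ⊤ := by
    intro n
    induction n with
    | zero => rw [h3]; exact finC 0
    | succ n ih =>
      rw [h2 n]
      have hρ : ρ n ≠ ⊤ := by
        intro htop
        apply ih
        rw [h1 n, htop, add_top]
      exact WithTop.add_ne_top.2 ⟨hρ, finC (n + 1)⟩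
  refine ⟨fin, ?_⟩
  rw [isPolyLike_succ_iff]
  have hΔ : Δ (fun n => ((Module.length A₀ (ℳ n)).toNat : ℤ)) =
      σ (fun n => ((Module.length A₀
        ↥((ℳ n).map ((LinearMap.range φ).mkQ.restrictScalars A₀))).toNat : ℤ)) -
      (fun n => ((Module.length A₀
        ↥((ℳ n).comap ((LinearMap.ker φ).subtype.restrictScalars A₀))).toNat : ℤ)) := by
    funext n
    simp only [Δ_apply, σ_apply, Pi.sub_apply]
    have hρ : ρ n ≠ ⊤ := by
      intro htop
      apply fin n
      rw [h1 n, htop, add_top]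
    have e1 : (Module.length A₀ (ℳ n)).toNat =
        (Module.length A₀
          ↥((ℳ n).comap ((LinearMap.ker φ).subtype.restrictScalars A₀))).toNat + (ρ n).toNat := by
      rw [h1 n, ENat.toNat_add (finK n) hρ]
    have e2 : (Module.length A₀ (ℳ (n + 1))).toNat = (ρ n).toNat +
        (Module.length A₀
          ↥((ℳ (n + 1)).map ((LinearMap.range φ).mkQ.restrictScalars A₀))).toNat := by
      rw [h2 n, ENat.toNat_add hρ (finC (n + 1))]
    rw [e1, e2]
    push_cast
    ring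
  rw [hΔ]
  exact polyC.shift.sub polyK

/-- **Hilbert–Serre**. -/
theorem main [IsNoetherianRing A₀] (hgen : Algebra.adjoin A₀ (Set.range x) = ⊤) :
    ∀ j, j ≤ d → ∀ (M : Type u) [AddCommGroup M] [Module S M] [Module A₀ M]
      [IsScalarTower A₀ S M] [IsNoetherian S M] (ℳ : ℕ → Submodule A₀ M),
      GrHyp A₀ S x M ℳ j →
      (∀ n, Module.length A₀ (ℳ n) ≠ ⊤) ∧
        IsPolyLike j (fun n => ((Module.length A₀ (ℳ n)).toNat : ℤ)) := by
  intro j
  induction j with
  | zero =>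
    intro _ M _ _ _ _ _ ℳ h
    exact base hgen M ℳ h
  | succ j ih =>
    intro hj M _ _ _ _ _ ℳ h
    exact step j (by omega) (fun M' _ _ _ _ _ ℳ' h' => ih (by omega) M' ℳ' h') M ℳ h

end main

end Groth.Agent.Lib.Helper5.HilbertSerre
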