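import Mathlib
import Groth.Agent.Lib.Helper5HilbertSerre

/-!
# The associated graded module and the Samuel function (helper5)

For an ideal `I = (x_1, …, x_s)` of a Noetherian ring `A` such that every prime containing `I` is
maximal, and a finite `A`-module `M`, the function `n ↦ length (M / I^n M)` is finite and
polynomial-like.  The associated graded module is realised as the quotient `N / N⁺` of the Rees
module `N = ⊕ I^n M t^n ⊆ M[t]` by `N⁺ = ⊕ I^{n+1} M t^n`, as a module over `A[X_1, …, X_s]`
acting through `X_i ↦ x_i t`.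
-/

set_option autoImplicit false
universe u

namespace Groth.Agent.Lib.Helper5.AssocGr

open Polynomial PolyLike HilbertSerre

section defs

/-- `M[t]` with the `A[X_1,…,X_s]`-module structure `X_i ↦ x_i t`. -/
def P {A : Type u} [CommRing A] {s : ℕ} (_x : Fin s → A) (M : Type u) [AddCommGroup M]
    [Module A M] : Type u := PolynomialModule A M

variable {A : Type u} [CommRing A] {s : ℕ} (x : Fin s → A) (M : Type u) [AddCommGroup M]
  [Module A M]

noncomputable instance : AddCommGroup (P x M) :=
  inferInstanceAs (AddCommGroup (PolynomialModule A M))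

noncomputable instance : Module A (P x M) :=
  inferInstanceAs (Module A (PolynomialModule A M))

/-- The underlying element of `M[t]`. -/
def toPM (f : P x M) : PolynomialModule A M := f

/-- The inverse of `toPM`. -/
def ofPM (f : PolynomialModule A M) : P x M := f

/-- The evaluation `X_i ↦ x_i t`. -/
noncomputable def ev : MvPolynomial (Fin s) A →ₐ[A] A[X] :=
  MvPolynomial.aeval (fun i => monomial 1 (x i))

theorem ev_X (i : Fin s) : ev x (MvPolynomial.X i) = monomial 1 (x i) :=
  MvPolynomial.aeval_X _ _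

noncomputable instance : Module (MvPolynomial (Fin s) A) (P x M) :=
  Module.compHom (PolynomialModule A M) (ev x).toRingHom

theorem smul_def (p : MvPolynomial (Fin s) A) (f : P x M) :
    p • f = ofPM x M ((ev x p : A[X]) • toPM x M f) := rfl

theorem smul_def' (a : A) (f : P x M) :
    a • f = ofPM x M (a • toPM x M f) := rfl

instance : IsScalarTower A (MvPolynomial (Fin s) A) (P x M) where
  smul_assoc a p f := by
    rw [smul_def, smul_def, smul_def', map_smul]
    exact congrArg (ofPM x M) (smul_assoc a (ev x p) (toPM x M f))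

/-- The `k`-th coefficient. -/
noncomputable def cf (k : ℕ) : P x M →ₗ[A] M :=
  (Finsupp.lapply k) ∘ₗ (PolynomialModule.coeffLinearEquiv A A).toLinearMap

theorem cf_apply (k : ℕ) (f : P x M) : cf x M k f = (toPM x M f).coeff k := rfl

theorem ext_cf {f g : P x M} (h : ∀ k, cf x M k f = cf x M k g) : f = g :=
  show toPM x M f = toPM x M g from PolynomialModule.ext (Finsupp.ext h)

/-- The support. -/
noncomputable def supp (f : P x M) : Finset ℕ := (toPM x M f).coeff.support

theorem cf_eq_zero_of_notMem_supp {f : P x M} {k : ℕ} (hk : k ∉ supp x M f) :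
    cf x M k f = 0 := by
  rw [cf_apply]
  exact Finsupp.notMem_support_iff.1 hk

/-- `m t^k`. -/
noncomputable def sg (k : ℕ) (m : M) : P x M := ofPM x M (PolynomialModule.single A k m)

theorem cf_sg (l k : ℕ) (m : M) : cf x M l (sg x M k m) = if k = l then m else 0 := by
  rw [cf_apply]
  change (PolynomialModule.single A k m).coeff l = _
  rw [PolynomialModule.coeff_single, Finsupp.single_apply]

theorem sg_zero (k : ℕ) : sg x M k 0 = 0 :=
  congrArg (ofPM x M) (PolynomialModule.single_zero k)

theorem sg_add (k : ℕ) (m₁ m₂ : M) : sg x M k (m₁ + m₂) = sg x M k m₁ + sg x M k m₂ :=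
  congrArg (ofPM x M) (PolynomialModule.single_add k m₁ m₂)

theorem sg_smul (k : ℕ) (a : A) (m : M) : sg x M k (a • m) = a • sg x M k m :=
  congrArg (ofPM x M) (PolynomialModule.single_smul k a m)

theorem eq_sum_sg (f : P x M) : f = ∑ k ∈ supp x M f, sg x M k (cf x M k f) := by
  classical
  apply ext_cf
  intro l
  rw [map_sum]
  simp only [cf_sg]
  rw [Finset.sum_ite_eq']
  split_ifs with hl
  · rfl
  · exact cf_eq_zero_of_notMem_supp x M hl

theorem cf_X_smul (l : ℕ) (i : Fin s) (f : P x M) :
    cf x M l ((MvPolynomial.X i : MvPolynomial (Fin s) A) • f) =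
      if 1 ≤ l then x i • cf x M (l - 1) f else 0 := by
  rw [cf_apply, smul_def, ev_X]
  exact PolynomialModule.monomial_smul_apply 1 (x i) (toPM x M f) l

theorem X_smul_sg (i : Fin s) (k : ℕ) (m : M) :
    (MvPolynomial.X i : MvPolynomial (Fin s) A) • sg x M k m = sg x M (k + 1) (x i • m) := by
  rw [smul_def, ev_X, add_comm k 1]
  exact congrArg (ofPM x M) (PolynomialModule.monomial_smul_single 1 (x i) k m)

theorem C_smul (a : A) (f : P x M) :
    (MvPolynomial.C a : MvPolynomial (Fin s) A) • f = a • f := by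
  rw [← MvPolynomial.algebraMap_eq, algebraMap_smul]

/-- The submodule `⊕ I^{k+t} M t^k` of `M[t]`. -/
noncomputable def Nt (t : ℕ) : Submodule (MvPolynomial (Fin s) A) (P x M) where
  carrier := {f | ∀ k, cf x M k f ∈
    (Ideal.span (Set.range x)) ^ (k + t) • (⊤ : Submodule A M)}
  add_mem' hf hg k := by rw [map_add]; exact Submodule.add_mem _ (hf k) (hg k)
  zero_mem' k := by rw [map_zero]; exact Submodule.zero_mem _
  smul_mem' p f hf := by
    induction p using MvPolynomial.induction_on generalizing f with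
    | C a =>
      intro k
      rw [C_smul, map_smul]
      exact Submodule.smul_mem _ _ (hf k)
    | add p q hp hq =>
      intro k
      rw [add_smul, map_add]
      exact Submodule.add_mem _ (hp _ hf k) (hq _ hf k)
    | mul_X p i hp =>
      rw [mul_smul]
      apply hp
      intro k
      rw [cf_X_smul]
      split_ifs with hk
      · have h1 := hf (k - 1)
        have h2 : k + t = (k - 1 + t) + 1 := by omega
        rw [h2, pow_succ', Submodule.mul_smul]
        exact Submodule.smul_mem_smul (Ideal.subset_span ⟨i, rfl⟩) h1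
      · exact Submodule.zero_mem _

theorem mem_Nt (t : ℕ) (f : P x M) : f ∈ Nt x M t ↔ ∀ k, cf x M k f ∈
    (Ideal.span (Set.range x)) ^ (k + t) • (⊤ : Submodule A M) := Iff.rfl

/-- `N⁺` inside `N`. -/
noncomputable def Np : Submodule (MvPolynomial (Fin s) A) ↥(Nt x M 0) :=
  (Nt x M 1).comap (Nt x M 0).subtype

theorem mem_Np (f : ↥(Nt x M 0)) : f ∈ Np x M ↔ ∀ k, cf x M k (f : P x M) ∈
    (Ideal.span (Set.range x)) ^ (k + 1) • (⊤ : Submodule A M) := Iff.rfl

/-- The associated graded module. -/
abbrev G : Type u := ↥(Nt x M 0) ⧸ Np x M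

/-- The degree `k` piece of the Rees module. -/
noncomputable def pc (k : ℕ) : Submodule A ↥(Nt x M 0) where
  carrier := {f | ∀ l, l ≠ k → cf x M l (f : P x M) = 0}
  add_mem' {f g} hf hg l hl := by
    change cf x M l ((f : P x M) + (g : P x M)) = 0
    rw [map_add, hf l hl, hg l hl, add_zero]
  zero_mem' l _ := by
    change cf x M l (0 : P x M) = 0
    rw [map_zero]
  smul_mem' a f hf l hl := by
    change cf x M l (a • (f : P x M)) = 0
    rw [map_smul, hf l hl, smul_zero]

theorem mem_pc (k : ℕ) (f : ↥(Nt x M 0)) :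
    f ∈ pc x M k ↔ ∀ l, l ≠ k → cf x M l (f : P x M) = 0 := Iff.rfl

/-- The degree `k` piece of the associated graded module. -/
noncomputable def gr (k : ℕ) : Submodule A (G x M) :=
  (pc x M k).map ((Np x M).mkQ.restrictScalars A)

theorem sg_mem_Nt (k : ℕ) (m : M)
    (hm : m ∈ (Ideal.span (Set.range x)) ^ k • (⊤ : Submodule A M)) :
    sg x M k m ∈ Nt x M 0 := by
  intro l
  rw [cf_sg]
  split_ifs with h
  · subst h; exact hm
  · exact Submodule.zero_mem _

theorem mem_iSup_pc (f : ↥(Nt x M 0)) : f ∈ ⨆ n, pc x M n := by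
  classical
  have hmem : ∀ k, sg x M k (cf x M k (f : P x M)) ∈ Nt x M 0 :=
    fun k => sg_mem_Nt x M k _ (f.2 k)
  have hf : f = ∑ k ∈ supp x M (f : P x M),
      (⟨sg x M k (cf x M k (f : P x M)), hmem k⟩ : ↥(Nt x M 0)) := by
    apply Subtype.ext
    rw [Submodule.coe_sum]
    exact eq_sum_sg x M (f : P x M)
  have hmem2 : (∑ k ∈ supp x M (f : P x M),
      (⟨sg x M k (cf x M k (f : P x M)), hmem k⟩ : ↥(Nt x M 0))) ∈ ⨆ n, pc x M n := by
    refine Submodule.sum_mem _ (fun k _ => ?_)
    refine Submodule.mem_iSup_of_mem k ?_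
    intro l hl
    change cf x M l (sg x M k (cf x M k (f : P x M))) = 0
    rw [cf_sg, if_neg (Ne.symm hl)]
  rwa [← hf] at hmem2

theorem grHyp (hI : ∀ p : Ideal A, p.IsPrime → Ideal.span (Set.range x) ≤ p → p.IsMaximal) :
    GrHyp A (MvPolynomial (Fin s) A) (MvPolynomial.X : Fin s → MvPolynomial (Fin s) A)
      (G x M) (gr x M) s where
  smul_mem := by
    intro i n y hy
    obtain ⟨f, hf, rfl⟩ := hy
    refine ⟨MvPolynomial.X i • f, ?_, rfl⟩
    intro l hl
    change cf x M l ((MvPolynomial.X i : MvPolynomial (Fin s) A) • (f : P x M)) = 0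
    rw [cf_X_smul]
    split_ifs with h1
    · rw [hf (l - 1) (by omega), smul_zero]
    · rfl
  indep := by
    rw [iSupIndep_def]
    intro n
    rw [Submodule.disjoint_def]
    intro y hy1 hy2
    obtain ⟨f, hf, rfl⟩ := hy1
    have hy2' : ((Np x M).mkQ.restrictScalars A) f ∈
        (⨆ (m : ℕ) (_ : m ≠ n), pc x M m).map ((Np x M).mkQ.restrictScalars A) := by
      simp_rw [Submodule.map_iSup]
      exact hy2
    obtain ⟨g, hg, hgf⟩ := hy2'
    have hg0 : cf x M n (g : P x M) = 0 := by
      have hle : (⨆ (m : ℕ) (_ : m ≠ n), pc x M m) ≤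
          LinearMap.ker ((cf x M n) ∘ₗ ((Nt x M 0).subtype.restrictScalars A)) :=
        iSup₂_le fun m hm u hu => LinearMap.mem_ker.2 (hu n (Ne.symm hm))
      exact LinearMap.mem_ker.1 (hle hg)
    have hsub : f - g ∈ Np x M := by
      rw [← Submodule.Quotient.eq]
      exact hgf.symm
    apply (Submodule.Quotient.mk_eq_zero _).2
    intro k
    by_cases hk : k = n
    · subst hk
      have := hsub k
      change cf x M k ((f : P x M) - (g : P x M)) ∈ _ at this
      rwa [map_sub, hg0, sub_zero] at this
    · have h0 : cf x M k (f : P x M) = 0 := hf k hk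
      change cf x M k (f : P x M) ∈ _
      rw [h0]
      exact Submodule.zero_mem _
  top := by
    rw [eq_top_iff]
    intro y hy0
    clear hy0
    obtain ⟨f, rfl⟩ := Submodule.mkQ_surjective _ y
    have := Submodule.mem_map_of_mem (f := (Np x M).mkQ.restrictScalars A) (mem_iSup_pc x M f)
    rw [Submodule.map_iSup] at this
    exact this
  kill := fun i hi => absurd i.2 (by omega)
  hmax := by
    intro p hp hle
    refine hI p hp (le_trans ?_ hle)
    intro a ha
    rw [Module.mem_annihilator]
    intro y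
    obtain ⟨f, rfl⟩ := Submodule.mkQ_surjective _ y
    change (Np x M).mkQ (a • f) = 0
    apply (Submodule.Quotient.mk_eq_zero _).2
    intro k
    change cf x M k (a • (f : P x M)) ∈ _
    rw [map_smul, pow_succ', Submodule.mul_smul]
    exact Submodule.smul_mem_smul ha (f.2 k)

theorem sg_mem_span (T : Finset M) (hT : Submodule.span A (T : Set M) = ⊤) :
    ∀ (k : ℕ) (m : M), m ∈ (Ideal.span (Set.range x)) ^ k • (⊤ : Submodule A M) →
      sg x M k m ∈ Submodule.span (MvPolynomial (Fin s) A) ((sg x M 0) '' (T : Set M)) := by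
  intro k
  induction k with
  | zero =>
    intro m hm0
    clear hm0
    have hm : m ∈ Submodule.span A (T : Set M) := by rw [hT]; trivial
    induction hm using Submodule.span_induction with
    | mem y hy => exact Submodule.subset_span ⟨y, hy, rfl⟩
    | zero => rw [sg_zero]; exact Submodule.zero_mem _
    | add y z _ _ hy hz => rw [sg_add]; exact Submodule.add_mem _ hy hz
    | smul a y _ hy => rw [sg_smul]; exact Submodule.smul_of_tower_mem _ a hy
  | succ k ih =>
    intro m hm
    rw [pow_succ', Submodule.mul_smul] at hm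
    refine Submodule.smul_induction_on hm ?_ ?_
    · intro a ha n hn
      induction ha using Submodule.span_induction with
      | mem y hy =>
        obtain ⟨i, rfl⟩ := hy
        rw [← X_smul_sg]
        exact Submodule.smul_mem _ _ (ih n hn)
      | zero => rw [zero_smul, sg_zero]; exact Submodule.zero_mem _
      | add y z _ _ hy hz => rw [add_smul, sg_add]; exact Submodule.add_mem _ hy hz
      | smul c y _ hy =>
        rw [smul_assoc, sg_smul]
        exact Submodule.smul_of_tower_mem _ c hy
    · intro y z hy hz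
      rw [sg_add]; exact Submodule.add_mem _ hy hz

theorem Nt_fg [Module.Finite A M] : (Nt x M 0).FG := by
  classical
  obtain ⟨T, hT⟩ := (Module.finite_def.1 (inferInstance : Module.Finite A M))
  refine ⟨T.image (sg x M 0), ?_⟩
  rw [Finset.coe_image]
  apply le_antisymm
  · rw [Submodule.span_le]
    rintro _ ⟨m, _, rfl⟩
    refine sg_mem_Nt x M 0 m ?_
    rw [pow_zero, Ideal.one_eq_top, Submodule.top_smul]
    trivial
  · intro f hf
    have hfs : f = ∑ k ∈ supp x M f, sg x M k (cf x M k f) := eq_sum_sg x M f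
    rw [hfs]
    refine Submodule.sum_mem _ (fun k _ => ?_)
    exact sg_mem_span x M T hT k _ (hf k)

instance [IsNoetherianRing A] [Module.Finite A M] :
    IsNoetherian (MvPolynomial (Fin s) A) ↥(Nt x M 0) :=
  isNoetherian_of_fg_of_noetherian _ (Nt_fg x M)

/-- `length (M / I^{k+1} M) = length (gr_k) + length (M / I^k M)`. -/
theorem length_succ (k : ℕ) :
    Module.length A (M ⧸ ((Ideal.span (Set.range x)) ^ (k + 1) • (⊤ : Submodule A M))) =
      Module.length A ↥(gr x M k) +
        Module.length A (M ⧸ ((Ideal.span (Set.range x)) ^ k • (⊤ : Submodule A M))) := by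
  have hle : ((Ideal.span (Set.range x)) ^ (k + 1) • (⊤ : Submodule A M)) ≤
      ((Ideal.span (Set.range x)) ^ k • (⊤ : Submodule A M)) :=
    Submodule.smul_mono_left (Ideal.pow_le_pow_right (Nat.le_succ k))
  obtain ⟨g, hg⟩ : ∃ g : ↥(Nt x M 0) →ₗ[A]
      M ⧸ ((Ideal.span (Set.range x)) ^ (k + 1) • (⊤ : Submodule A M)),
      ∀ f, g f = Submodule.Quotient.mk (cf x M k (f : P x M)) :=
    ⟨(Submodule.mkQ _) ∘ₗ (cf x M k) ∘ₗ ((Nt x M 0).subtype.restrictScalars A), fun f => rfl⟩
  have hker : (Np x M).restrictScalars A ≤ LinearMap.ker g := by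
    intro f hf
    rw [LinearMap.mem_ker, hg, Submodule.Quotient.mk_eq_zero]
    exact hf k
  obtain ⟨cbar, hcbar⟩ : ∃ cbar : G x M →ₗ[A]
      M ⧸ ((Ideal.span (Set.range x)) ^ (k + 1) • (⊤ : Submodule A M)),
      ∀ f : ↥(Nt x M 0), cbar ((Np x M).mkQ f) = Submodule.Quotient.mk (cf x M k (f : P x M)) :=
    ⟨(Submodule.liftQ _ g hker) ∘ₗ
      (Submodule.Quotient.restrictScalarsEquiv A (Np x M)).symm.toLinearMap, fun f => hg f⟩
  refine Module.length_eq_add_of_exact (cbar.domRestrict (gr x M k)) (Submodule.factor hle) ?_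
    (Submodule.factor_surjective hle) ?_
  · rw [injective_iff_map_eq_zero]
    rintro ⟨y, f, hf, rfl⟩ hy
    apply Subtype.ext
    change (Np x M).mkQ f = 0
    have h1 : cbar ((Np x M).mkQ f) = 0 := hy
    rw [hcbar, Submodule.Quotient.mk_eq_zero] at h1
    apply (Submodule.Quotient.mk_eq_zero _).2
    intro l
    by_cases hl : l = k
    · subst hl; exact h1
    · have h0 : cf x M l (f : P x M) = 0 := hf l hl
      change cf x M l (f : P x M) ∈ _
      rw [h0]; exact Submodule.zero_mem _
  · intro z
    constructor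
    · intro hz
      obtain ⟨m, rfl⟩ := Submodule.Quotient.mk_surjective _ z
      change (Submodule.Quotient.mk m : M ⧸ _) = 0 at hz
      rw [Submodule.Quotient.mk_eq_zero] at hz
      have hmem : sg x M k m ∈ Nt x M 0 := sg_mem_Nt x M k m hz
      have hpc : (⟨sg x M k m, hmem⟩ : ↥(Nt x M 0)) ∈ pc x M k := by
        intro l hl
        change cf x M l (sg x M k m) = 0
        rw [cf_sg, if_neg (Ne.symm hl)]
      refine ⟨⟨(Np x M).mkQ ⟨sg x M k m, hmem⟩, ⟨_, hpc, rfl⟩⟩, ?_⟩
      change cbar ((Np x M).mkQ ⟨sg x M k m, hmem⟩) = _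
      rw [hcbar]
      change Submodule.Quotient.mk (cf x M k (sg x M k m)) = _
      rw [cf_sg, if_pos rfl]
    · rintro ⟨⟨y, f, hf, rfl⟩, rfl⟩
      change Submodule.factor hle (cbar ((Np x M).mkQ f)) = 0
      rw [hcbar]
      change (Submodule.Quotient.mk (cf x M k (f : P x M)) : M ⧸ _) = 0
      rw [Submodule.Quotient.mk_eq_zero]
      exact f.2 k

end defs

section samuel

variable {A : Type u} [CommRing A] [IsNoetherianRing A]

/-- The Samuel function of a finite module with respect to an ideal `I` with `V(I)` consisting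
of maximal ideals is finite and polynomial-like. -/
theorem samuel (I : Ideal A) (hI : ∀ p : Ideal A, p.IsPrime → I ≤ p → p.IsMaximal)
    (M : Type u) [AddCommGroup M] [Module A M] [Module.Finite A M] :
    (∀ n, Module.length A (M ⧸ (I ^ n • (⊤ : Submodule A M))) ≠ ⊤) ∧
      ∃ j, IsPolyLike j
        (fun n => ((Module.length A (M ⧸ (I ^ n • (⊤ : Submodule A M)))).toNat : ℤ)) := by
  obtain ⟨s, x, hx⟩ := Submodule.fg_iff_exists_fin_generating_family.1 (IsNoetherian.noetherian I)
  have hx' : Ideal.span (Set.range x) = I := hx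
  subst hx'
  obtain ⟨hfin, hpoly⟩ := HilbertSerre.main (A₀ := A) (S := MvPolynomial (Fin s) A)
    (x := (MvPolynomial.X : Fin s → MvPolynomial (Fin s) A)) MvPolynomial.adjoin_range_X s le_rfl
    (G x M) (gr x M) (grHyp x M hI)
  have hlen : ∀ n, Module.length A (M ⧸ ((Ideal.span (Set.range x)) ^ n •
      (⊤ : Submodule A M))) ≠ ⊤ := by
    intro n
    induction n with
    | zero =>
      have : Subsingleton (M ⧸ ((Ideal.span (Set.range x)) ^ 0 • (⊤ : Submodule A M))) := by
        rw [Submodule.Quotient.subsingleton_iff, pow_zero, Ideal.one_eq_top,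
          Submodule.top_smul]
      rw [Module.length_eq_zero]
      exact ENat.zero_ne_top
    | succ n ih =>
      rw [length_succ x M n]
      exact WithTop.add_ne_top.2 ⟨hfin n, ih⟩
  refine ⟨hlen, s + 1, ?_⟩
  rw [isPolyLike_succ_iff]
  have hΔ : Δ (fun n => ((Module.length A (M ⧸ ((Ideal.span (Set.range x)) ^ n •
      (⊤ : Submodule A M)))).toNat : ℤ)) =
      (fun n => ((Module.length A ↥(gr x M n)).toNat : ℤ)) := by
    funext n
    simp only [Δ_apply]
    rw [length_succ x M n, ENat.toNat_add (hfin n) (hlen n)]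
    push_cast
    ring
  rw [hΔ]
  exact hpoly

end samuel

end Groth.Agent.Lib.Helper5.AssocGr
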