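import Mathlib
import Groth.Agent.Lib.Helper5AssocGr
import Groth.Agent.Lib.Helper5SamuelAdd
import Groth.Agent.Lib.Helper5SuppDim

/-!
# The degree of the Hilbert–Samuel polynomial (helper5)

For a semilocal Noetherian ring `A` with Jacobson radical `r` and a nonzero finite `A`-module `M`,
the function `n ↦ length (M / r^n M)` is eventually a polynomial whose degree is the dimension of
the support of `M`.
-/

set_option autoImplicit false
universe u

namespace Groth.Agent.Lib.Helper5.HilbertSamuel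

open PolyLike Pointwise

section enat

theorem toNat_le_add {a b c : ℕ∞} (hb : b ≠ ⊤) (hc : c ≠ ⊤) (h : a ≤ b + c) :
    (a.toNat : ℤ) ≤ (b.toNat : ℤ) + (c.toNat : ℤ) := by
  have h1 : a.toNat ≤ (b + c).toNat := ENat.toNat_le_toNat h (WithTop.add_ne_top.2 ⟨hb, hc⟩)
  rw [ENat.toNat_add hb hc] at h1
  exact_mod_cast h1

theorem toNat_le {a b : ℕ∞} (hb : b ≠ ⊤) (h : a ≤ b) : (a.toNat : ℤ) ≤ (b.toNat : ℤ) := by
  exact_mod_cast ENat.toNat_le_toNat h hb

end enat

section poly

theorem natDegree_sum_preHilbertPoly (k : ℕ) (c : ℕ → ℤ) (hck : c k ≠ 0) :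
    (∑ i ∈ Finset.range (k + 1), (c i : ℚ) • Polynomial.preHilbertPoly ℚ i 0).natDegree = k := by
  rw [Finset.sum_range_succ]
  have hQ : ∀ i, (Polynomial.preHilbertPoly ℚ i 0).degree = i := by
    intro i
    have hne : Polynomial.preHilbertPoly ℚ i 0 ≠ 0 := by
      intro h0
      have h1 := Polynomial.leadingCoeff_preHilbertPoly ℚ i 0
      rw [h0, Polynomial.leadingCoeff_zero] at h1
      have h2 : ((i.factorial : ℚ))⁻¹ ≠ 0 := inv_ne_zero (by exact_mod_cast i.factorial_ne_zero)
      exact h2 h1.symm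
    rw [Polynomial.degree_eq_natDegree hne, Polynomial.natDegree_preHilbertPoly]
  have hck' : (c k : ℚ) ≠ 0 := by exact_mod_cast hck
  have hlast : ((c k : ℚ) • Polynomial.preHilbertPoly ℚ k 0).degree = k := by
    rw [Polynomial.smul_eq_C_mul, Polynomial.degree_C_mul hck', hQ]
  have hfirst : (∑ i ∈ Finset.range k, (c i : ℚ) • Polynomial.preHilbertPoly ℚ i 0).degree < k := by
    rw [← Polynomial.mem_degreeLT]
    refine Submodule.sum_mem _ (fun i hi => Submodule.smul_mem _ _ ?_)
    rw [Polynomial.mem_degreeLT, hQ]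
    exact_mod_cast Finset.mem_range.1 hi
  apply Polynomial.natDegree_eq_of_degree_eq_some
  rw [Polynomial.degree_add_eq_right_of_degree_lt (by rw [hlast]; exact hfirst), hlast]

theorem eval_sum_preHilbertPoly (k : ℕ) (c : ℕ → ℤ) (n : ℕ) :
    (∑ i ∈ Finset.range k, (c i : ℚ) • Polynomial.preHilbertPoly ℚ i 0).eval (n : ℚ) =
      ((∑ i ∈ Finset.range k, c i * B i n : ℤ) : ℚ) := by
  rw [Polynomial.eval_finsetSum]
  push_cast
  refine Finset.sum_congr rfl (fun i _ => ?_)
  rw [Polynomial.eval_smul, smul_eq_mul,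
    Polynomial.preHilbertPoly_eq_choose_sub_add ℚ i (Nat.zero_le n), Nat.sub_zero, B_apply]
  push_cast
  rfl

end poly

section main

variable (A : Type u) [CommRing A]

/-- The Samuel function with respect to the Jacobson radical. -/
noncomputable def chi (M : Type u) [AddCommGroup M] [Module A M] : ℕ → ℤ :=
  fun n => ((Module.length A (M ⧸ (Ring.jacobson A ^ n • (⊤ : Submodule A M)))).toNat : ℤ)

theorem chi_apply (M : Type u) [AddCommGroup M] [Module A M] (n : ℕ) : chi A M n =
    ((Module.length A (M ⧸ (Ring.jacobson A ^ n • (⊤ : Submodule A M)))).toNat : ℤ) := rfl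

theorem chi_nonneg (M : Type u) [AddCommGroup M] [Module A M] (n : ℕ) : 0 ≤ chi A M n :=
  Int.natCast_nonneg _

variable [IsNoetherianRing A] [Finite (MaximalSpectrum A)]

section one

variable (M : Type u) [AddCommGroup M] [Module A M] [Module.Finite A M]

theorem length_ne_top (n : ℕ) :
    Module.length A (M ⧸ (Ring.jacobson A ^ n • (⊤ : Submodule A M))) ≠ ⊤ :=
  (AssocGr.samuel (Ring.jacobson A)
    (fun p hp h => @isMaximal_of_ringJacobson_le A _ _ p hp h) M).1 n

theorem exists_isPolyLike : ∃ j, IsPolyLike j (chi A M) :=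
  (AssocGr.samuel (Ring.jacobson A)
    (fun p hp h => @isMaximal_of_ringJacobson_le A _ _ p hp h) M).2

theorem length_quot_ne_top (n : ℕ) (N : Submodule A M)
    (h : Ring.jacobson A ^ n • (⊤ : Submodule A M) ≤ N) : Module.length A (M ⧸ N) ≠ ⊤ := by
  have h1 := Module.length_le_of_surjective (Submodule.factor h) (Submodule.factor_surjective h)
  exact ne_top_of_le_ne_top (length_ne_top A M n) h1

theorem chi_le_succ (n : ℕ) : chi A M n ≤ chi A M (n + 1) := by
  have hle : Ring.jacobson A ^ (n + 1) • (⊤ : Submodule A M) ≤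
      Ring.jacobson A ^ n • (⊤ : Submodule A M) :=
    Submodule.smul_mono_left (Ideal.pow_le_pow_right (Nat.le_succ n))
  exact toNat_le (length_ne_top A M (n + 1))
    (Module.length_le_of_surjective (Submodule.factor hle) (Submodule.factor_surjective hle))

theorem subsingleton_of_isPolyLike_zero (h : IsPolyLike 0 (chi A M)) : Subsingleton M := by
  rw [isPolyLike_zero_iff] at h
  obtain ⟨N, hN⟩ := h
  have h0 := hN (N + 1) (Nat.le_succ N)
  have h1 : Module.length A (M ⧸ Ring.jacobson A ^ (N + 1) • (⊤ : Submodule A M)) = 0 := by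
    have h2 : (Module.length A
        (M ⧸ Ring.jacobson A ^ (N + 1) • (⊤ : Submodule A M))).toNat = 0 := by
      rw [chi_apply] at h0
      exact_mod_cast h0
    rw [ENat.toNat_eq_zero] at h2
    exact h2.resolve_right (length_ne_top A M (N + 1))
  rw [Module.length_eq_zero_iff, Submodule.Quotient.subsingleton_iff] at h1
  have h3 : (⊤ : Submodule A M) ≤ Ring.jacobson A • (⊤ : Submodule A M) := by
    conv_lhs => rw [← h1]
    exact Submodule.smul_mono_left (Ideal.pow_le_self (Nat.succ_ne_zero N))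
  have h4 := Submodule.eq_bot_of_le_smul_of_le_jacobson_bot (Ring.jacobson A)
    (⊤ : Submodule A M) Module.Finite.fg_top h3 (by rw [Ideal.jacobson_bot])
  have h5 : Subsingleton (Submodule A M) := subsingleton_of_bot_eq_top h4.symm
  exact (Submodule.subsingleton_iff A).1 h5

end one

section two

variable {M M' : Type u} [AddCommGroup M] [Module A M] [AddCommGroup M'] [Module A M']

theorem chi_le_of_surjective [Module.Finite A M] (g : M →ₗ[A] M') (hg : Function.Surjective g)
    (n : ℕ) : chi A M' n ≤ chi A M n := by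
  have hle : Ring.jacobson A ^ n • (⊤ : Submodule A M) ≤
      (Ring.jacobson A ^ n • (⊤ : Submodule A M')).comap g :=
    Submodule.smul_top_le_comap_smul_top _ _
  refine toNat_le (length_ne_top A M n)
    (Module.length_le_of_surjective (Submodule.mapQ _ _ g hle) ?_)
  intro y
  obtain ⟨y, rfl⟩ := Submodule.Quotient.mk_surjective _ y
  obtain ⟨z, rfl⟩ := hg y
  exact ⟨Submodule.Quotient.mk z, rfl⟩

theorem isPolyLike_of_surjective [Module.Finite A M] (g : M →ₗ[A] M')
    (hg : Function.Surjective g) {j : ℕ} (h : IsPolyLike j (chi A M)) :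
    IsPolyLike j (chi A M') := by
  have : Module.Finite A M' := Module.Finite.of_surjective g hg
  exact h.of_le (exists_isPolyLike A M')
    ⟨0, fun n _ => ⟨chi_nonneg A M' n, chi_le_of_surjective A g hg n⟩⟩

omit [Finite (MaximalSpectrum A)] in
theorem exists_comap_le [Module.Finite A M] (I : Ideal A) (f : M' →ₗ[A] M)
    (hf : Function.Injective f) :
    ∃ c : ℕ, ∀ t, c ≤ t → (I ^ t • (⊤ : Submodule A M)).comap f ≤
      I ^ (t - c) • (⊤ : Submodule A M') := by
  obtain ⟨k, hk⟩ := Ideal.exists_pow_inf_eq_pow_smul I (LinearMap.range f)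
  refine ⟨k, fun t ht x hx => ?_⟩
  have h1 : f x ∈ I ^ t • (⊤ : Submodule A M) ⊓ LinearMap.range f := ⟨hx, ⟨x, rfl⟩⟩
  rw [hk t ht] at h1
  have h2 : I ^ (t - k) • (I ^ k • (⊤ : Submodule A M) ⊓ LinearMap.range f) ≤
      (I ^ (t - k) • (⊤ : Submodule A M')).map f := by
    rw [Submodule.map_smul'', Submodule.map_top]
    exact Submodule.smul_mono le_rfl inf_le_right
  obtain ⟨y, hy, hyx⟩ := h2 h1
  rwa [← hf hyx]

theorem isPolyLike_of_injective [Module.Finite A M] (f : M' →ₗ[A] M)
    (hf : Function.Injective f) {j : ℕ} (h : IsPolyLike j (chi A M)) :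
    IsPolyLike j (chi A M') := by
  have : Module.Finite A M' := Module.Finite.of_injective f hf
  obtain ⟨c, hc⟩ := exists_comap_le A (Ring.jacobson A) f hf
  refine (h.shift_pow c).of_le (exists_isPolyLike A M')
    ⟨0, fun n _ => ⟨chi_nonneg A M' n, ?_⟩⟩
  rw [σ_pow_apply]
  have h1 := hc (n + c) (Nat.le_add_left c n)
  rw [Nat.add_sub_cancel] at h1
  have h2 : Module.length A (M' ⧸ (Ring.jacobson A ^ n • (⊤ : Submodule A M'))) ≤
      Module.length A (M' ⧸ ((Ring.jacobson A ^ (n + c) • (⊤ : Submodule A M)).comap f)) :=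
    Module.length_le_of_surjective (Submodule.factor h1) (Submodule.factor_surjective h1)
  have h3 : Module.length A
      (M' ⧸ ((Ring.jacobson A ^ (n + c) • (⊤ : Submodule A M)).comap f)) ≤
      Module.length A (M ⧸ (Ring.jacobson A ^ (n + c) • (⊤ : Submodule A M))) := by
    refine Module.length_le_of_injective (Submodule.mapQ _ _ f le_rfl) ?_
    rw [injective_iff_map_eq_zero]
    intro y hy
    obtain ⟨y, rfl⟩ := Submodule.Quotient.mk_surjective _ y
    rw [Submodule.mapQ_apply, Submodule.Quotient.mk_eq_zero] at hy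
    rw [Submodule.Quotient.mk_eq_zero]
    exact hy
  exact toNat_le (length_ne_top A M (n + c)) (h2.trans h3)

end two

section three

variable {M : Type u} [AddCommGroup M] [Module A M] [Module.Finite A M]

/-- Passing to the quotient by a regular element lowers the degree. -/
theorem isPolyLike_quotSMulTop (x : A) (hx : IsSMulRegular M x) {j : ℕ}
    (h : IsPolyLike (j + 1) (chi A M)) : IsPolyLike j (chi A (QuotSMulTop x M)) := by
  obtain ⟨f, hf⟩ : ∃ f : M →ₗ[A] M, ∀ m, f m = x • m := ⟨LinearMap.lsmul A M x, fun m => rfl⟩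
  have hfi : Function.Injective f := by
    intro a b hab
    rw [hf, hf] at hab
    exact hx hab
  obtain ⟨c, hc⟩ := exists_comap_le A (Ring.jacobson A) f hfi
  have hfg : LinearMap.range f = LinearMap.ker (Submodule.mkQ (x • (⊤ : Submodule A M))) := by
    rw [Submodule.ker_mkQ]
    ext y
    rw [Submodule.mem_smul_pointwise_iff_exists]
    constructor
    · rintro ⟨m, rfl⟩
      exact ⟨m, trivial, (hf m).symm⟩
    · rintro ⟨m, _, rfl⟩
      exact ⟨m, hf m⟩
  apply IsPolyLike.of_shift_pow c
  refine (h.shift_pow_sub c).of_le ?_ ⟨0, fun n _ => ⟨?_, ?_⟩⟩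
  · obtain ⟨j', hj'⟩ := exists_isPolyLike A (QuotSMulTop x M)
    exact ⟨j', hj'.shift_pow c⟩
  · rw [σ_pow_apply]
    exact chi_nonneg A _ _
  · rw [σ_pow_apply, Pi.sub_apply, σ_pow_apply]
    have hadd := SamuelAdd.length_quotient_eq_add (Ring.jacobson A) f
      (Submodule.mkQ (x • (⊤ : Submodule A M))) (Submodule.mkQ_surjective _) hfg (n + c)
    have h1 := hc (n + c) (Nat.le_add_left c n)
    rw [Nat.add_sub_cancel] at h1
    have h2 : Module.length A (M ⧸ (Ring.jacobson A ^ n • (⊤ : Submodule A M))) ≤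
        Module.length A (M ⧸ ((Ring.jacobson A ^ (n + c) • (⊤ : Submodule A M)).comap f)) :=
      Module.length_le_of_surjective (Submodule.factor h1) (Submodule.factor_surjective h1)
    have hfinQ := length_ne_top A (QuotSMulTop x M) (n + c)
    have hfinu : Module.length A
        (M ⧸ ((Ring.jacobson A ^ (n + c) • (⊤ : Submodule A M)).comap f)) ≠ ⊤ :=
      length_quot_ne_top A M (n + c) _ (Submodule.smul_top_le_comap_smul_top _ _)
    have e1 : chi A M (n + c) = ((Module.length A
        (M ⧸ ((Ring.jacobson A ^ (n + c) • (⊤ : Submodule A M)).comap f))).toNat : ℤ) +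
        chi A (QuotSMulTop x M) (n + c) := by
      rw [chi_apply, chi_apply, hadd, ENat.toNat_add hfinu hfinQ]
      push_cast
      rfl
    have e2 : chi A M n ≤ ((Module.length A
        (M ⧸ ((Ring.jacobson A ^ (n + c) • (⊤ : Submodule A M)).comap f))).toNat : ℤ) :=
      toNat_le hfinu h2
    linarith

theorem chi_succ_le (x : A) (hx : x ∈ Ring.jacobson A) (n : ℕ) :
    chi A M (n + 1) ≤ chi A M n + chi A (QuotSMulTop x M) (n + 1) := by
  have hμ : Ring.jacobson A ^ n • (⊤ : Submodule A M) ≤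
      (Ring.jacobson A ^ (n + 1) • (⊤ : Submodule A M)).comap (LinearMap.lsmul A M x) := by
    intro m hm
    rw [Submodule.mem_comap, pow_succ', Submodule.mul_smul]
    exact Submodule.smul_mem_smul hx hm
  obtain ⟨μ, hμ'⟩ : ∃ μ : (M ⧸ Ring.jacobson A ^ n • (⊤ : Submodule A M)) →ₗ[A]
      (M ⧸ Ring.jacobson A ^ (n + 1) • (⊤ : Submodule A M)),
      ∀ m, μ (Submodule.Quotient.mk m) = Submodule.Quotient.mk (x • m) :=
    ⟨Submodule.mapQ _ _ (LinearMap.lsmul A M x) hμ, fun m => rfl⟩
  obtain ⟨π, hπ, hπs⟩ : ∃ π : (M ⧸ Ring.jacobson A ^ (n + 1) • (⊤ : Submodule A M)) →ₗ[A]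
      (QuotSMulTop x M ⧸ Ring.jacobson A ^ (n + 1) • (⊤ : Submodule A (QuotSMulTop x M))),
      (∀ m, π (Submodule.Quotient.mk m) =
        Submodule.Quotient.mk (Submodule.Quotient.mk m)) ∧ Function.Surjective π := by
    refine ⟨Submodule.mapQ _ _ (Submodule.mkQ _) (Submodule.smul_top_le_comap_smul_top _ _),
      fun m => rfl, ?_⟩
    intro y
    obtain ⟨y, rfl⟩ := Submodule.Quotient.mk_surjective _ y
    obtain ⟨z, rfl⟩ := Submodule.Quotient.mk_surjective _ y
    exact ⟨Submodule.Quotient.mk z, rfl⟩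
  have hker : LinearMap.ker π ≤ LinearMap.range μ := by
    intro z hz
    obtain ⟨m, rfl⟩ := Submodule.Quotient.mk_surjective _ z
    rw [LinearMap.mem_ker, hπ, Submodule.Quotient.mk_eq_zero] at hz
    have h1 : (Ring.jacobson A ^ (n + 1) • (⊤ : Submodule A (QuotSMulTop x M))) =
        (Ring.jacobson A ^ (n + 1) • (⊤ : Submodule A M)).map
          (Submodule.mkQ (x • (⊤ : Submodule A M))) := by
      rw [Submodule.map_smul'', Submodule.map_top, Submodule.range_mkQ]
    rw [h1] at hz
    obtain ⟨m', hm', hmm⟩ := hz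
    have h2 : m - m' ∈ x • (⊤ : Submodule A M) := by
      apply (Submodule.Quotient.mk_eq_zero _).1
      rw [Submodule.Quotient.mk_sub, sub_eq_zero]
      exact hmm.symm
    rw [Submodule.mem_smul_pointwise_iff_exists] at h2
    obtain ⟨m'', _, hm''⟩ := h2
    refine ⟨Submodule.Quotient.mk m'', ?_⟩
    rw [hμ', hm'', Submodule.Quotient.mk_sub, sub_eq_self, Submodule.Quotient.mk_eq_zero]
    exact hm'
  have hadd := Module.length_eq_add_of_exact (LinearMap.ker π).subtype π
    (Submodule.subtype_injective _) hπs (LinearMap.exact_subtype_ker_map π)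
  have h3 : Module.length A ↥(LinearMap.ker π) ≤
      Module.length A (M ⧸ Ring.jacobson A ^ n • (⊤ : Submodule A M)) :=
    (Module.length_le_of_injective (Submodule.inclusion hker)
      (Submodule.inclusion_injective hker)).trans
      (Module.length_le_of_surjective μ.rangeRestrict μ.surjective_rangeRestrict)
  have h4 : Module.length A (M ⧸ Ring.jacobson A ^ (n + 1) • (⊤ : Submodule A M)) ≤
      Module.length A (M ⧸ Ring.jacobson A ^ n • (⊤ : Submodule A M)) +
      Module.length A (QuotSMulTop x M ⧸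
        Ring.jacobson A ^ (n + 1) • (⊤ : Submodule A (QuotSMulTop x M))) := by
    rw [hadd]
    exact add_le_add h3 le_rfl
  exact toNat_le_add (length_ne_top A M n) (length_ne_top A (QuotSMulTop x M) (n + 1)) h4

/-- Passing to the quotient by an element of the radical lowers the degree at most by one. -/
theorem isPolyLike_succ_of_quotSMulTop (x : A) (hx : x ∈ Ring.jacobson A) {j : ℕ}
    (h : IsPolyLike j (chi A (QuotSMulTop x M))) : IsPolyLike (j + 1) (chi A M) := by
  rw [isPolyLike_succ_iff]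
  refine h.shift.of_le ?_ ⟨0, fun n _ => ⟨?_, ?_⟩⟩
  · obtain ⟨j', hj'⟩ := exists_isPolyLike A M
    exact ⟨j', (isPolyLike_succ_iff j' _).1 hj'.succ⟩
  · rw [Δ_apply]
    have := chi_le_succ A M n
    linarith
  · rw [Δ_apply, σ_apply]
    have := chi_succ_le A (M := M) x hx n
    linarith

end three

/-- A system of parameters of length `s` bounds the degree by `s`. -/
theorem isPolyLike_of_isFiniteLength_quot : ∀ (rs : List A), (∀ x ∈ rs, x ∈ Ring.jacobson A) →
    ∀ (M : Type u) [AddCommGroup M] [Module A M] [Module.Finite A M],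
    IsFiniteLength A (M ⧸ Ideal.ofList rs • (⊤ : Submodule A M)) →
      IsPolyLike (rs.length + 1) (chi A M) := by
  intro rs
  induction rs with
  | nil =>
    intro _ M _ _ _ hfl
    have e : (M ⧸ Ideal.ofList ([] : List A) • (⊤ : Submodule A M)) ≃ₗ[A] M :=
      Submodule.quotEquivOfEqBot _ (by rw [Ideal.ofList_nil, Submodule.bot_smul])
    have hM : IsFiniteLength A M := e.isFiniteLength hfl
    have hL : Module.length A M ≠ ⊤ := Module.length_ne_top_iff.2 hM
    have hconst : IsPolyLike 1 (fun _ : ℕ => ((Module.length A M).toNat : ℤ)) := by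
      rw [isPolyLike_succ_iff, Δ_const]
      exact isPolyLike_of_evZero 0 EvZero.zero
    refine hconst.of_le (exists_isPolyLike A M) ⟨0, fun n _ => ⟨chi_nonneg A M n, ?_⟩⟩
    exact toNat_le hL (Module.length_le_of_surjective (Submodule.mkQ _)
      (Submodule.mkQ_surjective _))
  | cons x rs ih =>
    intro hrs M _ _ _ hfl
    have e := Submodule.quotOfListConsSMulTopEquivQuotSMulTopInner M x rs
    have h1 := ih (fun y hy => hrs y (List.mem_cons_of_mem _ hy)) (QuotSMulTop x M)
      (e.isFiniteLength hfl)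
    exact isPolyLike_succ_of_quotSMulTop A x (hrs x List.mem_cons_self) h1

theorem step {j : ℕ} (M : Type u) [AddCommGroup M] [Module A M] [Module.Finite A M]
    (h : IsPolyLike (j + 1) (chi A M)) (q q1 : PrimeSpectrum A)
    (hq : q ∈ Module.support A M) (hlt : q < q1) :
    ∃ x : A, IsPolyLike j (chi A (QuotSMulTop x (A ⧸ q.asIdeal))) ∧
      q1 ∈ Module.support A (QuotSMulTop x (A ⧸ q.asIdeal)) := by
  obtain ⟨m, hm⟩ := Module.mem_support_iff'.1 hq
  obtain ⟨f, hf⟩ : ∃ f : A →ₗ[A] M, ∀ a, f a = a • m :=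
    ⟨LinearMap.toSpanSingleton A M m, fun a => rfl⟩
  have hker : LinearMap.ker f ≤ q.asIdeal := by
    intro a ha
    by_contra hcon
    exact hm a hcon (by rw [← hf]; exact ha)
  have h1 : IsPolyLike (j + 1) (chi A (A ⧸ LinearMap.ker f)) :=
    isPolyLike_of_injective A ((LinearMap.ker f).liftQ f le_rfl) (by
      rw [← LinearMap.ker_eq_bot, Submodule.ker_liftQ_eq_bot _ _ _ le_rfl]) h
  have h2 : IsPolyLike (j + 1) (chi A (A ⧸ q.asIdeal)) :=
    isPolyLike_of_surjective A (Submodule.factor hker) (Submodule.factor_surjective hker) h1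
  obtain ⟨x, hx1, hxq⟩ := SetLike.exists_of_lt ((PrimeSpectrum.asIdeal_lt_asIdeal q q1).2 hlt)
  have hreg : IsSMulRegular (A ⧸ q.asIdeal) x := by
    intro a b hab
    obtain ⟨a, rfl⟩ := Submodule.Quotient.mk_surjective _ a
    obtain ⟨b, rfl⟩ := Submodule.Quotient.mk_surjective _ b
    have hab' : x • (Submodule.Quotient.mk a : A ⧸ q.asIdeal) = x • Submodule.Quotient.mk b := hab
    rw [← Submodule.Quotient.mk_smul, ← Submodule.Quotient.mk_smul, Submodule.Quotient.eq,
      ← smul_sub, smul_eq_mul] at hab'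
    exact (Submodule.Quotient.eq _).2 ((q.isPrime.mem_or_mem hab').resolve_left hxq)
  refine ⟨x, isPolyLike_quotSMulTop A x hreg h2, ?_⟩
  rw [Module.mem_support_iff']
  refine ⟨Submodule.Quotient.mk (Submodule.Quotient.mk 1), fun r hr h0 => hr ?_⟩
  rw [← Submodule.Quotient.mk_smul, Submodule.Quotient.mk_eq_zero,
    Submodule.mem_smul_pointwise_iff_exists] at h0
  obtain ⟨b, _, hb⟩ := h0
  obtain ⟨b', rfl⟩ := Submodule.Quotient.mk_surjective _ b
  rw [← Submodule.Quotient.mk_smul, ← Submodule.Quotient.mk_smul, Submodule.Quotient.eq] at hb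
  have h4 : x • b' - r • (1 : A) ∈ q1.asIdeal :=
    ((PrimeSpectrum.asIdeal_le_asIdeal q q1).2 hlt.le) hb
  have h5 : x • b' ∈ q1.asIdeal := q1.asIdeal.mul_mem_right b' hx1
  have h6 : r • (1 : A) ∈ q1.asIdeal := by
    have h7 := q1.asIdeal.sub_mem h5 h4
    rwa [sub_sub_cancel] at h7
  simpa using h6

theorem length_le_of_isPolyLike (k : ℕ) :
    ∀ (M : Type u) [AddCommGroup M] [Module A M] [Module.Finite A M],
    IsPolyLike (k + 1) (chi A M) → ∀ p : LTSeries (PrimeSpectrum A),
      p.head ∈ Module.support A M → p.length ≤ k := by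
  induction k with
  | zero =>
    intro M _ _ _ h p hp
    by_contra hlen
    have hlen' : p.length ≠ 0 := by omega
    have : NeZero p.length := ⟨hlen'⟩
    have hlt : p.head < p 1 := p.strictMono Fin.one_pos'
    obtain ⟨x, hx, hsupp⟩ := step A M h p.head (p 1) hp hlt
    have := subsingleton_of_isPolyLike_zero A _ hx
    rw [Module.support_eq_empty] at hsupp
    exact hsupp
  | succ k ih =>
    intro M _ _ _ h p hp
    by_cases hlen : p.length = 0
    · omega
    have : NeZero p.length := ⟨hlen⟩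
    have hlt : p.head < p 1 := p.strictMono Fin.one_pos'
    obtain ⟨x, hx, hsupp⟩ := step A M h p.head (p 1) hp hlt
    have h1 := ih _ hx (p.tail hlen) (by rw [RelSeries.head_tail]; exact hsupp)
    rw [RelSeries.tail_length] at h1
    omega

theorem supportDim_le_of_isPolyLike (k : ℕ) (M : Type u) [AddCommGroup M] [Module A M]
    [Module.Finite A M] (h : IsPolyLike (k + 1) (chi A M)) : Module.supportDim A M ≤ k := by
  unfold Module.supportDim Order.krullDim
  refine iSup_le fun p => ?_
  have h1 := length_le_of_isPolyLike A k M h (p.map Subtype.val (Subtype.strictMono_coe _))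
    (by rw [LTSeries.head_map]; exact p.head.2)
  rw [LTSeries.map_length] at h1
  exact_mod_cast h1

/-- The degree of the Hilbert–Samuel polynomial is the dimension of the support. -/
theorem main (M : Type u) [AddCommGroup M] [Module A M] [Module.Finite A M] [Nontrivial M] :
    ∃ P : Polynomial ℚ,
      (∃ N : ℕ, ∀ n : ℕ, N ≤ n →
        ∃ ℓ : ℕ, Module.length A (M ⧸ (Ring.jacobson A ^ n • (⊤ : Submodule A M))) = ℓ ∧
          (ℓ : ℚ) = P.eval (n : ℚ)) ∧
      (P.natDegree : WithBot ℕ∞) = Module.supportDim A M := by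
  classical
  have hD := exists_isPolyLike A M
  obtain ⟨D, hDdef⟩ : ∃ D, D = Nat.find hD := ⟨_, rfl⟩
  have hDspec : IsPolyLike D (chi A M) := hDdef ▸ Nat.find_spec hD
  have hDmin : ∀ j, IsPolyLike j (chi A M) → D ≤ j := fun j hj => hDdef ▸ Nat.find_min' hD hj
  have hD0 : D ≠ 0 := by
    intro h0
    rw [h0] at hDspec
    have := subsingleton_of_isPolyLike_zero A M hDspec
    exact false_of_nontrivial_of_subsingleton M
  obtain ⟨k, hk⟩ : ∃ k, D = k + 1 := ⟨D - 1, by omega⟩
  rw [hk] at hDspec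
  have h1 : Module.supportDim A M ≤ k := supportDim_le_of_isPolyLike A k M hDspec
  have h2 : Module.supportDim A M ≠ ⊥ := Module.supportDim_ne_bot_of_nontrivial A M
  obtain ⟨d, hd⟩ : ∃ d : ℕ, Module.supportDim A M = d := by
    obtain ⟨e, he⟩ := WithBot.ne_bot_iff_exists.1 h2
    rw [← he] at h1
    have h3 : e ≤ (k : ℕ∞) := by exact_mod_cast h1
    have h4 : e ≠ ⊤ := ne_top_of_le_ne_top (ENat.natCast_ne_top k) h3
    refine ⟨e.toNat, ?_⟩
    rw [← he]
    have h5 : ((e.toNat : ℕ∞)) = e := ENat.natCast_toNat h4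
    rw [← h5]
    simp
  have hdk : d ≤ k := by
    rw [hd] at h1
    exact_mod_cast h1
  obtain ⟨rs, hrslen, hrsJ, hrsfl⟩ :=
    exists_list_isFiniteLength_quot_of_supportDim_le A d M hd.le
  have h5 := isPolyLike_of_isFiniteLength_quot A rs hrsJ M hrsfl
  have h6 : D ≤ rs.length + 1 := hDmin _ h5
  have hkd : d = k := by omega
  rw [hkd] at hd
  obtain ⟨c, N, hc⟩ := (isPolyLike_iff (k + 1) (chi A M)).1 hDspec
  have hck : c k ≠ 0 := by
    intro h0
    have h7 : IsPolyLike k (chi A M) := isPolyLike_of_eq_sum c N (fun n hn => by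
      rw [hc n hn, Finset.sum_range_succ, h0, zero_mul, add_zero])
    have h8 := hDmin k h7
    omega
  refine ⟨∑ i ∈ Finset.range (k + 1), (c i : ℚ) • Polynomial.preHilbertPoly ℚ i 0,
    ⟨N, fun n hn => ⟨(Module.length A
      (M ⧸ (Ring.jacobson A ^ n • (⊤ : Submodule A M)))).toNat, ?_, ?_⟩⟩, ?_⟩
  · exact (ENat.natCast_toNat (length_ne_top A M n)).symm
  · rw [eval_sum_preHilbertPoly, ← hc n hn, chi_apply]
    push_cast
    rfl
  · rw [natDegree_sum_preHilbertPoly k c hck, hd]

end main

end Groth.Agent.Lib.Helper5.HilbertSamuel
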