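import Mathlib
import Groth.Agent.Lib.Helper5HilbertSamuel

/-!
# The Samuel function of an ideal of definition (helper5)

For a semilocal Noetherian ring `A`, an ideal `I` with `V(I)` consisting of maximal ideals and
containing a power of the Jacobson radical, and a finite `A`-module `M` with `dim M ≤ d`, the
function `n ↦ length (M / I^n M)` is polynomial-like of degree `≤ d`.  Also a growth lemma for
polynomial-like functions.
-/

set_option autoImplicit false
universe u

namespace Groth.Agent.Lib.Helper5.HilbertSamuelI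

open PolyLike Pointwise Filter

section growth

theorem B_le (k n : ℕ) (hn : 1 ≤ n) : B k n ≤ ((k + 1) ^ k : ℤ) * (n : ℤ) ^ k := by
  rw [B_apply]
  have h1 : (n + k).choose k ≤ (n + k) ^ k := Nat.choose_le_pow (n + k) k
  have h2 : (n + k) ^ k ≤ ((k + 1) * n) ^ k := by
    apply Nat.pow_le_pow_left
    nlinarith
  have h3 : (n + k).choose k ≤ (k + 1) ^ k * n ^ k := by
    rw [← mul_pow]
    exact h1.trans h2
  exact_mod_cast h3

theorem tendsto_B_div (k d : ℕ) (hkd : k < d) :
    Tendsto (fun n : ℕ => (B k n : ℝ) / (n : ℝ) ^ d) atTop (nhds 0) := by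
  have h0 : Tendsto (fun n : ℕ => (((k + 1) ^ k : ℕ) : ℝ) / (n : ℝ)) atTop (nhds 0) :=
    tendsto_const_div_atTop_nhds_zero_nat _
  refine tendsto_of_tendsto_of_tendsto_of_le_of_le' tendsto_const_nhds h0 ?_ ?_
  · filter_upwards with n
    have : (0 : ℝ) ≤ (B k n : ℝ) := by
      rw [B_apply]
      positivity
    positivity
  · filter_upwards [eventually_ge_atTop 1] with n hn
    have hnpos : (0 : ℝ) < (n : ℝ) := by exact_mod_cast hn
    have h1 : (B k n : ℝ) ≤ (((k + 1) ^ k : ℕ) : ℝ) * (n : ℝ) ^ k := by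
      have := B_le k n hn
      exact_mod_cast this
    have h2 : (n : ℝ) ^ k ≤ (n : ℝ) ^ (d - 1) := by
      apply pow_le_pow_right₀
      · exact_mod_cast hn
      · omega
    have h3 : (n : ℝ) ^ d = (n : ℝ) ^ (d - 1) * n := by
      rw [← pow_succ]
      congr 1
      omega
    rw [div_le_div_iff₀ (by positivity) hnpos, h3]
    have h4 : (0 : ℝ) ≤ (((k + 1) ^ k : ℕ) : ℝ) := by positivity
    nlinarith [mul_le_mul_of_nonneg_left h2 h4, mul_le_mul_of_nonneg_right h1 hnpos.le]

/-- A polynomial-like function of degree `< d` is `o(n^d)`. -/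
theorem tendsto_div_pow {d : ℕ} {g : ℕ → ℤ} (h : IsPolyLike d g) :
    Tendsto (fun n : ℕ => (g n : ℝ) / (n : ℝ) ^ d) atTop (nhds 0) := by
  obtain ⟨c, N, hc⟩ := (isPolyLike_iff d g).1 h
  have h1 : Tendsto (fun n : ℕ => ∑ k ∈ Finset.range d, (c k : ℝ) * ((B k n : ℝ) / (n : ℝ) ^ d))
      atTop (nhds (∑ k ∈ Finset.range d, (c k : ℝ) * 0)) := by
    refine tendsto_finsetSum _ (fun k hk => ?_)
    exact (tendsto_B_div k d (Finset.mem_range.1 hk)).const_mul _
  simp only [mul_zero, Finset.sum_const_zero] at h1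
  refine h1.congr' ?_
  filter_upwards [eventually_ge_atTop N] with n hn
  rw [hc n hn]
  push_cast
  rw [Finset.sum_div]
  refine Finset.sum_congr rfl (fun k _ => ?_)
  ring

end growth

section main

variable (A : Type u) [CommRing A] (I : Ideal A)

/-- The Samuel function with respect to `I`. -/
noncomputable def chi (M : Type u) [AddCommGroup M] [Module A M] : ℕ → ℤ :=
  fun n => ((Module.length A (M ⧸ (I ^ n • (⊤ : Submodule A M)))).toNat : ℤ)

theorem chi_apply (M : Type u) [AddCommGroup M] [Module A M] (n : ℕ) : chi A I M n =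
    ((Module.length A (M ⧸ (I ^ n • (⊤ : Submodule A M)))).toNat : ℤ) := rfl

theorem chi_nonneg (M : Type u) [AddCommGroup M] [Module A M] (n : ℕ) : 0 ≤ chi A I M n :=
  Int.natCast_nonneg _

variable [IsNoetherianRing A]

section one

variable (hI : ∀ p : Ideal A, p.IsPrime → I ≤ p → p.IsMaximal)
variable (M : Type u) [AddCommGroup M] [Module A M] [Module.Finite A M]

include hI

theorem length_ne_top (n : ℕ) :
    Module.length A (M ⧸ (I ^ n • (⊤ : Submodule A M))) ≠ ⊤ :=
  (AssocGr.samuel I hI M).1 n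

theorem exists_isPolyLike : ∃ j, IsPolyLike j (chi A I M) :=
  (AssocGr.samuel I hI M).2

theorem chi_le_succ (n : ℕ) : chi A I M n ≤ chi A I M (n + 1) := by
  have hle : I ^ (n + 1) • (⊤ : Submodule A M) ≤ I ^ n • (⊤ : Submodule A M) :=
    Submodule.smul_mono_left (Ideal.pow_le_pow_right (Nat.le_succ n))
  exact HilbertSamuel.toNat_le (length_ne_top A I hI M (n + 1))
    (Module.length_le_of_surjective (Submodule.factor hle) (Submodule.factor_surjective hle))

theorem chi_le_of_surjective {M' : Type u} [AddCommGroup M'] [Module A M'] (g : M →ₗ[A] M')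
    (hg : Function.Surjective g) (n : ℕ) : chi A I M' n ≤ chi A I M n := by
  have hle : I ^ n • (⊤ : Submodule A M) ≤ (I ^ n • (⊤ : Submodule A M')).comap g :=
    Submodule.smul_top_le_comap_smul_top _ _
  refine HilbertSamuel.toNat_le (length_ne_top A I hI M n)
    (Module.length_le_of_surjective (Submodule.mapQ _ _ g hle) ?_)
  intro y
  obtain ⟨y, rfl⟩ := Submodule.Quotient.mk_surjective _ y
  obtain ⟨z, rfl⟩ := hg y
  exact ⟨Submodule.Quotient.mk z, rfl⟩

theorem chi_succ_le (x : A) (hx : x ∈ I) (n : ℕ) :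
    chi A I M (n + 1) ≤ chi A I M n + chi A I (QuotSMulTop x M) (n + 1) := by
  have hμ : I ^ n • (⊤ : Submodule A M) ≤
      (I ^ (n + 1) • (⊤ : Submodule A M)).comap (LinearMap.lsmul A M x) := by
    intro m hm
    rw [Submodule.mem_comap, pow_succ', Submodule.mul_smul]
    exact Submodule.smul_mem_smul hx hm
  obtain ⟨μ, hμ'⟩ : ∃ μ : (M ⧸ I ^ n • (⊤ : Submodule A M)) →ₗ[A]
      (M ⧸ I ^ (n + 1) • (⊤ : Submodule A M)),
      ∀ m, μ (Submodule.Quotient.mk m) = Submodule.Quotient.mk (x • m) :=
    ⟨Submodule.mapQ _ _ (LinearMap.lsmul A M x) hμ, fun m => rfl⟩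
  obtain ⟨π, hπ, hπs⟩ : ∃ π : (M ⧸ I ^ (n + 1) • (⊤ : Submodule A M)) →ₗ[A]
      (QuotSMulTop x M ⧸ I ^ (n + 1) • (⊤ : Submodule A (QuotSMulTop x M))),
      (∀ m, π (Submodule.Quotient.mk m) =
        Submodule.Quotient.mk (Submodule.Quotient.mk m)) ∧ Function.Surjective π := by
    refine ⟨Submodule.mapQ _ _ (Submodule.mkQ _) (Submodule.smul_top_le_comap_smul_top _ _),
      fun m => rfl, ?_⟩
    intro y
    obtain ⟨y, rfl⟩ := Submodule.Quotient.mk_surjective _ y
    obtain ⟨z, rfl⟩ := Submodule.Quotient.mk_surjective _ y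
    exact ⟨Submodule.Quotient.mk z, rfl⟩
  have hker : LinearMap.ker π ≤ LinearMap.range μ := by
    intro z hz
    obtain ⟨m, rfl⟩ := Submodule.Quotient.mk_surjective _ z
    rw [LinearMap.mem_ker, hπ, Submodule.Quotient.mk_eq_zero] at hz
    have h1 : (I ^ (n + 1) • (⊤ : Submodule A (QuotSMulTop x M))) =
        (I ^ (n + 1) • (⊤ : Submodule A M)).map
          (Submodule.mkQ (x • (⊤ : Submodule A M))) := by
      rw [Submodule.map_smul'', Submodule.map_top, Submodule.range_mkQ]
    rw [h1] at hz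
    obtain ⟨m', hm', hmm⟩ := hz
    have h2 : m - m' ∈ x • (⊤ : Submodule A M) := by
      apply (Submodule.Quotient.mk_eq_zero _).1
      rw [Submodule.Quotient.mk_sub, sub_eq_zero]
      exact hmm.symm
    rw [Submodule.mem_smul_pointwise_iff_exists] at h2
    obtain ⟨m'', _, hm''⟩ := h2
    refine ⟨Submodule.Quotient.mk m'', ?_⟩
    rw [hμ', hm'', Submodule.Quotient.mk_sub, sub_eq_self, Submodule.Quotient.mk_eq_zero]
    exact hm'
  have hadd := Module.length_eq_add_of_exact (LinearMap.ker π).subtype π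
    (Submodule.subtype_injective _) hπs (LinearMap.exact_subtype_ker_map π)
  have h3 : Module.length A ↥(LinearMap.ker π) ≤
      Module.length A (M ⧸ I ^ n • (⊤ : Submodule A M)) :=
    (Module.length_le_of_injective (Submodule.inclusion hker)
      (Submodule.inclusion_injective hker)).trans
      (Module.length_le_of_surjective μ.rangeRestrict μ.surjective_rangeRestrict)
  have h4 : Module.length A (M ⧸ I ^ (n + 1) • (⊤ : Submodule A M)) ≤
      Module.length A (M ⧸ I ^ n • (⊤ : Submodule A M)) +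
      Module.length A (QuotSMulTop x M ⧸
        I ^ (n + 1) • (⊤ : Submodule A (QuotSMulTop x M))) := by
    rw [hadd]
    exact add_le_add h3 le_rfl
  exact HilbertSamuel.toNat_le_add (length_ne_top A I hI M n)
    (length_ne_top A I hI (QuotSMulTop x M) (n + 1)) h4

theorem isPolyLike_succ_of_quotSMulTop (x : A) (hx : x ∈ I) {j : ℕ}
    (h : IsPolyLike j (chi A I (QuotSMulTop x M))) : IsPolyLike (j + 1) (chi A I M) := by
  rw [isPolyLike_succ_iff]
  refine h.shift.of_le ?_ ⟨0, fun n _ => ⟨?_, ?_⟩⟩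
  · obtain ⟨j', hj'⟩ := exists_isPolyLike A I hI M
    exact ⟨j', (isPolyLike_succ_iff j' _).1 hj'.succ⟩
  · rw [Δ_apply]
    have := chi_le_succ A I hI M n
    linarith
  · rw [Δ_apply, σ_apply]
    have := chi_succ_le A I hI M x hx n
    linarith

end one

theorem isPolyLike_of_isFiniteLength_quot
    (hI : ∀ p : Ideal A, p.IsPrime → I ≤ p → p.IsMaximal) :
    ∀ (rs : List A), (∀ x ∈ rs, x ∈ I) →
    ∀ (M : Type u) [AddCommGroup M] [Module A M] [Module.Finite A M],
    IsFiniteLength A (M ⧸ Ideal.ofList rs • (⊤ : Submodule A M)) →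
      IsPolyLike (rs.length + 1) (chi A I M) := by
  intro rs
  induction rs with
  | nil =>
    intro _ M _ _ _ hfl
    have e : (M ⧸ Ideal.ofList ([] : List A) • (⊤ : Submodule A M)) ≃ₗ[A] M :=
      Submodule.quotEquivOfEqBot _ (by rw [Ideal.ofList_nil, Submodule.bot_smul])
    have hM : IsFiniteLength A M := e.isFiniteLength hfl
    have hL : Module.length A M ≠ ⊤ := Module.length_ne_top_iff.2 hM
    have hconst : IsPolyLike 1 (fun _ : ℕ => ((Module.length A M).toNat : ℤ)) := by
      rw [isPolyLike_succ_iff, Δ_const]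
      exact isPolyLike_of_evZero 0 EvZero.zero
    refine hconst.of_le (exists_isPolyLike A I hI M) ⟨0, fun n _ => ⟨chi_nonneg A I M n, ?_⟩⟩
    exact HilbertSamuel.toNat_le hL (Module.length_le_of_surjective (Submodule.mkQ _)
      (Submodule.mkQ_surjective _))
  | cons x rs ih =>
    intro hrs M _ _ _ hfl
    have e := Submodule.quotOfListConsSMulTopEquivQuotSMulTopInner M x rs
    have h1 := ih (fun y hy => hrs y (List.mem_cons_of_mem _ hy)) (QuotSMulTop x M)
      (e.isFiniteLength hfl)
    exact isPolyLike_succ_of_quotSMulTop A I hI M x (hrs x List.mem_cons_self) h1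

/-- The degree bound for an ideal of definition of a semilocal Noetherian ring. -/
theorem isPolyLike_of_supportDim_le [Finite (MaximalSpectrum A)]
    (hI : ∀ p : Ideal A, p.IsPrime → I ≤ p → p.IsMaximal)
    (hIr : ∃ N : ℕ, Ring.jacobson A ^ N ≤ I)
    (M : Type u) [AddCommGroup M] [Module A M] [Module.Finite A M] (d : ℕ)
    (hd : Module.supportDim A M ≤ d) : IsPolyLike (d + 1) (chi A I M) := by
  obtain ⟨N, hN⟩ := hIr
  obtain ⟨rs, hrslen, hrsJ, hrsfl⟩ := exists_list_isFiniteLength_quot_of_supportDim_le A d M hd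
  have hmem : ∀ x ∈ rs.map (fun y => y ^ N), x ∈ I := by
    intro x hx
    obtain ⟨y, hy, rfl⟩ := List.mem_map.1 hx
    exact hN (Ideal.pow_mem_pow (hrsJ y hy) N)
  have hfl : IsFiniteLength A (M ⧸ Ideal.ofList (rs.map (fun y => y ^ N)) •
      (⊤ : Submodule A M)) := by
    apply isFiniteLength_of_supportDim_le_zero
    apply supportDim_le_zero_of_forall_isMaximal
    intro p hp
    rw [Module.support_quotient] at hp
    have hp2 : Ideal.ofList rs ≤ p.asIdeal := by
      rw [Ideal.ofList, Ideal.span_le]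
      intro y hy
      have h1 : y ^ N ∈ p.asIdeal := hp.2 (Ideal.subset_span (List.mem_map.2 ⟨y, hy, rfl⟩))
      exact p.isPrime.mem_of_pow_mem N h1
    have hp3 : p ∈ Module.support A (M ⧸ Ideal.ofList rs • (⊤ : Submodule A M)) := by
      rw [Module.support_quotient]
      exact ⟨hp.1, hp2⟩
    exact isMaximal_of_annihilator_le_of_isFiniteLength hrsfl p.asIdeal
      (Module.annihilator_le_of_mem_support hp3)
  have h1 := isPolyLike_of_isFiniteLength_quot A I hI _ hmem M hfl
  rw [List.length_map] at h1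
  exact h1.mono (by omega)

end main

end Groth.Agent.Lib.Helper5.HilbertSamuelI
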