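import Mathlib
import Groth.Agent.Lib.Helper5HilbertSamuelI

/-!
# Reductions of ideals and Samuel functions over local rings (helper5)
-/

set_option autoImplicit false
universe u

namespace Groth.Agent.Lib.Helper5.Reduction

open PolyLike HilbertSamuelI

section ideals

variable {A : Type u} [CommRing A]

theorem sup_pow_le (a b c Y : Ideal A) (hc : c ≤ a) (hY : Y ≤ a) (k n : ℕ) (hn : 0 < n)
    (h1 : c ^ (k + 1) ≤ b * a ^ k) (h2 : Y ^ n ≤ b * a ^ (n - 1)) :
    (c ⊔ Y) ^ (k + n) ≤ b * a ^ (k + n - 1) := by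
  rw [← Ideal.add_eq_sup, add_pow, Ideal.sum_eq_sup]
  refine Finset.sup_le (fun i hi => ?_)
  have hi' : i ≤ k + n := Nat.lt_succ_iff.1 (Finset.mem_range.1 hi)
  refine le_trans Ideal.mul_le_left ?_
  by_cases hik : k + 1 ≤ i
  · have e1 : c ^ i * Y ^ (k + n - i) = c ^ (k + 1) * c ^ (i - (k + 1)) * Y ^ (k + n - i) := by
      rw [← pow_add]
      congr 2
      omega
    have e2 : (b * a ^ k) * a ^ (i - (k + 1)) * a ^ (k + n - i) = b * a ^ (k + n - 1) := by
      rw [mul_assoc, mul_assoc, ← pow_add, ← pow_add]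
      congr 2
      omega
    rw [e1, ← e2]
    exact Ideal.mul_mono (Ideal.mul_mono h1 (Ideal.pow_right_mono hc _))
      (Ideal.pow_right_mono hY _)
  · push Not at hik
    have e1 : c ^ i * Y ^ (k + n - i) = c ^ i * (Y ^ n * Y ^ (k + n - i - n)) := by
      rw [← pow_add]
      congr 2
      omega
    have e2 : a ^ i * ((b * a ^ (n - 1)) * a ^ (k + n - i - n)) = b * a ^ (k + n - 1) := by
      rw [mul_comm (a ^ i), mul_assoc, mul_assoc, ← pow_add, ← pow_add]
      congr 2
      omega
    rw [e1, ← e2]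
    exact Ideal.mul_mono (Ideal.pow_right_mono hc _)
      (Ideal.mul_mono h2 (Ideal.pow_right_mono hY _))

/-- If every element of `a` satisfies `x^n ∈ b a^{n-1}`, then `b` is a reduction of `a`. -/
theorem exists_reduction [IsNoetherianRing A] (a b : Ideal A)
    (hint : ∀ x ∈ a, ∃ n : ℕ, 0 < n ∧ x ^ n ∈ b * a ^ (n - 1)) :
    ∃ k, a ^ (k + 1) ≤ b * a ^ k := by
  classical
  obtain ⟨T, hT⟩ := (IsNoetherian.noetherian a : a.FG)
  have key : ∀ T : Finset A, (↑T : Set A) ⊆ a →
      ∃ k, (Ideal.span (T : Set A)) ^ (k + 1) ≤ b * a ^ k := by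
    intro T
    induction T using Finset.induction_on with
    | empty =>
      intro _
      refine ⟨0, ?_⟩
      rw [Finset.coe_empty, Ideal.span_empty, zero_add, pow_one]
      exact bot_le
    | insert y T hy ih =>
      intro hsub
      rw [Finset.coe_insert] at hsub ⊢
      obtain ⟨k, hk⟩ := ih (fun z hz => hsub (Set.mem_insert_of_mem _ hz))
      obtain ⟨n, hn, hyn⟩ := hint y (hsub (Set.mem_insert _ _))
      refine ⟨k + n - 1, ?_⟩
      rw [Ideal.span_insert, sup_comm]
      have e : k + n - 1 + 1 = k + n := by omega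
      rw [e]
      refine sup_pow_le a b _ _
        (Ideal.span_le.2 fun z hz => hsub (Set.mem_insert_of_mem _ hz))
        ((Ideal.span_singleton_le_iff_mem _).2 (hsub (Set.mem_insert _ _))) k n hn hk ?_
      rw [Ideal.span_singleton_pow, Ideal.span_singleton_le_iff_mem]
      exact hyn
  have hT' : Ideal.span (T : Set A) = a := hT
  obtain ⟨k, hk⟩ := key T (by rw [← hT']; exact Ideal.subset_span)
  rw [hT'] at hk
  exact ⟨k, hk⟩

theorem pow_add_le_pow (a b : Ideal A) (k : ℕ) (hk : a ^ (k + 1) ≤ b * a ^ k) (m : ℕ) :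
    a ^ (m + k) ≤ b ^ m := by
  induction m with
  | zero =>
    rw [pow_zero, Ideal.one_eq_top]
    exact le_top
  | succ m ih =>
    have e : m + 1 + k = m + (k + 1) := by omega
    rw [e, pow_add]
    calc a ^ m * a ^ (k + 1) ≤ a ^ m * (b * a ^ k) := Ideal.mul_mono le_rfl hk
      _ = b * a ^ (m + k) := by rw [pow_add]; ring
      _ ≤ b * b ^ m := Ideal.mul_mono le_rfl ih
      _ = b ^ (m + 1) := (pow_succ' b m).symm

end ideals

section loc

variable (A : Type u) [CommRing A] [IsLocalRing A]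

theorem isMaximal_of_pow_le (J : Ideal A) (hJ : ∃ N : ℕ, IsLocalRing.maximalIdeal A ^ N ≤ J)
    (p : Ideal A) (hp : p.IsPrime) (hle : J ≤ p) : p.IsMaximal := by
  obtain ⟨N, hN⟩ := hJ
  have h1 : IsLocalRing.maximalIdeal A ≤ p := hp.le_of_pow_le (hN.trans hle)
  have h2 : p = IsLocalRing.maximalIdeal A :=
    ((IsLocalRing.maximalIdeal.isMaximal A).eq_of_le hp.ne_top h1).symm
  rw [h2]
  exact IsLocalRing.maximalIdeal.isMaximal A

omit [IsLocalRing A] in
theorem length_quot_pow (J : Ideal A) (m : ℕ) :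
    Module.length A (A ⧸ J ^ m) = Module.length A (A ⧸ (J ^ m • (⊤ : Submodule A A))) := by
  have h : (J ^ m • (⊤ : Submodule A A)) = J ^ m := by
    rw [smul_eq_mul, Ideal.mul_top]
  exact (Submodule.quotEquivOfEq _ _ h).length_eq.symm

variable [IsNoetherianRing A]

/-- The Samuel function of an `𝔪`-primary ideal of a Noetherian local ring of dimension `d` is
polynomial-like of degree `≤ d`. -/
theorem isPolyLike_chi (J : Ideal A) (hJ : ∃ N : ℕ, IsLocalRing.maximalIdeal A ^ N ≤ J)
    (M : Type u) [AddCommGroup M] [Module A M] [Module.Finite A M] (d : ℕ)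
    (hd : Module.supportDim A M ≤ d) : IsPolyLike (d + 1) (chi A J M) := by
  refine isPolyLike_of_supportDim_le A J (isMaximal_of_pow_le A J hJ) ?_ M d hd
  obtain ⟨N, hN⟩ := hJ
  exact ⟨N, by rw [IsLocalRing.ringJacobson_eq_maximalIdeal]; exact hN⟩

end loc

end Groth.Agent.Lib.Helper5.Reduction
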