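import Mathlib
import Groth.Agent.Lib.Helper5Reduction
import Groth.Agent.S12211

/-!
# The associativity formula for Samuel multiplicities (helper5)
-/

set_option autoImplicit false
universe u

namespace Groth.Agent.Lib.Helper5.AssocFormula

open PolyLike HilbertSamuelI Filter

section finsum

theorem finsum_cond_add {α : Type*} (c : α → Prop) (f g h : α → ℝ)
    (hf : ({a | c a} ∩ Function.support f).Finite) (hg : ({a | c a} ∩ Function.support g).Finite)
    (hh : ∀ a, c a → h a = f a + g a) :
    ∑ᶠ (a : α) (_ : c a), h a = (∑ᶠ (a : α) (_ : c a), f a) + ∑ᶠ (a : α) (_ : c a), g a := by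
  have h1 : ∑ᶠ a ∈ {a | c a}, (f a + g a) = (∑ᶠ a ∈ {a | c a}, f a) + ∑ᶠ a ∈ {a | c a}, g a :=
    finsum_mem_add_distrib' hf hg
  have h2 : ∑ᶠ a ∈ {a | c a}, h a = ∑ᶠ a ∈ {a | c a}, (f a + g a) :=
    finsum_mem_congr rfl (fun a ha => hh a ha)
  exact h2.trans h1

end finsum

section loc

variable (A : Type u) [CommRing A]

/-- The length of the localization at `p`. -/
noncomputable def L (N : Type u) [AddCommGroup N] [Module A N] (p : PrimeSpectrum A) : ℕ∞ :=
  Module.length (Localization.AtPrime p.asIdeal) (LocalizedModule p.asIdeal.primeCompl N)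

variable {A}

theorem L_eq_zero_of_notMem {N : Type u} [AddCommGroup N] [Module A N] {p : PrimeSpectrum A}
    (h : p ∉ Module.support A N) : L A N p = 0 := by
  rw [Module.notMem_support_iff] at h
  exact Module.length_eq_zero

theorem L_congr {N N' : Type u} [AddCommGroup N] [Module A N] [AddCommGroup N'] [Module A N']
    (e : N ≃ₗ[A] N') (p : PrimeSpectrum A) : L A N p = L A N' p :=
  le_antisymm
    (Module.length_le_of_surjective _
      (LocalizedModule.map_surjective p.asIdeal.primeCompl e.symm.toLinearMap e.symm.surjective))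
    (Module.length_le_of_surjective _
      (LocalizedModule.map_surjective p.asIdeal.primeCompl e.toLinearMap e.surjective))

theorem L_add {N₁ N₂ N₃ : Type u} [AddCommGroup N₁] [Module A N₁] [AddCommGroup N₂] [Module A N₂]
    [AddCommGroup N₃] [Module A N₃] (f : N₁ →ₗ[A] N₂) (g : N₂ →ₗ[A] N₃)
    (hf : Function.Injective f) (hg : Function.Surjective g) (hfg : Function.Exact f g)
    (p : PrimeSpectrum A) : L A N₂ p = L A N₁ p + L A N₃ p := by
  refine Module.length_eq_add_of_exact (LocalizedModule.map p.asIdeal.primeCompl f)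
    (LocalizedModule.map p.asIdeal.primeCompl g)
    (LocalizedModule.map_injective _ f hf) (LocalizedModule.map_surjective _ g hg) ?_
  exact LocalizedModule.map_exact p.asIdeal.primeCompl f g hfg

theorem L_quot_self (p : PrimeSpectrum A) : L A (A ⧸ p.asIdeal) p = 1 := by
  unfold L
  rw [Module.length_eq_one_iff, isSimpleModule_iff_quot_maximal]
  obtain ⟨g, hg⟩ : ∃ g : LocalizedModule p.asIdeal.primeCompl (A ⧸ p.asIdeal),
      g = LocalizedModule.mk (Submodule.Quotient.mk 1) 1 := ⟨_, rfl⟩
  obtain ⟨φ, hφ⟩ : ∃ φ : Localization.AtPrime p.asIdeal →ₗ[Localization.AtPrime p.asIdeal]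
      LocalizedModule p.asIdeal.primeCompl (A ⧸ p.asIdeal), ∀ x, φ x = x • g :=
    ⟨LinearMap.toSpanSingleton _ _ g, fun x => rfl⟩
  have hsurj : Function.Surjective φ := by
    intro y
    induction y using LocalizedModule.induction_on with
    | h m s =>
      obtain ⟨a, rfl⟩ := Submodule.Quotient.mk_surjective _ m
      refine ⟨Localization.mk a s, ?_⟩
      rw [hφ, hg, LocalizedModule.mk_smul_mk, mul_one, ← Submodule.Quotient.mk_smul,
        smul_eq_mul, mul_one]
  have hker : LinearMap.ker φ = IsLocalRing.maximalIdeal (Localization.AtPrime p.asIdeal) := by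
    apply le_antisymm
    · apply IsLocalRing.le_maximalIdeal
      intro htop
      have h1 : (1 : Localization.AtPrime p.asIdeal) ∈ LinearMap.ker φ := by
        rw [htop]; trivial
      rw [LinearMap.mem_ker, hφ, one_smul, hg, ← LocalizedModule.zero_mk 1,
        LocalizedModule.mk_eq] at h1
      obtain ⟨u, hu⟩ := h1
      simp only [one_smul, smul_zero] at hu
      rw [Submonoid.smul_def, ← Submodule.Quotient.mk_smul, Submodule.Quotient.mk_eq_zero,
        smul_eq_mul, mul_one] at hu
      exact u.2 hu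
    · intro x hx
      obtain ⟨a, s, rfl⟩ := IsLocalization.exists_mk'_eq p.asIdeal.primeCompl x
      rw [IsLocalization.AtPrime.mk'_mem_maximal_iff (Localization.AtPrime p.asIdeal)
        p.asIdeal] at hx
      rw [LinearMap.mem_ker, hφ, hg, ← Localization.mk_eq_mk'_apply,
        LocalizedModule.mk_smul_mk]
      have h0 : a • (Submodule.Quotient.mk 1 : A ⧸ p.asIdeal) = 0 := by
        rw [← Submodule.Quotient.mk_smul, Submodule.Quotient.mk_eq_zero, smul_eq_mul, mul_one]
        exact hx
      rw [h0, LocalizedModule.zero_mk]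
  refine ⟨IsLocalRing.maximalIdeal _, IsLocalRing.maximalIdeal.isMaximal _, ⟨?_⟩⟩
  exact (φ.quotKerEquivOfSurjective hsurj).symm.trans (Submodule.quotEquivOfEq _ _ hker)

theorem ringKrullDim_quot_eq_coheight (q : PrimeSpectrum A) :
    ringKrullDim (A ⧸ q.asIdeal) = ((Order.coheight q : ℕ∞) : WithBot ℕ∞) := by
  rw [ringKrullDim_quotient, Order.coheight_eq_krullDim_Ici]
  have h : PrimeSpectrum.zeroLocus (q.asIdeal : Set A) = Set.Ici q := by
    ext p
    rw [PrimeSpectrum.mem_zeroLocus, Set.mem_Ici, SetLike.coe_subset_coe,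
      PrimeSpectrum.asIdeal_le_asIdeal]
  rw [h]

theorem not_lt_of_dim (q p : PrimeSpectrum A) (d : ℕ)
    (hq : ringKrullDim (A ⧸ q.asIdeal) ≤ d) (hp : ringKrullDim (A ⧸ p.asIdeal) = d) :
    ¬ q < p := by
  intro hlt
  rw [ringKrullDim_quot_eq_coheight] at hq hp
  have h1 := Order.coheight_add_one_le hlt
  have h2 : Order.coheight p = (d : ℕ∞) := by exact_mod_cast hp
  have h3 : Order.coheight q ≤ (d : ℕ∞) := by exact_mod_cast hq
  rw [h2] at h1
  have h4 : ((d + 1 : ℕ) : ℕ∞) ≤ (d : ℕ∞) := by
    push_cast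
    exact h1.trans h3
  have h5 : d + 1 ≤ d := by exact_mod_cast h4
  omega

theorem length_quot_congr {N N' : Type u} [AddCommGroup N] [Module A N] [AddCommGroup N']
    [Module A N'] (e : N ≃ₗ[A] N') (I : Ideal A) (t : ℕ) :
    Module.length A (N ⧸ (I ^ t • (⊤ : Submodule A N))) =
      Module.length A (N' ⧸ (I ^ t • (⊤ : Submodule A N'))) := by
  have key : ∀ {X Y : Type u} [AddCommGroup X] [Module A X] [AddCommGroup Y] [Module A Y]
      (g : X →ₗ[A] Y), Function.Surjective g →
      Module.length A (Y ⧸ (I ^ t • (⊤ : Submodule A Y))) ≤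
        Module.length A (X ⧸ (I ^ t • (⊤ : Submodule A X))) := by
    intro X Y _ _ _ _ g hg
    refine Module.length_le_of_surjective
      (Submodule.mapQ _ _ g (Submodule.smul_top_le_comap_smul_top _ _)) ?_
    intro y
    obtain ⟨y, rfl⟩ := Submodule.Quotient.mk_surjective _ y
    obtain ⟨z, rfl⟩ := hg y
    exact ⟨Submodule.Quotient.mk z, rfl⟩
  exact le_antisymm (key e.symm.toLinearMap e.symm.surjective) (key e.toLinearMap e.surjective)

end loc

section main

variable (A : Type u) [CommRing A] [IsNoetherianRing A] [IsLocalRing A]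
  (I : Ideal A) (d : ℕ) (e : PrimeSpectrum A → ℝ)

/-- The statement proved by induction on prime filtrations. -/
def Good (N : Type u) [AddCommGroup N] [Module A N] : Prop :=
  Module.supportDim A N ≤ d →
    ({p : PrimeSpectrum A | ringKrullDim (A ⧸ p.asIdeal) = d ∧ p ∈ Module.support A N}).Finite ∧
    (∀ p : PrimeSpectrum A, ringKrullDim (A ⧸ p.asIdeal) = d → L A N p ≠ ⊤) ∧
    Tendsto (fun t : ℕ => (d.factorial : ℝ) *
        ((Module.length A (N ⧸ (I ^ t • (⊤ : Submodule A N)))).toNat : ℝ) / (t : ℝ) ^ d) atTop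
      (nhds (∑ᶠ (p : PrimeSpectrum A) (_ : ringKrullDim (A ⧸ p.asIdeal) = d),
        ((L A N p).toNat : ℝ) * e p))

variable {A I d e}

omit [IsNoetherianRing A] [IsLocalRing A] in
theorem good_of_subsingleton (N : Type u) [AddCommGroup N] [Module A N] [Subsingleton N] :
    Good A I d e N := by
  intro _
  have hL : ∀ p : PrimeSpectrum A, L A N p = 0 := fun p => Module.length_eq_zero
  refine ⟨Set.Finite.subset Set.finite_empty (fun p hp => ?_), fun p _ => ?_, ?_⟩
  · have h1 := hp.2
    rw [Module.support_eq_empty] at h1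
    exact h1
  · rw [hL p]
    exact ENat.zero_ne_top
  · have h1 : ∑ᶠ (p : PrimeSpectrum A) (_ : ringKrullDim (A ⧸ p.asIdeal) = d),
        ((L A N p).toNat : ℝ) * e p = 0 := by
      refine finsum_eq_zero_of_forall_eq_zero (fun p => ?_)
      rw [hL p]
      simp
    rw [h1]
    have h2 : ∀ t : ℕ, (d.factorial : ℝ) *
        ((Module.length A (N ⧸ (I ^ t • (⊤ : Submodule A N)))).toNat : ℝ) / (t : ℝ) ^ d = 0 := by
      intro t
      rw [Module.length_eq_zero]
      simp
    simp only [h2]
    exact tendsto_const_nhds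

theorem good_of_quotient (hI : ∃ n : ℕ, IsLocalRing.maximalIdeal A ^ n ≤ I)
    (he : ∀ p : PrimeSpectrum A, ringKrullDim (A ⧸ p.asIdeal) = d →
      Tendsto (fun t : ℕ => (d.factorial : ℝ) *
        ((Module.length A ((A ⧸ p.asIdeal) ⧸
          (I ^ t • (⊤ : Submodule A (A ⧸ p.asIdeal))))).toNat : ℝ) / (t : ℝ) ^ d)
        atTop (nhds (e p)))
    (N : Type u) [AddCommGroup N] [Module A N] [Module.Finite A N] (q : PrimeSpectrum A)
    (e' : N ≃ₗ[A] A ⧸ q.asIdeal) : Good A I d e N := by
  classical
  intro hsd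
  have hdimq : ringKrullDim (A ⧸ q.asIdeal) ≤ d := by
    rw [← Module.supportDim_quotient_eq_ringKrullDim, ← Module.supportDim_eq_of_equiv e']
    exact hsd
  -- the only relevant prime is `q`
  have hkey : ∀ p : PrimeSpectrum A, ringKrullDim (A ⧸ p.asIdeal) = d →
      p ∈ Module.support A N → p = q := by
    intro p hp hpN
    rw [e'.support_eq, Module.mem_support_iff_of_finite, Ideal.annihilator_quotient] at hpN
    have hle : q ≤ p := (PrimeSpectrum.asIdeal_le_asIdeal q p).1 hpN
    rcases hle.lt_or_eq with hlt | heq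
    · exact absurd hlt (not_lt_of_dim q p d hdimq hp)
    · exact heq.symm
  have hLp : ∀ p : PrimeSpectrum A, ringKrullDim (A ⧸ p.asIdeal) = d → p ≠ q →
      L A N p = 0 := by
    intro p hp hpq
    apply L_eq_zero_of_notMem
    intro hmem
    exact hpq (hkey p hp hmem)
  have hLq : L A N q = 1 := by rw [L_congr e' q, L_quot_self]
  refine ⟨Set.Finite.subset (Set.finite_singleton q) (fun p hp => hkey p hp.1 hp.2),
    fun p hp => ?_, ?_⟩
  · by_cases hpq : p = q
    · rw [hpq, hLq]
      exact ENat.one_ne_top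
    · rw [hLp p hp hpq]
      exact ENat.zero_ne_top
  · by_cases hq : ringKrullDim (A ⧸ q.asIdeal) = d
    · have h1 : ∑ᶠ (p : PrimeSpectrum A) (_ : ringKrullDim (A ⧸ p.asIdeal) = d),
          ((L A N p).toNat : ℝ) * e p = e q := by
        rw [finsum_eq_single _ q]
        · rw [finsum_eq_if, if_pos hq, hLq]
          simp
        · intro p hpq
          rw [finsum_eq_if]
          split_ifs with hp
          · rw [hLp p hp hpq]
            simp
          · rfl
      rw [h1]
      refine (he q hq).congr (fun t => ?_)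
      rw [length_quot_congr e' I t]
    · have h1 : ∑ᶠ (p : PrimeSpectrum A) (_ : ringKrullDim (A ⧸ p.asIdeal) = d),
          ((L A N p).toNat : ℝ) * e p = 0 := by
        refine finsum_eq_zero_of_forall_eq_zero (fun p => ?_)
        rw [finsum_eq_if]
        split_ifs with hp
        · have hpq : p ≠ q := by
            intro h
            rw [h] at hp
            exact hq hp
          rw [hLp p hp hpq]
          simp
        · rfl
      rw [h1]
      -- the degree is smaller than `d`
      have hlt : Module.supportDim A N < d := lt_of_le_of_ne hsd (by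
        rw [Module.supportDim_eq_of_equiv e', Module.supportDim_quotient_eq_ringKrullDim]
        exact hq)
      have hnt : Nontrivial N := e'.toEquiv.nontrivial
      have hne : Module.supportDim A N ≠ ⊥ := Module.supportDim_ne_bot_of_nontrivial A N
      obtain ⟨d', rfl⟩ : ∃ d', d = d' + 1 := by
        rcases Nat.eq_zero_or_pos d with h0 | hpos
        · exfalso
          rw [h0] at hlt
          obtain ⟨x, hx⟩ := WithBot.ne_bot_iff_exists.1 hne
          rw [← hx] at hlt
          have : x < (0 : ℕ∞) := by exact_mod_cast hlt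
          exact not_lt_bot this
        · exact ⟨d - 1, by omega⟩
      have hle' : Module.supportDim A N ≤ d' := by
        obtain ⟨x, hx⟩ := WithBot.ne_bot_iff_exists.1 hne
        rw [← hx] at hlt ⊢
        have h2 : x < ((d' + 1 : ℕ) : ℕ∞) := by exact_mod_cast hlt
        have h3 : x ≤ (d' : ℕ∞) := by
          rw [Nat.cast_add, Nat.cast_one] at h2
          exact Order.le_of_lt_add_one h2
        exact_mod_cast h3
      have hpoly := Reduction.isPolyLike_chi A I hI N d' hle'
      have hlim := (tendsto_div_pow hpoly).const_mul (((d' + 1).factorial : ℕ) : ℝ)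
      rw [mul_zero] at hlim
      refine hlim.congr (fun t => ?_)
      rw [chi_apply, mul_div_assoc]
      push_cast
      rfl

theorem good_of_exact (hI : I ≤ IsLocalRing.maximalIdeal A ∧
      ∃ n : ℕ, IsLocalRing.maximalIdeal A ^ n ≤ I)
    (N₁ : Type u) [AddCommGroup N₁] [Module A N₁] [Module.Finite A N₁]
    (N₂ : Type u) [AddCommGroup N₂] [Module A N₂] [Module.Finite A N₂]
    (N₃ : Type u) [AddCommGroup N₃] [Module A N₃] [Module.Finite A N₃]
    (f : N₁ →ₗ[A] N₂) (g : N₂ →ₗ[A] N₃) (hf : Function.Injective f)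
    (hg : Function.Surjective g) (hfg : Function.Exact f g)
    (h1 : Good A I d e N₁) (h3 : Good A I d e N₃) : Good A I d e N₂ := by
  intro hsd
  obtain ⟨F1a, F2a, F3a⟩ := h1 ((Module.supportDim_le_of_injective f hf).trans hsd)
  obtain ⟨F1c, F2c, F3c⟩ := h3 ((Module.supportDim_le_of_surjective g hg).trans hsd)
  have hLadd : ∀ p, L A N₂ p = L A N₁ p + L A N₃ p := fun p => L_add f g hf hg hfg p
  refine ⟨Set.Finite.subset (F1a.union F1c) (fun p hp => ?_), fun p hp => ?_, ?_⟩
  · have h2 := hp.2
    rw [Module.support_of_exact hfg hf hg] at h2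
    rcases h2 with h2 | h2
    · exact Or.inl ⟨hp.1, h2⟩
    · exact Or.inr ⟨hp.1, h2⟩
  · rw [hLadd p]
    exact WithTop.add_ne_top.2 ⟨F2a p hp, F2c p hp⟩
  · have hsum : ∑ᶠ (p : PrimeSpectrum A) (_ : ringKrullDim (A ⧸ p.asIdeal) = d),
        ((L A N₂ p).toNat : ℝ) * e p =
        (∑ᶠ (p : PrimeSpectrum A) (_ : ringKrullDim (A ⧸ p.asIdeal) = d),
          ((L A N₁ p).toNat : ℝ) * e p) +
        ∑ᶠ (p : PrimeSpectrum A) (_ : ringKrullDim (A ⧸ p.asIdeal) = d),
          ((L A N₃ p).toNat : ℝ) * e p := by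
      refine finsum_cond_add _ _ _ _ (Set.Finite.subset F1a ?_) (Set.Finite.subset F1c ?_) ?_
      · intro p hp
        refine ⟨hp.1, ?_⟩
        by_contra hnot
        apply hp.2
        change ((L A N₁ p).toNat : ℝ) * e p = 0
        rw [L_eq_zero_of_notMem hnot]
        simp
      · intro p hp
        refine ⟨hp.1, ?_⟩
        by_contra hnot
        apply hp.2
        change ((L A N₃ p).toNat : ℝ) * e p = 0
        rw [L_eq_zero_of_notMem hnot]
        simp
      · intro p hp
        rw [hLadd p, ENat.toNat_add (F2a p hp) (F2c p hp)]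
        push_cast
        ring
    rw [hsum]
    exact Groth.Agent.S12211.result A I hI f g hf hg (LinearMap.exact_iff.1 hfg).symm d hsd _ _
      F3a F3c

theorem good (hI : I ≤ IsLocalRing.maximalIdeal A ∧ ∃ n : ℕ, IsLocalRing.maximalIdeal A ^ n ≤ I)
    (he : ∀ p : PrimeSpectrum A, ringKrullDim (A ⧸ p.asIdeal) = d →
      Tendsto (fun t : ℕ => (d.factorial : ℝ) *
        ((Module.length A ((A ⧸ p.asIdeal) ⧸
          (I ^ t • (⊤ : Submodule A (A ⧸ p.asIdeal))))).toNat : ℝ) / (t : ℝ) ^ d)
        atTop (nhds (e p)))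
    (M : Type u) [AddCommGroup M] [Module A M] [inst : Module.Finite A M] : Good A I d e M := by
  refine IsNoetherianRing.induction_on_isQuotientEquivQuotientPrime A
    (motive := fun N _ _ _ => Good A I d e N) inst ?_ ?_ ?_
  · intro N _ _ _ _
    exact good_of_subsingleton N
  · intro N _ _ _ q e'
    exact good_of_quotient hI.2 he N q e'
  · intro N₁ _ _ _ N₂ _ _ _ N₃ _ _ _ f g hf hg hfg h1 h3
    exact good_of_exact hI N₁ N₂ N₃ f g hf hg hfg h1 h3

end main

end Groth.Agent.Lib.Helper5.AssocFormula
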