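import Mathlib
import Groth.Agent.Lib.Helper5Reduction

/-!
# Existence and positivity of Samuel multiplicities over a Noetherian local ring (helper5)
-/

set_option autoImplicit false
universe u

namespace Groth.Agent.Lib.Helper5.Mult

open PolyLike HilbertSamuelI Filter

section analysis

theorem tendsto_factorial_B_div (d : ℕ) :
    Tendsto (fun n : ℕ => (d.factorial : ℝ) * (B d n : ℝ) / (n : ℝ) ^ d) atTop (nhds 1) := by
  have hup : Tendsto (fun n : ℕ => (1 + (d : ℝ) / n) ^ d) atTop (nhds 1) := by
    have h0 := tendsto_const_div_atTop_nhds_zero_nat (d : ℝ)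
    have h1 : Tendsto (fun n : ℕ => 1 + (d : ℝ) / n) atTop (nhds (1 + 0)) :=
      tendsto_const_nhds.add h0
    have h2 := h1.pow d
    simpa using h2
  refine tendsto_of_tendsto_of_tendsto_of_le_of_le' tendsto_const_nhds hup ?_ ?_
  · filter_upwards [eventually_ge_atTop 1] with n hn
    have hn0 : (0 : ℝ) < n := by exact_mod_cast hn
    rw [le_div_iff₀ (pow_pos hn0 d), one_mul]
    have h1 : n ^ d ≤ d.factorial * (n + d).choose d := by
      rw [← Nat.ascFactorial_eq_factorial_mul_choose]
      exact (Nat.pow_le_pow_left (Nat.le_succ n) d).trans (Nat.pow_succ_le_ascFactorial (n + 1) d)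
    rw [B_apply]
    exact_mod_cast h1
  · filter_upwards [eventually_ge_atTop 1] with n hn
    have hn0 : (0 : ℝ) < n := by exact_mod_cast hn
    have hrw : (1 + (d : ℝ) / n) ^ d = ((n : ℝ) + d) ^ d / (n : ℝ) ^ d := by
      rw [← div_pow]
      congr 1
      field_simp
    rw [hrw]
    apply div_le_div_of_nonneg_right _ (pow_pos hn0 d).le
    have h1 : d.factorial * (n + d).choose d ≤ (n + d) ^ d := by
      rw [← Nat.ascFactorial_eq_factorial_mul_choose]
      exact Nat.ascFactorial_le_pow_add n d
    rw [B_apply]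
    exact_mod_cast h1

theorem tendsto_of_eq_sum (d : ℕ) (f : ℕ → ℤ) (c : ℕ → ℤ) (N : ℕ)
    (h : ∀ n, N ≤ n → f n = ∑ k ∈ Finset.range (d + 1), c k * B k n) :
    Tendsto (fun n : ℕ => (d.factorial : ℝ) * (f n : ℝ) / (n : ℝ) ^ d) atTop
      (nhds (c d : ℝ)) := by
  obtain ⟨g, hg⟩ : ∃ g : ℕ → ℤ, g = fun n => ∑ k ∈ Finset.range d, c k * B k n := ⟨_, rfl⟩
  have hgp : IsPolyLike d g := isPolyLike_of_eq_sum c 0 (fun n _ => by rw [hg])
  have h1 := (tendsto_div_pow hgp).const_mul (d.factorial : ℝ)
  have h2 := (tendsto_factorial_B_div d).const_mul (c d : ℝ)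
  have h3 := h1.add h2
  rw [mul_zero, mul_one, zero_add] at h3
  refine h3.congr' ?_
  filter_upwards [eventually_ge_atTop N] with n hn
  rw [h n hn, Finset.sum_range_succ, hg]
  push_cast
  ring

end analysis

section loc

variable (A : Type u) [CommRing A] [IsNoetherianRing A] [IsLocalRing A]

/-- Existence of the Samuel multiplicity `e(q, M, d)` as a nonnegative integer, positive when
`dim M = d`. -/
theorem exists_mult (q : Ideal A) (hq : q ≤ IsLocalRing.maximalIdeal A)
    (hq' : ∃ N : ℕ, IsLocalRing.maximalIdeal A ^ N ≤ q)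
    (M : Type u) [AddCommGroup M] [Module A M] [Module.Finite A M] (d : ℕ)
    (hd : Module.supportDim A M ≤ d) :
    ∃ c : ℤ, Tendsto (fun n : ℕ => (d.factorial : ℝ) *
        ((Module.length A (M ⧸ (q ^ n • (⊤ : Submodule A M)))).toNat : ℝ) / (n : ℝ) ^ d) atTop
        (nhds (c : ℝ)) ∧ 0 ≤ c ∧ (Module.supportDim A M = d → 1 ≤ c) := by
  have hpoly := Reduction.isPolyLike_chi A q hq' M d hd
  obtain ⟨c, N, hc⟩ := (isPolyLike_iff (d + 1) _).1 hpoly
  have hlim := tendsto_of_eq_sum d (chi A q M) c N hc
  have hlim' : Tendsto (fun n : ℕ => (d.factorial : ℝ) *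
      ((Module.length A (M ⧸ (q ^ n • (⊤ : Submodule A M)))).toNat : ℝ) / (n : ℝ) ^ d) atTop
      (nhds (c d : ℝ)) := by
    refine hlim.congr (fun n => ?_)
    rw [chi_apply]
    push_cast
    rfl
  have h0 : (0 : ℝ) ≤ (c d : ℝ) := ge_of_tendsto' hlim' (fun n => by positivity)
  have h0' : 0 ≤ c d := by exact_mod_cast h0
  refine ⟨c d, hlim', h0', fun hdim => ?_⟩
  have hne : c d ≠ 0 := by
    intro h0''
    have h1 : IsPolyLike d (chi A q M) := isPolyLike_of_eq_sum c N (fun n hn => by
      rw [hc n hn, Finset.sum_range_succ, h0'', zero_mul, add_zero])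
    have hIq := Reduction.isMaximal_of_pow_le A q hq'
    have h2 : IsPolyLike d (HilbertSamuel.chi A M) := by
      refine h1.of_le (HilbertSamuel.exists_isPolyLike A M)
        ⟨0, fun n _ => ⟨HilbertSamuel.chi_nonneg A M n, ?_⟩⟩
      have hle : q ^ n • (⊤ : Submodule A M) ≤ Ring.jacobson A ^ n • (⊤ : Submodule A M) := by
        apply Submodule.smul_mono_left
        apply Ideal.pow_right_mono
        rw [IsLocalRing.ringJacobson_eq_maximalIdeal]
        exact hq
      exact HilbertSamuel.toNat_le (length_ne_top A q hIq M n)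
        (Module.length_le_of_surjective (Submodule.factor hle) (Submodule.factor_surjective hle))
    cases d with
    | zero =>
      have := HilbertSamuel.subsingleton_of_isPolyLike_zero A M h2
      rw [Module.supportDim_eq_bot_of_subsingleton] at hdim
      exact absurd hdim (by simp)
    | succ d' =>
      have h3 := HilbertSamuel.supportDim_le_of_isPolyLike A d' M h2
      rw [hdim] at h3
      have h4 : d' + 1 ≤ d' := by exact_mod_cast h3
      omega
  omega

end loc

end Groth.Agent.Lib.Helper5.Mult
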