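import Mathlib
import Groth.Agent.Lib.Helper5AssocFormula
import Groth.Agent.Lib.Helper5Mult
import Groth.Agent.Lib.Helper5SuppDim

/-!
# One-parameter Samuel functions and the length of `M/tM` (helper5)

For an element `t` and a module `N`, `F t N n = length (N / t^n N)`.  We prove
`F (n+1) ≤ F n + F 1`, with equality when `t` is `N`-regular and a strict inequality (for large `n`)
when some element outside `tN` is killed by a power of `t`.  Combined with the associativity
formula this compares `length (M/tM)` with the sum of the lengths of `M` at the minimal primes of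
its support, for `M` of dimension one over a Noetherian local ring.
-/

set_option autoImplicit false
universe u

namespace Groth.Agent.Lib.Helper5.ParamOne

open Filter

section analysis

theorem le_of_tendsto_div (g : ℕ → ℝ) (c a C : ℝ)
    (hc : Tendsto (fun n : ℕ => g n / (n : ℝ)) atTop (nhds c))
    (h : ∀ᶠ n : ℕ in atTop, g n ≤ C + (n : ℝ) * a) : c ≤ a := by
  have h2 : Tendsto (fun n : ℕ => C / (n : ℝ) + a) atTop (nhds (0 + a)) :=
    (tendsto_const_div_atTop_nhds_zero_nat C).add tendsto_const_nhds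
  rw [zero_add] at h2
  refine le_of_tendsto_of_tendsto hc h2 ?_
  filter_upwards [h, eventually_ge_atTop 1] with n hn h1
  have hpos : (0 : ℝ) < (n : ℝ) := by exact_mod_cast h1
  rw [div_add' _ _ _ hpos.ne', div_le_div_iff_of_pos_right hpos]
  linarith

theorem ge_of_tendsto_div (g : ℕ → ℝ) (c a C : ℝ)
    (hc : Tendsto (fun n : ℕ => g n / (n : ℝ)) atTop (nhds c))
    (h : ∀ᶠ n : ℕ in atTop, C + (n : ℝ) * a ≤ g n) : a ≤ c := by
  have h2 : Tendsto (fun n : ℕ => C / (n : ℝ) + a) atTop (nhds (0 + a)) :=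
    (tendsto_const_div_atTop_nhds_zero_nat C).add tendsto_const_nhds
  rw [zero_add] at h2
  refine le_of_tendsto_of_tendsto h2 hc ?_
  filter_upwards [h, eventually_ge_atTop 1] with n hn h1
  have hpos : (0 : ℝ) < (n : ℝ) := by exact_mod_cast h1
  rw [div_add' _ _ _ hpos.ne', div_le_div_iff_of_pos_right hpos]
  linarith

end analysis

section general

variable {B : Type u} [CommRing B]

theorem sup_pow_smul_top (J K : Ideal B) (N : Type*) [AddCommGroup N] [Module B N]
    (hK : K ≤ Module.annihilator B N) (n : ℕ) :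
    (J ⊔ K) ^ n • (⊤ : Submodule B N) = J ^ n • (⊤ : Submodule B N) := by
  induction n with
  | zero => rw [pow_zero, pow_zero]
  | succ n ih =>
    have hbot : K • (J ^ n • (⊤ : Submodule B N)) = ⊥ := by
      rw [eq_bot_iff]
      refine Submodule.smul_le.2 (fun r hr x _ => ?_)
      rw [Module.mem_annihilator.1 (hK hr) x]
      exact zero_mem _
    rw [pow_succ', Submodule.mul_smul, ih, Submodule.sup_smul, hbot, sup_bot_eq,
      ← Submodule.mul_smul, ← pow_succ']

variable (t : B) (N : Type u) [AddCommGroup N] [Module B N]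

/-- The Samuel function of `span {t}`. -/
noncomputable def F (n : ℕ) : ℕ∞ :=
  Module.length B (N ⧸ (Ideal.span {t} ^ n • (⊤ : Submodule B N)))

variable {N}

theorem mem_iff (n : ℕ) (x : N) :
    x ∈ Ideal.span {t} ^ n • (⊤ : Submodule B N) ↔ ∃ y : N, t ^ n • y = x := by
  rw [Ideal.span_singleton_pow, Submodule.ideal_span_singleton_smul,
    Submodule.mem_smul_pointwise_iff_exists]
  constructor
  · rintro ⟨y, -, hy⟩
    exact ⟨y, hy⟩
  · rintro ⟨y, hy⟩
    exact ⟨y, Submodule.mem_top, hy⟩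

variable (N)

theorem mu_aux (n : ℕ) : Ideal.span {t} ^ 1 • (⊤ : Submodule B N) ≤
    (Ideal.span {t} ^ (n + 1) • (⊤ : Submodule B N)).comap (LinearMap.lsmul B N (t ^ n)) := by
  intro x hx
  obtain ⟨y, rfl⟩ := (mem_iff t 1 x).1 hx
  rw [Submodule.mem_comap, LinearMap.lsmul_apply]
  refine (mem_iff t (n + 1) _).2 ⟨y, ?_⟩
  rw [pow_one, smul_smul, ← pow_succ]

/-- Multiplication by `t ^ n` from `N / tN` to `N / t^(n+1) N`. -/
noncomputable def mu (n : ℕ) : (N ⧸ (Ideal.span {t} ^ 1 • (⊤ : Submodule B N))) →ₗ[B]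
    (N ⧸ (Ideal.span {t} ^ (n + 1) • (⊤ : Submodule B N))) :=
  Submodule.mapQ _ _ (LinearMap.lsmul B N (t ^ n)) (mu_aux t N n)

theorem mu_mk (n : ℕ) (x : N) :
    mu t N n (Submodule.Quotient.mk x) = Submodule.Quotient.mk (t ^ n • x) := rfl

theorem pow_succ_smul_top_le (n : ℕ) : Ideal.span {t} ^ (n + 1) • (⊤ : Submodule B N) ≤
    Ideal.span {t} ^ n • (⊤ : Submodule B N) := by
  intro x hx
  obtain ⟨y, rfl⟩ := (mem_iff t (n + 1) x).1 hx
  refine (mem_iff t n _).2 ⟨t • y, ?_⟩
  rw [smul_smul, ← pow_succ]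

theorem ker_factor_eq_range_mu (n : ℕ) :
    LinearMap.ker (Submodule.factor (pow_succ_smul_top_le t N n)) =
      LinearMap.range (mu t N n) := by
  ext x
  obtain ⟨x, rfl⟩ := Submodule.Quotient.mk_surjective _ x
  have hfac : Submodule.factor (pow_succ_smul_top_le t N n) (Submodule.Quotient.mk x) =
      Submodule.Quotient.mk x := rfl
  rw [LinearMap.mem_ker, hfac, Submodule.Quotient.mk_eq_zero, mem_iff, LinearMap.mem_range]
  constructor
  · rintro ⟨y, rfl⟩
    exact ⟨Submodule.Quotient.mk y, rfl⟩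
  · rintro ⟨y, hy⟩
    obtain ⟨y, rfl⟩ := Submodule.Quotient.mk_surjective _ y
    rw [mu_mk, Submodule.Quotient.eq, mem_iff] at hy
    obtain ⟨z, hz⟩ := hy
    refine ⟨y - t • z, ?_⟩
    rw [smul_sub, smul_smul, ← pow_succ, hz]
    abel

theorem F_succ (n : ℕ) :
    F t N (n + 1) = Module.length B (LinearMap.range (mu t N n)) + F t N n := by
  unfold F
  refine Module.length_eq_add_of_exact (LinearMap.range (mu t N n)).subtype
    (Submodule.factor (pow_succ_smul_top_le t N n)) (Submodule.injective_subtype _)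
    (Submodule.factor_surjective _) ?_
  rw [LinearMap.exact_iff, Submodule.range_subtype]
  exact ker_factor_eq_range_mu t N n

theorem F_one_eq (n : ℕ) : F t N 1 = Module.length B (LinearMap.ker (mu t N n)) +
    Module.length B (LinearMap.range (mu t N n)) := by
  unfold F
  rw [← (LinearMap.quotKerEquivRange (mu t N n)).length_eq]
  exact Module.length_eq_add_of_exact (LinearMap.ker (mu t N n)).subtype
    (LinearMap.ker (mu t N n)).mkQ (Submodule.injective_subtype _) (Submodule.mkQ_surjective _)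
    (LinearMap.exact_subtype_mkQ _)

theorem F_zero : F t N 0 = 0 := by
  unfold F
  rw [Module.length_eq_zero_iff, Submodule.Quotient.subsingleton_iff, pow_zero,
    Ideal.one_eq_top, Submodule.top_smul]

theorem F_succ_le (n : ℕ) : F t N (n + 1) ≤ F t N n + F t N 1 := by
  have h1 := F_succ t N n
  have h2 := F_one_eq t N n
  rw [h1, h2, add_comm (F t N n)]
  exact add_le_add le_add_self le_rfl

theorem F_ne_top (h1 : F t N 1 ≠ ⊤) (n : ℕ) : F t N n ≠ ⊤ := by
  induction n with
  | zero =>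
    rw [F_zero]
    exact ENat.zero_ne_top
  | succ n ih =>
    exact ne_top_of_le_ne_top (WithTop.add_ne_top.2 ⟨ih, h1⟩) (F_succ_le t N n)

theorem toNat_succ_le (h1 : F t N 1 ≠ ⊤) (n : ℕ) :
    (F t N (n + 1)).toNat ≤ (F t N n).toNat + (F t N 1).toNat := by
  have h := F_succ_le t N n
  rw [← ENat.toNat_add (F_ne_top t N h1 n) h1]
  exact ENat.toNat_le_toNat h (WithTop.add_ne_top.2 ⟨F_ne_top t N h1 n, h1⟩)

theorem toNat_le (h1 : F t N 1 ≠ ⊤) (n : ℕ) : (F t N n).toNat ≤ n * (F t N 1).toNat := by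
  induction n with
  | zero =>
    rw [F_zero]
    simp
  | succ n ih =>
    have h := toNat_succ_le t N h1 n
    rw [Nat.succ_mul]
    exact le_trans h (Nat.add_le_add_right ih _)

theorem mu_injective (hreg : IsSMulRegular N t) (n : ℕ) : Function.Injective (mu t N n) := by
  rw [← LinearMap.ker_eq_bot, eq_bot_iff]
  intro x hx
  obtain ⟨x, rfl⟩ := Submodule.Quotient.mk_surjective _ x
  rw [LinearMap.mem_ker, mu_mk, Submodule.Quotient.mk_eq_zero, mem_iff] at hx
  obtain ⟨y, hy⟩ := hx
  rw [Submodule.mem_bot, Submodule.Quotient.mk_eq_zero, mem_iff]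
  refine ⟨y, ?_⟩
  rw [pow_one]
  apply (hreg.pow n)
  show t ^ n • t • y = t ^ n • x
  rw [smul_smul, ← pow_succ, hy]

theorem F_eq_of_regular (hreg : IsSMulRegular N t) (n : ℕ) : F t N n = n * F t N 1 := by
  induction n with
  | zero =>
    rw [F_zero]
    simp
  | succ n ih =>
    have h2 := F_one_eq t N n
    have hker : LinearMap.ker (mu t N n) = ⊥ := LinearMap.ker_eq_bot.2 (mu_injective t N hreg n)
    have h0 : Module.length B (LinearMap.ker (mu t N n)) = 0 := by
      rw [Module.length_eq_zero_iff, hker]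
      infer_instance
    rw [h0, zero_add] at h2
    rw [F_succ, ← h2, ih]
    push_cast
    ring

theorem toNat_eq_of_regular (hreg : IsSMulRegular N t) (n : ℕ) :
    (F t N n).toNat = n * (F t N 1).toNat := by
  rw [F_eq_of_regular t N hreg n, ENat.toNat_mul, ENat.toNat_natCast]

theorem toNat_succ_add_one_le (h1 : F t N 1 ≠ ⊤) (m1 : N)
    (hm1 : m1 ∉ Ideal.span {t} ^ 1 • (⊤ : Submodule B N)) (n : ℕ) (hn : t ^ n • m1 = 0) :
    (F t N (n + 1)).toNat + 1 ≤ (F t N n).toNat + (F t N 1).toNat := by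
  have h2 := F_one_eq t N n
  have hne : LinearMap.ker (mu t N n) ≠ ⊥ := by
    rw [Submodule.ne_bot_iff]
    refine ⟨Submodule.Quotient.mk m1, ?_, fun h => hm1 ((Submodule.Quotient.mk_eq_zero _).1 h)⟩
    rw [LinearMap.mem_ker, mu_mk, hn, Submodule.Quotient.mk_zero]
  have hnt : Nontrivial (LinearMap.ker (mu t N n)) := Submodule.nontrivial_iff_ne_bot.2 hne
  have hk : 1 ≤ Module.length B (LinearMap.ker (mu t N n)) := by
    rw [Order.one_le_iff_ne_zero, Ne, Module.length_eq_zero_iff, not_subsingleton_iff_nontrivial]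
    exact hnt
  have h3 : F t N (n + 1) + 1 ≤ F t N n + F t N 1 := by
    rw [F_succ, h2, add_comm (F t N n), add_comm _ (1 : ℕ∞), ← add_assoc]
    exact add_le_add (add_le_add hk le_rfl) le_rfl
  have e1 := ENat.natCast_toNat (F_ne_top t N h1 (n + 1))
  have e2 := ENat.natCast_toNat (F_ne_top t N h1 n)
  have e3 := ENat.natCast_toNat h1
  rw [← e1, ← e2, ← e3] at h3
  exact_mod_cast h3

theorem toNat_add_le (h1 : F t N 1 ≠ ⊤) (m1 : N)
    (hm1 : m1 ∉ Ideal.span {t} ^ 1 • (⊤ : Submodule B N)) (n0 : ℕ) (hn0 : t ^ n0 • m1 = 0)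
    (k : ℕ) : (F t N (n0 + k)).toNat + k ≤ (F t N n0).toNat + k * (F t N 1).toNat := by
  induction k with
  | zero => simp
  | succ k ih =>
    have hn : t ^ (n0 + k) • m1 = 0 := by rw [pow_add, mul_comm, mul_smul, hn0, smul_zero]
    have h := toNat_succ_add_one_le t N h1 m1 hm1 (n0 + k) hn
    rw [Nat.succ_mul]
    show (F t N (n0 + k + 1)).toNat + (k + 1) ≤ _
    omega

/-- The `t`-power torsion submodule. -/
def tors : Submodule B N where
  carrier := {x | ∃ n : ℕ, t ^ n • x = 0}
  add_mem' := by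
    rintro a b ⟨n, hn⟩ ⟨m, hm⟩
    refine ⟨n + m, ?_⟩
    have ha : t ^ (n + m) • a = 0 := by rw [pow_add, mul_comm, mul_smul, hn, smul_zero]
    have hb : t ^ (n + m) • b = 0 := by rw [pow_add, mul_smul, hm, smul_zero]
    rw [smul_add, ha, hb, add_zero]
  zero_mem' := ⟨0, smul_zero _⟩
  smul_mem' := by
    rintro c a ⟨n, hn⟩
    exact ⟨n, by rw [smul_comm, hn, smul_zero]⟩

theorem mem_tors (x : N) : x ∈ tors t N ↔ ∃ n : ℕ, t ^ n • x = 0 := Iff.rfl

theorem exists_witness [IsNoetherianRing B] [IsLocalRing B] [Module.Finite B N]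
    (ht : t ∈ IsLocalRing.maximalIdeal B) (hreg : ¬ IsSMulRegular N t) :
    ∃ (m1 : N) (n0 : ℕ), m1 ∉ Ideal.span {t} ^ 1 • (⊤ : Submodule B N) ∧ t ^ n0 • m1 = 0 := by
  by_contra hcon
  have hall : ∀ (x : N) (n : ℕ), t ^ n • x = 0 →
      x ∈ Ideal.span {t} ^ 1 • (⊤ : Submodule B N) := by
    intro x n hx
    by_contra hx'
    exact hcon ⟨x, n, hx', hx⟩
  have hle : tors t N ≤ Ideal.span {t} • tors t N := by
    intro x hx
    obtain ⟨n, hn⟩ := (mem_tors t N x).1 hx
    obtain ⟨y, rfl⟩ := (mem_iff t 1 x).1 (hall x n hn)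
    rw [pow_one]
    refine Submodule.smul_mem_smul (Ideal.mem_span_singleton_self t)
      ((mem_tors t N y).2 ⟨n + 1, ?_⟩)
    rw [pow_succ, mul_smul]
    rw [pow_one] at hn
    exact hn
  have hjac : Ideal.span {t} ≤ Ideal.jacobson (⊥ : Ideal B) := by
    rw [IsLocalRing.jacobson_eq_maximalIdeal ⊥ bot_ne_top]
    exact (Ideal.span_singleton_le_iff_mem _).2 ht
  have hbot := Submodule.eq_bot_of_le_smul_of_le_jacobson_bot (Ideal.span {t}) (tors t N)
    (IsNoetherian.noetherian _) hle hjac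
  apply hreg
  intro a b hab
  have hmem : a - b ∈ tors t N := by
    refine (mem_tors t N _).2 ⟨1, ?_⟩
    rw [pow_one, smul_sub]
    exact sub_eq_zero.2 hab
  rw [hbot, Submodule.mem_bot] at hmem
  exact sub_eq_zero.1 hmem

end general

section quot

variable {B : Type u} [CommRing B] (t : B) (p : Ideal B)

/-- The canonical surjection `B → (B/p)/t(B/p)`. -/
noncomputable def phi : B →ₗ[B]
    ((B ⧸ p) ⧸ (Ideal.span {t} ^ 1 • (⊤ : Submodule B (B ⧸ p)))) :=
  (Submodule.mkQ _).comp (Submodule.mkQ p)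

theorem phi_apply (x : B) :
    phi t p x = Submodule.Quotient.mk (Submodule.Quotient.mk x) := rfl

theorem ker_phi : LinearMap.ker (phi t p) = p ⊔ Ideal.span {t} := by
  ext x
  rw [LinearMap.mem_ker, phi_apply, Submodule.Quotient.mk_eq_zero, mem_iff, Submodule.mem_sup]
  constructor
  · rintro ⟨y, hy⟩
    obtain ⟨y, rfl⟩ := Submodule.Quotient.mk_surjective _ y
    rw [pow_one, ← Submodule.Quotient.mk_smul, Submodule.Quotient.eq] at hy
    refine ⟨x - t • y, ?_, t • y, ?_, by abel⟩
    · have h := p.neg_mem hy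
      rwa [neg_sub] at h
    · rw [smul_eq_mul]
      exact Ideal.mul_mem_right _ _ (Ideal.mem_span_singleton_self t)
  · rintro ⟨a, ha, b, hb, rfl⟩
    obtain ⟨c, rfl⟩ := Ideal.mem_span_singleton'.1 hb
    refine ⟨Submodule.Quotient.mk c, ?_⟩
    rw [pow_one, ← Submodule.Quotient.mk_smul, Submodule.Quotient.eq]
    have h : t • c - (a + c * t) = -a := by
      rw [smul_eq_mul]
      ring
    rw [h]
    exact p.neg_mem ha

theorem F_quot_one_eq :
    F t (B ⧸ p) 1 = Module.length B (B ⧸ (p ⊔ Ideal.span {t})) := by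
  unfold F
  have hsurj : Function.Surjective (phi t p) :=
    (Submodule.mkQ_surjective _).comp (Submodule.mkQ_surjective _)
  exact ((Submodule.quotEquivOfEq _ _ (ker_phi t p)).symm.trans
    ((phi t p).quotKerEquivOfSurjective hsurj)).length_eq.symm

theorem F_quot_one_eq_one_iff [IsLocalRing B] :
    F t (B ⧸ p) 1 = 1 ↔ p ⊔ Ideal.span {t} = IsLocalRing.maximalIdeal B := by
  rw [F_quot_one_eq, Module.length_eq_one_iff, isSimpleModule_iff_isCoatom, ← Ideal.isMaximal_def]
  constructor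
  · intro h
    exact IsLocalRing.eq_maximalIdeal h
  · intro h
    rw [h]
    exact IsLocalRing.maximalIdeal.isMaximal B

theorem map_eq_iff [IsLocalRing B] (hp : p ≤ IsLocalRing.maximalIdeal B) :
    Ideal.map (Ideal.Quotient.mk p) (IsLocalRing.maximalIdeal B) =
        Ideal.span {Ideal.Quotient.mk p t} ↔
      p ⊔ Ideal.span {t} = IsLocalRing.maximalIdeal B := by
  have hspan : Ideal.span {Ideal.Quotient.mk p t} =
      Ideal.map (Ideal.Quotient.mk p) (Ideal.span {t}) := by
    rw [Ideal.map_span, Set.image_singleton]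
  rw [hspan]
  constructor
  · intro h
    have h2 := congrArg (Ideal.comap (Ideal.Quotient.mk p)) h
    rw [Ideal.comap_map_of_surjective _ Ideal.Quotient.mk_surjective,
      Ideal.comap_map_of_surjective _ Ideal.Quotient.mk_surjective, ← RingHom.ker_eq_comap_bot,
      Ideal.mk_ker, sup_eq_left.2 hp] at h2
    rw [sup_comm]
    exact h2.symm
  · intro h
    rw [← h, Ideal.map_sup, Ideal.map_quotient_self, bot_sup_eq]

theorem isSMulRegular_quot [hp : p.IsPrime] (ht : t ∉ p) : IsSMulRegular (B ⧸ p) t := by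
  intro x y hxy
  obtain ⟨x, rfl⟩ := Submodule.Quotient.mk_surjective _ x
  obtain ⟨y, rfl⟩ := Submodule.Quotient.mk_surjective _ y
  have h : t • (Submodule.Quotient.mk x : B ⧸ p) = t • (Submodule.Quotient.mk y : B ⧸ p) := hxy
  rw [← Submodule.Quotient.mk_smul, ← Submodule.Quotient.mk_smul, Submodule.Quotient.eq,
    ← smul_sub, smul_eq_mul] at h
  rw [Submodule.Quotient.eq]
  exact (hp.mem_or_mem h).resolve_left ht

end quot

section main

variable {B : Type u} [CommRing B] [IsNoetherianRing B] [IsLocalRing B] (t : B)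
  (M : Type u) [AddCommGroup M] [Module B M] [Module.Finite B M]

theorem minimalPrime_ne_maximal (hdim : 0 < Module.supportDim B M) (p : Ideal B)
    (hp : p ∈ (Module.annihilator B M).minimalPrimes) : p ≠ IsLocalRing.maximalIdeal B := by
  intro hpm
  have h0 : Module.supportDim B M ≤ 0 := by
    apply supportDim_le_zero_of_forall_isMaximal
    intro q hq
    have hK : Module.annihilator B M ≤ q.asIdeal := Module.annihilator_le_of_mem_support hq
    have hle : q.asIdeal ≤ p := by
      rw [hpm]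
      exact IsLocalRing.le_maximalIdeal q.2.ne_top
    have hge : p ≤ q.asIdeal := hp.2 ⟨q.2, hK⟩ hle
    have heq : q.asIdeal = IsLocalRing.maximalIdeal B := by
      rw [← hpm]
      exact le_antisymm hle hge
    rw [heq]
    exact IsLocalRing.maximalIdeal.isMaximal B
  exact absurd hdim (not_lt.2 h0)

theorem supportDim_le_one (ht : t ∈ IsLocalRing.maximalIdeal B)
    (hfin : Module.length B (M ⧸ (Ideal.span {t} • (⊤ : Submodule B M))) ≠ ⊤) :
    Module.supportDim B M ≤ ((1 : ℕ) : WithBot ℕ∞) := by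
  have h1 := supportDim_le_supportDim_quot_ofList_add_length (A := B) (M := M) [t] (by
    intro r hr
    rw [List.mem_singleton] at hr
    rw [hr, IsLocalRing.ringJacobson_eq_maximalIdeal]
    exact ht)
  rw [Ideal.ofList_singleton] at h1
  have h2 : Module.supportDim B (M ⧸ (Ideal.span {t} • (⊤ : Submodule B M))) ≤ 0 :=
    supportDim_le_zero_of_isFiniteLength (Module.length_ne_top_iff.1 hfin)
  refine h1.trans ?_
  rw [List.length_singleton]
  calc _ ≤ (0 : WithBot ℕ∞) + ((1 : ℕ) : WithBot ℕ∞) := add_le_add h2 le_rfl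
    _ = _ := zero_add _

theorem dim_quot_minimalPrime (hdim : 0 < Module.supportDim B M)
    (h1 : Module.supportDim B M ≤ ((1 : ℕ) : WithBot ℕ∞)) (q : PrimeSpectrum B)
    (hq : q.asIdeal ∈ (Module.annihilator B M).minimalPrimes) :
    ringKrullDim (B ⧸ q.asIdeal) = ((1 : ℕ) : WithBot ℕ∞) := by
  have hlt : q < IsLocalRing.closedPoint B := by
    rw [← PrimeSpectrum.asIdeal_lt_asIdeal]
    exact lt_of_le_of_ne (IsLocalRing.le_maximalIdeal q.2.ne_top)
      (minimalPrime_ne_maximal M hdim _ hq)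
  have h2 := Order.coheight_add_one_le hlt
  have h3 : (1 : ℕ∞) ≤ Order.coheight q := le_trans le_add_self h2
  have h4 : ringKrullDim (B ⧸ q.asIdeal) ≤ ((1 : ℕ) : WithBot ℕ∞) := by
    refine le_trans ?_ h1
    rw [Module.supportDim_eq_ringKrullDim_quotient_annihilator]
    exact ringKrullDim_le_of_surjective (Ideal.Quotient.factor hq.1.2)
      (Ideal.Quotient.factor_surjective _)
  rw [AssocFormula.ringKrullDim_quot_eq_coheight] at h4 ⊢
  have h5 : Order.coheight q ≤ ((1 : ℕ) : ℕ∞) := by exact_mod_cast h4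
  have h6 : Order.coheight q = ((1 : ℕ) : ℕ∞) := le_antisymm h5 (by exact_mod_cast h3)
  rw [h6]
  rfl

theorem mem_minimalPrimes_of_dim (hdim : 0 < Module.supportDim B M)
    (h1 : Module.supportDim B M ≤ ((1 : ℕ) : WithBot ℕ∞)) (q : PrimeSpectrum B)
    (hq : q ∈ Module.support B M)
    (hd : ringKrullDim (B ⧸ q.asIdeal) = ((1 : ℕ) : WithBot ℕ∞)) :
    q.asIdeal ∈ (Module.annihilator B M).minimalPrimes := by
  have hK : Module.annihilator B M ≤ q.asIdeal := Module.annihilator_le_of_mem_support hq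
  obtain ⟨p, hp, hpq⟩ := Ideal.exists_minimalPrimes_le hK
  have hpd := dim_quot_minimalPrime M hdim h1 ⟨p, hp.1.1⟩ hp
  have hnlt := AssocFormula.not_lt_of_dim ⟨p, hp.1.1⟩ q 1 hpd.le hd
  have heq : p = q.asIdeal := by
    by_contra hne
    exact hnlt ((PrimeSpectrum.asIdeal_lt_asIdeal _ _).1 (lt_of_le_of_ne hpq hne))
  rw [← heq]
  exact hp

theorem primary (ht : t ∈ IsLocalRing.maximalIdeal B) (hdim : 0 < Module.supportDim B M)
    (hfin : Module.length B (M ⧸ (Ideal.span {t} • (⊤ : Submodule B M))) ≠ ⊤) :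
    Ideal.span {t} ⊔ Module.annihilator B M ≤ IsLocalRing.maximalIdeal B ∧
      ∃ n : ℕ, IsLocalRing.maximalIdeal B ^ n ≤ Ideal.span {t} ⊔ Module.annihilator B M := by
  have hM : Nontrivial M := by
    rw [← Module.supportDim_ne_bot_iff_nontrivial B M]
    exact ne_bot_of_gt hdim
  have hKm : Module.annihilator B M ≤ IsLocalRing.maximalIdeal B := by
    apply IsLocalRing.le_maximalIdeal
    intro h
    rw [Module.annihilator_eq_top_iff] at h
    exact not_subsingleton M h
  have hIm : Ideal.span {t} ⊔ Module.annihilator B M ≤ IsLocalRing.maximalIdeal B :=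
    sup_le ((Ideal.span_singleton_le_iff_mem _).2 ht) hKm
  refine ⟨hIm, ?_⟩
  have hmax : ∀ P : Ideal B, P.IsPrime → Ideal.span {t} ⊔ Module.annihilator B M ≤ P →
      P = IsLocalRing.maximalIdeal B := by
    intro P hP hIP
    have hmem : (⟨P, hP⟩ : PrimeSpectrum B) ∈
        Module.support B (M ⧸ (Ideal.span {t} • (⊤ : Submodule B M))) := by
      rw [Module.support_quotient]
      refine ⟨Module.mem_support_iff_of_finite.2 (le_trans le_sup_right hIP), ?_⟩
      rw [PrimeSpectrum.mem_zeroLocus]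
      exact fun x hx => hIP (Ideal.mem_sup_left hx)
    haveI := hP
    have h := isMaximal_of_annihilator_le_of_isFiniteLength (Module.length_ne_top_iff.1 hfin) P
      (Module.annihilator_le_of_mem_support hmem)
    exact IsLocalRing.eq_maximalIdeal h
  have hrad : IsLocalRing.maximalIdeal B ≤
      (Ideal.span {t} ⊔ Module.annihilator B M).radical := by
    rw [Ideal.radical_eq_sInf]
    refine le_sInf (fun P hP => ?_)
    rw [hmax P hP.2 hP.1]
  exact Ideal.exists_pow_le_of_le_radical_of_fg hrad (IsNoetherian.noetherian _)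

/-- The point of the spectrum given by a minimal prime of the annihilator. -/
def gp (p : (Module.annihilator B M).minimalPrimes) : PrimeSpectrum B := ⟨p.1, p.2.1.1⟩

theorem gp_injective : Function.Injective (gp (B := B) M) := by
  intro p p' h
  exact Subtype.ext (congrArg PrimeSpectrum.asIdeal h)

theorem notMem_minimalPrime (ht : t ∈ IsLocalRing.maximalIdeal B)
    (hdim : 0 < Module.supportDim B M)
    (hfin : Module.length B (M ⧸ (Ideal.span {t} • (⊤ : Submodule B M))) ≠ ⊤) (p : Ideal B)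
    (hp : p ∈ (Module.annihilator B M).minimalPrimes) : t ∉ p := by
  intro htp
  obtain ⟨-, hI'⟩ := primary t M ht hdim hfin
  have hle : Ideal.span {t} ⊔ Module.annihilator B M ≤ p :=
    sup_le ((Ideal.span_singleton_le_iff_mem _).2 htp) hp.1.2
  have hmax := Reduction.isMaximal_of_pow_le B _ hI' p hp.1.1 hle
  exact minimalPrime_ne_maximal M hdim p hp (IsLocalRing.eq_maximalIdeal hmax)

theorem core (ht : t ∈ IsLocalRing.maximalIdeal B) (hdim : 0 < Module.supportDim B M)
    (hfin : Module.length B (M ⧸ (Ideal.span {t} • (⊤ : Submodule B M))) ≠ ⊤) :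
    ∃ c : ℝ, Tendsto (fun n : ℕ => ((F t M n).toNat : ℝ) / (n : ℝ)) atTop (nhds c) ∧
      c = (∑ᶠ p : (Module.annihilator B M).minimalPrimes,
        ((AssocFormula.L B M (gp M p)).toNat : ℝ) * ((F t (B ⧸ p.1) 1).toNat : ℝ)) ∧
      (∀ p : (Module.annihilator B M).minimalPrimes, AssocFormula.L B M (gp M p) ≠ ⊤) ∧
      (∀ p : (Module.annihilator B M).minimalPrimes, F t (B ⧸ p.1) 1 ≠ ⊤) := by
  classical
  obtain ⟨hIm, hI'⟩ := primary t M ht hdim hfin
  have hsd1 := supportDim_le_one t M ht hfin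
  obtain ⟨I, hIdef⟩ : ∃ I : Ideal B, I = Ideal.span {t} ⊔ Module.annihilator B M := ⟨_, rfl⟩
  rw [← hIdef] at hIm hI'
  obtain ⟨d, hd⟩ : ∃ d : ℕ, d = 1 := ⟨_, rfl⟩
  rw [← hd] at hsd1
  have hImax : ∀ P : Ideal B, P.IsPrime → I ≤ P → P.IsMaximal :=
    Reduction.isMaximal_of_pow_le B I hI'
  -- multiplicities of the `B ⧸ q`
  have hex : ∀ q : PrimeSpectrum B, ∃ c : ℤ, ringKrullDim (B ⧸ q.asIdeal) = d →
      Tendsto (fun n : ℕ => (d.factorial : ℝ) *
        ((Module.length B ((B ⧸ q.asIdeal) ⧸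
          (I ^ n • (⊤ : Submodule B (B ⧸ q.asIdeal))))).toNat : ℝ) / (n : ℝ) ^ d)
        atTop (nhds (c : ℝ)) := by
    intro q
    by_cases hq : ringKrullDim (B ⧸ q.asIdeal) = d
    · have hsd : Module.supportDim B (B ⧸ q.asIdeal) = d := by
        rw [Module.supportDim_quotient_eq_ringKrullDim, hq]
      obtain ⟨c, h1, -, -⟩ := Mult.exists_mult B I hIm hI' (B ⧸ q.asIdeal) d hsd.le
      exact ⟨c, fun _ => h1⟩
    · exact ⟨0, fun h => absurd h hq⟩
  choose e he using hex
  obtain ⟨cM, hcM, -, -⟩ := Mult.exists_mult B I hIm hI' M d hsd1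
  obtain ⟨F1, F2, F3⟩ := AssocFormula.good (A := B) (I := I) (d := d)
    (e := fun q => (e q : ℝ)) ⟨hIm, hI'⟩ (fun q hq => he q hq) M hsd1
  have hEq := tendsto_nhds_unique hcM F3
  have hFM : ∀ n : ℕ, Module.length B (M ⧸ (I ^ n • (⊤ : Submodule B M))) = F t M n := by
    intro n
    rw [hIdef, sup_pow_smul_top _ _ M le_rfl n]
    rfl
  have hcM' : Tendsto (fun n : ℕ => ((F t M n).toNat : ℝ) / (n : ℝ)) atTop
      (nhds (cM : ℝ)) := by
    refine hcM.congr (fun n => ?_)
    rw [hFM n, hd]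
    simp
  have hprops : ∀ p : (Module.annihilator B M).minimalPrimes,
      ringKrullDim (B ⧸ (gp M p).asIdeal) = d := by
    intro p
    rw [hd]
    exact dim_quot_minimalPrime M hdim (hd ▸ hsd1) (gp M p) p.2
  have hFp : ∀ (p : (Module.annihilator B M).minimalPrimes) (n : ℕ),
      Module.length B ((B ⧸ p.1) ⧸ (I ^ n • (⊤ : Submodule B (B ⧸ p.1)))) =
        F t (B ⧸ p.1) n := by
    intro p n
    have hKp : Module.annihilator B M ≤ Module.annihilator B (B ⧸ p.1) := by
      rw [Ideal.annihilator_quotient]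
      exact p.2.1.2
    rw [hIdef, sup_pow_smul_top _ _ (B ⧸ p.1) hKp n]
    rfl
  have hFp1 : ∀ p : (Module.annihilator B M).minimalPrimes, F t (B ⧸ p.1) 1 ≠ ⊤ := by
    intro p
    rw [← hFp p 1]
    exact HilbertSamuelI.length_ne_top B I hImax (B ⧸ p.1) 1
  have he' : ∀ p : (Module.annihilator B M).minimalPrimes,
      (e (gp M p) : ℝ) = ((F t (B ⧸ p.1) 1).toNat : ℝ) := by
    intro p
    have hlim : Tendsto (fun n : ℕ => (d.factorial : ℝ) *
        ((Module.length B ((B ⧸ p.1) ⧸
          (I ^ n • (⊤ : Submodule B (B ⧸ p.1))))).toNat : ℝ) / (n : ℝ) ^ d)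
        atTop (nhds (e (gp M p) : ℝ)) := he (gp M p) (hprops p)
    have htp : t ∉ p.1 := notMem_minimalPrime t M ht hdim hfin p.1 p.2
    haveI : p.1.IsPrime := p.2.1.1
    have hreg := isSMulRegular_quot t p.1 htp
    have hlim' : Tendsto (fun n : ℕ => ((F t (B ⧸ p.1) n).toNat : ℝ) / (n : ℝ)) atTop
        (nhds (e (gp M p) : ℝ)) := by
      refine hlim.congr (fun n => ?_)
      rw [hFp p n, hd]
      simp
    have hconst : Tendsto (fun n : ℕ => ((F t (B ⧸ p.1) n).toNat : ℝ) / (n : ℝ)) atTop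
        (nhds ((F t (B ⧸ p.1) 1).toNat : ℝ)) := by
      refine tendsto_const_nhds.congr' ?_
      filter_upwards [eventually_ge_atTop 1] with n hn
      rw [toNat_eq_of_regular t (B ⧸ p.1) hreg n]
      have hn0 : (n : ℝ) ≠ 0 := by
        have : (0 : ℝ) < (n : ℝ) := by exact_mod_cast hn
        exact this.ne'
      push_cast
      field_simp
    exact tendsto_nhds_unique hlim' hconst
  have hsum : (∑ᶠ (q : PrimeSpectrum B) (_ : ringKrullDim (B ⧸ q.asIdeal) = d),
        ((AssocFormula.L B M q).toNat : ℝ) * (e q : ℝ)) =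
      ∑ᶠ p : (Module.annihilator B M).minimalPrimes,
        ((AssocFormula.L B M (gp M p)).toNat : ℝ) * ((F t (B ⧸ p.1) 1).toNat : ℝ) := by
    have h1 : (∑ᶠ (q : PrimeSpectrum B) (_ : ringKrullDim (B ⧸ q.asIdeal) = d),
        ((AssocFormula.L B M q).toNat : ℝ) * (e q : ℝ)) =
        ∑ᶠ q ∈ {q : PrimeSpectrum B | ringKrullDim (B ⧸ q.asIdeal) = d},
          ((AssocFormula.L B M q).toNat : ℝ) * (e q : ℝ) := rfl
    have hiff : ∀ q ∈ Function.support (fun q : PrimeSpectrum B =>
        ((AssocFormula.L B M q).toNat : ℝ) * (e q : ℝ)),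
        q ∈ {q : PrimeSpectrum B | ringKrullDim (B ⧸ q.asIdeal) = d} ↔
          q ∈ Set.range (gp M) := by
      intro q hq
      rw [Function.mem_support] at hq
      constructor
      · intro hqd
        have hqs : q ∈ Module.support B M := by
          by_contra hns
          apply hq
          rw [AssocFormula.L_eq_zero_of_notMem hns]
          simp
        have hqd' : ringKrullDim (B ⧸ q.asIdeal) = ((1 : ℕ) : WithBot ℕ∞) := by
          rw [← hd]
          exact hqd
        exact ⟨⟨q.asIdeal, mem_minimalPrimes_of_dim M hdim (hd ▸ hsd1) q hqs hqd'⟩, rfl⟩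
      · rintro ⟨p, rfl⟩
        exact hprops p
    rw [h1, finsum_mem_inter_support_eq' _ _ (Set.range (gp M)) hiff,
      finsum_mem_range (gp_injective M)]
    exact finsum_congr (fun p => by rw [he' p])
  refine ⟨(cM : ℝ), hcM', ?_, fun p => F2 (gp M p) (hprops p), hFp1⟩
  rw [hEq]
  exact hsum

theorem main (ht : t ∈ IsLocalRing.maximalIdeal B) (hdim : 0 < Module.supportDim B M)
    (hfin : Module.length B (M ⧸ (Ideal.span {t} • (⊤ : Submodule B M))) ≠ ⊤) :
    (∑ᶠ p : (Module.annihilator B M).minimalPrimes,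
        haveI : p.1.IsPrime := p.2.1.1
        Module.length (Localization.AtPrime p.1) (LocalizedModule p.1.primeCompl M)) ≤
      Module.length B (M ⧸ (Ideal.span {t} • (⊤ : Submodule B M))) ∧
    ((∑ᶠ p : (Module.annihilator B M).minimalPrimes,
        haveI : p.1.IsPrime := p.2.1.1
        Module.length (Localization.AtPrime p.1) (LocalizedModule p.1.primeCompl M)) =
      Module.length B (M ⧸ (Ideal.span {t} • (⊤ : Submodule B M))) ↔
    IsSMulRegular M t ∧
      ∀ p : (Module.annihilator B M).minimalPrimes,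
        Ideal.map (Ideal.Quotient.mk p.1) (IsLocalRing.maximalIdeal B) =
          Ideal.span {Ideal.Quotient.mk p.1 t}) := by
  classical
  obtain ⟨c, hc, hcsum, hLtop, hFtop⟩ := core t M ht hdim hfin
  have hM1 : F t M 1 ≠ ⊤ := by
    unfold F
    rw [pow_one]
    exact hfin
  haveI : Fintype (Module.annihilator B M).minimalPrimes :=
    (Ideal.finite_minimalPrimes_of_isNoetherianRing B _).fintype
  rw [finsum_eq_sum_of_fintype] at hcsum
  obtain ⟨nn, hnn⟩ : ∃ nn : (Module.annihilator B M).minimalPrimes → ℕ,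
      nn = fun p => (AssocFormula.L B M (gp M p)).toNat := ⟨_, rfl⟩
  obtain ⟨aa, haa⟩ : ∃ aa : (Module.annihilator B M).minimalPrimes → ℕ,
      aa = fun p => (F t (B ⧸ p.1) 1).toNat := ⟨_, rfl⟩
  obtain ⟨lam, hlam⟩ : ∃ lam : ℕ, lam = (F t M 1).toNat := ⟨_, rfl⟩
  have hL : ∀ p, AssocFormula.L B M (gp M p) = (nn p : ℕ∞) := by
    intro p
    rw [hnn]
    exact (ENat.natCast_toNat (hLtop p)).symm
  have hFa : ∀ p : (Module.annihilator B M).minimalPrimes, F t (B ⧸ p.1) 1 = (aa p : ℕ∞) := by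
    intro p
    rw [haa]
    exact (ENat.natCast_toNat (hFtop p)).symm
  have hLam : Module.length B (M ⧸ (Ideal.span {t} • (⊤ : Submodule B M))) = (lam : ℕ∞) := by
    rw [hlam, ENat.natCast_toNat hM1]
    unfold F
    rw [pow_one]
  have hpm : ∀ p : (Module.annihilator B M).minimalPrimes,
      p.1 ≤ IsLocalRing.maximalIdeal B := fun p => IsLocalRing.le_maximalIdeal p.2.1.1.ne_top
  have hnn1 : ∀ p, 1 ≤ nn p := by
    intro p
    have hsupp : gp M p ∈ Module.support B M := Module.mem_support_iff_of_finite.2 p.2.1.2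
    have hne : AssocFormula.L B M (gp M p) ≠ 0 := by
      unfold AssocFormula.L
      rw [Ne, Module.length_eq_zero_iff, not_subsingleton_iff_nontrivial]
      exact Module.mem_support_iff.1 hsupp
    have h2 := ENat.toNat_pos hne (hLtop p)
    rw [hnn]
    exact h2
  have haa1 : ∀ p, 1 ≤ aa p := by
    intro p
    have hne : F t (B ⧸ p.1) 1 ≠ 0 := by
      rw [F_quot_one_eq, Ne, Module.length_eq_zero_iff, Ideal.Quotient.subsingleton_iff]
      intro htop
      have hle : p.1 ⊔ Ideal.span {t} ≤ IsLocalRing.maximalIdeal B :=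
        sup_le (hpm p) ((Ideal.span_singleton_le_iff_mem _).2 ht)
      rw [htop] at hle
      exact (IsLocalRing.maximalIdeal.isMaximal B).ne_top (top_le_iff.1 hle)
    have h2 := ENat.toNat_pos hne (hFtop p)
    rw [haa]
    exact h2
  have haa_iff : ∀ p : (Module.annihilator B M).minimalPrimes, aa p = 1 ↔
      Ideal.map (Ideal.Quotient.mk p.1) (IsLocalRing.maximalIdeal B) =
        Ideal.span {Ideal.Quotient.mk p.1 t} := by
    intro p
    rw [map_eq_iff t p.1 (hpm p), ← F_quot_one_eq_one_iff, hFa p]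
    exact Nat.cast_eq_one.symm
  have hc_eq : c = ((∑ p, nn p * aa p : ℕ) : ℝ) := by
    rw [hcsum, hnn, haa]
    push_cast
    rfl
  have hc_le : c ≤ (lam : ℝ) := by
    refine le_of_tendsto_div (fun n => ((F t M n).toNat : ℝ)) c lam 0 hc
      (Filter.Eventually.of_forall (fun n => ?_))
    have h := toNat_le t M hM1 n
    rw [← hlam] at h
    have h' : ((F t M n).toNat : ℝ) ≤ (n : ℝ) * (lam : ℝ) := by exact_mod_cast h
    linarith
  have hreg_eq : IsSMulRegular M t → c = (lam : ℝ) := by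
    intro hreg
    refine le_antisymm hc_le ?_
    refine ge_of_tendsto_div (fun n => ((F t M n).toNat : ℝ)) c lam 0 hc
      (Filter.Eventually.of_forall (fun n => ?_))
    have h := toNat_eq_of_regular t M hreg n
    rw [← hlam] at h
    have h' : ((F t M n).toNat : ℝ) = (n : ℝ) * (lam : ℝ) := by exact_mod_cast h
    linarith
  have hnreg : ¬ IsSMulRegular M t → c ≤ (lam : ℝ) - 1 := by
    intro hreg
    obtain ⟨m1, n0, hm1, hn0⟩ := exists_witness t M ht hreg
    refine le_of_tendsto_div (fun n => ((F t M n).toNat : ℝ)) c ((lam : ℝ) - 1)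
      (((F t M n0).toNat : ℝ) - (n0 : ℝ) * ((lam : ℝ) - 1)) hc ?_
    filter_upwards [eventually_ge_atTop n0] with n hn
    obtain ⟨k, rfl⟩ := Nat.exists_eq_add_of_le hn
    have h := toNat_add_le t M hM1 m1 hm1 n0 hn0 k
    rw [← hlam] at h
    have h' : ((F t M (n0 + k)).toNat : ℝ) + (k : ℝ) ≤
        ((F t M n0).toNat : ℝ) + (k : ℝ) * (lam : ℝ) := by exact_mod_cast h
    push_cast
    linarith
  have hlhs : (∑ᶠ p : (Module.annihilator B M).minimalPrimes,
        haveI : p.1.IsPrime := p.2.1.1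
        Module.length (Localization.AtPrime p.1) (LocalizedModule p.1.primeCompl M)) =
      ((∑ p, nn p : ℕ) : ℕ∞) := by
    rw [finsum_eq_sum_of_fintype, Nat.cast_sum]
    exact Finset.sum_congr rfl (fun p _ => hL p)
  rw [hlhs, hLam]
  have key1 : ∑ p, nn p ≤ ∑ p, nn p * aa p :=
    Finset.sum_le_sum (fun p _ => Nat.le_mul_of_pos_right _ (haa1 p))
  have key2 : (∑ p, nn p * aa p : ℕ) ≤ lam := by
    have h : ((∑ p, nn p * aa p : ℕ) : ℝ) ≤ (lam : ℝ) := by
      rw [← hc_eq]
      exact hc_le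
    exact_mod_cast h
  refine ⟨by exact_mod_cast key1.trans key2, ?_⟩
  rw [Nat.cast_inj]
  constructor
  · intro heq
    have h1 : ∑ p, nn p = ∑ p, nn p * aa p := le_antisymm key1 (heq ▸ key2)
    have h2 : (∑ p, nn p * aa p : ℕ) = lam := by omega
    refine ⟨?_, ?_⟩
    · by_contra hreg
      have h3 := hnreg hreg
      rw [hc_eq, h2] at h3
      linarith
    · intro p
      rw [← haa_iff p]
      have h3 := (Finset.sum_eq_sum_iff_of_le
        (fun p _ => Nat.le_mul_of_pos_right (nn p) (haa1 p))).1 h1 p (Finset.mem_univ p)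
      have h4 := hnn1 p
      have h5 : nn p * 1 = nn p * aa p := by rw [mul_one]; exact h3
      exact (Nat.eq_of_mul_eq_mul_left h4 h5).symm
  · rintro ⟨hreg, hmap⟩
    have h1 : ∀ p, aa p = 1 := fun p => (haa_iff p).2 (hmap p)
    have h2 : (∑ p, nn p * aa p : ℕ) = ∑ p, nn p :=
      Finset.sum_congr rfl (fun p _ => by rw [h1 p, mul_one])
    have h3 := hreg_eq hreg
    rw [hc_eq] at h3
    have h4 : (∑ p, nn p * aa p : ℕ) = lam := by exact_mod_cast h3
    omega

end main

end Groth.Agent.Lib.Helper5.ParamOne
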