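import Mathlib
import Groth.Agent.Lib.Helper5ParamOne
import Groth.Agent.Lib.Helper5AssocFormula
import Groth.Agent.Lib.Helper5SuppDim

/-!
# Krull–Akizuki type length bound

For a Noetherian domain `R` with fraction field `K`, a nonzero `x` with `R/xR` of finite length and an
arbitrary `R`-submodule `M` of `K^r`: `length (M/xM) ≤ r * length (R/xR)`.
-/

universe u
open Pointwise

namespace Groth.Agent.Lib.Helper5.KrullAkizuki

open Groth.Agent.Lib.Helper5

variable {R : Type u} [CommRing R]

theorem eq_of_le_of_length_le {Q : Type u} [AddCommGroup Q] [Module R Q] (N1 N2 : Submodule R Q)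
    (h : N1 ≤ N2) (hl : Module.length R N2 ≤ Module.length R N1)
    (hfin : Module.length R N2 ≠ ⊤) : N1 = N2 := by
  have key := Module.length_eq_add_of_exact (Submodule.inclusion h)
    (Submodule.mkQ (LinearMap.range (Submodule.inclusion h)))
    (Submodule.inclusion_injective h) (Submodule.mkQ_surjective _)
    (LinearMap.exact_map_mkQ_range _)
  have h12 : Module.length R N1 ≤ Module.length R N2 := by rw [key]; exact le_self_add
  have h1 : Module.length R N1 ≠ ⊤ := ne_top_of_le_ne_top hfin h12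
  have hd : Module.length R (N2 ⧸ LinearMap.range (Submodule.inclusion h)) ≠ ⊤ :=
    ne_top_of_le_ne_top hfin (by rw [key]; exact le_add_self)
  obtain ⟨a, ha⟩ := ENat.ne_top_iff_exists.1 h1
  obtain ⟨b, hb⟩ := ENat.ne_top_iff_exists.1 hfin
  obtain ⟨d, hd'⟩ := ENat.ne_top_iff_exists.1 hd
  rw [← ha, ← hb, ← hd'] at key
  rw [← ha, ← hb] at hl
  have hd0 : d = 0 := by
    have k1 : b = a + d := by exact_mod_cast key
    have k2 : b ≤ a := by exact_mod_cast hl
    omega
  have hzero : Module.length R (N2 ⧸ LinearMap.range (Submodule.inclusion h)) = 0 := by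
    rw [← hd', hd0]; rfl
  rw [Module.length_eq_zero_iff, Submodule.Quotient.subsingleton_iff] at hzero
  refine le_antisymm h fun y hy => ?_
  have hmem : (⟨y, hy⟩ : N2) ∈ LinearMap.range (Submodule.inclusion h) := by
    rw [hzero]; trivial
  obtain ⟨z, hz⟩ := hmem
  have hzy : (z : Q) = y := congrArg Subtype.val hz
  exact hzy ▸ z.2

theorem length_le_of_forall_fg {Q : Type u} [AddCommGroup Q] [Module R Q] (c : ℕ)
    (h : ∀ P : Submodule R Q, P.FG → Module.length R P ≤ c) : Module.length R Q ≤ c := by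
  classical
  have hp0 : (fun n : ℕ => ∃ P : Submodule R Q, P.FG ∧ Module.length R P = n) 0 :=
    ⟨⊥, Submodule.fg_bot, by rw [Nat.cast_zero, Module.length_eq_zero_iff]; infer_instance⟩
  have hspec := Nat.findGreatest_spec
    (P := fun n : ℕ => ∃ P : Submodule R Q, P.FG ∧ Module.length R P = n) (Nat.zero_le c) hp0
  obtain ⟨P, hPfg, hPl⟩ := hspec
  have hmax : ∀ P' : Submodule R Q, P'.FG → Module.length R P' ≤ Module.length R P := by
    intro P' hP'
    have h1 := h P' hP'
    obtain ⟨n, hn⟩ := ENat.ne_top_iff_exists.1 (ne_top_of_le_ne_top (ENat.natCast_ne_top c) h1)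
    have hnc : n ≤ c := by rw [← hn] at h1; exact_mod_cast h1
    have hle := Nat.le_findGreatest
      (P := fun n : ℕ => ∃ P : Submodule R Q, P.FG ∧ Module.length R P = n) hnc
      ⟨P', hP', hn.symm⟩
    rw [hPl, ← hn]; exact_mod_cast hle
  have htop : P = ⊤ := by
    refine eq_top_iff.2 fun q _ => ?_
    have hle : P ≤ P ⊔ Submodule.span R {q} := le_sup_left
    have hfg : (P ⊔ Submodule.span R {q}).FG := hPfg.sup (Submodule.fg_span_singleton q)
    have heq := eq_of_le_of_length_le P _ hle (hmax _ hfg)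
      (ne_top_of_le_ne_top (ENat.natCast_ne_top c) (h _ hfg))
    have hq : q ∈ P ⊔ Submodule.span R {q} :=
      Submodule.mem_sup_right (Submodule.mem_span_singleton_self q)
    rw [← heq] at hq
    exact hq
  rw [← (Submodule.topEquiv (R := R) (M := Q)).length_eq, ← htop]
  exact h P hPfg

theorem length_quot_le_of_le [IsNoetherianRing R] {E : Type u} [AddCommGroup E] [Module R E]
    [Module.Finite R E] (x : R) (hreg : IsSMulRegular E x) (N : Submodule R E)
    (hfin : ParamOne.F x E 1 ≠ ⊤) : ParamOne.F x N 1 ≤ ParamOne.F x E 1 := by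
  have hregN : IsSMulRegular N x := by
    intro a b hab
    apply Subtype.ext
    apply hreg
    have := congrArg Subtype.val hab
    simpa using this
  obtain ⟨k, hk⟩ := Ideal.exists_pow_inf_eq_pow_smul (Ideal.span ({x} : Set R)) N
  have hstep : ∀ m : ℕ, ParamOne.F x N m ≤ ParamOne.F x E (k + m) := by
    intro m
    obtain ⟨φ, hφ⟩ : ∃ φ : N →ₗ[R] E ⧸ (Ideal.span ({x} : Set R) ^ (k + m) • (⊤ : Submodule R E)),
        φ = (Submodule.mkQ _).comp N.subtype := ⟨_, rfl⟩
    have hker : LinearMap.ker φ ≤ Ideal.span ({x} : Set R) ^ m • (⊤ : Submodule R N) := by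
      intro z hz
      rw [hφ, LinearMap.mem_ker, LinearMap.comp_apply, Submodule.mkQ_apply,
        Submodule.Quotient.mk_eq_zero] at hz
      have h1 : (z : E) ∈ Ideal.span ({x} : Set R) ^ (k + m) • (⊤ : Submodule R E) ⊓ N :=
        ⟨hz, z.2⟩
      rw [hk (k + m) (Nat.le_add_right k m), Nat.add_sub_cancel_left] at h1
      have h2 : Ideal.span ({x} : Set R) ^ m •
          (Ideal.span ({x} : Set R) ^ k • (⊤ : Submodule R E) ⊓ N) ≤
          Submodule.map N.subtype (Ideal.span ({x} : Set R) ^ m • (⊤ : Submodule R N)) := by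
        rw [Submodule.map_smul'', Submodule.map_subtype_top]
        exact Submodule.smul_mono le_rfl inf_le_right
      obtain ⟨w, hw, hwz⟩ := h2 h1
      have hwz' : w = z := Subtype.ext hwz
      exact hwz' ▸ hw
    unfold ParamOne.F
    calc Module.length R (N ⧸ Ideal.span ({x} : Set R) ^ m • (⊤ : Submodule R N))
        ≤ Module.length R (N ⧸ LinearMap.ker φ) :=
          Module.length_le_of_surjective (Submodule.factor hker) (Submodule.factor_surjective hker)
      _ ≤ Module.length R (E ⧸ (Ideal.span ({x} : Set R) ^ (k + m) • (⊤ : Submodule R E))) :=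
          Module.length_le_of_injective ((LinearMap.ker φ).liftQ φ le_rfl)
            (LinearMap.ker_eq_bot.1 (Submodule.ker_liftQ_eq_bot _ _ _ le_rfl))
  have hN := fun m => ParamOne.F_eq_of_regular x N hregN m
  have hE := fun m => ParamOne.F_eq_of_regular x E hreg m
  obtain ⟨b, hb⟩ := ENat.ne_top_iff_exists.1 hfin
  have h1 := hstep 1
  have ha : ParamOne.F x N 1 ≠ ⊤ := by
    refine ne_top_of_le_ne_top ?_ h1
    rw [hE, ← hb]
    exact_mod_cast ENat.natCast_ne_top ((k + 1) * b)
  obtain ⟨a, ha'⟩ := ENat.ne_top_iff_exists.1 ha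
  have hm : ∀ m : ℕ, m * a ≤ (k + m) * b := by
    intro m
    have := hstep m
    rw [hN, hE, ← ha', ← hb] at this
    exact_mod_cast this
  have hab : a ≤ b := by
    by_contra hlt
    push Not at hlt
    have h3 := hm (k * b + 1)
    have h4 := Nat.mul_le_mul_left (k * b + 1) (Nat.succ_le_of_lt hlt)
    nlinarith
  rw [← ha', ← hb]
  exact_mod_cast hab

theorem length_pi_quot_le (r : ℕ) (x : R) :
    Module.length R ((Fin r → R) ⧸ (Ideal.span ({x} : Set R) • (⊤ : Submodule R (Fin r → R)))) ≤
      r * Module.length R (R ⧸ Ideal.span ({x} : Set R)) := by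
  obtain ⟨π, hπ⟩ : ∃ π : (Fin r → R) →ₗ[R] (Fin r → R ⧸ Ideal.span ({x} : Set R)),
      π = LinearMap.pi (fun i => (Submodule.mkQ (Ideal.span ({x} : Set R))).comp
        (LinearMap.proj i)) := ⟨_, rfl⟩
  have hπa : ∀ g i, π g i = Submodule.Quotient.mk (g i) := by
    intro g i; rw [hπ]; rfl
  have hle : Ideal.span ({x} : Set R) • (⊤ : Submodule R (Fin r → R)) ≤ LinearMap.ker π := by
    rw [Submodule.smul_le]
    intro a ha g _
    rw [LinearMap.mem_ker]
    ext i
    rw [hπa, Pi.zero_apply, Submodule.Quotient.mk_eq_zero, Pi.smul_apply, smul_eq_mul]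
    exact Ideal.mul_mem_right _ _ ha
  have hinj : Function.Injective (Submodule.liftQ _ π hle) := by
    rw [← LinearMap.ker_eq_bot]
    apply Submodule.ker_liftQ_eq_bot
    intro g hg
    rw [LinearMap.mem_ker] at hg
    have hgi : ∀ i, g i ∈ Ideal.span ({x} : Set R) := by
      intro i
      have := congrFun hg i
      rw [hπa, Pi.zero_apply, Submodule.Quotient.mk_eq_zero] at this
      exact this
    choose h hh using fun i => Ideal.mem_span_singleton'.1 (hgi i)
    have hgx : g = x • h := by
      ext i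
      rw [Pi.smul_apply, smul_eq_mul, mul_comm]
      exact (hh i).symm
    rw [hgx]
    exact Submodule.smul_mem_smul (Ideal.mem_span_singleton_self x) Submodule.mem_top
  calc Module.length R ((Fin r → R) ⧸ (Ideal.span ({x} : Set R) • (⊤ : Submodule R (Fin r → R))))
      ≤ Module.length R (Fin r → R ⧸ Ideal.span ({x} : Set R)) :=
        Module.length_le_of_injective _ hinj
    _ = r * Module.length R (R ⧸ Ideal.span ({x} : Set R)) := by
        rw [Module.length_pi, ENat.card_eq_coe_fintype_card, Fintype.card_fin]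

theorem exists_injective_of_fg [IsDomain R] (K : Type u) [Field K] [Algebra R K]
    [IsFractionRing R K] (r : ℕ) (W : Submodule R (Fin r → K)) (hW : W.FG) :
    ∃ j : W →ₗ[R] (Fin r → R), Function.Injective j := by
  classical
  obtain ⟨T, hT⟩ := hW
  obtain ⟨d, hd⟩ := IsLocalization.exist_integer_multiples_of_finset (nonZeroDivisors R)
    (T.biUnion (fun v => Finset.univ.image (fun i => v i)))
  obtain ⟨ι, hι⟩ : ∃ ι : (Fin r → R) →ₗ[R] (Fin r → K),
      ι = (Algebra.linearMap R K).compLeft (Fin r) := ⟨_, rfl⟩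
  have hιa : ∀ g i, ι g i = algebraMap R K (g i) := by
    intro g i; rw [hι]; rfl
  have hιinj : Function.Injective ι := by
    intro g g' hgg
    ext i
    have := congrFun hgg i
    rw [hιa, hιa] at this
    exact IsFractionRing.injective R K this
  have hdne : algebraMap R K (d : R) ≠ 0 :=
    (map_ne_zero_iff _ (IsFractionRing.injective R K)).2 (nonZeroDivisors.ne_zero d.2)
  obtain ⟨ψ, hψ⟩ : ∃ ψ : W →ₗ[R] (Fin r → K),
      ψ = (LinearMap.lsmul R (Fin r → K) (d : R)).comp W.subtype := ⟨_, rfl⟩
  have hψa : ∀ w : W, ψ w = (d : R) • (w : Fin r → K) := by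
    intro w; rw [hψ]; rfl
  have hrange : ∀ w : W, ψ w ∈ LinearMap.range ι := by
    have hWle : W ≤ Submodule.comap (LinearMap.lsmul R (Fin r → K) (d : R))
        (LinearMap.range ι) := by
      rw [← hT, Submodule.span_le]
      intro v hv
      have hi : ∀ i, ∃ a : R, algebraMap R K a = (d : R) • v i := by
        intro i
        exact hd (v i) (Finset.mem_biUnion.2 ⟨v, hv, Finset.mem_image.2 ⟨i, Finset.mem_univ _, rfl⟩⟩)
      choose a ha using hi
      refine ⟨a, ?_⟩
      ext i
      rw [hιa, ha]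
      rfl
    intro w
    rw [hψa]
    exact hWle w.2
  refine ⟨(LinearEquiv.ofInjective ι hιinj).symm.toLinearMap.comp
    (ψ.codRestrict (LinearMap.range ι) hrange), ?_⟩
  intro w w' hww
  have h1 : ψ.codRestrict (LinearMap.range ι) hrange w =
      ψ.codRestrict (LinearMap.range ι) hrange w' :=
    (LinearEquiv.ofInjective ι hιinj).symm.injective hww
  have h2 : ψ w = ψ w' := congrArg Subtype.val h1
  rw [hψa, hψa] at h2
  apply Subtype.ext
  ext i
  have h3 := congrFun h2 i
  rw [Pi.smul_apply, Pi.smul_apply, Algebra.smul_def, Algebra.smul_def] at h3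
  exact mul_left_cancel₀ hdne h3

theorem main [IsDomain R] [IsNoetherianRing R] (K : Type u) [Field K] [Algebra R K]
    [IsFractionRing R K] (r : ℕ) (M : Submodule R (Fin r → K)) (x : R) (hx : x ≠ 0)
    (hfin : Module.length R (R ⧸ Ideal.span ({x} : Set R)) ≠ ⊤) :
    Module.length R (M ⧸ (Ideal.span ({x} : Set R) • (⊤ : Submodule R M))) ≤
      r * Module.length R (R ⧸ Ideal.span ({x} : Set R)) := by
  classical
  obtain ⟨l, hl⟩ := ENat.ne_top_iff_exists.1 hfin
  have hEle := length_pi_quot_le r x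
  have hregE : IsSMulRegular (Fin r → R) x := by
    intro a b hab
    ext i
    have := congrFun hab i
    simp only [Pi.smul_apply, smul_eq_mul] at this
    exact mul_left_cancel₀ hx this
  have hEfin : ParamOne.F x (Fin r → R) 1 ≠ ⊤ := by
    unfold ParamOne.F
    rw [pow_one]
    refine ne_top_of_le_ne_top ?_ hEle
    rw [← hl]
    exact_mod_cast ENat.natCast_ne_top (r * l)
  -- bound for finitely generated submodules
  have hfg : ∀ W : Submodule R (Fin r → K), W.FG →
      Module.length R (W ⧸ (Ideal.span ({x} : Set R) • (⊤ : Submodule R W))) ≤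
        r * Module.length R (R ⧸ Ideal.span ({x} : Set R)) := by
    intro W hW
    obtain ⟨j, hj⟩ := exists_injective_of_fg K r W hW
    have e2 : W ≃ₗ[R] LinearMap.range j := LinearEquiv.ofInjective j hj
    have h1 := AssocFormula.length_quot_congr e2 (Ideal.span ({x} : Set R)) 1
    have h2 := length_quot_le_of_le x hregE (LinearMap.range j) hEfin
    unfold ParamOne.F at h2
    rw [pow_one] at h1 h2
    rw [h1]
    exact h2.trans hEle
  rw [← hl] at hfg ⊢
  have hcast : (r : ℕ∞) * (l : ℕ∞) = ((r * l : ℕ) : ℕ∞) := by push_cast; rfl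
  rw [hcast] at hfg ⊢
  apply length_le_of_forall_fg
  intro P hP
  obtain ⟨T, hT⟩ := hP
  obtain ⟨s, hs⟩ : ∃ s : (M ⧸ (Ideal.span ({x} : Set R) • (⊤ : Submodule R M))) → M,
      ∀ q, Submodule.Quotient.mk (s q) = q :=
    ⟨Function.surjInv (Submodule.mkQ_surjective _), Function.surjInv_eq _⟩
  obtain ⟨W, hWdef⟩ : ∃ W : Submodule R (Fin r → K),
      W = Submodule.span R ((fun q => ((s q : M) : Fin r → K)) '' (T : Set _)) := ⟨_, rfl⟩
  have hWfg : W.FG := by
    rw [hWdef]
    exact Submodule.fg_span (Set.Finite.image _ T.finite_toSet)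
  have hWM : W ≤ M := by
    rw [hWdef, Submodule.span_le]
    rintro _ ⟨q, _, rfl⟩
    exact (s q).2
  obtain ⟨ψ, hψ⟩ : ∃ ψ : (W ⧸ (Ideal.span ({x} : Set R) • (⊤ : Submodule R W))) →ₗ[R]
        (M ⧸ (Ideal.span ({x} : Set R) • (⊤ : Submodule R M))),
      ψ = Submodule.mapQ _ _ (Submodule.inclusion hWM)
        (Submodule.smul_top_le_comap_smul_top _ _) := ⟨_, rfl⟩
  have hPle : P ≤ LinearMap.range ψ := by
    rw [← hT, Submodule.span_le]
    intro q hq
    have hqW : ((s q : M) : Fin r → K) ∈ W := by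
      rw [hWdef]
      exact Submodule.subset_span ⟨q, hq, rfl⟩
    refine ⟨Submodule.Quotient.mk ⟨_, hqW⟩, ?_⟩
    rw [hψ, Submodule.mapQ_apply]
    exact hs q
  calc Module.length R P ≤ Module.length R (LinearMap.range ψ) :=
        Module.length_le_of_injective (Submodule.inclusion hPle)
          (Submodule.inclusion_injective hPle)
    _ ≤ Module.length R (W ⧸ (Ideal.span ({x} : Set R) • (⊤ : Submodule R W))) :=
        Module.length_le_of_surjective ψ.rangeRestrict ψ.surjective_rangeRestrict
    _ ≤ _ := hfg W hWfg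

theorem length_quot_ne_top [IsDomain R] [IsNoetherianRing R] (hdim : ringKrullDim R ≤ 1) (x : R)
    (hx : x ≠ 0) : Module.length R (R ⧸ Ideal.span ({x} : Set R)) ≠ ⊤ := by
  rw [Module.length_ne_top_iff]
  apply Groth.Agent.Lib.Helper5.isFiniteLength_of_supportDim_le_zero
  rw [Module.supportDim_quotient_eq_ringKrullDim]
  have h1 := ringKrullDim_quotient_succ_le_of_nonZeroDivisor (mem_nonZeroDivisors_of_ne_zero hx)
  have h2 := h1.trans hdim
  generalize ringKrullDim (R ⧸ Ideal.span {x}) = a at h2 ⊢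
  induction a using WithBot.recBotCoe with
  | bot => exact bot_le
  | coe a =>
    induction a using ENat.recTopCoe with
    | top =>
      exfalso
      have h3 : ((⊤ : ℕ∞) : WithBot ℕ∞) + 1 = ((⊤ : ℕ∞) : WithBot ℕ∞) := rfl
      rw [h3] at h2
      have h4 : (⊤ : ℕ∞) ≤ 1 := by exact_mod_cast h2
      simp at h4
    | coe n =>
      have h3 : ((n + 1 : ℕ) : WithBot ℕ∞) ≤ ((1 : ℕ) : WithBot ℕ∞) := by exact_mod_cast h2
      have h4 : n + 1 ≤ 1 := by exact_mod_cast h3
      have h5 : n = 0 := by omega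
      subst h5
      exact le_rfl

end Groth.Agent.Lib.Helper5.KrullAkizuki
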