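import Mathlib
import Groth.Agent.Lib.Helper5KrullAkizuki

/-!
# Lattices over a one-dimensional Noetherian domain
-/

universe u

namespace Groth.Agent.Lib.Helper5.Lattice

open Groth.Agent.Lib.Helper5

variable {R : Type u} [CommRing R] (K : Type u) [Field K] [Algebra R K] [IsFractionRing R K]
  {V : Type u} [AddCommGroup V] [Module K V] [Module R V] [IsScalarTower R K V]

theorem dim_quot_le_zero [IsDomain R] (hdim : ringKrullDim R ≤ 1) (x : R) (hx : x ≠ 0) :
    ringKrullDim (R ⧸ Ideal.span ({x} : Set R)) ≤ 0 := by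
  have h1 := ringKrullDim_quotient_succ_le_of_nonZeroDivisor (mem_nonZeroDivisors_of_ne_zero hx)
  have h2 := h1.trans hdim
  generalize ringKrullDim (R ⧸ Ideal.span {x}) = a at h2 ⊢
  induction a using WithBot.recBotCoe with
  | bot => exact bot_le
  | coe a =>
    induction a using ENat.recTopCoe with
    | top =>
      exfalso
      have h3 : ((⊤ : ℕ∞) : WithBot ℕ∞) + 1 = ((⊤ : ℕ∞) : WithBot ℕ∞) := rfl
      rw [h3] at h2
      have h4 : (⊤ : ℕ∞) ≤ 1 := by exact_mod_cast h2
      simp at h4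
    | coe n =>
      have h3 : ((n + 1 : ℕ) : WithBot ℕ∞) ≤ ((1 : ℕ) : WithBot ℕ∞) := by exact_mod_cast h2
      have h4 : n + 1 ≤ 1 := by exact_mod_cast h3
      have h5 : n = 0 := by omega
      subst h5
      exact le_rfl

include K in
theorem map_ne_zero' [IsDomain R] {d : R} (hd : d ≠ 0) : algebraMap R K d ≠ 0 :=
  (map_ne_zero_iff _ (IsFractionRing.injective R K)).2 hd

theorem exists_smul_mem [IsDomain R] (N : Submodule R V) (v : V)
    (hv : v ∈ Submodule.span K (N : Set V)) : ∃ d : R, d ≠ 0 ∧ d • v ∈ N := by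
  induction hv using Submodule.span_induction with
  | mem x hx => exact ⟨1, one_ne_zero, by rwa [one_smul]⟩
  | zero => exact ⟨1, one_ne_zero, by rw [smul_zero]; exact N.zero_mem⟩
  | add x y _ _ hx hy =>
    obtain ⟨d1, h1, h1'⟩ := hx
    obtain ⟨d2, h2, h2'⟩ := hy
    refine ⟨d1 * d2, mul_ne_zero h1 h2, ?_⟩
    rw [smul_add]
    refine N.add_mem ?_ ?_
    · rw [mul_comm, mul_smul]; exact N.smul_mem _ h1'
    · rw [mul_smul]; exact N.smul_mem _ h2'
  | smul c x _ hx =>
    obtain ⟨d, hd, hd'⟩ := hx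
    obtain ⟨a, b, hb, rfl⟩ := IsFractionRing.div_surjective (A := R) c
    have hb0 : b ≠ 0 := nonZeroDivisors.ne_zero hb
    have hb' : algebraMap R K b ≠ 0 := map_ne_zero' K hb0
    refine ⟨b * d, mul_ne_zero hb0 hd, ?_⟩
    have key : (b * d) • ((algebraMap R K a / algebraMap R K b) • x) = a • (d • x) := by
      rw [← algebraMap_smul K (b * d), smul_smul, ← algebraMap_smul K a, ← algebraMap_smul K d,
        smul_smul]
      congr 1
      rw [map_mul]
      field_simp
    rw [key]
    exact N.smul_mem _ hd'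

theorem span_eq_top_of_forall [IsDomain R] (N N' : Submodule R V)
    (h : ∀ v ∈ N, ∃ d : R, d ≠ 0 ∧ d • v ∈ N')
    (hN : Submodule.span K (N : Set V) = ⊤) : Submodule.span K (N' : Set V) = ⊤ := by
  rw [eq_top_iff, ← hN, Submodule.span_le]
  intro v hv
  obtain ⟨d, hd, hd'⟩ := h v hv
  have hd0 : algebraMap R K d ≠ 0 := map_ne_zero' K hd
  have hv' : v = (algebraMap R K d)⁻¹ • (d • v) := by
    rw [← algebraMap_smul K d v, smul_smul, inv_mul_cancel₀ hd0, one_smul]
  rw [hv']
  exact Submodule.smul_mem _ _ (Submodule.subset_span hd')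

theorem length_quot_ne_top_of_span [IsDomain R] [IsNoetherianRing R] (hdim : ringKrullDim R ≤ 1)
    (N1 N2 : Submodule R V) (hfg : N2.FG) (hspan : Submodule.span K (N1 : Set V) = ⊤) :
    Module.length R (N2 ⧸ Submodule.comap N2.subtype N1) ≠ ⊤ := by
  classical
  have hex : ∃ d : R, d ≠ 0 ∧ ∀ v ∈ N2, d • v ∈ N1 := by
    obtain ⟨T, hT⟩ := hfg
    choose dd hdd hdd' using fun v : V => exists_smul_mem K N1 v (by rw [hspan]; trivial)
    refine ⟨∏ g ∈ T, dd g, Finset.prod_ne_zero_iff.2 fun g _ => hdd g, ?_⟩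
    have hle : N2 ≤ Submodule.comap (LinearMap.lsmul R V (∏ g ∈ T, dd g)) N1 := by
      rw [← hT, Submodule.span_le]
      intro g hg
      rw [SetLike.mem_coe, Submodule.mem_comap, LinearMap.lsmul_apply,
        ← Finset.mul_prod_erase T dd hg, mul_comm, mul_smul]
      exact N1.smul_mem _ (hdd' g)
    intro v hv
    exact hle hv
  obtain ⟨d, hd, hd'⟩ := hex
  have hfin2 : Module.Finite R N2 := Module.Finite.iff_fg.2 hfg
  rw [Module.length_ne_top_iff]
  apply isFiniteLength_of_supportDim_le_zero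
  rw [Module.supportDim_eq_ringKrullDim_quotient_annihilator]
  have hmem : Ideal.span ({d} : Set R) ≤
      Module.annihilator R (N2 ⧸ Submodule.comap N2.subtype N1) := by
    rw [Ideal.span_le, Set.singleton_subset_iff, SetLike.mem_coe, Module.mem_annihilator]
    intro q
    obtain ⟨n2, rfl⟩ := Submodule.Quotient.mk_surjective _ q
    rw [← Submodule.Quotient.mk_smul, Submodule.Quotient.mk_eq_zero, Submodule.mem_comap]
    exact hd' _ n2.2
  exact (ringKrullDim_le_of_surjective (Ideal.Quotient.factor hmem)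
    (Ideal.Quotient.factor_surjective hmem)).trans (dim_quot_le_zero hdim d hd)

theorem exists_smul_le_of_length_ne_top [IsDomain R] [IsNoetherianRing R]
    (hdim : ringKrullDim R = 1) (N1 N2 : Submodule R V) (hfg : N2.FG)
    (hfin : Module.length R (N2 ⧸ Submodule.comap N2.subtype N1) ≠ ⊤) :
    ∃ d : R, d ≠ 0 ∧ ∀ v ∈ N2, d • v ∈ N1 := by
  have hfin2 : Module.Finite R N2 := Module.Finite.iff_fg.2 hfg
  have h0 := supportDim_le_zero_of_isFiniteLength (Module.length_ne_top_iff.1 hfin)
  have hne : Module.annihilator R (N2 ⧸ Submodule.comap N2.subtype N1) ≠ ⊥ := by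
    intro hbot
    rw [Module.supportDim_eq_ringKrullDim_quotient_annihilator, hbot,
      ringKrullDim_eq_of_ringEquiv (RingEquiv.quotientBot R), hdim] at h0
    exact absurd h0 (by decide)
  obtain ⟨d, hdmem, hd⟩ := Submodule.exists_mem_ne_zero_of_ne_bot hne
  refine ⟨d, hd, fun v hv => ?_⟩
  have := Module.mem_annihilator.1 hdmem (Submodule.Quotient.mk ⟨v, hv⟩)
  rw [← Submodule.Quotient.mk_smul, Submodule.Quotient.mk_eq_zero, Submodule.mem_comap] at this
  exact this

theorem main [IsDomain R] [IsNoetherianRing R] (hdim : ringKrullDim R = 1)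
    [FiniteDimensional K V] (M : Submodule R V) [Submodule.IsLattice K M] :
    (∀ M' : Submodule R V, M ≤ M' →
        (Submodule.IsLattice K M' ↔ Module.length R (M' ⧸ Submodule.comap M'.subtype M) ≠ ⊤) ∧
          (Submodule.IsLattice K M' ↔ M'.FG)) ∧
      (∀ M' : Submodule R V, M' ≤ M →
        (Submodule.IsLattice K M' ↔ Module.length R (M ⧸ Submodule.comap M.subtype M') ≠ ⊤)) ∧
      ∀ M' : Submodule R V, Submodule.IsLattice K M' → Submodule.IsLattice K (M ⊓ M') := by
  have hMfg : M.FG := Submodule.IsLattice.fg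
  have hMspan : Submodule.span K (M : Set V) = ⊤ := Submodule.IsLattice.span_eq_top
  have hMnoeth : IsNoetherian R M := isNoetherian_of_isNoetherianRing_of_finite R M
  refine ⟨fun M' hle => ⟨⟨fun hlat => ?_, fun hfin => ?_⟩, ⟨fun hlat => hlat.fg, fun hfg =>
    Submodule.IsLattice.of_le_of_isLattice_of_fg K hle hfg⟩⟩, fun M' hle => ⟨fun hlat => ?_,
    fun hfin => ?_⟩, fun M' hlat => ?_⟩
  · exact length_quot_ne_top_of_span K (le_of_eq hdim) M M' hlat.fg hMspan
  · have hQ : IsFiniteLength R (M' ⧸ Submodule.comap M'.subtype M) :=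
      Module.length_ne_top_iff.1 hfin
    have hQn : IsNoetherian R (M' ⧸ Submodule.comap M'.subtype M) :=
      (isFiniteLength_iff_isNoetherian_isArtinian.1 hQ).1
    have hQfin : Module.Finite R (M' ⧸ Submodule.comap M'.subtype M) := inferInstance
    have hMfin : Module.Finite R (Submodule.comap M'.subtype M) :=
      Module.Finite.equiv (Submodule.comapSubtypeEquivOfLe hle).symm
    have hM'fin : Module.Finite R M' :=
      Module.Finite.of_submodule_quotient (Submodule.comap M'.subtype M)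
    exact Submodule.IsLattice.of_le_of_isLattice_of_fg K hle (Module.Finite.iff_fg.1 hM'fin)
  · exact length_quot_ne_top_of_span K (le_of_eq hdim) M' M hMfg hlat.span_eq_top
  · obtain ⟨d, hd, hd'⟩ := exists_smul_le_of_length_ne_top hdim M' M hMfg hfin
    exact ⟨isNoetherian_submodule.1 hMnoeth M' hle,
      span_eq_top_of_forall K M M' (fun v hv => ⟨d, hd, hd' v hv⟩) hMspan⟩
  · refine ⟨isNoetherian_submodule.1 hMnoeth (M ⊓ M') inf_le_left,
      span_eq_top_of_forall K M (M ⊓ M') (fun v hv => ?_) hMspan⟩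
    obtain ⟨d, hd, hd'⟩ := exists_smul_mem K M' v (by rw [hlat.span_eq_top]; trivial)
    exact ⟨d, hd, ⟨M.smul_mem d hv, hd'⟩⟩

end Groth.Agent.Lib.Helper5.Lattice
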