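import Mathlib
import Groth.Agent.Lib.Helper5Lattice

/-!
# Distance between lattices over a one-dimensional Noetherian domain
-/

universe u

namespace Groth.Agent.Lib.Helper5.LatticeDist

open Groth.Agent.Lib.Helper5

variable {R : Type u} [CommRing R] {V : Type u} [AddCommGroup V] [Module R V]

theorem length_add (N P M : Submodule R V) (hNP : N ≤ P) (hPM : P ≤ M) :
    Module.length R (M ⧸ N.submoduleOf M) =
      Module.length R (P ⧸ N.submoduleOf P) + Module.length R (M ⧸ P.submoduleOf M) := by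
  have h1 : N.submoduleOf P ≤ Submodule.comap (Submodule.inclusion hPM) (N.submoduleOf M) :=
    fun z hz => hz
  have h2 : N.submoduleOf M ≤ P.submoduleOf M := fun z hz => hNP hz
  refine Module.length_eq_add_of_exact (Submodule.mapQ _ _ (Submodule.inclusion hPM) h1)
    (Submodule.factor h2) ?_ (Submodule.factor_surjective h2) ?_
  · rw [injective_iff_map_eq_zero]
    intro y hy
    obtain ⟨z, rfl⟩ := Submodule.Quotient.mk_surjective _ y
    rw [Submodule.mapQ_apply, Submodule.Quotient.mk_eq_zero] at hy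
    rw [Submodule.Quotient.mk_eq_zero]
    exact hy
  · rw [LinearMap.exact_iff]
    ext y
    obtain ⟨z, rfl⟩ := Submodule.Quotient.mk_surjective _ y
    have hfm : Submodule.factor h2 (Submodule.Quotient.mk z) = Submodule.Quotient.mk z := rfl
    rw [LinearMap.mem_ker, hfm, Submodule.Quotient.mk_eq_zero, LinearMap.mem_range]
    constructor
    · intro hz
      refine ⟨Submodule.Quotient.mk ⟨(z : V), hz⟩, ?_⟩
      rw [Submodule.mapQ_apply]
      rfl
    · rintro ⟨w, hw⟩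
      obtain ⟨p, rfl⟩ := Submodule.Quotient.mk_surjective _ w
      rw [Submodule.mapQ_apply, Submodule.Quotient.eq] at hw
      have hw' : ((p : V) - (z : V)) ∈ N := hw
      have hzP : (z : V) = (p : V) - ((p : V) - (z : V)) := by abel
      change (z : V) ∈ P
      rw [hzP]
      exact P.sub_mem p.2 (hNP hw')

variable (K : Type u) [Field K] [Algebra R K] [IsFractionRing R K] [Module K V]
  [IsScalarTower R K V]

theorem dist_eq [IsDomain R] [IsNoetherianRing R] (hdim : ringKrullDim R ≤ 1)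
    (N M M' : Submodule R V) (hN : N ≤ M) (hN' : N ≤ M')
    (hspan : Submodule.span K (N : Set V) = ⊤) (hfg : M.FG) (hfg' : M'.FG) :
    ((Module.length R (M ⧸ (M ⊓ M').submoduleOf M)).toNat : ℤ) -
        ((Module.length R (M' ⧸ (M ⊓ M').submoduleOf M')).toNat : ℤ) =
      ((Module.length R (M ⧸ N.submoduleOf M)).toNat : ℤ) -
        ((Module.length R (M' ⧸ N.submoduleOf M')).toNat : ℤ) := by
  have h1 := length_add N (M ⊓ M') M (le_inf hN hN') inf_le_left
  have h2 := length_add N (M ⊓ M') M' (le_inf hN hN') inf_le_right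
  have hf1 : Module.length R (M ⧸ N.submoduleOf M) ≠ ⊤ :=
    Lattice.length_quot_ne_top_of_span K hdim N M hfg hspan
  have hf2 : Module.length R (M' ⧸ N.submoduleOf M') ≠ ⊤ :=
    Lattice.length_quot_ne_top_of_span K hdim N M' hfg' hspan
  have hc : Module.length R ((M ⊓ M' : Submodule R V) ⧸ N.submoduleOf (M ⊓ M')) ≠ ⊤ :=
    ne_top_of_le_ne_top hf1 (by rw [h1]; exact le_self_add)
  have ha : Module.length R (M ⧸ (M ⊓ M').submoduleOf M) ≠ ⊤ :=
    ne_top_of_le_ne_top hf1 (by rw [h1]; exact le_add_self)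
  have ha' : Module.length R (M' ⧸ (M ⊓ M').submoduleOf M') ≠ ⊤ :=
    ne_top_of_le_ne_top hf2 (by rw [h2]; exact le_add_self)
  rw [h1, h2, ENat.toNat_add hc ha, ENat.toNat_add hc ha']
  push_cast
  ring

theorem main [IsDomain R] [IsNoetherianRing R] (hdim : ringKrullDim R = 1)
    [FiniteDimensional K V] (M₁ M₂ M₃ : Submodule R V) [Submodule.IsLattice K M₁]
    [Submodule.IsLattice K M₂] [h3 : Submodule.IsLattice K M₃] :
    ((Module.length R (↥M₁ ⧸ (M₁ ⊓ M₃).submoduleOf M₁)).toNat : ℤ) -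
        ((Module.length R (↥M₃ ⧸ (M₁ ⊓ M₃).submoduleOf M₃)).toNat : ℤ) =
      (((Module.length R (↥M₁ ⧸ (M₁ ⊓ M₂).submoduleOf M₁)).toNat : ℤ) -
        ((Module.length R (↥M₂ ⧸ (M₁ ⊓ M₂).submoduleOf M₂)).toNat : ℤ)) +
      (((Module.length R (↥M₂ ⧸ (M₂ ⊓ M₃).submoduleOf M₂)).toNat : ℤ) -
        ((Module.length R (↥M₃ ⧸ (M₂ ⊓ M₃).submoduleOf M₃)).toNat : ℤ)) := by
  have h12 : Submodule.IsLattice K (M₁ ⊓ M₂) := (Lattice.main K hdim M₁).2.2 M₂ inferInstance
  have h123 : Submodule.IsLattice K (M₁ ⊓ M₂ ⊓ M₃) := (Lattice.main K hdim (M₁ ⊓ M₂)).2.2 M₃ h3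
  have hspan := h123.span_eq_top
  have hN1 : M₁ ⊓ M₂ ⊓ M₃ ≤ M₁ := inf_le_left.trans inf_le_left
  have hN2 : M₁ ⊓ M₂ ⊓ M₃ ≤ M₂ := inf_le_left.trans inf_le_right
  have hN3 : M₁ ⊓ M₂ ⊓ M₃ ≤ M₃ := inf_le_right
  have f1 : M₁.FG := Submodule.IsLattice.fg
  have f2 : M₂.FG := Submodule.IsLattice.fg
  have f3 : M₃.FG := Submodule.IsLattice.fg
  rw [dist_eq K (le_of_eq hdim) _ M₁ M₃ hN1 hN3 hspan f1 f3,
    dist_eq K (le_of_eq hdim) _ M₁ M₂ hN1 hN2 hspan f1 f2,
    dist_eq K (le_of_eq hdim) _ M₂ M₃ hN2 hN3 hspan f2 f3]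
  ring

end Groth.Agent.Lib.Helper5.LatticeDist
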