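import Mathlib
import Groth.Prelude.Def_Tame
import Groth.Agent.Lib.Helper5DetLength
import Groth.Agent.Lib.Helper5LatticeDist

/-!
# Lattice index of an automorphism equals the order of its determinant
-/

universe u

namespace Groth.Agent.Lib.Helper5.DetLattice

open Groth.Agent.Lib.Helper5 Groth.Agent.Lib.Helper5.DetLength

section ordFrac

theorem ordFrac_div (A : Type u) [CommRing A] [IsDomain A] [IsNoetherianRing A]
    (hdim : ringKrullDim A ≤ 1) (K : Type u) [Field K] [Algebra A K] [IsFractionRing A K]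
    {a b : A} (ha : a ≠ 0) (hb : b ≠ 0) :
    CycAlg.ordFrac A K (algebraMap A K a / algebraMap A K b) =
      ((Ring.ord A a).toNat : ℤ) - ((Ring.ord A b).toNat : ℤ) := by
  have : Ring.KrullDimLE 1 A := Ring.krullDimLE_iff.mpr hdim
  have hcond : IsNoetherianRing A ∧ Ring.KrullDimLE 1 A ∧ Nontrivial A ∧ IsFractionRing A K :=
    ⟨inferInstance, inferInstance, inferInstance, inferInstance⟩
  have ha' := mem_nonZeroDivisors_of_ne_zero ha
  have hb' := mem_nonZeroDivisors_of_ne_zero hb
  have e1 : Ring.ordFrac A (algebraMap A K a) =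
      ((Multiplicative.ofAdd ((Ring.ord A a).toNat : ℤ) : Multiplicative ℤ) :
        WithZero (Multiplicative ℤ)) := by
    rw [Ring.ordFrac_eq_ord A ha]
    exact Ring.ordMonoidWithZeroHom_eq_coe A ha' (ENat.natCast_toNat (Ring.ord_ne_top ha')).symm
  have e2 : Ring.ordFrac A (algebraMap A K b) =
      ((Multiplicative.ofAdd ((Ring.ord A b).toNat : ℤ) : Multiplicative ℤ) :
        WithZero (Multiplicative ℤ)) := by
    rw [Ring.ordFrac_eq_ord A hb]
    exact Ring.ordMonoidWithZeroHom_eq_coe A hb' (ENat.natCast_toNat (Ring.ord_ne_top hb')).symm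
  unfold CycAlg.ordFrac
  rw [dif_pos hcond]
  have e3 : Ring.ordFrac A (algebraMap A K a / algebraMap A K b) =
      ((Multiplicative.ofAdd (((Ring.ord A a).toNat : ℤ) - ((Ring.ord A b).toNat : ℤ)) :
        Multiplicative ℤ) : WithZero (Multiplicative ℤ)) := by
    rw [map_div₀, e1, e2, ← WithZero.coe_div, ← ofAdd_sub]
  rw [e3]
  rfl

end ordFrac

section quot

variable {A : Type u} [CommRing A] {E V : Type*} [AddCommGroup E] [Module A E] [AddCommGroup V]
  [Module A V]

theorem length_map_quot (β : E →ₗ[A] V) (hβ : Function.Injective β) (N P : Submodule A E) :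
    Module.length A (↥(P.map β) ⧸ (N.map β).submoduleOf (P.map β)) =
      Module.length A (↥P ⧸ N.submoduleOf P) := by
  symm
  refine (Submodule.Quotient.equiv _ _ (Submodule.equivMapOfInjective β hβ P) ?_).length_eq
  ext ⟨y, hy⟩
  constructor
  · rintro ⟨⟨x, hxP⟩, hxN, hxy⟩
    have h1 : β x = y := congrArg Subtype.val hxy
    have hxN' : x ∈ N := hxN
    change y ∈ N.map β
    exact ⟨x, hxN', h1⟩
  · intro hyN
    have hyN' : y ∈ N.map β := hyN
    obtain ⟨x, hxN, hxy⟩ := hyN'
    obtain ⟨x', hx'P, hx'y⟩ := hy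
    have hxx : x = x' := hβ (hxy.trans hx'y.symm)
    subst hxx
    exact ⟨⟨x, hx'P⟩, hxN, Subtype.ext hxy⟩

theorem length_range_quot (β : E →ₗ[A] V) (hβ : Function.Injective β) (N : Submodule A E) :
    Module.length A (↥(LinearMap.range β) ⧸ (N.map β).submoduleOf (LinearMap.range β)) =
      Module.length A (E ⧸ N) := by
  symm
  refine (Submodule.Quotient.equiv _ _ (LinearEquiv.ofInjective β hβ) ?_).length_eq
  ext ⟨y, hy⟩
  constructor
  · rintro ⟨x, hxN, hxy⟩
    have h1 : β x = y := congrArg Subtype.val hxy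
    change y ∈ N.map β
    exact ⟨x, hxN, h1⟩
  · intro hyN
    have hyN' : y ∈ N.map β := hyN
    obtain ⟨x, hxN, hxy⟩ := hyN'
    exact ⟨x, hxN, Subtype.ext hxy⟩

end quot

section main

variable (A : Type u) [CommRing A] [IsDomain A] [IsNoetherianRing A] (K : Type u) [Field K]
  [Algebra A K] [IsFractionRing A K] {V : Type u} [AddCommGroup V] [Module K V] [Module A V]
  [IsScalarTower A K V] [FiniteDimensional K V]

theorem isLattice_map (M : Submodule A V) [hM : Submodule.IsLattice K M] (φ : V ≃ₗ[K] V) :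
    Submodule.IsLattice K (M.map (φ.toLinearMap.restrictScalars A)) := by
  refine ⟨hM.fg.map _, ?_⟩
  have h1 : ((M.map (φ.toLinearMap.restrictScalars A) : Submodule A V) : Set V) =
      φ.toLinearMap '' (M : Set V) := by
    ext x
    simp
  rw [h1, Submodule.span_image, hM.span_eq_top, Submodule.map_top, LinearMap.range_eq_top]
  exact φ.surjective

theorem main (hdim : ringKrullDim A ≤ 1) (M : Submodule A V) [hM : Submodule.IsLattice K M]
    (φ : V ≃ₗ[K] V) :
    Module.length A (↥M ⧸ (M ⊓ M.map (φ.toLinearMap.restrictScalars A)).submoduleOf M) < ⊤ ∧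
      Module.length A (↥(M.map (φ.toLinearMap.restrictScalars A)) ⧸
          (M ⊓ M.map (φ.toLinearMap.restrictScalars A)).submoduleOf
            (M.map (φ.toLinearMap.restrictScalars A))) < ⊤ ∧
      ((Module.length A (↥M ⧸ (M ⊓ M.map (φ.toLinearMap.restrictScalars A)).submoduleOf M)).toNat : ℤ) -
          ((Module.length A (↥(M.map (φ.toLinearMap.restrictScalars A)) ⧸
            (M ⊓ M.map (φ.toLinearMap.restrictScalars A)).submoduleOf
              (M.map (φ.toLinearMap.restrictScalars A)))).toNat : ℤ) =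
        CycAlg.ordFrac A K (LinearMap.det φ.toLinearMap) := by
  classical
  have : Ring.KrullDimLE 1 A := Ring.krullDimLE_iff.mpr hdim
  have hfin : ∀ b : A, b ≠ 0 → Ring.ord A b ≠ ⊤ := fun b hb =>
    Ring.ord_ne_top (mem_nonZeroDivisors_of_ne_zero hb)
  have hinj : Function.Injective (algebraMap A K) := IsFractionRing.injective A K
  obtain ⟨φA, hφA⟩ : ∃ f : V →ₗ[A] V, f = φ.toLinearMap.restrictScalars A := ⟨_, rfl⟩
  have hφA_apply : ∀ x, φA x = φ x := fun x => by rw [hφA]; rfl
  have hφA_inj : Function.Injective φA := by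
    intro x y hxy
    rw [hφA_apply, hφA_apply] at hxy
    exact φ.injective hxy
  rw [← hφA]
  have hM' : Submodule.IsLattice K (M.map φA) := by rw [hφA]; exact isLattice_map A K M φ
  -- a K-basis of V inside M
  obtain ⟨n, v⟩ : ∃ n : ℕ, Nonempty (Module.Basis (Fin n) K V) :=
    ⟨_, ⟨Module.finBasis K V⟩⟩
  obtain ⟨v⟩ := v
  have hex : ∀ i, ∃ a : A, a ≠ 0 ∧ a • v i ∈ M := fun i =>
    Lattice.exists_smul_mem K M (v i) (by rw [hM.span_eq_top]; trivial)
  choose a ha ha' using hex
  have hw : ∀ i, IsUnit (algebraMap A K (a i)) := fun i =>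
    isUnit_iff_ne_zero.mpr ((map_ne_zero_iff _ hinj).mpr (ha i))
  obtain ⟨b, hb⟩ : ∃ b : Module.Basis (Fin n) K V, b = v.isUnitSMul hw := ⟨_, rfl⟩
  have hbM : ∀ i, b i ∈ M := by
    intro i
    rw [hb, Module.Basis.isUnitSMul_apply, algebraMap_smul]
    exact ha' i
  -- the matrix of φ and an integral multiple
  obtain ⟨c, Y, hc, hY⟩ := exists_integer_multiple (R := A) K
    (LinearMap.toMatrix b b φ.toLinearMap)
  have hcK : algebraMap A K c ≠ 0 := (map_ne_zero_iff _ hinj).mpr hc
  obtain ⟨β, hβ⟩ : ∃ β : (Fin n → A) →ₗ[A] V, β = Fintype.linearCombination A (fun i => b i) :=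
    ⟨_, rfl⟩
  have hβ_inj : Function.Injective β := by
    rw [hβ]
    apply LinearIndependent.fintypeLinearCombination_injective
    exact b.linearIndependent.restrict_scalars' A
  have hβ_single : ∀ (j : Fin n) (r : A), β (Pi.single j r) = r • b j := by
    intro j r
    rw [hβ, Fintype.linearCombination_apply_single]
  have hy : ∀ j, β (fun i => Y i j) = c • φ (b j) := by
    intro j
    rw [hβ, Fintype.linearCombination_apply]
    have h1 : φ (b j) = ∑ i, (LinearMap.toMatrix b b φ.toLinearMap i j) • b i := by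
      conv_lhs => rw [← b.sum_repr (φ (b j))]
      refine Finset.sum_congr rfl fun i _ => ?_
      rw [LinearMap.toMatrix_apply]
      rfl
    rw [h1, Finset.smul_sum]
    refine Finset.sum_congr rfl fun i _ => ?_
    have h2 := congr_fun (congr_fun hY i) j
    rw [Matrix.map_apply, Matrix.smul_apply, smul_eq_mul] at h2
    rw [← algebraMap_smul K (Y i j) (b i), h2, ← algebraMap_smul K c, smul_smul]
  obtain ⟨Sc, hSc⟩ : ∃ S : Matrix (Fin n) (Fin n) A, S = Matrix.diagonal (fun _ => c) := ⟨_, rfl⟩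
  have hcomp : β ∘ₗ Matrix.mulVecLin Y = φA ∘ₗ β ∘ₗ Matrix.mulVecLin Sc := by
    refine LinearMap.pi_ext' fun j => LinearMap.ext_ring ?_
    simp only [LinearMap.comp_apply, LinearMap.coe_single, Matrix.mulVecLin_apply]
    rw [Matrix.mulVec_single_one, hSc, Matrix.mulVec_single_one, hφA_apply]
    have h3 : (Matrix.diagonal (fun _ : Fin n => c)).col j = Pi.single j c := by
      ext i
      rw [Matrix.col_apply, Matrix.diagonal_apply, Pi.single_apply]
    have h4 : Y.col j = fun i => Y i j := rfl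
    rw [h3, h4, hy j, hβ_single, ← algebraMap_smul K c (b j), map_smul, algebraMap_smul]
  -- the submodules
  obtain ⟨F, hF⟩ : ∃ F : Submodule A V, F = LinearMap.range β := ⟨_, rfl⟩
  obtain ⟨N, hN⟩ : ∃ N : Submodule A V, N = (LinearMap.range (Matrix.mulVecLin Y)).map β :=
    ⟨_, rfl⟩
  obtain ⟨N₀, hN₀⟩ : ∃ N₀ : Submodule A V, N₀ = (LinearMap.range (Matrix.mulVecLin Sc)).map β :=
    ⟨_, rfl⟩
  have hNN₀ : N = N₀.map φA := by
    rw [hN, hN₀]
    conv_lhs => rw [← LinearMap.range_comp, hcomp, LinearMap.range_comp, LinearMap.range_comp]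
  have hFM : F ≤ M := by
    rw [hF, hβ, Fintype.range_linearCombination, Submodule.span_le]
    rintro _ ⟨i, rfl⟩
    exact hbM i
  have hNF : N ≤ F := by rw [hN, hF]; exact LinearMap.map_le_range
  have hN₀F : N₀ ≤ F := by rw [hN₀, hF]; exact LinearMap.map_le_range
  have hNM : N ≤ M := hNF.trans hFM
  have hNM' : N ≤ M.map φA := by
    rw [hNN₀]
    exact Submodule.map_mono (hN₀F.trans hFM)
  -- determinants
  have dX : (LinearMap.toMatrix b b φ.toLinearMap).det ≠ 0 := by
    rw [LinearMap.det_toMatrix b]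
    exact (LinearEquiv.isUnit_det' φ).ne_zero
  have dY : Y.det ≠ 0 := det_ne_zero_of_map_eq dX hc hY
  have dS : Sc.det ≠ 0 := by rw [hSc]; exact (good_scalar c hc).2
  have gY : Good Y := good_of_det_ne_zero hfin Y dY
  have gS : Good Sc := by rw [hSc]; exact (good_scalar c hc).1
  unfold Good coLen at gY gS
  -- lengths
  have lFN : Module.length A (↥F ⧸ N.submoduleOf F) = Ring.ord A Y.det := by
    rw [hF, hN, length_range_quot β hβ_inj, gY]
  have lFN₀ : Module.length A (↥F ⧸ N₀.submoduleOf F) = Ring.ord A Sc.det := by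
    rw [hF, hN₀, length_range_quot β hβ_inj, gS]
  have hspanF : Submodule.span K (F : Set V) = ⊤ := by
    rw [eq_top_iff, ← b.span_eq]
    apply Submodule.span_mono
    rintro _ ⟨i, rfl⟩
    rw [hF]
    exact ⟨Pi.single i 1, by rw [hβ_single, one_smul]⟩
  have hMfg : M.FG := hM.fg
  have lMF : Module.length A (↥M ⧸ F.submoduleOf M) ≠ ⊤ :=
    Lattice.length_quot_ne_top_of_span K hdim F M hMfg hspanF
  have l1 := LatticeDist.length_add N F M hNF hFM
  have l2 := LatticeDist.length_add N₀ F M hN₀F hFM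
  have l3 : Module.length A (↥(M.map φA) ⧸ N.submoduleOf (M.map φA)) =
      Module.length A (↥M ⧸ N₀.submoduleOf M) := by
    rw [hNN₀]
    exact length_map_quot φA hφA_inj N₀ M
  -- span of N
  have hspanN : Submodule.span K (N : Set V) = ⊤ := by
    obtain ⟨b', hb'⟩ : ∃ b' : Module.Basis (Fin n) K V,
        b' = (b.isUnitSMul (w := fun _ => algebraMap A K c)
          (fun _ => isUnit_iff_ne_zero.mpr hcK)).map φ := ⟨_, rfl⟩
    rw [eq_top_iff, ← b'.span_eq]
    apply Submodule.span_mono
    rintro _ ⟨j, rfl⟩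
    have h5 : b' j = c • φ (b j) := by
      rw [hb', Module.Basis.map_apply, Module.Basis.isUnitSMul_apply, map_smul, algebraMap_smul]
    rw [h5, ← hy j, hN]
    refine ⟨fun i => Y i j, ⟨Pi.single j 1, ?_⟩, rfl⟩
    rw [Matrix.mulVecLin_apply, Matrix.mulVec_single_one]
    rfl
  have hMfg' : (M.map φA).FG := hMfg.map _
  have hdist := LatticeDist.dist_eq K hdim N M (M.map φA) hNM hNM' hspanN hMfg hMfg'
  have hspanI : Submodule.span K ((M ⊓ M.map φA : Submodule A V) : Set V) = ⊤ := by
    rw [eq_top_iff, ← hspanN]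
    exact Submodule.span_mono (le_inf hNM hNM')
  have f1 : Module.length A (↥M ⧸ (M ⊓ M.map φA).submoduleOf M) ≠ ⊤ :=
    Lattice.length_quot_ne_top_of_span K hdim _ M hMfg hspanI
  have f2 : Module.length A (↥(M.map φA) ⧸ (M ⊓ M.map φA).submoduleOf (M.map φA)) ≠ ⊤ :=
    Lattice.length_quot_ne_top_of_span K hdim _ (M.map φA) hMfg' hspanI
  refine ⟨f1.lt_top, f2.lt_top, ?_⟩
  rw [hdist, l3, l1, l2, lFN, lFN₀, ENat.toNat_add (hfin _ dY) lMF, ENat.toNat_add (hfin _ dS) lMF]
  -- the determinant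
  have hdet : LinearMap.det φ.toLinearMap = algebraMap A K Y.det / algebraMap A K Sc.det := by
    have h6 : (Y.map (algebraMap A K)).det = algebraMap A K Y.det := by
      rw [RingHom.map_det, RingHom.mapMatrix_apply]
    rw [hY, Matrix.det_smul, LinearMap.det_toMatrix b] at h6
    have h7 : algebraMap A K Sc.det = algebraMap A K c ^ Fintype.card (Fin n) := by
      rw [hSc, Matrix.det_diagonal, Finset.prod_const, map_pow, Finset.card_univ]
    rw [← h6, h7, mul_div_cancel_left₀ _ (pow_ne_zero _ hcK)]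
  rw [hdet, ordFrac_div A hdim K dY dS]
  push_cast
  ring

end main

end Groth.Agent.Lib.Helper5.DetLattice
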