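import Mathlib
import Groth.Prelude.Def_Cyc
import Groth.Agent.Lib.Helper5DetLattice
import Groth.Agent.Lib.Helper5StalkSpec
import Groth.Agent.Lib.Helper4DimFormulaY
import Groth.Agent.Lib.Helper24PullFunComp
import Groth.Agent.Lib.Helper2CycRelDim

/-!
# Orders of vanishing under flat local base change; flat pullback of a principal divisor (helper2)

* `length_quot_map`: for a flat local homomorphism `ψ : B → C` of local rings and an ideal `J` of
  `B`: `length_C (C / J C) = length_B (B / J) * length_C (C / 𝔪_B C)`.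
* `ord_quotient_mk`: `ord_{A/p}(ā) = length_A (A / (p + (a)))`.
* `ordFrac_baseChange`: for `φ : A → B` flat local, `p ⊂ A` prime with `P = pB` prime, dimension
  one quotients: `ord_{B/P}(ψ g) = ord_{A/p}(g) * length_B (B / 𝔪_A B)`.
* `isFractionRing_locQuot`: `κ(ξ)` is the fraction field of `O_{X,x}/𝔭_ξ`.
* `ordAt_unit`, `ordAt_baseChange`, `ordAt_eq_zero_of_fiber`.
* `pullFun_divFun`: `f^* div_Y(g) = div_X(f^* g)` for `X` integral.
-/

set_option autoImplicit false
set_option linter.style.haveILetI false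

universe u

open AlgebraicGeometry CategoryTheory IsLocalRing

namespace Groth.Agent.Lib.Helper2.CycOrd

open Groth.Agent.Lib.Helper24PullFunComp Groth.Agent.Lib.Helper2.CycRelDim

section algebra

lemma length_quot_map {B C : Type u} [CommRing B] [CommRing C] [IsLocalRing B] [IsLocalRing C]
    (ψ : B →+* C) [IsLocalHom ψ] (hflat : ψ.Flat) (J : Ideal B) :
    Module.length C (C ⧸ Ideal.map ψ J) =
      Module.length B (B ⧸ J) * Module.length C (C ⧸ Ideal.map ψ (maximalIdeal B)) := by
  letI := ψ.toAlgebra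
  haveI : Module.Flat B C := hflat
  haveI : IsLocalHom (algebraMap B C) := ‹IsLocalHom ψ›
  have h1 := IsLocalRing.length_baseChange B C (B ⧸ J)
  have h2 := (Algebra.TensorProduct.quotIdealMapEquivTensorQuot C J).toLinearEquiv.length_eq
  change Module.length C (C ⧸ Ideal.map (algebraMap B C) J) = _
  rw [h2, h1]
  rfl

theorem ord_quotient_mk {A : Type u} [CommRing A] (p : Ideal A) (a : A) :
    Ring.ord (A ⧸ p) (Ideal.Quotient.mk p a) = Module.length A (A ⧸ (p ⊔ Ideal.span {a})) := by
  unfold Ring.ord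
  have h1 : Module.length A ((A ⧸ p) ⧸ Ideal.span {Ideal.Quotient.mk p a}) =
      Module.length (A ⧸ p) ((A ⧸ p) ⧸ Ideal.span {Ideal.Quotient.mk p a}) :=
    Module.length_eq_of_surjective Ideal.Quotient.mk_surjective
  rw [← h1]
  have h2 : Ideal.span {Ideal.Quotient.mk p a} = (Ideal.span {a}).map (Ideal.Quotient.mk p) := by
    rw [Ideal.map_span, Set.image_singleton]
  rw [h2]
  exact (DoubleQuot.quotQuotEquivQuotSupₐ A p (Ideal.span {a})).toLinearEquiv.length_eq

theorem ord_quotient_map {A B : Type u} [CommRing A] [CommRing B] [IsLocalRing A] [IsLocalRing B]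
    (φ : A →+* B) [IsLocalHom φ] (hflat : φ.Flat) (p : Ideal A) (P : Ideal B)
    (hP : P = p.map φ) (a : A) :
    Ring.ord (B ⧸ P) (Ideal.Quotient.mk P (φ a)) =
      Ring.ord (A ⧸ p) (Ideal.Quotient.mk p a) *
        Module.length B (B ⧸ Ideal.map φ (maximalIdeal A)) := by
  rw [ord_quotient_mk, ord_quotient_mk, ← length_quot_map φ hflat, Ideal.map_sup, Ideal.map_span,
    Set.image_singleton, hP]

theorem ordFrac_baseChange {A B : Type u} [CommRing A] [CommRing B] [IsLocalRing A]
    [IsLocalRing B] [IsNoetherianRing A] [IsNoetherianRing B]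
    (φ : A →+* B) [IsLocalHom φ] (hflat : φ.Flat) (p : Ideal A) (P : Ideal B) [p.IsPrime]
    [P.IsPrime] (hP : P = p.map φ)
    (hdA : ringKrullDim (A ⧸ p) ≤ 1) (hdB : ringKrullDim (B ⧸ P) ≤ 1)
    (K L : Type u) [Field K] [Field L] [Algebra (A ⧸ p) K] [Algebra (B ⧸ P) L]
    [IsFractionRing (A ⧸ p) K] [IsFractionRing (B ⧸ P) L]
    (ψ : K →+* L)
    (hψ : ∀ a : A, ψ (algebraMap (A ⧸ p) K (Ideal.Quotient.mk p a)) =
      algebraMap (B ⧸ P) L (Ideal.Quotient.mk P (φ a)))
    (g : K) (hg : g ≠ 0) :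
    CycAlg.ordFrac (B ⧸ P) L (ψ g) = CycAlg.ordFrac (A ⧸ p) K g *
      ((Module.length B (B ⧸ Ideal.map φ (maximalIdeal A))).toNat : ℤ) := by
  obtain ⟨a, b, hb, hab⟩ := IsFractionRing.div_surjective (A := A ⧸ p) g
  obtain ⟨a', rfl⟩ := Ideal.Quotient.mk_surjective a
  obtain ⟨b', rfl⟩ := Ideal.Quotient.mk_surjective b
  have hb0 : Ideal.Quotient.mk p b' ≠ 0 := nonZeroDivisors.ne_zero hb
  have ha0 : Ideal.Quotient.mk p a' ≠ 0 := by
    intro h0
    apply hg
    rw [← hab, h0, map_zero, zero_div]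
  have hinjK : Function.Injective (algebraMap (A ⧸ p) K) := IsFractionRing.injective _ _
  have hinjL : Function.Injective (algebraMap (B ⧸ P) L) := IsFractionRing.injective _ _
  have hne : ∀ c : A, Ideal.Quotient.mk p c ≠ 0 → Ideal.Quotient.mk P (φ c) ≠ 0 := by
    intro c hc h0
    have h1 := hψ c
    rw [h0, map_zero] at h1
    have h2 : algebraMap (A ⧸ p) K (Ideal.Quotient.mk p c) = 0 := by
      apply ψ.injective
      rw [h1, map_zero]
    exact hc (hinjK (by rw [h2, map_zero]))
  have hA := Groth.Agent.Lib.Helper5.DetLattice.ordFrac_div (A ⧸ p) hdA K ha0 hb0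
  have hB := Groth.Agent.Lib.Helper5.DetLattice.ordFrac_div (B ⧸ P) hdB L (hne a' ha0) (hne b' hb0)
  rw [← hab, map_div₀, hψ, hψ, hB, hA, ord_quotient_map φ hflat p P hP a',
    ord_quotient_map φ hflat p P hP b', ENat.toNat_mul, ENat.toNat_mul]
  push_cast
  ring

end algebra

section scheme

variable {X Y : Scheme.{u}}

theorem algebraMap_locQuot_mk (x ξ : X) (h : ξ ⤳ x) (c : X.presheaf.stalk x) :
    algebraMap (Cyc.LocQuot x ξ h) (X.residueField ξ)
      (Ideal.Quotient.mk (RingHom.ker (Cyc.specMap x ξ h)) c) = Cyc.specMap x ξ h c := by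
  rw [RingHom.algebraMap_toAlgebra, Ideal.Quotient.lift_mk]

theorem algebraMap_locQuot_injective (x ξ : X) (h : ξ ⤳ x) :
    Function.Injective (algebraMap (Cyc.LocQuot x ξ h) (X.residueField ξ)) :=
  RingHom.kerLift_injective (Cyc.specMap x ξ h)

instance isPrime_ker_specMap (x ξ : X) (h : ξ ⤳ x) : (RingHom.ker (Cyc.specMap x ξ h)).IsPrime :=
  RingHom.ker_isPrime _

/-- `κ(ξ)` is the fraction field of `O_{X,x}/𝔭_ξ`. -/
theorem isFractionRing_locQuot (x ξ : X) (h : ξ ⤳ x) :
    IsFractionRing (Cyc.LocQuot x ξ h) (X.residueField ξ) := by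
  haveI : FaithfulSMul (Cyc.LocQuot x ξ h) (X.residueField ξ) :=
    (faithfulSMul_iff_algebraMap_injective _ _).mpr (algebraMap_locQuot_injective x ξ h)
  refine IsFractionRing.of_field _ _ ?_
  intro z
  obtain ⟨z', rfl⟩ : ∃ z' : X.presheaf.stalk ξ, X.residue ξ z' = z :=
    IsLocalRing.residue_surjective z
  letI := (X.presheaf.stalkSpecializes h).hom.toAlgebra
  obtain ⟨M, hM⟩ := Groth.Agent.Lib.Helper5.StalkSpec.exists_isLocalization_stalkSpecializes X h
  haveI := hM
  obtain ⟨⟨a, m⟩, ham⟩ := IsLocalization.surj M z'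
  have hunit : IsUnit (algebraMap (X.presheaf.stalk x) (X.presheaf.stalk ξ) (m : X.presheaf.stalk x)) :=
    IsLocalization.map_units _ m
  have hm0 : Cyc.specMap x ξ h (m : X.presheaf.stalk x) ≠ 0 := by
    have h1 : IsUnit (X.residue ξ
        (algebraMap (X.presheaf.stalk x) (X.presheaf.stalk ξ) (m : X.presheaf.stalk x))) :=
      hunit.map _
    exact h1.ne_zero
  refine ⟨Ideal.Quotient.mk _ a, Ideal.Quotient.mk _ (m : X.presheaf.stalk x), ?_⟩
  rw [algebraMap_locQuot_mk, algebraMap_locQuot_mk, eq_div_iff hm0]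
  have h2 := congrArg (X.residue ξ) ham
  rw [map_mul] at h2
  exact h2

/-- the order of (the image of) a unit of the local ring vanishes. -/
theorem ordAt_unit (x ξ : X) (h : ξ ⤳ x) (c : X.presheaf.stalk x) (hc : IsUnit c) :
    Cyc.ordAt x ξ h (Cyc.specMap x ξ h c) = 0 := by
  rw [← algebraMap_locQuot_mk]
  unfold Cyc.ordAt CycAlg.ordFrac
  split_ifs with hcond
  · haveI := hcond.1
    haveI := hcond.2.1
    haveI := hcond.2.2.1
    haveI := hcond.2.2.2
    have hu : IsUnit (Ideal.Quotient.mk (RingHom.ker (Cyc.specMap x ξ h)) c) := hc.map _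
    rw [Ring.ordFrac_of_isUnit hu]
    rfl
  · rfl

/-- compatibility of the maps `O_{Y,f x} → κ(f η)` and `O_{X,x} → κ(η)`. -/
theorem specMap_compat (f : X ⟶ Y) (x η : X) (hηx : η ⤳ x) (hξy : f η ⤳ f x)
    (a : Y.presheaf.stalk (f x)) :
    (f.residueFieldMap η).hom (Cyc.specMap (f x) (f η) hξy a) =
      Cyc.specMap x η hηx ((f.stalkMap x).hom a) := by
  have e1 := ConcreteCategory.congr_hom (Scheme.residue_residueFieldMap f η)
    (Y.presheaf.stalkSpecializes hξy a)
  have e2 := Scheme.Hom.stalkSpecializes_stalkMap_apply f η x hηx a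
  change (f.residueFieldMap η).hom ((Y.residue (f η)).hom ((Y.presheaf.stalkSpecializes hξy).hom a)) =
    (X.residue η).hom ((X.presheaf.stalkSpecializes hηx).hom ((f.stalkMap x).hom a))
  change (f.residueFieldMap η).hom ((Y.residue (f η)).hom ((Y.presheaf.stalkSpecializes hξy).hom a)) =
    (X.residue η).hom ((f.stalkMap η).hom ((Y.presheaf.stalkSpecializes hξy).hom a)) at e1
  rw [e1]
  congr 1

theorem exists_unit_specMap_eq (y ξ : Y) (e : ξ = y) (hs : ξ ⤳ y) (g : Y.residueField ξ)
    (hg : g ≠ 0) : ∃ u : Y.presheaf.stalk y, IsUnit u ∧ Cyc.specMap y ξ hs u = g := by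
  subst e
  obtain ⟨u, rfl⟩ : ∃ u : Y.presheaf.stalk ξ, Y.residue ξ u = g :=
    IsLocalRing.residue_surjective g
  have hsp : ∀ v : Y.presheaf.stalk ξ, Cyc.specMap ξ ξ hs v = Y.residue ξ v := by
    intro v
    change (Y.residue ξ).hom ((Y.presheaf.stalkSpecializes hs).hom v) = _
    rw [TopCat.Presheaf.stalkSpecializes_refl]
    rfl
  refine ⟨u, ?_, hsp u⟩
  by_contra hnu
  apply hg
  exact (IsLocalRing.residue_eq_zero_iff u).mpr ((IsLocalRing.mem_maximalIdeal u).mpr hnu)

theorem ordAt_eq_zero_of_fiber (f : X ⟶ Y) (x η : X) (hηx : η ⤳ x) (hfx : f η = f x)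
    (g : Y.residueField (f η)) (hg : g ≠ 0) :
    Cyc.ordAt x η hηx ((f.residueFieldMap η).hom g) = 0 := by
  have hξy : f η ⤳ f x := hηx.map f.continuous
  obtain ⟨u, hu, hug⟩ := exists_unit_specMap_eq (f x) (f η) hfx hξy g hg
  rw [← hug, specMap_compat f x η hηx hξy u]
  exact ordAt_unit x η hηx _ (hu.map _)

theorem ordAt_baseChange [IsLocallyNoetherian X] [IsLocallyNoetherian Y] (f : X ⟶ Y) [Flat f]
    (x η : X) (hηx : η ⤳ x) (hξy : f η ⤳ f x)
    (hdX : ringKrullDim (Cyc.LocQuot x η hηx) ≤ 1)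
    (hdY : ringKrullDim (Cyc.LocQuot (f x) (f η) hξy) ≤ 1)
    (hP : RingHom.ker (Cyc.specMap x η hηx) =
      (RingHom.ker (Cyc.specMap (f x) (f η) hξy)).map (f.stalkMap x).hom)
    (g : Y.residueField (f η)) (hg : g ≠ 0) :
    Cyc.ordAt x η hηx ((f.residueFieldMap η).hom g) = Cyc.ordAt (f x) (f η) hξy g *
      ((Module.length (X.presheaf.stalk x) (X.presheaf.stalk x ⧸
        Ideal.map (f.stalkMap x).hom (maximalIdeal (Y.presheaf.stalk (f x))))).toNat : ℤ) := by
  haveI := isFractionRing_locQuot x η hηx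
  haveI := isFractionRing_locQuot (f x) (f η) hξy
  have hflat : (f.stalkMap x).hom.Flat := (Flat.iff_flat_stalkMap f).mp inferInstance x
  unfold Cyc.ordAt
  refine ordFrac_baseChange (f.stalkMap x).hom hflat _ _ hP hdY hdX _ _ (f.residueFieldMap η).hom
    ?_ g hg
  intro a
  rw [algebraMap_locQuot_mk, algebraMap_locQuot_mk]
  exact specMap_compat f x η hηx hξy a

theorem ker_specMap_genericPoint [IsIntegral X] (x : X) (h : genericPoint X ⤳ x) :
    RingHom.ker (Cyc.specMap x (genericPoint X) h) = ⊥ := by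
  rw [← RingHom.injective_iff_ker_eq_bot]
  have h1 : Function.Injective (X.presheaf.stalkSpecializes h).hom :=
    IsFractionRing.injective (X.presheaf.stalk x) X.functionField
  have h2 : Function.Injective (X.residue (genericPoint X)).hom := by
    rw [RingHom.injective_iff_ker_eq_bot]
    change RingHom.ker (IsLocalRing.residue _) = ⊥
    rw [IsLocalRing.ker_residue]
    exact IsLocalRing.maximalIdeal_eq_bot (R := X.functionField)
  exact h2.comp h1

theorem ringKrullDim_locQuot_le_one [IsLocallyNoetherian X] (δ : X → ℤ) (hδ : Cyc.IsDimFun X δ)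
    (x ξ : X) (h : ξ ⤳ x) (h1 : δ x + 1 = δ ξ) : ringKrullDim (Cyc.LocQuot x ξ h) ≤ 1 := by
  obtain ⟨k, hk, hδk⟩ := Groth.Agent.Lib.Helper4.DimFormula.isDimFun_eq_add_locQuotDim X δ hδ x ξ h
  have hk1 : k = 1 := by omega
  rw [hk, hk1]
  exact le_of_eq rfl

/-- Flat pullback of the principal divisor of a rational function on the target is the principal
divisor of the pulled back function (`X` integral). -/
theorem pullFun_divFun (X Y : Scheme.{u}) [IsIntegral X] (δX : X → ℤ) (δY : Y → ℤ)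
    (hX : Cyc.IsSetup X δX) (hY : Cyc.IsSetup Y δY) (f : X ⟶ Y) [Flat f] [LocallyOfFiniteType f]
    (r : ℕ) (hr : Cyc.HasRelDim f r) (hδ : Cyc.DeltaCompat f δX δY)
    (g : Y.residueField (f (genericPoint X))) (hg : g ≠ 0) :
    Cyc.pullFun f δX δY r (Cyc.divFun δY (f (genericPoint X)) g) =
      Cyc.divFun δX (genericPoint X) (f.residueFieldMap (genericPoint X) g) := by
  haveI : IsLocallyNoetherian X := hX.1
  haveI : IsLocallyNoetherian Y := hY.1
  funext x
  have hηx : genericPoint X ⤳ x := genericPoint_specializes x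
  have hξy : f (genericPoint X) ⤳ f x := hηx.map f.continuous
  have hgen : IsGen f (genericPoint X) := fun y _ hy =>
    (hy.antisymm (genericPoint_specializes y)).eq
  have F2 : δX (genericPoint X) = δY (f (genericPoint X)) + r :=
    delta_eq_of_isGen f r hr δX δY hδ (genericPoint X) hgen
  have F3 : δX x ≤ δY (f x) + r := delta_le f r hr δX δY hδ x
  simp only [Cyc.pullFun, Cyc.divFun]
  by_cases hA : δX x = δY (f x) + r
  · rw [if_pos hA]
    by_cases hB : δY (f x) + 1 = δY (f (genericPoint X))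
    · have hC : δX x + 1 = δX (genericPoint X) := by omega
      rw [dif_pos ⟨hξy, hB⟩, dif_pos ⟨hηx, hC⟩]
      have hP0 := ker_specMap_genericPoint x hηx
      have hP : RingHom.ker (Cyc.specMap x (genericPoint X) hηx) =
          (RingHom.ker (Cyc.specMap (f x) (f (genericPoint X)) hξy)).map (f.stalkMap x).hom := by
        rw [hP0]
        symm
        rw [eq_bot_iff]
        rw [Ideal.map_le_iff_le_comap]
        intro a ha
        rw [Ideal.mem_comap, ← hP0, RingHom.mem_ker, ← specMap_compat f x (genericPoint X) hηx hξy a,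
          RingHom.mem_ker.mp ha, map_zero]
      exact (ordAt_baseChange f x (genericPoint X) hηx hξy
        (ringKrullDim_locQuot_le_one δX hX.2.2 x _ hηx hC)
        (ringKrullDim_locQuot_le_one δY hY.2.2 (f x) _ hξy hB) hP g hg).symm
    · have hC : ¬ (δX x + 1 = δX (genericPoint X)) := by omega
      rw [dif_neg (fun h => hB h.2), dif_neg (fun h => hC h.2), zero_mul]
  · rw [if_neg hA]
    by_cases hC : δX x + 1 = δX (genericPoint X)
    · rw [dif_pos ⟨hηx, hC⟩]
      have hxy : f (genericPoint X) = f x := by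
        by_contra hne
        have := (hY.2.2 (f (genericPoint X)) (f x) hξy hne).1
        omega
      exact (ordAt_eq_zero_of_fiber f x (genericPoint X) hηx hxy g hg).symm
    · rw [dif_neg (fun h => hC h.2)]

end scheme

end Groth.Agent.Lib.Helper2.CycOrd
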