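import Mathlib
import Groth.Agent.Lib.Helper5SuppDim

/-!
# Herbrand quotient `χ(N) = ℓ(N/tN) - ℓ(N[t])` in dimension one (helper22)

* `six_term`: alternating length identity for a six-term exact sequence (in `ℕ∞`, no finiteness).
* `chi_add`: for `0 → M' → M → M'' → 0` exact,
  `ℓ(M'[t]) + ℓ(M''[t]) + ℓ(M/tM) = ℓ(M[t]) + ℓ(M'/tM') + ℓ(M''/tM'')` (snake lemma).
* `chi_finite`: `ℓ(N[t]) = ℓ(N/tN)` for `N` of finite length.
* `prime_min_or_max`, `max_not_min`: primes of a one-dimensional local ring.
* `length_quot_ne_top`, `length_tKer_ne_top`: finiteness when `a` avoids the minimal primes.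
* `main`: `ℓ(N/aN) = ℓ(N[a]) + Σ_{p minimal} ℓ(N_p) ℓ(A/(p+a))` for finite `N`.
-/

set_option autoImplicit false

namespace Groth.Agent.Lib.Helper22.Herbrand

open Function Pointwise



section six

variable {R : Type*} [Ring R]

theorem length_eq_range_add_range {X Y Z : Type*} [AddCommGroup X] [Module R X]
    [AddCommGroup Y] [Module R Y] [AddCommGroup Z] [Module R Z]
    (f : X →ₗ[R] Y) (g : Y →ₗ[R] Z) (h : Exact f g) :
    Module.length R Y = Module.length R (LinearMap.range f) + Module.length R (LinearMap.range g) := by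
  refine Module.length_eq_add_of_exact (LinearMap.range f).subtype g.rangeRestrict
    (Submodule.injective_subtype _) (LinearMap.surjective_rangeRestrict g) ?_
  intro y
  constructor
  · intro hy
    have h0 : g y = 0 := congrArg Subtype.val hy
    obtain ⟨x, hx⟩ := (h y).mp h0
    exact ⟨⟨y, x, hx⟩, rfl⟩
  · rintro ⟨⟨y', x, hx⟩, rfl⟩
    apply Subtype.ext
    exact (h _).mpr ⟨x, hx⟩

theorem six_term {K1 K2 K3 C1 C2 C3 : Type*}
    [AddCommGroup K1] [Module R K1] [AddCommGroup K2] [Module R K2] [AddCommGroup K3] [Module R K3]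
    [AddCommGroup C1] [Module R C1] [AddCommGroup C2] [Module R C2] [AddCommGroup C3] [Module R C3]
    (a : K1 →ₗ[R] K2) (b : K2 →ₗ[R] K3) (d : K3 →ₗ[R] C1) (c : C1 →ₗ[R] C2) (e : C2 →ₗ[R] C3)
    (ha : Injective a) (hab : Exact a b) (hbd : Exact b d) (hdc : Exact d c) (hce : Exact c e)
    (he : Surjective e) :
    Module.length R K1 + Module.length R K3 + Module.length R C2 =
      Module.length R K2 + Module.length R C1 + Module.length R C3 := by
  have h1 : Module.length R K1 = Module.length R (LinearMap.range a) :=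
    (LinearEquiv.ofInjective a ha).length_eq
  have h6 : Module.length R C3 = Module.length R (LinearMap.range e) := by
    rw [LinearMap.range_eq_top.mpr he]
    exact (Submodule.topEquiv (R := R) (M := C3)).length_eq.symm
  rw [h1, h6, length_eq_range_add_range a b hab, length_eq_range_add_range b d hbd,
    length_eq_range_add_range d c hdc, length_eq_range_add_range c e hce]
  ring

end six




section snake

variable {A : Type*} [CommRing A] (t : A)

/-- multiplication by `t` -/
abbrev mulBy (N : Type*) [AddCommGroup N] [Module A N] : N →ₗ[A] N :=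
  t • (LinearMap.id : N →ₗ[A] N)

/-- kernel of multiplication by `t` -/
abbrev tKer (N : Type*) [AddCommGroup N] [Module A N] : Submodule A N :=
  LinearMap.ker (t • (LinearMap.id : N →ₗ[A] N))

theorem mem_tKer {N : Type*} [AddCommGroup N] [Module A N] (x : N) : x ∈ tKer t N ↔ t • x = 0 := by
  simp [tKer]

theorem exact_mulBy_mkQ (N : Type*) [AddCommGroup N] [Module A N] :
    Exact (mulBy t N) (Submodule.mkQ (t • (⊤ : Submodule A N))) := by
  intro y
  rw [Submodule.mkQ_apply, Submodule.Quotient.mk_eq_zero, Submodule.mem_smul_pointwise_iff_exists]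
  constructor
  · rintro ⟨x, -, rfl⟩
    exact ⟨x, by simp⟩
  · rintro ⟨x, rfl⟩
    exact ⟨x, trivial, by simp⟩

variable {M' M M'' : Type*} [AddCommGroup M'] [Module A M'] [AddCommGroup M] [Module A M]
  [AddCommGroup M''] [Module A M''] (i : M' →ₗ[A] M) (p : M →ₗ[A] M'')

/-- restriction to `t`-torsion -/
def kerMap : tKer t M' →ₗ[A] tKer t M :=
  i.restrict (fun x hx => by
    rw [mem_tKer] at hx ⊢
    rw [← map_smul, hx, map_zero])

@[simp] theorem kerMap_coe (x : tKer t M') : ((kerMap t i x : tKer t M) : M) = i x := rfl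

theorem chi_add (hi : Injective i) (hp : Surjective p) (hex : Exact i p) :
    Module.length A (tKer t M') + Module.length A (tKer t M'') + Module.length A (QuotSMulTop t M) =
      Module.length A (tKer t M) + Module.length A (QuotSMulTop t M') +
        Module.length A (QuotSMulTop t M'') := by
  have h₁ : i.comp (mulBy t M') = (mulBy t M).comp i := by
    ext x; simp
  have h₂ : p.comp (mulBy t M) = (mulBy t M'').comp p := by
    ext x; simp
  have hι₃ : Exact (tKer t M'').subtype (mulBy t M'') := LinearMap.exact_subtype_ker_map _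
  have hι₂ : Exact (tKer t M).subtype (mulBy t M) := LinearMap.exact_subtype_ker_map _
  have hπ₁ := exact_mulBy_mkQ t M'
  have hπ₂ := exact_mulBy_mkQ t M
  let δ := SnakeLemma.δ' (mulBy t M') (mulBy t M) (mulBy t M'') i p hex i p hex h₁ h₂
    (tKer t M'').subtype hι₃ (Submodule.mkQ (t • (⊤ : Submodule A M'))) hπ₁ hp hi
  have hbd : Exact (kerMap t p) δ :=
    SnakeLemma.exact_δ'_right (mulBy t M') (mulBy t M) (mulBy t M'') i p hex i p hex h₁ h₂
      (tKer t M).subtype hι₂ (tKer t M'').subtype hι₃ (Submodule.mkQ (t • (⊤ : Submodule A M'))) hπ₁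
      hp hi (kerMap t p) (by ext x; rfl) (Submodule.injective_subtype _)
  have hdc : Exact δ (QuotSMulTop.map t i) :=
    SnakeLemma.exact_δ'_left (mulBy t M') (mulBy t M) (mulBy t M'') i p hex i p hex h₁ h₂
      (tKer t M'').subtype hι₃ (Submodule.mkQ (t • (⊤ : Submodule A M'))) hπ₁
      (Submodule.mkQ (t • (⊤ : Submodule A M))) hπ₂ hp hi (QuotSMulTop.map t i)
      (QuotSMulTop.map_comp_mkQ t i) (Submodule.mkQ_surjective _)
  refine six_term (kerMap t i) (kerMap t p) δ (QuotSMulTop.map t i) (QuotSMulTop.map t p)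
    ?_ ?_ hbd hdc (QuotSMulTop.map_exact t hex hp) (QuotSMulTop.map_surjective t hp)
  · intro x y hxy
    apply Subtype.ext
    apply hi
    exact congrArg Subtype.val hxy
  · intro y
    constructor
    · intro hy
      have h0 : p (y : M) = 0 := congrArg Subtype.val hy
      obtain ⟨x, hx⟩ := (hex _).mp h0
      refine ⟨⟨x, ?_⟩, Subtype.ext hx⟩
      rw [mem_tKer]
      apply hi
      rw [map_smul, hx, map_zero]
      exact (mem_tKer t _).mp y.2
    · rintro ⟨x, rfl⟩
      apply Subtype.ext
      exact (hex _).mpr ⟨x, rfl⟩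

end snake

section fin

variable {A : Type*} [CommRing A] (t : A)

theorem chi_finite (N : Type*) [AddCommGroup N] [Module A N] (h : Module.length A N ≠ ⊤) :
    Module.length A (tKer t N) = Module.length A (QuotSMulTop t N) := by
  have h1 := length_eq_range_add_range (tKer t N).subtype (t • (LinearMap.id : N →ₗ[A] N))
    (LinearMap.exact_subtype_ker_map _)
  have h2 := length_eq_range_add_range (t • (LinearMap.id : N →ₗ[A] N))
    (Submodule.mkQ (t • (⊤ : Submodule A N))) (exact_mulBy_mkQ t N)
  rw [Submodule.range_subtype] at h1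
  rw [Submodule.range_mkQ, Module.length_top] at h2
  have hr : Module.length A (LinearMap.range (t • (LinearMap.id : N →ₗ[A] N))) ≠ ⊤ := by
    intro h'
    rw [h', add_top] at h1
    exact h h1
  have h3 : Module.length A (tKer t N) +
      Module.length A (LinearMap.range (t • (LinearMap.id : N →ₗ[A] N))) =
      Module.length A (QuotSMulTop t N) +
        Module.length A (LinearMap.range (t • (LinearMap.id : N →ₗ[A] N))) := by
    rw [← h1, h2, add_comm]
  exact WithTop.add_right_cancel hr h3

end fin




section loc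

variable {A : Type*} [CommRing A]

theorem loc_quot_subsingleton (p q : Ideal A) [p.IsPrime] (h : ¬ q ≤ p) :
    Subsingleton (LocalizedModule p.primeCompl (A ⧸ q)) := by
  obtain ⟨s, hsq, hsp⟩ := Set.not_subset.mp h
  rw [LocalizedModule.subsingleton_iff]
  intro m
  refine ⟨s, hsp, ?_⟩
  obtain ⟨b, rfl⟩ := Ideal.Quotient.mk_surjective m
  rw [← Ideal.Quotient.mk_eq_mk, ← Submodule.Quotient.mk_smul, smul_eq_mul]
  exact (Submodule.Quotient.mk_eq_zero _).mpr (Ideal.mul_mem_right _ _ hsq)

theorem loc_quot_simple (q : Ideal A) [q.IsPrime] :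
    IsSimpleModule (Localization.AtPrime q) (LocalizedModule q.primeCompl (A ⧸ q)) := by
  rw [isSimpleModule_iff_toSpanSingleton_surjective]
  constructor
  · rw [← not_subsingleton_iff_nontrivial, LocalizedModule.subsingleton_iff]
    intro h
    obtain ⟨r, hr, h0⟩ := h (Submodule.Quotient.mk 1)
    rw [← Submodule.Quotient.mk_smul, smul_eq_mul, mul_one, Submodule.Quotient.mk_eq_zero] at h0
    exact hr h0
  · intro x hx y
    induction x using LocalizedModule.induction_on with
    | h m s =>
      induction y using LocalizedModule.induction_on with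
      | h m' s' =>
        obtain ⟨a', rfl⟩ := Submodule.Quotient.mk_surjective _ m
        obtain ⟨b, rfl⟩ := Submodule.Quotient.mk_surjective _ m'
        have ha' : a' ∈ q.primeCompl := by
          intro hmem
          apply hx
          rw [(Submodule.Quotient.mk_eq_zero _).mpr hmem, LocalizedModule.zero_mk]
        refine ⟨Localization.mk (b * s) (⟨a', ha'⟩ * s'), ?_⟩
        rw [LinearMap.toSpanSingleton_apply, LocalizedModule.mk_smul_mk, LocalizedModule.mk_eq]
        refine ⟨1, ?_⟩
        simp only [one_smul, Submonoid.smul_def, Submonoid.coe_mul, ← Submodule.Quotient.mk_smul,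
          smul_eq_mul]
        congr 1
        ring

end loc

section dimone

variable {A : Type*} [CommRing A] [IsNoetherianRing A] [IsLocalRing A]

theorem prime_min_or_max (hA : ringKrullDim A = 1) (q : Ideal A) [hq : q.IsPrime] :
    q ∈ minimalPrimes A ∨ q = IsLocalRing.maximalIdeal A := by
  by_contra h
  push_neg at h
  obtain ⟨h1, h2⟩ := h
  have hq0 : q.height ≠ 0 := fun h0 => h1 (Ideal.height_eq_zero_iff.mp h0)
  have hlt : q < IsLocalRing.maximalIdeal A :=
    lt_of_le_of_ne (IsLocalRing.le_maximalIdeal hq.ne_top) h2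
  have h3 := Ideal.height_add_one_le_of_lt_of_isPrime hlt
  have h4 : ((IsLocalRing.maximalIdeal A).height : WithBot ℕ∞) ≤ 1 :=
    hA ▸ Ideal.height_le_ringKrullDim_of_isPrime
  have h5 : (IsLocalRing.maximalIdeal A).height ≤ 1 := by exact_mod_cast h4
  have h6 : 1 ≤ q.height := Order.one_le_iff_pos.mpr (pos_iff_ne_zero.mpr hq0)
  have h7 : (1 : ℕ∞) + 1 ≤ 1 := (add_le_add_left h6 1).trans (h3.trans h5)
  exact absurd h7 (by decide)

theorem max_not_min (hA : ringKrullDim A = 1) :
    IsLocalRing.maximalIdeal A ∉ minimalPrimes A := by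
  intro h
  have h0 := Ideal.height_eq_zero_iff.mpr h
  have h1 := IsLocalRing.maximalIdeal_height_eq_ringKrullDim (R := A)
  rw [h0, hA] at h1
  exact absurd h1 (by decide)

theorem length_ne_top_of_smul_eq_zero (hA : ringKrullDim A = 1) (a : A)
    (ha : ∀ p ∈ minimalPrimes A, a ∉ p) (N : Type*) [AddCommGroup N] [Module A N]
    [Module.Finite A N] (h0 : ∀ x : N, a • x = 0) : Module.length A N ≠ ⊤ := by
  rw [Module.length_ne_top_iff]
  apply Helper5.isFiniteLength_of_supportDim_le_zero
  apply Helper5.supportDim_le_zero_of_forall_isMaximal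
  intro p hp
  have hann : a ∈ Module.annihilator A N := Module.mem_annihilator.mpr h0
  have hap : a ∈ p.asIdeal := Module.annihilator_le_of_mem_support hp hann
  rcases prime_min_or_max hA p.asIdeal with h | h
  · exact absurd hap (ha _ h)
  · rw [h]; infer_instance

end dimone

section dimone2

variable {A : Type*} [CommRing A] [IsNoetherianRing A] [IsLocalRing A]




theorem length_quot_ne_top (hA : ringKrullDim A = 1) (a : A)
    (ha : ∀ p ∈ minimalPrimes A, a ∉ p) (N : Type*) [AddCommGroup N] [Module A N]
    [Module.Finite A N] : Module.length A (QuotSMulTop a N) ≠ ⊤ := by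
  apply length_ne_top_of_smul_eq_zero hA a ha
  intro x
  obtain ⟨y, rfl⟩ := Submodule.Quotient.mk_surjective _ x
  rw [← Submodule.Quotient.mk_smul, Submodule.Quotient.mk_eq_zero]
  exact Submodule.smul_mem_pointwise_smul y a ⊤ trivial

theorem length_tKer_ne_top (hA : ringKrullDim A = 1) (a : A)
    (ha : ∀ p ∈ minimalPrimes A, a ∉ p) (N : Type*) [AddCommGroup N] [Module A N]
    [Module.Finite A N] : Module.length A (tKer a N) ≠ ⊤ := by
  apply length_ne_top_of_smul_eq_zero hA a ha
  intro x
  apply Subtype.ext
  exact (mem_tKer a _).mp x.2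

end dimone2

section formula

variable {A : Type*} [CommRing A] [IsNoetherianRing A] [IsLocalRing A] (a : A)

/-- the right-hand side sum -/
noncomputable def rsum (N : Type*) [AddCommGroup N] [Module A N] : ℕ∞ :=
  ∑ᶠ (p : PrimeSpectrum A) (_ : p.asIdeal ∈ minimalPrimes A),
    Module.length (Localization.AtPrime p.asIdeal) (LocalizedModule p.asIdeal.primeCompl N) *
      Module.length A (A ⧸ (p.asIdeal ⊔ Ideal.span {a}))

omit [IsLocalRing A] in
theorem finite_minimal : {p : PrimeSpectrum A | p.asIdeal ∈ minimalPrimes A}.Finite := by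
  have := minimalPrimes.finite_of_isNoetherianRing A
  exact Set.Finite.preimage (fun x _ y _ h => PrimeSpectrum.ext h) this

variable {M' M M'' : Type*} [AddCommGroup M'] [Module A M'] [AddCommGroup M] [Module A M]
  [AddCommGroup M''] [Module A M'']

omit [IsLocalRing A] in
theorem rsum_add (i : M' →ₗ[A] M) (p : M →ₗ[A] M'') (hi : Injective i) (hp : Surjective p)
    (hex : Exact i p) : rsum a M = rsum a M' + rsum a M'' := by
  unfold rsum
  have key := finsum_mem_add_distrib (s := {p : PrimeSpectrum A | p.asIdeal ∈ minimalPrimes A})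
    (f := fun p : PrimeSpectrum A => Module.length (Localization.AtPrime p.asIdeal)
      (LocalizedModule p.asIdeal.primeCompl M') * Module.length A (A ⧸ (p.asIdeal ⊔ Ideal.span {a})))
    (g := fun p : PrimeSpectrum A => Module.length (Localization.AtPrime p.asIdeal)
      (LocalizedModule p.asIdeal.primeCompl M'') * Module.length A (A ⧸ (p.asIdeal ⊔ Ideal.span {a})))
    finite_minimal
  refine Eq.trans ?_ key
  refine finsum_mem_congr (s := {p : PrimeSpectrum A | p.asIdeal ∈ minimalPrimes A}) rfl
    (fun q hq => ?_)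
  rw [← add_mul]
  congr 1
  exact Module.length_eq_add_of_exact (LocalizedModule.map _ i) (LocalizedModule.map _ p)
    (LocalizedModule.map_injective _ _ hi) (LocalizedModule.map_surjective _ _ hp)
    (LocalizedModule.map_exact _ _ _ hex)

omit [IsLocalRing A] [IsNoetherianRing A] in
theorem rsum_zero (N : Type*) [AddCommGroup N] [Module A N]
    (h : ∀ q : PrimeSpectrum A, q.asIdeal ∈ minimalPrimes A →
      Subsingleton (LocalizedModule q.asIdeal.primeCompl N)) : rsum a N = 0 := by
  classical
  unfold rsum
  apply finsum_eq_zero_of_forall_eq_zero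
  intro q
  rw [finsum_eq_if]
  split_ifs with hq
  · haveI := h q hq
    rw [Module.length_eq_zero, zero_mul]
  · rfl

omit [IsLocalRing A] [IsNoetherianRing A] in
theorem rsum_quot_min (q : Ideal A) (hq : q ∈ minimalPrimes A) :
    rsum a (A ⧸ q) = Module.length A (A ⧸ (q ⊔ Ideal.span {a})) := by
  classical
  haveI : q.IsPrime := hq.1.1
  unfold rsum
  rw [finsum_eq_single _ (⟨q, inferInstance⟩ : PrimeSpectrum A)]
  · rw [finsum_eq_if, if_pos hq]
    haveI := loc_quot_simple q
    rw [Module.length_eq_one, one_mul]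
  · intro p hp
    rw [finsum_eq_if]
    split_ifs with hpm
    swap
    · rfl
    have hne : ¬ q ≤ p.asIdeal := by
      intro hle
      apply hp
      apply PrimeSpectrum.ext
      exact le_antisymm (hpm.2 ⟨hq.1.1, bot_le⟩ hle) hle
    haveI := loc_quot_subsingleton p.asIdeal q hne
    rw [Module.length_eq_zero, zero_mul]

/-- the length formula -/
def Formula (N : Type*) [AddCommGroup N] [Module A N] : Prop :=
  Module.length A (QuotSMulTop a N) = Module.length A (tKer a N) + rsum a N

theorem formula_step (hA : ringKrullDim A = 1) (ha : ∀ p ∈ minimalPrimes A, a ∉ p)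
    [Module.Finite A M'] [Module.Finite A M'']
    (i : M' →ₗ[A] M) (p : M →ₗ[A] M'') (hi : Injective i) (hp : Surjective p)
    (hex : Exact i p) (h1 : Formula a M') (h3 : Formula a M'') : Formula a M := by
  unfold Formula at h1 h3 ⊢
  have hadd := chi_add a i p hi hp hex
  rw [h1, h3, rsum_add a i p hi hp hex] at *
  have f1 := length_tKer_ne_top hA a ha M'
  have f3 := length_tKer_ne_top hA a ha M''
  have hfin : Module.length A (tKer a M') + Module.length A (tKer a M'') ≠ ⊤ :=
    WithTop.add_ne_top.mpr ⟨f1, f3⟩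
  have h : (Module.length A (tKer a M') + Module.length A (tKer a M'')) +
      Module.length A (QuotSMulTop a M) =
      (Module.length A (tKer a M') + Module.length A (tKer a M'')) +
        (Module.length A (tKer a M) + (rsum a M' + rsum a M'')) := by
    rw [hadd]; ring
  exact WithTop.add_left_cancel hfin h

omit [IsLocalRing A] [IsNoetherianRing A] in
theorem formula_subsingleton (N : Type*) [AddCommGroup N] [Module A N] [Subsingleton N] :
    Formula a N := by
  unfold Formula
  rw [rsum_zero a N (fun q _ => inferInstance), Module.length_eq_zero, Module.length_eq_zero,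
    add_zero]

theorem formula_residue (hA : ringKrullDim A = 1) :
    Formula a (A ⧸ IsLocalRing.maximalIdeal A) := by
  unfold Formula
  have hs : IsSimpleModule A (A ⧸ IsLocalRing.maximalIdeal A) :=
    isSimpleModule_iff_quot_maximal.mpr ⟨_, IsLocalRing.maximalIdeal.isMaximal A,
      ⟨LinearEquiv.refl _ _⟩⟩
  have h1 : Module.length A (A ⧸ IsLocalRing.maximalIdeal A) ≠ ⊤ := by
    rw [Module.length_eq_one]
    exact ENat.one_ne_top
  rw [rsum_zero, add_zero]
  · exact (chi_finite a _ h1).symm
  · intro q hq
    apply loc_quot_subsingleton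
    intro hle
    have := (IsLocalRing.maximalIdeal.isMaximal A).eq_of_le hq.1.1.ne_top hle
    exact max_not_min hA (this ▸ hq)

omit [IsLocalRing A] [IsNoetherianRing A] in
theorem ker_quot_min (q : Ideal A) :
    LinearMap.ker ((Submodule.mkQ (a • (⊤ : Submodule A (A ⧸ q)))).comp (Submodule.mkQ q)) =
      q ⊔ Ideal.span {a} := by
  ext x
  rw [LinearMap.mem_ker, LinearMap.comp_apply, Submodule.mkQ_apply, Submodule.mkQ_apply,
    Submodule.Quotient.mk_eq_zero, Submodule.mem_smul_pointwise_iff_exists, Submodule.mem_sup]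
  constructor
  · rintro ⟨y, -, hy⟩
    obtain ⟨b, rfl⟩ := Submodule.Quotient.mk_surjective _ y
    rw [← Submodule.Quotient.mk_smul, Submodule.Quotient.eq, smul_eq_mul] at hy
    refine ⟨x - a * b, ?_, a * b, Ideal.mem_span_singleton'.mpr ⟨b, mul_comm _ _⟩, by ring⟩
    have := q.neg_mem hy
    rwa [neg_sub] at this
  · rintro ⟨y, hy, z, hz, rfl⟩
    obtain ⟨c, rfl⟩ := Ideal.mem_span_singleton'.mp hz
    refine ⟨Submodule.Quotient.mk c, trivial, ?_⟩
    rw [← Submodule.Quotient.mk_smul, Submodule.Quotient.eq, smul_eq_mul]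
    have : a * c - (y + c * a) = -y := by ring
    rw [this]
    exact q.neg_mem hy

omit [IsLocalRing A] [IsNoetherianRing A] in
theorem formula_quot_min (q : Ideal A) (hq : q ∈ minimalPrimes A) (ha : a ∉ q) :
    Formula a (A ⧸ q) := by
  unfold Formula
  haveI : q.IsPrime := hq.1.1
  have h0 : Subsingleton (tKer a (A ⧸ q)) := by
    refine ⟨fun x y => ?_⟩
    have hx : ∀ z : tKer a (A ⧸ q), z = 0 := by
      intro z
      apply Subtype.ext
      have hz := (mem_tKer a _).mp z.2
      obtain ⟨b, hb⟩ := Submodule.Quotient.mk_surjective _ (z : A ⧸ q)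
      rw [← hb, ← Submodule.Quotient.mk_smul, Submodule.Quotient.mk_eq_zero, smul_eq_mul] at hz
      rw [← hb]
      exact (Submodule.Quotient.mk_eq_zero _).mpr
        ((Ideal.IsPrime.mem_or_mem inferInstance hz).resolve_left ha)
    rw [hx x, hx y]
  have hz : Module.length A (tKer a (A ⧸ q)) = 0 := Module.length_eq_zero
  rw [rsum_quot_min a q hq, hz, zero_add]
  have hsurj : Surjective ((Submodule.mkQ (a • (⊤ : Submodule A (A ⧸ q)))).comp (Submodule.mkQ q)) :=
    (Submodule.mkQ_surjective _).comp (Submodule.mkQ_surjective _)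
  rw [← (LinearMap.quotKerEquivOfSurjective _ hsurj).length_eq]
  exact (Submodule.quotEquivOfEq _ _ (ker_quot_min a q)).length_eq

theorem main (hA : ringKrullDim A = 1) (ha : ∀ p ∈ minimalPrimes A, a ∉ p)
    (N : Type*) [AddCommGroup N] [Module A N] [Module.Finite A N] : Formula a N := by
  induction ‹Module.Finite A N› using
    IsNoetherianRing.induction_on_isQuotientEquivQuotientPrime A with
  | subsingleton N => exact formula_subsingleton a N
  | quotient N p e =>
    have hq : Formula a (A ⧸ p.asIdeal) := by
      rcases prime_min_or_max hA p.asIdeal with h | h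
      · exact formula_quot_min a _ h (ha _ h)
      · rw [h]; exact formula_residue a hA
    exact formula_step a hA ha (e.symm : (A ⧸ p.asIdeal) →ₗ[A] N) (0 : N →ₗ[A] PUnit)
      e.symm.injective (surjective_to_subsingleton _)
      ((e.symm.exact_zero_iff_surjective _).2 e.symm.surjective) hq (formula_subsingleton a PUnit)
  | exact N₁ N₂ N₃ f g hf hg hfg h1 h3 => exact formula_step a hA ha f g hf hg hfg h1 h3

end formula


end Groth.Agent.Lib.Helper22.Herbrand
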