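import Mathlib
import Groth.Agent.S1833
import Groth.Agent.Lib.Helper5DetLattice
import Groth.Agent.Lib.Helper5SuppDim

/-!
# Difference of colengths in terms of orders along minimal primes (dimension one)
-/

universe u

open Pointwise

namespace Groth.Agent.Lib.Helper5.CycLen

open Groth.Agent.Lib.Helper5 Groth.Agent.Lib.Helper5.DetLattice

section general

variable {A : Type u} [CommRing A] {V : Type*} [AddCommGroup V] [Module A V]

theorem length_quot_add (N P : Submodule A V) (h : N ≤ P) :
    Module.length A (V ⧸ N) =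
      Module.length A (↥P ⧸ N.submoduleOf P) + Module.length A (V ⧸ P) := by
  have h1 : N.submoduleOf P ≤ Submodule.comap P.subtype N := fun z hz => hz
  refine Module.length_eq_add_of_exact (Submodule.mapQ _ _ P.subtype h1) (Submodule.factor h) ?_
    (Submodule.factor_surjective h) ?_
  · rw [injective_iff_map_eq_zero]
    intro y hy
    obtain ⟨z, rfl⟩ := Submodule.Quotient.mk_surjective _ y
    rw [Submodule.mapQ_apply, Submodule.Quotient.mk_eq_zero] at hy
    rw [Submodule.Quotient.mk_eq_zero]
    exact hy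
  · rw [LinearMap.exact_iff]
    ext y
    obtain ⟨z, rfl⟩ := Submodule.Quotient.mk_surjective _ y
    have hfm : Submodule.factor h (Submodule.Quotient.mk z) = Submodule.Quotient.mk z := rfl
    rw [LinearMap.mem_ker, hfm, Submodule.Quotient.mk_eq_zero, LinearMap.mem_range]
    constructor
    · intro hz
      refine ⟨Submodule.Quotient.mk ⟨z, hz⟩, ?_⟩
      rw [Submodule.mapQ_apply]
      rfl
    · rintro ⟨w, hw⟩
      obtain ⟨p, rfl⟩ := Submodule.Quotient.mk_surjective _ w
      rw [Submodule.mapQ_apply, Submodule.Quotient.eq] at hw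
      have hw' : ((p : V) - z) ∈ N := hw
      have hzP : z = (p : V) - ((p : V) - z) := by abel
      rw [hzP]
      exact P.sub_mem p.2 (h hw')

theorem smul_top_eq_range (M : Type*) [AddCommGroup M] [Module A M] (a : A) :
    a • (⊤ : Submodule A M) = LinearMap.range (LinearMap.lsmul A M a) := by
  ext x
  rw [Submodule.mem_smul_pointwise_iff_exists, LinearMap.mem_range]
  constructor
  · rintro ⟨n, _, rfl⟩
    exact ⟨n, rfl⟩
  · rintro ⟨n, rfl⟩
    exact ⟨n, trivial, rfl⟩

end general

section dimone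

variable {A : Type u} [CommRing A] [IsNoetherianRing A] [IsLocalRing A]

theorem minimal_iff_ne_maximal (hA : ringKrullDim A = 1) (p : Ideal A) [p.IsPrime] :
    p ∈ minimalPrimes A ↔ p ≠ IsLocalRing.maximalIdeal A := by
  have hm : (IsLocalRing.maximalIdeal A).height = 1 := by
    have h1 := IsLocalRing.maximalIdeal_height_eq_ringKrullDim (R := A)
    rw [hA] at h1
    exact_mod_cast h1
  constructor
  · intro hp hpm
    rw [← Ideal.height_eq_zero_iff, hpm, hm] at hp
    exact one_ne_zero hp
  · intro hpm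
    have hlt : p < IsLocalRing.maximalIdeal A :=
      lt_of_le_of_ne (IsLocalRing.le_maximalIdeal (Ideal.IsPrime.ne_top inferInstance)) hpm
    have h1 := Ideal.height_add_one_le_of_lt_of_isPrime hlt
    rw [hm] at h1
    rw [← Ideal.height_eq_zero_iff]
    by_contra h0
    have h2 : 1 ≤ p.height := Order.one_le_iff_pos.mpr (pos_iff_ne_zero.mpr h0)
    have h3 : (1 : ℕ∞) + 1 ≤ 1 := (add_le_add h2 le_rfl).trans h1
    exact absurd h3 (by decide)

theorem length_localization_ne_top (M : Type u) [AddCommGroup M] [Module A M] [Module.Finite A M]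
    (p : Ideal A) [p.IsPrime] (hp : p ∈ minimalPrimes A) :
    Module.length (Localization.AtPrime p) (LocalizedModule p.primeCompl M) ≠ ⊤ := by
  have h1 : ringKrullDim (Localization.AtPrime p) = p.height :=
    IsLocalization.AtPrime.ringKrullDim_eq_height p _
  rw [Ideal.height_eq_zero_iff.mpr hp] at h1
  have h2 : Ring.KrullDimLE 0 (Localization.AtPrime p) :=
    Ring.krullDimLE_iff.mpr (le_of_eq (by rw [h1]; rfl))
  have h3 : IsArtinianRing (Localization.AtPrime p) := isArtinianRing_iff_krullDimLE_zero.mpr h2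
  have h4 : IsArtinian (Localization.AtPrime p) (LocalizedModule p.primeCompl M) :=
    isArtinian_of_fg_of_artinian'
  exact Module.length_ne_top

end dimone

section main

variable {A : Type u} [CommRing A] [IsNoetherianRing A] [IsLocalRing A]

theorem isSMulRegular_of_mem_nonZeroDivisors {M : Type u} [AddCommGroup M] [Module A M]
    (hMemb : ∀ p ∈ associatedPrimes A M, p ∈ minimalPrimes A) {x : A}
    (hx : x ∈ nonZeroDivisors A) : IsSMulRegular M x := by
  by_contra hnr
  have h1 : x ∈ ⋃ p ∈ associatedPrimes A M, (p : Set A) := by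
    rw [biUnion_associatedPrimes_eq_compl_regular]
    exact hnr
  obtain ⟨p, hp, hxp⟩ := Set.mem_iUnion₂.mp h1
  exact notMem_nonZeroDivisors_of_mem_mem_minimalPrimes hxp (hMemb p hp) hx

/-- `length (M / aM)` as a sum over the minimal primes (from `S1833`). -/
theorem length_quot_smul_eq_sum (hA : ringKrullDim A = 1) {M : Type u} [AddCommGroup M]
    [Module A M] [Module.Finite A M]
    (hMemb : ∀ p ∈ associatedPrimes A M, p ∈ minimalPrimes A)
    (hsupp : Module.support A M = Set.univ) (a : A) (ha : a ∈ nonZeroDivisors A)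
    (F : Finset (PrimeSpectrum A)) (hF : ∀ p, p ∈ F ↔ p.asIdeal ∈ minimalPrimes A) :
    Module.length A (M ⧸ LinearMap.range (LinearMap.lsmul A M a)) ≠ ⊤ ∧
    ((Module.length A (M ⧸ LinearMap.range (LinearMap.lsmul A M a))).toNat : ℤ) =
      ∑ p ∈ F, ((Module.length (Localization.AtPrime p.asIdeal)
        (LocalizedModule p.asIdeal.primeCompl M)).toNat : ℤ) *
          ((Ring.ord (A ⧸ p.asIdeal) (Ideal.Quotient.mk p.asIdeal a)).toNat : ℤ) := by
  have hreg : IsSMulRegular M a := isSMulRegular_of_mem_nonZeroDivisors hMemb ha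
  have h1 : Module.supportDim A M ≤ 1 :=
    (Module.supportDim_le_ringKrullDim A M).trans (le_of_eq hA)
  have h0 : Module.supportDim A (M ⧸ a • (⊤ : Submodule A M)) ≤ 0 := by
    apply supportDim_le_zero_of_forall_isMaximal
    intro p hp
    have hap : a ∈ p.asIdeal := by
      apply Module.annihilator_le_of_mem_support hp
      rw [Module.mem_annihilator]
      intro x
      obtain ⟨y, rfl⟩ := Submodule.Quotient.mk_surjective _ x
      rw [← Submodule.Quotient.mk_smul, Submodule.Quotient.mk_eq_zero]
      exact Submodule.smul_mem_pointwise_smul y a ⊤ trivial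
    have hnmin : p.asIdeal ∉ minimalPrimes A := fun h =>
      notMem_nonZeroDivisors_of_mem_mem_minimalPrimes hap h ha
    have hpm : p.asIdeal = IsLocalRing.maximalIdeal A := by
      by_contra hne
      exact hnmin ((minimal_iff_ne_maximal hA p.asIdeal).mpr hne)
    rw [hpm]
    infer_instance
  have res := Groth.Agent.S1833.result A M a h1 h0
  have hker : LinearMap.ker (LinearMap.lsmul A M a) = ⊥ := LinearMap.ker_eq_bot.mpr hreg
  rw [hker, Module.length_bot, zero_add, smul_top_eq_range] at res
  have hset : {p : PrimeSpectrum A | p ∈ Module.support A M ∧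
      p.asIdeal ≠ IsLocalRing.maximalIdeal A} = (F : Set (PrimeSpectrum A)) := by
    ext p
    rw [Set.mem_ofPred_eq, hsupp, Finset.mem_coe, hF, minimal_iff_ne_maximal hA]
    simp
  have hsum : (∑ᶠ (p : PrimeSpectrum A) (_ : p ∈ Module.support A M ∧
      p.asIdeal ≠ IsLocalRing.maximalIdeal A),
        Ring.ord (A ⧸ p.asIdeal) (Ideal.Quotient.mk p.asIdeal a) *
          Module.length (Localization.AtPrime p.asIdeal)
            (LocalizedModule p.asIdeal.primeCompl M)) =
      ∑ p ∈ F, Ring.ord (A ⧸ p.asIdeal) (Ideal.Quotient.mk p.asIdeal a) *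
          Module.length (Localization.AtPrime p.asIdeal)
            (LocalizedModule p.asIdeal.primeCompl M) := by
    have h2 : (∑ᶠ (p : PrimeSpectrum A) (_ : p ∈ Module.support A M ∧
        p.asIdeal ≠ IsLocalRing.maximalIdeal A),
          Ring.ord (A ⧸ p.asIdeal) (Ideal.Quotient.mk p.asIdeal a) *
            Module.length (Localization.AtPrime p.asIdeal)
              (LocalizedModule p.asIdeal.primeCompl M)) =
        ∑ᶠ p ∈ {p : PrimeSpectrum A | p ∈ Module.support A M ∧
          p.asIdeal ≠ IsLocalRing.maximalIdeal A},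
            Ring.ord (A ⧸ p.asIdeal) (Ideal.Quotient.mk p.asIdeal a) *
              Module.length (Localization.AtPrime p.asIdeal)
                (LocalizedModule p.asIdeal.primeCompl M) := rfl
    rw [h2, hset, finsum_mem_coe_finset]
  rw [hsum] at res
  have hμ : ∀ p ∈ F, Module.length (Localization.AtPrime p.asIdeal)
      (LocalizedModule p.asIdeal.primeCompl M) ≠ ⊤ := fun p hp =>
    length_localization_ne_top M p.asIdeal ((hF p).mp hp)
  have ho : ∀ p ∈ F, Ring.ord (A ⧸ p.asIdeal) (Ideal.Quotient.mk p.asIdeal a) ≠ ⊤ := by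
    intro p hp
    have hdimq : ringKrullDim (A ⧸ p.asIdeal) ≤ 1 :=
      (ringKrullDim_quotient_le _).trans (le_of_eq hA)
    have : Ring.KrullDimLE 1 (A ⧸ p.asIdeal) := Ring.krullDimLE_iff.mpr hdimq
    have ha' : Ideal.Quotient.mk p.asIdeal a ≠ 0 := by
      rw [Ne, Ideal.Quotient.eq_zero_iff_mem]
      exact fun h => notMem_nonZeroDivisors_of_mem_mem_minimalPrimes h ((hF p).mp hp) ha
    exact Ring.ord_ne_top (mem_nonZeroDivisors_of_ne_zero ha')
  have hterm : ∀ p ∈ F, Ring.ord (A ⧸ p.asIdeal) (Ideal.Quotient.mk p.asIdeal a) *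
      Module.length (Localization.AtPrime p.asIdeal)
        (LocalizedModule p.asIdeal.primeCompl M) ≠ ⊤ := fun p hp =>
    WithTop.mul_ne_top (ho p hp) (hμ p hp)
  refine ⟨by rw [res]; exact ENat.sum_ne_top.mpr hterm, ?_⟩
  rw [res, ENat.toNat_sum hterm]
  push_cast
  refine Finset.sum_congr rfl fun p _ => ?_
  rw [ENat.toNat_mul]
  push_cast
  ring

theorem main (hA : ringKrullDim A = 1) {M : Type u} [AddCommGroup M] [Module A M]
    [Module.Finite A M] (a b : A) (ha : a ∈ nonZeroDivisors A) (hb : b ∈ nonZeroDivisors A)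
    (hMemb : ∀ p ∈ associatedPrimes A M, p ∈ minimalPrimes A)
    (hsupp : Module.support A M = Set.univ) (I : Ideal A)
    (hI : I = (Ideal.span {b}).colon (Ideal.span {a})) (P : Submodule A M)
    (hP : P = Submodule.comap (LinearMap.lsmul A M b)
      ((Ideal.span {a} * I) • (⊤ : Submodule A M))) :
    (Ideal.span {a} * I) • (⊤ : Submodule A M) ≤ LinearMap.range (LinearMap.lsmul A M b) ∧
      ((Module.length A (M ⧸ P)).toNat : ℤ) -
          ((Module.length A (M ⧸ I • (⊤ : Submodule A M))).toNat : ℤ) =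
        ∑ᶠ (q : PrimeSpectrum A) (_ : q.asIdeal ∈ minimalPrimes A),
          ((Module.length (Localization.AtPrime q.asIdeal)
            (LocalizedModule q.asIdeal.primeCompl M)).toNat : ℤ) *
            CycAlg.ordFrac (A ⧸ q.asIdeal) q.asIdeal.ResidueField
              (algebraMap A q.asIdeal.ResidueField a / algebraMap A q.asIdeal.ResidueField b) := by
  classical
  obtain ⟨F, hF⟩ : ∃ F : Finset (PrimeSpectrum A), ∀ p, p ∈ F ↔ p.asIdeal ∈ minimalPrimes A := by
    have hfin : {p : PrimeSpectrum A | p.asIdeal ∈ minimalPrimes A}.Finite := by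
      refine Set.Finite.preimage ?_ (minimalPrimes.finite_of_isNoetherianRing A)
      intro p _ q _ h
      exact PrimeSpectrum.ext h
    exact ⟨hfin.toFinset, fun p => by simp⟩
  obtain ⟨fa, ea⟩ := length_quot_smul_eq_sum hA hMemb hsupp a ha F hF
  obtain ⟨fb, eb⟩ := length_quot_smul_eq_sum hA hMemb hsupp b hb F hF
  have hrega : Function.Injective (LinearMap.lsmul A M a) :=
    isSMulRegular_of_mem_nonZeroDivisors hMemb ha
  have hregb : Function.Injective (LinearMap.lsmul A M b) :=
    isSMulRegular_of_mem_nonZeroDivisors hMemb hb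
  obtain ⟨T, hTdef⟩ : ∃ T : Submodule A M, T = (Ideal.span {a} * I) • (⊤ : Submodule A M) :=
    ⟨_, rfl⟩
  rw [← hTdef] at hP ⊢
  have hbI : b ∈ I := by
    rw [hI, Submodule.mem_colon]
    intro s _
    exact Ideal.mul_mem_right _ _ (Ideal.subset_span rfl)
  have hT : T ≤ LinearMap.range (LinearMap.lsmul A M b) := by
    rw [hTdef, Submodule.smul_le]
    intro r hr m _
    have hrb : r ∈ Ideal.span {b} := by
      refine Ideal.mul_le.mpr ?_ hr
      intro x hx y hy
      rw [hI] at hy
      have h1 := (Submodule.mem_colon.mp hy) x hx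
      rwa [smul_eq_mul, mul_comm] at h1
    obtain ⟨c, rfl⟩ := Ideal.mem_span_singleton'.mp hrb
    refine ⟨c • m, ?_⟩
    rw [LinearMap.lsmul_apply, smul_smul, mul_comm]
  refine ⟨hT, ?_⟩
  have hTa : T = Submodule.map (LinearMap.lsmul A M a) (I • (⊤ : Submodule A M)) := by
    rw [hTdef, Submodule.mul_smul, Submodule.ideal_span_singleton_smul]
    ext x
    rw [Submodule.mem_smul_pointwise_iff_exists, Submodule.mem_map]
    rfl
  have hTa' : T ≤ LinearMap.range (LinearMap.lsmul A M a) := by
    rw [hTa]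
    exact LinearMap.map_le_range
  have hPmap : Submodule.map (LinearMap.lsmul A M b) P = T := by
    rw [hP, Submodule.map_comap_eq, inf_eq_right.mpr hT]
  have lP := length_range_quot (LinearMap.lsmul A M b) hregb P
  rw [hPmap] at lP
  have lI := length_range_quot (LinearMap.lsmul A M a) hrega (I • (⊤ : Submodule A M))
  rw [← hTa] at lI
  have e1 := length_quot_add T _ hT
  have e2 := length_quot_add T _ hTa'
  rw [lP] at e1
  rw [lI] at e2
  have hle : LinearMap.range (LinearMap.lsmul A M b) ≤ I • (⊤ : Submodule A M) := by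
    rintro _ ⟨m, rfl⟩
    exact Submodule.smul_mem_smul hbI trivial
  have fI : Module.length A (M ⧸ I • (⊤ : Submodule A M)) ≠ ⊤ :=
    ne_top_of_le_ne_top fb (Module.length_le_of_surjective (Submodule.factor hle)
      (Submodule.factor_surjective hle))
  have hid : Module.length A (M ⧸ P) +
      Module.length A (M ⧸ LinearMap.range (LinearMap.lsmul A M b)) =
      Module.length A (M ⧸ I • (⊤ : Submodule A M)) +
        Module.length A (M ⧸ LinearMap.range (LinearMap.lsmul A M a)) := by
    rw [← e1, ← e2]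
  have fP : Module.length A (M ⧸ P) ≠ ⊤ := by
    have h1 : Module.length A (M ⧸ P) +
        Module.length A (M ⧸ LinearMap.range (LinearMap.lsmul A M b)) ≠ ⊤ := by
      rw [hid]
      exact WithTop.add_ne_top.mpr ⟨fI, fa⟩
    exact ne_top_of_le_ne_top h1 le_self_add
  have hint : ((Module.length A (M ⧸ P)).toNat : ℤ) -
      ((Module.length A (M ⧸ I • (⊤ : Submodule A M))).toNat : ℤ) =
      ((Module.length A (M ⧸ LinearMap.range (LinearMap.lsmul A M a))).toNat : ℤ) -
        ((Module.length A (M ⧸ LinearMap.range (LinearMap.lsmul A M b))).toNat : ℤ) := by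
    obtain ⟨n1, hn1⟩ := ENat.ne_top_iff_exists.mp fP
    obtain ⟨n2, hn2⟩ := ENat.ne_top_iff_exists.mp fI
    obtain ⟨n3, hn3⟩ := ENat.ne_top_iff_exists.mp fa
    obtain ⟨n4, hn4⟩ := ENat.ne_top_iff_exists.mp fb
    rw [← hn1, ← hn2, ← hn3, ← hn4] at hid ⊢
    rw [ENat.toNat_natCast, ENat.toNat_natCast, ENat.toNat_natCast, ENat.toNat_natCast]
    norm_cast at hid
    omega
  rw [hint, ea, eb]
  have hterm : ∀ q ∈ F, CycAlg.ordFrac (A ⧸ q.asIdeal) q.asIdeal.ResidueField
      (algebraMap A q.asIdeal.ResidueField a / algebraMap A q.asIdeal.ResidueField b) =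
      ((Ring.ord (A ⧸ q.asIdeal) (Ideal.Quotient.mk q.asIdeal a)).toNat : ℤ) -
        ((Ring.ord (A ⧸ q.asIdeal) (Ideal.Quotient.mk q.asIdeal b)).toNat : ℤ) := by
    intro q hq
    have hqmin := (hF q).mp hq
    have hdimq : ringKrullDim (A ⧸ q.asIdeal) ≤ 1 :=
      (ringKrullDim_quotient_le _).trans (le_of_eq hA)
    have ha' : Ideal.Quotient.mk q.asIdeal a ≠ 0 := by
      rw [Ne, Ideal.Quotient.eq_zero_iff_mem]
      exact fun h => notMem_nonZeroDivisors_of_mem_mem_minimalPrimes h hqmin ha
    have hb' : Ideal.Quotient.mk q.asIdeal b ≠ 0 := by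
      rw [Ne, Ideal.Quotient.eq_zero_iff_mem]
      exact fun h => notMem_nonZeroDivisors_of_mem_mem_minimalPrimes h hqmin hb
    rw [IsScalarTower.algebraMap_apply A (A ⧸ q.asIdeal) q.asIdeal.ResidueField a,
      IsScalarTower.algebraMap_apply A (A ⧸ q.asIdeal) q.asIdeal.ResidueField b,
      Ideal.Quotient.algebraMap_eq]
    exact ordFrac_div (A ⧸ q.asIdeal) hdimq q.asIdeal.ResidueField ha' hb'
  have hR : (∑ᶠ (q : PrimeSpectrum A) (_ : q.asIdeal ∈ minimalPrimes A),
      ((Module.length (Localization.AtPrime q.asIdeal)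
        (LocalizedModule q.asIdeal.primeCompl M)).toNat : ℤ) *
        CycAlg.ordFrac (A ⧸ q.asIdeal) q.asIdeal.ResidueField
          (algebraMap A q.asIdeal.ResidueField a / algebraMap A q.asIdeal.ResidueField b)) =
      ∑ q ∈ F, ((Module.length (Localization.AtPrime q.asIdeal)
        (LocalizedModule q.asIdeal.primeCompl M)).toNat : ℤ) *
        CycAlg.ordFrac (A ⧸ q.asIdeal) q.asIdeal.ResidueField
          (algebraMap A q.asIdeal.ResidueField a / algebraMap A q.asIdeal.ResidueField b) := by
    rw [← finsum_mem_coe_finset]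
    refine finsum_congr fun q => ?_
    exact finsum_congr_Prop (propext (by rw [Finset.mem_coe, hF])) (fun _ => rfl)
  rw [hR, ← Finset.sum_sub_distrib]
  refine Finset.sum_congr rfl fun q hq => ?_
  rw [hterm q hq]
  ring

end main

end Groth.Agent.Lib.Helper5.CycLen
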