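import Mathlib
import Groth.Prelude.Def_Cyc
import Groth.Agent.Lib.Helper2CycOrd
import Groth.Agent.Lib.Helper5CycLen
import Groth.Agent.Lib.Helper4DimFormulaAE

/-!
# Flat pullback of a principal divisor: the non-integral case (helper2)

* `length_quot_smul_eq_sum'`: helper5's `length (M/aM) = ∑ length (M_p) ord_{A/p}(a)` with the
  regularity of `a` on `M` as a hypothesis.
* `length_quot_span_eq_sum`: the case `M = A`.
* `length_self_eq_of_ringEquiv`, `length_localizedModule_self`.
* `fromSpecStalk_ker_specMap`, `ker_specMap_fromSpecStalk`: `ξ ↦ ker (O_{X,x} → κ(ξ))` is inverse to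
  `Spec O_{X,x} → X`.
* `isLocalization_atPrime_stalkSpecializes`: `O_{X,ξ}` is the localization of `O_{X,x}` at `𝔭_ξ`.
* `length_stalk_eq_length_localizedModule`.
* `pullFun_divFun_sum`: `f^* div_Y(g) = ∑_ξ length(O_{X,ξ}) div_{ξ}(g)`.
-/

set_option autoImplicit false
set_option linter.style.haveILetI false

universe u

open AlgebraicGeometry CategoryTheory IsLocalRing

open Pointwise

namespace Groth.Agent.Lib.Helper2.CycOrdSum

open Groth.Agent.Lib.Helper24PullFunComp Groth.Agent.Lib.Helper2.CycRelDim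
  Groth.Agent.Lib.Helper2.CycOrd Groth.Agent.Lib.Helper5 Groth.Agent.Lib.Helper5.CycLen

section algebra

variable {A : Type u} [CommRing A] [IsNoetherianRing A] [IsLocalRing A]

/-- variant of helper5's `length_quot_smul_eq_sum` with regularity as a hypothesis. -/
theorem length_quot_smul_eq_sum' (hA : ringKrullDim A = 1) {M : Type u} [AddCommGroup M]
    [Module A M] [Module.Finite A M]
    (hsupp : Module.support A M = Set.univ) (a : A) (ha : a ∈ nonZeroDivisors A)
    (hreg : IsSMulRegular M a)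
    (F : Finset (PrimeSpectrum A)) (hF : ∀ p, p ∈ F ↔ p.asIdeal ∈ minimalPrimes A) :
    Module.length A (M ⧸ LinearMap.range (LinearMap.lsmul A M a)) ≠ ⊤ ∧
    ((Module.length A (M ⧸ LinearMap.range (LinearMap.lsmul A M a))).toNat : ℤ) =
      ∑ p ∈ F, ((Module.length (Localization.AtPrime p.asIdeal)
        (LocalizedModule p.asIdeal.primeCompl M)).toNat : ℤ) *
          ((Ring.ord (A ⧸ p.asIdeal) (Ideal.Quotient.mk p.asIdeal a)).toNat : ℤ) := by
  have h1 : Module.supportDim A M ≤ 1 :=
    (Module.supportDim_le_ringKrullDim A M).trans (le_of_eq hA)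
  have h0 : Module.supportDim A (M ⧸ a • (⊤ : Submodule A M)) ≤ 0 := by
    apply supportDim_le_zero_of_forall_isMaximal
    intro p hp
    have hap : a ∈ p.asIdeal := by
      apply Module.annihilator_le_of_mem_support hp
      rw [Module.mem_annihilator]
      intro x
      obtain ⟨y, rfl⟩ := Submodule.Quotient.mk_surjective _ x
      rw [← Submodule.Quotient.mk_smul, Submodule.Quotient.mk_eq_zero]
      exact Submodule.smul_mem_pointwise_smul y a ⊤ trivial
    have hnmin : p.asIdeal ∉ minimalPrimes A := fun h =>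
      notMem_nonZeroDivisors_of_mem_mem_minimalPrimes hap h ha
    have hpm : p.asIdeal = IsLocalRing.maximalIdeal A := by
      by_contra hne
      exact hnmin ((minimal_iff_ne_maximal hA p.asIdeal).mpr hne)
    rw [hpm]
    infer_instance
  have res := Groth.Agent.S1833.result A M a h1 h0
  have hker : LinearMap.ker (LinearMap.lsmul A M a) = ⊥ := LinearMap.ker_eq_bot.mpr hreg
  rw [hker, Module.length_bot, zero_add, smul_top_eq_range] at res
  have hset : {p : PrimeSpectrum A | p ∈ Module.support A M ∧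
      p.asIdeal ≠ IsLocalRing.maximalIdeal A} = (F : Set (PrimeSpectrum A)) := by
    ext p
    rw [Set.mem_ofPred_eq, hsupp, Finset.mem_coe, hF, minimal_iff_ne_maximal hA]
    simp
  have hsum : (∑ᶠ (p : PrimeSpectrum A) (_ : p ∈ Module.support A M ∧
      p.asIdeal ≠ IsLocalRing.maximalIdeal A),
        Ring.ord (A ⧸ p.asIdeal) (Ideal.Quotient.mk p.asIdeal a) *
          Module.length (Localization.AtPrime p.asIdeal)
            (LocalizedModule p.asIdeal.primeCompl M)) =
      ∑ p ∈ F, Ring.ord (A ⧸ p.asIdeal) (Ideal.Quotient.mk p.asIdeal a) *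
          Module.length (Localization.AtPrime p.asIdeal)
            (LocalizedModule p.asIdeal.primeCompl M) := by
    have h2 : (∑ᶠ (p : PrimeSpectrum A) (_ : p ∈ Module.support A M ∧
        p.asIdeal ≠ IsLocalRing.maximalIdeal A),
          Ring.ord (A ⧸ p.asIdeal) (Ideal.Quotient.mk p.asIdeal a) *
            Module.length (Localization.AtPrime p.asIdeal)
              (LocalizedModule p.asIdeal.primeCompl M)) =
        ∑ᶠ p ∈ {p : PrimeSpectrum A | p ∈ Module.support A M ∧
          p.asIdeal ≠ IsLocalRing.maximalIdeal A},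
            Ring.ord (A ⧸ p.asIdeal) (Ideal.Quotient.mk p.asIdeal a) *
              Module.length (Localization.AtPrime p.asIdeal)
                (LocalizedModule p.asIdeal.primeCompl M) := rfl
    rw [h2, hset, finsum_mem_coe_finset]
  rw [hsum] at res
  have hμ : ∀ p ∈ F, Module.length (Localization.AtPrime p.asIdeal)
      (LocalizedModule p.asIdeal.primeCompl M) ≠ ⊤ := fun p hp =>
    length_localization_ne_top M p.asIdeal ((hF p).mp hp)
  have ho : ∀ p ∈ F, Ring.ord (A ⧸ p.asIdeal) (Ideal.Quotient.mk p.asIdeal a) ≠ ⊤ := by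
    intro p hp
    have hdimq : ringKrullDim (A ⧸ p.asIdeal) ≤ 1 :=
      (ringKrullDim_quotient_le _).trans (le_of_eq hA)
    have : Ring.KrullDimLE 1 (A ⧸ p.asIdeal) := Ring.krullDimLE_iff.mpr hdimq
    have ha' : Ideal.Quotient.mk p.asIdeal a ≠ 0 := by
      rw [Ne, Ideal.Quotient.eq_zero_iff_mem]
      exact fun h => notMem_nonZeroDivisors_of_mem_mem_minimalPrimes h ((hF p).mp hp) ha
    exact Ring.ord_ne_top (mem_nonZeroDivisors_of_ne_zero ha')
  have hterm : ∀ p ∈ F, Ring.ord (A ⧸ p.asIdeal) (Ideal.Quotient.mk p.asIdeal a) *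
      Module.length (Localization.AtPrime p.asIdeal)
        (LocalizedModule p.asIdeal.primeCompl M) ≠ ⊤ := fun p hp =>
    WithTop.mul_ne_top (ho p hp) (hμ p hp)
  refine ⟨by rw [res]; exact ENat.sum_ne_top.mpr hterm, ?_⟩
  rw [res, ENat.toNat_sum hterm]
  push_cast
  refine Finset.sum_congr rfl fun p _ => ?_
  rw [ENat.toNat_mul]
  push_cast
  ring

/-- the case `M = A`. -/
theorem length_quot_span_eq_sum (hA : ringKrullDim A = 1) (a : A) (ha : a ∈ nonZeroDivisors A)
    (F : Finset (PrimeSpectrum A)) (hF : ∀ p, p ∈ F ↔ p.asIdeal ∈ minimalPrimes A) :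
    Module.length A (A ⧸ Ideal.span {a}) ≠ ⊤ ∧
    ((Module.length A (A ⧸ Ideal.span {a})).toNat : ℤ) =
      ∑ p ∈ F, ((Module.length (Localization.AtPrime p.asIdeal)
        (LocalizedModule p.asIdeal.primeCompl A)).toNat : ℤ) *
          ((Ring.ord (A ⧸ p.asIdeal) (Ideal.Quotient.mk p.asIdeal a)).toNat : ℤ) := by
  have hrange : LinearMap.range (LinearMap.lsmul A A a) = Ideal.span {a} := by
    ext z
    rw [LinearMap.mem_range, Ideal.mem_span_singleton']
    constructor
    · rintro ⟨w, rfl⟩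
      exact ⟨w, by rw [LinearMap.lsmul_apply, smul_eq_mul, mul_comm]⟩
    · rintro ⟨w, rfl⟩
      exact ⟨w, by rw [LinearMap.lsmul_apply, smul_eq_mul, mul_comm]⟩
  have hsupp : Module.support A A = Set.univ := by
    rw [Module.support_of_algebra]
    have : RingHom.ker (algebraMap A A) = ⊥ := by
      rw [← RingHom.injective_iff_ker_eq_bot]
      exact Function.injective_id
    rw [this]
    simp
  have hreg : IsSMulRegular A a := by
    intro z w hzw
    have h1 : (z - w) * a = 0 := by
      have h2 : a * z = a * w := hzw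
      rw [sub_mul, mul_comm z a, mul_comm w a, h2, sub_self]
    exact sub_eq_zero.mp (mem_nonZeroDivisors_iff_right.mp ha _ h1)
  have key := length_quot_smul_eq_sum' hA hsupp a ha hreg F hF
  rw [hrange] at key
  exact key

theorem length_self_eq_of_ringEquiv {R S : Type u} [CommRing R] [CommRing S] (e : R ≃+* S) :
    Module.length R R = Module.length S S := by
  letI : Algebra R S := e.toRingHom.toAlgebra
  have h1 : Module.length R S = Module.length S S :=
    Module.length_eq_of_surjective (S := R) (R := S) (M := S) e.surjective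
  have h2 : Module.length R R = Module.length R S :=
    (LinearEquiv.ofBijective (Algebra.linearMap R S) e.bijective).length_eq
  rw [h2, h1]

theorem length_localizedModule_self {B : Type u} [CommRing B] (S : Submonoid B) :
    Module.length (Localization S) (LocalizedModule S B) =
      Module.length (Localization S) (Localization S) := by
  let l : LocalizedModule S B ≃ₗ[B] Localization S :=
    IsLocalizedModule.iso S (Algebra.linearMap B (Localization S))
  exact (LinearEquiv.extendScalarsOfIsLocalization S (Localization S) l).length_eq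

/-- difference of colengths of two principal ideals generated by nonzerodivisors in a
one-dimensional Noetherian local ring. -/
theorem length_sub_length_eq_sum (hA : ringKrullDim A = 1) (a b : A)
    (ha : a ∈ nonZeroDivisors A) (hb : b ∈ nonZeroDivisors A)
    (F : Finset (PrimeSpectrum A)) (hF : ∀ p, p ∈ F ↔ p.asIdeal ∈ minimalPrimes A) :
    ((Module.length A (A ⧸ Ideal.span {a})).toNat : ℤ) -
      ((Module.length A (A ⧸ Ideal.span {b})).toNat : ℤ) =
      ∑ p ∈ F, ((Module.length (Localization.AtPrime p.asIdeal)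
        (Localization.AtPrime p.asIdeal)).toNat : ℤ) *
          (((Ring.ord (A ⧸ p.asIdeal) (Ideal.Quotient.mk p.asIdeal a)).toNat : ℤ) -
            ((Ring.ord (A ⧸ p.asIdeal) (Ideal.Quotient.mk p.asIdeal b)).toNat : ℤ)) := by
  rw [(length_quot_span_eq_sum hA a ha F hF).2, (length_quot_span_eq_sum hA b hb F hF).2,
    ← Finset.sum_sub_distrib]
  refine Finset.sum_congr rfl fun p _ => ?_
  rw [length_localizedModule_self]
  ring

end algebra

section scheme

variable {X Y : Scheme.{u}}

theorem fromSpecStalk_ker_specMap (x ξ : X) (h : ξ ⤳ x) :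
    X.fromSpecStalk x ⟨RingHom.ker (Cyc.specMap x ξ h), inferInstance⟩ = ξ := by
  have h2 : (Spec.map (X.presheaf.stalkSpecializes h) ≫ X.fromSpecStalk x)
      (IsLocalRing.closedPoint (X.presheaf.stalk ξ)) = ξ := by
    rw [Scheme.SpecMap_stalkSpecializes_fromSpecStalk h]
    exact Scheme.fromSpecStalk_closedPoint
  rw [Scheme.Hom.comp_apply] at h2
  have h3 : Spec.map (X.presheaf.stalkSpecializes h)
      (IsLocalRing.closedPoint (X.presheaf.stalk ξ)) =
      ⟨RingHom.ker (Cyc.specMap x ξ h), inferInstance⟩ := by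
    rw [Spec.map_apply]
    apply PrimeSpectrum.ext
    ext b
    change b ∈ Ideal.comap _ (IsLocalRing.maximalIdeal _) ↔ _
    rw [Ideal.mem_comap, RingHom.mem_ker, ← IsLocalRing.residue_eq_zero_iff]
    rfl
  rw [h3] at h2
  exact h2

theorem ker_specMap_fromSpecStalk (x : X) (q : Ideal (X.presheaf.stalk x)) [hq : q.IsPrime]
    (h : X.fromSpecStalk x ⟨q, hq⟩ ⤳ x) :
    RingHom.ker (Cyc.specMap x (X.fromSpecStalk x ⟨q, hq⟩) h) = q := by
  apply Groth.Agent.Lib.Helper4.DimFormula.fromSpecStalk_injective x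
  exact fromSpecStalk_ker_specMap x _ h

theorem isLocalization_atPrime_stalkSpecializes (x ξ : X) (h : ξ ⤳ x) :
    letI := (X.presheaf.stalkSpecializes h).hom.toAlgebra
    IsLocalization.AtPrime (X.presheaf.stalk ξ) (RingHom.ker (Cyc.specMap x ξ h)) := by
  letI := (X.presheaf.stalkSpecializes h).hom.toAlgebra
  obtain ⟨M, hM⟩ := Groth.Agent.Lib.Helper5.StalkSpec.exists_isLocalization_stalkSpecializes X h
  haveI := hM
  have key : ∀ r : X.presheaf.stalk x,
      IsUnit (algebraMap (X.presheaf.stalk x) (X.presheaf.stalk ξ) r) ↔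
        r ∉ RingHom.ker (Cyc.specMap x ξ h) := by
    intro r
    rw [RingHom.mem_ker]
    exact (IsLocalRing.residue_ne_zero_iff_isUnit _).symm
  refine IsLocalization.of_le M _ ?_ ?_
  · intro m hm
    exact (key m).mp (IsLocalization.map_units _ ⟨m, hm⟩)
  · intro r hr
    exact (key r).mpr hr

theorem length_stalk_eq_length_localization (x ξ : X) (h : ξ ⤳ x)
    (q : Ideal (X.presheaf.stalk x)) [q.IsPrime] (hq : RingHom.ker (Cyc.specMap x ξ h) = q) :
    Module.length (X.presheaf.stalk ξ) (X.presheaf.stalk ξ) =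
      Module.length (Localization.AtPrime q) (Localization.AtPrime q) := by
  subst hq
  letI := (X.presheaf.stalkSpecializes h).hom.toAlgebra
  haveI := isLocalization_atPrime_stalkSpecializes x ξ h
  exact (length_self_eq_of_ringEquiv
    (IsLocalization.algEquiv (RingHom.ker (Cyc.specMap x ξ h)).primeCompl
      (Localization.AtPrime (RingHom.ker (Cyc.specMap x ξ h)))
      (X.presheaf.stalk ξ)).toRingEquiv).symm

/-- evaluation of one term of the sum. -/
theorem divFun_term_eq [IsLocallyNoetherian X] (δX : X → ℤ) (hδX : Cyc.IsDimFun X δX)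
    (f : X ⟶ Y) (x ξ : X) (η : Y) (h : ξ ⤳ x) (hdim : δX x + 1 = δX ξ) (e : η = f ξ)
    (hy : η ⤳ f x) (a b : Y.presheaf.stalk (f x))
    (ha : Cyc.specMap (f x) η hy a ≠ 0) (hb : Cyc.specMap (f x) η hy b ≠ 0)
    (q : Ideal (X.presheaf.stalk x)) [q.IsPrime] (hq : RingHom.ker (Cyc.specMap x ξ h) = q) :
    Cyc.divFun δX ξ ((f.residueFieldMap ξ).hom ((Y.residueFieldCongr e).hom
      (Cyc.specMap (f x) η hy a / Cyc.specMap (f x) η hy b))) x =
      ((Ring.ord (X.presheaf.stalk x ⧸ q)
        (Ideal.Quotient.mk q ((f.stalkMap x).hom a))).toNat : ℤ) -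
      ((Ring.ord (X.presheaf.stalk x ⧸ q)
        (Ideal.Quotient.mk q ((f.stalkMap x).hom b))).toNat : ℤ) := by
  subst e
  have hc : ∀ c, (f.residueFieldMap ξ).hom ((Y.residueFieldCongr (rfl : f ξ = f ξ)).hom
      (Cyc.specMap (f x) (f ξ) hy c)) = Cyc.specMap x ξ h ((f.stalkMap x).hom c) :=
    fun c => specMap_compat f x ξ h hy c
  simp only [Cyc.divFun]
  rw [dif_pos ⟨h, hdim⟩, map_div₀, map_div₀, hc, hc]
  have hinj := algebraMap_locQuot_injective x ξ h
  have ha' : Ideal.Quotient.mk (RingHom.ker (Cyc.specMap x ξ h)) ((f.stalkMap x).hom a) ≠ 0 := by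
    intro h0
    have h1 := algebraMap_locQuot_mk x ξ h ((f.stalkMap x).hom a)
    rw [h0, map_zero, ← hc a] at h1
    exact ha ((map_eq_zero _).mp ((map_eq_zero _).mp h1.symm))
  have hb' : Ideal.Quotient.mk (RingHom.ker (Cyc.specMap x ξ h)) ((f.stalkMap x).hom b) ≠ 0 := by
    intro h0
    have h1 := algebraMap_locQuot_mk x ξ h ((f.stalkMap x).hom b)
    rw [h0, map_zero, ← hc b] at h1
    exact hb ((map_eq_zero _).mp ((map_eq_zero _).mp h1.symm))
  rw [← algebraMap_locQuot_mk, ← algebraMap_locQuot_mk]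
  unfold Cyc.ordAt
  haveI := isFractionRing_locQuot x ξ h
  have hdX := ringKrullDim_locQuot_le_one δX hδX x ξ h hdim
  rw [Groth.Agent.Lib.Helper5.DetLattice.ordFrac_div (Cyc.LocQuot x ξ h) hdX (X.residueField ξ)
    ha' hb',
    ord_quotient_mk (RingHom.ker (Cyc.specMap x ξ h)) ((f.stalkMap x).hom a),
    ord_quotient_mk (RingHom.ker (Cyc.specMap x ξ h)) ((f.stalkMap x).hom b), hq,
    ← ord_quotient_mk q, ← ord_quotient_mk q]

/-- a maximal point of `X` maps to the generic point of `Y` under a flat morphism. -/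
theorem map_eq_genericPoint_of_maximal [IsIntegral Y] (f : X ⟶ Y) [Flat f] (ξ : X)
    (hmax : ∀ x' : X, x' ⤳ ξ → x' = ξ) : f ξ = genericPoint Y := by
  obtain ⟨ξ', hξ', hfξ'⟩ := (Flat.generalizingMap f) (genericPoint_specializes (f ξ))
  rw [← hfξ', hmax ξ' hξ']

set_option maxHeartbeats 1600000 in
/-- Flat pullback of the principal divisor of a rational function: sum over the irreducible
components of the source. -/
theorem pullFun_divFun_sum (X Y : Scheme.{u}) [IsIntegral Y] (δX : X → ℤ) (δY : Y → ℤ)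
    (hX : Cyc.IsSetup X δX) (hY : Cyc.IsSetup Y δY) (f : X ⟶ Y) [Flat f] [LocallyOfFiniteType f]
    (r : ℕ) (hr : Cyc.HasRelDim f r) (hδ : Cyc.DeltaCompat f δX δY) (k : ℤ)
    (hk : δY (genericPoint Y) = k) (g : Y.residueField (genericPoint Y)) (hg : g ≠ 0) (x : X) :
    Cyc.pullFun f δX δY r (Cyc.divFun δY (genericPoint Y) g) x =
      ∑ᶠ ξ : {ξ : X // (∀ x' : X, x' ⤳ ξ → x' = ξ) ∧ f ξ = genericPoint Y},
        ((Module.length (X.presheaf.stalk ξ.1) (X.presheaf.stalk ξ.1)).toNat : ℤ) *
          Cyc.divFun δX ξ.1 (f.residueFieldMap ξ.1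
            ((Y.residueFieldCongr ξ.2.2.symm).hom g)) x := by
  classical
  haveI : IsLocallyNoetherian X := hX.1
  haveI : IsLocallyNoetherian Y := hY.1
  have hy : genericPoint Y ⤳ f x := genericPoint_specializes _
  have hδS : ∀ ξ : X, (∀ x' : X, x' ⤳ ξ → x' = ξ) → f ξ = genericPoint Y → δX ξ = k + r := by
    intro ξ hmax hfξ
    have hgen : IsGen f ξ := fun y _ hys => hmax y hys
    rw [delta_eq_of_isGen f r hr δX δY hδ ξ hgen, hfξ, hk]
  have hg' : ∀ (ξ : X) (e : genericPoint Y = f ξ), (Y.residueFieldCongr e).hom g ≠ 0 := by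
    intro ξ e
    exact (map_ne_zero _).mpr hg
  have F3 := delta_le f r hr δX δY hδ x
  by_cases hII : δX x + 1 = k + r
  swap
  · -- Case I
    have hL : Cyc.pullFun f δX δY r (Cyc.divFun δY (genericPoint Y) g) x = 0 := by
      simp only [Cyc.pullFun, Cyc.divFun]
      by_cases hA : δX x = δY (f x) + r
      · rw [if_pos hA, dif_neg, zero_mul]
        rintro ⟨-, hB⟩
        apply hII
        rw [hk] at hB
        omega
      · rw [if_neg hA]
    rw [hL]
    symm
    apply finsum_eq_zero_of_forall_eq_zero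
    rintro ⟨ξ, hmax, hfξ⟩
    simp only [Cyc.divFun]
    rw [dif_neg, mul_zero]
    rintro ⟨-, hB⟩
    apply hII
    rw [hδS ξ hmax hfξ] at hB
    exact hB
  by_cases hA : δX x = δY (f x) + r
  swap
  · -- Case IIa
    have hL : Cyc.pullFun f δX δY r (Cyc.divFun δY (genericPoint Y) g) x = 0 := by
      simp only [Cyc.pullFun]
      rw [if_neg hA]
    rw [hL]
    symm
    apply finsum_eq_zero_of_forall_eq_zero
    rintro ⟨ξ, hmax, hfξ⟩
    have hyη : genericPoint Y = f x := by
      by_contra hne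
      have := (hY.2.2 (genericPoint Y) (f x) hy hne).1
      rw [hk] at this
      omega
    simp only [Cyc.divFun]
    by_cases hc : ξ ⤳ x ∧ δX x + 1 = δX ξ
    · rw [dif_pos hc]
      have h0 := ordAt_eq_zero_of_fiber f x ξ hc.1 (hfξ.trans hyη)
        ((Y.residueFieldCongr hfξ.symm).hom g) (hg' ξ hfξ.symm)
      exact mul_eq_zero_of_right _ h0
    · rw [dif_neg hc, mul_zero]
  -- Case IIb
  have hB : δY (f x) + 1 = δY (genericPoint Y) := by rw [hk]; omega
  have hL : Cyc.pullFun f δX δY r (Cyc.divFun δY (genericPoint Y) g) x =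
      Cyc.ordAt (f x) (genericPoint Y) hy g *
        ((Module.length (X.presheaf.stalk x) (X.presheaf.stalk x ⧸
          Ideal.map (f.stalkMap x).hom
            (maximalIdeal (Y.presheaf.stalk (f x))))).toNat : ℤ) := by
    simp only [Cyc.pullFun, Cyc.divFun]
    rw [if_pos hA, dif_pos ⟨hy, hB⟩]
  rw [hL]
  -- write `g = a / b`
  haveI := isFractionRing_locQuot (f x) (genericPoint Y) hy
  obtain ⟨a0, b0, hb0, hab⟩ :=
    IsFractionRing.div_surjective (A := Cyc.LocQuot (f x) (genericPoint Y) hy) g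
  obtain ⟨a, rfl⟩ := Ideal.Quotient.mk_surjective a0
  obtain ⟨b, rfl⟩ := Ideal.Quotient.mk_surjective b0
  have hmkb : Ideal.Quotient.mk (RingHom.ker (Cyc.specMap (f x) (genericPoint Y) hy)) b ≠ 0 :=
    nonZeroDivisors.ne_zero hb0
  rw [algebraMap_locQuot_mk, algebraMap_locQuot_mk] at hab
  have hsb : Cyc.specMap (f x) (genericPoint Y) hy b ≠ 0 := by
    intro h0
    apply hmkb
    apply algebraMap_locQuot_injective (f x) (genericPoint Y) hy
    rw [algebraMap_locQuot_mk, h0, map_zero]
  have hsa : Cyc.specMap (f x) (genericPoint Y) hy a ≠ 0 := by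
    intro h0
    apply hg
    rw [← hab, h0, zero_div]
  have hmka : Ideal.Quotient.mk (RingHom.ker (Cyc.specMap (f x) (genericPoint Y) hy)) a ≠ 0 := by
    intro h0
    apply hsa
    rw [← algebraMap_locQuot_mk, h0, map_zero]
  subst hab
  have hpY : RingHom.ker (Cyc.specMap (f x) (genericPoint Y) hy) = ⊥ :=
    ker_specMap_genericPoint (f x) hy
  have ha_ne : a ≠ 0 := fun h0 => hsa (by rw [h0, map_zero])
  have hb_ne : b ≠ 0 := fun h0 => hsb (by rw [h0, map_zero])
  have hflat : (f.stalkMap x).hom.Flat := (Flat.iff_flat_stalkMap f).mp inferInstance x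
  have hdY := ringKrullDim_locQuot_le_one δY hY.2.2 (f x) (genericPoint Y) hy hB
  have hordY : Cyc.ordAt (f x) (genericPoint Y) hy
      (Cyc.specMap (f x) (genericPoint Y) hy a / Cyc.specMap (f x) (genericPoint Y) hy b) =
      ((Module.length (Y.presheaf.stalk (f x))
        (Y.presheaf.stalk (f x) ⧸ Ideal.span {a})).toNat : ℤ) -
      ((Module.length (Y.presheaf.stalk (f x))
        (Y.presheaf.stalk (f x) ⧸ Ideal.span {b})).toNat : ℤ) := by
    unfold Cyc.ordAt
    rw [← algebraMap_locQuot_mk, ← algebraMap_locQuot_mk,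
      Groth.Agent.Lib.Helper5.DetLattice.ordFrac_div (Cyc.LocQuot (f x) (genericPoint Y) hy) hdY
        (Y.residueField (genericPoint Y)) hmka hmkb,
      ord_quotient_mk, ord_quotient_mk, hpY, bot_sup_eq, bot_sup_eq]
  have hlenB : ∀ c : Y.presheaf.stalk (f x),
      Module.length (X.presheaf.stalk x)
        (X.presheaf.stalk x ⧸ Ideal.span {(f.stalkMap x).hom c}) =
      Module.length (Y.presheaf.stalk (f x)) (Y.presheaf.stalk (f x) ⧸ Ideal.span {c}) *
        Module.length (X.presheaf.stalk x) (X.presheaf.stalk x ⧸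
          Ideal.map (f.stalkMap x).hom (maximalIdeal (Y.presheaf.stalk (f x)))) := by
    intro c
    rw [← length_quot_map (f.stalkMap x).hom hflat, Ideal.map_span, Set.image_singleton]
  have hLHS : Cyc.ordAt (f x) (genericPoint Y) hy
      (Cyc.specMap (f x) (genericPoint Y) hy a / Cyc.specMap (f x) (genericPoint Y) hy b) *
        ((Module.length (X.presheaf.stalk x) (X.presheaf.stalk x ⧸
          Ideal.map (f.stalkMap x).hom
            (maximalIdeal (Y.presheaf.stalk (f x))))).toNat : ℤ) =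
      ((Module.length (X.presheaf.stalk x)
        (X.presheaf.stalk x ⧸ Ideal.span {(f.stalkMap x).hom a})).toNat : ℤ) -
      ((Module.length (X.presheaf.stalk x)
        (X.presheaf.stalk x ⧸ Ideal.span {(f.stalkMap x).hom b})).toNat : ℤ) := by
    rw [hordY, hlenB a, hlenB b, ENat.toNat_mul, ENat.toNat_mul]
    push_cast
    ring
  rw [hLHS]
  -- nonzerodivisors
  have hnzd : ∀ c : Y.presheaf.stalk (f x), c ≠ 0 →
      (f.stalkMap x).hom c ∈ nonZeroDivisors (X.presheaf.stalk x) := by
    intro c hc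
    letI := (f.stalkMap x).hom.toAlgebra
    haveI : Module.Flat (Y.presheaf.stalk (f x)) (X.presheaf.stalk x) := hflat
    have hreg : IsSMulRegular (X.presheaf.stalk x) c :=
      Module.Flat.isSMulRegular_of_nonZeroDivisors (mem_nonZeroDivisors_of_ne_zero hc)
    rw [mem_nonZeroDivisors_iff_right]
    intro z hz
    apply hreg
    change c • z = c • 0
    rw [smul_zero, Algebra.smul_def, mul_comm]
    exact hz
  -- facts about minimal primes of `O_{X,x}`
  have hfacts : ∀ q : PrimeSpectrum (X.presheaf.stalk x),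
      q.asIdeal ∈ minimalPrimes (X.presheaf.stalk x) →
      (∀ x' : X, x' ⤳ X.fromSpecStalk x q → x' = X.fromSpecStalk x q) ∧
        f (X.fromSpecStalk x q) = genericPoint Y := by
    intro q hq
    have h1 : ∀ x' : X, x' ⤳ X.fromSpecStalk x q → x' = X.fromSpecStalk x q :=
      (Groth.Agent.Lib.Helper4.DimFormula.mem_minimalPrimes_iff_fromSpecStalk_maximal x
        q.asIdeal).mp hq
    exact ⟨h1, map_eq_genericPoint_of_maximal f _ h1⟩
  have hspq : ∀ q : PrimeSpectrum (X.presheaf.stalk x), X.fromSpecStalk x q ⤳ x := fun q =>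
    Groth.Agent.Lib.Helper4.DimFormula.fromSpecStalk_specializes x q
  -- dimension one
  have hdimB : ringKrullDim (X.presheaf.stalk x) = 1 := by
    obtain ⟨𝔭, h𝔭min, h𝔭dim⟩ :=
      Groth.Agent.Lib.Helper4.DimFormula.exists_minimalPrimes_ringKrullDim_quotient_eq
        (R := X.presheaf.stalk x)
    haveI : 𝔭.IsPrime := h𝔭min.1.1
    obtain ⟨hmax', hf'⟩ := hfacts ⟨𝔭, inferInstance⟩ h𝔭min
    have hδ' := hδS _ hmax' hf'
    obtain ⟨k', hk', hδk'⟩ := Groth.Agent.Lib.Helper4.DimFormula.isDimFun_eq_add_locQuotDim X δX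
      hX.2.2 x _ (hspq ⟨𝔭, inferInstance⟩)
    have hk1 : k' = 1 := by omega
    have hker := ker_specMap_fromSpecStalk x 𝔭 (hspq ⟨𝔭, inferInstance⟩)
    change ringKrullDim (X.presheaf.stalk x ⧸ RingHom.ker _) = _ at hk'
    rw [hker, h𝔭dim, hk1] at hk'
    rw [hk']
    rfl
  obtain ⟨F, hF⟩ : ∃ F : Finset (PrimeSpectrum (X.presheaf.stalk x)),
      ∀ p, p ∈ F ↔ p.asIdeal ∈ minimalPrimes (X.presheaf.stalk x) := by
    have hfin : {p : PrimeSpectrum (X.presheaf.stalk x) |
        p.asIdeal ∈ minimalPrimes (X.presheaf.stalk x)}.Finite := by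
      refine Set.Finite.preimage ?_ (minimalPrimes.finite_of_isNoetherianRing (X.presheaf.stalk x))
      intro p _ q _ h
      exact PrimeSpectrum.ext h
    exact ⟨hfin.toFinset, fun p => by simp⟩
  rw [length_sub_length_eq_sum hdimB _ _ (hnzd a ha_ne) (hnzd b hb_ne) F hF]
  -- reindex the right-hand side
  let e : {q // q ∈ F} → {ξ : X // (∀ x' : X, x' ⤳ ξ → x' = ξ) ∧ f ξ = genericPoint Y} :=
    fun q => ⟨X.fromSpecStalk x q.1, hfacts q.1 ((hF q.1).mp q.2)⟩
  have he_inj : Function.Injective e := by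
    intro q q' hqq'
    have h1 := Subtype.ext_iff.mp hqq'
    exact Subtype.ext ((X.fromSpecStalk x).isEmbedding.injective h1)
  have hsupp : (Function.support fun ξ : {ξ : X // (∀ x' : X, x' ⤳ ξ → x' = ξ) ∧
      f ξ = genericPoint Y} =>
        ((Module.length (X.presheaf.stalk ξ.1) (X.presheaf.stalk ξ.1)).toNat : ℤ) *
          Cyc.divFun δX ξ.1 (f.residueFieldMap ξ.1
            ((Y.residueFieldCongr ξ.2.2.symm).hom
              (Cyc.specMap (f x) (genericPoint Y) hy a /
                Cyc.specMap (f x) (genericPoint Y) hy b))) x) ⊆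
      ↑(F.attach.image e) := by
    intro ξ hξ
    rw [Function.mem_support] at hξ
    have hsp : ξ.1 ⤳ x := by
      by_contra hns
      apply hξ
      simp only [Cyc.divFun]
      rw [dif_neg (fun h => hns h.1), mul_zero]
    obtain ⟨𝔭, h𝔭, h𝔭eq⟩ := Groth.Agent.Lib.Helper4.DimFormula.exists_prime_fromSpecStalk_eq hsp
    have h𝔭min : 𝔭 ∈ minimalPrimes (X.presheaf.stalk x) := by
      rw [Groth.Agent.Lib.Helper4.DimFormula.mem_minimalPrimes_iff_fromSpecStalk_maximal x 𝔭,
        h𝔭eq]
      exact ξ.2.1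
    rw [Finset.coe_image, Set.mem_image]
    refine ⟨⟨⟨𝔭, h𝔭⟩, (hF _).mpr h𝔭min⟩, Finset.mem_coe.mpr (Finset.mem_attach _ _), ?_⟩
    exact Subtype.ext h𝔭eq
  rw [finsum_eq_sum_of_support_subset _ hsupp, Finset.sum_image (fun q _ q' _ h => he_inj h),
    ← Finset.sum_attach F]
  refine Finset.sum_congr rfl fun q _ => ?_
  have hq1 := hfacts q.1 ((hF q.1).mp q.2)
  have hdimq : δX x + 1 = δX (X.fromSpecStalk x q.1) := by
    rw [hδS _ hq1.1 hq1.2]
    exact hII
  have hkerq := ker_specMap_fromSpecStalk x q.1.asIdeal (hspq q.1)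
  have hterm := divFun_term_eq δX hX.2.2 f x (X.fromSpecStalk x q.1) (genericPoint Y) (hspq q.1)
    hdimq hq1.2.symm hy a b hsa hsb q.1.asIdeal hkerq
  have hlen := length_stalk_eq_length_localization x (X.fromSpecStalk x q.1) (hspq q.1)
    q.1.asIdeal hkerq
  change _ = ((Module.length (X.presheaf.stalk (X.fromSpecStalk x q.1))
      (X.presheaf.stalk (X.fromSpecStalk x q.1))).toNat : ℤ) *
    Cyc.divFun δX (X.fromSpecStalk x q.1) ((f.residueFieldMap (X.fromSpecStalk x q.1)).hom
      ((Y.residueFieldCongr hq1.2.symm).hom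
        (Cyc.specMap (f x) (genericPoint Y) hy a /
          Cyc.specMap (f x) (genericPoint Y) hy b))) x
  rw [hterm, hlen]

end scheme

end Groth.Agent.Lib.Helper2.CycOrdSum
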