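import Mathlib
import Groth.Prelude.Def_Cyc
import Groth.Prelude.Def_Bivar
import Groth.Agent.Lib.Helper2CycOrd
import Groth.Agent.Lib.Helper2CycOrdSum

/-!
# Cycles and closed immersions (helper2)

For a closed immersion `i : D ⟶ X`:
* `ord_ringEquiv`, `ordFrac_of_surjective` (algebra);
* `ker_specMap_comap`, `ordAt_closedImm`: orders of vanishing on `D` and on `X` agree;
* `bijective_residueFieldMap`, `residueDegree_eq_one`;
* `map_closedImm_apply`, `map_closedImm_apply_of_notMem`: coefficients of `i_* α`;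
* `isDimFun_closedImm`, `isSetup_closedImm`;
* `divFun_closedImm`, `ratEquivZero_map_closedImm`: `i_*` preserves rational equivalence.
-/

set_option autoImplicit false
set_option linter.style.haveILetI false

universe u

open AlgebraicGeometry CategoryTheory IsLocalRing

namespace Groth.Agent.Lib.Helper2.CycClosedImm

open Groth.Agent.Lib.Helper2.CycOrd Groth.Agent.Lib.Helper2.CycOrdSum

section alg

theorem ord_ringEquiv {R S : Type u} [CommRing R] [CommRing S] (e : R ≃+* S) (x : R) :
    Ring.ord R x = Ring.ord S (e x) := by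
  unfold Ring.ord
  have h1 : Module.length R (R ⧸ Ideal.span {x}) =
      Module.length (R ⧸ Ideal.span {x}) (R ⧸ Ideal.span {x}) :=
    Module.length_eq_of_surjective Ideal.Quotient.mk_surjective
  have h2 : Module.length S (S ⧸ Ideal.span {e x}) =
      Module.length (S ⧸ Ideal.span {e x}) (S ⧸ Ideal.span {e x}) :=
    Module.length_eq_of_surjective Ideal.Quotient.mk_surjective
  rw [h1, h2]
  refine length_self_eq_of_ringEquiv (Ideal.quotientEquiv _ _ e ?_)
  rw [Ideal.map_span, Set.image_singleton]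
  rfl

theorem ordFrac_of_surjective {A B : Type u} [CommRing A] [CommRing B] [IsNoetherianRing A]
    (φ : A →+* B) (hφ : Function.Surjective φ) (p : Ideal A) (P : Ideal B) [p.IsPrime] [P.IsPrime]
    (hp : p = P.comap φ) (hdA : ringKrullDim (A ⧸ p) ≤ 1)
    (K L : Type u) [Field K] [Field L] [Algebra (A ⧸ p) K] [Algebra (B ⧸ P) L]
    [IsFractionRing (A ⧸ p) K] [IsFractionRing (B ⧸ P) L] (ψ : K →+* L)
    (hψ : ∀ a : A, ψ (algebraMap (A ⧸ p) K (Ideal.Quotient.mk p a)) =
      algebraMap (B ⧸ P) L (Ideal.Quotient.mk P (φ a)))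
    (g : K) (hg : g ≠ 0) :
    CycAlg.ordFrac (B ⧸ P) L (ψ g) = CycAlg.ordFrac (A ⧸ p) K g := by
  haveI : IsNoetherianRing B := isNoetherianRing_of_surjective A B φ hφ
  have hle : p ≤ P.comap φ := le_of_eq hp
  have hinj : Function.Injective (Ideal.quotientMap P φ hle) :=
    Ideal.quotientMap_injective' (le_of_eq hp.symm)
  have hsurj : Function.Surjective (Ideal.quotientMap P φ hle) :=
    Ideal.quotientMap_surjective hφ
  let e : (A ⧸ p) ≃+* (B ⧸ P) := RingEquiv.ofBijective (Ideal.quotientMap P φ hle) ⟨hinj, hsurj⟩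
  have he : ∀ a : A, e (Ideal.Quotient.mk p a) = Ideal.Quotient.mk P (φ a) := by
    intro a
    change Ideal.quotientMap P φ hle (Ideal.Quotient.mk p a) = _
    rw [Ideal.quotientMap_mk]
  have hdB : ringKrullDim (B ⧸ P) ≤ 1 :=
    (ringKrullDim_le_of_surjective (Ideal.quotientMap P φ hle) hsurj).trans hdA
  obtain ⟨a, b, hb, hab⟩ := IsFractionRing.div_surjective (A := A ⧸ p) g
  obtain ⟨a', rfl⟩ := Ideal.Quotient.mk_surjective a
  obtain ⟨b', rfl⟩ := Ideal.Quotient.mk_surjective b
  have hb0 : Ideal.Quotient.mk p b' ≠ 0 := nonZeroDivisors.ne_zero hb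
  have ha0 : Ideal.Quotient.mk p a' ≠ 0 := by
    intro h0
    apply hg
    rw [← hab, h0, map_zero, zero_div]
  have hne : ∀ c : A, Ideal.Quotient.mk p c ≠ 0 → Ideal.Quotient.mk P (φ c) ≠ 0 := by
    intro c hc h0
    apply hc
    apply hinj
    rw [Ideal.quotientMap_mk, h0, map_zero]
  have hA := Groth.Agent.Lib.Helper5.DetLattice.ordFrac_div (A ⧸ p) hdA K ha0 hb0
  have hB := Groth.Agent.Lib.Helper5.DetLattice.ordFrac_div (B ⧸ P) hdB L (hne a' ha0) (hne b' hb0)
  rw [← hab, map_div₀, hψ, hψ, hB, hA, ord_ringEquiv e, ord_ringEquiv e (Ideal.Quotient.mk p b'),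
    he, he]

end alg

section scheme

variable {X D : Scheme.{u}} (i : D ⟶ X) [IsClosedImmersion i]

theorem specializes_iff (d e : D) : i e ⤳ i d ↔ e ⤳ d :=
  i.isEmbedding.isInducing.specializes_iff

theorem ker_specMap_comap (d e : D) (h : e ⤳ d) (h' : i e ⤳ i d) :
    RingHom.ker (Cyc.specMap (i d) (i e) h') =
      (RingHom.ker (Cyc.specMap d e h)).comap (i.stalkMap d).hom := by
  ext a
  rw [Ideal.mem_comap, RingHom.mem_ker, RingHom.mem_ker, ← specMap_compat i d e h h' a]
  constructor
  · intro h0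
    rw [h0, map_zero]
  · intro h0
    exact (i.residueFieldMap e).hom.injective (by rw [h0, map_zero])

theorem ordAt_closedImm [IsLocallyNoetherian X] (d e : D) (h : e ⤳ d) (h' : i e ⤳ i d)
    (hdX : ringKrullDim (Cyc.LocQuot (i d) (i e) h') ≤ 1) (g : X.residueField (i e))
    (hg : g ≠ 0) :
    Cyc.ordAt d e h ((i.residueFieldMap e).hom g) = Cyc.ordAt (i d) (i e) h' g := by
  haveI := isFractionRing_locQuot d e h
  haveI := isFractionRing_locQuot (i d) (i e) h'
  unfold Cyc.ordAt
  refine ordFrac_of_surjective (i.stalkMap d).hom (i.stalkMap_surjective d) _ _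
    (ker_specMap_comap i d e h h') hdX _ _ (i.residueFieldMap e).hom ?_ g hg
  intro a
  rw [algebraMap_locQuot_mk, algebraMap_locQuot_mk]
  exact specMap_compat i d e h h' a

theorem bijective_residueFieldMap (e : D) : Function.Bijective (i.residueFieldMap e).hom := by
  refine ⟨(i.residueFieldMap e).hom.injective, ?_⟩
  intro z
  obtain ⟨b, rfl⟩ : ∃ b : D.presheaf.stalk e, D.residue e b = z := IsLocalRing.residue_surjective z
  obtain ⟨a, rfl⟩ := i.stalkMap_surjective e b
  refine ⟨X.residue (i e) a, ?_⟩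
  exact ConcreteCategory.congr_hom (Scheme.residue_residueFieldMap i e) a

theorem residueDegree_eq_one (e : D) : i.residueDegree e = 1 := by
  unfold Scheme.Hom.residueDegree
  letI := (i.residueFieldMap e).hom.toAlgebra
  have hb : Function.Bijective (algebraMap (X.residueField (i e)) (D.residueField e)) :=
    bijective_residueFieldMap i e
  exact (LinearEquiv.ofBijective (Algebra.linearMap (X.residueField (i e)) (D.residueField e))
    hb).finrank_eq.symm.trans (Module.finrank_self _)

theorem map_closedImm_apply (δ : X → ℤ) (α : AlgebraicCycle D ℤ) (d : D) :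
    AlgebraicCycle.map i (fun d => δ (i d)) δ α (i d) = α d := by
  classical
  simp only [AlgebraicCycle.map, Function.locallyFinsupp.map_apply]
  have hset : (i : D → X) ⁻¹' {i d} = {d} := by
    ext z
    simp only [Set.mem_preimage, Set.mem_singleton_iff]
    exact ⟨fun h => i.isEmbedding.injective h, fun h => by rw [h]⟩
  rw [hset, finsum_mem_singleton]
  simp only [AlgebraicCycle.mapCoeff]
  rw [if_pos trivial, residueDegree_eq_one]
  simp

theorem map_closedImm_apply_of_notMem (δ : X → ℤ) (α : AlgebraicCycle D ℤ) (x : X)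
    (hx : x ∉ Set.range i) : AlgebraicCycle.map i (fun d => δ (i d)) δ α x = 0 := by
  classical
  simp only [AlgebraicCycle.map, Function.locallyFinsupp.map_apply]
  have hset : (i : D → X) ⁻¹' {x} = ∅ := by
    ext z
    simp only [Set.mem_preimage, Set.mem_singleton_iff, Set.mem_empty_iff_false, iff_false]
    intro h
    exact hx ⟨z, h⟩
  rw [hset, finsum_mem_empty]

theorem isClosed_range : IsClosed (Set.range i) := i.isClosedEmbedding.isClosed_range

theorem mem_range_of_specializes {d : D} {x : X} (h : i d ⤳ x) : x ∈ Set.range i :=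
  (isClosed_range i).closure_subset_iff.mpr (Set.singleton_subset_iff.mpr ⟨d, rfl⟩)
    (specializes_iff_mem_closure.mp h)

theorem isDimFun_closedImm (δ : X → ℤ) (hδ : Cyc.IsDimFun X δ) :
    Cyc.IsDimFun D (fun d => δ (i d)) := by
  intro e d hed hne
  have h' : i e ⤳ i d := (specializes_iff i d e).mpr hed
  have hne' : i e ≠ i d := fun h => hne (i.isEmbedding.injective h)
  obtain ⟨h1, h2⟩ := hδ (i e) (i d) h' hne'
  refine ⟨h1, fun hz => h2 ?_⟩
  intro z hz1 hz2
  obtain ⟨z', rfl⟩ := mem_range_of_specializes i hz1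
  rcases hz z' ((specializes_iff i z' e).mp hz1) ((specializes_iff i d z').mp hz2) with h | h
  · left
    rw [h]
  · right
    rw [h]

theorem isUniversallyCatenary_of_surjective {A B : Type u} [CommRing A] [CommRing B]
    (φ : A →+* B) (hφ : Function.Surjective φ) (hA : CAlg.IsUniversallyCatenary A) :
    CAlg.IsUniversallyCatenary B := by
  haveI := hA.1
  refine ⟨isNoetherianRing_of_surjective A B φ hφ, ?_⟩
  intro S _ _ hS
  letI : Algebra A B := φ.toAlgebra
  letI : Algebra A S := ((algebraMap B S).comp φ).toAlgebra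
  haveI : IsScalarTower A B S := IsScalarTower.of_algebraMap_eq (fun _ => rfl)
  have h1 : Algebra.FiniteType A B := Algebra.FiniteType.of_surjective (Algebra.ofId A B) hφ
  exact hA.2 S (Algebra.FiniteType.trans h1 hS)

theorem isSetup_closedImm (δ : X → ℤ) (hX : Cyc.IsSetup X δ) :
    Cyc.IsSetup D (fun d => δ (i d)) := by
  haveI := hX.1
  refine ⟨LocallyOfFiniteType.isLocallyNoetherian i, ?_, isDimFun_closedImm i δ hX.2.2⟩
  intro d
  exact isUniversallyCatenary_of_surjective (i.stalkMap d).hom (i.stalkMap_surjective d)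
    (hX.2.1 (i d))

/-- principal divisors on `D` and on `X` agree. -/
theorem divFun_closedImm [IsLocallyNoetherian X] (δ : X → ℤ) (hδ : Cyc.IsDimFun X δ) (e d : D)
    (g : X.residueField (i e)) (hg : g ≠ 0) :
    Cyc.divFun (fun d => δ (i d)) e ((i.residueFieldMap e).hom g) d =
      Cyc.divFun δ (i e) g (i d) := by
  simp only [Cyc.divFun]
  by_cases hc : e ⤳ d ∧ δ (i d) + 1 = δ (i e)
  · have hc' : i e ⤳ i d ∧ δ (i d) + 1 = δ (i e) := ⟨(specializes_iff i d e).mpr hc.1, hc.2⟩
    rw [dif_pos hc, dif_pos hc']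
    exact ordAt_closedImm i d e hc.1 hc'.1
      (ringKrullDim_locQuot_le_one δ hδ (i d) (i e) hc'.1 hc.2) g hg
  · have hc' : ¬ (i e ⤳ i d ∧ δ (i d) + 1 = δ (i e)) := fun h =>
      hc ⟨(specializes_iff i d e).mp h.1, h.2⟩
    rw [dif_neg hc, dif_neg hc']

theorem divFun_closedImm_of_notMem (δ : X → ℤ) (e : D) (g : X.residueField (i e)) (x : X)
    (hx : x ∉ Set.range i) : Cyc.divFun δ (i e) g x = 0 := by
  simp only [Cyc.divFun]
  rw [dif_neg]
  intro h
  exact hx (mem_range_of_specializes i h.1)

/-- pushforward along a closed immersion preserves rational equivalence to zero. -/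
theorem ratEquivZero_map_closedImm [IsLocallyNoetherian X] (δ : X → ℤ) (hδ : Cyc.IsDimFun X δ)
    (k : ℤ) (θ : AlgebraicCycle D ℤ) (h : Cyc.RatEquivZero (fun d => δ (i d)) k θ) :
    Cyc.RatEquivZero δ k (AlgebraicCycle.map i (fun d => δ (i d)) δ θ) := by
  classical
  obtain ⟨ι, η, f, hη, hf, hlf, hsum⟩ := h
  choose g hg using fun j => (bijective_residueFieldMap i (η j)).2 (f j)
  have hg0 : ∀ j, g j ≠ 0 := by
    intro j h0
    apply hf j
    rw [← hg j, h0, map_zero]
  refine ⟨ι, fun j => i (η j), g, hη, hg0, ?_, ?_⟩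
  · intro x
    by_cases hx : x ∈ Set.range i
    · obtain ⟨d, rfl⟩ := hx
      obtain ⟨U, hUo, hdU, hfin⟩ := hlf d
      obtain ⟨V, hVo, hVU⟩ := i.isEmbedding.isInducing.isOpen_iff.mp hUo
      refine ⟨V, hVo, ?_, hfin.subset ?_⟩
      · have : d ∈ (i : D → X) ⁻¹' V := by rw [hVU]; exact hdU
        exact this
      · rintro j ⟨z, hz1, hz2⟩
        have hz1' : i (η j) ⤳ z := specializes_iff_mem_closure.mpr hz1
        obtain ⟨z', rfl⟩ := mem_range_of_specializes i hz1'
        refine ⟨z', specializes_iff_mem_closure.mp ((specializes_iff i z' (η j)).mp hz1'), ?_⟩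
        rw [← hVU]
        exact hz2
    · refine ⟨(Set.range i)ᶜ, (isClosed_range i).isOpen_compl, hx, ?_⟩
      convert Set.finite_empty
      ext j
      simp only [Set.mem_ofPred_eq, Set.mem_empty_iff_false, iff_false]
      rintro ⟨z, hz1, hz2⟩
      exact hz2 (mem_range_of_specializes i (specializes_iff_mem_closure.mpr hz1))
  · intro x
    by_cases hx : x ∈ Set.range i
    · obtain ⟨d, rfl⟩ := hx
      rw [map_closedImm_apply, hsum d]
      refine finsum_congr fun j => ?_
      rw [← hg j]
      exact divFun_closedImm i δ hδ (η j) d (g j) (hg0 j)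
    · rw [map_closedImm_apply_of_notMem i δ θ x hx]
      symm
      apply finsum_eq_zero_of_forall_eq_zero
      intro j
      exact divFun_closedImm_of_notMem i δ (η j) (g j) x hx

end scheme

end Groth.Agent.Lib.Helper2.CycClosedImm
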