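import Groth.Agent.Lib.Helper2CycRelDim
import Groth.Agent.Lib.Helper4DimFormulaAJ
import Groth.Agent.Lib.Helper4DimFormulaQ
import Groth.Agent.Lib.Helper4FibDimK
import Groth.Agent.Lib.Helper3LocDimBC

/-!
# Base change of `Cyc.HasRelDim`, shift conditions, and a variant of helper24's `PullFunComp.main`

* `delta_le_of_shift`: a shift condition at fibre-generic points gives `δ' x' ≤ δ (p x') + c`.
* `pullFun_comp'`: helper24's `main` needing only `IsLocallyNoetherian` + `IsDimFun` upstairs.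
* `fibreDimAt_eq_of_hasRelDim`, `hasRelDim_of_fibreDimAt`: `HasRelDim f r ↔ ∀ x, fibreDimAt f x = r`.
* `hasRelDim_of_isPullback`: `HasRelDim` is stable under base change.
-/

set_option autoImplicit false
set_option linter.style.haveILetI false
universe u

open TopologicalSpace Topology AlgebraicGeometry CategoryTheory CategoryTheory.Limits

namespace Groth.Agent.Lib.Helper2.CycBC

open Groth.Agent.Lib.Helper4.VarDim Groth.Agent.Lib.Helper4.FibDim
open Groth.Agent.Lib.Helper24PullFunComp Groth.Agent.Lib.Helper2.CycRelDim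

attribute [local instance] sectionsAlgebra Curv2.resAlgebra

theorem delta_le_of_shift {X' X : Scheme.{u}} [IsLocallyNoetherian X'] (p : X' ⟶ X) (δ : X → ℤ)
    (δ' : X' → ℤ) (hδ' : Cyc.IsDimFun X' δ') (c : ℤ)
    (hc : ∀ x' : X', IsGen p x' → δ' x' = δ (p x') + c) (x' : X') : δ' x' ≤ δ (p x') + c := by
  obtain ⟨ξ, hξs, hξp, hξg⟩ := exists_generic_in_fibre p x'
  by_cases hne : ξ = x'
  · rw [← hne]; exact (hc ξ hξg).le
  · have h1 := (hδ' ξ x' hξs hne).1
    have h2 := hc ξ hξg
    rw [hξp] at h2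
    omega

/-- helper24's `PullFunComp.main` with weaker hypotheses. -/
theorem pullFun_comp' (X X' X'' : Scheme.{u}) (p : X' ⟶ X) (p' : X'' ⟶ X') [Flat p] [Flat p']
    [IsLocallyNoetherian X'']
    (δ : X → ℤ) (δ' : X' → ℤ) (δ'' : X'' → ℤ) (hδ'' : Cyc.IsDimFun X'' δ'') (c c' : ℤ)
    (hc : ∀ x' : X', IsGen p x' → δ' x' = δ (p x') + c)
    (hc' : ∀ x'' : X'', IsGen p' x'' → δ'' x'' = δ' (p' x'') + c')
    (α : X → ℤ) :
    (∀ x'' : X'', IsGen (p' ≫ p) x'' → δ'' x'' = δ ((p' ≫ p) x'') + (c + c')) ∧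
    Cyc.pullFun (p' ≫ p) δ'' δ (c + c') α = Cyc.pullFun p' δ'' δ' c' (Cyc.pullFun p δ' δ c α) := by
  have part1 : ∀ x'' : X'', IsGen (p' ≫ p) x'' → δ'' x'' = δ ((p' ≫ p) x'') + (c + c') := by
    intro x'' hg
    obtain ⟨h1, h2⟩ := isGen_of_comp p' p x'' hg
    have e1 := hc' x'' h1
    have e2 := hc (p' x'') h2
    have e3 : (p' ≫ p) x'' = p (p' x'') := by simp
    rw [e3, e1, e2]; ring
  refine ⟨part1, ?_⟩
  funext x''
  have e3 : (p' ≫ p) x'' = p (p' x'') := by simp
  by_cases hL : δ'' x'' = δ ((p' ≫ p) x'') + (c + c')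
  · have hg := isGen_of_eq (p' ≫ p) δ'' δ hδ'' (c + c') part1 x'' hL
    obtain ⟨h1, h2⟩ := isGen_of_comp p' p x'' hg
    have e1 := hc' x'' h1
    have e2 := hc (p' x'') h2
    simp only [Cyc.pullFun]
    rw [if_pos hL, if_pos e1, if_pos e2]
    have hflat : (p'.stalkMap x'').hom.Flat := (Flat.iff_flat_stalkMap p').mp inferInstance x''
    have key := length_quot_comp (p.stalkMap (p' x'')).hom (p'.stalkMap x'').hom hflat
    have hcomp : ((p' ≫ p).stalkMap x'').hom =
        (p'.stalkMap x'').hom.comp (p.stalkMap (p' x'')).hom := by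
      rw [Scheme.Hom.stalkMap_comp]; rfl
    have key' : Module.length (X''.presheaf.stalk x'')
        (X''.presheaf.stalk x'' ⧸ Ideal.map ((p' ≫ p).stalkMap x'').hom
          (IsLocalRing.maximalIdeal (X.presheaf.stalk ((p' ≫ p) x'')))) =
        Module.length (X'.presheaf.stalk (p' x''))
          (X'.presheaf.stalk (p' x'') ⧸ Ideal.map (p.stalkMap (p' x'')).hom
            (IsLocalRing.maximalIdeal (X.presheaf.stalk (p (p' x''))))) *
        Module.length (X''.presheaf.stalk x'')
          (X''.presheaf.stalk x'' ⧸ Ideal.map (p'.stalkMap x'').hom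
            (IsLocalRing.maximalIdeal (X'.presheaf.stalk (p' x'')))) := by
      rw [hcomp]; exact key
    rw [key', ENat.toNat_mul]
    push_cast
    have : α ((p' ≫ p) x'') = α (p (p' x'')) := by rw [e3]
    rw [this]; ring
  · simp only [Cyc.pullFun]
    rw [if_neg hL]
    by_cases hR1 : δ'' x'' = δ' (p' x'') + c'
    · rw [if_pos hR1]
      by_cases hR2 : δ' (p' x'') = δ (p (p' x'')) + c
      · exfalso; apply hL; rw [e3, hR1, hR2]; ring
      · rw [if_neg hR2]; simp
    · rw [if_neg hR1]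

variable {X Y : Scheme.{u}} (f : X ⟶ Y)

theorem fibreDimAt_eq_of_hasRelDim [LocallyOfFiniteType f] (r : ℕ) (hr : Cyc.HasRelDim f r)
    (x : X) : FlatMor.fibreDimAt f x = r := by
  letI : (f.fiber (f x)).Over (Spec (CommRingCat.of (Y.residueField (f x)))) :=
    ⟨f.fiberToSpecResidueField (f x)⟩
  haveI : LocallyOfFiniteType ((f.fiber (f x)) ↘ Spec (CommRingCat.of (Y.residueField (f x)))) :=
    locallyOfFiniteType_fiberToSpecResidueField f _
  apply le_antisymm
  · refine (topologicalKrullDim_fiber_le_iff f (f x) r).mp ?_ x rfl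
    refine topologicalKrullDim_le_of_forall_trdegNat_le' (Y.residueField (f x)) (f.fiber (f x)) _
      fun t => ?_
    obtain ⟨η, hη, hηt⟩ := exists_generic_specializes t
    have h1 := hr (f x) _ hη
    rw [topologicalKrullDim_closure_singleton (Y.residueField (f x)) (f.fiber (f x))] at h1
    rw [← h1]
    exact_mod_cast trdegNat_le_of_specializes _ _ η t hηt
  · obtain ⟨η, hη, hηz⟩ := exists_generic_specializes (f.asFiber x)
    have h1 := hr (f x) _ hη
    rw [topologicalKrullDim_closure_singleton (Y.residueField (f x)) (f.fiber (f x))] at h1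
    have hmax : ∀ y : f.fiber (f x), y ⤳ η → y = η := fun y hy =>
      eq_of_specializes_generic η y hη hy
    have h2 := localDim_eq_trdegNat_of_maximal (Y.residueField (f x)) (f.fiber (f x)) η hmax
    have h3 : FlatMor.fibreDimAt f (f.fiberι (f x) η) = r := by
      rw [fibreDimAt_eq_fibLD, ← localDim_fiber_eq, h2, h1]
    rw [← h3]
    refine Groth.Agent.Lib.Helper4.DimFormula.fibreDimAt_le_of_specializes f _ x ?_
    have := hηz.map (f.fiberι (f x)).continuous
    rwa [f.fiberι_asFiber] at this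

theorem hasRelDim_of_fibreDimAt [LocallyOfFiniteType f] (r : ℕ)
    (h : ∀ x : X, FlatMor.fibreDimAt f x = r) : Cyc.HasRelDim f r := by
  intro y T hT
  letI : (f.fiber y).Over (Spec (CommRingCat.of (Y.residueField y))) :=
    ⟨f.fiberToSpecResidueField y⟩
  haveI : LocallyOfFiniteType ((f.fiber y) ↘ Spec (CommRingCat.of (Y.residueField y))) :=
    locallyOfFiniteType_fiberToSpecResidueField f _
  have hTc : IsClosed T := isClosed_of_mem_irreducibleComponents T hT
  obtain ⟨w, hw⟩ := QuasiSober.sober hT.1 hTc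
  rw [Groth.Agent.S19416.dim_eq_trdegNat_of_isGenericPoint (Y.residueField y) (f.fiber y) T hTc w
    hw]
  have hwmax : ∀ w' : f.fiber y, w' ⤳ w → w' = w := fun w' h =>
    eq_of_specializes_generic w w' (by rw [hw.def]; exact hT) h
  have h2 := localDim_eq_trdegNat_of_maximal (Y.residueField y) (f.fiber y) w hwmax
  rw [← h2, localDim_fiber_eq, ← fibreDimAt_eq_fibLD, h]

/-- `HasRelDim` is stable under base change. -/
theorem hasRelDim_of_isPullback {X S X' S' : Scheme.{u}} (f : X ⟶ S) [LocallyOfFiniteType f]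
    (g : S' ⟶ S) (g' : X' ⟶ X) (f' : X' ⟶ S') (hsq : IsPullback g' f' f g) (r : ℕ)
    (hr : Cyc.HasRelDim f r) : Cyc.HasRelDim f' r := by
  haveI : LocallyOfFiniteType f' := MorphismProperty.of_isPullback hsq ‹LocallyOfFiniteType f›
  refine hasRelDim_of_fibreDimAt f' r fun x' => ?_
  rw [Groth.Agent.Lib.Helper3.LocDimBC.fibreDimAt_eq_of_isPullback f g g' f' hsq x']
  exact fibreDimAt_eq_of_hasRelDim f r hr _

end Groth.Agent.Lib.Helper2.CycBC
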