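import Mathlib
import Groth.Prelude.Def_Cyc
import Groth.Agent.Lib.Helper2CycOrd
import Groth.Agent.Lib.Helper2CycOrdSum
import Groth.Agent.Lib.Helper2CycBC

/-!
# Flat pullback of a principal divisor: general points of the target (helper2)

Algebra:
* `quotient_map_mem_nonZeroDivisors`: `φ : A → B` flat, `𝔭` prime, `a ∉ 𝔭` ⟹ the class of `φ a` is a
  nonzerodivisor of `B/𝔭B`.
* `ord_quotient_quotient`: `ord_{(B/P)/(q/P)} = ord_{B/q}`.
* `length_localization_quotient`: `length ((B/P)_Q) = length (S/PS)` for `S = B_q`.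
* `ord_sub_ord_quotient_eq_sum`: the sum formula in `B/P`, indexed by the primes of `B` minimal over `P`.
* `ringKrullDim_quotient_eq_one`.
-/

set_option autoImplicit false
set_option linter.style.haveILetI false

universe u

open AlgebraicGeometry CategoryTheory IsLocalRing TensorProduct

namespace Groth.Agent.Lib.Helper2.CycOrdGen

open Groth.Agent.Lib.Helper24PullFunComp Groth.Agent.Lib.Helper2.CycRelDim
  Groth.Agent.Lib.Helper2.CycOrd Groth.Agent.Lib.Helper2.CycOrdSum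
  Groth.Agent.Lib.Helper2.CycBC Groth.Agent.Lib.Helper4.DimFormula

section algebra

theorem quotient_map_mem_nonZeroDivisors {A B : Type u} [CommRing A] [CommRing B] (φ : A →+* B)
    (hflat : φ.Flat) (𝔭 : Ideal A) [𝔭.IsPrime] (a : A) (ha : a ∉ 𝔭) :
    Ideal.Quotient.mk (𝔭.map φ) (φ a) ∈ nonZeroDivisors (B ⧸ 𝔭.map φ) := by
  letI := φ.toAlgebra
  haveI : Module.Flat A B := hflat
  let m : A ⧸ 𝔭 →ₗ[A] A ⧸ 𝔭 := LinearMap.lsmul A (A ⧸ 𝔭) a
  have hm : Function.Injective m := by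
    intro z w hzw
    have h1 : a • z = a • w := hzw
    have hane : Ideal.Quotient.mk 𝔭 a ≠ 0 := by rwa [Ne, Ideal.Quotient.eq_zero_iff_mem]
    rw [Algebra.smul_def, Algebra.smul_def, Ideal.Quotient.algebraMap_eq] at h1
    exact mul_left_cancel₀ hane h1
  have hinj : Function.Injective (m.lTensor B) :=
    Module.Flat.lTensor_preserves_injective_linearMap m hm
  rw [mem_nonZeroDivisors_iff_right]
  intro z hz
  obtain ⟨b, rfl⟩ := Ideal.Quotient.mk_surjective z
  have h2 : (m.lTensor B) (Algebra.TensorProduct.quotIdealMapEquivTensorQuot B 𝔭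
      (Ideal.Quotient.mk _ b)) =
      Algebra.TensorProduct.quotIdealMapEquivTensorQuot B 𝔭
        (Ideal.Quotient.mk _ b * Ideal.Quotient.mk _ (φ a)) := by
    rw [← map_mul, Algebra.TensorProduct.quotIdealMapEquivTensorQuot_mk,
      Algebra.TensorProduct.quotIdealMapEquivTensorQuot_mk, LinearMap.lTensor_tmul]
    change b ⊗ₜ[A] (a • (1 : A ⧸ 𝔭)) = (b * φ a) ⊗ₜ[A] 1
    rw [TensorProduct.tmul_smul, TensorProduct.smul_tmul', Algebra.smul_def, mul_comm]
    rfl
  have hz' : Ideal.Quotient.mk (Ideal.map (algebraMap A B) 𝔭) b *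
      Ideal.Quotient.mk (Ideal.map (algebraMap A B) 𝔭) (φ a) = 0 := hz
  rw [hz', map_zero] at h2
  have h3 : Algebra.TensorProduct.quotIdealMapEquivTensorQuot B 𝔭 (Ideal.Quotient.mk _ b) = 0 :=
    hinj (by rw [h2, map_zero])
  exact (Algebra.TensorProduct.quotIdealMapEquivTensorQuot B 𝔭).injective (h3.trans (map_zero _).symm)

theorem ord_quotient_quotient {B : Type u} [CommRing B] (P q : Ideal B) (hPq : P ≤ q)
    (Q : Ideal (B ⧸ P)) (hQ : Q = q.map (Ideal.Quotient.mk P)) (a : B) :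
    Ring.ord ((B ⧸ P) ⧸ Q) (Ideal.Quotient.mk Q (Ideal.Quotient.mk P a)) =
      Ring.ord (B ⧸ q) (Ideal.Quotient.mk q a) := by
  subst hQ
  rw [ord_quotient_mk, ord_quotient_mk]
  have h1 : q.map (Ideal.Quotient.mk P) ⊔ Ideal.span {Ideal.Quotient.mk P a} =
      (q ⊔ Ideal.span {a}).map (Ideal.Quotient.mk P) := by
    rw [Ideal.map_sup, Ideal.map_span, Set.image_singleton]
  rw [h1]
  have h2 : Module.length B ((B ⧸ P) ⧸ (q ⊔ Ideal.span {a}).map (Ideal.Quotient.mk P)) =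
      Module.length (B ⧸ P) ((B ⧸ P) ⧸ (q ⊔ Ideal.span {a}).map (Ideal.Quotient.mk P)) :=
    Module.length_eq_of_surjective Ideal.Quotient.mk_surjective
  rw [← h2]
  have h3 := (DoubleQuot.quotQuotEquivQuotSupₐ B P (q ⊔ Ideal.span {a})).toLinearEquiv.length_eq
  have h4 : P ⊔ (q ⊔ Ideal.span {a}) = q ⊔ Ideal.span {a} :=
    sup_eq_right.mpr (hPq.trans le_sup_left)
  rw [h4] at h3
  exact h3

theorem length_localization_quotient {B : Type u} [CommRing B] (P q : Ideal B) [q.IsPrime]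
    (Q : Ideal (B ⧸ P)) [Q.IsPrime] (hQ : Q.comap (Ideal.Quotient.mk P) = q)
    (S : Type u) [CommRing S] [Algebra B S] [IsLocalization.AtPrime S q] :
    Module.length (Localization.AtPrime Q) (Localization.AtPrime Q) =
      Module.length S (S ⧸ P.map (algebraMap B S)) := by
  have h1 : IsLocalization (Algebra.algebraMapSubmonoid (B ⧸ P) q.primeCompl)
      (S ⧸ P.map (algebraMap B S)) := inferInstance
  have hsub : Algebra.algebraMapSubmonoid (B ⧸ P) q.primeCompl = Q.primeCompl := by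
    ext z
    constructor
    · rintro ⟨b, hb, rfl⟩
      intro hz
      apply hb
      rw [← hQ]
      exact Ideal.mem_comap.mpr hz
    · intro hz
      obtain ⟨b, rfl⟩ := Ideal.Quotient.mk_surjective z
      refine ⟨b, ?_, rfl⟩
      intro hb
      apply hz
      rw [← hQ] at hb
      exact hb
  rw [hsub] at h1
  haveI := h1
  rw [length_self_eq_of_ringEquiv (IsLocalization.algEquiv Q.primeCompl (Localization.AtPrime Q)
    (S ⧸ P.map (algebraMap B S))).toRingEquiv]
  exact (Module.length_eq_of_surjective Ideal.Quotient.mk_surjective).symm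

theorem exists_finset_minimalPrimes (R : Type u) [CommRing R] [IsNoetherianRing R] (I : Ideal R) :
    ∃ G : Finset (PrimeSpectrum R), ∀ q, q ∈ G ↔ q.asIdeal ∈ I.minimalPrimes := by
  have hfin : {p : PrimeSpectrum R | p.asIdeal ∈ I.minimalPrimes}.Finite := by
    refine Set.Finite.preimage ?_ (Ideal.finite_minimalPrimes_of_isNoetherianRing R I)
    intro p _ q _ h
    exact PrimeSpectrum.ext h
  exact ⟨hfin.toFinset, fun p => by simp⟩

theorem ord_sub_ord_quotient_eq_sum {B : Type u} [CommRing B] [IsNoetherianRing B]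
    [IsLocalRing B] (P : Ideal B) (hP : P ≠ ⊤) (hdim : ringKrullDim (B ⧸ P) = 1) (a b : B)
    (ha : Ideal.Quotient.mk P a ∈ nonZeroDivisors (B ⧸ P))
    (hb : Ideal.Quotient.mk P b ∈ nonZeroDivisors (B ⧸ P))
    (G : Finset (PrimeSpectrum B)) (hG : ∀ q, q ∈ G ↔ q.asIdeal ∈ P.minimalPrimes)
    (μ : PrimeSpectrum B → ℕ∞)
    (hμ : ∀ q ∈ G, ∀ (Q : Ideal (B ⧸ P)) [Q.IsPrime],
      Q.comap (Ideal.Quotient.mk P) = q.asIdeal →
        Module.length (Localization.AtPrime Q) (Localization.AtPrime Q) = μ q) :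
    ((Ring.ord (B ⧸ P) (Ideal.Quotient.mk P a)).toNat : ℤ) -
        ((Ring.ord (B ⧸ P) (Ideal.Quotient.mk P b)).toNat : ℤ) =
      ∑ q ∈ G, ((μ q).toNat : ℤ) *
        (((Ring.ord (B ⧸ q.asIdeal) (Ideal.Quotient.mk q.asIdeal a)).toNat : ℤ) -
          ((Ring.ord (B ⧸ q.asIdeal) (Ideal.Quotient.mk q.asIdeal b)).toNat : ℤ)) := by
  haveI : Nontrivial (B ⧸ P) := Ideal.Quotient.nontrivial_iff.mpr hP
  haveI : IsLocalRing (B ⧸ P) :=
    IsLocalRing.of_surjective' (Ideal.Quotient.mk P) Ideal.Quotient.mk_surjective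
  obtain ⟨F, hF⟩ : ∃ F : Finset (PrimeSpectrum (B ⧸ P)),
      ∀ p, p ∈ F ↔ p.asIdeal ∈ minimalPrimes (B ⧸ P) := by
    obtain ⟨F, hF⟩ := exists_finset_minimalPrimes (B ⧸ P) ⊥
    exact ⟨F, hF⟩
  have key := length_sub_length_eq_sum hdim _ _ ha hb F hF
  change ((Module.length (B ⧸ P) ((B ⧸ P) ⧸ Ideal.span {Ideal.Quotient.mk P a})).toNat : ℤ) -
    ((Module.length (B ⧸ P) ((B ⧸ P) ⧸ Ideal.span {Ideal.Quotient.mk P b})).toNat : ℤ) = _
  rw [key]
  have hmem : ∀ Q : PrimeSpectrum (B ⧸ P), Q ∈ F →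
      (⟨Q.asIdeal.comap (Ideal.Quotient.mk P), inferInstance⟩ : PrimeSpectrum B) ∈ G := by
    intro Q hQ
    rw [hG, Ideal.minimalPrimes_eq_comap]
    exact ⟨Q.asIdeal, (hF Q).mp hQ, rfl⟩
  refine Finset.sum_bij (fun Q _ => (⟨Q.asIdeal.comap (Ideal.Quotient.mk P), inferInstance⟩ :
    PrimeSpectrum B)) hmem ?_ ?_ ?_
  · intro Q₁ _ Q₂ _ h12
    have h1 : Q₁.asIdeal.comap (Ideal.Quotient.mk P) = Q₂.asIdeal.comap (Ideal.Quotient.mk P) :=
      congrArg PrimeSpectrum.asIdeal h12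
    exact PrimeSpectrum.ext
      (Ideal.comap_injective_of_surjective _ Ideal.Quotient.mk_surjective h1)
  · intro q hq
    have hq' := (hG q).mp hq
    rw [Ideal.minimalPrimes_eq_comap] at hq'
    obtain ⟨Q, hQmin, hQeq⟩ := hq'
    haveI : Q.IsPrime := hQmin.1.1
    exact ⟨⟨Q, inferInstance⟩, (hF _).mpr hQmin, PrimeSpectrum.ext hQeq⟩
  · intro Q hQ
    have hq := hmem Q hQ
    rw [hμ _ hq Q.asIdeal rfl]
    have hQeq : Q.asIdeal = (Q.asIdeal.comap (Ideal.Quotient.mk P)).map (Ideal.Quotient.mk P) :=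
      (Ideal.map_comap_of_surjective _ Ideal.Quotient.mk_surjective Q.asIdeal).symm
    have hPq : P ≤ Q.asIdeal.comap (Ideal.Quotient.mk P) := ((hG _).mp hq).1.2
    rw [ord_quotient_quotient P _ hPq Q.asIdeal hQeq a,
      ord_quotient_quotient P _ hPq Q.asIdeal hQeq b]

theorem ringKrullDim_quotient_eq_one {B : Type u} [CommRing B] [IsNoetherianRing B]
    [IsLocalRing B] (P : Ideal B) (hP : P ≠ ⊤)
    (h : ∀ q ∈ P.minimalPrimes, ringKrullDim (B ⧸ q) = 1) : ringKrullDim (B ⧸ P) = 1 := by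
  haveI : Nontrivial (B ⧸ P) := Ideal.Quotient.nontrivial_iff.mpr hP
  haveI : IsLocalRing (B ⧸ P) :=
    IsLocalRing.of_surjective' (Ideal.Quotient.mk P) Ideal.Quotient.mk_surjective
  obtain ⟨Q, hQmin, hQdim⟩ :=
    Groth.Agent.Lib.Helper4.DimFormula.exists_minimalPrimes_ringKrullDim_quotient_eq (R := B ⧸ P)
  haveI : Q.IsPrime := hQmin.1.1
  have hq : Q.comap (Ideal.Quotient.mk P) ∈ P.minimalPrimes := by
    rw [Ideal.minimalPrimes_eq_comap]
    exact ⟨Q, hQmin, rfl⟩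
  have h1 := h _ hq
  have hPq : P ≤ Q.comap (Ideal.Quotient.mk P) := hq.1.2
  have h2 : ringKrullDim ((B ⧸ P) ⧸ (Q.comap (Ideal.Quotient.mk P)).map (Ideal.Quotient.mk P)) =
      ringKrullDim (B ⧸ Q.comap (Ideal.Quotient.mk P)) :=
    ringKrullDim_eq_of_ringEquiv (DoubleQuot.quotQuotEquivQuotOfLE hPq)
  rw [Ideal.map_comap_of_surjective _ Ideal.Quotient.mk_surjective Q] at h2
  rw [← hQdim, h2, h1]

end algebra

section scheme

variable {X X' : Scheme.{u}}

theorem map_ker_specMap_le (p : X' ⟶ X) (x' ζ : X') (hζ : ζ ⤳ x') (ξ : X) (e : ξ = p ζ)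
    (hx : ξ ⤳ p x') :
    (RingHom.ker (Cyc.specMap (p x') ξ hx)).map (p.stalkMap x').hom ≤
      RingHom.ker (Cyc.specMap x' ζ hζ) := by
  subst e
  rw [Ideal.map_le_iff_le_comap]
  intro a ha
  rw [Ideal.mem_comap, RingHom.mem_ker, ← specMap_compat p x' ζ hζ hx a, RingHom.mem_ker.mp ha,
    map_zero]

theorem map_map_ker_specMap (p : X' ⟶ X) (x' ζ : X') (hζ : ζ ⤳ x') (ξ : X) (e : ξ = p ζ)
    (hx : ξ ⤳ p x') :
    ((RingHom.ker (Cyc.specMap (p x') ξ hx)).map (p.stalkMap x').hom).map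
        (X'.presheaf.stalkSpecializes hζ).hom =
      Ideal.map (p.stalkMap ζ).hom (maximalIdeal (X.presheaf.stalk (p ζ))) := by
  subst e
  rw [Ideal.map_map]
  have hcomm : (X'.presheaf.stalkSpecializes hζ).hom.comp (p.stalkMap x').hom =
      (p.stalkMap ζ).hom.comp (X.presheaf.stalkSpecializes hx).hom := by
    ext a
    exact (Scheme.Hom.stalkSpecializes_stalkMap_apply p ζ x' hζ a).symm
  rw [hcomm, ← Ideal.map_map]
  congr 1
  letI := (X.presheaf.stalkSpecializes hx).hom.toAlgebra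
  haveI := isLocalization_atPrime_stalkSpecializes (p x') (p ζ) hx
  exact IsLocalization.AtPrime.map_eq_maximalIdeal (RingHom.ker (Cyc.specMap (p x') (p ζ) hx))
    (X.presheaf.stalk (p ζ))

/-- going down along a flat morphism, in terms of primes of the local ring. -/
theorem exists_prime_le_of_map_le (p : X' ⟶ X) [Flat p] (x' : X') (ξ : X) (hx : ξ ⤳ p x')
    (q : Ideal (X'.presheaf.stalk x')) [hq : q.IsPrime]
    (hPq : (RingHom.ker (Cyc.specMap (p x') ξ hx)).map (p.stalkMap x').hom ≤ q) :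
    ∃ (q' : Ideal (X'.presheaf.stalk x')) (hq' : q'.IsPrime), q' ≤ q ∧
      (RingHom.ker (Cyc.specMap (p x') ξ hx)).map (p.stalkMap x').hom ≤ q' ∧
      p (X'.fromSpecStalk x' ⟨q', hq'⟩) = ξ := by
  have hζx : X'.fromSpecStalk x' ⟨q, hq⟩ ⤳ x' := fromSpecStalk_specializes x' _
  have h1 : X.fromSpecStalk (p x') ⟨q.comap (p.stalkMap x').hom, Ideal.comap_isPrime _ _⟩ =
      p (X'.fromSpecStalk x' ⟨q, hq⟩) := fromSpecStalk_comap_stalkMap p x' q
  have h2 : X.fromSpecStalk (p x') ⟨RingHom.ker (Cyc.specMap (p x') ξ hx), inferInstance⟩ = ξ :=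
    fromSpecStalk_ker_specMap (p x') ξ hx
  have h3 : ξ ⤳ p (X'.fromSpecStalk x' ⟨q, hq⟩) := by
    have h4 := (fromSpecStalk_specializes_iff (p x') (RingHom.ker (Cyc.specMap (p x') ξ hx))
      (q.comap (p.stalkMap x').hom)).mpr (Ideal.map_le_iff_le_comap.mp hPq)
    rw [h2, h1] at h4
    exact h4
  obtain ⟨ζ', hζ'ζ, hpζ'⟩ := (Flat.generalizingMap p) h3
  obtain ⟨q', hq', hq'eq⟩ := exists_prime_fromSpecStalk_eq (hζ'ζ.trans hζx)
  refine ⟨q', hq', ?_, ?_, ?_⟩
  · rw [← fromSpecStalk_specializes_iff x' q' q, hq'eq]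
    exact hζ'ζ
  · have h5 := map_ker_specMap_le p x' ζ' (hζ'ζ.trans hζx) ξ hpζ'.symm hx
    have h6 : RingHom.ker (Cyc.specMap x' ζ' (hζ'ζ.trans hζx)) = q' := by
      subst hq'eq
      exact ker_specMap_fromSpecStalk x' q' _
    rw [h6] at h5
    exact h5
  · rw [hq'eq]
    exact hpζ'

theorem facts_of_mem_minimalPrimes (p : X' ⟶ X) [Flat p] (x' : X') (ξ : X) (hx : ξ ⤳ p x')
    (q : PrimeSpectrum (X'.presheaf.stalk x'))
    (hq : q.asIdeal ∈
      ((RingHom.ker (Cyc.specMap (p x') ξ hx)).map (p.stalkMap x').hom).minimalPrimes) :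
    p (X'.fromSpecStalk x' q) = ξ ∧ IsGen p (X'.fromSpecStalk x' q) := by
  haveI := q.2
  have hmin : ∀ (q' : Ideal (X'.presheaf.stalk x')) (_ : q'.IsPrime), q' ≤ q.asIdeal →
      (RingHom.ker (Cyc.specMap (p x') ξ hx)).map (p.stalkMap x').hom ≤ q' → q' = q.asIdeal :=
    fun q' hq' h1 h2 => le_antisymm h1 (hq.2 ⟨hq', h2⟩ h1)
  have hfirst : p (X'.fromSpecStalk x' q) = ξ := by
    obtain ⟨q', hq', h1, h2, h3⟩ := exists_prime_le_of_map_le p x' ξ hx q.asIdeal hq.1.2
    have h4 := hmin q' hq' h1 h2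
    subst h4
    exact h3
  refine ⟨hfirst, ?_⟩
  intro ζ'' hpζ'' hζ''
  have hζ''x : ζ'' ⤳ x' := hζ''.trans (fromSpecStalk_specializes x' q)
  have h1 : RingHom.ker (Cyc.specMap x' ζ'' hζ''x) ≤ q.asIdeal := by
    have h2 : X'.fromSpecStalk x' ⟨RingHom.ker (Cyc.specMap x' ζ'' hζ''x), inferInstance⟩ ⤳
        X'.fromSpecStalk x' ⟨q.asIdeal, q.2⟩ := by
      rw [fromSpecStalk_ker_specMap]
      exact hζ''
    exact (fromSpecStalk_specializes_iff x' _ _).mp h2
  have h3 := map_ker_specMap_le p x' ζ'' hζ''x ξ (hpζ''.trans hfirst).symm hx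
  have h4 := hmin _ inferInstance h1 h3
  have h5 := fromSpecStalk_ker_specMap x' ζ'' hζ''x
  rw [← h5]
  congr 1
  exact PrimeSpectrum.ext h4

theorem ker_specMap_mem_minimalPrimes (p : X' ⟶ X) (x' ζ : X') (hζ : ζ ⤳ x') (ξ : X)
    (e : ξ = p ζ) (hgen : IsGen p ζ) (hx : ξ ⤳ p x') :
    RingHom.ker (Cyc.specMap x' ζ hζ) ∈
      ((RingHom.ker (Cyc.specMap (p x') ξ hx)).map (p.stalkMap x').hom).minimalPrimes := by
  refine ⟨⟨inferInstance, map_ker_specMap_le p x' ζ hζ ξ e hx⟩, ?_⟩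
  rintro q' ⟨hq', hPq'⟩ hle
  have h1 : X'.fromSpecStalk x' ⟨q', hq'⟩ ⤳ ζ := by
    have h0 := (fromSpecStalk_specializes_iff x' q' (RingHom.ker (Cyc.specMap x' ζ hζ))).mpr hle
    rw [fromSpecStalk_ker_specMap] at h0
    exact h0
  have h2 : p (X'.fromSpecStalk x' ⟨q', hq'⟩) = p ζ := by
    have h3 : p (X'.fromSpecStalk x' ⟨q', hq'⟩) ⤳ p ζ := h1.map p.continuous
    have h4 : ξ ⤳ p (X'.fromSpecStalk x' ⟨q', hq'⟩) := by
      have h5 := (fromSpecStalk_specializes_iff (p x') (RingHom.ker (Cyc.specMap (p x') ξ hx))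
        (q'.comap (p.stalkMap x').hom)).mpr (Ideal.map_le_iff_le_comap.mp hPq')
      rw [fromSpecStalk_ker_specMap] at h5
      have h6 : X.fromSpecStalk (p x') ⟨q'.comap (p.stalkMap x').hom, Ideal.comap_isPrime _ _⟩ =
          p (X'.fromSpecStalk x' ⟨q', hq'⟩) := fromSpecStalk_comap_stalkMap p x' q'
      rw [h6] at h5
      exact h5
    rw [e] at h4
    exact (h3.antisymm h4).eq
  have h7 := hgen _ h2 h1
  have h8 : q' = RingHom.ker (Cyc.specMap x' ζ hζ) :=
    fromSpecStalk_injective x' q' _ (h7.trans (fromSpecStalk_ker_specMap x' ζ hζ).symm)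
  exact h8.ge

theorem length_localization_quotient_stalk (p : X' ⟶ X) (x' : X') (ξ : X) (hx : ξ ⤳ p x')
    (q : PrimeSpectrum (X'.presheaf.stalk x')) (e : ξ = p (X'.fromSpecStalk x' q))
    (Q : Ideal (X'.presheaf.stalk x' ⧸
      (RingHom.ker (Cyc.specMap (p x') ξ hx)).map (p.stalkMap x').hom)) [Q.IsPrime]
    (hQ : Q.comap (Ideal.Quotient.mk _) = q.asIdeal) :
    Module.length (Localization.AtPrime Q) (Localization.AtPrime Q) =
      Module.length (X'.presheaf.stalk (X'.fromSpecStalk x' q))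
        (X'.presheaf.stalk (X'.fromSpecStalk x' q) ⧸
          Ideal.map (p.stalkMap (X'.fromSpecStalk x' q)).hom
            (maximalIdeal (X.presheaf.stalk (p (X'.fromSpecStalk x' q))))) := by
  have hsp : X'.fromSpecStalk x' q ⤳ x' := fromSpecStalk_specializes x' q
  letI := (X'.presheaf.stalkSpecializes hsp).hom.toAlgebra
  haveI := q.2
  haveI : IsLocalization.AtPrime (X'.presheaf.stalk (X'.fromSpecStalk x' q)) q.asIdeal := by
    have h1 := isLocalization_atPrime_stalkSpecializes x' _ hsp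
    have h2 := ker_specMap_fromSpecStalk x' q.asIdeal hsp
    have hM : (RingHom.ker (Cyc.specMap x' (X'.fromSpecStalk x' q) hsp)).primeCompl =
        q.asIdeal.primeCompl := by
      ext z
      rw [Ideal.mem_primeCompl_iff, Ideal.mem_primeCompl_iff, h2]
    have h3 : IsLocalization (RingHom.ker (Cyc.specMap x' (X'.fromSpecStalk x' q) hsp)).primeCompl
      (X'.presheaf.stalk (X'.fromSpecStalk x' q)) := h1
    rw [hM] at h3
    exact h3
  rw [length_localization_quotient _ q.asIdeal Q hQ (X'.presheaf.stalk (X'.fromSpecStalk x' q))]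
  have h4 := map_map_ker_specMap p x' (X'.fromSpecStalk x' q) hsp ξ e hx
  have h5 : Ideal.map (algebraMap (X'.presheaf.stalk x') (X'.presheaf.stalk (X'.fromSpecStalk x' q)))
      ((RingHom.ker (Cyc.specMap (p x') ξ hx)).map (p.stalkMap x').hom) =
      Ideal.map (p.stalkMap (X'.fromSpecStalk x' q)).hom
        (maximalIdeal (X.presheaf.stalk (p (X'.fromSpecStalk x' q)))) := h4
  rw [h5]

set_option maxHeartbeats 1600000 in
/-- Flat pullback of the principal divisor of a rational function on the closure of an arbitrary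
point `ξ` of the target: sum over the points of the source that are generic in the fibre over `ξ`,
with multiplicity the length of the local ring of the fibre. -/
theorem pullFun_divFun_gen (X X' : Scheme.{u}) (δ : X → ℤ) (δ' : X' → ℤ) (hX : Cyc.IsSetup X δ)
    (hX' : Cyc.IsSetup X' δ') (p : X' ⟶ X) [Flat p] (c : ℤ)
    (hc : ∀ x' : X', IsGen p x' → δ' x' = δ (p x') + c)
    (ξ : X) (g : X.residueField ξ) (hg : g ≠ 0) (x' : X') :
    Cyc.pullFun p δ' δ c (Cyc.divFun δ ξ g) x' =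
      ∑ᶠ ζ : {ζ : X' // p ζ = ξ ∧ IsGen p ζ},
        ((Module.length (X'.presheaf.stalk ζ.1) (X'.presheaf.stalk ζ.1 ⧸
          Ideal.map (p.stalkMap ζ.1).hom (maximalIdeal (X.presheaf.stalk (p ζ.1))))).toNat : ℤ) *
          Cyc.divFun δ' ζ.1 ((p.residueFieldMap ζ.1).hom
            ((X.residueFieldCongr ζ.2.1.symm).hom g)) x' := by
  classical
  haveI : IsLocallyNoetherian X := hX.1
  haveI : IsLocallyNoetherian X' := hX'.1
  have hle := delta_le_of_shift p δ δ' hX'.2.2 c hc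
  have hδS : ∀ ζ : X', p ζ = ξ → IsGen p ζ → δ' ζ = δ ξ + c := by
    intro ζ h1 h2
    rw [hc ζ h2, h1]
  have hg' : ∀ (ζ : X') (e : ξ = p ζ), (X.residueFieldCongr e).hom g ≠ 0 := fun ζ e =>
    (map_ne_zero _).mpr hg
  by_cases hII : δ' x' + 1 = δ ξ + c
  swap
  · -- Case I
    have hL : Cyc.pullFun p δ' δ c (Cyc.divFun δ ξ g) x' = 0 := by
      simp only [Cyc.pullFun, Cyc.divFun]
      by_cases hA : δ' x' = δ (p x') + c
      · rw [if_pos hA, dif_neg, zero_mul]
        rintro ⟨-, hB⟩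
        apply hII
        omega
      · rw [if_neg hA]
    rw [hL]
    symm
    apply finsum_eq_zero_of_forall_eq_zero
    rintro ⟨ζ, hζ1, hζ2⟩
    simp only [Cyc.divFun]
    rw [dif_neg, mul_zero]
    rintro ⟨-, hB⟩
    apply hII
    rw [hδS ζ hζ1 hζ2] at hB
    exact hB
  by_cases hA : δ' x' = δ (p x') + c
  swap
  · -- Case IIa
    have hL : Cyc.pullFun p δ' δ c (Cyc.divFun δ ξ g) x' = 0 := by
      simp only [Cyc.pullFun]
      rw [if_neg hA]
    rw [hL]
    symm
    apply finsum_eq_zero_of_forall_eq_zero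
    rintro ⟨ζ, hζ1, hζ2⟩
    simp only [Cyc.divFun]
    by_cases hcnd : ζ ⤳ x' ∧ δ' x' + 1 = δ' ζ
    · rw [dif_pos hcnd]
      have hsp : ξ ⤳ p x' := by
        rw [← hζ1]
        exact hcnd.1.map p.continuous
      have hξx : ξ = p x' := by
        by_contra hne
        have h1 := (hX.2.2 ξ (p x') hsp hne).1
        have h2 := hle x'
        omega
      have h0 := ordAt_eq_zero_of_fiber p x' ζ hcnd.1 (hζ1.trans hξx)
        ((X.residueFieldCongr hζ1.symm).hom g) (hg' ζ hζ1.symm)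
      exact mul_eq_zero_of_right _ h0
    · rw [dif_neg hcnd, mul_zero]
  -- Case IIb
  have hB : δ (p x') + 1 = δ ξ := by omega
  by_cases hx : ξ ⤳ p x'
  swap
  · have hL : Cyc.pullFun p δ' δ c (Cyc.divFun δ ξ g) x' = 0 := by
      simp only [Cyc.pullFun, Cyc.divFun]
      rw [if_pos hA, dif_neg (fun h => hx h.1), zero_mul]
    rw [hL]
    symm
    apply finsum_eq_zero_of_forall_eq_zero
    rintro ⟨ζ, hζ1, hζ2⟩
    simp only [Cyc.divFun]
    rw [dif_neg, mul_zero]
    rintro ⟨hsp, -⟩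
    apply hx
    rw [← hζ1]
    exact hsp.map p.continuous
  -- main case
  have hL : Cyc.pullFun p δ' δ c (Cyc.divFun δ ξ g) x' =
      Cyc.ordAt (p x') ξ hx g *
        ((Module.length (X'.presheaf.stalk x') (X'.presheaf.stalk x' ⧸
          Ideal.map (p.stalkMap x').hom
            (maximalIdeal (X.presheaf.stalk (p x'))))).toNat : ℤ) := by
    simp only [Cyc.pullFun, Cyc.divFun]
    rw [if_pos hA, dif_pos ⟨hx, hB⟩]
  rw [hL]
  haveI := isFractionRing_locQuot (p x') ξ hx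
  obtain ⟨a0, b0, hb0, hab⟩ :=
    IsFractionRing.div_surjective (A := Cyc.LocQuot (p x') ξ hx) g
  obtain ⟨a, rfl⟩ := Ideal.Quotient.mk_surjective a0
  obtain ⟨b, rfl⟩ := Ideal.Quotient.mk_surjective b0
  have hmkb : Ideal.Quotient.mk (RingHom.ker (Cyc.specMap (p x') ξ hx)) b ≠ 0 :=
    nonZeroDivisors.ne_zero hb0
  rw [algebraMap_locQuot_mk, algebraMap_locQuot_mk] at hab
  have hsb : Cyc.specMap (p x') ξ hx b ≠ 0 := by
    intro h0
    apply hmkb
    apply algebraMap_locQuot_injective (p x') ξ hx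
    rw [algebraMap_locQuot_mk, h0, map_zero]
  have hsa : Cyc.specMap (p x') ξ hx a ≠ 0 := by
    intro h0
    apply hg
    rw [← hab, h0, zero_div]
  have hmka : Ideal.Quotient.mk (RingHom.ker (Cyc.specMap (p x') ξ hx)) a ≠ 0 := by
    intro h0
    apply hsa
    rw [← algebraMap_locQuot_mk, h0, map_zero]
  subst hab
  have ha𝔭 : a ∉ RingHom.ker (Cyc.specMap (p x') ξ hx) := fun h => hsa (RingHom.mem_ker.mp h)
  have hb𝔭 : b ∉ RingHom.ker (Cyc.specMap (p x') ξ hx) := fun h => hsb (RingHom.mem_ker.mp h)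
  have hflat : (p.stalkMap x').hom.Flat := (Flat.iff_flat_stalkMap p).mp inferInstance x'
  have hdY := ringKrullDim_locQuot_le_one δ hX.2.2 (p x') ξ hx hB
  have hnzda := quotient_map_mem_nonZeroDivisors (p.stalkMap x').hom hflat
    (RingHom.ker (Cyc.specMap (p x') ξ hx)) a ha𝔭
  have hnzdb := quotient_map_mem_nonZeroDivisors (p.stalkMap x').hom hflat
    (RingHom.ker (Cyc.specMap (p x') ξ hx)) b hb𝔭
  have hPtop : (RingHom.ker (Cyc.specMap (p x') ξ hx)).map (p.stalkMap x').hom ≠ ⊤ := by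
    have h1 : RingHom.ker (Cyc.specMap (p x') ξ hx) ≤ maximalIdeal (X.presheaf.stalk (p x')) :=
      IsLocalRing.le_maximalIdeal (Ideal.IsPrime.ne_top inferInstance)
    have h2 : Ideal.map (p.stalkMap x').hom (maximalIdeal (X.presheaf.stalk (p x'))) ≤
        maximalIdeal (X'.presheaf.stalk x') :=
      ((IsLocalRing.local_hom_TFAE (p.stalkMap x').hom).out 0 2).mp
        (inferInstance : IsLocalHom (p.stalkMap x').hom)
    intro htop
    have h3 : (⊤ : Ideal (X'.presheaf.stalk x')) ≤ maximalIdeal (X'.presheaf.stalk x') := by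
      rw [← htop]
      exact (Ideal.map_mono h1).trans h2
    exact (IsLocalRing.maximalIdeal.isMaximal (X'.presheaf.stalk x')).ne_top (top_le_iff.mp h3)
  have hLHS : Cyc.ordAt (p x') ξ hx
      (Cyc.specMap (p x') ξ hx a / Cyc.specMap (p x') ξ hx b) *
        ((Module.length (X'.presheaf.stalk x') (X'.presheaf.stalk x' ⧸
          Ideal.map (p.stalkMap x').hom
            (maximalIdeal (X.presheaf.stalk (p x'))))).toNat : ℤ) =
      ((Ring.ord (X'.presheaf.stalk x' ⧸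
          (RingHom.ker (Cyc.specMap (p x') ξ hx)).map (p.stalkMap x').hom)
        (Ideal.Quotient.mk _ ((p.stalkMap x').hom a))).toNat : ℤ) -
      ((Ring.ord (X'.presheaf.stalk x' ⧸
          (RingHom.ker (Cyc.specMap (p x') ξ hx)).map (p.stalkMap x').hom)
        (Ideal.Quotient.mk _ ((p.stalkMap x').hom b))).toNat : ℤ) := by
    unfold Cyc.ordAt
    rw [← algebraMap_locQuot_mk, ← algebraMap_locQuot_mk,
      Groth.Agent.Lib.Helper5.DetLattice.ordFrac_div (Cyc.LocQuot (p x') ξ hx) hdY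
        (X.residueField ξ) hmka hmkb,
      ord_quotient_map (p.stalkMap x').hom hflat (RingHom.ker (Cyc.specMap (p x') ξ hx)) _ rfl a,
      ord_quotient_map (p.stalkMap x').hom hflat (RingHom.ker (Cyc.specMap (p x') ξ hx)) _ rfl b,
      ENat.toNat_mul, ENat.toNat_mul]
    push_cast
    ring
  rw [hLHS]
  -- facts about the primes minimal over `P`
  have hspq : ∀ q : PrimeSpectrum (X'.presheaf.stalk x'), X'.fromSpecStalk x' q ⤳ x' := fun q =>
    fromSpecStalk_specializes x' q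
  have hfacts := facts_of_mem_minimalPrimes p x' ξ hx
  have hdimq : ∀ q ∈ ((RingHom.ker (Cyc.specMap (p x') ξ hx)).map
      (p.stalkMap x').hom).minimalPrimes, ringKrullDim (X'.presheaf.stalk x' ⧸ q) = 1 := by
    intro q hq
    haveI : q.IsPrime := hq.1.1
    obtain ⟨h1, h2⟩ := hfacts ⟨q, inferInstance⟩ hq
    have hδ1 := hδS _ h1 h2
    obtain ⟨k', hk', hδk'⟩ := isDimFun_eq_add_locQuotDim X' δ' hX'.2.2 x' _
      (hspq ⟨q, inferInstance⟩)
    have hk1 : k' = 1 := by omega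
    have hker := ker_specMap_fromSpecStalk x' q (hspq ⟨q, inferInstance⟩)
    change ringKrullDim (X'.presheaf.stalk x' ⧸ RingHom.ker _) = _ at hk'
    rw [hker, hk1] at hk'
    rw [hk']
    rfl
  have hdimP := ringKrullDim_quotient_eq_one _ hPtop hdimq
  obtain ⟨G, hG⟩ := exists_finset_minimalPrimes (X'.presheaf.stalk x')
    ((RingHom.ker (Cyc.specMap (p x') ξ hx)).map (p.stalkMap x').hom)
  rw [ord_sub_ord_quotient_eq_sum _ hPtop hdimP _ _ hnzda hnzdb G hG
    (fun q => Module.length (X'.presheaf.stalk (X'.fromSpecStalk x' q))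
      (X'.presheaf.stalk (X'.fromSpecStalk x' q) ⧸
        Ideal.map (p.stalkMap (X'.fromSpecStalk x' q)).hom
          (maximalIdeal (X.presheaf.stalk (p (X'.fromSpecStalk x' q))))))
    (fun q hq Q _ hQ => length_localization_quotient_stalk p x' ξ hx q
      (hfacts q ((hG q).mp hq)).1.symm Q hQ)]
  -- reindex the right-hand side
  let e : {q // q ∈ G} → {ζ : X' // p ζ = ξ ∧ IsGen p ζ} :=
    fun q => ⟨X'.fromSpecStalk x' q.1, hfacts q.1 ((hG q.1).mp q.2)⟩
  have he_inj : Function.Injective e := by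
    intro q q' hqq'
    have h1 := Subtype.ext_iff.mp hqq'
    exact Subtype.ext ((X'.fromSpecStalk x').isEmbedding.injective h1)
  have hsupp : (Function.support fun ζ : {ζ : X' // p ζ = ξ ∧ IsGen p ζ} =>
        ((Module.length (X'.presheaf.stalk ζ.1) (X'.presheaf.stalk ζ.1 ⧸
          Ideal.map (p.stalkMap ζ.1).hom (maximalIdeal (X.presheaf.stalk (p ζ.1))))).toNat : ℤ) *
          Cyc.divFun δ' ζ.1 ((p.residueFieldMap ζ.1).hom
            ((X.residueFieldCongr ζ.2.1.symm).hom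
              (Cyc.specMap (p x') ξ hx a / Cyc.specMap (p x') ξ hx b))) x') ⊆
      ↑(G.attach.image e) := by
    intro ζ hζ
    rw [Function.mem_support] at hζ
    have hsp : ζ.1 ⤳ x' := by
      by_contra hns
      apply hζ
      simp only [Cyc.divFun]
      rw [dif_neg (fun h => hns h.1), mul_zero]
    have hmem := ker_specMap_mem_minimalPrimes p x' ζ.1 hsp ξ ζ.2.1.symm ζ.2.2 hx
    rw [Finset.coe_image, Set.mem_image]
    refine ⟨⟨⟨RingHom.ker (Cyc.specMap x' ζ.1 hsp), inferInstance⟩, (hG _).mpr hmem⟩,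
      Finset.mem_coe.mpr (Finset.mem_attach _ _), ?_⟩
    exact Subtype.ext (fromSpecStalk_ker_specMap x' ζ.1 hsp)
  rw [finsum_eq_sum_of_support_subset _ hsupp, Finset.sum_image (fun q _ q' _ h => he_inj h),
    ← Finset.sum_attach G]
  refine Finset.sum_congr rfl fun q _ => ?_
  have hq1 := hfacts q.1 ((hG q.1).mp q.2)
  have hdimq' : δ' x' + 1 = δ' (X'.fromSpecStalk x' q.1) := by
    rw [hδS _ hq1.1 hq1.2]
    exact hII
  have hkerq := ker_specMap_fromSpecStalk x' q.1.asIdeal (hspq q.1)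
  have hterm := divFun_term_eq δ' hX'.2.2 p x' (X'.fromSpecStalk x' q.1) ξ (hspq q.1)
    hdimq' hq1.1.symm hx a b hsa hsb q.1.asIdeal hkerq
  change _ = ((Module.length (X'.presheaf.stalk (X'.fromSpecStalk x' q.1))
      (X'.presheaf.stalk (X'.fromSpecStalk x' q.1) ⧸
        Ideal.map (p.stalkMap (X'.fromSpecStalk x' q.1)).hom
          (maximalIdeal (X.presheaf.stalk (p (X'.fromSpecStalk x' q.1)))))).toNat : ℤ) *
    Cyc.divFun δ' (X'.fromSpecStalk x' q.1) ((p.residueFieldMap (X'.fromSpecStalk x' q.1)).hom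
      ((X.residueFieldCongr hq1.1.symm).hom
        (Cyc.specMap (p x') ξ hx a / Cyc.specMap (p x') ξ hx b))) x'
  rw [hterm]

end scheme

end Groth.Agent.Lib.Helper2.CycOrdGen
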