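import Mathlib
import Groth.Prelude.Def_C1
import Groth.Prelude.Def_Pic
import Groth.Agent.Lib.Helper2CycOrd
import Groth.Agent.Lib.Helper2CycOrdSum
import Groth.Agent.Lib.Helper20InvGen

/-!
# Divisors of rational sections of invertible modules (helper2)

* `stalkSpecializes_smul`: specialization maps of stalks of a module are semilinear.
* `ordFrac_algebraMap`, `ordAt_specMap`, `ordAt_specMap_mul_unit`.
* `generator_facts`: any generator of the stalk of an invertible module is a free generator, and so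
  are its images in the stalks at generizations.
* `secOrdAt_eq`: `Cyc.secOrdAt` computed with any free generator.
* `secDivFun_globalSection`: `div_L(s) = [Z(s)]` on an integral scheme.
-/

set_option autoImplicit false
set_option linter.style.haveILetI false

universe u

open AlgebraicGeometry CategoryTheory IsLocalRing

namespace Groth.Agent.Lib.Helper2.CycSecDiv

open Groth.Agent.Lib.Helper2.CycOrd Groth.Agent.Lib.Helper2.CycOrdSum
  Groth.Agent.Lib.Helper20.InvGen Groth.Agent.Lib.Helper2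

variable {X : Scheme.{u}}

/-- specialization maps of stalks of a module are semilinear. -/
theorem stalkSpecializes_smul (L : X.Modules) {x ξ : X} (h : ξ ⤳ x) (c : X.presheaf.stalk x)
    (m : L.presheaf.stalk x) :
    (L.presheaf.stalkSpecializes h) (c • m) =
      (X.presheaf.stalkSpecializes h c) • (L.presheaf.stalkSpecializes h m) := by
  obtain ⟨W₁, hx₁, r, rfl⟩ := X.presheaf.exists_germ_eq c
  obtain ⟨W₂, hx₂, m₀, rfl⟩ := L.presheaf.exists_germ_eq m
  have hx : x ∈ W₁ ⊓ W₂ := ⟨hx₁, hx₂⟩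
  have hξ : ξ ∈ W₁ ⊓ W₂ := h.mem_open (W₁ ⊓ W₂).isOpen hx
  rw [← TopCat.Presheaf.germ_res_apply X.presheaf (homOfLE (inf_le_left : W₁ ⊓ W₂ ≤ W₁)) x hx r,
    ← TopCat.Presheaf.germ_res_apply L.presheaf (homOfLE (inf_le_right : W₁ ⊓ W₂ ≤ W₂)) x hx m₀,
    ← QCoh.germ_smul]
  have e1 : ∀ z : Γ(L, W₁ ⊓ W₂), (L.presheaf.stalkSpecializes h) (L.presheaf.germ _ x hx z) =
      L.presheaf.germ _ ξ hξ z := fun z =>
    ConcreteCategory.congr_hom (TopCat.Presheaf.germ_stalkSpecializes L.presheaf hx h) z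
  have e2 : ∀ z : Γ(X, W₁ ⊓ W₂), (X.presheaf.stalkSpecializes h) (X.presheaf.germ _ x hx z) =
      X.presheaf.germ _ ξ hξ z := fun z =>
    ConcreteCategory.congr_hom (TopCat.Presheaf.germ_stalkSpecializes X.presheaf hx h) z
  rw [e1, e1, e2, QCoh.germ_smul]

theorem ordFrac_algebraMap (A : Type u) [CommRing A] [IsDomain A] [IsNoetherianRing A]
    (hdim : ringKrullDim A ≤ 1) (K : Type u) [Field K] [Algebra A K] [IsFractionRing A K] {a : A}
    (ha : a ≠ 0) : CycAlg.ordFrac A K (algebraMap A K a) = ((Ring.ord A a).toNat : ℤ) := by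
  have h1 := Groth.Agent.Lib.Helper5.DetLattice.ordFrac_div A hdim K ha one_ne_zero
  rw [map_one, div_one, Ring.ord_one] at h1
  rw [h1]
  simp

theorem ordAt_specMap [IsLocallyNoetherian X] (x ξ : X) (h : ξ ⤳ x) (hdim : ringKrullDim (Cyc.LocQuot x ξ h) ≤ 1)
    (a : X.presheaf.stalk x) (ha : Cyc.specMap x ξ h a ≠ 0) :
    Cyc.ordAt x ξ h (Cyc.specMap x ξ h a) =
      ((Module.length (X.presheaf.stalk x) (X.presheaf.stalk x ⧸
        (RingHom.ker (Cyc.specMap x ξ h) ⊔ Ideal.span {a}))).toNat : ℤ) := by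
  haveI := isFractionRing_locQuot x ξ h
  have hmk : Ideal.Quotient.mk (RingHom.ker (Cyc.specMap x ξ h)) a ≠ 0 := by
    intro h0
    apply ha
    rw [← algebraMap_locQuot_mk, h0, map_zero]
  unfold Cyc.ordAt
  rw [← algebraMap_locQuot_mk, ordFrac_algebraMap (Cyc.LocQuot x ξ h) hdim _ hmk, ord_quotient_mk]

theorem ordAt_specMap_mul_unit (x ξ : X) (h : ξ ⤳ x) (a w : X.presheaf.stalk x) (hw : IsUnit w) :
    Cyc.ordAt x ξ h (Cyc.specMap x ξ h (a * w)) = Cyc.ordAt x ξ h (Cyc.specMap x ξ h a) := by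
  rw [map_mul]
  unfold Cyc.ordAt CycAlg.ordFrac
  split_ifs with hcond
  · haveI := hcond.1
    haveI := hcond.2.1
    haveI := hcond.2.2.1
    haveI := hcond.2.2.2
    have hu : IsUnit (Ideal.Quotient.mk (RingHom.ker (Cyc.specMap x ξ h)) w) := hw.map _
    rw [map_mul, ← algebraMap_locQuot_mk x ξ h w, Ring.ordFrac_of_isUnit hu, mul_one]
  · rfl

theorem bijective_smul_unit {R M : Type*} [CommRing R] [AddCommGroup M] [Module R M] (m : M)
    (hm : Function.Bijective (fun c : R => c • m)) (u : R) (hu : IsUnit u) :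
    Function.Bijective (fun c : R => c • (u • m)) := by
  obtain ⟨w, hw⟩ := hu.exists_left_inv
  have hw' : u * w = 1 := by rw [mul_comm]; exact hw
  constructor
  · intro c c' hcc'
    have h1 : (c * u) • m = (c' * u) • m := by
      rw [mul_smul, mul_smul]
      exact hcc'
    have h2 := hm.1 h1
    calc c = c * u * w := by rw [mul_assoc, hw', mul_one]
      _ = c' * u * w := by rw [h2]
      _ = c' := by rw [mul_assoc, hw', mul_one]
  · intro y
    obtain ⟨c, hc⟩ := hm.2 y
    refine ⟨c * w, ?_⟩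
    change (c * w) • (u • m) = y
    rw [smul_smul, mul_assoc, hw, mul_one]
    exact hc

theorem generator_facts (L : X.Modules) (hL : PicF.IsInvertible L) (x : X)
    (t' : L.presheaf.stalk x) (ht' : Submodule.span (X.presheaf.stalk x) {t'} = ⊤) :
    Function.Bijective (fun c : X.presheaf.stalk x => c • t') ∧
    ∀ (ξ : X) (h : ξ ⤳ x), Function.Bijective
      (fun c : X.presheaf.stalk ξ => c • L.presheaf.stalkSpecializes h t') := by
  obtain ⟨W, tW, hxW, hW⟩ := exists_local_generator L hL x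
  have htx := hW x hxW
  obtain ⟨u, hu⟩ := htx.2 t'
  have hu' : u • L.presheaf.germ W x hxW tW = t' := hu
  have hmem : L.presheaf.germ W x hxW tW ∈ Submodule.span (X.presheaf.stalk x) {t'} := by
    rw [ht']
    trivial
  obtain ⟨v, hv⟩ := Submodule.mem_span_singleton.1 hmem
  have hvu : v * u = 1 := by
    apply htx.1
    change (v * u) • L.presheaf.germ W x hxW tW = (1 : X.presheaf.stalk x) • _
    rw [mul_smul, one_smul, hu', hv]
  have huu : IsUnit u := IsUnit.of_mul_eq_one_right v hvu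
  constructor
  · rw [← hu']
    exact bijective_smul_unit _ htx u huu
  · intro ξ h
    have hξW : ξ ∈ W := h.mem_open W.isOpen hxW
    have hsp : L.presheaf.stalkSpecializes h (L.presheaf.germ W x hxW tW) =
        L.presheaf.germ W ξ hξW tW :=
      ConcreteCategory.congr_hom (TopCat.Presheaf.germ_stalkSpecializes L.presheaf hxW h) tW
    rw [← hu', stalkSpecializes_smul, hsp]
    exact bijective_smul_unit _ (hW ξ hξW) _ (huu.map _)

theorem secOrdAt_eq (L : X.Modules) (ξ x : X) (h : ξ ⤳ x) (tx : L.presheaf.stalk x)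
    (htx : Function.Bijective (fun c : X.presheaf.stalk x => c • tx))
    (htξ : Function.Bijective
      (fun c : X.presheaf.stalk ξ => c • L.presheaf.stalkSpecializes h tx))
    (a : X.presheaf.stalk x) :
    Cyc.secOrdAt L ξ x h (Submodule.Quotient.mk
      (X.presheaf.stalkSpecializes h a • L.presheaf.stalkSpecializes h tx)) =
      Cyc.ordAt x ξ h (Cyc.specMap x ξ h a) := by
  have hgen : ∃ t : L.presheaf.stalk x, Submodule.span (X.presheaf.stalk x) {t} = ⊤ := by
    refine ⟨tx, ?_⟩
    rw [eq_top_iff]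
    intro y _
    obtain ⟨c, hc⟩ := htx.2 y
    rw [Submodule.mem_span_singleton]
    exact ⟨c, hc⟩
  -- membership in `𝔪 • ⊤`
  have hmem : ∀ c : X.presheaf.stalk ξ, c • L.presheaf.stalkSpecializes h tx ∈
      maximalIdeal (X.presheaf.stalk ξ) • (⊤ : Submodule (X.presheaf.stalk ξ)
        (L.presheaf.stalk ξ)) → c ∈ maximalIdeal (X.presheaf.stalk ξ) := by
    intro c hc
    have h1 : ∀ l ∈ maximalIdeal (X.presheaf.stalk ξ) • (⊤ : Submodule (X.presheaf.stalk ξ)
        (L.presheaf.stalk ξ)), ∃ c' ∈ maximalIdeal (X.presheaf.stalk ξ),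
        c' • L.presheaf.stalkSpecializes h tx = l := by
      intro l hl
      refine Submodule.smul_induction_on hl ?_ ?_
      · intro r hr n _
        obtain ⟨c', hc'⟩ := htξ.2 n
        refine ⟨r * c', Ideal.mul_mem_right _ _ hr, ?_⟩
        rw [mul_smul]
        exact congrArg (r • ·) hc'
      · rintro l₁ l₂ ⟨c₁, hc₁, rfl⟩ ⟨c₂, hc₂, rfl⟩
        exact ⟨c₁ + c₂, Ideal.add_mem _ hc₁ hc₂, add_smul _ _ _⟩
    obtain ⟨c', hc'm, hc'⟩ := h1 _ hc
    have := htξ.1 hc'
    rw [← this]
    exact hc'm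
  unfold Cyc.secOrdAt
  rw [dif_pos hgen]
  have ht' := Classical.choose_spec hgen
  obtain ⟨t', ht'def⟩ : ∃ t', t' = Classical.choose hgen := ⟨_, rfl⟩
  rw [← ht'def] at ht' ⊢
  obtain ⟨u, hu⟩ := htx.2 t'
  have hu' : u • tx = t' := hu
  have hmem' : tx ∈ Submodule.span (X.presheaf.stalk x) {t'} := by
    rw [ht']
    trivial
  obtain ⟨v, hv⟩ := Submodule.mem_span_singleton.1 hmem'
  have hvu : v * u = 1 := by
    apply htx.1
    change (v * u) • tx = (1 : X.presheaf.stalk x) • tx
    rw [mul_smul, one_smul, hu', hv]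
  have hvv : IsUnit v := IsUnit.of_mul_eq_one _ hvu
  have hsp : L.presheaf.stalkSpecializes h t' =
      X.presheaf.stalkSpecializes h u • L.presheaf.stalkSpecializes h tx := by
    rw [← hu', stalkSpecializes_smul]
  have hφ : ∃ φ : X.presheaf.stalk ξ,
      (Submodule.Quotient.mk (X.presheaf.stalkSpecializes h a • L.presheaf.stalkSpecializes h tx) :
        Cyc.secFibre L ξ) =
      φ • (Submodule.Quotient.mk ((L.presheaf.stalkSpecializes h) t') : Cyc.secFibre L ξ) := by
    refine ⟨X.presheaf.stalkSpecializes h (a * v), ?_⟩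
    rw [← Submodule.Quotient.mk_smul, ← stalkSpecializes_smul, ← stalkSpecializes_smul, mul_smul, hv]
  rw [dif_pos hφ]
  have hφ' := Classical.choose_spec hφ
  obtain ⟨φ, hφdef⟩ : ∃ φ, φ = Classical.choose hφ := ⟨_, rfl⟩
  rw [← hφdef] at hφ' ⊢
  -- `φ * sp u - sp a ∈ 𝔪`
  have h2 : (Submodule.Quotient.mk ((φ * X.presheaf.stalkSpecializes h u -
      X.presheaf.stalkSpecializes h a) • L.presheaf.stalkSpecializes h tx) :
        Cyc.secFibre L ξ) = 0 := by
    rw [sub_smul, Submodule.Quotient.mk_sub, mul_smul, ← hsp, Submodule.Quotient.mk_smul,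
      ← hφ', sub_self]
  rw [Submodule.Quotient.mk_eq_zero] at h2
  have h3 := hmem _ h2
  have h4 : X.residue ξ φ * X.residue ξ (X.presheaf.stalkSpecializes h u) =
      X.residue ξ (X.presheaf.stalkSpecializes h a) := by
    have h5 : X.residue ξ (φ * X.presheaf.stalkSpecializes h u -
        X.presheaf.stalkSpecializes h a) = 0 :=
      (IsLocalRing.residue_eq_zero_iff _).mpr h3
    rw [map_sub, map_mul, sub_eq_zero] at h5
    exact h5
  have h6 : X.residue ξ (X.presheaf.stalkSpecializes h v) *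
      X.residue ξ (X.presheaf.stalkSpecializes h u) = 1 := by
    rw [← map_mul, ← map_mul, hvu, map_one, map_one]
  have key : X.residue ξ φ = Cyc.specMap x ξ h (a * v) := by
    have h7 : Cyc.specMap x ξ h (a * v) = X.residue ξ (X.presheaf.stalkSpecializes h a) *
        X.residue ξ (X.presheaf.stalkSpecializes h v) := by
      rw [map_mul]
      rfl
    rw [h7, ← h4, mul_assoc, mul_comm (X.residue ξ (X.presheaf.stalkSpecializes h u)), h6,
      mul_one]
  rw [key]
  exact ordAt_specMap_mul_unit x ξ h a v hvv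

/-- `div_L(s) = [Z(s)]` for a global section of an invertible module on an integral scheme. -/
theorem secDivFun_globalSection (X : Scheme.{u}) [IsIntegral X] (δ : X → ℤ)
    (hX : Cyc.IsSetup X δ) (n : ℤ) (hn : δ (genericPoint X) = n) (L : X.Modules)
    (hL : PicF.IsInvertible L) (s : L.presheaf.obj (Opposite.op ⊤))
    (hs : (L.presheaf.germ ⊤ (genericPoint X) trivial) s ≠ 0) :
    Cyc.secDivFun δ L (genericPoint X)
      (Submodule.Quotient.mk ((L.presheaf.germ ⊤ (genericPoint X) trivial) s)) =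
      Cyc.zeroSectionFun δ (n - 1) L s := by
  haveI : IsLocallyNoetherian X := hX.1
  funext x
  have hηx : genericPoint X ⤳ x := genericPoint_specializes x
  simp only [Cyc.secDivFun, Cyc.zeroSectionFun]
  by_cases hd : δ x + 1 = n
  · have hd' : δ x = n - 1 := by omega
    have hdη : δ x + 1 = δ (genericPoint X) := by rw [hn]; exact hd
    rw [dif_pos ⟨hηx, hdη⟩, if_pos hd']
    obtain ⟨W, tW, hxW, hW⟩ := exists_local_generator L hL x
    have ht : ∃ t : L.presheaf.stalk x, Submodule.span (X.presheaf.stalk x) {t} = ⊤ := by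
      refine ⟨L.presheaf.germ W x hxW tW, ?_⟩
      rw [eq_top_iff]
      intro y _
      obtain ⟨c, hc⟩ := (hW x hxW).2 y
      rw [Submodule.mem_span_singleton]
      exact ⟨c, hc⟩
    rw [dif_pos ht]
    have ht' := Classical.choose_spec ht
    obtain ⟨t', ht'def⟩ : ∃ t', t' = Classical.choose ht := ⟨_, rfl⟩
    rw [← ht'def] at ht' ⊢
    obtain ⟨hbij, hbijξ⟩ := generator_facts L hL x t' ht'
    have hf : ∃ f : X.presheaf.stalk x, (L.presheaf.germ ⊤ x trivial) s = f • t' := by
      obtain ⟨f, hf⟩ := hbij.2 ((L.presheaf.germ ⊤ x trivial) s)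
      exact ⟨f, hf.symm⟩
    rw [dif_pos hf]
    have hf' := Classical.choose_spec hf
    obtain ⟨f₀, hf₀def⟩ : ∃ f₀, f₀ = Classical.choose hf := ⟨_, rfl⟩
    rw [← hf₀def] at hf' ⊢
    have hgerm : (L.presheaf.germ ⊤ (genericPoint X) trivial) s =
        X.presheaf.stalkSpecializes hηx f₀ • L.presheaf.stalkSpecializes hηx t' := by
      rw [← stalkSpecializes_smul, ← hf']
      exact (ConcreteCategory.congr_hom
        (TopCat.Presheaf.germ_stalkSpecializes L.presheaf (U := ⊤) trivial hηx) s).symm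
    have hker := ker_specMap_genericPoint x hηx
    have hf₀ne : Cyc.specMap x (genericPoint X) hηx f₀ ≠ 0 := by
      intro h0
      have h1 : f₀ ∈ RingHom.ker (Cyc.specMap x (genericPoint X) hηx) := RingHom.mem_ker.mpr h0
      rw [hker, Ideal.mem_bot] at h1
      apply hs
      rw [hgerm, h1, map_zero, zero_smul]
    have hdim := ringKrullDim_locQuot_le_one δ hX.2.2 x (genericPoint X) hηx hdη
    rw [hgerm, secOrdAt_eq L (genericPoint X) x hηx t' hbij (hbijξ _ hηx) f₀,
      ordAt_specMap x (genericPoint X) hηx hdim f₀ hf₀ne, hker, bot_sup_eq]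
  · have hd' : ¬ δ x = n - 1 := by omega
    rw [dif_neg, if_neg hd']
    rintro ⟨-, h1⟩
    rw [hn] at h1
    exact hd h1

end Groth.Agent.Lib.Helper2.CycSecDiv
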