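import Mathlib
import Groth.Prelude.Def_C1
import Groth.Prelude.Def_Pic
import Groth.Agent.Lib.Helper2CycSecDiv
import Groth.Agent.Lib.Helper2CycOrdGen
import Groth.Agent.Lib.Helper2CycClosedImm
import Groth.Agent.Lib.Helper2CycRelDim

/-!
# Gysin pullback of a flat pullback along a relative effective Cartier divisor (helper2)

* `mk_mem_nonZeroDivisors_of_flat_quotient`: if `B/(f₀)` is flat over `A` and `f₀` is a
  nonzerodivisor of `B`, then `f₀` is a nonzerodivisor on `B/𝔪B` for every ideal `𝔪` of `A`.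
* `length_quotient_map_of_surjective`.
* `ker_specMap_self`, `deltaCompat_closedImm`.
* `c1CapFun_gysinChoice_pullFun`: `i^* p^* α = (p|_D)^* α` on the level of coefficient functions.
-/

set_option autoImplicit false
set_option linter.style.haveILetI false

universe u

open AlgebraicGeometry CategoryTheory IsLocalRing TensorProduct

namespace Groth.Agent.Lib.Helper2.CycRelCartier

open Groth.Agent.Lib.Helper2.CycOrd Groth.Agent.Lib.Helper2.CycOrdSum
  Groth.Agent.Lib.Helper2.CycOrdGen Groth.Agent.Lib.Helper2.CycSecDiv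
  Groth.Agent.Lib.Helper2.CycRelDim Groth.Agent.Lib.Helper2.CycClosedImm
  Groth.Agent.Lib.Helper24PullFunComp Groth.Agent.Lib.Helper4.DimFormula

section algebra

theorem mk_mem_nonZeroDivisors_of_flat_quotient {A B C : Type u} [CommRing A] [CommRing B]
    [CommRing C] (φ : A →+* B) (ψ : B →+* C) (hψ : Function.Surjective ψ) (f₀ : B)
    (hker : RingHom.ker ψ = Ideal.span {f₀}) (hf₀ : f₀ ∈ nonZeroDivisors B)
    (hflat : (ψ.comp φ).Flat) (𝔪 : Ideal A) :
    Ideal.Quotient.mk (𝔪.map φ) f₀ ∈ nonZeroDivisors (B ⧸ 𝔪.map φ) := by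
  letI : Algebra A B := φ.toAlgebra
  letI : Algebra B C := ψ.toAlgebra
  letI : Algebra A C := (ψ.comp φ).toAlgebra
  haveI : IsScalarTower A B C := IsScalarTower.of_algebraMap_eq fun a => rfl
  haveI : Module.Flat A C := hflat
  let f : B →ₗ[A] C := (IsScalarTower.toAlgHom A B C).toLinearMap
  have hfψ : ∀ b, f b = ψ b := fun b => rfl
  have hf : Function.Surjective f := hψ
  let g : B →ₗ[A] B := LinearMap.mulLeft A f₀
  have hgm : ∀ b, g b = f₀ * b := fun b => rfl
  have hg : Function.Injective g := by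
    intro z w hzw
    rw [hgm, hgm] at hzw
    have h2 : (z - w) * f₀ = 0 := by rw [sub_mul, mul_comm z, mul_comm w, hzw, sub_self]
    exact sub_eq_zero.mp (mem_nonZeroDivisors_iff_right.mp hf₀ _ h2)
  have hf₀ker : ψ f₀ = 0 := by
    have : f₀ ∈ RingHom.ker ψ := by rw [hker]; exact Ideal.mem_span_singleton_self f₀
    exact RingHom.mem_ker.mp this
  have H : Function.Exact g f := by
    intro b
    constructor
    · intro hb
      have h1 : b ∈ RingHom.ker ψ := RingHom.mem_ker.mpr hb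
      rw [hker, Ideal.mem_span_singleton'] at h1
      obtain ⟨c, hc⟩ := h1
      exact ⟨c, by rw [hgm, mul_comm]; exact hc⟩
    · rintro ⟨c, rfl⟩
      rw [hfψ, hgm, map_mul, hf₀ker, zero_mul]
  have hinj := LinearMap.lTensor_injective_of_exact_of_flat f hf g hg H (A ⧸ 𝔪)
  rw [mem_nonZeroDivisors_iff_right]
  intro z hz
  obtain ⟨b, rfl⟩ := Ideal.Quotient.mk_surjective z
  have hz' : Ideal.Quotient.mk (Ideal.map (algebraMap A B) 𝔪) (b * f₀) = 0 := by
    rw [map_mul]
    exact hz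
  have h2 : (g.lTensor (A ⧸ 𝔪)) (Algebra.TensorProduct.quotIdealMapEquivQuotTensor B 𝔪
      (Ideal.Quotient.mk _ b)) =
      Algebra.TensorProduct.quotIdealMapEquivQuotTensor B 𝔪 (Ideal.Quotient.mk _ (b * f₀)) := by
    rw [Algebra.TensorProduct.quotIdealMapEquivQuotTensor_mk,
      Algebra.TensorProduct.quotIdealMapEquivQuotTensor_mk, LinearMap.lTensor_tmul, hgm, mul_comm]
  rw [hz', map_zero] at h2
  have h3 : Algebra.TensorProduct.quotIdealMapEquivQuotTensor B 𝔪 (Ideal.Quotient.mk _ b) = 0 :=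
    hinj (by rw [h2, map_zero])
  exact (Algebra.TensorProduct.quotIdealMapEquivQuotTensor B 𝔪).injective
    (h3.trans (map_zero _).symm)

theorem length_quotient_map_of_surjective {B C : Type u} [CommRing B] [CommRing C] (ψ : B →+* C)
    (hψ : Function.Surjective ψ) (J : Ideal B) :
    Module.length C (C ⧸ J.map ψ) = Module.length B (B ⧸ (J ⊔ RingHom.ker ψ)) := by
  have hcomp : Function.Surjective ((Ideal.Quotient.mk (J.map ψ)).comp ψ) :=
    Ideal.Quotient.mk_surjective.comp hψ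
  have hk : RingHom.ker ((Ideal.Quotient.mk (J.map ψ)).comp ψ) = J ⊔ RingHom.ker ψ := by
    rw [← RingHom.comap_ker, Ideal.mk_ker, Ideal.comap_map_of_surjective ψ hψ]
    rfl
  let e : (B ⧸ (J ⊔ RingHom.ker ψ)) ≃+* (C ⧸ J.map ψ) :=
    (Ideal.quotEquivOfEq hk.symm).trans (RingHom.quotientKerEquivOfSurjective hcomp)
  have h1 : Module.length C (C ⧸ J.map ψ) = Module.length (C ⧸ J.map ψ) (C ⧸ J.map ψ) :=
    Module.length_eq_of_surjective Ideal.Quotient.mk_surjective
  have h2 : Module.length B (B ⧸ (J ⊔ RingHom.ker ψ)) =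
      Module.length (B ⧸ (J ⊔ RingHom.ker ψ)) (B ⧸ (J ⊔ RingHom.ker ψ)) :=
    Module.length_eq_of_surjective Ideal.Quotient.mk_surjective
  rw [h1, h2]
  exact (length_self_eq_of_ringEquiv e).symm

end algebra

section scheme

variable {X Y D : Scheme.{u}}

theorem ker_specMap_self (y : Y) (h : y ⤳ y) :
    RingHom.ker (Cyc.specMap y y h) = maximalIdeal (Y.presheaf.stalk y) := by
  ext v
  have hsp : Cyc.specMap y y h v = Y.residue y v := by
    change (Y.residue y).hom ((Y.presheaf.stalkSpecializes h).hom v) = _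
    rw [TopCat.Presheaf.stalkSpecializes_refl]
    rfl
  rw [RingHom.mem_ker, hsp]
  exact IsLocalRing.residue_eq_zero_iff v

theorem deltaCompat_closedImm (i : D ⟶ X) [IsClosedImmersion i] (p : X ⟶ Y) (δX : X → ℤ)
    (δY : Y → ℤ) (hδ : Cyc.DeltaCompat p δX δY) :
    Cyc.DeltaCompat (i ≫ p) (fun d => δX (i d)) δY := by
  intro d
  obtain ⟨n, hn, hδn⟩ := hδ (i d)
  refine ⟨n, ?_, hδn⟩
  have h1 := trdeg_comp i p d
  have h0 : @Algebra.trdeg (X.residueField (i d)) (D.residueField d) _ _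
      (i.residueFieldMap d).hom.toAlgebra = 0 := by
    letI := (i.residueFieldMap d).hom.toAlgebra
    have hsurj : Function.Surjective (algebraMap (X.residueField (i d)) (D.residueField d)) :=
      (bijective_residueFieldMap i d).2
    haveI : Algebra.IsAlgebraic (X.residueField (i d)) (D.residueField d) :=
      ⟨fun z => by
        obtain ⟨c, rfl⟩ := hsurj z
        exact isAlgebraic_algebraMap c⟩
    exact trdeg_eq_zero
  rw [h0, add_zero] at h1
  exact h1.symm.trans hn

set_option maxHeartbeats 1600000 in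
/-- `i^* p^* α = (p|_D)^* α` as coefficient functions, for a relative effective Cartier divisor
`i : D → X` over `Y`. -/
theorem c1CapFun_gysinChoice_pullFun (δX : X → ℤ) (δY : Y → ℤ)
    (hX : Cyc.IsSetup X δX) (hY : Cyc.IsSetup Y δY) (p : X ⟶ Y) [Flat p] [LocallyOfFiniteType p]
    (r : ℕ) (hr : Cyc.HasRelDim p (r + 1)) (hδ : Cyc.DeltaCompat p δX δY) (L : X.Modules)
    (hL : PicF.IsInvertible L) (s : L.presheaf.obj (Opposite.op ⊤))
    (hreg : ∀ x : X, Function.Injective
      (fun a : X.presheaf.stalk x => a • (L.presheaf.germ ⊤ x trivial) s))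
    (i : D ⟶ X) [IsClosedImmersion i] (hD : Cyc.IsZeroSchemeOf i L s) [Flat (i ≫ p)]
    (hrD : Cyc.HasRelDim (i ≫ p) r) (α : Y → ℤ) (w : (ξ : X) → Cyc.secFibre L ξ) (d : D) :
    Cyc.c1CapFun δX L (Cyc.pullFun p δX δY (r + 1) α) (Cyc.gysinChoice L s w) (i d) =
      Cyc.pullFun (i ≫ p) (fun d => δX (i d)) δY r α d := by
  classical
  haveI : IsLocallyNoetherian X := hX.1
  have hc : ∀ x' : X, IsGen p x' → δX x' = δY (p x') + ((r : ℤ) + 1) := by
    intro x' hx'
    have h1 := delta_eq_of_isGen p (r + 1) hr δX δY hδ x' hx'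
    push_cast at h1
    exact h1
  have hle : ∀ x' : X, δX x' ≤ δY (p x') + ((r : ℤ) + 1) := by
    intro x'
    have h1 := delta_le p (r + 1) hr δX δY hδ x'
    push_cast at h1
    exact h1
  have hDle : ∀ e : D, δX (i e) ≤ δY (p (i e)) + r := fun e =>
    delta_le (i ≫ p) r hrD (fun d => δX (i d)) δY (deltaCompat_closedImm i p δX δY hδ) e
  have hgenOf : ∀ ζ : X, δX ζ = δY (p ζ) + ((r : ℤ) + 1) → IsGen p ζ := by
    intro ζ h ζ' hp hs
    by_contra hne
    have h1 := (hX.2.2 ζ' ζ hs hne).1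
    have h2 := hle ζ'
    rw [hp] at h2
    omega
  have hkey : ∀ ξ : X, ξ ⤳ i d → δX (i d) + 1 = δX ξ → δX ξ = δY (p ξ) + ((r : ℤ) + 1) →
      p ξ = p (i d) ∧ δX (i d) = δY (p (i d)) + r := by
    intro ξ hsp h1 h2
    have h3 : p ξ ⤳ p (i d) := hsp.map p.continuous
    have h4 := hDle d
    by_cases hne : p ξ = p (i d)
    · refine ⟨hne, ?_⟩
      rw [hne] at h2
      omega
    · have h5 := (hY.2.2 _ _ h3 hne).1
      exfalso
      omega
  simp only [Cyc.c1CapFun]
  by_cases hA : δX (i d) = δY (p (i d)) + r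
  swap
  · have hR : Cyc.pullFun (i ≫ p) (fun d => δX (i d)) δY r α d = 0 := by
      simp only [Cyc.pullFun]
      rw [if_neg (show ¬ (δX (i d) = δY ((i ≫ p) d) + (r : ℤ)) from hA)]
    rw [hR]
    apply finsum_eq_zero_of_forall_eq_zero
    intro ξ
    simp only [Cyc.pullFun, Cyc.secDivFun]
    by_cases hc1 : ξ ⤳ i d ∧ δX (i d) + 1 = δX ξ
    · by_cases hB : δX ξ = δY (p ξ) + ((r : ℤ) + 1)
      · exact absurd (hkey ξ hc1.1 hc1.2 hB).2 hA
      · rw [if_neg hB, zero_mul]
    · rw [dif_neg hc1, mul_zero]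
  -- main case
  have hrefl : p (i d) ⤳ p (i d) := specializes_rfl
  obtain ⟨t, f₀, ht, hgs, hker⟩ := hD.2 d
  obtain ⟨hbij, hbijξ⟩ := generator_facts L hL (i d) t ht
  have hf₀nzd : f₀ ∈ nonZeroDivisors (X.presheaf.stalk (i d)) := by
    rw [mem_nonZeroDivisors_iff_right]
    intro z hz
    apply hreg (i d)
    change z • (L.presheaf.germ ⊤ (i d) trivial) s =
      (0 : X.presheaf.stalk (i d)) • (L.presheaf.germ ⊤ (i d) trivial) s
    rw [hgs, smul_smul, hz, zero_smul, zero_smul]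
  have hgerm : ∀ (ξ : X) (h : ξ ⤳ i d), (L.presheaf.germ ⊤ ξ trivial) s =
      X.presheaf.stalkSpecializes h f₀ • L.presheaf.stalkSpecializes h t := by
    intro ξ h
    rw [← stalkSpecializes_smul, ← hgs]
    exact (ConcreteCategory.congr_hom
      (TopCat.Presheaf.germ_stalkSpecializes L.presheaf (U := ⊤) trivial h) s).symm
  have hcompst : ((i ≫ p).stalkMap d).hom =
      (i.stalkMap d).hom.comp (p.stalkMap (i d)).hom := by
    have h := Scheme.Hom.stalkMap_comp i p d
    rw [h]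
    rfl
  have hflatD : ((i.stalkMap d).hom.comp (p.stalkMap (i d)).hom).Flat := by
    rw [← hcompst]
    exact (Flat.iff_flat_stalkMap (i ≫ p)).mp inferInstance d
  have hnzd : Ideal.Quotient.mk ((RingHom.ker (Cyc.specMap (p (i d)) (p (i d)) hrefl)).map
      (p.stalkMap (i d)).hom) f₀ ∈ nonZeroDivisors _ :=
    mk_mem_nonZeroDivisors_of_flat_quotient (p.stalkMap (i d)).hom (i.stalkMap d).hom
      (i.stalkMap_surjective d) f₀ hker hf₀nzd hflatD _
  have hone : Ideal.Quotient.mk ((RingHom.ker (Cyc.specMap (p (i d)) (p (i d)) hrefl)).map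
      (p.stalkMap (i d)).hom) 1 ∈ nonZeroDivisors _ := by
    rw [map_one]
    exact one_mem _
  have hPtop : (RingHom.ker (Cyc.specMap (p (i d)) (p (i d)) hrefl)).map
      (p.stalkMap (i d)).hom ≠ ⊤ := by
    have h1 : RingHom.ker (Cyc.specMap (p (i d)) (p (i d)) hrefl) ≤
        maximalIdeal (Y.presheaf.stalk (p (i d))) :=
      IsLocalRing.le_maximalIdeal (Ideal.IsPrime.ne_top inferInstance)
    have h2 : Ideal.map (p.stalkMap (i d)).hom (maximalIdeal (Y.presheaf.stalk (p (i d)))) ≤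
        maximalIdeal (X.presheaf.stalk (i d)) :=
      ((IsLocalRing.local_hom_TFAE (p.stalkMap (i d)).hom).out 0 2).mp
        (inferInstance : IsLocalHom (p.stalkMap (i d)).hom)
    intro htop
    have h3 : (⊤ : Ideal (X.presheaf.stalk (i d))) ≤ maximalIdeal (X.presheaf.stalk (i d)) := by
      rw [← htop]
      exact (Ideal.map_mono h1).trans h2
    exact (IsLocalRing.maximalIdeal.isMaximal (X.presheaf.stalk (i d))).ne_top (top_le_iff.mp h3)
  have hspq : ∀ q : PrimeSpectrum (X.presheaf.stalk (i d)), X.fromSpecStalk (i d) q ⤳ i d :=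
    fun q => fromSpecStalk_specializes (i d) q
  have hfacts := facts_of_mem_minimalPrimes p (i d) (p (i d)) hrefl
  have hδq : ∀ q : PrimeSpectrum (X.presheaf.stalk (i d)),
      q.asIdeal ∈ ((RingHom.ker (Cyc.specMap (p (i d)) (p (i d)) hrefl)).map
        (p.stalkMap (i d)).hom).minimalPrimes →
      δX (i d) + 1 = δX (X.fromSpecStalk (i d) q) := by
    intro q hq
    obtain ⟨h1, h2⟩ := hfacts q hq
    rw [hc _ h2, h1, hA]
    ring
  have hdimq : ∀ q ∈ ((RingHom.ker (Cyc.specMap (p (i d)) (p (i d)) hrefl)).map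
      (p.stalkMap (i d)).hom).minimalPrimes, ringKrullDim (X.presheaf.stalk (i d) ⧸ q) = 1 := by
    intro q hq
    haveI : q.IsPrime := hq.1.1
    have hδ1 := hδq ⟨q, inferInstance⟩ hq
    obtain ⟨k', hk', hδk'⟩ := isDimFun_eq_add_locQuotDim X δX hX.2.2 (i d) _
      (hspq ⟨q, inferInstance⟩)
    have hk1 : k' = 1 := by omega
    have hker' := ker_specMap_fromSpecStalk (i d) q (hspq ⟨q, inferInstance⟩)
    change ringKrullDim (X.presheaf.stalk (i d) ⧸ RingHom.ker _) = _ at hk'
    rw [hker', hk1] at hk'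
    rw [hk']
    rfl
  have hdimP := ringKrullDim_quotient_eq_one _ hPtop hdimq
  obtain ⟨G, hG⟩ := exists_finset_minimalPrimes (X.presheaf.stalk (i d))
    ((RingHom.ker (Cyc.specMap (p (i d)) (p (i d)) hrefl)).map (p.stalkMap (i d)).hom)
  have hsum := ord_sub_ord_quotient_eq_sum _ hPtop hdimP f₀ 1 hnzd hone G hG
    (fun q => Module.length (X.presheaf.stalk (X.fromSpecStalk (i d) q))
      (X.presheaf.stalk (X.fromSpecStalk (i d) q) ⧸
        Ideal.map (p.stalkMap (X.fromSpecStalk (i d) q)).hom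
          (maximalIdeal (Y.presheaf.stalk (p (X.fromSpecStalk (i d) q))))))
    (fun q hq Q _ hQ => length_localization_quotient_stalk p (i d) (p (i d)) hrefl q
      (hfacts q ((hG q).mp hq)).1.symm Q hQ)
  simp only [map_one, Ring.ord_one, ENat.toNat_zero, Nat.cast_zero, sub_zero] at hsum
  rw [ord_quotient_mk] at hsum
  -- the right-hand side
  have hR : Cyc.pullFun (i ≫ p) (fun d => δX (i d)) δY r α d = α (p (i d)) *
      ((Module.length (X.presheaf.stalk (i d)) (X.presheaf.stalk (i d) ⧸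
        ((RingHom.ker (Cyc.specMap (p (i d)) (p (i d)) hrefl)).map (p.stalkMap (i d)).hom ⊔
          Ideal.span {f₀}))).toNat : ℤ) := by
    have hlen := length_quotient_map_of_surjective (i.stalkMap d).hom (i.stalkMap_surjective d)
      ((RingHom.ker (Cyc.specMap (p (i d)) (p (i d)) hrefl)).map (p.stalkMap (i d)).hom)
    rw [Ideal.map_map, hker, ← hcompst] at hlen
    rw [← hlen, ker_specMap_self]
    simp only [Cyc.pullFun]
    rw [if_pos (show δX (i d) = δY ((i ≫ p) d) + (r : ℤ) from hA)]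
    rfl
  -- reindex the left-hand side
  let e : {q // q ∈ G} → X := fun q => X.fromSpecStalk (i d) q.1
  have he_inj : Function.Injective e := by
    intro q q' hqq'
    exact Subtype.ext ((X.fromSpecStalk (i d)).isEmbedding.injective hqq')
  have hsupp : (Function.support fun ξ : X => Cyc.pullFun p δX δY (r + 1) α ξ *
      Cyc.secDivFun δX L ξ (Cyc.gysinChoice L s w ξ) (i d)) ⊆ ↑(G.attach.image e) := by
    intro ξ hξ
    rw [Function.mem_support] at hξ
    have hc1 : ξ ⤳ i d ∧ δX (i d) + 1 = δX ξ := by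
      by_contra hns
      apply hξ
      simp only [Cyc.secDivFun]
      rw [dif_neg hns, mul_zero]
    have hc2 : δX ξ = δY (p ξ) + ((r : ℤ) + 1) := by
      by_contra hns
      apply hξ
      simp only [Cyc.pullFun]
      rw [if_neg hns, zero_mul]
    obtain ⟨hpξ, -⟩ := hkey ξ hc1.1 hc1.2 hc2
    have hgen : IsGen p ξ := hgenOf ξ hc2
    have hmem := ker_specMap_mem_minimalPrimes p (i d) ξ hc1.1 (p (i d)) hpξ.symm hgen hrefl
    rw [Finset.coe_image, Set.mem_image]
    refine ⟨⟨⟨RingHom.ker (Cyc.specMap (i d) ξ hc1.1), inferInstance⟩, (hG _).mpr hmem⟩,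
      Finset.mem_coe.mpr (Finset.mem_attach _ _), ?_⟩
    exact fromSpecStalk_ker_specMap (i d) ξ hc1.1
  rw [finsum_eq_sum_of_support_subset _ hsupp, Finset.sum_image (fun q _ q' _ h => he_inj h), hR,
    hsum, Finset.mul_sum, ← Finset.sum_attach G]
  refine Finset.sum_congr rfl fun q _ => ?_
  have hq1 := hfacts q.1 ((hG q.1).mp q.2)
  have hδζ : δX (X.fromSpecStalk (i d) q.1) =
      δY (p (X.fromSpecStalk (i d) q.1)) + ((r : ℤ) + 1) := hc _ hq1.2
  have hcond : X.fromSpecStalk (i d) q.1 ⤳ i d ∧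
      δX (i d) + 1 = δX (X.fromSpecStalk (i d) q.1) :=
    ⟨hspq q.1, hδq q.1 ((hG q.1).mp q.2)⟩
  have hkerq : RingHom.ker (Cyc.specMap (i d) (X.fromSpecStalk (i d) q.1) (hspq q.1)) =
      q.1.asIdeal := ker_specMap_fromSpecStalk (i d) q.1.asIdeal (hspq q.1)
  have hdimq' := ringKrullDim_locQuot_le_one δX hX.2.2 (i d) (X.fromSpecStalk (i d) q.1)
    (hspq q.1) hcond.2
  have hne : (Submodule.Quotient.mk ((L.presheaf.germ ⊤ (X.fromSpecStalk (i d) q.1) trivial) s) :
      Cyc.secFibre L (X.fromSpecStalk (i d) q.1)) ≠ 0 := by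
    intro h0
    have hmem : X.fromSpecStalk (i d) q.1 ∈ Set.range ⇑i := by
      rw [hD.1]
      exact h0
    obtain ⟨e', he'⟩ := hmem
    have h1 := hDle e'
    rw [he'] at h1
    omega
  have hf₀q : Cyc.specMap (i d) (X.fromSpecStalk (i d) q.1) (hspq q.1) f₀ ≠ 0 := by
    intro h0
    apply hne
    rw [hgerm _ (hspq q.1), Submodule.Quotient.mk_eq_zero]
    apply Submodule.smul_mem_smul _ Submodule.mem_top
    exact (IsLocalRing.residue_eq_zero_iff _).mp h0
  have hgc : Cyc.gysinChoice L s w (X.fromSpecStalk (i d) q.1) =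
      Submodule.Quotient.mk ((L.presheaf.germ ⊤ (X.fromSpecStalk (i d) q.1) trivial) s) := by
    unfold Cyc.gysinChoice
    rw [if_pos hne]
  have hL2 : Ring.ord (X.presheaf.stalk (i d) ⧸ q.1.asIdeal) (Ideal.Quotient.mk q.1.asIdeal f₀) =
      Module.length (X.presheaf.stalk (i d)) (X.presheaf.stalk (i d) ⧸
        (RingHom.ker (Cyc.specMap (i d) (X.fromSpecStalk (i d) q.1) (hspq q.1)) ⊔
          Ideal.span {f₀})) := by
    rw [hkerq]
    exact ord_quotient_mk _ _
  have hα : α (p (X.fromSpecStalk (i d) q.1)) = α (p (i d)) := congrArg α hq1.1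
  change Cyc.pullFun p δX δY (r + 1) α (X.fromSpecStalk (i d) q.1) *
    Cyc.secDivFun δX L (X.fromSpecStalk (i d) q.1)
      (Cyc.gysinChoice L s w (X.fromSpecStalk (i d) q.1)) (i d) = _
  rw [hgc]
  simp only [Cyc.pullFun, Cyc.secDivFun]
  rw [if_pos hδζ, dif_pos hcond, hgerm _ (hspq q.1),
    secOrdAt_eq L _ (i d) (hspq q.1) t hbij (hbijξ _ (hspq q.1)) f₀,
    ordAt_specMap (i d) _ (hspq q.1) hdimq' f₀ hf₀q, hL2, hα]
  ring

end scheme

end Groth.Agent.Lib.Helper2.CycRelCartier
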