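import Mathlib
import Groth.Prelude.Def_Cyc
import Groth.Agent.Lib.Helper2CycRelCartier

/-!
# Finite flat morphisms: `Σ e_x f_x = rank` on fibres (helper2)

* `length_quot_map_maximalIdeal_of_equiv`, `finrank_residueField_of_equiv`: transport of the
  ramification length and the residue degree along an isomorphism of arrows of local rings.
* `chart_ramificationIdx`, `chart_inertiaDeg`: in affine charts, the length of
  `O_{X,x}/𝔪_{f x}O_{X,x}` is the ramification index and `f.residueDegree x` the inertia degree.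
* `finsum_ram_mul_deg_eq_finrank`: for `f` finite flat,
  `Σ_{x ∈ f⁻¹{y}} length(O_x/𝔪_y O_x)·[κ(x):κ(y)] = f.finrank y`.
-/

set_option autoImplicit false
set_option linter.style.haveILetI false

universe u

open AlgebraicGeometry CategoryTheory IsLocalRing

namespace Groth.Agent.Lib.Helper2.CycFinFlat

open Groth.Agent.Lib.Helper2.CycRelCartier

section alg

theorem length_quot_map_maximalIdeal_of_equiv {A B A' B' : Type u} [CommRing A] [CommRing B]
    [CommRing A'] [CommRing B'] [IsLocalRing A] [IsLocalRing A'] (ψ : A →+* B) (ψ' : A' →+* B')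
    (eA : A ≃+* A') (eB : B ≃+* B')
    (h : (eB : B →+* B').comp ψ = ψ'.comp (eA : A →+* A')) :
    Module.length B (B ⧸ (maximalIdeal A).map ψ) =
      Module.length B' (B' ⧸ (maximalIdeal A').map ψ') := by
  have hm : (maximalIdeal A).map (eA : A →+* A') = maximalIdeal A' :=
    IsLocalRing.map_ringEquiv_maximalIdeal eA
  have h1 : ((maximalIdeal A).map ψ).map (eB : B →+* B') = (maximalIdeal A').map ψ' := by
    rw [Ideal.map_map, h, ← Ideal.map_map, hm]
  have h2 := length_quotient_map_of_surjective (eB : B →+* B') eB.surjective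
    ((maximalIdeal A).map ψ)
  rw [h1, RingHom.ker_coe_equiv, sup_bot_eq] at h2
  exact h2.symm

theorem finrank_residueField_of_equiv {A B A' B' : Type u} [CommRing A] [CommRing B]
    [CommRing A'] [CommRing B'] [IsLocalRing A] [IsLocalRing A'] [IsLocalRing B] [IsLocalRing B']
    (ψ : A →+* B) (ψ' : A' →+* B')
    [Algebra (ResidueField A) (ResidueField B)] [Algebra (ResidueField A') (ResidueField B')]
    (h1 : ∀ a, algebraMap (ResidueField A) (ResidueField B) (residue A a) = residue B (ψ a))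
    (h2 : ∀ a, algebraMap (ResidueField A') (ResidueField B') (residue A' a) = residue B' (ψ' a))
    (eA : A ≃+* A') (eB : B ≃+* B')
    (h : (eB : B →+* B').comp ψ = ψ'.comp (eA : A →+* A')) :
    Module.finrank (ResidueField A) (ResidueField B) =
      Module.finrank (ResidueField A') (ResidueField B') := by
  refine Algebra.finrank_eq_of_equiv_equiv (ResidueField.mapEquiv eA) (ResidueField.mapEquiv eB) ?_
  apply RingHom.ext
  intro a
  obtain ⟨a, rfl⟩ := IsLocalRing.residue_surjective a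
  change algebraMap _ _ (ResidueField.map (eA : A →+* A') (residue A a)) =
    ResidueField.map (eB : B →+* B') (algebraMap _ _ (residue A a))
  rw [ResidueField.map_residue, h2, h1, ResidueField.map_residue]
  congr 1
  exact (RingHom.congr_fun h a).symm

end alg


section chart

variable {X Y : Scheme.{u}} (f : X ⟶ Y)

theorem chart_liesOver {U : Y.Opens} (hU : IsAffineOpen U) {V : X.Opens} (hV : IsAffineOpen V)
    (hVU : V ≤ f ⁻¹ᵁ U) (x : X) (hx : x ∈ V) :
    letI := (f.appLE U V hVU).hom.toAlgebra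
    (hV.primeIdealOf ⟨x, hx⟩).asIdeal.LiesOver (hU.primeIdealOf ⟨f x, hVU hx⟩).asIdeal := by
  letI := (f.appLE U V hVU).hom.toAlgebra
  constructor
  have h := IsAffineOpen.comap_primeIdealOf_appLE U hU V hV hVU hx
  exact congrArg PrimeSpectrum.asIdeal h.symm

/-- the comparison isomorphisms of the stalk map with the localized chart map. -/
theorem exists_chart_equiv {U : Y.Opens} (hU : IsAffineOpen U) {V : X.Opens} (hV : IsAffineOpen V)
    (hVU : V ≤ f ⁻¹ᵁ U) (x : X) (hx : x ∈ V)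
    (hpq : (hU.primeIdealOf ⟨f x, hVU hx⟩).asIdeal =
      (hV.primeIdealOf ⟨x, hx⟩).asIdeal.comap (f.appLE U V hVU).hom) :
    ∃ (eA : Y.presheaf.stalk (f x) ≃+*
        Localization.AtPrime (hU.primeIdealOf ⟨f x, hVU hx⟩).asIdeal)
      (eB : X.presheaf.stalk x ≃+* Localization.AtPrime (hV.primeIdealOf ⟨x, hx⟩).asIdeal),
      (eB : _ →+* _).comp (f.stalkMap x).hom =
        (Localization.localRingHom _ _ (f.appLE U V hVU).hom hpq).comp (eA : _ →+* _) := by
  let e := IsAffineOpen.arrowStalkMapIso f U hU V hV hVU hx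
  refine ⟨(Arrow.leftFunc.mapIso e).commRingCatIsoToRingEquiv,
    (Arrow.rightFunc.mapIso e).commRingCatIsoToRingEquiv, ?_⟩
  apply RingHom.ext
  intro a
  have hw := ConcreteCategory.congr_hom (Arrow.w e.hom) a
  exact hw.symm

theorem chart_ramificationIdx {U : Y.Opens} (hU : IsAffineOpen U) {V : X.Opens}
    (hV : IsAffineOpen V) (hVU : V ≤ f ⁻¹ᵁ U) (x : X) (hx : x ∈ V) :
    letI := (f.appLE U V hVU).hom.toAlgebra
    (Module.length (X.presheaf.stalk x) (X.presheaf.stalk x ⧸ Ideal.map (f.stalkMap x).hom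
      (maximalIdeal (Y.presheaf.stalk (f x))))).toNat =
      (hV.primeIdealOf ⟨x, hx⟩).asIdeal.ramificationIdx Γ(Y, U) := by
  letI := (f.appLE U V hVU).hom.toAlgebra
  haveI := chart_liesOver f hU hV hVU x hx
  have hpq : (hU.primeIdealOf ⟨f x, hVU hx⟩).asIdeal =
      (hV.primeIdealOf ⟨x, hx⟩).asIdeal.comap (f.appLE U V hVU).hom :=
    congr($(IsAffineOpen.comap_primeIdealOf_appLE U hU V hV hVU hx).1).symm
  obtain ⟨eA, eB, hcomm⟩ := exists_chart_equiv f hU hV hVU x hx hpq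
  rw [length_quot_map_maximalIdeal_of_equiv _ _ eA eB hcomm,
    Ideal.ramificationIdx_eq (hU.primeIdealOf ⟨f x, hVU hx⟩).asIdeal
      (hV.primeIdealOf ⟨x, hx⟩).asIdeal]
  have hI : Ideal.map (Localization.localRingHom _ _ (f.appLE U V hVU).hom hpq)
      (maximalIdeal (Localization.AtPrime (hU.primeIdealOf ⟨f x, hVU hx⟩).asIdeal)) =
      Ideal.map (algebraMap Γ(Y, U) (Localization.AtPrime (hV.primeIdealOf ⟨x, hx⟩).asIdeal))
        (hU.primeIdealOf ⟨f x, hVU hx⟩).asIdeal := by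
    rw [← Localization.AtPrime.map_eq_maximalIdeal, Ideal.map_map]
    congr 1
    apply RingHom.ext
    intro r
    rw [RingHom.comp_apply, Localization.localRingHom_to_map,
      IsScalarTower.algebraMap_apply Γ(Y, U) Γ(X, V)
        (Localization.AtPrime (hV.primeIdealOf ⟨x, hx⟩).asIdeal)]
    rfl
  rw [hI]

theorem chart_inertiaDeg {U : Y.Opens} (hU : IsAffineOpen U) {V : X.Opens}
    (hV : IsAffineOpen V) (hVU : V ≤ f ⁻¹ᵁ U) (x : X) (hx : x ∈ V) :
    letI := (f.appLE U V hVU).hom.toAlgebra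
    f.residueDegree x = (hV.primeIdealOf ⟨x, hx⟩).asIdeal.inertiaDeg Γ(Y, U) := by
  letI := (f.appLE U V hVU).hom.toAlgebra
  haveI := chart_liesOver f hU hV hVU x hx
  have hpq : (hU.primeIdealOf ⟨f x, hVU hx⟩).asIdeal =
      (hV.primeIdealOf ⟨x, hx⟩).asIdeal.comap (f.appLE U V hVU).hom :=
    congr($(IsAffineOpen.comap_primeIdealOf_appLE U hU V hV hVU hx).1).symm
  obtain ⟨eA, eB, hcomm⟩ := exists_chart_equiv f hU hV hVU x hx hpq
  letI := Localization.AtPrime.algebraOfLiesOver (hU.primeIdealOf ⟨f x, hVU hx⟩).asIdeal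
    (hV.primeIdealOf ⟨x, hx⟩).asIdeal
  rw [Ideal.inertiaDeg_eq (hU.primeIdealOf ⟨f x, hVU hx⟩).asIdeal
    (hV.primeIdealOf ⟨x, hx⟩).asIdeal]
  unfold Scheme.Hom.residueDegree
  letI : Algebra (ResidueField (Y.presheaf.stalk (f x))) (ResidueField (X.presheaf.stalk x)) :=
    (f.residueFieldMap x).hom.toAlgebra
  exact finrank_residueField_of_equiv (f.stalkMap x).hom
    (Localization.localRingHom _ _ (f.appLE U V hVU).hom hpq) (fun _ => rfl) (fun _ => rfl)
    eA eB hcomm

end chart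


section main

open Classical

variable {X Y : Scheme.{u}} (f : X ⟶ Y)

theorem bijOn_primeIdealOf [IsAffineHom f] {U : Y.Opens} (hU : IsAffineOpen U) (y : Y)
    (hyU : y ∈ U) :
    letI := (f.appLE U (f ⁻¹ᵁ U) le_rfl).hom.toAlgebra
    Set.BijOn (fun x : X => if h : x ∈ f ⁻¹ᵁ U then
        ((hU.preimage f).primeIdealOf ⟨x, h⟩).asIdeal else ⊥)
      (f ⁻¹' {y}) ((hU.primeIdealOf ⟨y, hyU⟩).asIdeal.primesOver Γ(X, f ⁻¹ᵁ U)) := by
  letI := (f.appLE U (f ⁻¹ᵁ U) le_rfl).hom.toAlgebra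
  have hV : IsAffineOpen (f ⁻¹ᵁ U) := hU.preimage f
  refine ⟨?_, ?_, ?_⟩
  · intro x hx
    have hx' : f x = y := hx
    have hxV : x ∈ f ⁻¹ᵁ U := by
      change f x ∈ U
      rw [hx']
      exact hyU
    simp only [dif_pos hxV]
    have h1 := chart_liesOver f hU hV le_rfl x hxV
    have h2 : hU.primeIdealOf ⟨y, hyU⟩ = hU.primeIdealOf ⟨f x, hxV⟩ := by
      congr 1
      exact Subtype.ext hx'.symm
    rw [h2]
    exact ⟨(hV.primeIdealOf ⟨x, hxV⟩).isPrime, h1⟩
  · intro x hx x' hx' hee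
    have hxV : x ∈ f ⁻¹ᵁ U := by
      change f x ∈ U
      rw [show f x = y from hx]
      exact hyU
    have hxV' : x' ∈ f ⁻¹ᵁ U := by
      change f x' ∈ U
      rw [show f x' = y from hx']
      exact hyU
    simp only [dif_pos hxV, dif_pos hxV'] at hee
    have h1 : hV.primeIdealOf ⟨x, hxV⟩ = hV.primeIdealOf ⟨x', hxV'⟩ := PrimeSpectrum.ext hee
    have h2 := congrArg (fun q => hV.fromSpec q) h1
    simp only [hV.fromSpec_primeIdealOf] at h2
    exact h2
  · rintro q ⟨hqprime, hqlies⟩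
    let Q : PrimeSpectrum Γ(X, f ⁻¹ᵁ U) := ⟨q, hqprime⟩
    have hxV : hV.fromSpec Q ∈ f ⁻¹ᵁ U := by
      have h3 : hV.fromSpec Q ∈ Set.range hV.fromSpec := Set.mem_range_self Q
      rw [hV.range_fromSpec] at h3
      exact h3
    have hprime : hV.primeIdealOf ⟨hV.fromSpec Q, hxV⟩ = Q := by
      apply hV.fromSpec.isOpenEmbedding.injective
      rw [hV.fromSpec_primeIdealOf]
    have hfx : f (hV.fromSpec Q) = y := by
      have h4 := congrArg (fun g : Spec Γ(X, f ⁻¹ᵁ U) ⟶ Y => g Q)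
        (IsAffineOpen.SpecMap_appLE_fromSpec f hU hV le_rfl)
      simp only [Scheme.Hom.comp_apply] at h4
      rw [← h4]
      have h5 : Spec.map (f.appLE U (f ⁻¹ᵁ U) le_rfl) Q = hU.primeIdealOf ⟨y, hyU⟩ := by
        apply PrimeSpectrum.ext
        exact (hqlies.over).symm
      rw [h5, hU.fromSpec_primeIdealOf]
    refine ⟨hV.fromSpec Q, hfx, ?_⟩
    simp only [dif_pos hxV]
    rw [hprime]

/-- For `f` finite flat: `Σ_{x ∈ f⁻¹{y}} length(O_x/𝔪_y O_x)·[κ(x):κ(y)] = f.finrank y`. -/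
theorem finsum_ram_mul_deg_eq_finrank [IsFinite f] [Flat f] (y : Y) :
    ∑ᶠ x ∈ f ⁻¹' {y}, ((Module.length (X.presheaf.stalk x) (X.presheaf.stalk x ⧸
        Ideal.map (f.stalkMap x).hom (maximalIdeal (Y.presheaf.stalk (f x))))).toNat *
        f.residueDegree x) = f.finrank y := by
  obtain ⟨U, hU, hyU⟩ : ∃ U : Y.Opens, IsAffineOpen U ∧ y ∈ U := by
    obtain ⟨_, ⟨U, hU, rfl⟩, hyU, -⟩ :=
      Y.isBasis_affineOpens.exists_subset_of_mem_open (Set.mem_univ y) isOpen_univ
    exact ⟨U, hU, hyU⟩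
  have hV : IsAffineOpen (f ⁻¹ᵁ U) := hU.preimage f
  letI := (f.appLE U (f ⁻¹ᵁ U) le_rfl).hom.toAlgebra
  have hfin : (f.appLE U (f ⁻¹ᵁ U) le_rfl).hom.Finite := by
    rw [← Scheme.Hom.app_eq_appLE]
    exact f.finite_app U hU
  have hflat : (f.appLE U (f ⁻¹ᵁ U) le_rfl).hom.Flat := f.flat_appLE hU hV le_rfl
  haveI : Module.Finite Γ(Y, U) Γ(X, f ⁻¹ᵁ U) := hfin
  haveI : Module.Flat Γ(Y, U) Γ(X, f ⁻¹ᵁ U) := hflat
  have hbij := bijOn_primeIdealOf f hU y hyU
  haveI : Fintype ((hU.primeIdealOf ⟨y, hyU⟩).asIdeal.primesOver Γ(X, f ⁻¹ᵁ U)) :=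
    (Algebra.QuasiFinite.finite_primesOver _).fintype
  have h1 : ∀ x ∈ f ⁻¹' {y}, ((Module.length (X.presheaf.stalk x) (X.presheaf.stalk x ⧸
        Ideal.map (f.stalkMap x).hom (maximalIdeal (Y.presheaf.stalk (f x))))).toNat *
        f.residueDegree x) =
      (fun q : Ideal Γ(X, f ⁻¹ᵁ U) => q.ramificationIdx Γ(Y, U) * q.inertiaDeg Γ(Y, U))
        ((fun x : X => if h : x ∈ f ⁻¹ᵁ U then
          ((hU.preimage f).primeIdealOf ⟨x, h⟩).asIdeal else ⊥) x) := by
    intro x hx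
    have hxV : x ∈ f ⁻¹ᵁ U := by
      change f x ∈ U
      rw [show f x = y from hx]
      exact hyU
    simp only [dif_pos hxV]
    rw [chart_ramificationIdx f hU hV le_rfl x hxV, chart_inertiaDeg f hU hV le_rfl x hxV]
  rw [finsum_mem_eq_of_bijOn (g := fun q : Ideal Γ(X, f ⁻¹ᵁ U) =>
      q.ramificationIdx Γ(Y, U) * q.inertiaDeg Γ(Y, U)) _ hbij h1, ← finsum_set_coe_eq_finsum_mem, finsum_eq_sum_of_fintype,
    Ideal.sum_ramification_inertia_eq_finrank_fiber, Ideal.finrank_fiber_eq_rankAtStalk]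
  have sq1 : IsPullback (Spec.map (f.appLE U (f ⁻¹ᵁ U) le_rfl)) hV.fromSpec hU.fromSpec f :=
    IsOpenImmersion.isPullback _ _ _ _ (IsAffineOpen.SpecMap_appLE_fromSpec f hU hV le_rfl).symm
      (by rw [hU.opensRange_fromSpec, hV.opensRange_fromSpec])
  haveI : IsFinite (Spec.map (f.appLE U (f ⁻¹ᵁ U) le_rfl)) := (IsFinite.SpecMap_iff _).mpr hfin
  haveI : Flat (Spec.map (f.appLE U (f ⁻¹ᵁ U) le_rfl)) := Flat.SpecMap_iff.mpr hflat
  have h4 := Scheme.Hom.finrank_of_isPullback _ _ _ _ sq1.flip (hU.primeIdealOf ⟨y, hyU⟩)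
  rw [hU.fromSpec_primeIdealOf, Scheme.Hom.finrank_SpecMap_eq_finrank hfin hflat] at h4
  exact h4

theorem residueDegree_pos [IsFinite f] (x : X) : 0 < f.residueDegree x := by
  obtain ⟨U, hU, hyU⟩ : ∃ U : Y.Opens, IsAffineOpen U ∧ f x ∈ U := by
    obtain ⟨_, ⟨U, hU, rfl⟩, hyU, -⟩ :=
      Y.isBasis_affineOpens.exists_subset_of_mem_open (Set.mem_univ (f x)) isOpen_univ
    exact ⟨U, hU, hyU⟩
  have hV : IsAffineOpen (f ⁻¹ᵁ U) := hU.preimage f
  letI := (f.appLE U (f ⁻¹ᵁ U) le_rfl).hom.toAlgebra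
  have hfin : (f.appLE U (f ⁻¹ᵁ U) le_rfl).hom.Finite := by
    rw [← Scheme.Hom.app_eq_appLE]
    exact f.finite_app U hU
  haveI : Module.Finite Γ(Y, U) Γ(X, f ⁻¹ᵁ U) := hfin
  rw [chart_inertiaDeg f hU hV le_rfl x hyU]
  haveI := (hV.primeIdealOf ⟨x, hyU⟩).isPrime
  exact Ideal.inertiaDeg_pos _ _

theorem trdeg_residueField_eq_zero [IsFinite f] (x : X) :
    (letI := (f.residueFieldMap x).hom.toAlgebra
     Algebra.trdeg (Y.residueField (f x)) (X.residueField x)) = 0 := by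
  letI := (f.residueFieldMap x).hom.toAlgebra
  have hpos : 0 < Module.finrank (Y.residueField (f x)) (X.residueField x) :=
    residueDegree_pos f x
  haveI : Module.Finite (Y.residueField (f x)) (X.residueField x) :=
    Module.finite_of_finrank_pos hpos
  haveI : Algebra.IsAlgebraic (Y.residueField (f x)) (X.residueField x) :=
    Algebra.IsAlgebraic.of_finite _ _
  exact _root_.trdeg_eq_zero

theorem delta_eq [IsFinite f] (δX : X → ℤ) (δY : Y → ℤ) (hδ : Cyc.DeltaCompat f δX δY) (x : X) :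
    δX x = δY (f x) := by
  obtain ⟨n, hn, hδn⟩ := hδ x
  have h0 := trdeg_residueField_eq_zero f x
  have h1 : (n : Cardinal.{u}) = 0 := hn.symm.trans h0
  have hn0 : n = 0 := by exact_mod_cast h1
  rw [hδn, hn0]
  simp

theorem hasRelDim_zero [IsFinite f] : Cyc.HasRelDim f 0 := by
  intro y T hT
  haveI : DiscreteTopology (f.fiber y) := inferInstance
  have hne : (T : Set (f.fiber y)).Nonempty := hT.prop.nonempty
  rw [Nat.cast_zero]
  apply le_antisymm
  · exact topologicalKrullDim_zero_of_discreteTopology T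
  · obtain ⟨t, ht⟩ := hne
    haveI : Nonempty (TopologicalSpace.IrreducibleCloseds ↥T) :=
      ⟨⟨{⟨t, ht⟩}, isIrreducible_singleton, isClosed_discrete _⟩⟩
    exact Order.krullDim_nonneg

theorem map_pullFun_eq [IsFinite f] [Flat f] (δX : X → ℤ) (δY : Y → ℤ)
    (hδ : Cyc.DeltaCompat f δX δY) (d : ℕ) (hd : ∀ y : Y, f.finrank y = d)
    (α : AlgebraicCycle Y ℤ) (α' : AlgebraicCycle X ℤ)
    (hα' : ⇑α' = Cyc.pullFun f δX δY 0 ⇑α) :
    AlgebraicCycle.map f δX δY α' = d • α := by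
  ext y
  rw [Function.locallyFinsuppWithin.coe_nsmul]
  simp only [AlgebraicCycle.map, Function.locallyFinsupp.map_apply, Pi.smul_apply]
  have hfinite := Scheme.Hom.finite_preimage_singleton f y
  have h1 : ∀ x ∈ f ⁻¹' {y}, α' x * ((AlgebraicCycle.mapCoeff f δX δY x : ℕ) : ℤ) =
      α y * (((Module.length (X.presheaf.stalk x) (X.presheaf.stalk x ⧸
        Ideal.map (f.stalkMap x).hom (maximalIdeal (Y.presheaf.stalk (f x))))).toNat *
        f.residueDegree x : ℕ) : ℤ) := by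
    intro x hx
    have hxy : f x = y := hx
    have hdx := delta_eq f δX δY hδ x
    rw [hα']
    unfold Cyc.pullFun AlgebraicCycle.mapCoeff
    rw [if_pos hdx]
    simp only
    rw [if_pos (by rw [hdx, add_zero])]
    have hα : α (f x) = α y := by rw [hxy]
    rw [hα]
    push_cast
    ring
  have key := finsum_ram_mul_deg_eq_finrank f y
  rw [finsum_mem_eq_finite_toFinset_sum _ hfinite, hd y] at key
  rw [finsum_mem_eq_finite_toFinset_sum _ hfinite,
    Finset.sum_congr rfl (fun x hx => h1 x (hfinite.mem_toFinset.mp hx)), ← Finset.mul_sum,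
    ← Nat.cast_sum, key, nsmul_eq_mul, mul_comm]

end main

end Groth.Agent.Lib.Helper2.CycFinFlat
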