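import Mathlib

set_option autoImplicit false
set_option linter.style.haveILetI false
set_option linter.unusedSectionVars false
universe u v w

open Algebra MvPolynomial Cardinal Set

namespace Groth.Agent.Lib.Helper16.TrdegAlg

/-- generation of a field by the images of two ring homs -/
def Gen {A B C : Type*} [Field A] [Field B] [Field C] (φ : A →+* C) (ψ : B →+* C) : Prop :=
  ∀ F : Subfield C, (∀ a, φ a ∈ F) → (∀ b, ψ b ∈ F) → F = ⊤

theorem isAlgebraic_adjoin_of_gen {k K l L : Type*} [Field k] [Field K] [Field l] [Field L]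
    [Algebra k K] [Algebra k l] [Algebra K L] [Algebra l L] [Algebra k L]
    [IsScalarTower k K L] [IsScalarTower k l L]
    (hgen : Gen (algebraMap K L) (algebraMap l L))
    {ι : Type*} (x : ι → K) [Algebra.IsAlgebraic (adjoin k (range x)) K] :
    Algebra.IsAlgebraic (adjoin l (range (algebraMap K L ∘ x))) L := by
  set A₁ := adjoin l (range (algebraMap K L ∘ x)) with hA₁
  let F : Subfield L :=
    { carrier := {z | IsAlgebraic A₁ z}
      mul_mem' := fun ha hb => ha.mul hb
      one_mem' := isAlgebraic_one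
      add_mem' := fun ha hb => ha.add hb
      zero_mem' := isAlgebraic_zero
      neg_mem' := fun ha => ha.neg
      inv_mem' := fun _ ha => ha.inv }
  have hF : F = ⊤ := hgen F ?_ ?_
  · refine ⟨fun z => ?_⟩
    have : z ∈ F := hF ▸ Subfield.mem_top z
    exact this
  · intro a
    have ha : IsAlgebraic (adjoin k (range x)) a := Algebra.IsAlgebraic.isAlgebraic a
    have hmem : ∀ y : adjoin k (range x), algebraMap K L y.1 ∈ A₁ := by
      rintro ⟨y, hy⟩
      induction hy using Algebra.adjoin_induction with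
      | mem y hy => obtain ⟨i, rfl⟩ := hy; exact subset_adjoin ⟨i, rfl⟩
      | algebraMap r =>
        change algebraMap K L (algebraMap k K r) ∈ A₁
        rw [← IsScalarTower.algebraMap_apply k K L, IsScalarTower.algebraMap_apply k l L]
        exact A₁.algebraMap_mem _
      | add y z _ _ hy hz => change algebraMap K L (y + z) ∈ A₁; rw [map_add]; exact A₁.add_mem hy hz
      | mul y z _ _ hy hz => change algebraMap K L (y * z) ∈ A₁; rw [map_mul]; exact A₁.mul_mem hy hz
    let f : adjoin k (range x) →+* A₁ :=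
      ((algebraMap K L).comp (adjoin k (range x)).val.toRingHom).codRestrict A₁ hmem
    have hf : Function.Injective f := by
      intro y z hyz
      have h1 : algebraMap K L y.1 = algebraMap K L z.1 := congrArg Subtype.val hyz
      exact Subtype.ext ((algebraMap K L).injective h1)
    exact ha.ringHom_of_comp_eq f (algebraMap K L) hf (by ext; rfl)
  · intro b
    exact isAlgebraic_algebraMap (R := A₁) (A := L) ⟨algebraMap l L b, A₁.algebraMap_mem b⟩

theorem trdeg_le_of_gen {k K l L : Type u} [Field k] [Field K] [Field l] [Field L]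
    [Algebra k K] [Algebra k l] [Algebra K L] [Algebra l L] [Algebra k L]
    [IsScalarTower k K L] [IsScalarTower k l L]
    (hgen : Gen (algebraMap K L) (algebraMap l L)) :
    Algebra.trdeg l L ≤ Algebra.trdeg k K := by
  obtain ⟨ι, x, hx⟩ := exists_isTranscendenceBasis' k K
  haveI := hx.isAlgebraic
  haveI := isAlgebraic_adjoin_of_gen (k := k) hgen x
  refine (Algebra.IsAlgebraic.trdeg_le_cardinalMk l (range (algebraMap K L ∘ x))).trans ?_
  rw [← hx.cardinalMk_eq_trdeg]
  exact Cardinal.mk_range_le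

theorem isTranscendenceBasis_of_gen {k K l L : Type u} [Field k] [Field K] [Field l] [Field L]
    [Algebra k K] [Algebra k l] [Algebra K L] [Algebra l L] [Algebra k L]
    [IsScalarTower k K L] [IsScalarTower k l L]
    (hgen : Gen (algebraMap K L) (algebraMap l L))
    {ι : Type u} [Finite ι] (x : ι → K) (hx : IsTranscendenceBasis k x)
    (hle : Algebra.trdeg k K ≤ Algebra.trdeg l L) :
    IsTranscendenceBasis l (algebraMap K L ∘ x) := by
  haveI := hx.isAlgebraic
  haveI := isAlgebraic_adjoin_of_gen (k := k) hgen x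
  refine Algebra.IsAlgebraic.isTranscendenceBasis_of_le_trdeg_of_finite l _ ?_
  rw [hx.cardinalMk_eq_trdeg]
  exact hle

/-- tower lemma -/
theorem algebraicIndependent_of_sumElim {R S A : Type*} [Field R] [Field S] [Field A]
    [Algebra R S] [Algebra S A] [Algebra R A] [IsScalarTower R S A]
    {ι ι' : Type*} (x : ι → S) [Algebra.IsAlgebraic (adjoin R (range x)) S] (y : ι' → A)
    (h : AlgebraicIndependent R (Sum.elim y (algebraMap S A ∘ x))) : AlgebraicIndependent S y := by
  obtain ⟨-, hy⟩ := AlgebraicIndependent.sumElim_iff.mp h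
  let f := IsScalarTower.toAlgHom R S A
  have hfinj : Function.Injective f := (algebraMap S A).injective
  have hrange : adjoin R (range (algebraMap S A ∘ x)) = (adjoin R (range x)).map f := by
    rw [Set.range_comp]
    exact (AlgHom.map_adjoin f _).symm
  rw [hrange] at hy
  set Rx := adjoin R (range x)
  let e := Rx.equivMapOfInjective f hfinj
  letI : Algebra (Rx.map f) S := (Rx.val.toRingHom.comp e.symm.toRingHom).toAlgebra
  haveI : IsScalarTower (Rx.map f) S A := .of_algebraMap_eq fun z => by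
    change z.1 = f (e.symm z).1
    have : (e (e.symm z)).1 = f (e.symm z).1 := rfl
    rw [← this, AlgEquiv.apply_symm_apply]
  haveI : Algebra.IsAlgebraic (Rx.map f) S :=
    Algebra.IsAlgebraic.ringHom_of_comp_eq (R := Rx) (A := S) (S := Rx.map f) (B := S)
      e.toRingHom (RingHom.id S) e.injective Function.surjective_id (by
        ext z
        change ((e.symm (e z)).1 : S) = z.1
        rw [AlgEquiv.symm_apply_apply])
  exact hy.extendScalars S

theorem algebraicIndependent_of_sumElim' {R S A : Type*} [Field R] [Field S] [Field A]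
    [Algebra R S] [Algebra S A] [Algebra R A] [IsScalarTower R S A]
    {ι ι' : Type*} (x : ι → S) [Algebra.IsAlgebraic (adjoin R (range x)) S] (y : ι' → A)
    (h : AlgebraicIndependent R (Sum.elim (algebraMap S A ∘ x) y)) : AlgebraicIndependent S y := by
  apply algebraicIndependent_of_sumElim (R := R) x y
  have := (algebraicIndependent_equiv (Equiv.sumComm ι' ι)
    (f := Sum.elim (algebraMap S A ∘ x) y) (R := R)).mpr h
  convert this using 1
  ext (i | i) <;> rfl

theorem flat_of_field (R K : Type*) [CommRing R] [Field K] [Algebra R K] [FaithfulSMul R K] :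
    Module.Flat R K := by
  letI := FractionRing.liftAlgebra R K
  haveI := FractionRing.isScalarTower_liftAlgebra R K
  haveI := IsDomain.of_faithfulSMul R K
  exact Module.Flat.trans R (FractionRing R) K

attribute [local instance] MvPolynomial.algebraMvPolynomial in
theorem algebraicIndependent_of_minimal {K K₁ K₂ Tn L : Type*} [Field K] [Field K₁] [Field K₂]
    [CommRing Tn] [Field L] [Algebra K K₁] [Algebra K K₂] [Algebra K₁ Tn] [Algebra K₂ Tn]
    [Algebra K Tn] [IsScalarTower K K₁ Tn] [IsScalarTower K K₂ Tn]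
    [Algebra.IsPushout K K₁ K₂ Tn]
    [Algebra Tn L] [Algebra K₁ L] [Algebra K₂ L] [IsScalarTower K₁ Tn L] [IsScalarTower K₂ Tn L]
    (hmin : RingHom.ker (algebraMap Tn L) ∈ minimalPrimes Tn)
    {ι : Type*} (v : ι → K₂) (hv : AlgebraicIndependent K v) :
    AlgebraicIndependent K₁ (algebraMap K₂ L ∘ v) := by
  let w : ι → Tn := algebraMap K₂ Tn ∘ v
  letI aR : Algebra (MvPolynomial ι K) K₂ := (aeval v : MvPolynomial ι K →ₐ[K] K₂).toAlgebra
  letI aR1 : Algebra (MvPolynomial ι K₁) Tn := (aeval w : MvPolynomial ι K₁ →ₐ[K₁] Tn).toAlgebra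
  letI aRT : Algebra (MvPolynomial ι K) Tn := (aeval w : MvPolynomial ι K →ₐ[K] Tn).toAlgebra
  haveI t1 : IsScalarTower (MvPolynomial ι K) K₂ Tn := .of_algebraMap_eq fun p => by
    change aeval w p = algebraMap K₂ Tn (aeval v p)
    exact MvPolynomial.aeval_algebraMap_apply Tn v p
  haveI t2 : IsScalarTower (MvPolynomial ι K) (MvPolynomial ι K₁) Tn := .of_algebraMap_eq fun p => by
    change aeval w p = aeval w (MvPolynomial.map (algebraMap K K₁) p)
    exact (MvPolynomial.aeval_map_algebraMap K₁ w p).symm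
  haveI t3 : IsScalarTower K (MvPolynomial ι K₁) Tn := .of_algebraMap_eq fun r => by
    change algebraMap K Tn r = aeval w (algebraMap K (MvPolynomial ι K₁) r)
    rw [MvPolynomial.algebraMap_apply, MvPolynomial.aeval_C, ← IsScalarTower.algebraMap_apply]
  haveI t4 : IsScalarTower K₁ (MvPolynomial ι K₁) Tn := .of_algebraMap_eq fun r => by
    change algebraMap K₁ Tn r = aeval w (algebraMap K₁ (MvPolynomial ι K₁) r)
    rw [MvPolynomial.algebraMap_eq, MvPolynomial.aeval_C]
  haveI hpo : Algebra.IsPushout K K₂ K₁ Tn := Algebra.IsPushout.symm inferInstance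
  have hpo2 : Algebra.IsPushout (MvPolynomial ι K) K₂ (MvPolynomial ι K₁) Tn :=
    (Algebra.IsPushout.comp_iff K (MvPolynomial ι K) K₁ (S' := MvPolynomial ι K₁) (T := K₂)
      (T' := Tn)).mp hpo
  have hbc := (Algebra.isPushout_iff _ _ _ _).mp hpo2.symm
  haveI : FaithfulSMul (MvPolynomial ι K) K₂ := (faithfulSMul_iff_algebraMap_injective _ _).mpr hv
  haveI : Module.Flat (MvPolynomial ι K) K₂ := flat_of_field _ _
  haveI hflat : Module.Flat (MvPolynomial ι K₁) Tn := Module.Flat.isBaseChange _ _ _ _ hbc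
  have hcomp : (aeval (algebraMap K₂ L ∘ v) : MvPolynomial ι K₁ →ₐ[K₁] L) =
      (IsScalarTower.toAlgHom K₁ Tn L).comp (aeval w) := by
    rw [MvPolynomial.comp_aeval]
    congr 1
    ext i
    exact IsScalarTower.algebraMap_apply K₂ Tn L (v i)
  change Function.Injective (aeval (algebraMap K₂ L ∘ v) : MvPolynomial ι K₁ →ₐ[K₁] L)
  rw [injective_iff_map_eq_zero]
  intro p hp
  by_contra hp0
  rw [hcomp] at hp
  have hker : aeval w p ∈ RingHom.ker (algebraMap Tn L) := hp
  have hnzd : aeval w p ∈ nonZeroDivisors Tn := by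
    have hreg : IsSMulRegular Tn p :=
      Module.Flat.isSMulRegular_of_nonZeroDivisors (mem_nonZeroDivisors_of_ne_zero hp0)
    rw [mem_nonZeroDivisors_iff_right]
    intro t ht
    apply hreg
    change p • t = p • 0
    rw [smul_zero, Algebra.smul_def, mul_comm]
    exact ht
  exact Set.disjoint_left.mp (Ideal.disjoint_nonZeroDivisors_of_mem_minimalPrimes hmin) hker hnzd

theorem Gen.symm {A B C : Type*} [Field A] [Field B] [Field C] {φ : A →+* C} {ψ : B →+* C}
    (h : Gen φ ψ) : Gen ψ φ := fun F h1 h2 => h F h2 h1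

theorem trdeg_eq_of_minimal {k K k₁ K₁ k₂ K₂ l L : Type u} [Field k] [Field K] [Field k₁] [Field K₁]
    [Field k₂] [Field K₂] [Field l] [Field L]
    (a : k →+* K) (b₁ : k →+* k₁) (b₂ : k →+* k₂) (c₁ : K →+* K₁) (c₂ : K →+* K₂)
    (d₁ : k₁ →+* K₁) (d₂ : k₂ →+* K₂) (e₁ : K₁ →+* L) (e₂ : K₂ →+* L)
    (m₁ : k₁ →+* l) (m₂ : k₂ →+* l) (n : l →+* L)
    (sq1 : c₁.comp a = d₁.comp b₁) (sq2 : c₂.comp a = d₂.comp b₂) (sq3 : m₁.comp b₁ = m₂.comp b₂)
    (sq4 : e₁.comp d₁ = n.comp m₁) (sq5 : e₂.comp d₂ = n.comp m₂)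
    (G1 : Gen c₁ d₁) (G2 : Gen c₂ d₂) (G3 : Gen m₁ m₂) (G4 : Gen (e₁.comp c₁) n)
    (r : ℕ)
    (ha : @Algebra.trdeg k K _ _ a.toAlgebra = r)
    (hd₁ : @Algebra.trdeg k₁ K₁ _ _ d₁.toAlgebra = r)
    (hd₂ : @Algebra.trdeg k₂ K₂ _ _ d₂.toAlgebra = r)
    (hmin : ∀ (ι : Type u) (v : ι → K₂), @AlgebraicIndependent ι K K₂ v _ _ c₂.toAlgebra →
      @AlgebraicIndependent ι K₁ L (e₂ ∘ v) _ _ e₁.toAlgebra) :
    @Algebra.trdeg l L _ _ n.toAlgebra = r := by
  letI : Algebra k K := a.toAlgebra
  letI : Algebra k k₁ := b₁.toAlgebra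
  letI : Algebra k k₂ := b₂.toAlgebra
  letI : Algebra K K₁ := c₁.toAlgebra
  letI : Algebra K K₂ := c₂.toAlgebra
  letI : Algebra k₁ K₁ := d₁.toAlgebra
  letI : Algebra k₂ K₂ := d₂.toAlgebra
  letI : Algebra K₁ L := e₁.toAlgebra
  letI : Algebra K₂ L := e₂.toAlgebra
  letI : Algebra k₁ l := m₁.toAlgebra
  letI : Algebra k₂ l := m₂.toAlgebra
  letI : Algebra l L := n.toAlgebra
  letI : Algebra k K₁ := (c₁.comp a).toAlgebra
  letI : Algebra k K₂ := (c₂.comp a).toAlgebra
  letI : Algebra k l := (m₁.comp b₁).toAlgebra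
  letI : Algebra K L := (e₁.comp c₁).toAlgebra
  letI : Algebra k₁ L := (e₁.comp d₁).toAlgebra
  letI : Algebra k L := (e₁.comp (c₁.comp a)).toAlgebra
  haveI : IsScalarTower k K K₁ := .of_algebraMap_eq fun _ => rfl
  haveI : IsScalarTower k k₁ K₁ := .of_algebraMap_eq fun x => congr($sq1 x)
  haveI : IsScalarTower k K K₂ := .of_algebraMap_eq fun _ => rfl
  haveI : IsScalarTower k k₂ K₂ := .of_algebraMap_eq fun x => congr($sq2 x)
  haveI : IsScalarTower k k₁ l := .of_algebraMap_eq fun _ => rfl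
  haveI : IsScalarTower k k₂ l := .of_algebraMap_eq fun x => congr($sq3 x)
  haveI : IsScalarTower K K₁ L := .of_algebraMap_eq fun _ => rfl
  haveI : IsScalarTower k₁ K₁ L := .of_algebraMap_eq fun _ => rfl
  haveI : IsScalarTower k₁ l L := .of_algebraMap_eq fun x => congr($sq4 x)
  haveI : IsScalarTower k K L := .of_algebraMap_eq fun _ => rfl
  haveI : IsScalarTower k l L := .of_algebraMap_eq fun x => by
    change e₁ (c₁ (a x)) = n (m₁ (b₁ x))
    have h1 : c₁ (a x) = d₁ (b₁ x) := congr($sq1 x)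
    have h2 : e₁ (d₁ (b₁ x)) = n (m₁ (b₁ x)) := congr($sq4 (b₁ x))
    rw [h1, h2]
  obtain ⟨ι, t, ht⟩ := exists_isTranscendenceBasis' k K
  have hcard : #ι = r := by rw [ht.cardinalMk_eq_trdeg]; exact ha
  haveI : Finite ι := by
    rw [← Cardinal.lt_aleph0_iff_finite, hcard]; exact Cardinal.natCast_lt_aleph0
  have ht₁ : IsTranscendenceBasis k₁ (algebraMap K K₁ ∘ t) :=
    isTranscendenceBasis_of_gen (k := k) (K := K) (l := k₁) (L := K₁) G1 t ht (by rw [ha, hd₁])
  have ht₂ : IsTranscendenceBasis k₂ (algebraMap K K₂ ∘ t) :=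
    isTranscendenceBasis_of_gen (k := k) (K := K) (l := k₂) (L := K₂) G2 t ht (by rw [ha, hd₂])
  obtain ⟨ι₂, B, hB⟩ := exists_isTranscendenceBasis' k k₂
  haveI := hB.isAlgebraic
  haveI := ht.isAlgebraic
  haveI hBl : Algebra.IsAlgebraic (adjoin k₁ (range (algebraMap k₂ l ∘ B))) l :=
    isAlgebraic_adjoin_of_gen (k := k) (K := k₂) (l := k₁) (L := l) G3.symm B
  haveI hL : Algebra.IsAlgebraic (adjoin l (range (algebraMap K L ∘ t))) L :=
    isAlgebraic_adjoin_of_gen (k := k) (K := K) (l := l) (L := L) G4 t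
  have h3 : AlgebraicIndependent k (Sum.elim (algebraMap K K₂ ∘ t) (algebraMap k₂ K₂ ∘ B)) :=
    hB.1.sumElim_comp ht₂.1
  have h4 : AlgebraicIndependent K (algebraMap k₂ K₂ ∘ B) :=
    algebraicIndependent_of_sumElim' (R := k) (S := K) (A := K₂) t _ h3
  have h5 : AlgebraicIndependent K₁ (e₂ ∘ (algebraMap k₂ K₂ ∘ B)) := hmin _ _ h4
  have h6 : AlgebraicIndependent k₁
      (Sum.elim (e₂ ∘ (algebraMap k₂ K₂ ∘ B)) (algebraMap K₁ L ∘ (algebraMap K K₁ ∘ t))) :=
    ht₁.1.sumElim_comp h5
  have he : e₂ ∘ (algebraMap k₂ K₂ ∘ B) = algebraMap l L ∘ (algebraMap k₂ l ∘ B) := by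
    ext i
    exact congr($sq5 (B i))
  rw [he] at h6
  have h7 : AlgebraicIndependent l (algebraMap K₁ L ∘ (algebraMap K K₁ ∘ t)) :=
    algebraicIndependent_of_sumElim' (R := k₁) (S := l) (A := L) (algebraMap k₂ l ∘ B) _ h6
  have h8 : IsTranscendenceBasis l (algebraMap K L ∘ t) :=
    (AlgebraicIndependent.isTranscendenceBasis_iff_isAlgebraic (R := l)
      (x := algebraMap K L ∘ t) h7).mpr hL
  rw [← h8.cardinalMk_eq_trdeg, hcard]

end Groth.Agent.Lib.Helper16.TrdegAlg
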