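import Mathlib

/-!
# Lengths of localisations of purely inseparable free extensions (helper16)

* `length_mul_finrank`: for a local ring `A` finite over a field `E` and an `A`-module `M` finite
  over `E`: `length_A M * [κ : E] = dim_E M`.
-/

set_option autoImplicit false
set_option linter.style.haveILetI false
set_option linter.unusedSectionVars false

universe u v w

namespace Groth.Agent.Lib.Helper16.PInsepLen

open IsLocalRing

section LengthFormula

variable {E : Type u} {A : Type v} [Field E] [CommRing A] [Algebra E A] [IsLocalRing A]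
  [Module.Finite E A]

theorem isScalarTower_quot (M : Type w) [AddCommGroup M] [Module A M] [Module E M]
    [IsScalarTower E A M] :
    IsScalarTower E (A ⧸ maximalIdeal A) (M ⧸ (maximalIdeal A • ⊤ : Submodule A M)) := by
  refine ⟨fun e a x => ?_⟩
  obtain ⟨a, rfl⟩ := Ideal.Quotient.mk_surjective a
  obtain ⟨x, rfl⟩ := Submodule.Quotient.mk_surjective _ x
  have h1 : e • (Ideal.Quotient.mk (maximalIdeal A)) a =
      Ideal.Quotient.mk (maximalIdeal A) (e • a) := rfl
  rw [h1, Module.Quotient.mk_smul_mk, Module.Quotient.mk_smul_mk, smul_assoc]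
  rfl

theorem length_mul_finrank (M : Type w) [AddCommGroup M] [Module A M] [Module E M]
    [IsScalarTower E A M] [Module.Finite E M] :
    Module.length A M * (Module.finrank E (A ⧸ maximalIdeal A) : ℕ∞) =
      (Module.finrank E M : ℕ∞) := by
  induction' hn : Module.finrank E M using Nat.strong_induction_on with n ih generalizing M
  by_cases hM : Subsingleton M
  · rw [Module.length_eq_zero, zero_mul, ← hn, Module.finrank_zero_of_subsingleton]
    rfl
  rw [not_subsingleton_iff_nontrivial] at hM
  set m := maximalIdeal A with hm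
  let N : Submodule A M := m • ⊤
  haveI hfinA : Module.Finite A M := Module.Finite.of_restrictScalars_finite E A M
  have hNne : N ≠ ⊤ := by
    intro h
    have h1 : (⊤ : Submodule A M) ≤ m • ⊤ := h.ge
    have h2 := Submodule.eq_bot_of_le_smul_of_le_jacobson_bot m ⊤ Module.Finite.fg_top h1
      (IsLocalRing.maximalIdeal_le_jacobson ⊥)
    exact top_ne_bot h2
  haveI hfN : Module.Finite E N := Module.Finite.of_injective (N.subtype.restrictScalars E)
    (Submodule.injective_subtype N)
  haveI hfQ : Module.Finite E (M ⧸ N) := Module.Finite.of_surjective (N.mkQ.restrictScalars E)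
    (Submodule.mkQ_surjective N)
  have hdim : Module.finrank E N + Module.finrank E (M ⧸ N) = Module.finrank E M := by
    have h1 := Submodule.finrank_quotient_add_finrank (N.restrictScalars E)
    have h2 : Module.finrank E (M ⧸ N.restrictScalars E) = Module.finrank E (M ⧸ N) :=
      LinearEquiv.finrank_eq (Submodule.Quotient.restrictScalarsEquiv E N)
    have h3 : Module.finrank E (N.restrictScalars E) = Module.finrank E N := rfl
    omega
  have hlen : Module.length A M = Module.length A N + Module.length A (M ⧸ N) :=
    Module.length_eq_add_of_exact N.subtype N.mkQ (Submodule.injective_subtype _)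
      (Submodule.mkQ_surjective _) (LinearMap.exact_subtype_mkQ N)
  have hQnt : Nontrivial (M ⧸ N) := Submodule.Quotient.nontrivial_iff.mpr hNne
  have hQpos : 0 < Module.finrank E (M ⧸ N) := Module.finrank_pos
  letI : Field (A ⧸ m) := Ideal.Quotient.field m
  haveI := isScalarTower_quot (E := E) (A := A) M
  have hquot : Module.length A (M ⧸ N) * (Module.finrank E (A ⧸ m) : ℕ∞) =
      (Module.finrank E (M ⧸ N) : ℕ∞) := by
    haveI : Module.Finite (A ⧸ m) (M ⧸ N) := Module.Finite.of_restrictScalars_finite E _ _
    rw [Module.length_eq_of_surjective (S := A) (R := A ⧸ m) (M := M ⧸ N)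
      Ideal.Quotient.mk_surjective, Module.length_eq_finrank (A ⧸ m) (M ⧸ N),
      ← Module.finrank_mul_finrank E (A ⧸ m) (M ⧸ N)]
    push_cast
    ring
  have hN : Module.length A N * (Module.finrank E (A ⧸ m) : ℕ∞) = (Module.finrank E N : ℕ∞) :=
    ih (Module.finrank E N) (by omega) N rfl
  rw [hlen, add_mul, hN, hquot, ← hn, ← hdim]
  push_cast
  rfl

end LengthFormula

section Core

/-- the localisation of a reduced ring at a minimal prime is a field. -/
theorem isField_localization_of_minimal {W : Type*} [CommRing W] [IsReduced W] (q0 : Ideal W)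
    [q0.IsPrime] (hq0 : q0 ∈ minimalPrimes W) : IsField (Localization.AtPrime q0) := by
  haveI : Ring.KrullDimLE 0 (Localization.AtPrime q0) :=
    Ring.KrullDimLE.of_isLocalization q0 hq0 _
  exact Ring.KrullDimLE.isField_of_isReduced

variable {k : Type*} {W T : Type*} [Field k] [CommRing W] [CommRing T] [Algebra k W]
  [Algebra W T]

/-- **Core**: `W` reduced, `T` a finite free `W`-algebra of `p`-power rank which is purely
inseparable over `W` (every element has a `p`-power in `W`).  Then the localisation of `T` at a
minimal prime has `p`-power length. -/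
theorem exists_length_eq_pow (p : ℕ) [ExpChar k p] [IsReduced W] [Module.Free W T]
    [Module.Finite W T]
    (hrank : ∃ d : ℕ, Module.finrank W T = p ^ d)
    (hpow : ∀ x : T, ∃ n : ℕ, x ^ p ^ n ∈ (algebraMap W T).range)
    (q : Ideal T) [q.IsPrime] (hq : q ∈ minimalPrimes T) :
    ∃ n : ℕ, Module.length (Localization.AtPrime q) (Localization.AtPrime q) = (p ^ n : ℕ) := by
  classical
  have hp0 : 0 < p := expChar_pos k p
  let q0 : Ideal W := q.under W
  haveI hq0prime : q0.IsPrime := inferInstance
  haveI hover : q.LiesOver q0 := ⟨rfl⟩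
  -- `q0` is a minimal prime (going down)
  have hq0min : q0 ∈ minimalPrimes W := by
    refine ⟨⟨hq0prime, bot_le⟩, fun p' hp' hle => ?_⟩
    haveI hp'prime : p'.IsPrime := hp'.1
    by_contra hne
    have hlt : p' < q.under W := lt_of_le_of_ne hle (fun h => hne (h ▸ le_rfl))
    obtain ⟨P, hPq, hPprime, hPover⟩ :=
      Algebra.HasGoingDown.exists_ideal_le_liesOver_of_lt (R := W) (S := T) q hlt
    have hqP : q ≤ P := hq.2 ⟨hPprime, bot_le⟩ hPq
    have hPeq : P = q := le_antisymm hPq hqP
    have h1 : p' = P.under W := hPover.over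
    rw [hPeq] at h1
    exact hne h1.ge
  -- the field `E`
  have hEfield : IsField (Localization.AtPrime q0) := isField_localization_of_minimal q0 hq0min
  letI : Field (Localization.AtPrime q0) := hEfield.toField
  letI : Algebra (Localization.AtPrime q0) (Localization.AtPrime q) :=
    Localization.AtPrime.algebraOfLiesOver q0 q
  haveI : IsScalarTower W (Localization.AtPrime q0) (Localization.AtPrime q) := inferInstance
  -- `T_q` is the localisation of `T` at the image of `W ∖ q0`
  have hloc : IsLocalization (Algebra.algebraMapSubmonoid T q0.primeCompl)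
      (Localization.AtPrime q) := by
    refine (IsLocalization.iff_of_le_of_exists_dvd
      (M := Algebra.algebraMapSubmonoid T q0.primeCompl) q.primeCompl ?_ ?_).mpr inferInstance
    · rintro _ ⟨w, hw, rfl⟩
      exact hw
    · intro s hs
      obtain ⟨n, w, hw⟩ := hpow s
      refine ⟨s ^ p ^ n, ⟨w, ?_, hw⟩, dvd_pow_self s (pow_ne_zero _ hp0.ne')⟩
      intro hwq
      have h1 : algebraMap W T w ∈ q := hwq
      rw [hw] at h1
      exact hs (Ideal.IsPrime.mem_of_pow_mem inferInstance _ h1)
  have hlm : IsLocalizedModule q0.primeCompl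
      (IsScalarTower.toAlgHom W T (Localization.AtPrime q)).toLinearMap :=
    isLocalizedModule_iff_isLocalization.mpr hloc
  -- a basis
  let b := Module.Free.chooseBasis W T
  let b' := b.ofIsLocalizedModule (Localization.AtPrime q0) q0.primeCompl
    (IsScalarTower.toAlgHom W T (Localization.AtPrime q)).toLinearMap
  haveI hfinE : Module.Finite (Localization.AtPrime q0) (Localization.AtPrime q) :=
    Module.Finite.of_basis b'
  haveI hWnt : Nontrivial W :=
    ⟨⟨0, 1, fun h => hq0prime.ne_top ((Ideal.eq_top_iff_one _).mpr (h ▸ q0.zero_mem))⟩⟩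
  have hfr : Module.finrank (Localization.AtPrime q0) (Localization.AtPrime q) =
      Module.finrank W T := by
    rw [Module.finrank_eq_card_basis b', Module.finrank_eq_card_basis b]
  -- the length formula
  have hlen := length_mul_finrank (E := Localization.AtPrime q0) (A := Localization.AtPrime q)
    (Localization.AtPrime q)
  -- the residue field is purely inseparable over `E`
  letI : Field (Localization.AtPrime q ⧸ IsLocalRing.maximalIdeal (Localization.AtPrime q)) :=
    Ideal.Quotient.field _
  haveI hexpE : ExpChar (Localization.AtPrime q0) p :=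
    expChar_of_injective_ringHom
      (f := (algebraMap W (Localization.AtPrime q0)).comp (algebraMap k W))
      (RingHom.injective _) p
  have hpowT' : ∀ t' : Localization.AtPrime q, ∃ n : ℕ,
      t' ^ p ^ n ∈ (algebraMap (Localization.AtPrime q0) (Localization.AtPrime q)).range := by
    intro t'
    obtain ⟨⟨t, ⟨s, hs⟩⟩, hts⟩ :=
      IsLocalization.surj (Algebra.algebraMapSubmonoid T q0.primeCompl) t'
    obtain ⟨w, hw, rfl⟩ := hs
    obtain ⟨n, v, hv⟩ := hpow t
    have hu : algebraMap W (Localization.AtPrime q0) w ≠ 0 :=
      (IsLocalization.map_units (Localization.AtPrime q0) (⟨w, hw⟩ : q0.primeCompl)).ne_zero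
    set u := algebraMap W (Localization.AtPrime q0) w with hudef
    refine ⟨n, algebraMap W (Localization.AtPrime q0) v * (u ^ p ^ n)⁻¹, ?_⟩
    have hunit : IsUnit (algebraMap (Localization.AtPrime q0) (Localization.AtPrime q)
        (u ^ p ^ n)) := (IsUnit.mk0 _ (pow_ne_zero _ hu)).map _
    apply hunit.mul_left_injective
    show algebraMap (Localization.AtPrime q0) (Localization.AtPrime q)
        (algebraMap W (Localization.AtPrime q0) v * (u ^ p ^ n)⁻¹) *
        algebraMap (Localization.AtPrime q0) (Localization.AtPrime q) (u ^ p ^ n) =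
      t' ^ p ^ n * algebraMap (Localization.AtPrime q0) (Localization.AtPrime q) (u ^ p ^ n)
    rw [← map_mul, inv_mul_cancel_right₀ (pow_ne_zero _ hu), map_pow, ← mul_pow, hudef,
      ← IsScalarTower.algebraMap_apply W (Localization.AtPrime q0) (Localization.AtPrime q),
      ← IsScalarTower.algebraMap_apply W (Localization.AtPrime q0) (Localization.AtPrime q),
      IsScalarTower.algebraMap_apply W T (Localization.AtPrime q) w, hts, ← map_pow, ← hv,
      ← IsScalarTower.algebraMap_apply W T (Localization.AtPrime q)]
  haveI hpi : IsPurelyInseparable (Localization.AtPrime q0)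
      (Localization.AtPrime q ⧸ IsLocalRing.maximalIdeal (Localization.AtPrime q)) := by
    rw [isPurelyInseparable_iff_pow_mem _ p]
    intro x
    obtain ⟨t', rfl⟩ := Ideal.Quotient.mk_surjective x
    obtain ⟨n, c, hc⟩ := hpowT' t'
    refine ⟨n, c, ?_⟩
    rw [← map_pow, ← hc]
    rfl
  obtain ⟨f, hf⟩ := IsPurelyInseparable.finrank_eq_pow
    (Localization.AtPrime q ⧸ IsLocalRing.maximalIdeal (Localization.AtPrime q)) p
    (F := Localization.AtPrime q0)
  obtain ⟨d, hd⟩ := hrank
  rw [hf, hfr, hd] at hlen
  -- arithmetic
  have hne : Module.length (Localization.AtPrime q) (Localization.AtPrime q) ≠ ⊤ := by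
    intro htop
    rw [htop, ENat.top_mul (by exact_mod_cast (pow_pos hp0 f).ne')] at hlen
    exact ENat.top_ne_natCast _ hlen
  obtain ⟨l, hl⟩ := ENat.ne_top_iff_exists.mp hne
  rw [← hl] at hlen ⊢
  have hlen' : l * p ^ f = p ^ d := by exact_mod_cast hlen
  rcases expChar_is_prime_or_one k p with hp | hp1
  · have hdvd : l ∣ p ^ d := ⟨p ^ f, hlen'.symm⟩
    obtain ⟨j, -, hj⟩ := (Nat.dvd_prime_pow hp).mp hdvd
    exact ⟨j, by rw [hj]⟩
  · subst hp1
    simp only [one_pow, mul_one] at hlen'
    exact ⟨0, by rw [hlen']; rfl⟩

end Core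

end Groth.Agent.Lib.Helper16.PInsepLen
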