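import Mathlib.FieldTheory.FinTrdeg
import Mathlib.RingTheory.AlgebraicIndependent.AlgebraicClosure
import Mathlib.FieldTheory.IntermediateField.Adjoin.Basic
import Mathlib.LinearAlgebra.Dimension.Finite
import Mathlib.LinearAlgebra.Dimension.Constructions

/-!
# Subextensions of finitely generated field extensions are finitely generated (helper25)
-/

set_option autoImplicit false
set_option linter.style.haveILetI false

namespace Groth.Agent.Lib.Helper25.SubfieldFG

open IntermediateField

section LinDisj
variable {F L K : Type*} [Field F] [Field L] [Field K] [Algebra F L] [Algebra F K] [Algebra L K]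
  [IsScalarTower F L K] [Algebra.IsAlgebraic F L]

/-- An algebraic extension and a purely transcendental extension are linearly disjoint. -/
theorem linearIndependent_adjoin {ι : Type*} {t : ι → K} (ht : AlgebraicIndependent F t)
    {m : ℕ} (l : Fin m → L) (hl : LinearIndependent F l) :
    LinearIndependent (adjoin F (Set.range t)) (fun i => algebraMap L K (l i)) := by
  classical
  have ht' : AlgebraicIndependent L t := ht.extendScalars L
  rw [Fintype.linearIndependent_iff]
  intro g hg i₀
  -- write each coefficient as a fraction
  have hfr : ∀ i, ∃ r s : MvPolynomial ι F,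
      ((g i : adjoin F (Set.range t)) : K) = MvPolynomial.aeval t r / MvPolynomial.aeval t s :=
    fun i => (mem_adjoin_range_iff F t _).mp (g i).2
  choose r s hrs using hfr
  by_contra hne
  -- WLOG denominators nonzero where needed: define numerators over a common denominator
  let I : Finset (Fin m) := Finset.univ.filter (fun i => g i ≠ 0)
  have hs0 : ∀ i ∈ I, MvPolynomial.aeval t (s i) ≠ 0 := by
    intro i hi h0
    have := hrs i
    rw [h0, div_zero] at this
    have hgi : g i = 0 := by
      apply Subtype.ext
      exact this
    exact (Finset.mem_filter.mp hi).2 hgi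
  let y : K := ∏ j ∈ I, MvPolynomial.aeval t (s j)
  have hy : y ≠ 0 := Finset.prod_ne_zero_iff.mpr hs0
  let P : Fin m → MvPolynomial ι F := fun i =>
    if i ∈ I then r i * ∏ j ∈ I.erase i, s j else 0
  have hP : ∀ i, ((g i : adjoin F (Set.range t)) : K) * y = MvPolynomial.aeval t (P i) := by
    intro i
    by_cases hi : i ∈ I
    · simp only [P, if_pos hi, map_mul, map_prod]
      rw [hrs i]
      have : y = MvPolynomial.aeval t (s i) * ∏ j ∈ I.erase i, MvPolynomial.aeval t (s j) := by
        simp only [y]
        rw [Finset.mul_prod_erase I (fun j => MvPolynomial.aeval t (s j)) hi]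
      rw [this]
      field_simp [hs0 i hi]
    · simp only [P, if_neg hi, map_zero]
      have : g i = 0 := by
        by_contra h
        exact hi (Finset.mem_filter.mpr ⟨Finset.mem_univ _, h⟩)
      rw [this]
      simp
  -- the relation
  have hrel : ∑ i, MvPolynomial.aeval t (P i) * algebraMap L K (l i) = 0 := by
    have h1 : (∑ i, g i • algebraMap L K (l i)) * y = 0 := by rw [hg, zero_mul]
    rw [Finset.sum_mul] at h1
    rw [← h1]
    refine Finset.sum_congr rfl (fun i _ => ?_)
    rw [← hP i]
    change _ = ((g i : adjoin F (Set.range t)) : K) * algebraMap L K (l i) * y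
    ring
  -- polynomial over L
  let Ψ : MvPolynomial ι L := ∑ i, MvPolynomial.C (l i) * MvPolynomial.map (algebraMap F L) (P i)
  have hΨ : MvPolynomial.aeval t Ψ = 0 := by
    simp only [Ψ, map_sum, map_mul, MvPolynomial.aeval_C]
    rw [← hrel]
    refine Finset.sum_congr rfl (fun i _ => ?_)
    rw [mul_comm]
    congr 1
    rw [MvPolynomial.aeval_map_algebraMap]
  have hΨ0 : Ψ = 0 := by
    have := ht'
    rw [AlgebraicIndependent] at this
    exact this (by rw [hΨ, map_zero])
  have hcoef : ∀ μ : ι →₀ ℕ, ∀ i, MvPolynomial.coeff μ (P i) = 0 := by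
    intro μ
    have h1 : MvPolynomial.coeff μ Ψ = 0 := by rw [hΨ0]; simp
    simp only [Ψ, MvPolynomial.coeff_sum, MvPolynomial.coeff_C_mul, MvPolynomial.coeff_map] at h1
    have h2 : ∑ i, MvPolynomial.coeff μ (P i) • l i = 0 := by
      rw [← h1]
      refine Finset.sum_congr rfl (fun i _ => ?_)
      rw [Algebra.smul_def, mul_comm]
    exact Fintype.linearIndependent_iff.mp hl _ h2
  have hP0 : ∀ i, P i = 0 := fun i => MvPolynomial.ext _ _ (fun μ => by simpa using hcoef μ i)
  have : ((g i₀ : adjoin F (Set.range t)) : K) * y = 0 := by rw [hP i₀, hP0, map_zero]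
  rcases mul_eq_zero.mp this with h | h
  · exact hne (Subtype.ext h)
  · exact hy h

end LinDisj

section Finite
variable {F L K : Type*} [Field F] [Field L] [Field K] [Algebra F L] [Algebra F K] [Algebra L K]
  [IsScalarTower F L K] [Algebra.IsAlgebraic F L]

/-- An algebraic subextension of a finitely generated field extension is finite. -/
theorem finite_of_isAlgebraic_of_essFiniteType [Algebra.EssFiniteType F K] : Module.Finite F L := by
  classical
  obtain ⟨t, ht⟩ := exists_finset_isTranscendenceBasis F K
  set E : IntermediateField F K := adjoin F (Set.range ((↑) : t → K)) with hE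
  haveI : Algebra.IsAlgebraic E K := ht.isAlgebraic_field
  haveI : Algebra.EssFiniteType E K := Algebra.EssFiniteType.of_comp F E K
  haveI : Module.Finite E K := Algebra.finite_of_essFiniteType_of_isAlgebraic
  have hbound : ∀ s : Finset L, LinearIndependent F (fun i : s => (i : L)) →
      s.card ≤ Module.finrank E K := by
    intro s hs
    let e := s.equivFin
    have hl : LinearIndependent F (fun i : Fin s.card => ((e.symm i : s) : L)) :=
      hs.comp e.symm e.symm.injective
    have h1 := linearIndependent_adjoin (F := F) (L := L) (K := K) ht.1 _ hl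
    have h2 := h1.fintype_card_le_finrank
    simpa using h2
  have hrank : Module.rank F L ≤ (Module.finrank E K : ℕ) := rank_le hbound
  exact Module.rank_lt_aleph0_iff.mp (lt_of_le_of_lt hrank (Cardinal.nat_lt_aleph0 _))

end Finite

section FG
variable {k K : Type*} [Field k] [Field K] [Algebra k K]

/-- Every intermediate field of a finitely generated field extension is finitely generated. -/
theorem fg_of_essFiniteType [Algebra.EssFiniteType k K] (L : IntermediateField k K) : L.FG := by
  classical
  haveI : FinTrdeg k L := by
    rw [finTrdeg_iff_trdeg]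
    have h1 : Algebra.trdeg k L ≤ Algebra.trdeg k K :=
      trdeg_le_of_injective (R := k) L.val L.val.injective
    exact lt_of_le_of_lt h1 (trdeg_lt_aleph0 k K)
  obtain ⟨s, hs⟩ := exists_finset_isTranscendenceBasis k L
  set F : IntermediateField k L := adjoin k (Set.range ((↑) : s → L)) with hF
  haveI : Algebra.IsAlgebraic F L := hs.isAlgebraic_field
  haveI : Algebra.EssFiniteType F K := Algebra.EssFiniteType.of_comp k F K
  haveI : Module.Finite F L := finite_of_isAlgebraic_of_essFiniteType (F := F) (L := L) (K := K)
  haveI : Algebra.EssFiniteType k F := by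
    rw [IntermediateField.essFiniteType_iff, hF, Subtype.range_coe]
    exact fg_adjoin_finset s
  haveI : Algebra.EssFiniteType k L := Algebra.EssFiniteType.comp k F L
  exact IntermediateField.essFiniteType_iff.mp inferInstance

end FG

end Groth.Agent.Lib.Helper25.SubfieldFG
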