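import Mathlib
import Groth.Prelude.Def_AlgSpOX
import Groth.Prelude.Def_SGA4c
import Groth.Agent.Lib.Helper9EtFp

/-!
# A small coherent model of the small étale site of an algebraic space (helper9)

`Cfp X`: the full subcategory of `AlgSp.EtOver X` on the objects whose underlying scheme is quasi-compact
and quasi-separated, with morphisms lifted one universe up (a small category in `Type (u+1)`).
-/

set_option autoImplicit false
set_option linter.style.haveILetI false
set_option backward.isDefEq.respectTransparency false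
open CategoryTheory CategoryTheory.Limits AlgebraicGeometry Opposite
universe u

namespace Groth.Agent.Lib.Helper9.SpEt

open AlgSp

variable {S : Scheme.{u}} (X : Sp S)

/-- pointwise criterion for covering sieves of the small étale site of `X` -/
lemma mem_etTop_iff {E : EtOver X} (T : Sieve E) :
    T ∈ etTop X E ↔ ∀ x : E.obj.left.left, ∃ (W : EtOver X) (g : W ⟶ E) (y : W.obj.left.left),
      T g ∧ g.hom.left.left y = x := by
  constructor
  · intro h x
    rw [etTop, Precoverage.mem_toGrothendieck_iff_of_isStableUnderComposition] at h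
    obtain ⟨R, hR, hle⟩ := h
    rw [etPre, Precoverage.mem_comap_iff] at hR
    obtain ⟨Y, g, hg, y, hy⟩ := Scheme.JointlySurjective.exists_eq
      (K := Scheme.precoverage @Etale) _ hR x
    obtain ⟨hu⟩ := hg
    exact ⟨_, _, y, hle _ _ hu, hy⟩
  · intro h
    choose W g y hT hy using h
    refine (etTop X).superset_covering ?_
      (ofArrows_mem_etTop (fun x => W x) (fun x => g x) (fun x => ⟨x, y x, hy x⟩))
    rw [Sieve.ofArrows, Sieve.generate_le_iff]
    rintro Y h ⟨x⟩
    exact hT x

/-- objects of the small étale site with quasi-compact quasi-separated underlying scheme -/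
def fpProp : ObjectProperty (EtOver X) :=
  fun E => CompactSpace E.obj.left.left ∧ QuasiSeparatedSpace E.obj.left.left

instance : (fpProp X).IsClosedUnderIsomorphisms where
  of_iso {V V'} e h := by
    obtain ⟨h1, h2⟩ := h
    let e' : V'.obj.left.left ≅ V.obj.left.left := ((EtOver.toScheme X).mapIso e).symm
    exact ⟨QuasiCompact.compactSpace_of_compactSpace e'.hom, quasiSeparatedSpace_of_quasiSeparated e'.hom⟩

instance : (fpProp X).IsClosedUnderLimitsOfShape WalkingCospan := by
  constructor
  rintro V ⟨h⟩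
  let Fg : EtOver X ⥤ Scheme.{u} := EtOver.toScheme X
  have hl := isLimitOfPreserves Fg h.isLimit
  let e1 : Fg.obj V ≅ limit (h.diag ⋙ Fg) := hl.conePointUniqueUpToIso (limit.isLimit _)
  let e2 : limit (h.diag ⋙ Fg) ≅ pullback ((h.diag ⋙ Fg).map WalkingCospan.Hom.inl)
      ((h.diag ⋙ Fg).map WalkingCospan.Hom.inr) :=
    HasLimit.isoOfNatIso (diagramIsoCospan _)
  obtain ⟨h1, h1'⟩ := h.prop_diag_obj WalkingCospan.left
  obtain ⟨h2, h2'⟩ := h.prop_diag_obj WalkingCospan.right
  obtain ⟨h3, h3'⟩ := h.prop_diag_obj WalkingCospan.one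
  exact @Groth.Agent.Lib.Helper9.EtFp.qcqs_pullback _ _ _ _ ((h.diag ⋙ Fg).map WalkingCospan.Hom.inl)
      ((h.diag ⋙ Fg).map WalkingCospan.Hom.inr) h1 h1' h2 h2' h3' (e1 ≪≫ e2)

/-- the full subcategory of qcqs objects -/
abbrev Fp : Type (u + 1) := (fpProp X).FullSubcategory

/-- the small model: morphisms lifted to `Type (u+1)` -/
abbrev Cfp : Type (u + 1) := ULiftHom.{u + 1} (Fp X)

/-- the inclusion into the small étale site -/
noncomputable def G : Cfp X ⥤ EtOver X := ULiftHom.down ⋙ (fpProp X).ι

instance : (ULiftHom.down : ULiftHom.{u + 1} (Fp X) ⥤ Fp X).IsEquivalence :=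
  inferInstanceAs (ULiftHom.equiv (C := Fp X)).inverse.IsEquivalence

instance : (G X).Full := by unfold G; infer_instance
instance : (G X).Faithful := by unfold G; infer_instance

instance : HasPullbacks (Cfp X) :=
  Adjunction.hasLimitsOfShape_of_equivalence (ULiftHom.down : ULiftHom.{u + 1} (Fp X) ⥤ Fp X)

/-- an object of the small model from a qcqs object -/
def mk (V : EtOver X) (h : fpProp X V) : Cfp X := ULiftHom.objUp ⟨V, h⟩

@[simp] lemma G_mk (V : EtOver X) (h : fpProp X V) : (G X).obj (mk X V h) = V := rfl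

lemma prop_G (V : Cfp X) : fpProp X ((G X).obj V) := (ULiftHom.objDown V).property

/-- the object of the small étale site given by an open subscheme of an object -/
noncomputable def openObj (E : EtOver X) (W : E.obj.left.left.Opens) : EtOver X :=
  (EtOver.ofChart E.obj.hom E.property).obj (Scheme.Etale.mk W.ι)

/-- the inclusion of an open subscheme -/
noncomputable def openHom (E : EtOver X) (W : E.obj.left.left.Opens) : openObj X E W ⟶ E :=
  EtOver.homMk (EtOver.homOfEtale (Scheme.Etale.mk W.ι)) rfl

lemma openHom_left (E : EtOver X) (W : E.obj.left.left.Opens) :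
    (openHom X E W).hom.left.left = W.ι := rfl

instance isCoverDense : (G X).IsCoverDense (etTop X) := by
  constructor
  intro U
  rw [mem_etTop_iff]
  intro x
  obtain ⟨W, hW, hxW, -⟩ : ∃ W : U.obj.left.left.Opens, W ∈ U.obj.left.left.affineOpens ∧ x ∈ W ∧ W ≤ ⊤ :=
    (TopologicalSpace.Opens.isBasis_iff_nbhd.1 U.obj.left.left.isBasis_affineOpens)
    (show x ∈ (⊤ : U.obj.left.left.Opens) from trivial)
  have hW' : IsAffineOpen W := hW
  have hfp : fpProp X (openObj X U W) := by
    haveI : IsAffine (openObj X U W).obj.left.left := hW'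
    exact ⟨inferInstance, inferInstance⟩
  refine ⟨openObj X U W, openHom X U W, ⟨x, hxW⟩, ?_, rfl⟩
  exact Presieve.in_coverByImage (G X) (Y := mk X (openObj X U W) hfp) (openHom X U W)

/-- the induced topology on the small model -/
noncomputable abbrev Jfp : GrothendieckTopology (Cfp X) := (G X).inducedTopology (etTop X)

lemma mem_Jfp_iff {U : Cfp X} (T : Sieve U) :
    T ∈ Jfp X U ↔ ∀ x : ((G X).obj U).obj.left.left, ∃ (Z : Cfp X) (r : Z ⟶ U)
      (z : ((G X).obj Z).obj.left.left), T r ∧ ((G X).map r).hom.left.left z = x := by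
  rw [Functor.mem_inducedTopology_iff_of_isCoverDense, mem_etTop_iff]
  constructor
  · intro h x
    obtain ⟨W, g, y, ⟨Z, r, l, hr, rfl⟩, hy⟩ := h x
    exact ⟨Z, r, l.hom.left.left y, hr, hy⟩
  · intro h x
    obtain ⟨Z, r, z, hr, hz⟩ := h x
    exact ⟨(G X).obj Z, (G X).map r, z, Sieve.image_mem_functorPushforward (G X) T hr, hz⟩

/-- every object of the small model is quasi-compact -/
theorem isQCSite (U : Cfp X) : ToposFin.IsQCSite (Jfp X) U := by
  intro T hT
  have h := (mem_Jfp_iff X T).1 hT
  choose Z r z hr hz using h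
  haveI : CompactSpace ((G X).obj U).obj.left.left := (prop_G X U).1
  have hopen : ∀ x, IsOpen (Set.range ((G X).map (r x)).hom.left.left) := fun x =>
    haveI := EtOver.etale_left ((G X).map (r x))
    (((G X).map (r x)).hom.left.left).isOpenMap.isOpen_range
  obtain ⟨s, hs⟩ := isCompact_univ.elim_finite_subcover
    (fun x => Set.range ((G X).map (r x)).hom.left.left) hopen
    (fun x _ => Set.mem_iUnion.2 ⟨x, z x, hz x⟩)
  obtain ⟨n, ⟨e⟩⟩ := Finite.exists_equiv_fin s
  refine ⟨n, fun k => Z (e.symm k).1, fun k => r (e.symm k).1, fun k => hr _, ?_⟩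
  rw [mem_Jfp_iff]
  intro x
  obtain ⟨y, hy⟩ := Set.mem_iUnion.1 (hs (Set.mem_univ x))
  obtain ⟨hys, w, hw⟩ := Set.mem_iUnion.1 hy
  refine ⟨Z y, r y, w, ?_, hw⟩
  have h := Sieve.ofArrows_mk (fun k => Z (e.symm k).1) (fun k => r (e.symm k).1) (e ⟨y, hys⟩)
  rw [e.symm_apply_apply] at h
  exact h

end Groth.Agent.Lib.Helper9.SpEt
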