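import Mathlib
import Groth.Prelude.Def_AlgSpOX3
import Groth.Agent.Lib.Helper9SpEt

/-!
# Global sections of the structure sheaf of an algebraic space are detected on an atlas (helper9)
-/

set_option autoImplicit false
set_option linter.style.haveILetI false
set_option backward.isDefEq.respectTransparency false
open CategoryTheory CategoryTheory.Limits AlgebraicGeometry Opposite
universe u

namespace Groth.Agent.Lib.Helper9.SpGlob

open AlgSp

variable {S : Scheme.{u}} {X : Sp S}

/-- the projection `E ×_X U₀ ⟶ E` is surjective when `U₀ ⟶ X` is -/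
lemma surjective_prodFst (E : EtOver X) {U₀ : Over S} (a₀ : (yon S).obj U₀ ⟶ X)
    (ha : RepWith @Etale a₀) (hs : RepWith @Surjective a₀) :
    Function.Surjective (EtOver.prodFst E (EtOver.mk a₀ ha)).hom.left.left := by
  have hpb := ha.1.isPullback E.obj.hom
  have : Surjective (ha.1.snd E.obj.hom).left := hs.2 E.obj.hom _ _ hpb
  exact this.surj

/-- a section of the structure sheaf over `E` vanishing on `E ×_X U₀` vanishes -/
lemma eq_zero_of_prod (E : EtOver X) {U₀ : Over S} (a₀ : (yon S).obj U₀ ⟶ X)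
    (ha : RepWith @Etale a₀) (hs : RepWith @Surjective a₀)
    (x : ↥((OEt X).obj.obj (op E)))
    (hx : ((OEt X).obj.map (EtOver.prodFst E (EtOver.mk a₀ ha)).op).hom x = 0) : x = 0 := by
  let A₀ : EtOver X := EtOver.mk a₀ ha
  have hT : Sieve.ofArrows (fun _ : Unit => EtOver.prodObj E A₀) (fun _ => EtOver.prodFst E A₀) ∈
      etTop X E := by
    apply AlgSp.ofArrows_mem_etTop
    intro e
    obtain ⟨y, hy⟩ := surjective_prodFst E a₀ ha hs e
    exact ⟨(), y, hy⟩
  refine Sheaf.isSeparated (OEt X) E _ hT _ _ ?_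
  rintro Y g ⟨Z, k, _, ⟨_⟩, rfl⟩
  rw [op_comp, Functor.map_comp, ConcreteCategory.comp_apply, ConcreteCategory.comp_apply]
  have h0 : ((OEt X).obj.map (EtOver.prodFst E A₀).op) x = 0 := hx
  rw [h0, map_zero, map_zero, map_zero]

/-- a global section of the structure sheaf vanishing on a surjective étale chart vanishes -/
lemma gsect_eq_zero (a : ↥(gsectEt (OEt X))) {U₀ : Over S} (a₀ : (yon S).obj U₀ ⟶ X)
    (ha : RepWith @Etale a₀) (hs : RepWith @Surjective a₀)
    (h0 : (limit.π (OEt X).obj (op (EtOver.mk a₀ ha))) a = 0) : a = 0 := by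
  apply Concrete.limit_ext
  intro j
  obtain ⟨E⟩ := j
  rw [map_zero]
  apply eq_zero_of_prod E a₀ ha hs
  let A₀ : EtOver X := EtOver.mk a₀ ha
  have h1 : limit.π (OEt X).obj (op E) ≫ (OEt X).obj.map (EtOver.prodFst E A₀).op =
      limit.π (OEt X).obj (op (EtOver.prodObj E A₀)) := limit.w _ _
  have h2 : limit.π (OEt X).obj (op A₀) ≫ (OEt X).obj.map (EtOver.prodSnd E A₀).op =
      limit.π (OEt X).obj (op (EtOver.prodObj E A₀)) := limit.w _ _
  have h3 : ((OEt X).obj.map (EtOver.prodFst E A₀).op) ((limit.π (OEt X).obj (op E)) a) =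
      (limit.π (OEt X).obj (op (EtOver.prodObj E A₀))) a := by
    rw [← h1]; rfl
  have h4 : ((OEt X).obj.map (EtOver.prodSnd E A₀).op) ((limit.π (OEt X).obj (op A₀)) a) =
      (limit.π (OEt X).obj (op (EtOver.prodObj E A₀))) a := by
    rw [← h2]; rfl
  refine h3.trans (h4.symm.trans ?_)
  rw [h0, map_zero]

end Groth.Agent.Lib.Helper9.SpGlob
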