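import Mathlib
import Groth.Prelude.Def_AlgSpOX3
import Groth.Agent.Lib.Helper9SpEt

/-!
# Geometric points of an algebraic space as points of its small étale site (helper9)
-/

set_option autoImplicit false
set_option linter.style.haveILetI false
set_option backward.isDefEq.respectTransparency false
open CategoryTheory CategoryTheory.Limits AlgebraicGeometry Opposite
universe u

namespace Groth.Agent.Lib.Helper9.SpPoint

open AlgSp

variable {S : Scheme.{u}} {X : Sp S} (p : FieldPt X)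

/-- lifting a separably closed point through an étale map of schemes over `S` -/
lemma exists_lift_of_etale [IsSepClosed p.K] {U V : Over S} (g : U ⟶ V) (hg : Etale g.left)
    (v : p.pt ⟶ V) (y : U.left) (hy : g.left y = v.left (default : Spec (CommRingCat.of p.K))) :
    ∃ u : p.pt ⟶ U, u ≫ g = v := by
  obtain ⟨l, hl, -⟩ := Scheme.exists_fac_of_etale_of_isSepClosed g.left v.left y hy
  have h1 : g.left ≫ V.hom = U.hom := Over.w g
  have h2 : v.left ≫ V.hom = p.str := Over.w v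
  have h3 : l ≫ U.hom = p.str := by rw [← h1, ← Category.assoc, hl, h2]
  refine ⟨Over.homMk l h3, ?_⟩
  apply Over.OverMorphism.ext
  exact hl

/-- a separably closed point lifts to an atlas -/
lemma exists_lift_atlas [IsSepClosed p.K] {U₀ : Over S} (a₀ : (yon S).obj U₀ ⟶ X)
    (ha : RepWith @Etale a₀) (hs : RepWith @Surjective a₀) :
    ∃ x₀ : p.pt ⟶ U₀, (yon S).map x₀ ≫ a₀ = p.toHom := by
  have hrep := ha.1
  have hpb := hrep.isPullback p.toHom
  have hsurj : Surjective (hrep.snd p.toHom).left := hs.2 p.toHom _ _ hpb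
  have het : Etale (hrep.snd p.toHom).left := ha.2 p.toHom _ _ hpb
  obtain ⟨y, hy⟩ := hsurj.surj (default : Spec (CommRingCat.of p.K))
  obtain ⟨σ, hσ⟩ := exists_lift_of_etale p (hrep.snd p.toHom) het (𝟙 _) y hy
  obtain ⟨x₀, hx₀⟩ := (yon S).map_surjective ((yon S).map σ ≫ hrep.fst p.toHom)
  refine ⟨x₀, ?_⟩
  rw [hx₀, Category.assoc, hpb.w, ← Category.assoc, ← Functor.map_comp, hσ, CategoryTheory.Functor.map_id,
    Category.id_comp]

instance isCofilteredOrEmpty : IsCofilteredOrEmpty (FieldPt.liftsTo p).Elements where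
  cone_objs := by
    rintro ⟨E₁, u₁⟩ ⟨E₂, u₂⟩
    let w : p.pt ⟶ (EtOver.prodObj E₁ E₂).obj.left :=
      E₂.property.1.lift' u₂.1 u₁.1 (by rw [u₁.2, u₂.2])
    have hw1 : w ≫ (EtOver.prodFst E₁ E₂).hom.left = u₁.1 :=
      Functor.relativelyRepresentable.lift'_snd _ _ _ _
    have hw2 : w ≫ (EtOver.prodSnd E₁ E₂).hom.left = u₂.1 :=
      Functor.relativelyRepresentable.lift'_fst _ _ _ _
    have hw : (yon S).map w ≫ (EtOver.prodObj E₁ E₂).obj.hom = p.toHom := by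
      rw [← EtOver.w (EtOver.prodFst E₁ E₂), ← Category.assoc, ← Functor.map_comp, hw1]
      exact u₁.2
    exact ⟨⟨EtOver.prodObj E₁ E₂, ⟨w, hw⟩⟩, ⟨EtOver.prodFst E₁ E₂, Subtype.ext hw1⟩,
      ⟨EtOver.prodSnd E₁ E₂, Subtype.ext hw2⟩, trivial⟩
  cone_maps := by
    rintro ⟨E₁, u₁⟩ ⟨E₂, u₂⟩ ⟨f, hf⟩ ⟨g, hg⟩
    have hf' : u₁.1 ≫ f.hom.left = u₂.1 := congrArg Subtype.val hf
    have hg' : u₁.1 ≫ g.hom.left = u₂.1 := congrArg Subtype.val hg
    let fg : E₁ ⟶ EtOver.prodObj E₂ E₂ := (EtOver.prodIsLimit E₂ E₂).lift (BinaryFan.mk f g)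
    let Δ : E₂ ⟶ EtOver.prodObj E₂ E₂ :=
      (EtOver.prodIsLimit E₂ E₂).lift (BinaryFan.mk (𝟙 _) (𝟙 _))
    have hfg1 : fg ≫ EtOver.prodFst E₂ E₂ = f :=
      (EtOver.prodIsLimit E₂ E₂).fac (BinaryFan.mk f g) ⟨WalkingPair.left⟩
    have hfg2 : fg ≫ EtOver.prodSnd E₂ E₂ = g :=
      (EtOver.prodIsLimit E₂ E₂).fac (BinaryFan.mk f g) ⟨WalkingPair.right⟩
    have hΔ1 : Δ ≫ EtOver.prodFst E₂ E₂ = 𝟙 _ :=
      (EtOver.prodIsLimit E₂ E₂).fac (BinaryFan.mk (𝟙 _) (𝟙 _)) ⟨WalkingPair.left⟩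
    have hΔ2 : Δ ≫ EtOver.prodSnd E₂ E₂ = 𝟙 _ :=
      (EtOver.prodIsLimit E₂ E₂).fac (BinaryFan.mk (𝟙 _) (𝟙 _)) ⟨WalkingPair.right⟩
    have hcondw : u₁.1 ≫ fg.hom.left = u₂.1 ≫ Δ.hom.left := by
      apply Functor.relativelyRepresentable.hom_ext' E₂.property.1
      · have e1 : fg.hom.left ≫ (EtOver.prodSnd E₂ E₂).hom.left = g.hom.left :=
          congrArg (fun k => k.hom.left) hfg2
        have e2 : Δ.hom.left ≫ (EtOver.prodSnd E₂ E₂).hom.left = 𝟙 _ :=
          congrArg (fun k => k.hom.left) hΔ2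
        calc (u₁.1 ≫ fg.hom.left) ≫ (EtOver.prodSnd E₂ E₂).hom.left
            = u₁.1 ≫ (fg.hom.left ≫ (EtOver.prodSnd E₂ E₂).hom.left) := Category.assoc _ _ _
          _ = u₂.1 := by rw [e1, hg']
          _ = u₂.1 ≫ (Δ.hom.left ≫ (EtOver.prodSnd E₂ E₂).hom.left) := by
              rw [e2, Category.comp_id]
          _ = (u₂.1 ≫ Δ.hom.left) ≫ (EtOver.prodSnd E₂ E₂).hom.left := (Category.assoc _ _ _).symm
      · have e1 : fg.hom.left ≫ (EtOver.prodFst E₂ E₂).hom.left = f.hom.left :=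
          congrArg (fun k => k.hom.left) hfg1
        have e2 : Δ.hom.left ≫ (EtOver.prodFst E₂ E₂).hom.left = 𝟙 _ :=
          congrArg (fun k => k.hom.left) hΔ1
        calc (u₁.1 ≫ fg.hom.left) ≫ (EtOver.prodFst E₂ E₂).hom.left
            = u₁.1 ≫ (fg.hom.left ≫ (EtOver.prodFst E₂ E₂).hom.left) := Category.assoc _ _ _
          _ = u₂.1 := by rw [e1, hf']
          _ = u₂.1 ≫ (Δ.hom.left ≫ (EtOver.prodFst E₂ E₂).hom.left) := by
              rw [e2, Category.comp_id]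
          _ = (u₂.1 ≫ Δ.hom.left) ≫ (EtOver.prodFst E₂ E₂).hom.left := (Category.assoc _ _ _).symm
    let w : p.pt ⟶ (EtOver.pullbackObj fg Δ).obj.left := pullback.lift u₁.1 u₂.1 hcondw
    have hw1 : w ≫ (EtOver.pullbackFst fg Δ).hom.left = u₁.1 := pullback.lift_fst _ _ _
    have hw : (yon S).map w ≫ (EtOver.pullbackObj fg Δ).obj.hom = p.toHom := by
      rw [← EtOver.w (EtOver.pullbackFst fg Δ), ← Category.assoc, ← Functor.map_comp, hw1]
      exact u₁.2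
    have hcond := EtOver.pullback_condition fg Δ
    have key1 : EtOver.pullbackFst fg Δ ≫ f = EtOver.pullbackSnd fg Δ := by
      rw [← hfg1, ← Category.assoc, hcond, Category.assoc, hΔ1, Category.comp_id]
    have key2 : EtOver.pullbackFst fg Δ ≫ g = EtOver.pullbackSnd fg Δ := by
      rw [← hfg2, ← Category.assoc, hcond, Category.assoc, hΔ2, Category.comp_id]
    refine ⟨⟨EtOver.pullbackObj fg Δ, ⟨w, hw⟩⟩, ⟨EtOver.pullbackFst fg Δ, Subtype.ext hw1⟩, ?_⟩
    apply Subtype.ext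
    exact key1.trans key2.symm

section Small

variable {U₀ : Over S} (a₀ : (yon S).obj U₀ ⟶ X) (ha : RepWith @Etale a₀)
  (x₀ : p.pt ⟶ U₀) (hx₀ : (yon S).map x₀ ≫ a₀ = p.toHom)

/-- Mathlib's fibre functor at the point `x₀` of the scheme `U₀` -/
noncomputable abbrev fib : U₀.left.Etale ⥤ Type u :=
  Scheme.Etale.forget U₀.left ⋙ coyoneda.obj (op (Over.mk x₀.left))

include hx₀ in
lemma Ψ_aux (m : (fib p x₀).Elements) :
    ∃ l : p.pt ⟶ EtOver.overOfEtale m.1, l.left = m.2.left ∧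
      (yon S).map l ≫ ((EtOver.ofChart a₀ ha).obj m.1).obj.hom = p.toHom := by
  have h1 : m.2.left ≫ m.1.hom = x₀.left := Over.w m.2
  have h2 : x₀.left ≫ U₀.hom = p.str := Over.w x₀
  have h3 : m.2.left ≫ (EtOver.overOfEtale m.1).hom = p.str := by
    change m.2.left ≫ m.1.hom ≫ U₀.hom = p.str
    rw [← Category.assoc, h1, h2]
  refine ⟨Over.homMk m.2.left h3, rfl, ?_⟩
  change (yon S).map _ ≫ (yon S).map _ ≫ a₀ = p.toHom
  rw [← Category.assoc, ← Functor.map_comp, ← hx₀]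
  congr 2
  apply Over.OverMorphism.ext
  exact h1

/-- étale neighbourhoods of `x₀` in `U₀` give étale neighbourhoods of `p` in `X` -/
noncomputable def Ψ (m : (fib p x₀).Elements) : (FieldPt.liftsTo p).Elements :=
  ⟨(EtOver.ofChart a₀ ha).obj m.1,
    ⟨(Ψ_aux p a₀ ha x₀ hx₀ m).choose, (Ψ_aux p a₀ ha x₀ hx₀ m).choose_spec.2⟩⟩

lemma Ψ_left (m : (fib p x₀).Elements) :
    ((Ψ p a₀ ha x₀ hx₀ m).2.1 : p.pt ⟶ EtOver.overOfEtale m.1).left = m.2.left :=
  (Ψ_aux p a₀ ha x₀ hx₀ m).choose_spec.1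

lemma exists_hom_Ψ (s₀ : Set (fib p x₀).Elements)
    (hs₀ : ∀ i, ∃ j ∈ s₀, Nonempty (j ⟶ i)) (e : (FieldPt.liftsTo p).Elements) :
    ∃ j ∈ (Ψ p a₀ ha x₀ hx₀) '' s₀, Nonempty (j ⟶ e) := by
  obtain ⟨E, u⟩ := e
  let A₀ : EtOver X := EtOver.mk a₀ ha
  let π₁ := EtOver.prodFst E A₀
  let π₂ := EtOver.prodSnd E A₀
  let w : p.pt ⟶ (EtOver.prodObj E A₀).obj.left :=
    A₀.property.1.lift' x₀ u.1 (by rw [u.2]; exact hx₀)
  have hw1 : w ≫ π₁.hom.left = u.1 := Functor.relativelyRepresentable.lift'_snd _ _ _ _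
  have hw2 : w ≫ π₂.hom.left = x₀ := Functor.relativelyRepresentable.lift'_fst _ _ _ _
  haveI : Etale π₂.hom.left.left := EtOver.etale_left π₂
  let VW : U₀.left.Etale := Scheme.Etale.mk π₂.hom.left.left
  have hw2' : w.left ≫ π₂.hom.left.left = x₀.left := congrArg (fun k => k.left) hw2
  let φW : (fib p x₀).obj VW := Over.homMk w.left hw2'
  obtain ⟨m, hm, ⟨h⟩⟩ := hs₀ ⟨VW, φW⟩
  refine ⟨_, ⟨m, hm, rfl⟩, ?_⟩
  have hh1 : h.1.left ≫ π₂.hom.left.left = m.1.hom := MorphismProperty.Over.w h.1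
  have hh2 : m.2.left ≫ h.1.left = w.left := congrArg (fun k => k.left) h.2
  have hπ₂ : π₂.hom.left.left ≫ U₀.hom = (EtOver.prodObj E A₀).obj.left.hom := Over.w π₂.hom.left
  have hk : h.1.left ≫ (EtOver.prodObj E A₀).obj.left.hom = (EtOver.overOfEtale m.1).hom := by
    change _ = m.1.hom ≫ U₀.hom
    rw [← hπ₂, ← Category.assoc, hh1]
  let k : EtOver.overOfEtale m.1 ⟶ (EtOver.prodObj E A₀).obj.left := Over.homMk h.1.left hk
  have hk2 : k ≫ π₂.hom.left = EtOver.homOfEtale m.1 := by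
    apply Over.OverMorphism.ext
    exact hh1
  have hκ : (yon S).map k ≫ (EtOver.prodObj E A₀).obj.hom =
      ((EtOver.ofChart a₀ ha).obj m.1).obj.hom := by
    change _ = (yon S).map _ ≫ a₀
    rw [← hk2, Functor.map_comp, Category.assoc]
    congr 1
    exact (EtOver.w π₂).symm
  let κ : (EtOver.ofChart a₀ ha).obj m.1 ⟶ EtOver.prodObj E A₀ := EtOver.homMk k hκ
  refine ⟨⟨κ ≫ π₁, ?_⟩⟩
  apply Subtype.ext
  change (Ψ p a₀ ha x₀ hx₀ m).2.1 ≫ (k ≫ π₁.hom.left) = u.1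
  have e1 : (Ψ p a₀ ha x₀ hx₀ m).2.1 ≫ k = w := by
    apply Over.OverMorphism.ext
    change ((Ψ p a₀ ha x₀ hx₀ m).2.1 : p.pt ⟶ EtOver.overOfEtale m.1).left ≫ h.1.left = w.left
    rw [Ψ_left]
    exact hh2
  rw [← Category.assoc, e1, hw1]

end Small

/-- a geometric point of an algebraic space defines a point of its small étale site -/
theorem main {S : Scheme.{u}} (X : AlgSp.Space S) (p : FieldPt X.obj) (hp : p.IsGeometric) :
    ∃ P : GrothendieckTopology.Point.{u} (etTop X.obj), P.fiber = FieldPt.liftsTo p := by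
  haveI : IsAlgClosed p.K := hp
  haveI : IsSepClosed p.K := inferInstance
  obtain ⟨U₀, a₀, ha, hs⟩ := X.property.atlas
  obtain ⟨x₀, hx₀⟩ := exists_lift_atlas p a₀ ha hs
  haveI : Nonempty (FieldPt.liftsTo p).Elements :=
    ⟨Ψ p a₀ ha x₀ hx₀ ⟨Scheme.Etale.mk (𝟙 _), Over.homMk x₀.left (Category.comp_id _)⟩⟩
  haveI : IsCofiltered (FieldPt.liftsTo p).Elements := {}
  have hsmall : InitiallySmall.{u} (FieldPt.liftsTo p).Elements := by
    haveI : InitiallySmall.{u} (fib p x₀).Elements :=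
      (Scheme.pointSmallEtale x₀.left).initiallySmall
    obtain ⟨s₀, hs₀small, hs₀⟩ :=
      InitiallySmall.exists_small_weakly_initial_set.{u} (fib p x₀).Elements
    exact initiallySmall_of_small_weakly_initial_set (Ψ p a₀ ha x₀ hx₀ '' s₀)
      (exists_hom_Ψ p a₀ ha x₀ hx₀ s₀ hs₀)
  refine ⟨{ fiber := FieldPt.liftsTo p, isCofiltered := inferInstance, initiallySmall := hsmall,
            jointly_surjective := ?_ }, rfl⟩
  intro E R hR x
  obtain ⟨W, g, y, hg, hy⟩ := (SpEt.mem_etTop_iff X.obj R).1 hR (x.1.left (default : Spec (CommRingCat.of p.K)))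
  obtain ⟨l, hl⟩ := exists_lift_of_etale p g.hom.left (EtOver.etale_left g) x.1 y hy
  refine ⟨W, g, hg, ⟨l, ?_⟩, Subtype.ext hl⟩
  rw [← EtOver.w g, ← Category.assoc, ← Functor.map_comp, hl]
  exact x.2

end Groth.Agent.Lib.Helper9.SpPoint
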