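import Mathlib
import Groth.Prelude.Def_AlgSpOX3
import Groth.Agent.Lib.Helper9SpPoint

/-!
# Enough geometric points on the small étale site of an algebraic space (helper9)
-/

set_option autoImplicit false
set_option linter.style.haveILetI false
set_option backward.isDefEq.respectTransparency false
open CategoryTheory CategoryTheory.Limits AlgebraicGeometry Opposite
universe w w' v v' u u'

namespace Groth.Agent.Lib.Helper9.SpPoint

section Abstract

open GrothendieckTopology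

variable {C : Type u} [Category.{v} C] {J : GrothendieckTopology C}
  {A : Type u'} [Category.{v'} A] [HasColimitsOfSize.{w, w} A]
  {FC : A → A → Type*} {CC : A → Type w'}
  [∀ (X Y : A), FunLike (FC X Y) (CC X) (CC Y)]
  [ConcreteCategory.{w'} A FC]
  [PreservesFilteredColimitsOfSize.{w, w} (forget A)] [LocallySmall.{w} C]

/-- a family of points detecting covering sieves detects local injectivity -/
lemma isLocallyInjective_of_points (𝔓 : Set (Point.{w} J))
    (h𝔓 : ∀ ⦃X : C⦄ (S : Sieve X), (∀ Φ ∈ 𝔓, ∀ x : Φ.fiber.obj X,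
      ∃ (Y : C) (g : Y ⟶ X) (_ : S g) (y : Φ.fiber.obj Y), Φ.fiber.map g y = x) → S ∈ J X)
    {P Q : Cᵒᵖ ⥤ A} (f : P ⟶ Q)
    (hf : ∀ Φ ∈ 𝔓, Function.Injective (Φ.presheafFiber.map f)) :
    Presheaf.IsLocallyInjective J f := by
  constructor
  intro X x y h
  apply h𝔓
  intro Φ hΦ z
  have h1 : Φ.toPresheafFiber X.unop z P x = Φ.toPresheafFiber X.unop z P y := by
    apply hf Φ hΦ
    rw [Point.toPresheafFiber_naturality_apply, Point.toPresheafFiber_naturality_apply]
    exact congrArg _ h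
  rw [Point.toPresheafFiber_eq_iff'] at h1
  obtain ⟨Y, g, y', hy', hg⟩ := h1
  exact ⟨Y, g, hg, y', hy'⟩

/-- a family of points detecting covering sieves detects local surjectivity -/
lemma isLocallySurjective_of_points (𝔓 : Set (Point.{w} J))
    (h𝔓 : ∀ ⦃X : C⦄ (S : Sieve X), (∀ Φ ∈ 𝔓, ∀ x : Φ.fiber.obj X,
      ∃ (Y : C) (g : Y ⟶ X) (_ : S g) (y : Φ.fiber.obj Y), Φ.fiber.map g y = x) → S ∈ J X)
    {P Q : Cᵒᵖ ⥤ A} (f : P ⟶ Q)
    (hf : ∀ Φ ∈ 𝔓, Function.Surjective (Φ.presheafFiber.map f)) :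
    Presheaf.IsLocallySurjective J f := by
  constructor
  intro U s
  apply h𝔓
  intro Φ hΦ z
  obtain ⟨q, hq⟩ := hf Φ hΦ (Φ.toPresheafFiber U z Q s)
  obtain ⟨X', x', t, rfl⟩ := Φ.toPresheafFiber_jointly_surjective q
  rw [Point.toPresheafFiber_naturality_apply] at hq
  let m : Φ.fiber.Elements := IsCofiltered.min ⟨X', x'⟩ ⟨U, z⟩
  let a : m ⟶ ⟨X', x'⟩ := IsCofiltered.minToLeft _ _
  let b : m ⟶ ⟨U, z⟩ := IsCofiltered.minToRight _ _
  have ha : Φ.fiber.map a.1 m.2 = x' := a.2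
  have hb : Φ.fiber.map b.1 m.2 = z := b.2
  have e1 : Φ.toPresheafFiber X' x' Q (f.app _ t) =
      Φ.toPresheafFiber m.1 m.2 Q (Q.map a.1.op (f.app _ t)) := by
    rw [Point.toPresheafFiber_w_apply, ha]
  have e2 : Φ.toPresheafFiber U z Q s = Φ.toPresheafFiber m.1 m.2 Q (Q.map b.1.op s) := by
    rw [Point.toPresheafFiber_w_apply, hb]
  rw [e1, e2, Point.toPresheafFiber_eq_iff'] at hq
  obtain ⟨Y, g, y, hy, hg⟩ := hq
  refine ⟨Y, g ≫ b.1, ⟨P.map (g ≫ a.1).op t, ?_⟩, y, ?_⟩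
  · rw [NatTrans.naturality_apply]
    simp only [op_comp, Functor.map_comp, ConcreteCategory.comp_apply]
    exact hg
  · rw [Functor.map_comp]
    change Φ.fiber.map b.1 (Φ.fiber.map g y) = z
    rw [hy, hb]

end Abstract

open AlgSp

variable {S : Scheme.{u}}

/-- every point of an étale chart is hit by a lift of a geometric point -/
lemma exists_geometric_lift {X : Sp S} (E : EtOver X) (u₀ : E.obj.left.left) :
    ∃ (p : FieldPt X) (_ : p.IsGeometric) (l : (FieldPt.liftsTo p).obj E),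
      l.1.left (default : Spec (CommRingCat.of p.K)) = u₀ := by
  let κ := E.obj.left.left.residueField u₀
  let K := AlgebraicClosure κ
  let ι : Spec (CommRingCat.of K) ⟶ E.obj.left.left :=
    Spec.map (CommRingCat.ofHom (algebraMap κ K)) ≫ E.obj.left.left.fromSpecResidueField u₀
  let str : Spec (CommRingCat.of K) ⟶ S := ι ≫ E.obj.left.hom
  let l₀ : Over.mk str ⟶ E.obj.left := Over.homMk ι rfl
  let p : FieldPt X := ⟨K, str, (AlgSp.J S).uliftYonedaEquiv ((yon S).map l₀ ≫ E.obj.hom)⟩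
  refine ⟨p, ?_, ⟨l₀, ?_⟩, ?_⟩
  · exact (inferInstance : IsAlgClosed (AlgebraicClosure κ))
  · exact ((AlgSp.J S).uliftYonedaEquiv.symm_apply_apply _).symm
  · exact Scheme.fromSpecResidueField_apply u₀ _

/-- the points of the small étale site defined by geometric points -/
def geomPoints (X : AlgSp.Space S) : Set (GrothendieckTopology.Point.{u} (etTop X.obj)) :=
  {Φ | ∃ p : FieldPt X.obj, p.IsGeometric ∧ Φ.fiber = FieldPt.liftsTo p}

/-- the geometric points detect covering sieves -/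
lemma geomPoints_detect (X : AlgSp.Space S) ⦃E : EtOver X.obj⦄ (T : Sieve E)
    (h : ∀ Φ ∈ geomPoints X, ∀ x : Φ.fiber.obj E,
      ∃ (Y : EtOver X.obj) (g : Y ⟶ E) (_ : T g) (y : Φ.fiber.obj Y), Φ.fiber.map g y = x) :
    T ∈ etTop X.obj E := by
  rw [SpEt.mem_etTop_iff]
  intro u₀
  obtain ⟨p, hp, l, hl⟩ := exists_geometric_lift E u₀
  obtain ⟨⟨fib, cof, ism, js⟩, rfl⟩ := main X p hp
  obtain ⟨Y, g, hg, y, hy⟩ := h ⟨FieldPt.liftsTo p, cof, ism, js⟩ ⟨p, hp, rfl⟩ l
  refine ⟨Y, g, y.1.left (default : Spec (CommRingCat.of p.K)), hg, ?_⟩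
  have h1 : y.1 ≫ g.hom.left = l.1 := congrArg Subtype.val hy
  have h2 : y.1.left ≫ g.hom.left.left = l.1.left := congrArg (fun k => k.left) h1
  rw [← hl, ← h2]
  rfl

end Groth.Agent.Lib.Helper9.SpPoint
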