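import Mathlib
import Groth.Prelude.Def_AlgSpOX3
import Groth.Agent.Lib.Helper9SpPoint2

/-!
# Abelian sheaves on the small étale site of an algebraic space and geometric stalks (helper9)
-/

set_option autoImplicit false
set_option linter.style.haveILetI false
set_option backward.isDefEq.respectTransparency false
open CategoryTheory CategoryTheory.Limits AlgebraicGeometry Opposite
universe u

namespace Groth.Agent.Lib.Helper9.SpPoint

open AlgSp ZeroObject

instance preservesFilteredColimits_forget_ab :
    PreservesFilteredColimitsOfSize.{u, u} (forget AddCommGrpCat.{u + 1}) :=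
  preservesFilteredColimitsOfSize_shrink.{u, u + 1, u, u + 1} _

variable {S : Scheme.{u}}

/-- an abelian sheaf all of whose geometric stalks vanish is zero -/
lemma isZero_of_stalks (X : AlgSp.Space S) (H : AlgSp.AbEt X.obj)
    (h : ∀ p : FieldPt X.obj, p.IsGeometric → IsZero (AlgSp.stalkEt p H)) : IsZero H := by
  let f : H ⟶ (0 : AlgSp.AbEt X.obj) := 0
  have key : ∀ Φ ∈ geomPoints X, Function.Injective (Φ.presheafFiber.map f.hom) := by
    intro Φ hΦ
    obtain ⟨p, hp, hfib⟩ := hΦ
    obtain ⟨fib, cof, ism, js⟩ := Φ
    dsimp only at hfib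
    subst hfib
    haveI : Subsingleton ↥(AlgSp.stalkEt p H) := AddCommGrpCat.subsingleton_of_isZero (h p hp)
    intro a b _
    exact Subsingleton.elim (α := ↥(AlgSp.stalkEt p H)) a b
  haveI : Presheaf.IsLocallyInjective (etTop X.obj) f.hom :=
    isLocallyInjective_of_points.{u} (geomPoints X) (geomPoints_detect X) f.hom key
  haveI : Mono f := Sheaf.mono_of_isLocallyInjective f
  exact IsZero.of_mono f (isZero_zero _)

end Groth.Agent.Lib.Helper9.SpPoint
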