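import Mathlib
import Groth.Prelude.Def_AlgSpOX3
import Groth.Agent.Lib.Helper9SpPoint3

/-!
# Germs of sections of abelian sheaves on the small étale site of an algebraic space (helper9)
-/

set_option autoImplicit false
set_option linter.style.haveILetI false
set_option backward.isDefEq.respectTransparency false
open CategoryTheory CategoryTheory.Limits AlgebraicGeometry Opposite
universe u

namespace Groth.Agent.Lib.Helper9.SpPoint

open AlgSp

variable {S : Scheme.{u}}

/-- the geometric points detect covering sieves (version without `Point`) -/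
lemma geomPoints_detect' {X : Sp S} ⦃E : EtOver X⦄ (T : Sieve E)
    (h : ∀ p : FieldPt X, p.IsGeometric → ∀ x : (FieldPt.liftsTo p).obj E,
      ∃ (Y : EtOver X) (g : Y ⟶ E) (_ : T g) (y : (FieldPt.liftsTo p).obj Y),
        (FieldPt.liftsTo p).map g y = x) :
    T ∈ etTop X E := by
  rw [SpEt.mem_etTop_iff]
  intro u₀
  obtain ⟨p, hp, l, hl⟩ := exists_geometric_lift E u₀
  obtain ⟨Y, g, hg, y, hy⟩ := h p hp l
  refine ⟨Y, g, y.1.left (default : Spec (CommRingCat.of p.K)), hg, ?_⟩
  have h1 : y.1 ≫ g.hom.left = l.1 := congrArg Subtype.val hy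
  have h2 : y.1.left ≫ g.hom.left.left = l.1.left := congrArg (fun k => k.left) h1
  rw [← hl, ← h2]
  rfl

/-- a germ of an abelian sheaf vanishes iff the section vanishes on an étale neighbourhood -/
lemma germ_eq_zero_iff (X : AlgSp.Space S) (F : AlgSp.AbEt X.obj) (p : FieldPt X.obj)
    (hp : p.IsGeometric) (U : EtOver X.obj) (l : (FieldPt.liftsTo p).obj U)
    (σ : ↥(F.obj.obj (op U))) :
    (AlgSp.stalkEtι p F ⟨U, l⟩).hom σ = 0 ↔
      ∃ (V : EtOver X.obj) (φ : V ⟶ U) (y : (FieldPt.liftsTo p).obj V),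
        (FieldPt.liftsTo p).map φ y = l ∧ (F.obj.map φ.op).hom σ = 0 := by
  obtain ⟨⟨fib, cof, ism, js⟩, rfl⟩ := main X p hp
  have h := GrothendieckTopology.Point.toPresheafFiber_eq_iff'
    (⟨FieldPt.liftsTo p, cof, ism, js⟩ : GrothendieckTopology.Point.{u} (etTop X.obj))
    (P := F.obj) U l σ 0
  simp only [map_zero] at h
  exact h

/-- lifting a geometric point through a morphism of the small étale site -/
lemma exists_lift_hom {X : Sp S} (p : FieldPt X) (hp : p.IsGeometric) {V U : EtOver X}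
    (φ : V ⟶ U) (l : (FieldPt.liftsTo p).obj U) (v : V.obj.left.left)
    (hv : φ.hom.left.left v = l.1.left (default : Spec (CommRingCat.of p.K))) :
    ∃ y : (FieldPt.liftsTo p).obj V, (FieldPt.liftsTo p).map φ y = l ∧
      y.1.left (default : Spec (CommRingCat.of p.K)) = v := by
  haveI : IsAlgClosed p.K := hp
  haveI : IsSepClosed p.K := inferInstance
  haveI : Etale φ.hom.left.left := EtOver.etale_left φ
  obtain ⟨l₀, hl₀, hl₁⟩ := Scheme.exists_fac_of_etale_of_isSepClosed
    φ.hom.left.left l.1.left v hv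
  have h1 : φ.hom.left.left ≫ U.obj.left.hom = V.obj.left.hom := Over.w φ.hom.left
  have h2 : l.1.left ≫ U.obj.left.hom = p.str := Over.w l.1
  have h3 : l₀ ≫ V.obj.left.hom = p.str := by rw [← h1, ← Category.assoc, hl₀, h2]
  have h4 : (Over.homMk l₀ h3 : p.pt ⟶ V.obj.left) ≫ φ.hom.left = l.1 := by
    apply Over.OverMorphism.ext
    exact hl₀
  refine ⟨⟨Over.homMk l₀ h3, ?_⟩, Subtype.ext h4, hl₁⟩
  rw [← EtOver.w φ, ← Category.assoc, ← Functor.map_comp, h4]
  exact l.2

section Vanish

variable (X : AlgSp.Space S) (F : AlgSp.AbEt X.obj) (U : EtOver X.obj) (σ : ↥(F.obj.obj (op U)))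

/-- the vanishing locus of a section of an abelian sheaf -/
def vanishSet : Set U.obj.left.left :=
  {u | ∃ (V : EtOver X.obj) (φ : V ⟶ U) (v : V.obj.left.left),
    (F.obj.map φ.op).hom σ = 0 ∧ φ.hom.left.left v = u}

lemma isOpen_vanishSet : IsOpen (vanishSet X F U σ) := by
  rw [isOpen_iff_forall_mem_open]
  rintro u ⟨V, φ, v, h0, rfl⟩
  haveI : Etale φ.hom.left.left := EtOver.etale_left φ
  refine ⟨Set.range φ.hom.left.left, ?_, φ.hom.left.left.isOpenMap.isOpen_range, ⟨v, rfl⟩⟩
  rintro _ ⟨v', rfl⟩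
  exact ⟨V, φ, v', h0, rfl⟩

lemma germ_eq_zero_iff_mem (p : FieldPt X.obj) (hp : p.IsGeometric)
    (l : (FieldPt.liftsTo p).obj U) :
    (AlgSp.stalkEtι p F ⟨U, l⟩).hom σ = 0 ↔
      l.1.left (default : Spec (CommRingCat.of p.K)) ∈ vanishSet X F U σ := by
  rw [germ_eq_zero_iff X F p hp]
  constructor
  · rintro ⟨V, φ, y, hy, h0⟩
    refine ⟨V, φ, y.1.left (default : Spec (CommRingCat.of p.K)), h0, ?_⟩
    have h1 : y.1 ≫ φ.hom.left = l.1 := congrArg Subtype.val hy
    have h2 : y.1.left ≫ φ.hom.left.left = l.1.left := congrArg (fun k => k.left) h1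
    rw [← h2]
    rfl
  · rintro ⟨V, φ, v, h0, hv⟩
    obtain ⟨y, hy, -⟩ := exists_lift_hom p hp φ l v hv
    exact ⟨V, φ, y, hy, h0⟩

lemma map_eq_zero_iff (V : EtOver X.obj) (φ : V ⟶ U) :
    (F.obj.map φ.op).hom σ = 0 ↔
      Set.range (fun v => φ.hom.left.left v) ⊆ vanishSet X F U σ := by
  constructor
  · rintro h0 _ ⟨v, rfl⟩
    exact ⟨V, φ, v, h0, rfl⟩
  · intro hsub
    let T : Sieve V :=
      { arrows := fun Y g => (F.obj.map (g ≫ φ).op).hom σ = 0
        downward_closed := by
          intro Y Z g hg k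
          change (F.obj.map ((k ≫ g) ≫ φ).op).hom σ = 0
          have e : (F.obj.map ((k ≫ g) ≫ φ).op).hom σ =
              (F.obj.map k.op).hom ((F.obj.map (g ≫ φ).op).hom σ) := by
            rw [Category.assoc, op_comp, Functor.map_comp]
            rfl
          rw [e, hg, map_zero] }
    have hT : T ∈ etTop X.obj V := by
      apply geomPoints_detect'
      intro p hp x
      let l : (FieldPt.liftsTo p).obj U := (FieldPt.liftsTo p).map φ x
      have hl : l.1.left (default : Spec (CommRingCat.of p.K)) ∈ vanishSet X F U σ :=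
        hsub ⟨x.1.left (default : Spec (CommRingCat.of p.K)), rfl⟩
      obtain ⟨V', φ', y', hy', h0⟩ := (germ_eq_zero_iff X F p hp U l σ).1
        ((germ_eq_zero_iff_mem X F U σ p hp l).2 hl)
      have hc : x.1 ≫ φ.hom.left = y'.1 ≫ φ'.hom.left := (congrArg Subtype.val hy').symm
      let w : p.pt ⟶ (EtOver.pullbackObj φ φ').obj.left := pullback.lift x.1 y'.1 hc
      have hw1 : w ≫ (EtOver.pullbackFst φ φ').hom.left = x.1 := pullback.lift_fst _ _ _
      have hw : (yon S).map w ≫ (EtOver.pullbackObj φ φ').obj.hom = p.toHom := by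
        rw [← EtOver.w (EtOver.pullbackFst φ φ'), ← Category.assoc, ← Functor.map_comp, hw1]
        exact x.2
      refine ⟨EtOver.pullbackObj φ φ', EtOver.pullbackFst φ φ', ?_, ⟨w, hw⟩, Subtype.ext hw1⟩
      change (F.obj.map (EtOver.pullbackFst φ φ' ≫ φ).op).hom σ = 0
      rw [EtOver.pullback_condition φ φ', op_comp, Functor.map_comp]
      change (F.obj.map (EtOver.pullbackSnd φ φ').op).hom ((F.obj.map φ'.op).hom σ) = 0
      rw [h0, map_zero]
    refine Sheaf.isSeparated F V T hT _ _ ?_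
    intro Y g hg
    have e : (F.obj.map g.op) ((F.obj.map φ.op).hom σ) = (F.obj.map (g ≫ φ).op).hom σ := by
      rw [op_comp, Functor.map_comp]
      rfl
    rw [e, map_zero]
    exact hg

end Vanish

end Groth.Agent.Lib.Helper9.SpPoint
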