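import Mathlib
import Groth.Prelude.Def_AlgSpOX3
import Groth.Agent.Lib.Helper9SpPoint4

/-!
# Points of `|X|` under geometric points and their lifts (helper9)
-/

set_option autoImplicit false
set_option linter.style.haveILetI false
set_option backward.isDefEq.respectTransparency false
open CategoryTheory CategoryTheory.Limits AlgebraicGeometry Opposite
universe u

namespace Groth.Agent.Lib.Helper9.SpPoint

open AlgSp

variable {S : Scheme.{u}}

/-- naturality of `Points.ofPt` in the scheme -/
lemma ofPt_yon_map_comp {F : Sp S} {T T' : Over S} (φ : T ⟶ T') (g : (yon S).obj T' ⟶ F)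
    (t : T.left) : Points.ofPt ((yon S).map φ ≫ g) t = Points.ofPt g (φ.left t) := by
  rw [← Points.map_ofPt, Points.ofPt_eq_map_ofScheme g]
  congr 1
  rw [← Points.toScheme_ofPt φ t, Points.ofScheme_toScheme]

/-- the point of `|X|` under a lift of a field-valued point is the class of the point -/
lemma ofPt_lift {X : Sp S} (p : FieldPt X) (U : EtOver X) (l : (FieldPt.liftsTo p).obj U)
    (s : Spec (CommRingCat.of p.K)) :
    Points.ofPt U.obj.hom (l.1.left s) = Points.mk p := by
  rw [← ofPt_yon_map_comp, l.2]
  exact Points.ofPt_toHom p s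

/-- every element of the stalk is a germ -/
lemma germ_surjective (X : AlgSp.Space S) (F : AlgSp.AbEt X.obj) (p : FieldPt X.obj)
    (hp : p.IsGeometric) (a : ↥(AlgSp.stalkEt p F)) :
    ∃ (U : EtOver X.obj) (l : (FieldPt.liftsTo p).obj U) (σ : ↥(F.obj.obj (op U))),
      (AlgSp.stalkEtι p F ⟨U, l⟩).hom σ = a := by
  obtain ⟨⟨fib, cof, ism, js⟩, rfl⟩ := main X p hp
  exact GrothendieckTopology.Point.toPresheafFiber_jointly_surjective
    (⟨FieldPt.liftsTo p, cof, ism, js⟩ : GrothendieckTopology.Point.{u} (etTop X.obj))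
    (P := F.obj) a

end Groth.Agent.Lib.Helper9.SpPoint
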