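import Mathlib
import Groth.Prelude.Def_AlgSpOX3
import Groth.Agent.Lib.Helper9SpPoint5
import Groth.Agent.S10211

/-!
# Geometric points over a given point of `|X|`, lifts through charts (helper9)
-/

set_option autoImplicit false
set_option linter.style.haveILetI false
set_option backward.isDefEq.respectTransparency false
open CategoryTheory CategoryTheory.Limits AlgebraicGeometry Opposite
universe u

namespace Groth.Agent.Lib.Helper9.SpPoint

open AlgSp

variable {S : Scheme.{u}}

/-- the relation on field-valued points in terms of the associated morphisms -/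
lemma rel_toHom {F : Sp S} {q₁ q₂ : FieldPt F} (h : FieldPt.Rel q₁ q₂) :
    ∃ (Ω : Type u) (_ : Field Ω) (w : Spec (CommRingCat.of Ω) ⟶ S) (a : Over.mk w ⟶ q₁.pt)
      (b : Over.mk w ⟶ q₂.pt), (yon S).map a ≫ q₁.toHom = (yon S).map b ≫ q₂.toHom := by
  obtain ⟨Ω, hΩ, w, a, b, hab⟩ := h
  refine ⟨Ω, hΩ, w, a, b, ?_⟩
  change (AlgSp.J S).uliftYoneda.map a ≫ (AlgSp.J S).uliftYonedaEquiv.symm q₁.val =
    (AlgSp.J S).uliftYoneda.map b ≫ (AlgSp.J S).uliftYonedaEquiv.symm q₂.val
  rw [GrothendieckTopology.uliftYonedaEquiv_symm_naturality_left,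
    GrothendieckTopology.uliftYonedaEquiv_symm_naturality_left, hab]

/-- a geometric point whose image in `|X|` is hit by a chart lifts to the chart -/
lemma exists_lift_of_ofPt_eq_mk {X : Sp S} (p : FieldPt X) (hp : p.IsGeometric) (V : EtOver X)
    (v : V.obj.left.left) (h : Points.ofPt V.obj.hom v = Points.mk p) :
    Nonempty ((FieldPt.liftsTo p).obj V) := by
  haveI : IsAlgClosed p.K := hp
  haveI : IsSepClosed p.K := inferInstance
  obtain ⟨Ω, hΩ, w, a, b, hab⟩ := rel_toHom (Points.mk_eq_mk_iff.1 h)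
  rw [FieldPt.toHom_ofPt, ← Category.assoc, ← Functor.map_comp] at hab
  have hrep := V.property.1
  have hpb := hrep.isPullback p.toHom
  have het : Etale (hrep.snd p.toHom).left := V.property.2 p.toHom _ _ hpb
  let c := hrep.lift' (a ≫ Over.homMk (V.obj.left.left.fromSpecResidueField v) rfl) b hab
  let y : (hrep.pullback p.toHom).left := c.left (IsLocalRing.closedPoint Ω)
  obtain ⟨σ, hσ⟩ := exists_lift_of_etale p (hrep.snd p.toHom) het (𝟙 _) y
    (Subsingleton.elim (α := Spec (CommRingCat.of p.K)) _ _)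
  refine ⟨⟨σ ≫ hrep.fst' p.toHom, ?_⟩⟩
  rw [Functor.map_comp, Category.assoc, hrep.map_fst', hpb.w, ← Category.assoc,
    ← Functor.map_comp, hσ, CategoryTheory.Functor.map_id, Category.id_comp]

/-- every point of `|X|` lies under a geometric point -/
lemma exists_geometric_over {X : Sp S} (x : Points X) :
    ∃ p : FieldPt X, p.IsGeometric ∧ Points.mk p = x := by
  obtain ⟨q, rfl⟩ := Points.mk_surjective x
  let K' := AlgebraicClosure q.K
  let ι : Spec (CommRingCat.of K') ⟶ Spec (CommRingCat.of q.K) :=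
    Spec.map (CommRingCat.ofHom (algebraMap q.K K'))
  let b : Over.mk (ι ≫ q.str) ⟶ q.pt := Over.homMk ι rfl
  let p : FieldPt X := ⟨K', ι ≫ q.str, X.obj.map b.op q.val⟩
  refine ⟨p, (inferInstance : IsAlgClosed (AlgebraicClosure q.K)), ?_⟩
  apply Points.sound
  refine ⟨K', inferInstance, ι ≫ q.str, 𝟙 _, b, ?_⟩
  change X.obj.map (𝟙 _) (X.obj.map b.op q.val) = X.obj.map b.op q.val
  rw [CategoryTheory.Functor.map_id]
  rfl

/-- the map from the points of an étale chart to `|X|` is open -/
lemma isOpenMap_ofPt {X : Sp S} (V : EtOver X) : IsOpenMap (Points.ofPt V.obj.hom) := by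
  have h1 : IsOpenMap (Points.map V.obj.hom) :=
    Groth.Agent.S9908.isOpenMap_map_of_repWith _
      (Groth.Agent.S10211.repWith_universallyOpen_of_etale V.property)
  have h2 : Points.ofPt V.obj.hom = Points.map V.obj.hom ∘ (Points.schemeHomeo V.obj.left) := by
    funext t
    exact Points.ofPt_eq_map_ofScheme _ t
  rw [h2]
  exact h1.comp (Points.schemeHomeo V.obj.left).isOpenMap

end Groth.Agent.Lib.Helper9.SpPoint
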