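import Mathlib
import Groth.Prelude.Def_AlgSpOX3
import Groth.Agent.Lib.Helper9SpPoint6
import Groth.Agent.Lib.Helper9SpGlob

/-!
# Lifting geometric points through prescribed points of charts (helper9)
-/

set_option autoImplicit false
set_option linter.style.haveILetI false
set_option backward.isDefEq.respectTransparency false
open CategoryTheory CategoryTheory.Limits AlgebraicGeometry Opposite
universe u

namespace Groth.Agent.Lib.Helper9.SpPoint

open AlgSp

variable {S : Scheme.{u}}

/-- lifting a separably closed point through an étale map of schemes over `S`, through a given point -/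
lemma exists_lift_of_etale' {X : Sp S} (p : FieldPt X) [IsSepClosed p.K] {U V : Over S} (g : U ⟶ V)
    (hg : Etale g.left) (v : p.pt ⟶ V) (y : U.left)
    (hy : g.left y = v.left (default : Spec (CommRingCat.of p.K))) :
    ∃ u : p.pt ⟶ U, u ≫ g = v ∧ u.left (default : Spec (CommRingCat.of p.K)) = y := by
  obtain ⟨l, hl, hl'⟩ := Scheme.exists_fac_of_etale_of_isSepClosed g.left v.left y hy
  have h1 : g.left ≫ V.hom = U.hom := Over.w g
  have h2 : v.left ≫ V.hom = p.str := Over.w v
  have h3 : l ≫ U.hom = p.str := by rw [← h1, ← Category.assoc, hl, h2]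
  refine ⟨Over.homMk l h3, ?_, hl'⟩
  apply Over.OverMorphism.ext
  exact hl

/-- a geometric point whose image in `|X|` is hit by a point of a chart lifts to the chart through
that point -/
lemma exists_lift_of_ofPt_eq_mk' {X : Sp S} (p : FieldPt X) (hp : p.IsGeometric) (V : EtOver X)
    (v : V.obj.left.left) (h : Points.ofPt V.obj.hom v = Points.mk p) :
    ∃ l : (FieldPt.liftsTo p).obj V, l.1.left (default : Spec (CommRingCat.of p.K)) = v := by
  haveI : IsAlgClosed p.K := hp
  haveI : IsSepClosed p.K := inferInstance
  obtain ⟨Ω, hΩ, w, a, b, hab⟩ := rel_toHom (Points.mk_eq_mk_iff.1 h)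
  rw [FieldPt.toHom_ofPt, ← Category.assoc, ← Functor.map_comp] at hab
  have hrep := V.property.1
  have hpb := hrep.isPullback p.toHom
  have het : Etale (hrep.snd p.toHom).left := V.property.2 p.toHom _ _ hpb
  let c := hrep.lift' (a ≫ Over.homMk (V.obj.left.left.fromSpecResidueField v) rfl) b hab
  have hc : c ≫ hrep.fst' p.toHom =
      a ≫ Over.homMk (V.obj.left.left.fromSpecResidueField v) rfl :=
    Functor.relativelyRepresentable.lift'_fst _ _ _ _
  let y : (hrep.pullback p.toHom).left := c.left (IsLocalRing.closedPoint Ω)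
  obtain ⟨σ, hσ, hσy⟩ := exists_lift_of_etale' p (hrep.snd p.toHom) het (𝟙 _) y
    (Subsingleton.elim (α := Spec (CommRingCat.of p.K)) _ _)
  refine ⟨⟨σ ≫ hrep.fst' p.toHom, ?_⟩, ?_⟩
  · rw [Functor.map_comp, Category.assoc, hrep.map_fst', hpb.w, ← Category.assoc,
      ← Functor.map_comp, hσ, CategoryTheory.Functor.map_id, Category.id_comp]
  · change (hrep.fst' p.toHom).left (σ.left (default : Spec (CommRingCat.of p.K))) = v
    rw [hσy]
    have h1 : c.left ≫ (hrep.fst' p.toHom).left =
        a.left ≫ V.obj.left.left.fromSpecResidueField v := congrArg (fun k => k.left) hc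
    change (c.left ≫ (hrep.fst' p.toHom).left) (IsLocalRing.closedPoint Ω) = v
    rw [h1]
    exact Scheme.fromSpecResidueField_apply v _

/-- components of a global section of the structure sheaf are compatible with restriction -/
lemma gsect_compat {X : Sp S} (f : ↥(gsectEt (OEt X))) {E' E : EtOver X} (g : E' ⟶ E) :
    ((limit.π (OEt X).obj (op E')) f).down =
      g.hom.left.left.appTop.hom ((limit.π (OEt X).obj (op E)) f).down := by
  have h1 : limit.π (OEt X).obj (op E) ≫ (OEt X).obj.map g.op = limit.π (OEt X).obj (op E') :=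
    limit.w _ _
  rw [← h1]
  rfl

end Groth.Agent.Lib.Helper9.SpPoint
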