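import Mathlib
import Groth.Prelude.Def_AlgSpOX3
import Groth.Agent.Lib.Helper9SpPoint7

/-!
# Common étale refinements of two charts through the same point (helper9)
-/

set_option autoImplicit false
set_option linter.style.haveILetI false
set_option backward.isDefEq.respectTransparency false
open CategoryTheory CategoryTheory.Limits AlgebraicGeometry Opposite
universe u

namespace Groth.Agent.Lib.Helper9.SpPoint

open AlgSp

variable {S : Scheme.{u}}

/-- Two étale charts with points over the same point of `|X|`: the fibre product has a point over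
both. -/
lemma exists_common_refinement {X : Sp S} (A A' : EtOver X) (u : A.obj.left.left)
    (u' : A'.obj.left.left) (h : Points.ofPt A.obj.hom u = Points.ofPt A'.obj.hom u') :
    ∃ z : (EtOver.prodObj A A').obj.left.left,
      (EtOver.prodFst A A').hom.left.left z = u ∧ (EtOver.prodSnd A A').hom.left.left z = u' := by
  obtain ⟨p, hp, l, hl⟩ := exists_geometric_lift A u
  have hmk : Points.mk p = Points.ofPt A.obj.hom u := by
    rw [← hl]
    exact (ofPt_lift p A l _).symm
  obtain ⟨l', hl'⟩ := exists_lift_of_ofPt_eq_mk' p hp A' u' (h.symm.trans hmk.symm)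
  let w : p.pt ⟶ (EtOver.prodObj A A').obj.left := A'.property.1.lift' l'.1 l.1 (by rw [l.2, l'.2])
  have hw1 : w ≫ (EtOver.prodFst A A').hom.left = l.1 :=
    Functor.relativelyRepresentable.lift'_snd _ _ _ _
  have hw2 : w ≫ (EtOver.prodSnd A A').hom.left = l'.1 :=
    Functor.relativelyRepresentable.lift'_fst _ _ _ _
  refine ⟨w.left (default : Spec (CommRingCat.of p.K)), ?_, ?_⟩
  · rw [← hl]
    exact congrArg (fun k : p.pt ⟶ A.obj.left => k.left (default : Spec (CommRingCat.of p.K))) hw1
  · rw [← hl']
    exact congrArg (fun k : p.pt ⟶ A'.obj.left => k.left (default : Spec (CommRingCat.of p.K))) hw2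

end Groth.Agent.Lib.Helper9.SpPoint
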