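import Mathlib
import Groth.Prelude.Def_AlgSpOX3
import Groth.Agent.Lib.Helper9SpPoint8
import Groth.Agent.S9906

/-!
# Chart diagrams for morphisms of sheaves, through prescribed points (helper9)

* `exists_geometric_lift_gen`: a geometric point through any point of any scheme mapping to `X`;
* `exists_point_pullback`: points of the fibre product of a scheme over `X` with an étale chart;
* `exists_chart_diagram`: for `f : X ⟶ Y`, a chart of `X` through `u` and a chart of `Y` through `v`
  over the same point of `|Y|`, a refinement of the chart of `X` mapping to the chart of `Y` with a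
  point over both;
* `exists_chart_diagram_atlas`: the same for a surjective étale chart of `Y`;
* `exists_atlas_point`: points of `|X|` lift to an atlas.
-/

set_option autoImplicit false
set_option linter.style.haveILetI false
set_option backward.isDefEq.respectTransparency false
open CategoryTheory CategoryTheory.Limits AlgebraicGeometry Opposite
universe u

namespace Groth.Agent.Lib.Helper9.SpPoint

open AlgSp

variable {S : Scheme.{u}}

/-- every point of a scheme mapping to `X` is hit by a lift of a geometric point of `X` -/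
lemma exists_geometric_lift_gen {X : Sp S} {T : Over S} (g : (yon S).obj T ⟶ X) (t : T.left) :
    ∃ (p : FieldPt X) (_ : p.IsGeometric) (l : p.pt ⟶ T),
      (yon S).map l ≫ g = p.toHom ∧ l.left (default : Spec (CommRingCat.of p.K)) = t := by
  let κ := T.left.residueField t
  let K := AlgebraicClosure κ
  let ι : Spec (CommRingCat.of K) ⟶ T.left :=
    Spec.map (CommRingCat.ofHom (algebraMap κ K)) ≫ T.left.fromSpecResidueField t
  let str : Spec (CommRingCat.of K) ⟶ S := ι ≫ T.hom
  let l₀ : Over.mk str ⟶ T := Over.homMk ι rfl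
  let p : FieldPt X := ⟨K, str, (AlgSp.J S).uliftYonedaEquiv ((yon S).map l₀ ≫ g)⟩
  refine ⟨p, ?_, l₀, ?_, ?_⟩
  · exact (inferInstance : IsAlgClosed (AlgebraicClosure κ))
  · exact ((AlgSp.J S).uliftYonedaEquiv.symm_apply_apply _).symm
  · exact Scheme.fromSpecResidueField_apply t _

/-- points of the fibre product of a scheme over `X` and an étale chart of `X` -/
lemma exists_point_pullback {X : Sp S} {T : Over S} (g : (yon S).obj T ⟶ X) (B : EtOver X)
    (t : T.left) (v : B.obj.left.left) (h : Points.ofPt g t = Points.ofPt B.obj.hom v) :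
    ∃ z : (B.property.1.pullback g).left,
      (B.property.1.snd g).left z = t ∧ (B.property.1.fst' g).left z = v := by
  obtain ⟨p, hp, l, hl, hlt⟩ := exists_geometric_lift_gen g t
  have hmk : Points.mk p = Points.ofPt g t := by
    rw [← hlt, ← ofPt_yon_map_comp, hl]
    exact (Points.ofPt_toHom p _).symm
  obtain ⟨l', hl'⟩ := exists_lift_of_ofPt_eq_mk' p hp B v (h.symm.trans hmk.symm)
  let w : p.pt ⟶ B.property.1.pullback g := B.property.1.lift' l'.1 l (by rw [l'.2, hl])
  have hw1 : w ≫ B.property.1.snd g = l :=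
    Functor.relativelyRepresentable.lift'_snd _ _ _ _
  have hw2 : w ≫ B.property.1.fst' g = l'.1 :=
    Functor.relativelyRepresentable.lift'_fst _ _ _ _
  refine ⟨w.left (default : Spec (CommRingCat.of p.K)), ?_, ?_⟩
  · rw [← hlt]
    exact congrArg (fun k : p.pt ⟶ T => k.left (default : Spec (CommRingCat.of p.K))) hw1
  · rw [← hl']
    exact congrArg (fun k : p.pt ⟶ B.obj.left => k.left (default : Spec (CommRingCat.of p.K))) hw2

/-- chart diagrams through prescribed points -/
lemma exists_chart_diagram {X Y : Sp S} (f : X ⟶ Y) {U : Over S} (a : (yon S).obj U ⟶ X)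
    (ha : RepWith @Etale a) (u : U.left) {V : Over S} (b : (yon S).obj V ⟶ Y)
    (hb : RepWith @Etale b) (v : V.left) (h : Points.ofPt (a ≫ f) u = Points.ofPt b v) :
    ∃ (W : Over S) (e : W ⟶ U) (k : W ⟶ V) (z : W.left), Etale e.left ∧
      RepWith @Etale ((yon S).map e ≫ a) ∧ ((yon S).map e ≫ a) ≫ f = (yon S).map k ≫ b ∧
      e.left z = u ∧ k.left z = v := by
  let B : EtOver Y := EtOver.mk b hb
  obtain ⟨z, hz1, hz2⟩ := exists_point_pullback (a ≫ f) B u v h
  have hpb := hb.1.isPullback (a ≫ f)
  have het : Etale (hb.1.snd (a ≫ f)).left := hb.2 (a ≫ f) _ _ hpb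
  refine ⟨hb.1.pullback (a ≫ f), hb.1.snd (a ≫ f), hb.1.fst' (a ≫ f), z, het, ?_, ?_, hz1, hz2⟩
  · exact (repWith_isMultiplicative (S := S) @Etale).comp_mem _ _
      ((repWith_yon_map_iff _ _).2 het) ha
  · rw [Category.assoc, hb.1.map_fst']
    exact hpb.w.symm

/-- points of `|X|` lift along a representable surjective map from a scheme -/
lemma exists_atlas_point {X : Sp S} {U : Over S} (a : (yon S).obj U ⟶ X)
    (hs : RepWith @Surjective a) (x : Points X) : ∃ t : U.left, Points.ofPt a t = x := by
  obtain ⟨z, hz⟩ := Groth.Agent.S9906.surjective_map_of_repWith a hs x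
  obtain ⟨t, rfl⟩ := (Points.schemeEquiv U).surjective z
  refine ⟨t, ?_⟩
  rw [Points.ofPt_eq_map_ofScheme]
  exact hz

/-- chart diagrams through a prescribed point of the source chart, with target a surjective chart -/
lemma exists_chart_diagram_atlas {X Y : Sp S} (f : X ⟶ Y) {U : Over S} (a : (yon S).obj U ⟶ X)
    (ha : RepWith @Etale a) (u : U.left) {V : Over S} (b : (yon S).obj V ⟶ Y)
    (hb : RepWith @Etale b) (hbs : RepWith @Surjective b) :
    ∃ (W : Over S) (e : W ⟶ U) (k : W ⟶ V) (z : W.left), Etale e.left ∧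
      RepWith @Etale ((yon S).map e ≫ a) ∧ ((yon S).map e ≫ a) ≫ f = (yon S).map k ≫ b ∧
      e.left z = u := by
  obtain ⟨v, hv⟩ := exists_atlas_point b hbs (Points.ofPt (a ≫ f) u)
  obtain ⟨W, e, k, z, h1, h2, h3, h4, -⟩ := exists_chart_diagram f a ha u b hb v hv.symm
  exact ⟨W, e, k, z, h1, h2, h3, h4⟩

end Groth.Agent.Lib.Helper9.SpPoint
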