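import Mathlib
import Groth.Prelude.Def_AlgSpOX3
import Groth.Prelude.Def_Dual3
import Groth.Agent.Lib.Helper9SpChart
import Groth.Agent.Lib.Helper20ResMap
import Groth.Agent.Lib.Helper3IrrTopB

/-!
# Transcendence degrees of residue field extensions (helper9)

* `resTrdeg_comp`: tower formula;
* `resTrdeg_eq_zero_of_locallyQuasiFinite`;
* `resTrdeg_eq_of_charts`: two lifts of a map to étale charts of a sheaf have the same residue
  transcendence degree.
-/

set_option autoImplicit false
set_option linter.style.haveILetI false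
set_option backward.isDefEq.respectTransparency false
open CategoryTheory CategoryTheory.Limits AlgebraicGeometry Opposite
universe u

namespace Groth.Agent.Lib.Helper9.ResTrdeg

theorem resTrdeg_comp {X Y Z : Scheme.{u}} (f : X ⟶ Y) (g : Y ⟶ Z) (x : X) :
    Dual3.resTrdeg (f ≫ g) x = Dual3.resTrdeg g (f x) + Dual3.resTrdeg f x := by
  unfold Dual3.resTrdeg
  letI a1 : Algebra (Z.residueField (g (f x))) (Y.residueField (f x)) :=
    (g.residueFieldMap (f x)).hom.toAlgebra
  letI a2 : Algebra (Y.residueField (f x)) (X.residueField x) :=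
    (f.residueFieldMap x).hom.toAlgebra
  letI a3 : Algebra (Z.residueField (g (f x))) (X.residueField x) :=
    ((f ≫ g).residueFieldMap x).hom.toAlgebra
  haveI : IsScalarTower (Z.residueField (g (f x))) (Y.residueField (f x)) (X.residueField x) :=
    IsScalarTower.of_algebraMap_eq (fun r => by
      change ((f ≫ g).residueFieldMap x).hom r =
        (f.residueFieldMap x).hom ((g.residueFieldMap (f x)).hom r)
      rw [Scheme.residueFieldMap_comp]
      rfl)
  exact (trdeg_add_eq (Z.residueField (g (f x))) (Y.residueField (f x))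
    (A := X.residueField x)).symm

theorem resTrdeg_eq_zero_of_locallyQuasiFinite {X Y : Scheme.{u}} (f : X ⟶ Y)
    [LocallyQuasiFinite f] (x : X) : Dual3.resTrdeg f x = 0 := by
  unfold Dual3.resTrdeg
  letI a2 : Algebra (Y.residueField (f x)) (X.residueField x) :=
    (f.residueFieldMap x).hom.toAlgebra
  haveI : Module.Finite (Y.residueField (f x)) (X.residueField x) :=
    Groth.Agent.Lib.Helper20.ResFld.finite_residueFieldMap_of_quasiFiniteAt f x
      (Scheme.Hom.quasiFiniteAt _ _)
  exact trdeg_eq_zero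

theorem resTrdeg_comp_of_lqf_right {X Y Z : Scheme.{u}} (f : X ⟶ Y) (g : Y ⟶ Z)
    [LocallyQuasiFinite g] (x : X) : Dual3.resTrdeg (f ≫ g) x = Dual3.resTrdeg f x := by
  rw [resTrdeg_comp, resTrdeg_eq_zero_of_locallyQuasiFinite g, zero_add]

theorem resTrdeg_comp_of_lqf_left {X Y Z : Scheme.{u}} (f : X ⟶ Y) (g : Y ⟶ Z)
    [LocallyQuasiFinite f] (x : X) : Dual3.resTrdeg (f ≫ g) x = Dual3.resTrdeg g (f x) := by
  rw [resTrdeg_comp, resTrdeg_eq_zero_of_locallyQuasiFinite f, add_zero]

open AlgSp

variable {S : Scheme.{u}}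

theorem resTrdeg_eq_of_charts {Y : Sp S} {T V V' : Over S} (b : (yon S).obj V ⟶ Y)
    (hb : RepWith @Etale b) (b' : (yon S).obj V' ⟶ Y) (hb' : RepWith @Etale b')
    (φ : T ⟶ V) (φ' : T ⟶ V') (h : (yon S).map φ ≫ b = (yon S).map φ' ≫ b') (t : T.left) :
    Dual3.resTrdeg φ.left t = Dual3.resTrdeg φ'.left t := by
  let B : EtOver Y := EtOver.mk b hb
  let B' : EtOver Y := EtOver.mk b' hb'
  let w : T ⟶ (EtOver.prodObj B B').obj.left := B'.property.1.lift' φ' φ h.symm
  have hw1 : w ≫ (EtOver.prodFst B B').hom.left = φ :=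
    Functor.relativelyRepresentable.lift'_snd _ _ _ _
  have hw2 : w ≫ (EtOver.prodSnd B B').hom.left = φ' :=
    Functor.relativelyRepresentable.lift'_fst _ _ _ _
  haveI := EtOver.etale_left (EtOver.prodFst B B')
  haveI := EtOver.etale_left (EtOver.prodSnd B B')
  haveI : LocallyQuasiFinite (EtOver.prodFst B B').hom.left.left :=
    Groth.Agent.Lib.Helper3.IrrTop.locallyQuasiFinite_of_unramified _
  haveI : LocallyQuasiFinite (EtOver.prodSnd B B').hom.left.left :=
    Groth.Agent.Lib.Helper3.IrrTop.locallyQuasiFinite_of_unramified _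
  have e1 : φ.left = w.left ≫ (EtOver.prodFst B B').hom.left.left := by
    rw [← hw1]; rfl
  have e2 : φ'.left = w.left ≫ (EtOver.prodSnd B B').hom.left.left := by
    rw [← hw2]; rfl
  rw [e1, e2, resTrdeg_comp_of_lqf_right, resTrdeg_comp_of_lqf_right]

end Groth.Agent.Lib.Helper9.ResTrdeg
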