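import Mathlib
import Groth.Agent.Lib.Helper2CycFinFlat
import Groth.Agent.Lib.Helper2Weight2
import Groth.Agent.S4686
import Groth.Agent.S4687
import Groth.Agent.S1858
import Groth.Agent.S1421

/-!
# Fibre degrees of flat locally quasi-finite morphisms (helper16)

* `fiber_sum`: `Σ_{x ∈ f⁻¹(s)} length·residue degree = finrank` of the fibre over `Spec κ(s)`.
* `kpoint_finrank`: the same sum computes `dim_K Γ(X ×_S Spec K)` for every `K`-point over `s`.
* `finite_fiber_of_compactSpace`, `stdW`, `fibreIntegral_stdW`.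
* `restrict_surjective_of_isClopen`: restriction of sections to a clopen is surjective.
* `jmap`, `rank_le_of_isClosed_range`, `rank_eq_of_isIso`: comparison of sections of the base
  change of an open subscheme.
-/

set_option autoImplicit false
set_option linter.style.haveILetI false
set_option linter.unusedSectionVars false
universe u

namespace Groth.Agent.Lib.Helper16.FibDeg

open AlgebraicGeometry CategoryTheory Limits TopologicalSpace Opposite
open Groth.Agent.S1421 (lenFac insepDeg sepDeg)

theorem maximalIdeal_eq_bot {Y : Scheme.{u}} [IsReduced Y] [Subsingleton Y] (p : Y) :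
    IsLocalRing.maximalIdeal (Y.presheaf.stalk p) = ⊥ := by
  haveI := Groth.Agent.S4687.krullDimLE_zero_of_maximal p (fun z _ => Subsingleton.elim _ _)
  have hF : IsField (Y.presheaf.stalk p) := Ring.KrullDimLE.isField_of_isReduced
  exact IsLocalRing.isField_iff_maximalIdeal_eq.mp hF

theorem lenFac_over_field {A Y : Scheme.{u}} [IsReduced Y] [Subsingleton Y] (φ : A ⟶ Y) (a : A) :
    lenFac φ a = Module.length (A.presheaf.stalk a) (A.presheaf.stalk a) := by
  unfold lenFac
  rw [maximalIdeal_eq_bot (φ a), Ideal.map_bot]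
  exact (Submodule.quotEquivOfEqBot (⊥ : Ideal (A.presheaf.stalk a)) rfl).length_eq

theorem fiber_sum {X S : Scheme.{u}} (f : X ⟶ S) [Flat f] [LocallyQuasiFinite f] (s : S)
    [IsFinite (f.fiberToSpecResidueField s)] (pt : Spec (S.residueField s)) :
    ∑ᶠ x ∈ f ⁻¹' {s}, ((lenFac f x).toNat * f.residueDegree x) =
      (f.fiberToSpecResidueField s).finrank pt := by
  haveI : Flat (f.fiberToSpecResidueField s) := by
    exact MorphismProperty.of_isPullback (P := @Flat)
      (IsPullback.of_hasPullback f (S.fromSpecResidueField s)) inferInstance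
  have key := Groth.Agent.Lib.Helper2.CycFinFlat.finsum_ram_mul_deg_eq_finrank
    (f.fiberToSpecResidueField s) pt
  rw [← key]
  have hbij : Set.BijOn (f.fiberι s) ((f.fiberToSpecResidueField s) ⁻¹' {pt}) (f ⁻¹' {s}) := by
    refine ⟨?_, ?_, ?_⟩
    · intro x' _
      exact (f.fiberHomeo s x').2
    · exact (Groth.Agent.S1858.fiberι_injective' f s).injOn
    · intro x hx
      refine ⟨(f.fiberHomeo s).symm ⟨x, hx⟩, Subsingleton.elim _ _, ?_⟩
      exact f.fiberι_fiberHomeo_symm s ⟨x, hx⟩
  refine (finsum_mem_eq_of_bijOn (f.fiberι s) hbij (fun x' _ => ?_)).symm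
  have h1 := lenFac_over_field (f.fiberToSpecResidueField s) x'
  have h2 := Groth.Agent.S4686.fiber_factor_eq f s x'
  have comm : f.fiberι s ≫ f = f.fiberToSpecResidueField s ≫ S.fromSpecResidueField s :=
    pullback.condition
  have h3 := Groth.Agent.S1858.residueDegree_eq_of_comm (f.fiberι s) f
    (f.fiberToSpecResidueField s) (S.fromSpecResidueField s) comm x'
  rw [h3]
  congr 2
  exact h1.trans h2.symm

theorem finrank_eq_finrank_sections {P : Scheme.{u}} (K : Type u) [Field K]
    (π : P ⟶ Spec (CommRingCat.of K)) [IsFinite π] [Flat π] (pt : Spec (CommRingCat.of K)) :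
    letI := ((Scheme.ΓSpecIso (CommRingCat.of K)).inv ≫ π.appTop).hom.toAlgebra
    Module.Finite K Γ(P, ⊤) ∧ π.finrank pt = Module.finrank K Γ(P, ⊤) := by
  haveI : IsAffine P := isAffine_of_isAffineHom π
  set ψ := (Scheme.ΓSpecIso (CommRingCat.of K)).inv ≫ π.appTop with hψ
  have hπ : π = P.isoSpec.hom ≫ Spec.map ψ := by
    rw [hψ, Spec.map_comp, ← Category.assoc, Scheme.isoSpec_hom_naturality, Category.assoc,
      Scheme.isoSpec_Spec_hom, ← Spec.map_comp, Iso.inv_hom_id, Spec.map_id, Category.comp_id]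
  have hπ' : P.isoSpec.inv ≫ π = Spec.map ψ := by
    rw [Iso.inv_comp_eq]; exact hπ
  haveI hfin : IsFinite (Spec.map ψ) := by
    rw [← hπ']; infer_instance
  haveI hflat : Flat (Spec.map ψ) := by
    rw [← hπ']; infer_instance
  have h1 : π.finrank = (Spec.map ψ).finrank := by
    conv_lhs => rw [hπ]
    exact Scheme.Hom.finrank_comp_left_of_isIso _ _
  letI := ψ.hom.toAlgebra
  haveI hF : Module.Finite K Γ(P, ⊤) := (IsFinite.SpecMap_iff _).mp hfin
  haveI : Module.Flat K Γ(P, ⊤) := Flat.SpecMap_iff.mp hflat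
  refine ⟨hF, ?_⟩
  rw [h1]
  have h2 := Scheme.Hom.finrank_SpecMap_algebraMap K Γ(P, ⊤) pt
  have h3 : CommRingCat.ofHom (algebraMap K Γ(P, ⊤)) = ψ := rfl
  rw [h3] at h2
  rw [h2, Module.rankAtStalk_eq_finrank_of_free]
  rfl

theorem kpoint_finrank {X S : Scheme.{u}} (f : X ⟶ S) [Flat f] [LocallyQuasiFinite f]
    (K : Type u) [Field K] (g : Spec (CommRingCat.of K) ⟶ S)
    [IsFinite (f.fiberToSpecResidueField (g (IsLocalRing.closedPoint K)))] :
    letI := ((Scheme.ΓSpecIso (CommRingCat.of K)).inv ≫ (pullback.snd f g).appTop).hom.toAlgebra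
    Module.Finite K Γ(pullback f g, ⊤) ∧
      Module.finrank K Γ(pullback f g, ⊤) =
        ∑ᶠ x ∈ f ⁻¹' {g (IsLocalRing.closedPoint K)},
          ((lenFac f x).toNat * f.residueDegree x) := by
  set s := g (IsLocalRing.closedPoint K) with hs
  let h : S.residueField s ⟶ CommRingCat.of K :=
    Scheme.descResidueField (Scheme.stalkClosedPointTo g)
  have hg : Spec.map h ≫ S.fromSpecResidueField s = g :=
    Scheme.descResidueField_stalkClosedPointTo_fromSpecResidueField K S g
  let lift : pullback f g ⟶ f.fiber s :=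
    pullback.lift (pullback.fst f g) (pullback.snd f g ≫ Spec.map h)
      (by rw [Category.assoc, hg, pullback.condition])
  have hl1 : lift ≫ f.fiberι s = pullback.fst f g := pullback.lift_fst _ _ _
  have hl2 : lift ≫ f.fiberToSpecResidueField s = pullback.snd f g ≫ Spec.map h :=
    pullback.lift_snd _ _ _
  have big : IsPullback (lift ≫ f.fiberι s) (pullback.snd f g) f
      (Spec.map h ≫ S.fromSpecResidueField s) := by
    rw [hl1, hg]
    exact IsPullback.of_hasPullback f g
  have sq : IsPullback lift (pullback.snd f g) (f.fiberToSpecResidueField s) (Spec.map h) :=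
    IsPullback.of_right big hl2 (IsPullback.of_hasPullback f (S.fromSpecResidueField s))
  haveI : Flat (f.fiberToSpecResidueField s) :=
    MorphismProperty.of_isPullback (P := @Flat)
      (IsPullback.of_hasPullback f (S.fromSpecResidueField s)) inferInstance
  haveI : IsFinite (pullback.snd f g) :=
    MorphismProperty.of_isPullback (P := @IsFinite) sq inferInstance
  haveI : Flat (pullback.snd f g) :=
    MorphismProperty.of_isPullback (P := @Flat) sq inferInstance
  have h1 := Scheme.Hom.finrank_of_isPullback lift (pullback.snd f g)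
    (f.fiberToSpecResidueField s) (Spec.map h) sq (IsLocalRing.closedPoint K)
  obtain ⟨h2, h3⟩ := finrank_eq_finrank_sections K (pullback.snd f g) (IsLocalRing.closedPoint K)
  refine ⟨h2, ?_⟩
  rw [← h3, h1]
  exact (fiber_sum f s _).symm

theorem quasiCompact_of_finite {A B : Scheme.{u}} (φ : A ⟶ B) [Finite A] : QuasiCompact φ := by
  rw [quasiCompact_iff]
  intro U _ _
  exact (Set.toFinite _).isCompact

theorem finite_fiber_of_compactSpace {X S : Scheme.{u}} (f : X ⟶ S) [LocallyQuasiFinite f]
    [CompactSpace X] (s : S) :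
    (f ⁻¹' {s}).Finite ∧ IsFinite (f.fiberToSpecResidueField s) := by
  haveI : QuasiCompact (S.fromSpecResidueField s) := quasiCompact_of_finite _
  haveI : QuasiCompact (f.fiberι s) :=
    (inferInstance : QuasiCompact (pullback.fst f (S.fromSpecResidueField s)))
  haveI : CompactSpace (f.fiber s) := QuasiCompact.compactSpace_of_compactSpace (f.fiberι s)
  haveI : DiscreteTopology (f.fiber s) := inferInstance
  haveI : Finite (f.fiber s) := finite_of_compact_of_discrete
  constructor
  · haveI : Finite ↥(f ⁻¹' {s}) := Finite.of_equiv _ (f.fiberHomeo s).toEquiv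
    exact Set.toFinite _
  · haveI : QuasiCompact (f.fiberToSpecResidueField s) := quasiCompact_of_finite _
    haveI : LocallyQuasiFinite (f.fiberToSpecResidueField s) :=
      (inferInstance : LocallyQuasiFinite (pullback.snd f (S.fromSpecResidueField s)))
    exact IsFinite.of_locallyQuasiFinite _

/-- the standard weighting of a flat lqf lfp morphism. -/
noncomputable def stdW {X Y : Scheme.{u}} (f : X ⟶ Y) (x : X) : ℤ :=
  ((lenFac f x).toNat : ℤ) * (insepDeg f x : ℤ)

theorem stdW_spec {X Y : Scheme.{u}} (f : X ⟶ Y) [LocallyQuasiFinite f] [Flat f]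
    [LocallyOfFinitePresentation f] :
    MoreMor.IsWeighting f (stdW f) ∧ ∀ x, 0 < stdW f x :=
  Groth.Agent.S1421.result f

theorem fibreIntegral_stdW {X Y : Scheme.{u}} (f : X ⟶ Y) (s : Y) (hfin : (f ⁻¹' {s}).Finite) :
    MoreMor.fibreIntegral f (stdW f) s =
      ((∑ᶠ x ∈ f ⁻¹' {s}, (lenFac f x).toNat * f.residueDegree x : ℕ) : ℤ) := by
  unfold MoreMor.fibreIntegral
  change (∑ᶠ u : {u : X // f u = s}, stdW f u.1 * (sepDeg f u.1 : ℤ)) = _
  rw [finsum_subtype_eq_finsum_cond (f := fun u : X => stdW f u * (sepDeg f u : ℤ))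
    (fun u => f u = s), Nat.cast_finsum_mem hfin]
  refine finsum_congr fun u => ?_
  refine finsum_congr fun _ => ?_
  unfold stdW
  rw [← Groth.Agent.S1421.sepDeg_mul_insepDeg f u]
  push_cast
  ring

theorem restrict_surjective_of_isClopen (Z : Scheme.{u}) (V : Z.Opens) (hV : IsClosed (V : Set Z)) :
    Function.Surjective (Z.presheaf.map (homOfLE (le_top : V ≤ ⊤)).op).hom := by
  intro a
  let Vc : Z.Opens := ⟨(V : Set Z)ᶜ, hV.isOpen_compl⟩
  let U : Bool → Z.Opens := fun b => bif b then V else Vc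
  have hcover : (⊤ : Z.Opens) ≤ iSup U := by
    intro x _
    rw [Opens.mem_iSup]
    by_cases hx : x ∈ V
    · exact ⟨true, hx⟩
    · exact ⟨false, hx⟩
  have hW : V ⊓ Vc = ⊥ := by
    ext x
    simp only [Opens.coe_inf, Opens.coe_bot, Set.mem_inter_iff, Set.mem_empty_iff_false, iff_false,
      not_and]
    intro h1 h2
    exact h2 h1
  have hW' : Vc ⊓ V = ⊥ := by rw [inf_comm]; exact hW
  haveI s1 : Subsingleton Γ(Z, V ⊓ Vc) := hW ▸ inferInstance
  haveI s2 : Subsingleton Γ(Z, Vc ⊓ V) := hW' ▸ inferInstance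
  let sf : ∀ b : Bool, ToType (Z.sheaf.1.obj (op (U b))) :=
    fun b => Bool.rec (motive := fun b => ToType (Z.sheaf.1.obj (op (U b)))) (0 : Γ(Z, Vc)) a b
  have compat : TopCat.Presheaf.IsCompatible Z.sheaf.1 U sf := by
    intro i j
    cases i <;> cases j
    · rfl
    · exact Subsingleton.elim (α := Γ(Z, Vc ⊓ V)) _ _
    · exact Subsingleton.elim (α := Γ(Z, V ⊓ Vc)) _ _
    · rfl
  obtain ⟨s, hs, -⟩ := Z.sheaf.existsUnique_gluing' U ⊤ (fun b => homOfLE le_top) hcover sf compat
  exact ⟨s, hs true⟩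

theorem appTop_surjective_of_isClosed_range {A Z : Scheme.{u}} (j : A ⟶ Z) [IsOpenImmersion j]
    (hcl : IsClosed (Set.range j)) : Function.Surjective j.appTop.hom := by
  have hV : IsClosed ((j ''ᵁ ⊤ : Z.Opens) : Set Z) := by
    have : ((j ''ᵁ ⊤ : Z.Opens) : Set Z) = Set.range j := by
      simp
    rw [this]; exact hcl
  have h1 := restrict_surjective_of_isClopen Z (j ''ᵁ ⊤) hV
  have h2 : j.appTop = Z.presheaf.map (homOfLE (le_top : j ''ᵁ ⊤ ≤ ⊤)).op ≫ (j.appIso ⊤).hom := by
    rw [Scheme.Hom.appIso_hom', Scheme.Hom.map_appLE]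
    unfold Scheme.Hom.appLE
    refine (Category.comp_id _).symm.trans ?_
    congr 1
    exact (A.presheaf.map_id _).symm
  rw [h2, CommRingCat.hom_comp, RingHom.coe_comp]
  exact (ConcreteCategory.bijective_of_isIso (j.appIso ⊤).hom).surjective.comp h1

section Compare

variable {X S : Scheme.{u}} (f : X ⟶ S) (X' : X.Opens) {K : Type u} [Field K]
  (g : Spec (CommRingCat.of K) ⟶ S)

noncomputable def jmap : pullback (X'.ι ≫ f) g ⟶ pullback f g :=
  pullback.map (X'.ι ≫ f) g f g X'.ι (𝟙 _) (𝟙 _) (by simp) (by simp)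

theorem jmap_fst : jmap f X' g ≫ pullback.fst f g = pullback.fst (X'.ι ≫ f) g ≫ X'.ι :=
  pullback.lift_fst _ _ _

theorem jmap_snd : jmap f X' g ≫ pullback.snd f g = pullback.snd (X'.ι ≫ f) g :=
  (pullback.lift_snd _ _ _).trans (Category.comp_id _)

theorem jmap_isPullback :
    IsPullback (jmap f X' g) (pullback.fst (X'.ι ≫ f) g) (pullback.fst f g) X'.ι := by
  have big : IsPullback (jmap f X' g ≫ pullback.snd f g) (pullback.fst (X'.ι ≫ f) g) g
      (X'.ι ≫ f) := by
    rw [jmap_snd]
    exact (IsPullback.of_hasPullback (X'.ι ≫ f) g).flip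
  exact IsPullback.of_right big (jmap_fst f X' g) (IsPullback.of_hasPullback f g).flip

instance : IsOpenImmersion (jmap f X' g) :=
  MorphismProperty.of_isPullback (P := @IsOpenImmersion) (jmap_isPullback f X' g).flip
    inferInstance

theorem range_jmap : Set.range (jmap f X' g) = (pullback.fst f g) ⁻¹' (X' : Set X) := by
  have h := (jmap_isPullback f X' g).isoPullback_hom_fst
  have h2 : Set.range (jmap f X' g) = Set.range (pullback.fst (pullback.fst f g) X'.ι) := by
    rw [← h, Scheme.Hom.comp_base, TopCat.coe_comp, Set.range_comp]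
    have : Set.range ((jmap_isPullback f X' g).isoPullback.hom) = Set.univ :=
      Set.range_eq_univ.mpr ((jmap_isPullback f X' g).isoPullback.hom.surjective)
    rw [this, Set.image_univ]
  rw [h2, Scheme.Pullback.range_fst, Scheme.Opens.range_ι]

/-- the `K`-algebra structure on global sections of the base change to `Spec K`. -/
noncomputable abbrev algK (f : X ⟶ S) (g : Spec (CommRingCat.of K) ⟶ S) :
    Algebra K Γ(pullback f g, ⊤) :=
  ((Scheme.ΓSpecIso (CommRingCat.of K)).inv ≫ (pullback.snd f g).appTop).hom.toAlgebra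

theorem jmap_appTop_algebraMap (k : K) :
    (jmap f X' g).appTop.hom (@algebraMap K _ _ _ (algK f g) k) =
      @algebraMap K _ _ _ (algK (X'.ι ≫ f) g) k := by
  change (jmap f X' g).appTop.hom ((pullback.snd f g).appTop.hom
    ((Scheme.ΓSpecIso (CommRingCat.of K)).inv.hom k)) =
    (pullback.snd (X'.ι ≫ f) g).appTop.hom ((Scheme.ΓSpecIso (CommRingCat.of K)).inv.hom k)
  have h := congrArg Scheme.Hom.appTop (jmap_snd f X' g)
  rw [Scheme.Hom.comp_appTop] at h
  rw [← h]
  rfl

/-- restriction of sections along `jmap` as a `K`-linear map. -/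
noncomputable def jlin :
    @LinearMap K K _ _ (RingHom.id K) Γ(pullback f g, ⊤) Γ(pullback (X'.ι ≫ f) g, ⊤) _ _
      (algK f g).toModule (algK (X'.ι ≫ f) g).toModule :=
  letI := algK f g
  letI := algK (X'.ι ≫ f) g
  { toFun := (jmap f X' g).appTop.hom
    map_add' := map_add _
    map_smul' := fun k x => by
      rw [Algebra.smul_def, map_mul, jmap_appTop_algebraMap, RingHom.id_apply, Algebra.smul_def] }

theorem rank_le_of_isClosed_range (hcl : IsClosed (Set.range (jmap f X' g))) :
    @Module.rank K Γ(pullback (X'.ι ≫ f) g, ⊤) _ _ (algK (X'.ι ≫ f) g).toModule ≤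
      @Module.rank K Γ(pullback f g, ⊤) _ _ (algK f g).toModule :=
  letI := algK f g
  letI := algK (X'.ι ≫ f) g
  LinearMap.rank_le_of_surjective (jlin f X' g)
    (appTop_surjective_of_isClosed_range (jmap f X' g) hcl)

theorem rank_eq_of_isIso (hiso : IsIso (jmap f X' g)) :
    @Module.rank K Γ(pullback (X'.ι ≫ f) g, ⊤) _ _ (algK (X'.ι ≫ f) g).toModule =
      @Module.rank K Γ(pullback f g, ⊤) _ _ (algK f g).toModule := by
  letI := algK f g
  letI := algK (X'.ι ≫ f) g
  haveI : IsIso (jmap f X' g).appTop := by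
    have : IsIso ((jmap f X' g).app ⊤) := inferInstance
    exact this
  exact (LinearEquiv.rank_eq (LinearEquiv.ofBijective (jlin f X' g)
    (ConcreteCategory.bijective_of_isIso (jmap f X' g).appTop))).symm

end Compare

end Groth.Agent.Lib.Helper16.FibDeg
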