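import Mathlib
import Groth.Agent.Lib.Helper2Weight
import Groth.Agent.Lib.Helper2Weight2
import Groth.Agent.Lib.Helper2Weight3
import Groth.Agent.Lib.Helper20EtSplitClopen
import Groth.Agent.Lib.Helper12FlatDescentNonQC
import Groth.Agent.Lib.Helper11ChevB
import Groth.Agent.S1419
import Groth.Agent.S1428
import Groth.Agent.S1448

set_option autoImplicit false
set_option linter.style.haveILetI false
set_option linter.unusedSectionVars false
universe u

namespace Groth.Agent.Lib.Helper16.AffMax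

open AlgebraicGeometry CategoryTheory Limits TopologicalSpace
open Groth.Agent.Lib.Helper2.Weight
open Groth.Agent.Lib.Helper20.EtSections

set_option backward.isDefEq.respectTransparency.types false in
/-- affineness over an affine base can be checked étale locally. -/
theorem isAffine_of_etale_local {U X : Scheme.{u}} [IsAffine X] (j : U ⟶ X) [QuasiCompact j]
    [QuasiSeparated j]
    (H : ∀ x : X, ∃ (V : Scheme.{u}) (g : V ⟶ X), Etale g ∧ x ∈ Set.range g ∧
      IsAffineHom (pullback.snd j g)) : IsAffine U := by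
  choose V g hg hy haff using H
  let G : (∐ V) ⟶ X := Sigma.desc g
  have hιG : ∀ y, Sigma.ι V y ≫ G = g y := fun y => Sigma.ι_desc _ _
  have hG : Etale G := by
    refine IsZariskiLocalAtSource.of_openCover (P := @Etale) (sigmaOpenCover V) (fun y => ?_)
    change Etale (Sigma.ι V y ≫ G)
    rw [hιG]
    exact hg y
  have hGs : Surjective G := ⟨fun y => by
    obtain ⟨v, hv⟩ := hy y
    exact ⟨Sigma.ι V y v, by rw [← Scheme.Hom.comp_apply, hιG, hv]⟩⟩
  have haffG : IsAffineHom (pullback.snd j G) := by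
    refine IsZariskiLocalAtTarget.of_openCover (P := @IsAffineHom) (sigmaOpenCover V) (fun y => ?_)
    change IsAffineHom (pullback.snd (pullback.snd j G) (Sigma.ι V y))
    have hp : IsPullback (pullback.fst (pullback.snd j G) (Sigma.ι V y) ≫ pullback.fst j G)
        (pullback.snd (pullback.snd j G) (Sigma.ι V y)) j (Sigma.ι V y ≫ G) :=
      (IsPullback.of_hasPullback (pullback.snd j G) (Sigma.ι V y)).paste_horiz
        (IsPullback.of_hasPullback j G)
    rw [hιG] at hp
    rw [← hp.isoPullback_hom_snd]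
    haveI := haff y
    infer_instance
  haveI : Flat G := inferInstance
  exact Groth.Agent.Lib.Helper12.isAffine_of_isAffineHom_pullback_snd j G haffG

/-- a clopen open subscheme is a closed subscheme. -/
theorem isClosedImmersion_ι_of_isClosed {P : Scheme.{u}} (R : P.Opens)
    (hR : IsClosed (R : Set P)) : IsClosedImmersion R.ι :=
  IsClosedImmersion.of_isPreimmersion _ (by rw [Scheme.Opens.range_ι]; exact hR)

/-- the pullback of an open immersion `U.ι` along `g` is affine as soon as `g ⁻¹ᵁ U` is an affine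
open of an affine scheme. -/
theorem isAffineHom_pullback_snd_ι {X V : Scheme.{u}} [IsAffine V] (U : X.Opens) (g : V ⟶ X)
    (h : IsAffineOpen (g ⁻¹ᵁ U)) : IsAffineHom (pullback.snd U.ι g) := by
  have hp : IsPullback (g ∣_ U) (g ⁻¹ᵁ U).ι U.ι g := isPullback_morphismRestrict g U
  haveI : IsAffine (g ⁻¹ᵁ U).toScheme := h
  haveI : IsAffineHom (g ⁻¹ᵁ U).ι := inferInstance
  have e : pullback.snd U.ι g = hp.isoPullback.inv ≫ (g ⁻¹ᵁ U).ι := by
    rw [Iso.eq_inv_comp, hp.isoPullback_hom_snd]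
  rw [e]
  infer_instance

/-- local structure with constant finite part on an affine étale neighbourhood. -/
theorem exists_etale_affine_split {P X : Scheme.{u}} (p : P ⟶ X) [LocallyOfFiniteType p]
    [IsSeparated p] [LocallyQuasiFinite p] (w' : P → ℤ) (hw' : MoreMor.IsWeighting p w')
    (hpos' : ∀ z, 0 < w' z) (z₀ : P) :
    ∃ (V : Scheme.{u}) (g : V ⟶ X) (v : V) (W : (pullback p g).Opens) (c : ℤ), IsAffine V ∧
      Etale g ∧ g v = p z₀ ∧ IsClopen (W : Set ↥(pullback p g)) ∧
      IsFinite (W.ι ≫ pullback.snd p g) ∧ 1 ≤ c ∧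
      ∀ v' : V, fI (pullback.snd p g) (w' ∘ pullback.fst p g) W v' = c := by
  obtain ⟨V₀, g₀, v₀, hg₀, hv₀, -, Vz, -, H⟩ :=
    exists_etale_split_clopen p (p z₀) {z₀} (Set.finite_singleton z₀)
      (fun t ht => ⟨by rw [Set.mem_singleton_iff.mp ht], p.quasiFiniteAt t⟩)
  haveI := hg₀
  obtain ⟨z, hz1, hz2⟩ := Scheme.Pullback.exists_preimage_pullback z₀ v₀ hv₀.symm
  obtain ⟨hzW, hWclopen, hWfin, -, -, -⟩ := H z hz2 (by rw [hz1]; rfl)
  haveI := hWfin
  set W₀ : (pullback p g₀).Opens := Vz z with hW₀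
  have hG : IsLocallyConstant (fI (pullback.snd p g₀) (w' ∘ pullback.fst p g₀) W₀) :=
    isLocallyConstant_fI_etale p w' hw' g₀ W₀
  set c : ℤ := fI (pullback.snd p g₀) (w' ∘ pullback.fst p g₀) W₀ v₀ with hc
  haveI : LocallyQuasiFinite (pullback.snd p g₀) := inferInstance
  have hc1 : 1 ≤ c := by
    have h1 := le_fI (pullback.snd p g₀) (w' ∘ pullback.fst p g₀) (fun y => hpos' _)
      (W₀ : Set ↥(pullback p g₀)) v₀ (finite_fibre_inter_opens _ W₀ v₀) z hzW hz2
    have h2 : 0 < (w' ∘ pullback.fst p g₀) z := hpos' _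
    omega
  let V' : Set V₀ := {v' | fI (pullback.snd p g₀) (w' ∘ pullback.fst p g₀) W₀ v' = c}
  have hV'o : IsOpen V' := hG.isOpen_fiber _
  have hv₀V' : v₀ ∈ V' := rfl
  obtain ⟨Va, hVaff, hvVa, hVasub⟩ : ∃ Va : V₀.Opens, IsAffineOpen Va ∧ v₀ ∈ Va ∧
      (Va : Set V₀) ⊆ V' := by
    obtain ⟨_, ⟨Va, hVaff, rfl⟩, hvVa, hVasub⟩ :=
      V₀.isBasis_affineOpens.exists_subset_of_mem_open hv₀V' hV'o
    exact ⟨Va, hVaff, hvVa, hVasub⟩
  obtain ⟨v, hv⟩ : v₀ ∈ Set.range Va.ι := by rw [Scheme.Opens.range_ι]; exact hvVa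
  refine ⟨Va.toScheme, Va.ι ≫ g₀, v, (bcMap p g₀ Va.ι) ⁻¹ᵁ W₀, c, hVaff, inferInstance, ?_, ?_,
    isFinite_preimage_bcMap p g₀ Va.ι W₀, hc1, ?_⟩
  · rw [Scheme.Hom.comp_apply, hv, hv₀]
  · exact hWclopen.preimage (bcMap p g₀ Va.ι).continuous
  · intro v'
    have h1 := fI_baseChange (pullback.snd p g₀) (pullback.snd p (Va.ι ≫ g₀)) (bcMap p g₀ Va.ι)
      Va.ι (isPullback_bcMap p g₀ Va.ι) W₀ (w' ∘ pullback.fst p g₀) v'
    have h2 : (w' ∘ pullback.fst p g₀) ∘ (bcMap p g₀ Va.ι) = w' ∘ pullback.fst p (Va.ι ≫ g₀) := by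
      funext y
      change w' (pullback.fst p g₀ (bcMap p g₀ Va.ι y)) = _
      rw [bcMap_fst_apply]
      rfl
    rw [h2] at h1
    rw [h1]
    have h3 : Va.ι v' ∈ (Va : Set V₀) := by
      have : Va.ι v' ∈ Set.range Va.ι := ⟨v', rfl⟩
      rwa [Scheme.Opens.range_ι] at this
    exact hVasub h3

set_option backward.isDefEq.respectTransparency.types false in
/-- the locus where the fibre integral of a positive weighting attains the bound `d` is an affine
open, for a locally quasi-finite morphism of affine schemes. -/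
theorem affineMax (d : ℕ) : ∀ (X Y : Scheme.{u}) [IsAffine X] [IsAffine Y] (f : X ⟶ Y)
    [LocallyQuasiFinite f] [LocallyOfFiniteType f] (w : X → ℤ),
    MoreMor.IsWeighting f w → (∀ x, 0 < w x) → (∀ y, MoreMor.fibreIntegral f w y ≤ d) →
    ∀ hO : IsOpen {y : Y | MoreMor.fibreIntegral f w y = d},
      IsAffineOpen (⟨{y : Y | MoreMor.fibreIntegral f w y = d}, hO⟩ : Y.Opens) := by
  induction d using Nat.strong_induction_on with
  | _ d IH =>
  intro X Y _ _ f _ _ w hw hpos hmax hO
  have hfin : ∀ y, (f ⁻¹' {y}).Finite := fun y => Scheme.Hom.finite_preimage_singleton f y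
  have hnn := fun y => Groth.Agent.S1448.fibreIntegral_nonneg f w hpos y (hfin y)
  by_cases hatt : ∃ y, MoreMor.fibreIntegral f w y = d
  swap
  · have : (⟨{y : Y | MoreMor.fibreIntegral f w y = d}, hO⟩ : Y.Opens) = ⊥ := by
      ext y
      constructor
      · intro h
        exact (hatt ⟨y, h⟩).elim
      · intro h
        exact h.elim
    rw [this]
    exact isAffineOpen_bot Y
  rcases Nat.eq_zero_or_pos d with rfl | hd
  · have : (⟨{y : Y | MoreMor.fibreIntegral f w y = ((0 : ℕ) : ℤ)}, hO⟩ : Y.Opens) = ⊤ := by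
      ext y
      constructor
      · intro _
        trivial
      · intro _
        exact le_antisymm (hmax y) (by simpa using hnn y)
    rw [this]
    exact isAffineOpen_top Y
  set Yd : Y.Opens := ⟨{y : Y | MoreMor.fibreIntegral f w y = d}, hO⟩ with hYd
  obtain ⟨hYd', hF⟩ := Groth.Agent.S1428.result f hfin w hw hpos (d : ℤ) hmax hatt
  haveI hF' : IsFinite (f ∣_ Yd) := hF
  have hmemYd : ∀ y, y ∈ Yd ↔ MoreMor.fibreIntegral f w y = d := fun y => Iff.rfl
  have hsurj : Surjective (f ∣_ Yd) := ⟨fun y => by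
    have hy : MoreMor.fibreIntegral f w y.1 = d := y.2
    have h1 : (1 : ℤ) ≤ d := by exact_mod_cast hd
    have hne : MoreMor.fibreIntegral f w y.1 ≠ 0 := by omega
    rw [fibreIntegral_eq_fI_univ] at hne
    obtain ⟨x, -, hx⟩ := exists_mem_of_fI_pos f w Set.univ y.1 hne
    have hxm : x ∈ f ⁻¹ᵁ Yd := by
      change f x ∈ Yd
      rw [hx]
      exact y.2
    refine ⟨⟨x, hxm⟩, Subtype.ext ?_⟩
    rw [morphismRestrict_base_coe]
    exact hx⟩
  have hXd : IsAffine (f ⁻¹ᵁ Yd).toScheme := by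
    have hcYd : IsCompact (Yd : Set Y) := by
      have h1 := Groth.Agent.S1448.retro d X Y f w hw hpos isCompact_univ isOpen_univ
      have h2 : ({s : Y | (d : ℤ) ≤ MoreMor.fibreIntegral f w s} ∩ Set.univ) = (Yd : Set Y) := by
        ext y
        constructor
        · rintro ⟨h, -⟩
          exact le_antisymm (hmax y) h
        · intro h
          exact ⟨(hmemYd y |>.mp h).ge, trivial⟩
      rwa [h2] at h1
    have hcXd : IsCompact ((f ⁻¹ᵁ Yd : X.Opens) : Set X) :=
      QuasiCompact.isCompact_preimage _ Yd.2 hcYd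
    haveI : QuasiCompact (f ⁻¹ᵁ Yd).ι := by
      exact (HasAffineProperty.iff_of_isAffine (P := @QuasiCompact)).mpr
        (isCompact_iff_compactSpace.mp hcXd)
    refine isAffine_of_etale_local (f ⁻¹ᵁ Yd).ι (fun x => ?_)
    set p := pullback.snd f f with hp
    let δ : X ⟶ pullback f f := pullback.lift (𝟙 X) (𝟙 X) rfl
    have hδ : ∀ x, p (δ x) = x := fun x => by
      rw [← Scheme.Hom.comp_apply]
      have : δ ≫ p = 𝟙 X := pullback.lift_snd _ _ _
      rw [this]
      rfl
    set w' : ↥(pullback f f) → ℤ := w ∘ pullback.fst f f with hw'def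
    have hw' : MoreMor.IsWeighting p w' :=
      Groth.Agent.S1419.result f w hw p (pullback.fst f f) f (IsPullback.of_hasPullback f f)
    have hbc : ∀ x', MoreMor.fibreIntegral p w' x' = MoreMor.fibreIntegral f w (f x') := fun x' =>
      (fibreIntegral_baseChange f hfin p (pullback.fst f f) f (IsPullback.of_hasPullback f f)
        w x').1
    haveI : LocallyQuasiFinite p := inferInstance
    haveI : LocallyOfFiniteType p := inferInstance
    haveI : IsSeparated p := inferInstance
    have hfinp : ∀ x', (p ⁻¹' {x'}).Finite := fun x' =>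
      Scheme.Hom.finite_preimage_singleton p x'
    obtain ⟨V, g, v, W, c, hVaff, hg, hv, hWclopen, hWfin, hc1, hconst⟩ :=
      exists_etale_affine_split p w' hw' (fun z => hpos _) (δ x)
    refine ⟨V, g, hg, ⟨v, by rw [hv, hδ]⟩, ?_⟩
    haveI := hVaff
    haveI := hg
    haveI := hWfin
    apply isAffineHom_pullback_snd_ι
    set π := pullback.snd p g with hπ
    set w₂ : ↥(pullback p g) → ℤ := w' ∘ pullback.fst p g with hw₂
    have hpos₂ : ∀ y, 0 < w₂ y := fun y => hpos _
    haveI : LocallyQuasiFinite π := inferInstance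
    haveI : LocallyOfFiniteType π := inferInstance
    have hw₂w : MoreMor.IsWeighting π w₂ :=
      Groth.Agent.S1419.result p w' hw' π (pullback.fst p g) g (IsPullback.of_hasPullback p g)
    let R : (pullback p g).Opens := ⟨(W : Set ↥(pullback p g))ᶜ, hWclopen.compl.isOpen⟩
    haveI : IsClosedImmersion R.ι := isClosedImmersion_ι_of_isClosed R hWclopen.compl.isClosed
    haveI : IsAffine (pullback p g) := inferInstance
    haveI : IsAffine R.toScheme := isAffine_of_isAffineHom R.ι
    have hfinπ : ∀ v', (π ⁻¹' {v'}).Finite := fun v' =>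
      Scheme.Hom.finite_preimage_singleton π v'
    have hfinA : ∀ (A : Set ↥(pullback p g)) v', ({y | π y = v'} ∩ A).Finite := fun A v' =>
      (hfinπ v').subset (fun y hy => hy.1)
    have hwR : MoreMor.IsWeighting (R.ι ≫ π) (w₂ ∘ R.ι) := isWeighting_opens π w₂ hw₂w R
    have hdecomp : ∀ v', MoreMor.fibreIntegral f w (f (g v')) =
        c + MoreMor.fibreIntegral (R.ι ≫ π) (w₂ ∘ R.ι) v' := by
      intro v'
      have h1 := (fibreIntegral_baseChange p hfinp π (pullback.fst p g) g
        (IsPullback.of_hasPullback p g) w' v').1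
      rw [← hbc, ← h1, fibreIntegral_eq_fI_univ]
      have h2 : (Set.univ : Set ↥(pullback p g)) =
          (W : Set ↥(pullback p g)) ∪ (R : Set ↥(pullback p g)) := by
        change Set.univ = (W : Set ↥(pullback p g)) ∪ (W : Set ↥(pullback p g))ᶜ
        rw [Set.union_compl_self]
      rw [h2, fI_union π w₂ (W : Set ↥(pullback p g)) (R : Set ↥(pullback p g)) v' (hfinA _ _)
        (hfinA _ _), hconst v']
      · congr 1
        exact (fibreIntegral_opens R π w₂ v').symm
      · rw [Set.disjoint_left]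
        rintro y ⟨-, hyW⟩ ⟨-, hyR⟩
        exact hyR hyW
    have hnnR : ∀ v', 0 ≤ MoreMor.fibreIntegral (R.ι ≫ π) (w₂ ∘ R.ι) v' := fun v' =>
      Groth.Agent.S1448.fibreIntegral_nonneg (R.ι ≫ π) (w₂ ∘ R.ι) (fun y => hpos₂ _) v'
        (Scheme.Hom.finite_preimage_singleton (R.ι ≫ π) v')
    have hcd : c ≤ d := by
      have h1 := hdecomp v
      have h2 := hmax (f (g v))
      have h3 := hnnR v
      omega
    have hm : d - c.toNat < d := by omega
    have hmaxR : ∀ v', MoreMor.fibreIntegral (R.ι ≫ π) (w₂ ∘ R.ι) v' ≤ ((d - c.toNat : ℕ) : ℤ) := by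
      intro v'
      have h1 := hdecomp v'
      have h2 := hmax (f (g v'))
      omega
    have hseteq : {v' : V | MoreMor.fibreIntegral (R.ι ≫ π) (w₂ ∘ R.ι) v' =
        ((d - c.toNat : ℕ) : ℤ)} = ((g ⁻¹ᵁ (f ⁻¹ᵁ Yd) : V.Opens) : Set V) := by
      ext v'
      have h1 := hdecomp v'
      constructor
      · intro h
        change MoreMor.fibreIntegral f w (f (g v')) = d
        have h' : MoreMor.fibreIntegral (R.ι ≫ π) (w₂ ∘ R.ι) v' = ((d - c.toNat : ℕ) : ℤ) := h
        omega
      · intro h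
        change MoreMor.fibreIntegral (R.ι ≫ π) (w₂ ∘ R.ι) v' = ((d - c.toNat : ℕ) : ℤ)
        have h' : MoreMor.fibreIntegral f w (f (g v')) = d := h
        omega
    have hOR : IsOpen {v' : V | MoreMor.fibreIntegral (R.ι ≫ π) (w₂ ∘ R.ι) v' =
        ((d - c.toNat : ℕ) : ℤ)} := by
      rw [hseteq]
      exact (g ⁻¹ᵁ (f ⁻¹ᵁ Yd)).2
    have hIH := IH (d - c.toNat) hm R.toScheme V (R.ι ≫ π) (w₂ ∘ R.ι) hwR (fun y => hpos₂ _)
      hmaxR hOR
    have hopeq : (⟨_, hOR⟩ : V.Opens) = g ⁻¹ᵁ (f ⁻¹ᵁ Yd) := Opens.ext hseteq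
    rw [← hopeq]
    exact hIH
  haveI := hXd
  exact Groth.Agent.Lib.Helper11.Chev.isAffine_of_isIntegralHom_of_surjective (f ∣_ Yd)

end Groth.Agent.Lib.Helper16.AffMax
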