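import Mathlib
import Groth.Agent.Lib.Helper16AffMax

set_option autoImplicit false
set_option linter.style.haveILetI false
set_option linter.unusedSectionVars false
universe u

namespace Groth.Agent.Lib.Helper16.AffStrat

open AlgebraicGeometry CategoryTheory Limits TopologicalSpace
open Groth.Agent.Lib.Helper2.Weight
open Groth.Agent.Lib.Helper16.AffMax

theorem isAffineHom_of_isAffine_of_isSeparated {X Y : Scheme.{u}} (f : X ⟶ Y) [IsAffine X]
    [Y.IsSeparated] : IsAffineHom f := by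
  haveI : IsAffineHom (f ≫ terminal.from Y) := by
    rw [terminal.comp_from]
    infer_instance
  exact IsAffineHom.of_comp f (terminal.from Y)

set_option backward.isDefEq.respectTransparency.types false in
/-- for an affine locally quasi-finite morphism, the locus where the fibre integral of a positive
weighting attains the bound `d` is an open subscheme whose inclusion is affine. -/
theorem affineHomMax {X Y : Scheme.{u}} (f : X ⟶ Y) [IsAffineHom f] [LocallyQuasiFinite f]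
    [LocallyOfFiniteType f] (w : X → ℤ) (hw : MoreMor.IsWeighting f w) (hpos : ∀ x, 0 < w x)
    (d : ℕ) (hmax : ∀ y, MoreMor.fibreIntegral f w y ≤ d)
    (hO : IsOpen {y : Y | MoreMor.fibreIntegral f w y = d}) :
    IsAffineHom (Scheme.Opens.ι (X := Y) ⟨{y : Y | MoreMor.fibreIntegral f w y = d}, hO⟩) := by
  set Yd : Y.Opens := ⟨{y : Y | MoreMor.fibreIntegral f w y = d}, hO⟩ with hYd
  have hfin : ∀ y, (f ⁻¹' {y}).Finite := fun y => Scheme.Hom.finite_preimage_singleton f y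
  apply isAffineHom_of_forall_exists_isAffineOpen
  intro y
  obtain ⟨U, hU, hyU⟩ : ∃ U : Y.Opens, IsAffineOpen U ∧ y ∈ U := by
    obtain ⟨_, ⟨U, hU, rfl⟩, hyU, -⟩ :=
      Y.isBasis_affineOpens.exists_subset_of_mem_open (Set.mem_univ y) isOpen_univ
    exact ⟨U, hU, hyU⟩
  refine ⟨U, hyU, hU, ?_⟩
  haveI : IsAffine U.toScheme := hU
  haveI : IsAffine (f ⁻¹ᵁ U).toScheme := hU.preimage f
  have hpb : IsPullback (f ⁻¹ᵁ U).ι (f ∣_ U) f U.ι := (isPullback_morphismRestrict f U).flip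
  haveI : LocallyQuasiFinite (f ∣_ U) :=
    MorphismProperty.of_isPullback (P := @LocallyQuasiFinite) hpb inferInstance
  haveI : LocallyOfFiniteType (f ∣_ U) :=
    MorphismProperty.of_isPullback (P := @LocallyOfFiniteType) hpb inferInstance
  have hwU : MoreMor.IsWeighting (f ∣_ U) (w ∘ (f ⁻¹ᵁ U).ι) :=
    Groth.Agent.S1419.result f w hw (f ∣_ U) (f ⁻¹ᵁ U).ι U.ι hpb
  have hbc : ∀ u, MoreMor.fibreIntegral (f ∣_ U) (w ∘ (f ⁻¹ᵁ U).ι) u =
      MoreMor.fibreIntegral f w (U.ι u) := fun u =>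
    (fibreIntegral_baseChange f hfin (f ∣_ U) (f ⁻¹ᵁ U).ι U.ι hpb w u).1
  have hseteq : {u : U.toScheme | MoreMor.fibreIntegral (f ∣_ U) (w ∘ (f ⁻¹ᵁ U).ι) u = d} =
      ((U.ι ⁻¹ᵁ Yd : U.toScheme.Opens) : Set U.toScheme) := by
    ext u
    change _ = _ ↔ MoreMor.fibreIntegral f w (U.ι u) = d
    rw [hbc]
  have hOU : IsOpen {u : U.toScheme | MoreMor.fibreIntegral (f ∣_ U) (w ∘ (f ⁻¹ᵁ U).ι) u = d} := by
    rw [hseteq]
    exact (U.ι ⁻¹ᵁ Yd).2
  have h1 := affineMax d (f ⁻¹ᵁ U).toScheme U.toScheme (f ∣_ U) (w ∘ (f ⁻¹ᵁ U).ι) hwU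
    (fun x => hpos _) (fun u => by rw [hbc]; exact hmax _) hOU
  have hopeq : (⟨_, hOU⟩ : U.toScheme.Opens) = U.ι ⁻¹ᵁ Yd := Opens.ext hseteq
  rw [hopeq] at h1
  have h2 : IsAffineOpen (U.ι ''ᵁ (U.ι ⁻¹ᵁ Yd)) := h1.image_of_isOpenImmersion U.ι
  rw [Scheme.Hom.image_preimage_eq_opensRange_inf, Scheme.Opens.opensRange_ι] at h2
  rw [← Scheme.Hom.isAffineOpen_iff_of_isOpenImmersion Yd.ι,
    Scheme.Hom.image_preimage_eq_opensRange_inf, Scheme.Opens.opensRange_ι, inf_comm]
  exact h2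

set_option backward.isDefEq.respectTransparency.types false in
/-- a level set of the fibre integral is the image of an affine immersion from an affine scheme. -/
theorem level {X Y : Scheme.{u}} (f : X ⟶ Y) [IsAffine X] [Y.IsSeparated] [LocallyQuasiFinite f]
    [LocallyOfFiniteType f] (w : X → ℤ) (hw : MoreMor.IsWeighting f w) (hpos : ∀ x, 0 < w x)
    (r : ℤ) (hr1 : 1 ≤ r) (hclosed : IsClosed {y : Y | MoreMor.fibreIntegral f w y ≤ r})
    (hopen : IsOpen {y : Y | r ≤ MoreMor.fibreIntegral f w y}) :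
    ∃ (Z : Scheme.{u}) (ι : Z ⟶ Y), IsImmersion ι ∧ IsAffine Z ∧ IsAffineHom ι ∧
      Set.range ι = {y : Y | MoreMor.fibreIntegral f w y = r} := by
  haveI : IsAffineHom f := isAffineHom_of_isAffine_of_isSeparated f
  have hfin : ∀ y, (f ⁻¹' {y}).Finite := fun y => Scheme.Hom.finite_preimage_singleton f y
  obtain ⟨n, rfl⟩ : ∃ n : ℕ, r = n := ⟨r.toNat, by omega⟩
  let C : Closeds Y := ⟨{y : Y | MoreMor.fibreIntegral f w y ≤ (n : ℤ)}, hclosed⟩
  let J := Scheme.IdealSheafData.vanishingIdeal C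
  let ιZ : J.subscheme ⟶ Y := J.subschemeι
  have hrange : Set.range ιZ = {y : Y | MoreMor.fibreIntegral f w y ≤ (n : ℤ)} := by
    rw [Scheme.IdealSheafData.range_subschemeι]
    simp [J, C]
  set fZ := pullback.snd f ιZ with hfZ
  haveI : IsAffine (pullback f ιZ) := inferInstance
  haveI : IsAffineHom fZ :=
    MorphismProperty.of_isPullback (P := @IsAffineHom) (IsPullback.of_hasPullback f ιZ) inferInstance
  haveI : LocallyQuasiFinite fZ := inferInstance
  haveI : LocallyOfFiniteType fZ := inferInstance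
  have hfinZ : ∀ z, (fZ ⁻¹' {z}).Finite := fun z => Scheme.Hom.finite_preimage_singleton fZ z
  set wZ : ↥(pullback f ιZ) → ℤ := w ∘ pullback.fst f ιZ with hwZdef
  have hwZ : MoreMor.IsWeighting fZ wZ :=
    Groth.Agent.S1419.result f w hw fZ (pullback.fst f ιZ) ιZ (IsPullback.of_hasPullback f ιZ)
  have hposZ : ∀ x, 0 < wZ x := fun x => hpos _
  have hbc : ∀ z, MoreMor.fibreIntegral fZ wZ z = MoreMor.fibreIntegral f w (ιZ z) := fun z =>
    (fibreIntegral_baseChange f hfin fZ (pullback.fst f ιZ) ιZ (IsPullback.of_hasPullback f ιZ)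
      w z).1
  have hmaxZ : ∀ z, MoreMor.fibreIntegral fZ wZ z ≤ (n : ℤ) := by
    intro z
    rw [hbc]
    have : ιZ z ∈ Set.range ιZ := ⟨z, rfl⟩
    rw [hrange] at this
    exact this
  have hTset : {z : J.subscheme | MoreMor.fibreIntegral fZ wZ z = (n : ℤ)} =
      ιZ ⁻¹' {y : Y | (n : ℤ) ≤ MoreMor.fibreIntegral f w y} := by
    ext z
    change _ = _ ↔ (n : ℤ) ≤ MoreMor.fibreIntegral f w (ιZ z)
    rw [← hbc]
    constructor
    · intro h
      exact h.ge
    · intro h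
      exact le_antisymm (hmaxZ z) h
  have hOT : IsOpen {z : J.subscheme | MoreMor.fibreIntegral fZ wZ z = (n : ℤ)} := by
    rw [hTset]
    exact hopen.preimage ιZ.continuous
  set T : J.subscheme.Opens := ⟨{z : J.subscheme | MoreMor.fibreIntegral fZ wZ z = (n : ℤ)}, hOT⟩
    with hT
  haveI hTaff : IsAffineHom T.ι := affineHomMax fZ wZ hwZ hposZ n hmaxZ hOT
  have hrangeT : Set.range (T.ι ≫ ιZ) = {y : Y | MoreMor.fibreIntegral f w y = (n : ℤ)} := by
    ext y
    constructor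
    · rintro ⟨t, rfl⟩
      change MoreMor.fibreIntegral f w (ιZ (T.ι t)) = (n : ℤ)
      rw [← hbc]
      have : T.ι t ∈ Set.range T.ι := ⟨t, rfl⟩
      rw [Scheme.Opens.range_ι] at this
      exact this
    · intro hy
      have hyC : y ∈ Set.range ιZ := by
        rw [hrange]
        exact (le_of_eq hy : MoreMor.fibreIntegral f w y ≤ (n : ℤ))
      obtain ⟨z, rfl⟩ := hyC
      have hzT : z ∈ Set.range T.ι := by
        rw [Scheme.Opens.range_ι]
        change MoreMor.fibreIntegral fZ wZ z = (n : ℤ)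
        rw [hbc]
        exact hy
      obtain ⟨t, rfl⟩ := hzT
      exact ⟨t, rfl⟩
  refine ⟨T.toScheme, T.ι ≫ ιZ, inferInstance, ?_, inferInstance, hrangeT⟩
  -- T is affine, by Chevalley
  by_cases hatt : ∃ z, MoreMor.fibreIntegral fZ wZ z = (n : ℤ)
  swap
  · have hTbot : T = ⊥ := by
      ext z
      constructor
      · intro h
        exact (hatt ⟨z, h⟩).elim
      · intro h
        exact h.elim
    have := isAffineOpen_bot J.subscheme
    rw [← hTbot] at this
    exact this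
  haveI : IsSeparated fZ := inferInstance
  obtain ⟨hOT', hF⟩ := Groth.Agent.S1428.result fZ hfinZ wZ hwZ hposZ (n : ℤ) hmaxZ hatt
  haveI hF' : IsFinite (fZ ∣_ T) := hF
  have hsurj : Surjective (fZ ∣_ T) := ⟨fun t => by
    have ht : MoreMor.fibreIntegral fZ wZ t.1 = (n : ℤ) := t.2
    have hne : MoreMor.fibreIntegral fZ wZ t.1 ≠ 0 := by omega
    rw [fibreIntegral_eq_fI_univ] at hne
    obtain ⟨x, -, hx⟩ := exists_mem_of_fI_pos fZ wZ Set.univ t.1 hne
    have hxm : x ∈ fZ ⁻¹ᵁ T := by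
      change fZ x ∈ T
      rw [hx]
      exact t.2
    refine ⟨⟨x, hxm⟩, Subtype.ext ?_⟩
    rw [morphismRestrict_base_coe]
    exact hx⟩
  haveI : IsAffineHom (fZ ⁻¹ᵁ T).ι :=
    MorphismProperty.of_isPullback (P := @IsAffineHom) (isPullback_morphismRestrict fZ T) hTaff
  haveI : IsAffine (fZ ⁻¹ᵁ T).toScheme := isAffine_of_isAffineHom (fZ ⁻¹ᵁ T).ι
  exact Groth.Agent.Lib.Helper11.Chev.isAffine_of_isIntegralHom_of_surjective (fZ ∣_ T)

end Groth.Agent.Lib.Helper16.AffStrat
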