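import Mathlib

set_option autoImplicit false
set_option linter.style.haveILetI false
set_option linter.unusedSectionVars false

universe u

namespace Groth.Agent.Lib.Helper16Node

open MvPowerSeries

variable {k : Type u} [Field k]

/-- exponent `(i, j)` -/
noncomputable def E (i j : ℕ) : Fin 2 →₀ ℕ := Finsupp.single 0 i + Finsupp.single 1 j

@[simp] lemma E_zero (i j : ℕ) : (E i j) 0 = i := by simp [E]
@[simp] lemma E_one (i j : ℕ) : (E i j) 1 = j := by simp [E]

lemma E_eta (m : Fin 2 →₀ ℕ) : E (m 0) (m 1) = m := by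
  ext t
  fin_cases t <;> simp [E]

lemma E_zero_zero : E 0 0 = 0 := by simp [E]

/-- coefficient at `(i, j)` -/
noncomputable def c (f : MvPowerSeries (Fin 2) k) (i j : ℕ) : k := MvPowerSeries.coeff (E i j) f

lemma c_ext {f g : MvPowerSeries (Fin 2) k} (h : ∀ i j, c f i j = c g i j) : f = g := by
  ext m
  rw [← E_eta m]
  exact h _ _

/-- power series with given coefficients -/
def mkS (φ : ℕ → ℕ → k) : MvPowerSeries (Fin 2) k := fun m => φ (m 0) (m 1)

@[simp] lemma c_mkS (φ : ℕ → ℕ → k) (i j : ℕ) : c (mkS φ) i j = φ i j := by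
  simp only [c, mkS, MvPowerSeries.coeff_apply, E_zero, E_one]

lemma c_add (f g : MvPowerSeries (Fin 2) k) (i j : ℕ) : c (f + g) i j = c f i j + c g i j := by
  simp [c]

lemma c_sub (f g : MvPowerSeries (Fin 2) k) (i j : ℕ) : c (f - g) i j = c f i j - c g i j := by
  simp [c]

lemma c_smul (a : k) (f : MvPowerSeries (Fin 2) k) (i j : ℕ) : c (a • f) i j = a * c f i j := by
  simp [c]

lemma c_X0_pow_mul (e : ℕ) (g : MvPowerSeries (Fin 2) k) (i j : ℕ) :
    c ((X 0 : MvPowerSeries (Fin 2) k) ^ e * g) i j = if e ≤ i then c g (i - e) j else 0 := by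
  simp only [c]
  rw [X_pow_eq, coeff_monomial_mul]
  have h1 : (Finsupp.single (0 : Fin 2) e ≤ E i j) ↔ e ≤ i := by
    rw [Finsupp.le_def]
    constructor
    · intro h
      simpa using h 0
    · intro h t
      fin_cases t <;> simp [h]
  have h2 : E i j - Finsupp.single (0 : Fin 2) e = E (i - e) j := by
    ext t
    fin_cases t <;> simp [E]
  by_cases h : e ≤ i
  · rw [if_pos (h1.2 h), if_pos h, h2, one_mul]
  · rw [if_neg (fun h' => h (h1.1 h')), if_neg h]

lemma c_X1_pow_mul (e : ℕ) (g : MvPowerSeries (Fin 2) k) (i j : ℕ) :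
    c ((X 1 : MvPowerSeries (Fin 2) k) ^ e * g) i j = if e ≤ j then c g i (j - e) else 0 := by
  simp only [c]
  rw [X_pow_eq, coeff_monomial_mul]
  have h1 : (Finsupp.single (1 : Fin 2) e ≤ E i j) ↔ e ≤ j := by
    rw [Finsupp.le_def]
    constructor
    · intro h
      simpa using h 1
    · intro h t
      fin_cases t <;> simp [h]
  have h2 : E i j - Finsupp.single (1 : Fin 2) e = E i (j - e) := by
    ext t
    fin_cases t <;> simp [E]
  by_cases h : e ≤ j
  · rw [if_pos (h1.2 h), if_pos h, h2, one_mul]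
  · rw [if_neg (fun h' => h (h1.1 h')), if_neg h]

lemma c_XY_mul (g : MvPowerSeries (Fin 2) k) (i j : ℕ) :
    c ((X 0 : MvPowerSeries (Fin 2) k) * X 1 * g) i j
      = if 1 ≤ i ∧ 1 ≤ j then c g (i - 1) (j - 1) else 0 := by
  have : (X 0 : MvPowerSeries (Fin 2) k) * X 1 * g = X 0 ^ 1 * (X 1 ^ 1 * g) := by ring
  rw [this, c_X0_pow_mul]
  by_cases hi : 1 ≤ i
  · rw [if_pos hi, c_X1_pow_mul]
    by_cases hj : 1 ≤ j
    · rw [if_pos hj, if_pos ⟨hi, hj⟩]
    · rw [if_neg hj, if_neg (fun h => hj h.2)]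
  · rw [if_neg hi, if_neg (fun h => hi h.1)]

lemma c_one (i j : ℕ) : c (1 : MvPowerSeries (Fin 2) k) i j = if i = 0 ∧ j = 0 then 1 else 0 := by
  simp only [c]
  rw [MvPowerSeries.coeff_one]
  by_cases h : i = 0 ∧ j = 0
  · rw [if_pos h, if_pos]
    rw [h.1, h.2, E_zero_zero]
  · rw [if_neg h, if_neg]
    intro h0
    apply h
    have h1 := congrArg (fun m : Fin 2 →₀ ℕ => m 0) h0
    have h2 := congrArg (fun m : Fin 2 →₀ ℕ => m 1) h0
    simp only [E_zero, E_one, Finsupp.coe_zero, Pi.zero_apply] at h1 h2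
    exact ⟨h1, h2⟩

lemma isUnit_of_c00 (f : MvPowerSeries (Fin 2) k) (h : c f 0 0 ≠ 0) : IsUnit f := by
  rw [MvPowerSeries.isUnit_iff_constantCoeff]
  rw [← MvPowerSeries.coeff_zero_eq_constantCoeff_apply, ← E_zero_zero]
  exact isUnit_iff_ne_zero.2 h

/-! ### The ideal `(xy, x^a, y^b)` -/

/-- the ideal `(xy, x^a, y^b)` -/
noncomputable def J0 (k : Type u) [Field k] (a b : ℕ) : Ideal (MvPowerSeries (Fin 2) k) :=
  Ideal.span {X 0 * X 1, X 0 ^ a, X 1 ^ b}

/-- coordinates of the quotient by `J0`. -/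
noncomputable def T0 (k : Type u) [Field k] (a b : ℕ) :
    MvPowerSeries (Fin 2) k →ₗ[k] (Fin a → k) × (Fin (b - 1) → k) :=
  LinearMap.prod (LinearMap.pi fun i : Fin a => MvPowerSeries.coeff (E (i : ℕ) 0))
    (LinearMap.pi fun j : Fin (b - 1) => MvPowerSeries.coeff (E 0 ((j : ℕ) + 1)))

lemma T0_fst (a b : ℕ) (f : MvPowerSeries (Fin 2) k) (i : Fin a) :
    (T0 k a b f).1 i = c f (i : ℕ) 0 := rfl

lemma T0_snd (a b : ℕ) (f : MvPowerSeries (Fin 2) k) (j : Fin (b - 1)) :
    (T0 k a b f).2 j = c f 0 ((j : ℕ) + 1) := rfl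

lemma T0_eq_zero_iff (a b : ℕ) (f : MvPowerSeries (Fin 2) k) :
    T0 k a b f = 0 ↔ (∀ i, i < a → c f i 0 = 0) ∧ (∀ j, 1 ≤ j → j < b → c f 0 j = 0) := by
  constructor
  · intro h
    have h1 := congrArg Prod.fst h
    have h2 := congrArg Prod.snd h
    constructor
    · intro i hi
      have := congrFun h1 ⟨i, hi⟩
      rw [T0_fst] at this
      exact this
    · intro j hj1 hjb
      have := congrFun h2 ⟨j - 1, by omega⟩
      rw [T0_snd] at this
      simp only at this
      rw [show j - 1 + 1 = j by omega] at this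
      exact this
  · rintro ⟨h1, h2⟩
    apply Prod.ext
    · funext i
      rw [T0_fst]
      exact h1 i i.2
    · funext j
      rw [T0_snd]
      exact h2 ((j : ℕ) + 1) (by omega) (by omega)

lemma mem_J0_iff (a b : ℕ) (ha : 1 ≤ a) (hb : 1 ≤ b) (f : MvPowerSeries (Fin 2) k) :
    f ∈ J0 k a b ↔ T0 k a b f = 0 := by
  rw [T0_eq_zero_iff]
  constructor
  · intro hf
    rw [J0, Ideal.mem_span_insert] at hf
    obtain ⟨g₁, z, hz, rfl⟩ := hf
    rw [Ideal.mem_span_pair] at hz
    obtain ⟨g₂, g₃, rfl⟩ := hz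
    have e1 : g₁ * (X 0 * X 1) = X 0 * X 1 * g₁ := by ring
    have e2 : g₂ * X 0 ^ a = X 0 ^ a * g₂ := by ring
    have e3 : g₃ * X 1 ^ b = X 1 ^ b * g₃ := by ring
    constructor
    · intro i hi
      rw [c_add, c_add, e1, e2, e3, c_XY_mul, c_X0_pow_mul, c_X1_pow_mul,
        if_neg (by omega), if_neg (by omega), if_neg (by omega)]
      simp
    · intro j hj1 hjb
      rw [c_add, c_add, e1, e2, e3, c_XY_mul, c_X0_pow_mul, c_X1_pow_mul,
        if_neg (by omega), if_neg (by omega), if_neg (by omega)]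
      simp
  · rintro ⟨h1, h2⟩
    have hdec : f = X 0 * X 1 * mkS (fun i j => c f (i+1) (j+1))
        + X 0 ^ a * mkS (fun i j => if j = 0 then c f (i+a) 0 else 0)
        + X 1 ^ b * mkS (fun i j => if i = 0 then c f 0 (j+b) else 0) := by
      apply c_ext
      intro i j
      rw [c_add, c_add, c_XY_mul, c_X0_pow_mul, c_X1_pow_mul]
      simp only [c_mkS]
      rcases Nat.eq_zero_or_pos j with hj | hj
      · subst hj
        rw [if_neg (by omega), if_neg (by omega : ¬ b ≤ 0)]
        by_cases hi : a ≤ i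
        · rw [if_pos hi, if_pos rfl, show i - a + a = i by omega]
          simp
        · rw [if_neg hi, h1 i (by omega)]
          simp
      · rcases Nat.eq_zero_or_pos i with hi | hi
        · subst hi
          rw [if_neg (by omega), if_neg (by omega : ¬ a ≤ 0)]
          by_cases hjb : b ≤ j
          · rw [if_pos hjb, if_pos rfl, show j - b + b = j by omega]
            simp
          · rw [if_neg hjb, h2 j hj (by omega)]
            simp
        · rw [if_pos ⟨hi, hj⟩, show i - 1 + 1 = i by omega, show j - 1 + 1 = j by omega]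
          have e1 : (if a ≤ i then (if j = 0 then c f (i - a + a) 0 else 0) else 0) = (0 : k) := by
            split_ifs <;> first | rfl | omega
          have e2 : (if b ≤ j then (if i = 0 then c f 0 (j - b + b) else 0) else 0) = (0 : k) := by
            split_ifs <;> first | rfl | omega
          rw [e1, e2]
          simp
    rw [hdec, J0]
    refine Ideal.add_mem _ (Ideal.add_mem _ ?_ ?_) ?_
    · exact Ideal.mul_mem_right _ _ (Ideal.subset_span (by simp))
    · exact Ideal.mul_mem_right _ _ (Ideal.subset_span (by simp))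
    · exact Ideal.mul_mem_right _ _ (Ideal.subset_span (by simp))

lemma T0_surjective (a b : ℕ) : Function.Surjective (T0 k a b) := by
  rintro ⟨v, w⟩
  refine ⟨mkS (fun i j => if j = 0 then (if h : i < a then v ⟨i, h⟩ else 0)
    else if i = 0 then (if h : j - 1 < b - 1 then w ⟨j - 1, h⟩ else 0) else 0), ?_⟩
  apply Prod.ext
  · funext i
    rw [T0_fst]
    show c _ (i : ℕ) 0 = v i
    rw [c_mkS, if_pos rfl, dif_pos i.2]
  · funext j
    rw [T0_snd]
    show c _ 0 ((j : ℕ) + 1) = w j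
    rw [c_mkS, if_neg (by omega), if_pos rfl]
    have : (j : ℕ) + 1 - 1 < b - 1 := by have := j.2; omega
    rw [dif_pos this]
    congr 1

/-! ### Extracting pure powers -/

lemma X0_pow_mem (J : Ideal (MvPowerSeries (Fin 2) k))
    (hxy : (X 0 * X 1 : MvPowerSeries (Fin 2) k) ∈ J) (f : MvPowerSeries (Fin 2) k) (hf : f ∈ J)
    (e : ℕ) (h0 : ∀ i, i < e → c f i 0 = 0) (he : c f e 0 ≠ 0) :
    (X 0 : MvPowerSeries (Fin 2) k) ^ (e + 1) ∈ J := by
  set w : MvPowerSeries (Fin 2) k := mkS (fun i j => if j = 0 then c f (i+e) 0 else 0) with hw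
  set g : MvPowerSeries (Fin 2) k := mkS (fun i j => c f i (j+1)) with hg
  have hdec : X 0 ^ 1 * f = X 0 ^ (e+1) * w + X 0 * X 1 * g := by
    apply c_ext
    intro i j
    rw [c_add, c_X0_pow_mul, c_X0_pow_mul, c_XY_mul, hw, hg]
    simp only [c_mkS]
    rcases Nat.eq_zero_or_pos i with hi | hi
    · subst hi
      rw [if_neg (by omega), if_neg (by omega), if_neg (by omega)]
      simp
    · rw [if_pos (by omega : 1 ≤ i)]
      rcases Nat.eq_zero_or_pos j with hj | hj
      · subst hj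
        rw [if_neg (by omega : ¬ (1 ≤ i ∧ 1 ≤ 0)), if_pos rfl]
        by_cases hie : e + 1 ≤ i
        · rw [if_pos hie, show i - (e+1) + e = i - 1 by omega]
          simp
        · rw [if_neg hie, h0 (i-1) (by omega)]
          simp
      · have e1 : (if e + 1 ≤ i then (if j = 0 then c f (i - (e + 1) + e) 0 else 0) else 0)
            = (0 : k) := by
          split_ifs <;> first | rfl | omega
        rw [e1, if_pos ⟨by omega, by omega⟩, show j - 1 + 1 = j by omega, zero_add]
  have hwu : IsUnit w := by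
    apply isUnit_of_c00
    rw [hw, c_mkS, if_pos rfl, zero_add]
    exact he
  have hmem : X 0 ^ (e+1) * w ∈ J := by
    have : X 0 ^ (e+1) * w = X 0 ^ 1 * f - X 0 * X 1 * g := by rw [hdec]; ring
    rw [this]
    exact Ideal.sub_mem _ (Ideal.mul_mem_left _ _ hf) (Ideal.mul_mem_right _ _ hxy)
  exact (Ideal.mul_unit_mem_iff_mem J hwu).1 hmem

lemma X1_pow_mem (J : Ideal (MvPowerSeries (Fin 2) k))
    (hxy : (X 0 * X 1 : MvPowerSeries (Fin 2) k) ∈ J) (f : MvPowerSeries (Fin 2) k) (hf : f ∈ J)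
    (e : ℕ) (h0 : ∀ j, j < e → c f 0 j = 0) (he : c f 0 e ≠ 0) :
    (X 1 : MvPowerSeries (Fin 2) k) ^ (e + 1) ∈ J := by
  set w : MvPowerSeries (Fin 2) k := mkS (fun i j => if i = 0 then c f 0 (j+e) else 0) with hw
  set g : MvPowerSeries (Fin 2) k := mkS (fun i j => c f (i+1) j) with hg
  have hdec : X 1 ^ 1 * f = X 1 ^ (e+1) * w + X 0 * X 1 * g := by
    apply c_ext
    intro i j
    rw [c_add, c_X1_pow_mul, c_X1_pow_mul, c_XY_mul, hw, hg]
    simp only [c_mkS]
    rcases Nat.eq_zero_or_pos j with hj | hj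
    · subst hj
      rw [if_neg (by omega), if_neg (by omega), if_neg (by omega)]
      simp
    · rw [if_pos (by omega : 1 ≤ j)]
      rcases Nat.eq_zero_or_pos i with hi | hi
      · subst hi
        rw [if_neg (by omega : ¬ (1 ≤ 0 ∧ 1 ≤ j)), if_pos rfl]
        by_cases hje : e + 1 ≤ j
        · rw [if_pos hje, show j - (e+1) + e = j - 1 by omega]
          simp
        · rw [if_neg hje, h0 (j-1) (by omega)]
          simp
      · have e1 : (if e + 1 ≤ j then (if i = 0 then c f 0 (j - (e + 1) + e) else 0) else 0)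
            = (0 : k) := by
          split_ifs <;> first | rfl | omega
        rw [e1, if_pos ⟨by omega, by omega⟩, show i - 1 + 1 = i by omega, zero_add]
  have hwu : IsUnit w := by
    apply isUnit_of_c00
    rw [hw, c_mkS, if_pos rfl, zero_add]
    exact he
  have hmem : X 1 ^ (e+1) * w ∈ J := by
    have : X 1 ^ (e+1) * w = X 1 ^ 1 * f - X 0 * X 1 * g := by rw [hdec]; ring
    rw [this]
    exact Ideal.sub_mem _ (Ideal.mul_mem_left _ _ hf) (Ideal.mul_mem_right _ _ hxy)
  exact (Ideal.mul_unit_mem_iff_mem J hwu).1 hmem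

lemma c_X0_pow (e i j : ℕ) :
    c ((X 0 : MvPowerSeries (Fin 2) k) ^ e) i j = if i = e ∧ j = 0 then 1 else 0 := by
  have : (X 0 : MvPowerSeries (Fin 2) k) ^ e = X 0 ^ e * 1 := by ring
  rw [this, c_X0_pow_mul, c_one]
  by_cases h : i = e ∧ j = 0
  · rw [if_pos h, if_pos (by omega), if_pos ⟨by omega, h.2⟩]
  · rw [if_neg h]
    split_ifs with h1 h2
    · exfalso; apply h; omega
    · rfl
    · rfl

lemma c_X1_pow (e i j : ℕ) :
    c ((X 1 : MvPowerSeries (Fin 2) k) ^ e) i j = if i = 0 ∧ j = e then 1 else 0 := by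
  have : (X 1 : MvPowerSeries (Fin 2) k) ^ e = X 1 ^ e * 1 := by ring
  rw [this, c_X1_pow_mul, c_one]
  by_cases h : i = 0 ∧ j = e
  · rw [if_pos h, if_pos (by omega), if_pos ⟨h.1, by omega⟩]
  · rw [if_neg h]
    split_ifs with h1 h2
    · exfalso; apply h; omega
    · rfl
    · rfl

lemma c_C_mul (α : k) (g : MvPowerSeries (Fin 2) k) (i j : ℕ) :
    c (C α * g) i j = α * c g i j := by
  simp only [c]
  rw [MvPowerSeries.coeff_C_mul]

lemma c_sum {ι : Type*} (s : Finset ι) (F : ι → MvPowerSeries (Fin 2) k) (i j : ℕ) :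
    c (∑ t ∈ s, F t) i j = ∑ t ∈ s, c (F t) i j := by
  simp only [c]
  rw [map_sum]

lemma smul_mem_ideal (J : Ideal (MvPowerSeries (Fin 2) k)) (a : k) {f : MvPowerSeries (Fin 2) k}
    (hf : f ∈ J) : a • f ∈ J := by
  have : a • f = C a * f := by
    apply c_ext
    intro i j
    rw [c_smul, c_C_mul]
  rw [this]
  exact Ideal.mul_mem_left _ _ hf

lemma mem_of_smul_mem (J : Ideal (MvPowerSeries (Fin 2) k)) (a : k) (ha : a ≠ 0)
    {f : MvPowerSeries (Fin 2) k} (hf : a • f ∈ J) : f ∈ J := by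
  have := smul_mem_ideal J a⁻¹ hf
  rwa [smul_smul, inv_mul_cancel₀ ha, one_smul] at this

lemma exists_X0_pow_mem (J : Ideal (MvPowerSeries (Fin 2) k))
    (hxy : (X 0 * X 1 : MvPowerSeries (Fin 2) k) ∈ J)
    [Module.Finite k (MvPowerSeries (Fin 2) k ⧸ J)] :
    ∃ e, (X 0 : MvPowerSeries (Fin 2) k) ^ e ∈ J := by
  classical
  obtain ⟨n, hn⟩ : ∃ n, Module.finrank k (MvPowerSeries (Fin 2) k ⧸ J) = n := ⟨_, rfl⟩
  let v : Fin (n+1) → (MvPowerSeries (Fin 2) k ⧸ J) := fun i =>
    (Ideal.Quotient.mkₐ k J) (X 0 ^ (i : ℕ))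
  have hnot : ¬ LinearIndependent k v := by
    intro h
    have := h.fintype_card_le_finrank
    rw [hn, Fintype.card_fin] at this
    omega
  obtain ⟨g, hsum, i₀, hi₀⟩ := Fintype.not_linearIndependent_iff.1 hnot
  let p : MvPowerSeries (Fin 2) k := ∑ i : Fin (n+1), g i • X 0 ^ (i : ℕ)
  have hp : p ∈ J := by
    apply Ideal.Quotient.eq_zero_iff_mem.1
    rw [← Ideal.Quotient.mkₐ_eq_mk k]
    simp only [p]
    rw [map_sum]
    simp only [map_smul]
    exact hsum
  have hcp : c p (i₀ : ℕ) 0 = g i₀ := by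
    simp only [p]
    rw [c_sum, Finset.sum_eq_single i₀]
    · rw [c_smul, c_X0_pow, if_pos ⟨rfl, rfl⟩, mul_one]
    · intro t _ ht
      rw [c_smul, c_X0_pow, if_neg, mul_zero]
      rintro ⟨h1, _⟩
      exact ht (Fin.ext h1.symm)
    · intro h
      exact absurd (Finset.mem_univ _) h
  have hex : ∃ e, c p e 0 ≠ 0 := ⟨i₀, by rw [hcp]; exact hi₀⟩
  refine ⟨Nat.find hex + 1, X0_pow_mem J hxy p hp (Nat.find hex) ?_ (Nat.find_spec hex)⟩
  intro i hi
  by_contra h
  exact Nat.find_min hex hi h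

lemma exists_X1_pow_mem (J : Ideal (MvPowerSeries (Fin 2) k))
    (hxy : (X 0 * X 1 : MvPowerSeries (Fin 2) k) ∈ J)
    [Module.Finite k (MvPowerSeries (Fin 2) k ⧸ J)] :
    ∃ e, (X 1 : MvPowerSeries (Fin 2) k) ^ e ∈ J := by
  classical
  obtain ⟨n, hn⟩ : ∃ n, Module.finrank k (MvPowerSeries (Fin 2) k ⧸ J) = n := ⟨_, rfl⟩
  let v : Fin (n+1) → (MvPowerSeries (Fin 2) k ⧸ J) := fun i =>
    (Ideal.Quotient.mkₐ k J) (X 1 ^ (i : ℕ))
  have hnot : ¬ LinearIndependent k v := by
    intro h
    have := h.fintype_card_le_finrank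
    rw [hn, Fintype.card_fin] at this
    omega
  obtain ⟨g, hsum, i₀, hi₀⟩ := Fintype.not_linearIndependent_iff.1 hnot
  let p : MvPowerSeries (Fin 2) k := ∑ i : Fin (n+1), g i • X 1 ^ (i : ℕ)
  have hp : p ∈ J := by
    apply Ideal.Quotient.eq_zero_iff_mem.1
    rw [← Ideal.Quotient.mkₐ_eq_mk k]
    simp only [p]
    rw [map_sum]
    simp only [map_smul]
    exact hsum
  have hcp : c p 0 (i₀ : ℕ) = g i₀ := by
    simp only [p]
    rw [c_sum, Finset.sum_eq_single i₀]
    · rw [c_smul, c_X1_pow, if_pos ⟨rfl, rfl⟩, mul_one]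
    · intro t _ ht
      rw [c_smul, c_X1_pow, if_neg, mul_zero]
      rintro ⟨_, h1⟩
      exact ht (Fin.ext h1.symm)
    · intro h
      exact absurd (Finset.mem_univ _) h
  have hex : ∃ e, c p 0 e ≠ 0 := ⟨i₀, by rw [hcp]; exact hi₀⟩
  refine ⟨Nat.find hex + 1, X1_pow_mem J hxy p hp (Nat.find hex) ?_ (Nat.find_spec hex)⟩
  intro i hi
  by_contra h
  exact Nat.find_min hex hi h

lemma finrank_quot (J : Ideal (MvPowerSeries (Fin 2) k)) {V : Type*} [AddCommGroup V] [Module k V]
    [FiniteDimensional k V] (S : MvPowerSeries (Fin 2) k →ₗ[k] V) (hS : Function.Surjective S)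
    (hker : ∀ f, S f = 0 → f ∈ J) :
    Module.finrank k (MvPowerSeries (Fin 2) k ⧸ J)
      + Module.finrank k ((J.restrictScalars k).map S) = Module.finrank k V := by
  set N := (J.restrictScalars k).map S with hN
  let q : MvPowerSeries (Fin 2) k →ₗ[k] (V ⧸ N) := N.mkQ.comp S
  have hq : Function.Surjective q := (Submodule.mkQ_surjective N).comp hS
  have hkerq : LinearMap.ker q = J.restrictScalars k := by
    ext f
    simp only [q, LinearMap.mem_ker, LinearMap.comp_apply, Submodule.mkQ_apply,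
      Submodule.Quotient.mk_eq_zero, Submodule.restrictScalars_mem]
    constructor
    · rintro ⟨j, hj, hjf⟩
      have h1 : f - j ∈ J := hker _ (by rw [map_sub, hjf, sub_self])
      have : f = (f - j) + j := by ring
      rw [this]
      exact Ideal.add_mem _ h1 hj
    · intro hf
      exact ⟨f, hf, rfl⟩
  have e1 := q.quotKerEquivOfSurjective hq
  have e2 := Submodule.Quotient.restrictScalarsEquiv k J
  have e3 := Submodule.quotEquivOfEq _ _ hkerq
  have h1 : Module.finrank k (MvPowerSeries (Fin 2) k ⧸ J) = Module.finrank k (V ⧸ N) :=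
    (e2.symm.trans (e3.symm.trans e1)).finrank_eq
  rw [h1]
  exact Submodule.finrank_quotient_add_finrank N

theorem node_classification (J : Ideal (MvPowerSeries (Fin 2) k))
    (hxy : (X 0 * X 1 : MvPowerSeries (Fin 2) k) ∈ J)
    [Module.Finite k (MvPowerSeries (Fin 2) k ⧸ J)] (n : ℕ)
    (hn : Module.finrank k (MvPowerSeries (Fin 2) k ⧸ J) = n) (h2 : 2 ≤ n) :
    ∃ a b : ℕ, 1 ≤ a ∧ 1 ≤ b ∧
      ((a + b = n + 1 ∧
        J = Ideal.span {X 0 * X 1, X 0 ^ a, X 1 ^ b}) ∨
       (a + b = n ∧ ∃ α : k, α ≠ 0 ∧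
        J = Ideal.span {X 0 * X 1, X 0 ^ a + C α * X 1 ^ b})) := by
  classical
  have hJtop : J ≠ ⊤ := by
    rintro rfl
    haveI : Subsingleton (MvPowerSeries (Fin 2) k ⧸ (⊤ : Ideal (MvPowerSeries (Fin 2) k))) :=
      Ideal.Quotient.subsingleton_iff.2 rfl
    have := Module.finrank_zero_of_subsingleton (R := k)
      (M := MvPowerSeries (Fin 2) k ⧸ (⊤ : Ideal (MvPowerSeries (Fin 2) k)))
    omega
  have hc00 : ∀ f ∈ J, c f 0 0 = 0 := by
    intro f hf
    by_contra h
    exact hJtop (Ideal.eq_top_of_isUnit_mem _ hf (isUnit_of_c00 f h))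
  have hexa := exists_X0_pow_mem J hxy
  have hexb := exists_X1_pow_mem J hxy
  obtain ⟨a, hadef⟩ : ∃ a, a = Nat.find hexa := ⟨_, rfl⟩
  obtain ⟨b, hbdef⟩ : ∃ b, b = Nat.find hexb := ⟨_, rfl⟩
  have ha : (X 0 : MvPowerSeries (Fin 2) k) ^ a ∈ J := hadef ▸ Nat.find_spec hexa
  have hb : (X 1 : MvPowerSeries (Fin 2) k) ^ b ∈ J := hbdef ▸ Nat.find_spec hexb
  have hamin : ∀ e, (X 0 : MvPowerSeries (Fin 2) k) ^ e ∈ J → a ≤ e := fun e he =>
    hadef ▸ Nat.find_min' hexa he
  have hbmin : ∀ e, (X 1 : MvPowerSeries (Fin 2) k) ^ e ∈ J → b ≤ e := fun e he =>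
    hbdef ▸ Nat.find_min' hexb he
  have ha1 : 1 ≤ a := by
    by_contra h
    have : a = 0 := by omega
    rw [this, pow_zero] at ha
    exact hJtop ((Ideal.eq_top_iff_one J).2 ha)
  have hb1 : 1 ≤ b := by
    by_contra h
    have : b = 0 := by omega
    rw [this, pow_zero] at hb
    exact hJtop ((Ideal.eq_top_iff_one J).2 hb)
  have hS1 : ∀ f ∈ J, ∀ i, i + 1 < a → c f i 0 = 0 := by
    intro f hf i
    induction i using Nat.strong_induction_on with
    | _ i ih =>
      intro hi
      by_contra h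
      have := hamin _ (X0_pow_mem J hxy f hf i (fun i' hi' => ih i' hi' (by omega)) h)
      omega
  have hS2 : ∀ f ∈ J, ∀ j, j + 1 < b → c f 0 j = 0 := by
    intro f hf j
    induction j using Nat.strong_induction_on with
    | _ j ih =>
      intro hj
      by_contra h
      have := hbmin _ (X1_pow_mem J hxy f hf j (fun j' hj' => ih j' hj' (by omega)) h)
      omega
  have hJ0J : J0 k a b ≤ J := by
    rw [J0, Ideal.span_le]
    intro g hg
    simp only [Set.mem_insert_iff, Set.mem_singleton_iff] at hg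
    rcases hg with rfl | rfl | rfl
    · exact hxy
    · exact ha
    · exact hb
  -- criterion for membership in J0 (for arbitrary g)
  have hcrit : ∀ g : MvPowerSeries (Fin 2) k, (∀ i, i + 1 < a → c g i 0 = 0) →
      (∀ j, 1 ≤ j → j + 1 < b → c g 0 j = 0) → c g (a-1) 0 = 0 → c g 0 (b-1) = 0 →
      g ∈ J0 k a b := by
    intro g h1 h2' h3 h4
    rw [mem_J0_iff a b ha1 hb1, T0_eq_zero_iff]
    constructor
    · intro i hi
      by_cases hi' : i + 1 < a
      · exact h1 i hi'
      · rw [show i = a - 1 by omega]; exact h3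
    · intro j hj1 hjb
      by_cases hj' : j + 1 < b
      · exact h2' j hj1 hj'
      · rw [show j = b - 1 by omega]; exact h4
  have hkey : ∀ f ∈ J, c f (a-1) 0 = 0 → c f 0 (b-1) = 0 → f ∈ J0 k a b := by
    intro f hf h3 h4
    exact hcrit f (hS1 f hf) (fun j _ hj => hS2 f hf j hj) h3 h4
  have hx : ∀ f ∈ J, c f (a-1) 0 ≠ 0 → c f 0 (b-1) ≠ 0 := by
    intro f hf hne h0
    have hmem : f - (c f (a-1) 0) • X 0 ^ (a-1) ∈ J0 k a b := by
      apply hcrit
      · intro i hi
        rw [c_sub, c_smul, c_X0_pow, if_neg (by omega), mul_zero, sub_zero]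
        exact hS1 f hf i hi
      · intro j hj1 hj
        rw [c_sub, c_smul, c_X0_pow, if_neg (by omega), mul_zero, sub_zero]
        exact hS2 f hf j hj
      · rw [c_sub, c_smul, c_X0_pow, if_pos ⟨rfl, rfl⟩, mul_one, sub_self]
      · rw [c_sub, c_smul, c_X0_pow, h0]
        by_cases hb' : b - 1 = 0
        · -- then c f 0 0 = 0 and a - 1 = 0 would be needed; handle generally
          by_cases ha' : 0 = a - 1
          · exfalso
            apply hne
            rw [← ha']
            exact hc00 f hf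
          · rw [if_neg (fun h => ha' h.1), mul_zero, sub_zero]
        · rw [if_neg (fun h => hb' h.2), mul_zero, sub_zero]
    have h1 : (c f (a-1) 0) • (X 0 : MvPowerSeries (Fin 2) k) ^ (a-1) ∈ J := by
      have := Ideal.sub_mem _ hf (hJ0J hmem)
      rwa [sub_sub_cancel] at this
    have h3 := hamin _ (mem_of_smul_mem J _ hne h1)
    omega
  have hy : ∀ f ∈ J, c f 0 (b-1) ≠ 0 → c f (a-1) 0 ≠ 0 := by
    intro f hf hne h0
    have hmem : f - (c f 0 (b-1)) • X 1 ^ (b-1) ∈ J0 k a b := by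
      apply hcrit
      · intro i hi
        rw [c_sub, c_smul, c_X1_pow]
        by_cases hi0 : i = 0
        · subst hi0
          rw [hc00 f hf]
          by_cases hb' : 0 = b - 1
          · exfalso
            apply hne
            rw [← hb']
            exact hc00 f hf
          · rw [if_neg (fun h => hb' h.2), mul_zero, sub_zero]
        · rw [if_neg (fun h => hi0 h.1), mul_zero, sub_zero]
          exact hS1 f hf i hi
      · intro j hj1 hj
        rw [c_sub, c_smul, c_X1_pow, if_neg (by omega), mul_zero, sub_zero]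
        exact hS2 f hf j hj
      · rw [c_sub, c_smul, c_X1_pow, h0]
        by_cases ha' : a - 1 = 0
        · by_cases hb' : 0 = b - 1
          · exfalso
            apply hne
            rw [← hb']
            exact hc00 f hf
          · rw [if_neg (fun h => hb' h.2), mul_zero, sub_zero]
        · rw [if_neg (fun h => ha' h.1), mul_zero, sub_zero]
      · rw [c_sub, c_smul, c_X1_pow, if_pos ⟨rfl, rfl⟩, mul_one, sub_self]
    have h1 : (c f 0 (b-1)) • (X 1 : MvPowerSeries (Fin 2) k) ^ (b-1) ∈ J := by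
      have := Ideal.sub_mem _ hf (hJ0J hmem)
      rwa [sub_sub_cancel] at this
    have h3 := hbmin _ (mem_of_smul_mem J _ hne h1)
    omega
  have hfinV : Module.finrank k ((Fin a → k) × (Fin (b - 1) → k)) = a + (b - 1) := by
    rw [Module.finrank_prod, Module.finrank_fin_fun, Module.finrank_fin_fun]
  have hQ := finrank_quot J (T0 k a b) (T0_surjective a b) (fun f hf =>
    hJ0J ((mem_J0_iff a b ha1 hb1 f).2 hf))
  rw [hn, hfinV] at hQ
  by_cases hcase : ∀ f ∈ J, c f (a-1) 0 = 0
  · -- case 1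
    have hJeq : J = J0 k a b := by
      apply le_antisymm _ hJ0J
      intro f hf
      apply hkey f hf (hcase f hf)
      by_contra h
      exact hy f hf h (hcase f hf)
    have hmap : (J.restrictScalars k).map (T0 k a b) = ⊥ := by
      rw [eq_bot_iff]
      rintro _ ⟨f, hf, rfl⟩
      have hf' : f ∈ J := hf
      rw [hJeq] at hf'
      rw [(mem_J0_iff a b ha1 hb1 f).1 hf']
      exact Submodule.zero_mem _
    rw [hmap, finrank_bot] at hQ
    refine ⟨a, b, ha1, hb1, Or.inl ⟨by omega, ?_⟩⟩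
    rw [hJeq, J0]
  · -- case 2
    simp only [not_forall] at hcase
    obtain ⟨f₀, hf₀, hl₀⟩ := hcase
    have hm₀ := hx f₀ hf₀ hl₀
    have ha2 : 2 ≤ a := by
      by_contra h
      apply hl₀
      rw [show a - 1 = 0 by omega]
      exact hc00 f₀ hf₀
    have hb2 : 2 ≤ b := by
      by_contra h
      apply hm₀
      rw [show b - 1 = 0 by omega]
      exact hc00 f₀ hf₀
    obtain ⟨l₀, hl₀def⟩ : ∃ l₀, l₀ = c f₀ (a-1) 0 := ⟨_, rfl⟩
    obtain ⟨m₀, hm₀def⟩ : ∃ m₀, m₀ = c f₀ 0 (b-1) := ⟨_, rfl⟩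
    rw [← hl₀def] at hl₀
    rw [← hm₀def] at hm₀
    set α : k := m₀ / l₀ with hα
    have hα0 : α ≠ 0 := div_ne_zero hm₀ hl₀
    set u : MvPowerSeries (Fin 2) k := X 0 ^ (a-1) + C α * X 1 ^ (b-1) with hu
    have hcu : ∀ i j, c u i j = (if i = a - 1 ∧ j = 0 then 1 else 0)
        + α * (if i = 0 ∧ j = b - 1 then 1 else 0) := by
      intro i j
      rw [hu, c_add, c_C_mul, c_X0_pow, c_X1_pow]
    have huJ : u ∈ J := by
      have hmem : f₀ - l₀ • u ∈ J0 k a b := by
        apply hcrit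
        · intro i hi
          rw [c_sub, c_smul, hcu, if_neg (by omega), if_neg (by omega), hS1 f₀ hf₀ i hi]
          ring
        · intro j hj1 hj
          rw [c_sub, c_smul, hcu, if_neg (by omega), if_neg (by omega), hS2 f₀ hf₀ j hj]
          ring
        · rw [c_sub, c_smul, hcu, if_pos ⟨rfl, rfl⟩, if_neg (by omega), ← hl₀def]
          ring
        · rw [c_sub, c_smul, hcu, if_neg (by omega), if_pos ⟨rfl, rfl⟩, ← hm₀def, hα]
          field_simp
          ring
      have h1 : l₀ • u ∈ J := by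
        have := Ideal.sub_mem _ hf₀ (hJ0J hmem)
        rwa [sub_sub_cancel] at this
      exact mem_of_smul_mem J _ hl₀ h1
    -- decomposition of J
    have hdecomp : ∀ f ∈ J, f - (c f (a-1) 0) • u ∈ J0 k a b := by
      intro f hf
      have hg : f - (c f (a-1) 0) • u ∈ J := Ideal.sub_mem _ hf (smul_mem_ideal J _ huJ)
      have h3 : c (f - (c f (a-1) 0) • u) (a-1) 0 = 0 := by
        rw [c_sub, c_smul, hcu, if_pos ⟨rfl, rfl⟩, if_neg (by omega)]
        ring
      apply hkey _ hg h3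
      by_contra h
      exact hy _ hg h h3
    set J1 : Ideal (MvPowerSeries (Fin 2) k) := Ideal.span {X 0 * X 1, u} with hJ1
    have hxyJ1 : (X 0 * X 1 : MvPowerSeries (Fin 2) k) ∈ J1 := Ideal.subset_span (by simp)
    have huJ1 : u ∈ J1 := Ideal.subset_span (by simp)
    have hJ0J1 : J0 k a b ≤ J1 := by
      rw [J0, Ideal.span_le]
      intro g hg
      simp only [Set.mem_insert_iff, Set.mem_singleton_iff] at hg
      rcases hg with rfl | rfl | rfl
      · exact hxyJ1
      · have : (X 0 : MvPowerSeries (Fin 2) k) ^ a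
            = X 0 * u - C α * X 1 ^ (b-2) * (X 0 * X 1) := by
          rw [hu]
          have e1 : (X 0 : MvPowerSeries (Fin 2) k) ^ a = X 0 * X 0 ^ (a-1) := by
            rw [← pow_succ', show a - 1 + 1 = a by omega]
          have e2 : (X 1 : MvPowerSeries (Fin 2) k) ^ (b-1) = X 1 ^ (b-2) * X 1 := by
            rw [← pow_succ, show b - 2 + 1 = b - 1 by omega]
          rw [e1, e2]
          ring
        rw [this]
        exact Ideal.sub_mem _ (Ideal.mul_mem_left _ _ huJ1) (Ideal.mul_mem_left _ _ hxyJ1)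
      · have : (X 1 : MvPowerSeries (Fin 2) k) ^ b
            = C α⁻¹ * (X 1 * u - X 0 ^ (a-2) * (X 0 * X 1)) := by
          rw [hu]
          have e1 : (X 1 : MvPowerSeries (Fin 2) k) ^ b = X 1 * X 1 ^ (b-1) := by
            rw [← pow_succ', show b - 1 + 1 = b by omega]
          have e2 : (X 0 : MvPowerSeries (Fin 2) k) ^ (a-1) = X 0 ^ (a-2) * X 0 := by
            rw [← pow_succ, show a - 2 + 1 = a - 1 by omega]
          have e3 : (C α⁻¹ : MvPowerSeries (Fin 2) k) * C α = 1 := by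
            rw [← map_mul, inv_mul_cancel₀ hα0, map_one]
          rw [e1, e2]
          symm
          calc (C α⁻¹ : MvPowerSeries (Fin 2) k) * (X 1 * (X 0 ^ (a - 2) * X 0 + C α * X 1 ^ (b - 1))
              - X 0 ^ (a - 2) * (X 0 * X 1))
              = (C α⁻¹ * C α) * (X 1 * X 1 ^ (b-1)) := by ring
            _ = X 1 * X 1 ^ (b-1) := by rw [e3, one_mul]
        rw [this]
        exact Ideal.mul_mem_left _ _
          (Ideal.sub_mem _ (Ideal.mul_mem_left _ _ huJ1) (Ideal.mul_mem_left _ _ hxyJ1))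
    have hJeq : J = J1 := by
      apply le_antisymm
      · intro f hf
        have h1 := hJ0J1 (hdecomp f hf)
        have : f = (f - (c f (a-1) 0) • u) + (c f (a-1) 0) • u := by ring
        rw [this]
        exact Ideal.add_mem _ h1 (smul_mem_ideal J1 _ huJ1)
      · rw [hJ1, Ideal.span_le]
        intro g hg
        simp only [Set.mem_insert_iff, Set.mem_singleton_iff] at hg
        rcases hg with rfl | rfl
        · exact hxy
        · exact huJ
    have hmap : (J.restrictScalars k).map (T0 k a b) = Submodule.span k {T0 k a b u} := by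
      apply le_antisymm
      · rintro _ ⟨f, hf, rfl⟩
        have hf' : f ∈ J := hf
        have h1 := (mem_J0_iff a b ha1 hb1 _).1 (hdecomp f hf')
        rw [map_sub, map_smul, sub_eq_zero] at h1
        rw [h1]
        exact Submodule.smul_mem _ _ (Submodule.mem_span_singleton_self _)
      · rw [Submodule.span_singleton_le_iff_mem]
        exact ⟨u, huJ, rfl⟩
    have hTu : T0 k a b u ≠ 0 := by
      intro h
      have := ((T0_eq_zero_iff a b u).1 h).1 (a-1) (by omega)
      rw [hcu, if_pos ⟨rfl, rfl⟩, if_neg (by omega)] at this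
      simp at this
    rw [hmap, finrank_span_singleton hTu] at hQ
    refine ⟨a - 1, b - 1, by omega, by omega, Or.inr ⟨by omega, α, hα0, ?_⟩⟩
    rw [hJeq, hJ1, hu]

end Groth.Agent.Lib.Helper16Node
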