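import Mathlib.RingTheory.Length
import Mathlib.RingTheory.FiniteLength
import Mathlib.RingTheory.SimpleModule.Basic
import Mathlib.RingTheory.LocalRing.MaximalIdeal.Basic
import Mathlib.RingTheory.LocalRing.ResidueField.Basic
import Mathlib.RingTheory.IntegralClosure.IsIntegralClosure.Basic

set_option autoImplicit false
universe u v w

namespace Groth.Agent.Lib.Helper19

section Length

variable {Λ : Type u} {k : Type v} [CommRing Λ] [Field k] [Algebra Λ k]

/-- A simple module over a local ring `A` with residue field `k` (through a surjective algebra map) is
`A`-linearly isomorphic to `k`. -/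
theorem simple_equiv_residue (A : Type w) [CommRing A] [IsLocalRing A] [Algebra A k]
    (hres : Function.Surjective (algebraMap A k))
    (M : Type*) [AddCommGroup M] [Module A M] [IsSimpleModule A M] : Nonempty (M ≃ₗ[A] k) := by
  obtain ⟨m, hm, ⟨e⟩⟩ := (isSimpleModule_iff_quot_maximal (R := A) (M := M)).1 inferInstance
  have hm' : m = IsLocalRing.maximalIdeal A := IsLocalRing.eq_maximalIdeal hm
  have hker : RingHom.ker (algebraMap A k) = m := by
    rw [hm']
    exact IsLocalRing.eq_maximalIdeal (RingHom.ker_isMaximal_of_surjective _ hres)
  let f : A →ₗ[A] k := Algebra.linearMap A k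
  have hf : Function.Surjective f := hres
  have hkerf : LinearMap.ker f = m := by
    rw [← hker]; ext x; simp [f, RingHom.mem_ker]
  exact ⟨e.trans ((Submodule.quotEquivOfEq _ _ hkerf.symm).trans (f.quotKerEquivOfSurjective hf))⟩

/-- Length formula, finite-length induction step packaged over the `A`-structure only. -/
theorem length_restrict_of_isFiniteLength (A : Type w) [CommRing A] [Algebra Λ A] [IsLocalRing A]
    [Algebra A k] [IsScalarTower Λ A k] (hres : Function.Surjective (algebraMap A k))
    (M : Type*) [AddCommGroup M] [Module A M] (h : IsFiniteLength A M) :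
    ∀ [Module Λ M] [IsScalarTower Λ A M],
      Module.length Λ k * Module.length A M = Module.length Λ M := by
  induction h with
  | @of_subsingleton M' _ _ _ =>
    intro _ _
    rw [Module.length_eq_zero (R := A) (M := M'), Module.length_eq_zero (R := Λ) (M := M'), mul_zero]
  | @of_simple_quotient M _ _ N _ hN ih =>
    intro _ _
    have ihN := ih
    obtain ⟨e⟩ := simple_equiv_residue (k := k) A hres (M ⧸ N)
    have e' : (M ⧸ N) ≃ₗ[Λ] k := e.restrictScalars Λ
    have h1 : Module.length A M = Module.length A N + Module.length A (M ⧸ N) :=
      Module.length_eq_add_of_exact N.subtype N.mkQ (Submodule.subtype_injective _)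
        (Submodule.mkQ_surjective _) (LinearMap.exact_subtype_mkQ N)
    have h2 : Module.length Λ M = Module.length Λ N + Module.length Λ (M ⧸ N) :=
      Module.length_eq_add_of_exact (N.subtype.restrictScalars Λ) (N.mkQ.restrictScalars Λ)
        (Submodule.subtype_injective _) (Submodule.mkQ_surjective _)
        (LinearMap.exact_subtype_mkQ N)
    rw [h1, h2, mul_add, ihN, Module.length_eq_one A (M ⧸ N), mul_one, e'.length_eq]

/-- Length formula: for a local `Λ`-algebra `A` with residue field `k` and an `A`-module `M`,
`length_Λ k * length_A M = length_Λ M`. -/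
theorem length_restrict (A : Type w) [CommRing A] [Algebra Λ A] [IsLocalRing A]
    [Algebra A k] [IsScalarTower Λ A k] (hres : Function.Surjective (algebraMap A k))
    (M : Type*) [AddCommGroup M] [Module A M] [Module Λ M] [IsScalarTower Λ A M] :
    Module.length Λ k * Module.length A M = Module.length Λ M := by
  by_cases h : IsFiniteLength A M
  · exact length_restrict_of_isFiniteLength A hres M h
  · have hA : Module.length A M = ⊤ := by
      by_contra h'
      exact h (Module.length_ne_top_iff.1 h')
    have hle : Module.length A M ≤ Module.length Λ M := by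
      have := Submodule.length_le_length_restrictScalars (R := A) (M := M) Λ ⊤
      rwa [Module.length_top, Submodule.restrictScalars_top, Module.length_top] at this
    have hΛ : Module.length Λ M = ⊤ := top_le_iff.1 (hA ▸ hle)
    have hk : Module.length Λ k ≠ 0 := (Module.length_pos (R := Λ) (M := k)).ne'
    rw [hA, hΛ, ENat.mul_top hk]

end Length

end Groth.Agent.Lib.Helper19
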