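import Mathlib
import Groth.Prelude.Def_W4c1arstab1appArSing
import Groth.Agent.Lib.Helper16Node
import Groth.Agent.Lib.Helper19Length

/-!
# A_r singularities `k[[x,y]]/(y^2 - x^(r+1))` : free basis `1, y` over `k[[x]]` (helper16)
-/

set_option autoImplicit false
set_option linter.style.haveILetI false
set_option linter.unusedSectionVars false

universe u

namespace Groth.Agent.Lib.Helper16ArSing

open MvPowerSeries Groth.Agent.Lib.Helper16Node

variable {k : Type u} [Field k]

/-- `k[[t]] → k[[x,y]]`, `t ↦ x`. -/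
noncomputable def iota : PowerSeries k →ₐ[k] MvPowerSeries (Fin 2) k :=
  PowerSeries.substAlgHom
      (PowerSeries.HasSubst.of_constantCoeff_zero
        (MvPowerSeries.constantCoeff_X (0 : Fin 2) : MvPowerSeries.constantCoeff
          (MvPowerSeries.X (0 : Fin 2) : MvPowerSeries (Fin 2) k) = 0))

lemma c_iota (s : PowerSeries k) (i j : ℕ) :
    c (iota s) i j = if j = 0 then PowerSeries.coeff i s else 0 := by
  unfold iota c
  rw [PowerSeries.coe_substAlgHom, PowerSeries.coeff_subst_single]
  simp only [E_zero]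
  by_cases hj : j = 0
  · subst hj
    rw [if_pos rfl, if_pos]
    ext t
    fin_cases t <;> simp [E]
  · rw [if_neg hj, if_neg]
    intro h
    apply hj
    have := congrArg (fun m : Fin 2 →₀ ℕ => m 1) h
    simpa [E] using this

lemma iota_X : iota (PowerSeries.X : PowerSeries k) = MvPowerSeries.X 0 := by
  unfold iota
  exact PowerSeries.substAlgHom_X _

lemma c_iota_mul_X1 (s : PowerSeries k) (i j : ℕ) :
    c (iota s * X 1) i j = if j = 1 then PowerSeries.coeff i s else 0 := by
  have : iota s * (X 1 : MvPowerSeries (Fin 2) k) = X 1 ^ 1 * iota s := by ring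
  rw [this, c_X1_pow_mul, ]
  by_cases hj : 1 ≤ j
  · rw [if_pos hj, c_iota]
    by_cases h1 : j = 1
    · rw [if_pos h1, if_pos (by omega)]
    · rw [if_neg h1, if_neg (by omega)]
  · rw [if_neg hj, if_neg (by omega)]

lemma c_eqn_mul (r : ℕ) (q : MvPowerSeries (Fin 2) k) (i j : ℕ) :
    c (ArSing.eqn k r * q) i j =
      (if 2 ≤ j then c q i (j - 2) else 0) - (if r + 1 ≤ i then c q (i - (r + 1)) j else 0) := by
  unfold ArSing.eqn
  rw [sub_mul, c_sub, c_X1_pow_mul, c_X0_pow_mul]

/-- the quotient of the division by `y^2 - x^(r+1)`, coefficientwise -/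
noncomputable def quo (r : ℕ) (f : MvPowerSeries (Fin 2) k) : ℕ → ℕ → k
  | i, j => c f i (j + 2) + if h : r + 1 ≤ i then quo r f (i - (r + 1)) (j + 2) else 0
termination_by i => i
decreasing_by omega

lemma quo_eq (r : ℕ) (f : MvPowerSeries (Fin 2) k) (i j : ℕ) :
    quo r f i j = c f i (j + 2) + if r + 1 ≤ i then quo r f (i - (r + 1)) (j + 2) else 0 := by
  rw [quo]
  split_ifs <;> rfl

/-- the `1`-component -/
noncomputable def reA (r : ℕ) (f : MvPowerSeries (Fin 2) k) : PowerSeries k :=
  PowerSeries.mk fun i => c f i 0 + if r + 1 ≤ i then quo r f (i - (r + 1)) 0 else 0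

/-- the `y`-component -/
noncomputable def reB (r : ℕ) (f : MvPowerSeries (Fin 2) k) : PowerSeries k :=
  PowerSeries.mk fun i => c f i 1 + if r + 1 ≤ i then quo r f (i - (r + 1)) 1 else 0

lemma decomp (r : ℕ) (f : MvPowerSeries (Fin 2) k) :
    f = iota (reA r f) + iota (reB r f) * X 1 + ArSing.eqn k r * mkS (quo r f) := by
  apply c_ext
  intro i j
  rw [c_add, c_add, c_iota, c_iota_mul_X1, c_eqn_mul]
  simp only [c_mkS]
  rcases Nat.lt_or_ge j 2 with hj | hj
  · rw [if_neg (by omega : ¬ 2 ≤ j)]
    interval_cases j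
    · rw [if_pos rfl, if_neg (by omega), reA, PowerSeries.coeff_mk]
      ring
    · rw [if_neg (by omega), if_pos rfl, reB, PowerSeries.coeff_mk]
      ring
  · rw [if_neg (by omega), if_neg (by omega), if_pos hj, quo_eq, show j - 2 + 2 = j by omega]
    ring

lemma uniq0 (r : ℕ) (a b : PowerSeries k) (q : MvPowerSeries (Fin 2) k)
    (h : iota a + iota b * X 1 = ArSing.eqn k r * q) : a = 0 ∧ b = 0 := by
  have hc : ∀ i j, (if j = 0 then PowerSeries.coeff i a else 0)
      + (if j = 1 then PowerSeries.coeff i b else 0)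
      = (if 2 ≤ j then c q i (j - 2) else 0) - (if r + 1 ≤ i then c q (i - (r + 1)) j else 0) := by
    intro i j
    have := congrArg (fun f => c f i j) h
    simp only [c_add, c_iota, c_iota_mul_X1, c_eqn_mul] at this
    exact this
  have hq : ∀ i j, c q i j = 0 := by
    intro i
    induction i using Nat.strong_induction_on with
    | _ i ih =>
      intro j
      have h1 := hc i (j + 2)
      rw [if_neg (by omega), if_neg (by omega), if_pos (by omega), show j + 2 - 2 = j by omega]
        at h1
      by_cases hi : r + 1 ≤ i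
      · rw [if_pos hi, ih (i - (r + 1)) (by omega)] at h1
        rw [zero_add, sub_zero] at h1
        exact h1.symm
      · rw [if_neg hi, zero_add, sub_zero] at h1
        exact h1.symm
  constructor
  · ext i
    have h1 := hc i 0
    rw [if_pos rfl, if_neg (by omega), if_neg (by omega)] at h1
    simp only [hq, ite_self, sub_zero, add_zero] at h1
    simpa using h1
  · ext i
    have h1 := hc i 1
    rw [if_neg (by omega), if_pos rfl, if_neg (by omega)] at h1
    simp only [hq, ite_self, sub_zero, zero_add] at h1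
    simpa using h1

/-! ### The ring `A_r` -/

section Ring

variable (k) (r : ℕ)


lemma xMap_apply (s : PowerSeries k) :
    ArSing.xMap k r s = Ideal.Quotient.mk (Ideal.span {ArSing.eqn k r}) (iota s) := rfl

lemma xMap_X : ArSing.xMap k r PowerSeries.X = ArSing.x k r := by
  rw [xMap_apply, iota_X]

lemma mk_eqn : Ideal.Quotient.mk (Ideal.span {ArSing.eqn k r}) (ArSing.eqn k r) = 0 :=
  Ideal.Quotient.eq_zero_iff_mem.2 (Ideal.subset_span rfl)

lemma y_sq : ArSing.y k r ^ 2 = ArSing.x k r ^ (r + 1) := by
  have h := mk_eqn k r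
  unfold ArSing.eqn at h
  rw [map_sub, map_pow, map_pow, sub_eq_zero] at h
  exact h

lemma y_sq' : ArSing.y k r ^ 2 = ArSing.xMap k r (PowerSeries.X ^ (r + 1)) := by
  rw [map_pow, xMap_X, y_sq]

lemma exists_rep (a : ArSing.ring k r) :
    ∃ α β : PowerSeries k, a = ArSing.xMap k r α + ArSing.xMap k r β * ArSing.y k r := by
  obtain ⟨f, rfl⟩ := Ideal.Quotient.mk_surjective a
  refine ⟨reA r f, reB r f, ?_⟩
  conv_lhs => rw [decomp r f]
  rw [map_add, map_add, map_mul, map_mul, mk_eqn, zero_mul, add_zero]
  rfl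

lemma rep_zero (α β : PowerSeries k)
    (h : ArSing.xMap k r α + ArSing.xMap k r β * ArSing.y k r = 0) : α = 0 ∧ β = 0 := by
  have h1 : Ideal.Quotient.mk (Ideal.span {ArSing.eqn k r}) (iota α + iota β * X 1) = 0 := by
    rw [map_add, map_mul]
    exact h
  rw [Ideal.Quotient.eq_zero_iff_mem, Ideal.mem_span_singleton'] at h1
  obtain ⟨q, hq⟩ := h1
  exact uniq0 r α β q (by rw [← hq]; ring)

lemma rep_unique (α β γ δ : PowerSeries k)
    (h : ArSing.xMap k r α + ArSing.xMap k r β * ArSing.y k r
      = ArSing.xMap k r γ + ArSing.xMap k r δ * ArSing.y k r) : α = γ ∧ β = δ := by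
  have h1 : ArSing.xMap k r (α - γ) + ArSing.xMap k r (β - δ) * ArSing.y k r = 0 := by
    rw [map_sub, map_sub]
    linear_combination h
  obtain ⟨h2, h3⟩ := rep_zero k r _ _ h1
  exact ⟨sub_eq_zero.1 h2, sub_eq_zero.1 h3⟩

lemma mul_rep (α β γ δ : PowerSeries k) :
    (ArSing.xMap k r α + ArSing.xMap k r β * ArSing.y k r)
      * (ArSing.xMap k r γ + ArSing.xMap k r δ * ArSing.y k r)
    = ArSing.xMap k r (α * γ + PowerSeries.X ^ (r + 1) * (β * δ))
      + ArSing.xMap k r (α * δ + β * γ) * ArSing.y k r := by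
  simp only [map_add, map_mul]
  linear_combination (ArSing.xMap k r β * ArSing.xMap k r δ) * y_sq' k r

lemma xMap_injective : Function.Injective (ArSing.xMap k r) := by
  intro a b hab
  have := rep_unique k r a 0 b 0 (by rw [map_zero, zero_mul, add_zero, add_zero]; exact hab)
  exact this.1

/-- the constant coefficient -/
noncomputable def constR : ArSing.ring k r →+* k :=
  Ideal.Quotient.lift (Ideal.span {ArSing.eqn k r}) MvPowerSeries.constantCoeff (by
    intro a ha
    rw [Ideal.mem_span_singleton'] at ha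
    obtain ⟨q, rfl⟩ := ha
    rw [map_mul]
    unfold ArSing.eqn
    simp)

lemma constR_mk (f : MvPowerSeries (Fin 2) k) :
    constR k r (Ideal.Quotient.mk _ f) = MvPowerSeries.constantCoeff f := rfl

lemma constR_algebraMap (a : k) : constR k r (algebraMap k (ArSing.ring k r) a) = a := by
  have : algebraMap k (ArSing.ring k r) a
      = Ideal.Quotient.mk _ (algebraMap k (MvPowerSeries (Fin 2) k) a) := rfl
  rw [this, constR_mk, MvPowerSeries.algebraMap_apply]
  simp

lemma constR_x : constR k r (ArSing.x k r) = 0 := by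
  rw [ArSing.x, constR_mk]; simp

lemma constR_y : constR k r (ArSing.y k r) = 0 := by
  rw [ArSing.y, constR_mk]; simp

lemma constR_xMap (s : PowerSeries k) :
    constR k r (ArSing.xMap k r s) = PowerSeries.constantCoeff s := by
  rw [xMap_apply, constR_mk, ← MvPowerSeries.coeff_zero_eq_constantCoeff_apply, ← E_zero_zero]
  have := c_iota s 0 0
  rw [if_pos rfl] at this
  rw [← PowerSeries.coeff_zero_eq_constantCoeff_apply]
  exact this

lemma isUnit_of_constR (a : ArSing.ring k r) (h : constR k r a ≠ 0) : IsUnit a := by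
  obtain ⟨f, rfl⟩ := Ideal.Quotient.mk_surjective a
  rw [constR_mk] at h
  have : IsUnit f := by
    rw [MvPowerSeries.isUnit_iff_constantCoeff]
    exact isUnit_iff_ne_zero.2 h
  exact this.map _

lemma constR_eq_zero_of_not_isUnit (a : ArSing.ring k r) (h : ¬ IsUnit a) : constR k r a = 0 := by
  by_contra h'
  exact h (isUnit_of_constR k r a h')

instance : Nontrivial (ArSing.ring k r) := by
  refine ⟨⟨0, 1, ?_⟩⟩
  intro h
  have := congrArg (constR k r) h
  simp at this

instance : IsLocalRing (ArSing.ring k r) := by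
  apply IsLocalRing.of_isUnit_or_isUnit_one_sub_self
  intro a
  by_cases h : constR k r a = 0
  · right
    apply isUnit_of_constR
    rw [map_sub, map_one, h, sub_zero]
    exact one_ne_zero
  · left
    exact isUnit_of_constR k r a h

lemma mem_maximalIdeal_iff (a : ArSing.ring k r) :
    a ∈ IsLocalRing.maximalIdeal (ArSing.ring k r) ↔ constR k r a = 0 := by
  rw [IsLocalRing.mem_maximalIdeal, mem_nonunits_iff]
  constructor
  · exact constR_eq_zero_of_not_isUnit k r a
  · intro h hu
    have := hu.map (constR k r)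
    rw [h] at this
    exact not_isUnit_zero this

/-- `∩ x^N R = 0`. -/
lemma inter_x_pow (z : ArSing.ring k r) (h : ∀ N : ℕ, ∃ w, z = ArSing.x k r ^ N * w) : z = 0 := by
  obtain ⟨α, β, rfl⟩ := exists_rep k r z
  have key : ∀ n, PowerSeries.coeff n α = 0 ∧ PowerSeries.coeff n β = 0 := by
    intro n
    obtain ⟨w, hw⟩ := h (n + 1)
    obtain ⟨γ, δ, rfl⟩ := exists_rep k r w
    have e1 : ArSing.x k r ^ (n + 1) * (ArSing.xMap k r γ + ArSing.xMap k r δ * ArSing.y k r)
        = ArSing.xMap k r (PowerSeries.X ^ (n + 1) * γ)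
          + ArSing.xMap k r (PowerSeries.X ^ (n + 1) * δ) * ArSing.y k r := by
      rw [map_mul, map_mul, map_pow, xMap_X]
      ring
    rw [e1] at hw
    obtain ⟨h1, h2⟩ := rep_unique k r _ _ _ _ hw
    constructor
    · rw [h1, PowerSeries.coeff_X_pow_mul', if_neg (by omega)]
    · rw [h2, PowerSeries.coeff_X_pow_mul', if_neg (by omega)]
  have hα : α = 0 := by
    ext n
    rw [(key n).1]; simp
  have hβ : β = 0 := by
    ext n
    rw [(key n).2]; simp
  rw [hα, hβ]
  simp

/-- continuity principle, linear version. -/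
lemma cont_lin (F : PowerSeries k →ₗ[k] ArSing.ring k r)
    (h0 : ∀ n : ℕ, F (PowerSeries.X ^ n) = 0)
    (h1 : ∀ (N : ℕ) (s : PowerSeries k), ∃ w, F (PowerSeries.X ^ (2 * N) * s) = ArSing.x k r ^ N * w)
    (s : PowerSeries k) : F s = 0 := by
  apply inter_x_pow
  intro N
  have hp : ∀ p : Polynomial k, F (p : PowerSeries k) = 0 := by
    intro p
    induction p using Polynomial.induction_on' with
    | add p q hp hq => rw [Polynomial.coe_add, map_add, hp, hq, add_zero]
    | monomial n a =>
      rw [Polynomial.coe_monomial, PowerSeries.monomial_eq_C_mul_X_pow,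
        ← PowerSeries.smul_eq_C_mul, map_smul, h0, smul_zero]
  rw [s.eq_X_pow_mul_shift_add_trunc (2 * N), map_add, hp, add_zero]
  exact h1 N _

/-- continuity principle for algebra maps. -/
lemma cont_alg (F G : PowerSeries k →ₐ[k] ArSing.ring k r)
    (h0 : F PowerSeries.X = G PowerSeries.X)
    (h1 : ∃ w, F PowerSeries.X ^ 2 = ArSing.x k r * w) (s : PowerSeries k) : F s = G s := by
  obtain ⟨w, hw⟩ := h1
  have := cont_lin k r (F.toLinearMap - G.toLinearMap) (by
    intro n
    rw [LinearMap.sub_apply, AlgHom.toLinearMap_apply, AlgHom.toLinearMap_apply, map_pow, map_pow,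
      h0, sub_self]) (by
    intro N s
    refine ⟨w ^ N * (F s - G s), ?_⟩
    rw [LinearMap.sub_apply, AlgHom.toLinearMap_apply, AlgHom.toLinearMap_apply, map_mul, map_mul,
      map_pow, map_pow, ← h0, pow_mul, hw]
    ring) s
  rw [LinearMap.sub_apply, AlgHom.toLinearMap_apply, AlgHom.toLinearMap_apply, sub_eq_zero] at this
  exact this

/-! ### Linear coordinates -/

/-- `(α, β) ↦ α(x) + β(x) y`, `k`-linear. -/
noncomputable def repLin : (PowerSeries k × PowerSeries k) →ₗ[k] ArSing.ring k r where
  toFun p := ArSing.xMap k r p.1 + ArSing.xMap k r p.2 * ArSing.y k r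
  map_add' p q := by
    simp only [Prod.fst_add, Prod.snd_add, map_add]
    ring
  map_smul' a p := by
    simp only [Prod.smul_fst, Prod.smul_snd, map_smul, RingHom.id_apply, smul_add, smul_mul_assoc]

lemma repLin_bijective : Function.Bijective (repLin k r) := by
  constructor
  · intro p q hpq
    obtain ⟨h1, h2⟩ := rep_unique k r _ _ _ _ hpq
    exact Prod.ext h1 h2
  · intro a
    obtain ⟨α, β, rfl⟩ := exists_rep k r a
    exact ⟨(α, β), rfl⟩

/-- the coordinate equivalence -/
noncomputable def repEquiv : (PowerSeries k × PowerSeries k) ≃ₗ[k] ArSing.ring k r :=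
  LinearEquiv.ofBijective (repLin k r) (repLin_bijective k r)

/-- the `1`-coordinate -/
noncomputable def re : ArSing.ring k r →ₗ[k] PowerSeries k :=
  (LinearMap.fst k _ _).comp (repEquiv k r).symm.toLinearMap

/-- the `y`-coordinate -/
noncomputable def im : ArSing.ring k r →ₗ[k] PowerSeries k :=
  (LinearMap.snd k _ _).comp (repEquiv k r).symm.toLinearMap

lemma rep_re_im (a : ArSing.ring k r) :
    a = ArSing.xMap k r (re k r a) + ArSing.xMap k r (im k r a) * ArSing.y k r := by
  have := (repEquiv k r).apply_symm_apply a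
  conv_lhs => rw [← this]
  rfl

lemma re_rep (α β : PowerSeries k) :
    re k r (ArSing.xMap k r α + ArSing.xMap k r β * ArSing.y k r) = α := by
  have := rep_re_im k r (ArSing.xMap k r α + ArSing.xMap k r β * ArSing.y k r)
  exact (rep_unique k r _ _ _ _ this).1.symm

lemma im_rep (α β : PowerSeries k) :
    im k r (ArSing.xMap k r α + ArSing.xMap k r β * ArSing.y k r) = β := by
  have := rep_re_im k r (ArSing.xMap k r α + ArSing.xMap k r β * ArSing.y k r)
  exact (rep_unique k r _ _ _ _ this).2.symm

/-! ### Flatness of `k[[x]] → A_r` -/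

lemma xMap_flat : (ArSing.xMap k r).toRingHom.Flat := by
  letI : Algebra (PowerSeries k) (ArSing.ring k r) := (ArSing.xMap k r).toRingHom.toAlgebra
  show Module.Flat (PowerSeries k) (ArSing.ring k r)
  have hsm : ∀ (s : PowerSeries k) (a : ArSing.ring k r), s • a = ArSing.xMap k r s * a := by
    intro s a
    rw [Algebra.smul_def]
    rfl
  let g : (PowerSeries k × PowerSeries k) →ₗ[PowerSeries k] ArSing.ring k r :=
    { toFun := fun p => ArSing.xMap k r p.1 + ArSing.xMap k r p.2 * ArSing.y k r
      map_add' := fun p q => by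
        simp only [Prod.fst_add, Prod.snd_add, map_add]
        ring
      map_smul' := fun s p => by
        simp only [Prod.smul_fst, Prod.smul_snd, smul_eq_mul, map_mul, RingHom.id_apply, hsm]
        ring }
  have hg : Function.Bijective g := repLin_bijective k r
  exact Module.Flat.of_linearEquiv (LinearEquiv.ofBijective g hg).symm

lemma map_maximalIdeal_ne_top :
    Ideal.map (ArSing.xMap k r) (IsLocalRing.maximalIdeal (PowerSeries k)) ≠ ⊤ := by
  intro h
  have hle : Ideal.map (ArSing.xMap k r) (IsLocalRing.maximalIdeal (PowerSeries k))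
      ≤ RingHom.ker (constR k r) := by
    rw [Ideal.map_le_iff_le_comap]
    intro s hs
    rw [Ideal.mem_comap, RingHom.mem_ker]
    have : ArSing.xMap k r s = (ArSing.xMap k r) s := rfl
    rw [constR_xMap]
    rw [IsLocalRing.mem_maximalIdeal, mem_nonunits_iff, PowerSeries.isUnit_iff_constantCoeff] at hs
    by_contra h0
    exact hs (isUnit_iff_ne_zero.2 h0)
  rw [h, top_le_iff] at hle
  have : (1 : ArSing.ring k r) ∈ RingHom.ker (constR k r) := by rw [hle]; trivial
  rw [RingHom.mem_ker, map_one] at this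
  exact one_ne_zero this

/-! ### Homomorphisms to `k` -/

lemma constR_unique (χ : ArSing.ring k r →+* k)
    (hχ : ∀ a : k, χ (algebraMap k (ArSing.ring k r) a) = a) (z : ArSing.ring k r) :
    χ z = constR k r z := by
  set w := z - algebraMap k (ArSing.ring k r) (constR k r z) with hw
  have hw0 : constR k r w = 0 := by
    rw [hw, map_sub, constR_algebraMap, sub_self]
  have hχw : χ w = 0 := by
    by_contra h
    have hu : IsUnit (w - algebraMap k (ArSing.ring k r) (χ w)) := by
      apply isUnit_of_constR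
      rw [map_sub, hw0, constR_algebraMap, zero_sub]
      exact neg_ne_zero.2 h
    have := hu.map χ
    rw [map_sub, hχ, sub_self] at this
    exact not_isUnit_zero this
  have : z = w + algebraMap k (ArSing.ring k r) (constR k r z) := by rw [hw]; ring
  conv_lhs => rw [this]
  rw [map_add, hχw, hχ, zero_add]

lemma constR_algHom {r' : ℕ} (φ : ArSing.ring k r' →ₐ[k] ArSing.ring k r) (z : ArSing.ring k r') :
    constR k r (φ z) = constR k r' z := by
  have := constR_unique k r' ((constR k r).comp φ.toRingHom) (by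
    intro a
    rw [RingHom.comp_apply]
    have : φ.toRingHom (algebraMap k (ArSing.ring k r') a) = algebraMap k (ArSing.ring k r) a :=
      φ.commutes a
    rw [this, constR_algebraMap]) z
  exact this

/-! ### Lengths -/

lemma length_eq_finrank (M : Type*) [AddCommGroup M] [Module (ArSing.ring k r) M] [Module k M]
    [IsScalarTower k (ArSing.ring k r) M] [Module.Finite k M] :
    Module.length (ArSing.ring k r) M = Module.finrank k M := by
  letI : Algebra (ArSing.ring k r) k := (constR k r).toAlgebra
  haveI : IsScalarTower k (ArSing.ring k r) k :=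
    IsScalarTower.of_algebraMap_eq (R := k) (S := ArSing.ring k r) (A := k) (fun a => by
      have h1 : algebraMap (ArSing.ring k r) k (algebraMap k (ArSing.ring k r) a)
          = constR k r (algebraMap k (ArSing.ring k r) a) := rfl
      rw [h1, constR_algebraMap]
      rfl)
  have hsurj : Function.Surjective (algebraMap (ArSing.ring k r) k) :=
    fun a => ⟨algebraMap k (ArSing.ring k r) a, constR_algebraMap k r a⟩
  have h := Groth.Agent.Lib.Helper19.length_restrict (Λ := k) (k := k) (ArSing.ring k r) hsurj M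
  rw [Module.length_eq_finrank k k, Module.finrank_self, Nat.cast_one, one_mul] at h
  rw [h, Module.length_eq_finrank k M]

lemma length_quot_eq (J : Ideal (ArSing.ring k r)) (n : ℕ)
    (T : ArSing.ring k r →ₗ[k] (Fin n → k)) (hT : Function.Surjective T)
    (hker : ∀ a, T a = 0 ↔ a ∈ J) :
    Module.length (ArSing.ring k r) (ArSing.ring k r ⧸ J) = n := by
  have hkerT : LinearMap.ker T = J.restrictScalars k := by
    ext a
    rw [LinearMap.mem_ker, hker, Submodule.restrictScalars_mem]
  have e1 := T.quotKerEquivOfSurjective hT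
  have e2 := Submodule.Quotient.restrictScalarsEquiv k J
  have e3 := Submodule.quotEquivOfEq _ _ hkerT
  have e : (ArSing.ring k r ⧸ J) ≃ₗ[k] (Fin n → k) := e2.symm.trans (e3.symm.trans e1)
  haveI : Module.Finite k (ArSing.ring k r ⧸ J) := Module.Finite.equiv e.symm
  rw [length_eq_finrank k r, e.finrank_eq]
  simp

end Ring

/-! ### Even and odd parts of power series -/

section EvOd

/-- `s(t) ↦ s(t^2)` -/
noncomputable def Ev : PowerSeries k →ₐ[k] PowerSeries k :=
  PowerSeries.substAlgHom (PowerSeries.HasSubst.X_pow (two_ne_zero))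

lemma coeff_Ev (s : PowerSeries k) (n : ℕ) :
    PowerSeries.coeff n (Ev s) = if 2 ∣ n then PowerSeries.coeff (n / 2) s else 0 := by
  unfold Ev
  rw [PowerSeries.coe_substAlgHom, PowerSeries.coeff_subst_X_pow two_ne_zero]
  simp

lemma Ev_X : Ev (PowerSeries.X : PowerSeries k) = PowerSeries.X ^ 2 := by
  unfold Ev
  exact PowerSeries.substAlgHom_X _

/-- even part -/
noncomputable def ev (s : PowerSeries k) : PowerSeries k :=
  PowerSeries.mk fun n => PowerSeries.coeff (2 * n) s

/-- odd part -/
noncomputable def od (s : PowerSeries k) : PowerSeries k :=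
  PowerSeries.mk fun n => PowerSeries.coeff (2 * n + 1) s

lemma coeff_even_EvX (a b : PowerSeries k) (m : ℕ) :
    PowerSeries.coeff (2 * m) (Ev a + PowerSeries.X * Ev b) = PowerSeries.coeff m a := by
  rw [map_add, coeff_Ev, if_pos (by omega), show 2 * m / 2 = m by omega]
  rcases Nat.eq_zero_or_pos m with hm | hm
  · subst hm
    simp
  · obtain ⟨m', rfl⟩ : ∃ m', m = m' + 1 := ⟨m - 1, by omega⟩
    rw [show 2 * (m' + 1) = (2 * m' + 1) + 1 by ring, PowerSeries.coeff_succ_X_mul, coeff_Ev,
      if_neg (by omega), add_zero]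

lemma coeff_odd_EvX (a b : PowerSeries k) (m : ℕ) :
    PowerSeries.coeff (2 * m + 1) (Ev a + PowerSeries.X * Ev b) = PowerSeries.coeff m b := by
  rw [map_add, coeff_Ev, if_neg (by omega), PowerSeries.coeff_succ_X_mul, coeff_Ev,
    if_pos (by omega), show 2 * m / 2 = m by omega, zero_add]

lemma ev_od (s : PowerSeries k) : s = Ev (ev s) + PowerSeries.X * Ev (od s) := by
  ext n
  rcases Nat.even_or_odd' n with ⟨m, rfl | rfl⟩
  · rw [coeff_even_EvX, ev, PowerSeries.coeff_mk]
  · rw [coeff_odd_EvX, od, PowerSeries.coeff_mk]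

lemma EvX_unique (a b c d : PowerSeries k)
    (h : Ev a + PowerSeries.X * Ev b = Ev c + PowerSeries.X * Ev d) : a = c ∧ b = d := by
  constructor
  · ext m
    rw [← coeff_even_EvX a b, h, coeff_even_EvX]
  · ext m
    rw [← coeff_odd_EvX a b, h, coeff_odd_EvX]

lemma ev_EvX (a b : PowerSeries k) : ev (Ev a + PowerSeries.X * Ev b) = a := by
  ext m
  rw [ev, PowerSeries.coeff_mk, coeff_even_EvX]

lemma od_EvX (a b : PowerSeries k) : od (Ev a + PowerSeries.X * Ev b) = b := by
  ext m
  rw [od, PowerSeries.coeff_mk, coeff_odd_EvX]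

/-- `s(t) ↦ s(c t)` -/
noncomputable def rs (c : k) : PowerSeries k →ₐ[k] PowerSeries k :=
  { PowerSeries.rescale c with
    commutes' := fun a => by
      ext n
      simp only [RingHom.toMonoidHom_eq_coe, OneHom.toFun_eq_coe, MonoidHom.toOneHom_coe,
        MonoidHom.coe_coe, PowerSeries.coeff_rescale, PowerSeries.algebraMap_apply,
        Algebra.algebraMap_self, RingHom.id_apply, PowerSeries.coeff_C]
      split_ifs with h
      · subst h; simp
      · simp }

lemma coeff_rs (c : k) (s : PowerSeries k) (n : ℕ) :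
    PowerSeries.coeff n (rs c s) = c ^ n * PowerSeries.coeff n s :=
  PowerSeries.coeff_rescale s c n

lemma rs_X (c : k) : rs c (PowerSeries.X : PowerSeries k) = PowerSeries.C c * PowerSeries.X :=
  PowerSeries.rescale_X c

lemma rs_neg_one_EvX (a b : PowerSeries k) :
    rs (-1 : k) (Ev a + PowerSeries.X * Ev b) = Ev a - PowerSeries.X * Ev b := by
  ext n
  rw [coeff_rs]
  rcases Nat.even_or_odd' n with ⟨m, rfl | rfl⟩
  · rw [coeff_even_EvX, map_sub, coeff_Ev, if_pos (by omega), show 2 * m / 2 = m by omega]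
    rcases Nat.eq_zero_or_pos m with hm | hm
    · subst hm
      simp
    · obtain ⟨m', rfl⟩ : ∃ m', m = m' + 1 := ⟨m - 1, by omega⟩
      rw [show 2 * (m' + 1) = (2 * m' + 1) + 1 by ring, PowerSeries.coeff_succ_X_mul, coeff_Ev,
        if_neg (by omega), sub_zero, show 2 * m' + 1 + 1 = 2 * (m' + 1) by ring, pow_mul]
      simp
  · rw [coeff_odd_EvX, map_sub, coeff_Ev, if_neg (by omega), PowerSeries.coeff_succ_X_mul,
      coeff_Ev, if_pos (by omega), show 2 * m / 2 = m by omega, pow_succ, pow_mul]
    simp

lemma rs_neg_one_eq_self_iff (h2 : (2 : k) ≠ 0) (s : PowerSeries k) :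
    rs (-1 : k) s = s ↔ od s = 0 := by
  conv_lhs => rw [ev_od s, rs_neg_one_EvX]
  constructor
  · intro h
    have h1 : PowerSeries.X * Ev (od s) = 0 := by
      have : (2 : PowerSeries k) * (PowerSeries.X * Ev (od s)) = 0 := by linear_combination -h
      have h2' : (2 : PowerSeries k) ≠ 0 := by
        intro h0
        have := congrArg (PowerSeries.constantCoeff) h0
        rw [map_ofNat, map_zero] at this
        exact h2 this
      exact (mul_eq_zero.1 this).resolve_left h2'
    have := EvX_unique 0 (od s) 0 0 (by rw [map_zero, zero_add, h1]; simp)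
    exact this.2
  · intro h
    rw [h, map_zero, mul_zero, sub_zero, add_zero]

lemma rs_neg_one_eq_neg_iff (h2 : (2 : k) ≠ 0) (s : PowerSeries k) :
    rs (-1 : k) s = -s ↔ ev s = 0 := by
  conv_lhs => rw [ev_od s, rs_neg_one_EvX]
  constructor
  · intro h
    have h1 : Ev (ev s) = 0 := by
      have : (2 : PowerSeries k) * (Ev (ev s)) = 0 := by linear_combination h
      have h2' : (2 : PowerSeries k) ≠ 0 := by
        intro h0
        have := congrArg (PowerSeries.constantCoeff) h0
        rw [map_ofNat, map_zero] at this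
        exact h2 this
      exact (mul_eq_zero.1 this).resolve_left h2'
    have := EvX_unique (ev s) 0 0 0 (by rw [h1]; simp)
    exact this.1
  · intro h
    rw [h, map_zero]
    ring

end EvOd

/-! ### Continuity consequences -/

section Cont

variable (k) (r : ℕ)

lemma sigma_xMap_of_x (σ : ArSing.ring k r →ₐ[k] ArSing.ring k r)
    (hx : σ (ArSing.x k r) = ArSing.x k r) (s : PowerSeries k) :
    σ (ArSing.xMap k r s) = ArSing.xMap k r s := by
  have := cont_alg k r (σ.comp (ArSing.xMap k r)) (ArSing.xMap k r) (by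
    rw [AlgHom.comp_apply, xMap_X, hx]) ⟨ArSing.x k r, by
    rw [AlgHom.comp_apply, xMap_X, hx]; ring⟩ s
  exact this

lemma sigma_xMap_of_neg_x (σ : ArSing.ring k r →ₐ[k] ArSing.ring k r)
    (hx : σ (ArSing.x k r) = -ArSing.x k r) (s : PowerSeries k) :
    σ (ArSing.xMap k r s) = ArSing.xMap k r (rs (-1 : k) s) := by
  have := cont_alg k r (σ.comp (ArSing.xMap k r)) ((ArSing.xMap k r).comp (rs (-1 : k))) (by
    rw [AlgHom.comp_apply, AlgHom.comp_apply, xMap_X, hx, rs_X, map_mul, xMap_X]
    have : ArSing.xMap k r (PowerSeries.C (-1 : k)) = -1 := by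
      rw [map_neg, map_one, map_neg, map_one]
    rw [this]
    ring) ⟨ArSing.x k r, by
    rw [AlgHom.comp_apply, xMap_X, hx]; ring⟩ s
  exact this

lemma phi_xMap_of_sq {r' : ℕ} (φ : ArSing.ring k r' →ₐ[k] ArSing.ring k r)
    (hx : φ (ArSing.x k r') = ArSing.x k r ^ 2) (s : PowerSeries k) :
    φ (ArSing.xMap k r' s) = ArSing.xMap k r (Ev s) := by
  have := cont_alg k r (φ.comp (ArSing.xMap k r')) ((ArSing.xMap k r).comp Ev) (by
    rw [AlgHom.comp_apply, AlgHom.comp_apply, xMap_X, hx, Ev_X, map_pow, xMap_X])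
    ⟨ArSing.x k r ^ 3, by
    rw [AlgHom.comp_apply, xMap_X, hx]; ring⟩ s
  exact this

end Cont

end Groth.Agent.Lib.Helper16ArSing
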