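import Mathlib

set_option autoImplicit false
set_option linter.style.haveILetI false
set_option linter.unusedSectionVars false

universe u

namespace Groth.Agent.Lib.Helper16Bass

open Submodule

section Basic

variable {A : Type u} [CommRing A]

/-- For a projective module, an element outside `I • ⊤` is detected by a linear form. -/
theorem exists_form_notMem {P : Type u} [AddCommGroup P] [Module A P] [Module.Projective A P]
    (I : Ideal A) (x : P) (hx : x ∉ I • (⊤ : Submodule A P)) : ∃ ψ : P →ₗ[A] A, ψ x ∉ I := by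
  obtain ⟨σ, hσ⟩ := Module.projective_def'.mp (inferInstance : Module.Projective A P)
  by_contra hcon
  push Not at hcon
  apply hx
  have hx' : x = Finsupp.linearCombination A id (σ x) := by
    have := LinearMap.congr_fun hσ x
    simpa using this.symm
  rw [hx', Finsupp.linearCombination_apply, Finsupp.sum]
  refine Submodule.sum_mem _ fun p _ => ?_
  refine Submodule.smul_mem_smul ?_ mem_top
  simpa using hcon ((Finsupp.lapply p).comp σ)

/-- Bass' lemma: a projective module `P` with `I P = P`, `I` inside the Jacobson radical, is zero. -/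
theorem subsingleton_of_smul_top_eq_top {P : Type u} [AddCommGroup P] [Module A P]
    [Module.Projective A P] (I : Ideal A) (hI : I ≤ (⊥ : Ideal A).jacobson)
    (h : I • (⊤ : Submodule A P) = ⊤) : Subsingleton P := by
  classical
  obtain ⟨σ, hσ⟩ := Module.projective_def'.mp (inferInstance : Module.Projective A P)
  have hlc : ∀ x, Finsupp.linearCombination A id (σ x) = x := fun x => by
    simpa using LinearMap.congr_fun hσ x
  have hc : ∀ x : P, ∀ q : P, σ x q ∈ I := by
    intro x q
    have hx : x ∈ I • (⊤ : Submodule A P) := by rw [h]; exact mem_top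
    refine Submodule.smul_induction_on hx ?_ ?_
    · intro r hr n _
      rw [map_smul, Finsupp.smul_apply, smul_eq_mul]
      exact I.mul_mem_right _ hr
    · intro y z hy hz
      rw [map_add, Finsupp.add_apply]
      exact I.add_mem hy hz
  refine ⟨fun x y => ?_⟩
  suffices H : ∀ x : P, x = 0 by rw [H x, H y]
  intro x
  set v := σ x with hv
  have hfix : σ (Finsupp.linearCombination A id v) = v := by rw [hv, hlc]
  have hcoord : ∀ q, v q = ∑ p ∈ v.support, v p * σ p q := by
    intro q
    conv_lhs => rw [← hfix]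
    rw [Finsupp.linearCombination_apply, Finsupp.sum, map_sum, Finsupp.finsetSum_apply]
    refine Finset.sum_congr rfl fun p _ => ?_
    rw [map_smul, Finsupp.smul_apply, smul_eq_mul, id]
  let C : Matrix v.support v.support A := fun q p => σ p.1 q.1
  let w : v.support → A := fun p => v p.1
  have hw : (1 - C).mulVec w = 0 := by
    ext q
    rw [Matrix.sub_mulVec, Matrix.one_mulVec, Pi.sub_apply, Pi.zero_apply, sub_eq_zero]
    change v q.1 = ∑ p, C q p * w p
    rw [hcoord q.1, ← Finset.sum_coe_sort]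
    exact Finset.sum_congr rfl fun p _ => mul_comm _ _
  have hdet : IsUnit (1 - C).det := by
    have h1 : (Ideal.Quotient.mk I) (1 - C).det = 1 := by
      rw [RingHom.map_det]
      have : (Ideal.Quotient.mk I).mapMatrix (1 - C) = 1 := by
        ext i j
        have hz : (Ideal.Quotient.mk I) (C i j) = 0 := Ideal.Quotient.eq_zero_iff_mem.mpr (hc _ _)
        simp only [RingHom.mapMatrix_apply, Matrix.map_apply, Matrix.sub_apply, map_sub, hz,
          sub_zero]
        by_cases hij : i = j
        · subst hij; simp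
        · simp [hij]
      rw [this, Matrix.det_one]
    have h2 : (1 - C).det - 1 ∈ I := by
      rw [← Ideal.Quotient.eq_zero_iff_mem, map_sub, h1, map_one, sub_self]
    have h3 := Ideal.mem_jacobson_bot.mp (hI h2) 1
    simpa using h3
  have hw0 : w = 0 := by
    have hu : IsUnit (1 - C) := (Matrix.isUnit_iff_isUnit_det _).mpr hdet
    exact Matrix.mulVec_injective_of_isUnit hu (by rw [hw, Matrix.mulVec_zero])
  have hv0 : v = 0 := by
    ext p
    by_cases hp : p ∈ v.support
    · exact congr_fun hw0 ⟨p, hp⟩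
    · simpa using hp
  rw [← hlc x, ← hv, hv0, map_zero]

end Basic

section Local

variable {A : Type u} [CommRing A] [IsLocalRing A]

theorem finite_of_local_aux :
    ∀ (n : ℕ) (P : Type u) [AddCommGroup P] [Module A P] [Module.Projective A P] (x : Fin n → P),
      span A (Set.range x) ⊔ IsLocalRing.maximalIdeal A • (⊤ : Submodule A P) = ⊤ →
        Module.Finite A P := by
  intro n
  induction n with
  | zero =>
    intro P _ _ _ x h
    have hr : Set.range x = ∅ := Set.range_eq_empty x
    rw [hr, span_empty, bot_sup_eq] at h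
    have := subsingleton_of_smul_top_eq_top (IsLocalRing.maximalIdeal A)
      (IsLocalRing.maximalIdeal_le_jacobson ⊥) h
    infer_instance
  | succ n ih =>
    intro P _ _ _ x h
    by_cases h0 : x 0 ∈ IsLocalRing.maximalIdeal A • (⊤ : Submodule A P)
    · apply ih P (fun i => x i.succ)
      refine top_le_iff.mp (h.ge.trans (sup_le (span_le.mpr ?_) le_sup_right))
      rintro _ ⟨i, rfl⟩
      refine Fin.cases ?_ (fun j => ?_) i
      · exact mem_sup_right h0
      · exact mem_sup_left (subset_span ⟨j, rfl⟩)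
    · obtain ⟨ψ, hψ⟩ := exists_form_notMem _ _ h0
      have hu : IsUnit (ψ (x 0)) := by
        by_contra hnu
        exact hψ ((IsLocalRing.mem_maximalIdeal _).mpr hnu)
      obtain ⟨c, hc⟩ := hu.exists_left_inv
      let φ : P →ₗ[A] A := c • ψ
      have hφ : φ (x 0) = 1 := by simp [φ, hc]
      let pr : P →ₗ[A] P := LinearMap.id - φ.smulRight (x 0)
      have pr_apply : ∀ y, pr y = y - φ y • x 0 := fun y => rfl
      have hpr : ∀ y, pr y ∈ LinearMap.ker φ := by
        intro y
        rw [LinearMap.mem_ker, pr_apply, map_sub, map_smul, hφ, smul_eq_mul, mul_one, sub_self]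
      let pr' : P →ₗ[A] LinearMap.ker φ := pr.codRestrict _ hpr
      have hpr' : ∀ y : LinearMap.ker φ, pr' y.1 = y := by
        intro y
        ext
        rw [LinearMap.codRestrict_apply, pr_apply, LinearMap.mem_ker.mp y.2, zero_smul, sub_zero]
      haveI : Module.Projective A (LinearMap.ker φ) :=
        Module.Projective.of_split (LinearMap.ker φ).subtype pr' (by ext y; simp [hpr'])
      have hx0 : pr' (x 0) = 0 := by
        ext
        rw [LinearMap.codRestrict_apply, pr_apply, hφ, one_smul, sub_self]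
        rfl
      have key : Module.Finite A (LinearMap.ker φ) := by
        apply ih (LinearMap.ker φ) (fun i => pr' (x i.succ))
        rw [eq_top_iff]
        intro y _
        have hy : y.1 ∈ span A (Set.range x) ⊔ IsLocalRing.maximalIdeal A • (⊤ : Submodule A P) := by
          rw [h]; exact mem_top
        have h1 := Submodule.mem_map_of_mem (f := pr') hy
        rw [hpr', Submodule.map_sup, Submodule.map_span, Submodule.map_smul''] at h1
        refine SetLike.le_def.mp (sup_le_sup (span_le.mpr ?_) (smul_mono_right _ le_top)) h1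
        rintro _ ⟨_, ⟨i, rfl⟩, rfl⟩
        refine Fin.cases ?_ (fun j => ?_) i
        · rw [hx0]; exact zero_mem _
        · exact subset_span ⟨j, rfl⟩
      rw [Module.finite_def]
      have hk : (LinearMap.ker φ).FG := Module.Finite.iff_fg.mp key
      have htop : (⊤ : Submodule A P) = span A {x 0} ⊔ LinearMap.ker φ := by
        rw [eq_comm, eq_top_iff]
        intro y _
        have : y = φ y • x 0 + pr y := by rw [pr_apply]; abel
        rw [this]
        exact add_mem (mem_sup_left (smul_mem _ _ (mem_span_singleton_self _)))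
          (mem_sup_right (hpr y))
      rw [htop]
      exact (fg_span_singleton _).sup hk

theorem finite_of_local {P : Type u} [AddCommGroup P] [Module A P] [Module.Projective A P]
    (N : Submodule A P) (hN : N.FG)
    (h : N ⊔ IsLocalRing.maximalIdeal A • (⊤ : Submodule A P) = ⊤) : Module.Finite A P := by
  obtain ⟨n, x, hx⟩ := Submodule.fg_iff_exists_fin_generating_family.mp hN
  exact finite_of_local_aux n P x (hx ▸ h)

end Local


section UBsec

variable (R : Type u) [CommRing R]

/-- Uniform bigness: no finitely generated submodule generates `P` modulo a maximal ideal. -/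
def UB (P : Type u) [AddCommGroup P] [Module R P] : Prop :=
  ∀ (𝔪 : Ideal R) [𝔪.IsMaximal] (N : Submodule R P), N.FG → N ⊔ 𝔪 • (⊤ : Submodule R P) ≠ ⊤

variable {R}

theorem ub_of_localization {P : Type u} [AddCommGroup P] [Module R P] [Module.Projective R P]
    (hP : ∀ (m : Ideal R) [m.IsMaximal],
      ¬ Module.Finite (Localization.AtPrime m) (LocalizedModule m.primeCompl P)) : UB R P := by
  intro 𝔪 _ N hN h
  apply hP 𝔪
  let f := LocalizedModule.mkLinearMap 𝔪.primeCompl P
  obtain ⟨G, hG⟩ := hN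
  refine finite_of_local (A := Localization.AtPrime 𝔪)
    (span (Localization.AtPrime 𝔪) (f '' (G : Set P))) (fg_span (G.finite_toSet.image f)) ?_
  have key : ∀ p ∈ N ⊔ 𝔪 • (⊤ : Submodule R P),
      f p ∈ span (Localization.AtPrime 𝔪) (f '' (G : Set P)) ⊔
        IsLocalRing.maximalIdeal (Localization.AtPrime 𝔪) •
          (⊤ : Submodule (Localization.AtPrime 𝔪) (LocalizedModule 𝔪.primeCompl P)) := by
    intro p hp
    obtain ⟨a, ha, b, hb, rfl⟩ := mem_sup.mp hp
    rw [map_add]
    refine add_mem (mem_sup_left ?_) (mem_sup_right ?_)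
    · have h1 : f a ∈ Submodule.map f (span R (G : Set P)) := by
        rw [hG]; exact Submodule.mem_map_of_mem ha
      rw [Submodule.map_span] at h1
      exact Submodule.span_le_restrictScalars R (Localization.AtPrime 𝔪) _ h1
    · refine Submodule.smul_induction_on hb ?_ ?_
      · intro r hr n _
        rw [map_smul, ← algebraMap_smul (Localization.AtPrime 𝔪) r (f n)]
        refine Submodule.smul_mem_smul ?_ mem_top
        exact (IsLocalization.AtPrime.to_map_mem_maximal_iff (Localization.AtPrime 𝔪) 𝔪 r).mpr hr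
      · intro y z hy hz
        rw [map_add]
        exact add_mem hy hz
  rw [eq_top_iff]
  intro y _
  induction y using LocalizedModule.induction_on with
  | h p s =>
    have hp : p ∈ N ⊔ 𝔪 • (⊤ : Submodule R P) := by rw [h]; exact mem_top
    have : LocalizedModule.mk p s = (Localization.mk 1 s : Localization.AtPrime 𝔪) • f p := by
      rw [LocalizedModule.mkLinearMap_apply, LocalizedModule.mk_smul_mk, one_smul, mul_one]
    rw [this]
    exact smul_mem _ _ (key p hp)

theorem UB.of_surjective {N₁ N₂ : Type u} [AddCommGroup N₁] [Module R N₁] [AddCommGroup N₂]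
    [Module R N₂] (h1 : UB R N₁) (f : N₂ →ₗ[R] N₁) (hf : Function.Surjective f) : UB R N₂ := by
  intro 𝔪 _ N' hN' h
  refine h1 𝔪 (N'.map f) (hN'.map f) ?_
  have := congrArg (Submodule.map f) h
  rw [Submodule.map_sup, Submodule.map_smul'', Submodule.map_top, LinearMap.range_eq_top.mpr hf]
    at this
  exact this

theorem UB.of_retract {N₁ N₂ : Type u} [AddCommGroup N₁] [Module R N₁] [AddCommGroup N₂]
    [Module R N₂] (h2 : UB R N₂) (f : N₂ →ₗ[R] N₁) (j : N₁ →ₗ[R] N₂)
    (hfj : f ∘ₗ j = LinearMap.id) (hk : (LinearMap.ker f).FG) : UB R N₁ := by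
  intro 𝔪 _ N' hN' h
  refine h2 𝔪 (N'.map j ⊔ LinearMap.ker f) ((hN'.map j).sup hk) ?_
  rw [eq_top_iff]
  intro y _
  have hy : f y ∈ N' ⊔ 𝔪 • (⊤ : Submodule R N₁) := by rw [h]; exact mem_top
  have h1 : j (f y) ∈ N'.map j ⊔ 𝔪 • (⊤ : Submodule R N₂) := by
    have := Submodule.mem_map_of_mem (f := j) hy
    rw [Submodule.map_sup, Submodule.map_smul''] at this
    exact SetLike.le_def.mp (sup_le_sup_left (smul_mono_right _ le_top) _) this
  have h2' : y - j (f y) ∈ LinearMap.ker f := by
    have := LinearMap.congr_fun hfj (f y)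
    simp only [LinearMap.comp_apply, LinearMap.id_apply] at this
    rw [LinearMap.mem_ker, map_sub, this, sub_self]
  have hsplit : y = j (f y) + (y - j (f y)) := by abel
  rw [hsplit]
  refine add_mem ?_ (mem_sup_left (mem_sup_right h2'))
  exact SetLike.le_def.mp (sup_le_sup_right le_sup_left _) h1

end UBsec

section Main

variable (R : Type u) [CommRing R]

/-- The ideal of values of linear forms at `x`. -/
def ord (P : Type u) [AddCommGroup P] [Module R P] (x : P) : Ideal R :=
  LinearMap.range (LinearMap.applyₗ (R := R) (M₂ := R) x)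

variable {R}

theorem mem_ord {P : Type u} [AddCommGroup P] [Module R P] {x : P} {a : R} :
    a ∈ ord R P x ↔ ∃ φ : P →ₗ[R] R, φ x = a := by
  simp [ord, LinearMap.mem_range]

theorem isNoetherian_quot (J : Ideal R) [IsNoetherianRing (R ⧸ J)] : IsNoetherian R (R ⧸ J) := by
  rw [isNoetherian_def]
  intro S
  let S' : Ideal (R ⧸ J) :=
    { carrier := S
      add_mem' := S.add_mem
      zero_mem' := S.zero_mem
      smul_mem' := by
        intro c x hx
        obtain ⟨r, rfl⟩ := Ideal.Quotient.mk_surjective c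
        have := S.smul_mem r hx
        simpa [Algebra.smul_def] using this }
  obtain ⟨T, hT⟩ := IsNoetherian.noetherian S'
  refine ⟨T, ?_⟩
  have := Submodule.restrictScalars_span R (R ⧸ J)
    (show Function.Surjective (algebraMap R (R ⧸ J)) from Ideal.Quotient.mk_surjective)
    (T : Set (R ⧸ J))
  rw [← this, hT]
  ext
  rfl

theorem exists_unimodular [IsNoetherianRing (R ⧸ (⊥ : Ideal R).jacobson)]
    {P : Type u} [AddCommGroup P] [Module R P] [Module.Projective R P] (hUB : UB R P)
    (s : P) (M : Submodule R P) (hM : span R {s} ⊔ M = ⊤) :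
    ∃ m ∈ M, ∃ φ : P →ₗ[R] R, φ (s + m) = 1 := by
  classical
  set J := (⊥ : Ideal R).jacobson with hJ
  let mk := Ideal.Quotient.mk J
  have hmk : Function.Surjective mk := Ideal.Quotient.mk_surjective
  let 𝒮 : Set (Ideal (R ⧸ J)) := {I | ∃ m ∈ M, I = (ord R P (s + m)).map mk}
  have hne : 𝒮.Nonempty := ⟨_, 0, M.zero_mem, rfl⟩
  obtain ⟨I₀, ⟨m₀, hm₀, rfl⟩, hmax⟩ :=
    (set_has_maximal_iff_noetherian.mpr (inferInstance : IsNoetherian (R ⧸ J) (R ⧸ J))) 𝒮 hne
  set s' := s + m₀ with hs'
  suffices htop : (ord R P s').map mk = ⊤ by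
    have h1 : (1 : R ⧸ J) ∈ (ord R P s').map mk := by rw [htop]; exact mem_top
    obtain ⟨a, ha, hmka⟩ := (Ideal.mem_map_iff_of_surjective mk hmk).mp h1
    obtain ⟨φ, hφ⟩ := mem_ord.mp ha
    have haJ : a - 1 ∈ J := by
      rw [← Ideal.Quotient.eq_zero_iff_mem, map_sub, map_one]
      exact sub_eq_zero.mpr hmka
    have hu : IsUnit a := by
      have := Ideal.mem_jacobson_bot.mp haJ 1
      simpa using this
    obtain ⟨c, hc⟩ := hu.exists_left_inv
    refine ⟨m₀, hm₀, c • φ, ?_⟩
    rw [LinearMap.smul_apply, hφ, smul_eq_mul, hc]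
  by_contra hne_top
  obtain ⟨𝔫, h𝔫max, h𝔫⟩ := Ideal.exists_le_maximal _ hne_top
  let 𝔪 : Ideal R := 𝔫.comap mk
  haveI : 𝔪.IsMaximal := Ideal.comap_isMaximal_of_surjective mk hmk
  -- generators of I₀
  have hfg : ((ord R P s').map mk).FG := IsNoetherian.noetherian _
  obtain ⟨G, hGsub, hGspan⟩ :=
    (Submodule.fg_span_iff_fg_span_finset_subset (mk '' (ord R P s' : Set R))).mp hfg
  have hGφ : ∀ g : G, ∃ φ : P →ₗ[R] R, mk (φ s') = g.1 := by
    intro g
    obtain ⟨a, ha, hag⟩ := hGsub g.2
    obtain ⟨φ, hφ⟩ := mem_ord.mp ha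
    exact ⟨φ, by rw [hφ]; exact hag⟩
  choose φ hφ using hGφ
  let Φ : P →ₗ[R] (G → R ⧸ J) := LinearMap.pi fun g => (Algebra.linearMap R (R ⧸ J)) ∘ₗ φ g
  have hΦ : ∀ x g, Φ x g = mk (φ g x) := fun x g => rfl
  haveI : IsNoetherian R (R ⧸ J) := isNoetherian_quot J
  -- finitely generated part of `M` surjecting onto `Φ M`
  have hW : (M.map Φ).FG := IsNoetherian.noetherian _
  obtain ⟨T, hT⟩ := hW
  have hTm : ∀ t : T, ∃ m ∈ M, Φ m = t.1 := by
    intro t
    have : t.1 ∈ M.map Φ := by rw [← hT]; exact subset_span t.2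
    exact this
  choose mt hmtM hmt using hTm
  let N₀ : Submodule R P := span R (Set.range mt)
  have hN₀fg : N₀.FG := fg_span (Set.finite_range mt)
  have hN₀M : N₀ ≤ M := span_le.mpr (by rintro _ ⟨t, rfl⟩; exact hmtM t)
  have hN₀map : M.map Φ ≤ N₀.map Φ := by
    rw [← hT, span_le]
    intro t ht
    exact ⟨mt ⟨t, ht⟩, subset_span ⟨_, rfl⟩, hmt ⟨t, ht⟩⟩
  have hMle : M ≤ N₀ ⊔ (M ⊓ LinearMap.ker Φ) := by
    intro m hm
    obtain ⟨n₀, hn₀, hn₀m⟩ := hN₀map (Submodule.mem_map_of_mem hm)
    have : m = n₀ + (m - n₀) := by abel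
    rw [this]
    refine add_mem (mem_sup_left hn₀) (mem_sup_right ⟨sub_mem hm (hN₀M hn₀), ?_⟩)
    exact LinearMap.mem_ker.mpr (by rw [map_sub, hn₀m, sub_self])
  -- an element of `M ⊓ ker Φ` outside `𝔪 P`
  have hex : ∃ m' ∈ M ⊓ LinearMap.ker Φ, m' ∉ 𝔪 • (⊤ : Submodule R P) := by
    by_contra hcon
    push Not at hcon
    have hle : M ⊓ LinearMap.ker Φ ≤ 𝔪 • (⊤ : Submodule R P) := hcon
    refine hUB 𝔪 (span R {s} ⊔ N₀) ((fg_span_singleton s).sup hN₀fg) ?_
    refine top_le_iff.mp (hM.ge.trans ?_)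
    refine sup_le (le_sup_of_le_left le_sup_left) (hMle.trans ?_)
    exact sup_le (le_sup_of_le_left le_sup_right) (hle.trans le_sup_right)
  obtain ⟨m', ⟨hm'M, hm'K⟩, hm'𝔪⟩ := hex
  obtain ⟨ψ, hψ⟩ := exists_form_notMem 𝔪 m' hm'𝔪
  have hI₁ : (ord R P (s + (m₀ + m'))).map mk ∈ 𝒮 := ⟨m₀ + m', M.add_mem hm₀ hm'M, rfl⟩
  have hs'' : s + (m₀ + m') = s' + m' := by rw [hs', add_assoc]
  refine hmax _ hI₁ (lt_of_le_not_ge ?_ ?_)
  · rw [show (ord R P s').map mk = Ideal.span (mk '' (ord R P s' : Set R)) from rfl]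
    rw [show Ideal.span (mk '' (ord R P s' : Set R)) = span (R ⧸ J) (G : Set (R ⧸ J)) from hGspan]
    refine span_le.mpr ?_
    intro g hg
    have h1 : mk (φ ⟨g, hg⟩ m') = 0 := by
      have := congr_fun (LinearMap.mem_ker.mp hm'K) ⟨g, hg⟩
      rwa [hΦ] at this
    have h2 : g = mk (φ ⟨g, hg⟩ (s' + m')) := by
      rw [map_add, map_add, h1, add_zero, hφ]
    rw [hs'', h2]
    exact Ideal.mem_map_of_mem mk (mem_ord.mpr ⟨_, rfl⟩)
  · intro hle
    have h1 : mk (ψ (s' + m')) ∈ 𝔫 :=
      h𝔫 (hle (hs'' ▸ Ideal.mem_map_of_mem mk (mem_ord.mpr ⟨ψ, rfl⟩)))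
    have h2 : mk (ψ s') ∈ 𝔫 := h𝔫 (Ideal.mem_map_of_mem mk (mem_ord.mpr ⟨ψ, rfl⟩))
    apply hψ
    have : ψ m' = ψ (s' + m') - ψ s' := by rw [map_add]; ring
    rw [this]
    exact sub_mem (Ideal.mem_comap.mpr h1) (Ideal.mem_comap.mpr h2)

end Main

end Groth.Agent.Lib.Helper16Bass
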