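import Mathlib
import Groth.Agent.Lib.Helper16Bass

set_option autoImplicit false
set_option linter.style.haveILetI false
set_option linter.unusedSectionVars false

universe u

namespace Groth.Agent.Lib.Helper16Bass2

open Submodule Groth.Agent.Lib.Helper16Bass

variable {R : Type u} [CommRing R] [IsNoetherianRing (R ⧸ (⊥ : Ideal R).jacobson)]

theorem peel {N : Type u} [AddCommGroup N] [Module R N] [Module.Projective R N] (hUB : UB R N)
    {E : Type u} [AddCommGroup E] [Module R E] [Module.Finite R E]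
    (ι : E →ₗ[R] N × R) (ρ : N × R →ₗ[R] E) (h : ρ ∘ₗ ι = LinearMap.id) :
    ∃ (ι' : E →ₗ[R] N) (ρ' : N →ₗ[R] E), ρ' ∘ₗ ι' = LinearMap.id ∧
      ∀ t, (ι t).2 = 0 → ι' t = (ι t).1 := by
  have hρι : ∀ t, ρ (ι t) = t := fun t => LinearMap.congr_fun h t
  let pr : N × R →ₗ[R] N × R := LinearMap.id - ι ∘ₗ ρ
  have pr_apply : ∀ y, pr y = y - ι (ρ y) := fun y => rfl
  have hpr : ∀ y, pr y ∈ LinearMap.ker ρ := by
    intro y
    rw [LinearMap.mem_ker, pr_apply, map_sub, hρι, sub_self]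
  let pr₁ : N × R →ₗ[R] LinearMap.ker ρ := pr.codRestrict _ hpr
  have hpr₁ : ∀ y : LinearMap.ker ρ, pr₁ y.1 = y := by
    intro y
    apply Subtype.ext
    rw [LinearMap.codRestrict_apply, pr_apply, LinearMap.mem_ker.mp y.2, map_zero, sub_zero]
  have hsplit : pr₁ ∘ₗ (LinearMap.ker ρ).subtype = LinearMap.id := by
    apply LinearMap.ext
    intro y
    exact hpr₁ y
  haveI : Module.Projective R (LinearMap.ker ρ) :=
    Module.Projective.of_split (LinearMap.ker ρ).subtype pr₁ hsplit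
  have hUB2 : UB R (N × R) := hUB.of_surjective (LinearMap.fst R N R) Prod.fst_surjective
  have hpr₁ι : ∀ t, pr₁ (ι t) = 0 := by
    intro t
    apply Subtype.ext
    rw [LinearMap.codRestrict_apply, pr_apply, hρι, sub_self]
    rfl
  have hker : LinearMap.ker pr₁ = LinearMap.range ι := by
    ext y
    rw [LinearMap.mem_ker, LinearMap.mem_range]
    constructor
    · intro hy
      have : pr y = 0 := congrArg Subtype.val hy
      rw [pr_apply, sub_eq_zero] at this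
      exact ⟨ρ y, this.symm⟩
    · rintro ⟨t, rfl⟩
      exact hpr₁ι t
  have hUB1 : UB R (LinearMap.ker ρ) := by
    refine hUB2.of_retract pr₁ (LinearMap.ker ρ).subtype hsplit ?_
    rw [hker, LinearMap.range_eq_map]
    exact Module.Finite.fg_top.map ι
  let A : LinearMap.ker ρ →ₗ[R] R := (LinearMap.snd R N R) ∘ₗ (LinearMap.ker ρ).subtype
  have A_apply : ∀ y : LinearMap.ker ρ, A y = y.1.2 := fun y => rfl
  let 𝔟 : Submodule R R := LinearMap.range ((LinearMap.snd R N R) ∘ₗ ι)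
  have mem𝔟 : ∀ r, r ∈ 𝔟 ↔ ∃ t, (ι t).2 = r := fun r => Iff.rfl
  let t₀ : E := ρ (0, 1)
  let w₀ : LinearMap.ker ρ := pr₁ (0, 1)
  have hAw₀ : A w₀ = 1 - (ι t₀).2 := by
    rw [A_apply]
    change (pr (0, 1)).2 = _
    rw [pr_apply]
    rfl
  let M : Submodule R (LinearMap.ker ρ) := 𝔟.comap A
  have hM : span R {w₀} ⊔ M = ⊤ := by
    rw [eq_top_iff]
    intro v _
    have hv : v = A v • w₀ + (v - A v • w₀) := by abel
    rw [hv]
    refine add_mem (mem_sup_left (smul_mem _ _ (mem_span_singleton_self _))) (mem_sup_right ?_)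
    change A (v - A v • w₀) ∈ 𝔟
    rw [map_sub, map_smul, hAw₀, smul_eq_mul, mem𝔟]
    refine ⟨A v • t₀, ?_⟩
    rw [map_smul, Prod.smul_snd, smul_eq_mul]
    ring
  obtain ⟨m, hm, ψ, hψ⟩ := exists_unimodular hUB1 w₀ M hM
  obtain ⟨t₁, ht₁⟩ := (mem𝔟 _).mp hm
  let t₂ : E := t₀ - t₁
  let v : LinearMap.ker ρ := w₀ + m
  let vs : N × R := v.1 + ι t₂
  have hvs2 : vs.2 = 1 := by
    change (v.1).2 + (ι t₂).2 = 1
    have h1 : (v.1).2 = A w₀ + A m := by rw [← map_add, A_apply]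
    rw [h1, hAw₀, ← ht₁]
    change _ + (ι (t₀ - t₁)).2 = 1
    rw [map_sub, Prod.snd_sub]
    ring
  have hρvs : ρ vs = t₂ := by
    change ρ (v.1 + ι t₂) = t₂
    rw [map_add, LinearMap.mem_ker.mp v.2, hρι, zero_add]
  have hpr₁vs : pr₁ vs = v := by
    apply Subtype.ext
    rw [LinearMap.codRestrict_apply, pr_apply, hρvs]
    change v.1 + ι t₂ - ι t₂ = v.1
    abel
  let ρs : N × R →ₗ[R] E := ρ - (ψ ∘ₗ pr₁).smulRight t₂
  have ρs_apply : ∀ y, ρs y = ρ y - ψ (pr₁ y) • t₂ := fun y => rfl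
  have hρs_ι : ∀ t, ρs (ι t) = t := by
    intro t
    rw [ρs_apply, hpr₁ι, map_zero, zero_smul, sub_zero, hρι]
  have hρs_vs : ρs vs = 0 := by
    rw [ρs_apply, hpr₁vs, hψ, one_smul, hρvs, sub_self]
  let ι₁ : E →ₗ[R] N × R := ι - ((LinearMap.snd R N R) ∘ₗ ι).smulRight vs
  have ι₁_apply : ∀ t, ι₁ t = ι t - (ι t).2 • vs := fun t => rfl
  have hι₁2 : ∀ t, (ι₁ t).2 = 0 := by
    intro t
    rw [ι₁_apply]
    change (ι t).2 - (ι t).2 • vs.2 = 0
    rw [hvs2, smul_eq_mul, mul_one, sub_self]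
  refine ⟨(LinearMap.fst R N R) ∘ₗ ι₁, ρs ∘ₗ (LinearMap.inl R N R), ?_, ?_⟩
  · apply LinearMap.ext
    intro t
    change ρs ((ι₁ t).1, 0) = t
    have h2 : ((ι₁ t).1, (0 : R)) = ι₁ t := Prod.ext rfl (hι₁2 t).symm
    rw [h2, ι₁_apply, map_sub, map_smul, hρs_ι, hρs_vs, smul_zero, sub_zero]
  · intro t ht
    change (ι₁ t).1 = (ι t).1
    rw [ι₁_apply, ht, zero_smul, sub_zero]


theorem peel_fin : ∀ (a : ℕ) {N : Type u} [AddCommGroup N] [Module R N] [Module.Projective R N]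
    (_ : UB R N) {E : Type u} [AddCommGroup E] [Module R E] [Module.Finite R E]
    (ι : E →ₗ[R] N × (Fin a → R)) (ρ : N × (Fin a → R) →ₗ[R] E) (_ : ρ ∘ₗ ι = LinearMap.id),
    ∃ (ι' : E →ₗ[R] N) (ρ' : N →ₗ[R] E), ρ' ∘ₗ ι' = LinearMap.id ∧
      ∀ t, (ι t).2 = 0 → ι' t = (ι t).1 := by
  intro a
  induction a with
  | zero =>
    intro N _ _ _ hUB E _ _ _ ι ρ h
    refine ⟨(LinearMap.fst R N _) ∘ₗ ι, ρ ∘ₗ (LinearMap.inl R N _), ?_, fun t _ => rfl⟩
    apply LinearMap.ext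
    intro t
    change ρ ((ι t).1, 0) = t
    have h2 : ((ι t).1, (0 : Fin 0 → R)) = ι t := Prod.ext rfl (Subsingleton.elim _ _)
    rw [h2]
    exact LinearMap.congr_fun h t
  | succ a ih =>
    intro N _ _ _ hUB E _ _ _ ι ρ h
    let e : N × (Fin (a + 1) → R) →ₗ[R] (N × (Fin a → R)) × R :=
      LinearMap.prod (LinearMap.prod (LinearMap.fst R N _)
        ((LinearMap.funLeft R R Fin.succ) ∘ₗ LinearMap.snd R N _))
        ((LinearMap.proj 0) ∘ₗ LinearMap.snd R N _)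
    have e_apply : ∀ y, e y = ((y.1, fun i => y.2 i.succ), y.2 0) := fun y => rfl
    let e' : (N × (Fin a → R)) × R →ₗ[R] N × (Fin (a + 1) → R) :=
      LinearMap.prod ((LinearMap.fst R N _) ∘ₗ (LinearMap.fst R _ R))
        (LinearMap.pi (fun i => Fin.cases (motive := fun _ => (N × (Fin a → R)) × R →ₗ[R] R)
          (LinearMap.snd R _ R)
          (fun j => (LinearMap.proj j) ∘ₗ (LinearMap.snd R N (Fin a → R)) ∘ₗ (LinearMap.fst R _ R))
          i))
    have e'_fst : ∀ y, (e' y).1 = y.1.1 := fun y => rfl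
    have e'_zero : ∀ y, (e' y).2 0 = y.2 := fun y => rfl
    have e'_succ : ∀ y j, (e' y).2 (Fin.succ j) = y.1.2 j := fun y j => rfl
    have he : ∀ y, e' (e y) = y := by
      intro y
      refine Prod.ext rfl (funext fun i => ?_)
      refine Fin.cases ?_ (fun j => ?_) i
      · rw [e'_zero, e_apply]
      · rw [e'_succ, e_apply]
    have hUB2 : UB R (N × (Fin a → R)) :=
      hUB.of_surjective (LinearMap.fst R N _) Prod.fst_surjective
    obtain ⟨ι₂, ρ₂, h₂, hι₂⟩ := peel hUB2 (e ∘ₗ ι) (ρ ∘ₗ e') (by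
      apply LinearMap.ext
      intro t
      change ρ (e' (e (ι t))) = t
      rw [he]
      exact LinearMap.congr_fun h t)
    obtain ⟨ι', ρ', h', hι'⟩ := ih hUB ι₂ ρ₂ h₂
    refine ⟨ι', ρ', h', ?_⟩
    intro t ht
    have h1 : ((e ∘ₗ ι) t).2 = 0 := by
      change (e (ι t)).2 = 0
      rw [e_apply, ht]
      rfl
    have h3 := hι₂ t h1
    have h4 : (ι₂ t).2 = 0 := by
      rw [h3]
      change (e (ι t)).1.2 = 0
      rw [e_apply, ht]
      rfl
    rw [hι' t h4, h3]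
    rfl

theorem exists_finset_le_supported {X : Type u} (W : Submodule R (X →₀ R)) (hW : W.FG) :
    ∃ T : Finset X, W ≤ Finsupp.supported R R (T : Set X) := by
  classical
  obtain ⟨G, rfl⟩ := hW
  refine ⟨G.biUnion Finsupp.support, span_le.mpr ?_⟩
  intro g hg
  rw [SetLike.mem_coe, Finsupp.mem_supported]
  intro x hx
  exact Finset.mem_biUnion.mpr ⟨g, hg, hx⟩

theorem exists_free_summand {P : Type u} [AddCommGroup P] [Module R P] [Module.Projective R P]
    (hUB : UB R P) (s : P) :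
    ∃ (K K' : Submodule R P), IsCompl K K' ∧ Module.Finite R K ∧ Module.Free R K ∧ s ∈ K := by
  classical
  obtain ⟨σ, hσ⟩ := Module.projective_def'.mp (inferInstance : Module.Projective R P)
  let lc : (P →₀ R) →ₗ[R] P := Finsupp.linearCombination R id
  have hlc : ∀ x, lc (σ x) = x := fun x => LinearMap.congr_fun hσ x
  let S : Finset P := (σ s).support
  let E : Submodule R (P →₀ R) := Finsupp.supported R R (S : Set P)
  haveI : Module.Finite R E :=
    Module.Finite.equiv (Finsupp.supportedEquivFinsupp (M := R) (R := R) (S : Set P)).symm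
  let q : (P →₀ R) →ₗ[R] (P →₀ R) := LinearMap.id - σ ∘ₗ lc
  have q_apply : ∀ φ, q φ = φ - σ (lc φ) := fun φ => rfl
  let α : (P →₀ R) →ₗ[R] P × (P →₀ R) := LinearMap.prod lc q
  let β : P × (P →₀ R) →ₗ[R] (P →₀ R) := σ ∘ₗ (LinearMap.fst R _ _) + q ∘ₗ (LinearMap.snd R _ _)
  have hβα : ∀ φ, β (α φ) = φ := by
    intro φ
    change σ (lc φ) + q (q φ) = φ
    rw [q_apply, q_apply, map_sub, hlc, sub_self, map_zero, sub_zero]
    abel
  let ι₁ : E →ₗ[R] P × (P →₀ R) := α ∘ₗ E.subtype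
  let ρ₁ : P × (P →₀ R) →ₗ[R] E := (Finsupp.restrictDom R R (S : Set P)) ∘ₗ β
  have h₁ : ∀ t, ρ₁ (ι₁ t) = t := by
    intro t
    change Finsupp.restrictDom R R (S : Set P) (β (α t.1)) = t
    rw [hβα]
    exact LinearMap.congr_fun (Finsupp.restrictDom_comp_subtype (M := R) (R := R) (S : Set P)) t
  obtain ⟨T, hT⟩ := exists_finset_le_supported
    (LinearMap.range ((LinearMap.snd R P (P →₀ R)) ∘ₗ ι₁)) (by
      rw [LinearMap.range_eq_map]
      exact Module.Finite.fg_top.map _)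
  let C : Submodule R (P →₀ R) := Finsupp.supported R R (T : Set P)
  let a := Fintype.card T
  let eC : C ≃ₗ[R] (Fin a → R) :=
    (Finsupp.supportedEquivFinsupp (M := R) (R := R) (T : Set P)) ≪≫ₗ
      (Finsupp.linearEquivFunOnFinite R R T) ≪≫ₗ
        (LinearEquiv.funCongrLeft R R (Fintype.equivFin T).symm)
  let ι : E →ₗ[R] P × (Fin a → R) :=
    LinearMap.prod ((LinearMap.fst R _ _) ∘ₗ ι₁)
      (eC.toLinearMap ∘ₗ ((LinearMap.snd R P (P →₀ R)) ∘ₗ ι₁).codRestrict C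
        (fun t => hT ⟨t, rfl⟩))
  let ρ : P × (Fin a → R) →ₗ[R] E :=
    ρ₁ ∘ₗ LinearMap.prodMap LinearMap.id (C.subtype ∘ₗ eC.symm.toLinearMap)
  let sndr : E →ₗ[R] C := ((LinearMap.snd R P (P →₀ R)) ∘ₗ ι₁).codRestrict C
        (fun t => hT ⟨t, rfl⟩)
  have ι_apply : ∀ t, ι t = ((ι₁ t).1, eC (sndr t)) := fun t => rfl
  have ρ_apply : ∀ y, ρ y = ρ₁ (y.1, (eC.symm y.2).1) := fun y => rfl
  have hρι : ρ ∘ₗ ι = LinearMap.id := by
    apply LinearMap.ext
    intro t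
    rw [LinearMap.comp_apply, ι_apply, ρ_apply, LinearEquiv.symm_apply_apply]
    exact h₁ t
  obtain ⟨ι', ρ', h', hι'⟩ := peel_fin a (N := P) hUB (E := E) ι ρ hρι
  have hρ'ι' : ∀ t, ρ' (ι' t) = t := fun t => LinearMap.congr_fun h' t
  let ts : E := ⟨σ s, (Finsupp.mem_supported R (σ s)).mpr (le_refl _)⟩
  have hts1 : ι₁ ts = (s, 0) := by
    change (lc (σ s), q (σ s)) = (s, 0)
    rw [q_apply, hlc, sub_self]
  have hts : ι' ts = s := by
    rw [hι' ts]
    · rw [ι_apply]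
      change (ι₁ ts).1 = s
      rw [hts1]
    · rw [ι_apply]
      change eC (sndr ts) = 0
      rw [LinearEquiv.map_eq_zero_iff]
      apply Subtype.ext
      change (ι₁ ts).2 = 0
      rw [hts1]
  have hinj : Function.Injective ι' := Function.LeftInverse.injective hρ'ι'
  let f : P →ₗ[R] LinearMap.range ι' := ι'.rangeRestrict ∘ₗ ρ'
  have hf : ∀ x : LinearMap.range ι', f x = x := by
    rintro ⟨_, t, rfl⟩
    apply Subtype.ext
    change ι' (ρ' (ι' t)) = ι' t
    rw [hρ'ι']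
  refine ⟨LinearMap.range ι', LinearMap.ker f, LinearMap.isCompl_of_proj hf, ?_, ?_, ⟨ts, hts⟩⟩
  · exact Module.Finite.equiv (LinearEquiv.ofInjective ι' hinj)
  · haveI : Module.Free R E :=
      Module.Free.of_equiv (Finsupp.supportedEquivFinsupp (M := R) (R := R) (S : Set P)).symm
    exact Module.Free.of_equiv (LinearEquiv.ofInjective ι' hinj)

end Groth.Agent.Lib.Helper16Bass2
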