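import Mathlib
import Groth.Agent.Lib.Helper16Bass
import Groth.Agent.Lib.Helper16Bass2

set_option autoImplicit false
set_option linter.style.haveILetI false
set_option linter.unusedSectionVars false

universe u

namespace Groth.Agent.Lib.Helper16Bass3

open Submodule Groth.Agent.Lib.Helper16Bass Groth.Agent.Lib.Helper16Bass2

/-- A stage of the construction: a finite linearly independent set whose span has a complement. -/
structure Stage (R : Type u) [CommRing R] (P : Type u) [AddCommGroup P] [Module R P] where
  B : Set P
  C : Submodule R P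
  li : LinearIndepOn R id B
  fin : B.Finite
  compl : IsCompl (span R B) C

variable {R : Type u} [CommRing R] [IsNoetherianRing (R ⧸ (⊥ : Ideal R).jacobson)]
  {P : Type u} [AddCommGroup P] [Module R P] [Module.Projective R P]

theorem Stage.step (hUB : UB R P) (st : Stage R P) (x : P) :
    ∃ st' : Stage R P, st.B ⊆ st'.B ∧ x ∈ span R st'.B := by
  obtain ⟨B, C, li, fin, compl⟩ := st
  set L := span R B with hL
  let π : P →ₗ[R] C := C.projectionOnto L compl.symm
  have hπC : ∀ c : C, π c.1 = c := fun c => Submodule.projectionOnto_apply_left compl.symm c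
  have hπker : LinearMap.ker π = L := Submodule.ker_projectionOnto compl.symm
  have hsplit : π ∘ₗ C.subtype = LinearMap.id := Submodule.projectionOnto_comp_subtype compl.symm
  haveI : Module.Projective R C := Module.Projective.of_split C.subtype π hsplit
  have hUBC : UB R C := hUB.of_retract π C.subtype hsplit (by rw [hπker]; exact fg_span fin)
  obtain ⟨K, K', hKK', hKfin, hKfree, hcK⟩ := exists_free_summand hUBC (π x)
  let b := Module.Free.chooseBasis R K
  let j : K →ₗ[R] P := C.subtype ∘ₗ K.subtype
  have hj : Function.Injective j := C.injective_subtype.comp K.injective_subtype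
  let g : Module.Free.ChooseBasisIndex R K → P := fun i => j (b i)
  have hgli : LinearIndependent R g := b.linearIndependent.map' j (LinearMap.ker_eq_bot.mpr hj)
  have hgspan : span R (Set.range g) = K.map C.subtype := by
    have : Set.range g = j '' Set.range b := Set.range_comp j b
    rw [this, ← Submodule.map_span, b.span_eq, Submodule.map_comp, Submodule.map_subtype_top]
  have hKC : K.map C.subtype ≤ C := by
    rintro _ ⟨k, _, rfl⟩
    exact k.2
  have hsup : K.map C.subtype ⊔ K'.map C.subtype = C := by
    rw [← Submodule.map_sup, hKK'.sup_eq_top, Submodule.map_subtype_top]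
  have hdisj : Disjoint (K.map C.subtype) (K'.map C.subtype) := by
    rw [disjoint_iff, ← Submodule.map_inf _ C.injective_subtype, hKK'.inf_eq_bot,
      Submodule.map_bot]
  have hcompl' : IsCompl (L ⊔ K.map C.subtype) (K'.map C.subtype) :=
    hdisj.isCompl_sup_left_of_isCompl_sup_right (by rw [hsup]; exact compl)
  refine ⟨⟨B ∪ Set.range g, K'.map C.subtype, ?_, fin.union (Set.finite_range g), ?_⟩,
    Set.subset_union_left, ?_⟩
  · refine li.id_union hgli.linearIndepOn_id ?_
    rw [hgspan]
    exact compl.disjoint.mono_right hKC
  · rw [span_union, hgspan]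
    exact hcompl'
  · change x ∈ span R (B ∪ Set.range g)
    rw [span_union, hgspan]
    have hx : x = (x - (π x).1) + (π x).1 := by abel
    rw [hx]
    refine add_mem (mem_sup_left ?_) (mem_sup_right ⟨π x, hcK, rfl⟩)
    change x - (π x).1 ∈ L
    rw [← hπker, LinearMap.mem_ker, map_sub, hπC, sub_self]

/-- The sequence of stages absorbing the elements `p k`. -/
noncomputable def stages (hUB : UB R P) (p : ℕ → P) : ℕ → Stage R P
  | 0 => ⟨∅, ⊤, linearIndepOn_empty R id, Set.finite_empty, by
      rw [span_empty]; exact isCompl_bot_top⟩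
  | k + 1 => Classical.choose (Stage.step hUB (stages hUB p k) (p k))

theorem stages_succ_sub (hUB : UB R P) (p : ℕ → P) (k : ℕ) :
    (stages hUB p k).B ⊆ (stages hUB p (k + 1)).B :=
  (Classical.choose_spec (Stage.step hUB (stages hUB p k) (p k))).1

theorem stages_succ_mem (hUB : UB R P) (p : ℕ → P) (k : ℕ) :
    p k ∈ span R (stages hUB p (k + 1)).B :=
  (Classical.choose_spec (Stage.step hUB (stages hUB p k) (p k))).2

theorem free_of_countable (hUB : UB R P) (S : Set P) (hS : S.Countable)
    (hspan : span R S = ⊤) : Module.Free R P := by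
  have hS' : (insert 0 S).Countable := hS.insert 0
  obtain ⟨p, hp⟩ := hS'.exists_eq_range (Set.insert_nonempty 0 S)
  let Bs : ℕ → Set P := fun k => (stages hUB p k).B
  have hmono : Monotone Bs := monotone_nat_of_le_succ (stages_succ_sub hUB p)
  have hdir : Directed (· ⊆ ·) Bs := hmono.directed_le
  have hli : LinearIndepOn R id (⋃ k, Bs k) :=
    linearIndepOn_iUnion_of_directed hdir (fun k => (stages hUB p k).li)
  have htop : ⊤ ≤ span R (⋃ k, Bs k) := by
    rw [← hspan]
    refine span_le.mpr ?_
    intro x hx
    have hx' : x ∈ Set.range p := hp ▸ Set.mem_insert_of_mem 0 hx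
    obtain ⟨k, rfl⟩ := hx'
    exact span_mono (Set.subset_iUnion Bs (k + 1)) (stages_succ_mem hUB p k)
  have hli' : LinearIndependent R ((↑) : (⋃ k, Bs k) → P) := hli
  exact Module.Free.of_basis (Module.Basis.mk hli' (by rwa [Subtype.range_coe]))

end Groth.Agent.Lib.Helper16Bass3
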