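import Mathlib

/-!
# Extension by zero along `Over.forget X` for abelian presheaves (helper9)

For a category `C` and an object `X`, the restriction functor
`(Cᵒᵖ ⥤ Ab) ⥤ ((Over X)ᵒᵖ ⥤ Ab)` along `Over.forget X` has an explicit left adjoint `extZero X`,
with `(extZero X N)(U) = ⨁_{φ : U ⟶ X} N(φ)`.  It preserves monomorphisms (hence is exact).
-/

set_option autoImplicit false

universe w v₁ u₁

open CategoryTheory Limits Opposite

namespace Groth.Agent.Lib.Helper9.ExtZero

open scoped DirectSum

section Presheaf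

attribute [local instance] Classical.propDecidable

variable {C : Type u₁} [Category.{v₁} C] (X : C)

/-- the summands -/
abbrev summand (N : (Over X)ᵒᵖ ⥤ AddCommGrpCat.{max v₁ w}) (U : C) (φ : U ⟶ X) :
    Type (max v₁ w) := N.obj (op (Over.mk φ))

/-- sections of the extension by zero over `U` -/
abbrev Sec (N : (Over X)ᵒᵖ ⥤ AddCommGrpCat.{max v₁ w}) (U : C) : Type (max v₁ w) :=
  ⨁ φ : U ⟶ X, summand X N U φ

variable {X}

/-- the restriction maps -/
noncomputable def res (N : (Over X)ᵒᵖ ⥤ AddCommGrpCat.{max v₁ w}) {U V : C} (g : V ⟶ U) :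
    Sec X N U →+ Sec X N V :=
  DirectSum.toAddMonoid (fun φ => (DirectSum.of (summand X N V) (g ≫ φ)).comp
    (N.map (Over.homMk g rfl : Over.mk (g ≫ φ) ⟶ Over.mk φ).op).hom)

lemma res_of (N : (Over X)ᵒᵖ ⥤ AddCommGrpCat.{max v₁ w}) {U V : C} (g : V ⟶ U) (φ : U ⟶ X)
    (ψ : V ⟶ X) (h : g ≫ φ = ψ) (x : summand X N U φ) :
    res N g (DirectSum.of (summand X N U) φ x) =
      DirectSum.of (summand X N V) ψ
        ((N.map (Over.homMk g h : Over.mk ψ ⟶ Over.mk φ).op).hom x) := by
  subst h
  simp [res]

/-- extension by zero of an abelian presheaf on `Over X` -/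
noncomputable def extZeroObj (N : (Over X)ᵒᵖ ⥤ AddCommGrpCat.{max v₁ w}) :
    Cᵒᵖ ⥤ AddCommGrpCat.{max v₁ w} where
  obj U := AddCommGrpCat.of (Sec X N U.unop)
  map f := AddCommGrpCat.ofHom (res N f.unop)
  map_id U := by
    apply AddCommGrpCat.hom_ext
    refine DirectSum.addHom_ext (fun φ x => ?_)
    change res N (𝟙 U.unop) (DirectSum.of _ φ x) = DirectSum.of _ φ x
    rw [res_of N (𝟙 U.unop) φ φ (Category.id_comp φ)]
    have : (Over.homMk (𝟙 U.unop) (Category.id_comp φ) : Over.mk φ ⟶ Over.mk φ) = 𝟙 _ := by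
      ext; rfl
    rw [this]
    simp
  map_comp {U V W} f g := by
    apply AddCommGrpCat.hom_ext
    refine DirectSum.addHom_ext (fun φ x => ?_)
    change res N (g.unop ≫ f.unop) (DirectSum.of _ φ x) =
      res N g.unop (res N f.unop (DirectSum.of _ φ x))
    rw [res_of N (g.unop ≫ f.unop) φ (g.unop ≫ f.unop ≫ φ) (Category.assoc _ _ _),
      res_of N f.unop φ _ rfl, res_of N g.unop _ _ rfl]
    congr 1
    have : (Over.homMk (g.unop ≫ f.unop) (Category.assoc _ _ _) :
        Over.mk (g.unop ≫ f.unop ≫ φ) ⟶ Over.mk φ) =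
        (Over.homMk g.unop rfl : Over.mk (g.unop ≫ f.unop ≫ φ) ⟶ Over.mk (f.unop ≫ φ)) ≫
          (Over.homMk f.unop rfl : Over.mk (f.unop ≫ φ) ⟶ Over.mk φ) := by
      ext; rfl
    rw [this, op_comp, N.map_comp]
    rfl

/-- the map induced on sections by a morphism of presheaves -/
noncomputable def secMap {N N' : (Over X)ᵒᵖ ⥤ AddCommGrpCat.{max v₁ w}} (τ : N ⟶ N') (U : C) :
    Sec X N U →+ Sec X N' U :=
  DirectSum.map (fun φ => (τ.app (op (Over.mk φ))).hom)

lemma secMap_of {N N' : (Over X)ᵒᵖ ⥤ AddCommGrpCat.{max v₁ w}} (τ : N ⟶ N') (U : C)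
    (φ : U ⟶ X) (x : summand X N U φ) :
    secMap τ U (DirectSum.of (summand X N U) φ x) =
      DirectSum.of (summand X N' U) φ ((τ.app (op (Over.mk φ))).hom x) :=
  DirectSum.map_of _ _ _

/-- extension by zero, on morphisms -/
noncomputable def extZeroMap {N N' : (Over X)ᵒᵖ ⥤ AddCommGrpCat.{max v₁ w}} (τ : N ⟶ N') :
    extZeroObj N ⟶ extZeroObj N' where
  app U := AddCommGrpCat.ofHom (secMap τ U.unop)
  naturality {U V} f := by
    apply AddCommGrpCat.hom_ext
    refine DirectSum.addHom_ext (fun φ x => ?_)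
    change secMap τ V.unop (res N f.unop (DirectSum.of _ φ x)) =
      res N' f.unop (secMap τ U.unop (DirectSum.of _ φ x))
    rw [res_of N f.unop φ _ rfl, secMap_of, secMap_of, res_of N' f.unop φ _ rfl]
    congr 1
    exact ConcreteCategory.congr_hom (τ.naturality
      (Over.homMk f.unop rfl : Over.mk (f.unop ≫ φ) ⟶ Over.mk φ).op) x

variable (X) in
/-- extension by zero along `Over.forget X`, on abelian presheaves -/
noncomputable def extZero :
    ((Over X)ᵒᵖ ⥤ AddCommGrpCat.{max v₁ w}) ⥤ (Cᵒᵖ ⥤ AddCommGrpCat.{max v₁ w}) where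
  obj N := extZeroObj N
  map τ := extZeroMap τ
  map_id N := by
    apply NatTrans.ext
    funext U
    apply AddCommGrpCat.hom_ext
    refine DirectSum.addHom_ext (fun φ x => ?_)
    change secMap (𝟙 N) U.unop (DirectSum.of _ φ x) = DirectSum.of _ φ x
    rw [secMap_of]
    rfl
  map_comp {N N' N''} τ σ := by
    apply NatTrans.ext
    funext U
    apply AddCommGrpCat.hom_ext
    refine DirectSum.addHom_ext (fun φ x => ?_)
    change secMap (τ ≫ σ) U.unop (DirectSum.of _ φ x) =
      secMap σ U.unop (secMap τ U.unop (DirectSum.of _ φ x))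
    rw [secMap_of, secMap_of, secMap_of]
    rfl

/-- `extZero` preserves monomorphisms -/
instance extZero_preservesMonomorphisms : (extZero.{w} X).PreservesMonomorphisms where
  preserves {N N'} τ hτ := by
    rw [NatTrans.mono_iff_mono_app]
    intro U
    rw [AddCommGrpCat.mono_iff_injective]
    change Function.Injective (secMap τ U.unop)
    rw [secMap, DirectSum.map_injective]
    intro φ
    have := (NatTrans.mono_iff_mono_app τ).1 hτ (op (Over.mk φ))
    exact (AddCommGrpCat.mono_iff_injective _).1 this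

/-- the inclusion of a summand -/
noncomputable def ιSec (N : (Over X)ᵒᵖ ⥤ AddCommGrpCat.{max v₁ w}) (Y : (Over X)ᵒᵖ) :
    N.obj Y ⟶ (extZeroObj N).obj (op Y.unop.left) :=
  AddCommGrpCat.ofHom (DirectSum.of (summand X N Y.unop.left) Y.unop.hom)

lemma ιSec_apply (N : (Over X)ᵒᵖ ⥤ AddCommGrpCat.{max v₁ w}) (Y : (Over X)ᵒᵖ) (x : N.obj Y) :
    (ιSec N Y).hom x = DirectSum.of (summand X N Y.unop.left) Y.unop.hom x := rfl

lemma ιSec_naturality (N : (Over X)ᵒᵖ ⥤ AddCommGrpCat.{max v₁ w}) {Y Y' : (Over X)ᵒᵖ}
    (h : Y ⟶ Y') :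
    N.map h ≫ ιSec N Y' = ιSec N Y ≫ (extZeroObj N).map h.unop.left.op := by
  apply AddCommGrpCat.hom_ext
  ext x
  change DirectSum.of (summand X N Y'.unop.left) Y'.unop.hom ((N.map h).hom x) =
    res N h.unop.left (DirectSum.of (summand X N Y.unop.left) Y.unop.hom x)
  rw [res_of N h.unop.left Y.unop.hom Y'.unop.hom (Over.w h.unop)]
  rfl

/-- the components of the transpose of a map out of an extension by zero -/
noncomputable def descSec (N : (Over X)ᵒᵖ ⥤ AddCommGrpCat.{max v₁ w})
    (P : Cᵒᵖ ⥤ AddCommGrpCat.{max v₁ w}) (β : N ⟶ (Over.forget X).op ⋙ P) (U : Cᵒᵖ) :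
    (extZeroObj N).obj U ⟶ P.obj U :=
  AddCommGrpCat.ofHom (DirectSum.toAddMonoid (fun φ : U.unop ⟶ X => (β.app (op (Over.mk φ))).hom))

lemma descSec_of (N : (Over X)ᵒᵖ ⥤ AddCommGrpCat.{max v₁ w})
    (P : Cᵒᵖ ⥤ AddCommGrpCat.{max v₁ w}) (β : N ⟶ (Over.forget X).op ⋙ P) (U : Cᵒᵖ)
    (φ : U.unop ⟶ X) (x : summand X N U.unop φ) :
    (descSec N P β U).hom (DirectSum.of (summand X N U.unop) φ x) =
      (β.app (op (Over.mk φ))).hom x :=
  DirectSum.toAddMonoid_of _ _ _

/-- the hom equivalence of the adjunction between extension by zero and restriction -/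
noncomputable def homEquiv (N : (Over X)ᵒᵖ ⥤ AddCommGrpCat.{max v₁ w})
    (P : Cᵒᵖ ⥤ AddCommGrpCat.{max v₁ w}) :
    ((extZero.{w} X).obj N ⟶ P) ≃ (N ⟶ (Over.forget X).op ⋙ P) where
  toFun α :=
    { app := fun Y => ιSec N Y ≫ α.app (op Y.unop.left)
      naturality := fun Y Y' h => by
        rw [← Category.assoc, ιSec_naturality, Category.assoc, Category.assoc]
        congr 1
        exact α.naturality h.unop.left.op }
  invFun β :=
    { app := fun U => descSec N P β U
      naturality := fun U V f => by
        apply AddCommGrpCat.hom_ext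
        refine DirectSum.addHom_ext (fun φ x => ?_)
        change (descSec N P β V).hom (res N f.unop (DirectSum.of _ φ x)) =
          (P.map f).hom ((descSec N P β U).hom (DirectSum.of _ φ x))
        rw [res_of N f.unop φ _ rfl, descSec_of, descSec_of]
        exact ConcreteCategory.congr_hom (β.naturality
          (Over.homMk f.unop rfl : Over.mk (f.unop ≫ φ) ⟶ Over.mk φ).op) x }
  left_inv α := by
    apply NatTrans.ext
    funext U
    apply AddCommGrpCat.hom_ext
    refine DirectSum.addHom_ext (fun φ x => ?_)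
    exact descSec_of N P _ U φ x
  right_inv β := by
    apply NatTrans.ext
    funext Y
    apply AddCommGrpCat.hom_ext
    ext x
    exact descSec_of N P β (op Y.unop.left) Y.unop.hom x

variable (X) in
/-- extension by zero is left adjoint to restriction along `Over.forget X` -/
noncomputable def adj : extZero.{w} X ⊣
    (Functor.whiskeringLeft _ _ AddCommGrpCat.{max v₁ w}).obj (Over.forget X).op :=
  Adjunction.mkOfHomEquiv
    { homEquiv := fun N P => homEquiv N P
      homEquiv_naturality_left_symm := fun {N N' P} τ β => by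
        apply NatTrans.ext
        funext U
        apply AddCommGrpCat.hom_ext
        refine DirectSum.addHom_ext (fun φ x => ?_)
        change (descSec N P (τ ≫ β) U).hom (DirectSum.of _ φ x) =
          (descSec N' P β U).hom (secMap τ U.unop (DirectSum.of _ φ x))
        rw [secMap_of, descSec_of, descSec_of]
        rfl
      homEquiv_naturality_right := fun {N P P'} α g => by
        apply NatTrans.ext
        funext Y
        exact (Category.assoc _ _ _).symm }

lemma adj_homEquiv (N : (Over X)ᵒᵖ ⥤ AddCommGrpCat.{max v₁ w})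
    (P : Cᵒᵖ ⥤ AddCommGrpCat.{max v₁ w}) : (adj.{w} X).homEquiv N P = homEquiv N P := by
  ext α : 1
  simp [adj, Adjunction.mkOfHomEquiv_homEquiv]

instance extZero_additive : (extZero.{w} X).Additive := (adj.{w} X).left_adjoint_additive

instance extZero_preservesFiniteColimits : PreservesFiniteColimits (extZero.{w} X) := by
  haveI : PreservesColimitsOfSize.{0, 0} (extZero.{w} X) :=
    (adj.{w} X).leftAdjoint_preservesColimits
  exact PreservesColimitsOfSize.preservesFiniteColimits _

instance extZero_preservesFiniteLimits : PreservesFiniteLimits (extZero.{w} X) := by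
  haveI : (extZero.{w} X).PreservesHomology :=
    Functor.preservesHomology_of_preservesMonos_and_cokernels _
  exact Functor.preservesFiniteLimits_of_preservesHomology _

end Presheaf

section Sheaf

variable {C : Type u₁} [Category.{v₁} C] (J : GrothendieckTopology C) (X : C)
  [HasSheafify J AddCommGrpCat.{max v₁ w}]

/-- extension by zero of abelian sheaves from the localized site `C/X` -/
noncomputable def shExtZero :
    Sheaf (J.over X) AddCommGrpCat.{max v₁ w} ⥤ Sheaf J AddCommGrpCat.{max v₁ w} :=
  sheafToPresheaf (J.over X) _ ⋙ extZero.{w} X ⋙ presheafToSheaf J _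

/-- extension by zero is left adjoint to restriction to `C/X` -/
noncomputable def shAdj : shExtZero.{w} J X ⊣
    (Over.forget X).sheafPushforwardContinuous AddCommGrpCat.{max v₁ w} (J.over X) J :=
  Adjunction.restrictFullyFaithful
    ((adj.{w} X).comp (sheafificationAdjunction J AddCommGrpCat.{max v₁ w}))
    (fullyFaithfulSheafToPresheaf _ _) (Functor.FullyFaithful.id _) (Iso.refl _) (Iso.refl _)

instance restr_additive : ((Over.forget X).sheafPushforwardContinuous
    AddCommGrpCat.{max v₁ w} (J.over X) J).Additive where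
  map_add := by intros; rfl

instance shExtZero_additive : (shExtZero.{w} J X).Additive :=
  (shAdj.{w} J X).left_adjoint_additive

instance shExtZero_preservesFiniteColimits : PreservesFiniteColimits (shExtZero.{w} J X) := by
  haveI : PreservesColimitsOfSize.{0, 0} (shExtZero.{w} J X) :=
    (shAdj.{w} J X).leftAdjoint_preservesColimits
  exact PreservesColimitsOfSize.preservesFiniteColimits _

instance shExtZero_preservesFiniteLimits : PreservesFiniteLimits (shExtZero.{w} J X) := by
  unfold shExtZero
  infer_instance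

/-- any left adjoint of restriction to `C/X` is exact -/
theorem preservesFiniteLimits_of_adj
    {L : Sheaf (J.over X) AddCommGrpCat.{max v₁ w} ⥤ Sheaf J AddCommGrpCat.{max v₁ w}}
    (adjL : L ⊣ (Over.forget X).sheafPushforwardContinuous AddCommGrpCat.{max v₁ w} (J.over X) J) :
    PreservesFiniteLimits L :=
  preservesFiniteLimits_of_natIso ((shAdj.{w} J X).leftAdjointUniq adjL)

end Sheaf

section Faithful

attribute [local instance] Classical.propDecidable

variable {C : Type u₁} [Category.{v₁} C] (J : GrothendieckTopology C) (X : C)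
  [HasSheafify J AddCommGrpCat.{max v₁ u₁}]

/-- extension by zero of abelian sheaves kills no nonzero morphism -/
theorem eq_zero_of_shExtZero_map_eq_zero {N N' : Sheaf (J.over X) AddCommGrpCat.{max v₁ u₁}}
    (h : N ⟶ N') (hh : (shExtZero.{u₁} J X).map h = 0) : h = 0 := by
  have hh' : sheafifyMap J (extZeroMap h.hom) = 0 := congrArg (fun t => t.hom) hh
  have nat := toSheafify_naturality J (extZeroMap h.hom)
  rw [hh', comp_zero] at nat
  apply Sheaf.hom_ext
  apply NatTrans.ext
  funext Y
  apply AddCommGrpCat.hom_ext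
  ext x
  change (h.hom.app Y).hom x = 0
  -- the section of the extension by zero attached to `h x`
  have h1 : ((toSheafify J (extZeroObj N'.obj)).app (op Y.unop.left)).hom
      (DirectSum.of (summand X N'.obj Y.unop.left) Y.unop.hom ((h.hom.app Y).hom x)) = 0 := by
    have := ConcreteCategory.congr_hom (NatTrans.congr_app nat (op Y.unop.left))
      (DirectSum.of (summand X N.obj Y.unop.left) Y.unop.hom x)
    rw [NatTrans.comp_app, ConcreteCategory.comp_apply] at this
    refine Eq.trans ?_ this
    congr 1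
    exact (secMap_of h.hom Y.unop.left Y.unop.hom x).symm
  have h2 := Presheaf.equalizerSieve_mem J (toSheafify J (extZeroObj N'.obj))
    (X := op Y.unop.left)
    (DirectSum.of (summand X N'.obj Y.unop.left) Y.unop.hom ((h.hom.app Y).hom x) :
      Sec X N'.obj Y.unop.left) (0 : Sec X N'.obj Y.unop.left)
    (h1.trans (map_zero _).symm)
  refine Sheaf.isSeparated N' Y.unop ((Sieve.overEquiv Y.unop).symm _)
    (GrothendieckTopology.overEquiv_symm_mem_over J Y.unop _ h2) _ _ ?_
  intro Z g hg
  rw [Sieve.overEquiv_symm_iff] at hg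
  have h3 : res N'.obj g.left (DirectSum.of (summand X N'.obj Y.unop.left) Y.unop.hom
      ((h.hom.app Y).hom x)) = res N'.obj g.left 0 := hg
  rw [res_of N'.obj g.left Y.unop.hom Z.hom (Over.w g), map_zero] at h3
  have h4 := DirectSum.of_injective (β := summand X N'.obj Z.left) Z.hom
    (h3.trans (map_zero _).symm)
  rw [map_zero]
  exact h4

instance shExtZero_faithful : (shExtZero.{u₁} J X).Faithful where
  map_injective {N N'} f g hfg := by
    have := eq_zero_of_shExtZero_map_eq_zero J X (f - g) (by
      rw [Functor.map_sub, hfg, sub_self])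
    exact sub_eq_zero.1 this

end Faithful

section OverMap

variable {C : Type u₁} [Category.{v₁} C] (J : GrothendieckTopology C) {X Y : C} (f : X ⟶ Y)
  [HasSheafify (J.over Y) AddCommGrpCat.{max v₁ w}]

/-- any left adjoint of restriction along `Over.map f` (on abelian sheaves) is exact: it is
extension by zero from the localization of `C/Y` at `f`, up to the iterated slice equivalence -/
theorem preservesFiniteLimits_of_adj_overMap
    {L : Sheaf (J.over X) AddCommGrpCat.{max v₁ w} ⥤ Sheaf (J.over Y) AddCommGrpCat.{max v₁ w}}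
    (adjL : L ⊣ J.overMapPullback AddCommGrpCat.{max v₁ w} f) : PreservesFiniteLimits L := by
  let T : Over Y := Over.mk f
  let Fw : Over T ⥤ Over X := T.iteratedSliceForward
  let Bw : Over X ⥤ Over T := T.iteratedSliceBackward
  let JT : GrothendieckTopology (Over T) := (J.over Y).over T
  haveI hFw : Fw.IsContinuous JT (J.over X) :=
    inferInstanceAs (T.iteratedSliceForward.IsContinuous ((J.over Y).over T) (J.over T.left))
  haveI hBw : Bw.IsContinuous (J.over X) JT :=
    inferInstanceAs (T.iteratedSliceBackward.IsContinuous (J.over T.left) ((J.over Y).over T))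
  haveI : T.iteratedSliceEquiv.functor.IsContinuous JT (J.over X) := hFw
  haveI : T.iteratedSliceEquiv.inverse.IsContinuous (J.over X) JT := hBw
  haveI : T.iteratedSliceEquiv.symm.functor.IsContinuous (J.over X) JT := hBw
  haveI : T.iteratedSliceEquiv.symm.inverse.IsContinuous JT (J.over X) := hFw
  let FwS : Sheaf (J.over X) AddCommGrpCat.{max v₁ w} ⥤ Sheaf JT AddCommGrpCat.{max v₁ w} :=
    Fw.sheafPushforwardContinuous AddCommGrpCat.{max v₁ w} JT (J.over X)
  let BwS : Sheaf JT AddCommGrpCat.{max v₁ w} ⥤ Sheaf (J.over X) AddCommGrpCat.{max v₁ w} :=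
    Bw.sheafPushforwardContinuous AddCommGrpCat.{max v₁ w} (J.over X) JT
  have adj₁ : FwS ⊣ BwS :=
    Adjunction.sheafPushforwardContinuous (E := AddCommGrpCat.{max v₁ w})
      T.iteratedSliceEquiv.toAdjunction JT (J.over X)
  have adj₁' : BwS ⊣ FwS :=
    Adjunction.sheafPushforwardContinuous (E := AddCommGrpCat.{max v₁ w})
      T.iteratedSliceEquiv.symm.toAdjunction (J.over X) JT
  have adj₂ := shAdj.{w} (J.over Y) T
  have iso : (Over.forget T).sheafPushforwardContinuous AddCommGrpCat.{max v₁ w} JT (J.over Y) ⋙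
      BwS ≅ J.overMapPullback AddCommGrpCat.{max v₁ w} f :=
    Iso.refl _
  have adj₃ : FwS ⋙ shExtZero.{w} (J.over Y) T ⊣ J.overMapPullback AddCommGrpCat.{max v₁ w} f :=
    (adj₁.comp adj₂).ofNatIsoRight iso
  haveI : PreservesLimitsOfSize.{0, 0} FwS := adj₁'.rightAdjoint_preservesLimits
  haveI : PreservesFiniteLimits FwS := PreservesLimitsOfSize.preservesFiniteLimits _
  exact preservesFiniteLimits_of_natIso (adj₃.leftAdjointUniq adjL)

end OverMap

section Abstract

universe v₂ v₃ u₂ u₃

variable {𝒞 : Type u₂} [Category.{v₂} 𝒞] {𝒟 : Type u₃} [Category.{v₃} 𝒟] [Abelian 𝒞] [Abelian 𝒟]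

/-- a right adjoint whose left adjoint is exact preserves K-injective complexes
(same statement as helper16's `isKInjective_map_of_adjunction`) -/
lemma isKInjective_map_of_adjunction {L : 𝒞 ⥤ 𝒟} {R : 𝒟 ⥤ 𝒞} (adj : L ⊣ R) [L.Additive]
    [R.Additive] [PreservesFiniteLimits L] [PreservesFiniteColimits L]
    (I : CochainComplex 𝒟 ℤ) [I.IsKInjective] :
    CochainComplex.IsKInjective ((R.mapHomologicalComplex (ComplexShape.up ℤ)).obj I) where
  nonempty_homotopy_zero {K} f hK := by
    let φ : ∀ n, K.X n ⟶ R.obj (I.X n) := fun n => f.f n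
    have hφ : ∀ i j, φ i ≫ R.map (I.d i j) = K.d i j ≫ φ j := fun i j => f.comm i j
    let f' : (L.mapHomologicalComplex (ComplexShape.up ℤ)).obj K ⟶ I :=
      { f := fun n => (adj.homEquiv _ _).symm (φ n)
        comm' := fun i j _ => by
          change (adj.homEquiv _ _).symm (φ i) ≫ I.d i j =
            L.map (K.d i j) ≫ (adj.homEquiv _ _).symm (φ j)
          rw [← Adjunction.homEquiv_naturality_left_symm,
            ← Adjunction.homEquiv_naturality_right_symm, hφ] }
    have hLK : ((L.mapHomologicalComplex (ComplexShape.up ℤ)).obj K).Acyclic := by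
      intro i
      exact (hK i).map L
    have h := CochainComplex.IsKInjective.homotopyZero f' hLK
    let u : K ⟶ (R.mapHomologicalComplex (ComplexShape.up ℤ)).obj
        ((L.mapHomologicalComplex (ComplexShape.up ℤ)).obj K) :=
      { f := fun n => adj.unit.app (K.X n)
        comm' := fun i j _ => (adj.unit.naturality (K.d i j)).symm }
    have hf : f = u ≫ (R.mapHomologicalComplex (ComplexShape.up ℤ)).map f' := by
      ext n
      change φ n = adj.unit.app _ ≫ R.map ((adj.homEquiv _ _).symm (φ n))
      exact ((adj.homEquiv _ _).apply_symm_apply (φ n)).symm.trans (adj.homEquiv_unit _ _ _)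
    have h2 := (R.mapHomotopy h).compLeft u
    rw [← hf, Functor.map_zero, comp_zero] at h2
    exact ⟨h2⟩

end Abstract

end Groth.Agent.Lib.Helper9.ExtZero
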