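import Mathlib
import Groth.Prelude.Def_BigSite
import Groth.Agent.Lib.Helper6AnEpsPull
import Groth.Agent.S6638

set_option autoImplicit false
set_option linter.style.haveILetI false
universe u
open CategoryTheory CategoryTheory.Limits AlgebraicGeometry Opposite

namespace Groth.Agent.Lib.Helper16.BigSmall

variable (K : Precoverage Scheme.{u}) (S : Scheme.{u})

instance preservesFiniteLimits_a : PreservesFiniteLimits (EtFppf.a S) :=
  inferInstanceAs <| PreservesFiniteLimits (MorphismProperty.Over.forget _ _ _)

instance flat_a : RepresentablyFlat (EtFppf.a S) := flat_of_preservesFiniteLimits _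

instance hasExactColimits_costructuredArrow_a (d : (Over S)ᵒᵖ) :
    HasExactColimitsOfShape (CostructuredArrow (EtFppf.a S).op d) AddCommGrpCat.{u + 1} := by
  have : IsFiltered (CostructuredArrow (EtFppf.a S).op d) :=
    IsFiltered.of_equivalence (structuredArrowOpEquivalence (EtFppf.a S) (unop d))
  have := AB5OfSize_of_univLE.{u, u + 1, u + 1, u + 1} AddCommGrpCat.{u + 1}
  exact AB5OfSize.ofShape _

theorem piEtPull_preservesFiniteLimits [BigSite.AEtCont K S] :
    PreservesFiniteLimits (BigSite.piEtPull K S) := by
  have h : PreservesFiniteLimits ((EtFppf.a S).op.lan : (_ ⥤ _ ⥤ AddCommGrpCat.{u + 1})) :=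
    Groth.Agent.Lib.Helper6.lan_preservesFiniteLimits_of_flat' AddCommGrpCat.{u + 1} (EtFppf.a S)
  exact Functor.sheafPullbackConstruction.preservesFiniteLimits (EtFppf.a S) AddCommGrpCat.{u + 1}
    S.smallEtaleTopology (QuotSh.J K S)


theorem injective_resEt [BigSite.AEtCont K S] (I : BigSite.Ab K S) [Injective I] :
    Injective ((BigSite.resEt K S).obj I) := by
  haveI := piEtPull_preservesFiniteLimits K S
  haveI : (BigSite.piEtPull K S).PreservesMonomorphisms :=
    preservesMonomorphisms_of_preservesLimitsOfShape _
  exact Injective.injective_of_adjoint (BigSite.piEtAdj K S) I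

theorem injective_pullBig (hK : K = Scheme.zariskiPrecoverage ∨ K = Scheme.etalePrecoverage ∨
      K = Scheme.precoverage @Smooth ∨ K = Scheme.fppfPrecoverage)
    {T : Scheme.{u}} (f : T ⟶ S) (I : BigSite.Ab K S) [Injective I] :
    Injective ((BigSite.pullBig K f AddCommGrpCat.{u + 1}).obj I) := by
  haveI := Groth.Agent.S6638.result f K hK
  haveI : (BigSite.shriekAb K f).PreservesMonomorphisms :=
    preservesMonomorphisms_of_preservesLimitsOfShape _
  exact Injective.injective_of_adjoint (BigSite.shriekAbAdj K f) I

theorem injective_resEtAlong (hK : K = Scheme.zariskiPrecoverage ∨ K = Scheme.etalePrecoverage ∨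
      K = Scheme.precoverage @Smooth ∨ K = Scheme.fppfPrecoverage)
    {T : Scheme.{u}} (f : T ⟶ S) [BigSite.AEtCont K T] (I : BigSite.Ab K S) [Injective I] :
    Injective ((BigSite.resEtAlong K f).obj I) := by
  haveI := injective_pullBig K S hK f I
  exact injective_resEt K T _


end Groth.Agent.Lib.Helper16.BigSmall
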