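import Mathlib

set_option autoImplicit false
open CategoryTheory CategoryTheory.Limits

namespace Groth.Agent.Lib.Helper16.OverBC

variable {C : Type*} [Category C] [HasPullbacks C]

section
variable {S T S' T' : C} {f : T ⟶ S} {g : S' ⟶ S} {g' : T' ⟶ T} {f' : T' ⟶ S'}
    (sq : IsPullback g' f' f g)

include sq in
theorem isPullback_paste (X : Over S') :
    IsPullback (pullback.fst X.hom f') (pullback.snd X.hom f' ≫ g') (X.hom ≫ g) f :=
  ((IsPullback.of_hasPullback X.hom f').flip.paste_horiz sq).flip

/-- the component of the Beck–Chevalley isomorphism. -/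
noncomputable def bcApp (X : Over S') :
    (Over.pullback f' ⋙ Over.map g').obj X ≅ (Over.map g ⋙ Over.pullback f).obj X :=
  Over.isoMk (isPullback_paste sq X).isoPullback
      (by
        dsimp
        exact (isPullback_paste sq X).isoPullback_hom_snd)

theorem bcApp_hom_left_fst (X : Over S') :
    (bcApp sq X).hom.left ≫ pullback.fst (X.hom ≫ g) f = pullback.fst X.hom f' :=
  (isPullback_paste sq X).isoPullback_hom_fst

theorem bcApp_hom_left_snd (X : Over S') :
    (bcApp sq X).hom.left ≫ pullback.snd (X.hom ≫ g) f = pullback.snd X.hom f' ≫ g' :=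
  (isPullback_paste sq X).isoPullback_hom_snd

/-- Beck–Chevalley for slice categories. -/
noncomputable def bcIso : Over.pullback f' ⋙ Over.map g' ≅ Over.map g ⋙ Over.pullback f :=
  NatIso.ofComponents (bcApp sq)
    (fun {X Y} φ => by
      ext
      have e1 : ((Over.pullback f').map φ).left ≫ pullback.fst Y.hom f'
          = pullback.fst X.hom f' ≫ φ.left := pullback.lift_fst _ _ _
      have e1' : ((Over.pullback f').map φ).left ≫ pullback.snd Y.hom f'
          = pullback.snd X.hom f' := pullback.lift_snd _ _ _
      have e2 : ((Over.pullback f).map ((Over.map g).map φ)).left ≫ pullback.fst (Y.hom ≫ g) f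
          = pullback.fst (X.hom ≫ g) f ≫ φ.left := pullback.lift_fst _ _ _
      have e2' : ((Over.pullback f).map ((Over.map g).map φ)).left ≫ pullback.snd (Y.hom ≫ g) f
          = pullback.snd (X.hom ≫ g) f := pullback.lift_snd _ _ _
      show ((Over.pullback f').map φ).left ≫ (bcApp sq Y).hom.left
        = (bcApp sq X).hom.left ≫ ((Over.pullback f).map ((Over.map g).map φ)).left
      refine pullback.hom_ext (f := Y.hom ≫ g) (g := f) ?_ ?_
      · rw [Category.assoc, Category.assoc, e2, ← Category.assoc (bcApp sq X).hom.left]
        erw [bcApp_hom_left_fst sq Y, bcApp_hom_left_fst sq X]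
        exact e1
      · rw [Category.assoc, Category.assoc, e2']
        erw [bcApp_hom_left_snd sq Y, bcApp_hom_left_snd sq X]
        rw [← Category.assoc, e1'])

end

end Groth.Agent.Lib.Helper16.OverBC

namespace Groth.Agent.Lib.Helper16.OverBC

universe v' u'
variable {C : Type*} [Category C] [HasPullbacks C] (J : GrothendieckTopology C)
  (A : Type u') [Category.{v'} A]
variable {S T S' T' : C} {f : T ⟶ S} {g : S' ⟶ S} {g' : T' ⟶ T} {f' : T' ⟶ S'}
    (sq : IsPullback g' f' f g)

/-- sheaf-level Beck–Chevalley for big sites: `g⁻¹ f_* ≅ f'_* g'⁻¹`. -/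
noncomputable def sheafBCIso :
    (Over.pullback f).sheafPushforwardContinuous A (J.over S) (J.over T) ⋙ J.overMapPullback A g ≅
      J.overMapPullback A g' ⋙
        (Over.pullback f').sheafPushforwardContinuous A (J.over S') (J.over T') :=
  haveI := Functor.isContinuous_comp (Over.map g) (Over.pullback f) (J.over S') (J.over S) (J.over T)
  haveI := Functor.isContinuous_comp (Over.pullback f') (Over.map g') (J.over S') (J.over T')
    (J.over T)
  (Functor.sheafPushforwardContinuousComp (Over.map g) (Over.pullback f) A (J.over S') (J.over S)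
      (J.over T)) ≪≫
    Functor.sheafPushforwardContinuousIso (bcIso sq).symm A (J.over S') (J.over T) ≪≫
    (Functor.sheafPushforwardContinuousComp (Over.pullback f') (Over.map g') A (J.over S')
      (J.over T') (J.over T)).symm

end Groth.Agent.Lib.Helper16.OverBC
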