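import Mathlib
import Groth.Prelude.Def_BigSite
import Groth.Agent.Lib.Helper16OverBC

/-!
# Helper16: base change isomorphisms between big and small étale sites (functor level)
-/

set_option autoImplicit false
universe u
open CategoryTheory CategoryTheory.Limits AlgebraicGeometry Opposite

namespace Groth.Agent.Lib.Helper16.BigSmallBC

/-- the functor-level iso `bc f ⋙ a_T ≅ a_S ⋙ (– ×_S T)`. -/
noncomputable def aPullbackIso {T S : Scheme.{u}} (f : T ⟶ S) :
    EtCoh.bc f ⋙ EtFppf.a T ≅ EtFppf.a S ⋙ Over.pullback f :=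
  MorphismProperty.Over.pullbackCompForgetIso (P := EtCoh.etaleMP) (Q := ⊤) f

/-- `(f_big,* F)|_{S_et} ≅ f_small,* (F|_{T_et})`. -/
noncomputable def pushBigResEtIso (K : Precoverage Scheme.{u}) {T S : Scheme.{u}} (f : T ⟶ S)
    [BigSite.AEtCont K S] [BigSite.AEtCont K T] :
    BigSite.pushBig K f AddCommGrpCat.{u + 1} ⋙ BigSite.resEt K S ≅
      BigSite.resEt K T ⋙ EtCoh.push f :=
  haveI := Functor.isContinuous_comp (EtFppf.a S) (Over.pullback f) S.smallEtaleTopology
    (QuotSh.J K S) (QuotSh.J K T)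
  haveI := Functor.isContinuous_comp (EtCoh.bc f) (EtFppf.a T) S.smallEtaleTopology
    T.smallEtaleTopology (QuotSh.J K T)
  (Functor.sheafPushforwardContinuousComp (EtFppf.a S) (Over.pullback f) AddCommGrpCat.{u + 1}
      S.smallEtaleTopology (QuotSh.J K S) (QuotSh.J K T)) ≪≫
    Functor.sheafPushforwardContinuousIso (aPullbackIso f).symm AddCommGrpCat.{u + 1}
      S.smallEtaleTopology (QuotSh.J K T) ≪≫
    (Functor.sheafPushforwardContinuousComp (EtCoh.bc f) (EtFppf.a T) AddCommGrpCat.{u + 1}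
      S.smallEtaleTopology T.smallEtaleTopology (QuotSh.J K T)).symm

/-- `g_big⁻¹ f_big,* ≅ f'_big,* g'_big⁻¹` for a cartesian square. -/
noncomputable def pushBigPullBigIso (K : Precoverage Scheme.{u}) {S T S' T' : Scheme.{u}}
    {f : T ⟶ S} {g : S' ⟶ S} {g' : T' ⟶ T} {f' : T' ⟶ S'} (hsq : IsPullback g' f' f g) :
    BigSite.pushBig K f AddCommGrpCat.{u + 1} ⋙ BigSite.pullBig K g AddCommGrpCat.{u + 1} ≅
      BigSite.pullBig K g' AddCommGrpCat.{u + 1} ⋙ BigSite.pushBig K f' AddCommGrpCat.{u + 1} :=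
  Groth.Agent.Lib.Helper16.OverBC.sheafBCIso _ _ hsq

/-- `i_g⁻¹ f_big,* ≅ f'_small,* i_{g'}⁻¹` for a cartesian square. -/
noncomputable def pushBigResEtAlongIso (K : Precoverage Scheme.{u}) {S T S' T' : Scheme.{u}}
    {f : T ⟶ S} {g : S' ⟶ S} {g' : T' ⟶ T} {f' : T' ⟶ S'} (hsq : IsPullback g' f' f g)
    [BigSite.AEtCont K S'] [BigSite.AEtCont K T'] :
    BigSite.pushBig K f AddCommGrpCat.{u + 1} ⋙ BigSite.resEtAlong K g ≅
      BigSite.resEtAlong K g' ⋙ EtCoh.push f' :=
  (Functor.associator _ _ _).symm ≪≫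
    Functor.isoWhiskerRight (pushBigPullBigIso K hsq) _ ≪≫
    Functor.associator _ _ _ ≪≫
    Functor.isoWhiskerLeft _ (pushBigResEtIso K f') ≪≫
    (Functor.associator _ _ _).symm

end Groth.Agent.Lib.Helper16.BigSmallBC
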