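import Mathlib
import Groth.Prelude.Def_BigSite
import Groth.Prelude.Def_EtCore
import Groth.Agent.Lib.Helper16BigSmall
import Groth.Agent.Lib.Helper21DerAcyc
import Groth.Agent.Lib.Helper21FreeConst
import Groth.Agent.Lib.Helper21DerPost
import Groth.Agent.Lib.Helper23DerComp

/-!
# Helper16: exactness of the restriction functors between big and small étale sites,
  vanishing of derived functors of exact functors, comparison of cohomology.
-/

set_option autoImplicit false
set_option linter.style.haveILetI false
universe u
open CategoryTheory CategoryTheory.Limits AlgebraicGeometry Opposite Abelian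

namespace Groth.Agent.Lib.Helper16.BigSmallCoh

open Groth.Agent.Lib.Helper16.BigSmall

/-- the higher right derived functors of an exact functor vanish. -/
theorem isZero_rightDerived_succ_of_preservesHomology {C D : Type*} [Category C] [Category D]
    [Abelian C] [Abelian D] [HasInjectiveResolutions C] (F : C ⥤ D) [F.Additive]
    [F.PreservesHomology] (X : C) (n : ℕ) : IsZero ((F.rightDerived (n + 1)).obj X) := by
  let I := injectiveResolution X
  refine IsZero.of_iso ?_ (I.isoRightDerivedObj F (n + 1))
  have h : (I.cocomplex).ExactAt (n + 1) := I.cocomplex_exactAt_succ n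
  have h' : ((F.mapHomologicalComplex _).obj I.cocomplex).ExactAt (n + 1) :=
    ShortComplex.Exact.map h F
  exact (HomologicalComplex.exactAt_iff_isZero_homology _ _).1 h'

variable (K : Precoverage Scheme.{u})

section resEt
variable (S : Scheme.{u}) [BigSite.AEtCont K S]

instance resEt_preservesFiniteLimits : PreservesFiniteLimits (BigSite.resEt K S) := by
  haveI := (BigSite.piEtAdj K S).rightAdjoint_preservesLimits
  infer_instance

instance resEt_preservesFiniteColimits [BigSite.AEtCocont K S] :
    PreservesFiniteColimits (BigSite.resEt K S) := by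
  haveI := (BigSite.iEtAdj K S).leftAdjoint_preservesColimits
  infer_instance

instance resEt_preservesHomology [BigSite.AEtCocont K S] :
    (BigSite.resEt K S).PreservesHomology := inferInstance

instance resEt_preservesInjectiveObjects : (BigSite.resEt K S).PreservesInjectiveObjects where
  injective_obj {I} _ := injective_resEt K S I

end resEt

section pullBig
variable {S T : Scheme.{u}} (f : T ⟶ S)

instance pullBig_preservesFiniteLimits :
    PreservesFiniteLimits (BigSite.pullBig K f AddCommGrpCat.{u + 1}) := by
  haveI := (BigSite.shriekAbAdj K f).rightAdjoint_preservesLimits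
  infer_instance

instance pullBig_preservesFiniteColimits :
    PreservesFiniteColimits (BigSite.pullBig K f AddCommGrpCat.{u + 1}) := by
  haveI := (BigSite.bigAdj K f AddCommGrpCat.{u + 1}).leftAdjoint_preservesColimits
  infer_instance

instance pullBig_preservesHomology :
    (BigSite.pullBig K f AddCommGrpCat.{u + 1}).PreservesHomology := inferInstance

theorem pullBig_preservesInjectiveObjects (hK : K = Scheme.zariskiPrecoverage ∨
      K = Scheme.etalePrecoverage ∨ K = Scheme.precoverage @Smooth ∨ K = Scheme.fppfPrecoverage) :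
    (BigSite.pullBig K f AddCommGrpCat.{u + 1}).PreservesInjectiveObjects where
  injective_obj {I} _ := injective_pullBig K S hK f I

instance pullBig_etale_preservesInjectiveObjects :
    (BigSite.pullBig Scheme.etalePrecoverage f AddCommGrpCat.{u + 1}).PreservesInjectiveObjects :=
  pullBig_preservesInjectiveObjects _ f (Or.inr (Or.inl rfl))

end pullBig

section cohomology
variable (S : Scheme.{u}) [BigSite.AEtCont K S] [BigSite.AEtCocont K S]

/-- `a_S` of the terminal object is terminal. -/
noncomputable def aTopIsTerminal : IsTerminal ((EtFppf.a S).obj (EtCoh.top S)) :=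
  Over.mkIdTerminal

/-- restriction to the small site followed by global sections is global sections. -/
noncomputable def sectionsIso :
    BigSite.resEt K S ⋙
        (sheafSections S.smallEtaleTopology AddCommGrpCat.{u + 1}).obj (op (EtCoh.top S)) ≅
      (sheafSections (QuotSh.J K S) AddCommGrpCat.{u + 1}).obj
        (op ((EtFppf.a S).obj (EtCoh.top S))) :=
  NatIso.ofComponents (fun _ => Iso.refl _) (fun f => by
    simp only [Iso.refl_hom]
    rfl)

/-- `π_S⁻¹` of the constant sheaf is the constant sheaf. -/
noncomputable def pullConstIso :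
    constantSheaf S.smallEtaleTopology AddCommGrpCat.{u + 1} ⋙ BigSite.piEtPull K S ≅
      constantSheaf (QuotSh.J K S) AddCommGrpCat.{u + 1} :=
  Adjunction.leftAdjointUniq
    ((constantSheafAdj S.smallEtaleTopology AddCommGrpCat.{u + 1} (EtCore.topIsTerminal S)).comp
      (BigSite.piEtAdj K S))
    ((constantSheafAdj (QuotSh.J K S) AddCommGrpCat.{u + 1} (aTopIsTerminal S)).ofNatIsoRight
      (sectionsIso K S).symm)

open Groth.Agent.Lib.Helper21.DerAcyc Groth.Agent.Lib.Helper23ExtRD Groth.Agent.Lib.Helper23LocSS
  Groth.Agent.Lib.Helper21.FreeAb in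
/-- cohomology on the big site agrees with cohomology of the restriction to the small étale
site. -/
theorem nonempty_H_resEt (F : BigSite.Ab K S) (p : ℕ) :
    Nonempty (EtCoh.H S ((BigSite.resEt K S).obj F) p ≃+ BigSite.H K S F p) := by
  haveI : (BigSite.piEtPull K S).Additive := (BigSite.piEtAdj K S).left_adjoint_additive
  let E := BigSite.resEt K S
  let ZC := (constantSheaf S.smallEtaleTopology AddCommGrpCat.{u + 1}).obj
    (AddCommGrpCat.of (ULift ℤ))
  let ZD := (constantSheaf (QuotSh.J K S) AddCommGrpCat.{u + 1}).obj (AddCommGrpCat.of (ULift ℤ))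
  let G : EtCoh.Ab S ⥤ AddCommGrpCat.{u + 1} := preadditiveCoyoneda.obj (op ZC)
  let G' : BigSite.Ab K S ⥤ AddCommGrpCat.{u + 1} := preadditiveCoyoneda.obj (op ZD)
  have hE : ∀ I : BigSite.Ab K S, Injective I → ∀ q : ℕ, 0 < q →
      IsZero ((G.rightDerived q).obj (E.obj I)) := by
    intro I hI q hq
    obtain ⟨q, rfl⟩ : ∃ k, q = k + 1 := ⟨q - 1, by lia⟩
    haveI : Injective (E.obj I) := injective_resEt K S I
    exact Functor.isZero_rightDerived_obj_injective_succ G q (E.obj I)
  let iso : E ⋙ G ≅ G' :=
    adjCoyonedaIso (BigSite.piEtAdj K S) ZC ≪≫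
      coyonedaIsoOfIso ((pullConstIso K S).app (AddCommGrpCat.of (ULift ℤ)))
  obtain ⟨e₁⟩ := nonempty_rightDerived_comp_iso E G hE F p
  let e₂ := (rightDerivedIso iso p).app F
  obtain ⟨e₃⟩ := rightDerived_coyoneda_iso ZC (E.obj F) p
  obtain ⟨e₄⟩ := rightDerived_coyoneda_iso ZD F p
  exact ⟨(e₃.symm ≪≫ e₁.symm ≪≫ e₂ ≪≫ e₄).addCommGroupIsoToAddEquiv⟩

end cohomology

end Groth.Agent.Lib.Helper16.BigSmallCoh
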