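import Mathlib
import Groth.Prelude.Def_BigSite
import Groth.Prelude.Def_EtCore
import Groth.Agent.Lib.Helper16BigSmallCoh

set_option autoImplicit false
set_option linter.style.haveILetI false
universe u
open CategoryTheory CategoryTheory.Limits AlgebraicGeometry Opposite Abelian

namespace Groth.Agent.Lib.Helper16.BigZar

variable (X : Scheme.{u})

theorem exists_left {Y : Over X} {U : X.Opens} (f : Y ⟶ (BigSite.zarIncl X).obj U) :
    ∃ fl : Y.left ⟶ (U : Scheme.{u}), fl = f.left ∧ fl ≫ Scheme.Opens.ι U = Y.hom :=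
  ⟨f.left, rfl, Over.w f⟩

theorem hom_zarIncl_ext {Y : Over X} {U : X.Opens} (f g : Y ⟶ (BigSite.zarIncl X).obj U) : f = g := by
  apply Over.OverMorphism.ext
  obtain ⟨fl, hfl, hf⟩ := exists_left X f
  obtain ⟨gl, hgl, hg⟩ := exists_left X g
  rw [← hfl, ← hgl]
  exact (cancel_mono (Scheme.Opens.ι U)).1 (hf.trans hg.symm)

theorem range_subset_of_hom {Y : Over X} {U : X.Opens} (f : Y ⟶ (BigSite.zarIncl X).obj U) :
    Set.range Y.hom ⊆ (U : Set X) := by
  obtain ⟨fl, -, hf⟩ := exists_left X f
  rintro _ ⟨y, rfl⟩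
  rw [← hf, Scheme.Hom.comp_apply]
  exact (fl y).2

/-- a morphism into an open, given the range condition (underlying scheme morphism). -/
noncomputable def liftL (Y : Over X) (U : X.Opens) (h : Set.range Y.hom ⊆ (U : Set X)) :
    Y.left ⟶ (U : Scheme.{u}) :=
  IsOpenImmersion.lift (Scheme.Opens.ι U) Y.hom (by
    rw [Scheme.Opens.range_ι]; exact h)

theorem liftL_fac (Y : Over X) (U : X.Opens) (h : Set.range Y.hom ⊆ (U : Set X)) :
    liftL X Y U h ≫ Scheme.Opens.ι U = Y.hom :=
  IsOpenImmersion.lift_fac _ _ _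

/-- a morphism into an open, given the range condition. -/
noncomputable def liftTo (Y : Over X) (U : X.Opens) (h : Set.range Y.hom ⊆ (U : Set X)) :
    Y ⟶ (BigSite.zarIncl X).obj U :=
  Over.homMk (liftL X Y U h) (liftL_fac X Y U h)

instance isCofiltered_structuredArrow (Y : Over X) :
    IsCofiltered (StructuredArrow Y (BigSite.zarIncl X)) where
  cone_objs A B := by
    have hA := range_subset_of_hom X A.hom
    have hB := range_subset_of_hom X B.hom
    refine ⟨StructuredArrow.mk (liftTo X Y (A.right ⊓ B.right) (fun x hx => ⟨hA hx, hB hx⟩)),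
      StructuredArrow.homMk (homOfLE inf_le_left) (hom_zarIncl_ext X _ _),
      StructuredArrow.homMk (homOfLE inf_le_right) (hom_zarIncl_ext X _ _), trivial⟩
  cone_maps A B f g := ⟨A, 𝟙 A, by
    congr 1
    apply StructuredArrow.hom_ext
    exact Subsingleton.elim _ _⟩
  nonempty := ⟨StructuredArrow.mk (liftTo X Y ⊤ (fun x _ => trivial))⟩

instance flat_zarIncl : RepresentablyFlat (BigSite.zarIncl X) := ⟨fun _ => inferInstance⟩

instance hasExactColimits_costructuredArrow_zarIncl (d : (Over X)ᵒᵖ) :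
    HasExactColimitsOfShape (CostructuredArrow (BigSite.zarIncl X).op d) AddCommGrpCat.{u + 1} := by
  have : IsFiltered (CostructuredArrow (BigSite.zarIncl X).op d) :=
    IsFiltered.of_equivalence (structuredArrowOpEquivalence (BigSite.zarIncl X) (unop d))
  have := AB5OfSize_of_univLE.{u, u, u + 1, u + 1} AddCommGrpCat.{u + 1}
  exact AB5OfSize.ofShape _

variable (K : Precoverage Scheme.{u})

theorem piZarPull_preservesFiniteLimits [BigSite.ZarCont K X] :
    PreservesFiniteLimits (BigSite.piZarPull K X) := by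
  have h : PreservesFiniteLimits ((BigSite.zarIncl X).op.lan : (_ ⥤ _ ⥤ AddCommGrpCat.{u + 1})) :=
    Groth.Agent.Lib.Helper6.lan_preservesFiniteLimits_of_flat' AddCommGrpCat.{u + 1}
      (BigSite.zarIncl X)
  exact Functor.sheafPullbackConstruction.preservesFiniteLimits (BigSite.zarIncl X)
    AddCommGrpCat.{u + 1} (Opens.grothendieckTopology X) (QuotSh.J K X)

theorem injective_resZar [BigSite.ZarCont K X] (I : BigSite.Ab K X) [Injective I] :
    Injective ((BigSite.resZar K X).obj I) := by
  haveI := piZarPull_preservesFiniteLimits X K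
  haveI : (BigSite.piZarPull K X).PreservesMonomorphisms :=
    preservesMonomorphisms_of_preservesLimitsOfShape _
  exact Injective.injective_of_adjoint (BigSite.piZarAdj K X) I

theorem cover_lift_zar {U : X.Opens} (S : Sieve ((BigSite.zarIncl X).obj U))
    (hS : S ∈ QuotSh.J Scheme.zariskiPrecoverage X ((BigSite.zarIncl X).obj U)) :
    S.functorPullback (BigSite.zarIncl X) ∈ Opens.grothendieckTopology X U := by
  have hS' : Sieve.overEquiv _ S ∈ Scheme.grothendieckTopology @IsOpenImmersion (U : Scheme.{u}) := hS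
  obtain ⟨𝒰, h𝒰⟩ := Scheme.mem_grothendieckTopology_iff.1 hS'
  intro x hx
  obtain ⟨i, y, hy⟩ := 𝒰.exists_eq (⟨x, hx⟩ : (U : Scheme.{u}))
  haveI : IsOpenImmersion (𝒰.f i) := 𝒰.map_prop i
  obtain ⟨g, hg⟩ : ∃ g : 𝒰.X i ⟶ X, g = 𝒰.f i ≫ Scheme.Opens.ι U := ⟨_, rfl⟩
  haveI : IsOpenImmersion g := by rw [hg]; infer_instance
  have hVU : g.opensRange ≤ U := by
    rintro _ ⟨z, rfl⟩
    rw [hg, Scheme.Hom.comp_apply]
    exact (𝒰.f i z).2
  refine ⟨g.opensRange, homOfLE hVU, ?_, ?_⟩
  · have h1 : S (Over.homMk (𝒰.f i) :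
        Over.mk (𝒰.f i ≫ ((BigSite.zarIncl X).obj U).hom) ⟶ (BigSite.zarIncl X).obj U) :=
      (Sieve.overEquiv_iff _ _).1 (h𝒰 _ _ (Presieve.ofArrows.mk i))
    have hfac : g.isoOpensRange.inv ≫ (𝒰.f i ≫ ((BigSite.zarIncl X).obj U).hom)
        = Scheme.Opens.ι g.opensRange := by
      have h0 := g.isoOpensRange_inv_comp
      have h0' : g.isoOpensRange.inv ≫ (𝒰.f i ≫ Scheme.Opens.ι U) = g.isoOpensRange.inv ≫ g :=
        congrArg (fun t => g.isoOpensRange.inv ≫ t) hg.symm
      exact h0'.trans h0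
    let e : (BigSite.zarIncl X).obj g.opensRange ⟶
        Over.mk (𝒰.f i ≫ ((BigSite.zarIncl X).obj U).hom) :=
      Over.homMk g.isoOpensRange.inv hfac
    have h2 := S.downward_closed h1 e
    have h3 : e ≫ (Over.homMk (𝒰.f i) :
        Over.mk (𝒰.f i ≫ ((BigSite.zarIncl X).obj U).hom) ⟶ (BigSite.zarIncl X).obj U)
        = (BigSite.zarIncl X).map (homOfLE hVU) := hom_zarIncl_ext X _ _
    rw [h3] at h2
    exact h2
  · refine ⟨y, ?_⟩
    rw [hg, Scheme.Hom.comp_apply, hy]
    rfl

instance zarIncl_isCocontinuous : BigSite.zarIncl X |>.IsCocontinuous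
    (Opens.grothendieckTopology X) (QuotSh.J Scheme.zariskiPrecoverage X) where
  cover_lift {_ S} hS := cover_lift_zar X S hS

section cohomology
variable [BigSite.ZarCont K X] [(BigSite.zarIncl X).IsCocontinuous
    (Opens.grothendieckTopology X) (QuotSh.J K X)]

instance resZar_preservesFiniteLimits : PreservesFiniteLimits (BigSite.resZar K X) := by
  haveI := (BigSite.piZarAdj K X).rightAdjoint_preservesLimits
  infer_instance

instance resZar_preservesFiniteColimits : PreservesFiniteColimits (BigSite.resZar K X) := by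
  haveI := ((BigSite.zarIncl X).sheafAdjunctionCocontinuous AddCommGrpCat.{u + 1}
    (Opens.grothendieckTopology X) (QuotSh.J K X)).leftAdjoint_preservesColimits
  infer_instance

instance resZar_preservesHomology : (BigSite.resZar K X).PreservesHomology := inferInstance

/-- `zarIncl` of the terminal object is terminal. -/
noncomputable def zarTopIsTerminal : IsTerminal ((BigSite.zarIncl X).obj ⊤) :=
  IsTerminal.ofIso Over.mkIdTerminal
    (Over.isoMk X.topIso.symm X.toIso_inv_ι :
      Over.mk (𝟙 X) ≅ (BigSite.zarIncl X).obj ⊤)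

/-- restriction to the small site followed by global sections is global sections. -/
noncomputable def sectionsIso :
    BigSite.resZar K X ⋙
        (sheafSections (Opens.grothendieckTopology X) AddCommGrpCat.{u + 1}).obj (op ⊤) ≅
      (sheafSections (QuotSh.J K X) AddCommGrpCat.{u + 1}).obj
        (op ((BigSite.zarIncl X).obj ⊤)) :=
  NatIso.ofComponents (fun _ => Iso.refl _) (fun f => by
    simp only [Iso.refl_hom]
    rfl)

/-- the pullback of the constant sheaf is the constant sheaf. -/
noncomputable def pullConstIso :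
    constantSheaf (Opens.grothendieckTopology X) AddCommGrpCat.{u + 1} ⋙ BigSite.piZarPull K X ≅
      constantSheaf (QuotSh.J K X) AddCommGrpCat.{u + 1} :=
  Adjunction.leftAdjointUniq
    ((constantSheafAdj (Opens.grothendieckTopology X) AddCommGrpCat.{u + 1} isTerminalTop).comp
      (BigSite.piZarAdj K X))
    ((constantSheafAdj (QuotSh.J K X) AddCommGrpCat.{u + 1} (zarTopIsTerminal X)).ofNatIsoRight
      (sectionsIso X K).symm)

open Groth.Agent.Lib.Helper21.DerAcyc Groth.Agent.Lib.Helper23ExtRD Groth.Agent.Lib.Helper23LocSS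
  Groth.Agent.Lib.Helper21.FreeAb in
/-- cohomology on the big site agrees with cohomology of the restriction to the small Zariski
site. -/
theorem nonempty_H_resZar (F : BigSite.Ab K X) (p : ℕ) :
    Nonempty (EtZar.H ((BigSite.resZar K X).obj F) p ≃+ BigSite.H K X F p) := by
  haveI : (BigSite.piZarPull K X).Additive := (BigSite.piZarAdj K X).left_adjoint_additive
  let E := BigSite.resZar K X
  let ZC := (constantSheaf (Opens.grothendieckTopology X) AddCommGrpCat.{u + 1}).obj
    (AddCommGrpCat.of (ULift ℤ))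
  let ZD := (constantSheaf (QuotSh.J K X) AddCommGrpCat.{u + 1}).obj (AddCommGrpCat.of (ULift ℤ))
  let G : EtZar.Ab X ⥤ AddCommGrpCat.{u + 1} := preadditiveCoyoneda.obj (op ZC)
  let G' : BigSite.Ab K X ⥤ AddCommGrpCat.{u + 1} := preadditiveCoyoneda.obj (op ZD)
  have hE : ∀ I : BigSite.Ab K X, Injective I → ∀ q : ℕ, 0 < q →
      IsZero ((G.rightDerived q).obj (E.obj I)) := by
    intro I hI q hq
    obtain ⟨q, rfl⟩ : ∃ k, q = k + 1 := ⟨q - 1, by lia⟩
    haveI : Injective (E.obj I) := injective_resZar X K I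
    exact Functor.isZero_rightDerived_obj_injective_succ G q (E.obj I)
  let iso : E ⋙ G ≅ G' :=
    adjCoyonedaIso (BigSite.piZarAdj K X) ZC ≪≫
      coyonedaIsoOfIso ((pullConstIso X K).app (AddCommGrpCat.of (ULift ℤ)))
  obtain ⟨e₁⟩ := nonempty_rightDerived_comp_iso E G hE F p
  let e₂ := (rightDerivedIso iso p).app F
  obtain ⟨e₃⟩ := rightDerived_coyoneda_iso ZC (E.obj F) p
  obtain ⟨e₄⟩ := rightDerived_coyoneda_iso ZD F p
  exact ⟨(e₃.symm ≪≫ e₁.symm ≪≫ e₂ ≪≫ e₄).addCommGroupIsoToAddEquiv⟩

end cohomology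

end Groth.Agent.Lib.Helper16.BigZar
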