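import Mathlib
import Groth.Agent.Lib.Helper2ReesBlowUp

set_option autoImplicit false
set_option linter.style.haveILetI false
set_option linter.unusedSectionVars false
universe u
open CategoryTheory CategoryTheory.Limits AlgebraicGeometry HomogeneousLocalization

namespace Groth.Agent.Lib.Helper16.BlowH1

section Alg

variable {A σ : Type*} [CommRing A] [SetLike σ A] [AddSubgroupClass σ A] (𝒜 : ℕ → σ)
  [GradedRing 𝒜]

theorem away_decomp {f g : A} (hf : f ∈ 𝒜 1) (hg : g ∈ 𝒜 1)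
    (H : ∀ n : ℕ, ∀ a ∈ 𝒜 (n • (1 + 1)), ∃ a₁ ∈ 𝒜 (n • 1), ∃ a₂ ∈ 𝒜 (n • 1),
      a = a₁ * g ^ n + a₂ * f ^ n)
    (z : Away 𝒜 (f * g)) :
    ∃ (s : Away 𝒜 f) (t : Away 𝒜 g),
      z = awayMap 𝒜 hg rfl s + awayMap 𝒜 hf (mul_comm f g) t := by
  obtain ⟨n, a, ha, rfl⟩ := Away.mk_surjective 𝒜 (SetLike.mul_mem_graded hf hg) z
  obtain ⟨a₁, h₁, a₂, h₂, rfl⟩ := H n a ha
  refine ⟨Away.mk 𝒜 hf n a₁ h₁, Away.mk 𝒜 hg n a₂ h₂, ?_⟩
  rw [awayMap_mk, awayMap_mk]
  apply HomogeneousLocalization.val_injective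
  rw [HomogeneousLocalization.val_add, Away.val_mk, Away.val_mk, Away.val_mk,
    Localization.add_mk_self]

end Alg

section Ideal

variable {A : Type u} [CommRing A]

theorem pow_two_mul_le (x y : A) (n : ℕ) :
    (Ideal.span {x, y}) ^ (n + n) ≤
      Ideal.span {x ^ n} * (Ideal.span {x, y}) ^ n ⊔ Ideal.span {y ^ n} * (Ideal.span {x, y}) ^ n := by
  set I := Ideal.span {x, y} with hI
  have hx : Ideal.span {x} ≤ I := Ideal.span_mono (by simp)
  have hy : Ideal.span {y} ≤ I := Ideal.span_mono (by simp)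
  have hsup : I = Ideal.span {x} ⊔ Ideal.span {y} := by
    rw [hI, ← Ideal.span_union]; rfl
  conv_lhs => rw [hsup, ← Ideal.add_eq_sup, add_pow, Ideal.sum_eq_sup]
  apply Finset.sup_le
  intro i hi
  have hi' : i ≤ n + n := by
    have := Finset.mem_range.1 hi; omega
  by_cases hn : n ≤ i
  · refine le_sup_of_le_left ?_
    refine Ideal.mul_le_left.trans ?_
    obtain ⟨k, rfl⟩ := Nat.exists_eq_add_of_le hn
    rw [pow_add, Ideal.span_singleton_pow, mul_assoc]
    refine Ideal.mul_mono_right ?_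
    have h2 : n + n - (n + k) + k = n := by omega
    calc Ideal.span {x} ^ k * Ideal.span {y} ^ (n + n - (n + k))
        ≤ I ^ k * I ^ (n + n - (n + k)) :=
          Ideal.mul_mono (Ideal.pow_right_mono hx _) (Ideal.pow_right_mono hy _)
      _ = I ^ n := by rw [← pow_add, add_comm, h2]
  · refine le_sup_of_le_right ?_
    refine Ideal.mul_le_left.trans ?_
    have hk : n ≤ n + n - i := by omega
    obtain ⟨k, hk'⟩ := Nat.exists_eq_add_of_le hk
    rw [hk', pow_add, mul_comm (Ideal.span {x} ^ i), mul_assoc, Ideal.span_singleton_pow]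
    refine Ideal.mul_mono_right ?_
    have h2 : k + i = n := by omega
    calc Ideal.span {y} ^ k * Ideal.span {x} ^ i
        ≤ I ^ k * I ^ i :=
          Ideal.mul_mono (Ideal.pow_right_mono hy _) (Ideal.pow_right_mono hx _)
      _ = I ^ n := by rw [← pow_add, h2]

theorem exists_decomp_pow (x y : A) (n : ℕ) (c : A) (hc : c ∈ (Ideal.span {x, y}) ^ (n + n)) :
    ∃ c₁ ∈ (Ideal.span {x, y}) ^ n, ∃ c₂ ∈ (Ideal.span {x, y}) ^ n,
      c = c₁ * y ^ n + c₂ * x ^ n := by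
  have h := pow_two_mul_le x y n hc
  obtain ⟨u, hu, v, hv, rfl⟩ := Submodule.mem_sup.1 h
  obtain ⟨c₂, hc₂, rfl⟩ := Ideal.mem_span_singleton_mul.1 hu
  obtain ⟨c₁, hc₁, rfl⟩ := Ideal.mem_span_singleton_mul.1 hv
  exact ⟨c₁, hc₁, c₂, hc₂, by ring⟩

end Ideal

end Groth.Agent.Lib.Helper16.BlowH1
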