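import Mathlib
import Groth.Prelude.Def_Coh
import Groth.Agent.Lib.Helper2ReesBlowUp
import Groth.Agent.Lib.Helper16BlowH1a
import Groth.Agent.Lib.Helper23AffOpen4

/-!
# H¹ of the structure sheaf of a blow-up in a two-generated ideal (helper16)

* `rees_H`: degree `2n` elements of the Rees algebra of `(x, y)` split as `a₁ (yX)^n + a₂ (xX)^n`.
* `proj_decomp`: sections over `D₊(fg)` are sums of restrictions from `D₊(f)` and `D₊(g)`.
* `subsingleton_HH_one_of_decomp`: Mayer–Vietoris `H¹ = 0` criterion for two affine opens.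
-/

set_option autoImplicit false
set_option linter.style.haveILetI false
set_option linter.unusedSectionVars false
universe u
open CategoryTheory CategoryTheory.Limits AlgebraicGeometry HomogeneousLocalization Opposite Polynomial

namespace Groth.Agent.Lib.Helper16.BlowH1

section Rees

open Groth.Agent.Lib.Helper2.ReesBlowUp Groth.Agent.Lib.Helper2.ReesChart

variable {A : Type u} [CommRing A]

theorem rees_H (I : Ideal A) (x y : A) (hI : I = Ideal.span {x, y}) (hx : x ∈ I) (hy : y ∈ I) (n : ℕ)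
    (a : reesAlgebra I) (ha : a ∈ Rees.deg (reesAlgebra I) (n • (1 + 1))) :
    ∃ a₁ ∈ Rees.deg (reesAlgebra I) (n • 1), ∃ a₂ ∈ Rees.deg (reesAlgebra I) (n • 1),
        a = a₁ * aX I y hy ^ n + a₂ * aX I x hx ^ n := by
  have e2 : n • (1 + 1) = n + n := by simp [mul_two]
  have e1 : n • 1 = n := by simp
  have hc : (a : A[X]).coeff (n + n) ∈ (Ideal.span {x, y}) ^ (n + n) :=
    hI ▸ coeff_mem_pow I a (n + n)
  obtain ⟨c₁, hc₁, c₂, hc₂, hcc⟩ := exists_decomp_pow x y n _ hc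
  rw [← hI] at hc₁ hc₂
  have hmem : ∀ (c : A) (hc : c ∈ I ^ n),
      (⟨monomial n c, reesAlgebra.monomial_mem.mpr hc⟩ : reesAlgebra I) ∈
      Rees.deg (reesAlgebra I) (n • 1) := by
    intro c _
    rw [Rees.mem_deg_iff]
    intro m hm
    rw [e1] at hm
    change (monomial n c).coeff m = 0
    rw [coeff_monomial]
    exact if_neg (Ne.symm hm)
  refine ⟨⟨monomial n c₁, reesAlgebra.monomial_mem.mpr hc₁⟩, hmem c₁ hc₁,
    ⟨monomial n c₂, reesAlgebra.monomial_mem.mpr hc₂⟩, hmem c₂ hc₂, ?_⟩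
  apply Subtype.ext
  have h1 := val_eq_monomial I ha
  rw [e2] at h1
  rw [h1, hcc]
  simp only [Subalgebra.coe_add, Subalgebra.coe_mul, Subalgebra.coe_pow, coe_aX, monomial_pow,
    monomial_mul_monomial, one_mul]
  exact map_add _ _ _


end Rees

section ProjDecomp

variable {σ : Type*} {A : Type u} [CommRing A] [SetLike σ A] [AddSubgroupClass σ A]
  (𝒜 : ℕ → σ) [GradedRing 𝒜]

theorem proj_decomp {f g : A} (hf : f ∈ 𝒜 1) (hg : g ∈ 𝒜 1)
    (H : ∀ n : ℕ, ∀ a ∈ 𝒜 (n • (1 + 1)), ∃ a₁ ∈ 𝒜 (n • 1), ∃ a₂ ∈ 𝒜 (n • 1),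
      a = a₁ * g ^ n + a₂ * f ^ n)
    (s : Γ(Proj 𝒜, Proj.basicOpen 𝒜 (f * g))) :
    ∃ (a : Γ(Proj 𝒜, Proj.basicOpen 𝒜 f)) (b : Γ(Proj 𝒜, Proj.basicOpen 𝒜 g)),
      s = ((Proj 𝒜).presheaf.map (homOfLE (Proj.basicOpen_mono 𝒜 f (f * g) ⟨g, rfl⟩)).op).hom a +
        ((Proj 𝒜).presheaf.map
          (homOfLE (Proj.basicOpen_mono 𝒜 g (f * g) ⟨f, mul_comm f g⟩)).op).hom b := by
  have hfg : f * g ∈ 𝒜 (1 + 1) := SetLike.mul_mem_graded hf hg
  let e := Proj.basicOpenIsoAway 𝒜 (f * g) hfg (by norm_num)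
  obtain ⟨z, rfl⟩ : ∃ z, (Proj.awayToSection 𝒜 (f * g)).hom z = s :=
    ⟨e.inv.hom s, by
      have : e.inv ≫ Proj.awayToSection 𝒜 (f * g) = 𝟙 _ := e.inv_hom_id
      exact congrArg (fun φ => φ.hom s) this⟩
  obtain ⟨s₁, s₂, rfl⟩ := away_decomp 𝒜 hf hg H z
  refine ⟨(Proj.awayToSection 𝒜 f).hom s₁, (Proj.awayToSection 𝒜 g).hom s₂, ?_⟩
  rw [map_add]
  have h1 := Proj.awayMap_awayToSection 𝒜 (f := f) (g := g) hg (x := f * g) rfl
  have h2 := Proj.awayMap_awayToSection 𝒜 (f := g) (g := f) hf (x := f * g) (mul_comm f g)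
  congr 1
  · exact congrArg (fun φ => φ.hom s₁) h1
  · exact congrArg (fun φ => φ.hom s₂) h2

end ProjDecomp

section MV

open Groth.Agent.Lib.Helper23.AffVanish Groth.Agent.Lib.Helper6

variable {X : Scheme.{u}}

theorem subsingleton_HH_one_of_decomp (M : X.Modules) [M.IsQuasicoherent] (U₁ U₂ : X.Opens)
    (h₁ : IsAffineOpen U₁) (h₂ : IsAffineOpen U₂) (hcov : (⊤ : X.Opens) ≤ U₁ ⊔ U₂)
    (hdec : ∀ s : Γ(M, U₁ ⊓ U₂), ∃ (a : Γ(M, U₁)) (b : Γ(M, U₂)),
      s = res M inf_le_left a - res M inf_le_right b) :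
    Subsingleton (Coh.HH X M 1) := by
  have key : ∀ α : HE (ab' M) 1 ⊤, α = 0 := by
    intro α
    refine eq_zero_of_mv (ab' M) 0 U₁ U₂ ⊤ le_top le_top hcov α ?_ ?_ ?_
    · haveI := subsingleton_HE_of_isAffineOpen h₁ M 0
      exact Subsingleton.elim _ _
    · haveI := subsingleton_HE_of_isAffineOpen h₂ M 0
      exact Subsingleton.elim _ _
    · intro γ
      obtain ⟨a, b, hab⟩ := hdec (h0F' M _ γ)
      refine ⟨(h0F' M _).symm a, (h0F' M _).symm b, ?_⟩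
      apply (h0F' M _).injective
      rw [map_sub, h0F'_res, h0F'_res, AddEquiv.apply_symm_apply, AddEquiv.apply_symm_apply]
      exact hab
  haveI : Subsingleton (HE (ab' M) 1 ⊤) := ⟨fun a b => (key a).trans (key b).symm⟩
  exact (HETopEquivH X.carrier (ab' M) 1).symm.subsingleton

end MV


end Groth.Agent.Lib.Helper16.BlowH1
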