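import Mathlib

/-!
# Lattice lemmas for the Picard group of the stack of torus bundles (helper16)

* `exists_basis_gcd`: every `d : Fin r → ℤ` is `gcd d` times the first vector of a `ℤ`-basis.
-/

set_option autoImplicit false
set_option linter.style.haveILetI false
set_option linter.unusedSectionVars false

namespace Groth.Agent.Lib.Helper16BunLattice

theorem exists_basis_gcd (r : ℕ) (hr : 0 < r) (d : Fin r → ℤ) :
    ∃ v : Module.Basis (Fin r) ℤ (Fin r → ℤ), d = (Finset.univ.gcd d) • v ⟨0, hr⟩ := by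
  classical
  by_cases hd : d = 0
  · refine ⟨Pi.basisFun ℤ (Fin r), ?_⟩
    subst hd
    have : Finset.univ.gcd (0 : Fin r → ℤ) = 0 := by
      rw [Finset.gcd_eq_zero_iff]
      intro i _
      rfl
    rw [this, zero_smul]
  · obtain ⟨n, snf⟩ := Submodule.smithNormalForm (Pi.basisFun ℤ (Fin r)) (Submodule.span ℤ {d})
    have h1 : Module.finrank ℤ (Submodule.span ℤ {d}) = n := by
      rw [Module.finrank_eq_card_basis snf.bN, Fintype.card_fin]
    have h2 : Module.finrank ℤ (Submodule.span ℤ {d}) = 1 := by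
      rw [← (LinearEquiv.toSpanNonzeroSingleton ℤ (Fin r → ℤ) d hd).finrank_eq, Module.finrank_self]
    have hn : n = 1 := by rw [← h1, h2]
    subst hn
    set w := snf.bM (snf.f 0) with hw
    have hdN : d ∈ Submodule.span ℤ {d} := Submodule.mem_span_singleton_self d
    have hsum := snf.bN.sum_repr ⟨d, hdN⟩
    rw [Fin.sum_univ_one] at hsum
    have hd' : d = (snf.bN.repr ⟨d, hdN⟩ 0 * snf.a 0) • w := by
      have := congrArg (Subtype.val : Submodule.span ℤ {d} → (Fin r → ℤ)) hsum
      rw [Submodule.coe_smul, snf.snf 0, smul_smul] at this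
      exact this.symm
    set t := snf.bN.repr ⟨d, hdN⟩ 0 * snf.a 0 with ht
    have htD : t ∣ Finset.univ.gcd d := by
      apply Finset.dvd_gcd
      intro i _
      refine ⟨w i, ?_⟩
      have := congrFun hd' i
      rw [Pi.smul_apply, smul_eq_mul] at this
      exact this
    have hDt : Finset.univ.gcd d ∣ t := by
      obtain ⟨ℓ, hℓ⟩ : ∃ ℓ : (Fin r → ℤ) →ₗ[ℤ] ℤ, ℓ w = 1 :=
        ⟨snf.bM.coord (snf.f 0), by
          rw [hw, Module.Basis.coord_apply, Module.Basis.repr_self, Finsupp.single_eq_same]⟩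
      have hc : ℓ d = t := by
        calc ℓ d = ℓ (t • w) := congrArg ℓ hd'
          _ = t := by rw [map_smul, hℓ, smul_eq_mul, mul_one]
      have hsum : d = ∑ i, d i • (Pi.single i (1 : ℤ) : Fin r → ℤ) := by
        ext j
        simp [Finset.sum_apply, Pi.single_apply]
      have hc2 : ℓ d = ∑ i, d i * ℓ (Pi.single i (1 : ℤ)) := by
        calc ℓ d = ℓ (∑ i, d i • (Pi.single i (1 : ℤ) : Fin r → ℤ)) := congrArg ℓ hsum
          _ = _ := by simp only [map_sum, map_smul, smul_eq_mul]
      rw [← hc, hc2]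
      apply Finset.dvd_sum
      intro i _
      exact Dvd.dvd.mul_right (Finset.gcd_dvd (Finset.mem_univ i)) _
    obtain ⟨u, hu⟩ := associated_of_dvd_dvd hDt htD
    let v1 := snf.bM.unitsSMul (fun i => if i = snf.f 0 then u else 1)
    refine ⟨v1.reindex (Equiv.swap (snf.f 0) ⟨0, hr⟩), ?_⟩
    rw [Module.Basis.reindex_apply, Equiv.symm_swap, Equiv.swap_apply_right,
      Module.Basis.unitsSMul_apply, if_pos rfl, Units.smul_def, smul_smul, hu]
    exact hd'

end Groth.Agent.Lib.Helper16BunLattice
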