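import Mathlib
import Groth.Agent.Lib.Helper16BunLattice

set_option autoImplicit false
set_option linter.style.haveILetI false
set_option linter.unusedSectionVars false

namespace Groth.Agent.Lib.Helper16BunLattice2

theorem exists_intCast_mul (δ : ℕ) (c : ℤ) (h : Int.gcd δ c ∣ δ) (z : ZMod δ)
    (hz : ZMod.castHom h (ZMod (Int.gcd δ c)) z = 0) : ∃ a : ℤ, z = ((c * a : ℤ) : ZMod δ) := by
  obtain ⟨n, rfl⟩ := ZMod.intCast_surjective z
  rw [map_intCast, CharP.intCast_eq_zero_iff (ZMod (Int.gcd δ c)) (Int.gcd δ c)] at hz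
  obtain ⟨m, rfl⟩ := hz
  refine ⟨Int.gcdB δ c * m, ?_⟩
  have hb := Int.gcd_eq_gcd_ab (δ : ℤ) c
  have h0 : ((δ : ℤ) : ZMod δ) = 0 := by
    rw [Int.cast_natCast]; exact ZMod.natCast_self δ
  have : ((Int.gcd (δ : ℤ) c : ℕ) : ℤ) * m
      = (δ : ℤ) * (Int.gcdA δ c * m) + c * (Int.gcdB δ c * m) := by
    rw [hb]; ring
  rw [this, Int.cast_add, Int.cast_mul (δ : ℤ), h0, zero_mul, zero_add]

theorem exists_intCast_add (δ : ℕ) (a b : ℤ) (h : Int.gcd δ (Int.gcd a b) ∣ δ) (z : ZMod δ)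
    (hz : ZMod.castHom h (ZMod (Int.gcd δ (Int.gcd a b))) z = 0) :
    ∃ c1 c2 : ℤ, z = ((a * c1 + b * c2 : ℤ) : ZMod δ) := by
  obtain ⟨m, hm⟩ := exists_intCast_mul δ (Int.gcd a b : ℤ) h z hz
  refine ⟨Int.gcdA a b * m, Int.gcdB a b * m, ?_⟩
  rw [hm]
  congr 1
  rw [Int.gcd_eq_gcd_ab a b]; ring

section KeyLemma

variable (r : ℕ) (δ : ℕ) (g : ℤ) (hδ : (δ : ℤ) ∣ 2 * (g - 1)) (d : Fin r → ℤ) (D : ℤ)
  (v : Module.Basis (Fin r) ℤ (Fin r → ℤ)) (i0 : Fin r) (hv : d = D • v i0)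
  (h1 : Int.gcd δ (D + 1 - g) ∣ δ) (h2 : Int.gcd δ (Int.gcd (g - 1) D) ∣ δ)

include hδ hv in
theorem mem_closure_iff (φ : (Fin r → ℤ) →+ ZMod δ) :
    φ ∈ AddSubgroup.closure {φ : (Fin r → ℤ) →+ ZMod δ |
      ∃ b : LinearMap.BilinForm ℤ (Fin r → ℤ), b.IsSymm ∧
      ∀ x, φ x = ((b d x + (1 - g) * b x x : ℤ) : ZMod δ)} ↔
    ZMod.castHom h1 (ZMod (Int.gcd δ (D + 1 - g))) (φ (v i0)) = 0 ∧
      ∀ i, i ≠ i0 → ZMod.castHom h2 (ZMod (Int.gcd δ (Int.gcd (g - 1) D))) (φ (v i)) = 0 := by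
  classical
  constructor
  · intro hφ
    induction hφ using AddSubgroup.closure_induction with
    | mem φ hφ =>
      obtain ⟨b, hb, hφ⟩ := hφ
      constructor
      · rw [hφ, map_intCast, CharP.intCast_eq_zero_iff (ZMod _) (Int.gcd δ (D + 1 - g))]
        have : b d (v i0) + (1 - g) * b (v i0) (v i0) = (D + 1 - g) * b (v i0) (v i0) := by
          rw [hv, map_smul, LinearMap.smul_apply, smul_eq_mul]; ring
        rw [this]
        exact Dvd.dvd.mul_right (Int.gcd_dvd_right _ _) _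
      · intro i hi
        rw [hφ, map_intCast,
          CharP.intCast_eq_zero_iff (ZMod _) (Int.gcd δ (Int.gcd (g - 1) D))]
        have : b d (v i) + (1 - g) * b (v i) (v i)
            = D * b (v i0) (v i) + (g - 1) * (- b (v i) (v i)) := by
          rw [hv, map_smul, LinearMap.smul_apply, smul_eq_mul]; ring
        rw [this]
        apply dvd_add
        · exact Dvd.dvd.mul_right
            ((Int.gcd_dvd_right _ _).trans (Int.gcd_dvd_right _ _)) _
        · exact Dvd.dvd.mul_right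
            ((Int.gcd_dvd_right _ _).trans (Int.gcd_dvd_left _ _)) _
    | zero =>
      refine ⟨?_, fun i _ => ?_⟩
      · rw [AddMonoidHom.zero_apply, map_zero]
      · rw [AddMonoidHom.zero_apply, map_zero]
    | add φ ψ _ _ ihφ ihψ =>
      refine ⟨?_, fun i hi => ?_⟩
      · rw [AddMonoidHom.add_apply, map_add, ihφ.1, ihψ.1, add_zero]
      · rw [AddMonoidHom.add_apply, map_add, ihφ.2 i hi, ihψ.2 i hi, add_zero]
    | neg φ _ ih =>
      refine ⟨?_, fun i hi => ?_⟩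
      · rw [AddMonoidHom.neg_apply, map_neg, ih.1, neg_zero]
      · rw [AddMonoidHom.neg_apply, map_neg, ih.2 i hi, neg_zero]
  · rintro ⟨h0, hi⟩
    apply AddSubgroup.subset_closure
    obtain ⟨a0, ha0⟩ := exists_intCast_mul δ (D + 1 - g) h1 _ h0
    have hex : ∀ i : Fin r, ∃ p : ℤ × ℤ, i ≠ i0 →
        φ (v i) = (((g - 1) * p.1 + D * p.2 : ℤ) : ZMod δ) := by
      intro i
      by_cases hii : i = i0
      · exact ⟨(0, 0), fun h => absurd hii h⟩
      · obtain ⟨c1, c2, hc⟩ := exists_intCast_add δ (g - 1) D h2 _ (hi i hii)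
        exact ⟨(c1, c2), fun _ => hc⟩
    choose p hp using hex
    let M : Matrix (Fin r) (Fin r) ℤ := fun i j =>
      if i = i0 then (if j = i0 then a0 else (p j).2)
      else if j = i0 then (p i).2 else if i = j then -(p i).1 else 0
    have hM00 : M i0 i0 = a0 := by simp only [M, if_true]
    have hM0i : ∀ i, i ≠ i0 → M i0 i = (p i).2 := by
      intro i hii
      simp only [M, if_true, if_neg hii]
    have hMii : ∀ i, i ≠ i0 → M i i = -(p i).1 := by
      intro i hii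
      simp only [M, if_true, if_neg hii]
    have hMsymm : M.IsSymm := by
      ext i j
      rw [Matrix.transpose_apply]
      simp only [M]
      by_cases hi0 : i = i0 <;> by_cases hj0 : j = i0
      · rw [hi0, hj0]
      · rw [if_neg hj0, if_pos hi0, if_pos hi0, if_neg hj0]
      · rw [if_pos hj0, if_neg hi0, if_neg hi0, if_pos hj0]
      · rw [if_neg hj0, if_neg hi0, if_neg hi0, if_neg hj0]
        by_cases hij : i = j
        · rw [hij]
        · rw [if_neg hij, if_neg (fun h => hij h.symm)]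
    set b : LinearMap.BilinForm ℤ (Fin r → ℤ) := Matrix.toBilin v M with hbdef
    have hbsymm : b.IsSymm := (Matrix.isSymm_toBilin_iff_isSymm v).mpr hMsymm
    have hbv : ∀ i j, b (v i) (v j) = M i j := by
      intro i j
      rw [← LinearMap.BilinForm.toMatrix_apply v b i j, hbdef,
        LinearMap.BilinForm.toMatrix_toBilin]
    obtain ⟨q, hq⟩ := hδ
    have h0δ : ((δ : ℤ) : ZMod δ) = 0 := by
      rw [Int.cast_natCast]; exact ZMod.natCast_self δ
    let ψ : (Fin r → ℤ) →+ ZMod δ :=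
      AddMonoidHom.mk' (fun x => ((b d x + (1 - g) * b x x : ℤ) : ZMod δ)) (by
        intro x y
        have key : b d (x + y) + (1 - g) * b (x + y) (x + y)
            = (b d x + (1 - g) * b x x) + (b d y + (1 - g) * b y y)
              - (δ : ℤ) * (q * b x y) := by
          have hs : b y x = b x y := hbsymm.eq y x
          simp only [map_add, LinearMap.add_apply]
          rw [hs]
          linear_combination (-(b x y)) * hq
        show ((b d (x + y) + (1 - g) * b (x + y) (x + y) : ℤ) : ZMod δ) = _ + _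
        rw [key, Int.cast_sub, Int.cast_mul (δ : ℤ), h0δ, zero_mul, sub_zero, Int.cast_add])
    have hφψ : φ = ψ := by
      apply AddMonoidHom.toIntLinearMap_injective
      apply v.ext
      intro i
      show φ (v i) = ((b d (v i) + (1 - g) * b (v i) (v i) : ℤ) : ZMod δ)
      have e1 : b d (v i) = D * b (v i0) (v i) := by
        rw [hv, map_smul, LinearMap.smul_apply, smul_eq_mul]
      rw [e1, hbv, hbv]
      by_cases hii : i = i0
      · rw [hii, hM00, ha0]
        congr 1; ring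
      · rw [hM0i i hii, hMii i hii, hp i hii]
        congr 1; ring
    refine ⟨b, hbsymm, fun x => ?_⟩
    rw [hφψ]
    rfl

end KeyLemma

section Structure

variable {r : ℕ} {δ : ℕ} (v : Module.Basis (Fin r) ℤ (Fin r → ℤ)) (i0 : Fin r)

/-- The additive map with prescribed values on the basis. -/
noncomputable def mkHom (f : Fin r → ZMod δ) : (Fin r → ℤ) →+ ZMod δ :=
  (v.constr ℤ f).toAddMonoidHom

theorem mkHom_apply (f : Fin r → ZMod δ) (i : Fin r) : mkHom v f (v i) = f i :=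
  v.constr_basis ℤ f i

theorem ext_basis (φ ψ : (Fin r → ℤ) →+ ZMod δ) (h : ∀ i, φ (v i) = ψ (v i)) : φ = ψ :=
  AddMonoidHom.toIntLinearMap_injective (v.ext h)

theorem card_ne : Fintype.card {i : Fin r // i ≠ i0} = r - 1 := by
  classical
  rw [Fintype.card_subtype_compl, Fintype.card_subtype_eq, Fintype.card_fin]

theorem quot_equiv {g1 g2 : ℕ} (h1 : g1 ∣ δ) (h2 : g2 ∣ δ)
    (H : AddSubgroup ((Fin r → ℤ) →+ ZMod δ))
    (hH : ∀ φ, φ ∈ H ↔ ZMod.castHom h1 (ZMod g1) (φ (v i0)) = 0 ∧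
      ∀ i, i ≠ i0 → ZMod.castHom h2 (ZMod g2) (φ (v i)) = 0) :
    Nonempty ((((Fin r → ℤ) →+ ZMod δ) ⧸ H) ≃+ (ZMod g1 × (Fin (r - 1) → ZMod g2))) := by
  classical
  let Ξ : ((Fin r → ℤ) →+ ZMod δ) →+ ZMod g1 × ({i : Fin r // i ≠ i0} → ZMod g2) :=
    AddMonoidHom.mk' (fun φ => (ZMod.castHom h1 (ZMod g1) (φ (v i0)),
      fun i => ZMod.castHom h2 (ZMod g2) (φ (v i.1))))
      (fun φ ψ => Prod.ext (map_add (ZMod.castHom h1 (ZMod g1)) (φ (v i0)) (ψ (v i0)))
        (funext fun i => map_add (ZMod.castHom h2 (ZMod g2)) (φ (v i.1)) (ψ (v i.1))))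
  have hsurj : Function.Surjective Ξ := by
    rintro ⟨z, f⟩
    obtain ⟨z', hz'⟩ := ZMod.ringHom_surjective (ZMod.castHom h1 (ZMod g1)) z
    choose f' hf' using fun i => ZMod.ringHom_surjective (ZMod.castHom h2 (ZMod g2)) (f i)
    refine ⟨mkHom v (fun i => if h : i = i0 then z' else f' ⟨i, h⟩), ?_⟩
    refine Prod.ext ?_ (funext fun i => ?_)
    · show ZMod.castHom h1 (ZMod g1) (mkHom v _ (v i0)) = z
      rw [mkHom_apply, dif_pos rfl, hz']
    · show ZMod.castHom h2 (ZMod g2) (mkHom v _ (v i.1)) = f i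
      rw [mkHom_apply, dif_neg i.2, hf']
  have hker : Ξ.ker = H := by
    ext φ
    rw [AddMonoidHom.mem_ker, hH φ]
    constructor
    · intro h
      have h' : (ZMod.castHom h1 (ZMod g1) (φ (v i0)),
        fun i : {i : Fin r // i ≠ i0} => ZMod.castHom h2 (ZMod g2) (φ (v i.1))) = 0 := h
      rw [Prod.ext_iff] at h'
      refine ⟨h'.1, fun i hi => ?_⟩
      exact congrFun h'.2 ⟨i, hi⟩
    · rintro ⟨ha, hb⟩
      exact Prod.ext ha (funext fun i => hb i.1 i.2)
  let e : {i : Fin r // i ≠ i0} ≃ Fin (r - 1) := Fintype.equivFinOfCardEq (card_ne i0)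
  refine ⟨(QuotientAddGroup.quotientAddEquivOfEq hker.symm).trans
    ((QuotientAddGroup.quotientKerEquivOfSurjective Ξ hsurj).trans
      (AddEquiv.prodCongr (AddEquiv.refl _)
        (LinearEquiv.funCongrLeft ℤ (ZMod g2) e.symm).toAddEquiv))⟩

/-- Multiplication by `g` as a map `ZMod (δ / g) →+ ZMod δ`. -/
noncomputable def mu {g : ℕ} (h : g ∣ δ) : ZMod (δ / g) →+ ZMod δ :=
  ZMod.lift (δ / g) ⟨(AddMonoidHom.mulLeft (g : ZMod δ)).comp (Int.castAddHom (ZMod δ)), by
    show (g : ZMod δ) * (((δ / g : ℕ) : ℤ) : ZMod δ) = 0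
    rw [Int.cast_natCast, ← Nat.cast_mul, Nat.mul_div_cancel' h, ZMod.natCast_self]⟩

theorem mu_intCast {g : ℕ} (h : g ∣ δ) (n : ℤ) :
    mu h (n : ZMod (δ / g)) = (g : ZMod δ) * (n : ZMod δ) := by
  unfold mu
  rw [ZMod.lift_coe]
  rfl

theorem mu_injective (hδ0 : 0 < δ) {g : ℕ} (h : g ∣ δ) : Function.Injective (mu (δ := δ) h) := by
  rw [injective_iff_map_eq_zero]
  intro z hz
  obtain ⟨n, rfl⟩ := ZMod.intCast_surjective z
  rw [mu_intCast, ← Int.cast_natCast, ← Int.cast_mul,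
    CharP.intCast_eq_zero_iff (ZMod δ) δ] at hz
  rw [CharP.intCast_eq_zero_iff (ZMod (δ / g)) (δ / g)]
  have hg : (g : ℤ) ≠ 0 := by
    intro h0
    have : g = 0 := by exact_mod_cast h0
    subst this
    rw [zero_dvd_iff] at h
    omega
  have : ((δ : ℕ) : ℤ) = (g : ℤ) * ((δ / g : ℕ) : ℤ) := by
    rw [← Nat.cast_mul, Nat.mul_div_cancel' h]
  rw [this] at hz
  exact (mul_dvd_mul_iff_left hg).mp hz

theorem castHom_eq_zero_iff {g : ℕ} (h : g ∣ δ) (z : ZMod δ) :
    ZMod.castHom h (ZMod g) z = 0 ↔ ∃ w, mu h w = z := by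
  constructor
  · intro hz
    obtain ⟨n, rfl⟩ := ZMod.intCast_surjective z
    rw [map_intCast, CharP.intCast_eq_zero_iff (ZMod g) g] at hz
    obtain ⟨m, rfl⟩ := hz
    refine ⟨(m : ZMod (δ / g)), ?_⟩
    rw [mu_intCast, Int.cast_mul, Int.cast_natCast]
  · rintro ⟨w, rfl⟩
    obtain ⟨n, rfl⟩ := ZMod.intCast_surjective w
    rw [mu_intCast, map_mul, map_natCast, ZMod.natCast_self, zero_mul]

theorem sub_equiv (hδ0 : 0 < δ) {g1 g2 : ℕ} (h1 : g1 ∣ δ) (h2 : g2 ∣ δ)
    (H : AddSubgroup ((Fin r → ℤ) →+ ZMod δ))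
    (hH : ∀ φ, φ ∈ H ↔ ZMod.castHom h1 (ZMod g1) (φ (v i0)) = 0 ∧
      ∀ i, i ≠ i0 → ZMod.castHom h2 (ZMod g2) (φ (v i)) = 0) :
    Nonempty (H ≃+ (ZMod (δ / g1) × (Fin (r - 1) → ZMod (δ / g2)))) := by
  classical
  let F : ZMod (δ / g1) × ({i : Fin r // i ≠ i0} → ZMod (δ / g2)) → Fin r → ZMod δ :=
    fun p i => if h : i = i0 then mu h1 p.1 else mu h2 (p.2 ⟨i, h⟩)
  let Θ : ZMod (δ / g1) × ({i : Fin r // i ≠ i0} → ZMod (δ / g2)) →+
      ((Fin r → ℤ) →+ ZMod δ) :=
    AddMonoidHom.mk' (fun p => mkHom v (F p)) (fun p q => ext_basis v _ _ (fun i => by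
      rw [AddMonoidHom.add_apply, mkHom_apply, mkHom_apply, mkHom_apply]
      by_cases h : i = i0
      · simp only [F, dif_pos h, Prod.fst_add, map_add]
      · simp only [F, dif_neg h, Prod.snd_add, Pi.add_apply, map_add]))
  have hΘ : ∀ p i, Θ p (v i) = F p i := fun p i => mkHom_apply v (F p) i
  have hinj : Function.Injective Θ := by
    rw [injective_iff_map_eq_zero]
    intro p hp
    have hpi : ∀ i, F p i = 0 := by
      intro i
      rw [← hΘ, hp, AddMonoidHom.zero_apply]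
    refine Prod.ext ?_ (funext fun i => ?_)
    · have := hpi i0
      simp only [F, dif_pos rfl] at this
      exact (injective_iff_map_eq_zero _).mp (mu_injective hδ0 h1) _ this
    · have := hpi i.1
      simp only [F, dif_neg i.2] at this
      exact (injective_iff_map_eq_zero _).mp (mu_injective hδ0 h2) _ this
  have hrange : Θ.range = H := by
    ext φ
    rw [AddMonoidHom.mem_range, hH φ]
    constructor
    · rintro ⟨p, rfl⟩
      refine ⟨?_, fun i hi => ?_⟩
      · rw [hΘ, castHom_eq_zero_iff]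
        exact ⟨p.1, by simp only [F, dif_pos rfl]⟩
      · rw [hΘ, castHom_eq_zero_iff]
        exact ⟨p.2 ⟨i, hi⟩, by simp only [F, dif_neg hi]⟩
    · rintro ⟨ha, hb⟩
      obtain ⟨z, hz⟩ := (castHom_eq_zero_iff h1 _).mp ha
      choose f hf using fun i : {i : Fin r // i ≠ i0} =>
        (castHom_eq_zero_iff h2 _).mp (hb i.1 i.2)
      refine ⟨(z, f), ext_basis v _ _ (fun i => ?_)⟩
      rw [hΘ]
      by_cases h : i = i0
      · simp only [F, dif_pos h]
        rw [hz, h]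
      · simp only [F, dif_neg h]
        exact hf ⟨i, h⟩
  let e : {i : Fin r // i ≠ i0} ≃ Fin (r - 1) := Fintype.equivFinOfCardEq (card_ne i0)
  refine ⟨(AddEquiv.addSubgroupCongr hrange.symm).trans
    ((AddMonoidHom.ofInjective hinj).symm.trans
      (AddEquiv.prodCongr (AddEquiv.refl _)
        (LinearEquiv.funCongrLeft ℤ (ZMod (δ / g2)) e.symm).toAddEquiv))⟩

end Structure

end Groth.Agent.Lib.Helper16BunLattice2
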