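import Mathlib

set_option autoImplicit false
universe u

namespace Groth.Agent.Lib.Helper16.FreeContr

section
variable {X : ℕ → Type u} (δ : ∀ n, Fin (n + 2) → X (n + 1) → X n)

/-- the alternating boundary on free abelian groups -/
noncomputable def bd (n : ℕ) : FreeAbelianGroup (X (n + 1)) →+ FreeAbelianGroup (X n) :=
  ∑ i : Fin (n + 2), ((-1 : ℤ) ^ (i : ℕ)) • FreeAbelianGroup.map (δ n i)

theorem bd_of (n : ℕ) (σ : X (n + 1)) :
    bd δ n (FreeAbelianGroup.of σ) =
      ∑ i : Fin (n + 2), ((-1 : ℤ) ^ (i : ℕ)) • FreeAbelianGroup.of (δ n i σ) := by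
  simp [bd]

variable (c : ∀ n, X n → X (n + 1))
  (h0 : ∀ n σ, δ n 0 (c n σ) = σ)
  (hs : ∀ n (i : Fin (n + 2)) σ, δ (n + 1) i.succ (c (n + 1) σ) = c n (δ n i σ))

include h0 hs in
theorem homotopy_succ (n : ℕ) (x : FreeAbelianGroup (X (n + 1))) :
    bd δ (n + 1) (FreeAbelianGroup.map (c (n + 1)) x) + FreeAbelianGroup.map (c n) (bd δ n x) = x := by
  induction x using FreeAbelianGroup.induction_on with
  | zero => simp
  | of σ =>
    rw [FreeAbelianGroup.map_of_apply, bd_of, bd_of, Fin.sum_univ_succ, map_sum]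
    simp only [Fin.val_zero, pow_zero, one_smul, h0, Fin.val_succ, hs, map_zsmul,
      FreeAbelianGroup.map_of_apply, pow_succ, mul_neg, mul_one, neg_smul, Finset.sum_neg_distrib]
    abel
  | neg σ ih => simp only [map_neg, ← neg_add, ih]
  | add x y hx hy =>
    simp only [map_add]
    rw [add_add_add_comm, hx, hy]

include h0 hs in
theorem exact_succ (n : ℕ) (x : FreeAbelianGroup (X (n + 1))) (hx : bd δ n x = 0) :
    ∃ y, bd δ (n + 1) y = x := by
  refine ⟨FreeAbelianGroup.map (c (n + 1)) x, ?_⟩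
  have := homotopy_succ δ c h0 hs n x
  rwa [hx, map_zero, add_zero] at this

variable {T : Type u} (aug : X 0 → T)
  (hℓ : ∀ σ σ', aug σ = aug σ' → δ 0 1 (c 0 σ) = δ 0 1 (c 0 σ'))

include h0 in
theorem homotopy_zero (x : FreeAbelianGroup (X 0)) :
    bd δ 0 (FreeAbelianGroup.map (c 0) x) = x - FreeAbelianGroup.map (fun σ => δ 0 1 (c 0 σ)) x := by
  induction x using FreeAbelianGroup.induction_on with
  | zero => simp
  | of σ =>
    rw [FreeAbelianGroup.map_of_apply, bd_of, Fin.sum_univ_two, FreeAbelianGroup.map_of_apply]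
    simp [h0, sub_eq_add_neg]
  | neg σ ih => simp only [map_neg, ih, neg_sub_neg, neg_sub]
  | add x y hx hy =>
    simp only [map_add, hx, hy]
    abel

include h0 hℓ in
theorem exact_zero (x : FreeAbelianGroup (X 0)) (hx : FreeAbelianGroup.map aug x = 0) :
    ∃ y, bd δ 0 y = x := by
  classical
  refine ⟨FreeAbelianGroup.map (c 0) x, ?_⟩
  rw [homotopy_zero δ c h0]
  let ρ : FreeAbelianGroup T →+ FreeAbelianGroup (X 0) :=
    FreeAbelianGroup.lift (fun t => if h : ∃ σ, aug σ = t then
      FreeAbelianGroup.of (δ 0 1 (c 0 h.choose)) else 0)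
  have hρ : ∀ y : FreeAbelianGroup (X 0),
      FreeAbelianGroup.map (fun σ => δ 0 1 (c 0 σ)) y = ρ (FreeAbelianGroup.map aug y) := by
    intro y
    induction y using FreeAbelianGroup.induction_on with
    | zero => simp
    | of σ =>
      rw [FreeAbelianGroup.map_of_apply, FreeAbelianGroup.map_of_apply]
      have h : ∃ σ', aug σ' = aug σ := ⟨σ, rfl⟩
      show _ = FreeAbelianGroup.lift _ (FreeAbelianGroup.of (aug σ))
      rw [FreeAbelianGroup.lift_apply_of, dif_pos h]
      exact congrArg _ (hℓ _ _ h.choose_spec.symm)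
    | neg σ ih => simp only [map_neg, ih]
    | add x y hx hy => simp only [map_add, hx, hy]
  rw [hρ, hx, map_zero, sub_zero]

end

end Groth.Agent.Lib.Helper16.FreeContr
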