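import Mathlib
import Groth.Agent.Lib.Helper16FreeContr

set_option autoImplicit false
set_option linter.unusedSectionVars false
universe w v u

open CategoryTheory Limits Opposite Simplicial

namespace Groth.Agent.Lib.Helper16.CechNerveSect

section
variable {E : Type u} [Category.{v} E] (f : Arrow E)
  [∀ n : ℕ, HasWidePullback.{0} f.right (fun _ : Fin (n + 1) => f.left) fun _ => f.hom]
  (Ψ : E ⥤ Type w)
  [∀ n : ℕ, PreservesLimit (WidePullbackShape.wideCospan f.right (fun _ : Fin (n + 1) => f.left)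
    (fun _ => f.hom)) Ψ]

/-- the `j`-th projection on `Ψ`-points of the Čech nerve -/
noncomputable def pr (n : ℕ) (j : Fin (n + 1)) (σ : Ψ.obj (f.cechNerve.obj (op ⦋n⦌))) : Ψ.obj f.left :=
  Ψ.map (WidePullback.π (fun _ : Fin (n + 1) => f.hom) j) σ

/-- the base projection -/
noncomputable def bs (n : ℕ) (σ : Ψ.obj (f.cechNerve.obj (op ⦋n⦌))) : Ψ.obj f.right :=
  Ψ.map (WidePullback.base (fun _ : Fin (n + 1) => f.hom)) σ

theorem hom_pr (n : ℕ) (j : Fin (n + 1)) (σ : Ψ.obj (f.cechNerve.obj (op ⦋n⦌))) :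
    Ψ.map f.hom (pr f Ψ n j σ) = bs f Ψ n σ := by
  unfold pr bs
  rw [← WidePullback.π_arrow (fun _ : Fin (n + 1) => f.hom) j, Functor.map_comp]
  rfl

theorem pr_map {n m : ℕ} (g : ⦋m⦌ ⟶ ⦋n⦌) (j : Fin (m + 1)) (σ : Ψ.obj (f.cechNerve.obj (op ⦋n⦌))) :
    pr f Ψ m j (Ψ.map (f.cechNerve.map g.op) σ) = pr f Ψ n (g.toOrderHom j) σ := by
  unfold pr
  have : f.cechNerve.map g.op ≫ WidePullback.π (fun _ : Fin (m + 1) => f.hom) j =
      WidePullback.π (fun _ : Fin (n + 1) => f.hom) (g.toOrderHom j) := by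
    simp only [Arrow.cechNerve, Quiver.Hom.unop_op]
    exact WidePullback.lift_π _ _ _ _ _
  rw [← this, Functor.map_comp]
  rfl

theorem bs_map {n m : ℕ} (g : ⦋m⦌ ⟶ ⦋n⦌) (σ : Ψ.obj (f.cechNerve.obj (op ⦋n⦌))) :
    bs f Ψ m (Ψ.map (f.cechNerve.map g.op) σ) = bs f Ψ n σ := by
  unfold bs
  have : f.cechNerve.map g.op ≫ WidePullback.base (fun _ : Fin (m + 1) => f.hom) =
      WidePullback.base (fun _ : Fin (n + 1) => f.hom) := by
    simp only [Arrow.cechNerve, Quiver.Hom.unop_op]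
    exact WidePullback.lift_base _ _ _ _
  rw [← this, Functor.map_comp]
  rfl

theorem existsUnique_tuple (n : ℕ) (s : Fin (n + 1) → Ψ.obj f.left) (t : Ψ.obj f.right)
    (h : ∀ j, Ψ.map f.hom (s j) = t) :
    ∃! σ : Ψ.obj (f.cechNerve.obj (op ⦋n⦌)), ∀ j, pr f Ψ n j σ = s j := by
  let D := WidePullbackShape.wideCospan f.right (fun _ : Fin (n + 1) => f.left) (fun _ => f.hom)
  have hc : IsLimit (Ψ.mapCone (limit.cone D)) := isLimitOfPreserves Ψ (limit.isLimit D)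
  let sec : ∀ j : WidePullbackShape (Fin (n + 1)), (D ⋙ Ψ).obj j := fun j =>
    match j with
    | none => t
    | some j => s j
  have hsec : sec ∈ (D ⋙ Ψ).sections := by
    intro j j' φ
    rcases φ with _ | j
    · simp
    · exact h j
  obtain ⟨σ, hσ, huniq⟩ := (Types.isLimit_iff _).1 ⟨hc⟩ sec hsec
  refine ⟨σ, fun j => hσ (some j), fun σ' hσ' => huniq σ' ?_⟩
  intro j
  match j with
  | none =>
    have := hom_pr f Ψ n 0 σ'
    rw [hσ' 0, h 0] at this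
    exact this.symm
  | some j => exact hσ' j

theorem tuple_ext (n : ℕ) (σ σ' : Ψ.obj (f.cechNerve.obj (op ⦋n⦌)))
    (h : ∀ j, pr f Ψ n j σ = pr f Ψ n j σ') : σ = σ' := by
  obtain ⟨τ, _, huniq⟩ := existsUnique_tuple f Ψ n (fun j => pr f Ψ n j σ') (bs f Ψ n σ')
    (fun j => hom_pr f Ψ n j σ')
  rw [huniq σ h, huniq σ' (fun _ => rfl)]

end

section contraction
variable {E : Type u} [Category.{v} E] (f : Arrow E)
  [∀ n : ℕ, HasWidePullback.{0} f.right (fun _ : Fin (n + 1) => f.left) fun _ => f.hom]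
  (Ψ : E ⥤ Type w)
  [∀ n : ℕ, PreservesLimit (WidePullbackShape.wideCospan f.right (fun _ : Fin (n + 1) => f.left)
    (fun _ => f.hom)) Ψ]

/-- a chosen lift -/
noncomputable def lft (t : Ψ.obj f.right) (h : ∃ s : Ψ.obj f.left, Ψ.map f.hom s = t) : Ψ.obj f.left :=
  h.choose

theorem lft_spec (t : Ψ.obj f.right) (h : ∃ s : Ψ.obj f.left, Ψ.map f.hom s = t) :
    Ψ.map f.hom (lft f Ψ t h) = t := h.choose_spec

theorem lft_congr {t t' : Ψ.obj f.right} (e : t = t') (h : ∃ s : Ψ.obj f.left, Ψ.map f.hom s = t)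
    (h' : ∃ s : Ψ.obj f.left, Ψ.map f.hom s = t') : lft f Ψ t h = lft f Ψ t' h' := by
  subst e
  rfl

theorem exists_lift (n : ℕ) (σ : Ψ.obj (f.cechNerve.obj (op ⦋n⦌))) :
    ∃ s : Ψ.obj f.left, Ψ.map f.hom s = bs f Ψ n σ := ⟨_, hom_pr f Ψ n 0 σ⟩

/-- the tuple `(ℓ, σ_0, …, σ_n)` -/
noncomputable def consTuple (n : ℕ) (σ : Ψ.obj (f.cechNerve.obj (op ⦋n⦌))) : Fin (n + 2) → Ψ.obj f.left :=
  Fin.cons (lft f Ψ (bs f Ψ n σ) (exists_lift f Ψ n σ)) (fun j => pr f Ψ n j σ)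

theorem consTuple_hom (n : ℕ) (σ : Ψ.obj (f.cechNerve.obj (op ⦋n⦌))) (j : Fin (n + 2)) :
    Ψ.map f.hom (consTuple f Ψ n σ j) = bs f Ψ n σ := by
  refine Fin.cases ?_ (fun j => ?_) j
  · exact lft_spec f Ψ _ _
  · simp only [consTuple, Fin.cons_succ]
    exact hom_pr f Ψ n j σ

/-- the contraction `σ ↦ (ℓ, σ)` -/
noncomputable def cn (n : ℕ) (σ : Ψ.obj (f.cechNerve.obj (op ⦋n⦌))) :
    Ψ.obj (f.cechNerve.obj (op ⦋n + 1⦌)) :=
  (existsUnique_tuple f Ψ (n + 1) (consTuple f Ψ n σ) (bs f Ψ n σ) (consTuple_hom f Ψ n σ)).exists.choose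

theorem pr_cn (n : ℕ) (σ : Ψ.obj (f.cechNerve.obj (op ⦋n⦌))) (j : Fin (n + 2)) :
    pr f Ψ (n + 1) j (cn f Ψ n σ) = consTuple f Ψ n σ j :=
  (existsUnique_tuple f Ψ (n + 1) (consTuple f Ψ n σ) (bs f Ψ n σ)
    (consTuple_hom f Ψ n σ)).exists.choose_spec j

theorem pr_cn_zero (n : ℕ) (σ : Ψ.obj (f.cechNerve.obj (op ⦋n⦌))) :
    pr f Ψ (n + 1) 0 (cn f Ψ n σ) = lft f Ψ (bs f Ψ n σ) (exists_lift f Ψ n σ) := by
  rw [pr_cn]; rfl

theorem pr_cn_succ (n : ℕ) (σ : Ψ.obj (f.cechNerve.obj (op ⦋n⦌))) (j : Fin (n + 1)) :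
    pr f Ψ (n + 1) j.succ (cn f Ψ n σ) = pr f Ψ n j σ := by
  rw [pr_cn]; simp [consTuple]

/-- the face maps on points -/
noncomputable def dl (n : ℕ) (i : Fin (n + 2)) (σ : Ψ.obj (f.cechNerve.obj (op ⦋n + 1⦌))) :
    Ψ.obj (f.cechNerve.obj (op ⦋n⦌)) :=
  Ψ.map (f.cechNerve.δ i) σ

theorem pr_dl (n : ℕ) (i : Fin (n + 2)) (σ : Ψ.obj (f.cechNerve.obj (op ⦋n + 1⦌))) (j : Fin (n + 1)) :
    pr f Ψ n j (dl f Ψ n i σ) = pr f Ψ (n + 1) (i.succAbove j) σ :=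
  pr_map f Ψ (SimplexCategory.δ i) j σ

theorem bs_dl (n : ℕ) (i : Fin (n + 2)) (σ : Ψ.obj (f.cechNerve.obj (op ⦋n + 1⦌))) :
    bs f Ψ n (dl f Ψ n i σ) = bs f Ψ (n + 1) σ :=
  bs_map f Ψ (SimplexCategory.δ i) σ

theorem dl_zero_cn (n : ℕ) (σ : Ψ.obj (f.cechNerve.obj (op ⦋n⦌))) :
    dl f Ψ n 0 (cn f Ψ n σ) = σ := by
  apply tuple_ext
  intro j
  rw [pr_dl, Fin.succAbove_zero, pr_cn_succ]

theorem dl_succ_cn (n : ℕ) (i : Fin (n + 2)) (σ : Ψ.obj (f.cechNerve.obj (op ⦋n + 1⦌))) :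
    dl f Ψ (n + 1) i.succ (cn f Ψ (n + 1) σ) = cn f Ψ n (dl f Ψ n i σ) := by
  apply tuple_ext
  intro j
  refine Fin.cases ?_ (fun j => ?_) j
  · rw [pr_dl, Fin.succ_succAbove_zero, pr_cn_zero, pr_cn_zero]
    exact lft_congr f Ψ (bs_dl f Ψ n i σ).symm _ _
  · rw [pr_dl, Fin.succ_succAbove_succ, pr_cn_succ, pr_cn_succ, pr_dl]

theorem dl_one_cn_congr (σ σ' : Ψ.obj (f.cechNerve.obj (op ⦋0⦌))) (h : bs f Ψ 0 σ = bs f Ψ 0 σ') :
    dl f Ψ 0 1 (cn f Ψ 0 σ) = dl f Ψ 0 1 (cn f Ψ 0 σ') := by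
  apply tuple_ext
  intro j
  have hj : j = 0 := by
    have : Subsingleton (Fin (0 + 1)) := inferInstanceAs (Subsingleton (Fin 1))
    exact Subsingleton.elim _ _
  subst hj
  rw [pr_dl, pr_dl]
  have : (1 : Fin 2).succAbove (0 : Fin 1) = 0 := rfl
  rw [this, pr_cn_zero, pr_cn_zero]
  exact lft_congr f Ψ h _ _

open Groth.Agent.Lib.Helper16.FreeContr in
/-- exactness of the free alternating complex of points, in positive degrees -/
theorem exact_succ (n : ℕ) (x : FreeAbelianGroup (Ψ.obj (f.cechNerve.obj (op ⦋n + 1⦌))))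
    (hx : bd (X := fun n => Ψ.obj (f.cechNerve.obj (op ⦋n⦌))) (dl f Ψ) n x = 0) :
    ∃ y, bd (X := fun n => Ψ.obj (f.cechNerve.obj (op ⦋n⦌))) (dl f Ψ) (n + 1) y = x :=
  FreeContr.exact_succ (X := fun n => Ψ.obj (f.cechNerve.obj (op ⦋n⦌))) (dl f Ψ) (cn f Ψ)
    (dl_zero_cn f Ψ) (dl_succ_cn f Ψ) n x hx

open Groth.Agent.Lib.Helper16.FreeContr in
/-- exactness of the free alternating complex of points, in degree zero -/
theorem exact_zero (x : FreeAbelianGroup (Ψ.obj (f.cechNerve.obj (op ⦋0⦌))))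
    (hx : FreeAbelianGroup.map (bs f Ψ 0) x = 0) :
    ∃ y, bd (X := fun n => Ψ.obj (f.cechNerve.obj (op ⦋n⦌))) (dl f Ψ) 0 y = x :=
  FreeContr.exact_zero (X := fun n => Ψ.obj (f.cechNerve.obj (op ⦋n⦌))) (dl f Ψ) (cn f Ψ)
    (dl_zero_cn f Ψ) (bs f Ψ 0) (dl_one_cn_congr f Ψ) x hx

end contraction

end Groth.Agent.Lib.Helper16.CechNerveSect
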