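import Mathlib

set_option autoImplicit false
set_option linter.style.haveILetI false
set_option linter.unusedSectionVars false

namespace Groth.Agent.Lib.Helper16Chain

open Module

variable {k : Type*} [Field k] {E : Type*} [AddCommGroup E] [Module k E]
  {E' : Type*} [AddCommGroup E'] [Module k E']

/-- complement inside a submodule -/
lemma exists_compl_in (U P : Submodule k E) (hP : P ≤ U) :
    ∃ C : Submodule k E, C ≤ U ∧ C ⊓ P = ⊥ ∧ C ⊔ P = U := by
  obtain ⟨C', hC''⟩ := Submodule.exists_isCompl (P.comap U.subtype)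
  have hC' := hC''.symm
  refine ⟨C'.map U.subtype, ?_, ?_, ?_⟩
  · intro x hx
    obtain ⟨y, _, rfl⟩ := hx
    exact y.2
  · rw [eq_bot_iff]
    rintro x ⟨⟨y, hy, rfl⟩, hxP⟩
    have : y ∈ C' ⊓ P.comap U.subtype := ⟨hy, hxP⟩
    rw [hC'.inf_eq_bot] at this
    rw [(Submodule.mem_bot k).1 this]
    simp
  · apply le_antisymm
    · apply sup_le
      · intro x hx
        obtain ⟨y, _, rfl⟩ := hx
        exact y.2
      · exact hP
    · intro x hx
      have h1 : (⟨x, hx⟩ : U) ∈ C' ⊔ P.comap U.subtype := by rw [hC'.sup_eq_top]; trivial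
      obtain ⟨c, hc, p, hp, hcp⟩ := Submodule.mem_sup.1 h1
      have : x = (c : E) + (p : E) := by
        have := congrArg (fun z : U => (z : E)) hcp
        simpa using this.symm
      rw [this]
      exact Submodule.add_mem_sup ⟨c, hc, rfl⟩ hp

/-- internal direct sum as a product -/
lemma sumEquiv (W C X : Submodule k E) (hd : C ⊓ X = ⊥) (hs : C ⊔ X = W) :
    ∃ θ : (C × X) ≃ₗ[k] W, ∀ (c : C) (x : X), ((θ (c, x) : W) : E) = c + x := by
  let Φ : (C × X) →ₗ[k] E := LinearMap.coprod C.subtype X.subtype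
  have hinj : Function.Injective Φ := by
    rw [← LinearMap.ker_eq_bot, eq_bot_iff]
    rintro ⟨c, x⟩ hcx
    have h0 : (c : E) + (x : E) = 0 := by simpa [Φ] using hcx
    have hc : (c : E) ∈ C ⊓ X := by
      refine ⟨c.2, ?_⟩
      have : (c : E) = -(x : E) := eq_neg_of_add_eq_zero_left h0
      rw [this]; exact X.neg_mem x.2
    rw [hd] at hc
    have hc0 : (c : E) = 0 := (Submodule.mem_bot k).1 hc
    have hx0 : (x : E) = 0 := by rw [hc0, zero_add] at h0; exact h0
    have h1 : c = 0 := Subtype.ext hc0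
    have h2 : x = 0 := Subtype.ext hx0
    rw [h1, h2]
    exact Submodule.zero_mem _
  have hrange : LinearMap.range Φ = W := by
    simp only [Φ, LinearMap.range_coprod, Submodule.range_subtype]
    exact hs
  refine ⟨(LinearEquiv.ofInjective Φ hinj).trans (LinearEquiv.ofEq _ _ hrange), ?_⟩
  intro c x
  simp [Φ]

/-- glue linear equivalences along internal direct sum decompositions -/
lemma glue (W C X : Submodule k E) (W' C' X' : Submodule k E')
    (hd : C ⊓ X = ⊥) (hs : C ⊔ X = W) (hd' : C' ⊓ X' = ⊥) (hs' : C' ⊔ X' = W')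
    (eC : C ≃ₗ[k] C') (eX : X ≃ₗ[k] X') :
    ∃ e : W ≃ₗ[k] W', ∀ (w : W) (c : C) (x : X), (w : E) = c + x →
      ((e w : W') : E') = (eC c : E') + (eX x : E') := by
  obtain ⟨θ, hθ⟩ := sumEquiv W C X hd hs
  obtain ⟨θ', hθ'⟩ := sumEquiv W' C' X' hd' hs'
  refine ⟨θ.symm.trans ((eC.prodCongr eX).trans θ'), ?_⟩
  intro w c x hw
  have hwθ : w = θ (c, x) := by
    apply Subtype.ext
    rw [hθ, hw]
  rw [hwθ]
  simp only [LinearEquiv.trans_apply, LinearEquiv.symm_apply_apply]
  rw [show (eC.prodCongr eX) (c, x) = (eC c, eX x) from rfl, hθ']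

/-- equivalence between two lines (or two zero spaces) -/
lemma spanEquiv (ξ : E) (ξ' : E') (h : ξ = 0 ↔ ξ' = 0) :
    ∃ ε : (Submodule.span k {ξ}) ≃ₗ[k] (Submodule.span k {ξ'}),
      ∀ (y : Submodule.span k {ξ}) (c : k), (y : E) = c • ξ → ((ε y : _) : E') = c • ξ' := by
  by_cases h0 : ξ = 0
  · have h0' : ξ' = 0 := h.1 h0
    subst h0
    subst h0'
    haveI : Subsingleton (Submodule.span k {(0 : E)}) := by
      rw [Submodule.span_zero_singleton]; infer_instance
    haveI : Subsingleton (Submodule.span k {(0 : E')}) := by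
      rw [Submodule.span_zero_singleton]; infer_instance
    refine ⟨LinearEquiv.ofSubsingleton _ _, ?_⟩
    intro y c _
    rw [smul_zero]
    have : (LinearEquiv.ofSubsingleton (R := k) (Submodule.span k {(0 : E)})
        (Submodule.span k {(0 : E')})) y = 0 := Subsingleton.elim _ _
    rw [this]; rfl
  · have h0' : ξ' ≠ 0 := fun h1 => h0 (h.2 h1)
    let ε := (LinearEquiv.toSpanNonzeroSingleton k E ξ h0).symm.trans
      (LinearEquiv.toSpanNonzeroSingleton k E' ξ' h0')
    refine ⟨ε, ?_⟩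
    intro y c hy
    have hy' : y = LinearEquiv.toSpanNonzeroSingleton k E ξ h0 c := by
      apply Subtype.ext
      rw [hy]
      simp
    rw [hy']
    show ((LinearEquiv.toSpanNonzeroSingleton k E' ξ' h0')
      ((LinearEquiv.toSpanNonzeroSingleton k E ξ h0).symm
        (LinearEquiv.toSpanNonzeroSingleton k E ξ h0 c)) : E') = c • ξ'
    rw [LinearEquiv.symm_apply_apply, LinearEquiv.toSpanNonzeroSingleton_apply]

/-! ### Chains of subspaces under an endomorphism -/

structure IsChain (F : E →ₗ[k] E) (W : ℕ → Submodule k E) (B : ℕ) : Prop where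
  fin : ∀ j, Module.Finite k (W j)
  inv : ∀ j, (W j).map F ≤ W (j+1)
  bdd : ∀ j, B ≤ j → W j = ⊥

lemma IsChain.pow_inv {F : E →ₗ[k] E} {W : ℕ → Submodule k E} {B : ℕ} (h : IsChain F W B)
    (j n : ℕ) : (W j).map (F^n) ≤ W (j+n) := by
  induction n with
  | zero =>
    rw [pow_zero, Module.End.one_eq_id, Submodule.map_id]
    exact le_rfl
  | succ n ih =>
    rw [pow_succ', Module.End.mul_eq_comp, Submodule.map_comp]
    exact (Submodule.map_mono ih).trans (h.inv (j+n))

open Classical in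
lemma finrank_span_single (v : E) :
    finrank k (Submodule.span k {v}) = if v = 0 then 0 else 1 := by
  by_cases hv : v = 0
  · rw [if_pos hv, hv, Submodule.span_zero_singleton, finrank_bot]
  · rw [if_neg hv, finrank_span_singleton hv]

noncomputable def Dseq (F : E →ₗ[k] E) (W X : ℕ → Submodule k E) (B : ℕ) : ℕ → Submodule k E
  | 0 => ⊥
  | t+1 => Classical.choose (exists_compl_in (W (B-(t+1)) ⊓ (Dseq F W X B t).comap F)
      ((W (B-(t+1)) ⊓ (Dseq F W X B t).comap F) ⊓ X (B-(t+1))) inf_le_left)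

lemma Dseq_spec (F : E →ₗ[k] E) (W X : ℕ → Submodule k E) (B t : ℕ) :
    Dseq F W X B (t+1) ≤ W (B-(t+1)) ⊓ (Dseq F W X B t).comap F ∧
    Dseq F W X B (t+1) ⊓ ((W (B-(t+1)) ⊓ (Dseq F W X B t).comap F) ⊓ X (B-(t+1))) = ⊥ ∧
    Dseq F W X B (t+1) ⊔ ((W (B-(t+1)) ⊓ (Dseq F W X B t).comap F) ⊓ X (B-(t+1)))
      = W (B-(t+1)) ⊓ (Dseq F W X B t).comap F :=
  Classical.choose_spec (exists_compl_in (W (B-(t+1)) ⊓ (Dseq F W X B t).comap F)
      ((W (B-(t+1)) ⊓ (Dseq F W X B t).comap F) ⊓ X (B-(t+1))) inf_le_left)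

lemma compl_chain (F : E →ₗ[k] E) (W : ℕ → Submodule k E) (B : ℕ) (hW : IsChain F W B) (s : ℕ)
    (hmin : ∀ j, j < s → W j = ⊥) (ξ : ℕ → E) (hξW : ∀ j, ξ j ∈ W j)
    (hξF : ∀ j, s ≤ j → F (ξ j) = ξ (j+1)) :
    ∃ C : ℕ → Submodule k E, (∀ j, C j ≤ W j) ∧ (∀ j, C j ⊓ Submodule.span k {ξ j} = ⊥) ∧
      (∀ j, C j ⊔ Submodule.span k {ξ j} = W j) ∧ (∀ j, (C j).map F ≤ C (j+1)) := by
  let X : ℕ → Submodule k E := fun j => Submodule.span k {ξ j}
  let C : ℕ → Submodule k E := fun j => Dseq F W X B (B - j)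
  have hXW : ∀ j, X j ≤ W j := fun j => (Submodule.span_singleton_le_iff_mem _ _).2 (hξW j)
  have hCbot : ∀ j, B ≤ j → C j = ⊥ := by
    intro j hj
    simp only [C]
    rw [Nat.sub_eq_zero_of_le hj]
    rfl
  have hspec : ∀ j, j < B →
      C j ≤ W j ⊓ (C (j+1)).comap F ∧ C j ⊓ ((W j ⊓ (C (j+1)).comap F) ⊓ X j) = ⊥ ∧
        C j ⊔ ((W j ⊓ (C (j+1)).comap F) ⊓ X j) = W j ⊓ (C (j+1)).comap F := by
    intro j hj
    obtain ⟨t, ht⟩ : ∃ t, B - j = t + 1 := ⟨B - j - 1, by omega⟩
    have h1 : B - (t+1) = j := by omega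
    have h2 : B - (j+1) = t := by omega
    have := Dseq_spec F W X B t
    simp only [C]
    rw [ht, h2]
    rw [h1] at this
    exact this
  have hCW : ∀ j, C j ≤ W j := by
    intro j
    by_cases hj : j < B
    · exact (hspec j hj).1.trans inf_le_left
    · rw [hCbot j (by omega)]; exact bot_le
  have hdisj : ∀ j, C j ⊓ X j = ⊥ := by
    intro j
    by_cases hj : j < B
    · rw [eq_bot_iff]
      intro v hv
      rw [← (hspec j hj).2.1]
      exact ⟨hv.1, (hspec j hj).1 hv.1, hv.2⟩
    · rw [hCbot j (by omega)]; exact bot_inf_eq _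
  have hinv : ∀ j, (C j).map F ≤ C (j+1) := by
    intro j
    by_cases hj : j < B
    · rw [Submodule.map_le_iff_le_comap]
      exact (hspec j hj).1.trans inf_le_right
    · rw [hCbot j (by omega), Submodule.map_bot]; exact bot_le
  have hsup : ∀ t j, B - j = t → C j ⊔ X j = W j := by
    intro t
    induction t with
    | zero =>
      intro j hj
      have hjB : B ≤ j := by omega
      rw [hCbot j hjB, hW.bdd j hjB, bot_sup_eq]
      have := hXW j
      rw [hW.bdd j hjB] at this
      exact le_bot_iff.1 this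
    | succ t ih =>
      intro j hj
      have hjB : j < B := by omega
      have ih' := ih (j+1) (by omega)
      apply le_antisymm (sup_le (hCW j) (hXW j))
      intro v hv
      by_cases hsj : s ≤ j
      · have hFv : F v ∈ W (j+1) := hW.inv j (Submodule.mem_map_of_mem hv)
        rw [← ih'] at hFv
        obtain ⟨c, hc, y, hy, hcy⟩ := Submodule.mem_sup.1 hFv
        obtain ⟨a, rfl⟩ := Submodule.mem_span_singleton.1 hy
        have hu : v - a • ξ j ∈ W j ⊓ (C (j+1)).comap F := by
          refine ⟨Submodule.sub_mem _ hv (Submodule.smul_mem _ _ (hξW j)), ?_⟩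
          show F (v - a • ξ j) ∈ C (j+1)
          rw [map_sub, map_smul, hξF j hsj, ← hcy, add_sub_cancel_right]
          exact hc
        have hu' : v - a • ξ j ∈ C j ⊔ X j := by
          rw [← (hspec j hjB).2.2] at hu
          have hle : C j ⊔ ((W j ⊓ (C (j+1)).comap F) ⊓ X j) ≤ C j ⊔ X j :=
            sup_le_sup_left inf_le_right _
          exact hle hu
        have : v = (v - a • ξ j) + a • ξ j := by abel
        rw [this]
        exact Submodule.add_mem _ hu'
          (Submodule.mem_sup_right (Submodule.smul_mem _ _ (Submodule.mem_span_singleton_self _)))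
      · rw [hmin j (by omega)] at hv
        rw [(Submodule.mem_bot k).1 hv]
        exact Submodule.zero_mem _
  exact ⟨C, hCW, hdisj, fun j => hsup (B - j) j rfl, hinv⟩

open Classical in
noncomputable def xiSeq (F : E →ₗ[k] E) (s : ℕ) (x : E) : ℕ → E :=
  fun j => if s ≤ j then (F^(j-s)) x else 0

lemma xiSeq_mem {F : E →ₗ[k] E} {W : ℕ → Submodule k E} {B : ℕ} (hW : IsChain F W B) (s : ℕ)
    (x : E) (hx : x ∈ W s) (j : ℕ) : xiSeq F s x j ∈ W j := by
  unfold xiSeq
  split_ifs with h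
  · have := hW.pow_inv s (j-s) (Submodule.mem_map_of_mem hx)
    rwa [show s + (j-s) = j by omega] at this
  · exact Submodule.zero_mem _

lemma xiSeq_succ (F : E →ₗ[k] E) (s : ℕ) (x : E) (j : ℕ) (h : s ≤ j) :
    F (xiSeq F s x j) = xiSeq F s x (j+1) := by
  unfold xiSeq
  rw [if_pos h, if_pos (by omega), show j + 1 - s = (j - s) + 1 by omega, pow_succ',
    Module.End.mul_apply]

lemma xiSeq_eq_zero_iff (F : E →ₗ[k] E) (s : ℕ) (x : E) (n : ℕ)
    (hxa : ∀ a, a ≤ n → (F^a) x ≠ 0) (hkill : ∀ a, n < a → (F^a) x = 0) (j : ℕ) :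
    xiSeq F s x j = 0 ↔ ¬ (s ≤ j ∧ j ≤ s + n) := by
  unfold xiSeq
  split_ifs with h
  · constructor
    · intro h0 h12
      exact hxa (j-s) (by omega) h0
    · intro h1
      apply hkill
      by_contra h2
      exact h1 ⟨h, by omega⟩
  · constructor
    · intro _ h12
      exact h h12.1
    · intro _
      rfl

lemma rank_split {F : E →ₗ[k] E} {W : ℕ → Submodule k E} {B : ℕ} (hW : IsChain F W B) (s : ℕ)
    (hmin : ∀ j, j < s → W j = ⊥) (ξ : ℕ → E)
    (hξF : ∀ j, s ≤ j → F (ξ j) = ξ (j+1)) (hξW : ∀ j, ξ j ∈ W j)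
    (C : ℕ → Submodule k E) (hCW : ∀ j, C j ≤ W j)
    (hdisj : ∀ j, C j ⊓ Submodule.span k {ξ j} = ⊥)
    (hsup : ∀ j, C j ⊔ Submodule.span k {ξ j} = W j)
    (hinv : ∀ j, (C j).map F ≤ C (j+1)) (i m : ℕ) :
    IsChain F C B ∧
    finrank k ((W i).map (F^m))
      = finrank k ((C i).map (F^m)) + finrank k (Submodule.span k {(F^m) (ξ i)}) := by
  have hC : IsChain F C B :=
    ⟨fun j => by
      haveI := hW.fin j
      exact Submodule.finiteDimensional_of_le (hCW j), hinv,
     fun j hj => le_bot_iff.1 ((hCW j).trans (hW.bdd j hj).le)⟩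
  refine ⟨hC, ?_⟩
  haveI := hC.fin i
  have h1 : (W i).map (F^m) = (C i).map (F^m) ⊔ Submodule.span k {(F^m) (ξ i)} := by
    rw [← hsup i, Submodule.map_sup, Submodule.map_span, Set.image_singleton]
  have h2 : (C i).map (F^m) ⊓ Submodule.span k {(F^m) (ξ i)} = ⊥ := by
    by_cases hsi : s ≤ i
    · have hpow : ∀ m, (F^m) (ξ i) = ξ (i+m) := by
        intro m
        induction m with
        | zero => rfl
        | succ m ih =>
          rw [pow_succ', Module.End.mul_apply, ih, hξF (i+m) (by omega)]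
          rfl
      rw [hpow, eq_bot_iff, ← hdisj (i+m)]
      exact inf_le_inf_right _ (hC.pow_inv i m)
    · have : ξ i = 0 := by
        have := hξW i
        rw [hmin i (by omega)] at this
        exact (Submodule.mem_bot k).1 this
      rw [this, map_zero, Submodule.span_zero_singleton, inf_bot_eq]
  have h3 := Submodule.finrank_sup_add_finrank_inf_eq ((C i).map (F^m))
    (Submodule.span k {(F^m) (ξ i)})
  rw [h2, finrank_bot, add_zero, ← h1] at h3
  exact h3

lemma exists_gen (n : ℕ) (F₀ : E →ₗ[k] E) (W₀ : Submodule k E)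
    (h1 : W₀.map (F₀^n) ≠ ⊥) (h2 : W₀.map (F₀^(n+1)) = ⊥) :
    ∃ x ∈ W₀, (∀ a, a ≤ n → (F₀^a) x ≠ 0) ∧ (∀ a, n < a → (F₀^a) x = 0) := by
  obtain ⟨y, hy, hy0⟩ := (Submodule.ne_bot_iff _).1 h1
  obtain ⟨x, hx, rfl⟩ := hy
  refine ⟨x, hx, ?_, ?_⟩
  · intro a ha h0
    apply hy0
    rw [show n = (n-a) + a by omega, pow_add, Module.End.mul_apply, h0, map_zero]
  · intro a ha
    have : (F₀^(n+1)) x = 0 := by
      have : (F₀^(n+1)) x ∈ W₀.map (F₀^(n+1)) := Submodule.mem_map_of_mem hx
      rw [h2] at this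
      exact (Submodule.mem_bot k).1 this
    rw [show a = (a-(n+1)) + (n+1) by omega, pow_add, Module.End.mul_apply, this, map_zero]

theorem chain_iso (F : E →ₗ[k] E) (F' : E' →ₗ[k] E') (B : ℕ) :
    ∀ (N : ℕ) (W : ℕ → Submodule k E) (W' : ℕ → Submodule k E'),
      IsChain F W B → IsChain F' W' B →
      (∑ j ∈ Finset.range B, finrank k (W j) = N) →
      (∀ i n, finrank k ((W i).map (F^n)) = finrank k ((W' i).map (F'^n))) →
      ∃ e : ∀ j, W j ≃ₗ[k] W' j, ∀ j (x : W j) (y : W (j+1)), (y : E) = F x →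
        ((e (j+1) y : W' (j+1)) : E') = F' (e j x) := by
  intro N
  induction N using Nat.strong_induction_on with
  | _ N IH =>
  intro W W' hW hW' hN hrank
  have hdim : ∀ j, finrank k (W j) = finrank k (W' j) := by
    intro j
    have := hrank j 0
    rw [pow_zero, pow_zero, Module.End.one_eq_id, Module.End.one_eq_id, Submodule.map_id,
      Submodule.map_id] at this
    exact this
  have hbot_iff : ∀ i m, (W i).map (F^m) = ⊥ ↔ (W' i).map (F'^m) = ⊥ := by
    intro i m
    haveI := hW.fin i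
    haveI := hW'.fin i
    rw [← Submodule.finrank_eq_zero, ← Submodule.finrank_eq_zero, hrank]
  by_cases hall : ∀ j, W j = ⊥
  · refine ⟨fun j => by
      haveI := hW.fin j
      haveI := hW'.fin j
      exact LinearEquiv.ofFinrankEq _ _ (hdim j), ?_⟩
    intro j x y hy
    have hx : (x : E) = 0 := by
      have h2 : ∀ v : E, v ∈ W j → v = 0 := fun v hv => by
        rw [hall j] at hv
        exact (Submodule.mem_bot k).1 hv
      exact h2 x x.2
    have hx0 : x = 0 := Subtype.ext hx
    have hy0 : y = 0 := by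
      apply Subtype.ext
      rw [hy, hx, map_zero]
      rfl
    rw [hx0, hy0]
    simp
  · simp only [not_forall] at hall
    classical
    let s := Nat.find hall
    have hs : W s ≠ ⊥ := Nat.find_spec hall
    have hmin : ∀ j, j < s → W j = ⊥ := fun j hj => by
      by_contra h
      exact Nat.find_min hall hj h
    have hsB : s < B := by
      by_contra h
      exact hs (hW.bdd s (by omega))
    have hex : ∃ m, (W s).map (F^m) = ⊥ := ⟨B, by
      have := hW.pow_inv s B
      rw [hW.bdd (s+B) (by omega)] at this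
      exact le_bot_iff.1 this⟩
    let m0 := Nat.find hex
    have hm0 : (W s).map (F^m0) = ⊥ := Nat.find_spec hex
    have hm0pos : m0 ≠ 0 := by
      intro h
      rw [h, pow_zero, Module.End.one_eq_id, Submodule.map_id] at hm0
      exact hs hm0
    obtain ⟨n, hn⟩ : ∃ n, m0 = n+1 := Nat.exists_eq_succ_of_ne_zero hm0pos
    have hnne : (W s).map (F^n) ≠ ⊥ := Nat.find_min hex (by omega : n < m0)
    have hn1 : (W s).map (F^(n+1)) = ⊥ := by rw [← hn]; exact hm0
    have hmin' : ∀ j, j < s → W' j = ⊥ := by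
      intro j hj
      have := (hbot_iff j 0).1 (by
        rw [pow_zero, Module.End.one_eq_id, Submodule.map_id]; exact hmin j hj)
      rwa [pow_zero, Module.End.one_eq_id, Submodule.map_id] at this
    obtain ⟨x, hxW, hxa, hxk⟩ := exists_gen n F (W s) hnne hn1
    obtain ⟨x', hxW', hxa', hxk'⟩ := exists_gen n F' (W' s) (fun h => hnne ((hbot_iff s n).2 h))
      ((hbot_iff s (n+1)).1 hn1)
    let ξ := xiSeq F s x
    let ξ' := xiSeq F' s x'
    have hξW : ∀ j, ξ j ∈ W j := xiSeq_mem hW s x hxW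
    have hξW' : ∀ j, ξ' j ∈ W' j := xiSeq_mem hW' s x' hxW'
    have hξF : ∀ j, s ≤ j → F (ξ j) = ξ (j+1) := xiSeq_succ F s x
    have hξF' : ∀ j, s ≤ j → F' (ξ' j) = ξ' (j+1) := xiSeq_succ F' s x'
    have hξ0 : ∀ j, ξ j = 0 ↔ ¬ (s ≤ j ∧ j ≤ s + n) := xiSeq_eq_zero_iff F s x n hxa hxk
    have hξ0' : ∀ j, ξ' j = 0 ↔ ¬ (s ≤ j ∧ j ≤ s + n) := xiSeq_eq_zero_iff F' s x' n hxa' hxk'
    obtain ⟨C, hCW, hdisj, hsup, hinv⟩ := compl_chain F W B hW s hmin ξ hξW hξF
    obtain ⟨C', hCW', hdisj', hsup', hinv'⟩ := compl_chain F' W' B hW' s hmin' ξ' hξW' hξF'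
    have hsplit := fun i m => rank_split hW s hmin ξ hξF hξW C hCW hdisj hsup hinv i m
    have hsplit' := fun i m => rank_split hW' s hmin' ξ' hξF' hξW' C' hCW' hdisj' hsup' hinv' i m
    have hC : IsChain F C B := (hsplit 0 0).1
    have hC' : IsChain F' C' B := (hsplit' 0 0).1
    -- F^m ξ i
    have hpowξ : ∀ i m, (F^m) (ξ i) = 0 ↔ (F'^m) (ξ' i) = 0 := by
      intro i m
      by_cases hsi : s ≤ i
      · have hp : ∀ m, (F^m) (ξ i) = ξ (i+m) := by
          intro m
          induction m with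
          | zero => rfl
          | succ m ih =>
            rw [pow_succ', Module.End.mul_apply, ih, hξF (i+m) (by omega)]
            rfl
        have hp' : ∀ m, (F'^m) (ξ' i) = ξ' (i+m) := by
          intro m
          induction m with
          | zero => rfl
          | succ m ih =>
            rw [pow_succ', Module.End.mul_apply, ih, hξF' (i+m) (by omega)]
            rfl
        rw [hp, hp', hξ0, hξ0']
      · have h1 : ξ i = 0 := (hξ0 i).2 (fun h => hsi h.1)
        have h2 : ξ' i = 0 := (hξ0' i).2 (fun h => hsi h.1)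
        rw [h1, h2, map_zero, map_zero]
        exact ⟨fun _ => rfl, fun _ => rfl⟩
    have hrankC : ∀ i m, finrank k ((C i).map (F^m)) = finrank k ((C' i).map (F'^m)) := by
      intro i m
      have h1 := (hsplit i m).2
      have h2 := (hsplit' i m).2
      rw [finrank_span_single] at h1 h2
      have h3 := hrank i m
      have h4 := hpowξ i m
      by_cases h5 : (F^m) (ξ i) = 0
      · rw [if_pos h5] at h1
        rw [if_pos (h4.1 h5)] at h2
        omega
      · rw [if_neg h5] at h1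
        rw [if_neg (fun h => h5 (h4.2 h))] at h2
        omega
    have hlt : ∑ j ∈ Finset.range B, finrank k (C j) < N := by
      rw [← hN]
      apply Finset.sum_lt_sum
      · intro j _
        haveI := hW.fin j
        exact Submodule.finrank_mono (hCW j)
      · refine ⟨s, Finset.mem_range.2 hsB, ?_⟩
        have h1 := (hsplit s 0).2
        rw [finrank_span_single, pow_zero, Module.End.one_eq_id, Submodule.map_id,
          Submodule.map_id] at h1
        have h2 : ¬ ((LinearMap.id : E →ₗ[k] E) (ξ s) = 0) := by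
          intro h
          exact ((hξ0 s).1 h) ⟨le_rfl, by omega⟩
        rw [if_neg h2] at h1
        omega
    obtain ⟨eC, heC⟩ := IH _ hlt C C' hC hC' rfl hrankC
    have hzero_iff : ∀ j, ξ j = 0 ↔ ξ' j = 0 := fun j => by rw [hξ0, hξ0']
    choose ε hε using fun j => spanEquiv (k := k) (ξ j) (ξ' j) (hzero_iff j)
    choose e he using fun j => glue (W j) (C j) (Submodule.span k {ξ j}) (W' j) (C' j)
      (Submodule.span k {ξ' j}) (hdisj j) (hsup j) (hdisj' j) (hsup' j) (eC j) (ε j)
    refine ⟨e, ?_⟩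
    intro j x₀ y hy
    by_cases hsj : s ≤ j
    · -- decompose x₀
      have hx₀ : (x₀ : E) ∈ C j ⊔ Submodule.span k {ξ j} := by rw [hsup j]; exact x₀.2
      obtain ⟨c, hc, z, hz, hcz⟩ := Submodule.mem_sup.1 hx₀
      obtain ⟨a, rfl⟩ := Submodule.mem_span_singleton.1 hz
      have hFc : F c ∈ C (j+1) := hinv j (Submodule.mem_map_of_mem hc)
      have h1 := he j x₀ ⟨c, hc⟩ ⟨a • ξ j, hz⟩ hcz.symm
      have hz' : a • ξ (j+1) ∈ Submodule.span k {ξ (j+1)} :=
        Submodule.smul_mem _ _ (Submodule.mem_span_singleton_self _)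
      have h2 := he (j+1) y ⟨F c, hFc⟩ ⟨a • ξ (j+1), hz'⟩ (by
        rw [hy, ← hcz, map_add, map_smul, hξF j hsj])
      have h3 := hε j ⟨a • ξ j, hz⟩ a rfl
      have h4 := hε (j+1) ⟨a • ξ (j+1), hz'⟩ a rfl
      have h5 := heC j ⟨c, hc⟩ ⟨F c, hFc⟩ rfl
      rw [h2, h4, h5, h1, h3, map_add, map_smul, hξF' j hsj]
    · have hx : (x₀ : E) = 0 := by
        have h2 : ∀ v : E, v ∈ W j → v = 0 := fun v hv => by
          rw [hmin j (by omega)] at hv
          exact (Submodule.mem_bot k).1 hv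
        exact h2 x₀ x₀.2
      have hx0 : x₀ = 0 := Subtype.ext hx
      have hy0 : y = 0 := by
        apply Subtype.ext
        rw [hy, hx, map_zero]
        rfl
      rw [hx0, hy0]
      simp

end Groth.Agent.Lib.Helper16Chain
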