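import Mathlib
import Groth.Prelude.Def_W4c1btstackcountsChain
import Groth.Agent.Lib.Helper16Chain

set_option autoImplicit false
set_option linter.style.haveILetI false
set_option linter.unusedSectionVars false

universe u

namespace Groth.Agent.Lib.Helper16Chain

open Module W4c1btstackcounts

variable {k : Type u} [Field k] {d : ℕ → ℕ}

/-- the total space -/
abbrev Etot (k : Type u) [Field k] (d : ℕ → ℕ) := (j : ℕ) → (Fin (d j) → k)

/-- the shift operator of a chain of matrices, truncated to indices `1 ≤ j < r`. -/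
noncomputable def Fop (r : ℕ) (f : (i : ℕ) → Matrix (Fin (d (i + 1))) (Fin (d i)) k) :
    Etot k d →ₗ[k] Etot k d :=
  LinearMap.pi (fun j => match j with
    | 0 => 0
    | j+1 => if 1 ≤ j ∧ j + 1 ≤ r then (Matrix.toLin' (f j)).comp (LinearMap.proj j) else 0)

lemma Fop_zero (r : ℕ) (f : (i : ℕ) → Matrix (Fin (d (i + 1))) (Fin (d i)) k) (v : Etot k d) :
    Fop r f v 0 = 0 := rfl

lemma Fop_succ (r : ℕ) (f : (i : ℕ) → Matrix (Fin (d (i + 1))) (Fin (d i)) k) (v : Etot k d)
    (l : ℕ) : Fop r f v (l+1) = if 1 ≤ l ∧ l + 1 ≤ r then (f l).mulVec (v l) else 0 := by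
  simp only [Fop, LinearMap.pi_apply]
  split_ifs <;> simp

/-- inclusion of the `j`-th factor -/
noncomputable abbrev iot (k : Type u) [Field k] (d : ℕ → ℕ) (j : ℕ) :
    (Fin (d j) → k) →ₗ[k] Etot k d :=
  LinearMap.single k (fun j => Fin (d j) → k) j

lemma iot_injective (j : ℕ) : Function.Injective (iot k d j) := by
  intro v w h
  have := congrFun h j
  simpa using this

lemma Fop_iot (r : ℕ) (f : (i : ℕ) → Matrix (Fin (d (i + 1))) (Fin (d i)) k) (j : ℕ)
    (v : Fin (d j) → k) :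
    Fop r f (iot k d j v) = if 1 ≤ j ∧ j + 1 ≤ r then iot k d (j+1) ((f j).mulVec v) else 0 := by
  funext l
  cases l with
  | zero =>
    rw [Fop_zero]
    split_ifs
    · simp
    · rfl
  | succ l =>
    rw [Fop_succ]
    by_cases hl : l = j
    · subst hl
      split_ifs
      · simp
      · rfl
    · have h1 : (iot k d j v) l = 0 := by
        simp only [iot, LinearMap.coe_single]
        rw [Pi.single_eq_of_ne hl]
      rw [h1, Matrix.mulVec_zero]
      split_ifs
      · simp only [iot, LinearMap.coe_single]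
        rw [Pi.single_eq_of_ne (by omega)]
      · rfl
      · simp only [iot, LinearMap.coe_single]
        rw [Pi.single_eq_of_ne (by omega)]
      · rfl

/-- the graded pieces -/
noncomputable def Wsp (k : Type u) [Field k] (d : ℕ → ℕ) (r : ℕ) (j : ℕ) : Submodule k (Etot k d) :=
  if 1 ≤ j ∧ j ≤ r then LinearMap.range (iot k d j) else ⊥

lemma Wsp_pos {r j : ℕ} (h : 1 ≤ j ∧ j ≤ r) : Wsp k d r j = LinearMap.range (iot k d j) :=
  if_pos h

lemma Wsp_neg {r j : ℕ} (h : ¬ (1 ≤ j ∧ j ≤ r)) : Wsp k d r j = ⊥ :=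
  if_neg h

lemma isChain_Fop (r : ℕ) (f : (i : ℕ) → Matrix (Fin (d (i + 1))) (Fin (d i)) k) :
    IsChain (Fop r f) (Wsp k d r) (r+1) := by
  refine ⟨?_, ?_, ?_⟩
  · intro j
    by_cases h : 1 ≤ j ∧ j ≤ r
    · rw [Wsp_pos h]; infer_instance
    · rw [Wsp_neg h]; infer_instance
  · intro j
    by_cases h : 1 ≤ j ∧ j ≤ r
    · rw [Wsp_pos h]
      rintro _ ⟨_, ⟨v, rfl⟩, rfl⟩
      rw [Fop_iot]
      split_ifs with h2
      · rw [Wsp_pos ⟨by omega, h2.2⟩]
        exact ⟨_, rfl⟩
      · exact Submodule.zero_mem _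
    · rw [Wsp_neg h, Submodule.map_bot]
      exact bot_le
  · intro j hj
    exact Wsp_neg (by omega)

lemma map_pow_Wsp (r : ℕ) (f : (i : ℕ) → Matrix (Fin (d (i + 1))) (Fin (d i)) k) (i n : ℕ)
    (hi : 1 ≤ i) (hin : i + n ≤ r) :
    (Wsp k d r i).map ((Fop r f)^n) = (iterImage f i n).map (iot k d (i+n)) := by
  induction n with
  | zero =>
    rw [pow_zero, Module.End.one_eq_id, Submodule.map_id, Wsp_pos ⟨hi, by omega⟩]
    simp only [iterImage]
    rw [Submodule.map_top]
    rfl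
  | succ n ih =>
    rw [pow_succ', Module.End.mul_eq_comp, Submodule.map_comp, ih (by omega)]
    simp only [iterImage]
    rw [← Submodule.map_comp, ← Submodule.map_comp]
    congr 1
    apply LinearMap.ext
    intro v
    simp only [LinearMap.comp_apply]
    rw [Fop_iot, if_pos ⟨by omega, by omega⟩]
    rfl

lemma rankArray_eq (f : (i : ℕ) → Matrix (Fin (d (i + 1))) (Fin (d i)) k) (i n : ℕ) :
    rankArray f i (i+n) = finrank k (iterImage f i n) := by
  simp only [rankArray]
  rw [if_pos (by omega), Nat.add_sub_cancel_left]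

lemma finrank_map_pow_Wsp (r : ℕ) (f : (i : ℕ) → Matrix (Fin (d (i + 1))) (Fin (d i)) k)
    (i n : ℕ) :
    finrank k ((Wsp k d r i).map ((Fop r f)^n))
      = if 1 ≤ i ∧ i + n ≤ r then rankArray f i (i+n) else 0 := by
  split_ifs with h
  · rw [map_pow_Wsp r f i n h.1 h.2, rankArray_eq]
    exact (Submodule.equivMapOfInjective _ (iot_injective (i+n)) _).finrank_eq.symm
  · have h1 := (isChain_Fop r f).pow_inv i n
    by_cases hi : 1 ≤ i ∧ i ≤ r
    · rw [Wsp_neg (by omega : ¬ (1 ≤ i + n ∧ i + n ≤ r))] at h1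
      rw [le_bot_iff.1 h1, finrank_bot]
    · rw [Wsp_neg hi, Submodule.map_bot, finrank_bot]

lemma exists_G (r j : ℕ) (hj : 1 ≤ j ∧ j ≤ r) (ej : Wsp k d r j ≃ₗ[k] Wsp k d r j) :
    ∃ M : Matrix (Fin (d j)) (Fin (d j)) k, IsUnit M ∧
      ∀ (v : Fin (d j) → k) (x : Wsp k d r j), (x : Etot k d) = iot k d j v →
        ((ej x : Wsp k d r j) : Etot k d) = iot k d j (M.mulVec v) := by
  have hmemW : ∀ v, iot k d j v ∈ Wsp k d r j := fun v => by
    rw [Wsp_pos hj]; exact ⟨v, rfl⟩
  have hW2 : ∀ w : Etot k d, w ∈ Wsp k d r j → ∃ u, iot k d j u = w := fun w hw => by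
    rw [Wsp_pos hj] at hw
    exact hw
  let inj : (Fin (d j) → k) →ₗ[k] Wsp k d r j := (iot k d j).codRestrict (Wsp k d r j) hmemW
  let G : (Fin (d j) → k) →ₗ[k] (Fin (d j) → k) :=
    (LinearMap.proj j).comp ((Wsp k d r j).subtype.comp (ej.toLinearMap.comp inj))
  have hkey : ∀ v, iot k d j (G v) = ((ej (inj v) : Wsp k d r j) : Etot k d) := by
    intro v
    obtain ⟨u, hu⟩ := hW2 _ (ej (inj v)).2
    have : G v = u := by
      simp only [G, LinearMap.comp_apply, LinearEquiv.coe_coe, Submodule.subtype_apply,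
        LinearMap.proj_apply]
      rw [← hu]
      simp
    rw [this, hu]
  have hG0 : ∀ v, G v = 0 → v = 0 := by
    intro v hv
    have h1 := hkey v
    rw [hv, map_zero] at h1
    have h2 : ej (inj v) = 0 := Subtype.ext h1.symm
    have h3 : inj v = 0 := by
      have := ej.injective (h2.trans (map_zero ej).symm)
      exact this
    have h4 : iot k d j v = 0 := congrArg (fun z : Wsp k d r j => (z : Etot k d)) h3
    exact iot_injective j (h4.trans (map_zero _).symm)
  refine ⟨LinearMap.toMatrix' G, ?_, ?_⟩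
  · apply Matrix.mulVec_injective_iff_isUnit.1
    intro v w hvw
    rw [LinearMap.toMatrix'_mulVec, LinearMap.toMatrix'_mulVec] at hvw
    have : G (v - w) = 0 := by rw [map_sub, hvw, sub_self]
    exact sub_eq_zero.1 (hG0 _ this)
  · intro v x hx
    have hx' : x = inj v := Subtype.ext hx
    rw [hx', LinearMap.toMatrix'_mulVec, hkey]

theorem exists_conj (r : ℕ) (f f' : (i : ℕ) → Matrix (Fin (d (i + 1))) (Fin (d i)) k)
    (h : ∀ i j : ℕ, 1 ≤ i → i ≤ j → j ≤ r → rankArray f i j = rankArray f' i j) :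
    ∃ g : (j : ℕ) → Matrix.GeneralLinearGroup (Fin (d j)) k,
      ∀ i : ℕ, 1 ≤ i → i + 1 ≤ r → conj g f i = f' i := by
  have hrank : ∀ i n, finrank k ((Wsp k d r i).map ((Fop r f)^n))
      = finrank k ((Wsp k d r i).map ((Fop r f')^n)) := by
    intro i n
    rw [finrank_map_pow_Wsp, finrank_map_pow_Wsp]
    split_ifs with hc
    · exact h i (i+n) hc.1 (by omega) hc.2
    · rfl
  obtain ⟨e, he⟩ := chain_iso (Fop r f) (Fop r f') (r+1) _ (Wsp k d r) (Wsp k d r)
    (isChain_Fop r f) (isChain_Fop r f') rfl hrank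
  have hG := fun j (hj : 1 ≤ j ∧ j ≤ r) => exists_G r j hj (e j)
  choose M hMunit hM using hG
  let g : (j : ℕ) → Matrix.GeneralLinearGroup (Fin (d j)) k := fun j =>
    if hj : 1 ≤ j ∧ j ≤ r then (hMunit j hj).unit else 1
  refine ⟨g, fun i hi1 hi2 => ?_⟩
  have hji : 1 ≤ i ∧ i ≤ r := ⟨hi1, by omega⟩
  have hji1 : 1 ≤ i + 1 ∧ i + 1 ≤ r := ⟨by omega, hi2⟩
  have hgi : ((g i : Matrix.GeneralLinearGroup (Fin (d i)) k) :
      Matrix (Fin (d i)) (Fin (d i)) k) = M i hji := by
    simp only [g]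
    rw [dif_pos hji]
    rfl
  have hgi1 : ((g (i + 1) : Matrix.GeneralLinearGroup (Fin (d (i + 1))) k) :
      Matrix (Fin (d (i + 1))) (Fin (d (i + 1))) k) = M (i+1) hji1 := by
    simp only [g]
    rw [dif_pos hji1]
    rfl
  have hmat : M (i+1) hji1 * f i = f' i * M i hji := by
    apply Matrix.toLin'.injective
    apply LinearMap.ext
    intro v
    simp only [Matrix.toLin'_mul, LinearMap.comp_apply, Matrix.toLin'_apply]
    apply iot_injective (i+1)
    have hxmem : iot k d i v ∈ Wsp k d r i := by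
      rw [Wsp_pos hji]; exact ⟨v, rfl⟩
    have hymem : iot k d (i+1) ((f i).mulVec v) ∈ Wsp k d r (i+1) := by
      rw [Wsp_pos hji1]; exact ⟨_, rfl⟩
    have h1 := he i ⟨_, hxmem⟩ ⟨_, hymem⟩ (by
      simp only
      rw [Fop_iot, if_pos ⟨hi1, hi2⟩])
    rw [hM (i+1) hji1 ((f i).mulVec v) ⟨_, hymem⟩ rfl, hM i hji v ⟨_, hxmem⟩ rfl, Fop_iot,
      if_pos ⟨hi1, hi2⟩] at h1
    exact h1
  simp only [conj]
  rw [hgi1, hmat, Matrix.mul_assoc, ← hgi]
  have : ((g i : Matrix.GeneralLinearGroup (Fin (d i)) k) : Matrix (Fin (d i)) (Fin (d i)) k) *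
      (((g i)⁻¹ : Matrix.GeneralLinearGroup (Fin (d i)) k) : Matrix (Fin (d i)) (Fin (d i)) k)
      = 1 := Units.mul_inv (g i)
  rw [this, Matrix.mul_one]

/-! ### Invariance under conjugation -/

lemma toLin'_unit_injective {n : ℕ} (g : Matrix.GeneralLinearGroup (Fin n) k) :
    Function.Injective (Matrix.toLin' (g : Matrix (Fin n) (Fin n) k)) := by
  intro v w h
  have h1 : ((g⁻¹ : Matrix.GeneralLinearGroup (Fin n) k) : Matrix (Fin n) (Fin n) k).mulVec
      ((g : Matrix (Fin n) (Fin n) k).mulVec v) =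
      ((g⁻¹ : Matrix.GeneralLinearGroup (Fin n) k) : Matrix (Fin n) (Fin n) k).mulVec
      ((g : Matrix (Fin n) (Fin n) k).mulVec w) := by
    simp only [Matrix.toLin'_apply] at h
    rw [h]
  rw [Matrix.mulVec_mulVec, Matrix.mulVec_mulVec] at h1
  have h2 : ((g⁻¹ : Matrix.GeneralLinearGroup (Fin n) k) : Matrix (Fin n) (Fin n) k) *
      (g : Matrix (Fin n) (Fin n) k) = 1 := Units.inv_mul g
  rw [h2, Matrix.one_mulVec, Matrix.one_mulVec] at h1
  exact h1

lemma toLin'_unit_surjective {n : ℕ} (g : Matrix.GeneralLinearGroup (Fin n) k) :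
    Function.Surjective (Matrix.toLin' (g : Matrix (Fin n) (Fin n) k)) := by
  intro w
  refine ⟨((g⁻¹ : Matrix.GeneralLinearGroup (Fin n) k) : Matrix (Fin n) (Fin n) k).mulVec w, ?_⟩
  rw [Matrix.toLin'_apply, Matrix.mulVec_mulVec]
  have h2 : (g : Matrix (Fin n) (Fin n) k) *
      ((g⁻¹ : Matrix.GeneralLinearGroup (Fin n) k) : Matrix (Fin n) (Fin n) k) = 1 :=
    Units.mul_inv g
  rw [h2, Matrix.one_mulVec]

lemma iterImage_conj (g : (j : ℕ) → Matrix.GeneralLinearGroup (Fin (d j)) k)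
    (f : (i : ℕ) → Matrix (Fin (d (i + 1))) (Fin (d i)) k) (i n : ℕ) :
    iterImage (conj g f) i n
      = (iterImage f i n).map (Matrix.toLin'
          ((g (i+n) : Matrix.GeneralLinearGroup (Fin (d (i+n))) k) :
            Matrix (Fin (d (i+n))) (Fin (d (i+n))) k)) := by
  induction n with
  | zero =>
    simp only [iterImage]
    rw [Submodule.map_top]
    symm
    rw [LinearMap.range_eq_top]
    exact toLin'_unit_surjective (g (i+0))
  | succ n ih =>
    simp only [iterImage]
    rw [ih, ← Submodule.map_comp, ← Submodule.map_comp]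
    congr 1
    rw [← Matrix.toLin'_mul, ← Matrix.toLin'_mul]
    congr 1
    simp only [conj]
    rw [Matrix.mul_assoc]
    have h2 : ((((g (i+n))⁻¹ : Matrix.GeneralLinearGroup (Fin (d (i+n))) k)) :
        Matrix (Fin (d (i+n))) (Fin (d (i+n))) k) *
        ((g (i+n) : Matrix.GeneralLinearGroup (Fin (d (i+n))) k) :
          Matrix (Fin (d (i+n))) (Fin (d (i+n))) k) = 1 := Units.inv_mul (g (i+n))
    rw [h2, Matrix.mul_one]
    rfl

theorem rankArray_conj (g : (j : ℕ) → Matrix.GeneralLinearGroup (Fin (d j)) k)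
    (f : (i : ℕ) → Matrix (Fin (d (i + 1))) (Fin (d i)) k) (i j : ℕ) :
    rankArray (conj g f) i j = rankArray f i j := by
  simp only [rankArray]
  split_ifs with h
  · rw [iterImage_conj]
    exact (Submodule.equivMapOfInjective _ (toLin'_unit_injective _) _).finrank_eq.symm
  · rfl

/-! ### Admissibility -/

lemma rankArray_self (f : (i : ℕ) → Matrix (Fin (d (i + 1))) (Fin (d i)) k) (j : ℕ) :
    rankArray f j j = d j := by
  have h0 : rankArray f j j = finrank k (iterImage f j 0) := rankArray_eq f j 0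
  rw [h0]
  show finrank k (⊤ : Submodule k (Fin (d j) → k)) = d j
  rw [finrank_top, Module.finrank_fin_fun]

lemma finrank_map_add_le {E : Type*} [AddCommGroup E] [Module k E] (F : E →ₗ[k] E)
    (A B : Submodule k E) [Module.Finite k A] (hBA : B ≤ A) :
    finrank k (A.map F) + finrank k B ≤ finrank k A + finrank k (B.map F) := by
  haveI : Module.Finite k B := Submodule.finiteDimensional_of_le hBA
  have hA := LinearMap.finrank_range_add_finrank_ker (F.domRestrict A)
  have hB := LinearMap.finrank_range_add_finrank_ker (F.domRestrict B)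
  rw [LinearMap.range_domRestrict] at hA hB
  -- compare kernels
  let φ : LinearMap.ker (F.domRestrict B) →ₗ[k] LinearMap.ker (F.domRestrict A) :=
    LinearMap.codRestrict _ ((Submodule.inclusion hBA).comp (Submodule.subtype _)) (by
      intro x
      have hx := x.2
      rw [LinearMap.mem_ker] at hx ⊢
      exact hx)
  have hφ : Function.Injective φ := by
    intro x y hxy
    have h1 := congrArg (fun z : LinearMap.ker (F.domRestrict A) => ((z : A) : E)) hxy
    apply Subtype.ext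
    apply Subtype.ext
    exact h1
  have hle := LinearMap.finrank_le_finrank_of_injective hφ
  omega

theorem isRankArray_rankArray (r : ℕ) (f : (i : ℕ) → Matrix (Fin (d (i + 1))) (Fin (d i)) k) :
    IsRankArray d r (rankArray f) := by
  have hch := isChain_Fop r f
  have hρ : ∀ i n, 1 ≤ i → i + n ≤ r →
      finrank k ((Wsp k d r i).map ((Fop r f)^n)) = rankArray f i (i+n) := by
    intro i n h1 h2
    rw [finrank_map_pow_Wsp, if_pos ⟨h1, h2⟩]
  have hfin : ∀ i n, Module.Finite k ((Wsp k d r i).map ((Fop r f)^n)) := by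
    intro i n
    haveI := hch.fin i
    infer_instance
  have hstep : ∀ i m, (Wsp k d r i).map ((Fop r f)^(m+1))
      ≤ (Wsp k d r (i+1)).map ((Fop r f)^m) := by
    intro i m
    rw [pow_succ, Module.End.mul_eq_comp, Submodule.map_comp]
    exact Submodule.map_mono (hch.inv i)
  refine ⟨fun j _ _ => rankArray_self f j, ?_, ?_, ?_⟩
  · intro i j hi hij hj
    obtain ⟨m, rfl⟩ : ∃ m, j = i + 1 + m := ⟨j - (i+1), by omega⟩
    rw [← hρ (i+1) m (by omega) hj, show i + 1 + m = i + (m+1) by omega,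
      ← hρ i (m+1) hi (by omega)]
    haveI := hfin (i+1) m
    exact Submodule.finrank_mono (hstep i m)
  · intro i j hi hij hj
    obtain ⟨n, rfl⟩ : ∃ n, j = i + n := ⟨j - i, by omega⟩
    have h1 : rankArray f i (i + n + 1) = finrank k (iterImage f i (n+1)) := rankArray_eq f i (n+1)
    rw [h1, rankArray_eq]
    simp only [iterImage]
    exact Submodule.finrank_map_le _ _
  · intro i j hi hij hj
    obtain ⟨i', rfl⟩ : ∃ i', i = i' + 1 := ⟨i - 1, by omega⟩
    obtain ⟨m, rfl⟩ : ∃ m, j = i' + 1 + m := ⟨j - (i'+1), by omega⟩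
    rw [show i' + 1 - 1 = i' by omega]
    have e1 : rankArray f (i'+1) (i'+1+m+1)
        = finrank k (((Wsp k d r (i'+1)).map ((Fop r f)^m)).map (Fop r f)) := by
      rw [← Submodule.map_comp, ← Module.End.mul_eq_comp, ← pow_succ',
        hρ (i'+1) (m+1) (by omega) (by omega)]
      rfl
    have e2 : rankArray f i' (i'+1+m)
        = finrank k ((Wsp k d r i').map ((Fop r f)^(m+1))) := by
      rw [hρ i' (m+1) (by omega) (by omega), show i' + (m+1) = i'+1+m by omega]
    have e3 : rankArray f (i'+1) (i'+1+m)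
        = finrank k ((Wsp k d r (i'+1)).map ((Fop r f)^m)) := by
      rw [hρ (i'+1) m (by omega) (by omega)]
    have e4 : rankArray f i' (i'+1+m+1)
        = finrank k (((Wsp k d r i').map ((Fop r f)^(m+1))).map (Fop r f)) := by
      rw [← Submodule.map_comp, ← Module.End.mul_eq_comp, ← pow_succ',
        hρ i' (m+1+1) (by omega) (by omega), show i' + (m+1+1) = i'+1+m+1 by omega]
    rw [e1, e2, e3, e4]
    haveI := hfin (i'+1) m
    exact finrank_map_add_le (Fop r f) _ _ (hstep i' m)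

/-! ### Existence of a chain with a given admissible array -/

/-- coordinate subspace of vectors supported on the first `c` coordinates -/
def Sseg (k : Type u) [Field k] (d : ℕ → ℕ) (j c : ℕ) : Submodule k (Fin (d j) → k) where
  carrier := {v | ∀ β : Fin (d j), c ≤ (β : ℕ) → v β = 0}
  add_mem' := by
    intro v w hv hw β hβ
    rw [Pi.add_apply, hv β hβ, hw β hβ, add_zero]
  zero_mem' := fun _ _ => rfl
  smul_mem' := by
    intro a v hv β hβ
    rw [Pi.smul_apply, hv β hβ, smul_zero]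

lemma mem_Sseg {j c : ℕ} {v : Fin (d j) → k} :
    v ∈ Sseg k d j c ↔ ∀ β : Fin (d j), c ≤ (β : ℕ) → v β = 0 := Iff.rfl

lemma single_mem_Sseg {j c : ℕ} (α : Fin (d j)) (hα : (α : ℕ) < c) :
    (Pi.single α 1 : Fin (d j) → k) ∈ Sseg k d j c := by
  intro β hβ
  rw [Pi.single_eq_of_ne]
  intro h
  rw [h] at hβ
  omega

lemma Sseg_le_span (j c : ℕ) :
    Sseg k d j c ≤ Submodule.span k
      {v | ∃ β : Fin (d j), (β : ℕ) < c ∧ v = (Pi.single β 1 : Fin (d j) → k)} := by
  intro v hv
  rw [pi_eq_sum_univ' v]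
  refine Submodule.sum_mem _ (fun α _ => ?_)
  by_cases hα : (α : ℕ) < c
  · exact Submodule.smul_mem _ _ (Submodule.subset_span ⟨α, hα, rfl⟩)
  · rw [hv α (by omega), zero_smul]
    exact Submodule.zero_mem _

lemma finrank_Sseg (j c : ℕ) (hc : c ≤ d j) : finrank k (Sseg k d j c) = c := by
  let ext0 : (Fin c → k) →ₗ[k] (Fin (d j) → k) :=
    { toFun := fun v β => if h : (β : ℕ) < c then v ⟨β, h⟩ else 0
      map_add' := by
        intro v w
        funext β
        simp only [Pi.add_apply]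
        split_ifs <;> simp
      map_smul' := by
        intro a v
        funext β
        simp only [Pi.smul_apply, RingHom.id_apply]
        split_ifs <;> simp }
  have hinj : Function.Injective ext0 := by
    intro v w hvw
    funext γ
    have := congrFun hvw ⟨γ, lt_of_lt_of_le γ.2 hc⟩
    simp only [ext0, LinearMap.coe_mk, AddHom.coe_mk] at this
    rw [dif_pos γ.2, dif_pos γ.2] at this
    exact this
  have hrange : LinearMap.range ext0 = Sseg k d j c := by
    apply le_antisymm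
    · rintro _ ⟨v, rfl⟩ β hβ
      simp only [ext0, LinearMap.coe_mk, AddHom.coe_mk]
      rw [dif_neg (by omega)]
    · intro v hv
      refine ⟨fun γ => v ⟨γ, lt_of_lt_of_le γ.2 hc⟩, ?_⟩
      funext β
      simp only [ext0, LinearMap.coe_mk, AddHom.coe_mk]
      split_ifs with h
      · rfl
      · exact (hv β (by omega)).symm
  rw [← hrange, LinearMap.finrank_range_of_inj hinj, Module.finrank_fin_fun]

/-- `a` with the convention `a 0 j = 0`. -/
def arr0 (a : ℕ → ℕ → ℕ) (i j : ℕ) : ℕ := if i = 0 then 0 else a i j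

open Classical in
/-- the standard chain attached to an array -/
noncomputable def stdF (k : Type u) [Field k] (d : ℕ → ℕ) (a : ℕ → ℕ → ℕ) (r : ℕ) :
    (j : ℕ) → Matrix (Fin (d (j + 1))) (Fin (d j)) k := fun j =>
  Matrix.of fun β α =>
    if 1 ≤ j ∧ j + 1 ≤ r ∧ ∃ i t, 1 ≤ i ∧ i ≤ j ∧ (α : ℕ) = arr0 a (i-1) j + t ∧ (α : ℕ) < a i j ∧
      (β : ℕ) = arr0 a (i-1) (j+1) + t ∧ (β : ℕ) < a i (j+1) then 1 else 0

lemma mono_of_isRankArray {a : ℕ → ℕ → ℕ} {r : ℕ} (hA : IsRankArray d r a) (j : ℕ) (hj : j ≤ r)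
    (i i' : ℕ) (hi : 1 ≤ i) (hii' : i ≤ i') (hi'j : i' ≤ j) : a i j ≤ a i' j := by
  obtain ⟨m, rfl⟩ : ∃ m, i' = i + m := ⟨i' - i, by omega⟩
  induction m with
  | zero => exact le_rfl
  | succ m ih =>
    exact (ih (by omega) (by omega)).trans (hA.2.1 (i+m) j (by omega) (by omega) hj)

lemma arr0_le {a : ℕ → ℕ → ℕ} {r : ℕ} (hA : IsRankArray d r a) (j : ℕ) (hj : j ≤ r)
    (i i' : ℕ) (hii' : i < i') (hi'j : i' ≤ j) : arr0 a i j ≤ a i' j := by
  unfold arr0
  split_ifs with h0
  · exact Nat.zero_le _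
  · exact mono_of_isRankArray hA j hj i i' (by omega) (by omega) hi'j

lemma le_arr0 {a : ℕ → ℕ → ℕ} {r : ℕ} (hA : IsRankArray d r a) (j : ℕ) (hj : j ≤ r)
    (i i' : ℕ) (hi : 1 ≤ i) (hii' : i < i') (hi'j : i' ≤ j) : a i j ≤ arr0 a (i'-1) j := by
  unfold arr0
  rw [if_neg (by omega)]
  exact mono_of_isRankArray hA j hj i (i'-1) hi (by omega) (by omega)

lemma delta_le {a : ℕ → ℕ → ℕ} {r : ℕ} (hA : IsRankArray d r a) (i j : ℕ) (hi : 1 ≤ i)
    (hij : i ≤ j) (hj : j < r) :
    a i (j+1) + arr0 a (i-1) j ≤ a i j + arr0 a (i-1) (j+1) := by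
  unfold arr0
  by_cases h0 : i - 1 = 0
  · rw [if_pos h0, if_pos h0]
    have := hA.2.2.1 i j hi hij hj
    omega
  · rw [if_neg h0, if_neg h0]
    exact hA.2.2.2 i j (by omega) hij hj

lemma map_stdF_Sseg {a : ℕ → ℕ → ℕ} {r : ℕ} (hA : IsRankArray d r a) (i₀ j : ℕ) (hi₀ : 1 ≤ i₀)
    (hi₀j : i₀ ≤ j) (hj : j + 1 ≤ r) :
    (Sseg k d j (a i₀ j)).map (Matrix.toLin' (stdF k d a r j)) = Sseg k d (j+1) (a i₀ (j+1)) := by
  apply le_antisymm
  · rintro _ ⟨v, hv, rfl⟩ β hβ
    rw [Matrix.toLin'_apply]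
    simp only [Matrix.mulVec, dotProduct]
    apply Finset.sum_eq_zero
    intro α _
    by_cases hα : (α : ℕ) < a i₀ j
    · have : stdF k d a r j β α = 0 := by
        unfold stdF
        rw [Matrix.of_apply, if_neg]
        rintro ⟨_, _, i, t, hi1, hij, hα1, hα2, hβ1, hβ2⟩
        have hii₀ : i ≤ i₀ := by
          by_contra hcon
          have := le_arr0 hA j (by omega) i₀ i hi₀ (by omega) hij
          omega
        have := mono_of_isRankArray hA (j+1) hj i i₀ hi1 hii₀ (by omega)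
        omega
      rw [this, zero_mul]
    · rw [hv α (by omega), mul_zero]
  · refine (Sseg_le_span (j+1) _).trans (Submodule.span_le.2 ?_)
    rintro _ ⟨β, hβ, rfl⟩
    have hex : ∃ i, 1 ≤ i ∧ (β : ℕ) < a i (j+1) := ⟨i₀, hi₀, hβ⟩
    classical
    obtain ⟨i, hidef⟩ : ∃ i, i = Nat.find hex := ⟨_, rfl⟩
    obtain ⟨hi1, hβi⟩ : 1 ≤ i ∧ (β : ℕ) < a i (j+1) := hidef ▸ Nat.find_spec hex
    have hii₀ : i ≤ i₀ := hidef ▸ Nat.find_min' hex ⟨hi₀, hβ⟩
    have hij : i ≤ j := by omega
    have hlow : arr0 a (i-1) (j+1) ≤ (β : ℕ) := by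
      unfold arr0
      split_ifs with h0
      · exact Nat.zero_le _
      · by_contra hcon
        push_neg at hcon
        have hlt : i - 1 < Nat.find hex := by rw [← hidef]; omega
        exact Nat.find_min hex hlt ⟨by omega, hcon⟩
    obtain ⟨t, ht⟩ : ∃ t, t = (β : ℕ) - arr0 a (i-1) (j+1) := ⟨_, rfl⟩
    have hδ := delta_le hA i j hi1 hij (by omega)
    have hαlt : arr0 a (i-1) j + t < a i j := by omega
    have haij : a i j ≤ d j := by
      rw [← hA.1 j (by omega) (by omega)]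
      exact mono_of_isRankArray hA j (by omega) i j hi1 hij le_rfl
    have hαd : arr0 a (i-1) j + t < d j := lt_of_lt_of_le hαlt haij
    have hai₀ : a i j ≤ a i₀ j := mono_of_isRankArray hA j (by omega) i i₀ hi1 hii₀ hi₀j
    refine ⟨Pi.single (⟨arr0 a (i-1) j + t, hαd⟩ : Fin (d j)) 1,
      single_mem_Sseg _ (by simp only; omega), ?_⟩
    rw [Matrix.toLin'_apply, Matrix.mulVec_single_one]
    funext β'
    show stdF k d a r j β' ⟨arr0 a (i-1) j + t, hαd⟩ = (Pi.single β 1 : Fin (d (j+1)) → k) β'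
    by_cases hβ' : β' = β
    · subst hβ'
      rw [Pi.single_eq_same]
      unfold stdF
      rw [Matrix.of_apply, if_pos ⟨by omega, hj, i, t, hi1, hij, rfl, hαlt, by omega, hβi⟩]
    · rw [Pi.single_eq_of_ne hβ']
      unfold stdF
      rw [Matrix.of_apply, if_neg]
      rintro ⟨_, _, i2, t2, h1, h2, h3, h4, h5, h6⟩
      simp only at h3 h4
      have hi2 : i2 = i := by
        rcases Nat.lt_trichotomy i2 i with hlt | heq | hgt
        · have := le_arr0 hA j (by omega) i2 i h1 hlt hij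
          omega
        · exact heq
        · have := le_arr0 hA j (by omega) i i2 hi1 hgt h2
          omega
      subst hi2
      apply hβ'
      apply Fin.ext
      omega

theorem exists_chain_of_isRankArray {a : ℕ → ℕ → ℕ} {r : ℕ} (hA : IsRankArray d r a) :
    ∃ f : (i : ℕ) → Matrix (Fin (d (i + 1))) (Fin (d i)) k,
      ∀ i j : ℕ, 1 ≤ i → i ≤ j → j ≤ r → rankArray f i j = a i j := by
  refine ⟨stdF k d a r, ?_⟩
  have hiter : ∀ i₀ n, 1 ≤ i₀ → i₀ + n ≤ r →
      iterImage (stdF k d a r) i₀ n = Sseg k d (i₀+n) (a i₀ (i₀+n)) := by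
    intro i₀ n hi₀
    induction n with
    | zero =>
      intro hr
      simp only [iterImage]
      symm
      rw [eq_top_iff]
      intro v _ β hβ
      have h1 : a i₀ i₀ = d i₀ := hA.1 i₀ hi₀ hr
      have h2 : (β : ℕ) < d i₀ := β.2
      have h3 : a i₀ i₀ ≤ (β : ℕ) := hβ
      omega
    | succ n ih =>
      intro hr
      simp only [iterImage]
      rw [ih (by omega)]
      exact map_stdF_Sseg hA i₀ (i₀+n) hi₀ (by omega) hr
  intro i j hi hij hj
  obtain ⟨n, rfl⟩ : ∃ n, j = i + n := ⟨j - i, by omega⟩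
  rw [rankArray_eq, hiter i n hi hj]
  apply finrank_Sseg
  rw [← hA.1 (i+n) (by omega) hj]
  exact mono_of_isRankArray hA (i+n) hj i (i+n) hi (by omega) le_rfl

end Groth.Agent.Lib.Helper16Chain
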