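import Mathlib

/-!
# Symmetric polynomials with degree control (helper4)

* `exists_weighted_preimage`: a symmetric polynomial all of whose monomials have degree `≥ d` is a
  polynomial in the elementary symmetric polynomials all of whose monomials have weight `≥ d`.
* `adamsSymDiff j i = e_i((1+X_k)^j - 1) - j^i e_i(X)` is symmetric with all monomials of degree `> i`.
-/

namespace Groth.Agent.Lib.Helper4
open MvPolynomial Finset

section SymWeight
variable {R : Type*} [CommRing R] {m : ℕ}

theorem esymm_isHomogeneous' (σ : Type*) [Fintype σ] (n : ℕ) :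
    (esymm σ R n).IsHomogeneous n := by
  rw [esymm]
  apply IsHomogeneous.sum
  intro t ht
  rw [mem_powersetCard] at ht
  have := IsHomogeneous.prod t (fun i => (X i : MvPolynomial σ R)) (fun _ => 1)
    (fun i _ => isHomogeneous_X R i)
  simpa [ht.2] using this

/-- weight of a monomial in the variables `Y_0, …, Y_{m-1}` with `Y_i` of weight `i + 1`. -/
def wt (ν : Fin m →₀ ℕ) : ℕ := ν.sum fun i k => (i.1 + 1) * k

theorem aeval_esymm_monomial_isHomogeneous (ν : Fin m →₀ ℕ) (c : R) :
    (aeval (fun i : Fin m => esymm (Fin m) R (i + 1)) (monomial ν c)).IsHomogeneous (wt ν) := by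
  rw [aeval_monomial]
  apply IsHomogeneous.C_mul
  rw [Finsupp.prod, wt, Finsupp.sum]
  apply IsHomogeneous.prod
  intro i _
  exact (esymm_isHomogeneous' (Fin m) (i + 1)).pow _

theorem exists_weighted_preimage (d : ℕ) (p : MvPolynomial (Fin m) R) (hp : p.IsSymmetric)
    (hdeg : ∀ μ ∈ p.support, d ≤ μ.degree) :
    ∃ G : MvPolynomial (Fin m) R, aeval (fun i : Fin m => esymm (Fin m) R (i + 1)) G = p ∧
      ∀ ν ∈ G.support, d ≤ wt ν := by
  classical
  obtain ⟨G, hG⟩ := (esymmAlgHom_fin_bijective R m).2 ⟨p, hp⟩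
  have hG' : aeval (fun i : Fin m => esymm (Fin m) R (i + 1)) G = p := by
    rw [← esymmAlgHom_apply, hG]
  refine ⟨G, hG', ?_⟩
  set E := aeval (R := R) (fun i : Fin m => esymm (Fin m) R (i + 1)) with hE
  set Glo := ∑ ν ∈ G.support.filter (fun ν => wt ν < d), monomial ν (coeff ν G) with hGlo
  set Ghi := ∑ ν ∈ G.support.filter (fun ν => ¬ wt ν < d), monomial ν (coeff ν G) with hGhi
  have hsum : G = Glo + Ghi := by
    rw [hGlo, hGhi, Finset.sum_filter_add_sum_filter_not]
    exact G.as_sum
  have hq0 : E Glo = 0 := by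
    by_contra hne
    obtain ⟨μ, hμ⟩ := exists_coeff_ne_zero hne
    have h1 : μ.degree < d := by
      rw [hGlo, map_sum, coeff_sum] at hμ
      obtain ⟨ν, hν, hνμ⟩ := Finset.exists_ne_zero_of_sum_ne_zero hμ
      rw [mem_filter] at hν
      have hh := aeval_esymm_monomial_isHomogeneous ν (coeff ν G)
      by_contra hcon
      apply hνμ
      apply hh.coeff_eq_zero
      omega
    have h2 : d ≤ μ.degree := by
      have : E Glo = p - E Ghi := by rw [← hG', hsum, map_add]; ring
      rw [this, coeff_sub] at hμ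
      by_cases hpμ : coeff μ p = 0
      · rw [hpμ, zero_sub, neg_ne_zero, hGhi, map_sum, coeff_sum] at hμ
        obtain ⟨ν, hν, hνμ⟩ := Finset.exists_ne_zero_of_sum_ne_zero hμ
        rw [mem_filter] at hν
        have hh := aeval_esymm_monomial_isHomogeneous ν (coeff ν G)
        by_contra hcon
        apply hνμ
        apply hh.coeff_eq_zero
        omega
      · exact hdeg μ (mem_support_iff.2 hpμ)
    omega
  have hGlo0 : Glo = 0 := by
    have hinj := esymmAlgHom_fin_injective R (le_refl m)
    have : esymmAlgHom (Fin m) R m Glo = 0 := by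
      apply Subtype.ext
      rw [esymmAlgHom_apply]
      exact hq0
    exact (map_eq_zero_iff _ hinj).1 this
  intro ν hν
  by_contra hcon
  have : coeff ν Glo = coeff ν G := by
    rw [hGlo, coeff_sum, Finset.sum_eq_single ν]
    · simp
    · intro b _ hb
      rw [coeff_monomial, if_neg hb]
    · intro h
      exfalso; apply h
      rw [mem_filter]; exact ⟨hν, by omega⟩
  rw [hGlo0, coeff_zero] at this
  exact (mem_support_iff.1 hν) this.symm

end SymWeight

section HighDeg
variable {R : Type*} [CommRing R] {σ : Type*}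

/-- all monomials of `p` have degree at least `d` -/
def HighDeg (d : ℕ) (p : MvPolynomial σ R) : Prop := ∀ μ ∈ p.support, d ≤ μ.degree

theorem HighDeg.mono {d d' : ℕ} {p : MvPolynomial σ R} (h : HighDeg d p) (hd : d' ≤ d) :
    HighDeg d' p := fun μ hμ => hd.trans (h μ hμ)

theorem highDeg_zero' (p : MvPolynomial σ R) : HighDeg 0 p := fun _ _ => Nat.zero_le _

theorem highDeg_of_zero (d : ℕ) : HighDeg d (0 : MvPolynomial σ R) := by
  intro μ hμ; simp at hμ

theorem HighDeg.add {d : ℕ} {p q : MvPolynomial σ R} (hp : HighDeg d p) (hq : HighDeg d q) :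
    HighDeg d (p + q) := by
  classical
  intro μ hμ
  rcases Finset.mem_union.1 (support_add hμ) with h | h
  · exact hp μ h
  · exact hq μ h

theorem HighDeg.neg {d : ℕ} {p : MvPolynomial σ R} (hp : HighDeg d p) : HighDeg d (-p) := by
  intro μ hμ
  rw [support_neg] at hμ
  exact hp μ hμ

theorem HighDeg.sub {d : ℕ} {p q : MvPolynomial σ R} (hp : HighDeg d p) (hq : HighDeg d q) :
    HighDeg d (p - q) := by
  rw [sub_eq_add_neg]; exact hp.add hq.neg

theorem HighDeg.mul {d d' : ℕ} {p q : MvPolynomial σ R} (hp : HighDeg d p) (hq : HighDeg d' q) :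
    HighDeg (d + d') (p * q) := by
  classical
  intro μ hμ
  obtain ⟨a, ha, b, hb, rfl⟩ := Finset.mem_add.1 (support_mul p q hμ)
  rw [map_add]
  exact add_le_add (hp a ha) (hq b hb)

theorem HighDeg.sum {ι : Type*} {d : ℕ} (s : Finset ι) (f : ι → MvPolynomial σ R)
    (h : ∀ i ∈ s, HighDeg d (f i)) : HighDeg d (∑ i ∈ s, f i) := by
  classical
  induction s using Finset.induction_on with
  | empty => simpa using highDeg_of_zero d
  | insert a s ha ih =>
    rw [sum_insert ha]
    exact (h a (mem_insert_self a s)).add (ih fun i hi => h i (mem_insert_of_mem hi))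

theorem highDeg_X (i : σ) : HighDeg 1 (X i : MvPolynomial σ R) := by
  classical
  intro μ hμ
  by_cases hR : Nontrivial R
  · rw [support_X] at hμ
    rw [Finset.mem_singleton] at hμ
    subst hμ
    simp
  · rw [not_nontrivial_iff_subsingleton] at hR
    have : (X i : MvPolynomial σ R) = 0 := Subsingleton.elim _ _
    rw [this] at hμ; simp at hμ

theorem highDeg_C_mul {d : ℕ} (c : R) {p : MvPolynomial σ R} (hp : HighDeg d p) :
    HighDeg d (C c * p) := by
  have := (highDeg_zero' (C c : MvPolynomial σ R)).mul hp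
  rwa [zero_add] at this

end HighDeg

section Binom

theorem exists_one_add_pow_eq {A : Type*} [CommRing A] (x : A) (j : ℕ) :
    ∃ h : A, (1 + x) ^ j = 1 + j * x + x ^ 2 * h := by
  induction j with
  | zero => exact ⟨0, by simp⟩
  | succ j ih =>
    obtain ⟨h, hh⟩ := ih
    refine ⟨(1 + x) * h + j, ?_⟩
    rw [pow_succ, hh]
    push_cast
    ring

end Binom

section AdamsSym
variable {m : ℕ}

/-- the polynomial `(1 + X_k)^j - 1`. -/
noncomputable def adamsVar (j : ℕ) (k : Fin m) : MvPolynomial (Fin m) ℤ := (1 + X k) ^ j - 1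

/-- `e_i((1+X_k)^j - 1) - j^i e_i(X)` -/
noncomputable def adamsSymDiff (j i : ℕ) : MvPolynomial (Fin m) ℤ :=
  aeval (adamsVar j) (esymm (Fin m) ℤ i) - (j : MvPolynomial (Fin m) ℤ) ^ i * esymm (Fin m) ℤ i

theorem adamsSymDiff_isSymmetric (j i : ℕ) : (adamsSymDiff (m := m) j i).IsSymmetric := by
  intro e
  rw [adamsSymDiff, map_sub, map_mul, map_pow, map_natCast, esymm_isSymmetric (Fin m) ℤ i e]
  congr 1
  have : (rename e : MvPolynomial (Fin m) ℤ →ₐ[ℤ] _).comp (aeval (adamsVar j)) =
      (aeval (adamsVar j)).comp (rename e : MvPolynomial (Fin m) ℤ →ₐ[ℤ] _) := by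
    apply MvPolynomial.algHom_ext
    intro k
    simp [adamsVar]
  have h2 := DFunLike.congr_fun this (esymm (Fin m) ℤ i)
  simp only [AlgHom.comp_apply] at h2
  rw [h2, esymm_isSymmetric (Fin m) ℤ i e]

theorem highDeg_adamsSymDiff (j i : ℕ) : HighDeg (i + 1) (adamsSymDiff (m := m) j i) := by
  classical
  rw [adamsSymDiff, esymm, map_sum, mul_sum, ← sum_sub_distrib]
  apply HighDeg.sum
  intro t ht
  rw [mem_powersetCard] at ht
  rw [map_prod]
  simp only [aeval_X]
  obtain ⟨-, hcard⟩ := ht
  subst hcard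
  -- induction on t
  suffices h : HighDeg (t.card + 1)
      (∏ k ∈ t, adamsVar j k - (j : MvPolynomial (Fin m) ℤ) ^ t.card * ∏ k ∈ t, X k) ∧
      HighDeg t.card (∏ k ∈ t, (X k : MvPolynomial (Fin m) ℤ)) from h.1
  induction t using Finset.induction_on with
  | empty =>
    constructor
    · simpa using highDeg_of_zero _
    · exact highDeg_zero' _
  | insert a t ha ih =>
    obtain ⟨ih1, ih2⟩ := ih
    rw [prod_insert ha, prod_insert ha, card_insert_of_notMem ha]
    obtain ⟨h, hh⟩ := exists_one_add_pow_eq (X a : MvPolynomial (Fin m) ℤ) j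
    have hXa := highDeg_X (R := ℤ) a
    constructor
    · have e : adamsVar j a * ∏ k ∈ t, adamsVar j k -
          (j : MvPolynomial (Fin m) ℤ) ^ (t.card + 1) * (X a * ∏ k ∈ t, X k) =
          adamsVar j a * (∏ k ∈ t, adamsVar j k - (j : MvPolynomial (Fin m) ℤ) ^ t.card * ∏ k ∈ t, X k)
          + X a * (X a * (h * ((j : MvPolynomial (Fin m) ℤ) ^ t.card * ∏ k ∈ t, X k))) := by
        rw [adamsVar, hh]; ring
      rw [e]
      apply HighDeg.add
      · have h1 : HighDeg 1 (adamsVar j a) := by
          rw [adamsVar, hh]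
          have : (1 + (j : MvPolynomial (Fin m) ℤ) * X a + X a ^ 2 * h - 1) =
            X a * ((j : MvPolynomial (Fin m) ℤ) + X a * h) := by ring
          rw [this]
          have := hXa.mul (highDeg_zero' ((j : MvPolynomial (Fin m) ℤ) + X a * h))
          simpa using this
        have := h1.mul ih1
        exact this.mono (by omega)
      · have h3 : HighDeg t.card (h * ((j : MvPolynomial (Fin m) ℤ) ^ t.card * ∏ k ∈ t, X k)) := by
          have := (highDeg_zero' h).mul ((highDeg_zero' ((j : MvPolynomial (Fin m) ℤ) ^ t.card)).mul ih2)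
          simpa using this
        have := hXa.mul (hXa.mul h3)
        exact this.mono (by omega)
    · have := hXa.mul ih2
      exact this.mono (by omega)

end AdamsSym

theorem exists_adamsPoly (m j i : ℕ) :
    ∃ G : MvPolynomial (Fin m) ℤ,
      aeval (fun k : Fin m => esymm (Fin m) ℤ (k + 1)) G = adamsSymDiff (m := m) j i ∧
      ∀ ν ∈ G.support, i + 1 ≤ wt ν :=
  exists_weighted_preimage (i + 1) _ (adamsSymDiff_isSymmetric j i) (highDeg_adamsSymDiff j i)

end Groth.Agent.Lib.Helper4
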