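import Groth.Agent.Lib.Helper4LambdaSplit
import Groth.Agent.Lib.Helper4LambdaFil
import Groth.Agent.Lib.Helper4LambdaInv
import Groth.Agent.Lib.Helper4SymWeight

/-!
# Adams operations and the γ-filtration (helper4)

`ψ^j x - j^n x ∈ F^(n+1)` for `x ∈ F^n` (under the splitting property), via the fundamental theorem
on symmetric polynomials with weight control.
-/

universe u
namespace Groth.Agent.Lib.Helper4
open PowerSeries LambdaRing Finset

section
variable {K : Type u} [CommRing K] [LambdaOps K]

theorem gamma_sum_sub_card (h1 : ∀ k : ℕ, 2 ≤ k → LambdaOps.lam k (1 : K) = 0) (n : ℕ)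
    (y : Fin n → K) (hy : ∀ (i : Fin n) (j : ℕ), 2 ≤ j → LambdaOps.lam j (y i) = 0) (k : ℕ) :
    gamma k (∑ i : Fin n, y i - (n : K)) =
      ∑ s ∈ (univ : Finset (Fin n)).powersetCard k, ∏ i ∈ s, (y i - 1) := by
  classical
  have h : (∑ i : Fin n, y i - (n : K)) = ∑ i : Fin n, (y i - 1) := by
    rw [sum_sub_distrib]; simp
  rw [h, ← coeff_gammaSeries, gammaSeries_sum,
    prod_congr rfl (fun i _ => gammaSeries_sub_one h1 (y i) (hy i)),
    coeff_prod_one_add_C_mul_X]

theorem one_mem_gammaFiltration_zero (P : PosStructure K) : (1 : K) ∈ gammaFiltration P 0 := by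
  rw [gammaFiltration_zero]; trivial

theorem pow_mem_gammaFiltration (P : PosStructure K) {r : ℕ} {x : K}
    (hx : x ∈ gammaFiltration P r) (n : ℕ) : x ^ n ∈ gammaFiltration P (r * n) := by
  induction n with
  | zero => rw [pow_zero, mul_zero]; exact one_mem_gammaFiltration_zero P
  | succ n ih => rw [pow_succ, mul_add, mul_one]; exact mul_mem_gammaFiltration P _ _ _ _ ih hx

theorem prod_mem_gammaFiltration (P : PosStructure K) {ι : Type*} (s : Finset ι) (x : ι → K)
    (r : ι → ℕ) (h : ∀ i ∈ s, x i ∈ gammaFiltration P (r i)) :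
    ∏ i ∈ s, x i ∈ gammaFiltration P (∑ i ∈ s, r i) := by
  classical
  induction s using Finset.induction_on with
  | empty => rw [prod_empty, sum_empty]; exact one_mem_gammaFiltration_zero P
  | insert a s ha ih =>
    rw [prod_insert ha, sum_insert ha]
    exact mul_mem_gammaFiltration P _ _ _ _ (h a (mem_insert_self a s))
      (ih fun i hi => h i (mem_insert_of_mem hi))

theorem aeval_mem_gammaFiltration (P : PosStructure K) {n : ℕ} (c : Fin n → K)
    (hc : ∀ k : Fin n, c k ∈ gammaFiltration P (k.1 + 1)) (G : MvPolynomial (Fin n) ℤ) (d : ℕ)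
    (hG : ∀ ν ∈ G.support, d ≤ wt ν) : MvPolynomial.aeval c G ∈ gammaFiltration P d := by
  rw [MvPolynomial.aeval_def, MvPolynomial.eval₂_eq']
  apply AddSubgroup.sum_mem
  intro ν hν
  apply mul_mem_gammaFiltration_left
  apply gammaFiltration_anti P (hG ν hν)
  have : wt ν = ∑ k : Fin n, (k.1 + 1) * ν k := by
    rw [wt, Finsupp.sum_fintype]
    intro i; simp
  rw [this]
  apply prod_mem_gammaFiltration
  intro k _
  exact pow_mem_gammaFiltration P (hc k) _

theorem aeval_esymm_eq {A : Type*} [CommRing A] {n : ℕ} (a : Fin n → A) (k : ℕ) :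
    MvPolynomial.aeval a (MvPolynomial.esymm (Fin n) ℤ k) =
      ∑ t ∈ (univ : Finset (Fin n)).powersetCard k, ∏ i ∈ t, a i := by
  rw [MvPolynomial.esymm, map_sum]
  refine sum_congr rfl fun t _ => ?_
  rw [map_prod]
  simp

/-- a multiset of line elements as a family indexed by `Fin n`. -/
theorem exists_fin_of_multiset (P : PosStructure K) (s : Multiset K) (hs : ∀ u ∈ s, P.IsLine u) :
    ∃ (n : ℕ) (u : Fin n → K), (∀ k, P.IsLine (u k)) ∧ ∑ k, u k = s.sum ∧ n = Multiset.card s := by
  obtain ⟨l, rfl⟩ := Quot.exists_rep s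
  refine ⟨l.length, l.get, ?_, ?_, ?_⟩
  · intro k
    exact hs _ (by simp)
  · have : (Quot.mk _ l : Multiset K) = (l : Multiset K) := rfl
    rw [this, Multiset.sum_coe, ← List.sum_ofFn, List.ofFn_get]
  · rfl

theorem adams_gamma_pos_mem {P : PosStructure K} (hK : HasSplitting K P) (j : ℕ) (e : K)
    (he : e ∈ P.pos) (i : ℕ) :
    adams P j (gamma i (e - ((P.aug e).toNat : K))) -
        (j : K) ^ i * gamma i (e - ((P.aug e).toNat : K)) ∈ gammaFiltration P (i + 1) := by
  obtain ⟨L, f, hf, hL, s, hs, hsum⟩ := exists_extension_multiset hK e he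
  obtain ⟨n, u, hu, husum, hn⟩ := exists_fin_of_multiset L.posStr s hs
  have hm : (P.aug e).toNat = n := by
    rw [hn, ← hf.aug_comp, ← hsum, aug_multiset_sum_lines _ s hs, Int.toNat_natCast]
  rw [hm]
  set c : ℕ → K := fun k => gamma k (e - (n : K)) with hc
  set a : Fin n → L.carrier := fun k => u k - 1 with ha
  have haug0 : P.aug (e - (n : K)) = 0 := by
    rw [map_sub, map_natCast, ← hm]
    have := P.aug_pos e he
    rw [Int.toNat_of_nonneg this.le, sub_self]
  have hfc : ∀ k, f (c k) = MvPolynomial.aeval a (MvPolynomial.esymm (Fin n) ℤ k) := by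
    intro k
    rw [hc, map_gamma hf.isLambdaHom, map_sub, map_natCast, ← hsum, ← husum,
      gamma_sum_sub_card (lam_one_eq_zero L.posStr) n u
        (fun i => lam_eq_zero_of_isLine L.posStr (u i) (hu i)), aeval_esymm_eq]
  obtain ⟨G, hG1, hG2⟩ := exists_adamsPoly n j i
  set y : K := MvPolynomial.aeval (fun k : Fin n => c (k.1 + 1)) G with hy
  have hymem : y ∈ gammaFiltration P (i + 1) :=
    aeval_mem_gammaFiltration P _ (fun k => gamma_mem_gammaFiltration P _ _ haug0) G _ hG2
  have hfy : f y = MvPolynomial.aeval a (adamsSymDiff (m := n) j i) := by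
    rw [← hG1, MvPolynomial.comp_aeval_apply (φ := MvPolynomial.aeval a), hy]
    have := MvPolynomial.comp_aeval_apply (R := ℤ) (f := fun k : Fin n => c (k.1 + 1))
      (φ := f.toIntAlgHom) G
    simp only [RingHom.toIntAlgHom_apply] at this
    rw [this]
    have e2 : (fun k : Fin n => f (c (k.1 + 1))) =
        fun k : Fin n => MvPolynomial.aeval a (MvPolynomial.esymm (Fin n) ℤ (k.1 + 1)) := by
      funext k
      exact hfc _
    rw [e2]
  have hadams : ∀ k, MvPolynomial.aeval a (adamsVar (m := n) j k) = adams L.posStr j (a k) := by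
    intro k
    rw [adamsVar, map_sub, map_pow, map_add, map_one, MvPolynomial.aeval_X, ha]
    simp only
    rw [adams_sub, adams_of_isLine _ _ (hu k), adams_one]
    congr 2
    ring
  have hfy2 : MvPolynomial.aeval a (adamsSymDiff (m := n) j i) =
      f (adams P j (c i) - (j : K) ^ i * c i) := by
    rw [adamsSymDiff, map_sub, map_mul, map_pow, map_natCast,
      MvPolynomial.comp_aeval_apply (φ := MvPolynomial.aeval a), map_sub, map_mul, map_pow, map_natCast,
      isExtension_map_adams hf, hfc i, aeval_esymm_eq, aeval_esymm_eq]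
    congr 1
    simp only [hadams]
    rw [← adamsRingHom_apply hL, map_sum]
    refine sum_congr rfl fun t _ => ?_
    rw [map_prod]
    rfl
  have : y = adams P j (c i) - (j : K) ^ i * c i := hf.injective (hfy.trans hfy2)
  rw [← this]
  exact hymem

theorem aug_adams_of_mem_lineSpan (P : PosStructure K) (j : ℕ) {x : K} (hx : x ∈ lineSpan P) :
    P.aug (adams P j x) = P.aug x := by
  induction hx using AddSubgroup.closure_induction with
  | mem u hu => rw [adams_of_isLine P u hu, map_pow, hu.2, one_pow]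
  | zero => rw [adams_zero]
  | add x y _ _ hx hy => rw [adams_add, map_add, map_add, hx, hy]
  | neg x _ hx => rw [adams_neg, map_neg, map_neg, hx]

theorem aug_adams {P : PosStructure K} (hK : HasSplitting K P) (j : ℕ) (x : K) :
    P.aug (adams P j x) = P.aug x := by
  obtain ⟨L, f, hf, -, h⟩ := exists_extension_lineSpan hK [x]
  rw [← hf.aug_comp, isExtension_map_adams hf, aug_adams_of_mem_lineSpan _ j (h x (by simp)),
    hf.aug_comp]

/-- `a` has "Adams weight" `r`: it lies in `F^r` and `ψ^j a ≡ j^r a` modulo `F^(r+1)`. -/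
def AdamsWt (P : PosStructure K) (j r : ℕ) (a : K) : Prop :=
  a ∈ gammaFiltration P r ∧ adams P j a - (j : K) ^ r * a ∈ gammaFiltration P (r + 1)

theorem AdamsWt.adams_mem {P : PosStructure K} {j r : ℕ} {a : K} (h : AdamsWt P j r a) :
    adams P j a ∈ gammaFiltration P r := by
  have h1 : (j : K) ^ r * a ∈ gammaFiltration P r := mul_mem_gammaFiltration_left P r _ a h.1
  have h2 := gammaFiltration_anti P (Nat.le_succ r) h.2
  have := AddSubgroup.add_mem _ h2 h1
  rwa [sub_add_cancel] at this

theorem AdamsWt.mul {P : PosStructure K} (hK : HasSplitting K P) {j r s : ℕ} {a b : K}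
    (ha : AdamsWt P j r a) (hb : AdamsWt P j s b) : AdamsWt P j (r + s) (a * b) := by
  refine ⟨mul_mem_gammaFiltration P r s a b ha.1 hb.1, ?_⟩
  have e : adams P j (a * b) - (j : K) ^ (r + s) * (a * b) =
      (adams P j a - (j : K) ^ r * a) * adams P j b +
        (j : K) ^ r * (a * (adams P j b - (j : K) ^ s * b)) := by
    rw [adams_mul hK, pow_add]; ring
  rw [e]
  apply AddSubgroup.add_mem
  · have := mul_mem_gammaFiltration P (r + 1) s _ _ ha.2 hb.adams_mem
    rwa [show r + 1 + s = r + s + 1 by ring] at this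
  · apply mul_mem_gammaFiltration_left
    have := mul_mem_gammaFiltration P r (s + 1) _ _ ha.1 hb.2
    rwa [show r + (s + 1) = r + s + 1 by ring] at this

theorem AdamsWt.sub {P : PosStructure K} {j r : ℕ} {a b : K}
    (ha : AdamsWt P j r a) (hb : AdamsWt P j r b) : AdamsWt P j r (a - b) := by
  refine ⟨AddSubgroup.sub_mem _ ha.1 hb.1, ?_⟩
  have e : adams P j (a - b) - (j : K) ^ r * (a - b) =
      (adams P j a - (j : K) ^ r * a) - (adams P j b - (j : K) ^ r * b) := by
    rw [adams_sub]; ring
  rw [e]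
  exact AddSubgroup.sub_mem _ ha.2 hb.2

theorem AdamsWt.sum {P : PosStructure K} {j r : ℕ} {ι : Type*} (s : Finset ι) (a : ι → K)
    (h : ∀ i ∈ s, AdamsWt P j r (a i)) : AdamsWt P j r (∑ i ∈ s, a i) := by
  refine ⟨AddSubgroup.sum_mem _ fun i hi => (h i hi).1, ?_⟩
  rw [adams_sum, mul_sum, ← sum_sub_distrib]
  exact AddSubgroup.sum_mem _ fun i hi => (h i hi).2

theorem adamsWt_one (P : PosStructure K) (j : ℕ) : AdamsWt P j 0 (1 : K) := by
  refine ⟨by rw [gammaFiltration_zero]; trivial, ?_⟩
  rw [adams_one, pow_zero, one_mul, sub_self]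
  exact AddSubgroup.zero_mem _

theorem adamsWt_gamma_pos {P : PosStructure K} (hK : HasSplitting K P) (j : ℕ) (e : K)
    (he : e ∈ P.pos) (i : ℕ) : AdamsWt P j i (gamma i (e - ((P.aug e).toNat : K))) := by
  refine ⟨gamma_mem_gammaFiltration P _ _ ?_, adams_gamma_pos_mem hK j e he i⟩
  rw [map_sub, map_natCast]
  have := P.aug_pos e he
  rw [Int.toNat_of_nonneg this.le, sub_self]

theorem adamsWt_gamma {P : PosStructure K} (hK : HasSplitting K P) (j : ℕ) (x : K)
    (hx : P.aug x = 0) (r : ℕ) : AdamsWt P j r (gamma r x) := by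
  obtain ⟨e, e', he, he', hxe⟩ := P.exists_sub x
  have haug : P.aug e = P.aug e' := by
    have := congrArg P.aug hxe
    rw [hx, map_sub] at this
    linarith
  set m := (P.aug e).toNat with hm
  have hm' : (P.aug e').toNat = m := by rw [← haug]
  have hxe' : x + (e' - (m : K)) = e - (m : K) := by rw [hxe]; ring
  induction r using Nat.strong_induction_on with
  | _ r ih =>
    have h := gamma_add r x (e' - (m : K))
    rw [hxe', sum_range_succ, Nat.sub_self, gamma_zero', mul_one] at h
    have : gamma r x = gamma r (e - (m : K)) -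
        ∑ k ∈ range r, gamma k x * gamma (r - k) (e' - (m : K)) := by
      rw [h]; ring
    rw [this]
    apply AdamsWt.sub
    · exact adamsWt_gamma_pos hK j e he r
    · apply AdamsWt.sum
      intro k hk
      rw [mem_range] at hk
      have h2 := (ih k hk).mul hK (hm' ▸ adamsWt_gamma_pos hK j e' he' (r - k))
      rwa [show k + (r - k) = r by omega] at h2

theorem adamsWt_list_prod {P : PosStructure K} (hK : HasSplitting K P) (j : ℕ)
    (l : List (ℕ × K)) (hl : ∀ p ∈ l, P.aug p.2 = 0) :
    AdamsWt P j (l.map Prod.fst).sum (l.map fun p => gamma p.1 p.2).prod := by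
  induction l with
  | nil => simpa using adamsWt_one P j
  | cons p l ih =>
    rw [List.map_cons, List.map_cons, List.sum_cons, List.prod_cons]
    exact (adamsWt_gamma hK j p.2 (hl p List.mem_cons_self) p.1).mul hK
      (ih fun q hq => hl q (List.mem_cons_of_mem _ hq))

theorem adams_sub_pow_mul_mem {P : PosStructure K} (hK : HasSplitting K P) (j n : ℕ) (x : K)
    (hx : x ∈ gammaFiltration P n) :
    adams P j x - (j : K) ^ n * x ∈ gammaFiltration P (n + 1) := by
  by_cases hn : n = 0
  · subst hn
    apply mem_gammaFiltration_one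
    rw [map_sub, aug_adams hK, pow_zero, one_mul, sub_self]
  rw [gammaFiltration_of_ne_zero P hn] at hx
  induction hx using AddSubgroup.closure_induction with
  | mem x hx =>
    obtain ⟨l, hl, hln, rfl⟩ := hx
    have hw := adamsWt_list_prod hK j l hl
    rcases Nat.lt_or_ge n (l.map Prod.fst).sum with hlt | hge
    · apply AddSubgroup.sub_mem
      · exact gammaFiltration_anti P hlt hw.adams_mem
      · exact mul_mem_gammaFiltration_left P _ _ _ (gammaFiltration_anti P hlt hw.1)
    · have : n = (l.map Prod.fst).sum := le_antisymm hln hge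
      rw [this]
      exact hw.2
  | zero => rw [adams_zero, mul_zero, sub_zero]; exact AddSubgroup.zero_mem _
  | add x y _ _ hx hy =>
    have e : adams P j (x + y) - (j : K) ^ n * (x + y) =
        (adams P j x - (j : K) ^ n * x) + (adams P j y - (j : K) ^ n * y) := by
      rw [adams_add]; ring
    rw [e]; exact AddSubgroup.add_mem _ hx hy
  | neg x _ hx =>
    have e : adams P j (-x) - (j : K) ^ n * (-x) = -(adams P j x - (j : K) ^ n * x) := by
      rw [adams_neg]; ring
    rw [e]; exact AddSubgroup.neg_mem _ hx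

end

section
variable {K : Type u} [CommRing K] [LambdaOps K]

theorem adams_natCast_mul (P : PosStructure K) (j N : ℕ) (x : K) :
    adams P j ((N : K) * x) = (N : K) * adams P j x := by
  rw [← nsmul_eq_mul, ← nsmul_eq_mul, ← adamsAddHom_apply, map_nsmul, adamsAddHom_apply]

theorem exists_mul_mem_of_adams_congr {P : PosStructure K} (hK : HasSplitting K P) (j : ℕ)
    (hj : 2 ≤ j) (n : ℕ) (x : K)
    (hx : ∃ N : ℕ, 1 ≤ N ∧
      (N : K) * (adams P j x - (j : K) ^ n * x) ∈ gammaFiltration P (n + 1)) :
    ∀ k ≤ n, ∃ N : ℕ, 1 ≤ N ∧ (N : K) * x ∈ gammaFiltration P k := by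
  obtain ⟨N', hN', hN'x⟩ := hx
  intro k
  induction k with
  | zero =>
    intro _
    exact ⟨1, le_refl 1, by rw [gammaFiltration_zero]; trivial⟩
  | succ k ih =>
    intro hk
    obtain ⟨N, hN, hNx⟩ := ih (by omega)
    have h1 := adams_sub_pow_mul_mem hK j k _ hNx
    have h2 := gammaFiltration_anti P (show k + 1 ≤ n + 1 by omega) hN'x
    have hlt : j ^ k < j ^ n := Nat.pow_lt_pow_right (by omega) (by omega)
    refine ⟨N * N' * (j ^ n - j ^ k), ?_, ?_⟩
    · have : 1 ≤ j ^ n - j ^ k := by omega
      exact Nat.mul_pos (Nat.mul_pos hN hN') this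
    · have e : ((N * N' * (j ^ n - j ^ k) : ℕ) : K) * x =
          (N' : K) * (adams P j ((N : K) * x) - (j : K) ^ k * ((N : K) * x)) -
            (N : K) * ((N' : K) * (adams P j x - (j : K) ^ n * x)) := by
        rw [adams_natCast_mul]
        push_cast [Nat.cast_sub hlt.le]
        ring
      rw [e]
      exact AddSubgroup.sub_mem _ (mul_mem_gammaFiltration_left P _ _ _ h1)
        (mul_mem_gammaFiltration_left P _ _ _ h2)

end

end Groth.Agent.Lib.Helper4
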