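import Groth.Prelude.Def_LambdaSp
import Mathlib
set_option autoImplicit false
universe u
open PowerSeries Finset LambdaRing

namespace Groth.Agent.Lib.Helper4.Newton

section ODE

variable {K : Type u} [CommRing K]

/-- coefficient form of `H' = Ψ H` -/
theorem coeff_ode {Ψ H : K⟦X⟧} (h : derivative K H = Ψ * H) (n : ℕ) :
    coeff (n + 1) H * ((n : K) + 1) = ∑ k ∈ range (n + 1), coeff k Ψ * coeff (n - k) H := by
  rw [← coeff_derivative, h, coeff_mul, Finset.Nat.sum_antidiagonal_eq_sum_range_succ_mk]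

theorem isUnit_natCast_succ [Algebra ℚ K] (n : ℕ) : IsUnit ((n : K) + 1) := by
  have h : ((n : ℚ) + 1) ≠ 0 := by positivity
  have := (IsUnit.mk0 _ h).map (algebraMap ℚ K)
  simpa using this

/-- uniqueness for `H' = Ψ H` with given constant coefficient, over a ℚ-algebra -/
theorem ode_unique [Algebra ℚ K] {Ψ H₁ H₂ : K⟦X⟧} (h₁ : derivative K H₁ = Ψ * H₁)
    (h₂ : derivative K H₂ = Ψ * H₂) (h0 : coeff 0 H₁ = coeff 0 H₂) : H₁ = H₂ := by
  ext n
  induction n using Nat.strong_induction_on with
  | _ n ih =>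
    cases n with
    | zero => exact h0
    | succ n =>
      have e1 := coeff_ode h₁ n
      have e2 := coeff_ode h₂ n
      have : ∑ k ∈ range (n + 1), coeff k Ψ * coeff (n - k) H₁ =
          ∑ k ∈ range (n + 1), coeff k Ψ * coeff (n - k) H₂ := by
        apply Finset.sum_congr rfl
        intro k _
        rw [ih (n - k) (by omega)]
      rw [this, ← e2] at e1
      exact (isUnit_natCast_succ n).mul_left_injective e1

/-- coefficients of the solution of `H' = Ψ H`, `H(0) = 1` -/
noncomputable def solCoeff [Algebra ℚ K] (c : ℕ → K) : ℕ → K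
  | 0 => 1
  | n + 1 => algebraMap ℚ K (1 / ((n : ℚ) + 1)) * ∑ k ∈ range (n + 1), c k * solCoeff c (n - k)
decreasing_by omega

noncomputable def sol [Algebra ℚ K] (c : ℕ → K) : K⟦X⟧ := PowerSeries.mk (solCoeff c)

theorem solCoeff_zero [Algebra ℚ K] (c : ℕ → K) : solCoeff c 0 = 1 := by
  rw [solCoeff]

theorem solCoeff_succ [Algebra ℚ K] (c : ℕ → K) (n : ℕ) :
    solCoeff c (n + 1) * ((n : K) + 1) = ∑ k ∈ range (n + 1), c k * solCoeff c (n - k) := by
  rw [solCoeff]
  have h : ((n : ℚ) + 1) ≠ 0 := by positivity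
  have : algebraMap ℚ K (1 / ((n : ℚ) + 1)) * ((n : K) + 1) = 1 := by
    have e : ((n : K) + 1) = algebraMap ℚ K ((n : ℚ) + 1) := by simp
    rw [e, ← map_mul, one_div, inv_mul_cancel₀ h, map_one]
  linear_combination (∑ k ∈ range (n + 1), c k * solCoeff c (n - k)) * this

theorem coeff_sol [Algebra ℚ K] (c : ℕ → K) (n : ℕ) : coeff n (sol c) = solCoeff c n := by
  rw [sol, coeff_mk]

theorem derivative_sol [Algebra ℚ K] (c : ℕ → K) :
    derivative K (sol c) = PowerSeries.mk c * sol c := by
  ext n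
  rw [coeff_derivative, coeff_mul, Finset.Nat.sum_antidiagonal_eq_sum_range_succ_mk, coeff_sol,
    solCoeff_succ]
  apply Finset.sum_congr rfl
  intro k _
  rw [coeff_mk, coeff_sol]

theorem coeff_zero_sol [Algebra ℚ K] (c : ℕ → K) : coeff 0 (sol c) = 1 := by
  rw [coeff_sol, solCoeff_zero]

theorem sol_add [Algebra ℚ K] (c c' : ℕ → K) : sol (c + c') = sol c * sol c' := by
  apply ode_unique (Ψ := PowerSeries.mk (c + c')) (derivative_sol _)
  · rw [Derivation.leibniz, derivative_sol, derivative_sol]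
    have : (PowerSeries.mk (c + c') : K⟦X⟧) = PowerSeries.mk c + PowerSeries.mk c' := by
      ext n; simp
    rw [this]
    simp only [smul_eq_mul]
    ring
  · rw [coeff_zero_sol, coeff_mul]
    simp [coeff_zero_sol]

theorem sol_unique [Algebra ℚ K] (c : ℕ → K) (H : K⟦X⟧)
    (h : derivative K H = PowerSeries.mk c * H) (h0 : coeff 0 H = 1) : H = sol c :=
  ode_unique h (derivative_sol c) (h0.trans (coeff_zero_sol c).symm)

end ODE

section Lam

variable {K : Type u} [CommRing K] [LambdaOps K]

theorem coeff_lamSeries' (n : ℕ) (x : K) : coeff n (lamSeries x) = LambdaOps.lam n x := by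
  rw [lamSeries, coeff_mk]

@[simp] theorem constantCoeff_lamSeries' (x : K) : constantCoeff (lamSeries x) = 1 := by
  rw [← coeff_zero_eq_constantCoeff_apply, coeff_lamSeries', LambdaOps.lam_zero]

theorem lamSeries_mul_invOfUnit (x : K) : lamSeries x * (lamSeries x).invOfUnit 1 = 1 :=
  mul_invOfUnit _ _ (by simp)

/-- `λ_t' = Ψ λ_t` with `Ψ` the logarithmic derivative -/
theorem derivative_lamSeries (x : K) :
    derivative K (lamSeries x) = logDerivSeries x * lamSeries x := by
  rw [logDerivSeries, mul_assoc, mul_comm ((lamSeries x).invOfUnit 1), lamSeries_mul_invOfUnit,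
    mul_one]

theorem coeff_logDerivSeries (k : ℕ) (x : K) :
    coeff k (logDerivSeries x) = (-1) ^ k * adamsOp (k + 1) x := by
  rw [adamsOp, ← mul_assoc, ← pow_add, ← two_mul, pow_mul]
  simp

/-- Newton's identity -/
theorem newton (x : K) (n : ℕ) :
    LambdaOps.lam (n + 1) x * ((n : K) + 1) =
      ∑ k ∈ range (n + 1), ((-1) ^ k * adamsOp (k + 1) x) * LambdaOps.lam (n - k) x := by
  have := coeff_ode (derivative_lamSeries x) n
  rw [coeff_lamSeries'] at this
  rw [this]
  apply Finset.sum_congr rfl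
  intro k _
  rw [coeff_logDerivSeries, coeff_lamSeries']

end Lam

section Hom

variable {K K' : Type u} [CommRing K] [CommRing K'] [LambdaOps K] [LambdaOps K']

theorem map_lamSeries (f : K →+* K') (hf : IsLambdaHom f) (x : K) :
    PowerSeries.map f (lamSeries x) = lamSeries (f x) := by
  ext n
  rw [coeff_map, coeff_lamSeries', coeff_lamSeries', hf]

theorem map_adamsOp (f : K →+* K') (hf : IsLambdaHom f) (k : ℕ) (x : K) :
    f (adamsOp (k + 1) x) = adamsOp (k + 1) (f x) := by
  -- compare Newton identities?  use series: map f (logDeriv x) * lamSeries (f x) = derivative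
  have h1 : PowerSeries.map f (logDerivSeries x) * lamSeries (f x) =
      logDerivSeries (f x) * lamSeries (f x) := by
    rw [← derivative_lamSeries, ← map_lamSeries f hf, ← map_mul, ← derivative_lamSeries]
    ext n
    rw [coeff_map, coeff_derivative, coeff_derivative, coeff_map]
    simp
  have hu : IsUnit (lamSeries (f x)) := by
    rw [PowerSeries.isUnit_iff_constantCoeff]; simp
  have h2 := hu.mul_left_injective h1
  have h3 := congrArg (coeff k) h2
  rw [coeff_map, coeff_logDerivSeries, coeff_logDerivSeries, map_mul, map_pow, map_neg, map_one] at h3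
  have h4 : ((-1 : K') ^ k) * ((-1) ^ k * f (adamsOp (k + 1) x)) =
      ((-1 : K') ^ k) * ((-1) ^ k * adamsOp (k + 1) (f x)) := by rw [h3]
  rw [← mul_assoc, ← mul_assoc, ← pow_add, ← two_mul, pow_mul] at h4
  simpa using h4

theorem isLambdaHom_of_map_adamsOp [Algebra ℚ K'] (f : K →+* K')
    (h : ∀ k : ℕ, 1 ≤ k → ∀ x : K, f (adamsOp k x) = adamsOp k (f x)) : IsLambdaHom f := by
  intro n x
  induction n using Nat.strong_induction_on with
  | _ n ih =>
    cases n with
    | zero => rw [LambdaOps.lam_zero, LambdaOps.lam_zero, map_one]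
    | succ n =>
      have e1 := congrArg f (newton x n)
      have e2 := newton (f x) n
      rw [map_mul, map_add, map_natCast, map_one, map_sum] at e1
      have : ∑ k ∈ range (n + 1), f (((-1) ^ k * adamsOp (k + 1) x) * LambdaOps.lam (n - k) x) =
          ∑ k ∈ range (n + 1), ((-1) ^ k * adamsOp (k + 1) (f x)) * LambdaOps.lam (n - k) (f x) := by
        apply Finset.sum_congr rfl
        intro k _
        rw [map_mul, map_mul, map_pow, map_neg, map_one, h (k + 1) (by omega), ih (n - k) (by omega)]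
      rw [this, ← e2] at e1
      exact (isUnit_natCast_succ n).mul_left_injective e1

end Hom

section Exist

variable {K : Type u} [CommRing K] [Algebra ℚ K]

/-- coefficient function attached to `ψ` -/
def cOf (ψ : ℕ → K →+ K) (x : K) : ℕ → K := fun k => (-1) ^ k * ψ (k + 1) x

theorem cOf_add (ψ : ℕ → K →+ K) (x y : K) : cOf ψ (x + y) = cOf ψ x + cOf ψ y := by
  ext k; simp [cOf, mul_add]

/-- the pre-λ-structure with prescribed Adams operations -/
noncomputable def opsOf (ψ : ℕ → K →+ K) (hψ : ψ 1 = AddMonoidHom.id K) : LambdaOps K where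
  lam n x := solCoeff (cOf ψ x) n
  lam_zero x := solCoeff_zero _
  lam_one x := by
    have := solCoeff_succ (cOf ψ x) 0
    simpa [solCoeff_zero, cOf, hψ] using this
  lam_add k x y := by
    have := congrArg (coeff k) (sol_add (cOf ψ x) (cOf ψ y))
    rw [← cOf_add, coeff_sol, coeff_mul, Finset.Nat.sum_antidiagonal_eq_sum_range_succ_mk] at this
    rw [this]
    apply sum_congr rfl
    intro i _
    rw [coeff_sol, coeff_sol]

theorem lamSeries_eq_sol (L : LambdaOps K) (ψ : ℕ → K →+ K)
    (h : ∀ k : ℕ, 1 ≤ k → ∀ x : K, @adamsOp K _ L k x = ψ k x) (x : K) :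
    @lamSeries K _ L x = sol (cOf ψ x) := by
  letI := L
  apply sol_unique
  · rw [derivative_lamSeries]
    congr 1
    ext k
    rw [coeff_logDerivSeries, coeff_mk, cOf, h (k + 1) (by omega)]
  · rw [coeff_lamSeries', LambdaOps.lam_zero]

theorem lam_eq_of_adamsOp (L : LambdaOps K) (ψ : ℕ → K →+ K)
    (h : ∀ k : ℕ, 1 ≤ k → ∀ x : K, @adamsOp K _ L k x = ψ k x) (n : ℕ) (x : K) :
    L.lam n x = solCoeff (cOf ψ x) n := by
  have := congrArg (coeff n) (lamSeries_eq_sol L ψ h x)
  rwa [@coeff_lamSeries' K _ L, coeff_sol] at this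

theorem adamsOp_opsOf (ψ : ℕ → K →+ K) (hψ : ψ 1 = AddMonoidHom.id K) (k : ℕ) (x : K) :
    @adamsOp K _ (opsOf ψ hψ) (k + 1) x = ψ (k + 1) x := by
  letI := opsOf ψ hψ
  have hl : lamSeries x = sol (cOf ψ x) := rfl
  have hu : IsUnit (lamSeries x) := by
    rw [PowerSeries.isUnit_iff_constantCoeff]; simp
  have hlog : logDerivSeries x = PowerSeries.mk (cOf ψ x) := by
    have h1 := derivative_lamSeries x
    rw [hl, derivative_sol, ← hl] at h1
    exact (hu.mul_left_injective h1).symm
  have h2 := coeff_logDerivSeries k x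
  rw [hlog, coeff_mk, cOf] at h2
  have h4 : ((-1 : K) ^ k) * ((-1) ^ k * ψ (k + 1) x) =
      ((-1 : K) ^ k) * ((-1) ^ k * adamsOp (k + 1) x) := by rw [h2]
  rw [← mul_assoc, ← mul_assoc, ← pow_add, ← two_mul, pow_mul] at h4
  simpa using h4.symm

theorem lambdaOps_ext (L L' : LambdaOps K) (h : ∀ n x, L.lam n x = L'.lam n x) : L = L' := by
  cases L; cases L'; congr; funext n x; exact h n x

theorem existsUnique_ops (ψ : ℕ → K →+ K) (hψ : ψ 1 = AddMonoidHom.id K) :
    ∃! L : LambdaOps K, ∀ k : ℕ, 1 ≤ k → ∀ x : K, @adamsOp K _ L k x = ψ k x := by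
  refine ⟨opsOf ψ hψ, ?_, ?_⟩
  · intro k hk x
    obtain ⟨k, rfl⟩ := Nat.exists_eq_succ_of_ne_zero (by omega : k ≠ 0)
    exact adamsOp_opsOf ψ hψ k x
  · intro L hL
    apply lambdaOps_ext
    intro n x
    rw [lam_eq_of_adamsOp L ψ hL n x]
    rfl

end Exist

end Groth.Agent.Lib.Helper4.Newton
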