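import Groth.Prelude.Def_LambdaSp
import Mathlib
set_option autoImplicit false
universe u
open MvPolynomial Finset LambdaRing

namespace Groth.Agent.Lib.Helper4.SymPoly

section General

variable {σ τ : Type*} {R : Type*} [CommRing R]

/-- `aeval` of a weighted homogeneous polynomial at homogeneous polynomials of the right degrees is
homogeneous. -/
theorem isHomogeneous_aeval_of_isWeightedHomogeneous (w : σ → ℕ) (E : σ → MvPolynomial τ R)
    (hE : ∀ k, (E k).IsHomogeneous (w k)) {P : MvPolynomial σ R} {m : ℕ}
    (hP : IsWeightedHomogeneous w P m) : (aeval E P).IsHomogeneous m := by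
  induction hP using IsWeightedHomogeneous.induction_on with
  | zero => rw [map_zero]; exact isHomogeneous_zero _ _ _
  | add p q hp hq ihp ihq => rw [map_add]; exact ihp.add ihq
  | monomial d r hr =>
    rw [aeval_monomial]
    have h1 : (∏ k ∈ d.support, E k ^ d k).IsHomogeneous (∑ k ∈ d.support, w k * d k) :=
      IsHomogeneous.prod _ _ _ fun k _ => (hE k).pow (d k)
    have h2 : ∑ k ∈ d.support, w k * d k = m := by
      rw [← hr, Finsupp.weight_apply, Finsupp.sum]
      apply Finset.sum_congr rfl
      intro k _
      rw [smul_eq_mul, mul_comm]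
    rw [h2] at h1
    have h3 : d.prod (fun k n => E k ^ n) = ∏ k ∈ d.support, E k ^ d k := rfl
    rw [h3, algebraMap_eq]
    exact h1.C_mul r

/-- taking the component of the right weight preserves the value of `aeval` when the value is
homogeneous. -/
theorem aeval_weightedHomogeneousComponent (w : σ → ℕ) (E : σ → MvPolynomial τ R)
    (hE : ∀ k, (E k).IsHomogeneous (w k)) (P : MvPolynomial σ R) (m : ℕ)
    (hm : (aeval E P).IsHomogeneous m) :
    aeval E (weightedHomogeneousComponent w m P) = aeval E P := by
  classical
  have hsum := sum_weightedHomogeneousComponent w P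
  rw [finsum_eq_sum _ (weightedHomogeneousComponent_finsupp P)] at hsum
  set s := (weightedHomogeneousComponent_finsupp (w := w) P).toFinset with hs
  have h1 : aeval E P = ∑ n ∈ s, aeval E (weightedHomogeneousComponent w n P) := by
    conv_lhs => rw [← hsum]
    rw [map_sum]
  have h2 : homogeneousComponent m (aeval E P) = aeval E P := homogeneousComponent_eq_self hm
  have h3 : ∀ n, homogeneousComponent m (aeval E (weightedHomogeneousComponent w n P)) =
      if m = n then aeval E (weightedHomogeneousComponent w n P) else 0 := fun n =>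
    homogeneousComponent_of_mem (isHomogeneous_aeval_of_isWeightedHomogeneous w E hE
      (weightedHomogeneousComponent_isWeightedHomogeneous n P))
  rw [← h2, h1, map_sum]
  simp_rw [h3]
  rw [Finset.sum_ite_eq]
  split_ifs with hms
  · rfl
  · have : weightedHomogeneousComponent w m P = 0 := by
      by_contra hne
      apply hms
      rw [hs]
      exact (Set.Finite.mem_toFinset _).mpr hne
    rw [this, map_zero]

end General

section Comp

theorem esymm_isHomogeneous (σ : Type*) [Fintype σ] (R : Type*) [CommRing R] (n : ℕ) :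
    (esymm σ R n).IsHomogeneous n := by
  rw [esymm]
  apply IsHomogeneous.sum
  intro t ht
  have ht' := mem_powersetCard.mp ht
  have := IsHomogeneous.prod t (fun a => (X a : MvPolynomial σ R)) (fun _ => 1)
    (fun a _ => isHomogeneous_X _ a)
  simpa [ht'.2] using this

variable (N i j : ℕ)

theorem compGen_eq_sum : compGen N i j =
    ∑ T ∈ ((univ : Finset (Fin N)).powersetCard i).powersetCard j,
      ∏ s ∈ T, ∏ a ∈ s, (X a : MvPolynomial (Fin N) ℤ) := by
  rw [compGen, Finset.esymm_map_val]

theorem compGen_isHomogeneous : (compGen N i j).IsHomogeneous (i * j) := by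
  rw [compGen_eq_sum]
  apply IsHomogeneous.sum
  intro T hT
  rw [mem_powersetCard] at hT
  have h1 : ∀ s ∈ T, (∏ a ∈ s, (X a : MvPolynomial (Fin N) ℤ)).IsHomogeneous i := by
    intro s hs
    have hs' := mem_powersetCard.mp (hT.1 hs)
    have := IsHomogeneous.prod s (fun a => (X a : MvPolynomial (Fin N) ℤ)) (fun _ => 1)
      (fun a _ => isHomogeneous_X _ a)
    simpa [hs'.2] using this
  have h2 := IsHomogeneous.prod T _ (fun _ => i) h1
  simpa [hT.2, mul_comm] using h2

theorem compGen_isSymmetric : (compGen N i j).IsSymmetric := by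
  intro e
  rw [compGen_eq_sum, map_sum]
  simp_rw [map_prod, rename_X]
  set S := ((univ : Finset (Fin N)).powersetCard i).powersetCard j with hS
  let E : Finset (Fin N) ↪ Finset (Fin N) := (mapEmbedding e.toEmbedding).toEmbedding
  let φ : Finset (Finset (Fin N)) ↪ Finset (Finset (Fin N)) := (mapEmbedding E).toEmbedding
  have hmap : S.map φ = S := by
    rw [hS, ← powersetCard_map, ← powersetCard_map]
    congr 2
    exact Finset.map_univ_equiv e
  conv_rhs => rw [← hmap, Finset.sum_map]
  apply Finset.sum_congr rfl
  intro T _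
  change _ = ∏ s ∈ T.map E, _
  rw [Finset.prod_map]
  apply Finset.prod_congr rfl
  intro s _
  change _ = ∏ a ∈ s.map e.toEmbedding, _
  rw [Finset.prod_map]
  rfl

theorem exists_isCompPoly (i j : ℕ) : ∃ Q : MvPolynomial (Fin (i * j)) ℤ, IsCompPoly i j Q := by
  obtain ⟨Q₀, hQ₀⟩ := esymmAlgHom_surjective (σ := Fin (i * j)) ℤ (n := i * j) (by simp)
    ⟨compGen (i * j) i j, compGen_isSymmetric (i * j) i j⟩
  have h0 : aeval (fun k : Fin (i * j) => esymm (Fin (i * j)) ℤ ((k : ℕ) + 1)) Q₀ =
      compGen (i * j) i j := by
    rw [← esymmAlgHom_apply, hQ₀]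
  refine ⟨weightedHomogeneousComponent (fun k : Fin (i * j) => (k : ℕ) + 1) (i * j) Q₀, ?_,
    weightedHomogeneousComponent_isWeightedHomogeneous (i * j) Q₀⟩
  rw [aeval_weightedHomogeneousComponent (fun k : Fin (i * j) => (k : ℕ) + 1) _
    (fun k => esymm_isHomogeneous _ _ _) Q₀ (i * j) (h0 ▸ compGen_isHomogeneous (i * j) i j), h0]

end Comp

end Groth.Agent.Lib.Helper4.SymPoly
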