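import Groth.Prelude.Def_LambdaSp
import Mathlib
import Groth.Agent.Lib.Helper4SymPoly

/-!
# Helper4: two-family fundamental theorem of symmetric polynomials, the universal polynomials
`P_n`, and their stability in the number of variables.
-/
set_option autoImplicit false
universe u
open MvPolynomial Finset LambdaRing

namespace Groth.Agent.Lib.Helper4.MulPoly

section General

variable {σ τ M : Type*} {R : Type*} [CommRing R] [AddCommMonoid M]

/-- `aeval` of a weighted homogeneous polynomial at weighted homogeneous polynomials of the right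
weights is weighted homogeneous. -/
theorem isWeightedHomogeneous_aeval (w : σ → M) (v : τ → M) (E : σ → MvPolynomial τ R)
    (hE : ∀ k, IsWeightedHomogeneous v (E k) (w k)) {P : MvPolynomial σ R} {m : M}
    (hP : IsWeightedHomogeneous w P m) : IsWeightedHomogeneous v (aeval E P) m := by
  induction hP using IsWeightedHomogeneous.induction_on with
  | zero => rw [map_zero]; exact isWeightedHomogeneous_zero _ _ _
  | add p q hp hq ihp ihq => rw [map_add]; exact ihp.add ihq
  | monomial d r hr =>
    rw [aeval_monomial]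
    have h1 : IsWeightedHomogeneous v (∏ k ∈ d.support, E k ^ d k) (∑ k ∈ d.support, d k • w k) :=
      IsWeightedHomogeneous.prod _ _ _ fun k _ => (hE k).pow (d k)
    have h2 : ∑ k ∈ d.support, d k • w k = m := by
      rw [← hr, Finsupp.weight_apply, Finsupp.sum]
    rw [h2] at h1
    have h3 : d.prod (fun k n => E k ^ n) = ∏ k ∈ d.support, E k ^ d k := rfl
    rw [h3, algebraMap_eq]
    exact h1.C_mul r

/-- taking the component of the right weight preserves the value of `aeval` when the value is
weighted homogeneous of that weight. -/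
theorem aeval_weightedHomogeneousComponent (w : σ → M) (v : τ → M) (E : σ → MvPolynomial τ R)
    (hE : ∀ k, IsWeightedHomogeneous v (E k) (w k)) (P : MvPolynomial σ R) (m : M)
    (hm : IsWeightedHomogeneous v (aeval E P) m) :
    aeval E (weightedHomogeneousComponent w m P) = aeval E P := by
  classical
  have hsum := sum_weightedHomogeneousComponent w P
  rw [finsum_eq_sum _ (weightedHomogeneousComponent_finsupp P)] at hsum
  set s := (weightedHomogeneousComponent_finsupp (w := w) P).toFinset with hs
  have h1 : aeval E P = ∑ n ∈ s, aeval E (weightedHomogeneousComponent w n P) := by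
    conv_lhs => rw [← hsum]
    rw [map_sum]
  have h2 : weightedHomogeneousComponent v m (aeval E P) = aeval E P :=
    weightedHomogeneousComponent_eq_self hm
  have h3 : ∀ n, weightedHomogeneousComponent v m (aeval E (weightedHomogeneousComponent w n P)) =
      if m = n then aeval E (weightedHomogeneousComponent w n P) else 0 := fun n =>
    weightedHomogeneousComponent_of_mem (isWeightedHomogeneous_aeval w v E hE
      (weightedHomogeneousComponent_isWeightedHomogeneous n P))
  rw [← h2, h1, map_sum]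
  simp_rw [h3]
  rw [Finset.sum_ite_eq]
  split_ifs with hms
  · rfl
  · have : weightedHomogeneousComponent w m P = 0 := by
      by_contra hne
      apply hms
      rw [hs]
      exact (Set.Finite.mem_toFinset _).mpr hne
    rw [this, map_zero]

end General

section Kill

variable {α β R : Type*} [CommRing R] [DecidableEq β]

/-- A sum over `k`-subsets of products, where the function vanishes outside the image of an
embedding, reduces to the sum over `k`-subsets of the source. -/
theorem kill_sum (ι : α ↪ β) (A : Finset α) (B : Finset β) (hAB : A.map ι ⊆ B) (g : β → R)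
    (g' : α → R) (hg : ∀ a ∈ A, g (ι a) = g' a) (hg0 : ∀ b ∈ B, b ∉ A.map ι → g b = 0) (k : ℕ) :
    ∑ t ∈ B.powersetCard k, ∏ i ∈ t, g i = ∑ t' ∈ A.powersetCard k, ∏ i ∈ t', g' i := by
  have h1 : ∑ t' ∈ A.powersetCard k, ∏ i ∈ t', g' i =
      ∑ t ∈ (A.map ι).powersetCard k, ∏ i ∈ t, g i := by
    rw [powersetCard_map, Finset.sum_map]
    apply Finset.sum_congr rfl
    intro t' ht'
    have ht'A := (mem_powersetCard.mp ht').1
    change _ = ∏ i ∈ t'.map ι, g i
    rw [Finset.prod_map]
    exact Finset.prod_congr rfl fun i hi => (hg i (ht'A hi)).symm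
  rw [h1]
  symm
  apply Finset.sum_subset (powersetCard_mono hAB)
  intro t ht hnt
  rw [mem_powersetCard] at ht hnt
  have : ¬ t ⊆ A.map ι := fun h => hnt ⟨h, ht.2⟩
  rw [Finset.not_subset] at this
  obtain ⟨b, hbt, hb⟩ := this
  exact Finset.prod_eq_zero hbt (hg0 b (ht.1 hbt) hb)

end Kill

section TwoFam

variable (n N : ℕ)

/-- `Φ_{n,N}`: `X_k ↦ e_{k+1}(T_1..T_N)`, `Y_k ↦ e_{k+1}(U_1..U_N)`. -/
noncomputable def Phi : MvPolynomial (Fin n ⊕ Fin n) ℤ →ₐ[ℤ] MvPolynomial (Fin N ⊕ Fin N) ℤ :=
  aeval (Sum.elim (fun k : Fin n => rename Sum.inl (esymm (Fin N) ℤ ((k : ℕ) + 1)))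
      (fun k : Fin n => rename Sum.inr (esymm (Fin N) ℤ ((k : ℕ) + 1))))

/-- one-family version over a coefficient ring -/
noncomputable def EE (R : Type*) [CommRing R] : MvPolynomial (Fin n) R →ₐ[R] MvPolynomial (Fin N) R :=
  aeval (fun k : Fin n => esymm (Fin N) R ((k : ℕ) + 1))

theorem EE_injective (R : Type*) [CommRing R] (h : n ≤ N) : Function.Injective (EE n N R) := by
  intro p q hpq
  apply esymmAlgHom_injective (σ := Fin N) (R := R) (n := n) (by simpa using h)
  apply Subtype.ext
  rw [esymmAlgHom_apply, esymmAlgHom_apply]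
  exact hpq

theorem EE_surjective (R : Type*) [CommRing R] (h : N ≤ n) (G : MvPolynomial (Fin N) R)
    (hG : G.IsSymmetric) : ∃ H, EE n N R H = G := by
  obtain ⟨H, hH⟩ := esymmAlgHom_surjective (σ := Fin N) (R := R) (n := n) (by simpa using h) ⟨G, hG⟩
  refine ⟨H, ?_⟩
  have := congrArg Subtype.val hH
  rwa [esymmAlgHom_apply] at this

noncomputable abbrev SS (N : ℕ) := sumAlgEquiv ℤ (Fin N) (Fin N)

theorem SS_rename_inl (p : MvPolynomial (Fin N) ℤ) :
    SS N (rename Sum.inl p) = map (C : ℤ →+* MvPolynomial (Fin N) ℤ) p := by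
  induction p using MvPolynomial.induction_on with
  | C a => simp [SS]
  | add p q hp hq => simp only [map_add, hp, hq]
  | mul_X p i hp => simp only [map_mul, hp, rename_X, map_X, SS, sumAlgEquiv_X_inl]

theorem SS_rename_inr (p : MvPolynomial (Fin N) ℤ) :
    SS N (rename Sum.inr p) = C p := by
  induction p using MvPolynomial.induction_on with
  | C a => simp [SS]
  | add p q hp hq => simp only [map_add, hp, hq]
  | mul_X p i hp => simp only [map_mul, hp, rename_X, SS, sumAlgEquiv_X_inr]

/-- key identity: `Φ` is the composite of the two one-family maps. -/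
theorem SS_Phi (P : MvPolynomial (Fin n ⊕ Fin n) ℤ) :
    SS N (Phi n N P) = EE n N (MvPolynomial (Fin N) ℤ)
      (map (EE n N ℤ : MvPolynomial (Fin n) ℤ →+* MvPolynomial (Fin N) ℤ) (SS n P)) := by
  induction P using MvPolynomial.induction_on with
  | C a => simp [SS, EE, Phi]
  | add p q hp hq => simp only [map_add, hp, hq]
  | mul_X p i hp =>
    simp only [map_mul, hp]
    congr 1
    rcases i with k | k
    · simp only [Phi, aeval_X, Sum.elim_inl, SS_rename_inl, map_esymm, SS, sumAlgEquiv_X_inl,
        map_X, EE]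
    · simp only [Phi, aeval_X, Sum.elim_inr, SS_rename_inr, SS, sumAlgEquiv_X_inr, map_C, EE,
        aeval_C, algebraMap_eq, RingHom.coe_coe]

theorem Phi_injective (h : n ≤ N) : Function.Injective (Phi n N) := by
  intro P Q hPQ
  have h1 := congrArg (SS N) hPQ
  rw [SS_Phi, SS_Phi] at h1
  have h2 := EE_injective n N (MvPolynomial (Fin N) ℤ) h h1
  have h3 := map_injective _ (EE_injective n N ℤ h) h2
  exact (SS n).injective h3

theorem SS_rename_left (e : Equiv.Perm (Fin N)) (G : MvPolynomial (Fin N ⊕ Fin N) ℤ) :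
    SS N (rename (Sum.map e id) G) = rename e (SS N G) := by
  induction G using MvPolynomial.induction_on with
  | C a => simp [SS]
  | add p q hp hq => simp only [map_add, hp, hq]
  | mul_X p i hp =>
    simp only [map_mul, hp]
    congr 1
    rcases i with k | k
    · simp only [rename_X, Sum.map_inl, SS, sumAlgEquiv_X_inl]
    · simp only [rename_X, Sum.map_inr, id_eq, SS, sumAlgEquiv_X_inr, rename_C]

theorem SS_rename_right (e : Equiv.Perm (Fin N)) (G : MvPolynomial (Fin N ⊕ Fin N) ℤ) :
    SS N (rename (Sum.map id e) G) =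
      map ((rename e : MvPolynomial (Fin N) ℤ →ₐ[ℤ] MvPolynomial (Fin N) ℤ) :
        MvPolynomial (Fin N) ℤ →+* MvPolynomial (Fin N) ℤ) (SS N G) := by
  induction G using MvPolynomial.induction_on with
  | C a => simp [SS]
  | add p q hp hq => simp only [map_add, hp, hq]
  | mul_X p i hp =>
    simp only [map_mul, hp]
    congr 1
    rcases i with k | k
    · simp only [rename_X, Sum.map_inl, id_eq, SS, sumAlgEquiv_X_inl, map_X]
    · simp only [rename_X, Sum.map_inr, SS, sumAlgEquiv_X_inr, map_C, RingHom.coe_coe]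

theorem map_EE {R S : Type*} [CommRing R] [CommRing S] (ρ : R →+* S)
    (H : MvPolynomial (Fin n) R) : map ρ (EE n N R H) = EE n N S (map ρ H) := by
  induction H using MvPolynomial.induction_on with
  | C a => simp [EE]
  | add p q hp hq => simp only [map_add, hp, hq]
  | mul_X p i hp =>
    rw [map_mul, map_mul, hp, map_mul, map_X]
    simp only [EE, aeval_X, map_esymm, map_mul]

/-- Two-family fundamental theorem: a polynomial symmetric in both families of variables is a
polynomial in the elementary symmetric functions of the two families. -/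
theorem Phi_surjective (G : MvPolynomial (Fin N ⊕ Fin N) ℤ)
    (hG : ∀ e e' : Equiv.Perm (Fin N), rename (Sum.map e e') G = G) : ∃ P, Phi N N P = G := by
  have hsym : (SS N G).IsSymmetric := by
    intro e
    rw [← SS_rename_left]
    have := hG e (Equiv.refl _)
    simp only [Equiv.coe_refl] at this
    rw [this]
  obtain ⟨H, hH⟩ := EE_surjective N N (MvPolynomial (Fin N) ℤ) le_rfl _ hsym
  have hHinv : ∀ e : Equiv.Perm (Fin N),
      map ((rename e : MvPolynomial (Fin N) ℤ →ₐ[ℤ] MvPolynomial (Fin N) ℤ) :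
        MvPolynomial (Fin N) ℤ →+* MvPolynomial (Fin N) ℤ) H = H := by
    intro e
    apply EE_injective N N (MvPolynomial (Fin N) ℤ) le_rfl
    rw [← map_EE, hH, ← SS_rename_right]
    have := hG (Equiv.refl _) e
    simp only [Equiv.coe_refl] at this
    rw [this]
  have hcoef : (H.coeffs : Set (MvPolynomial (Fin N) ℤ)) ⊆
      Set.range (EE N N ℤ : MvPolynomial (Fin N) ℤ →+* MvPolynomial (Fin N) ℤ) := by
    intro c hc
    rw [Finset.mem_coe, mem_coeffs_iff] at hc
    obtain ⟨d, -, rfl⟩ := hc
    have hs : (coeff d H).IsSymmetric := by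
      intro e
      conv_rhs => rw [← hHinv e]
      rw [coeff_map]
      rfl
    obtain ⟨h, hh⟩ := EE_surjective N N ℤ le_rfl _ hs
    exact ⟨h, hh⟩
  obtain ⟨H₂, hH₂⟩ := mem_range_map_iff_coeffs_subset.mpr hcoef
  refine ⟨(SS N).symm H₂, (SS N).injective ?_⟩
  rw [SS_Phi, AlgEquiv.apply_symm_apply, hH₂, hH]

end TwoFam

section MulGen

variable (n N k : ℕ)

/-- weights of the target variables: `T_a` has weight `(1,0)`, `U_b` has weight `(0,1)`. -/
def vW : Fin N ⊕ Fin N → ℕ × ℕ := Sum.elim (fun _ => (1, 0)) (fun _ => (0, 1))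

/-- weights of the source variables: `X_k` has weight `(k,0)`, `Y_k` has weight `(0,k)`. -/
def wW : Fin n ⊕ Fin n → ℕ × ℕ :=
  Sum.elim (fun k : Fin n => (((k : ℕ) + 1, 0) : ℕ × ℕ)) (fun k : Fin n => ((0, (k : ℕ) + 1) : ℕ × ℕ))

theorem mulGen_eq_sum : mulGen N k =
    ∑ S ∈ (univ : Finset (Fin N × Fin N)).powersetCard k,
      ∏ ab ∈ S, (X (Sum.inl ab.1) * X (Sum.inr ab.2) : MvPolynomial (Fin N ⊕ Fin N) ℤ) := by
  rw [mulGen, Finset.esymm_map_val]

theorem mulGen_isWeightedHomogeneous : IsWeightedHomogeneous (vW N) (mulGen N k) (k, k) := by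
  rw [mulGen_eq_sum]
  apply IsWeightedHomogeneous.sum
  intro S hS
  rw [mem_powersetCard] at hS
  have h1 : ∀ ab ∈ S, IsWeightedHomogeneous (vW N)
      (X (Sum.inl ab.1) * X (Sum.inr ab.2) : MvPolynomial (Fin N ⊕ Fin N) ℤ) ((1, 1) : ℕ × ℕ) := by
    intro ab _
    have := (isWeightedHomogeneous_X ℤ (vW N) (Sum.inl ab.1)).mul
      (isWeightedHomogeneous_X ℤ (vW N) (Sum.inr ab.2))
    simpa [vW] using this
  have h2 := IsWeightedHomogeneous.prod S _ (fun _ => ((1, 1) : ℕ × ℕ)) h1
  simpa [hS.2] using h2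

theorem esymm_inl_isWeightedHomogeneous (m : ℕ) :
    IsWeightedHomogeneous (vW N) (rename Sum.inl (esymm (Fin N) ℤ m)) ((m, 0) : ℕ × ℕ) := by
  rw [esymm, map_sum]
  apply IsWeightedHomogeneous.sum
  intro t ht
  rw [mem_powersetCard] at ht
  rw [map_prod]
  have h2 := IsWeightedHomogeneous.prod t
    (fun a => rename Sum.inl (X a : MvPolynomial (Fin N) ℤ)) (fun _ => ((1, 0) : ℕ × ℕ))
    (w := vW N) (fun a _ => by
      rw [rename_X]
      have := isWeightedHomogeneous_X ℤ (vW N) (Sum.inl a)
      simpa [vW] using this)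
  simpa [ht.2] using h2

theorem esymm_inr_isWeightedHomogeneous (m : ℕ) :
    IsWeightedHomogeneous (vW N) (rename Sum.inr (esymm (Fin N) ℤ m)) ((0, m) : ℕ × ℕ) := by
  rw [esymm, map_sum]
  apply IsWeightedHomogeneous.sum
  intro t ht
  rw [mem_powersetCard] at ht
  rw [map_prod]
  have h2 := IsWeightedHomogeneous.prod t
    (fun a => rename Sum.inr (X a : MvPolynomial (Fin N) ℤ)) (fun _ => ((0, 1) : ℕ × ℕ))
    (w := vW N) (fun a _ => by
      rw [rename_X]
      have := isWeightedHomogeneous_X ℤ (vW N) (Sum.inr a)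
      simpa [vW] using this)
  simpa [ht.2] using h2

theorem Phi_gen_isWeightedHomogeneous (i : Fin n ⊕ Fin n) :
    IsWeightedHomogeneous (vW N)
      (Sum.elim (fun k : Fin n => rename Sum.inl (esymm (Fin N) ℤ ((k : ℕ) + 1)))
        (fun k : Fin n => rename Sum.inr (esymm (Fin N) ℤ ((k : ℕ) + 1))) i) (wW n i) := by
  rcases i with k | k
  · exact esymm_inl_isWeightedHomogeneous N _
  · exact esymm_inr_isWeightedHomogeneous N _

theorem Phi_isWeightedHomogeneous {P : MvPolynomial (Fin n ⊕ Fin n) ℤ} {m : ℕ × ℕ}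
    (hP : IsWeightedHomogeneous (wW n) P m) : IsWeightedHomogeneous (vW N) (Phi n N P) m :=
  isWeightedHomogeneous_aeval (wW n) (vW N) _ (Phi_gen_isWeightedHomogeneous n N) hP

theorem mulGen_symm (e e' : Equiv.Perm (Fin N)) :
    rename (Sum.map e e') (mulGen N k) = mulGen N k := by
  rw [mulGen_eq_sum, map_sum]
  simp_rw [map_prod, map_mul, rename_X, Sum.map_inl, Sum.map_inr]
  set S := (univ : Finset (Fin N × Fin N)).powersetCard k with hS
  let E : Fin N × Fin N ↪ Fin N × Fin N := (Equiv.prodCongr e e').toEmbedding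
  let φ : Finset (Fin N × Fin N) ↪ Finset (Fin N × Fin N) := (mapEmbedding E).toEmbedding
  have hmap : S.map φ = S := by
    rw [hS, ← powersetCard_map]
    congr 1
    exact Finset.map_univ_equiv (Equiv.prodCongr e e')
  conv_rhs => rw [← hmap, Finset.sum_map]
  apply Finset.sum_congr rfl
  intro T _
  change _ = ∏ ab ∈ T.map E, _
  rw [Finset.prod_map]
  rfl

/-- Existence of the universal polynomial for `e_k` of the products, in `N` variables. -/
theorem exists_Phi_eq_mulGen : ∃ P : MvPolynomial (Fin N ⊕ Fin N) ℤ,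
    Phi N N P = mulGen N k ∧ IsWeightedHomogeneous (wW N) P ((k, k) : ℕ × ℕ) := by
  obtain ⟨P₀, hP₀⟩ := Phi_surjective N (mulGen N k) (mulGen_symm N k)
  refine ⟨weightedHomogeneousComponent (wW N) ((k, k) : ℕ × ℕ) P₀, ?_,
    weightedHomogeneousComponent_isWeightedHomogeneous _ P₀⟩
  have := aeval_weightedHomogeneousComponent (wW N) (vW N) _ (Phi_gen_isWeightedHomogeneous N N)
    P₀ ((k, k) : ℕ × ℕ) (by
      change IsWeightedHomogeneous (vW N) (Phi N N P₀) _
      rw [hP₀]; exact mulGen_isWeightedHomogeneous N k)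
  change Phi N N _ = Phi N N P₀ at this
  rw [this, hP₀]

theorem exists_isMulPoly : ∃ P : MvPolynomial (Fin n ⊕ Fin n) ℤ, IsMulPoly n P := by
  obtain ⟨P, h1, h2⟩ := exists_Phi_eq_mulGen n n
  exact ⟨P, h1, h2⟩

end MulGen

end Groth.Agent.Lib.Helper4.MulPoly
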