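import Groth.Prelude.Def_LambdaSp
import Mathlib
import Groth.Agent.Lib.Helper4MulPoly

/-!
# Helper4: stability of the universal polynomials `P_n`, `Q_{i,j}` in the number of variables,
and the verification principle.
-/
set_option autoImplicit false
universe u
open MvPolynomial Finset LambdaRing

namespace Groth.Agent.Lib.Helper4.MulPoly

section Res

variable {n N : ℕ} (h : n ≤ N)

/-- kill the variables of index `≥ n` (one family) -/
noncomputable def res1 : MvPolynomial (Fin N) ℤ →ₐ[ℤ] MvPolynomial (Fin n) ℤ :=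
  aeval (fun a : Fin N => if h : (a : ℕ) < n then X (⟨a, h⟩ : Fin n) else 0)

/-- kill the variables of index `≥ n` (two families) -/
noncomputable def res2 : MvPolynomial (Fin N ⊕ Fin N) ℤ →ₐ[ℤ] MvPolynomial (Fin n ⊕ Fin n) ℤ :=
  aeval (Sum.elim (fun a : Fin N => if h : (a : ℕ) < n then X (Sum.inl (⟨a, h⟩ : Fin n)) else 0)
    (fun a : Fin N => if h : (a : ℕ) < n then X (Sum.inr (⟨a, h⟩ : Fin n)) else 0))

include h

theorem not_mem_map_castLE {b : Fin N} (hb : b ∉ (univ : Finset (Fin n)).map (Fin.castLEEmb h)) :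
    ¬ (b : ℕ) < n := by
  intro hlt
  apply hb
  rw [Finset.mem_map]
  exact ⟨⟨b, hlt⟩, mem_univ _, Fin.ext rfl⟩

theorem res1_esymm (m : ℕ) : res1 (n := n) (esymm (Fin N) ℤ m) = esymm (Fin n) ℤ m := by
  classical
  rw [esymm, esymm, map_sum]
  simp_rw [map_prod]
  apply kill_sum (Fin.castLEEmb h) univ univ (subset_univ _)
  · intro a _
    simp [res1]
  · intro b _ hb
    simp [res1, not_mem_map_castLE h hb]

theorem res2_esymm_inl (m : ℕ) :
    res2 (n := n) (rename Sum.inl (esymm (Fin N) ℤ m)) = rename Sum.inl (esymm (Fin n) ℤ m) := by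
  classical
  rw [esymm, esymm, map_sum, map_sum, map_sum]
  simp_rw [map_prod]
  apply kill_sum (Fin.castLEEmb h) univ univ (subset_univ _)
  · intro a _
    simp [res2]
  · intro b _ hb
    simp [res2, not_mem_map_castLE h hb]

theorem res2_esymm_inr (m : ℕ) :
    res2 (n := n) (rename Sum.inr (esymm (Fin N) ℤ m)) = rename Sum.inr (esymm (Fin n) ℤ m) := by
  classical
  rw [esymm, esymm, map_sum, map_sum, map_sum]
  simp_rw [map_prod]
  apply kill_sum (Fin.castLEEmb h) univ univ (subset_univ _)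
  · intro a _
    simp [res2]
  · intro b _ hb
    simp [res2, not_mem_map_castLE h hb]

theorem res2_Phi (m : ℕ) (P : MvPolynomial (Fin m ⊕ Fin m) ℤ) :
    res2 (n := n) (Phi m N P) = Phi m n P := by
  rw [Phi, Phi, ← AlgHom.comp_apply, comp_aeval]
  congr 2
  funext i
  rcases i with k | k
  · exact res2_esymm_inl h _
  · exact res2_esymm_inr h _

theorem res2_mulGen (k : ℕ) : res2 (n := n) (mulGen N k) = mulGen n k := by
  classical
  rw [mulGen_eq_sum, mulGen_eq_sum, map_sum]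
  simp_rw [map_prod]
  apply kill_sum ((Fin.castLEEmb h).prodMap (Fin.castLEEmb h)) univ univ (subset_univ _)
  · rintro ⟨a, b⟩ _
    simp [res2]
  · rintro ⟨a, b⟩ _ hb
    have : ¬ ((a : ℕ) < n ∧ (b : ℕ) < n) := by
      rintro ⟨ha, hb'⟩
      apply hb
      rw [Finset.mem_map]
      exact ⟨(⟨a, ha⟩, ⟨b, hb'⟩), mem_univ _, Prod.ext (Fin.ext rfl) (Fin.ext rfl)⟩
    rw [map_mul]
    by_cases ha : (a : ℕ) < n
    · have hb' : ¬ (b : ℕ) < n := fun hb' => this ⟨ha, hb'⟩
      simp [res2, hb']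
    · simp [res2, ha]

end Res

section Stab2

variable {n N : ℕ} (h : n ≤ N)

/-- inclusion of the first `n` variables of each family -/
def inc2 : Fin n ⊕ Fin n → Fin N ⊕ Fin N := Sum.map (Fin.castLE h) (Fin.castLE h)

theorem inc2_injective : Function.Injective (inc2 h) :=
  Function.Injective.sumMap (Fin.castLE_injective h) (Fin.castLE_injective h)

theorem Phi_rename_inc2 (M : ℕ) (P : MvPolynomial (Fin n ⊕ Fin n) ℤ) :
    Phi N M (rename (inc2 h) P) = Phi n M P := by
  rw [Phi, Phi, aeval_rename]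
  congr 2
  funext i
  rcases i with k | k <;> rfl

theorem weight_fst_ge (m : ℕ) (P : MvPolynomial (Fin N ⊕ Fin N) ℤ) (k : ℕ × ℕ)
    (hP : IsWeightedHomogeneous (wW N) P k) (hk1 : k.1 ≤ n) (hk2 : k.2 ≤ n) :
    (P.vars : Set (Fin N ⊕ Fin N)) ⊆ Set.range (inc2 h) := by
  classical
  intro i hi
  rw [Finset.mem_coe, mem_vars] at hi
  obtain ⟨d, hd, hid⟩ := hi
  rw [mem_support_iff] at hd
  have hw := hP hd
  rw [Finsupp.weight_apply, Finsupp.sum] at hw
  rw [Finsupp.mem_support_iff] at hid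
  have hpos : 0 < d i := Nat.pos_of_ne_zero hid
  rcases i with a | a
  · have h1 := congrArg Prod.fst hw
    rw [Prod.fst_sum] at h1
    have h2 : (d (Sum.inl a) • wW N (Sum.inl a)).1 ≤ ∑ c ∈ d.support, (d c • wW N c).1 :=
      Finset.single_le_sum (f := fun c => (d c • wW N c).1) (fun _ _ => Nat.zero_le _)
        (Finsupp.mem_support_iff.mpr hid)
    have h3 : (d (Sum.inl a) • wW N (Sum.inl a)).1 = d (Sum.inl a) * ((a : ℕ) + 1) := by
      simp [wW]
    have h4 : (a : ℕ) + 1 ≤ d (Sum.inl a) * ((a : ℕ) + 1) := Nat.le_mul_of_pos_left _ hpos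
    have ha : (a : ℕ) < n := by omega
    exact ⟨Sum.inl ⟨a, ha⟩, by simp [inc2]⟩
  · have h1 := congrArg Prod.snd hw
    rw [Prod.snd_sum] at h1
    have h2 : (d (Sum.inr a) • wW N (Sum.inr a)).2 ≤ ∑ c ∈ d.support, (d c • wW N c).2 :=
      Finset.single_le_sum (f := fun c => (d c • wW N c).2) (fun _ _ => Nat.zero_le _)
        (Finsupp.mem_support_iff.mpr hid)
    have h3 : (d (Sum.inr a) • wW N (Sum.inr a)).2 = d (Sum.inr a) * ((a : ℕ) + 1) := by
      simp [wW]
    have h4 : (a : ℕ) + 1 ≤ d (Sum.inr a) * ((a : ℕ) + 1) := Nat.le_mul_of_pos_left _ hpos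
    have ha : (a : ℕ) < n := by omega
    exact ⟨Sum.inr ⟨a, ha⟩, by simp [inc2]⟩

/-- **Stability**: the universal polynomial `P_n` (in `n` variables) also works in `N ≥ n`
variables. -/
theorem Phi_eq_mulGen_of_isMulPoly (h : n ≤ N) {P : MvPolynomial (Fin n ⊕ Fin n) ℤ} (hP : IsMulPoly n P) :
    Phi n N P = mulGen N n := by
  obtain ⟨P', hP'1, hP'2⟩ := exists_Phi_eq_mulGen N n
  obtain ⟨P'', hP''⟩ := exists_rename_eq_of_vars_subset_range P' (inc2 h) (inc2_injective h)
    (weight_fst_ge h n P' (n, n) hP'2 le_rfl le_rfl)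
  have e1 : Phi n N P'' = mulGen N n := by rw [← Phi_rename_inc2 h, hP'', hP'1]
  have e2 : Phi n n P'' = Phi n n P := by
    rw [← res2_Phi h, e1, res2_mulGen h]
    exact hP.1.symm
  rw [← Phi_injective n n le_rfl e2, e1]

end Stab2

section Stab1

open Groth.Agent.Lib.Helper4.SymPoly

variable {n N : ℕ}

theorem res1_EE (h : n ≤ N) (m : ℕ) (Q : MvPolynomial (Fin m) ℤ) :
    res1 (n := n) (EE m N ℤ Q) = EE m n ℤ Q := by
  rw [EE, EE, ← AlgHom.comp_apply, comp_aeval]
  congr 2
  funext k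
  exact res1_esymm h _

theorem res1_compGen (h : n ≤ N) (i j : ℕ) : res1 (n := n) (compGen N i j) = compGen n i j := by
  classical
  rw [compGen_eq_sum, compGen_eq_sum, map_sum]
  simp_rw [map_prod]
  let ι : Finset (Fin n) ↪ Finset (Fin N) := (mapEmbedding (Fin.castLEEmb h)).toEmbedding
  apply kill_sum ι ((univ : Finset (Fin n)).powersetCard i) ((univ : Finset (Fin N)).powersetCard i)
  · intro s hs
    rw [Finset.mem_map] at hs
    obtain ⟨s', hs', rfl⟩ := hs
    rw [mem_powersetCard] at hs' ⊢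
    refine ⟨subset_univ _, ?_⟩
    change (s'.map _).card = i
    rw [Finset.card_map, hs'.2]
  · intro s _
    change ∏ a ∈ s.map (Fin.castLEEmb h), _ = _
    rw [Finset.prod_map]
    apply Finset.prod_congr rfl
    intro a _
    simp [res1]
  · intro s hs hns
    rw [mem_powersetCard] at hs
    have : ∃ b ∈ s, ¬ (b : ℕ) < n := by
      by_contra hcon
      push Not at hcon
      apply hns
      rw [Finset.mem_map]
      refine ⟨s.attach.map ⟨fun b => (⟨b.1, hcon b.1 b.2⟩ : Fin n), ?_⟩, ?_, ?_⟩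
      · intro b b' hbb'
        apply Subtype.ext
        apply Fin.ext
        exact congrArg (fun x : Fin n => (x : ℕ)) hbb'
      · rw [mem_powersetCard]
        refine ⟨subset_univ _, ?_⟩
        rw [Finset.card_map, Finset.card_attach, hs.2]
      · change Finset.map _ _ = s
        ext b
        simp only [Finset.mem_map, Finset.mem_attach, Function.Embedding.coeFn_mk, true_and,
          Subtype.exists]
        constructor
        · rintro ⟨b', ⟨b'', hb'', rfl⟩, rfl⟩
          have : (Fin.castLEEmb h) ⟨(b'' : ℕ), hcon b'' hb''⟩ = b'' := Fin.ext rfl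
          rw [this]; exact hb''
        · intro hb
          exact ⟨⟨b, hcon b hb⟩, ⟨b, hb, rfl⟩, Fin.ext rfl⟩
    obtain ⟨b, hbs, hb⟩ := this
    apply Finset.prod_eq_zero hbs
    simp [res1, hb]

theorem EE_rename_castLE (h : n ≤ N) (M : ℕ) (Q : MvPolynomial (Fin n) ℤ) :
    EE N M ℤ (rename (Fin.castLE h) Q) = EE n M ℤ Q := by
  rw [EE, EE, aeval_rename]
  rfl

theorem vars_subset_of_weight (h : n ≤ N) (Q : MvPolynomial (Fin N) ℤ) (k : ℕ)
    (hQ : IsWeightedHomogeneous (fun a : Fin N => (a : ℕ) + 1) Q k) (hk : k ≤ n) :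
    (Q.vars : Set (Fin N)) ⊆ Set.range (Fin.castLE h) := by
  classical
  intro a hi
  rw [Finset.mem_coe, mem_vars] at hi
  obtain ⟨d, hd, hid⟩ := hi
  rw [mem_support_iff] at hd
  have hw := hQ hd
  rw [Finsupp.weight_apply, Finsupp.sum] at hw
  rw [Finsupp.mem_support_iff] at hid
  have hpos : 0 < d a := Nat.pos_of_ne_zero hid
  have h2 : d a • ((a : ℕ) + 1) ≤ ∑ c ∈ d.support, d c • ((c : ℕ) + 1) :=
    Finset.single_le_sum (f := fun c => d c • ((c : ℕ) + 1)) (fun _ _ => Nat.zero_le _)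
      (Finsupp.mem_support_iff.mpr hid)
  have h4 : (a : ℕ) + 1 ≤ d a * ((a : ℕ) + 1) := Nat.le_mul_of_pos_left _ hpos
  rw [smul_eq_mul] at h2
  have ha : (a : ℕ) < n := by omega
  exact ⟨⟨a, ha⟩, Fin.ext rfl⟩

/-- Existence of the universal polynomial for the composition, in `N` variables. -/
theorem exists_EE_eq_compGen (N i j : ℕ) : ∃ Q : MvPolynomial (Fin N) ℤ,
    EE N N ℤ Q = compGen N i j ∧
      IsWeightedHomogeneous (fun a : Fin N => (a : ℕ) + 1) Q (i * j) := by
  obtain ⟨Q₀, hQ₀⟩ := EE_surjective N N ℤ le_rfl (compGen N i j) (compGen_isSymmetric N i j)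
  refine ⟨weightedHomogeneousComponent (fun a : Fin N => (a : ℕ) + 1) (i * j) Q₀, ?_,
    weightedHomogeneousComponent_isWeightedHomogeneous (i * j) Q₀⟩
  have := SymPoly.aeval_weightedHomogeneousComponent (fun a : Fin N => (a : ℕ) + 1)
    (fun a : Fin N => esymm (Fin N) ℤ ((a : ℕ) + 1))
    (fun a => esymm_isHomogeneous _ _ _) Q₀ (i * j) (by
      change (EE N N ℤ Q₀).IsHomogeneous _
      rw [hQ₀]; exact compGen_isHomogeneous N i j)
  change EE N N ℤ _ = EE N N ℤ Q₀ at this
  rw [this, hQ₀]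

/-- **Stability**: the universal polynomial `Q_{i,j}` (in `ij` variables) also works in
`N ≥ ij` variables. -/
theorem EE_eq_compGen_of_isCompPoly {i j : ℕ} (h : i * j ≤ N) {Q : MvPolynomial (Fin (i * j)) ℤ}
    (hQ : IsCompPoly i j Q) : EE (i * j) N ℤ Q = compGen N i j := by
  obtain ⟨Q', hQ'1, hQ'2⟩ := exists_EE_eq_compGen N i j
  obtain ⟨Q'', hQ''⟩ := exists_rename_eq_of_vars_subset_range Q' (Fin.castLE h)
    (Fin.castLE_injective h) (vars_subset_of_weight h Q' (i * j) hQ'2 le_rfl)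
  have e1 : EE (i * j) N ℤ Q'' = compGen N i j := by rw [← EE_rename_castLE h, hQ'', hQ'1]
  have e2 : EE (i * j) (i * j) ℤ Q'' = EE (i * j) (i * j) ℤ Q := by
    rw [← res1_EE h, e1, res1_compGen h]
    exact hQ.1.symm
  rw [← EE_injective (i * j) (i * j) ℤ le_rfl e2, e1]

end Stab1

end Groth.Agent.Lib.Helper4.MulPoly
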