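import Groth.Prelude.Def_LambdaSp
import Mathlib
import Groth.Agent.Lib.Helper4Stability
import Groth.Agent.Lib.Helper4LambdaNewton

/-!
# Helper4: Newton polynomials, the verification principle and the universal identities for
Adams operations.
-/
set_option autoImplicit false
universe u
open MvPolynomial Finset LambdaRing

namespace Groth.Agent.Lib.Helper4.LUniv

open Groth.Agent.Lib.Helper4.MulPoly

section Newton

/-- The Newton relation between a sequence `e` ("elementary symmetric functions") and a sequence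
`p` ("power sums"). -/
def NR {R : Type*} [CommRing R] (e p : ℕ → R) : Prop :=
  ∀ n : ℕ, e (n + 1) * ((n : R) + 1) = ∑ k ∈ range (n + 1), ((-1) ^ k * p (k + 1)) * e (n - k)

/-- Newton polynomials: `nu k` expresses the `k`-th power sum through `X_i = e_{i+1}`. -/
noncomputable def nu : ℕ → MvPolynomial ℕ ℤ
  | 0 => 0
  | n + 1 => (-1) ^ n * (X n * ((n : MvPolynomial ℕ ℤ) + 1) -
      ∑ k : Fin n, ((-1) ^ (k : ℕ) * nu ((k : ℕ) + 1)) * X (n - 1 - (k : ℕ)))
decreasing_by omega

theorem nu_succ (n : ℕ) : nu (n + 1) = (-1) ^ n * (X n * ((n : MvPolynomial ℕ ℤ) + 1) -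
    ∑ k ∈ range n, ((-1) ^ k * nu (k + 1)) * X (n - 1 - k)) := by
  rw [nu, Finset.sum_range]

variable {R : Type*} [CommRing R] [Algebra ℤ R]

theorem aeval_nu_succ (f : ℕ → R) (n : ℕ) : aeval f (nu (n + 1)) =
    (-1) ^ n * (f n * ((n : R) + 1) -
      ∑ k ∈ range n, ((-1) ^ k * aeval f (nu (k + 1))) * f (n - 1 - k)) := by
  rw [nu_succ]
  simp only [map_mul, map_pow, map_neg, map_one, map_sub, map_add, map_natCast, aeval_X, map_sum]

/-- `aeval f (nu k)` only depends on `f i` for `i < k`. -/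
theorem aeval_nu_congr (f g : ℕ → R) (k : ℕ) (h : ∀ i < k, f i = g i) :
    aeval f (nu k) = aeval g (nu k) := by
  induction k using Nat.strong_induction_on with
  | _ k ih =>
    rcases k with _ | n
    · simp [nu]
    · rw [aeval_nu_succ, aeval_nu_succ, h n (Nat.lt_succ_self n)]
      congr 2
      apply Finset.sum_congr rfl
      intro j hj
      rw [mem_range] at hj
      rw [ih (j + 1) (by omega) (fun i hi => h i (by omega)), h (n - 1 - j) (by omega)]

/-- the defining recursion: `e` and `ν(e)` satisfy the Newton relation -/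
theorem NR_nu (e : ℕ → R) (h0 : e 0 = 1) :
    NR e (fun k => aeval (fun i => e (i + 1)) (nu k)) := by
  intro n
  beta_reduce
  rw [Finset.sum_range_succ, Nat.sub_self, h0, mul_one, aeval_nu_succ, ← mul_assoc,
    ← pow_add, ← two_mul, pow_mul, neg_one_sq, one_pow, one_mul]
  have : ∑ k ∈ range n, ((-1 : R) ^ k * aeval (fun i => e (i + 1)) (nu (k + 1))) * e (n - k) =
      ∑ k ∈ range n, ((-1 : R) ^ k * aeval (fun i => e (i + 1)) (nu (k + 1))) * e (n - 1 - k + 1) := by
    apply Finset.sum_congr rfl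
    intro k hk
    rw [mem_range] at hk
    congr 2
    omega
  rw [this]
  ring

/-- uniqueness of `p` given `e` -/
theorem nu_spec (e p : ℕ → R) (h0 : e 0 = 1) (h : NR e p) (k : ℕ) :
    p (k + 1) = aeval (fun i => e (i + 1)) (nu (k + 1)) := by
  induction k using Nat.strong_induction_on with
  | _ k ih =>
    have h1 := h k
    have h2 := NR_nu e h0 k
    rw [Finset.sum_range_succ, Nat.sub_self, h0, mul_one] at h1 h2
    have h3 : ∑ j ∈ range k, ((-1 : R) ^ j * p (j + 1)) * e (k - j) =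
        ∑ j ∈ range k, ((-1 : R) ^ j * aeval (fun i => e (i + 1)) (nu (j + 1))) * e (k - j) := by
      apply Finset.sum_congr rfl
      intro j hj
      rw [mem_range] at hj
      rw [ih j hj]
    rw [h3] at h1
    have h4 : (-1 : R) ^ k * p (k + 1) = (-1 : R) ^ k * aeval (fun i => e (i + 1)) (nu (k + 1)) := by
      have := h1.symm.trans h2
      exact add_left_cancel this
    have h5 : ((-1 : R) ^ k) * ((-1 : R) ^ k) = 1 := by
      rw [← pow_add, ← two_mul, pow_mul, neg_one_sq, one_pow]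
    calc p (k + 1) = ((-1 : R) ^ k * (-1 : R) ^ k) * p (k + 1) := by rw [h5, one_mul]
      _ = (-1 : R) ^ k * ((-1 : R) ^ k * p (k + 1)) := by ring
      _ = (-1 : R) ^ k * ((-1 : R) ^ k * aeval (fun i => e (i + 1)) (nu (k + 1))) := by rw [h4]
      _ = _ := by rw [← mul_assoc, h5, one_mul]

/-- Newton's identities for `MvPolynomial.esymm` and `psum` in the form `NR`. -/
theorem NR_esymm_psum (σ : Type*) [Fintype σ] :
    NR (fun j => esymm σ ℤ j) (fun k => psum σ ℤ k) := by
  intro n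
  have h := mul_esymm_eq_sum σ ℤ (n + 1)
  have hfilter : ∑ a ∈ antidiagonal (n + 1) with a.1 < n + 1,
      (-1 : MvPolynomial σ ℤ) ^ a.1 * esymm σ ℤ a.1 * psum σ ℤ a.2 =
      ∑ i ∈ range (n + 1), (-1 : MvPolynomial σ ℤ) ^ i * esymm σ ℤ i * psum σ ℤ (n + 1 - i) := by
    rw [Finset.sum_filter, Finset.Nat.sum_antidiagonal_eq_sum_range_succ_mk, Finset.sum_range_succ]
    simp only [lt_self_iff_false, if_false, add_zero]
    apply Finset.sum_congr rfl
    intro i hi
    rw [mem_range] at hi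
    rw [if_pos hi]
  rw [hfilter] at h
  rw [← Finset.sum_range_reflect] at h
  have h2 : ∑ j ∈ range (n + 1), (-1 : MvPolynomial σ ℤ) ^ (n + 1 - 1 - j) *
      esymm σ ℤ (n + 1 - 1 - j) * psum σ ℤ (n + 1 - (n + 1 - 1 - j)) =
      ∑ j ∈ range (n + 1), (-1 : MvPolynomial σ ℤ) ^ (n - j) * esymm σ ℤ (n - j) * psum σ ℤ (j + 1) := by
    apply Finset.sum_congr rfl
    intro j hj
    rw [mem_range] at hj
    have e1 : n + 1 - 1 - j = n - j := by omega
    have e2 : n + 1 - (n - j) = j + 1 := by omega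
    rw [e1, e2]
  rw [h2, Finset.mul_sum] at h
  have h3 : ((n + 1 : ℕ) : MvPolynomial σ ℤ) = (n : MvPolynomial σ ℤ) + 1 := by push_cast; rfl
  rw [h3] at h
  change esymm σ ℤ (n + 1) * ((n : MvPolynomial σ ℤ) + 1) = _
  rw [mul_comm, h]
  apply Finset.sum_congr rfl
  intro j hj
  rw [mem_range] at hj
  have e3 : (-1 : MvPolynomial σ ℤ) ^ (n + 1 + 1) * (-1) ^ (n - j) = (-1) ^ j := by
    rw [← pow_add]
    have : n + 1 + 1 + (n - j) = j + 2 * (n - j + 1) := by omega
    rw [this, pow_add, pow_mul, neg_one_sq, one_pow, mul_one]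
  calc (-1 : MvPolynomial σ ℤ) ^ (n + 1 + 1) * ((-1) ^ (n - j) * esymm σ ℤ (n - j) * psum σ ℤ (j + 1))
      = ((-1 : MvPolynomial σ ℤ) ^ (n + 1 + 1) * (-1) ^ (n - j)) * psum σ ℤ (j + 1) * esymm σ ℤ (n - j) := by
        ring
    _ = _ := by rw [e3]

theorem psum_eq_aeval_nu (σ : Type*) [Fintype σ] (k : ℕ) :
    psum σ ℤ (k + 1) = aeval (fun i => esymm σ ℤ (i + 1)) (nu (k + 1)) :=
  nu_spec (fun j => esymm σ ℤ j) (fun k => psum σ ℤ k) (esymm_zero σ ℤ) (NR_esymm_psum σ) k

/-- Newton's identities for multisets of ring elements. -/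
theorem NR_multiset (m : Multiset R) :
    NR (fun j => m.esymm j) (fun k => (m.map (· ^ k)).sum) := by
  obtain ⟨l, rfl⟩ := Quot.exists_rep m
  have hl : (↑l : Multiset R) = (univ : Finset (Fin l.length)).val.map l.get := by
    rw [Fin.univ_val_map, List.ofFn_get]
  intro n
  have h := NR_esymm_psum (Fin l.length) n
  have h' := congrArg (aeval (R := ℤ) l.get) h
  simp only [map_mul, map_add, map_natCast, map_one, map_sum, map_pow, map_neg,
    aeval_esymm_eq_multiset_esymm] at h'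
  change Multiset.esymm (↑l) (n + 1) * ((n : R) + 1) = ∑ k ∈ range (n + 1),
    ((-1) ^ k * (Multiset.map (· ^ (k + 1)) (↑l : Multiset R)).sum) * Multiset.esymm (↑l) (n - k)
  rw [hl, h']
  apply Finset.sum_congr rfl
  intro k _
  congr 2
  rw [psum, map_sum, Multiset.map_map]
  simp only [map_pow, aeval_X]
  rfl

theorem multiset_psum_eq_aeval_nu (m : Multiset R) (k : ℕ) :
    (m.map (· ^ (k + 1))).sum = aeval (fun i => m.esymm (i + 1)) (nu (k + 1)) :=
  nu_spec (fun j => m.esymm j) (fun k => (m.map (· ^ k)).sum) (by simp [Multiset.esymm, Multiset.powersetCard_zero_left])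
    (NR_multiset m) k

end Newton

section Verification

/-- the universal model in `N` variables (two families) -/
noncomputable def PhiInf (N : ℕ) : MvPolynomial (ℕ ⊕ ℕ) ℤ →ₐ[ℤ] MvPolynomial (Fin N ⊕ Fin N) ℤ :=
  aeval (Sum.elim (fun i : ℕ => rename Sum.inl (esymm (Fin N) ℤ (i + 1)))
      (fun i : ℕ => rename Sum.inr (esymm (Fin N) ℤ (i + 1))))

/-- the universal model in `N` variables (one family) -/
noncomputable def PsiInf (N : ℕ) : MvPolynomial ℕ ℤ →ₐ[ℤ] MvPolynomial (Fin N) ℤ :=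
  aeval (fun i : ℕ => esymm (Fin N) ℤ (i + 1))

/-- reindex a polynomial in `Fin n ⊕ Fin n` to `ℕ ⊕ ℕ` -/
noncomputable def til2 (n : ℕ) : MvPolynomial (Fin n ⊕ Fin n) ℤ →ₐ[ℤ] MvPolynomial (ℕ ⊕ ℕ) ℤ :=
  rename (Sum.map Fin.val Fin.val)

/-- reindex a polynomial in `Fin n` to `ℕ` -/
noncomputable def til1 (n : ℕ) : MvPolynomial (Fin n) ℤ →ₐ[ℤ] MvPolynomial ℕ ℤ :=
  rename Fin.val

theorem PhiInf_til2 (n N : ℕ) (P : MvPolynomial (Fin n ⊕ Fin n) ℤ) :
    PhiInf N (til2 n P) = Phi n N P := by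
  rw [PhiInf, til2, Phi, aeval_rename]
  congr 2
  funext i
  rcases i with k | k <;> rfl

theorem PsiInf_til1 (n N : ℕ) (Q : MvPolynomial (Fin n) ℤ) :
    PsiInf N (til1 n Q) = EE n N ℤ Q := by
  rw [PsiInf, til1, EE, aeval_rename]
  rfl

/-- **Verification principle** (two families). -/
theorem VP2 (F G : MvPolynomial (ℕ ⊕ ℕ) ℤ) (N₀ : ℕ)
    (hFG : ∀ N, N₀ ≤ N → PhiInf N F = PhiInf N G) : F = G := by
  classical
  rw [← sub_eq_zero]
  set D := F - G with hD
  have hD0 : ∀ N, N₀ ≤ N → PhiInf N D = 0 := fun N hN => by rw [hD, map_sub, hFG N hN, sub_self]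
  set n := D.vars.sup (Sum.elim id id) + 1 with hn
  have hvars : (D.vars : Set (ℕ ⊕ ℕ)) ⊆ Set.range (Sum.map Fin.val Fin.val : Fin n ⊕ Fin n → ℕ ⊕ ℕ) := by
    intro i hi
    have hle : Sum.elim id id i ≤ D.vars.sup (Sum.elim id id) := Finset.le_sup (f := Sum.elim id id) hi
    rcases i with a | a
    · exact ⟨Sum.inl ⟨a, by simp only [Sum.elim_inl, id_eq] at hle; omega⟩, rfl⟩
    · exact ⟨Sum.inr ⟨a, by simp only [Sum.elim_inr, id_eq] at hle; omega⟩, rfl⟩
  obtain ⟨D₀, hD₀⟩ := exists_rename_eq_of_vars_subset_range D _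
    (Function.Injective.sumMap Fin.val_injective Fin.val_injective) hvars
  have h1 := hD0 (max n N₀) (le_max_right _ _)
  have h2 : PhiInf (max n N₀) D = Phi n (max n N₀) D₀ := by
    rw [← hD₀]; exact PhiInf_til2 n _ D₀
  rw [h2] at h1
  have h3 : D₀ = 0 := Phi_injective n _ (le_max_left _ _) (by rw [h1, map_zero])
  rw [← hD₀, h3, map_zero]

/-- **Verification principle** (one family). -/
theorem VP1 (F G : MvPolynomial ℕ ℤ) (N₀ : ℕ)
    (hFG : ∀ N, N₀ ≤ N → PsiInf N F = PsiInf N G) : F = G := by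
  classical
  rw [← sub_eq_zero]
  set D := F - G with hD
  have hD0 : ∀ N, N₀ ≤ N → PsiInf N D = 0 := fun N hN => by rw [hD, map_sub, hFG N hN, sub_self]
  set n := D.vars.sup id + 1 with hn
  have hvars : (D.vars : Set ℕ) ⊆ Set.range (Fin.val : Fin n → ℕ) := by
    intro i hi
    have hle : id i ≤ D.vars.sup id := Finset.le_sup (f := id) hi
    exact ⟨⟨i, by simp only [id_eq] at hle; omega⟩, rfl⟩
  obtain ⟨D₀, hD₀⟩ := exists_rename_eq_of_vars_subset_range D _ Fin.val_injective hvars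
  have h1 := hD0 (max n N₀) (le_max_right _ _)
  have h2 : PsiInf (max n N₀) D = EE n (max n N₀) ℤ D₀ := by
    rw [← hD₀]; exact PsiInf_til1 n _ D₀
  rw [h2] at h1
  have h3 : D₀ = 0 := EE_injective n _ ℤ (le_max_left _ _) (by rw [h1, map_zero])
  rw [← hD₀, h3, map_zero]

theorem PhiInf_til2_of_isMulPoly {n N : ℕ} (h : n ≤ N) {P : MvPolynomial (Fin n ⊕ Fin n) ℤ}
    (hP : IsMulPoly n P) : PhiInf N (til2 n P) = mulGen N n := by
  rw [PhiInf_til2, Phi_eq_mulGen_of_isMulPoly h hP]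

theorem PsiInf_til1_of_isCompPoly {i j N : ℕ} (h : i * j ≤ N) {Q : MvPolynomial (Fin (i * j)) ℤ}
    (hQ : IsCompPoly i j Q) : PsiInf N (til1 (i * j) Q) = compGen N i j := by
  rw [PsiInf_til1, EE_eq_compGen_of_isCompPoly h hQ]

theorem PsiInf_nu (N k : ℕ) : PsiInf N (nu (k + 1)) = psum (Fin N) ℤ (k + 1) :=
  (psum_eq_aeval_nu (Fin N) k).symm

theorem PhiInf_rename_inl (N : ℕ) (F : MvPolynomial ℕ ℤ) :
    PhiInf N (rename Sum.inl F) = rename Sum.inl (PsiInf N F) := by
  rw [PhiInf, PsiInf, aeval_rename, ← AlgHom.comp_apply, comp_aeval]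
  rfl

theorem PhiInf_rename_inr (N : ℕ) (F : MvPolynomial ℕ ℤ) :
    PhiInf N (rename Sum.inr F) = rename Sum.inr (PsiInf N F) := by
  rw [PhiInf, PsiInf, aeval_rename, ← AlgHom.comp_apply, comp_aeval]
  rfl

/-- **(∗)**: the universal identity behind multiplicativity of the Adams operations. -/
theorem nu_mulPoly (Pt : ℕ → MvPolynomial (ℕ ⊕ ℕ) ℤ)
    (hPt : ∀ m, ∃ P : MvPolynomial (Fin m ⊕ Fin m) ℤ, IsMulPoly m P ∧ Pt m = til2 m P) (k : ℕ) :
    aeval (fun i => Pt (i + 1)) (nu (k + 1)) =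
      rename Sum.inl (nu (k + 1)) * rename Sum.inr (nu (k + 1)) := by
  apply VP2 _ _ (k + 1)
  intro N hN
  rw [map_mul, PhiInf_rename_inl, PhiInf_rename_inr, PsiInf_nu, ← AlgHom.comp_apply, comp_aeval]
  set M : Multiset (MvPolynomial (Fin N ⊕ Fin N) ℤ) :=
    (Finset.univ : Finset (Fin N × Fin N)).val.map
      fun ab => (X (Sum.inl ab.1) * X (Sum.inr ab.2) : MvPolynomial (Fin N ⊕ Fin N) ℤ) with hM
  have h1 : aeval (fun i => PhiInf N (Pt (i + 1))) (nu (k + 1)) =
      aeval (fun i => M.esymm (i + 1)) (nu (k + 1)) := by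
    apply aeval_nu_congr
    intro i hi
    obtain ⟨P, hP, hPt'⟩ := hPt (i + 1)
    rw [hPt', PhiInf_til2_of_isMulPoly (by omega) hP]
    rfl
  change aeval (fun i => PhiInf N (Pt (i + 1))) (nu (k + 1)) = _
  rw [h1, ← multiset_psum_eq_aeval_nu, hM, Multiset.map_map]
  simp only [psum, map_sum]
  rw [Finset.sum_mul_sum, ← Finset.sum_product', Finset.univ_product_univ]
  change ∑ ab : Fin N × Fin N, _ = _
  apply Finset.sum_congr rfl
  intro ab _
  simp only [Function.comp_apply, mul_pow, map_pow, rename_X]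

end Verification

section Special

variable {K : Type u} [CommRing K] [LambdaOps K]

theorem NR_lam_adamsOp (x : K) :
    NR (fun j => LambdaOps.lam j x) (fun k => adamsOp k x) :=
  fun n => Groth.Agent.Lib.Helper4.Newton.newton x n

theorem adamsOp_eq_aeval_nu (x : K) (k : ℕ) :
    adamsOp (k + 1) x = aeval (fun i => LambdaOps.lam (i + 1) x) (nu (k + 1)) :=
  nu_spec (fun j => LambdaOps.lam j x) (fun k => adamsOp k x) (LambdaOps.lam_zero x)
    (NR_lam_adamsOp x) k

/-- evaluation at the λ-operations of `x` and `y` -/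
noncomputable def ev2 (x y : K) : MvPolynomial (ℕ ⊕ ℕ) ℤ →ₐ[ℤ] K :=
  aeval (Sum.elim (fun i => LambdaOps.lam (i + 1) x) (fun i => LambdaOps.lam (i + 1) y))

/-- evaluation at the λ-operations of `x` -/
noncomputable def ev1 (x : K) : MvPolynomial ℕ ℤ →ₐ[ℤ] K :=
  aeval (fun i => LambdaOps.lam (i + 1) x)

theorem ev2_til2 (x y : K) (m : ℕ) (P : MvPolynomial (Fin m ⊕ Fin m) ℤ) :
    ev2 x y (til2 m P) = aeval (Sum.elim (fun k : Fin m => LambdaOps.lam ((k : ℕ) + 1) x)
        (fun k : Fin m => LambdaOps.lam ((k : ℕ) + 1) y)) P := by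
  rw [ev2, til2, aeval_rename]
  congr 2
  funext i
  rcases i with k | k <;> rfl

theorem ev1_til1 (x : K) (m : ℕ) (Q : MvPolynomial (Fin m) ℤ) :
    ev1 x (til1 m Q) = aeval (fun k : Fin m => LambdaOps.lam ((k : ℕ) + 1) x) Q := by
  rw [ev1, til1, aeval_rename]
  rfl

theorem ev2_rename_inl (x y : K) (F : MvPolynomial ℕ ℤ) : ev2 x y (rename Sum.inl F) = ev1 x F := by
  rw [ev2, ev1, aeval_rename]
  rfl

theorem ev2_rename_inr (x y : K) (F : MvPolynomial ℕ ℤ) : ev2 x y (rename Sum.inr F) = ev1 y F := by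
  rw [ev2, ev1, aeval_rename]
  rfl

/-- a choice of universal polynomials -/
noncomputable def Pt (hP : ∀ n : ℕ, ∃ P : MvPolynomial (Fin n ⊕ Fin n) ℤ, IsMulPoly n P) (m : ℕ) :
    MvPolynomial (ℕ ⊕ ℕ) ℤ := til2 m (hP m).choose

theorem Pt_spec (hP : ∀ n : ℕ, ∃ P : MvPolynomial (Fin n ⊕ Fin n) ℤ, IsMulPoly n P) (m : ℕ) :
    ∃ P : MvPolynomial (Fin m ⊕ Fin m) ℤ, IsMulPoly m P ∧ Pt hP m = til2 m P :=
  ⟨(hP m).choose, (hP m).choose_spec, rfl⟩

theorem lam_mul_eq_ev2 (hK : IsSpecial K)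
    (hP : ∀ n : ℕ, ∃ P : MvPolynomial (Fin n ⊕ Fin n) ℤ, IsMulPoly n P) (m : ℕ) (x y : K) :
    LambdaOps.lam m (x * y) = ev2 x y (Pt hP m) := by
  rw [Pt, ev2_til2]
  exact hK.lam_mul m _ (hP m).choose_spec x y

/-- ψ^k is multiplicative in a special λ-ring. -/
theorem adamsOp_mul (hK : IsSpecial K)
    (hP : ∀ n : ℕ, ∃ P : MvPolynomial (Fin n ⊕ Fin n) ℤ, IsMulPoly n P) (k : ℕ) (x y : K) :
    adamsOp (k + 1) (x * y) = adamsOp (k + 1) x * adamsOp (k + 1) y := by
  rw [adamsOp_eq_aeval_nu (x * y), adamsOp_eq_aeval_nu x, adamsOp_eq_aeval_nu y]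
  have h1 : (fun i => LambdaOps.lam (i + 1) (x * y)) = fun i => ev2 x y (Pt hP (i + 1)) := by
    funext i
    exact lam_mul_eq_ev2 hK hP (i + 1) x y
  rw [h1, ← comp_aeval_apply, nu_mulPoly (Pt hP) (Pt_spec hP) k, map_mul, ev2_rename_inl,
    ev2_rename_inr]
  rfl

section Additive

open PowerSeries Groth.Agent.Lib.Helper4.Newton

theorem lamSeries_add (x y : K) : lamSeries (x + y) = lamSeries x * lamSeries y := by
  ext n
  rw [coeff_lamSeries', PowerSeries.coeff_mul, Finset.Nat.sum_antidiagonal_eq_sum_range_succ_mk,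
    LambdaOps.lam_add]
  apply Finset.sum_congr rfl
  intro i _
  rw [coeff_lamSeries', coeff_lamSeries']

theorem logDerivSeries_add (x y : K) :
    logDerivSeries (x + y) = logDerivSeries x + logDerivSeries y := by
  have hx := lamSeries_mul_invOfUnit x
  have hy := lamSeries_mul_invOfUnit y
  have hxy := lamSeries_mul_invOfUnit (x + y)
  have hinv : (lamSeries (x + y)).invOfUnit 1 =
      (lamSeries x).invOfUnit 1 * (lamSeries y).invOfUnit 1 := by
    have h1 : lamSeries (x + y) * ((lamSeries x).invOfUnit 1 * (lamSeries y).invOfUnit 1) = 1 := by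
      rw [lamSeries_add]
      calc lamSeries x * lamSeries y * ((lamSeries x).invOfUnit 1 * (lamSeries y).invOfUnit 1)
          = (lamSeries x * (lamSeries x).invOfUnit 1) * (lamSeries y * (lamSeries y).invOfUnit 1) := by
            ring
        _ = 1 := by rw [hx, hy, mul_one]
    calc (lamSeries (x + y)).invOfUnit 1
        = (lamSeries (x + y)).invOfUnit 1 *
            (lamSeries (x + y) * ((lamSeries x).invOfUnit 1 * (lamSeries y).invOfUnit 1)) := by
          rw [h1, mul_one]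
      _ = (lamSeries (x + y) * (lamSeries (x + y)).invOfUnit 1) *
            ((lamSeries x).invOfUnit 1 * (lamSeries y).invOfUnit 1) := by ring
      _ = _ := by rw [hxy, one_mul]
  rw [logDerivSeries, hinv, lamSeries_add, Derivation.leibniz, logDerivSeries, logDerivSeries]
  simp only [smul_eq_mul]
  calc (lamSeries x * (derivative K) (lamSeries y) + lamSeries y * (derivative K) (lamSeries x)) *
        ((lamSeries x).invOfUnit 1 * (lamSeries y).invOfUnit 1)
      = (lamSeries x * (lamSeries x).invOfUnit 1) * ((derivative K) (lamSeries y) *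
          (lamSeries y).invOfUnit 1) + (lamSeries y * (lamSeries y).invOfUnit 1) *
          ((derivative K) (lamSeries x) * (lamSeries x).invOfUnit 1) := by ring
    _ = _ := by rw [hx, hy, one_mul, one_mul, add_comm]

theorem adamsOp_add (k : ℕ) (x y : K) : adamsOp k (x + y) = adamsOp k x + adamsOp k y := by
  rcases k with _ | k
  · simp [adamsOp]
  · simp only [adamsOp]
    rw [logDerivSeries_add, map_add, mul_add]

theorem adamsOp_zero_arg (k : ℕ) : adamsOp k (0 : K) = 0 := by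
  have := adamsOp_add k (0 : K) 0
  rw [add_zero] at this
  exact left_eq_add.mp this

end Additive

end Special

end Groth.Agent.Lib.Helper4.LUniv
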