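import Mathlib
import Groth.Agent.Lib.Helper4LambdaAdamsFil
import Groth.Agent.Lib.Helper4LambdaUniv
import Groth.Agent.Lib.Helper4LambdaSigma

/-!
# Helper16: Newton power sums of the γ-operations in terms of Adams operations

For `y` in a λ-ring, the "power sums" `p_k(y)` attached (by Newton's recursion) to the sequence
`γ^i(y)` are `p_k(y) = Σ_{j=1}^k (-1)^(k-j) C(k,j) ψ^j(y)`.  Consequences for the γ-filtration.
-/

set_option autoImplicit false
set_option linter.style.haveILetI false
set_option linter.unusedSectionVars false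
universe u

namespace Groth.Agent.Lib.Helper16.Chern
open PowerSeries LambdaRing Finset
open Groth.Agent.Lib.Helper4 Groth.Agent.Lib.Helper4.LUniv Groth.Agent.Lib.Helper4.Newton

section PS
variable {R : Type*} [CommRing R]

theorem coeff_X_mul_pow_of_lt (b' : R⟦X⟧) (d a : ℕ) (h : a < d) : coeff a ((X * b') ^ d) = 0 := by
  rw [mul_pow, coeff_X_pow_mul', if_neg (by omega)]

theorem coeff_subst_X_mul (b' f g : R⟦X⟧) (k : ℕ) :
    coeff k (f.subst (X * b') * g) =
      ∑ d ∈ range (k + 1), coeff d f * coeff k ((X * b') ^ d * g) := by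
  have hb : HasSubst (X * b') := HasSubst.of_constantCoeff_zero' (by simp)
  rw [coeff_mul]
  have h1 : ∀ p ∈ antidiagonal k, coeff p.1 (f.subst (X * b')) * coeff p.2 g =
      ∑ d ∈ range (k + 1), coeff d f * (coeff p.1 ((X * b') ^ d) * coeff p.2 g) := by
    intro p hp
    rw [coeff_subst' hb, finsum_eq_sum_of_support_subset (s := range (k + 1)), Finset.sum_mul]
    · apply sum_congr rfl
      intro d _
      rw [smul_eq_mul, mul_assoc]
    · intro d hd
      simp only [Function.mem_support, ne_eq] at hd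
      simp only [coe_range, Set.mem_Iio]
      by_contra hlt
      apply hd
      have : p.1 + p.2 = k := by simpa using hp
      rw [coeff_X_mul_pow_of_lt b' d p.1 (by omega), smul_zero]
  rw [sum_congr rfl h1, sum_comm]
  apply sum_congr rfl
  intro d _
  rw [coeff_mul, mul_sum]

theorem derivative_tau : derivative R (tau R) = (PowerSeries.mk 1) ^ 2 := by
  ext n
  rw [coeff_derivative, tau, coeff_succ_X_mul, coeff_mk, show (2 : ℕ) = 1 + 1 from rfl,
    mk_one_pow_eq_mk_choose_add, coeff_mk]
  simp [Nat.choose_one_right]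
  ring

theorem coeff_tau_pow_mul_derivative (d k : ℕ) :
    coeff k ((tau R) ^ d * derivative R (tau R)) = ((k + 1).choose (d + 1) : R) := by
  rw [derivative_tau, tau, mul_pow, mul_assoc, ← pow_add, coeff_X_pow_mul',
    show d + 2 = (d + 1) + 1 from rfl, mk_one_pow_eq_mk_choose_add]
  split_ifs with h
  · rw [coeff_mk]
    congr 2
    omega
  · rw [Nat.choose_eq_zero_of_lt (by omega)]
    simp

theorem coeff_subst_tau_mul_derivative (f : R⟦X⟧) (k : ℕ) :
    coeff k (f.subst (tau R) * derivative R (tau R)) =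
      ∑ d ∈ range (k + 1), coeff d f * ((k + 1).choose (d + 1) : R) := by
  have h := coeff_subst_X_mul (PowerSeries.mk 1) f (derivative R (tau R)) k
  change coeff k (f.subst (tau R) * derivative R (tau R)) =
    ∑ d ∈ range (k + 1), coeff d f * coeff k ((tau R) ^ d * derivative R (tau R)) at h
  rw [h]
  apply sum_congr rfl
  intro d _
  rw [coeff_tau_pow_mul_derivative]

end PS

section EvZ
variable {σ : Type*} {R S : Type*} [CommRing R] [CommRing S]

/-- evaluation of an integral polynomial (a version of `MvPolynomial.aeval` that does not depend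
on a choice of `Algebra ℤ R` instance). -/
noncomputable def evZ (f : σ → R) (p : MvPolynomial σ ℤ) : R :=
  MvPolynomial.eval₂ (Int.castRingHom R) f p

theorem aeval_eq_evZ [Algebra ℤ R] (f : σ → R) (p : MvPolynomial σ ℤ) :
    MvPolynomial.aeval f p = evZ f p := by
  rw [MvPolynomial.aeval_def, evZ]
  congr 1
  exact RingHom.ext_int _ _

theorem map_evZ (φ : R →+* S) (g : σ → R) (p : MvPolynomial σ ℤ) :
    φ (evZ g p) = evZ (fun i => φ (g i)) p := by
  induction p using MvPolynomial.induction_on with
  | C a =>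
    rw [evZ, evZ, MvPolynomial.eval₂_C, MvPolynomial.eval₂_C]
    simp
  | add p q hp hq =>
    simp only [evZ, MvPolynomial.eval₂_add, map_add] at *
    rw [hp, hq]
  | mul_X p i hp =>
    simp only [evZ, MvPolynomial.eval₂_mul, MvPolynomial.eval₂_X, map_mul] at *
    rw [hp]

theorem evZ_nu_succ (f : ℕ → R) (n : ℕ) : evZ f (nu (n + 1)) =
    (-1) ^ n * (f n * ((n : R) + 1) -
      ∑ k ∈ range n, ((-1) ^ k * evZ f (nu (k + 1))) * f (n - 1 - k)) := by
  letI : Algebra ℤ R := Ring.toIntAlgebra R
  simp only [← aeval_eq_evZ]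
  exact aeval_nu_succ f n

theorem evZ_nu_zero (f : ℕ → R) : evZ f (nu 0) = 0 := by
  simp [evZ, nu]

theorem evZ_nu_congr (f g : ℕ → R) (k : ℕ) (h : ∀ i < k, f i = g i) :
    evZ f (nu k) = evZ g (nu k) := by
  letI : Algebra ℤ R := Ring.toIntAlgebra R
  simp only [← aeval_eq_evZ]
  exact aeval_nu_congr f g k h

end EvZ

section Lam
variable {K : Type u} [CommRing K] [LambdaOps K]

theorem adams_zero_eq_aug (P : PosStructure K) (x : K) : adams P 0 x = (P.aug x : K) := by
  have h := congrArg (coeff 0) (adamsSeries_mul_lamNeg P x)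
  rw [coeff_mul, Finset.Nat.antidiagonal_zero, Finset.sum_singleton, map_sub, coeff_C_mul,
    coeff_zero_X_mul] at h
  simp only [coeff_zero_eq_constantCoeff, constantCoeff_lamNeg, mul_one, sub_zero] at h
  rw [adams, coeff_zero_eq_constantCoeff_apply]
  exact h

/-- Newton's identities between the λ-operations and the Adams operations `adams P`. -/
theorem NR_lam_adams (P : PosStructure K) (x : K) :
    NR (fun j => LambdaOps.lam j x) (fun k => adams P k x) := by
  intro n
  have h := congrArg (coeff (n + 1)) (adamsSeries_mul_lamNeg P x)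
  rw [coeff_mul, Finset.Nat.sum_antidiagonal_eq_sum_range_succ_mk, map_sub, coeff_C_mul,
    coeff_succ_X_mul, coeff_derivative, Finset.sum_range_succ'] at h
  simp only [coeff_lamNeg, Nat.sub_zero] at h
  have h0 : coeff 0 (adamsSeries P x) = (P.aug x : K) := adams_zero_eq_aug P x
  rw [h0] at h
  have hS : ∑ i ∈ range (n + 1), adams P (i + 1) x *
      ((-1 : K) ^ (n - i) * LambdaOps.lam (n - i) x) =
      -((-1 : K) ^ (n + 1) * LambdaOps.lam (n + 1) x * ((n : K) + 1)) := by
    have e : ∀ i, n + 1 - (i + 1) = n - i := fun i => by omega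
    simp only [e] at h
    have h' : ∑ i ∈ range (n + 1), adams P (i + 1) x *
        ((-1 : K) ^ (n - i) * LambdaOps.lam (n - i) x) =
        ∑ i ∈ range (n + 1), coeff (i + 1) (adamsSeries P x) *
        ((-1 : K) ^ (n - i) * LambdaOps.lam (n - i) x) := rfl
    rw [h']
    linear_combination h
  have hterm : ∀ k ∈ range (n + 1),
      ((-1 : K) ^ k * adams P (k + 1) x) * LambdaOps.lam (n - k) x =
      (-1 : K) ^ n * (adams P (k + 1) x * ((-1 : K) ^ (n - k) * LambdaOps.lam (n - k) x)) := by
    intro k hk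
    rw [mem_range] at hk
    have : (-1 : K) ^ n * (-1 : K) ^ (n - k) = (-1) ^ k := by
      rw [← pow_add]
      have : n + (n - k) = k + 2 * (n - k) := by omega
      rw [this, pow_add, pow_mul, neg_one_sq, one_pow, mul_one]
    rw [← this]
    ring
  change LambdaOps.lam (n + 1) x * ((n : K) + 1) =
    ∑ k ∈ range (n + 1), ((-1 : K) ^ k * adams P (k + 1) x) * LambdaOps.lam (n - k) x
  rw [sum_congr rfl hterm, ← mul_sum, hS]
  have hsq : (-1 : K) ^ n * (-1 : K) ^ n = 1 := by
    rw [← pow_add, ← two_mul, pow_mul, neg_one_sq, one_pow]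
  rw [pow_succ]
  linear_combination (-(LambdaOps.lam (n + 1) x * ((n : K) + 1))) * hsq

/-- the series `Σ (-1)^k ψ^{k+1}(x) t^k`, the logarithmic derivative of `λ_t(x)`. -/
noncomputable def adamsL (P : PosStructure K) (x : K) : K⟦X⟧ :=
  PowerSeries.mk fun k => (-1 : K) ^ k * adams P (k + 1) x

theorem derivative_lamSeries_eq (P : PosStructure K) (x : K) :
    derivative K (lamSeries x) = adamsL P x * lamSeries x := by
  ext n
  rw [coeff_derivative, coeff_mul, Finset.Nat.sum_antidiagonal_eq_sum_range_succ_mk]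
  have := NR_lam_adams P x n
  simp only [coeff_lamSeries, adamsL, coeff_mk]
  exact this

theorem derivative_gammaSeries_eq (P : PosStructure K) (y : K) :
    derivative K (gammaSeries y) =
      ((adamsL P y).subst (tau K) * derivative K (tau K)) * gammaSeries y := by
  rw [gammaSeries_eq_subst, derivative_subst hasSubst_tau, derivative_lamSeries_eq P,
    subst_mul hasSubst_tau]
  ring

/-- the `k`-th Newton power sum of the γ-operations of `y`:
`Σ_{j=1}^k (-1)^(k-j) C(k,j) ψ^j(y)`. -/
noncomputable def pK (P : PosStructure K) (k : ℕ) (y : K) : K :=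
  ∑ i ∈ range k, ((-1 : K) ^ (k - 1 - i) * (k.choose (i + 1) : K)) * adams P (i + 1) y

theorem NR_gamma_pK (P : PosStructure K) (y : K) :
    NR (fun j => gamma j y) (fun k => pK P k y) := by
  intro n
  have h := coeff_ode (derivative_gammaSeries_eq P y) n
  simp only [coeff_gammaSeries] at h
  change gamma (n + 1) y * ((n : K) + 1) =
    ∑ k ∈ range (n + 1), ((-1 : K) ^ k * pK P (k + 1) y) * gamma (n - k) y
  rw [h]
  apply sum_congr rfl
  intro k hk
  congr 1
  rw [coeff_subst_tau_mul_derivative, pK, mul_sum]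
  apply sum_congr rfl
  intro i hi
  rw [mem_range] at hi
  simp only [adamsL, coeff_mk, Nat.add_sub_cancel]
  have : (-1 : K) ^ k * (-1 : K) ^ (k - i) = (-1) ^ i := by
    rw [← pow_add]
    have : k + (k - i) = i + 2 * (k - i) := by omega
    rw [this, pow_add, pow_mul, neg_one_sq, one_pow, mul_one]
  rw [← this]
  ring

theorem pK_succ_eq_aeval_nu (P : PosStructure K) (y : K) (k : ℕ) :
    pK P (k + 1) y = MvPolynomial.aeval (fun i => gamma (i + 1) y) (nu (k + 1)) :=
  nu_spec (fun j => gamma j y) (fun k => pK P k y) (gamma_zero' y) (NR_gamma_pK P y) k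

theorem pK_succ_eq_evZ (P : PosStructure K) (y : K) (k : ℕ) :
    pK P (k + 1) y = evZ (fun i => gamma (i + 1) y) (nu (k + 1)) := by
  rw [← aeval_eq_evZ]
  exact pK_succ_eq_aeval_nu P y k

theorem pK_zero (P : PosStructure K) (y : K) : pK P 0 y = 0 := by
  simp [pK]

theorem pK_add (P : PosStructure K) (k : ℕ) (x y : K) :
    pK P k (x + y) = pK P k x + pK P k y := by
  simp only [pK, adams_add, mul_add, sum_add_distrib]

theorem adams_mem {P : PosStructure K} (hK : HasSplitting K P) (j n : ℕ) (x : K)
    (hx : x ∈ gammaFiltration P n) : adams P j x ∈ gammaFiltration P n := by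
  have h1 := adams_sub_pow_mul_mem hK j n x hx
  have h2 := gammaFiltration_anti P (Nat.le_succ n) h1
  have h3 := mul_mem_gammaFiltration_left P n ((j : K) ^ n) x hx
  have := AddSubgroup.add_mem _ h2 h3
  simpa using this

theorem pK_mem {P : PosStructure K} (hK : HasSplitting K P) (k n : ℕ) (x : K)
    (hx : x ∈ gammaFiltration P n) : pK P k x ∈ gammaFiltration P n := by
  rw [pK]
  apply sum_mem
  intro i _
  exact mul_mem_gammaFiltration_left P n _ _ (adams_mem hK _ n x hx)

theorem sum_choose_pow (n : ℕ) (hn : 1 ≤ n) :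
    ∑ i ∈ range n, ((-1 : ℤ) ^ (n - 1 - i) * (n.choose (i + 1) : ℤ)) * ((i : ℤ) + 1) ^ n =
      (n.factorial : ℤ) := by
  have h2 := congrFun (fwdDiff_iter_eq_factorial (R := ℤ) (n := n)) 0
  rw [fwdDiff_iter_eq_sum_shift, Finset.sum_range_succ'] at h2
  simp only [smul_eq_mul, nsmul_eq_mul, zero_add, mul_one, Nat.cast_zero,
    zero_pow (by omega : n ≠ 0), mul_zero, add_zero, Pi.natCast_apply, Nat.cast_add,
    Nat.cast_one] at h2
  rw [← h2]
  apply sum_congr rfl
  intro i hi
  rw [mem_range] at hi
  have : n - (i + 1) = n - 1 - i := by omega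
  rw [this]

theorem pK_sub_factorial_mul_mem {P : PosStructure K} (hK : HasSplitting K P) (n : ℕ)
    (hn : 1 ≤ n) (x : K) (hx : x ∈ gammaFiltration P n) :
    pK P n x - (n.factorial : K) * x ∈ gammaFiltration P (n + 1) := by
  have key := congrArg (Int.cast : ℤ → K) (sum_choose_pow n hn)
  push_cast at key
  have e : pK P n x - (n.factorial : K) * x =
      ∑ i ∈ range n, ((-1 : K) ^ (n - 1 - i) * (n.choose (i + 1) : K)) *
        (adams P (i + 1) x - ((i + 1 : ℕ) : K) ^ n * x) := by
    rw [← key, pK, Finset.sum_mul, ← Finset.sum_sub_distrib]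
    apply sum_congr rfl
    intro i _
    push_cast
    ring
  rw [e]
  apply sum_mem
  intro i _
  exact mul_mem_gammaFiltration_left P _ _ _ (adams_sub_pow_mul_mem hK (i + 1) n x hx)

theorem map_aug_lamSeries_of_aug_zero {P : PosStructure K} (hK : HasSplitting K P) (x : K)
    (hx : P.aug x = 0) : PowerSeries.map P.aug (lamSeries x) = 1 := by
  obtain ⟨e, f, he, hf, rfl⟩ := P.exists_sub x
  have haug : P.aug e = P.aug f := by
    rw [map_sub] at hx
    exact sub_eq_zero.mp hx
  have h := congrArg (PowerSeries.map P.aug) (lamSeries_sub_mul e f)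
  rw [map_mul, map_aug_lamSeries hK e he, map_aug_lamSeries hK f hf, haug] at h
  have hne : ((1 : ℤ⟦X⟧) + X) ^ (P.aug f).toNat ≠ 0 := by
    apply pow_ne_zero
    intro h0
    have := congrArg (coeff 0) h0
    simp at this
  exact mul_right_cancel₀ hne (by rw [h, one_mul])

theorem aug_lam_eq_zero {P : PosStructure K} (hK : HasSplitting K P) (x : K)
    (hx : P.aug x = 0) (i : ℕ) (hi : 1 ≤ i) : P.aug (LambdaOps.lam i x) = 0 := by
  have h := congrArg (coeff i) (map_aug_lamSeries_of_aug_zero hK x hx)
  rw [coeff_map, coeff_lamSeries, coeff_one, if_neg (by omega)] at h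
  exact h

theorem aug_gamma_eq_zero {P : PosStructure K} (hK : HasSplitting K P) (x : K)
    (hx : P.aug x = 0) (r : ℕ) (hr : 1 ≤ r) : P.aug (gamma r x) = 0 := by
  rw [gamma, if_neg (by omega), map_sum]
  apply sum_eq_zero
  intro j _
  rw [map_mul]
  by_cases hj : j = 0
  · rw [if_pos hj, map_zero, mul_zero]
  · rw [if_neg hj, aug_lam_eq_zero hK x hx j (by omega), mul_zero]

theorem aug_eq_zero_of_mem {P : PosStructure K} (hK : HasSplitting K P) (n : ℕ) (hn : 1 ≤ n)
    (x : K) (hx : x ∈ gammaFiltration P n) : P.aug x = 0 := by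
  rw [gammaFiltration_of_ne_zero P (by omega)] at hx
  induction hx using AddSubgroup.closure_induction with
  | mem y hy =>
    obtain ⟨l, hl, hln, rfl⟩ := hy
    rw [map_list_prod]
    apply List.prod_eq_zero
    have hex : ∃ p ∈ l, 1 ≤ p.1 := by
      by_contra hcon
      push Not at hcon
      have : (l.map Prod.fst).sum = 0 := by
        apply List.sum_eq_zero
        intro a ha
        rw [List.mem_map] at ha
        obtain ⟨p, hp, rfl⟩ := ha
        have := hcon p hp
        omega
      omega
    obtain ⟨p, hp, hp1⟩ := hex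
    exact List.mem_map.2 ⟨gamma p.1 p.2, List.mem_map.2 ⟨p, hp, rfl⟩,
      aug_gamma_eq_zero hK p.2 (hl p hp) p.1 hp1⟩
  | zero => exact map_zero _
  | add x y _ _ hx hy => rw [map_add, hx, hy, add_zero]
  | neg x _ hx => rw [map_neg, hx, neg_zero]

end Lam

end Groth.Agent.Lib.Helper16.Chern
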