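import Mathlib
import Groth.Prelude.Def_KGr
import Groth.Agent.Lib.Helper4LambdaFil
import Groth.Agent.Lib.Helper4LambdaUniv
import Groth.Agent.Lib.Helper16ChernA

/-!
# Helper16: structure of the extended Rees ring and of `KGr.GrZ`

Coefficients of elements of the Rees ring lie in the γ-filtration; classes `cls n x` in `GrZ`;
degree projections `rho n : GrZ →+ K ⧸ F^(n+1)`; `GrZ` is additively generated by classes;
isobaric property of Newton polynomials; `grK` in terms of `cls`.
-/

set_option autoImplicit false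
set_option linter.style.haveILetI false
set_option linter.unusedSectionVars false
universe v
open scoped TensorProduct
open LaurentPolynomial

namespace Groth.Agent.Lib.Helper16.Chern
open LambdaRing KGr Groth.Agent.Lib.Helper4 Groth.Agent.Lib.Helper4.LUniv

section General

theorem exists_nsmul_eq_zero_of_tmul_eq_zero {A : Type*} [AddCommGroup A] (a : A)
    (h : (1 : ℚ) ⊗ₜ[ℤ] a = 0) : ∃ M : ℕ, 1 ≤ M ∧ M • a = 0 := by
  have h' : TensorProduct.mk ℤ ℚ A 1 a = 0 := h
  obtain ⟨s, hs⟩ := (IsLocalizedModule.eq_zero_iff (nonZeroDivisors ℤ)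
    (TensorProduct.mk ℤ ℚ A 1)).mp h'
  have hs0 : (s : ℤ) ≠ 0 := nonZeroDivisors.coe_ne_zero s
  have hs' : (s : ℤ) • a = 0 := hs
  refine ⟨(s : ℤ).natAbs, Int.natAbs_pos.mpr hs0, ?_⟩
  rcases Int.natAbs_eq (s : ℤ) with h1 | h1
  · rw [← natCast_zsmul, ← h1, hs']
  · have : ((s : ℤ).natAbs : ℤ) = -(s : ℤ) := by omega
    rw [← natCast_zsmul, this, neg_smul, hs', neg_zero]

end General

variable {K : Type v} [CommRing K] [LambdaOps K] (P : PosStructure K)

theorem mul_mem_Fi (a b : ℤ) (x y : K) (hx : x ∈ gammaFiltration P (-a).toNat)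
    (hy : y ∈ gammaFiltration P (-b).toNat) : x * y ∈ gammaFiltration P (-(a + b)).toNat :=
  gammaFiltration_anti P (by omega) (mul_mem_gammaFiltration P _ _ x y hx hy)

/-- Laurent polynomials whose coefficient of `t^m` lies in `F^(-m)`. -/
def coefSub : Subring (LaurentPolynomial K) where
  carrier := {p | ∀ m : ℤ, p.coeff m ∈ gammaFiltration P (-m).toNat}
  mul_mem' := by
    intro p q hp hq m
    rw [AddMonoidAlgebra.coeff_mul_apply_left, Finsupp.sum]
    apply sum_mem
    intro h _
    have := mul_mem_Fi P h (-h + m) _ _ (hp h) (hq (-h + m))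
    rwa [show h + (-h + m) = m by ring] at this
  one_mem' := by
    intro m
    rw [← map_one (C : K →+* LaurentPolynomial K), C_apply]
    split_ifs with h
    · subst h
      simp [gammaFiltration_zero]
    · exact zero_mem _
  add_mem' := by
    intro p q hp hq m
    rw [AddMonoidAlgebra.coeff_add, Finsupp.add_apply]
    exact add_mem (hp m) (hq m)
  zero_mem' := by
    intro m
    rw [AddMonoidAlgebra.coeff_zero, Finsupp.zero_apply]
    exact zero_mem _
  neg_mem' := by
    intro p hp m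
    rw [AddMonoidAlgebra.coeff_neg, Finsupp.neg_apply]
    exact neg_mem (hp m)

theorem rees_le_coefSub : rees P ≤ coefSub P := by
  rw [rees, Subring.closure_le]
  rintro p (rfl | ⟨n, x, hx, rfl⟩)
  · intro m
    rw [T_apply]
    split_ifs with h
    · subst h
      simp [gammaFiltration_zero]
    · exact zero_mem _
  · intro m
    rw [← single_eq_C_mul_T, AddMonoidAlgebra.coeff_single, Finsupp.single_apply]
    split_ifs with h
    · subst h
      simpa using hx
    · exact zero_mem _

theorem coeff_mem_of_mem_rees {p : LaurentPolynomial K} (hp : p ∈ rees P) (m : ℤ) :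
    p.coeff m ∈ gammaFiltration P (-m).toNat := rees_le_coefSub P hp m

theorem mem_of_mem_rees (n : ℕ) (x : K) (h : C x * T (-(n : ℤ)) ∈ rees P) :
    x ∈ gammaFiltration P n := by
  have := coeff_mem_of_mem_rees P h (-(n : ℤ))
  rw [← single_eq_C_mul_T, AddMonoidAlgebra.coeff_single, Finsupp.single_eq_same] at this
  simpa using this

theorem rees_mem (n : ℕ) (x : K) (hx : x ∈ gammaFiltration P n) :
    C x * T (-(n : ℤ)) ∈ rees P :=
  Subring.subset_closure (Or.inr ⟨n, x, hx, rfl⟩)

/-- the class of `x t^{-n}` in `GrZ`. -/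
noncomputable def cls (n : ℤ) (x : K) (h : C x * T (-n) ∈ rees P) : GrZ P :=
  Ideal.Quotient.mk (Ideal.span {tGen P}) ⟨C x * T (-n), h⟩

theorem cls_congr {n m : ℤ} {x y : K} (hnm : n = m) (hxy : x = y) (hx : C x * T (-n) ∈ rees P)
    (hy : C y * T (-m) ∈ rees P) : cls P n x hx = cls P m y hy := by
  subst hnm; subst hxy; rfl

theorem rees_mem_add {n : ℤ} {x y : K} (hx : C x * T (-n) ∈ rees P)
    (hy : C y * T (-n) ∈ rees P) : C (x + y) * T (-n) ∈ rees P := by
  rw [map_add, add_mul]; exact add_mem hx hy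

theorem cls_add {n : ℤ} {x y : K} (hx : C x * T (-n) ∈ rees P) (hy : C y * T (-n) ∈ rees P) :
    cls P n (x + y) (rees_mem_add P hx hy) = cls P n x hx + cls P n y hy := by
  rw [cls, cls, cls, ← map_add]
  congr 1
  apply Subtype.ext
  simp [map_add, add_mul]

theorem rees_mem_zero (n : ℤ) : C (0 : K) * T (-n) ∈ rees P := by
  rw [map_zero, zero_mul]; exact zero_mem _

theorem cls_zero (n : ℤ) (h : C (0 : K) * T (-n) ∈ rees P) : cls P n 0 h = 0 := by
  rw [cls]
  have : (⟨C (0 : K) * T (-n), h⟩ : rees P) = 0 := Subtype.ext (by simp)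
  rw [this, map_zero]

theorem cls_eq_zero_of_eq_zero {n : ℤ} {x : K} (hx0 : x = 0) (h : C x * T (-n) ∈ rees P) :
    cls P n x h = 0 := by
  subst hx0; exact cls_zero P n h

theorem rees_mem_natCast_mul {n : ℤ} {x : K} (N : ℕ) (hx : C x * T (-n) ∈ rees P) :
    C ((N : K) * x) * T (-n) ∈ rees P := by
  rw [map_mul, map_natCast, mul_assoc, ← nsmul_eq_mul]; exact nsmul_mem hx N

theorem cls_natCast_mul {n : ℤ} {x : K} (N : ℕ) (hx : C x * T (-n) ∈ rees P)
    (h : C ((N : K) * x) * T (-n) ∈ rees P) :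
    cls P n ((N : K) * x) h = N • cls P n x hx := by
  rw [cls, cls, ← map_nsmul]
  congr 1
  apply Subtype.ext
  simp [map_mul, mul_assoc]

theorem rees_mem_intCast_mul {n : ℤ} {x : K} (N : ℤ) (hx : C x * T (-n) ∈ rees P) :
    C ((N : K) * x) * T (-n) ∈ rees P := by
  rw [map_mul, map_intCast, mul_assoc, ← zsmul_eq_mul]; exact zsmul_mem hx N

theorem cls_intCast_mul {n : ℤ} {x : K} (N : ℤ) (hx : C x * T (-n) ∈ rees P)
    (h : C ((N : K) * x) * T (-n) ∈ rees P) :
    cls P n ((N : K) * x) h = N • cls P n x hx := by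
  rw [cls, cls, ← map_zsmul]
  congr 1
  apply Subtype.ext
  simp [map_mul, mul_assoc]

theorem rees_mem_mul {n m : ℤ} {x y : K} (hx : C x * T (-n) ∈ rees P)
    (hy : C y * T (-m) ∈ rees P) : C (x * y) * T (-(n + m)) ∈ rees P := by
  have : C (x * y) * T (-(n + m)) = (C x * T (-n)) * (C y * T (-m)) := by
    rw [neg_add, T_add, map_mul]; ring
  rw [this]; exact mul_mem hx hy

theorem cls_mul {n m : ℤ} {x y : K} (hx : C x * T (-n) ∈ rees P) (hy : C y * T (-m) ∈ rees P) :
    cls P n x hx * cls P m y hy = cls P (n + m) (x * y) (rees_mem_mul P hx hy) := by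
  rw [cls, cls, cls, ← map_mul]
  congr 1
  apply Subtype.ext
  show (C x * T (-n)) * (C y * T (-m)) = C (x * y) * T (-(n + m))
  rw [neg_add, T_add, map_mul]; ring

theorem cls_eq_zero_of_succ {n : ℤ} {x : K} (h : C x * T (-n) ∈ rees P)
    (h' : C x * T (-(n + 1)) ∈ rees P) : cls P n x h = 0 := by
  rw [cls, Ideal.Quotient.eq_zero_iff_mem, Ideal.mem_span_singleton']
  refine ⟨⟨C x * T (-(n + 1)), h'⟩, Subtype.ext ?_⟩
  show C x * T (-(n + 1)) * T 1 = C x * T (-n)
  rw [mul_assoc, ← T_add]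
  congr 2
  ring

theorem rees_mem_one : C (1 : K) * T (-0) ∈ rees P := by
  simp

theorem cls_one (h : C (1 : K) * T (-0) ∈ rees P) : cls P 0 (1 : K) h = 1 := by
  rw [cls]
  have : (⟨C (1 : K) * T (-0), h⟩ : rees P) = 1 :=
    Subtype.ext (by simp)
  rw [this, map_one]

theorem rees_mem_intCast (z : ℤ) : C (z : K) * T (-0) ∈ rees P := by
  simp

theorem cls_intCast (z : ℤ) (h : C (z : K) * T (-0) ∈ rees P) : cls P 0 (z : K) h = (z : GrZ P) := by
  rw [cls]
  have : (⟨C (z : K) * T (-0), h⟩ : rees P) = (z : rees P) := Subtype.ext (by simp)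
  rw [this, map_intCast]

/-! ### `grK` in terms of classes -/

theorem grK_eq (n : ℤ) (x : K) (hx : C x * T (-n) ∈ rees P) :
    grK P n x = (1 : ℚ) ⊗ₜ[ℤ] cls P n x hx := by
  have hex : ∃ N : ℕ, 1 ≤ N ∧ C ((N : K) * x) * T (-n) ∈ rees P :=
    ⟨1, le_refl 1, by simpa using hx⟩
  rw [grK, dif_pos hex]
  have hN1 : 1 ≤ hex.choose := hex.choose_spec.1
  have hmem := hex.choose_spec.2
  have h1 : Ideal.Quotient.mk (Ideal.span {tGen P})
      ⟨C ((hex.choose : K) * x) * T (-n), hmem⟩ = cls P n ((hex.choose : K) * x) hmem := rfl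
  rw [h1, cls_natCast_mul P hex.choose hx hmem, ← natCast_zsmul, TensorProduct.tmul_smul,
    TensorProduct.smul_tmul']
  congr 1
  have : ((hex.choose : ℕ) : ℚ) ≠ 0 := by
    have : 0 < hex.choose := hN1
    positivity
  rw [zsmul_eq_mul]
  push_cast
  field_simp

/-! ### Isobaric property of the Newton polynomials -/

theorem evZ_nu_laurent (f : ℕ → K) (k : ℕ) :
    evZ (fun i : ℕ => (C (f i) * T (-((i : ℤ) + 1)) : LaurentPolynomial K)) (nu k) =
      C (evZ f (nu k)) * T (-(k : ℤ)) := by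
  induction k using Nat.strong_induction_on with
  | _ k ih =>
    rcases k with _ | n
    · simp [evZ_nu_zero]
    · rw [evZ_nu_succ, evZ_nu_succ]
      have hterm : ∀ j ∈ Finset.range n,
          ((-1 : LaurentPolynomial K) ^ j * evZ
            (fun i : ℕ => (C (f i) * T (-((i : ℤ) + 1)) : LaurentPolynomial K)) (nu (j + 1))) *
            (C (f (n - 1 - j)) * T (-(((n - 1 - j : ℕ) : ℤ) + 1))) =
          (((-1 : LaurentPolynomial K) ^ j * C (evZ f (nu (j + 1)))) *
            C (f (n - 1 - j))) * T (-((n : ℤ) + 1)) := by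
        intro j hj
        rw [Finset.mem_range] at hj
        rw [ih (j + 1) (by omega)]
        have e1 : (((n - 1 - j : ℕ) : ℤ) + 1) = (n : ℤ) - j := by omega
        have e2 : (T (-((n : ℤ) + 1)) : LaurentPolynomial K) =
            T (-(((j + 1 : ℕ) : ℤ))) * T (-((n : ℤ) - j)) := by
          rw [← T_add]; congr 1; push_cast; ring
        rw [e1, e2]
        ring
      rw [Finset.sum_congr rfl hterm, ← Finset.sum_mul]
      simp only [map_mul, map_sub, map_sum, map_pow, map_neg, map_one, map_add, map_natCast]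
      push_cast
      try ring

theorem evZ_cls_nu (f : ℕ → K) (hf : ∀ i : ℕ, C (f i) * T (-(((i + 1 : ℕ)) : ℤ)) ∈ rees P)
    (k : ℕ) :
    ∃ h : C (evZ f (nu k)) * T (-(k : ℤ)) ∈ rees P,
      evZ (fun i : ℕ => cls P ((i + 1 : ℕ) : ℤ) (f i) (hf i)) (nu k) =
        cls P k (evZ f (nu k)) h := by
  set a' : ℕ → rees P := fun i => ⟨C (f i) * T (-(((i + 1 : ℕ)) : ℤ)), hf i⟩ with ha'
  set r : rees P := evZ a' (nu k) with hr
  have h1 : (r : LaurentPolynomial K) = C (evZ f (nu k)) * T (-(k : ℤ)) := by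
    have := map_evZ (rees P).subtype a' (nu k)
    rw [Subring.coe_subtype] at this
    rw [hr, this, ← evZ_nu_laurent]
    congr 1
  have hmem : C (evZ f (nu k)) * T (-(k : ℤ)) ∈ rees P := by
    rw [← h1]; exact r.2
  refine ⟨hmem, ?_⟩
  have h2 := map_evZ (Ideal.Quotient.mk (Ideal.span {tGen P})) a' (nu k)
  rw [cls]
  have h3 : (⟨C (evZ f (nu k)) * T (-(k : ℤ)), hmem⟩ : rees P) = r :=
    Subtype.ext h1.symm
  rw [h3, hr, h2]
  rfl

/-! ### Degree projections -/

/-- the coefficient of `t^{-n}`, modulo `F^(n+1)`. -/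
noncomputable def coeffHom (n : ℕ) : rees P →+ K ⧸ gammaFiltration P (n + 1) :=
  (QuotientAddGroup.mk' (gammaFiltration P (n + 1))).comp
    (AddMonoidHom.mk' (fun r : rees P => (r : LaurentPolynomial K).coeff (-(n : ℤ)))
      (by intro a b; simp [AddMonoidAlgebra.coeff_add]))

theorem coeffHom_apply (n : ℕ) (r : rees P) :
    coeffHom P n r = QuotientAddGroup.mk ((r : LaurentPolynomial K).coeff (-(n : ℤ))) := rfl

theorem coeffHom_mul_tGen (n : ℕ) (q : rees P) : coeffHom P n (q * tGen P) = 0 := by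
  rw [coeffHom_apply, QuotientAddGroup.eq_zero_iff]
  have hT : (T 1 : LaurentPolynomial K) = AddMonoidAlgebra.single 1 1 := by
    rw [single_eq_C_mul_T, map_one, one_mul]
  show ((q : LaurentPolynomial K) * T 1).coeff (-(n : ℤ)) ∈ _
  rw [hT, AddMonoidAlgebra.coeff_mul_single_apply, mul_one]
  have := coeff_mem_of_mem_rees P q.2 (-(n : ℤ) + -1)
  have e : (-(-(n : ℤ) + -1)).toNat = n + 1 := by omega
  rwa [e] at this

/-- the degree-`n` projection `GrZ → F^n/F^(n+1) ⊆ K/F^(n+1)`. -/
noncomputable def rho (n : ℕ) : GrZ P →+ K ⧸ gammaFiltration P (n + 1) :=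
  (Ideal.Quotient.mk (Ideal.span {tGen P})).toAddMonoidHom.liftOfRightInverse
    (Function.surjInv Ideal.Quotient.mk_surjective) (Function.rightInverse_surjInv _)
    ⟨coeffHom P n, by
      intro r hr
      rw [AddMonoidHom.mem_ker] at hr ⊢
      have hr' : Ideal.Quotient.mk (Ideal.span {tGen P}) r = 0 := hr
      have : r ∈ Ideal.span {tGen P} := Ideal.Quotient.eq_zero_iff_mem.mp hr'
      obtain ⟨q, rfl⟩ := Ideal.mem_span_singleton'.mp this
      exact coeffHom_mul_tGen P n q⟩

theorem rho_mk (n : ℕ) (r : rees P) :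
    rho P n (Ideal.Quotient.mk (Ideal.span {tGen P}) r) = coeffHom P n r :=
  AddMonoidHom.liftOfRightInverse_comp_apply _ _ _ _ r

theorem rho_cls (n : ℕ) (m : ℤ) (x : K) (hx : C x * T (-m) ∈ rees P) :
    rho P n (cls P m x hx) = if m = n then QuotientAddGroup.mk x else 0 := by
  rw [cls, rho_mk, coeffHom_apply]
  show QuotientAddGroup.mk ((C x * T (-m) : LaurentPolynomial K).coeff (-(n : ℤ))) = _
  rw [← single_eq_C_mul_T, AddMonoidAlgebra.coeff_single, Finsupp.single_apply]
  by_cases h : m = n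
  · rw [if_pos h, if_pos (by rw [h])]
  · rw [if_neg h, if_neg (by intro h'; exact h (neg_injective h'))]
    rfl

/-! ### `GrZ` is additively generated by classes -/

/-- the additive subgroup of `GrZ` generated by the classes of `x t^{-n}`, `x ∈ F^n`. -/
noncomputable def clsGroup : AddSubgroup (GrZ P) :=
  AddSubgroup.closure {z | ∃ (n : ℕ) (x : K) (hx : x ∈ gammaFiltration P n),
    z = cls P n x (rees_mem P n x hx)}

theorem cls_mem_clsGroup (n : ℕ) (x : K) (hx : x ∈ gammaFiltration P n) :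
    cls P n x (rees_mem P n x hx) ∈ clsGroup P :=
  AddSubgroup.subset_closure ⟨n, x, hx, rfl⟩

theorem mul_mem_clsGroup {a b : GrZ P} (ha : a ∈ clsGroup P) (hb : b ∈ clsGroup P) :
    a * b ∈ clsGroup P := by
  induction ha using AddSubgroup.closure_induction with
  | mem a ha =>
    obtain ⟨n, x, hx, rfl⟩ := ha
    induction hb using AddSubgroup.closure_induction with
    | mem b hb =>
      obtain ⟨m, y, hy, rfl⟩ := hb
      rw [cls_mul]
      have hxy := mul_mem_gammaFiltration P n m x y hx hy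
      have := cls_mem_clsGroup P (n + m) (x * y) hxy
      convert this using 2
      push_cast
      rfl
    | zero => rw [mul_zero]; exact zero_mem _
    | add b c _ _ hb hc => rw [mul_add]; exact add_mem hb hc
    | neg b _ hb => rw [mul_neg]; exact neg_mem hb
  | zero => rw [zero_mul]; exact zero_mem _
  | add a c _ _ ha hc => rw [add_mul]; exact add_mem ha hc
  | neg a _ ha => rw [neg_mul]; exact neg_mem ha

theorem mk_mem_clsGroup (r : rees P) :
    Ideal.Quotient.mk (Ideal.span {tGen P}) r ∈ clsGroup P := by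
  obtain ⟨p, hp⟩ := r
  induction hp using Subring.closure_induction with
  | mem p hp =>
    rcases hp with rfl | ⟨n, x, hx, rfl⟩
    · have : Ideal.Quotient.mk (Ideal.span {tGen P}) ⟨T 1, _⟩ = 0 :=
        Ideal.Quotient.eq_zero_iff_mem.mpr (Ideal.subset_span rfl)
      rw [this]; exact zero_mem _
    · exact cls_mem_clsGroup P n x hx
  | zero => exact zero_mem _
  | one =>
    have h1 : (1 : K) ∈ gammaFiltration P 0 := by rw [gammaFiltration_zero]; trivial
    have := cls_mem_clsGroup P 0 1 h1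
    convert this using 1
    rw [cls]
    congr 1
    apply Subtype.ext
    simp
  | add p q hp hq ihp ihq =>
    have : Ideal.Quotient.mk (Ideal.span {tGen P}) ⟨p + q, add_mem hp hq⟩ =
        Ideal.Quotient.mk (Ideal.span {tGen P}) ⟨p, hp⟩ +
        Ideal.Quotient.mk (Ideal.span {tGen P}) ⟨q, hq⟩ := by
      rw [← map_add]; rfl
    rw [this]; exact add_mem ihp ihq
  | neg p hp ihp =>
    have : Ideal.Quotient.mk (Ideal.span {tGen P}) ⟨-p, neg_mem hp⟩ =
        -Ideal.Quotient.mk (Ideal.span {tGen P}) ⟨p, hp⟩ := by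
      rw [← map_neg]; rfl
    rw [this]; exact neg_mem ihp
  | mul p q hp hq ihp ihq =>
    have : Ideal.Quotient.mk (Ideal.span {tGen P}) ⟨p * q, mul_mem hp hq⟩ =
        Ideal.Quotient.mk (Ideal.span {tGen P}) ⟨p, hp⟩ *
        Ideal.Quotient.mk (Ideal.span {tGen P}) ⟨q, hq⟩ := by
      rw [← map_mul]; rfl
    rw [this]; exact mul_mem_clsGroup P ihp ihq

theorem mem_clsGroup (z : GrZ P) : z ∈ clsGroup P := by
  obtain ⟨r, rfl⟩ := Ideal.Quotient.mk_surjective z
  exact mk_mem_clsGroup P r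

end Groth.Agent.Lib.Helper16.Chern
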