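import Groth.Prelude.Def_LambdaSp
import Mathlib
import Groth.Agent.Lib.Helper4LambdaUniv
import Groth.Agent.S8686

/-!
# Helper4: composition of Adams operations in special λ-rings.
-/
set_option autoImplicit false
universe u
open MvPolynomial Finset LambdaRing

namespace Groth.Agent.Lib.Helper4.LUniv

open Groth.Agent.Lib.Helper4.MulPoly Groth.Agent.Lib.Helper4.SymPoly

section CompIdentity

/-- the polynomial `R_{m,k} = ν_k(Q_{m,1}, …, Q_{m,k})` expressing `ψ^k(λ^m x)` -/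
noncomputable def Rpoly (Qt : ℕ → ℕ → MvPolynomial ℕ ℤ) (m k : ℕ) : MvPolynomial ℕ ℤ :=
  aeval (fun j => Qt m (j + 1)) (nu k)

theorem PsiInf_Rpoly (Qt : ℕ → ℕ → MvPolynomial ℕ ℤ)
    (hQt : ∀ i j, ∃ Q : MvPolynomial (Fin (i * j)) ℤ, IsCompPoly i j Q ∧ Qt i j = til1 (i * j) Q)
    (m k N : ℕ) (hN : m * (k + 1) ≤ N) :
    PsiInf N (Rpoly Qt m (k + 1)) =
      ((Finset.univ : Finset (Fin N)).val.map
        fun a => (X a : MvPolynomial (Fin N) ℤ) ^ (k + 1)).esymm m := by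
  rw [Rpoly, ← AlgHom.comp_apply, comp_aeval]
  set M : Multiset (MvPolynomial (Fin N) ℤ) :=
    (((Finset.univ : Finset (Fin N)).powersetCard m).val.map
      fun s => (∏ a ∈ s, X a : MvPolynomial (Fin N) ℤ)) with hM
  have h1 : aeval (fun j => PsiInf N (Qt m (j + 1))) (nu (k + 1)) =
      aeval (fun j => M.esymm (j + 1)) (nu (k + 1)) := by
    apply aeval_nu_congr
    intro j hj
    obtain ⟨Q, hQ, hQt'⟩ := hQt m (j + 1)
    rw [hQt', PsiInf_til1_of_isCompPoly _ hQ]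
    · rfl
    · calc m * (j + 1) ≤ m * (k + 1) := Nat.mul_le_mul_left m (by omega)
        _ ≤ N := hN
  change aeval (fun j => PsiInf N (Qt m (j + 1))) (nu (k + 1)) = _
  rw [h1, ← multiset_psum_eq_aeval_nu, hM, Multiset.map_map, Finset.esymm_map_val]
  change ∑ s ∈ powersetCard m univ, _ = _
  apply Finset.sum_congr rfl
  intro s _
  simp only [Function.comp_apply, Finset.prod_pow]

/-- **(∗∗)**: the universal identity behind `ψ^k ∘ ψ^{k'} = ψ^{kk'}`. -/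
theorem nu_compPoly (Qt : ℕ → ℕ → MvPolynomial ℕ ℤ)
    (hQt : ∀ i j, ∃ Q : MvPolynomial (Fin (i * j)) ℤ, IsCompPoly i j Q ∧ Qt i j = til1 (i * j) Q)
    (k k' : ℕ) :
    aeval (fun i => Rpoly Qt (i + 1) (k + 1)) (nu (k' + 1)) = nu ((k + 1) * (k' + 1)) := by
  apply VP1 _ _ ((k' + 1) * (k + 1))
  intro N hN
  obtain ⟨c, hc⟩ : ∃ c, (k + 1) * (k' + 1) = c + 1 := ⟨(k + 1) * (k' + 1) - 1, by
    have : 0 < (k + 1) * (k' + 1) := Nat.mul_pos (Nat.succ_pos _) (Nat.succ_pos _)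
    omega⟩
  rw [hc, PsiInf_nu, ← hc, ← AlgHom.comp_apply, comp_aeval]
  set M' : Multiset (MvPolynomial (Fin N) ℤ) :=
    (Finset.univ : Finset (Fin N)).val.map fun a => (X a : MvPolynomial (Fin N) ℤ) ^ (k + 1)
    with hM'
  have h1 : aeval (fun i => PsiInf N (Rpoly Qt (i + 1) (k + 1))) (nu (k' + 1)) =
      aeval (fun i => M'.esymm (i + 1)) (nu (k' + 1)) := by
    apply aeval_nu_congr
    intro i hi
    rw [PsiInf_Rpoly Qt hQt (i + 1) k N]
    calc (i + 1) * (k + 1) ≤ (k' + 1) * (k + 1) := Nat.mul_le_mul_right _ (by omega)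
      _ ≤ N := hN
  change aeval (fun i => PsiInf N (Rpoly Qt (i + 1) (k + 1))) (nu (k' + 1)) = _
  rw [h1, ← multiset_psum_eq_aeval_nu, hM', Multiset.map_map, psum]
  change ∑ a : Fin N, _ = _
  apply Finset.sum_congr rfl
  intro a _
  simp only [Function.comp_apply, ← pow_mul]

end CompIdentity

section Special

variable {K : Type u} [CommRing K] [LambdaOps K]

/-- a choice of universal polynomials `Q_{i,j}` -/
noncomputable def Qt (hQ : ∀ i j : ℕ, ∃ Q : MvPolynomial (Fin (i * j)) ℤ, IsCompPoly i j Q)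
    (i j : ℕ) : MvPolynomial ℕ ℤ := til1 (i * j) (hQ i j).choose

theorem Qt_spec (hQ : ∀ i j : ℕ, ∃ Q : MvPolynomial (Fin (i * j)) ℤ, IsCompPoly i j Q) (i j : ℕ) :
    ∃ Q : MvPolynomial (Fin (i * j)) ℤ, IsCompPoly i j Q ∧ Qt hQ i j = til1 (i * j) Q :=
  ⟨(hQ i j).choose, (hQ i j).choose_spec, rfl⟩

theorem lam_lam_eq_ev1 (hK : IsSpecial K)
    (hQ : ∀ i j : ℕ, ∃ Q : MvPolynomial (Fin (i * j)) ℤ, IsCompPoly i j Q) (i j : ℕ) (x : K) :
    LambdaOps.lam j (LambdaOps.lam i x) = ev1 x (Qt hQ i j) := by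
  rw [Qt, ev1_til1]
  exact hK.lam_lam i j _ (hQ i j).choose_spec x

/-- `ψ^k(λ^m x)` as a polynomial in the `λ^i x`. -/
theorem adamsOp_lam (hK : IsSpecial K)
    (hQ : ∀ i j : ℕ, ∃ Q : MvPolynomial (Fin (i * j)) ℤ, IsCompPoly i j Q) (m k : ℕ) (x : K) :
    adamsOp (k + 1) (LambdaOps.lam m x) = ev1 x (Rpoly (Qt hQ) m (k + 1)) := by
  rw [adamsOp_eq_aeval_nu, Rpoly, ← AlgHom.comp_apply, comp_aeval]
  congr 2
  funext j
  exact lam_lam_eq_ev1 hK hQ m (j + 1) x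

/-- the Adams operation as a ring homomorphism of a special λ-ring -/
noncomputable def adamsHom (hK : IsSpecial K)
    (hP : ∀ n : ℕ, ∃ P : MvPolynomial (Fin n ⊕ Fin n) ℤ, IsMulPoly n P) (k : ℕ) : K →+* K where
  toFun := adamsOp (k + 1)
  map_one' := Groth.Agent.S8686.result K hK.lam_one_eq_zero (k + 1) (Nat.succ_pos _)
  map_mul' := adamsOp_mul hK hP k
  map_zero' := adamsOp_zero_arg _
  map_add' := adamsOp_add _

theorem adamsHom_apply (hK : IsSpecial K)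
    (hP : ∀ n : ℕ, ∃ P : MvPolynomial (Fin n ⊕ Fin n) ℤ, IsMulPoly n P) (k : ℕ) (x : K) :
    adamsHom hK hP k x = adamsOp (k + 1) x := rfl

/-- `ψ^k ∘ ψ^{k'} = ψ^{kk'}` in a special λ-ring. -/
theorem adamsOp_adamsOp (hK : IsSpecial K)
    (hP : ∀ n : ℕ, ∃ P : MvPolynomial (Fin n ⊕ Fin n) ℤ, IsMulPoly n P)
    (hQ : ∀ i j : ℕ, ∃ Q : MvPolynomial (Fin (i * j)) ℤ, IsCompPoly i j Q) (k k' : ℕ) (x : K) :
    adamsOp (k + 1) (adamsOp (k' + 1) x) = adamsOp ((k + 1) * (k' + 1)) x := by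
  obtain ⟨c, hc⟩ : ∃ c, (k + 1) * (k' + 1) = c + 1 := ⟨(k + 1) * (k' + 1) - 1, by
    have : 0 < (k + 1) * (k' + 1) := Nat.mul_pos (Nat.succ_pos _) (Nat.succ_pos _)
    omega⟩
  rw [hc, adamsOp_eq_aeval_nu x c, ← hc, ← nu_compPoly (Qt hQ) (Qt_spec hQ) k k',
    adamsOp_eq_aeval_nu x k', ← adamsHom_apply hK hP k]
  change ((adamsHom hK hP k).toIntAlgHom) _ = ev1 x _
  rw [← AlgHom.comp_apply, comp_aeval, ev1, ← AlgHom.comp_apply, comp_aeval]
  congr 2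
  funext i
  exact adamsOp_lam hK hQ (i + 1) k x

end Special

end Groth.Agent.Lib.Helper4.LUniv
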