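import Groth.Prelude.Def_LambdaSp
import Mathlib
import Groth.Agent.Lib.Helper4LambdaUniv2

/-!
# Helper4: a pre-λ-ring over ℚ whose Adams operations are multiplicative ring endomorphisms
composing like `ψ^k ψ^{k'} = ψ^{kk'}` is special.
-/
set_option autoImplicit false
universe u
open MvPolynomial Finset LambdaRing

namespace Groth.Agent.Lib.Helper4.LUniv

open Groth.Agent.Lib.Helper4.MulPoly Groth.Agent.Lib.Helper4.SymPoly

section NRlemmas

variable {R S : Type*} [CommRing R] [CommRing S]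

theorem NR_map (φ : R →+* S) {e p : ℕ → R} (h : NR e p) : NR (fun n => φ (e n)) (fun n => φ (p n)) := by
  intro n
  have := congrArg φ (h n)
  simpa only [map_mul, map_add, map_natCast, map_one, map_sum, map_pow, map_neg] using this

theorem NR_congr_right {e p p' : ℕ → R} (h : NR e p) (hp : ∀ k, p (k + 1) = p' (k + 1)) :
    NR e p' := by
  intro n
  rw [h n]
  apply Finset.sum_congr rfl
  intro k _
  rw [hp k]

/-- multiplication by positive integers is injective -/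
def NatCancel (R : Type*) [CommRing R] : Prop :=
  ∀ n : ℕ, Function.Injective (fun a : R => a * ((n : R) + 1))

theorem natCancel_of_algebraRat [Algebra ℚ R] : NatCancel R := fun n =>
  (Groth.Agent.Lib.Helper4.Newton.isUnit_natCast_succ n).mul_left_injective

theorem natCancel_of_isAddTorsionFree [IsAddTorsionFree R] : NatCancel R := by
  intro n a b hab
  have h : (n + 1) • a = (n + 1) • b := by
    simp only [nsmul_eq_mul, Nat.cast_add, Nat.cast_one]
    rw [mul_comm, mul_comm _ b]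
    exact hab
  exact nsmul_right_injective (Nat.succ_ne_zero n) h

/-- when positive integers can be cancelled, `e` is determined by `p` -/
theorem NR_unique (hR : NatCancel R) {e e' p : ℕ → R} (h0 : e 0 = 1) (h0' : e' 0 = 1) (h : NR e p)
    (h' : NR e' p) (n : ℕ) : e n = e' n := by
  induction n using Nat.strong_induction_on with
  | _ n ih =>
    rcases n with _ | n
    · rw [h0, h0']
    · have h1 := h n
      have h2 := h' n
      have h3 : ∑ k ∈ range (n + 1), ((-1 : R) ^ k * p (k + 1)) * e (n - k) =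
          ∑ k ∈ range (n + 1), ((-1 : R) ^ k * p (k + 1)) * e' (n - k) := by
        apply Finset.sum_congr rfl
        intro k _
        rw [ih (n - k) (by omega)]
      rw [h3, ← h2] at h1
      exact hR n h1

end NRlemmas

section Uniq

theorem isMulPoly_unique {n : ℕ} {P P' : MvPolynomial (Fin n ⊕ Fin n) ℤ} (hP : IsMulPoly n P)
    (hP' : IsMulPoly n P') : P = P' :=
  Phi_injective n n le_rfl (hP.1.trans hP'.1.symm)

theorem isCompPoly_unique {i j : ℕ} {Q Q' : MvPolynomial (Fin (i * j)) ℤ} (hQ : IsCompPoly i j Q)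
    (hQ' : IsCompPoly i j Q') : Q = Q' :=
  EE_injective (i * j) (i * j) ℤ le_rfl (hQ.1.trans hQ'.1.symm)

theorem multiset_esymm_zero {R : Type*} [CommRing R] (m : Multiset R) : m.esymm 0 = 1 := by
  simp [Multiset.esymm, Multiset.powersetCard_zero_left]

theorem Pt_zero (Pt : ℕ → MvPolynomial (ℕ ⊕ ℕ) ℤ)
    (hPt : ∀ m, ∃ P : MvPolynomial (Fin m ⊕ Fin m) ℤ, IsMulPoly m P ∧ Pt m = til2 m P) :
    Pt 0 = 1 := by
  apply VP2 _ _ 0
  intro N _
  obtain ⟨P, hP, hPt'⟩ := hPt 0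
  rw [hPt', PhiInf_til2_of_isMulPoly (Nat.zero_le _) hP, map_one, mulGen]
  exact multiset_esymm_zero _

theorem Qt_zero_right (Qt : ℕ → ℕ → MvPolynomial ℕ ℤ)
    (hQt : ∀ i j, ∃ Q : MvPolynomial (Fin (i * j)) ℤ, IsCompPoly i j Q ∧ Qt i j = til1 (i * j) Q)
    (i : ℕ) : Qt i 0 = 1 := by
  apply VP1 _ _ 0
  intro N _
  obtain ⟨Q, hQ, hQt'⟩ := hQt i 0
  rw [hQt', PsiInf_til1_of_isCompPoly (by simp) hQ, map_one, compGen]
  exact multiset_esymm_zero _

theorem Rpoly_zero_left (Qt : ℕ → ℕ → MvPolynomial ℕ ℤ)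
    (hQt : ∀ i j, ∃ Q : MvPolynomial (Fin (i * j)) ℤ, IsCompPoly i j Q ∧ Qt i j = til1 (i * j) Q)
    (k : ℕ) : Rpoly Qt 0 (k + 1) = 1 := by
  apply VP1 _ _ 0
  intro N _
  rw [PsiInf_Rpoly Qt hQt 0 k N (by simp), map_one]
  exact multiset_esymm_zero _

/-- `(∗∗)` in Newton-relation form. -/
theorem NR_Rpoly (Qt : ℕ → ℕ → MvPolynomial ℕ ℤ)
    (hQt : ∀ i j, ∃ Q : MvPolynomial (Fin (i * j)) ℤ, IsCompPoly i j Q ∧ Qt i j = til1 (i * j) Q)
    (k : ℕ) : NR (fun m => Rpoly Qt m (k + 1)) (fun m => nu ((k + 1) * m)) := by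
  have h := NR_nu (fun m => Rpoly Qt m (k + 1)) (Rpoly_zero_left Qt hQt k)
  apply NR_congr_right h
  intro k'
  exact nu_compPoly Qt hQt k k'

end Uniq

section Converse

variable {K : Type u} [CommRing K] [LambdaOps K] (hR : NatCancel K)

include hR in
theorem lam_one_eq_zero_of_adamsOp (h1 : ∀ k : ℕ, 1 ≤ k → adamsOp k (1 : K) = 1) (n : ℕ)
    (hn : 2 ≤ n) : LambdaOps.lam n (1 : K) = 0 := by
  have hNR := NR_multiset ({1} : Multiset K)
  have hNR' : NR (fun j => ({1} : Multiset K).esymm j) (fun k => adamsOp k (1 : K)) := by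
    apply NR_congr_right hNR
    intro k
    rw [h1 (k + 1) (Nat.succ_pos _)]
    simp
  have := NR_unique hR (LambdaOps.lam_zero (1 : K)) (multiset_esymm_zero _) (NR_lam_adamsOp (1 : K))
    hNR' n
  rw [this]
  obtain ⟨m, rfl⟩ : ∃ m, n = m + 2 := ⟨n - 2, by omega⟩
  rw [Multiset.esymm, Multiset.powersetCard_eq_empty _ (by simp)]
  simp

variable (h1 : ∀ k : ℕ, 1 ≤ k → adamsOp k (1 : K) = 1)
  (hmul : ∀ k : ℕ, 1 ≤ k → ∀ x y : K, adamsOp k (x * y) = adamsOp k x * adamsOp k y)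

/-- the Adams operation as a ring homomorphism, from the hypotheses -/
noncomputable def adamsHom' (k : ℕ) : K →+* K where
  toFun := adamsOp (k + 1)
  map_one' := h1 (k + 1) (Nat.succ_pos _)
  map_mul' := hmul (k + 1) (Nat.succ_pos _)
  map_zero' := adamsOp_zero_arg _
  map_add' := adamsOp_add _

include hR hmul in
theorem lam_mul_of_adamsOp (n : ℕ) (P : MvPolynomial (Fin n ⊕ Fin n) ℤ) (hP : IsMulPoly n P)
    (x y : K) : LambdaOps.lam n (x * y) =
      aeval (Sum.elim (fun k : Fin n => LambdaOps.lam ((k : ℕ) + 1) x)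
        (fun k : Fin n => LambdaOps.lam ((k : ℕ) + 1) y)) P := by
  have hPex : ∀ n : ℕ, ∃ P : MvPolynomial (Fin n ⊕ Fin n) ℤ, IsMulPoly n P := exists_isMulPoly
  have hNR := NR_nu (fun m => ev2 x y (Pt hPex m)) (by
    rw [Pt_zero (Pt hPex) (Pt_spec hPex), map_one])
  have hNR' : NR (fun m => ev2 x y (Pt hPex m)) (fun k => adamsOp k (x * y)) := by
    apply NR_congr_right hNR
    intro k
    rw [← comp_aeval_apply, nu_mulPoly (Pt hPex) (Pt_spec hPex) k, map_mul, ev2_rename_inl,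
      ev2_rename_inr, hmul (k + 1) (Nat.succ_pos _), adamsOp_eq_aeval_nu x, adamsOp_eq_aeval_nu y]
    rfl
  have := NR_unique hR (LambdaOps.lam_zero (x * y)) (by
    rw [Pt_zero (Pt hPex) (Pt_spec hPex), map_one]) (NR_lam_adamsOp (x * y)) hNR' n
  rw [this, Pt, ev2_til2, isMulPoly_unique (hPex n).choose_spec hP]

include hR h1 hmul in
theorem adamsOp_lam_of_adamsOp
    (hcomp : ∀ k k' : ℕ, 1 ≤ k → 1 ≤ k' → ∀ x : K,
      adamsOp k (adamsOp k' x) = adamsOp (k * k') x)
    (Qt : ℕ → ℕ → MvPolynomial ℕ ℤ)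
    (hQt : ∀ i j, ∃ Q : MvPolynomial (Fin (i * j)) ℤ, IsCompPoly i j Q ∧ Qt i j = til1 (i * j) Q)
    (k m : ℕ) (x : K) : adamsOp (k + 1) (LambdaOps.lam m x) = ev1 x (Rpoly Qt m (k + 1)) := by
  -- both sequences satisfy the Newton relation with `p_m = ψ^{(k+1)m} x`
  have hA : NR (fun m => adamsOp (k + 1) (LambdaOps.lam m x))
      (fun m => adamsOp ((k + 1) * m) x) := by
    have := NR_map (adamsHom' h1 hmul k) (NR_lam_adamsOp x)
    apply NR_congr_right this
    intro k'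
    exact hcomp (k + 1) (k' + 1) (Nat.succ_pos _) (Nat.succ_pos _) x
  have hB : NR (fun m => ev1 x (Rpoly Qt m (k + 1))) (fun m => adamsOp ((k + 1) * m) x) := by
    have := NR_map (ev1 x : MvPolynomial ℕ ℤ →+* K) (NR_Rpoly Qt hQt k)
    apply NR_congr_right this
    intro k'
    obtain ⟨c, hc⟩ : ∃ c, (k + 1) * (k' + 1) = c + 1 := ⟨(k + 1) * (k' + 1) - 1, by
      have : 0 < (k + 1) * (k' + 1) := Nat.mul_pos (Nat.succ_pos _) (Nat.succ_pos _)
      omega⟩
    rw [hc, adamsOp_eq_aeval_nu x c]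
    rfl
  refine NR_unique hR ?_ ?_ hA hB m
  · rw [LambdaOps.lam_zero, h1 (k + 1) (Nat.succ_pos _)]
  · rw [Rpoly_zero_left Qt hQt k, map_one]

include hR h1 hmul in
theorem lam_lam_of_adamsOp
    (hcomp : ∀ k k' : ℕ, 1 ≤ k → 1 ≤ k' → ∀ x : K,
      adamsOp k (adamsOp k' x) = adamsOp (k * k') x)
    (i j : ℕ) (Q : MvPolynomial (Fin (i * j)) ℤ) (hQ : IsCompPoly i j Q) (x : K) :
    LambdaOps.lam j (LambdaOps.lam i x) =
      aeval (fun k : Fin (i * j) => LambdaOps.lam ((k : ℕ) + 1) x) Q := by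
  have hQex : ∀ i j : ℕ, ∃ Q : MvPolynomial (Fin (i * j)) ℤ, IsCompPoly i j Q := exists_isCompPoly
  have h0 : ev1 x (Qt hQex i 0) = 1 := by
    rw [Qt_zero_right (Qt hQex) (Qt_spec hQex) i, map_one]
  have hNR := NR_nu (fun m => ev1 x (Qt hQex i m)) h0
  have hNR' : NR (fun m => ev1 x (Qt hQex i m)) (fun k => adamsOp k (LambdaOps.lam i x)) := by
    apply NR_congr_right hNR
    intro k
    rw [adamsOp_lam_of_adamsOp hR h1 hmul hcomp (Qt hQex) (Qt_spec hQex) k i x, Rpoly,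
      ← comp_aeval_apply]
  have := NR_unique hR (LambdaOps.lam_zero (LambdaOps.lam i x)) h0
    (NR_lam_adamsOp (LambdaOps.lam i x)) hNR' j
  rw [this, Qt, ev1_til1, isCompPoly_unique (hQex i j).choose_spec hQ]

include hR h1 hmul in
theorem isSpecial_of_adamsOp'
    (hcomp : ∀ k k' : ℕ, 1 ≤ k → 1 ≤ k' → ∀ x : K,
      adamsOp k (adamsOp k' x) = adamsOp (k * k') x) : IsSpecial K where
  lam_one_eq_zero := lam_one_eq_zero_of_adamsOp hR h1
  lam_mul := lam_mul_of_adamsOp hR hmul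
  lam_lam := lam_lam_of_adamsOp hR h1 hmul hcomp

omit hR in
include h1 hmul in
theorem isSpecial_of_adamsOp [Algebra ℚ K]
    (hcomp : ∀ k k' : ℕ, 1 ≤ k → 1 ≤ k' → ∀ x : K,
      adamsOp k (adamsOp k' x) = adamsOp (k * k') x) : IsSpecial K :=
  isSpecial_of_adamsOp' natCancel_of_algebraRat h1 hmul hcomp

end Converse

end Groth.Agent.Lib.Helper4.LUniv
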