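import Mathlib
import Groth.Prelude.Def_KGr
import Groth.Agent.Lib.Helper16ChernA
import Groth.Agent.Lib.Helper16ChernB
import Groth.Agent.Lib.Helper4LambdaUniv3

/-!
# Helper16: the Chern character `KGr.chK` in terms of Adams operations

`chK P d x = ε(x) + Σ_{k=1}^d (1/k!) ⊗ [p_k(x - ε x)]_k` where `p_k = Σ_j (-1)^(k-j) C(k,j) ψ^j`.
-/

set_option autoImplicit false
set_option linter.style.haveILetI false
set_option linter.unusedSectionVars false
set_option synthInstance.maxHeartbeats 400000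
universe v
open scoped TensorProduct
open LaurentPolynomial

namespace Groth.Agent.Lib.Helper16.Chern
open LambdaRing KGr Finset Groth.Agent.Lib.Helper4 Groth.Agent.Lib.Helper4.LUniv

section Poly
open MvPolynomial

theorem NR_esymm_psum_rat (σ : Type*) [Fintype σ] :
    NR (fun j => esymm σ ℚ j) (fun k => psum σ ℚ k) := by
  have h := NR_map (MvPolynomial.map (Int.castRingHom ℚ)) (NR_esymm_psum σ)
  have e1 : (fun n => MvPolynomial.map (Int.castRingHom ℚ) (esymm σ ℤ n)) =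
      fun j => esymm σ ℚ j := funext fun n => MvPolynomial.map_esymm σ ℤ n _
  have e2 : (fun n => MvPolynomial.map (Int.castRingHom ℚ) (psum σ ℤ n)) =
      fun k => psum σ ℚ k := funext fun n => by simp [psum]
  rw [e1, e2] at h
  exact h

/-- Newton polynomials in `d` variables with rational coefficients. -/
noncomputable def nuQ (d k : ℕ) : MvPolynomial (Fin d) ℚ :=
  evZ (fun i : ℕ => if h : i < d then (X ⟨i, h⟩ : MvPolynomial (Fin d) ℚ) else 0) (nu k)

theorem aeval_nuQ {B : Type*} [CommRing B] [Algebra ℚ B] (d k : ℕ) (c : Fin d → B) :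
    aeval c (nuQ d k) = evZ (fun i : ℕ => if h : i < d then c ⟨i, h⟩ else 0) (nu k) := by
  rw [nuQ]
  have := map_evZ (aeval c : MvPolynomial (Fin d) ℚ →ₐ[ℚ] B).toRingHom
    (fun i : ℕ => if h : i < d then (X ⟨i, h⟩ : MvPolynomial (Fin d) ℚ) else 0) (nu k)
  rw [AlgHom.toRingHom_eq_coe, RingHom.coe_coe] at this
  have hfun : (fun i : ℕ => aeval c (if h : i < d then (X ⟨i, h⟩ : MvPolynomial (Fin d) ℚ) else 0)) =
      fun i : ℕ => if h : i < d then c ⟨i, h⟩ else 0 := by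
    funext i
    split_ifs <;> simp
  rw [this, hfun]

theorem esymmAlgEquiv_symm_psum (d k : ℕ) (hk : k + 1 ≤ d) :
    (esymmAlgEquiv (Fin d) ℚ (Fintype.card_fin d)).symm
      ⟨psum (Fin d) ℚ (k + 1), psum_isSymmetric _ _ _⟩ = nuQ d (k + 1) := by
  rw [AlgEquiv.symm_apply_eq]
  apply Subtype.ext
  have h0 : (esymmAlgEquiv (Fin d) ℚ (Fintype.card_fin d)) (nuQ d (k + 1)) =
      esymmAlgHom (Fin d) ℚ d (nuQ d (k + 1)) := rfl
  rw [h0, esymmAlgHom_apply, aeval_nuQ]
  have h : psum (Fin d) ℚ (k + 1) =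
      aeval (fun i => esymm (Fin d) ℚ (i + 1)) (nu (k + 1)) :=
    nu_spec (fun j => esymm (Fin d) ℚ j) (fun k => psum (Fin d) ℚ k) (esymm_zero _ _)
      (NR_esymm_psum_rat _) k
  show psum (Fin d) ℚ (k + 1) = _
  rw [h, aeval_eq_evZ]
  apply evZ_nu_congr
  intro i hi
  rw [dif_pos (by omega)]

theorem sum_aeval_expTrunc (d : ℕ) :
    ∑ i : Fin d, Polynomial.aeval (MvPolynomial.X i : MvPolynomial (Fin d) ℚ) (expTrunc d) =
      ∑ k ∈ range (d + 1), (1 / (k.factorial : ℚ)) • psum (Fin d) ℚ k := by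
  simp only [expTrunc, map_sum, map_mul, map_pow, Polynomial.aeval_C, Polynomial.aeval_X, psum,
    Finset.smul_sum]
  rw [Finset.sum_comm]
  apply sum_congr rfl
  intro k _
  apply sum_congr rfl
  intro i _
  rw [Algebra.smul_def]

theorem chPoly_eq (d : ℕ) :
    chPoly d = ∑ k ∈ range (d + 1), (1 / (k.factorial : ℚ)) •
      (esymmAlgEquiv (Fin d) ℚ (Fintype.card_fin d)).symm
        ⟨psum (Fin d) ℚ k, psum_isSymmetric _ _ _⟩ := by
  have h : (⟨∑ i : Fin d, Polynomial.aeval (MvPolynomial.X i) (expTrunc d),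
      isSymmetric_sum_aeval d (expTrunc d)⟩ : symmetricSubalgebra (Fin d) ℚ) =
      ∑ k ∈ range (d + 1), (1 / (k.factorial : ℚ)) •
        (⟨psum (Fin d) ℚ k, psum_isSymmetric _ _ _⟩ : symmetricSubalgebra (Fin d) ℚ) := by
    apply Subtype.ext
    show (∑ i : Fin d, Polynomial.aeval (MvPolynomial.X i : MvPolynomial (Fin d) ℚ) (expTrunc d)) = _
    rw [sum_aeval_expTrunc]
    simp
  rw [chPoly, h, map_sum]
  apply sum_congr rfl
  intro k _
  rw [map_smul]

theorem aeval_chPoly {B : Type*} [CommRing B] [Algebra ℚ B] (d : ℕ) (c : Fin d → B) :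
    aeval c (chPoly d) = (d : B) + ∑ k ∈ range d, (1 / ((k + 1).factorial : ℚ)) •
      evZ (fun i : ℕ => if h : i < d then c ⟨i, h⟩ else 0) (nu (k + 1)) := by
  rw [chPoly_eq, map_sum, Finset.sum_range_succ', add_comm]
  congr 1
  · have h0 : (⟨psum (Fin d) ℚ 0, psum_isSymmetric _ _ _⟩ : symmetricSubalgebra (Fin d) ℚ) =
        ((d : ℕ) : symmetricSubalgebra (Fin d) ℚ) := by
      apply Subtype.ext
      simp [psum_zero]
    rw [h0, map_natCast]
    simp
  · apply sum_congr rfl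
    intro k hk
    rw [mem_range] at hk
    rw [map_smul, esymmAlgEquiv_symm_psum d k (by omega), aeval_nuQ]

end Poly

variable {K : Type v} [CommRing K] [LambdaOps K] (P : PosStructure K)

/-- constructor of ring homomorphisms between commutative rings (its type only mentions the
`CommRing` instances). -/
def mkRingHom {A B : Type*} [CommRing A] [CommRing B] (f : A → B) (h1 : f 1 = 1)
    (hmul : ∀ a b, f (a * b) = f a * f b) (h0 : f 0 = 0)
    (hadd : ∀ a b, f (a + b) = f a + f b) : A →+* B :=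
  { toFun := f, map_one' := h1, map_mul' := hmul, map_zero' := h0, map_add' := hadd }

/-- `z ↦ 1 ⊗ z`. -/
noncomputable def inclGr :=
  mkRingHom (A := GrZ P) (B := Gr P) (fun z => (1 : ℚ) ⊗ₜ[ℤ] z)
    Algebra.TensorProduct.one_def.symm
    (fun a b => by rw [Algebra.TensorProduct.tmul_mul_tmul, one_mul])
    (TensorProduct.tmul_zero _ _) (fun a b => TensorProduct.tmul_add _ _ _)

theorem inclGr_apply (z : GrZ P) : inclGr P z = (1 : ℚ) ⊗ₜ[ℤ] z := rfl

theorem gamma_rees_mem (i : ℕ) (y : K) (hy : P.aug y = 0) :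
    C (gamma (i + 1) y) * T (-(((i + 1 : ℕ)) : ℤ)) ∈ rees P :=
  rees_mem P (i + 1) _ (gamma_mem_gammaFiltration P (i + 1) y hy)

theorem pK_rees_mem (k : ℕ) (y : K) (hy : P.aug y = 0) :
    C (pK P k y) * T (-(k : ℤ)) ∈ rees P := by
  rcases k with _ | k
  · rw [pK_zero]; exact rees_mem_zero P _
  · rw [pK_succ_eq_evZ]
    obtain ⟨h, _⟩ := evZ_cls_nu P (fun i => gamma (i + 1) y)
      (fun i => gamma_rees_mem P i y hy) (k + 1)
    exact h

theorem pK_mem_of_aug (k : ℕ) (y : K) (hy : P.aug y = 0) : pK P k y ∈ gammaFiltration P k :=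
  mem_of_mem_rees P k _ (pK_rees_mem P k y hy)

theorem chern_eq (i : ℕ) (x : K) :
    chern P (i + 1) x = inclGr P (cls P ((i + 1 : ℕ) : ℤ) (gamma (i + 1) (x - (P.aug x : K)))
      (gamma_rees_mem P i _ (aug_sub_aug P x))) := by
  rw [chern, inclGr_apply]
  exact grK_eq P _ _ _

/-- the Chern character through Adams operations. -/
theorem chK_eq (d : ℕ) (x : K) :
    chK P d x = algebraMap ℚ (Gr P) (P.aug x : ℚ) +
      ∑ k ∈ range d, (1 / ((k + 1).factorial : ℚ)) ⊗ₜ[ℤ]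
        cls P ((k + 1 : ℕ) : ℤ) (pK P (k + 1) (x - (P.aug x : K)))
          (pK_rees_mem P (k + 1) _ (aug_sub_aug P x)) := by
  have h0 := aeval_chPoly (B := Gr P) d (fun i : Fin d => chern P (i.1 + 1) x)
  rw [chK]
  refine (congrArg (fun z => algebraMap ℚ (Gr P) ((P.aug x : ℚ) - d) + z) h0).trans ?_
  beta_reduce
  rw [map_sub (algebraMap ℚ (Gr P)), map_natCast (algebraMap ℚ (Gr P)),
    show ∀ a b c : Gr P, a - b + (b + c) = a + c from fun a b c => by ring]
  congr 1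
  apply sum_congr rfl
  intro k hk
  rw [mem_range] at hk
  rw [evZ_nu_congr _ (fun i : ℕ => inclGr P (cls P ((i + 1 : ℕ) : ℤ)
    (gamma (i + 1) (x - (P.aug x : K))) (gamma_rees_mem P i _ (aug_sub_aug P x)))) (k + 1)
    (fun i hi => by rw [dif_pos (by omega : i < d)]; exact chern_eq P i x)]
  rw [← map_evZ (inclGr P) (fun i : ℕ => cls P ((i + 1 : ℕ) : ℤ)
    (gamma (i + 1) (x - (P.aug x : K))) (gamma_rees_mem P i _ (aug_sub_aug P x))) (nu (k + 1))]
  obtain ⟨h, he⟩ := evZ_cls_nu P (fun i => gamma (i + 1) (x - (P.aug x : K)))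
    (fun i => gamma_rees_mem P i _ (aug_sub_aug P x)) (k + 1)
  rw [he, inclGr_apply, TensorProduct.smul_tmul', smul_eq_mul, mul_one]
  congr 1
  exact cls_congr P rfl (pK_succ_eq_evZ P _ k).symm _ _

theorem chK_eq_of_aug_zero (d : ℕ) (x : K) (hx : P.aug x = 0) :
    chK P d x = ∑ k ∈ range d, (1 / ((k + 1).factorial : ℚ)) ⊗ₜ[ℤ]
        cls P ((k + 1 : ℕ) : ℤ) (pK P (k + 1) x) (pK_rees_mem P (k + 1) x hx) := by
  have e : x - ((P.aug x : ℤ) : K) = x := by rw [hx]; simp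
  have e0 : algebraMap ℚ (Gr P) ((P.aug x : ℤ) : ℚ) = 0 := by rw [hx]; simp
  rw [chK_eq, e0, zero_add]
  apply sum_congr rfl
  intro k _
  congr 1
  apply cls_congr P rfl
  rw [e]

theorem chK_add (d : ℕ) (x x' : K) : chK P d (x + x') = chK P d x + chK P d x' := by
  rw [chK_eq, chK_eq, chK_eq]
  have e : (x + x') - ((P.aug (x + x') : ℤ) : K) =
      (x - (P.aug x : K)) + (x' - (P.aug x' : K)) := by
    rw [map_add]; push_cast; ring
  have hterm : ∀ k ∈ range d, (1 / ((k + 1).factorial : ℚ)) ⊗ₜ[ℤ]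
        cls P ((k + 1 : ℕ) : ℤ) (pK P (k + 1) ((x + x') - ((P.aug (x + x') : ℤ) : K)))
          (pK_rees_mem P (k + 1) _ (aug_sub_aug P _)) =
      (1 / ((k + 1).factorial : ℚ)) ⊗ₜ[ℤ]
        cls P ((k + 1 : ℕ) : ℤ) (pK P (k + 1) (x - (P.aug x : K)))
          (pK_rees_mem P (k + 1) _ (aug_sub_aug P _)) +
      (1 / ((k + 1).factorial : ℚ)) ⊗ₜ[ℤ]
        cls P ((k + 1 : ℕ) : ℤ) (pK P (k + 1) (x' - (P.aug x' : K)))
          (pK_rees_mem P (k + 1) _ (aug_sub_aug P _)) := by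
    intro k _
    rw [← TensorProduct.tmul_add, ← cls_add]
    congr 1
    apply cls_congr P rfl
    rw [e, pK_add]
  have e1 : algebraMap ℚ (Gr P) ((P.aug (x + x') : ℤ) : ℚ) =
      algebraMap ℚ (Gr P) ((P.aug x : ℤ) : ℚ) + algebraMap ℚ (Gr P) ((P.aug x' : ℤ) : ℚ) := by
    rw [RingHom.map_add P.aug, Int.cast_add]
    exact RingHom.map_add _ _ _
  rw [sum_congr rfl hterm, sum_add_distrib, e1]
  abel

/-- the Chern character as an additive map. -/
noncomputable def chHom (d : ℕ) : K →+ Gr P := AddMonoidHom.mk' (chK P d) (chK_add P d)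

theorem chHom_apply (d : ℕ) (x : K) : chHom P d x = chK P d x := rfl

end Groth.Agent.Lib.Helper16.Chern
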